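import Groth.Agent.Lib.Helper10WeilProj

/-!
# Weil cohomology: correspondences as graded homomorphisms
-/

universe u v w

open AlgebraicGeometry CategoryTheory CategoryTheory.Limits

namespace Groth.Agent.Lib.Helper10.WeilPt

section Corr

variable {k : Type u} [Field k] [IsAlgClosed k] {K : Type v} [Field K] [CharZero K]
  (T : WeilCoh.Theory k K)

variable {X Y P : WeilCoh.Var k} (p : P ⟶ X) (q : P ⟶ Y) (hP : WeilCoh.IsProd p q)

include hP in
/-- Injectivity core: a homogeneous class on a product is determined by the traces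
`tr (p^*x * φ * q^*y)` for homogeneous `x`, `y`. -/
lemma eq_of_forall_tr_pull_mul (d : ℤ) (φ φ' : T.H P) (hφ : φ ∈ T.gr P d) (hφ' : φ' ∈ T.gr P d)
    (h : ∀ (s : ℤ) (x : T.H X), x ∈ T.gr X s → ∀ (t : ℤ) (y : T.H Y), y ∈ T.gr Y t →
      T.tr P (T.pull p x * φ * T.pull q y) = T.tr P (T.pull p x * φ' * T.pull q y)) :
    φ = φ' := by
  apply eq_of_forall_tr_mul T P
  intro a
  obtain ⟨w, rfl⟩ := (T.kunneth p q hP).2 a
  induction w using TensorProduct.induction_on with
  | zero => simp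
  | tmul x y =>
    change T.tr P (φ * (T.pull p x * T.pull q y)) = T.tr P (φ' * (T.pull p x * T.pull q y))
    refine Submodule.iSup_induction (T.gr X) (motive := fun x => ∀ y,
      T.tr P (φ * (T.pull p x * T.pull q y)) = T.tr P (φ' * (T.pull p x * T.pull q y)))
      (mem_iSup_gr T X x) ?_ ?_ ?_ y
    · intro s x hx y
      refine Submodule.iSup_induction (T.gr Y) (motive := fun y =>
        T.tr P (φ * (T.pull p x * T.pull q y)) = T.tr P (φ' * (T.pull p x * T.pull q y)))
        (mem_iSup_gr T Y y) ?_ ?_ ?_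
      · intro t y hy
        have h1 := T.gradedComm P d s φ (T.pull p x) hφ (T.pull_mem p _ _ hx)
        have h2 := T.gradedComm P d s φ' (T.pull p x) hφ' (T.pull_mem p _ _ hx)
        rw [← mul_assoc, ← mul_assoc, h1, h2, smul_mul_assoc, smul_mul_assoc, map_smul, map_smul,
          h s x hx t y hy]
      · simp
      · intro a b ha hb
        simp only [map_add, mul_add]
        rw [ha, hb]
    · intro y; simp
    · intro a b ha hb y
      simp only [map_add, add_mul, mul_add]
      rw [ha y, hb y]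
  | add a b ha hb =>
    rw [map_add, mul_add, map_add, ha, hb, mul_add, map_add]

variable (ι : ℕ → Type) [∀ r, Fintype (ι r)] [∀ r, DecidableEq (ι r)]
  (e : (r : ℕ) → Module.Basis (ι r) K ↥(T.gr X (r : ℤ)))
  (f : (r : ℕ) → ι r → ↥(T.gr X (2 * (WeilCoh.dim X.obj.left : ℤ) - r)))
  (hef : ∀ r, r ≤ 2 * WeilCoh.dim X.obj.left → ∀ i l : ι r,
    T.tr X ((f r l : T.H X) * (e r i : T.H X)) = if i = l then 1 else 0)

include hef in
/-- dual basis expansion of a linear functional -/
lemma sum_dual (r : ℕ) (hr : r ≤ 2 * WeilCoh.dim X.obj.left) (Λ : ↥(T.gr X (r : ℤ)) →ₗ[K] K)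
    (v : T.H X) (hv : v ∈ T.gr X (r : ℤ)) :
    ∑ l : ι r, T.tr X ((f r l : T.H X) * v) * Λ (e r l) = Λ ⟨v, hv⟩ := by
  simp_rw [tr_dual_mul T ι e f hef r hr _ v hv]
  conv_rhs => rw [← (e r).sum_repr ⟨v, hv⟩]
  rw [map_sum]
  refine Finset.sum_congr rfl fun l _ => ?_
  rw [map_smul, smul_eq_mul]

/-- the class on the product attached to a family of classes on `Y` -/
noncomputable def corrClass (y : (r : ℕ) → ι r → T.H Y) : T.H P :=
  ∑ r ∈ Finset.range (2 * WeilCoh.dim X.obj.left + 1), ∑ l : ι r,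
    (-1 : K) ^ r • (T.pull p (f r l : T.H X) * T.pull q (y r l))

lemma corrClass_mem (y : (r : ℕ) → ι r → T.H Y) (d : ℤ)
    (hy : ∀ (r : ℕ) (l : ι r), y r l ∈ T.gr Y (d - (2 * (WeilCoh.dim X.obj.left : ℤ) - (r : ℤ)))) :
    corrClass T p q ι f y ∈ T.gr P d := by
  unfold corrClass
  refine Submodule.sum_mem _ fun r _ => Submodule.sum_mem _ fun l _ => Submodule.smul_mem _ _ ?_
  have := SetLike.mul_mem_graded (T.pull_mem p _ _ (f r l).2) (T.pull_mem q _ _ (hy r l))
  have e1 : 2 * (WeilCoh.dim X.obj.left : ℤ) - r + (d - (2 * (WeilCoh.dim X.obj.left : ℤ) - r)) = d := by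
    ring
  rwa [e1] at this

include hP hef in
/-- the traces computing the action of `corrClass` -/
lemma tr_corrClass (y : (r : ℕ) → ι r → T.H Y) (s : ℕ) (hs : s ≤ 2 * WeilCoh.dim X.obj.left)
    (x : T.H X) (hx : x ∈ T.gr X (s : ℤ)) (b : T.H Y) :
    T.tr P (T.pull p x * corrClass T p q ι f y * T.pull q b) =
      ∑ l : ι s, (e s).repr ⟨x, hx⟩ l * T.tr Y (y s l * b) := by
  unfold corrClass
  rw [Finset.mul_sum, Finset.sum_mul, map_sum]
  have hterm : ∀ (r : ℕ) (l : ι r),
      T.tr P (T.pull p x * ((-1 : K) ^ r • (T.pull p (f r l : T.H X) * T.pull q (y r l))) *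
        T.pull q b) = (-1 : K) ^ r * (T.tr X (x * (f r l : T.H X)) * T.tr Y (y r l * b)) := by
    intro r l
    have : T.pull p x * ((-1 : K) ^ r • (T.pull p (f r l : T.H X) * T.pull q (y r l))) *
        T.pull q b = (-1 : K) ^ r • (T.pull p (x * (f r l : T.H X)) * T.pull q (y r l * b)) := by
      rw [map_mul, map_mul, mul_smul_comm, smul_mul_assoc]
      simp only [mul_assoc]
    rw [this, map_smul, smul_eq_mul, tr_prod_all T p q hP]
  rw [Finset.sum_eq_single s]
  · rw [Finset.mul_sum, Finset.sum_mul, map_sum]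
    refine Finset.sum_congr rfl fun l _ => ?_
    rw [hterm, T.gradedComm X s (2 * (WeilCoh.dim X.obj.left : ℤ) - s) x _ hx (f s l).2, map_smul,
      smul_eq_mul, tr_dual_mul T ι e f hef s hs l x hx]
    have e1 : (2 * (WeilCoh.dim X.obj.left : ℤ) - (s : ℤ)).natAbs =
        2 * WeilCoh.dim X.obj.left - s := by omega
    have e2 : (-1 : K) ^ (s * (2 * WeilCoh.dim X.obj.left - s)) = (-1 : K) ^ s := by
      have := neg_one_pow_congr (K := K) (m := s) (t := 2 * WeilCoh.dim X.obj.left - s)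
        (N := WeilCoh.dim X.obj.left) (by omega)
      rw [← this]
      rcases Nat.even_or_odd s with h | h
      · rw [Even.neg_one_pow (h.mul_right s), Even.neg_one_pow h]
      · rw [Odd.neg_one_pow (h.mul h), Odd.neg_one_pow h]
    rw [Int.natAbs_natCast, e1, e2, ← mul_assoc, ← mul_assoc, ← pow_add, Even.neg_one_pow ⟨s, rfl⟩,
      one_mul]
  · intro r _ hr
    rw [Finset.mul_sum, Finset.sum_mul, map_sum]
    refine Finset.sum_eq_zero fun l _ => ?_
    rw [hterm, T.tr_vanish X ((s : ℤ) + (2 * (WeilCoh.dim X.obj.left : ℤ) - r)) _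
      (SetLike.mul_mem_graded hx (f r l).2) (by omega), zero_mul, mul_zero]
  · intro h
    exact absurd (Finset.mem_range.mpr (by omega)) h

end Corr

section Bij

variable {k : Type u} [Field k] [IsAlgClosed k] {K : Type v} [Field K] [CharZero K]
  (T : WeilCoh.Theory k K)

/-- the action of a class on a product as a correspondence, in terms of traces -/
lemma tr_action {X Y P : WeilCoh.Var k} (p : P ⟶ X) (q : P ⟶ Y) (d i : ℤ)
    (φ : T.H P) (hφ : φ ∈ T.gr P d) (x : T.gr X i) (b : T.H Y)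
    (hb : b ∈ T.gr Y (2 * (WeilCoh.dim P.obj.left : ℤ) - (i + d))) :
    T.tr Y ((T.push q (i + d) ⟨T.pull p (x : T.H X) * φ,
      SetLike.mul_mem_graded (T.pull_mem p i x x.2) hφ⟩ : T.H Y) * b) =
      T.tr P (T.pull p (x : T.H X) * φ * T.pull q b) :=
  tr_push_mul T q (i + d) _ b hb

/-- S19871. -/
theorem bijective_action (X Y P : WeilCoh.Var k) (p : P ⟶ X) (q : P ⟶ Y)
    (hP : WeilCoh.IsProd p q)
    (hdim : WeilCoh.dim P.obj.left = WeilCoh.dim X.obj.left + WeilCoh.dim Y.obj.left) (r : ℤ) :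
    Function.Bijective (fun φ : ↥(T.gr P (2 * (WeilCoh.dim X.obj.left : ℤ) + r)) => fun i : ℤ =>
      (T.push q (i + (2 * (WeilCoh.dim X.obj.left : ℤ) + r))) ∘ₗ
        ((LinearMap.mulRight K (φ : T.H P)).restrict (p := T.gr P i)
          (q := T.gr P (i + (2 * (WeilCoh.dim X.obj.left : ℤ) + r)))
          (fun x hx => SetLike.mul_mem_graded hx φ.2)) ∘ₗ
        (T.pullDeg p i)) := by
  constructor
  · intro φ φ' h
    apply Subtype.ext
    apply eq_of_forall_tr_pull_mul T p q hP (2 * (WeilCoh.dim X.obj.left : ℤ) + r) _ _ φ.2 φ'.2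
    intro s x hx t y hy
    by_cases ht : t = 2 * (WeilCoh.dim P.obj.left : ℤ) - (s + (2 * (WeilCoh.dim X.obj.left : ℤ) + r))
    · subst ht
      have h1 := LinearMap.congr_fun (congrFun h s) ⟨x, hx⟩
      have h2 := tr_action T p q _ s (φ : T.H P) φ.2 ⟨x, hx⟩ y hy
      have h3 := tr_action T p q _ s (φ' : T.H P) φ'.2 ⟨x, hx⟩ y hy
      rw [← h2, ← h3]
      exact congrArg (fun z : T.gr Y _ => T.tr Y ((z : T.H Y) * y)) h1
    · have hm := SetLike.mul_mem_graded (SetLike.mul_mem_graded (T.pull_mem p _ _ hx) φ.2)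
        (T.pull_mem q _ _ hy)
      have hm' := SetLike.mul_mem_graded (SetLike.mul_mem_graded (T.pull_mem p _ _ hx) φ'.2)
        (T.pull_mem q _ _ hy)
      rw [T.tr_vanish P _ _ hm (by omega), T.tr_vanish P _ _ hm' (by omega)]
  · intro g
    obtain ⟨ι, _, _, e, f, hef⟩ := exists_dual_family T X
    set y : (s : ℕ) → ι s → T.H Y := fun s l => (g (s : ℤ) (e s l) : T.H Y) with hy
    have hmem : corrClass T p q ι f y ∈ T.gr P (2 * (WeilCoh.dim X.obj.left : ℤ) + r) := by
      apply corrClass_mem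
      intro s l
      have h1 := (g (s : ℤ) (e s l)).2
      have e1 : (s : ℤ) + (2 * (WeilCoh.dim X.obj.left : ℤ) + r) + 2 * (WeilCoh.dim Y.obj.left : ℤ) -
          2 * (WeilCoh.dim P.obj.left : ℤ) =
          2 * (WeilCoh.dim X.obj.left : ℤ) + r - (2 * (WeilCoh.dim X.obj.left : ℤ) - s) := by
        rw [hdim]; push_cast; ring
      rw [← e1]
      exact h1
    refine ⟨⟨_, hmem⟩, ?_⟩
    funext i
    apply LinearMap.ext
    intro x
    refine push_eq_of_forall T q (i + (2 * (WeilCoh.dim X.obj.left : ℤ) + r))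
      ⟨T.pull p (x : T.H X) * corrClass T p q ι f y,
        SetLike.mul_mem_graded (T.pull_mem p i x x.2) hmem⟩ (g i x) ?_
    intro b _
    change T.tr Y ((g i x : T.H Y) * b) = T.tr P (T.pull p (x : T.H X) * corrClass T p q ι f y *
      T.pull q b)
    by_cases hi : ∃ s : ℕ, i = (s : ℤ) ∧ s ≤ 2 * WeilCoh.dim X.obj.left
    · obtain ⟨s, rfl, hs⟩ := hi
      rw [tr_corrClass T p q hP ι e f hef y s hs (x : T.H X) x.2 b]
      conv_lhs => rw [← (e s).sum_repr x]
      rw [map_sum, Submodule.coe_sum, Finset.sum_mul, map_sum]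
      refine Finset.sum_congr rfl fun l _ => ?_
      rw [map_smul, Submodule.coe_smul, smul_mul_assoc, map_smul, smul_eq_mul]
    · have hx : (x : T.H X) = 0 := by
        apply eq_zero_of_mem_of_lt T _ i x.2
        by_contra hcon
        push Not at hcon
        exact hi ⟨i.toNat, by omega, by omega⟩
      have hx' : x = 0 := Subtype.ext hx
      subst hx'
      simp

end Bij

end Groth.Agent.Lib.Helper10.WeilPt
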