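import Groth.Agent.Lib.Helper10WeilCorr

/-!
# Weil cohomology: the Lefschetz trace formula for correspondences
-/

universe u v w

open AlgebraicGeometry CategoryTheory CategoryTheory.Limits

namespace Groth.Agent.Lib.Helper10.WeilPt

section Swap

variable {k : Type u} [Field k] [IsAlgClosed k] {K : Type v} [Field K] [CharZero K]
  (T : WeilCoh.Theory k K)

/-- the trace is invariant under the swap of the factors of a product -/
lemma tr_pull_swap {X Y P P' : WeilCoh.Var k} (p : P ⟶ X) (q : P ⟶ Y) (hP : WeilCoh.IsProd p q)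
    (p' : P' ⟶ Y) (q' : P' ⟶ X) (hP' : WeilCoh.IsProd p' q')
    (σ : P ⟶ P') (hσ₁ : σ ≫ p' = q) (hσ₂ : σ ≫ q' = p) (a : T.H P') :
    T.tr P (T.pull σ a) = T.tr P' a := by
  obtain ⟨w, rfl⟩ := (T.kunneth p' q' hP').2 a
  induction w using TensorProduct.induction_on with
  | zero => simp
  | tmul B A =>
    change T.tr P (T.pull σ (T.pull p' B * T.pull q' A)) = T.tr P' (T.pull p' B * T.pull q' A)
    rw [tr_prod_all T p' q' hP', map_mul, pull_pull, pull_pull, hσ₁, hσ₂]
    refine Submodule.iSup_induction (T.gr X) (motive := fun A => ∀ B,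
      T.tr P (T.pull q B * T.pull p A) = T.tr Y B * T.tr X A) (mem_iSup_gr T X A) ?_ ?_ ?_ B
    · intro α A hA B
      refine Submodule.iSup_induction (T.gr Y) (motive := fun B =>
        T.tr P (T.pull q B * T.pull p A) = T.tr Y B * T.tr X A) (mem_iSup_gr T Y B) ?_ ?_ ?_
      · intro β B hB
        by_cases hα : α = 2 * (WeilCoh.dim X.obj.left : ℤ)
        · subst hα
          rw [← mul_comm_of_even T P _ _ (T.pull_mem p _ _ hA), tr_prod_all T p q hP, mul_comm]
        · rw [T.tr_vanish X α A hA hα, mul_zero,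
            T.gradedComm P β α _ _ (T.pull_mem q _ _ hB) (T.pull_mem p _ _ hA), map_smul,
            tr_prod_all T p q hP, T.tr_vanish X α A hA hα, zero_mul, smul_zero]
      · simp
      · intro x y hx hy
        rw [map_add, add_mul, map_add, hx, hy, map_add, add_mul]
    · intro B; simp
    · intro x y hx hy B
      rw [map_add, mul_add, map_add, hx B, hy B, map_add, mul_add]
  | add a b ha hb =>
    rw [map_add, map_add, map_add, ha, hb, map_add]

end Swap

section Action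

variable {k : Type u} [Field k] [IsAlgClosed k] {K : Type v} [Field K] [CharZero K]
  (T : WeilCoh.Theory k K)

variable {X Y P : WeilCoh.Var k} (p : P ⟶ X) (q : P ⟶ Y) (hP : WeilCoh.IsProd p q)

/-- the action of a homogeneous class on a product as a correspondence -/
noncomputable def action (d : ℤ) (φ : ↥(T.gr P d)) (i : ℤ) :
    ↥(T.gr X i) →ₗ[K] ↥(T.gr Y (i + d + 2 * (WeilCoh.dim Y.obj.left : ℤ) -
      2 * (WeilCoh.dim P.obj.left : ℤ))) :=
  (T.push q (i + d)) ∘ₗ
    ((LinearMap.mulRight K (φ : T.H P)).restrict (p := T.gr P i) (q := T.gr P (i + d))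
      (fun x hx => SetLike.mul_mem_graded hx φ.2)) ∘ₗ (T.pullDeg p i)

lemma tr_action' (d : ℤ) (φ : ↥(T.gr P d)) (i : ℤ) (x : T.gr X i) (b : T.H Y)
    (hb : b ∈ T.gr Y (2 * (WeilCoh.dim P.obj.left : ℤ) - (i + d))) :
    T.tr Y ((action T p q d φ i x : T.H Y) * b) =
      T.tr P (T.pull p (x : T.H X) * (φ : T.H P) * T.pull q b) :=
  tr_action T p q d i (φ : T.H P) φ.2 x b hb

variable (ι : ℕ → Type) [∀ r, Fintype (ι r)] [∀ r, DecidableEq (ι r)]
  (e : (r : ℕ) → Module.Basis (ι r) K ↥(T.gr X (r : ℤ)))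
  (f : (r : ℕ) → ι r → ↥(T.gr X (2 * (WeilCoh.dim X.obj.left : ℤ) - r)))
  (hef : ∀ r, r ≤ 2 * WeilCoh.dim X.obj.left → ∀ i l : ι r,
    T.tr X ((f r l : T.H X) * (e r i : T.H X)) = if i = l then 1 else 0)

include hP hef in
/-- Künneth expansion of a homogeneous class on a product in terms of its action -/
lemma eq_corrClass (d : ℤ) (φ : ↥(T.gr P d)) :
    (φ : T.H P) =
      corrClass T p q ι f (fun s l => (action T p q d φ (s : ℤ) (e s l) : T.H Y)) := by
  have hd := dim_prod p q hP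
  have hmem : corrClass T p q ι f (fun s l => (action T p q d φ (s : ℤ) (e s l) : T.H Y)) ∈
      T.gr P d := by
    apply corrClass_mem
    intro s l
    have h1 := (action T p q d φ (s : ℤ) (e s l)).2
    have e1 : (s : ℤ) + d + 2 * (WeilCoh.dim Y.obj.left : ℤ) - 2 * (WeilCoh.dim P.obj.left : ℤ) =
        d - (2 * (WeilCoh.dim X.obj.left : ℤ) - s) := by
      rw [hd]; push_cast; ring
    rw [← e1]
    exact h1
  apply eq_of_forall_tr_pull_mul T p q hP d _ _ φ.2 hmem
  intro s x hx t y hy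
  by_cases hs : ∃ s' : ℕ, s = (s' : ℤ) ∧ s' ≤ 2 * WeilCoh.dim X.obj.left
  · obtain ⟨s', rfl, hs'⟩ := hs
    rw [tr_corrClass T p q hP ι e f hef _ s' hs' x hx y]
    by_cases ht : t = 2 * (WeilCoh.dim P.obj.left : ℤ) - ((s' : ℤ) + d)
    · subst ht
      simp_rw [tr_action' T p q d φ (s' : ℤ) _ y hy]
      have hx' : x = ∑ l : ι s', ((e s').repr ⟨x, hx⟩ l) • ((e s' l : T.gr X (s' : ℤ)) : T.H X) := by
        have := (e s').sum_repr ⟨x, hx⟩
        have h2 := congrArg (fun w : T.gr X (s' : ℤ) => (w : T.H X)) this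
        simp only [Submodule.coe_sum, Submodule.coe_smul] at h2
        exact h2.symm
      conv_lhs => rw [hx']
      rw [map_sum, Finset.sum_mul, Finset.sum_mul, map_sum]
      refine Finset.sum_congr rfl fun l _ => ?_
      rw [map_smul, smul_mul_assoc, smul_mul_assoc, map_smul, smul_eq_mul]
    · have hm := SetLike.mul_mem_graded (SetLike.mul_mem_graded (T.pull_mem p _ _ hx) φ.2)
        (T.pull_mem q _ _ hy)
      rw [T.tr_vanish P _ _ hm (by omega)]
      symm
      refine Finset.sum_eq_zero fun l _ => ?_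
      rw [T.tr_vanish Y _ _ (SetLike.mul_mem_graded (action T p q d φ (s' : ℤ) (e s' l)).2 hy)
        (by omega), mul_zero]
  · have hx0 : x = 0 := by
      apply eq_zero_of_mem_of_lt T _ s hx
      by_contra hcon
      push Not at hcon
      exact hs ⟨s.toNat, by omega, by omega⟩
    subst hx0
    simp

end Action

section Lef

lemma odd_two_mul_sub {N s : ℕ} (hs : s ≤ 2 * N) (h : Odd s) : Odd (2 * N - s) := by
  obtain ⟨c, rfl⟩ := h
  exact ⟨N - c - 1, by omega⟩

lemma even_two_mul_sub {N s : ℕ} (h : Even s) : Even (2 * N - s) := by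
  obtain ⟨c, rfl⟩ := h
  exact ⟨N - c, by omega⟩

variable {k : Type u} [Field k] [IsAlgClosed k] {K : Type v} [Field K] [CharZero K]
  (T : WeilCoh.Theory k K)

/-- S15748, in terms of `action`. -/
theorem lefschetz_corr (X Y P P' : WeilCoh.Var k)
    (p : P ⟶ X) (q : P ⟶ Y) (hP : WeilCoh.IsProd p q)
    (p' : P' ⟶ Y) (q' : P' ⟶ X) (hP' : WeilCoh.IsProd p' q')
    (σ : P ⟶ P') (hσ₁ : σ ≫ p' = q) (hσ₂ : σ ≫ q' = p) (r : ℤ)
    (hdim : ∀ i : ℤ, ((i + (2 * (WeilCoh.dim X.obj.left : ℤ) + r) + 2 * (WeilCoh.dim Y.obj.left : ℤ) - 2 * (WeilCoh.dim P.obj.left : ℤ)) + (2 * (WeilCoh.dim Y.obj.left : ℤ) - r) + 2 * (WeilCoh.dim X.obj.left : ℤ) - 2 * (WeilCoh.dim P'.obj.left : ℤ)) = i)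
    (φ : ↥(T.gr P (2 * (WeilCoh.dim X.obj.left : ℤ) + r)))
    (ψ : ↥(T.gr P' (2 * (WeilCoh.dim Y.obj.left : ℤ) - r))) :
    T.tr P ((φ : T.H P) * T.pull σ (ψ : T.H P')) =
      ∑ i ∈ Finset.range (2 * WeilCoh.dim X.obj.left + 1),
        (-1 : K) ^ i * LinearMap.trace K ↥(T.gr X (i : ℤ))
          ((LinearEquiv.ofEq _ (T.gr X (i : ℤ)) (congrArg (T.gr X) (hdim (i : ℤ)))).toLinearMap ∘ₗ
            (action T p' q' (2 * (WeilCoh.dim Y.obj.left : ℤ) - r) ψ
              ((i : ℤ) + (2 * (WeilCoh.dim X.obj.left : ℤ) + r) +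
                2 * (WeilCoh.dim Y.obj.left : ℤ) - 2 * (WeilCoh.dim P.obj.left : ℤ))) ∘ₗ
            (action T p q (2 * (WeilCoh.dim X.obj.left : ℤ) + r) φ (i : ℤ))) := by
  obtain ⟨ι, _, _, e, f, hef⟩ := exists_dual_family T X
  have hd := dim_prod p q hP
  have hd' := dim_prod p' q' hP'
  set y : (s : ℕ) → ι s → T.gr Y ((s : ℤ) + (2 * (WeilCoh.dim X.obj.left : ℤ) + r) +
      2 * (WeilCoh.dim Y.obj.left : ℤ) - 2 * (WeilCoh.dim P.obj.left : ℤ)) :=
    fun s l => action T p q (2 * (WeilCoh.dim X.obj.left : ℤ) + r) φ (s : ℤ) (e s l) with hy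
  -- the common value of both sides
  have hLHS : T.tr P ((φ : T.H P) * T.pull σ (ψ : T.H P')) =
      ∑ s ∈ Finset.range (2 * WeilCoh.dim X.obj.left + 1), ∑ l : ι s,
        T.tr P' (T.pull p' (y s l : T.H Y) * (ψ : T.H P') * T.pull q' (f s l : T.H X)) := by
    conv_lhs => rw [eq_corrClass T p q hP ι e f hef _ φ]
    unfold corrClass
    rw [Finset.sum_mul, map_sum]
    refine Finset.sum_congr rfl fun s _ => ?_
    rw [Finset.sum_mul, map_sum]
    refine Finset.sum_congr rfl fun l _ => ?_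
    have h1 : T.pull p (f s l : T.H X) * T.pull q (y s l : T.H Y) * T.pull σ (ψ : T.H P') =
        T.pull σ (T.pull q' (f s l : T.H X) * (T.pull p' (y s l : T.H Y) * (ψ : T.H P'))) := by
      rw [map_mul, map_mul, pull_pull, pull_pull, hσ₁, hσ₂, mul_assoc]
    rw [smul_mul_assoc, map_smul, smul_eq_mul]
    change (-1 : K) ^ s * T.tr P (T.pull p (f s l : T.H X) * T.pull q (y s l : T.H Y) *
      T.pull σ (ψ : T.H P')) = _
    rw [h1, tr_pull_swap T p q hP p' q' hP' σ hσ₁ hσ₂]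
    have hmem := SetLike.mul_mem_graded (T.pull_mem p' _ _ (y s l).2) ψ.2
    rw [T.gradedComm P' _ _ _ _ (T.pull_mem q' _ _ (f s l).2) hmem, map_smul, smul_eq_mul,
      ← mul_assoc]
    have e1 : (2 * (WeilCoh.dim X.obj.left : ℤ) - (s : ℤ)).natAbs *
        ((s : ℤ) + (2 * (WeilCoh.dim X.obj.left : ℤ) + r) + 2 * (WeilCoh.dim Y.obj.left : ℤ) -
          2 * (WeilCoh.dim P.obj.left : ℤ) + (2 * (WeilCoh.dim Y.obj.left : ℤ) - r)).natAbs =
        (2 * WeilCoh.dim X.obj.left - s) * (s + 2 * WeilCoh.dim Y.obj.left) := by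
      have hs : s ≤ 2 * WeilCoh.dim X.obj.left := by
        have := Finset.mem_range.mp ‹_›; omega
      congr 1
      · omega
      · rw [hd]; push_cast; omega
    rw [e1]
    have hs : s ≤ 2 * WeilCoh.dim X.obj.left := by
      have := Finset.mem_range.mp ‹_›; omega
    have e2 : (-1 : K) ^ s * (-1 : K) ^ ((2 * WeilCoh.dim X.obj.left - s) *
        (s + 2 * WeilCoh.dim Y.obj.left)) = 1 := by
      rw [← pow_add]
      apply Even.neg_one_pow
      rcases Nat.even_or_odd s with h | h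
      · refine h.add ?_
        apply Even.mul_right
        exact even_two_mul_sub h
      · refine h.add_odd ?_
        apply Odd.mul
        · exact odd_two_mul_sub hs h
        · exact h.add_even (even_two_mul _)
    rw [e2, one_mul]
  rw [hLHS]
  refine Finset.sum_congr rfl fun s hs => ?_
  have hs' : s ≤ 2 * WeilCoh.dim X.obj.left := by
    have := Finset.mem_range.mp hs; omega
  rw [LinearMap.trace_eq_matrix_trace K (e s), Matrix.trace, Finset.mul_sum]
  refine Finset.sum_congr rfl fun l _ => ?_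
  rw [Matrix.diag_apply, LinearMap.toMatrix_apply]
  set z := action T p' q' (2 * (WeilCoh.dim Y.obj.left : ℤ) - r) ψ _ (y s l) with hz
  have hzmem : (z : T.H X) ∈ T.gr X (s : ℤ) := by
    exact (congrArg (fun d => (z : T.H X) ∈ T.gr X d) (hdim (s : ℤ))).mp z.2
  have h2 : (e s).repr (((LinearEquiv.ofEq _ (T.gr X (s : ℤ))
      (congrArg (T.gr X) (hdim (s : ℤ)))).toLinearMap ∘ₗ
      (action T p' q' (2 * (WeilCoh.dim Y.obj.left : ℤ) - r) ψ
        ((s : ℤ) + (2 * (WeilCoh.dim X.obj.left : ℤ) + r) +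
          2 * (WeilCoh.dim Y.obj.left : ℤ) - 2 * (WeilCoh.dim P.obj.left : ℤ))) ∘ₗ
      (action T p q (2 * (WeilCoh.dim X.obj.left : ℤ) + r) φ (s : ℤ))) (e s l)) l =
      (e s).repr ⟨(z : T.H X), hzmem⟩ l := rfl
  rw [h2, ← tr_dual_mul T ι e f hef s hs' l _ hzmem,
    T.gradedComm X _ _ _ _ (f s l).2 hzmem, map_smul, smul_eq_mul]
  have hb : (f s l : T.H X) ∈ T.gr X (2 * (WeilCoh.dim P'.obj.left : ℤ) -
      ((s : ℤ) + (2 * (WeilCoh.dim X.obj.left : ℤ) + r) +
          2 * (WeilCoh.dim Y.obj.left : ℤ) - 2 * (WeilCoh.dim P.obj.left : ℤ) +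
        (2 * (WeilCoh.dim Y.obj.left : ℤ) - r))) := by
    have := (f s l).2
    have e3 : 2 * (WeilCoh.dim P'.obj.left : ℤ) -
      ((s : ℤ) + (2 * (WeilCoh.dim X.obj.left : ℤ) + r) +
          2 * (WeilCoh.dim Y.obj.left : ℤ) - 2 * (WeilCoh.dim P.obj.left : ℤ) +
        (2 * (WeilCoh.dim Y.obj.left : ℤ) - r)) = 2 * (WeilCoh.dim X.obj.left : ℤ) - s := by
      have := hdim (s : ℤ); omega
    rwa [e3]
  rw [hz, tr_action' T p' q' _ ψ _ (y s l) _ hb]
  have e1 : (2 * (WeilCoh.dim X.obj.left : ℤ) - (s : ℤ)).natAbs = 2 * WeilCoh.dim X.obj.left - s := by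
    omega
  have e2 : (-1 : K) ^ s * (-1 : K) ^ ((2 * WeilCoh.dim X.obj.left - s) * s) = 1 := by
    rw [← pow_add]
    apply Even.neg_one_pow
    rcases Nat.even_or_odd s with h | h
    · exact h.add (h.mul_left _)
    · exact h.add_odd (Odd.mul (odd_two_mul_sub hs' h) h)
  rw [e1, Int.natAbs_natCast, ← mul_assoc, e2, one_mul]

end Lef

end Groth.Agent.Lib.Helper10.WeilPt
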