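import Groth.Agent.Lib.Helper10WeilGraph

/-!
# Weil cohomology: the cycle class map and push-forward of cycles
-/

universe u v w

open AlgebraicGeometry CategoryTheory CategoryTheory.Limits

namespace Groth.Agent.Lib.Helper10.WeilPt

open Groth.Agent.Lib.Helper4.VarDim Groth.Agent.Lib.Helper4.DimFormula

section Proper

variable {k : Type u} [Field k]

instance isProper_var (X : WeilCoh.Var k) : IsProper X.obj.hom := by
  obtain ⟨n, i, hi, hif⟩ := X.property.2.1
  have := Groth.Agent.S9705.isProper_toBase n (Spec (CommRingCat.of k))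
  rw [← hif]
  exact MorphismProperty.comp_mem @IsProper _ _ inferInstance this

instance compactSpace_var (X : WeilCoh.Var k) : CompactSpace X.obj.left :=
  QuasiCompact.compactSpace_of_compactSpace X.obj.hom

lemma finite_support' (X : WeilCoh.Var k) (α : AlgebraicCycle X.obj.left ℤ) :
    (Function.support (⇑α)).Finite := by
  have := α.locallyFiniteSupport.finite_inter_support_of_isCompact isCompact_univ
  rwa [Set.univ_inter] at this

attribute [local instance] overVar

/-- `Spec k` over itself by the identity. -/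
@[reducible] noncomputable def overSelf (k : Type u) [Field k] :
    (Spec (CommRingCat.of k)).Over (Spec (CommRingCat.of k)) := ⟨𝟙 _⟩

lemma trdegNat_Spec_eq_zero (s : Spec (CommRingCat.of k)) :
    @trdegNat k _ (Spec (CommRingCat.of k)) (overSelf k) s = 0 := by
  letI := overSelf k
  haveI : LocallyOfFiniteType ((Spec (CommRingCat.of k)) ↘ Spec (CommRingCat.of k)) :=
    inferInstanceAs (LocallyOfFiniteType (𝟙 (Spec (CommRingCat.of k))))
  have h := topologicalKrullDim_closure_singleton k (Spec (CommRingCat.of k)) s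
  haveI : Subsingleton (Spec (CommRingCat.of k)) := by
    change Subsingleton (PrimeSpectrum k); infer_instance
  have h2 : topologicalKrullDim (closure ({s} : Set (Spec (CommRingCat.of k)))) ≤ 0 :=
    topologicalKrullDim_zero_of_discreteTopology _
  rw [h] at h2
  have : (trdegNat k (Spec (CommRingCat.of k)) s : WithBot ℕ∞) ≤ ((0 : ℕ) : WithBot ℕ∞) := h2
  exact Nat.le_zero.mp (by exact_mod_cast this)

/-- The weight function induced from weight `0` on `Spec k` is the dimension of the closure. -/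
lemma delta_eq_pdim (X : WeilCoh.Var k) (δ : ↥X.obj.left → ℤ)
    (hδ : Cyc.DeltaCompat X.obj.hom δ (fun _ => 0)) (x : X.obj.left) :
    δ x = (WeilCoh.pdim X.obj.left x : ℤ) := by
  obtain ⟨n, hn, hn'⟩ := hδ x
  rw [hn', zero_add, pdim_eq_trdegNat]
  letI := overSelf k
  haveI : LocallyOfFiniteType ((Spec (CommRingCat.of k)) ↘ Spec (CommRingCat.of k)) :=
    inferInstanceAs (LocallyOfFiniteType (𝟙 (Spec (CommRingCat.of k))))
  have hf : X.obj.hom ≫ ((Spec (CommRingCat.of k)) ↘ Spec (CommRingCat.of k)) =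
      (X.obj.left ↘ Spec (CommRingCat.of k)) := Category.comp_id _
  have h1 := trdegNat_eq_add_ptTrdeg k X.obj.hom hf x
  have h2 := trdeg_eq_ptTrdeg X.obj.hom x
  rw [trdegNat_Spec_eq_zero, zero_add] at h1
  rw [h1]
  have h3 : (n : Cardinal.{u}) = (ptTrdeg X.obj.hom x : Cardinal.{u}) := hn.symm.trans h2
  exact_mod_cast h3

end Proper

section PPF

variable {k : Type u} [Field k] [IsAlgClosed k] {K : Type v} [Field K] [CharZero K]
  (T : WeilCoh.Theory k K)

/-- The trace of `cl x * c` vanishes for `c` homogeneous of degree other than `2 dim cl{x}`. -/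
lemma tr_cl_mul_of_ne (X : WeilCoh.Var k) (x : X.obj.left) (c : T.H X) (j : ℤ)
    (hc : c ∈ T.gr X j) (hj : j ≠ 2 * (WeilCoh.pdim X.obj.left x : ℤ)) :
    T.tr X (T.cl X x * c) = 0 := by
  apply T.tr_vanish X (2 * (WeilCoh.codim X.obj.left x : ℤ) + j) _
    (SetLike.mul_mem_graded (T.cl_mem X x) hc)
  rw [cast_codim]
  omega

/-- Pointwise projection formula, for an arbitrary class `b`. -/
theorem tr_cl_mul_pull {X Y : WeilCoh.Var k} (f : X ⟶ Y) (x : X.obj.left) (b : T.H Y) :
    T.tr X (T.cl X x * T.pull f b) =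
      ((WeilCoh.sm f).residueDegree x : K) * T.tr Y (T.cl Y (WeilCoh.sm f x) * b) := by
  have hb : b ∈ (⨆ i, T.gr Y i) := by rw [(T.decomp Y).submodule_iSup_eq_top]; trivial
  refine Submodule.iSup_induction (T.gr Y) (motive := fun b => T.tr X (T.cl X x * T.pull f b) =
      ((WeilCoh.sm f).residueDegree x : K) * T.tr Y (T.cl Y (WeilCoh.sm f x) * b)) hb ?_ ?_ ?_
  · intro i c hc
    by_cases hi : i = 2 * (WeilCoh.pdim X.obj.left x : ℤ)
    · subst hi; exact T.cl_push f x c hc
    · rw [tr_cl_mul_of_ne T X x _ i (T.pull_mem f i c hc) hi]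
      by_cases hr : (WeilCoh.sm f).residueDegree x = 0
      · rw [hr]; simp
      · rw [tr_cl_mul_of_ne T Y (WeilCoh.sm f x) c i hc
          (by rw [pdim_eq_of_residueDegree_ne_zero f x hr]; exact hi), mul_zero]
  · simp
  · intro c d hc hd
    rw [map_add, mul_add, map_add, hc, hd, mul_add, map_add, mul_add]

lemma mapCoeff_eq {X Y : WeilCoh.Var k} (f : X ⟶ Y)
    (δX : ↥X.obj.left → ℤ) (hδX : Cyc.DeltaCompat X.obj.hom δX (fun _ => 0))
    (δY : ↥Y.obj.left → ℤ) (hδY : Cyc.DeltaCompat Y.obj.hom δY (fun _ => 0)) (x : X.obj.left) :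
    AlgebraicCycle.mapCoeff (WeilCoh.sm f) δX δY x = (WeilCoh.sm f).residueDegree x := by
  unfold AlgebraicCycle.mapCoeff
  split_ifs with h
  · rfl
  · by_contra hr
    apply h
    have := pdim_eq_of_residueDegree_ne_zero f x (Ne.symm hr)
    rw [delta_eq_pdim X δX hδX, delta_eq_pdim Y δY hδY]
    exact_mod_cast this.symm

/-- S15458. -/
theorem tr_clCyc_map {X Y : WeilCoh.Var k} (f : X ⟶ Y) [QuasiCompact (WeilCoh.sm f)]
    (δX : ↥X.obj.left → ℤ) (hδX : Cyc.DeltaCompat X.obj.hom δX (fun _ => 0))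
    (δY : ↥Y.obj.left → ℤ) (hδY : Cyc.DeltaCompat Y.obj.hom δY (fun _ => 0))
    (α : AlgebraicCycle X.obj.left ℤ) (b : T.H Y) :
    T.tr Y (T.clCyc Y (AlgebraicCycle.map (WeilCoh.sm f) δX δY α) * b) =
      T.tr X (T.clCyc X α * T.pull f b) := by
  have hm := mapCoeff_eq f δX hδX δY hδY
  classical
  set S := (finite_support' X α).toFinset with hS
  set β := AlgebraicCycle.map (WeilCoh.sm f) δX δY α with hβdef
  have hβ : ∀ y, β y = ∑ x ∈ S with (WeilCoh.sm f) x = y,
      α x * ((WeilCoh.sm f).residueDegree x : ℤ) := by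
    intro y
    change (∑ᶠ x ∈ (WeilCoh.sm f : X.obj.left → Y.obj.left) ⁻¹' {y},
      α x * ((AlgebraicCycle.mapCoeff (WeilCoh.sm f) δX δY x : ℕ) : ℤ)) = _
    simp_rw [hm]
    apply finsum_mem_eq_sum_of_inter_support_eq
    ext x
    simp only [Set.mem_inter_iff, Set.mem_preimage, Set.mem_singleton_iff, Function.mem_support,
      Finset.coe_filter, Set.mem_ofPred_eq, hS, Set.Finite.mem_toFinset]
    constructor
    · rintro ⟨h1, h2⟩
      exact ⟨⟨fun h0 => h2 (by rw [h0, zero_mul]), h1⟩, h2⟩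
    · rintro ⟨⟨_, h1⟩, h2⟩
      exact ⟨h1, h2⟩
  have h1 : T.clCyc Y β = ∑ y ∈ S.image (WeilCoh.sm f), ((β y : ℤ) : K) • T.cl Y y := by
    unfold WeilCoh.TheoryOn.clCyc
    apply finsum_eq_sum_of_support_subset
    intro y hy
    rw [Function.mem_support] at hy
    rw [Finset.mem_coe, Finset.mem_image]
    by_contra hne
    apply hy
    rw [hβ y, Finset.filter_eq_empty_iff.mpr (fun x hx hxy => hne ⟨x, hx, hxy⟩)]
    simp
  have h2 : T.clCyc X α = ∑ x ∈ S, ((α x : ℤ) : K) • T.cl X x := by
    unfold WeilCoh.TheoryOn.clCyc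
    apply finsum_eq_sum_of_support_subset
    intro x hx
    rw [Function.mem_support] at hx
    rw [Finset.mem_coe, hS, Set.Finite.mem_toFinset, Function.mem_support]
    intro h0
    apply hx
    rw [h0, Int.cast_zero, zero_smul]
  rw [h1, h2, Finset.sum_mul, Finset.sum_mul, map_sum, map_sum]
  simp_rw [smul_mul_assoc, map_smul, smul_eq_mul, tr_cl_mul_pull T f]
  rw [← Finset.sum_fiberwise_of_maps_to (g := (WeilCoh.sm f : X.obj.left → Y.obj.left))
    (t := S.image (WeilCoh.sm f)) (fun x hx => Finset.mem_image_of_mem _ hx)]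
  refine Finset.sum_congr rfl fun y _ => ?_
  rw [hβ y]
  push_cast
  rw [Finset.sum_mul]
  refine Finset.sum_congr rfl fun x hx => ?_
  rw [(Finset.mem_filter.mp hx).2]
  ring

end PPF

end Groth.Agent.Lib.Helper10.WeilPt
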