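import Groth.Agent.Lib.Helper10WeilSwap
import Groth.Agent.Lib.Helper10FrobGeom

/-!
# Weil cohomology: the geometric Frobenius multiplies the trace by `q ^ dim`
-/

universe u v w

open AlgebraicGeometry CategoryTheory CategoryTheory.Limits

namespace Groth.Agent.Lib.Helper10.WeilPt

open Groth.Agent.Lib.Helper4.VarDim Groth.Agent.Lib.Helper4.DimFormula

attribute [local instance] overVar

section Frob

variable {k₀ : Type u} [Field k₀] [Finite k₀] {k : Type u} [Field k] [IsAlgClosed k] [Algebra k₀ k]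
  {K : Type v} [Field K] [CharZero K] (T : WeilCoh.Theory k K)
  {X : Scheme.{u}} (f : X ⟶ Spec (CommRingCat.of k₀))
  (FX : X ⟶ X) (hFb : FX.base = 𝟙 _) (hle : ∀ U : X.Opens, U ≤ FX ⁻¹ᵁ U)
  (hFapp : ∀ (U : X.Opens) (s : Γ(X, U)), (FX.appLE U U (hle U)).hom s = s ^ Nat.card k₀)
  (Xb : WeilCoh.Var k) (π : Xb.obj.left ⟶ X)
  (hπ : IsPullback π Xb.obj.hom f (Spec.map (CommRingCat.ofHom (algebraMap k₀ k))))
  (F : Xb ⟶ Xb) (hF : WeilCoh.sm F ≫ π = π ≫ FX)

include hFb hFapp hπ hF in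
lemma sm_frob_genericPoint :
    WeilCoh.sm F (genericPoint Xb.obj.left) = genericPoint Xb.obj.left :=
  FrobGeom.frob_genericPoint (k := k) f FX hle hFapp hFb Xb.obj.left π hπ (WeilCoh.sm F) hF (sm_w F)

include hFb hFapp hπ hF in
lemma residueDegree_frob_genericPoint :
    (WeilCoh.sm F).residueDegree (genericPoint Xb.obj.left) =
      Nat.card k₀ ^ WeilCoh.dim Xb.obj.left := by
  have h := FrobGeom.residueDegree_frob (k := k) Xb.obj.left f FX hFb hle hFapp π hπ (WeilCoh.sm F) hF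
    (sm_w F) (genericPoint Xb.obj.left) (sm_frob_genericPoint f FX hFb hle hFapp Xb π hπ F hF)
  rw [h, ← pdim_eq_trdegNat, pdim_genericPoint]

include hFb hFapp hπ hF in
/-- The geometric Frobenius multiplies the trace by `q ^ dim`. -/
theorem tr_pull_frob (a : T.H Xb) :
    T.tr Xb (T.pull F a) = (Nat.card k₀ : K) ^ WeilCoh.dim Xb.obj.left * T.tr Xb a := by
  have h := tr_cl_mul_pull T F (genericPoint Xb.obj.left) a
  rw [sm_frob_genericPoint f FX hFb hle hFapp Xb π hπ F hF, cl_generic, one_mul, one_mul,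
    residueDegree_frob_genericPoint f FX hFb hle hFapp Xb π hπ F hF] at h
  rw [h]
  push_cast
  rfl

end Frob

end Groth.Agent.Lib.Helper10.WeilPt
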