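import Groth.Agent.Lib.Helper10WeilFrob
import Groth.Agent.Lib.Helper10FrobLA

/-!
# Weil cohomology: determinant and characteristic polynomial of Frobenius under duality
-/

universe u v w

open AlgebraicGeometry CategoryTheory CategoryTheory.Limits Polynomial

namespace Groth.Agent.Lib.Helper10.WeilPt

section Frob

variable {k₀ : Type u} [Field k₀] [Finite k₀] {k : Type u} [Field k] [IsAlgClosed k] [Algebra k₀ k]
  {K : Type v} [Field K] [CharZero K] (T : WeilCoh.Theory k K)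
  {X : Scheme.{u}} (f : X ⟶ Spec (CommRingCat.of k₀))
  (FX : X ⟶ X) (hFb : FX.base = 𝟙 _) (hle : ∀ U : X.Opens, U ≤ FX ⁻¹ᵁ U)
  (hFapp : ∀ (U : X.Opens) (s : Γ(X, U)), (FX.appLE U U (hle U)).hom s = s ^ Nat.card k₀)
  (Xb : WeilCoh.Var k) (π : Xb.obj.left ⟶ X)
  (hπ : IsPullback π Xb.obj.hom f (Spec.map (CommRingCat.ofHom (algebraMap k₀ k))))
  (F : Xb ⟶ Xb) (hF : WeilCoh.sm F ≫ π = π ≫ FX)

include hFb hFapp hπ hF in
lemma pairing_pullDeg (i j : ℤ) (v : T.gr Xb i) (w : T.gr Xb j) :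
    WeilCoh.pairing K (T.gr Xb i) (T.gr Xb j) (T.tr Xb) (T.pullDeg F i v) (T.pullDeg F j w) =
      (Nat.card k₀ : K) ^ WeilCoh.dim Xb.obj.left *
        WeilCoh.pairing K (T.gr Xb i) (T.gr Xb j) (T.tr Xb) v w := by
  change T.tr Xb (T.pull F v * T.pull F w) = _ * T.tr Xb ((v : T.H Xb) * (w : T.H Xb))
  rw [← map_mul, tr_pull_frob T f FX hFb hle hFapp Xb π hπ F hF]

include hFb hFapp hπ hF in
/-- S15454. -/
theorem det_frob (i : ℤ) :
    LinearMap.det (T.pullDeg F (2 * (WeilCoh.dim Xb.obj.left : ℤ) - i)) *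
        LinearMap.det (T.pullDeg F i) =
      (Nat.card k₀ : K) ^ (WeilCoh.dim Xb.obj.left * Module.finrank K ↥(T.gr Xb i)) := by
  haveI := T.duality Xb i (2 * (WeilCoh.dim Xb.obj.left : ℤ) - i) (by ring)
  rw [pow_mul]
  exact FrobLA.det_mul_det _ _ _ _
    (pairing_pullDeg T f FX hFb hle hFapp Xb π hπ F hF i (2 * (WeilCoh.dim Xb.obj.left : ℤ) - i))

include hFb hFapp hπ hF in
/-- S15455. -/
theorem charpoly_frob (i : ℤ) :
    LinearMap.det (T.pullDeg F i) •
        (LinearMap.charpoly (T.pullDeg F (2 * (WeilCoh.dim Xb.obj.left : ℤ) - i))).reverse =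
      (-1 : Polynomial K) ^ Module.finrank K ↥(T.gr Xb i) *
        (LinearMap.charpoly (T.pullDeg F i)).comp
          (Polynomial.C ((Nat.card k₀ : K) ^ WeilCoh.dim Xb.obj.left) * Polynomial.X) := by
  haveI := T.duality Xb i (2 * (WeilCoh.dim Xb.obj.left : ℤ) - i) (by ring)
  exact FrobLA.det_smul_reverse_charpoly _ _ _ _
    (pairing_pullDeg T f FX hFb hle hFapp Xb π hπ F hF i (2 * (WeilCoh.dim Xb.obj.left : ℤ) - i))

end Frob

end Groth.Agent.Lib.Helper10.WeilPt
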