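import Groth.Agent.Lib.Helper10WeilFrob2
import Groth.Agent.Lib.Helper10FrobZeta

/-!
# Weil cohomology: the functional equation of the zeta function
-/

universe u v w

open AlgebraicGeometry CategoryTheory CategoryTheory.Limits Polynomial

namespace Groth.Agent.Lib.Helper10.WeilPt

section Frob

variable {k₀ : Type u} [Field k₀] [Finite k₀] {k : Type u} [Field k] [IsAlgClosed k] [Algebra k₀ k]
  {K : Type v} [Field K] [CharZero K] (T : WeilCoh.Theory k K)
  {X : Scheme.{u}} (f : X ⟶ Spec (CommRingCat.of k₀))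
  (FX : X ⟶ X) (hFb : FX.base = 𝟙 _) (hle : ∀ U : X.Opens, U ≤ FX ⁻¹ᵁ U)
  (hFapp : ∀ (U : X.Opens) (s : Γ(X, U)), (FX.appLE U U (hle U)).hom s = s ^ Nat.card k₀)
  (Xb : WeilCoh.Var k) (π : Xb.obj.left ⟶ X)
  (hπ : IsPullback π Xb.obj.hom f (Spec.map (CommRingCat.ofHom (algebraMap k₀ k))))
  (F : Xb ⟶ Xb) (hF : WeilCoh.sm F ≫ π = π ≫ FX)

omit [IsAlgClosed k] [CharZero K] in
lemma finrank_gr_symm (T : WeilCoh.TheoryOn k (WeilCoh.IsVar k) K) (i : ℤ) :
    Module.finrank K (T.gr Xb (2 * (WeilCoh.dim Xb.obj.left : ℤ) - i)) =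
      Module.finrank K (T.gr Xb i) := by
  haveI := T.duality Xb i (2 * (WeilCoh.dim Xb.obj.left : ℤ) - i) (by ring)
  exact (FrobLA.finrank_eq_of_isPerfPair
    (WeilCoh.pairing K (T.gr Xb i) (T.gr Xb (2 * (WeilCoh.dim Xb.obj.left : ℤ) - i)) (T.tr Xb))).symm

/-- In odd dimension the middle cohomology has even dimension. -/
lemma even_finrank_middle (hn : Odd (WeilCoh.dim Xb.obj.left)) :
    Even (Module.finrank K (T.gr Xb (WeilCoh.dim Xb.obj.left : ℤ))) := by
  haveI := T.duality Xb (WeilCoh.dim Xb.obj.left : ℤ) (WeilCoh.dim Xb.obj.left : ℤ) (by ring)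
  refine FrobZeta.even_finrank_of_antisymm
    (WeilCoh.pairing K (T.gr Xb (WeilCoh.dim Xb.obj.left : ℤ))
      (T.gr Xb (WeilCoh.dim Xb.obj.left : ℤ)) (T.tr Xb)) ?_
  intro a b
  change T.tr Xb ((a : T.H Xb) * (b : T.H Xb)) = - T.tr Xb ((b : T.H Xb) * (a : T.H Xb))
  rw [T.gradedComm Xb _ _ _ _ a.2 b.2, Int.natAbs_natCast, map_smul,
    (hn.mul hn).neg_one_pow, neg_smul, one_smul]

omit [IsAlgClosed k] [CharZero K] in
lemma det_congr (T : WeilCoh.TheoryOn k (WeilCoh.IsVar k) K) {j j' : ℤ} (h : j = j') :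
    LinearMap.det (T.pullDeg F j) = LinearMap.det (T.pullDeg F j') := by
  subst h; rfl

omit [IsAlgClosed k] [CharZero K] in
lemma charpoly_congr (T : WeilCoh.TheoryOn k (WeilCoh.IsVar k) K) {j j' : ℤ} (h : j = j') :
    LinearMap.charpoly (T.pullDeg F j) = LinearMap.charpoly (T.pullDeg F j') := by
  subst h; rfl

omit [IsAlgClosed k] [CharZero K] in
lemma finrank_congr (T : WeilCoh.TheoryOn k (WeilCoh.IsVar k) K) {j j' : ℤ} (h : j = j') :
    Module.finrank K (T.gr Xb j) = Module.finrank K (T.gr Xb j') := by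
  subst h; rfl

omit [CharZero K] in
/-- Evaluating a characteristic polynomial at `x` via its reverse at `x⁻¹`. -/
lemma aeval_reverse_mul_pow {V : Type*} [AddCommGroup V] [Module K V] [FiniteDimensional K V]
    (A : V →ₗ[K] V) (x : RatFunc K) (hx : x ≠ 0) :
    aeval x⁻¹ A.charpoly.reverse * x ^ Module.finrank K V = aeval x A.charpoly := by
  letI := invertibleOfNonzero hx
  have := Polynomial.eval₂_reverse_mul_pow (algebraMap K (RatFunc K)) x A.charpoly
  rw [invOf_eq_inv, LinearMap.charpoly_natDegree] at this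
  exact this

include hFb hFapp hπ hF in
/-- S15456. -/
theorem zeta_functional_equation :
    ∃ ε : K, (ε = 1 ∨ ε = -1) ∧
      Polynomial.aeval ((RatFunc.X : RatFunc K)⁻¹ * RatFunc.C ((Nat.card k₀ : K) ^ WeilCoh.dim Xb.obj.left)⁻¹)
          (∏ i ∈ Finset.range (WeilCoh.dim Xb.obj.left),
            (LinearMap.charpoly (T.pullDeg F ((2 * i + 1 : ℕ) : ℤ))).reverse) /
        Polynomial.aeval ((RatFunc.X : RatFunc K)⁻¹ * RatFunc.C ((Nat.card k₀ : K) ^ WeilCoh.dim Xb.obj.left)⁻¹)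
          (∏ i ∈ Finset.range (WeilCoh.dim Xb.obj.left + 1),
            (LinearMap.charpoly (T.pullDeg F ((2 * i : ℕ) : ℤ))).reverse) =
      RatFunc.C ε * RatFunc.C (Nat.card k₀ : K) ^ ((WeilCoh.dim Xb.obj.left : ℤ) * (∑ i ∈ Finset.range (2 * WeilCoh.dim Xb.obj.left + 1), (-1 : ℤ) ^ i * (Module.finrank K ↥(T.gr Xb (i : ℤ)) : ℤ)) / 2) *
        (RatFunc.X : RatFunc K) ^ (∑ i ∈ Finset.range (2 * WeilCoh.dim Xb.obj.left + 1), (-1 : ℤ) ^ i * (Module.finrank K ↥(T.gr Xb (i : ℤ)) : ℤ)) *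
        (algebraMap (Polynomial K) (RatFunc K)
          (∏ i ∈ Finset.range (WeilCoh.dim Xb.obj.left),
            (LinearMap.charpoly (T.pullDeg F ((2 * i + 1 : ℕ) : ℤ))).reverse) /
         algebraMap (Polynomial K) (RatFunc K)
          (∏ i ∈ Finset.range (WeilCoh.dim Xb.obj.left + 1),
            (LinearMap.charpoly (T.pullDeg F ((2 * i : ℕ) : ℤ))).reverse)) := by
  set n := WeilCoh.dim Xb.obj.left with hn
  set q : K := (Nat.card k₀ : K) with hq
  have hq0 : q ≠ 0 := by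
    rw [hq]
    exact_mod_cast (Nat.card_pos (α := k₀)).ne'
  set m : ℕ → ℕ := fun i => Module.finrank K ↥(T.gr Xb (i : ℤ)) with hm
  set d : ℕ → K := fun i => LinearMap.det (T.pullDeg F (i : ℤ)) with hd
  set P : ℕ → K[X] := fun i => (LinearMap.charpoly (T.pullDeg F (i : ℤ))).reverse with hP
  have hcast : ∀ i ≤ 2 * n, 2 * (n : ℤ) - (i : ℤ) = ((2 * n - i : ℕ) : ℤ) := by
    intro i hi
    rw [Nat.cast_sub hi]
    push_cast
    rfl
  have H1 : ∀ i ≤ 2 * n, d i * d (2 * n - i) = q ^ (n * m i) := by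
    intro i hi
    have := det_frob T f FX hFb hle hFapp Xb π hπ F hF (i : ℤ)
    rw [det_congr Xb F T (hcast i hi), mul_comm] at this
    exact this
  have H2 : ∀ i ≤ 2 * n, m (2 * n - i) = m i := by
    intro i hi
    have := finrank_gr_symm Xb T (i : ℤ)
    rw [finrank_congr Xb T (hcast i hi)] at this
    exact this
  set x : RatFunc K := RatFunc.C (q ^ n) * RatFunc.X with hxdef
  have hx : x ≠ 0 := by
    rw [hxdef]
    refine mul_ne_zero ?_ RatFunc.X_ne_zero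
    rw [Ne, map_eq_zero]
    exact pow_ne_zero _ hq0
  have hxinv : x⁻¹ = (RatFunc.X : RatFunc K)⁻¹ * RatFunc.C (q ^ n)⁻¹ := by
    rw [hxdef, mul_inv_rev, map_inv₀]
  have H3 : ∀ i ≤ 2 * n, aeval ((RatFunc.X : RatFunc K)⁻¹ * RatFunc.C (q ^ n)⁻¹) (P i) *
        (RatFunc.C (q ^ n) * RatFunc.X) ^ (m i) =
      (-1) ^ (m i) * RatFunc.C (d i) * algebraMap K[X] (RatFunc K) (P (2 * n - i)) := by
    intro i hi
    have h1 := charpoly_frob T f FX hFb hle hFapp Xb π hπ F hF (i : ℤ)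
    rw [charpoly_congr Xb F T (hcast i hi)] at h1
    have h2 := congrArg (algebraMap K[X] (RatFunc K)) h1
    rw [Polynomial.smul_eq_C_mul, map_mul, map_mul, map_pow, map_neg, map_one,
      RatFunc.algebraMap_C] at h2
    have h3 : algebraMap K[X] (RatFunc K)
        ((LinearMap.charpoly (T.pullDeg F (i : ℤ))).comp (C (q ^ n) * Polynomial.X)) =
        aeval x (LinearMap.charpoly (T.pullDeg F (i : ℤ))) := by
      rw [Polynomial.comp_eq_aeval, ← IsScalarTower.coe_toAlgHom' K K[X] (RatFunc K),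
        ← Polynomial.aeval_algHom_apply, IsScalarTower.coe_toAlgHom', map_mul,
        RatFunc.algebraMap_C, RatFunc.algebraMap_X]
    rw [h3, ← aeval_reverse_mul_pow _ x hx, hxinv] at h2
    -- h2 : C (d i) * algebraMap (P (2n - i)) = (-1)^(m i) * (aeval u (P i) * x ^ m i)
    have h4 : ((-1 : RatFunc K) ^ (m i)) * ((-1) ^ (m i)) = 1 := by
      rw [← pow_add, ← two_mul, pow_mul]
      simp
    calc aeval ((RatFunc.X : RatFunc K)⁻¹ * RatFunc.C (q ^ n)⁻¹) (P i) * x ^ (m i)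
        = ((-1) ^ (m i) * (-1) ^ (m i)) *
            (aeval ((RatFunc.X : RatFunc K)⁻¹ * RatFunc.C (q ^ n)⁻¹) (P i) * x ^ (m i)) := by
          rw [h4, one_mul]
      _ = (-1) ^ (m i) * ((-1) ^ (m i) *
            (aeval ((RatFunc.X : RatFunc K)⁻¹ * RatFunc.C (q ^ n)⁻¹) (P i) * x ^ (m i))) := by ring
      _ = (-1) ^ (m i) * RatFunc.C (d i) * algebraMap K[X] (RatFunc K) (P (2 * n - i)) := by
          rw [← h2]; ring
  obtain ⟨h, H4⟩ := FrobZeta.exists_half n m H2 (fun hodd => even_finrank_middle T Xb hodd)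
  obtain ⟨ε, hε, key⟩ := FrobZeta.functional_equation n q hq0 m d P H1 H3 h H4
  refine ⟨ε, hε, ?_⟩
  have hdiv : (n : ℤ) * (∑ i ∈ Finset.range (2 * n + 1), (-1 : ℤ) ^ i * (m i : ℤ)) / 2 = h := by
    rw [H4, Int.mul_ediv_cancel_left _ two_ne_zero]
  rw [hdiv]
  exact key

end Frob

end Groth.Agent.Lib.Helper10.WeilPt
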