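import Groth.Agent.Lib.Helper6ReducedEtale

/-!
# Reducedness ascends along smooth ring maps (helper6)
-/

open TensorProduct

namespace Groth.Agent.Lib.Helper6

universe u

/-- Étale algebras over Noetherian reduced rings are reduced. -/
theorem isReduced_of_etale_of_isNoetherianRing (A B : Type u) [CommRing A] [CommRing B]
    [Algebra A B] [IsNoetherianRing A] [IsReduced A] [Algebra.Etale A B] : IsReduced B := by
  have : Algebra.EssFiniteType A B := inferInstance
  exact isReduced_of_flat_of_formallyUnramified A B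

/-- A ring is reduced if it is reduced after inverting each element of a set generating the
unit ideal. -/
theorem isReduced_of_span_eq_top {S : Type u} [CommRing S] (s : Set S) (hs : Ideal.span s = ⊤)
    (h : ∀ x ∈ s, IsReduced (Localization.Away x)) : IsReduced S := by
  constructor
  intro y hy
  -- the annihilator of y contains a power of each x ∈ s
  have hann : ∀ x ∈ s, ∃ n : ℕ, x ^ n * y = 0 := by
    intro x hx
    have h0 : algebraMap S (Localization.Away x) y = 0 :=
      (h x hx).eq_zero _ (hy.map _)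
    rw [IsLocalization.map_eq_zero_iff (Submonoid.powers x)] at h0
    obtain ⟨⟨_, n, rfl⟩, hn⟩ := h0
    exact ⟨n, hn⟩
  by_contra hy0
  have hne : (Ideal.span {y}).annihilator ≠ ⊤ := by
    intro htop
    apply hy0
    have h1 : (1 : S) ∈ (Ideal.span {y}).annihilator := by rw [htop]; trivial
    rw [Submodule.mem_annihilator_span_singleton] at h1
    simpa using h1
  obtain ⟨m, hm, hle⟩ := Ideal.exists_le_maximal _ hne
  have hsm : s ⊆ m := by
    intro x hx
    obtain ⟨n, hn⟩ := hann x hx
    have : x ^ n ∈ m := by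
      apply hle
      rw [Submodule.mem_annihilator_span_singleton]
      exact hn
    exact hm.isPrime.mem_of_pow_mem n this
  have : Ideal.span s ≤ m := Ideal.span_le.mpr hsm
  rw [hs] at this
  exact hm.ne_top (top_le_iff.mp this)

/-- Smooth algebras over Noetherian reduced rings are reduced. -/
theorem isReduced_of_smooth_of_isNoetherianRing (A B : Type u) [CommRing A] [CommRing B]
    [Algebra A B] [IsNoetherianRing A] [IsReduced A] [Algebra.Smooth A B] : IsReduced B := by
  obtain ⟨s, hs, hstd⟩ := Algebra.Smooth.exists_span_eq_top_isStandardSmooth A B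
  refine isReduced_of_span_eq_top s hs fun x hx => ?_
  have hx' := hstd x hx
  obtain ⟨ι, σ, _, _, ⟨P⟩⟩ := hx'
  have : Algebra.IsStandardSmoothOfRelativeDimension P.dimension A (Localization.Away x) :=
    ⟨_, _, _, inferInstance, P, rfl⟩
  obtain ⟨g, hg⟩ := Algebra.IsStandardSmoothOfRelativeDimension.exists_etale_mvPolynomial
    P.dimension A (Localization.Away x)
  algebraize [g.toRingHom]
  exact isReduced_of_etale_of_isNoetherianRing (MvPolynomial (Fin P.dimension) A)
    (Localization.Away x)

section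

variable {R₀ R S₀ : Type*} [CommRing R₀] [CommRing R] [CommRing S₀] [Algebra R₀ R] [Algebra R₀ S₀]

/-- The image of `R₁ ⊗ S₀` in `R ⊗ S₀` for a subalgebra `R₁ ≤ R`. -/
noncomputable def tensorSubalgRange (R₁ : Subalgebra R₀ R) : Subalgebra R₀ (R ⊗[R₀] S₀) :=
  (Algebra.TensorProduct.map R₁.val (AlgHom.id R₀ S₀)).range

theorem tensorSubalgRange_mono {R₁ R₂ : Subalgebra R₀ R} (h : R₁ ≤ R₂) :
    tensorSubalgRange (S₀ := S₀) R₁ ≤ tensorSubalgRange R₂ := by
  rintro _ ⟨x, rfl⟩
  refine ⟨Algebra.TensorProduct.map (Subalgebra.inclusion h) (AlgHom.id R₀ S₀) x, ?_⟩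
  induction x using TensorProduct.induction_on with
  | zero => simp
  | tmul r s => simp
  | add a b ha hb =>
    simp only [map_add] at ha hb ⊢
    rw [ha, hb]

theorem exists_fg_mem_tensorSubalgRange (x : R ⊗[R₀] S₀) :
    ∃ R₁ : Subalgebra R₀ R, R₁.FG ∧ x ∈ tensorSubalgRange (S₀ := S₀) R₁ := by
  induction x using TensorProduct.induction_on with
  | zero => exact ⟨⊥, Subalgebra.fg_bot, Subalgebra.zero_mem _⟩
  | tmul r s =>
    refine ⟨Algebra.adjoin R₀ {r}, ⟨{r}, by simp⟩, ?_⟩
    exact ⟨(⟨r, Algebra.subset_adjoin (Set.mem_singleton r)⟩ : Algebra.adjoin R₀ {r}) ⊗ₜ s,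
      by simp⟩
  | add a b ha hb =>
    obtain ⟨R₁, h₁, ha⟩ := ha
    obtain ⟨R₂, h₂, hb⟩ := hb
    exact ⟨R₁ ⊔ R₂, h₁.sup h₂, Subalgebra.add_mem _ (tensorSubalgRange_mono le_sup_left ha)
      (tensorSubalgRange_mono le_sup_right hb)⟩

end

/-- Reducedness ascends along smooth ring maps. -/
theorem isReduced_of_smooth (R S : Type u) [CommRing R] [CommRing S] [Algebra R S]
    [Algebra.Smooth R S] [IsReduced R] : IsReduced S := by
  obtain ⟨R₀, S₀, _, _, hfg, hsm, ⟨e⟩⟩ := Algebra.Smooth.exists_subalgebra_fg ℤ R S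
  suffices h : IsReduced (R ⊗[R₀] S₀) from
    isReduced_of_injective e.toRingEquiv.toRingHom e.injective
  constructor
  intro x hx
  obtain ⟨R₁, hR₁, x₁, rfl⟩ := exists_fg_mem_tensorSubalgRange x
  have hft₀ : Algebra.FiniteType ℤ R₀ := (Subalgebra.fg_iff_finiteType R₀).mp hfg
  have hft₁ : Algebra.FiniteType R₀ R₁ := (Subalgebra.fg_iff_finiteType R₁).mp hR₁
  have hft : Algebra.FiniteType ℤ R₁ := Algebra.FiniteType.trans hft₀ hft₁
  have hnoeth : IsNoetherianRing R₁ := Algebra.FiniteType.isNoetherianRing ℤ R₁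
  have hred : IsReduced R₁ := isReduced_of_injective R₁.val Subtype.val_injective
  have hred' : IsReduced (R₁ ⊗[R₀] S₀) := isReduced_of_smooth_of_isNoetherianRing R₁ (R₁ ⊗[R₀] S₀)
  have hinj : Function.Injective (Algebra.TensorProduct.map R₁.val (AlgHom.id R₀ S₀)) := by
    have := Module.Flat.rTensor_preserves_injective_linearMap (M := S₀) R₁.val.toLinearMap
      Subtype.val_injective
    intro a b hab
    apply this
    have key : ∀ z : R₁ ⊗[R₀] S₀, (LinearMap.rTensor S₀ R₁.val.toLinearMap) z =
        Algebra.TensorProduct.map R₁.val (AlgHom.id R₀ S₀) z := by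
      intro z
      induction z using TensorProduct.induction_on with
      | zero => simp
      | tmul r s => simp
      | add a b ha hb => simp only [map_add, ha, hb]
    rw [key, key, hab]
  have hnil : IsNilpotent x₁ := by
    obtain ⟨n, hn⟩ := hx
    refine ⟨n, hinj ?_⟩
    rw [map_pow, map_zero]
    exact hn
  rw [hred'.eq_zero _ hnil, map_zero]

end Groth.Agent.Lib.Helper6
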