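import Groth.Agent.Lib.Helper9ShfGrp
import Mathlib.CategoryTheory.Subobject.FactorThru
import Mathlib.CategoryTheory.Subobject.Basic

set_option autoImplicit false

namespace Groth.Agent.Lib.Helper9

open CategoryTheory Limits

section QuotMono

variable {E : Type*} [Category* E] [ToposLike E]

lemma ToposLike.exists_local_lift' {W A B : E} (q : A ⟶ B) (hq : Epi q) (c : W ⟶ B) :
    ∃ (W' : E) (e : W' ⟶ W) (_ : Epi e) (y : W' ⟶ A), e ≫ c = y ≫ q :=
  ⟨pullback c q, pullback.fst c q,
    ToposLike.epi_of_isPullback (IsPullback.of_hasPullback c q) hq, pullback.snd c q,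
    pullback.condition⟩

/-- Two points of a quotient can be lifted simultaneously after passing to a cover. -/
lemma ToposLike.exists_local_lift₂ {W A B : E} (q : A ⟶ B) (hq : Epi q) (c d : W ⟶ B) :
    ∃ (W' : E) (e : W' ⟶ W) (_ : Epi e) (y z : W' ⟶ A), e ≫ c = y ≫ q ∧ e ≫ d = z ≫ q := by
  obtain ⟨W₁, e₁, he₁, y₁, hy₁⟩ := ToposLike.exists_local_lift' q hq c
  obtain ⟨W₂, e₂, he₂, y₂, hy₂⟩ := ToposLike.exists_local_lift' q hq (e₁ ≫ d)
  refine ⟨W₂, e₂ ≫ e₁, epi_comp _ _, e₂ ≫ y₁, y₂, ?_, ?_⟩
  · rw [Category.assoc, hy₁, Category.assoc]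
  · rw [Category.assoc, hy₂]

/-- The map `Y/R_Y ⟶ X/R` induced by `ι : Y ⟶ X` is a monomorphism, where `R_Y` is the relation
induced on `Y` by `R`. -/
theorem mono_quotient_map' {R X Y B : E} {p₁ p₂ : R ⟶ X} {π : X ⟶ B}
    (hk : IsKernelPair π p₁ p₂) (ι : Y ⟶ X)
    (g : coequalizer (pullback.fst (pullback.fst p₁ ι ≫ p₂) ι ≫ pullback.snd p₁ ι)
      (pullback.snd (pullback.fst p₁ ι ≫ p₂) ι) ⟶ B)
    (hg : coequalizer.π _ _ ≫ g = ι ≫ π) :
    Mono g := by
  constructor
  intro W a b hab
  obtain ⟨W', e', he', y₁, y₂, hy₁, hy₂⟩ := ToposLike.exists_local_lift₂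
    (coequalizer.π (pullback.fst (pullback.fst p₁ ι ≫ p₂) ι ≫ pullback.snd p₁ ι)
      (pullback.snd (pullback.fst p₁ ι ≫ p₂) ι)) inferInstance a b
  have h1 : (y₁ ≫ ι) ≫ π = (y₂ ≫ ι) ≫ π := by
    rw [Category.assoc, Category.assoc, ← hg, ← Category.assoc, ← Category.assoc, ← hy₁, ← hy₂,
      Category.assoc, Category.assoc, hab]
  obtain ⟨r, hr₁, hr₂⟩ := hk.exists_lift _ _ h1
  have h2 : pullback.lift r y₁ hr₁ ≫ pullback.fst p₁ ι ≫ p₂ = y₂ ≫ ι := by
    rw [pullback.lift_fst_assoc, hr₂]
  have h3 : y₁ ≫ coequalizer.π (pullback.fst (pullback.fst p₁ ι ≫ p₂) ι ≫ pullback.snd p₁ ι)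
      (pullback.snd (pullback.fst p₁ ι ≫ p₂) ι) =
      y₂ ≫ coequalizer.π (pullback.fst (pullback.fst p₁ ι ≫ p₂) ι ≫ pullback.snd p₁ ι)
      (pullback.snd (pullback.fst p₁ ι ≫ p₂) ι) := by
    have := pullback.lift (pullback.lift r y₁ hr₁) y₂ h2 ≫=
      coequalizer.condition (pullback.fst (pullback.fst p₁ ι ≫ p₂) ι ≫ pullback.snd p₁ ι)
        (pullback.snd (pullback.fst p₁ ι ≫ p₂) ι)
    rw [Category.assoc, pullback.lift_fst_assoc, pullback.lift_snd_assoc,
      pullback.lift_snd_assoc] at this
    exact this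
  rw [← cancel_epi e', hy₁, hy₂, h3]

/-- The map `Y/R_Y ⟶ X/R` induced by `ι : Y ⟶ X` is a monomorphism, where `R_Y` is the relation
induced on `Y` by `R`. -/
theorem mono_quotient_map {R X Y : E} {p₁ p₂ : R ⟶ X}
    (e : UniversallyEffectiveEquivalenceRelation p₁ p₂) (ι : Y ⟶ X)
    (g : coequalizer (pullback.fst (pullback.fst p₁ ι ≫ p₂) ι ≫ pullback.snd p₁ ι)
      (pullback.snd (pullback.fst p₁ ι ≫ p₂) ι) ⟶ e.B)
    (hg : coequalizer.π _ _ ≫ g = ι ≫ e.π) :
    Mono g :=
  mono_quotient_map' e.isKernelPair ι g hg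

end QuotMono

section Subobj

variable {E : Type*} [Category* E] [ToposLike E]

lemma subobject_ext_factors {X : E} {P Q : Subobject X}
    (h : ∀ (W : E) (x : W ⟶ X), P.Factors x ↔ Q.Factors x) : P = Q :=
  le_antisymm (Subobject.le_of_factors ((h _ _).1 P.factors_self))
    (Subobject.le_of_factors ((h _ _).2 Q.factors_self))

lemma factors_pullback_iff {X Y W : E} (f : X ⟶ Y) (P : Subobject Y) (x : W ⟶ X) :
    ((Subobject.pullback f).obj P).Factors x ↔ P.Factors (x ≫ f) := by
  constructor
  · intro h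
    rw [← Subobject.factorThru_arrow _ _ h, Category.assoc, ← (Subobject.isPullback f P).w,
      ← Category.assoc]
    exact Subobject.factors_comp_arrow _
  · intro h
    obtain ⟨l, hl₁, hl₂⟩ := (Subobject.isPullback f P).exists_lift (P.factorThru _ h) x
      (by rw [Subobject.factorThru_arrow])
    rw [← hl₂]
    exact Subobject.factors_comp_arrow _

lemma factors_of_epi_comp {X W W' : E} (P : Subobject X) (q : W' ⟶ W) (hq : Epi q) (x : W ⟶ X)
    (h : P.Factors (q ≫ x)) : P.Factors x := by
  obtain ⟨g, hg⟩ := ToposLike.exists_desc_of_epi q hq (P.factorThru _ h) (by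
    intro V a₁ a₂ ha
    rw [← cancel_mono P.arrow, Category.assoc, Category.assoc, Subobject.factorThru_arrow,
      ← Category.assoc, ha, Category.assoc])
  have : g ≫ P.arrow = x := by
    rw [← cancel_epi q, ← Category.assoc, hg, Subobject.factorThru_arrow]
  rw [← this]
  exact Subobject.factors_comp_arrow _

lemma mk_factors_iff' {X A W : E} (m : A ⟶ X) [Mono m] (x : W ⟶ X) :
    (Subobject.mk m).Factors x ↔ ∃ a : W ⟶ A, a ≫ m = x := by
  rw [Subobject.mk_factors_iff]
  rfl

/-- Inverse image along the quotient map of a universally effective equivalence relation is a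
bijection from subobjects of the quotient onto the stable subobjects. -/
theorem subobject_pullback_quotient' {R X B : E} {p₁ p₂ : R ⟶ X} {π : X ⟶ B}
    (hk : IsKernelPair π p₁ p₂) (hπ : Epi π) :
    Function.Injective (Subobject.pullback π).obj ∧
      Set.range (Subobject.pullback π).obj =
        {Y : Subobject X | (Subobject.pullback p₁).obj Y = (Subobject.pullback p₂).obj Y} := by
  constructor
  · intro Z₁ Z₂ h
    have key : ∀ (Z₁ Z₂ : Subobject B),
        (Subobject.pullback π).obj Z₁ = (Subobject.pullback π).obj Z₂ →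
        ∀ (W : E) (b : W ⟶ B), Z₁.Factors b → Z₂.Factors b := by
      intro Z₁ Z₂ h W b hb
      obtain ⟨W', e', he', y, hy⟩ := ToposLike.exists_local_lift' π hπ b
      apply factors_of_epi_comp Z₂ e' he'
      rw [hy, ← factors_pullback_iff, ← h, factors_pullback_iff, ← hy]
      exact Subobject.factors_of_factors_right _ hb
    exact subobject_ext_factors fun W b => ⟨key Z₁ Z₂ h W b, key Z₂ Z₁ h.symm W b⟩
  · ext Y
    simp only [Set.mem_range, Set.mem_setOf_eq]
    constructor
    · rintro ⟨Z, rfl⟩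
      rw [← Subobject.pullback_comp, ← Subobject.pullback_comp, hk.w]
    · intro hY
      let ι := Y.arrow
      let g : coequalizer (pullback.fst (pullback.fst p₁ ι ≫ p₂) ι ≫ pullback.snd p₁ ι)
          (pullback.snd (pullback.fst p₁ ι ≫ p₂) ι) ⟶ B :=
        coequalizer.desc (ι ≫ π) (by
          have c₁ : pullback.snd p₁ ι ≫ ι ≫ π = (pullback.fst p₁ ι ≫ p₂) ≫ π := by
            rw [← pullback.condition_assoc, hk.w, Category.assoc]
          have c₂ := pullback.condition (f := pullback.fst p₁ ι ≫ p₂) (g := ι)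
          rw [Category.assoc, c₁, ← Category.assoc, c₂, Category.assoc])
      have hg : coequalizer.π _ _ ≫ g = ι ≫ π := coequalizer.π_desc _ _
      have hmono : Mono g := mono_quotient_map' hk ι g hg
      refine ⟨Subobject.mk g, ?_⟩
      apply subobject_ext_factors
      intro W x
      rw [factors_pullback_iff, mk_factors_iff']
      constructor
      · rintro ⟨z, hz⟩
        obtain ⟨W', e', he', y, hy⟩ := ToposLike.exists_local_lift'
          (coequalizer.π (pullback.fst (pullback.fst p₁ ι ≫ p₂) ι ≫ pullback.snd p₁ ι)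
            (pullback.snd (pullback.fst p₁ ι ≫ p₂) ι)) inferInstance z
        have h1 : (y ≫ ι) ≫ π = (e' ≫ x) ≫ π := by
          rw [Category.assoc, Category.assoc, ← hz, ← hg, ← Category.assoc, ← Category.assoc, hy]
        obtain ⟨r, hr₁, hr₂⟩ := hk.exists_lift _ _ h1
        apply factors_of_epi_comp Y e' he'
        rw [← hr₂, ← factors_pullback_iff, ← hY, factors_pullback_iff, hr₁]
        exact Subobject.factors_comp_arrow _
      · intro h
        refine ⟨Y.factorThru x h ≫ coequalizer.π _ _, ?_⟩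
        rw [Category.assoc, hg, ← Category.assoc, Subobject.factorThru_arrow]

/-- Inverse image along the quotient map of a universally effective equivalence relation is a
bijection from subobjects of the quotient onto the stable subobjects. -/
theorem subobject_pullback_quotient {R X : E} {p₁ p₂ : R ⟶ X}
    (e : UniversallyEffectiveEquivalenceRelation p₁ p₂) :
    Function.Injective (Subobject.pullback e.π).obj ∧
      Set.range (Subobject.pullback e.π).obj =
        {Y : Subobject X | (Subobject.pullback p₁).obj Y = (Subobject.pullback p₂).obj Y} :=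
  subobject_pullback_quotient' e.isKernelPair inferInstance

end Subobj

end Groth.Agent.Lib.Helper9
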