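import Groth.Prelude.Def_QuotSh
import Groth.Agent.Lib.Helper9ShfQuot
import Mathlib.CategoryTheory.Sites.LocallyBijective
import Mathlib.CategoryTheory.Limits.Constructions.Over.Connected

set_option autoImplicit false

namespace Groth.Agent.Lib.Helper9

open CategoryTheory Limits AlgebraicGeometry Opposite

universe w v₁ u₁ u

section ToposLemmas

variable {E : Type*} [Category* E] [ToposLike E]

/-- If `q'` is an epimorphism with kernel pair `(p₁, p₂)` and `e₃ : hR ⟶ hP` is an epimorphism
onto the kernel pair, then `q'` is a coequalizer of `e₃ ≫ p₂` and `e₃ ≫ p₁`. -/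
lemma isIso_coequalizer_desc_of_epi {hR hU hM hP : E} (a b : hR ⟶ hU) (q' : hU ⟶ hM)
    (hq : Epi q') (p₁ p₂ : hP ⟶ hU) (hk : IsKernelPair q' p₁ p₂) (e₃ : hR ⟶ hP) (he : Epi e₃)
    (h1 : e₃ ≫ p₁ = b) (h2 : e₃ ≫ p₂ = a) (w : a ≫ q' = b ≫ q') :
    IsIso (coequalizer.desc q' w) := by
  have hπd : coequalizer.π a b ≫ coequalizer.desc q' w = q' := coequalizer.π_desc _ _
  have hepi : Epi (coequalizer.desc q' w) := by
    have : Epi (coequalizer.π a b ≫ coequalizer.desc q' w) := by rw [hπd]; exact hq
    exact epi_of_epi (coequalizer.π a b) _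
  have hmono : Mono (coequalizer.desc q' w) := by
    constructor
    intro W x y hxy
    obtain ⟨W', e', he', x', y', hx', hy'⟩ := ToposLike.exists_local_lift₂
      (coequalizer.π a b) inferInstance x y
    have h3 : x' ≫ q' = y' ≫ q' := by
      rw [← hπd, ← Category.assoc, ← Category.assoc, ← hx', ← hy', Category.assoc,
        Category.assoc, hxy]
    obtain ⟨l, hl₁, hl₂⟩ := hk.exists_lift x' y' h3
    obtain ⟨W'', e'', he'', r, hr⟩ := ToposLike.exists_local_lift' e₃ he l
    have h4 : (e'' ≫ x') ≫ coequalizer.π a b = (e'' ≫ y') ≫ coequalizer.π a b := by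
      have e1 : e'' ≫ x' = r ≫ b := by rw [← hl₁, ← Category.assoc, hr, Category.assoc, h1]
      have e2 : e'' ≫ y' = r ≫ a := by rw [← hl₂, ← Category.assoc, hr, Category.assoc, h2]
      rw [e1, e2, Category.assoc, Category.assoc, coequalizer.condition]
    rw [← cancel_epi e', hx', hy', ← cancel_epi e'']
    simpa only [Category.assoc] using h4
  exact ToposLike.isIso_of_mono_of_epi _ hmono hepi

/-- Descent of a morphism along an epimorphism with given kernel pair. -/
lemma existsUnique_desc_of_kernelPair {hZ hT hP Q : E} (p' : hZ ⟶ hT) (hp : Epi p')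
    (z₁ z₂ : hP ⟶ hZ) (hk : IsKernelPair p' z₁ z₂) (f : hZ ⟶ Q) (hf : z₁ ≫ f = z₂ ≫ f) :
    ∃! σ : hT ⟶ Q, f = p' ≫ σ := by
  obtain ⟨σ, hσ⟩ := ToposLike.exists_desc_of_epi p' hp f (by
    intro W a₁ a₂ ha
    obtain ⟨l, hl₁, hl₂⟩ := hk.exists_lift a₁ a₂ ha
    rw [← hl₁, ← hl₂, Category.assoc, Category.assoc, hf])
  refine ⟨σ, hσ.symm, fun σ' hσ' => ?_⟩
  rw [← cancel_epi p', hσ, ← hσ']

end ToposLemmas

section Yoneda

variable {C : Type u₁} [Category.{v₁} C] (J : GrothendieckTopology C)

/-- If the sieve generated by `p` is covering, then the induced map of representable presheaves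
is locally surjective. -/
lemma isLocallySurjective_yoneda_map {Z T : C} (p : Z ⟶ T)
    (hp : Sieve.generate (Presieve.singleton p) ∈ J T) :
    Presheaf.IsLocallySurjective J
      (Functor.whiskerRight (yoneda.map p) uliftFunctor.{w, v₁}) := by
  constructor
  intro V s
  refine J.superset_covering ?_ (J.pullback_stable s.down hp)
  rintro W g ⟨W', a, b, ⟨⟩, hab⟩
  exact ⟨⟨a⟩, by
    apply ULift.ext
    exact hab⟩

end Yoneda

section Rep

variable (K : Precoverage Scheme.{u}) (S : Scheme.{u})

/-- Functor form of `QuotSh.rep`. -/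
noncomputable def repFunctor : Over S ⥤ QuotSh.Sh K S :=
  yoneda ⋙ (Functor.whiskeringRight _ _ _).obj uliftFunctor.{u + 1, u} ⋙
    presheafToSheaf (QuotSh.J K S) (Type (u + 1))

lemma repFunctor_obj (V : Over S) : (repFunctor K S).obj V = QuotSh.rep K V := rfl

lemma repFunctor_map {V W : Over S} (g : V ⟶ W) : (repFunctor K S).map g = QuotSh.repMap K g :=
  rfl

instance : PreservesFiniteLimits (repFunctor K S) := by
  unfold repFunctor
  infer_instance

variable {S}

lemma repMap_comp {V W X : Over S} (f : V ⟶ W) (g : W ⟶ X) :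
    QuotSh.repMap K (f ≫ g) = QuotSh.repMap K f ≫ QuotSh.repMap K g :=
  (repFunctor K S).map_comp f g

lemma isPullback_repMap {P X Y Z : Over S} {f : P ⟶ X} {g : P ⟶ Y} {h : X ⟶ Z} {i : Y ⟶ Z}
    (H : IsPullback f g h i) :
    IsPullback (QuotSh.repMap K f) (QuotSh.repMap K g) (QuotSh.repMap K h)
      (QuotSh.repMap K i) :=
  Functor.map_isPullback (repFunctor K S) H

/-- `repMap` of a morphism generating a covering sieve is an epimorphism. -/
lemma epi_repMap_of_generate_mem {Z T : Over S} (p : Z ⟶ T)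
    (hp : Sieve.generate (Presieve.singleton p) ∈ QuotSh.J K S T) :
    Epi (QuotSh.repMap K p) := by
  have h1 := isLocallySurjective_yoneda_map.{u + 1} (QuotSh.J K S) p hp
  have h2 : Sheaf.IsLocallySurjective (QuotSh.repMap K p) :=
    (Presheaf.isLocallySurjective_presheafToSheaf_map_iff (QuotSh.J K S) _).2 h1
  infer_instance

end Rep

section QuotShLemmas

variable (K : Precoverage Scheme.{u}) {S : Scheme.{u}}

/-- The self-pullback of `q` in `Over S` built from the pullback of schemes. -/
lemma isPullback_over_selfPullback {U M : Over S} (q : U ⟶ M) :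
    IsPullback
      (Over.homMk (pullback.fst q.left q.left) rfl :
        Over.mk (pullback.fst q.left q.left ≫ U.hom) ⟶ U)
      (Over.homMk (pullback.snd q.left q.left) (by
        change pullback.snd q.left q.left ≫ U.hom = pullback.fst q.left q.left ≫ U.hom
        rw [← Over.w q, ← Category.assoc, ← Category.assoc, pullback.condition]) :
        Over.mk (pullback.fst q.left q.left ≫ U.hom) ⟶ U) q q := by
  refine IsPullback.of_map (Over.forget S) ?_ ?_
  · apply Over.OverMorphism.ext
    simp only [Over.comp_left, Over.homMk_left]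
    exact pullback.condition
  · exact IsPullback.of_hasPullback q.left q.left

theorem isQuotient_of_epi_repMap {R U M : Over S} (s t : R ⟶ U) (q : U ⟶ M)
    (w : s ≫ q = t ≫ q) (w' : t.left ≫ q.left = s.left ≫ q.left)
    (h₂ : Epi (QuotSh.repMap K q))
    (h₃ : Epi (QuotSh.repMap K (Over.homMk (pullback.lift t.left s.left w')
      (((Category.assoc _ _ _).symm.trans (congrArg (fun k => k ≫ U.hom)
        (pullback.lift_fst t.left s.left w'))).trans (Over.w t)) :
      R ⟶ Over.mk (pullback.fst q.left q.left ≫ U.hom)))) :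
    QuotSh.IsQuotient K s t q := by
  refine ⟨w, ?_⟩
  have hk := isPullback_repMap K (isPullback_over_selfPullback q)
  have w2 : QuotSh.repMap K s ≫ QuotSh.repMap K q = QuotSh.repMap K t ≫ QuotSh.repMap K q := by
    rw [← repMap_comp, ← repMap_comp, w]
  exact isIso_coequalizer_desc_of_epi (QuotSh.repMap K s) (QuotSh.repMap K t)
    (QuotSh.repMap K q) h₂ _ _ hk _ h₃
    (by
      rw [← repMap_comp]
      congr 1
      apply Over.OverMorphism.ext
      simp only [Over.comp_left, Over.homMk_left]
      exact pullback.lift_fst _ _ _)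
    (by
      rw [← repMap_comp]
      congr 1
      apply Over.OverMorphism.ext
      simp only [Over.comp_left, Over.homMk_left]
      exact pullback.lift_snd _ _ _) w2

end QuotShLemmas

section FppfCover

variable {S : Scheme.{u}}

lemma generate_singleton_mem_J_fppf {Z T : Over S} (p : Z ⟶ T) [Flat p.left]
    [Surjective p.left] [LocallyOfFinitePresentation p.left] :
    Sieve.generate (Presieve.singleton p) ∈ QuotSh.J Scheme.fppfPrecoverage S T := by
  rw [GrothendieckTopology.mem_over_iff]
  refine GrothendieckTopology.superset_covering _ ?_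
    (Precoverage.generate_mem_toGrothendieck p.left.singleton_mem_fppfPrecoverage)
  rintro W g ⟨W', a, b, ⟨⟩, rfl⟩
  rw [Sieve.overEquiv_iff]
  refine ⟨Z, Over.homMk a (by simp), p, ⟨⟩, ?_⟩
  apply Over.OverMorphism.ext
  simp

lemma epi_repMap_fppf {Z T : Over S} (p : Z ⟶ T) [Flat p.left]
    [Surjective p.left] [LocallyOfFinitePresentation p.left] :
    Epi (QuotSh.repMap Scheme.fppfPrecoverage p) :=
  epi_repMap_of_generate_mem _ p (generate_singleton_mem_J_fppf p)

/-- Descent of a section of the quotient sheaf along an fppf cover. -/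
theorem existsUnique_quotSection {R U : Over S} (s t : R ⟶ U) {T Z : Over S} (a : Z ⟶ U)
    (p : Z ⟶ T) [Flat p.left] [Surjective p.left] [LocallyOfFinitePresentation p.left]
    (hZZ : ∀ (T' : Over S) (z₁ z₂ : T' ⟶ Z), z₁ ≫ p = z₂ ≫ p →
      ∃ r : T' ⟶ R, r ≫ s = z₁ ≫ a ∧ r ≫ t = z₂ ≫ a) :
    ∃! σ : QuotSh.rep Scheme.fppfPrecoverage T ⟶ QuotSh.quot Scheme.fppfPrecoverage s t,
      QuotSh.repMap Scheme.fppfPrecoverage a ≫ QuotSh.quotπ Scheme.fppfPrecoverage s t =
        QuotSh.repMap Scheme.fppfPrecoverage p ≫ σ := by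
  have hk := isPullback_repMap Scheme.fppfPrecoverage (IsPullback.of_hasPullback p p)
  refine existsUnique_desc_of_kernelPair _ (epi_repMap_fppf p) _ _ hk _ ?_
  obtain ⟨r, hr₁, hr₂⟩ := hZZ _ (pullback.fst p p) (pullback.snd p p) pullback.condition
  rw [← Category.assoc, ← Category.assoc, ← repMap_comp, ← repMap_comp, ← hr₁, ← hr₂,
    repMap_comp, repMap_comp, Category.assoc, Category.assoc, QuotSh.quot_condition]

end FppfCover

end Groth.Agent.Lib.Helper9
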