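import Mathlib
import Groth.Agent.Lib.Helper6ReducedSmooth
import Groth.Agent.S10176
import Groth.Agent.S10177
import Groth.Prelude.Def_AlgSpSub

set_option autoImplicit false
universe u
open CategoryTheory CategoryTheory.Limits AlgebraicGeometry

open AlgSp

namespace Groth.Agent.Lib.Helper12.Reduced

/-- the source of a smooth morphism to a reduced scheme is reduced. -/
lemma isReduced_of_smooth {A B : Scheme.{u}} (g : A ⟶ B) [Smooth g] [IsReduced B] :
    IsReduced A := by
  haveI : ∀ a : A, _root_.IsReduced (A.presheaf.stalk a) := by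
    intro a
    obtain ⟨U, hU, hgx, -⟩ := TopologicalSpace.Opens.isBasis_iff_nbhd.mp B.isBasis_affineOpens
      (TopologicalSpace.Opens.mem_top (g a))
    obtain ⟨V, hV, haV, eV⟩ := TopologicalSpace.Opens.isBasis_iff_nbhd.mp A.isBasis_affineOpens
      (show a ∈ g ⁻¹ᵁ U from hgx)
    have hsm : (g.appLE U V eV).hom.Smooth :=
      HasRingHomProperty.appLE (P := @Smooth) g inferInstance ⟨U, hU⟩ ⟨V, hV⟩ eV
    algebraize [(g.appLE U V eV).hom]
    haveI : Algebra.Smooth Γ(B, U) Γ(A, V) := hsm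
    haveI : _root_.IsReduced Γ(A, V) :=
      Groth.Agent.Lib.Helper6.isReduced_of_smooth Γ(B, U) Γ(A, V)
    letI := A.presheaf.algebra_section_stalk (⟨a, haV⟩ : V)
    haveI := hV.isLocalization_stalk ⟨a, haV⟩
    exact isReduced_localizationPreserves (hV.primeIdealOf ⟨a, haV⟩).asIdeal.primeCompl _ inferInstance
  exact isReduced_of_isReduced_stalk A

/-- the target of a flat surjective morphism from a reduced scheme is reduced. -/
lemma isReduced_of_flat_of_surjective {A B : Scheme.{u}} (g : A ⟶ B) [Flat g] [Surjective g]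
    [IsReduced A] : IsReduced B := by
  haveI : ∀ b : B, _root_.IsReduced (B.presheaf.stalk b) := by
    intro b
    obtain ⟨a, rfl⟩ := g.surjective b
    have hfl : (g.stalkMap a).hom.Flat := Flat.stalkMap g a
    have hloc : IsLocalHom (g.stalkMap a).hom := inferInstance
    algebraize [(g.stalkMap a).hom]
    have : IsLocalHom (algebraMap (B.presheaf.stalk (g a)) (A.presheaf.stalk a)) := hloc
    haveI : Module.FaithfullyFlat (B.presheaf.stalk (g a)) (A.presheaf.stalk a) :=
      Module.FaithfullyFlat.of_flat_of_isLocalHom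
    exact isReduced_of_injective (algebraMap (B.presheaf.stalk (g a)) (A.presheaf.stalk a))
      (FaithfulSMul.algebraMap_injective _ _)
  exact isReduced_of_isReduced_stalk B

variable {S : Scheme.{u}}

/-- reducedness descends along flat surjective morphisms of algebraic spaces. -/
lemma isReducedSp_of_flat_surjective {X Y : AlgSp.Sp S} (hY : AlgSp.IsAlgSpace Y) (f : X ⟶ Y)
    (hfl : AlgSp.LocP @Flat f) (hs : AlgSp.IsSurjectiveMor f) (hX : AlgSp.IsReducedSp X) :
    AlgSp.IsReducedSp Y := by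
  obtain ⟨U, p, hpe, hps, hU⟩ := hX
  obtain ⟨V, q, hqe, hqs⟩ := hY.atlas
  obtain ⟨U', pr, h', sq⟩ := hqe.1 (p ≫ f)
  obtain ⟨h, rfl⟩ := (AlgSp.yon S).map_surjective h'
  haveI : Etale pr.left := hqe.2 _ _ pr sq
  haveI : IsReduced U.left := hU
  haveI : IsReduced U'.left := isReduced_of_smooth pr.left
  have hpre : AlgSp.RepWith @Etale ((AlgSp.yon S).map pr ≫ p) :=
    (AlgSp.RepWith @Etale).comp_mem _ _ ((AlgSp.repWith_yon_map_iff _ _).2 inferInstance) hpe
  haveI : Flat h.left := hfl _ q h hpre hqe (by rw [Category.assoc]; exact sq.w.symm)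
  haveI : Surjective h.left := by
    refine ⟨fun v => ?_⟩
    obtain ⟨x, hx⟩ := hs (AlgSp.Points.ofPt q v)
    obtain ⟨u, rfl⟩ := Groth.Agent.S10177.surjective_ofPt p hps x
    obtain ⟨y, hy1, hy2⟩ := Groth.Agent.S10176.exists_point_of_isPullback_yon sq v u hx.symm
    exact ⟨y, hy1⟩
  exact ⟨V, q, hqe, hqs, isReduced_of_flat_of_surjective h.left⟩

/-- the source of a smooth morphism to a reduced algebraic space is reduced. -/
lemma isReducedSp_of_smooth {X Y : AlgSp.Sp S} (hX : AlgSp.IsAlgSpace X) (f : X ⟶ Y)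
    (hf : AlgSp.LocP @Smooth f) (hY : AlgSp.IsReducedSp Y) : AlgSp.IsReducedSp X := by
  obtain ⟨V, q, hqe, hqs, hV⟩ := hY
  obtain ⟨U, p, hpe, hps⟩ := hX.atlas
  obtain ⟨U', pr, h', sq⟩ := hqe.1 (p ≫ f)
  obtain ⟨h, rfl⟩ := (AlgSp.yon S).map_surjective h'
  haveI : Etale pr.left := hqe.2 _ _ pr sq
  haveI : Surjective pr.left := hqs.2 _ _ pr sq
  have hpre : AlgSp.RepWith @Etale ((AlgSp.yon S).map pr ≫ p) :=
    (AlgSp.RepWith @Etale).comp_mem _ _ ((AlgSp.repWith_yon_map_iff _ _).2 inferInstance) hpe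
  have hprs : AlgSp.RepWith @Surjective ((AlgSp.yon S).map pr ≫ p) :=
    (AlgSp.RepWith @Surjective).comp_mem _ _ ((AlgSp.repWith_yon_map_iff _ _).2 inferInstance) hps
  haveI : Smooth h.left := hf _ q h hpre hqe (by rw [Category.assoc]; exact sq.w.symm)
  haveI : IsReduced V.left := hV
  exact ⟨U', _, hpre, hprs, isReduced_of_smooth h.left⟩

end Groth.Agent.Lib.Helper12.Reduced
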