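import Groth.Agent.Lib.Helper10WeilPt
import Groth.Agent.Lib.Helper12Reduced

/-!
# Weil cohomology: the class of the generic point is `1`
-/

universe u v

open AlgebraicGeometry CategoryTheory CategoryTheory.Limits

namespace Groth.Agent.Lib.Helper10.WeilPt

variable {k : Type u} [Field k] [IsAlgClosed k] {K : Type v} [Field K] [CharZero K]
  (T : WeilCoh.Theory k K) (X : WeilCoh.Var k)

instance isReduced_var : IsReduced X.obj.left := by
  haveI : Smooth X.obj.hom := X.property.1
  exact Groth.Agent.Lib.Helper12.Reduced.isReduced_of_smooth X.obj.hom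

instance irreducibleSpace_var : IrreducibleSpace X.obj.left := X.property.2.2

instance isIntegral_var : IsIntegral X.obj.left :=
  isIntegral_of_irreducibleSpace_of_isReduced _

lemma pdim_genericPoint : WeilCoh.pdim X.obj.left (genericPoint X.obj.left) = WeilCoh.dim X.obj.left := by
  unfold WeilCoh.pdim WeilCoh.dim WeilCoh.natDim
  have h : closure ({genericPoint X.obj.left} : Set X.obj.left) = Set.univ :=
    (genericPoint_spec X.obj.left).def
  rw [h]
  rw [IsHomeomorph.topologicalKrullDim_eq _ (Homeomorph.Set.univ X.obj.left).isHomeomorph]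

lemma length_quot_eq_one_of_field {O : Type*} [Field O] (I : Ideal O) (hI : I ≠ ⊤) :
    Module.length O (O ⧸ I) = 1 := by
  rw [Module.length_eq_one_iff, isSimpleModule_iff_isCoatom]
  have : I = ⊥ := (Ideal.eq_bot_or_top I).resolve_right hI
  subst this
  exact Ideal.isMaximal_def.mp Ideal.bot_isMaximal

lemma preimMult_generic (ξ : (pt k).obj.left)
    (h : WeilCoh.sm (toPt k X) (genericPoint X.obj.left) ∈ closure ({ξ} : Set (pt k).obj.left)) :
    WeilCoh.preimMult (WeilCoh.sm (toPt k X)) ξ (genericPoint X.obj.left) h = 1 := by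
  unfold WeilCoh.preimMult
  rw [length_quot_eq_one_of_field]
  · rfl
  · intro htop
    set φ := ((WeilCoh.sm (toPt k X)).stalkMap (genericPoint X.obj.left)).hom with hφ
    set J := RingHom.ker (Cyc.specMap (WeilCoh.sm (toPt k X) (genericPoint X.obj.left)) ξ
      (specializes_iff_mem_closure.mpr h)) with hJ
    have hJ' : J ≤ IsLocalRing.maximalIdeal _ := IsLocalRing.le_maximalIdeal (RingHom.ker_ne_top _)
    have hloc : IsLocalHom φ := by rw [hφ]; infer_instance
    have h2 : Ideal.map φ (IsLocalRing.maximalIdeal _) ≤ IsLocalRing.maximalIdeal _ :=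
      ((IsLocalRing.local_hom_TFAE φ).out 0 2).mp hloc
    have h1 : Ideal.map φ J ≤ IsLocalRing.maximalIdeal _ := (Ideal.map_mono hJ').trans h2
    rw [htop] at h1
    exact (IsLocalRing.maximalIdeal.isMaximal _).ne_top (top_le_iff.mp h1)

omit [IsAlgClosed k] in
lemma isCompPt_iff (F : Set X.obj.left) (hF : ∀ w, w ∈ F) (w : X.obj.left) :
    WeilCoh.IsCompPt F w ↔ w = genericPoint X.obj.left := by
  constructor
  · intro h
    exact (h.2 _ (hF _) (genericPoint_specializes w)).symm
  · rintro rfl
    refine ⟨hF _, fun w' _ hw' => ?_⟩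
    exact (hw'.antisymm (genericPoint_specializes w')).eq

/-- S15443. -/
theorem cl_generic : T.cl X (genericPoint X.obj.left) = 1 := by
  classical
  set f := toPt k X with hf
  set η := genericPoint X.obj.left with hη
  set ξ : (pt k).obj.left := WeilCoh.sm f η with hξ
  haveI : Subsingleton (pt k).obj.left := by
    change Subsingleton (PrimeSpectrum k); infer_instance
  have hF : ∀ w : X.obj.left,
      w ∈ (WeilCoh.sm f) ⁻¹' closure ({ξ} : Set (pt k).obj.left) := by
    intro w
    have : WeilCoh.sm f w = ξ := Subsingleton.elim _ _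
    rw [Set.mem_preimage, this]
    exact subset_closure rfl
  have hcomp := isCompPt_iff X _ hF
  have hξclosed : IsClosed ({ξ} : Set (pt k).obj.left) := by
    have : ({ξ} : Set (pt k).obj.left) = Set.univ := by
      ext y; simp [Subsingleton.elim y ξ]
    rw [this]; exact isClosed_univ
  have key := T.cl_pull f ξ (by
      intro w hw
      rw [(hcomp w).1 hw, pdim_genericPoint, pdim_eq_zero_of_isClosed ξ hξclosed, dim_pt]
      simp) (Or.inr (by
      intro w hw
      obtain rfl := (hcomp w).1 hw
      exact preimMult_generic X ξ _))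
  rw [cl_pt, map_one] at key
  letI : Unique {w : X.obj.left //
      WeilCoh.IsCompPt ((WeilCoh.sm f) ⁻¹' closure ({ξ} : Set (pt k).obj.left)) w} :=
    ⟨⟨⟨η, (hcomp η).2 rfl⟩⟩, fun w => Subtype.ext ((hcomp w.1).1 w.2)⟩
  rw [finsum_unique] at key
  change 1 = ((WeilCoh.preimMult (WeilCoh.sm f) ξ η (hF η) : ℕ) : K) • T.cl X η at key
  rw [preimMult_generic X ξ _, Nat.cast_one, one_smul] at key
  exact key.symm

end Groth.Agent.Lib.Helper10.WeilPt
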