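import Groth.Agent.Lib.Helper10WeilPush

/-!
# Weil cohomology: the graph correspondence
-/

universe u v w

open AlgebraicGeometry CategoryTheory CategoryTheory.Limits

namespace Groth.Agent.Lib.Helper10.WeilPt

section Sect

/-- A morphism with a retraction has residue degree one everywhere. -/
lemma residueDegree_eq_one_of_section {X P : Scheme.{u}} (s : X ⟶ P) (r : P ⟶ X)
    (h : s ≫ r = 𝟙 X) (x : X) : s.residueDegree x = 1 := by
  have h1 := Scheme.Hom.residueFieldMap_congr h x
  rw [Scheme.residueFieldMap_comp, Scheme.residueFieldMap_id] at h1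
  have hsurj : Function.Surjective (s.residueFieldMap x).hom := by
    intro y
    set e := X.residueFieldCongr (show (s ≫ r) x = (𝟙 X : X ⟶ X) x by rw [h]) with he
    refine ⟨(r.residueFieldMap (s x)).hom (e.inv.hom y), ?_⟩
    have := congrArg (fun φ => φ.hom (e.inv.hom y)) h1
    refine this.trans ?_
    have h2 : e.inv ≫ e.hom = 𝟙 _ := e.inv_hom_id
    have h3 := congrArg (fun φ => φ.hom y) h2
    exact h3
  unfold Scheme.Hom.residueDegree
  letI := (s.residueFieldMap x).hom.toAlgebra
  have hbij : Function.Bijective (Algebra.linearMap (P.residueField (s x))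
      (X.residueField x)) :=
    ⟨(s.residueFieldMap x).hom.injective, hsurj⟩
  rw [← (LinearEquiv.ofBijective _ hbij).finrank_eq]
  exact Module.finrank_self _

end Sect

section Graph

variable {k : Type u} [Field k] [IsAlgClosed k] {K : Type v} [Field K] [CharZero K]
  (T : WeilCoh.Theory k K)

/-- the dimension of the image of the generic point under a section -/
lemma pdim_section {X P : WeilCoh.Var k} (j : X ⟶ P) (p : P ⟶ X) (hjp : j ≫ p = 𝟙 X) :
    WeilCoh.pdim P.obj.left (WeilCoh.sm j (genericPoint X.obj.left)) = WeilCoh.dim X.obj.left := by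
  have h1 : WeilCoh.sm j ≫ WeilCoh.sm p = 𝟙 X.obj.left := by
    have := congrArg (fun φ => WeilCoh.sm φ) hjp
    exact this
  have hr := residueDegree_eq_one_of_section _ _ h1 (genericPoint X.obj.left)
  rw [pdim_eq_of_residueDegree_ne_zero j _ (by rw [hr]; exact one_ne_zero), pdim_genericPoint]

/-- trace against the class of the image of a section -/
lemma tr_cl_section_mul {X P : WeilCoh.Var k} (j : X ⟶ P) (p : P ⟶ X) (hjp : j ≫ p = 𝟙 X)
    (a : T.H P) (ha : a ∈ T.gr P (2 * (WeilCoh.dim X.obj.left : ℤ))) :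
    T.tr P (T.cl P (WeilCoh.sm j (genericPoint X.obj.left)) * a) = T.tr X (T.pull j a) := by
  have h1 : WeilCoh.sm j ≫ WeilCoh.sm p = 𝟙 X.obj.left := by
    have := congrArg (fun φ => WeilCoh.sm φ) hjp
    exact this
  have hr := residueDegree_eq_one_of_section _ _ h1 (genericPoint X.obj.left)
  have := T.cl_push j (genericPoint X.obj.left) a (by rwa [pdim_genericPoint])
  rw [hr, Nat.cast_one, one_mul, cl_generic, one_mul] at this
  exact this.symm

/-- S15464. -/
theorem push_graph {X Y P : WeilCoh.Var k} (f : X ⟶ Y) (p : P ⟶ X) (q : P ⟶ Y)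
    (j : X ⟶ P) (hjp : j ≫ p = 𝟙 X) (hjq : j ≫ q = f) (i : ℤ) (β : ↥(T.gr Y i)) :
    (T.push p (2 * (WeilCoh.codim P.obj.left (WeilCoh.sm j (genericPoint ↥X.obj.left)) : ℤ) + i)
        ⟨T.cl P (WeilCoh.sm j (genericPoint ↥X.obj.left)) * T.pull q (β : T.H Y),
          SetLike.mul_mem_graded (T.cl_mem P (WeilCoh.sm j (genericPoint ↥X.obj.left)))
            (T.pull_mem q i β β.2)⟩ : T.H X) = T.pull f (β : T.H Y) := by
  set ζ := WeilCoh.sm j (genericPoint ↥X.obj.left) with hζ
  have hc := cast_codim P ζ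
  rw [pdim_section j p hjp] at hc
  have hmem : T.pull f (β : T.H Y) ∈ T.gr X (2 * (WeilCoh.codim P.obj.left ζ : ℤ) + i +
      2 * (WeilCoh.dim X.obj.left : ℤ) - 2 * (WeilCoh.dim P.obj.left : ℤ)) := by
    have : 2 * (WeilCoh.codim P.obj.left ζ : ℤ) + i +
      2 * (WeilCoh.dim X.obj.left : ℤ) - 2 * (WeilCoh.dim P.obj.left : ℤ) = i := by
      rw [hc]; ring
    rw [this]
    exact T.pull_mem f i β β.2
  have h0 : T.push p (2 * (WeilCoh.codim P.obj.left ζ : ℤ) + i)
      ⟨T.cl P ζ * T.pull q (β : T.H Y), SetLike.mul_mem_graded (T.cl_mem P ζ)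
        (T.pull_mem q i β β.2)⟩ = ⟨_, hmem⟩ := by
    apply push_eq_of_forall
    intro b hb
    have hdeg : 2 * (WeilCoh.dim P.obj.left : ℤ) - (2 * (WeilCoh.codim P.obj.left ζ : ℤ) + i) =
        2 * (WeilCoh.dim X.obj.left : ℤ) - i := by rw [hc]; ring
    rw [hdeg] at hb
    have ha : T.pull q (β : T.H Y) * T.pull p b ∈ T.gr P (2 * (WeilCoh.dim X.obj.left : ℤ)) := by
      have := SetLike.mul_mem_graded (T.pull_mem q i β β.2) (T.pull_mem p _ b hb)
      have e : i + (2 * (WeilCoh.dim X.obj.left : ℤ) - i) = 2 * (WeilCoh.dim X.obj.left : ℤ) := by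
        ring
      rwa [e] at this
    change T.tr X (T.pull f (β : T.H Y) * b) = T.tr P (T.cl P ζ * T.pull q (β : T.H Y) * T.pull p b)
    rw [mul_assoc, tr_cl_section_mul T j p hjp _ ha, map_mul (T.pull j)]
    have e1 : T.pull j (T.pull q (β : T.H Y)) = T.pull f (β : T.H Y) := by
      rw [← hjq, T.pull_comp]; rfl
    have e2 : T.pull j (T.pull p b) = b := by
      have := T.pull_comp j p
      rw [hjp, T.pull_id] at this
      exact (congrArg (fun φ => φ b) this).symm
    rw [e1, e2]
  rw [h0]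

end Graph

end Groth.Agent.Lib.Helper10.WeilPt
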