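import Groth.Agent.Lib.Helper10WeilProd

/-!
# Weil cohomology: Künneth formula for the class of a graph, Lefschetz trace formula
-/

universe u v w

open AlgebraicGeometry CategoryTheory CategoryTheory.Limits

namespace Groth.Agent.Lib.Helper10.WeilPt

section NonDeg

variable {k : Type u} [Field k] {P : ObjectProperty (Over (Spec (CommRingCat.of k)))}
  {K : Type v} [Field K] (T : WeilCoh.TheoryOn.{u, v, w} k P K)

/-- Nondegeneracy of the trace pairing on the total cohomology ring. -/
lemma eq_zero_of_forall_tr_mul (X : P.FullSubcategory) (z : T.H X)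
    (h : ∀ a, T.tr X (z * a) = 0) : z = 0 := by
  classical
  letI := (T.decomp X).chooseDecomposition
  have hz := DirectSum.sum_support_decompose (T.gr X) z
  have hcomp : ∀ i₀ : ℤ, ((DirectSum.decompose (T.gr X) z i₀ : T.gr X i₀) : T.H X) = 0 := by
    intro i₀
    set zi := DirectSum.decompose (T.gr X) z i₀ with hzi
    haveI hperf := T.duality X i₀ (2 * (WeilCoh.dim X.obj.left : ℤ) - i₀) (by ring)
    have hinj := hperf.bijective_left.injective
    have : zi = 0 := by
      apply hinj
      rw [map_zero]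
      ext y
      change T.tr X ((zi : T.H X) * (y : T.H X)) = 0
      have h1 := h (y : T.H X)
      rw [← hz, Finset.sum_mul, map_sum] at h1
      rw [Finset.sum_eq_single i₀] at h1
      · exact h1
      · intro i _ hi
        apply T.tr_vanish X (i + (2 * (WeilCoh.dim X.obj.left : ℤ) - i₀)) _
          (SetLike.mul_mem_graded (DirectSum.decompose (T.gr X) z i).2 y.2)
        omega
      · intro hi
        rw [DFinsupp.notMem_support_iff] at hi
        rw [hi]; simp
    rw [this]; rfl
  rw [← hz]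
  exact Finset.sum_eq_zero fun i _ => hcomp i

lemma eq_of_forall_tr_mul (X : P.FullSubcategory) (x y : T.H X)
    (h : ∀ a, T.tr X (x * a) = T.tr X (y * a)) : x = y := by
  rw [← sub_eq_zero]
  apply eq_zero_of_forall_tr_mul T X
  intro a
  rw [sub_mul, map_sub, h a, sub_self]

end NonDeg

section Kunneth

variable {k : Type u} [Field k] [IsAlgClosed k] {K : Type v} [Field K] [CharZero K]
  (T : WeilCoh.Theory k K)

lemma eq_zero_of_mem_of_lt {X : WeilCoh.Var k} (A : T.H X) (α : ℤ) (hA : A ∈ T.gr X α)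
    (h : α < 0 ∨ 2 * (WeilCoh.dim X.obj.left : ℤ) < α) : A = 0 := by
  rw [T.vanish X α h] at hA
  exact (Submodule.mem_bot K).mp hA

/-- multiplicativity of the trace on a product, homogeneous classes of any degree -/
lemma tr_prod_hom {X Y Q : WeilCoh.Var k} (p : Q ⟶ X) (q : Q ⟶ Y) (hP : WeilCoh.IsProd p q)
    (A : T.H X) (B : T.H Y) (α β : ℤ) (hA : A ∈ T.gr X α) (hB : B ∈ T.gr Y β) :
    T.tr Q (T.pull p A * T.pull q B) = T.tr X A * T.tr Y B := by
  have hd := dim_prod p q hP
  have hmem := SetLike.mul_mem_graded (T.pull_mem p α A hA) (T.pull_mem q β B hB)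
  by_cases h1 : α = 2 * (WeilCoh.dim X.obj.left : ℤ)
  · by_cases h2 : β = 2 * (WeilCoh.dim Y.obj.left : ℤ)
    · subst h1 h2; exact T.tr_prod p q hP A B hA hB
    · rw [T.tr_vanish Y β B hB h2, mul_zero]
      apply T.tr_vanish Q (α + β) _ hmem
      rw [hd]; push_cast; omega
  · rw [T.tr_vanish X α A hA h1, zero_mul]
    by_cases h3 : α + β = 2 * (WeilCoh.dim Q.obj.left : ℤ)
    · rw [hd] at h3; push_cast at h3
      rcases lt_or_gt_of_ne h1 with h | h
      · have : B = 0 := eq_zero_of_mem_of_lt T B β hB (Or.inr (by omega))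
        rw [this, map_zero, mul_zero, map_zero]
      · have : A = 0 := eq_zero_of_mem_of_lt T A α hA (Or.inr (by omega))
        rw [this, map_zero, zero_mul, map_zero]
    · exact T.tr_vanish Q (α + β) _ hmem h3

/-- multiplicativity of the trace on a product, arbitrary classes -/
lemma tr_prod_all {X Y Q : WeilCoh.Var k} (p : Q ⟶ X) (q : Q ⟶ Y) (hP : WeilCoh.IsProd p q)
    (A : T.H X) (B : T.H Y) :
    T.tr Q (T.pull p A * T.pull q B) = T.tr X A * T.tr Y B := by
  refine Submodule.iSup_induction (T.gr X) (motive := fun A => ∀ B,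
    T.tr Q (T.pull p A * T.pull q B) = T.tr X A * T.tr Y B) (mem_iSup_gr T X A) ?_ ?_ ?_ B
  · intro α A hA B
    refine Submodule.iSup_induction (T.gr Y) (motive := fun B =>
      T.tr Q (T.pull p A * T.pull q B) = T.tr X A * T.tr Y B) (mem_iSup_gr T Y B) ?_ ?_ ?_
    · intro β B hB
      exact tr_prod_hom T p q hP A B α β hA hB
    · simp
    · intro x y hx hy
      rw [map_add, mul_add, map_add, hx, hy, map_add, mul_add]
  · intro B; simp
  · intro x y hx hy B
    rw [map_add, add_mul, map_add, hx B, hy B, map_add, add_mul]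

end Kunneth

section Graph

variable {k : Type u} [Field k] [IsAlgClosed k] {K : Type v} [Field K] [CharZero K]
  (T : WeilCoh.Theory k K)

lemma neg_one_pow_congr {m t N : ℕ} (h : m + t = 2 * N) :
    (-1 : K) ^ (m * m) = (-1 : K) ^ (m * t) := by
  rcases Nat.even_or_odd m with hm | hm
  · rw [Even.neg_one_pow (hm.mul_right m), Even.neg_one_pow (hm.mul_right t)]
  · have ht : Odd t := by
      by_contra hte
      rw [Nat.not_odd_iff_even] at hte
      have : Odd (m + t) := hm.add_even hte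
      rw [h] at this
      exact (Nat.not_odd_iff_even.mpr (even_two_mul N)) this
    rw [Odd.neg_one_pow (hm.mul hm), Odd.neg_one_pow (hm.mul ht)]

variable {X P : WeilCoh.Var k} (φ : X ⟶ X) (p q : P ⟶ X) (hP : WeilCoh.IsProd p q)
  (ι : ℕ → Type) [∀ r, Fintype (ι r)] [∀ r, DecidableEq (ι r)]
  (e : (r : ℕ) → Module.Basis (ι r) K ↥(T.gr X (r : ℤ)))
  (f : (r : ℕ) → ι r → ↥(T.gr X (2 * (WeilCoh.dim X.obj.left : ℤ) - r)))
  (hef : ∀ r, r ≤ 2 * WeilCoh.dim X.obj.left → ∀ i l : ι r,
    T.tr X ((f r l : T.H X) * (e r i : T.H X)) = if i = l then 1 else 0)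

include hef in
/-- dual basis expansion -/
lemma sum_tr_mul_tr (r : ℕ) (hr : r ≤ 2 * WeilCoh.dim X.obj.left) (u : T.H X)
    (v : T.H X) (hv : v ∈ T.gr X (r : ℤ)) :
    ∑ i : ι r, T.tr X (T.pull φ (e r i : T.H X) * u) * T.tr X ((f r i : T.H X) * v) =
      T.tr X (T.pull φ v * u) := by
  have hv' : v = ∑ l : ι r, ((e r).repr ⟨v, hv⟩ l) • ((e r l : T.gr X (r : ℤ)) : T.H X) := by
    have := (e r).sum_repr ⟨v, hv⟩
    have h2 := congrArg (fun w : T.gr X (r : ℤ) => (w : T.H X)) this
    simp only [Submodule.coe_sum, Submodule.coe_smul] at h2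
    exact h2.symm
  have hc : ∀ i : ι r, T.tr X ((f r i : T.H X) * v) = (e r).repr ⟨v, hv⟩ i := by
    intro i
    conv_lhs => rw [hv']
    rw [Finset.mul_sum, map_sum]
    simp_rw [mul_smul_comm, map_smul, smul_eq_mul, hef r hr]
    simp
  simp_rw [hc]
  conv_rhs => rw [hv']
  rw [map_sum, Finset.sum_mul, map_sum]
  refine Finset.sum_congr rfl fun i _ => ?_
  rw [map_smul, smul_mul_assoc, map_smul, smul_eq_mul, mul_comm]

include hP hef in
/-- the homogeneous computation -/
lemma key_hom (s t : ℤ) (u v : T.H X) (hu : u ∈ T.gr X s) (hv : v ∈ T.gr X t) :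
    T.tr X (u * T.pull φ v) =
      ∑ r ∈ Finset.range (2 * WeilCoh.dim X.obj.left + 1), ∑ i : ι r,
        T.tr P (T.pull p (T.pull φ (e r i : T.H X)) * T.pull q (f r i : T.H X) *
          (T.pull p u * T.pull q v)) := by
  -- each term
  have hterm : ∀ (r : ℕ) (i : ι r),
      T.tr P (T.pull p (T.pull φ (e r i : T.H X)) * T.pull q (f r i : T.H X) *
          (T.pull p u * T.pull q v)) =
        (-1 : K) ^ ((2 * (WeilCoh.dim X.obj.left : ℤ) - r).natAbs * s.natAbs) *
          (T.tr X (T.pull φ (e r i : T.H X) * u) * T.tr X ((f r i : T.H X) * v)) := by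
    intro r i
    have hcomm := T.gradedComm P (2 * (WeilCoh.dim X.obj.left : ℤ) - r) s (T.pull q (f r i : T.H X)) (T.pull p u)
      (T.pull_mem q _ _ (f r i).2) (T.pull_mem p _ _ hu)
    have : T.pull p (T.pull φ (e r i : T.H X)) * T.pull q (f r i : T.H X) *
          (T.pull p u * T.pull q v) =
        (-1 : K) ^ ((2 * (WeilCoh.dim X.obj.left : ℤ) - r).natAbs * s.natAbs) •
          (T.pull p (T.pull φ (e r i : T.H X) * u) * T.pull q ((f r i : T.H X) * v)) := by
      rw [mul_assoc, ← mul_assoc (T.pull q (f r i : T.H X)), hcomm, map_mul, map_mul]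
      simp only [smul_mul_assoc, mul_smul_comm, mul_assoc]
    rw [this, map_smul, smul_eq_mul, tr_prod_all T p q hP]
  refine Eq.trans ?_ (Finset.sum_congr rfl fun r _ => Finset.sum_congr rfl fun i _ =>
    (hterm r i).symm)
  by_cases ht : ∃ t' : ℕ, t = (t' : ℤ) ∧ t' ≤ 2 * WeilCoh.dim X.obj.left
  · obtain ⟨t', rfl, ht'⟩ := ht
    rw [Finset.sum_eq_single t']
    · rw [← Finset.mul_sum, sum_tr_mul_tr T φ ι e f hef t' ht' u v hv]
      have hcomm := T.gradedComm X s t' u (T.pull φ v) hu (T.pull_mem φ _ _ hv)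
      rw [hcomm, map_smul, smul_eq_mul]
      by_cases hst : (t' : ℤ) + s = 2 * (WeilCoh.dim X.obj.left : ℤ)
      · have hs : s = ((2 * WeilCoh.dim X.obj.left - t' : ℕ) : ℤ) := by omega
        subst hs
        have e1 : (2 * (WeilCoh.dim X.obj.left : ℤ) - (t' : ℤ)).natAbs = 2 * WeilCoh.dim X.obj.left - t' := by omega
        rw [e1, Int.natAbs_natCast, Int.natAbs_natCast,
          neg_one_pow_congr (K := K) (m := 2 * WeilCoh.dim X.obj.left - t') (t := t') (N := WeilCoh.dim X.obj.left) (by omega)]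
      · rw [T.tr_vanish X ((t' : ℤ) + s) _
          (SetLike.mul_mem_graded (T.pull_mem φ _ _ hv) hu) hst, mul_zero, mul_zero]
    · intro r _ hr
      refine Finset.sum_eq_zero fun i _ => ?_
      rw [T.tr_vanish X (2 * (WeilCoh.dim X.obj.left : ℤ) - r + t') _ (SetLike.mul_mem_graded (f r i).2 hv)
        (by omega), mul_zero, mul_zero]
    · intro h
      exact absurd (Finset.mem_range.mpr (by omega)) h
  · have hv0 : v = 0 := by
      apply eq_zero_of_mem_of_lt T v t hv
      by_contra hcon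
      push Not at hcon
      exact ht ⟨t.toNat, by omega, by omega⟩
    subst hv0
    simp

include hP hef in
/-- S15451. -/
theorem cl_graph_eq (j : X ⟶ P) (hjp : j ≫ p = 𝟙 X) (hjq : j ≫ q = φ) :
    T.cl P (WeilCoh.sm j (genericPoint ↥X.obj.left)) =
      ∑ r ∈ Finset.range (2 * WeilCoh.dim X.obj.left + 1), ∑ i : ι r,
        T.pull p (T.pull φ (e r i : T.H X)) * T.pull q (f r i : T.H X) := by
  apply eq_of_forall_tr_mul T P
  intro a
  obtain ⟨w, rfl⟩ := (T.kunneth p q hP).2 a
  induction w using TensorProduct.induction_on with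
  | zero => simp
  | tmul u v =>
    change T.tr P (_ * (T.pull p u * T.pull q v)) = T.tr P (_ * (T.pull p u * T.pull q v))
    rw [tr_cl_section_mul' T j p hjp, cl_generic, one_mul, map_mul, pull_pull, pull_pull,
      pull_of_eq_id T _ hjp, hjq, Finset.sum_mul, map_sum]
    simp_rw [Finset.sum_mul, map_sum]
    -- reduce to homogeneous `u`, `v`
    refine Submodule.iSup_induction (T.gr X) (motive := fun u => ∀ v,
      T.tr X (u * T.pull φ v) =
      ∑ r ∈ Finset.range (2 * WeilCoh.dim X.obj.left + 1), ∑ i : ι r,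
        T.tr P (T.pull p (T.pull φ (e r i : T.H X)) * T.pull q (f r i : T.H X) *
          (T.pull p u * T.pull q v))) (mem_iSup_gr T X u) ?_ ?_ ?_ v
    · intro s u hu v
      refine Submodule.iSup_induction (T.gr X) (motive := fun v =>
        T.tr X (u * T.pull φ v) =
        ∑ r ∈ Finset.range (2 * WeilCoh.dim X.obj.left + 1), ∑ i : ι r,
          T.tr P (T.pull p (T.pull φ (e r i : T.H X)) * T.pull q (f r i : T.H X) *
            (T.pull p u * T.pull q v))) (mem_iSup_gr T X v) ?_ ?_ ?_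
      · intro t v hv
        exact key_hom T φ p q hP ι e f hef s t u v hu hv
      · simp
      · intro x y hx hy
        simp only [map_add, mul_add, Finset.sum_add_distrib]
        rw [hx, hy]
    · intro v; simp
    · intro x y hx hy v
      simp only [map_add, add_mul, mul_add, Finset.sum_add_distrib]
      rw [hx v, hy v]
  | add x y hx hy =>
    rw [map_add, mul_add, map_add, hx, hy, mul_add, map_add]

include hef in
/-- pairing with the dual family reads off coordinates -/
lemma tr_dual_mul (r : ℕ) (hr : r ≤ 2 * WeilCoh.dim X.obj.left) (i : ι r)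
    (v : T.H X) (hv : v ∈ T.gr X (r : ℤ)) :
    T.tr X ((f r i : T.H X) * v) = (e r).repr ⟨v, hv⟩ i := by
  have hv' : v = ∑ l : ι r, ((e r).repr ⟨v, hv⟩ l) • ((e r l : T.gr X (r : ℤ)) : T.H X) := by
    have := (e r).sum_repr ⟨v, hv⟩
    have h2 := congrArg (fun w : T.gr X (r : ℤ) => (w : T.H X)) this
    simp only [Submodule.coe_sum, Submodule.coe_smul] at h2
    exact h2.symm
  conv_lhs => rw [hv']
  rw [Finset.mul_sum, map_sum]
  simp_rw [mul_smul_comm, map_smul, smul_eq_mul, hef r hr]
  simp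

end Graph

section Trace

variable {k : Type u} [Field k] [IsAlgClosed k] {K : Type v} [Field K] [CharZero K]
  (T : WeilCoh.Theory k K)

/-- existence of a basis of each `H^r` with a Poincaré dual family -/
lemma exists_dual_family (X : WeilCoh.Var k) :
    ∃ (ι : ℕ → Type) (_ : ∀ r, Fintype (ι r)) (_ : ∀ r, DecidableEq (ι r))
      (e : (r : ℕ) → Module.Basis (ι r) K ↥(T.gr X (r : ℤ)))
      (f : (r : ℕ) → ι r → ↥(T.gr X (2 * (WeilCoh.dim X.obj.left : ℤ) - r))),
      ∀ r, r ≤ 2 * WeilCoh.dim X.obj.left → ∀ i l : ι r,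
        T.tr X ((f r l : T.H X) * (e r i : T.H X)) = if i = l then 1 else 0 := by
  classical
  refine ⟨fun r => Fin (Module.finrank K ↥(T.gr X (r : ℤ))), fun r => inferInstance,
    fun r => inferInstance, fun r => Module.finBasis K ↥(T.gr X (r : ℤ)), ?_⟩
  have hperf : ∀ r : ℕ, (WeilCoh.pairing K (T.gr X (2 * (WeilCoh.dim X.obj.left : ℤ) - r))
      (T.gr X (r : ℤ)) (T.tr X)).IsPerfPair := fun r => T.duality X _ _ (by ring)
  refine ⟨fun r l => (hperf r).bijective_left.surjective
    ((Module.finBasis K ↥(T.gr X (r : ℤ))).coord l) |>.choose, ?_⟩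
  intro r _ i l
  have h := ((hperf r).bijective_left.surjective
    ((Module.finBasis K ↥(T.gr X (r : ℤ))).coord l)).choose_spec
  have h2 := congrArg (fun ψ => ψ (Module.finBasis K ↥(T.gr X (r : ℤ)) i)) h
  simp only [Module.Basis.coord_apply, Module.Basis.repr_self, Finsupp.single_apply] at h2
  exact h2

/-- S15450: the Lefschetz trace formula. -/
theorem lefschetz {X P : WeilCoh.Var k} (φ : X ⟶ X) (p q : P ⟶ X) (hP : WeilCoh.IsProd p q)
    (j d : X ⟶ P) (hjp : j ≫ p = 𝟙 X) (hjq : j ≫ q = φ) (hdp : d ≫ p = 𝟙 X)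
    (hdq : d ≫ q = 𝟙 X) :
    T.tr P (T.cl P (WeilCoh.sm j (genericPoint ↥X.obj.left)) *
        T.cl P (WeilCoh.sm d (genericPoint ↥X.obj.left))) =
      ∑ i ∈ Finset.range (2 * WeilCoh.dim X.obj.left + 1),
        (-1 : K) ^ i * LinearMap.trace K ↥(T.gr X (i : ℤ)) (T.pullDeg φ (i : ℤ)) := by
  obtain ⟨ι, _, _, e, f, hef⟩ := exists_dual_family T X
  rw [mul_comm_of_even T P _ _ (T.cl_mem P _), tr_cl_section_mul' T d p hdp, cl_generic, one_mul,
    cl_graph_eq T φ p q hP ι e f hef j hjp hjq, map_sum, map_sum]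
  refine Finset.sum_congr rfl fun r hr => ?_
  have hr' : r ≤ 2 * WeilCoh.dim X.obj.left := by
    have := Finset.mem_range.mp hr; omega
  rw [map_sum, map_sum, LinearMap.trace_eq_matrix_trace K (e r), Matrix.trace, Finset.mul_sum]
  refine Finset.sum_congr rfl fun i _ => ?_
  have e3 : T.pull d (T.pull p (T.pull φ (e r i : T.H X))) = T.pull φ (e r i : T.H X) := by
    rw [pull_pull T d p, pull_of_eq_id T _ hdp]
  have e4 : T.pull d (T.pull q (f r i : T.H X)) = (f r i : T.H X) := by
    rw [pull_pull T d q, pull_of_eq_id T _ hdq]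
  rw [map_mul, e3, e4]
  have hmem : T.pull φ (e r i : T.H X) ∈ T.gr X (r : ℤ) := T.pull_mem φ _ _ (e r i).2
  rw [T.gradedComm X r (2 * (WeilCoh.dim X.obj.left : ℤ) - r) _ _ hmem (f r i).2, map_smul,
    smul_eq_mul, tr_dual_mul T ι e f hef r hr' i _ hmem]
  have e1 : (2 * (WeilCoh.dim X.obj.left : ℤ) - (r : ℤ)).natAbs = 2 * WeilCoh.dim X.obj.left - r := by
    omega
  have e2 : (-1 : K) ^ (r * (2 * WeilCoh.dim X.obj.left - r)) = (-1 : K) ^ r := by
    have := neg_one_pow_congr (K := K) (m := r) (t := 2 * WeilCoh.dim X.obj.left - r)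
      (N := WeilCoh.dim X.obj.left) (by omega)
    rw [← this]
    rcases Nat.even_or_odd r with h | h
    · rw [Even.neg_one_pow (h.mul_right r), Even.neg_one_pow h]
    · rw [Odd.neg_one_pow (h.mul h), Odd.neg_one_pow h]
  rw [Int.natAbs_natCast, e1, e2]
  congr 1
  rw [Matrix.diag_apply, LinearMap.toMatrix_apply]
  rfl

end Trace

end Groth.Agent.Lib.Helper10.WeilPt
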