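import Groth.Agent.Lib.Helper4ProdDim
import Groth.Agent.Lib.Helper4WithBotENat

/-!
# Dimension of a fibre product of schemes locally of finite type over a field
-/

set_option autoImplicit false
set_option linter.style.haveILetI false
universe u

open AlgebraicGeometry CategoryTheory CategoryTheory.Limits TopologicalSpace Topology TensorProduct

namespace Groth.Agent.Lib.Helper4.ProdDim

variable (k : Type u) [Field k]

theorem topologicalKrullDim_pullback_of_isAffine_of_isAffine (U V : Scheme.{u}) [IsAffine U]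
    [IsAffine V] (φ : U ⟶ Spec (CommRingCat.of k)) (ψ : V ⟶ Spec (CommRingCat.of k))
    [LocallyOfFiniteType φ] [LocallyOfFiniteType ψ] :
    topologicalKrullDim ↥(pullback φ ψ) = topologicalKrullDim U + topologicalKrullDim V := by
  letI : Algebra k Γ(V, ⊤) := (Spec.preimage (V.isoSpec.inv ≫ ψ)).hom.toAlgebra
  have hψ : V.isoSpec.inv ≫ ψ = Spec.map (CommRingCat.ofHom (algebraMap k Γ(V, ⊤))) :=
    (Spec.map_preimage _).symm
  haveI : Algebra.FiniteType k Γ(V, ⊤) := by
    have h1 : LocallyOfFiniteType (Spec.map (Spec.preimage (V.isoSpec.inv ≫ ψ))) := by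
      rw [Spec.map_preimage]; infer_instance
    exact (HasRingHomProperty.Spec_iff (P := @LocallyOfFiniteType)).mp h1
  haveI : IsNoetherianRing Γ(V, ⊤) := Algebra.FiniteType.isNoetherianRing k Γ(V, ⊤)
  have e : pullback φ ψ ≅ pullback φ (Spec.map (CommRingCat.ofHom (algebraMap k Γ(V, ⊤)))) :=
    asIso (pullback.map φ ψ φ _ (𝟙 _) V.isoSpec.hom (𝟙 _) (by simp) (by
      rw [← hψ]; simp))
  rw [topologicalKrullDim_eq_of_iso e, topologicalKrullDim_pullback_of_isAffine k U φ Γ(V, ⊤),
    topologicalKrullDim_eq_of_iso V.isoSpec, topologicalKrullDim_Spec]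

/-- `dim (X ×_k Y) = dim X + dim Y` for schemes locally of finite type over a field. -/
theorem topologicalKrullDim_pullback_eq_add {X Y : Scheme.{u}} (f : X ⟶ Spec (CommRingCat.of k))
    (g : Y ⟶ Spec (CommRingCat.of k)) [LocallyOfFiniteType f] [LocallyOfFiniteType g] :
    topologicalKrullDim ↥(pullback f g) = topologicalKrullDim ↥X + topologicalKrullDim ↥Y := by
  have hW : topologicalKrullDim ↥(pullback f g) =
      ⨆ p : X.affineCover.I₀ × Y.affineCover.I₀,
        topologicalKrullDim ↥(pullback (X.affineCover.f p.1 ≫ f) (Y.affineCover.f p.2 ≫ g)) :=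
    topologicalKrullDim_eq_iSup_openCover _
      (Scheme.Pullback.openCoverOfLeftRight X.affineCover Y.affineCover f g)
  have hpiece : ∀ p : X.affineCover.I₀ × Y.affineCover.I₀,
      topologicalKrullDim ↥(pullback (X.affineCover.f p.1 ≫ f) (Y.affineCover.f p.2 ≫ g)) =
        topologicalKrullDim (X.affineCover.X p.1) + topologicalKrullDim (Y.affineCover.X p.2) :=
    fun p => topologicalKrullDim_pullback_of_isAffine_of_isAffine k _ _ _ _
  have hX := topologicalKrullDim_eq_iSup_openCover X X.affineCover
  have hY := topologicalKrullDim_eq_iSup_openCover Y Y.affineCover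
  apply le_antisymm
  · rw [hW]
    refine iSup_le fun p => ?_
    rw [hpiece p, hX, hY]
    exact add_le_add (le_iSup (fun i => topologicalKrullDim (X.affineCover.X i)) p.1)
      (le_iSup (fun j => topologicalKrullDim (Y.affineCover.X j)) p.2)
  · refine Groth.Agent.Lib.Helper4.WithBotENat.add_le_of_forall_nat _ _ _ fun n m hn hm => ?_
    rw [hX] at hn
    rw [hY] at hm
    obtain ⟨i, hi⟩ := Groth.Agent.Lib.Helper4.WithBotENat.exists_le_of_natCast_le_iSup _ n hn
    obtain ⟨j, hj⟩ := Groth.Agent.Lib.Helper4.WithBotENat.exists_le_of_natCast_le_iSup _ m hm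
    rw [hW]
    refine le_trans ?_ (le_iSup _ (i, j))
    rw [hpiece (i, j)]
    push_cast
    exact add_le_add hi hj

end Groth.Agent.Lib.Helper4.ProdDim
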