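import Groth.Agent.Lib.Helper10WeilCyc
import Groth.Agent.Lib.Helper4ProdDim2

/-!
# Weil cohomology: products, even classes are central, the diagonal correspondence
-/

universe u v w

open AlgebraicGeometry CategoryTheory CategoryTheory.Limits

namespace Groth.Agent.Lib.Helper10.WeilPt

open Groth.Agent.Lib.Helper4.VarDim Groth.Agent.Lib.Helper4.DimFormula

section Central

variable {k : Type u} [Field k] {P : ObjectProperty (Over (Spec (CommRingCat.of k)))}
  {K : Type v} [Field K] (T : WeilCoh.TheoryOn.{u, v, w} k P K)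

lemma mem_iSup_gr (X : P.FullSubcategory) (b : T.H X) : b ∈ (⨆ i, T.gr X i) := by
  rw [(T.decomp X).submodule_iSup_eq_top]; trivial

/-- Classes of even degree are central. -/
lemma mul_comm_of_even (X : P.FullSubcategory) (c : ℤ) (a : T.H X) (ha : a ∈ T.gr X (2 * c))
    (b : T.H X) : a * b = b * a := by
  refine Submodule.iSup_induction (T.gr X) (motive := fun b => a * b = b * a)
    (mem_iSup_gr T X b) ?_ ?_ ?_
  · intro j b hb
    rw [T.gradedComm X (2 * c) j a b ha hb]
    have : (2 * c).natAbs * j.natAbs = 2 * (c.natAbs * j.natAbs) := by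
      rw [Int.natAbs_mul]; simp; ring
    rw [this, pow_mul]; simp
  · simp
  · intro x y hx hy; rw [mul_add, add_mul, hx, hy]

lemma pull_pull {X Y Z : P.FullSubcategory} (f : X ⟶ Y) (g : Y ⟶ Z) (a : T.H Z) :
    T.pull f (T.pull g a) = T.pull (f ≫ g) a := by
  rw [T.pull_comp]; rfl

lemma pull_of_eq_id {X : P.FullSubcategory} (f : X ⟶ X) (hf : f = 𝟙 X) (a : T.H X) :
    T.pull f a = a := by
  rw [hf, T.pull_id]; rfl

end Central

section Prod

variable {k : Type u} [Field k] [IsAlgClosed k] {K : Type v} [Field K] [CharZero K]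
  (T : WeilCoh.Theory k K)

attribute [local instance] overVar

lemma coe_dim (X : WeilCoh.Var k) :
    topologicalKrullDim X.obj.left = ((WeilCoh.dim X.obj.left : ℕ) : WithBot ℕ∞) := by
  have h := topologicalKrullDim_eq_trdegNat_genericPoint k (Y := X.obj.left)
  unfold WeilCoh.dim WeilCoh.natDim
  rw [h]
  rfl

lemma dim_prod {X Y Q : WeilCoh.Var k} (p : Q ⟶ X) (q : Q ⟶ Y) (h : WeilCoh.IsProd p q) :
    WeilCoh.dim Q.obj.left = WeilCoh.dim X.obj.left + WeilCoh.dim Y.obj.left := by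
  have e : Q.obj.left ≅ pullback X.obj.hom Y.obj.hom := h.isoPullback
  have h1 := Groth.Agent.Lib.Helper4.ProdDim.topologicalKrullDim_eq_of_iso e
  rw [Groth.Agent.Lib.Helper4.ProdDim.topologicalKrullDim_pullback_eq_add k, coe_dim, coe_dim,
    coe_dim] at h1
  exact_mod_cast h1

lemma sm_comp_eq_id {X P : WeilCoh.Var k} (d : X ⟶ P) (p : P ⟶ X) (hdp : d ≫ p = 𝟙 X) :
    WeilCoh.sm d ≫ WeilCoh.sm p = 𝟙 X.obj.left := by
  have := congrArg (fun φ => WeilCoh.sm φ) hdp
  exact this

lemma pdim_of_section {X P : WeilCoh.Var k} (d : X ⟶ P) (p : P ⟶ X) (hdp : d ≫ p = 𝟙 X)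
    (η : X.obj.left) :
    WeilCoh.pdim P.obj.left (WeilCoh.sm d η) = WeilCoh.pdim X.obj.left η := by
  have hr := residueDegree_eq_one_of_section _ _ (sm_comp_eq_id d p hdp) η
  exact pdim_eq_of_residueDegree_ne_zero d η (by rw [hr]; exact one_ne_zero)

/-- trace against the class of the image of a point under a section, for all classes -/
lemma tr_cl_section_mul' {X P : WeilCoh.Var k} (d : X ⟶ P) (p : P ⟶ X) (hdp : d ≫ p = 𝟙 X)
    (η : X.obj.left) (a : T.H P) :
    T.tr P (T.cl P (WeilCoh.sm d η) * a) = T.tr X (T.cl X η * T.pull d a) := by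
  have hr := residueDegree_eq_one_of_section _ _ (sm_comp_eq_id d p hdp) η
  have := tr_cl_mul_pull T d η a
  rw [hr, Nat.cast_one, one_mul] at this
  exact this.symm

/-- S19414. -/
theorem push_diag {X P : WeilCoh.Var k} (p q : P ⟶ X) (d : X ⟶ P) (hdp : d ≫ p = 𝟙 X)
    (hdq : d ≫ q = 𝟙 X) (η : ↥X.obj.left) (i : ℤ) (a : ↥(T.gr X i)) :
    (T.push q (i + 2 * (WeilCoh.codim P.obj.left (WeilCoh.sm d η) : ℤ))
        ⟨T.pull p (a : T.H X) * T.cl P (WeilCoh.sm d η),
          SetLike.mul_mem_graded (T.pull_mem p i a a.2) (T.cl_mem P (WeilCoh.sm d η))⟩ : T.H X) =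
      (a : T.H X) * T.cl X η := by
  have hc := cast_codim P (WeilCoh.sm d η)
  rw [pdim_of_section d p hdp] at hc
  have hcX := cast_codim X η
  have hmem : (a : T.H X) * T.cl X η ∈ T.gr X (i + 2 * (WeilCoh.codim P.obj.left (WeilCoh.sm d η) : ℤ)
      + 2 * (WeilCoh.dim X.obj.left : ℤ) - 2 * (WeilCoh.dim P.obj.left : ℤ)) := by
    have := SetLike.mul_mem_graded a.2 (T.cl_mem X η)
    have e : i + 2 * (WeilCoh.codim X.obj.left η : ℤ) =
        i + 2 * (WeilCoh.codim P.obj.left (WeilCoh.sm d η) : ℤ)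
      + 2 * (WeilCoh.dim X.obj.left : ℤ) - 2 * (WeilCoh.dim P.obj.left : ℤ) := by
      rw [hc, hcX]; ring
    rwa [e] at this
  have h0 : T.push q (i + 2 * (WeilCoh.codim P.obj.left (WeilCoh.sm d η) : ℤ))
      ⟨T.pull p (a : T.H X) * T.cl P (WeilCoh.sm d η),
        SetLike.mul_mem_graded (T.pull_mem p i a a.2) (T.cl_mem P (WeilCoh.sm d η))⟩ =
      ⟨_, hmem⟩ := by
    apply push_eq_of_forall
    intro b hb
    change T.tr X ((a : T.H X) * T.cl X η * b) =
      T.tr P (T.pull p (a : T.H X) * T.cl P (WeilCoh.sm d η) * T.pull q b)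
    have hL : (a : T.H X) * T.cl X η * b = T.cl X η * ((a : T.H X) * b) := by
      rw [← mul_comm_of_even T X _ _ (T.cl_mem X _) (a : T.H X), mul_assoc]
    have hR : T.pull p (a : T.H X) * T.cl P (WeilCoh.sm d η) * T.pull q b =
        T.cl P (WeilCoh.sm d η) * (T.pull p (a : T.H X) * T.pull q b) := by
      rw [← mul_comm_of_even T P _ _ (T.cl_mem P _) (T.pull p (a : T.H X)), mul_assoc]
    rw [hL, hR, tr_cl_section_mul' T d p hdp, map_mul (T.pull d), pull_pull, pull_pull,
      pull_of_eq_id T _ hdp, pull_of_eq_id T _ hdq]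
  rw [h0]

end Prod

end Groth.Agent.Lib.Helper10.WeilPt
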