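import Groth.Agent.Lib.Helper10WeilLef

/-!
# Weil cohomology: algebraicity of the Künneth projectors when the characteristic
polynomials of an endomorphism on the `H^i` are pairwise coprime
-/

universe u v w

open AlgebraicGeometry CategoryTheory CategoryTheory.Limits

namespace Groth.Agent.Lib.Helper10.WeilPt

section Sections

variable {k : Type u} [Field k]

/-- transposed graph: a section of `q` lifting `f` along `p` -/
lemma exists_graph' {X Y P : WeilCoh.Var k} (p : P ⟶ X) (q : P ⟶ Y) (hP : WeilCoh.IsProd p q)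
    (f : Y ⟶ X) : ∃ j : Y ⟶ P, j ≫ p = f ∧ j ≫ q = 𝟙 Y := by
  have hw : WeilCoh.sm f ≫ X.obj.hom = 𝟙 Y.obj.left ≫ Y.obj.hom := by
    rw [Category.id_comp]; exact Over.w f.hom
  set l := hP.lift (WeilCoh.sm f) (𝟙 Y.obj.left) hw with hl
  have h1 : l ≫ WeilCoh.sm p = WeilCoh.sm f := hP.lift_fst _ _ _
  have h2 : l ≫ WeilCoh.sm q = 𝟙 _ := hP.lift_snd _ _ _
  have h3 : l ≫ P.obj.hom = Y.obj.hom := by
    have : P.obj.hom = WeilCoh.sm q ≫ Y.obj.hom := (Over.w q.hom).symm
    rw [this, ← Category.assoc, h2, Category.id_comp]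
  refine ⟨ObjectProperty.homMk (Over.homMk l h3), ?_, ?_⟩
  · apply ObjectProperty.hom_ext
    apply Over.OverMorphism.ext
    exact h1
  · apply ObjectProperty.hom_ext
    apply Over.OverMorphism.ext
    exact h2

end Sections

section Iterate

variable {k : Type u} [Field k] {P : ObjectProperty (Over (Spec (CommRingCat.of k)))}
  {K : Type v} [Field K] (T : WeilCoh.TheoryOn.{u, v, w} k P K)

/-- iterates of an endomorphism -/
noncomputable def iter {X : P.FullSubcategory} (F : X ⟶ X) : ℕ → (X ⟶ X)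
  | 0 => 𝟙 X
  | (m + 1) => F ≫ iter F m

lemma pull_iter {X : P.FullSubcategory} (F : X ⟶ X) (j : ℤ) (m : ℕ) (b : T.gr X j) :
    T.pull (iter F m) (b : T.H X) = (((T.pullDeg F j) ^ m) b : T.gr X j) := by
  induction m with
  | zero =>
    change T.pull (𝟙 X) (b : T.H X) = _
    rw [T.pull_id, pow_zero]; rfl
  | succ m ih =>
    change T.pull (F ≫ iter F m) (b : T.H X) = _
    rw [T.pull_comp, pow_succ', Module.End.mul_apply]
    change T.pull F (T.pull (iter F m) (b : T.H X)) = _
    rw [ih]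
    rfl

/-- a polynomial in `F^*` in terms of the iterates -/
lemma aeval_pullDeg {X : P.FullSubcategory} (F : X ⟶ X) (j : ℤ) (g : Polynomial K)
    (b : T.gr X j) :
    ((Polynomial.aeval (T.pullDeg F j) g) b : T.H X) =
      ∑ m ∈ Finset.range (g.natDegree + 1), g.coeff m • T.pull (iter F m) (b : T.H X) := by
  rw [Polynomial.aeval_eq_sum_range, LinearMap.sum_apply, Submodule.coe_sum]
  refine Finset.sum_congr rfl fun m _ => ?_
  rw [LinearMap.smul_apply, Submodule.coe_smul, pull_iter]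

end Iterate

section Alg

variable {K : Type v} [Field K]

lemma exists_projector_poly {ι : Type*} [DecidableEq ι] (S : Finset ι) (χ : ι → Polynomial K)
    (hχ : ∀ a ∈ S, ∀ b ∈ S, a ≠ b → IsCoprime (χ a) (χ b)) (i₀ : ι) (hi : i₀ ∈ S) :
    ∃ g : Polynomial K, (∃ a, g = 1 - a * χ i₀) ∧ ∀ r ∈ S, r ≠ i₀ → χ r ∣ g := by
  have hcop : IsCoprime (χ i₀) (∏ r ∈ S.erase i₀, χ r) :=
    IsCoprime.prod_right fun r hr =>
      hχ i₀ hi r (Finset.mem_of_mem_erase hr) (Finset.ne_of_mem_erase hr).symm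
  obtain ⟨a, b, hab⟩ := hcop
  refine ⟨b * ∏ r ∈ S.erase i₀, χ r, ⟨a, by linear_combination hab⟩, fun r hr hne => ?_⟩
  exact Dvd.dvd.mul_left (Finset.dvd_prod_of_mem χ (Finset.mem_erase.mpr ⟨hne, hr⟩)) b

end Alg

section Main

variable {k : Type u} [Field k] [IsAlgClosed k] {K : Type v} [Field K] [CharZero K]
  (T : WeilCoh.Theory k K)

/-- the polynomial cutting out `H^i` -/
lemma exists_poly (X : WeilCoh.Var k) (F : X ⟶ X)
    (hF : ∀ i j : ℤ, i ≠ j → IsCoprime (T.pullDeg F i).charpoly (T.pullDeg F j).charpoly)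
    (i : ℤ) :
    ∃ g : Polynomial K, ∀ (j : ℤ) (b : T.gr X j),
      ∑ m ∈ Finset.range (g.natDegree + 1), g.coeff m • T.pull (iter F m) (b : T.H X) =
        if j = i then (b : T.H X) else 0 := by
  classical
  set n := WeilCoh.dim X.obj.left with hn
  by_cases hi : ∃ i₀ : ℕ, i = (i₀ : ℤ) ∧ i₀ ≤ 2 * n
  · obtain ⟨i₀, rfl, hi₀⟩ := hi
    obtain ⟨g, ⟨a, hga⟩, hg⟩ := exists_projector_poly (K := K) (Finset.range (2 * n + 1))
      (fun r : ℕ => (T.pullDeg F (r : ℤ)).charpoly)
      (fun a _ b _ hab => hF a b (by exact_mod_cast hab)) i₀ (Finset.mem_range.mpr (by omega))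
    refine ⟨g, fun j b => ?_⟩
    rw [← aeval_pullDeg]
    by_cases hj : ∃ r : ℕ, j = (r : ℤ) ∧ r ≤ 2 * n
    · obtain ⟨r, rfl, hr⟩ := hj
      by_cases hri : r = i₀
      · subst hri
        have h1 : Polynomial.aeval (T.pullDeg F (r : ℤ)) g = 1 := by
          rw [hga, map_sub, map_mul, LinearMap.aeval_self_charpoly, mul_zero, map_one]
          simp
        rw [if_pos rfl, h1]
        rfl
      · rw [if_neg (by exact_mod_cast hri)]
        obtain ⟨c, hc⟩ := hg r (Finset.mem_range.mpr (by omega)) hri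
        rw [hc, map_mul, LinearMap.aeval_self_charpoly, zero_mul]
        rfl
    · have hb : (b : T.H X) = 0 := by
        apply eq_zero_of_mem_of_lt T _ j b.2
        by_contra hcon
        push Not at hcon
        exact hj ⟨j.toNat, by omega, by omega⟩
      have hb' : b = 0 := Subtype.ext hb
      subst hb'
      simp
  · refine ⟨0, fun j b => ?_⟩
    simp only [Polynomial.coeff_zero, zero_smul, Finset.sum_const_zero]
    split_ifs with hji
    · subst hji
      symm
      apply eq_zero_of_mem_of_lt T _ j b.2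
      by_contra hcon
      push Not at hcon
      exact hi ⟨j.toNat, by omega, by omega⟩
    · rfl

/-- S19415. -/
theorem kunneth_projector (X P : WeilCoh.Var k) (p q : P ⟶ X) (hP : WeilCoh.IsProd p q)
    (F : X ⟶ X)
    (hF : ∀ i j : ℤ, i ≠ j → IsCoprime (T.pullDeg F i).charpoly (T.pullDeg F j).charpoly)
    (i : ℤ) :
    ∃ u : ↥(T.gr P (2 * (WeilCoh.dim X.obj.left : ℤ))),
      (u : T.H P) ∈ Submodule.span K (Set.range (T.cl P)) ∧
        ∀ (j : ℤ) (b : ↥(T.gr X j)),
          (T.push q (j + 2 * (WeilCoh.dim X.obj.left : ℤ))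
              ⟨T.pull p (b : T.H X) * (u : T.H P),
                SetLike.mul_mem_graded (T.pull_mem p j b b.2) u.2⟩ : T.H X) =
            if j = i then (b : T.H X) else 0 := by
  obtain ⟨g, hg⟩ := exists_poly T X F hF i
  have hd := dim_prod p q hP
  choose jm hjm1 hjm2 using fun m : ℕ => exists_graph' p q hP (iter F m)
  set η := genericPoint ↥X.obj.left with hη
  have hclmem : ∀ m, T.cl P (WeilCoh.sm (jm m) η) ∈ T.gr P (2 * (WeilCoh.dim X.obj.left : ℤ)) := by
    intro m
    have h1 := T.cl_mem P (WeilCoh.sm (jm m) η)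
    have h2 := cast_codim P (WeilCoh.sm (jm m) η)
    rw [pdim_of_section (jm m) q (hjm2 m), pdim_genericPoint, hd] at h2
    have : (2 * (WeilCoh.codim P.obj.left (WeilCoh.sm (jm m) η) : ℤ)) =
        2 * (WeilCoh.dim X.obj.left : ℤ) := by rw [h2]; push_cast; ring
    rwa [this] at h1
  set u : T.H P := ∑ m ∈ Finset.range (g.natDegree + 1), g.coeff m • T.cl P (WeilCoh.sm (jm m) η)
    with hu
  have humem : u ∈ T.gr P (2 * (WeilCoh.dim X.obj.left : ℤ)) :=
    Submodule.sum_mem _ fun m _ => Submodule.smul_mem _ _ (hclmem m)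
  refine ⟨⟨u, humem⟩, ?_, ?_⟩
  · change u ∈ _
    rw [hu]
    exact Submodule.sum_mem (Submodule.span K (Set.range (T.cl P))) fun m _ =>
      Submodule.smul_mem _ _ (Submodule.subset_span (Set.mem_range_self _))
  · intro j b
    have hmem : (if j = i then (b : T.H X) else 0) ∈ T.gr X (j + 2 * (WeilCoh.dim X.obj.left : ℤ) +
        2 * (WeilCoh.dim X.obj.left : ℤ) - 2 * (WeilCoh.dim P.obj.left : ℤ)) := by
      have e : j + 2 * (WeilCoh.dim X.obj.left : ℤ) +
        2 * (WeilCoh.dim X.obj.left : ℤ) - 2 * (WeilCoh.dim P.obj.left : ℤ) = j := by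
        rw [hd]; push_cast; ring
      rw [e]
      split_ifs
      · exact b.2
      · exact Submodule.zero_mem _
    have h0 : T.push q (j + 2 * (WeilCoh.dim X.obj.left : ℤ))
        ⟨T.pull p (b : T.H X) * u, SetLike.mul_mem_graded (T.pull_mem p j b b.2) humem⟩ =
        ⟨_, hmem⟩ := by
      apply push_eq_of_forall
      intro c _
      change T.tr X ((if j = i then (b : T.H X) else 0) * c) =
        T.tr P (T.pull p (b : T.H X) * u * T.pull q c)
      rw [← hg j b, hu, Finset.mul_sum, Finset.sum_mul, Finset.sum_mul, map_sum, map_sum]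
      refine Finset.sum_congr rfl fun m _ => ?_
      have hR : T.pull p (b : T.H X) * (g.coeff m • T.cl P (WeilCoh.sm (jm m) η)) * T.pull q c =
          g.coeff m • (T.cl P (WeilCoh.sm (jm m) η) * (T.pull p (b : T.H X) * T.pull q c)) := by
        rw [mul_smul_comm, smul_mul_assoc,
          ← mul_comm_of_even T P _ _ (T.cl_mem P _) (T.pull p (b : T.H X)), mul_assoc]
      rw [hR, map_smul, tr_cl_section_mul' T (jm m) q (hjm2 m), cl_generic, one_mul,
        map_mul (T.pull (jm m)), pull_pull, pull_pull, hjm1 m, pull_of_eq_id T _ (hjm2 m),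
        smul_mul_assoc, map_smul]
    exact congrArg Subtype.val h0

end Main

end Groth.Agent.Lib.Helper10.WeilPt
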