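import Groth.Agent.Lib.Helper10WeilZero
import Groth.Agent.Lib.Helper4DimFormulaW

/-!
# Weil cohomology: dimensions of points, and the push-forward of classes
-/

universe u v w

open AlgebraicGeometry CategoryTheory CategoryTheory.Limits

namespace Groth.Agent.Lib.Helper10.WeilPt

open Groth.Agent.Lib.Helper4.VarDim Groth.Agent.Lib.Helper4.DimFormula

section Dim

variable {k : Type u} [Field k] [IsAlgClosed k]

/-- The canonical `Over` structure of a variety. -/
@[reducible] noncomputable def overVar (X : WeilCoh.Var k) : X.obj.left.Over (Spec (CommRingCat.of k)) :=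
  ⟨X.obj.hom⟩

attribute [local instance] overVar

instance lft_over (X : WeilCoh.Var k) :
    LocallyOfFiniteType (X.obj.left ↘ Spec (CommRingCat.of k)) :=
  inferInstanceAs (LocallyOfFiniteType X.obj.hom)

omit [IsAlgClosed k] in
lemma pdim_eq_trdegNat (X : WeilCoh.Var k) (x : X.obj.left) :
    WeilCoh.pdim X.obj.left x = trdegNat k X.obj.left x := by
  unfold WeilCoh.pdim WeilCoh.natDim
  rw [topologicalKrullDim_closure_singleton k X.obj.left x]
  rfl

lemma pdim_le_dim (X : WeilCoh.Var k) (x : X.obj.left) :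
    WeilCoh.pdim X.obj.left x ≤ WeilCoh.dim X.obj.left := by
  rw [← pdim_genericPoint X, pdim_eq_trdegNat, pdim_eq_trdegNat]
  exact trdegNat_le_of_specializes k X.obj.left _ _ (genericPoint_specializes x)

omit [IsAlgClosed k] in
lemma sm_w {X Y : WeilCoh.Var k} (f : X ⟶ Y) : WeilCoh.sm f ≫ Y.obj.hom = X.obj.hom :=
  Over.w f.hom

lemma pdim_eq_of_residueDegree_ne_zero {X Y : WeilCoh.Var k} (f : X ⟶ Y) (ξ : X.obj.left)
    (h : (WeilCoh.sm f).residueDegree ξ ≠ 0) :
    WeilCoh.pdim Y.obj.left (WeilCoh.sm f ξ) = WeilCoh.pdim X.obj.left ξ := by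
  have hf : WeilCoh.sm f ≫ (Y.obj.left ↘ Spec (CommRingCat.of k)) =
      (X.obj.left ↘ Spec (CommRingCat.of k)) := sm_w f
  haveI := locallyOfFiniteType_of_over k (WeilCoh.sm f) hf
  rw [pdim_eq_trdegNat, pdim_eq_trdegNat, trdegNat_eq_add_ptTrdeg k (WeilCoh.sm f) hf ξ]
  have h0 : ptTrdeg (WeilCoh.sm f) ξ = 0 := by
    have h1 := trdeg_eq_ptTrdeg (WeilCoh.sm f) ξ
    letI := ((WeilCoh.sm f).residueFieldMap ξ).hom.toAlgebra
    haveI : Module.Finite (Y.obj.left.residueField (WeilCoh.sm f ξ)) (X.obj.left.residueField ξ) :=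
      Module.finite_of_finrank_pos (Nat.pos_of_ne_zero h)
    haveI : Algebra.IsAlgebraic (Y.obj.left.residueField (WeilCoh.sm f ξ))
        (X.obj.left.residueField ξ) := Algebra.IsAlgebraic.of_finite _ _
    have h2 : Algebra.trdeg (Y.obj.left.residueField (WeilCoh.sm f ξ))
        (X.obj.left.residueField ξ) = 0 := trdeg_eq_zero_iff.mpr inferInstance
    rw [h2] at h1
    exact_mod_cast h1.symm
  rw [h0, add_zero]

end Dim

section PushGen

variable {k : Type u} [Field k] {P : ObjectProperty (Over (Spec (CommRingCat.of k)))}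
  {K : Type v} [Field K] (T : WeilCoh.TheoryOn.{u, v, w} k P K)

/-- Characterisation of the push-forward by the projection formula. -/
lemma push_eq_of_forall {X Y : P.FullSubcategory} (f : X ⟶ Y) (i : ℤ) (a : T.gr X i)
    (y : T.gr Y (i + 2 * (WeilCoh.dim Y.obj.left : ℤ) - 2 * (WeilCoh.dim X.obj.left : ℤ)))
    (h : ∀ b ∈ T.gr Y (2 * (WeilCoh.dim X.obj.left : ℤ) - i),
      T.tr Y ((y : T.H Y) * b) = T.tr X ((a : T.H X) * T.pull f b)) :
    T.push f i a = y := by
  unfold WeilCoh.TheoryOn.push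
  simp only [LinearMap.coe_comp, Function.comp_apply, LinearEquiv.coe_coe]
  rw [LinearEquiv.symm_apply_eq]
  ext b
  exact (h b b.2).symm

/-- The projection formula satisfied by the push-forward. -/
lemma tr_push_mul {X Y : P.FullSubcategory} (f : X ⟶ Y) (i : ℤ) (a : T.gr X i)
    (b : T.H Y) (hb : b ∈ T.gr Y (2 * (WeilCoh.dim X.obj.left : ℤ) - i)) :
    T.tr Y ((T.push f i a : T.H Y) * b) = T.tr X ((a : T.H X) * T.pull f b) := by
  unfold WeilCoh.TheoryOn.push
  simp only [LinearMap.coe_comp, Function.comp_apply, LinearEquiv.coe_coe]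
  haveI := T.duality Y (i + 2 * (WeilCoh.dim Y.obj.left : ℤ) - 2 * (WeilCoh.dim X.obj.left : ℤ))
    (2 * (WeilCoh.dim X.obj.left : ℤ) - i) (by omega)
  have := LinearMap.apply_symm_toPerfPair_self
    (WeilCoh.pairing K (T.gr Y (i + 2 * (WeilCoh.dim Y.obj.left : ℤ) -
      2 * (WeilCoh.dim X.obj.left : ℤ)))
      (T.gr Y (2 * (WeilCoh.dim X.obj.left : ℤ) - i)) (T.tr Y)) (T.pushFunctional f i a)
  exact congrArg (fun φ => φ ⟨b, hb⟩) this

end PushGen

section Push

variable {k : Type u} [Field k] [IsAlgClosed k] {K : Type v} [Field K] [CharZero K]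
  (T : WeilCoh.Theory k K)

lemma cast_codim (X : WeilCoh.Var k) (ξ : X.obj.left) :
    (WeilCoh.codim X.obj.left ξ : ℤ) =
      (WeilCoh.dim X.obj.left : ℤ) - (WeilCoh.pdim X.obj.left ξ : ℤ) := by
  unfold WeilCoh.codim
  rw [Nat.cast_sub (pdim_le_dim X ξ)]

/-- S15448. -/
theorem push_cl {X Y : WeilCoh.Var k} (f : X ⟶ Y) (ξ : X.obj.left) :
    (T.push f (2 * (WeilCoh.codim X.obj.left ξ : ℤ)) ⟨T.cl X ξ, T.cl_mem X ξ⟩ : T.H Y) =
      ((WeilCoh.sm f).residueDegree ξ : K) • T.cl Y (WeilCoh.sm f ξ) := by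
  have hc := cast_codim X ξ
  have hdeg : (2 * (WeilCoh.dim X.obj.left : ℤ) - 2 * (WeilCoh.codim X.obj.left ξ : ℤ)) =
      2 * (WeilCoh.pdim X.obj.left ξ : ℤ) := by rw [hc]; ring
  by_cases hr : (WeilCoh.sm f).residueDegree ξ = 0
  · rw [hr, Nat.cast_zero, zero_smul]
    have h0 : T.push f _ ⟨T.cl X ξ, T.cl_mem X ξ⟩ = 0 := by
      apply push_eq_of_forall
      intro b hb
      rw [hdeg] at hb
      have := T.cl_push f ξ b hb
      rw [hr, Nat.cast_zero, zero_mul] at this
      rw [this]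
      simp
    rw [h0]; rfl
  · have hp := pdim_eq_of_residueDegree_ne_zero f ξ hr
    have hc' := cast_codim Y (WeilCoh.sm f ξ)
    have hmem : ((WeilCoh.sm f).residueDegree ξ : K) • T.cl Y (WeilCoh.sm f ξ) ∈
        T.gr Y (2 * (WeilCoh.codim X.obj.left ξ : ℤ) + 2 * (WeilCoh.dim Y.obj.left : ℤ) -
          2 * (WeilCoh.dim X.obj.left : ℤ)) := by
      have h1 := T.cl_mem Y (WeilCoh.sm f ξ)
      have : (2 * (WeilCoh.codim Y.obj.left (WeilCoh.sm f ξ) : ℤ)) =
          2 * (WeilCoh.codim X.obj.left ξ : ℤ) + 2 * (WeilCoh.dim Y.obj.left : ℤ) -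
          2 * (WeilCoh.dim X.obj.left : ℤ) := by
        rw [hc, hc', hp]; ring
      rw [this] at h1
      exact Submodule.smul_mem _ _ h1
    have h0 : T.push f _ ⟨T.cl X ξ, T.cl_mem X ξ⟩ = ⟨_, hmem⟩ := by
      apply push_eq_of_forall
      intro b hb
      rw [hdeg] at hb
      have := T.cl_push f ξ b hb
      rw [this]
      simp only [smul_mul_assoc, map_smul, smul_eq_mul]
    rw [h0]

end Push

end Groth.Agent.Lib.Helper10.WeilPt
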