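import Groth.Agent.Lib.Helper10WeilCorr2

/-!
# Weil cohomology: pull-back of algebraic classes along an involution; nilpotent
correspondences are numerically trivial
-/

universe u v w

open AlgebraicGeometry CategoryTheory CategoryTheory.Limits

namespace Groth.Agent.Lib.Helper10.WeilPt

section Inv

variable {k : Type u} [Field k] [IsAlgClosed k] {K : Type v} [Field K] [CharZero K]
  (T : WeilCoh.Theory k K)

/-- the swap of a product is an involution -/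
lemma swap_comp_swap {X P : WeilCoh.Var k} (p q : P ⟶ X) (hP : WeilCoh.IsProd p q) (σ : P ⟶ P)
    (hσp : σ ≫ p = q) (hσq : σ ≫ q = p) : σ ≫ σ = 𝟙 P := by
  apply ObjectProperty.hom_ext
  apply Over.OverMorphism.ext
  apply hP.hom_ext
  · have h1 := congrArg (fun φ => WeilCoh.sm φ) hσp
    have h2 := congrArg (fun φ => WeilCoh.sm φ) hσq
    change (WeilCoh.sm σ ≫ WeilCoh.sm σ) ≫ WeilCoh.sm p = 𝟙 _ ≫ WeilCoh.sm p
    rw [Category.assoc, Category.id_comp]
    change WeilCoh.sm σ ≫ WeilCoh.sm p = WeilCoh.sm q at h1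
    change WeilCoh.sm σ ≫ WeilCoh.sm q = WeilCoh.sm p at h2
    rw [h1, h2]
  · have h1 := congrArg (fun φ => WeilCoh.sm φ) hσp
    have h2 := congrArg (fun φ => WeilCoh.sm φ) hσq
    change (WeilCoh.sm σ ≫ WeilCoh.sm σ) ≫ WeilCoh.sm q = 𝟙 _ ≫ WeilCoh.sm q
    rw [Category.assoc, Category.id_comp]
    change WeilCoh.sm σ ≫ WeilCoh.sm p = WeilCoh.sm q at h1
    change WeilCoh.sm σ ≫ WeilCoh.sm q = WeilCoh.sm p at h2
    rw [h2, h1]

/-- pull-back along an involution maps the class of a point into the span of classes -/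
lemma pull_cl_mem_span {P : WeilCoh.Var k} (σ : P ⟶ P) (hσ : σ ≫ σ = 𝟙 P) (ξ : P.obj.left) :
    T.pull σ (T.cl P ξ) ∈ Submodule.span K (Set.range (T.cl P)) := by
  have hsm : WeilCoh.sm σ ≫ WeilCoh.sm σ = 𝟙 P.obj.left := sm_comp_eq_id σ σ hσ
  have hpt : ∀ z : P.obj.left, WeilCoh.sm σ (WeilCoh.sm σ z) = z := by
    intro z
    have := congrArg (fun φ : P.obj.left ⟶ P.obj.left => φ z) hsm
    exact this
  haveI : IsIso (WeilCoh.sm σ) := ⟨⟨WeilCoh.sm σ, hsm, hsm⟩⟩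
  have h := T.cl_pull σ ξ (by
      intro w hw
      have hw1 : ξ ⤳ WeilCoh.sm σ w := specializes_iff_mem_closure.mpr hw.1
      have h1 : WeilCoh.sm σ ξ ⤳ w := by
        have := hw1.map (WeilCoh.sm σ).continuous
        rwa [hpt] at this
      have h2 : WeilCoh.sm σ ξ ∈ (WeilCoh.sm σ) ⁻¹' closure ({ξ} : Set P.obj.left) := by
        rw [Set.mem_preimage, hpt]; exact subset_closure rfl
      have h3 := hw.2 _ h2 h1
      rw [← h3, pdim_of_section σ σ hσ]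
      ring) (Or.inl ⟨⊤, fun _ _ => trivial, inferInstance⟩)
  rw [h]
  refine finsum_induction (fun x => x ∈ Submodule.span K (Set.range (T.cl P)))
    (Submodule.zero_mem _) (fun x y hx hy => Submodule.add_mem _ hx hy) fun w => ?_
  exact Submodule.smul_mem _ _ (Submodule.subset_span (Set.mem_range_self _))

lemma pull_mem_span {P : WeilCoh.Var k} (σ : P ⟶ P) (hσ : σ ≫ σ = 𝟙 P) (v : T.H P)
    (hv : v ∈ Submodule.span K (Set.range (T.cl P))) :
    T.pull σ v ∈ Submodule.span K (Set.range (T.cl P)) := by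
  have : Submodule.map (T.pull σ).toLinearMap (Submodule.span K (Set.range (T.cl P))) ≤
      Submodule.span K (Set.range (T.cl P)) := by
    rw [Submodule.map_span_le]
    rintro _ ⟨ξ, rfl⟩
    exact pull_cl_mem_span T σ hσ ξ
  exact this ⟨v, hv, rfl⟩

end Inv

section Nilp

variable {k : Type u} [Field k] [IsAlgClosed k] {K : Type v} [Field K] [CharZero K]
  (T : WeilCoh.Theory k K)

lemma action_val_congr {X Y P : WeilCoh.Var k} (p : P ⟶ X) (q : P ⟶ Y) (d d' i i' : ℤ)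
    (hd : d = d') (hi : i = i') (φ : T.gr P d) (φ' : T.gr P d') (hφ : (φ : T.H P) = φ')
    (x : T.gr X i) (x' : T.gr X i') (hx : (x : T.H X) = x') :
    (action T p q d φ i x : T.H Y) = (action T p q d' φ' i' x' : T.H Y) := by
  subst hd hi
  have h1 : φ = φ' := Subtype.ext hφ
  have h2 : x = x' := Subtype.ext hx
  subst h1 h2
  rfl

/-- S19418. -/
theorem nilp_tr_zero (X P : WeilCoh.Var k)
    (p q : P ⟶ X) (hP : WeilCoh.IsProd p q) (σ : P ⟶ P) (hσp : σ ≫ p = q) (hσq : σ ≫ q = p)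
    (hdim : ∀ j : ℤ, j + 2 * (WeilCoh.dim X.obj.left : ℤ) + 2 * (WeilCoh.dim X.obj.left : ℤ) - 2 * (WeilCoh.dim P.obj.left : ℤ) = j)
    (u : ↥(T.gr P (2 * (WeilCoh.dim X.obj.left : ℤ)))) (hu : (u : T.H P) ∈ Submodule.span K (Set.range (T.cl P)))
    (hJ : ∀ ψ ∈ Algebra.adjoin K
          (Set.range (fun w : {w : ↥(T.gr P (2 * (WeilCoh.dim X.obj.left : ℤ))) // (w : T.H P) ∈ Submodule.span K (Set.range (T.cl P))} =>
            fun j : Fin (2 * WeilCoh.dim X.obj.left + 1) =>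
              ((LinearEquiv.ofEq (T.gr X (((j : ℕ) : ℤ) + 2 * (WeilCoh.dim X.obj.left : ℤ) + 2 * (WeilCoh.dim X.obj.left : ℤ) - 2 * (WeilCoh.dim P.obj.left : ℤ))) (T.gr X ((j : ℕ) : ℤ)) (congrArg (T.gr X) (hdim ((j : ℕ) : ℤ)))).toLinearMap ∘ₗ
              ((T.push q (((j : ℕ) : ℤ) + 2 * (WeilCoh.dim X.obj.left : ℤ))) ∘ₗ
                (((LinearMap.mulRight K (w.1 : T.H P)).restrict (p := T.gr P ((j : ℕ) : ℤ))
                    (q := T.gr P (((j : ℕ) : ℤ) + 2 * (WeilCoh.dim X.obj.left : ℤ))) (fun x hx => SetLike.mul_mem_graded hx w.1.2)) ∘ₗ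
                  T.pullDeg p ((j : ℕ) : ℤ)))))),
        IsNilpotent (ψ * fun j : Fin (2 * WeilCoh.dim X.obj.left + 1) =>
          ((LinearEquiv.ofEq (T.gr X (((j : ℕ) : ℤ) + 2 * (WeilCoh.dim X.obj.left : ℤ) + 2 * (WeilCoh.dim X.obj.left : ℤ) - 2 * (WeilCoh.dim P.obj.left : ℤ))) (T.gr X ((j : ℕ) : ℤ)) (congrArg (T.gr X) (hdim ((j : ℕ) : ℤ)))).toLinearMap ∘ₗ
              ((T.push q (((j : ℕ) : ℤ) + 2 * (WeilCoh.dim X.obj.left : ℤ))) ∘ₗ
                (((LinearMap.mulRight K (u : T.H P)).restrict (p := T.gr P ((j : ℕ) : ℤ))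
                    (q := T.gr P (((j : ℕ) : ℤ) + 2 * (WeilCoh.dim X.obj.left : ℤ))) (fun x hx => SetLike.mul_mem_graded hx u.2)) ∘ₗ
                  T.pullDeg p ((j : ℕ) : ℤ))))))
    (v : ↥(T.gr P (2 * (WeilCoh.dim X.obj.left : ℤ)))) (hv : (v : T.H P) ∈ Submodule.span K (Set.range (T.cl P))) :
    T.tr P ((u : T.H P) * (v : T.H P)) = 0 := by
  have hσσ := swap_comp_swap p q hP σ hσp hσq
  have hv'mem : T.pull σ (v : T.H P) ∈ T.gr P (2 * (WeilCoh.dim X.obj.left : ℤ)) :=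
    T.pull_mem σ _ _ v.2
  have hv'alg := pull_mem_span T σ hσσ (v : T.H P) hv
  have hvv : (v : T.H P) = T.pull σ (T.pull σ (v : T.H P)) := by
    rw [pull_pull, pull_of_eq_id T _ hσσ]
  have hφmem : (u : T.H P) ∈ T.gr P (2 * (WeilCoh.dim X.obj.left : ℤ) + 0) := by
    rw [add_zero]; exact u.2
  have hψmem : T.pull σ (v : T.H P) ∈ T.gr P (2 * (WeilCoh.dim X.obj.left : ℤ) - 0) := by
    rw [sub_zero]; exact hv'mem
  have hdim' : ∀ i : ℤ, ((i + (2 * (WeilCoh.dim X.obj.left : ℤ) + 0) +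
      2 * (WeilCoh.dim X.obj.left : ℤ) - 2 * (WeilCoh.dim P.obj.left : ℤ)) +
      (2 * (WeilCoh.dim X.obj.left : ℤ) - 0) + 2 * (WeilCoh.dim X.obj.left : ℤ) -
      2 * (WeilCoh.dim P.obj.left : ℤ)) = i := by
    intro i; have := hdim i; omega
  have hL := lefschetz_corr T X X P P p q hP p q hP σ hσp hσq 0 hdim' ⟨u, hφmem⟩
    ⟨T.pull σ (v : T.H P), hψmem⟩
  rw [hvv]
  refine hL.trans ?_
  apply Finset.sum_eq_zero
  intro i hi
  have hi' : i < 2 * WeilCoh.dim X.obj.left + 1 := Finset.mem_range.mp hi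
  -- the nilpotent operator
  obtain ⟨N, hN⟩ := hJ _ (Algebra.subset_adjoin
    ⟨⟨⟨T.pull σ (v : T.H P), hv'mem⟩, hv'alg⟩, rfl⟩)
  have hNi := congrFun hN ⟨i, hi'⟩
  rw [Pi.pow_apply, Pi.mul_apply] at hNi
  have hnil : IsNilpotent (LinearMap.trace K _ _) :=
    LinearMap.isNilpotent_trace_of_isNilpotent ⟨N, hNi⟩
  have h0 := hnil.eq_zero
  -- identify the two operators
  have hE : ((LinearEquiv.ofEq _ (T.gr X (i : ℤ)) (congrArg (T.gr X) (hdim' (i : ℤ)))).toLinearMap ∘ₗ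
      (action T p q (2 * (WeilCoh.dim X.obj.left : ℤ) - 0) ⟨T.pull σ (v : T.H P), hψmem⟩
        ((i : ℤ) + (2 * (WeilCoh.dim X.obj.left : ℤ) + 0) +
          2 * (WeilCoh.dim X.obj.left : ℤ) - 2 * (WeilCoh.dim P.obj.left : ℤ))) ∘ₗ
      (action T p q (2 * (WeilCoh.dim X.obj.left : ℤ) + 0) ⟨u, hφmem⟩ (i : ℤ))) =
      ((LinearEquiv.ofEq _ (T.gr X (i : ℤ)) (congrArg (T.gr X) (hdim (i : ℤ)))).toLinearMap ∘ₗ
        (action T p q (2 * (WeilCoh.dim X.obj.left : ℤ)) ⟨T.pull σ (v : T.H P), hv'mem⟩ (i : ℤ))) *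
      ((LinearEquiv.ofEq _ (T.gr X (i : ℤ)) (congrArg (T.gr X) (hdim (i : ℤ)))).toLinearMap ∘ₗ
        (action T p q (2 * (WeilCoh.dim X.obj.left : ℤ)) u (i : ℤ))) := by
    apply LinearMap.ext
    intro x
    apply Subtype.ext
    change (action T p q _ _ _ (action T p q _ _ _ x) : T.H X) =
      (action T p q _ _ _ ((LinearEquiv.ofEq _ (T.gr X (i : ℤ)) (congrArg (T.gr X) (hdim (i : ℤ))))
        (action T p q _ _ _ x)) : T.H X)
    apply action_val_congr T p q _ _ _ _ (sub_zero _) (by have := hdim (i : ℤ); omega) _ _ rfl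
    change (action T p q _ _ _ x : T.H X) = (action T p q _ _ _ x : T.H X)
    exact action_val_congr T p q _ _ _ _ (add_zero _) rfl _ _ rfl _ _ rfl
  rw [hE]
  change (-1 : K) ^ i * LinearMap.trace K _ (_ * _) = 0 at *
  exact mul_eq_zero_of_right _ h0

end Nilp

end Groth.Agent.Lib.Helper10.WeilPt
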