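import Mathlib
import Groth.Agent.Lib.Helper27LogDeriv

/-!
# Logarithmic-derivative uniqueness over a field of characteristic zero
-/

namespace Groth.Agent.Lib.Helper27LogDeriv

open PowerSeries

variable {K : Type*} [Field K] [CharZero K]

theorem LD.unique' {F G S : K⟦X⟧} (hF : LD F S) (hG : LD G S) (h0 : coeff 0 F = coeff 0 G) :
    F = G := by
  ext n
  induction n using Nat.strong_induction_on with
  | _ n ih =>
    cases n with
    | zero => exact h0
    | succ n =>
      have h1 := hF.coeff_succ n
      have h2 := hG.coeff_succ n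
      have h3 : ∑ p ∈ Finset.HasAntidiagonal.antidiagonal n, coeff p.1 F * coeff p.2 S =
          ∑ p ∈ Finset.HasAntidiagonal.antidiagonal n, coeff p.1 G * coeff p.2 S := by
        refine Finset.sum_congr rfl (fun p hp => ?_)
        rw [ih p.1 (by have := Finset.HasAntidiagonal.mem_antidiagonal.mp hp; omega)]
      have h4 : ((n : K) + 1) ≠ 0 := Nat.cast_add_one_ne_zero n
      rw [← h3, ← h1] at h2
      exact (mul_right_cancel₀ h4 h2).symm

theorem LD.exp_subst' (L : K⟦X⟧) (hL : constantCoeff L = 0) :
    LD ((PowerSeries.exp K).subst L) (d⁄dX K L) := by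
  unfold LD
  rw [derivative_subst (HasSubst.of_constantCoeff_zero' hL), derivative_exp]

theorem coeff_zero_exp_subst' (L : K⟦X⟧) (hL : constantCoeff L = 0) :
    coeff 0 ((PowerSeries.exp K).subst L) = 1 := by
  rw [coeff_subst' (HasSubst.of_constantCoeff_zero' hL), finsum_eq_single _ 0]
  · simp
  · intro n hn
    rw [coeff_zero_eq_constantCoeff_apply, map_pow, hL, zero_pow hn, smul_zero]

end Groth.Agent.Lib.Helper27LogDeriv
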