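import Mathlib

set_option autoImplicit false

open Polynomial Matrix

namespace Groth.Agent.Lib.Helper24LogDeriv

variable {R : Type*} [CommRing R] {m : Type*} [Fintype m] [DecidableEq m]

lemma aeval_charpolyRev {B : Type*} [CommRing B] [Algebra R B] (A : Matrix m m R) (x : B) :
    aeval x A.charpolyRev = det (1 - x • A.map (algebraMap R B)) := by
  rw [charpolyRev, AlgHom.map_det]
  congr 1
  ext i j
  by_cases h : i = j <;>
    simp [AlgHom.mapMatrix_apply, Matrix.map_apply, Matrix.sub_apply, h, mul_comm x]

/-- the geometric series matrix -/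
noncomputable def geom (A : Matrix m m R) : Matrix m m (PowerSeries R) :=
  Matrix.of fun i j => PowerSeries.mk fun n => (A ^ n) i j

lemma one_sub_mul_geom (A : Matrix m m R) :
    (1 - (PowerSeries.X : PowerSeries R) • A.map (algebraMap R (PowerSeries R))) * geom A = 1 := by
  rw [sub_mul, one_mul, smul_mul_assoc]
  ext i j n
  rw [Matrix.sub_apply, map_sub, Matrix.smul_apply, smul_eq_mul]
  cases n with
  | zero =>
    simp [geom, Matrix.one_apply]
  | succ n =>
    rw [PowerSeries.coeff_succ_X_mul, Matrix.mul_apply, map_sum]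
    simp [geom, Matrix.one_apply, pow_succ', Matrix.mul_apply]
    split_ifs <;> simp


lemma trace_geom_mul (A : Matrix m m R) :
    (geom A * A.map (algebraMap R (PowerSeries R))).trace =
      PowerSeries.mk fun n => (A ^ (n + 1)).trace := by
  ext n
  simp [Matrix.trace, Matrix.mul_apply, geom, pow_succ, map_sum]


open TrivSqZeroExt in
theorem aeval_derivative_charpolyRev (A : Matrix m m R) :
    aeval (PowerSeries.X : PowerSeries R) (derivative A.charpolyRev) =
      - (aeval (PowerSeries.X : PowerSeries R) A.charpolyRev *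
          PowerSeries.mk fun n => (A ^ (n + 1)).trace) := by
  set S := PowerSeries R
  set T : S := PowerSeries.X
  let ι : S →ₐ[R] DualNumber S := TrivSqZeroExt.inlAlgHom R S S
  let ε : DualNumber S := DualNumber.eps
  have hε : ε ^ 2 = 0 := by rw [pow_two]; exact DualNumber.eps_mul_eps
  have h1 := aeval_add_of_sq_eq_zero A.charpolyRev (ι T) ε hε
  rw [aeval_algHom_apply, aeval_algHom_apply] at h1
  -- the matrix side
  set AS : Matrix m m S := A.map (algebraMap R S) with hAS
  set AD : Matrix m m (DualNumber S) := A.map (algebraMap R (DualNumber S)) with hAD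
  have hASD : AS.map ι = AD := by
    refine Matrix.ext fun i j => ?_
    simp [hAS, hAD]
  set N : Matrix m m S := geom A
  have hM : (1 - T • AS).map ι = 1 - ι T • AD := by
    refine Matrix.ext fun i j => ?_
    by_cases h : i = j <;> simp [Matrix.map_apply, Matrix.sub_apply, h, hAS, hAD, T]
  have hone : (1 : Matrix m m S).map ι = 1 := by
    refine Matrix.ext fun i j => ?_
    by_cases h : i = j
    · subst h; simp
    · simp [Matrix.map_apply, h]
  have hMN : (1 - ι T • AD) * N.map ι = 1 := by
    have := congrArg (fun M => M.map ι) (one_sub_mul_geom A)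
    simp only [Matrix.map_mul] at this
    rw [← hM, ← hone]
    exact this
  have h2 : (1 : Matrix m m (DualNumber S)) - (ι T + ε) • AD =
      (1 - ι T • AD) * (1 + (-ε) • (N.map ι * AD)) := by
    rw [mul_add, mul_one, Matrix.mul_smul, ← Matrix.mul_assoc, hMN, one_mul, add_smul]
    simp only [neg_smul]
    abel
  have h3 : aeval (ι T + ε) A.charpolyRev =
      ι (aeval T A.charpolyRev) * (1 - ι (N * AS).trace * ε) := by
    rw [aeval_charpolyRev, ← hAD, h2, det_mul, det_one_add_smul]
    congr 1
    · rw [aeval_charpolyRev, ← hAS, ← hM]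
      exact (AlgHom.map_det ι _).symm
    · have hneg : (-ε) ^ 2 = 0 := by rw [neg_sq, hε]
      have htr : (N.map ι * AD).trace = ι (N * AS).trace := by
        rw [← hASD, ← Matrix.map_mul]
        exact (AddMonoidHom.map_trace (ι : S →+ DualNumber S) (N * AS)).symm
      rw [hneg, mul_zero, add_zero, htr]
      ring
  rw [h1] at h3
  have h4 := congrArg TrivSqZeroExt.snd h3
  have hfst : ∀ x : S, fst (ι x) = x := fun x => rfl
  have hsnd : ∀ x : S, snd (ι x) = 0 := fun x => rfl
  have hεf : fst ε = 0 := DualNumber.fst_eps
  have hεs : snd ε = 1 := DualNumber.snd_eps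
  simp [hfst, hsnd, hεf, hεs] at h4
  rw [h4, trace_geom_mul, mul_neg]


theorem logDeriv_charpolyRev (A : Matrix m m R) :
    ((-(X * Polynomial.derivative A.charpolyRev) : R[X]) : PowerSeries R) =
      (A.charpolyRev : PowerSeries R) *
        PowerSeries.mk (fun n => if n = 0 then 0 else (A ^ n).trace) := by
  have hcoe : ∀ p : R[X], (p : PowerSeries R) = aeval (PowerSeries.X : PowerSeries R) p := by
    intro p
    rw [Polynomial.aeval_def]
    exact Polynomial.eval₂_C_X_eq_coe.symm
  have hshift : (PowerSeries.mk (fun n => if n = 0 then 0 else (A ^ n).trace) : PowerSeries R) =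
      PowerSeries.X * PowerSeries.mk fun n => (A ^ (n + 1)).trace := by
    ext n
    cases n with
    | zero => simp
    | succ n => rw [PowerSeries.coeff_succ_X_mul]; simp
  rw [hshift, Polynomial.coe_neg, Polynomial.coe_mul, Polynomial.coe_X, hcoe (derivative _),
    hcoe A.charpolyRev, aeval_derivative_charpolyRev]
  ring

end Groth.Agent.Lib.Helper24LogDeriv
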