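import Mathlib
import Groth.Agent.S13056
import Groth.Agent.Lib.Helper27LogDeriv3
import Groth.Agent.Lib.Helper10FrobZeta

/-!
# The formal part of the cohomological expression of a zeta function

If `N_m = ∑_i (-1)^i tr(φ_i^m)` for all `m ≥ 1`, then
`exp(∑ N_m t^m/m) · ∏_{i even} det(1 - tφ_i) = ∏_{i odd} det(1 - tφ_i)`.
-/

namespace Groth.Agent.Lib.Helper10.ZetaFormal

open PowerSeries Groth.Agent.Lib.Helper27LogDeriv

variable {K : Type*} [Field K] [CharZero K]

/-- the logarithmic derivative and constant coefficient of `exp(∑ c_m t^m/m)` -/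
lemma LD_exp_mk (c : ℕ → K) :
    LD (PowerSeries.subst (PowerSeries.mk fun m : ℕ => c m / (m : K)) (PowerSeries.exp K))
        (PowerSeries.mk fun m => c (m + 1)) ∧
      coeff 0 (PowerSeries.subst (PowerSeries.mk fun m : ℕ => c m / (m : K))
        (PowerSeries.exp K)) = 1 := by
  set L : PowerSeries K := PowerSeries.mk fun m : ℕ => c m / (m : K) with hLdef
  have hL : PowerSeries.constantCoeff L = 0 := by
    rw [← PowerSeries.coeff_zero_eq_constantCoeff_apply, hLdef, PowerSeries.coeff_mk]
    simp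
  have hdL : PowerSeries.derivative K L = PowerSeries.mk fun m => c (m + 1) := by
    ext m
    rw [PowerSeries.coeff_derivative, hLdef, PowerSeries.coeff_mk, PowerSeries.coeff_mk]
    have h1 : ((m + 1 : ℕ) : K) ≠ 0 := by exact_mod_cast Nat.succ_ne_zero m
    rw [show ((m : K) + 1) = ((m + 1 : ℕ) : K) by push_cast; ring, div_mul_cancel₀ _ h1]
  exact ⟨(LD.exp_subst' L hL).congr hdL, coeff_zero_exp_subst' L hL⟩

/-- `det(1 - tφ)` as a power series: logarithmic derivative and constant coefficient. -/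
lemma LD_charpoly_reverse {V : Type*} [AddCommGroup V] [Module K V] [Module.Finite K V]
    (φ : V →ₗ[K] V) :
    LD ((LinearMap.charpoly φ).reverse : PowerSeries K)
        (PowerSeries.mk fun m => -(LinearMap.trace K V (φ ^ (m + 1)))) ∧
      coeff 0 ((LinearMap.charpoly φ).reverse : PowerSeries K) = 1 := by
  classical
  set b := Module.Free.chooseBasis K V with hb
  set M := LinearMap.toMatrix b b φ with hM
  have h1 : ((LinearMap.charpoly φ).reverse : PowerSeries K) =
      PowerSeries.subst (PowerSeries.mk fun m : ℕ => -(Matrix.trace (M ^ m)) / (m : K))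
        (PowerSeries.exp K) := by
    rw [LinearMap.charpoly_def, Matrix.reverse_charpoly]
    exact Groth.Agent.S13056.result M
  have h2 := LD_exp_mk (K := K) (fun m => -(Matrix.trace (M ^ m)))
  rw [h1]
  refine ⟨h2.1.congr ?_, h2.2⟩
  ext m
  rw [PowerSeries.coeff_mk, PowerSeries.coeff_mk, hM, LinearMap.toMatrix_pow,
    ← LinearMap.trace_eq_matrix_trace]

omit [CharZero K] in
lemma sum_alt (n : ℕ) (a : ℕ → K) : ∑ i ∈ Finset.range (2 * n + 1), (-1 : K) ^ i * a i =
    ∑ i ∈ Finset.range (n + 1), a (2 * i) - ∑ i ∈ Finset.range n, a (2 * i + 1) := by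
  induction n with
  | zero => simp
  | succ n ih =>
    rw [show 2 * (n + 1) + 1 = (2 * n + 1) + 1 + 1 by ring, Finset.sum_range_succ,
      Finset.sum_range_succ, ih, Finset.sum_range_succ (fun i => a (2 * i)) (n + 1),
      Finset.sum_range_succ (fun i => a (2 * i + 1)) n]
    have h1 : (-1 : K) ^ (2 * n + 1) = -1 := by
      rw [pow_succ, pow_mul]; simp
    have h2 : (-1 : K) ^ (2 * n + 1 + 1) = 1 := by
      rw [pow_succ, h1]; simp
    rw [h1, h2, show 2 * (n + 1) = 2 * n + 1 + 1 by ring]
    ring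

theorem main (N : ℕ → ℚ) (n : ℕ) (V : ℕ → Type*) [∀ i, AddCommGroup (V i)]
    [∀ i, Module K (V i)] [∀ i, Module.Finite K (V i)] (φ : ∀ i, V i →ₗ[K] V i)
    (hN : ∀ m, 1 ≤ m → (N m : K) =
      ∑ i ∈ Finset.range (2 * n + 1), (-1 : K) ^ i * LinearMap.trace K (V i) (φ i ^ m)) :
    PowerSeries.map (algebraMap ℚ K)
        (PowerSeries.subst (PowerSeries.mk fun m : ℕ => N m / (m : ℚ)) (PowerSeries.exp ℚ)) *
        (∏ i ∈ Finset.range (n + 1), ((LinearMap.charpoly (φ (2 * i))).reverse : PowerSeries K)) =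
      ∏ i ∈ Finset.range n, ((LinearMap.charpoly (φ (2 * i + 1))).reverse : PowerSeries K) := by
  classical
  -- the zeta factor over `K`
  have hL0 : PowerSeries.constantCoeff (PowerSeries.mk fun m : ℕ => N m / (m : ℚ)) = 0 := by
    rw [← PowerSeries.coeff_zero_eq_constantCoeff_apply, PowerSeries.coeff_mk]
    simp
  have hZ : PowerSeries.map (algebraMap ℚ K)
        (PowerSeries.subst (PowerSeries.mk fun m : ℕ => N m / (m : ℚ)) (PowerSeries.exp ℚ)) =
      PowerSeries.subst (PowerSeries.mk fun m : ℕ => (N m : K) / (m : K)) (PowerSeries.exp K) := by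
    have h1 := PowerSeries.map_subst (h := algebraMap ℚ K) (HasSubst.of_constantCoeff_zero' hL0)
      (PowerSeries.exp ℚ)
    rw [PowerSeries.map_exp] at h1
    refine h1.trans ?_
    congr 1
    ext m
    change (coeff m) ((PowerSeries.map (algebraMap ℚ K)) (mk fun m => N m / ↑m)) = _
    rw [PowerSeries.coeff_map, PowerSeries.coeff_mk, PowerSeries.coeff_mk]
    simp
  rw [hZ]
  have hZ' := LD_exp_mk (K := K) (fun m => (N m : K))
  have hE := LD.prod (Finset.range (n + 1))
    (fun i => ((LinearMap.charpoly (φ (2 * i))).reverse : PowerSeries K))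
    (fun i => PowerSeries.mk fun m => -(LinearMap.trace K (V (2 * i)) (φ (2 * i) ^ (m + 1))))
    (fun i _ => (LD_charpoly_reverse (φ (2 * i))).1)
  have hO := LD.prod (Finset.range n)
    (fun i => ((LinearMap.charpoly (φ (2 * i + 1))).reverse : PowerSeries K))
    (fun i => PowerSeries.mk fun m => -(LinearMap.trace K (V (2 * i + 1)) (φ (2 * i + 1) ^ (m + 1))))
    (fun i _ => (LD_charpoly_reverse (φ (2 * i + 1))).1)
  refine LD.unique' ((hZ'.1.mul hE).congr ?_) hO ?_
  · ext m
    simp only [map_add, map_sum, PowerSeries.coeff_mk]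
    rw [hN (m + 1) (by omega)]
    rw [sum_alt (K := K) n (fun i => LinearMap.trace K (V i) (φ i ^ (m + 1))), Finset.sum_neg_distrib,
      Finset.sum_neg_distrib]
    ring
  · have h0 : ∀ (s : Finset ℕ) (F : ℕ → PowerSeries K), (∀ i ∈ s, coeff 0 (F i) = 1) →
        coeff 0 (∏ i ∈ s, F i) = 1 := by
      intro s F h
      rw [PowerSeries.coeff_zero_eq_constantCoeff_apply, map_prod]
      exact Finset.prod_eq_one fun i hi => by
        rw [← PowerSeries.coeff_zero_eq_constantCoeff_apply]; exact h i hi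
    rw [PowerSeries.coeff_zero_eq_constantCoeff_apply, map_mul,
      ← PowerSeries.coeff_zero_eq_constantCoeff_apply,
      ← PowerSeries.coeff_zero_eq_constantCoeff_apply, hZ'.2,
      h0 _ _ (fun i _ => (LD_charpoly_reverse (φ (2 * i))).2),
      h0 _ _ (fun i _ => (LD_charpoly_reverse (φ (2 * i + 1))).2), one_mul]

end Groth.Agent.Lib.Helper10.ZetaFormal
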