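import Groth.Agent.Lib.Helper10WeilFrob3
import Groth.Agent.Lib.Helper10FixCount
import Groth.Agent.Lib.Helper10FixMult
import Groth.Agent.Lib.Helper10ZetaFormal

/-!
# Weil cohomology: the zeta function as an alternating product of characteristic polynomials
-/

universe u v w

open AlgebraicGeometry CategoryTheory CategoryTheory.Limits

namespace Groth.Agent.Lib.Helper10.WeilPt

open Groth.Agent.Lib.Helper4.VarDim Groth.Agent.Lib.Helper4.DimFormula

attribute [local instance] overVar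

section FrobIter

variable {X : Scheme.{u}} (FX : X ⟶ X) (q : ℕ) (hFb : FX.base = 𝟙 _)
  (hle : ∀ U : X.Opens, U ≤ FX ⁻¹ᵁ U)
  (hFapp : ∀ (U : X.Opens) (s : Γ(X, U)), (FX.appLE U U (hle U)).hom s = s ^ q)

/-- iterates of the Frobenius -/
noncomputable def frobIter : ℕ → (X ⟶ X)
  | 0 => 𝟙 X
  | (m + 1) => FX ≫ frobIter m

include hFb in
lemma frobIter_base (m : ℕ) : (frobIter FX m).base = 𝟙 _ := by
  induction m with
  | zero => rfl
  | succ m ih =>
    change (FX ≫ frobIter FX m).base = _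
    rw [Scheme.Hom.comp_base, hFb, ih]
    rfl

include hFb in
lemma frobIter_le (m : ℕ) (U : X.Opens) : U ≤ (frobIter FX m) ⁻¹ᵁ U := by
  intro x hx
  change (frobIter FX m).base x ∈ U
  rw [frobIter_base FX hFb m]
  exact hx

include hFapp in
lemma frobIter_appLE (m : ℕ) (U : X.Opens) (s : Γ(X, U)) :
    ((frobIter FX m).appLE U U (frobIter_le FX hFb m U)).hom s = s ^ (q ^ m) := by
  induction m with
  | zero =>
    have key : ∀ (e : U ≤ (𝟙 X) ⁻¹ᵁ U), (Scheme.Hom.appLE (𝟙 X) U U e).hom s = s := by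
      intro e
      rw [Groth.Agent.Lib.Helper10.FixMult.id_appLE]
      have h2 : X.presheaf.map (homOfLE e).op = 𝟙 (X.presheaf.obj (Opposite.op U)) := by
        rw [← X.presheaf.map_id]
        exact congrArg X.presheaf.map (Subsingleton.elim _ _)
      rw [h2]
      rfl
    rw [pow_zero, pow_one]
    exact key _
  | succ m ih =>
    have h1 := Scheme.Hom.appLE_comp_appLE FX (frobIter FX m) U U U
      (frobIter_le FX hFb m U) (hle U)
    have h2 : ((FX ≫ frobIter FX m).appLE U U (frobIter_le FX hFb (m + 1) U)).hom s =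
        (FX.appLE U U (hle U)).hom (((frobIter FX m).appLE U U (frobIter_le FX hFb m U)).hom s) := by
      rw [← CommRingCat.comp_apply, h1]
    change ((FX ≫ frobIter FX m).appLE U U _).hom s = _
    rw [h2, ih, hFapp, ← pow_mul, pow_succ]

end FrobIter

section Zeta

variable {k₀ : Type u} [Field k₀] [Finite k₀] {k : Type u} [Field k] [IsAlgClosed k] [Algebra k₀ k]
  {K : Type v} [Field K] [CharZero K] (T : WeilCoh.Theory k K)
  {X : Scheme.{u}} (f : X ⟶ Spec (CommRingCat.of k₀)) [LocallyOfFiniteType f]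
  (FX : X ⟶ X) (hFb : FX.base = 𝟙 _) (hle : ∀ U : X.Opens, U ≤ FX ⁻¹ᵁ U)
  (hFapp : ∀ (U : X.Opens) (s : Γ(X, U)), (FX.appLE U U (hle U)).hom s = s ^ Nat.card k₀)
  (Xb : WeilCoh.Var k) (π : Xb.obj.left ⟶ X)
  (hπ : IsPullback π Xb.obj.hom f (Spec.map (CommRingCat.ofHom (algebraMap k₀ k))))
  (F : Xb ⟶ Xb) (hF : WeilCoh.sm F ≫ π = π ≫ FX)
  (Pb : WeilCoh.Var k) (p q : Pb ⟶ Xb) (hP : WeilCoh.IsProd p q)

omit [Finite k₀] [IsAlgClosed k] [LocallyOfFiniteType f] in
include hF in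
lemma sm_iter_comp (m : ℕ) : WeilCoh.sm (iter F m) ≫ π = π ≫ frobIter FX m := by
  induction m with
  | zero =>
    change 𝟙 _ ≫ π = π ≫ 𝟙 _
    rw [Category.id_comp, Category.comp_id]
  | succ m ih =>
    change (WeilCoh.sm F ≫ WeilCoh.sm (iter F m)) ≫ π = π ≫ (FX ≫ frobIter FX m)
    rw [Category.assoc, ih, ← Category.assoc, hF, Category.assoc]

include hFb hFapp hπ hF hP in
/-- The number of `F_{q^m}`-points is the alternating sum of traces of the `m`-th power of
Frobenius. -/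
theorem nPts_eq (m : ℕ) (hm : 1 ≤ m) :
    (Zeta.nPts f m : K) = ∑ i ∈ Finset.range (2 * WeilCoh.dim Xb.obj.left + 1),
      (-1 : K) ^ i * LinearMap.trace K ↥(T.gr Xb (i : ℤ)) ((T.pullDeg F (i : ℤ)) ^ m) := by
  classical
  obtain ⟨j, hjq, hjp⟩ := exists_graph' q p hP.flip (iter F m)
  obtain ⟨d, hdq, hdp⟩ := exists_graph' q p hP.flip (𝟙 Xb)
  have hL := lefschetz T (iter F m) p q hP j d hjp hjq hdp hdq
  have hR : ∀ i : ℕ, T.pullDeg (iter F m) (i : ℤ) = (T.pullDeg F (i : ℤ)) ^ m := by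
    intro i
    ext b
    exact pull_iter T F (i : ℤ) m b
  simp_rw [hR] at hL
  rw [← hL]
  set η := genericPoint Xb.obj.left with hη
  rw [mul_comm_of_even T Pb _ _ (T.cl_mem Pb _), tr_cl_section_mul' T d p hdp, cl_generic,
    one_mul]
  -- the geometry
  have hg : WeilCoh.sm (iter F m) ≫ π = π ≫ frobIter FX m := sm_iter_comp FX Xb π F hF m
  have hgk : WeilCoh.sm (iter F m) ≫ Xb.obj.hom = Xb.obj.hom := sm_w (iter F m)
  have hdp' : WeilCoh.sm d ≫ WeilCoh.sm p = 𝟙 Xb.obj.left := sm_comp_eq_id d p hdp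
  have hdq' : WeilCoh.sm d ≫ WeilCoh.sm q = 𝟙 Xb.obj.left := sm_comp_eq_id d q hdq
  have hjp' : WeilCoh.sm j ≫ WeilCoh.sm p = 𝟙 Xb.obj.left := sm_comp_eq_id j p hjp
  have hjq' : WeilCoh.sm j ≫ WeilCoh.sm q = WeilCoh.sm (iter F m) :=
    congrArg (fun φ => WeilCoh.sm φ) hjq
  haveI : IsLocallyNoetherian Xb.obj.left :=
    LocallyOfFiniteType.isLocallyNoetherian Xb.obj.hom
  haveI : IsNoetherian Xb.obj.left := {}
  haveI : IsProper (WeilCoh.sm j ≫ Pb.obj.hom) := by
    rw [sm_w j]; infer_instance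
  haveI : IsProper (WeilCoh.sm j) := IsProper.of_comp (WeilCoh.sm j) Pb.obj.hom
  have hjc : IsClosed (Set.range (WeilCoh.sm j)) := (WeilCoh.sm j).isClosedMap.isClosed_range
  obtain ⟨hcl, hfin, hcard⟩ := Groth.Agent.Lib.Helper10.FixPts.card_fix f m (by omega)
    (frobIter FX m) (frobIter_base FX hFb m) (frobIter_le FX hFb m)
    (frobIter_appLE FX (Nat.card k₀) hFb hle hFapp m) Xb.obj.hom π hπ (WeilCoh.sm (iter F m)) hg hgk
    (WeilCoh.sm p) (WeilCoh.sm q) hP (WeilCoh.sm d) (WeilCoh.sm j) hdp' hdq' hjp' hjq' hjc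
  have hclo : closure ({WeilCoh.sm j η} : Set Pb.obj.left) = Set.range (WeilCoh.sm j) := by
    apply subset_antisymm
    · exact closure_minimal (by rintro _ rfl; exact ⟨η, rfl⟩) hjc
    · rintro _ ⟨y, rfl⟩
      have hy : y ∈ closure ({η} : Set Xb.obj.left) := by
        rw [(genericPoint_spec Xb.obj.left).def]; trivial
      have := image_closure_subset_closure_image (WeilCoh.sm j).continuous ⟨y, hy, rfl⟩
      rwa [Set.image_singleton] at this
  have hZ : ∀ w : Xb.obj.left, w ∈ (WeilCoh.sm d) ⁻¹' closure ({WeilCoh.sm j η} : Set Pb.obj.left) ↔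
      WeilCoh.sm d w = WeilCoh.sm j w := by
    intro w
    rw [hclo]
    constructor
    · rintro ⟨w', hw'⟩
      have h1 : WeilCoh.sm p (WeilCoh.sm j w') = w' := by
        rw [← Scheme.Hom.comp_apply, hjp']; rfl
      have h2 : WeilCoh.sm p (WeilCoh.sm d w) = w := by
        rw [← Scheme.Hom.comp_apply, hdp']; rfl
      have h3 : w' = w := by rw [← h1, hw', h2]
      subst h3
      exact hw'.symm
    · intro h
      exact ⟨w, h.symm⟩
  have hcomp : ∀ w : Xb.obj.left,
      WeilCoh.IsCompPt ((WeilCoh.sm d) ⁻¹' closure ({WeilCoh.sm j η} : Set Pb.obj.left)) w ↔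
        WeilCoh.sm d w = WeilCoh.sm j w := by
    intro w
    constructor
    · intro h
      exact (hZ w).mp h.1
    · intro h
      refine ⟨(hZ w).mpr h, fun w' hw' hs => ?_⟩
      have hc' := hcl w' ((hZ w').mp hw')
      have : w ∈ closure ({w'} : Set Xb.obj.left) := specializes_iff_mem_closure.mp hs
      rw [hc'.closure_eq] at this
      exact this.symm
  have hpull := T.cl_pull d (WeilCoh.sm j η) (by
    intro w hw
    have hc' := hcl w ((hcomp w).mp hw)
    rw [pdim_eq_zero_of_isClosed w hc', pdim_section j p hjp, dim_prod p q hP]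
    push_cast
    ring) (Or.inr (by
    intro w hw
    have hc' := hcl w ((hcomp w).mp hw)
    exact Groth.Agent.Lib.Helper10.FixMult.preimMult_eq_one Xb.obj.hom f m (by omega)
      (frobIter FX m) (frobIter_le FX hFb m)
      (frobIter_appLE FX (Nat.card k₀) hFb hle hFapp m) π hπ (WeilCoh.sm (iter F m)) hg
      (WeilCoh.sm p) (WeilCoh.sm q) (WeilCoh.sm d) (WeilCoh.sm j) hdp' hdq' hjp' hjq' w η hc' hw.1))
  rw [hpull]
  haveI : Finite {w : Xb.obj.left // WeilCoh.sm d w = WeilCoh.sm j w} := hfin.to_subtype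
  let E : {w : Xb.obj.left //
      WeilCoh.IsCompPt ((WeilCoh.sm d) ⁻¹' closure ({WeilCoh.sm j η} : Set Pb.obj.left)) w} ≃
        {w : Xb.obj.left // WeilCoh.sm d w = WeilCoh.sm j w} :=
    Equiv.subtypeEquivRight hcomp
  haveI : Finite {w : Xb.obj.left //
      WeilCoh.IsCompPt ((WeilCoh.sm d) ⁻¹' closure ({WeilCoh.sm j η} : Set Pb.obj.left)) w} :=
    Finite.of_equiv _ E.symm
  haveI := Fintype.ofFinite {w : Xb.obj.left //
      WeilCoh.IsCompPt ((WeilCoh.sm d) ⁻¹' closure ({WeilCoh.sm j η} : Set Pb.obj.left)) w}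
  rw [finsum_eq_sum_of_fintype, map_sum]
  have hterm : ∀ w : {w : Xb.obj.left //
      WeilCoh.IsCompPt ((WeilCoh.sm d) ⁻¹' closure ({WeilCoh.sm j η} : Set Pb.obj.left)) w},
      T.tr Xb ((WeilCoh.preimMult (WeilCoh.sm d) (WeilCoh.sm j η) w.1 w.2.1 : K) • T.cl Xb w.1) = 1 := by
    intro w
    have hc' := hcl w.1 ((hcomp w.1).mp w.2)
    rw [map_smul, tr_cl_closedPoint T Xb w.1 hc',
      Groth.Agent.Lib.Helper10.FixMult.preimMult_eq_one Xb.obj.hom f m (by omega)
      (frobIter FX m) (frobIter_le FX hFb m)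
      (frobIter_appLE FX (Nat.card k₀) hFb hle hFapp m) π hπ (WeilCoh.sm (iter F m)) hg
      (WeilCoh.sm p) (WeilCoh.sm q) (WeilCoh.sm d) (WeilCoh.sm j) hdp' hdq' hjp' hjq' w.1 η hc' w.2.1]
    simp
  rw [Finset.sum_congr rfl (fun w _ => hterm w), Finset.sum_const, Finset.card_univ,
    ← Nat.card_eq_fintype_card, Nat.card_congr E, hcard]
  simp

end Zeta

end Groth.Agent.Lib.Helper10.WeilPt
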