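import Mathlib

/-!
# Localization of an integral extension at a prime with a unique prime above it (helper10)
-/

universe u

namespace Groth.Agent.Lib.Helper10.ZMTLoc

variable {B C : Type u} [CommRing B] [CommRing C] [Algebra B C]

/-- If `r` is the only prime of the integral `B`-algebra `C` above the prime `n` of `B`, then every
`t ∉ r` divides the image of some `s ∈ B ∖ n`. -/
theorem exists_mul_eq_algebraMap [Algebra.IsIntegral B C] (r : Ideal C) [r.IsPrime] (n : Ideal B)
    [n.IsPrime]
    (huniq : ∀ r' : Ideal C, r'.IsPrime → r'.comap (algebraMap B C) = n → r' = r)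
    (t : C) (ht : t ∉ r) : ∃ (c : C) (s : B), s ∉ n ∧ t * c = algebraMap B C s := by
  by_contra hcon
  push_neg at hcon
  have hdisj : Disjoint ((Ideal.span {t} : Ideal C) : Set C)
      (Algebra.algebraMapSubmonoid C n.primeCompl) := by
    rw [Set.disjoint_left]
    rintro x hx ⟨s, hs, rfl⟩
    rw [SetLike.mem_coe, Ideal.mem_span_singleton'] at hx
    obtain ⟨c, hc⟩ := hx
    exact hcon c s hs (by rw [mul_comm]; exact hc)
  obtain ⟨q, hqp, hq1, hq2⟩ := Ideal.exists_le_prime_disjoint _ _ hdisj
  have hqn : q.comap (algebraMap B C) ≤ n := by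
    intro b hb
    by_contra hbn
    exact Set.disjoint_left.mp hq2 hb ⟨b, hbn, rfl⟩
  obtain ⟨Q, hQq, hQp, hQn⟩ := Ideal.exists_ideal_over_prime_of_isIntegral n q hqn
  have hQr : Q = r := huniq Q hQp hQn
  exact ht (hQr ▸ hQq (hq1 (Ideal.mem_span_singleton_self t)))

/-- If `S` is a localization at `N`, `M ≤ N` and every element of `N` divides an element of `M`,
then `S` is a localization at `M`. -/
theorem isLocalization_of_exists_dvd {R S : Type*} [CommRing R] [CommRing S] [Algebra R S]
    (M N : Submonoid R) [IsLocalization N S] (h₁ : M ≤ N) (h₂ : ∀ n ∈ N, ∃ m ∈ M, n ∣ m) :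
    IsLocalization M S := by
  refine ⟨fun m => IsLocalization.map_units S (⟨m.1, h₁ m.2⟩ : N), fun x => ?_, fun {a b} hab => ?_⟩
  · obtain ⟨⟨c, t⟩, hct⟩ := IsLocalization.surj N x
    obtain ⟨m, hm, c', hc'⟩ := h₂ t.1 t.2
    refine ⟨⟨c * c', ⟨m, hm⟩⟩, ?_⟩
    show x * algebraMap R S m = algebraMap R S (c * c')
    rw [hc', map_mul, map_mul, ← mul_assoc, hct]
  · obtain ⟨t, ht⟩ := IsLocalization.exists_of_eq (M := N) hab
    obtain ⟨m, hm, c', hc'⟩ := h₂ t.1 t.2
    refine ⟨⟨m, hm⟩, ?_⟩
    show m * a = m * b
    rw [hc', mul_comm t.1 c', mul_assoc, mul_assoc, ht]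

/-- Main localization statement: with a unique prime `r` over `n`, `C_r` is the localization of `C`
at `B ∖ n`. -/
theorem isLocalization_atPrime_of_unique [Algebra.IsIntegral B C] (r : Ideal C) [r.IsPrime]
    (n : Ideal B) [n.IsPrime] (hn : n = r.comap (algebraMap B C))
    (huniq : ∀ r' : Ideal C, r'.IsPrime → r'.comap (algebraMap B C) = n → r' = r) :
    IsLocalization (Algebra.algebraMapSubmonoid C n.primeCompl) (Localization.AtPrime r) := by
  refine isLocalization_of_exists_dvd _ r.primeCompl ?_ ?_
  · rintro _ ⟨s, hs, rfl⟩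
    show algebraMap B C s ∉ r
    intro h
    exact hs (hn ▸ h)
  · intro t ht
    obtain ⟨c, s, hs, hcs⟩ := exists_mul_eq_algebraMap r n huniq t ht
    exact ⟨algebraMap B C s, ⟨s, hs, rfl⟩, c, hcs.symm⟩

/-- Bijectivity of `B_n → C_r`. -/
theorem bijective_localRingHom [Algebra.IsIntegral B C] [Module.Finite B C]
    (hinj : Function.Injective (algebraMap B C)) (r : Ideal C) [r.IsPrime]
    (n : Ideal B) [n.IsPrime] (hn : n = r.comap (algebraMap B C))
    (huniq : ∀ r' : Ideal C, r'.IsPrime → r'.comap (algebraMap B C) = n → r' = r)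
    (I : Ideal B) (hI : I ≤ n)
    (hgen : ∀ x : Localization.AtPrime r, ∃ b : Localization.AtPrime n,
      x - Localization.localRingHom n r (algebraMap B C) hn b ∈
        I.map (algebraMap B (Localization.AtPrime r))) :
    Function.Bijective (Localization.localRingHom n r (algebraMap B C) hn) := by
  set φ := Localization.localRingHom n r (algebraMap B C) hn with hφ
  constructor
  · -- injectivity
    rw [injective_iff_map_eq_zero]
    intro x hx
    obtain ⟨b, s, rfl⟩ := IsLocalization.mk'_surjective n.primeCompl x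
    rw [hφ, Localization.localRingHom_mk', IsLocalization.mk'_eq_zero_iff] at hx
    obtain ⟨t, ht⟩ := hx
    obtain ⟨c, s', hs', hcs⟩ := exists_mul_eq_algebraMap r n huniq t.1 t.2
    rw [IsLocalization.mk'_eq_zero_iff]
    refine ⟨⟨s', hs'⟩, hinj ?_⟩
    rw [map_mul, map_zero, ← hcs, mul_comm t.1 c, mul_assoc, ht, mul_zero]
  · -- surjectivity by Nakayama
    letI : Algebra (Localization.AtPrime n) (Localization.AtPrime r) := φ.toAlgebra
    haveI : IsScalarTower B (Localization.AtPrime n) (Localization.AtPrime r) :=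
      IsScalarTower.of_algebraMap_eq fun x => by
        show _ = φ (algebraMap B (Localization.AtPrime n) x)
        rw [hφ, Localization.localRingHom_to_map, ← IsScalarTower.algebraMap_apply]
    haveI := isLocalization_atPrime_of_unique r n hn huniq
    haveI : Module.Finite (Localization.AtPrime n) (Localization.AtPrime r) :=
      Module.Finite.of_isLocalization B C n.primeCompl
    set N : Submodule (Localization.AtPrime n) (Localization.AtPrime r) :=
      LinearMap.range (Algebra.linearMap (Localization.AtPrime n) (Localization.AtPrime r)) with hN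
    set J : Ideal (Localization.AtPrime n) := I.map (algebraMap B (Localization.AtPrime n)) with hJ
    have hJle : J ≤ Ideal.jacobson ⊥ := by
      rw [IsLocalRing.jacobson_eq_maximalIdeal ⊥ bot_ne_top, hJ, Ideal.map_le_iff_le_comap]
      have h1 := IsLocalization.AtPrime.under_maximalIdeal (Localization.AtPrime n) n
      rw [Ideal.under_def] at h1
      rw [h1]
      exact hI
    have htop : (⊤ : Submodule (Localization.AtPrime n) (Localization.AtPrime r)) ≤ N := by
      refine Submodule.le_of_le_smul_of_le_jacobson_bot Module.Finite.fg_top hJle ?_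
      rw [Ideal.smul_top_eq_map]
      intro x _
      obtain ⟨b, hb⟩ := hgen x
      have hx : x = φ b + (x - φ b) := by ring
      rw [hx]
      refine Submodule.add_mem_sup ⟨b, rfl⟩ ?_
      show x - φ b ∈ J.map (algebraMap (Localization.AtPrime n) (Localization.AtPrime r))
      rw [hJ, Ideal.map_map, ← IsScalarTower.algebraMap_eq]
      exact hb
    intro x
    obtain ⟨b, hb⟩ := htop (Submodule.mem_top (x := x))
    exact ⟨b, hb⟩

end Groth.Agent.Lib.Helper10.ZMTLoc
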