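import Mathlib
import Groth.Agent.Lib.Helper10ZMTLoc

/-!
# S5076: B_n → C_r is bijective (helper10)
-/

universe u

namespace Groth.Agent.Lib.Helper10.ZMTLoc

theorem main5076 (A C : Type u) [CommRing A] [IsLocalRing A]
    [CommRing C] [Algebra A C] [Module.Finite A C] (r : Ideal C) [r.IsMaximal] (u : C)
    (hu₁ : ∀ r' : Ideal C, r'.IsMaximal → r' ≠ r → u ∈ r') (hu₂ : u ∉ r)
    (hu₃ : Subalgebra.toSubmodule (Algebra.adjoin A {algebraMap C (Localization.AtPrime r) u}) ⊔
        Submodule.restrictScalars A (Ideal.map (algebraMap A (Localization.AtPrime r))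
          (IsLocalRing.maximalIdeal A)) = ⊤) :
    Function.Bijective (Localization.localRingHom
      (Ideal.comap (Algebra.adjoin A ({u} : Set C)).val.toRingHom r) r
      (Algebra.adjoin A ({u} : Set C)).val.toRingHom rfl) := by
  set B := Algebra.adjoin A ({u} : Set C) with hB
  haveI : Algebra.IsIntegral A C := inferInstance
  haveI : Algebra.IsIntegral B C := Algebra.IsIntegral.tower_top (R := A)
  haveI : Module.Finite B C := Module.Finite.of_restrictScalars_finite A B C
  have hval : (algebraMap B C) = B.val.toRingHom := rfl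
  set n : Ideal B := Ideal.comap (algebraMap B C) r with hn
  haveI hnmax : n.IsMaximal := Ideal.isMaximal_comap_of_isIntegral_of_isMaximal r
  have huB : u ∈ B := Algebra.subset_adjoin (Set.mem_singleton u)
  have huniq : ∀ r' : Ideal C, r'.IsPrime → r'.comap (algebraMap B C) = n → r' = r := by
    intro r' hr' hr'n
    by_contra hne
    have hr'max : r'.IsMaximal := by
      refine Ideal.isMaximal_of_isIntegral_of_isMaximal_comap (R := B) r' ?_
      rw [hr'n]; exact hnmax
    have h1 : u ∈ r' := hu₁ r' hr'max hne
    have h2 : (⟨u, huB⟩ : B) ∈ r'.comap (algebraMap B C) := h1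
    rw [hr'n] at h2
    exact hu₂ h2
  have hmA : (IsLocalRing.maximalIdeal A) = r.comap (algebraMap A C) := by
    have hmax : (r.comap (algebraMap A C)).IsMaximal :=
      Ideal.isMaximal_comap_of_isIntegral_of_isMaximal r
    exact (IsLocalRing.eq_maximalIdeal hmax).symm
  have hI : (IsLocalRing.maximalIdeal A).map (algebraMap A B) ≤ n := by
    rw [Ideal.map_le_iff_le_comap, hn, Ideal.comap_comap, ← IsScalarTower.algebraMap_eq, ← hmA]
  refine bijective_localRingHom (B := B) (C := C) (fun x y h => Subtype.ext h) r n rfl huniq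
    ((IsLocalRing.maximalIdeal A).map (algebraMap A B)) hI ?_
  intro x
  have hx : x ∈ (⊤ : Submodule A (Localization.AtPrime r)) := Submodule.mem_top
  rw [← hu₃, Submodule.mem_sup] at hx
  obtain ⟨y, hy, z, hz, hyz⟩ := hx
  rw [Subalgebra.mem_toSubmodule, Algebra.adjoin_singleton_eq_range_aeval] at hy
  obtain ⟨P, hP⟩ := hy
  refine ⟨algebraMap B (Localization.AtPrime n) (Polynomial.aeval (⟨u, huB⟩ : B) P), ?_⟩
  rw [Localization.localRingHom_to_map]
  have h1 : algebraMap B C (Polynomial.aeval (⟨u, huB⟩ : B) P) = Polynomial.aeval u P :=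
    Polynomial.aeval_subalgebra_coe P B ⟨u, huB⟩
  rw [h1, ← Polynomial.aeval_algebraMap_apply]
  have h2 : x - Polynomial.aeval (algebraMap C (Localization.AtPrime r) u) P = z := by
    have : Polynomial.aeval (algebraMap C (Localization.AtPrime r) u) P = y := hP
    rw [this, ← hyz]; ring
  rw [h2, Ideal.map_map]
  have h3 : (algebraMap B (Localization.AtPrime r)).comp (algebraMap A B) =
      algebraMap A (Localization.AtPrime r) := by
    ext a
    simp only [RingHom.comp_apply]
    rw [IsScalarTower.algebraMap_apply B C (Localization.AtPrime r),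
      ← IsScalarTower.algebraMap_apply A B C,
      ← IsScalarTower.algebraMap_apply A C (Localization.AtPrime r)]
  have hz' : z ∈ Ideal.map (algebraMap A (Localization.AtPrime r)) (IsLocalRing.maximalIdeal A) := hz
  convert hz' using 2
  exact h3

end Groth.Agent.Lib.Helper10.ZMTLoc
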