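import Mathlib
import Groth.Agent.Lib.Helper10ZetaA1
import Groth.Agent.Lib.Helper27LogDeriv3

/-!
# The zeta function after a finite extension of the base field
-/

universe u

open AlgebraicGeometry CategoryTheory CategoryTheory.Limits

namespace Groth.Agent.Lib.Helper10.ZetaExt

open Groth.Agent.Lib.Helper10.FixPts Groth.Agent.Lib.Helper27LogDeriv Groth.Agent.Lib.Helper10.ZetaA1

section Formal

variable {K : Type*} [Field K] [CharZero K]

/-- `exp ∘ (rescale a L) = rescale a (exp ∘ L)` over a field of characteristic zero -/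
lemma subst_rescale' (a : K) (L : PowerSeries K) (hL : PowerSeries.constantCoeff L = 0) :
    PowerSeries.subst (PowerSeries.rescale a L) (PowerSeries.exp K) =
      PowerSeries.rescale a (PowerSeries.subst L (PowerSeries.exp K)) := by
  have hder : ∀ F : PowerSeries K, PowerSeries.derivative K (PowerSeries.rescale a F) =
      PowerSeries.C a * PowerSeries.rescale a (PowerSeries.derivative K F) := by
    intro F
    ext n
    rw [PowerSeries.coeff_derivative, PowerSeries.coeff_rescale, PowerSeries.coeff_C_mul,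
      PowerSeries.coeff_rescale, PowerSeries.coeff_derivative]
    ring
  have hL' : PowerSeries.constantCoeff (PowerSeries.rescale a L) = 0 := by
    rw [← PowerSeries.coeff_zero_eq_constantCoeff_apply, PowerSeries.coeff_rescale, pow_zero,
      one_mul, PowerSeries.coeff_zero_eq_constantCoeff_apply, hL]
  refine LD.unique' (S := PowerSeries.C a * PowerSeries.rescale a (PowerSeries.derivative K L))
    ((LD.exp_subst' _ hL').congr (hder L)) ?_ ?_
  · have h1 := LD.exp_subst' L hL
    unfold LD at h1 ⊢
    rw [hder, h1, map_mul]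
    ring
  · rw [coeff_zero_exp_subst' _ hL', PowerSeries.coeff_rescale, pow_zero, one_mul,
      coeff_zero_exp_subst' _ hL]

/-- `exp` of a finite sum is the product of the `exp`s -/
lemma exp_subst_sum {ι : Type*} (s : Finset ι) (B : ι → PowerSeries K)
    (hB : ∀ i ∈ s, PowerSeries.constantCoeff (B i) = 0) :
    PowerSeries.subst (∑ i ∈ s, B i) (PowerSeries.exp K) =
      ∏ i ∈ s, PowerSeries.subst (B i) (PowerSeries.exp K) := by
  have h0 : PowerSeries.constantCoeff (∑ i ∈ s, B i) = 0 := by
    rw [map_sum]; exact Finset.sum_eq_zero hB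
  refine LD.unique' (S := PowerSeries.derivative K (∑ i ∈ s, B i)) (LD.exp_subst' _ h0) ?_ ?_
  · rw [map_sum]
    exact LD.prod _ _ _ (fun i hi => LD.exp_subst' _ (hB i hi))
  · rw [coeff_zero_exp_subst' _ h0, PowerSeries.coeff_zero_eq_constantCoeff_apply, map_prod]
    symm
    refine Finset.prod_eq_one fun i hi => ?_
    rw [← PowerSeries.coeff_zero_eq_constantCoeff_apply]
    exact coeff_zero_exp_subst' _ (hB i hi)

omit [CharZero K] in
/-- sums of powers of a primitive root of unity -/
lemma sum_pow_primitiveRoot (ξ : K) (r : ℕ) (hξ : IsPrimitiveRoot ξ r) (n : ℕ) :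
    ∑ i ∈ Finset.range r, (ξ ^ i) ^ n = if r ∣ n then (r : K) else 0 := by
  have h1 : ∀ i, (ξ ^ i) ^ n = (ξ ^ n) ^ i := fun i => by rw [← pow_mul, ← pow_mul, mul_comm]
  simp_rw [h1]
  split_ifs with h
  · rw [(hξ.pow_eq_one_iff_dvd n).mpr h]
    simp
  · have hne : ξ ^ n ≠ 1 := fun h' => h ((hξ.pow_eq_one_iff_dvd n).mp h')
    have h2 := geom_sum_mul (ξ ^ n) r
    rw [← pow_mul, mul_comm n r, pow_mul, hξ.pow_eq_one, one_pow, sub_self] at h2
    exact (mul_eq_zero.mp h2).resolve_right (sub_ne_zero.mpr hne)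

/-- the formal identity behind `Z(X', t^r) = ∏ Z(X, ξ^i t)` -/
theorem formal (ξ : K) (r : ℕ) (hr : r ≠ 0) (hξ : IsPrimitiveRoot ξ r) (N N' : ℕ → ℚ)
    (hN : ∀ m, N' m = N (r * m)) :
    PowerSeries.subst ((PowerSeries.X : PowerSeries K) ^ r)
        (PowerSeries.map (algebraMap ℚ K)
          (PowerSeries.subst (PowerSeries.mk fun m : ℕ => N' m / (m : ℚ)) (PowerSeries.exp ℚ))) =
      ∏ i ∈ Finset.range r, PowerSeries.rescale (ξ ^ i) (PowerSeries.map (algebraMap ℚ K)
          (PowerSeries.subst (PowerSeries.mk fun m : ℕ => N m / (m : ℚ)) (PowerSeries.exp ℚ))) := by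
  have hmap : ∀ M : ℕ → ℚ, PowerSeries.map (algebraMap ℚ K)
        (PowerSeries.subst (PowerSeries.mk fun m : ℕ => M m / (m : ℚ)) (PowerSeries.exp ℚ)) =
      PowerSeries.subst (PowerSeries.mk fun m : ℕ => (M m : K) / (m : K)) (PowerSeries.exp K) := by
    intro M
    have hL0 : PowerSeries.constantCoeff (PowerSeries.mk fun m : ℕ => M m / (m : ℚ)) = 0 := by
      rw [← PowerSeries.coeff_zero_eq_constantCoeff_apply, PowerSeries.coeff_mk]
      simp
    have h1 := PowerSeries.map_subst (h := algebraMap ℚ K)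
      (PowerSeries.HasSubst.of_constantCoeff_zero' hL0) (PowerSeries.exp ℚ)
    rw [PowerSeries.map_exp] at h1
    refine h1.trans ?_
    congr 1
    ext m
    change (PowerSeries.coeff m) ((PowerSeries.map (algebraMap ℚ K))
      (PowerSeries.mk fun m => M m / ↑m)) = _
    rw [PowerSeries.coeff_map, PowerSeries.coeff_mk, PowerSeries.coeff_mk]
    simp
  have hc0 : ∀ M : ℕ → ℚ, PowerSeries.constantCoeff
      (PowerSeries.mk fun m : ℕ => (M m : K) / (m : K)) = 0 := by
    intro M
    rw [← PowerSeries.coeff_zero_eq_constantCoeff_apply, PowerSeries.coeff_mk]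
    simp
  rw [hmap, hmap, ← PowerSeries.expand_apply r hr]
  have hexp : PowerSeries.expand r hr (PowerSeries.subst
      (PowerSeries.mk fun m : ℕ => (N' m : K) / (m : K)) (PowerSeries.exp K)) =
      PowerSeries.subst (PowerSeries.expand r hr
        (PowerSeries.mk fun m : ℕ => (N' m : K) / (m : K))) (PowerSeries.exp K) :=
    PowerSeries.expand_subst (τ := Unit) r hr
      (PowerSeries.HasSubst.of_constantCoeff_zero' (hc0 N')) (PowerSeries.exp K)
  rw [hexp]
  have hresc : ∀ i ∈ Finset.range r, PowerSeries.rescale (ξ ^ i)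
      (PowerSeries.subst (PowerSeries.mk fun m : ℕ => (N m : K) / (m : K)) (PowerSeries.exp K)) =
      PowerSeries.subst (PowerSeries.rescale (ξ ^ i)
        (PowerSeries.mk fun m : ℕ => (N m : K) / (m : K))) (PowerSeries.exp K) :=
    fun i _ => (subst_rescale' _ _ (hc0 N)).symm
  rw [Finset.prod_congr rfl hresc, ← exp_subst_sum]
  · congr 1
    ext n
    change PowerSeries.coeff n (PowerSeries.expand r hr _) = _
    rw [PowerSeries.coeff_expand, map_sum]
    simp only [PowerSeries.coeff_rescale, PowerSeries.coeff_mk]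
    rw [← Finset.sum_mul, sum_pow_primitiveRoot ξ r hξ n]
    split_ifs with h
    · obtain ⟨m, rfl⟩ := h
      rw [Nat.mul_div_cancel_left _ (Nat.pos_of_ne_zero hr), hN]
      rcases Nat.eq_zero_or_pos m with rfl | hm
      · simp
      · have h1 : (r : K) ≠ 0 := Nat.cast_ne_zero.mpr hr
        have h2 : (m : K) ≠ 0 := Nat.cast_ne_zero.mpr hm.ne'
        push_cast
        field_simp
    · rw [zero_mul]
  · intro i _
    rw [← PowerSeries.coeff_zero_eq_constantCoeff_apply, PowerSeries.coeff_rescale, pow_zero,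
      one_mul, PowerSeries.coeff_zero_eq_constantCoeff_apply, hc0]

end Formal

section Points

variable {k : Type u} [Field k] {X : Scheme.{u}} (f : X ⟶ Spec (CommRingCat.of k))
  (k' : Type u) [Field k'] [Algebra k k']
  (k'' : Type u) [Field k''] [Algebra k' k''] [Algebra k k''] [IsScalarTower k k' k'']

/-- `k''`-points of the base change `X'` over `k'` are `k''`-points of `X` over `k` -/
lemma pointCount_baseChange :
    SgaExt.pointCount (pullback.snd f (Spec.map (CommRingCat.ofHom (algebraMap k k')))) k'' =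
      SgaExt.pointCount f k'' := by
  unfold SgaExt.pointCount
  have hcomp : Spec.map (CommRingCat.ofHom (algebraMap k' k'')) ≫
      Spec.map (CommRingCat.ofHom (algebraMap k k')) =
      Spec.map (CommRingCat.ofHom (algebraMap k k'')) := by
    rw [← Spec.map_comp, ← CommRingCat.ofHom_comp, ← IsScalarTower.algebraMap_eq]
  refine Nat.card_congr (Equiv.ofBijective
    (fun g => ⟨g.1 ≫ pullback.fst f (Spec.map (CommRingCat.ofHom (algebraMap k k'))), ?_⟩)
    ⟨?_, ?_⟩)
  · rw [Category.assoc, pullback.condition, ← Category.assoc, g.2, hcomp]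
  · rintro ⟨g, hg⟩ ⟨g', hg'⟩ h
    have h1 : g ≫ pullback.fst f (Spec.map (CommRingCat.ofHom (algebraMap k k'))) =
        g' ≫ pullback.fst f (Spec.map (CommRingCat.ofHom (algebraMap k k'))) :=
      congrArg Subtype.val h
    exact Subtype.ext (pullback.hom_ext h1 (hg.trans hg'.symm))
  · rintro ⟨a, ha⟩
    refine ⟨⟨pullback.lift a (Spec.map (CommRingCat.ofHom (algebraMap k' k'')))
      (by rw [ha, hcomp]), pullback.lift_snd _ _ _⟩, Subtype.ext ?_⟩
    exact pullback.lift_fst _ _ _

end Points

section Main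

variable {k : Type u} [Field k] [Finite k] {X : Scheme.{u}} (f : X ⟶ Spec (CommRingCat.of k))
  [LocallyOfFiniteType f] [QuasiCompact f]
  (k' : Type u) [Field k'] [Algebra k k'] [Finite k']

lemma nPts_baseChange (m : ℕ) :
    Zeta.nPts (pullback.snd f (Spec.map (CommRingCat.ofHom (algebraMap k k')))) m =
      Zeta.nPts f (Module.finrank k k' * m) := by
  rcases Nat.eq_zero_or_pos m with rfl | hm
  · simp [Zeta.nPts]
  obtain ⟨k'', _, _, _, hk''⟩ := exists_finite_extension k' m hm.ne'
  letI : Algebra k k'' := ((algebraMap k' k'').comp (algebraMap k k')).toAlgebra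
  haveI : IsScalarTower k k' k'' := IsScalarTower.of_algebraMap_eq fun _ => rfl
  haveI : Module.Finite k k' := Module.Finite.of_finite
  haveI : Module.Finite k' k'' := Module.Finite.of_finite
  have hfr : Module.finrank k k'' = Module.finrank k k' * m := by
    rw [← hk'', Module.finrank_mul_finrank]
  rw [← hfr, ← pointCount_eq, ← hk'', ← pointCount_eq, pointCount_baseChange]

/-- S13054 -/
theorem zetaFun_baseChange (ξ : ℂ) (hξ : IsPrimitiveRoot ξ (Module.finrank k k')) :
    PowerSeries.subst ((PowerSeries.X : PowerSeries ℂ) ^ Module.finrank k k')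
        (PowerSeries.map (algebraMap ℚ ℂ) (Zeta.zetaFun
          (pullback.snd f (Spec.map (CommRingCat.ofHom (algebraMap k k')))))) =
      ∏ i ∈ Finset.range (Module.finrank k k'),
        PowerSeries.rescale (ξ ^ i) (PowerSeries.map (algebraMap ℚ ℂ) (Zeta.zetaFun f)) := by
  haveI : Module.Finite k k' := Module.Finite.of_finite
  have hr : Module.finrank k k' ≠ 0 := (Module.finrank_pos).ne'
  exact formal ξ _ hr hξ (fun m => (Zeta.nPts f m : ℚ))
    (fun m => (Zeta.nPts (pullback.snd f (Spec.map (CommRingCat.ofHom (algebraMap k k')))) m : ℚ))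
    (fun m => by rw [nPts_baseChange])

end Main

end Groth.Agent.Lib.Helper10.ZetaExt
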