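import Groth.Agent.Lib.Helper27ProjSpaceBC

/-!
# Projective space commutes with base change: `P^n_R = P^n_ℤ ×_ℤ Spec R` (helper27)
-/

set_option autoImplicit false
universe u

open CategoryTheory CategoryTheory.Limits AlgebraicGeometry HomogeneousLocalization MvPolynomial

namespace Groth.Agent.Lib.Helper27ProjSpaceBC

variable (n : ℕ) (R : Type u) [CommRing R]

/-- the base change morphism `P^n_R ⟶ P^n_ℤ`. -/
noncomputable def bcMap :
    Proj (CohB1.polyGrading n R) ⟶ Proj (CohB1.polyGrading n (ULift.{u} ℤ)) :=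
  Proj.map (bcg n R) (hbcg n R)

/-- the structure morphism, on `Proj`. -/
noncomputable def toSpec' : Proj (CohB1.polyGrading n R) ⟶ Spec (CommRingCat.of R) :=
  Proj.toSpecZero (CohB1.polyGrading n R) ≫
    Spec.map (CommRingCat.ofHom (algebraMap R (CohB1.polyGrading n R 0)))

theorem toSpec'_eq : toSpec' n R = CohB1.ProjSpace.toSpec n R := rfl

theorem awayι_toSpec (f : MvPolynomial (Fin (n + 1)) R) (hf : f ∈ CohB1.polyGrading n R 1) :
    Proj.awayι (CohB1.polyGrading n R) f hf Nat.one_pos ≫ toSpec' n R =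
      Spec.map (CommRingCat.ofHom (strA (CohB1.polyGrading n R) f)) := by
  unfold toSpec'
  rw [Proj.awayι_toSpecZero_assoc, ← Spec.map_comp]
  rfl

/-- the chart square. -/
theorem isPullback_chart (i : Fin (n + 1)) :
    IsPullback (Proj.awayι (CohB1.polyGrading n R) (bcg n R (X i)) (ht i) Nat.one_pos)
      (Spec.map (CommRingCat.ofHom (Away.map (bcg n R) (X i))))
      (bcMap n R)
      (Proj.awayι (CohB1.polyGrading n (ULift.{u} ℤ)) (X i) (hX n _ i) Nat.one_pos) := by
  refine (IsOpenImmersion.isPullback _ _ _ _ ?_ ?_).flip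
  · exact Proj.awayι_comp_map (bcg n R) (hbcg n R) Nat.one_pos (X i) (hX n _ i)
  · rw [Proj.opensRange_awayι, Proj.opensRange_awayι]
    rfl

/-- the affine square. -/
theorem isPullback_affine (i : Fin (n + 1)) :
    IsPullback (Spec.map (CommRingCat.ofHom (Away.map (bcg n R) (X i))))
      (Spec.map (CommRingCat.ofHom (strA (CohB1.polyGrading n R) (bcg n R (X i)))))
      (Spec.map (CommRingCat.ofHom (strA (CohB1.polyGrading n (ULift.{u} ℤ)) (X i))))
      (Spec.map (CommRingCat.ofHom (bc R))) :=
  (isPullback_SpecMap_of_isPushout _ _ _ _ (isPushout_away n R i)).flip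


theorem irrelevant_le_span_X :
    (HomogeneousIdeal.irrelevant (CohB1.polyGrading n R)).toIdeal ≤
      Ideal.span (Set.range (fun j : ULift.{u} (Fin (n + 1)) =>
        (X j.down : MvPolynomial (Fin (n + 1)) R))) := by
  refine irrelevant_le_span (CohB1.polyGrading n R) _ (fun _ => 1) (fun j => hX n R j.down) ?_
  have : Set.range (fun j : ULift.{u} (Fin (n + 1)) =>
      (X j.down : MvPolynomial (Fin (n + 1)) R)) = Set.range X := by
    ext x
    constructor
    · rintro ⟨j, rfl⟩
      exact ⟨j.down, rfl⟩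
    · rintro ⟨j, rfl⟩
      exact ⟨⟨j⟩, rfl⟩
  rw [this]
  exact MvPolynomial.adjoin_range_X

/-- the cover of `P^n` by the standard charts. -/
noncomputable def stdCover : (Proj (CohB1.polyGrading n R)).OpenCover :=
  (Proj.affineOpenCoverOfIrrelevantLESpan (CohB1.polyGrading n R)
    (fun j : ULift.{u} (Fin (n + 1)) => (X j.down : MvPolynomial (Fin (n + 1)) R))
    (m := fun _ => 1) (fun j => hX n R j.down) (fun _ => Nat.one_pos)
    (irrelevant_le_span_X n R)).openCover

/-- `P^n_R = P^n_ℤ ×_ℤ Spec R`. -/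
theorem isPullback_proj :
    IsPullback (bcMap n R) (toSpec' n R) (toSpec' n (ULift.{u} ℤ))
      (Spec.map (CommRingCat.ofHom (bc R))) := by
  refine Scheme.isPullback_of_openCover _ _ _ _ (stdCover n (ULift.{u} ℤ)) (fun j => ?_)
  have h1 := isPullback_chart n R j.down
  have h2 := isPullback_affine n R j.down
  have h3 : IsPullback (Spec.map (CommRingCat.ofHom (Away.map (bcg n R) (X j.down))))
      (Proj.awayι (CohB1.polyGrading n R) (bcg n R (X j.down)) (ht j.down) Nat.one_pos ≫
        toSpec' n R)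
      (Proj.awayι (CohB1.polyGrading n (ULift.{u} ℤ)) (X j.down) (hX n _ j.down) Nat.one_pos ≫
        toSpec' n (ULift.{u} ℤ))
      (Spec.map (CommRingCat.ofHom (bc R))) := by
    rw [awayι_toSpec, awayι_toSpec]
    exact h2
  refine IsPullback.of_iso h3 h1.isoPullback (Iso.refl _) (Iso.refl _) (Iso.refl _) ?_ ?_ ?_ ?_
  · exact (Category.comp_id _).trans (h1.isoPullback_hom_snd).symm
  · exact (Category.comp_id _).trans (h1.isoPullback_hom_fst_assoc _).symm
  · exact (Category.comp_id _).trans (Category.id_comp _).symm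
  · exact (Category.comp_id _).trans (Category.id_comp _).symm


theorem from_eq : specULiftZIsTerminal.from (Spec (CommRingCat.of R)) =
    Spec.map (CommRingCat.ofHom (bc R)) :=
  specULiftZIsTerminal.hom_ext _ _

/-- the base change morphism on `CohB1.ProjSpace`. -/
noncomputable def bcMap' : CohB1.ProjSpace n R ⟶ CohB1.ProjSpace n (ULift.{u} ℤ) := bcMap n R

theorem isPullback_projSpace :
    IsPullback (bcMap' n R) (CohB1.ProjSpace.toSpec n R) (CohB1.ProjSpace.toSpec n (ULift.{u} ℤ))
      (specULiftZIsTerminal.from (Spec (CommRingCat.of R))) := by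
  rw [from_eq]
  exact isPullback_proj n R

/-- `P^n_R ≅ P^n_ℤ ×_ℤ Spec R`. -/
noncomputable def overIso :
    CohB1.ProjSpace n R ≅ CohB1.ProjSpaceOver n (Spec (CommRingCat.of R)) :=
  (isPullback_projSpace n R).isoPullback

theorem overIso_hom_toBase :
    (overIso n R).hom ≫ CohB1.ProjSpaceOver.toBase n (Spec (CommRingCat.of R)) =
      CohB1.ProjSpace.toSpec n R :=
  (isPullback_projSpace n R).isoPullback_hom_snd

theorem overIso_inv_toSpec :
    (overIso n R).inv ≫ CohB1.ProjSpace.toSpec n R =
      CohB1.ProjSpaceOver.toBase n (Spec (CommRingCat.of R)) :=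
  (isPullback_projSpace n R).isoPullback_inv_snd

theorem overIso_hom_fst :
    (overIso n R).hom ≫ pullback.fst (CohB1.ProjSpace.toSpec n (ULift.{u} ℤ))
      (specULiftZIsTerminal.from (Spec (CommRingCat.of R))) = bcMap' n R :=
  (isPullback_projSpace n R).isoPullback_hom_fst

end Groth.Agent.Lib.Helper27ProjSpaceBC
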