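import Mathlib
import Groth.Agent.Lib.Helper27ProjSpaceBC2

/-!
# The standard charts of `P^n_R` are polynomial rings; `P^n_R ⟶ Spec R` is smooth (helper27)
-/

set_option autoImplicit false
universe u

open CategoryTheory CategoryTheory.Limits AlgebraicGeometry HomogeneousLocalization MvPolynomial

namespace Groth.Agent.Lib.Helper27ChartPoly

open Groth.Agent.Lib.Helper27ProjSpaceBC Groth.Agent.Lib.Helper27DehomAway

section EvB
variable {n : ℕ} {R : Type u} [CommRing R] {B : Type u} [CommRing B] (ρ : R →+* B)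
  (i : Fin (n + 1)) (c : Fin (n + 1) → B) (hc : c i = 1)

/-- evaluation on the localization. -/
noncomputable def evLocB :
    Localization.Away (X i : MvPolynomial (Fin (n + 1)) R) →+* B :=
  IsLocalization.Away.lift (X i : MvPolynomial (Fin (n + 1)) R) (g := eval₂Hom ρ c)
    (by rw [coe_eval₂Hom, eval₂_X, hc]; exact isUnit_one)

/-- evaluation `R[T]_(X_i) → B` at a `B`-point `c` with `c i = 1`. -/
noncomputable def evB : Away (CohB1.polyGrading n R) (X i) →+* B :=
  (evLocB ρ i c hc).comp (algebraMap (Away (CohB1.polyGrading n R) (X i))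
    (Localization.Away (X i : MvPolynomial (Fin (n + 1)) R)))

theorem evB_dehA_of_mem {j : ℕ} {b : MvPolynomial (Fin (n + 1)) R}
    (hb : b ∈ CohB1.polyGrading n R j) :
    evB ρ i c hc (dehA (hX n R i) b) = eval₂Hom ρ c b := by
  unfold evB evLocB
  rw [RingHom.comp_apply, HomogeneousLocalization.algebraMap_apply, val_dehA_of_mem (hX n R i) hb,
    Localization.mk_eq_mk', IsLocalization.Away.lift, IsLocalization.lift_mk'_spec]
  change _ = eval₂Hom ρ c (X i ^ j) * _
  rw [map_pow, coe_eval₂Hom, eval₂_X, hc, one_pow, one_mul]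

theorem evB_comp_dehA : (evB ρ i c hc).comp (dehA (hX n R i)) = eval₂Hom ρ c := by
  apply MvPolynomial.ringHom_ext
  · intro r
    rw [RingHom.comp_apply]
    exact evB_dehA_of_mem ρ i c hc
      ((mem_homogeneousSubmodule _ _).mpr (isHomogeneous_C _ r))
  · intro j
    rw [RingHom.comp_apply]
    exact evB_dehA_of_mem ρ i c hc (hX n R j)

theorem evB_dehA (b : MvPolynomial (Fin (n + 1)) R) :
    evB ρ i c hc (dehA (hX n R i) b) = eval₂Hom ρ c b :=
  congrArg (fun φ => φ b) (evB_comp_dehA ρ i c hc)

theorem evB_strA (r : R) :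
    evB ρ i c hc (strA (CohB1.polyGrading n R) (X i) r) = ρ r := by
  rw [← dehA_algebraMap' (CohB1.polyGrading n R) (hX n R i) r, evB_dehA]
  exact eval₂_C _ _ r

theorem evB_comp_strA :
    (evB ρ i c hc).comp (strA (CohB1.polyGrading n R) (X i)) = ρ := by
  ext r
  exact evB_strA ρ i c hc r

theorem evB_dehA_X (j : Fin (n + 1)) :
    evB ρ i c hc (dehA (hX n R i) (X j)) = c j := by
  rw [evB_dehA, coe_eval₂Hom, eval₂_X]

/-- extensionality for ring homs out of a standard chart. -/
theorem ringHom_ext_away {φ ψ : Away (CohB1.polyGrading n R) (X i) →+* B}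
    (h1 : φ.comp (strA (CohB1.polyGrading n R) (X i)) =
      ψ.comp (strA (CohB1.polyGrading n R) (X i)))
    (h2 : ∀ j, φ (dehA (hX n R i) (X j)) = ψ (dehA (hX n R i) (X j))) : φ = ψ := by
  have key : φ.comp (dehA (hX n R i)) = ψ.comp (dehA (hX n R i)) := by
    apply MvPolynomial.ringHom_ext
    · intro r
      rw [RingHom.comp_apply, RingHom.comp_apply]
      have := dehA_algebraMap' (CohB1.polyGrading n R) (hX n R i) r
      rw [show (C r : MvPolynomial (Fin (n + 1)) R) = algebraMap R _ r from rfl, this]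
      exact congrArg (fun χ => χ r) h1
    · intro j
      rw [RingHom.comp_apply, RingHom.comp_apply]
      exact h2 j
  refine RingHom.ext (fun z => ?_)
  obtain ⟨b, rfl⟩ := dehA_surjective (hX n R i) z
  exact congrArg (fun χ => χ b) key

end EvB

section Iso
variable (n : ℕ) (R : Type u) [CommRing R] (i : Fin (n + 1))

/-- the coordinates of the universal point of the chart. -/
noncomputable def cpt : Fin (n + 1) → MvPolynomial {j : Fin (n + 1) // j ≠ i} R :=
  fun j => if h : j = i then 1 else X ⟨j, h⟩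

theorem cpt_self : cpt n R i i = 1 := by
  unfold cpt
  rw [dif_pos rfl]

theorem cpt_of_ne {j : Fin (n + 1)} (h : j ≠ i) : cpt n R i j = X ⟨j, h⟩ := by
  unfold cpt
  rw [dif_neg h]

/-- `R[T]_(X_i) → R[x_j, j ≠ i]`. -/
noncomputable def toPoly :
    Away (CohB1.polyGrading n R) (X i) →+* MvPolynomial {j : Fin (n + 1) // j ≠ i} R :=
  evB (C : R →+* MvPolynomial {j : Fin (n + 1) // j ≠ i} R) i (cpt n R i) (cpt_self n R i)

/-- `R[x_j, j ≠ i] → R[T]_(X_i)`. -/
noncomputable def ofPoly :
    MvPolynomial {j : Fin (n + 1) // j ≠ i} R →+* Away (CohB1.polyGrading n R) (X i) :=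
  eval₂Hom (strA (CohB1.polyGrading n R) (X i)) (fun j => dehA (hX n R i) (X j.1))

theorem toPoly_comp_ofPoly : (toPoly n R i).comp (ofPoly n R i) = RingHom.id _ := by
  apply MvPolynomial.ringHom_ext
  · intro r
    rw [RingHom.comp_apply, RingHom.id_apply]
    unfold ofPoly toPoly
    rw [coe_eval₂Hom, eval₂_C, evB_strA]
  · rintro ⟨j, hj⟩
    rw [RingHom.comp_apply, RingHom.id_apply]
    unfold ofPoly toPoly
    rw [coe_eval₂Hom, eval₂_X, evB_dehA_X, cpt_of_ne n R i hj]

theorem ofPoly_comp_toPoly : (ofPoly n R i).comp (toPoly n R i) = RingHom.id _ := by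
  apply ringHom_ext_away
  · ext r
    rw [RingHom.comp_apply, RingHom.comp_apply, RingHom.comp_apply, RingHom.id_apply]
    unfold toPoly ofPoly
    rw [evB_strA, coe_eval₂Hom, eval₂_C]
  · intro j
    rw [RingHom.comp_apply, RingHom.id_apply]
    unfold toPoly
    rw [evB_dehA_X]
    by_cases h : j = i
    · subst h
      rw [cpt_self, map_one, dehA_self]
    · rw [cpt_of_ne n R i h]
      unfold ofPoly
      rw [coe_eval₂Hom, eval₂_X]

/-- the standard chart of `P^n_R` is a polynomial ring. -/
noncomputable def awayEquiv :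
    Away (CohB1.polyGrading n R) (X i) ≃+* MvPolynomial {j : Fin (n + 1) // j ≠ i} R :=
  RingEquiv.ofRingHom (toPoly n R i) (ofPoly n R i) (toPoly_comp_ofPoly n R i)
    (ofPoly_comp_toPoly n R i)

theorem strA_eq_comp :
    strA (CohB1.polyGrading n R) (X i) =
      (ofPoly n R i).comp (C : R →+* MvPolynomial {j : Fin (n + 1) // j ≠ i} R) := by
  ext r
  rw [RingHom.comp_apply]
  unfold ofPoly
  rw [coe_eval₂Hom, eval₂_C]

theorem smooth_C : (C : R →+* MvPolynomial {j : Fin (n + 1) // j ≠ i} R).Smooth := by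
  have : Algebra.Smooth R (MvPolynomial {j : Fin (n + 1) // j ≠ i} R) :=
    ⟨inferInstance, inferInstance⟩
  exact RingHom.smooth_algebraMap.mpr this

theorem smooth_strA : (strA (CohB1.polyGrading n R) (X i)).Smooth := by
  rw [strA_eq_comp]
  refine RingHom.Smooth.comp (smooth_C n R i) (RingHom.Smooth.of_bijective ?_)
  exact (awayEquiv n R i).symm.bijective

set_option backward.isDefEq.respectTransparency.types false in
theorem smooth_toSpec' : Smooth (toSpec' n R) := by
  refine (IsZariskiLocalAtSource.iff_of_openCover (P := @Smooth) (stdCover n R)).mpr (fun j => ?_)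
  have h1 : (stdCover n R).f j ≫ toSpec' n R =
      Proj.awayι (CohB1.polyGrading n R) (X j.down) (hX n R j.down) Nat.one_pos ≫
        toSpec' n R := rfl
  rw [h1, awayι_toSpec]
  exact (HasRingHomProperty.Spec_iff (P := @Smooth)).mpr (smooth_strA n R j.down)

theorem smooth_projSpace_toSpec : Smooth (CohB1.ProjSpace.toSpec n R) :=
  smooth_toSpec' n R

end Iso

set_option backward.isDefEq.respectTransparency.types false in
theorem smooth_toBase (n : ℕ) (S : Scheme.{u}) : Smooth (CohB1.ProjSpaceOver.toBase n S) := by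
  have := smooth_projSpace_toSpec n (ULift.{u} ℤ)
  unfold CohB1.ProjSpaceOver.toBase
  exact MorphismProperty.pullback_snd (P := @Smooth) _ _ this

end Groth.Agent.Lib.Helper27ChartPoly
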