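import Groth.Agent.Lib.Helper27ProjSpaceBC2

/-!
# Projective space over a domain is irreducible (helper27)
-/

set_option autoImplicit false
universe u

open CategoryTheory CategoryTheory.Limits AlgebraicGeometry HomogeneousLocalization MvPolynomial
open scoped HomogeneousIdeal

namespace Groth.Agent.Lib.Helper27ProjSpaceIrr

open Groth.Agent.Lib.Helper27ProjSpaceBC

section Irr
variable {A σ : Type u} [CommRing A] [SetLike σ A] [AddSubgroupClass σ A]
  (𝒜 : ℕ → σ) [GradedRing 𝒜]

/-- the generic point of `Proj` of a graded domain with nonzero irrelevant ideal -/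
noncomputable def genericPt [IsDomain A] (hirr : (𝒜₊).toIdeal ≠ ⊥) : ProjectiveSpectrum 𝒜 where
  asHomogeneousIdeal := ⊥
  isPrime := by
    rw [HomogeneousIdeal.toIdeal_bot]
    exact Ideal.isPrime_bot
  not_irrelevant_le := by
    intro hle
    apply hirr
    rw [eq_bot_iff]
    intro x hx
    have := hle hx
    exact this

theorem closure_genericPt [IsDomain A] (hirr : (𝒜₊).toIdeal ≠ ⊥) :
    closure ({genericPt 𝒜 hirr} : Set (ProjectiveSpectrum 𝒜)) = Set.univ := by
  rw [← ProjectiveSpectrum.zeroLocus_vanishingIdeal_eq_closure,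
    ProjectiveSpectrum.vanishingIdeal_singleton]
  exact ProjectiveSpectrum.zeroLocus_bot 𝒜

theorem irreducibleSpace_proj [IsDomain A] (hirr : (𝒜₊).toIdeal ≠ ⊥) :
    IrreducibleSpace (Proj 𝒜) := by
  change IrreducibleSpace (ProjectiveSpectrum 𝒜)
  rw [irreducibleSpace_def]
  have := (isIrreducible_singleton (x := genericPt 𝒜 hirr)).closure
  rw [closure_genericPt] at this
  exact this

end Irr

variable (n : ℕ) (R : Type u) [CommRing R] [IsDomain R]

theorem irreducibleSpace_projSpace : IrreducibleSpace (CohB1.ProjSpace n R) := by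
  refine irreducibleSpace_proj (CohB1.polyGrading n R) ?_
  intro h
  have h0 : (X 0 : MvPolynomial (Fin (n + 1)) R) ∈
      (HomogeneousIdeal.irrelevant (CohB1.polyGrading n R)).toIdeal := X_mem_irrelevant n R 0
  rw [h] at h0
  exact X_ne_zero (R := R) (0 : Fin (n + 1)) ((Ideal.mem_bot).mp h0)

theorem irreducibleSpace_projSpaceOver :
    IrreducibleSpace (CohB1.ProjSpaceOver n (Spec (CommRingCat.of R))) := by
  have h1 := irreducibleSpace_projSpace n R
  exact ((overIso n R).hom.homeomorph.irreducibleSpace_iff).mp h1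

end Groth.Agent.Lib.Helper27ProjSpaceIrr
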