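import Groth.Agent.Lib.Helper27ProjGamma2

/-!
# The structure morphism of projective space is surjective (helper27)
-/

set_option autoImplicit false
universe u

open CategoryTheory CategoryTheory.Limits AlgebraicGeometry HomogeneousLocalization

namespace Groth.Agent.Lib.Helper27ProjSpaceSurj

variable (n : ℕ) (R : Type u) [CommRing R]

/-- evaluation at `(1,…,1)`. -/
noncomputable def ev : MvPolynomial (Fin (n + 1)) R →+* R := MvPolynomial.eval (fun _ => 1)

theorem ev_X (i : Fin (n + 1)) : ev n R (MvPolynomial.X i) = 1 := by simp [ev]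

theorem ev_C (c : R) : ev n R (MvPolynomial.C c) = c := by simp [ev]

/-- evaluation on the localization at `X₀`. -/
noncomputable def evLoc :
    Localization.Away (MvPolynomial.X 0 : MvPolynomial (Fin (n + 1)) R) →+* R :=
  IsLocalization.Away.lift (MvPolynomial.X 0 : MvPolynomial (Fin (n + 1)) R) (g := ev n R)
    (by rw [ev_X]; exact isUnit_one)

/-- the retraction `A_(X₀) → A₀`. -/
noncomputable def retr :
    Away (CohB1.polyGrading n R) (MvPolynomial.X 0) →+* CohB1.polyGrading n R 0 :=
  (algebraMap R (CohB1.polyGrading n R 0)).comp ((evLoc n R).comp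
    (algebraMap (Away (CohB1.polyGrading n R) (MvPolynomial.X 0))
      (Localization.Away (MvPolynomial.X 0 : MvPolynomial (Fin (n + 1)) R))))

theorem retr_fromZero (a : CohB1.polyGrading n R 0) :
    retr n R (fromZeroRingHom _ _ a) = a := by
  obtain ⟨c, rfl⟩ := (Groth.Agent.Lib.Helper27ProjGamma.algebraMap_zero_bijective n R).2 a
  unfold retr
  simp only [RingHom.comp_apply]
  congr 1
  have h1 : algebraMap (Away (CohB1.polyGrading n R) (MvPolynomial.X 0))
      (Localization.Away (MvPolynomial.X 0 : MvPolynomial (Fin (n + 1)) R))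
      (fromZeroRingHom _ _ (algebraMap R (CohB1.polyGrading n R 0) c)) =
      algebraMap (MvPolynomial (Fin (n + 1)) R)
        (Localization.Away (MvPolynomial.X 0 : MvPolynomial (Fin (n + 1)) R))
        (MvPolynomial.C c) := by
    rw [← Localization.mk_one_eq_algebraMap]
    rfl
  rw [h1, evLoc, IsLocalization.Away.lift_eq, ev_C]

theorem surjective_toSpecZero : Surjective (Proj.toSpecZero (CohB1.polyGrading n R)) := by
  have h : (Spec.map (CommRingCat.ofHom (retr n R)) ≫
      Proj.awayι (CohB1.polyGrading n R) (MvPolynomial.X 0)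
        (Groth.Agent.Lib.Helper27ProjGamma.hX n R 0) Nat.one_pos) ≫
      Proj.toSpecZero (CohB1.polyGrading n R) = 𝟙 _ := by
    rw [Category.assoc, Proj.awayι_toSpecZero, ← Spec.map_comp, ← CommRingCat.ofHom_comp]
    have : (retr n R).comp (fromZeroRingHom _ _) = RingHom.id _ := RingHom.ext (retr_fromZero n R)
    rw [this]
    simp
  have h2 : Surjective ((Spec.map (CommRingCat.ofHom (retr n R)) ≫
      Proj.awayι (CohB1.polyGrading n R) (MvPolynomial.X 0)
        (Groth.Agent.Lib.Helper27ProjGamma.hX n R 0) Nat.one_pos) ≫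
      Proj.toSpecZero (CohB1.polyGrading n R)) := by
    rw [h]; infer_instance
  exact Surjective.of_comp (Spec.map (CommRingCat.ofHom (retr n R)) ≫
      Proj.awayι (CohB1.polyGrading n R) (MvPolynomial.X 0)
        (Groth.Agent.Lib.Helper27ProjGamma.hX n R 0) Nat.one_pos) _

theorem isIso_specMap_algebraMap :
    IsIso (Spec.map (CommRingCat.ofHom (algebraMap R (CohB1.polyGrading n R 0)))) := by
  have h2 : IsIso (CommRingCat.ofHom (algebraMap R (CohB1.polyGrading n R 0))) :=
    (ConcreteCategory.isIso_iff_bijective _).mpr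
      (Groth.Agent.Lib.Helper27ProjGamma.algebraMap_zero_bijective n R)
  infer_instance

theorem surjective_toSpec : Surjective (CohB1.ProjSpace.toSpec n R) := by
  have h1 := surjective_toSpecZero n R
  have h2 := isIso_specMap_algebraMap n R
  change Surjective (X := Proj (CohB1.polyGrading n R))
    (Proj.toSpecZero (CohB1.polyGrading n R) ≫
      Spec.map (CommRingCat.ofHom (algebraMap R (CohB1.polyGrading n R 0))))
  infer_instance

set_option backward.isDefEq.respectTransparency.types false in
theorem surjective_toBase (Y : Scheme.{u}) : Surjective (CohB1.ProjSpaceOver.toBase n Y) := by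
  have h1 := surjective_toSpec n (ULift.{u} ℤ)
  exact MorphismProperty.pullback_snd (P := @Surjective) _ _ h1

end Groth.Agent.Lib.Helper27ProjSpaceSurj
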