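import Mathlib
import Groth.Agent.Lib.Helper27ProjSpaceIrr
import Groth.Agent.Lib.Helper27ProjSpaceSurj

/-!
# The fibres of `P^n_S ⟶ S` are connected (helper27)
-/

set_option autoImplicit false
universe u

open CategoryTheory CategoryTheory.Limits AlgebraicGeometry HomogeneousLocalization MvPolynomial

namespace Groth.Agent.Lib.Helper27ProjSpaceFibres

open Groth.Agent.Lib.Helper27ProjSpaceBC Groth.Agent.Lib.Helper27ProjSpaceIrr

section Proper
variable (n : ℕ) (R : Type u) [CommRing R]

theorem isScalarTower_polyGrading :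
    IsScalarTower R (CohB1.polyGrading n R 0) (MvPolynomial (Fin (n+1)) R) :=
  ⟨fun r a x => by
    change ((r • a : CohB1.polyGrading n R 0) : MvPolynomial (Fin (n+1)) R) * x =
      r • ((a : MvPolynomial (Fin (n+1)) R) * x)
    rw [Submodule.coe_smul, smul_mul_assoc]⟩

theorem finiteType_polyGrading :
    Algebra.FiniteType (CohB1.polyGrading n R 0) (MvPolynomial (Fin (n+1)) R) :=
  haveI := isScalarTower_polyGrading n R
  Algebra.FiniteType.of_restrictScalars_finiteType R _ _

set_option backward.isDefEq.respectTransparency.types false in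
theorem isProper_projSpace_toSpec : IsProper (CohB1.ProjSpace.toSpec n R) := by
  haveI := finiteType_polyGrading n R
  have := Groth.Agent.Lib.Helper27ProjSpaceSurj.isIso_specMap_algebraMap n R
  have h1 : IsProper (Proj.toSpecZero (CohB1.polyGrading n R)) := inferInstance
  have h2 : IsProper (Spec.map (CommRingCat.ofHom (algebraMap R (CohB1.polyGrading n R 0)))) :=
    MorphismProperty.of_isIso @IsProper _
  exact MorphismProperty.comp_mem @IsProper _ _ h1 h2

end Proper

variable (n : ℕ) (S : Scheme.{u})

set_option backward.isDefEq.respectTransparency.types false in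
theorem isProper_toBase : IsProper (CohB1.ProjSpaceOver.toBase n S) := by
  have := isProper_projSpace_toSpec n (ULift.{u} ℤ)
  unfold CohB1.ProjSpaceOver.toBase
  exact MorphismProperty.pullback_snd (P := @IsProper) _ _ this

/-- the scheme-theoretic fibre of `P^n_S ⟶ S` at `s` is `P^n_{κ(s)}`. -/
noncomputable def fiberIso (s : S) :
    (CohB1.ProjSpaceOver.toBase n S).fiber s ≅
      CohB1.ProjSpaceOver n (Spec (CommRingCat.of (S.residueField s))) :=
  pullbackLeftPullbackSndIso (CohB1.ProjSpace.toSpec n (ULift.{u} ℤ))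
      (specULiftZIsTerminal.from S) (S.fromSpecResidueField s) ≪≫
    pullback.congrHom rfl (specULiftZIsTerminal.hom_ext _ _)

theorem irreducibleSpace_fiber (s : S) :
    IrreducibleSpace ((CohB1.ProjSpaceOver.toBase n S).fiber s) := by
  have h1 := irreducibleSpace_projSpaceOver n (S.residueField s)
  exact ((fiberIso n S s).hom.homeomorph.irreducibleSpace_iff).mpr h1

theorem isPreconnected_fibre (s : S) :
    _root_.IsPreconnected ((CohB1.ProjSpaceOver.toBase n S) ⁻¹' {s}) := by
  have := irreducibleSpace_fiber n S s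
  rw [← Scheme.Hom.range_fiberι]
  exact isPreconnected_range ((CohB1.ProjSpaceOver.toBase n S).fiberι s).continuous

/-- a clopen subset of `P^n_S` is a union of fibres. -/
theorem mem_of_isClopen {T : Set (CohB1.ProjSpaceOver n S)} (hT : IsClopen T)
    {t t' : CohB1.ProjSpaceOver n S} (ht : t ∈ T)
    (h : CohB1.ProjSpaceOver.toBase n S t' = CohB1.ProjSpaceOver.toBase n S t) : t' ∈ T := by
  have h1 := isPreconnected_fibre n S (CohB1.ProjSpaceOver.toBase n S t)
  have h2 := h1.subset_isClopen hT ⟨t, rfl, ht⟩
  exact h2 h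

theorem preconnectedSpace_projSpaceOver [PreconnectedSpace S] :
    PreconnectedSpace (CohB1.ProjSpaceOver n S) := by
  rw [preconnectedSpace_iff_clopen]
  intro T hT
  have hprop := isProper_toBase n S
  have hsurj := Groth.Agent.Lib.Helper27ProjSpaceSurj.surjective_toBase n S
  have hcl : IsClosedMap (CohB1.ProjSpaceOver.toBase n S) :=
    (CohB1.ProjSpaceOver.toBase n S).isClosedMap
  have h1 : IsClosed ((CohB1.ProjSpaceOver.toBase n S) '' T) := hcl _ hT.1
  have h2 : IsClosed ((CohB1.ProjSpaceOver.toBase n S) '' Tᶜ) := hcl _ hT.compl.1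
  have hcompl : ((CohB1.ProjSpaceOver.toBase n S) '' T)ᶜ =
      (CohB1.ProjSpaceOver.toBase n S) '' Tᶜ := by
    ext s
    constructor
    · intro hs
      obtain ⟨t, rfl⟩ := hsurj.surj s
      refine ⟨t, ?_, rfl⟩
      intro ht
      exact hs ⟨t, ht, rfl⟩
    · rintro ⟨t', ht', rfl⟩ ⟨t, ht, h⟩
      exact ht' (mem_of_isClopen n S hT ht h.symm)
  have hclopen : IsClopen ((CohB1.ProjSpaceOver.toBase n S) '' T) :=
    ⟨h1, by rw [← isClosed_compl_iff, hcompl]; exact h2⟩
  rcases (preconnectedSpace_iff_clopen.mp ‹PreconnectedSpace S›) _ hclopen with h | h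
  · left
    rw [Set.image_eq_empty] at h
    exact h
  · right
    rw [Set.eq_univ_iff_forall]
    intro t
    have : CohB1.ProjSpaceOver.toBase n S t ∈ (CohB1.ProjSpaceOver.toBase n S) '' T := by
      rw [h]; trivial
    obtain ⟨t0, ht0, h0⟩ := this
    exact mem_of_isClopen n S hT ht0 h0.symm

end Groth.Agent.Lib.Helper27ProjSpaceFibres
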