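import Mathlib
import Groth.Agent.Lib.Helper27ChartPoly
import Groth.Agent.Lib.Helper27ProjSpaceFibres
import Groth.Agent.Lib.Helper10ZetaA1
import Groth.Agent.S13055

/-!
# The number of points and the zeta function of projective space over a finite field
-/

universe u

open AlgebraicGeometry CategoryTheory CategoryTheory.Limits HomogeneousLocalization MvPolynomial

namespace Groth.Agent.Lib.Helper10.ZetaPn

open Groth.Agent.Lib.Helper27ProjSpaceBC Groth.Agent.Lib.Helper27DehomAway
  Groth.Agent.Lib.Helper27ChartPoly Groth.Agent.Lib.Helper10.FixPts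
  Groth.Agent.Lib.Helper10.ZetaA1

section Points

variable (n : ℕ) (k : Type u) [Field k] (K : Type u) [Field K] [Algebra k K]

/-- the inclusion of the `i`-th standard chart -/
noncomputable abbrev ch (i : Fin (n + 1)) :
    Spec (CommRingCat.of (Away (CohB1.polyGrading n k) (X i))) ⟶
      Proj (CohB1.polyGrading n k) :=
  Proj.awayι (CohB1.polyGrading n k) (X i) (hX n k i) Nat.one_pos

variable {n k K}

omit [Algebra k K] in
lemma mem_basicOpen_iff (i j : Fin (n + 1)) (ψ : Away (CohB1.polyGrading n k) (X i) →+* K)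
    (pt : Spec (CommRingCat.of K)) :
    (Spec.map (CommRingCat.ofHom ψ) ≫ ch n k i).base pt ∈
        Proj.basicOpen (CohB1.polyGrading n k) (X j) ↔
      ψ (dehA (hX n k i) (X j)) ≠ 0 := by
  have h1 : dehA (hX n k i) (X j) = Away.isLocalizationElem (hX n k i) (hX n k j) := by
    rw [dehA_of_mem (hX n k i) (hX n k j)]
    apply HomogeneousLocalization.val_injective
    simp [Away.val_mk]
  have h2 : (Spec.map (CommRingCat.ofHom ψ) ≫ ch n k i).base pt ∈
        Proj.basicOpen (CohB1.polyGrading n k) (X j) ↔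
      (Spec.map (CommRingCat.ofHom ψ)).base pt ∈
        (ch n k i) ⁻¹ᵁ Proj.basicOpen (CohB1.polyGrading n k) (X j) := Iff.rfl
  rw [h2, Proj.awayι_preimage_basicOpen (𝒜 := CohB1.polyGrading n k) (hX n k i) Nat.one_pos
    (hX n k j) Nat.one_pos, h1]
  have hpt : (pt : PrimeSpectrum K).asIdeal = ⊥ := by
    haveI := (pt : PrimeSpectrum K).isPrime
    exact Ideal.eq_bot_of_prime _
  change Away.isLocalizationElem (hX n k i) (hX n k j) ∉
    Ideal.comap ψ (pt : PrimeSpectrum K).asIdeal ↔ _
  rw [hpt, Ideal.mem_comap, Ideal.mem_bot]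

lemma exists_factor (g : Spec (CommRingCat.of K) ⟶ Proj (CohB1.polyGrading n k))
    (hg : g ≫ toSpec' n k = Spec.map (CommRingCat.ofHom (algebraMap k K)))
    (i : Fin (n + 1)) (pt : Spec (CommRingCat.of K))
    (hi : g.base pt ∈ Proj.basicOpen (CohB1.polyGrading n k) (X i)) :
    ∃ ψ : Away (CohB1.polyGrading n k) (X i) →+* K,
      ψ.comp (strA (CohB1.polyGrading n k) (X i)) = algebraMap k K ∧
      g = Spec.map (CommRingCat.ofHom ψ) ≫ ch n k i := by
  have hrange : Set.range g.base ⊆ Set.range (ch n k i).base := by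
    rintro _ ⟨y, rfl⟩
    rw [Subsingleton.elim y pt]
    have : g.base pt ∈ (ch n k i).opensRange := by
      rw [Proj.opensRange_awayι]; exact hi
    exact this
  have hfac : Spec.map (Spec.preimage (IsOpenImmersion.lift (ch n k i) g hrange)) ≫ ch n k i = g := by
    rw [Spec.map_preimage, IsOpenImmersion.lift_fac]
  refine ⟨(Spec.preimage (IsOpenImmersion.lift (ch n k i) g hrange)).hom, ?_, hfac.symm⟩
  have h3 : CommRingCat.ofHom (strA (CohB1.polyGrading n k) (X i)) ≫
      Spec.preimage (IsOpenImmersion.lift (ch n k i) g hrange) =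
      CommRingCat.ofHom (algebraMap k K) := by
    apply Spec.map_injective
    rw [Spec.map_comp, ← awayι_toSpec n k (X i) (hX n k i), ← Category.assoc, hfac, hg]
  exact congrArg CommRingCat.Hom.hom h3

variable (n k K)

/-- normalized coordinate vectors with first nonzero coordinate at `i` -/
abbrev Cset (i : Fin (n + 1)) : Type u :=
  {c : Fin (n + 1) → K // c i = 1 ∧ ∀ j, j < i → c j = 0}

/-- the point with normalized coordinates `c` -/
noncomputable def Θ (p : Σ i : Fin (n + 1), Cset n K i) :
    {g : Spec (CommRingCat.of K) ⟶ Proj (CohB1.polyGrading n k) //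
      g ≫ toSpec' n k = Spec.map (CommRingCat.ofHom (algebraMap k K))} :=
  ⟨Spec.map (CommRingCat.ofHom (evB (algebraMap k K) p.1 p.2.1 p.2.2.1)) ≫ ch n k p.1, by
    rw [Category.assoc, awayι_toSpec, ← Spec.map_comp, ← CommRingCat.ofHom_comp, evB_comp_strA]⟩

lemma Θ_bijective : Function.Bijective (Θ n k K) := by
  let pt : Spec (CommRingCat.of K) := default
  constructor
  · rintro ⟨i, c, hci, hc0⟩ ⟨i', c', hci', hc0'⟩ h
    have h1 : Spec.map (CommRingCat.ofHom (evB (algebraMap k K) i c hci)) ≫ ch n k i =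
        Spec.map (CommRingCat.ofHom (evB (algebraMap k K) i' c' hci')) ≫ ch n k i' :=
      congrArg Subtype.val h
    have hmem : ∀ j, (Spec.map (CommRingCat.ofHom (evB (algebraMap k K) i c hci)) ≫
        ch n k i).base pt ∈ Proj.basicOpen (CohB1.polyGrading n k) (X j) ↔ c j ≠ 0 := by
      intro j
      rw [mem_basicOpen_iff, evB_dehA_X]
    have hmem' : ∀ j, (Spec.map (CommRingCat.ofHom (evB (algebraMap k K) i' c' hci')) ≫
        ch n k i').base pt ∈ Proj.basicOpen (CohB1.polyGrading n k) (X j) ↔ c' j ≠ 0 := by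
      intro j
      rw [mem_basicOpen_iff, evB_dehA_X]
    have hcc : ∀ j, c j ≠ 0 ↔ c' j ≠ 0 := fun j => by rw [← hmem, ← hmem', h1]
    have hii : i = i' := by
      rcases lt_trichotomy i i' with hlt | heq | hgt
      · exact absurd (hc0' i hlt) ((hcc i).mp (by rw [hci]; exact one_ne_zero))
      · exact heq
      · exact absurd (hc0 i' hgt) ((hcc i').mpr (by rw [hci']; exact one_ne_zero))
    subst hii
    have h2 := Spec.map_injective ((cancel_mono (ch n k i)).mp h1)
    have h3 : evB (algebraMap k K) i c hci = evB (algebraMap k K) i c' hci' :=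
      congrArg CommRingCat.Hom.hom h2
    have h4 : c = c' := by
      funext j
      rw [← evB_dehA_X (algebraMap k K) i c hci j, h3, evB_dehA_X]
    subst h4
    rfl
  · rintro ⟨g, hg⟩
    classical
    have hex : ∃ i : Fin (n + 1), g.base pt ∈ Proj.basicOpen (CohB1.polyGrading n k) (X i) := by
      have hcov := (stdCover n k).covers (g.base pt)
      obtain ⟨y, hy⟩ := hcov
      refine ⟨((stdCover n k).idx (g.base pt)).down, ?_⟩
      rw [← Proj.opensRange_awayι (CohB1.polyGrading n k) _
        (hX n k ((stdCover n k).idx (g.base pt)).down) Nat.one_pos]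
      exact ⟨y, hy⟩
    let i := Fin.find (fun i => g.base pt ∈ Proj.basicOpen (CohB1.polyGrading n k) (X i)) hex
    have hi : g.base pt ∈ Proj.basicOpen (CohB1.polyGrading n k) (X i) :=
      Fin.find_spec hex
    have hmin : ∀ j, j < i → g.base pt ∉ Proj.basicOpen (CohB1.polyGrading n k) (X j) :=
      fun j hj => Fin.find_min hex hj
    obtain ⟨ψ, hψ, hgψ⟩ := exists_factor g hg i pt hi
    let c : Fin (n + 1) → K := fun j => ψ (dehA (hX n k i) (X j))
    have hci : c i = 1 := by
      change ψ (dehA (hX n k i) (X i)) = 1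
      rw [dehA_self, map_one]
    have hc0 : ∀ j, j < i → c j = 0 := by
      intro j hj
      by_contra hne
      refine hmin j hj ?_
      rw [hgψ]
      exact (mem_basicOpen_iff i j ψ pt).mpr hne
    have hψc : ψ = evB (algebraMap k K) i c hci := by
      apply ringHom_ext_away
      · rw [hψ, evB_comp_strA]
      · intro j
        rw [evB_dehA_X]
    refine ⟨⟨i, c, hci, hc0⟩, Subtype.ext ?_⟩
    change Spec.map (CommRingCat.ofHom (evB (algebraMap k K) i c hci)) ≫ ch n k i = g
    rw [← hψc, hgψ]

lemma card_Cset [Finite K] (i : Fin (n + 1)) : Nat.card (Cset n K i) = Nat.card K ^ (n - (i : ℕ)) := by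
  classical
  haveI := Fintype.ofFinite K
  let e : Cset n K i ≃ ({j : Fin (n + 1) // i < j} → K) :=
    { toFun := fun c j => c.1 j.1
      invFun := fun d => ⟨fun j => if h : i < j then d ⟨j, h⟩ else if j = i then 1 else 0, by
        refine ⟨by simp, fun j hj => ?_⟩
        change (if h : i < j then d ⟨j, h⟩ else if j = i then 1 else 0) = 0
        rw [dif_neg (not_lt.mpr hj.le), if_neg hj.ne]⟩
      left_inv := by
        rintro ⟨c, hci, hc0⟩
        apply Subtype.ext
        funext j
        change (if h : i < j then c j else if j = i then 1 else 0) = c j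
        split_ifs with h1 h2
        · rfl
        · rw [h2, hci]
        · exact (hc0 j (lt_of_le_of_ne (not_lt.mp h1) h2)).symm
      right_inv := by
        intro d
        funext j
        change (if h : i < j.1 then d ⟨j.1, h⟩ else _) = d j
        rw [dif_pos j.2] }
  rw [Nat.card_congr e, Nat.card_eq_fintype_card, Fintype.card_fun, Fintype.card_subtype,
    Finset.filter_lt_eq_Ioi, Fin.card_Ioi, Nat.card_eq_fintype_card]
  congr 1

/-- the number of `K`-points of projective `n`-space -/
theorem pointCount_projSpace [Finite K] :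
    SgaExt.pointCount (CohB1.ProjSpace.toSpec n k) K = ∑ i ∈ Finset.range (n + 1), Nat.card K ^ i := by
  have h1 : SgaExt.pointCount (CohB1.ProjSpace.toSpec n k) K =
      Nat.card (Σ i : Fin (n + 1), Cset n K i) :=
    (Nat.card_congr (Equiv.ofBijective (Θ n k K) (Θ_bijective n k K))).symm
  haveI : ∀ i, Finite (Cset n K i) := fun i => by unfold Cset; infer_instance
  rw [h1, Nat.card_sigma, ← Finset.sum_range_reflect _ (n + 1),
    ← Fin.sum_univ_eq_sum_range (fun j => Nat.card K ^ (n + 1 - 1 - j)) (n + 1)]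
  refine Finset.sum_congr rfl fun i _ => ?_
  rw [card_Cset]
  rfl

end Points

section Main

variable (n : ℕ) (k : Type u) [Field k] [Finite k]

instance : LocallyOfFiniteType (CohB1.ProjSpace.toSpec n k) := by
  haveI := Groth.Agent.Lib.Helper27ProjSpaceFibres.isProper_projSpace_toSpec n k
  infer_instance

instance : QuasiCompact (CohB1.ProjSpace.toSpec n k) := by
  haveI := Groth.Agent.Lib.Helper27ProjSpaceFibres.isProper_projSpace_toSpec n k
  infer_instance

lemma nPts_projSpace (m : ℕ) (hm : 1 ≤ m) :
    Zeta.nPts (CohB1.ProjSpace.toSpec n k) m = ∑ i ∈ Finset.range (n + 1), (Nat.card k ^ m) ^ i := by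
  obtain ⟨k', _, _, _, hk'⟩ := exists_finite_extension k m (by omega)
  haveI : Module.Finite k k' := Module.Finite.of_finite
  rw [← hk', ← pointCount_eq, pointCount_projSpace,
    Module.natCard_eq_pow_finrank (K := k) (V := k')]

/-- S13053 -/
theorem zetaFun_projSpace :
    Zeta.zetaFun (CohB1.ProjSpace.toSpec n k) *
        ∏ i ∈ Finset.range (n + 1), (1 - PowerSeries.C ((Nat.card k : ℚ) ^ i) * PowerSeries.X) = 1 := by
  classical
  let P : Polynomial ℤ := ∑ i ∈ Finset.range (n + 1), Polynomial.X ^ i
  have hcoeff : ∀ i, P.coeff i = if i ∈ Finset.range (n + 1) then 1 else 0 := by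
    intro i
    simp only [P, Polynomial.finsetSum_coeff, Polynomial.coeff_X_pow]
    rw [Finset.sum_ite_eq]
  have hdeg : P.natDegree = n := by
    apply le_antisymm
    · refine Polynomial.natDegree_sum_le_of_forall_le _ _ fun i hi => ?_
      rw [Polynomial.natDegree_X_pow]
      exact Nat.lt_succ_iff.mp (Finset.mem_range.mp hi)
    · apply Polynomial.le_natDegree_of_ne_zero
      rw [hcoeff, if_pos (Finset.self_mem_range_succ n)]
      exact one_ne_zero
  have hP : ∀ m : ℕ, 1 ≤ m → (Zeta.nPts (CohB1.ProjSpace.toSpec n k) m : ℤ) =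
      P.eval ((Nat.card k : ℤ) ^ m) := by
    intro m hm
    rw [nPts_projSpace n k m hm]
    simp only [P, Polynomial.eval_finsetSum, Polynomial.eval_pow, Polynomial.eval_X]
    push_cast
    rfl
  have h := Groth.Agent.S13055.result (CohB1.ProjSpace.toSpec n k) P hP
  rw [hdeg] at h
  have h1 : ∀ i ∈ Finset.range (n + 1),
      (1 - PowerSeries.C ((Nat.card k : ℚ) ^ i) * PowerSeries.X) ^ (P.coeff i).toNat =
      (1 - PowerSeries.C ((Nat.card k : ℚ) ^ i) * PowerSeries.X) := by
    intro i hi
    rw [hcoeff, if_pos hi]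
    simp
  have h2 : ∀ i ∈ Finset.range (n + 1),
      (1 - PowerSeries.C ((Nat.card k : ℚ) ^ i) * PowerSeries.X) ^ (-P.coeff i).toNat =
      (1 : PowerSeries ℚ) := by
    intro i hi
    rw [hcoeff, if_pos hi]
    simp
  rw [Finset.prod_congr rfl h1, Finset.prod_congr rfl h2, Finset.prod_const_one] at h
  exact h

end Main

end Groth.Agent.Lib.Helper10.ZetaPn
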