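import Groth.Agent.Lib.Helper11ARRLam

/-!
# Adams–Riemann–Roch core identity, abstract coproduct form (helper11)

`arr_abstract`: for `Ke = K[X]/(p)` whose polynomial splits as `∏ (X - u_m)` with unit `u_m` over an
extension ring `L ⊇ K`, the functional `f : Ke → K` with `f(ℓ^{-k}) = δ_{k0}`, a coproduct `T` of a
ring `R` and `Ke` (in the application `R ⊗ Ke`, `R = ℤ[1/j]`), an additive map `F : T → A`
(in the application `R ⊗ f : R ⊗ Ke → R ⊗ K`) and an injective comparison `A → A'` into a ring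
receiving `R` and `L` (in the application `R ⊗ L`): if `w` is inverse to the image of
`θ = B_j(b_1 ℓ⁻¹, …, b_{r+1} ℓ^{-(r+1)})` (`b_k ↦ e_k(u)`), then
`F(j w · y ℓ^{-jk}) = δ_{k0} F(y)` for `k ≤ r`.
-/

universe u
namespace Groth.Agent.Lib.Helper11.ARRAbs
open Finset Groth.Agent.Lib.Helper11 Groth.Agent.Lib.Helper11.ARRLam

theorem arr_abstract {K L : Type*} [CommRing K] [CommRing L] (ρ₀ : K →+* L)
    {r : ℕ} (uu : Fin (r + 1) → L) (huu : ∀ m, IsUnit (uu m))
    (p : Polynomial K) (hpm : p.Monic) (hpd : p.natDegree = r + 1)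
    (hp : p.map ρ₀ = ARR.nodePoly uu)
    (f : AdjoinRoot p →ₗ[K] K) (linv : AdjoinRoot p) (hlinv : linv * AdjoinRoot.root p = 1)
    (hf : ∀ k, k ≤ r → f (linv ^ k) = if k = 0 then 1 else 0)
    (j : ℕ) (hj : 1 ≤ j) (b : ℕ → K)
    (hb : ∀ k, ρ₀ (b k) = ∑ t ∈ (univ : Finset (Fin (r + 1))).powersetCard k, ∏ m ∈ t, uu m)
    (θ : AdjoinRoot p)
    (hθ : θ = @MvPolynomial.aeval ℤ (AdjoinRoot p) (Fin (r + 1)) _ _ (Ring.toIntAlgebra (AdjoinRoot p))
      (fun i : Fin (r + 1) => AdjoinRoot.of p (b (i.1 + 1)) * linv ^ (i.1 + 1)) (KRR.bottPoly j (r + 1)))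
    {R T A A' : Type*} [CommRing R] [CommRing T] [AddCommGroup A] [CommRing A']
    (iR : R →+* T) (iKe : AdjoinRoot p →+* T)
    (hgen : ∀ t : T, t ∈ AddSubmonoid.closure {t : T | ∃ a z, t = iR a * iKe z})
    (F : T →+ A) (jR : R →+* A') (jL : L →+* A') (incl : A →+ A')
    (hincl : Function.Injective incl)
    (hcomp : ∀ a z, incl (F (iR a * iKe z)) = jR a * jL (ρ₀ (f z)))
    (hlift : ∀ (g₁ : R →+* AdjoinRoot (ARR.nodePoly (fun m => jL (uu m))))
      (g₂ : AdjoinRoot p →+* AdjoinRoot (ARR.nodePoly (fun m => jL (uu m)))),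
      ∃ χ : T →+* AdjoinRoot (ARR.nodePoly (fun m => jL (uu m))),
        (∀ a, χ (iR a) = g₁ a) ∧ ∀ z, χ (iKe z) = g₂ z)
    (w : T) (hw : w * iKe θ = 1) (y : K) (k : ℕ) (hk : k ≤ r) :
    F ((j : T) * w * iKe (AdjoinRoot.of p y * linv ^ (j * k))) =
      if k = 0 then F (iKe (AdjoinRoot.of p y)) else 0 := by
  classical
  let ρ : K →+* A' := jL.comp ρ₀
  let u' : Fin (r + 1) → A' := fun m => jL (uu m)
  have hu' : ∀ m, IsUnit (u' m) := fun m => (huu m).map jL
  -- the polynomial over A'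
  have hp' : p.map ρ = ARR.nodePoly u' := by
    have h1 : p.map ρ = (p.map ρ₀).map jL := by rw [Polynomial.map_map]
    rw [h1, hp]
    have h0 : ARR.nodePoly uu = ∏ m, (Polynomial.X - Polynomial.C (uu m)) := rfl
    have h0' : ARR.nodePoly u' = ∏ m, (Polynomial.X - Polynomial.C (u' m)) := rfl
    rw [h0, h0', Polynomial.map_prod]
    refine prod_congr rfl fun m _ => ?_
    rw [Polynomial.map_sub, Polynomial.map_X, Polynomial.map_C]
  have hev : p.eval₂ ((AdjoinRoot.of (ARR.nodePoly u')).comp ρ)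
      (AdjoinRoot.root (ARR.nodePoly u')) = 0 := by
    rw [← Polynomial.eval₂_map, hp', AdjoinRoot.eval₂_root]
  let χe : AdjoinRoot p →+* AdjoinRoot (ARR.nodePoly u') :=
    AdjoinRoot.lift ((AdjoinRoot.of (ARR.nodePoly u')).comp ρ) (AdjoinRoot.root (ARR.nodePoly u')) hev
  have hχe_of : ∀ a : K, χe (AdjoinRoot.of p a) = AdjoinRoot.of (ARR.nodePoly u') (ρ a) := by
    intro a; exact AdjoinRoot.lift_of hev
  have hχe_root : χe (AdjoinRoot.root p) = AdjoinRoot.root (ARR.nodePoly u') :=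
    AdjoinRoot.lift_root hev
  let f₁ : R →+* AdjoinRoot (ARR.nodePoly u') := (AdjoinRoot.of (ARR.nodePoly u')).comp jR
  obtain ⟨χ, hχR, hχKe⟩ := hlift f₁ χe
  set c' := χe linv with hc'def
  have hc' : c' * AdjoinRoot.root (ARR.nodePoly u') = 1 := by
    rw [hc'def, ← hχe_root, ← map_mul, hlinv, map_one]
  -- χe θ = ∏ t_m
  have hχθ : χe θ = ∏ m, ARR.tE c' j m := by
    rw [hθ]
    have h1 := MvPolynomial.comp_aeval_apply (R := ℤ)
      (f := fun i : Fin (r + 1) => AdjoinRoot.of p (b (i.1 + 1)) * linv ^ (i.1 + 1))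
      (φ := χe.toIntAlgHom) (KRR.bottPoly j (r + 1))
    simp only [RingHom.toIntAlgHom_apply] at h1
    rw [h1]
    have e2 : (fun i : Fin (r + 1) => χe (AdjoinRoot.of p (b (i.1 + 1)) * linv ^ (i.1 + 1))) =
        fun i : Fin (r + 1) => ∑ t ∈ (univ : Finset (Fin (r + 1))).powersetCard (i.1 + 1),
          ∏ m ∈ t, (AdjoinRoot.of (ARR.nodePoly u') (u' m) * c') := by
      funext i
      rw [map_mul, map_pow, hχe_of]
      show AdjoinRoot.of (ARR.nodePoly u') (jL (ρ₀ (b (i.1 + 1)))) * c' ^ (i.1 + 1) = _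
      rw [hb, map_sum, map_sum, sum_mul]
      refine sum_congr rfl fun t ht => ?_
      rw [mem_powersetCard] at ht
      rw [prod_mul_distrib, prod_const, ht.2, map_prod, map_prod]
    rw [e2, aeval_bottPoly]
    rfl
  have hw' : χ w * ∏ m, ARR.tE c' j m = 1 := by
    rw [← hχθ, ← hχKe, ← map_mul, hw, map_one]
  have harr := fun k hk => ARR.arr hu' j hj hc' (χ w) hw' k hk
  -- compatibility of functionals
  have hfc : ∀ z : AdjoinRoot p, ARR.fc u' (χe z) = jL (ρ₀ (f z)) := by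
    intro z
    obtain ⟨a, ha⟩ := exists_expand hpm hpd hlinv z
    have h1 : f z = a 0 := by
      rw [ha, map_sum, sum_eq_single 0]
      · rw [pow_zero, mul_one, ← AdjoinRoot.algebraMap_eq, Algebra.algebraMap_eq_smul_one, map_smul,
          ← pow_zero linv, hf 0 (by omega), if_pos rfl, smul_eq_mul, mul_one]
      · intro i hi hi0
        rw [mem_range] at hi
        rw [← AdjoinRoot.algebraMap_eq, ← Algebra.smul_def, map_smul, hf i (by omega), if_neg hi0,
          smul_zero]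
      · intro h; exact absurd (mem_range.2 (by omega)) h
    have h2 : ARR.fc u' (χe z) = ρ (a 0) := by
      rw [ha, map_sum, map_sum, sum_eq_single 0]
      · rw [pow_zero, mul_one, hχe_of, ← AdjoinRoot.algebraMap_eq, Algebra.algebraMap_eq_smul_one,
          map_smul, ← pow_zero c', ARR.fc_inv_pow hc' 0 (by omega), if_pos rfl, smul_eq_mul, mul_one]
      · intro i hi hi0
        rw [mem_range] at hi
        rw [map_mul, map_pow, hχe_of, ← AdjoinRoot.algebraMap_eq, ← Algebra.smul_def, map_smul,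
          ARR.fc_inv_pow hc' i (by omega), if_neg hi0, smul_zero]
      · intro h; exact absurd (mem_range.2 (by omega)) h
    rw [h2, h1]
    rfl
  have hcompat : ∀ t : T, ARR.fc u' (χ t) = incl (F t) := by
    intro t
    induction hgen t using AddSubmonoid.closure_induction with
    | mem t ht =>
      obtain ⟨a, z, rfl⟩ := ht
      rw [hcomp, map_mul, hχR, hχKe]
      show ARR.fc u' (AdjoinRoot.of (ARR.nodePoly u') (jR a) * χe z) = _
      rw [← AdjoinRoot.algebraMap_eq, ← Algebra.smul_def, map_smul, hfc, smul_eq_mul]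
    | zero => simp
    | add x y _ _ hx hy => rw [map_add, map_add, hx, hy, map_add, map_add]
  -- conclusion
  apply hincl
  have h1 : (iKe (AdjoinRoot.of p y)) = iR 1 * iKe (AdjoinRoot.of p y) := by rw [map_one, one_mul]
  rw [← hcompat, χ.map_mul, χ.map_mul, hχKe, χe.map_mul, map_pow, hχe_of, map_natCast]
  have h3 : (j : AdjoinRoot (ARR.nodePoly u')) * χ w *
      (AdjoinRoot.of (ARR.nodePoly u') (ρ y) * c' ^ (j * k)) =
      (ρ y) • ((j : AdjoinRoot (ARR.nodePoly u')) * χ w * c' ^ (j * k)) := by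
    rw [Algebra.smul_def, AdjoinRoot.algebraMap_eq]; ring
  rw [h3, map_smul, harr k hk, smul_eq_mul]
  split_ifs with h0
  · rw [mul_one, h1, hcomp, map_one, one_mul]
    have : f (AdjoinRoot.of p y) = y := by
      rw [← mul_one (AdjoinRoot.of p y), ← AdjoinRoot.algebraMap_eq, ← Algebra.smul_def, map_smul,
        ← pow_zero linv, hf 0 (by omega), if_pos rfl, smul_eq_mul, mul_one]
    rw [this]
    rfl
  · rw [mul_zero, map_zero]

end Groth.Agent.Lib.Helper11.ARRAbs
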