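import Mathlib

/-!
# Adams–Riemann–Roch core identity for `A[X]/∏(X - u_m)` (helper11)

Pure commutative algebra.  For unit nodes `u_0,…,u_r` of a commutative ring `A`, put
`B = A[X]/∏(X - u_m)`, `ℓ` its root, `c = ℓ⁻¹`, and `fc : B → A` the `A`-linear functional with
`fc(c^k) = δ_{k0}` (`0 ≤ k ≤ r`).  If `w · ∏_m Σ_{a<j} (u_m c)^a = 1` then
`fc(j · w · c^{jk}) = δ_{k0}` for `0 ≤ k ≤ r`.  Proved in a universal domain (a localization of
`ℤ[u_0,…,u_r]`) by evaluation at the nodes, then transported.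
-/

namespace Groth.Agent.Lib.Helper11.ARR
open Polynomial Finset

section Basic
variable {A : Type*} [CommRing A] {n : ℕ} (u : Fin n → A)

/-- the nodal polynomial `∏ (X - u_m)` -/
noncomputable def nodePoly : A[X] := ∏ m, (X - C (u m))

theorem nodePoly_monic : (nodePoly u).Monic :=
  monic_prod_of_monic _ _ (fun m _ => monic_X_sub_C (u m))

theorem natDegree_nodePoly [Nontrivial A] : (nodePoly u).natDegree = n := by
  rw [nodePoly, natDegree_prod_of_monic _ _ (fun m _ => monic_X_sub_C (u m))]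
  simp

theorem eval_nodePoly (m : Fin n) : (nodePoly u).eval (u m) = 0 := by
  rw [nodePoly, eval_prod]
  exact Finset.prod_eq_zero (mem_univ m) (by simp)

/-- evaluation at the node `u m` -/
noncomputable def ev (m : Fin n) : AdjoinRoot (nodePoly u) →+* A :=
  AdjoinRoot.lift (RingHom.id A) (u m) (by
    rw [eval₂_id]; exact eval_nodePoly u m)

@[simp] theorem ev_of (m : Fin n) (a : A) : ev u m (AdjoinRoot.of (nodePoly u) a) = a := by
  rw [ev, AdjoinRoot.lift_of]; rfl

@[simp] theorem ev_root (m : Fin n) : ev u m (AdjoinRoot.root (nodePoly u)) = u m := by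
  rw [ev, AdjoinRoot.lift_root]

theorem ev_mk (m : Fin n) (g : A[X]) : ev u m (AdjoinRoot.mk (nodePoly u) g) = g.eval (u m) := by
  rw [ev, AdjoinRoot.lift_mk, eval₂_id]

theorem ev_algebraMap (m : Fin n) (a : A) :
    ev u m (algebraMap A (AdjoinRoot (nodePoly u)) a) = a := by
  rw [AdjoinRoot.algebraMap_eq]; exact ev_of u m a

/-- `b - ev_m(b)` is a multiple of `ℓ - u_m`. -/
theorem sub_ev_eq (m : Fin n) (b : AdjoinRoot (nodePoly u)) :
    ∃ q, b - AdjoinRoot.of (nodePoly u) (ev u m b) =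
      (AdjoinRoot.root (nodePoly u) - AdjoinRoot.of (nodePoly u) (u m)) * q := by
  induction b using AdjoinRoot.induction_on with
  | ih g =>
    rw [ev_mk]
    obtain ⟨q, hq⟩ : (X - C (u m)) ∣ g - C (g.eval (u m)) := by
      rw [dvd_iff_isRoot]; simp
    refine ⟨AdjoinRoot.mk _ q, ?_⟩
    have := congrArg (AdjoinRoot.mk (nodePoly u)) hq
    rw [map_sub, map_mul, map_sub, AdjoinRoot.mk_C, AdjoinRoot.mk_C, AdjoinRoot.mk_X] at this
    exact this

theorem prod_root_sub (u : Fin n → A) :
    ∏ m, (AdjoinRoot.root (nodePoly u) - AdjoinRoot.of (nodePoly u) (u m)) = 0 := by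
  have h : AdjoinRoot.mk (nodePoly u) (∏ m, (X - C (u m))) = 0 := AdjoinRoot.mk_self
  rw [map_prod] at h
  rw [← h]
  refine prod_congr rfl fun m _ => ?_
  rw [map_sub, AdjoinRoot.mk_X, AdjoinRoot.mk_C]

/-- `∏_m (ev_m(b) - b) = 0`. -/
theorem prod_ev_sub (b : AdjoinRoot (nodePoly u)) :
    ∏ m, (AdjoinRoot.of (nodePoly u) (ev u m b) - b) = 0 := by
  choose q hq using fun m => sub_ev_eq u m b
  have h1 : ∀ m, AdjoinRoot.of (nodePoly u) (ev u m b) - b =
      (AdjoinRoot.root (nodePoly u) - AdjoinRoot.of (nodePoly u) (u m)) * (-q m) := by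
    intro m
    rw [mul_neg, ← hq m]; ring
  rw [prod_congr rfl (fun m _ => h1 m), prod_mul_distrib, prod_root_sub, zero_mul]

/-- if all evaluations of `b` are units then `b` is a unit. -/
theorem isUnit_of_ev (b : AdjoinRoot (nodePoly u)) (hb : ∀ m, IsUnit (ev u m b)) : IsUnit b := by
  have h1 : (∏ m, AdjoinRoot.of (nodePoly u) (ev u m b)) ∈ Ideal.span {b} := by
    rw [← Ideal.Quotient.eq_zero_iff_mem, map_prod]
    have h2 := congrArg (Ideal.Quotient.mk (Ideal.span {b})) (prod_ev_sub u b)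
    rw [map_prod, map_zero] at h2
    rw [← h2]
    refine prod_congr rfl fun m _ => ?_
    rw [map_sub, Ideal.Quotient.eq_zero_iff_mem.2 (Ideal.mem_span_singleton_self b), sub_zero]
  rw [Ideal.mem_span_singleton] at h1
  have h3 : IsUnit (∏ m, AdjoinRoot.of (nodePoly u) (ev u m b)) := by
    rw [← map_prod]
    exact (IsUnit.prod_univ_iff.2 hb).map _
  exact isUnit_of_dvd_unit h1 h3

end Basic

section Func
variable {A : Type*} [CommRing A] {r : ℕ} (u : Fin (r + 1) → A)

/-- the functional `z ↦ coefficient of ℓ^r in z ℓ^r`; it is the `A`-linear functional with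
`fc(c^k) = δ_{k0}` for `0 ≤ k ≤ r`, `c = ℓ⁻¹`. -/
noncomputable def fc : AdjoinRoot (nodePoly u) →ₗ[A] A :=
  (Polynomial.lcoeff A r).comp
    ((AdjoinRoot.modByMonicHom (nodePoly_monic u)).comp
      (LinearMap.mulRight A (AdjoinRoot.root (nodePoly u) ^ r)))

theorem fc_apply (z : AdjoinRoot (nodePoly u)) :
    fc u z = (AdjoinRoot.modByMonicHom (nodePoly_monic u)
      (z * AdjoinRoot.root (nodePoly u) ^ r)).coeff r := rfl

variable {u}
variable {c : AdjoinRoot (nodePoly u)} (hc : c * AdjoinRoot.root (nodePoly u) = 1)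
include hc

theorem inv_pow_mul_root_pow (k : ℕ) (hk : k ≤ r) :
    c ^ k * AdjoinRoot.root (nodePoly u) ^ r = AdjoinRoot.root (nodePoly u) ^ (r - k) := by
  obtain ⟨d, rfl⟩ : ∃ d, r = k + d := ⟨r - k, by omega⟩
  rw [Nat.add_sub_cancel_left, pow_add, ← mul_assoc, ← mul_pow, hc, one_pow, one_mul]

theorem fc_inv_pow (k : ℕ) (hk : k ≤ r) : fc u (c ^ k) = if k = 0 then 1 else 0 := by
  rcases subsingleton_or_nontrivial A with h | h
  · exact Subsingleton.elim _ _
  rw [fc_apply, inv_pow_mul_root_pow hc k hk, ← AdjoinRoot.mk_X, ← map_pow,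
    AdjoinRoot.modByMonicHom_mk, (Polynomial.modByMonic_eq_self_iff (nodePoly_monic u)).2, coeff_X_pow]
  · by_cases hk0 : k = 0
    · subst hk0; simp
    · rw [if_neg hk0, if_neg (by omega)]
  · rw [degree_X_pow, degree_eq_natDegree (nodePoly_monic u).ne_zero, natDegree_nodePoly]
    exact_mod_cast (by omega : r - k < r + 1)

/-- expansion of `z` in the basis `c^k`, `0 ≤ k ≤ r`. -/
theorem expand (z : AdjoinRoot (nodePoly u)) :
    z = ∑ i ∈ range (r + 1),
      AdjoinRoot.of (nodePoly u) ((AdjoinRoot.modByMonicHom (nodePoly_monic u)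
        (z * AdjoinRoot.root (nodePoly u) ^ r)).coeff i) * c ^ (r - i) := by
  rcases subsingleton_or_nontrivial A with h | h
  · have : Subsingleton (AdjoinRoot (nodePoly u)) :=
      (AdjoinRoot.mk_surjective (g := nodePoly u)).subsingleton
    exact Subsingleton.elim _ _
  set g := AdjoinRoot.modByMonicHom (nodePoly_monic u) (z * AdjoinRoot.root (nodePoly u) ^ r)
    with hg
  have h1 : AdjoinRoot.mk (nodePoly u) g = z * AdjoinRoot.root (nodePoly u) ^ r :=
    AdjoinRoot.mk_leftInverse (nodePoly_monic u) _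
  have h2 : g.natDegree < r + 1 := by
    have h3 : g = (g %ₘ nodePoly u) := by
      have := AdjoinRoot.modByMonicHom_mk (nodePoly_monic u) g
      rw [h1] at this
      exact this
    rw [h3]
    have := natDegree_modByMonic_lt g (nodePoly_monic u) (by
      intro h4
      have := natDegree_nodePoly u
      rw [h4] at this
      simp at this)
    rwa [natDegree_nodePoly] at this
  have h3 : z = z * AdjoinRoot.root (nodePoly u) ^ r * c ^ r := by
    rw [mul_assoc, ← mul_pow, mul_comm _ c, hc, one_pow, mul_one]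
  rw [h3, ← h1]
  conv_lhs => rw [g.as_sum_range' (r + 1) h2]
  rw [map_sum, sum_mul]
  refine sum_congr rfl fun i hi => ?_
  rw [mem_range] at hi
  rw [← C_mul_X_pow_eq_monomial, map_mul, AdjoinRoot.mk_C, map_pow, AdjoinRoot.mk_X, mul_assoc]
  congr 1
  have hd : c ^ r = c ^ i * c ^ (r - i) := by rw [← pow_add]; congr 1; omega
  rw [hd, ← mul_assoc, ← mul_pow, mul_comm _ c, hc, one_pow, one_mul]

/-- any functional with the same values on `c^k` equals `fc`. -/
theorem eq_fc (f : AdjoinRoot (nodePoly u) →ₗ[A] A)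
    (hf : ∀ k, k ≤ r → f (c ^ k) = if k = 0 then 1 else 0) (z : AdjoinRoot (nodePoly u)) :
    f z = fc u z := by
  have key : ∀ f' : AdjoinRoot (nodePoly u) →ₗ[A] A,
      (∀ k, k ≤ r → f' (c ^ k) = if k = 0 then 1 else 0) →
      f' z = (AdjoinRoot.modByMonicHom (nodePoly_monic u)
        (z * AdjoinRoot.root (nodePoly u) ^ r)).coeff r := by
    intro f' hf'
    conv_lhs => rw [expand hc z]
    rw [map_sum]
    rw [sum_eq_single r]
    · rw [Nat.sub_self, pow_zero, mul_one, ← AdjoinRoot.algebraMap_eq, Algebra.algebraMap_eq_smul_one,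
        map_smul, ← pow_zero c, hf' 0 (by omega), if_pos rfl, smul_eq_mul, mul_one]
    · intro i hi hir
      rw [mem_range] at hi
      rw [← AdjoinRoot.algebraMap_eq, ← Algebra.smul_def, map_smul, hf' (r - i) (by omega),
        if_neg (by omega), smul_zero]
    · intro h; exact absurd (mem_range.2 (by omega)) h
  rw [key f hf, fc_apply]

theorem fc_aeval (g : A[X]) (hg : g.natDegree ≤ r) : fc u (aeval c g) = g.coeff 0 := by
  rw [aeval_eq_sum_range' (by omega : g.natDegree < r + 1), map_sum, sum_eq_single 0]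
  · rw [map_smul, fc_inv_pow hc 0 (by omega), if_pos rfl, smul_eq_mul, mul_one]
  · intro i hi hi0
    rw [mem_range] at hi
    rw [map_smul, fc_inv_pow hc i (by omega), if_neg hi0, smul_zero]
  · intro h; exact absurd (mem_range.2 (by omega)) h

/-- `π_m = ∏_{k ≠ m} (1 - u_k c)` -/
noncomputable def piE (c : AdjoinRoot (nodePoly u)) (m : Fin (r + 1)) : AdjoinRoot (nodePoly u) :=
  ∏ k ∈ univ.erase m, (1 - AdjoinRoot.of (nodePoly u) (u k) * c)

omit hc in
theorem piE_def (m : Fin (r + 1)) :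
    piE c m = ∏ k ∈ univ.erase m, (1 - AdjoinRoot.of (nodePoly u) (u k) * c) := rfl

theorem prod_one_sub : ∏ k, (1 - AdjoinRoot.of (nodePoly u) (u k) * c) = 0 := by
  have h1 : ∀ k, (1 - AdjoinRoot.of (nodePoly u) (u k) * c) =
      c * (AdjoinRoot.root (nodePoly u) - AdjoinRoot.of (nodePoly u) (u k)) := by
    intro k; rw [mul_sub, hc]; ring
  rw [prod_congr rfl (fun k _ => h1 k), prod_mul_distrib, prod_root_sub, mul_zero]

theorem piE_mul_sub (m : Fin (r + 1)) :
    piE c m * (AdjoinRoot.root (nodePoly u) - AdjoinRoot.of (nodePoly u) (u m)) = 0 := by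
  have h1 : piE c m * (1 - AdjoinRoot.of (nodePoly u) (u m) * c) = 0 := by
    rw [piE_def, mul_comm,
      mul_prod_erase univ (fun k => (1 - AdjoinRoot.of (nodePoly u) (u k) * c)) (mem_univ m),
      prod_one_sub hc]
  have h2 : AdjoinRoot.root (nodePoly u) - AdjoinRoot.of (nodePoly u) (u m) =
      (1 - AdjoinRoot.of (nodePoly u) (u m) * c) * AdjoinRoot.root (nodePoly u) := by
    rw [sub_mul, one_mul, mul_assoc, hc, mul_one]
  rw [h2, ← mul_assoc, h1, zero_mul]

theorem piE_mul (m : Fin (r + 1)) (z : AdjoinRoot (nodePoly u)) :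
    piE c m * z = piE c m * AdjoinRoot.of (nodePoly u) (ev u m z) := by
  obtain ⟨q, hq⟩ := sub_ev_eq u m z
  rw [← sub_eq_zero, ← mul_sub, hq, ← mul_assoc, piE_mul_sub hc, zero_mul]

theorem fc_piE (m : Fin (r + 1)) : fc u (piE c m) = 1 := by
  have h1 : piE c m = aeval c (∏ k ∈ univ.erase m, (1 - C (u k) * X)) := by
    rw [piE_def, map_prod]
    refine prod_congr rfl fun k _ => ?_
    rw [map_sub, map_one, map_mul, aeval_C, aeval_X, AdjoinRoot.algebraMap_eq]
  rw [h1, fc_aeval hc]
  · rw [coeff_zero_eq_eval_zero, eval_prod]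
    simp
  · refine (natDegree_prod_le _ _).trans ?_
    refine (sum_le_card_nsmul _ _ 1 (fun k _ => ?_)).trans ?_
    · refine (natDegree_sub_le _ _).trans ?_
      rw [natDegree_one]
      refine max_le (by omega) ?_
      exact (natDegree_C_mul_le _ _).trans natDegree_X_le
    · rw [card_erase_of_mem (mem_univ m), card_univ, Fintype.card_fin]
      simp

theorem fc_piE_mul (m : Fin (r + 1)) (z : AdjoinRoot (nodePoly u)) :
    fc u (piE c m * z) = ev u m z := by
  rw [piE_mul hc, mul_comm, ← AdjoinRoot.algebraMap_eq, ← Algebra.smul_def, map_smul, fc_piE hc,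
    smul_eq_mul, mul_one]

theorem ev_inv (m : Fin (r + 1)) : ev u m c * u m = 1 := by
  have := congrArg (ev u m) hc
  rwa [map_mul, ev_root, map_one] at this

end Func

section Pow
variable {A : Type*} [CommRing A] {r : ℕ} (u : Fin (r + 1) → A) (j : ℕ)

theorem eval₂_pow_nodePoly :
    (nodePoly (fun m => u m ^ j)).eval₂ (AdjoinRoot.of (nodePoly u))
      (AdjoinRoot.root (nodePoly u) ^ j) = 0 := by
  have h0 : nodePoly (fun m => u m ^ j) = ∏ m, (X - C (u m ^ j)) := rfl
  rw [h0, eval₂_finsetProd]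
  have h1 : ∀ m, ∃ q, (X - C (u m ^ j)).eval₂ (AdjoinRoot.of (nodePoly u))
      (AdjoinRoot.root (nodePoly u) ^ j) =
      (AdjoinRoot.root (nodePoly u) - AdjoinRoot.of (nodePoly u) (u m)) * q := by
    intro m
    rw [eval₂_sub, eval₂_X, eval₂_C, map_pow]
    exact sub_dvd_pow_sub_pow _ _ j
  choose q hq using h1
  rw [prod_congr rfl (fun m _ => hq m), prod_mul_distrib, prod_root_sub, zero_mul]

/-- the map `C = A[X]/∏(X - u_m^j) → B = A[X]/∏(X - u_m)`, `root ↦ root^j`. -/
noncomputable def iota :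
    AdjoinRoot (nodePoly (fun m => u m ^ j)) →+* AdjoinRoot (nodePoly u) :=
  AdjoinRoot.lift (AdjoinRoot.of (nodePoly u)) (AdjoinRoot.root (nodePoly u) ^ j)
    (eval₂_pow_nodePoly u j)

@[simp] theorem iota_of (a : A) :
    iota u j (AdjoinRoot.of (nodePoly (fun m => u m ^ j)) a) = AdjoinRoot.of (nodePoly u) a := by
  rw [iota, AdjoinRoot.lift_of]

@[simp] theorem iota_root :
    iota u j (AdjoinRoot.root (nodePoly (fun m => u m ^ j))) = AdjoinRoot.root (nodePoly u) ^ j := by
  rw [iota, AdjoinRoot.lift_root]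

theorem ev_iota (m : Fin (r + 1)) (z : AdjoinRoot (nodePoly (fun m => u m ^ j))) :
    ev u m (iota u j z) = ev (fun m => u m ^ j) m z := by
  induction z using AdjoinRoot.induction_on with
  | ih g =>
    rw [iota, AdjoinRoot.lift_mk, ev_mk, Polynomial.hom_eval₂, map_pow, ev_root]
    have : (ev u m).comp (AdjoinRoot.of (nodePoly u)) = RingHom.id A := by
      ext a; simp
    rw [this, eval₂_id]

variable {u j}
variable {c : AdjoinRoot (nodePoly u)} (hc : c * AdjoinRoot.root (nodePoly u) = 1)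
  {c' : AdjoinRoot (nodePoly (fun m => u m ^ j))}
  (hc' : c' * AdjoinRoot.root (nodePoly (fun m => u m ^ j)) = 1)
include hc hc'

theorem iota_inv : iota u j c' = c ^ j := by
  have h1 : iota u j c' * AdjoinRoot.root (nodePoly u) ^ j = 1 := by
    rw [← iota_root, ← map_mul, hc', map_one]
  have h2 : c ^ j * AdjoinRoot.root (nodePoly u) ^ j = 1 := by rw [← mul_pow, hc, one_pow]
  calc iota u j c' = iota u j c' * (c ^ j * AdjoinRoot.root (nodePoly u) ^ j) := by rw [h2, mul_one]
    _ = (iota u j c' * AdjoinRoot.root (nodePoly u) ^ j) * c ^ j := by ring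
    _ = c ^ j := by rw [h1, one_mul]

/-- `t_m = Σ_{a<j} (u_m c)^a` -/
noncomputable def tE (c : AdjoinRoot (nodePoly u)) (j : ℕ) (m : Fin (r + 1)) : AdjoinRoot (nodePoly u) :=
  ∑ a ∈ range j, (AdjoinRoot.of (nodePoly u) (u m) * c) ^ a

omit hc hc' in
theorem tE_def (m : Fin (r + 1)) :
    tE c j m = ∑ a ∈ range j, (AdjoinRoot.of (nodePoly u) (u m) * c) ^ a := rfl

theorem iota_piE (m : Fin (r + 1)) :
    iota u j (piE c' m) = piE c m * ∏ k ∈ univ.erase m, tE c j k := by
  rw [piE_def, piE_def, map_prod, ← prod_mul_distrib]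
  refine prod_congr rfl fun k _ => ?_
  rw [map_sub, map_one, map_mul, iota_of, iota_inv hc hc', map_pow, ← mul_pow, tE_def,
    mul_neg_geom_sum]

omit hc' in
theorem ev_tE (m : Fin (r + 1)) : ev u m (tE c j m) = j := by
  rw [tE_def, map_sum]
  have : ∀ a ∈ range j, ev u m ((AdjoinRoot.of (nodePoly u) (u m) * c) ^ a) = 1 := by
    intro a _
    rw [map_pow, map_mul, ev_of, mul_comm, ev_inv hc, one_pow]
  rw [sum_congr rfl this]
  simp

/-- the division-free half of Adams–Riemann–Roch: on the ideal generated by `π'_m`. -/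
theorem fc_mul_iota_piE (w : AdjoinRoot (nodePoly u)) (hw : w * ∏ k, tE c j k = 1)
    (m : Fin (r + 1)) (y : AdjoinRoot (nodePoly (fun m => u m ^ j))) :
    fc u ((j : AdjoinRoot (nodePoly u)) * w * iota u j (piE c' m * y)) =
      ev (fun m => u m ^ j) m y := by
  have h1 : (j : AdjoinRoot (nodePoly u)) * w * iota u j (piE c' m * y) =
      piE c m * ((j : AdjoinRoot (nodePoly u)) * (w * ∏ k ∈ univ.erase m, tE c j k) * iota u j y) := by
    rw [map_mul, iota_piE hc hc']; ring
  have h2 : (w * ∏ k ∈ univ.erase m, tE c j k) * tE c j m = 1 := by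
    rw [mul_assoc, mul_comm _ (tE c j m), mul_prod_erase univ (fun k => tE c j k) (mem_univ m), hw]
  have h3 : ev u m (w * ∏ k ∈ univ.erase m, tE c j k) * (j : A) = 1 := by
    have := congrArg (ev u m) h2
    rwa [map_mul, ev_tE hc, map_one] at this
  rw [h1, fc_piE_mul hc, map_mul, map_mul, map_natCast, ev_iota, mul_comm (j : A), h3, one_mul]

end Pow

section Domain
variable {D : Type*} [CommRing D] [IsDomain D] {r : ℕ} {v : Fin (r + 1) → D}

theorem ev_injective (hv : Function.Injective v) (z : AdjoinRoot (nodePoly v))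
    (hz : ∀ m, ev v m z = 0) : z = 0 := by
  set g := AdjoinRoot.modByMonicHom (nodePoly_monic v) z with hg
  have h1 : AdjoinRoot.mk (nodePoly v) g = z := AdjoinRoot.mk_leftInverse (nodePoly_monic v) z
  have h2 : g.natDegree < r + 1 := by
    obtain ⟨h, rfl⟩ := AdjoinRoot.mk_surjective z
    rw [hg, AdjoinRoot.modByMonicHom_mk]
    have := natDegree_modByMonic_lt h (nodePoly_monic v) (by
      intro h4
      have := natDegree_nodePoly v
      rw [h4] at this
      simp at this)
    rwa [natDegree_nodePoly] at this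
  have h3 : g = 0 := by
    refine eq_zero_of_natDegree_lt_card_of_eval_eq_zero g hv (fun m => ?_) (by simpa using h2)
    rw [← ev_mk, h1, hz]
  rw [← h1, h3, map_zero]

variable {c' : AdjoinRoot (nodePoly v)} (hc' : c' * AdjoinRoot.root (nodePoly v) = 1)
include hc'

omit [IsDomain D] in
theorem ev_piE_of_ne (m k : Fin (r + 1)) (hk : k ≠ m) : ev v k (piE c' m) = 0 := by
  rw [piE_def, map_prod]
  refine prod_eq_zero (mem_erase.2 ⟨hk, mem_univ k⟩) ?_
  rw [map_sub, map_one, map_mul, ev_of, mul_comm, ev_inv hc', sub_self]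

theorem ev_piE_self_ne_zero (hv : Function.Injective v) (m : Fin (r + 1)) :
    ev v m (piE c' m) ≠ 0 := by
  rw [piE_def, map_prod]
  refine prod_ne_zero_iff.2 fun k hk => ?_
  rw [mem_erase] at hk
  rw [map_sub, map_one, map_mul, ev_of]
  intro h
  have h1 : (1 - v k * ev v m c') * v m = 0 := by rw [h, zero_mul]
  rw [sub_mul, one_mul, mul_assoc, ev_inv hc', mul_one, sub_eq_zero] at h1
  exact hk.1 (hv h1.symm)

/-- a functional killing all `π_m y` vanishes (domain, distinct nodes). -/
theorem eq_zero_of_piE (hv : Function.Injective v) (G : AdjoinRoot (nodePoly v) →ₗ[D] D)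
    (hG : ∀ m y, G (piE c' m * y) = 0) (z : AdjoinRoot (nodePoly v)) : G z = 0 := by
  set ε : Fin (r + 1) → D := fun m => ev v m (piE c' m) with hε
  have hz : AdjoinRoot.of (nodePoly v) (∏ m, ε m) * z -
      ∑ m, AdjoinRoot.of (nodePoly v) (∏ k ∈ univ.erase m, ε k) *
        (piE c' m * AdjoinRoot.of (nodePoly v) (ev v m z)) = 0 := by
    refine ev_injective hv _ fun k => ?_
    rw [map_sub, map_mul, ev_of, map_sum, sum_eq_single k]
    · rw [map_mul, ev_of, map_mul, ev_of, ← mul_assoc, mul_comm _ (ev v k (piE c' k)),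
        mul_prod_erase univ ε (mem_univ k), sub_self]
    · intro m _ hmk
      rw [map_mul, map_mul, ev_piE_of_ne hc' m k hmk.symm, zero_mul, mul_zero]
    · intro h; exact absurd (mem_univ k) h
  have h1 := congrArg G hz
  rw [map_sub, map_sum, map_zero, sum_eq_zero, sub_zero, ← AdjoinRoot.algebraMap_eq,
    ← Algebra.smul_def, map_smul, smul_eq_mul] at h1
  · rcases mul_eq_zero.1 h1 with h2 | h2
    · exact absurd h2 (prod_ne_zero_iff.2 fun m _ => ev_piE_self_ne_zero hc' hv m)
    · exact h2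
  · intro m _
    rw [← AdjoinRoot.algebraMap_eq, ← Algebra.smul_def, map_smul, hG, smul_zero]

end Domain

section DomainMain
variable {D : Type*} [CommRing D] [IsDomain D] {r : ℕ} {u : Fin (r + 1) → D} {j : ℕ}

/-- Adams–Riemann–Roch core identity over a domain with distinct `u_m^j`. -/
theorem arr_domain (hv : Function.Injective (fun m => u m ^ j))
    {c : AdjoinRoot (nodePoly u)} (hc : c * AdjoinRoot.root (nodePoly u) = 1)
    {c' : AdjoinRoot (nodePoly (fun m => u m ^ j))}
    (hc' : c' * AdjoinRoot.root (nodePoly (fun m => u m ^ j)) = 1)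
    (w : AdjoinRoot (nodePoly u)) (hw : w * ∏ k, tE c j k = 1) (k : ℕ) (hk : k ≤ r) :
    fc u ((j : AdjoinRoot (nodePoly u)) * w * c ^ (j * k)) = if k = 0 then 1 else 0 := by
  let G : AdjoinRoot (nodePoly (fun m => u m ^ j)) →ₗ[D] D :=
    { toFun := fun z => fc u ((j : AdjoinRoot (nodePoly u)) * w * iota u j z) -
        fc (fun m => u m ^ j) z
      map_add' := fun x y => by
        rw [map_add, mul_add, map_add, map_add]; ring
      map_smul' := fun a x => by
        have e1 : (j : AdjoinRoot (nodePoly u)) * w * iota u j (a • x) =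
            a • ((j : AdjoinRoot (nodePoly u)) * w * iota u j x) := by
          rw [Algebra.smul_def, AdjoinRoot.algebraMap_eq, (iota u j).map_mul, iota_of,
            Algebra.smul_def, AdjoinRoot.algebraMap_eq]
          ring
        rw [e1, map_smul, map_smul, RingHom.id_apply, smul_sub] }
  have hG : ∀ m y, G (piE c' m * y) = 0 := by
    intro m y
    show fc u ((j : AdjoinRoot (nodePoly u)) * w * iota u j (piE c' m * y)) -
        fc (fun m => u m ^ j) (piE c' m * y) = 0
    rw [fc_mul_iota_piE hc hc' w hw, fc_piE_mul hc', sub_self]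
  have h1 := eq_zero_of_piE hc' hv G hG (c' ^ k)
  have h2 : fc u ((j : AdjoinRoot (nodePoly u)) * w * iota u j (c' ^ k)) -
        fc (fun m => u m ^ j) (c' ^ k) = 0 := h1
  rw [map_pow, iota_inv hc hc', ← pow_mul, fc_inv_pow hc' k hk, sub_eq_zero] at h2
  exact h2

end DomainMain

section Transport
variable {A : Type*} [CommRing A] {r : ℕ} {u : Fin (r + 1) → A}
  {D : Type*} [CommRing D] (φ : D →+* A) {d : Fin (r + 1) → D} (hd : ∀ m, φ (d m) = u m)
include hd

theorem eval₂_map_nodePoly :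
    (nodePoly d).eval₂ ((AdjoinRoot.of (nodePoly u)).comp φ) (AdjoinRoot.root (nodePoly u)) = 0 := by
  have h0 : nodePoly d = ∏ m, (X - C (d m)) := rfl
  rw [h0, eval₂_finsetProd, ← prod_root_sub u]
  refine prod_congr rfl fun m _ => ?_
  rw [eval₂_sub, eval₂_X, eval₂_C, RingHom.comp_apply, hd]

/-- base change of `A[X]/∏(X - u_m)` along `φ`. -/
noncomputable def mapB : AdjoinRoot (nodePoly d) →+* AdjoinRoot (nodePoly u) :=
  AdjoinRoot.lift ((AdjoinRoot.of (nodePoly u)).comp φ) (AdjoinRoot.root (nodePoly u))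
    (eval₂_map_nodePoly φ hd)

@[simp] theorem mapB_of (a : D) :
    mapB φ hd (AdjoinRoot.of (nodePoly d) a) = AdjoinRoot.of (nodePoly u) (φ a) := by
  rw [mapB, AdjoinRoot.lift_of]; rfl

@[simp] theorem mapB_root :
    mapB φ hd (AdjoinRoot.root (nodePoly d)) = AdjoinRoot.root (nodePoly u) := by
  rw [mapB, AdjoinRoot.lift_root]

theorem mapB_mk (g : D[X]) :
    mapB φ hd (AdjoinRoot.mk (nodePoly d) g) = AdjoinRoot.mk (nodePoly u) (g.map φ) := by
  rw [mapB, AdjoinRoot.lift_mk, ← AdjoinRoot.aeval_eq, aeval_def, eval₂_map,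
    AdjoinRoot.algebraMap_eq]

theorem ev_mapB (m : Fin (r + 1)) (z : AdjoinRoot (nodePoly d)) :
    ev u m (mapB φ hd z) = φ (ev d m z) := by
  induction z using AdjoinRoot.induction_on with
  | ih g => rw [mapB_mk, ev_mk, ev_mk, eval_map, ← hd, eval₂_at_apply]

theorem fc_mapB (z : AdjoinRoot (nodePoly d)) : fc u (mapB φ hd z) = φ (fc d z) := by
  rcases subsingleton_or_nontrivial A with h | h
  · exact Subsingleton.elim _ _
  have hD : Nontrivial D := φ.domain_nontrivial
  rw [fc_apply, fc_apply]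
  set g := AdjoinRoot.modByMonicHom (nodePoly_monic d) (z * AdjoinRoot.root (nodePoly d) ^ r)
    with hg
  have h1 : AdjoinRoot.mk (nodePoly d) g = z * AdjoinRoot.root (nodePoly d) ^ r :=
    AdjoinRoot.mk_leftInverse (nodePoly_monic d) _
  have h2 : g.natDegree < r + 1 := by
    have h3 : g = (g %ₘ nodePoly d) := by
      have := AdjoinRoot.modByMonicHom_mk (nodePoly_monic d) g
      rw [h1] at this
      exact this
    rw [h3]
    have := natDegree_modByMonic_lt g (nodePoly_monic d) (by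
      intro h4
      have := natDegree_nodePoly d
      rw [h4] at this
      simp at this)
    rwa [natDegree_nodePoly] at this
  have h3 : mapB φ hd z * AdjoinRoot.root (nodePoly u) ^ r =
      AdjoinRoot.mk (nodePoly u) (g.map φ) := by
    rw [← mapB_mk, h1, map_mul, map_pow, mapB_root]
  rw [h3, AdjoinRoot.modByMonicHom_mk, (Polynomial.modByMonic_eq_self_iff (nodePoly_monic u)).2,
    coeff_map]
  rw [degree_eq_natDegree (nodePoly_monic u).ne_zero, natDegree_nodePoly]
  refine (degree_le_natDegree).trans_lt ?_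
  exact_mod_cast (natDegree_map_le (f := φ) (p := g)).trans_lt h2

end Transport

section Main
variable {A : Type*} [CommRing A] {r : ℕ} {u : Fin (r + 1) → A}

theorem exists_inv_root (hu : ∀ m, IsUnit (u m)) :
    ∃ c : AdjoinRoot (nodePoly u), c * AdjoinRoot.root (nodePoly u) = 1 := by
  have h := isUnit_of_ev u (AdjoinRoot.root (nodePoly u)) (fun m => by rw [ev_root]; exact hu m)
  obtain ⟨v, hv⟩ := h
  exact ⟨↑v⁻¹, by rw [← hv]; exact v.inv_mul⟩

theorem X_pow_injective (j : ℕ) (hj : 1 ≤ j) :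
    Function.Injective (fun m : Fin (r + 1) => (MvPolynomial.X m : MvPolynomial (Fin (r + 1)) ℤ) ^ j) := by
  intro m m' h
  simp only [MvPolynomial.X_pow_eq_monomial] at h
  have h1 := MvPolynomial.monomial_left_injective (R := ℤ) one_ne_zero h
  have h2 := congrArg (fun f => f m) h1
  simp only [Finsupp.single_eq_same] at h2
  by_contra hne
  rw [Finsupp.single_eq_of_ne hne] at h2
  omega

/-- **Adams–Riemann–Roch core identity** for `B = A[X]/∏(X - u_m)` with unit nodes. -/
theorem arr (hu : ∀ m, IsUnit (u m)) (j : ℕ) (hj : 1 ≤ j)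
    {c : AdjoinRoot (nodePoly u)} (hc : c * AdjoinRoot.root (nodePoly u) = 1)
    (w : AdjoinRoot (nodePoly u)) (hw : w * ∏ k, tE c j k = 1) (k : ℕ) (hk : k ≤ r) :
    fc u ((j : AdjoinRoot (nodePoly u)) * w * c ^ (j * k)) = if k = 0 then 1 else 0 := by
  classical
  rcases subsingleton_or_nontrivial A with hA | hA
  · exact Subsingleton.elim _ _
  -- the universal domain
  let φ₀ : MvPolynomial (Fin (r + 1)) ℤ →+* A := (MvPolynomial.aeval u).toRingHom
  let S : Submonoid (MvPolynomial (Fin (r + 1)) ℤ) := (IsUnit.submonoid A).comap φ₀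
  have hS : S ≤ nonZeroDivisors (MvPolynomial (Fin (r + 1)) ℤ) := by
    intro s hs
    refine mem_nonZeroDivisors_of_ne_zero ?_
    rintro rfl
    have : IsUnit (φ₀ 0) := hs
    rw [map_zero] at this
    exact not_isUnit_zero this
  let D := Localization S
  haveI : IsDomain D := IsLocalization.isDomain_localization hS
  have hφ₀ : ∀ y : S, IsUnit (φ₀ y) := fun y => y.2
  let φ : D →+* A := IsLocalization.lift hφ₀
  have hφalg : ∀ a : MvPolynomial (Fin (r + 1)) ℤ,
      φ (algebraMap (MvPolynomial (Fin (r + 1)) ℤ) D a) = φ₀ a :=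
    fun a => IsLocalization.lift_eq hφ₀ a
  let d : Fin (r + 1) → D := fun m =>
    algebraMap (MvPolynomial (Fin (r + 1)) ℤ) D (MvPolynomial.X m)
  have hd : ∀ m, φ (d m) = u m := by
    intro m
    show φ (algebraMap (MvPolynomial (Fin (r + 1)) ℤ) D (MvPolynomial.X m)) = u m
    rw [hφalg]
    show MvPolynomial.aeval u (MvPolynomial.X m) = u m
    rw [MvPolynomial.aeval_X]
  -- φ reflects units
  have hrefl : ∀ x : D, IsUnit (φ x) → IsUnit x := by
    intro x hx
    obtain ⟨a, s, rfl⟩ := IsLocalization.exists_mk'_eq S x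
    have h1 : IsLocalization.mk' D a s *
        algebraMap (MvPolynomial (Fin (r + 1)) ℤ) D (s : MvPolynomial (Fin (r + 1)) ℤ) =
        algebraMap (MvPolynomial (Fin (r + 1)) ℤ) D a := IsLocalization.mk'_spec D a s
    have h2 : IsUnit (φ₀ a) := by
      have := congrArg φ h1
      rw [map_mul, hφalg, hφalg] at this
      rw [← this]
      exact hx.mul (hφ₀ s)
    have h3 : IsUnit (algebraMap (MvPolynomial (Fin (r + 1)) ℤ) D a) :=
      IsLocalization.map_units D (⟨a, h2⟩ : S)
    rw [← h1] at h3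
    exact isUnit_of_mul_isUnit_left h3
  have hdu : ∀ m, IsUnit (d m) := fun m => hrefl _ (by rw [hd]; exact hu m)
  have hinj : Function.Injective (fun m => d m ^ j) := by
    intro m m' h
    have h1 : algebraMap (MvPolynomial (Fin (r + 1)) ℤ) D
          ((MvPolynomial.X m : MvPolynomial (Fin (r + 1)) ℤ) ^ j) =
        algebraMap (MvPolynomial (Fin (r + 1)) ℤ) D
          ((MvPolynomial.X m' : MvPolynomial (Fin (r + 1)) ℤ) ^ j) := by
      rw [map_pow, map_pow]; exact h
    exact X_pow_injective j hj (IsLocalization.injective D hS h1)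
  obtain ⟨cd, hcd⟩ := exists_inv_root hdu
  obtain ⟨cd', hcd'⟩ := exists_inv_root (u := fun m => d m ^ j) (fun m => (hdu m).pow j)
  -- images
  have hΦc : mapB φ hd cd = c := by
    have h1 : mapB φ hd cd * AdjoinRoot.root (nodePoly u) = 1 := by
      rw [← mapB_root φ hd, ← map_mul, hcd, map_one]
    calc mapB φ hd cd = mapB φ hd cd * (AdjoinRoot.root (nodePoly u) * c) := by
          rw [mul_comm _ c, hc, mul_one]
      _ = c := by rw [← mul_assoc, h1, one_mul]
  have hΦt : ∀ m, mapB φ hd (tE cd j m) = tE c j m := by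
    intro m
    rw [tE_def, tE_def, map_sum]
    refine sum_congr rfl fun a _ => ?_
    rw [map_pow, map_mul, mapB_of, hΦc, hd]
  -- units
  have htu : ∀ m, IsUnit (tE c j m) := by
    have h1 : IsUnit (∏ k, tE c j k) := IsUnit.of_mul_eq_one _ (by rw [mul_comm]; exact hw)
    intro m
    exact (IsUnit.prod_univ_iff.1 h1) m
  have htdu : ∀ m, IsUnit (tE cd j m) := by
    intro m
    refine isUnit_of_ev d _ fun m' => hrefl _ ?_
    rw [← ev_mapB φ hd, hΦt]
    exact (htu m).map _
  obtain ⟨W, hW⟩ := IsUnit.prod_univ_iff.2 htdu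
  have hwd : (↑W⁻¹ : AdjoinRoot (nodePoly d)) * ∏ k, tE cd j k = 1 := by
    rw [← hW]; exact W.inv_mul
  have hΦw : mapB φ hd (↑W⁻¹ : AdjoinRoot (nodePoly d)) = w := by
    have h1 : mapB φ hd (↑W⁻¹ : AdjoinRoot (nodePoly d)) * ∏ k, tE c j k = 1 := by
      rw [← prod_congr rfl (fun k _ => hΦt k), ← map_prod, ← map_mul, hwd, map_one]
    calc mapB φ hd (↑W⁻¹ : AdjoinRoot (nodePoly d))
        = mapB φ hd (↑W⁻¹ : AdjoinRoot (nodePoly d)) * ((∏ k, tE c j k) * w) := by
          rw [mul_comm _ w, hw, mul_one]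
      _ = w := by rw [← mul_assoc, h1, one_mul]
  have key := arr_domain hinj hcd hcd' _ hwd k hk
  have h2 := congrArg φ key
  have h3 : mapB φ hd ((j : AdjoinRoot (nodePoly d)) * (↑W⁻¹ : AdjoinRoot (nodePoly d)) *
      cd ^ (j * k)) = (j : AdjoinRoot (nodePoly u)) * w * c ^ (j * k) := by
    rw [(mapB φ hd).map_mul, (mapB φ hd).map_mul, map_natCast, hΦw, map_pow, hΦc]
  rw [← fc_mapB φ hd, h3] at h2
  rw [h2]
  split_ifs <;> simp

end Main
end Groth.Agent.Lib.Helper11.ARR
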