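import Groth.Agent.Lib.Helper4Lambda

/-!
# λ-rings: the γ-filtration (helper4)

`gammaFiltration P n` is an ideal, `F^m F^n ⊆ F^(m+n)`, antitone, contains `γ^r(x)` for `ε x = 0`.
-/

namespace Groth.Agent.Lib.Helper4
open PowerSeries LambdaRing Finset

variable {K : Type*} [CommRing K] [LambdaOps K]

theorem gamma_zero' (x : K) : gamma 0 x = 1 := by rw [gamma, if_pos rfl]

theorem gamma_one (x : K) : gamma 1 x = x := by
  rw [gamma, if_neg one_ne_zero]
  simp [sum_range_succ, LambdaOps.lam_one]

/-- generators of the n-th step of the γ-filtration -/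
def gammaGen (P : PosStructure K) (n : ℕ) : Set K :=
  {y | ∃ (l : List (ℕ × K)), (∀ p ∈ l, P.aug p.2 = 0) ∧ n ≤ (l.map Prod.fst).sum ∧
        y = (l.map fun p => gamma p.1 p.2).prod}

theorem gammaFiltration_zero (P : PosStructure K) : gammaFiltration P 0 = ⊤ := by
  rw [gammaFiltration, if_pos rfl]

theorem gammaFiltration_of_ne_zero (P : PosStructure K) {n : ℕ} (hn : n ≠ 0) :
    gammaFiltration P n = AddSubgroup.closure (gammaGen P n) := by
  rw [gammaFiltration, if_neg hn]; rfl

theorem gammaGen_subset_gammaFiltration (P : PosStructure K) (n : ℕ) :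
    gammaGen P n ⊆ gammaFiltration P n := by
  by_cases hn : n = 0
  · subst hn; rw [gammaFiltration_zero]; exact fun _ _ => trivial
  · rw [gammaFiltration_of_ne_zero P hn]; exact AddSubgroup.subset_closure

theorem gammaGen_mul (P : PosStructure K) {m n : ℕ} {x y : K} (hx : x ∈ gammaGen P m)
    (hy : y ∈ gammaGen P n) : x * y ∈ gammaGen P (m + n) := by
  obtain ⟨l, hl, hln, rfl⟩ := hx
  obtain ⟨l', hl', hln', rfl⟩ := hy
  refine ⟨l ++ l', ?_, ?_, ?_⟩
  · intro p hp
    rcases List.mem_append.1 hp with h | h
    · exact hl p h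
    · exact hl' p h
  · rw [List.map_append, List.sum_append]; omega
  · rw [List.map_append, List.prod_append]

theorem aug_sub_aug (P : PosStructure K) (a : K) : P.aug (a - (P.aug a : K)) = 0 := by
  rw [map_sub, map_intCast]; simp

theorem mul_mem_gammaFiltration_left (P : PosStructure K) (n : ℕ) (a x : K)
    (hx : x ∈ gammaFiltration P n) : a * x ∈ gammaFiltration P n := by
  by_cases hn : n = 0
  · subst hn; rw [gammaFiltration_zero]; trivial
  rw [gammaFiltration_of_ne_zero P hn] at hx ⊢
  induction hx using AddSubgroup.closure_induction with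
  | mem x hx =>
    have h1 : (a - (P.aug a : K)) * x ∈ AddSubgroup.closure (gammaGen P n) := by
      apply AddSubgroup.subset_closure
      obtain ⟨l, hl, hln, rfl⟩ := hx
      refine ⟨(1, a - (P.aug a : K)) :: l, ?_, ?_, ?_⟩
      · intro p hp
        rcases List.mem_cons.1 hp with h | h
        · rw [h]; exact aug_sub_aug P a
        · exact hl p h
      · rw [List.map_cons, List.sum_cons]; omega
      · rw [List.map_cons, List.prod_cons, gamma_one]
    have h2 : (P.aug a : K) * x ∈ AddSubgroup.closure (gammaGen P n) := by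
      rw [← zsmul_eq_mul]
      exact AddSubgroup.zsmul_mem _ (AddSubgroup.subset_closure hx) _
    have : a * x = (a - (P.aug a : K)) * x + (P.aug a : K) * x := by ring
    rw [this]
    exact AddSubgroup.add_mem _ h1 h2
  | zero => rw [mul_zero]; exact AddSubgroup.zero_mem _
  | add x y _ _ hx hy => rw [mul_add]; exact AddSubgroup.add_mem _ hx hy
  | neg x _ hx => rw [mul_neg]; exact AddSubgroup.neg_mem _ hx

theorem mul_mem_gammaFiltration (P : PosStructure K) (m n : ℕ) (x y : K)
    (hx : x ∈ gammaFiltration P m) (hy : y ∈ gammaFiltration P n) :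
    x * y ∈ gammaFiltration P (m + n) := by
  by_cases hm : m = 0
  · subst hm; rw [zero_add]; exact mul_mem_gammaFiltration_left P n x y hy
  by_cases hn : n = 0
  · subst hn; rw [add_zero, mul_comm]; exact mul_mem_gammaFiltration_left P m y x hx
  rw [gammaFiltration_of_ne_zero P hm] at hx
  rw [gammaFiltration_of_ne_zero P hn] at hy
  rw [gammaFiltration_of_ne_zero P (by omega : m + n ≠ 0)]
  induction hx using AddSubgroup.closure_induction with
  | mem x hx =>
    induction hy using AddSubgroup.closure_induction with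
    | mem y hy => exact AddSubgroup.subset_closure (gammaGen_mul P hx hy)
    | zero => rw [mul_zero]; exact AddSubgroup.zero_mem _
    | add y z _ _ hy hz => rw [mul_add]; exact AddSubgroup.add_mem _ hy hz
    | neg y _ hy => rw [mul_neg]; exact AddSubgroup.neg_mem _ hy
  | zero => rw [zero_mul]; exact AddSubgroup.zero_mem _
  | add x z _ _ hx hz => rw [add_mul]; exact AddSubgroup.add_mem _ hx hz
  | neg x _ hx => rw [neg_mul]; exact AddSubgroup.neg_mem _ hx

theorem gammaFiltration_anti (P : PosStructure K) {m n : ℕ} (h : m ≤ n) :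
    gammaFiltration P n ≤ gammaFiltration P m := by
  by_cases hm : m = 0
  · subst hm; rw [gammaFiltration_zero]; exact le_top
  rw [gammaFiltration_of_ne_zero P hm, gammaFiltration_of_ne_zero P (by omega : n ≠ 0)]
  apply AddSubgroup.closure_mono
  rintro y ⟨l, hl, hln, rfl⟩
  exact ⟨l, hl, by omega, rfl⟩

theorem gamma_mem_gammaFiltration (P : PosStructure K) (r : ℕ) (x : K) (hx : P.aug x = 0) :
    gamma r x ∈ gammaFiltration P r := by
  apply gammaGen_subset_gammaFiltration
  refine ⟨[(r, x)], ?_, ?_, ?_⟩
  · intro p hp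
    rw [List.mem_singleton] at hp
    rw [hp]; exact hx
  · simp
  · simp

end Groth.Agent.Lib.Helper4
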