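import Groth.Agent.Lib.Helper4LambdaSplit
import Groth.Agent.Lib.Helper4LambdaFil
import Groth.Prelude.Def_W4bkmilneecrracsp2Inv

/-!
# λ-rings with involution (helper4)

`λ^i(e) = λ^(m-i)(e^∨) λ^m(e)`, `γ^m(e - m) = λ_{-1}(e^∨) λ^m(e)` and `λ_{-1}(e) = (-1)^m γ^m(e - m)`.
-/

universe u

namespace Groth.Agent.Lib.Helper4
open PowerSeries LambdaRing Finset

section Rev
variable {R : Type*} [CommRing R]

theorem coeff_zero_one_add_C_mul_X_mul (a : R) (f : R⟦X⟧) :
    coeff 0 ((1 + C a * X) * f) = coeff 0 f := by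
  simp

theorem coeff_succ_one_add_C_mul_X_mul (a : R) (f : R⟦X⟧) (n : ℕ) :
    coeff (n + 1) ((1 + C a * X) * f) = coeff (n + 1) f + a * coeff n f := by
  rw [add_mul, one_mul, map_add, mul_assoc, coeff_C_mul, coeff_succ_X_mul]

/-- `Π (1 + u t)` over a multiset. -/
noncomputable def linProd (s : Multiset R) : R⟦X⟧ := (s.map fun u => (1 + C u * X : R⟦X⟧)).prod

@[simp] theorem linProd_zero : linProd (0 : Multiset R) = 1 := by simp [linProd]

@[simp] theorem linProd_cons (a : R) (s : Multiset R) :
    linProd (a ::ₘ s) = (1 + C a * X) * linProd s := by simp [linProd]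

theorem coeff_linProd_eq_zero (s : Multiset R) (j : ℕ) (hj : Multiset.card s < j) :
    coeff j (linProd s) = 0 := by
  induction s using Multiset.induction_on generalizing j with
  | empty =>
    rw [linProd_zero, coeff_one, if_neg]
    rw [Multiset.card_zero] at hj; omega
  | cons a s ih =>
    rw [Multiset.card_cons] at hj
    obtain ⟨j, rfl⟩ : ∃ j', j = j' + 1 := ⟨j - 1, by omega⟩
    rw [linProd_cons, coeff_succ_one_add_C_mul_X_mul, ih _ (by omega), ih _ (by omega)]
    simp

theorem coeff_linProd_rev (s : Multiset (R × R)) (hs : ∀ p ∈ s, p.2 * p.1 = 1) (i k : ℕ)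
    (hik : i + k = Multiset.card s) :
    coeff i (linProd (s.map Prod.fst)) =
      coeff k (linProd (s.map Prod.snd)) * (s.map Prod.fst).prod := by
  induction s using Multiset.induction_on generalizing i k with
  | empty =>
    rw [Multiset.card_zero] at hik
    obtain ⟨rfl, rfl⟩ : i = 0 ∧ k = 0 := by omega
    simp
  | cons p s ih =>
    have hp : p.2 * p.1 = 1 := hs p (Multiset.mem_cons_self p s)
    have hs' : ∀ q ∈ s, q.2 * q.1 = 1 := fun q hq => hs q (Multiset.mem_cons_of_mem hq)
    rw [Multiset.card_cons] at hik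
    simp only [Multiset.map_cons, linProd_cons, Multiset.prod_cons]
    have hA1 : coeff (Multiset.card s + 1) (linProd (s.map Prod.snd)) = 0 :=
      coeff_linProd_eq_zero _ _ (by rw [Multiset.card_map]; omega)
    have hA2 : coeff (Multiset.card s + 1) (linProd (s.map Prod.fst)) = 0 :=
      coeff_linProd_eq_zero _ _ (by rw [Multiset.card_map]; omega)
    rcases i with _ | i
    · obtain rfl : k = Multiset.card s + 1 := by omega
      rw [coeff_zero_one_add_C_mul_X_mul, coeff_succ_one_add_C_mul_X_mul, hA1, zero_add,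
        ih hs' 0 (Multiset.card s) (by omega)]
      linear_combination (-(coeff (Multiset.card s) (linProd (s.map Prod.snd))) *
        (s.map Prod.fst).prod) * hp
    · rcases k with _ | k
      · obtain rfl : i = Multiset.card s := by omega
        rw [coeff_zero_one_add_C_mul_X_mul, coeff_succ_one_add_C_mul_X_mul, hA2, zero_add,
          ih hs' (Multiset.card s) 0 (by omega)]
        ring
      · rw [coeff_succ_one_add_C_mul_X_mul, coeff_succ_one_add_C_mul_X_mul,
          ih hs' (i + 1) k (by omega), ih hs' i (k + 1) (by omega)]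
        linear_combination (-(coeff k (linProd (s.map Prod.snd))) *
          (s.map Prod.fst).prod) * hp

end Rev

section Inv
variable {K : Type u} [CommRing K] [LambdaOps K]

theorem lamSeries_multiset_sum_lines (P : PosStructure K) (s : Multiset K)
    (hs : ∀ u ∈ s, P.IsLine u) : lamSeries s.sum = linProd s := by
  induction s using Multiset.induction_on with
  | empty => simp
  | cons a s ih =>
    rw [Multiset.sum_cons, lamSeries_add, ih (fun u hu => hs u (Multiset.mem_cons_of_mem hu)),
      lamSeries_of_isLine P a (hs a (Multiset.mem_cons_self a s)), linProd_cons]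

theorem inv_zero {P : PosStructure K} {inv : K → K} (hV : IsInvolution P inv) : inv 0 = 0 := by
  have := hV.map_add 0 0
  rw [add_zero] at this
  exact left_eq_add.mp this

theorem inv_multiset_sum {P : PosStructure K} {inv : K → K} (hV : IsInvolution P inv)
    (s : Multiset K) : inv s.sum = (s.map inv).sum := by
  induction s using Multiset.induction_on with
  | empty => simpa using inv_zero hV
  | cons a s ih => rw [Multiset.sum_cons, hV.map_add, ih, Multiset.map_cons, Multiset.sum_cons]

theorem lam_multiset_sum_rev {P : PosStructure K} {inv : K → K} (hV : IsInvolution P inv)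
    (s : Multiset K) (hs : ∀ u ∈ s, P.IsLine u) (i k : ℕ) (hik : i + k = Multiset.card s) :
    LambdaOps.lam i s.sum = LambdaOps.lam k (inv s.sum) * s.prod := by
  have h := coeff_linProd_rev (s.map fun u => (u, inv u)) (by
    intro p hp
    obtain ⟨u, hu, rfl⟩ := Multiset.mem_map.1 hp
    exact hV.inv_mul_self u (hs u hu)) i k (by rw [Multiset.card_map]; exact hik)
  simp only [Multiset.map_map, Function.comp_def, Multiset.map_id'] at h
  rw [← lamSeries_multiset_sum_lines P s hs, coeff_lamSeries] at h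
  rw [h, inv_multiset_sum hV, ← coeff_lamSeries,
    lamSeries_multiset_sum_lines P (s.map inv) (by
      intro v hv
      obtain ⟨u, hu, rfl⟩ := Multiset.mem_map.1 hv
      exact hV.inv_line u (hs u hu))]

theorem lam_card_multiset_sum {P : PosStructure K} {inv : K → K} (hV : IsInvolution P inv)
    (s : Multiset K) (hs : ∀ u ∈ s, P.IsLine u) :
    LambdaOps.lam (Multiset.card s) s.sum = s.prod := by
  rw [lam_multiset_sum_rev hV s hs (Multiset.card s) 0 (by omega), LambdaOps.lam_zero, one_mul]

theorem lam_eq_lam_inv_mul {P : PosStructure K} {inv : K → K}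
    (hS : HasInvSplitting P inv) (e : K) (he : e ∈ P.pos) (i k : ℕ)
    (hik : i + k = (P.aug e).toNat) :
    LambdaOps.lam i e = LambdaOps.lam k (inv e) * LambdaOps.lam (P.aug e).toNat e := by
  obtain ⟨L, inv', f, hf, hV', hcomp, s, hs, hsum⟩ := hS e he
  have hcard : (P.aug e).toNat = Multiset.card s := by
    rw [← hf.aug_comp, ← hsum, aug_multiset_sum_lines _ s hs, Int.toNat_natCast]
  apply hf.injective
  rw [map_mul, hf.isLambdaHom, hf.isLambdaHom, hf.isLambdaHom, hcomp, ← hsum, hcard,
    lam_card_multiset_sum hV' s hs]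
  exact lam_multiset_sum_rev hV' s hs i k (by rw [← hcard]; exact hik)


theorem gamma_top (h1 : ∀ k : ℕ, 2 ≤ k → LambdaOps.lam k (1 : K) = 0)
    (e : K) (m : ℕ) (he : ∀ i, m < i → LambdaOps.lam i e = 0) :
    gamma m (e - (m : K)) =
      (-1 : K) ^ m * ∑ i ∈ range (m + 1), (-1 : K) ^ i * LambdaOps.lam i e := by
  rw [← coeff_gammaSeries, gammaSeries_sub_natCast h1 e m he, map_sum, mul_sum]
  refine sum_congr rfl fun i hi => ?_
  rw [mem_range] at hi
  rw [coeff_C_mul, coeff_X_pow_mul', if_pos (by omega), coeff_one_sub_X_pow, Nat.choose_self,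
    Nat.cast_one, mul_one]
  have : (-1 : K) ^ (m - i) = (-1) ^ m * (-1) ^ i := by
    rw [← pow_add]
    have : m + i = (m - i) + 2 * i := by omega
    rw [this, pow_add, pow_mul]; simp
  rw [this]; ring

/-- `λ_{-1}(e) = (-1)^m γ^m(e - m)` -/
theorem lamAlt_eq_gamma (h1 : ∀ k : ℕ, 2 ≤ k → LambdaOps.lam k (1 : K) = 0)
    (e : K) (m : ℕ) (he : ∀ i, m < i → LambdaOps.lam i e = 0) :
    ∑ i ∈ range (m + 1), (-1 : K) ^ i * LambdaOps.lam i e = (-1 : K) ^ m * gamma m (e - (m : K)) := by
  rw [gamma_top h1 e m he, ← mul_assoc, ← pow_add, ← two_mul, pow_mul]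
  simp


theorem gamma_aug_sub_eq {P : PosStructure K} {inv : K → K}
    (hS : HasInvSplitting P inv) (e : K) (he : e ∈ P.pos) :
    gamma (P.aug e).toNat (e - ((P.aug e).toNat : K)) =
      (∑ i ∈ range ((P.aug e).toNat + 1), (-1 : K) ^ i * LambdaOps.lam i (inv e)) *
        LambdaOps.lam (P.aug e).toNat e := by
  set m := (P.aug e).toNat with hm
  rw [gamma_top (lam_one_eq_zero P) e m (lam_eq_zero_of_pos P e he), mul_sum, sum_mul,
    ← sum_range_reflect]
  refine sum_congr rfl fun i hi => ?_
  rw [mem_range] at hi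
  rw [lam_eq_lam_inv_mul hS e he (m + 1 - 1 - i) i (by omega)]
  have : (-1 : K) ^ m * (-1) ^ (m + 1 - 1 - i) = (-1) ^ i := by
    rw [← pow_add]
    have : m + (m + 1 - 1 - i) = i + 2 * (m - i) := by omega
    rw [this, pow_add, pow_mul]; simp
  rw [← mul_assoc, this, mul_assoc]

end Inv

section Inv2
variable {K : Type u} [CommRing K] [LambdaOps K]

theorem isLine_multiset_prod (P : PosStructure K) (s : Multiset K) (hs : ∀ u ∈ s, P.IsLine u) :
    P.IsLine s.prod := by
  induction s using Multiset.induction_on with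
  | empty => rw [Multiset.prod_zero]; exact isLine_one P
  | cons a s ih =>
    rw [Multiset.prod_cons]
    exact isLine_mul P (hs a (Multiset.mem_cons_self a s))
      (ih fun u hu => hs u (Multiset.mem_cons_of_mem hu))

/-- data extracted from the involutive splitting of a positive element `e`: in the extension,
`f (inv e)` is the sum of the lines `inv' u`. -/
theorem exists_inv_split {P : PosStructure K} {inv : K → K}
    (hS : HasInvSplitting P inv) (e : K) (he : e ∈ P.pos) :
    ∃ (L : PosLambdaRing.{u}) (inv' : L.carrier → L.carrier) (f : K →+* L.carrier),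
      IsExtension P L.posStr f ∧ IsInvolution L.posStr inv' ∧
      ∃ s t : Multiset L.carrier, (∀ u ∈ s, L.posStr.IsLine u) ∧ (∀ u ∈ t, L.posStr.IsLine u) ∧
        s.sum = f e ∧ t.sum = f (inv e) ∧ Multiset.card s = (P.aug e).toNat ∧
        Multiset.card t = (P.aug e).toNat ∧ inv' t.sum = s.sum := by
  obtain ⟨L, inv', f, hf, hV', hcomp, s, hs, hsum⟩ := hS e he
  have hcard : (P.aug e).toNat = Multiset.card s := by
    rw [← hf.aug_comp, ← hsum, aug_multiset_sum_lines _ s hs, Int.toNat_natCast]
  refine ⟨L, inv', f, hf, hV', s, s.map inv', hs, ?_, hsum, ?_, hcard.symm, ?_, ?_⟩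
  · intro v hv
    obtain ⟨u, hu, rfl⟩ := Multiset.mem_map.1 hv
    exact hV'.inv_line u (hs u hu)
  · rw [hcomp, ← hsum, inv_multiset_sum hV']
  · rw [Multiset.card_map, hcard]
  · rw [← inv_multiset_sum hV', hV'.inv_inv]

theorem lam_inv_eq_zero {P : PosStructure K} {inv : K → K}
    (hS : HasInvSplitting P inv) (e : K) (he : e ∈ P.pos) (i : ℕ) (hi : (P.aug e).toNat < i) :
    LambdaOps.lam i (inv e) = 0 := by
  obtain ⟨L, inv', f, hf, hV', s, t, hs, ht, hsum, htsum, hcs, hct, hts⟩ := exists_inv_split hS e he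
  apply hf.injective
  rw [map_zero, hf.isLambdaHom, ← htsum, ← coeff_lamSeries, lamSeries_multiset_sum_lines _ t ht]
  exact coeff_linProd_eq_zero t i (by rw [hct]; exact hi)

theorem lam_inv_eq_lam_mul {P : PosStructure K} {inv : K → K}
    (hS : HasInvSplitting P inv) (e : K) (he : e ∈ P.pos) (i k : ℕ)
    (hik : i + k = (P.aug e).toNat) :
    LambdaOps.lam i (inv e) = LambdaOps.lam k e * LambdaOps.lam (P.aug e).toNat (inv e) := by
  obtain ⟨L, inv', f, hf, hV', s, t, hs, ht, hsum, htsum, hcs, hct, hts⟩ := exists_inv_split hS e he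
  apply hf.injective
  rw [map_mul, hf.isLambdaHom, hf.isLambdaHom, hf.isLambdaHom, ← htsum, ← hsum, ← hct,
    lam_card_multiset_sum hV' t ht, ← hts]
  exact lam_multiset_sum_rev hV' t ht i k (by rw [hct]; exact hik)

theorem aug_lam_top_inv {P : PosStructure K} {inv : K → K}
    (hS : HasInvSplitting P inv) (e : K) (he : e ∈ P.pos) :
    P.aug (LambdaOps.lam (P.aug e).toNat (inv e)) = 1 := by
  obtain ⟨L, inv', f, hf, hV', s, t, hs, ht, hsum, htsum, hcs, hct, hts⟩ := exists_inv_split hS e he
  rw [← hf.aug_comp, hf.isLambdaHom, ← htsum, ← hct, lam_card_multiset_sum hV' t ht]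
  exact (isLine_multiset_prod _ t ht).2

theorem gamma_inv_sub_eq {P : PosStructure K} {inv : K → K}
    (hS : HasInvSplitting P inv) (q : K) (hq : q ∈ P.pos) :
    gamma (P.aug q).toNat (inv q - ((P.aug q).toNat : K)) =
      (∑ i ∈ range ((P.aug q).toNat + 1), (-1 : K) ^ i * LambdaOps.lam i q) *
        LambdaOps.lam (P.aug q).toNat (inv q) := by
  set m := (P.aug q).toNat with hm
  rw [gamma_top (lam_one_eq_zero P) (inv q) m (lam_inv_eq_zero hS q hq), mul_sum, sum_mul,
    ← sum_range_reflect]
  refine sum_congr rfl fun i hi => ?_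
  rw [mem_range] at hi
  rw [lam_inv_eq_lam_mul hS q hq (m + 1 - 1 - i) i (by omega)]
  have : (-1 : K) ^ m * (-1) ^ (m + 1 - 1 - i) = (-1) ^ i := by
    rw [← pow_add]
    have : m + (m + 1 - 1 - i) = i + 2 * (m - i) := by omega
    rw [this, pow_add, pow_mul]; simp
  rw [← mul_assoc, this, mul_assoc]

theorem lamAlt_mem_gammaFiltration (P : PosStructure K) (q : K) (hq : q ∈ P.pos) :
    (∑ i ∈ range ((P.aug q).toNat + 1), (-1 : K) ^ i * LambdaOps.lam i q) ∈
      gammaFiltration P (P.aug q).toNat := by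
  rw [lamAlt_eq_gamma (lam_one_eq_zero P) q _ (lam_eq_zero_of_pos P q hq)]
  apply mul_mem_gammaFiltration_left
  apply gamma_mem_gammaFiltration
  rw [map_sub, map_natCast]
  have := P.aug_pos q hq
  have h2 : ((P.aug q).toNat : ℤ) = P.aug q := Int.toNat_of_nonneg this.le
  rw [h2, sub_self]

theorem mem_gammaFiltration_one (P : PosStructure K) (x : K) (hx : P.aug x = 0) :
    x ∈ gammaFiltration P 1 := by
  have := gamma_mem_gammaFiltration P 1 x hx
  rwa [gamma_one] at this

theorem gamma_inv_sub_lamAlt_mem {P : PosStructure K} {inv : K → K}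
    (hS : HasInvSplitting P inv) (q : K) (hq : q ∈ P.pos) :
    gamma (P.aug q).toNat (inv q - ((P.aug q).toNat : K)) -
        (∑ i ∈ range ((P.aug q).toNat + 1), (-1 : K) ^ i * LambdaOps.lam i q) ∈
      gammaFiltration P ((P.aug q).toNat + 1) := by
  rw [gamma_inv_sub_eq hS q hq]
  have : ∀ a b : K, a * b - a = a * (b - 1) := fun a b => by ring
  rw [this]
  apply mul_mem_gammaFiltration P _ 1 _ _ (lamAlt_mem_gammaFiltration P q hq)
  apply mem_gammaFiltration_one
  rw [map_sub, aug_lam_top_inv hS q hq, map_one, sub_self]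

end Inv2

section Push
variable {KY KX : Type u} [CommRing KY] [LambdaOps KY] [CommRing KX] [LambdaOps KX]

theorem map_gamma {g : KY →+* KX} (hg : IsLambdaHom g) (k : ℕ) (y : KY) :
    g (gamma k y) = gamma k (g y) := by
  unfold gamma
  split_ifs with h
  · exact map_one g
  · rw [map_sum]
    refine sum_congr rfl fun j _ => ?_
    rw [map_mul, map_natCast]
    split_ifs with hj
    · rw [map_zero]
    · rw [hg]

theorem exists_preimage_gammaFiltration (PY : PosStructure KY) (PX : PosStructure KX)
    (g : KY →+* KX) (hg : IsLambdaHom g) (hgaug : ∀ y : KY, PX.aug (g y) = PY.aug y)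
    (hgsurj : Function.Surjective g) (m : ℕ) (x : KX) (hx : x ∈ gammaFiltration PX m) :
    ∃ z ∈ gammaFiltration PY m, g z = x := by
  by_cases hm : m = 0
  · subst hm
    obtain ⟨z, hz⟩ := hgsurj x
    exact ⟨z, by rw [gammaFiltration_zero]; trivial, hz⟩
  rw [gammaFiltration_of_ne_zero PX hm] at hx
  rw [gammaFiltration_of_ne_zero PY hm]
  induction hx using AddSubgroup.closure_induction with
  | mem x hx =>
    obtain ⟨l, hl, hln, rfl⟩ := hx
    choose s hs using hgsurj
    refine ⟨((l.map fun p => (p.1, s p.2)).map fun p => gamma p.1 p.2).prod,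
      AddSubgroup.subset_closure ⟨l.map fun p => (p.1, s p.2), ?_, ?_, rfl⟩, ?_⟩
    · intro p hp
      obtain ⟨p', hp', rfl⟩ := List.mem_map.1 hp
      simp only
      rw [← hgaug, hs]; exact hl p' hp'
    · simpa [List.map_map, Function.comp_def] using hln
    · rw [map_list_prod, List.map_map, List.map_map]
      congr 1
      apply List.map_congr_left
      intro p _
      simp only [Function.comp_apply]
      rw [map_gamma hg, hs]
  | zero => exact ⟨0, AddSubgroup.zero_mem _, map_zero g⟩
  | add x y _ _ hx hy =>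
    obtain ⟨z, hz, rfl⟩ := hx
    obtain ⟨w, hw, rfl⟩ := hy
    exact ⟨z + w, AddSubgroup.add_mem _ hz hw, map_add g z w⟩
  | neg x _ hx =>
    obtain ⟨z, hz, rfl⟩ := hx
    exact ⟨-z, AddSubgroup.neg_mem _ hz, map_neg g z⟩

theorem push_mem_gammaFiltration (PY : PosStructure KY) (PX : PosStructure KX)
    (g : KY →+* KX) (hg : IsLambdaHom g) (hgaug : ∀ y : KY, PX.aug (g y) = PY.aug y)
    (hgsurj : Function.Surjective g)
    (p : KX →+ KY) (hproj : ∀ (y : KY) (x : KX), p (g y * x) = y * p x)
    (q : KY) (hq : q ∈ PY.pos)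
    (hp1 : p 1 = ∑ i ∈ range ((PY.aug q).toNat + 1), (-1 : KY) ^ i * LambdaOps.lam i q)
    (m : ℕ) (x : KX) (hx : x ∈ gammaFiltration PX m) :
    p x ∈ gammaFiltration PY (m + (PY.aug q).toNat) := by
  obtain ⟨z, hz, rfl⟩ := exists_preimage_gammaFiltration PY PX g hg hgaug hgsurj m x hx
  have : p (g z) = z * p 1 := by rw [← hproj, mul_one]
  rw [this, hp1]
  exact mul_mem_gammaFiltration PY m _ z _ hz (lamAlt_mem_gammaFiltration PY q hq)

end Push

end Groth.Agent.Lib.Helper4
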