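import Groth.Agent.Lib.Helper4LambdaSplit
import Groth.Prelude.Def_KRR

/-!
# σ-operations and the elementary extension `K[T]/(p_e)` (helper4)

`KRR.sigma`, `KRR.extPoly`: the functional `f(ℓ^i) = σ^i(e)`, its values on all powers of `ℓ` and
`ℓ⁻¹`, `f(λ^i(e - ℓ)) = δ_{i0}`, augmentation of `σ^j(e)`.
-/

universe u
namespace Groth.Agent.Lib.Helper4
open PowerSeries LambdaRing Finset

section Rec
variable {K B : Type*} [CommRing K] [CommRing B] [Algebra K B]

/-- linear functionals on a `K`-algebra generated by a root `ℓ` of a monic polynomial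
`Σ a_i T^(m-i)`, whose values on `1, ℓ, …, ℓ^(m-1)` satisfy the linear recursion with
characteristic polynomial `Σ a_i t^i`, satisfy it for all powers. -/
theorem functional_pow_eq (m : ℕ) (a s : ℕ → K) (ℓ : B) (f : B →ₗ[K] K)
    (ha0 : a 0 = 1)
    (hrel : ∑ i ∈ range (m + 1), algebraMap K B (a i) * ℓ ^ (m - i) = 0)
    (hvan : ∀ i, m < i → a i = 0)
    (hconv : ∀ n, 1 ≤ n → ∑ i ∈ range (n + 1), a i * s (n - i) = 0)
    (hf : ∀ i, i < m → f (ℓ ^ i) = s i) (hm : 1 ≤ m) :
    ∀ i, f (ℓ ^ i) = s i := by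
  intro i
  induction i using Nat.strong_induction_on with
  | _ i ih =>
    by_cases hi : i < m
    · exact hf i hi
    rw [not_lt] at hi
    obtain ⟨d, rfl⟩ : ∃ d, i = m + d := ⟨i - m, by omega⟩
    -- relation times ℓ^d
    have h1 : ∑ k ∈ range (m + 1), a k * f (ℓ ^ (m + d - k)) = 0 := by
      have := congrArg (fun z => f (z * ℓ ^ d)) hrel
      simp only [zero_mul, map_zero, sum_mul, map_sum] at this
      rw [← this]
      refine sum_congr rfl fun k hk => ?_
      rw [mem_range] at hk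
      rw [mul_assoc, ← pow_add, ← Algebra.smul_def, map_smul, smul_eq_mul]
      congr 3
      omega
    have h2 : ∑ k ∈ range (m + 1), a k * s (m + d - k) = 0 := by
      have := hconv (m + d) (by omega)
      rw [← this]
      apply sum_subset
      · intro k hk; rw [mem_range] at hk ⊢; omega
      · intro k _ hk
        rw [mem_range] at hk
        rw [hvan k (by omega), zero_mul]
    have h3 : ∑ k ∈ range (m + 1), a k * (f (ℓ ^ (m + d - k)) - s (m + d - k)) = 0 := by
      simp only [mul_sub, sum_sub_distrib, h1, h2, sub_self]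
    rw [sum_range_succ'] at h3
    have h4 : ∑ k ∈ range m, a (k + 1) * (f (ℓ ^ (m + d - (k + 1))) - s (m + d - (k + 1))) = 0 := by
      apply sum_eq_zero
      intro k hk
      rw [mem_range] at hk
      rw [ih (m + d - (k + 1)) (by omega), sub_self, mul_zero]
    rw [h4, zero_add, ha0, one_mul, Nat.sub_zero] at h3
    exact sub_eq_zero.1 h3

theorem mul_inv_pow (ℓ linv : B) (hl : linv * ℓ = 1) (a b : ℕ) :
    ℓ ^ a * linv ^ b = if b ≤ a then ℓ ^ (a - b) else linv ^ (b - a) := by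
  split_ifs with h
  · obtain ⟨c, rfl⟩ : ∃ c, a = b + c := ⟨a - b, by omega⟩
    rw [Nat.add_sub_cancel_left, pow_add, mul_comm (ℓ ^ b), mul_assoc, ← mul_pow, mul_comm ℓ, hl,
      one_pow, mul_one]
  · rw [not_le] at h
    obtain ⟨c, rfl⟩ : ∃ c, b = a + c := ⟨b - a, by omega⟩
    rw [Nat.add_sub_cancel_left, pow_add, ← mul_assoc, ← mul_pow, mul_comm ℓ, hl, one_pow, one_mul]

theorem functional_inv_pow_eq_zero (m : ℕ) (a s : ℕ → K) (ℓ linv : B) (f : B →ₗ[K] K)
    (hl : linv * ℓ = 1)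
    (hrel : ∑ i ∈ range (m + 1), algebraMap K B (a i) * ℓ ^ (m - i) = 0)
    (hconv : ∀ n, 1 ≤ n → ∑ i ∈ range (n + 1), a i * s (n - i) = 0)
    (hf : ∀ i, f (ℓ ^ i) = s i) (ham : IsUnit (a m)) :
    ∀ n, 1 ≤ n → n < m → f (linv ^ n) = 0 := by
  intro n
  induction n using Nat.strong_induction_on with
  | _ n ih =>
    intro hn1 hnm
    -- relation times linv^n
    have h1 : ∑ k ∈ range (m + 1), a k * f (ℓ ^ (m - k) * linv ^ n) = 0 := by
      have := congrArg (fun z => f (z * linv ^ n)) hrel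
      simp only [zero_mul, map_zero, sum_mul, map_sum] at this
      rw [← this]
      refine sum_congr rfl fun k hk => ?_
      rw [mul_assoc, ← Algebra.smul_def, map_smul, smul_eq_mul]
    -- evaluate each term
    have h2 : ∀ k ∈ range (m + 1), a k * f (ℓ ^ (m - k) * linv ^ n) =
        (if k ≤ m - n then a k * s (m - n - k) else 0) + (if k = m then a m * f (linv ^ n) else 0) := by
      intro k hk
      rw [mem_range] at hk
      rw [mul_inv_pow ℓ linv hl]
      by_cases hk1 : k ≤ m - n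
      · rw [if_pos (by omega), if_pos hk1, if_neg (by omega), add_zero, hf]
        congr 2; omega
      · rw [if_neg (by omega), if_neg hk1, zero_add]
        by_cases hk2 : k = m
        · rw [if_pos hk2, hk2, Nat.sub_self, Nat.sub_zero]
        · rw [if_neg hk2, ih (n - (m - k)) (by omega) (by omega) (by omega), mul_zero]
    rw [sum_congr rfl h2, sum_add_distrib, ← sum_filter, sum_ite_eq' (range (m + 1)) m,
      if_pos (mem_range.2 (by omega))] at h1
    have h3 : ∑ k ∈ (range (m + 1)).filter (fun k => k ≤ m - n), a k * s (m - n - k) = 0 := by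
      rw [← hconv (m - n) (by omega)]
      apply sum_congr _ (fun _ _ => rfl)
      ext k
      simp only [mem_filter, mem_range]
      omega
    rw [h3, zero_add] at h1
    exact (ham.mul_right_eq_zero).1 h1

end Rec

section
variable {K : Type u} [CommRing K] [LambdaOps K]

theorem sigmaSeries_eq (x : K) : KRR.sigmaSeries x = (lamNeg x).invOfUnit 1 := rfl

theorem lamNeg_mul_sigmaSeries (x : K) : lamNeg x * KRR.sigmaSeries x = 1 :=
  lamNeg_mul_invOfUnit x

theorem coeff_sigmaSeries (x : K) (n : ℕ) : coeff n (KRR.sigmaSeries x) = KRR.sigma n x := rfl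

theorem sigma_conv (x : K) (n : ℕ) (hn : 1 ≤ n) :
    ∑ i ∈ range (n + 1), ((-1 : K) ^ i * LambdaOps.lam i x) * KRR.sigma (n - i) x = 0 := by
  have := congrArg (coeff n) (lamNeg_mul_sigmaSeries x)
  rw [coeff_mul, Finset.Nat.sum_antidiagonal_eq_sum_range_succ_mk, coeff_one, if_neg (by omega)]
    at this
  simpa [coeff_lamNeg, coeff_sigmaSeries] using this

theorem sigma_zero (x : K) : KRR.sigma 0 x = 1 := by
  have := congrArg (coeff 0) (lamNeg_mul_sigmaSeries x)
  rw [coeff_mul] at this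
  simpa [coeff_lamNeg, coeff_sigmaSeries, LambdaOps.lam_zero] using this

theorem eval₂_extPoly {B : Type*} [CommRing B] (P : PosStructure K) (e : K) (g : K →+* B) (x : B) :
    Polynomial.eval₂ g x (KRR.extPoly P e) =
      ∑ i ∈ range ((P.aug e).toNat + 1),
        g ((-1 : K) ^ i * LambdaOps.lam i e) * x ^ ((P.aug e).toNat - i) := by
  unfold KRR.extPoly
  rw [Polynomial.eval₂_finsetSum]
  refine sum_congr rfl fun i _ => ?_
  rw [Polynomial.eval₂_mul, Polynomial.eval₂_C, Polynomial.eval₂_X_pow]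

theorem extPoly_root_rel (P : PosStructure K) (e : K) :
    ∑ i ∈ range ((P.aug e).toNat + 1),
      algebraMap K (AdjoinRoot (KRR.extPoly P e)) ((-1 : K) ^ i * LambdaOps.lam i e) *
        AdjoinRoot.root (KRR.extPoly P e) ^ ((P.aug e).toNat - i) = 0 := by
  have := AdjoinRoot.eval₂_root (KRR.extPoly P e)
  rw [eval₂_extPoly] at this
  rw [← this, AdjoinRoot.algebraMap_eq]

theorem functional_root_pow {P : PosStructure K} (e : K) (he : e ∈ P.pos) (r : ℕ)
    (hr : P.aug e = r + 1) (f : AdjoinRoot (KRR.extPoly P e) →ₗ[K] K)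
    (hf : ∀ i : ℕ, i ≤ r → f (AdjoinRoot.root (KRR.extPoly P e) ^ i) = KRR.sigma i e) :
    ∀ i : ℕ, f (AdjoinRoot.root (KRR.extPoly P e) ^ i) = KRR.sigma i e := by
  have hm : (P.aug e).toNat = r + 1 := by rw [hr]; rfl
  have hrel := extPoly_root_rel P e
  rw [hm] at hrel
  exact functional_pow_eq (r + 1) (fun i => (-1 : K) ^ i * LambdaOps.lam i e)
    (fun i => KRR.sigma i e) _ f (by simp [LambdaOps.lam_zero]) hrel
    (fun i hi => by
      rw [lam_eq_zero_of_pos P e he i (by omega), mul_zero])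
    (sigma_conv e) (fun i hi => hf i (by omega)) (by omega)

theorem functional_root_inv_pow {P : PosStructure K} (e : K) (he : e ∈ P.pos) (r : ℕ)
    (hr : P.aug e = r + 1) (f : AdjoinRoot (KRR.extPoly P e) →ₗ[K] K)
    (hf : ∀ i : ℕ, i ≤ r → f (AdjoinRoot.root (KRR.extPoly P e) ^ i) = KRR.sigma i e)
    (linv : AdjoinRoot (KRR.extPoly P e)) (hlinv : linv * AdjoinRoot.root (KRR.extPoly P e) = 1) :
    ∀ n : ℕ, 1 ≤ n → n ≤ r → f (linv ^ n) = 0 := by
  have hm : (P.aug e).toNat = r + 1 := by rw [hr]; rfl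
  have hrel := extPoly_root_rel P e
  rw [hm] at hrel
  intro n hn1 hnr
  refine functional_inv_pow_eq_zero (r + 1) (fun i => (-1 : K) ^ i * LambdaOps.lam i e)
    (fun i => KRR.sigma i e) _ linv f hlinv hrel (sigma_conv e)
    (functional_root_pow e he r hr f hf) ?_ n hn1 (by omega)
  have h1 : IsUnit (LambdaOps.lam (r + 1) e) := by
    have := P.isUnit_lam e he
    rwa [hm] at this
  exact ((isUnit_one.neg).pow _).mul h1


theorem one_add_C_mul_X_mul_mk {B : Type*} [CommRing B] (ℓ : B) :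
    (1 + C ℓ * X : B⟦X⟧) * PowerSeries.mk (fun n => (-ℓ) ^ n) = 1 := by
  ext n
  rw [add_mul, one_mul, map_add, mul_assoc]
  rcases n with _ | n
  · simp
  · rw [coeff_C_mul, coeff_succ_X_mul, coeff_mk, coeff_mk, coeff_one, if_neg (by omega)]
    ring

/-- `λ^i(x - ℓ) = Σ_k λ^k(x) (-ℓ)^(i-k)` when `λ_t(ℓ) = 1 + ℓ t`. -/
theorem lam_sub_line {B : Type*} [CommRing B] [LambdaOps B] (x ℓ : B)
    (hℓ : ∀ i : ℕ, 2 ≤ i → LambdaOps.lam i ℓ = 0) (i : ℕ) :
    LambdaOps.lam i (x - ℓ) = ∑ k ∈ range (i + 1), LambdaOps.lam k x * (-ℓ) ^ (i - k) := by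
  have h1 := lamSeries_sub_mul x ℓ
  rw [lamSeries_of_lam_eq_zero ℓ hℓ] at h1
  have h2 : lamSeries (x - ℓ) = lamSeries x * PowerSeries.mk (fun n => (-ℓ) ^ n) := by
    rw [← h1, mul_assoc, one_add_C_mul_X_mul_mk, mul_one]
  rw [← coeff_lamSeries, h2, coeff_mul, Finset.Nat.sum_antidiagonal_eq_sum_range_succ_mk]
  simp

theorem functional_lam_sub_root {P : PosStructure K} (e : K)
    (inst : LambdaOps (AdjoinRoot (KRR.extPoly P e)))
    (hext : ∀ (i : ℕ) (x : K), @LambdaOps.lam _ _ inst i (AdjoinRoot.of (KRR.extPoly P e) x) =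
      AdjoinRoot.of (KRR.extPoly P e) (LambdaOps.lam i x))
    (hroot : ∀ i : ℕ, 2 ≤ i → @LambdaOps.lam _ _ inst i (AdjoinRoot.root (KRR.extPoly P e)) = 0)
    (f : AdjoinRoot (KRR.extPoly P e) →ₗ[K] K)
    (hf : ∀ i : ℕ, f (AdjoinRoot.root (KRR.extPoly P e) ^ i) = KRR.sigma i e) (i : ℕ) :
    f (@LambdaOps.lam _ _ inst i
        (AdjoinRoot.of (KRR.extPoly P e) e - AdjoinRoot.root (KRR.extPoly P e))) =
      if i = 0 then 1 else 0 := by
  let _ := inst
  rw [lam_sub_line _ _ hroot, map_sum]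
  have hterm : ∀ k ∈ range (i + 1),
      f (LambdaOps.lam k (AdjoinRoot.of (KRR.extPoly P e) e) *
        (-AdjoinRoot.root (KRR.extPoly P e)) ^ (i - k)) =
      (-1 : K) ^ i * (((-1 : K) ^ k * LambdaOps.lam k e) * KRR.sigma (i - k) e) := by
    intro k hk
    rw [mem_range] at hk
    rw [hext, neg_pow, ← mul_assoc, mul_comm _ ((-1 : AdjoinRoot (KRR.extPoly P e)) ^ (i - k)),
      mul_assoc]
    have : ((-1 : AdjoinRoot (KRR.extPoly P e)) ^ (i - k)) =
        algebraMap K _ ((-1 : K) ^ (i - k)) := by simp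
    rw [this, ← AdjoinRoot.algebraMap_eq, ← mul_assoc, ← map_mul, ← Algebra.smul_def, map_smul, hf,
      smul_eq_mul]
    have h2 : (-1 : K) ^ (i - k) = (-1) ^ i * (-1) ^ k := by
      rw [← pow_add]
      have : i + k = (i - k) + 2 * k := by omega
      rw [this, pow_add, pow_mul]; simp
    rw [h2]; ring
  rw [sum_congr rfl hterm, ← mul_sum]
  rcases i with _ | i
  · simp [LambdaOps.lam_zero, sigma_zero]
  · rw [sigma_conv e (i + 1) (by omega), mul_zero, if_neg (by omega)]


theorem map_aug_lamSeries {P : PosStructure K} (hK : HasSplitting K P) (e : K) (he : e ∈ P.pos) :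
    PowerSeries.map P.aug (lamSeries e) = (1 + X) ^ (P.aug e).toNat := by
  ext i
  rw [coeff_map, coeff_lamSeries, aug_lam_eq_choose hK e he, coeff_one_add_X_pow]

theorem map_aug_lamNeg {P : PosStructure K} (hK : HasSplitting K P) (e : K) (he : e ∈ P.pos) :
    PowerSeries.map P.aug (lamNeg e) = (1 - X) ^ (P.aug e).toNat := by
  have : (1 - X : ℤ⟦X⟧) = rescale (-1 : ℤ) (1 + X) := by
    rw [map_add, map_one, rescale_X]; simp [sub_eq_add_neg]
  rw [this, ← map_pow, ← map_aug_lamSeries hK e he, lamNeg]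
  have := rescale_map P.aug (-1 : K) (lamSeries e)
  rw [map_neg, map_one] at this
  rw [this]

theorem aug_sigma_eq_choose {P : PosStructure K} (hK : HasSplitting K P) (e : K) (he : e ∈ P.pos)
    (r : ℕ) (hr : P.aug e = r + 1) (j : ℕ) :
    P.aug (KRR.sigma j e) = ((r + j).choose j : ℤ) := by
  have hm : (P.aug e).toNat = r + 1 := by rw [hr]; rfl
  have h1 : PowerSeries.map P.aug (KRR.sigmaSeries e) * (1 - X) ^ (r + 1) = 1 := by
    rw [← hm, ← map_aug_lamNeg hK e he, ← map_mul, mul_comm, lamNeg_mul_sigmaSeries, map_one]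
  have h2 : ((invOneSubPow ℤ (r + 1)).val) * (1 - X) ^ (r + 1) = 1 :=
    (invOneSubPow ℤ (r + 1)).val_inv
  have hu : IsUnit ((1 - X : ℤ⟦X⟧) ^ (r + 1)) := by
    rw [PowerSeries.isUnit_iff_constantCoeff]; simp
  have h3 : PowerSeries.map P.aug (KRR.sigmaSeries e) = (invOneSubPow ℤ (r + 1)).val :=
    hu.mul_left_injective (h1.trans h2.symm)
  rw [KRR.sigma, ← coeff_map, h3, invOneSubPow_val_succ_eq_mk_add_choose, coeff_mk]
  rw [Nat.choose_symm_add]


end


theorem sum_choose_identity (r : ℕ) :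
    ∑ i ∈ range (r + 1), (-1 : ℤ) ^ (r - i) * (r.choose i : ℤ) * ((r + i).choose i : ℤ) = 1 := by
  have h1 : (1 - X : ℤ⟦X⟧) ^ r * (invOneSubPow ℤ (r + 1)).val = PowerSeries.mk 1 := by
    have h2 : (invOneSubPow ℤ (r + 1)).val * (1 - X) ^ (r + 1) = 1 :=
      (invOneSubPow ℤ (r + 1)).val_inv
    have h3 : (PowerSeries.mk 1 : ℤ⟦X⟧) * (1 - X) = 1 := mk_one_mul_one_sub_eq_one ℤ
    calc (1 - X : ℤ⟦X⟧) ^ r * (invOneSubPow ℤ (r + 1)).val
        = (1 - X : ℤ⟦X⟧) ^ r * (invOneSubPow ℤ (r + 1)).val * (PowerSeries.mk 1 * (1 - X)) := by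
          rw [h3, mul_one]
      _ = ((invOneSubPow ℤ (r + 1)).val * (1 - X) ^ (r + 1)) * PowerSeries.mk 1 := by
          rw [pow_succ]; ring
      _ = PowerSeries.mk 1 := by rw [h2, one_mul]
  have h4 := congrArg (coeff r) h1
  rw [coeff_mul, Finset.Nat.sum_antidiagonal_eq_sum_range_succ_mk, coeff_mk, Pi.one_apply,
    ← sum_range_reflect] at h4
  refine Eq.trans ?_ h4
  refine sum_congr rfl fun i hi => ?_
  rw [mem_range] at hi
  simp only
  rw [coeff_one_sub_X_pow, invOneSubPow_val_succ_eq_mk_add_choose, coeff_mk]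
  have e1 : r + 1 - 1 - i = r - i := by omega
  have e2 : r - (r - i) = i := by omega
  rw [e1, e2, Nat.choose_symm (by omega : i ≤ r), Nat.choose_symm_add]


section
variable {K : Type u} [CommRing K] [LambdaOps K]

theorem aug_functional_root_sub_one_pow {P : PosStructure K} (hK : HasSplitting K P) (e : K)
    (he : e ∈ P.pos) (r : ℕ) (hr : P.aug e = r + 1)
    (f : AdjoinRoot (KRR.extPoly P e) →ₗ[K] K)
    (hf : ∀ i : ℕ, i ≤ r → f (AdjoinRoot.root (KRR.extPoly P e) ^ i) = KRR.sigma i e) :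
    P.aug (f ((AdjoinRoot.root (KRR.extPoly P e) - 1) ^ r)) = 1 := by
  rw [sub_eq_add_neg, add_pow, map_sum, map_sum]
  rw [← sum_choose_identity r]
  refine sum_congr rfl fun i hi => ?_
  rw [mem_range] at hi
  have : AdjoinRoot.root (KRR.extPoly P e) ^ i * (-1) ^ (r - i) * (r.choose i : AdjoinRoot _) =
      ((-1 : K) ^ (r - i) * (r.choose i : K)) • AdjoinRoot.root (KRR.extPoly P e) ^ i := by
    rw [Algebra.smul_def]; simp; ring
  rw [this, map_smul, hf i (by omega), smul_eq_mul, map_mul, map_mul, map_pow, map_neg, map_one,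
    map_natCast, aug_sigma_eq_choose hK e he r hr]

end


end Groth.Agent.Lib.Helper4
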