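import Groth.Agent.Lib.Helper4LambdaBott
import Groth.Agent.Lib.Helper4LambdaInv
import Groth.Agent.Lib.Helper4LambdaSigma
import Groth.Agent.Lib.Helper11ARRCore

/-!
# λ-ring lemmas for Adams–Riemann–Roch on the elementary extension (helper11)

* `lamSeries_line_mul`: `λ_t(u x) = λ_{ut}(x)` for `u` a line element, `x` in the span of lines.
* `lam_inv_of_mem_lineSpan`: the inverse `v` of a line element, if in the span of lines, has
  `λ^i(v) = 0` for `i ≥ 2`.
* `inv_mem_lineSpan`: if `F^N = 0` the inverse of a line element is in the span of lines.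
* `lam_sum_linelike`, `map_bott_of_sum`: Bott class of a sum of line-like elements.
-/

universe u
namespace Groth.Agent.Lib.Helper11.ARRLam
open PowerSeries LambdaRing Finset Groth.Agent.Lib.Helper4

variable {K : Type u} [CommRing K] [LambdaOps K]

theorem lamSeries_line_mul (P : PosStructure K) {u : K} (hu : P.IsLine u) {x : K}
    (hx : x ∈ lineSpan P) : lamSeries (u * x) = rescale u (lamSeries x) := by
  induction hx using AddSubgroup.closure_induction with
  | mem v hv =>
    rw [lamSeries_of_isLine P _ (isLine_mul P hu hv), lamSeries_of_isLine P v hv]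
    ext n
    rw [coeff_rescale]
    simp only [map_add, coeff_one, coeff_C_mul, coeff_X]
    by_cases h0 : n = 0
    · subst h0; simp
    · by_cases h1 : n = 1
      · subst h1; simp
      · simp [h0, h1]
  | zero => rw [mul_zero, lamSeries_zero, map_one]
  | add x y _ _ hx hy => rw [mul_add, lamSeries_add, lamSeries_add, map_mul, hx, hy]
  | neg x _ hx =>
    rw [mul_neg]
    have h1 : lamSeries (-(u * x)) * rescale u (lamSeries x) = 1 := by
      rw [← hx]; exact lamSeries_neg_mul _
    have h2 : rescale u (lamSeries (-x)) * rescale u (lamSeries x) = 1 := by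
      rw [← map_mul, lamSeries_neg_mul, map_one]
    calc lamSeries (-(u * x)) = lamSeries (-(u * x)) *
          (rescale u (lamSeries x) * rescale u (lamSeries (-x))) := by
          rw [mul_comm (rescale u (lamSeries x)), h2, mul_one]
      _ = rescale u (lamSeries (-x)) := by rw [← mul_assoc, h1, one_mul]

theorem lam_line_mul (P : PosStructure K) {u : K} (hu : P.IsLine u) {x : K}
    (hx : x ∈ lineSpan P) (i : ℕ) : LambdaOps.lam i (u * x) = u ^ i * LambdaOps.lam i x := by
  rw [← coeff_lamSeries, lamSeries_line_mul P hu hx, coeff_rescale, coeff_lamSeries]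

/-- the inverse of a line element, when in the span of the line elements, is line-like. -/
theorem lam_inv_of_mem_lineSpan (P : PosStructure K) {u v : K} (hu : P.IsLine u)
    (hv : v ∈ lineSpan P) (huv : v * u = 1) (i : ℕ) (hi : 2 ≤ i) : LambdaOps.lam i v = 0 := by
  have h1 := lam_line_mul P hu hv i
  rw [mul_comm u v, huv, lam_one_eq_zero P i hi] at h1
  have h2 : IsUnit (u ^ i) := (IsUnit.of_mul_eq_one _ (by rw [mul_comm]; exact huv)).pow i
  exact (h2.mul_right_eq_zero).1 h1.symm

theorem pow_mem_lineSpan (P : PosStructure K) {x : K} (hx : x ∈ lineSpan P) (n : ℕ) :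
    x ^ n ∈ lineSpan P := by
  induction n with
  | zero => rw [pow_zero]; exact one_mem_lineSpan P
  | succ n ih => rw [pow_succ]; exact mul_mem_lineSpan P ih hx

/-- if `F^N = 0`, then `1 - u` is nilpotent for `u` a line element. -/
theorem one_sub_line_pow_eq_zero (P : PosStructure K) {N : ℕ} (hN : gammaFiltration P N = ⊥)
    {u : K} (hu : P.IsLine u) : (1 - u) ^ N = 0 := by
  have h1 : (1 - u) ∈ gammaFiltration P 1 :=
    mem_gammaFiltration_one P _ (by rw [map_sub, map_one, hu.2, sub_self])
  have h2 := pow_mem_gammaFiltration P h1 N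
  rw [one_mul, hN] at h2
  exact (AddSubgroup.mem_bot).1 h2

theorem inv_mem_lineSpan (P : PosStructure K) {N : ℕ} (hN : gammaFiltration P N = ⊥)
    {u v : K} (hu : P.IsLine u) (huv : v * u = 1) : v ∈ lineSpan P := by
  have h1 : u * ∑ k ∈ range N, (1 - u) ^ k = 1 := by
    have := mul_neg_geom_sum (1 - u) N
    rw [one_sub_line_pow_eq_zero P hN hu, sub_zero, sub_sub_cancel] at this
    exact this
  have h2 : v = ∑ k ∈ range N, (1 - u) ^ k := by
    calc v = v * (u * ∑ k ∈ range N, (1 - u) ^ k) := by rw [h1, mul_one]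
      _ = ∑ k ∈ range N, (1 - u) ^ k := by rw [← mul_assoc, huv, one_mul]
  rw [h2]
  refine AddSubgroup.sum_mem _ fun k _ => pow_mem_lineSpan P ?_ k
  exact AddSubgroup.sub_mem _ (one_mem_lineSpan P) (AddSubgroup.subset_closure hu)

/-- `λ^i` of a sum of line-like elements. -/
theorem lam_sum_linelike {n : ℕ} (x : Fin n → K)
    (hx : ∀ k, ∀ i : ℕ, 2 ≤ i → LambdaOps.lam i (x k) = 0) (i : ℕ) :
    LambdaOps.lam i (∑ k, x k) = ∑ t ∈ (univ : Finset (Fin n)).powersetCard i, ∏ k ∈ t, x k := by
  classical
  rw [← coeff_lamSeries, lamSeries_sum,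
    prod_congr rfl (fun k _ => lamSeries_of_lam_eq_zero (x k) (hx k)), coeff_prod_one_add_C_mul_X]

/-- the defining property of `bottPoly`, evaluated in any commutative ring. -/
theorem aeval_bottPoly {A : Type*} [CommRing A] (j n : ℕ) (x : Fin n → A) :
    MvPolynomial.aeval
      (fun i : Fin n => ∑ t ∈ (univ : Finset (Fin n)).powersetCard (i.1 + 1), ∏ k ∈ t, x k)
      (KRR.bottPoly j n) = ∏ k, ∑ l ∈ range j, x k ^ l := by
  have e2 : (fun i : Fin n => ∑ t ∈ (univ : Finset (Fin n)).powersetCard (i.1 + 1), ∏ k ∈ t, x k) =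
      fun i : Fin n => MvPolynomial.aeval x (MvPolynomial.esymm (Fin n) ℤ (i.1 + 1)) := by
    funext i
    rw [aeval_esymm_eq]
  rw [e2, ← MvPolynomial.comp_aeval_apply (φ := MvPolynomial.aeval x), aeval_esymm_bottPoly,
    KRR.bottSym, map_prod]
  refine prod_congr rfl fun k _ => ?_
  rw [map_sum]
  refine sum_congr rfl fun l _ => ?_
  rw [map_pow, MvPolynomial.aeval_X]

/-- Vieta for the nodal polynomial. -/
theorem nodePoly_eq_sum {A : Type*} [CommRing A] {n : ℕ} (x : Fin n → A) :
    ARR.nodePoly x = ∑ i ∈ range (n + 1),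
      Polynomial.C ((-1 : A) ^ i * ∑ t ∈ (univ : Finset (Fin n)).powersetCard i, ∏ k ∈ t, x k) *
        Polynomial.X ^ (n - i) := by
  have h1 := Multiset.prod_X_sub_X_eq_sum_esymm ((univ : Finset (Fin n)).val.map x)
  rw [Multiset.map_map, Multiset.card_map] at h1
  have h2 : ((univ : Finset (Fin n)).val.map ((fun t => Polynomial.X - Polynomial.C t) ∘ x)).prod =
      ARR.nodePoly x := rfl
  rw [h2] at h1
  rw [h1]
  have h3 : Multiset.card (univ : Finset (Fin n)).val = n := by simp
  rw [h3]
  refine sum_congr rfl fun i _ => ?_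
  rw [Finset.esymm_map_val, map_mul, map_pow, map_neg, map_one, mul_assoc]

/-- expansion in the basis `c^k` (`c = root⁻¹`) of `AdjoinRoot p`, `p` monic of degree `r + 1`. -/
theorem exists_expand {A : Type*} [CommRing A] {p : Polynomial A} (hp : p.Monic) {r : ℕ}
    (hdeg : p.natDegree = r + 1) {c : AdjoinRoot p} (hc : c * AdjoinRoot.root p = 1)
    (z : AdjoinRoot p) :
    ∃ a : ℕ → A, z = ∑ k ∈ range (r + 1), AdjoinRoot.of p (a k) * c ^ k := by
  set g := AdjoinRoot.modByMonicHom hp (z * AdjoinRoot.root p ^ r) with hg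
  have h1 : AdjoinRoot.mk p g = z * AdjoinRoot.root p ^ r := AdjoinRoot.mk_leftInverse hp _
  have h2 : g.natDegree < r + 1 := by
    have h3 : g = (g %ₘ p) := by
      have := AdjoinRoot.modByMonicHom_mk hp g
      rw [h1] at this
      exact this
    rw [h3]
    have := Polynomial.natDegree_modByMonic_lt g hp (by
      intro h4
      rw [h4] at hdeg
      simp at hdeg)
    rwa [hdeg] at this
  have h3 : z = z * AdjoinRoot.root p ^ r * c ^ r := by
    rw [mul_assoc, ← mul_pow, mul_comm _ c, hc, one_pow, mul_one]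
  refine ⟨fun k => g.coeff (r - k), ?_⟩
  rw [h3, ← h1]
  conv_lhs => rw [g.as_sum_range' (r + 1) h2]
  rw [map_sum, sum_mul, ← sum_range_reflect]
  refine sum_congr rfl fun i hi => ?_
  rw [mem_range] at hi
  have e1 : r + 1 - 1 - i = r - i := by omega
  rw [e1, ← Polynomial.C_mul_X_pow_eq_monomial, map_mul, AdjoinRoot.mk_C, map_pow, AdjoinRoot.mk_X,
    mul_assoc]
  congr 1
  have hd : c ^ r = c ^ (r - i) * c ^ i := by rw [← pow_add]; congr 1; omega
  rw [hd, ← mul_assoc, ← mul_pow, mul_comm _ c, hc, one_pow, one_mul]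

end Groth.Agent.Lib.Helper11.ARRLam
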