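import Mathlib

set_option autoImplicit false
universe u

open Polynomial

namespace Groth.Agent.Lib.Helper11ASAlg

variable (p : ℕ) [Fact p.Prime]

lemma nodal_univ : Lagrange.nodal (Finset.univ : Finset (ZMod p)) id = X ^ p - X := by
  have hmon : (X ^ p - X : (ZMod p)[X]).Monic := by
    apply monic_X_pow_sub
    rw [degree_X]
    exact_mod_cast (Fact.out : p.Prime).one_lt
  have hroots : (X ^ p - X : (ZMod p)[X]).roots = Finset.univ.val := by
    have := FiniteField.roots_X_pow_card_sub_X (ZMod p)
    rwa [ZMod.card] at this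
  have hcard : Multiset.card (X ^ p - X : (ZMod p)[X]).roots = (X ^ p - X : (ZMod p)[X]).natDegree := by
    rw [hroots, FiniteField.X_pow_card_sub_X_natDegree_eq (ZMod p) (Fact.out : p.Prime).one_lt]
    simp
  have h := prod_multiset_X_sub_C_of_monic_of_roots_card_eq hmon hcard
  rw [hroots] at h
  rw [Lagrange.nodal_eq, ← h]
  rfl

/-- the Lagrange idempotents of an element `a` with `a ^ p = a` -/
noncomputable def idem {R : Type*} [CommRing R] (ψ : ZMod p →+* R) (a : R) (m : ZMod p) : R :=
  eval₂ ψ a (Lagrange.basis Finset.univ id m)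

lemma sum_idem {R : Type*} [CommRing R] (ψ : ZMod p →+* R) (a : R) :
    ∑ m, idem p ψ a m = 1 := by
  unfold idem
  rw [← eval₂_finsetSum, Lagrange.sum_basis (Set.injOn_id _) Finset.univ_nonempty, eval₂_one]

lemma sub_mul_idem {R : Type*} [CommRing R] (ψ : ZMod p →+* R) (a : R) (ha : a ^ p = a)
    (m : ZMod p) : (a - ψ m) * idem p ψ a m = 0 := by
  unfold idem
  have h1 : (X - C m) * Lagrange.basis Finset.univ id m =
      C (Lagrange.nodalWeight Finset.univ id m) * (X ^ p - X) := by
    rw [Lagrange.basis_eq_prod_sub_inv_mul_nodal_div (Finset.mem_univ m),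
      ← Lagrange.nodal_erase_eq_nodal_div (Finset.mem_univ m), ← nodal_univ,
      Lagrange.nodal_eq_mul_nodal_erase (Finset.mem_univ m)]
    simp only [id]
    ring
  have h2 := congrArg (eval₂ ψ a) h1
  rw [eval₂_mul, eval₂_sub, eval₂_X, eval₂_C, eval₂_mul, eval₂_sub, eval₂_pow, eval₂_X, ha,
    sub_self, mul_zero] at h2
  exact h2

end Groth.Agent.Lib.Helper11ASAlg
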