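import Mathlib

namespace Groth.Agent.Lib.Helper11ASCover

open PowerSeries

universe u

section Basic

variable {k : Type u} [Field k] {n : ℕ} {u : PowerSeries k}

/-- `u ≡ 1 - X^n / n` modulo `X^(n+1)` -/
theorem u_eq (hnk : (n : k) ≠ 0) (hu1 : constantCoeff u = 1)
    (hun : u ^ n * (1 + X ^ n) = 1) :
    ∃ r : PowerSeries k, u = 1 + X ^ n * r ∧ constantCoeff r = -(n : k)⁻¹ := by
  set ε : PowerSeries k := ∑ i ∈ Finset.range n, u ^ i with hε
  have h1 : (u - 1) * ε = u ^ n - 1 := mul_geom_sum u n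
  have hε0 : constantCoeff ε = (n : k) := by
    rw [hε, map_sum]
    simp [hu1]
  have h2 : u ^ n - 1 = -(u ^ n * X ^ n) := by
    have : u ^ n - 1 = u ^ n - u ^ n * (1 + X ^ n) := by rw [hun]
    rw [this]; ring
  have hεinv : ε * ε⁻¹ = 1 := PowerSeries.mul_inv_cancel ε (by rw [hε0]; exact hnk)
  refine ⟨-(u ^ n * ε⁻¹), ?_, ?_⟩
  · have h3 : u - 1 = (u - 1) * ε * ε⁻¹ := by rw [mul_assoc, hεinv, mul_one]
    have h5 : u - 1 = -(u ^ n * X ^ n) * ε⁻¹ := by
      calc u - 1 = (u - 1) * ε * ε⁻¹ := h3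
        _ = -(u ^ n * X ^ n) * ε⁻¹ := by rw [h1, h2]
    linear_combination h5
  · rw [map_neg, map_mul, map_pow, hu1, one_pow, one_mul, PowerSeries.constantCoeff_inv, hε0]

/-- the class of series `≡ 1 + c X^n` modulo `X^(n+1)` -/
def IsOne (n : ℕ) (c : k) (f : PowerSeries k) : Prop :=
  ∃ s : PowerSeries k, f = 1 + X ^ n * s ∧ constantCoeff s = c

theorem IsOne.one (n : ℕ) : IsOne n (0 : k) 1 := ⟨0, by simp, by simp⟩

theorem IsOne.mul (hn : 0 < n) {c d : k} {f g : PowerSeries k} (hf : IsOne n c f)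
    (hg : IsOne n d g) : IsOne n (c + d) (f * g) := by
  obtain ⟨s, rfl, hs⟩ := hf
  obtain ⟨t, rfl, ht⟩ := hg
  refine ⟨s + t + X ^ n * s * t, by ring, ?_⟩
  rw [map_add, map_add, map_mul, map_mul, map_pow, constantCoeff_X, zero_pow hn.ne', zero_mul,
    zero_mul, add_zero, hs, ht]

theorem IsOne.inv (hn : 0 < n) {c : k} {f g : PowerSeries k} (hf : IsOne n c f) (hfg : f * g = 1) :
    IsOne n (-c) g := by
  obtain ⟨s, rfl, hs⟩ := hf
  refine ⟨-(s * g), ?_, ?_⟩
  · linear_combination hfg
  · have hg0 : constantCoeff g = 1 := by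
      have := congrArg constantCoeff hfg
      rw [map_mul, map_add, map_one, map_mul, map_pow, constantCoeff_X] at this
      rw [zero_pow hn.ne', zero_mul, add_zero, one_mul] at this
      exact this
    rw [map_neg, map_mul, hs, hg0, mul_one]

theorem isOne_u (hnk : (n : k) ≠ 0) (hu1 : constantCoeff u = 1)
    (hun : u ^ n * (1 + X ^ n) = 1) : IsOne n (-(n : k)⁻¹) u := by
  obtain ⟨r, h1, h2⟩ := u_eq hnk hu1 hun
  exact ⟨r, h1, h2⟩

theorem isOne_zpow (hn : 0 < n) (hnk : (n : k) ≠ 0) (hu1 : constantCoeff u = 1)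
    (hun : u ^ n * (1 + X ^ n) = 1) (hu : IsUnit u) (e : ℤ) :
    IsOne n (-(e : k) / (n : k)) ((hu.unit ^ e : (PowerSeries k)ˣ) : PowerSeries k) := by
  have hU := isOne_u hnk hu1 hun
  have hUinv : IsOne n (-(-(n : k)⁻¹)) ((hu.unit⁻¹ : (PowerSeries k)ˣ) : PowerSeries k) := by
    apply IsOne.inv hn hU
    have := hu.unit.mul_inv
    simpa using this
  induction e using Int.induction_on with
  | zero =>
    have : -((0 : ℤ) : k) / (n : k) = 0 := by simp
    rw [this, zpow_zero, Units.val_one]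
    exact IsOne.one n
  | succ i ih =>
    rw [zpow_add_one, Units.val_mul]
    have : -(((i : ℤ) + 1 : ℤ) : k) / (n : k) = -((i : ℤ) : k) / (n : k) + -(n : k)⁻¹ := by
      push_cast; field_simp; ring
    rw [this]
    exact IsOne.mul hn ih hU
  | pred i ih =>
    rw [zpow_sub_one, Units.val_mul]
    have : -((-(i : ℤ) - 1 : ℤ) : k) / (n : k) = -((-(i : ℤ) : ℤ) : k) / (n : k) + -(-(n : k)⁻¹) := by
      push_cast; field_simp; ring
    rw [this]
    exact IsOne.mul hn ih hUinv

theorem hasSubst_Xu (u : PowerSeries k) : HasSubst (X * u : PowerSeries k) :=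
  HasSubst.of_constantCoeff_zero' (by simp)

/-- substituting `X u` changes a series only modulo `X^(n+1)` -/
theorem subst_congr {c : k} (hU : IsOne n c u) (f : PowerSeries k) :
    ∃ q : PowerSeries k, subst (X * u) f = f + X ^ (n + 1) * q := by
  have ha := hasSubst_Xu u
  obtain ⟨s, hs, -⟩ := hU
  set N := n + 1 with hN
  set P := trunc N f with hP
  set f' : PowerSeries k := mk fun i => coeff (i + N) f with hf'
  have hf : f = X ^ N * f' + (P : PowerSeries k) := eq_X_pow_mul_shift_add_trunc N f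
  have hXa : (X * u : PowerSeries k) - X = X ^ N * s := by
    rw [hs, hN, pow_succ]; ring
  have hP1 : subst (X * u) (P : PowerSeries k) = Polynomial.aeval (X * u : PowerSeries k) P :=
    subst_coe ha P
  have hP2 : (P : PowerSeries k) = Polynomial.aeval (X : PowerSeries k) P := by
    have h1 : subst (X : PowerSeries k) (P : PowerSeries k) = Polynomial.aeval (X : PowerSeries k) P :=
      subst_coe (HasSubst.of_constantCoeff_zero' (by simp)) P
    rw [← h1, X_subst]
  obtain ⟨q1, hq1⟩ : (X * u : PowerSeries k) - X ∣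
      Polynomial.aeval (X * u : PowerSeries k) P - Polynomial.aeval (X : PowerSeries k) P := by
    rw [← Polynomial.eval_map_algebraMap, ← Polynomial.eval_map_algebraMap]
    exact Polynomial.sub_dvd_eval_sub _ _ _
  refine ⟨u ^ N * subst (X * u) f' - f' + s * q1, ?_⟩
  have h1 : subst (X * u) f = (X * u) ^ N * subst (X * u) f' + subst (X * u) (P : PowerSeries k) := by
    conv_lhs => rw [hf]
    rw [subst_add ha, subst_mul ha, subst_pow ha, subst_X ha]
  rw [h1, hP1]
  have h2 : Polynomial.aeval (X * u : PowerSeries k) P =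
      Polynomial.aeval (X : PowerSeries k) P + X ^ N * s * q1 := by
    rw [← hXa, ← hq1]; ring
  rw [h2, ← hP2]
  conv_rhs => rw [hf]
  ring

/-- a series with nonzero constant term fixed by the `e`-twisted action forces `e = 0` in `k` -/
theorem fixed_exponent (hn : 0 < n) (hnk : (n : k) ≠ 0) (hu1 : constantCoeff u = 1)
    (hun : u ^ n * (1 + X ^ n) = 1) (hu : IsUnit u) (e : ℤ) (G : PowerSeries k)
    (hG0 : constantCoeff G ≠ 0)
    (hfix : ((hu.unit ^ e : (PowerSeries k)ˣ) : PowerSeries k) * subst (X * u) G = G) :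
    (e : k) = 0 := by
  obtain ⟨s, hs, hs0⟩ := isOne_zpow hn hnk hu1 hun hu e
  obtain ⟨q, hq⟩ := subst_congr (isOne_u hnk hu1 hun) G
  rw [hs, hq] at hfix
  have h1 : X ^ n * (s * G + X * q + X ^ (n + 1) * s * q) = 0 := by
    linear_combination hfix
  have h2 : s * G + X * q + X ^ (n + 1) * s * q = 0 := by
    rcases mul_eq_zero.mp h1 with h | h
    · exact absurd h (pow_ne_zero _ X_ne_zero)
    · exact h
  have h3 := congrArg constantCoeff h2
  simp only [map_add, map_mul, map_pow, constantCoeff_X, zero_mul, add_zero, map_zero,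
    zero_pow (Nat.succ_ne_zero n)] at h3
  rcases mul_eq_zero.mp h3 with h | h
  · rw [hs0, div_eq_zero_iff] at h
    rcases h with h | h
    · exact neg_eq_zero.mp h
    · exact absurd h hnk
  · exact absurd h hG0

end Basic

end Groth.Agent.Lib.Helper11ASCover
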