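import Mathlib
import Groth.Agent.Lib.Helper11ASCover

namespace Groth.Agent.Lib.Helper11ASCover

open PowerSeries

universe u

section Roots

variable {k : Type u} [Field k] {n : ℕ}

/-- uniqueness of `n`-th roots with constant term one -/
theorem root_unique (hnk : (n : k) ≠ 0) {x y : PowerSeries k} (hx : constantCoeff x = 1)
    (hy : constantCoeff y = 1) (hxy : x ^ n = y ^ n) : x = y := by
  have h1 : (∑ i ∈ Finset.range n, x ^ i * y ^ (n - 1 - i)) * (x - y) = x ^ n - y ^ n :=
    (Commute.all x y).geom_sum₂_mul n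
  rw [hxy, sub_self] at h1
  have h2 : constantCoeff (∑ i ∈ Finset.range n, x ^ i * y ^ (n - 1 - i)) = (n : k) := by
    rw [map_sum]
    simp [hx, hy]
  rcases mul_eq_zero.mp h1 with h | h
  · rw [h, map_zero] at h2
    exact absurd h2.symm hnk
  · exact sub_eq_zero.mp h

theorem charP_ps (p : ℕ) [CharP k p] : CharP (PowerSeries k) p :=
  charP_of_injective_algebraMap (algebraMap k (PowerSeries k)).injective p

/-- the key polynomial identity -/
theorem key_identity (p : ℕ) [hp : Fact p.Prime] [CharP k p] {T v : PowerSeries k}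
    (hv : v * (1 + T) = 1) : v ^ p * (1 - T ^ (p - 1)) = 1 - (T * v) ^ (p - 1) := by
  haveI := charP_ps (k := k) p
  have hp1 : p - 1 + 1 = p := Nat.sub_add_cancel hp.out.one_le
  have h1T : (1 + T) ^ p ≠ 0 := by
    apply pow_ne_zero
    intro h0
    rw [h0, mul_zero] at hv
    exact zero_ne_one hv
  apply mul_right_cancel₀ h1T
  have e1 : v ^ p * (1 - T ^ (p - 1)) * (1 + T) ^ p = 1 - T ^ (p - 1) := by
    have : v ^ p * (1 - T ^ (p - 1)) * (1 + T) ^ p = (v * (1 + T)) ^ p * (1 - T ^ (p - 1)) := by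
      rw [mul_pow]; ring
    rw [this, hv, one_pow, one_mul]
  have e2 : (1 - (T * v) ^ (p - 1)) * (1 + T) ^ p = 1 - T ^ (p - 1) := by
    have h3 : (1 + T) ^ p = 1 + T ^ p := by rw [add_pow_char, one_pow]
    have h4 : (T * v) ^ (p - 1) * (1 + T) ^ p = T ^ (p - 1) * (1 + T) := by
      conv_lhs => rw [← hp1, pow_succ (1 + T), Nat.add_sub_cancel]
      rw [mul_pow, ← mul_assoc, mul_assoc (T ^ (p - 1)), ← mul_pow, hv, one_pow, mul_one]
    rw [sub_mul, one_mul, h4, h3, mul_add, mul_one, ← pow_succ, hp1]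
    ring
  rw [e1, e2]

end Roots

section W

variable {k : Type u} [Field k] {n : ℕ} {u : PowerSeries k}

theorem IsOne.zpow {N : ℕ} (hN : 0 < N) {c : k} {w : (PowerSeries k)ˣ}
    (hw : IsOne N c (w : PowerSeries k)) (e : ℤ) :
    IsOne N ((e : k) * c) ((w ^ e : (PowerSeries k)ˣ) : PowerSeries k) := by
  have hwinv : IsOne N (-c) ((w⁻¹ : (PowerSeries k)ˣ) : PowerSeries k) := by
    apply IsOne.inv hN hw
    simp
  induction e using Int.induction_on with
  | zero =>
    have : ((0 : ℤ) : k) * c = 0 := by simp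
    rw [this, zpow_zero, Units.val_one]
    exact IsOne.one N
  | succ i ih =>
    rw [zpow_add_one, Units.val_mul]
    have : (((i : ℤ) + 1 : ℤ) : k) * c = ((i : ℤ) : k) * c + c := by push_cast; ring
    rw [this]
    exact IsOne.mul hN ih hw
  | pred i ih =>
    rw [zpow_sub_one, Units.val_mul]
    have : ((-(i : ℤ) - 1 : ℤ) : k) * c = ((-(i : ℤ) : ℤ) : k) * c + -c := by push_cast; ring
    rw [this]
    exact IsOne.mul hN ih hwinv

theorem hasSubst_b (p : ℕ) (hp : 2 ≤ p) (ω : k) : HasSubst (C ω * X ^ (p - 1) : PowerSeries k) :=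
  HasSubst.of_constantCoeff_zero' (by
    rw [map_mul, map_pow, constantCoeff_X, zero_pow (by omega), mul_zero])

variable (p : ℕ) [hp : Fact p.Prime] [CharP k p]

/-- the series `W = (1 - X^(n(p-1)))^(-1/n)` and its properties -/
theorem exists_W [IsAlgClosed k] (hn : 0 < n) (hnk : (n : k) ≠ 0) (hu1 : constantCoeff u = 1)
    (hun : u ^ n * (1 + X ^ n) = 1) :
    ∃ W : PowerSeries k, (∃ s, W = 1 + X ^ ((p - 1) * n) * s) ∧
      u ^ p * subst (X * u) W = W := by
  have hp2 : 2 ≤ p := hp.out.two_le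
  obtain ⟨ω, hω⟩ := IsAlgClosed.exists_pow_nat_eq (-1 : k) hn
  have hb := hasSubst_b p hp2 ω
  have ha := hasSubst_Xu u
  set b : PowerSeries k := C ω * X ^ (p - 1) with hbdef
  have hbn : b ^ n = -X ^ ((p - 1) * n) := by
    rw [hbdef, mul_pow, ← map_pow, hω, ← pow_mul, map_neg, map_one]; ring
  set W := subst b u with hW
  -- W^n (1 - X^N) = 1
  have hW1 : W ^ n * (1 - X ^ ((p - 1) * n)) = 1 := by
    have := congrArg (substAlgHom hb) hun
    simp only [map_mul, map_pow, map_add, map_one, substAlgHom_X, coe_substAlgHom] at this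
    rw [hbn] at this
    rw [hW]
    linear_combination this
  -- W ≡ 1
  obtain ⟨r, hr, -⟩ := u_eq hnk hu1 hun
  have hW2 : W = 1 + X ^ ((p - 1) * n) * (-subst b r) := by
    have := congrArg (substAlgHom hb) hr
    simp only [map_mul, map_pow, map_add, map_one, substAlgHom_X, coe_substAlgHom] at this
    rw [hbn] at this
    rw [hW, this]; ring
  have hN : 0 < (p - 1) * n := Nat.mul_pos (by omega) hn
  have hW0 : constantCoeff W = 1 := by
    rw [hW2, map_add, map_one, map_mul, map_pow, constantCoeff_X, zero_pow hN.ne', zero_mul, add_zero]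
  refine ⟨W, ⟨_, hW2⟩, ?_⟩
  -- the functional equation
  have hσW : subst (X * u) W = 1 + (X * u) ^ ((p - 1) * n) * subst (X * u) (-subst b r) := by
    have := congrArg (substAlgHom ha) hW2
    simpa only [map_mul, map_pow, map_add, map_one, substAlgHom_X, coe_substAlgHom] using this
  have hσW0 : constantCoeff (subst (X * u) W) = 1 := by
    rw [hσW, map_add, map_one, map_mul, map_pow, map_mul, constantCoeff_X, zero_mul,
      zero_pow hN.ne', zero_mul, add_zero]
  have hσW1 : subst (X * u) W ^ n * (1 - (X * u) ^ ((p - 1) * n)) = 1 := by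
    have := congrArg (substAlgHom ha) hW1
    simpa only [map_mul, map_pow, map_sub, map_one, substAlgHom_X, coe_substAlgHom] using this
  have hkey := key_identity p (T := X ^ n) (v := u ^ n) hun
  have hT : ((X : PowerSeries k) ^ n) ^ (p - 1) = X ^ ((p - 1) * n) := by
    rw [← pow_mul, mul_comm]
  have hTv : ((X : PowerSeries k) ^ n * u ^ n) ^ (p - 1) = (X * u) ^ ((p - 1) * n) := by
    rw [← mul_pow, ← pow_mul, mul_comm n]
  rw [hT, hTv] at hkey
  apply root_unique hnk
  · rw [map_mul, map_pow, hu1, one_pow, one_mul, hσW0]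
  · exact hW0
  · have hD : (1 - (X * u) ^ ((p - 1) * n) : PowerSeries k) ≠ 0 := by
      intro h0
      have := congrArg constantCoeff h0
      rw [map_sub, map_one, map_pow, map_mul, constantCoeff_X, zero_mul, zero_pow hN.ne', sub_zero,
        map_zero] at this
      exact one_ne_zero this
    apply mul_right_cancel₀ hD
    have e1 : (u ^ p * subst (X * u) W) ^ n * (1 - (X * u) ^ ((p - 1) * n)) = (u ^ n) ^ p := by
      rw [mul_pow, mul_assoc, hσW1, mul_one, ← pow_mul, ← pow_mul, mul_comm]
    have e2 : W ^ n * (1 - (X * u) ^ ((p - 1) * n)) = (u ^ n) ^ p := by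
      rw [← hkey, ← mul_assoc, mul_comm (W ^ n), mul_assoc, hW1, mul_one]
    rw [e1, e2]

end W

end Groth.Agent.Lib.Helper11ASCover
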