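import Mathlib
import Groth.Prelude.Def_Grpd

/-!
# A groupoid scheme from an equivalence relation with chosen structure maps (helper11)

If `(t, s) : R ⟶ U × U` is jointly monic on `T`-points, then any choice of maps `e`, `i`, `c`
compatible with source and target satisfies the groupoid axioms automatically.
-/

set_option autoImplicit false
set_option linter.style.haveILetI false
set_option linter.unusedSectionVars false
universe u

open CategoryTheory CategoryTheory.Limits AlgebraicGeometry

namespace Groth.Agent.Lib.Helper11.EqvGrpd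

variable {S U R : Scheme.{u}} (pU : U ⟶ S) (s t : R ⟶ U) (hst : t ≫ pU = s ≫ pU)
  (jm : ∀ {Z : Scheme.{u}} (a b : Z ⟶ R), a ≫ t = b ≫ t → a ≫ s = b ≫ s → a = b)
  (e : U ⟶ R) (he_s : e ≫ s = 𝟙 U) (he_t : e ≫ t = 𝟙 U)
  (i : R ⟶ R) (hi_s : i ≫ s = t) (hi_t : i ≫ t = s)
  (c : pullback s t ⟶ R) (hc_s : c ≫ s = pullback.snd s t ≫ s)
  (hc_t : c ≫ t = pullback.fst s t ≫ t)

include hc_s in
theorem lift_c_s {T : Scheme.{u}} (α β : T ⟶ R) (h : α ≫ s = β ≫ t) :
    (pullback.lift α β h ≫ c) ≫ s = β ≫ s := by
  rw [Category.assoc, hc_s, ← Category.assoc, pullback.lift_snd]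

include hc_t in
theorem lift_c_t {T : Scheme.{u}} (α β : T ⟶ R) (h : α ≫ s = β ≫ t) :
    (pullback.lift α β h ≫ c) ≫ t = α ≫ t := by
  rw [Category.assoc, hc_t, ← Category.assoc, pullback.lift_fst]

/-- the groupoid scheme of an equivalence relation. -/
noncomputable def mk : Grpd.GroupoidScheme S where
  U := U
  R := R
  pU := pU
  pR := s ≫ pU
  s := s
  t := t
  e := e
  i := i
  c := c
  s_over := rfl
  t_over := hst
  comp_s := fun α β h => lift_c_s s t c hc_s α β h
  comp_t := fun α β h => lift_c_t s t c hc_t α β h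
  assoc := fun α β γ h₁ h₂ => by
    apply jm
    · rw [lift_c_t s t c hc_t, lift_c_t s t c hc_t, lift_c_t s t c hc_t]
    · rw [lift_c_s s t c hc_s, lift_c_s s t c hc_s, lift_c_s s t c hc_s]
  e_s := he_s
  e_t := he_t
  comp_e := fun α => by
    apply jm
    · rw [lift_c_t s t c hc_t]
    · rw [lift_c_s s t c hc_s, Category.assoc, Category.assoc, he_s, Category.comp_id]
  e_comp := fun α => by
    apply jm
    · rw [lift_c_t s t c hc_t, Category.assoc, Category.assoc, he_t, Category.comp_id]
    · rw [lift_c_s s t c hc_s]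
  i_s := hi_s
  i_t := hi_t
  comp_i := fun α => by
    apply jm
    · rw [lift_c_t s t c hc_t, Category.assoc, Category.assoc, he_t, Category.comp_id]
    · rw [lift_c_s s t c hc_s, Category.assoc, hi_s, Category.assoc, Category.assoc, he_s,
        Category.comp_id]
  i_comp := fun α => by
    apply jm
    · rw [lift_c_t s t c hc_t, Category.assoc, hi_t, Category.assoc, Category.assoc, he_t,
        Category.comp_id]
    · rw [lift_c_s s t c hc_s, Category.assoc, Category.assoc, he_s, Category.comp_id]

end Groth.Agent.Lib.Helper11.EqvGrpd
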