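import Groth.Prelude.Def_AlgGrp

set_option autoImplicit false
universe u

open CategoryTheory MonoidalCategory CartesianMonoidalCategory MonObj AlgebraicGeometry

namespace Groth.Agent.Lib.Helper12

variable {S : Scheme.{u}} {G X : Over S} [GrpObj G] (a : AlgGrp.Action G X)

/-- point form of the unit axiom of an action. -/
lemma act_one {T : Over S} (x : T ⟶ X) : lift (1 : T ⟶ G) x ≫ a.act = x := by
  have h : lift (1 : T ⟶ G) x = lift (toUnit T) x ≫ (η[G] ▷ X) := by
    apply CartesianMonoidalCategory.hom_ext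
    · simp [Hom.one_def]
    · simp
  rw [h, Category.assoc, a.one_act]
  simp

/-- point form of the associativity axiom of an action. -/
lemma act_mul {T : Over S} (g h : T ⟶ G) (x : T ⟶ X) :
    lift (g * h) x ≫ a.act = lift g (lift h x ≫ a.act) ≫ a.act := by
  have h1 : lift (g * h) x = lift (lift g h) x ≫ (μ[G] ▷ X) := by
    apply CartesianMonoidalCategory.hom_ext
    · simp [Hom.mul_def]
    · simp
  have h2 : lift (lift g h) x ≫ (α_ G G X).hom ≫ (G ◁ a.act) = lift g (lift h x ≫ a.act) := by
    apply CartesianMonoidalCategory.hom_ext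
    · simp
    · simp
  rw [h1, Category.assoc, a.mul_act, ← h2]
  simp only [Category.assoc]

lemma comp_lift_act {T T' : Over S} (t : T' ⟶ T) (g : T ⟶ G) (x : T ⟶ X) :
    t ≫ lift g x ≫ a.act = lift (t ≫ g) (t ≫ x) ≫ a.act := by
  rw [← Category.assoc, comp_lift]

/-- the shear map `(g, x) ↦ (g, g • x)`. -/
noncomputable def shear : G ⊗ X ⟶ G ⊗ X := lift (fst G X) a.act

/-- the inverse shear map `(g, x) ↦ (g, g⁻¹ • x)`. -/
noncomputable def shearInv : G ⊗ X ⟶ G ⊗ X :=
  lift (fst G X) (lift (fst G X)⁻¹ (snd G X) ≫ a.act)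

lemma lift_inv_act_act : lift (fst G X)⁻¹ a.act ≫ a.act = snd G X := by
  have := act_mul a (fst G X)⁻¹ (fst G X) (snd G X)
  rw [inv_mul_cancel, act_one] at this
  simpa using this.symm

lemma lift_act_inv_act :
    lift (fst G X) (lift (fst G X)⁻¹ (snd G X) ≫ a.act) ≫ a.act = snd G X := by
  have := act_mul a (fst G X) (fst G X)⁻¹ (snd G X)
  rw [mul_inv_cancel, act_one] at this
  exact this.symm

lemma shear_shearInv : shear a ≫ shearInv a = 𝟙 _ := by
  apply CartesianMonoidalCategory.hom_ext
  · simp [shear, shearInv]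
  · rw [shearInv, Category.assoc, lift_snd, ← Category.assoc, comp_lift, GrpObj.comp_inv, shear,
      lift_fst, lift_snd, lift_inv_act_act]
    simp

lemma shearInv_shear : shearInv a ≫ shear a = 𝟙 _ := by
  apply CartesianMonoidalCategory.hom_ext
  · simp [shear, shearInv]
  · rw [shear, Category.assoc, lift_snd, shearInv, lift_act_inv_act]
    simp

/-- the shear map as an isomorphism. -/
noncomputable def shearIso : G ⊗ X ≅ G ⊗ X where
  hom := shear a
  inv := shearInv a
  hom_inv_id := shear_shearInv a
  inv_hom_id := shearInv_shear a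

lemma shear_snd : shear a ≫ snd G X = a.act := by simp [shear]

end Groth.Agent.Lib.Helper12
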