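import Mathlib
import Groth.Prelude
import Groth.Agent.Lib.Helper12Act
import Groth.Agent.Lib.Helper11EqvGrpd

/-!
# The groupoid scheme of a free action of a group scheme (helper11)
-/

set_option autoImplicit false
set_option linter.style.haveILetI false
set_option linter.unusedSectionVars false
universe u

open CategoryTheory CategoryTheory.Limits MonoidalCategory CartesianMonoidalCategory MonObj
  AlgebraicGeometry

namespace Groth.Agent.Lib.Helper11.ActGrpd

open Groth.Agent.Lib.Helper12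

variable {S : Scheme.{u}} {G X : Over S} [GrpObj G] (a : AlgGrp.Action G X)

/-- source: the projection. -/
noncomputable abbrev sA : (G ⊗ X).left ⟶ X.left := (snd G X).left

/-- target: the action. -/
noncomputable abbrev tA : (G ⊗ X).left ⟶ X.left := a.act.left

theorem sA_over : sA (G := G) (X := X) ≫ X.hom = (G ⊗ X).hom := Over.w (snd G X)

theorem tA_over : tA a ≫ X.hom = (G ⊗ X).hom := Over.w a.act

theorem hst : tA a ≫ X.hom = sA (G := G) (X := X) ≫ X.hom := (tA_over a).trans sA_over.symm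

/-- cancellation for an action. -/
theorem act_cancel {T : Over S} (g g' : T ⟶ G) (x : T ⟶ X)
    (h : lift g x ≫ a.act = lift g' x ≫ a.act) : lift (g'⁻¹ * g) x ≫ a.act = x := by
  rw [act_mul, h, ← act_mul, inv_mul_cancel, act_one]

section free

variable (hfree : ∀ (T : Over S) (g : T ⟶ G) (x : T ⟶ X), lift g x ≫ a.act = x →
  g = toUnit T ≫ η[G])

include hfree in
theorem jmA {Z : Scheme.{u}} (α β : Z ⟶ (G ⊗ X).left) (h1 : α ≫ tA a = β ≫ tA a)
    (h2 : α ≫ sA = β ≫ sA) : α = β := by
  have hβ : β ≫ (G ⊗ X).hom = α ≫ (G ⊗ X).hom := by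
    rw [← sA_over, ← Category.assoc, ← h2, Category.assoc]
  let T : Over S := Over.mk (α ≫ (G ⊗ X).hom)
  let α' : T ⟶ G ⊗ X := Over.homMk α rfl
  let β' : T ⟶ G ⊗ X := Over.homMk β hβ
  have hx : α' ≫ snd G X = β' ≫ snd G X := by
    apply Over.OverMorphism.ext
    exact h2
  have hact : α' ≫ a.act = β' ≫ a.act := by
    apply Over.OverMorphism.ext
    exact h1
  have e1 : α' = lift (α' ≫ fst G X) (α' ≫ snd G X) := by
    apply CartesianMonoidalCategory.hom_ext <;> simp
  have e2 : β' = lift (β' ≫ fst G X) (α' ≫ snd G X) := by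
    apply CartesianMonoidalCategory.hom_ext
    · simp
    · rw [lift_snd, hx]
  have h3 : lift (α' ≫ fst G X) (α' ≫ snd G X) ≫ a.act =
      lift (β' ≫ fst G X) (α' ≫ snd G X) ≫ a.act := by
    rw [← e1, ← e2, hact]
  have h4 := hfree T _ _ (act_cancel a _ _ _ h3)
  have h5 : (β' ≫ fst G X)⁻¹ * (α' ≫ fst G X) = 1 := by
    rw [h4, Hom.one_def]
  have h6 : α' ≫ fst G X = β' ≫ fst G X := by
    have := congrArg ((β' ≫ fst G X) * ·) h5
    simpa using this
  have h7 : α' = β' := by
    rw [e1, e2, h6]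
  exact congrArg (fun f => f.left) h7

/-- identity. -/
noncomputable def eA : X.left ⟶ (G ⊗ X).left := (lift (1 : X ⟶ G) (𝟙 X)).left

theorem eA_s : eA (G := G) (X := X) ≫ sA = 𝟙 X.left := by
  have : lift (1 : X ⟶ G) (𝟙 X) ≫ snd G X = 𝟙 X := lift_snd _ _
  exact congrArg (fun f => f.left) this

theorem eA_t : eA (G := G) (X := X) ≫ tA a = 𝟙 X.left := by
  have : lift (1 : X ⟶ G) (𝟙 X) ≫ a.act = 𝟙 X := act_one a _
  exact congrArg (fun f => f.left) this

/-- inverse. -/
noncomputable def iA : (G ⊗ X).left ⟶ (G ⊗ X).left := (lift (fst G X)⁻¹ a.act).left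

theorem iA_s : iA a ≫ sA = tA a := by
  have : lift (fst G X)⁻¹ a.act ≫ snd G X = a.act := lift_snd _ _
  exact congrArg (fun f => f.left) this

theorem iA_t : iA a ≫ tA a = sA := by
  have : lift (fst G X)⁻¹ a.act ≫ a.act = snd G X := lift_inv_act_act a
  exact congrArg (fun f => f.left) this

/-- the composable pairs, over `S`. -/
noncomputable abbrev Pc : Over S :=
  Over.mk (pullback.fst (sA (G := G) (X := X)) (tA a) ≫ (G ⊗ X).hom)

/-- first arrow. -/
noncomputable def p₁ : Pc a ⟶ G ⊗ X := Over.homMk (pullback.fst sA (tA a)) rfl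

/-- second arrow. -/
noncomputable def p₂ : Pc a ⟶ G ⊗ X := Over.homMk (pullback.snd sA (tA a)) (by
  change pullback.snd sA (tA a) ≫ (G ⊗ X).hom = pullback.fst sA (tA a) ≫ (G ⊗ X).hom
  calc pullback.snd sA (tA a) ≫ (G ⊗ X).hom = pullback.snd sA (tA a) ≫ tA a ≫ X.hom := by
        rw [tA_over]
    _ = (pullback.fst sA (tA a) ≫ sA) ≫ X.hom := by rw [pullback.condition, Category.assoc]
    _ = pullback.fst sA (tA a) ≫ (G ⊗ X).hom := by rw [Category.assoc, sA_over])

theorem p_cond : p₁ a ≫ snd G X = p₂ a ≫ a.act := by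
  apply Over.OverMorphism.ext
  exact pullback.condition

/-- composition. -/
noncomputable def cA : pullback (sA (G := G) (X := X)) (tA a) ⟶ (G ⊗ X).left :=
  (lift ((p₁ a ≫ fst G X) * (p₂ a ≫ fst G X)) (p₂ a ≫ snd G X)).left

theorem cA_s : cA a ≫ sA = pullback.snd sA (tA a) ≫ sA := by
  have : lift ((p₁ a ≫ fst G X) * (p₂ a ≫ fst G X)) (p₂ a ≫ snd G X) ≫ snd G X =
      p₂ a ≫ snd G X := lift_snd _ _
  exact congrArg (fun f => f.left) this

theorem cA_t : cA a ≫ tA a = pullback.fst sA (tA a) ≫ tA a := by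
  have e1 : p₁ a = lift (p₁ a ≫ fst G X) (p₁ a ≫ snd G X) := by
    apply CartesianMonoidalCategory.hom_ext <;> simp
  have e2 : p₂ a = lift (p₂ a ≫ fst G X) (p₂ a ≫ snd G X) := by
    apply CartesianMonoidalCategory.hom_ext <;> simp
  have : lift ((p₁ a ≫ fst G X) * (p₂ a ≫ fst G X)) (p₂ a ≫ snd G X) ≫ a.act =
      p₁ a ≫ a.act := by
    rw [act_mul, ← e2, ← p_cond, ← e1]
  exact congrArg (fun f => f.left) this

/-- the action groupoid of a free action. -/
noncomputable def grpd : Grpd.GroupoidScheme S :=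
  EqvGrpd.mk X.hom sA (tA a) (hst a) (fun α β h1 h2 => jmA a hfree α β h1 h2)
    eA eA_s (eA_t a) (iA a) (iA_s a) (iA_t a) (cA a) (cA_s a) (cA_t a)

@[simp] theorem grpd_U : (grpd a hfree).U = X.left := rfl
@[simp] theorem grpd_R : (grpd a hfree).R = (G ⊗ X).left := rfl
@[simp] theorem grpd_s : (grpd a hfree).s = sA := rfl
@[simp] theorem grpd_t : (grpd a hfree).t = tA a := rfl
@[simp] theorem grpd_pU : (grpd a hfree).pU = X.hom := rfl

theorem mono_j_grpd : Mono (grpd a hfree).j := by
  refine ⟨fun {Z} α β hab => jmA a hfree α β ?_ ?_⟩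
  · have := congrArg (· ≫ pullback.fst _ _) hab
    unfold Grpd.GroupoidScheme.j at this
    simp only [Category.assoc] at this
    rw [pullback.lift_fst] at this
    exact this
  · have := congrArg (· ≫ pullback.snd _ _) hab
    unfold Grpd.GroupoidScheme.j at this
    simp only [Category.assoc] at this
    rw [pullback.lift_snd] at this
    exact this

end free

end Groth.Agent.Lib.Helper11.ActGrpd
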