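import Groth.Agent.Lib.Helper11Models

/-!
The genus of a numerical type: parity, contributions of the indices.
-/

namespace Groth.Agent.Lib.Helper11

open Finset Models

variable {n : ℕ} (T : Models.NumericalType n)

/-- `Σ_{i,j} a_ij m_i m_j = 0` -/
theorem sum_a_m_m : ∑ i, ∑ j, T.a i j * T.m i * T.m j = 0 := by
  refine Finset.sum_eq_zero fun i _ => ?_
  have h := row_sum T i
  have : ∑ j, T.a i j * T.m i * T.m j = T.m i * ∑ j, T.a i j * T.m j := by
    rw [Finset.mul_sum]
    exact Finset.sum_congr rfl fun j _ => by ring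
  rw [this, h, mul_zero]

/-- the off-diagonal part of a symmetric double sum is even -/
theorem two_dvd_offDiag (f : Fin n → Fin n → ℤ) (hf : ∀ i j, f i j = f j i) :
    (2 : ℤ) ∣ ∑ i, ∑ j ∈ univ.erase i, f i j := by
  -- split into i < j and j < i
  have h1 : ∀ i, ∑ j ∈ univ.erase i, f i j =
      ∑ j ∈ univ.filter (fun j => i < j), f i j + ∑ j ∈ univ.filter (fun j => j < i), f i j := by
    intro i
    rw [← Finset.sum_union]
    · refine Finset.sum_congr ?_ fun _ _ => rfl
      ext j
      simp only [mem_erase, mem_univ, and_true, mem_union, mem_filter, true_and]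
      constructor
      · intro h
        rcases lt_or_gt_of_ne h with h | h
        · exact Or.inr h
        · exact Or.inl h
      · rintro (h | h)
        · exact h.ne'
        · exact h.ne
    · rw [Finset.disjoint_left]
      intro j hj hj'
      simp only [mem_filter, mem_univ, true_and] at hj hj'
      exact lt_asymm hj hj'
  simp_rw [h1, Finset.sum_add_distrib]
  have h2 : ∑ i, ∑ j ∈ univ.filter (fun j => j < i), f i j =
      ∑ i, ∑ j ∈ univ.filter (fun j => i < j), f i j := by
    rw [Finset.sum_sigma', Finset.sum_sigma']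
    refine Finset.sum_bij' (fun x _ => ⟨x.2, x.1⟩) (fun x _ => ⟨x.2, x.1⟩) ?_ ?_ ?_ ?_ ?_
    · intro x hx
      simp only [mem_sigma, mem_univ, mem_filter, true_and] at hx ⊢
      exact hx
    · intro x hx
      simp only [mem_sigma, mem_univ, mem_filter, true_and] at hx ⊢
      exact hx
    · intro x _; rfl
    · intro x _; rfl
    · intro x _
      exact hf _ _
  rw [h2]
  exact ⟨_, (two_mul _).symm⟩

/-- S2173: `Σ m_i a_ii` is even -/
theorem two_dvd_sum_m_diag : (2 : ℤ) ∣ ∑ i, T.m i * T.a i i := by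
  have h0 := sum_a_m_m T
  have hsplit : ∑ i, ∑ j, T.a i j * T.m i * T.m j =
      ∑ i, T.a i i * T.m i * T.m i + ∑ i, ∑ j ∈ univ.erase i, T.a i j * T.m i * T.m j := by
    rw [← Finset.sum_add_distrib]
    refine Finset.sum_congr rfl fun i _ => ?_
    exact (Finset.add_sum_erase univ (fun j => T.a i j * T.m i * T.m j) (mem_univ i)).symm
  have hoff := two_dvd_offDiag (fun i j => T.a i j * T.m i * T.m j)
    (fun i j => by rw [a_symm T i j]; ring)
  have hdiag : (2 : ℤ) ∣ ∑ i, T.a i i * T.m i * T.m i := by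
    have : ∑ i, T.a i i * T.m i * T.m i =
        -∑ i, ∑ j ∈ univ.erase i, T.a i j * T.m i * T.m j := by linarith
    rw [this]
    exact (dvd_neg).mpr hoff
  -- m^2 ≡ m mod 2
  have hdiff : (2 : ℤ) ∣ ∑ i, T.a i i * T.m i * T.m i - ∑ i, T.m i * T.a i i := by
    rw [← Finset.sum_sub_distrib]
    refine Finset.dvd_sum fun i _ => ?_
    have : T.a i i * T.m i * T.m i - T.m i * T.a i i = T.a i i * (T.m i * (T.m i - 1)) := by ring
    rw [this]
    exact Dvd.dvd.mul_left (Int.even_mul_pred_self (T.m i)).two_dvd _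
  have := dvd_sub hdiag hdiff
  simpa using this

/-- S2174: the diagonal entries are negative when there are at least two indices -/
theorem diag_neg (hn : 1 < n) (i : Fin n) : T.a i i < 0 := by
  have h := row_sum T i
  rw [← Finset.add_sum_erase univ (fun j => T.a i j * T.m j) (mem_univ i)] at h
  have hnn : 0 ≤ ∑ j ∈ univ.erase i, T.a i j * T.m j := by
    refine Finset.sum_nonneg fun j hj => ?_
    exact mul_nonneg (T.offDiag_nonneg i j (Finset.ne_of_mem_erase hj).symm) (T.m_pos j).le
  have hI : ({i} : Finset (Fin n)) ≠ univ := by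
    intro h'
    have : ({i} : Finset (Fin n)).card = n := by rw [h']; simp
    simp at this
    omega
  obtain ⟨i', hi', j, hj, hij⟩ := T.connected {i} ⟨i, by simp⟩ hI
  rw [Finset.mem_singleton] at hi'
  subst hi'
  have hji : j ≠ i' := fun h' => hj (by simp [h'])
  have hpos : 0 < ∑ j ∈ univ.erase i', T.a i' j * T.m j := by
    refine Finset.sum_pos' (fun j hj => ?_) ⟨j, Finset.mem_erase.mpr ⟨hji, mem_univ _⟩, ?_⟩
    · exact mul_nonneg (T.offDiag_nonneg i' j (Finset.ne_of_mem_erase hj).symm) (T.m_pos j).le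
    · exact mul_pos (lt_of_le_of_ne (T.offDiag_nonneg i' j hji.symm) (Ne.symm hij)) (T.m_pos j)
  have hm := T.m_pos i'
  by_contra hcon
  push Not at hcon
  have : 0 ≤ T.a i' i' * T.m i' := mul_nonneg hcon hm.le
  linarith

/-- the diagonal entry is `-k w_i` with `k ≥ 1` -/
theorem diag_eq (hn : 1 < n) (i : Fin n) : ∃ k : ℤ, 1 ≤ k ∧ T.a i i = -(k * T.w i) := by
  have h1 := diag_neg T hn i
  have h2 := a_eq_kk T i i
  have hw := T.w_pos i
  refine ⟨-kk T i i, ?_, by rw [h2]; ring⟩
  by_contra hcon
  have : 0 ≤ kk T i i := by omega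
  have : 0 ≤ kk T i i * T.w i := mul_nonneg this hw.le
  linarith

/-- S7316 -/
theorem isMinusOne_of_contribution_neg (hn : 1 < n) (i : Fin n)
    (h : T.m i * (2 * T.w i * (T.g i - 1) - T.a i i) < 0) : T.IsMinusOne i := by
  obtain ⟨k, hk, hka⟩ := diag_eq T hn i
  have hm := T.m_pos i
  have hw := T.w_pos i
  have hg := T.g_nonneg i
  have h1 : 2 * T.w i * (T.g i - 1) - T.a i i < 0 := by
    by_contra hcon
    push Not at hcon
    have := mul_nonneg hm.le hcon
    linarith
  rw [hka] at h1
  have h2 : T.w i * (2 * (T.g i - 1) + k) < 0 := by linarith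
  have h3 : 2 * (T.g i - 1) + k < 0 := by
    by_contra hcon
    push Not at hcon
    have := mul_nonneg hw.le hcon
    linarith
  have hg0 : T.g i = 0 := by omega
  have hk1 : k = 1 := by omega
  exact ⟨hg0, by rw [hka, hk1]; ring⟩

/-- S7317 -/
theorem isMinusTwo_of_contribution_zero (hn : 1 < n) (i : Fin n)
    (h : T.m i * (2 * T.w i * (T.g i - 1) - T.a i i) = 0) : T.IsMinusTwo i := by
  obtain ⟨k, hk, hka⟩ := diag_eq T hn i
  have hm := T.m_pos i
  have hw := T.w_pos i
  have hg := T.g_nonneg i
  have h1 : 2 * T.w i * (T.g i - 1) - T.a i i = 0 := by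
    rcases mul_eq_zero.mp h with h' | h'
    · exact absurd h' hm.ne'
    · exact h'
  rw [hka] at h1
  have h2 : T.w i * (2 * (T.g i - 1) + k) = 0 := by linarith
  have h3 : 2 * (T.g i - 1) + k = 0 := by
    rcases mul_eq_zero.mp h2 with h' | h'
    · exact absurd h' hw.ne'
    · exact h'
  have hg0 : T.g i = 0 := by omega
  have hk1 : k = 2 := by omega
  exact ⟨hg0, by rw [hka, hk1]; ring⟩

/-- twice the genus minus two is the sum of the contributions -/
theorem two_genus : 2 * T.genus - 2 = ∑ i, T.m i * (2 * T.w i * (T.g i - 1) - T.a i i) := by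
  obtain ⟨c, hc⟩ := two_dvd_sum_m_diag T
  unfold NumericalType.genus
  rw [hc, Int.mul_ediv_cancel_left _ (by norm_num : (2 : ℤ) ≠ 0)]
  have : ∑ i, T.m i * (2 * T.w i * (T.g i - 1) - T.a i i) =
      2 * ∑ i, T.m i * T.w i * (T.g i - 1) - ∑ i, T.m i * T.a i i := by
    rw [Finset.mul_sum, ← Finset.sum_sub_distrib]
    exact Finset.sum_congr rfl fun i _ => by ring
  rw [this, hc]
  ring

/-- for a minimal type with at least two indices all contributions are nonnegative -/
theorem contribution_nonneg (hn : 1 < n) (hmin : T.IsMinimal) (i : Fin n) :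
    0 ≤ T.m i * (2 * T.w i * (T.g i - 1) - T.a i i) := by
  by_contra hcon
  push Not at hcon
  exact hmin i (isMinusOne_of_contribution_neg T hn i hcon)

/-- S2176 -/
theorem one_le_genus_of_isMinimal (hmin : T.IsMinimal) (hn : 1 < n) : 1 ≤ T.genus := by
  have h := two_genus T
  have : 0 ≤ ∑ i, T.m i * (2 * T.w i * (T.g i - 1) - T.a i i) :=
    Finset.sum_nonneg fun i _ => contribution_nonneg T hn hmin i
  omega

/-- a minimal type of genus one with at least two indices consists of `(-2)`-indices -/
theorem all_minusTwo_of_genus_one (hn : 1 < n) (hmin : T.IsMinimal) (hg : T.genus = 1) (i : Fin n) :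
    T.IsMinusTwo i := by
  have h := two_genus T
  rw [hg] at h
  have h0 : ∑ i, T.m i * (2 * T.w i * (T.g i - 1) - T.a i i) = 0 := by omega
  have := (Finset.sum_eq_zero_iff_of_nonneg
    (fun i _ => contribution_nonneg T hn hmin i)).mp h0 i (mem_univ i)
  exact isMinusTwo_of_contribution_zero T hn i this

end Groth.Agent.Lib.Helper11
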