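import Groth.Agent.Lib.Helper11Chain
import Groth.Agent.Lib.Helper11Genus

/-!
The equality principle for numerical types: a nonnegative nonzero vector which is subharmonic
on its support is proportional to the multiplicity vector (so has full support and is harmonic).
Also the dual principle: a superharmonic vector is harmonic.
-/

namespace Groth.Agent.Lib.Helper11

open Finset Models

variable {n : ℕ} (T : Models.NumericalType n)

/-- equality principle -/
theorem subharmonic_full (x : Fin n → ℤ) (hx0 : ∀ i, 0 ≤ x i) (hx : ∃ i, 0 < x i)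
    (h : ∀ i, 0 < x i → 0 ≤ ∑ j, kk T i j * x j) :
    (∀ i, 0 < x i) ∧ (∀ i, ∑ j, kk T i j * x j = 0) ∧ (∀ i j, x i * T.m j = x j * T.m i) := by
  have hterm : ∀ i, 0 ≤ x i * T.w i * ∑ j, kk T i j * x j := by
    intro i
    rcases (hx0 i).eq_or_lt with h0 | h0
    · rw [← h0]; simp
    · exact mul_nonneg (mul_nonneg h0.le (T.w_pos i).le) (h i h0)
  have hq0 : qf T x = 0 := by
    have h1 := qf_nonpos T x
    have h2 : 0 ≤ qf T x := by
      rw [qf_eq_kk]
      exact Finset.sum_nonneg fun i _ => hterm i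
    omega
  have hprop := qf_eq_zero T x hq0
  obtain ⟨i0, hi0⟩ := hx
  have hpos : ∀ i, 0 < x i := by
    intro i
    have h1 := hprop i i0
    have h2 : 0 < x i0 * T.m i := mul_pos hi0 (T.m_pos i)
    rw [← h1] at h2
    exact pos_of_mul_pos_left h2 (T.m_pos i0).le
  refine ⟨hpos, ?_, hprop⟩
  intro i
  have hsum : ∑ i, x i * T.w i * ∑ j, kk T i j * x j = 0 := by
    rw [← qf_eq_kk]; exact hq0
  have := (Finset.sum_eq_zero_iff_of_nonneg fun i _ => hterm i).mp hsum i (Finset.mem_univ i)
  have hxw : 0 < x i * T.w i := mul_pos (hpos i) (T.w_pos i)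
  rcases mul_eq_zero.mp this with h1 | h1
  · omega
  · exact h1

/-- equality principle, for an embedded family -/
theorem subharmonic_emb {k : ℕ} (v : Fin k ↪ Fin n) (c : Fin k → ℤ) (hc0 : ∀ p, 0 ≤ c p)
    (hc : ∃ p, 0 < c p) (h : ∀ p, 0 < c p → 0 ≤ ∑ q, kk T (v p) (v q) * c q) :
    Function.Surjective v ∧ (∀ p, 0 < c p) ∧ (∀ p, ∑ q, kk T (v p) (v q) * c q = 0) ∧
      (∀ p q, c p * T.m (v q) = c q * T.m (v p)) := by
  have hx0 : ∀ i, 0 ≤ embVec v c i := by
    intro i
    by_cases hi : ∃ p, v p = i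
    · obtain ⟨p, rfl⟩ := hi
      rw [embVec_apply]; exact hc0 p
    · push Not at hi
      rw [embVec_of_notMem v c i hi]
  have hrow : ∀ i, ∑ j, kk T i j * embVec v c j = ∑ q, kk T i (v q) * c q := fun i =>
    sum_mul_embVec v c (kk T i)
  obtain ⟨p0, hp0⟩ := hc
  have key := subharmonic_full T (embVec v c) hx0 ⟨v p0, by rw [embVec_apply]; exact hp0⟩ (by
    intro i hi
    by_cases hi' : ∃ p, v p = i
    · obtain ⟨p, rfl⟩ := hi'
      rw [embVec_apply] at hi
      rw [hrow]
      exact h p hi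
    · push Not at hi'
      rw [embVec_of_notMem v c i hi'] at hi
      exact absurd hi (lt_irrefl _))
  obtain ⟨k1, k2, k3⟩ := key
  have hsurj : Function.Surjective v := by
    intro i
    by_contra hcon
    push Not at hcon
    have := k1 i
    rw [embVec_of_notMem v c i hcon] at this
    exact lt_irrefl _ this
  refine ⟨hsurj, ?_, ?_, ?_⟩
  · intro p
    have := k1 (v p)
    rwa [embVec_apply] at this
  · intro p
    have := k2 (v p)
    rwa [hrow] at this
  · intro p q
    have := k3 (v p) (v q)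
    rwa [embVec_apply, embVec_apply] at this

/-- a surjective embedding of `Fin k` into `Fin n` forces `k = n` -/
theorem eq_of_surjective_emb {k : ℕ} (v : Fin k ↪ Fin n) (hs : Function.Surjective v) : k = n := by
  have h1 : Fintype.card (Fin k) = Fintype.card (Fin n) :=
    Fintype.card_of_bijective ⟨v.injective, hs⟩
  simpa using h1

/-- dual principle: a superharmonic vector is harmonic -/
theorem superharmonic_full (x : Fin n → ℤ) (h : ∀ i, ∑ j, kk T i j * x j ≤ 0) :
    ∀ i, ∑ j, kk T i j * x j = 0 := by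
  have hterm : ∀ i, T.m i * T.w i * ∑ j, kk T i j * x j ≤ 0 := fun i =>
    mul_nonpos_of_nonneg_of_nonpos (mul_nonneg (T.m_pos i).le (T.w_pos i).le) (h i)
  have hsum : ∑ i, T.m i * T.w i * ∑ j, kk T i j * x j = 0 := by
    have h1 : ∀ i, T.m i * T.w i * ∑ j, kk T i j * x j = ∑ j, x j * (T.a j i * T.m i) := by
      intro i
      rw [Finset.mul_sum]
      refine Finset.sum_congr rfl fun j _ => ?_
      rw [a_symm T j i, a_eq_kk T i j]
      ring
    rw [Finset.sum_congr rfl fun i _ => h1 i, Finset.sum_comm]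
    refine Finset.sum_eq_zero fun j _ => ?_
    rw [← Finset.mul_sum, row_sum, mul_zero]
  intro i
  have hall := (Finset.sum_eq_zero_iff_of_nonneg (s := univ)
    (f := fun i => -(T.m i * T.w i * ∑ j, kk T i j * x j))
    (fun i _ => by have := hterm i; omega)).mp (by
      rw [Finset.sum_neg_distrib, hsum, neg_zero]) i (Finset.mem_univ i)
  have hmw : 0 < T.m i * T.w i := mul_pos (T.m_pos i) (T.w_pos i)
  have h0 : T.m i * T.w i * ∑ j, kk T i j * x j = 0 := by omega
  rcases mul_eq_zero.mp h0 with h1 | h1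
  · omega
  · exact h1

/-- dual principle for a surjective embedded family: no strictly superharmonic vector -/
theorem no_superharmonic {k : ℕ} (v : Fin k ↪ Fin n) (hs : Function.Surjective v) (c : Fin k → ℤ)
    (h : ∀ p, ∑ q, kk T (v p) (v q) * c q ≤ 0) (p0 : Fin k)
    (h0 : ∑ q, kk T (v p0) (v q) * c q < 0) : False := by
  have hrow : ∀ i, ∑ j, kk T i j * embVec v c j = ∑ q, kk T i (v q) * c q := fun i =>
    sum_mul_embVec v c (kk T i)
  have key := superharmonic_full T (embVec v c) (by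
    intro i
    obtain ⟨p, rfl⟩ := hs i
    rw [hrow]; exact h p)
  have := key (v p0)
  rw [hrow] at this
  omega

section Master

variable {k : ℕ} (u : Fin k ↪ Fin n)

/-- the row of an embedded family of `(-2)`-indices, split off the diagonal term -/
theorem row_split (hv : ∀ j, T.IsMinusTwo (u j)) (c : Fin k → ℤ) (p : Fin k) :
    ∑ q, kk T (u p) (u q) * c q = -2 * c p + ∑ q ∈ univ.erase p, kk T (u p) (u q) * c q := by
  rw [← Finset.add_sum_erase univ _ (Finset.mem_univ p), kk_minusTwo T (hv p)]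

/-- The master theorem: if the Cartan integers of an embedded family dominate a matrix `B`
having a positive vector `c` with `B c ≥ 2 c`, then the family is everything, the Cartan integers
are given by `B`, and the multiplicities are proportional to `c`. -/
theorem affine_master (hv : ∀ j, T.IsMinusTwo (u j)) (c : Fin k → ℤ) (hc : ∀ p, 0 < c p)
    (hk : 0 < k) (B : Fin k → Fin k → ℤ)
    (hB : ∀ p q, p ≠ q → B p q ≤ kk T (u p) (u q))
    (hsum : ∀ p, 2 * c p ≤ ∑ q ∈ univ.erase p, B p q * c q) :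
    k = n ∧ Function.Surjective u ∧ (∀ p q, p ≠ q → kk T (u p) (u q) = B p q) ∧
      (∀ p q, c p * T.m (u q) = c q * T.m (u p)) := by
  have hle : ∀ p, ∑ q ∈ univ.erase p, B p q * c q ≤ ∑ q ∈ univ.erase p, kk T (u p) (u q) * c q := by
    intro p
    refine Finset.sum_le_sum fun q hq => ?_
    have hqp : p ≠ q := fun h => (Finset.mem_erase.mp hq).1 h.symm
    exact mul_le_mul_of_nonneg_right (hB p q hqp) (hc q).le
  obtain ⟨hs, -, hrow, hprop⟩ := subharmonic_emb T u c (fun p => (hc p).le) ⟨⟨0, hk⟩, hc _⟩ (by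
    intro p _
    rw [row_split T u hv]
    have := hle p
    have := hsum p
    omega)
  refine ⟨eq_of_surjective_emb u hs, hs, ?_, hprop⟩
  intro p q hpq
  have h1 := hrow p
  rw [row_split T u hv] at h1
  have h2 : ∑ q ∈ univ.erase p, (kk T (u p) (u q) * c q - B p q * c q) = 0 := by
    rw [Finset.sum_sub_distrib]
    have := hle p
    have := hsum p
    omega
  have h3 := (Finset.sum_eq_zero_iff_of_nonneg (fun q hq => by
    have hqp : p ≠ q := fun h => (Finset.mem_erase.mp hq).1 h.symm
    have := mul_le_mul_of_nonneg_right (hB p q hqp) (hc q).le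
    omega)).mp h2 q (Finset.mem_erase.mpr ⟨hpq.symm, Finset.mem_univ q⟩)
  have h4 : (kk T (u p) (u q) - B p q) * c q = 0 := by rw [sub_mul]; exact h3
  rcases mul_eq_zero.mp h4 with h5 | h5
  · omega
  · have := hc q; omega

/-- lower bounds for sums over `univ.erase p` -/
theorem sum_erase_ge_one (f : Fin k → ℤ) (p q1 : Fin k) (h1 : q1 ≠ p)
    (hf : ∀ q, q ≠ p → 0 ≤ f q) : f q1 ≤ ∑ q ∈ univ.erase p, f q := by
  have hsub : ({q1} : Finset (Fin k)) ⊆ univ.erase p := by
    intro q hq
    rw [Finset.mem_singleton] at hq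
    subst hq
    exact Finset.mem_erase.mpr ⟨h1, Finset.mem_univ _⟩
  have := Finset.sum_le_sum_of_subset_of_nonneg hsub (f := f)
    (fun q hq _ => hf q (Finset.mem_erase.mp hq).1)
  rwa [Finset.sum_singleton] at this

theorem sum_erase_ge_two (f : Fin k → ℤ) (p q1 q2 : Fin k) (h1 : q1 ≠ p) (h2 : q2 ≠ p)
    (h12 : q1 ≠ q2) (hf : ∀ q, q ≠ p → 0 ≤ f q) : f q1 + f q2 ≤ ∑ q ∈ univ.erase p, f q := by
  have hsub : ({q1, q2} : Finset (Fin k)) ⊆ univ.erase p := by
    intro q hq
    rw [Finset.mem_insert, Finset.mem_singleton] at hq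
    rcases hq with rfl | rfl
    · exact Finset.mem_erase.mpr ⟨h1, Finset.mem_univ _⟩
    · exact Finset.mem_erase.mpr ⟨h2, Finset.mem_univ _⟩
  have := Finset.sum_le_sum_of_subset_of_nonneg hsub (f := f)
    (fun q hq _ => hf q (Finset.mem_erase.mp hq).1)
  rwa [Finset.sum_pair h12] at this

theorem sum_erase_ge_three (f : Fin k → ℤ) (p q1 q2 q3 : Fin k) (h1 : q1 ≠ p) (h2 : q2 ≠ p)
    (h3 : q3 ≠ p) (h12 : q1 ≠ q2) (h13 : q1 ≠ q3) (h23 : q2 ≠ q3)
    (hf : ∀ q, q ≠ p → 0 ≤ f q) : f q1 + f q2 + f q3 ≤ ∑ q ∈ univ.erase p, f q := by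
  have hsub : ({q1, q2, q3} : Finset (Fin k)) ⊆ univ.erase p := by
    intro q hq
    rw [Finset.mem_insert, Finset.mem_insert, Finset.mem_singleton] at hq
    rcases hq with rfl | rfl | rfl
    · exact Finset.mem_erase.mpr ⟨h1, Finset.mem_univ _⟩
    · exact Finset.mem_erase.mpr ⟨h2, Finset.mem_univ _⟩
    · exact Finset.mem_erase.mpr ⟨h3, Finset.mem_univ _⟩
  have := Finset.sum_le_sum_of_subset_of_nonneg hsub (f := f)
    (fun q hq _ => hf q (Finset.mem_erase.mp hq).1)
  rw [Finset.sum_insert (by simp [h12, h13]), Finset.sum_pair h23] at this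
  linarith

end Master

end Groth.Agent.Lib.Helper11
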