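import Mathlib

/-!
# Existence of cofiltered limits of schemes with affine transition maps (Stacks 01YX)

ns `Groth.Agent.Lib.Helper22.LimAffEx`: `hasLimit_of_isAffineHom` via Mathlib's local representability
theorem: the presheaf limit `P E` of the representables is a Zariski sheaf covered by the open
subfunctors represented by limits of affine schemes. General lemmas: `exists_isPullback` (equifibered
`α : E' ⟶ E` over connected `J` with terminal object: `h_{lim E'}` is the pullback of `P E`),
`hasLimit_of_isRepresentable`, `hasLimit_of_forall_isAffine`.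
-/

set_option autoImplicit false
universe v w u

open CategoryTheory Limits

namespace Groth.Agent.Lib.Helper22.LimAffEx

section General

variable {C : Type w} [Category.{v} C] {J : Type v} [SmallCategory J]

/-- the presheaf limit of the representables -/
noncomputable abbrev P (E : J ⥤ C) : Cᵒᵖ ⥤ Type v := limit (E ⋙ yoneda)

theorem exists_isPullback [IsConnected J] {E E' : J ⥤ C} (α : E' ⟶ E) (hα : α.Equifibered) {j₀ : J}
    (hj₀ : IsTerminal j₀) (c' : Cone E') (hc' : IsLimit c') :
    ∃ φ : yoneda.obj c'.pt ⟶ P E,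
      IsPullback φ (yoneda.map (c'.π.app j₀)) (limit.π (E ⋙ yoneda) j₀) (yoneda.map (α.app j₀)) ∧
      ∀ j, φ ≫ limit.π (E ⋙ yoneda) j = yoneda.map (c'.π.app j ≫ α.app j) := by
  let t : ∀ j, j ⟶ j₀ := fun j => hj₀.from j
  have hsq : ∀ j, IsPullback (yoneda.map (E'.map (t j))) (yoneda.map (α.app j))
      (yoneda.map (α.app j₀)) (yoneda.map (E.map (t j))) := fun j => (hα (t j)).map yoneda
  let Q := pullback (limit.π (E ⋙ yoneda) j₀) (yoneda.map (α.app j₀))
  let fst : Q ⟶ P E := pullback.fst _ _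
  let snd : Q ⟶ yoneda.obj (E'.obj j₀) := pullback.snd _ _
  have hcond : fst ≫ limit.π (E ⋙ yoneda) j₀ = snd ≫ yoneda.map (α.app j₀) := pullback.condition
  have hw : ∀ j, limit.π (E ⋙ yoneda) j ≫ yoneda.map (E.map (t j)) = limit.π (E ⋙ yoneda) j₀ :=
    fun j => limit.w (E ⋙ yoneda) (t j)
  have hq : ∀ j, snd ≫ yoneda.map (α.app j₀) =
      (fst ≫ limit.π (E ⋙ yoneda) j) ≫ yoneda.map (E.map (t j)) := by
    intro j
    rw [Category.assoc, hw, hcond]
  let q : ∀ j, Q ⟶ yoneda.obj (E'.obj j) := fun j => (hsq j).lift snd (fst ≫ limit.π _ j) (hq j)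
  have hq1 : ∀ j, q j ≫ yoneda.map (E'.map (t j)) = snd := fun j => (hsq j).lift_fst _ _ _
  have hq2 : ∀ j, q j ≫ yoneda.map (α.app j) = fst ≫ limit.π _ j := fun j => (hsq j).lift_snd _ _ _
  let cQ : Cone (E' ⋙ yoneda) :=
    { pt := Q
      π :=
        { app := q
          naturality := by
            intro j k g
            simp only [Functor.const_obj_obj, Functor.const_obj_map, Category.id_comp,
              Functor.comp_map]
            apply (hsq k).hom_ext
            · rw [hq1, Category.assoc, ← Functor.map_comp, ← Functor.map_comp,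
                show g ≫ t k = t j from hj₀.hom_ext _ _, hq1]
            · rw [hq2, Category.assoc, ← Functor.map_comp, α.naturality, Functor.map_comp,
                ← Category.assoc, hq2, Category.assoc]
              congr 1
              exact (limit.w (E ⋙ yoneda) g).symm } }
  let f : (Cone.postcompose (Functor.whiskerRight α yoneda)).obj cQ ⟶ limit.cone (E ⋙ yoneda) :=
    { hom := fst
      w := fun j => (hq2 j).symm }
  have hf : ∀ j, IsPullback (cQ.π.app j) f.hom ((Functor.whiskerRight α yoneda).app j)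
      ((limit.cone (E ⋙ yoneda)).π.app j) := by
    intro j
    change IsPullback (q j) fst (yoneda.map (α.app j)) (limit.π _ j)
    refine IsPullback.of_right ?_ (hq2 j) (hsq j)
    rw [hq1, hw]
    exact (IsPullback.of_hasPullback _ _).flip
  have hQ : IsLimit cQ :=
    isLimitOfIsPullbackOfIsConnected (Functor.whiskerRight α yoneda) cQ _ f hf (limit.isLimit _)
  let e : yoneda.obj c'.pt ≅ Q := (isLimitOfPreserves yoneda hc').conePointUniqueUpToIso hQ
  have he : ∀ j, e.hom ≫ q j = yoneda.map (c'.π.app j) := fun j =>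
    IsLimit.conePointUniqueUpToIso_hom_comp (isLimitOfPreserves yoneda hc') hQ j
  have hsnd : e.hom ≫ snd = yoneda.map (c'.π.app j₀) := by
    rw [← hq1 j₀, ← Category.assoc, he, ← Functor.map_comp, c'.w]
  refine ⟨e.hom ≫ fst, ?_, ?_⟩
  · have h0 : IsPullback fst snd (limit.π (E ⋙ yoneda) j₀) (yoneda.map (α.app j₀)) :=
      IsPullback.of_hasPullback _ _
    refine h0.of_iso e.symm (Iso.refl _) (Iso.refl _) (Iso.refl _) ?_ ?_ ?_ ?_
    · simp
    · simp [← hsnd]
    · simp
    · simp
  · intro j
    rw [Category.assoc, ← hq2, ← Category.assoc, he, ← Functor.map_comp]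

theorem hasLimit_of_isRepresentable (E : J ⥤ C) (h : (P E).IsRepresentable) : HasLimit E := by
  obtain ⟨X, ⟨rep⟩⟩ := h
  let e : yoneda.obj X ≅ P E := Functor.representableByEquiv rep
  let c : Cone E :=
    { pt := X
      π :=
        { app := fun j => Yoneda.fullyFaithful.preimage (e.hom ≫ limit.π (E ⋙ yoneda) j)
          naturality := by
            intro j k g
            apply Yoneda.fullyFaithful.map_injective
            simp only [Functor.const_obj_obj, Functor.const_obj_map, Category.id_comp,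
              Functor.FullyFaithful.map_preimage, Functor.map_comp, Category.assoc]
            have := limit.w (E ⋙ yoneda) g
            simp only [Functor.comp_map] at this
            rw [this] } }
  have hc : IsLimit (yoneda.mapCone c) := by
    refine IsLimit.ofIsoLimit (limit.isLimit (E ⋙ yoneda)) (Cone.ext e.symm (fun j => ?_))
    simp only [Functor.mapCone_pt, Functor.mapCone_π_app, limit.cone_x, limit.cone_π, c,
      Functor.FullyFaithful.map_preimage, Iso.symm_hom, Iso.inv_hom_id_assoc]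
  exact ⟨⟨⟨c, isLimitOfReflects yoneda hc⟩⟩⟩

end General

section Sch

open AlgebraicGeometry

theorem isSheaf_P {J : Type u} [SmallCategory J] (E : J ⥤ Scheme.{u}) : Presheaf.IsSheaf Scheme.zariskiTopology (P E) :=
  Sheaf.isSheaf_of_isLimit (E ⋙ Scheme.zariskiTopology.yoneda) (limit.cone (E ⋙ yoneda))
    (limit.isLimit (E ⋙ yoneda))

theorem hasLimit_of_forall_isAffine {J : Type u} [SmallCategory J] (K : J ⥤ Scheme.{u})
    [∀ j, IsAffine (K.obj j)] : HasLimit K := by
  let α : K ⟶ (K ⋙ Scheme.Γ.rightOp) ⋙ Scheme.Spec := K.whiskerLeft ΓSpec.adjunction.unit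
  have (i : _) : IsIso (α.app i) := IsAffine.affine
  have : IsIso α := NatIso.isIso_of_isIso_app α
  have : HasLimit ((K ⋙ Scheme.Γ.rightOp) ⋙ Scheme.Spec) :=
    ⟨⟨⟨Scheme.Spec.mapCone (limit.cone _), isLimitOfPreserves Scheme.Spec (limit.isLimit _)⟩⟩⟩
  exact hasLimit_of_iso (asIso α).symm

variable {I : Type u} [SmallCategory I] [IsCofiltered I] (D : I ⥤ Scheme.{u})
  [∀ {i j : I} (f : i ⟶ j), IsAffineHom (D.map f)] (i₀ : I)

omit [IsCofiltered I] [∀ {i j : I} (f : i ⟶ j), IsAffineHom (D.map f)] in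
theorem equifibered_opensDiagramι (U : (D.obj i₀).Opens) :
    (opensDiagramι D i₀ U).Equifibered := by
  intro j k g
  refine IsOpenImmersion.isPullback _ _ _ _ ?_ ?_
  · change (D.map j.hom ⁻¹ᵁ U).ι ≫ D.map g.left = (D.map g.left).resLE _ _ _ ≫ (D.map k.hom ⁻¹ᵁ U).ι
    rw [Scheme.Hom.resLE_comp_ι]
  · change D.map g.left ⁻¹ᵁ (D.map k.hom ⁻¹ᵁ U).ι.opensRange = (D.map j.hom ⁻¹ᵁ U).ι.opensRange
    rw [Scheme.Opens.opensRange_ι, Scheme.Opens.opensRange_ι, ← Scheme.Hom.comp_preimage,
      ← D.map_comp, Over.w g]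


omit [IsCofiltered I] in
theorem hasLimit_over : HasLimit (Over.forget i₀ ⋙ D) := by
  classical
  set E : Over i₀ ⥤ Scheme.{u} := Over.forget i₀ ⋙ D with hE
  apply hasLimit_of_isRepresentable
  let S := D.obj i₀
  let j₀ : Over i₀ := Over.mk (𝟙 i₀)
  have hj₀ : IsTerminal j₀ := Over.mkIdTerminal
  have : HasTerminal (Over i₀) := hj₀.hasTerminal
  have : IsConnected (Over i₀) := isConnected_of_hasTerminal _
  -- family
  have key : ∀ U : S.affineOpens, ∃ (X : Scheme.{u}) (cπ : X ⟶ (opensDiagram D i₀ U.1).obj j₀)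
      (φ : yoneda.obj X ⟶ P E), IsPullback φ (yoneda.map cπ) (limit.π (E ⋙ yoneda) j₀)
        (yoneda.map ((opensDiagramι D i₀ U.1).app j₀)) := by
    intro U
    have : ∀ j, IsAffine ((opensDiagram D i₀ U.1).obj j) := fun j => U.2.preimage (D.map j.hom)
    have : HasLimit (opensDiagram D i₀ U.1) := hasLimit_of_forall_isAffine _
    obtain ⟨φ, h1, -⟩ := exists_isPullback (opensDiagramι D i₀ U.1)
      (equifibered_opensDiagramι D i₀ U.1) hj₀ (limit.cone _) (limit.isLimit _)
    exact ⟨_, _, φ, h1⟩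
  choose X cπ φ hφ using key
  have hf : ∀ U, IsOpenImmersion.presheaf (φ U) := by
    intro U
    have h1 : IsOpenImmersion.presheaf (yoneda.map ((opensDiagramι D i₀ U.1).app j₀)) :=
      MorphismProperty.relative_map inferInstance
    exact (MorphismProperty.relative_isStableUnderBaseChange _).of_isPullback (hφ U).flip h1
  have hsurj : Presheaf.IsLocallySurjective Scheme.zariskiTopology (Sigma.desc φ) := by
    constructor
    intro T s
    let a : yoneda.obj T ⟶ P E := yonedaEquiv.symm s
    have ha : yonedaEquiv a = s := Equiv.apply_symm_apply _ _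
    let s₀ : T ⟶ S := yonedaEquiv (a ≫ limit.π (E ⋙ yoneda) j₀)
    have hs₀ : yoneda.map s₀ = a ≫ limit.π (E ⋙ yoneda) j₀ := by
      apply yonedaEquiv.injective
      rw [yonedaEquiv_yoneda_map]
      rfl
    let 𝒰 : T.OpenCover := T.openCoverOfIsOpenCover (fun U : S.affineOpens => s₀ ⁻¹ᵁ U.1) (by
      change iSup _ = ⊤
      rw [← Scheme.Hom.preimage_iSup, iSup_affineOpens_eq_top]
      rfl)
    have main : ∀ U : S.affineOpens, Presheaf.imageSieve (Sigma.desc φ) s (s₀ ⁻¹ᵁ U.1).ι := by
      intro U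
      set g : (s₀ ⁻¹ᵁ U.1).toScheme ⟶ T := (s₀ ⁻¹ᵁ U.1).ι with hg
      have hrange : Set.range (g ≫ s₀) ⊆ Set.range ((opensDiagramι D i₀ U.1).app j₀) := by
        rintro _ ⟨x, rfl⟩
        change _ ∈ Set.range (D.map (𝟙 i₀) ⁻¹ᵁ U.1).ι
        rw [Scheme.Opens.range_ι]
        change D.map (𝟙 i₀) (s₀ (g x)) ∈ U.1
        rw [D.map_id]
        exact x.2
      let b := IsOpenImmersion.lift ((opensDiagramι D i₀ U.1).app j₀) (g ≫ s₀) hrange
      have hb : b ≫ (opensDiagramι D i₀ U.1).app j₀ = g ≫ s₀ := IsOpenImmersion.lift_fac _ _ _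
      have hcond : (yoneda.map g ≫ a) ≫ limit.π (E ⋙ yoneda) j₀ =
          yoneda.map b ≫ yoneda.map ((opensDiagramι D i₀ U.1).app j₀) := by
        rw [Category.assoc, ← hs₀]
        exact (yoneda.map_comp g s₀).symm.trans
          ((congrArg (fun m => yoneda.map m) hb.symm).trans (yoneda.map_comp _ _))
      let ℓ := (hφ U).lift (yoneda.map g ≫ a) (yoneda.map b) hcond
      have hℓ : ℓ ≫ φ U = yoneda.map g ≫ a := (hφ U).lift_fst _ _ _
      refine ⟨(Sigma.ι (fun U => yoneda.obj (X U)) U).app (Opposite.op _) (yonedaEquiv ℓ), ?_⟩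
      rw [← ha, yonedaEquiv_naturality, ← hℓ, yonedaEquiv_comp]
      have h1 : (Sigma.ι (fun U => yoneda.obj (X U)) U ≫ Sigma.desc φ).app
          (Opposite.op (s₀ ⁻¹ᵁ U.1).toScheme) (yonedaEquiv ℓ) = (φ U).app _ (yonedaEquiv ℓ) := by
        rw [Sigma.ι_desc]
      rw [NatTrans.comp_app] at h1
      exact h1
    refine Scheme.zariskiTopology.superset_covering ?_ 𝒰.mem_grothendieckTopology
    rw [Sieve.ofArrows, Sieve.generate_le_iff]
    rintro V g ⟨U⟩
    exact main U
  exact Scheme.LocalRepresentability.isRepresentable (F := ⟨P E, isSheaf_P E⟩) hf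


/-- A cofiltered diagram of schemes with affine transition maps has a limit. -/
theorem hasLimit_of_isAffineHom : HasLimit D := by
  obtain ⟨i₀⟩ := IsCofiltered.nonempty (C := I)
  have := hasLimit_over D i₀
  exact Functor.Initial.hasLimit_of_comp (Over.forget i₀)

end Sch

end Groth.Agent.Lib.Helper22.LimAffEx
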