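import Mathlib
import Groth.Agent.Lib.Helper22LimAffEx

universe u
open CategoryTheory Limits AlgebraicGeometry

namespace Groth.Agent.Lib.Helper22.NA1

section crit

variable {𝒥 : Type u} [SmallCategory 𝒥] [IsCofiltered 𝒥] (D : 𝒥 ⥤ Scheme.{u})
  [∀ {i j} (f : i ⟶ j), IsAffineHom (D.map f)]

/-- A cone over a cofiltered diagram with affine transition maps is a limit cone as soon as its
restrictions to the members of an open cover of one stage are limit cones. -/
theorem isLimit_of_isLimit_opensCone (c : Cone D) (j₀ : 𝒥) {ι : Type*} (V : ι → (D.obj j₀).Opens)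
    (hV : ⨆ a, V a = ⊤) (h : ∀ a, Nonempty (IsLimit (opensCone D c j₀ (V a)))) :
    Nonempty (IsLimit c) := by
  have := Groth.Agent.Lib.Helper22.LimAffEx.hasLimit_of_isAffineHom D
  suffices hiso : IsIso ((limit.isLimit D).lift c) from ⟨IsLimit.ofPointIso (limit.isLimit D)⟩
  set φ := (limit.isLimit D).lift c with hφ
  have hφπ : ∀ k, φ ≫ limit.π D k = c.π.app k := fun k => (limit.isLimit D).fac c k
  let L : ι → (limit D).Opens := fun a => (limit.π D j₀) ⁻¹ᵁ (V a)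
  have hL : ⨆ a, L a = ⊤ := by
    simp only [L, ← Scheme.Hom.preimage_iSup, hV]; rfl
  change MorphismProperty.isomorphisms Scheme φ
  refine IsZariskiLocalAtTarget.of_iSup_eq_top L hL fun a => ?_
  obtain ⟨ha⟩ := h a
  have hLa : IsLimit (opensCone D (limit.cone D) j₀ (V a)) :=
    isLimitOpensCone D (limit.cone D) (limit.isLimit D) j₀ (V a)
  let χ : (↑(c.π.app j₀ ⁻¹ᵁ V a) : Scheme) ≅ ↑(L a) := ha.conePointUniqueUpToIso hLa
  have hχ : ∀ k : Over j₀, χ.hom ≫ (limit.π D k.left).resLE (D.map k.hom ⁻¹ᵁ V a) (L a)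
      (by simp only [L, ← Scheme.Hom.comp_preimage, limit.w]; exact le_rfl) =
      (c.π.app k.left).resLE (D.map k.hom ⁻¹ᵁ V a) (c.π.app j₀ ⁻¹ᵁ V a)
      (by rw [← Scheme.Hom.comp_preimage, c.w]) :=
    fun k => ha.conePointUniqueUpToIso_hom_comp hLa k
  have hwh : IsLimit ((limit.cone D).whisker (Over.forget j₀)) :=
    (Functor.Initial.isLimitWhiskerEquiv (Over.forget j₀) (limit.cone D)).symm (limit.isLimit D)
  have key : χ.hom ≫ (L a).ι = (c.π.app j₀ ⁻¹ᵁ V a).ι ≫ φ := by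
    refine hwh.hom_ext fun k => ?_
    have h2 := congr($(hχ k) ≫ (D.map k.hom ⁻¹ᵁ V a).ι)
    simp only [Category.assoc, Scheme.Hom.resLE_comp_ι] at h2
    change (χ.hom ≫ (L a).ι) ≫ limit.π D k.left = ((c.π.app j₀ ⁻¹ᵁ V a).ι ≫ φ) ≫ limit.π D k.left
    rw [Category.assoc, Category.assoc, hφπ]
    exact h2
  have heq : φ ⁻¹ᵁ L a = c.π.app j₀ ⁻¹ᵁ V a := by
    simp only [L, ← Scheme.Hom.comp_preimage, hφπ]
  have : φ ∣_ L a = (Scheme.isoOfEq _ heq).hom ≫ χ.hom := by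
    rw [← cancel_mono (L a).ι]
    simp [key]
  rw [this]
  exact MorphismProperty.isomorphisms.infer_property _

omit [IsCofiltered 𝒥] [∀ {i j} (f : i ⟶ j), IsAffineHom (D.map f)] in
/-- Transfer: if an auxiliary diagram `E` maps to `D` by open immersions whose ranges over `j₀`
are the preimages of `V`, and a limit cone `e` of `E` maps to `c` compatibly with range the
preimage of `V`, then `opensCone D c j₀ V` is a limit cone. -/
theorem isLimit_opensCone_of_natTrans [IsCofiltered 𝒥] (c : Cone D) (j₀ : 𝒥) (V : (D.obj j₀).Opens)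
    (E : 𝒥 ⥤ Scheme.{u}) (ν : E ⟶ D) [∀ k, IsOpenImmersion (ν.app k)]
    (e : Cone E) (he : IsLimit e) (ν' : e.pt ⟶ c.pt) [IsOpenImmersion ν']
    (hcomm : ∀ k, e.π.app k ≫ ν.app k = ν' ≫ c.π.app k)
    (hr : ∀ k : Over j₀, (ν.app k.left).opensRange = D.map k.hom ⁻¹ᵁ V)
    (hr' : ν'.opensRange = c.π.app j₀ ⁻¹ᵁ V) :
    Nonempty (IsLimit (opensCone D c j₀ V)) := by
  have hwh : IsLimit (e.whisker (Over.forget j₀)) :=
    (Functor.Initial.isLimitWhiskerEquiv (Over.forget j₀) e).symm he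
  let θc : ∀ k : Over j₀, E.obj k.left ≅ ↑(D.map k.hom ⁻¹ᵁ V) := fun k =>
    IsOpenImmersion.isoOfRangeEq (ν.app k.left) (D.map k.hom ⁻¹ᵁ V).ι
      (by rw [Scheme.Opens.range_ι, ← hr k]; rfl)
  have hθc : ∀ k, (θc k).hom ≫ (D.map k.hom ⁻¹ᵁ V).ι = ν.app k.left := fun k =>
    IsOpenImmersion.isoOfRangeEq_hom_fac _ _ _
  let θ : Over.forget j₀ ⋙ E ≅ opensDiagram D j₀ V :=
    NatIso.ofComponents θc (fun {k k'} f => by
      change E.map f.left ≫ (θc k').hom = (θc k).hom ≫ (D.map f.left).resLE _ _ _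
      refine (cancel_mono (D.map k'.hom ⁻¹ᵁ V).ι).mp ?_
      simp only [Category.assoc, hθc, Scheme.Hom.resLE_comp_ι]
      rw [reassoc_of% (hθc k)]
      exact ν.naturality f.left)
  have h1 : IsLimit ((Cone.postcompose θ.hom).obj (e.whisker (Over.forget j₀))) :=
    (IsLimit.postcomposeHomEquiv θ _).symm hwh
  let pI : e.pt ≅ ↑(c.π.app j₀ ⁻¹ᵁ V) :=
    IsOpenImmersion.isoOfRangeEq ν' (c.π.app j₀ ⁻¹ᵁ V).ι
      (by rw [Scheme.Opens.range_ι, ← hr']; rfl)
  have hpI : pI.hom ≫ (c.π.app j₀ ⁻¹ᵁ V).ι = ν' := IsOpenImmersion.isoOfRangeEq_hom_fac _ _ _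
  refine ⟨IsLimit.ofIsoLimit h1 (Cone.ext pI fun k => ?_)⟩
  change e.π.app k.left ≫ (θc k).hom = pI.hom ≫ (c.π.app k.left).resLE _ _ _
  refine (cancel_mono (D.map k.hom ⁻¹ᵁ V).ι).mp ?_
  simp only [Category.assoc, hθc, Scheme.Hom.resLE_comp_ι]
  rw [reassoc_of% hpI, hcomm]

/-- Criterion: a cone over a cofiltered diagram with affine transitions is a limit cone if it is
covered by compatible "open pieces" each of which is a limit cone. -/
theorem isLimit_of_cover (c : Cone D) (j₀ : 𝒥) {ι : Type*}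
    (E : ι → (𝒥 ⥤ Scheme.{u})) (ν : ∀ a, E a ⟶ D) [∀ a k, IsOpenImmersion ((ν a).app k)]
    (e : ∀ a, Cone (E a)) (he : ∀ a, IsLimit (e a)) (ν' : ∀ a, (e a).pt ⟶ c.pt)
    [∀ a, IsOpenImmersion (ν' a)]
    (hcomm : ∀ a k, (e a).π.app k ≫ (ν a).app k = ν' a ≫ c.π.app k)
    (hr : ∀ a (k : Over j₀), ((ν a).app k.left).opensRange =
      D.map k.hom ⁻¹ᵁ ((ν a).app j₀).opensRange)
    (hr' : ∀ a, (ν' a).opensRange = c.π.app j₀ ⁻¹ᵁ ((ν a).app j₀).opensRange)
    (hcov : ⨆ a, ((ν a).app j₀).opensRange = ⊤) :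
    Nonempty (IsLimit c) :=
  isLimit_of_isLimit_opensCone D c j₀ (fun a => ((ν a).app j₀).opensRange) hcov fun a =>
    isLimit_opensCone_of_natTrans D c j₀ _ (E a) (ν a) (e a) (he a) (ν' a) (hcomm a) (hr a) (hr' a)

end crit

section reindex

variable {I J : Type u} [Preorder I] [Preorder J] [IsDirected J (fun a b => a ≤ b)]
  {C : Type*} [Category C]

/-- Whiskering a limit cone over `Iᵒᵖ` along a cofinal monotone map `J → I` gives a limit cone. -/
noncomputable def isLimitWhiskerOfCofinal (α : J →o I) (hα : ∀ i, ∃ j, i ≤ α j) (D : Iᵒᵖ ⥤ C)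
    (c : Cone D) (hc : IsLimit c) : IsLimit (c.whisker α.monotone.functor.op) := by
  have : α.monotone.functor.Final := (Monotone.final_functor_iff α.monotone).mpr hα
  exact (Functor.Initial.isLimitWhiskerEquiv α.monotone.functor.op c).symm hc

end reindex

end Groth.Agent.Lib.Helper22.NA1
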