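import Mathlib

universe u
open CategoryTheory Limits AlgebraicGeometry Opposite

namespace Groth.Agent.Lib.Helper22.NA2

section OI

variable {X : Scheme.{u}} {A : CommRingCat.{u}} (φ : A ⟶ Γ(X, ⊤))

/-- restriction of a global section to a basic open -/
noncomputable abbrev resB (b : A) : A ⟶ Γ(X, X.basicOpen (φ b)) :=
  φ ≫ X.presheaf.map (homOfLE (le_top : X.basicOpen (φ b) ≤ ⊤)).op

/-- basic open of `Spec A` as a scheme-open -/
abbrev bO (a : A) : (Spec A).Opens := PrimeSpectrum.basicOpen a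

theorem preimage_basicOpen (a : A) :
    (X.toSpecΓ ≫ Spec.map φ) ⁻¹ᵁ (bO a) = X.basicOpen (φ a) := by
  rw [Scheme.Hom.comp_preimage]
  have h1 : Spec.map φ ⁻¹ᵁ (bO a) = bO (φ a) := rfl
  rw [h1]
  exact Scheme.toSpecΓ_preimage_basicOpen X (φ a)

theorem isOpenImmersion_ι_comp (b : A)
    (haff : IsAffineOpen (X.basicOpen (φ b)))
    (hinj : ∀ a : A, resB φ b a = 0 → ∃ m : ℕ, b ^ m * a = 0)
    (hsurj : ∀ x : Γ(X, X.basicOpen (φ b)), ∃ (a : A) (m : ℕ),
      x * (resB φ b b) ^ m = resB φ b a) :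
    IsOpenImmersion ((X.basicOpen (φ b)).ι ≫ X.toSpecΓ ≫ Spec.map φ) ∧
      Set.range ((X.basicOpen (φ b)).ι ≫ X.toSpecΓ ≫ Spec.map φ) = (bO b : Set (Spec A)) := by
  let _ : Algebra A Γ(X, X.basicOpen (φ b)) := (resB φ b).hom.toAlgebra
  have hunit : IsUnit (resB φ b b) := RingedSpace.isUnit_res_basicOpen _ (φ b)
  have hloc : IsLocalization.Away b Γ(X, X.basicOpen (φ b)) := by
    refine (isLocalization_iff _ _).mpr ⟨?_, ?_, ?_⟩
    · rintro ⟨_, m, rfl⟩
      change IsUnit ((resB φ b) (b ^ m))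
      rw [map_pow]
      exact hunit.pow m
    · intro x
      obtain ⟨a, m, h⟩ := hsurj x
      refine ⟨⟨a, ⟨b ^ m, m, rfl⟩⟩, ?_⟩
      change x * (resB φ b) (b ^ m) = resB φ b a
      rw [map_pow]
      exact h
    · intro x y hxy
      change resB φ b x = resB φ b y at hxy
      obtain ⟨m, hm⟩ := hinj (x - y) (by rw [map_sub, hxy, sub_self])
      refine ⟨⟨b ^ m, m, rfl⟩, ?_⟩
      change b ^ m * x = b ^ m * y
      rw [← sub_eq_zero, ← mul_sub]
      exact hm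
  have h1 : (X.basicOpen (φ b)).ι ≫ X.toSpecΓ ≫ Spec.map φ =
      haff.isoSpec.hom ≫ Spec.map (resB φ b) := by
    rw [IsAffineOpen.isoSpec_hom, resB, Spec.map_comp,
      Scheme.Opens.toSpecΓ_SpecMap_presheaf_map_top_assoc]
  rw [h1]
  have : IsOpenImmersion (Spec.map (resB φ b)) := IsOpenImmersion.of_isLocalization b
  refine ⟨inferInstance, ?_⟩
  have hs : Function.Surjective haff.isoSpec.hom := haff.isoSpec.hom.homeomorph.surjective
  rw [Scheme.Hom.comp_base, TopCat.coe_comp, Set.range_comp,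
    Set.range_eq_univ.mpr hs, Set.image_univ]
  exact PrimeSpectrum.localization_away_comap_range Γ(X, X.basicOpen (φ b)) b

theorem isOpenImmersion_toSpecΓ_comp {ι : Type*} (b : ι → A)
    (hcov : ⨆ k, X.basicOpen (φ (b k)) = ⊤)
    (haff : ∀ k, IsAffineOpen (X.basicOpen (φ (b k))))
    (hinj : ∀ k (a : A), resB φ (b k) a = 0 → ∃ m : ℕ, b k ^ m * a = 0)
    (hsurj : ∀ k (x : Γ(X, X.basicOpen (φ (b k)))), ∃ (a : A) (m : ℕ),
      x * (resB φ (b k) (b k)) ^ m = resB φ (b k) a) :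
    IsOpenImmersion (X.toSpecΓ ≫ Spec.map φ) := by
  have : MorphismProperty.RespectsRight @IsOpenImmersion @IsOpenImmersion :=
    ⟨fun i hi f hf => by
      have := hi; have := hf
      exact inferInstanceAs (IsOpenImmersion (f ≫ i))⟩
  refine IsZariskiLocalAtTarget.of_range_subset_iSup (P := @IsOpenImmersion)
    (fun k => bO (b k)) ?_ fun k => ?_
  · rintro _ ⟨x, rfl⟩
    have hx : x ∈ (⨆ k, X.basicOpen (φ (b k)) : X.Opens) := by rw [hcov]; trivial
    obtain ⟨k, hk⟩ := TopologicalSpace.Opens.mem_iSup.mp hx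
    rw [← preimage_basicOpen φ (b k)] at hk
    exact TopologicalSpace.Opens.mem_iSup.mpr ⟨k, hk⟩
  · set h := X.toSpecΓ ≫ Spec.map φ with hh
    have heq := preimage_basicOpen φ (b k)
    have h2 : IsOpenImmersion ((h ⁻¹ᵁ bO (b k)).ι ≫ h) := by
      have h3 : (h ⁻¹ᵁ bO (b k)).ι ≫ h =
          (X.isoOfEq heq).hom ≫ (X.basicOpen (φ (b k))).ι ≫ h := by
        rw [Scheme.isoOfEq_hom_ι_assoc]
      rw [h3]
      have := (isOpenImmersion_ι_comp φ (b k) (haff k) (hinj k) (hsurj k)).1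
      infer_instance
    have h4 : (h ∣_ bO (b k)) ≫ (bO (b k)).ι =
        (h ⁻¹ᵁ bO (b k)).ι ≫ h := by simp
    rw [← h4] at h2
    exact IsOpenImmersion.of_comp _ (bO (b k)).ι

theorem opensRange_toSpecΓ_comp {ι : Type*} (b : ι → A)
    (hcov : ⨆ k, X.basicOpen (φ (b k)) = ⊤)
    (haff : ∀ k, IsAffineOpen (X.basicOpen (φ (b k))))
    (hinj : ∀ k (a : A), resB φ (b k) a = 0 → ∃ m : ℕ, b k ^ m * a = 0)
    (hsurj : ∀ k (x : Γ(X, X.basicOpen (φ (b k)))), ∃ (a : A) (m : ℕ),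
      x * (resB φ (b k) (b k)) ^ m = resB φ (b k) a) :
    Set.range (X.toSpecΓ ≫ Spec.map φ) = ((⨆ k, bO (b k) : (Spec A).Opens) : Set (Spec A)) := by
  apply subset_antisymm
  · rintro _ ⟨x, rfl⟩
    have hx : x ∈ (⨆ k, X.basicOpen (φ (b k)) : X.Opens) := by rw [hcov]; trivial
    obtain ⟨k, hk⟩ := TopologicalSpace.Opens.mem_iSup.mp hx
    rw [← preimage_basicOpen φ (b k)] at hk
    exact TopologicalSpace.Opens.mem_iSup.mpr ⟨k, hk⟩
  · intro p hp
    obtain ⟨k, hk⟩ := TopologicalSpace.Opens.mem_iSup.mp hp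
    have h2 := (isOpenImmersion_ι_comp φ (b k) (haff k) (hinj k) (hsurj k)).2
    have hk' : p ∈ Set.range ((X.basicOpen (φ (b k))).ι ≫ X.toSpecΓ ≫ Spec.map φ) := by
      rw [h2]; exact hk
    obtain ⟨y, rfl⟩ := hk'
    exact ⟨(X.basicOpen (φ (b k))).ι y, by simp⟩

end OI

section cart

variable {B R R' : Type*} [CommRing B] [CommRing R] [CommRing R'] (s : B →+* R) (t : R' →+* R)

/-- The fibre product ring `B ×_R R'`. -/
def fib : Subring (B × R') :=
  RingHom.eqLocus (s.comp (RingHom.fst B R')) (t.comp (RingHom.snd B R'))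

variable {s t}

theorem mem_fib {x : B × R'} : x ∈ fib s t ↔ s x.1 = t x.2 := Iff.rfl

/-- the element `(g, f)` of the fibre product -/
def fibMk (g : B) (f : R') (h : s g = t f) : fib s t := ⟨(g, f), h⟩

@[simp] theorem fibMk_fst (g : B) (f : R') (h : s g = t f) : (fibMk g f h).1.1 = g := rfl
@[simp] theorem fibMk_snd (g : B) (f : R') (h : s g = t f) : (fibMk g f h).1.2 = f := rfl

theorem fib_ext {x y : fib s t} (h1 : x.1.1 = y.1.1) (h2 : x.1.2 = y.1.2) : x = y :=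
  Subtype.ext (Prod.ext h1 h2)

@[simp] theorem fib_mul_fst (x y : fib s t) : (x * y).1.1 = x.1.1 * y.1.1 := rfl
@[simp] theorem fib_mul_snd (x y : fib s t) : (x * y).1.2 = x.1.2 * y.1.2 := rfl
@[simp] theorem fib_pow_fst (x : fib s t) (m : ℕ) : (x ^ m).1.1 = x.1.1 ^ m := rfl
@[simp] theorem fib_pow_snd (x : fib s t) (m : ℕ) : (x ^ m).1.2 = x.1.2 ^ m := rfl
@[simp] theorem fib_zero_fst : (0 : fib s t).1.1 = 0 := rfl
@[simp] theorem fib_zero_snd : (0 : fib s t).1.2 = 0 := rfl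

variable (g : B) (f : R') (hfg : s g = t f)

include hfg in
theorem cart_inj (hinj : ∀ b : B, s b = 0 → ∃ m : ℕ, g ^ m * b = 0)
    (x : fib s t) (hx : ∃ m : ℕ, f ^ m * x.1.2 = 0) : ∃ m : ℕ, (fibMk g f hfg) ^ m * x = 0 := by
  obtain ⟨m, hm⟩ := hx
  have hx2 : s x.1.1 = t x.1.2 := x.2
  have h1 : s (g ^ m * x.1.1) = 0 := by
    rw [map_mul, map_pow, hfg, hx2, ← map_pow, ← map_mul, hm, map_zero]
  obtain ⟨l, hl⟩ := hinj _ h1
  refine ⟨l + m, fib_ext ?_ ?_⟩
  · simp only [fib_mul_fst, fib_pow_fst, fibMk_fst, fib_zero_fst]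
    rw [pow_add, mul_assoc]; exact hl
  · simp only [fib_mul_snd, fib_pow_snd, fibMk_snd, fib_zero_snd]
    rw [pow_add, mul_assoc, hm, mul_zero]

include hfg in
theorem cart_surj (hsurj : ∀ r : R, ∃ (b : B) (m : ℕ), s b = s g ^ m * r) (r : R') :
    ∃ (x : fib s t) (m : ℕ), x.1.2 = f ^ m * r := by
  obtain ⟨b, m, hb⟩ := hsurj (t r)
  refine ⟨⟨(b, f ^ m * r), ?_⟩, m, rfl⟩
  change s b = t (f ^ m * r)
  rw [hb, map_mul, map_pow, hfg]

end cart

section appTop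


variable {T Y : Scheme.{u}} (κ : T ⟶ Y) [IsOpenImmersion κ] [IsAffine Y]

theorem appTop_inj_of_basicOpen_le (γ : Γ(Y, ⊤)) (hγ : Y.basicOpen γ ≤ κ.opensRange)
    (β : Γ(Y, ⊤)) (hβ : κ.appTop β = 0) : ∃ m : ℕ, γ ^ m * β = 0 := by
  refine exists_pow_mul_eq_zero_of_res_basicOpen_eq_zero_of_isAffineOpen Y (isAffineOpen_top Y) β γ ?_
  have hiso : IsIso (κ.app (Y.basicOpen γ)) := Scheme.Hom.isIso_app κ _ hγ
  have hinj : Function.Injective (κ.app (Y.basicOpen γ)).hom :=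
    ((ConcreteCategory.isIso_iff_bijective (κ.app (Y.basicOpen γ))).mp hiso).1
  apply hinj
  rw [map_zero]
  have h1 := κ.naturality (homOfLE (le_top : Y.basicOpen γ ≤ ⊤)).op
  have h2 := congr($(h1).hom β)
  simp only [CommRingCat.hom_comp, RingHom.coe_comp, Function.comp_apply] at h2
  erw [h2]
  change (T.presheaf.map _).hom (κ.appTop β) = 0
  rw [hβ, map_zero]

theorem appTop_surj_of_basicOpen_le [CompactSpace T] (γ : Γ(Y, ⊤))
    (hγ : Y.basicOpen γ ≤ κ.opensRange) (r : Γ(T, ⊤)) :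
    ∃ (y : Γ(Y, ⊤)) (m : ℕ), κ.appTop y = (κ.appTop γ) ^ m * r := by
  have hiso : IsIso (κ.app (Y.basicOpen γ)) := Scheme.Hom.isIso_app κ _ hγ
  have hsurj : Function.Surjective (κ.app (Y.basicOpen γ)).hom :=
    ((ConcreteCategory.isIso_iff_bijective (κ.app (Y.basicOpen γ))).mp hiso).2
  have hpre : κ ⁻¹ᵁ Y.basicOpen γ = T.basicOpen (κ.appTop γ) := Scheme.preimage_basicOpen κ γ
  obtain ⟨x, hx⟩ := hsurj (T.presheaf.map (homOfLE (by rw [hpre]; exact le_top :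
    κ ⁻¹ᵁ Y.basicOpen γ ≤ ⊤)).op r)
  obtain ⟨m, y, hy⟩ := exists_eq_pow_mul_of_isAffineOpen Y ⊤ (isAffineOpen_top Y) γ x
  have hnat : ∀ z : Γ(Y, ⊤), (κ.app (Y.basicOpen γ)).hom
      ((Y.presheaf.map (homOfLE (le_top : Y.basicOpen γ ≤ ⊤)).op).hom z) =
      (T.presheaf.map (homOfLE (le_top : κ ⁻¹ᵁ Y.basicOpen γ ≤ ⊤)).op).hom (κ.appTop z) := by
    intro z
    have h1 := κ.naturality (homOfLE (le_top : Y.basicOpen γ ≤ ⊤)).op
    exact congr($(h1).hom z)
  have key0 : (T.presheaf.map (homOfLE (le_top : κ ⁻¹ᵁ Y.basicOpen γ ≤ ⊤)).op).hom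
      (κ.appTop y - (κ.appTop γ) ^ m * r) = 0 := by
    rw [map_sub, map_mul, map_pow, ← hnat, ← hnat, sub_eq_zero]
    have hy' : (Y.presheaf.map (homOfLE (le_top : Y.basicOpen γ ≤ ⊤)).op).hom y =
        ((Y.presheaf.map (homOfLE (le_top : Y.basicOpen γ ≤ ⊤)).op).hom γ) ^ m * x := hy
    rw [hy', map_mul, map_pow, hx]
  have key : (κ.appTop y - (κ.appTop γ) ^ m * r) |_ T.basicOpen (κ.appTop γ) = 0 := by
    have gen : ∀ (W' : T.Opens) (h : κ ⁻¹ᵁ Y.basicOpen γ = W'),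
        (T.presheaf.map (homOfLE (le_top : W' ≤ ⊤)).op).hom
          (κ.appTop y - (κ.appTop γ) ^ m * r) = 0 := by
      intro W' h; subst h; exact key0
    exact gen _ hpre
  obtain ⟨m', hm'⟩ := exists_pow_mul_eq_zero_of_res_basicOpen_eq_zero_of_isCompact T
    (U := ⊤) isCompact_univ _ (κ.appTop γ) key
  refine ⟨γ ^ m' * y, m' + m, ?_⟩
  rw [map_mul, map_pow, pow_add, mul_assoc, ← sub_eq_zero, ← mul_sub]
  exact hm'


end appTop

section gens


theorem exists_finset_generators {A B : Type u} [CommRing A] [CommRing B] (σ : A →+* B)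
    (hft : σ.FiniteType) :
    ∃ s : Finset B, ∀ R' : Subring B, (∀ a, σ a ∈ R') → (∀ b ∈ s, b ∈ R') → R' = ⊤ := by
  classical
  let _ : Algebra A B := σ.toAlgebra
  obtain ⟨s, hs⟩ : ∃ s : Finset B, Algebra.adjoin A (s : Set B) = ⊤ := hft.out
  refine ⟨s, ?_⟩
  intro R' h1 hb
  have key : ∀ z ∈ Algebra.adjoin A (s : Set B), z ∈ R' := by
    intro z hz
    induction hz using Algebra.adjoin_induction with
    | mem x hx => exact hb x hx
    | algebraMap r => exact h1 r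
    | add x y _ _ hx hy => exact R'.add_mem hx hy
    | mul x y _ _ hx hy => exact R'.mul_mem hx hy
  rw [eq_top_iff]
  intro z _
  exact key z (by rw [hs]; trivial)

theorem exists_intCast_eq (a : Γ(Spec (CommRingCat.of (ULift.{u} ℤ)), ⊤)) : ∃ n : ℤ, a = n := by
  refine ⟨((Scheme.ΓSpecIso (CommRingCat.of (ULift.{u} ℤ))).hom a).down, ?_⟩
  apply (ConcreteCategory.bijective_of_isIso (Scheme.ΓSpecIso (CommRingCat.of (ULift.{u} ℤ))).hom).1
  rw [map_intCast]
  rfl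

theorem exists_finset_closure_eq_top (X : Scheme.{u})
    [LocallyOfFiniteType (specULiftZIsTerminal.from X)] {V : X.Opens} (hV : IsAffineOpen V) :
    ∃ G : Finset Γ(X, V), Subring.closure (G : Set Γ(X, V)) = ⊤ := by
  have hft : ((specULiftZIsTerminal.from X).appLE ⊤ V le_top).hom.FiniteType :=
    HasRingHomProperty.appLE @LocallyOfFiniteType (specULiftZIsTerminal.from X) inferInstance
      ⟨⊤, isAffineOpen_top _⟩ ⟨V, hV⟩ le_top
  obtain ⟨s, hs⟩ := exists_finset_generators _ hft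
  refine ⟨s, hs _ ?_ fun b hb => Subring.subset_closure hb⟩
  intro a
  obtain ⟨n, rfl⟩ := exists_intCast_eq a
  rw [map_intCast]
  exact intCast_mem _ n


end gens

end Groth.Agent.Lib.Helper22.NA2
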