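import Mathlib

universe u
open CategoryTheory Limits AlgebraicGeometry Opposite

namespace Groth.Agent.Lib.Helper22.NA3

section po

variable {T U V : Scheme.{u}} (f : T ⟶ U) (g : T ⟶ V) [IsOpenImmersion f] [IsOpenImmersion g]

instance isOpenImmersion_inl : IsOpenImmersion (pushout.inl f g) :=
  inferInstanceAs (IsOpenImmersion (colimit.ι (span f g) WalkingSpan.left))

instance isOpenImmersion_inr : IsOpenImmersion (pushout.inr f g) :=
  inferInstanceAs (IsOpenImmersion (colimit.ι (span f g) WalkingSpan.right))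

theorem inl_eq_inr_iff (u : U) (v : V) :
    pushout.inl f g u = pushout.inr f g v ↔ ∃ t : T, f t = u ∧ g t = v := by
  constructor
  · intro h
    obtain ⟨k, fi, fj, x, hx1, hx2⟩ :=
      (Scheme.IsLocallyDirected.ι_eq_ι_iff (F := span f g) (i := WalkingSpan.left)
        (j := WalkingSpan.right) (xi := u) (xj := v)).mp h
    rcases k with _ | _ | _
    · obtain rfl : fi = WalkingSpan.Hom.fst := Subsingleton.elim _ _
      obtain rfl : fj = WalkingSpan.Hom.snd := Subsingleton.elim _ _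
      exact ⟨x, hx1, hx2⟩
    · have fj' : WidePushoutShape.Hom (some WalkingPair.left) (some WalkingPair.right) := fj
      cases fj'
    · have fi' : WidePushoutShape.Hom (some WalkingPair.right) (some WalkingPair.left) := fi
      cases fi'
  · rintro ⟨t, rfl, rfl⟩
    rw [← Scheme.Hom.comp_apply, ← Scheme.Hom.comp_apply, pushout.condition]

theorem exists_inl_or_inr (x : (pushout f g : Scheme.{u})) :
    (∃ u, pushout.inl f g u = x) ∨ (∃ v, pushout.inr f g v = x) := by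
  obtain ⟨k, xk, hx⟩ := Scheme.IsLocallyDirected.ι_jointly_surjective (span f g) x
  rcases k with _ | _ | _
  · left
    refine ⟨f xk, ?_⟩
    rw [← hx]
    change (f ≫ pushout.inl f g) xk = _
    exact congr(($(colimit.w (span f g) WalkingSpan.Hom.fst)) xk)
  · left; exact ⟨xk, hx⟩
  · right; exact ⟨xk, hx⟩

theorem opensRange_inl_sup_inr :
    (pushout.inl f g).opensRange ⊔ (pushout.inr f g).opensRange = ⊤ := by
  rw [eq_top_iff]
  intro x _
  rcases exists_inl_or_inr f g x with ⟨u, rfl⟩ | ⟨v, rfl⟩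
  · exact Or.inl ⟨u, rfl⟩
  · exact Or.inr ⟨v, rfl⟩

theorem inl_preimage_opensRange_inr :
    pushout.inl f g ⁻¹ᵁ (pushout.inr f g).opensRange = f.opensRange := by
  ext u
  constructor
  · rintro ⟨v, hv⟩
    obtain ⟨t, ht, -⟩ := (inl_eq_inr_iff f g u v).mp hv.symm
    exact ⟨t, ht⟩
  · rintro ⟨t, rfl⟩
    exact ⟨g t, ((inl_eq_inr_iff f g (f t) (g t)).mpr ⟨t, rfl, rfl⟩).symm⟩

theorem inr_preimage_opensRange_inl :
    pushout.inr f g ⁻¹ᵁ (pushout.inl f g).opensRange = g.opensRange := by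
  ext v
  constructor
  · rintro ⟨u, hu⟩
    obtain ⟨t, -, ht⟩ := (inl_eq_inr_iff f g u v).mp hu
    exact ⟨t, ht⟩
  · rintro ⟨t, rfl⟩
    exact ⟨f t, ((inl_eq_inr_iff f g (f t) (g t)).mpr ⟨t, rfl, rfl⟩)⟩

theorem isPullback_inl_inr : IsPullback f g (pushout.inl f g) (pushout.inr f g) :=
  (IsOpenImmersion.isPullback g f (pushout.inr f g) (pushout.inl f g)
    pushout.condition (inl_preimage_opensRange_inr f g)).flip

end po

section restrictIso

/-- If `i : U ⟶ P` and `a : U ⟶ Y` are open immersions with `i ≫ d = a` and the preimage of the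
range of `a` under `d` is the range of `i`, then `d` restricted over the range of `a` is an iso. -/
theorem isIso_morphismRestrict_of {P Y U : Scheme.{u}} (d : P ⟶ Y) (a : U ⟶ Y) (i : U ⟶ P)
    [IsOpenImmersion a] [IsOpenImmersion i] (hia : i ≫ d = a)
    (hpre : d ⁻¹ᵁ a.opensRange = i.opensRange) : IsIso (d ∣_ a.opensRange) := by
  let e : U ≅ ↑(d ⁻¹ᵁ a.opensRange) :=
    IsOpenImmersion.isoOfRangeEq i (d ⁻¹ᵁ a.opensRange).ι
      (by rw [Scheme.Opens.range_ι, hpre]; rfl)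
  have he : e.hom ≫ (d ⁻¹ᵁ a.opensRange).ι = i := IsOpenImmersion.isoOfRangeEq_hom_fac _ _ _
  have h1 : (e.hom ≫ d ∣_ a.opensRange) ≫ a.opensRange.ι = a := by
    rw [Category.assoc, morphismRestrict_ι, reassoc_of% he, hia]
  have h2 : e.hom ≫ d ∣_ a.opensRange = a.isoOpensRange.hom := by
    rw [← cancel_mono a.opensRange.ι, h1, Scheme.Hom.isoOpensRange_hom_ι]
  have h3 : d ∣_ a.opensRange = e.inv ≫ a.isoOpensRange.hom := by
    rw [← h2, Iso.inv_hom_id_assoc]
  rw [h3]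
  infer_instance

end restrictIso

section po2

variable {T U V Y : Scheme.{u}} (f : T ⟶ U) (g : T ⟶ V) [IsOpenImmersion f] [IsOpenImmersion g]
  (a : U ⟶ Y) (b : V ⟶ Y) [IsOpenImmersion a] [IsOpenImmersion b]

/-- A cartesian square of open immersions whose two legs cover the target is a pushout square. -/
theorem isPushout_of_isPullback (h : IsPullback f g a b)
    (hcov : a.opensRange ⊔ b.opensRange = ⊤) : IsPushout f g a b := by
  let d := pushout.desc a b h.w
  have hda : pushout.inl f g ≫ d = a := pushout.inl_desc _ _ _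
  have hdb : pushout.inr f g ≫ d = b := pushout.inr_desc _ _ _
  have hab : ∀ u v, a u = b v → ∃ t, f t = u ∧ g t = v := by
    intro u v huv
    obtain ⟨t, ht1, ht2⟩ := Scheme.Pullback.exists_preimage_pullback u v huv
    refine ⟨h.isoPullback.inv t, ?_, ?_⟩
    · rw [← ht1, ← Scheme.Hom.comp_apply, h.isoPullback_inv_fst]
    · rw [← ht2, ← Scheme.Hom.comp_apply, h.isoPullback_inv_snd]
  have hpa : d ⁻¹ᵁ a.opensRange = (pushout.inl f g).opensRange := by
    ext x
    constructor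
    · rintro ⟨u, hu⟩
      rcases exists_inl_or_inr f g x with ⟨u', rfl⟩ | ⟨v', rfl⟩
      · exact ⟨u', rfl⟩
      · rw [← Scheme.Hom.comp_apply, hdb] at hu
        obtain ⟨t, rfl, rfl⟩ := hab u v' hu
        exact ⟨f t, (inl_eq_inr_iff f g _ _).mpr ⟨t, rfl, rfl⟩⟩
    · rintro ⟨u, rfl⟩
      exact ⟨u, by rw [← Scheme.Hom.comp_apply, hda]⟩
  have hpb : d ⁻¹ᵁ b.opensRange = (pushout.inr f g).opensRange := by
    ext x
    constructor
    · rintro ⟨v, hv⟩
      rcases exists_inl_or_inr f g x with ⟨u', rfl⟩ | ⟨v', rfl⟩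
      · rw [← Scheme.Hom.comp_apply, hda] at hv
        obtain ⟨t, rfl, rfl⟩ := hab u' v hv.symm
        exact ⟨g t, ((inl_eq_inr_iff f g _ _).mpr ⟨t, rfl, rfl⟩).symm⟩
      · exact ⟨v', rfl⟩
    · rintro ⟨v, rfl⟩
      exact ⟨v, by rw [← Scheme.Hom.comp_apply, hdb]⟩
  have hiso : IsIso d := by
    change MorphismProperty.isomorphisms Scheme d
    refine IsZariskiLocalAtTarget.of_iSup_eq_top
      (fun i : Bool => if i then a.opensRange else b.opensRange) ?_ ?_
    · rw [iSup_bool_eq]; simpa using hcov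
    · rintro (_ | _)
      · exact isIso_morphismRestrict_of d b (pushout.inr f g) hdb hpb
      · exact isIso_morphismRestrict_of d a (pushout.inl f g) hda hpa
  exact IsPushout.of_iso (IsPushout.of_hasPushout f g) (Iso.refl _) (Iso.refl _) (Iso.refl _)
    (asIso d) (by simp) (by simp) (by simpa using hda) (by simpa using hdb)

end po2

section pomap

variable {T U V T' U' V' : Scheme.{u}} (f : T ⟶ U) (g : T ⟶ V) [IsOpenImmersion f]
  [IsOpenImmersion g] (f' : T' ⟶ U') (g' : T' ⟶ V') [IsOpenImmersion f'] [IsOpenImmersion g']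
  (tU : U' ⟶ U) (tV : V' ⟶ V) (tT : T' ⟶ T) (h1 : f' ≫ tU = tT ≫ f) (h2 : g' ≫ tV = tT ≫ g)

theorem map_preimage_opensRange_inl (hV : ∀ v' : V', tV v' ∈ Set.range g → v' ∈ Set.range g') :
    (pushout.map f' g' f g tU tV tT h1 h2) ⁻¹ᵁ (pushout.inl f g).opensRange =
      (pushout.inl f' g').opensRange := by
  ext x
  constructor
  · rintro ⟨u, hu⟩
    rcases exists_inl_or_inr f' g' x with ⟨u', rfl⟩ | ⟨v', rfl⟩
    · exact ⟨u', rfl⟩
    · rw [← Scheme.Hom.comp_apply, pushout.inr_desc, Scheme.Hom.comp_apply] at hu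
      obtain ⟨t, -, ht⟩ := (inl_eq_inr_iff f g _ _).mp hu
      obtain ⟨t', rfl⟩ := hV v' ⟨t, ht⟩
      exact ⟨f' t', (inl_eq_inr_iff f' g' _ _).mpr ⟨t', rfl, rfl⟩⟩
  · rintro ⟨u', rfl⟩
    refine ⟨tU u', ?_⟩
    rw [← Scheme.Hom.comp_apply, ← Scheme.Hom.comp_apply, pushout.inl_desc]

theorem map_preimage_opensRange_inr (hU : ∀ u' : U', tU u' ∈ Set.range f → u' ∈ Set.range f') :
    (pushout.map f' g' f g tU tV tT h1 h2) ⁻¹ᵁ (pushout.inr f g).opensRange =
      (pushout.inr f' g').opensRange := by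
  ext x
  constructor
  · rintro ⟨v, hv⟩
    rcases exists_inl_or_inr f' g' x with ⟨u', rfl⟩ | ⟨v', rfl⟩
    · rw [← Scheme.Hom.comp_apply, pushout.inl_desc, Scheme.Hom.comp_apply] at hv
      obtain ⟨t, ht, -⟩ := (inl_eq_inr_iff f g _ _).mp hv.symm
      obtain ⟨t', rfl⟩ := hU u' ⟨t, ht⟩
      exact ⟨g' t', ((inl_eq_inr_iff f' g' _ _).mpr ⟨t', rfl, rfl⟩).symm⟩
    · exact ⟨v', rfl⟩
  · rintro ⟨v', rfl⟩
    refine ⟨tV v', ?_⟩
    rw [← Scheme.Hom.comp_apply, ← Scheme.Hom.comp_apply, pushout.inr_desc]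

end pomap

section isPushout

variable {T U V Y : Scheme.{u}} {f : T ⟶ U} {g : T ⟶ V} {a : U ⟶ Y} {b : V ⟶ Y}
  [IsOpenImmersion f] [IsOpenImmersion g]

theorem isPushout_exists_or (hP : IsPushout f g a b) (x : Y) :
    (∃ u, a u = x) ∨ (∃ v, b v = x) := by
  rcases exists_inl_or_inr f g (hP.isoPushout.hom x) with ⟨u, hu⟩ | ⟨v, hv⟩
  · left
    refine ⟨u, ?_⟩
    have : a u = hP.isoPushout.inv (pushout.inl f g u) := by
      rw [← Scheme.Hom.comp_apply, hP.inl_isoPushout_inv]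
    rw [this, hu, ← Scheme.Hom.comp_apply, Iso.hom_inv_id]; rfl
  · right
    refine ⟨v, ?_⟩
    have : b v = hP.isoPushout.inv (pushout.inr f g v) := by
      rw [← Scheme.Hom.comp_apply, hP.inr_isoPushout_inv]
    rw [this, hv, ← Scheme.Hom.comp_apply, Iso.hom_inv_id]; rfl

theorem isPushout_eq_iff (hP : IsPushout f g a b) (u : U) (v : V) :
    a u = b v ↔ ∃ t : T, f t = u ∧ g t = v := by
  constructor
  · intro h
    apply (inl_eq_inr_iff f g u v).mp
    have h1 : pushout.inl f g u = hP.isoPushout.hom (a u) := by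
      rw [← Scheme.Hom.comp_apply, hP.inl_isoPushout_hom]
    have h2 : pushout.inr f g v = hP.isoPushout.hom (b v) := by
      rw [← Scheme.Hom.comp_apply, hP.inr_isoPushout_hom]
    rw [h1, h2, h]
  · rintro ⟨t, rfl, rfl⟩
    rw [← Scheme.Hom.comp_apply, ← Scheme.Hom.comp_apply, hP.w]

variable {T' U' V' Y' : Scheme.{u}} {f' : T' ⟶ U'} {g' : T' ⟶ V'} {a' : U' ⟶ Y'} {b' : V' ⟶ Y'}
  [IsOpenImmersion f'] [IsOpenImmersion g']

theorem isPushout_preimage_left [IsOpenImmersion a] [IsOpenImmersion a']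
    (hP : IsPushout f g a b) (hP' : IsPushout f' g' a' b')
    (m : Y' ⟶ Y) (tU : U' ⟶ U) (tV : V' ⟶ V) (h1 : a' ≫ m = tU ≫ a) (h2 : b' ≫ m = tV ≫ b)
    (hV : ∀ v' : V', tV v' ∈ Set.range g → v' ∈ Set.range g') :
    m ⁻¹ᵁ a.opensRange = a'.opensRange := by
  ext x
  constructor
  · rintro ⟨u, hu⟩
    rcases isPushout_exists_or hP' x with ⟨u', rfl⟩ | ⟨v', rfl⟩
    · exact ⟨u', rfl⟩
    · rw [← Scheme.Hom.comp_apply, h2, Scheme.Hom.comp_apply] at hu
      obtain ⟨t, -, ht⟩ := (isPushout_eq_iff hP _ _).mp hu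
      obtain ⟨t', rfl⟩ := hV v' ⟨t, ht⟩
      exact ⟨f' t', (isPushout_eq_iff hP' _ _).mpr ⟨t', rfl, rfl⟩⟩
  · rintro ⟨u', rfl⟩
    refine ⟨tU u', ?_⟩
    rw [← Scheme.Hom.comp_apply, ← Scheme.Hom.comp_apply, h1]

theorem isPushout_preimage_right [IsOpenImmersion b] [IsOpenImmersion b']
    (hP : IsPushout f g a b) (hP' : IsPushout f' g' a' b')
    (m : Y' ⟶ Y) (tU : U' ⟶ U) (tV : V' ⟶ V) (h1 : a' ≫ m = tU ≫ a) (h2 : b' ≫ m = tV ≫ b)
    (hU : ∀ u' : U', tU u' ∈ Set.range f → u' ∈ Set.range f') :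
    m ⁻¹ᵁ b.opensRange = b'.opensRange := by
  ext x
  constructor
  · rintro ⟨v, hv⟩
    rcases isPushout_exists_or hP' x with ⟨u', rfl⟩ | ⟨v', rfl⟩
    · rw [← Scheme.Hom.comp_apply, h1, Scheme.Hom.comp_apply] at hv
      obtain ⟨t, ht, -⟩ := (isPushout_eq_iff hP _ _).mp hv.symm
      obtain ⟨t', rfl⟩ := hU u' ⟨t, ht⟩
      exact ⟨g' t', ((isPushout_eq_iff hP' _ _).mpr ⟨t', rfl, rfl⟩).symm⟩
    · exact ⟨v', rfl⟩
  · rintro ⟨v', rfl⟩
    refine ⟨tV v', ?_⟩
    rw [← Scheme.Hom.comp_apply, ← Scheme.Hom.comp_apply, h2]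

end isPushout

section localcover


theorem of_isPullback_of_cover {P : MorphismProperty Scheme.{u}} [IsZariskiLocalAtTarget P]
    {X Y U V U' V' : Scheme.{u}} (f : X ⟶ Y) (a : U ⟶ Y) (b : V ⟶ Y) [IsOpenImmersion a]
    [IsOpenImmersion b] (hcov : a.opensRange ⊔ b.opensRange = ⊤)
    {a' : U' ⟶ X} {fU : U' ⟶ U} (hU : IsPullback fU a' a f)
    {b' : V' ⟶ X} {fV : V' ⟶ V} (hV : IsPullback fV b' b f)
    (h1 : P fU) (h2 : P fV) : P f := by
  have key : ∀ {W W' : Scheme.{u}} (c : W ⟶ Y) [IsOpenImmersion c] {c' : W' ⟶ X} {fW : W' ⟶ W}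
      (_ : IsPullback fW c' c f) (_ : P fW), P (f ∣_ c.opensRange) := by
    intro W W' c _ c' fW hW hP
    refine (P.arrow_mk_iso_iff (morphismRestrictOpensRange f c)).mpr ?_
    refine (P.arrow_mk_iso_iff (Arrow.isoMk hW.flip.isoPullback (Iso.refl _) ?_)).mp hP
    simp
  refine IsZariskiLocalAtTarget.of_iSup_eq_top
    (fun i : Bool => if i then a.opensRange else b.opensRange) ?_ ?_
  · rw [iSup_bool_eq]; simpa using hcov
  · rintro (_ | _)
    · exact key b hV h2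
    · exact key a hU h1



theorem of_comp_of_cover {P : MorphismProperty Scheme.{u}} [IsZariskiLocalAtSource P]
    {X Y U V : Scheme.{u}} (f : X ⟶ Y) (a : U ⟶ X) (b : V ⟶ X) [IsOpenImmersion a]
    [IsOpenImmersion b] (hcov : a.opensRange ⊔ b.opensRange = ⊤)
    (h1 : P (a ≫ f)) (h2 : P (b ≫ f)) : P f := by
  have key : ∀ {W : Scheme.{u}} (c : W ⟶ X) [IsOpenImmersion c] (_ : P (c ≫ f)),
      P (c.opensRange.ι ≫ f) := by
    intro W c _ hP
    have : c.opensRange.ι ≫ f = c.isoOpensRange.inv ≫ c ≫ f := by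
      rw [← Category.assoc, Scheme.Hom.isoOpensRange_inv_comp]
    rw [this]
    exact (P.cancel_left_of_respectsIso _ _).mpr hP
  refine IsZariskiLocalAtSource.of_iSup_eq_top
    (fun i : Bool => if i then a.opensRange else b.opensRange) ?_ ?_
  · rw [iSup_bool_eq]; simpa using hcov
  · rintro (_ | _)
    · exact key b h2
    · exact key a h1


end localcover

end Groth.Agent.Lib.Helper22.NA3
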