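import Mathlib
import Groth.Agent.Lib.Helper22NA1
import Groth.Agent.Lib.Helper22NA2
import Groth.Agent.Lib.Helper22NA3

universe u
open CategoryTheory Limits AlgebraicGeometry Opposite

namespace Groth.Agent.Lib.Helper22.NA4

open Groth.Agent.Lib.Helper22

section general

/-- finitely generated subrings -/
def SubringFG {R : Type*} [Ring R] (A : Subring R) : Prop :=
  ∃ F : Finset R, Subring.closure (F : Set R) = A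

theorem SubringFG.sup {R : Type*} [Ring R] {A A' : Subring R} (h : SubringFG A)
    (h' : SubringFG A') : SubringFG (A ⊔ A') := by
  classical
  obtain ⟨F, rfl⟩ := h
  obtain ⟨F', rfl⟩ := h'
  exact ⟨F ∪ F', by rw [Finset.coe_union, Subring.closure_union]⟩

theorem SubringFG.map {R R' : Type*} [Ring R] [Ring R'] (φ : R →+* R') {A : Subring R}
    (h : SubringFG A) : SubringFG (A.map φ) := by
  classical
  obtain ⟨F, rfl⟩ := h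
  exact ⟨F.image φ, by rw [Finset.coe_image, RingHom.map_closure]⟩


instance : IsLocallyNoetherian (Spec (CommRingCat.of (ULift.{u} ℤ))) := by
  have : IsNoetherianRing (ULift.{u} ℤ) := isNoetherianRing_of_ringEquiv ℤ ULift.ringEquiv.symm
  infer_instance

theorem isLocallyNoetherian_of_lft (X : Scheme.{u})
    [LocallyOfFiniteType (specULiftZIsTerminal.from X)] : IsLocallyNoetherian X :=
  LocallyOfFiniteType.isLocallyNoetherian (specULiftZIsTerminal.from X)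

theorem quasiSeparatedSpace_of_lft (X : Scheme.{u})
    [LocallyOfFiniteType (specULiftZIsTerminal.from X)] : QuasiSeparatedSpace X := by
  have := isLocallyNoetherian_of_lft X
  infer_instance

theorem lft_of_isOpenImmersion {X Y : Scheme.{u}} (f : X ⟶ Y) [IsOpenImmersion f]
    [LocallyOfFiniteType (specULiftZIsTerminal.from Y)] :
    LocallyOfFiniteType (specULiftZIsTerminal.from X) := by
  have : specULiftZIsTerminal.from X = f ≫ specULiftZIsTerminal.from Y :=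
    specULiftZIsTerminal.hom_ext _ _
  rw [this]
  infer_instance


theorem lft_Spec_of_fg {R : Type u} [CommRing R] (A : Subring R) (hA : SubringFG A) :
    LocallyOfFiniteType (specULiftZIsTerminal.from (Spec (CommRingCat.of A))) := by
  classical
  let ρ : ULift.{u} ℤ →+* A := (Int.castRingHom A).comp (ULift.ringEquiv : ULift.{u} ℤ ≃+* ℤ).toRingHom
  have h1 : specULiftZIsTerminal.from (Spec (CommRingCat.of A)) =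
      Spec.map (CommRingCat.ofHom ρ) := specULiftZIsTerminal.hom_ext _ _
  rw [h1, HasRingHomProperty.Spec_iff (P := @LocallyOfFiniteType)]
  obtain ⟨F, hF⟩ := hA
  have hFA : ∀ x ∈ F, x ∈ A := fun x hx => hF ▸ Subring.subset_closure hx
  let G : Finset A := F.attach.image fun x => ⟨x.1, hFA x.1 x.2⟩
  let _ : Algebra (ULift.{u} ℤ) A := ρ.toAlgebra
  refine ⟨⟨G, ?_⟩⟩
  rw [eq_top_iff]
  rintro ⟨a, ha⟩ -
  have ha' : a ∈ Subring.closure (F : Set R) := hF ▸ ha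
  suffices h : ∀ (x : R) (hx : x ∈ Subring.closure (F : Set R)),
      (⟨x, hF ▸ hx⟩ : A) ∈ Algebra.adjoin (ULift.{u} ℤ) (G : Set A) from h a ha'
  intro x hx
  induction hx using Subring.closure_induction with
  | mem x hx =>
    apply Algebra.subset_adjoin
    simp only [G, Finset.coe_image, Set.mem_image]
    exact ⟨⟨x, hx⟩, by simp, rfl⟩
  | zero => exact Subalgebra.zero_mem _
  | one => exact Subalgebra.one_mem _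
  | add x y hx hy h1 h2 => exact Subalgebra.add_mem _ h1 h2
  | neg x hx h1 => exact Subalgebra.neg_mem _ h1
  | mul x y hx hy h1 h2 => exact Subalgebra.mul_mem _ h1 h2


end general

/-- The input data for the gluing step of absolute Noetherian approximation. -/
structure CoreData where
  I : Type u
  [pI : Preorder I]
  [dI : IsDirected I (fun a b => a ≤ b)]
  [nI : Nonempty I]
  DU : Iᵒᵖ ⥤ Scheme.{u}
  DT : Iᵒᵖ ⥤ Scheme.{u}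
  ι : DT ⟶ DU
  cU : Cone DU
  cT : Cone DT
  hcU : IsLimit cU
  hcT : IsLimit cT
  ι' : cT.pt ⟶ cU.pt
  B : CommRingCat.{u}
  σ : B ⟶ Γ(cT.pt, ⊤)
  S : Scheme.{u}
  jU : cU.pt ⟶ S
  jW : Spec B ⟶ S
  n : ℕ
  g : Fin n → B
  f : ∀ i : I, Fin n → Γ(DT.obj (op i), ⊤)
  affU : ∀ {i j : Iᵒᵖ} (a : i ⟶ j), IsAffineHom (DU.map a)
  cptU : ∀ i, CompactSpace (DU.obj i)
  lftU : ∀ i, LocallyOfFiniteType (specULiftZIsTerminal.from (DU.obj i))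
  oiι : ∀ i, IsOpenImmersion (ι.app i)
  oiι' : IsOpenImmersion ι'
  oiκ : IsOpenImmersion (cT.pt.toSpecΓ ≫ Spec.map σ)
  oijU : IsOpenImmersion jU
  oijW : IsOpenImmersion jW
  hS : IsPushout ι' (cT.pt.toSpecΓ ≫ Spec.map σ) jU jW
  hcomm : ∀ i, cT.π.app i ≫ ι.app i = ι' ≫ cU.π.app i
  equif : ∀ {i j : Iᵒᵖ} (a : i ⟶ j), (DU.map a) ⁻¹ᵁ (ι.app j).opensRange = (ι.app i).opensRange
  equif' : ∀ i, (cU.π.app i) ⁻¹ᵁ (ι.app i).opensRange = ι'.opensRange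
  hf : ∀ {i j : I} (h : i ≤ j) k, (DT.map (homOfLE h).op).appTop (f i k) = f j k
  hfg : ∀ i k, (cT.π.app (op i)).appTop (f i k) = σ (g k)
  hcov : ∀ i, ⨆ k, (DT.obj (op i)).basicOpen (f i k) = ⊤
  haff : ∀ i k, IsAffineOpen ((DT.obj (op i)).basicOpen (f i k))
  hg : ∀ k, (NA2.bO (g k) : (Spec B).Opens) ≤ (cT.pt.toSpecΓ ≫ Spec.map σ).opensRange

namespace CoreData

variable (𝒟 : CoreData.{u})

instance : Preorder 𝒟.I := 𝒟.pI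
instance : IsDirected 𝒟.I (fun a b => a ≤ b) := 𝒟.dI
instance : Nonempty 𝒟.I := 𝒟.nI
instance {i j : 𝒟.Iᵒᵖ} (a : i ⟶ j) : IsAffineHom (𝒟.DU.map a) := 𝒟.affU a
instance (i) : CompactSpace (𝒟.DU.obj i) := 𝒟.cptU i
instance (i) : LocallyOfFiniteType (specULiftZIsTerminal.from (𝒟.DU.obj i)) := 𝒟.lftU i
instance (i) : IsOpenImmersion (𝒟.ι.app i) := 𝒟.oiι i
instance : IsOpenImmersion 𝒟.ι' := 𝒟.oiι'
instance : IsOpenImmersion 𝒟.jU := 𝒟.oijU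
instance : IsOpenImmersion 𝒟.jW := 𝒟.oijW

/-- the open immersion `T ⟶ Spec B` -/
noncomputable def κ : 𝒟.cT.pt ⟶ Spec 𝒟.B := 𝒟.cT.pt.toSpecΓ ≫ Spec.map 𝒟.σ
instance : IsOpenImmersion 𝒟.κ := 𝒟.oiκ

/-- stages -/
abbrev U (i : 𝒟.I) : Scheme.{u} := 𝒟.DU.obj (op i)
abbrev T (i : 𝒟.I) : Scheme.{u} := 𝒟.DT.obj (op i)

/-- transition maps -/
noncomputable abbrev mU {i j : 𝒟.I} (h : i ≤ j) : 𝒟.U j ⟶ 𝒟.U i := 𝒟.DU.map (homOfLE h).op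
noncomputable abbrev mT {i j : 𝒟.I} (h : i ≤ j) : 𝒟.T j ⟶ 𝒟.T i := 𝒟.DT.map (homOfLE h).op

theorem mU_refl (i : 𝒟.I) : 𝒟.mU (le_refl i) = 𝟙 _ := by
  change 𝒟.DU.map (𝟙 (op i)) = _
  exact 𝒟.DU.map_id _

theorem mT_refl (i : 𝒟.I) : 𝒟.mT (le_refl i) = 𝟙 _ := by
  change 𝒟.DT.map (𝟙 (op i)) = _
  exact 𝒟.DT.map_id _

theorem mU_trans {i j k : 𝒟.I} (h : i ≤ j) (h' : j ≤ k) :
    𝒟.mU h' ≫ 𝒟.mU h = 𝒟.mU (h.trans h') := by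
  rw [mU, mU, ← Functor.map_comp]; rfl

theorem mT_trans {i j k : 𝒟.I} (h : i ≤ j) (h' : j ≤ k) :
    𝒟.mT h' ≫ 𝒟.mT h = 𝒟.mT (h.trans h') := by
  rw [mT, mT, ← Functor.map_comp]; rfl

theorem mT_ι {i j : 𝒟.I} (h : i ≤ j) : 𝒟.mT h ≫ 𝒟.ι.app (op i) = 𝒟.ι.app (op j) ≫ 𝒟.mU h :=
  𝒟.ι.naturality _

theorem cT_w {i j : 𝒟.I} (h : i ≤ j) : 𝒟.cT.π.app (op j) ≫ 𝒟.mT h = 𝒟.cT.π.app (op i) :=
  𝒟.cT.w _

theorem cU_w {i j : 𝒟.I} (h : i ≤ j) : 𝒟.cU.π.app (op j) ≫ 𝒟.mU h = 𝒟.cU.π.app (op i) :=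
  𝒟.cU.w _

/-! ### The rings -/

/-- `R i = Γ(T i)` -/
abbrev R (i : 𝒟.I) : Type u := Γ(𝒟.T i, ⊤)
/-- sections of the limit `T` -/
abbrev Rl : Type u := Γ(𝒟.cT.pt, ⊤)

/-- `B → Γ(T)` -/
def s : 𝒟.B →+* 𝒟.Rl := 𝒟.σ.hom
/-- `Γ(T i) → Γ(T)` -/
noncomputable def t (i : 𝒟.I) : 𝒟.R i →+* 𝒟.Rl := (𝒟.cT.π.app (op i)).appTop.hom
/-- `Γ(T i) → Γ(T j)` -/
noncomputable def ρ {i j : 𝒟.I} (h : i ≤ j) : 𝒟.R i →+* 𝒟.R j := (𝒟.mT h).appTop.hom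

theorem t_ρ {i j : 𝒟.I} (h : i ≤ j) (r : 𝒟.R i) : 𝒟.t j (𝒟.ρ h r) = 𝒟.t i r := by
  have := congr($(𝒟.cT_w h).appTop.hom r)
  rw [Scheme.Hom.comp_appTop] at this
  exact this

theorem ρ_refl (i : 𝒟.I) (r : 𝒟.R i) : 𝒟.ρ (le_refl i) r = r := by
  simp [ρ, mT_refl]

theorem ρ_trans {i j k : 𝒟.I} (h : i ≤ j) (h' : j ≤ k) (r : 𝒟.R i) :
    𝒟.ρ h' (𝒟.ρ h r) = 𝒟.ρ (h.trans h') r := by
  have := congr($(𝒟.mT_trans h h').appTop.hom r)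
  rw [Scheme.Hom.comp_appTop] at this
  exact this

theorem ρ_f {i j : 𝒟.I} (h : i ≤ j) (k : Fin 𝒟.n) : 𝒟.ρ h (𝒟.f i k) = 𝒟.f j k := 𝒟.hf h k

theorem t_f (i : 𝒟.I) (k : Fin 𝒟.n) : 𝒟.t i (𝒟.f i k) = 𝒟.s (𝒟.g k) := 𝒟.hfg i k

/-- the fibre product ring `B ×_{Γ(T)} Γ(T i)` (as a type, with a direct `CommRing` instance) -/
def Bi (i : 𝒟.I) : Type u := ↥(NA2.fib 𝒟.s (𝒟.t i))

noncomputable instance (i : 𝒟.I) : CommRing (𝒟.Bi i) :=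
  inferInstanceAs (CommRing ↥(NA2.fib 𝒟.s (𝒟.t i)))

/-- first projection `B_i → B` -/
noncomputable def p1 (i : 𝒟.I) : 𝒟.Bi i →+* 𝒟.B :=
  (RingHom.fst _ _).comp (NA2.fib 𝒟.s (𝒟.t i)).subtype
/-- second projection `B_i → Γ(T i)` -/
noncomputable def p2 (i : 𝒟.I) : 𝒟.Bi i →+* 𝒟.R i :=
  (RingHom.snd _ _).comp (NA2.fib 𝒟.s (𝒟.t i)).subtype

theorem s_p1 (i : 𝒟.I) (x : 𝒟.Bi i) : 𝒟.s (𝒟.p1 i x) = 𝒟.t i (𝒟.p2 i x) := x.2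

theorem Bi_ext {i : 𝒟.I} {x y : 𝒟.Bi i} (h1 : 𝒟.p1 i x = 𝒟.p1 i y) (h2 : 𝒟.p2 i x = 𝒟.p2 i y) :
    x = y := NA2.fib_ext h1 h2

/-- constructor -/
def Bi.mk {𝒟 : CoreData.{u}} {i : 𝒟.I} (b : 𝒟.B) (r : 𝒟.R i) (h : 𝒟.s b = 𝒟.t i r) : 𝒟.Bi i :=
  ⟨(b, r), h⟩

@[simp] theorem p1_mk {i : 𝒟.I} (b : 𝒟.B) (r : 𝒟.R i) (h : 𝒟.s b = 𝒟.t i r) :
    𝒟.p1 i (Bi.mk b r h) = b := rfl
@[simp] theorem p2_mk {i : 𝒟.I} (b : 𝒟.B) (r : 𝒟.R i) (h : 𝒟.s b = 𝒟.t i r) :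
    𝒟.p2 i (Bi.mk b r h) = r := rfl

/-- transition maps of the fibre product rings -/
noncomputable def φ {i j : 𝒟.I} (h : i ≤ j) : 𝒟.Bi i →+* 𝒟.Bi j :=
  ((RingHom.prodMap (RingHom.id 𝒟.B) (𝒟.ρ h)).comp (NA2.fib 𝒟.s (𝒟.t i)).subtype).codRestrict
    (NA2.fib 𝒟.s (𝒟.t j))
    (fun x => by
      change 𝒟.s x.1.1 = 𝒟.t j (𝒟.ρ h x.1.2)
      rw [t_ρ]; exact x.2)

@[simp] theorem p1_φ {i j : 𝒟.I} (h : i ≤ j) (x : 𝒟.Bi i) : 𝒟.p1 j (𝒟.φ h x) = 𝒟.p1 i x := rfl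
@[simp] theorem p2_φ {i j : 𝒟.I} (h : i ≤ j) (x : 𝒟.Bi i) :
    𝒟.p2 j (𝒟.φ h x) = 𝒟.ρ h (𝒟.p2 i x) := rfl

theorem φ_refl (i : 𝒟.I) (x : 𝒟.Bi i) : 𝒟.φ (le_refl i) x = x :=
  𝒟.Bi_ext rfl (by simp [ρ_refl])

theorem φ_trans {i j k : 𝒟.I} (h : i ≤ j) (h' : j ≤ k) (x : 𝒟.Bi i) :
    𝒟.φ h' (𝒟.φ h x) = 𝒟.φ (h.trans h') x :=
  𝒟.Bi_ext rfl (by simp [ρ_trans])

/-- the elements `(g k, f i k)` -/
noncomputable def bb (i : 𝒟.I) (k : Fin 𝒟.n) : 𝒟.Bi i :=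
  Bi.mk (𝒟.g k) (𝒟.f i k) (𝒟.t_f i k).symm

theorem φ_bb {i j : 𝒟.I} (h : i ≤ j) (k : Fin 𝒟.n) : 𝒟.φ h (𝒟.bb i k) = 𝒟.bb j k :=
  𝒟.Bi_ext rfl (by simp [bb, ρ_f])

/-! ### Instances for the `T`-system -/

theorem isPullback_map {x y : 𝒟.Iᵒᵖ} (a : x ⟶ y) :
    IsPullback (𝒟.DT.map a) (𝒟.ι.app x) (𝒟.ι.app y) (𝒟.DU.map a) :=
  IsOpenImmersion.isPullback _ _ _ _ (𝒟.ι.naturality a).symm (𝒟.equif a)

instance {x y : 𝒟.Iᵒᵖ} (a : x ⟶ y) : IsAffineHom (𝒟.DT.map a) :=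
  MorphismProperty.of_isPullback (P := @IsAffineHom) (𝒟.isPullback_map a).flip inferInstance

instance (x : 𝒟.Iᵒᵖ) : LocallyOfFiniteType (specULiftZIsTerminal.from (𝒟.DT.obj x)) :=
  lft_of_isOpenImmersion (𝒟.ι.app x)

instance (x : 𝒟.Iᵒᵖ) : QuasiSeparatedSpace (𝒟.DT.obj x) := quasiSeparatedSpace_of_lft _
instance (x : 𝒟.Iᵒᵖ) : QuasiSeparatedSpace (𝒟.DU.obj x) := quasiSeparatedSpace_of_lft _

instance (x : 𝒟.Iᵒᵖ) : CompactSpace (𝒟.DT.obj x) := by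
  induction x using Opposite.rec with | _ i => ?_
  rw [← isCompact_univ_iff]
  have h := 𝒟.hcov i
  have h2 : (Set.univ : Set (𝒟.DT.obj (op i))) =
      ⋃ k, ((𝒟.DT.obj (op i)).basicOpen (𝒟.f i k) : Set (𝒟.DT.obj (op i))) := by
    rw [← TopologicalSpace.Opens.coe_iSup, h]; rfl
  rw [h2]
  exact isCompact_iUnion fun k => (𝒟.haff i k).isCompact

instance : CompactSpace 𝒟.cT.pt := Scheme.compactSpace_of_isLimit 𝒟.DT 𝒟.cT 𝒟.hcT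

/-! ### The base square -/

theorem κ_appTop (b : 𝒟.B) : 𝒟.κ.appTop ((Scheme.ΓSpecIso 𝒟.B).inv b) = 𝒟.σ b := by
  have h : (Scheme.ΓSpecIso 𝒟.B).inv ≫ 𝒟.κ.appTop = 𝒟.σ := by
    rw [κ, Scheme.Hom.comp_appTop, Scheme.toSpecΓ_appTop, ← Scheme.ΓSpecIso_inv_naturality_assoc,
      Iso.inv_hom_id, Category.comp_id]
  exact congr($(h).hom b)

theorem s_inj (k : Fin 𝒟.n) (b : 𝒟.B) (hb : 𝒟.s b = 0) : ∃ m : ℕ, 𝒟.g k ^ m * b = 0 := by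
  have hγ : (Spec 𝒟.B).basicOpen ((Scheme.ΓSpecIso 𝒟.B).inv (𝒟.g k)) ≤ 𝒟.κ.opensRange := by
    rw [basicOpen_eq_of_affine]; exact 𝒟.hg k
  obtain ⟨m, hm⟩ := NA2.appTop_inj_of_basicOpen_le 𝒟.κ _ hγ ((Scheme.ΓSpecIso 𝒟.B).inv b)
    (by rw [κ_appTop]; exact hb)
  refine ⟨m, ?_⟩
  apply (ConcreteCategory.bijective_of_isIso (Scheme.ΓSpecIso 𝒟.B).inv).1
  rw [map_mul, map_pow, map_zero]
  exact hm

theorem s_surj (k : Fin 𝒟.n) (r : 𝒟.Rl) : ∃ (b : 𝒟.B) (m : ℕ), 𝒟.s b = 𝒟.s (𝒟.g k) ^ m * r := by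
  have hγ : (Spec 𝒟.B).basicOpen ((Scheme.ΓSpecIso 𝒟.B).inv (𝒟.g k)) ≤ 𝒟.κ.opensRange := by
    rw [basicOpen_eq_of_affine]; exact 𝒟.hg k
  obtain ⟨y, m, hy⟩ := NA2.appTop_surj_of_basicOpen_le 𝒟.κ _ hγ r
  refine ⟨(Scheme.ΓSpecIso 𝒟.B).hom y, m, ?_⟩
  rw [κ_appTop] at hy
  have h1 : 𝒟.σ ((Scheme.ΓSpecIso 𝒟.B).hom y) = 𝒟.κ.appTop y := by
    rw [← κ_appTop]; simp
  exact h1.trans hy

theorem cart_inj (i : 𝒟.I) (k : Fin 𝒟.n) (x : 𝒟.Bi i)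
    (hx : ∃ m : ℕ, 𝒟.f i k ^ m * 𝒟.p2 i x = 0) : ∃ m : ℕ, 𝒟.bb i k ^ m * x = 0 :=
  NA2.cart_inj (𝒟.g k) (𝒟.f i k) (𝒟.t_f i k).symm (𝒟.s_inj k) x hx

theorem cart_surj (i : 𝒟.I) (k : Fin 𝒟.n) (r : 𝒟.R i) :
    ∃ (x : 𝒟.Bi i) (m : ℕ), 𝒟.p2 i x = 𝒟.f i k ^ m * r :=
  NA2.cart_surj (𝒟.g k) (𝒟.f i k) (𝒟.t_f i k).symm (𝒟.s_surj k) r

/-! ### Good subrings -/

/-- the basic open `D(f i k)` of `T i` -/
noncomputable abbrev Dk (i : 𝒟.I) (k : Fin 𝒟.n) : (𝒟.T i).Opens := (𝒟.T i).basicOpen (𝒟.f i k)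

/-- restriction `Γ(T i) → Γ(T i, D(f i k))` -/
noncomputable def rs (i : 𝒟.I) (k : Fin 𝒟.n) : 𝒟.R i →+* Γ(𝒟.T i, 𝒟.Dk i k) :=
  ((𝒟.T i).presheaf.map (homOfLE (le_top : 𝒟.Dk i k ≤ ⊤)).op).hom

theorem p2_bb (i : 𝒟.I) (k : Fin 𝒟.n) : 𝒟.p2 i (𝒟.bb i k) = 𝒟.f i k := rfl
theorem p1_bb (i : 𝒟.I) (k : Fin 𝒟.n) : 𝒟.p1 i (𝒟.bb i k) = 𝒟.g k := rfl

/-- the sections over `D(f i k)` which are fractions with numerator from `A` -/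
noncomputable def subLoc (i : 𝒟.I) (k : Fin 𝒟.n) (A : Subring (𝒟.Bi i)) (hbb : 𝒟.bb i k ∈ A) :
    Subring Γ(𝒟.T i, 𝒟.Dk i k) where
  carrier := {x | ∃ a ∈ A, ∃ m : ℕ, x * (𝒟.rs i k (𝒟.f i k)) ^ m = 𝒟.rs i k (𝒟.p2 i a)}
  mul_mem' := by
    rintro x x' ⟨a, ha, m, h⟩ ⟨a', ha', m', h'⟩
    refine ⟨a * a', A.mul_mem ha ha', m + m', ?_⟩
    rw [map_mul, map_mul, ← h, ← h', pow_add]; ring
  one_mem' := ⟨1, A.one_mem, 0, by simp⟩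
  add_mem' := by
    rintro x x' ⟨a, ha, m, h⟩ ⟨a', ha', m', h'⟩
    refine ⟨a * 𝒟.bb i k ^ m' + a' * 𝒟.bb i k ^ m,
      A.add_mem (A.mul_mem ha (A.pow_mem hbb _)) (A.mul_mem ha' (A.pow_mem hbb _)), m + m', ?_⟩
    rw [map_add, map_add, map_mul, map_mul, map_mul, map_mul, map_pow, map_pow, map_pow, map_pow,
      p2_bb, ← h, ← h', pow_add]; ring
  zero_mem' := ⟨0, A.zero_mem, 0, by simp⟩
  neg_mem' := by
    rintro x ⟨a, ha, m, h⟩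
    exact ⟨-a, A.neg_mem ha, m, by rw [map_neg, map_neg, ← h, neg_mul]⟩

/-- a subring of `B_i` is good if the chart `T i → Spec A` will be an open immersion -/
def Good (i : 𝒟.I) (A : Subring (𝒟.Bi i)) : Prop :=
  ∃ hbb : ∀ k, 𝒟.bb i k ∈ A, ∀ k, 𝒟.subLoc i k A (hbb k) = ⊤

theorem Good.mono {i : 𝒟.I} {A A' : Subring (𝒟.Bi i)} (h : A ≤ A') (hA : 𝒟.Good i A) :
    𝒟.Good i A' := by
  obtain ⟨hbb, hA⟩ := hA
  refine ⟨fun k => h (hbb k), fun k => ?_⟩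
  rw [eq_top_iff, ← hA k]
  rintro x ⟨a, ha, m, hm⟩
  exact ⟨a, h ha, m, hm⟩

theorem exists_num (i : 𝒟.I) (k : Fin 𝒟.n) (x : Γ(𝒟.T i, 𝒟.Dk i k)) :
    ∃ (z : 𝒟.Bi i) (N : ℕ), x * (𝒟.rs i k (𝒟.f i k)) ^ N = 𝒟.rs i k (𝒟.p2 i z) := by
  obtain ⟨n, y, hy⟩ := exists_eq_pow_mul_of_isCompact_of_isQuasiSeparated (𝒟.T i) ⊤
    isCompact_univ isQuasiSeparated_univ (𝒟.f i k) x
  obtain ⟨z, m, hz⟩ := 𝒟.cart_surj i k y
  refine ⟨z, m + n, ?_⟩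
  rw [hz, map_mul, map_pow]
  have hy' : 𝒟.rs i k y = (𝒟.rs i k (𝒟.f i k)) ^ n * x := hy
  rw [hy', pow_add]; ring

theorem exists_good (i : 𝒟.I) : ∃ A : Subring (𝒟.Bi i), SubringFG A ∧ 𝒟.Good i A := by
  classical
  have hlft : LocallyOfFiniteType (specULiftZIsTerminal.from (𝒟.T i)) :=
    lft_of_isOpenImmersion (𝒟.ι.app (op i))
  have hG : ∀ k, ∃ G : Finset Γ(𝒟.T i, 𝒟.Dk i k),
      Subring.closure (G : Set Γ(𝒟.T i, 𝒟.Dk i k)) = ⊤ :=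
    fun k => NA2.exists_finset_closure_eq_top (𝒟.T i) (𝒟.haff i k)
  choose G hG using hG
  choose z N hz using 𝒟.exists_num i
  let F1 : Finset (𝒟.Bi i) := Finset.univ.image (𝒟.bb i)
  let F2 : Fin 𝒟.n → Finset (𝒟.Bi i) := fun k => (G k).image (z k)
  let F : Finset (𝒟.Bi i) := F1 ∪ Finset.univ.biUnion F2
  have hF1 : ∀ k, 𝒟.bb i k ∈ F := fun k =>
    Finset.mem_union_left _ (Finset.mem_image_of_mem _ (Finset.mem_univ k))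
  have hF2 : ∀ k x, x ∈ G k → z k x ∈ F := fun k x hx =>
    Finset.mem_union_right _ (Finset.mem_biUnion.mpr ⟨k, Finset.mem_univ k,
      Finset.mem_image_of_mem _ hx⟩)
  refine ⟨Subring.closure (F : Set (𝒟.Bi i)), ⟨F, rfl⟩, ?_⟩
  have hbb : ∀ k, 𝒟.bb i k ∈ Subring.closure (F : Set (𝒟.Bi i)) := fun k =>
    Subring.subset_closure (hF1 k)
  refine ⟨hbb, fun k => ?_⟩
  rw [eq_top_iff, ← hG k, Subring.closure_le]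
  intro x hx
  exact ⟨z k x, Subring.subset_closure (hF2 k x hx), N k x, hz k x⟩

/-! ### Charts -/

/-- the ring map `A → Γ(T i)` -/
noncomputable def ψ (i : 𝒟.I) (A : Subring (𝒟.Bi i)) : CommRingCat.of A ⟶ Γ(𝒟.T i, ⊤) :=
  CommRingCat.ofHom ((𝒟.p2 i).comp A.subtype)

/-- the chart `T i ⟶ Spec A` -/
noncomputable def chart (i : 𝒟.I) (A : Subring (𝒟.Bi i)) : 𝒟.T i ⟶ Spec (CommRingCat.of A) :=
  (𝒟.T i).toSpecΓ ≫ Spec.map (𝒟.ψ i A)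

/-- the elements `bb i k` as elements of a good subring -/
noncomputable def bA (i : 𝒟.I) (A : Subring (𝒟.Bi i)) (hA : 𝒟.Good i A) (k : Fin 𝒟.n) :
    CommRingCat.of A := ⟨𝒟.bb i k, hA.choose k⟩

theorem ψ_bA (i : 𝒟.I) (A : Subring (𝒟.Bi i)) (hA : 𝒟.Good i A) (k : Fin 𝒟.n) :
    𝒟.ψ i A (𝒟.bA i A hA k) = 𝒟.f i k := rfl

theorem chart_hinj (i : 𝒟.I) (A : Subring (𝒟.Bi i)) (hA : 𝒟.Good i A) (k : Fin 𝒟.n)
    (a : CommRingCat.of A) (ha : NA2.resB (𝒟.ψ i A) (𝒟.bA i A hA k) a = 0) :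
    ∃ m : ℕ, 𝒟.bA i A hA k ^ m * a = 0 := by
  have h1 : (𝒟.p2 i a.1) |_ (𝒟.T i).basicOpen (𝒟.f i k) = 0 := ha
  obtain ⟨m, hm⟩ := exists_pow_mul_eq_zero_of_res_basicOpen_eq_zero_of_isCompact (𝒟.T i)
    (U := ⊤) isCompact_univ (𝒟.p2 i a.1) (𝒟.f i k) h1
  obtain ⟨m', hm'⟩ := 𝒟.cart_inj i k a.1 ⟨m, hm⟩
  exact ⟨m', Subtype.ext hm'⟩

theorem chart_hsurj (i : 𝒟.I) (A : Subring (𝒟.Bi i)) (hA : 𝒟.Good i A) (k : Fin 𝒟.n)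
    (x : Γ(𝒟.T i, (𝒟.T i).basicOpen (𝒟.ψ i A (𝒟.bA i A hA k)))) :
    ∃ (a : CommRingCat.of A) (m : ℕ),
      x * (NA2.resB (𝒟.ψ i A) (𝒟.bA i A hA k) (𝒟.bA i A hA k)) ^ m =
        NA2.resB (𝒟.ψ i A) (𝒟.bA i A hA k) a := by
  have hx : x ∈ 𝒟.subLoc i k A (hA.choose k) := by rw [hA.choose_spec k]; trivial
  obtain ⟨a, ha, m, hm⟩ := hx
  exact ⟨⟨a, ha⟩, m, hm⟩

theorem isOpenImmersion_chart (i : 𝒟.I) (A : Subring (𝒟.Bi i)) (hA : 𝒟.Good i A) :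
    IsOpenImmersion (𝒟.chart i A) :=
  NA2.isOpenImmersion_toSpecΓ_comp (𝒟.ψ i A) (𝒟.bA i A hA) (𝒟.hcov i) (𝒟.haff i)
    (𝒟.chart_hinj i A hA) (𝒟.chart_hsurj i A hA)

theorem range_chart (i : 𝒟.I) (A : Subring (𝒟.Bi i)) (hA : 𝒟.Good i A) :
    Set.range (𝒟.chart i A) = ((⨆ k, NA2.bO (𝒟.bA i A hA k) :
      (Spec (CommRingCat.of A)).Opens) : Set (Spec (CommRingCat.of A))) :=
  NA2.opensRange_toSpecΓ_comp (𝒟.ψ i A) (𝒟.bA i A hA) (𝒟.hcov i) (𝒟.haff i)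
    (𝒟.chart_hinj i A hA) (𝒟.chart_hsurj i A hA)

/-! ### The index set -/

theorem φ_refl' (i : 𝒟.I) : 𝒟.φ (le_refl i) = RingHom.id _ := RingHom.ext (𝒟.φ_refl i)

theorem φ_trans' {i j k : 𝒟.I} (h : i ≤ j) (h' : j ≤ k) :
    (𝒟.φ h').comp (𝒟.φ h) = 𝒟.φ (h.trans h') := RingHom.ext (𝒟.φ_trans h h')

/-- The index set of the approximating system: pairs `(i, A)` with `A ⊆ B_i` a good finitely
generated subring. -/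
def J : Type u := Σ i : 𝒟.I, {A : Subring (𝒟.Bi i) // SubringFG A ∧ 𝒟.Good i A}

/-- the subring of an index -/
abbrev J.A {𝒟 : CoreData.{u}} (j : 𝒟.J) : Subring (𝒟.Bi j.1) := j.2.1

theorem J.good {𝒟 : CoreData.{u}} (j : 𝒟.J) : 𝒟.Good j.1 (J.A j) := j.2.2.2
theorem J.fg {𝒟 : CoreData.{u}} (j : 𝒟.J) : SubringFG (J.A j) := j.2.2.1

instance : Preorder 𝒟.J where
  le j j' := ∃ h : j.1 ≤ j'.1, (J.A j).map (𝒟.φ h) ≤ J.A j'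
  le_refl j := ⟨le_rfl, by rw [φ_refl', Subring.map_id]⟩
  le_trans j j' j'' := by
    rintro ⟨h, hA⟩ ⟨h', hA'⟩
    refine ⟨h.trans h', ?_⟩
    rw [← φ_trans' _ h h', ← Subring.map_map]
    exact ((Subring.gc_map_comap _).monotone_l hA).trans hA'

theorem J.le_def {𝒟 : CoreData.{u}} {j j' : 𝒟.J} :
    j ≤ j' ↔ ∃ h : j.1 ≤ j'.1, (J.A j).map (𝒟.φ h) ≤ J.A j' := Iff.rfl

theorem J.le_fst {𝒟 : CoreData.{u}} {j j' : 𝒟.J} (h : j ≤ j') : j.1 ≤ j'.1 := h.1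

theorem J.map_le {𝒟 : CoreData.{u}} {j j' : 𝒟.J} (h : j ≤ j') :
    (J.A j).map (𝒟.φ (J.le_fst h)) ≤ J.A j' := h.2

instance : IsDirected 𝒟.J (fun a b => a ≤ b) := by
  refine ⟨fun (j j' : 𝒟.J) => ?_⟩
  obtain ⟨i'', h1, h2⟩ := exists_ge_ge j.1 j'.1
  obtain ⟨A0, hA0fg, hA0⟩ := 𝒟.exists_good i''
  refine ⟨⟨i'', ⟨(J.A j).map (𝒟.φ h1) ⊔ (J.A j').map (𝒟.φ h2) ⊔ A0,
    (((J.fg j).map _).sup ((J.fg j').map _)).sup hA0fg, Good.mono 𝒟 le_sup_right hA0⟩⟩, ?_, ?_⟩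
  · exact ⟨h1, le_sup_of_le_left le_sup_left⟩
  · exact ⟨h2, le_sup_of_le_left le_sup_right⟩

instance : Nonempty 𝒟.J := by
  obtain ⟨i⟩ := 𝒟.nI
  obtain ⟨A0, hA0fg, hA0⟩ := 𝒟.exists_good i
  exact ⟨⟨i, ⟨A0, hA0fg, hA0⟩⟩⟩

/-- the projection `J → I` -/
def α : 𝒟.J →o 𝒟.I := ⟨fun j => j.1, fun _ _ h => J.le_fst h⟩

theorem α_cofinal (i : 𝒟.I) : ∃ j : 𝒟.J, i ≤ 𝒟.α j := by
  obtain ⟨A0, hA0fg, hA0⟩ := 𝒟.exists_good i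
  exact ⟨⟨i, ⟨A0, hA0fg, hA0⟩⟩, le_rfl⟩

/-! ### The glued schemes -/

/-- the ring of an index, as an object of `CommRingCat` -/
noncomputable abbrev J.ring {𝒟 : CoreData.{u}} (j : 𝒟.J) : CommRingCat.{u} := CommRingCat.of (J.A j)

/-- the chart of an index -/
noncomputable abbrev J.chart {𝒟 : CoreData.{u}} (j : 𝒟.J) : 𝒟.T j.1 ⟶ Spec (J.ring j) :=
  𝒟.chart j.1 (J.A j)

instance (j : 𝒟.J) : IsOpenImmersion (J.chart j) := 𝒟.isOpenImmersion_chart _ _ (J.good j)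

/-- the glued scheme `U_i ∪_{T_i} Spec A` -/
noncomputable def Sj (j : 𝒟.J) : Scheme.{u} := pushout (𝒟.ι.app (op j.1)) (J.chart j)

/-- `U_i ⟶ S_j` -/
noncomputable def inl (j : 𝒟.J) : 𝒟.U j.1 ⟶ 𝒟.Sj j := pushout.inl _ _
/-- `Spec A ⟶ S_j` -/
noncomputable def inr (j : 𝒟.J) : Spec (J.ring j) ⟶ 𝒟.Sj j := pushout.inr _ _

instance (j : 𝒟.J) : IsOpenImmersion (𝒟.inl j) := NA3.isOpenImmersion_inl _ _
instance (j : 𝒟.J) : IsOpenImmersion (𝒟.inr j) := NA3.isOpenImmersion_inr _ _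

theorem ι_inl (j : 𝒟.J) : 𝒟.ι.app (op j.1) ≫ 𝒟.inl j = J.chart j ≫ 𝒟.inr j := pushout.condition

/-- transition maps of the rings -/
noncomputable def φA {j j' : 𝒟.J} (h : j ≤ j') : J.ring j ⟶ J.ring j' :=
  CommRingCat.ofHom (((𝒟.φ (J.le_fst h)).comp (J.A j).subtype).codRestrict (J.A j')
    (fun x => J.map_le h ⟨x, x.2, rfl⟩))

theorem φA_val {j j' : 𝒟.J} (h : j ≤ j') (a : J.ring j) :
    ((𝒟.φA h a : J.A j') : 𝒟.Bi j'.1) = 𝒟.φ (J.le_fst h) (a : J.A j).1 := rfl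

theorem φA_refl (j : 𝒟.J) : 𝒟.φA (le_refl j) = 𝟙 _ :=
  CommRingCat.hom_ext (RingHom.ext fun a => Subtype.ext (𝒟.φ_refl _ _))

theorem φA_trans {j j' j'' : 𝒟.J} (h : j ≤ j') (h' : j' ≤ j'') :
    𝒟.φA h ≫ 𝒟.φA h' = 𝒟.φA (h.trans h') :=
  CommRingCat.hom_ext (RingHom.ext fun a => Subtype.ext (𝒟.φ_trans _ _ _))

theorem φA_ψ {j j' : 𝒟.J} (h : j ≤ j') :
    𝒟.φA h ≫ 𝒟.ψ j'.1 (J.A j') = 𝒟.ψ j.1 (J.A j) ≫ (𝒟.mT (J.le_fst h)).appTop := by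
  ext a
  rfl

theorem chart_φA {j j' : 𝒟.J} (h : j ≤ j') :
    J.chart j' ≫ Spec.map (𝒟.φA h) = 𝒟.mT (J.le_fst h) ≫ J.chart j := by
  simp only [J.chart, chart, Category.assoc, ← Spec.map_comp, φA_ψ]
  rw [Spec.map_comp, ← Scheme.toSpecΓ_naturality_assoc]

/-- transition maps of the glued schemes -/
noncomputable def mapS {j j' : 𝒟.J} (h : j ≤ j') : 𝒟.Sj j' ⟶ 𝒟.Sj j :=
  pushout.map _ _ _ _ (𝒟.mU (J.le_fst h)) (Spec.map (𝒟.φA h)) (𝒟.mT (J.le_fst h))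
    (𝒟.mT_ι (J.le_fst h)).symm (𝒟.chart_φA h)

@[reassoc]
theorem inl_mapS {j j' : 𝒟.J} (h : j ≤ j') :
    𝒟.inl j' ≫ 𝒟.mapS h = 𝒟.mU (J.le_fst h) ≫ 𝒟.inl j := pushout.inl_desc _ _ _

@[reassoc]
theorem inr_mapS {j j' : 𝒟.J} (h : j ≤ j') :
    𝒟.inr j' ≫ 𝒟.mapS h = Spec.map (𝒟.φA h) ≫ 𝒟.inr j := pushout.inr_desc _ _ _

theorem Sj_hom_ext {j : 𝒟.J} {Z : Scheme.{u}} {a b : 𝒟.Sj j ⟶ Z}
    (h1 : 𝒟.inl j ≫ a = 𝒟.inl j ≫ b) (h2 : 𝒟.inr j ≫ a = 𝒟.inr j ≫ b) : a = b :=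
  pushout.hom_ext h1 h2

theorem mapS_refl (j : 𝒟.J) : 𝒟.mapS (le_refl j) = 𝟙 _ := by
  apply 𝒟.Sj_hom_ext
  · rw [inl_mapS, mU_refl, Category.id_comp, Category.comp_id]
  · rw [inr_mapS, φA_refl, Spec.map_id, Category.id_comp, Category.comp_id]

theorem mapS_trans {j j' j'' : 𝒟.J} (h : j ≤ j') (h' : j' ≤ j'') :
    𝒟.mapS h' ≫ 𝒟.mapS h = 𝒟.mapS (h.trans h') := by
  apply 𝒟.Sj_hom_ext
  · rw [inl_mapS_assoc, inl_mapS, inl_mapS, ← Category.assoc, mU_trans]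
  · rw [inr_mapS_assoc, inr_mapS, inr_mapS, ← Category.assoc, ← Spec.map_comp, φA_trans]

/-- the approximating system -/
noncomputable def DS : 𝒟.Jᵒᵖ ⥤ Scheme.{u} where
  obj x := 𝒟.Sj x.unop
  map a := 𝒟.mapS (leOfHom a.unop)
  map_id x := 𝒟.mapS_refl _
  map_comp a b := (𝒟.mapS_trans _ _).symm

/-! ### Cartesian properties of the transition maps -/

theorem φA_bA {j j' : 𝒟.J} (h : j ≤ j') (k : Fin 𝒟.n) :
    𝒟.φA h (𝒟.bA j.1 (J.A j) (J.good j) k) = 𝒟.bA j'.1 (J.A j') (J.good j') k :=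
  Subtype.ext (𝒟.φ_bb _ k)

theorem mem_range_chart_iff (j : 𝒟.J) (v : Spec (J.ring j)) :
    v ∈ Set.range (J.chart j) ↔ ∃ k, v ∈ NA2.bO (𝒟.bA j.1 (J.A j) (J.good j) k) := by
  rw [𝒟.range_chart j.1 (J.A j) (J.good j)]
  exact TopologicalSpace.Opens.mem_iSup

theorem mapS_preimage_inl {j j' : 𝒟.J} (h : j ≤ j') :
    𝒟.mapS h ⁻¹ᵁ (𝒟.inl j).opensRange = (𝒟.inl j').opensRange := by
  refine NA3.map_preimage_opensRange_inl _ _ _ _ (𝒟.mU (J.le_fst h)) (Spec.map (𝒟.φA h))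
    (𝒟.mT (J.le_fst h)) (𝒟.mT_ι (J.le_fst h)).symm (𝒟.chart_φA h) ?_
  intro v' hv'
  rw [mem_range_chart_iff] at hv' ⊢
  obtain ⟨k, hk⟩ := hv'
  refine ⟨k, ?_⟩
  rw [← φA_bA 𝒟 h k]
  exact hk

theorem mapS_preimage_inr {j j' : 𝒟.J} (h : j ≤ j') :
    𝒟.mapS h ⁻¹ᵁ (𝒟.inr j).opensRange = (𝒟.inr j').opensRange := by
  refine NA3.map_preimage_opensRange_inr _ _ _ _ (𝒟.mU (J.le_fst h)) (Spec.map (𝒟.φA h))
    (𝒟.mT (J.le_fst h)) (𝒟.mT_ι (J.le_fst h)).symm (𝒟.chart_φA h) ?_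
  intro u' hu'
  have := 𝒟.equif (homOfLE (J.le_fst h)).op
  have h2 : u' ∈ (𝒟.DU.map (homOfLE (J.le_fst h)).op) ⁻¹ᵁ (𝒟.ι.app (op j.1)).opensRange := hu'
  rw [this] at h2
  exact h2

theorem isPullback_inl {j j' : 𝒟.J} (h : j ≤ j') :
    IsPullback (𝒟.mU (J.le_fst h)) (𝒟.inl j') (𝒟.inl j) (𝒟.mapS h) :=
  IsOpenImmersion.isPullback _ _ _ _ (𝒟.inl_mapS h) (𝒟.mapS_preimage_inl h)

theorem isPullback_inr {j j' : 𝒟.J} (h : j ≤ j') :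
    IsPullback (Spec.map (𝒟.φA h)) (𝒟.inr j') (𝒟.inr j) (𝒟.mapS h) :=
  IsOpenImmersion.isPullback _ _ _ _ (𝒟.inr_mapS h) (𝒟.mapS_preimage_inr h)

theorem inl_sup_inr (j : 𝒟.J) : (𝒟.inl j).opensRange ⊔ (𝒟.inr j).opensRange = ⊤ :=
  NA3.opensRange_inl_sup_inr _ _

/-! ### Properties of the approximating system -/

set_option backward.isDefEq.respectTransparency.types false in
instance isAffineHom_mapS {j j' : 𝒟.J} (h : j ≤ j') : IsAffineHom (𝒟.mapS h) :=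
  NA3.of_isPullback_of_cover (P := @IsAffineHom) (𝒟.mapS h) (𝒟.inl j) (𝒟.inr j)
    (𝒟.inl_sup_inr j) (𝒟.isPullback_inl h) (𝒟.isPullback_inr h) inferInstance inferInstance

instance {x y : 𝒟.Jᵒᵖ} (a : x ⟶ y) : IsAffineHom (𝒟.DS.map a) :=
  𝒟.isAffineHom_mapS _

instance (j : 𝒟.J) : CompactSpace (𝒟.Sj j) := by
  rw [← isCompact_univ_iff]
  have h : (Set.univ : Set (𝒟.Sj j)) = Set.range (𝒟.inl j) ∪ Set.range (𝒟.inr j) := by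
    have := congr(($(𝒟.inl_sup_inr j) : Set (𝒟.Sj j)))
    exact this.symm
  rw [h]
  exact (isCompact_range (𝒟.inl j).continuous).union (isCompact_range (𝒟.inr j).continuous)

instance (x : 𝒟.Jᵒᵖ) : CompactSpace (𝒟.DS.obj x) :=
  inferInstanceAs (CompactSpace (𝒟.Sj x.unop))

set_option backward.isDefEq.respectTransparency.types false in
instance lft_Sj (j : 𝒟.J) : LocallyOfFiniteType (specULiftZIsTerminal.from (𝒟.Sj j)) := by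
  refine NA3.of_comp_of_cover (P := @LocallyOfFiniteType) _ (𝒟.inl j) (𝒟.inr j)
    (𝒟.inl_sup_inr j) ?_ ?_
  · rw [specULiftZIsTerminal.hom_ext (𝒟.inl j ≫ specULiftZIsTerminal.from (𝒟.Sj j))
      (specULiftZIsTerminal.from _)]
    infer_instance
  · rw [specULiftZIsTerminal.hom_ext (𝒟.inr j ≫ specULiftZIsTerminal.from (𝒟.Sj j))
      (specULiftZIsTerminal.from _)]
    exact lft_Spec_of_fg _ (J.fg j)

instance (x : 𝒟.Jᵒᵖ) : LocallyOfFiniteType (specULiftZIsTerminal.from (𝒟.DS.obj x)) :=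
  𝒟.lft_Sj x.unop

/-! ### The cone -/

/-- the ring map `A → B` -/
noncomputable def ω (j : 𝒟.J) : J.ring j ⟶ 𝒟.B :=
  CommRingCat.ofHom ((𝒟.p1 j.1).comp (J.A j).subtype)

theorem φA_ω {j j' : 𝒟.J} (h : j ≤ j') : 𝒟.φA h ≫ 𝒟.ω j' = 𝒟.ω j := by
  ext a
  rfl

theorem ω_bA (j : 𝒟.J) (k : Fin 𝒟.n) : 𝒟.ω j (𝒟.bA j.1 (J.A j) (J.good j) k) = 𝒟.g k := rfl

theorem ψ_appTop (j : 𝒟.J) :
    𝒟.ψ j.1 (J.A j) ≫ (𝒟.cT.π.app (op j.1)).appTop = 𝒟.ω j ≫ 𝒟.σ := by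
  ext a
  exact (𝒟.s_p1 j.1 (a : J.A j).1).symm

theorem cT_chart (j : 𝒟.J) : 𝒟.cT.π.app (op j.1) ≫ J.chart j = 𝒟.κ ≫ Spec.map (𝒟.ω j) := by
  simp only [J.chart, chart, κ, Category.assoc, ← Spec.map_comp, ← ψ_appTop]
  rw [Spec.map_comp, ← Scheme.toSpecΓ_naturality_assoc]

/-- the cone maps `S ⟶ S_j` -/
noncomputable def πS (j : 𝒟.J) : 𝒟.S ⟶ 𝒟.Sj j :=
  𝒟.hS.desc (𝒟.cU.π.app (op j.1) ≫ 𝒟.inl j) (Spec.map (𝒟.ω j) ≫ 𝒟.inr j) (by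
    have h1 := 𝒟.hcomm (op j.1)
    rw [← Category.assoc, ← h1, Category.assoc, 𝒟.ι_inl, ← Category.assoc, 𝒟.cT_chart]
    simp [κ])

@[reassoc]
theorem jU_πS (j : 𝒟.J) : 𝒟.jU ≫ 𝒟.πS j = 𝒟.cU.π.app (op j.1) ≫ 𝒟.inl j :=
  𝒟.hS.inl_desc _ _ _

@[reassoc]
theorem jW_πS (j : 𝒟.J) : 𝒟.jW ≫ 𝒟.πS j = Spec.map (𝒟.ω j) ≫ 𝒟.inr j :=
  𝒟.hS.inr_desc _ _ _

theorem πS_mapS {j j' : 𝒟.J} (h : j ≤ j') : 𝒟.πS j' ≫ 𝒟.mapS h = 𝒟.πS j := by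
  apply 𝒟.hS.hom_ext
  · rw [jU_πS_assoc, jU_πS, inl_mapS, ← Category.assoc, 𝒟.cU_w]
  · rw [jW_πS_assoc, jW_πS, inr_mapS, ← Category.assoc, ← Spec.map_comp, φA_ω]

/-- the cone over the approximating system with point `S` -/
noncomputable def cS : Cone 𝒟.DS where
  pt := 𝒟.S
  π :=
    { app := fun x => 𝒟.πS x.unop
      naturality := fun x y a => by
        change 𝟙 𝒟.S ≫ 𝒟.πS (unop y) = 𝒟.πS (unop x) ≫ 𝒟.mapS (leOfHom a.unop)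
        rw [Category.id_comp]
        exact (𝒟.πS_mapS (leOfHom a.unop)).symm }

theorem hS' : IsPushout 𝒟.ι' 𝒟.κ 𝒟.jU 𝒟.jW := 𝒟.hS

theorem isPushout_Sj (j : 𝒟.J) :
    IsPushout (𝒟.ι.app (op j.1)) (J.chart j) (𝒟.inl j) (𝒟.inr j) :=
  IsPushout.of_hasPushout _ _

theorem πS_preimage_inl (j : 𝒟.J) : 𝒟.πS j ⁻¹ᵁ (𝒟.inl j).opensRange = 𝒟.jU.opensRange := by
  refine NA3.isPushout_preimage_left (𝒟.isPushout_Sj j) 𝒟.hS' (𝒟.πS j) (𝒟.cU.π.app (op j.1))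
    (Spec.map (𝒟.ω j)) (𝒟.jU_πS j) (𝒟.jW_πS j) ?_
  intro w hw
  rw [mem_range_chart_iff] at hw
  obtain ⟨k, hk⟩ := hw
  have h1 : w ∈ (NA2.bO (𝒟.g k) : (Spec 𝒟.B).Opens) := by
    rw [← 𝒟.ω_bA j k]; exact hk
  exact 𝒟.hg k h1

theorem πS_preimage_inr (j : 𝒟.J) : 𝒟.πS j ⁻¹ᵁ (𝒟.inr j).opensRange = 𝒟.jW.opensRange := by
  refine NA3.isPushout_preimage_right (𝒟.isPushout_Sj j) 𝒟.hS' (𝒟.πS j) (𝒟.cU.π.app (op j.1))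
    (Spec.map (𝒟.ω j)) (𝒟.jU_πS j) (𝒟.jW_πS j) ?_
  intro u hu
  have h2 : u ∈ (𝒟.cU.π.app (op j.1)) ⁻¹ᵁ (𝒟.ι.app (op j.1)).opensRange := hu
  rw [𝒟.equif'] at h2
  exact h2

/-! ### The ring system and its colimit -/

/-- the functor `j ↦ A_j` -/
noncomputable def ringF : 𝒟.J ⥤ CommRingCat.{u} where
  obj j := J.ring j
  map a := 𝒟.φA (leOfHom a)
  map_id j := 𝒟.φA_refl j
  map_comp a b := (𝒟.φA_trans _ _).symm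

/-- the cocone `A_j → B` -/
noncomputable def ringCocone : Cocone 𝒟.ringF where
  pt := 𝒟.B
  ι :=
    { app := fun j => 𝒟.ω j
      naturality := fun j j' a => by
        change 𝒟.φA (leOfHom a) ≫ 𝒟.ω j' = 𝒟.ω j ≫ 𝟙 _
        rw [Category.comp_id, φA_ω] }

/-- enlarge an index by one element of `B_i` -/
theorem exists_index_mem (i : 𝒟.I) (z : 𝒟.Bi i) : ∃ j : 𝒟.J, j.1 = i ∧
    ∃ a : J.ring j, HEq (a : J.A j).1 z := by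
  classical
  obtain ⟨A0, hA0fg, hA0⟩ := 𝒟.exists_good i
  refine ⟨⟨i, ⟨A0 ⊔ Subring.closure {z}, hA0fg.sup ⟨{z}, by simp⟩, Good.mono 𝒟 le_sup_left hA0⟩⟩,
    rfl, ⟨z, ?_⟩, HEq.rfl⟩
  exact (le_sup_right : Subring.closure {z} ≤ A0 ⊔ Subring.closure {z})
    (Subring.subset_closure (Set.mem_singleton z))

theorem ringCocone_surj (b : 𝒟.B) : ∃ (j : 𝒟.J) (a : J.ring j), b = 𝒟.ω j a := by
  obtain ⟨x, r, hr⟩ := exists_appTop_π_eq_of_isLimit 𝒟.DT 𝒟.cT 𝒟.hcT (𝒟.σ b)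
  induction x using Opposite.rec with | _ i => ?_
  obtain ⟨j, hj, a, ha⟩ := 𝒟.exists_index_mem i (Bi.mk b r hr)
  obtain ⟨i', Aj⟩ := j
  obtain rfl : i' = i := hj
  refine ⟨⟨i', Aj⟩, a, ?_⟩
  have : ((a : J.A (⟨i', Aj⟩ : 𝒟.J)) : 𝒟.Bi i') = Bi.mk b r hr := eq_of_heq ha
  change b = 𝒟.p1 i' (a : J.A (⟨i', Aj⟩ : 𝒟.J)).1
  rw [this]; rfl

theorem ringCocone_inj (j : 𝒟.J) (a a' : J.ring j) (h : 𝒟.ω j a = 𝒟.ω j a') :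
    ∃ (j' : 𝒟.J) (hj : j ≤ j'), 𝒟.φA hj a = 𝒟.φA hj a' := by
  have hp1 : 𝒟.p1 j.1 ((a : J.A j).1 - (a' : J.A j).1) = 0 := by
    rw [map_sub, sub_eq_zero]; exact h
  have h0 : (𝒟.cT.π.app (op j.1)).appTop (𝒟.p2 j.1 ((a : J.A j).1 - (a' : J.A j).1)) = 0 := by
    have := 𝒟.s_p1 j.1 ((a : J.A j).1 - (a' : J.A j).1)
    rw [hp1, map_zero] at this
    exact this.symm
  obtain ⟨x, f, hf⟩ := exists_appTop_map_eq_zero_of_isLimit 𝒟.DT 𝒟.cT 𝒟.hcT _ h0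
  induction x using Opposite.rec with | _ i' => ?_
  have hle : j.1 ≤ i' := leOfHom f.unop
  have hf' : 𝒟.ρ hle (𝒟.p2 j.1 ((a : J.A j).1 - (a' : J.A j).1)) = 0 := by
    have : f = (homOfLE hle).op := Subsingleton.elim _ _
    rw [this] at hf
    exact hf
  have hφ : 𝒟.φ hle ((a : J.A j).1 - (a' : J.A j).1) = 0 := by
    apply 𝒟.Bi_ext
    · rw [p1_φ, hp1, map_zero]
    · rw [p2_φ, hf', map_zero]
  obtain ⟨A0, hA0fg, hA0⟩ := 𝒟.exists_good i'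
  let j' : 𝒟.J := ⟨i', ⟨(J.A j).map (𝒟.φ hle) ⊔ A0, ((J.fg j).map _).sup hA0fg,
    Good.mono 𝒟 le_sup_right hA0⟩⟩
  have hj : j ≤ j' := ⟨hle, le_sup_left⟩
  refine ⟨j', hj, Subtype.ext ?_⟩
  rw [φA_val, φA_val, ← sub_eq_zero, ← map_sub]
  exact hφ

theorem isColimit_ringCocone : Nonempty (IsColimit 𝒟.ringCocone) := by
  have : ReflectsFilteredColimits (forget CommRingCat.{u}) :=
    ⟨fun _ ↦ reflectsColimitsOfShape_of_reflectsIsomorphisms⟩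
  refine ReflectsColimit.reflects (F := forget _)
    (Types.FilteredColimit.isColimitOf' _ _ ?_ ?_)
  · intro b
    obtain ⟨j, a, ha⟩ := 𝒟.ringCocone_surj b
    exact ⟨j, a, ha⟩
  · intro j a a' h
    obtain ⟨j', hj, h'⟩ := 𝒟.ringCocone_inj j a a' h
    exact ⟨j', homOfLE hj, h'⟩

/-! ### The limit -/

/-- the `U`-part of the system -/
noncomputable def EU : 𝒟.Jᵒᵖ ⥤ Scheme.{u} := 𝒟.α.monotone.functor.op ⋙ 𝒟.DU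

/-- the inclusion of the `U`-part -/
noncomputable def νU : 𝒟.EU ⟶ 𝒟.DS where
  app x := 𝒟.inl x.unop
  naturality x y a := (𝒟.inl_mapS (leOfHom a.unop)).symm

instance (x : 𝒟.Jᵒᵖ) : IsOpenImmersion (𝒟.νU.app x) :=
  inferInstanceAs (IsOpenImmersion (𝒟.inl x.unop))

/-- the limit cone of the `U`-part -/
noncomputable def eU : Cone 𝒟.EU := 𝒟.cU.whisker 𝒟.α.monotone.functor.op

/-- it is a limit cone -/
noncomputable def heU : IsLimit 𝒟.eU :=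
  NA1.isLimitWhiskerOfCofinal 𝒟.α 𝒟.α_cofinal 𝒟.DU 𝒟.cU 𝒟.hcU

/-- the `W`-part of the system -/
noncomputable def EW : 𝒟.Jᵒᵖ ⥤ Scheme.{u} := 𝒟.ringF.op ⋙ Scheme.Spec

/-- the inclusion of the `W`-part -/
noncomputable def νW : 𝒟.EW ⟶ 𝒟.DS where
  app x := 𝒟.inr x.unop
  naturality x y a := (𝒟.inr_mapS (leOfHom a.unop)).symm

instance (x : 𝒟.Jᵒᵖ) : IsOpenImmersion (𝒟.νW.app x) :=
  inferInstanceAs (IsOpenImmersion (𝒟.inr x.unop))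

/-- the limit cone of the `W`-part -/
noncomputable def eW : Cone 𝒟.EW := Scheme.Spec.mapCone 𝒟.ringCocone.op

/-- `jW` with the types of the cones -/
noncomputable def jW' : 𝒟.eW.pt ⟶ 𝒟.cS.pt := 𝒟.jW
instance : IsOpenImmersion 𝒟.jW' := 𝒟.oijW
/-- `jU` with the types of the cones -/
noncomputable def jU' : 𝒟.eU.pt ⟶ 𝒟.cS.pt := 𝒟.jU
instance : IsOpenImmersion 𝒟.jU' := 𝒟.oijU

theorem isLimit_cS : Nonempty (IsLimit 𝒟.cS) := by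
  obtain ⟨j0⟩ := (inferInstance : Nonempty 𝒟.J)
  obtain ⟨hcol⟩ := 𝒟.isColimit_ringCocone
  have heW : IsLimit 𝒟.eW := isLimitOfPreserves Scheme.Spec hcol.op
  refine NA1.isLimit_of_isLimit_opensCone 𝒟.DS 𝒟.cS (op j0)
    (fun b : Bool => if b then (𝒟.inl j0).opensRange else (𝒟.inr j0).opensRange) ?_ ?_
  · rw [iSup_bool_eq]
    simp only [↓reduceIte, Bool.false_eq_true]
    exact 𝒟.inl_sup_inr j0
  · rintro (_ | _)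
    · refine NA1.isLimit_opensCone_of_natTrans 𝒟.DS 𝒟.cS (op j0) _ 𝒟.EW 𝒟.νW 𝒟.eW heW 𝒟.jW'
        ?_ ?_ ?_
      · intro k
        exact (𝒟.jW_πS k.unop).symm
      · intro k
        exact (𝒟.mapS_preimage_inr (leOfHom k.hom.unop)).symm
      · exact (𝒟.πS_preimage_inr j0).symm
    · refine NA1.isLimit_opensCone_of_natTrans 𝒟.DS 𝒟.cS (op j0) _ 𝒟.EU 𝒟.νU 𝒟.eU 𝒟.heU 𝒟.jU'
        ?_ ?_ ?_
      · intro k
        exact (𝒟.jU_πS k.unop).symm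
      · intro k
        exact (𝒟.mapS_preimage_inl (leOfHom k.hom.unop)).symm
      · exact (𝒟.πS_preimage_inl j0).symm

end CoreData

end Groth.Agent.Lib.Helper22.NA4
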