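import Mathlib

/-!
# Finite type ideal sheaves (Stacks 01PD / 01PG) in `IdealSheafData` language

Main results (ns `Groth.Agent.Lib.Helper22.FTIdeal`):
* `FT J` : all ideals of `J` on affine opens are f.g.; `FTOn J U`.
* `extend_step`, `extend_finset` : extension of finite type sub-ideal sheaves (keeping `≤ J`).
* `exists_ft_le_mem` : on a qcqs scheme every local section of an ideal sheaf lies in a finite type
  sub-ideal sheaf.
* `sSup_ftSub`, `directedOn_ftSub` : an ideal sheaf on a qcqs scheme is the directed sup of its finite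
  type sub-ideal sheaves.
* `exists_pow_eq_bot` : finite type + locally nilpotent + quasi-compact ⇒ nilpotent.
-/

set_option autoImplicit false
universe u

namespace Groth.Agent.Lib.Helper22.FTIdeal

open AlgebraicGeometry CategoryTheory TopologicalSpace

variable {X : Scheme.{u}}

/-- `J` is of finite type on the open `U`: its ideals on affine opens inside `U` are f.g. -/
def FTOn (J : X.IdealSheafData) (U : X.Opens) : Prop :=
  ∀ W : X.affineOpens, W.1 ≤ U → (J.ideal W).FG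

/-- `J` is of finite type. -/
def FT (J : X.IdealSheafData) : Prop := ∀ W : X.affineOpens, (J.ideal W).FG

theorem FTOn.mono {J : X.IdealSheafData} {U U' : X.Opens} (h : FTOn J U) (hU : U' ≤ U) :
    FTOn J U' := fun W hW => h W (hW.trans hU)

theorem ft_iff_ftOn_top {J : X.IdealSheafData} : FT J ↔ FTOn J ⊤ :=
  ⟨fun h W _ => h W, fun h W => h W le_top⟩

theorem ftOn_of_fg {J : X.IdealSheafData} (V : X.affineOpens) (h : (J.ideal V).FG) :
    FTOn J V.1 := by
  intro W hW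
  have hWV : W ≤ V := hW
  rw [← J.map_ideal hWV]
  exact h.map _

theorem ftOn_bot (J : X.IdealSheafData) : FTOn J ⊥ := by
  intro W hW
  have : Subsingleton Γ(X, W.1) := by
    have : W.1 = ⊥ := le_bot_iff.mp hW
    rw [this]
    infer_instance
  have : J.ideal W = ⊥ := Subsingleton.elim _ _
  rw [this]
  exact Submodule.fg_bot

theorem fg_of_span_isLocalization {R : Type*} [CommRing R] (K : Ideal R) (t : Set R)
    (ht : Ideal.span t = ⊤) (A : t → Type*) [∀ g, CommRing (A g)] [∀ g, Algebra R (A g)]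
    [∀ g : t, IsLocalization.Away g.1 (A g)]
    (H : ∀ g : t, (K.map (algebraMap R (A g))).FG) : K.FG := by
  refine Ideal.fg_of_localizationSpan t ht fun g => ?_
  let e : A g ≃ₐ[R] Localization.Away g.1 :=
    IsLocalization.algEquiv (Submonoid.powers g.1) (A g) (Localization.Away g.1)
  have h1 : K.map (algebraMap R (Localization.Away g.1)) =
      (K.map (algebraMap R (A g))).map (e : A g →+* Localization.Away g.1) := by
    rw [Ideal.map_map]
    congr 1
    ext x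
    simp
  rw [h1]
  exact (H g).map _

theorem FTOn.sup {J : X.IdealSheafData} {U₁ U₂ : X.Opens} (h₁ : FTOn J U₁) (h₂ : FTOn J U₂) :
    FTOn J (U₁ ⊔ U₂) := by
  intro W hW
  -- cover W by basic opens inside U₁ or U₂
  have key : ∀ x : W.1, ∃ r : Γ(X, W.1), x.1 ∈ X.basicOpen r ∧
      (X.basicOpen r ≤ U₁ ∨ X.basicOpen r ≤ U₂) := by
    intro ⟨x, hx⟩
    rcases hW hx with h | h
    · obtain ⟨r, hr, hxr⟩ := W.2.exists_basicOpen_le (V := U₁) ⟨x, h⟩ hx
      exact ⟨r, hxr, Or.inl hr⟩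
    · obtain ⟨r, hr, hxr⟩ := W.2.exists_basicOpen_le (V := U₂) ⟨x, h⟩ hx
      exact ⟨r, hxr, Or.inr hr⟩
  choose r hxr hr using key
  have hspan : Ideal.span (Set.range r) = ⊤ := by
    rw [← W.2.self_le_iSup_basicOpen_iff]
    exact fun x hxW ↦ Opens.mem_iSup.mpr ⟨⟨_, ⟨x, hxW⟩, rfl⟩, hxr ⟨x, hxW⟩⟩
  have inst := W.2.isLocalization_basicOpen
  refine fg_of_span_isLocalization _ _ hspan (fun g => Γ(X, X.basicOpen g.1)) ?_
  rintro ⟨_, x, rfl⟩
  have hle : X.affineBasicOpen (r x) ≤ W := X.affineBasicOpen_le (r x)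
  have hmap := J.map_ideal hle
  have : (J.ideal (X.affineBasicOpen (r x))).FG := by
    rcases hr x with h | h
    · exact h₁ _ h
    · exact h₂ _ h
  rw [← hmap] at this
  exact this

theorem exists_fg_le_map_eq {R S : Type*} [CommRing R] [CommRing S] (φ : R →+* S) (K : Ideal R)
    (h : (K.map φ).FG) : ∃ K₀ : Ideal R, K₀ ≤ K ∧ K₀.FG ∧ K₀.map φ = K.map φ := by
  unfold Ideal.map at h
  obtain ⟨s', hs', hs⟩ := (Submodule.fg_span_iff_fg_span_finset_subset (R := S) (φ '' K)).mp h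
  classical
  have : ∀ y : s', ∃ x : R, x ∈ K ∧ φ x = y.1 := fun y => hs' y.2
  choose x hxK hx using this
  refine ⟨Ideal.span (Set.range x), ?_, ?_, ?_⟩
  · rw [Ideal.span_le]
    rintro _ ⟨y, rfl⟩
    exact hxK y
  · exact ⟨Finset.univ.image x, by simp⟩
  · apply le_antisymm
    · exact Ideal.map_mono (by rw [Ideal.span_le]; rintro _ ⟨y, rfl⟩; exact hxK y)
    · unfold Ideal.map
      change Submodule.span S (φ '' K) ≤ _
      rw [hs, Submodule.span_le]
      intro y hy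
      have : y = φ (x ⟨y, hy⟩) := (hx ⟨y, hy⟩).symm
      rw [this]
      exact Ideal.subset_span ⟨_, Ideal.subset_span ⟨_, rfl⟩, rfl⟩

/-- closed subscheme `Spec (Γ(X,V)/M) ⟶ X`. -/
noncomputable def quotMap {V : X.Opens} (hV : IsAffineOpen V) (M : Ideal Γ(X, V)) :
    Spec (.of (Γ(X, V) ⧸ M)) ⟶ X :=
  Spec.map (CommRingCat.ofHom (Ideal.Quotient.mk M)) ≫ hV.fromSpec

theorem quotMap_preimage_self {V : X.Opens} (hV : IsAffineOpen V) (M : Ideal Γ(X, V)) :
    quotMap hV M ⁻¹ᵁ V = ⊤ := by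
  unfold quotMap
  rw [Scheme.Hom.comp_preimage, hV.fromSpec_preimage_self]
  rfl

set_option backward.isDefEq.respectTransparency false in
theorem ker_quotMap_app_self {V : X.Opens} (hV : IsAffineOpen V) (M : Ideal Γ(X, V)) :
    RingHom.ker ((quotMap hV M).app V).hom = M := by
  have h1 : (quotMap hV M).app V =
      CommRingCat.ofHom (Ideal.Quotient.mk M) ≫ (Scheme.ΓSpecIso _).inv ≫
        (Spec (.of (Γ(X, V) ⧸ M))).presheaf.map (eqToHom (quotMap_preimage_self hV M)).op := by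
    unfold quotMap
    rw [Scheme.Hom.comp_app, hV.fromSpec_app_self, Category.assoc, Scheme.Hom.naturality]
    rw [← Category.assoc, ← Category.assoc, ← Scheme.Hom.appTop, ← Scheme.ΓSpecIso_inv_naturality,
      Category.assoc]
    rfl
  rw [h1]
  have h2 : Function.Injective ((Scheme.ΓSpecIso (.of (Γ(X, V) ⧸ M))).inv ≫
        (Spec (.of (Γ(X, V) ⧸ M))).presheaf.map (eqToHom (quotMap_preimage_self hV M)).op).hom := by
    have : IsIso ((Scheme.ΓSpecIso (.of (Γ(X, V) ⧸ M))).inv ≫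
        (Spec (.of (Γ(X, V) ⧸ M))).presheaf.map (eqToHom (quotMap_preimage_self hV M)).op) :=
      inferInstance
    exact ((ConcreteCategory.isIso_iff_bijective _).mp this).1
  rw [CommRingCat.hom_comp, RingHom.ker_comp_of_injective _ h2]
  exact Ideal.mk_ker

theorem range_quotMap_subset {V : X.Opens} (hV : IsAffineOpen V) (M : Ideal Γ(X, V)) :
    Set.range (quotMap hV M) ⊆ V := by
  rintro _ ⟨z, rfl⟩
  have : z ∈ (quotMap hV M ⁻¹ᵁ V) := by rw [quotMap_preimage_self]; trivial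
  exact this

/-- the ideal sheaf of `Spec (Γ(X,V)/M) ⟶ X`. -/
noncomputable def quotKer {V : X.Opens} (hV : IsAffineOpen V) (M : Ideal Γ(X, V)) :
    X.IdealSheafData := (quotMap hV M).ker

theorem quotKer_ideal_self [QuasiSeparatedSpace X] (V : X.affineOpens) (M : Ideal Γ(X, V.1)) :
    (quotKer V.2 M).ideal V = M := by
  unfold quotKer
  rw [Scheme.Hom.ker_apply]
  exact ker_quotMap_app_self V.2 M

theorem quotKer_ideal_of_le [QuasiSeparatedSpace X] (V : X.affineOpens) (M : Ideal Γ(X, V.1))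
    (D : X.affineOpens) (h : D.1 ≤ V.1) :
    (quotKer V.2 M).ideal D = M.map (X.presheaf.map (homOfLE h).op).hom := by
  have h' : D ≤ V := h
  rw [← (quotKer V.2 M).map_ideal h', quotKer_ideal_self]
  rfl

/-- Key local computation: a section over `W` whose restrictions to a family of affine opens
`D ≤ W ⊓ V` covering `W ⊓ V` lie in `M·O(D)` lies in the kernel ideal. -/
theorem mem_quotKer_ideal [QuasiSeparatedSpace X] (V : X.affineOpens) (M : Ideal Γ(X, V.1))
    (W : X.affineOpens) (x : Γ(X, W.1))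
    (H : ∀ p : X, p ∈ W.1 → p ∈ V.1 → ∃ (D : X.affineOpens) (hDW : D.1 ≤ W.1) (hDV : D.1 ≤ V.1), p ∈ D.1 ∧
      X.presheaf.map (homOfLE hDW).op x ∈ M.map (X.presheaf.map (homOfLE hDV).op).hom) :
    x ∈ (quotKer V.2 M).ideal W := by
  unfold quotKer
  rw [Scheme.Hom.ker_apply, RingHom.mem_ker]
  apply (Spec (.of (Γ(X, V.1) ⧸ M))).IsSheaf.section_ext
  intro z hz
  have hzV : quotMap V.2 M z ∈ V.1 := range_quotMap_subset V.2 M ⟨z, rfl⟩
  obtain ⟨D, hDW, hDV, hzD, hx⟩ := H _ hz hzV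
  refine ⟨quotMap V.2 M ⁻¹ᵁ D.1, (quotMap V.2 M).preimage_mono hDW, hzD, ?_⟩
  rw [map_zero]
  have hnat := (quotMap V.2 M).naturality (homOfLE hDW).op
  have h1 : (Spec (.of (Γ(X, V.1) ⧸ M))).presheaf.map
      (homOfLE ((quotMap V.2 M).preimage_mono hDW)).op ((quotMap V.2 M).app W.1 x) =
      (quotMap V.2 M).app D.1 (X.presheaf.map (homOfLE hDW).op x) := by
    have := congrArg (fun φ => φ.hom x) hnat
    simp only [CommRingCat.hom_comp, RingHom.coe_comp, Function.comp_apply] at this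
    exact this.symm
  rw [h1, ← RingHom.mem_ker]
  have h2 := quotKer_ideal_of_le V M D hDV
  unfold quotKer at h2
  rw [Scheme.Hom.ker_apply] at h2
  rw [h2]
  exact hx

theorem extend_step [QuasiSeparatedSpace X] (J : X.IdealSheafData) (U : X.Opens)
    (hU : IsCompact (U : Set X)) (hJU : FTOn J U) (V : X.affineOpens)
    (N : Ideal Γ(X, V.1)) (hN : N.FG) (hNJ : N ≤ J.ideal V) :
    ∃ J' : X.IdealSheafData, J' ≤ J ∧ FTOn J' (U ⊔ V.1) ∧
      (∀ W : X.affineOpens, W.1 ≤ U → J'.ideal W = J.ideal W) ∧ N ≤ J'.ideal V := by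
  classical
  have hUV : IsCompact ((U ⊓ V.1 : X.Opens) : Set X) :=
    QuasiSeparatedSpace.inter_isCompact U.1 V.1.1 U.2 hU V.1.2 V.2.isCompact
  obtain ⟨s, hs, hsUV⟩ := isCompact_iff_finite_and_eq_biUnion_affineOpens.mp hUV
  have hsle : ∀ D ∈ s, (D : X.Opens) ≤ U ⊓ V.1 := by
    intro D hD
    rw [hsUV]
    exact le_iSup₂ (f := fun (i : X.affineOpens) (_ : i ∈ s) => (i : X.Opens)) D hD
  have hsU : ∀ D ∈ s, (D : X.Opens) ≤ U := fun D hD => (hsle D hD).trans inf_le_left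
  have hsV : ∀ D ∈ s, (D : X.Opens) ≤ V.1 := fun D hD => (hsle D hD).trans inf_le_right
  -- choose f.g. sub-ideals
  have hex : ∀ D : s, ∃ K₀ : Ideal Γ(X, V.1), K₀ ≤ J.ideal V ∧ K₀.FG ∧
      K₀.map (X.presheaf.map (homOfLE (hsV D.1 D.2)).op).hom = J.ideal D.1 := by
    intro D
    have hDV : D.1 ≤ V := hsV D.1 D.2
    have hm := J.map_ideal hDV
    have hfg : ((J.ideal V).map (X.presheaf.map (homOfLE (hsV D.1 D.2)).op).hom).FG := by
      have := hJU D.1 (hsU D.1 D.2)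
      rw [← hm] at this
      exact this
    obtain ⟨K₀, h1, h2, h3⟩ := exists_fg_le_map_eq _ _ hfg
    exact ⟨K₀, h1, h2, h3.trans hm⟩
  choose MD hMDle hMDfg hMDmap using hex
  have : Finite s := hs.to_subtype
  set M' : Ideal Γ(X, V.1) := N ⊔ ⨆ D : s, MD D with hM'
  have hM'le : M' ≤ J.ideal V := sup_le hNJ (iSup_le hMDle)
  have hM'fg : M'.FG := Submodule.FG.sup hN (Submodule.fg_iSup _ hMDfg)
  have hV' : (J ⊓ quotKer V.2 M').ideal V = M' := by
    change J.ideal V ⊓ (quotKer V.2 M').ideal V = M'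
    rw [quotKer_ideal_self]
    exact inf_eq_right.mpr hM'le
  have hW' : ∀ W : X.affineOpens, W.1 ≤ U → (J ⊓ quotKer V.2 M').ideal W = J.ideal W := by
    intro W hWU
    change J.ideal W ⊓ (quotKer V.2 M').ideal W = J.ideal W
    refine inf_eq_left.mpr ?_
    intro x hx
    refine mem_quotKer_ideal V M' W x ?_
    intro p hpW hpV
    have hpUV : p ∈ U ⊓ V.1 := ⟨hWU hpW, hpV⟩
    rw [hsUV] at hpUV
    simp only [Opens.mem_iSup] at hpUV
    obtain ⟨D₀, hD₀s, hpD₀⟩ := hpUV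
    obtain ⟨_, ⟨D, hD, rfl⟩, hpD, hDle⟩ := X.isBasis_affineOpens.exists_subset_of_mem_open
      (show p ∈ ((W.1 ⊓ D₀.1 : X.Opens) : Set X) from ⟨hpW, hpD₀⟩) (W.1 ⊓ D₀.1).2
    have hDW : D ≤ W.1 := fun q hq => (hDle hq).1
    have hDD₀ : D ≤ D₀.1 := fun q hq => (hDle hq).2
    have hD₀V : D₀.1 ≤ V.1 := hsV D₀ hD₀s
    refine ⟨⟨D, hD⟩, hDW, hDD₀.trans hD₀V, hpD, ?_⟩
    have h1 : X.presheaf.map (homOfLE hDW).op x ∈ J.ideal ⟨D, hD⟩ :=
      J.ideal_le_comap_ideal (U := ⟨D, hD⟩) (V := W) hDW hx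
    have h2 := J.map_ideal (U := ⟨D, hD⟩) (V := D₀) hDD₀
    rw [← h2, ← hMDmap ⟨D₀, hD₀s⟩, Ideal.map_map, ← CommRingCat.hom_comp, ← Functor.map_comp] at h1
    refine Ideal.map_mono (le_sup_of_le_right (le_iSup MD ⟨D₀, hD₀s⟩)) ?_
    exact h1
  refine ⟨J ⊓ quotKer V.2 M', inf_le_left, ?_, hW', ?_⟩
  · -- finite type on U ⊔ V
    refine FTOn.sup ?_ (ftOn_of_fg V (by rw [hV']; exact hM'fg))
    intro W hWU
    rw [hW' W hWU]
    exact hJU W hWU
  · rw [hV']
    exact le_sup_left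

theorem extend_finset [QuasiSeparatedSpace X] (S : Finset X.affineOpens) :
    ∀ (J : X.IdealSheafData) (U : X.Opens) (_ : IsCompact (U : Set X)) (_ : FTOn J U),
    ∃ J' : X.IdealSheafData, J' ≤ J ∧ FTOn J' (U ⊔ ⨆ V ∈ S, (V : X.Opens)) ∧
      (∀ W : X.affineOpens, W.1 ≤ U → J'.ideal W = J.ideal W) := by
  classical
  induction S using Finset.induction_on with
  | empty =>
    intro J U _ hJU
    refine ⟨J, le_rfl, ?_, fun _ _ => rfl⟩
    simpa using hJU
  | insert V S hVS ih =>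
    intro J U hU hJU
    obtain ⟨J₁, hJ₁le, hJ₁ft, hJ₁eq⟩ := ih J U hU hJU
    have hU₁ : IsCompact ((U ⊔ ⨆ V ∈ S, (V : X.Opens) : X.Opens) : Set X) := by
      rw [Opens.coe_sup]
      refine hU.union ?_
      simp only [Opens.coe_iSup]
      exact S.finite_toSet.isCompact_biUnion fun V _ => V.2.isCompact
    obtain ⟨J₂, hJ₂le, hJ₂ft, hJ₂eq, -⟩ := extend_step J₁ _ hU₁ hJ₁ft V ⊥ Submodule.fg_bot bot_le
    refine ⟨J₂, hJ₂le.trans hJ₁le, hJ₂ft.mono ?_, ?_⟩
    · rw [Finset.iSup_insert]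
      rw [sup_assoc, sup_comm (V : X.Opens)]
    · intro W hW
      rw [hJ₂eq W (hW.trans le_sup_left), hJ₁eq W hW]

/-- Stacks 01PG, elementwise form: on a qcqs scheme every local section of an ideal sheaf lies in a
finite type sub-ideal sheaf. -/
theorem exists_ft_le_mem [CompactSpace X] [QuasiSeparatedSpace X] (I : X.IdealSheafData)
    (W : X.affineOpens) (c : Γ(X, W.1)) (hc : c ∈ I.ideal W) :
    ∃ J : X.IdealSheafData, J ≤ I ∧ FT J ∧ c ∈ J.ideal W := by
  classical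
  obtain ⟨J₀, hJ₀le, hJ₀ft, -, hJ₀c⟩ := extend_step I ⊥ (by simp) (ftOn_bot I) W
    (Ideal.span {c}) ⟨{c}, by simp⟩ (by rwa [Ideal.span_singleton_le_iff_mem])
  obtain ⟨s, hs, hsX⟩ := isCompact_iff_finite_and_eq_biUnion_affineOpens.mp
    (show IsCompact ((⊤ : X.Opens) : Set X) from isCompact_univ)
  have hW₀ : IsCompact (((⊥ : X.Opens) ⊔ W.1 : X.Opens) : Set X) := by
    rw [bot_sup_eq]; exact W.2.isCompact
  obtain ⟨J', hJ'le, hJ'ft, hJ'eq⟩ := extend_finset hs.toFinset J₀ _ hW₀ hJ₀ft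
  refine ⟨J', hJ'le.trans hJ₀le, ?_, ?_⟩
  · rw [ft_iff_ftOn_top]
    refine hJ'ft.mono ?_
    refine le_sup_of_le_right ?_
    rw [hsX]
    simp
  · rw [hJ'eq W (by simp)]
    exact hJ₀c (Ideal.subset_span rfl)

theorem ft_bot : FT (⊥ : X.IdealSheafData) := fun _ => Submodule.fg_bot

theorem FT.sup {J K : X.IdealSheafData} (hJ : FT J) (hK : FT K) : FT (J ⊔ K) :=
  fun W => Submodule.FG.sup (hJ W) (hK W)

/-- the finite type sub-ideal sheaves of `I` -/
def ftSub (I : X.IdealSheafData) : Set X.IdealSheafData := {J | J ≤ I ∧ FT J}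

theorem bot_mem_ftSub (I : X.IdealSheafData) : ⊥ ∈ ftSub I := ⟨bot_le, ft_bot⟩

theorem sup_mem_ftSub {I J K : X.IdealSheafData} (hJ : J ∈ ftSub I) (hK : K ∈ ftSub I) :
    J ⊔ K ∈ ftSub I := ⟨sup_le hJ.1 hK.1, hJ.2.sup hK.2⟩

theorem directedOn_ftSub (I : X.IdealSheafData) : DirectedOn (· ≤ ·) (ftSub I) :=
  fun _ hJ _ hK => ⟨_, sup_mem_ftSub hJ hK, le_sup_left, le_sup_right⟩

/-- Stacks 01PG: an ideal sheaf on a qcqs scheme is the (directed) supremum of its finite type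
sub-ideal sheaves. -/
theorem sSup_ftSub [CompactSpace X] [QuasiSeparatedSpace X] (I : X.IdealSheafData) :
    sSup (ftSub I) = I := by
  apply le_antisymm
  · exact sSup_le fun J hJ => hJ.1
  · intro W c hc
    obtain ⟨J, hJI, hJft, hcJ⟩ := exists_ft_le_mem I W c hc
    exact (le_sSup (show J ∈ ftSub I from ⟨hJI, hJft⟩) : J ≤ sSup (ftSub I)) W hcJ

/-- a finite type ideal sheaf of nilpotent sections on a quasi-compact scheme is nilpotent. -/
theorem exists_pow_eq_bot [CompactSpace X] (J : X.IdealSheafData) (hJ : FT J)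
    (hnil : J ≤ X.nilradical) : ∃ n : ℕ, J ^ n = ⊥ := by
  classical
  obtain ⟨s, hs, hsX⟩ := isCompact_iff_finite_and_eq_biUnion_affineOpens.mp
    (show IsCompact ((⊤ : X.Opens) : Set X) from isCompact_univ)
  have h1 : ∀ V : X.affineOpens, ∃ n : ℕ, (J.ideal V) ^ n = ⊥ := by
    intro V
    have : J.ideal V ≤ nilradical Γ(X, V.1) := by
      exact hnil V
    exact (Ideal.FG.isNilpotent_iff_le_nilradical (hJ V)).mpr this
  choose n hn using h1
  have : Finite s := hs.to_subtype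
  have : Fintype s := Fintype.ofFinite s
  refine ⟨Finset.univ.sup (fun V : s => n V.1), ?_⟩
  refine Scheme.IdealSheafData.ext_of_iSup_eq_top (fun V : s => V.1) ?_ ?_
  · rw [eq_comm, hsX, iSup_subtype']
  · intro V
    change (J.ideal V.1) ^ _ = ⊥
    have hle : n V.1 ≤ Finset.univ.sup (fun V : s => n V.1) :=
      Finset.le_sup (f := fun V : s => n V.1) (Finset.mem_univ V)
    exact le_bot_iff.mp ((Ideal.pow_le_pow_right hle).trans (hn V.1).le)

end Groth.Agent.Lib.Helper22.FTIdeal
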