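import Mathlib
import Groth.Agent.Lib.Helper22FTIdeal

/-!
# A closed subscheme of a qcqs scheme is the limit of finitely presented closed subschemes

ns `Groth.Agent.Lib.Helper22.FTLimit`: `Idx I` (finite type sub-ideal sheaves, directed), `diag I`,
`cone I`, `coneIsLimit I` (in `Over Y`), `locallyOfFinitePresentation_subschemeι`.
-/

set_option autoImplicit false
universe u

namespace Groth.Agent.Lib.Helper22.FTLimit

open AlgebraicGeometry CategoryTheory TopologicalSpace Limits
open Groth.Agent.Lib.Helper22.FTIdeal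

variable {Y : Scheme.{u}}

/-- index type: finite type sub-ideal sheaves -/
abbrev Idx (I : Y.IdealSheafData) : Type u := {J : Y.IdealSheafData // J ∈ ftSub I}

instance (I : Y.IdealSheafData) : Nonempty (Idx I) := ⟨⟨⊥, bot_mem_ftSub I⟩⟩

instance (I : Y.IdealSheafData) : IsDirected (Idx I) (fun a b => a ≤ b) :=
  ⟨fun a b => ⟨⟨a.1 ⊔ b.1, sup_mem_ftSub a.2 b.2⟩,
    show a.1 ≤ a.1 ⊔ b.1 from le_sup_left, show b.1 ≤ a.1 ⊔ b.1 from le_sup_right⟩⟩

/-- the inverse system of finitely presented closed subschemes containing `V(I)`. -/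
noncomputable def diag (I : Y.IdealSheafData) : (Idx I)ᵒᵖ ⥤ Over Y :=
  (Subtype.mono_coe (· ∈ ftSub I)).functor.op ⋙ Scheme.IdealSheafData.subschemeFunctor Y

@[simp] theorem diag_obj_left (I : Y.IdealSheafData) (J : (Idx I)ᵒᵖ) :
    ((diag I).obj J).left = J.unop.1.subscheme := rfl

@[simp] theorem diag_obj_hom (I : Y.IdealSheafData) (J : (Idx I)ᵒᵖ) :
    ((diag I).obj J).hom = J.unop.1.subschemeι := rfl

theorem diag_map_left (I : Y.IdealSheafData) {J K : (Idx I)ᵒᵖ} (f : J ⟶ K) :
    ((diag I).map f).left = Scheme.IdealSheafData.inclusion (show K.unop.1 ≤ J.unop.1 from f.unop.le) :=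
  rfl

/-- the cone with apex `V(I)`. -/
noncomputable def cone (I : Y.IdealSheafData) : Cone (diag I) where
  pt := Over.mk I.subschemeι
  π :=
    { app := fun J => Over.homMk (Scheme.IdealSheafData.inclusion J.unop.2.1)
        (Scheme.IdealSheafData.inclusion_subschemeι _)
      naturality := by
        intro J K f
        ext
        simp only [Functor.const_obj_obj, Functor.const_obj_map, Category.id_comp, Over.comp_left,
          diag_map_left]
        exact (Scheme.IdealSheafData.inclusion_comp _ _).symm }

theorem le_ker_of_cone [CompactSpace Y] [QuasiSeparatedSpace Y] (I : Y.IdealSheafData)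
    (s : Cone (diag I)) : I ≤ Scheme.Hom.ker (s.pt.hom : s.pt.left ⟶ Y) := by
  conv_lhs => rw [← sSup_ftSub I]
  refine sSup_le fun J hJ => ?_
  have h1 : (s.π.app (Opposite.op ⟨J, hJ⟩)).left ≫ J.subschemeι = s.pt.hom :=
    Over.w (s.π.app (Opposite.op ⟨J, hJ⟩))
  rw [← h1]
  conv_lhs => rw [← J.ker_subschemeι]
  exact Scheme.Hom.le_ker_comp _ _

/-- the lift of a cone -/
noncomputable def coneLift [CompactSpace Y] [QuasiSeparatedSpace Y] (I : Y.IdealSheafData)
    (s : Cone (diag I)) : s.pt.left ⟶ I.subscheme :=
  IsClosedImmersion.lift I.subschemeι (s.pt.hom : s.pt.left ⟶ Y)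
    (by rw [I.ker_subschemeι]; exact le_ker_of_cone I s)

theorem coneLift_fac [CompactSpace Y] [QuasiSeparatedSpace Y] (I : Y.IdealSheafData)
    (s : Cone (diag I)) : coneLift I s ≫ I.subschemeι = s.pt.hom :=
  IsClosedImmersion.lift_fac _ _ _

noncomputable def coneIsLimit [CompactSpace Y] [QuasiSeparatedSpace Y] (I : Y.IdealSheafData) :
    IsLimit (cone I) where
  lift s := Over.homMk (coneLift I s) (coneLift_fac I s)
  fac s J := by
    ext
    have h1 : (s.π.app J).left ≫ J.unop.1.subschemeι = s.pt.hom := Over.w (s.π.app J)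
    change coneLift I s ≫ Scheme.IdealSheafData.inclusion J.unop.2.1 = (s.π.app J).left
    apply (cancel_mono (J.unop.1.subschemeι)).mp
    rw [Category.assoc, Scheme.IdealSheafData.inclusion_subschemeι, coneLift_fac]
    exact h1.symm
  uniq s m hm := by
    ext
    have h1 : m.left ≫ I.subschemeι = s.pt.hom := Over.w m
    change m.left = coneLift I s
    apply (cancel_mono I.subschemeι).mp
    rw [coneLift_fac]
    exact h1


set_option backward.isDefEq.respectTransparency.types false in
theorem locallyOfFinitePresentation_subschemeι (J : Y.IdealSheafData) (hJ : FT J) :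
    LocallyOfFinitePresentation J.subschemeι := by
  rw [IsZariskiLocalAtSource.iff_of_openCover (P := @LocallyOfFinitePresentation)
    J.subschemeCover.openCover]
  intro U
  change LocallyOfFinitePresentation (J.subschemeCover.f U ≫ J.subschemeι)
  rw [Scheme.IdealSheafData.subschemeCover_map_subschemeι, Scheme.IdealSheafData.glueDataObjι_ι]
  have : LocallyOfFinitePresentation
      (Spec.map (CommRingCat.ofHom (Ideal.Quotient.mk (J.ideal U)))) := by
    rw [HasRingHomProperty.Spec_iff (P := @LocallyOfFinitePresentation)]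
    refine RingHom.FinitePresentation.of_surjective _ Ideal.Quotient.mk_surjective ?_
    rw [CommRingCat.hom_ofHom, Ideal.mk_ker]
    exact hJ U
  have h2 : LocallyOfFinitePresentation (U.2.fromSpec) := inferInstance
  exact @locallyOfFinitePresentation_comp _ _ _ _ _ this h2

end Groth.Agent.Lib.Helper22.FTLimit
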