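import Mathlib

/-!
# Square-zero thickenings of affine schemes are affine (explicit Čech partition of unity)

ns `Groth.Agent.Lib.Helper22.SqZero`. For a surjective closed immersion `t : X ⟶ X'` with `X` affine and
square-zero kernel: `exists_coboundary` (Čech H¹ vanishing), `exists_isLiftOn_top` (global functions
lift), `isAffine_of_sqZero'`.
-/

set_option autoImplicit false
universe u

namespace Groth.Agent.Lib.Helper22.SqZero

open AlgebraicGeometry CategoryTheory TopologicalSpace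

variable {X X' : Scheme.{u}} (t : X ⟶ X')

/-- restriction of sections of `X'` -/
noncomputable def rX' {U V : X'.Opens} (h : U ≤ V) : Γ(X', V) →+* Γ(X', U) :=
  (X'.presheaf.map (homOfLE h).op).hom

/-- restriction of sections of `X` -/
noncomputable def rX {U V : X.Opens} (h : U ≤ V) : Γ(X, V) →+* Γ(X, U) :=
  (X.presheaf.map (homOfLE h).op).hom

/-- the comorphism on sections -/
noncomputable def τ (U : X'.Opens) : Γ(X', U) →+* Γ(X, t ⁻¹ᵁ U) := (t.app U).hom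

theorem rX'_rX' {U V W : X'.Opens} (h₁ : U ≤ V) (h₂ : V ≤ W) (x : Γ(X', W)) :
    rX' h₁ (rX' h₂ x) = rX' (h₁.trans h₂) x := by
  unfold rX'
  rw [← RingHom.comp_apply, ← CommRingCat.hom_comp, ← Functor.map_comp]
  rfl

theorem rX_rX {U V W : X.Opens} (h₁ : U ≤ V) (h₂ : V ≤ W) (x : Γ(X, W)) :
    rX h₁ (rX h₂ x) = rX (h₁.trans h₂) x := by
  unfold rX
  rw [← RingHom.comp_apply, ← CommRingCat.hom_comp, ← Functor.map_comp]
  rfl

theorem rX'_self {U : X'.Opens} (h : U ≤ U) (x : Γ(X', U)) : rX' h x = x := by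
  unfold rX'
  have : homOfLE h = 𝟙 U := rfl
  rw [this]
  simp

theorem τ_rX' {U V : X'.Opens} (h : U ≤ V) (x : Γ(X', V)) :
    τ t U (rX' h x) = rX (t.preimage_mono h) (τ t V x) := by
  unfold τ rX' rX
  have := t.naturality (homOfLE h).op
  have := congrArg (fun φ => φ.hom x) this
  simp only [CommRingCat.hom_comp, RingHom.coe_comp, Function.comp_apply] at this
  exact this

/-- `η` lifts the global function `g` over `U`. -/
def IsLiftOn (U : X'.Opens) (η : Γ(X', U)) (g : Γ(X, ⊤)) : Prop :=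
  τ t U η = rX le_top g

variable {t}

theorem IsLiftOn.res {U V : X'.Opens} {η : Γ(X', V)} {g : Γ(X, ⊤)} (h : IsLiftOn t V η g)
    (hUV : U ≤ V) : IsLiftOn t U (rX' hUV η) g := by
  unfold IsLiftOn at h ⊢
  rw [τ_rX', h, rX_rX]

theorem IsLiftOn.mul {U : X'.Opens} {η η' : Γ(X', U)} {g g' : Γ(X, ⊤)} (h : IsLiftOn t U η g)
    (h' : IsLiftOn t U η' g') : IsLiftOn t U (η * η') (g * g') := by
  unfold IsLiftOn at *
  rw [map_mul, map_mul, h, h']

theorem IsLiftOn.pow {U : X'.Opens} {η : Γ(X', U)} {g : Γ(X, ⊤)} (h : IsLiftOn t U η g)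
    (n : ℕ) : IsLiftOn t U (η ^ n) (g ^ n) := by
  unfold IsLiftOn at *
  rw [map_pow, map_pow, h]

theorem IsLiftOn.sub {U : X'.Opens} {η η' : Γ(X', U)} {g g' : Γ(X, ⊤)} (h : IsLiftOn t U η g)
    (h' : IsLiftOn t U η' g') : IsLiftOn t U (η - η') (g - g') := by
  unfold IsLiftOn at *
  rw [map_sub, map_sub, h, h']

theorem IsLiftOn.one (U : X'.Opens) : IsLiftOn t U 1 1 := by
  unfold IsLiftOn
  rw [map_one, map_one]

theorem IsLiftOn.sum {ι : Type*} (s : Finset ι) {U : X'.Opens} {η : ι → Γ(X', U)}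
    {g : ι → Γ(X, ⊤)} (h : ∀ i ∈ s, IsLiftOn t U (η i) (g i)) :
    IsLiftOn t U (∑ i ∈ s, η i) (∑ i ∈ s, g i) := by
  unfold IsLiftOn at *
  rw [map_sum, map_sum]
  exact Finset.sum_congr rfl h

theorem IsLiftOn.sub_mem_ker {U : X'.Opens} {η η' : Γ(X', U)} {g : Γ(X, ⊤)}
    (h : IsLiftOn t U η g) (h' : IsLiftOn t U η' g) : η - η' ∈ RingHom.ker (τ t U) := by
  unfold IsLiftOn at *
  rw [RingHom.mem_ker, map_sub, h, h', sub_self]

theorem exists_isLiftOn [IsClosedImmersion t] {U : X'.Opens} (hU : IsAffineOpen U) (g : Γ(X, ⊤)) :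
    ∃ η : Γ(X', U), IsLiftOn t U η g :=
  t.app_surjective U hU _

/-- square zero: two lifts act the same way on the kernel -/
theorem mul_eq_of_isLiftOn {U : X'.Opens}
    (hsq : ∀ a ∈ RingHom.ker (τ t U), ∀ b ∈ RingHom.ker (τ t U), a * b = 0)
    {η η' : Γ(X', U)} {g : Γ(X, ⊤)}
    (h : IsLiftOn t U η g) (h' : IsLiftOn t U η' g) {κ : Γ(X', U)} (hκ : κ ∈ RingHom.ker (τ t U)) :
    η * κ = η' * κ := by
  have := hsq _ (h.sub_mem_ker h') _ hκ
  rw [sub_mul, sub_eq_zero] at this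
  exact this

theorem rX'_mem_ker {U V : X'.Opens} (h : U ≤ V) {x : Γ(X', V)} (hx : x ∈ RingHom.ker (τ t V)) :
    rX' h x ∈ RingHom.ker (τ t U) := by
  rw [RingHom.mem_ker] at hx ⊢
  rw [τ_rX', hx, map_zero]

theorem opens_le_of_preimage_le (ht : Function.Surjective t) {U V : X'.Opens}
    (h : t ⁻¹ᵁ U ≤ t ⁻¹ᵁ V) : U ≤ V := by
  intro x hx
  obtain ⟨y, rfl⟩ := ht x
  exact h hx

theorem opens_ext (ht : Function.Surjective t) {U V : X'.Opens}
    (h : t ⁻¹ᵁ U = t ⁻¹ᵁ V) : U = V :=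
  le_antisymm (opens_le_of_preimage_le ht h.le) (opens_le_of_preimage_le ht h.ge)

variable (t) in
/-- good opens: affine opens of `X'` whose preimage is the basic open `D(h)` of `X`. -/
def Good (W : X'.Opens) (h : Γ(X, ⊤)) : Prop := IsAffineOpen W ∧ t ⁻¹ᵁ W = X.basicOpen h

theorem preimage_basicOpen_of_isLiftOn {U : X'.Opens} {η : Γ(X', U)} {g : Γ(X, ⊤)}
    (h : IsLiftOn t U η g) : t ⁻¹ᵁ (X'.basicOpen η) = t ⁻¹ᵁ U ⊓ X.basicOpen g := by
  rw [Scheme.preimage_basicOpen]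
  have : (t.app U).hom η = rX le_top g := h
  rw [this]
  unfold rX
  rw [Scheme.basicOpen_res]

theorem basicOpen_eq_inf (ht : Function.Surjective t) {U W : X'.Opens} {η : Γ(X', U)}
    {g : Γ(X, ⊤)} (h : IsLiftOn t U η g) (hW : Good t W g) : X'.basicOpen η = U ⊓ W := by
  apply opens_ext ht
  rw [preimage_basicOpen_of_isLiftOn h, Scheme.Hom.preimage_inf, hW.2]

theorem Good.inf [IsClosedImmersion t] (ht : Function.Surjective t) {W₁ W₂ : X'.Opens}
    {h₁ h₂ : Γ(X, ⊤)} (H₁ : Good t W₁ h₁) (H₂ : Good t W₂ h₂) : Good t (W₁ ⊓ W₂) (h₁ * h₂) := by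
  obtain ⟨η, hη⟩ := exists_isLiftOn (t := t) H₁.1 h₂
  refine ⟨?_, ?_⟩
  · rw [← basicOpen_eq_inf ht hη H₂]
    exact H₁.1.basicOpen η
  · rw [Scheme.Hom.preimage_inf, H₁.2, H₂.2, Scheme.basicOpen_mul]

theorem exists_good [IsClosedImmersion t] [IsAffine X] (ht : Function.Surjective t) (x' : X') :
    ∃ (W : X'.Opens) (h : Γ(X, ⊤)), Good t W h ∧ x' ∈ W := by
  obtain ⟨x, rfl⟩ := ht x'
  obtain ⟨_, ⟨U, hU, rfl⟩, hxU, -⟩ := X'.isBasis_affineOpens.exists_subset_of_mem_open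
    (Set.mem_univ (t x)) isOpen_univ
  obtain ⟨h, hle, hxh⟩ := (isAffineOpen_top X).exists_basicOpen_le (V := t ⁻¹ᵁ U) ⟨x, hxU⟩
    (by trivial)
  obtain ⟨η, hη⟩ := exists_isLiftOn (t := t) hU h
  refine ⟨X'.basicOpen η, h, ⟨hU.basicOpen η, ?_⟩, ?_⟩
  · rw [preimage_basicOpen_of_isLiftOn hη]
    exact inf_eq_right.mpr hle
  · change x ∈ t ⁻¹ᵁ (X'.basicOpen η)
    rw [preimage_basicOpen_of_isLiftOn hη]
    exact ⟨hxU, hxh⟩

theorem ker_eq_map [IsClosedImmersion t] {U V : X'.Opens} (hU : IsAffineOpen U)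
    (hV : IsAffineOpen V) (h : U ≤ V) :
    RingHom.ker (τ t U) = (RingHom.ker (τ t V)).map (rX' h) := by
  have h1 := t.ker.map_ideal (U := ⟨U, hU⟩) (V := ⟨V, hV⟩) h
  rw [Scheme.Hom.ker_apply, Scheme.Hom.ker_apply] at h1
  exact h1.symm

/-- (F3') elements of the kernel over a basic open come from the kernel, up to a power -/
theorem exists_pow_mul_eq_rX' [IsClosedImmersion t] {U V : X'.Opens} (hV : IsAffineOpen V)
    (η : Γ(X', V)) (hU : U = X'.basicOpen η) (hUV : U ≤ V) (y : Γ(X', U))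
    (hy : y ∈ RingHom.ker (τ t U)) :
    ∃ (n : ℕ) (d : Γ(X', V)), d ∈ RingHom.ker (τ t V) ∧ rX' hUV d = (rX' hUV η) ^ n * y := by
  have hUa : IsAffineOpen U := hU ▸ hV.basicOpen η
  rw [ker_eq_map hUa hV hUV] at hy
  let _ : Algebra Γ(X', V) Γ(X', U) := (rX' hUV).toAlgebra
  have : IsLocalization.Away η Γ(X', U) := hV.isLocalization_of_eq_basicOpen η (homOfLE hUV) hU
  obtain ⟨⟨⟨d, hd⟩, ⟨_, n, rfl⟩⟩, h⟩ :=
    (IsLocalization.mem_map_algebraMap_iff (Submonoid.powers η) Γ(X', U)).mp hy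
  refine ⟨n, d, hd, ?_⟩
  simp only [RingHom.algebraMap_toAlgebra, map_pow] at h
  rw [mul_comm]
  exact h.symm

/-- (F4') sections vanishing on a basic open are killed by a power -/
theorem exists_pow_mul_eq_zero {U V : X'.Opens} (hV : IsAffineOpen V)
    (η : Γ(X', V)) (hU : U = X'.basicOpen η) (hUV : U ≤ V) (d : Γ(X', V))
    (hd : rX' hUV d = 0) : ∃ n : ℕ, η ^ n * d = 0 := by
  let _ : Algebra Γ(X', V) Γ(X', U) := (rX' hUV).toAlgebra
  have : IsLocalization.Away η Γ(X', U) := hV.isLocalization_of_eq_basicOpen η (homOfLE hUV) hU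
  have h0 : algebraMap Γ(X', V) Γ(X', U) d = 0 := hd
  obtain ⟨⟨_, n, rfl⟩, h⟩ := (IsLocalization.map_eq_zero_iff (Submonoid.powers η) Γ(X', U) d).mp h0
  exact ⟨n, h⟩

/-- Čech `H¹`-vanishing (partition of unity) for the square-zero kernel. -/
theorem exists_coboundary [IsClosedImmersion t] (ht : Function.Surjective t)
    {ι : Type*} [Fintype ι] (W : ι → X'.Opens) (h : ι → Γ(X, ⊤)) (hW : ∀ k, Good t (W k) (h k))
    (hspan : Ideal.span (Set.range h) = ⊤)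
    (hsq : ∀ U : X'.Opens, IsAffineOpen U →
      ∀ a ∈ RingHom.ker (τ t U), ∀ b ∈ RingHom.ker (τ t U), a * b = 0)
    (c : ∀ k m, Γ(X', W k ⊓ W m)) (hc : ∀ k m, c k m ∈ RingHom.ker (τ t (W k ⊓ W m)))
    (hcocycle : ∀ k m l,
      rX' (inf_le_inf_right (W l) inf_le_left : W k ⊓ W m ⊓ W l ≤ W k ⊓ W l) (c k l) -
      rX' (inf_le_inf_right (W l) inf_le_right : W k ⊓ W m ⊓ W l ≤ W m ⊓ W l) (c m l) =
      rX' (inf_le_left : W k ⊓ W m ⊓ W l ≤ W k ⊓ W m) (c k m)) :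
    ∃ e : ∀ k, Γ(X', W k), (∀ k, e k ∈ RingHom.ker (τ t (W k))) ∧
      ∀ k m, rX' (inf_le_left : W k ⊓ W m ≤ W k) (e k) -
        rX' (inf_le_right : W k ⊓ W m ≤ W m) (e m) = c k m := by
  classical
  have hη : ∀ k l, ∃ η : Γ(X', W k), IsLiftOn t (W k) η (h l) :=
    fun k l => exists_isLiftOn (hW k).1 (h l)
  choose η hη using hη
  have hW2 : ∀ k l, Good t (W k ⊓ W l) (h k * h l) := fun k l => (hW k).inf ht (hW l)
  have hW3 : ∀ k m l, Good t (W k ⊓ W m ⊓ W l) (h k * h m * h l) :=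
    fun k m l => (hW2 k m).inf ht (hW l)
  have hbo : ∀ k l, W k ⊓ W l = X'.basicOpen (η k l) :=
    fun k l => (basicOpen_eq_inf ht (hη k l) (hW l)).symm
  -- Step 2
  have h2 : ∀ k l, ∃ (n : ℕ) (d : Γ(X', W k)), d ∈ RingHom.ker (τ t (W k)) ∧
      rX' (inf_le_left : W k ⊓ W l ≤ W k) d =
        (rX' (inf_le_left : W k ⊓ W l ≤ W k) (η k l)) ^ n * c k l :=
    fun k l => exists_pow_mul_eq_rX' (hW k).1 (η k l) (hbo k l) inf_le_left (c k l) (hc k l)
  choose n₁ d₁ hd₁ker hd₁ using h2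
  let N₁ := Finset.univ.sup (fun p : ι × ι => n₁ p.1 p.2)
  have hN₁ : ∀ k l, n₁ k l ≤ N₁ := fun k l =>
    Finset.le_sup (f := fun p : ι × ι => n₁ p.1 p.2) (Finset.mem_univ (k, l))
  let d : ∀ k, ι → Γ(X', W k) := fun k l => (η k l) ^ (N₁ - n₁ k l) * d₁ k l
  have hdker : ∀ k l, d k l ∈ RingHom.ker (τ t (W k)) :=
    fun k l => Ideal.mul_mem_left _ _ (hd₁ker k l)
  have hd : ∀ k l, rX' (inf_le_left : W k ⊓ W l ≤ W k) (d k l) =
      (rX' (inf_le_left : W k ⊓ W l ≤ W k) (η k l)) ^ N₁ * c k l := by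
    intro k l
    simp only [d, map_mul, map_pow, hd₁]
    rw [← mul_assoc, ← pow_add, Nat.sub_add_cancel (hN₁ k l)]
  -- Step 3
  let δ : ∀ k m, ι → Γ(X', W k ⊓ W m) := fun k m l =>
    rX' (inf_le_left : W k ⊓ W m ≤ W k) (d k l) - rX' (inf_le_right : W k ⊓ W m ≤ W m) (d m l) -
      (rX' (inf_le_left : W k ⊓ W m ≤ W k) (η k l)) ^ N₁ * c k m
  have hδ : ∀ k m l, rX' (inf_le_left : W k ⊓ W m ⊓ W l ≤ W k ⊓ W m) (δ k m l) = 0 := by
    intro k m l
    have hk3 : (W k ⊓ W m ⊓ W l) ≤ W k := inf_le_left.trans inf_le_left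
    have hm3 : (W k ⊓ W m ⊓ W l) ≤ W m := inf_le_left.trans inf_le_right
    have j₂ : W k ⊓ W m ⊓ W l ≤ W k ⊓ W l := inf_le_inf_right (W l) inf_le_left
    have j₃ : W k ⊓ W m ⊓ W l ≤ W m ⊓ W l := inf_le_inf_right (W l) inf_le_right
    have e1 : rX' (inf_le_left : W k ⊓ W m ⊓ W l ≤ W k ⊓ W m)
        (rX' (inf_le_left : W k ⊓ W m ≤ W k) (d k l)) =
        (rX' hk3 (η k l)) ^ N₁ * rX' j₂ (c k l) := by
      rw [rX'_rX', ← rX'_rX' j₂ (inf_le_left : W k ⊓ W l ≤ W k), hd, map_mul, map_pow, rX'_rX']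
    have e2 : rX' (inf_le_left : W k ⊓ W m ⊓ W l ≤ W k ⊓ W m)
        (rX' (inf_le_right : W k ⊓ W m ≤ W m) (d m l)) =
        (rX' hk3 (η k l)) ^ N₁ * rX' j₃ (c m l) := by
      rw [rX'_rX', ← rX'_rX' j₃ (inf_le_left : W m ⊓ W l ≤ W m), hd, map_mul, map_pow, rX'_rX']
      exact mul_eq_of_isLiftOn (hsq _ (hW3 k m l).1) (((hη m l).res _).pow N₁)
        (((hη k l).res _).pow N₁) (rX'_mem_ker j₃ (hc m l))
    have e3 : rX' (inf_le_left : W k ⊓ W m ⊓ W l ≤ W k ⊓ W m)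
        ((rX' (inf_le_left : W k ⊓ W m ≤ W k) (η k l)) ^ N₁ * c k m) =
        (rX' hk3 (η k l)) ^ N₁ * rX' inf_le_left (c k m) := by
      rw [map_mul, map_pow, rX'_rX']
    simp only [δ, map_sub]
    rw [e1, e2, e3, ← mul_sub, ← mul_sub, hcocycle k m l, sub_self, mul_zero]
  have h3 : ∀ k m l, ∃ n : ℕ, (rX' (inf_le_left : W k ⊓ W m ≤ W k) (η k l)) ^ n * δ k m l = 0 := by
    intro k m l
    refine exists_pow_mul_eq_zero (hW2 k m).1 _ ?_ inf_le_left _ (hδ k m l)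
    exact (basicOpen_eq_inf ht ((hη k l).res _) (hW l)).symm
  choose n₂ hn₂ using h3
  let N₂ := Finset.univ.sup (fun p : ι × ι × ι => n₂ p.1 p.2.1 p.2.2)
  have hN₂ : ∀ k m l, n₂ k m l ≤ N₂ := fun k m l =>
    Finset.le_sup (f := fun p : ι × ι × ι => n₂ p.1 p.2.1 p.2.2) (Finset.mem_univ (k, m, l))
  have hδ0 : ∀ k m l, (rX' (inf_le_left : W k ⊓ W m ≤ W k) (η k l)) ^ N₂ * δ k m l = 0 := by
    intro k m l
    rw [← Nat.sub_add_cancel (hN₂ k m l), pow_add, mul_assoc, hn₂, mul_zero]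
  -- Step 4 : partition of unity
  have hspanN : Ideal.span (Set.range fun l => h l ^ (N₁ + N₂)) = ⊤ := by
    have := Ideal.span_pow_eq_top (Set.range h) hspan (N₁ + N₂)
    rwa [← Set.range_comp] at this
  have h1mem : (1 : Γ(X, ⊤)) ∈ Ideal.span (Set.range fun l => h l ^ (N₁ + N₂)) := by
    rw [hspanN]; trivial
  obtain ⟨a, ha⟩ := Ideal.mem_span_range_iff_exists_fun.mp h1mem
  have hα : ∀ k l, ∃ α : Γ(X', W k), IsLiftOn t (W k) α (a l) :=
    fun k l => exists_isLiftOn (hW k).1 (a l)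
  choose α hα using hα
  let e : ∀ k, Γ(X', W k) := fun k => ∑ l, α k l * (η k l) ^ N₂ * d k l
  have heker : ∀ k, e k ∈ RingHom.ker (τ t (W k)) :=
    fun k => Ideal.sum_mem _ fun l _ => Ideal.mul_mem_left _ _ (hdker k l)
  refine ⟨e, heker, ?_⟩
  intro k m
  -- Step 5
  have hterm : ∀ l, rX' (inf_le_left : W k ⊓ W m ≤ W k) (α k l * (η k l) ^ N₂ * d k l) -
      rX' (inf_le_right : W k ⊓ W m ≤ W m) (α m l * (η m l) ^ N₂ * d m l) =
      rX' (inf_le_left : W k ⊓ W m ≤ W k) (α k l * (η k l) ^ (N₁ + N₂)) * c k m := by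
    intro l
    have hsw : rX' (inf_le_right : W k ⊓ W m ≤ W m) (α m l * (η m l) ^ N₂) *
        rX' (inf_le_right : W k ⊓ W m ≤ W m) (d m l) =
        rX' (inf_le_left : W k ⊓ W m ≤ W k) (α k l * (η k l) ^ N₂) *
        rX' (inf_le_right : W k ⊓ W m ≤ W m) (d m l) :=
      mul_eq_of_isLiftOn (hsq _ (hW2 k m).1) (((hα m l).mul ((hη m l).pow N₂)).res _)
        (((hα k l).mul ((hη k l).pow N₂)).res _) (rX'_mem_ker _ (hdker m l))
    have hδeq : rX' (inf_le_left : W k ⊓ W m ≤ W k) (d k l) -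
        rX' (inf_le_right : W k ⊓ W m ≤ W m) (d m l) =
        δ k m l + (rX' (inf_le_left : W k ⊓ W m ≤ W k) (η k l)) ^ N₁ * c k m := by
      simp only [δ]; ring
    rw [map_mul (rX' (inf_le_left : W k ⊓ W m ≤ W k)), map_mul (rX' (inf_le_right : W k ⊓ W m ≤ W m)),
      hsw, ← mul_sub, hδeq, mul_add]
    have hz : rX' (inf_le_left : W k ⊓ W m ≤ W k) (α k l * (η k l) ^ N₂) * δ k m l = 0 := by
      rw [map_mul, map_pow, mul_assoc, hδ0, mul_zero]
    rw [hz, zero_add, ← mul_assoc]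
    congr 1
    simp only [map_mul, map_pow]
    ring
  rw [map_sum, map_sum, ← Finset.sum_sub_distrib, Finset.sum_congr rfl fun l _ => hterm l,
    ← Finset.sum_mul, ← map_sum]
  have hone : IsLiftOn t (W k) (∑ l, α k l * (η k l) ^ (N₁ + N₂)) 1 := by
    rw [← ha]
    exact IsLiftOn.sum _ fun l _ => (hα k l).mul ((hη k l).pow _)
  have := mul_eq_of_isLiftOn (hsq _ (hW2 k m).1) (hone.res (inf_le_left : W k ⊓ W m ≤ W k))
    (IsLiftOn.one (t := t) (W k ⊓ W m)) (hc k m)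
  rw [this, one_mul]

/-- finite good cover -/
theorem exists_finite_good_cover [IsClosedImmersion t] [IsAffine X] (ht : Function.Surjective t) :
    ∃ (ι : Type u) (_ : Fintype ι) (W : ι → X'.Opens) (h : ι → Γ(X, ⊤)),
      (∀ k, Good t (W k) (h k)) ∧ (⨆ k, W k = ⊤) ∧ Ideal.span (Set.range h) = ⊤ := by
  classical
  have hcomp : CompactSpace X' := by
    constructor
    rw [← Set.range_eq_univ.mpr ht]
    exact isCompact_range t.continuous
  choose W h hgood hmem using exists_good (t := t) ht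
  obtain ⟨s, hs⟩ := CompactSpace.elim_nhds_subcover (fun x' => (W x' : Set X'))
    (fun x' => (W x').2.mem_nhds (hmem x'))
  refine ⟨s, inferInstance, fun k => W k.1, fun k => h k.1, fun k => hgood k.1, ?_, ?_⟩
  · rw [eq_top_iff]
    intro x _
    have : x ∈ ⋃ x' ∈ s, (W x' : Set X') := by rw [hs]; trivial
    simp only [Set.mem_iUnion] at this
    obtain ⟨x', hx's, hx⟩ := this
    exact Opens.mem_iSup.mpr ⟨⟨x', hx's⟩, hx⟩
  · rw [← (isAffineOpen_top X).self_le_iSup_basicOpen_iff]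
    intro x _
    have : t x ∈ ⋃ x' ∈ s, (W x' : Set X') := by rw [hs]; trivial
    simp only [Set.mem_iUnion] at this
    obtain ⟨x', hx's, hx⟩ := this
    refine Opens.mem_iSup.mpr ⟨⟨h x', ⟨⟨x', hx's⟩, rfl⟩⟩, ?_⟩
    have h1 : x ∈ t ⁻¹ᵁ (W x') := hx
    rw [(hgood x').2] at h1
    exact h1

/-- global sections lift along a square-zero thickening of an affine scheme -/
theorem exists_isLiftOn_top [IsClosedImmersion t] [IsAffine X] (ht : Function.Surjective t)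
    (hsq : ∀ U : X'.Opens, IsAffineOpen U →
      ∀ a ∈ RingHom.ker (τ t U), ∀ b ∈ RingHom.ker (τ t U), a * b = 0)
    (g : Γ(X, ⊤)) : ∃ s : Γ(X', ⊤), IsLiftOn t ⊤ s g := by
  classical
  obtain ⟨ι, _, W, h, hW, hcov, hspan⟩ := exists_finite_good_cover (t := t) ht
  have hγ : ∀ k, ∃ γ : Γ(X', W k), IsLiftOn t (W k) γ g := fun k => exists_isLiftOn (hW k).1 g
  choose γ hγ using hγ
  let c : ∀ k m, Γ(X', W k ⊓ W m) := fun k m =>
    rX' (inf_le_left : W k ⊓ W m ≤ W k) (γ k) - rX' (inf_le_right : W k ⊓ W m ≤ W m) (γ m)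
  have hc : ∀ k m, c k m ∈ RingHom.ker (τ t (W k ⊓ W m)) :=
    fun k m => ((hγ k).res _).sub_mem_ker ((hγ m).res _)
  have hcoc : ∀ k m l,
      rX' (inf_le_inf_right (W l) inf_le_left : W k ⊓ W m ⊓ W l ≤ W k ⊓ W l) (c k l) -
      rX' (inf_le_inf_right (W l) inf_le_right : W k ⊓ W m ⊓ W l ≤ W m ⊓ W l) (c m l) =
      rX' (inf_le_left : W k ⊓ W m ⊓ W l ≤ W k ⊓ W m) (c k m) := by
    intro k m l
    simp only [c, map_sub, rX'_rX']
    ring
  obtain ⟨e, heker, he⟩ := exists_coboundary ht W h hW hspan hsq c hc hcoc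
  -- glue
  let sf : ∀ k, Γ(X', W k) := fun k => γ k - e k
  have hcompat : TopCat.Presheaf.IsCompatible X'.presheaf W sf := by
    intro k m
    change rX' (inf_le_left : W k ⊓ W m ≤ W k) (γ k - e k) =
      rX' (inf_le_right : W k ⊓ W m ≤ W m) (γ m - e m)
    have := he k m
    simp only [c] at this
    rw [map_sub, map_sub]
    linear_combination this.symm
  have hglue : ∃ s : Γ(X', ⊤), ∀ k, rX' (le_top : W k ≤ ⊤) s = γ k - e k := by
    obtain ⟨s, hs, -⟩ := X'.sheaf.existsUnique_gluing' W ⊤ (fun k => homOfLE le_top)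
      (by rw [hcov]) sf hcompat
    exact ⟨s, hs⟩
  obtain ⟨s, hs'⟩ := hglue
  refine ⟨s, ?_⟩
  unfold IsLiftOn
  apply X.IsSheaf.section_ext
  intro x hx
  have hx' : t x ∈ (⨆ k, W k : X'.Opens) := by rw [hcov]; trivial
  obtain ⟨k, hk⟩ := Opens.mem_iSup.mp hx'
  refine ⟨t ⁻¹ᵁ (W k), t.preimage_mono le_top, hk, ?_⟩
  change rX (t.preimage_mono (le_top : W k ≤ ⊤)) (τ t ⊤ s) = rX _ (rX le_top g)
  rw [← τ_rX' t (le_top : W k ≤ ⊤), hs' k, map_sub, RingHom.mem_ker.mp (heker k), sub_zero,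
    hγ k, rX_rX]

/-- a square-zero thickening of an affine scheme is affine (sectionwise hypothesis) -/
theorem isAffine_of_sqZero' [IsClosedImmersion t] [IsAffine X] (ht : Function.Surjective t)
    (hsq : ∀ U : X'.Opens, IsAffineOpen U →
      ∀ a ∈ RingHom.ker (τ t U), ∀ b ∈ RingHom.ker (τ t U), a * b = 0) : IsAffine X' := by
  classical
  obtain ⟨ι, _, W, h, hW, hcov, hspan⟩ := exists_finite_good_cover (t := t) ht
  have hh' : ∀ k, ∃ s : Γ(X', ⊤), IsLiftOn t ⊤ s (h k) := fun k => exists_isLiftOn_top ht hsq (h k)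
  choose h' hh' using hh'
  have hbo : ∀ k, X'.basicOpen (h' k) = W k := by
    intro k
    apply opens_ext ht
    rw [preimage_basicOpen_of_isLiftOn (hh' k), (hW k).2]
    simp
  have h1mem : (1 : Γ(X, ⊤)) ∈ Ideal.span (Set.range h) := by rw [hspan]; trivial
  obtain ⟨a, ha⟩ := Ideal.mem_span_range_iff_exists_fun.mp h1mem
  have ha' : ∀ k, ∃ s : Γ(X', ⊤), IsLiftOn t ⊤ s (a k) := fun k => exists_isLiftOn_top ht hsq (a k)
  choose a' ha' using ha'
  let u : Γ(X', ⊤) := ∑ k, a' k * h' k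
  have hu : IsLiftOn t ⊤ u 1 := by
    rw [← ha]
    exact IsLiftOn.sum _ fun k _ => (ha' k).mul (hh' k)
  have hν : u - 1 ∈ RingHom.ker (τ t ⊤) := hu.sub_mem_ker (IsLiftOn.one _)
  have hν2 : (u - 1) * (u - 1) = 0 := by
    apply X'.IsSheaf.section_ext
    intro x _
    have hx' : x ∈ (⨆ k, W k : X'.Opens) := by rw [hcov]; trivial
    obtain ⟨k, hk⟩ := Opens.mem_iSup.mp hx'
    refine ⟨W k, le_top, hk, ?_⟩
    change rX' (le_top : W k ≤ ⊤) ((u - 1) * (u - 1)) = rX' (le_top : W k ≤ ⊤) 0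
    rw [map_mul, map_zero]
    exact hsq _ (hW k).1 _ (rX'_mem_ker _ hν) _ (rX'_mem_ker _ hν)
  have hunit : IsUnit u := by
    have hnil : IsNilpotent (u - 1) := ⟨2, by rw [pow_two]; exact hν2⟩
    have := hnil.isUnit_add_one
    rwa [sub_add_cancel] at this
  have hspan' : Ideal.span (Set.range h') = ⊤ := by
    apply Ideal.eq_top_of_isUnit_mem _ _ hunit
    exact Ideal.sum_mem _ fun k _ => Ideal.mul_mem_left _ _ (Ideal.subset_span ⟨k, rfl⟩)
  refine isAffine_of_isAffineOpen_basicOpen (Set.range h') hspan' ?_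
  rintro _ ⟨k, rfl⟩
  rw [hbo k]
  exact (hW k).1

end Groth.Agent.Lib.Helper22.SqZero
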