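import Mathlib
import Groth.Agent.Lib.Helper22SqZero

/-!
# Nilpotent thickenings of affine schemes are affine

ns `Groth.Agent.Lib.Helper22.SqZero`: `isAffine_of_ker_mul_ker_eq_bot`, `isAffine_subscheme_of_sq_le`,
`isAffine_of_pow_eq_bot`.
-/

set_option autoImplicit false
universe u

namespace Groth.Agent.Lib.Helper22.SqZero

open AlgebraicGeometry CategoryTheory TopologicalSpace

/-- a square-zero thickening of an affine scheme is affine -/
theorem isAffine_of_ker_mul_ker_eq_bot {X X' : Scheme.{u}} (t : X ⟶ X') [IsClosedImmersion t]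
    [IsAffine X] (ht : Function.Surjective t) (h : t.ker * t.ker = ⊥) : IsAffine X' := by
  refine isAffine_of_sqZero' (t := t) ht ?_
  intro U hU a ha b hb
  have h1 : a * b ∈ (t.ker * t.ker).ideal ⟨U, hU⟩ := by
    rw [Scheme.IdealSheafData.ideal_mul]
    refine Ideal.mul_mem_mul ?_ ?_
    · rw [Scheme.Hom.ker_apply]; exact ha
    · rw [Scheme.Hom.ker_apply]; exact hb
  rw [h] at h1
  exact h1

variable {Y : Scheme.{u}}

theorem surjective_inclusion {J₁ J₂ : Y.IdealSheafData} (h : J₁ ≤ J₂) (hsq : J₂ * J₂ ≤ J₁) :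
    Function.Surjective (Scheme.IdealSheafData.inclusion h) := by
  intro x
  have hsupp : J₁.support ≤ J₂.support := by
    have := Scheme.IdealSheafData.support_antitone hsq
    rwa [Scheme.IdealSheafData.support_mul, sup_idem] at this
  have hx : J₁.subschemeι x ∈ (J₁.support : Set Y) := by
    rw [← J₁.range_subschemeι]; exact ⟨x, rfl⟩
  have hx2 : J₁.subschemeι x ∈ Set.range J₂.subschemeι := by
    rw [J₂.range_subschemeι]; exact hsupp hx
  obtain ⟨y, hy⟩ := hx2
  refine ⟨y, ?_⟩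
  apply J₁.subschemeι.isEmbedding.injective
  rw [← hy, ← Scheme.Hom.comp_apply, Scheme.IdealSheafData.inclusion_subschemeι]

theorem ker_inclusion_mul {J₁ J₂ : Y.IdealSheafData} (h : J₁ ≤ J₂) (hsq : J₂ * J₂ ≤ J₁) :
    (Scheme.IdealSheafData.inclusion h).ker * (Scheme.IdealSheafData.inclusion h).ker = ⊥ := by
  set t := Scheme.IdealSheafData.inclusion h with ht
  have hcomp : t ≫ J₁.subschemeι = J₂.subschemeι := Scheme.IdealSheafData.inclusion_subschemeι h
  -- key: membership in the kernel of t over ι₁⁻¹U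
  have key : ∀ (U : Y.affineOpens) (a' : Γ(Y, U.1)),
      (t.app (J₁.subschemeι ⁻¹ᵁ U.1)).hom ((J₁.subschemeι.app U.1).hom a') = 0 → a' ∈ J₂.ideal U := by
    intro U a' ha'
    rw [← J₂.ker_subschemeι_app U, RingHom.mem_ker]
    have h1 := Scheme.Hom.congr_app hcomp U.1
    rw [Scheme.Hom.comp_app] at h1
    have h2 : (t.app (J₁.subschemeι ⁻¹ᵁ U.1)).hom ((J₁.subschemeι.app U.1).hom a') =
        (J₂.subscheme.presheaf.map (eqToHom
        (show t ⁻¹ᵁ J₁.subschemeι ⁻¹ᵁ U.1 = J₂.subschemeι ⁻¹ᵁ U.1 by rw [← hcomp]; rfl)).op).hom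
          ((J₂.subschemeι.app U.1).hom a') := congrArg (fun φ => φ.hom a') h1
    rw [ha'] at h2
    have hinj : Function.Injective (J₂.subscheme.presheaf.map (eqToHom
        (show t ⁻¹ᵁ J₁.subschemeι ⁻¹ᵁ U.1 = J₂.subschemeι ⁻¹ᵁ U.1 by rw [← hcomp]; rfl)).op).hom := by
      have : IsIso (J₂.subscheme.presheaf.map (eqToHom
        (show t ⁻¹ᵁ J₁.subschemeι ⁻¹ᵁ U.1 = J₂.subschemeι ⁻¹ᵁ U.1 by rw [← hcomp]; rfl)).op) :=
        inferInstance
      exact ((ConcreteCategory.isIso_iff_bijective _).mp this).1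
    apply hinj
    rw [map_zero]
    exact h2.symm
  refine Scheme.IdealSheafData.ext_of_iSup_eq_top
    (fun U : Y.affineOpens => ⟨J₁.subschemeι ⁻¹ᵁ U.1, U.2.preimage J₁.subschemeι⟩) ?_ ?_
  · simp only
    rw [← Scheme.Hom.preimage_iSup, iSup_affineOpens_eq_top]
    rfl
  · intro U
    rw [Scheme.IdealSheafData.ideal_mul, Scheme.IdealSheafData.ideal_bot]
    simp only [Pi.mul_apply, Pi.bot_apply]
    rw [eq_bot_iff, Ideal.mul_le]
    intro a ha b hb
    rw [Scheme.Hom.ker_apply, RingHom.mem_ker] at ha hb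
    obtain ⟨a', rfl⟩ := J₁.subschemeι_app_surjective U a
    obtain ⟨b', rfl⟩ := J₁.subschemeι_app_surjective U b
    have ha' := key U a' ha
    have hb' := key U b' hb
    have h3 : a' * b' ∈ J₁.ideal U := hsq U (Ideal.mul_mem_mul ha' hb')
    rw [← J₁.ker_subschemeι_app U, RingHom.mem_ker, map_mul] at h3
    exact h3

/-- relative square-zero step -/
theorem isAffine_subscheme_of_sq_le {J₁ J₂ : Y.IdealSheafData} (h : J₁ ≤ J₂) (hsq : J₂ * J₂ ≤ J₁)
    [IsAffine J₂.subscheme] : IsAffine J₁.subscheme :=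
  isAffine_of_ker_mul_ker_eq_bot (Scheme.IdealSheafData.inclusion h) (surjective_inclusion h hsq)
    (ker_inclusion_mul h hsq)

/-- a nilpotent thickening of an affine scheme is affine -/
theorem isAffine_of_pow_eq_bot (J : Y.IdealSheafData) (n : ℕ) (hn : J ^ n = ⊥)
    [IsAffine J.subscheme] : IsAffine Y := by
  have hle : ∀ k : ℕ, J ^ (k + 1) ≤ J ^ k := by
    intro k U
    rw [Scheme.IdealSheafData.ideal_pow, Scheme.IdealSheafData.ideal_pow]
    exact Ideal.pow_le_pow_right (Nat.le_succ k)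
  have hstep : ∀ k : ℕ, IsAffine (J ^ (k + 1)).subscheme := by
    intro k
    induction k with
    | zero => rw [zero_add, pow_one]; infer_instance
    | succ k ih =>
      refine isAffine_subscheme_of_sq_le (hle (k + 1)) ?_
      intro U
      rw [Scheme.IdealSheafData.ideal_mul, Scheme.IdealSheafData.ideal_pow,
        Scheme.IdealSheafData.ideal_pow]
      simp only [Pi.mul_apply, Pi.pow_apply]
      rw [← pow_add]
      exact Ideal.pow_le_pow_right (by omega)
  have hn' : J ^ (n + 1) = ⊥ := by rw [pow_succ, hn, Scheme.IdealSheafData.bot_mul]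
  have h1 : IsAffine (⊥ : Y.IdealSheafData).subscheme := hn' ▸ hstep n
  exact IsAffine.of_isIso (inv (Scheme.IdealSheafData.subschemeι (⊥ : Y.IdealSheafData)))

end Groth.Agent.Lib.Helper22.SqZero
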