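import Mathlib

set_option autoImplicit false
universe u

namespace Groth.Agent.Lib.Helper22.Thick

open AlgebraicGeometry CategoryTheory CategoryTheory.Limits

/-- Nakayama for nilpotent ideals: if `B = φ(A) + I B` with `I` nilpotent then `φ` is surjective. -/
theorem surjective_of_nilpotent {A B : Type*} [CommRing A] [CommRing B] (φ : A →+* B) (I : Ideal A)
    (hI : IsNilpotent I) (h : ∀ b : B, ∃ a : A, b - φ a ∈ I.map φ) : Function.Surjective φ := by
  obtain ⟨n, hn⟩ := hI
  have key : ∀ m : ℕ, ∀ b : B, ∃ a : A, b - φ a ∈ (I ^ m).map φ := by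
    intro m
    induction m with
    | zero =>
      intro b
      exact ⟨0, by rw [pow_zero, Ideal.one_eq_top, Ideal.map_top]; trivial⟩
    | succ m ih =>
      intro b
      obtain ⟨a, ha⟩ := ih b
      -- elements of `(I^m) B` are sums of `φ r * b'`
      have : ∀ j ∈ (I ^ m).map φ, ∃ a' : A, j - φ a' ∈ (I ^ (m + 1)).map φ := by
        intro j hj
        unfold Ideal.map at hj
        induction hj using Submodule.span_induction with
        | mem x hx =>
          obtain ⟨r, hr, rfl⟩ := hx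
          exact ⟨r, by simp⟩
        | zero => exact ⟨0, by simp⟩
        | add x y _ _ hx hy =>
          obtain ⟨a1, h1⟩ := hx
          obtain ⟨a2, h2⟩ := hy
          refine ⟨a1 + a2, ?_⟩
          have : x + y - φ (a1 + a2) = (x - φ a1) + (y - φ a2) := by rw [map_add]; ring
          rw [this]
          exact Ideal.add_mem _ h1 h2
        | smul c x hx0 hx =>
          obtain ⟨a1, h1⟩ := hx
          obtain ⟨c', hc'⟩ := h c
          -- c • x = (φ c' + (c - φ c')) * (φ a1 + (x - φ a1))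
          refine ⟨c' * a1, ?_⟩
          have hxm : x ∈ (I ^ m).map φ := hx0
          have e1 : c • x - φ (c' * a1) = (c - φ c') * x + φ c' * (x - φ a1) := by
            rw [map_mul, smul_eq_mul]; ring
          rw [e1]
          refine Ideal.add_mem _ ?_ (Ideal.mul_mem_left _ _ h1)
          have : (c - φ c') * x ∈ I.map φ * (I ^ m).map φ := Ideal.mul_mem_mul hc' hxm
          rw [← Ideal.map_mul, ← pow_succ'] at this
          exact this
      obtain ⟨a', ha'⟩ := this _ ha
      refine ⟨a + a', ?_⟩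
      have : b - φ (a + a') = (b - φ a) - φ a' := by rw [map_add]; ring
      rw [this]
      exact ha'
  intro b
  obtain ⟨a, ha⟩ := key n b
  rw [hn, Ideal.zero_eq_bot, Ideal.map_bot, Ideal.mem_bot, sub_eq_zero] at ha
  exact ⟨a, ha.symm⟩


/-- the kernel of a surjective closed immersion into a locally Noetherian scheme is nilpotent on
affine opens -/
theorem isNilpotent_ker_app {Y Y₀ : Scheme.{u}} [IsLocallyNoetherian Y] (i : Y₀ ⟶ Y)
    [IsClosedImmersion i] [Surjective i] {U : Y.Opens} (hU : IsAffineOpen U) :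
    IsNilpotent (RingHom.ker (i.app U).hom) := by
  have hW : IsAffineOpen (i ⁻¹ᵁ U) := hU.preimage i
  have e₂ : Spec.map (i.appLE U (i ⁻¹ᵁ U) le_rfl) ≫ hU.fromSpec = hW.fromSpec ≫ i :=
    IsAffineOpen.SpecMap_appLE_fromSpec i hU hW le_rfl
  have hπnil : RingHom.ker (i.app U).hom ≤ nilradical Γ(Y, U) := by
    rw [Scheme.Hom.app_eq_appLE, nilradical_eq_sInf]
    refine le_sInf ?_
    intro p hp
    haveI : p.IsPrime := hp
    let P : Spec Γ(Y, U) := ⟨p, hp⟩
    have hy : hU.fromSpec P ∈ U := by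
      have := hU.range_fromSpec
      rw [← SetLike.mem_coe, ← this]
      exact ⟨P, rfl⟩
    obtain ⟨y₀, hy₀⟩ := (inferInstance : Surjective i).surj (hU.fromSpec P)
    have hy₀' : y₀ ∈ Set.range hW.fromSpec := by
      rw [hW.range_fromSpec]
      show i y₀ ∈ U
      rw [hy₀]; exact hy
    obtain ⟨q, rfl⟩ := hy₀'
    have h4 : hU.fromSpec (Spec.map (i.appLE U (i ⁻¹ᵁ U) le_rfl) q) = hU.fromSpec P := by
      rw [← Scheme.Hom.comp_apply, e₂, Scheme.Hom.comp_apply, hy₀]
    have h5 : Spec.map (i.appLE U (i ⁻¹ᵁ U) le_rfl) q = P :=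
      hU.fromSpec.isOpenEmbedding.injective h4
    have h6 : p = q.asIdeal.comap (i.appLE U (i ⁻¹ᵁ U) le_rfl).hom := by
      have := congrArg PrimeSpectrum.asIdeal h5
      exact this.symm
    rw [h6]
    exact Ideal.ker_le_comap _
  haveI : IsNoetherianRing Γ(Y, U) := IsLocallyNoetherian.component_noetherian ⟨U, hU⟩
  obtain ⟨n, hn⟩ := IsNoetherianRing.isNilpotent_nilradical Γ(Y, U)
  refine ⟨n, ?_⟩
  have h3 : RingHom.ker (i.app U).hom ^ n ≤ nilradical Γ(Y, U) ^ n := Ideal.pow_right_mono hπnil n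
  rw [hn] at h3
  exact le_bot_iff.mp h3


section Square

variable {X Y X₀ Y₀ : Scheme.{u}} {g : X ⟶ Y} {i : Y₀ ⟶ Y} {i' : X₀ ⟶ X} {g₀ : X₀ ⟶ Y₀}

/-- In a cartesian square over a closed immersion `i`, the kernel of `i'` on sections over an
affine open `V ≤ g⁻¹ U` is contained in the extension of the kernel of `i` over `U`. -/
theorem ker_app_le (sq : IsPullback i' g₀ g i) [IsClosedImmersion i]
    {U : Y.Opens} (hU : IsAffineOpen U) {V : X.Opens} (hV : IsAffineOpen V) (e : V ≤ g ⁻¹ᵁ U) :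
    RingHom.ker (i'.app V).hom ≤ (RingHom.ker (i.app U).hom).map (g.appLE U V e).hom := by
  haveI : IsClosedImmersion i' := MorphismProperty.of_isPullback sq.flip ‹_›
  have hW : IsAffineOpen (i ⁻¹ᵁ U) := hU.preimage i
  have hV' : IsAffineOpen (i' ⁻¹ᵁ V) := hV.preimage i'
  set J : Ideal Γ(X, V) := (RingHom.ker (i.app U).hom).map (g.appLE U V e).hom with hJ
  let q : Γ(X, V) ⟶ CommRingCat.of (Γ(X, V) ⧸ J) := CommRingCat.ofHom (Ideal.Quotient.mk J)
  -- the map `Γ(Y₀, i⁻¹U) → Γ(X,V)/J`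
  have hkill : RingHom.ker (i.app U).hom ≤ RingHom.ker ((g.appLE U V e) ≫ q).hom := by
    intro a ha
    rw [RingHom.mem_ker, CommRingCat.hom_comp, RingHom.comp_apply]
    exact Ideal.Quotient.eq_zero_iff_mem.mpr (Ideal.mem_map_of_mem _ ha)
  let θ₀ : Γ(Y₀, i ⁻¹ᵁ U) →+* (Γ(X, V) ⧸ J) :=
    RingHom.liftOfSurjective (i.app U).hom (i.app_surjective U hU) ⟨((g.appLE U V e) ≫ q).hom, hkill⟩
  let θ : Γ(Y₀, i ⁻¹ᵁ U) ⟶ CommRingCat.of (Γ(X, V) ⧸ J) := CommRingCat.ofHom θ₀
  have hθ : i.app U ≫ θ = g.appLE U V e ≫ q := by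
    ext a
    exact RingHom.liftOfSurjective_comp_apply (i.app U).hom (i.app_surjective U hU)
      ⟨((g.appLE U V e) ≫ q).hom, hkill⟩ a
  -- the two maps from `Spec (Γ(X,V)/J)`
  let z : Spec (CommRingCat.of (Γ(X, V) ⧸ J)) ⟶ X := Spec.map q ≫ hV.fromSpec
  let w : Spec (CommRingCat.of (Γ(X, V) ⧸ J)) ⟶ Y₀ := Spec.map θ ≫ hW.fromSpec
  have hzw : z ≫ g = w ≫ i := by
    simp only [z, w, Category.assoc]
    rw [← IsAffineOpen.SpecMap_appLE_fromSpec g hU hV e,
      ← IsAffineOpen.SpecMap_appLE_fromSpec i hU hW le_rfl, ← Scheme.Hom.app_eq_appLE,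
      ← Spec.map_comp_assoc, ← Spec.map_comp_assoc, hθ]
  let l : Spec (CommRingCat.of (Γ(X, V) ⧸ J)) ⟶ X₀ := sq.lift z w hzw
  have hl : l ≫ i' = z := sq.lift_fst _ _ _
  -- `l` factors through `Spec Γ(X₀, i'⁻¹ V)`
  have hrange : Set.range l ⊆ Set.range hV'.fromSpec := by
    rw [hV'.range_fromSpec]
    rintro _ ⟨t, rfl⟩
    show i' (l t) ∈ V
    rw [← Scheme.Hom.comp_apply, hl]
    have := hV.range_fromSpec
    rw [← SetLike.mem_coe, ← this]
    exact ⟨Spec.map q t, rfl⟩
  let l' := IsOpenImmersion.lift hV'.fromSpec l hrange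
  have hl' : l' ≫ hV'.fromSpec = l := IsOpenImmersion.lift_fac _ _ _
  obtain ⟨lam, hlam⟩ := Spec.map_surjective l'
  have hq : i'.app V ≫ lam = q := by
    apply Spec.map_injective
    rw [← cancel_mono hV.fromSpec, Spec.map_comp, Category.assoc, Scheme.Hom.app_eq_appLE,
      IsAffineOpen.SpecMap_appLE_fromSpec i' hV hV' le_rfl, ← Category.assoc, hlam, hl', hl]
  intro b hb
  rw [RingHom.mem_ker] at hb
  have : q.hom b = 0 := by
    rw [← hq, CommRingCat.hom_comp, RingHom.comp_apply, hb, map_zero]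
  exact Ideal.Quotient.eq_zero_iff_mem.mp this

/-- surjectivity on sections lifts along a nilpotent thickening -/
theorem app_surjective_of_isPullback (sq : IsPullback i' g₀ g i) [IsClosedImmersion i]
    [IsClosedImmersion g₀] {U : Y.Opens} (hU : IsAffineOpen U) (hV : IsAffineOpen (g ⁻¹ᵁ U))
    (hnil : IsNilpotent (RingHom.ker (i.app U).hom)) : Function.Surjective (g.app U).hom := by
  haveI : IsClosedImmersion i' := MorphismProperty.of_isPullback sq.flip ‹_›
  have hW : IsAffineOpen (i ⁻¹ᵁ U) := hU.preimage i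
  apply surjective_of_nilpotent _ _ hnil
  intro b
  -- the composite `Γ(Y,U) → Γ(X₀, i'⁻¹ g⁻¹ U)` is surjective
  have hcomp : g.app U ≫ i'.app (g ⁻¹ᵁ U) =
      i.app U ≫ g₀.app (i ⁻¹ᵁ U) ≫ X₀.presheaf.map (eqToHom (by rw [← Scheme.Hom.comp_preimage,
        ← Scheme.Hom.comp_preimage, sq.w])).op := by
    have h1 := Scheme.Hom.congr_app sq.w U
    rw [Scheme.Hom.comp_app, Scheme.Hom.comp_app] at h1
    exact h1.trans (Category.assoc _ _ _)
  have hsurj : Function.Surjective (g.app U ≫ i'.app (g ⁻¹ᵁ U)).hom := by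
    rw [hcomp]
    simp only [CommRingCat.hom_comp, RingHom.coe_comp]
    refine Function.Surjective.comp ?_ (i.app_surjective U hU)
    refine Function.Surjective.comp ?_ (g₀.app_surjective _ hW)
    exact (ConcreteCategory.bijective_of_isIso (X₀.presheaf.map (eqToHom _).op)).2
  obtain ⟨a, ha⟩ := hsurj ((i'.app (g ⁻¹ᵁ U)).hom b)
  refine ⟨a, ?_⟩
  have hk : b - (g.app U).hom a ∈ RingHom.ker (i'.app (g ⁻¹ᵁ U)).hom := by
    rw [RingHom.mem_ker, map_sub, sub_eq_zero]
    rw [CommRingCat.hom_comp, RingHom.comp_apply] at ha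
    exact ha.symm
  have := ker_app_le sq hU hV le_rfl hk
  rwa [← Scheme.Hom.app_eq_appLE] at this

/-- a surjective closed immersion is a homeomorphism on underlying spaces -/
theorem isHomeomorph_of_surjective_closedImmersion {Y Y₀ : Scheme.{u}} (i : Y₀ ⟶ Y)
    [IsClosedImmersion i] [Surjective i] : IsHomeomorph i :=
  isHomeomorph_iff_isEmbedding_surjective.mpr ⟨i.isClosedEmbedding.isEmbedding, i.surjective⟩

/-- being a topological closed embedding lifts along thickenings -/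
theorem isClosedEmbedding_of_isPullback (sq : IsPullback i' g₀ g i) [IsClosedImmersion i]
    [Surjective i] (h₀ : Topology.IsClosedEmbedding g₀) : Topology.IsClosedEmbedding g := by
  haveI : IsClosedImmersion i' := MorphismProperty.of_isPullback sq.flip ‹_›
  haveI : Surjective i' := MorphismProperty.of_isPullback sq.flip ‹_›
  obtain ⟨h', hh'⟩ := isHomeomorph_iff_exists_homeomorph.mp
    (isHomeomorph_of_surjective_closedImmersion i')
  have hfun : (g : X → Y) = (i ∘ g₀) ∘ h'.symm := by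
    funext x
    obtain ⟨x₀, rfl⟩ := h'.surjective x
    simp only [Function.comp_apply, Homeomorph.symm_apply_apply]
    rw [hh', ← Scheme.Hom.comp_apply, sq.w, Scheme.Hom.comp_apply]
  rw [hfun]
  exact (i.isClosedEmbedding.comp h₀).comp h'.symm.isClosedEmbedding

end Square

/-- for a topological closed embedding, every point of the target has an affine open
neighbourhood with affine preimage -/
theorem exists_isAffineOpen_preimage {X Y : Scheme.{u}} (g : X ⟶ Y)
    (hg : Topology.IsClosedEmbedding g) (y : Y) :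
    ∃ U : Y.Opens, IsAffineOpen U ∧ y ∈ U ∧ IsAffineOpen (g ⁻¹ᵁ U) := by
  by_cases hy : y ∈ Set.range g
  · obtain ⟨x, rfl⟩ := hy
    obtain ⟨_, ⟨U', hU', rfl⟩, hxU', -⟩ := Y.isBasis_affineOpens.exists_subset_of_mem_open
      (Set.mem_univ (g x)) isOpen_univ
    have hU'a : IsAffineOpen U' := hU'
    obtain ⟨_, ⟨V', hV', rfl⟩, hxV', hV'U'⟩ := X.isBasis_affineOpens.exists_subset_of_mem_open
      (show x ∈ (g ⁻¹ᵁ U' : Set X) from hxU') (g ⁻¹ᵁ U').isOpen
    have hV'a : IsAffineOpen V' := hV'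
    obtain ⟨W, hWo, hW⟩ := hg.isInducing.isOpen_iff.mp V'.isOpen
    let Wo : Y.Opens := ⟨W, hWo⟩
    have hxW : g x ∈ Wo ⊓ U' := ⟨by show x ∈ g ⁻¹' W; rw [hW]; exact hxV', hxU'⟩
    obtain ⟨a, ha1, ha2⟩ := hU'a.exists_basicOpen_le (V := Wo ⊓ U') ⟨g x, hxW⟩ hxU'
    refine ⟨Y.basicOpen a, hU'a.basicOpen a, ha2, ?_⟩
    rw [Scheme.preimage_basicOpen]
    have hle : X.basicOpen (g.app U' a) ≤ V' := by
      rw [← Scheme.preimage_basicOpen]
      intro t ht
      have : g t ∈ Wo ⊓ U' := ha1 ht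
      show t ∈ (V' : Set X)
      rw [← hW]
      exact this.1
    have hV'U'' : V' ≤ g ⁻¹ᵁ U' := hV'U'
    have : X.basicOpen (g.app U' a) =
        X.basicOpen (X.presheaf.map (homOfLE hV'U'').op (g.app U' a)) :=
      ((Scheme.basicOpen_res X (g.app U' a) (homOfLE hV'U'').op).trans
        (inf_eq_right.mpr hle)).symm
    rw [this]
    exact hV'a.basicOpen _
  · have hopen : IsOpen (Set.range g)ᶜ := hg.isClosed_range.isOpen_compl
    obtain ⟨_, ⟨U, hU, rfl⟩, hyU, hUc⟩ := Y.isBasis_affineOpens.exists_subset_of_mem_open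
      (show y ∈ (Set.range g)ᶜ from hy) hopen
    refine ⟨U, hU, hyU, ?_⟩
    have : g ⁻¹ᵁ U = ⊥ := by
      ext t
      simp only [TopologicalSpace.Opens.coe_bot, Set.mem_empty_iff_false, iff_false]
      intro ht
      exact hUc ht ⟨t, rfl⟩
    rw [this]
    exact isAffineOpen_bot X

/-- **closed immersions lift along nilpotent thickenings** -/
theorem isClosedImmersion_of_isPullback {X Y X₀ Y₀ : Scheme.{u}} {g : X ⟶ Y} {i : Y₀ ⟶ Y}
    {i' : X₀ ⟶ X} {g₀ : X₀ ⟶ Y₀} (sq : IsPullback i' g₀ g i) [IsLocallyNoetherian Y]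
    [IsClosedImmersion i] [Surjective i] [IsClosedImmersion g₀] : IsClosedImmersion g := by
  have hg := isClosedEmbedding_of_isPullback sq g₀.isClosedEmbedding
  apply IsZariskiLocalAtTarget.of_forall_exists_morphismRestrict (P := @IsClosedImmersion)
  intro y
  obtain ⟨U, hU, hyU, hV⟩ := exists_isAffineOpen_preimage g hg y
  refine ⟨U, hyU, ?_⟩
  haveI : IsAffine U := hU
  haveI : IsAffine (g ⁻¹ᵁ U) := hV
  apply IsClosedImmersion.of_surjective_of_isAffine
  rw [morphismRestrict_appTop]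
  have key : ∀ W : Y.Opens, W = U → Function.Surjective (g.app W).hom := by
    rintro W rfl
    exact app_surjective_of_isPullback sq hU hV (isNilpotent_ker_app i hU)
  intro t
  obtain ⟨t', rfl⟩ := (ConcreteCategory.bijective_of_isIso
    (X.presheaf.map (eqToHom (image_morphismRestrict_preimage g U ⊤)).op)).2 t
  obtain ⟨s, rfl⟩ := key _ U.ι_image_top t'
  exact ⟨s, rfl⟩

end Groth.Agent.Lib.Helper22.Thick
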