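import Mathlib.RingTheory.FiniteType
import Mathlib.RingTheory.Nilpotent.Lemmas
import Mathlib.RingTheory.Ideal.Operations

set_option autoImplicit false

namespace Groth.Agent.Lib.Helper14

open Algebra

/-- If `B ⟶ C` is a surjection of `R`-algebras with finitely generated nilpotent kernel and `C`
is of finite type over `R`, then so is `B`. -/
theorem finiteType_of_surjective_of_fg_nilpotent_ker {R B C : Type*} [CommRing R] [CommRing B]
    [CommRing C] [Algebra R B] [Algebra R C] (π : B →ₐ[R] C) (hπ : Function.Surjective π)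
    [Algebra.FiniteType R C] (hfg : (RingHom.ker π.toRingHom).FG)
    (hnil : IsNilpotent (RingHom.ker π.toRingHom)) : Algebra.FiniteType R B := by
  classical
  set I : Ideal B := RingHom.ker π.toRingHom with hI
  obtain ⟨sC, hsC⟩ := (inferInstance : Algebra.FiniteType R C).out
  choose lift hlift using hπ
  obtain ⟨sI, hsI⟩ := hfg
  let gens : Finset B := sC.image lift ∪ sI
  let B₀ : Subalgebra R B := Algebra.adjoin R (gens : Set B)
  refine ⟨⟨gens, ?_⟩⟩
  change B₀ = ⊤
  have hgens : ∀ x ∈ gens, x ∈ B₀ := fun x hx => Algebra.subset_adjoin hx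
  have hsIB₀ : ∀ m ∈ sI, m ∈ B₀ := fun m hm =>
    hgens m (Finset.mem_union_right _ hm)
  -- `B₀` surjects onto `C`
  have hbase : ∀ y : B, ∃ β ∈ B₀, y - β ∈ I := by
    intro y
    have h1 : B₀.map π = ⊤ := by
      rw [_root_.eq_top_iff, ← hsC]
      apply Algebra.adjoin_le
      intro c hc
      refine ⟨lift c, hgens _ (Finset.mem_union_left _ (Finset.mem_image_of_mem lift hc)), hlift c⟩
    have h2 : π y ∈ B₀.map π := by rw [h1]; trivial
    obtain ⟨β, hβ, hβy⟩ := h2
    refine ⟨β, hβ, ?_⟩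
    change π.toRingHom (y - β) = 0
    rw [map_sub]
    exact sub_eq_zero.mpr hβy.symm
  -- key: `I ^ n ⊆ B₀ + I ^ (n + 1)`
  have key : ∀ n : ℕ, ∀ y ∈ I ^ n, ∃ β ∈ B₀, y - β ∈ I ^ (n + 1) := by
    intro n
    induction n with
    | zero =>
      intro y _
      obtain ⟨β, hβ, h⟩ := hbase y
      exact ⟨β, hβ, by simpa using h⟩
    | succ n ih =>
      have hQ : ∀ a ∈ I, ∀ b ∈ I ^ n, ∃ β ∈ B₀, a * b - β ∈ I ^ (n + 1 + 1) := by
        intro a ha
        rw [← hsI] at ha
        induction ha using Submodule.span_induction with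
        | mem m hm =>
          intro b hb
          obtain ⟨β, hβ, h⟩ := ih b hb
          refine ⟨m * β, B₀.mul_mem (hsIB₀ m hm) hβ, ?_⟩
          have hmI : m ∈ I := by rw [← hsI]; exact Ideal.subset_span hm
          have : m * b - m * β = m * (b - β) := by ring
          rw [this, pow_succ' I (n + 1)]
          exact Ideal.mul_mem_mul hmI h
        | zero =>
          intro b _
          exact ⟨0, B₀.zero_mem, by simp⟩
        | add a₁ a₂ _ _ h₁ h₂ =>
          intro b hb
          obtain ⟨β₁, hβ₁, h₁'⟩ := h₁ b hb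
          obtain ⟨β₂, hβ₂, h₂'⟩ := h₂ b hb
          refine ⟨β₁ + β₂, B₀.add_mem hβ₁ hβ₂, ?_⟩
          have : (a₁ + a₂) * b - (β₁ + β₂) = (a₁ * b - β₁) + (a₂ * b - β₂) := by ring
          rw [this]
          exact Ideal.add_mem _ h₁' h₂'
        | smul r a' _ h =>
          intro b hb
          obtain ⟨β, hβ, h'⟩ := h (r * b) (Ideal.mul_mem_left _ r hb)
          refine ⟨β, hβ, ?_⟩
          have : r • a' * b - β = a' * (r * b) - β := by
            rw [smul_eq_mul]; ring
          rw [this]; exact h'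
      intro y hy
      rw [pow_succ' I n] at hy
      refine Submodule.mul_induction_on hy (fun a ha b hb => hQ a ha b hb) ?_
      intro y₁ y₂ h₁ h₂
      obtain ⟨β₁, hβ₁, h₁'⟩ := h₁
      obtain ⟨β₂, hβ₂, h₂'⟩ := h₂
      refine ⟨β₁ + β₂, B₀.add_mem hβ₁ hβ₂, ?_⟩
      have : y₁ + y₂ - (β₁ + β₂) = (y₁ - β₁) + (y₂ - β₂) := by ring
      rw [this]
      exact Ideal.add_mem _ h₁' h₂'
  have key2 : ∀ n : ℕ, ∀ y : B, ∃ β ∈ B₀, y - β ∈ I ^ n := by
    intro n
    induction n with
    | zero => intro y; exact ⟨0, B₀.zero_mem, by simp⟩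
    | succ n ih =>
      intro y
      obtain ⟨β, hβ, h⟩ := ih y
      obtain ⟨β', hβ', h'⟩ := key n _ h
      refine ⟨β + β', B₀.add_mem hβ hβ', ?_⟩
      have : y - (β + β') = y - β - β' := by ring
      rw [this]; exact h'
  obtain ⟨N, hN⟩ := hnil
  rw [_root_.eq_top_iff]
  intro y _
  obtain ⟨β, hβ, h⟩ := key2 N y
  rw [hN, Ideal.zero_eq_bot, Ideal.mem_bot] at h
  have : y = β := sub_eq_zero.mp h
  rw [this]; exact hβ

end Groth.Agent.Lib.Helper14
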