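import Mathlib
import Groth.Agent.Lib.Helper22Thick
import Groth.Agent.S2305

set_option autoImplicit false
universe u

namespace Groth.Agent.Lib.Helper22.Thick

open AlgebraicGeometry CategoryTheory CategoryTheory.Limits

/-- the kernel of a surjective closed immersion consists of nilpotent sections on affine opens -/
theorem ker_app_le_nilradical {Y Y₀ : Scheme.{u}} (i : Y₀ ⟶ Y)
    [IsClosedImmersion i] [Surjective i] {U : Y.Opens} (hU : IsAffineOpen U) :
    RingHom.ker (i.app U).hom ≤ nilradical Γ(Y, U) := by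
  have hW : IsAffineOpen (i ⁻¹ᵁ U) := hU.preimage i
  have e₂ : Spec.map (i.appLE U (i ⁻¹ᵁ U) le_rfl) ≫ hU.fromSpec = hW.fromSpec ≫ i :=
    IsAffineOpen.SpecMap_appLE_fromSpec i hU hW le_rfl
  rw [Scheme.Hom.app_eq_appLE, nilradical_eq_sInf]
  refine le_sInf ?_
  intro p hp
  haveI : p.IsPrime := hp
  let P : Spec Γ(Y, U) := ⟨p, hp⟩
  have hy : hU.fromSpec P ∈ U := by
    have := hU.range_fromSpec
    rw [← SetLike.mem_coe, ← this]
    exact ⟨P, rfl⟩
  obtain ⟨y₀, hy₀⟩ := (inferInstance : Surjective i).surj (hU.fromSpec P)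
  have hy₀' : y₀ ∈ Set.range hW.fromSpec := by
    rw [hW.range_fromSpec]
    show i y₀ ∈ U
    rw [hy₀]; exact hy
  obtain ⟨q, rfl⟩ := hy₀'
  have h4 : hU.fromSpec (Spec.map (i.appLE U (i ⁻¹ᵁ U) le_rfl) q) = hU.fromSpec P := by
    rw [← Scheme.Hom.comp_apply, e₂, Scheme.Hom.comp_apply, hy₀]
  have h5 : Spec.map (i.appLE U (i ⁻¹ᵁ U) le_rfl) q = P :=
    hU.fromSpec.isOpenEmbedding.injective h4
  have h6 : p = q.asIdeal.comap (i.appLE U (i ⁻¹ᵁ U) le_rfl).hom := by
    have := congrArg PrimeSpectrum.asIdeal h5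
    exact this.symm
  rw [h6]
  exact Ideal.ker_le_comap _

/-- a morphism from a reduced scheme lifts through a surjective closed immersion -/
theorem exists_lift_of_isReduced {T Y Y₀ : Scheme.{u}} [IsReduced T] (t : T ⟶ Y) (i : Y₀ ⟶ Y)
    [IsClosedImmersion i] [Surjective i] : ∃ t₀ : T ⟶ Y₀, t₀ ≫ i = t := by
  have H : i.ker ≤ t.ker := by
    show i.ker ≤ Scheme.IdealSheafData.ofIdeals _
    rw [Scheme.IdealSheafData.le_ofIdeals_iff]
    intro U
    refine (i.ideal_ker_le U).trans ?_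
    intro s hs
    have hnil : IsNilpotent s := ker_app_le_nilradical i U.2 hs
    rw [RingHom.mem_ker]
    exact (hnil.map (t.app U).hom).eq_zero
  exact ⟨IsClosedImmersion.lift i t H, IsClosedImmersion.lift_fac i t H⟩


section Square

variable {X Y X₀ Y₀ : Scheme.{u}} {g : X ⟶ Y} {i : Y₀ ⟶ Y} {i' : X₀ ⟶ X} {g₀ : X₀ ⟶ Y₀}

theorem isClosedImmersion_fst (sq : IsPullback i' g₀ g i) [IsClosedImmersion i] :
    IsClosedImmersion i' := MorphismProperty.of_isPullback sq.flip ‹_›

theorem surjective_fst (sq : IsPullback i' g₀ g i) [Surjective i] :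
    Surjective i' := MorphismProperty.of_isPullback sq.flip ‹_›

/-- the valuative criterion lifts along thickenings -/
theorem valuativeCriterion_of_isPullback (sq : IsPullback i' g₀ g i) [IsClosedImmersion i]
    [Surjective i] (h₀ : ValuativeCriterion g₀) : ValuativeCriterion g := by
  haveI : IsClosedImmersion i' := isClosedImmersion_fst sq
  haveI : Surjective i' := surjective_fst sq
  rw [ValuativeCriterion.iff] at h₀ ⊢
  obtain ⟨hex, hun⟩ := h₀
  -- data common to both parts
  have key : ∀ S : ValuativeCommSq g, ∃ (j₁ : Spec (.of S.K) ⟶ X₀) (j₂ : Spec (.of S.R) ⟶ Y₀),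
      j₁ ≫ i' = S.i₁ ∧ j₂ ≫ i = S.i₂ ∧
      j₁ ≫ g₀ = Spec.map (CommRingCat.ofHom (algebraMap S.R S.K)) ≫ j₂ := by
    intro S
    obtain ⟨j₁, hj₁⟩ := exists_lift_of_isReduced S.i₁ i'
    obtain ⟨j₂, hj₂⟩ := exists_lift_of_isReduced S.i₂ i
    refine ⟨j₁, j₂, hj₁, hj₂, ?_⟩
    rw [← cancel_mono i, Category.assoc, ← sq.w, ← Category.assoc, hj₁, S.commSq.w,
      Category.assoc, hj₂]
  constructor
  · intro S
    obtain ⟨j₁, j₂, hj₁, hj₂, hw⟩ := key S
    let S₀ : ValuativeCommSq g₀ := ⟨S.R, S.K, j₁, j₂, ⟨hw⟩⟩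
    obtain ⟨⟨l₀⟩⟩ := hex S₀
    refine ⟨⟨⟨l₀.l ≫ i', ?_, ?_⟩⟩⟩
    · rw [← Category.assoc, l₀.fac_left]; exact hj₁
    · rw [Category.assoc, sq.w, ← Category.assoc, l₀.fac_right]; exact hj₂
  · intro S
    obtain ⟨j₁, j₂, hj₁, hj₂, hw⟩ := key S
    let S₀ : ValuativeCommSq g₀ := ⟨S.R, S.K, j₁, j₂, ⟨hw⟩⟩
    constructor
    intro l l'
    obtain ⟨m, hm⟩ := exists_lift_of_isReduced l.l i'
    obtain ⟨m', hm'⟩ := exists_lift_of_isReduced l'.l i'
    have hl : ∀ (k : S.commSq.LiftStruct) (n : Spec (.of S.R) ⟶ X₀), n ≫ i' = k.l →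
        Spec.map (CommRingCat.ofHom (algebraMap S.R S.K)) ≫ n = j₁ ∧ n ≫ g₀ = j₂ := by
      intro k n hn
      constructor
      · rw [← cancel_mono i', Category.assoc, hn, k.fac_left, hj₁]
      · rw [← cancel_mono i, Category.assoc, ← sq.w, ← Category.assoc, hn, k.fac_right, hj₂]
    let L : S₀.commSq.LiftStruct := ⟨m, (hl l m hm).1, (hl l m hm).2⟩
    let L' : S₀.commSq.LiftStruct := ⟨m', (hl l' m' hm').1, (hl l' m' hm').2⟩
    have hLL : L = L' := (hun S₀).elim L L'
    have hmm : m = m' := congrArg CommSq.LiftStruct.l hLL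
    ext1
    rw [← hm, ← hm', hmm]

theorem preimage_eq_image (sq : IsPullback i' g₀ g i) [Surjective i] (U : Set Y) :
    g ⁻¹' U = i' '' (g₀ ⁻¹' (i ⁻¹' U)) := by
  haveI : Surjective i' := surjective_fst sq
  ext x
  constructor
  · intro hx
    obtain ⟨x₀, rfl⟩ := i'.surjective x
    refine ⟨x₀, ?_, rfl⟩
    show i (g₀ x₀) ∈ U
    rw [← Scheme.Hom.comp_apply, ← sq.w, Scheme.Hom.comp_apply]
    exact hx
  · rintro ⟨x₀, hx₀, rfl⟩
    show g (i' x₀) ∈ U
    rw [← Scheme.Hom.comp_apply, sq.w, Scheme.Hom.comp_apply]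
    exact hx₀

/-- quasi-compactness lifts along thickenings -/
theorem quasiCompact_of_isPullback (sq : IsPullback i' g₀ g i) [IsClosedImmersion i]
    [Surjective i] [QuasiCompact g₀] : QuasiCompact g := by
  haveI : Surjective i' := surjective_fst sq
  constructor
  intro U hUo hUc
  have h1 : IsCompact (i ⁻¹' U) := i.isClosedEmbedding.isCompact_preimage hUc
  have h2 : IsCompact (g₀ ⁻¹' (i ⁻¹' U)) :=
    QuasiCompact.isCompact_preimage _ (hUo.preimage i.continuous) h1
  have h3 : g ⁻¹' U = i' '' (g₀ ⁻¹' (i ⁻¹' U)) := by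
    ext x
    constructor
    · intro hx
      obtain ⟨x₀, rfl⟩ := i'.surjective x
      refine ⟨x₀, ?_, rfl⟩
      show i (g₀ x₀) ∈ U
      rw [← Scheme.Hom.comp_apply, ← sq.w, Scheme.Hom.comp_apply]
      exact hx
    · rintro ⟨x₀, hx₀, rfl⟩
      show g (i' x₀) ∈ U
      rw [← Scheme.Hom.comp_apply, sq.w, Scheme.Hom.comp_apply]
      exact hx₀
  rw [h3]
  exact h2.image i'.continuous

set_option backward.isDefEq.respectTransparency.types false in
/-- quasi-separatedness lifts along thickenings -/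
theorem quasiSeparated_of_isPullback (sq : IsPullback i' g₀ g i) [IsClosedImmersion i]
    [Surjective i] [QuasiSeparated g₀] : QuasiSeparated g := by
  haveI : IsClosedImmersion i' := isClosedImmersion_fst sq
  rw [HasAffineProperty.eq_targetAffineLocally (P := @QuasiSeparated)]
  intro U
  show QuasiSeparatedSpace ↥(g ⁻¹ᵁ U.1)
  refine (isQuasiSeparated_iff_quasiSeparatedSpace _ (g ⁻¹ᵁ U.1).isOpen).mp ?_
  have hW : IsAffineOpen (i ⁻¹ᵁ U.1) := U.2.preimage i
  have h1 : IsQuasiSeparated (g₀ ⁻¹ᵁ (i ⁻¹ᵁ U.1) : Set X₀) :=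
    g₀.isQuasiSeparated_preimage hW.isQuasiSeparated
  have h3 : (g ⁻¹ᵁ U.1 : Set X) = i' '' (g₀ ⁻¹ᵁ (i ⁻¹ᵁ U.1) : Set X₀) :=
    preimage_eq_image sq (U.1 : Set Y)
  rw [h3]
  exact h1.image_of_isEmbedding i'.isClosedEmbedding.isEmbedding

/-- being locally of finite type lifts along thickenings of locally Noetherian schemes -/
theorem locallyOfFiniteType_of_isPullback (sq : IsPullback i' g₀ g i) [IsLocallyNoetherian Y]
    [IsClosedImmersion i] [Surjective i] [LocallyOfFiniteType g₀] : LocallyOfFiniteType g := by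
  haveI : LocallyOfFiniteType (pullback.snd g i) := by
    rw [← sq.isoPullback_inv_snd]
    infer_instance
  exact Groth.Agent.S2305.result g i

/-- properness lifts along thickenings of locally Noetherian schemes -/
theorem isProper_of_isPullback (sq : IsPullback i' g₀ g i) [IsLocallyNoetherian Y]
    [IsClosedImmersion i] [Surjective i] [IsProper g₀] : IsProper g := by
  haveI := quasiCompact_of_isPullback sq
  haveI := quasiSeparated_of_isPullback sq
  haveI := locallyOfFiniteType_of_isPullback sq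
  apply IsProper.of_valuativeCriterion
  apply valuativeCriterion_of_isPullback sq
  rw [ValuativeCriterion.iff]
  refine ⟨?_, IsSeparated.valuativeCriterion g₀⟩
  have h : UniversallyClosed g₀ := inferInstance
  rw [UniversallyClosed.eq_valuativeCriterion] at h
  exact h.1

/-- finiteness lifts along thickenings of locally Noetherian schemes -/
theorem isFinite_of_isPullback (sq : IsPullback i' g₀ g i) [IsLocallyNoetherian Y]
    [IsClosedImmersion i] [Surjective i] [IsFinite g₀] : IsFinite g := by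
  haveI : IsClosedImmersion i' := isClosedImmersion_fst sq
  haveI : IsProper g := isProper_of_isPullback sq
  rw [IsFinite.iff_isProper_and_locallyQuasiFinite]
  refine ⟨inferInstance, ?_⟩
  rw [locallyQuasiFinite_iff_isDiscrete_preimage_singleton]
  intro y
  obtain ⟨y₀, rfl⟩ := i.surjective y
  have h1 : i ⁻¹' {i y₀} = {y₀} := by
    ext t
    simp only [Set.mem_preimage, Set.mem_singleton_iff]
    exact ⟨fun h => i.isClosedEmbedding.injective h, fun h => by rw [h]⟩
  rw [preimage_eq_image sq, h1]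
  exact (g₀.isDiscrete_preimage_singleton y₀).image i'.isClosedEmbedding.isInducing

end Square

end Groth.Agent.Lib.Helper22.Thick
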