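import Mathlib
import Groth.Agent.Lib.Helper22FTLimit
import Groth.Agent.Lib.Helper22SqZero2
import Groth.Agent.Lib.Helper22Thick2

/-!
# A thickening of an affine scheme is affine (Stacks 06AD)

ns `Groth.Agent.Lib.Helper22.ThickAffine`: `isAffine_of_thickening` (closed immersion, surjective on
points, affine source ⇒ affine target), via f.t. ideal sheaf approximation (`Helper22FTIdeal`),
Mathlib's `Scheme.exists_isAffine_of_isLimit` and the nilpotent case (`Helper22SqZero2`).
-/

set_option autoImplicit false
universe u

namespace Groth.Agent.Lib.Helper22.ThickAffine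

open AlgebraicGeometry CategoryTheory TopologicalSpace Limits
open Groth.Agent.Lib.Helper22.FTIdeal Groth.Agent.Lib.Helper22.FTLimit
open Groth.Agent.Lib.Helper22.SqZero

variable {X X' : Scheme.{u}}

theorem isHomeomorph_of_surjective (t : X ⟶ X') [IsClosedImmersion t]
    (ht : Function.Surjective t) : IsHomeomorph t :=
  isHomeomorph_iff_isEmbedding_surjective.mpr ⟨t.isEmbedding, ht⟩

theorem compactSpace_of_surjective (t : X ⟶ X') [CompactSpace X]
    (ht : Function.Surjective t) : CompactSpace X' := by
  constructor
  rw [← Set.range_eq_univ.mpr ht]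
  exact isCompact_range t.continuous

theorem quasiSeparatedSpace_of_surjective (t : X ⟶ X') [IsClosedImmersion t]
    [QuasiSeparatedSpace X] (ht : Function.Surjective t) : QuasiSeparatedSpace X' :=
  (quasiSeparatedSpace_congr (isHomeomorph_of_surjective t ht).homeomorph).mp inferInstance

theorem ker_le_nilradical (t : X ⟶ X') [IsClosedImmersion t] (ht : Function.Surjective t) :
    t.ker ≤ X'.nilradical := by
  have : Surjective t := ⟨ht⟩
  intro U
  rw [Scheme.Hom.ker_apply]
  exact Groth.Agent.Lib.Helper22.Thick.ker_app_le_nilradical t U.2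

/-- Stacks 06AD: a thickening of an affine scheme is affine. -/
theorem isAffine_of_thickening (t : X ⟶ X') [IsClosedImmersion t] [IsAffine X]
    (ht : Function.Surjective t) : IsAffine X' := by
  have : CompactSpace X' := compactSpace_of_surjective t ht
  have : QuasiSeparatedSpace X' := quasiSeparatedSpace_of_surjective t ht
  set I := t.ker with hI
  -- the limit cone in Scheme
  let D : (Idx I)ᵒᵖ ⥤ Scheme.{u} := FTLimit.diag I ⋙ Over.forget X'
  let c : Cone D := (Over.forget X').mapCone (cone I)
  have : IsCofiltered (Idx I)ᵒᵖ := inferInstance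
  have : IsConnected (Idx I)ᵒᵖ := IsCofiltered.isConnected _
  have hc : IsLimit c := isLimitOfPreserves (Over.forget X') (coneIsLimit I)
  have hpt : IsAffine c.pt := by
    change IsAffine I.subscheme
    exact IsAffine.of_isIso (inv t.toImage)
  have haff : ∀ {i j : (Idx I)ᵒᵖ} (f : i ⟶ j), IsAffineHom (D.map f) := by
    intro i j f
    change IsAffineHom ((FTLimit.diag I).map f).left
    rw [diag_map_left]
    have h1 : IsClosedImmersion (Scheme.IdealSheafData.inclusion
      (show j.unop.1 ≤ i.unop.1 from f.unop.le)) := inferInstance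
    have h2 : IsAffineHom (Scheme.IdealSheafData.inclusion
      (show j.unop.1 ≤ i.unop.1 from f.unop.le)) := inferInstance
    exact h2
  have hcomp : ∀ i : (Idx I)ᵒᵖ, CompactSpace (D.obj i) := by
    intro i
    change CompactSpace i.unop.1.subscheme
    exact QuasiCompact.compactSpace_of_compactSpace i.unop.1.subschemeι
  have hqs : ∀ i : (Idx I)ᵒᵖ, QuasiSeparatedSpace (D.obj i) := by
    intro i
    change QuasiSeparatedSpace i.unop.1.subscheme
    exact quasiSeparatedSpace_of_quasiSeparated i.unop.1.subschemeι
  obtain ⟨i, hi⟩ := Scheme.exists_isAffine_of_isLimit D c hc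
  have hi' : IsAffine i.unop.1.subscheme := hi
  have hJnil : i.unop.1 ≤ X'.nilradical := i.unop.2.1.trans (ker_le_nilradical t ht)
  obtain ⟨n, hn⟩ := exists_pow_eq_bot i.unop.1 i.unop.2.2 hJnil
  exact isAffine_of_pow_eq_bot i.unop.1 n hn

end Groth.Agent.Lib.Helper22.ThickAffine
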