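import Mathlib
import Groth.Prelude.Def_Canon
import Groth.Agent.Lib.Helper23QCohExt

/-!
# Finiteness of cohomology along short exact sequences (helper27)

For a scheme `X` over `Spec A` with `A` Noetherian and a short exact sequence
`0 → K → E → F → 0` of `O_X`-modules: if `H^i(E)` and `H^{i+1}(K)` are finite `A`-modules then
so is `H^i(F)`.  The connecting homomorphism is shown to be `A`-linear.
-/

set_option autoImplicit false
universe u
open CategoryTheory Limits AlgebraicGeometry TopologicalSpace Opposite Abelian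

namespace Groth.Agent.Lib.Helper27CohFin

open Groth.Agent.Lib.Helper23.QCohLocal

variable {X : Scheme.{u}}

section Delta

variable (S : ShortComplex X.Modules) (hS : S.ShortExact)

/-- multiplication by a global function as an endomorphism of the short complex of abelian
sheaves. -/
noncomputable def smulHom (s : Coh.Γtop X) : S.map (toAbF X) ⟶ S.map (toAbF X) where
  τ₁ := Coh.smulAb S.X₁ s
  τ₂ := Coh.smulAb S.X₂ s
  τ₃ := Coh.smulAb S.X₃ s
  comm₁₂ := (Canon.toSheaf_map_comp_smulAb S.f s).symm
  comm₂₃ := (Canon.toSheaf_map_comp_smulAb S.g s).symm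

/-- the connecting homomorphism `H^i(F) → H^{i+1}(K)`. -/
noncomputable def delta (i : ℕ) : Coh.HH X S.X₃ i →+ Coh.HH X S.X₁ (i + 1) :=
  (shortExact_toAbF S hS).extClass.postcomp _ rfl

theorem delta_smul (i : ℕ) (s : Coh.Γtop X) (x : Coh.HH X S.X₃ i) :
    delta S hS i (s • x) = s • delta S hS i x := by
  have hnat := ShortComplex.ShortExact.extClass_naturality (shortExact_toAbF S hS)
    (shortExact_toAbF S hS) (smulHom S s)
  exact (Ext.comp_assoc_of_second_deg_zero x (Ext.mk₀ (Coh.smulAb S.X₃ s))
      (shortExact_toAbF S hS).extClass rfl).trans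
    ((congrArg (fun z => x.comp z rfl) hnat.symm).trans
      (Ext.comp_assoc_of_third_deg_zero x (shortExact_toAbF S hS).extClass
        (Ext.mk₀ (Coh.smulAb S.X₁ s)) rfl).symm)

theorem exact_delta (i : ℕ) (x : Coh.HH X S.X₃ i) (hx : delta S hS i x = 0) :
    ∃ y : Coh.HH X S.X₂ i,
      Sheaf.H.map ((SheafOfModules.toSheaf X.ringCatSheaf).map S.g) i y = x :=
  Ext.covariant_sequence_exact₃ _ (shortExact_toAbF S hS) x rfl hx

theorem delta_map (i : ℕ) (y : Coh.HH X S.X₂ i) :
    delta S hS i (Sheaf.H.map ((SheafOfModules.toSheaf X.ringCatSheaf).map S.g) i y) = 0 := by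
  have h := (shortExact_toAbF S hS).comp_extClass
  exact (Ext.comp_assoc_of_second_deg_zero y (Ext.mk₀ ((toAbF X).map S.g))
      (shortExact_toAbF S hS).extClass rfl).trans
    ((congrArg (fun z => y.comp z rfl) h).trans (Ext.comp_zero _ _ _ _ _))

end Delta

section Finite

variable (A : Type u) [CommRing A] [X.Over (Spec (CommRingCat.of A))]

/-- the connecting homomorphism as an `A`-linear map. -/
noncomputable def deltaLin (S : ShortComplex X.Modules) (hS : S.ShortExact) (i : ℕ) :
    Coh.HH X S.X₃ i →ₗ[A] Coh.HH X S.X₁ (i + 1) where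
  toFun := delta S hS i
  map_add' := map_add _
  map_smul' _ x := delta_smul S hS i _ x

theorem finite_of_shortExact [IsNoetherianRing A] (S : ShortComplex X.Modules)
    (hS : S.ShortExact) (i : ℕ) (h2 : Module.Finite A (Coh.HH X S.X₂ i))
    (h1 : Module.Finite A (Coh.HH X S.X₁ (i + 1))) : Module.Finite A (Coh.HH X S.X₃ i) := by
  have hN2 : IsNoetherian A (Coh.HH X S.X₂ i) := isNoetherian_of_isNoetherianRing_of_finite A _
  have hN1 : IsNoetherian A (Coh.HH X S.X₁ (i + 1)) :=
    isNoetherian_of_isNoetherianRing_of_finite A _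
  have hN3 : IsNoetherian A (Coh.HH X S.X₃ i) := by
    apply isNoetherian_of_range_eq_ker (Canon.HHlin A S.g i) (deltaLin A S hS i)
    ext x
    constructor
    · rintro ⟨y, rfl⟩
      exact delta_map S hS i y
    · intro hx
      obtain ⟨y, hy⟩ := exact_delta S hS i x hx
      exact ⟨y, hy⟩
  infer_instance

end Finite

end Groth.Agent.Lib.Helper27CohFin
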