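import Mathlib
import Groth.Prelude.Def_Canon
import Groth.Agent.Lib.Helper23QCohAbelian
import Groth.Agent.Lib.Helper23FinType2
import Groth.Agent.Lib.Helper23QCohExt

/-!
# Finite coproducts of `O_X`-modules: coherence and finiteness of cohomology (helper27)
-/

set_option autoImplicit false
universe u
open CategoryTheory Limits AlgebraicGeometry TopologicalSpace Opposite

namespace Groth.Agent.Lib.Helper27CoprodFin

attribute [local instance] Abelian.hasFiniteBiproducts

variable {X : Scheme.{u}} {r : ℕ} (f : Fin r → X.Modules)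

/-- the retractions of a finite coproduct onto its summands. -/
noncomputable def sigmaπ (j : Fin r) : ∐ f ⟶ f j :=
  (biproduct.isoCoproduct f).inv ≫ biproduct.π f j

theorem sum_sigmaπ_ι : ∑ j, sigmaπ f j ≫ Sigma.ι f j = 𝟙 (∐ f) := by
  have h1 : ∀ j, Sigma.ι f j = biproduct.ι f j ≫ (biproduct.isoCoproduct f).hom := by
    intro j
    rw [biproduct.isoCoproduct_hom, biproduct.ι_desc]
  have h2 : ∀ j, sigmaπ f j ≫ Sigma.ι f j =
      (biproduct.isoCoproduct f).inv ≫ (biproduct.π f j ≫ biproduct.ι f j) ≫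
        (biproduct.isoCoproduct f).hom := by
    intro j
    rw [h1 j, sigmaπ]
    simp only [Category.assoc]
  simp only [h2]
  rw [← Preadditive.comp_sum, ← Preadditive.sum_comp, biproduct.total, Category.id_comp,
    Iso.inv_hom_id]

/-- a finite coproduct of quasi-coherent modules is quasi-coherent. -/
theorem isQuasicoherent_sigma (hf : ∀ j, (f j).IsQuasicoherent) : (∐ f).IsQuasicoherent := by
  let g : ULift.{u} (Fin r) → X.Modules := fun j => f j.down
  have h1 : (∐ g).IsQuasicoherent :=
    Groth.Agent.Lib.Helper23.QCohLocal.isQuasicoherent_colimit (Discrete.functor g)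
      (fun j => hf j.as.down)
  let e : ∐ g ≅ ∐ f := Sigma.reindex (Equiv.ulift : ULift.{u} (Fin r) ≃ Fin r) f
  exact (SheafOfModules.isQuasicoherent X.ringCatSheaf).prop_of_iso e h1

/-- evaluation of morphisms at a section, as an additive map. -/
noncomputable def evalApp {M N : X.Modules} (U : X.Opens) (s : Γ(M, U)) : (M ⟶ N) →+ Γ(N, U) where
  toFun φ := φ.app U s
  map_zero' := rfl
  map_add' _ _ := rfl

/-- a finite coproduct of quasi-coherent modules of finite type is of finite type. -/
theorem isFiniteType_sigma (hf : ∀ j, (f j).IsQuasicoherent)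
    (hft : ∀ j, SheafOfModules.IsFiniteType (R := X.ringCatSheaf) (f j)) :
    SheafOfModules.IsFiniteType (R := X.ringCatSheaf) (∐ f) := by
  have hq : (∐ f).IsQuasicoherent := isQuasicoherent_sigma f hf
  refine (Groth.Agent.Lib.Helper23.FinType.isFiniteType_iff_forall_affine (∐ f)).mpr ?_
  intro U hU
  have hfin : ∀ j, Module.Finite Γ(X, U) Γ(f j, U) := fun j => by
    haveI := hf j
    haveI := hft j
    exact Groth.Agent.Lib.Helper23.FinType.finite_of_isFiniteType (f j) hU
  let φ : ∀ j, Γ(f j, U) →ₗ[Γ(X, U)] Γ((∐ f : X.Modules), U) := fun j =>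
    { toFun := fun x => (Sigma.ι f j).app U x
      map_add' := fun x y => map_add _ x y
      map_smul' := fun c x => Scheme.Modules.Hom.app_smul (Sigma.ι f j) c x }
  refine Module.Finite.of_surjective (LinearMap.lsum Γ(X, U) _ Γ(X, U) φ) ?_
  intro s
  refine ⟨fun j => (sigmaπ f j).app U s, ?_⟩
  rw [LinearMap.lsum_apply, LinearMap.sum_apply]
  have h1 := congrArg (evalApp (N := ∐ f) U s) (sum_sigmaπ_ι f)
  rw [map_sum] at h1
  exact h1

section Coh

open Groth.Agent.Lib.Helper23.QCohLocal

/-- the value of the induced map on cohomology at a class, additive in the morphism. -/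
noncomputable def evalH {M N : X.Modules} (i : ℕ) (x : Sheaf.H ((toAbF X).obj M) i) :
    (M ⟶ N) →+ Sheaf.H ((toAbF X).obj N) i where
  toFun φ := Sheaf.H.map ((toAbF X).map φ) i x
  map_zero' := by
    have hz : (toAbF X).map (0 : M ⟶ N) = 0 := Functor.map_zero _ _ _
    rw [hz]
    change ((Sheaf.functorH _ i).map (0 : (toAbF X).obj M ⟶ (toAbF X).obj N)).hom x = 0
    rw [Functor.map_zero]
    rfl
  map_add' φ ψ := by
    have ha : (toAbF X).map (φ + ψ) = (toAbF X).map φ + (toAbF X).map ψ := Functor.map_add _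
    rw [ha, Sheaf.H.map_add_apply]

theorem evalH_id {M : X.Modules} (i : ℕ) (x : Sheaf.H ((toAbF X).obj M) i) :
    evalH (N := M) i x (𝟙 M) = x := by
  change Sheaf.H.map ((toAbF X).map (𝟙 M)) i x = x
  have hi : (toAbF X).map (𝟙 M) = 𝟙 _ := CategoryTheory.Functor.map_id _ _
  rw [hi, Sheaf.H.map_id_apply]

theorem evalH_comp {M N P : X.Modules} (i : ℕ) (x : Sheaf.H ((toAbF X).obj M) i)
    (φ : M ⟶ N) (ψ : N ⟶ P) :
    evalH i x (φ ≫ ψ) = evalH i (evalH i x φ) ψ := by
  change Sheaf.H.map ((toAbF X).map (φ ≫ ψ)) i x =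
    Sheaf.H.map ((toAbF X).map ψ) i (Sheaf.H.map ((toAbF X).map φ) i x)
  have hc : (toAbF X).map (φ ≫ ψ) = (toAbF X).map φ ≫ (toAbF X).map ψ :=
    CategoryTheory.Functor.map_comp _ _ _
  rw [hc, Sheaf.H.map_comp_apply]

variable (A : Type u) [CommRing A] [X.Over (Spec (CommRingCat.of A))]

/-- finiteness of cohomology passes to finite coproducts. -/
theorem finite_HH_sigma (i : ℕ) (h : ∀ j, Module.Finite A (Coh.HH X (f j) i)) :
    Module.Finite A (Coh.HH X (∐ f) i) := by
  refine Module.Finite.of_surjective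
    (LinearMap.lsum A _ A (fun j => Canon.HHlin A (Sigma.ι f j) i)) ?_
  intro x
  refine ⟨fun j => Canon.HHlin A (sigmaπ f j) i x, ?_⟩
  rw [LinearMap.lsum_apply, LinearMap.sum_apply]
  let x' : Sheaf.H ((toAbF X).obj (∐ f)) i := x
  have h1 := congrArg (evalH (N := ∐ f) i x') (sum_sigmaπ_ι f)
  rw [map_sum] at h1
  have h2 := h1.trans (evalH_id i x')
  refine Eq.trans (Finset.sum_congr rfl (fun j _ => ?_)) h2
  exact (evalH_comp i x' (sigmaπ f j) (Sigma.ι f j)).symm

end Coh

end Groth.Agent.Lib.Helper27CoprodFin
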