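import Mathlib

/-!
# Support of a base change of a finite module (helper20)

`Groth.Agent.Lib.Helper20.SuppBC.mem_support_baseChange_iff` : for `N` finite over `A` and `q` a prime of `B`,
`q ∈ Supp_B (B ⊗_A N) ↔ q ∩ A ∈ Supp_A N`.  Also `exists_linearMap_residueField_ne_zero`.
-/

set_option autoImplicit false
set_option linter.style.haveILetI false
universe u v w
open TensorProduct

namespace Groth.Agent.Lib.Helper20.SuppBC

section D1
variable {A : Type u} [CommRing A] {N : Type v} [AddCommGroup N] [Module A N] [Module.Finite A N]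

/-- a finite module with `p` in its support admits a nonzero `A`-linear map to `κ(p)`. -/
theorem exists_linearMap_residueField_ne_zero (p : PrimeSpectrum A) (hp : p ∈ Module.support A N) :
    ∃ (μ : N →ₗ[A] p.asIdeal.ResidueField) (n : N), μ n ≠ 0 := by
  rw [Module.mem_support_iff] at hp
  let Ap := Localization.AtPrime p.asIdeal
  let Np := LocalizedModule p.asIdeal.primeCompl N
  let k := IsLocalRing.ResidueField Ap
  have hnt : Nontrivial (k ⊗[Ap] Np) := by
    rw [← not_subsingleton_iff_nontrivial, IsLocalRing.subsingleton_tensorProduct,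
      not_subsingleton_iff_nontrivial]
    exact hp
  obtain ⟨v, hv⟩ := exists_ne (0 : k ⊗[Ap] Np)
  obtain ⟨m₀, rfl⟩ := TensorProduct.mk_surjective Ap Np k Ideal.Quotient.mk_surjective v
  obtain ⟨φ, hφ⟩ : ∃ φ : Module.Dual k (k ⊗[Ap] Np), φ (TensorProduct.mk Ap k Np 1 m₀) ≠ 0 := by
    by_contra hcon
    push Not at hcon
    exact hv ((Module.forall_dual_apply_eq_zero_iff k _).mp hcon)
  let μ₀ : Np →ₗ[Ap] k := (φ.restrictScalars Ap) ∘ₗ (TensorProduct.mk Ap k Np 1)
  have hμ₀ : μ₀ m₀ ≠ 0 := hφ
  let μ₁ : N →ₗ[A] k := (μ₀.restrictScalars A) ∘ₗ (LocalizedModule.mkLinearMap p.asIdeal.primeCompl N)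
  obtain ⟨⟨n, s⟩, hs⟩ := IsLocalizedModule.surj p.asIdeal.primeCompl
    (LocalizedModule.mkLinearMap p.asIdeal.primeCompl N) m₀
  refine ⟨μ₁, n, fun h0 => ?_⟩
  have h1 : μ₀ (s • m₀) = 0 := by
    rw [hs]; exact h0
  have h2 : (s : A) • μ₀ m₀ = 0 := by
    have : (s • m₀ : Np) = (s : A) • m₀ := rfl
    rw [this] at h1
    rw [← h1]
    exact (LinearMap.map_smul (μ₀.restrictScalars A) (s : A) m₀).symm
  rw [Algebra.smul_def, mul_eq_zero] at h2
  rcases h2 with h2 | h2
  · exact s.2 ((Ideal.algebraMap_residueField_eq_zero (I := p.asIdeal)).mp h2)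
  · exact hμ₀ h2

end D1

section D2
variable {A B : Type u} [CommRing A] [CommRing B] [Algebra A B] {N : Type v} [AddCommGroup N]
  [Module A N] [Module.Finite A N]

/-- **support of a base change**: if `q ∩ A ∈ Supp N` then `q ∈ Supp (B ⊗ N)` (`N` finite). -/
theorem mem_support_baseChange_of_comap (q : PrimeSpectrum B)
    (hp : q.comap (algebraMap A B) ∈ Module.support A N) : q ∈ Module.support B (B ⊗[A] N) := by
  rw [Module.mem_support_iff_of_finite]
  intro t ht
  set p := q.comap (algebraMap A B) with hpdef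
  let K := q.asIdeal.ResidueField
  let g : A →+* K := (algebraMap B K).comp (algebraMap A B)
  have hker : p.asIdeal ≤ RingHom.ker g := by
    intro a ha
    rw [RingHom.mem_ker]
    show algebraMap B K (algebraMap A B a) = 0
    rw [Ideal.algebraMap_residueField_eq_zero]
    exact ha
  have hunit : p.asIdeal.primeCompl ≤ (IsUnit.submonoid K).comap g := by
    intro a ha
    show IsUnit (g a)
    rw [isUnit_iff_ne_zero]
    intro h0
    apply ha
    have : algebraMap B K (algebraMap A B a) = 0 := h0
    rw [Ideal.algebraMap_residueField_eq_zero] at this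
    exact this
  let ι : p.asIdeal.ResidueField →+* K := Ideal.ResidueField.lift p.asIdeal g hker hunit
  have hι : ∀ a : A, ι (algebraMap A _ a) = g a := fun a =>
    Ideal.ResidueField.lift_algebraMap p.asIdeal g hker hunit a
  obtain ⟨μ, n₀, hn₀⟩ := exists_linearMap_residueField_ne_zero (N := N) p hp
  let f : B →+ N →+ K := AddMonoidHom.mk' (fun b => AddMonoidHom.mk' (fun n => algebraMap B K b * ι (μ n))
    (fun n n' => by simp only [map_add, mul_add]))
    (fun b b' => by ext n; simp only [map_add, add_mul, AddMonoidHom.mk'_apply, AddMonoidHom.add_apply])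
  have hf : ∀ (a : A) (b : B) (n : N), f (a • b) n = f b (a • n) := by
    intro a b n
    show algebraMap B K (a • b) * ι (μ n) = algebraMap B K b * ι (μ (a • n))
    rw [Algebra.smul_def, map_mul, map_smul, Algebra.smul_def, map_mul, hι]
    show g a * _ * _ = _
    ring
  let L : B ⊗[A] N →+ K := TensorProduct.liftAddHom f hf
  have h1 : t • ((1 : B) ⊗ₜ[A] n₀) = 0 := Module.mem_annihilator.mp ht _
  have h2 : L (t • ((1 : B) ⊗ₜ[A] n₀)) = algebraMap B K t * ι (μ n₀) := by
    rw [TensorProduct.smul_tmul', smul_eq_mul, mul_one]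
    rfl
  rw [h1, map_zero] at h2
  have h3 : ι (μ n₀) ≠ 0 := by
    rw [Ne, map_eq_zero]; exact hn₀
  have h4 : algebraMap B K t = 0 := by
    rcases mul_eq_zero.mp h2.symm with h | h
    · exact h
    · exact (h3 h).elim
  exact (Ideal.algebraMap_residueField_eq_zero (I := q.asIdeal)).mp h4

/-- the converse inclusion -/
theorem comap_mem_support_of_mem_support_baseChange (q : PrimeSpectrum B)
    (hq : q ∈ Module.support B (B ⊗[A] N)) : q.comap (algebraMap A B) ∈ Module.support A N := by
  rw [Module.mem_support_iff_of_finite]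
  intro a ha
  have h1 := Module.annihilator_le_of_mem_support hq
  apply h1
  rw [Module.mem_annihilator]
  intro x
  induction x using TensorProduct.induction_on with
  | zero => rw [smul_zero]
  | tmul b n =>
    have h2 : algebraMap A B a • (b ⊗ₜ[A] n) = a • (b ⊗ₜ[A] n) := by
      rw [TensorProduct.smul_tmul', TensorProduct.smul_tmul', smul_eq_mul, Algebra.smul_def]
    show algebraMap A B a • (b ⊗ₜ[A] n) = 0
    rw [h2, TensorProduct.smul_tmul', TensorProduct.smul_tmul, Module.mem_annihilator.mp ha n,
      TensorProduct.tmul_zero]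
  | add x y hx hy => rw [smul_add, hx, hy, add_zero]

theorem mem_support_baseChange_iff (q : PrimeSpectrum B) :
    q ∈ Module.support B (B ⊗[A] N) ↔ q.comap (algebraMap A B) ∈ Module.support A N :=
  ⟨comap_mem_support_of_mem_support_baseChange q, mem_support_baseChange_of_comap q⟩

end D2

end Groth.Agent.Lib.Helper20.SuppBC
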