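import Mathlib
import Groth.Prelude.Def_Omega2
import Groth.Agent.Lib.Helper23QCohAbelian

/-!
# The conormal sheaf / sheaf of differentials in the affine case (helper20)

Main results (namespace `Groth.Agent.Lib.Helper20.OmegaAff`):

* `pullbackTildeIso ψ` : `tilde.functor B ⋙ pullback (Spec.map ψ) ≅ extendScalars ψ ⋙ tilde.functor A`
  (pull-back of `M~` along `Spec A ⟶ Spec B` is `(A ⊗_B M)~`), and `pullbackTildeObjIso`.
* `isQuasicoherent_structureModule`, `isQuasicoherent_idealMod`.
* `isoTildeOfΓIso` : a quasi-coherent module on `Spec B` with global sections `≅ M` is `≅ tilde M`.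
* `gammaIdealModIso g i` : for `i : Z ⟶ P` quasi-compact, `P` affine, `g : P ⟶ Spec B` an isomorphism,
  the global sections of `g_* (idealMod i.ker)` are the kernel of `B → Γ(Z, ⊤)`.
* `conormalIsoOfIso` : transport of the conormal sheaf along an isomorphism of the target.
* `conormalAffineIso` : for `i : Spec A ⟶ P`, `g : P ≅ Spec B`, `i ≫ g = Spec.map ψ`:
  `Omega.conormal i ≅ tilde (A ⊗_B ker ψ)`.
* `tensorIdealEquivCotangent` : `A ⊗[B] I ≃ₗ[A] I/I²` for `A = B/I`.
* `omegaSpecIso R A` : `Omega.sheaf (Spec A ⟶ Spec R) ≅ tilde Ω[A⁄R]`.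
-/

set_option autoImplicit false
universe u
open CategoryTheory AlgebraicGeometry Limits TensorProduct Opposite
open Groth.Agent.Lib.Helper23.QCohLocal

namespace Groth.Agent.Lib.Helper20.OmegaAff

section pullbackTilde
variable {B A : CommRingCat.{u}} (ψ : B ⟶ A)

/-- global sections of a push-forward along `Spec A ⟶ Spec B`: restriction of scalars. -/
noncomputable def pushforwardΓIso :
    Scheme.Modules.pushforward (Spec.map ψ) ⋙ moduleSpecΓFunctor (R := B) ≅
      moduleSpecΓFunctor (R := A) ⋙ ModuleCat.restrictScalars ψ.hom :=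
  Functor.isoWhiskerRight (pushforwardCompModulesSpecToSheafIso ψ)
    (TopCat.Sheaf.forget _ _ ⋙ (evaluation _ _).obj (.op ⊤)) ≪≫ Iso.refl _

/-- the adjunction `tilde ⋙ pullback ⊣ pushforward ⋙ Γ`. -/
noncomputable def adj1 : tilde.functor B ⋙ Scheme.Modules.pullback (Spec.map ψ) ⊣
    Scheme.Modules.pushforward (Spec.map ψ) ⋙ moduleSpecΓFunctor (R := B) :=
  (tilde.adjunction (R := B)).comp (Scheme.Modules.pullbackPushforwardAdjunction (Spec.map ψ))

/-- the adjunction `extendScalars ⋙ tilde ⊣ Γ ⋙ restrictScalars`. -/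
noncomputable def adj2 : ModuleCat.extendScalars ψ.hom ⋙ tilde.functor A ⊣
    moduleSpecΓFunctor (R := A) ⋙ ModuleCat.restrictScalars ψ.hom :=
  (ModuleCat.extendRestrictScalarsAdj ψ.hom).comp (tilde.adjunction (R := A))

/-- pullback of tilde is tilde of extension of scalars -/
noncomputable def pullbackTildeIso :
    tilde.functor B ⋙ Scheme.Modules.pullback (Spec.map ψ) ≅
      ModuleCat.extendScalars ψ.hom ⋙ tilde.functor A :=
  Adjunction.leftAdjointUniq ((adj1 ψ).ofNatIsoRight (pushforwardΓIso ψ)) (adj2 ψ)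

/-- pullback of `tilde M` along `Spec.map ψ` is `tilde (A ⊗_B M)`. -/
noncomputable def pullbackTildeObjIso (M : ModuleCat.{u} B) :
    (Scheme.Modules.pullback (Spec.map ψ)).obj (tilde M) ≅
      tilde ((ModuleCat.extendScalars ψ.hom).obj M) :=
  (pullbackTildeIso ψ).app M

end pullbackTilde

section qcoh
variable {P : Scheme.{u}}

instance isQuasicoherent_structureModule : (Coh.structureModule P).IsQuasicoherent := by
  unfold Coh.structureModule
  have h : (SheafOfModules.free (R := P.ringCatSheaf) PUnit.{u+1}).IsQuasicoherent := inferInstance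
  exact (SheafOfModules.isQuasicoherent P.ringCatSheaf).prop_of_iso
    (coproductUniqueIso (fun (_ : PUnit.{u+1}) ↦ SheafOfModules.unit P.ringCatSheaf)) h

instance isQuasicoherent_idealMod (J : P.IdealSheafData) : (ClSub.idealMod J).IsQuasicoherent := by
  have : ((Scheme.Modules.pushforward J.subschemeι).obj
      (Coh.structureModule J.subscheme)).IsQuasicoherent := isQuasicoherent_pushforward _ _
  exact isQuasicoherent_kernel _

/-- a quasi-coherent module on `Spec B` with known global sections is the corresponding tilde -/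
noncomputable def isoTildeOfΓIso {B : CommRingCat.{u}} (N : (Spec B).Modules) [N.IsQuasicoherent]
    (M : ModuleCat.{u} B) (e : moduleSpecΓFunctor.obj N ≅ M) : N ≅ tilde M := by
  haveI : IsIso N.fromTildeΓ := isIso_fromTildeΓ N
  exact (asIso N.fromTildeΓ).symm ≪≫ (tilde.functor B).mapIso e

end qcoh

section gamma
variable {B : CommRingCat.{u}} {P Z : Scheme.{u}} (g : P ⟶ Spec B) (i : Z ⟶ P)

/-- global sections over `Spec B` of the push-forward along `g`. -/
noncomputable abbrev FF : P.Modules ⥤ ModuleCat.{u} B :=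
  Scheme.Modules.pushforward g ⋙ moduleSpecΓFunctor (R := B)

instance : (FF g).IsRightAdjoint := by
  unfold FF
  have : (moduleSpecΓFunctor (R := B)).IsRightAdjoint := ⟨_, ⟨tilde.adjunction⟩⟩
  infer_instance

/-- the ring map `B → Γ(Z, ⊤)` induced by `i ≫ g`. -/
noncomputable def rho : B ⟶ Γ(Z, ⊤) := (Scheme.ΓSpecIso B).inv ≫ (i ≫ g).appTop

/-- `b ↦ b • 1` -/
noncomputable def theta : (B : Type u) →ₗ[(B : Type u)] ((FF g).obj (Coh.structureModule P)) :=
  LinearMap.toSpanSingleton B _ (1 : Γ(P, g ⁻¹ᵁ ⊤))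

theorem theta_apply (b : B) : theta g b = g.app ⊤ ((Scheme.ΓSpecIso B).inv b) := by
  show (g.app ⊤ ((Scheme.ΓSpecIso B).inv b)) • (1 : Γ(P, g ⁻¹ᵁ ⊤)) = _
  exact mul_one _

theorem theta_bijective [IsIso g] : Function.Bijective (theta g) := by
  have h1 : Function.Bijective ((Scheme.ΓSpecIso B).inv ≫ g.app ⊤).hom :=
    ConcreteCategory.bijective_of_isIso ((Scheme.ΓSpecIso B).inv ≫ g.app ⊤)
  have : ⇑(theta g) = ⇑((Scheme.ΓSpecIso B).inv ≫ g.app ⊤).hom := by
    funext b
    rw [theta_apply]
    rfl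
  rw [this]
  exact h1

theorem map_theta [QuasiCompact i] [IsAffine P] (b : B) :
    ((FF g).map (ClSub.toSubscheme i.ker)).hom (theta g b) = 0 ↔ b ∈ RingHom.ker (rho g i).hom := by
  rw [theta_apply]
  show (i.ker.subschemeι.app (g ⁻¹ᵁ ⊤)).hom _ = 0 ↔ _
  rw [← RingHom.mem_ker]
  have hU : IsAffineOpen (g ⁻¹ᵁ ⊤) := by
    have : g ⁻¹ᵁ ⊤ = ⊤ := rfl
    rw [this]; exact isAffineOpen_top P
  have := i.ker.ker_subschemeι_app ⟨g ⁻¹ᵁ ⊤, hU⟩
  rw [this, Scheme.Hom.ker_apply, RingHom.mem_ker, RingHom.mem_ker]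
  rfl

/-- global sections of the (pushed forward) ideal module: the kernel ideal -/
noncomputable def gammaIdealModIso [IsIso g] [QuasiCompact i] [IsAffine P] :
    (FF g).obj (ClSub.idealMod i.ker) ≅ ModuleCat.of B (RingHom.ker (rho g i).hom) := by
  let φ := ClSub.toSubscheme i.ker
  let e : (B : Type u) ≃ₗ[(B : Type u)] ((FF g).obj (Coh.structureModule P)) :=
    LinearEquiv.ofBijective (theta g) (theta_bijective g)
  have hker : (LinearMap.ker ((FF g).map φ).hom).comap (e : (B : Type u) →ₗ[(B : Type u)] _) =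
      (RingHom.ker (rho g i).hom).restrictScalars B := by
    ext b
    simp only [Submodule.mem_comap, LinearMap.mem_ker, Submodule.restrictScalars_mem]
    exact map_theta g i b
  refine PreservesKernel.iso (FF g) φ ≪≫ ModuleCat.kernelIsoKer _ ≪≫ ?_
  refine (LinearEquiv.toModuleIso ?_)
  refine (LinearEquiv.ofSubmodule' e (LinearMap.ker ((FF g).map φ).hom)).symm ≪≫ₗ ?_
  exact LinearEquiv.ofEq _ _ hker

end gamma

section transport
variable {Z P Q : Scheme.{u}}

/-- conormal sheaf transported along an isomorphism of the target, in pushforward form -/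
noncomputable def conormalIsoOfIso (i : Z ⟶ P) (g : P ⟶ Q) [IsIso g] (h : Z ⟶ Q) (hh : i ≫ g = h) :
    Omega.conormal i ≅
      (Scheme.Modules.pullback h).obj ((Scheme.Modules.pushforward g).obj (ClSub.idealMod i.ker)) := by
  haveI : IsIso (Scheme.Modules.pullbackPushforwardAdjunction g).counit :=
    Adjunction.counit_isIso_of_R_fully_faithful _
  exact (Scheme.Modules.pullback i).mapIso
      (asIso ((Scheme.Modules.pullbackPushforwardAdjunction g).counit.app (ClSub.idealMod i.ker))).symm ≪≫
    ((Scheme.Modules.pullbackComp i g).app _) ≪≫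
    (Scheme.Modules.pullbackCongr hh).app _

end transport

section affine
variable {B A : CommRingCat.{u}} {P : Scheme.{u}} (i : Spec A ⟶ P) (g : P ⟶ Spec B) (ψ : B ⟶ A)

theorem ker_rho_eq (hh : i ≫ g = Spec.map ψ) : RingHom.ker (rho g i).hom = RingHom.ker ψ.hom := by
  have h1 : rho g i = ψ ≫ (Scheme.ΓSpecIso A).inv := by
    rw [rho, hh]
    exact (Scheme.ΓSpecIso_inv_naturality ψ).symm
  rw [h1]
  ext b
  rw [RingHom.mem_ker, RingHom.mem_ker]
  show (Scheme.ΓSpecIso A).inv.hom (ψ.hom b) = 0 ↔ _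
  have hinj : Function.Injective (Scheme.ΓSpecIso A).inv.hom :=
    (ConcreteCategory.bijective_of_isIso (Scheme.ΓSpecIso A).inv).1
  exact ⟨fun h => hinj (by rw [h, map_zero]), fun h => by rw [h, map_zero]⟩

/-- **The conormal sheaf of a morphism of affine schemes.** -/
noncomputable def conormalAffineIso [IsIso g] [QuasiCompact i] [IsAffine P]
    (hh : i ≫ g = Spec.map ψ) :
    Omega.conormal i ≅
      tilde ((ModuleCat.extendScalars ψ.hom).obj (ModuleCat.of B (RingHom.ker ψ.hom))) := by
  let N := (Scheme.Modules.pushforward g).obj (ClSub.idealMod i.ker)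
  haveI : N.IsQuasicoherent := isQuasicoherent_pushforward g _
  let e1 : moduleSpecΓFunctor.obj N ≅ ModuleCat.of B (RingHom.ker ψ.hom) :=
    gammaIdealModIso g i ≪≫
      (LinearEquiv.toModuleIso (LinearEquiv.ofEq _ _ (ker_rho_eq i g ψ hh)))
  exact conormalIsoOfIso i g (Spec.map ψ) hh ≪≫
    (Scheme.Modules.pullback (Spec.map ψ)).mapIso (isoTildeOfΓIso N _ e1) ≪≫
    pullbackTildeObjIso ψ _

end affine

section alg
variable (B A : Type u) [CommRing B] [CommRing A] [Algebra B A]
  (hs : Function.Surjective (algebraMap B A)) (I : Ideal B) (hI : I = RingHom.ker (algebraMap B A))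

section
variable [Module A I.Cotangent] [IsScalarTower B A I.Cotangent]
/-- forward map `A ⊗[B] I → I/I²` -/
noncomputable def fwd : A ⊗[B] I →ₗ[A] I.Cotangent := LinearMap.liftBaseChange A I.toCotangent
end

include hI in
theorem mk_one_le_ker : (I • ⊤ : Submodule B I) ≤ LinearMap.ker (TensorProduct.mk B A I 1) := by
  rw [Submodule.smul_le]
  intro y hy z _
  rw [LinearMap.mem_ker, TensorProduct.mk_apply, ← TensorProduct.smul_tmul]
  have : y • (1 : A) = 0 := by
    rw [Algebra.smul_def, mul_one]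
    rw [hI] at hy
    exact hy
  rw [this, TensorProduct.zero_tmul]

/-- backward map `I/I² → A ⊗[B] I` -/
noncomputable def bwd : I.Cotangent →ₗ[B] A ⊗[B] I :=
  Submodule.liftQ _ (TensorProduct.mk B A I 1) (mk_one_le_ker B A I hI)

theorem bwd_toCotangent (x : I) : bwd B A I hI (I.toCotangent x) = 1 ⊗ₜ x := rfl

variable [Module A I.Cotangent] [IsScalarTower B A I.Cotangent]

include hs in
theorem bwd_fwd (t : A ⊗[B] I) : bwd B A I hI (fwd B A I t) = t := by
  induction t using TensorProduct.induction_on with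
  | zero => simp
  | add x y hx hy => rw [map_add, map_add, hx, hy]
  | tmul a x =>
    obtain ⟨b, rfl⟩ := hs a
    rw [fwd, LinearMap.liftBaseChange_tmul, algebraMap_smul, ← map_smul, bwd_toCotangent,
      ← TensorProduct.smul_tmul, Algebra.smul_def, mul_one]

theorem fwd_surjective : Function.Surjective (fwd B A I) := by
  intro ω
  obtain ⟨x, rfl⟩ := I.toCotangent_surjective ω
  exact ⟨1 ⊗ₜ x, by rw [fwd, LinearMap.liftBaseChange_tmul, one_smul]⟩

/-- `A ⊗[B] I ≃ I/I²` for `A = B/I`. -/
noncomputable def tensorIdealEquivCotangent : A ⊗[B] I ≃ₗ[A] I.Cotangent :=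
  LinearEquiv.ofBijective (fwd B A I)
    ⟨Function.LeftInverse.injective (bwd_fwd B A hs I hI), fwd_surjective B A I⟩

end alg

section kaehler
variable (R A : Type u) [CommRing R] [CommRing A] [Algebra R A]

/-- the multiplication map as a ring hom -/
noncomputable abbrev mulRingHom : A ⊗[R] A →+* A := (Algebra.TensorProduct.lmul' R (S := A)).toRingHom

theorem isScalarTower_cotangent :
    letI : Algebra (A ⊗[R] A) A := (mulRingHom R A).toAlgebra
    IsScalarTower (A ⊗[R] A) A (KaehlerDifferential.ideal R A).Cotangent := by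
  letI : Algebra (A ⊗[R] A) A := (mulRingHom R A).toAlgebra
  refine ⟨fun b a ω => ?_⟩
  have h1 : ∀ (a' : A) (ω' : (KaehlerDifferential.ideal R A).Cotangent),
      a' • ω' = (a' ⊗ₜ[R] (1 : A)) • ω' := by
    intro a' ω'
    have := smul_assoc a' (1 : A ⊗[R] A) ω'
    rw [one_smul] at this
    rw [← this]
    congr 1
    rw [Algebra.TensorProduct.one_def, TensorProduct.smul_tmul', smul_eq_mul, mul_one]
  rw [h1, h1 a ω, ← mul_smul, ← sub_eq_zero, ← sub_smul]
  apply Ideal.Cotangent.smul_eq_zero_of_mem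
  show _ ∈ RingHom.ker _
  rw [RingHom.mem_ker, map_sub, sub_eq_zero]
  show Algebra.TensorProduct.lmul' R ((b • a) ⊗ₜ[R] (1 : A)) =
    Algebra.TensorProduct.lmul' R (b * a ⊗ₜ[R] (1 : A))
  rw [map_mul, Algebra.TensorProduct.lmul'_apply_tmul, Algebra.TensorProduct.lmul'_apply_tmul,
    mul_one, mul_one]
  rfl

theorem mulRingHom_surjective : Function.Surjective (mulRingHom R A) := fun a =>
  ⟨a ⊗ₜ 1, by simp [mulRingHom]⟩

/-- `A ⊗_{A ⊗ A} I ≅ Ω[A⁄R]` in `ModuleCat A`. -/
noncomputable def extendScalarsIdealIso :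
    (ModuleCat.extendScalars (mulRingHom R A)).obj
      (ModuleCat.of (A ⊗[R] A) (KaehlerDifferential.ideal R A)) ≅ ModuleCat.of A Ω[A⁄R] := by
  letI : Algebra (A ⊗[R] A) A := (mulRingHom R A).toAlgebra
  haveI := isScalarTower_cotangent R A
  exact LinearEquiv.toModuleIso (tensorIdealEquivCotangent (A ⊗[R] A) A (mulRingHom_surjective R A)
    (KaehlerDifferential.ideal R A) rfl)

/-- the multiplication map as a morphism of commutative rings -/
noncomputable abbrev mulHom : CommRingCat.of (A ⊗[R] A) ⟶ CommRingCat.of A :=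
  CommRingCat.ofHom (mulRingHom R A)

theorem diagonal_comp_pullbackSpecIso_hom :
    pullback.diagonal (Spec.map (CommRingCat.ofHom (algebraMap R A))) ≫ (pullbackSpecIso R A A).hom =
      Spec.map (mulHom R A) := by
  rw [← Iso.eq_comp_inv]
  apply pullback.hom_ext
  · rw [pullback.diagonal_fst, Category.assoc, pullbackSpecIso_inv_fst, ← Spec.map_comp, ← Spec.map_id]
    congr 1
    ext x
    simp [mulHom]
  · rw [pullback.diagonal_snd, Category.assoc, pullbackSpecIso_inv_snd, ← Spec.map_comp, ← Spec.map_id]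
    congr 1
    ext x
    simp [mulHom]

/-- **The sheaf of differentials of `Spec A ⟶ Spec R` is the sheaf associated with `Ω[A⁄R]`.** -/
noncomputable def omegaSpecIso :
    Omega.sheaf (Spec.map (CommRingCat.ofHom (algebraMap R A))) ≅
      tilde (R := CommRingCat.of A) (ModuleCat.of A (Ω[A⁄R])) :=
  conormalAffineIso (pullback.diagonal (Spec.map (CommRingCat.ofHom (algebraMap R A))))
      (pullbackSpecIso R A A).hom (mulHom R A) (diagonal_comp_pullbackSpecIso_hom R A) ≪≫
    (tilde.functor (CommRingCat.of A)).mapIso (extendScalarsIdealIso R A)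

end kaehler

end Groth.Agent.Lib.Helper20.OmegaAff
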