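import Mathlib
import Groth.Agent.Lib.Helper20OmegaAff

/-!
# The sheaf of differentials on affine charts (helper20)

Namespace `Groth.Agent.Lib.Helper20.OmegaLoc`.

* `conormalRestrictIso k i u ψ H` : for `i : Z ⟶ P` quasi-compact and a cartesian square
  `Spec A --Spec ψ--> Spec B`, `u : Spec A ⟶ Z`, `k : Spec B ⟶ P` (open immersion),
  `u^*(conormal i) ≅ tilde (A ⊗_B ker ψ)`.
* `isPullback_diagonal_map` : the square `U → U ×_V U`, `X → X ×_S X` is cartesian for `U → X` mono.
* `chartK`, `isPullback_chart` : the affine chart `Spec (A ⊗_C A) ⟶ X ×_S X` for affine opens `U ≤ f⁻¹ V`.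
* `omegaRestrictIso f hU hV h halg` : for quasi-separated `f : X ⟶ S`, affine opens `U ≤ f⁻¹ V`:
  `hU.fromSpec^* (Omega.sheaf f) ≅ tilde Ω[Γ(X,U)⁄Γ(S,V)]`.
-/

set_option autoImplicit false
universe v u
open CategoryTheory AlgebraicGeometry Limits TensorProduct Opposite
open Groth.Agent.Lib.Helper23.QCohLocal Groth.Agent.Lib.Helper20.OmegaAff

namespace Groth.Agent.Lib.Helper20.OmegaLoc


section
variable {B A : CommRingCat.{u}} {P Z : Scheme.{u}} (k : Spec B ⟶ P) [IsOpenImmersion k] (i : Z ⟶ P)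
  (u : Spec A ⟶ Z) (ψ : B ⟶ A)

noncomputable abbrev FR : P.Modules ⥤ ModuleCat.{u} B :=
  Scheme.Modules.restrictFunctor k ⋙ moduleSpecΓFunctor (R := B)

instance : (FR k).IsRightAdjoint := by
  unfold FR
  have : (moduleSpecΓFunctor (R := B)).IsRightAdjoint := ⟨_, ⟨tilde.adjunction⟩⟩
  have := restrictFunctor_isRightAdjoint k
  infer_instance

/-- `b ↦ b • 1` -/
noncomputable def thetaR : (B : Type u) →ₗ[(B : Type u)] ((FR k).obj (Coh.structureModule P)) :=
  LinearMap.toSpanSingleton B _ (1 : Γ(P, k ''ᵁ ⊤))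

theorem thetaR_apply (b : B) : thetaR k b = (k.appIso ⊤).inv ((Scheme.ΓSpecIso B).inv b) := by
  show ((k.appIso ⊤).inv ((Scheme.ΓSpecIso B).inv b)) • (1 : Γ(P, k ''ᵁ ⊤)) = _
  exact mul_one _

theorem thetaR_bijective : Function.Bijective (thetaR k) := by
  have h1 : Function.Bijective ((Scheme.ΓSpecIso B).inv ≫ (k.appIso ⊤).inv).hom :=
    ConcreteCategory.bijective_of_isIso ((Scheme.ΓSpecIso B).inv ≫ (k.appIso ⊤).inv)
  have : ⇑(thetaR k) = ⇑((Scheme.ΓSpecIso B).inv ≫ (k.appIso ⊤).inv).hom := by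
    funext b
    rw [thetaR_apply]
    rfl
  rw [this]
  exact h1

theorem map_thetaR [QuasiCompact i] (H : IsPullback (Spec.map ψ) u k i) (b : B) :
    ((FR k).map (ClSub.toSubscheme i.ker)).hom (thetaR k b) = 0 ↔ b ∈ RingHom.ker ψ.hom := by
  rw [thetaR_apply]
  show (i.ker.subschemeι.app (k ''ᵁ ⊤)).hom _ = 0 ↔ _
  rw [← RingHom.mem_ker]
  have hU : IsAffineOpen (k ''ᵁ ⊤) := (isAffineOpen_top (Spec B)).image_of_isOpenImmersion k
  have := i.ker.ker_subschemeι_app ⟨k ''ᵁ ⊤, hU⟩
  rw [this]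
  have h2 := Scheme.ker_ideal_of_isPullback_of_isOpenImmersion i (Spec.map ψ) u k H
    ⟨⊤, isAffineOpen_top (Spec B)⟩
  have h3 : (Scheme.ΓSpecIso B).inv b ∈ (Spec.map ψ).ker.ideal ⟨⊤, isAffineOpen_top (Spec B)⟩ ↔
      b ∈ RingHom.ker ψ.hom := by
    rw [Scheme.Hom.ker_apply, RingHom.mem_ker, RingHom.mem_ker]
    have hn := Scheme.ΓSpecIso_inv_naturality ψ
    have : ((Spec.map ψ).app ⊤).hom ((Scheme.ΓSpecIso B).inv b) = (Scheme.ΓSpecIso A).inv (ψ b) :=
      (congr($(hn).hom b)).symm
    show ((Spec.map ψ).app ⊤).hom ((Scheme.ΓSpecIso B).inv b) = 0 ↔ _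
    rw [this]
    have hinj : Function.Injective (Scheme.ΓSpecIso A).inv.hom :=
      (ConcreteCategory.bijective_of_isIso (Scheme.ΓSpecIso A).inv).1
    exact ⟨fun h => hinj (by rw [map_zero]; exact h), fun h => by
      show (Scheme.ΓSpecIso A).inv.hom (ψ.hom b) = 0
      rw [h, map_zero]⟩
  rw [← h3, h2]
  rfl


/-- global sections of the restricted ideal module: the kernel ideal -/
noncomputable def gammaIdealModIsoR [QuasiCompact i] (H : IsPullback (Spec.map ψ) u k i) :
    (FR k).obj (ClSub.idealMod i.ker) ≅ ModuleCat.of B (RingHom.ker ψ.hom) := by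
  let φ := ClSub.toSubscheme i.ker
  let e : (B : Type u) ≃ₗ[(B : Type u)] ((FR k).obj (Coh.structureModule P)) :=
    LinearEquiv.ofBijective (thetaR k) (thetaR_bijective k)
  have hker : (LinearMap.ker ((FR k).map φ).hom).comap (e : (B : Type u) →ₗ[(B : Type u)] _) =
      (RingHom.ker ψ.hom).restrictScalars B := by
    ext b
    simp only [Submodule.mem_comap, LinearMap.mem_ker, Submodule.restrictScalars_mem]
    exact map_thetaR k i u ψ H b
  refine PreservesKernel.iso (FR k) φ ≪≫ ModuleCat.kernelIsoKer _ ≪≫ ?_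
  refine (LinearEquiv.toModuleIso ?_)
  refine (LinearEquiv.ofSubmodule' e (LinearMap.ker ((FR k).map φ).hom)).symm ≪≫ₗ ?_
  exact LinearEquiv.ofEq _ _ hker

/-- **The conormal sheaf restricted to an affine chart.** -/
noncomputable def conormalRestrictIso [QuasiCompact i] (H : IsPullback (Spec.map ψ) u k i) :
    (Scheme.Modules.pullback u).obj (Omega.conormal i) ≅
      tilde ((ModuleCat.extendScalars ψ.hom).obj (ModuleCat.of B (RingHom.ker ψ.hom))) := by
  let K := ClSub.idealMod i.ker
  let N := (Scheme.Modules.restrictFunctor k).obj K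
  haveI : N.IsQuasicoherent := Scheme.Modules.isQuasicoherent_restrictFunctor k K
  exact (Scheme.Modules.pullbackComp u i).app K ≪≫
    (Scheme.Modules.pullbackCongr H.w.symm).app K ≪≫
    ((Scheme.Modules.pullbackComp (Spec.map ψ) k).app K).symm ≪≫
    (Scheme.Modules.pullback (Spec.map ψ)).mapIso
      (((Scheme.Modules.restrictFunctorIsoPullback k).app K).symm ≪≫
        isoTildeOfΓIso N _ (gammaIdealModIsoR k i u ψ H)) ≪≫
    pullbackTildeObjIso ψ _

end

section cat
variable {C : Type u} [Category.{v} C] [HasPullbacks C]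
variable {X S U V : C} (f : X ⟶ S) (g : U ⟶ V) (u : U ⟶ X) (v : V ⟶ S) (e : g ≫ v = u ≫ f)

theorem isPullback_diagonal_map [Mono u] :
    IsPullback (pullback.diagonal g) u (pullback.map g g f f u u v e e) (pullback.diagonal f) := by
  refine ⟨⟨?_⟩, ⟨PullbackCone.IsLimit.mk _ (fun s => s.fst ≫ pullback.fst g g) ?_ ?_ ?_⟩⟩
  · apply pullback.hom_ext
    · rw [Category.assoc, pullback.lift_fst, Category.assoc, pullback.diagonal_fst,
        ← Category.assoc, pullback.diagonal_fst, Category.id_comp, Category.comp_id]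
    · rw [Category.assoc, pullback.lift_snd, Category.assoc, pullback.diagonal_snd,
        ← Category.assoc, pullback.diagonal_snd, Category.id_comp, Category.comp_id]
  · intro s
    have h1 := s.condition =≫ pullback.fst f f
    have h2 := s.condition =≫ pullback.snd f f
    simp only [Category.assoc, pullback.lift_fst, pullback.lift_snd, pullback.map,
      pullback.diagonal_fst, pullback.diagonal_snd, Category.comp_id] at h1 h2
    apply pullback.hom_ext
    · simp
    · simp only [Category.assoc, pullback.diagonal_snd, Category.comp_id]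
      rw [← cancel_mono u, Category.assoc, Category.assoc, h1, h2]
  · intro s
    have h1 := s.condition =≫ pullback.fst f f
    simp only [Category.assoc, pullback.lift_fst, pullback.map,
        pullback.diagonal_fst, Category.comp_id] at h1
    rw [Category.assoc, h1]
  · intro s m h1 h2
    rw [← h1, Category.assoc, pullback.diagonal_fst, Category.comp_id]
end cat

section chart
variable {X S : Scheme.{u}} (f : X ⟶ S) {U : X.Opens} (hU : IsAffineOpen U) {V : S.Opens}
  (hV : IsAffineOpen V) (h : U ≤ f ⁻¹ᵁ V) [Algebra Γ(S, V) Γ(X, U)]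
  (halg : algebraMap Γ(S, V) Γ(X, U) = (f.appLE V U h).hom)

include halg in
theorem chart_comm :
    Spec.map (CommRingCat.ofHom (algebraMap Γ(S, V) Γ(X, U))) ≫ hV.fromSpec = hU.fromSpec ≫ f := by
  rw [halg]
  exact IsAffineOpen.SpecMap_appLE_fromSpec f hV hU h

/-- the chart `Spec (A ⊗_C A) ⟶ X ×_S X`. -/
noncomputable def chartK : Spec (CommRingCat.of (Γ(X, U) ⊗[Γ(S, V)] Γ(X, U))) ⟶ pullback f f :=
  (pullbackSpecIso Γ(S, V) Γ(X, U) Γ(X, U)).inv ≫
    pullback.map _ _ f f hU.fromSpec hU.fromSpec hV.fromSpec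
      (chart_comm f hU hV h halg) (chart_comm f hU hV h halg)

instance : IsOpenImmersion (chartK f hU hV h halg) := by
  unfold chartK
  infer_instance

theorem isPullback_chart :
    IsPullback (Spec.map (mulHom Γ(S, V) Γ(X, U))) hU.fromSpec (chartK f hU hV h halg)
      (pullback.diagonal f) := by
  have H := isPullback_diagonal_map f (Spec.map (CommRingCat.ofHom (algebraMap Γ(S, V) Γ(X, U))))
    hU.fromSpec hV.fromSpec (chart_comm f hU hV h halg)
  refine H.of_iso (Iso.refl _) (pullbackSpecIso Γ(S, V) Γ(X, U) Γ(X, U)) (Iso.refl _) (Iso.refl _)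
    ?_ ?_ ?_ ?_
  · rw [Iso.refl_hom, Category.id_comp]
    exact diagonal_comp_pullbackSpecIso_hom _ _
  · simp
  · simp [chartK]
  · simp

/-- **The sheaf of differentials on an affine chart.** -/
noncomputable def omegaRestrictIso [QuasiSeparated f] :
    (Scheme.Modules.pullback hU.fromSpec).obj (Omega.sheaf f) ≅
      tilde (R := Γ(X, U)) (ModuleCat.of Γ(X, U) (Ω[Γ(X, U)⁄Γ(S, V)])) :=
  conormalRestrictIso (chartK f hU hV h halg) (pullback.diagonal f) hU.fromSpec
    (mulHom Γ(S, V) Γ(X, U)) (isPullback_chart f hU hV h halg) ≪≫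
  (tilde.functor Γ(X, U)).mapIso (extendScalarsIdealIso Γ(S, V) Γ(X, U))

end chart
end Groth.Agent.Lib.Helper20.OmegaLoc
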