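import Mathlib
import Groth.Agent.Lib.Helper20OmegaLoc

/-!
# Vanishing of the sheaf of differentials and formally unramified morphisms (helper20)

Namespace `Groth.Agent.Lib.Helper20.OmegaUnr`.

* `isZero_of_basis` : a module whose sections over a basis of opens vanish is zero.
* `subsingleton_sections_iff` : `Γ(M, U)` for affine `U` vs global sections of `hU.fromSpec^* M`.
* `subsingleton_sections_omega_iff` : for `f` quasi-separated, affine `U ≤ f⁻¹ V`:
  `Γ(Ω_f, U) = 0 ↔ Γ(S,V) → Γ(X,U)` formally unramified.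
* `formallyUnramified_iff_isZero_omega` : `f` quasi-separated: formally unramified iff `Ω_f = 0`.
-/

set_option autoImplicit false
universe u
open CategoryTheory AlgebraicGeometry Limits TensorProduct Opposite
open Groth.Agent.Lib.Helper20.OmegaAff Groth.Agent.Lib.Helper20.OmegaLoc

namespace Groth.Agent.Lib.Helper20.OmegaUnr
variable {X S : Scheme.{u}}


/-- a module all of whose sections over a basis of opens vanish is zero. -/
theorem isZero_of_basis (M : X.Modules) (B : Set X.Opens) (hB : TopologicalSpace.Opens.IsBasis B)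
    (h : ∀ U ∈ B, Subsingleton Γ(M, U)) : IsZero M := by
  have key : ∀ W : X.Opens, Subsingleton Γ(M, W) := by
    intro W
    refine ⟨fun s t => ?_⟩
    refine M.isSheaf.section_ext (U := op W) fun x hx => ?_
    obtain ⟨V, hVB, hxV, hVW⟩ := TopologicalSpace.Opens.isBasis_iff_nbhd.mp hB hx
    have := h V hVB
    exact ⟨V, hVW, hxV, Subsingleton.elim _ _⟩
  rw [IsZero.iff_id_eq_zero]
  apply Scheme.Modules.hom_ext
  intro U
  ext x
  have := key U
  exact Subsingleton.elim _ _

/-- sections over an affine open vs global sections of the pullback to `Spec`. -/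
theorem subsingleton_sections_iff (M : X.Modules) {U : X.Opens} (hU : IsAffineOpen U) :
    Subsingleton Γ(M, U) ↔ IsZero (moduleSpecΓFunctor.obj ((Scheme.Modules.pullback hU.fromSpec).obj M)) := by
  have e : moduleSpecΓFunctor.obj ((Scheme.Modules.pullback hU.fromSpec).obj M) ≅
      moduleSpecΓFunctor.obj (M.restrict hU.fromSpec) :=
    moduleSpecΓFunctor.mapIso ((Scheme.Modules.restrictFunctorIsoPullback hU.fromSpec).app M).symm
  rw [e.isZero_iff, ModuleCat.isZero_iff_subsingleton]
  have h1 : hU.fromSpec ''ᵁ ⊤ = U :=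
    (Scheme.Hom.image_top_eq_opensRange _).trans hU.opensRange_fromSpec
  show _ ↔ Subsingleton Γ(M, hU.fromSpec ''ᵁ ⊤)
  rw [h1]


theorem subsingleton_sections_omega_iff (f : X ⟶ S) [QuasiSeparated f] {U : X.Opens}
    (hU : IsAffineOpen U) {V : S.Opens} (hV : IsAffineOpen V) (h : U ≤ f ⁻¹ᵁ V) :
    Subsingleton Γ(Omega.sheaf f, U) ↔ (f.appLE V U h).hom.FormallyUnramified := by
  letI : Algebra Γ(S, V) Γ(X, U) := (f.appLE V U h).hom.toAlgebra
  have e : moduleSpecΓFunctor.obj (tilde (ModuleCat.of Γ(X, U) (Ω[Γ(X, U)⁄Γ(S, V)]))) ≅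
      ModuleCat.of Γ(X, U) (Ω[Γ(X, U)⁄Γ(S, V)]) :=
    ((tilde.toTildeΓNatIso (R := Γ(X, U))).app
      (ModuleCat.of Γ(X, U) (Ω[Γ(X, U)⁄Γ(S, V)]))).symm
  rw [subsingleton_sections_iff _ hU,
    (moduleSpecΓFunctor.mapIso (omegaRestrictIso f hU hV h rfl)).isZero_iff, e.isZero_iff,
    ModuleCat.isZero_of_iff_subsingleton, RingHom.FormallyUnramified]
  exact ⟨fun h => ⟨h⟩, fun h => h.1⟩


theorem subsingleton_sections_of_isZero {M : X.Modules} (hz : IsZero M) (U : X.Opens) :
    Subsingleton Γ(M, U) := by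
  refine ⟨fun s t => ?_⟩
  have h0 : 𝟙 M = 0 := hz.eq_of_src _ _
  have hs : ∀ s : Γ(M, U), s = 0 := by
    intro s
    have h1 : (𝟙 M : M ⟶ M).app U s = s := rfl
    rw [← h1, h0]
    rfl
  rw [hs s, hs t]

theorem formallyUnramified_iff_isZero_omega (f : X ⟶ S) [QuasiSeparated f] :
    FormallyUnramified f ↔ IsZero (Omega.sheaf f) := by
  constructor
  · intro hf
    let B : Set X.Opens := {U | IsAffineOpen U ∧ ∃ V : S.Opens, IsAffineOpen V ∧ U ≤ f ⁻¹ᵁ V}
    have hB : TopologicalSpace.Opens.IsBasis B := by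
      rw [TopologicalSpace.Opens.isBasis_iff_nbhd]
      intro W x hx
      obtain ⟨V, hV, hfxV, -⟩ := exists_isAffineOpen_mem_and_subset (x := f x) (U := ⊤) trivial
      obtain ⟨U, hU, hxU, hUW⟩ := exists_isAffineOpen_mem_and_subset (x := x) (U := W ⊓ f ⁻¹ᵁ V)
        ⟨hx, hfxV⟩
      exact ⟨U, ⟨hU, V, hV, fun y hy => (hUW hy).2⟩, hxU, fun y hy => (hUW hy).1⟩
    refine isZero_of_basis _ B hB ?_
    rintro U ⟨hU, V, hV, h⟩
    rw [subsingleton_sections_omega_iff f hU hV h]
    exact hf.formallyUnramified_appLE hV hU h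
  · intro hz
    refine ⟨fun {V} hV {U} hU h => ?_⟩
    rw [← subsingleton_sections_omega_iff f hU hV h]
    exact subsingleton_sections_of_isZero hz U

end Groth.Agent.Lib.Helper20.OmegaUnr
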