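import Mathlib
import Groth.Agent.Lib.Helper20OmegaUnr
import Groth.Agent.Lib.Helper23FinType2
import Groth.Agent.Lib.Helper23QCohAbelian

set_option autoImplicit false
set_option linter.style.haveILetI false
universe u
open CategoryTheory AlgebraicGeometry Limits TensorProduct Opposite TopologicalSpace
open Groth.Agent.Lib.Helper23.QCohLocal Groth.Agent.Lib.Helper20.OmegaAff
  Groth.Agent.Lib.Helper20.OmegaUnr Groth.Agent.Lib.Helper23.FinType

namespace Groth.Agent.Lib.Helper20.Nakayama

section alg
variable (B A : Type u) [CommRing B] [CommRing A] [Algebra B A]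
  (hs : Function.Surjective (algebraMap B A)) (M : Type u) [AddCommGroup M] [Module B M]

include hs in
/-- if `1 ⊗ x = 0` in `A ⊗[B] M` (with `A = B/I`) then `x ∈ I • ⊤`. -/
theorem mem_smul_top_of_one_tmul_eq_zero (x : M) (hx : (1 : A) ⊗ₜ[B] x = 0) :
    x ∈ (RingHom.ker (algebraMap B A) • ⊤ : Submodule B M) := by
  set I := RingHom.ker (algebraMap B A) with hI
  let φ : (B ⧸ I) →ₗ[B] A := Submodule.liftQ I (Algebra.linearMap B A) (fun b hb => hb)
  have hφ : Function.Bijective φ := by
    constructor
    · rw [← LinearMap.ker_eq_bot, Submodule.eq_bot_iff]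
      intro z hz
      obtain ⟨b, rfl⟩ := Submodule.Quotient.mk_surjective _ z
      rw [LinearMap.mem_ker] at hz
      have : algebraMap B A b = 0 := hz
      rw [Submodule.Quotient.mk_eq_zero]
      exact this
    · intro a
      obtain ⟨b, rfl⟩ := hs a
      exact ⟨Submodule.Quotient.mk b, rfl⟩
  let e : (B ⧸ I) ≃ₗ[B] A := LinearEquiv.ofBijective φ hφ
  have he1 : e.symm 1 = (1 : B ⧸ I) := by
    rw [LinearEquiv.symm_apply_eq]
    show (1 : A) = algebraMap B A 1
    rw [map_one]
  let E := TensorProduct.congr e.symm (LinearEquiv.refl B M) ≪≫ₗ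
    TensorProduct.quotTensorEquivQuotSMul M I
  have h1 : E ((1 : A) ⊗ₜ[B] x) = Submodule.Quotient.mk x := by
    show TensorProduct.quotTensorEquivQuotSMul M I
      (TensorProduct.congr e.symm (LinearEquiv.refl B M) ((1 : A) ⊗ₜ[B] x)) = _
    rw [TensorProduct.congr_tmul, he1]
    exact TensorProduct.quotTensorEquivQuotSMul_mk_one_tmul I x
  rw [hx, map_zero] at h1
  exact (Submodule.Quotient.mk_eq_zero _).mp h1.symm

include hs in
/-- Nakayama: `A ⊗[B] M = 0`, `M` finite, `ker (B → A)` in the Jacobson radical ⇒ `M = 0`. -/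
theorem subsingleton_of_subsingleton_tensor [Module.Finite B M]
    (hI : RingHom.ker (algebraMap B A) ≤ Ideal.jacobson ⊥) (h : Subsingleton (A ⊗[B] M)) :
    Subsingleton M := by
  have h1 : (⊤ : Submodule B M) ≤ RingHom.ker (algebraMap B A) • ⊤ := fun x _ =>
    mem_smul_top_of_one_tmul_eq_zero B A hs M x (Subsingleton.elim _ _)
  have h2 := Submodule.eq_bot_of_le_smul_of_le_jacobson_bot (RingHom.ker (algebraMap B A))
    (⊤ : Submodule B M) Module.Finite.fg_top h1 hI
  exact (Submodule.subsingleton_iff B).mp (subsingleton_of_bot_eq_top h2.symm)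

end alg

section sheaf
variable {X X₀ : Scheme.{u}}

/-- a quotient of a module of finite type is of finite type. -/
theorem isFiniteType_of_epi {G C : X.Modules} (p : G ⟶ C) [Epi p]
    [hG : SheafOfModules.IsFiniteType (R := X.ringCatSheaf) G] :
    SheafOfModules.IsFiniteType (R := X.ringCatSheaf) C := by
  obtain ⟨ι, U, gen, hgen, hU, hUa⟩ := exists_isOpenCover_generatingSections G
  refine isFiniteType_of_generatingSections C U hU fun j => ?_
  have h1 : Epi ((Scheme.Modules.restrictFunctor (U j).ι).map p) := inferInstance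
  have h2 : @Epi (SheafOfModules.{u} ((U j : Scheme.{u}).ringCatSheaf)) _ _ _
    ((Scheme.Modules.restrictFunctor (U j).ι).map p) := h1
  exact ⟨(gen j).ofEpi ((Scheme.Modules.restrictFunctor (U j).ι).map p), ⟨(hgen j).finite⟩⟩

variable (i : X₀ ⟶ X)

/-- for `i` surjective, the kernel of `Γ(X, U) → Γ(X₀, i⁻¹U)` consists of nilpotents. -/
theorem ker_app_le_jacobson [Surjective i] {U : X.Opens} (hU : IsAffineOpen U) :
    RingHom.ker (i.app U).hom ≤ Ideal.jacobson ⊥ := by
  intro a ha
  have h1 : X₀.basicOpen ((i.app U).hom a) = ⊥ := by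
    rw [RingHom.mem_ker] at ha
    rw [ha]; exact Scheme.basicOpen_zero ..
  have h2 : i ⁻¹ᵁ (X.basicOpen a) = ⊥ := by rw [Scheme.preimage_basicOpen]; exact h1
  have h3 : X.basicOpen a = ⊥ := by
    ext x
    constructor
    · intro hx
      obtain ⟨y, rfl⟩ := i.surjective x
      have : y ∈ i ⁻¹ᵁ (X.basicOpen a) := hx
      rw [h2] at this; exact this.elim
    · intro hx; exact hx.elim
  have h4 : IsNilpotent a := (Scheme.isNilpotent_iff_basicOpen_eq_bot_of_isCompact hU.isCompact a).mpr h3
  exact Ideal.radical_le_jacobson (mem_nilradical.mpr h4)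

/-- **Nakayama for sheaves**: a quasi-coherent module with finite sections over the affine open `U` whose pullback
along a surjective closed immersion vanishes has no sections over `U`. -/
theorem subsingleton_sections_of_isZero_pullback [IsClosedImmersion i] [Surjective i]
    (C : X.Modules) [C.IsQuasicoherent] {U : X.Opens} (hU : IsAffineOpen U)
    [Module.Finite Γ(X, U) (ΓU C hU)]
    (h : IsZero ((Scheme.Modules.pullback i).obj C)) : Subsingleton Γ(C, U) := by
  have hU₀ : IsAffineOpen (i ⁻¹ᵁ U) := hU.preimage i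
  let ψ : Γ(X, U) ⟶ Γ(X₀, i ⁻¹ᵁ U) := i.app U
  have hsq : Spec.map ψ ≫ hU.fromSpec = hU₀.fromSpec ≫ i := by
    have := IsAffineOpen.SpecMap_appLE_fromSpec i hU hU₀ le_rfl
    rwa [← Scheme.Hom.app_eq_appLE] at this
  haveI : (C.restrict hU.fromSpec).IsQuasicoherent :=
    Scheme.Modules.isQuasicoherent_restrictFunctor hU.fromSpec C
  let e1 : (Scheme.Modules.pullback hU.fromSpec).obj C ≅ tilde (ΓU C hU) :=
    ((Scheme.Modules.restrictFunctorIsoPullback hU.fromSpec).app C).symm ≪≫
      isoTildeOfΓIso (C.restrict hU.fromSpec) (ΓU C hU) (Iso.refl _)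
  let e2 : (Scheme.Modules.pullback (Spec.map ψ)).obj ((Scheme.Modules.pullback hU.fromSpec).obj C) ≅
      (Scheme.Modules.pullback hU₀.fromSpec).obj ((Scheme.Modules.pullback i).obj C) :=
    (Scheme.Modules.pullbackComp (Spec.map ψ) hU.fromSpec).app C ≪≫ (Scheme.Modules.pullbackCongr hsq).app C ≪≫
      ((Scheme.Modules.pullbackComp hU₀.fromSpec i).app C).symm
  have hz : IsZero ((Scheme.Modules.pullback (Spec.map ψ)).obj ((Scheme.Modules.pullback hU.fromSpec).obj C)) :=
    IsZero.of_iso ((Scheme.Modules.pullback hU₀.fromSpec).map_isZero h) e2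
  have hz2 : IsZero (tilde ((ModuleCat.extendScalars ψ.hom).obj (ΓU C hU))) :=
    IsZero.of_iso hz (((Scheme.Modules.pullback (Spec.map ψ)).mapIso e1) ≪≫ pullbackTildeObjIso ψ _).symm
  have hz3 : IsZero ((ModuleCat.extendScalars ψ.hom).obj (ΓU C hU)) := by
    have e3 := (tilde.toTildeΓNatIso (R := Γ(X₀, i ⁻¹ᵁ U))).app
      ((ModuleCat.extendScalars ψ.hom).obj (ΓU C hU))
    haveI : (moduleSpecΓFunctor (R := Γ(X₀, i ⁻¹ᵁ U))).IsRightAdjoint := ⟨_, ⟨tilde.adjunction⟩⟩
    exact IsZero.of_iso (moduleSpecΓFunctor.map_isZero hz2) e3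
  rw [ModuleCat.isZero_iff_subsingleton] at hz3
  letI : Algebra Γ(X, U) Γ(X₀, i ⁻¹ᵁ U) := ψ.hom.toAlgebra
  have hsurj : Function.Surjective (algebraMap Γ(X, U) Γ(X₀, i ⁻¹ᵁ U)) := i.app_surjective U hU
  have hss : Subsingleton (ΓU C hU) :=
    subsingleton_of_subsingleton_tensor Γ(X, U) Γ(X₀, i ⁻¹ᵁ U) hsurj (ΓU C hU)
      (ker_app_le_jacobson i hU) hz3
  rw [subsingleton_sections_iff C hU]
  have e4 : moduleSpecΓFunctor.obj ((Scheme.Modules.pullback hU.fromSpec).obj C) ≅ ΓU C hU :=
    moduleSpecΓFunctor.mapIso ((Scheme.Modules.restrictFunctorIsoPullback hU.fromSpec).app C).symm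
  rw [e4.isZero_iff, ModuleCat.isZero_iff_subsingleton]
  exact hss

/-- **Nakayama for sheaves**: a quasi-coherent module of finite type whose pullback
along a surjective closed immersion vanishes is zero. -/
theorem isZero_of_isZero_pullback [IsClosedImmersion i] [Surjective i]
    (C : X.Modules) [C.IsQuasicoherent] [SheafOfModules.IsFiniteType (R := X.ringCatSheaf) C]
    (h : IsZero ((Scheme.Modules.pullback i).obj C)) : IsZero C := by
  refine isZero_of_basis C {U | IsAffineOpen U} X.isBasis_affineOpens ?_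
  intro U hU
  haveI : Module.Finite Γ(X, U) (ΓU C hU) := by
    rw [finite_ΓU_iff]
    exact finite_of_isFiniteType C hU
  exact subsingleton_sections_of_isZero_pullback i C hU h

/-- a map to a quasi-coherent module of finite type is an epimorphism iff it is after pullback along a surjective
closed immersion. -/
theorem epi_iff_epi_pullback [IsClosedImmersion i] [Surjective i] {F G : X.Modules}
    [F.IsQuasicoherent] [G.IsQuasicoherent] [SheafOfModules.IsFiniteType (R := X.ringCatSheaf) G]
    (u : F ⟶ G) : Epi u ↔ Epi ((Scheme.Modules.pullback i).map u) := by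
  constructor
  · intro _
    infer_instance
  · intro hu
    haveI : (cokernel u).IsQuasicoherent := isQuasicoherent_cokernel u
    have hepi : Epi (cokernel.π u) := inferInstance
    haveI : SheafOfModules.IsFiniteType (R := X.ringCatSheaf) (cokernel u : X.Modules) :=
      isFiniteType_of_epi (cokernel.π u)
    have hz : IsZero ((Scheme.Modules.pullback i).obj (cokernel u)) := by
      have e := PreservesCokernel.iso (Scheme.Modules.pullback i) u
      refine IsZero.of_iso ?_ e
      exact isZero_cokernel_of_epi _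
    have := isZero_of_isZero_pullback i (cokernel u) hz
    exact Abelian.epi_of_cokernel_π_eq_zero _ (this.eq_of_tgt _ _)

end sheaf

end Groth.Agent.Lib.Helper20.Nakayama
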