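import Mathlib
import Groth.Agent.Lib.Helper20Nakayama
import Groth.Agent.Lib.Helper20FittSheaf

/-!
# Modules vanishing near `V(J)` from their pullbacks to the thickenings (helper20)

Namespace `Groth.Agent.Lib.Helper20.Thickening`.

* `map_mem_smul_top_of_pullback_map_eq_zero` : if `i^* v = 0` then over an affine open `U` the map `v` on sections has
  image in `ker(Γ(X,U) → Γ(X₀,i⁻¹U)) • Γ(G,U)`.
* `subsingleton_stalk_of_forall_exists_smul_eq_zero`.
* `subsingleton_stalk_of_isZero_pullback` (Nakayama), `subsingleton_stalk_of_mono_of_pullback_map_eq_zero` (Krull).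
* `exists_opens_isZero_restrict` : vanishing stalks on `Z` ⇒ zero on an open neighbourhood of `Z`.
-/

set_option autoImplicit false
set_option linter.style.haveILetI false
universe u
open CategoryTheory AlgebraicGeometry Limits TensorProduct Opposite TopologicalSpace
open Groth.Agent.Lib.Helper23.QCohLocal Groth.Agent.Lib.Helper20.OmegaAff
  Groth.Agent.Lib.Helper20.OmegaUnr Groth.Agent.Lib.Helper23.FinType Groth.Agent.Lib.Helper20.Nakayama
  Groth.Agent.Lib.Helper20.FittSheaf Groth.Agent.Lib.Helper2.QCoh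

namespace Groth.Agent.Lib.Helper20.Thickening

section lemmaT
variable {X X₀ : Scheme.{u}} (i : X₀ ⟶ X) {U : X.Opens} (hU : IsAffineOpen U)

/-- the functor of sections over the affine open `U`, as `Γ(X,U)`-modules -/
noncomputable abbrev ΓUF : X.Modules ⥤ ModuleCat.{u} Γ(X, U) :=
  Scheme.Modules.restrictFunctor hU.fromSpec ⋙ moduleSpecΓFunctor

/-- if `i^* v = 0`, then over an affine open `U` (with affine preimage) the map `v` on sections has image in
`ker(Γ(X,U) → Γ(X₀, i⁻¹U)) • Γ(G,U)`. -/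
theorem map_mem_smul_top_of_pullback_map_eq_zero (hU₀ : IsAffineOpen (i ⁻¹ᵁ U))
    (hsurj : Function.Surjective (i.app U).hom)
    {F G : X.Modules} [F.IsQuasicoherent] [G.IsQuasicoherent]
    (v : F ⟶ G) (hv : (Scheme.Modules.pullback i).map v = 0) (x : (ΓUF hU).obj F) :
    ((ΓUF hU).map v).hom x ∈
      (RingHom.ker (i.app U).hom • ⊤ : Submodule Γ(X, U) ((ΓUF hU).obj G)) := by
  let ψ : Γ(X, U) ⟶ Γ(X₀, i ⁻¹ᵁ U) := i.app U
  have hsq : Spec.map ψ ≫ hU.fromSpec = hU₀.fromSpec ≫ i := by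
    have := IsAffineOpen.SpecMap_appLE_fromSpec i hU hU₀ le_rfl
    rwa [← Scheme.Hom.app_eq_appLE] at this
  let R := Scheme.Modules.restrictFunctor hU.fromSpec
  let P := Scheme.Modules.pullback (Spec.map ψ)
  -- Step 1
  let γ : Scheme.Modules.pullback i ⋙ Scheme.Modules.pullback hU₀.fromSpec ≅ R ⋙ P :=
    Scheme.Modules.pullbackComp hU₀.fromSpec i ≪≫ Scheme.Modules.pullbackCongr hsq.symm ≪≫
      (Scheme.Modules.pullbackComp (Spec.map ψ) hU.fromSpec).symm ≪≫
      Functor.isoWhiskerRight (Scheme.Modules.restrictFunctorIsoPullback hU.fromSpec).symm P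
  have h1 : P.map (R.map v) = 0 := by
    have hn := γ.hom.naturality v
    have h0 : (Scheme.Modules.pullback i ⋙ Scheme.Modules.pullback hU₀.fromSpec).map v = 0 := by
      rw [Functor.comp_map, hv, Functor.map_zero]
    rw [h0, zero_comp] at hn
    have : (R ⋙ P).map v = 0 := by
      rw [← cancel_epi (γ.hom.app F), ← hn, comp_zero]
    exact this
  -- Step 2
  haveI : (F.restrict hU.fromSpec).IsQuasicoherent :=
    Scheme.Modules.isQuasicoherent_restrictFunctor hU.fromSpec F
  haveI : (G.restrict hU.fromSpec).IsQuasicoherent :=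
    Scheme.Modules.isQuasicoherent_restrictFunctor hU.fromSpec G
  let g : (ΓUF hU).obj F ⟶ (ΓUF hU).obj G := (ΓUF hU).map v
  let εF : (tilde.functor Γ(X, U)).obj ((ΓUF hU).obj F) ⟶ R.obj F := (R.obj F).fromTildeΓ
  let εG : (tilde.functor Γ(X, U)).obj ((ΓUF hU).obj G) ⟶ R.obj G := (R.obj G).fromTildeΓ
  haveI : IsIso εF := isIso_fromTildeΓ (F.restrict hU.fromSpec)
  haveI : IsIso εG := isIso_fromTildeΓ (G.restrict hU.fromSpec)
  have hn2 : (tilde.functor Γ(X, U)).map g ≫ εG = εF ≫ R.map v :=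
    (Scheme.Modules.fromTildeΓNatTrans (R := Γ(X, U))).naturality (R.map v)
  have h2 : P.map ((tilde.functor Γ(X, U)).map g) = 0 := by
    have e : P.map ((tilde.functor Γ(X, U)).map g) ≫ P.map εG = 0 := by
      rw [← P.map_comp, hn2, P.map_comp, h1, comp_zero]
    haveI : IsIso (P.map εG) := inferInstance
    exact (cancel_mono (P.map εG)).1 (e.trans zero_comp.symm)
  -- Step 3
  have h3 : (ModuleCat.extendScalars ψ.hom).map g = 0 := by
    have hn := (pullbackTildeIso ψ).hom.naturality g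
    rw [Functor.comp_map, h2, zero_comp] at hn
    have h4 : (tilde.functor Γ(X₀, i ⁻¹ᵁ U)).map ((ModuleCat.extendScalars ψ.hom).map g) = 0 := by
      rw [← cancel_epi ((pullbackTildeIso ψ).hom.app _)]
      rw [comp_zero]
      exact hn.symm
    apply (tilde.functor Γ(X₀, i ⁻¹ᵁ U)).map_injective
    rw [h4, Functor.map_zero]
  -- Step 4
  letI : Algebra Γ(X, U) Γ(X₀, i ⁻¹ᵁ U) := ψ.hom.toAlgebra
  have h5 : (1 : Γ(X₀, i ⁻¹ᵁ U)) ⊗ₜ[Γ(X, U)] (g.hom x) = 0 := by
    have := ModuleCat.ExtendScalars.map_tmul ψ.hom g (1 : Γ(X₀, i ⁻¹ᵁ U)) x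
    rw [h3] at this
    exact this.symm
  exact mem_smul_top_of_one_tmul_eq_zero Γ(X, U) Γ(X₀, i ⁻¹ᵁ U) hsurj _ _ h5

end lemmaT

section stalk
variable {X : Scheme.{u}} {U : X.Opens} (hU : IsAffineOpen U) (M : X.Modules)

theorem eq_zero_of_map_eq_zero_of_eq {U W : X.Opens} (h : W = U) (hle : W ≤ U) (z : Γ(M, U))
    (hz : M.presheaf.map (homOfLE hle).op z = 0) : z = 0 := by
  subst h
  have : (homOfLE hle).op = 𝟙 (op W) := rfl
  rw [this, M.presheaf.map_id] at hz
  exact hz

/-- if every section over the affine open `U ∋ x` is killed by a function invertible at `x`, the stalk at `x`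
vanishes. -/
theorem subsingleton_stalk_of_forall_exists_smul_eq_zero [M.IsQuasicoherent] (x : X) (hxU : x ∈ U)
    [Module.Finite Γ(X, U) Γ(M, U)]
    (H : ∀ y : (ΓUF hU).obj M, ∃ s : Γ(X, U), x ∈ X.basicOpen s ∧ s • y = 0) :
    Subsingleton (M.presheaf.stalk x) := by
  rw [subsingleton_stalk_iff_notMem_support M hU x hxU, Module.mem_support_iff_exists_annihilator]
  rintro ⟨m, hm⟩
  have h₁ : hU.fromSpec ''ᵁ ⊤ = U := by
    rw [Scheme.Hom.image_top_eq_opensRange, hU.opensRange_fromSpec]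
  have hle := fromSpec_image_le hU ⊤
  let e := M.restrictAppIso hU.fromSpec ⊤
  obtain ⟨s, hxs, hs⟩ := H (e.inv (M.presheaf.map (homOfLE hle).op m))
  have h2 := restrict_fromSpec_smul hU M ⊤ s (e.inv (M.presheaf.map (homOfLE hle).op m))
  have h3 : s • m = 0 := by
    apply eq_zero_of_map_eq_zero_of_eq M h₁ hle
    rw [Scheme.Modules.map_smul]
    have h4 : e.hom (e.inv (M.presheaf.map (homOfLE hle).op m)) = M.presheaf.map (homOfLE hle).op m :=
      e.inv_hom_id_apply _
    rw [h4] at h2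
    rw [← h2]
    erw [hs]
    exact map_zero _
  have h5 : s ∈ (Submodule.span Γ(X, U) {m}).annihilator := by
    rw [Submodule.mem_annihilator_span_singleton]; exact h3
  exact (Groth.Agent.Lib.Helper2.mem_basicOpen_iff_notMem_primeIdealOf hU x hxU s).mp hxs (hm h5)

end stalk

section main
variable {X : Scheme.{u}}

theorem mem_basicOpen_of_sub_one_mem {U : X.Opens} (hU : IsAffineOpen U) (J : X.IdealSheafData) (x : X)
    (hxU : x ∈ U) (hx : x ∈ J.support) (r : Γ(X, U)) (hr : r - 1 ∈ J.ideal ⟨U, hU⟩) :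
    x ∈ X.basicOpen r := by
  rw [Scheme.IdealSheafData.mem_support_iff_of_mem (U := ⟨U, hU⟩) hxU, Scheme.mem_zeroLocus_iff] at hx
  have h1 := hx _ hr
  rw [Groth.Agent.Lib.Helper2.mem_basicOpen_iff_notMem_primeIdealOf hU x hxU] at h1 ⊢
  rw [not_not] at h1
  intro h2
  have h3 := Ideal.sub_mem _ h2 h1
  rw [sub_sub_cancel] at h3
  exact (hU.primeIdealOf ⟨x, hxU⟩).isPrime.ne_top ((Ideal.eq_top_iff_one _).mpr h3)

/-- **Lemma C**: a quasi-coherent module of finite type whose pullback to `V(J)` vanishes has vanishing stalks at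
the points of `V(J)`. -/
theorem subsingleton_stalk_of_isZero_pullback (J : X.IdealSheafData) (C : X.Modules) [C.IsQuasicoherent]
    [SheafOfModules.IsFiniteType (R := X.ringCatSheaf) C]
    (h : IsZero ((Scheme.Modules.pullback J.subschemeι).obj C)) (x : X) (hx : x ∈ J.support) :
    Subsingleton (C.presheaf.stalk x) := by
  obtain ⟨U, hU, hxU, -⟩ := exists_isAffineOpen_mem_and_subset (x := x) (U := ⊤) trivial
  haveI : Module.Finite Γ(X, U) Γ(C, U) := finite_of_isFiniteType C hU
  haveI : Module.Finite Γ(X, U) ((ΓUF hU).obj C) := (finite_ΓU_iff C hU).mpr inferInstance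
  have hv : (Scheme.Modules.pullback J.subschemeι).map (𝟙 C) = 0 := h.eq_of_src _ _
  have hT := map_mem_smul_top_of_pullback_map_eq_zero J.subschemeι hU (hU.preimage J.subschemeι)
    (J.subschemeι.app_surjective U hU) (𝟙 C) hv
  rw [J.ker_subschemeι_app ⟨U, hU⟩] at hT
  have hle : (⊤ : Submodule Γ(X, U) ((ΓUF hU).obj C)) ≤ J.ideal ⟨U, hU⟩ • ⊤ := by
    intro y _
    have := hT y
    rw [(ΓUF hU).map_id] at this
    exact this
  obtain ⟨r, hr1, hr2⟩ := Submodule.exists_sub_one_mem_and_smul_eq_zero_of_fg_of_le_smul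
    (J.ideal ⟨U, hU⟩) (⊤ : Submodule Γ(X, U) ((ΓUF hU).obj C)) Module.Finite.fg_top hle
  refine subsingleton_stalk_of_forall_exists_smul_eq_zero hU C x hxU fun y => ⟨r, ?_, hr2 y trivial⟩
  exact mem_basicOpen_of_sub_one_mem hU J x hxU hx r hr1

attribute [local instance] restrictFunctor_isRightAdjoint in
/-- **Lemma K**: on a locally Noetherian scheme, a coherent submodule `K ⊆ G` whose inclusion pulls back to zero on
all thickenings `V(J^(n+1))` has vanishing stalks at the points of `V(J)` (Krull's intersection theorem). -/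
theorem subsingleton_stalk_of_mono_of_pullback_map_eq_zero [IsLocallyNoetherian X] (J : X.IdealSheafData)
    {K G : X.Modules} [K.IsQuasicoherent] [G.IsQuasicoherent]
    [SheafOfModules.IsFiniteType (R := X.ringCatSheaf) K]
    [SheafOfModules.IsFiniteType (R := X.ringCatSheaf) G] (m : K ⟶ G) [Mono m]
    (h : ∀ n : ℕ, (Scheme.Modules.pullback (J ^ (n + 1)).subschemeι).map m = 0) (x : X)
    (hx : x ∈ J.support) : Subsingleton (K.presheaf.stalk x) := by
  obtain ⟨U, hU, hxU, -⟩ := exists_isAffineOpen_mem_and_subset (x := x) (U := ⊤) trivial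
  haveI : IsNoetherianRing Γ(X, U) := IsLocallyNoetherian.component_noetherian ⟨U, hU⟩
  haveI : Module.Finite Γ(X, U) Γ(K, U) := finite_of_isFiniteType K hU
  haveI : Module.Finite Γ(X, U) Γ(G, U) := finite_of_isFiniteType G hU
  haveI : Module.Finite Γ(X, U) ((ΓUF hU).obj G) := (finite_ΓU_iff G hU).mpr inferInstance
  have hinj : Function.Injective ((ΓUF hU).map m).hom := by
    haveI : Mono ((Scheme.Modules.restrictFunctor hU.fromSpec).map m) := inferInstance
    haveI : (moduleSpecΓFunctor (R := Γ(X, U))).IsRightAdjoint := ⟨_, ⟨tilde.adjunction⟩⟩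
    haveI : Mono ((ΓUF hU).map m) := by
      rw [Functor.comp_map]; infer_instance
    exact (ModuleCat.mono_iff_injective _).1 inferInstance
  refine subsingleton_stalk_of_forall_exists_smul_eq_zero hU K x hxU fun k => ?_
  have hmem : ((ΓUF hU).map m).hom k ∈
      (⨅ n : ℕ, (J.ideal ⟨U, hU⟩) ^ n • ⊤ : Submodule Γ(X, U) ((ΓUF hU).obj G)) := by
    rw [Submodule.mem_iInf]
    intro n
    cases n with
    | zero => rw [pow_zero, Ideal.one_eq_top, Submodule.top_smul]; trivial
    | succ n =>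
      have hT := map_mem_smul_top_of_pullback_map_eq_zero (J ^ (n + 1)).subschemeι hU
        (hU.preimage _) ((J ^ (n + 1)).subschemeι.app_surjective U hU) m (h n) k
      rw [(J ^ (n + 1)).ker_subschemeι_app ⟨U, hU⟩] at hT
      exact hT
  obtain ⟨r, hr⟩ := (Ideal.mem_iInf_smul_pow_eq_bot_iff (J.ideal ⟨U, hU⟩) _).mp hmem
  refine ⟨1 - r, ?_, ?_⟩
  · apply mem_basicOpen_of_sub_one_mem hU J x hxU hx
    rw [sub_sub_cancel_left]
    exact neg_mem r.2
  · apply hinj
    rw [map_smul, map_zero, sub_smul, one_smul, hr, sub_self]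

/-- **Lemma Z**: a quasi-coherent module of finite type whose stalks vanish on a set `Z` restricts to zero on an
open neighbourhood of `Z`. -/
theorem exists_opens_isZero_restrict (M : X.Modules) [M.IsQuasicoherent]
    [SheafOfModules.IsFiniteType (R := X.ringCatSheaf) M] (Z : Set X)
    (hZ : ∀ x ∈ Z, Subsingleton (M.presheaf.stalk x)) :
    ∃ W : X.Opens, Z ⊆ W ∧ IsZero ((Scheme.Modules.restrictFunctor W.ι).obj M) := by
  have hfin : ∀ V : X.affineOpens, Module.Finite Γ(X, V.1) Γ(M, V.1) := fun V =>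
    finite_of_isFiniteType M V.2
  let W : X.Opens := (Fitt.sheafIdeal M 0).support.compl
  have hW : ∀ x, x ∈ W ↔ Subsingleton (M.presheaf.stalk x) := by
    intro x
    have := mem_support_sheafIdeal_iff M hfin x
    show x ∉ (Fitt.sheafIdeal M 0).support ↔ _
    rw [this, not_not]
  refine ⟨W, fun x hx => (hW x).mpr (hZ x hx), ?_⟩
  refine isZero_of_basis _ Set.univ ?_ ?_
  · rw [TopologicalSpace.Opens.isBasis_iff_nbhd]
    intro V x hx
    exact ⟨V, trivial, hx, le_rfl⟩
  · intro V _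
    show Subsingleton Γ(M, W.ι ''ᵁ V)
    refine ⟨fun s t => ?_⟩
    refine TopCat.Presheaf.section_ext ⟨M.presheaf, M.isSheaf⟩ _ s t fun x hx => ?_
    have hxW : x ∈ W := by
      obtain ⟨y, -, rfl⟩ := hx
      exact y.2
    have := (hW x).mp hxW
    exact Subsingleton.elim _ _

end main

end Groth.Agent.Lib.Helper20.Thickening
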