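import Mathlib
import Groth.Agent.Lib.Helper20Thickening
import Groth.Agent.Lib.Helper20SuppBC

/-!
# Pullbacks of quasi-coherent modules over affine opens (helper20)

Namespace `Groth.Agent.Lib.Helper20.PullbackAff`.

* `ΓUEquiv hU M : Γ(M, U) ≃ₗ[Γ(X, U)] (ΓUF hU).obj M` : the two module structures on sections over an affine open.
* `restrictPullbackIso f hV hU h F : (f^*F)|_U ≅ (Γ(Y,U) ⊗_{Γ(X,V)} Γ(F,V))~` for affine `U ≤ f⁻¹V`, `F` quasi-coherent;
  `ΓUFPullbackIso` on sections.
* `isQuasicoherent_pullback` : the pullback of a quasi-coherent module is quasi-coherent.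
* `subsingleton_stalk_pullback_iff` : `(f^*F)_y = 0 ↔ F_{f y} = 0` for `F` quasi-coherent of finite type.
-/

set_option autoImplicit false
set_option linter.style.haveILetI false
universe u
open CategoryTheory AlgebraicGeometry Limits TensorProduct Opposite TopologicalSpace
open Groth.Agent.Lib.Helper23.QCohLocal Groth.Agent.Lib.Helper20.OmegaAff
  Groth.Agent.Lib.Helper20.OmegaUnr Groth.Agent.Lib.Helper23.FinType Groth.Agent.Lib.Helper20.Nakayama
  Groth.Agent.Lib.Helper20.FittSheaf Groth.Agent.Lib.Helper2.QCoh Groth.Agent.Lib.Helper20.Thickening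

namespace Groth.Agent.Lib.Helper20.PullbackAff

section equiv
variable {X : Scheme.{u}} {U : X.Opens} (hU : IsAffineOpen U) (M : X.Modules)

/-- restriction along the equality `hU.fromSpec ''ᵁ ⊤ = U`, as a linear map into `(ΓUF hU).obj M`. -/
noncomputable def toΓUF : Γ(M, U) →ₗ[Γ(X, U)] (ΓUF hU).obj M where
  toFun y := (M.restrictAppIso hU.fromSpec ⊤).inv (M.presheaf.map (homOfLE (fromSpec_image_le hU ⊤)).op y)
  map_add' y y' := by rw [map_add, map_add]; rfl
  map_smul' r y := by
    apply (ConcreteCategory.bijective_of_isIso (M.restrictAppIso hU.fromSpec ⊤).hom).injective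
    rw [RingHom.id_apply]
    erw [restrict_fromSpec_smul hU M ⊤ r]
    rw [Iso.inv_hom_id_apply, Iso.inv_hom_id_apply, Scheme.Modules.map_smul]

theorem toΓUF_bijective : Function.Bijective (toΓUF hU M) := by
  have h₁ : hU.fromSpec ''ᵁ ⊤ = U := by
    rw [Scheme.Hom.image_top_eq_opensRange, hU.opensRange_fromSpec]
  have hb : ∀ (W : X.Opens) (h : W = U) (hle : W ≤ U),
      Function.Bijective (M.presheaf.map (homOfLE hle).op) := by
    intro W h hle
    subst h
    have : (homOfLE hle).op = 𝟙 (op W) := rfl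
    rw [this, M.presheaf.map_id]
    exact Function.bijective_id
  exact (ConcreteCategory.bijective_of_isIso (M.restrictAppIso hU.fromSpec ⊤).inv).comp
    (hb _ h₁ (fromSpec_image_le hU ⊤))

/-- the two module structures on sections over an affine open agree. -/
noncomputable def ΓUEquiv : Γ(M, U) ≃ₗ[Γ(X, U)] (ΓUF hU).obj M :=
  LinearEquiv.ofBijective (toΓUF hU M) (toΓUF_bijective hU M)

end equiv

section pull
variable {X Y : Scheme.{u}} (f : Y ⟶ X) {V : X.Opens} (hV : IsAffineOpen V) {U : Y.Opens}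
  (hU : IsAffineOpen U) (h : U ≤ f ⁻¹ᵁ V) (F : X.Modules) [F.IsQuasicoherent]

/-- `(f^*F)|_U ≅ (Γ(Y,U) ⊗_{Γ(X,V)} Γ(F,V))~` for affine `U ≤ f⁻¹ V`, `V` affine, `F` quasi-coherent. -/
noncomputable def restrictPullbackIso :
    (Scheme.Modules.restrictFunctor hU.fromSpec).obj ((Scheme.Modules.pullback f).obj F) ≅
      tilde ((ModuleCat.extendScalars (f.appLE V U h).hom).obj ((ΓUF hV).obj F)) := by
  have hsq : Spec.map (f.appLE V U h) ≫ hV.fromSpec = hU.fromSpec ≫ f :=
    IsAffineOpen.SpecMap_appLE_fromSpec f hV hU h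
  haveI : (F.restrict hV.fromSpec).IsQuasicoherent :=
    Scheme.Modules.isQuasicoherent_restrictFunctor hV.fromSpec F
  let e1 : (Scheme.Modules.pullback hV.fromSpec).obj F ≅ tilde ((ΓUF hV).obj F) :=
    ((Scheme.Modules.restrictFunctorIsoPullback hV.fromSpec).app F).symm ≪≫
      isoTildeOfΓIso (F.restrict hV.fromSpec) ((ΓUF hV).obj F) (Iso.refl _)
  exact (Scheme.Modules.restrictFunctorIsoPullback hU.fromSpec).app _ ≪≫
    (Scheme.Modules.pullbackComp hU.fromSpec f).app F ≪≫
    (Scheme.Modules.pullbackCongr hsq.symm).app F ≪≫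
    ((Scheme.Modules.pullbackComp (Spec.map (f.appLE V U h)) hV.fromSpec).app F).symm ≪≫
    (Scheme.Modules.pullback (Spec.map (f.appLE V U h))).mapIso e1 ≪≫ pullbackTildeObjIso (f.appLE V U h) _

/-- sections of the pullback over an affine open. -/
noncomputable def ΓUFPullbackIso :
    (ΓUF hU).obj ((Scheme.Modules.pullback f).obj F) ≅
      (ModuleCat.extendScalars (f.appLE V U h).hom).obj ((ΓUF hV).obj F) :=
  moduleSpecΓFunctor.mapIso (restrictPullbackIso f hV hU h F) ≪≫
    ((tilde.toTildeΓNatIso (R := Γ(Y, U))).app _).symm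

end pull

section qcoh
variable {X Y : Scheme.{u}} (f : Y ⟶ X) (F : X.Modules) [F.IsQuasicoherent]

/-- the pullback of a quasi-coherent module is quasi-coherent. -/
instance isQuasicoherent_pullback : ((Scheme.Modules.pullback f).obj F).IsQuasicoherent := by
  let ι : Type u := {U : Y.Opens // IsAffineOpen U ∧ ∃ V : X.Opens, IsAffineOpen V ∧ U ≤ f ⁻¹ᵁ V}
  refine isQuasicoherent_of_affine_cover _ (fun U : ι => U.1) ?_ (fun U => U.2.1) ?_
  · rw [IsOpenCover, eq_top_iff]
    intro y _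
    obtain ⟨V, hV, hyV, -⟩ := exists_isAffineOpen_mem_and_subset (x := f y) (U := ⊤) trivial
    obtain ⟨U, hU, hyU, hUV⟩ := exists_isAffineOpen_mem_and_subset (x := y) (U := f ⁻¹ᵁ V) hyV
    exact Opens.mem_iSup.2 ⟨⟨U, hU, V, hV, hUV⟩, hyU⟩
  · rintro ⟨U, hU, V, hV, hUV⟩
    exact (SheafOfModules.isQuasicoherent (Spec Γ(Y, U)).ringCatSheaf).prop_of_iso
      (restrictPullbackIso f hV hU hUV F).symm inferInstance

end qcoh

section supp
variable {X Y : Scheme.{u}} (f : Y ⟶ X) (F : X.Modules) [F.IsQuasicoherent]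
  [SheafOfModules.IsFiniteType (R := X.ringCatSheaf) F]

open Groth.Agent.Lib.Helper20.SuppBC in
/-- **stalks of a pullback vanish exactly over the vanishing stalks** (quasi-coherent of finite type). -/
theorem subsingleton_stalk_pullback_iff (y : Y) :
    Subsingleton (((Scheme.Modules.pullback f).obj F).presheaf.stalk y) ↔
      Subsingleton (F.presheaf.stalk (f y)) := by
  obtain ⟨V, hV, hyV, -⟩ := exists_isAffineOpen_mem_and_subset (x := f y) (U := ⊤) trivial
  obtain ⟨U, hU, hyU, hUV⟩ := exists_isAffineOpen_mem_and_subset (x := y) (U := f ⁻¹ᵁ V) hyV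
  set P := (Scheme.Modules.pullback f).obj F with hP
  letI : Algebra Γ(X, V) Γ(Y, U) := (f.appLE V U hUV).hom.toAlgebra
  haveI : Module.Finite Γ(X, V) Γ(F, V) := finite_of_isFiniteType F hV
  haveI hN : Module.Finite Γ(X, V) ((ΓUF hV).obj F) := Module.Finite.equiv (ΓUEquiv hV F)
  let e : (ΓUF hU).obj P ≃ₗ[Γ(Y, U)] (Γ(Y, U) ⊗[Γ(X, V)] ((ΓUF hV).obj F)) :=
    (ΓUFPullbackIso f hV hU hUV F).toLinearEquiv
  haveI : Module.Finite Γ(Y, U) ((ΓUF hU).obj P) := Module.Finite.equiv e.symm
  haveI : Module.Finite Γ(Y, U) Γ(P, U) := Module.Finite.equiv (ΓUEquiv hU P).symm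
  rw [subsingleton_stalk_iff_notMem_support P hU y hyU,
    subsingleton_stalk_iff_notMem_support F hV (f y) hyV, (ΓUEquiv hU P).support_eq, e.support_eq,
    (ΓUEquiv hV F).support_eq, mem_support_baseChange_iff, not_iff_not]
  have hc : (hU.primeIdealOf ⟨y, hyU⟩).comap (algebraMap Γ(X, V) Γ(Y, U)) =
      hV.primeIdealOf ⟨f y, hyV⟩ := IsAffineOpen.comap_primeIdealOf_appLE V hV U hU hUV hyU
  rw [hc]

end supp

end Groth.Agent.Lib.Helper20.PullbackAff
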