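import Mathlib
import Groth.Prelude.Def_FlatMod2
import Groth.Agent.Lib.Helper20PullbackAff

/-!
# Finite locally free modules: affine-local toolkit (helper20)

Namespace `Groth.Agent.Lib.Helper20.LocFree`.
-/

set_option autoImplicit false
set_option linter.style.haveILetI false
universe u
open CategoryTheory AlgebraicGeometry Limits TensorProduct Opposite TopologicalSpace
open Groth.Agent.Lib.Helper20.Thickening Groth.Agent.Lib.Helper20.PullbackAff
  Groth.Agent.Lib.Helper20.OmegaAff

namespace Groth.Agent.Lib.Helper20.LocFree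

section step1
variable {X Z : Scheme.{u}} (g : Z ⟶ X) [IsOpenImmersion g]

/-- restriction along an open immersion sends `O_X^n` to `O_Z^n`. -/
noncomputable def restrictFreeMod (n : ℕ) : (FlatMod.freeMod X n).restrict g ≅ FlatMod.freeMod Z n :=
  PreservesCoproduct.iso (Scheme.Modules.restrictFunctor g) (fun _ : Fin n => Coh.structureModule X) ≪≫
    Sigma.mapIso (fun _ => Scheme.Modules.restrictUnitIso g)

end step1

section step2
variable {R : CommRingCat.{u}}

/-- `freeMod` versus Mathlib's `SheafOfModules.free`. -/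
noncomputable def freeModIsoFree (X : Scheme.{u}) (n : ℕ) :
    FlatMod.freeMod X n ≅ SheafOfModules.free (R := X.ringCatSheaf) (ULift.{u} (Fin n)) :=
  Sigma.whiskerEquiv (f := fun _ : Fin n => Coh.structureModule X)
    (g := fun _ : ULift.{u} (Fin n) => SheafOfModules.unit X.ringCatSheaf) Equiv.ulift.symm (fun _ => Iso.refl _)

/-- the module associated with a free module of rank `n` is `O^n`. -/
noncomputable def tildeFreeMod (N : ModuleCat.{u} R) {n : ℕ} (b : Module.Basis (Fin n) R N) :
    tilde N ≅ FlatMod.freeMod (Spec R) n :=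
  (tilde.functor R).mapIso
      (b.repr ≪≫ₗ Finsupp.domLCongr (Equiv.ulift.{u}.symm : Fin n ≃ ULift.{u} (Fin n))).toModuleIso ≪≫
    tildeFinsupp (ULift.{u} (Fin n)) ≪≫ (freeModIsoFree (Spec R) n).symm

end step2

section step3
variable {X : Scheme.{u}} (M : X.Modules) [M.IsQuasicoherent] {U : X.Opens} (hU : IsAffineOpen U)

/-- `M|_{Spec Γ(X,U)} ≅ O^n` from a basis of the sections over the affine open `U` (in `ΓUF` form). -/
noncomputable def restrictFromSpecIsoFreeMod {n : ℕ} (b : Module.Basis (Fin n) Γ(X, U) ((ΓUF hU).obj M)) :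
    M.restrict hU.fromSpec ≅ FlatMod.freeMod (Spec Γ(X, U)) n := by
  haveI : (M.restrict hU.fromSpec).IsQuasicoherent :=
    Scheme.Modules.isQuasicoherent_restrictFunctor hU.fromSpec M
  exact isoTildeOfΓIso (M.restrict hU.fromSpec) ((ΓUF hU).obj M) (Iso.refl _) ≪≫ tildeFreeMod _ b

/-- transport along `hU.isoSpec`. -/
noncomputable def restrictιIso :
    M.restrict U.ι ≅ (Scheme.Modules.restrictFunctor hU.isoSpec.hom).obj (M.restrict hU.fromSpec) := by
  let e := hU.isoSpec
  let P := M.restrict U.ι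
  have h1 : 𝟙 (U : Scheme.{u}) = e.hom ≫ e.inv := e.hom_inv_id.symm
  have h2 : e.inv ≫ U.ι = hU.fromSpec := rfl
  exact (Scheme.Modules.restrictFunctorId.app P).symm ≪≫
    (Scheme.Modules.restrictFunctorCongr h1).app P ≪≫
    (Scheme.Modules.restrictFunctorComp e.hom e.inv).app P ≪≫
    (Scheme.Modules.restrictFunctor e.hom).mapIso
      (((Scheme.Modules.restrictFunctorComp e.inv U.ι).app M).symm ≪≫
        (Scheme.Modules.restrictFunctorCongr h2).app M)

/-- **KL**: `M|_U ≅ O_U^n` from a basis of the sections of the quasi-coherent module `M` over the affine open `U`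
(in `ΓUF` form). -/
noncomputable def restrictIsoFreeMod' {n : ℕ} (b : Module.Basis (Fin n) Γ(X, U) ((ΓUF hU).obj M)) :
    M.restrict U.ι ≅ FlatMod.freeMod (U : Scheme.{u}) n :=
  restrictιIso M hU ≪≫
    (Scheme.Modules.restrictFunctor hU.isoSpec.hom).mapIso (restrictFromSpecIsoFreeMod M hU b) ≪≫
    restrictFreeMod hU.isoSpec.hom n

/-- **KL**: `M|_U ≅ O_U^n` from a basis of the sections of the quasi-coherent module `M` over the affine open `U`. -/
noncomputable def restrictIsoFreeMod {n : ℕ} (b : Module.Basis (Fin n) Γ(X, U) Γ(M, U)) :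
    M.restrict U.ι ≅ FlatMod.freeMod (U : Scheme.{u}) n :=
  restrictIsoFreeMod' M hU (b.map (ΓUEquiv hU M))

end step3

section alg

attribute [local instance] RingHomInvPair.of_ringEquiv in
theorem free_of_isLocalizedModule {R M : Type*} [CommRing R] [AddCommGroup M] [Module R M] (S : Submonoid R)
    (Rₛ Mₛ : Type*) [CommRing Rₛ] [Algebra R Rₛ] [IsLocalization S Rₛ]
    [AddCommGroup Mₛ] [Module R Mₛ] (f : M →ₗ[R] Mₛ) [IsLocalizedModule S f]
    [Module Rₛ Mₛ] [IsScalarTower R Rₛ Mₛ]
    (h : Module.Free (Localization S) (LocalizedModule S M)) : Module.Free Rₛ Mₛ := by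
  set e := (IsLocalization.algEquiv S (Localization S) Rₛ).toRingEquiv
  refine (Module.Free.iff_of_equiv (σ := e) ?_).1 h
  refine { __ := IsLocalizedModule.iso S f, map_smul' := ?_ }
  intro r x
  obtain ⟨r, s, rfl⟩ := IsLocalization.exists_mk'_eq S r
  apply ((Module.End.isUnit_iff _).mp (IsLocalizedModule.map_units f s)).1
  simp [e, ← map_smul, ← smul_assoc]

theorem free_tensor_of_away {R S : Type u} [CommRing R] [CommRing S] [Algebra R S] (f : R)
    [IsLocalization.Away f S] (P : Type u) [AddCommGroup P] [Module R P]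
    (h : Module.Free (Localization.Away f) (LocalizedModule.Away f P)) : Module.Free S (S ⊗[R] P) :=
  free_of_isLocalizedModule (Submonoid.powers f) S (S ⊗[R] P) (TensorProduct.mk R S P 1) h

/-- a finitely presented flat module is free over some basic open neighbourhood of any given prime. -/
theorem exists_free_tensor_away {R : Type u} [CommRing R] (P : Type u) [AddCommGroup P] [Module R P]
    [Module.FinitePresentation R P] [Module.Flat R P] (p : PrimeSpectrum R) :
    ∃ f : R, f ∉ p.asIdeal ∧ Module.Free (Localization.Away f) (LocalizedModule.Away f P) := by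
  have hp : p ∈ Module.freeLocus R P := by rw [Module.freeLocus_eq_univ]; trivial
  haveI : Module.Free (Localization.AtPrime p.asIdeal) (LocalizedModule p.asIdeal.primeCompl P) :=
    Module.mem_freeLocus.1 hp
  obtain ⟨r, hr, hr', _⟩ := Module.FinitePresentation.exists_free_localizedModule_powers
    p.asIdeal.primeCompl (LocalizedModule.mkLinearMap p.asIdeal.primeCompl P)
    (Localization.AtPrime p.asIdeal)
  exact ⟨r, hr, hr'⟩

end alg

section step4
open Groth.Agent.Lib.Helper23.QCohLocal
variable (X : Scheme.{u}) (n : ℕ)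

instance isQuasicoherent_freeMod : (FlatMod.freeMod X n).IsQuasicoherent := by
  refine isQuasicoherent_of_forall_affine _ (fun V hV => ?_)
  exact (SheafOfModules.isQuasicoherent (Spec Γ(X, V)).ringCatSheaf).prop_of_iso
    ((tildeFreeMod (ModuleCat.of Γ(X, V) (Fin n →₀ Γ(X, V))) (Finsupp.basisSingleOne)) ≪≫
      (restrictFreeMod hV.fromSpec n).symm) inferInstance

variable {X}

/-- sections of `O_X^n` over an affine open. -/
noncomputable def ΓUFFreeModIso {U : X.Opens} (hU : IsAffineOpen U) :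
    (ΓUF hU).obj (FlatMod.freeMod X n) ≅ ModuleCat.of Γ(X, U) (Fin n →₀ Γ(X, U)) :=
  moduleSpecΓFunctor.mapIso (restrictFreeMod hU.fromSpec n ≪≫
    (tildeFreeMod (ModuleCat.of Γ(X, U) (Fin n →₀ Γ(X, U))) (Finsupp.basisSingleOne)).symm) ≪≫
    ((tilde.toTildeΓNatIso (R := Γ(X, U))).app _).symm

variable {n} {M : X.Modules} (s : M ⟶ FlatMod.freeMod X n) (r : FlatMod.freeMod X n ⟶ M) (h : s ≫ r = 𝟙 M)

include h in
theorem isQuasicoherent_of_retract : M.IsQuasicoherent := by
  have w : (𝟙 _ - r ≫ s) ≫ r = 0 := by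
    rw [Preadditive.sub_comp, Category.id_comp, Category.assoc, h, Category.comp_id, sub_self]
  have hc : IsColimit (CokernelCofork.ofπ r w) :=
    CokernelCofork.IsColimit.ofπ r w (fun g' _ => s ≫ g')
      (fun g' eq' => by
        rw [Preadditive.sub_comp, Category.id_comp, sub_eq_zero, Category.assoc] at eq'
        exact eq'.symm)
      (fun g' eq' m hm => by
        rw [← hm, ← Category.assoc, h, Category.id_comp])
  have hq : (cokernel (𝟙 (FlatMod.freeMod X n) - r ≫ s)).IsQuasicoherent :=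
    isQuasicoherent_cokernel (𝟙 (FlatMod.freeMod X n) - r ≫ s)
  exact (SheafOfModules.isQuasicoherent X.ringCatSheaf).prop_of_iso
    (IsColimit.coconePointUniqueUpToIso (cokernelIsCokernel _) hc) hq

include h in
theorem finite_projective_of_retract {U : X.Opens} (hU : IsAffineOpen U) :
    Module.Finite Γ(X, U) ((ΓUF hU).obj M) ∧ Module.Projective Γ(X, U) ((ΓUF hU).obj M) := by
  let Q := (ΓUF hU).obj (FlatMod.freeMod X n)
  let e : Q ≃ₗ[Γ(X, U)] (Fin n →₀ Γ(X, U)) := (ΓUFFreeModIso n hU).toLinearEquiv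
  haveI : Module.Finite Γ(X, U) Q := Module.Finite.equiv e.symm
  haveI : Module.Projective Γ(X, U) Q := Module.Projective.of_equiv' e.symm
  have hcomp : ((ΓUF hU).map r).hom.comp ((ΓUF hU).map s).hom = LinearMap.id := by
    rw [← ModuleCat.hom_comp, ← Functor.map_comp, h, CategoryTheory.Functor.map_id]
    rfl
  refine ⟨Module.Finite.of_surjective ((ΓUF hU).map r).hom (fun y => ⟨((ΓUF hU).map s).hom y, ?_⟩),
    Module.Projective.of_split _ _ hcomp⟩
  exact LinearMap.congr_fun hcomp y

end step4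

section step5
variable {X : Scheme.{u}} (M : X.Modules) [M.IsQuasicoherent] {U : X.Opens} (hU : IsAffineOpen U)

/-- a quasi-coherent module whose sections over an affine open `U` are finitely presented and flat is free on a
neighbourhood of every point of `U`. -/
theorem exists_restrict_iso_freeMod [Module.FinitePresentation Γ(X, U) ((ΓUF hU).obj M)]
    [Module.Flat Γ(X, U) ((ΓUF hU).obj M)] (x : X) (hxU : x ∈ U) :
    ∃ (D : X.Opens) (m : ℕ), x ∈ D ∧ D ≤ U ∧ Nonempty (M.restrict D.ι ≅ FlatMod.freeMod (D : Scheme.{u}) m) := by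
  obtain ⟨f, hf, hfree⟩ := exists_free_tensor_away ((ΓUF hU).obj M) (hU.primeIdealOf ⟨x, hxU⟩)
  have hD : IsAffineOpen (X.basicOpen f) := hU.basicOpen f
  have hxD : x ∈ X.basicOpen f :=
    (Groth.Agent.Lib.Helper2.mem_basicOpen_iff_notMem_primeIdealOf hU x hxU f).2 hf
  have hle : X.basicOpen f ≤ (𝟙 X) ⁻¹ᵁ U := X.basicOpen_le f
  letI : Algebra Γ(X, U) Γ(X, X.basicOpen f) :=
    (Scheme.Hom.appLE (𝟙 X) U (X.basicOpen f) hle).hom.toAlgebra
  haveI : Nonempty (X.basicOpen f) := ⟨⟨x, hxD⟩⟩
  haveI : IsLocalization.Away f Γ(X, X.basicOpen f) := by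
    convert hU.isLocalization_basicOpen f using 1
    change RingHom.toAlgebra _ = RingHom.toAlgebra _
    congr 1
  haveI : Module.Free Γ(X, X.basicOpen f) (Γ(X, X.basicOpen f) ⊗[Γ(X, U)] ((ΓUF hU).obj M)) :=
    free_tensor_of_away f _ hfree
  let e : (ΓUF hD).obj ((Scheme.Modules.pullback (𝟙 X)).obj M) ≃ₗ[Γ(X, X.basicOpen f)]
      (Γ(X, X.basicOpen f) ⊗[Γ(X, U)] ((ΓUF hU).obj M)) :=
    (ΓUFPullbackIso (𝟙 X) hU hD hle M).toLinearEquiv
  let e' : (ΓUF hD).obj ((Scheme.Modules.pullback (𝟙 X)).obj M) ≃ₗ[Γ(X, X.basicOpen f)] (ΓUF hD).obj M :=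
    ((ΓUF hD).mapIso ((Scheme.Modules.pullbackId X).app M)).toLinearEquiv
  haveI : Module.Free Γ(X, X.basicOpen f) ((ΓUF hD).obj M) := Module.Free.of_equiv (e.symm.trans e')
  haveI : Module.Finite Γ(X, X.basicOpen f) ((ΓUF hD).obj M) := Module.Finite.equiv (e.symm.trans e')
  exact ⟨X.basicOpen f, _, hxD, X.basicOpen_le f,
    ⟨restrictIsoFreeMod' M hD (Module.finBasis Γ(X, X.basicOpen f) ((ΓUF hD).obj M))⟩⟩

end step5

section step6
variable {X : Scheme.{u}} {n : ℕ} {M : X.Modules}

/-- a retract of `O_X^n` is finite locally free. -/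
theorem isFinLocFree_of_retract (s : M ⟶ FlatMod.freeMod X n) (r : FlatMod.freeMod X n ⟶ M) (h : s ≫ r = 𝟙 M) :
    FlatMod.IsFinLocFree M := by
  haveI := isQuasicoherent_of_retract s r h
  intro x
  obtain ⟨U, hU, hxU, -⟩ := exists_isAffineOpen_mem_and_subset (x := x) (U := ⊤) trivial
  obtain ⟨hfin, hproj⟩ := finite_projective_of_retract s r h hU
  haveI := hfin
  haveI := hproj
  haveI : Module.FinitePresentation Γ(X, U) ((ΓUF hU).obj M) := Module.finitePresentation_of_projective _ _
  obtain ⟨D, m, hxD, -, hiso⟩ := exists_restrict_iso_freeMod M hU x hxU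
  exact ⟨D, m, hxD, hiso⟩

end step6

end Groth.Agent.Lib.Helper20.LocFree
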