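import Mathlib
import Groth.Agent.Lib.Helper23FinType2

/-!
# Finitely presented quasi-coherent modules (helper23)

* `exists_isFinite_presentation_tilde`, `exists_isFinite_presentation_of_finitePresentation`: on `Spec R`, a
  quasi-coherent module with finitely presented module of global sections has a finite global presentation.
* `isFinitePresentation_of_presentation`, `isFinitePresentation_of_finitePresentation_ΓU`: finite presentation can be
  checked on an (affine) open cover.
* `isFinitePresentation_of_isFiniteType`: on a locally Noetherian scheme, quasi-coherent of finite type implies finite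
  presentation.
-/

set_option autoImplicit false
universe u
open CategoryTheory Limits AlgebraicGeometry TopologicalSpace Opposite

namespace Groth.Agent.Lib.Helper23.FinType

section FP1_0

open Groth.Agent.Lib.Helper23.QCohLocal Groth.Agent.Lib.Helper2.Push Groth.Agent.Lib.Helper2.QCoh

variable (R : CommRingCat.{u})

set_option backward.isDefEq.respectTransparency false in
/-- the sheaf associated to a finitely presented module has a finite global presentation -/
theorem exists_isFinite_presentation_tilde (P : ModuleCat.{u} R) [hfp : Module.FinitePresentation R P] :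
    ∃ Q : (tilde P).Presentation, Q.IsFinite := by
  classical
  haveI : Module.Finite R P := inferInstance
  obtain ⟨s, hs⟩ := (inferInstance : Module.Finite R P).fg_top
  have hf : Function.Surjective (Finsupp.linearCombination R (Subtype.val : ↥(s : Set P) → P)) := by
    rw [← LinearMap.range_eq_top, Finsupp.range_linearCombination]
    simpa using hs
  obtain ⟨t, ht⟩ := Module.FinitePresentation.fg_ker _ hf
  refine ⟨presentationTilde.{u} P (s : Set P) hs (t : Set ((s : Set P) →₀ R)) ht, ⟨⟨?_⟩, ⟨?_⟩⟩⟩
  · exact inferInstanceAs (Finite (s : Set P))
  · exact inferInstanceAs (Finite (t : Set ((s : Set P) →₀ R)))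

set_option backward.isDefEq.respectTransparency false in
/-- a quasi-coherent module on `Spec R` with finitely presented module of global sections has a finite global
presentation -/
theorem exists_isFinite_presentation_of_finitePresentation (N : (Spec R).Modules) [N.IsQuasicoherent]
    [hfp : Module.FinitePresentation R ((ΓF R).obj N)] : ∃ Q : N.Presentation, Q.IsFinite := by
  haveI : IsIso N.fromTildeΓ := inferInstance
  obtain ⟨Q, hQ⟩ := exists_isFinite_presentation_tilde R ((ΓF R).obj N)
  refine ⟨SheafOfModules.Presentation.ofIsIso.{u, u, u} N.fromTildeΓ Q, ⟨⟨?_⟩, ⟨?_⟩⟩⟩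
  · exact hQ.isFiniteType_generators.finite
  · exact hQ.isFiniteType_relations.finite

end FP1_0

section FP2_0

open Groth.Agent.Lib.Helper23.QCohLocal Groth.Agent.Lib.Helper2.Push Groth.Agent.Lib.Helper2.QCoh

variable {X : Scheme.{u}}

theorem presentationOver_isFinite (M : X.Modules) (V : X.Opens) (P : (M.restrict V.ι).Presentation)
    [hP : P.IsFinite] : (presentationOver M V P).IsFinite :=
  ⟨⟨hP.isFiniteType_generators.finite⟩, ⟨hP.isFiniteType_relations.finite⟩⟩

theorem presentationOfComp_isFinite (M : X.Modules) {W W' : Scheme.{u}} (g : W' ⟶ W) (j : W ⟶ X) (k : W' ⟶ X)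
    [IsOpenImmersion g] [IsOpenImmersion j] [IsOpenImmersion k] (h : g ≫ j = k)
    (P : (M.restrict j).Presentation) [hP : P.IsFinite] : (presentationOfComp M g j k h P).IsFinite :=
  ⟨⟨hP.isFiniteType_generators.finite⟩, ⟨hP.isFiniteType_relations.finite⟩⟩

/-- finite presentation from finite presentations of the restrictions to the members of an open cover -/
theorem isFinitePresentation_of_presentation (M : X.Modules) {ι : Type u} (V : ι → X.Opens) (hV : IsOpenCover V)
    (P : ∀ i, ∃ P : (M.restrict (V i).ι).Presentation, P.IsFinite) :
    SheafOfModules.IsFinitePresentation (R := X.ringCatSheaf) M := by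
  choose P hP using P
  let q : SheafOfModules.QuasicoherentData.{u, u, u, u} M :=
    { I := ι
      X := V
      coversTop := (Opens.coversTop_iff _ V).2 hV
      presentation := fun i => presentationOver M (V i) (P i) }
  have hq : q.IsFinitePresentation :=
    { isFinite_presentation := fun (i : ι) => by
        haveI := hP i
        exact presentationOver_isFinite M (V i) (P i) }
  exact { exists_quasicoherentData := ⟨q, hq⟩ }

/-- a quasi-coherent module with finitely presented modules of sections over an affine open cover is of finite
presentation -/
theorem isFinitePresentation_of_finitePresentation_ΓU (M : X.Modules) [M.IsQuasicoherent] {ι : Type u}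
    (V : ι → X.Opens) (hV : IsOpenCover V) (hVa : ∀ i, IsAffineOpen (V i))
    (h : ∀ i, Module.FinitePresentation Γ(X, V i) (ΓU M (hVa i))) :
    SheafOfModules.IsFinitePresentation (R := X.ringCatSheaf) M := by
  refine isFinitePresentation_of_presentation M V hV fun i => ?_
  haveI := h i
  obtain ⟨Q, hQ⟩ := exists_isFinite_presentation_of_finitePresentation Γ(X, V i) (M.restrict (hVa i).fromSpec)
  exact ⟨presentationOfComp M (hVa i).isoSpec.hom (hVa i).fromSpec (V i).ι (hVa i).isoSpec_hom_fromSpec Q,
    presentationOfComp_isFinite M _ _ _ _ Q⟩

/-- on a locally Noetherian scheme, quasi-coherent modules of finite type are of finite presentation -/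
theorem isFinitePresentation_of_isFiniteType [IsLocallyNoetherian X] (M : X.Modules) [M.IsQuasicoherent]
    [SheafOfModules.IsFiniteType (R := X.ringCatSheaf) M] :
    SheafOfModules.IsFinitePresentation (R := X.ringCatSheaf) M := by
  refine isFinitePresentation_of_finitePresentation_ΓU M (fun V : X.affineOpens => (V : X.Opens))
    (iSup_affineOpens_eq_top X) (fun V => V.2) (fun V => ?_)
  haveI : IsNoetherianRing Γ(X, V.1) := IsLocallyNoetherian.component_noetherian V
  haveI : Module.Finite Γ(X, V.1) (ΓU M V.2) := (finite_ΓU_iff M V.2).2 (finite_of_isFiniteType M V.2)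
  exact Module.finitePresentation_of_finite _ _

end FP2_0

end Groth.Agent.Lib.Helper23.FinType
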