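import Mathlib
import Groth.Agent.Lib.Helper23FinPres
import Groth.Agent.Lib.Helper23QCohAbelian
import Groth.Agent.Lib.Helper20PullbackAff
/-!
# Finitely presented quasi-coherent modules have finitely presented sections (helper2)

* `finitePresentation_Γ_of_presentation` (on `Spec R`), `finitePresentation_sections_of_presentation`,
  `exists_isOpenCover_presentation_isFinite`, `exists_affine_nhds_finitePresentation`.
-/
set_option autoImplicit false
universe u
open CategoryTheory Limits AlgebraicGeometry TopologicalSpace Opposite

namespace Groth.Agent.Lib.Helper2.FinPres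

open Groth.Agent.Lib.Helper23.FinType Groth.Agent.Lib.Helper23.QCohLocal

section SpecR
variable (R : CommRingCat.{u})

instance isQuasicoherent_free (I : Type u) :
    (SheafOfModules.free (R := (Spec R).ringCatSheaf) I).IsQuasicoherent := by
  rw [isQuasicoherent_iff_isIso_fromTildeΓ]
  infer_instance

/-- On `Spec R`, a quasi-coherent module with a finite global presentation has a finitely presented
module of global sections. -/
theorem finitePresentation_Γ_of_presentation (N : (Spec R).Modules) [N.IsQuasicoherent]
    (Q : N.Presentation) [hQ : Q.IsFinite] : Module.FinitePresentation R ((ΓF R).obj N) := by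
  classical
  haveI : Finite Q.generators.I := hQ.isFiniteType_generators.finite
  haveI : Epi Q.generators.π := Q.generators.epi
  haveI hK : (kernel Q.generators.π).IsQuasicoherent := isQuasicoherent_kernel Q.generators.π
  let S : ShortComplex (Spec R).Modules :=
    ShortComplex.mk (kernel.ι Q.generators.π) Q.generators.π (kernel.condition Q.generators.π)
  have hS : S.ShortExact :=
    { exact := ShortComplex.exact_kernel Q.generators.π
      mono_f := inferInstanceAs (Mono (kernel.ι Q.generators.π))
      epi_g := inferInstanceAs (Epi Q.generators.π) }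
  have hΓ := shortExact_Γ_of_isQuasicoherent R S hS hK
  have hfinK : Module.Finite R ((ΓF R).obj (kernel Q.generators.π)) :=
    @finite_Γ_of_generatingSections R (kernel Q.generators.π) hK Q.relations
      hQ.isFiniteType_relations
  let e : (ΓF R).obj (SheafOfModules.free Q.generators.I) ≅
      ModuleCat.of R (Q.generators.I →₀ R) :=
    (ΓF R).mapIso (tildeFinsupp Q.generators.I).symm ≪≫
      ((tilde.toTildeΓNatIso (R := R)).app (ModuleCat.of R (Q.generators.I →₀ R))).symm
  haveI : Module.FinitePresentation R ((ΓF R).obj (SheafOfModules.free Q.generators.I)) :=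
    Module.FinitePresentation.of_equiv e.toLinearEquiv.symm
  have hsurj : Function.Surjective ((ΓF R).map Q.generators.π).hom := by
    haveI := hΓ.epi_g
    exact (ModuleCat.epi_iff_surjective (S.map (ΓF R)).g).1 inferInstance
  have hker : (LinearMap.ker ((ΓF R).map Q.generators.π).hom).FG := by
    have h1 := hΓ.exact.moduleCat_range_eq_ker
    change LinearMap.range ((ΓF R).map (kernel.ι Q.generators.π)).hom =
      LinearMap.ker ((ΓF R).map Q.generators.π).hom at h1
    rw [← h1, LinearMap.range_eq_map]
    exact (hfinK.fg_top).map _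
  exact Module.finitePresentation_of_surjective _ hsurj hker

end SpecR

end Groth.Agent.Lib.Helper2.FinPres

namespace Groth.Agent.Lib.Helper2.FinPres

open Groth.Agent.Lib.Helper23.FinType Groth.Agent.Lib.Helper23.QCohLocal
  Groth.Agent.Lib.Helper20.PullbackAff

section general
variable {X : Scheme.{u}}

/-- sections over an affine open of a quasi-coherent module with a finite presentation over that
open form a finitely presented module. -/
theorem finitePresentation_sections_of_presentation (M : X.Modules) [M.IsQuasicoherent]
    {U : X.Opens} (hU : IsAffineOpen U) (P : (M.restrict U.ι).Presentation) [hP : P.IsFinite] :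
    Module.FinitePresentation Γ(X, U) Γ(M, U) := by
  let P' := presentationOfComp M hU.isoSpec.inv U.ι hU.fromSpec hU.isoSpec_inv_ι P
  haveI : P'.IsFinite := presentationOfComp_isFinite M _ _ _ _ P
  have h1 : Module.FinitePresentation Γ(X, U) ((ΓF Γ(X, U)).obj (M.restrict hU.fromSpec)) :=
    finitePresentation_Γ_of_presentation Γ(X, U) (M.restrict hU.fromSpec) P'
  haveI h2 : Module.FinitePresentation Γ(X, U) ((Groth.Agent.Lib.Helper20.Thickening.ΓUF hU).obj M) := h1
  exact Module.FinitePresentation.of_equiv (ΓUEquiv hU M).symm

open Scheme.Modules in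
set_option backward.isDefEq.respectTransparency false in
/-- a finitely presented module has finite presentations over the members of an affine open
cover. -/
theorem exists_isOpenCover_presentation_isFinite (M : X.Modules)
    [hM : SheafOfModules.IsFinitePresentation (R := X.ringCatSheaf) M] :
    ∃ (ι : Type u) (U : ι → X.Opens) (P : ∀ i, (M.restrict (U i).ι).Presentation),
      (∀ i, (P i).IsFinite) ∧ IsOpenCover U ∧ (∀ i, IsAffineOpen (U i)) := by
  obtain ⟨⟨I, W, cov, pres⟩, hfin⟩ := hM.exists_quasicoherentData
  choose κ hsub heq using fun i ↦ Opens.isBasis_iff_cover.mp X.isBasis_affineOpens (W i)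
  refine ⟨Σ (i : I), κ i, fun j ↦ j.2, fun i ↦ ?_, ?_, ?_, ?_⟩
  · let u := X.homOfLE (U := i.2) (V := W i.1) (by simp [heq, le_sSup])
    have : PreservesColimitsOfSize.{u, u} (restrictFunctor u) := inferInstance
    let F := (overEquiv (W i.1)).functor ⋙ restrictFunctor u
    let iso : SheafOfModules.overFunctor X.ringCatSheaf _ ⋙ F ≅ restrictFunctor
      (Scheme.Opens.ι i.2.1) := (Functor.associator _ _ _).symm ≪≫
        Functor.isoWhiskerRight (Scheme.Modules.overFunctorEquiv _) _ ≪≫
        (restrictFunctorComp _ _).symm ≪≫ (restrictFunctorCongr (by simp [u]))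
    exact SheafOfModules.Presentation.ofIsIso.{u, u, u} (iso.app M).hom <|
      (pres i.1).map F (Scheme.Modules.restrictUnitIso _).symm
  · intro i
    have := hfin.isFinite_presentation i.1
    exact ⟨⟨this.isFiniteType_generators.finite⟩, ⟨this.isFiniteType_relations.finite⟩⟩
  · rw [Opens.coversTop_iff, IsOpenCover] at cov
    rw [IsOpenCover, iSup_sigma, ← cov]
    refine iSup_congr fun i ↦ ?_
    rw [heq i, sSup_eq_iSup']
  · intro j
    exact hsub _ j.2.2

/-- a finitely presented quasi-coherent module has finitely presented modules of sections over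
arbitrarily small affine open neighbourhoods of every point. -/
theorem exists_affine_nhds_finitePresentation (M : X.Modules) [M.IsQuasicoherent]
    [hM : SheafOfModules.IsFinitePresentation (R := X.ringCatSheaf) M] (x : X) (W : X.Opens)
    (hx : x ∈ W) :
    ∃ U : X.Opens, IsAffineOpen U ∧ x ∈ U ∧ U ≤ W ∧
      Module.FinitePresentation Γ(X, U) Γ(M, U) := by
  obtain ⟨ι, V, P, hP, hV, hVa⟩ := exists_isOpenCover_presentation_isFinite M
  have hxV : x ∈ (⨆ i, V i : X.Opens) := by rw [hV.iSup_eq_top]; trivial
  obtain ⟨i, hxi⟩ := Opens.mem_iSup.1 hxV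
  obtain ⟨U, hU, hxU, hUle⟩ : ∃ U : X.Opens, IsAffineOpen U ∧ x ∈ U ∧ U ≤ V i ⊓ W := by
    obtain ⟨_, ⟨U, hU, rfl⟩, hxU, hUle⟩ :=
      X.isBasis_affineOpens.exists_subset_of_mem_open (show x ∈ V i ⊓ W from ⟨hxi, hx⟩)
        (V i ⊓ W).isOpen
    exact ⟨U, hU, hxU, hUle⟩
  have hle1 : U ≤ V i := fun y hy => (hUle hy).1
  have hle2 : U ≤ W := fun y hy => (hUle hy).2
  refine ⟨U, hU, hxU, hle2, ?_⟩
  haveI := hP i
  let P' := presentationOfComp M (X.homOfLE hle1) (V i).ι U.ι (by simp) (P i)
  haveI : P'.IsFinite := presentationOfComp_isFinite M _ _ _ _ (P i)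
  exact finitePresentation_sections_of_presentation M hU P'

end general

end Groth.Agent.Lib.Helper2.FinPres
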