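import Mathlib
import Groth.Prelude.Def_FlatMod2
import Groth.Agent.Lib.Helper20LocFree
import Groth.Agent.Lib.Helper2FlatOver
import Groth.Agent.Lib.Helper2FinPres
import Groth.Agent.Lib.Helper23FinPres

/-!
# Finite locally free modules versus flat + finitely presented (helper2)

Namespace `Groth.Agent.Lib.Helper2.LocFree`.

* `isFlatAt_of_flat_sections` / `flat_sections_of_isFlatAt`: for quasi-coherent `F` and affine `U`, `Γ(F,U)` is flat
  over `Γ(X,U)` iff all stalks `F_x`, `x ∈ U`, are flat over `O_{X,x}` (`FlatMod.IsFlatAt`).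
* `free_sections_of_iso_freeMod`: sections of a module isomorphic to `O^n` over an affine open are free.
* `isFlatAt_of_restrict_iso_freeMod`: `M|_Y ≅ O_Y^n` along an open immersion `f : Y ⟶ X` gives `M` flat at `f y`.
* `isFinLocFree_of_iso_freeMod`, `isFlat_of_isFinLocFree`, `isFP_of_isFinLocFree` (`presentationFree`).
* `exists_free_away_of_flat_atPrime`, `flat_localizedModule_of_isFlatAt`,
  `exists_restrict_iso_freeMod_of_free_away`, `exists_restrict_iso_freeMod_of_isFlatAt`:
  a finitely presented quasi-coherent module flat at `x` is free on a neighbourhood of `x`.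
-/

set_option autoImplicit false
set_option linter.style.haveILetI false
universe u
open CategoryTheory Limits AlgebraicGeometry TopologicalSpace Opposite TensorProduct

namespace Groth.Agent.Lib.Helper2.LocFree

open Groth.Agent.Lib.Helper2.FlatOver Groth.Agent.Lib.Helper2.QCoh
open Groth.Agent.Lib.Helper20.LocFree Groth.Agent.Lib.Helper20.PullbackAff Groth.Agent.Lib.Helper20.Thickening
open Groth.Agent.Lib.Helper23.FinType

variable {X : Scheme.{u}}

/-- flat sections over an affine open give flat stalks. -/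
theorem isFlatAt_of_flat_sections (F : X.Modules) [F.IsQuasicoherent] {U : X.Opens}
    (hU : IsAffineOpen U) (H : Module.Flat Γ(X, U) Γ(F, U)) (x : X) (hx : x ∈ U) :
    FlatMod.IsFlatAt F x := by
  unfold FlatMod.IsFlatAt
  letI := X.presheaf.algebra_section_stalk ⟨x, hx⟩
  haveI := hU.isLocalization_stalk ⟨x, hx⟩
  letI := moduleStalkSections F U x hx
  haveI : IsScalarTower Γ(X, U) (X.presheaf.stalk x) (F.presheaf.stalk x) := by
    refine ⟨fun a b y => ?_⟩
    change (X.presheaf.germ U x hx a * b) • y = X.presheaf.germ U x hx a • (b • y)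
    rw [mul_smul]
  haveI := isLocalizedModule_germ hU F x hx
  have h1 : Module.Flat Γ(X, U) (F.presheaf.stalk x) :=
    flat_of_isLocalizedModule_tower (R := Γ(X, U)) (B := Γ(X, U))
      (hU.primeIdealOf ⟨x, hx⟩).asIdeal.primeCompl (germₗ F U x hx)
  exact (Module.flat_iff_of_isLocalization (X.presheaf.stalk x)
    (hU.primeIdealOf ⟨x, hx⟩).asIdeal.primeCompl (F.presheaf.stalk x)).2 h1

/-- flat stalks at all points of an affine open give flat sections. -/
theorem flat_sections_of_isFlatAt (F : X.Modules) [F.IsQuasicoherent] {U : X.Opens}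
    (hU : IsAffineOpen U) (H : ∀ x : X, x ∈ U → FlatMod.IsFlatAt F x) :
    Module.Flat Γ(X, U) Γ(F, U) := by
  let pt : ∀ (P : Ideal Γ(X, U)) [P.IsMaximal], X := fun P hP => hU.fromSpec ⟨P, hP.isPrime⟩
  have hpt : ∀ (P : Ideal Γ(X, U)) [P.IsMaximal], pt P ∈ U := fun P _ => QCoh.fromSpec_mem hU _
  letI i1 : ∀ (P : Ideal Γ(X, U)) [P.IsMaximal], Module Γ(X, U) (F.presheaf.stalk (pt P)) :=
    fun P _ => moduleStalkSections F U (pt P) (hpt P)
  haveI i4 : ∀ (P : Ideal Γ(X, U)) [P.IsMaximal],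
      IsLocalizedModule.AtPrime P (germₗ F U (pt P) (hpt P)) := by
    intro P hP
    have h := isLocalizedModule_germ hU F (pt P) (hpt P)
    have h2 : hU.primeIdealOf ⟨pt P, hpt P⟩ = ⟨P, hP.isPrime⟩ := QCoh.primeIdealOf_fromSpec hU _
    rw [h2] at h
    exact h
  refine @Module.flat_of_isLocalized_maximal Γ(X, U) Γ(X, U) _ _ _ Γ(F, U) _ _ _ _
    (fun P _ => F.presheaf.stalk (pt P)) (fun P _ => inferInstance) i1 i1
    (fun P _ => ⟨fun a b y => by rw [smul_eq_mul, mul_smul]⟩)
    (fun P _ => germₗ F U (pt P) (hpt P)) i4 (fun P hP => ?_)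
  letI := X.presheaf.algebra_section_stalk ⟨pt P, hpt P⟩
  haveI := hU.isLocalization_stalk ⟨pt P, hpt P⟩
  letI := moduleStalkSections F U (pt P) (hpt P)
  haveI : IsScalarTower Γ(X, U) (X.presheaf.stalk (pt P)) (F.presheaf.stalk (pt P)) := by
    refine ⟨fun a b y => ?_⟩
    change (X.presheaf.germ U (pt P) (hpt P) a * b) • y = X.presheaf.germ U (pt P) (hpt P) a • (b • y)
    rw [mul_smul]
  exact (Module.flat_iff_of_isLocalization (X.presheaf.stalk (pt P))
    (hU.primeIdealOf ⟨pt P, hpt P⟩).asIdeal.primeCompl (F.presheaf.stalk (pt P))).1 (H _ (hpt P))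

/-- sections over an affine open of a module isomorphic to `O^n` are free. -/
theorem free_sections_of_iso_freeMod {Y : Scheme.{u}} (N : Y.Modules) {n : ℕ}
    (e : N ≅ FlatMod.freeMod Y n) {V : Y.Opens} (hV : IsAffineOpen V) :
    Module.Free Γ(Y, V) Γ(N, V) := by
  let e1 : Γ(N, V) ≃ₗ[Γ(Y, V)] (ΓUF hV).obj N := ΓUEquiv hV N
  let e2 : (ΓUF hV).obj N ≃ₗ[Γ(Y, V)] (ΓUF hV).obj (FlatMod.freeMod Y n) :=
    ((ΓUF hV).mapIso e).toLinearEquiv
  let e3 : (ΓUF hV).obj (FlatMod.freeMod Y n) ≃ₗ[Γ(Y, V)] (Fin n →₀ Γ(Y, V)) :=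
    (ΓUFFreeModIso n hV).toLinearEquiv
  exact Module.Free.of_equiv (e1.trans (e2.trans e3)).symm

/-- If the restriction of a quasi-coherent `M` along an open immersion `f` is free, `M` is flat at
the points of the image. -/
theorem isFlatAt_of_restrict_iso_freeMod {Y : Scheme.{u}} (f : Y ⟶ X) [IsOpenImmersion f]
    (M : X.Modules) [M.IsQuasicoherent] {n : ℕ} (e : M.restrict f ≅ FlatMod.freeMod Y n) (y : Y) :
    FlatMod.IsFlatAt M (f y) := by
  obtain ⟨V, hV, hyV, -⟩ := exists_isAffineOpen_mem_and_subset (x := y) (U := ⊤) trivial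
  haveI hfree := free_sections_of_iso_freeMod (M.restrict f) e hV
  have hV' : IsAffineOpen (f ''ᵁ V) := hV.image_of_isOpenImmersion f
  have hflat : Module.Flat Γ(X, f ''ᵁ V) Γ(M, f ''ᵁ V) := by
    haveI : Module.Flat Γ(Y, V) Γ(M.restrict f, V) := inferInstance
    refine flat_of_semilinear_equiv (R := Γ(Y, V)) (M := Γ(M.restrict f, V))
      (σ := (f.appIso V).symm.commRingCatIsoToRingEquiv)
      (e := (M.restrictAppIso f V).addCommGroupIsoToAddEquiv) (he := fun r m => ?_)
    exact Scheme.Modules.smul_restrictAppIso_hom_apply f M V r m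
  exact isFlatAt_of_flat_sections M hV' hflat (f y) ⟨y, hyV, rfl⟩

/-- a module isomorphic to `O^m` is finite locally free. -/
theorem isFinLocFree_of_iso_freeMod {Y : Scheme.{u}} (G : Y.Modules) {m : ℕ}
    (e : G ≅ FlatMod.freeMod Y m) : FlatMod.IsFinLocFree G :=
  fun _ => ⟨⊤, m, trivial,
    ⟨(Scheme.Modules.restrictFunctor (⊤ : Y.Opens).ι).mapIso e ≪≫ restrictFreeMod _ m⟩⟩

/-- a finite locally free quasi-coherent module is flat. -/
theorem isFlat_of_isFinLocFree (M : X.Modules) [M.IsQuasicoherent] (h : FlatMod.IsFinLocFree M) :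
    FlatMod.IsFlat M := by
  intro x
  obtain ⟨U, n, hxU, ⟨e⟩⟩ := h x
  exact isFlatAt_of_restrict_iso_freeMod U.ι M e ⟨x, hxU⟩

/-- the tautological finite presentation of a free module. -/
noncomputable def presentationFree (Y : Scheme.{u}) (σ : Type u) :
    (SheafOfModules.free (R := Y.ringCatSheaf) σ).Presentation :=
  SheafOfModules.presentationOfIsCokernelFree (ι := PEmpty.{u + 1}) (σ := σ)
    (0 : SheafOfModules.free (R := Y.ringCatSheaf) PEmpty.{u + 1} ⟶ SheafOfModules.free σ) (𝟙 _) zero_comp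
    (CokernelCofork.IsColimit.ofπ _ _ (fun g' _ => g') (fun g' _ => Category.id_comp _)
      (fun g' _ m hm => by rw [← hm, Category.id_comp]))

instance (Y : Scheme.{u}) (σ : Type u) [Finite σ] : (presentationFree Y σ).IsFinite :=
  ⟨⟨inferInstanceAs (Finite σ)⟩, ⟨inferInstanceAs (Finite PEmpty.{u + 1})⟩⟩

/-- a finite locally free module is of finite presentation. -/
theorem isFP_of_isFinLocFree (M : X.Modules) (h : FlatMod.IsFinLocFree M) :
    SheafOfModules.IsFinitePresentation (R := X.ringCatSheaf) M := by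
  choose U n hxU e using h
  have hU : IsOpenCover U := by
    rw [IsOpenCover, eq_top_iff]
    intro x _
    exact Opens.mem_iSup.2 ⟨x, hxU x⟩
  refine isFinitePresentation_of_presentation M U hU (fun x => ?_)
  let iso : SheafOfModules.free (R := (U x : Scheme.{u}).ringCatSheaf) (ULift.{u} (Fin (n x))) ≅
      M.restrict (U x).ι := (freeModIsoFree _ _).symm ≪≫ (e x).some.symm
  refine ⟨SheafOfModules.Presentation.ofIsIso.{u, u, u} iso.hom (presentationFree _ _), ⟨⟨?_⟩, ⟨?_⟩⟩⟩
  · exact inferInstanceAs (Finite (ULift.{u} (Fin (n x))))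
  · exact inferInstanceAs (Finite PEmpty.{u + 1})

/-- a finitely presented module whose localization at a prime is flat is free over a basic open
neighbourhood of that prime. -/
theorem exists_free_away_of_flat_atPrime {R : Type u} [CommRing R] (P : Type u) [AddCommGroup P]
    [Module R P] [Module.FinitePresentation R P] (p : PrimeSpectrum R)
    (h : Module.Flat (Localization.AtPrime p.asIdeal) (LocalizedModule p.asIdeal.primeCompl P)) :
    ∃ f : R, f ∉ p.asIdeal ∧ Module.Free (Localization.Away f) (LocalizedModule.Away f P) := by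
  haveI : Module.FinitePresentation (Localization.AtPrime p.asIdeal)
      (LocalizedModule p.asIdeal.primeCompl P) := inferInstance
  haveI : Module.Free (Localization.AtPrime p.asIdeal) (LocalizedModule p.asIdeal.primeCompl P) :=
    Module.free_of_flat_of_isLocalRing
  obtain ⟨r, hr, hr', _⟩ := Module.FinitePresentation.exists_free_localizedModule_powers
    p.asIdeal.primeCompl (LocalizedModule.mkLinearMap p.asIdeal.primeCompl P)
    (Localization.AtPrime p.asIdeal)
  exact ⟨r, hr, hr'⟩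

/-- flatness of the stalk gives flatness of the localized module of sections. -/
theorem flat_localizedModule_of_isFlatAt (M : X.Modules) [M.IsQuasicoherent] {U : X.Opens}
    (hU : IsAffineOpen U) (x : X) (hxU : x ∈ U) (hflat : FlatMod.IsFlatAt M x) :
    Module.Flat (Localization.AtPrime (hU.primeIdealOf ⟨x, hxU⟩).asIdeal)
      (LocalizedModule (hU.primeIdealOf ⟨x, hxU⟩).asIdeal.primeCompl ((ΓUF hU).obj M)) := by
  unfold FlatMod.IsFlatAt at hflat
  set S := (hU.primeIdealOf ⟨x, hxU⟩).asIdeal.primeCompl with hS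
  letI := X.presheaf.algebra_section_stalk ⟨x, hxU⟩
  haveI := hU.isLocalization_stalk ⟨x, hxU⟩
  letI := moduleStalkSections M U x hxU
  haveI : IsScalarTower Γ(X, U) (X.presheaf.stalk x) (M.presheaf.stalk x) := by
    refine ⟨fun a b y => ?_⟩
    change (X.presheaf.germ U x hxU a * b) • y = X.presheaf.germ U x hxU a • (b • y)
    rw [mul_smul]
  haveI := isLocalizedModule_germ hU M x hxU
  have h1 : Module.Flat Γ(X, U) (M.presheaf.stalk x) :=
    (Module.flat_iff_of_isLocalization (X.presheaf.stalk x) S (M.presheaf.stalk x)).1 hflat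
  let g : (ΓUF hU).obj M →ₗ[Γ(X, U)] M.presheaf.stalk x :=
    (germₗ M U x hxU).comp (ΓUEquiv hU M).symm.toLinearMap
  haveI : IsLocalizedModule S g := IsLocalizedModule.of_linearEquiv_right S (germₗ M U x hxU) _
  have h2 : Module.Flat Γ(X, U) (LocalizedModule S ((ΓUF hU).obj M)) :=
    Module.Flat.of_linearEquiv (IsLocalizedModule.iso S g)
  exact (Module.flat_iff_of_isLocalization (Localization.AtPrime (hU.primeIdealOf ⟨x, hxU⟩).asIdeal) S
    (LocalizedModule S ((ΓUF hU).obj M))).2 h2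

/-- helper20's `exists_restrict_iso_freeMod`, from freeness over a basic open. -/
theorem exists_restrict_iso_freeMod_of_free_away (M : X.Modules) [M.IsQuasicoherent] {U : X.Opens}
    (hU : IsAffineOpen U) (x : X) (hxU : x ∈ U) (f : Γ(X, U))
    (hf : f ∉ (hU.primeIdealOf ⟨x, hxU⟩).asIdeal)
    [Module.Finite Γ(X, U) ((ΓUF hU).obj M)]
    (hfree : Module.Free (Localization.Away f) (LocalizedModule.Away f ((ΓUF hU).obj M))) :
    ∃ (D : X.Opens) (m : ℕ), x ∈ D ∧ D ≤ U ∧
      Nonempty (M.restrict D.ι ≅ FlatMod.freeMod (D : Scheme.{u}) m) := by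
  have hD : IsAffineOpen (X.basicOpen f) := hU.basicOpen f
  have hxD : x ∈ X.basicOpen f :=
    (Groth.Agent.Lib.Helper2.mem_basicOpen_iff_notMem_primeIdealOf hU x hxU f).2 hf
  have hle : X.basicOpen f ≤ (𝟙 X) ⁻¹ᵁ U := X.basicOpen_le f
  letI : Algebra Γ(X, U) Γ(X, X.basicOpen f) :=
    (Scheme.Hom.appLE (𝟙 X) U (X.basicOpen f) hle).hom.toAlgebra
  haveI : Nonempty (X.basicOpen f) := ⟨⟨x, hxD⟩⟩
  haveI : IsLocalization.Away f Γ(X, X.basicOpen f) := by
    convert hU.isLocalization_basicOpen f using 1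
    change RingHom.toAlgebra _ = RingHom.toAlgebra _
    congr 1
  haveI : Module.Free Γ(X, X.basicOpen f) (Γ(X, X.basicOpen f) ⊗[Γ(X, U)] ((ΓUF hU).obj M)) :=
    free_tensor_of_away f _ hfree
  let e : (ΓUF hD).obj ((Scheme.Modules.pullback (𝟙 X)).obj M) ≃ₗ[Γ(X, X.basicOpen f)]
      (Γ(X, X.basicOpen f) ⊗[Γ(X, U)] ((ΓUF hU).obj M)) :=
    (ΓUFPullbackIso (𝟙 X) hU hD hle M).toLinearEquiv
  let e' : (ΓUF hD).obj ((Scheme.Modules.pullback (𝟙 X)).obj M) ≃ₗ[Γ(X, X.basicOpen f)] (ΓUF hD).obj M :=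
    ((ΓUF hD).mapIso ((Scheme.Modules.pullbackId X).app M)).toLinearEquiv
  haveI : Module.Free Γ(X, X.basicOpen f) ((ΓUF hD).obj M) := Module.Free.of_equiv (e.symm.trans e')
  haveI : Module.Finite Γ(X, X.basicOpen f) ((ΓUF hD).obj M) := Module.Finite.equiv (e.symm.trans e')
  exact ⟨X.basicOpen f, _, hxD, X.basicOpen_le f,
    ⟨restrictIsoFreeMod' M hD (Module.finBasis Γ(X, X.basicOpen f) ((ΓUF hD).obj M))⟩⟩

/-- a finitely presented quasi-coherent module which is flat at `x` is free near `x`. -/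
theorem exists_restrict_iso_freeMod_of_isFlatAt (M : X.Modules) [M.IsQuasicoherent]
    [SheafOfModules.IsFinitePresentation (R := X.ringCatSheaf) M] (x : X)
    (hflat : FlatMod.IsFlatAt M x) :
    ∃ (D : X.Opens) (m : ℕ), x ∈ D ∧
      Nonempty (M.restrict D.ι ≅ FlatMod.freeMod (D : Scheme.{u}) m) := by
  obtain ⟨U, hU, hxU, -, hfp⟩ :=
    Groth.Agent.Lib.Helper2.FinPres.exists_affine_nhds_finitePresentation M x ⊤ trivial
  haveI : Module.FinitePresentation Γ(X, U) ((ΓUF hU).obj M) :=
    Module.FinitePresentation.of_equiv (ΓUEquiv hU M)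
  obtain ⟨f, hf, hfree⟩ := exists_free_away_of_flat_atPrime ((ΓUF hU).obj M)
    (hU.primeIdealOf ⟨x, hxU⟩) (flat_localizedModule_of_isFlatAt M hU x hxU hflat)
  obtain ⟨D, m, hxD, -, h⟩ := exists_restrict_iso_freeMod_of_free_away M hU x hxU f hf hfree
  exact ⟨D, m, hxD, h⟩

end Groth.Agent.Lib.Helper2.LocFree
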