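import Mathlib
import Groth.Prelude.Def_FlatMod2
import Groth.Agent.Lib.Helper2LocFree

/-!
# Finite presentation of quasi-coherent modules on affine opens (helper2)

Namespace `Groth.Agent.Lib.Helper2.FPAff`.

* `moduleRes`, `resₗ`, `isLocalizedModule_basicOpen`: for quasi-coherent `F`, affine `U`, `f ∈ Γ(X,U)`, the restriction
  `Γ(F,U) → Γ(F,D(f))` is the localization at `f` (as `Γ(X,U)`-modules).
* `finitePresentation_basicOpen`, **`finitePresentation_sections`**: a finitely presented quasi-coherent module has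
  finitely presented modules of sections over *all* affine opens.
* `finitePresentation_iff_of_semilinear`.
* `exists_semilinear_Γtop`, **`isFinitePresentation_tilde_iff`**, **`isFinLocFree_tilde_iff`**.
-/

set_option autoImplicit false
set_option linter.style.haveILetI false
universe u
open CategoryTheory Limits AlgebraicGeometry TopologicalSpace Opposite TensorProduct

namespace Groth.Agent.Lib.Helper2.FPAff

open Groth.Agent.Lib.Helper2.FlatOver Groth.Agent.Lib.Helper2.QCoh Groth.Agent.Lib.Helper23.FinType
open Groth.Agent.Lib.Helper2.LocFree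

variable {X : Scheme.{u}}

/-- `Γ(X,U)`-module structure on sections over a smaller open, through restriction. -/
noncomputable abbrev moduleRes (F : X.Modules) {U D : X.Opens} (h : D ≤ U) :
    Module Γ(X, U) Γ(F, D) :=
  Module.compHom Γ(F, D) (X.presheaf.map (homOfLE h).op).hom

/-- restriction of sections as a linear map. -/
noncomputable def resₗ (F : X.Modules) {U D : X.Opens} (h : D ≤ U) :
    letI := moduleRes F h
    Γ(F, U) →ₗ[Γ(X, U)] Γ(F, D) :=
  letI := moduleRes F h
  { toFun := fun m => F.presheaf.map (homOfLE h).op m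
    map_add' := fun a b => map_add _ a b
    map_smul' := fun r m => Scheme.Modules.map_smul F (homOfLE h) r m }

theorem resₗ_apply (F : X.Modules) {U D : X.Opens} (h : D ≤ U) (m : Γ(F, U)) :
    resₗ F h m = F.presheaf.map (homOfLE h).op m := rfl

/-- for quasi-coherent `F`, affine `U`, `f ∈ Γ(X,U)`: `Γ(F, D(f))` is the localization of `Γ(F,U)` at `f`. -/
theorem isLocalizedModule_basicOpen (F : X.Modules) [F.IsQuasicoherent] {U : X.Opens}
    (hU : IsAffineOpen U) (f : Γ(X, U)) :
    letI := moduleRes F (X.basicOpen_le f)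
    IsLocalizedModule (Submonoid.powers f) (resₗ F (X.basicOpen_le f)) := by
  letI := moduleRes F (X.basicOpen_le f)
  have hsm : ∀ (b : Γ(X, U)) (m : Γ(F, X.basicOpen f)),
      b • m = (X.presheaf.map (homOfLE (X.basicOpen_le f)).op b) • m := fun _ _ => rfl
  refine ⟨?_, ?_, ?_⟩
  · rintro ⟨_, n, rfl⟩
    have hu : IsUnit ((X.presheaf.map (homOfLE (X.basicOpen_le f)).op (f ^ n))) := by
      rw [map_pow]
      exact (RingedSpace.isUnit_res_basicOpen _ f).pow n
    obtain ⟨w, hw⟩ := hu
    rw [Module.End.isUnit_iff]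
    constructor
    · intro y y' h
      have h' : (w : Γ(X, X.basicOpen f)) • y = (w : Γ(X, X.basicOpen f)) • y' := by
        rw [hw]; exact h
      have := congrArg (fun z => (w⁻¹ : (Γ(X, X.basicOpen f))ˣ).1 • z) h'
      simpa [smul_smul] using this
    · intro y
      refine ⟨(w⁻¹ : (Γ(X, X.basicOpen f))ˣ).1 • y, ?_⟩
      change (f ^ n) • ((w⁻¹ : (Γ(X, X.basicOpen f))ˣ).1 • y) = y
      rw [hsm, ← hw, smul_smul, Units.mul_inv, one_smul]
  · intro s
    obtain ⟨n, t, ht⟩ := QCoh.exists_extension hU F f s
    refine ⟨(t, ⟨f ^ n, n, rfl⟩), ?_⟩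
    change (f ^ n) • s = resₗ F (X.basicOpen_le f) t
    rw [resₗ_apply, ht, hsm, map_pow]
  · intro t₁ t₂ h
    have h0 : F.presheaf.map (homOfLE (X.basicOpen_le f)).op (t₁ - t₂) = 0 := by
      rw [map_sub]; exact sub_eq_zero.2 h
    obtain ⟨n, hn⟩ := QCoh.exists_pow_smul_eq_zero hU F f _ h0
    refine ⟨⟨f ^ n, n, rfl⟩, ?_⟩
    change (f ^ n) • t₁ = (f ^ n) • t₂
    rw [← sub_eq_zero, ← smul_sub]
    exact hn

theorem isScalarTower_basicOpen (F : X.Modules) {U : X.Opens} (f : Γ(X, U)) :
    letI := moduleRes F (X.basicOpen_le f)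
    IsScalarTower Γ(X, U) Γ(X, X.basicOpen f) Γ(F, X.basicOpen f) := by
  letI := moduleRes F (X.basicOpen_le f)
  refine ⟨fun a b m => ?_⟩
  change ((X.presheaf.map (homOfLE (X.basicOpen_le f)).op a) * b) • m =
    (X.presheaf.map (homOfLE (X.basicOpen_le f)).op a) • (b • m)
  rw [mul_smul]

/-- finite presentation passes to basic opens. -/
theorem finitePresentation_basicOpen (F : X.Modules) [F.IsQuasicoherent] {U : X.Opens}
    (hU : IsAffineOpen U) (f : Γ(X, U)) [Module.FinitePresentation Γ(X, U) Γ(F, U)] :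
    Module.FinitePresentation Γ(X, X.basicOpen f) Γ(F, X.basicOpen f) := by
  letI := moduleRes F (X.basicOpen_le f)
  haveI := isScalarTower_basicOpen F f
  haveI := isLocalizedModule_basicOpen F hU f
  haveI : IsLocalization.Away f Γ(X, X.basicOpen f) := hU.isLocalization_basicOpen f
  exact FinitePresentation.of_isBaseChange (resₗ F (X.basicOpen_le f))
    (IsLocalizedModule.isBaseChange (Submonoid.powers f) Γ(X, X.basicOpen f) _)

/-- sections of a finitely presented quasi-coherent module over any affine open are finitely presented. -/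
theorem finitePresentation_sections (F : X.Modules) [F.IsQuasicoherent]
    [SheafOfModules.IsFinitePresentation (R := X.ringCatSheaf) F] {U : X.Opens}
    (hU : IsAffineOpen U) : Module.FinitePresentation Γ(X, U) Γ(F, U) := by
  let s : Set Γ(X, U) :=
    {f | Module.FinitePresentation Γ(X, X.basicOpen f) Γ(F, X.basicOpen f)}
  have hs : Ideal.span s = ⊤ := by
    by_contra hne
    obtain ⟨P, hP, hle⟩ := Ideal.exists_le_maximal _ hne
    let x : X := hU.fromSpec ⟨P, hP.isPrime⟩
    have hxU : x ∈ U := QCoh.fromSpec_mem hU _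
    obtain ⟨U', hU', hxU', hU'U, hfp⟩ :=
      Groth.Agent.Lib.Helper2.FinPres.exists_affine_nhds_finitePresentation F x U hxU
    obtain ⟨f, g, hfg, hxf⟩ := exists_basicOpen_le_affine_inter hU hU' x ⟨hxU, hxU'⟩
    have h1 : Module.FinitePresentation Γ(X, X.basicOpen g) Γ(F, X.basicOpen g) :=
      finitePresentation_basicOpen F hU' g
    have h2 : Module.FinitePresentation Γ(X, X.basicOpen f) Γ(F, X.basicOpen f) := by
      rw [hfg]; exact h1
    have hfP : f ∈ P := hle (Ideal.subset_span h2)
    have hnot : f ∉ (hU.primeIdealOf ⟨x, hxU⟩).asIdeal :=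
      (Groth.Agent.Lib.Helper2.mem_basicOpen_iff_notMem_primeIdealOf hU x hxU f).1 hxf
    rw [QCoh.primeIdealOf_fromSpec hU] at hnot
    exact hnot hfP
  letI : ∀ g : s, Module Γ(X, U) Γ(F, X.basicOpen g.1) := fun g => moduleRes F (X.basicOpen_le g.1)
  haveI : ∀ g : s, IsScalarTower Γ(X, U) Γ(X, X.basicOpen g.1) Γ(F, X.basicOpen g.1) :=
    fun g => isScalarTower_basicOpen F g.1
  haveI : ∀ g : s, IsLocalization.Away g.1 Γ(X, X.basicOpen g.1) :=
    fun g => hU.isLocalization_basicOpen g.1
  haveI : ∀ g : s, IsLocalizedModule (Submonoid.powers g.1) (resₗ F (X.basicOpen_le g.1)) :=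
    fun g => isLocalizedModule_basicOpen F hU g.1
  exact Module.FinitePresentation.of_localizationSpan' s hs
    (Rₚ := fun g => Γ(X, X.basicOpen g.1)) (Mₚ := fun g => Γ(F, X.basicOpen g.1))
    (fun g => resₗ F (X.basicOpen_le g.1)) (fun g => g.2)

section semilinear

theorem finitePresentation_of_semilinear {R R' N N' : Type*} [CommRing R] [CommRing R']
    [AddCommGroup N] [AddCommGroup N'] [Module R N] [Module R' N'] (ρ : R →+* R')
    (hρ : Function.Bijective ρ) (e : N ≃+ N') (he : ∀ r x, e (r • x) = ρ r • e x)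
    [Module.FinitePresentation R' N'] : Module.FinitePresentation R N := by
  letI : Algebra R R' := ρ.toAlgebra
  letI : Module R N' := Module.compHom N' ρ
  haveI : IsScalarTower R R' N' :=
    ⟨fun a b y => by change (ρ a * b) • y = ρ a • (b • y); rw [mul_smul]⟩
  haveI : Module.FinitePresentation R R' :=
    Module.FinitePresentation.of_equiv (LinearEquiv.ofBijective (Algebra.linearMap R R') hρ)
  haveI : Module.FinitePresentation R N' := Module.FinitePresentation.trans R N' R'
  let e' : N ≃ₗ[R] N' := { e with map_smul' := fun r m => he r m }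
  exact Module.FinitePresentation.of_equiv e'.symm

theorem finitePresentation_iff_of_semilinear {R R' N N' : Type*} [CommRing R] [CommRing R']
    [AddCommGroup N] [AddCommGroup N'] [Module R N] [Module R' N'] (ρ : R →+* R')
    (hρ : Function.Bijective ρ) (e : N ≃+ N') (he : ∀ r x, e (r • x) = ρ r • e x) :
    Module.FinitePresentation R N ↔ Module.FinitePresentation R' N' := by
  refine ⟨fun _ => ?_, fun _ => finitePresentation_of_semilinear ρ hρ e he⟩
  let σ : R ≃+* R' := RingEquiv.ofBijective ρ hρ
  refine finitePresentation_of_semilinear (σ.symm : R' →+* R) σ.symm.bijective e.symm (fun r x => ?_)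
  apply e.injective
  rw [he, AddEquiv.apply_symm_apply, AddEquiv.apply_symm_apply]
  congr 1
  exact (σ.apply_symm_apply r).symm

end semilinear

section tilde
variable (R : CommRingCat.{u})

/-- global sections on `Spec R` as a module over `R` versus over `Γ(Spec R, ⊤)`. -/
theorem exists_semilinear_Γtop (N : (Spec R).Modules) :
    ∃ (ρ : R →+* Γ(Spec R, ⊤)) (_ : Function.Bijective ρ)
      (e : (moduleSpecΓFunctor (R := R)).obj N ≃+ Γ(N, ⊤)), ∀ r x, e (r • x) = ρ r • e x := by
  refine ⟨((Scheme.ΓSpecIso R).inv ≫ (Spec R).presheaf.map (⊤ : (Spec R).Opens).leTop.op).hom, ?_,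
    AddEquiv.refl _, fun r x => Scheme.Modules.smul_Spec_def r x⟩
  have : IsIso ((Scheme.ΓSpecIso R).inv ≫ (Spec R).presheaf.map (⊤ : (Spec R).Opens).leTop.op) := by
    have h : (⊤ : (Spec R).Opens).leTop.op = 𝟙 _ := rfl
    rw [h, (Spec R).presheaf.map_id]; infer_instance
  exact ConcreteCategory.bijective_of_isIso _

/-- `M^~` is of finite presentation iff `M` is. -/
theorem isFinitePresentation_tilde_iff (M : ModuleCat.{u} R) :
    SheafOfModules.IsFinitePresentation (R := (Spec R).ringCatSheaf) (tilde M) ↔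
      Module.FinitePresentation R M := by
  have e : M ≅ (moduleSpecΓFunctor (R := R)).obj (tilde M) := (tilde.toTildeΓNatIso (R := R)).app M
  obtain ⟨ρ, hρ, j, hj⟩ := exists_semilinear_Γtop R (tilde M)
  constructor
  · intro h
    haveI : Module.FinitePresentation Γ(Spec R, ⊤) Γ(tilde M, ⊤) :=
      finitePresentation_sections (tilde M) (isAffineOpen_top (Spec R))
    haveI : Module.FinitePresentation R ((moduleSpecΓFunctor (R := R)).obj (tilde M)) :=
      finitePresentation_of_semilinear ρ hρ j hj
    exact Module.FinitePresentation.of_equiv e.toLinearEquiv.symm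
  · intro h
    obtain ⟨Q, hQ⟩ := exists_isFinite_presentation_tilde R M
    refine isFinitePresentation_of_presentation (tilde M) (fun _ : PUnit.{u + 1} => (⊤ : (Spec R).Opens))
      (by rw [IsOpenCover]; exact ciSup_const) (fun _ => ?_)
    exact ⟨Scheme.Modules.presentationRestrict _ Q,
      ⟨⟨hQ.isFiniteType_generators.finite⟩, ⟨hQ.isFiniteType_relations.finite⟩⟩⟩


/-- `M^~` is finite locally free iff `M` is finite projective. -/
theorem isFinLocFree_tilde_iff (M : ModuleCat.{u} R) :
    FlatMod.IsFinLocFree (tilde M) ↔ Module.Finite R M ∧ Module.Projective R M := by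
  have e : M ≅ (moduleSpecΓFunctor (R := R)).obj (tilde M) := (tilde.toTildeΓNatIso (R := R)).app M
  obtain ⟨ρ, hρ, j, hj⟩ := exists_semilinear_Γtop R (tilde M)
  let σ : R ≃+* Γ(Spec R, ⊤) := RingEquiv.ofBijective ρ hρ
  have hflat_iff : Module.Flat R M ↔ Module.Flat Γ(Spec R, ⊤) Γ(tilde M, ⊤) := by
    refine Iff.trans ⟨fun _ => Module.Flat.of_linearEquiv e.toLinearEquiv.symm,
      fun _ => Module.Flat.of_linearEquiv e.toLinearEquiv⟩
      (flat_iff_of_semilinear_equiv σ j hj)
  constructor
  · intro h
    have hfl : FlatMod.IsFlat (tilde M) := isFlat_of_isFinLocFree _ h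
    have hfp := isFP_of_isFinLocFree _ h
    haveI : Module.FinitePresentation R M := (isFinitePresentation_tilde_iff R M).1 hfp
    haveI : Module.Flat R M := hflat_iff.2
      (flat_sections_of_isFlatAt (tilde M) (isAffineOpen_top (Spec R)) (fun x _ => hfl x))
    exact ⟨inferInstance, Module.Flat.projective_of_finitePresentation⟩
  · rintro ⟨hfin, hproj⟩
    haveI : Module.FinitePresentation R M := Module.finitePresentation_of_projective R M
    haveI : SheafOfModules.IsFinitePresentation (R := (Spec R).ringCatSheaf) (tilde M) :=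
      (isFinitePresentation_tilde_iff R M).2 inferInstance
    have hflat : Module.Flat Γ(Spec R, ⊤) Γ(tilde M, ⊤) := hflat_iff.1 inferInstance
    intro x
    have hx := isFlatAt_of_flat_sections (tilde M) (isAffineOpen_top (Spec R)) hflat x trivial
    obtain ⟨D, m, hxD, h⟩ := exists_restrict_iso_freeMod_of_isFlatAt (tilde M) x hx
    exact ⟨D, m, hxD, h⟩

end tilde

end Groth.Agent.Lib.Helper2.FPAff
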