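import Mathlib
/-!
# Flatness and base change of modules: algebra (helper2)

* `flat_tensor_of_flat`: `S` flat over `R`, `P` an `R`-module flat over `Λ` (`Λ → R`) ⇒ `S ⊗[R] P` flat over `Λ`.
* `flat_of_flat_tensor`: converse for `S` faithfully flat over `R`.
* `flat_of_isBaseChange`, `flat_of_isBaseChange_of_faithfullyFlat`: same in `IsBaseChange` form.
* `exists_isBaseChange_localization`: localization of a base change is the base change of the
  localization (`(C ⊗[B] N)_r = C_r ⊗[B_p] N_p`).
-/
set_option autoImplicit false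
universe u
open TensorProduct

namespace Groth.Agent.Lib.Helper2.PullbackFlat

section ALG2
variable {Λ R S : Type*} [CommRing Λ] [CommRing R] [CommRing S] [Algebra Λ R] [Algebra R S]
  [Algebra Λ S] [IsScalarTower Λ R S]
  {P : Type*} [AddCommGroup P] [Module R P] [Module Λ P] [IsScalarTower Λ R P]

/-- key identity: tensoring `S ⊗[R] P` with an ideal inclusion over `Λ` is conjugate to
`S ⊗[R] (P ⊗[Λ] -)`. -/
theorem lTensor_tensor_eq (I : Ideal Λ) :
    (I.subtype.lTensor (S ⊗[R] P)) =
      ((AlgebraTensorModule.assoc Λ R R S P Λ).symm.toLinearMap.restrictScalars Λ) ∘ₗ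
        (((AlgebraTensorModule.lTensor R P I.subtype).lTensor S).restrictScalars Λ) ∘ₗ
        ((AlgebraTensorModule.assoc Λ R R S P I).toLinearMap.restrictScalars Λ) := by
  apply TensorProduct.ext'
  intro s i
  induction s using TensorProduct.induction_on with
  | zero => simp
  | tmul s p => simp
  | add a b ha hb =>
    rw [add_tmul, map_add, map_add, ha, hb]

theorem flat_tensor_of_flat [Module.Flat R S] [Module.Flat Λ P] : Module.Flat Λ (S ⊗[R] P) := by
  rw [Module.Flat.iff_lTensor_injective]
  intro I _
  rw [lTensor_tensor_eq]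
  have h1 : Function.Injective (AlgebraTensorModule.lTensor R P I.subtype) :=
    Module.Flat.lTensor_preserves_injective_linearMap (M := P) I.subtype I.injective_subtype
  have h2 : Function.Injective ((AlgebraTensorModule.lTensor R P I.subtype).lTensor S) :=
    Module.Flat.lTensor_preserves_injective_linearMap (M := S) _ h1
  exact (AlgebraTensorModule.assoc Λ R R S P Λ).symm.injective.comp
    (h2.comp (AlgebraTensorModule.assoc Λ R R S P I).injective)

theorem flat_of_flat_tensor [Module.FaithfullyFlat R S] [Module.Flat Λ (S ⊗[R] P)] :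
    Module.Flat Λ P := by
  rw [Module.Flat.iff_lTensor_injective]
  intro I _
  have h0 : Function.Injective (I.subtype.lTensor (S ⊗[R] P)) :=
    Module.Flat.lTensor_preserves_injective_linearMap (M := S ⊗[R] P) I.subtype I.injective_subtype
  rw [lTensor_tensor_eq] at h0
  have h2 : Function.Injective ((AlgebraTensorModule.lTensor R P I.subtype).lTensor S) := by
    intro a b hab
    have ha := (AlgebraTensorModule.assoc Λ R R S P I).symm_apply_apply
    obtain ⟨a', rfl⟩ := (AlgebraTensorModule.assoc Λ R R S P I).surjective a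
    obtain ⟨b', rfl⟩ := (AlgebraTensorModule.assoc Λ R R S P I).surjective b
    congr 1
    apply h0
    simp only [LinearMap.coe_comp, LinearMap.coe_restrictScalars, LinearEquiv.coe_coe,
      Function.comp_apply]
    rw [hab]
  have h1 : Function.Injective (AlgebraTensorModule.lTensor R P I.subtype) :=
    (Module.FaithfullyFlat.lTensor_injective_iff_injective R S _).1 h2
  exact h1

end ALG2


section ALG2'
variable {Λ R S : Type*} [CommRing Λ] [CommRing R] [CommRing S] [Algebra Λ R] [Algebra R S]
  [Algebra Λ S] [IsScalarTower Λ R S]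
  {P : Type*} [AddCommGroup P] [Module R P] [Module Λ P] [IsScalarTower Λ R P]
  {Q : Type*} [AddCommGroup Q] [Module S Q] [Module R Q] [Module Λ Q] [IsScalarTower R S Q]
  [IsScalarTower Λ S Q]

/-- If `Q = S ⊗[R] P` with `S` flat over `R` and `P` flat over `Λ`, then `Q` is flat over `Λ`. -/
theorem flat_of_isBaseChange {μ : P →ₗ[R] Q} (hμ : IsBaseChange S μ) [Module.Flat R S]
    [Module.Flat Λ P] : Module.Flat Λ Q := by
  haveI := flat_tensor_of_flat (Λ := Λ) (R := R) (S := S) (P := P)
  exact Module.Flat.of_linearEquiv (hμ.equiv.restrictScalars Λ).symm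

/-- If `Q = S ⊗[R] P` with `S` faithfully flat over `R` and `Q` flat over `Λ`, then `P` is flat
over `Λ`. -/
theorem flat_of_isBaseChange_of_faithfullyFlat {μ : P →ₗ[R] Q} (hμ : IsBaseChange S μ)
    [Module.FaithfullyFlat R S] [Module.Flat Λ Q] : Module.Flat Λ P := by
  haveI : Module.Flat Λ (S ⊗[R] P) := Module.Flat.of_linearEquiv (hμ.equiv.restrictScalars Λ)
  exact flat_of_flat_tensor (Λ := Λ) (R := R) (S := S) (P := P)

end ALG2'

section ALGStalk
variable {B C R S : Type*} [CommRing B] [CommRing C] [CommRing R] [CommRing S]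
  [Algebra B C] [Algebra B R] [Algebra C S] [Algebra R S] [Algebra B S]
  [IsScalarTower B C S] [IsScalarTower B R S]
  (p : Submonoid B) [IsLocalization p R] (r : Submonoid C) [IsLocalization r S]
  {N N' M' M'' : Type*} [AddCommGroup N] [AddCommGroup N'] [AddCommGroup M'] [AddCommGroup M'']
  [Module B N] [Module B N'] [Module R N'] [IsScalarTower B R N']
  [Module B M'] [Module C M'] [IsScalarTower B C M']
  [Module B M''] [Module C M''] [Module R M''] [Module S M'']
  [IsScalarTower C S M''] [IsScalarTower B C M''] [IsScalarTower B S M'']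
  [IsScalarTower R S M''] [IsScalarTower B R M'']

/-- Stalk of a base change: if `M' = C ⊗[B] N`, `N' = N_p` and `M'' = M'_r` (with `R = B_p`,
`S = C_r`), then `M'' = S ⊗[R] N'`. -/
theorem exists_isBaseChange_localization (lam : N →ₗ[B] N') [IsLocalizedModule p lam]
    (ν : N →ₗ[B] M') (hν : IsBaseChange C ν) (lam' : M' →ₗ[C] M'') [IsLocalizedModule r lam'] :
    ∃ μ : N' →ₗ[R] M'', IsBaseChange S μ ∧ ∀ n, μ (lam n) = lam' (ν n) := by
  have h1 : IsBaseChange R lam := (isLocalizedModule_iff_isBaseChange p R lam).1 inferInstance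
  have h2 : IsBaseChange S lam' := (isLocalizedModule_iff_isBaseChange r S lam').1 inferInstance
  have h3 : IsBaseChange S ((lam'.restrictScalars B).comp ν) := hν.comp h2
  refine ⟨h1.lift ((lam'.restrictScalars B).comp ν), ?_, fun n => ?_⟩
  · apply IsBaseChange.of_comp h1
    rw [IsBaseChange.lift_comp]
    exact h3
  · rw [IsBaseChange.lift_eq]
    rfl

end ALGStalk

end Groth.Agent.Lib.Helper2.PullbackFlat
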