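import Mathlib
import Groth.Agent.Lib.Helper2FlatOver
import Groth.Agent.Lib.Helper2ModExact
import Groth.Agent.Lib.Helper23FinTypeLocal
/-!
# Flatness over a base for quasi-coherent modules, II (helper2)

* `flat_iff_of_exact_of_flat`: in `0 → M → N → P → 0` with `P` flat, `N` flat iff `M` flat.
* `exists_affine_nhds`: affine opens `x ∈ U ≤ f⁻¹V`.
* `isFlatOver_iff_forall_affine`: `FlatMod.IsFlatOver f F` iff `Γ(F,U)` flat over `Γ(S,V)` for all affine
  `U ≤ f⁻¹V`.
* `isFlatOver_iff_of_shortExact`: two-out-of-three for short exact sequences with flat cokernel.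
* `isFlatOver_pushforward_iff`: `F` flat over `S` along `f ≫ q` (`f` affine) iff `f_* F` flat over `S` along `q`.
-/
set_option autoImplicit false
universe u
open CategoryTheory Limits AlgebraicGeometry TopologicalSpace Opposite TensorProduct

namespace Groth.Agent.Lib.Helper2.FlatOver

section Algebra2
variable {R : Type*} [CommRing R] {M N P : Type*} [AddCommGroup M] [AddCommGroup N] [AddCommGroup P]
  [Module R M] [Module R N] [Module R P]

/-- In a short exact sequence `0 → M → N → P → 0` with `P` flat, `N` is flat iff `M` is flat. -/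
theorem flat_iff_of_exact_of_flat (g : M →ₗ[R] N) (f : N →ₗ[R] P) (hg : Function.Injective g)
    (hf : Function.Surjective f) (H : Function.Exact g f) [Module.Flat R P] :
    Module.Flat R N ↔ Module.Flat R M := by
  have key : ∀ (A : Type _) [AddCommGroup A] [Module R A], Function.Injective (g.lTensor A) :=
    fun A _ _ => LinearMap.lTensor_injective_of_exact_of_flat f hf g hg H A
  constructor
  · intro hN
    rw [Module.Flat.iff_rTensor_injective]
    intro I _
    have h1 : Function.Injective ((I.subtype.rTensor N) ∘ₗ (g.lTensor I)) :=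
      (Module.Flat.rTensor_preserves_injective_linearMap _ I.injective_subtype).comp (key I)
    have h2 : (I.subtype.rTensor N) ∘ₗ (g.lTensor I) = (g.lTensor R) ∘ₗ (I.subtype.rTensor M) := by
      ext; simp
    rw [h2] at h1
    exact Function.Injective.of_comp h1
  · intro hM
    rw [Module.Flat.iff_rTensor_injective]
    intro I _
    rw [injective_iff_map_eq_zero]
    intro x hx
    have h3 : (f.lTensor I) x = 0 := by
      apply Module.Flat.rTensor_preserves_injective_linearMap (M := P) _ I.injective_subtype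
      rw [map_zero]
      have : (I.subtype.rTensor P) ((f.lTensor I) x) = (f.lTensor R) ((I.subtype.rTensor N) x) := by
        rw [← LinearMap.comp_apply, ← LinearMap.comp_apply]
        congr 1
        ext; simp
      rw [this, hx, map_zero]
    obtain ⟨y, rfl⟩ := (lTensor_exact I H hf) x |>.1 h3
    have h4 : (g.lTensor R) ((I.subtype.rTensor M) y) = 0 := by
      have : (g.lTensor R) ((I.subtype.rTensor M) y) = (I.subtype.rTensor N) ((g.lTensor I) y) := by
        rw [← LinearMap.comp_apply, ← LinearMap.comp_apply]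
        congr 1
        ext; simp
      rw [this, hx]
    have h5 : (I.subtype.rTensor M) y = 0 := key R (by rw [h4, map_zero])
    have h6 : y = 0 :=
      Module.Flat.rTensor_preserves_injective_linearMap (M := M) _ I.injective_subtype
        (by rw [h5, map_zero])
    rw [h6, map_zero]

end Algebra2


section Geom2
variable {X S : Scheme.{u}}

theorem exists_affine_nhds (f : X ⟶ S) (x : X) :
    ∃ (U : X.Opens) (V : S.Opens), IsAffineOpen U ∧ IsAffineOpen V ∧ x ∈ U ∧ U ≤ f ⁻¹ᵁ V := by
  obtain ⟨V, hV, hxV⟩ : ∃ V : S.Opens, IsAffineOpen V ∧ f.base x ∈ V := by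
    obtain ⟨W, hW⟩ := (S.isBasis_affineOpens).exists_subset_of_mem_open
      (Set.mem_univ (f.base x)) isOpen_univ
    obtain ⟨⟨V, hV, rfl⟩, hxV, -⟩ := hW
    exact ⟨V, hV, hxV⟩
  obtain ⟨U, hU, hxU, hUV⟩ : ∃ U : X.Opens, IsAffineOpen U ∧ x ∈ U ∧ U ≤ f ⁻¹ᵁ V := by
    obtain ⟨W, hW⟩ := (X.isBasis_affineOpens).exists_subset_of_mem_open
      (show x ∈ ((f ⁻¹ᵁ V : X.Opens) : Set X) from hxV) (f ⁻¹ᵁ V).isOpen
    obtain ⟨⟨U, hU, rfl⟩, hxU, hUV⟩ := hW
    exact ⟨U, hU, hxU, hUV⟩
  exact ⟨U, V, hU, hV, hxU, hUV⟩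

/-- Flatness over the base of a quasi-coherent module is flatness of sections over affine opens. -/
theorem isFlatOver_iff_forall_affine (f : X ⟶ S) (F : X.Modules) [F.IsQuasicoherent] :
    FlatMod.IsFlatOver f F ↔
      ∀ (U : X.Opens) (V : S.Opens) (hUV : U ≤ f ⁻¹ᵁ V), IsAffineOpen U → IsAffineOpen V →
        @Module.Flat Γ(S, V) Γ(F, U) _ _ (Module.compHom Γ(F, U) (f.appLE V U hUV).hom) := by
  constructor
  · intro H U V hUV hU hV
    exact flat_sections_of_isFlatOverAt f F hU hV hUV (fun x _ => H x)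
  · intro H x
    obtain ⟨U, V, hU, hV, hxU, hUV⟩ := exists_affine_nhds f x
    exact isFlatOverAt_of_flat_sections f F hU hV hUV (H U V hUV hU hV) x hxU

/-- In a short exact sequence of quasi-coherent modules with flat (over the base) cokernel, the
middle term is flat over the base iff the kernel is. -/
theorem isFlatOver_iff_of_shortExact (f : X ⟶ S) (T : ShortComplex X.Modules) (hT : T.ShortExact)
    [T.X₁.IsQuasicoherent] [T.X₂.IsQuasicoherent] [T.X₃.IsQuasicoherent]
    (hflat : FlatMod.IsFlatOver f T.X₃) :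
    FlatMod.IsFlatOver f T.X₂ ↔ FlatMod.IsFlatOver f T.X₁ := by
  rw [isFlatOver_iff_forall_affine, isFlatOver_iff_forall_affine]
  rw [isFlatOver_iff_forall_affine] at hflat
  refine forall_congr' fun U => forall_congr' fun V => forall_congr' fun hUV =>
    forall_congr' fun hU => forall_congr' fun hV => ?_
  have h3 := hflat U V hUV hU hV
  letI : Module Γ(S, V) Γ(T.X₁, U) := Module.compHom Γ(T.X₁, U) (f.appLE V U hUV).hom
  letI : Module Γ(S, V) Γ(T.X₂, U) := Module.compHom Γ(T.X₂, U) (f.appLE V U hUV).hom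
  letI : Module Γ(S, V) Γ(T.X₃, U) := Module.compHom Γ(T.X₃, U) (f.appLE V U hUV).hom
  haveI : Module.Flat Γ(S, V) Γ(T.X₃, U) := h3
  haveI := hT.mono_f
  haveI := hT.epi_g
  let g₁ : Γ(T.X₁, U) →ₗ[Γ(S, V)] Γ(T.X₂, U) :=
    { toFun := fun m => Scheme.Modules.Hom.app T.f U m
      map_add' := fun a b => map_add _ a b
      map_smul' := fun a m => ModExact.app_smul T.f U ((f.appLE V U hUV).hom a) m }
  let g₂ : Γ(T.X₂, U) →ₗ[Γ(S, V)] Γ(T.X₃, U) :=
    { toFun := fun m => Scheme.Modules.Hom.app T.g U m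
      map_add' := fun a b => map_add _ a b
      map_smul' := fun a m => ModExact.app_smul T.g U ((f.appLE V U hUV).hom a) m }
  have hinj : Function.Injective g₁ := ModExact.app_injective_of_mono T.f U
  have hsurj : Function.Surjective g₂ :=
    Groth.Agent.Lib.Helper23.FinType.surjective_app_of_epi T.g hU
  have hex : Function.Exact g₁ g₂ := by
    intro m
    constructor
    · intro hm
      obtain ⟨t, ht⟩ := ModExact.exists_app_eq_of_shortExact T hT U m hm
      exact ⟨t, ht⟩
    · rintro ⟨t, rfl⟩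
      change Scheme.Modules.Hom.app T.g U (Scheme.Modules.Hom.app T.f U t) = 0
      have h0 : T.f ≫ T.g = 0 := T.zero
      have h1 : Scheme.Modules.Hom.app (T.f ≫ T.g) U t = 0 := by
        rw [h0]; rfl
      exact h1
  exact flat_iff_of_exact_of_flat g₁ g₂ hinj hsurj hex

end Geom2

section Push
variable {X Y S : Scheme.{u}}

theorem flat_pushforward_sections_iff (f : X ⟶ Y) (q : Y ⟶ S) (F : X.Modules)
    {W : Y.Opens} {V : S.Opens} (e : W ≤ q ⁻¹ᵁ V) (e' : f ⁻¹ᵁ W ≤ (f ≫ q) ⁻¹ᵁ V) :
    @Module.Flat Γ(S, V) Γ((Scheme.Modules.pushforward f).obj F, W) _ _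
        (Module.compHom Γ((Scheme.Modules.pushforward f).obj F, W) (q.appLE V W e).hom) ↔
      @Module.Flat Γ(S, V) Γ(F, f ⁻¹ᵁ W) _ _
        (Module.compHom Γ(F, f ⁻¹ᵁ W) ((f ≫ q).appLE V (f ⁻¹ᵁ W) e').hom) := by
  letI i1 : Module Γ(S, V) Γ((Scheme.Modules.pushforward f).obj F, W) :=
    Module.compHom Γ((Scheme.Modules.pushforward f).obj F, W) (q.appLE V W e).hom
  letI i2 : Module Γ(S, V) Γ(F, f ⁻¹ᵁ W) :=
    Module.compHom Γ(F, f ⁻¹ᵁ W) ((f ≫ q).appLE V (f ⁻¹ᵁ W) e').hom
  refine flat_iff_of_semilinear_equiv (RingEquiv.refl Γ(S, V))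
    (AddEquiv.refl Γ(F, f ⁻¹ᵁ W)) ?_
  intro a m
  change (f.app W ((q.appLE V W e).hom a)) • (show Γ(F, f ⁻¹ᵁ W) from m) =
    ((f ≫ q).appLE V (f ⁻¹ᵁ W) e').hom a • (show Γ(F, f ⁻¹ᵁ W) from m)
  congr 1
  have h := Scheme.Hom.appLE_comp_appLE f q V W (f ⁻¹ᵁ W) e le_rfl
  rw [Scheme.Hom.appLE_eq_app] at h
  have h2 := congrArg (fun g => g.hom a) h
  simpa using h2

/-- Flatness over `S` of a quasi-coherent module along `f ≫ q` with `f` affine is flatness of its
direct image along `q`. -/
theorem isFlatOver_pushforward_iff (f : X ⟶ Y) [IsAffineHom f] (q : Y ⟶ S) (F : X.Modules)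
    [F.IsQuasicoherent] :
    FlatMod.IsFlatOver (f ≫ q) F ↔ FlatMod.IsFlatOver q ((Scheme.Modules.pushforward f).obj F) := by
  haveI : ((Scheme.Modules.pushforward f).obj F).IsQuasicoherent :=
    Groth.Agent.Lib.Helper23.QCohLocal.isQuasicoherent_pushforward f F
  constructor
  · intro H
    rw [isFlatOver_iff_forall_affine]
    intro W V e hW hV
    have e' : f ⁻¹ᵁ W ≤ (f ≫ q) ⁻¹ᵁ V := fun x hx => e hx
    rw [flat_pushforward_sections_iff f q F e e']
    exact (isFlatOver_iff_forall_affine (f ≫ q) F).1 H _ _ e' (hW.preimage f) hV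
  · intro H x
    obtain ⟨W, V, hW, hV, hxW, e⟩ := exists_affine_nhds q (f.base x)
    have e' : f ⁻¹ᵁ W ≤ (f ≫ q) ⁻¹ᵁ V := fun x hx => e hx
    have h1 := (isFlatOver_iff_forall_affine q _).1 H W V e hW hV
    rw [flat_pushforward_sections_iff f q F e e'] at h1
    exact isFlatOverAt_of_flat_sections (f ≫ q) F (hW.preimage f) hV e' h1 x hxW

end Push


end Groth.Agent.Lib.Helper2.FlatOver
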