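import Mathlib
import Groth.Agent.Lib.Helper20Nakayama
import Groth.Agent.Lib.Helper2FlatOver2
/-!
# Sections of a pullback module over affine opens (helper2)

For `h : X ⟶ Y`, `G` a quasi-coherent `O_Y`-module, affine opens `U ⊆ X`, `W ⊆ Y` with `U ≤ h⁻¹W`:
* `pullbackFromSpecIso G hW : (pullback hW.fromSpec).obj G ≅ tilde (ΓU G hW)`;
* `pullbackFromSpecPullbackIso h G hU hW e :
    (pullback hU.fromSpec).obj ((pullback h).obj G) ≅ tilde (extendScalars (h.appLE W U e) (ΓU G hW))`;
* `sectionsPullbackIso h G hU hW e : ΓU (h^* G) hU ≅ extendScalars (h.appLE W U e) (ΓU G hW)`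
  (`Γ(h^*G, U) ≅ Γ(X,U) ⊗_{Γ(Y,W)} Γ(G,W)`), in `ModuleCat Γ(X,U)`;
* `isQuasicoherent_pullback`: pullbacks of quasi-coherent modules are quasi-coherent.
Built on helper20's `pullbackTildeObjIso` and helper23's `ΓU`.
-/
set_option autoImplicit false
universe u
open CategoryTheory Limits AlgebraicGeometry TopologicalSpace Opposite TensorProduct

namespace Groth.Agent.Lib.Helper2.PullbackSec

open Groth.Agent.Lib.Helper23.FinType Groth.Agent.Lib.Helper23.QCohLocal
open Groth.Agent.Lib.Helper20.OmegaAff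

variable {X Y : Scheme.{u}} (h : X ⟶ Y) (G : Y.Modules) [G.IsQuasicoherent]
  {U : X.Opens} (hU : IsAffineOpen U) {W : Y.Opens} (hW : IsAffineOpen W) (e : U ≤ h ⁻¹ᵁ W)

/-- pullback of a quasi-coherent module along `fromSpec` of an affine open is the tilde of sections -/
noncomputable def pullbackFromSpecIso :
    (Scheme.Modules.pullback hW.fromSpec).obj G ≅ tilde (ΓU G hW) := by
  haveI : (G.restrict hW.fromSpec).IsQuasicoherent :=
    Scheme.Modules.isQuasicoherent_restrictFunctor hW.fromSpec G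
  exact ((Scheme.Modules.restrictFunctorIsoPullback hW.fromSpec).app G).symm ≪≫
      isoTildeOfΓIso (G.restrict hW.fromSpec) (ΓU G hW) (Iso.refl _)

/-- pullback of `h^* G` to `Spec Γ(X,U)` is the tilde of the extension of scalars of `Γ(G,W)`. -/
noncomputable def pullbackFromSpecPullbackIso :
    (Scheme.Modules.pullback hU.fromSpec).obj ((Scheme.Modules.pullback h).obj G) ≅
      tilde ((ModuleCat.extendScalars (h.appLE W U e).hom).obj (ΓU G hW)) := by
  have hsq : Spec.map (h.appLE W U e) ≫ hW.fromSpec = hU.fromSpec ≫ h :=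
    IsAffineOpen.SpecMap_appLE_fromSpec h hW hU e
  exact (Scheme.Modules.pullbackComp hU.fromSpec h).app G ≪≫
    (Scheme.Modules.pullbackCongr hsq.symm).app G ≪≫
    ((Scheme.Modules.pullbackComp (Spec.map (h.appLE W U e)) hW.fromSpec).app G).symm ≪≫
    (Scheme.Modules.pullback (Spec.map (h.appLE W U e))).mapIso (pullbackFromSpecIso G hW) ≪≫
    pullbackTildeObjIso (h.appLE W U e) _

/-- **Sections of a pullback over affine opens**: `Γ(h^*G, U) ≅ Γ(X,U) ⊗_{Γ(Y,W)} Γ(G,W)`. -/
noncomputable def sectionsPullbackIso :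
    ΓU ((Scheme.Modules.pullback h).obj G) hU ≅
      (ModuleCat.extendScalars (h.appLE W U e).hom).obj (ΓU G hW) :=
  (ΓF Γ(X, U)).mapIso ((Scheme.Modules.restrictFunctorIsoPullback hU.fromSpec).app _) ≪≫
    (ΓF Γ(X, U)).mapIso (pullbackFromSpecPullbackIso h G hU hW e) ≪≫
    ((tilde.toTildeΓNatIso (R := Γ(X, U))).app _).symm


/-- The pullback of a quasi-coherent module is quasi-coherent. -/
theorem isQuasicoherent_pullback : ((Scheme.Modules.pullback h).obj G).IsQuasicoherent := by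
  let ι : Type u := {p : X.affineOpens × Y.affineOpens // (p.1 : X.Opens) ≤ h ⁻¹ᵁ (p.2 : Y.Opens)}
  refine isQuasicoherent_of_affine_cover _ (fun i : ι => (i.1.1 : X.Opens)) ?_ (fun i => i.1.1.2)
    (fun i => ?_)
  · rw [TopologicalSpace.IsOpenCover, eq_top_iff]
    intro x _
    obtain ⟨U, W, hU, hW, hxU, hUW⟩ := FlatOver.exists_affine_nhds h x
    exact Opens.mem_iSup.2 ⟨⟨(⟨U, hU⟩, ⟨W, hW⟩), hUW⟩, hxU⟩
  · have e1 := (Scheme.Modules.restrictFunctorIsoPullback i.1.1.2.fromSpec).app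
      ((Scheme.Modules.pullback h).obj G) ≪≫
      pullbackFromSpecPullbackIso h G i.1.1.2 i.1.2.2 i.2
    have hq : (tilde ((ModuleCat.extendScalars (h.appLE i.1.2.1 i.1.1.1 i.2).hom).obj
        (ΓU G i.1.2.2))).IsQuasicoherent := inferInstance
    exact (SheafOfModules.isQuasicoherent.{u} (Spec Γ(X, (i.1.1 : X.Opens))).ringCatSheaf).prop_of_iso
      e1.symm hq

end Groth.Agent.Lib.Helper2.PullbackSec
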