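import Mathlib
import Groth.Agent.Lib.Helper2PullbackSec
import Groth.Agent.Lib.Helper2PullbackFlat
/-!
# Stalks of pullback modules and flatness over a base (helper2)

* `exists_addEquiv_ΓU`: helper23's `ΓU M hU` versus `Γ(M,U)` (semilinear equivalence).
* `nonempty_sections_linearEquiv`: `Γ(X,U) ⊗_{Γ(Y,W)} Γ(G,W) ≃ₗ Γ(h^*G, U)` for `G` quasi-coherent, affine `U ≤ h⁻¹W`.
* `nonempty_stalk_linearEquiv`: **stalk of a pullback** `O_{X,x} ⊗_{O_{Y,hx}} G_{hx} ≃ₗ (h^*G)_x`.
* `isFlatOverAt_pullback_iff`: for `h` flat at `x`, `G` is flat over `S` at `h x` iff `h^*G` is flat over `S` at `x`.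
-/
set_option autoImplicit false
universe u
open CategoryTheory Limits AlgebraicGeometry TopologicalSpace Opposite TensorProduct

namespace Groth.Agent.Lib.Helper2.PullbackSec

open Groth.Agent.Lib.Helper23.FinType Groth.Agent.Lib.Helper23.QCohLocal
open Groth.Agent.Lib.Helper20.OmegaAff Groth.Agent.Lib.Helper2.QCoh

variable {X : Scheme.{u}}

theorem exists_addEquiv_of_eq (M : X.Modules) {U W : X.Opens} (h : W = U) (hle : W ≤ U) :
    ∃ ε : Γ(M, W) ≃+ Γ(M, U), ∀ (r : Γ(X, U)) (x : Γ(M, W)),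
      ε (X.presheaf.map (homOfLE hle).op r • x) = r • ε x := by
  subst h
  refine ⟨AddEquiv.refl _, fun r x => ?_⟩
  have : (homOfLE hle).op = 𝟙 (op W) := rfl
  rw [this, X.presheaf.map_id]
  rfl

/-- The two descriptions of sections over an affine open `U` (helper23's `ΓU M hU`, a module over
`Γ(X,U)` through `Spec Γ(X,U)`, and `Γ(M,U)`) are semilinearly equivalent. -/
theorem exists_addEquiv_ΓU (M : X.Modules) {U : X.Opens} (hU : IsAffineOpen U) :
    ∃ ε : (ΓU M hU) ≃+ Γ(M, U), ∀ (r : Γ(X, U)) (x : ΓU M hU), ε (r • x) = r • ε x := by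
  have h₁ : hU.fromSpec ''ᵁ ⊤ = U := by
    rw [Scheme.Hom.image_top_eq_opensRange, hU.opensRange_fromSpec]
  obtain ⟨ε, hε⟩ := exists_addEquiv_of_eq M h₁ (fromSpec_image_le hU ⊤)
  refine ⟨((M.restrictAppIso hU.fromSpec ⊤).addCommGroupIsoToAddEquiv).trans ε, fun r x => ?_⟩
  exact (congrArg ε (restrict_fromSpec_smul hU M ⊤ r x)).trans (hε r _)


section sections
variable {X Y : Scheme.{u}} (h : X ⟶ Y) (G : Y.Modules) [G.IsQuasicoherent]
  {U : X.Opens} (hU : IsAffineOpen U) {W : Y.Opens} (hW : IsAffineOpen W) (e : U ≤ h ⁻¹ᵁ W)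

include hU hW in
/-- `Γ(h^*G, U) ≃ Γ(X,U) ⊗_{Γ(Y,W)} Γ(G, W)`, linearly over `Γ(X,U)`. -/
theorem nonempty_sections_linearEquiv :
    letI : Algebra Γ(Y, W) Γ(X, U) := (h.appLE W U e).hom.toAlgebra
    Nonempty (Γ(X, U) ⊗[Γ(Y, W)] Γ(G, W) ≃ₗ[Γ(X, U)] Γ((Scheme.Modules.pullback h).obj G, U)) := by
  letI : Algebra Γ(Y, W) Γ(X, U) := (h.appLE W U e).hom.toAlgebra
  obtain ⟨εG, hεG⟩ := exists_addEquiv_ΓU G hW
  obtain ⟨εH, hεH⟩ := exists_addEquiv_ΓU ((Scheme.Modules.pullback h).obj G) hU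
  let eG : (ΓU G hW) ≃ₗ[Γ(Y, W)] Γ(G, W) := { εG with map_smul' := hεG }
  let eH : (ΓU ((Scheme.Modules.pullback h).obj G) hU) ≃ₗ[Γ(X, U)]
      Γ((Scheme.Modules.pullback h).obj G, U) := { εH with map_smul' := hεH }
  let iso := sectionsPullbackIso h G hU hW e
  let T : Γ(X, U) ⊗[Γ(Y, W)] (ΓU G hW) ≃ₗ[Γ(X, U)] Γ((Scheme.Modules.pullback h).obj G, U) :=
    (LinearEquiv.refl Γ(X, U) (Γ(X, U) ⊗[Γ(Y, W)] (ΓU G hW))) ≪≫ₗ iso.symm.toLinearEquiv ≪≫ₗ eH
  exact ⟨(TensorProduct.AlgebraTensorModule.congr (LinearEquiv.refl Γ(X, U) Γ(X, U)) eG.symm) ≪≫ₗ T⟩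

end sections


section stalk
variable {X Y : Scheme.{u}} (h : X ⟶ Y) (G : Y.Modules) [G.IsQuasicoherent]

open Groth.Agent.Lib.Helper2.FlatOver Groth.Agent.Lib.Helper2.PullbackFlat in
/-- **Stalk of a pullback**: `(h^*G)_x ≃ O_{X,x} ⊗_{O_{Y,h x}} G_{h x}`, linearly over `O_{X,x}`. -/
theorem nonempty_stalk_linearEquiv (x : X) :
    letI : Algebra (Y.presheaf.stalk (h.base x)) (X.presheaf.stalk x) :=
      (h.stalkMap x).hom.toAlgebra
    Nonempty ((X.presheaf.stalk x) ⊗[Y.presheaf.stalk (h.base x)] (G.presheaf.stalk (h.base x))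
      ≃ₗ[X.presheaf.stalk x] ((Scheme.Modules.pullback h).obj G).presheaf.stalk x) := by
  obtain ⟨U, W, hU, hW, hx, e⟩ := exists_affine_nhds h x
  set H := (Scheme.Modules.pullback h).obj G with hH
  haveI : H.IsQuasicoherent := isQuasicoherent_pullback h G
  letI aBC : Algebra Γ(Y, W) Γ(X, U) := (h.appLE W U e).hom.toAlgebra
  letI aBR : Algebra Γ(Y, W) (Y.presheaf.stalk (h.base x)) :=
    Y.presheaf.algebra_section_stalk ⟨h.base x, e hx⟩
  letI aCS : Algebra Γ(X, U) (X.presheaf.stalk x) := X.presheaf.algebra_section_stalk ⟨x, hx⟩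
  letI aRS : Algebra (Y.presheaf.stalk (h.base x)) (X.presheaf.stalk x) :=
    (h.stalkMap x).hom.toAlgebra
  letI aBS : Algebra Γ(Y, W) (X.presheaf.stalk x) :=
    ((X.presheaf.germ U x hx).hom.comp (h.appLE W U e).hom).toAlgebra
  haveI tBCS : IsScalarTower Γ(Y, W) Γ(X, U) (X.presheaf.stalk x) :=
    IsScalarTower.of_algebraMap_eq (fun b => rfl)
  haveI tBRS : IsScalarTower Γ(Y, W) (Y.presheaf.stalk (h.base x)) (X.presheaf.stalk x) :=
    IsScalarTower.of_algebraMap_eq (fun b => (stalkMap_germ_eq h e x hx b).symm)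
  haveI lR := hW.isLocalization_stalk ⟨h.base x, e hx⟩
  haveI lS := hU.isLocalization_stalk ⟨x, hx⟩
  -- modules
  letI mBN' : Module Γ(Y, W) (G.presheaf.stalk (h.base x)) :=
    moduleStalkSections G W (h.base x) (e hx)
  haveI tN' : IsScalarTower Γ(Y, W) (Y.presheaf.stalk (h.base x)) (G.presheaf.stalk (h.base x)) :=
    IsScalarTower.of_algebraMap_smul (fun b n => rfl)
  letI mBM' : Module Γ(Y, W) Γ(H, U) := Module.compHom _ (h.appLE W U e).hom
  haveI tM' : IsScalarTower Γ(Y, W) Γ(X, U) Γ(H, U) :=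
    IsScalarTower.of_algebraMap_smul (fun b n => rfl)
  letI mCM'' : Module Γ(X, U) (H.presheaf.stalk x) := moduleStalkSections H U x hx
  letI mRM'' : Module (Y.presheaf.stalk (h.base x)) (H.presheaf.stalk x) :=
    FlatMod.moduleStalkOver h H x
  letI mBM'' : Module Γ(Y, W) (H.presheaf.stalk x) :=
    Module.compHom _ ((X.presheaf.germ U x hx).hom.comp (h.appLE W U e).hom)
  haveI t1 : IsScalarTower Γ(X, U) (X.presheaf.stalk x) (H.presheaf.stalk x) :=
    IsScalarTower.of_algebraMap_smul (fun b n => rfl)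
  haveI t2 : IsScalarTower Γ(Y, W) Γ(X, U) (H.presheaf.stalk x) :=
    IsScalarTower.of_algebraMap_smul (fun b n => rfl)
  haveI t3 : IsScalarTower Γ(Y, W) (X.presheaf.stalk x) (H.presheaf.stalk x) :=
    IsScalarTower.of_algebraMap_smul (fun b n => rfl)
  haveI t4 : IsScalarTower (Y.presheaf.stalk (h.base x)) (X.presheaf.stalk x) (H.presheaf.stalk x) :=
    IsScalarTower.of_algebraMap_smul (fun b n => rfl)
  haveI t5 : IsScalarTower Γ(Y, W) (Y.presheaf.stalk (h.base x)) (H.presheaf.stalk x) := by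
    refine IsScalarTower.of_algebraMap_smul (fun b n => ?_)
    change (h.stalkMap x).hom (Y.presheaf.germ W (h.base x) (e hx) b) • n =
      (X.presheaf.germ U x hx) ((h.appLE W U e).hom b) • n
    rw [stalkMap_germ_eq h e x hx b]
  haveI i1 := isLocalizedModule_germ hW G (h.base x) (e hx)
  haveI i2 := isLocalizedModule_germ hU H x hx
  obtain ⟨T⟩ := nonempty_sections_linearEquiv h G hU hW e
  let ν : Γ(G, W) →ₗ[Γ(Y, W)] Γ(H, U) :=
    (T.toLinearMap.restrictScalars Γ(Y, W)).comp (TensorProduct.mk Γ(Y, W) Γ(X, U) Γ(G, W) 1)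
  have hν : IsBaseChange Γ(X, U) ν := IsBaseChange.of_equiv T (fun v => rfl)
  obtain ⟨μ, hμ, -⟩ := exists_isBaseChange_localization
    (B := Γ(Y, W)) (C := Γ(X, U)) (R := Y.presheaf.stalk (h.base x)) (S := X.presheaf.stalk x)
    (hW.primeIdealOf ⟨h.base x, e hx⟩).asIdeal.primeCompl
    (hU.primeIdealOf ⟨x, hx⟩).asIdeal.primeCompl
    (germₗ G W (h.base x) (e hx)) ν hν (germₗ H U x hx)
  exact ⟨hμ.equiv⟩

end stalk


section flatness
variable {X Y S : Scheme.{u}}

open Groth.Agent.Lib.Helper2.FlatOver Groth.Agent.Lib.Helper2.PullbackFlat in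
/-- Flatness over the base at `h x` versus flatness of the pullback at `x`, for `h` flat at `x`. -/
theorem isFlatOverAt_pullback_iff (h : X ⟶ Y) (q : Y ⟶ S) (G : Y.Modules) [G.IsQuasicoherent]
    (x : X) (hflat : (h.stalkMap x).hom.Flat) :
    FlatMod.IsFlatOverAt q G (h.base x) ↔
      FlatMod.IsFlatOverAt (h ≫ q) ((Scheme.Modules.pullback h).obj G) x := by
  set H := (Scheme.Modules.pullback h).obj G with hH
  letI aΛR : Algebra (S.presheaf.stalk (q.base (h.base x))) (Y.presheaf.stalk (h.base x)) :=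
    (q.stalkMap (h.base x)).hom.toAlgebra
  letI aRS : Algebra (Y.presheaf.stalk (h.base x)) (X.presheaf.stalk x) :=
    (h.stalkMap x).hom.toAlgebra
  letI aΛS : Algebra (S.presheaf.stalk (q.base (h.base x))) (X.presheaf.stalk x) :=
    ((h ≫ q).stalkMap x).hom.toAlgebra
  haveI tow : IsScalarTower (S.presheaf.stalk (q.base (h.base x))) (Y.presheaf.stalk (h.base x))
      (X.presheaf.stalk x) := by
    refine IsScalarTower.of_algebraMap_eq (fun b => ?_)
    change ((h ≫ q).stalkMap x).hom b = (h.stalkMap x).hom ((q.stalkMap (h.base x)).hom b)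
    rw [Scheme.Hom.stalkMap_comp]
    rfl
  haveI fl : Module.Flat (Y.presheaf.stalk (h.base x)) (X.presheaf.stalk x) := hflat
  haveI : IsLocalHom (algebraMap (Y.presheaf.stalk (h.base x)) (X.presheaf.stalk x)) :=
    inferInstanceAs (IsLocalHom (h.stalkMap x).hom)
  haveI ffl : Module.FaithfullyFlat (Y.presheaf.stalk (h.base x)) (X.presheaf.stalk x) :=
    Module.FaithfullyFlat.of_flat_of_isLocalHom
  letI mΛP : Module (S.presheaf.stalk (q.base (h.base x))) (G.presheaf.stalk (h.base x)) :=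
    FlatMod.moduleStalkOver q G (h.base x)
  haveI tP : IsScalarTower (S.presheaf.stalk (q.base (h.base x))) (Y.presheaf.stalk (h.base x))
      (G.presheaf.stalk (h.base x)) := IsScalarTower.of_algebraMap_smul (fun b n => rfl)
  letI mΛQ : Module (S.presheaf.stalk (q.base (h.base x))) (H.presheaf.stalk x) :=
    FlatMod.moduleStalkOver (h ≫ q) H x
  haveI tQ : IsScalarTower (S.presheaf.stalk (q.base (h.base x))) (X.presheaf.stalk x)
      (H.presheaf.stalk x) := IsScalarTower.of_algebraMap_smul (fun b n => rfl)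
  obtain ⟨T⟩ := nonempty_stalk_linearEquiv h G x
  have e1 : FlatMod.IsFlatOverAt q G (h.base x) ↔
      Module.Flat (S.presheaf.stalk (q.base (h.base x))) (G.presheaf.stalk (h.base x)) := Iff.rfl
  have e2 : FlatMod.IsFlatOverAt (h ≫ q) H x ↔
      Module.Flat (S.presheaf.stalk (q.base (h.base x))) (H.presheaf.stalk x) := Iff.rfl
  rw [e1, e2]
  constructor
  · intro hP
    haveI := flat_tensor_of_flat (Λ := S.presheaf.stalk (q.base (h.base x)))
      (R := Y.presheaf.stalk (h.base x)) (S := X.presheaf.stalk x)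
      (P := G.presheaf.stalk (h.base x))
    exact Module.Flat.of_linearEquiv
      (T.restrictScalars (S.presheaf.stalk (q.base (h.base x)))).symm
  · intro hQ
    haveI : Module.Flat (S.presheaf.stalk (q.base (h.base x)))
        ((X.presheaf.stalk x) ⊗[Y.presheaf.stalk (h.base x)] (G.presheaf.stalk (h.base x))) :=
      Module.Flat.of_linearEquiv (T.restrictScalars (S.presheaf.stalk (q.base (h.base x))))
    exact flat_of_flat_tensor (Λ := S.presheaf.stalk (q.base (h.base x)))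
      (R := Y.presheaf.stalk (h.base x)) (S := X.presheaf.stalk x)
      (P := G.presheaf.stalk (h.base x))

end flatness

end Groth.Agent.Lib.Helper2.PullbackSec
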