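import Mathlib
import Groth.Prelude.Def_FlatMod2
import Groth.Agent.Lib.Helper2FPAff
import Groth.Agent.Lib.Helper2PullbackSec2

/-!
# Finite type / finite presentation and pushforward along finite morphisms (helper2)

Namespace `Groth.Agent.Lib.Helper2.FinPushFP`.

* `finite_iff_of_finite`, `finitePresentation_iff_of_finite`: for a finite (resp. finite and finitely presented as a
  module) `A`-algebra `B` and a `B`-module `N`: `N` finite / f.p. over `B` iff over `A`.
* `finite_sections_pushforward_iff`, `finitePresentation_sections_pushforward_iff`.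
* `isFinitePresentation_of_finitePresentation_sections`: f.p. sections over an affine open cover give `IsFinitePresentation`.
* **`isFiniteType_pushforward_iff`**, **`isFinitePresentation_pushforward_iff`**.
-/

set_option autoImplicit false
set_option linter.style.haveILetI false
universe u
open CategoryTheory Limits AlgebraicGeometry TopologicalSpace Opposite TensorProduct

namespace Groth.Agent.Lib.Helper2.FinPushFP

open Groth.Agent.Lib.Helper23.FinType Groth.Agent.Lib.Helper23.QCohLocal Groth.Agent.Lib.Helper2.FPAff

section alg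
variable {A B N : Type*} [CommRing A] [CommRing B] [Algebra A B] [AddCommGroup N] [Module A N]
  [Module B N] [IsScalarTower A B N]

theorem finite_iff_of_finite [Module.Finite A B] : Module.Finite B N ↔ Module.Finite A N :=
  ⟨fun _ => Module.Finite.trans B N, fun _ => Module.Finite.of_restrictScalars_finite A B N⟩

theorem finitePresentation_iff_of_finite [Module.Finite A B] [Module.FinitePresentation A B] :
    Module.FinitePresentation B N ↔ Module.FinitePresentation A N := by
  constructor
  · intro _
    exact Module.FinitePresentation.trans A N B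
  · intro _
    haveI : Module.Finite B N := Module.Finite.of_restrictScalars_finite A B N
    obtain ⟨n, g, hg⟩ := Module.Finite.exists_fin' B N
    refine Module.finitePresentation_of_free_of_surjective g hg ?_
    have h1 : (LinearMap.ker (g.restrictScalars A)).FG :=
      Module.FinitePresentation.fg_ker (g.restrictScalars A) hg
    rw [LinearMap.ker_restrictScalars] at h1
    exact Submodule.FG.of_restrictScalars A h1

end alg

section geom
variable {X Y : Scheme.{u}} (f : X ⟶ Y) [IsFinite f] (F : X.Modules)

theorem finite_sections_pushforward_iff {V : Y.Opens} (hV : IsAffineOpen V) :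
    Module.Finite Γ(Y, V) Γ((Scheme.Modules.pushforward f).obj F, V) ↔
      Module.Finite Γ(X, f ⁻¹ᵁ V) Γ(F, f ⁻¹ᵁ V) := by
  letI : Algebra Γ(Y, V) Γ(X, f ⁻¹ᵁ V) := (f.app V).hom.toAlgebra
  haveI : Module.Finite Γ(Y, V) Γ(X, f ⁻¹ᵁ V) := f.finite_app V hV
  letI : Module Γ(X, f ⁻¹ᵁ V) Γ((Scheme.Modules.pushforward f).obj F, V) :=
    (inferInstance : Module Γ(X, f ⁻¹ᵁ V) Γ(F, f ⁻¹ᵁ V))
  haveI : IsScalarTower Γ(Y, V) Γ(X, f ⁻¹ᵁ V) Γ((Scheme.Modules.pushforward f).obj F, V) := by
    refine ⟨fun a b t => ?_⟩
    change ((f.app V).hom a * b) • (show Γ(F, f ⁻¹ᵁ V) from t) =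
      (f.app V).hom a • (b • (show Γ(F, f ⁻¹ᵁ V) from t))
    rw [mul_smul]
  exact (finite_iff_of_finite (A := Γ(Y, V)) (B := Γ(X, f ⁻¹ᵁ V))
    (N := Γ((Scheme.Modules.pushforward f).obj F, V))).symm

theorem finitePresentation_sections_pushforward_iff [LocallyOfFinitePresentation f] {V : Y.Opens}
    (hV : IsAffineOpen V) :
    Module.FinitePresentation Γ(Y, V) Γ((Scheme.Modules.pushforward f).obj F, V) ↔
      Module.FinitePresentation Γ(X, f ⁻¹ᵁ V) Γ(F, f ⁻¹ᵁ V) := by
  letI : Algebra Γ(Y, V) Γ(X, f ⁻¹ᵁ V) := (f.app V).hom.toAlgebra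
  haveI : Module.Finite Γ(Y, V) Γ(X, f ⁻¹ᵁ V) := f.finite_app V hV
  haveI : Algebra.FinitePresentation Γ(Y, V) Γ(X, f ⁻¹ᵁ V) := by
    have h := f.finitePresentation_appLE hV (hV.preimage f) le_rfl
    rw [← Scheme.Hom.app_eq_appLE] at h
    exact h
  haveI : Module.FinitePresentation Γ(Y, V) Γ(X, f ⁻¹ᵁ V) :=
    Module.FinitePresentation.of_finite_of_finitePresentation _ _
  letI : Module Γ(X, f ⁻¹ᵁ V) Γ((Scheme.Modules.pushforward f).obj F, V) :=
    (inferInstance : Module Γ(X, f ⁻¹ᵁ V) Γ(F, f ⁻¹ᵁ V))
  haveI : IsScalarTower Γ(Y, V) Γ(X, f ⁻¹ᵁ V) Γ((Scheme.Modules.pushforward f).obj F, V) := by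
    refine ⟨fun a b t => ?_⟩
    change ((f.app V).hom a * b) • (show Γ(F, f ⁻¹ᵁ V) from t) =
      (f.app V).hom a • (b • (show Γ(F, f ⁻¹ᵁ V) from t))
    rw [mul_smul]
  exact (finitePresentation_iff_of_finite (A := Γ(Y, V)) (B := Γ(X, f ⁻¹ᵁ V))
    (N := Γ((Scheme.Modules.pushforward f).obj F, V))).symm

/-- finite presentation from finitely presented sections over an affine open cover. -/
theorem isFinitePresentation_of_finitePresentation_sections {X : Scheme.{u}} (M : X.Modules)
    [M.IsQuasicoherent] {ι : Type u} (V : ι → X.Opens) (hV : IsOpenCover V)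
    (hVa : ∀ i, IsAffineOpen (V i)) (h : ∀ i, Module.FinitePresentation Γ(X, V i) Γ(M, V i)) :
    SheafOfModules.IsFinitePresentation (R := X.ringCatSheaf) M := by
  refine isFinitePresentation_of_finitePresentation_ΓU M V hV hVa (fun i => ?_)
  obtain ⟨ε, hε⟩ := Groth.Agent.Lib.Helper2.PullbackSec.exists_addEquiv_ΓU M (hVa i)
  haveI := h i
  exact finitePresentation_of_semilinear (RingHom.id _) Function.bijective_id ε hε

omit [IsFinite f] in
theorem preimage_affineOpens_isOpenCover :
    IsOpenCover (fun V : Y.affineOpens => f ⁻¹ᵁ V.1) := by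
  rw [IsOpenCover, eq_top_iff]
  intro x _
  have hx : f x ∈ (⨆ V : Y.affineOpens, (V : Y.Opens)) := by
    rw [iSup_affineOpens_eq_top Y]; trivial
  obtain ⟨V, hV⟩ := Opens.mem_iSup.1 hx
  exact Opens.mem_iSup.2 ⟨V, hV⟩

/-- for a finite morphism, `F` is of finite type iff `f_* F` is. -/
theorem isFiniteType_pushforward_iff [F.IsQuasicoherent] :
    SheafOfModules.IsFiniteType (R := X.ringCatSheaf) F ↔
      SheafOfModules.IsFiniteType (R := Y.ringCatSheaf) ((Scheme.Modules.pushforward f).obj F) := by
  haveI : ((Scheme.Modules.pushforward f).obj F).IsQuasicoherent := isQuasicoherent_pushforward f F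
  constructor
  · intro h
    rw [isFiniteType_iff_forall_affine]
    intro V hV
    rw [finite_sections_pushforward_iff f F hV]
    exact finite_of_isFiniteType F (hV.preimage f)
  · intro h
    refine isFiniteType_of_finite F (fun V : Y.affineOpens => f ⁻¹ᵁ V.1)
      (preimage_affineOpens_isOpenCover f) (fun V => V.2.preimage f) (fun V => ?_)
    rw [← finite_sections_pushforward_iff f F V.2]
    exact finite_of_isFiniteType _ V.2

/-- for a finite morphism locally of finite presentation, `F` is of finite presentation iff `f_* F` is. -/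
theorem isFinitePresentation_pushforward_iff [LocallyOfFinitePresentation f] [F.IsQuasicoherent] :
    SheafOfModules.IsFinitePresentation (R := X.ringCatSheaf) F ↔
      SheafOfModules.IsFinitePresentation (R := Y.ringCatSheaf)
        ((Scheme.Modules.pushforward f).obj F) := by
  haveI : ((Scheme.Modules.pushforward f).obj F).IsQuasicoherent := isQuasicoherent_pushforward f F
  constructor
  · intro h
    refine isFinitePresentation_of_finitePresentation_sections _ (fun V : Y.affineOpens => V.1)
      (iSup_affineOpens_eq_top Y) (fun V => V.2) (fun V => ?_)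
    rw [finitePresentation_sections_pushforward_iff f F V.2]
    exact finitePresentation_sections F (V.2.preimage f)
  · intro h
    refine isFinitePresentation_of_finitePresentation_sections F (fun V : Y.affineOpens => f ⁻¹ᵁ V.1)
      (preimage_affineOpens_isOpenCover f) (fun V => V.2.preimage f) (fun V => ?_)
    rw [← finitePresentation_sections_pushforward_iff f F V.2]
    exact finitePresentation_sections _ V.2

end geom

end Groth.Agent.Lib.Helper2.FinPushFP
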