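import Mathlib

/-!
# Cancellation of base change along a pushout square (helper13; pure Mathlib)

* `bijective_of_isBaseChange`: if `C' = R' ⊗_R C`, `Q` is the base change of `M` along `R → R'` and `Q'` the
  base change of the `C`-module `M` along `C → C'`, then the comparison map `Q → Q'` is bijective.
* `isBaseChange_of_existsUnique`: `IsBaseChange` from the universal property for additive groups.
* `bijective_of_lifts`: the same in unbundled (semilinear) form.
-/

set_option autoImplicit false
set_option linter.style.haveILetI false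

namespace Groth.Agent.Helper13BCAlg

universe u

open TensorProduct CategoryTheory CategoryTheory.Limits



section mathlibStyle

variable {R R' C C' : Type u} [CommRing R] [CommRing R'] [CommRing C] [CommRing C']
  [Algebra R R'] [Algebra R C] [Algebra R C'] [Algebra R' C'] [Algebra C C']
  [IsScalarTower R R' C'] [IsScalarTower R C C'] [Algebra.IsPushout R R' C C']
  {M Q Q' : Type u} [AddCommGroup M] [Module R M] [Module C M] [IsScalarTower R C M]
  [AddCommGroup Q] [Module R Q] [Module R' Q] [IsScalarTower R R' Q]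
  [AddCommGroup Q'] [Module C Q'] [Module C' Q'] [IsScalarTower C C' Q']
  [Module R' Q'] [IsScalarTower R' C' Q']

theorem bijective_of_isBaseChange (φ : M →ₗ[R] Q) (hφ : IsBaseChange R' φ)
    (φ' : M →ₗ[C] Q') (hφ' : IsBaseChange C' φ')
    (β : Q →ₗ[R'] Q') (hβ : ∀ m, β (φ m) = φ' m) : Function.Bijective β := by
  let k := Algebra.IsPushout.cancelBaseChange R R' C C' M
  let γ : Q →ₗ[R'] Q' :=
    ((hφ'.equiv.restrictScalars R').toLinearMap.comp k.symm.toLinearMap).comp hφ.equiv.symm.toLinearMap
  have hγ : β = γ := by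
    refine hφ.algHom_ext β γ fun m => ?_
    rw [hβ]
    simp only [γ, LinearMap.coe_comp, LinearEquiv.coe_coe, Function.comp_apply, k,
      hφ.equiv_symm_apply, Algebra.IsPushout.cancelBaseChange_symm_tmul, map_one,
      LinearEquiv.restrictScalars_apply, hφ'.equiv_tmul, one_smul]
  rw [hγ]
  exact ((hφ'.equiv.restrictScalars R').bijective.comp k.symm.bijective).comp hφ.equiv.symm.bijective

end mathlibStyle



theorem isBaseChange_of_existsUnique {R R' : Type u} [CommRing R] [CommRing R'] [Algebra R R']
    {M Q : Type u} [AddCommGroup M] [Module R M] [AddCommGroup Q] [Module R Q] [Module R' Q]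
    [IsScalarTower R R' Q] (φ : M →ₗ[R] Q)
    (huniv : ∀ (N : Type u) [AddCommGroup N] [Module R' N] (l : M →+ N),
      (∀ (r : R) (m : M), l (r • m) = algebraMap R R' r • l m) →
        ∃! l' : Q →ₗ[R'] N, ∀ m, l' (φ m) = l m) :
    IsBaseChange R' φ := by
  apply IsBaseChange.of_lift_unique
  intro N _ _ _ _ g
  letI iG : AddCommGroup N := Module.addCommMonoidToAddCommGroup R'
  obtain ⟨l', h1, h2⟩ := @huniv N iG _ g.toAddMonoidHom (fun r m => by
    change g (r • m) = algebraMap R R' r • g m
    rw [g.map_smul, algebraMap_smul])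
  refine ⟨l', ?_, fun l'' hl'' => ?_⟩
  · ext m
    exact h1 m
  · apply h2
    intro m
    exact LinearMap.congr_fun hl'' m



/-- cancellation of base change along a pushout square, in unbundled (semilinear) form. -/
theorem bijective_of_lifts {R R' C C' : Type u} [CommRing R] [CommRing R'] [CommRing C] [CommRing C']
    (a : R →+* R') (b : R →+* C) (a' : C →+* C') (b' : R' →+* C')
    (hpo : IsPushout (CommRingCat.ofHom a) (CommRingCat.ofHom b) (CommRingCat.ofHom b')
      (CommRingCat.ofHom a'))
    {M Q Q' : Type u} [AddCommGroup M] [Module C M] [AddCommGroup Q] [Module R' Q]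
    [AddCommGroup Q'] [Module C' Q']
    (φ : M →+ Q) (hφ : ∀ (r : R) (m : M), φ (b r • m) = a r • φ m)
    (Uφ : ∀ (N : Type u) [AddCommGroup N] [Module R' N] (l : M →+ N),
      (∀ (r : R) (m : M), l (b r • m) = a r • l m) → ∃! l' : Q →ₗ[R'] N, ∀ m, l' (φ m) = l m)
    (φ' : M →+ Q') (hφ' : ∀ (c : C) (m : M), φ' (c • m) = a' c • φ' m)
    (Uφ' : ∀ (N : Type u) [AddCommGroup N] [Module C' N] (l : M →+ N),
      (∀ (c : C) (m : M), l (c • m) = a' c • l m) → ∃! l' : Q' →ₗ[C'] N, ∀ m, l' (φ' m) = l m)
    (β : Q →+ Q') (hβ : ∀ (r' : R') (q : Q), β (r' • q) = b' r' • β q)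
    (hβφ : ∀ m, β (φ m) = φ' m) : Function.Bijective β := by
  have hcomm : ∀ r : R, b' (a r) = a' (b r) := fun r =>
    congrArg (fun t : CommRingCat.of R ⟶ CommRingCat.of C' => t.hom r) hpo.w
  letI : Algebra R R' := a.toAlgebra
  letI : Algebra R C := b.toAlgebra
  letI : Algebra C C' := a'.toAlgebra
  letI : Algebra R' C' := b'.toAlgebra
  letI : Algebra R C' := (b'.comp a).toAlgebra
  haveI : IsScalarTower R R' C' := IsScalarTower.of_algebraMap_eq (fun r => rfl)
  haveI : IsScalarTower R C C' := IsScalarTower.of_algebraMap_eq (fun r => hcomm r)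
  haveI : Algebra.IsPushout R R' C C' := CommRingCat.isPushout_iff_isPushout.1 hpo
  letI : Module R M := Module.compHom M b
  haveI : IsScalarTower R C M := ⟨fun r c m => by
    change (b r * c) • m = b r • (c • m)
    rw [mul_smul]⟩
  letI : Module R Q := Module.compHom Q a
  haveI : IsScalarTower R R' Q := ⟨fun r c m => by
    change (a r * c) • m = a r • (c • m)
    rw [mul_smul]⟩
  letI : Module C Q' := Module.compHom Q' a'
  haveI : IsScalarTower C C' Q' := ⟨fun r c m => by
    change (a' r * c) • m = a' r • (c • m)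
    rw [mul_smul]⟩
  letI : Module R' Q' := Module.compHom Q' b'
  haveI : IsScalarTower R' C' Q' := ⟨fun r c m => by
    change (b' r * c) • m = b' r • (c • m)
    rw [mul_smul]⟩
  let φl : M →ₗ[R] Q := { toFun := φ, map_add' := φ.map_add, map_smul' := fun r m => hφ r m }
  let φl' : M →ₗ[C] Q' := { toFun := φ', map_add' := φ'.map_add, map_smul' := fun c m => hφ' c m }
  let βl : Q →ₗ[R'] Q' := { toFun := β, map_add' := β.map_add, map_smul' := fun r q => hβ r q }
  have h1 : IsBaseChange R' φl := isBaseChange_of_existsUnique φl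
    (fun N _ _ l hl => Uφ N l hl)
  have h2 : IsBaseChange C' φl' := isBaseChange_of_existsUnique φl'
    (fun N _ _ l hl => Uφ' N l hl)
  exact bijective_of_isBaseChange φl h1 φl' h2 βl hβφ

end Groth.Agent.Helper13BCAlg
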