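import Mathlib
import Groth.Agent.Lib.Helper2QCoh
import Groth.Agent.Lib.Helper2PullbackSec

/-!
# Sections of a pull-back module over affine opens, compatibly with the adjunction unit (helper13)

Namespace `Groth.Agent.Helper13PullbackUnit`.

* `hom_ext_top`, `exists_hom_of_top`: maps out of a quasi-coherent module on `Spec R` are the same as
  `R`-linear maps on global sections.
* `hom_ext_of_app_eq`, `exists_hom_of_app`: for `V ⊆ X` affine, `H` quasi-coherent and `G` a module with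
  `G(W) ≅ G(W ∩ V)` for all `W`, maps `H ⟶ G` are the same as `Γ(X,V)`-linear maps `Γ(H,V) → Γ(G,V)`.
* `unitSec f F hle : Γ(F, V) →+ Γ(f^*F, U)` (unit of adjunction followed by restriction), `unitSec_smul`.
* `exists_lift`, `lift_unique`, `existsUnique_lift`: `unitSec` exhibits `Γ(f^*F, U)` as the base change
  of `Γ(F, V)` along `Γ(X, V) → Γ(Y, U)` (for `F` quasi-coherent, `V`, `U ≤ f⁻¹V` affine).
-/

set_option autoImplicit false
set_option linter.style.haveILetI false
universe u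
open CategoryTheory CategoryTheory.Limits AlgebraicGeometry Opposite TopologicalSpace

namespace Groth.Agent.Helper13PullbackUnit

open Groth.Agent.Lib.Helper2.QCoh

section affine
variable {R : CommRingCat.{u}} (H G : (Spec R).Modules) [H.IsQuasicoherent]

theorem moduleSpecΓ_map_injective (ψ₁ ψ₂ : H ⟶ G)
    (h : moduleSpecΓFunctor.map ψ₁ = moduleSpecΓFunctor.map ψ₂) : ψ₁ = ψ₂ := by
  haveI : IsIso (tilde.adjunction.counit.app H) := (inferInstance : IsIso H.fromTildeΓ)
  have n1 := tilde.adjunction.counit.naturality ψ₁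
  have n2 := tilde.adjunction.counit.naturality ψ₂
  simp only [Functor.comp_obj, Functor.id_obj, Functor.comp_map, Functor.id_map] at n1 n2
  rw [h] at n1
  rw [n1] at n2
  exact (cancel_epi _).1 n2

theorem moduleSpecΓ_map_surjective (l : moduleSpecΓFunctor.obj H ⟶ moduleSpecΓFunctor.obj G) :
    ∃ ψ : H ⟶ G, moduleSpecΓFunctor.map ψ = l := by
  haveI : IsIso (tilde.adjunction.counit.app H) := (inferInstance : IsIso H.fromTildeΓ)
  refine ⟨inv (tilde.adjunction.counit.app H) ≫ (tilde.functor R).map l ≫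
    tilde.adjunction.counit.app G, ?_⟩
  have t1 := tilde.adjunction.right_triangle_components H
  have t2 := tilde.adjunction.right_triangle_components G
  have hinv : moduleSpecΓFunctor.map (inv (tilde.adjunction.counit.app H)) =
      tilde.adjunction.unit.app (moduleSpecΓFunctor.obj H) := by
    rw [Functor.map_inv]
    exact (IsIso.inv_eq_of_inv_hom_id t1)
  rw [Functor.map_comp, Functor.map_comp, hinv]
  have n := tilde.adjunction.unit.naturality l
  simp only [Functor.comp_obj, Functor.id_obj, Functor.comp_map, Functor.id_map] at n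
  rw [← Category.assoc, ← n, Category.assoc, t2, Category.comp_id]

end affine

section affine
variable {R : CommRingCat.{u}} (H G : (Spec R).Modules) [H.IsQuasicoherent]

theorem moduleSpecΓ_map_apply (ψ : H ⟶ G) (x : Γ(H, ⊤)) :
    (moduleSpecΓFunctor.map ψ).hom x = ψ.app ⊤ x := rfl

theorem hom_ext_top (ψ₁ ψ₂ : H ⟶ G) (h : ∀ x : Γ(H, ⊤), ψ₁.app ⊤ x = ψ₂.app ⊤ x) : ψ₁ = ψ₂ := by
  apply moduleSpecΓ_map_injective
  ext x
  exact h x

noncomputable def linOfAdd (l : Γ(H, ⊤) →+ Γ(G, ⊤)) (hl : ∀ (r : R) (x : Γ(H, ⊤)), l (r • x) = r • l x) :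
    (moduleSpecΓFunctor (R := R)).obj H ⟶ (moduleSpecΓFunctor (R := R)).obj G :=
  ModuleCat.ofHom (R := R) (X := Γ(H, ⊤)) (Y := Γ(G, ⊤))
    { toFun := fun x => l x, map_add' := fun x y => l.map_add x y,
      map_smul' := fun r x => hl r x }

theorem exists_hom_of_top (l : Γ(H, ⊤) →+ Γ(G, ⊤)) (hl : ∀ (r : R) (x : Γ(H, ⊤)), l (r • x) = r • l x) :
    ∃ ψ : H ⟶ G, ∀ x : Γ(H, ⊤), ψ.app ⊤ x = l x := by
  obtain ⟨ψ, hψ⟩ := moduleSpecΓ_map_surjective H G (linOfAdd H G l hl)
  refine ⟨ψ, fun x => ?_⟩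
  rw [← moduleSpecΓ_map_apply, hψ]
  rfl

end affine

section scheme
variable {X : Scheme.{u}} {V : X.Opens} (hV : IsAffineOpen V) (H G : X.Modules) [H.IsQuasicoherent]

theorem restrict_map_app (ψ : H ⟶ G) (W : (Spec Γ(X, V)).Opens) :
    ((Scheme.Modules.restrictFunctor hV.fromSpec).map ψ).app W = ψ.app (hV.fromSpec ''ᵁ W) := rfl

theorem image_top_eq : hV.fromSpec ''ᵁ ⊤ = V := by
  rw [Scheme.Hom.image_top_eq_opensRange, hV.opensRange_fromSpec]

/-- maps out of a quasi-coherent module into a module `G` "supported on `V`" are determined on `V`. -/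
theorem hom_ext_of_app_eq
    (hG : ∀ W : X.Opens, Function.Injective
      (G.presheaf.map (homOfLE (hV.fromSpec.image_preimage_le W)).op))
    (ψ₁ ψ₂ : H ⟶ G) (h : ∀ x : Γ(H, V), ψ₁.app V x = ψ₂.app V x) : ψ₁ = ψ₂ := by
  have h1 : ∀ (W₁ : X.Opens) (_ : W₁ = V) (x : Γ(H, W₁)), ψ₁.app W₁ x = ψ₂.app W₁ x := by
    intro W₁ hW₁
    subst hW₁
    exact h
  have h2 : (Scheme.Modules.restrictFunctor hV.fromSpec).map ψ₁ =
      (Scheme.Modules.restrictFunctor hV.fromSpec).map ψ₂ := by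
    apply hom_ext_top
    intro x
    exact h1 _ (image_top_eq hV) x
  refine Scheme.Modules.hom_ext _ _ fun W => ?_
  ext x
  apply hG W
  have n1 := ψ₁.mapPresheaf.naturality (homOfLE (hV.fromSpec.image_preimage_le W)).op
  have n2 := ψ₂.mapPresheaf.naturality (homOfLE (hV.fromSpec.image_preimage_le W)).op
  have e1 := CategoryTheory.congr_fun n1 x
  have e2 := CategoryTheory.congr_fun n2 x
  simp only [Scheme.Modules.mapPresheaf_app, ConcreteCategory.comp_apply] at e1 e2
  erw [← e1, ← e2]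
  have h3 := congrArg (fun φ => φ.app (hV.fromSpec ⁻¹ᵁ W)) h2
  simp only [restrict_map_app] at h3
  exact CategoryTheory.congr_fun h3 _

end scheme

section scheme
variable {X : Scheme.{u}} {V : X.Opens} (hV : IsAffineOpen V) (H G : X.Modules) [H.IsQuasicoherent]

theorem isIso_unit_of_bijective
    (hG : ∀ W : X.Opens, Function.Bijective
      (G.presheaf.map (homOfLE (hV.fromSpec.image_preimage_le W)).op)) :
    IsIso ((Scheme.Modules.restrictAdjunction hV.fromSpec).unit.app G) := by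
  rw [Scheme.Modules.Hom.isIso_iff_isIso_app]
  intro W
  have : IsIso (G.presheaf.map (homOfLE (hV.fromSpec.image_preimage_le W)).op) :=
    (ConcreteCategory.isIso_iff_bijective _).2 (hG W)
  exact this

theorem exists_hom_aux
    (hG : ∀ W : X.Opens, Function.Bijective
      (G.presheaf.map (homOfLE (hV.fromSpec.image_preimage_le W)).op))
    (W₁ : X.Opens) (h₁ : W₁ = hV.fromSpec ''ᵁ ⊤) (hle : W₁ ≤ V)
    (l : Γ(H, W₁) →+ Γ(G, W₁))
    (hl : ∀ (r : Γ(X, V)) (x : Γ(H, W₁)), l (X.presheaf.map (homOfLE hle).op r • x) =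
      X.presheaf.map (homOfLE hle).op r • l x) :
    ∃ ψ : H ⟶ G, ∀ x : Γ(H, W₁), ψ.app W₁ x = l x := by
  subst h₁
  haveI : (H.restrict hV.fromSpec).IsQuasicoherent :=
    Scheme.Modules.isQuasicoherent_restrictFunctor hV.fromSpec H
  obtain ⟨ψ', hψ'⟩ := exists_hom_of_top (H.restrict hV.fromSpec) (G.restrict hV.fromSpec) l
    (fun r x => by
      have e1 := restrict_fromSpec_smul hV H ⊤ r x
      have e2 := restrict_fromSpec_smul hV G ⊤ r (l x)
      exact (congrArg l e1).trans ((hl r x).trans e2.symm))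
  haveI := isIso_unit_of_bijective hV G hG
  refine ⟨(Scheme.Modules.restrictAdjunction hV.fromSpec).homEquiv H (G.restrict hV.fromSpec) ψ' ≫
    inv ((Scheme.Modules.restrictAdjunction hV.fromSpec).unit.app G), fun x => ?_⟩
  rw [Adjunction.homEquiv_unit]
  apply (hG _).1
  have key : (((Scheme.Modules.restrictAdjunction hV.fromSpec).unit.app H ≫
      (Scheme.Modules.pushforward hV.fromSpec).map ψ') ≫
      inv ((Scheme.Modules.restrictAdjunction hV.fromSpec).unit.app G)) ≫
      (Scheme.Modules.restrictAdjunction hV.fromSpec).unit.app G =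
      (Scheme.Modules.restrictAdjunction hV.fromSpec).unit.app H ≫
      (Scheme.Modules.pushforward hV.fromSpec).map ψ' := by
    rw [Category.assoc, IsIso.inv_hom_id, Category.comp_id]
  have k1 := CategoryTheory.congr_fun
    (congrArg (fun φ => φ.app (hV.fromSpec ''ᵁ ⊤)) key) x
  simp only [Scheme.Modules.Hom.comp_app, ConcreteCategory.comp_apply] at k1
  refine k1.trans ?_
  have n := ψ'.mapPresheaf.naturality
    (homOfLE (le_top : hV.fromSpec ⁻¹ᵁ (hV.fromSpec ''ᵁ ⊤) ≤ ⊤)).op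
  refine Eq.trans ?_ (congrArg (G.presheaf.map (homOfLE (hV.fromSpec.image_preimage_le
    (hV.fromSpec ''ᵁ ⊤))).op) (hψ' x))
  exact CategoryTheory.congr_fun n x

include hV in
theorem exists_hom_of_app
    (hG : ∀ W : X.Opens, Function.Bijective
      (G.presheaf.map (homOfLE (hV.fromSpec.image_preimage_le W)).op))
    (l : Γ(H, V) →+ Γ(G, V))
    (hl : ∀ (r : Γ(X, V)) (x : Γ(H, V)), l (r • x) = r • l x) :
    ∃ ψ : H ⟶ G, ∀ x : Γ(H, V), ψ.app V x = l x := by
  refine exists_hom_aux hV H G hG V (image_top_eq hV).symm le_rfl l fun r x => ?_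
  have : X.presheaf.map (homOfLE (le_refl V)).op r = r := by
    have h0 : (homOfLE (le_refl V)).op = 𝟙 (op V) := rfl
    rw [h0, X.presheaf.map_id]
    rfl
  rw [this]
  exact hl r x

end scheme

section pushSpec
variable {Y : Scheme.{u}} {U : Y.Opens} (hU : IsAffineOpen U) (G' : (Spec Γ(Y, U)).Modules)

theorem map_bijective_of_eq {T : Scheme.{u}} (M : T.Modules) {A B : T.Opens} (h : A = B) (i : A ⟶ B) :
    Function.Bijective (M.presheaf.map i.op) := by
  subst h
  have : i = 𝟙 A := Subsingleton.elim _ _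
  rw [this, op_id, M.presheaf.map_id]
  exact Function.bijective_id

/-- scalar multiplication on the push-forward of a module from `Spec Γ(Y, U)` -/
theorem pushforward_fromSpec_smul (W : Y.Opens) (hUW : U ≤ W) (r : Γ(Y, W))
    (y : Γ((Scheme.Modules.pushforward hU.fromSpec).obj G', W)) :
    r • y = ((Y.presheaf.map (homOfLE hUW).op r : Γ(Y, U)) • (show Γ(G', hU.fromSpec ⁻¹ᵁ W) from y) :
      Γ(G', hU.fromSpec ⁻¹ᵁ W)) := by
  rw [Scheme.Modules.smul_Spec_def]
  have h1 := hU.fromSpec_app_of_le W hUW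
  have h2 : (r • y : Γ((Scheme.Modules.pushforward hU.fromSpec).obj G', W)) =
    ((hU.fromSpec.app W r) • (show Γ(G', hU.fromSpec ⁻¹ᵁ W) from y) : Γ(G', hU.fromSpec ⁻¹ᵁ W)) := rfl
  rw [h2, h1]
  rfl

end pushSpec

section core
variable {X Y : Scheme.{u}} (f : Y ⟶ X) (F : X.Modules)
  {V : X.Opens} {U : Y.Opens} (hle : U ≤ f ⁻¹ᵁ V)

/-- the canonical map `Γ(F, V) → Γ(f^*F, U)` for `U ≤ f⁻¹ V`: the adjunction unit followed by restriction. -/
noncomputable def unitSec : Γ(F, V) →+ Γ((Scheme.Modules.pullback f).obj F, U) :=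
  (((Scheme.Modules.pullback f).obj F).presheaf.map (homOfLE hle).op).hom.comp
    (((Scheme.Modules.pullbackPushforwardAdjunction f).unit.app F).app V).hom

theorem unitSec_apply (x : Γ(F, V)) :
    unitSec f F hle x = ((Scheme.Modules.pullback f).obj F).presheaf.map (homOfLE hle).op
      (((Scheme.Modules.pullbackPushforwardAdjunction f).unit.app F).app V x) := rfl

theorem pushforward_smul {M : Y.Modules} (W : X.Opens) (r : Γ(X, W))
    (y : Γ((Scheme.Modules.pushforward f).obj M, W)) :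
    r • y = ((f.app W r) • (show Γ(M, f ⁻¹ᵁ W) from y) : Γ(M, f ⁻¹ᵁ W)) := rfl

theorem unitSec_smul (r : Γ(X, V)) (x : Γ(F, V)) :
    unitSec f F hle (r • x) = (f.appLE V U hle r) • unitSec f F hle x := by
  rw [unitSec_apply, unitSec_apply, Scheme.Modules.Hom.app_smul, pushforward_smul]
  erw [Scheme.Modules.map_smul]
  rfl

end core

section core
variable {X Y : Scheme.{u}} (f : Y ⟶ X) (F : X.Modules)
  {V : X.Opens} (hV : IsAffineOpen V) {U : Y.Opens} (hU : IsAffineOpen U) (hle : U ≤ f ⁻¹ᵁ V)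
  (G' : (Spec Γ(Y, U)).Modules)

include hle in
theorem preimage_preimage_eq_top : hU.fromSpec ⁻¹ᵁ (f ⁻¹ᵁ V) = ⊤ := by
  rw [eq_top_iff, ← hU.fromSpec_preimage_self]
  exact hU.fromSpec.preimage_mono hle

theorem bijective_GY (W : Y.Opens) : Function.Bijective
    (((Scheme.Modules.pushforward hU.fromSpec).obj G').presheaf.map
      (homOfLE (hU.fromSpec.image_preimage_le W)).op) :=
  map_bijective_of_eq G' (hU.fromSpec.preimage_image_eq _) _

include hle in
theorem bijective_GX (W : X.Opens) : Function.Bijective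
    (((Scheme.Modules.pushforward f).obj ((Scheme.Modules.pushforward hU.fromSpec).obj G')).presheaf.map
      (homOfLE (hV.fromSpec.image_preimage_le W)).op) := by
  refine map_bijective_of_eq G' ?_ _
  refine le_antisymm (hU.fromSpec.preimage_mono (f.preimage_mono (hV.fromSpec.image_preimage_le W))) ?_
  intro z hz
  have hzV : f (hU.fromSpec z) ∈ V := by
    have : hU.fromSpec z ∈ U := by
      have := Set.mem_range_self (f := hU.fromSpec) z
      rw [hU.range_fromSpec] at this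
      exact this
    exact hle this
  have : f (hU.fromSpec z) ∈ Set.range hV.fromSpec := by
    rw [hV.range_fromSpec]; exact hzV
  obtain ⟨t, ht⟩ := this
  refine ⟨t, ?_, ht⟩
  show hV.fromSpec t ∈ W
  rw [ht]
  exact hz

end core

section core
variable {X Y : Scheme.{u}} (f : Y ⟶ X) (F : X.Modules) [F.IsQuasicoherent]
  {V : X.Opens} (hV : IsAffineOpen V) {U : Y.Opens} (hU : IsAffineOpen U) (hle : U ≤ f ⁻¹ᵁ V)
  (G' : (Spec Γ(Y, U)).Modules)

include hV hU in
theorem exists_lift (l : Γ(F, V) →+ Γ(G', ⊤))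
    (hl : ∀ (r : Γ(X, V)) (x : Γ(F, V)), l (r • x) = (f.appLE V U hle r : Γ(Y, U)) • l x) :
    ∃ l' : Γ((Scheme.Modules.pullback f).obj F, U) →+ Γ(G', ⊤),
      (∀ (r : Γ(Y, U)) (p : Γ((Scheme.Modules.pullback f).obj F, U)), l' (r • p) = r • l' p) ∧
      ∀ x : Γ(F, V), l' (unitSec f F hle x) = l x := by
  let G : Y.Modules := (Scheme.Modules.pushforward hU.fromSpec).obj G'
  let GX : X.Modules := (Scheme.Modules.pushforward f).obj G
  have hT := preimage_preimage_eq_top f hU hle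
  let l₁ : Γ(F, V) →+ Γ(GX, V) :=
    (G'.presheaf.map (homOfLE (le_top : hU.fromSpec ⁻¹ᵁ (f ⁻¹ᵁ V) ≤ ⊤)).op).hom.comp l
  have hl₁ : ∀ (r : Γ(X, V)) (x : Γ(F, V)), l₁ (r • x) = r • l₁ x := by
    intro r x
    have e1 : l₁ (r • x) = G'.presheaf.map (homOfLE (le_top : hU.fromSpec ⁻¹ᵁ (f ⁻¹ᵁ V) ≤ ⊤)).op
      (l (r • x)) := rfl
    have e2 : l₁ x = G'.presheaf.map (homOfLE (le_top : hU.fromSpec ⁻¹ᵁ (f ⁻¹ᵁ V) ≤ ⊤)).op
      (l x) := rfl
    rw [e1, hl, pushforward_smul, pushforward_fromSpec_smul hU G' (f ⁻¹ᵁ V) hle, e2]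
    erw [Scheme.Modules.map_smul_Spec]
    rfl
  obtain ⟨θ, hθ⟩ := exists_hom_of_app hV F GX (bijective_GX f hV hU hle G') l₁ hl₁
  let ψ : (Scheme.Modules.pullback f).obj F ⟶ G :=
    ((Scheme.Modules.pullbackPushforwardAdjunction f).homEquiv F G).symm θ
  have hψ : (Scheme.Modules.pullbackPushforwardAdjunction f).unit.app F ≫
      (Scheme.Modules.pushforward f).map ψ = θ := by
    have h0 := ((Scheme.Modules.pullbackPushforwardAdjunction f).homEquiv F G).apply_symm_apply θ
    rw [Adjunction.homEquiv_unit] at h0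
    exact h0
  have hT1 : (⊤ : (Spec Γ(Y, U)).Opens) ≤ hU.fromSpec ⁻¹ᵁ U := hU.fromSpec_preimage_self.ge
  let l' : Γ((Scheme.Modules.pullback f).obj F, U) →+ Γ(G', ⊤) :=
    (G'.presheaf.map (homOfLE hT1).op).hom.comp (ψ.app U).hom
  refine ⟨l', fun r p => ?_, fun x => ?_⟩
  · have e1 : l' (r • p) = G'.presheaf.map (homOfLE hT1).op (ψ.app U (r • p)) := rfl
    have e2 : l' p = G'.presheaf.map (homOfLE hT1).op (ψ.app U p) := rfl
    rw [e1, e2, Scheme.Modules.Hom.app_smul, pushforward_fromSpec_smul hU G' U le_rfl]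
    erw [Scheme.Modules.map_smul_Spec]
    congr 1
    have h0 : (homOfLE (le_refl U)).op = 𝟙 (op U) := rfl
    rw [h0, Y.presheaf.map_id]
    rfl
  · obtain ⟨y, hy⟩ : ∃ y : Γ((Scheme.Modules.pullback f).obj F, f ⁻¹ᵁ V),
        y = ((Scheme.Modules.pullbackPushforwardAdjunction f).unit.app F).app V x := ⟨_, rfl⟩
    have e1 : l' (unitSec f F hle x) = G'.presheaf.map (homOfLE hT1).op
        (ψ.app U (((Scheme.Modules.pullback f).obj F).presheaf.map (homOfLE hle).op y)) := by
      rw [hy]; rfl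
    have n : ψ.app U (((Scheme.Modules.pullback f).obj F).presheaf.map (homOfLE hle).op y) =
        G'.presheaf.map (homOfLE (hU.fromSpec.preimage_mono hle)).op (ψ.app (f ⁻¹ᵁ V) y) :=
      CategoryTheory.congr_fun (ψ.mapPresheaf.naturality (homOfLE hle).op) y
    have e3 : ψ.app (f ⁻¹ᵁ V) y = G'.presheaf.map
        (homOfLE (le_top : hU.fromSpec ⁻¹ᵁ (f ⁻¹ᵁ V) ≤ ⊤)).op (l x) := by
      have h1 : l₁ x = G'.presheaf.map
        (homOfLE (le_top : hU.fromSpec ⁻¹ᵁ (f ⁻¹ᵁ V) ≤ ⊤)).op (l x) := rfl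
      rw [← h1, ← hθ x, ← hψ, hy]
      rfl
    rw [e1, n, e3]
    have e6 : ∀ z : Γ(G', ⊤), G'.presheaf.map (homOfLE hT1).op
        (G'.presheaf.map (homOfLE (hU.fromSpec.preimage_mono hle)).op
          (G'.presheaf.map (homOfLE (le_top : hU.fromSpec ⁻¹ᵁ (f ⁻¹ᵁ V) ≤ ⊤)).op z)) = z := by
      intro z
      rw [← ConcreteCategory.comp_apply, ← ConcreteCategory.comp_apply, ← Functor.map_comp,
        ← Functor.map_comp, ← op_comp, ← op_comp]
      have e7 : homOfLE hT1 ≫ homOfLE (hU.fromSpec.preimage_mono hle) ≫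
        homOfLE (le_top : hU.fromSpec ⁻¹ᵁ (f ⁻¹ᵁ V) ≤ ⊤) = 𝟙 _ := Subsingleton.elim _ _
      rw [Category.assoc] at *
      rw [e7, op_id, G'.presheaf.map_id]
      rfl
    exact e6 (l x)

end core

section core
variable {X Y : Scheme.{u}} (f : Y ⟶ X) (F : X.Modules) [F.IsQuasicoherent]
  {V : X.Opens} (hV : IsAffineOpen V) {U : Y.Opens} (hU : IsAffineOpen U) (hle : U ≤ f ⁻¹ᵁ V)
  (G' : (Spec Γ(Y, U)).Modules)

include hV hU in
theorem lift_unique (l'₁ l'₂ : Γ((Scheme.Modules.pullback f).obj F, U) →+ Γ(G', ⊤))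
    (h₁ : ∀ (r : Γ(Y, U)) (p : Γ((Scheme.Modules.pullback f).obj F, U)), l'₁ (r • p) = r • l'₁ p)
    (h₂ : ∀ (r : Γ(Y, U)) (p : Γ((Scheme.Modules.pullback f).obj F, U)), l'₂ (r • p) = r • l'₂ p)
    (h : ∀ x : Γ(F, V), l'₁ (unitSec f F hle x) = l'₂ (unitSec f F hle x)) : l'₁ = l'₂ := by
  haveI : ((Scheme.Modules.pullback f).obj F).IsQuasicoherent :=
    Groth.Agent.Lib.Helper2.PullbackSec.isQuasicoherent_pullback f F
  let G : Y.Modules := (Scheme.Modules.pushforward hU.fromSpec).obj G'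
  let GX : X.Modules := (Scheme.Modules.pushforward f).obj G
  have hT1 : hU.fromSpec ⁻¹ᵁ U ≤ ⊤ := le_top
  have key : ∀ (l' : Γ((Scheme.Modules.pullback f).obj F, U) →+ Γ(G', ⊤))
      (_ : ∀ (r : Γ(Y, U)) (p : Γ((Scheme.Modules.pullback f).obj F, U)), l' (r • p) = r • l' p),
      ∃ ψ : (Scheme.Modules.pullback f).obj F ⟶ G, ∀ p : Γ((Scheme.Modules.pullback f).obj F, U),
        ψ.app U p = G'.presheaf.map (homOfLE hT1).op (l' p) := by
    intro l' hl'
    let l₀ : Γ((Scheme.Modules.pullback f).obj F, U) →+ Γ(G, U) :=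
      (G'.presheaf.map (homOfLE hT1).op).hom.comp l'
    refine exists_hom_of_app hU _ G (bijective_GY hU G') l₀ fun r p => ?_
    have e1 : l₀ (r • p) = G'.presheaf.map (homOfLE hT1).op (l' (r • p)) := rfl
    have e2 : l₀ p = G'.presheaf.map (homOfLE hT1).op (l' p) := rfl
    rw [e1, hl', pushforward_fromSpec_smul hU G' U le_rfl, e2]
    erw [Scheme.Modules.map_smul_Spec]
    congr 1
    have h0 : (homOfLE (le_refl U)).op = 𝟙 (op U) := rfl
    rw [h0, Y.presheaf.map_id]
    rfl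
  obtain ⟨ψ₁, hψ₁⟩ := key l'₁ h₁
  obtain ⟨ψ₂, hψ₂⟩ := key l'₂ h₂
  have hθ : (Scheme.Modules.pullbackPushforwardAdjunction f).unit.app F ≫
      (Scheme.Modules.pushforward f).map ψ₁ =
      (Scheme.Modules.pullbackPushforwardAdjunction f).unit.app F ≫
      (Scheme.Modules.pushforward f).map ψ₂ := by
    refine hom_ext_of_app_eq hV F GX (fun W => (bijective_GX f hV hU hle G' W).1) _ _ fun x => ?_
    obtain ⟨y, hy⟩ : ∃ y : Γ((Scheme.Modules.pullback f).obj F, f ⁻¹ᵁ V),
        y = ((Scheme.Modules.pullbackPushforwardAdjunction f).unit.app F).app V x := ⟨_, rfl⟩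
    have hinj := (map_bijective_of_eq G' ((hU.fromSpec_preimage_self).trans
      (preimage_preimage_eq_top f hU hle).symm) (homOfLE (hU.fromSpec.preimage_mono hle))).1
    have n : ∀ ψ : (Scheme.Modules.pullback f).obj F ⟶ G,
        ψ.app U (((Scheme.Modules.pullback f).obj F).presheaf.map (homOfLE hle).op y) =
        G'.presheaf.map (homOfLE (hU.fromSpec.preimage_mono hle)).op (ψ.app (f ⁻¹ᵁ V) y) := fun ψ =>
      CategoryTheory.congr_fun (ψ.mapPresheaf.naturality (homOfLE hle).op) y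
    have g1 : ∀ ψ : (Scheme.Modules.pullback f).obj F ⟶ G,
        ((Scheme.Modules.pullbackPushforwardAdjunction f).unit.app F ≫
          (Scheme.Modules.pushforward f).map ψ).app V x = ψ.app (f ⁻¹ᵁ V) y := by
      intro ψ; rw [hy]; rfl
    rw [g1, g1]
    apply hinj
    rw [← n ψ₁, ← n ψ₂, hψ₁, hψ₂]
    have hu : ((Scheme.Modules.pullback f).obj F).presheaf.map (homOfLE hle).op y =
        unitSec f F hle x := by rw [hy]; rfl
    rw [hu, h x]
  have hψ : ψ₁ = ψ₂ := by
    apply ((Scheme.Modules.pullbackPushforwardAdjunction f).homEquiv F G).injective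
    rw [Adjunction.homEquiv_unit, Adjunction.homEquiv_unit]
    exact hθ
  refine AddMonoidHom.ext fun p => ?_
  have hinj := (map_bijective_of_eq G' hU.fromSpec_preimage_self (homOfLE hT1)).1
  apply hinj
  rw [← hψ₁, ← hψ₂, hψ]

end core

section core
variable {X Y : Scheme.{u}} (f : Y ⟶ X) (F : X.Modules) [F.IsQuasicoherent]
  {V : X.Opens} (hV : IsAffineOpen V) {U : Y.Opens} (hU : IsAffineOpen U) (hle : U ≤ f ⁻¹ᵁ V)

include hV hU in
/-- **Sections of a pull-back over affine opens**: for `F` quasi-coherent on `X`, `V ⊆ X` and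
`U ⊆ f⁻¹ V` affine opens, the canonical map `Γ(F, V) → Γ(f^*F, U)` exhibits `Γ(f^*F, U)` as the base
change of `Γ(F, V)` along `Γ(X, V) → Γ(Y, U)` (universal property form). -/
theorem existsUnique_lift (N : Type u) [AddCommGroup N] [Module Γ(Y, U) N] (l : Γ(F, V) →+ N)
    (hl : ∀ (r : Γ(X, V)) (x : Γ(F, V)), l (r • x) = (f.appLE V U hle r : Γ(Y, U)) • l x) :
    ∃! l' : Γ((Scheme.Modules.pullback f).obj F, U) →ₗ[Γ(Y, U)] N,
      ∀ x : Γ(F, V), l' (unitSec f F hle x) = l x := by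
  let M : ModuleCat.{u} Γ(Y, U) := ModuleCat.of Γ(Y, U) N
  let G' : (Spec Γ(Y, U)).Modules := tilde M
  let e : N ≃ₗ[Γ(Y, U)] Γ(G', ⊤) := (tilde.isoTop M).toLinearEquiv
  obtain ⟨l₀, h1, h2⟩ := exists_lift f F hV hU hle G' (e.toLinearMap.toAddMonoidHom.comp l)
    (fun r x => by
      simp only [AddMonoidHom.coe_comp, Function.comp_apply, LinearMap.toAddMonoidHom_coe,
        LinearEquiv.coe_coe, hl, map_smul])
  refine ⟨{ toFun := fun p => e.symm (l₀ p), map_add' := fun p q => by rw [map_add, map_add],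
            map_smul' := fun r p => by rw [h1, map_smul]; rfl }, fun x => ?_, fun l'' hl'' => ?_⟩
  · show e.symm (l₀ (unitSec f F hle x)) = l x
    rw [h2]
    exact e.symm_apply_apply (l x)
  · have := lift_unique f F hV hU hle G' (e.toLinearMap.toAddMonoidHom.comp l''.toAddMonoidHom) l₀
      (fun r p => by
        simp only [AddMonoidHom.coe_comp, Function.comp_apply, LinearMap.toAddMonoidHom_coe,
          LinearEquiv.coe_coe, map_smul]) h1
      (fun x => by
        rw [h2]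
        simp only [AddMonoidHom.coe_comp, Function.comp_apply, LinearMap.toAddMonoidHom_coe,
          LinearEquiv.coe_coe, hl''])
    refine LinearMap.ext fun p => ?_
    have h3 := congrArg (fun t : Γ((Scheme.Modules.pullback f).obj F, U) →+ Γ(G', ⊤) => t p) this
    show l'' p = e.symm (l₀ p)
    rw [← h3]
    exact (e.symm_apply_apply (l'' p)).symm

end core

end Groth.Agent.Helper13PullbackUnit
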