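import Mathlib
import Groth.Agent.Lib.Helper13PullbackUnit
import Groth.Agent.Lib.Helper23QCohLocal
import Groth.Agent.Lib.Helper13BCAlg

/-!
# Affine base change for quasi-coherent modules (helper13)

For a pullback square `g' : X' ⟶ X`, `f' : X' ⟶ S'`, `f : X ⟶ S`, `g : S' ⟶ S`:
* `vMap`, `bcMap`: the base change morphism `g^* f_* F ⟶ f'_* g'^* F` (adjoint of `f_*(unit)`).
* `bcMap_unitSec`: on sections, `bcMap` sends `unitSec g (f_* F)` to `unitSec g' F`.
* `bcMap_app_bijective`, `isIso_bcMap`: for `f` affine and `F` quasi-coherent, `bcMap` is an isomorphism.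
* `isIso_of_bijective_on_basis`: a morphism of modules bijective on a basis of opens is an isomorphism.
-/

set_option autoImplicit false
set_option linter.style.haveILetI false
universe u
open CategoryTheory CategoryTheory.Limits AlgebraicGeometry Opposite TopologicalSpace

namespace Groth.Agent.Helper13AffBC

open Scheme.Modules Groth.Agent.Helper13PullbackUnit


section
variable {X S X' S' : Scheme.{u}} (f : X ⟶ S) (g : S' ⟶ S) (g' : X' ⟶ X) (f' : X' ⟶ S')
  (h : IsPullback g' f' f g) (F : X.Modules)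

/-- the morphism `f_* F → g_* f'_* g'^* F` -/
noncomputable def vMap : (pushforward f).obj F ⟶
    (pushforward g).obj ((pushforward f').obj ((Scheme.Modules.pullback g').obj F)) :=
  (pushforward f).map ((pullbackPushforwardAdjunction g').unit.app F) ≫
    (pushforwardComp g' f).hom.app ((Scheme.Modules.pullback g').obj F) ≫
    (pushforwardCongr h.w).hom.app ((Scheme.Modules.pullback g').obj F) ≫
    (pushforwardComp f' g).inv.app ((Scheme.Modules.pullback g').obj F)

/-- the base change morphism `g^* f_* F → f'_* g'^* F` -/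
noncomputable def bcMap : (Scheme.Modules.pullback g).obj ((pushforward f).obj F) ⟶
    (pushforward f').obj ((Scheme.Modules.pullback g').obj F) :=
  ((pullbackPushforwardAdjunction g).homEquiv ((pushforward f).obj F)
    ((pushforward f').obj ((Scheme.Modules.pullback g').obj F))).symm (vMap f g g' f' h F)

theorem unit_bcMap : (pullbackPushforwardAdjunction g).unit.app ((pushforward f).obj F) ≫
    (pushforward g).map (bcMap f g g' f' h F) = vMap f g g' f' h F := by
  have h0 := ((pullbackPushforwardAdjunction g).homEquiv ((pushforward f).obj F)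
    ((pushforward f').obj ((Scheme.Modules.pullback g').obj F))).apply_symm_apply (vMap f g g' f' h F)
  rw [Adjunction.homEquiv_unit] at h0
  exact h0

include h in
theorem preimage_le {U : S.Opens} {U' : S'.Opens} (hle : U' ≤ g ⁻¹ᵁ U) :
    f' ⁻¹ᵁ U' ≤ g' ⁻¹ᵁ (f ⁻¹ᵁ U) := by
  intro x hx
  have h1 : g (f' x) ∈ U := hle hx
  have h2 : f (g' x) = g (f' x) := by
    have := congrArg (fun t : X' ⟶ S => t x) h.w
    simpa using this
  show f (g' x) ∈ U
  rw [h2]
  exact h1

theorem vMap_app (U : S.Opens) (m : Γ(F, f ⁻¹ᵁ U)) :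
    (vMap f g g' f' h F).app U m =
      ((Scheme.Modules.pullback g').obj F).presheaf.map (homOfLE (preimage_le f g g' f' h (le_refl (g ⁻¹ᵁ U)))).op
        (((pullbackPushforwardAdjunction g').unit.app F).app (f ⁻¹ᵁ U) m) := by
  rfl

end


section
variable {X S X' S' : Scheme.{u}} (f : X ⟶ S) (g : S' ⟶ S) (g' : X' ⟶ X) (f' : X' ⟶ S')
  (h : IsPullback g' f' f g) (F : X.Modules)

theorem bcMap_unitSec {U : S.Opens} {U' : S'.Opens} (hle : U' ≤ g ⁻¹ᵁ U) (m : Γ(F, f ⁻¹ᵁ U)) :
    (bcMap f g g' f' h F).app U' (unitSec g ((pushforward f).obj F) hle m) =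
      unitSec g' F (preimage_le f g g' f' h hle) m := by
  obtain ⟨y, hy⟩ : ∃ y : Γ((Scheme.Modules.pullback g).obj ((pushforward f).obj F), g ⁻¹ᵁ U),
      y = ((pullbackPushforwardAdjunction g).unit.app ((pushforward f).obj F)).app U m := ⟨_, rfl⟩
  have e1 : unitSec g ((pushforward f).obj F) hle m =
      ((Scheme.Modules.pullback g).obj ((pushforward f).obj F)).presheaf.map (homOfLE hle).op y := by
    rw [hy]; rfl
  have n : (bcMap f g g' f' h F).app U'
      (((Scheme.Modules.pullback g).obj ((pushforward f).obj F)).presheaf.map (homOfLE hle).op y) =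
      ((Scheme.Modules.pullback g').obj F).presheaf.map (homOfLE (f'.preimage_mono hle)).op
        ((bcMap f g g' f' h F).app (g ⁻¹ᵁ U) y) :=
    CategoryTheory.congr_fun ((bcMap f g g' f' h F).mapPresheaf.naturality (homOfLE hle).op) y
  have e2 : (bcMap f g g' f' h F).app (g ⁻¹ᵁ U) y = (vMap f g g' f' h F).app U m := by
    rw [← unit_bcMap f g g' f' h F, hy]
    rfl
  rw [e1, n, e2, vMap_app, unitSec_apply]
  have fin : ∀ z : Γ((Scheme.Modules.pullback g').obj F, g' ⁻¹ᵁ (f ⁻¹ᵁ U)),
      ((Scheme.Modules.pullback g').obj F).presheaf.map (homOfLE (f'.preimage_mono hle)).op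
        (((Scheme.Modules.pullback g').obj F).presheaf.map
          (homOfLE (preimage_le f g g' f' h (le_refl (g ⁻¹ᵁ U)))).op z) =
      ((Scheme.Modules.pullback g').obj F).presheaf.map
        (homOfLE (preimage_le f g g' f' h hle)).op z := by
    intro z
    rw [← ConcreteCategory.comp_apply, ← Functor.map_comp]
    rfl
  exact fin _

end


section
variable {X S X' S' : Scheme.{u}} (f : X ⟶ S) (g : S' ⟶ S) (g' : X' ⟶ X) (f' : X' ⟶ S')
  (h : IsPullback g' f' f g) (F : X.Modules)

theorem bcMap_app_bijective [IsAffineHom f] [F.IsQuasicoherent] {U : S.Opens} (hU : IsAffineOpen U)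
    {U' : S'.Opens} (hU' : IsAffineOpen U') (hle : U' ≤ g ⁻¹ᵁ U) :
    Function.Bijective ((bcMap f g g' f' h F).app U') := by
  haveI : IsAffineHom f' := MorphismProperty.of_isPullback h (inferInstance : IsAffineHom f)
  have hW : IsAffineOpen (f ⁻¹ᵁ U) := hU.preimage f
  have hW' : IsAffineOpen (f' ⁻¹ᵁ U') := hU'.preimage f'
  haveI : ((pushforward f).obj F).IsQuasicoherent :=
    Groth.Agent.Lib.Helper23.QCohLocal.isQuasicoherent_pushforward f F
  have hle' := preimage_le f g g' f' h hle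
  have hUY : f' ⁻¹ᵁ U' = g' ⁻¹ᵁ (f ⁻¹ᵁ U) ⊓ f' ⁻¹ᵁ U' := (inf_eq_right.2 hle').symm
  have hpo := ((isIso_pushoutSection_iff h hle (le_refl (f ⁻¹ᵁ U)) hUY).1
    (isIso_pushoutSection_of_isAffineOpen h hle (le_refl (f ⁻¹ᵁ U)) hUY hU hU' hW)).flip
  refine Groth.Agent.Helper13BCAlg.bijective_of_lifts (g.appLE U U' hle).hom
    (f.appLE U (f ⁻¹ᵁ U) le_rfl).hom (g'.appLE (f ⁻¹ᵁ U) (f' ⁻¹ᵁ U') hle').hom
    (f'.appLE U' (f' ⁻¹ᵁ U') le_rfl).hom hpo
    (M := Γ(F, f ⁻¹ᵁ U))
    (unitSec g ((pushforward f).obj F) hle) ?_ ?_ (unitSec g' F hle') (unitSec_smul g' F hle') ?_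
    ((bcMap f g g' f' h F).app U').hom ?_ (fun m => bcMap_unitSec f g g' f' h F hle m)
  · intro r m
    rw [Scheme.Hom.appLE_eq_app]
    exact unitSec_smul g ((pushforward f).obj F) hle r m
  · intro N _ _ l hl
    refine existsUnique_lift g ((pushforward f).obj F) hU hU' hle N l fun r x => ?_
    have := hl r x
    rw [Scheme.Hom.appLE_eq_app] at this
    exact this
  · intro N _ _ l hl
    exact existsUnique_lift g' F hW hW' hle' N l hl
  · intro r' q
    rw [Scheme.Hom.appLE_eq_app]
    exact (bcMap f g g' f' h F).app_smul r' q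

end


/-- a morphism of modules that is bijective on the members of a basis of opens is an isomorphism -/
theorem isIso_of_bijective_on_basis {T : Scheme.{u}} {M N : T.Modules} (φ : M ⟶ N) {ι : Type u}
    (B : ι → T.Opens) (hB : Opens.IsBasis (Set.range B))
    (hφ : ∀ i, Function.Bijective (φ.app (B i))) : IsIso φ := by
  let α : (⟨M.presheaf, M.isSheaf⟩ : TopCat.Sheaf Ab T) ⟶ ⟨N.presheaf, N.isSheaf⟩ :=
    ⟨φ.mapPresheaf⟩
  have h1 : IsIso α := TopCat.Sheaf.isIso_iff_isIso_basis (B := B) hB fun i =>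
    (ConcreteCategory.isIso_iff_bijective _).2 (hφ i)
  have h2 : IsIso ((Scheme.Modules.toPresheaf T).map φ) := by
    have : IsIso ((TopCat.Sheaf.forget Ab T).map α) := Functor.map_isIso _ α
    exact this
  exact isIso_of_reflects_iso φ (Scheme.Modules.toPresheaf T)

section
variable {X S X' S' : Scheme.{u}} (f : X ⟶ S) (g : S' ⟶ S) (g' : X' ⟶ X) (f' : X' ⟶ S')
  (h : IsPullback g' f' f g) (F : X.Modules)

/-- **affine base change**: for `f` affine and `F` quasi-coherent, `g^* f_* F → f'_* g'^* F` is an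
isomorphism. -/
theorem isIso_bcMap [IsAffineHom f] [F.IsQuasicoherent] : IsIso (bcMap f g g' f' h F) := by
  let ι : Type u := {U' : S'.Opens // IsAffineOpen U' ∧ ∃ U : S.Opens, IsAffineOpen U ∧ U' ≤ g ⁻¹ᵁ U}
  refine isIso_of_bijective_on_basis _ (fun i : ι => i.1) ?_ ?_
  · rw [Opens.isBasis_iff_nbhd]
    intro W y hyW
    obtain ⟨V, hV, hyV, -⟩ := exists_isAffineOpen_mem_and_subset (x := g y) (U := ⊤) trivial
    obtain ⟨U', hU', hyU', hU'W⟩ := exists_isAffineOpen_mem_and_subset (x := y)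
      (U := W ⊓ g ⁻¹ᵁ V) ⟨hyW, hyV⟩
    exact ⟨U', ⟨⟨U', hU', V, hV, hU'W.trans inf_le_right⟩, rfl⟩, hyU', hU'W.trans inf_le_left⟩
  · rintro ⟨U', hU', U, hU, hle⟩
    exact bcMap_app_bijective f g g' f' h F hU hU' hle

end

end Groth.Agent.Helper13AffBC
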