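import Mathlib

set_option autoImplicit false
set_option linter.style.haveILetI false

namespace Groth.Agent.Helper13BCAlg2

universe u

/-- base change along a surjection whose kernel kills the module is bijective -/
theorem bijective_of_lift_of_surjective {R R' : Type u} [CommRing R] [CommRing R'] (ψ : R →+* R')
    (hψ : Function.Surjective ψ) {M Q : Type u} [AddCommGroup M] [Module R M] [AddCommGroup Q]
    [Module R' Q] (hker : ∀ r ∈ RingHom.ker ψ, ∀ m : M, r • m = 0)
    (φ : M →+ Q) (hφ : ∀ (r : R) (m : M), φ (r • m) = ψ r • φ m)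
    (huniv : ∀ (N : Type u) [AddCommGroup N] [Module R' N] (l : M →+ N),
      (∀ (r : R) (m : M), l (r • m) = ψ r • l m) → ∃! l' : Q →ₗ[R'] N, ∀ m, l' (φ m) = l m) :
    Function.Bijective φ := by
  -- the `R'`-module structure on `M`
  have htors : Module.IsTorsionBySet R M (RingHom.ker ψ : Set R) := by
    intro m r
    exact hker r.1 r.2 m
  letI : Module (R ⧸ RingHom.ker ψ) M := htors.module
  letI : Module R' M :=
    Module.compHom M (RingHom.quotientKerEquivOfSurjective hψ).symm.toRingHom
  have hsm : ∀ (r : R) (m : M), ψ r • m = r • m := by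
    intro r m
    change ((RingHom.quotientKerEquivOfSurjective hψ).symm (ψ r)) • m = r • m
    have : (RingHom.quotientKerEquivOfSurjective hψ).symm (ψ r) =
        Ideal.Quotient.mk (RingHom.ker ψ) r := by
      rw [RingEquiv.symm_apply_eq]
      rfl
    rw [this]
    rfl
  obtain ⟨l', h1, -⟩ := huniv M (AddMonoidHom.id M) (fun r m => (hsm r m).symm)
  obtain ⟨l0, _, h3⟩ := huniv Q φ hφ
  have e1 := h3 (LinearMap.id) (fun m => rfl)
  have e2 := h3 ({ toFun := fun q => φ (l' q), map_add' := fun a b => by rw [map_add, map_add],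
                   map_smul' := fun r q => by
                    obtain ⟨r₀, rfl⟩ := hψ r
                    rw [l'.map_smul, hsm, hφ]
                    rfl } : Q →ₗ[R'] Q) (fun m => by
      show φ (l' (φ m)) = φ m
      rw [h1]; rfl)
  refine ⟨fun a b hab => ?_, fun q => ⟨l' q, ?_⟩⟩
  · have := congrArg l' hab
    rw [h1, h1] at this
    exact this
  · exact LinearMap.congr_fun (e2.trans e1.symm) q

end Groth.Agent.Helper13BCAlg2
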