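import Mathlib
import Groth.Agent.Lib.Helper13AffBC
import Groth.Agent.Lib.Helper20FittSheaf
import Groth.Agent.Lib.Helper23FinType2
import Groth.Agent.Lib.Helper13BCAlg2

set_option autoImplicit false
set_option linter.style.haveILetI false
universe u
open CategoryTheory CategoryTheory.Limits AlgebraicGeometry Opposite TopologicalSpace

namespace Groth.Agent.Helper13UnitSub

open Scheme.Modules Groth.Agent.Helper13PullbackUnit

/-- if the ideal sheaf `J` kills the quasi-coherent module `F`, the unit `F → j_* j^* F` for the closed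
subscheme `j : V(J) → X` is an isomorphism. -/
theorem isIso_unit_subscheme {X : Scheme.{u}} (F : X.Modules) [F.IsQuasicoherent]
    (J : X.IdealSheafData)
    (hJ : ∀ (U : X.affineOpens) (r : Γ(X, U.1)), r ∈ J.ideal U → ∀ m : Γ(F, U.1), r • m = 0) :
    IsIso ((pullbackPushforwardAdjunction J.subschemeι).unit.app F) := by
  refine Groth.Agent.Helper13AffBC.isIso_of_bijective_on_basis _
    (fun U : X.affineOpens => (U.1 : X.Opens)) ?_ fun U => ?_
  · have := X.isBasis_affineOpens
    rwa [← Subtype.range_coe (s := X.affineOpens)] at this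
  · have hU' : IsAffineOpen (J.subschemeι ⁻¹ᵁ U.1) := U.2.preimage J.subschemeι
    have hle : J.subschemeι ⁻¹ᵁ U.1 ≤ J.subschemeι ⁻¹ᵁ U.1 := le_rfl
    have hfun : ∀ m : Γ(F, U.1), ((pullbackPushforwardAdjunction J.subschemeι).unit.app F).app U.1 m =
        unitSec J.subschemeι F hle m := by
      intro m
      rw [unitSec_apply]
      have h1 : ∀ z : Γ((Scheme.Modules.pullback J.subschemeι).obj F, J.subschemeι ⁻¹ᵁ U.1),
          z = ((Scheme.Modules.pullback J.subschemeι).obj F).presheaf.map (homOfLE hle).op z := by
        intro z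
        have h0 : (homOfLE hle).op = 𝟙 (op (J.subschemeι ⁻¹ᵁ U.1)) := rfl
        rw [h0, CategoryTheory.Functor.map_id]
        rfl
      exact h1 _
    have hbij : Function.Bijective (unitSec J.subschemeι F hle) := by
      refine Groth.Agent.Helper13BCAlg2.bijective_of_lift_of_surjective
        (J.subschemeι.appLE U.1 (J.subschemeι ⁻¹ᵁ U.1) hle).hom ?_ ?_ _
        (unitSec_smul J.subschemeι F hle)
        (fun N _ _ l hl => existsUnique_lift J.subschemeι F U.2 hU' hle N l hl)
      · rw [Scheme.Hom.appLE_eq_app]
        exact J.subschemeι_app_surjective U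
      · intro r hr m
        rw [Scheme.Hom.appLE_eq_app, J.ker_subschemeι_app U] at hr
        exact hJ U r hr m
    have : ⇑(ConcreteCategory.hom
        (((pullbackPushforwardAdjunction J.subschemeι).unit.app F).app U.1)) =
        ⇑(unitSec J.subschemeι F hle) := funext hfun
    rw [this]
    exact hbij

end Groth.Agent.Helper13UnitSub
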