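import Mathlib
import Groth.Agent.Lib.Helper23Extend2
import Groth.Agent.Lib.Helper2QcPush
import Groth.Prelude.Def_CohB1

/-!
# Supports of modules on schemes (helper23)

* `subsingleton_stalk_of_forall_res_eq_zero`, `eq_zero_of_disjoint_support`
-/

set_option autoImplicit false
universe u
open CategoryTheory Limits AlgebraicGeometry TopologicalSpace Opposite

namespace Groth.Agent.Lib.Helper23.Support

open Groth.Agent.Lib.Helper23.QCohLocal Groth.Agent.Lib.Helper2.Push Groth.Agent.Lib.Helper2.QCoh
  Groth.Agent.Lib.Helper23.FinType Groth.Agent.Lib.Helper23.ModLocal Groth.Agent.Lib.Helper23.Extend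

variable {X : Scheme.{u}}

/-- the stalk at `x` vanishes if every section near `x` restricts to zero on a smaller neighbourhood of `x` -/
theorem subsingleton_stalk_of_forall_res_eq_zero (M : X.Modules) (x : X)
    (h : ∀ (W : X.Opens) (_ : x ∈ W) (s : Γ(M, W)), ∃ (W' : X.Opens) (hW' : W' ≤ W), x ∈ W' ∧
      M.presheaf.map (homOfLE hW').op s = 0) : Subsingleton (M.presheaf.stalk x) := by
  refine ⟨fun a b => ?_⟩
  have key : ∀ y : M.presheaf.stalk x, y = 0 := by
    intro y
    obtain ⟨W, hxW, s, rfl⟩ := M.presheaf.exists_germ_eq y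
    obtain ⟨W', hW', hxW', hs⟩ := h W hxW s
    have h1 : M.presheaf.germ W' x hxW' (M.presheaf.map (homOfLE hW').op s) = M.presheaf.germ W x hxW s :=
      TopCat.Presheaf.germ_res_apply M.presheaf (homOfLE hW') x hxW' s
    rw [← h1, hs, map_zero]
  rw [key a, key b]

/-- sections over an open disjoint from the support vanish -/
theorem eq_zero_of_disjoint_support (M : X.Modules) (W : X.Opens)
    (hW : ∀ x ∈ W, x ∉ CohB1.support M) (s : Γ(M, W)) : s = 0 := by
  refine Groth.Agent.Lib.Helper2.QcPush.section_eq_zero_of_germ M W s (fun x hx => ?_)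
  have h1 := hW x hx
  simp only [CohB1.support, Set.mem_ofPred_eq, not_not] at h1
  exact Subsingleton.elim _ _

end Groth.Agent.Lib.Helper23.Support
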