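import Mathlib
import Groth.Prelude.Def_FlatMod2
import Groth.Agent.Lib.Helper2FlatOver
import Groth.Agent.Lib.Helper20StalkExact
import Groth.Agent.Lib.Helper4ModEpi

/-!
# Linear stalk maps of morphisms of `O_X`-modules and their exactness (helper4)

* `stalkL φ y : A_y →ₗ[O_{X,y}] B_y` for `φ : A ⟶ B` in `X.Modules`; `stalkL_germ`, `stalkL_id`, `stalkL_comp`.
* `stalkL_injective_of_mono`, `stalkL_surjective_of_epi`, `stalkL_exact` for short exact sequences.
* `length_stalk_add`: additivity of `Module.length` of stalks on short exact sequences.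
-/

set_option autoImplicit false
universe u
open CategoryTheory Limits AlgebraicGeometry TopologicalSpace Opposite

namespace Groth.Agent.Lib.Helper4.Dev

open Groth.Agent.Lib.Helper2 Groth.Agent.Lib.Helper20.StalkExact

variable {X : Scheme.{u}}

/-- the underlying additive stalk map -/
noncomputable abbrev stalkAdd {A B : X.Modules} (φ : A ⟶ B) (y : X) :
    A.presheaf.stalk y ⟶ B.presheaf.stalk y :=
  (TopCat.Presheaf.stalkFunctor AddCommGrpCat.{u} y).map (Scheme.Modules.Hom.mapPresheaf φ)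

theorem stalkAdd_germ {A B : X.Modules} (φ : A ⟶ B) (y : X) (U : X.Opens) (hy : y ∈ U) (m : Γ(A, U)) :
    stalkAdd φ y (A.presheaf.germ U y hy m) = B.presheaf.germ U y hy (φ.app U m) :=
  TopCat.Presheaf.stalkFunctor_map_germ_apply U y hy (Scheme.Modules.Hom.mapPresheaf φ) m

/-- the stalk map of a morphism of `O_X`-modules, as an `O_{X,y}`-linear map -/
noncomputable def stalkL {A B : X.Modules} (φ : A ⟶ B) (y : X) :
    A.presheaf.stalk y →ₗ[X.presheaf.stalk y] B.presheaf.stalk y where
  toFun := stalkAdd φ y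
  map_add' := map_add _
  map_smul' := by
    intro r x
    obtain ⟨U, hyU, a, rfl⟩ := X.presheaf.exists_germ_eq r
    obtain ⟨V, hyV, m, rfl⟩ := A.presheaf.exists_germ_eq x
    let W : X.Opens := U ⊓ V
    have hyW : y ∈ W := ⟨hyU, hyV⟩
    have iU : W ⟶ U := homOfLE inf_le_left
    have iV : W ⟶ V := homOfLE inf_le_right
    rw [← X.presheaf.germ_res_apply iU y hyW a, ← A.presheaf.germ_res_apply iV y hyW m]
    simp only [RingHom.id_apply]
    rw [← QCoh.germ_smul A y W hyW, stalkAdd_germ, stalkAdd_germ, Scheme.Modules.Hom.app_smul,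
      QCoh.germ_smul B y W hyW]

theorem stalkL_apply {A B : X.Modules} (φ : A ⟶ B) (y : X) (x : A.presheaf.stalk y) :
    stalkL φ y x = stalkAdd φ y x := rfl

theorem stalkL_germ {A B : X.Modules} (φ : A ⟶ B) (y : X) (U : X.Opens) (hy : y ∈ U) (m : Γ(A, U)) :
    stalkL φ y (A.presheaf.germ U y hy m) = B.presheaf.germ U y hy (φ.app U m) :=
  stalkAdd_germ φ y U hy m

theorem stalkL_id (A : X.Modules) (y : X) : stalkL (𝟙 A) y = LinearMap.id := by
  ext x
  obtain ⟨V, hyV, m, rfl⟩ := A.presheaf.exists_germ_eq x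
  rw [stalkL_germ]
  rfl

theorem stalkL_comp {A B C : X.Modules} (φ : A ⟶ B) (ψ : B ⟶ C) (y : X) :
    stalkL (φ ≫ ψ) y = (stalkL ψ y).comp (stalkL φ y) := by
  ext x
  obtain ⟨V, hyV, m, rfl⟩ := A.presheaf.exists_germ_eq x
  rw [LinearMap.comp_apply, stalkL_germ, stalkL_germ, stalkL_germ]
  rfl

theorem stalkL_comp_apply {A B C : X.Modules} (φ : A ⟶ B) (ψ : B ⟶ C) (y : X) (x : A.presheaf.stalk y) :
    stalkL (φ ≫ ψ) y x = stalkL ψ y (stalkL φ y x) := by
  rw [stalkL_comp]; rfl

theorem stalkL_zero (A B : X.Modules) (y : X) : stalkL (0 : A ⟶ B) y = 0 := by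
  ext x
  obtain ⟨V, hyV, m, rfl⟩ := A.presheaf.exists_germ_eq x
  rw [stalkL_germ]
  have : (0 : A ⟶ B).app V m = 0 := rfl
  rw [this, map_zero]; rfl

theorem stalkL_injective_of_mono {A B : X.Modules} (φ : A ⟶ B) [Mono φ] (y : X) :
    Function.Injective (stalkL φ y) :=
  TopCat.Presheaf.stalkFunctor_map_injective_of_app_injective
    (f := Scheme.Modules.Hom.mapPresheaf φ) (fun U => injective_app_of_mono φ U) y

theorem stalkL_surjective_of_epi {A B : X.Modules} (φ : A ⟶ B) [Epi φ] (y : X) :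
    Function.Surjective (stalkL φ y) := fun c =>
  Groth.Agent.Lib.Helper4.ModEpi.exists_germ_eq_of_epi φ y c

theorem stalkL_exact (E : ShortComplex X.Modules) (hE : E.ShortExact) (y : X) :
    Function.Exact (stalkL E.f y) (stalkL E.g y) := by
  intro x
  constructor
  · intro hx
    obtain ⟨U, hyU, t, rfl⟩ := E.X₂.presheaf.exists_germ_eq x
    rw [stalkL_germ] at hx
    have hg : E.X₃.presheaf.germ U y hyU (Scheme.Modules.Hom.app E.g U t) =
        E.X₃.presheaf.germ U y hyU 0 := by rw [hx, map_zero]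
    obtain ⟨V, hyV, iU, _, e⟩ := E.X₃.presheaf.germ_eq y hyU hyU _ _ hg
    rw [map_zero] at e
    have e' : Scheme.Modules.Hom.app E.g V (E.X₂.presheaf.map iU.op t) = 0 := by
      rw [← e]
      exact congr($((Scheme.Modules.Hom.mapPresheaf E.g).naturality iU.op) t)
    obtain ⟨r, hr⟩ := exists_app_eq_of_exact E hE V _ e'
    refine ⟨E.X₁.presheaf.germ V y hyV r, ?_⟩
    rw [stalkL_germ, hr, E.X₂.presheaf.germ_res_apply iU y hyV t]
  · rintro ⟨z, rfl⟩
    rw [← stalkL_comp_apply, E.zero, stalkL_zero]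
    rfl

/-- additivity of the length of stalks in short exact sequences -/
theorem length_stalk_add (E : ShortComplex X.Modules) (hE : E.ShortExact) (y : X) :
    Module.length (X.presheaf.stalk y) (E.X₂.presheaf.stalk y) =
      Module.length (X.presheaf.stalk y) (E.X₁.presheaf.stalk y) +
        Module.length (X.presheaf.stalk y) (E.X₃.presheaf.stalk y) := by
  have := hE.mono_f
  have := hE.epi_g
  exact Module.length_eq_add_of_exact (stalkL E.f y) (stalkL E.g y)
    (stalkL_injective_of_mono E.f y) (stalkL_surjective_of_epi E.g y) (stalkL_exact E hE y)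

end Groth.Agent.Lib.Helper4.Dev
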