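import Mathlib
import Groth.Agent.Lib.Helper23QCohExt
import Groth.Agent.Lib.Helper23QCohLocal
import Groth.Agent.Lib.Helper23QCohExtend
import Groth.Agent.Lib.Helper2QCoh

/-!
# Realizing linear maps of sections over an affine open by correspondences of quasi-coherent modules (helper4)

* `exists_hom_spec`, `exists_hom_spec'`: morphisms of quasi-coherent modules on `Spec R` from `R`-linear maps of
  global sections.
* `exists_graph`: for a quasi-compact open immersion `j : Y ⟶ X`, quasi-coherent `A`, `B` on `X` and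
  `β : A|_Y ⟶ B|_Y` there is a quasi-coherent `H` with `p₁ : H ⟶ A`, `p₂ : H ⟶ B`, `p₁|_Y` an isomorphism and
  `p₂|_Y = p₁|_Y ≫ β`, and `(p₁, p₂)` jointly monic.
* `toU`, `ofU`: transport between `Γ(E|_{Spec Γ(X,U)}, ⊤)` and `Γ(E, U)` for an affine open `U`.
* `exists_graph_of_linear`: the same for a `Γ(X,U)`-linear map `h : Γ(A,U) → Γ(B,U)`, `U` affine open:
  `p₁` is bijective on sections over `U` and `p₂ = h ∘ p₁` on sections over `U`.
-/

set_option autoImplicit false
set_option linter.style.haveILetI false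
universe u
open CategoryTheory Limits AlgebraicGeometry TopologicalSpace Opposite

namespace Groth.Agent.Lib.Helper4.Dev
open Groth.Agent.Lib.Helper23.QCohLocal Groth.Agent.Lib.Helper2

/-- morphisms of quasi-coherent modules on `Spec R` from linear maps of global sections -/
theorem exists_hom_spec (R : CommRingCat.{u}) (N₁ N₂ : (Spec R).Modules) [N₁.IsQuasicoherent]
    [N₂.IsQuasicoherent] (h : (ΓF R).obj N₁ ⟶ (ΓF R).obj N₂) :
    ∃ β : N₁ ⟶ N₂, (ΓF R).map β = h := by
  let adj := tildeΓAdj R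
  haveI h1 : IsIso (adj.counit.app N₁) := by
    change IsIso N₁.fromTildeΓ
    exact isIso_fromTildeΓ N₁
  haveI : IsIso adj.unit := inferInstanceAs (IsIso (tilde.adjunction (R := R)).unit)
  refine ⟨inv (adj.counit.app N₁) ≫ (tilde.functor R).map h ≫ adj.counit.app N₂, ?_⟩
  have t1 := adj.right_triangle_components N₁
  have t2 := adj.right_triangle_components N₂
  have hn := adj.unit.naturality h
  simp only [Functor.id_obj, Functor.comp_obj, Functor.id_map, Functor.comp_map] at t1 t2 hn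
  rw [Functor.map_comp, Functor.map_comp, Functor.map_inv]
  rw [IsIso.inv_comp_eq]
  have e1 : (ΓF R).map (adj.counit.app N₁) = inv (adj.unit.app ((ΓF R).obj N₁)) :=
    (IsIso.eq_inv_of_hom_inv_id t1)
  rw [e1, IsIso.eq_inv_comp, ← Category.assoc, ← hn, Category.assoc, t2, Category.comp_id]

theorem exists_hom_spec' (R : CommRingCat.{u}) (N₁ N₂ : (Spec R).Modules) [N₁.IsQuasicoherent]
    [N₂.IsQuasicoherent] (h : Γ(N₁, ⊤) →ₗ[R] Γ(N₂, ⊤)) :
    ∃ β : N₁ ⟶ N₂, ∀ m, β.app ⊤ m = h m := by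
  let h0 := ModuleCat.ofHom h
  let h' : (ΓF R).obj N₁ ⟶ (ΓF R).obj N₂ := h0
  obtain ⟨β, hβ⟩ := exists_hom_spec R N₁ N₂ h'
  refine ⟨β, fun m => ?_⟩
  have := congrArg (fun f => f.hom m) hβ
  exact this

attribute [local instance] restrictFunctor_isRightAdjoint in
/-- graph construction: a morphism `β : A|_Y ⟶ B|_Y` over a quasi-compact open `j : Y ⟶ X` is realized by a
correspondence `A ⟵ H ⟶ B` of quasi-coherent modules with `H|_Y ≅ A|_Y`. -/
theorem exists_graph {X Y : Scheme.{u}} (j : Y ⟶ X) [IsOpenImmersion j] [QuasiCompact j]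
    (A B : X.Modules) [A.IsQuasicoherent] [B.IsQuasicoherent]
    (β : (Scheme.Modules.restrictFunctor j).obj A ⟶ (Scheme.Modules.restrictFunctor j).obj B) :
    ∃ (H : X.Modules) (p₁ : H ⟶ A) (p₂ : H ⟶ B), H.IsQuasicoherent ∧
      IsIso ((Scheme.Modules.restrictFunctor j).map p₁) ∧
      (Scheme.Modules.restrictFunctor j).map p₂ = (Scheme.Modules.restrictFunctor j).map p₁ ≫ β ∧
      Mono (biprod.lift p₁ p₂) := by
  let adj := Scheme.Modules.restrictAdjunction j
  let Rj := Scheme.Modules.restrictFunctor j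
  let Pj := Scheme.Modules.pushforward j
  let ηA : A ⟶ Pj.obj (Rj.obj A) := adj.unit.app A
  let ηB : B ⟶ Pj.obj (Rj.obj B) := adj.unit.app B
  haveI : (Rj.obj A).IsQuasicoherent := inferInstance
  haveI : (Rj.obj B).IsQuasicoherent := inferInstance
  haveI : (Pj.obj (Rj.obj A)).IsQuasicoherent := isQuasicoherent_pushforward j (Rj.obj A)
  haveI : (Pj.obj (Rj.obj B)).IsQuasicoherent := isQuasicoherent_pushforward j (Rj.obj B)
  let γ : A ⟶ Pj.obj (Rj.obj B) := ηA ≫ Pj.map β
  have hpb : IsPullback (pullback.fst γ ηB) (pullback.snd γ ηB) γ ηB := IsPullback.of_hasPullback _ _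
  have hpb' := hpb.map Rj
  have htriA : Rj.map ηA ≫ adj.counit.app (Rj.obj A) = 𝟙 _ := adj.left_triangle_components A
  have htriB : Rj.map ηB ≫ adj.counit.app (Rj.obj B) = 𝟙 _ := adj.left_triangle_components B
  haveI : IsIso (adj.counit.app (Rj.obj B)) := inferInstance
  haveI : IsIso (Rj.map ηB) := by
    have : Rj.map ηB = inv (adj.counit.app (Rj.obj B)) := IsIso.eq_inv_of_inv_hom_id htriB
    rw [this]; infer_instance
  haveI h1 : IsIso (Rj.map (pullback.fst γ ηB)) := hpb'.isIso_fst_of_isIso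
  have hnat : Rj.map (Pj.map β) ≫ adj.counit.app (Rj.obj B) = adj.counit.app (Rj.obj A) ≫ β :=
    adj.counit.naturality β
  have hw : Rj.map (pullback.fst γ ηB) ≫ Rj.map γ = Rj.map (pullback.snd γ ηB) ≫ Rj.map ηB := hpb'.w
  have hγ : Rj.map γ ≫ adj.counit.app (Rj.obj B) = β := by
    simp only [γ, Functor.map_comp, Category.assoc]
    rw [hnat, ← Category.assoc, htriA, Category.id_comp]
  refine ⟨pullback γ ηB, pullback.fst γ ηB, pullback.snd γ ηB, isQuasicoherent_pullback _ _, h1, ?_, ?_⟩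
  · calc Rj.map (pullback.snd γ ηB)
        = Rj.map (pullback.snd γ ηB) ≫ Rj.map ηB ≫ adj.counit.app (Rj.obj B) := by
          rw [htriB, Category.comp_id]
      _ = Rj.map (pullback.fst γ ηB) ≫ Rj.map γ ≫ adj.counit.app (Rj.obj B) := by
          rw [← Category.assoc, ← hw, Category.assoc]
      _ = Rj.map (pullback.fst γ ηB) ≫ β := by rw [hγ]
  · constructor
    intro T a b hab
    apply pullback.hom_ext
    · have := congrArg (fun f => f ≫ biprod.fst) hab
      simpa using this
    · have := congrArg (fun f => f ≫ biprod.snd) hab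
      simpa using this

variable {X : Scheme.{u}} {U : X.Opens}

theorem presheaf_map_map (E : X.Modules) {V W : X.Opens} (i : V ⟶ W) (k : W ⟶ V) (m : Γ(E, V)) :
    E.presheaf.map i.op (E.presheaf.map k.op m) = m := by
  rw [← ConcreteCategory.comp_apply, ← Functor.map_comp]
  have : k.op ≫ i.op = 𝟙 _ := Subsingleton.elim _ _
  rw [this, E.presheaf.map_id]
  rfl

theorem ring_map_map {V W : X.Opens} (i : V ⟶ W) (k : W ⟶ V) (r : Γ(X, V)) :
    X.presheaf.map i.op (X.presheaf.map k.op r) = r := by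
  rw [← ConcreteCategory.comp_apply, ← Functor.map_comp]
  have : k.op ≫ i.op = 𝟙 _ := Subsingleton.elim _ _
  rw [this, X.presheaf.map_id]
  rfl

theorem hom_app_map {E F : X.Modules} (φ : E ⟶ F) {V W : X.Opens} (i : V ⟶ W) (m : Γ(E, W)) :
    φ.app V (E.presheaf.map i.op m) = F.presheaf.map i.op (φ.app W m) :=
  congr($((Scheme.Modules.Hom.mapPresheaf φ).naturality i.op) m)

section transport
variable (hU : IsAffineOpen U)

theorem image_top_fromSpec : hU.fromSpec ''ᵁ ⊤ = U := by
  rw [Scheme.Hom.image_top_eq_opensRange, hU.opensRange_fromSpec]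

/-- sections of the restriction to `Spec Γ(X,U)` over `⊤`, to sections over `U` -/
noncomputable def toU (E : X.Modules) : Γ(E.restrict hU.fromSpec, ⊤) →+ Γ(E, U) :=
  (E.presheaf.map (eqToHom (image_top_fromSpec hU).symm).op).hom.comp
    (E.restrictAppIso hU.fromSpec ⊤).hom.hom

/-- sections over `U` to sections of the restriction to `Spec Γ(X,U)` over `⊤` -/
noncomputable def ofU (E : X.Modules) : Γ(E, U) →+ Γ(E.restrict hU.fromSpec, ⊤) :=
  (E.restrictAppIso hU.fromSpec ⊤).inv.hom.comp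
    (E.presheaf.map (eqToHom (image_top_fromSpec hU)).op).hom

theorem toU_ofU (E : X.Modules) (m : Γ(E, U)) : toU hU E (ofU hU E m) = m :=
  presheaf_map_map E _ _ m

theorem ofU_toU (E : X.Modules) (m : Γ(E.restrict hU.fromSpec, ⊤)) : ofU hU E (toU hU E m) = m :=
  presheaf_map_map E _ _ _

theorem toU_smul (E : X.Modules) (r : Γ(X, U)) (m : Γ(E.restrict hU.fromSpec, ⊤)) :
    toU hU E (r • m) = r • toU hU E m := by
  have h1 := QCoh.restrict_fromSpec_smul hU E ⊤ r m
  refine (congrArg (E.presheaf.map (eqToHom (image_top_fromSpec hU).symm).op) h1).trans ?_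
  rw [Scheme.Modules.map_smul]
  congr 1
  exact ring_map_map _ _ r

theorem ofU_smul (E : X.Modules) (r : Γ(X, U)) (m : Γ(E, U)) :
    ofU hU E (r • m) = r • ofU hU E m := by
  have h1 := toU_smul hU E r (ofU hU E m)
  rw [toU_ofU] at h1
  rw [← h1, ofU_toU]

theorem toU_app {E F : X.Modules} (φ : E ⟶ F) (m : Γ(E.restrict hU.fromSpec, ⊤)) :
    toU hU F (((Scheme.Modules.restrictFunctor hU.fromSpec).map φ).app ⊤ m) =
      φ.app U (toU hU E m) :=
  (hom_app_map φ (eqToHom (image_top_fromSpec hU).symm) _).symm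

end transport

/-- a linear map of sections over an affine open `U` is realized by a correspondence `A ⟵ H ⟶ B` of
quasi-coherent modules which is bijective on sections over `U` on the left. -/
theorem exists_graph_of_linear (hU : IsAffineOpen U) [QuasiCompact hU.fromSpec]
    (A B : X.Modules) [A.IsQuasicoherent] [B.IsQuasicoherent]
    (h : Γ(A, U) →ₗ[Γ(X, U)] Γ(B, U)) :
    ∃ (H : X.Modules) (p₁ : H ⟶ A) (p₂ : H ⟶ B), H.IsQuasicoherent ∧
      Function.Bijective (p₁.app U) ∧ (∀ m, p₂.app U m = h (p₁.app U m)) ∧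
      Mono (biprod.lift p₁ p₂) := by
  let Rj := Scheme.Modules.restrictFunctor hU.fromSpec
  let h' : Γ(Rj.obj A, ⊤) →ₗ[Γ(X, U)] Γ(Rj.obj B, ⊤) :=
    { toFun := fun m => ofU hU B (h (toU hU A m))
      map_add' := fun a b => by rw [map_add, map_add, map_add]
      map_smul' := fun r m => by
        rw [toU_smul, map_smul, ofU_smul]
        rfl }
  obtain ⟨β, hβ⟩ := exists_hom_spec' Γ(X, U) (Rj.obj A) (Rj.obj B) h'
  obtain ⟨H, p₁, p₂, hH, hiso, hcomp, hmono⟩ := exists_graph hU.fromSpec A B β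
  refine ⟨H, p₁, p₂, hH, ?_, ?_, hmono⟩
  · have hb : Function.Bijective ((Rj.map p₁).app ⊤) :=
      ConcreteCategory.bijective_of_isIso ((Rj.map p₁).app ⊤)
    constructor
    · intro a b hab
      have h1 : (Rj.map p₁).app ⊤ (ofU hU H a) = (Rj.map p₁).app ⊤ (ofU hU H b) := by
        have := toU_app hU p₁ (ofU hU H a)
        have h2 := toU_app hU p₁ (ofU hU H b)
        rw [toU_ofU] at this h2
        rw [← ofU_toU hU A ((Rj.map p₁).app ⊤ (ofU hU H a)), this, hab, ← h2, ofU_toU]
      have := congrArg (toU hU H) (hb.1 h1)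
      rwa [toU_ofU, toU_ofU] at this
    · intro a
      obtain ⟨b, hb⟩ := hb.2 (ofU hU A a)
      refine ⟨toU hU H b, ?_⟩
      rw [← toU_app, hb, toU_ofU]
  · intro m
    have h1 : (Rj.map p₂).app ⊤ (ofU hU H m) = β.app ⊤ ((Rj.map p₁).app ⊤ (ofU hU H m)) :=
      congrArg (fun φ => φ.app ⊤ (ofU hU H m)) hcomp
    rw [hβ] at h1
    have h2 : (Rj.map p₂).app ⊤ (ofU hU H m) =
        ofU hU B (h (toU hU A ((Rj.map p₁).app ⊤ (ofU hU H m)))) := h1
    rw [toU_app, toU_ofU] at h2
    have := congrArg (toU hU B) h2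
    rwa [toU_app, toU_ofU, toU_ofU] at this

end Groth.Agent.Lib.Helper4.Dev
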