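import Mathlib
import Groth.Prelude.Def_Coh
import Groth.Prelude.Def_CohB1
import Groth.Agent.Lib.Helper4DevA
import Groth.Agent.Lib.Helper4DevB
import Groth.Agent.Lib.Helper23FinTypeLocal

/-!
# Realization of stalk maps by correspondences of coherent modules (helper4)

* `stalkL_bijective_of_app`: bijectivity on sections over an affine open implies bijectivity on stalks.
* `exists_graph_of_stalk`: on a locally Noetherian scheme, a linear map `θ : A_y → B_y` between stalks of
  quasi-coherent modules (`A` of finite type) is realized, up to a unit, by a correspondence `A ⟵ H ⟶ B` with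
  `H ⟶ A` bijective on stalks at `y`.
* `stalkL_add`, `subsingleton_stalk_of_mono`, `subsingleton_stalk_of_epi`, `subsingleton_stalk_biprod`.
* `isFiniteType_biprod'`, `exists_graph_of_stalk_coh` (coherent version with support control).
-/

set_option autoImplicit false
set_option linter.style.haveILetI false
universe u
open CategoryTheory Limits AlgebraicGeometry TopologicalSpace Opposite

namespace Groth.Agent.Lib.Helper4.Dev
open Groth.Agent.Lib.Helper23.QCohLocal Groth.Agent.Lib.Helper2 Groth.Agent.Lib.Helper23.FinType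
  Groth.Agent.Lib.Helper2.FlatOver

variable {X : Scheme.{u}}

/-- bijectivity on sections over an affine open `U ∋ y` implies bijectivity on stalks at `y`
(quasi-coherent modules) -/
theorem stalkL_bijective_of_app {U : X.Opens} (hU : IsAffineOpen U) {H A : X.Modules}
    [H.IsQuasicoherent] [A.IsQuasicoherent] (p : H ⟶ A) (hp : Function.Bijective (p.app U))
    (y : X) (hy : y ∈ U) : Function.Bijective (stalkL p y) := by
  constructor
  · rw [injective_iff_map_eq_zero]
    intro x hx
    obtain ⟨s, m, hs, hsm⟩ := QCoh.exists_smul_eq_germ hU H y hy x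
    rw [Scheme.mem_basicOpen X s y hy] at hs
    have h1 : stalkL p y (X.presheaf.germ U y hy s • x) = 0 := by rw [map_smul, hx, smul_zero]
    rw [hsm, stalkL_germ] at h1
    obtain ⟨t, ht, htm⟩ := QCoh.exists_smul_eq_zero_of_germ_eq_zero hU A y hy _ h1
    rw [Scheme.mem_basicOpen X t y hy] at ht
    rw [← Scheme.Modules.Hom.app_smul] at htm
    have h2 : t • m = 0 := hp.1 (htm.trans (map_zero _).symm)
    have h3 : X.presheaf.germ U y hy t • H.presheaf.germ U y hy m = 0 := by
      rw [← QCoh.germ_smul, h2, map_zero]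
    have h4 : H.presheaf.germ U y hy m = 0 := by
      have := congrArg (fun z => (ht.unit⁻¹ : (X.presheaf.stalk y)ˣ).1 • z) h3
      simpa [smul_smul] using this
    rw [h4] at hsm
    have := congrArg (fun z => (hs.unit⁻¹ : (X.presheaf.stalk y)ˣ).1 • z) hsm
    simpa [smul_smul] using this
  · intro z
    obtain ⟨s, a, hs, hsa⟩ := QCoh.exists_smul_eq_germ hU A y hy z
    rw [Scheme.mem_basicOpen X s y hy] at hs
    obtain ⟨m, rfl⟩ := hp.2 a
    refine ⟨(hs.unit⁻¹ : (X.presheaf.stalk y)ˣ).1 • H.presheaf.germ U y hy m, ?_⟩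
    rw [map_smul, stalkL_germ, ← hsa, smul_smul]
    simp

/-- **Realization of stalk maps**: on a locally Noetherian scheme, a linear map `θ : A_y → B_y` between stalks of
quasi-coherent modules (`A` of finite type) is realized, up to a unit, by a correspondence `A ⟵ H ⟶ B`
with `H ⟶ A` bijective on stalks at `y`. -/
theorem exists_graph_of_stalk [IsLocallyNoetherian X] (A B : X.Modules) [A.IsQuasicoherent]
    [B.IsQuasicoherent] [SheafOfModules.IsFiniteType (R := X.ringCatSheaf) A]
    (y : X) (θ : A.presheaf.stalk y →ₗ[X.presheaf.stalk y] B.presheaf.stalk y) :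
    ∃ (H : X.Modules) (p₁ : H ⟶ A) (p₂ : H ⟶ B), H.IsQuasicoherent ∧
      Function.Bijective (stalkL p₁ y) ∧
      (∃ u : X.presheaf.stalk y, IsUnit u ∧ ∀ x, stalkL p₂ y x = u • θ (stalkL p₁ y x)) ∧
      Mono (biprod.lift p₁ p₂) := by
  obtain ⟨U, hU, hy, -⟩ := (Opens.isBasis_iff_nbhd.1 X.isBasis_affineOpens) (Opens.mem_top y)
  letI mA := moduleStalkSections A U y hy
  letI mB := moduleStalkSections B U y hy
  haveI locB : IsLocalizedModule (hU.primeIdealOf ⟨y, hy⟩).asIdeal.primeCompl (germₗ B U y hy) :=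
    isLocalizedModule_germ hU B y hy
  haveI : IsNoetherianRing Γ(X, U) := IsLocallyNoetherian.component_noetherian ⟨U, hU⟩
  haveI : Module.Finite Γ(X, U) Γ(A, U) := finite_of_isFiniteType A hU
  haveI : Module.FinitePresentation Γ(X, U) Γ(A, U) := Module.finitePresentation_of_finite _ _
  let g : Γ(A, U) →ₗ[Γ(X, U)] B.presheaf.stalk y :=
    { toFun := fun m => θ (A.presheaf.germ U y hy m)
      map_add' := fun a b => by rw [map_add, map_add]
      map_smul' := fun r m => by
        rw [QCoh.germ_smul, map_smul]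
        rfl }
  obtain ⟨h, s, hs⟩ := Module.FinitePresentation.exists_lift_of_isLocalizedModule
    (hU.primeIdealOf ⟨y, hy⟩).asIdeal.primeCompl (germₗ B U y hy) g
  obtain ⟨H, p₁, p₂, hH, hbij, hcomp, hmono⟩ := exists_graph_of_linear hU A B h
  have hsu : IsUnit (X.presheaf.germ U y hy s.1) := by
    rw [← Scheme.mem_basicOpen X s.1 y hy, mem_basicOpen_iff_notMem_primeIdealOf hU y hy]
    exact s.2
  refine ⟨H, p₁, p₂, hH, stalkL_bijective_of_app hU p₁ hbij y hy,
    ⟨X.presheaf.germ U y hy s.1, hsu, ?_⟩, hmono⟩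
  intro x
  obtain ⟨t, m, ht, htm⟩ := QCoh.exists_smul_eq_germ hU H y hy x
  rw [Scheme.mem_basicOpen X t y hy] at ht
  have h1 : B.presheaf.germ U y hy (h (p₁.app U m)) =
      X.presheaf.germ U y hy s.1 • θ (A.presheaf.germ U y hy (p₁.app U m)) :=
    congrArg (fun φ => φ (p₁.app U m)) hs
  have h2 : X.presheaf.germ U y hy t • stalkL p₂ y x =
      X.presheaf.germ U y hy t • (X.presheaf.germ U y hy s.1 • θ (stalkL p₁ y x)) := by
    rw [← map_smul, htm, stalkL_germ, hcomp, h1, ← stalkL_germ, ← htm, map_smul, map_smul, smul_comm]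
  exact ht.smul_left_cancel.1 h2

theorem stalkL_add {A B : X.Modules} (φ ψ : A ⟶ B) (y : X) :
    stalkL (φ + ψ) y = stalkL φ y + stalkL ψ y := by
  ext x
  obtain ⟨V, hyV, m, rfl⟩ := A.presheaf.exists_germ_eq x
  rw [LinearMap.add_apply, stalkL_germ, stalkL_germ, stalkL_germ, ← map_add]
  rfl

theorem subsingleton_stalk_of_mono {A B : X.Modules} (φ : A ⟶ B) [Mono φ] (x : X)
    (h : Subsingleton (B.presheaf.stalk x)) : Subsingleton (A.presheaf.stalk x) :=
  (stalkL_injective_of_mono φ x).subsingleton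

theorem subsingleton_stalk_of_epi {A B : X.Modules} (φ : A ⟶ B) [Epi φ] (x : X)
    (h : Subsingleton (A.presheaf.stalk x)) : Subsingleton (B.presheaf.stalk x) :=
  (stalkL_surjective_of_epi φ x).subsingleton

theorem subsingleton_stalk_biprod (A B : X.Modules) (x : X) (hA : Subsingleton (A.presheaf.stalk x))
    (hB : Subsingleton (B.presheaf.stalk x)) : Subsingleton ((A ⊞ B : X.Modules).presheaf.stalk x) := by
  refine ⟨fun a b => ?_⟩
  have key : ∀ z : (A ⊞ B : X.Modules).presheaf.stalk x, z = 0 := by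
    intro z
    have h1 : (biprod.fst ≫ biprod.inl + biprod.snd ≫ biprod.inr : A ⊞ B ⟶ A ⊞ B) = 𝟙 _ := biprod.total
    have h2 : stalkL (𝟙 (A ⊞ B : X.Modules)) x z = z := by rw [stalkL_id]; rfl
    rw [← h1, stalkL_add, LinearMap.add_apply, stalkL_comp_apply, stalkL_comp_apply,
      Subsingleton.elim (stalkL (biprod.fst : A ⊞ B ⟶ A) x z) 0,
      Subsingleton.elim (stalkL (biprod.snd : A ⊞ B ⟶ B) x z) 0, map_zero, map_zero, add_zero] at h2
    exact h2.symm
  rw [key a, key b]

/-- a binary direct sum of finite type quasi-coherent modules is of finite type -/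
theorem isFiniteType_biprod' (A B : X.Modules) [A.IsQuasicoherent] [B.IsQuasicoherent]
    [SheafOfModules.IsFiniteType (R := X.ringCatSheaf) A] [SheafOfModules.IsFiniteType (R := X.ringCatSheaf) B] :
    SheafOfModules.IsFiniteType (R := X.ringCatSheaf) (A ⊞ B : X.Modules) := by
  have : (A ⊞ B : X.Modules).IsQuasicoherent := isQuasicoherent_biprod A B
  rw [isFiniteType_iff_forall_affine]
  intro U hU
  have : Module.Finite Γ(X, U) Γ(A, U) := finite_of_isFiniteType A hU
  have : Module.Finite Γ(X, U) Γ(B, U) := finite_of_isFiniteType B hU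
  let fA : Γ(A, U) →ₗ[Γ(X, U)] Γ((A ⊞ B : X.Modules), U) :=
    { toFun := fun x => (biprod.inl : A ⟶ A ⊞ B).app U x
      map_add' := fun x y => map_add _ x y
      map_smul' := fun r x => Scheme.Modules.Hom.app_smul (biprod.inl : A ⟶ A ⊞ B) r x }
  let fB : Γ(B, U) →ₗ[Γ(X, U)] Γ((A ⊞ B : X.Modules), U) :=
    { toFun := fun x => (biprod.inr : B ⟶ A ⊞ B).app U x
      map_add' := fun x y => map_add _ x y
      map_smul' := fun r x => Scheme.Modules.Hom.app_smul (biprod.inr : B ⟶ A ⊞ B) r x }
  refine Module.Finite.of_surjective (fA.coprod fB) ?_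
  intro s
  refine ⟨((biprod.fst : A ⊞ B ⟶ A).app U s, (biprod.snd : A ⊞ B ⟶ B).app U s), ?_⟩
  rw [LinearMap.coprod_apply]
  have h1 : (biprod.fst ≫ biprod.inl + biprod.snd ≫ biprod.inr : A ⊞ B ⟶ A ⊞ B) = 𝟙 _ := biprod.total
  have h2 := congrArg (fun φ : (A ⊞ B : X.Modules) ⟶ (A ⊞ B : X.Modules) => φ.app U s) h1
  simp only [Scheme.Modules.Hom.add_app, Scheme.Modules.Hom.comp_app, Scheme.Modules.Hom.id_app] at h2
  exact h2

/-- coherent version of `exists_graph_of_stalk`, with support control -/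
theorem exists_graph_of_stalk_coh [IsLocallyNoetherian X] (A B : X.Modules) (hA : Coh.IsCoh A)
    (hB : Coh.IsCoh B) (y : X) (θ : A.presheaf.stalk y →ₗ[X.presheaf.stalk y] B.presheaf.stalk y) :
    ∃ (H : X.Modules) (p₁ : H ⟶ A) (p₂ : H ⟶ B), Coh.IsCoh H ∧
      Function.Bijective (stalkL p₁ y) ∧
      (∃ u : X.presheaf.stalk y, IsUnit u ∧ ∀ x, stalkL p₂ y x = u • θ (stalkL p₁ y x)) ∧
      (∀ x : X, Subsingleton (A.presheaf.stalk x) → Subsingleton (B.presheaf.stalk x) →
        Subsingleton (H.presheaf.stalk x)) := by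
  haveI : A.IsQuasicoherent := hA.1
  haveI : B.IsQuasicoherent := hB.1
  haveI : SheafOfModules.IsFiniteType (R := X.ringCatSheaf) A := hA.2
  haveI : SheafOfModules.IsFiniteType (R := X.ringCatSheaf) B := hB.2
  obtain ⟨H, p₁, p₂, hH, hbij, hu, hmono⟩ := exists_graph_of_stalk A B y θ
  haveI : (A ⊞ B : X.Modules).IsQuasicoherent := isQuasicoherent_biprod A B
  haveI : SheafOfModules.IsFiniteType (R := X.ringCatSheaf) (A ⊞ B : X.Modules) := isFiniteType_biprod' A B
  refine ⟨H, p₁, p₂, ⟨hH, isFiniteType_of_mono (biprod.lift p₁ p₂)⟩, hbij, hu, fun x h1 h2 => ?_⟩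
  exact subsingleton_stalk_of_mono (biprod.lift p₁ p₂) x (subsingleton_stalk_biprod A B x h1 h2)

end Groth.Agent.Lib.Helper4.Dev
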