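import Mathlib
import Groth.Agent.Lib.Helper4DevC
import Groth.Agent.Lib.Helper5SuppDim

/-!
# Dévissage of coherent modules at an irreducible closed subset (helper4)

* `isFiniteLength_stalk`: the stalk at `y` of a coherent module supported in `closure {y}` has finite length.
* algebra over a local ring: `nonempty_linearEquiv_of_length_eq_one`, `exists_surjective_to_residue`,
  `exists_injective_of_residue`.
* coherent plumbing: `isCoh_kernel`, `isCoh_cokernel`, `isCoh_image`, `support_subset_of_mono`,
  `support_subset_of_epi`.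
* `Exact23 K Y`: `K` is isomorphism invariant and satisfies two-out-of-three on short exact sequences of coherent
  modules with middle term supported in `Y`.
* `K_iff_of_stalk_bijective`, `K_of_stalk_equiv`, `K_of_length`, `devissage_irreducible`.
-/

set_option autoImplicit false
set_option linter.style.haveILetI false
universe u
open CategoryTheory Limits AlgebraicGeometry TopologicalSpace Opposite

namespace Groth.Agent.Lib.Helper4.Dev
open Groth.Agent.Lib.Helper23.QCohLocal Groth.Agent.Lib.Helper2 Groth.Agent.Lib.Helper23.FinType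
  Groth.Agent.Lib.Helper2.FlatOver

variable {X : Scheme.{u}}

/-- on a locally Noetherian scheme, the stalk at `y` of a coherent module supported in the closure of `y` has
finite length -/
theorem isFiniteLength_stalk [IsLocallyNoetherian X] (F : X.Modules) (hF : Coh.IsCoh F) (y : X)
    (hsupp : CohB1.support F ⊆ closure {y}) :
    IsFiniteLength (X.presheaf.stalk y) (F.presheaf.stalk y) := by
  haveI : F.IsQuasicoherent := hF.1
  haveI : SheafOfModules.IsFiniteType (R := X.ringCatSheaf) F := hF.2
  obtain ⟨U, hU0, hy, -⟩ := (Opens.isBasis_iff_nbhd.1 X.isBasis_affineOpens) (Opens.mem_top y)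
  have hU : IsAffineOpen U := hU0
  clear hU0
  letI mF := moduleStalkSections F U y hy
  haveI locF : IsLocalizedModule (hU.primeIdealOf ⟨y, hy⟩).asIdeal.primeCompl (germₗ F U y hy) :=
    isLocalizedModule_germ hU F y hy
  haveI : IsNoetherianRing Γ(X, U) := IsLocallyNoetherian.component_noetherian ⟨U, hU⟩
  haveI : Module.Finite Γ(X, U) Γ(F, U) := finite_of_isFiniteType F hU
  letI alg : Algebra Γ(X, U) (X.presheaf.stalk y) := TopCat.Presheaf.algebra_section_stalk X.presheaf ⟨y, hy⟩
  haveI locR : IsLocalization.AtPrime (X.presheaf.stalk y) (hU.primeIdealOf ⟨y, hy⟩).asIdeal :=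
    hU.isLocalization_stalk ⟨y, hy⟩
  haveI : IsScalarTower Γ(X, U) (X.presheaf.stalk y) (F.presheaf.stalk y) :=
    IsScalarTower.of_algebraMap_smul fun r x => rfl
  haveI : Module.Finite (X.presheaf.stalk y) (F.presheaf.stalk y) :=
    Module.Finite.of_isLocalizedModule (hU.primeIdealOf ⟨y, hy⟩).asIdeal.primeCompl (germₗ F U y hy)
  apply Groth.Agent.Lib.Helper5.isFiniteLength_of_supportDim_le_zero
  apply Groth.Agent.Lib.Helper5.supportDim_le_zero_of_forall_isMaximal
  intro q hq
  rw [Module.mem_support_iff_exists_annihilator] at hq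
  obtain ⟨x, hx⟩ := hq
  obtain ⟨s, m, hs, hsm⟩ := QCoh.exists_smul_eq_germ hU F y hy x
  rw [Scheme.mem_basicOpen X s y hy] at hs
  -- every prime containing `ann m` contains the prime of `y`
  have h1 : PrimeSpectrum.zeroLocus (QCoh.ann F m : Set Γ(X, U)) ⊆
      PrimeSpectrum.zeroLocus ((hU.primeIdealOf ⟨y, hy⟩).asIdeal : Set Γ(X, U)) := by
    intro p hp
    have hne := QCoh.germ_fromSpec_ne_zero hU F m p hp
    have hmem : hU.fromSpec p ∈ CohB1.support F := by
      intro hsub
      exact hne (Subsingleton.elim _ _)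
    have hspec : y ⤳ hU.fromSpec p := specializes_iff_mem_closure.2 (hsupp hmem)
    have := QCoh.primeIdealOf_le_of_specializes hU (hU.fromSpec p) y (QCoh.fromSpec_mem hU p) hy hspec
    rw [QCoh.primeIdealOf_fromSpec] at this
    exact this
  rw [PrimeSpectrum.zeroLocus_subset_zeroLocus_iff] at h1
  obtain ⟨k, hk⟩ := Ideal.exists_pow_le_of_le_radical_of_fg h1 (IsNoetherian.noetherian _)
  -- the maximal ideal is contained in `q`
  have hle : IsLocalRing.maximalIdeal (X.presheaf.stalk y) ≤ q.asIdeal := by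
    rw [← IsLocalization.AtPrime.map_eq_maximalIdeal (hU.primeIdealOf ⟨y, hy⟩).asIdeal
      (X.presheaf.stalk y), Ideal.map_le_iff_le_comap]
    intro b hb
    rw [Ideal.mem_comap]
    have hbk : b ^ k ∈ QCoh.ann F m := hk (Ideal.pow_mem_pow hb k)
    rw [QCoh.mem_ann] at hbk
    have h2 : (algebraMap Γ(X, U) (X.presheaf.stalk y) b) ^ k ∈ (Submodule.span _ {x}).annihilator := by
      rw [Submodule.mem_annihilator_span_singleton]
      have h3 : X.presheaf.germ U y hy s • ((algebraMap Γ(X, U) (X.presheaf.stalk y) b) ^ k • x) = 0 := by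
        rw [smul_comm, hsm]
        change (X.presheaf.germ U y hy b) ^ k • _ = 0
        rw [← map_pow, ← QCoh.germ_smul, hbk, map_zero]
      exact QCoh.germ_smul_eq_zero_of_isUnit hs h3
    exact q.2.mem_of_pow_mem k (hx h2)
  have : q.asIdeal = IsLocalRing.maximalIdeal (X.presheaf.stalk y) :=
    ((IsLocalRing.maximalIdeal.isMaximal _).eq_of_le q.2.ne_top hle).symm
  rw [this]
  exact IsLocalRing.maximalIdeal.isMaximal _

section Alg
variable {R : Type*} [CommRing R] [IsLocalRing R] {M : Type*} [AddCommGroup M] [Module R M]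

open IsLocalRing

theorem isSimpleModule_quot_maximalIdeal : IsSimpleModule R (R ⧸ maximalIdeal R) := by
  rw [isSimpleModule_iff_quot_maximal]
  exact ⟨maximalIdeal R, inferInstance, ⟨LinearEquiv.refl _ _⟩⟩

theorem nonempty_linearEquiv_of_isSimpleModule (h : IsSimpleModule R M) :
    Nonempty (M ≃ₗ[R] R ⧸ maximalIdeal R) := by
  obtain ⟨I, hI, ⟨e⟩⟩ := isSimpleModule_iff_quot_maximal.1 h
  have := IsLocalRing.eq_maximalIdeal hI
  subst this
  exact ⟨e⟩

theorem nonempty_linearEquiv_of_length_eq_one (h : Module.length R M = 1) :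
    Nonempty (M ≃ₗ[R] R ⧸ maximalIdeal R) :=
  nonempty_linearEquiv_of_isSimpleModule (Module.length_eq_one_iff.1 h)

theorem exists_surjective_to_residue [Nontrivial M] [Module.Finite R M] :
    ∃ f : M →ₗ[R] R ⧸ maximalIdeal R, Function.Surjective f := by
  obtain ⟨N, hN⟩ : ∃ N : Submodule R M, IsCoatom N := by
    obtain h | ⟨N, hN, -⟩ := eq_top_or_exists_le_coatom (⊥ : Submodule R M)
    · exact absurd h bot_ne_top
    · exact ⟨N, hN⟩
  have hs : IsSimpleModule R (M ⧸ N) := isSimpleModule_iff_isCoatom.2 hN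
  obtain ⟨e⟩ := nonempty_linearEquiv_of_isSimpleModule hs
  exact ⟨e.toLinearMap ∘ₗ N.mkQ, e.surjective.comp (Submodule.mkQ_surjective N)⟩

theorem exists_injective_of_residue (g₀ : M) (hg : g₀ ≠ 0) (hm : ∀ r ∈ maximalIdeal R, r • g₀ = 0) :
    ∃ ψ : R ⧸ maximalIdeal R →ₗ[R] M, Function.Injective ψ := by
  have hle : (maximalIdeal R : Submodule R R) ≤ LinearMap.ker (LinearMap.toSpanSingleton R M g₀) := by
    intro r hr
    rw [LinearMap.mem_ker, LinearMap.toSpanSingleton_apply]
    exact hm r hr
  let ψ : R ⧸ maximalIdeal R →ₗ[R] M := Submodule.liftQ _ (LinearMap.toSpanSingleton R M g₀) hle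
  have := isSimpleModule_quot_maximalIdeal (R := R)
  refine ⟨ψ, ?_⟩
  rcases LinearMap.injective_or_eq_zero ψ with h | h
  · exact h
  · exfalso
    apply hg
    have : ψ (Submodule.Quotient.mk 1) = g₀ := by
      change Submodule.liftQ _ (LinearMap.toSpanSingleton R M g₀) hle (Submodule.Quotient.mk 1) = g₀
      rw [Submodule.liftQ_apply, LinearMap.toSpanSingleton_apply, one_smul]
    rw [← this, h, LinearMap.zero_apply]

end Alg

section Plumbing

theorem isCoh_kernel [IsLocallyNoetherian X] {A B : X.Modules} (φ : A ⟶ B) (hA : Coh.IsCoh A)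
    (hB : Coh.IsCoh B) : Coh.IsCoh (kernel φ) := by
  haveI : A.IsQuasicoherent := hA.1
  haveI : B.IsQuasicoherent := hB.1
  haveI : SheafOfModules.IsFiniteType (R := X.ringCatSheaf) A := hA.2
  haveI : (kernel φ).IsQuasicoherent := isQuasicoherent_kernel φ
  exact ⟨inferInstance, isFiniteType_of_mono (kernel.ι φ)⟩

theorem isCoh_cokernel {A B : X.Modules} (φ : A ⟶ B) (hA : Coh.IsCoh A)
    (hB : Coh.IsCoh B) : Coh.IsCoh (cokernel φ) := by
  haveI : A.IsQuasicoherent := hA.1
  haveI : B.IsQuasicoherent := hB.1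
  haveI : SheafOfModules.IsFiniteType (R := X.ringCatSheaf) B := hB.2
  haveI : (cokernel φ).IsQuasicoherent := isQuasicoherent_cokernel φ
  exact ⟨inferInstance, isFiniteType_of_epi (cokernel.π φ)⟩

theorem isCoh_image {A B : X.Modules} (φ : A ⟶ B) (hA : Coh.IsCoh A)
    (hB : Coh.IsCoh B) : Coh.IsCoh (Abelian.image φ) := by
  haveI : A.IsQuasicoherent := hA.1
  haveI : B.IsQuasicoherent := hB.1
  haveI : SheafOfModules.IsFiniteType (R := X.ringCatSheaf) A := hA.2
  haveI : (cokernel φ).IsQuasicoherent := isQuasicoherent_cokernel φ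
  haveI hI : (Abelian.image φ).IsQuasicoherent := isQuasicoherent_kernel (cokernel.π φ)
  haveI : Epi (Abelian.factorThruImage φ) := inferInstance
  exact ⟨hI, isFiniteType_of_epi (Abelian.factorThruImage φ)⟩

theorem isCoh_of_iso {A B : X.Modules} (e : A ≅ B) (hA : Coh.IsCoh A) : Coh.IsCoh B := by
  haveI : SheafOfModules.IsFiniteType (R := X.ringCatSheaf) A := hA.2
  exact ⟨(SheafOfModules.isQuasicoherent X.ringCatSheaf).prop_of_iso e hA.1, isFiniteType_of_iso e⟩

theorem support_subset_of_mono {A B : X.Modules} (φ : A ⟶ B) [Mono φ] :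
    CohB1.support A ⊆ CohB1.support B := fun x hx hB =>
  hx (subsingleton_stalk_of_mono φ x hB)

theorem support_subset_of_epi {A B : X.Modules} (φ : A ⟶ B) [Epi φ] :
    CohB1.support B ⊆ CohB1.support A := fun x hx hA =>
  hx (subsingleton_stalk_of_epi φ x hA)

theorem subsingleton_stalk_of_notMem_support {A : X.Modules} {x : X} (hx : x ∉ CohB1.support A) :
    Subsingleton (A.presheaf.stalk x) := not_not.1 hx

/-- the short exact sequence `0 → ker e → A → B → 0` of an epimorphism -/
noncomputable def sesOfEpi {A B : X.Modules} (e : A ⟶ B) : ShortComplex X.Modules :=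
  ShortComplex.mk (kernel.ι e) e (kernel.condition e)

theorem sesOfEpi_shortExact {A B : X.Modules} (e : A ⟶ B) [Epi e] : (sesOfEpi e).ShortExact :=
  { exact := ShortComplex.exact_kernel e
    mono_f := inferInstanceAs (Mono (kernel.ι e))
    epi_g := inferInstanceAs (Epi e) }

/-- the short exact sequence `0 → A → B → coker m → 0` of a monomorphism -/
noncomputable def sesOfMono {A B : X.Modules} (m : A ⟶ B) : ShortComplex X.Modules :=
  ShortComplex.mk m (cokernel.π m) (cokernel.condition m)

theorem sesOfMono_shortExact {A B : X.Modules} (m : A ⟶ B) [Mono m] : (sesOfMono m).ShortExact :=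
  { exact := ShortComplex.exact_cokernel m
    mono_f := inferInstanceAs (Mono m)
    epi_g := inferInstanceAs (Epi (cokernel.π m)) }

theorem subsingleton_stalk_kernel_of_injective {A B : X.Modules} (e : A ⟶ B) (y : X)
    (h : Function.Injective (stalkL e y)) : Subsingleton ((kernel e).presheaf.stalk y) := by
  refine ⟨fun a b => ?_⟩
  apply stalkL_injective_of_mono (kernel.ι e) y
  apply h
  rw [← stalkL_comp_apply, ← stalkL_comp_apply, kernel.condition, stalkL_zero]
  rfl

theorem subsingleton_stalk_cokernel_of_surjective {A B : X.Modules} (m : A ⟶ B) (y : X)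
    (h : Function.Surjective (stalkL m y)) : Subsingleton ((cokernel m).presheaf.stalk y) := by
  have key : ∀ z : (cokernel m).presheaf.stalk y, z = 0 := by
    intro z
    obtain ⟨b, rfl⟩ := stalkL_surjective_of_epi (cokernel.π m) y z
    obtain ⟨a, rfl⟩ := h b
    rw [← stalkL_comp_apply, cokernel.condition, stalkL_zero]
    rfl
  exact ⟨fun a b => by rw [key a, key b]⟩

end Plumbing

/-- `K` is isomorphism invariant and satisfies two-out-of-three on short exact sequences of coherent modules whose
middle term is supported in `Y`. -/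
structure Exact23 (K : X.Modules → Prop) (Y : Set X) : Prop where
  iso : ∀ M N : X.Modules, Nonempty (M ≅ N) → K M → K N
  tot : ∀ S : ShortComplex X.Modules, S.ShortExact → Coh.IsCoh S.X₁ → Coh.IsCoh S.X₂ → Coh.IsCoh S.X₃ →
    CohB1.support S.X₂ ⊆ Y →
    (K S.X₁ → K S.X₂ → K S.X₃) ∧ (K S.X₁ → K S.X₃ → K S.X₂) ∧ (K S.X₂ → K S.X₃ → K S.X₁)

section Master
variable [IsLocallyNoetherian X] {K : X.Modules → Prop} {Y : Set X}

theorem K_iff_of_epi (hK : Exact23 K Y) {A B : X.Modules} (e : A ⟶ B) [Epi e] (hA : Coh.IsCoh A)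
    (hB : Coh.IsCoh B) (hsA : CohB1.support A ⊆ Y) (hker : K (kernel e)) : K A ↔ K B := by
  have h := hK.tot (sesOfEpi e) (sesOfEpi_shortExact e) (isCoh_kernel e hA hB) hA hB hsA
  exact ⟨fun hKA => h.1 hker hKA, fun hKB => h.2.1 hker hKB⟩

omit [IsLocallyNoetherian X] in
theorem K_iff_of_mono (hK : Exact23 K Y) {A B : X.Modules} (m : A ⟶ B) [Mono m] (hA : Coh.IsCoh A)
    (hB : Coh.IsCoh B) (hsB : CohB1.support B ⊆ Y) (hcoker : K (cokernel m)) : K A ↔ K B := by
  have h := hK.tot (sesOfMono m) (sesOfMono_shortExact m) hA hB (isCoh_cokernel m hA hB) hsB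
  exact ⟨fun hKA => h.2.1 hKA hcoker, fun hKB => h.2.2 hKB hcoker⟩

/-- a morphism of coherent modules supported in `Y` which is bijective on stalks at `y` does not change
membership in `K`, provided that coherent modules supported in `Y` with zero stalk at `y` are in `K`. -/
theorem K_iff_of_stalk_bijective (hK : Exact23 K Y) (y : X)
    (IH : ∀ E : X.Modules, Coh.IsCoh E → CohB1.support E ⊆ Y → Subsingleton (E.presheaf.stalk y) → K E)
    {A B : X.Modules} (φ : A ⟶ B) (hA : Coh.IsCoh A) (hB : Coh.IsCoh B) (hsA : CohB1.support A ⊆ Y)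
    (hsB : CohB1.support B ⊆ Y) (hφ : Function.Bijective (stalkL φ y)) : K A ↔ K B := by
  let e := Abelian.factorThruImage φ
  let m := Abelian.image.ι φ
  have hfac : e ≫ m = φ := Abelian.image.fac φ
  haveI : Epi e := inferInstanceAs (Epi (Abelian.factorThruImage φ))
  haveI : Mono m := inferInstanceAs (Mono (Abelian.image.ι φ))
  have hI : Coh.IsCoh (Abelian.image φ) := isCoh_image φ hA hB
  have hcomp : ∀ x, stalkL φ y x = stalkL m y (stalkL e y x) := fun x => by
    rw [← stalkL_comp_apply, hfac]
  have hsI : CohB1.support (Abelian.image φ) ⊆ Y := (support_subset_of_mono m).trans hsB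
  have hinj : Function.Injective (stalkL e y) := by
    intro a b hab
    apply hφ.1
    rw [hcomp, hcomp, hab]
  have hsurj : Function.Surjective (stalkL m y) := by
    intro z
    obtain ⟨a, rfl⟩ := hφ.2 z
    exact ⟨stalkL e y a, (hcomp a).symm⟩
  have hker : K (kernel e) :=
    IH _ (isCoh_kernel e hA hI) ((support_subset_of_mono (kernel.ι e)).trans hsA)
      (subsingleton_stalk_kernel_of_injective e y hinj)
  have hcoker : K (cokernel m) :=
    IH _ (isCoh_cokernel m hI hB) ((support_subset_of_epi (cokernel.π m)).trans hsB)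
      (subsingleton_stalk_cokernel_of_surjective m y hsurj)
  exact (K_iff_of_epi hK e hA hI hsA hker).trans (K_iff_of_mono hK m hI hB hsB hcoker)

/-- comparison: coherent modules supported in `Y` with isomorphic stalks at `y` are simultaneously in `K`. -/
theorem K_of_stalk_equiv (hK : Exact23 K Y) (y : X)
    (IH : ∀ E : X.Modules, Coh.IsCoh E → CohB1.support E ⊆ Y → Subsingleton (E.presheaf.stalk y) → K E)
    {A G : X.Modules} (hA : Coh.IsCoh A) (hG : Coh.IsCoh G) (hsA : CohB1.support A ⊆ Y)
    (hsG : CohB1.support G ⊆ Y) (θ : A.presheaf.stalk y ≃ₗ[X.presheaf.stalk y] G.presheaf.stalk y)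
    (hKG : K G) : K A := by
  obtain ⟨H, p₁, p₂, hH, hbij, ⟨u, hu, hrel⟩, hsub⟩ := exists_graph_of_stalk_coh A G hA hG y θ.toLinearMap
  have hsH : CohB1.support H ⊆ Y := by
    intro x hx
    by_contra hxY
    exact hx (hsub x (subsingleton_stalk_of_notMem_support fun h => hxY (hsA h))
      (subsingleton_stalk_of_notMem_support fun h => hxY (hsG h)))
  have hbij2 : Function.Bijective (stalkL p₂ y) := by
    have : ⇑(stalkL p₂ y) = (fun z => u • z) ∘ θ ∘ stalkL p₁ y := by
      funext x
      exact hrel x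
    rw [this]
    refine Function.Bijective.comp ?_ (θ.bijective.comp hbij)
    exact ⟨fun a b hab => hu.smul_left_cancel.1 hab, fun z =>
      ⟨(hu.unit⁻¹ : (X.presheaf.stalk y)ˣ).1 • z, by simp [smul_smul]⟩⟩
  exact (K_iff_of_stalk_bijective hK y IH p₁ hH hA hsH hsA hbij).1
    ((K_iff_of_stalk_bijective hK y IH p₂ hH hG hsH hsG hbij2).2 hKG)

end Master

end Groth.Agent.Lib.Helper4.Dev
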