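import Mathlib
import Groth.Agent.Lib.Helper4DevD
import Groth.Agent.Lib.Helper23Support
import Groth.Agent.S0020
import Groth.Agent.S0049

/-!
# Dévissage of coherent modules on Noetherian schemes (helper4)

* `K_of_length`: induction on the length of the stalk at the generic point.
* `devissage_irreducible`: the step at an irreducible closed subset `closure {y}`, given a coherent `G ∈ K` supported
  there with stalk of length one at `y`.
* `isZero_of_support_eq_empty`, `isClosed_support`.
* `noetherian_induction_coh`: Noetherian induction on the support, reducing to irreducible closed subsets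
  (reducible closed subsets are handled by S0049).
-/

set_option autoImplicit false
set_option linter.style.haveILetI false
universe u
open CategoryTheory Limits AlgebraicGeometry TopologicalSpace Opposite

namespace Groth.Agent.Lib.Helper4.Dev

section Irr
variable {X : Scheme.{u}} [IsLocallyNoetherian X] {K : X.Modules → Prop} {Y : Set X}

/-- induction on the length of the stalk at `y` -/
theorem K_of_length (hK : Exact23 K Y) (y : X)
    (IH : ∀ E : X.Modules, Coh.IsCoh E → CohB1.support E ⊆ Y → Subsingleton (E.presheaf.stalk y) → K E)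
    (hsimple : ∀ Q : X.Modules, Coh.IsCoh Q → CohB1.support Q ⊆ Y →
      Module.length (X.presheaf.stalk y) (Q.presheaf.stalk y) = 1 → K Q)
    {G : X.Modules} (hG : Coh.IsCoh G) (hsG : CohB1.support G ⊆ Y)
    (ψ : (X.presheaf.stalk y ⧸ IsLocalRing.maximalIdeal (X.presheaf.stalk y)) →ₗ[X.presheaf.stalk y]
      G.presheaf.stalk y) (hψ : Function.Injective ψ) :
    ∀ (n : ℕ) (F : X.Modules), Coh.IsCoh F → CohB1.support F ⊆ Y →
      Module.length (X.presheaf.stalk y) (F.presheaf.stalk y) = n → K F := by
  intro n
  induction n with
  | zero =>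
    intro F hF hsF hlen
    refine IH F hF hsF ?_
    rw [← Module.length_eq_zero_iff (R := X.presheaf.stalk y)]
    exact_mod_cast hlen
  | succ n ih =>
    intro F hF hsF hlen
    have hfl : IsFiniteLength (X.presheaf.stalk y) (F.presheaf.stalk y) := by
      rw [← Module.length_ne_top_iff, hlen]
      exact ENat.natCast_ne_top _
    haveI : IsNoetherian (X.presheaf.stalk y) (F.presheaf.stalk y) :=
      (isFiniteLength_iff_isNoetherian_isArtinian.1 hfl).1
    haveI : Nontrivial (F.presheaf.stalk y) := by
      rw [← Module.length_pos_iff (R := X.presheaf.stalk y), hlen]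
      exact_mod_cast Nat.succ_pos n
    obtain ⟨f, hf⟩ := exists_surjective_to_residue (R := X.presheaf.stalk y) (M := F.presheaf.stalk y)
    obtain ⟨H, p₁, p₂, hH, hbij, ⟨u, hu, hrel⟩, hsub⟩ := exists_graph_of_stalk_coh F G hF hG y (ψ ∘ₗ f)
    have hsH : CohB1.support H ⊆ Y := by
      intro x hx
      by_contra hxY
      exact hx (hsub x (subsingleton_stalk_of_notMem_support fun h => hxY (hsF h))
        (subsingleton_stalk_of_notMem_support fun h => hxY (hsG h)))
    let e := Abelian.factorThruImage p₂
    let m := Abelian.image.ι p₂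
    have hfac : e ≫ m = p₂ := Abelian.image.fac p₂
    haveI : Epi e := inferInstanceAs (Epi (Abelian.factorThruImage p₂))
    haveI : Mono m := inferInstanceAs (Mono (Abelian.image.ι p₂))
    have hI : Coh.IsCoh (Abelian.image p₂) := isCoh_image p₂ hH hG
    have hsI : CohB1.support (Abelian.image p₂) ⊆ Y := (support_subset_of_mono m).trans hsG
    -- the range of the stalk map of `m` is the range of `ψ`
    have hrange : LinearMap.range (stalkL m y) = LinearMap.range ψ := by
      ext z
      constructor
      · rintro ⟨w, rfl⟩
        obtain ⟨x, rfl⟩ := stalkL_surjective_of_epi e y w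
        rw [← stalkL_comp_apply, hfac, hrel]
        refine ⟨u • f (stalkL p₁ y x), ?_⟩
        rw [map_smul]
        rfl
      · rintro ⟨c, rfl⟩
        obtain ⟨a, ha⟩ := hf ((hu.unit⁻¹ : (X.presheaf.stalk y)ˣ).1 • c)
        obtain ⟨x, rfl⟩ := hbij.2 a
        refine ⟨stalkL e y x, ?_⟩
        rw [← stalkL_comp_apply, hfac, hrel, LinearMap.comp_apply, ha, map_smul, smul_smul]
        simp
    have hlenI : Module.length (X.presheaf.stalk y) ((Abelian.image p₂).presheaf.stalk y) = 1 := by
      have e1 := (LinearEquiv.ofInjective (stalkL m y) (stalkL_injective_of_mono m y)).length_eq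
      have e2 := (LinearEquiv.ofInjective ψ hψ).length_eq
      rw [e1, hrange, ← e2]
      haveI := isSimpleModule_quot_maximalIdeal (R := X.presheaf.stalk y)
      exact Module.length_eq_one _ _
    have hlenH : Module.length (X.presheaf.stalk y) (H.presheaf.stalk y) = (n + 1 : ℕ) := by
      rw [(LinearEquiv.ofBijective (stalkL p₁ y) hbij).length_eq, hlen]
    have hadd := length_stalk_add (sesOfEpi e) (sesOfEpi_shortExact e) y
    change Module.length (X.presheaf.stalk y) (H.presheaf.stalk y) =
      Module.length (X.presheaf.stalk y) ((kernel e).presheaf.stalk y) +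
      Module.length (X.presheaf.stalk y) ((Abelian.image p₂).presheaf.stalk y) at hadd
    have hlenK : Module.length (X.presheaf.stalk y) ((kernel e).presheaf.stalk y) = n := by
      have h1 : ((n : ℕ) : ℕ∞) + 1 =
          Module.length (X.presheaf.stalk y) ((kernel e).presheaf.stalk y) + 1 := by
        rw [hlenH, hlenI] at hadd
        rw [← hadd]; push_cast; rfl
      exact (ENat.add_left_injective_of_ne_top ENat.one_ne_top h1).symm
    have hKker : K (kernel e) :=
      ih _ (isCoh_kernel e hH hI) ((support_subset_of_mono (kernel.ι e)).trans hsH) hlenK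
    have hKI : K (Abelian.image p₂) := hsimple _ hI hsI hlenI
    have hKH : K H := (K_iff_of_epi hK e hH hI hsH hKker).2 hKI
    exact (K_iff_of_stalk_bijective hK y IH p₁ hH hF hsH hsF hbij).1 hKH

/-- **Dévissage at an irreducible closed subset** `closure {y}`: if `K` satisfies two-out-of-three for coherent
modules supported in `closure {y}`, contains those with vanishing stalk at `y`, and contains one coherent module
`G` supported in `closure {y}` whose stalk at `y` has length one, then it contains all coherent modules supported
in `closure {y}`. -/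
theorem devissage_irreducible (y : X) (hK : Exact23 K (closure {y}))
    (IH : ∀ E : X.Modules, Coh.IsCoh E → CohB1.support E ⊆ closure {y} →
      Subsingleton (E.presheaf.stalk y) → K E)
    {G : X.Modules} (hG : Coh.IsCoh G) (hsG : CohB1.support G ⊆ closure {y}) (hKG : K G)
    (hlenG : Module.length (X.presheaf.stalk y) (G.presheaf.stalk y) = 1)
    (F : X.Modules) (hF : Coh.IsCoh F) (hsF : CohB1.support F ⊆ closure {y}) : K F := by
  obtain ⟨eG⟩ := nonempty_linearEquiv_of_length_eq_one hlenG
  have hsimple : ∀ Q : X.Modules, Coh.IsCoh Q → CohB1.support Q ⊆ closure {y} →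
      Module.length (X.presheaf.stalk y) (Q.presheaf.stalk y) = 1 → K Q := by
    intro Q hQ hsQ hlenQ
    obtain ⟨eQ⟩ := nonempty_linearEquiv_of_length_eq_one hlenQ
    exact K_of_stalk_equiv hK y IH hQ hG hsQ hsG (eQ.trans eG.symm) hKG
  have hfl := isFiniteLength_stalk F hF y hsF
  rw [← Module.length_ne_top_iff] at hfl
  obtain ⟨n, hn⟩ := ENat.ne_top_iff_exists.1 hfl
  exact K_of_length hK y IH hsimple hG hsG eG.symm.toLinearMap eG.symm.injective n F hF hsF hn.symm

end Irr

section Global
variable {X : Scheme.{u}}

theorem isClosed_support (F : X.Modules) (hF : Coh.IsCoh F) : IsClosed (CohB1.support F) :=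
  Groth.Agent.S0020.result X F hF.2

theorem isZero_of_support_eq_empty (F : X.Modules) (h : CohB1.support F = ∅) : IsZero F := by
  apply Groth.Agent.Lib.Helper23.ModLocal.isZero_of_forall_eq_zero
  intro U s
  exact Groth.Agent.Lib.Helper23.Support.eq_zero_of_disjoint_support F U
    (fun x _ hx => by rw [h] at hx; exact hx) s

theorem isCoh_of_isZero [IsLocallyNoetherian X] {M G : X.Modules} (hM : IsZero M) (hG : Coh.IsCoh G) :
    Coh.IsCoh M :=
  isCoh_of_iso ((isZero_kernel_of_mono (𝟙 G)).iso hM) (isCoh_kernel (𝟙 G) hG hG)

theorem support_eq_of_iso {A B : X.Modules} (e : A ≅ B) : CohB1.support A = CohB1.support B :=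
  Set.Subset.antisymm (support_subset_of_mono e.hom) (support_subset_of_mono e.inv)

/-- **Noetherian induction for coherent modules**: a class `K` of modules on a Noetherian scheme which is closed
under isomorphisms, contains the zero modules, is closed under extensions of coherent modules supported in `T`,
and which contains all coherent modules supported in `closure {y} ⊆ T` as soon as it contains those with
vanishing stalk at `y`, contains all coherent modules supported in `T`. -/
theorem noetherian_induction_coh [IsNoetherian X] (K : X.Modules → Prop) (T : Set X)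
    (hiso : ∀ M N : X.Modules, Nonempty (M ≅ N) → K M → K N)
    (hzero : ∀ M : X.Modules, IsZero M → K M)
    (hext : ∀ S : ShortComplex X.Modules, S.ShortExact → Coh.IsCoh S.X₁ → Coh.IsCoh S.X₂ → Coh.IsCoh S.X₃ →
      CohB1.support S.X₂ ⊆ T → K S.X₁ → K S.X₃ → K S.X₂)
    (hirr : ∀ y : X, closure {y} ⊆ T →
      (∀ E : X.Modules, Coh.IsCoh E → CohB1.support E ⊆ closure {y} →
        Subsingleton (E.presheaf.stalk y) → K E) →
      ∀ F : X.Modules, Coh.IsCoh F → CohB1.support F ⊆ closure {y} → K F)
    (F : X.Modules) (hF : Coh.IsCoh F) (hsF : CohB1.support F ⊆ T) : K F := by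
  suffices h : ∀ Z : Closeds X, (Z : Set X) ⊆ T → ∀ F : X.Modules, Coh.IsCoh F →
      CohB1.support F ⊆ (Z : Set X) → K F from
    h ⟨CohB1.support F, isClosed_support F hF⟩ hsF F hF le_rfl
  intro Z
  induction Z using WellFoundedLT.induction with
  | ind Z ih =>
    intro hZT F hF hsF
    by_cases hirrZ : IsIrreducible (Z : Set X)
    · -- irreducible case
      obtain ⟨y, hy⟩ := QuasiSober.sober hirrZ Z.2
      have hcl : closure {y} = (Z : Set X) := hy.def
      have hyZ : y ∈ (Z : Set X) := by rw [← hcl]; exact subset_closure rfl
      refine hirr y (hcl ▸ hZT) ?_ F hF (hcl ▸ hsF)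
      intro E hE hsE hEy
      have hsE' : CohB1.support E ⊆ (Z : Set X) := hcl ▸ hsE
      have hlt : (⟨CohB1.support E, isClosed_support E hE⟩ : Closeds X) < Z := by
        refine lt_of_le_of_ne hsE' ?_
        intro heq
        have : y ∈ CohB1.support E := by
          have := congrArg (fun W : Closeds X => (W : Set X)) heq
          change CohB1.support E = (Z : Set X) at this
          rw [this]; exact hyZ
        exact this hEy
      exact ih _ hlt (hsE'.trans hZT) E hE le_rfl
    · by_cases hne : (Z : Set X).Nonempty
      · -- reducible case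
        have hpre : ¬ IsPreirreducible (Z : Set X) := fun h => hirrZ ⟨hne, h⟩
        rw [isPreirreducible_iff_isClosed_union_isClosed] at hpre
        push Not at hpre
        obtain ⟨z₁, z₂, hz₁, hz₂, hsub, hn₁, hn₂⟩ := hpre
        have hsuppc := isClosed_support F hF
        obtain ⟨S, hS, ⟨e⟩, hS₁, hS₃, hs₁, hs₃⟩ := Groth.Agent.S0049.result X F hF
          (CohB1.support F ∩ z₁) (CohB1.support F ∩ z₂) (hsuppc.inter hz₁) (hsuppc.inter hz₂) (by
            rw [← Set.inter_union_distrib_left]
            exact (Set.inter_eq_left.2 (hsF.trans hsub)).symm)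
        have hlt₁ : (⟨(Z : Set X) ∩ z₁, Z.2.inter hz₁⟩ : Closeds X) < Z := by
          refine lt_of_le_of_ne Set.inter_subset_left ?_
          intro heq
          apply hn₁
          have := congrArg (fun W : Closeds X => (W : Set X)) heq
          change (Z : Set X) ∩ z₁ = (Z : Set X) at this
          exact Set.inter_eq_left.1 this
        have hlt₂ : (⟨(Z : Set X) ∩ z₂, Z.2.inter hz₂⟩ : Closeds X) < Z := by
          refine lt_of_le_of_ne Set.inter_subset_left ?_
          intro heq
          apply hn₂
          have := congrArg (fun W : Closeds X => (W : Set X)) heq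
          change (Z : Set X) ∩ z₂ = (Z : Set X) at this
          exact Set.inter_eq_left.1 this
        have hK₁ : K S.X₁ := ih _ hlt₂ (Set.inter_subset_left.trans hZT) S.X₁ hS₁
          (hs₁.trans (Set.inter_subset_inter_left _ hsF))
        have hK₃ : K S.X₃ := ih _ hlt₁ (Set.inter_subset_left.trans hZT) S.X₃ hS₃
          (hs₃.trans (Set.inter_subset_inter_left _ hsF))
        have hS₂ : Coh.IsCoh S.X₂ := isCoh_of_iso e.symm hF
        have hsupp₂ : CohB1.support S.X₂ ⊆ T := by
          rw [support_eq_of_iso e]; exact hsF.trans hZT
        exact hiso _ _ ⟨e⟩ (hext S hS hS₁ hS₂ hS₃ hsupp₂ hK₁ hK₃)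
      · -- empty case
        rw [Set.not_nonempty_iff_eq_empty] at hne
        refine hzero F (isZero_of_support_eq_empty F ?_)
        rw [← Set.subset_empty_iff, ← hne]
        exact hsF

end Global

end Groth.Agent.Lib.Helper4.Dev
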