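import Mathlib
import Groth.Prelude.Def_ClSub2
import Groth.Agent.Lib.Helper4DevE
import Groth.Agent.Lib.Helper23QCohSum

/-!
# Dévissage with powers: stalks of finite powers, modules killed by the ideal of a point (helper4)

* `stalkLAddHom`, `stalkL_sum`, `sum_app`.
* `stalkPowEquiv`: `(Q^m)_y ≃ (Q_y)^m`; `isCoh_pow`, `support_pow_subset`.
* `exists_linearEquiv_pi_residue`: a finite module over a local ring killed by the maximal ideal is a finite power
  of the residue field.
* `maximalIdeal_smul_stalk_eq_zero`: a quasi-coherent module killed by the ideal of the reduced closed subscheme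
  `closure {y}` has stalk at `y` killed by the maximal ideal.
* `devissage_irreducible_pow`: the dévissage step at `closure {y}` for classes `K` stable under passing from a finite
  power `Q^m` (`m > 0`) to `Q`.
-/

set_option autoImplicit false
set_option linter.style.haveILetI false
universe u
open CategoryTheory Limits AlgebraicGeometry TopologicalSpace Opposite

namespace Groth.Agent.Lib.Helper4.Dev
open Groth.Agent.Lib.Helper23.QCohLocal Groth.Agent.Lib.Helper2 Groth.Agent.Lib.Helper23.FinType
  Groth.Agent.Lib.Helper2.FlatOver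

attribute [local instance] Abelian.hasFiniteBiproducts

section Alg
variable {R : Type*} [CommRing R] [IsLocalRing R] {M : Type*} [AddCommGroup M] [Module R M]

open IsLocalRing

/-- a finite module over a local ring killed by the maximal ideal is a finite power of the residue field -/
theorem exists_linearEquiv_pi_residue [Module.Finite R M]
    (hm : ∀ r ∈ maximalIdeal R, ∀ x : M, r • x = 0) :
    ∃ m : ℕ, Nonempty (M ≃ₗ[R] (Fin m → R ⧸ maximalIdeal R)) := by
  have htors : Module.IsTorsionBySet R M (maximalIdeal R : Set R) := by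
    intro x a
    exact hm a.1 a.2 x
  letI : Module (R ⧸ maximalIdeal R) M := htors.module
  letI : Field (R ⧸ maximalIdeal R) := Ideal.Quotient.field _
  haveI : IsScalarTower R (R ⧸ maximalIdeal R) M := htors.isScalarTower
  haveI : Module.Finite (R ⧸ maximalIdeal R) M := Module.Finite.of_restrictScalars_finite R _ _
  let b := Module.finBasis (R ⧸ maximalIdeal R) M
  exact ⟨_, ⟨b.equivFun.restrictScalars R⟩⟩

end Alg

variable {X : Scheme.{u}}

/-- `stalkL` as an additive map in the morphism -/
noncomputable def stalkLAddHom (A B : X.Modules) (y : X) :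
    (A ⟶ B) →+ (A.presheaf.stalk y →ₗ[X.presheaf.stalk y] B.presheaf.stalk y) where
  toFun := fun φ => stalkL φ y
  map_zero' := stalkL_zero A B y
  map_add' := fun φ ψ => stalkL_add φ ψ y

theorem stalkL_sum {A B : X.Modules} {ι : Type*} (s : Finset ι) (φ : ι → (A ⟶ B)) (y : X) :
    stalkL (∑ k ∈ s, φ k) y = ∑ k ∈ s, stalkL (φ k) y :=
  map_sum (stalkLAddHom A B y) φ s

theorem sum_app {A B : X.Modules} {ι : Type*} (s : Finset ι) (φ : ι → (A ⟶ B)) (U : X.Opens) (x : Γ(A, U)) :
    (∑ k ∈ s, φ k).app U x = ∑ k ∈ s, (φ k).app U x := by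
  classical
  induction s using Finset.induction_on with
  | empty => simp
  | insert a s ha ih =>
    rw [Finset.sum_insert ha, Finset.sum_insert ha, Scheme.Modules.Hom.add_app]
    change (φ a).app U x + (∑ k ∈ s, φ k).app U x = _
    rw [ih]

/-- a quasi-coherent module killed by the ideal of the reduced closed subscheme `closure {y}` has its stalk at `y`
killed by the maximal ideal -/
theorem maximalIdeal_smul_stalk_eq_zero (G : X.Modules) [G.IsQuasicoherent] (y : X)
    (hk : ClSub.KilledByIdeal (Scheme.IdealSheafData.vanishingIdeal ⟨closure {y}, isClosed_closure⟩) G)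
    (r : X.presheaf.stalk y) (hr : r ∈ IsLocalRing.maximalIdeal (X.presheaf.stalk y))
    (x : G.presheaf.stalk y) : r • x = 0 := by
  obtain ⟨U, hU0, hy, -⟩ := (Opens.isBasis_iff_nbhd.1 X.isBasis_affineOpens) (Opens.mem_top y)
  have hU : IsAffineOpen U := hU0
  clear hU0
  letI alg : Algebra Γ(X, U) (X.presheaf.stalk y) := TopCat.Presheaf.algebra_section_stalk X.presheaf ⟨y, hy⟩
  haveI locR : IsLocalization.AtPrime (X.presheaf.stalk y) (hU.primeIdealOf ⟨y, hy⟩).asIdeal :=
    hU.isLocalization_stalk ⟨y, hy⟩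
  obtain ⟨s, m, hs, hsm⟩ := QCoh.exists_smul_eq_germ hU G y hy x
  rw [Scheme.mem_basicOpen X s y hy] at hs
  have hle : IsLocalRing.maximalIdeal (X.presheaf.stalk y) ≤ (Submodule.span _ {x}).annihilator := by
    rw [← IsLocalization.AtPrime.map_eq_maximalIdeal (hU.primeIdealOf ⟨y, hy⟩).asIdeal
      (X.presheaf.stalk y), Ideal.map_le_iff_le_comap]
    intro b hb
    rw [Ideal.mem_comap, Submodule.mem_annihilator_span_singleton]
    have hb' : b ∈ (Scheme.IdealSheafData.vanishingIdeal ⟨closure {y}, isClosed_closure⟩).ideal ⟨U, hU⟩ := by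
      rw [Scheme.IdealSheafData.vanishingIdeal_ideal, PrimeSpectrum.mem_vanishingIdeal]
      intro q hq
      have hspec : y ⤳ hU.fromSpec q := specializes_iff_mem_closure.2 hq
      have := QCoh.primeIdealOf_le_of_specializes hU (hU.fromSpec q) y (QCoh.fromSpec_mem hU q) hy hspec
      rw [QCoh.primeIdealOf_fromSpec] at this
      exact this hb
    have hbm : b • m = 0 := hk ⟨U, hU⟩ b hb' m
    have h3 : X.presheaf.germ U y hy s • (algebraMap Γ(X, U) (X.presheaf.stalk y) b • x) = 0 := by
      rw [smul_comm, hsm]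
      change (X.presheaf.germ U y hy b) • _ = 0
      rw [← QCoh.germ_smul, hbm, map_zero]
    exact QCoh.germ_smul_eq_zero_of_isUnit hs h3
  have := hle hr
  rw [Submodule.mem_annihilator_span_singleton] at this
  exact this

section Pow
variable (Q : X.Modules) (m : ℕ) (y : X)

theorem sum_stalkL_ι_π (z : (⨁ fun _ : Fin m => Q : X.Modules).presheaf.stalk y) :
    ∑ k : Fin m, stalkL (biproduct.ι (fun _ : Fin m => Q) k) y
      (stalkL (biproduct.π (fun _ : Fin m => Q) k) y z) = z := by
  have h1 : ∑ k : Fin m, biproduct.π (fun _ : Fin m => Q) k ≫ biproduct.ι (fun _ : Fin m => Q) k =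
      𝟙 (⨁ fun _ : Fin m => Q) := biproduct.total
  have h2 : stalkL (𝟙 (⨁ fun _ : Fin m => Q : X.Modules)) y z = z := by rw [stalkL_id]; rfl
  rw [← h1, stalkL_sum, LinearMap.sum_apply] at h2
  refine Eq.trans ?_ h2
  refine Finset.sum_congr rfl fun k _ => ?_
  rw [stalkL_comp_apply]

theorem stalkL_π_ι (j k : Fin m) (a : Q.presheaf.stalk y) :
    stalkL (biproduct.π (fun _ : Fin m => Q) j) y (stalkL (biproduct.ι (fun _ : Fin m => Q) k) y a) =
      if k = j then a else 0 := by
  rw [← stalkL_comp_apply, biproduct.ι_π]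
  split_ifs with h
  · subst h
    rw [eqToHom_refl, stalkL_id]
    rfl
  · rw [stalkL_zero]
    rfl

/-- the stalk of a finite power -/
noncomputable def stalkPowEquiv :
    (⨁ fun _ : Fin m => Q : X.Modules).presheaf.stalk y ≃ₗ[X.presheaf.stalk y]
      (Fin m → Q.presheaf.stalk y) :=
  LinearEquiv.ofBijective
    (LinearMap.pi fun k => stalkL (biproduct.π (fun _ : Fin m => Q) k) y)
    ⟨by
      rw [injective_iff_map_eq_zero]
      intro z hz
      rw [← sum_stalkL_ι_π Q m y z]
      refine Finset.sum_eq_zero fun k _ => ?_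
      have := congrFun hz k
      rw [LinearMap.pi_apply] at this
      rw [this]
      exact map_zero _,
    by
      intro f
      refine ⟨∑ k : Fin m, stalkL (biproduct.ι (fun _ : Fin m => Q) k) y (f k), ?_⟩
      funext j
      rw [LinearMap.pi_apply, map_sum]
      simp only [stalkL_π_ι]
      rw [Finset.sum_ite_eq' Finset.univ j f]
      simp⟩

theorem support_pow_subset : CohB1.support (⨁ fun _ : Fin m => Q : X.Modules) ⊆ CohB1.support Q := by
  intro x hx hQ
  apply hx
  haveI : Subsingleton (Q.presheaf.stalk x) := hQ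
  exact (stalkPowEquiv Q m x).toEquiv.subsingleton

theorem isCoh_pow (hQ : Coh.IsCoh Q) : Coh.IsCoh (⨁ fun _ : Fin m => Q) := by
  haveI : Q.IsQuasicoherent := hQ.1
  haveI : SheafOfModules.IsFiniteType (R := X.ringCatSheaf) Q := hQ.2
  haveI hq : (⨁ fun _ : Fin m => Q : X.Modules).IsQuasicoherent :=
    isQuasicoherent_biproduct (fun _ : Fin m => Q) (fun _ => hQ.1)
  refine ⟨hq, ?_⟩
  rw [isFiniteType_iff_forall_affine]
  intro U hU
  haveI : Module.Finite Γ(X, U) Γ(Q, U) := finite_of_isFiniteType Q hU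
  let f : (Fin m → Γ(Q, U)) →ₗ[Γ(X, U)] Γ((⨁ fun _ : Fin m => Q : X.Modules), U) :=
    ∑ k : Fin m,
      ({ toFun := fun x => (biproduct.ι (fun _ : Fin m => Q) k).app U x
         map_add' := fun x y => map_add _ x y
         map_smul' := fun r x => Scheme.Modules.Hom.app_smul (biproduct.ι (fun _ : Fin m => Q) k) r x } :
        Γ(Q, U) →ₗ[Γ(X, U)] Γ((⨁ fun _ : Fin m => Q : X.Modules), U)).comp (LinearMap.proj k)
  refine Module.Finite.of_surjective f ?_
  intro s
  refine ⟨fun k => (biproduct.π (fun _ : Fin m => Q) k).app U s, ?_⟩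
  have h1 : ∑ k : Fin m, biproduct.π (fun _ : Fin m => Q) k ≫ biproduct.ι (fun _ : Fin m => Q) k =
      𝟙 (⨁ fun _ : Fin m => Q) := biproduct.total
  have h2 := congrArg (fun φ : (⨁ fun _ : Fin m => Q : X.Modules) ⟶ (⨁ fun _ : Fin m => Q : X.Modules) =>
    φ.app U s) h1
  simp only [Scheme.Modules.Hom.id_app] at h2
  rw [LinearMap.sum_apply]
  refine Eq.trans ?_ h2
  change _ = (∑ k : Fin m, biproduct.π (fun _ : Fin m => Q) k ≫ biproduct.ι (fun _ : Fin m => Q) k).app U s
  rw [sum_app]
  rfl

theorem exists_retract_pow (hm : 0 < m) :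
    ∃ (i : Q ⟶ (⨁ fun _ : Fin m => Q : X.Modules)) (r : (⨁ fun _ : Fin m => Q : X.Modules) ⟶ Q),
      i ≫ r = 𝟙 Q :=
  ⟨biproduct.ι (fun _ : Fin m => Q) ⟨0, hm⟩, biproduct.π (fun _ : Fin m => Q) ⟨0, hm⟩,
    biproduct.ι_π_self (fun _ : Fin m => Q) ⟨0, hm⟩⟩

end Pow

/-- **Dévissage at an irreducible closed subset, with powers**: as `devissage_irreducible`, for a class `K` stable
under passing from a finite power `Q^m` (`m > 0`) to `Q`; the module `G ∈ K` only needs a nonzero stalk at `y`
killed by the maximal ideal. -/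
theorem devissage_irreducible_pow [IsLocallyNoetherian X] {K : X.Modules → Prop} (y : X)
    (hK : Exact23 K (closure {y}))
    (IH : ∀ E : X.Modules, Coh.IsCoh E → CohB1.support E ⊆ closure {y} →
      Subsingleton (E.presheaf.stalk y) → K E)
    (hret : ∀ (Q : X.Modules) (m : ℕ), 0 < m → Coh.IsCoh Q → CohB1.support Q ⊆ closure {y} →
      K (⨁ fun _ : Fin m => Q) → K Q)
    {G : X.Modules} (hG : Coh.IsCoh G) (hsG : CohB1.support G ⊆ closure {y}) (hKG : K G)
    (hkill : ∀ r ∈ IsLocalRing.maximalIdeal (X.presheaf.stalk y), ∀ x : G.presheaf.stalk y, r • x = 0)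
    (hne : y ∈ CohB1.support G)
    (F : X.Modules) (hF : Coh.IsCoh F) (hsF : CohB1.support F ⊆ closure {y}) : K F := by
  have hflG := isFiniteLength_stalk G hG y hsG
  haveI : IsNoetherian (X.presheaf.stalk y) (G.presheaf.stalk y) :=
    (isFiniteLength_iff_isNoetherian_isArtinian.1 hflG).1
  obtain ⟨m, ⟨eG⟩⟩ := exists_linearEquiv_pi_residue (R := X.presheaf.stalk y)
    (M := G.presheaf.stalk y) hkill
  haveI hnt : Nontrivial (G.presheaf.stalk y) := not_subsingleton_iff_nontrivial.1 hne
  have hm : 0 < m := by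
    rcases Nat.eq_zero_or_pos m with h | h
    · subst h
      exact absurd eG.toEquiv.subsingleton (not_subsingleton_iff_nontrivial.2 hnt)
    · exact h
  obtain ⟨g₀, hg₀⟩ := exists_ne (0 : G.presheaf.stalk y)
  obtain ⟨ψ, hψ⟩ := exists_injective_of_residue (R := X.presheaf.stalk y) g₀ hg₀
    (fun r hr => hkill r hr g₀)
  have hsimple : ∀ Q : X.Modules, Coh.IsCoh Q → CohB1.support Q ⊆ closure {y} →
      Module.length (X.presheaf.stalk y) (Q.presheaf.stalk y) = 1 → K Q := by
    intro Q hQ hsQ hlenQ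
    obtain ⟨eQ⟩ := nonempty_linearEquiv_of_length_eq_one hlenQ
    refine hret Q m hm hQ hsQ ?_
    exact K_of_stalk_equiv hK y IH (isCoh_pow Q m hQ) hG ((support_pow_subset Q m).trans hsQ) hsG
      ((stalkPowEquiv Q m y).trans ((LinearEquiv.piCongrRight fun _ => eQ).trans eG.symm)) hKG
  have hfl := isFiniteLength_stalk F hF y hsF
  rw [← Module.length_ne_top_iff] at hfl
  obtain ⟨n, hn⟩ := ENat.ne_top_iff_exists.1 hfl
  exact K_of_length hK y IH hsimple hG hsG ψ hψ n F hF hsF hn.symm

end Groth.Agent.Lib.Helper4.Dev
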