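import Mathlib
import Groth.Agent.Lib.Helper4DevC

/-!
# Realization of stalk maps by subobjects when the target is torsion-free (helper4)

Variants of `exists_graph`, `exists_graph_of_linear`, `exists_graph_of_stalk_coh` recording that `p₁ : H ⟶ A` is a
monomorphism as soon as the unit `B ⟶ j_* j^* B` is a monomorphism.
-/

set_option autoImplicit false
set_option linter.style.haveILetI false
universe u
open CategoryTheory Limits AlgebraicGeometry TopologicalSpace Opposite

namespace Groth.Agent.Lib.Helper4.Dev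
open Groth.Agent.Lib.Helper23.QCohLocal Groth.Agent.Lib.Helper2 Groth.Agent.Lib.Helper23.FinType
  Groth.Agent.Lib.Helper2.FlatOver

attribute [local instance] restrictFunctor_isRightAdjoint in
/-- `exists_graph` with `p₁` monic when `B ⟶ j_* j^* B` is monic -/
theorem exists_graph' {X Y : Scheme.{u}} (j : Y ⟶ X) [IsOpenImmersion j] [QuasiCompact j]
    (A B : X.Modules) [A.IsQuasicoherent] [B.IsQuasicoherent]
    (β : (Scheme.Modules.restrictFunctor j).obj A ⟶ (Scheme.Modules.restrictFunctor j).obj B) :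
    ∃ (H : X.Modules) (p₁ : H ⟶ A) (p₂ : H ⟶ B), H.IsQuasicoherent ∧
      IsIso ((Scheme.Modules.restrictFunctor j).map p₁) ∧
      (Scheme.Modules.restrictFunctor j).map p₂ = (Scheme.Modules.restrictFunctor j).map p₁ ≫ β ∧
      Mono (biprod.lift p₁ p₂) ∧
      (Mono ((Scheme.Modules.restrictAdjunction j).unit.app B) → Mono p₁) := by
  let adj := Scheme.Modules.restrictAdjunction j
  let Rj := Scheme.Modules.restrictFunctor j
  let Pj := Scheme.Modules.pushforward j
  let ηA : A ⟶ Pj.obj (Rj.obj A) := adj.unit.app A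
  let ηB : B ⟶ Pj.obj (Rj.obj B) := adj.unit.app B
  haveI : (Rj.obj A).IsQuasicoherent := inferInstance
  haveI : (Rj.obj B).IsQuasicoherent := inferInstance
  haveI : (Pj.obj (Rj.obj A)).IsQuasicoherent := isQuasicoherent_pushforward j (Rj.obj A)
  haveI : (Pj.obj (Rj.obj B)).IsQuasicoherent := isQuasicoherent_pushforward j (Rj.obj B)
  let γ : A ⟶ Pj.obj (Rj.obj B) := ηA ≫ Pj.map β
  have hpb : IsPullback (pullback.fst γ ηB) (pullback.snd γ ηB) γ ηB := IsPullback.of_hasPullback _ _
  have hpb' := hpb.map Rj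
  have htriA : Rj.map ηA ≫ adj.counit.app (Rj.obj A) = 𝟙 _ := adj.left_triangle_components A
  have htriB : Rj.map ηB ≫ adj.counit.app (Rj.obj B) = 𝟙 _ := adj.left_triangle_components B
  haveI : IsIso (adj.counit.app (Rj.obj B)) := inferInstance
  haveI : IsIso (Rj.map ηB) := by
    have : Rj.map ηB = inv (adj.counit.app (Rj.obj B)) := IsIso.eq_inv_of_inv_hom_id htriB
    rw [this]; infer_instance
  haveI h1 : IsIso (Rj.map (pullback.fst γ ηB)) := hpb'.isIso_fst_of_isIso
  have hnat : Rj.map (Pj.map β) ≫ adj.counit.app (Rj.obj B) = adj.counit.app (Rj.obj A) ≫ β :=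
    adj.counit.naturality β
  have hw : Rj.map (pullback.fst γ ηB) ≫ Rj.map γ = Rj.map (pullback.snd γ ηB) ≫ Rj.map ηB := hpb'.w
  have hγ : Rj.map γ ≫ adj.counit.app (Rj.obj B) = β := by
    simp only [γ, Functor.map_comp, Category.assoc]
    rw [hnat, ← Category.assoc, htriA, Category.id_comp]
  refine ⟨pullback γ ηB, pullback.fst γ ηB, pullback.snd γ ηB, isQuasicoherent_pullback _ _, h1, ?_, ?_, ?_⟩
  · calc Rj.map (pullback.snd γ ηB)
        = Rj.map (pullback.snd γ ηB) ≫ Rj.map ηB ≫ adj.counit.app (Rj.obj B) := by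
          rw [htriB, Category.comp_id]
      _ = Rj.map (pullback.fst γ ηB) ≫ Rj.map γ ≫ adj.counit.app (Rj.obj B) := by
          rw [← Category.assoc, ← hw, Category.assoc]
      _ = Rj.map (pullback.fst γ ηB) ≫ β := by rw [hγ]
  · constructor
    intro T a b hab
    apply pullback.hom_ext
    · have := congrArg (fun f => f ≫ biprod.fst) hab
      simpa using this
    · have := congrArg (fun f => f ≫ biprod.snd) hab
      simpa using this
  · intro hm
    haveI : Mono ηB := hm
    exact inferInstanceAs (Mono (pullback.fst γ ηB))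

variable {X : Scheme.{u}} {U : X.Opens}

/-- `exists_graph_of_linear` with `p₁` monic when `B ⟶ j_* j^* B` is monic -/
theorem exists_graph_of_linear' (hU : IsAffineOpen U) [QuasiCompact hU.fromSpec]
    (A B : X.Modules) [A.IsQuasicoherent] [B.IsQuasicoherent]
    (h : Γ(A, U) →ₗ[Γ(X, U)] Γ(B, U)) :
    ∃ (H : X.Modules) (p₁ : H ⟶ A) (p₂ : H ⟶ B), H.IsQuasicoherent ∧
      Function.Bijective (p₁.app U) ∧ (∀ m, p₂.app U m = h (p₁.app U m)) ∧
      Mono (biprod.lift p₁ p₂) ∧
      (Mono ((Scheme.Modules.restrictAdjunction hU.fromSpec).unit.app B) → Mono p₁) := by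
  let Rj := Scheme.Modules.restrictFunctor hU.fromSpec
  let h' : Γ(Rj.obj A, ⊤) →ₗ[Γ(X, U)] Γ(Rj.obj B, ⊤) :=
    { toFun := fun m => ofU hU B (h (toU hU A m))
      map_add' := fun a b => by rw [map_add, map_add, map_add]
      map_smul' := fun r m => by
        rw [toU_smul, map_smul, ofU_smul]
        rfl }
  obtain ⟨β, hβ⟩ := exists_hom_spec' Γ(X, U) (Rj.obj A) (Rj.obj B) h'
  obtain ⟨H, p₁, p₂, hH, hiso, hcomp, hmono, hm1⟩ := exists_graph' hU.fromSpec A B β
  refine ⟨H, p₁, p₂, hH, ?_, ?_, hmono, hm1⟩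
  · have hb : Function.Bijective ((Rj.map p₁).app ⊤) :=
      ConcreteCategory.bijective_of_isIso ((Rj.map p₁).app ⊤)
    constructor
    · intro a b hab
      have h1 : (Rj.map p₁).app ⊤ (ofU hU H a) = (Rj.map p₁).app ⊤ (ofU hU H b) := by
        have := toU_app hU p₁ (ofU hU H a)
        have h2 := toU_app hU p₁ (ofU hU H b)
        rw [toU_ofU] at this h2
        rw [← ofU_toU hU A ((Rj.map p₁).app ⊤ (ofU hU H a)), this, hab, ← h2, ofU_toU]
      have := congrArg (toU hU H) (hb.1 h1)
      rwa [toU_ofU, toU_ofU] at this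
    · intro a
      obtain ⟨b, hb⟩ := hb.2 (ofU hU A a)
      refine ⟨toU hU H b, ?_⟩
      rw [← toU_app, hb, toU_ofU]
  · intro m
    have h1 : (Rj.map p₂).app ⊤ (ofU hU H m) = β.app ⊤ ((Rj.map p₁).app ⊤ (ofU hU H m)) :=
      congrArg (fun φ => φ.app ⊤ (ofU hU H m)) hcomp
    rw [hβ] at h1
    have h2 : (Rj.map p₂).app ⊤ (ofU hU H m) =
        ofU hU B (h (toU hU A ((Rj.map p₁).app ⊤ (ofU hU H m)))) := h1
    rw [toU_app, toU_ofU] at h2
    have := congrArg (toU hU B) h2
    rwa [toU_app, toU_ofU, toU_ofU] at this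

/-- coherent realization of stalk maps, with `p₁` monic when `B` has no sections supported away from affine
neighbourhoods of `y` -/
theorem exists_graph_of_stalk_coh' [IsLocallyNoetherian X] (A B : X.Modules) (hA : Coh.IsCoh A)
    (hB : Coh.IsCoh B) (y : X) (θ : A.presheaf.stalk y →ₗ[X.presheaf.stalk y] B.presheaf.stalk y)
    (htf : ∀ (U : X.Opens) (hU : IsAffineOpen U), y ∈ U →
      Mono ((Scheme.Modules.restrictAdjunction hU.fromSpec).unit.app B)) :
    ∃ (H : X.Modules) (p₁ : H ⟶ A) (p₂ : H ⟶ B), Coh.IsCoh H ∧ Mono p₁ ∧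
      Function.Bijective (stalkL p₁ y) ∧
      (∃ u : X.presheaf.stalk y, IsUnit u ∧ ∀ x, stalkL p₂ y x = u • θ (stalkL p₁ y x)) := by
  haveI : A.IsQuasicoherent := hA.1
  haveI : B.IsQuasicoherent := hB.1
  haveI : SheafOfModules.IsFiniteType (R := X.ringCatSheaf) A := hA.2
  haveI : SheafOfModules.IsFiniteType (R := X.ringCatSheaf) B := hB.2
  obtain ⟨U, hU0, hy, -⟩ := (Opens.isBasis_iff_nbhd.1 X.isBasis_affineOpens) (Opens.mem_top y)
  have hU : IsAffineOpen U := hU0
  clear hU0
  letI mA := moduleStalkSections A U y hy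
  letI mB := moduleStalkSections B U y hy
  haveI locB : IsLocalizedModule (hU.primeIdealOf ⟨y, hy⟩).asIdeal.primeCompl (germₗ B U y hy) :=
    isLocalizedModule_germ hU B y hy
  haveI : IsNoetherianRing Γ(X, U) := IsLocallyNoetherian.component_noetherian ⟨U, hU⟩
  haveI : Module.Finite Γ(X, U) Γ(A, U) := finite_of_isFiniteType A hU
  haveI : Module.FinitePresentation Γ(X, U) Γ(A, U) := Module.finitePresentation_of_finite _ _
  let g : Γ(A, U) →ₗ[Γ(X, U)] B.presheaf.stalk y :=
    { toFun := fun m => θ (A.presheaf.germ U y hy m)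
      map_add' := fun a b => by rw [map_add, map_add]
      map_smul' := fun r m => by
        rw [QCoh.germ_smul, map_smul]
        rfl }
  obtain ⟨h, s, hs⟩ := Module.FinitePresentation.exists_lift_of_isLocalizedModule
    (hU.primeIdealOf ⟨y, hy⟩).asIdeal.primeCompl (germₗ B U y hy) g
  obtain ⟨H, p₁, p₂, hH, hbij, hcomp, hmono, hm1⟩ := exists_graph_of_linear' hU A B h
  have hsu : IsUnit (X.presheaf.germ U y hy s.1) := by
    rw [← Scheme.mem_basicOpen X s.1 y hy, mem_basicOpen_iff_notMem_primeIdealOf hU y hy]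
    exact s.2
  haveI : Mono p₁ := hm1 (htf U hU hy)
  refine ⟨H, p₁, p₂, ⟨hH, isFiniteType_of_mono p₁⟩, inferInstance,
    stalkL_bijective_of_app hU p₁ hbij y hy, ⟨X.presheaf.germ U y hy s.1, hsu, ?_⟩⟩
  intro x
  obtain ⟨t, m, ht, htm⟩ := QCoh.exists_smul_eq_germ hU H y hy x
  rw [Scheme.mem_basicOpen X t y hy] at ht
  have h1 : B.presheaf.germ U y hy (h (p₁.app U m)) =
      X.presheaf.germ U y hy s.1 • θ (A.presheaf.germ U y hy (p₁.app U m)) :=
    congrArg (fun φ => φ (p₁.app U m)) hs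
  have h2 : X.presheaf.germ U y hy t • stalkL p₂ y x =
      X.presheaf.germ U y hy t • (X.presheaf.germ U y hy s.1 • θ (stalkL p₁ y x)) := by
    rw [← map_smul, htm, stalkL_germ, hcomp, h1, ← stalkL_germ, ← htm, map_smul, map_smul, smul_comm]
  exact ht.smul_left_cancel.1 h2

end Groth.Agent.Lib.Helper4.Dev
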