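import Mathlib
import Groth.Agent.Lib.Helper10RedInd

/-!
# Integral closed subschemes at points; small algebra for dévissage (helper4)

* `exists_integral_closed y`: the reduced induced closed subscheme on `closure {y}` is integral, with generic point
  mapping to `y`.
* `length_residueField`: the residue field of a local ring has length one.
* `shortExact_zero_id`: `0 → M → G → G → 0` for a zero object `M`.
-/

set_option autoImplicit false
set_option linter.style.haveILetI false
universe u
open CategoryTheory Limits AlgebraicGeometry TopologicalSpace Opposite Topology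

namespace Groth.Agent.Lib.Helper4.Dev

section Sub
variable {X : Scheme.{u}} (X' : TopologicalSpace.Closeds X)

theorem range_subschemeι_vanishingIdeal' :
    Set.range (Scheme.IdealSheafData.vanishingIdeal X').subschemeι = (X' : Set X) := by
  rw [Scheme.IdealSheafData.range_subschemeι, Scheme.IdealSheafData.coe_support_vanishingIdeal]

theorem irreducibleSpace_subscheme' (x' : X) (hx' : closure ({x'} : Set X) = (X' : Set X)) :
    IrreducibleSpace ↥(Scheme.IdealSheafData.vanishingIdeal X').subscheme := by
  have hirr : IsIrreducible (Set.range (Scheme.IdealSheafData.vanishingIdeal X').subschemeι) := by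
    rw [range_subschemeι_vanishingIdeal', ← hx']
    exact isIrreducible_singleton.closure
  haveI : IrreducibleSpace ↥(Set.range (Scheme.IdealSheafData.vanishingIdeal X').subschemeι) :=
    Subtype.irreducibleSpace hirr
  exact ((Scheme.IdealSheafData.vanishingIdeal X').subschemeι.isEmbedding.toHomeomorph).irreducibleSpace_iff.mpr
    inferInstance

theorem subschemeι_genericPoint' (x' : X) (hx' : closure ({x'} : Set X) = (X' : Set X))
    [IrreducibleSpace ↥(Scheme.IdealSheafData.vanishingIdeal X').subscheme] :
    (Scheme.IdealSheafData.vanishingIdeal X').subschemeι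
      (genericPoint ↥(Scheme.IdealSheafData.vanishingIdeal X').subscheme) = x' := by
  have h1 : IsGenericPoint ((Scheme.IdealSheafData.vanishingIdeal X').subschemeι
      (genericPoint ↥(Scheme.IdealSheafData.vanishingIdeal X').subscheme))
      (closure ((Scheme.IdealSheafData.vanishingIdeal X').subschemeι '' Set.univ)) :=
    (genericPoint_spec _).image (Scheme.IdealSheafData.vanishingIdeal X').subschemeι.continuous
  rw [Set.image_univ, range_subschemeι_vanishingIdeal', X'.isClosed.closure_eq, ← hx'] at h1
  have h2 : IsGenericPoint x' (closure ({x'} : Set X)) := isGenericPoint_closure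
  exact h1.eq h2

end Sub

/-- the integral closed subscheme with generic point `y` -/
theorem exists_integral_closed {X : Scheme.{u}} (y : X) :
    ∃ (Z : Scheme.{u}) (i : Z ⟶ X) (_ : IsClosedImmersion i) (_ : IsIntegral Z),
      Set.range ⇑i = closure {y} ∧ i (genericPoint Z) = y := by
  let X' : TopologicalSpace.Closeds X := ⟨closure {y}, isClosed_closure⟩
  haveI : IrreducibleSpace ↥(Scheme.IdealSheafData.vanishingIdeal X').subscheme :=
    irreducibleSpace_subscheme' X' y rfl
  haveI : IsReduced (Scheme.IdealSheafData.vanishingIdeal X').subscheme :=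
    Groth.Agent.Lib.Helper10.RedInd.isReduced_subscheme_vanishingIdeal X'
  haveI : IsIntegral (Scheme.IdealSheafData.vanishingIdeal X').subscheme :=
    isIntegral_of_irreducibleSpace_of_isReduced _
  exact ⟨_, (Scheme.IdealSheafData.vanishingIdeal X').subschemeι, inferInstance, inferInstance,
    range_subschemeι_vanishingIdeal' X', subschemeι_genericPoint' X' y rfl⟩

theorem length_residueField (R : Type*) [CommRing R] [IsLocalRing R] :
    Module.length R (IsLocalRing.ResidueField R) = 1 := by
  rw [Module.length_eq_one_iff, isSimpleModule_iff_quot_maximal]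
  refine ⟨IsLocalRing.maximalIdeal R, inferInstance, ⟨?_⟩⟩
  exact
    { toFun := fun x => x
      map_add' := fun _ _ => rfl
      map_smul' := fun _ _ => rfl
      invFun := fun x => x
      left_inv := fun _ => rfl
      right_inv := fun _ => rfl }

/-- `0 → M → G → G → 0` for a zero object `M` -/
theorem shortExact_zero_id {C : Type*} [Category C] [Abelian C] (M G : C) (hM : IsZero M) :
    (ShortComplex.mk (0 : M ⟶ G) (𝟙 G) (by simp)).ShortExact := by
  haveI : Mono (0 : M ⟶ G) := ⟨fun a b _ => hM.eq_of_tgt a b⟩
  refine { exact := ?_, mono_f := inferInstance, epi_g := inferInstanceAs (Epi (𝟙 G)) }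
  rw [ShortComplex.exact_iff_mono _ rfl]
  exact inferInstanceAs (Mono (𝟙 G))

end Groth.Agent.Lib.Helper4.Dev
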