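import Mathlib
import Groth.Prelude.Def_Formal
import Groth.Agent.S9530
import Groth.Agent.Lib.Helper20PullbackAff

/-!
# Pullback of `I`-adic data on modules (helper20)

Namespace `Groth.Agent.Lib.Helper20.FormalPull`.

* `pushforward_map_smulModΓ`, `pullback_map_smulModΓ`, `pullback_map_smulMod` : pullback/pushforward commute
  with multiplication by global functions.
* `killedBy_pullback`, `isIso_cokernelDesc_pullback`.
* `isFiniteType_pullback` : pullback of a quasi-coherent finite type module is of finite type.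
-/

set_option autoImplicit false
set_option linter.style.haveILetI false
universe u
open CategoryTheory AlgebraicGeometry Limits TensorProduct Opposite TopologicalSpace

namespace Groth.Agent.Lib.Helper20.FormalPull

section smul
variable {X Y : Scheme.{u}} (f : X ⟶ Y)

theorem pushforward_map_smulModΓ (N : X.Modules) (r : Coh.Γtop Y) :
    (Scheme.Modules.pushforward f).map (Formal.smulModΓ N (f.appTop.hom r)) =
      Formal.smulModΓ ((Scheme.Modules.pushforward f).obj N) r := by
  apply Scheme.Modules.hom_ext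
  intro U
  ext m
  change (show Γ(X, f ⁻¹ᵁ U) from Coh.resTop X (op (f ⁻¹ᵁ U)) (f.appTop.hom r)) •
      (show Γ(N, f ⁻¹ᵁ U) from m) =
    (show Γ(X, f ⁻¹ᵁ U) from (f.app U).hom (Coh.resTop Y (op U) r)) • (show Γ(N, f ⁻¹ᵁ U) from m)
  congr 1
  exact congrArg (fun φ => φ.hom r) (f.naturality (homOfLE (le_top (a := U))).op).symm

theorem pullback_map_smulModΓ (M : Y.Modules) (r : Coh.Γtop Y) :
    (Scheme.Modules.pullback f).map (Formal.smulModΓ M r) =
      Formal.smulModΓ ((Scheme.Modules.pullback f).obj M) (f.appTop.hom r) := by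
  let adj := Scheme.Modules.pullbackPushforwardAdjunction f
  apply (adj.homEquiv _ _).injective
  rw [Adjunction.homEquiv_unit, Adjunction.homEquiv_unit, pushforward_map_smulModΓ]
  have h1 : adj.unit.app M ≫ (Scheme.Modules.pushforward f).map
      ((Scheme.Modules.pullback f).map (Formal.smulModΓ M r)) = Formal.smulModΓ M r ≫ adj.unit.app M :=
    (adj.unit.naturality (Formal.smulModΓ M r)).symm
  exact h1.trans (Groth.Agent.S9530.smulModΓ_comp (adj.unit.app M) r)

end smul

section overA
variable {A : Type u} [CommRing A] {X Y : Scheme.{u}}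
  [X.Over (Spec (CommRingCat.of A))] [Y.Over (Spec (CommRingCat.of A))]
  (f : X ⟶ Y) (hf : f ≫ (Y ↘ Spec (CommRingCat.of A)) = X ↘ Spec (CommRingCat.of A))

include hf in
theorem toGlobal_eq (a : A) :
    Coh.toGlobal (X ↘ Spec (CommRingCat.of A)) a =
      f.appTop.hom (Coh.toGlobal (Y ↘ Spec (CommRingCat.of A)) a) := by
  rw [← hf]
  rfl

include hf in
theorem pullback_map_smulMod (M : Y.Modules) (a : A) :
    (Scheme.Modules.pullback f).map (Formal.smulMod A M a) =
      Formal.smulMod A ((Scheme.Modules.pullback f).obj M) a := by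
  rw [Formal.smulMod, Formal.smulMod, pullback_map_smulModΓ, toGlobal_eq f hf]

include hf in
theorem killedBy_pullback (J : Ideal A) (M : Y.Modules) (h : Formal.KilledBy J M) :
    Formal.KilledBy J ((Scheme.Modules.pullback f).obj M) := by
  intro a ha
  rw [← pullback_map_smulMod f hf, h a ha, Functor.map_zero]

end overA

section cok
variable {C : Type*} [Category C] [HasZeroMorphisms C]

theorem isIso_cokernelDesc_of_isColimit {P Q R : C} (s : P ⟶ Q) [HasCokernel s] (t : Q ⟶ R) (h : s ≫ t = 0)
    (hc : IsColimit (CokernelCofork.ofπ t h)) : IsIso (cokernel.desc s t h) := by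
  refine ⟨⟨hc.desc (CokernelCofork.ofπ (cokernel.π s) (cokernel.condition s)), ?_, ?_⟩⟩
  · apply coequalizer.hom_ext
    rw [← Category.assoc, cokernel.π_desc, Category.comp_id]
    exact Cofork.IsColimit.π_desc hc
  · apply Cofork.IsColimit.hom_ext hc
    have h1 : t ≫ hc.desc (CokernelCofork.ofπ (cokernel.π s) (cokernel.condition s)) = cokernel.π s :=
      Cofork.IsColimit.π_desc hc
    change t ≫ _ ≫ _ = t ≫ 𝟙 _
    rw [← Category.assoc, h1, cokernel.π_desc, Category.comp_id]

/-- if `cokernel.desc s t h` is an isomorphism then `t` is a cokernel of `s`. -/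
noncomputable def isColimitOfIsIsoCokernelDesc {P Q R : C} (s : P ⟶ Q) [HasCokernel s] (t : Q ⟶ R) (h : s ≫ t = 0)
    [IsIso (cokernel.desc s t h)] : IsColimit (CokernelCofork.ofπ t h) :=
  IsColimit.ofIsoColimit (cokernelIsCokernel s)
    (Cofork.ext (asIso (cokernel.desc s t h)) (by simp))

end cok

section overB
variable {A : Type u} [CommRing A] {X Y : Scheme.{u}}
  [X.Over (Spec (CommRingCat.of A))] [Y.Over (Spec (CommRingCat.of A))]
  (f : X ⟶ Y) (hf : f ≫ (Y ↘ Spec (CommRingCat.of A)) = X ↘ Spec (CommRingCat.of A))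

include hf in
theorem smulFamily_pullback (J : Ideal A) (M : Y.Modules) :
    Formal.smulFamily J ((Scheme.Modules.pullback f).obj M) =
      sigmaComparison (Scheme.Modules.pullback f) (fun _ : J => M) ≫
        (Scheme.Modules.pullback f).map (Formal.smulFamily J M) := by
  apply Sigma.hom_ext
  intro a
  rw [ι_comp_sigmaComparison_assoc, ← Functor.map_comp]
  simp only [Formal.smulFamily, colimit.ι_desc, Cofan.mk_ι_app]
  exact (pullback_map_smulMod f hf M a).symm

include hf in
theorem isIso_cokernelDesc_pullback (J : Ideal A) {M M' : Y.Modules} (t : M ⟶ M')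
    (h : Formal.smulFamily J M ≫ t = 0) (hiso : IsIso (cokernel.desc _ t h)) :
    ∃ h' : Formal.smulFamily J ((Scheme.Modules.pullback f).obj M) ≫ (Scheme.Modules.pullback f).map t = 0,
      IsIso (cokernel.desc _ _ h') := by
  have h' : Formal.smulFamily J ((Scheme.Modules.pullback f).obj M) ≫ (Scheme.Modules.pullback f).map t = 0 := by
    rw [smulFamily_pullback f hf, Category.assoc, ← Functor.map_comp, h, Functor.map_zero, comp_zero]
  refine ⟨h', ?_⟩
  let c := CokernelCofork.ofπ t h
  have hc : IsColimit c := isColimitOfIsIsoCokernelDesc _ t h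
  have hc' : IsColimit (c.map (Scheme.Modules.pullback f)) :=
    CokernelCofork.mapIsColimit c hc (Scheme.Modules.pullback f)
  have hc'' := isCokernelEpiComp hc' (sigmaComparison (Scheme.Modules.pullback f) (fun _ : J => M))
    (smulFamily_pullback f hf J M)
  exact isIso_cokernelDesc_of_isColimit _ _ h' hc''

end overB

section ft
open Groth.Agent.Lib.Helper20.Thickening Groth.Agent.Lib.Helper20.PullbackAff Groth.Agent.Lib.Helper23.FinType
variable {X Y : Scheme.{u}} (f : Y ⟶ X) (F : X.Modules) [F.IsQuasicoherent]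
  [SheafOfModules.IsFiniteType (R := X.ringCatSheaf) F]

/-- the pullback of a quasi-coherent module of finite type is of finite type. -/
theorem isFiniteType_pullback :
    SheafOfModules.IsFiniteType (R := Y.ringCatSheaf) ((Scheme.Modules.pullback f).obj F) := by
  let ι : Type u := {U : Y.Opens // IsAffineOpen U ∧ ∃ V : X.Opens, IsAffineOpen V ∧ U ≤ f ⁻¹ᵁ V}
  refine isFiniteType_of_finite _ (fun U : ι => U.1) ?_ (fun U => U.2.1) ?_
  · rw [IsOpenCover, eq_top_iff]
    intro y _
    obtain ⟨V, hV, hyV, -⟩ := exists_isAffineOpen_mem_and_subset (x := f y) (U := ⊤) trivial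
    obtain ⟨U, hU, hyU, hUV⟩ := exists_isAffineOpen_mem_and_subset (x := y) (U := f ⁻¹ᵁ V) hyV
    exact Opens.mem_iSup.2 ⟨⟨U, hU, V, hV, hUV⟩, hyU⟩
  · rintro ⟨U, hU, V, hV, hUV⟩
    set P := (Scheme.Modules.pullback f).obj F with hP
    letI : Algebra Γ(X, V) Γ(Y, U) := (f.appLE V U hUV).hom.toAlgebra
    haveI : Module.Finite Γ(X, V) Γ(F, V) := finite_of_isFiniteType F hV
    haveI hN : Module.Finite Γ(X, V) ((ΓUF hV).obj F) := Module.Finite.equiv (ΓUEquiv hV F)
    let e : (ΓUF hU).obj P ≃ₗ[Γ(Y, U)] (Γ(Y, U) ⊗[Γ(X, V)] ((ΓUF hV).obj F)) :=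
      (ΓUFPullbackIso f hV hU hUV F).toLinearEquiv
    haveI : Module.Finite Γ(Y, U) ((ΓUF hU).obj P) := Module.Finite.equiv e.symm
    exact Module.Finite.equiv (ΓUEquiv hU P).symm

end ft

end Groth.Agent.Lib.Helper20.FormalPull
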