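import Mathlib
import Groth.Prelude.Def_ClSub2
import Groth.Agent.Lib.Helper4DevE
import Groth.Agent.Lib.Helper4DevF
import Groth.Agent.S0786
import Groth.Agent.S0019

/-!
# Direct images of ideal sheaves along integral closed subschemes (helper4)

Facts about `i_* N` for a closed immersion `i : Z ⟶ X`, used for the dévissage of coherent modules by ideal sheaves
of integral closed subschemes:

* `mono_of_injective_app`, `isCoh_structureModule`, `subsingleton_sections_bot`;
* `isCoh_push_closed`, `support_push_subset`, `killedByIdeal_pushforward`, `killedByIdeal_of_mono`,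
  `pushforward_faithful`;
* `germ_pushOne_ne_zero` (the germ of `1 ∈ i_* O_Z` is nonzero at points of `Z`),
  `mono_unit_push_structure` (for integral `Z`, `i_* O_Z` injects into its restriction to any affine open meeting `Z`);
* `exists_ideal_of_mono`: a nonzero quasi-coherent subobject of `i_* O_Z` is `i_* I` for a nonzero quasi-coherent
  ideal `I ⊆ O_Z`;
* `exists_integral_closed'`: the integral closed subscheme with generic point `y`, with its kernel ideal.
-/

set_option autoImplicit false
set_option linter.style.haveILetI false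
set_option linter.unusedSectionVars false
universe u
open CategoryTheory Limits AlgebraicGeometry TopologicalSpace Opposite

namespace Groth.Agent.Lib.Helper4.Dev
open Groth.Agent.Lib.Helper23.QCohLocal Groth.Agent.Lib.Helper2 Groth.Agent.Lib.Helper23.FinType
  Groth.Agent.Lib.Helper2.Push Groth.Agent.Lib.Helper20.StalkExact

section Basic
variable {X : Scheme.{u}}

theorem mono_of_injective_app {A B : X.Modules} (φ : A ⟶ B) (h : ∀ U, Function.Injective (φ.app U)) :
    Mono φ := by
  haveI : Mono ((Scheme.Modules.toPresheaf X).map φ) := by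
    haveI : ∀ U, Mono (((Scheme.Modules.toPresheaf X).map φ).app U) := fun U => by
      rw [AddCommGrpCat.mono_iff_injective]
      exact h U.unop
    exact NatTrans.mono_of_mono_app _
  exact (Scheme.Modules.toPresheaf X).mono_of_mono_map inferInstance

theorem isQuasicoherent_structureModule (P : Scheme.{u}) : (Coh.structureModule P).IsQuasicoherent := by
  unfold Coh.structureModule
  have h : (SheafOfModules.free (R := P.ringCatSheaf) PUnit.{u+1}).IsQuasicoherent := inferInstance
  exact (SheafOfModules.isQuasicoherent P.ringCatSheaf).prop_of_iso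
    (coproductUniqueIso (fun (_ : PUnit.{u+1}) ↦ SheafOfModules.unit P.ringCatSheaf)) h

theorem isCoh_structureModule (P : Scheme.{u}) : Coh.IsCoh (Coh.structureModule P) := by
  haveI := isQuasicoherent_structureModule P
  refine ⟨inferInstance, ?_⟩
  rw [isFiniteType_iff_forall_affine]
  intro U hU
  exact inferInstanceAs (Module.Finite Γ(P, U) Γ(P, U))


theorem subsingleton_sections_bot {Z : Scheme.{u}} (N : Z.Modules) : Subsingleton Γ(N, ⊥) := by
  have hsh : TopCat.Presheaf.IsSheaf N.presheaf := N.isSheaf
  have ht : IsTerminal (N.presheaf.obj (op ⊥)) := TopCat.Sheaf.isTerminalOfEmpty ⟨N.presheaf, hsh⟩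
  have hz : IsZero (N.presheaf.obj (op ⊥)) := by
    rw [Limits.IsZero.iff_id_eq_zero]
    exact ht.hom_ext _ _
  exact AddCommGrpCat.subsingleton_of_isZero hz

end Basic

section Closed
variable {Z X : Scheme.{u}} (i : Z ⟶ X)

/-- sections of `O_Z` as a module are sections of the structure sheaf -/
theorem structureModule_map_apply {W W' : Z.Opens} (h : W' ⟶ W) (s : Γ(Z, W)) :
    (Coh.structureModule Z).presheaf.map h.op (show Γ(Coh.structureModule Z, W) from s) =
      (show Γ(Coh.structureModule Z, W') from Z.presheaf.map h.op s) := rfl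

theorem push_map_apply (N : Z.Modules) {V V' : X.Opens} (h : V' ⟶ V)
    (s : Γ((Scheme.Modules.pushforward i).obj N, V)) :
    ((Scheme.Modules.pushforward i).obj N).presheaf.map h.op s =
      N.presheaf.map ((Opens.map i.base).map h).op s := rfl

/-- the section `1` of `i_* O_Z` -/
noncomputable def pushOne : Γ((Scheme.Modules.pushforward i).obj (Coh.structureModule Z), ⊤) :=
  (1 : Γ(Z, i ⁻¹ᵁ ⊤))

theorem germ_pushOne_ne_zero (z : Z) :
    ((Scheme.Modules.pushforward i).obj (Coh.structureModule Z)).presheaf.germ ⊤ (i z) trivial (pushOne i) ≠ 0 := by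
  intro h0
  have h1 : ((Scheme.Modules.pushforward i).obj (Coh.structureModule Z)).presheaf.germ ⊤ (i z) trivial (pushOne i) =
      ((Scheme.Modules.pushforward i).obj (Coh.structureModule Z)).presheaf.germ ⊤ (i z) trivial 0 := by
    rw [h0, map_zero]
  obtain ⟨W, hzW, iU, _, e⟩ :=
    ((Scheme.Modules.pushforward i).obj (Coh.structureModule Z)).presheaf.germ_eq (i z) (U := ⊤) (V := ⊤) trivial trivial _ _ h1
  rw [map_zero] at e
  have e' : Z.presheaf.map ((Opens.map i.base).map iU).op (1 : Γ(Z, i ⁻¹ᵁ ⊤)) = 0 := e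
  rw [map_one] at e'
  have hz : z ∈ i ⁻¹ᵁ W := hzW
  have := congrArg (Z.presheaf.germ (i ⁻¹ᵁ W) z hz) e'
  rw [map_one, map_zero] at this
  exact one_ne_zero this

theorem mono_unit_push_structure [IsIntegral Z] {U : X.Opens} (hU : IsAffineOpen U)
    (hyU : i (genericPoint Z) ∈ U) :
    Mono ((Scheme.Modules.restrictAdjunction hU.fromSpec).unit.app
      ((Scheme.Modules.pushforward i).obj (Coh.structureModule Z))) := by
  apply mono_of_injective_app
  intro V
  rw [Scheme.Modules.restrictAdjunction_unit_app_app]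
  have hle : hU.fromSpec ''ᵁ hU.fromSpec ⁻¹ᵁ V ≤ V := hU.fromSpec.image_preimage_le V
  change Function.Injective (Z.presheaf.map ((Opens.map i.base).map (homOfLE hle)).op)
  by_cases hne : Nonempty ↥(i ⁻¹ᵁ (hU.fromSpec ''ᵁ hU.fromSpec ⁻¹ᵁ V))
  · exact @map_injective_of_isIntegral Z _ _ _ ((Opens.map i.base).map (homOfLE hle)) hne
  · have hbot : i ⁻¹ᵁ V = ⊥ := by
      by_contra hV
      have hne' : (i ⁻¹ᵁ V : Set Z).Nonempty := by
        rw [Set.nonempty_iff_ne_empty]
        intro h
        exact hV (Opens.ext h)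
      have hgen : genericPoint Z ∈ i ⁻¹ᵁ V := by
        have := ((genericPoint_spec Z).mem_open_set_iff (i ⁻¹ᵁ V).2).2 (by simpa using hne')
        exact this
      apply hne
      refine ⟨⟨genericPoint Z, ?_⟩⟩
      change i (genericPoint Z) ∈ hU.fromSpec ''ᵁ hU.fromSpec ⁻¹ᵁ V
      rw [Scheme.Hom.image_preimage_eq_opensRange_inf, hU.opensRange_fromSpec]
      exact ⟨hyU, hgen⟩
    haveI : Subsingleton Γ(Z, i ⁻¹ᵁ V) := by
      rw [hbot]; infer_instance
    intro a b _
    exact Subsingleton.elim (α := Γ(Z, i ⁻¹ᵁ V)) a b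

end Closed

section Closed2
variable {Z X : Scheme.{u}} (i : Z ⟶ X) [IsClosedImmersion i]

theorem isCoh_push_closed [IsLocallyNoetherian X] (N : Z.Modules) (hN : Coh.IsCoh N) :
    Coh.IsCoh ((Scheme.Modules.pushforward i).obj N) := Groth.Agent.S0019.result i N hN

theorem support_push_subset (N : Z.Modules) :
    CohB1.support ((Scheme.Modules.pushforward i).obj N) ⊆ Set.range ⇑i := by
  intro x hx
  by_contra hxr
  apply hx
  have hcl : IsClosed (Set.range ⇑i) := i.isClosedEmbedding.isClosed_range
  let V : X.Opens := ⟨(Set.range ⇑i)ᶜ, hcl.isOpen_compl⟩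
  have hxV : x ∈ V := hxr
  have hzero : ∀ a : ((Scheme.Modules.pushforward i).obj N).presheaf.stalk x, a = 0 := by
    intro a
    obtain ⟨U, hxU, s, rfl⟩ := ((Scheme.Modules.pushforward i).obj N).presheaf.exists_germ_eq a
    have hxW : x ∈ U ⊓ V := ⟨hxU, hxV⟩
    have hpre : i ⁻¹ᵁ (U ⊓ V) = ⊥ := by
      ext z
      constructor
      · intro h
        exact absurd ⟨z, rfl⟩ h.2
      · intro h
        exact absurd h (by simp)
    haveI : Subsingleton Γ(N, i ⁻¹ᵁ (U ⊓ V)) := by
      rw [hpre]; exact subsingleton_sections_bot N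
    haveI : Subsingleton Γ((Scheme.Modules.pushforward i).obj N, U ⊓ V) :=
      inferInstanceAs (Subsingleton Γ(N, i ⁻¹ᵁ (U ⊓ V)))
    rw [← ((Scheme.Modules.pushforward i).obj N).presheaf.germ_res_apply (homOfLE inf_le_left) x hxW s]
    rw [Subsingleton.elim (((Scheme.Modules.pushforward i).obj N).presheaf.map (homOfLE inf_le_left).op s) 0,
      map_zero]
  constructor
  intro a b
  rw [hzero a, hzero b]

theorem exists_preimage_eq (V : Z.Opens) : ∃ U : X.Opens, i ⁻¹ᵁ U = V := by
  obtain ⟨t, ht, htV⟩ := i.isClosedEmbedding.isInducing.isOpen_iff.1 V.2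
  exact ⟨⟨t, ht⟩, Opens.ext htV⟩

theorem pushforward_faithful : (Scheme.Modules.pushforward i).Faithful := by
  constructor
  intro M N φ ψ h
  apply Scheme.Modules.hom_ext
  intro V
  obtain ⟨U, rfl⟩ := exists_preimage_eq i V
  exact congrArg (fun χ => χ.app U) h

theorem killedByIdeal_pushforward (N : Z.Modules) :
    ClSub.KilledByIdeal i.ker ((Scheme.Modules.pushforward i).obj N) := by
  intro U a ha m
  rw [Scheme.Hom.ker_apply] at ha
  have h0 : i.app U.1 a = 0 := ha
  have := pushforward_smul i N U.1 a m
  refine this.trans ?_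
  rw [h0, zero_smul]
  rfl

theorem killedByIdeal_of_mono {I : X.IdealSheafData} {A B : X.Modules} (m : A ⟶ B) [Mono m]
    (hB : ClSub.KilledByIdeal I B) : ClSub.KilledByIdeal I A := by
  intro U a ha x0
  let x : Γ(A, U.1) := x0
  change a • x = 0
  apply injective_app_of_mono m U.1
  have h1 : m.app U.1 (a • x) = a • m.app U.1 x := Scheme.Modules.Hom.app_smul m a x
  refine h1.trans ?_
  rw [map_zero]
  exact hB U a ha _

theorem exists_ideal_of_mono (Q : X.Modules) [Q.IsQuasicoherent]
    (m : Q ⟶ (Scheme.Modules.pushforward i).obj (Coh.structureModule Z)) [Mono m] (hQ : ¬ IsZero Q) :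
    ∃ (I : Z.Modules) (ι : I ⟶ Coh.structureModule Z), Mono ι ∧ Coh.IsQCoh I ∧ ¬ IsZero I ∧
      Nonempty (Q ≅ (Coh.push i).obj I) := by
  have hk : ClSub.KilledByIdeal i.ker Q := killedByIdeal_of_mono m (killedByIdeal_pushforward i _)
  let adj := Scheme.Modules.pullbackPushforwardAdjunction i
  haveI hiso : IsIso (adj.unit.app Q) :=
    Groth.Agent.S0786.isIso_unit_closedImmersion i Q (fun U r hr x => hk U r hr x)
  let ι : (Scheme.Modules.pullback i).obj Q ⟶ Coh.structureModule Z :=
    (Scheme.Modules.pullback i).map m ≫ adj.counit.app (Coh.structureModule Z)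
  have hι : adj.unit.app Q ≫ (Scheme.Modules.pushforward i).map ι = m := by
    simp only [ι, Functor.map_comp]
    have hnat := adj.unit.naturality m
    simp only [Functor.id_obj, Functor.id_map, Functor.comp_obj, Functor.comp_map] at hnat
    rw [← Category.assoc, ← hnat, Category.assoc, adj.right_triangle_components, Category.comp_id]
  haveI := pushforward_faithful i
  haveI : Mono ((Scheme.Modules.pushforward i).map ι) := by
    have : (Scheme.Modules.pushforward i).map ι = inv (adj.unit.app Q) ≫ m := by
      rw [← hι, IsIso.inv_hom_id_assoc]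
    rw [this]
    infer_instance
  refine ⟨(Scheme.Modules.pullback i).obj Q, ι, (Scheme.Modules.pushforward i).mono_of_mono_map inferInstance,
    Groth.Agent.Lib.Helper2.PullbackSec.isQuasicoherent_pullback i Q, ?_, ⟨asIso (adj.unit.app Q)⟩⟩
  intro hz
  apply hQ
  have : IsZero ((Scheme.Modules.pushforward i).obj ((Scheme.Modules.pullback i).obj Q)) :=
    (Scheme.Modules.pushforward i).map_isZero hz
  exact this.of_iso (asIso (adj.unit.app Q))

end Closed2

/-- the integral closed subscheme with generic point `y`, with its kernel ideal -/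
theorem exists_integral_closed' {X : Scheme.{u}} (y : X) :
    ∃ (Z : Scheme.{u}) (i : Z ⟶ X) (_ : IsClosedImmersion i) (_ : IsIntegral Z),
      Set.range ⇑i = closure {y} ∧ i (genericPoint Z) = y ∧
      i.ker = Scheme.IdealSheafData.vanishingIdeal ⟨closure {y}, isClosed_closure⟩ := by
  let X' : TopologicalSpace.Closeds X := ⟨closure {y}, isClosed_closure⟩
  haveI : IrreducibleSpace ↥(Scheme.IdealSheafData.vanishingIdeal X').subscheme :=
    irreducibleSpace_subscheme' X' y rfl
  haveI : IsReduced (Scheme.IdealSheafData.vanishingIdeal X').subscheme :=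
    Groth.Agent.Lib.Helper10.RedInd.isReduced_subscheme_vanishingIdeal X'
  haveI : IsIntegral (Scheme.IdealSheafData.vanishingIdeal X').subscheme :=
    isIntegral_of_irreducibleSpace_of_isReduced _
  exact ⟨_, (Scheme.IdealSheafData.vanishingIdeal X').subschemeι, inferInstance, inferInstance,
    range_subschemeι_vanishingIdeal' X', subschemeι_genericPoint' X' y rfl,
    Scheme.IdealSheafData.ker_subschemeι _⟩

end Groth.Agent.Lib.Helper4.Dev
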