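import Mathlib
import Groth.Agent.Lib.Helper4DevG
import Groth.Agent.Lib.Helper4DevH
import Groth.Agent.Lib.Helper4DevI

/-!
# Dévissage by ideal sheaves of integral closed subschemes (helper4)

`ideal_step`: let `K` be an isomorphism-invariant class of modules closed under extensions of coherent modules
(supported in `Y ⊇ closure {y}`), containing every coherent module supported in `closure {y}` with vanishing stalk at
`y`, and containing `i_* I` for every nonzero quasi-coherent ideal `I` (with `i_* I` coherent) of the integral closed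
subscheme `i : Z ⟶ X` with `i(Z) = closure {y}`.  Then `K` contains every coherent module supported in `closure {y}`.
-/

set_option autoImplicit false
set_option linter.style.haveILetI false
universe u
open CategoryTheory Limits AlgebraicGeometry TopologicalSpace Opposite

namespace Groth.Agent.Lib.Helper4.Dev

variable {X : Scheme.{u}}

theorem subsingleton_stalk_of_isZero {Q : X.Modules} (hQ : IsZero Q) (y : X) :
    Subsingleton (Q.presheaf.stalk y) := by
  have key : ∀ z : Q.presheaf.stalk y, z = 0 := by
    intro z
    have h1 : stalkL (𝟙 Q) y z = z := by rw [stalkL_id]; rfl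
    rw [← h1, hQ.eq_of_src (𝟙 Q) 0, stalkL_zero]
    rfl
  exact ⟨fun a b => by rw [key a, key b]⟩

/-- version of `ideal_step` whose hypothesis on ideals also receives the generic point and the kernel ideal of `i` -/
theorem ideal_step' [IsLocallyNoetherian X] (K : X.Modules → Prop) (Y : Set X)
    (hiso : ∀ M N : X.Modules, Nonempty (M ≅ N) → K M → K N)
    (hext : ∀ S : ShortComplex X.Modules, S.ShortExact → Coh.IsCoh S.X₁ → Coh.IsCoh S.X₂ → Coh.IsCoh S.X₃ →
      CohB1.support S.X₂ ⊆ Y → K S.X₁ → K S.X₃ → K S.X₂)
    (y : X) (hyY : closure {y} ⊆ Y)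
    (IH : ∀ E : X.Modules, Coh.IsCoh E → CohB1.support E ⊆ closure {y} →
      Subsingleton (E.presheaf.stalk y) → K E)
    (hideal : ∀ (Z : Scheme.{u}) (i : Z ⟶ X) [IsClosedImmersion i] [IsIntegral Z],
      Set.range ⇑i = closure {y} → i (genericPoint Z) = y →
      i.ker = Scheme.IdealSheafData.vanishingIdeal ⟨closure {y}, isClosed_closure⟩ →
      ∀ (I : Z.Modules) (ι : I ⟶ Coh.structureModule Z), Mono ι → Coh.IsQCoh I → ¬ IsZero I →
        Coh.IsCoh ((Coh.push i).obj I) → K ((Coh.push i).obj I))
    (F : X.Modules) (hF : Coh.IsCoh F) (hsF : CohB1.support F ⊆ closure {y}) : K F := by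
  obtain ⟨Z, i, hci, hint, hrange, hgen, hker⟩ := exists_integral_closed' y
  haveI := hci
  haveI := hint
  let G : X.Modules := (Scheme.Modules.pushforward i).obj (Coh.structureModule Z)
  have hG : Coh.IsCoh G := isCoh_push_closed i _ (isCoh_structureModule Z)
  haveI : G.IsQuasicoherent := hG.1
  have hsG : CohB1.support G ⊆ closure {y} := hrange ▸ support_push_subset i _
  have hkG : ClSub.KilledByIdeal (Scheme.IdealSheafData.vanishingIdeal ⟨closure {y}, isClosed_closure⟩) G :=
    hker ▸ killedByIdeal_pushforward i _
  have htf : ∀ (U : X.Opens) (hU : IsAffineOpen U), y ∈ U →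
      Mono ((Scheme.Modules.restrictAdjunction hU.fromSpec).unit.app G) := by
    intro U hU hyU
    exact mono_unit_push_structure i hU (hgen ▸ hyU)
  obtain ⟨ψ, hψ⟩ : ∃ ψ : (X.presheaf.stalk y ⧸ IsLocalRing.maximalIdeal (X.presheaf.stalk y))
      →ₗ[X.presheaf.stalk y] G.presheaf.stalk y, Function.Injective ψ := by
    subst hgen
    exact exists_injective_of_residue (G.presheaf.germ ⊤ (i (genericPoint Z)) trivial (pushOne i))
      (germ_pushOne_ne_zero i (genericPoint Z))
      (fun r hr => maximalIdeal_smul_stalk_eq_zero G _ hkG r hr _)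
  have main : ∀ (n : ℕ) (F : X.Modules), Coh.IsCoh F → CohB1.support F ⊆ closure {y} →
      Module.length (X.presheaf.stalk y) (F.presheaf.stalk y) = n → K F := by
    intro n
    induction n with
    | zero =>
      intro F hF hsF hlen
      refine IH F hF hsF ?_
      rw [← Module.length_eq_zero_iff (R := X.presheaf.stalk y)]
      exact_mod_cast hlen
    | succ n ih =>
      intro F hF hsF hlen
      have hfl : IsFiniteLength (X.presheaf.stalk y) (F.presheaf.stalk y) := by
        rw [← Module.length_ne_top_iff, hlen]
        exact ENat.natCast_ne_top _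
      haveI : IsNoetherian (X.presheaf.stalk y) (F.presheaf.stalk y) :=
        (isFiniteLength_iff_isNoetherian_isArtinian.1 hfl).1
      haveI : Nontrivial (F.presheaf.stalk y) := by
        rw [← Module.length_pos_iff (R := X.presheaf.stalk y), hlen]
        exact_mod_cast Nat.succ_pos n
      obtain ⟨f, hf⟩ := exists_surjective_to_residue (R := X.presheaf.stalk y) (M := F.presheaf.stalk y)
      obtain ⟨H, p₁, p₂, hH, hmono, hbij, ⟨u, hu, hrel⟩⟩ :=
        exists_graph_of_stalk_coh' F G hF hG y (ψ ∘ₗ f) htf
      haveI : Mono p₁ := hmono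
      have hsH : CohB1.support H ⊆ closure {y} := (support_subset_of_mono p₁).trans hsF
      let e := Abelian.factorThruImage p₂
      let m := Abelian.image.ι p₂
      have hfac : e ≫ m = p₂ := Abelian.image.fac p₂
      haveI : Epi e := inferInstanceAs (Epi (Abelian.factorThruImage p₂))
      haveI : Mono m := inferInstanceAs (Mono (Abelian.image.ι p₂))
      have hI : Coh.IsCoh (Abelian.image p₂) := isCoh_image p₂ hH hG
      have hsI : CohB1.support (Abelian.image p₂) ⊆ closure {y} := (support_subset_of_mono m).trans hsG
      have hrange' : LinearMap.range (stalkL m y) = LinearMap.range ψ := by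
        ext z
        constructor
        · rintro ⟨w, rfl⟩
          obtain ⟨x, rfl⟩ := stalkL_surjective_of_epi e y w
          rw [← stalkL_comp_apply, hfac, hrel]
          refine ⟨u • f (stalkL p₁ y x), ?_⟩
          rw [map_smul]
          rfl
        · rintro ⟨c, rfl⟩
          obtain ⟨a, ha⟩ := hf ((hu.unit⁻¹ : (X.presheaf.stalk y)ˣ).1 • c)
          obtain ⟨x, rfl⟩ := hbij.2 a
          refine ⟨stalkL e y x, ?_⟩
          rw [← stalkL_comp_apply, hfac, hrel, LinearMap.comp_apply, ha, map_smul, smul_smul]
          simp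
      have hlenI : Module.length (X.presheaf.stalk y) ((Abelian.image p₂).presheaf.stalk y) = 1 := by
        have e1 := (LinearEquiv.ofInjective (stalkL m y) (stalkL_injective_of_mono m y)).length_eq
        have e2 := (LinearEquiv.ofInjective ψ hψ).length_eq
        rw [e1, hrange', ← e2]
        haveI := isSimpleModule_quot_maximalIdeal (R := X.presheaf.stalk y)
        exact Module.length_eq_one _ _
      have hlenH : Module.length (X.presheaf.stalk y) (H.presheaf.stalk y) = (n + 1 : ℕ) := by
        rw [(LinearEquiv.ofBijective (stalkL p₁ y) hbij).length_eq, hlen]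
      have hadd := length_stalk_add (sesOfEpi e) (sesOfEpi_shortExact e) y
      change Module.length (X.presheaf.stalk y) (H.presheaf.stalk y) =
        Module.length (X.presheaf.stalk y) ((kernel e).presheaf.stalk y) +
        Module.length (X.presheaf.stalk y) ((Abelian.image p₂).presheaf.stalk y) at hadd
      have hlenK : Module.length (X.presheaf.stalk y) ((kernel e).presheaf.stalk y) = n := by
        have h1 : ((n : ℕ) : ℕ∞) + 1 =
            Module.length (X.presheaf.stalk y) ((kernel e).presheaf.stalk y) + 1 := by
          rw [hlenH, hlenI] at hadd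
          rw [← hadd]; push_cast; rfl
        exact (ENat.add_left_injective_of_ne_top ENat.one_ne_top h1).symm
      have hKker : K (kernel e) :=
        ih _ (isCoh_kernel e hH hI) ((support_subset_of_mono (kernel.ι e)).trans hsH) hlenK
      have hnz : ¬ IsZero (Abelian.image p₂) := by
        intro hz
        haveI := subsingleton_stalk_of_isZero hz y
        have h0 : Module.length (X.presheaf.stalk y) ((Abelian.image p₂).presheaf.stalk y) = 0 :=
          Module.length_eq_zero_iff.2 inferInstance
        rw [hlenI] at h0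
        exact one_ne_zero h0
      have hKI : K (Abelian.image p₂) := by
        haveI : (Abelian.image p₂).IsQuasicoherent := hI.1
        obtain ⟨I, ι, hιm, hIq, hInz, ⟨eI⟩⟩ := exists_ideal_of_mono i (Abelian.image p₂) m hnz
        exact hiso _ _ ⟨eI.symm⟩ (hideal Z i hrange hgen hker I ι hιm hIq hInz (isCoh_of_iso eI hI))
      have hKH : K H :=
        hext (sesOfEpi e) (sesOfEpi_shortExact e) (isCoh_kernel e hH hI) hH hI (hsH.trans hyY) hKker hKI
      have hcok : Coh.IsCoh (cokernel p₁) := isCoh_cokernel p₁ hH hF
      exact hext (sesOfMono p₁) (sesOfMono_shortExact p₁) hH hF hcok (hsF.trans hyY) hKH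
        (IH (cokernel p₁) hcok ((support_subset_of_epi (cokernel.π p₁)).trans hsF)
          (subsingleton_stalk_cokernel_of_surjective p₁ y hbij.2))
  have hfl := isFiniteLength_stalk F hF y hsF
  rw [← Module.length_ne_top_iff] at hfl
  obtain ⟨n, hn⟩ := ENat.ne_top_iff_exists.1 hfl
  exact main n F hF hsF hn.symm

theorem ideal_step [IsLocallyNoetherian X] (K : X.Modules → Prop) (Y : Set X)
    (hiso : ∀ M N : X.Modules, Nonempty (M ≅ N) → K M → K N)
    (hext : ∀ S : ShortComplex X.Modules, S.ShortExact → Coh.IsCoh S.X₁ → Coh.IsCoh S.X₂ → Coh.IsCoh S.X₃ →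
      CohB1.support S.X₂ ⊆ Y → K S.X₁ → K S.X₃ → K S.X₂)
    (y : X) (hyY : closure {y} ⊆ Y)
    (IH : ∀ E : X.Modules, Coh.IsCoh E → CohB1.support E ⊆ closure {y} →
      Subsingleton (E.presheaf.stalk y) → K E)
    (hideal : ∀ (Z : Scheme.{u}) (i : Z ⟶ X), IsClosedImmersion i → IsIntegral Z →
      Set.range ⇑i = closure {y} →
      ∀ (I : Z.Modules) (ι : I ⟶ Coh.structureModule Z), Mono ι → Coh.IsQCoh I → ¬ IsZero I →
        Coh.IsCoh ((Coh.push i).obj I) → K ((Coh.push i).obj I))
    (F : X.Modules) (hF : Coh.IsCoh F) (hsF : CohB1.support F ⊆ closure {y}) : K F :=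
  ideal_step' K Y hiso hext y hyY IH (fun Z i hci hint hr _ _ => hideal Z i hci hint hr) F hF hsF

end Groth.Agent.Lib.Helper4.Dev
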