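import Mathlib
import Groth.Agent.Lib.Helper4DevJ

/-!
# Filtrations by direct images of ideal sheaves of integral closed subschemes (helper4)

* `preP`, `preQ`, `preF`, `preSES_shortExact`, `cokernelPreIso`: for a short exact sequence `0 → A → B → C → 0` in an
  abelian category and a subobject `C' ⊆ C`, the preimage `B' ⊆ B` of `C'` sits in a short exact sequence
  `0 → A → B' → C' → 0` and `B/B' ≅ C/C'`.
* `IsIdealPush C`: `C ≅ i_* I` for a nonzero quasi-coherent ideal `I` of an integral closed subscheme `i : Z ⟶ X`.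
* `DescFilt M`: `M` has a finite descending filtration by coherent modules with quotients `IsIdealPush`;
  `DescFilt.of_iso`, `.zero`, `.prepend`, `.ext`, `.toAsc`, `DescFilt.of_coh` (every coherent module on a Noetherian
  scheme).
-/

set_option autoImplicit false
set_option linter.style.haveILetI false
set_option linter.unusedSectionVars false
universe u v
open CategoryTheory Limits AlgebraicGeometry TopologicalSpace Opposite

namespace Groth.Agent.Lib.Helper4.Dev

section Ab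
variable {C : Type u} [Category.{v} C] [Abelian C]
variable (S : ShortComplex C) {C' : C} (ι : C' ⟶ S.X₃)

/-- `B → C → C/C'` -/
noncomputable def preP : S.X₂ ⟶ cokernel ι := S.g ≫ cokernel.π ι

variable [Mono ι]

/-- `B' → C'` where `B' = ker (B → C/C')` -/
noncomputable def preQ : kernel (preP S ι) ⟶ C' :=
  Abelian.monoLift ι (kernel.ι (preP S ι) ≫ S.g) (by
    rw [Category.assoc]; exact kernel.condition (preP S ι))

lemma preQ_comp : preQ S ι ≫ ι = kernel.ι (preP S ι) ≫ S.g := Abelian.monoLift_comp _ _ _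

/-- `A → B'` -/
noncomputable def preF : S.X₁ ⟶ kernel (preP S ι) :=
  kernel.lift _ S.f (by simp [preP])

lemma preF_comp : preF S ι ≫ kernel.ι (preP S ι) = S.f := kernel.lift_ι _ _ _

lemma preF_preQ : preF S ι ≫ preQ S ι = 0 := by
  rw [← cancel_mono ι, Category.assoc, preQ_comp, ← Category.assoc, preF_comp, S.zero, zero_comp]

theorem preSES_shortExact (hS : S.ShortExact) :
    (ShortComplex.mk (preF S ι) (preQ S ι) (preF_preQ S ι)).ShortExact := by
  haveI := hS.mono_f
  haveI := hS.epi_g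
  haveI : Mono (preF S ι) := mono_of_mono_fac (preF_comp S ι)
  haveI : Epi (preQ S ι) := by
    rw [epi_iff_surjective_up_to_refinements]
    intro T c'
    obtain ⟨T', π, hπ, b, hb⟩ := (epi_iff_surjective_up_to_refinements S.g).1 inferInstance (c' ≫ ι)
    have hb0 : b ≫ preP S ι = 0 := by
      simp only [preP]
      rw [← Category.assoc, ← hb, Category.assoc, Category.assoc, cokernel.condition, comp_zero, comp_zero]
    refine ⟨T', π, hπ, kernel.lift _ b hb0, ?_⟩
    rw [← cancel_mono ι, Category.assoc, Category.assoc, preQ_comp, kernel.lift_ι_assoc, hb]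
  refine ShortComplex.ShortExact.mk ?_
  rw [ShortComplex.exact_iff_exact_up_to_refinements]
  intro T t ht
  dsimp at t ht ⊢
  have h0 : (t ≫ kernel.ι (preP S ι)) ≫ S.g = 0 := by
    rw [Category.assoc, ← preQ_comp, ← Category.assoc, ht, zero_comp]
  obtain ⟨T', π, hπ, a, ha⟩ := hS.exact.exact_up_to_refinements (t ≫ kernel.ι (preP S ι)) h0
  refine ⟨T', π, hπ, a, ?_⟩
  rw [← cancel_mono (kernel.ι (preP S ι)), Category.assoc, Category.assoc, preF_comp, ← ha]

/-- `B/B' ≅ C/C'` -/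
noncomputable def cokernelPreIso (hS : S.ShortExact) : cokernel (kernel.ι (preP S ι)) ≅ cokernel ι := by
  haveI := hS.epi_g
  haveI : Epi (preP S ι) := by unfold preP; infer_instance
  exact (cokernelIsCokernel (kernel.ι (preP S ι))).coconePointUniqueUpToIso
    (Abelian.epiIsCokernelOfKernel _ (limit.isLimit (parallelPair (preP S ι) 0)))

end Ab


section Filt
variable {X : Scheme.{u}}

/-- `C ≅ i_* I` for a nonzero quasi-coherent ideal `I` of an integral closed subscheme `i : Z ⟶ X` -/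
def IsIdealPush (C : X.Modules) : Prop :=
  ∃ (Z : Scheme.{u}) (i : Z ⟶ X), IsClosedImmersion i ∧ IsIntegral Z ∧
    ∃ (I : Z.Modules) (ι : I ⟶ Coh.structureModule Z), Mono ι ∧ Coh.IsQCoh I ∧ ¬ IsZero I ∧
      Nonempty (C ≅ (Coh.push i).obj I)

theorem IsIdealPush.of_iso {C C' : X.Modules} (e : C ≅ C') (h : IsIdealPush C) : IsIdealPush C' := by
  obtain ⟨Z, i, h1, h2, I, ι, h3, h4, h5, ⟨e'⟩⟩ := h
  exact ⟨Z, i, h1, h2, I, ι, h3, h4, h5, ⟨e.symm ≪≫ e'⟩⟩

/-- `M` has a finite descending filtration by coherent modules with quotients of the form `i_* I` -/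
def DescFilt (M : X.Modules) : Prop :=
  ∃ (m : ℕ) (D : ℕ → X.Modules) (ψ : (j : ℕ) → (D (j + 1) ⟶ D j)),
    Nonempty (D 0 ≅ M) ∧ IsZero (D m) ∧ (∀ j ≤ m, Coh.IsCoh (D j)) ∧
      ∀ j < m, Mono (ψ j) ∧ IsIdealPush (cokernel (ψ j))

theorem DescFilt.of_iso {M N : X.Modules} (e : M ≅ N) (h : DescFilt M) : DescFilt N := by
  obtain ⟨m, D, ψ, ⟨e'⟩, hz, hcoh, hstep⟩ := h
  exact ⟨m, D, ψ, ⟨e' ≪≫ e⟩, hz, hcoh, hstep⟩

theorem DescFilt.zero [IsLocallyNoetherian X] {M : X.Modules} (hM : IsZero M) : DescFilt M :=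
  ⟨0, fun _ => M, fun _ => 𝟙 M, ⟨Iso.refl _⟩, hM,
    fun _ _ => isCoh_of_isZero hM (isCoh_structureModule X), fun j hj => absurd hj (Nat.not_lt_zero j)⟩

theorem DescFilt.prepend {B' B : X.Modules} (h : DescFilt B') (j : B' ⟶ B) [Mono j] (hB : Coh.IsCoh B)
    (hc : IsIdealPush (cokernel j)) : DescFilt B := by
  obtain ⟨m, D, ψ, ⟨e⟩, hz, hcoh, hstep⟩ := h
  let D' : ℕ → X.Modules := fun n => match n with
    | 0 => B
    | (k + 1) => D k
  let ψ' : (n : ℕ) → (D' (n + 1) ⟶ D' n) := fun n => match n with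
    | 0 => e.hom ≫ j
    | (k + 1) => ψ k
  refine ⟨m + 1, D', ψ', ⟨Iso.refl _⟩, hz, ?_, ?_⟩
  · intro n hn
    cases n with
    | zero => exact hB
    | succ k => exact hcoh k (by omega)
  · intro n hn
    cases n with
    | zero =>
      exact ⟨inferInstanceAs (Mono (e.hom ≫ j)), hc.of_iso (cokernelEpiComp e.hom j).symm⟩
    | succ k => exact hstep k (by omega)

theorem DescFilt.ext_aux [IsLocallyNoetherian X] : ∀ (m : ℕ) (D : ℕ → X.Modules)
    (ψ : (j : ℕ) → (D (j + 1) ⟶ D j)),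
    IsZero (D m) → (∀ j ≤ m, Coh.IsCoh (D j)) → (∀ j < m, Mono (ψ j) ∧ IsIdealPush (cokernel (ψ j))) →
    ∀ S : ShortComplex X.Modules, S.ShortExact → Coh.IsCoh S.X₁ → Coh.IsCoh S.X₂ → (D 0 ≅ S.X₃) →
      DescFilt S.X₁ → DescFilt S.X₂
  | 0, D, ψ, hz, _, _, S, hS, _, _, e, h1 => by
      have hz3 : IsZero S.X₃ := hz.of_iso e.symm
      haveI : IsIso S.f := hS.isIso_f_iff.2 hz3
      exact DescFilt.of_iso (asIso S.f) h1
  | (k + 1), D, ψ, hz, hcoh, hstep, S, hS, h1c, h2c, e, h1 => by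
      haveI : Mono (ψ 0) := (hstep 0 (by omega)).1
      let ι : D 1 ⟶ S.X₃ := ψ 0 ≫ e.hom
      haveI : Mono ι := mono_comp _ _
      have hS' := preSES_shortExact S ι hS
      have h3c : Coh.IsCoh S.X₃ := isCoh_of_iso e (hcoh 0 (by omega))
      have hB' : Coh.IsCoh (kernel (preP S ι)) :=
        isCoh_kernel _ h2c (isCoh_cokernel ι (hcoh 1 (by omega)) h3c)
      have hF : DescFilt (kernel (preP S ι)) :=
        DescFilt.ext_aux k (fun j => D (j + 1)) (fun j => ψ (j + 1)) hz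
          (fun j hj => hcoh (j + 1) (by omega)) (fun j hj => hstep (j + 1) (by omega)) _ hS' h1c hB'
          (Iso.refl _) h1
      exact hF.prepend (kernel.ι (preP S ι)) h2c
        ((hstep 0 (by omega)).2.of_iso
          ((cokernelCompIsIso (ψ 0) e.hom).symm ≪≫ (cokernelPreIso S ι hS).symm))

theorem DescFilt.ext [IsLocallyNoetherian X] (S : ShortComplex X.Modules) (hS : S.ShortExact)
    (h1c : Coh.IsCoh S.X₁) (h2c : Coh.IsCoh S.X₂) (h1 : DescFilt S.X₁) (h3 : DescFilt S.X₃) :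
    DescFilt S.X₂ := by
  obtain ⟨m, D, ψ, ⟨e⟩, hz, hcoh, hstep⟩ := h3
  exact DescFilt.ext_aux m D ψ hz hcoh hstep S hS h1c h2c e h1

theorem DescFilt.toAsc {M : X.Modules} (h : DescFilt M) :
    ∃ (m : ℕ) (F : ℕ → X.Modules) (φ : (j : ℕ) → (F j ⟶ F (j + 1))),
      IsZero (F 0) ∧ Nonempty (F m ≅ M) ∧ (∀ j ≤ m, Coh.IsCoh (F j)) ∧
        ∀ j < m, Mono (φ j) ∧ IsIdealPush (cokernel (φ j)) := by
  obtain ⟨m, D, ψ, ⟨e⟩, hz, hcoh, hstep⟩ := h
  have hidx : ∀ j, j < m → m - j = (m - (j + 1)) + 1 := fun j hj => by omega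
  let F : ℕ → X.Modules := fun j => D (m - j)
  let φ : (j : ℕ) → (F j ⟶ F (j + 1)) := fun j =>
    if hj : j < m then eqToHom (congrArg D (hidx j hj)) ≫ ψ (m - (j + 1)) else 0
  refine ⟨m, F, φ, ?_, ?_, ?_, ?_⟩
  · change IsZero (D (m - 0))
    rw [Nat.sub_zero]; exact hz
  · change Nonempty (D (m - m) ≅ M)
    rw [Nat.sub_self]; exact ⟨e⟩
  · intro j _
    exact hcoh (m - j) (Nat.sub_le m j)
  · intro j hj
    have hφ : φ j = eqToHom (congrArg D (hidx j hj)) ≫ ψ (m - (j + 1)) := dif_pos hj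
    obtain ⟨hm, hc⟩ := hstep (m - (j + 1)) (by omega)
    haveI := hm
    rw [hφ]
    exact ⟨mono_comp _ _, hc.of_iso (cokernelEpiComp _ _).symm⟩

open ZeroObject in
/-- **Filtration of coherent modules**: on a Noetherian scheme every coherent module has a finite filtration by
coherent submodules whose successive quotients are direct images of nonzero quasi-coherent ideals of integral closed
subschemes. -/
theorem DescFilt.of_coh [IsNoetherian X] (M : X.Modules) (hM : Coh.IsCoh M) : DescFilt M := by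
  refine noetherian_induction_coh DescFilt Set.univ (fun M N ⟨e⟩ h => h.of_iso e)
    (fun M hM => DescFilt.zero hM) (fun S hS c1 c2 _ _ h1 h3 => DescFilt.ext S hS c1 c2 h1 h3) ?_ M hM
    (Set.subset_univ _)
  intro y _ IH F hF hsF
  refine ideal_step DescFilt Set.univ (fun M N ⟨e⟩ h => h.of_iso e)
    (fun S hS c1 c2 _ _ h1 h3 => DescFilt.ext S hS c1 c2 h1 h3) y (Set.subset_univ _) IH ?_ F hF hsF
  intro Z i hci hint _ I ι hι hIq hInz hIc
  haveI : Mono (0 : (0 : X.Modules) ⟶ (Coh.push i).obj I) := (isZero_zero _).mono _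
  exact (DescFilt.zero (isZero_zero X.Modules)).prepend (0 : (0 : X.Modules) ⟶ (Coh.push i).obj I) hIc
    ⟨Z, i, hci, hint, I, ι, hι, hIq, hInz, ⟨cokernelZeroIsoTarget⟩⟩

end Filt

end Groth.Agent.Lib.Helper4.Dev
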