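import Mathlib
import Groth.Agent.Lib.Helper4DevK

/-!
# Torsion-free refinements of coherent modules supported on an irreducible closed subset (helper4)

`TFat E y U`: sections of `E` over `U` are detected by their germ at `y`.
* `TFat.of_mono`, `TFat.of_notMem`, `isZero_of_TFat`;
* `tf_step`, `tf_refine`: a coherent module `G` supported in `closure {y}` contains a coherent submodule `G'` with
  the same stalk at `y` such that `TFat G' y U` for finitely many given affine opens `U`;
* `K_transfer`: transfer of membership in a class (closed under kernels of epimorphisms and extensions, containing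
  the modules with vanishing stalk at `y`) from a "torsion-free" `E₁` to `E₂` with isomorphic stalk at `y`.
-/

set_option autoImplicit false
set_option linter.style.haveILetI false
set_option linter.unusedSectionVars false
universe u
open CategoryTheory Limits AlgebraicGeometry TopologicalSpace Opposite

namespace Groth.Agent.Lib.Helper4.Dev
open Groth.Agent.Lib.Helper23.QCohLocal Groth.Agent.Lib.Helper2 Groth.Agent.Lib.Helper23.FinType
  Groth.Agent.Lib.Helper2.Push Groth.Agent.Lib.Helper20.StalkExact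

variable {X : Scheme.{u}}

/-- sections of `E` over `U` are detected by their germ at `y` (and vanish if `y ∉ U`) -/
def TFat (E : X.Modules) (y : X) (U : X.Opens) : Prop :=
  ∀ t : Γ(E, U), (∀ hy : y ∈ U, E.presheaf.germ U y hy t = 0) → t = 0

theorem TFat.of_mono {E' E : X.Modules} (m : E' ⟶ E) [Mono m] {y : X} {U : X.Opens} (h : TFat E y U) :
    TFat E' y U := by
  intro t ht
  apply injective_app_of_mono m U
  rw [map_zero]
  apply h
  intro hy
  rw [← stalkL_germ m y U hy t, ht hy, map_zero]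

theorem TFat.of_notMem (E : X.Modules) {y : X} (hsE : CohB1.support E ⊆ closure {y}) {U : X.Opens}
    (hyU : y ∉ U) : TFat E y U := by
  intro t _
  refine TopCat.Presheaf.section_ext ⟨E.presheaf, E.isSheaf⟩ U t 0 (fun x hx => ?_)
  have hx' : x ∉ CohB1.support E := by
    intro h
    apply hyU
    obtain ⟨z, hzU, hz⟩ := mem_closure_iff.1 (hsE h) U U.2 hx
    rw [Set.mem_singleton_iff] at hz
    subst hz
    exact hzU
  haveI := subsingleton_stalk_of_notMem_support hx'
  exact Subsingleton.elim _ _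

theorem isZero_of_TFat (N : X.Modules) [N.IsQuasicoherent] (y : X) (S : Set X.Opens)
    (hS : ∀ U ∈ S, IsAffineOpen U) (hcov : ∀ x : X, ∃ U ∈ S, x ∈ U) (hTF : ∀ U ∈ S, TFat N y U)
    (hy : Subsingleton (N.presheaf.stalk y)) : IsZero N := by
  apply isZero_of_support_eq_empty
  rw [Set.eq_empty_iff_forall_notMem]
  intro x hx
  apply hx
  obtain ⟨U, hUS, hxU⟩ := hcov x
  have hU := hS U hUS
  have hzero : ∀ t : Γ(N, U), t = 0 := fun t => hTF U hUS t (fun _ => Subsingleton.elim _ _)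
  refine ⟨fun a b => ?_⟩
  have key : ∀ z : N.presheaf.stalk x, z = 0 := by
    intro z
    obtain ⟨s, m, hs, hsm⟩ := QCoh.exists_smul_eq_germ hU N x hxU z
    rw [hzero m, map_zero] at hsm
    exact QCoh.germ_smul_eq_zero_of_isUnit ((Scheme.mem_basicOpen X s x hxU).1 hs) hsm
  rw [key a, key b]

/-- finitely many sections with vanishing germ at `y` are killed by a common function not vanishing at `y` -/
theorem exists_smul_eq_zero_of_span {U : X.Opens} (hU : IsAffineOpen U) (E : X.Modules) [E.IsQuasicoherent]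
    (y : X) (hy : y ∈ U) (S : Finset Γ(E, U)) (hS : ∀ t ∈ S, E.presheaf.germ U y hy t = 0) :
    ∃ s : Γ(X, U), y ∈ X.basicOpen s ∧ ∀ t ∈ Submodule.span Γ(X, U) (S : Set Γ(E, U)), s • t = 0 := by
  classical
  induction S using Finset.induction_on with
  | empty =>
    refine ⟨1, ?_, ?_⟩
    · rw [Scheme.basicOpen_of_isUnit _ isUnit_one]; exact hy
    · intro t ht
      simp only [Finset.coe_empty, Submodule.span_empty, Submodule.mem_bot] at ht
      rw [ht, smul_zero]
  | insert t₀ S _ ih =>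
    obtain ⟨s', hs', hs'S⟩ := ih (fun t ht => hS t (Finset.mem_insert_of_mem ht))
    obtain ⟨s₀, hs₀, hs₀t⟩ := QCoh.exists_smul_eq_zero_of_germ_eq_zero hU E y hy t₀
      (hS t₀ (Finset.mem_insert_self _ _))
    refine ⟨s₀ * s', ?_, ?_⟩
    · rw [Scheme.basicOpen_mul]; exact ⟨hs₀, hs'⟩
    · intro t ht
      rw [Finset.coe_insert, Submodule.mem_span_insert] at ht
      obtain ⟨a, z, hz, rfl⟩ := ht
      have h1 : (s₀ * s') • z = 0 := by rw [mul_smul, hs'S z hz, smul_zero]
      have h2 : (s₀ * s') • (a • t₀) = 0 := by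
        rw [mul_comm, mul_smul, smul_comm s₀ a, hs₀t, smul_zero, smul_zero]
      rw [smul_add, h1, h2, add_zero]

theorem tf_step [IsLocallyNoetherian X] (E : X.Modules) (hE : Coh.IsCoh E) (y : X) {U : X.Opens}
    (hU : IsAffineOpen U) (hy : y ∈ U) :
    ∃ (E' : X.Modules) (m : E' ⟶ E), Mono m ∧ Coh.IsCoh E' ∧ Function.Bijective (stalkL m y) ∧
      TFat E' y U := by
  haveI : E.IsQuasicoherent := hE.1
  haveI : SheafOfModules.IsFiniteType (R := X.ringCatSheaf) E := hE.2
  haveI : IsNoetherianRing Γ(X, U) := IsLocallyNoetherian.component_noetherian ⟨U, hU⟩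
  haveI : Module.Finite Γ(X, U) Γ(E, U) := finite_of_isFiniteType E hU
  haveI : IsNoetherian Γ(X, U) Γ(E, U) := isNoetherian_of_isNoetherianRing_of_finite _ _
  let T : Submodule Γ(X, U) Γ(E, U) :=
    { carrier := {t | E.presheaf.germ U y hy t = 0}
      add_mem' := fun {a b} ha hb => by
        rw [Set.mem_ofPred_eq] at ha hb ⊢
        rw [map_add, ha, hb, add_zero]
      zero_mem' := map_zero _
      smul_mem' := fun a t ht => by
        rw [Set.mem_ofPred_eq] at ht ⊢
        rw [QCoh.germ_smul, ht, smul_zero] }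
  have hTmem : ∀ t, t ∈ T ↔ E.presheaf.germ U y hy t = 0 := fun t => Iff.rfl
  obtain ⟨S, hS⟩ := (IsNoetherian.noetherian T : T.FG)
  obtain ⟨s, hs, hsT⟩ := exists_smul_eq_zero_of_span hU E y hy S (fun t ht => by
    rw [← hTmem, ← hS]; exact Submodule.subset_span ht)
  rw [hS] at hsT
  have hsu : IsUnit (X.presheaf.germ U y hy s) := (Scheme.mem_basicOpen X s y hy).1 hs
  let h : Γ(E, U) →ₗ[Γ(X, U)] Γ(E, U) := LinearMap.lsmul Γ(X, U) Γ(E, U) s
  obtain ⟨H, p₁, p₂, hH, hbij, hcomp, hmono⟩ := exists_graph_of_linear hU E E h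
  haveI : (E ⊞ E : X.Modules).IsQuasicoherent := isQuasicoherent_biprod E E
  haveI : SheafOfModules.IsFiniteType (R := X.ringCatSheaf) (E ⊞ E : X.Modules) := isFiniteType_biprod' E E
  have hHc : Coh.IsCoh H := ⟨hH, isFiniteType_of_mono (biprod.lift p₁ p₂)⟩
  let e := Abelian.factorThruImage p₂
  let m := Abelian.image.ι p₂
  have hfac : e ≫ m = p₂ := Abelian.image.fac p₂
  haveI : Epi e := inferInstanceAs (Epi (Abelian.factorThruImage p₂))
  haveI : Mono m := inferInstanceAs (Mono (Abelian.image.ι p₂))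
  have hI : Coh.IsCoh (Abelian.image p₂) := isCoh_image p₂ hHc hE
  haveI : (Abelian.image p₂).IsQuasicoherent := hI.1
  have hcomp' : ∀ w : Γ(H, U), m.app U (e.app U w) = s • p₁.app U w := by
    intro w
    have h1 : p₂.app U w = s • p₁.app U w := hcomp w
    have h2 : (e ≫ m).app U w = p₂.app U w := by rw [hfac]
    rw [← h1, ← h2]
    rfl
  refine ⟨Abelian.image p₂, m, inferInstance, hI, ⟨stalkL_injective_of_mono m y, ?_⟩, ?_⟩
  · intro z
    obtain ⟨t, a, ht, hta⟩ := QCoh.exists_smul_eq_germ hU E y hy z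
    rw [Scheme.mem_basicOpen X t y hy] at ht
    obtain ⟨w, rfl⟩ := hbij.2 a
    refine ⟨((hsu.unit⁻¹ : (X.presheaf.stalk y)ˣ).1 * (ht.unit⁻¹ : (X.presheaf.stalk y)ˣ).1) •
      (Abelian.image p₂).presheaf.germ U y hy (e.app U w), ?_⟩
    rw [map_smul, stalkL_germ, hcomp', QCoh.germ_smul, ← hta, smul_smul, smul_smul]
    have : (hsu.unit⁻¹ : (X.presheaf.stalk y)ˣ).1 * (ht.unit⁻¹ : (X.presheaf.stalk y)ˣ).1 *
        X.presheaf.germ U y hy s * X.presheaf.germ U y hy t = 1 := by
      have h1 : (hsu.unit⁻¹ : (X.presheaf.stalk y)ˣ).1 * X.presheaf.germ U y hy s = 1 := by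
        simp
      have h2 : (ht.unit⁻¹ : (X.presheaf.stalk y)ˣ).1 * X.presheaf.germ U y hy t = 1 := by
        simp
      calc _ = ((hsu.unit⁻¹ : (X.presheaf.stalk y)ˣ).1 * X.presheaf.germ U y hy s) *
          ((ht.unit⁻¹ : (X.presheaf.stalk y)ˣ).1 * X.presheaf.germ U y hy t) := by ring
        _ = 1 := by rw [h1, h2, one_mul]
    rw [this, one_smul]
  · intro t ht
    have ht' := ht hy
    obtain ⟨w, rfl⟩ := surjective_app_of_epi e hU t
    apply injective_app_of_mono m U
    rw [map_zero, hcomp']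
    apply hsT
    rw [hTmem]
    have h1 : E.presheaf.germ U y hy (s • p₁.app U w) = 0 := by
      rw [← hcomp', ← stalkL_germ, ht', map_zero]
    rw [QCoh.germ_smul] at h1
    exact QCoh.germ_smul_eq_zero_of_isUnit hsu h1

theorem exists_finset_affine_cover [CompactSpace X] :
    ∃ S : Finset X.affineOpens, ∀ x : X, ∃ U ∈ S, x ∈ U.1 := by
  obtain ⟨t, ht⟩ := isCompact_univ.elim_finite_subcover (fun U : X.affineOpens => (U.1 : Set X))
    (fun U => U.1.2) (by
      intro x _
      obtain ⟨U, hU, hx, -⟩ := (Opens.isBasis_iff_nbhd.1 X.isBasis_affineOpens) (Opens.mem_top x)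
      exact Set.mem_iUnion.2 ⟨⟨U, hU⟩, hx⟩)
  refine ⟨t, fun x => ?_⟩
  have := ht (Set.mem_univ x)
  simp only [Set.mem_iUnion] at this
  obtain ⟨U, hU, hx⟩ := this
  exact ⟨U, hU, hx⟩


theorem tf_refine [IsLocallyNoetherian X] (G : X.Modules) (hG : Coh.IsCoh G) (y : X)
    (hsG : CohB1.support G ⊆ closure {y}) (S : Finset X.affineOpens) :
    ∃ (G' : X.Modules) (m : G' ⟶ G), Mono m ∧ Coh.IsCoh G' ∧ Function.Bijective (stalkL m y) ∧
      ∀ U ∈ S, TFat G' y U.1 := by
  classical
  induction S using Finset.induction_on with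
  | empty =>
    refine ⟨G, 𝟙 G, inferInstance, hG, ?_, fun U hU => absurd hU (Finset.notMem_empty U)⟩
    rw [stalkL_id]
    exact Function.bijective_id
  | insert U S _ ih =>
    obtain ⟨G', m, hm, hG', hbij, hTF⟩ := ih
    haveI := hm
    by_cases hyU : y ∈ U.1
    · obtain ⟨G'', m', hm', hG'', hbij', hTF'⟩ := tf_step G' hG' y U.2 hyU
      haveI := hm'
      refine ⟨G'', m' ≫ m, mono_comp _ _, hG'', ?_, ?_⟩
      · rw [stalkL_comp]
        exact hbij.comp hbij'
      · intro V hV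
        rcases Finset.mem_insert.1 hV with rfl | hV
        · exact hTF'
        · exact (hTF V hV).of_mono m'
    · refine ⟨G', m, hm, hG', hbij, ?_⟩
      intro V hV
      rcases Finset.mem_insert.1 hV with rfl | hV
      · exact TFat.of_notMem G' ((support_subset_of_mono m).trans hsG) hyU
      · exact hTF V hV

/-- transfer of membership in `K` from a torsion-free `E₁` to `E₂` with isomorphic stalk at `y` -/
theorem K_transfer [IsLocallyNoetherian X] (K : X.Modules → Prop)
    (hker : ∀ S : ShortComplex X.Modules, S.ShortExact → Coh.IsCoh S.X₁ → Coh.IsCoh S.X₂ → Coh.IsCoh S.X₃ →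
      K S.X₂ → K S.X₃ → K S.X₁)
    (hext : ∀ S : ShortComplex X.Modules, S.ShortExact → Coh.IsCoh S.X₁ → Coh.IsCoh S.X₂ → Coh.IsCoh S.X₃ →
      K S.X₁ → K S.X₃ → K S.X₂)
    (y : X)
    (IH : ∀ E : X.Modules, Coh.IsCoh E → CohB1.support E ⊆ closure {y} →
      Subsingleton (E.presheaf.stalk y) → K E)
    (S : Finset X.affineOpens) (hcov : ∀ x : X, ∃ U ∈ S, x ∈ U.1)
    {E₁ E₂ : X.Modules} (h₁ : Coh.IsCoh E₁) (h₂ : Coh.IsCoh E₂)
    (hs₁ : CohB1.support E₁ ⊆ closure {y}) (hs₂ : CohB1.support E₂ ⊆ closure {y})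
    (hTF : ∀ U ∈ S, TFat E₁ y U.1)
    (htf : ∀ (U : X.Opens) (hU : IsAffineOpen U), y ∈ U →
      Mono ((Scheme.Modules.restrictAdjunction hU.fromSpec).unit.app E₂))
    (θ : E₁.presheaf.stalk y ≃ₗ[X.presheaf.stalk y] E₂.presheaf.stalk y) (hK : K E₁) : K E₂ := by
  obtain ⟨H, p₁, p₂, hH, hmono, hbij, ⟨u, hu, hrel⟩⟩ :=
    exists_graph_of_stalk_coh' E₁ E₂ h₁ h₂ y θ.toLinearMap htf
  haveI : Mono p₁ := hmono
  have hsH : CohB1.support H ⊆ closure {y} := (support_subset_of_mono p₁).trans hs₁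
  have hbij₂ : Function.Bijective (stalkL p₂ y) := by
    have hfun : ⇑(stalkL p₂ y) = (fun z => u • z) ∘ ⇑θ ∘ ⇑(stalkL p₁ y) := by
      funext x
      exact hrel x
    rw [hfun]
    refine Function.Bijective.comp ?_ (θ.bijective.comp hbij)
    constructor
    · intro a b hab
      exact hu.smul_left_cancel.1 hab
    · intro z
      refine ⟨(hu.unit⁻¹ : (X.presheaf.stalk y)ˣ).1 • z, ?_⟩
      change u • ((hu.unit⁻¹ : (X.presheaf.stalk y)ˣ).1 • z) = z
      rw [smul_smul]
      simp
  -- `K H`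
  have hc₁ : Coh.IsCoh (cokernel p₁) := isCoh_cokernel p₁ hH h₁
  have hKH : K H := hker (sesOfMono p₁) (sesOfMono_shortExact p₁) hH h₁ hc₁ hK
    (IH _ hc₁ ((support_subset_of_epi (cokernel.π p₁)).trans hs₁)
      (subsingleton_stalk_cokernel_of_surjective p₁ y hbij.2))
  -- `p₂` is a monomorphism
  have hk : Coh.IsCoh (kernel p₂) := isCoh_kernel p₂ hH h₂
  haveI : (kernel p₂).IsQuasicoherent := hk.1
  have hz : IsZero (kernel p₂) := by
    refine isZero_of_TFat (kernel p₂) y {U | ∃ V ∈ S, V.1 = U} ?_ ?_ ?_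
      (subsingleton_stalk_kernel_of_injective p₂ y hbij₂.1)
    · rintro U ⟨V, _, rfl⟩
      exact V.2
    · intro x
      obtain ⟨V, hV, hx⟩ := hcov x
      exact ⟨V.1, ⟨V, hV, rfl⟩, hx⟩
    · rintro U ⟨V, hV, rfl⟩
      haveI : Mono (kernel.ι p₂ ≫ p₁) := mono_comp _ _
      exact (hTF V hV).of_mono (kernel.ι p₂ ≫ p₁)
  haveI : Mono p₂ := Preadditive.mono_of_isZero_kernel p₂ hz
  have hc₂ : Coh.IsCoh (cokernel p₂) := isCoh_cokernel p₂ hH h₂
  exact hext (sesOfMono p₂) (sesOfMono_shortExact p₂) hH h₂ hc₂ hKH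
    (IH _ hc₂ ((support_subset_of_epi (cokernel.π p₂)).trans hs₂)
      (subsingleton_stalk_cokernel_of_surjective p₂ y hbij₂.2))

end Groth.Agent.Lib.Helper4.Dev
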