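import Mathlib
import Groth.Agent.Lib.Helper4DevL

/-!
# Direct images of ideals of an integral closed subscheme in a class closed under kernels of epimorphisms (helper4)

* `TFat_push_structure`, `exists_smul_germ_pushOne`, `length_eq_one_of_cyclic`, `length_stalk_push_structure`,
  `length_stalk_of_mono_push_structure`: stalks of `i_* O_Z` and its nonzero subobjects at the generic point;
* `mono_unit_of_mono`, `mono_unit_biproduct`;
* `nontrivial_stalk_push`;
* `K_ideal_of_gen`: if `K` is closed under kernels of epimorphisms, extensions and "roots" of finite powers, contains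
  the coherent modules supported in `closure {y}` with vanishing stalk at `y`, and contains `i_* H` for one coherent
  `H` on `Z` with nonzero generic stalk, then it contains `i_* I` for every nonzero quasi-coherent ideal `I ⊆ O_Z`.
-/

set_option autoImplicit false
set_option linter.style.haveILetI false
set_option linter.unusedSectionVars false
universe u
open CategoryTheory Limits AlgebraicGeometry TopologicalSpace Opposite

namespace Groth.Agent.Lib.Helper4.Dev
attribute [local instance] Abelian.hasFiniteBiproducts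
open Groth.Agent.Lib.Helper23.QCohLocal Groth.Agent.Lib.Helper2 Groth.Agent.Lib.Helper23.FinType
  Groth.Agent.Lib.Helper2.Push Groth.Agent.Lib.Helper20.StalkExact

theorem length_eq_one_of_cyclic {R M : Type*} [CommRing R] [IsLocalRing R] [AddCommGroup M] [Module R M]
    (g₀ : M) (hg : g₀ ≠ 0) (hm : ∀ r ∈ IsLocalRing.maximalIdeal R, r • g₀ = 0)
    (hcyc : ∀ w : M, ∃ r : R, w = r • g₀) : Module.length R M = 1 := by
  rw [Module.length_eq_one_iff, isSimpleModule_iff_toSpanSingleton_surjective]
  refine ⟨⟨⟨g₀, 0, hg⟩⟩, ?_⟩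
  intro x hx w
  obtain ⟨r, rfl⟩ := hcyc x
  obtain ⟨r', rfl⟩ := hcyc w
  have hr : IsUnit r := by
    by_contra h
    exact hx (hm r ((IsLocalRing.mem_maximalIdeal r).2 h))
  obtain ⟨v, rfl⟩ := hr
  refine ⟨r' * (v⁻¹ : Rˣ).1, ?_⟩
  rw [LinearMap.toSpanSingleton_apply, smul_smul, mul_assoc, Units.inv_mul, mul_one]


section
variable {Z X : Scheme.{u}} (i : Z ⟶ X)

theorem TFat_push_structure [IsIntegral Z] (U : X.Opens) :
    TFat ((Scheme.Modules.pushforward i).obj (Coh.structureModule Z)) (i (genericPoint Z)) U := by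
  intro t ht
  by_cases hbot : i ⁻¹ᵁ U = ⊥
  · haveI : Subsingleton Γ(Z, i ⁻¹ᵁ U) := by rw [hbot]; infer_instance
    exact Subsingleton.elim (α := Γ(Z, i ⁻¹ᵁ U)) t 0
  · have hne' : (i ⁻¹ᵁ U : Set Z).Nonempty := by
      rw [Set.nonempty_iff_ne_empty]
      intro h
      exact hbot (Opens.ext h)
    have hgen : genericPoint Z ∈ i ⁻¹ᵁ U :=
      ((genericPoint_spec Z).mem_open_set_iff (i ⁻¹ᵁ U).2).2 (by simpa using hne')
    have hy : i (genericPoint Z) ∈ U := hgen
    have h0 := ht hy
    have h1 : ((Scheme.Modules.pushforward i).obj (Coh.structureModule Z)).presheaf.germ U _ hy t =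
        ((Scheme.Modules.pushforward i).obj (Coh.structureModule Z)).presheaf.germ U _ hy 0 := by
      rw [h0, map_zero]
    obtain ⟨W, hyW, iU, _, e⟩ :=
      ((Scheme.Modules.pushforward i).obj (Coh.structureModule Z)).presheaf.germ_eq _ hy hy _ _ h1
    rw [map_zero] at e
    have e' : Z.presheaf.map ((Opens.map i.base).map iU).op (show Γ(Z, i ⁻¹ᵁ U) from t) = 0 := e
    have hneW : Nonempty ↥(i ⁻¹ᵁ W) := ⟨⟨genericPoint Z, hyW⟩⟩
    have hinj := @map_injective_of_isIntegral Z _ _ _ ((Opens.map i.base).map iU) hneW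
    exact hinj (e'.trans (map_zero _).symm)

end

section
variable {Z X : Scheme.{u}} (i : Z ⟶ X) [IsClosedImmersion i]

/-- the stalk of `i_* O_Z` at a point of `Z` is generated by the germ of `1` -/
theorem exists_smul_germ_pushOne (z : Z)
    (w : ((Scheme.Modules.pushforward i).obj (Coh.structureModule Z)).presheaf.stalk (i z)) :
    ∃ r : X.presheaf.stalk (i z), w = r •
      ((Scheme.Modules.pushforward i).obj (Coh.structureModule Z)).presheaf.germ ⊤ (i z) trivial (pushOne i) := by
  obtain ⟨V, hV, t, rfl⟩ :=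
    ((Scheme.Modules.pushforward i).obj (Coh.structureModule Z)).presheaf.exists_germ_eq w
  obtain ⟨U, hU0, hyU, hUV⟩ := (Opens.isBasis_iff_nbhd.1 X.isBasis_affineOpens) hV
  have hU : IsAffineOpen U := hU0
  clear hU0
  let O := (Scheme.Modules.pushforward i).obj (Coh.structureModule Z)
  let t' : Γ(O, U) := O.presheaf.map (homOfLE hUV).op t
  obtain ⟨a, ha⟩ := i.app_surjective U hU (show Γ(Z, i ⁻¹ᵁ U) from t')
  let oneU : Γ(O, U) := O.presheaf.map (homOfLE (le_top : U ≤ ⊤)).op (pushOne i)
  have h1 : (oneU : Γ(O, U)) = (show Γ(O, U) from (1 : Γ(Z, i ⁻¹ᵁ U))) := by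
    change Z.presheaf.map ((Opens.map i.base).map (homOfLE (le_top : U ≤ ⊤))).op (1 : Γ(Z, i ⁻¹ᵁ ⊤)) = 1
    rw [map_one]
  have h2 : a • oneU = t' := by
    rw [pushforward_smul, h1]
    change (i.app U a) * (1 : Γ(Z, i ⁻¹ᵁ U)) = _
    rw [mul_one]
    exact ha
  refine ⟨X.presheaf.germ U (i z) hyU a, ?_⟩
  have h3 : O.presheaf.germ V (i z) hV t = O.presheaf.germ U (i z) hyU t' :=
    (O.presheaf.germ_res_apply (homOfLE hUV) (i z) hyU t).symm
  have h4 : O.presheaf.germ ⊤ (i z) trivial (pushOne i) = O.presheaf.germ U (i z) hyU oneU :=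
    (O.presheaf.germ_res_apply (homOfLE (le_top : U ≤ ⊤)) (i z) hyU (pushOne i)).symm
  rw [h3, h4, ← QCoh.germ_smul, h2]

end

section Adj
variable {X Y : Scheme.{u}} (j : Y ⟶ X) [IsOpenImmersion j]

theorem mono_unit_of_mono {A B : X.Modules} (m : A ⟶ B) [Mono m]
    (h : Mono ((Scheme.Modules.restrictAdjunction j).unit.app B)) :
    Mono ((Scheme.Modules.restrictAdjunction j).unit.app A) := by
  haveI := h
  have hnat := (Scheme.Modules.restrictAdjunction j).unit.naturality m
  simp only [Functor.id_obj, Functor.id_map, Functor.comp_obj, Functor.comp_map] at hnat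
  haveI : Mono ((Scheme.Modules.restrictAdjunction j).unit.app A ≫
      (Scheme.Modules.pushforward j).map ((Scheme.Modules.restrictFunctor j).map m)) := by
    rw [← hnat]
    exact mono_comp _ _
  exact mono_of_mono _ ((Scheme.Modules.pushforward j).map ((Scheme.Modules.restrictFunctor j).map m))

theorem mono_unit_biproduct (Q : X.Modules) (r : ℕ)
    (h : Mono ((Scheme.Modules.restrictAdjunction j).unit.app Q)) :
    Mono ((Scheme.Modules.restrictAdjunction j).unit.app (⨁ fun _ : Fin r => Q)) := by
  haveI := h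
  apply Preadditive.mono_of_cancel_zero
  intro W x hx
  apply biproduct.hom_ext
  intro k
  rw [zero_comp]
  have hnat := (Scheme.Modules.restrictAdjunction j).unit.naturality (biproduct.π (fun _ : Fin r => Q) k)
  simp only [Functor.id_obj, Functor.id_map, Functor.comp_obj, Functor.comp_map] at hnat
  rw [← cancel_mono ((Scheme.Modules.restrictAdjunction j).unit.app Q), Category.assoc, hnat,
    ← Category.assoc, hx, zero_comp, zero_comp]

end Adj

section
variable {Z X : Scheme.{u}} (i : Z ⟶ X) [IsClosedImmersion i]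

theorem nontrivial_stalk_push (H : Z.Modules) (z : Z) (hnt : Nontrivial (H.presheaf.stalk z)) :
    Nontrivial (((Scheme.Modules.pushforward i).obj H).presheaf.stalk (i z)) := by
  obtain ⟨w, hw⟩ := exists_ne (0 : H.presheaf.stalk z)
  obtain ⟨W, hzW, t, rfl⟩ := H.presheaf.exists_germ_eq w
  obtain ⟨V, rfl⟩ := exists_preimage_eq i W
  have hyV : i z ∈ V := hzW
  let t' : Γ((Scheme.Modules.pushforward i).obj H, V) := t
  refine ⟨⟨((Scheme.Modules.pushforward i).obj H).presheaf.germ V (i z) hyV t', 0, ?_⟩⟩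
  intro h0
  apply hw
  have h1 : ((Scheme.Modules.pushforward i).obj H).presheaf.germ V (i z) hyV t' =
      ((Scheme.Modules.pushforward i).obj H).presheaf.germ V (i z) hyV 0 := by rw [h0, map_zero]
  obtain ⟨V', hyV', iV, _, e⟩ :=
    ((Scheme.Modules.pushforward i).obj H).presheaf.germ_eq (i z) hyV hyV _ _ h1
  rw [map_zero] at e
  have e' : H.presheaf.map ((Opens.map i.base).map iV).op t = 0 := e
  have hz' : z ∈ i ⁻¹ᵁ V' := hyV'
  rw [← H.presheaf.germ_res_apply ((Opens.map i.base).map iV) z hz' t, e', map_zero]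

variable [IsIntegral Z]

theorem length_stalk_push_structure
    (hker : i.ker = Scheme.IdealSheafData.vanishingIdeal
      ⟨closure {i (genericPoint Z)}, isClosed_closure⟩) :
    Module.length (X.presheaf.stalk (i (genericPoint Z)))
      (((Scheme.Modules.pushforward i).obj (Coh.structureModule Z)).presheaf.stalk (i (genericPoint Z))) = 1 := by
  haveI := isQuasicoherent_structureModule Z
  haveI : ((Scheme.Modules.pushforward i).obj (Coh.structureModule Z)).IsQuasicoherent :=
    isQuasicoherent_pushforward i _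
  have hk : ClSub.KilledByIdeal (Scheme.IdealSheafData.vanishingIdeal
      ⟨closure {i (genericPoint Z)}, isClosed_closure⟩)
      ((Scheme.Modules.pushforward i).obj (Coh.structureModule Z)) :=
    hker ▸ killedByIdeal_pushforward i _
  exact length_eq_one_of_cyclic _ (germ_pushOne_ne_zero i (genericPoint Z))
    (fun r hr => maximalIdeal_smul_stalk_eq_zero _ _ hk r hr _)
    (exists_smul_germ_pushOne i (genericPoint Z))

theorem length_stalk_of_mono_push_structure [CompactSpace X]
    (hker : i.ker = Scheme.IdealSheafData.vanishingIdeal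
      ⟨closure {i (genericPoint Z)}, isClosed_closure⟩)
    (Q : X.Modules) [Q.IsQuasicoherent]
    (m : Q ⟶ (Scheme.Modules.pushforward i).obj (Coh.structureModule Z)) [Mono m] (hQ : ¬ IsZero Q) :
    Module.length (X.presheaf.stalk (i (genericPoint Z))) (Q.presheaf.stalk (i (genericPoint Z))) = 1 := by
  obtain ⟨S, hcov⟩ := exists_finset_affine_cover (X := X)
  have hle := Module.length_le_of_injective (stalkL m (i (genericPoint Z)))
    (stalkL_injective_of_mono m _)
  rw [length_stalk_push_structure i hker] at hle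
  refine le_antisymm hle (Order.one_le_iff_ne_zero.2 ?_)
  intro h0
  rw [Module.length_eq_zero_iff] at h0
  apply hQ
  refine isZero_of_TFat Q (i (genericPoint Z)) {U | ∃ V ∈ S, V.1 = U} ?_ ?_ ?_ h0
  · rintro U ⟨V, _, rfl⟩
    exact V.2
  · intro x
    obtain ⟨V, hV, hx⟩ := hcov x
    exact ⟨V.1, ⟨V, hV, rfl⟩, hx⟩
  · rintro U ⟨V, hV, rfl⟩
    exact (TFat_push_structure i V.1).of_mono m

end


section Main
variable {Z X : Scheme.{u}}

theorem isZero_of_isZero_push (i : Z ⟶ X) [IsClosedImmersion i] (I : Z.Modules)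
    (h : IsZero ((Scheme.Modules.pushforward i).obj I)) : IsZero I := by
  haveI := pushforward_faithful i
  rw [IsZero.iff_id_eq_zero]
  apply (Scheme.Modules.pushforward i).map_injective
  rw [Functor.map_zero]
  exact h.eq_of_src _ _

theorem K_ideal_of_gen [IsNoetherian X] (K : X.Modules → Prop)
    (hker : ∀ S : ShortComplex X.Modules, S.ShortExact → Coh.IsCoh S.X₁ → Coh.IsCoh S.X₂ → Coh.IsCoh S.X₃ →
      K S.X₂ → K S.X₃ → K S.X₁)
    (hext : ∀ S : ShortComplex X.Modules, S.ShortExact → Coh.IsCoh S.X₁ → Coh.IsCoh S.X₂ → Coh.IsCoh S.X₃ →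
      K S.X₁ → K S.X₃ → K S.X₂)
    (hpow : ∀ (Q : X.Modules) (r : ℕ), 0 < r → Coh.IsCoh Q → K (⨁ fun _ : Fin r => Q) → K Q)
    (i : Z ⟶ X) [IsClosedImmersion i] [IsIntegral Z]
    (IH : ∀ E : X.Modules, Coh.IsCoh E → CohB1.support E ⊆ closure {i (genericPoint Z)} →
      Subsingleton (E.presheaf.stalk (i (genericPoint Z))) → K E)
    (hrange : Set.range ⇑i = closure {i (genericPoint Z)})
    (hkeri : i.ker = Scheme.IdealSheafData.vanishingIdeal
      ⟨closure {i (genericPoint Z)}, isClosed_closure⟩)
    (H : Z.Modules) (hH : Coh.IsCoh H) (hnt : Nontrivial (H.presheaf.stalk (genericPoint Z)))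
    (hKG : K ((Scheme.Modules.pushforward i).obj H))
    (I : Z.Modules) (ι : I ⟶ Coh.structureModule Z) (hι : Mono ι) (hInz : ¬ IsZero I)
    (hIc : Coh.IsCoh ((Scheme.Modules.pushforward i).obj I)) :
    K ((Scheme.Modules.pushforward i).obj I) := by
  haveI : IsLocallyNoetherian X := inferInstance
  haveI : CompactSpace X := inferInstance
  set y := i (genericPoint Z) with hy
  let G : X.Modules := (Scheme.Modules.pushforward i).obj H
  have hG : Coh.IsCoh G := isCoh_push_closed i H hH
  haveI : G.IsQuasicoherent := hG.1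
  have hsG : CohB1.support G ⊆ closure {y} := hrange ▸ support_push_subset i H
  have hkG : ClSub.KilledByIdeal (Scheme.IdealSheafData.vanishingIdeal ⟨closure {y}, isClosed_closure⟩) G :=
    hkeri ▸ killedByIdeal_pushforward i H
  have hkill : ∀ r ∈ IsLocalRing.maximalIdeal (X.presheaf.stalk y), ∀ x : G.presheaf.stalk y, r • x = 0 :=
    fun r hr x => maximalIdeal_smul_stalk_eq_zero G y hkG r hr x
  haveI hntG : Nontrivial (G.presheaf.stalk y) := nontrivial_stalk_push i H (genericPoint Z) hnt
  obtain ⟨S, hcov⟩ := exists_finset_affine_cover (X := X)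
  -- torsion-free refinement of `G`
  obtain ⟨G', m, hm, hG', hbij, hTF⟩ := tf_refine G hG y hsG S
  haveI := hm
  have hsG' : CohB1.support G' ⊆ closure {y} := (support_subset_of_mono m).trans hsG
  have hcm : Coh.IsCoh (cokernel m) := isCoh_cokernel m hG' hG
  have hKG' : K G' := hker (sesOfMono m) (sesOfMono_shortExact m) hG' hG hcm hKG
    (IH _ hcm ((support_subset_of_epi (cokernel.π m)).trans hsG)
      (subsingleton_stalk_cokernel_of_surjective m y hbij.2))
  -- the stalk of `G` at `y`
  have hflG := isFiniteLength_stalk G hG y hsG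
  haveI : _root_.IsNoetherian (X.presheaf.stalk y) (G.presheaf.stalk y) :=
    (isFiniteLength_iff_isNoetherian_isArtinian.1 hflG).1
  obtain ⟨r, ⟨eG⟩⟩ := exists_linearEquiv_pi_residue (R := X.presheaf.stalk y)
    (M := G.presheaf.stalk y) hkill
  have hr : 0 < r := by
    rcases Nat.eq_zero_or_pos r with h | h
    · subst h
      exact absurd eG.toEquiv.subsingleton (not_subsingleton_iff_nontrivial.2 hntG)
    · exact h
  -- `Q = i_* I`
  let Q : X.Modules := (Scheme.Modules.pushforward i).obj I
  haveI : Q.IsQuasicoherent := hIc.1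
  haveI := hι
  let mQ : Q ⟶ (Scheme.Modules.pushforward i).obj (Coh.structureModule Z) :=
    (Scheme.Modules.pushforward i).map ι
  haveI : Mono mQ := inferInstanceAs (Mono ((Scheme.Modules.pushforward i).map ι))
  have hQnz : ¬ IsZero Q := fun h => hInz (isZero_of_isZero_push i I h)
  have hlenQ := length_stalk_of_mono_push_structure i hkeri Q mQ hQnz
  obtain ⟨eQ⟩ := nonempty_linearEquiv_of_length_eq_one hlenQ
  have hsQ : CohB1.support Q ⊆ closure {y} := hrange ▸ support_push_subset i I
  have htfQ : ∀ (U : X.Opens) (hU : IsAffineOpen U), y ∈ U →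
      Mono ((Scheme.Modules.restrictAdjunction hU.fromSpec).unit.app (⨁ fun _ : Fin r => Q)) := by
    intro U hU hyU
    exact mono_unit_biproduct hU.fromSpec Q r
      (mono_unit_of_mono hU.fromSpec mQ (mono_unit_push_structure i hU hyU))
  let θ : G'.presheaf.stalk y ≃ₗ[X.presheaf.stalk y]
      (⨁ fun _ : Fin r => Q : X.Modules).presheaf.stalk y :=
    (LinearEquiv.ofBijective (stalkL m y) hbij).trans
      (eG.trans ((stalkPowEquiv Q r y).trans (LinearEquiv.piCongrRight fun _ => eQ)).symm)
  have hKpow : K (⨁ fun _ : Fin r => Q) :=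
    K_transfer K hker hext y IH S hcov hG' (isCoh_pow Q r hIc) hsG'
      ((support_pow_subset Q r).trans hsQ) hTF htfQ θ hKG'
  exact hpow Q r hr hIc hKpow

end Main

end Groth.Agent.Lib.Helper4.Dev
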