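import Mathlib
import Groth.Agent.Lib.Helper4DevM
import Groth.Agent.Lib.Helper13UnitSub
import Groth.Prelude.Def_Dual3

/-!
# Ideals killing coherent modules, common torsion-free submodules (helper4)

* `killedByIdeal_of_isZero`, `killedByIdeal_mul_of_shortExact`;
* `exists_ideal_killing`: a coherent module `Q` on a Noetherian scheme is killed by a quasi-coherent ideal whose
  support is contained in the support of `Q`;
* `idealMulι_comp_eq_zero`: if `J` kills the quasi-coherent `Q` then `J·G ⟶ G ⟶ Q` vanishes;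
* `exists_common_sub`: for coherent `E₁` (torsion-free at `y` on a finite affine cover) and `E₂` (torsion-free at `y`)
  with isomorphic stalks at `y` there is a coherent `H` with monomorphisms to both, bijective on stalks at `y`.
-/

set_option autoImplicit false
set_option linter.style.haveILetI false
set_option linter.unusedSectionVars false
universe u
open CategoryTheory Limits AlgebraicGeometry TopologicalSpace Opposite

namespace Groth.Agent.Lib.Helper4.Dev
attribute [local instance] Abelian.hasFiniteBiproducts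
open Groth.Agent.Lib.Helper23.QCohLocal Groth.Agent.Lib.Helper2 Groth.Agent.Lib.Helper23.FinType
  Groth.Agent.Lib.Helper2.Push Groth.Agent.Lib.Helper20.StalkExact

variable {X : Scheme.{u}}

theorem sections_eq_zero_of_isZero {M : X.Modules} (hM : IsZero M) (U : X.Opens) (x : Γ(M, U)) : x = 0 := by
  have h1 : (𝟙 M : M ⟶ M) = 0 := hM.eq_of_src _ _
  have h2 := congrArg (fun φ : M ⟶ M => φ.app U x) h1
  exact h2

theorem killedByIdeal_of_isZero (J : X.IdealSheafData) {M : X.Modules} (hM : IsZero M) :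
    ClSub.KilledByIdeal J M := by
  intro U a _ x0
  let x : Γ(M, U.1) := x0
  change a • x = 0
  rw [sections_eq_zero_of_isZero hM U.1 x, smul_zero]

theorem killedByIdeal_mul_of_shortExact (S : ShortComplex X.Modules) (hS : S.ShortExact)
    {J₁ J₃ : X.IdealSheafData} (h₁ : ClSub.KilledByIdeal J₁ S.X₁) (h₃ : ClSub.KilledByIdeal J₃ S.X₃) :
    ClSub.KilledByIdeal (J₁ * J₃) S.X₂ := by
  intro U a ha x0
  let x : Γ(S.X₂, U.1) := x0
  change a • x = 0
  rw [Scheme.IdealSheafData.ideal_mul, Pi.mul_apply] at ha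
  refine Submodule.mul_induction_on ha ?_ ?_
  · intro a₁ ha₁ a₃ ha₃
    have hg : S.g.app U.1 (a₃ • x) = 0 := by
      have h1 : S.g.app U.1 (a₃ • x) = a₃ • S.g.app U.1 x := Scheme.Modules.Hom.app_smul S.g a₃ x
      rw [h1]
      exact h₃ U a₃ ha₃ _
    obtain ⟨r, hr⟩ := exists_app_eq_of_exact S hS U.1 (a₃ • x) hg
    have h2 : S.f.app U.1 (a₁ • r) = a₁ • S.f.app U.1 r := Scheme.Modules.Hom.app_smul S.f a₁ r
    have h3 : a₁ • r = 0 := h₁ U a₁ ha₁ r
    rw [mul_smul, ← hr, ← h2, h3, map_zero]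
  · intro a b ha hb
    rw [add_smul, ha, hb, add_zero]

/-- a coherent module on a Noetherian scheme is killed by a quasi-coherent ideal supported in its support -/
theorem exists_ideal_killing [IsNoetherian X] (Q : X.Modules) (hQ : Coh.IsCoh Q) :
    ∃ J : X.IdealSheafData, (J.support : Set X) ⊆ CohB1.support Q ∧ ClSub.KilledByIdeal J Q := by
  haveI : IsLocallyNoetherian X := inferInstance
  haveI : CompactSpace X := inferInstance
  let K : X.Modules → Prop := fun Q =>
    ∃ J : X.IdealSheafData, (J.support : Set X) ⊆ CohB1.support Q ∧ ClSub.KilledByIdeal J Q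
  have hiso : ∀ M N : X.Modules, Nonempty (M ≅ N) → K M → K N := by
    rintro M N ⟨e⟩ ⟨J, hJ, hk⟩
    refine ⟨J, (support_eq_of_iso e) ▸ hJ, ?_⟩
    exact killedByIdeal_of_mono e.inv hk
  have hext : ∀ S : ShortComplex X.Modules, S.ShortExact → Coh.IsCoh S.X₁ → Coh.IsCoh S.X₂ →
      Coh.IsCoh S.X₃ → CohB1.support S.X₂ ⊆ Set.univ → K S.X₁ → K S.X₃ → K S.X₂ := by
    rintro S hS _ _ _ _ ⟨J₁, hJ₁, hk₁⟩ ⟨J₃, hJ₃, hk₃⟩
    haveI := hS.mono_f
    haveI := hS.epi_g
    refine ⟨J₁ * J₃, ?_, killedByIdeal_mul_of_shortExact S hS hk₁ hk₃⟩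
    rw [Scheme.IdealSheafData.support_mul]
    intro x hx
    rcases hx with hx | hx
    · exact support_subset_of_mono S.f (hJ₁ hx)
    · exact support_subset_of_epi S.g (hJ₃ hx)
  refine noetherian_induction_coh K Set.univ hiso ?_ hext ?_ Q hQ (Set.subset_univ _)
  · intro M hM
    refine ⟨⊤, ?_, killedByIdeal_of_isZero _ hM⟩
    rw [Scheme.IdealSheafData.support_top]
    intro x hx
    exact absurd hx (Set.notMem_empty x)
  · intro y _ IH F hF hsF
    refine ideal_step' K Set.univ hiso hext y (Set.subset_univ _) IH ?_ F hF hsF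
    intro Z i _ _ hrange hgen hker I ι hι hIq hInz hIc
    subst hgen
    refine ⟨i.ker, ?_, killedByIdeal_pushforward i I⟩
    rw [Scheme.Hom.support_ker, hrange, closure_closure]
    refine closure_minimal ?_ (isClosed_support _ hIc)
    rw [Set.singleton_subset_iff]
    haveI : ((Scheme.Modules.pushforward i).obj I).IsQuasicoherent := hIc.1
    haveI := hι
    let mQ : (Scheme.Modules.pushforward i).obj I ⟶
        (Scheme.Modules.pushforward i).obj (Coh.structureModule Z) :=
      (Scheme.Modules.pushforward i).map ι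
    haveI : Mono mQ := inferInstanceAs (Mono ((Scheme.Modules.pushforward i).map ι))
    have hQnz : ¬ IsZero ((Scheme.Modules.pushforward i).obj I) :=
      fun h => hInz (isZero_of_isZero_push i I h)
    have hlenQ := length_stalk_of_mono_push_structure i hker _ mQ hQnz
    intro hsub
    rw [← Module.length_eq_zero_iff (R := X.presheaf.stalk (i (genericPoint Z))), hlenQ] at hsub
    exact one_ne_zero hsub

theorem idealMulι_eq_zero_of_killed (J : X.IdealSheafData) (Q : X.Modules) [Q.IsQuasicoherent]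
    (hk : ClSub.KilledByIdeal J Q) : Dual3.idealMulι J Q = 0 := by
  haveI : IsIso ((Scheme.Modules.pullbackPushforwardAdjunction J.subschemeι).unit.app Q) :=
    Groth.Agent.Helper13UnitSub.isIso_unit_subscheme Q J (fun U r hr m => hk U r hr m)
  exact kernel.ι_of_mono _

theorem idealMulι_comp_eq_zero (J : X.IdealSheafData) {G Q : X.Modules} [Q.IsQuasicoherent] (π : G ⟶ Q)
    (hk : ClSub.KilledByIdeal J Q) : Dual3.idealMulι J G ≫ π = 0 := by
  rw [← Dual3.idealMul_map_ι, idealMulι_eq_zero_of_killed J Q hk, comp_zero]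

/-- a common coherent submodule of `E₁` and `E₂`, with the same stalks at `y` -/
theorem exists_common_sub [IsLocallyNoetherian X] (y : X)
    (S : Finset X.affineOpens) (hcov : ∀ x : X, ∃ U ∈ S, x ∈ U.1)
    {E₁ E₂ : X.Modules} (h₁ : Coh.IsCoh E₁) (h₂ : Coh.IsCoh E₂)
    (hTF : ∀ U ∈ S, TFat E₁ y U.1)
    (htf : ∀ (U : X.Opens) (hU : IsAffineOpen U), y ∈ U →
      Mono ((Scheme.Modules.restrictAdjunction hU.fromSpec).unit.app E₂))
    (θ : E₁.presheaf.stalk y ≃ₗ[X.presheaf.stalk y] E₂.presheaf.stalk y) :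
    ∃ (H : X.Modules) (p₁ : H ⟶ E₁) (p₂ : H ⟶ E₂), Coh.IsCoh H ∧ Mono p₁ ∧ Mono p₂ ∧
      Function.Bijective (stalkL p₁ y) ∧ Function.Bijective (stalkL p₂ y) := by
  obtain ⟨H, p₁, p₂, hH, hmono, hbij, ⟨u, hu, hrel⟩⟩ :=
    exists_graph_of_stalk_coh' E₁ E₂ h₁ h₂ y θ.toLinearMap htf
  haveI : Mono p₁ := hmono
  have hbij₂ : Function.Bijective (stalkL p₂ y) := by
    have hfun : ⇑(stalkL p₂ y) = (fun z => u • z) ∘ ⇑θ ∘ ⇑(stalkL p₁ y) := by
      funext x
      exact hrel x
    rw [hfun]
    refine Function.Bijective.comp ?_ (θ.bijective.comp hbij)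
    constructor
    · intro a b hab
      exact hu.smul_left_cancel.1 hab
    · intro z
      refine ⟨(hu.unit⁻¹ : (X.presheaf.stalk y)ˣ).1 • z, ?_⟩
      change u • ((hu.unit⁻¹ : (X.presheaf.stalk y)ˣ).1 • z) = z
      rw [smul_smul]
      simp
  have hk : Coh.IsCoh (kernel p₂) := isCoh_kernel p₂ hH h₂
  haveI : (kernel p₂).IsQuasicoherent := hk.1
  have hz : IsZero (kernel p₂) := by
    refine isZero_of_TFat (kernel p₂) y {U | ∃ V ∈ S, V.1 = U} ?_ ?_ ?_
      (subsingleton_stalk_kernel_of_injective p₂ y hbij₂.1)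
    · rintro U ⟨V, _, rfl⟩
      exact V.2
    · intro x
      obtain ⟨V, hV, hx⟩ := hcov x
      exact ⟨V.1, ⟨V, hV, rfl⟩, hx⟩
    · rintro U ⟨V, hV, rfl⟩
      haveI : Mono (kernel.ι p₂ ≫ p₁) := mono_comp _ _
      exact (hTF V hV).of_mono (kernel.ι p₂ ≫ p₁)
  haveI : Mono p₂ := Preadditive.mono_of_isZero_kernel p₂ hz
  exact ⟨H, p₁, p₂, hH, inferInstance, inferInstance, hbij, hbij₂⟩

theorem bijective_of_comp_bijective {α β γ : Type*} {f : α → β} {g : β → γ}
    (hgf : Function.Bijective (g ∘ f)) (hg : Function.Bijective g) : Function.Bijective f := by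
  constructor
  · exact Function.Injective.of_comp hgf.1
  · intro b
    obtain ⟨a, ha⟩ := hgf.2 (g b)
    exact ⟨a, hg.1 ha⟩

section Main
variable {Z : Scheme.{u}}

/-- the step of the dévissage principle with direct summands: `K` contains `i_* I` for every nonzero ideal `I` as soon
as it contains suitable submodules `G' ⊆ J·G` of one coherent `G` with support `closure {y}` -/
theorem K_ideal_of_idealMul [IsNoetherian X] (K : X.Modules → Prop)
    (hiso : ∀ M N : X.Modules, Nonempty (M ≅ N) → K M → K N)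
    (hext : ∀ S : ShortComplex X.Modules, S.ShortExact → Coh.IsCoh S.X₁ → Coh.IsCoh S.X₂ → Coh.IsCoh S.X₃ →
      K S.X₁ → K S.X₃ → K S.X₂)
    (hpow : ∀ (Q : X.Modules) (r : ℕ), Coh.IsCoh Q → 1 ≤ r → K (∐ fun _ : Fin r => Q) → K Q)
    (i : Z ⟶ X) [IsClosedImmersion i] [IsIntegral Z]
    (IH : ∀ E : X.Modules, Coh.IsCoh E → CohB1.support E ⊆ closure {i (genericPoint Z)} →
      Subsingleton (E.presheaf.stalk (i (genericPoint Z))) → K E)
    (hrange : Set.range ⇑i = closure {i (genericPoint Z)})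
    (hkeri : i.ker = Scheme.IdealSheafData.vanishingIdeal
      ⟨closure {i (genericPoint Z)}, isClosed_closure⟩)
    (G : X.Modules) (hG : Coh.IsCoh G) (hsG : CohB1.support G = closure {i (genericPoint Z)})
    (hkill : ∀ a ∈ IsLocalRing.maximalIdeal (X.presheaf.stalk (i (genericPoint Z))),
      ∀ m : ↑(G.presheaf.stalk (i (genericPoint Z))), a • m = 0)
    (hGJ : ∀ J : X.IdealSheafData, i (genericPoint Z) ∉ (J.support : Set X) →
      ∃ (G' : X.Modules) (ι' : G' ⟶ (Dual3.idealMul J).obj G), Mono ι' ∧ Coh.IsQCoh G' ∧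
        IsIso ((TopCat.Presheaf.stalkFunctor _ (i (genericPoint Z))).map
          (ι' ≫ Dual3.idealMulι J G).mapPresheaf) ∧ K G')
    (I : Z.Modules) (ι : I ⟶ Coh.structureModule Z) (hι : Mono ι) (hInz : ¬ IsZero I)
    (hIc : Coh.IsCoh ((Scheme.Modules.pushforward i).obj I)) :
    K ((Scheme.Modules.pushforward i).obj I) := by
  haveI : IsLocallyNoetherian X := inferInstance
  haveI : CompactSpace X := inferInstance
  set y := i (genericPoint Z) with hy
  haveI : G.IsQuasicoherent := hG.1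
  haveI : SheafOfModules.IsFiniteType (R := X.ringCatSheaf) G := hG.2
  haveI hntG : Nontrivial (G.presheaf.stalk y) := by
    rw [← not_subsingleton_iff_nontrivial]
    have h1 : y ∈ CohB1.support G := hsG ▸ subset_closure (Set.mem_singleton y)
    exact h1
  obtain ⟨S, hcov⟩ := exists_finset_affine_cover (X := X)
  obtain ⟨G₁, m, hm, hG₁, hbij, hTF⟩ := tf_refine G hG y hsG.le S
  haveI := hm
  have hflG := isFiniteLength_stalk G hG y hsG.le
  haveI : _root_.IsNoetherian (X.presheaf.stalk y) (G.presheaf.stalk y) :=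
    (isFiniteLength_iff_isNoetherian_isArtinian.1 hflG).1
  obtain ⟨r, ⟨eG⟩⟩ := exists_linearEquiv_pi_residue (R := X.presheaf.stalk y)
    (M := G.presheaf.stalk y) hkill
  have hr : 0 < r := by
    rcases Nat.eq_zero_or_pos r with h | h
    · subst h
      exact absurd eG.toEquiv.subsingleton (not_subsingleton_iff_nontrivial.2 hntG)
    · exact h
  let Q : X.Modules := (Scheme.Modules.pushforward i).obj I
  haveI : Q.IsQuasicoherent := hIc.1
  haveI := hι
  let mQ : Q ⟶ (Scheme.Modules.pushforward i).obj (Coh.structureModule Z) :=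
    (Scheme.Modules.pushforward i).map ι
  haveI : Mono mQ := inferInstanceAs (Mono ((Scheme.Modules.pushforward i).map ι))
  have hQnz : ¬ IsZero Q := fun h => hInz (isZero_of_isZero_push i I h)
  have hlenQ := length_stalk_of_mono_push_structure i hkeri Q mQ hQnz
  obtain ⟨eQ⟩ := nonempty_linearEquiv_of_length_eq_one hlenQ
  have hsQ : CohB1.support Q ⊆ closure {y} := hrange ▸ support_push_subset i I
  have htfQ : ∀ (U : X.Opens) (hU : IsAffineOpen U), y ∈ U →
      Mono ((Scheme.Modules.restrictAdjunction hU.fromSpec).unit.app (⨁ fun _ : Fin r => Q)) := by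
    intro U hU hyU
    exact mono_unit_biproduct hU.fromSpec Q r
      (mono_unit_of_mono hU.fromSpec mQ (mono_unit_push_structure i hU hyU))
  let θ : G₁.presheaf.stalk y ≃ₗ[X.presheaf.stalk y]
      (⨁ fun _ : Fin r => Q : X.Modules).presheaf.stalk y :=
    (LinearEquiv.ofBijective (stalkL m y) hbij).trans
      (eG.trans ((stalkPowEquiv Q r y).trans (LinearEquiv.piCongrRight fun _ => eQ)).symm)
  have hTc : Coh.IsCoh (⨁ fun _ : Fin r => Q) := isCoh_pow Q r hIc
  obtain ⟨H, p₁, p₂, hH, hp₁, hp₂, hb₁, hb₂⟩ := exists_common_sub y S hcov hG₁ hTc hTF htfQ θ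
  haveI := hp₁
  haveI := hp₂
  let q : H ⟶ G := p₁ ≫ m
  haveI : Mono q := mono_comp _ _
  have hbq : Function.Bijective (stalkL q y) := by
    rw [stalkL_comp]
    exact hbij.comp hb₁
  have hcq : Coh.IsCoh (cokernel q) := isCoh_cokernel q hH hG
  haveI : (cokernel q).IsQuasicoherent := hcq.1
  have hsub : Subsingleton ((cokernel q).presheaf.stalk y) :=
    subsingleton_stalk_cokernel_of_surjective q y hbq.2
  obtain ⟨J, hJs, hJk⟩ := exists_ideal_killing (cokernel q) hcq
  have hyJ : y ∉ (J.support : Set X) := fun h => (hJs h) hsub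
  obtain ⟨G', ι', hι', hG'q, hiso', hKG'⟩ := hGJ J hyJ
  haveI := hι'
  haveI : G'.IsQuasicoherent := hG'q
  have hzero : Dual3.idealMulι J G ≫ cokernel.π q = 0 := idealMulι_comp_eq_zero J _ hJk
  let l : (Dual3.idealMul J).obj G ⟶ H := Abelian.monoLift q _ hzero
  have hl : l ≫ q = Dual3.idealMulι J G := Abelian.monoLift_comp q _ hzero
  haveI : Mono (l ≫ q) := by rw [hl]; infer_instance
  haveI : Mono l := mono_of_mono l q
  let c : G' ⟶ (⨁ fun _ : Fin r => Q : X.Modules) := ι' ≫ l ≫ p₂
  haveI : Mono c := mono_comp _ _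
  haveI : Mono (ι' ≫ Dual3.idealMulι J G) := mono_comp _ _
  have hG'c : Coh.IsCoh G' := ⟨hG'q, isFiniteType_of_mono (ι' ≫ Dual3.idealMulι J G)⟩
  have hb' : Function.Bijective (stalkL (ι' ≫ Dual3.idealMulι J G) y) := by
    haveI : IsIso (stalkAdd (ι' ≫ Dual3.idealMulι J G) y) := hiso'
    exact ConcreteCategory.bijective_of_isIso (stalkAdd (ι' ≫ Dual3.idealMulι J G) y)
  have hb'' : Function.Bijective (stalkL (ι' ≫ l) y) := by
    have h1 : stalkL (ι' ≫ Dual3.idealMulι J G) y = (stalkL q y).comp (stalkL (ι' ≫ l) y) := by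
      rw [← stalkL_comp, Category.assoc, hl]
    rw [h1] at hb'
    exact bijective_of_comp_bijective hb' hbq
  have hbc : Function.Bijective (stalkL c y) := by
    have h1 : stalkL c y = (stalkL p₂ y).comp (stalkL (ι' ≫ l) y) := by
      rw [← stalkL_comp, Category.assoc]
    rw [h1]
    exact hb₂.comp hb''
  have hcc : Coh.IsCoh (cokernel c) := isCoh_cokernel c hG'c hTc
  have hKpow : K (⨁ fun _ : Fin r => Q) :=
    hext (sesOfMono c) (sesOfMono_shortExact c) hG'c hTc hcc hKG'
      (IH _ hcc ((support_subset_of_epi (cokernel.π c)).trans ((support_pow_subset Q r).trans hsQ))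
        (subsingleton_stalk_cokernel_of_surjective c y hbc.2))
  exact hpow Q r hIc hr (hiso _ _ ⟨biproduct.isoCoproduct _⟩ hKpow)

end Main

end Groth.Agent.Lib.Helper4.Dev
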