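import Mathlib.AlgebraicGeometry.IdealSheaf.Subscheme
import Mathlib.AlgebraicGeometry.Morphisms.ClosedImmersion
import Mathlib.AlgebraicGeometry.Morphisms.Immersion
import Mathlib.AlgebraicGeometry.Properties
import Mathlib.RingTheory.Ideal.Quotient.Nilpotent

open AlgebraicGeometry CategoryTheory TopologicalSpace Limits

universe u

namespace Groth.Agent.Lib.Helper6

/-- a morphism from a reduced scheme whose image lies in a closed subscheme factors through it -/
theorem exists_lift_of_isReduced_of_range_subset
    {X Y Z : Scheme.{u}} [IsReduced X] (f : X ⟶ Y) (j : Z ⟶ Y) [IsClosedImmersion j]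
    (h : Set.range f ⊆ Set.range j) :
    ∃ g : X ⟶ Z, g ≫ j = f := by
  have H : j.ker ≤ f.ker := by
    refine Scheme.IdealSheafData.le_ofIdeals_iff.mpr fun U a ha => ?_
    have ha' : (j.app U).hom a = 0 := j.ideal_ker_le U ha
    change (f.app U).hom a = 0
    rw [← basicOpen_eq_bot_iff, ← Scheme.preimage_basicOpen]
    ext x
    simp only [Opens.coe_bot, Set.mem_empty_iff_false, iff_false]
    intro hx
    obtain ⟨z, hz⟩ := h ⟨x, rfl⟩
    have hz' : z ∈ j ⁻¹ᵁ (Y.basicOpen a) := by
      change j z ∈ Y.basicOpen a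
      rw [hz]
      exact hx
    rw [Scheme.preimage_basicOpen] at hz'
    have h0 : Z.basicOpen ((j.app U).hom a) = ⊥ := by
      rw [ha']
      exact Scheme.basicOpen_zero _ _
    rw [h0] at hz'
    exact hz'
  exact ⟨IsClosedImmersion.lift j f H, IsClosedImmersion.lift_fac j f H⟩

lemma isReduced_subscheme_iff (X : Scheme.{u}) (I : X.IdealSheafData) :
    IsReduced I.subscheme ↔ I = I.radical := by
  rw [IsReduced.iff_of_openCover _ I.subschemeCover.openCover]
  have h1 : ∀ U : X.affineOpens, IsReduced (I.subschemeCover.openCover.X U) ↔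
      (I.ideal U).IsRadical := by
    intro U
    change IsReduced (Spec (.of <| Γ(X, U) ⧸ I.ideal U)) ↔ _
    rw [affine_isReduced_iff, Ideal.isRadical_iff_quotient_reduced]
  constructor
  · intro h
    refine Scheme.IdealSheafData.ext ?_
    funext U
    rw [Scheme.IdealSheafData.radical_ideal]
    exact ((h1 U).1 (h U)).radical.symm
  · intro h U
    rw [h1 U, h, Scheme.IdealSheafData.radical_ideal]
    exact Ideal.radical_isRadical _

theorem isReduced_subscheme_iff_eq_nilradical
    (X : Scheme.{u}) (I : X.IdealSheafData) (hI : I.support = ⊤) :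
    IsReduced I.subscheme ↔ I = X.nilradical := by
  rw [isReduced_subscheme_iff, ← Scheme.IdealSheafData.vanishingIdeal_support, hI,
    Scheme.IdealSheafData.vanishingIdeal_top]

instance isReduced_nilradical_subscheme (X : Scheme.{u}) : IsReduced X.nilradical.subscheme :=
  (isReduced_subscheme_iff_eq_nilradical X X.nilradical X.support_nilradical).2 rfl

lemma range_nilradical_subschemeι (X : Scheme.{u}) :
    Set.range X.nilradical.subschemeι = Set.univ := by
  rw [Scheme.IdealSheafData.range_subschemeι, X.support_nilradical]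
  rfl

theorem isOpenImmersion_red_of_isOpenImmersion
    {X Y : Scheme.{u}} (f : X ⟶ Y) [IsOpenImmersion f]
    (g : X.nilradical.subscheme ⟶ Y.nilradical.subscheme)
    (hg : g ≫ Y.nilradical.subschemeι = X.nilradical.subschemeι ≫ f) :
    IsOpenImmersion g := by
  set ιX := X.nilradical.subschemeι with hιX
  set ιY := Y.nilradical.subschemeι with hιY
  let W : Y.nilradical.subscheme.Opens := ιY ⁻¹ᵁ f.opensRange
  let c : W.toScheme ⟶ X := (ιY ∣_ f.opensRange) ≫ f.isoOpensRange.inv
  have hc : c ≫ f = W.ι ≫ ιY := by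
    simp only [c, Category.assoc, Scheme.Hom.isoOpensRange_inv_comp]
    exact morphismRestrict_ι _ _
  have hcrange : Set.range c = Set.univ := by
    rw [Set.eq_univ_iff_forall]
    intro x
    obtain ⟨y, hy⟩ : f x ∈ Set.range ιY := by
      rw [hιY, range_nilradical_subschemeι]; trivial
    have hyW : y ∈ W := by
      change ιY y ∈ f.opensRange
      rw [hy]
      exact ⟨x, rfl⟩
    refine ⟨⟨y, hyW⟩, ?_⟩
    apply f.isOpenEmbedding.injective
    rw [← Scheme.Hom.comp_apply, hc, Scheme.Hom.comp_apply]
    exact hy
  obtain ⟨b, hb⟩ := exists_lift_of_isReduced_of_range_subset ιX c (by rw [hcrange]; exact Set.subset_univ _)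
  obtain ⟨a, ha⟩ := exists_lift_of_isReduced_of_range_subset c ιX
    (by rw [hιX, range_nilradical_subschemeι]; exact Set.subset_univ _)
  have hba : b ≫ a = 𝟙 _ := by
    rw [← cancel_mono ιX, Category.assoc, ha, hb, Category.id_comp]
  have hab : a ≫ b = 𝟙 _ := by
    rw [← cancel_mono c, Category.assoc, hb, ha, Category.id_comp]
  have : IsIso b := ⟨a, hba, hab⟩
  have hgb : g = b ≫ W.ι := by
    rw [← cancel_mono ιY, hg, Category.assoc, ← hc, ← Category.assoc, hb]
  rw [hgb]
  infer_instance

theorem exists_factor_openImmersion_closedImmersion_of_isReduced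
    {Z X : Scheme.{u}} (h : Z ⟶ X) [IsImmersion h] [IsReduced Z] :
    ∃ (W : Scheme.{u}) (j : Z ⟶ W) (i : W ⟶ X), IsOpenImmersion j ∧ IsClosedImmersion i ∧
      IsReduced W ∧ Set.range i = closure (Set.range h) ∧ j ≫ i = h := by
  let C : Closeds X := ⟨closure (Set.range h), isClosed_closure⟩
  let I := Scheme.IdealSheafData.vanishingIdeal C
  have hsupp : I.support = C := by
    ext1
    exact Scheme.IdealSheafData.coe_support_vanishingIdeal C
  have hrange : Set.range I.subschemeι = closure (Set.range h) := by
    rw [Scheme.IdealSheafData.range_subschemeι, hsupp]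
    rfl
  have hred : IsReduced I.subscheme := by
    rw [isReduced_subscheme_iff, ← Scheme.IdealSheafData.vanishingIdeal_support, hsupp]
  obtain ⟨j, hj⟩ := exists_lift_of_isReduced_of_range_subset h I.subschemeι
    (by rw [hrange]; exact subset_closure)
  refine ⟨I.subscheme, j, I.subschemeι, ?_, inferInstance, hred, hrange, hj⟩
  -- `j` is an open immersion
  let U := h.coborderRange
  let k := h.liftCoborder
  have hk : k ≫ U.ι = h := h.liftCoborder_ι
  let W' : I.subscheme.Opens := I.subschemeι ⁻¹ᵁ U
  let c : W'.toScheme ⟶ U.toScheme := I.subschemeι ∣_ U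
  have hc : c ≫ U.ι = W'.ι ≫ I.subschemeι := morphismRestrict_ι _ _
  have hck : Set.range c = Set.range k := by
    ext u
    constructor
    · rintro ⟨w, rfl⟩
      have h1 : (c w).1 ∈ closure (Set.range h) := by
        rw [← hrange]
        exact ⟨w.1, (morphismRestrict_base_coe _ _ w).symm⟩
      have h2 : (c w).1 ∈ coborder (Set.range h) := (c w).2
      have h3 : (c w).1 ∈ Set.range h := by
        rw [← coborder_inter_closure (s := Set.range h)]
        exact ⟨h2, h1⟩
      obtain ⟨z, hz⟩ := h3
      refine ⟨z, ?_⟩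
      apply U.ι.isOpenEmbedding.injective
      rw [← Scheme.Hom.comp_apply, hk]
      exact hz
    · rintro ⟨z, rfl⟩
      have h1 : (k z).1 ∈ Set.range I.subschemeι := by
        rw [hrange]
        apply subset_closure
        refine ⟨z, ?_⟩
        exact (congrArg (fun φ : Z ⟶ X => φ z) hk).symm
      obtain ⟨w, hw⟩ := h1
      have hwW : w ∈ W' := by
        change I.subschemeι w ∈ U
        rw [hw]
        exact (k z).2
      refine ⟨⟨w, hwW⟩, ?_⟩
      apply Subtype.ext
      rw [morphismRestrict_base_coe]
      exact hw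
  obtain ⟨b, hb⟩ := exists_lift_of_isReduced_of_range_subset k c (by rw [hck])
  obtain ⟨a, ha⟩ := exists_lift_of_isReduced_of_range_subset c k (by rw [hck])
  have hba : b ≫ a = 𝟙 _ := by
    rw [← cancel_mono k, Category.assoc, ha, hb, Category.id_comp]
  have hab : a ≫ b = 𝟙 _ := by
    rw [← cancel_mono c, Category.assoc, hb, ha, Category.id_comp]
  have : IsIso b := ⟨a, hba, hab⟩
  have hjb : j = b ≫ W'.ι := by
    rw [← cancel_mono I.subschemeι, hj, Category.assoc, ← hc, ← Category.assoc, hb, hk]
  rw [hjb]
  infer_instance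

end Groth.Agent.Lib.Helper6
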