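import Groth.Agent.S8861
import Groth.Agent.Lib.Helper28DepthLoc

/-!
# Algebra for the isomorphism criterion `depth ≥ 2` / not associated (helper20)

* `exists_notMem_mul_mem` : for a `p`-saturated proper ideal `J` of a Noetherian ring not contained in any prime
  strictly below `p`, there is `r ∉ J` with `p r ⊆ J`.
* `exists_regular_pair`, `exists_regular` : regular elements from a depth bound (or the module is zero).
* `exists_ne_zero_smul_eq_zero` : the depth argument: `ψ : M' → N'` injective, `depth M' ≥ 2`, an element of `N'`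
  outside the image which is multiplied into the image by the maximal ideal gives a nonzero element of `N'` killed by
  the maximal ideal.
-/

set_option autoImplicit false
universe u v w

namespace Groth.Agent.Lib.Helper20.IsoDepth

open RingTheory.Sequence

section Sat

variable {R : Type u} [CommRing R] [IsNoetherianRing R]

theorem exists_notMem_mul_mem (p : Ideal R) [hp : p.IsPrime] (J : Ideal R)
    (hsat : ∀ r s : R, s ∉ p → s * r ∈ J → r ∈ J) (h1 : (1 : R) ∉ J)
    (hq : ∀ q : Ideal R, q.IsPrime → q < p → ∃ s ∈ J, s ∉ q) :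
    ∃ r : R, r ∉ J ∧ ∀ t ∈ p, t * r ∈ J := by
  classical
  have hJp : J ≤ p := by
    intro r hr
    by_contra hrp
    exact h1 (hsat 1 r hrp (by rwa [mul_one]))
  have hmin : p ∈ J.minimalPrimes := by
    refine ⟨⟨hp, hJp⟩, ?_⟩
    rintro q ⟨hqprime, hJq⟩ hqp
    by_contra hpq
    obtain ⟨s, hsJ, hsq⟩ := hq q hqprime (lt_of_le_not_ge hqp hpq)
    exact hsq (hJq hsJ)
  have hrad : p ≤ J.radical := by
    intro r hr
    obtain ⟨k, s, hs, hsk⟩ := Groth.Agent.S8861.exists_pow_mul_mem_of_mem_minimalPrimes hmin hr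
    exact ⟨k, hsat _ s hs hsk⟩
  have hex : ∃ K : ℕ, p ^ K ≤ J :=
    Ideal.exists_pow_le_of_le_radical_of_fg hrad (IsNoetherian.noetherian p)
  have hK0 : Nat.find hex ≠ 0 := by
    intro h0
    have := Nat.find_spec hex
    rw [h0, pow_zero, Ideal.one_eq_top, top_le_iff] at this
    exact h1 (this ▸ Submodule.mem_top)
  obtain ⟨K, hK⟩ := Nat.exists_eq_succ_of_ne_zero hK0
  have hnot : ¬ p ^ K ≤ J := by
    intro h
    have := Nat.find_min' hex h
    omega
  obtain ⟨r, hrK, hrJ⟩ := Set.not_subset.1 hnot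
  refine ⟨r, hrJ, fun t ht => ?_⟩
  have hsp := Nat.find_spec hex
  rw [hK, pow_succ'] at hsp
  exact hsp (Ideal.mul_mem_mul ht hrK)

end Sat

section Depth

variable {O : Type u} [CommRing O] [IsLocalRing O]
  {M' : Type v} [AddCommGroup M'] [Module O M'] [Module.Finite O M']

/-- depth at least one: a regular element in the maximal ideal (trivially so if the module is zero). -/
theorem exists_regular (h : (1 : ℕ∞) ≤ LocCoh.depth O M') :
    ∃ a ∈ IsLocalRing.maximalIdeal O, IsSMulRegular M' a := by
  by_cases hM : IsLocalRing.maximalIdeal O • (⊤ : Submodule O M') = ⊤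
  · have hsub : Subsingleton M' := by
      by_contra hns
      rw [not_subsingleton_iff_nontrivial] at hns
      exact Groth.Agent.Lib.Helper28.maximalIdeal_smul_top_ne_top (R := O) (M := M') hM
    exact ⟨0, zero_mem _, fun x y _ => Subsingleton.elim x y⟩
  · obtain ⟨rs, hlen, hmem, hreg⟩ :=
      (Groth.Agent.Lib.Helper28.natCast_le_idealDepth_iff hM 1).1 (by exact_mod_cast h)
    match rs, hlen with
    | [a], _ =>
      have h1 := hreg.toIsWeaklyRegular
      rw [isWeaklyRegular_cons_iff] at h1
      exact ⟨a, hmem a (by simp), h1.1⟩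

/-- depth at least two: a regular sequence of length two in the maximal ideal, in elementary form. -/
theorem exists_regular_pair (h : (2 : ℕ∞) ≤ LocCoh.depth O M') :
    ∃ a ∈ IsLocalRing.maximalIdeal O, ∃ b ∈ IsLocalRing.maximalIdeal O, IsSMulRegular M' a ∧
      ∀ u : M', (∃ v : M', b • u = a • v) → ∃ w : M', u = a • w := by
  by_cases hM : IsLocalRing.maximalIdeal O • (⊤ : Submodule O M') = ⊤
  · have hsub : Subsingleton M' := by
      by_contra hns
      rw [not_subsingleton_iff_nontrivial] at hns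
      exact Groth.Agent.Lib.Helper28.maximalIdeal_smul_top_ne_top (R := O) (M := M') hM
    exact ⟨0, zero_mem _, 0, zero_mem _, fun x y _ => Subsingleton.elim x y,
      fun u _ => ⟨0, Subsingleton.elim _ _⟩⟩
  · obtain ⟨rs, hlen, hmem, hreg⟩ :=
      (Groth.Agent.Lib.Helper28.natCast_le_idealDepth_iff hM 2).1 (by exact_mod_cast h)
    match rs, hlen with
    | [a, b], _ =>
      have h1 := hreg.toIsWeaklyRegular
      rw [isWeaklyRegular_cons_iff] at h1
      obtain ⟨ha, h2⟩ := h1
      rw [isWeaklyRegular_cons_iff] at h2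
      obtain ⟨hb, -⟩ := h2
      refine ⟨a, hmem a (by simp), b, hmem b (by simp), ha, ?_⟩
      rintro u ⟨v, huv⟩
      have h3 : b • (Submodule.Quotient.mk u : QuotSMulTop a M') = b • (Submodule.Quotient.mk 0 : QuotSMulTop a M') := by
        rw [← Submodule.Quotient.mk_smul, ← Submodule.Quotient.mk_smul, smul_zero,
          Submodule.Quotient.mk_zero, Submodule.Quotient.mk_eq_zero, huv]
        exact Submodule.smul_mem_pointwise_smul v a ⊤ Submodule.mem_top
      have h4 := hb h3
      rw [Submodule.Quotient.mk_zero, Submodule.Quotient.mk_eq_zero,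
        Submodule.mem_smul_pointwise_iff_exists] at h4
      obtain ⟨w, -, hw⟩ := h4
      exact ⟨w, hw.symm⟩

end Depth

section Arg

variable {O : Type u} [CommRing O] {M' : Type v} {N' : Type w} [AddCommGroup M'] [Module O M']
  [AddCommGroup N'] [Module O N']

/-- the depth argument. -/
theorem exists_ne_zero_smul_eq_zero (I : Ideal O) (ψ : M' →ₗ[O] N') (hinj : Function.Injective ψ)
    (a b : O) (ha : a ∈ I) (hb : b ∈ I) (hreg : IsSMulRegular M' a)
    (hreg2 : ∀ u : M', (∃ v : M', b • u = a • v) → ∃ w : M', u = a • w)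
    (n' : N') (hn' : n' ∉ LinearMap.range ψ) (hI : ∀ t ∈ I, t • n' ∈ LinearMap.range ψ) :
    ∃ n'' : N', n'' ≠ 0 ∧ ∀ t ∈ I, t • n'' = 0 := by
  choose v hv using hI
  obtain ⟨m₀, hm₀⟩ : ∃ m₀ : M', v a ha = a • m₀ := by
    apply hreg2
    refine ⟨v b hb, ?_⟩
    apply hinj
    rw [map_smul, map_smul, hv, hv, smul_smul, smul_smul, mul_comm]
  refine ⟨n' - ψ m₀, ?_, ?_⟩
  · intro h0
    apply hn'
    rw [sub_eq_zero] at h0
    exact ⟨m₀, h0.symm⟩
  · have ha0 : a • (n' - ψ m₀) = 0 := by
      rw [smul_sub, ← hv a ha, ← map_smul, hm₀, sub_self]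
    intro t ht
    have h1 : t • (n' - ψ m₀) = ψ (v t ht - t • m₀) := by
      rw [smul_sub, map_sub, map_smul, hv]
    rw [h1]
    have h2 : ψ (a • (v t ht - t • m₀)) = 0 := by
      rw [map_smul, ← h1, smul_comm, ha0, smul_zero]
    have h3 : a • (v t ht - t • m₀) = a • (0 : M') := by
      rw [smul_zero]
      apply hinj
      rw [h2, map_zero]
    rw [hreg h3, map_zero]

end Arg

end Groth.Agent.Lib.Helper20.IsoDepth
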