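import Mathlib
import Groth.Prelude.Def_Pic
import Groth.Prelude.Def_FlatMod2
import Groth.Agent.Lib.Helper2QCoh

/-!
# Local generators of invertible modules (helper20)

* `exists_local_generator`: for an invertible module `L` and a point `x₀`, there is an open nbhd `W`
  of `x₀` and a section `t` of `L` over `W` whose germ at every point `y ∈ W` is a free generator of
  the stalk `L_y`: `c ↦ c • t_y` is a bijection `O_{X,y} → L_y`.
-/
set_option autoImplicit false
universe u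
open CategoryTheory CategoryTheory.Limits AlgebraicGeometry TopologicalSpace

namespace Groth.Agent.Lib.Helper20.InvGen

set_option linter.style.haveILetI false

open Groth.Agent.Lib.Helper2

variable {X : Scheme.{u}}

/-- the generator of the trivialised module over `U.ι ''ᵁ V`. -/
noncomputable def gen (L : X.Modules) (U : X.Opens)
    (ψ : Coh.structureModule ↑U ⟶ L.restrict U.ι) (V : (↑U : Scheme.{u}).Opens) :
    Γ(L, U.ι ''ᵁ V) :=
  ψ.app V (1 : Γ(↑U, V))

/-- sections of the trivialised module over `U.ι ''ᵁ V` are the multiples of the generator. -/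
theorem bijective_smul_of_iso (L : X.Modules) (U : X.Opens)
    (ψ : Coh.structureModule ↑U ⟶ L.restrict U.ι) [IsIso ψ] (V : (↑U : Scheme.{u}).Opens) :
    Function.Bijective (fun r : Γ(X, U.ι ''ᵁ V) => r • gen L U ψ V) := by
  have hbij : Function.Bijective (ψ.app V) :=
    (ConcreteCategory.isIso_iff_bijective (ψ.app V)).1 inferInstance
  have happ : ∀ r : Γ(↑U, V), ψ.app V r = (((U.ι.appIso V).inv r) • gen L U ψ V : Γ(L, U.ι ''ᵁ V)) := by
    intro r
    have h1 : ψ.app V (r • (1 : Γ(↑U, V))) = r • ψ.app V (1 : Γ(↑U, V)) :=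
      Scheme.Modules.Hom.app_smul ψ r _
    have h2 : (r • (1 : Γ(↑U, V)) : Γ(↑U, V)) = r := mul_one r
    rw [h2] at h1
    exact h1
  have e1 : ∀ a : Γ(↑U, V), (U.ι.appIso V).hom ((U.ι.appIso V).inv a) = a :=
    fun a => Iso.inv_hom_id_apply _ _
  have e2 : ∀ a : Γ(X, U.ι ''ᵁ V), (U.ι.appIso V).inv ((U.ι.appIso V).hom a) = a :=
    fun a => Iso.hom_inv_id_apply _ _
  constructor
  · intro r r' h
    have h' : ψ.app V ((U.ι.appIso V).hom r) = ψ.app V ((U.ι.appIso V).hom r') := by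
      rw [happ, happ, e2, e2]; exact h
    have := hbij.1 h'
    rw [← e2 r, ← e2 r', this]
  · intro m
    obtain ⟨r, hr⟩ := hbij.2 m
    let r' : Γ(↑U, V) := r
    refine ⟨(U.ι.appIso V).inv r', ?_⟩
    exact (happ r').symm.trans hr

/-- the generators are compatible with restriction. -/
theorem gen_res (L : X.Modules) (U : X.Opens)
    (ψ : Coh.structureModule ↑U ⟶ L.restrict U.ι) {V V' : (↑U : Scheme.{u}).Opens} (h : V' ≤ V) :
    L.presheaf.map (homOfLE (U.ι.image_mono h)).op (gen L U ψ V) = gen L U ψ V' := by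
  have h1 := ψ.mapPresheaf.naturality (homOfLE h).op
  have h2 := ConcreteCategory.congr_hom h1 (1 : Γ(↑U, V))
  have h3 : ((Coh.structureModule ↑U).presheaf.map (homOfLE h).op) (1 : Γ(↑U, V)) =
      (1 : Γ(↑U, V')) := map_one ((↑U : Scheme.{u}).presheaf.map (homOfLE h).op).hom
  change (ψ.mapPresheaf.app (Opposite.op V'))
      (((Coh.structureModule ↑U).presheaf.map (homOfLE h).op) (1 : Γ(↑U, V))) = _ at h2
  rw [h3] at h2
  exact h2.symm

/-- opens contained in `U` are images of opens of `U`. -/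
theorem exists_eq_image (U : X.Opens) (W : X.Opens) (hW : W ≤ U.ι ''ᵁ ⊤) :
    ∃ V : (↑U : Scheme.{u}).Opens, W = U.ι ''ᵁ V := by
  refine ⟨U.ι ⁻¹ᵁ W, ?_⟩
  rw [Scheme.Hom.image_preimage_eq_opensRange_inf, ← Scheme.Hom.image_top_eq_opensRange]
  exact (inf_eq_right.2 hW).symm

/-- the germ of the generator over `U.ι ''ᵁ V` is the germ of the generator over `U.ι ''ᵁ ⊤`. -/
theorem germ_gen (L : X.Modules) (U : X.Opens)
    (ψ : Coh.structureModule ↑U ⟶ L.restrict U.ι) (V : (↑U : Scheme.{u}).Opens) (y : X)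
    (hy : y ∈ U.ι ''ᵁ V) :
    L.presheaf.germ (U.ι ''ᵁ V) y hy (gen L U ψ V) =
      L.presheaf.germ (U.ι ''ᵁ ⊤) y (U.ι.image_mono le_top hy) (gen L U ψ ⊤) := by
  rw [← gen_res L U ψ (le_top : V ≤ ⊤)]
  exact TopCat.Presheaf.germ_res_apply L.presheaf (homOfLE (U.ι.image_mono le_top)) y hy _

/-- the germ of the generator freely generates the stalk. -/
theorem bijective_smul_germ (L : X.Modules) (U : X.Opens)
    (ψ : Coh.structureModule ↑U ⟶ L.restrict U.ι) [IsIso ψ] (y : X) (hy : y ∈ U.ι ''ᵁ ⊤) :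
    Function.Bijective (fun c : X.presheaf.stalk y =>
      c • L.presheaf.germ (U.ι ''ᵁ ⊤) y hy (gen L U ψ ⊤)) := by
  set g := L.presheaf.germ (U.ι ''ᵁ ⊤) y hy (gen L U ψ ⊤) with hg
  have hinj : ∀ c : X.presheaf.stalk y, c • g = 0 → c = 0 := by
    intro c hc
    obtain ⟨W₀, hyW₀, r₀, rfl⟩ := X.presheaf.exists_germ_eq c
    -- restrict to an open inside `U`
    obtain ⟨V, hV⟩ := exists_eq_image U (W₀ ⊓ U.ι ''ᵁ ⊤) inf_le_right
    have hyV : y ∈ U.ι ''ᵁ V := hV ▸ ⟨hyW₀, hy⟩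
    have hle : U.ι ''ᵁ V ≤ W₀ := hV ▸ inf_le_left
    set r := X.presheaf.map (homOfLE hle).op r₀ with hr
    have hgr : X.presheaf.germ (U.ι ''ᵁ V) y hyV r = X.presheaf.germ W₀ y hyW₀ r₀ :=
      TopCat.Presheaf.germ_res_apply X.presheaf (homOfLE hle) y hyV r₀
    rw [← hgr] at hc ⊢
    have h1 : L.presheaf.germ (U.ι ''ᵁ V) y hyV (r • gen L U ψ V) = 0 := by
      rw [QCoh.germ_smul, germ_gen]; exact hc
    rw [← map_zero (L.presheaf.germ (U.ι ''ᵁ V) y hyV).hom] at h1
    obtain ⟨W₁, hyW₁, i₁, i₂, h2⟩ := TopCat.Presheaf.germ_eq L.presheaf y hyV hyV _ _ h1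
    obtain ⟨V₁, rfl⟩ := exists_eq_image U W₁ ((leOfHom i₁).trans (U.ι.image_mono le_top))
    have hV₁ : V₁ ≤ V := by
      intro z hz
      have : U.ι z ∈ U.ι ''ᵁ V := leOfHom i₁ ⟨z, hz, rfl⟩
      obtain ⟨z', hz', hzz'⟩ := this
      rwa [← U.ι.isOpenEmbedding.injective hzz']
    have h3 : X.presheaf.map i₁.op r • gen L U ψ V₁ = (0 : Γ(X, U.ι ''ᵁ V₁)) • gen L U ψ V₁ := by
      rw [zero_smul]
      have h4 : L.presheaf.map i₁.op (r • gen L U ψ V) = 0 := by
        rw [h2]; exact map_zero _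
      rw [Scheme.Modules.map_smul] at h4
      rw [← gen_res L U ψ hV₁]
      exact h4
    have h5 := (bijective_smul_of_iso L U ψ V₁).1 h3
    rw [← TopCat.Presheaf.germ_res_apply X.presheaf i₁ y hyW₁ r, h5, map_zero]
  constructor
  · intro c c' h
    have : (c - c') • g = 0 := by rw [sub_smul]; exact sub_eq_zero.2 h
    exact sub_eq_zero.1 (hinj _ this)
  · intro m
    obtain ⟨W₀, hyW₀, m₀, rfl⟩ := L.presheaf.exists_germ_eq m
    obtain ⟨V, hV⟩ := exists_eq_image U (W₀ ⊓ U.ι ''ᵁ ⊤) inf_le_right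
    have hyV : y ∈ U.ι ''ᵁ V := hV ▸ ⟨hyW₀, hy⟩
    have hle : U.ι ''ᵁ V ≤ W₀ := hV ▸ inf_le_left
    obtain ⟨r, hr⟩ := (bijective_smul_of_iso L U ψ V).2 (L.presheaf.map (homOfLE hle).op m₀)
    refine ⟨X.presheaf.germ (U.ι ''ᵁ V) y hyV r, ?_⟩
    change X.presheaf.germ (U.ι ''ᵁ V) y hyV r • g = _
    rw [hg, ← germ_gen L U ψ V y hyV, ← QCoh.germ_smul]
    have hr' : r • gen L U ψ V = L.presheaf.map (homOfLE hle).op m₀ := hr
    rw [hr']
    exact TopCat.Presheaf.germ_res_apply L.presheaf (homOfLE hle) y hyV m₀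

/-- an invertible module has, locally, a section which freely generates all stalks. -/
theorem exists_local_generator (L : X.Modules) (hL : PicF.IsInvertible L) (x₀ : X) :
    ∃ (W : X.Opens) (t : Γ(L, W)), x₀ ∈ W ∧ ∀ (y : X) (hy : y ∈ W),
      Function.Bijective (fun c : X.presheaf.stalk y => c • L.presheaf.germ W y hy t) := by
  obtain ⟨U, hxU, ⟨e⟩⟩ := hL x₀
  refine ⟨U.ι ''ᵁ ⊤, gen L U e.inv ⊤, ?_, fun y hy => bijective_smul_germ L U e.inv y hy⟩
  rw [Scheme.Hom.image_top_eq_opensRange, Scheme.Opens.opensRange_ι]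
  exact hxU

/-- restriction to a smaller open keeps a free generator. -/
theorem generator_res (L : X.Modules) {W W' : X.Opens} (h : W' ≤ W) (t : Γ(L, W))
    (ht : ∀ (y : X) (hy : y ∈ W),
      Function.Bijective (fun c : X.presheaf.stalk y => c • L.presheaf.germ W y hy t))
    (y : X) (hy : y ∈ W') :
    Function.Bijective (fun c : X.presheaf.stalk y =>
      c • L.presheaf.germ W' y hy (L.presheaf.map (homOfLE h).op t)) := by
  have := TopCat.Presheaf.germ_res_apply L.presheaf (homOfLE h) y hy t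
  rw [this]
  exact ht y (h hy)

end Groth.Agent.Lib.Helper20.InvGen
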