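import Mathlib
import Groth.Prelude.Def_MoreMor

/-!
# Pullback of ideal sheaves, affine-locally; base change of thickenings (helper20)

Namespace `Groth.Agent.Lib.Helper20.IdealComap`.
-/

set_option autoImplicit false
set_option linter.style.haveILetI false
universe u
open CategoryTheory AlgebraicGeometry Limits Opposite TopologicalSpace

namespace Groth.Agent.Lib.Helper20.IdealComap

open Scheme.IdealSheafData in
/-- affine case of the formula for the pullback of an ideal sheaf. -/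
theorem ideal_comap_top_of_isAffine {X Y : Scheme.{u}} [IsAffine X] [IsAffine Y] (ψ : X ⟶ Y)
    (J : Y.IdealSheafData) :
    (J.comap ψ).ideal ⟨⊤, isAffineOpen_top X⟩ = (J.ideal ⟨⊤, isAffineOpen_top Y⟩).map ψ.appTop.hom := by
  apply eq_of_forall_ge_iff
  intro 𝔨
  have h1 : (J.comap ψ).ideal ⟨⊤, isAffineOpen_top X⟩ ≤ 𝔨 ↔ J.comap ψ ≤ ofIdealTop 𝔨 := by
    constructor
    · intro h
      apply le_of_isAffine
      simpa using h
    · intro h
      simpa using h ⟨⊤, isAffineOpen_top X⟩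
  have h2 : J ≤ (ofIdealTop 𝔨).map ψ ↔
      J.ideal ⟨⊤, isAffineOpen_top Y⟩ ≤ ((ofIdealTop 𝔨).map ψ).ideal ⟨⊤, isAffineOpen_top Y⟩ :=
    ⟨fun h => h _, le_of_isAffine⟩
  have h3 : ((ofIdealTop 𝔨).map ψ).ideal ⟨⊤, isAffineOpen_top Y⟩ = 𝔨.comap ψ.appTop.hom := by
    rw [ideal_map_of_isAffineHom]
    have h4 : (ofIdealTop 𝔨).ideal ⟨⊤, isAffineOpen_top X⟩ = 𝔨 :=
      (equivOfIsAffine (X := X)).apply_symm_apply 𝔨
    exact congrArg (Ideal.comap ψ.appTop.hom) h4
  rw [h1, ← le_map_iff_comap_le, h2, h3, Ideal.map_le_iff_le_comap]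

theorem mul_self_eq_bot_of_comap {R R' : Type*} [CommRing R] [CommRing R'] (e : R →+* R')
    (he : Function.Injective e) (𝔠 : Ideal R') (L : Ideal R) (hL : L = 𝔠.comap e) (h : 𝔠 * 𝔠 = ⊥) :
    L * L = ⊥ := by
  rw [eq_bot_iff]
  intro z hz
  refine Submodule.mul_induction_on hz ?_ ?_
  · intro x hx y hy
    rw [hL] at hx hy
    have : e (x * y) ∈ 𝔠 * 𝔠 := by rw [map_mul]; exact Ideal.mul_mem_mul hx hy
    rw [h, Ideal.mem_bot] at this
    rw [Ideal.mem_bot]
    exact he (this.trans (map_zero e).symm)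
  · intro x y hx hy
    exact Ideal.add_mem _ hx hy

theorem mul_self_eq_bot_of_comap' {R R' : Type*} [CommRing R] [CommRing R'] (e : R →+* R')
    (he : Function.Surjective e) (𝔠 : Ideal R') (K : Ideal R) (hK : K = 𝔠.comap e) (h : K * K = ⊥) :
    𝔠 * 𝔠 = ⊥ := by
  rw [eq_bot_iff]
  intro z hz
  refine Submodule.mul_induction_on hz ?_ ?_
  · intro x hx y hy
    obtain ⟨x', rfl⟩ := he x
    obtain ⟨y', rfl⟩ := he y
    have hx' : x' ∈ K := by rw [hK]; exact hx
    have hy' : y' ∈ K := by rw [hK]; exact hy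
    have : x' * y' ∈ K * K := Ideal.mul_mem_mul hx' hy'
    rw [h, Ideal.mem_bot] at this
    rw [Ideal.mem_bot, ← map_mul, this, map_zero]
  · intro x y hx hy
    exact Ideal.add_mem _ hx hy

open Scheme.IdealSheafData in
/-- the pullback of a square-zero ideal sheaf is square-zero. -/
theorem comap_mul_self_eq_bot {S T : Scheme.{u}} (g : S ⟶ T) (I : T.IdealSheafData) (hI : I * I = ⊥) :
    I.comap g * I.comap g = ⊥ := by
  let ι : Type u := {p : S.Opens × T.Opens // IsAffineOpen p.1 ∧ IsAffineOpen p.2 ∧ p.1 ≤ g ⁻¹ᵁ p.2}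
  let W : ι → S.affineOpens := fun p =>
    ⟨p.2.1.fromSpec ''ᵁ ⊤, (isAffineOpen_top _).image_of_isOpenImmersion p.2.1.fromSpec⟩
  have hW : ∀ p : ι, (W p).1 = p.1.1 := fun p => by
    change p.2.1.fromSpec ''ᵁ ⊤ = p.1.1
    rw [Scheme.Hom.image_top_eq_opensRange, p.2.1.opensRange_fromSpec]
  refine ext_of_iSup_eq_top W ?_ ?_
  · rw [eq_top_iff]
    intro x _
    obtain ⟨V, hV, hxV, -⟩ := exists_isAffineOpen_mem_and_subset (x := g x) (U := ⊤) trivial
    obtain ⟨U, hU, hxU, hUV⟩ := exists_isAffineOpen_mem_and_subset (x := x) (U := g ⁻¹ᵁ V) hxV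
    refine Opens.mem_iSup.2 ⟨⟨(U, V), hU, hV, hUV⟩, ?_⟩
    rw [hW]
    exact hxU
  · rintro ⟨⟨U, V⟩, hU, hV, hUV⟩
    change (I.comap g).ideal _ * (I.comap g).ideal _ = ⊥
    set jU := hU.fromSpec
    set jV := hV.fromSpec
    set φ := g.appLE V U hUV
    have hsq : Spec.map φ ≫ jV = jU ≫ g := IsAffineOpen.SpecMap_appLE_fromSpec g hV hU hUV
    have hK : ((I.comap g).comap jU).ideal ⟨⊤, isAffineOpen_top _⟩ = _ :=
      ideal_comap_of_isOpenImmersion (I.comap g) jU ⟨⊤, isAffineOpen_top _⟩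
    have hL : ((I.comap jV)).ideal ⟨⊤, isAffineOpen_top _⟩ = _ :=
      ideal_comap_of_isOpenImmersion I jV ⟨⊤, isAffineOpen_top _⟩
    have hKL : ((I.comap g).comap jU).ideal ⟨⊤, isAffineOpen_top _⟩ =
        ((I.comap jV).ideal ⟨⊤, isAffineOpen_top _⟩).map (Spec.map φ).appTop.hom := by
      rw [← comap_comp, ← hsq, comap_comp, ideal_comap_top_of_isAffine]
    have hLL : (I.comap jV).ideal ⟨⊤, isAffineOpen_top _⟩ * (I.comap jV).ideal ⟨⊤, isAffineOpen_top _⟩ = ⊥ := by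
      refine mul_self_eq_bot_of_comap _ ?_ _ _ hL ?_
      · exact (ConcreteCategory.bijective_of_isIso (jV.appIso ⊤).inv).injective
      · change (I * I).ideal _ = ⊥
        rw [hI]
        rfl
    refine mul_self_eq_bot_of_comap' _ ?_ _ _ hK ?_
    · exact (ConcreteCategory.bijective_of_isIso (jU.appIso ⊤).inv).surjective
    · rw [hKL, ← Ideal.map_mul, hLL, Ideal.map_bot]

open Scheme.IdealSheafData in
/-- **local formula for the pullback of an ideal sheaf**, in transported form: for affine `U ≤ g⁻¹V`, `V` affine,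
with `jU = hU.fromSpec`, `jV = hV.fromSpec` and `φ = g.appLE V U`:
`(I.comap g)(jU(⊤))` pulled back to `Γ(Spec Γ(U), ⊤)` is the extension along `Spec φ` of `I(jV(⊤))` pulled back to
`Γ(Spec Γ(V), ⊤)`. -/
theorem ideal_comap_eq {S T : Scheme.{u}} (g : S ⟶ T) (I : T.IdealSheafData) {U : S.Opens} {V : T.Opens}
    (hU : IsAffineOpen U) (hV : IsAffineOpen V) (hUV : U ≤ g ⁻¹ᵁ V) :
    ((I.comap g).ideal ⟨hU.fromSpec ''ᵁ ⊤, (isAffineOpen_top _).image_of_isOpenImmersion hU.fromSpec⟩).comap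
        (hU.fromSpec.appIso ⊤).inv.hom =
      ((I.ideal ⟨hV.fromSpec ''ᵁ ⊤, (isAffineOpen_top _).image_of_isOpenImmersion hV.fromSpec⟩).comap
        (hV.fromSpec.appIso ⊤).inv.hom).map (Spec.map (g.appLE V U hUV)).appTop.hom := by
  have hsq : Spec.map (g.appLE V U hUV) ≫ hV.fromSpec = hU.fromSpec ≫ g :=
    IsAffineOpen.SpecMap_appLE_fromSpec g hV hU hUV
  have hK : ((I.comap g).comap hU.fromSpec).ideal ⟨⊤, isAffineOpen_top _⟩ = _ :=
    ideal_comap_of_isOpenImmersion (I.comap g) hU.fromSpec ⟨⊤, isAffineOpen_top _⟩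
  have hL : ((I.comap hV.fromSpec)).ideal ⟨⊤, isAffineOpen_top _⟩ = _ :=
    ideal_comap_of_isOpenImmersion I hV.fromSpec ⟨⊤, isAffineOpen_top _⟩
  rw [← hK, ← hL, ← comap_comp, ← hsq, comap_comp, ideal_comap_top_of_isAffine]

/-- the base change of a first order thickening is a first order thickening. -/
theorem isFirstOrderThickening_of_isPullback {S S' T T' : Scheme.{u}} {a : S ⟶ T} {t' : S ⟶ S'} {t : T ⟶ T'}
    {g : S' ⟶ T'} (sq : IsPullback a t' t g) (ht : MoreMor.IsFirstOrderThickening t) :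
    MoreMor.IsFirstOrderThickening t' := by
  obtain ⟨⟨hci, hsurj⟩, hker⟩ := ht
  haveI := hci
  have hci' : IsClosedImmersion t' := MorphismProperty.of_isPullback sq hci
  have hsurj' : Surjective t' := MorphismProperty.of_isPullback sq hsurj
  refine ⟨⟨hci', hsurj'⟩, ?_⟩
  have h1 : t'.ker = t.ker.comap g := by
    rw [← Scheme.IdealSheafData.ker_fst_of_isClosedImmersion t g, ← sq.flip.isoPullback_hom_fst,
      Scheme.Hom.ker_comp_of_isIso]
  rw [h1]
  exact comap_mul_self_eq_bot g _ hker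

end Groth.Agent.Lib.Helper20.IdealComap
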