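import Mathlib
import Groth.Prelude.Def_BlowUp2
import Groth.Agent.Lib.Helper20IdealComap

/-!
# Effective Cartier ideal sheaves: clean local formula for `IdealSheafData.comap`, shrinking (helper20)

Namespace `Groth.Agent.Lib.Helper20.EffCartier`.
* `ideal_comap_eq_map g I hU hV hUV : (I.comap g).ideal ⟨U, hU⟩ = (I.ideal ⟨V, hV⟩).map (g.appLE V U hUV).hom`
* `exists_le_of_isEffCartierIdeal`
-/

set_option autoImplicit false
universe u
open CategoryTheory AlgebraicGeometry Limits Opposite TopologicalSpace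

namespace Groth.Agent.Lib.Helper20.EffCartier

theorem image_top_fromSpec {X : Scheme.{u}} {U : X.Opens} (hU : IsAffineOpen U) :
    hU.fromSpec ''ᵁ ⊤ = U := by
  rw [Scheme.Hom.image_top_eq_opensRange, hU.opensRange_fromSpec]

theorem fromSpec_appIso_top_inv {X : Scheme.{u}} {U : X.Opens} (hU : IsAffineOpen U) :
    (hU.fromSpec.appIso ⊤).inv = (Scheme.ΓSpecIso Γ(X, U)).hom ≫
      X.presheaf.map (homOfLE (image_top_fromSpec hU).le).op := by
  have e : (⊤ : (Spec Γ(X, U)).Opens) ≤ hU.fromSpec ⁻¹ᵁ U := by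
    rw [hU.fromSpec_preimage_self]
  have h1 := Scheme.Hom.appLE_appIso_inv hU.fromSpec e
  have h2 : hU.fromSpec.appLE U ⊤ e = (Scheme.ΓSpecIso Γ(X, U)).inv := by
    rw [Scheme.Hom.appLE, hU.fromSpec_app_self, Category.assoc, ← Functor.map_comp]
    convert Category.comp_id _
    exact CategoryTheory.Functor.map_id _ _
  rw [h2] at h1
  rw [← h1, Iso.hom_inv_id_assoc]

theorem ideal_comap_res {X : Scheme.{u}} (I : X.IdealSheafData) {U W : X.Opens} (hU : IsAffineOpen U)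
    (hW : IsAffineOpen W) (hWU : W = U) :
    (I.ideal ⟨W, hW⟩).comap (X.presheaf.map (homOfLE hWU.le).op).hom = I.ideal ⟨U, hU⟩ := by
  subst hWU
  have : X.presheaf.map (homOfLE (le_refl W)).op = 𝟙 _ := CategoryTheory.Functor.map_id _ _
  rw [this]
  rfl

theorem ideal_fromSpec {X : Scheme.{u}} (I : X.IdealSheafData) {U : X.Opens} (hU : IsAffineOpen U) :
    (I.ideal ⟨hU.fromSpec ''ᵁ ⊤, (isAffineOpen_top _).image_of_isOpenImmersion hU.fromSpec⟩).comap
        (hU.fromSpec.appIso ⊤).inv.hom =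
      (I.ideal ⟨U, hU⟩).comap (Scheme.ΓSpecIso Γ(X, U)).hom.hom := by
  rw [fromSpec_appIso_top_inv, CommRingCat.hom_comp, ← Ideal.comap_comap,
    ideal_comap_res I hU _ (image_top_fromSpec hU)]

theorem comap_iso_hom_eq_map_inv {R S : CommRingCat.{u}} (e : R ≅ S) (𝔞 : Ideal R) :
    𝔞.comap e.inv.hom = 𝔞.map e.hom.hom := by
  have := Ideal.map_comap_of_equiv (I := 𝔞) e.commRingCatIsoToRingEquiv
  exact this.symm

/-- The clean local formula for the pullback of an ideal sheaf: on affine opens `U ≤ g⁻¹V`,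
`(g⁻¹I)(U) = I(V) · Γ(U)`. -/
theorem ideal_comap_eq_map {S T : Scheme.{u}} (g : S ⟶ T) (I : T.IdealSheafData) {U : S.Opens}
    {V : T.Opens} (hU : IsAffineOpen U) (hV : IsAffineOpen V) (hUV : U ≤ g ⁻¹ᵁ V) :
    (I.comap g).ideal ⟨U, hU⟩ = (I.ideal ⟨V, hV⟩).map (g.appLE V U hUV).hom := by
  have key := IdealComap.ideal_comap_eq g I hU hV hUV
  rw [ideal_fromSpec, ideal_fromSpec] at key
  have hnat : (Spec.map (g.appLE V U hUV)).appTop =
      (Scheme.ΓSpecIso Γ(T, V)).hom ≫ g.appLE V U hUV ≫ (Scheme.ΓSpecIso Γ(S, U)).inv := by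
    rw [Scheme.ΓSpecIso_inv_naturality, Iso.hom_inv_id_assoc]
  have h1 : ((I.ideal ⟨V, hV⟩).comap (Scheme.ΓSpecIso Γ(T, V)).hom.hom).map
      (Spec.map (g.appLE V U hUV)).appTop.hom =
      (((I.ideal ⟨V, hV⟩).map (g.appLE V U hUV).hom)).comap (Scheme.ΓSpecIso Γ(S, U)).hom.hom := by
    rw [hnat, CommRingCat.hom_comp, CommRingCat.hom_comp, ← Ideal.map_map, ← Ideal.map_map]
    rw [Ideal.map_comap_of_surjective (Scheme.ΓSpecIso Γ(T, V)).hom.hom
      (Scheme.ΓSpecIso Γ(T, V)).commRingCatIsoToRingEquiv.surjective]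
    exact (comap_iso_hom_eq_map_inv (Scheme.ΓSpecIso Γ(S, U)).symm _).symm
  rw [h1] at key
  exact Ideal.comap_injective_of_surjective _
    (Scheme.ΓSpecIso Γ(S, U)).commRingCatIsoToRingEquiv.surjective key


open nonZeroDivisors in
/-- the local generator of an effective Cartier ideal can be found on arbitrarily small affine opens. -/
theorem exists_le_of_isEffCartierIdeal {X : Scheme.{u}} {I : X.IdealSheafData}
    (h : BlowUp.IsEffCartierIdeal I) (x : X) (W : X.Opens) (hxW : x ∈ W) :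
    ∃ (U : X.Opens) (hU : IsAffineOpen U), x ∈ U ∧ U ≤ W ∧
      ∃ f : Γ(X, U), f ∈ Γ(X, U)⁰ ∧ I.ideal ⟨U, hU⟩ = Ideal.span {f} := by
  obtain ⟨U', hxU', a, ha, hIa⟩ := h x
  obtain ⟨r, hrW, hxr⟩ := U'.2.exists_basicOpen_le ⟨x, hxW⟩ hxU'
  refine ⟨X.basicOpen r, U'.2.basicOpen r, hxr, hrW,
    (X.presheaf.map (homOfLE (X.basicOpen_le r)).op).hom a, ?_, ?_⟩
  · have inst := U'.2.isLocalization_basicOpen r
    have h1 : (X.presheaf.map (homOfLE (X.basicOpen_le r)).op).hom = algebraMap _ _ := rfl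
    rw [h1]
    exact IsLocalization.map_nonZeroDivisors_le (.powers r) _ (Submonoid.mem_map_of_mem _ ha)
  · have h2 := I.map_ideal_basicOpen U' r
    rw [hIa, Ideal.map_span, Set.image_singleton] at h2
    exact h2.symm

end Groth.Agent.Lib.Helper20.EffCartier
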