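import Mathlib
import Groth.Prelude.Def_BlowUp2
import Groth.Agent.Lib.Helper20EffCartier

/-!
# Relative effective Cartier divisors: flatness of `V(I) → S` affine-locally (helper20)

Namespace `Groth.Agent.Lib.Helper20.RelCartier`.
* `flat_of_exact`, `flat_of_exact_left` : extensions / kernels of flat modules
* `mulQ`, `facQ`, exact sequence `0 → B/(y) → B/(xy) → B/(x) → 0`
* `flat_quotient_of_flat`, `flat_of_local` : `Flat (I.subschemeι ≫ f)` vs flatness of `Γ(X,U)/I(U)` over `Γ(S,W)`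
* `restrict_span`, `exists_common`
-/

set_option autoImplicit false
set_option linter.style.haveILetI false
universe u v
open CategoryTheory AlgebraicGeometry TensorProduct nonZeroDivisors

namespace Groth.Agent.Lib.Helper20.RelCartier

section modules

variable {R : Type u} [CommRing R] {M' M M'' : Type v} [AddCommGroup M'] [AddCommGroup M]
  [AddCommGroup M''] [Module R M'] [Module R M] [Module R M'']

/-- extension of flat modules is flat -/
theorem flat_of_exact (i : M' →ₗ[R] M) (p : M →ₗ[R] M'') (hi : Function.Injective i)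
    (hp : Function.Surjective p) (hex : Function.Exact i p) [Module.Flat R M'] [Module.Flat R M''] :
    Module.Flat R M := by
  rw [Module.Flat.iff_rTensor_injective']
  intro I
  rw [injective_iff_map_eq_zero]
  intro x hx
  have h1 : (LinearMap.lTensor I p) x = 0 := by
    apply (Module.Flat.iff_rTensor_injective'.1 (inferInstance : Module.Flat R M'') I)
    rw [map_zero, ← LinearMap.comp_apply, LinearMap.rTensor_comp_lTensor, ← LinearMap.lTensor_comp_rTensor,
      LinearMap.comp_apply, hx, map_zero]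
  obtain ⟨x', rfl⟩ := (lTensor_exact I hex hp x).1 h1
  have h2 : (LinearMap.rTensor M' I.subtype) x' = 0 := by
    apply Module.Flat.lTensor_preserves_injective_linearMap (M := R) i hi
    rw [map_zero, ← LinearMap.comp_apply, LinearMap.lTensor_comp_rTensor, ← LinearMap.rTensor_comp_lTensor,
      LinearMap.comp_apply, hx]
  have h3 : x' = 0 := by
    apply (Module.Flat.iff_rTensor_injective'.1 (inferInstance : Module.Flat R M') I)
    rw [h2, map_zero]
  rw [h3, map_zero]

/-- kernel of a surjection of flat modules is flat -/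
theorem flat_of_exact_left (i : M' →ₗ[R] M) (p : M →ₗ[R] M'') (hi : Function.Injective i)
    (hp : Function.Surjective p) (hex : Function.Exact i p) [Module.Flat R M] [Module.Flat R M''] :
    Module.Flat R M' := by
  rw [Module.Flat.iff_rTensor_injective']
  intro I
  have h1 : Function.Injective (LinearMap.lTensor I i) :=
    LinearMap.lTensor_injective_of_exact_of_flat p hp i hi hex I
  have h2 := (Module.Flat.iff_rTensor_injective'.1 (inferInstance : Module.Flat R M) I)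
  have h3 : Function.Injective ((LinearMap.rTensor M I.subtype).comp (LinearMap.lTensor I i)) :=
    h2.comp h1
  rw [LinearMap.rTensor_comp_lTensor, ← LinearMap.lTensor_comp_rTensor] at h3
  exact Function.Injective.of_comp h3


end modules

section quotients

variable {A B : Type u} [CommRing A] [CommRing B] [Algebra A B]

/-- multiplication by `x` as a map `B/(y) → B/(xy)` -/
noncomputable def mulQ (x y : B) : (B ⧸ Ideal.span {y}) →ₗ[A] (B ⧸ Ideal.span {x * y}) :=
  (Submodule.mapQ (Ideal.span {y}) (Ideal.span {x * y}) (LinearMap.mulLeft B x) (by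
    intro z hz
    rw [Ideal.mem_span_singleton'] at hz
    obtain ⟨c, rfl⟩ := hz
    change x * (c * y) ∈ Ideal.span {x * y}
    rw [Ideal.mem_span_singleton']
    exact ⟨c, by ring⟩)).restrictScalars A

/-- the projection `B/(xy) → B/(x)` -/
noncomputable def facQ (x y : B) : (B ⧸ Ideal.span {x * y}) →ₗ[A] (B ⧸ Ideal.span {x}) :=
  (Submodule.mapQ (Ideal.span {x * y}) (Ideal.span {x}) LinearMap.id (by
    intro z hz
    rw [Ideal.mem_span_singleton'] at hz
    obtain ⟨c, rfl⟩ := hz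
    change c * (x * y) ∈ Ideal.span {x}
    rw [Ideal.mem_span_singleton']
    exact ⟨c * y, by ring⟩)).restrictScalars A

theorem mulQ_mk (x y z : B) : mulQ (A := A) x y (Ideal.Quotient.mk _ z) = Ideal.Quotient.mk _ (x * z) := rfl

theorem facQ_mk (x y z : B) : facQ (A := A) x y (Ideal.Quotient.mk _ z) = Ideal.Quotient.mk _ z := rfl

theorem mulQ_injective (x y : B) (hx : x ∈ B⁰) : Function.Injective (mulQ (A := A) x y) := by
  rw [injective_iff_map_eq_zero]
  intro z hz
  obtain ⟨z, rfl⟩ := Ideal.Quotient.mk_surjective z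
  rw [mulQ_mk, Ideal.Quotient.eq_zero_iff_mem, Ideal.mem_span_singleton'] at hz
  obtain ⟨c, hc⟩ := hz
  rw [Ideal.Quotient.eq_zero_iff_mem, Ideal.mem_span_singleton']
  refine ⟨c, ?_⟩
  have : x * (c * y - z) = 0 := by rw [mul_sub, ← hc]; ring
  have h2 := (mem_nonZeroDivisors_iff.1 hx).1 _ this
  exact sub_eq_zero.1 h2

theorem facQ_surjective (x y : B) : Function.Surjective (facQ (A := A) x y) := by
  intro z
  obtain ⟨z, rfl⟩ := Ideal.Quotient.mk_surjective z
  exact ⟨Ideal.Quotient.mk _ z, rfl⟩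

theorem exact_mulQ_facQ (x y : B) : Function.Exact (mulQ (A := A) x y) (facQ (A := A) x y) := by
  intro z
  obtain ⟨z, rfl⟩ := Ideal.Quotient.mk_surjective z
  rw [facQ_mk, Ideal.Quotient.eq_zero_iff_mem, Ideal.mem_span_singleton']
  constructor
  · rintro ⟨c, rfl⟩
    exact ⟨Ideal.Quotient.mk _ c, by rw [mulQ_mk, mul_comm x c]⟩
  · rintro ⟨w, hw⟩
    obtain ⟨w, rfl⟩ := Ideal.Quotient.mk_surjective w
    rw [mulQ_mk, Ideal.Quotient.eq, Ideal.mem_span_singleton'] at hw
    obtain ⟨c, hc⟩ := hw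
    refine ⟨w - c * y, ?_⟩
    have : z = x * w - c * (x * y) := by rw [hc]; ring
    rw [this]; ring


end quotients

theorem flat_comp_iff {A B C : Type u} [CommRing A] [CommRing B] [CommRing C] [Algebra A B]
    (π : B →+* C) (hπ : Function.Surjective π) (𝔞 : Ideal B) (hker : RingHom.ker π = 𝔞) :
    (π.comp (algebraMap A B)).Flat ↔ Module.Flat A (B ⧸ 𝔞) := by
  subst hker
  letI : Algebra A C := (π.comp (algebraMap A B)).toAlgebra
  let e0 : (B ⧸ RingHom.ker π) ≃+* C := RingHom.quotientKerEquivOfSurjective hπ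
  let e : (B ⧸ RingHom.ker π) ≃ₗ[A] C :=
    { e0 with
      map_smul' := fun r z => by
        obtain ⟨z, rfl⟩ := Ideal.Quotient.mk_surjective z
        change e0 (r • Ideal.Quotient.mk _ z) = (π.comp (algebraMap A B)) r * e0 (Ideal.Quotient.mk _ z)
        have h1 : r • Ideal.Quotient.mk (RingHom.ker π) z =
            Ideal.Quotient.mk (RingHom.ker π) (algebraMap A B r * z) := by
          rw [← Algebra.smul_def]; rfl
        rw [h1]
        change π (algebraMap A B r * z) = π (algebraMap A B r) * π z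
        rw [map_mul] }
  change Module.Flat A C ↔ _
  exact (Module.Flat.equiv_iff e).symm

/-- the ring map `Γ(S,W) → Γ(X,U) → Γ(V(I), ι⁻¹U)` is flat iff `Γ(X,U)/I(U)` is flat over `Γ(S,W)`. -/
theorem flat_appLE_subscheme_iff {X S : Scheme.{u}} (f : X ⟶ S) (I : X.IdealSheafData) {W : S.Opens}
    {U : X.Opens} (hU : IsAffineOpen U) (hUW : U ≤ f ⁻¹ᵁ W)
    (hTW : I.subschemeι ⁻¹ᵁ U ≤ (I.subschemeι ≫ f) ⁻¹ᵁ W) :
    ((I.subschemeι ≫ f).appLE W (I.subschemeι ⁻¹ᵁ U) hTW).hom.Flat ↔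
      (letI := (f.appLE W U hUW).hom.toAlgebra; Module.Flat Γ(S, W) (Γ(X, U) ⧸ I.ideal ⟨U, hU⟩)) := by
  have hfac : (I.subschemeι ≫ f).appLE W (I.subschemeι ⁻¹ᵁ U) hTW =
      f.appLE W U hUW ≫ I.subschemeι.app U := by
    rw [← Scheme.Hom.appLE_eq_app, Scheme.Hom.appLE_comp_appLE]
  rw [hfac]
  letI := (f.appLE W U hUW).hom.toAlgebra
  exact flat_comp_iff (A := Γ(S, W)) (I.subschemeι.app U).hom (I.subschemeι_app_surjective ⟨U, hU⟩) _
    (I.ker_subschemeι_app ⟨U, hU⟩)

theorem flat_quotient_of_flat {X S : Scheme.{u}} (f : X ⟶ S) (I : X.IdealSheafData)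
    [Flat (I.subschemeι ≫ f)] {W : S.Opens} (hW : IsAffineOpen W)
    {U : X.Opens} (hU : IsAffineOpen U) (hUW : U ≤ f ⁻¹ᵁ W) :
    (letI := (f.appLE W U hUW).hom.toAlgebra; Module.Flat Γ(S, W) (Γ(X, U) ⧸ I.ideal ⟨U, hU⟩)) := by
  have hT : IsAffineOpen (I.subschemeι ⁻¹ᵁ U) := hU.preimage I.subschemeι
  have hTW : I.subschemeι ⁻¹ᵁ U ≤ (I.subschemeι ≫ f) ⁻¹ᵁ W := fun t ht => hUW ht
  exact (flat_appLE_subscheme_iff f I hU hUW hTW).1 ((I.subschemeι ≫ f).flat_appLE hW hT hTW)

theorem flat_of_local {X S : Scheme.{u}} (f : X ⟶ S) (I : X.IdealSheafData)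
    (h : ∀ x : X, ∃ (W : S.Opens) (_ : IsAffineOpen W) (U : X.Opens) (hU : IsAffineOpen U)
      (_ : x ∈ U) (hUW : U ≤ f ⁻¹ᵁ W),
      (letI := (f.appLE W U hUW).hom.toAlgebra; Module.Flat Γ(S, W) (Γ(X, U) ⧸ I.ideal ⟨U, hU⟩))) :
    Flat (I.subschemeι ≫ f) := by
  have hQ : RingHom.StableUnderCompositionWithLocalizationAwaySource RingHom.Flat :=
    fun R S T _ _ _ _ r _ g hg => RingHom.Flat.comp (RingHom.Flat.holdsForLocalizationAway S r) hg
  rw [HasRingHomProperty.iff_exists_appLE (P := @Flat) hQ]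
  intro x'
  obtain ⟨W, hW, U, hU, hxU, hUW, hfl⟩ := h (I.subschemeι x')
  have hT : IsAffineOpen (I.subschemeι ⁻¹ᵁ U) := hU.preimage I.subschemeι
  have hTW : I.subschemeι ⁻¹ᵁ U ≤ (I.subschemeι ≫ f) ⁻¹ᵁ W := fun t ht => hUW ht
  exact ⟨⟨W, hW⟩, ⟨_, hT⟩, hxU, hTW, (flat_appLE_subscheme_iff f I hU hUW hTW).2 hfl⟩


open nonZeroDivisors in
theorem mem_nonZeroDivisors_map_flat' {R S : Type*} [CommRing R] [CommRing S] (ψ : R →+* S) (hψ : ψ.Flat)
    {x : R} (hx : x ∈ R⁰) : ψ x ∈ S⁰ := by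
  letI := ψ.toAlgebra
  haveI : Module.Flat R S := hψ
  have h1 : IsSMulRegular R x := (isRegular_iff_mem_nonZeroDivisors.2 hx).left.isSMulRegular
  have h2 : IsSMulRegular S (algebraMap R S x) := h1.of_flat
  rw [mem_nonZeroDivisors_iff_right]
  intro y hy
  apply h2
  change ψ x * y = ψ x * 0
  rw [mul_zero, mul_comm, hy]

/-- restriction of a principal ideal (generated by a nonzerodivisor) to a smaller affine open. -/
theorem restrict_span {X : Scheme.{u}} (I : X.IdealSheafData) {U U' : X.Opens} (hU : IsAffineOpen U)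
    (hU' : IsAffineOpen U') (hUU' : U ≤ U') (a : Γ(X, U')) (ha : a ∈ Γ(X, U')⁰)
    (hI : I.ideal ⟨U', hU'⟩ = Ideal.span {a}) :
    (X.presheaf.map (homOfLE hUU').op).hom a ∈ Γ(X, U)⁰ ∧
      I.ideal ⟨U, hU⟩ = Ideal.span {(X.presheaf.map (homOfLE hUU').op).hom a} := by
  have hle : U ≤ (𝟙 X) ⁻¹ᵁ U' := hUU'
  have hres : (𝟙 X : X ⟶ X).appLE U' U hle = X.presheaf.map (homOfLE hUU').op := by
    simp only [Scheme.Hom.appLE, Scheme.Hom.id_app, Category.id_comp]
    rfl
  constructor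
  · have hfl := (𝟙 X : X ⟶ X).flat_appLE hU' hU hle
    rw [hres] at hfl
    exact mem_nonZeroDivisors_map_flat' _ hfl ha
  · have key := EffCartier.ideal_comap_eq_map (𝟙 X) I hU hU' hle
    rw [Scheme.IdealSheafData.comap_id, hI, Ideal.map_span, Set.image_singleton, hres] at key
    exact key

/-- two effective Cartier ideals are simultaneously principal on small affine opens. -/
theorem exists_common {X : Scheme.{u}} {I₁ I₂ : X.IdealSheafData} (h₁ : BlowUp.IsEffCartierIdeal I₁)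
    (h₂ : BlowUp.IsEffCartierIdeal I₂) (x : X) (W : X.Opens) (hxW : x ∈ W) :
    ∃ (U : X.Opens) (hU : IsAffineOpen U), x ∈ U ∧ U ≤ W ∧
      ∃ a₁ a₂ : Γ(X, U), a₁ ∈ Γ(X, U)⁰ ∧ a₂ ∈ Γ(X, U)⁰ ∧ I₁.ideal ⟨U, hU⟩ = Ideal.span {a₁} ∧
        I₂.ideal ⟨U, hU⟩ = Ideal.span {a₂} := by
  obtain ⟨U₁, hU₁, hxU₁, hU₁W, a₁, ha₁, hI₁⟩ := EffCartier.exists_le_of_isEffCartierIdeal h₁ x W hxW
  obtain ⟨U, hU, hxU, hUU₁, a₂, ha₂, hI₂⟩ := EffCartier.exists_le_of_isEffCartierIdeal h₂ x U₁ hxU₁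
  obtain ⟨h3, h4⟩ := restrict_span I₁ hU hU₁ hUU₁ a₁ ha₁ hI₁
  exact ⟨U, hU, hxU, hUU₁.trans hU₁W, _, a₂, h3, ha₂, h4, hI₂⟩


end Groth.Agent.Lib.Helper20.RelCartier
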