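import Mathlib
import Groth.Prelude.Def_BlowUp2
import Groth.Agent.Lib.Helper20RelCartier

set_option autoImplicit false
set_option linter.style.haveILetI false
universe u
open CategoryTheory AlgebraicGeometry nonZeroDivisors

namespace Groth.Agent.Lib.Helper20.BlowUpBasic

open Scheme.IdealSheafData

theorem isEffCartierIdeal_top {X : Scheme.{u}} : BlowUp.IsEffCartierIdeal (⊤ : X.IdealSheafData) := by
  intro x
  obtain ⟨U, hU, hxU, -⟩ := exists_isAffineOpen_mem_and_subset (x := x) (U := (⊤ : X.Opens)) trivial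
  refine ⟨⟨U, hU⟩, hxU, 1, one_mem _, ?_⟩
  rw [Ideal.span_singleton_one]
  rfl

/-- the open complement of the support of an ideal sheaf. -/
def compl {X : Scheme.{u}} (𝓘 : X.IdealSheafData) : X.Opens :=
  ⟨(𝓘.support : Set X)ᶜ, 𝓘.support.isClosed.isOpen_compl⟩

theorem comap_ι_compl {X : Scheme.{u}} (𝓘 : X.IdealSheafData) : 𝓘.comap (compl 𝓘).ι = ⊤ := by
  rw [← support_eq_bot_iff]
  ext x
  simp only [support_comap, TopologicalSpace.Closeds.coe_preimage, Set.mem_preimage, SetLike.mem_coe,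
    TopologicalSpace.Closeds.coe_bot, Set.mem_empty_iff_false, iff_false]
  exact x.2

theorem comap_eq_top_of_le {X Y : Scheme.{u}} (𝓘 : X.IdealSheafData) (g : Y ⟶ X)
    (hg : ∀ y, g y ∈ compl 𝓘) : 𝓘.comap g = ⊤ := by
  rw [← support_eq_bot_iff]
  ext y
  simp only [support_comap, TopologicalSpace.Closeds.coe_preimage, Set.mem_preimage, SetLike.mem_coe,
    TopologicalSpace.Closeds.coe_bot, Set.mem_empty_iff_false, iff_false]
  exact hg y

/-- a blowing up is an isomorphism over the complement of the centre. -/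
theorem isIso_morphismRestrict {X X' : Scheme.{u}} (𝓘 : X.IdealSheafData) (b : X' ⟶ X)
    (hb : BlowUp.IsBlowUp b 𝓘) : IsIso (b ∣_ compl 𝓘) := by
  set W := compl 𝓘 with hW
  obtain ⟨s, hs, -⟩ := hb.2 W W.ι (by rw [comap_ι_compl]; exact isEffCartierIdeal_top)
  have hrange : Set.range s ⊆ Set.range (b ⁻¹ᵁ W).ι := by
    rintro _ ⟨w, rfl⟩
    rw [Scheme.Opens.range_ι]
    change b (s w) ∈ W
    rw [← Scheme.Hom.comp_apply, hs]
    exact w.2
  let sW : W.toScheme ⟶ (b ⁻¹ᵁ W).toScheme := IsOpenImmersion.lift (b ⁻¹ᵁ W).ι s hrange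
  have hsW : sW ≫ (b ⁻¹ᵁ W).ι = s := IsOpenImmersion.lift_fac _ _ _
  have h1 : sW ≫ (b ∣_ W) = 𝟙 _ := by
    rw [← cancel_mono W.ι, Category.assoc, morphismRestrict_ι, ← Category.assoc, hsW, hs,
      Category.id_comp]
  have h2 : (b ∣_ W) ≫ sW = 𝟙 _ := by
    rw [← cancel_mono (b ⁻¹ᵁ W).ι, Category.assoc, hsW, Category.id_comp]
    have hE : BlowUp.IsEffCartierIdeal (𝓘.comap ((b ∣_ W) ≫ W.ι)) := by
      rw [comap_comp, comap_ι_compl, comap_top]
      exact isEffCartierIdeal_top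
    obtain ⟨k, -, hk⟩ := hb.2 _ ((b ∣_ W) ≫ W.ι) hE
    rw [hk ((b ∣_ W) ≫ s) (by change ((b ∣_ W) ≫ s) ≫ b = _; rw [Category.assoc, hs]),
      hk (b ⁻¹ᵁ W).ι (by change (b ⁻¹ᵁ W).ι ≫ b = _; rw [morphismRestrict_ι])]
  exact ⟨sW, h2, h1⟩


/-- over the complement of the centre, a blowing up is flat (affine-locally). -/
theorem flat_appLE_of_le_compl {X X' : Scheme.{u}} (𝓘 : X.IdealSheafData) (b : X' ⟶ X)
    (hb : BlowUp.IsBlowUp b 𝓘) {V : X.Opens} (hV : IsAffineOpen V) {U' : X'.Opens}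
    (hU' : IsAffineOpen U') (hU'V : U' ≤ b ⁻¹ᵁ V) (hdisj : U' ≤ b ⁻¹ᵁ compl 𝓘) :
    (b.appLE V U' hU'V).hom.Flat := by
  haveI := isIso_morphismRestrict 𝓘 b hb
  have hfac : U'.ι ≫ b = X'.homOfLE hdisj ≫ (b ∣_ compl 𝓘) ≫ (compl 𝓘).ι := by
    rw [morphismRestrict_ι, ← Category.assoc, Scheme.homOfLE_ι]
  haveI : IsOpenImmersion (U'.ι ≫ b) := by
    rw [hfac]; infer_instance
  haveI : IsAffine U'.toScheme := hU'
  have hle : (⊤ : U'.toScheme.Opens) ≤ (U'.ι ≫ b) ⁻¹ᵁ V := fun x _ => hU'V x.2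
  have hfl := (U'.ι ≫ b).flat_appLE hV (isAffineOpen_top U'.toScheme) hle
  have hle2 : (⊤ : U'.toScheme.Opens) ≤ U'.ι ⁻¹ᵁ U' := fun x _ => x.2
  rw [← Scheme.Hom.appLE_comp_appLE _ _ V U' ⊤ hU'V hle2] at hfl
  have hbij : Function.Bijective (U'.ι.appLE U' ⊤ hle2).hom := by
    rw [Scheme.Opens.ι_appLE]
    have : IsIso (X'.presheaf.map (homOfLE (x := U'.ι ''ᵁ ⊤) (Set.image_subset_iff.mpr hle2)).op) := by
      have hEq : U'.ι ''ᵁ ⊤ = U' := by
        rw [Scheme.Hom.image_top_eq_opensRange, Scheme.Opens.opensRange_ι]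
      have h3 : IsIso (homOfLE (x := U'.ι ''ᵁ ⊤) (y := U') (Set.image_subset_iff.mpr hle2)) :=
        ⟨homOfLE hEq.ge, Subsingleton.elim _ _, Subsingleton.elim _ _⟩
      have h4 : IsIso (homOfLE (x := U'.ι ''ᵁ ⊤) (y := U') (Set.image_subset_iff.mpr hle2)).op :=
        inferInstance
      exact Functor.map_isIso _ _
    exact ConcreteCategory.bijective_of_isIso
      (X'.presheaf.map (homOfLE (x := U'.ι ''ᵁ ⊤) (Set.image_subset_iff.mpr hle2)).op)
  exact (RingHom.Flat.comp_iff_of_bijective_left hbij).1 hfl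


/-- the basic open of a local equation of `b⁻¹(centre)` lies over the complement of the centre. -/
theorem basicOpen_le_preimage_compl {X X' : Scheme.{u}} (𝓘 : X.IdealSheafData) (b : X' ⟶ X)
    {U' : X'.Opens} (hU' : IsAffineOpen U') (t : Γ(X', U'))
    (hE : (𝓘.comap b).ideal ⟨U', hU'⟩ = Ideal.span {t}) :
    X'.basicOpen t ≤ b ⁻¹ᵁ compl 𝓘 := by
  intro x' hx' hmem
  have h1 : x' ∈ (𝓘.comap b).support := by
    rw [support_comap]; exact hmem
  rw [mem_support_iff_of_mem (U := ⟨U', hU'⟩) (X'.basicOpen_le t hx'), Scheme.mem_zeroLocus_iff] at h1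
  exact h1 t (by rw [hE]; exact Ideal.mem_span_singleton_self t) hx'

/-- **Core lemma**: pulling a nonzerodivisor back along a blowing up gives a nonzerodivisor (on an
affine open where the exceptional ideal is principal generated by a nonzerodivisor). -/
theorem mem_nonZeroDivisors_appLE {X X' : Scheme.{u}} (𝓘 : X.IdealSheafData) (b : X' ⟶ X)
    (hb : BlowUp.IsBlowUp b 𝓘) {V : X.Opens} (hV : IsAffineOpen V) (a : Γ(X, V)) (ha : a ∈ Γ(X, V)⁰)
    {U' : X'.Opens} (hU' : IsAffineOpen U') (hU'V : U' ≤ b ⁻¹ᵁ V) (t : Γ(X', U'))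
    (ht : t ∈ Γ(X', U')⁰) (hE : (𝓘.comap b).ideal ⟨U', hU'⟩ = Ideal.span {t}) :
    (b.appLE V U' hU'V).hom a ∈ Γ(X', U')⁰ := by
  have hD : IsAffineOpen (X'.basicOpen t) := hU'.basicOpen t
  have hDU' : X'.basicOpen t ≤ U' := X'.basicOpen_le t
  have hfl := flat_appLE_of_le_compl 𝓘 b hb hV hD (hDU'.trans hU'V)
    (basicOpen_le_preimage_compl 𝓘 b hU' t hE)
  have hβD := RelCartier.mem_nonZeroDivisors_map_flat' _ hfl ha
  have hres : b.appLE V (X'.basicOpen t) (hDU'.trans hU'V) =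
      b.appLE V U' hU'V ≫ X'.presheaf.map (homOfLE hDU').op := by
    rw [Scheme.Hom.appLE_map]
  rw [hres] at hβD
  have inst := hU'.isLocalization_basicOpen t
  have hinj : Function.Injective (X'.presheaf.map (homOfLE hDU').op).hom :=
    IsLocalization.injective (M := Submonoid.powers t) Γ(X', X'.basicOpen t)
      (Submonoid.powers_le.2 ht)
  rw [mem_nonZeroDivisors_iff_right]
  intro y hy
  apply hinj
  rw [map_zero]
  apply (mem_nonZeroDivisors_iff_right.1 hβD)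
  change (X'.presheaf.map (homOfLE hDU').op).hom y *
    (X'.presheaf.map (homOfLE hDU').op).hom ((b.appLE V U' hU'V).hom a) = 0
  rw [← map_mul, hy, map_zero]


/-- **pullback of an effective Cartier divisor along a blowing up is defined.** -/
theorem isEffCartierIdeal_comap {X X' : Scheme.{u}} (𝓘 : X.IdealSheafData) (b : X' ⟶ X)
    (hb : BlowUp.IsBlowUp b 𝓘) (𝓓 : X.IdealSheafData) (hD : BlowUp.IsEffCartierIdeal 𝓓) :
    BlowUp.IsEffCartierIdeal (𝓓.comap b) := by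
  intro x'
  obtain ⟨V, hxV, a, ha, hVa⟩ := hD (b x')
  obtain ⟨U', hU', hx'U', hU'V, t, ht, hE⟩ :=
    EffCartier.exists_le_of_isEffCartierIdeal hb.1 x' (b ⁻¹ᵁ V.1) hxV
  have key := EffCartier.ideal_comap_eq_map b 𝓓 hU' V.2 hU'V
  have hVa' : 𝓓.ideal ⟨V.1, V.2⟩ = Ideal.span {a} := hVa
  rw [hVa', Ideal.map_span, Set.image_singleton] at key
  exact ⟨⟨U', hU'⟩, hx'U', _, mem_nonZeroDivisors_appLE 𝓘 b hb V.2 a ha hU' hU'V t ht hE, key⟩

/-- pullback of ideal sheaves commutes with products. -/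
theorem comap_mul {S T : Scheme.{u}} (g : S ⟶ T) (I J : T.IdealSheafData) :
    (I * J).comap g = I.comap g * J.comap g := by
  let ι : Type u := {p : S.Opens × T.Opens // IsAffineOpen p.1 ∧ IsAffineOpen p.2 ∧ p.1 ≤ g ⁻¹ᵁ p.2}
  let W : ι → S.affineOpens := fun p => ⟨p.1.1, p.2.1⟩
  refine ext_of_iSup_eq_top W ?_ ?_
  · rw [eq_top_iff]
    intro x _
    obtain ⟨V, hV, hxV, -⟩ := exists_isAffineOpen_mem_and_subset (x := g x) (U := (⊤ : T.Opens)) trivial
    obtain ⟨U, hU, hxU, hUV⟩ := exists_isAffineOpen_mem_and_subset (x := x) (U := g ⁻¹ᵁ V) hxV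
    exact TopologicalSpace.Opens.mem_iSup.2 ⟨⟨(U, V), hU, hV, hUV⟩, hxU⟩
  · rintro ⟨⟨U, V⟩, hU, hV, hUV⟩
    change ((I * J).comap g).ideal ⟨U, hU⟩ = (I.comap g).ideal ⟨U, hU⟩ * (J.comap g).ideal ⟨U, hU⟩
    rw [EffCartier.ideal_comap_eq_map g _ hU hV hUV, EffCartier.ideal_comap_eq_map g _ hU hV hUV,
      EffCartier.ideal_comap_eq_map g _ hU hV hUV, ← Ideal.map_mul]
    rfl

/-- the product of two effective Cartier ideals is effective Cartier. -/
theorem isEffCartierIdeal_mul {X : Scheme.{u}} {I₁ I₂ : X.IdealSheafData}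
    (h₁ : BlowUp.IsEffCartierIdeal I₁) (h₂ : BlowUp.IsEffCartierIdeal I₂) :
    BlowUp.IsEffCartierIdeal (I₁ * I₂) := by
  intro x
  obtain ⟨U, hU, hxU, -, a₁, a₂, ha₁, ha₂, hI₁, hI₂⟩ := RelCartier.exists_common h₁ h₂ x ⊤ trivial
  refine ⟨⟨U, hU⟩, hxU, a₁ * a₂, mul_mem ha₁ ha₂, ?_⟩
  rw [ideal_mul]
  change I₁.ideal ⟨U, hU⟩ * I₂.ideal ⟨U, hU⟩ = _
  rw [hI₁, hI₂, Ideal.span_singleton_mul_span_singleton]

end Groth.Agent.Lib.Helper20.BlowUpBasic
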