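import Groth.Agent.S8904
import Groth.Agent.S2510
import Groth.Agent.Lib.Helper20InvGen

/-!
# Existence of regular meromorphic sections (helper20)

Under the hypotheses of S8904 — (a) weakly associated points of `O_X` have no proper generization, (b) quasi-compact
opens have finitely many irreducible components — every invertible module has a regular meromorphic section.
-/
set_option autoImplicit false
universe u
open CategoryTheory CategoryTheory.Limits AlgebraicGeometry TopologicalSpace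

namespace Groth.Agent.Lib.Helper20.RegMero

set_option linter.style.haveILetI false
open Groth.Agent.Lib.Helper20.Kmod Groth.Agent.Lib.Helper2.QCoh Groth.Agent.Lib.Helper20.InvGen

variable {X : Scheme.{u}}

/-- `η` has no proper generization. -/
def IsMaxPt (η : X) : Prop := ∀ y : X, y ⤳ η → y = η

/-- hypothesis (a): weakly associated points of the structure sheaf are maximal points. -/
def HypA (X : Scheme.{u}) : Prop :=
  ∀ x : X, Curv2.IsWeakAssPoint (Coh.structureModule X) x → IsMaxPt x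

/-- hypothesis (b): quasi-compact opens have finitely many irreducible components. -/
def HypB (X : Scheme.{u}) : Prop :=
  ∀ U : X.Opens, IsCompact (U : Set X) → (irreducibleComponents ↥(U : Scheme.{u})).Finite

/-- a nonzero section over an affine open has nonzero germ at some weakly associated point. -/
theorem exists_isWeakAssPoint_germ_ne_zero {U : X.Opens} (hU : IsAffineOpen U) (y : Γ(X, U))
    (hy0 : y ≠ 0) :
    ∃ (ξ : X) (hξ : ξ ∈ U), Curv2.IsWeakAssPoint (Coh.structureModule X) ξ ∧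
      X.presheaf.germ U ξ hξ y ≠ 0 := by
  obtain ⟨ξ, hξ, hrad⟩ := Groth.Agent.S2510.exists_weakAss_germ hU y hy0
  refine ⟨ξ, hξ, ⟨_, hrad⟩, ?_⟩
  intro h0
  let F := Coh.structureModule X
  let y' : Γ(F, U) := y
  have h1 : F.presheaf.germ U ξ hξ y' = 0 := by
    obtain ⟨W, hξW, iU, iV, h⟩ := TopCat.Presheaf.germ_eq X.presheaf ξ hξ hξ y 0
      (by rw [h0, map_zero])
    rw [← TopCat.Presheaf.germ_res_apply F.presheaf iU ξ hξW y']
    have h2 : F.presheaf.map iU.op y' = 0 := by
      have : X.presheaf.map iU.op y = 0 := by rw [h, map_zero]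
      exact this
    rw [h2, map_zero]
  have h3 : LinearMap.ker (LinearMap.toSpanSingleton (X.presheaf.stalk ξ) (F.presheaf.stalk ξ)
      (F.presheaf.germ U ξ hξ y')) = ⊤ := by
    rw [h1]
    ext a
    simp
  have h4 := hrad
  change Ideal.radical (LinearMap.ker (LinearMap.toSpanSingleton (X.presheaf.stalk ξ)
    (F.presheaf.stalk ξ) (F.presheaf.germ U ξ hξ y'))) = _ at h4
  rw [h3, Ideal.radical_top] at h4
  exact (IsLocalRing.maximalIdeal.isMaximal (X.presheaf.stalk ξ)).ne_top h4.symm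

/-- Step 3: a section over an affine open vanishing at all maximal points vanishes. -/
theorem eq_zero_of_germ_eq_zero (ha : HypA X) {U : X.Opens} (hU : IsAffineOpen U) (c : Γ(X, U))
    (hc : ∀ (η : X) (hη : η ∈ U), IsMaxPt η → X.presheaf.germ U η hη c = 0) : c = 0 := by
  by_contra hc0
  obtain ⟨ξ, hξ, hw, hne⟩ := exists_isWeakAssPoint_germ_ne_zero hU c hc0
  exact hne (hc ξ hξ (ha ξ hw))

/-- Step 2: a section which is a unit at all maximal points is regular. -/
theorem mem_regSub_of_isUnit_germ (ha : HypA X) {U : X.Opens} (hU : IsAffineOpen U) (s : Γ(X, U))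
    (hs : ∀ (η : X) (hη : η ∈ U), IsMaxPt η → IsUnit (X.presheaf.germ U η hη s)) :
    s ∈ Mero.regSub X U := by
  have hnzd : s ∈ nonZeroDivisors Γ(X, U) := by
    rw [mem_nonZeroDivisors_iff_right]
    intro y hy
    apply eq_zero_of_germ_eq_zero ha hU
    intro η hη hmax
    have h1 : X.presheaf.germ U η hη y * X.presheaf.germ U η hη s = 0 := by
      rw [← map_mul, hy, map_zero]
    exact ((hs η hη hmax).mul_left_eq_zero).1 h1
  intro x
  exact Groth.Agent.S8898.germ_mem_nonZeroDivisors hU s hnzd x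

/-- Step 4': a function which is a unit at `y` and vanishes at the maximal points not specializing to `y`. -/
theorem exists_sep (hb : HypB X) {V : X.Opens} (hV : IsAffineOpen V) (y : X) (hy : y ∈ V) :
    ∃ f : Γ(X, V), IsUnit (X.presheaf.germ V y hy f) ∧
      ∀ (η : X) (hη : η ∈ V), IsMaxPt η → ¬ η ⤳ y → X.presheaf.germ V η hη f = 0 := by
  classical
  have hfin := Groth.Agent.S8904.finite_isMax V (hb V hV.isCompact)
  have key : ∀ t : V, ∃ g : Γ(X, V), IsUnit (X.presheaf.germ V y hy g) ∧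
      (IsMaxPt t.1 → ¬ t.1 ⤳ y → X.presheaf.germ V t.1 t.2 g = 0) := by
    intro t
    by_cases ht : IsMaxPt t.1
    swap
    · exact ⟨1, by rw [map_one]; exact isUnit_one, fun h => absurd h ht⟩
    by_cases h : t.1 ⤳ y
    · exact ⟨1, by rw [map_one]; exact isUnit_one, fun _ h' => absurd h h'⟩
    have hnle : ¬ ((hV.primeIdealOf t).asIdeal ≤ (hV.primeIdealOf ⟨y, hy⟩).asIdeal) := by
      intro hle
      apply h
      have := fromSpec_specializes hV (hV.primeIdealOf t) y hy hle
      rwa [hV.fromSpec_primeIdealOf t] at this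
    obtain ⟨x, hxt, hxy⟩ := Set.not_subset.1 hnle
    have hm : X.presheaf.germ V t.1 t.2 x ∈ IsLocalRing.maximalIdeal (X.presheaf.stalk t.1) :=
      (germ_mem_maximalIdeal_iff hV t.1 t.2 x).2 hxt
    obtain ⟨N, hN⟩ := Groth.Agent.S2510.isNilpotent_of_mem_maximalIdeal_of_isMax hV t.1 t.2 ht _ hm
    refine ⟨x ^ N, ?_, fun _ _ => by rw [map_pow, hN]⟩
    rw [map_pow]
    refine IsUnit.pow N ?_
    rw [← Scheme.mem_basicOpen, Groth.Agent.Lib.Helper2.mem_basicOpen_iff_notMem_primeIdealOf hV y hy]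
    exact hxy
  choose g hg1 hg2 using key
  refine ⟨∏ t ∈ hfin.toFinset, g t, ?_, ?_⟩
  · rw [map_prod]
    exact IsUnit.prod_iff.2 fun t _ => hg1 t   
  · intro η hη hmax hns
    rw [map_prod]
    exact Finset.prod_eq_zero ((Set.Finite.mem_toFinset hfin).2 (show IsMaxPt (⟨η, hη⟩ : V).1 from hmax))
      (hg2 ⟨η, hη⟩ hmax hns)

/-- Step 4: an element of a local ring vanishing at all maximal generizations vanishes. -/
theorem eq_zero_of_stalkSpecializes_eq_zero (ha : HypA X) (hb : HypB X) (y : X)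
    (c : X.presheaf.stalk y)
    (hc : ∀ (η : X) (h : η ⤳ y), IsMaxPt η → X.presheaf.stalkSpecializes h c = 0) : c = 0 := by
  obtain ⟨V₀, hyV₀, c₀, rfl⟩ := X.presheaf.exists_germ_eq c
  obtain ⟨_, ⟨V, hV, rfl⟩, hyV, hVV₀⟩ :=
    X.isBasis_affineOpens.exists_subset_of_mem_open hyV₀ V₀.isOpen
  have hle : V ≤ V₀ := hVV₀
  set c₁ := X.presheaf.map (homOfLE hle).op c₀ with hc₁
  have hgerm : ∀ (z : X) (hz : z ∈ V), X.presheaf.germ V z hz c₁ = X.presheaf.germ V₀ z (hle hz) c₀ :=
    fun z hz => TopCat.Presheaf.germ_res_apply X.presheaf (homOfLE hle) z hz c₀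
  rw [← hgerm y hyV]
  obtain ⟨f, hfu, hf0⟩ := exists_sep hb hV y hyV
  have h0 : f * c₁ = 0 := by
    apply eq_zero_of_germ_eq_zero ha hV
    intro η hη hmax
    rw [map_mul]
    by_cases h : η ⤳ y
    · have h1 := hc η h hmax
      have h2 : X.presheaf.stalkSpecializes h (X.presheaf.germ V₀ y hyV₀ c₀) =
          X.presheaf.germ V₀ η (hle hη) c₀ :=
        ConcreteCategory.congr_hom (TopCat.Presheaf.germ_stalkSpecializes X.presheaf hyV₀ h) c₀
      rw [hgerm η hη, ← h2, h1, mul_zero]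
    · rw [hf0 η hη hmax h, zero_mul]
  have h1 : X.presheaf.germ V y hyV f * X.presheaf.germ V y hyV c₁ = 0 := by
    rw [← map_mul, h0, map_zero]
  exact (hfu.mul_right_eq_zero).1 h1

section Datum

variable (L : X.Modules)

/-- `g` freely generates the stalk `L_x`. -/
def IsGen (x : X) (g : L.presheaf.stalk x) : Prop :=
  Function.Bijective (fun c : X.presheaf.stalk x => c • g)

theorem exists_isGen (hL : PicF.IsInvertible L) (x : X) : ∃ g, IsGen L x g := by
  obtain ⟨W, t, hxW, ht⟩ := exists_local_generator L hL x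
  exact ⟨_, ht x hxW⟩

variable {L} in
theorem isUnit_of_isGen {x : X} {g₁ g₂ : L.presheaf.stalk x} (h₁ : IsGen L x g₁)
    (φ : X.presheaf.stalk x) (h : φ • g₂ = g₁) : IsUnit φ := by
  obtain ⟨ψ, hψ⟩ := h₁.2 g₂
  have hψ' : ψ • g₁ = g₂ := hψ
  have h1 : φ * ψ = 1 := by
    apply h₁.1
    change (φ * ψ) • g₁ = (1 : X.presheaf.stalk x) • g₁
    rw [mul_smul, hψ', h, one_smul]
  exact IsUnit.of_mul_eq_one ψ h1

/-- elements of the local ring at a point of an affine open are fractions. -/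
theorem exists_frac {U : X.Opens} (hU : IsAffineOpen U) (x : X) (hx : x ∈ U)
    (φ : X.presheaf.stalk x) :
    ∃ c d : Γ(X, U), IsUnit (X.presheaf.germ U x hx d) ∧
      φ * X.presheaf.germ U x hx d = X.presheaf.germ U x hx c := by
  letI : Algebra Γ(X, U) (X.presheaf.stalk x) :=
    TopCat.Presheaf.algebra_section_stalk X.presheaf (⟨x, hx⟩ : U)
  haveI : IsLocalization.AtPrime (X.presheaf.stalk x) (hU.primeIdealOf ⟨x, hx⟩).asIdeal :=
    hU.isLocalization_stalk ⟨x, hx⟩
  obtain ⟨⟨c, d⟩, hcd⟩ := IsLocalization.surj (hU.primeIdealOf ⟨x, hx⟩).asIdeal.primeCompl φ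
  exact ⟨c, d.1, IsLocalization.map_units (X.presheaf.stalk x) d, hcd⟩

/-- local data for a meromorphic section with prescribed values `g η` at the maximal points. -/
structure Datum (g : ∀ x : X, L.presheaf.stalk x) where
  /-- the open -/
  U : X.Opens
  /-- the generator -/
  t : Γ(L, U)
  ht : ∀ (y : X) (hy : y ∈ U), IsGen L y (L.presheaf.germ U y hy t)
  /-- numerator -/
  a : Γ(X, U)
  /-- denominator -/
  b : Γ(X, U)
  ha : a ∈ Mero.regSub X U
  hb : b ∈ Mero.regSub X U
  hab : ∀ (η : X) (hη : η ∈ U), IsMaxPt η →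
    X.presheaf.germ U η hη a • L.presheaf.germ U η hη t = X.presheaf.germ U η hη b • g η

theorem exists_datum (hA : HypA X) (hB : HypB X) (hL : PicF.IsInvertible L)
    (g : ∀ x : X, L.presheaf.stalk x) (hg : ∀ x, IsGen L x (g x)) (z : X) :
    ∃ D : Datum L g, z ∈ D.U := by
  classical
  obtain ⟨W, t₀, hzW, ht₀⟩ := exists_local_generator L hL z
  obtain ⟨_, ⟨U, hU, rfl⟩, hzU, hUW⟩ :=
    X.isBasis_affineOpens.exists_subset_of_mem_open hzW W.isOpen
  have hUW' : U ≤ W := hUW
  set t := L.presheaf.map (homOfLE hUW').op t₀ with ht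
  have htgen : ∀ (y : X) (hy : y ∈ U), IsGen L y (L.presheaf.germ U y hy t) :=
    generator_res L hUW' t₀ ht₀
  have hfin := Groth.Agent.S8904.finite_isMax U (hB U hU.isCompact)
  -- coefficients
  have hφ : ∀ x : U, ∃ φ : X.presheaf.stalk x.1, φ • L.presheaf.germ U x.1 x.2 t = g x.1 :=
    fun x => (htgen x.1 x.2).2 (g x.1)
  choose φ hφ using hφ
  have hφu : ∀ x : U, IsUnit (φ x) := fun x => isUnit_of_isGen (hg x.1) _ (hφ x)
  have hcd : ∀ x : U, ∃ c d : Γ(X, U), IsUnit (X.presheaf.germ U x.1 x.2 d) ∧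
      φ x * X.presheaf.germ U x.1 x.2 d = X.presheaf.germ U x.1 x.2 c :=
    fun x => exists_frac hU x.1 x.2 (φ x)
  choose c d hdu hcd using hcd
  have he : ∀ x : U, ∃ e : Γ(X, U), IsUnit (X.presheaf.germ U x.1 x.2 e) ∧
      ∀ (η : X) (hη : η ∈ U), IsMaxPt η → ¬ η ⤳ x.1 → X.presheaf.germ U η hη e = 0 :=
    fun x => exists_sep hB hU x.1 x.2
  choose e heu he0 using he
  -- germs of the sums at a maximal point
  have hsum : ∀ (w : U → Γ(X, U)) (η : X) (hη : η ∈ U), IsMaxPt η →
      X.presheaf.germ U η hη (∑ x ∈ hfin.toFinset, e x * w x) =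
        X.presheaf.germ U η hη (e ⟨η, hη⟩) * X.presheaf.germ U η hη (w ⟨η, hη⟩) := by
    intro w η hη hmax
    rw [map_sum, Finset.sum_eq_single (⟨η, hη⟩ : U)]
    · rw [map_mul]
    · intro x hx hne
      have hxmax : IsMaxPt x.1 := (Set.Finite.mem_toFinset hfin).1 hx
      have hns : ¬ η ⤳ x.1 := fun h => hne (Subtype.ext (hxmax η h).symm)
      rw [map_mul, he0 x η hη hmax hns, zero_mul]
    · intro hnot
      exact absurd ((Set.Finite.mem_toFinset hfin).2 (show IsMaxPt (⟨η, hη⟩ : U).1 from hmax)) hnot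
  have hcu : ∀ x : U, IsUnit (X.presheaf.germ U x.1 x.2 (c x)) := by
    intro x
    rw [← hcd x]
    exact (hφu x).mul (hdu x)
  refine ⟨⟨U, t, htgen, ∑ x ∈ hfin.toFinset, e x * c x, ∑ x ∈ hfin.toFinset, e x * d x, ?_, ?_, ?_⟩, hzU⟩
  · apply mem_regSub_of_isUnit_germ hA hU
    intro η hη hmax
    rw [hsum c η hη hmax]
    exact (heu ⟨η, hη⟩).mul (hcu ⟨η, hη⟩)
  · apply mem_regSub_of_isUnit_germ hA hU
    intro η hη hmax
    rw [hsum d η hη hmax]
    exact (heu ⟨η, hη⟩).mul (hdu ⟨η, hη⟩)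
  · intro η hη hmax
    rw [hsum c η hη hmax, hsum d η hη hmax, ← hφ ⟨η, hη⟩, ← hcd ⟨η, hη⟩]
    simp only [mul_smul]
    rw [smul_comm (φ ⟨η, hη⟩) (X.presheaf.germ U η hη (d ⟨η, hη⟩))]

/-- specialization maps of stalks of a module are semilinear. -/
theorem stalkSpecializes_smul {x ξ : X} (h : ξ ⤳ x) (c : X.presheaf.stalk x)
    (m : L.presheaf.stalk x) :
    (L.presheaf.stalkSpecializes h) (c • m) =
      (X.presheaf.stalkSpecializes h c) • (L.presheaf.stalkSpecializes h m) := by
  obtain ⟨W₁, hx₁, r, rfl⟩ := X.presheaf.exists_germ_eq c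
  obtain ⟨W₂, hx₂, m₀, rfl⟩ := L.presheaf.exists_germ_eq m
  have hx : x ∈ W₁ ⊓ W₂ := ⟨hx₁, hx₂⟩
  have hξ : ξ ∈ W₁ ⊓ W₂ := h.mem_open (W₁ ⊓ W₂).isOpen hx
  rw [← TopCat.Presheaf.germ_res_apply X.presheaf (homOfLE (inf_le_left : W₁ ⊓ W₂ ≤ W₁)) x hx r,
    ← TopCat.Presheaf.germ_res_apply L.presheaf (homOfLE (inf_le_right : W₁ ⊓ W₂ ≤ W₂)) x hx m₀,
    ← germ_smul]
  have e1 : ∀ z : Γ(L, W₁ ⊓ W₂), (L.presheaf.stalkSpecializes h) (L.presheaf.germ _ x hx z) =
      L.presheaf.germ _ ξ hξ z := fun z =>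
    ConcreteCategory.congr_hom (TopCat.Presheaf.germ_stalkSpecializes L.presheaf hx h) z
  have e2 : ∀ z : Γ(X, W₁ ⊓ W₂), (X.presheaf.stalkSpecializes h) (X.presheaf.germ _ x hx z) =
      X.presheaf.germ _ ξ hξ z := fun z =>
    ConcreteCategory.congr_hom (TopCat.Presheaf.germ_stalkSpecializes X.presheaf hx h) z
  rw [e1, e1, e2, germ_smul]

variable {L} in
/-- the value at `y` of the meromorphic section defined by a datum. -/
noncomputable def Datum.val {g : ∀ x : X, L.presheaf.stalk x} (D : Datum L g) (y : X) (hy : y ∈ D.U) :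
    Mero.MStalk L y :=
  LocalizedModule.mk (L.presheaf.germ D.U y hy (D.a • D.t))
    (Mero.regGerm (⟨y, hy⟩ : D.U) ⟨D.b, D.hb⟩)

variable {L} in
/-- Step 6: the values of two data agree. -/
theorem Datum.val_eq (hA : HypA X) (hB : HypB X) {g : ∀ x : X, L.presheaf.stalk x}
    (D D' : Datum L g) (y : X) (hy : y ∈ D.U) (hy' : y ∈ D'.U) :
    D.val y hy = D'.val y hy' := by
  unfold Datum.val
  rw [LocalizedModule.mk_eq]
  refine ⟨1, ?_⟩
  rw [one_smul, one_smul]
  change X.presheaf.germ D'.U y hy' D'.b • L.presheaf.germ D.U y hy (D.a • D.t) =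
    X.presheaf.germ D.U y hy D.b • L.presheaf.germ D'.U y hy' (D'.a • D'.t)
  rw [germ_smul, germ_smul]
  obtain ⟨u, hu⟩ := (D.ht y hy).2 (L.presheaf.germ D'.U y hy' D'.t)
  have hu' : u • L.presheaf.germ D.U y hy D.t = L.presheaf.germ D'.U y hy' D'.t := hu
  rw [← hu', smul_smul, smul_smul, smul_smul]
  congr 1
  rw [← sub_eq_zero]
  apply eq_zero_of_stalkSpecializes_eq_zero hA hB y
  intro η h hmax
  have hη : η ∈ D.U := h.mem_open D.U.isOpen hy
  have hη' : η ∈ D'.U := h.mem_open D'.U.isOpen hy'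
  have e2 : ∀ z : Γ(X, D.U), (X.presheaf.stalkSpecializes h) (X.presheaf.germ _ y hy z) =
      X.presheaf.germ _ η hη z := fun z =>
    ConcreteCategory.congr_hom (TopCat.Presheaf.germ_stalkSpecializes X.presheaf hy h) z
  have e2' : ∀ z : Γ(X, D'.U), (X.presheaf.stalkSpecializes h) (X.presheaf.germ _ y hy' z) =
      X.presheaf.germ _ η hη' z := fun z =>
    ConcreteCategory.congr_hom (TopCat.Presheaf.germ_stalkSpecializes X.presheaf hy' h) z
  have e1 : (L.presheaf.stalkSpecializes h) (L.presheaf.germ _ y hy D.t) =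
      L.presheaf.germ _ η hη D.t :=
    ConcreteCategory.congr_hom (TopCat.Presheaf.germ_stalkSpecializes L.presheaf hy h) D.t
  have e1' : (L.presheaf.stalkSpecializes h) (L.presheaf.germ _ y hy' D'.t) =
      L.presheaf.germ _ η hη' D'.t :=
    ConcreteCategory.congr_hom (TopCat.Presheaf.germ_stalkSpecializes L.presheaf hy' h) D'.t
  have hT' : X.presheaf.stalkSpecializes h u • L.presheaf.germ _ η hη D.t =
      L.presheaf.germ _ η hη' D'.t := by
    rw [← e1, ← stalkSpecializes_smul, hu', e1']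
  rw [map_sub, map_mul, map_mul, map_mul, e2, e2, e2', e2', sub_eq_zero]
  apply (D.ht η hη).1
  change (X.presheaf.germ D'.U η hη' D'.b * X.presheaf.germ D.U η hη D.a) •
      L.presheaf.germ D.U η hη D.t =
    (X.presheaf.germ D.U η hη D.b * X.presheaf.germ D'.U η hη' D'.a *
      X.presheaf.stalkSpecializes h u) • L.presheaf.germ D.U η hη D.t
  rw [mul_smul, D.hab η hη hmax, mul_smul, mul_smul, hT', D'.hab η hη' hmax, smul_comm]

end Datum

/-- under hypotheses (a) and (b), every invertible module has a regular meromorphic section. -/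
theorem hasRegularMero (hA : HypA X) (hB : HypB X) (L : X.Modules) (hL : PicF.IsInvertible L) :
    Mero.HasRegularMero L := by
  classical
  choose g hg using exists_isGen L hL
  have hD := exists_datum L hA hB hL g hg
  choose D hD using hD
  let σ : ∀ x : (⊤ : X.Opens), Mero.MStalk L x.1 := fun x => (D x.1).val x.1 (hD x.1)
  have hσ : (Mero.mLoc L).pred σ := by
    intro x
    refine ⟨(D x.1).U, hD x.1, homOfLE le_top, (D x.1).a • (D x.1).t,
      ⟨(D x.1).b, (D x.1).hb⟩, fun y => ?_⟩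
    exact Datum.val_eq hA hB (D y.1) (D x.1) y.1 (hD y.1) y.2
  refine ⟨⟨σ, hσ⟩, ?_⟩
  intro x q hq
  change q • (D x).val x (hD x) = 0 at hq
  induction q using Localization.induction_on with
  | H cd =>
    obtain ⟨c, d⟩ := cd
    unfold Datum.val at hq
    rw [LocalizedModule.mk_smul_mk, ← LocalizedModule.zero_mk (1 : Mero.regStalk X x),
      LocalizedModule.mk_eq] at hq
    obtain ⟨e, he⟩ := hq
    rw [smul_zero, smul_zero, one_smul, germ_smul] at he
    have he' : (e.1 * (c * X.presheaf.germ (D x).U x (hD x) (D x).a)) •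
        L.presheaf.germ (D x).U x (hD x) (D x).t =
        (0 : X.presheaf.stalk x) • L.presheaf.germ (D x).U x (hD x) (D x).t := by
      rw [zero_smul, mul_smul, mul_smul]
      exact he
    have h0 := ((D x).ht x (hD x)).1 he'
    have hc : c = 0 := by
      have h1 : c * X.presheaf.germ (D x).U x (hD x) (D x).a = 0 :=
        (mul_left_mem_nonZeroDivisors_eq_zero_iff (Mero.regStalk_le_nonZeroDivisors x e.2)).1 h0
      exact (mul_right_mem_nonZeroDivisors_eq_zero_iff ((D x).ha ⟨x, hD x⟩)).1 h1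
    rw [hc, Localization.mk_zero]

end Groth.Agent.Lib.Helper20.RegMero
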