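import Mathlib
import Groth.Agent.S0392
/-!
# Fibrewise criterion of flatness, quotient form (helper2; bridge to helper5 S0392)
-/
set_option autoImplicit false
universe u
open TensorProduct

namespace Groth.Agent.Lib.Helper2.FibreCrit

/-- `(B/I) ⊗[B] M ≃ M/IM`, linear over `B/I`. -/
noncomputable def quotTensorEquiv {B : Type*} [CommRing B] (I : Ideal B) (M : Type*)
    [AddCommGroup M] [Module B M] :
    ((B ⧸ I) ⊗[B] M) ≃ₗ[B ⧸ I] M ⧸ (I • (⊤ : Submodule B M)) :=
  LinearEquiv.extendScalarsOfSurjective (R := B) (S := B ⧸ I) Ideal.Quotient.mk_surjective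
    (TensorProduct.quotTensorEquivQuotSMul M I)

/-- Fibrewise criterion of flatness (Noetherian local form), with the fibre module written as the
quotient `M/IM` over `B/I`, `I = 𝔪_A B`. -/
theorem fibre_criterion_quot {A B C M : Type u} [CommRing A] [CommRing B] [CommRing C]
    [IsLocalRing A] [IsLocalRing B] [IsLocalRing C]
    [IsNoetherianRing A] [IsNoetherianRing B] [IsNoetherianRing C] [Algebra A B] [Algebra B C]
    [Algebra A C] [IsScalarTower A B C]
    [IsLocalHom (algebraMap A B)] [IsLocalHom (algebraMap B C)]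
    [AddCommGroup M] [Module C M] [Module B M] [Module A M] [IsScalarTower B C M]
    [IsScalarTower A B M] [Module.Finite C M] [Nontrivial M] :
    (Module.Flat A M ∧ Module.Flat (B ⧸ (IsLocalRing.maximalIdeal A).map (algebraMap A B))
        (M ⧸ ((IsLocalRing.maximalIdeal A).map (algebraMap A B) • (⊤ : Submodule B M)))) ↔
      (Module.Flat A B ∧ Module.Flat B M) := by
  constructor
  · rintro ⟨hAM, hq⟩
    haveI := hAM
    have h : Module.Flat (B ⧸ (IsLocalRing.maximalIdeal A).map (algebraMap A B))
        ((B ⧸ (IsLocalRing.maximalIdeal A).map (algebraMap A B)) ⊗[B] M) :=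
      Module.Flat.of_linearEquiv (quotTensorEquiv _ M)
    exact Groth.Agent.S0392.result (R := A) (S := B) (S' := C) (M := M) h
  · rintro ⟨hAB, hBM⟩
    haveI := hAB
    haveI := hBM
    refine ⟨Module.Flat.trans A B M, ?_⟩
    exact Module.Flat.of_linearEquiv (quotTensorEquiv _ M).symm

end Groth.Agent.Lib.Helper2.FibreCrit
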