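import Mathlib
import Groth.Agent.Lib.Helper2FibreCrit
import Groth.Agent.Lib.Helper2FlatOver
import Groth.Agent.Lib.Helper23FinType2
/-!
# Fibrewise criterion of flatness for modules on locally Noetherian schemes (helper2)

* `finite_stalk`: stalks of qcoh finite type modules are finite over the local ring.
* `fibre_criterion_modules`: scheme form of helper5's S0392.
-/
set_option autoImplicit false
universe u
open CategoryTheory Limits AlgebraicGeometry TopologicalSpace Opposite TensorProduct

namespace Groth.Agent.Lib.Helper2.FibreCrit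

open Groth.Agent.Lib.Helper2.FlatOver Groth.Agent.Lib.Helper23.FinType

variable {X Y S : Scheme.{u}}

/-- the stalk of a quasi-coherent module of finite type is a finite module over the local ring. -/
theorem finite_stalk (F : X.Modules) [F.IsQuasicoherent]
    [SheafOfModules.IsFiniteType (R := X.ringCatSheaf) F] (x : X) :
    Module.Finite (X.presheaf.stalk x) (F.presheaf.stalk x) := by
  obtain ⟨U, hU, hxU⟩ : ∃ U : X.Opens, IsAffineOpen U ∧ x ∈ U := by
    obtain ⟨_, ⟨U, hU, rfl⟩, hxU, -⟩ :=
      X.isBasis_affineOpens.exists_subset_of_mem_open (Set.mem_univ x) isOpen_univ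
    exact ⟨U, hU, hxU⟩
  haveI : Module.Finite Γ(X, U) Γ(F, U) := finite_of_isFiniteType F hU
  letI aUR : Algebra Γ(X, U) (X.presheaf.stalk x) := X.presheaf.algebra_section_stalk ⟨x, hxU⟩
  letI mUP : Module Γ(X, U) (F.presheaf.stalk x) := moduleStalkSections F U x hxU
  haveI : IsScalarTower Γ(X, U) (X.presheaf.stalk x) (F.presheaf.stalk x) :=
    IsScalarTower.of_algebraMap_smul (fun b n => rfl)
  haveI := hU.isLocalization_stalk ⟨x, hxU⟩
  haveI := isLocalizedModule_germ hU F x hxU
  exact Module.Finite.of_isLocalizedModule (hU.primeIdealOf ⟨x, hxU⟩).asIdeal.primeCompl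
    (germₗ F U x hxU)

/-- **Fibrewise criterion of flatness for modules on locally Noetherian schemes.** -/
theorem fibre_criterion_modules [IsLocallyNoetherian X] [IsLocallyNoetherian Y]
    [IsLocallyNoetherian S] (f : X ⟶ Y) (h : Y ⟶ S) (F : X.Modules) [F.IsQuasicoherent]
    [SheafOfModules.IsFiniteType (R := X.ringCatSheaf) F] (x : X)
    (hx : Nontrivial ↑(F.presheaf.stalk x)) :
    letI := FlatMod.moduleStalkOver f F x
    (FlatMod.IsFlatOverAt (f ≫ h) F x ∧
      Module.Flat (↑(Y.presheaf.stalk (f.base x)) ⧸ Ideal.map (h.stalkMap (f.base x)).hom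
          (IsLocalRing.maximalIdeal ↑(S.presheaf.stalk (h.base (f.base x)))))
        (↑(F.presheaf.stalk x) ⧸ (Ideal.map (h.stalkMap (f.base x)).hom
          (IsLocalRing.maximalIdeal ↑(S.presheaf.stalk (h.base (f.base x)))) •
          (⊤ : Submodule ↑(Y.presheaf.stalk (f.base x)) ↑(F.presheaf.stalk x))))) ↔
    ((h.stalkMap (f.base x)).hom.Flat ∧ FlatMod.IsFlatOverAt f F x) := by
  letI aAB : Algebra (S.presheaf.stalk (h.base (f.base x))) (Y.presheaf.stalk (f.base x)) :=
    (h.stalkMap (f.base x)).hom.toAlgebra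
  letI aBC : Algebra (Y.presheaf.stalk (f.base x)) (X.presheaf.stalk x) :=
    (f.stalkMap x).hom.toAlgebra
  letI aAC : Algebra (S.presheaf.stalk (h.base (f.base x))) (X.presheaf.stalk x) :=
    ((f.stalkMap x).hom.comp (h.stalkMap (f.base x)).hom).toAlgebra
  haveI tABC : IsScalarTower (S.presheaf.stalk (h.base (f.base x))) (Y.presheaf.stalk (f.base x))
      (X.presheaf.stalk x) := IsScalarTower.of_algebraMap_eq (fun a => rfl)
  letI mBM : Module (Y.presheaf.stalk (f.base x)) (F.presheaf.stalk x) :=
    FlatMod.moduleStalkOver f F x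
  letI mAM : Module (S.presheaf.stalk (h.base (f.base x))) (F.presheaf.stalk x) :=
    Module.compHom _ ((f.stalkMap x).hom.comp (h.stalkMap (f.base x)).hom)
  haveI tBCM : IsScalarTower (Y.presheaf.stalk (f.base x)) (X.presheaf.stalk x)
      (F.presheaf.stalk x) := IsScalarTower.of_algebraMap_smul (fun b n => rfl)
  haveI tABM : IsScalarTower (S.presheaf.stalk (h.base (f.base x))) (Y.presheaf.stalk (f.base x))
      (F.presheaf.stalk x) := IsScalarTower.of_algebraMap_smul (fun b n => rfl)
  haveI : IsLocalHom (algebraMap (S.presheaf.stalk (h.base (f.base x)))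
      (Y.presheaf.stalk (f.base x))) := inferInstanceAs (IsLocalHom (h.stalkMap (f.base x)).hom)
  haveI : IsLocalHom (algebraMap (Y.presheaf.stalk (f.base x)) (X.presheaf.stalk x)) :=
    inferInstanceAs (IsLocalHom (f.stalkMap x).hom)
  haveI := finite_stalk F x
  have key := fibre_criterion_quot (A := S.presheaf.stalk (h.base (f.base x)))
    (B := Y.presheaf.stalk (f.base x)) (C := X.presheaf.stalk x) (M := F.presheaf.stalk x)
  -- identify the `A`-module structure used by `IsFlatOverAt (f ≫ h)`
  have hcomp : FlatMod.IsFlatOverAt (f ≫ h) F x ↔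
      Module.Flat (S.presheaf.stalk (h.base (f.base x))) (F.presheaf.stalk x) := by
    unfold FlatMod.IsFlatOverAt
    refine @flat_iff_of_semilinear_equiv _ (S.presheaf.stalk (h.base (f.base x)))
      (F.presheaf.stalk x) (F.presheaf.stalk x) _ _ _ _ (FlatMod.moduleStalkOver (f ≫ h) F x) mAM
      (RingEquiv.refl _) (AddEquiv.refl _) ?_
    intro a n
    change ((f ≫ h).stalkMap x).hom a • n = (f.stalkMap x).hom ((h.stalkMap (f.base x)).hom a) • n
    rw [Scheme.Hom.stalkMap_comp]
    rfl
  rw [hcomp]
  exact key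

end Groth.Agent.Lib.Helper2.FibreCrit
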