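import Groth.Agent.Lib.Helper20Kmod2
import Groth.Agent.Lib.Helper2QCoh
import Groth.Agent.S8898

/-!
# `Mero.kmod` on affine opens (helper20): units, denominators, total ring of fractions criterion
-/

set_option autoImplicit false
set_option linter.style.haveILetI false
universe u
open CategoryTheory CategoryTheory.Limits AlgebraicGeometry TopologicalSpace Opposite

namespace Groth.Agent.Lib.Helper20.Kmod

open Mero nonZeroDivisors Groth.Agent.Lib.Helper2.QCoh

variable {X : Scheme.{u}}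

theorem toK_injective (U : X.Opens) : Function.Injective (Mero.toK X U) := by
  refine (injective_iff_map_eq_zero (Mero.toK X U)).2 fun a ha => ?_
  apply TopCat.Presheaf.section_ext X.sheaf U
  intro x hx
  change X.presheaf.germ U x hx a = X.presheaf.germ U x hx 0
  rw [map_zero]
  have h1 : (Mero.toK X U a).1 ⟨x, hx⟩ = 0 := by rw [ha]; rfl
  rw [Mero.toK_apply] at h1
  exact (mk_eq_zero_iff _ _).1 h1

/-- the inverse of a regular section in `K_X`. -/
noncomputable def invReg {U : X.Opens} (b : Mero.regSub X U) : Γ(Mero.kmod X, U) :=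
  ⟨fun x => LocalizedModule.mk 1 (Mero.regGerm x b), fun x =>
    ⟨U, x.2, 𝟙 _, 1, b, fun _ => Mero.mk_congr (map_one _).symm rfl⟩⟩

theorem invReg_apply {U : X.Opens} (b : Mero.regSub X U) (x : U) :
    (invReg b).1 x = LocalizedModule.mk 1 (Mero.regGerm x b) := rfl

theorem toK_mul_invReg {U : X.Opens} (b : Mero.regSub X U) : Mero.toK X U b.1 * invReg b = 1 := by
  apply kmod_ext
  intro x
  rw [Mero.kmod_mul_apply, Mero.toK_apply, invReg_apply, Mero.kmod_one_apply]
  refine LocalizedModule.mk_mul_mk.trans ?_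
  exact (Mero.mk_congr (mul_one _) (one_mul _)).trans (Mero.mk_self_eq_one (Mero.regGerm x b))

theorem isUnit_toK_of_mem_regSub {U : X.Opens} {b : Γ(X, U)} (hb : b ∈ Mero.regSub X U) :
    IsUnit (Mero.toK X U b) :=
  IsUnit.of_mul_eq_one _ (toK_mul_invReg ⟨b, hb⟩)

/-- if a section of `K_X` over a quasi-compact open `U` vanishes on `U ∩ X_h`, then `h ^ n` kills it. -/
theorem exists_pow_mul_eq_zero_of_isCompact {U : X.Opens} (hUc : IsCompact (U : Set X))
    (f : Γ(Mero.kmod X, U)) (h : Γ(X, U))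
    (hf : ∀ y : U, y.1 ∈ X.basicOpen h → f.1 y = 0) :
    ∃ n : ℕ, Mero.toK X U h ^ n * f = 0 := by
  choose W hWaff hxW hWU a b hfrac using fun x : U => exists_local_frac_affine f x
  have hn : ∀ x : U, ∃ n : ℕ, ∀ m, n ≤ m → ∀ y : U, y.1 ∈ W x →
      (Mero.toK X U h ^ m * f).1 y = 0 := fun x =>
    exists_pow_mul_eq_zero_of_frac f h (hWaff x).isCompact (hWU x) (a x) (b x) (hfrac x)
      (fun y _ hy => hf y hy)
  choose n hn using hn
  obtain ⟨t, ht⟩ := hUc.elim_finite_subcover (fun x : U => ((W x : X.Opens) : Set X))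
    (fun x => (W x).isOpen) (fun y hy => Set.mem_iUnion.2 ⟨⟨y, hy⟩, hxW ⟨y, hy⟩⟩)
  refine ⟨t.sup n, kmod_ext fun y => ?_⟩
  rw [kmod_zero_apply]
  obtain ⟨x, hxt, hyx⟩ : ∃ x ∈ t, y.1 ∈ W x := by
    have := ht y.2
    simpa using this
  exact hn x (t.sup n) (Finset.le_sup hxt) y hyx


theorem kmod_sub_apply {U : X.Opens} (f g : Γ(Mero.kmod X, U)) (x : U) :
    (f - g).1 x = f.1 x - g.1 x :=
  map_sub (Mero.evalK X U x) f g

theorem res_mem_regSub_basicOpen {U : X.Opens} (h : Γ(X, U)) :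
    X.presheaf.map (homOfLE (X.basicOpen_le h)).op h ∈ Mero.regSub X (X.basicOpen h) := by
  intro y
  apply IsUnit.mem_nonZeroDivisors
  rw [TopCat.Presheaf.germ_res_apply]
  exact (Scheme.mem_basicOpen _ _ _ (X.basicOpen_le h y.2)).1 y.2

/-- on an affine open, every section of `K_X` has a denominator which is regular near a given point. -/
theorem exists_denominator {U : X.Opens} (hU : IsAffineOpen U) (φ : Γ(Mero.kmod X, U)) (t : U) :
    ∃ s a : Γ(X, U), Mero.toK X U s * φ = Mero.toK X U a ∧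
      X.presheaf.germ U t.1 t.2 s ∈ Mero.regStalk X t.1 := by
  obtain ⟨W, htW, hWU, a, b, hfrac⟩ := exists_local_frac φ t
  obtain ⟨h, hhW, hth⟩ := hU.exists_basicOpen_le ⟨t.1, htW⟩ t.2
  have hDU : X.basicOpen h ≤ U := X.basicOpen_le h
  haveI : IsLocalization.Away h Γ(X, X.basicOpen h) := hU.isLocalization_basicOpen h
  have halg : ∀ r : Γ(X, U), algebraMap Γ(X, U) Γ(X, X.basicOpen h) r =
      X.presheaf.map (homOfLE hDU).op r := fun r => rfl
  obtain ⟨⟨b1, ⟨_, k1, rfl⟩⟩, hb1⟩ := IsLocalization.surj (Submonoid.powers h)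
    (X.presheaf.map (homOfLE hhW).op b.1 : Γ(X, X.basicOpen h))
  obtain ⟨⟨a1, ⟨_, k2, rfl⟩⟩, ha1⟩ := IsLocalization.surj (Submonoid.powers h)
    (X.presheaf.map (homOfLE hhW).op a : Γ(X, X.basicOpen h))
  simp only [halg] at hb1 ha1
  -- germ identities
  have e1 : ∀ (y : X) (hy : y ∈ X.basicOpen h), X.presheaf.germ U y (hDU hy) b1 =
      X.presheaf.germ W y (hhW hy) b.1 * X.presheaf.germ U y (hDU hy) h ^ k1 := by
    intro y hy
    have := congrArg (X.presheaf.germ (X.basicOpen h) y hy) hb1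
    rw [map_mul, TopCat.Presheaf.germ_res_apply, TopCat.Presheaf.germ_res_apply,
      TopCat.Presheaf.germ_res_apply, map_pow] at this
    exact this.symm
  have e2 : ∀ (y : X) (hy : y ∈ X.basicOpen h), X.presheaf.germ U y (hDU hy) a1 =
      X.presheaf.germ W y (hhW hy) a * X.presheaf.germ U y (hDU hy) h ^ k2 := by
    intro y hy
    have := congrArg (X.presheaf.germ (X.basicOpen h) y hy) ha1
    rw [map_mul, TopCat.Presheaf.germ_res_apply, TopCat.Presheaf.germ_res_apply,
      TopCat.Presheaf.germ_res_apply, map_pow] at this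
    exact this.symm
  set ψ : Γ(Mero.kmod X, U) := Mero.toK X U (b1 * h ^ k2) * φ - Mero.toK X U (a1 * h ^ k1) with hψ
  have hψ0 : ∀ y : U, y.1 ∈ X.basicOpen h → ψ.1 y = 0 := by
    intro y hy
    rw [hψ, kmod_sub_apply, Mero.kmod_mul_apply, Mero.toK_apply, Mero.toK_apply, sub_eq_zero,
      hfrac ⟨y.1, hhW hy⟩]
    refine LocalizedModule.mk_mul_mk.trans ?_
    rw [LocalizedModule.mk_eq]
    refine ⟨1, ?_⟩
    simp only [one_smul, Submonoid.smul_def, smul_eq_mul, one_mul]
    rw [map_mul, map_mul, map_pow, map_pow, e1 y.1 hy, e2 y.1 hy]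
    ring
  obtain ⟨n, hn⟩ := exists_pow_mul_eq_zero_of_isCompact hU.isCompact ψ h hψ0
  refine ⟨h ^ n * (b1 * h ^ k2), h ^ n * (a1 * h ^ k1), ?_, ?_⟩
  · rw [hψ, mul_sub, sub_eq_zero] at hn
    rw [map_mul _ (h ^ n), map_mul _ (h ^ n), map_pow, mul_assoc, hn]
  · refine ⟨X.basicOpen h, hth, X.presheaf.map (homOfLE hDU).op (h ^ n * (b1 * h ^ k2)), ?_,
      TopCat.Presheaf.germ_res_apply X.presheaf _ t.1 hth _⟩
    rw [map_mul, map_mul, map_pow, map_pow, ← hb1, map_pow]
    have hh := res_mem_regSub_basicOpen h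
    have hb' : X.presheaf.map (homOfLE hhW).op b.1 ∈ Mero.regSub X (X.basicOpen h) :=
      Mero.regSub_res _ b.2
    exact Submonoid.mul_mem _ (Submonoid.pow_mem _ hh n)
      (Submonoid.mul_mem _ (Submonoid.mul_mem _ hb' (Submonoid.pow_mem _ hh k1))
        (Submonoid.pow_mem _ hh k2))


/-- the ideal of denominators of a section of `K_X`. -/
def denomIdeal {U : X.Opens} (φ : Γ(Mero.kmod X, U)) : Ideal Γ(X, U) where
  carrier := {s | ∃ a : Γ(X, U), Mero.toK X U s * φ = Mero.toK X U a}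
  zero_mem' := ⟨0, by rw [map_zero, zero_mul]⟩
  add_mem' := by
    rintro s s' ⟨a, ha⟩ ⟨a', ha'⟩
    exact ⟨a + a', by rw [map_add, add_mul, ha, ha', map_add]⟩
  smul_mem' := by
    rintro c s ⟨a, ha⟩
    exact ⟨c * a, by rw [smul_eq_mul, map_mul, mul_assoc, ha, map_mul]⟩

theorem mem_denomIdeal {U : X.Opens} (φ : Γ(Mero.kmod X, U)) (s : Γ(X, U)) :
    s ∈ denomIdeal φ ↔ ∃ a : Γ(X, U), Mero.toK X U s * φ = Mero.toK X U a := Iff.rfl

/-- Criterion for `K_X(U)` to be the total ring of fractions of `O_X(U)`, `U` affine: there is a finite set `T` of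
primes of `O_X(U)` at whose points regular germs are units, and avoiding which implies being a nonzerodivisor. -/
theorem isLocalization_kmod {U : X.Opens} (hU : IsAffineOpen U) (T : Finset (PrimeSpectrum Γ(X, U)))
    (hi : ∀ q ∈ T, ∀ c ∈ Mero.regStalk X (hU.fromSpec q), IsUnit c)
    (hii : ∀ s : Γ(X, U), (∀ q ∈ T, s ∉ q.asIdeal) → s ∈ Γ(X, U)⁰) :
    @IsLocalization Γ(X, U) _ (nonZeroDivisors Γ(X, U)) Γ(Mero.kmod X, U) _
      (Mero.toK X U).toAlgebra := by
  letI : Algebra Γ(X, U) Γ(Mero.kmod X, U) := (Mero.toK X U).toAlgebra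
  have halg : ∀ r, algebraMap Γ(X, U) Γ(Mero.kmod X, U) r = Mero.toK X U r := fun r => rfl
  refine (isLocalization_iff _ _).2 ⟨?_, ?_, ?_⟩
  · intro s
    rw [halg]
    exact isUnit_toK_of_mem_regSub
      (fun y => Groth.Agent.S8898.germ_mem_nonZeroDivisors hU s.1 s.2 y)
  · intro φ
    classical
    have hnot : ¬ ((denomIdeal φ : Set Γ(X, U)) ⊆
        ⋃ q ∈ ((T.image PrimeSpectrum.asIdeal : Finset (Ideal Γ(X, U))) : Set (Ideal Γ(X, U))),
          ((fun q : Ideal Γ(X, U) => q) q : Set Γ(X, U))) := by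
      intro hsub
      rw [Ideal.subset_union_prime (⊥ : Ideal Γ(X, U)) ⊥] at hsub
      · obtain ⟨q', hq', hle⟩ := hsub
        obtain ⟨q, hqT, rfl⟩ := Finset.mem_image.1 hq'
        obtain ⟨s, a, hsa, hs⟩ := exists_denominator hU φ ⟨hU.fromSpec q, fromSpec_mem hU q⟩
        have hsu := hi q hqT _ hs
        rw [← Scheme.mem_basicOpen, mem_basicOpen_fromSpec_iff hU q s] at hsu
        exact hsu (hle ⟨a, hsa⟩)
      · intro q' hq' _ _
        obtain ⟨q, _, rfl⟩ := Finset.mem_image.1 hq'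
        exact q.isPrime
    rw [Set.not_subset] at hnot
    obtain ⟨s, hsI, hsT⟩ := hnot
    obtain ⟨a, hsa⟩ := hsI
    have hs : s ∈ Γ(X, U)⁰ := by
      apply hii
      intro q hq hsq
      apply hsT
      simp only [Finset.coe_image, Set.mem_image, Set.iUnion_exists,
        Set.biUnion_and', Set.iUnion_iUnion_eq_right, Set.mem_iUnion, SetLike.mem_coe, exists_prop]
      exact ⟨q, hq, hsq⟩
    refine ⟨(a, ⟨s, hs⟩), ?_⟩
    rw [halg, halg, mul_comm]
    exact hsa
  · intro a b hab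
    rw [halg, halg] at hab
    exact ⟨1, by rw [toK_injective U hab]⟩

end Groth.Agent.Lib.Helper20.Kmod
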