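import Groth.Agent.Lib.Helper20Kmod
import Mathlib.AlgebraicGeometry.Morphisms.QuasiCompact

/-!
# More API for `Mero.kmod` (helper20): powers, killing by powers of `h` on quasi-compact opens
-/

set_option autoImplicit false
universe u
open CategoryTheory CategoryTheory.Limits AlgebraicGeometry TopologicalSpace Opposite

namespace Groth.Agent.Lib.Helper20.Kmod

open Mero

variable {X : Scheme.{u}}

theorem kmod_pow_apply {U : X.Opens} (f : Γ(Mero.kmod X, U)) (n : ℕ) (x : U) :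
    (f ^ n).1 x = f.1 x ^ n :=
  map_pow (Mero.evalK X U x) f n

theorem mk_one_pow_mul_mk {x : X} (c a : X.presheaf.stalk x) (s : Mero.regStalk X x) (n : ℕ) :
    (LocalizedModule.mk c (1 : Mero.regStalk X x) : Mero.KStalk X x) ^ n * LocalizedModule.mk a s =
      LocalizedModule.mk (c ^ n * a) s := by
  induction n with
  | zero => simp
  | succ n ih =>
    rw [pow_succ', mul_assoc, ih]
    exact LocalizedModule.mk_mul_mk.trans (Mero.mk_congr (by ring) (by simp))

/-- if a section of `K_X` which is a fraction `a / b` on a quasi-compact open `W` vanishes on `W ∩ X_h`, then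
`h ^ n` kills it on `W`. -/
theorem exists_pow_mul_eq_zero_of_frac {U : X.Opens} (f : Γ(Mero.kmod X, U)) (h : Γ(X, U))
    {W : X.Opens} (hWc : IsCompact (W : Set X)) (hWU : W ≤ U) (a : Γ(X, W)) (b : Mero.regSub X W)
    (hfrac : ∀ y : W, f.1 ⟨y.1, hWU y.2⟩ =
        LocalizedModule.mk (X.presheaf.germ W y.1 y.2 a) (Mero.regGerm y b))
    (hf : ∀ y : U, y.1 ∈ W → y.1 ∈ X.basicOpen h → f.1 y = 0) :
    ∃ n : ℕ, ∀ m, n ≤ m → ∀ y : U, y.1 ∈ W → (Mero.toK X U h ^ m * f).1 y = 0 := by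
  set h' : Γ(X, W) := X.presheaf.map (homOfLE hWU).op h with hh'
  have hbo : X.basicOpen h' = W ⊓ X.basicOpen h := Scheme.basicOpen_res _ _ _
  have ha : a |_ (X.basicOpen h') = 0 := by
    apply TopCat.Presheaf.section_ext X.sheaf
    intro y hy
    change X.presheaf.germ (X.basicOpen h') y hy _ = X.presheaf.germ (X.basicOpen h') y hy 0
    have hy' : y ∈ W ⊓ X.basicOpen h := hbo ▸ hy
    rw [map_zero]
    change X.presheaf.germ (X.basicOpen h') y hy (X.presheaf.map _ a) = 0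
    rw [TopCat.Presheaf.germ_res_apply]
    have h1 := hfrac ⟨y, hy'.1⟩
    rw [hf ⟨y, hWU hy'.1⟩ hy'.1 hy'.2] at h1
    exact (mk_eq_zero_iff _ _).1 h1.symm
  obtain ⟨n, hn⟩ := exists_pow_mul_eq_zero_of_res_basicOpen_eq_zero_of_isCompact X hWc a h' ha
  refine ⟨n, fun m hm y hyW => ?_⟩
  rw [Mero.kmod_mul_apply, kmod_pow_apply, Mero.toK_apply, hfrac ⟨y.1, hyW⟩, mk_one_pow_mul_mk,
    mk_eq_zero_iff]
  have h2 : X.presheaf.germ U y.1 y.2 h = X.presheaf.germ W y.1 hyW h' := by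
    rw [hh', TopCat.Presheaf.germ_res_apply]
  rw [h2, ← map_pow, ← map_mul]
  obtain ⟨k, rfl⟩ := Nat.exists_eq_add_of_le hm
  rw [pow_add, mul_comm (h' ^ n), mul_assoc, hn, mul_zero, map_zero]


/-- local fraction form of a section of `K_X` on an affine open neighbourhood. -/
theorem exists_local_frac_affine {U : X.Opens} (f : Γ(Mero.kmod X, U)) (x : U) :
    ∃ (W : X.Opens) (_ : IsAffineOpen W) (_ : x.1 ∈ W) (hWU : W ≤ U) (a : Γ(X, W)) (b : Mero.regSub X W),
      ∀ y : W, f.1 ⟨y.1, hWU y.2⟩ =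
        LocalizedModule.mk (X.presheaf.germ W y.1 y.2 a) (Mero.regGerm y b) := by
  obtain ⟨W, hxW, hWU, a, b, h⟩ := exists_local_frac f x
  obtain ⟨W', hW', hxW', hW'W⟩ :=
    (TopologicalSpace.Opens.isBasis_iff_nbhd.mp X.isBasis_affineOpens) hxW
  refine ⟨W', hW', hxW', hW'W.trans hWU, X.presheaf.map (homOfLE hW'W).op a,
    ⟨X.presheaf.map (homOfLE hW'W).op b.1, Mero.regSub_res _ b.2⟩, fun y => ?_⟩
  rw [h ⟨y.1, hW'W y.2⟩]
  exact Mero.mk_congr (TopCat.Presheaf.germ_res_apply X.presheaf _ y.1 y.2 a).symm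
    (TopCat.Presheaf.germ_res_apply X.presheaf _ y.1 y.2 b.1).symm

end Groth.Agent.Lib.Helper20.Kmod
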