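import Groth.Agent.Lib.Helper20DepthOne
import Groth.Agent.Lib.Helper20Kmod3
import Groth.Agent.S8861
import Groth.Agent.S8863
import Groth.Agent.S8864

/-!
# Divisors on locally Noetherian schemes and depth one points (helper20)
-/

set_option autoImplicit false
set_option linter.style.haveILetI false
universe u
open CategoryTheory CategoryTheory.Limits AlgebraicGeometry TopologicalSpace Opposite

namespace Groth.Agent.Lib.Helper20.DivDepth

open Mero nonZeroDivisors Groth.Agent.Lib.Helper2.QCoh Groth.Agent.Lib.Helper20.Kmod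

variable {X : Scheme.{u}}

/-- divisibility of germs in the local ring in terms of the affine coordinate ring. -/
theorem germ_mem_span_iff {U : X.Opens} (hU : IsAffineOpen U) (y : X) (hyU : y ∈ U) (a b : Γ(X, U)) :
    X.presheaf.germ U y hyU a ∈ Ideal.span {X.presheaf.germ U y hyU b} ↔
      ∃ s : Γ(X, U), s ∉ (hU.primeIdealOf ⟨y, hyU⟩).asIdeal ∧ s * a ∈ Ideal.span {b} := by
  letI : Algebra Γ(X, U) (X.presheaf.stalk y) :=
    TopCat.Presheaf.algebra_section_stalk X.presheaf (⟨y, hyU⟩ : U)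
  haveI : IsLocalization.AtPrime (X.presheaf.stalk y) (hU.primeIdealOf ⟨y, hyU⟩).asIdeal :=
    hU.isLocalization_stalk ⟨y, hyU⟩
  have halg : ∀ r : Γ(X, U), algebraMap Γ(X, U) (X.presheaf.stalk y) r =
      X.presheaf.germ U y hyU r := fun r => rfl
  have hunit : ∀ s : Γ(X, U), s ∉ (hU.primeIdealOf ⟨y, hyU⟩).asIdeal →
      IsUnit (X.presheaf.germ U y hyU s) := by
    intro s hs
    rw [← Scheme.mem_basicOpen, Groth.Agent.Lib.Helper2.mem_basicOpen_iff_notMem_primeIdealOf hU y hyU]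
    exact hs
  constructor
  · intro h
    obtain ⟨e, he⟩ := Ideal.mem_span_singleton'.1 h
    obtain ⟨⟨c, u⟩, hcu⟩ := IsLocalization.surj (hU.primeIdealOf ⟨y, hyU⟩).asIdeal.primeCompl e
    simp only [halg] at hcu
    have h1 : X.presheaf.germ U y hyU (u.1 * a - c * b) = 0 := by
      rw [map_sub, map_mul, map_mul, ← hcu, ← he]
      ring
    obtain ⟨m, hm⟩ := (IsLocalization.map_eq_zero_iff (hU.primeIdealOf ⟨y, hyU⟩).asIdeal.primeCompl
      (X.presheaf.stalk y) _).1 h1
    refine ⟨m.1 * u.1, ?_, ?_⟩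
    · intro hmem
      rcases (hU.primeIdealOf ⟨y, hyU⟩).isPrime.mem_or_mem hmem with h | h
      · exact m.2 h
      · exact u.2 h
    · rw [Ideal.mem_span_singleton']
      refine ⟨m.1 * c, ?_⟩
      rw [mul_sub, sub_eq_zero] at hm
      rw [mul_assoc, mul_assoc, hm]
  · rintro ⟨s, hs, hsa⟩
    obtain ⟨c, hc⟩ := Ideal.mem_span_singleton'.1 hsa
    obtain ⟨v, hv⟩ := (hunit s hs).exists_left_inv
    rw [Ideal.mem_span_singleton']
    refine ⟨v * X.presheaf.germ U y hyU c, ?_⟩
    rw [mul_assoc, ← map_mul, hc, map_mul, ← mul_assoc, hv, one_mul]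

/-- depth one at the point of a minimal prime over `((b) : a)`. -/
theorem depth_eq_one_of_mem_minimalPrimes [IsLocallyNoetherian X] {U : X.Opens} (hU : IsAffineOpen U)
    (a b : Γ(X, U)) (hb : b ∈ Γ(X, U)⁰) (y : X) (hyU : y ∈ U)
    (hp : (hU.primeIdealOf ⟨y, hyU⟩).asIdeal ∈
      (Submodule.colon (Ideal.span {b} : Submodule Γ(X, U) Γ(X, U)) {a} : Ideal Γ(X, U)).minimalPrimes) :
    LocCoh.depth (X.presheaf.stalk y) (X.presheaf.stalk y) = 1 := by
  set J : Ideal Γ(X, U) := Submodule.colon (Ideal.span {b} : Submodule Γ(X, U) Γ(X, U)) {a} with hJ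
  have hJmem : ∀ s : Γ(X, U), s ∈ J ↔ s * a ∈ Ideal.span {b} := fun s => by
    simp only [hJ, Submodule.mem_colon_singleton, smul_eq_mul]
  letI : Algebra Γ(X, U) (X.presheaf.stalk y) :=
    TopCat.Presheaf.algebra_section_stalk X.presheaf (⟨y, hyU⟩ : U)
  haveI : IsLocalization.AtPrime (X.presheaf.stalk y) (hU.primeIdealOf ⟨y, hyU⟩).asIdeal :=
    hU.isLocalization_stalk ⟨y, hyU⟩
  have halg : ∀ r : Γ(X, U), algebraMap Γ(X, U) (X.presheaf.stalk y) r =
      X.presheaf.germ U y hyU r := fun r => rfl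
  have hunit : ∀ s : Γ(X, U), s ∉ (hU.primeIdealOf ⟨y, hyU⟩).asIdeal →
      IsUnit (X.presheaf.germ U y hyU s) := by
    intro s hs
    rw [← Scheme.mem_basicOpen, Groth.Agent.Lib.Helper2.mem_basicOpen_iff_notMem_primeIdealOf hU y hyU]
    exact hs
  refine DepthOne.depth_eq_one_of_colon (X.presheaf.germ U y hyU a) (X.presheaf.germ U y hyU b)
    (Groth.Agent.S8898.germ_mem_nonZeroDivisors hU b hb ⟨y, hyU⟩) ?_ ?_
  · intro h
    obtain ⟨s, hs, hsa⟩ := (germ_mem_span_iff hU y hyU a b).1 h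
    exact hs (hp.1.2 ((hJmem s).2 hsa))
  · intro x hx
    obtain ⟨⟨r, u⟩, hru⟩ := IsLocalization.surj (hU.primeIdealOf ⟨y, hyU⟩).asIdeal.primeCompl x
    simp only [halg] at hru
    have hrp : r ∈ (hU.primeIdealOf ⟨y, hyU⟩).asIdeal := by
      rw [← germ_mem_maximalIdeal_iff hU y hyU, ← hru]
      exact Ideal.mul_mem_right _ _ hx
    obtain ⟨k, s, hs, hsk⟩ := Groth.Agent.S8861.exists_pow_mul_mem_of_mem_minimalPrimes hp hrp
    obtain ⟨c, hc⟩ := Ideal.mem_span_singleton'.1 ((hJmem _).1 hsk)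
    obtain ⟨v, hv⟩ := (hunit s hs).exists_left_inv
    obtain ⟨w, hw⟩ := ((hunit u.1 u.2).pow k).exists_left_inv
    refine ⟨k, ?_⟩
    rw [Ideal.mem_span_singleton']
    refine ⟨w * v * X.presheaf.germ U y hyU c, ?_⟩
    have h1 := congrArg (X.presheaf.germ U y hyU) hc
    simp only [map_mul, map_pow] at h1
    rw [← hru, mul_pow] at h1
    calc w * v * X.presheaf.germ U y hyU c * X.presheaf.germ U y hyU b
        = w * v * (X.presheaf.germ U y hyU c * X.presheaf.germ U y hyU b) := by ring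
      _ = w * v * (X.presheaf.germ U y hyU s * (x ^ k * X.presheaf.germ U y hyU u.1 ^ k) *
            X.presheaf.germ U y hyU a) := by rw [h1]
      _ = (v * X.presheaf.germ U y hyU s) * (w * X.presheaf.germ U y hyU u.1 ^ k) *
            (x ^ k * X.presheaf.germ U y hyU a) := by ring
      _ = x ^ k * X.presheaf.germ U y hyU a := by rw [hv, hw, one_mul, one_mul]

section Germs

variable {y : X} (F : (KStalk X y)ˣ) (a b : X.presheaf.stalk y) (hb : b ∈ regStalk X y)
  (h : (F : KStalk X y) * LocalizedModule.mk b 1 = LocalizedModule.mk a 1)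

include hb h in
theorem val_eq_algebraMap_iff (c : X.presheaf.stalk y) :
    (F : KStalk X y) = algebraMap (X.presheaf.stalk y) (KStalk X y) c ↔ a = b * c := by
  have hbu : IsUnit (algebraMap (X.presheaf.stalk y) (KStalk X y) b) :=
    IsLocalization.map_units (KStalk X y) (⟨b, hb⟩ : regStalk X y)
  have hinj := algebraMap_KStalk_injective y
  have h' : (F : KStalk X y) * algebraMap (X.presheaf.stalk y) (KStalk X y) b =
      algebraMap (X.presheaf.stalk y) (KStalk X y) a := h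
  constructor
  · intro hF
    apply hinj
    rw [← h', hF, ← map_mul, mul_comm]
  · intro hab
    apply hbu.mul_left_injective
    change (F : KStalk X y) * _ = _ * _
    rw [h', hab, map_mul, mul_comm]

include hb h in
theorem mem_span_of_isEffectiveAt (D : Divisor X) (hD : D.1 y = QuotientGroup.mk F)
    (hE : IsEffectiveAt D y) : a ∈ Ideal.span {b} := by
  obtain ⟨c, hc⟩ := hE
  rw [hD] at hc
  obtain ⟨u, hu⟩ := QuotientGroup.eq.1 hc
  -- F⁻¹ * unit c = alg u, so F * alg u = alg c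
  have h1 : (F : KStalk X y) * algebraMap (X.presheaf.stalk y) (KStalk X y) u.1 =
      algebraMap (X.presheaf.stalk y) (KStalk X y) c.1 := by
    have h2 : F * (Units.map (algebraMap (X.presheaf.stalk y) (KStalk X y)).toMonoidHom u) =
        (IsLocalization.map_units (KStalk X y) c).unit := by
      rw [hu]; group
    exact congrArg Units.val h2
  have h3 : (F : KStalk X y) = algebraMap (X.presheaf.stalk y) (KStalk X y) (c.1 * (u⁻¹ : (X.presheaf.stalk y)ˣ).1) := by
    rw [map_mul, ← h1, mul_assoc, ← map_mul, Units.mul_inv, map_one, mul_one]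
  rw [val_eq_algebraMap_iff F a b hb h] at h3
  exact Ideal.mem_span_singleton'.2 ⟨c.1 * (u⁻¹ : (X.presheaf.stalk y)ˣ).1, by rw [h3, mul_comm]⟩

include hb h in
theorem isEffectiveAt_of_mem_span (D : Divisor X) (hD : D.1 y = QuotientGroup.mk F)
    (hreg : regStalk X y = (X.presheaf.stalk y)⁰) (ha : a ∈ (X.presheaf.stalk y)⁰)
    (hab : a ∈ Ideal.span {b}) : IsEffectiveAt D y := by
  obtain ⟨c, hc⟩ := Ideal.mem_span_singleton'.1 hab
  have hcn : c ∈ (X.presheaf.stalk y)⁰ := by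
    rw [mem_nonZeroDivisors_iff_right]
    intro e he
    apply (mem_nonZeroDivisors_iff_right.1 ha)
    rw [← hc, ← mul_assoc, he, zero_mul]
  have hcr : c ∈ regStalk X y := hreg ▸ hcn
  refine ⟨⟨c, hcr⟩, ?_⟩
  rw [hD]
  congr 1
  apply Units.ext
  exact (val_eq_algebraMap_iff F a b hb h c).2 (by rw [← hc, mul_comm])

include hb h in
theorem mem_span_of_eq_one (D : Divisor X) (hD : D.1 y = QuotientGroup.mk F) (h1 : D.1 y = 1) :
    a ∈ Ideal.span {b} ∧ b ∈ Ideal.span {a} := by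
  rw [hD, QuotientGroup.eq_one_iff] at h1
  obtain ⟨u, hu⟩ := h1
  have h2 : (F : KStalk X y) = algebraMap (X.presheaf.stalk y) (KStalk X y) u.1 :=
    (congrArg Units.val hu).symm
  rw [val_eq_algebraMap_iff F a b hb h] at h2
  refine ⟨Ideal.mem_span_singleton'.2 ⟨u.1, by rw [h2, mul_comm]⟩,
    Ideal.mem_span_singleton'.2 ⟨(u⁻¹ : (X.presheaf.stalk y)ˣ).1, ?_⟩⟩
  rw [h2, mul_comm b, ← mul_assoc, Units.inv_mul, one_mul]

include hb h in
theorem eq_one_of_mem_span (D : Divisor X) (hD : D.1 y = QuotientGroup.mk F)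
    (ha : a ∈ (X.presheaf.stalk y)⁰)
    (hab : a ∈ Ideal.span {b}) (hba : b ∈ Ideal.span {a}) : D.1 y = 1 := by
  obtain ⟨c, hc⟩ := Ideal.mem_span_singleton'.1 hab
  obtain ⟨c', hc'⟩ := Ideal.mem_span_singleton'.1 hba
  have hcc' : c' * c = 1 := by
    have : a * (c' * c) = a * 1 := by
      rw [mul_one, ← mul_assoc, mul_comm a c', hc', mul_comm, hc]
    exact (mul_cancel_left_mem_nonZeroDivisors ha).1 this
  have hcc'2 : c * c' = 1 := by rw [mul_comm]; exact hcc'
  rw [hD, QuotientGroup.eq_one_iff]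
  refine ⟨⟨c, c', hcc'2, hcc'⟩, ?_⟩
  apply Units.ext
  exact ((val_eq_algebraMap_iff F a b hb h c).2 (by rw [← hc, mul_comm])).symm

end Germs

/-- local representation of a divisor on a locally Noetherian scheme as `a / b` with nonzerodivisors `a, b` of an affine
open. -/
theorem exists_local_rep [IsLocallyNoetherian X] (D : Divisor X) (x : X) :
    ∃ (U : X.Opens) (_ : IsAffineOpen U) (_ : x ∈ U) (a b : Γ(X, U)) (_ : a ∈ Γ(X, U)⁰)
      (_ : b ∈ Γ(X, U)⁰) (f : (Γ(kmod X, U))ˣ),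
      (∀ y : U, D.1 y.1 = germOf f y) ∧ (f : Γ(kmod X, U)) * toK X U b = toK X U a := by
  obtain ⟨U', hxU', f', hf'⟩ := D.2 x
  obtain ⟨U, hU, hxU, hUU'⟩ :=
    (TopologicalSpace.Opens.isBasis_iff_nbhd.mp X.isBasis_affineOpens) hxU'
  let f : (Γ(kmod X, U))ˣ := Units.map ((kring X).obj.map (homOfLE hUU').op).hom.toMonoidHom f'
  have hf : ∀ y : U, D.1 y.1 = germOf f y := by
    intro y
    rw [hf' ⟨y.1, hUU' y.2⟩]
    exact congrArg _ (Units.ext rfl)
  letI : Algebra Γ(X, U) Γ(kmod X, U) := (toK X U).toAlgebra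
  haveI : IsLocalization (nonZeroDivisors Γ(X, U)) Γ(kmod X, U) :=
    Groth.Agent.S8864.result X ⟨U, hU⟩
  have halg : ∀ r, algebraMap Γ(X, U) Γ(kmod X, U) r = toK X U r := fun r => rfl
  obtain ⟨⟨a, b⟩, hab⟩ := IsLocalization.surj (nonZeroDivisors Γ(X, U)) (f : Γ(kmod X, U))
  simp only [halg] at hab
  have hbu : IsUnit (toK X U b.1) := isUnit_toK_of_mem_regSub
    (fun y => Groth.Agent.S8898.germ_mem_nonZeroDivisors hU b.1 b.2 y)
  have ha : a ∈ Γ(X, U)⁰ := by
    rw [mem_nonZeroDivisors_iff_right]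
    intro c hc
    apply toK_injective U
    rw [map_zero]
    have h1 : toK X U c * ((f : Γ(kmod X, U)) * toK X U b.1) = 0 := by
      rw [hab, ← map_mul, hc, map_zero]
    exact ((f.isUnit.mul hbu).mul_left_eq_zero).1 h1
  exact ⟨U, hU, hxU, a, b.1, ha, b.2, f, hf, hab⟩

/-- pointwise form of the representation. -/
theorem rep_apply {U : X.Opens} (a b : Γ(X, U)) (f : (Γ(kmod X, U))ˣ)
    (hab : (f : Γ(kmod X, U)) * toK X U b = toK X U a) (y : U) :
    ((Units.map (evalK X U y).toMonoidHom f : (KStalk X y.1)ˣ) : KStalk X y.1) *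
        LocalizedModule.mk (X.presheaf.germ U y.1 y.2 b) 1 =
      LocalizedModule.mk (X.presheaf.germ U y.1 y.2 a) 1 := by
  have := congrArg (fun t : Γ(kmod X, U) => t.1 y) hab
  exact this

end Groth.Agent.Lib.Helper20.DivDepth
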