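import Groth.Prelude.Def_MeroSh

/-!
# Basic API for sections of the sheaf of meromorphic functions `Mero.kmod X` (helper20)
-/

set_option autoImplicit false
universe u
open CategoryTheory CategoryTheory.Limits AlgebraicGeometry TopologicalSpace Opposite

namespace Groth.Agent.Lib.Helper20.Kmod

open Mero

variable {X : Scheme.{u}}

theorem kmod_ext {U : X.Opens} {f g : Γ(Mero.kmod X, U)} (h : ∀ x : U, f.1 x = g.1 x) : f = g :=
  Subtype.ext (funext h)

theorem kmod_zero_apply {U : X.Opens} (x : U) : (0 : Γ(Mero.kmod X, U)).1 x = 0 := rfl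

theorem kmod_add_apply {U : X.Opens} (f g : Γ(Mero.kmod X, U)) (x : U) :
    (f + g).1 x = f.1 x + g.1 x := rfl

/-- local fraction form of a section of `K_X`. -/
theorem exists_local_frac {U : X.Opens} (f : Γ(Mero.kmod X, U)) (x : U) :
    ∃ (W : X.Opens) (_ : x.1 ∈ W) (hWU : W ≤ U) (a : Γ(X, W)) (b : Mero.regSub X W),
      ∀ y : W, f.1 ⟨y.1, hWU y.2⟩ =
        LocalizedModule.mk (X.presheaf.germ W y.1 y.2 a) (Mero.regGerm y b) := by
  obtain ⟨W, hxW, i, a, b, h⟩ := f.2 x
  exact ⟨W, hxW, i.le, a, b, fun y => h y⟩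

theorem mk_eq_zero_iff {x : X} (a : X.presheaf.stalk x) (s : Mero.regStalk X x) :
    (LocalizedModule.mk a s : Mero.KStalk X x) = 0 ↔ a = 0 := by
  constructor
  · intro h
    rw [← LocalizedModule.zero_mk s, LocalizedModule.mk_eq] at h
    obtain ⟨u, hu⟩ := h
    simp only [Submonoid.smul_def, smul_eq_mul, mul_zero] at hu
    have hu1 : (u : X.presheaf.stalk x) ∈ nonZeroDivisors _ :=
      Mero.regStalk_le_nonZeroDivisors x u.2
    have hs1 : (s : X.presheaf.stalk x) ∈ nonZeroDivisors _ :=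
      Mero.regStalk_le_nonZeroDivisors x s.2
    have := (mul_left_mem_nonZeroDivisors_eq_zero_iff hu1).1 hu
    exact (mul_left_mem_nonZeroDivisors_eq_zero_iff hs1).1 this
  · rintro rfl
    exact LocalizedModule.zero_mk s

end Groth.Agent.Lib.Helper20.Kmod
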