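import Groth.Agent.Lib.Helper20Kmod3
import Groth.Agent.S5085

/-!
# `Mero.kmod` (helper20): schematic density of `D(b)`, extension of functions to meromorphic functions
-/

set_option autoImplicit false
set_option linter.style.haveILetI false
universe u
open CategoryTheory CategoryTheory.Limits AlgebraicGeometry TopologicalSpace Opposite

namespace Groth.Agent.Lib.Helper20.Kmod

open Mero nonZeroDivisors Groth.Agent.Lib.Helper2.QCoh

variable {X : Scheme.{u}}

/-- a function whose germs vanish where a regular function `b` is invertible is zero. -/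
theorem eq_zero_of_germ_eq_zero_on_basicOpen {W W' : X.Opens} (b : Mero.regSub X W) (hW' : W' ≤ W)
    (r : Γ(X, W')) (hr : ∀ (y : X) (hy : y ∈ W'), y ∈ X.basicOpen b.1 → X.presheaf.germ W' y hy r = 0) :
    r = 0 := by
  apply TopCat.Presheaf.section_ext X.sheaf W'
  intro x hxW'
  change X.presheaf.germ W' x hxW' r = X.presheaf.germ W' x hxW' 0
  rw [map_zero]
  obtain ⟨W'', hW'', hxW'', hW''le⟩ :=
    (TopologicalSpace.Opens.isBasis_iff_nbhd.mp X.isBasis_affineOpens) hxW'
  set b' : Γ(X, W'') := X.presheaf.map (homOfLE (hW''le.trans hW')).op b.1 with hb'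
  set r' : Γ(X, W'') := X.presheaf.map (homOfLE hW''le).op r with hr'
  have hr0 : r' |_ (X.basicOpen b') = 0 := by
    apply TopCat.Presheaf.section_ext X.sheaf
    intro y hy
    change X.presheaf.germ (X.basicOpen b') y hy (X.presheaf.map _ r') = X.presheaf.germ _ y hy 0
    rw [map_zero, TopCat.Presheaf.germ_res_apply, hr', TopCat.Presheaf.germ_res_apply]
    have hyW'' : y ∈ W'' := X.basicOpen_le b' hy
    refine hr y (hW''le hyW'') ?_
    have : y ∈ W'' ⊓ X.basicOpen b.1 := by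
      rw [← Scheme.basicOpen_res]; exact hy
    exact this.2
  obtain ⟨n, hn⟩ := exists_pow_mul_eq_zero_of_res_basicOpen_eq_zero_of_isCompact X hW''.isCompact r' b' hr0
  have h6 := congrArg (X.presheaf.germ W'' x hxW'') hn
  simp only [hr', hb', map_mul, map_pow, map_zero, TopCat.Presheaf.germ_res_apply] at h6
  have hbn : X.presheaf.germ W x (hW' hxW') b.1 ∈ (X.presheaf.stalk x)⁰ := b.2 ⟨x, hW' hxW'⟩
  exact (mul_left_mem_nonZeroDivisors_eq_zero_iff (pow_mem hbn n)).1 h6

/-- `D(b)` is schematically dense for a regular function `b`. -/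
theorem injective_res_inf_basicOpen {W W' : X.Opens} (b : Mero.regSub X W) (hW' : W' ≤ W)
    (D : X.Opens) (hD : W' ⊓ X.basicOpen b.1 ≤ D) :
    Function.Injective ⇑(X.presheaf.map (homOfLE (inf_le_left : W' ⊓ D ≤ W')).op) := by
  refine (injective_iff_map_eq_zero ((X.presheaf.map (homOfLE (inf_le_left : W' ⊓ D ≤ W')).op).hom)).2 ?_
  intro r hr
  refine eq_zero_of_germ_eq_zero_on_basicOpen b hW' r fun y hy hyb => ?_
  have hyD : y ∈ W' ⊓ D := ⟨hy, hD ⟨hy, hyb⟩⟩
  have h1 : X.presheaf.germ (W' ⊓ D) y hyD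
      (X.presheaf.map (homOfLE (inf_le_left : W' ⊓ D ≤ W')).op r) = 0 := by
    rw [show X.presheaf.map (homOfLE (inf_le_left : W' ⊓ D ≤ W')).op r = 0 from hr, map_zero]
  rwa [TopCat.Presheaf.germ_res_apply] at h1

theorem mk_eq_mk_one_iff {x : X} (a c : X.presheaf.stalk x) (s : Mero.regStalk X x) :
    (LocalizedModule.mk a s : Mero.KStalk X x) = LocalizedModule.mk c 1 ↔ a = s.1 * c := by
  rw [LocalizedModule.mk_eq]
  constructor
  · rintro ⟨w, hw⟩
    simp only [one_smul, Submonoid.smul_def, smul_eq_mul] at hw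
    have hw1 : (w : X.presheaf.stalk x) ∈ (X.presheaf.stalk x)⁰ :=
      Mero.regStalk_le_nonZeroDivisors x w.2
    exact mul_cancel_left_mem_nonZeroDivisors hw1 |>.1 hw
  · intro h
    exact ⟨1, by simp only [one_smul, Submonoid.smul_def, smul_eq_mul]; exact h⟩

theorem mk_mul_mk_one_pow {x : X} (a : X.presheaf.stalk x) (s : Mero.regStalk X x) (n : ℕ) :
    (LocalizedModule.mk a (1 : Mero.regStalk X x) : Mero.KStalk X x) *
      (LocalizedModule.mk 1 s : Mero.KStalk X x) ^ n = LocalizedModule.mk a (s ^ n) := by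
  induction n with
  | zero => simp
  | succ n ih =>
    rw [pow_succ, ← mul_assoc, ih]
    exact LocalizedModule.mk_mul_mk.trans (Mero.mk_congr (mul_one _) (by rw [pow_succ]))

/-- extension of a function on `V' ⊇ D(b)`, `b` regular on the affine open `W ⊇ V'`, to a meromorphic function on `W`. -/
theorem exists_kmod_extension {W : X.Opens} (hW : IsAffineOpen W) (b : Γ(X, W))
    (hb : b ∈ Mero.regSub X W) (V' : X.Opens) (hV'W : V' ≤ W) (hbV : X.basicOpen b ≤ V')
    (g : Γ(X, V')) :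
    ∃ s : Γ(Mero.kmod X, W), (Mero.kmod X).presheaf.map (homOfLE hV'W).op s = Mero.toK X V' g := by
  have hDW : X.basicOpen b ≤ W := X.basicOpen_le b
  haveI : IsLocalization.Away b Γ(X, X.basicOpen b) := hW.isLocalization_basicOpen b
  have halg : ∀ r : Γ(X, W), algebraMap Γ(X, W) Γ(X, X.basicOpen b) r =
      X.presheaf.map (homOfLE hDW).op r := fun r => rfl
  obtain ⟨⟨a, ⟨_, n, rfl⟩⟩, ha⟩ := IsLocalization.surj (Submonoid.powers b)
    (X.presheaf.map (homOfLE hbV).op g : Γ(X, X.basicOpen b))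
  simp only [halg] at ha
  refine ⟨Mero.toK X W a * (invReg ⟨b, hb⟩) ^ n, ?_⟩
  have hinj := Groth.Agent.S5085.result X V' (X.basicOpen b) hbV (fun W1 hW1 =>
    injective_res_inf_basicOpen ⟨b, hb⟩ (hW1.trans hV'W) (X.basicOpen b) inf_le_right)
  apply hinj
  apply kmod_ext
  intro y
  have hyW : y.1 ∈ W := hDW y.2
  change (Mero.toK X W a * (invReg ⟨b, hb⟩) ^ n).1 ⟨y.1, hyW⟩ = (Mero.toK X V' g).1 ⟨y.1, hbV y.2⟩
  rw [Mero.kmod_mul_apply, kmod_pow_apply, Mero.toK_apply, invReg_apply, Mero.toK_apply,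
    mk_mul_mk_one_pow, mk_eq_mk_one_iff]
  have h1 := congrArg (X.presheaf.germ (X.basicOpen b) y.1 y.2) ha
  simp only [map_mul, map_pow, TopCat.Presheaf.germ_res_apply] at h1
  rw [← h1, mul_comm]
  rfl

/-- if an open `V'` contains the points of a finite set `T` of primes of the affine open `W` whose avoidance forces
nonzerodivisors, then some nonzerodivisor `b` has `D(b) ⊆ V'`. -/
theorem exists_nzd_basicOpen_le {W : X.Opens} (hW : IsAffineOpen W)
    (T : Finset (PrimeSpectrum Γ(X, W)))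
    (hii : ∀ s : Γ(X, W), (∀ q ∈ T, s ∉ q.asIdeal) → s ∈ Γ(X, W)⁰)
    (V' : X.Opens) (hT : ∀ q ∈ T, hW.fromSpec q ∈ V') :
    ∃ b : Γ(X, W), b ∈ Γ(X, W)⁰ ∧ X.basicOpen b ≤ V' := by
  classical
  set Z : Set (PrimeSpectrum Γ(X, W)) := (hW.fromSpec ⁻¹' (V' : Set X))ᶜ with hZ
  have hZc : IsClosed Z := by
    rw [hZ, isClosed_compl_iff]
    exact V'.isOpen.preimage hW.fromSpec.continuous
  set I : Ideal Γ(X, W) := PrimeSpectrum.vanishingIdeal Z with hI
  have hzl : PrimeSpectrum.zeroLocus (I : Set Γ(X, W)) = Z := by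
    rw [hI, PrimeSpectrum.zeroLocus_vanishingIdeal_eq_closure, hZc.closure_eq]
  have hnot : ¬ ((I : Set Γ(X, W)) ⊆
      ⋃ q ∈ ((T.image PrimeSpectrum.asIdeal : Finset (Ideal Γ(X, W))) : Set (Ideal Γ(X, W))),
        ((fun q : Ideal Γ(X, W) => q) q : Set Γ(X, W))) := by
    intro hsub
    rw [Ideal.subset_union_prime (⊥ : Ideal Γ(X, W)) ⊥] at hsub
    · obtain ⟨q', hq', hle⟩ := hsub
      obtain ⟨q, hqT, rfl⟩ := Finset.mem_image.1 hq'
      have hqZ : q ∈ Z := by
        rw [← hzl, PrimeSpectrum.mem_zeroLocus]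
        exact hle
      exact hqZ (hT q hqT)
    · intro q' hq' _ _
      obtain ⟨q, _, rfl⟩ := Finset.mem_image.1 hq'
      exact q.isPrime
  rw [Set.not_subset] at hnot
  obtain ⟨b, hbI, hbT⟩ := hnot
  refine ⟨b, hii b ?_, ?_⟩
  · intro q hq hbq
    apply hbT
    simp only [Finset.coe_image, Set.mem_image, Set.iUnion_exists,
      Set.biUnion_and', Set.iUnion_iUnion_eq_right, Set.mem_iUnion, SetLike.mem_coe, exists_prop]
    exact ⟨q, hq, hbq⟩
  · intro y hy
    have hyW : y ∈ W := X.basicOpen_le b hy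
    by_contra hyV
    have hpZ : hW.primeIdealOf ⟨y, hyW⟩ ∈ Z := by
      intro hcon
      have h2 : hW.fromSpec (hW.primeIdealOf ⟨y, hyW⟩) ∈ V' := hcon
      rw [hW.fromSpec_primeIdealOf ⟨y, hyW⟩] at h2
      exact hyV h2
    rw [← hzl, PrimeSpectrum.mem_zeroLocus] at hpZ
    rw [Groth.Agent.Lib.Helper2.mem_basicOpen_iff_notMem_primeIdealOf hW y hyW] at hy
    exact hy (hpZ hbI)

end Groth.Agent.Lib.Helper20.Kmod
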