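import Groth.Prelude.Def_MeroDiv
import Groth.Prelude.Def_Pic
import Groth.Agent.Lib.Helper20Kmod4
import Groth.Agent.S5097
import Groth.Agent.S10856

set_option autoImplicit false
universe u
open CategoryTheory CategoryTheory.Limits AlgebraicGeometry TopologicalSpace Opposite

namespace Groth.Agent.Lib.Helper20.Kmod5

open Mero Groth.Agent.Lib.Helper20.Kmod

variable {X : Scheme.{u}}

/-- local form: a meromorphic function whose value at `x` is a germ of a function is a function near `x`. -/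
theorem exists_local_toK {W : X.Opens} (s : Γ(kmod X, W)) (x : W)
    (hx : s.1 x ∈ (algebraMap (X.presheaf.stalk x.1) (KStalk X x.1)).range) :
    ∃ (W' : X.Opens) (_ : x.1 ∈ W') (hW' : W' ≤ W) (c : Γ(X, W')),
      ∀ y : W', s.1 ⟨y.1, hW' y.2⟩ = LocalizedModule.mk (X.presheaf.germ W' y.1 y.2 c) 1 := by
  obtain ⟨cx, hcx⟩ := hx
  rw [Groth.Agent.S10856.algebraMap_eq_mk] at hcx
  obtain ⟨W0, hxW0, hW0W, a, b, hfrac⟩ := exists_local_frac s x
  obtain ⟨W1, hxW1, c, rfl⟩ := X.presheaf.exists_germ_eq cx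
  have h1 := hfrac ⟨x.1, hxW0⟩
  change s.1 x = _ at h1
  rw [← hcx, eq_comm, Groth.Agent.S10856.mk_eq_mk_one_iff] at h1
  let W2 : X.Opens := W0 ⊓ W1
  have hxW2 : x.1 ∈ W2 := ⟨hxW0, hxW1⟩
  let a2 : Γ(X, W2) := X.presheaf.map (homOfLE (inf_le_left : W2 ≤ W0)).op a
  let b2 : Γ(X, W2) := X.presheaf.map (homOfLE (inf_le_left : W2 ≤ W0)).op b.1
  let c2 : Γ(X, W2) := X.presheaf.map (homOfLE (inf_le_right : W2 ≤ W1)).op c
  have h2 : X.presheaf.germ W2 x.1 hxW2 a2 = X.presheaf.germ W2 x.1 hxW2 (b2 * c2) := by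
    rw [map_mul, TopCat.Presheaf.germ_res_apply, TopCat.Presheaf.germ_res_apply,
      TopCat.Presheaf.germ_res_apply]
    exact h1
  obtain ⟨W3, hxW3, i1, i2, h3⟩ := X.presheaf.germ_eq x.1 hxW2 hxW2 a2 (b2 * c2) h2
  have hW3W : W3 ≤ W := fun y hy => hW0W (i1.le hy).1
  refine ⟨W3, hxW3, hW3W, X.presheaf.map (homOfLE (fun y hy => (i1.le hy).2 : W3 ≤ W1)).op c, ?_⟩
  intro y
  have hyW2 : y.1 ∈ W2 := i1.le y.2
  have h4 := hfrac ⟨y.1, hyW2.1⟩
  change s.1 ⟨y.1, hW3W y.2⟩ = _ at h4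
  rw [h4, Groth.Agent.S10856.mk_eq_mk_one_iff]
  have h5 := congrArg (X.presheaf.germ W3 y.1 y.2) h3
  simp only [a2, b2, c2, map_mul, TopCat.Presheaf.germ_res_apply] at h5
  rw [TopCat.Presheaf.germ_res_apply]
  exact h5

/-- a meromorphic function all of whose values are germs of functions is a function. -/
theorem exists_toK_eq {W : X.Opens} (s : Γ(kmod X, W))
    (hs : ∀ x : W, s.1 x ∈ (algebraMap (X.presheaf.stalk x.1) (KStalk X x.1)).range) :
    ∃ r : Γ(X, W), toK X W r = s := by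
  choose W' hxW' hW'W c hc using fun x : W => exists_local_toK s x (hs x)
  have hcov : W ≤ ⨆ x : W, W' x := fun y hy => Opens.mem_iSup.2 ⟨⟨y, hy⟩, hxW' ⟨y, hy⟩⟩
  have hcov' : (⨆ x : W, W' x) = W := le_antisymm (iSup_le hW'W) hcov
  have hcompat : TopCat.Presheaf.IsCompatible X.presheaf W' c := by
    intro x x'
    apply TopCat.Presheaf.section_ext X.sheaf
    intro z hz
    have hinj := algebraMap_KStalk_injective z
    apply hinj
    change algebraMap _ _ (X.presheaf.germ _ z hz (X.presheaf.map (homOfLE inf_le_left).op (c x))) =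
      algebraMap _ _ (X.presheaf.germ _ z hz (X.presheaf.map (homOfLE inf_le_right).op (c x')))
    rw [TopCat.Presheaf.germ_res_apply, TopCat.Presheaf.germ_res_apply]
    rw [Groth.Agent.S10856.algebraMap_eq_mk, Groth.Agent.S10856.algebraMap_eq_mk]
    rw [← hc x ⟨z, hz.1⟩, ← hc x' ⟨z, hz.2⟩]
  obtain ⟨r0, hr0, -⟩ := X.sheaf.existsUnique_gluing' W' W (fun x => homOfLE (hW'W x)) hcov c hcompat
  let r : Γ(X, W) := r0
  have hr : ∀ i : W, X.presheaf.map (homOfLE (hW'W i)).op r = c i := hr0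
  refine ⟨r, ?_⟩
  apply kmod_ext
  intro y
  have h1 := hc y ⟨y.1, hxW' y⟩
  change s.1 y = _ at h1
  rw [h1, ← hr y, TopCat.Presheaf.germ_res_apply]
  rfl

end Groth.Agent.Lib.Helper20.Kmod5
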