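import Groth.Prelude.Def_MeroDiv
import Groth.Agent.Lib.Helper20DivDepth
import Groth.Agent.Lib.Helper20Kmod5
import Groth.Agent.S8904
import Groth.Agent.S8863
import Groth.Agent.S10851
import Groth.Agent.S12513
import Mathlib.RingTheory.KrullDimension.Zero

/-!
# Divisors on absolute curves (helper20)
-/

set_option autoImplicit false
set_option linter.style.haveILetI false
universe u
open CategoryTheory CategoryTheory.Limits AlgebraicGeometry TopologicalSpace Opposite nonZeroDivisors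

namespace Groth.Agent.Lib.Helper20.AbsCurve

open Mero Groth.Agent.Lib.Helper20.Kmod Groth.Agent.Lib.Helper20.DivDepth

variable {X : Scheme.{u}}

/-- specialization inside an affine open in terms of prime ideals. -/
theorem primeIdealOf_le_of_specializes {W : X.Opens} (hW : IsAffineOpen W) (x y : X) (hxW : x ∈ W)
    (hyW : y ∈ W) (h : x ⤳ y) :
    (hW.primeIdealOf ⟨x, hxW⟩).asIdeal ≤ (hW.primeIdealOf ⟨y, hyW⟩).asIdeal := by
  intro s hs
  by_contra hsy
  have hy : y ∈ X.basicOpen s :=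
    (Groth.Agent.Lib.Helper2.mem_basicOpen_iff_notMem_primeIdealOf hW y hyW s).2 hsy
  have hx : x ∈ X.basicOpen s := h.mem_open (X.basicOpen s).isOpen hy
  exact (Groth.Agent.Lib.Helper2.mem_basicOpen_iff_notMem_primeIdealOf hW x hxW s).1 hx hs

theorem eq_of_primeIdealOf_eq {W : X.Opens} (hW : IsAffineOpen W) (x y : X) (hxW : x ∈ W)
    (hyW : y ∈ W) (h : hW.primeIdealOf ⟨x, hxW⟩ = hW.primeIdealOf ⟨y, hyW⟩) : x = y := by
  have h1 := hW.fromSpec_primeIdealOf ⟨x, hxW⟩
  have h2 := hW.fromSpec_primeIdealOf ⟨y, hyW⟩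
  rw [h] at h1
  exact h1.symm.trans h2

theorem ringKrullDim_stalk_eq_height {W : X.Opens} (hW : IsAffineOpen W) (x : X) (hxW : x ∈ W) :
    ringKrullDim (X.presheaf.stalk x) = (hW.primeIdealOf ⟨x, hxW⟩).asIdeal.height := by
  letI : Algebra Γ(X, W) (X.presheaf.stalk x) :=
    TopCat.Presheaf.algebra_section_stalk X.presheaf (⟨x, hxW⟩ : W)
  haveI : IsLocalization.AtPrime (X.presheaf.stalk x) (hW.primeIdealOf ⟨x, hxW⟩).asIdeal :=
    hW.isLocalization_stalk ⟨x, hxW⟩
  exact IsLocalization.AtPrime.ringKrullDim_eq_height _ _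

/-- on a quasi-compact scheme whose closed points have one-dimensional local rings, the local rings at the
non-closed points are zero-dimensional. -/
theorem ringKrullDim_stalk_le_zero_of_not_isClosed [CompactSpace X]
    (hC : ∀ x : X, IsClosed ({x} : Set X) → ringKrullDim (X.presheaf.stalk x) = 1)
    (x : X) (hx : ¬ IsClosed ({x} : Set X)) : ringKrullDim (X.presheaf.stalk x) ≤ 0 := by
  obtain ⟨y, hy, hycl⟩ := (isClosed_closure (s := ({x} : Set X))).exists_closed_singleton
    ⟨x, subset_closure rfl⟩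
  have hxy : x ⤳ y := specializes_iff_mem_closure.2 hy
  have hne : x ≠ y := fun h => hx (h ▸ hycl)
  obtain ⟨W, hW, hyW, -⟩ :=
    (TopologicalSpace.Opens.isBasis_iff_nbhd.mp X.isBasis_affineOpens) (Opens.mem_top y)
  have hxW : x ∈ W := hxy.mem_open W.isOpen hyW
  have hle := primeIdealOf_le_of_specializes hW x y hxW hyW hxy
  have hlt : (hW.primeIdealOf ⟨x, hxW⟩).asIdeal < (hW.primeIdealOf ⟨y, hyW⟩).asIdeal := by
    refine lt_of_le_of_ne hle ?_
    intro h
    exact hne (eq_of_primeIdealOf_eq hW x y hxW hyW (PrimeSpectrum.ext h))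
  have h1 : ((hW.primeIdealOf ⟨y, hyW⟩).asIdeal.height : WithBot ℕ∞) = 1 := by
    rw [← ringKrullDim_stalk_eq_height hW y hyW]; exact hC y hycl
  have h1' : (hW.primeIdealOf ⟨y, hyW⟩).asIdeal.height = 1 := by exact_mod_cast h1
  haveI : (hW.primeIdealOf ⟨y, hyW⟩).asIdeal.FiniteHeight := by
    rw [Ideal.finiteHeight_iff]; right; rw [h1']; exact ENat.one_ne_top
  have h2 := Ideal.height_strict_mono_of_isPrime_of_isPrime hlt
  rw [h1'] at h2
  rw [ringKrullDim_stalk_eq_height hW x hxW]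
  have h3 : (hW.primeIdealOf ⟨x, hxW⟩).asIdeal.height = 0 := Order.lt_one_iff.1 h2
  rw [h3]; rfl

/-- in a zero-dimensional ring the nonzerodivisors are units. -/
theorem isUnit_of_mem_nonZeroDivisors_of_krullDim_le_zero {R : Type*} [CommRing R] [IsLocalRing R]
    (hR : ringKrullDim R ≤ 0) (s : R) (hs : s ∈ R⁰) : IsUnit s := by
  have : Ring.KrullDimLE 0 R := Ring.krullDimLE_iff.2 hR
  by_contra hsu
  have hnil : IsNilpotent s := Ring.KrullDimLE.isNilpotent_iff_mem_nonunits.2 hsu
  obtain ⟨n, hn⟩ := hnil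
  exact zero_notMem_nonZeroDivisors (hn ▸ pow_mem hs n)

/-- on a Noetherian affine open, a nonzerodivisor fails to be a unit at only finitely many points with a
one-dimensional local ring. -/
theorem finite_setOf_not_isUnit_germ {W : X.Opens} (hW : IsAffineOpen W) [IsNoetherianRing Γ(X, W)]
    (a : Γ(X, W)) (ha : a ∈ Γ(X, W)⁰) :
    {y : X | ∃ hy : y ∈ W, ringKrullDim (X.presheaf.stalk y) = 1 ∧
      ¬ IsUnit (X.presheaf.germ W y hy a)}.Finite := by
  classical
  have hfin : (Ideal.span {a}).minimalPrimes.Finite :=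
    Ideal.finite_minimalPrimes_of_isNoetherianRing _ _
  let φ : X → Ideal Γ(X, W) := fun y =>
    if hy : y ∈ W then (hW.primeIdealOf ⟨y, hy⟩).asIdeal else ⊤
  refine Set.Finite.of_finite_image (f := φ) (hfin.subset ?_) ?_
  · rintro _ ⟨y, ⟨hy, hdim, hnu⟩, rfl⟩
    simp only [φ, dif_pos hy]
    have hay : a ∈ (hW.primeIdealOf ⟨y, hy⟩).asIdeal := by
      by_contra h
      apply hnu
      rw [← Scheme.mem_basicOpen]
      exact (Groth.Agent.Lib.Helper2.mem_basicOpen_iff_notMem_primeIdealOf hW y hy a).2 h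
    refine ⟨⟨(hW.primeIdealOf ⟨y, hy⟩).isPrime, ?_⟩, ?_⟩
    · rw [Ideal.span_le]; exact Set.singleton_subset_iff.2 hay
    · rintro q ⟨hqp, hqa⟩ hqle
      by_contra hnle
      have hlt : q < (hW.primeIdealOf ⟨y, hy⟩).asIdeal := lt_of_le_not_ge hqle hnle
      have h1 : ((hW.primeIdealOf ⟨y, hy⟩).asIdeal.height : WithBot ℕ∞) = 1 := by
        rw [← ringKrullDim_stalk_eq_height hW y hy]; exact hdim
      have h1' : (hW.primeIdealOf ⟨y, hy⟩).asIdeal.height = 1 := by exact_mod_cast h1
      haveI : (hW.primeIdealOf ⟨y, hy⟩).asIdeal.FiniteHeight := by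
        rw [Ideal.finiteHeight_iff]; right; rw [h1']; exact ENat.one_ne_top
      have h2 := Ideal.height_strict_mono_of_isPrime_of_isPrime hlt
      rw [h1'] at h2
      have h3 : q.height = 0 := Order.lt_one_iff.1 h2
      have hqmin : q ∈ minimalPrimes Γ(X, W) := Ideal.height_eq_zero_iff.1 h3
      have haq : a ∈ q := hqa (Ideal.subset_span rfl)
      exact Set.disjoint_left.1 (Ideal.disjoint_nonZeroDivisors_of_mem_minimalPrimes hqmin) haq ha
  · rintro y ⟨hy, -, -⟩ y' ⟨hy', -, -⟩ h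
    simp only [φ, dif_pos hy, dif_pos hy'] at h
    exact eq_of_primeIdealOf_eq hW y y' hy hy' (PrimeSpectrum.ext h)

/-- on a locally Noetherian scheme every unit of `K_{X,x}` is a quotient of two germs of regular sections. -/
theorem exists_rep_of_unit [IsLocallyNoetherian X] (x : X) (u : (KStalk X x)ˣ) :
    ∃ a b : regStalk X x, (u : KStalk X x) * algebraMap (X.presheaf.stalk x) (KStalk X x) b.1 =
      algebraMap (X.presheaf.stalk x) (KStalk X x) a.1 := by
  obtain ⟨a', b, hab⟩ := IsLocalization.exists_mk'_eq (regStalk X x) (u : KStalk X x)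
  have h1 : (u : KStalk X x) * algebraMap (X.presheaf.stalk x) (KStalk X x) b.1 =
      algebraMap (X.presheaf.stalk x) (KStalk X x) a' := by
    rw [← hab]; exact IsLocalization.mk'_spec _ _ _
  have hinj := algebraMap_KStalk_injective x
  have ha' : a' ∈ (X.presheaf.stalk x)⁰ := by
    rw [mem_nonZeroDivisors_iff_right]
    intro c hc
    have h2 : (u : KStalk X x) * algebraMap (X.presheaf.stalk x) (KStalk X x) (b.1 * c) = 0 := by
      rw [map_mul, ← mul_assoc, h1, ← map_mul, mul_comm, hc, map_zero]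
    have h3 : algebraMap (X.presheaf.stalk x) (KStalk X x) (b.1 * c) = 0 :=
      u.isUnit.mul_right_eq_zero.1 h2
    have h4 : b.1 * c = 0 := hinj (h3.trans (map_zero _).symm)
    have hb : b.1 ∈ (X.presheaf.stalk x)⁰ := regStalk_le_nonZeroDivisors x b.2
    exact (mem_nonZeroDivisors_iff_right.1 hb) c (by rw [mul_comm]; exact h4)
  have ha'r : a' ∈ regStalk X x := by
    rw [Groth.Agent.S8863.result X x]; exact ha'
  exact ⟨⟨a', ha'r⟩, b, h1⟩

/-- the unit `a / b` of `K_X(W)` for regular sections `a`, `b`. -/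
theorem exists_local_unit {W : X.Opens} (a b : regSub X W) :
    ∃ f : (Γ(kmod X, W))ˣ, (f : Γ(kmod X, W)) * toK X W b.1 = toK X W a.1 := by
  have ha := Groth.Agent.Lib.Helper20.Kmod.isUnit_toK_of_mem_regSub a.2
  have hb := Groth.Agent.Lib.Helper20.Kmod.isUnit_toK_of_mem_regSub b.2
  refine ⟨ha.unit * hb.unit⁻¹, ?_⟩
  rw [Units.val_mul, mul_assoc]
  have : ((hb.unit⁻¹ : (Γ(kmod X, W))ˣ) : Γ(kmod X, W)) * toK X W b.1 = 1 := by
    have h := hb.unit.inv_mul
    rwa [IsUnit.unit_spec] at h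
  rw [this, mul_one, IsUnit.unit_spec]

/-- the class of `a / b` is trivial where `a` and `b` are units. -/
theorem mk_eq_one_of_isUnit {y : X} (F : (KStalk X y)ˣ) (a b : X.presheaf.stalk y)
    (ha : IsUnit a) (hb : IsUnit b)
    (h : (F : KStalk X y) * algebraMap (X.presheaf.stalk y) (KStalk X y) b =
      algebraMap (X.presheaf.stalk y) (KStalk X y) a) :
    (QuotientGroup.mk F : Germ X y) = 1 := by
  rw [QuotientGroup.eq_one_iff]
  obtain ⟨a', haa'⟩ := ha.exists_right_inv
  obtain ⟨b', hbb'⟩ := hb.exists_right_inv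
  apply Groth.Agent.S10851.mem_stalkUnits_of_range
  · refine ⟨a * b', ?_⟩
    rw [map_mul, ← h, mul_assoc, ← map_mul, hbb', map_one, mul_one]
  · refine ⟨b * a', ?_⟩
    have h1 : (F : KStalk X y) * algebraMap (X.presheaf.stalk y) (KStalk X y) (b * a') = 1 := by
      rw [map_mul, ← mul_assoc, h, ← map_mul, haa', map_one]
    exact (Units.inv_eq_of_mul_eq_one_right h1).symm

end Groth.Agent.Lib.Helper20.AbsCurve
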