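import Groth.Agent.Lib.Helper28DepthCM2
import Mathlib.RingTheory.Ideal.Height
import Mathlib.Algebra.Module.LocalizedModule.IsLocalization
import Mathlib.Algebra.Module.Torsion.Free
import Mathlib.Algebra.Module.ULift
import Mathlib.RingTheory.Finiteness.Nakayama

/-!
# Depth library, part 7 (helper28): Cohen–Macaulay rings and heights, (S_k) for quotients,
(S_1) and embedded primes, torsion-free modules, reflexive modules at primes, universe-free forms
-/

set_option autoImplicit false
universe u v w u' v'

namespace Groth.Agent.Lib.Helper28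
open RingTheory.Sequence CategoryTheory Abelian
open scoped Pointwise

section CMRing

variable {R : Type u} [CommRing R]

/-- `LocalizedModule p R ≃ R_p` as `R_p`-modules. -/
noncomputable def localizedModuleSelfEquiv (p : Ideal R) [p.IsPrime] :
    LocalizedModule p.primeCompl R ≃ₗ[Localization.AtPrime p] Localization.AtPrime p :=
  (IsLocalizedModule.linearEquiv p.primeCompl (LocalizedModule.mkLinearMap p.primeCompl R)
    (Algebra.linearMap R (Localization.AtPrime p))).extendScalarsOfIsLocalization p.primeCompl
      (Localization.AtPrime p)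

theorem depth_localizedModule_self (p : Ideal R) [p.IsPrime] :
    LocCoh.depth (Localization.AtPrime p) (LocalizedModule p.primeCompl R) =
      LocCoh.depth (Localization.AtPrime p) (Localization.AtPrime p) :=
  idealDepth_congr (localizedModuleSelfEquiv p) _

theorem supportDim_localization_self (p : Ideal R) [p.IsPrime] :
    Module.supportDim (Localization.AtPrime p) (Localization.AtPrime p) =
      ((p.height : ℕ∞) : WithBot ℕ∞) := by
  rw [Module.supportDim_self_eq_ringKrullDim,
    IsLocalization.AtPrime.ringKrullDim_eq_height p (Localization.AtPrime p)]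

variable [IsNoetherianRing R]

theorem idealDepth_self_eq_height_of_isCohenMacaulayRing (hR : LocCoh.IsCohenMacaulayRing R)
    (a : Ideal R) (_ha : a ≠ ⊤) : LocCoh.idealDepth a R = a.height := by
  rw [idealDepth_eq_iInf_depth_localization a R]
  have key : ∀ p : PrimeSpectrum R,
      LocCoh.depth (Localization.AtPrime p.asIdeal) (LocalizedModule p.asIdeal.primeCompl R) =
        p.asIdeal.height := by
    intro p
    rw [depth_localizedModule_self]
    have h := (hR.isCohenMacaulayLocalRing_localization p.asIdeal).supportDim_eq_depth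
    rw [supportDim_localization_self] at h
    exact (WithBot.coe_injective h).symm
  simp_rw [key]
  apply le_antisymm
  · rw [Ideal.height_eq_inf_minimalPrimes]
    refine le_iInf₂ fun J hJ => ?_
    have hJp : J.IsPrime := hJ.1.1
    exact iInf₂_le (⟨J, hJp⟩ : PrimeSpectrum R) hJ.1.2
  · exact le_iInf₂ fun p hp => Ideal.height_mono hp

theorem isCohenMacaulayRing_of_forall_idealDepth_eq_height
    (h : ∀ a : Ideal R, a ≠ ⊤ → LocCoh.idealDepth a R = a.height) :
    LocCoh.IsCohenMacaulayRing R := by
  refine ⟨fun p hp => ?_⟩
  have h1 := h p hp.ne_top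
  have h2 : LocCoh.idealDepth p R ≤ LocCoh.depth (Localization.AtPrime p)
      (LocalizedModule p.primeCompl R) := idealDepth_le_depth_localization p R le_rfl
  rw [depth_localizedModule_self, h1] at h2
  have h3 : ((LocCoh.depth (Localization.AtPrime p) (Localization.AtPrime p) : ℕ∞) :
      WithBot ℕ∞) ≤ Module.supportDim (Localization.AtPrime p) (Localization.AtPrime p) :=
    depth_le_supportDim
  refine { supportDim_eq_depth := le_antisymm ?_ h3 }
  rw [supportDim_localization_self]
  exact WithBot.coe_le_coe.mpr h2

theorem isCohenMacaulayRing_iff_idealDepth_eq_height :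
    LocCoh.IsCohenMacaulayRing R ↔ ∀ a : Ideal R, a ≠ ⊤ → LocCoh.idealDepth a R = a.height :=
  ⟨idealDepth_self_eq_height_of_isCohenMacaulayRing,
    isCohenMacaulayRing_of_forall_idealDepth_eq_height⟩

end CMRing


section SkQuot

variable {R : Type u} [CommRing R] [IsNoetherianRing R]
  {M : Type v} [AddCommGroup M] [Module R M] [Module.Finite R M]

theorem hasSk_quot_ofList {k : ℕ} (hM : LocCoh.HasSk k R M) (rs : List R)
    (hrs : IsWeaklyRegular M rs) (hr : rs.length ≤ k) :
    LocCoh.HasSk (k - rs.length) R (M ⧸ (Ideal.ofList rs • ⊤ : Submodule R M)) := by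
  intro p hp
  set N := M ⧸ (Ideal.ofList rs • ⊤ : Submodule R M) with hN
  by_cases hNp : Subsingleton (LocalizedModule p.primeCompl N)
  · rw [depth_eq_top_of_subsingleton]
    exact le_top
  rw [not_subsingleton_iff_nontrivial] at hNp
  let P : PrimeSpectrum R := ⟨p, hp⟩
  have hPN : P ∈ Module.support R N := Module.mem_support_iff.mpr hNp
  have hPN' : P ∈ Module.support R M ∩ PrimeSpectrum.zeroLocus (Ideal.ofList rs : Set R) := by
    rw [← Module.support_quotient]; exact hPN
  have hMp : Nontrivial (LocalizedModule p.primeCompl M) := Module.mem_support_iff.mp hPN'.1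
  have hrsp : ∀ r ∈ rs, r ∈ p := fun r hr' =>
    (PrimeSpectrum.mem_zeroLocus _ _).mp hPN'.2 (Ideal.subset_span hr')
  -- the localized sequence
  have hreg' : IsWeaklyRegular (LocalizedModule p.primeCompl M)
      (rs.map (algebraMap R (Localization.AtPrime p))) :=
    hrs.of_isLocalizedModule (Localization.AtPrime p) p.primeCompl
      (LocalizedModule.mkLinearMap p.primeCompl M)
  have hmem' : ∀ r ∈ rs.map (algebraMap R (Localization.AtPrime p)),
      r ∈ IsLocalRing.maximalIdeal (Localization.AtPrime p) := by
    intro r hr'
    obtain ⟨a, ha, rfl⟩ := List.mem_map.mp hr'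
    rw [← Localization.AtPrime.map_eq_maximalIdeal]
    exact Ideal.mem_map_of_mem _ (hrsp a ha)
  have hmM : IsLocalRing.maximalIdeal (Localization.AtPrime p) •
      (⊤ : Submodule (Localization.AtPrime p) (LocalizedModule p.primeCompl M)) ≠ ⊤ :=
    maximalIdeal_smul_top_ne_top
  have hdepth := idealDepth_quot_ofList_add_length
    (IsLocalRing.maximalIdeal (Localization.AtPrime p)) (LocalizedModule p.primeCompl M)
    hmM _ hmem' hreg'
  have hdim := Module.supportDim_add_length_eq_supportDim_of_isRegular _
    (isRegular_of_isWeaklyRegular_of_mem hreg' hmem' hmM)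
  rw [idealDepth_congr (localizedQuotOfListEquiv p M rs), List.length_map] at hdepth
  rw [Module.supportDim_eq_of_equiv (localizedQuotOfListEquiv p M rs), List.length_map] at hdim
  apply min_le_of_forall_nat
  intro j hjk hjd
  have h1 : (((j + rs.length : ℕ) : ℕ∞)) ≤ LocCoh.depth (Localization.AtPrime p)
      (LocalizedModule p.primeCompl M) := by
    refine le_of_min_le (hM p) (by omega) ?_
    rw [← hdim]
    push_cast
    exact add_le_add_left hjd _
  unfold LocCoh.depth at h1 ⊢
  rw [← hdepth] at h1
  push_cast at h1
  exact (ENat.add_le_add_iff_right (ENat.natCast_ne_top rs.length)).mp h1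

end SkQuot


section S1

variable {R : Type u} [CommRing R] [IsNoetherianRing R]
  {M : Type v} [AddCommGroup M] [Module R M]

theorem maximalIdeal_mem_associatedPrimes_localization_iff (p : Ideal R) [p.IsPrime] :
    IsLocalRing.maximalIdeal (Localization.AtPrime p) ∈
        associatedPrimes (Localization.AtPrime p) (LocalizedModule p.primeCompl M) ↔
      p ∈ associatedPrimes R M := by
  have h := Module.associatedPrimes.preimage_comap_associatedPrimes_eq_associatedPrimes_of_isLocalizedModule
    p.primeCompl (Localization.AtPrime p) (LocalizedModule.mkLinearMap p.primeCompl M)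
  have hc : (IsLocalRing.maximalIdeal (Localization.AtPrime p)).comap
      (algebraMap R (Localization.AtPrime p)) = p :=
    IsLocalization.AtPrime.under_maximalIdeal (Localization.AtPrime p) p
  rw [← h, Set.mem_preimage, hc]

variable [Module.Finite R M]

theorem depth_localization_eq_zero_iff (p : Ideal R) [p.IsPrime] :
    LocCoh.depth (Localization.AtPrime p) (LocalizedModule p.primeCompl M) = 0 ↔
      p ∈ associatedPrimes R M := by
  rw [depth_eq_zero_iff, maximalIdeal_mem_associatedPrimes_localization_iff]

omit [IsNoetherianRing R] in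
theorem supportDim_localization_eq_zero_iff (p : Ideal R) [hp : p.IsPrime]
    (hpM : (⟨p, hp⟩ : PrimeSpectrum R) ∈ Module.support R M) :
    Module.supportDim (Localization.AtPrime p) (LocalizedModule p.primeCompl M) = 0 ↔
      p ∈ (Module.annihilator R M).minimalPrimes := by
  rw [supportDim_localization_eq_height p M hpM]
  have h0 : (((Order.height (⟨⟨p, hp⟩, hpM⟩ : Module.support R M) : ℕ∞) : WithBot ℕ∞) = 0) ↔
      Order.height (⟨⟨p, hp⟩, hpM⟩ : Module.support R M) = 0 := by
    constructor
    · intro h; exact_mod_cast h
    · intro h; rw [h]; rfl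
  rw [h0, Order.height_eq_zero]
  have hann : Module.annihilator R M ≤ p := by
    have := hpM
    rw [Module.support_eq_zeroLocus] at this
    exact (PrimeSpectrum.mem_zeroLocus _ _).mp this
  constructor
  · intro hmin
    refine ⟨⟨hp, hann⟩, ?_⟩
    rintro q ⟨hq, hqann⟩ hqp
    have hqM : (⟨q, hq⟩ : PrimeSpectrum R) ∈ Module.support R M := by
      rw [Module.support_eq_zeroLocus]
      exact (PrimeSpectrum.mem_zeroLocus _ _).mpr hqann
    have := hmin (b := ⟨⟨q, hq⟩, hqM⟩) hqp
    exact this
  · intro hmin b hb
    have hbann : Module.annihilator R M ≤ b.1.asIdeal := by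
      have h5 : b.1 ∈ PrimeSpectrum.zeroLocus (Module.annihilator R M : Set R) := by
        rw [← Module.support_eq_zeroLocus]; exact b.2
      exact (PrimeSpectrum.mem_zeroLocus _ _).mp h5
    exact hmin.2 ⟨b.1.2, hbann⟩ hb

theorem hasSk_one_iff_forall_mem_minimalPrimes :
    (∀ p ∈ associatedPrimes R M, p ∈ (Module.annihilator R M).minimalPrimes) ↔
      LocCoh.HasSk 1 R M := by
  constructor
  · intro h p hp
    by_cases hMp : Subsingleton (LocalizedModule p.primeCompl M)
    · rw [depth_eq_top_of_subsingleton]; exact le_top
    rw [not_subsingleton_iff_nontrivial] at hMp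
    have hpM : (⟨p, hp⟩ : PrimeSpectrum R) ∈ Module.support R M := Module.mem_support_iff.mpr hMp
    apply min_le_of_forall_nat
    intro j hj hjd
    interval_cases j
    · simp
    · by_contra hlt
      have h0 : LocCoh.depth (Localization.AtPrime p) (LocalizedModule p.primeCompl M) = 0 := by
        rw [Nat.cast_one, Order.one_le_iff_pos, not_lt, nonpos_iff_eq_zero] at hlt
        exact hlt
      have hass := (depth_localization_eq_zero_iff p).mp h0
      have hdim := (supportDim_localization_eq_zero_iff p hpM).mpr (h p hass)
      rw [hdim] at hjd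
      exact absurd hjd (by simp)
  · intro h p hp
    have hpp : p.IsPrime := hp.isPrime
    have hpM := mem_support_of_mem_associatedPrimes hp
    have hMp : Nontrivial (LocalizedModule p.primeCompl M) := Module.mem_support_iff.mp hpM
    rw [← supportDim_localization_eq_zero_iff p hpM]
    have h0 := (depth_localization_eq_zero_iff p).mpr hp
    have h1 := h p
    rw [h0] at h1
    obtain ⟨e, he⟩ := WithBot.ne_bot_iff_exists.mp
      (Module.supportDim_ne_bot_of_nontrivial (Localization.AtPrime p)
        (LocalizedModule p.primeCompl M))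
    rw [← he] at h1 ⊢
    have h2 : min (1 : ℕ∞) e ≤ 0 := by exact_mod_cast h1
    have h3 : e = 0 := by
      rcases min_le_iff.mp h2 with h | h
      · exact absurd h (by simp)
      · exact nonpos_iff_eq_zero.mp h
    rw [h3]; rfl

end S1


section TorsionFree

variable {R : Type u} [CommRing R] [IsDomain R] [IsNoetherianRing R]
  {M : Type v} [AddCommGroup M] [Module R M] [Module.Finite R M] [Nontrivial M]

omit [Module.Finite R M] in
theorem isTorsionFree_iff_associatedPrimes_eq :
    Module.IsTorsionFree R M ↔ associatedPrimes R M = {⊥} := by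
  constructor
  · intro hTF
    have hsub : ∀ p ∈ associatedPrimes R M, p = ⊥ := by
      intro p hp
      rw [eq_bot_iff]
      intro r hr
      by_contra hr0
      have hreg : IsRegular r := IsRegular.of_ne_zero hr0
      exact not_isSMulRegular_of_mem_associatedPrimes hp hr (hTF.isSMulRegular hreg)
    obtain ⟨q, hq⟩ := associatedPrimes.nonempty R M
    ext p
    constructor
    · intro hp; exact hsub p hp
    · intro hp
      rw [Set.mem_singleton_iff] at hp
      rw [hp, ← hsub q hq]; exact hq
  · intro hAss
    refine ⟨fun r hr => ?_⟩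
    by_contra hnreg
    have h1 : r ∈ ⋃ p ∈ associatedPrimes R M, (p : Set R) := by
      rw [biUnion_associatedPrimes_eq_compl_regular R M]
      exact hnreg
    rw [hAss] at h1
    simp only [Set.mem_singleton_iff, Set.iUnion_iUnion_eq_left, SetLike.mem_coe,
      Ideal.mem_bot] at h1
    exact hr.ne_zero h1

theorem isTorsionFree_iff_bot_mem_support_and_hasSk_one :
    Module.IsTorsionFree R M ↔
      (⟨⊥, Ideal.isPrime_bot⟩ : PrimeSpectrum R) ∈ Module.support R M ∧ LocCoh.HasSk 1 R M := by
  have hbotmin : (⊥ : Ideal R) ∈ (⊥ : Ideal R).minimalPrimes :=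
    ⟨⟨Ideal.isPrime_bot, le_rfl⟩, fun q _ _ => bot_le⟩
  have hann_of : (⟨⊥, Ideal.isPrime_bot⟩ : PrimeSpectrum R) ∈ Module.support R M →
      Module.annihilator R M = ⊥ := by
    intro h
    rw [Module.support_eq_zeroLocus] at h
    exact le_bot_iff.mp ((PrimeSpectrum.mem_zeroLocus _ _).mp h)
  constructor
  · intro hTF
    have hAss := isTorsionFree_iff_associatedPrimes_eq.mp hTF
    have hbot : (⊥ : Ideal R) ∈ associatedPrimes R M := by rw [hAss]; rfl
    have hsupp : (⟨⊥, Ideal.isPrime_bot⟩ : PrimeSpectrum R) ∈ Module.support R M :=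
      mem_support_of_mem_associatedPrimes hbot
    refine ⟨hsupp, hasSk_one_iff_forall_mem_minimalPrimes.mp ?_⟩
    intro p hp
    rw [hAss, Set.mem_singleton_iff] at hp
    rw [hp, hann_of hsupp]
    exact hbotmin
  · rintro ⟨hsupp, hS1⟩
    rw [isTorsionFree_iff_associatedPrimes_eq]
    have h := hasSk_one_iff_forall_mem_minimalPrimes.mpr hS1
    rw [hann_of hsupp] at h
    have hsub : ∀ p ∈ associatedPrimes R M, p = ⊥ := by
      intro p hp
      have hp' := h p hp
      exact le_bot_iff.mp (hp'.2 ⟨Ideal.isPrime_bot, le_rfl⟩ bot_le)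
    obtain ⟨q, hq⟩ := associatedPrimes.nonempty R M
    ext p
    constructor
    · intro hp; exact hsub p hp
    · intro hp
      rw [Set.mem_singleton_iff] at hp
      rw [hp, ← hsub q hq]; exact hq

end TorsionFree

section ReducedLocal

variable {A : Type u} [CommRing A] [IsLocalRing A] [IsNoetherianRing A] [IsReduced A]

theorem depth_self_eq_zero_iff_isField : LocCoh.depth A A = 0 ↔ IsField A := by
  rw [depth_eq_zero_iff]
  constructor
  · intro hm
    obtain ⟨-, x, hx⟩ := (isAssociatedPrime_iff (M := A)).mp hm
    rw [IsLocalRing.isField_iff_maximalIdeal_eq]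
    by_cases hxm : x ∈ IsLocalRing.maximalIdeal A
    · exfalso
      have hxx : x ∈ (⊥ : Submodule A A).colon {x} := hx ▸ hxm
      rw [Submodule.mem_colon_singleton, Submodule.mem_bot, smul_eq_mul] at hxx
      have hx0 : x = 0 := by
        have : IsNilpotent x := ⟨2, by rw [pow_two]; exact hxx⟩
        exact this.eq_zero
      have htop : IsLocalRing.maximalIdeal A = ⊤ := by
        rw [hx, hx0, eq_top_iff]
        intro r _
        simp [Submodule.mem_colon_singleton]
      exact (IsLocalRing.maximalIdeal.isMaximal A).ne_top htop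
    · have hu : IsUnit x := by
        by_contra h
        exact hxm ((IsLocalRing.mem_maximalIdeal x).mpr h)
      rw [hx, eq_bot_iff]
      intro r hr
      rw [Submodule.mem_colon_singleton, Submodule.mem_bot, smul_eq_mul] at hr
      exact (hu.mul_left_eq_zero).mp hr
  · intro hF
    have hbot : IsLocalRing.maximalIdeal A = ⊥ := IsLocalRing.isField_iff_maximalIdeal_eq.mp hF
    rw [hbot, AssociatedPrimes.mem_iff, isAssociatedPrime_iff]
    have : IsDomain A := hF.isDomain
    refine ⟨Ideal.isPrime_bot, 1, ?_⟩
    ext r
    simp [Submodule.mem_colon_singleton]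

end ReducedLocal


section LocHom

variable {R : Type u} [CommRing R]

theorem depth_localization_congr {M : Type v} {N : Type w} [AddCommGroup M] [Module R M]
    [AddCommGroup N] [Module R N] (e : M ≃ₗ[R] N) (p : Ideal R) [p.IsPrime] :
    LocCoh.depth (Localization.AtPrime p) (LocalizedModule p.primeCompl M) =
      LocCoh.depth (Localization.AtPrime p) (LocalizedModule p.primeCompl N) :=
  idealDepth_congr (IsLocalizedModule.mapEquiv p.primeCompl
    (LocalizedModule.mkLinearMap p.primeCompl M) (LocalizedModule.mkLinearMap p.primeCompl N)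
    (Localization.AtPrime p) e) _

variable [IsNoetherianRing R]

theorem depth_localization_le_depth_localization_hom_pi_fin (N : Type v) [AddCommGroup N]
    [Module R N] [Module.Finite R N] (p : Ideal R) [p.IsPrime] (n : ℕ) :
    LocCoh.depth (Localization.AtPrime p) (LocalizedModule p.primeCompl N) ≤
      LocCoh.depth (Localization.AtPrime p)
        (LocalizedModule p.primeCompl ((Fin n → R) →ₗ[R] N)) := by
  rw [depth_localization_congr (homPiFinEquiv N n) p]
  unfold LocCoh.depth
  rw [idealDepth_congr (localizedPiFinEquiv p N n)]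
  exact idealDepth_le_idealDepth_pi_fin _ _ n

theorem le_depth_localization_hom (M : Type v) [AddCommGroup M] [Module R M]
    [Module.Finite R M] (N : Type w) [AddCommGroup N] [Module R N] [Module.Finite R N]
    (p : Ideal R) [p.IsPrime] :
    (1 ≤ LocCoh.depth (Localization.AtPrime p) (LocalizedModule p.primeCompl N) →
      1 ≤ LocCoh.depth (Localization.AtPrime p) (LocalizedModule p.primeCompl (M →ₗ[R] N))) ∧
    (2 ≤ LocCoh.depth (Localization.AtPrime p) (LocalizedModule p.primeCompl N) →
      2 ≤ LocCoh.depth (Localization.AtPrime p) (LocalizedModule p.primeCompl (M →ₗ[R] N))) := by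
  obtain ⟨n, m, u, ⟨e⟩⟩ := exists_hom_equiv_ker (R := R) M N
  rw [depth_localization_congr e p]
  have hker : LocCoh.depth (Localization.AtPrime p)
      (LocalizedModule p.primeCompl (LinearMap.ker u)) =
      LocCoh.idealDepth (IsLocalRing.maximalIdeal (Localization.AtPrime p))
        (LinearMap.ker (locMap p.primeCompl u)) :=
    idealDepth_congr (localizedKerEquiv p.primeCompl u) _
  rw [hker]
  have h0 := depth_localization_le_depth_localization_hom_pi_fin N p n
  have h1 := depth_localization_le_depth_localization_hom_pi_fin N p (m + 1)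
  have hk := idealDepth_ker (IsLocalRing.maximalIdeal (Localization.AtPrime p))
    (locMap p.primeCompl u)
  constructor
  · intro h
    exact hk.1 (h.trans h0)
  · intro h
    exact hk.2 (h.trans h0) ((le_trans (by norm_num) h).trans h1)

theorem two_le_depth_localization_of_isReflexive (M : Type u) [AddCommGroup M] [Module R M]
    [Module.Finite R M] [Module.IsReflexive R M] (p : Ideal R) [p.IsPrime]
    (h : 2 ≤ LocCoh.depth (Localization.AtPrime p) (Localization.AtPrime p)) :
    2 ≤ LocCoh.depth (Localization.AtPrime p) (LocalizedModule p.primeCompl M) := by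
  rw [depth_localization_congr (Module.evalEquiv R M) p]
  refine (le_depth_localization_hom (Module.Dual R M) R p).2 ?_
  rw [depth_localizedModule_self]
  exact h

end LocHom


section UnivGen

variable {R : Type u} [CommRing R]

theorem isWeaklyRegular_of_subsingleton (M : Type v) [AddCommGroup M] [Module R M]
    [Subsingleton M] (rs : List R) : IsWeaklyRegular M rs :=
  ⟨fun _ _ _ _ _ => Subsingleton.elim _ _⟩

theorem isWeaklyRegular_replicate_of_smul_eq {M : Type v} [AddCommGroup M] [Module R M] {a : R}
    (ha : ∀ m : M, a • m = m) (n : ℕ) : IsWeaklyRegular M (List.replicate n a) := by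
  cases n with
  | zero => exact IsWeaklyRegular.nil R M
  | succ n =>
    rw [List.replicate_succ, isWeaklyRegular_cons_iff]
    refine ⟨fun x y hxy => ?_, ?_⟩
    · simpa [ha] using hxy
    · have : Subsingleton (QuotSMulTop a M) := by
        apply Submodule.Quotient.subsingleton_iff.mpr
        rw [eq_top_iff]
        intro m _
        exact ⟨m, Submodule.mem_top, ha m⟩
      exact isWeaklyRegular_of_subsingleton _ _

variable [IsNoetherianRing R] {I : Ideal R} {M : Type v} [AddCommGroup M] [Module R M]
  [Module.Finite R M]

/-- Universe-free version of `exists_prime_depth_localization_eq`. -/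
theorem exists_prime_depth_localization_eq' (hIM : I • (⊤ : Submodule R M) ≠ ⊤) :
    ∃ p : PrimeSpectrum R, I ≤ p.asIdeal ∧ p ∈ Module.support R M ∧
      LocCoh.depth (Localization.AtPrime p.asIdeal) (LocalizedModule p.asIdeal.primeCompl M) =
        LocCoh.idealDepth I M := by
  let e : ULift.{u} M ≃ₗ[R] M := ULift.moduleEquiv
  have hIM' : I • (⊤ : Submodule R (ULift.{u} M)) ≠ ⊤ := fun h =>
    hIM ((smul_top_eq_top_iff_of_linearEquiv e I).mp h)
  have : Module.Finite R (ULift.{u} M) := Module.Finite.equiv e.symm
  obtain ⟨p, hp, hsupp, hd⟩ := exists_prime_depth_localization_eq (M := ULift.{u} M) hIM'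
  refine ⟨p, hp, ?_, ?_⟩
  · rw [← e.support_eq]; exact hsupp
  · rw [← depth_localization_congr e p.asIdeal, hd, idealDepth_congr e I]

theorem forall_le_depth_localization_iff_exists_isWeaklyRegular (r : ℕ) :
    (∀ (p : Ideal R) [p.IsPrime], I ≤ p →
        (r : ℕ∞) ≤ LocCoh.depth (Localization.AtPrime p) (LocalizedModule p.primeCompl M)) ↔
      ∃ fs : List R, fs.length = r ∧ (∀ f ∈ fs, f ∈ I) ∧ IsWeaklyRegular M fs := by
  constructor
  · intro h
    by_cases hIM : I • (⊤ : Submodule R M) = ⊤
    · obtain ⟨c, hc1, hc2⟩ := Submodule.exists_sub_one_mem_and_smul_eq_zero_of_fg_of_le_smul I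
        (⊤ : Submodule R M) Module.Finite.fg_top (le_of_eq hIM.symm)
      have ha : (1 - c) ∈ I := by
        have := I.neg_mem hc1
        rwa [neg_sub] at this
      have hact : ∀ m : M, (1 - c) • m = m := by
        intro m
        rw [sub_smul, one_smul, hc2 m Submodule.mem_top, sub_zero]
      refine ⟨List.replicate r (1 - c), List.length_replicate, ?_,
        isWeaklyRegular_replicate_of_smul_eq hact r⟩
      intro f hf
      rw [List.eq_of_mem_replicate hf]; exact ha
    · obtain ⟨p, hp, -, hd⟩ := exists_prime_depth_localization_eq' hIM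
      have := h p.asIdeal hp
      rw [hd] at this
      obtain ⟨fs, h1, h2, h3⟩ := (natCast_le_idealDepth_iff hIM r).mp this
      exact ⟨fs, h1, h2, h3.toIsWeaklyRegular⟩
  · rintro ⟨fs, hlen, hmem, hreg⟩ p _ hp
    refine le_trans ?_ (idealDepth_le_depth_localization p M hp)
    rw [← hlen]
    exact length_le_idealDepth hreg hmem

end UnivGen

end Groth.Agent.Lib.Helper28
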