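import Mathlib
import Groth.Agent.Lib.Helper4DevN
import Groth.Agent.S8890
import Groth.Agent.Lib.Helper6Reduced

/-!
# Ideals of an integral closed subscheme mapping isomorphically near the generic point (helper4)

* `exists_open_support_subset_closure`: if `F_y` is killed by the maximal ideal then near `y` the support of the
  coherent module `F` is contained in `closure {y}`;
* `exists_sub_support_closure`: then `F` has a coherent submodule supported in `closure {y}` with the same stalk at `y`;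
* `stalkL_idealMulι_bijective`, `isCoh_idealMul`;
* `ker_eq_vanishingIdeal_of_isIntegral`, `range_eq_closure_genericPoint`;
* `isIso_restrict_of_stalk_bijective`;
* `exists_mono_push_ideal_pow`.
-/

set_option autoImplicit false
set_option linter.style.haveILetI false
set_option linter.unusedSectionVars false
universe u
open CategoryTheory Limits AlgebraicGeometry TopologicalSpace Opposite

namespace Groth.Agent.Lib.Helper4.Dev
attribute [local instance] Abelian.hasFiniteBiproducts
open Groth.Agent.Lib.Helper23.QCohLocal Groth.Agent.Lib.Helper2 Groth.Agent.Lib.Helper23.FinType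
  Groth.Agent.Lib.Helper2.Push Groth.Agent.Lib.Helper20.StalkExact

variable {X : Scheme.{u}}

theorem exists_open_support_subset_closure [IsLocallyNoetherian X] (F : X.Modules) (hF : Coh.IsCoh F) (y : X)
    (hkill : ∀ a ∈ IsLocalRing.maximalIdeal (X.presheaf.stalk y), ∀ z : F.presheaf.stalk y, a • z = 0) :
    ∃ V : X.Opens, y ∈ V ∧ ∀ x ∈ V, x ∈ CohB1.support F → x ∈ closure {y} := by
  haveI : F.IsQuasicoherent := hF.1
  haveI : SheafOfModules.IsFiniteType (R := X.ringCatSheaf) F := hF.2
  obtain ⟨U, hU0, hy, -⟩ := (Opens.isBasis_iff_nbhd.1 X.isBasis_affineOpens) (Opens.mem_top y)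
  have hU : IsAffineOpen U := hU0
  clear hU0
  haveI : IsNoetherianRing Γ(X, U) := IsLocallyNoetherian.component_noetherian ⟨U, hU⟩
  haveI : Module.Finite Γ(X, U) Γ(F, U) := finite_of_isFiniteType F hU
  haveI : IsNoetherian Γ(X, U) Γ(F, U) := isNoetherian_of_isNoetherianRing_of_finite _ _
  let T : Submodule Γ(X, U) Γ(F, U) :=
    { carrier := {t | F.presheaf.germ U y hy t = 0}
      add_mem' := fun {a b} ha hb => by
        rw [Set.mem_ofPred_eq] at ha hb ⊢
        rw [map_add, ha, hb, add_zero]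
      zero_mem' := map_zero _
      smul_mem' := fun a t ht => by
        rw [Set.mem_ofPred_eq] at ht ⊢
        rw [QCoh.germ_smul, ht, smul_zero] }
  have hTmem : ∀ t, t ∈ T ↔ F.presheaf.germ U y hy t = 0 := fun t => Iff.rfl
  obtain ⟨S, hS⟩ := (IsNoetherian.noetherian T : T.FG)
  obtain ⟨s, hs, hsT⟩ := exists_smul_eq_zero_of_span hU F y hy S (fun t ht => by
    rw [← hTmem, ← hS]; exact Submodule.subset_span ht)
  rw [hS] at hsT
  refine ⟨X.basicOpen s, hs, ?_⟩
  intro x hxs hxF
  have hxU : x ∈ U := X.basicOpen_le s hxs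
  by_contra hxy
  have hex : ∃ a : Γ(X, U), a ∈ (hU.primeIdealOf ⟨y, hy⟩).asIdeal ∧
      a ∉ (hU.primeIdealOf ⟨x, hxU⟩).asIdeal := by
    by_contra hcon
    push Not at hcon
    apply hxy
    have hle : hU.primeIdealOf ⟨y, hy⟩ ≤ hU.primeIdealOf ⟨x, hxU⟩ := fun a ha => hcon a ha
    have hsp : hU.primeIdealOf ⟨y, hy⟩ ⤳ hU.primeIdealOf ⟨x, hxU⟩ :=
      (PrimeSpectrum.le_iff_specializes _ _).1 hle
    have h1 := hsp.map hU.fromSpec.continuous
    rw [hU.fromSpec_primeIdealOf ⟨y, hy⟩, hU.fromSpec_primeIdealOf ⟨x, hxU⟩] at h1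
    exact specializes_iff_mem_closure.1 h1
  obtain ⟨a, hay, hax⟩ := hex
  apply hxF
  have key : ∀ m : Γ(F, U), F.presheaf.germ U x hxU m = 0 := by
    intro m
    have h1 : a • m ∈ T := by
      rw [hTmem, QCoh.germ_smul]
      apply hkill
      rw [IsLocalRing.mem_maximalIdeal, mem_nonunits_iff, ← Scheme.mem_basicOpen X a y hy,
        mem_basicOpen_iff_notMem_primeIdealOf hU y hy]
      exact not_not.2 hay
    have h2 : s • (a • m) = 0 := hsT _ h1
    have h3 := congrArg (F.presheaf.germ U x hxU) h2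
    rw [map_zero, QCoh.germ_smul, QCoh.germ_smul] at h3
    have hu1 : IsUnit (X.presheaf.germ U x hxU s) := (Scheme.mem_basicOpen X s x hxU).1 hxs
    have hu2 : IsUnit (X.presheaf.germ U x hxU a) := by
      rw [← Scheme.mem_basicOpen X a x hxU, mem_basicOpen_iff_notMem_primeIdealOf hU x hxU]
      exact hax
    exact QCoh.germ_smul_eq_zero_of_isUnit hu2 (QCoh.germ_smul_eq_zero_of_isUnit hu1 h3)
  have hz : ∀ z : F.presheaf.stalk x, z = 0 := by
    intro z
    obtain ⟨t, m, ht, htm⟩ := QCoh.exists_smul_eq_germ hU F x hxU z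
    rw [key m] at htm
    exact QCoh.germ_smul_eq_zero_of_isUnit ((Scheme.mem_basicOpen X t x hxU).1 ht) htm
  exact ⟨fun z w => by rw [hz z, hz w]⟩

theorem exists_sub_support_closure [IsNoetherian X] (F : X.Modules) (hF : Coh.IsCoh F) (y : X)
    (hkill : ∀ a ∈ IsLocalRing.maximalIdeal (X.presheaf.stalk y), ∀ z : F.presheaf.stalk y, a • z = 0) :
    ∃ (F₀ : X.Modules) (m₀ : F₀ ⟶ F), Mono m₀ ∧ Coh.IsCoh F₀ ∧ CohB1.support F₀ ⊆ closure {y} ∧
      Function.Bijective (stalkL m₀ y) := by
  haveI : IsLocallyNoetherian X := inferInstance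
  obtain ⟨V, hyV, hV⟩ := exists_open_support_subset_closure F hF y hkill
  have hsc := isClosed_support F hF
  obtain ⟨S, hS, ⟨e⟩, hS₁, hS₃, hs₁, hs₃⟩ := Groth.Agent.S0049.result X F hF
    (CohB1.support F ∩ (V : Set X)ᶜ) (CohB1.support F ∩ closure {y})
    (hsc.inter V.2.isClosed_compl) (hsc.inter isClosed_closure) (by
      ext x
      constructor
      · intro hx
        by_cases hxV : x ∈ V
        · exact Or.inr ⟨hx, hV x hxV hx⟩
        · exact Or.inl ⟨hx, hxV⟩
      · rintro (h | h) <;> exact h.1)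
  haveI := hS.mono_f
  refine ⟨S.X₁, S.f ≫ e.hom, mono_comp _ _, hS₁, hs₁.trans Set.inter_subset_right, ?_⟩
  constructor
  · exact stalkL_injective_of_mono _ y
  · intro w
    have hsub : Subsingleton (S.X₃.presheaf.stalk y) := by
      by_contra h
      have h1 : y ∈ CohB1.support S.X₃ := h
      exact (hs₃ h1).2 hyV
    obtain ⟨v, hv⟩ := (stalkL_exact S hS y (stalkL e.inv y w)).1 (Subsingleton.elim _ _)
    refine ⟨v, ?_⟩
    rw [stalkL_comp_apply, hv, ← stalkL_comp_apply, e.inv_hom_id, stalkL_id]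
    rfl

theorem stalkL_surjective_of_subsingleton_cokernel {A B : X.Modules} (m : A ⟶ B) [Mono m] (y : X)
    (h : Subsingleton ((cokernel m).presheaf.stalk y)) : Function.Surjective (stalkL m y) := by
  intro z
  haveI : Subsingleton ((sesOfMono m).X₃.presheaf.stalk y) := h
  exact (stalkL_exact (sesOfMono m) (sesOfMono_shortExact m) y z).1 (Subsingleton.elim _ _)

theorem stalkL_bijective_of_isIso {A B : X.Modules} (φ : A ⟶ B) [IsIso φ] (y : X) :
    Function.Bijective (stalkL φ y) := by
  refine Function.bijective_iff_has_inverse.2 ⟨stalkL (inv φ) y, fun a => ?_, fun b => ?_⟩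
  · rw [← stalkL_comp_apply, IsIso.hom_inv_id, stalkL_id]; rfl
  · rw [← stalkL_comp_apply, IsIso.inv_hom_id, stalkL_id]; rfl

section IdealMul
variable (J : X.IdealSheafData) (G : X.Modules)

theorem isCoh_push_pullback_subscheme [IsLocallyNoetherian X] (hG : Coh.IsCoh G) :
    Coh.IsCoh ((Scheme.Modules.pushforward J.subschemeι).obj
      ((Scheme.Modules.pullback J.subschemeι).obj G)) := by
  haveI : G.IsQuasicoherent := hG.1
  haveI : SheafOfModules.IsFiniteType (R := X.ringCatSheaf) G := hG.2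
  exact isCoh_push_closed J.subschemeι _
    ⟨Groth.Agent.Lib.Helper2.PullbackSec.isQuasicoherent_pullback J.subschemeι G,
      Groth.Agent.Lib.Helper20.FormalPull.isFiniteType_pullback J.subschemeι G⟩

theorem isCoh_idealMul [IsLocallyNoetherian X] (hG : Coh.IsCoh G) :
    Coh.IsCoh ((Dual3.idealMul J).obj G) :=
  isCoh_kernel _ hG (isCoh_push_pullback_subscheme J G hG)

theorem stalkL_idealMulι_bijective (y : X) (hy : y ∉ (J.support : Set X)) :
    Function.Bijective (stalkL (Dual3.idealMulι J G) y) := by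
  refine ⟨stalkL_injective_of_mono _ y, stalkL_surjective_of_subsingleton_cokernel _ y ?_⟩
  let η := (Scheme.Modules.pullbackPushforwardAdjunction J.subschemeι).unit.app G
  haveI hm : Mono (Abelian.factorThruCoimage η) := inferInstance
  have h1 : y ∉ CohB1.support ((Scheme.Modules.pushforward J.subschemeι).obj
      ((Scheme.Modules.pullback J.subschemeι).obj G)) := by
    intro h
    apply hy
    have := support_push_subset J.subschemeι _ h
    rwa [J.range_subschemeι] at this
  exact subsingleton_stalk_of_mono (Abelian.factorThruCoimage η) y (not_not.1 h1)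

end IdealMul

section Integral
variable {Z : Scheme.{u}} (i : Z ⟶ X) [IsClosedImmersion i] [IsIntegral Z]

theorem range_eq_closure_genericPoint : Set.range ⇑i = closure {i (genericPoint Z)} := by
  apply subset_antisymm
  · rintro _ ⟨z, rfl⟩
    have hz : z ∈ closure {genericPoint Z} := by
      rw [(genericPoint_spec Z).def]; trivial
    have := image_closure_subset_closure_image i.continuous (s := {genericPoint Z}) ⟨z, hz, rfl⟩
    rwa [Set.image_singleton] at this
  · exact closure_minimal (Set.singleton_subset_iff.2 ⟨_, rfl⟩) i.isClosedEmbedding.isClosed_range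

theorem ker_eq_vanishingIdeal_of_isIntegral :
    i.ker = Scheme.IdealSheafData.vanishingIdeal ⟨closure {i (genericPoint Z)}, isClosed_closure⟩ := by
  haveI : IsIso i.toImage := inferInstance
  haveI : IsReduced i.image := isReduced_of_isOpenImmersion (inv i.toImage)
  have h0 : IsReduced i.ker.subscheme := inferInstanceAs (IsReduced i.image)
  have h1 : i.ker = i.ker.radical := (Groth.Agent.Lib.Helper6.isReduced_subscheme_iff X i.ker).1 h0
  rw [h1, ← Scheme.IdealSheafData.vanishingIdeal_support]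
  congr 1
  apply SetLike.coe_injective
  rw [Scheme.Hom.support_ker]
  change closure (Set.range ⇑i) = closure {i (genericPoint Z)}
  rw [range_eq_closure_genericPoint, closure_closure]

end Integral

theorem isIso_restrict_of_stalk_bijective {A B : X.Modules} (φ : A ⟶ B) (U : X.Opens)
    (h : ∀ x ∈ U, Function.Bijective (stalkL φ x)) :
    IsIso ((Scheme.Modules.restrictFunctor U.ι).map φ) := by
  apply Groth.Agent.S8890.isIso_of_stalk_bijective
  intro u
  have hnat := (Scheme.Modules.restrictStalkNatIso U.ι u).hom.naturality φ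
  have hu : U.ι u ∈ U := u.2
  have hb : Function.Bijective (stalkAdd φ (U.ι u)) := h (U.ι u) hu
  haveI : IsIso (stalkAdd φ (U.ι u)) := (ConcreteCategory.isIso_iff_bijective _).2 hb
  haveI : IsIso ((Scheme.Modules.toPresheaf X ⋙ TopCat.Presheaf.stalkFunctor Ab.{u} (U.ι u)).map φ) :=
    inferInstanceAs (IsIso (stalkAdd φ (U.ι u)))
  have h2 : (Scheme.Modules.restrictFunctor U.ι ⋙ Scheme.Modules.toPresheaf _ ⋙
      TopCat.Presheaf.stalkFunctor Ab.{u} u).map φ =
      (Scheme.Modules.restrictStalkNatIso U.ι u).hom.app A ≫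
        (Scheme.Modules.toPresheaf X ⋙ TopCat.Presheaf.stalkFunctor Ab.{u} (U.ι u)).map φ ≫
        inv ((Scheme.Modules.restrictStalkNatIso U.ι u).hom.app B) := by
    rw [← Category.assoc, ← hnat, Category.assoc, IsIso.hom_inv_id, Category.comp_id]
  haveI : IsIso ((Scheme.Modules.restrictFunctor U.ι ⋙ Scheme.Modules.toPresheaf _ ⋙
      TopCat.Presheaf.stalkFunctor Ab.{u} u).map φ) := by
    rw [h2]; infer_instance
  exact ConcreteCategory.bijective_of_isIso ((Scheme.Modules.restrictFunctor U.ι ⋙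
    Scheme.Modules.toPresheaf _ ⋙ TopCat.Presheaf.stalkFunctor Ab.{u} u).map φ)

section Main
variable {Z : Scheme.{u}}

theorem stalkL_biproduct_map_surjective {A B : X.Modules} (μ : A ⟶ B) (r : ℕ) (y : X)
    (hμ : Function.Surjective (stalkL μ y)) :
    Function.Surjective (stalkL (biproduct.map (fun _ : Fin r => μ)) y) := by
  intro z
  choose w hw using fun k : Fin r => hμ (stalkL (biproduct.π (fun _ : Fin r => B) k) y z)
  refine ⟨∑ k : Fin r, stalkL (biproduct.ι (fun _ : Fin r => A) k) y (w k), ?_⟩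
  rw [map_sum]
  refine Eq.trans ?_ (sum_stalkL_ι_π B r y z)
  refine Finset.sum_congr rfl fun k _ => ?_
  rw [← stalkL_comp_apply, biproduct.ι_map, stalkL_comp_apply, hw k]

theorem exists_mono_push_ideal_pow [IsNoetherian X] (i : Z ⟶ X) [IsClosedImmersion i] [IsIntegral Z]
    (F : X.Modules) (hF : Coh.IsCoh F)
    (hann : ∀ a ∈ IsLocalRing.maximalIdeal (X.presheaf.stalk (i (genericPoint Z))),
      ∀ m : ↑(F.presheaf.stalk (i (genericPoint Z))), a • m = 0) :
    ∃ (r : ℕ) (I : Z.Modules) (ι : I ⟶ Coh.structureModule Z)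
      (φ : (Scheme.Modules.pushforward i).obj (∐ fun _ : Fin r => I) ⟶ F),
      Mono ι ∧ Coh.IsCoh I ∧ Mono φ ∧
      ∃ U : X.Opens, i (genericPoint Z) ∈ U ∧ IsIso ((Scheme.Modules.restrictFunctor U.ι).map φ) := by
  haveI : IsLocallyNoetherian X := inferInstance
  haveI : CompactSpace X := inferInstance
  haveI : IsLocallyNoetherian Z := LocallyOfFiniteType.isLocallyNoetherian i
  set y := i (genericPoint Z) with hy
  have hrange := range_eq_closure_genericPoint i
  have hkeri := ker_eq_vanishingIdeal_of_isIntegral i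
  let G : X.Modules := (Scheme.Modules.pushforward i).obj (Coh.structureModule Z)
  have hG : Coh.IsCoh G := isCoh_push_closed i _ (isCoh_structureModule Z)
  haveI : G.IsQuasicoherent := hG.1
  obtain ⟨F₀, m₀, hm₀, hF₀, hsF₀, hb₀⟩ := exists_sub_support_closure F hF y hann
  haveI := hm₀
  obtain ⟨S, hcov⟩ := exists_finset_affine_cover (X := X)
  obtain ⟨F₁, m₁, hm₁, hF₁, hb₁, hTF⟩ := tf_refine F₀ hF₀ y hsF₀ S
  haveI := hm₁
  have hflF := isFiniteLength_stalk F₀ hF₀ y hsF₀
  haveI : _root_.IsNoetherian (X.presheaf.stalk y) (F₀.presheaf.stalk y) :=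
    (isFiniteLength_iff_isNoetherian_isArtinian.1 hflF).1
  have hkill₀ : ∀ a ∈ IsLocalRing.maximalIdeal (X.presheaf.stalk y),
      ∀ z : F₀.presheaf.stalk y, a • z = 0 := by
    intro a ha z
    apply stalkL_injective_of_mono m₀ y
    rw [map_smul, hann a ha, map_zero]
  obtain ⟨r, ⟨eF⟩⟩ := exists_linearEquiv_pi_residue (R := X.presheaf.stalk y)
    (M := F₀.presheaf.stalk y) hkill₀
  have hlenG := length_stalk_push_structure i hkeri
  obtain ⟨eG⟩ := nonempty_linearEquiv_of_length_eq_one hlenG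
  have htfT : ∀ (U : X.Opens) (hU : IsAffineOpen U), y ∈ U →
      Mono ((Scheme.Modules.restrictAdjunction hU.fromSpec).unit.app (⨁ fun _ : Fin r => G)) :=
    fun U hU hyU => mono_unit_biproduct hU.fromSpec G r (mono_unit_push_structure i hU hyU)
  let θ : F₁.presheaf.stalk y ≃ₗ[X.presheaf.stalk y]
      (⨁ fun _ : Fin r => G : X.Modules).presheaf.stalk y :=
    (LinearEquiv.ofBijective (stalkL m₁ y) hb₁).trans
      (eF.trans ((stalkPowEquiv G r y).trans (LinearEquiv.piCongrRight fun _ => eG)).symm)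
  have hTc : Coh.IsCoh (⨁ fun _ : Fin r => G) := isCoh_pow G r hG
  obtain ⟨H, p₁, p₂, hH, hp₁, hp₂, hbp₁, hbp₂⟩ := exists_common_sub y S hcov hF₁ hTc hTF htfT θ
  haveI := hp₁
  haveI := hp₂
  let g : H ⟶ F := p₁ ≫ m₁ ≫ m₀
  haveI : Mono (m₁ ≫ m₀) := mono_comp _ _
  haveI : Mono g := mono_comp _ _
  have hbg : Function.Bijective (stalkL g y) := by
    rw [stalkL_comp, stalkL_comp]
    exact (hb₀.comp hb₁).comp hbp₁
  -- the ideal `J`
  have hcq : Coh.IsCoh (cokernel p₂) := isCoh_cokernel p₂ hH hTc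
  haveI : (cokernel p₂).IsQuasicoherent := hcq.1
  have hsub : Subsingleton ((cokernel p₂).presheaf.stalk y) :=
    subsingleton_stalk_cokernel_of_surjective p₂ y hbp₂.2
  obtain ⟨J, hJs, hJk⟩ := exists_ideal_killing (cokernel p₂) hcq
  have hyJ : y ∉ (J.support : Set X) := fun h => (hJs h) hsub
  have hzero : Dual3.idealMulι J (⨁ fun _ : Fin r => G) ≫ cokernel.π p₂ = 0 :=
    idealMulι_comp_eq_zero J _ hJk
  let l : (Dual3.idealMul J).obj (⨁ fun _ : Fin r => G) ⟶ H := Abelian.monoLift p₂ _ hzero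
  have hl : l ≫ p₂ = Dual3.idealMulι J (⨁ fun _ : Fin r => G) := Abelian.monoLift_comp p₂ _ hzero
  -- `J·G ≅ i_* I`
  have hJGc : Coh.IsCoh ((Dual3.idealMul J).obj G) := isCoh_idealMul J G hG
  haveI : ((Dual3.idealMul J).obj G).IsQuasicoherent := hJGc.1
  have hbJ := stalkL_idealMulι_bijective J G y hyJ
  have hJGnz : ¬ IsZero ((Dual3.idealMul J).obj G) := by
    intro hz
    haveI := subsingleton_stalk_of_isZero hz y
    haveI : Subsingleton (G.presheaf.stalk y) := hbJ.2.subsingleton
    have h0 : Module.length (X.presheaf.stalk y) (G.presheaf.stalk y) = 0 :=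
      Module.length_eq_zero_iff.2 inferInstance
    rw [hlenG] at h0
    exact one_ne_zero h0
  obtain ⟨I, ι, hιm, hIq, hInz, ⟨eI⟩⟩ :=
    exists_ideal_of_mono i ((Dual3.idealMul J).obj G) (Dual3.idealMulι J G) hJGnz
  haveI := hιm
  haveI : I.IsQuasicoherent := hIq
  have hIc : Coh.IsCoh ((Scheme.Modules.pushforward i).obj I) := isCoh_of_iso eI hJGc
  let μ : (Scheme.Modules.pushforward i).obj I ⟶ G := eI.inv ≫ Dual3.idealMulι J G
  haveI : Mono μ := mono_comp _ _
  have hbμ : Function.Bijective (stalkL μ y) := by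
    rw [stalkL_comp]
    exact hbJ.comp (stalkL_bijective_of_isIso eI.inv y)
  let ψ : Fin r → ((Scheme.Modules.pushforward i).obj I ⟶ H) := fun k =>
    eI.inv ≫ (Dual3.idealMul J).map (biproduct.ι (fun _ : Fin r => G) k) ≫ l
  let Φ : (⨁ fun _ : Fin r => (Scheme.Modules.pushforward i).obj I) ⟶ H := biproduct.desc ψ
  have hΦ : Φ ≫ p₂ = biproduct.map (fun _ : Fin r => μ) := by
    apply biproduct.hom_ext'
    intro k
    rw [biproduct.ι_desc_assoc, biproduct.ι_map]
    simp only [ψ, μ, Category.assoc]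
    rw [hl, Dual3.idealMul_map_ι]
  haveI : Mono (Φ ≫ p₂) := by rw [hΦ]; infer_instance
  haveI : Mono Φ := mono_of_mono Φ p₂
  have hsΦ : Function.Surjective (stalkL Φ y) := by
    intro w
    obtain ⟨v, hv⟩ := stalkL_biproduct_map_surjective μ r y hbμ.2 (stalkL p₂ y w)
    refine ⟨v, hbp₂.1 ?_⟩
    rw [← stalkL_comp_apply, hΦ, hv]
  -- the morphism `φ`
  let e : (Scheme.Modules.pushforward i).obj (∐ fun _ : Fin r => I) ≅
      ⨁ fun _ : Fin r => (Scheme.Modules.pushforward i).obj I :=
    (Scheme.Modules.pushforward i).mapIso (biproduct.isoCoproduct (fun _ : Fin r => I)).symm ≪≫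
      (Scheme.Modules.pushforward i).mapBiproduct (fun _ : Fin r => I)
  let φ : (Scheme.Modules.pushforward i).obj (∐ fun _ : Fin r => I) ⟶ F := e.hom ≫ Φ ≫ g
  haveI : Mono (Φ ≫ g) := mono_comp _ _
  haveI : Mono φ := mono_comp _ _
  have hsφ : Function.Surjective (stalkL φ y) := by
    have h1 : stalkL φ y = (stalkL g y).comp ((stalkL Φ y).comp (stalkL e.hom y)) := by
      rw [← stalkL_comp, ← stalkL_comp, Category.assoc]
    rw [h1]
    exact hbg.2.comp (hsΦ.comp (stalkL_bijective_of_isIso e.hom y).2)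
  have hsrc : Coh.IsCoh ((Scheme.Modules.pushforward i).obj (∐ fun _ : Fin r => I)) :=
    isCoh_of_iso e.symm (isCoh_pow _ r hIc)
  have hcφ : Coh.IsCoh (cokernel φ) := isCoh_cokernel φ hsrc hF
  have hIcoh : Coh.IsCoh I := by
    haveI : (Coh.structureModule Z).IsQuasicoherent := (isCoh_structureModule Z).1
    haveI : SheafOfModules.IsFiniteType (R := Z.ringCatSheaf) (Coh.structureModule Z) :=
      (isCoh_structureModule Z).2
    exact ⟨hIq, isFiniteType_of_mono ι⟩
  refine ⟨r, I, ι, φ, hιm, hIcoh, inferInstance,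
    ⟨(CohB1.support (cokernel φ))ᶜ, (isClosed_support _ hcφ).isOpen_compl⟩, ?_, ?_⟩
  · intro h
    exact h (subsingleton_stalk_cokernel_of_surjective φ y hsφ)
  · refine isIso_restrict_of_stalk_bijective φ _ (fun x hx => ?_)
    exact ⟨stalkL_injective_of_mono φ x,
      stalkL_surjective_of_subsingleton_cokernel φ x (not_not.1 hx)⟩

end Main

end Groth.Agent.Lib.Helper4.Dev
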