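import Mathlib
import Groth.Agent.Lib.Helper4DevO
import Groth.Agent.Lib.Helper13AffBC

/-!
# `I · f_* F = f_* ((f⁻¹ I · O_Y) · F)` for affine `f` (helper4)

`idealMul_pushforward_iso`: for an affine morphism `f : Y ⟶ X`, a quasi-coherent `F` on `Y` and a quasi-coherent ideal
`I` on `X`, the submodules `I · f_* F` and `f_* ((I.comap f) · F)` of `f_* F` are isomorphic compatibly with the inclusions
(affine base change for the closed subscheme cut out by `I`, helper13).
-/

set_option autoImplicit false
set_option linter.style.haveILetI false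
universe u
open CategoryTheory Limits AlgebraicGeometry TopologicalSpace Opposite

namespace Groth.Agent.Lib.Helper4.Dev

open Scheme.Modules Groth.Agent.Helper13AffBC

theorem isPullback_comap_subschemeι {Y X : Scheme.{u}} (f : Y ⟶ X) (I : X.IdealSheafData) :
    IsPullback (I.comap f).subschemeι ((I.comapIso f).hom ≫ pullback.snd f I.subschemeι) f I.subschemeι := by
  refine isPullback_of_isClosedImmersion _ _ _ _ ?_ ?_
  · rw [Category.assoc, ← pullback.condition, Scheme.IdealSheafData.comapIso_hom_fst_assoc]
  · rw [Scheme.IdealSheafData.ker_subschemeι, Scheme.IdealSheafData.ker_subschemeι]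

theorem idealMul_pushforward_iso {Y X : Scheme.{u}} (f : Y ⟶ X) [IsAffineHom f]
    (F : Y.Modules) [F.IsQuasicoherent] (I : X.IdealSheafData) :
    ∃ e : (Dual3.idealMul I).obj ((Scheme.Modules.pushforward f).obj F) ≅
        (Scheme.Modules.pushforward f).obj ((Dual3.idealMul (I.comap f)).obj F),
      e.hom ≫ (Scheme.Modules.pushforward f).map (Dual3.idealMulι (I.comap f) F) =
        Dual3.idealMulι I ((Scheme.Modules.pushforward f).obj F) := by
  let i := I.subschemeι
  let i' := (I.comap f).subschemeι
  let f' := (I.comapIso f).hom ≫ pullback.snd f I.subschemeι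
  have hpb : IsPullback i' f' f i := isPullback_comap_subschemeι f I
  let η := (pullbackPushforwardAdjunction i).unit.app ((pushforward f).obj F)
  let η' := (pullbackPushforwardAdjunction i').unit.app F
  haveI : IsIso (bcMap f i i' f' hpb F) := isIso_bcMap f i i' f' hpb F
  let α := (pushforward i).map (bcMap f i i' f' hpb F)
  let β := (pushforwardComp i' f).hom.app ((Scheme.Modules.pullback i').obj F) ≫
    (pushforwardCongr hpb.w).hom.app ((Scheme.Modules.pullback i').obj F) ≫
    (pushforwardComp f' i).inv.app ((Scheme.Modules.pullback i').obj F)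
  have hαβ : η ≫ α = (pushforward f).map η' ≫ β := unit_bcMap f i i' f' hpb F
  haveI : IsIso α := inferInstanceAs (IsIso ((pushforward i).map (bcMap f i i' f' hpb F)))
  haveI : IsIso β := by
    dsimp only [β]
    infer_instance
  have h1 : kernel.ι η ≫ (pushforward f).map η' = 0 := by
    rw [← cancel_mono β, Category.assoc, ← hαβ, kernel.condition_assoc, zero_comp, zero_comp]
  have h2 : kernel.ι ((pushforward f).map η') ≫ η = 0 := by
    rw [← cancel_mono α, Category.assoc, hαβ, kernel.condition_assoc, zero_comp, zero_comp]
  let e₁ : kernel η ≅ kernel ((pushforward f).map η') :=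
    { hom := kernel.lift _ (kernel.ι η) h1
      inv := kernel.lift _ (kernel.ι ((pushforward f).map η')) h2
      hom_inv_id := by
        apply equalizer.hom_ext
        simp
      inv_hom_id := by
        apply equalizer.hom_ext
        simp }
  let e₂ : (pushforward f).obj (kernel η') ≅ kernel ((pushforward f).map η') :=
    PreservesKernel.iso (pushforward f) η'
  refine ⟨e₁ ≪≫ e₂.symm, ?_⟩
  change (e₁.hom ≫ e₂.inv) ≫ (pushforward f).map (kernel.ι η') = kernel.ι η
  have h3 : e₂.hom ≫ kernel.ι ((pushforward f).map η') = (pushforward f).map (kernel.ι η') := by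
    simp [e₂]
  rw [Category.assoc, ← h3, Iso.inv_hom_id_assoc]
  simp [e₁]

end Groth.Agent.Lib.Helper4.Dev
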