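import Mathlib

/-!
# Comparison of Ext groups along an exact functor (helper16)

`cmp R w F n : Ext^n(A, F) →+ Ext^n(B, R F)` for an exact functor `R` and `w : B ⟶ R A`;
`cmp_bijective`: bijective in all degrees if bijective in degree zero and `Ext^{n+1}(B, R I) = 0` for injective `I`
(universal δ-functor argument via the five lemma).
-/

set_option autoImplicit false
universe w w' v v' u u'
open CategoryTheory CategoryTheory.Limits Abelian

namespace Groth.Agent.Lib.Helper16.ExtCompare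

variable {𝒞 : Type u} [Category.{v} 𝒞] [Abelian 𝒞] [EnoughInjectives 𝒞] [HasExt.{w} 𝒞]
variable {𝒟 : Type u'} [Category.{v'} 𝒟] [Abelian 𝒟] [HasExt.{w'} 𝒟]
variable (R : 𝒞 ⥤ 𝒟) [R.Additive] [PreservesFiniteLimits R] [PreservesFiniteColimits R]

/-- the comparison map `Ext^n_𝒞(A, F) → Ext^n_𝒟(B, R F)` attached to `w : B ⟶ R A`. -/
noncomputable def cmp {A : 𝒞} {B : 𝒟} (w : B ⟶ R.obj A) (F : 𝒞) (n : ℕ) :
    Ext.{w} A F n →+ Ext.{w'} B (R.obj F) n :=
  ((Ext.mk₀ w).precomp (R.obj F) (zero_add n)).comp (R.mapExtAddHom A F n)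

lemma cmp_apply {A : 𝒞} {B : 𝒟} (w : B ⟶ R.obj A) (F : 𝒞) (n : ℕ) (x : Ext.{w} A F n) :
    cmp R w F n x = (Ext.mk₀ w).comp (x.mapExactFunctor R) (zero_add n) := rfl

lemma cmp_mk₀ {A : 𝒞} {B : 𝒟} (w : B ⟶ R.obj A) (F : 𝒞) (φ : A ⟶ F) :
    cmp R w F 0 (Ext.mk₀ φ) = Ext.mk₀ (w ≫ R.map φ) := by
  rw [cmp_apply, Ext.mapExactFunctor_mk₀, Ext.mk₀_comp_mk₀]

attribute [local instance] Ext.subsingleton_of_injective in
/-- If the comparison is bijective in degree `0` and the target is effaceable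
(`Ext^{n+1}_𝒟(B, R I) = 0` for injective `I`), then it is bijective in all degrees. -/
theorem cmp_bijective {A : 𝒞} {B : 𝒟} (w : B ⟶ R.obj A)
    (h0 : ∀ F : 𝒞, Function.Bijective (fun φ : A ⟶ F => w ≫ R.map φ))
    (heff : ∀ (I : 𝒞) [Injective I] (n : ℕ), Subsingleton (Ext.{w'} B (R.obj I) (n + 1))) (n : ℕ) :
    ∀ F : 𝒞, Function.Bijective (cmp R w F n) := by
  induction n with
  | zero =>
    intro F
    have h := h0 F
    constructor
    · intro x y hxy
      obtain ⟨φ, rfl⟩ := (Ext.mk₀_bijective A F).2 x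
      obtain ⟨ψ, rfl⟩ := (Ext.mk₀_bijective A F).2 y
      rw [cmp_mk₀, cmp_mk₀] at hxy
      rw [h.1 ((Ext.mk₀_bijective _ _).1 hxy)]
    · intro y
      obtain ⟨ψ, rfl⟩ := (Ext.mk₀_bijective B (R.obj F)).2 y
      obtain ⟨φ, hφ⟩ := h.2 ψ
      exact ⟨Ext.mk₀ φ, (cmp_mk₀ R w F φ).trans (congrArg Ext.mk₀ hφ)⟩
  | succ n hn =>
    intro F
    let I : InjectivePresentation F := Classical.arbitrary _
    let S := ShortComplex.mk _ _ (cokernel.condition I.f)
    haveI : Injective S.X₂ := I.injective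
    have hS : S.ShortExact := { exact := ShortComplex.exact_cokernel I.f }
    have hS' := hS.map_of_exact R
    haveI := heff S.X₂ n
    exact AddMonoidHom.bijective_of_surjective_of_bijective_of_right_exact
      ((Ext.mk₀ S.g).postcomp A (add_zero n)) (hS.extClass.postcomp A rfl)
      ((Ext.mk₀ (S.map R).g).postcomp B (add_zero n)) (hS'.extClass.postcomp B rfl)
      (cmp R w S.X₂ n) (cmp R w S.X₃ n) (cmp R w S.X₁ (n + 1))
      (by
        ext x
        change (cmp R w S.X₂ n x).comp (Ext.mk₀ (S.map R).g) (add_zero n) =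
          cmp R w S.X₃ n (x.comp (Ext.mk₀ S.g) (add_zero n))
        rw [cmp_apply, cmp_apply, Ext.mapExactFunctor_comp, Ext.mapExactFunctor_mk₀]
        exact Ext.comp_assoc _ _ _ _ _ (by omega))
      (by
        ext x
        change (cmp R w S.X₃ n x).comp hS'.extClass rfl =
          cmp R w S.X₁ (n + 1) (x.comp hS.extClass rfl)
        rw [cmp_apply, cmp_apply, Ext.mapExactFunctor_comp, Ext.mapExactFunctor_extClass]
        exact Ext.comp_assoc _ _ _ _ _ (by omega))
      ((ShortComplex.ab_exact_iff_function_exact _).mp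
        (Ext.covariant_sequence_exact₃' A hS n (n + 1) rfl))
      ((ShortComplex.ab_exact_iff_function_exact _).mp
        (Ext.covariant_sequence_exact₃' B hS' n (n + 1) rfl))
      (hn _).surjective (hn _)
      (fun x₁ ↦ Ext.covariant_sequence_exact₁ _ hS x₁ (by subsingleton) rfl)
      (fun y₁ ↦ Ext.covariant_sequence_exact₁ _ hS' y₁ (by
        haveI : Subsingleton (Ext.{w'} B (S.map R).X₂ (n + 1)) := heff S.X₂ n
        subsingleton) rfl)

end Groth.Agent.Lib.Helper16.ExtCompare
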