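import Groth.Agent.Lib.Helper16ClosedEmb
import Groth.Agent.Lib.Helper16Flasque

/-!
# Sections with support in a closed subset, topological sheaves (helper16)

`exists_sectSupp_iff` (sections of `Γ_Z F` over `V` = sections of `F` over `V` vanishing on `V ⊓ U`),
`unit_eq_zero_iff`, `lift_vanishing`, `HZ_eq_zero` (flasque ⇒ `Ext^{n+1}(ℤ_V/ℤ_W, F) = 0`),
`sectSuppF_preservesFiniteLimits`, `glue2`, `sectSupp_flasque`, `sectSuppF_map_epi`, `HZsh_isZero`,
`ofSect_comp`, `exists_of_isKernel`.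
-/

set_option autoImplicit false
universe u
open CategoryTheory CategoryTheory.Limits Opposite TopologicalSpace

namespace Groth.Agent.Lib.Helper16.SectSupp

open Groth.Agent.Lib.Helper16.ClosedEmb

variable {X : TopCat.{u}}

/-- abbreviation for the topology -/
abbrev J (X : TopCat.{u}) := Opens.grothendieckTopology X

lemma evalGen_comp {F G : CohTop.Ab X} (V : Opens X) (ψ : CohCx.freeSheaf (J X) V ⟶ F) (φ : F ⟶ G) :
    CohFree.evalGen (J X) V G (ψ ≫ φ) = φ.hom.app (op V) (CohFree.evalGen (J X) V F ψ) := rfl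

lemma ofSect_comp {F G : CohTop.Ab X} (V : Opens X) (s : F.obj.obj (op V)) (φ : F ⟶ G) :
    CohFree.ofSect (J X) V F s ≫ φ = CohFree.ofSect (J X) V G (φ.hom.app (op V) s) := by
  apply (CohFree.homEquivSect (J X) V G).injective
  rw [CohFree.homEquivSect_apply, CohFree.homEquivSect_apply, evalGen_comp, CohFree.evalGen_ofSect,
    CohFree.evalGen_ofSect]

/-- left exactness on sections: if `f` is a kernel of `g`, sections killed by `g` come from `f`. -/
lemma exists_of_isKernel (S : ShortComplex (CohTop.Ab X)) (hS : S.ShortExact) (V : Opens X)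
    (a : S.X₂.obj.obj (op V)) (ha : S.g.hom.app (op V) a = 0) :
    ∃ b : S.X₁.obj.obj (op V), S.f.hom.app (op V) b = a := by
  have h0 : CohFree.ofSect (J X) V S.X₂ a ≫ S.g = 0 := by
    rw [ofSect_comp, ha]
    apply (CohFree.homEquivSect (J X) V S.X₃).injective
    rw [CohFree.homEquivSect_apply, CohFree.evalGen_ofSect, map_zero]
  have hk := hS.fIsKernel
  let b' : CohCx.freeSheaf (J X) V ⟶ S.X₁ := hk.lift (KernelFork.ofι _ h0)
  have hb' : b' ≫ S.f = CohFree.ofSect (J X) V S.X₂ a := hk.fac (KernelFork.ofι _ h0) WalkingParallelPair.zero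
  refine ⟨CohFree.evalGen (J X) V S.X₁ b', ?_⟩
  rw [← evalGen_comp, hb', CohFree.evalGen_ofSect]

/-- lifting sections vanishing on `W` along `S.g` when `S.X₁` is flasque. -/
lemma lift_vanishing (S : ShortComplex (CohTop.Ab X)) (hS : S.ShortExact) [TopCat.Sheaf.IsFlasque S.X₁]
    {W V : Opens X} (h : W ≤ V) (s₃ : S.X₃.obj.obj (op V))
    (hs₃ : S.X₃.obj.map (homOfLE h).op s₃ = 0) :
    ∃ s₂ : S.X₂.obj.obj (op V), S.g.hom.app (op V) s₂ = s₃ ∧ S.X₂.obj.map (homOfLE h).op s₂ = 0 := by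
  have hepi : Epi (S.g.1.app (op V)) := TopCat.Sheaf.IsFlasque.epi_of_shortExact hS
  rw [AddCommGrpCat.epi_iff_surjective] at hepi
  obtain ⟨s₂, hs₂⟩ := hepi s₃
  -- s₂|_W is killed by g
  have h1 : S.g.hom.app (op W) (S.X₂.obj.map (homOfLE h).op s₂) = 0 := by
    have nat := ConcreteCategory.congr_hom (S.g.hom.naturality (homOfLE h).op) s₂
    refine nat.trans ?_
    change S.X₃.obj.map (homOfLE h).op (S.g.hom.app (op V) s₂) = 0
    rw [hs₂, hs₃]
  obtain ⟨s₁, hs₁⟩ := exists_of_isKernel S hS W _ h1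
  -- extend s₁ to V
  have hfl : Epi (S.X₁.obj.map (homOfLE h).op) := TopCat.Presheaf.IsFlasque.epi _
  rw [AddCommGrpCat.epi_iff_surjective] at hfl
  obtain ⟨s₁', hs₁'⟩ := hfl s₁
  refine ⟨s₂ - S.f.hom.app (op V) s₁', ?_, ?_⟩
  · rw [map_sub, hs₂]
    have : S.g.hom.app (op V) (S.f.hom.app (op V) s₁') = 0 := by
      have hz : S.f ≫ S.g = 0 := S.zero
      exact congrArg (fun m => m.hom.app (op V) s₁') hz
    rw [this, sub_zero]
  · rw [map_sub]
    have nat := ConcreteCategory.congr_hom (S.f.hom.naturality (homOfLE h).op) s₁'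
    have : S.X₂.obj.map (homOfLE h).op (S.f.hom.app (op V) s₁') = S.f.hom.app (op W) s₁ := by
      refine nat.symm.trans ?_
      change S.f.hom.app (op W) (S.X₁.obj.map (homOfLE h).op s₁') = _
      rw [hs₁']
    rw [this, hs₁, sub_self]

/-- flasque sheaves have no higher cohomology with supports (Ext form). -/
theorem HZ_eq_zero (F : CohTop.Ab X) [TopCat.Sheaf.IsFlasque F] {W V : Opens X} (h : W ≤ V) (n : ℕ)
    (x : LocCohZ.HZ F (n + 1) h) : x = 0 := by
  refine Groth.Agent.Lib.Helper16.Flasque.ext_vanish (fun G : CohTop.Ab X => TopCat.Sheaf.IsFlasque G)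
    (LocCohZ.zq h)
    (fun I hI => Groth.Agent.Lib.Helper16.Flasque.injective_isFlasque I)
    (fun S hS h1 h2 => TopCat.Sheaf.IsFlasque.of_shortExact_of_isFlasque₁₂ hS)
    (fun S hS h1 x => ?_) n F inferInstance x
  haveI : TopCat.Sheaf.IsFlasque S.X₁ := h1
  set π := cokernel.π (CohCx.freeSheafMap (J X) (homOfLE h)) with hπ
  set s₃ := CohFree.evalGen (J X) V S.X₃ (π ≫ x) with hs₃
  have hs₃W : S.X₃.obj.map (homOfLE h).op s₃ = 0 := by
    rw [hs₃, ← CohFree.evalGen_freeSheafMap_comp, ← Category.assoc, hπ, cokernel.condition, zero_comp,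
      map_zero]
  obtain ⟨s₂, hs₂, hs₂W⟩ := lift_vanishing S hS h s₃ hs₃W
  have hdesc : CohCx.freeSheafMap (J X) (homOfLE h) ≫ CohFree.ofSect (J X) V S.X₂ s₂ = 0 := by
    apply (CohFree.homEquivSect (J X) W S.X₂).injective
    rw [CohFree.homEquivSect_apply, CohFree.evalGen_freeSheafMap_comp, CohFree.evalGen_ofSect, hs₂W,
      map_zero]
  refine ⟨cokernel.desc _ (CohFree.ofSect (J X) V S.X₂ s₂) hdesc, ?_⟩
  rw [← cancel_epi π, hπ, ← Category.assoc, cokernel.π_desc, ofSect_comp, hs₂, hs₃, ← hπ]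
  exact CohFree.ofSect_evalGen (J X) V S.X₃ (π ≫ x)

section Abstract

universe v₁ v₂ u₁ u₂

variable {𝒳 : Type u₁} [Category.{v₁} 𝒳] {𝒵 : Type u₂} [Category.{v₂} 𝒵]
  {Li : 𝒳 ⥤ 𝒵} {Ri : 𝒵 ⥤ 𝒳} (adj : Li ⊣ Ri) (Γ : 𝒳 ⥤ 𝒳)
  (h4 : ∀ F, IsIso (adj.unit.app (Γ.obj F)))

include h4 in
/-- if the unit is invertible on the image of `Γ`, then `Γ ≅ Γ ⋙ Li ⋙ Ri`. -/
lemma nonempty_iso_comp : Nonempty (Γ ≅ (Γ ⋙ Li) ⋙ Ri) := by
  haveI := h4
  exact ⟨NatIso.ofComponents (fun F => asIso (adj.unit.app (Γ.obj F)))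
    (fun {F F'} f => adj.unit.naturality (Γ.map f))⟩

end Abstract

variable (U : Opens X)

/-- `Γ_Z` preserves finite limits. -/
lemma sectSuppF_preservesFiniteLimits : PreservesFiniteLimits (LocCohZ.sectSuppF U) := by
  obtain ⟨adj⟩ := nonempty_push_adj U
  obtain ⟨e⟩ := nonempty_iso_comp (adjI U) (LocCohZ.sectSuppF U)
    (fun F => isIso_unit_of_SZ U _ (sz_sectSupp U F))
  haveI : PreservesLimitsOfSize.{0, 0} (LocCohZ.sectSuppF U ⋙ CohTop.pull (CohCx.inclCompl U)) :=
    adj.rightAdjoint_preservesLimits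
  haveI : PreservesLimitsOfSize.{0, 0} (CohTop.push (iZ U)) :=
    (adjI U).rightAdjoint_preservesLimits
  haveI : PreservesFiniteLimits (LocCohZ.sectSuppF U ⋙ CohTop.pull (CohCx.inclCompl U)) :=
    PreservesLimitsOfSize.preservesFiniteLimits _
  haveI : PreservesFiniteLimits (CohTop.push (iZ U)) :=
    PreservesLimitsOfSize.preservesFiniteLimits _
  have h5 : PreservesFiniteLimits ((LocCohZ.sectSuppF U ⋙ CohTop.pull (CohCx.inclCompl U)) ⋙
      CohTop.push (iZ U)) := comp_preservesFiniteLimits _ _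
  exact @preservesFiniteLimits_of_natIso _ _ _ _ _ _ e.symm h5

/-- the unit kills `s` iff `s` vanishes on `V ⊓ U`. -/
lemma unit_eq_zero_iff (F : CohTop.Ab X) (V : Opens X) (s : F.obj.obj (op V)) :
    (ηJ U F).hom.app (op V) s = 0 ↔
      F.obj.map (homOfLE (inf_le_left : V ⊓ U ≤ V)).op s = 0 := by
  constructor
  · intro hs
    set ρt := ((adjJ U).homEquiv F _).symm (ρ U F) with hρt
    have h1 : (adjJ U).unit.app F ≫ (CohTop.push (jU U)).map ρt = ρ U F := by
      have := ((adjJ U).homEquiv F _).apply_symm_apply (ρ U F)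
      exact (Adjunction.homEquiv_unit (adjJ U) F _ _).symm.trans this
    have h2 : (ρ U F).hom.app (op V) s = 0 := by
      rw [← h1]
      change ((CohTop.push (jU U)).map ρt).hom.app (op V) (((adjJ U).unit.app F).hom.app (op V) s) = 0
      have hs' : ((adjJ U).unit.app F).hom.app (op V) s = 0 := hs
      rw [hs', map_zero]
    have h3 : F.obj.map (homOfLE (img_map_le U V)).op s = 0 := h2
    have hle : V ⊓ U ≤ img U ((Opens.map (jU U)).obj V) := by
      rintro x ⟨hxV, hxU⟩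
      exact ⟨⟨x, hxU⟩, hxV, rfl⟩
    rw [← map_map_apply F (homOfLE (img_map_le U V)) (homOfLE hle) _ s, h3, map_zero]
  · intro hs
    have nat := ConcreteCategory.congr_hom ((ηJ U F).hom.naturality
      (homOfLE (inf_le_left : V ⊓ U ≤ V)).op) s
    have nat' : ((CohTop.push (jU U)).obj ((CohTop.pull (jU U)).obj F)).obj.map
        (homOfLE (inf_le_left : V ⊓ U ≤ V)).op ((ηJ U F).hom.app (op V) s) =
        (ηJ U F).hom.app (op (V ⊓ U)) (F.obj.map (homOfLE (inf_le_left : V ⊓ U ≤ V)).op s) := nat.symm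
    rw [hs, map_zero] at nat'
    have heq : (Opens.map (jU U)).obj V = (Opens.map (jU U)).obj (V ⊓ U) := by
      ext x
      constructor
      · intro h
        exact ⟨show x.1 ∈ V from h, x.2⟩
      · intro h
        exact (show x.1 ∈ V ∧ x.1 ∈ U from h).1
    have inj := map_injective_of_eq ((CohTop.pull (jU U)).obj F)
      ((Opens.map (jU U)).map (homOfLE (inf_le_left : V ⊓ U ≤ V))) heq
    exact inj (nat'.trans (map_zero _).symm)

lemma ιΓ_injective (F : CohTop.Ab X) (V : Opens X) : Function.Injective ((ιΓ U F).hom.app (op V)) :=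
  injective_of_mono (ιΓ U F) V

/-- sections of `Γ_Z F` over `V` are the sections of `F` over `V` vanishing on `V ⊓ U`. -/
lemma exists_sectSupp_iff (F : CohTop.Ab X) (V : Opens X) (s : F.obj.obj (op V)) :
    (∃ t : ((LocCohZ.sectSuppF U).obj F).obj.obj (op V), (ιΓ U F).hom.app (op V) t = s) ↔
      F.obj.map (homOfLE (inf_le_left : V ⊓ U ≤ V)).op s = 0 := by
  rw [← unit_eq_zero_iff]
  constructor
  · rintro ⟨t, rfl⟩
    have hc : ιΓ U F ≫ ηJ U F = 0 := kernel.condition _
    exact congrArg (fun m => m.hom.app (op V) t) hc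
  · intro hs
    have h0 : CohFree.ofSect (J X) V F s ≫ ηJ U F = 0 := by
      rw [ofSect_comp, hs]
      apply (CohFree.homEquivSect (J X) V _).injective
      rw [CohFree.homEquivSect_apply, CohFree.evalGen_ofSect, map_zero]
    let t' : CohCx.freeSheaf (J X) V ⟶ (LocCohZ.sectSuppF U).obj F := kernel.lift (ηJ U F) _ h0
    have ht' : t' ≫ ιΓ U F = CohFree.ofSect (J X) V F s := kernel.lift_ι _ _ _
    refine ⟨CohFree.evalGen (J X) V _ t', ?_⟩
    rw [← evalGen_comp, ht', CohFree.evalGen_ofSect]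

/-- gluing two compatible sections. -/
lemma glue2 (F : CohTop.Ab X) (A B C : Opens X) (hA : A ≤ C) (hB : B ≤ C) (hC : C ≤ A ⊔ B)
    (a : F.obj.obj (op A)) (b : F.obj.obj (op B))
    (hab : F.obj.map (homOfLE (inf_le_left : A ⊓ B ≤ A)).op a =
      F.obj.map (homOfLE (inf_le_right : A ⊓ B ≤ B)).op b) :
    ∃ c : F.obj.obj (op C), F.obj.map (homOfLE hA).op c = a ∧ F.obj.map (homOfLE hB).op c = b := by
  let cov : Bool → Opens X := fun t => cond t A B
  let sf : ∀ t, ToType (F.obj.obj (op (cov t))) := fun t =>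
    match t with
    | true => a
    | false => b
  have iUV : ∀ t, cov t ⟶ C := fun t => homOfLE (by cases t <;> simp [cov, hA, hB])
  have hcover : C ≤ iSup cov := by
    intro x hx
    rcases hC hx with h | h
    · exact Opens.mem_iSup.mpr ⟨true, h⟩
    · exact Opens.mem_iSup.mpr ⟨false, h⟩
  have hcompat : TopCat.Presheaf.IsCompatible F.obj cov sf := by
    intro t t'
    cases t <;> cases t'
    · rfl
    · have e1 := map_map_apply F (homOfLE (inf_le_left : A ⊓ B ≤ A))
        (homOfLE (by simp [cov, inf_comm] : cov false ⊓ cov true ≤ A ⊓ B))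
        (Opens.infLERight (cov false) (cov true)) a
      have e2 := map_map_apply F (homOfLE (inf_le_right : A ⊓ B ≤ B))
        (homOfLE (by simp [cov, inf_comm] : cov false ⊓ cov true ≤ A ⊓ B))
        (Opens.infLELeft (cov false) (cov true)) b
      exact e2.symm.trans ((congrArg _ hab.symm).trans e1)
    · have e1 := map_map_apply F (homOfLE (inf_le_left : A ⊓ B ≤ A))
        (homOfLE (le_refl _ : cov true ⊓ cov false ≤ A ⊓ B))
        (Opens.infLELeft (cov true) (cov false)) a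
      have e2 := map_map_apply F (homOfLE (inf_le_right : A ⊓ B ≤ B))
        (homOfLE (le_refl _ : cov true ⊓ cov false ≤ A ⊓ B))
        (Opens.infLERight (cov true) (cov false)) b
      exact e1.symm.trans ((congrArg _ hab).trans e2)
    · rfl
  obtain ⟨c, hc, -⟩ := TopCat.Sheaf.existsUnique_gluing' F cov C iUV hcover sf hcompat
  exact ⟨c, hc true, hc false⟩

/-- `Γ_Z` of a flasque sheaf is flasque. -/
theorem sectSupp_flasque (A : CohTop.Ab X) [TopCat.Sheaf.IsFlasque A] :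
    TopCat.Sheaf.IsFlasque ((LocCohZ.sectSuppF U).obj A) := by
  constructor
  intro V V' i
  rw [AddCommGrpCat.epi_iff_surjective]
  intro t'
  have hle : V'.unop ≤ V.unop := i.unop.le
  -- s' = ι t'
  set s' := (ιΓ U A).hom.app V' t' with hs'
  have hs'0 : A.obj.map (homOfLE (inf_le_left : V'.unop ⊓ U ≤ V'.unop)).op s' = 0 :=
    (exists_sectSupp_iff U A V'.unop s').1 ⟨t', rfl⟩
  -- glue with zero on V ⊓ U
  obtain ⟨c, hc1, hc2⟩ := glue2 A V'.unop (V.unop ⊓ U) (V'.unop ⊔ (V.unop ⊓ U)) le_sup_left le_sup_right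
    le_rfl s' 0 (by
      rw [map_zero]
      have hle' : V'.unop ⊓ (V.unop ⊓ U) ≤ V'.unop ⊓ U := inf_le_inf_left _ inf_le_right
      rw [← map_map_apply A (homOfLE (inf_le_left : V'.unop ⊓ U ≤ V'.unop)) (homOfLE hle') _ s', hs'0,
        map_zero])
  -- extend to V
  have hW : V'.unop ⊔ (V.unop ⊓ U) ≤ V.unop := sup_le hle inf_le_left
  have hfl : Epi (A.obj.map (homOfLE hW).op) := TopCat.Presheaf.IsFlasque.epi _
  rw [AddCommGrpCat.epi_iff_surjective] at hfl
  obtain ⟨s, hs⟩ := hfl c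
  have hs0 : A.obj.map (homOfLE (inf_le_left : V.unop ⊓ U ≤ V.unop)).op s = 0 := by
    rw [← map_map_apply A (homOfLE hW) (homOfLE (le_sup_right : V.unop ⊓ U ≤ V'.unop ⊔ (V.unop ⊓ U))) _ s,
      hs, hc2]
  obtain ⟨t, ht⟩ := (exists_sectSupp_iff U A V.unop s).2 hs0
  refine ⟨t, ?_⟩
  apply ιΓ_injective U A V'.unop
  have nat := ConcreteCategory.congr_hom ((ιΓ U A).hom.naturality i) t
  refine nat.trans ?_
  change A.obj.map i ((ιΓ U A).hom.app V t) = s'
  rw [ht]
  have : A.obj.map i s = A.obj.map (homOfLE hle).op s := rfl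
  rw [this, ← map_map_apply A (homOfLE hW) (homOfLE (le_sup_left : V'.unop ≤ V'.unop ⊔ (V.unop ⊓ U))) _ s,
    hs, hc1]

/-- `Γ_Z` is right exact on short exact sequences with flasque kernel. -/
lemma sectSuppF_map_epi (S : ShortComplex (CohTop.Ab X)) (hS : S.ShortExact)
    [TopCat.Sheaf.IsFlasque S.X₁] : Epi ((LocCohZ.sectSuppF U).map S.g) := by
  haveI : ∀ V, Epi (((LocCohZ.sectSuppF U).map S.g).hom.app V) := by
    intro V
    rw [AddCommGrpCat.epi_iff_surjective]
    intro t₃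
    set s₃ := (ιΓ U S.X₃).hom.app V t₃ with hs₃
    have hs₃0 := (exists_sectSupp_iff U S.X₃ V.unop s₃).1 ⟨t₃, rfl⟩
    obtain ⟨s₂, hs₂, hs₂0⟩ := lift_vanishing S hS (inf_le_left : V.unop ⊓ U ≤ V.unop) s₃ hs₃0
    obtain ⟨t₂, ht₂⟩ := (exists_sectSupp_iff U S.X₂ V.unop s₂).2 hs₂0
    refine ⟨t₂, ?_⟩
    apply ιΓ_injective U S.X₃ V.unop
    have nat := congrArg (fun m => m.hom.app V t₂) (ιΓ_nat U S.g)
    refine nat.trans ?_
    change S.g.hom.app V ((ιΓ U S.X₂).hom.app V t₂) = s₃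
    rw [ht₂, hs₂]
  haveI : Epi ((LocCohZ.sectSuppF U).map S.g).hom := NatTrans.epi_of_epi_app _
  exact Sheaf.Hom.epi_of_presheaf_epi _ _ ((LocCohZ.sectSuppF U).map S.g)

/-- flasque sheaves have no higher local cohomology sheaves. -/
theorem HZsh_isZero (F : CohTop.Ab X) [TopCat.Sheaf.IsFlasque F] (n : ℕ) :
    IsZero ((LocCohZ.HZsh U (n + 1)).obj F) := by
  haveI := sectSuppF_preservesFiniteLimits U
  refine Groth.Agent.Lib.Helper16.Flasque.rightDerived_vanish (LocCohZ.sectSuppF U)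
    (fun G : CohTop.Ab X => TopCat.Sheaf.IsFlasque G)
    (fun I hI => Groth.Agent.Lib.Helper16.Flasque.injective_isFlasque I)
    (fun S hS h1 h2 => TopCat.Sheaf.IsFlasque.of_shortExact_of_isFlasque₁₂ hS)
    (fun S hS h1 => ?_) F inferInstance n
  haveI : TopCat.Sheaf.IsFlasque S.X₁ := h1
  exact sectSuppF_map_epi U S hS

end Groth.Agent.Lib.Helper16.SectSupp
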