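import Mathlib
import Groth.Agent.Lib.Helper16SectSupp
import Groth.Agent.Lib.Helper16ExtCompare

/-!
# Restriction of topological sheaves to an open subspace (helper16)

`restr_preservesFiniteLimits`, `restr_preservesFiniteColimits` (restriction to an open is exact), `restr_flasque`,
`wU : ℤ ⟶ (ℤ_U)|_U`, `wU_bijective`, `nonempty_HU_equiv : H^n(U, F) ≃+ H^n(U, F|_U)`.
-/

set_option autoImplicit false
universe u
open CategoryTheory TopologicalSpace Opposite CategoryTheory.Limits Abelian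

namespace Groth.Agent.Lib.Helper16.Restr

open Groth.Agent.Lib.Helper16.SectSupp Groth.Agent.Lib.Helper16.ClosedEmb

variable {X : TopCat.{u}} (U : Opens X)

lemma restr_isRightAdjoint : (CohTop.restrFunctor U).IsRightAdjoint := by
  unfold CohTop.restrFunctor Opens.sheafRestrict
  infer_instance

lemma restr_preservesFiniteLimits : PreservesFiniteLimits (CohTop.restrFunctor U) := by
  haveI := restr_isRightAdjoint U
  haveI : PreservesLimitsOfSize.{0, 0} (CohTop.restrFunctor U) :=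
    (Adjunction.ofIsRightAdjoint (CohTop.restrFunctor U)).rightAdjoint_preservesLimits
  exact PreservesLimitsOfSize.preservesFiniteLimits _

lemma img_le (W : Opens (TopCat.of U)) : img U W ≤ U := by
  rintro _ ⟨x, _, rfl⟩
  exact x.2

lemma mem_img {W : Opens (TopCat.of U)} {x : X} : x ∈ img U W ↔ ∃ h : x ∈ U, (⟨x, h⟩ : U) ∈ W := by
  constructor
  · rintro ⟨y, hy, rfl⟩
    exact ⟨y.2, hy⟩
  · rintro ⟨h, hx⟩
    exact ⟨⟨x, h⟩, hx, rfl⟩

lemma restr_map_epi {A B : CohTop.Ab X} (g : A ⟶ B) [Epi g] : Epi ((CohTop.restrFunctor U).map g) := by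
  have hg := (locSurj_iff g).1 inferInstance
  rw [locSurj_iff]
  intro W t x hx
  obtain ⟨V', hV', ⟨s, hs⟩, hxV'⟩ := hg (img U W) t x.1 ⟨x, hx, rfl⟩
  have hV'U : V' ≤ U := hV'.trans (img_le U W)
  let W' : Opens (TopCat.of U) := (Opens.map (jU U)).obj V'
  have hW'W : W' ≤ W := by
    intro y hy
    obtain ⟨h, hyW⟩ := (mem_img U).1 (hV' (show y.1 ∈ V' from hy))
    exact hyW
  have himg : img U W' ≤ V' := img_map_le U V'
  refine ⟨W', hW'W, ⟨A.obj.map (homOfLE himg).op s, ?_⟩, hxV'⟩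
  have nat := ConcreteCategory.congr_hom (g.hom.naturality (homOfLE himg).op) s
  change g.hom.app (op (img U W')) (A.obj.map (homOfLE himg).op s) =
    B.obj.map ((U.isOpenEmbedding.isOpenMap.functor).map (homOfLE hW'W)).op t
  refine nat.trans ?_
  change B.obj.map (homOfLE himg).op (g.hom.app (op V') s) = _
  rw [hs]
  exact map_map_apply B (homOfLE hV') (homOfLE himg) _ t

lemma restr_preservesFiniteColimits : PreservesFiniteColimits (CohTop.restrFunctor U) := by
  haveI : (CohTop.restrFunctor U).PreservesEpimorphisms := ⟨fun g _ => restr_map_epi U g⟩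
  haveI := restr_isRightAdjoint U
  haveI : PreservesLimitsOfSize.{0, 0} (CohTop.restrFunctor U) :=
    (Adjunction.ofIsRightAdjoint (CohTop.restrFunctor U)).rightAdjoint_preservesLimits
  haveI : (CohTop.restrFunctor U).PreservesHomology :=
    Functor.preservesHomology_of_preservesEpis_and_kernels _
  exact Functor.preservesFiniteColimits_of_preservesHomology _

/-- restriction of a flasque sheaf is flasque -/
instance restr_flasque (F : CohTop.Ab X) [TopCat.Sheaf.IsFlasque F] :
    TopCat.Sheaf.IsFlasque ((CohTop.restrFunctor U).obj F) := by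
  constructor
  intro W W' i
  exact TopCat.Presheaf.IsFlasque.epi (F := F.obj) ((U.isOpenEmbedding.isOpenMap.functor).map i.unop).op

lemma map_bijective_of_eq {Y : TopCat.{u}} (G : CohTop.Ab Y) {W W' : Opens Y} (f : W' ⟶ W) (h : W = W') :
    Function.Bijective (G.obj.map f.op) := by
  subst h
  have : f = 𝟙 _ := Subsingleton.elim _ _
  rw [this]
  constructor
  · intro a b hab
    simpa using hab
  · intro a
    exact ⟨a, by simp⟩

lemma uliftZ_hom_ext {G : AddCommGrpCat.{u}} (f g : AddCommGrpCat.of (ULift.{u} ℤ) ⟶ G)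
    (h : f ⟨1⟩ = g ⟨1⟩) : f = g := by
  ext m
  have hm : m = m.down • (⟨1⟩ : ULift.{u} ℤ) := by
    apply ULift.ext
    simp
  rw [hm, map_zsmul, map_zsmul]
  exact congrArg _ h

lemma img_top : img U ⊤ = U := by
  apply le_antisymm (img_le U ⊤)
  intro x hx
  exact ⟨⟨x, hx⟩, trivial, rfl⟩

/-- the free sheaf `ℤ_U` -/
noncomputable abbrev ZU : CohTop.Ab X := CohCx.freeSheaf (J X) U

/-- the generator of `(ℤ_U)|_U` over `⊤` -/
noncomputable def g₀ : ((CohTop.restrFunctor U).obj (ZU U)).obj.obj (op ⊤) :=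
  (ZU U).obj.map (homOfLE (img_le U ⊤)).op (CohFree.gen (J X) U)

/-- `1 ↦ g₀` -/
noncomputable def a₀ : AddCommGrpCat.of (ULift.{u} ℤ) ⟶
    ((sheafSections (J (TopCat.of U)) AddCommGrpCat.{u}).obj (op ⊤)).obj ((CohTop.restrFunctor U).obj (ZU U)) :=
  AddCommGrpCat.ofHom (((zmultiplesHom _) (g₀ U)).comp AddEquiv.ulift.toAddMonoidHom)

lemma a₀_one : a₀ U ⟨1⟩ = g₀ U := by
  change (1 : ℤ) • g₀ U = g₀ U
  rw [one_smul]

/-- the comparison map `ℤ ⟶ (ℤ_U)|_U`. -/
noncomputable def wU : constZ (TopCat.of U) ⟶ (CohTop.restrFunctor U).obj (ZU U) :=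
  ((adjC (TopCat.of U)).homEquiv _ _).symm (a₀ U)

lemma homEquiv_wU_comp {F : CohTop.Ab X} (φ : ZU U ⟶ F) :
    ((adjC (TopCat.of U)).homEquiv _ _ (wU U ≫ (CohTop.restrFunctor U).map φ)) ⟨1⟩ =
      F.obj.map (homOfLE (img_le U ⊤)).op (CohFree.evalGen (J X) U F φ) := by
  rw [Adjunction.homEquiv_naturality_right]
  have h1 : (adjC (TopCat.of U)).homEquiv _ _ (wU U) = a₀ U :=
    ((adjC (TopCat.of U)).homEquiv _ _).apply_symm_apply _
  rw [h1]
  change φ.hom.app (op (img U ⊤)) (a₀ U ⟨1⟩) = _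
  rw [a₀_one]
  have nat := ConcreteCategory.congr_hom (φ.hom.naturality (homOfLE (img_le U ⊤)).op) (CohFree.gen (J X) U)
  exact nat

lemma wU_bijective (F : CohTop.Ab X) :
    Function.Bijective (fun φ : ZU U ⟶ F => wU U ≫ (CohTop.restrFunctor U).map φ) := by
  have hbij := map_bijective_of_eq F (homOfLE (img_le U ⊤)) (img_top U).symm
  constructor
  · intro φ φ' h
    have h' : wU U ≫ (CohTop.restrFunctor U).map φ = wU U ≫ (CohTop.restrFunctor U).map φ' := h
    have h2 : ((adjC (TopCat.of U)).homEquiv _ _ (wU U ≫ (CohTop.restrFunctor U).map φ)) ⟨1⟩ =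
        ((adjC (TopCat.of U)).homEquiv _ _ (wU U ≫ (CohTop.restrFunctor U).map φ')) ⟨1⟩ := by rw [h']
    rw [homEquiv_wU_comp, homEquiv_wU_comp] at h2
    have h3 := hbij.1 h2
    exact (CohFree.homEquivSect (J X) U F).injective h3
  · intro χ
    obtain ⟨s, hs⟩ := hbij.2 (((adjC (TopCat.of U)).homEquiv _ _ χ) ⟨1⟩)
    refine ⟨CohFree.ofSect (J X) U F s, ?_⟩
    apply ((adjC (TopCat.of U)).homEquiv _ _).injective
    apply uliftZ_hom_ext
    change ((adjC (TopCat.of U)).homEquiv _ _ (wU U ≫ (CohTop.restrFunctor U).map _)) ⟨1⟩ = _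
    rw [homEquiv_wU_comp, CohFree.evalGen_ofSect, hs]

/-- `H^n(U, F)` computed on `X` agrees with `H^n(U, F|_U)` computed on `U`. -/
theorem nonempty_HU_equiv (F : CohTop.Ab X) (n : ℕ) :
    Nonempty (CohTop.HU F n U ≃+ CohTop.H (CohTop.restr F U) n) := by
  haveI := restr_preservesFiniteLimits U
  haveI := restr_preservesFiniteColimits U
  have hb := Groth.Agent.Lib.Helper16.ExtCompare.cmp_bijective.{u, u} (CohTop.restrFunctor U) (wU U)
    (wU_bijective U) (fun I _ m => by
      haveI := Groth.Agent.Lib.Helper16.Flasque.injective_isFlasque I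
      exact Groth.Agent.Lib.Helper16.Flasque.H_subsingleton ((CohTop.restrFunctor U).obj I) m) n F
  exact ⟨AddEquiv.ofBijective _ hb⟩

end Groth.Agent.Lib.Helper16.Restr
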