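import Mathlib
import Groth.Prelude.Def_LocCohZ
import Groth.Agent.Lib.Helper23AffVanish5

set_option autoImplicit false
universe u
open CategoryTheory CategoryTheory.Limits Opposite TopologicalSpace AlgebraicGeometry Abelian

namespace Groth.Agent.Lib.Helper23.AffVanish

variable {X : Scheme.{u}} [IsAffine X]

/-- **Affine vanishing** on basic opens: `H^{i+1}(D(h), F) = 0` for quasi-coherent `F` on an affine scheme. -/
theorem subsingleton_HE_basicOpen (F : X.Modules) [F.IsQuasicoherent] (i : ℕ) :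
    ∀ h : Γ(X, ⊤), Subsingleton (HE (ab F) (i + 1) (X.basicOpen h)) := by
  induction i using Nat.strong_induction_on with
  | _ i IH =>
    intro h
    have Hi : 0 < i → ∀ h : Γ(X, ⊤), Subsingleton (HE (ab F) i (X.basicOpen h)) := by
      intro hi
      obtain ⟨j, rfl⟩ := Nat.exists_eq_succ_of_ne_zero hi.ne'
      exact IH j (Nat.lt_succ_self j)
    suffices H : ∀ α : HE (ab F) (i + 1) (X.basicOpen h), α = 0 from
      ⟨fun a b => (H a).trans (H b).symm⟩
    intro α
    -- local vanishing on basic opens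
    have hloc : ∀ x : X.basicOpen h, ∃ f : Γ(X, ⊤), (x : X) ∈ X.basicOpen f ∧
        resE (ab F) (i + 1) (mul_le_left h f) α = 0 := by
      intro x
      obtain ⟨V, hV, hxV, hz⟩ := exists_res_eq_zero i (ab F) (X.basicOpen h) α x.1 x.2
      obtain ⟨_, ⟨f, rfl⟩, hxf, hfV⟩ := (Opens.isBasis_iff_nbhd.1 (isBasis_basicOpen X)) hxV
      refine ⟨f, hxf, ?_⟩
      have hle : X.basicOpen (h * f) ≤ V := (mul_le_right h f).trans hfV
      rw [← resE_resE (ab F) (i + 1) hV hle, hz, map_zero]
    choose f hxf hf using hloc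
    have hcomp : IsCompact (X.basicOpen h : Set X) := ((isAffineOpen_top X).basicOpen h).isCompact
    obtain ⟨t, ht⟩ := hcomp.elim_finite_subcover (fun x : X.basicOpen h => (X.basicOpen (f x) : Set X))
      (fun x => (X.basicOpen (f x)).2) (fun y hy => Set.mem_iUnion.2 ⟨⟨y, hy⟩, hxf ⟨y, hy⟩⟩)
    refine eq_zero_of_list F i Hi (t.toList.map f) h ?_ α ?_
    · apply mem_radical_of_cover
      intro y hy
      obtain ⟨x, hx⟩ := Set.mem_iUnion.1 (ht hy)
      obtain ⟨hxt, hyx⟩ := Set.mem_iUnion.1 hx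
      exact ⟨f x, List.mem_map.2 ⟨x, Finset.mem_toList.2 hxt, rfl⟩, hyx⟩
    · intro f' hf'
      obtain ⟨x, _, rfl⟩ := List.mem_map.1 hf'
      exact hf x

end Groth.Agent.Lib.Helper23.AffVanish
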