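import Mathlib
import Groth.Prelude.Def_LocCohZ
import Groth.Agent.Lib.Helper16Restr
import Groth.Agent.Lib.Helper16ExtPrecomp
import Groth.Agent.Lib.Helper23AffVanish6

set_option autoImplicit false
universe u
open CategoryTheory CategoryTheory.Limits Opposite TopologicalSpace AlgebraicGeometry Abelian

namespace Groth.Agent.Lib.Helper23.AffVanish

open Groth.Agent.Lib.Helper16.ClosedEmb Groth.Agent.Lib.Helper16.Restr

section Top
variable (Y : TopCat.{u})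

/-- `1 ↦ gen` -/
noncomputable def aTop : AddCommGrpCat.of (ULift.{u} ℤ) ⟶
    ((sheafSections (J Y) AddCommGrpCat.{u}).obj (op ⊤)).obj (ZU (⊤ : Opens Y)) :=
  AddCommGrpCat.ofHom (((zmultiplesHom _) (CohFree.gen (J Y) (⊤ : Opens Y))).comp AddEquiv.ulift.toAddMonoidHom)

lemma aTop_one : aTop Y ⟨1⟩ = CohFree.gen (J Y) (⊤ : Opens Y) := by
  change (1 : ℤ) • CohFree.gen (J Y) (⊤ : Opens Y) = _
  rw [one_smul]

/-- the comparison map `ℤ ⟶ ℤ_⊤` from the constant sheaf to the free sheaf on the whole space. -/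
noncomputable def wTop : constZ Y ⟶ ZU (⊤ : Opens Y) :=
  ((adjC Y).homEquiv _ _).symm (aTop Y)

lemma homEquiv_wTop_comp {F : CohTop.Ab Y} (φ : ZU (⊤ : Opens Y) ⟶ F) :
    ((adjC Y).homEquiv _ _ (wTop Y ≫ φ)) ⟨1⟩ = CohFree.evalGen (J Y) ⊤ F φ := by
  rw [Adjunction.homEquiv_naturality_right]
  have h1 : (adjC Y).homEquiv _ _ (wTop Y) = aTop Y := ((adjC Y).homEquiv _ _).apply_symm_apply _
  rw [h1]
  change φ.hom.app (op ⊤) (aTop Y ⟨1⟩) = _
  rw [aTop_one]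
  rfl

lemma wTop_bijective (F : CohTop.Ab Y) :
    Function.Bijective (fun φ : ZU (⊤ : Opens Y) ⟶ F => wTop Y ≫ φ) := by
  constructor
  · intro φ φ' h
    have h' : wTop Y ≫ φ = wTop Y ≫ φ' := h
    have h2 : ((adjC Y).homEquiv _ _ (wTop Y ≫ φ)) ⟨1⟩ = ((adjC Y).homEquiv _ _ (wTop Y ≫ φ')) ⟨1⟩ := by
      rw [h']
    rw [homEquiv_wTop_comp, homEquiv_wTop_comp] at h2
    exact (CohFree.homEquivSect (J Y) ⊤ F).injective h2
  · intro χ
    refine ⟨CohFree.ofSect (J Y) ⊤ F (((adjC Y).homEquiv _ _ χ) ⟨1⟩), ?_⟩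
    apply ((adjC Y).homEquiv _ _).injective
    apply uliftZ_hom_ext
    change ((adjC Y).homEquiv _ _ (wTop Y ≫ _)) ⟨1⟩ = _
    rw [homEquiv_wTop_comp, CohFree.evalGen_ofSect]

instance : (𝟭 (CohTop.Ab Y)).PreservesInjectiveObjects := ⟨fun hI => hI⟩

/-- `H^n(X, F)` (Ext out of the constant sheaf) agrees with `H^n(⊤, F)` (Ext out of `ℤ_⊤`). -/
theorem precomp_wTop_bijective (F : CohTop.Ab Y) (n : ℕ) :
    Function.Bijective ((Ext.mk₀ (wTop Y)).precomp F (zero_add n) : HE F n ⊤ →+ CohTop.H F n) :=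
  Groth.Agent.Lib.Helper16.ExtPrecomp.precomp_bijective.{u} (𝟭 (CohTop.Ab Y)) (wTop Y)
    (fun G => wTop_bijective Y G) n F

/-- `H^n(⊤, F) ≃ H^n(X, F)`. -/
noncomputable def HETopEquivH (F : CohTop.Ab Y) (n : ℕ) : HE F n ⊤ ≃+ CohTop.H F n :=
  AddEquiv.ofBijective _ (precomp_wTop_bijective Y F n)

end Top

variable {X : Scheme.{u}} [IsAffine X]

/-- **Affine vanishing**: quasi-coherent modules on affine schemes have no higher cohomology. -/
theorem subsingleton_HH (M : X.Modules) [M.IsQuasicoherent] (p : ℕ) (hp : 0 < p) :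
    Subsingleton (Coh.HH X M p) := by
  obtain ⟨i, rfl⟩ := Nat.exists_eq_succ_of_ne_zero hp.ne'
  have h1 := subsingleton_HE_basicOpen M i (1 : Γ(X, ⊤))
  have e : X.basicOpen (1 : Γ(X, ⊤)) = ⊤ := X.basicOpen_of_isUnit isUnit_one
  rw [e] at h1
  exact (HETopEquivH X.carrier (ab M) (i + 1)).symm.subsingleton

end Groth.Agent.Lib.Helper23.AffVanish
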