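import Mathlib
import Groth.Prelude.Def_LocCohZ
import Groth.Agent.Lib.Helper16Flasque
import Groth.Agent.Lib.Helper16ClosedEmb
import Groth.Agent.Lib.Helper23AffVanish1

/-!
# Acyclicity for direct images from vanishing on a basis (helper23)

`isZero_Rpush_of_basis`: for a continuous map `g : X ⟶ Y`, a basis `B` of opens of `Y` and an abelian sheaf `G` on
`X` with `H^{i+1}(g⁻¹V, G) = 0` for all `V ∈ B` and all `i`, the higher direct images `R^{n+1} g_* G` vanish.
-/

set_option autoImplicit false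
universe u
open CategoryTheory CategoryTheory.Limits Opposite TopologicalSpace Abelian

namespace Groth.Agent.Lib.Helper23.AffVanish

variable {X Y : TopCat.{u}} (g : X ⟶ Y)

/-- the acyclicity property on a family of opens -/
def AcyclicOn (B : Set (Opens Y)) (A : CohTop.Ab X) : Prop :=
  ∀ V ∈ B, ∀ i : ℕ, Subsingleton (HE A (i + 1) ((Opens.map g).obj V))

attribute [local instance] Ext.subsingleton_of_injective in
lemma acyclicOn_of_injective (B : Set (Opens Y)) (I : CohTop.Ab X) [Injective I] : AcyclicOn g B I :=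
  fun _ _ _ => inferInstance

lemma acyclicOn_X₃ (B : Set (Opens Y)) (S : ShortComplex (CohTop.Ab X)) (hS : S.ShortExact)
    (h₁ : AcyclicOn g B S.X₁) (h₂ : AcyclicOn g B S.X₂) : AcyclicOn g B S.X₃ := by
  intro V hV i
  refine ⟨fun a b => ?_⟩
  have key : ∀ x₃ : HE S.X₃ (i + 1) ((Opens.map g).obj V), x₃ = 0 := by
    intro x₃
    haveI := h₁ V hV (i + 1)
    haveI := h₂ V hV i
    obtain ⟨x₂, hx₂⟩ := Ext.covariant_sequence_exact₃ (ZU ((Opens.map g).obj V)) hS x₃ rfl
      (Subsingleton.elim (α := HE S.X₁ (i + 1 + 1) ((Opens.map g).obj V)) _ _)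
    have : x₂ = 0 := Subsingleton.elim (α := HE S.X₂ (i + 1) ((Opens.map g).obj V)) _ _
    rw [← hx₂, this, Ext.zero_comp]
  exact (key a).trans (key b).symm

lemma epi_push_map_of_acyclicOn (B : Set (Opens Y)) (hB : Opens.IsBasis B)
    (S : ShortComplex (CohTop.Ab X)) (hS : S.ShortExact) (h₁ : AcyclicOn g B S.X₁) :
    Epi ((CohTop.push g).map S.g) := by
  rw [Groth.Agent.Lib.Helper16.ClosedEmb.locSurj_iff]
  intro V t y hy
  obtain ⟨V', hV'B, hyV', hV'V⟩ := (Opens.isBasis_iff_nbhd.1 hB) hy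
  refine ⟨V', hV'V, ?_, hyV'⟩
  set W := (Opens.map g).obj V' with hW
  have hWle : W ≤ (Opens.map g).obj V := (Opens.map g).monotone hV'V
  let t' : S.X₃.obj.obj (op W) := S.X₃.obj.map (homOfLE hWle).op t
  haveI := h₁ V' hV'B 0
  obtain ⟨x₂, hx₂⟩ := Ext.covariant_sequence_exact₃ (ZU W) hS
    (Ext.mk₀ (CohFree.ofSect (J X) W S.X₃ t')) (zero_add 1)
    (Subsingleton.elim (α := HE S.X₁ (0 + 1) W) _ _)
  obtain ⟨c, rfl⟩ := (Ext.mk₀_bijective _ _).2 x₂
  rw [Ext.mk₀_comp_mk₀] at hx₂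
  have hc : c ≫ S.g = CohFree.ofSect (J X) W S.X₃ t' := (Ext.mk₀_bijective _ _).1 hx₂
  refine ⟨CohFree.evalGen (J X) W S.X₂ c, ?_⟩
  have h3 : (S.g.hom.app (op W)).hom (CohFree.evalGen (J X) W S.X₂ c) =
      CohFree.evalGen (J X) W S.X₃ (c ≫ S.g) := rfl
  have h4 := h3.trans (by rw [hc, CohFree.evalGen_ofSect])
  exact h4

/-- Vanishing of higher direct images from vanishing of cohomology over preimages of a basis. -/
theorem isZero_Rpush_of_basis (B : Set (Opens Y)) (hB : Opens.IsBasis B) (G : CohTop.Ab X)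
    (hG : AcyclicOn g B G) (n : ℕ) : IsZero ((CohTop.Rpush g (n + 1)).obj G) := by
  haveI := Groth.Agent.Lib.Helper16.ClosedEmb.push_preservesFiniteLimits g
  exact Groth.Agent.Lib.Helper16.Flasque.rightDerived_vanish (CohTop.push g) (AcyclicOn g B)
    (fun I hI => acyclicOn_of_injective g B I)
    (fun S hS h₁ h₂ => acyclicOn_X₃ g B S hS h₁ h₂)
    (fun S hS h₁ => epi_push_map_of_acyclicOn g B hB S hS h₁) G hG n

end Groth.Agent.Lib.Helper23.AffVanish
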