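import Mathlib
import Groth.Prelude.Def_Coh
import Groth.Agent.Lib.Helper23QCohExt
import Groth.Agent.Lib.Helper23QCohLocal
import Groth.Agent.Lib.Helper23AffVanish7
import Groth.Agent.Lib.Helper23GenLocus

/-!
# Serre's criterion for affineness (helper23)

`Hyp X` : `H¹(X, I) = 0` for every quasi-coherent ideal `I ↪ O_X`.

* `epi_of_locally_surjective`, `unitPush i : O_X ⟶ i_* O_Z`, `epi_unitPush` (closed immersions)
* `surjective_app_top_of_epi`, `surjective_app_top_of_isClosedImmersion`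
* `exists_idempotent_of_disjoint_cover`, `exists_basicOpen_le` (closed point `x ∈ U` ⇒ `x ∈ X_f ⊆ U`)
* `exists_finset_cover`
* `mulBy f : O_X ⟶ O_X`, `mulBy_app`
* `SubVanish M`, `subsingleton_HE_of_shortExact`, `subVanish_biprod`
* `Pn l`, `psi l`, `psi_app_mem`, `epi_psi`, `span_eq_top`
* `isAffine_of_hyp`
-/

set_option autoImplicit false
universe u
open CategoryTheory Limits AlgebraicGeometry TopologicalSpace Opposite

namespace Groth.Agent.Lib.Helper23.Serre

open Groth.Agent.Lib.Helper23.AffVanish Groth.Agent.Lib.Helper23.QCohLocal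
open Groth.Agent.Lib.Helper23.GenLocus
open CategoryTheory.Abelian

variable {X : Scheme.{u}}

/-- a morphism of modules that is locally surjective on sections is an epimorphism -/
theorem epi_of_locally_surjective {M N : X.Modules} (π : M ⟶ N)
    (h : ∀ (V : X.Opens) (t : Γ(N, V)) (x : X), x ∈ V → ∃ (V' : X.Opens) (hle : V' ≤ V), x ∈ V' ∧
      ∃ s : Γ(M, V'), π.app V' s = N.presheaf.map (homOfLE hle).op t) : Epi π := by
  have h1 : Epi ((toAbF X).map π) := by
    rw [Groth.Agent.Lib.Helper16.ClosedEmb.locSurj_iff]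
    intro V t x hx
    obtain ⟨V', hle, hxV', s, hs⟩ := h V t x hx
    exact ⟨V', hle, ⟨s, hs⟩, hxV'⟩
  have hF : (toAbF X).Faithful := inferInstanceAs (SheafOfModules.toSheaf X.ringCatSheaf).Faithful
  have : (toAbF X).ReflectsEpimorphisms := Functor.reflectsEpimorphisms_of_faithful _
  exact (toAbF X).epi_of_epi_map h1

/-- the canonical map `O_X ⟶ i_* O_Z` -/
noncomputable def unitPush {Z : Scheme.{u}} (i : Z ⟶ X) :
    Coh.structureModule X ⟶ (Scheme.Modules.pushforward i).obj (Coh.structureModule Z) :=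
  SheafOfModules.unitToPushforwardObjUnit i.toRingCatSheafHom

theorem unitPush_app {Z : Scheme.{u}} (i : Z ⟶ X) (W : X.Opens) (a : Γ(X, W)) :
    (unitPush i).app W (toS W a) = toS (i ⁻¹ᵁ W) (i.app W a) := rfl

instance epi_unitPush {Z : Scheme.{u}} (i : Z ⟶ X) [IsClosedImmersion i] : Epi (unitPush i) := by
  apply epi_of_locally_surjective
  intro V t x hx
  obtain ⟨_, ⟨V', hV', rfl⟩, hxV', hle⟩ :=
    X.isBasis_affineOpens.exists_subset_of_mem_open hx V.isOpen
  refine ⟨V', hle, hxV', ?_⟩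
  obtain ⟨a, ha⟩ := i.app_surjective V' hV'
    (ofS (i ⁻¹ᵁ V') (((Scheme.Modules.pushforward i).obj (Coh.structureModule Z)).presheaf.map (homOfLE hle).op t))
  exact ⟨toS V' a, (unitPush_app i V' a).trans (congrArg (toS (i ⁻¹ᵁ V')) ha)⟩

theorem isQuasicoherent_structureModule' (P : Scheme.{u}) : (Coh.structureModule P).IsQuasicoherent := by
  unfold Coh.structureModule
  have h : (SheafOfModules.free (R := P.ringCatSheaf) PUnit.{u+1}).IsQuasicoherent := inferInstance
  exact (SheafOfModules.isQuasicoherent P.ringCatSheaf).prop_of_iso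
    (coproductUniqueIso (fun (_ : PUnit.{u+1}) ↦ SheafOfModules.unit P.ringCatSheaf)) h

/-- the hypothesis of Serre's criterion -/
def Hyp (X : Scheme.{u}) : Prop :=
  ∀ (I : X.Modules) (i : I ⟶ Coh.structureModule X), Mono i → Coh.IsQCoh I → Subsingleton (Coh.HH X I 1)

theorem subsingleton_HE_of_hyp (h : Hyp X) (I : X.Modules) (i : I ⟶ Coh.structureModule X) [Mono i]
    [I.IsQuasicoherent] : Subsingleton (HE (ab' I) 1 ⊤) := by
  have h1 : Subsingleton (Coh.HH X I 1) := h I i inferInstance inferInstance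
  exact (HETopEquivH X.carrier (ab' I) 1).toEquiv.subsingleton

theorem surjective_app_top_of_epi (h : Hyp X) {Q : X.Modules} [Q.IsQuasicoherent]
    (π : Coh.structureModule X ⟶ Q) [Epi π] : Function.Surjective (π.app ⊤) := by
  have : (Coh.structureModule X).IsQuasicoherent := isQuasicoherent_structureModule' X
  let S : ShortComplex X.Modules := ShortComplex.mk (kernel.ι π) π (kernel.condition π)
  have hS : S.ShortExact :=
    { exact := ShortComplex.exact_kernel π
      mono_f := inferInstanceAs (Mono (kernel.ι π))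
      epi_g := inferInstanceAs (Epi π) }
  have : (kernel π).IsQuasicoherent := isQuasicoherent_kernel π
  exact surjective_app_of_subsingleton_HE S hS ⊤ (subsingleton_HE_of_hyp h (kernel π) (kernel.ι π))

theorem surjective_app_top_of_isClosedImmersion (h : Hyp X) {Z : Scheme.{u}} (i : Z ⟶ X)
    [IsClosedImmersion i] : Function.Surjective (i.app ⊤) := by
  have : (Coh.structureModule Z).IsQuasicoherent := isQuasicoherent_structureModule' Z
  have : ((Scheme.Modules.pushforward i).obj (Coh.structureModule Z)).IsQuasicoherent :=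
    isQuasicoherent_pushforward i _
  intro b
  obtain ⟨a, ha⟩ := surjective_app_top_of_epi h (unitPush i) (toS (i ⁻¹ᵁ ⊤) b)
  exact ⟨ofS ⊤ a, congrArg (ofS (i ⁻¹ᵁ ⊤)) ha⟩

theorem map_map_le (Z : Scheme.{u}) {A B C : Z.Opens} (h1 : A ≤ B) (h2 : B ≤ C) (s : Γ(Z, C)) :
    Z.presheaf.map (homOfLE h1).op (Z.presheaf.map (homOfLE h2).op s) =
      Z.presheaf.map (homOfLE (h1.trans h2)).op s := by
  rw [← ConcreteCategory.comp_apply, ← Functor.map_comp]
  rfl

theorem exists_idempotent_of_disjoint_cover (Z : Scheme.{u}) (V1 V2 : Z.Opens) (hinf : V1 ⊓ V2 = ⊥)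
    (hsup : V1 ⊔ V2 = ⊤) :
    ∃ e : Γ(Z, ⊤), Z.presheaf.map (homOfLE (le_top : V1 ≤ ⊤)).op e = 1 ∧
      Z.presheaf.map (homOfLE (le_top : V2 ≤ ⊤)).op e = 0 := by
  have hss : Subsingleton Γ(Z, V1 ⊓ V2) := by rw [hinf]; infer_instance
  let x : ↑(CommRingCat.of (RingHom.eqLocus
      (RingHom.comp (Z.sheaf.obj.map (homOfLE inf_le_left : V1 ⊓ V2 ⟶ V1).op).hom
        (RingHom.fst (Z.sheaf.obj.obj <| op V1) (Z.sheaf.obj.obj <| op V2)))
      (RingHom.comp (Z.sheaf.obj.map (homOfLE inf_le_right : V1 ⊓ V2 ⟶ V2).op).hom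
        (RingHom.snd (Z.sheaf.obj.obj <| op V1) (Z.sheaf.obj.obj <| op V2))))) :=
    ⟨(1, 0), @Subsingleton.elim _ hss _ _⟩
  let e' : Γ(Z, V1 ⊔ V2) := (Z.sheaf.objSupIsoProdEqLocus V1 V2).inv x
  refine ⟨Z.presheaf.map (homOfLE hsup.ge).op e', ?_, ?_⟩
  · have h1 := TopCat.Sheaf.objSupIsoProdEqLocus_inv_fst Z.sheaf V1 V2 x
    rw [map_map_le]
    exact h1
  · have h1 := TopCat.Sheaf.objSupIsoProdEqLocus_inv_snd Z.sheaf V1 V2 x
    rw [map_map_le]
    exact h1

theorem exists_basicOpen_le (h : Hyp X) (x : X) (hx : IsClosed ({x} : Set X)) (U : X.Opens) (hxU : x ∈ U) :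
    ∃ f : Γ(X, ⊤), x ∈ X.basicOpen f ∧ X.basicOpen f ≤ U := by
  let T : Closeds X := ⟨(U : Set X)ᶜ ∪ {x}, U.isOpen.isClosed_compl.union hx⟩
  let J := Scheme.IdealSheafData.vanishingIdeal T
  let i : J.subscheme ⟶ X := J.subschemeι
  have hrange : Set.range i = (U : Set X)ᶜ ∪ {x} := by
    rw [J.range_subschemeι]
    exact Scheme.IdealSheafData.coe_support_vanishingIdeal T
  let Ux : X.Opens := ⟨({x} : Set X)ᶜ, hx.isOpen_compl⟩
  let V1 : J.subscheme.Opens := i ⁻¹ᵁ U
  let V2 : J.subscheme.Opens := i ⁻¹ᵁ Ux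
  have hinf : V1 ⊓ V2 = ⊥ := by
    ext z
    simp only [Opens.coe_inf, Set.mem_inter_iff, SetLike.mem_coe, Opens.coe_bot, Set.mem_empty_iff_false,
      iff_false, not_and]
    intro hz1 hz2
    have hz : i z ∈ (U : Set X)ᶜ ∪ {x} := hrange ▸ Set.mem_range_self z
    rcases hz with hz | hz
    · exact hz hz1
    · exact hz2 hz
  have hsup : V1 ⊔ V2 = ⊤ := by
    ext z
    simp only [Opens.coe_sup, Set.mem_union, SetLike.mem_coe, Opens.coe_top, Set.mem_univ, iff_true]
    by_cases hz : i z = x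
    · left
      change i z ∈ U
      rw [hz]; exact hxU
    · right
      exact hz
  obtain ⟨e, he1, he2⟩ := exists_idempotent_of_disjoint_cover J.subscheme V1 V2 hinf hsup
  obtain ⟨f, hf⟩ := surjective_app_top_of_isClosedImmersion h i e
  have hpre : i ⁻¹ᵁ (X.basicOpen f) = J.subscheme.basicOpen e := by
    rw [Scheme.preimage_basicOpen, hf]
    rfl
  have hV1 : V1 ≤ J.subscheme.basicOpen e := by
    have h1 := J.subscheme.basicOpen_res e (homOfLE (le_top : V1 ≤ ⊤)).op
    rw [he1] at h1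
    have h2 : J.subscheme.basicOpen (1 : Γ(J.subscheme, V1)) = V1 := J.subscheme.basicOpen_of_isUnit isUnit_one
    rw [h2] at h1
    exact inf_eq_left.1 h1.symm
  have hV2 : V2 ⊓ J.subscheme.basicOpen e = ⊥ := by
    have h1 := J.subscheme.basicOpen_res e (homOfLE (le_top : V2 ≤ ⊤)).op
    rw [he2, Scheme.basicOpen_zero] at h1
    exact h1.symm
  have hxr : x ∈ Set.range i := by rw [hrange]; right; rfl
  obtain ⟨z₀, hz₀⟩ := hxr
  refine ⟨f, ?_, ?_⟩
  · have : z₀ ∈ i ⁻¹ᵁ (X.basicOpen f) := by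
      rw [hpre]
      apply hV1
      change i z₀ ∈ U
      rw [hz₀]; exact hxU
    rw [← hz₀]
    exact this
  · intro y hy
    by_contra hyU
    have hyr : y ∈ Set.range i := by rw [hrange]; left; exact hyU
    obtain ⟨z, rfl⟩ := hyr
    have hz1 : z ∈ J.subscheme.basicOpen e := by
      rw [← hpre]; exact hy
    have hz2 : z ∈ V2 := by
      change i z ∈ ({x} : Set X)ᶜ
      intro hzx
      rw [Set.mem_singleton_iff] at hzx
      rw [hzx] at hyU
      exact hyU hxU
    have : z ∈ V2 ⊓ J.subscheme.basicOpen e := ⟨hz2, hz1⟩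
    rw [hV2] at this
    exact this

theorem exists_affine_basicOpen_mem (h : Hyp X) [CompactSpace X] (y : X) :
    ∃ f : Γ(X, ⊤), IsAffineOpen (X.basicOpen f) ∧ y ∈ X.basicOpen f := by
  by_contra hcon
  push Not at hcon
  let W : X.Opens := ⨆ f : {f : Γ(X, ⊤) // IsAffineOpen (X.basicOpen f)}, X.basicOpen f.1
  have hyW : y ∉ W := by
    intro hy
    obtain ⟨f, hf⟩ := Opens.mem_iSup.1 hy
    exact hcon f.1 f.2 hf
  obtain ⟨x, hxW, hx⟩ := IsClosed.exists_closed_singleton (S := (W : Set X)ᶜ) W.isOpen.isClosed_compl ⟨y, hyW⟩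
  obtain ⟨_, ⟨U, hU, rfl⟩, hxU, -⟩ :=
    X.isBasis_affineOpens.exists_subset_of_mem_open (Set.mem_univ x) isOpen_univ
  obtain ⟨f, hxf, hfU⟩ := exists_basicOpen_le h x hx U hxU
  have haff : IsAffineOpen (X.basicOpen f) := by
    have h1 := X.basicOpen_res f (homOfLE (le_top : U ≤ ⊤)).op
    rw [inf_eq_right.2 hfU] at h1
    rw [← h1]
    exact hU.basicOpen _
  exact hxW (Opens.mem_iSup.2 ⟨⟨f, haff⟩, hxf⟩)

theorem exists_finset_cover (h : Hyp X) [CompactSpace X] :
    ∃ s : Finset Γ(X, ⊤), (∀ f ∈ s, IsAffineOpen (X.basicOpen f)) ∧ ∀ y : X, ∃ f ∈ s, y ∈ X.basicOpen f := by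
  classical
  choose f hf1 hf2 using exists_affine_basicOpen_mem h
  obtain ⟨t, ht⟩ := CompactSpace.elim_nhds_subcover (fun y => (X.basicOpen (f y) : Set X))
    (fun y => (X.basicOpen (f y)).isOpen.mem_nhds (hf2 y))
  refine ⟨t.image f, ?_, ?_⟩
  · intro g hg
    obtain ⟨y, -, rfl⟩ := Finset.mem_image.1 hg
    exact hf1 y
  · intro y
    have hy : y ∈ ⋃ x ∈ t, (X.basicOpen (f x) : Set X) := by rw [ht]; trivial
    simp only [Set.mem_iUnion] at hy
    obtain ⟨x, hxt, hyx⟩ := hy
    exact ⟨f x, Finset.mem_image_of_mem f hxt, hyx⟩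

/-- restriction of a global function -/
noncomputable def resF (f : Γ(X, ⊤)) (W : X.Opens) : Γ(X, W) := X.presheaf.map (homOfLE (le_top : W ≤ ⊤)).op f

/-- multiplication by a global function on the structure module -/
noncomputable def mulBy (f : Γ(X, ⊤)) : Coh.structureModule X ⟶ Coh.structureModule X :=
  (SheafOfModules.unitHomEquiv (Coh.structureModule X)).symm
    (PresheafOfModules.sectionsMk (M := (Coh.structureModule X).val) (fun U => toS U.unop (resF f U.unop))
      (by
        intro U V i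
        change toS V.unop (X.presheaf.map i (resF f U.unop)) = _
        congr 1
        unfold resF
        rw [← ConcreteCategory.comp_apply, ← Functor.map_comp]
        rfl))

theorem endFun_mulBy (f : Γ(X, ⊤)) (W : X.Opens) : endFun (mulBy f) W = resF f W := by
  have h1 := SheafOfModules.unitHomEquiv_apply_coe (Coh.structureModule X) (mulBy f) (op W)
  unfold mulBy at h1
  rw [Equiv.apply_symm_apply] at h1
  exact h1.symm

theorem mulBy_app (f : Γ(X, ⊤)) (W : X.Opens) (a : Γ(X, W)) :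
    (mulBy f).app W (toS W a) = toS W (a * resF f W) := by
  rw [end_app_eq, endFun_mulBy]

/-- every quasi-coherent subobject of `M` has vanishing `H¹` -/
def SubVanish (M : X.Modules) : Prop :=
  ∀ (K : X.Modules) (ι : K ⟶ M), Mono ι → K.IsQuasicoherent → Subsingleton (HE (ab' K) 1 ⊤)

theorem subsingleton_HE_of_shortExact (S : ShortComplex X.Modules) (hS : S.ShortExact) (n : ℕ) (W : X.Opens)
    (h1 : Subsingleton (HE (ab' S.X₁) n W)) (h3 : Subsingleton (HE (ab' S.X₃) n W)) :
    Subsingleton (HE (ab' S.X₂) n W) := by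
  have hS' := shortExact_toAbF S hS
  refine ⟨fun a b => ?_⟩
  have key : ∀ c : HE (ab' S.X₂) n W, c = 0 := by
    intro c
    obtain ⟨x₁, hx₁⟩ := Ext.covariant_sequence_exact₂ (ZU W) hS' c (@Subsingleton.elim _ h3 _ _)
    have : x₁ = 0 := @Subsingleton.elim _ h1 _ _
    rw [← hx₁, this, Ext.zero_comp]
    rfl
  rw [key a, key b]

theorem subVanish_biprod (M N : X.Modules) [M.IsQuasicoherent] [N.IsQuasicoherent] (hM : SubVanish M)
    (hN : SubVanish N) : SubVanish (M ⊞ N) := by
  intro K ι hι hK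
  let p : K ⟶ N := ι ≫ biprod.snd
  let K' : X.Modules := kernel p
  let ι' : K' ⟶ K := kernel.ι p
  let C : X.Modules := cokernel p
  let π : N ⟶ C := cokernel.π p
  let K'' : X.Modules := kernel π
  let j : K'' ⟶ N := kernel.ι π
  let q : K ⟶ K'' := kernel.lift π p (cokernel.condition p)
  have hq : q = Abelian.factorThruImage p := rfl
  have hqe : Epi q := by rw [hq]; infer_instance
  have hqj : q ≫ j = p := kernel.lift_ι _ _ _
  have hK' : K'.IsQuasicoherent := isQuasicoherent_kernel p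
  have hC : C.IsQuasicoherent := isQuasicoherent_cokernel p
  have hK'' : K''.IsQuasicoherent := isQuasicoherent_kernel π
  have hmono : Mono (ι' ≫ ι ≫ biprod.fst) := by
    apply Preadditive.mono_of_cancel_zero
    intro P g hg
    have h2 : g ≫ ι' ≫ ι ≫ biprod.snd = 0 := by
      have : ι' ≫ p = 0 := kernel.condition p
      change g ≫ ι' ≫ p = 0
      rw [this, comp_zero]
    have h3 : (g ≫ ι') ≫ ι = 0 := by
      apply biprod.hom_ext
      · simpa using hg
      · simpa using h2
    have h4 : g ≫ ι' = 0 := by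
      rw [← cancel_mono ι, h3, zero_comp]
    have hι' : Mono ι' := inferInstanceAs (Mono (kernel.ι p))
    rw [← cancel_mono ι', h4, zero_comp]
  have v1 := hM K' (ι' ≫ ι ≫ biprod.fst) hmono hK'
  have hj : Mono j := inferInstanceAs (Mono (kernel.ι π))
  have v2 := hN K'' j hj hK''
  have hzero : ι' ≫ q = 0 := by
    rw [← cancel_mono j, Category.assoc, hqj, zero_comp]
    exact kernel.condition p
  let S : ShortComplex X.Modules := ShortComplex.mk ι' q hzero
  let S₀ : ShortComplex X.Modules := ShortComplex.mk ι' p (kernel.condition p)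
  have hS₀ : S₀.Exact := ShortComplex.exact_kernel p
  let φ : S ⟶ S₀ := { τ₁ := 𝟙 _, τ₂ := 𝟙 _, τ₃ := j, comm₁₂ := by simp [S, S₀], comm₂₃ := by simp [S, S₀, hqj] }
  have hSe : S.Exact := by
    have : Epi φ.τ₁ := inferInstanceAs (Epi (𝟙 _))
    have : IsIso φ.τ₂ := inferInstanceAs (IsIso (𝟙 _))
    have : Mono φ.τ₃ := hj
    exact (ShortComplex.exact_iff_of_epi_of_isIso_of_mono φ).2 hS₀
  have hS : S.ShortExact :=
    { exact := hSe
      mono_f := inferInstanceAs (Mono (kernel.ι p))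
      epi_g := hqe }
  exact subsingleton_HE_of_shortExact S hS 1 ⊤ v1 v2

/-- `O^{n+1}` as an iterated biproduct, indexed by a list of global functions -/
noncomputable def Pn : List Γ(X, ⊤) → X.Modules
  | [] => Coh.structureModule X
  | (_ :: l) => Coh.structureModule X ⊞ Pn l

/-- the map `(a_k) ↦ ∑ a_k f_k` (zero on the extra summand) -/
noncomputable def psi : (l : List Γ(X, ⊤)) → (Pn l ⟶ Coh.structureModule X)
  | [] => 0
  | (f :: l) => biprod.desc (mulBy f) (psi l)

theorem isQuasicoherent_Pn (l : List Γ(X, ⊤)) : (Pn l).IsQuasicoherent := by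
  induction l with
  | nil => exact isQuasicoherent_structureModule' X
  | cons f l ih =>
    have := isQuasicoherent_structureModule' X
    exact isQuasicoherent_biprod _ _

theorem subVanish_structureModule (h : Hyp X) : SubVanish (Coh.structureModule X) := by
  intro K ι hι hK
  exact subsingleton_HE_of_hyp h K ι

theorem subVanish_Pn (h : Hyp X) (l : List Γ(X, ⊤)) : SubVanish (Pn l) := by
  induction l with
  | nil => exact subVanish_structureModule h
  | cons f l ih =>
    have := isQuasicoherent_structureModule' X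
    have := isQuasicoherent_Pn l
    exact subVanish_biprod _ _ (subVanish_structureModule h) ih

theorem resF_top (f : Γ(X, ⊤)) : resF f ⊤ = f := by
  unfold resF
  have : (homOfLE (le_top : (⊤ : X.Opens) ≤ ⊤)).op = 𝟙 _ := rfl
  rw [this, X.presheaf.map_id]
  rfl

theorem psi_app_mem (l : List Γ(X, ⊤)) (s : Γ(Pn l, ⊤)) :
    ofS ⊤ ((psi l).app ⊤ s) ∈ Ideal.span {f | f ∈ l} := by
  induction l with
  | nil =>
    have : (psi ([] : List Γ(X, ⊤))).app ⊤ s = 0 := by
      change (0 : Pn ([] : List Γ(X, ⊤)) ⟶ Coh.structureModule X).app ⊤ s = 0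
      rw [Scheme.Modules.Hom.zero_app]
      rfl
    rw [this]
    exact Ideal.zero_mem _
  | cons f l ih =>
    let a : Γ(Coh.structureModule X, ⊤) := (biprod.fst : Coh.structureModule X ⊞ Pn l ⟶ _).app ⊤ s
    let b : Γ(Pn l, ⊤) := (biprod.snd : Coh.structureModule X ⊞ Pn l ⟶ _).app ⊤ s
    have h1 : (psi (f :: l)).app ⊤ s = (mulBy f).app ⊤ a + (psi l).app ⊤ b := by
      change (biprod.desc (mulBy f) (psi l)).app ⊤ s = _
      rw [biprod.desc_eq, Scheme.Modules.Hom.add_app, Scheme.Modules.Hom.comp_app,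
        Scheme.Modules.Hom.comp_app]
      rfl
    have h2 : (mulBy f).app ⊤ a = toS ⊤ (ofS ⊤ a * f) := by
      have := mulBy_app f ⊤ (ofS ⊤ a)
      rw [resF_top, toS_ofS] at this
      exact this
    have h3 : ofS ⊤ ((psi (f :: l)).app ⊤ s) = ofS ⊤ a * f + ofS ⊤ ((psi l).app ⊤ b) := by
      rw [h1, h2]
      rfl
    rw [h3]
    apply Ideal.add_mem
    · exact Ideal.mul_mem_left _ _ (Ideal.subset_span (List.mem_cons_self))
    · exact Ideal.span_mono (fun g hg => List.mem_cons_of_mem f hg) (ih b)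

theorem isUnit_resF (f : Γ(X, ⊤)) (W : X.Opens) (hW : W ≤ X.basicOpen f) : IsUnit (resF f W) := by
  have h2 : IsUnit (X.presheaf.map (homOfLE hW).op (X.presheaf.map (homOfLE (X.basicOpen_le f)).op f)) :=
    (X.toRingedSpace.isUnit_res_basicOpen f).map _
  rw [← ConcreteCategory.comp_apply, ← Functor.map_comp] at h2
  exact h2

theorem psi_locally_surjective (l : List Γ(X, ⊤)) (y : X) (hy : ∃ f ∈ l, y ∈ X.basicOpen f)
    (V : X.Opens) (t : Γ(Coh.structureModule X, V)) (hyV : y ∈ V) :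
    ∃ (V' : X.Opens) (hle : V' ≤ V), y ∈ V' ∧ ∃ s : Γ(Pn l, V'),
      (psi l).app V' s = (Coh.structureModule X).presheaf.map (homOfLE hle).op t := by
  induction l with
  | nil =>
    obtain ⟨f, hf, -⟩ := hy
    exact absurd hf (List.not_mem_nil)
  | cons f l ih =>
    by_cases hyf : y ∈ X.basicOpen f
    · refine ⟨V ⊓ X.basicOpen f, inf_le_left, ⟨hyV, hyf⟩, ?_⟩
      obtain ⟨u, hu⟩ := isUnit_resF f (V ⊓ X.basicOpen f) inf_le_right
      let t' : Γ(X, V ⊓ X.basicOpen f) :=
        ofS _ ((Coh.structureModule X).presheaf.map (homOfLE (inf_le_left : V ⊓ X.basicOpen f ≤ V)).op t)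
      refine ⟨(biprod.inl : _ ⟶ Coh.structureModule X ⊞ Pn l).app _ (toS _ (t' * ↑u⁻¹)), ?_⟩
      have h1 : (psi (f :: l)).app (V ⊓ X.basicOpen f)
          ((biprod.inl : _ ⟶ Coh.structureModule X ⊞ Pn l).app _ (toS _ (t' * ↑u⁻¹))) =
          (mulBy f).app (V ⊓ X.basicOpen f) (toS _ (t' * ↑u⁻¹)) := by
        have h0 : (biprod.inl : _ ⟶ Coh.structureModule X ⊞ Pn l) ≫ psi (f :: l) = mulBy f :=
          biprod.inl_desc _ _
        exact congrArg (fun φ : Coh.structureModule X ⟶ Coh.structureModule X =>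
          φ.app (V ⊓ X.basicOpen f) (toS _ (t' * ↑u⁻¹))) h0
      rw [h1, mulBy_app, ← hu, mul_assoc, Units.inv_mul, mul_one]
      rfl
    · have hy' : ∃ g ∈ l, y ∈ X.basicOpen g := by
        obtain ⟨g, hg, hyg⟩ := hy
        rcases List.mem_cons.1 hg with rfl | hg'
        · exact absurd hyg hyf
        · exact ⟨g, hg', hyg⟩
      obtain ⟨V', hle, hyV', s, hs⟩ := ih hy'
      refine ⟨V', hle, hyV', (biprod.inr : _ ⟶ Coh.structureModule X ⊞ Pn l).app _ s, ?_⟩
      have h0 : (biprod.inr : _ ⟶ Coh.structureModule X ⊞ Pn l) ≫ psi (f :: l) = psi l :=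
        biprod.inr_desc _ _
      rw [← hs]
      exact congrArg (fun φ : Pn l ⟶ Coh.structureModule X => φ.app V' s) h0

theorem epi_psi (l : List Γ(X, ⊤)) (hl : ∀ y : X, ∃ f ∈ l, y ∈ X.basicOpen f) : Epi (psi l) := by
  apply epi_of_locally_surjective
  intro V t y hy
  exact psi_locally_surjective l y (hl y) V t hy

theorem span_eq_top (h : Hyp X) (l : List Γ(X, ⊤)) (hl : ∀ y : X, ∃ f ∈ l, y ∈ X.basicOpen f) :
    Ideal.span {f | f ∈ l} = ⊤ := by
  have hepi : Epi (psi l) := epi_psi l hl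
  have := isQuasicoherent_structureModule' X
  have := isQuasicoherent_Pn l
  let S : ShortComplex X.Modules := ShortComplex.mk (kernel.ι (psi l)) (psi l) (kernel.condition (psi l))
  have hS : S.ShortExact :=
    { exact := ShortComplex.exact_kernel (psi l)
      mono_f := inferInstanceAs (Mono (kernel.ι (psi l)))
      epi_g := hepi }
  have hK : (kernel (psi l)).IsQuasicoherent := isQuasicoherent_kernel (psi l)
  have hv : Subsingleton (HE (ab' (kernel (psi l))) 1 ⊤) :=
    subVanish_Pn h l (kernel (psi l)) (kernel.ι (psi l)) inferInstance hK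
  obtain ⟨s, hs⟩ := surjective_app_of_subsingleton_HE S hS ⊤ hv (toS ⊤ 1)
  rw [Ideal.eq_top_iff_one]
  have hmem := psi_app_mem l s
  have hs' : (psi l).app ⊤ s = toS ⊤ 1 := hs
  rw [hs'] at hmem
  exact hmem

theorem isAffine_of_hyp (h : Hyp X) [CompactSpace X] : IsAffine X := by
  obtain ⟨s, hs1, hs2⟩ := exists_finset_cover h
  have hl : ∀ y : X, ∃ f ∈ s.toList, y ∈ X.basicOpen f := by
    intro y
    obtain ⟨f, hf, hy⟩ := hs2 y
    exact ⟨f, Finset.mem_toList.2 hf, hy⟩
  have hspan := span_eq_top h s.toList hl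
  refine isAffine_of_isAffineOpen_basicOpen {f | f ∈ s.toList} hspan ?_
  intro f hf
  exact hs1 f (Finset.mem_toList.1 hf)

end Groth.Agent.Lib.Helper23.Serre
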