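import Mathlib
import Groth.Prelude.Def_Coh
import Groth.Prelude.Def_CohTop
import Groth.Agent.Lib.Helper16DimShift
import Groth.Agent.Lib.Helper16Restr
import Groth.Agent.Lib.Helper23PushAcyclic
import Groth.Agent.Lib.Helper23Serre
import Groth.Agent.Lib.Helper23Extend2

/-!
# Relative Serre criterion (helper23)

* `epi_map_gg_zero`: `R¹G F = 0` ⇒ `G` exact on the first sequence of an injective resolution
* `exists_section_of_subsingleton_HE`, `subsingleton_HE_preimage` (`R¹g_*F = 0`, `H¹(V, g_*F) = 0` ⇒ `H¹(g⁻¹V, F) = 0`)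
* `HypRel f`, `subsingleton_HE_preimage_of_hypRel`, `hyp_of_subsingleton_HE`, `isAffineOpen_preimage_of_hypRel`
-/

set_option autoImplicit false
universe u
open CategoryTheory Limits AlgebraicGeometry TopologicalSpace Opposite Abelian

namespace Groth.Agent.Lib.Helper23.SerreRel

open Groth.Agent.Lib.Helper23.AffVanish Groth.Agent.Lib.Helper23.QCohLocal
open Groth.Agent.Lib.Helper16.DimShift

section General

variable {𝒜 ℬ : Type*} [Category 𝒜] [Abelian 𝒜] [Category ℬ] [Abelian ℬ] (G : 𝒜 ⥤ ℬ) [G.Additive]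
  [PreservesFiniteLimits G] [HasInjectiveResolutions 𝒜] {F : 𝒜} (I : InjectiveResolution F)

/-- if `R¹G F = 0`, then `G` is exact on the first sequence of an injective resolution of `F` -/
lemma epi_map_gg_zero (hvan : IsZero ((G.rightDerived 1).obj F)) : Epi (G.map (gg I 0)) := by
  set K := I.cocomplex with hK
  have h : IsZero (((G.mapHomologicalComplex _).obj K).homology (0 + 1)) :=
    IsZero.of_iso hvan (I.isoRightDerivedObj G (0 + 1)).symm
  rw [← HomologicalComplex.exactAt_iff_isZero_homology,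
    HomologicalComplex.exactAt_iff' _ 0 (0 + 1) (0 + 2) (by simp)
      (by simp only [CochainComplex.next]; rfl)] at h
  rw [ShortComplex.exact_iff_epi_kernel_lift] at h
  have : IsIso (kernelComparison (K.d (0 + 1) (0 + 2)) G) := by
    rw [← PreservesKernel.iso_hom]; infer_instance
  have key : G.map (kernel.lift (K.d (0 + 1) (0 + 2)) (K.d 0 (0 + 1)) (K.d_comp_d _ _ _)) ≫
      kernelComparison (K.d (0 + 1) (0 + 2)) G =
      kernel.lift _ (G.map (K.d 0 (0 + 1))) (by rw [← G.map_comp, K.d_comp_d, G.map_zero]) :=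
    map_lift_kernelComparison _ _ _
  have h2 : Epi (G.map (kernel.lift (K.d (0 + 1) (0 + 2)) (K.d 0 (0 + 1)) (K.d_comp_d _ _ _)) ≫
      kernelComparison (K.d (0 + 1) (0 + 2)) G) := by
    rw [key]; exact h
  have h3 : G.map (kernel.lift (K.d (0 + 1) (0 + 2)) (K.d 0 (0 + 1)) (K.d_comp_d _ _ _)) =
      (G.map (kernel.lift (K.d (0 + 1) (0 + 2)) (K.d 0 (0 + 1)) (K.d_comp_d _ _ _)) ≫
        kernelComparison (K.d (0 + 1) (0 + 2)) G) ≫
      inv (kernelComparison (K.d (0 + 1) (0 + 2)) G) := by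
    rw [Category.assoc, IsIso.hom_inv_id, Category.comp_id]
  change Epi (G.map (kernel.lift (K.d (0 + 1) (0 + 2)) (K.d 0 (0 + 1)) (K.d_comp_d _ _ _)))
  rw [h3]
  infer_instance

end General

section Top

variable {X Y : TopCat.{u}} (g : X ⟶ Y)

/-- sections of a short exact sequence of abelian sheaves are surjective over opens with vanishing `H¹` of the kernel -/
lemma exists_section_of_subsingleton_HE (S : ShortComplex (CohTop.Ab Y)) (hS : S.ShortExact) (V : Opens Y)
    (h : Subsingleton (HE S.X₁ 1 V)) (t : S.X₃.obj.obj (op V)) :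
    ∃ s : S.X₂.obj.obj (op V), (S.g.hom.app (op V)).hom s = t := by
  obtain ⟨x₂, hx₂⟩ := Ext.covariant_sequence_exact₃ (ZU V) hS
    (Ext.mk₀ (CohFree.ofSect (J Y) V S.X₃ t)) (zero_add 1)
    (@Subsingleton.elim _ h _ _)
  obtain ⟨c, rfl⟩ := (Ext.mk₀_bijective _ _).2 x₂
  rw [Ext.mk₀_comp_mk₀] at hx₂
  have hc : c ≫ S.g = CohFree.ofSect (J Y) V S.X₃ t := (Ext.mk₀_bijective _ _).1 hx₂
  refine ⟨CohFree.evalGen (J Y) V S.X₂ c, ?_⟩
  have h3 : (S.g.hom.app (op V)).hom (CohFree.evalGen (J Y) V S.X₂ c) =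
      CohFree.evalGen (J Y) V S.X₃ (c ≫ S.g) := rfl
  exact h3.trans (by rw [hc, CohFree.evalGen_ofSect])

attribute [local instance] Ext.subsingleton_of_injective in
/-- if `R¹g_* F = 0` and `H¹(V, g_* F) = 0` then `H¹(g⁻¹V, F) = 0` -/
theorem subsingleton_HE_preimage (F : CohTop.Ab X) (hR : IsZero ((CohTop.Rpush g 1).obj F)) (V : Opens Y)
    (hV : Subsingleton (HE ((CohTop.push g).obj F) 1 V)) :
    Subsingleton (HE F 1 ((Opens.map g).obj V)) := by
  have := Groth.Agent.Lib.Helper16.ClosedEmb.push_preservesFiniteLimits g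
  let I : InjectiveResolution F := Classical.choice (HasInjectiveResolutions.out F).out
  let S : ShortComplex (CohTop.Ab X) := ShortComplex.mk (ff I 0) (gg I 0) (ff_gg I 0)
  have hS : S.ShortExact := shortExact_ofResolution I 0
  have hepi : Epi ((CohTop.push g).map S.g) := epi_map_gg_zero (CohTop.push g) I hR
  have hS' : (S.map (CohTop.push g)).ShortExact :=
    { exact := hS.exact.map_of_mono_of_preservesKernel (CohTop.push g) hS.mono_f inferInstance
      mono_f := by
        have := hS.mono_f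
        exact inferInstanceAs (Mono ((CohTop.push g).map S.f))
      epi_g := hepi }
  set W := (Opens.map g).obj V with hW
  have hinj : Injective S.X₂ := inferInstanceAs (Injective (I.cocomplex.X 0))
  refine ⟨fun a b => ?_⟩
  have key : ∀ x : HE F 1 W, x = 0 := by
    intro x
    have hx0 : x.comp (Ext.mk₀ S.f) (add_zero 1) = 0 := Subsingleton.elim (α := Ext (ZU W) S.X₂ 1) _ _
    obtain ⟨x₃, hx₃⟩ := Ext.covariant_sequence_exact₁ (ZU W) hS x hx0 (zero_add 1)
    obtain ⟨c, rfl⟩ := (Ext.mk₀_bijective _ _).2 x₃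
    obtain ⟨s', hs'⟩ := exists_section_of_subsingleton_HE (S.map (CohTop.push g)) hS' V hV
      (CohFree.evalGen (J X) W S.X₃ c)
    let s : S.X₂.obj.obj (op W) := s'
    have hs : (S.g.hom.app (op W)).hom s = CohFree.evalGen (J X) W S.X₃ c := hs'
    have hc : CohFree.ofSect (J X) W S.X₂ s ≫ S.g = c := by
      rw [← CohFree.ofSect_evalGen (J X) W S.X₃ c, ← CohFree.ofSect_evalGen (J X) W S.X₃ (_ ≫ S.g)]
      congr 1
      have h3 : CohFree.evalGen (J X) W S.X₃ (CohFree.ofSect (J X) W S.X₂ s ≫ S.g) =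
          (S.g.hom.app (op W)).hom (CohFree.evalGen (J X) W S.X₂ (CohFree.ofSect (J X) W S.X₂ s)) := rfl
      rw [h3, CohFree.evalGen_ofSect]
      exact hs
    rw [← hx₃, ← hc, ← Ext.mk₀_comp_mk₀, Ext.comp_assoc_of_second_deg_zero, hS.comp_extClass, Ext.comp_zero]
    rfl
  rw [key a, key b]

end Top

section Sch

open Groth.Agent.Lib.Helper23.Extend

variable {X Y : Scheme.{u}} (f : X ⟶ Y)

/-- the hypothesis of the relative Serre criterion -/
def HypRel : Prop :=
  ∀ (I : X.Modules) (i : I ⟶ Coh.structureModule X), Mono i → Coh.IsQCoh I →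
    Limits.IsZero ((Coh.RpushAb f 1).obj (Coh.toAb I))

theorem subsingleton_HE_preimage_of_hypRel [QuasiCompact f] [QuasiSeparated f] (h : HypRel f)
    (I : X.Modules) (i : I ⟶ Coh.structureModule X) [Mono i] [I.IsQuasicoherent] {V : Y.Opens}
    (hV : IsAffineOpen V) : Subsingleton (HE (ab' I) 1 (f ⁻¹ᵁ V)) := by
  have hR : IsZero ((CohTop.Rpush f.base 1).obj (ab' I)) := h I i inferInstance inferInstance
  have : ((Scheme.Modules.pushforward f).obj I).IsQuasicoherent := isQuasicoherent_pushforward f I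
  have hV' : Subsingleton (HE ((CohTop.push f.base).obj (ab' I)) 1 V) :=
    subsingleton_HE_of_isAffineOpen hV ((Scheme.Modules.pushforward f).obj I) 0
  exact subsingleton_HE_preimage f.base (ab' I) hR V hV'

theorem hyp_of_subsingleton_HE (U : X.Opens) [QuasiCompact U.ι]
    (h : ∀ (I : X.Modules) (i : I ⟶ Coh.structureModule X), Mono i → I.IsQuasicoherent →
      Subsingleton (HE (ab' I) 1 U)) : Serre.Hyp (↑U : Scheme.{u}) := by
  intro I' i' hi' hI'
  have : I'.IsQuasicoherent := hI'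
  have : (Coh.structureModule X).IsQuasicoherent := Serre.isQuasicoherent_structureModule' X
  let ρ : Coh.structureModule (↑U : Scheme.{u}) ⟶ (Coh.structureModule X).restrict U.ι :=
    (Scheme.Modules.restrictUnitIso U.ι).inv
  have hρ : IsIso ρ := ⟨⟨(Scheme.Modules.restrictUnitIso U.ι).hom, Iso.inv_hom_id _, Iso.hom_inv_id _⟩⟩
  have hφ : Mono (i' ≫ ρ) := mono_comp _ _
  obtain ⟨H, ψ, e, hH, -, hmono, -⟩ := exists_extension' U.ι (Coh.structureModule X) I' (i' ≫ ρ)
  have hψ : Mono ψ := hmono hφ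
  have h1 : Subsingleton (HE (ab' H) 1 U) := h H ψ hψ hH
  obtain ⟨eq1⟩ := Groth.Agent.Lib.Helper16.Restr.nonempty_HU_equiv (X := X.carrier) U (ab' H) 1
  have h1' : Subsingleton (CohTop.HU (X := X.carrier) (ab' H) 1 U) := h1
  have h2 : Subsingleton (Coh.HH (↑U : Scheme.{u}) (H.restrict U.ι) 1) :=
    @Equiv.subsingleton _ _ eq1.symm.toEquiv h1'
  let e2 : Coh.toAb (H.restrict U.ι) ≅ Coh.toAb I' :=
    (SheafOfModules.toSheaf (↑U : Scheme.{u}).ringCatSheaf).mapIso e
  let e3 := (Sheaf.functorH (Opens.grothendieckTopology (↑U : Scheme.{u})) 1).mapIso e2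
  have h2' : Subsingleton ↑((Sheaf.functorH (Opens.grothendieckTopology (↑U : Scheme.{u})) 1).obj
      (Coh.toAb (H.restrict U.ι))) := h2
  exact @Equiv.subsingleton _ _ e3.symm.addCommGroupIsoToAddEquiv.toEquiv h2'

theorem isAffineOpen_preimage_of_hypRel [QuasiCompact f] [QuasiSeparated f] (h : HypRel f) {V : Y.Opens}
    (hV : IsAffineOpen V) [QuasiCompact (f ⁻¹ᵁ V).ι] : IsAffineOpen (f ⁻¹ᵁ V) := by
  have hc : CompactSpace ↥(f ⁻¹ᵁ V) :=
    isCompact_iff_compactSpace.1 (QuasiCompact.isCompact_preimage (f := f) _ V.isOpen hV.isCompact)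
  have hc' : CompactSpace (↑(f ⁻¹ᵁ V) : Scheme.{u}) := hc
  have hyp : Serre.Hyp (↑(f ⁻¹ᵁ V) : Scheme.{u}) := by
    apply hyp_of_subsingleton_HE
    intro I i hi hI
    exact subsingleton_HE_preimage_of_hypRel f h I i hV
  exact Serre.isAffine_of_hyp hyp

end Sch

end Groth.Agent.Lib.Helper23.SerreRel
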