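import Mathlib
import Groth.Prelude.Def_Coh
import Groth.Agent.S9819
import Groth.Agent.Lib.Helper23FinTypeLocal
import Groth.Agent.Lib.Helper23QCohAbelian
import Groth.Agent.Lib.Helper23SerreRel

/-!
# H¹ of a quasi-coherent module from its finite type submodules (helper23)

* `isFiniteType_biprod`, `exists_sup_sub`, `exists_ft_sub_list` (finitely many sections over affine opens lie in a
  finite type quasi-coherent submodule; qcqs)
* `res`, `res_res`, `nat_res`, `exists_section_of_map_eq_zero`, `subsingleton_HE_of_lift`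
* `subsingleton_HE_of_ft`: on a qcqs scheme, if `H¹` vanishes for all finite type quasi-coherent submodules of `K`
  then `H¹(X, K) = 0` (no colimit argument: Čech-style lifting through an injective hull).
-/

set_option autoImplicit false
universe u
open CategoryTheory Limits AlgebraicGeometry TopologicalSpace Opposite Abelian

namespace Groth.Agent.Lib.Helper23.FTsub

open Groth.Agent.Lib.Helper23.AffVanish Groth.Agent.Lib.Helper23.QCohLocal
open Groth.Agent.Lib.Helper23.SerreRel Groth.Agent.Lib.Helper23.FinType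

section Sub

variable {X : Scheme.{u}}

/-- a finite direct sum of finite type quasi-coherent modules is of finite type -/
theorem isFiniteType_biprod (A B : X.Modules) [A.IsQuasicoherent] [B.IsQuasicoherent]
    [SheafOfModules.IsFiniteType (R := X.ringCatSheaf) A] [SheafOfModules.IsFiniteType (R := X.ringCatSheaf) B] :
    SheafOfModules.IsFiniteType (R := X.ringCatSheaf) (A ⊞ B : X.Modules) := by
  have : (A ⊞ B : X.Modules).IsQuasicoherent := isQuasicoherent_biprod A B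
  rw [isFiniteType_iff_forall_affine]
  intro U hU
  have : Module.Finite Γ(X, U) Γ(A, U) := finite_of_isFiniteType A hU
  have : Module.Finite Γ(X, U) Γ(B, U) := finite_of_isFiniteType B hU
  let fA : Γ(A, U) →ₗ[Γ(X, U)] Γ((A ⊞ B : X.Modules), U) :=
    { toFun := fun x => (biprod.inl : A ⟶ A ⊞ B).app U x
      map_add' := fun x y => map_add _ x y
      map_smul' := fun r x => Scheme.Modules.Hom.app_smul (biprod.inl : A ⟶ A ⊞ B) r x }
  let fB : Γ(B, U) →ₗ[Γ(X, U)] Γ((A ⊞ B : X.Modules), U) :=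
    { toFun := fun x => (biprod.inr : B ⟶ A ⊞ B).app U x
      map_add' := fun x y => map_add _ x y
      map_smul' := fun r x => Scheme.Modules.Hom.app_smul (biprod.inr : B ⟶ A ⊞ B) r x }
  refine Module.Finite.of_surjective (fA.coprod fB) ?_
  intro s
  refine ⟨((biprod.fst : A ⊞ B ⟶ A).app U s, (biprod.snd : A ⊞ B ⟶ B).app U s), ?_⟩
  rw [LinearMap.coprod_apply]
  have h1 : (biprod.fst ≫ biprod.inl + biprod.snd ≫ biprod.inr : A ⊞ B ⟶ A ⊞ B) = 𝟙 _ := biprod.total
  have h2 := congrArg (fun φ : (A ⊞ B : X.Modules) ⟶ (A ⊞ B : X.Modules) => φ.app U s) h1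
  simp only [Scheme.Modules.Hom.add_app, Scheme.Modules.Hom.comp_app, Scheme.Modules.Hom.id_app] at h2
  exact h2

/-- the sum of two finite type quasi-coherent submodules -/
theorem exists_sup_sub (K : X.Modules) [K.IsQuasicoherent] (A B : X.Modules) (a : A ⟶ K) (b : B ⟶ K)
    [A.IsQuasicoherent] [B.IsQuasicoherent]
    [SheafOfModules.IsFiniteType (R := X.ringCatSheaf) A] [SheafOfModules.IsFiniteType (R := X.ringCatSheaf) B] :
    ∃ (C : X.Modules) (c : C ⟶ K) (ia : A ⟶ C) (ib : B ⟶ C), Mono c ∧ C.IsQuasicoherent ∧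
      SheafOfModules.IsFiniteType (R := X.ringCatSheaf) C ∧ ia ≫ c = a ∧ ib ≫ c = b := by
  have hAB : (A ⊞ B : X.Modules).IsQuasicoherent := isQuasicoherent_biprod A B
  have hABf : SheafOfModules.IsFiniteType (R := X.ringCatSheaf) (A ⊞ B : X.Modules) := isFiniteType_biprod A B
  let d : (A ⊞ B : X.Modules) ⟶ K := biprod.desc a b
  have hC : (cokernel d).IsQuasicoherent := isQuasicoherent_cokernel d
  let C : X.Modules := kernel (cokernel.π d)
  have hCq : C.IsQuasicoherent := isQuasicoherent_kernel (cokernel.π d)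
  let c : C ⟶ K := kernel.ι (cokernel.π d)
  let q : (A ⊞ B : X.Modules) ⟶ C := Abelian.factorThruImage d
  have hq : Epi q := inferInstanceAs (Epi (Abelian.factorThruImage d))
  have hqc : q ≫ c = d := Abelian.image.fac d
  have hCf : SheafOfModules.IsFiniteType (R := X.ringCatSheaf) C := isFiniteType_of_epi q
  refine ⟨C, c, biprod.inl ≫ q, biprod.inr ≫ q, inferInstanceAs (Mono (kernel.ι (cokernel.π d))), hCq, hCf, ?_, ?_⟩
  · rw [Category.assoc, hqc]; exact biprod.inl_desc a b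
  · rw [Category.assoc, hqc]; exact biprod.inr_desc a b

/-- on a qcqs scheme, finitely many sections over affine opens lie in a quasi-coherent submodule of finite type -/
theorem exists_ft_sub_list [CompactSpace X] [QuasiSeparatedSpace X] (K : X.Modules) [K.IsQuasicoherent]
    (a₀ : Σ U : X.affineOpens, Γ(K, U.1)) (l : List (Σ U : X.affineOpens, Γ(K, U.1))) :
    ∃ (K' : X.Modules) (i : K' ⟶ K), Mono i ∧ K'.IsQuasicoherent ∧
      SheafOfModules.IsFiniteType (R := X.ringCatSheaf) K' ∧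
      ∀ p ∈ a₀ :: l, ∃ g : Γ(K', p.1.1), i.app p.1.1 g = p.2 := by
  induction l with
  | nil =>
    obtain ⟨G, i, hi, hq, hf, g, hg⟩ := Groth.Agent.S9819.result K a₀.1 a₀.2
    refine ⟨G, i, hi, hq, hf, ?_⟩
    intro p hp
    rw [List.mem_singleton] at hp
    subst hp
    exact ⟨g, hg⟩
  | cons a l ih =>
    obtain ⟨K₁, i₁, hi₁, hq₁, hf₁, h₁⟩ := ih
    obtain ⟨K₂, i₂, hi₂, hq₂, hf₂, g₂, hg₂⟩ := Groth.Agent.S9819.result K a.1 a.2
    have : K₁.IsQuasicoherent := hq₁
    have : K₂.IsQuasicoherent := hq₂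
    have : SheafOfModules.IsFiniteType (R := X.ringCatSheaf) K₁ := hf₁
    have : SheafOfModules.IsFiniteType (R := X.ringCatSheaf) K₂ := hf₂
    obtain ⟨C, c, ia, ib, hc, hCq, hCf, hac, hbc⟩ := exists_sup_sub K K₁ K₂ i₁ i₂
    refine ⟨C, c, hc, hCq, hCf, ?_⟩
    intro p hp
    rcases List.mem_cons.1 hp with rfl | hp
    · obtain ⟨g, hg⟩ := h₁ _ (List.mem_cons_self)
      refine ⟨ia.app _ g, ?_⟩
      rw [← hg, ← hac]
      rfl
    · rcases List.mem_cons.1 hp with rfl | hp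
      · refine ⟨ib.app _ g₂, ?_⟩
        have hg₂' : i₂.app p.1.1 g₂ = p.2 := hg₂
        rw [← hg₂', ← hbc]
        rfl
      · obtain ⟨g, hg⟩ := h₁ _ (List.mem_cons_of_mem _ hp)
        refine ⟨ia.app _ g, ?_⟩
        rw [← hg, ← hac]
        rfl

end Sub

section Top

variable {Y : TopCat.{u}}

/-- restriction of sections of an abelian sheaf -/
noncomputable def res (G : CohTop.Ab Y) {W V : Opens Y} (h : V ≤ W) (s : G.obj.obj (op W)) : G.obj.obj (op V) :=
  G.obj.map (homOfLE h).op s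

theorem res_res (G : CohTop.Ab Y) {W V V' : Opens Y} (h : V ≤ W) (h' : V' ≤ V) (s : G.obj.obj (op W)) :
    res G h' (res G h s) = res G (h'.trans h) s := by
  unfold res
  rw [← ConcreteCategory.comp_apply, ← Functor.map_comp]
  rfl

theorem nat_res {G G' : CohTop.Ab Y} (φ : G ⟶ G') {W V : Opens Y} (h : V ≤ W) (s : G.obj.obj (op W)) :
    (φ.hom.app (op V)).hom (res G h s) = res G' h ((φ.hom.app (op W)).hom s) := by
  unfold res
  exact ConcreteCategory.congr_hom (φ.hom.naturality (homOfLE h).op) s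

theorem res_sub (G : CohTop.Ab Y) {W V : Opens Y} (h : V ≤ W) (s t : G.obj.obj (op W)) :
    res G h (s - t) = res G h s - res G h t := map_sub _ s t

/-- left exactness of sections -/
lemma exists_section_of_map_eq_zero (S : ShortComplex (CohTop.Ab Y)) (hS : S.ShortExact) (V : Opens Y)
    (s : S.X₂.obj.obj (op V)) (hs : (S.g.hom.app (op V)).hom s = 0) :
    ∃ c : S.X₁.obj.obj (op V), (S.f.hom.app (op V)).hom c = s := by
  have h0 : (Ext.mk₀ (CohFree.ofSect (J Y) V S.X₂ s)).comp (Ext.mk₀ S.g) (add_zero 0) = 0 := by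
    rw [Ext.mk₀_comp_mk₀]
    have : CohFree.ofSect (J Y) V S.X₂ s ≫ S.g = 0 := by
      rw [← CohFree.ofSect_evalGen (J Y) V S.X₃ (_ ≫ S.g)]
      have h3 : CohFree.evalGen (J Y) V S.X₃ (CohFree.ofSect (J Y) V S.X₂ s ≫ S.g) =
          (S.g.hom.app (op V)).hom (CohFree.evalGen (J Y) V S.X₂ (CohFree.ofSect (J Y) V S.X₂ s)) := rfl
      rw [h3, CohFree.evalGen_ofSect, hs]
      rw [← CohFree.ofSect_evalGen (J Y) V S.X₃ 0]
      congr 1
    rw [this, Ext.mk₀_zero]
  obtain ⟨x₁, hx₁⟩ := Ext.covariant_sequence_exact₂ (ZU V) hS _ h0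
  obtain ⟨c₁, rfl⟩ := (Ext.mk₀_bijective _ _).2 x₁
  rw [Ext.mk₀_comp_mk₀] at hx₁
  have hc : c₁ ≫ S.f = CohFree.ofSect (J Y) V S.X₂ s := (Ext.mk₀_bijective _ _).1 hx₁
  refine ⟨CohFree.evalGen (J Y) V S.X₁ c₁, ?_⟩
  have h3 : (S.f.hom.app (op V)).hom (CohFree.evalGen (J Y) V S.X₁ c₁) =
      CohFree.evalGen (J Y) V S.X₂ (c₁ ≫ S.f) := rfl
  rw [h3, hc, CohFree.evalGen_ofSect]

attribute [local instance] Ext.subsingleton_of_injective in
/-- if the middle term is injective and sections of the quotient over `W` lift, then `H¹(W, kernel) = 0` -/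
theorem subsingleton_HE_of_lift (S : ShortComplex (CohTop.Ab Y)) (hS : S.ShortExact) [Injective S.X₂]
    (W : Opens Y) (h : ∀ t : S.X₃.obj.obj (op W), ∃ s : S.X₂.obj.obj (op W), (S.g.hom.app (op W)).hom s = t) :
    Subsingleton (HE S.X₁ 1 W) := by
  refine ⟨fun a b => ?_⟩
  have key : ∀ x : HE S.X₁ 1 W, x = 0 := by
    intro x
    have hx0 : x.comp (Ext.mk₀ S.f) (add_zero 1) = 0 := Subsingleton.elim (α := Ext (ZU W) S.X₂ 1) _ _
    obtain ⟨x₃, hx₃⟩ := Ext.covariant_sequence_exact₁ (ZU W) hS x hx0 (zero_add 1)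
    obtain ⟨c, rfl⟩ := (Ext.mk₀_bijective _ _).2 x₃
    obtain ⟨s, hs⟩ := h (CohFree.evalGen (J Y) W S.X₃ c)
    have hc : CohFree.ofSect (J Y) W S.X₂ s ≫ S.g = c := by
      rw [← CohFree.ofSect_evalGen (J Y) W S.X₃ c, ← CohFree.ofSect_evalGen (J Y) W S.X₃ (_ ≫ S.g)]
      congr 1
      have h3 : CohFree.evalGen (J Y) W S.X₃ (CohFree.ofSect (J Y) W S.X₂ s ≫ S.g) =
          (S.g.hom.app (op W)).hom (CohFree.evalGen (J Y) W S.X₂ (CohFree.ofSect (J Y) W S.X₂ s)) := rfl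
      rw [h3, CohFree.evalGen_ofSect]
      exact hs
    rw [← hx₃, ← hc, ← Ext.mk₀_comp_mk₀, Ext.comp_assoc_of_second_deg_zero, hS.comp_extClass, Ext.comp_zero]
  rw [key a, key b]

end Top

section Main

variable {X : Scheme.{u}}

theorem subsingleton_HE_of_ft [CompactSpace X] [QuasiSeparatedSpace X] (K : X.Modules) [K.IsQuasicoherent]
    (h : ∀ (K' : X.Modules) (i : K' ⟶ K), Mono i → K'.IsQuasicoherent →
      SheafOfModules.IsFiniteType (R := X.ringCatSheaf) K' → Subsingleton (HE (ab' K') 1 ⊤)) :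
    Subsingleton (HE (ab' K) 1 ⊤) := by
  classical
  let F : CohTop.Ab X.carrier := ab' K
  let Jm : CohTop.Ab X.carrier := Injective.under F
  let ι : F ⟶ Jm := Injective.ι F
  let Q : CohTop.Ab X.carrier := cokernel ι
  let π : Jm ⟶ Q := cokernel.π ι
  let S : ShortComplex (CohTop.Ab X.carrier) := ShortComplex.mk ι π (cokernel.condition ι)
  have hS : S.ShortExact :=
    { exact := ShortComplex.exact_cokernel ι
      mono_f := inferInstanceAs (Mono (Injective.ι F))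
      epi_g := inferInstanceAs (Epi (cokernel.π ι)) }
  have : Injective S.X₂ := inferInstanceAs (Injective (Injective.under F))
  apply subsingleton_HE_of_lift S hS ⊤
  intro q
  -- finite affine cover
  obtain ⟨𝒰s, h𝒰fin, h𝒰⟩ := (isCompact_iff_finite_and_eq_biUnion_affineOpens (U := (⊤ : X.Opens))).1
    (by simpa using isCompact_univ)
  let 𝒰 : Finset X.affineOpens := h𝒰fin.toFinset
  have hcov : ∀ x : X, ∃ U ∈ 𝒰, x ∈ U.1 := by
    intro x
    have hx : x ∈ (⊤ : X.Opens) := trivial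
    rw [h𝒰] at hx
    simp only [Opens.mem_iSup] at hx
    obtain ⟨U, hU, hxU⟩ := hx
    exact ⟨U, h𝒰fin.mem_toFinset.2 hU, hxU⟩
  -- local lifts
  have hloc : ∀ U : X.affineOpens, ∃ s : Jm.obj.obj (op U.1),
      (π.hom.app (op U.1)).hom s = res Q (le_top : U.1 ≤ ⊤) q := by
    intro U
    exact exists_section_of_subsingleton_HE S hS U.1 (subsingleton_HE_of_isAffineOpen U.2 K 0) _
  choose s hs using hloc
  -- covers of intersections
  have hint : ∀ U U' : X.affineOpens, ∃ 𝒱 : Finset X.affineOpens, (∀ V ∈ 𝒱, V.1 ≤ U.1 ⊓ U'.1) ∧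
      ∀ x ∈ U.1 ⊓ U'.1, ∃ V ∈ 𝒱, x ∈ V.1 := by
    intro U U'
    have hc : IsCompact ((U.1 ⊓ U'.1 : X.Opens) : Set X) :=
      QuasiSeparatedSpace.inter_isCompact _ _ U.1.isOpen U.2.isCompact U'.1.isOpen U'.2.isCompact
    obtain ⟨𝒱s, hfin, he⟩ := (isCompact_iff_finite_and_eq_biUnion_affineOpens (U := U.1 ⊓ U'.1)).1 hc
    refine ⟨hfin.toFinset, ?_, ?_⟩
    · intro V hV
      rw [he]
      exact le_iSup₂ (f := fun (i : X.affineOpens) (_ : i ∈ 𝒱s) => (i : X.Opens)) V (hfin.mem_toFinset.1 hV)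
    · intro x hx
      rw [he] at hx
      simp only [Opens.mem_iSup] at hx
      obtain ⟨V, hV, hxV⟩ := hx
      exact ⟨V, hfin.mem_toFinset.2 hV, hxV⟩
  choose 𝒱 h𝒱le h𝒱cov using hint
  -- difference sections
  let d : ∀ (U U' V : X.affineOpens) (_ : V.1 ≤ U.1 ⊓ U'.1), Jm.obj.obj (op V.1) := fun U U' V hV =>
    res Jm (hV.trans inf_le_left) (s U) - res Jm (hV.trans inf_le_right) (s U')
  have hd : ∀ U U' V hV, (π.hom.app (op V.1)).hom (d U U' V hV) = 0 := by
    intro U U' V hV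
    change (π.hom.app (op V.1)).hom (res Jm (hV.trans inf_le_left) (s U) - res Jm (hV.trans inf_le_right) (s U')) = 0
    rw [map_sub, nat_res, nat_res, hs, hs, res_res, res_res, sub_self]
  have hc : ∀ (U U' V : X.affineOpens) (hV : V.1 ≤ U.1 ⊓ U'.1), ∃ c : Γ(K, V.1),
      (ι.hom.app (op V.1)).hom c = d U U' V hV :=
    fun U U' V hV => exists_section_of_map_eq_zero S hS V.1 _ (hd U U' V hV)
  let c : X.affineOpens → X.affineOpens → X.affineOpens → Σ V : X.affineOpens, Γ(K, V.1) := fun U U' V =>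
    ⟨V, if hV : V.1 ≤ U.1 ⊓ U'.1 then (hc U U' V hV).choose else 0⟩
  let l : List (Σ V : X.affineOpens, Γ(K, V.1)) :=
    (𝒰 ×ˢ 𝒰).toList.flatMap (fun p => (𝒱 p.1 p.2).toList.map (fun V => c p.1 p.2 V))
  obtain ⟨K', i, hi, hK'q, hK'f, hl⟩ := exists_ft_sub_list K ⟨⟨⊥, isAffineOpen_bot X⟩, 0⟩ l
  have hlift : ∀ U ∈ 𝒰, ∀ U' ∈ 𝒰, ∀ V ∈ 𝒱 U U', ∀ hV : V.1 ≤ U.1 ⊓ U'.1, ∃ g : Γ(K', V.1),
      (ι.hom.app (op V.1)).hom (i.app V.1 g) = d U U' V hV := by
    intro U hU U' hU' V hV hVle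
    have hmem : c U U' V ∈ l := by
      apply List.mem_flatMap.2
      refine ⟨(U, U'), Finset.mem_toList.2 (Finset.mem_product.2 ⟨hU, hU'⟩), ?_⟩
      exact List.mem_map.2 ⟨V, Finset.mem_toList.2 hV, rfl⟩
    obtain ⟨g, hg⟩ := hl _ (List.mem_cons_of_mem _ hmem)
    have hcV : (c U U' V).2 = (hc U U' V hVle).choose := dif_pos hVle
    refine ⟨g, ?_⟩
    have hg' : i.app V.1 g = (hc U U' V hVle).choose := hg.trans hcV
    rw [hg']
    exact (hc U U' V hVle).choose_spec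
  have : K'.IsQuasicoherent := hK'q
  let F' : CohTop.Ab X.carrier := ab' K'
  let i' : F' ⟶ F := (toAbF X).map i
  have hi' : Mono i' := (toAbF X).map_mono i
  let ι' : F' ⟶ Jm := i' ≫ ι
  have hι' : Mono ι' := mono_comp _ _
  let Q' : CohTop.Ab X.carrier := cokernel ι'
  let π' : Jm ⟶ Q' := cokernel.π ι'
  let S' : ShortComplex (CohTop.Ab X.carrier) := ShortComplex.mk ι' π' (cokernel.condition ι')
  have hS' : S'.ShortExact :=
    { exact := ShortComplex.exact_cokernel ι'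
      mono_f := hι'
      epi_g := inferInstanceAs (Epi (cokernel.π ι')) }
  let p : Q' ⟶ Q := cokernel.desc ι' π (by rw [Category.assoc, cokernel.condition, comp_zero])
  have hp : π' ≫ p = π := cokernel.π_desc _ _ _
  have hzero : ∀ (V : X.Opens) (g : Γ(K', V)),
      (π'.hom.app (op V)).hom ((ι.hom.app (op V)).hom (i.app V g)) = 0 := by
    intro V g
    have h0 := congrArg (fun φ : F' ⟶ Q' => (φ.hom.app (op V)).hom g) (cokernel.condition ι')
    exact h0
  -- local sections of Q'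
  let sb : ∀ U : X.affineOpens, Q'.obj.obj (op U.1) := fun U => (π'.hom.app (op U.1)).hom (s U)
  have hcompat : ∀ U ∈ 𝒰, ∀ U' ∈ 𝒰, res Q' (inf_le_left : U.1 ⊓ U'.1 ≤ U.1) (sb U) =
      res Q' (inf_le_right : U.1 ⊓ U'.1 ≤ U'.1) (sb U') := by
    intro U hU U' hU'
    refine TopCat.Sheaf.eq_of_locally_eq' Q' (fun V : ↥(𝒱 U U') => V.1.1) (U.1 ⊓ U'.1)
      (fun V => homOfLE (h𝒱le U U' V.1 V.2)) ?_ _ _ ?_
    · intro x hx
      obtain ⟨V, hV, hxV⟩ := h𝒱cov U U' x hx
      exact Opens.mem_iSup.2 ⟨⟨V, hV⟩, hxV⟩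
    · intro V
      change res Q' (h𝒱le U U' V.1 V.2) (res Q' inf_le_left (sb U)) =
        res Q' (h𝒱le U U' V.1 V.2) (res Q' inf_le_right (sb U'))
      rw [res_res, res_res]
      change res Q' _ ((π'.hom.app (op U.1)).hom (s U)) = res Q' _ ((π'.hom.app (op U'.1)).hom (s U'))
      rw [← nat_res π', ← nat_res π', ← sub_eq_zero, ← map_sub]
      obtain ⟨g, hg⟩ := hlift U hU U' hU' V.1 V.2 (h𝒱le U U' V.1 V.2)
      change (π'.hom.app _).hom (d U U' V.1 (h𝒱le U U' V.1 V.2)) = 0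
      rw [← hg]
      exact hzero _ g
  -- glue
  have hcover : (⊤ : X.Opens) ≤ iSup (fun U : ↥𝒰 => U.1.1) := by
    intro x _
    obtain ⟨U, hU, hxU⟩ := hcov x
    exact Opens.mem_iSup.2 ⟨⟨U, hU⟩, hxU⟩
  have hcompat' : TopCat.Presheaf.IsCompatible Q'.obj (fun U : ↥𝒰 => U.1.1) (fun U => sb U.1) := by
    intro U U'
    exact hcompat U.1 U.2 U'.1 U'.2
  obtain ⟨q', hq', -⟩ := TopCat.Sheaf.existsUnique_gluing' Q' (fun U : ↥𝒰 => U.1.1) ⊤
    (fun U => homOfLE le_top) hcover (fun U => sb U.1) hcompat'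
  have hpq : (p.hom.app (op ⊤)).hom q' = q := by
    refine TopCat.Sheaf.eq_of_locally_eq' Q (fun U : ↥𝒰 => U.1.1) ⊤ (fun U => homOfLE le_top) hcover _ _ ?_
    intro U
    change res Q le_top ((p.hom.app (op ⊤)).hom q') = res Q le_top q
    rw [← nat_res p]
    have h1 : res Q' (le_top : U.1.1 ≤ ⊤) q' = sb U.1 := hq' U
    rw [h1]
    change (p.hom.app _).hom ((π'.hom.app _).hom (s U.1)) = _
    rw [← hs U.1]
    exact congrArg (fun φ : Jm ⟶ Q => (φ.hom.app (op U.1.1)).hom (s U.1)) hp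
  have hv : Subsingleton (HE (ab' K') 1 ⊤) := h K' i hi hK'q hK'f
  obtain ⟨s₀, hs₀⟩ := exists_section_of_subsingleton_HE S' hS' ⊤ hv q'
  refine ⟨s₀, ?_⟩
  rw [← hpq, ← hs₀]
  exact (congrArg (fun φ : Jm ⟶ Q => (φ.hom.app (op ⊤)).hom s₀) hp).symm

end Main

end Groth.Agent.Lib.Helper23.FTsub
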