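import Mathlib
import Groth.Agent.Lib.Helper4DevM

/-!
# Coherent modules upstairs with prescribed support downstairs (helper4)

For a finite surjective morphism `f : Y ⟶ X` to a locally Noetherian scheme and an integral closed subscheme
`i : Z ⟶ X`, the structure sheaf of the reduced preimage `f⁻¹(i(Z))`, viewed as an `O_Y`-module `F`, has `f_* F`
supported exactly on `i(Z)` with stalk at the generic point of `Z` killed by the maximal ideal
(`exists_coh_push_support`).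
-/

set_option autoImplicit false
set_option linter.style.haveILetI false
set_option linter.unusedSectionVars false
universe u
open CategoryTheory Limits AlgebraicGeometry TopologicalSpace Opposite

namespace Groth.Agent.Lib.Helper4.FinSupp
open Groth.Agent.Lib.Helper4.Dev Groth.Agent.Lib.Helper2 Groth.Agent.Lib.Helper2.Push

section
variable {Y' Y X : Scheme.{u}} (j : Y' ⟶ Y) (f : Y ⟶ X)

/-- `f_* j_* O_{Y'}` -/
noncomputable abbrev MM : X.Modules :=
  (Scheme.Modules.pushforward f).obj ((Scheme.Modules.pushforward j).obj (Coh.structureModule Y'))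

/-- the section `1` -/
noncomputable def one : Γ(MM j f, ⊤) := (1 : Γ(Y', j ⁻¹ᵁ (f ⁻¹ᵁ ⊤)))

theorem map_apply {V V' : X.Opens} (h : V' ⟶ V) (s : Γ(MM j f, V)) :
    (MM j f).presheaf.map h.op s =
      (show Γ(MM j f, V') from
        Y'.presheaf.map ((Opens.map j.base).map ((Opens.map f.base).map h)).op (show Γ(Y', j ⁻¹ᵁ (f ⁻¹ᵁ V)) from s)) :=
  rfl

theorem smul_apply (V : X.Opens) (a : Γ(X, V)) (s : Γ(MM j f, V)) :
    a • s = (show Γ(MM j f, V) from
      (j.app (f ⁻¹ᵁ V) (f.app V a)) * (show Γ(Y', j ⁻¹ᵁ (f ⁻¹ᵁ V)) from s)) := rfl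

theorem germ_one_ne_zero (y' : Y') :
    (MM j f).presheaf.germ ⊤ (f (j y')) trivial (one j f) ≠ 0 := by
  intro h0
  have h1 : (MM j f).presheaf.germ ⊤ (f (j y')) trivial (one j f) =
      (MM j f).presheaf.germ ⊤ (f (j y')) trivial 0 := by rw [h0, map_zero]
  obtain ⟨W, hW, iU, _, e⟩ := (MM j f).presheaf.germ_eq (f (j y')) (U := ⊤) (V := ⊤) trivial trivial _ _ h1
  rw [map_zero] at e
  have e' : Y'.presheaf.map ((Opens.map j.base).map ((Opens.map f.base).map iU)).op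
      (1 : Γ(Y', j ⁻¹ᵁ (f ⁻¹ᵁ ⊤))) = 0 := e
  rw [map_one] at e'
  have hz : y' ∈ j ⁻¹ᵁ (f ⁻¹ᵁ W) := hW
  have := congrArg (Y'.presheaf.germ (j ⁻¹ᵁ (f ⁻¹ᵁ W)) y' hz) e'
  rw [map_one, map_zero] at this
  exact one_ne_zero this

theorem subsingleton_stalk_of_preimage_eq_bot (x : X) (V : X.Opens) (hx : x ∈ V)
    (hV : j ⁻¹ᵁ (f ⁻¹ᵁ V) = ⊥) : Subsingleton ((MM j f).presheaf.stalk x) := by
  have hzero : ∀ a : (MM j f).presheaf.stalk x, a = 0 := by
    intro a
    obtain ⟨U, hxU, s, rfl⟩ := (MM j f).presheaf.exists_germ_eq a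
    have hxW : x ∈ U ⊓ V := ⟨hxU, hx⟩
    have hpre : j ⁻¹ᵁ (f ⁻¹ᵁ (U ⊓ V)) = ⊥ := by
      rw [eq_bot_iff]
      intro z hz
      have : z ∈ j ⁻¹ᵁ (f ⁻¹ᵁ V) := hz.2
      rw [hV] at this
      exact this
    haveI : Subsingleton Γ(Y', j ⁻¹ᵁ (f ⁻¹ᵁ (U ⊓ V))) := by
      rw [hpre]; infer_instance
    haveI : Subsingleton Γ(MM j f, U ⊓ V) :=
      inferInstanceAs (Subsingleton Γ(Y', j ⁻¹ᵁ (f ⁻¹ᵁ (U ⊓ V))))
    rw [← (MM j f).presheaf.germ_res_apply (homOfLE inf_le_left) x hxW s]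
    rw [Subsingleton.elim ((MM j f).presheaf.map (homOfLE inf_le_left).op s) 0, map_zero]
  exact ⟨fun a b => by rw [hzero a, hzero b]⟩

/-- a function on `X` whose preimage in `Y'` has empty nonvanishing locus kills the sections of `f_* j_* O_{Y'}` -/
theorem smul_eq_zero_of_basicOpen [IsReduced Y'] (V : X.Opens) (a : Γ(X, V))
    (ha : j ⁻¹ᵁ (f ⁻¹ᵁ (X.basicOpen a)) = ⊥) (s : Γ(MM j f, V)) : a • s = 0 := by
  rw [smul_apply]
  have h0 : j.app (f ⁻¹ᵁ V) (f.app V a) = 0 := by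
    apply eq_zero_of_basicOpen_eq_bot
    rw [← Scheme.preimage_basicOpen, ← Scheme.preimage_basicOpen]
    exact ha
  rw [h0, zero_mul]
  rfl

end

theorem exists_coh_push_support {Y X : Scheme.{u}} (f : Y ⟶ X) [IsFinite f] [Surjective f]
    [IsLocallyNoetherian X] (Z : Scheme.{u}) (i : Z ⟶ X) [IsClosedImmersion i] [IsIntegral Z] :
    ∃ F : Y.Modules, Coh.IsCoh F ∧ CohB1.support ((Coh.push f).obj F) = Set.range ⇑i ∧
      ∀ a ∈ IsLocalRing.maximalIdeal (X.presheaf.stalk (i (genericPoint Z))),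
        ∀ m : ↑(((Coh.push f).obj F).presheaf.stalk (i (genericPoint Z))), a • m = 0 := by
  haveI : IsLocallyNoetherian Y := LocallyOfFiniteType.isLocallyNoetherian f
  have hcl : IsClosed (⇑f ⁻¹' Set.range ⇑i) :=
    (i.isClosedEmbedding.isClosed_range).preimage f.continuous
  let W : TopologicalSpace.Closeds Y := ⟨⇑f ⁻¹' Set.range ⇑i, hcl⟩
  let j := (Scheme.IdealSheafData.vanishingIdeal W).subschemeι
  haveI : IsReduced (Scheme.IdealSheafData.vanishingIdeal W).subscheme :=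
    Groth.Agent.Lib.Helper10.RedInd.isReduced_subscheme_vanishingIdeal W
  have hrange : Set.range ⇑j = ⇑f ⁻¹' Set.range ⇑i := range_subschemeι_vanishingIdeal' W
  have hmem : ∀ y', f (j y') ∈ Set.range ⇑i := by
    intro y'
    have : j y' ∈ Set.range ⇑j := ⟨y', rfl⟩
    rw [hrange] at this
    exact this
  refine ⟨(Scheme.Modules.pushforward j).obj (Coh.structureModule _),
    isCoh_push_closed j _ (isCoh_structureModule _), ?_, ?_⟩
  · apply Set.Subset.antisymm
    · intro x hx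
      by_contra hxr
      apply hx
      let V : X.Opens := ⟨(Set.range ⇑i)ᶜ, i.isClosedEmbedding.isClosed_range.isOpen_compl⟩
      refine subsingleton_stalk_of_preimage_eq_bot j f x V hxr ?_
      rw [eq_bot_iff]
      intro y' hy'
      exact absurd (hmem y') hy'
    · rintro x ⟨z, rfl⟩
      obtain ⟨y₀, hy₀⟩ := f.surjective (i z)
      have h0 : y₀ ∈ Set.range ⇑j := by
        rw [hrange]
        exact ⟨z, hy₀.symm⟩
      obtain ⟨y', rfl⟩ := h0
      intro hsub
      rw [← hy₀] at hsub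
      haveI := hsub
      exact germ_one_ne_zero j f y' (Subsingleton.elim _ _)
  · intro a ha m
    obtain ⟨U₁, h₁, a₁, rfl⟩ := X.presheaf.exists_germ_eq a
    obtain ⟨U₂, h₂, s₂, rfl⟩ := (MM j f).presheaf.exists_germ_eq m
    obtain ⟨U, hU0, hξU, hUle⟩ := (Opens.isBasis_iff_nbhd.1 X.isBasis_affineOpens)
      (show i (genericPoint Z) ∈ U₁ ⊓ U₂ from ⟨h₁, h₂⟩)
    have hU : IsAffineOpen U := hU0
    clear hU0
    have hle₁ : U ≤ U₁ := hUle.trans inf_le_left
    have hle₂ : U ≤ U₂ := hUle.trans inf_le_right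
    rw [← X.presheaf.germ_res_apply (homOfLE hle₁) _ hξU a₁,
      ← (MM j f).presheaf.germ_res_apply (homOfLE hle₂) _ hξU s₂] at *
    rw [← QCoh.germ_smul]
    have hbot : j ⁻¹ᵁ (f ⁻¹ᵁ (X.basicOpen (X.presheaf.map (homOfLE hle₁).op a₁))) = ⊥ := by
      rw [eq_bot_iff]
      intro y' hy'
      exfalso
      obtain ⟨z, hz⟩ := hmem y'
      have hzD : z ∈ i ⁻¹ᵁ (X.basicOpen (X.presheaf.map (homOfLE hle₁).op a₁)) := by
        change i z ∈ X.basicOpen (X.presheaf.map (homOfLE hle₁).op a₁)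
        rw [hz]
        exact hy'
      have hgen : genericPoint Z ∈ i ⁻¹ᵁ (X.basicOpen (X.presheaf.map (homOfLE hle₁).op a₁)) :=
        ((genericPoint_spec Z).mem_open_set_iff (i ⁻¹ᵁ _).2).2 ⟨z, trivial, hzD⟩
      have hunit : IsUnit (X.presheaf.germ U (i (genericPoint Z)) hξU
          (X.presheaf.map (homOfLE hle₁).op a₁)) :=
        (Scheme.mem_basicOpen X _ _ hξU).1 hgen
      exact (IsLocalRing.mem_maximalIdeal _).1 ha hunit
    rw [smul_eq_zero_of_basicOpen j f U _ hbot, map_zero]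

end Groth.Agent.Lib.Helper4.FinSupp
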