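import Mathlib
import Groth.Agent.Lib.Helper4DevP
import Groth.Agent.Lib.Helper27CoprodFin
import Groth.Agent.Lib.Helper27CohFin
import Groth.Agent.Lib.Helper2FinPushFP
import Groth.Agent.S0007
import Groth.Agent.S0012
import Groth.Agent.S0014
import Groth.Agent.S0820
import Groth.Agent.S9522

/-!
# Chevalley's theorem: a Noetherian scheme finitely covered by an affine scheme is affine (helper4)

* `V1 M`: `H¹(X, M) = 0`; `v1_of_retract`, `v1_of_iso`, `v1_of_isZero`, `v1_of_shortExact`, `v1_push_of_isAffine`;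
* `isAffine_of_finite_surjective`.
-/

set_option autoImplicit false
set_option linter.style.haveILetI false
set_option linter.unusedSectionVars false
universe u
open CategoryTheory Limits AlgebraicGeometry TopologicalSpace Opposite Abelian

namespace Groth.Agent.Lib.Helper4.Chev
open Groth.Agent.Lib.Helper4.Dev Groth.Agent.Lib.Helper23.QCohLocal Groth.Agent.Lib.Helper27CoprodFin
  Groth.Agent.Lib.Helper23.FinType

variable {X : Scheme.{u}}

/-- vanishing of `H¹` -/
def V1 (M : X.Modules) : Prop := Subsingleton (Coh.HH X M 1)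

theorem v1_of_retract {M N : X.Modules} (ι : M ⟶ N) (π : N ⟶ M) (h : ι ≫ π = 𝟙 M) (hN : V1 N) : V1 M := by
  have key : ∀ x : Coh.HH X M 1, x = 0 := by
    intro x
    let x' : Sheaf.H ((toAbF X).obj M) 1 := x
    have h1 : evalH 1 x' (ι ≫ π) = x' := by
      rw [h]
      exact evalH_id 1 x'
    rw [evalH_comp] at h1
    have h2 : evalH 1 x' ι = 0 := @Subsingleton.elim (Coh.HH X N 1) hN _ _
    rw [h2] at h1
    have h3 : evalH 1 (0 : Sheaf.H ((toAbF X).obj N) 1) π = 0 := by
      change Sheaf.H.map ((toAbF X).map π) 1 0 = 0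
      exact map_zero _
    rw [h3] at h1
    exact h1.symm
  exact ⟨fun x y => (key x).trans (key y).symm⟩

theorem v1_of_iso {M N : X.Modules} (e : M ≅ N) (h : V1 M) : V1 N :=
  v1_of_retract e.inv e.hom e.inv_hom_id h

theorem v1_of_isZero {M : X.Modules} (hM : IsZero M) : V1 M := by
  have key : ∀ x : Coh.HH X M 1, x = 0 := by
    intro x
    let x' : Sheaf.H ((toAbF X).obj M) 1 := x
    have h1 : evalH 1 x' (𝟙 M) = x' := evalH_id 1 x'
    rw [hM.eq_of_src (𝟙 M) 0, map_zero] at h1
    exact h1.symm
  exact ⟨fun x y => (key x).trans (key y).symm⟩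

theorem v1_of_shortExact (S : ShortComplex X.Modules) (hS : S.ShortExact) (h1 : V1 S.X₁) (h3 : V1 S.X₃) :
    V1 S.X₂ := by
  have key : ∀ x : Coh.HH X S.X₂ 1, x = 0 := by
    intro x
    have hx : x.comp (Ext.mk₀ ((toAbF X).map S.g)) (add_zero 1) = 0 :=
      @Subsingleton.elim (Coh.HH X S.X₃ 1) h3 _ _
    obtain ⟨y, hy⟩ := Ext.covariant_sequence_exact₂ _ (shortExact_toAbF S hS) x hx
    have hy0 : y = 0 := @Subsingleton.elim (Coh.HH X S.X₁ 1) h1 _ _
    rw [← hy, hy0, Ext.zero_comp]
    rfl
  exact ⟨fun x y => (key x).trans (key y).symm⟩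

theorem v1_push_of_isAffine {Y : Scheme.{u}} (f : Y ⟶ X) [IsAffineHom f] [IsAffine Y] (M : Y.Modules)
    [M.IsQuasicoherent] : V1 ((Scheme.Modules.pushforward f).obj M) := by
  haveI : Coh.IsQCoh M := inferInstanceAs M.IsQuasicoherent
  obtain ⟨e⟩ := Groth.Agent.S0012.result f M 1
  have h0 : Subsingleton (Coh.HH Y M 1) := Groth.Agent.S0007.result Y M 1 Nat.one_pos
  exact @Equiv.subsingleton _ _ e.symm.toEquiv h0

/-- **Chevalley's theorem** -/
theorem isAffine_of_finite_surjective {Y : Scheme.{u}} (f : Y ⟶ X) [IsFinite f] [Surjective f] [IsAffine Y]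
    [IsNoetherian X] : IsAffine X := by
  haveI : IsLocallyNoetherian X := inferInstance
  haveI : CompactSpace X := inferInstance
  haveI : QuasiSeparatedSpace X := inferInstance
  haveI : IsLocallyNoetherian Y := LocallyOfFiniteType.isLocallyNoetherian f
  have hiso : ∀ M N : X.Modules, Nonempty (M ≅ N) → V1 M → V1 N := fun M N ⟨e⟩ h => v1_of_iso e h
  have hzero : ∀ M : X.Modules, IsZero M → V1 M := fun M hM => v1_of_isZero hM
  have hext : ∀ S : ShortComplex X.Modules, S.ShortExact → Coh.IsCoh S.X₁ → Coh.IsCoh S.X₂ →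
      Coh.IsCoh S.X₃ → V1 S.X₁ → V1 S.X₃ → V1 S.X₂ :=
    fun S hS _ _ _ h1 h3 => v1_of_shortExact S hS h1 h3
  have key : ∀ F : X.Modules, Coh.IsCoh F → V1 F := by
    intro F hF
    refine noetherian_induction_coh V1 Set.univ hiso hzero
      (fun S hS c1 c2 c3 _ => hext S hS c1 c2 c3) ?_ F hF (Set.subset_univ _)
    intro y _ IH F hF hsF
    refine Groth.Agent.S9522.result X (closure {y}) isClosed_closure isIrreducible_singleton.closure y
      ⟨subset_closure rfl, rfl⟩ V1 hiso hzero hext ?_ ?_ ?_ F hF hsF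
    · intro F r _ hr h
      exact v1_of_retract (Sigma.ι (fun _ : Fin r => F) ⟨0, hr⟩) (Sigma.desc (fun _ => 𝟙 F))
        (by simp) h
    · intro Z i hci hint hsub hne I ι hι hIq
      haveI := hci
      haveI := hint
      haveI := hι
      haveI : IsLocallyNoetherian Z := LocallyOfFiniteType.isLocallyNoetherian i
      haveI : I.IsQuasicoherent := hIq
      have hIc : Coh.IsCoh I := by
        haveI : (Coh.structureModule Z).IsQuasicoherent := (isCoh_structureModule Z).1
        haveI : SheafOfModules.IsFiniteType (R := Z.ringCatSheaf) (Coh.structureModule Z) :=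
          (isCoh_structureModule Z).2
        exact ⟨hIq, isFiniteType_of_mono ι⟩
      have hpc := isCoh_push_closed i I hIc
      have hs := support_push_subset i I
      refine IH _ hpc (hs.trans hsub) ?_
      by_contra hns
      have hy : y ∈ Set.range ⇑i := hs hns
      apply hne
      exact subset_antisymm hsub
        (closure_minimal (Set.singleton_subset_iff.2 hy) i.isClosedEmbedding.isClosed_range)
    · obtain ⟨Z, i, hci, hint, hrange, hgen, hker⟩ := exists_integral_closed' y
      haveI := hci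
      haveI := hint
      subst hgen
      obtain ⟨F', hF', hsupp', hkill'⟩ := Groth.Agent.S0820.result f Z i
      haveI : F'.IsQuasicoherent := hF'.1
      let G : X.Modules := (Scheme.Modules.pushforward f).obj F'
      have hG : Coh.IsCoh G := ⟨isQuasicoherent_pushforward f F',
        (Groth.Agent.Lib.Helper2.FinPushFP.isFiniteType_pushforward_iff f F').1 hF'.2⟩
      refine ⟨G, hG, hsupp'.trans hrange, hkill', ?_⟩
      intro J hyJ
      obtain ⟨e, he⟩ := idealMul_pushforward_iso f F' J
      refine ⟨(Dual3.idealMul J).obj G, 𝟙 _, inferInstance, (isCoh_idealMul J G hG).1, ?_, ?_⟩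
      · rw [Category.id_comp]
        exact (ConcreteCategory.isIso_iff_bijective _).2 (stalkL_idealMulι_bijective J G _ hyJ)
      · have hM : Coh.IsCoh ((Dual3.idealMul (J.comap f)).obj F') := isCoh_idealMul (J.comap f) F' hF'
        haveI : ((Dual3.idealMul (J.comap f)).obj F').IsQuasicoherent := hM.1
        exact v1_of_iso e.symm (v1_push_of_isAffine f _)
  apply Groth.Agent.S0014.result X
  intro I i hi hIq hIft
  exact key I ⟨hIq, hIft⟩

end Groth.Agent.Lib.Helper4.Chev
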