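import Mathlib
import Groth.Agent.Lib.Helper22NA4

universe u
open CategoryTheory Limits AlgebraicGeometry Opposite

namespace Groth.Agent.Lib.Helper22.NA5

open Groth.Agent.Lib.Helper22

/-- hypotheses on an inverse system: directed index set, affine transitions, quasi-compact stages
locally of finite type over `ℤ`. -/
structure GoodSys {I : Type u} [Preorder I] (D : Iᵒᵖ ⥤ Scheme.{u}) : Prop where
  dir : IsDirected I (fun a b => a ≤ b)
  ne : Nonempty I
  aff : ∀ {x y : Iᵒᵖ} (a : x ⟶ y), IsAffineHom (D.map a)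
  cpt : ∀ x, CompactSpace (D.obj x)
  lft : ∀ x, LocallyOfFiniteType (specULiftZIsTerminal.from (D.obj x))

/-- The approximation statement for an open immersion `j : c.pt ⟶ S`: `S` is the limit of a good
system containing the given system as a compatible system of open subschemes. -/
def Approx {I : Type u} [Preorder I] (D : Iᵒᵖ ⥤ Scheme.{u}) (c : Cone D) {S : Scheme.{u}}
    (j : c.pt ⟶ S) : Prop :=
  ∃ (J : Type u) (_ : Preorder J) (DS : Jᵒᵖ ⥤ Scheme.{u}) (cS : Cone DS) (_ : IsLimit cS)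
    (eS : cS.pt ≅ S) (α : J →o I) (ν : ∀ k : J, D.obj (op (α k)) ⟶ DS.obj (op k)),
    GoodSys DS ∧ (∀ k, IsOpenImmersion (ν k)) ∧
    (∀ (k k' : J) (h : k ≤ k'), IsPullback (D.map (homOfLE (α.monotone h)).op) (ν k') (ν k)
      (DS.map (homOfLE h).op)) ∧
    (∀ k : J, IsPullback (c.π.app (op (α k))) (j ≫ eS.inv) (ν k) (cS.π.app (op k)))

variable {I : Type u} [Preorder I] {D : Iᵒᵖ ⥤ Scheme.{u}} {c : Cone D}

/-- base case -/
theorem approx_of_isIso (hD : GoodSys D) (hc : IsLimit c) {S : Scheme.{u}} (j : c.pt ⟶ S)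
    [IsIso j] : Approx D c j := by
  refine ⟨I, inferInstance, D, c, hc, asIso j, OrderHom.id, fun k => 𝟙 (D.obj (op k)), hD,
    fun k => ?_, fun k k' h => ?_, fun k => ?_⟩
  · change IsOpenImmersion (𝟙 (D.obj (op k)))
    infer_instance
  · change IsPullback (D.map (homOfLE h).op) (𝟙 (D.obj (op k'))) (𝟙 (D.obj (op k)))
      (D.map (homOfLE h).op)
    exact IsPullback.of_vert_isIso ⟨by simp⟩
  · change IsPullback (c.π.app (op k)) (j ≫ inv j) (𝟙 (D.obj (op k))) (c.π.app (op k))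
    exact IsPullback.of_vert_isIso ⟨by simp⟩

/-- composition -/
theorem approx_trans {S₁ S₂ : Scheme.{u}} (j₁ : c.pt ⟶ S₁) (j₂ : S₁ ⟶ S₂)
    (h₁ : Approx D c j₁)
    (h₂ : ∀ (J : Type u) (_ : Preorder J) (DS : Jᵒᵖ ⥤ Scheme.{u}) (cS : Cone DS) (_ : IsLimit cS)
      (eS : cS.pt ≅ S₁), GoodSys DS → Approx DS cS (eS.hom ≫ j₂)) :
    Approx D c (j₁ ≫ j₂) := by
  obtain ⟨J, pJ, DS, cS, hcS, eS, α, ν, hgood, hν, hsq, hcsq⟩ := h₁
  obtain ⟨J', pJ', DS', cS', hcS', eS', α', ν', hgood', hν', hsq', hcsq'⟩ :=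
    h₂ J pJ DS cS hcS eS hgood
  refine ⟨J', pJ', DS', cS', hcS', eS', α.comp α', fun k => ν (α' k) ≫ ν' k, hgood',
    fun k => ?_, fun k k' h => ?_, fun k => ?_⟩
  · have := hν (α' k); have := hν' k
    change IsOpenImmersion (ν (α' k) ≫ ν' k)
    infer_instance
  · exact (hsq (α' k) (α' k') (α'.monotone h)).paste_vert (hsq' k k' h)
  · have h1 := hcsq (α' k)
    have h2 := hcsq' k
    have h3 := h1.paste_vert h2
    simp only [Category.assoc, Iso.inv_hom_id_assoc] at h3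
    exact h3

/-- the output of the core gluing construction -/
theorem approx_of_coreData (𝒟 : NA4.CoreData.{u}) : Approx 𝒟.DU 𝒟.cU 𝒟.jU := by
  obtain ⟨hlim⟩ := 𝒟.isLimit_cS
  refine ⟨𝒟.J, inferInstance, 𝒟.DS, 𝒟.cS, hlim, Iso.refl _, 𝒟.α, fun k => 𝒟.inl k,
    ⟨inferInstance, inferInstance, fun a => inferInstance, fun x => inferInstance,
      fun x => inferInstance⟩, fun k => ?_, fun k k' h => ?_, fun k => ?_⟩
  · change IsOpenImmersion (𝒟.inl k)
    infer_instance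
  · exact 𝒟.isPullback_inl h
  · have := IsOpenImmersion.isPullback (𝒟.cU.π.app (op k.1)) 𝒟.jU (𝒟.inl k) (𝒟.πS k)
      (𝒟.jU_πS k) (𝒟.πS_preimage_inl k)
    have h2 : 𝒟.jU ≫ (Iso.refl 𝒟.cS.pt).inv = 𝒟.jU := Category.comp_id _
    rw [h2]
    exact this

end Groth.Agent.Lib.Helper22.NA5
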