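import Mathlib
import Groth.Agent.Lib.Helper22NA5

universe u
open CategoryTheory Limits AlgebraicGeometry Opposite

namespace Groth.Agent.Lib.Helper22.NA6

open Groth.Agent.Lib.Helper22

section ici

variable {I : Type u} [Preorder I]

/-- the upper set `{i | i₀ ≤ i}` as a type -/
abbrev Ici' (i₀ : I) : Type u := {i : I // i₀ ≤ i}

/-- inclusion `Ici' i₀ → I` -/
def inc (i₀ : I) : Ici' i₀ →o I := ⟨Subtype.val, fun _ _ h => h⟩

instance (i₀ : I) [IsDirected I (fun a b => a ≤ b)] :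
    IsDirected (Ici' i₀) (fun a b => a ≤ b) := by
  refine ⟨fun a b => ?_⟩
  obtain ⟨c, h1, h2⟩ := exists_ge_ge a.1 b.1
  exact ⟨⟨c, a.2.trans h1⟩, h1, h2⟩

instance (i₀ : I) : Nonempty (Ici' i₀) := ⟨⟨i₀, le_rfl⟩⟩

theorem inc_cofinal (i₀ : I) [IsDirected I (fun a b => a ≤ b)] (i : I) :
    ∃ k : Ici' i₀, i ≤ inc i₀ k := by
  obtain ⟨c, h1, h2⟩ := exists_ge_ge i₀ i
  exact ⟨⟨c, h1⟩, h2⟩

end ici

variable {I : Type u} [Preorder I] (D : Iᵒᵖ ⥤ Scheme.{u}) (c : Cone D)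

/-- Passing to the restricted system over `Ici' i₀`. -/
theorem approx_of_whisker {I' : Type u} [Preorder I'] (β : I' →o I) {S : Scheme.{u}}
    (j : c.pt ⟶ S)
    (h : NA5.Approx (β.monotone.functor.op ⋙ D) (c.whisker β.monotone.functor.op) j) :
    NA5.Approx D c j := by
  obtain ⟨J, pJ, DS, cS, hcS, eS, α, ν, hgood, hν, hsq, hcsq⟩ := h
  exact ⟨J, pJ, DS, cS, hcS, eS, β.comp α, ν, hgood, hν, hsq, hcsq⟩

/-- The data produced by the "eventually" arguments: a stage `i₅`, an open `T₅` of it pulling back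
to `j⁻¹ W`, and sections cutting out compatible affine charts. -/
structure StepData {S : Scheme.{u}} (j : c.pt ⟶ S) [IsOpenImmersion j] (W : S.Opens) where
  i₅ : I
  T₅ : (D.obj (op i₅)).Opens
  hT₅ : (c.π.app (op i₅)) ⁻¹ᵁ T₅ = j ⁻¹ᵁ W
  n : ℕ
  g : Fin n → Γ(S, W)
  f₅ : Fin n → Γ(T₅.toScheme, ⊤)
  hfg : ∀ k, ((c.π.app (op i₅)).resLE T₅ (j ⁻¹ᵁ W) hT₅.ge).appTop (f₅ k) =
    (j.app W ≫ (j ⁻¹ᵁ W).topIso.inv) (g k)
  hcov : ⨆ k, T₅.toScheme.basicOpen (f₅ k) = ⊤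
  haff : ∀ k, IsAffineOpen (T₅.toScheme.basicOpen (f₅ k))
  hg : ∀ k, S.basicOpen (g k) ≤ j.opensRange

namespace StepData

variable {D c} {S : Scheme.{u}} {j : c.pt ⟶ S} [IsOpenImmersion j] {W : S.Opens}
  (sd : StepData D c j W)

/-- the index set of the restricted system -/
abbrev I' : Type u := Ici' sd.i₅

/-- the restricted system -/
noncomputable abbrev DU : sd.I'ᵒᵖ ⥤ Scheme.{u} := (inc sd.i₅).monotone.functor.op ⋙ D

/-- the restricted cone -/
noncomputable abbrev cU : Cone sd.DU := c.whisker (inc sd.i₅).monotone.functor.op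

/-- transition maps of `D` -/
noncomputable abbrev m {i i' : I} (h : i ≤ i') : D.obj (op i') ⟶ D.obj (op i) := D.map (homOfLE h).op

theorem m_trans {i i' i'' : I} (h : i ≤ i') (h' : i' ≤ i'') :
    m (D := D) h' ≫ m h = m (h.trans h') := by
  rw [m, m, ← Functor.map_comp]; rfl

theorem m_refl (i : I) : m (D := D) (le_refl i) = 𝟙 _ := by
  change D.map (𝟙 (op i)) = _
  exact D.map_id _

/-- the opens `T i` -/
noncomputable def Tt (i : sd.I') : (D.obj (op i.1)).Opens := m i.2 ⁻¹ᵁ sd.T₅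

theorem hTt {i i' : sd.I'} (h : i ≤ i') : m (D := D) (show i.1 ≤ i'.1 from h) ⁻¹ᵁ sd.Tt i = sd.Tt i' := by
  rw [Tt, Tt, ← Scheme.Hom.comp_preimage, m_trans]

theorem hTc (i : sd.I') : c.π.app (op i.1) ⁻¹ᵁ sd.Tt i = j ⁻¹ᵁ W := by
  rw [Tt, ← Scheme.Hom.comp_preimage, ← sd.hT₅]
  have : c.π.app (op i.1) ≫ m i.2 = c.π.app (op sd.i₅) := c.w (homOfLE i.2).op
  rw [this]

/-- transition maps of the `T`-system -/
noncomputable def mT {i i' : sd.I'} (h : i ≤ i') : (sd.Tt i').toScheme ⟶ (sd.Tt i).toScheme :=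
  (m (D := D) (show i.1 ≤ i'.1 from h)).resLE (sd.Tt i) (sd.Tt i') (sd.hTt h).ge

/-- the `T`-system -/
noncomputable def DT : sd.I'ᵒᵖ ⥤ Scheme.{u} where
  obj x := (sd.Tt x.unop).toScheme
  map a := sd.mT (leOfHom a.unop)
  map_id x := by
    rw [← cancel_mono (sd.Tt x.unop).ι]
    simp only [mT, Scheme.Hom.resLE_comp_ι, Category.id_comp]
    rw [m_refl, Category.comp_id]
  map_comp {x y z} a b := by
    rw [← cancel_mono (sd.Tt z.unop).ι]
    simp only [mT, Category.assoc, Scheme.Hom.resLE_comp_ι, Scheme.Hom.resLE_comp_ι_assoc]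
    rw [m_trans]

/-- the inclusions -/
noncomputable def ι : sd.DT ⟶ sd.DU where
  app x := (sd.Tt x.unop).ι
  naturality x y a := by
    change sd.mT (leOfHom a.unop) ≫ _ = _ ≫ m (D := D) (show y.unop.1 ≤ x.unop.1 from leOfHom a.unop)
    simp only [mT, Scheme.Hom.resLE_comp_ι]

/-- the cone of the `T`-system -/
noncomputable def cT : Cone sd.DT where
  pt := (j ⁻¹ᵁ W).toScheme
  π :=
    { app := fun x => (c.π.app (op x.unop.1)).resLE (sd.Tt x.unop) (j ⁻¹ᵁ W) (sd.hTc x.unop).ge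
      naturality := fun x y a => by
        change 𝟙 _ ≫ _ = _ ≫ sd.mT (leOfHom a.unop)
        rw [← cancel_mono (sd.Tt y.unop).ι]
        simp only [mT, Category.id_comp, Category.assoc, Scheme.Hom.resLE_comp_ι,
          Scheme.Hom.resLE_comp_ι_assoc]
        have : c.π.app (op x.unop.1) ≫ m (D := D) (show y.unop.1 ≤ x.unop.1 from leOfHom a.unop) =
          c.π.app (op y.unop.1) := c.w (homOfLE _).op
        rw [this] }

instance (x : sd.I'ᵒᵖ) : IsOpenImmersion (sd.ι.app x) :=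
  inferInstanceAs (IsOpenImmersion (sd.Tt x.unop).ι)

/-- the inclusion `T ⟶ U` of the limits -/
noncomputable def ι' : sd.cT.pt ⟶ sd.cU.pt := (j ⁻¹ᵁ W).ι

instance : IsOpenImmersion sd.ι' := inferInstanceAs (IsOpenImmersion (j ⁻¹ᵁ W).ι)

theorem hcomm (x : sd.I'ᵒᵖ) :
    sd.cT.π.app x ≫ sd.ι.app x = sd.ι' ≫ sd.cU.π.app x := by
  change (c.π.app (op x.unop.1)).resLE _ _ _ ≫ (sd.Tt x.unop).ι = _ ≫ c.π.app (op x.unop.1)
  rw [Scheme.Hom.resLE_comp_ι]
  rfl

theorem equif {x y : sd.I'ᵒᵖ} (a : x ⟶ y) :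
    (sd.DU.map a) ⁻¹ᵁ (sd.ι.app y).opensRange = (sd.ι.app x).opensRange := by
  change m (D := D) (show y.unop.1 ≤ x.unop.1 from leOfHom a.unop) ⁻¹ᵁ (sd.Tt y.unop).ι.opensRange =
    (sd.Tt x.unop).ι.opensRange
  rw [Scheme.Opens.opensRange_ι, Scheme.Opens.opensRange_ι]
  exact sd.hTt (leOfHom a.unop)

theorem equif' (x : sd.I'ᵒᵖ) :
    (sd.cU.π.app x) ⁻¹ᵁ (sd.ι.app x).opensRange = sd.ι'.opensRange := by
  change c.π.app (op x.unop.1) ⁻¹ᵁ (sd.Tt x.unop).ι.opensRange = (j ⁻¹ᵁ W).ι.opensRange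
  rw [Scheme.Opens.opensRange_ι, Scheme.Opens.opensRange_ι]
  exact sd.hTc x.unop

variable (hD : NA5.GoodSys D) (hc : IsLimit c)

include hD in
/-- the restricted cone is a limit cone -/
noncomputable def hcU : IsLimit sd.cU :=
  haveI := hD.dir
  NA1.isLimitWhiskerOfCofinal (inc sd.i₅) (inc_cofinal sd.i₅) D c hc

include hD in
/-- the cone of the `T`-system is a limit cone -/
noncomputable def hcT : IsLimit sd.cT := by
  haveI := hD.dir
  haveI : IsConnected sd.I'ᵒᵖ := IsCofiltered.isConnected _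
  exact isLimitOfIsPullbackOfIsConnected sd.ι sd.cT sd.cU
    { hom := sd.ι'
      w := fun x => (sd.hcomm x).symm }
    (fun x => IsOpenImmersion.isPullback _ _ _ _ (sd.hcomm x).symm (sd.equif' x))
    (sd.hcU hD hc)

/-! ### the affine part -/

end StepData

section affinePart

variable {X S : Scheme.{u}} (j : X ⟶ S) [IsOpenImmersion j] (W : S.Opens)

/-- the ring map `Γ(S, W) → Γ(T)` -/
noncomputable def σW : Γ(S, W) ⟶ Γ((j ⁻¹ᵁ W).toScheme, ⊤) := j.app W ≫ (j ⁻¹ᵁ W).topIso.inv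

/-- the open immersion `T ⟶ Spec Γ(S, W)` -/
noncomputable def κW : (j ⁻¹ᵁ W).toScheme ⟶ Spec Γ(S, W) :=
  (j ⁻¹ᵁ W).toScheme.toSpecΓ ≫ Spec.map (σW j W)

variable {W} (hW : IsAffineOpen W)

include hW in
theorem κW_eq : κW j W = (j ∣_ W) ≫ hW.isoSpec.hom := by
  have h1 := Scheme.Opens.toSpecΓ_naturality j W
  rw [IsAffineOpen.isoSpec_hom, ← h1, κW, σW, Spec.map_comp]
  rfl

include hW in
theorem isOpenImmersion_κW : IsOpenImmersion (κW j W) := by
  rw [κW_eq j hW]; infer_instance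

include hW in
theorem κW_fromSpec : κW j W ≫ hW.fromSpec = (j ⁻¹ᵁ W).ι ≫ j := by
  rw [κW_eq j hW, Category.assoc, IsAffineOpen.isoSpec_hom_fromSpec, morphismRestrict_ι]

include hW in
theorem isPullback_base : IsPullback (j ⁻¹ᵁ W).ι (κW j W) j hW.fromSpec := by
  haveI := isOpenImmersion_κW j hW
  refine (IsOpenImmersion.isPullback (κW j W) (j ⁻¹ᵁ W).ι hW.fromSpec j
    (κW_fromSpec j hW).symm ?_).flip
  rw [hW.opensRange_fromSpec]
  exact (Scheme.Opens.opensRange_ι _).symm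

include hW in
theorem isPushout_base (hcovS : j.opensRange ⊔ W = ⊤) :
    IsPushout (j ⁻¹ᵁ W).ι (κW j W) j hW.fromSpec := by
  haveI := isOpenImmersion_κW j hW
  exact NA3.isPushout_of_isPullback _ _ _ _ (isPullback_base j hW)
    (by rw [hW.opensRange_fromSpec]; exact hcovS)

include hW in
theorem basicOpen_le_opensRange_κW (g : Γ(S, W)) (hg : S.basicOpen g ≤ j.opensRange) :
    ∀ p ∈ (NA2.bO g : (Spec Γ(S, W)).Opens), p ∈ Set.range (κW j W) := by
  intro p hp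
  have h1 : hW.fromSpec p ∈ S.basicOpen g := by
    have : p ∈ hW.fromSpec ⁻¹ᵁ S.basicOpen g := by
      rw [hW.fromSpec_preimage_basicOpen]; exact hp
    exact this
  obtain ⟨u, hu⟩ := hg h1
  have h2 : u ∈ j ⁻¹ᵁ W := by
    change j u ∈ W
    rw [hu]
    have : hW.fromSpec p ∈ hW.fromSpec.opensRange := ⟨p, rfl⟩
    rwa [hW.opensRange_fromSpec] at this
  refine ⟨⟨u, h2⟩, ?_⟩
  apply hW.fromSpec.isOpenEmbedding.injective
  have h3 := congr($(κW_fromSpec j hW) ⟨u, h2⟩)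
  exact h3.trans hu

end affinePart

namespace StepData

variable {D c} {S : Scheme.{u}} {j : c.pt ⟶ S} [IsOpenImmersion j] {W : S.Opens}
  (sd : StepData D c j W)

/-! ### the sections -/

/-- the map `T i ⟶ T₅` -/
noncomputable def mT' (i : sd.I') : (sd.Tt i).toScheme ⟶ sd.T₅.toScheme :=
  (m (D := D) i.2).resLE sd.T₅ (sd.Tt i) (show sd.Tt i ≤ m i.2 ⁻¹ᵁ sd.T₅ from le_rfl)

/-- the sections `f i k` -/
noncomputable def f (i : sd.I') (k : Fin sd.n) : Γ((sd.Tt i).toScheme, ⊤) :=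
  (sd.mT' i).appTop (sd.f₅ k)

theorem mT_mT' {i i' : sd.I'} (h : i ≤ i') : sd.mT h ≫ sd.mT' i = sd.mT' i' := by
  rw [← cancel_mono sd.T₅.ι]
  rw [mT, mT', mT', Category.assoc, Scheme.Hom.resLE_comp_ι, Scheme.Hom.resLE_comp_ι_assoc,
    Scheme.Hom.resLE_comp_ι, m_trans]

theorem cT_mT' (i : sd.I') :
    sd.cT.π.app (op i) ≫ sd.mT' i =
      (c.π.app (op sd.i₅)).resLE sd.T₅ (j ⁻¹ᵁ W) sd.hT₅.ge := by
  change (c.π.app (op i.1)).resLE (sd.Tt i) (j ⁻¹ᵁ W) (sd.hTc i).ge ≫ sd.mT' i = _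
  refine (cancel_mono sd.T₅.ι).mp ?_
  rw [mT', Category.assoc, Scheme.Hom.resLE_comp_ι, Scheme.Hom.resLE_comp_ι_assoc,
    Scheme.Hom.resLE_comp_ι]
  have : c.π.app (op i.1) ≫ m i.2 = c.π.app (op sd.i₅) := c.w (homOfLE i.2).op
  rw [this]

theorem hf {i i' : sd.I'} (h : i ≤ i') (k : Fin sd.n) :
    (sd.DT.map (homOfLE h).op).appTop (sd.f i k) = sd.f i' k := by
  change (sd.mT h).appTop ((sd.mT' i).appTop (sd.f₅ k)) = (sd.mT' i').appTop (sd.f₅ k)
  rw [← sd.mT_mT' h, Scheme.Hom.comp_appTop]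
  rfl

theorem hfg' (i : sd.I') (k : Fin sd.n) :
    (sd.cT.π.app (op i)).appTop (sd.f i k) = σW j W (sd.g k) := by
  have h1 := sd.hfg k
  have h2 := congr($(sd.cT_mT' i).appTop (sd.f₅ k))
  exact h2.trans h1

theorem basicOpen_f (i : sd.I') (k : Fin sd.n) :
    (sd.Tt i).toScheme.basicOpen (sd.f i k) = sd.mT' i ⁻¹ᵁ sd.T₅.toScheme.basicOpen (sd.f₅ k) :=
  (Scheme.preimage_basicOpen_top _ _).symm

theorem hcov' (i : sd.I') : ⨆ k, (sd.Tt i).toScheme.basicOpen (sd.f i k) = ⊤ := by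
  simp only [basicOpen_f, ← Scheme.Hom.preimage_iSup, sd.hcov]
  rfl

variable (hD : NA5.GoodSys D)

set_option backward.isDefEq.respectTransparency.types false in
include hD in
theorem isAffineHom_mT' (i : sd.I') : IsAffineHom (sd.mT' i) := by
  have h1 : sd.mT' i = (m (D := D) i.2) ∣_ sd.T₅ := Scheme.Hom.resLE_eq_morphismRestrict _
  rw [h1]
  have : IsAffineHom (m (D := D) i.2) := hD.aff _
  exact IsZariskiLocalAtTarget.restrict (P := @IsAffineHom) this _

include hD in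
theorem haff' (i : sd.I') (k : Fin sd.n) :
    IsAffineOpen ((sd.Tt i).toScheme.basicOpen (sd.f i k)) := by
  rw [basicOpen_f]
  have := sd.isAffineHom_mT' hD i
  exact (sd.haff k).preimage _

/-- the input for the core gluing construction -/
noncomputable def coreData (hc : IsLimit c) (hW : IsAffineOpen W)
    (hcovS : j.opensRange ⊔ W = ⊤) : NA4.CoreData.{u} where
  I := sd.I'
  dI := haveI := hD.dir; inferInstance
  DU := sd.DU
  DT := sd.DT
  ι := sd.ι
  cU := sd.cU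
  cT := sd.cT
  hcU := sd.hcU hD hc
  hcT := sd.hcT hD hc
  ι' := sd.ι'
  B := Γ(S, W)
  σ := σW j W
  S := S
  jU := j
  jW := hW.fromSpec
  n := sd.n
  g := sd.g
  f := fun i k => sd.f i k
  affU := fun a => hD.aff _
  cptU := fun x => hD.cpt _
  lftU := fun x => hD.lft _
  oiι := inferInstance
  oiι' := inferInstance
  oiκ := isOpenImmersion_κW j hW
  oijU := inferInstance
  oijW := inferInstance
  hS := isPushout_base j hW hcovS
  hcomm := sd.hcomm
  equif := sd.equif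
  equif' := sd.equif'
  hf := sd.hf
  hfg := sd.hfg'
  hcov := sd.hcov'
  haff := sd.haff' hD
  hg := fun k p hp => basicOpen_le_opensRange_κW j hW (sd.g k) (sd.hg k) p hp

include hD sd in
/-- The gluing step, given the data of the "eventually" arguments. -/
theorem approx (hc : IsLimit c) (hW : IsAffineOpen W)
    (hcovS : j.opensRange ⊔ W = ⊤) : NA5.Approx D c j :=
  approx_of_whisker D c (inc sd.i₅) j (NA5.approx_of_coreData (sd.coreData hD hc hW hcovS))

end StepData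

end Groth.Agent.Lib.Helper22.NA6
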