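import Mathlib
import Groth.Agent.Lib.Helper22NA6

universe u
open CategoryTheory Limits AlgebraicGeometry Opposite

namespace Groth.Agent.Lib.Helper22.NA7

open Groth.Agent.Lib.Helper22

section descend

variable {𝒦 : Type u} [SmallCategory 𝒦] [IsCofiltered 𝒦] (E : 𝒦 ⥤ Scheme.{u}) (cE : Cone E)
  (hE : IsLimit cE) [∀ {x y : 𝒦} (a : x ⟶ y), IsAffineHom (E.map a)]
  [∀ x, CompactSpace (E.obj x)] [∀ x, QuasiSeparatedSpace (E.obj x)]
  {n : ℕ} (s : Fin n → Γ(cE.pt, ⊤))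

/-- a family of sections at stage `y` lifting `s` -/
def Lifts (y : 𝒦) (f : Fin n → Γ(E.obj y, ⊤)) : Prop :=
  ∀ k, (cE.π.app y).appTop (f k) = s k

/-- pull back a family of sections -/
noncomputable def pb {y y' : 𝒦} (a : y' ⟶ y) (f : Fin n → Γ(E.obj y, ⊤)) :
    Fin n → Γ(E.obj y', ⊤) := fun k => (E.map a).appTop (f k)

variable {E cE s}

omit [IsCofiltered 𝒦] [∀ {x y : 𝒦} (a : x ⟶ y), IsAffineHom (E.map a)]
  [∀ x, CompactSpace (E.obj x)] [∀ x, QuasiSeparatedSpace (E.obj x)] in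
theorem Lifts.pb {y y' : 𝒦} (a : y' ⟶ y) {f : Fin n → Γ(E.obj y, ⊤)} (hf : Lifts E cE s y f) :
    Lifts E cE s y' (pb E a f) := by
  intro k
  have h := congr($(cE.w a).appTop (f k))
  rw [Scheme.Hom.comp_appTop] at h
  exact h.trans (hf k)

omit [IsCofiltered 𝒦] [∀ {x y : 𝒦} (a : x ⟶ y), IsAffineHom (E.map a)]
  [∀ x, CompactSpace (E.obj x)] [∀ x, QuasiSeparatedSpace (E.obj x)] in
theorem pb_pb {y y' y'' : 𝒦} (a : y' ⟶ y) (b : y'' ⟶ y') (f : Fin n → Γ(E.obj y, ⊤)) :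
    pb E b (pb E a f) = pb E (b ≫ a) f := by
  funext k
  have h := congr($(E.map_comp b a).appTop (f k))
  rw [Scheme.Hom.comp_appTop] at h
  exact h.symm

omit [IsCofiltered 𝒦] [∀ {x y : 𝒦} (a : x ⟶ y), IsAffineHom (E.map a)]
  [∀ x, CompactSpace (E.obj x)] [∀ x, QuasiSeparatedSpace (E.obj x)] in
theorem basicOpen_pb {y y' : 𝒦} (a : y' ⟶ y) (f : Fin n → Γ(E.obj y, ⊤)) (k : Fin n) :
    (E.obj y').basicOpen (pb E a f k) = E.map a ⁻¹ᵁ (E.obj y).basicOpen (f k) :=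
  (Scheme.preimage_basicOpen_top _ _).symm

omit [IsCofiltered 𝒦] [∀ {x y : 𝒦} (a : x ⟶ y), IsAffineHom (E.map a)]
  [∀ x, CompactSpace (E.obj x)] [∀ x, QuasiSeparatedSpace (E.obj x)] in
theorem Lifts.basicOpen {y : 𝒦} {f : Fin n → Γ(E.obj y, ⊤)} (hf : Lifts E cE s y f) (k : Fin n) :
    cE.π.app y ⁻¹ᵁ (E.obj y).basicOpen (f k) = cE.pt.basicOpen (s k) := by
  rw [Scheme.preimage_basicOpen_top, hf k]
  rfl

include hE in
theorem exists_lifts : ∃ (y : 𝒦) (f : Fin n → Γ(E.obj y, ⊤)), Lifts E cE s y f := by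
  classical
  have h := fun k => exists_appTop_π_eq_of_isLimit E cE hE (s k)
  choose y t ht using h
  obtain ⟨y', hy'⟩ := IsCofiltered.inf_objs_exists (Finset.univ.image y)
  have a : ∀ k, y' ⟶ y k := fun k => (hy' (Finset.mem_image_of_mem y (Finset.mem_univ k))).some
  refine ⟨y', fun k => (E.map (a k)).appTop (t k), fun k => ?_⟩
  have h := congr($(cE.w (a k)).appTop (t k))
  rw [Scheme.Hom.comp_appTop] at h
  exact h.trans (ht k).symm

include hE in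
theorem exists_cover {y : 𝒦} {f : Fin n → Γ(E.obj y, ⊤)} (hf : Lifts E cE s y f)
    (hcov : ⨆ k, cE.pt.basicOpen (s k) = ⊤) :
    ∃ (y' : 𝒦) (a : y' ⟶ y), ⨆ k, (E.obj y').basicOpen (pb E a f k) = ⊤ := by
  obtain ⟨y', a, ha⟩ := exists_map_eq_top E cE hE (⨆ k, (E.obj y).basicOpen (f k)) (by
    rw [Scheme.Hom.preimage_iSup]
    simp only [hf.basicOpen, hcov])
  refine ⟨y', a, ?_⟩
  simp only [basicOpen_pb, ← Scheme.Hom.preimage_iSup, ha]

include hE in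
theorem exists_affine {y : 𝒦} {f : Fin n → Γ(E.obj y, ⊤)} (hf : Lifts E cE s y f) (k : Fin n)
    (haff : IsAffineOpen (cE.pt.basicOpen (s k))) :
    ∃ (y' : 𝒦) (a : y' ⟶ y), IsAffineOpen ((E.obj y').basicOpen (pb E a f k)) := by
  obtain ⟨z, V, hV, hVs⟩ := exists_isAffineOpen_preimage_eq E cE hE _ haff
  let w := IsCofiltered.min y z
  let p : w ⟶ y := IsCofiltered.minToLeft y z
  let q : w ⟶ z := IsCofiltered.minToRight y z
  have hA : IsCompact ((E.map p ⁻¹ᵁ (E.obj y).basicOpen (f k) : (E.obj w).Opens) : Set (E.obj w)) := by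
    rw [← basicOpen_pb]
    exact isCompact_basicOpen _ isCompact_univ _
  have hB : IsCompact ((E.map q ⁻¹ᵁ V : (E.obj w).Opens) : Set (E.obj w)) :=
    (hV.preimage (E.map q)).isCompact
  have H : cE.π.app w ⁻¹ᵁ (E.map p ⁻¹ᵁ (E.obj y).basicOpen (f k)) =
      cE.π.app w ⁻¹ᵁ (E.map q ⁻¹ᵁ V) := by
    rw [← Scheme.Hom.comp_preimage, ← Scheme.Hom.comp_preimage, cE.w, cE.w, hf.basicOpen, hVs]
  obtain ⟨w', r, hr⟩ := exists_map_preimage_eq_map_preimage E cE hE hA hB H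
  refine ⟨w', r ≫ p, ?_⟩
  rw [basicOpen_pb, E.map_comp, Scheme.Hom.comp_preimage, hr]
  exact (hV.preimage (E.map q)).preimage (E.map r)

include hE in
theorem exists_affine_finset {y : 𝒦} {f : Fin n → Γ(E.obj y, ⊤)} (hf : Lifts E cE s y f)
    (haff : ∀ k, IsAffineOpen (cE.pt.basicOpen (s k))) (K : Finset (Fin n)) :
    ∃ (y' : 𝒦) (a : y' ⟶ y), ∀ k ∈ K, IsAffineOpen ((E.obj y').basicOpen (pb E a f k)) := by
  classical
  induction K using Finset.induction_on with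
  | empty => exact ⟨y, 𝟙 y, by simp⟩
  | insert k K hk ih =>
    obtain ⟨y', a, ha⟩ := ih
    obtain ⟨y'', b, hb⟩ := exists_affine hE (hf.pb a) k (haff k)
    refine ⟨y'', b ≫ a, fun k' hk' => ?_⟩
    rw [← pb_pb]
    rcases Finset.mem_insert.mp hk' with rfl | hk'
    · exact hb
    · rw [basicOpen_pb]
      exact (ha k' hk').preimage (E.map b)

include hE in
/-- The main descent lemma: a finite cover of the limit by affine basic opens descends to a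
stage, together with the sections. -/
theorem exists_descend (hcov : ⨆ k, cE.pt.basicOpen (s k) = ⊤)
    (haff : ∀ k, IsAffineOpen (cE.pt.basicOpen (s k))) :
    ∃ (y : 𝒦) (f : Fin n → Γ(E.obj y, ⊤)), Lifts E cE s y f ∧
      ⨆ k, (E.obj y).basicOpen (f k) = ⊤ ∧ ∀ k, IsAffineOpen ((E.obj y).basicOpen (f k)) := by
  obtain ⟨y₀, f₀, h₀⟩ := exists_lifts hE (s := s)
  obtain ⟨y₁, a₁, h₁⟩ := exists_cover hE h₀ hcov
  obtain ⟨y₂, a₂, h₂⟩ := exists_affine_finset hE (h₀.pb a₁) haff Finset.univ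
  refine ⟨y₂, pb E a₂ (pb E a₁ f₀), (h₀.pb a₁).pb a₂, ?_, fun k => h₂ k (Finset.mem_univ k)⟩
  simp only [basicOpen_pb a₂, ← Scheme.Hom.preimage_iSup, h₁]
  rfl

end descend

section opens

variable {𝒞 : Type u} [SmallCategory 𝒞] [IsCofiltered 𝒞] (D : 𝒞 ⥤ Scheme.{u}) (c : Cone D)
  (hc : IsLimit c) [∀ {x y : 𝒞} (a : x ⟶ y), IsAffineHom (D.map a)]
  [∀ x, QuasiSeparatedSpace (D.obj x)]

include hc in
theorem exists_descend_opens (x₀ : 𝒞) (T₀ : (D.obj x₀).Opens)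
    (hT₀ : IsCompact (T₀ : Set (D.obj x₀))) (Q : c.pt.Opens) (hQ : c.π.app x₀ ⁻¹ᵁ T₀ = Q)
    {n : ℕ} (s : Fin n → Γ(Q.toScheme, ⊤))
    (hcov : ⨆ k, Q.toScheme.basicOpen (s k) = ⊤)
    (haff : ∀ k, IsAffineOpen (Q.toScheme.basicOpen (s k))) :
    ∃ (y : Over x₀) (f : Fin n → Γ((D.map y.hom ⁻¹ᵁ T₀).toScheme, ⊤)),
      (∀ k, ((c.π.app y.left).resLE (D.map y.hom ⁻¹ᵁ T₀) Q
        (by rw [← hQ, ← Scheme.Hom.comp_preimage, c.w])).appTop (f k) = s k) ∧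
      (⨆ k, (D.map y.hom ⁻¹ᵁ T₀).toScheme.basicOpen (f k) = ⊤) ∧
      ∀ k, IsAffineOpen ((D.map y.hom ⁻¹ᵁ T₀).toScheme.basicOpen (f k)) := by
  subst hQ
  have (y : Over x₀) : CompactSpace ((opensDiagram D x₀ T₀).obj y) :=
    isCompact_iff_compactSpace.mp (QuasiCompact.isCompact_preimage _ T₀.2 hT₀)
  have (y : Over x₀) : QuasiSeparatedSpace ((opensDiagram D x₀ T₀).obj y) :=
    (isQuasiSeparated_iff_quasiSeparatedSpace _ (D.map _ ⁻¹ᵁ _).2).mp (.of_quasiSeparatedSpace _)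
  obtain ⟨y, f, hf, h1, h2⟩ := exists_descend (E := opensDiagram D x₀ T₀)
    (cE := opensCone D c x₀ T₀) (isLimitOpensCone D c hc x₀ T₀) (s := s) hcov haff
  exact ⟨y, f, hf, h1, h2⟩

end opens

section stepA

theorem exists_basicOpen_cover {S : Scheme.{u}} {W : S.Opens} (hW : IsAffineOpen W) (V : S.Opens)
    (hV : IsCompact (V : Set S)) (hVW : V ≤ W) :
    ∃ (n : ℕ) (g : Fin n → Γ(S, W)), V = ⨆ k, S.basicOpen (g k) := by
  classical
  have h1 : ∀ x : V, ∃ f : Γ(S, W), S.basicOpen f ≤ V ∧ (x : S) ∈ S.basicOpen f :=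
    fun x => hW.exists_basicOpen_le x (hVW x.2)
  choose f hf1 hf2 using h1
  obtain ⟨t, ht⟩ := hV.elim_finite_subcover (fun x : V => (S.basicOpen (f x) : Set S))
    (fun x => (S.basicOpen (f x)).isOpen) (fun x hx => Set.mem_iUnion.mpr ⟨⟨x, hx⟩, hf2 _⟩)
  refine ⟨t.card, fun k => f (t.equivFin.symm k).1, le_antisymm ?_ ?_⟩
  · intro x hx
    obtain ⟨y, hy, hxy⟩ := Set.mem_iUnion₂.mp (ht hx)
    exact TopologicalSpace.Opens.mem_iSup.mpr ⟨t.equivFin ⟨y, hy⟩, by simpa using hxy⟩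
  · exact iSup_le fun k => hf1 _


theorem nonempty_stepData {I : Type u} [Preorder I] (D : Iᵒᵖ ⥤ Scheme.{u}) (hD : NA5.GoodSys D)
    (c : Cone D) (hc : IsLimit c) {S : Scheme.{u}} [QuasiSeparatedSpace S] (j : c.pt ⟶ S)
    [IsOpenImmersion j] {W : S.Opens} (hW : IsAffineOpen W) :
    Nonempty (NA6.StepData D c j W) := by
  have := hD.dir
  have := hD.ne
  have : ∀ {x y : Iᵒᵖ} (a : x ⟶ y), IsAffineHom (D.map a) := hD.aff
  have := hD.cpt
  have : ∀ x, QuasiSeparatedSpace (D.obj x) := fun x => by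
    have := hD.lft x
    exact NA4.quasiSeparatedSpace_of_lft _
  have : CompactSpace c.pt := Scheme.compactSpace_of_isLimit D c hc
  have hVc : IsCompact ((W ⊓ j.opensRange : S.Opens) : Set S) :=
    QuasiSeparatedSpace.inter_isCompact _ _ W.2 hW.isCompact j.opensRange.2
      (isCompact_range j.continuous)
  obtain ⟨n, g, hg⟩ := exists_basicOpen_cover hW (W ⊓ j.opensRange) hVc inf_le_left
  have hgle : ∀ k, S.basicOpen (g k) ≤ j.opensRange := fun k =>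
    (le_iSup (fun k => S.basicOpen (g k)) k).trans (hg.symm.le.trans inf_le_right)
  have hQc : IsCompact ((j ⁻¹ᵁ W : c.pt.Opens) : Set c.pt) := by
    have h1 : ((j ⁻¹ᵁ W : c.pt.Opens) : Set c.pt) =
        j ⁻¹' ((W ⊓ j.opensRange : S.Opens) : Set S) := by
      ext x
      simp only [TopologicalSpace.Opens.map_coe, Set.mem_preimage, SetLike.mem_coe,
        TopologicalSpace.Opens.coe_inf, Set.mem_inter_iff, iff_self_and]
      intro _
      exact ⟨x, rfl⟩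
    rw [h1, j.isOpenEmbedding.isInducing.isCompact_preimage_iff]
    · exact hVc
    · intro x hx
      exact hx.2
  obtain ⟨x₀, T₀, hT₀c, hT₀⟩ := exists_preimage_eq D c hc (j ⁻¹ᵁ W) hQc
  let s : Fin n → Γ((j ⁻¹ᵁ W).toScheme, ⊤) := fun k => NA6.σW j W (g k)
  have hbo : ∀ k, (j ⁻¹ᵁ W).toScheme.basicOpen (s k) = NA6.κW j W ⁻¹ᵁ NA2.bO (g k) := fun k =>
    (NA2.preimage_basicOpen (NA6.σW j W) (g k)).symm
  have hκ := NA6.isOpenImmersion_κW j hW
  have haff : ∀ k, IsAffineOpen ((j ⁻¹ᵁ W).toScheme.basicOpen (s k)) := by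
    intro k
    rw [hbo]
    have h1 : IsAffineOpen (NA2.bO (g k) : (Spec Γ(S, W)).Opens) := by
      have := (isAffineOpen_top (Spec Γ(S, W))).basicOpen ((Scheme.ΓSpecIso Γ(S, W)).inv (g k))
      rwa [basicOpen_eq_of_affine] at this
    refine h1.preimage_of_isOpenImmersion _ ?_
    intro p hp
    exact NA6.basicOpen_le_opensRange_κW j hW (g k) (hgle k) p hp
  have hcov : ⨆ k, (j ⁻¹ᵁ W).toScheme.basicOpen (s k) = ⊤ := by
    rw [eq_top_iff]
    intro u _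
    have hu : j ((j ⁻¹ᵁ W).ι u) ∈ (W ⊓ j.opensRange : S.Opens) := ⟨u.2, ⟨_, rfl⟩⟩
    rw [hg] at hu
    obtain ⟨k, hk⟩ := TopologicalSpace.Opens.mem_iSup.mp hu
    refine TopologicalSpace.Opens.mem_iSup.mpr ⟨k, ?_⟩
    rw [hbo]
    change NA6.κW j W u ∈ NA2.bO (g k)
    have h4 : (NA2.bO (g k) : (Spec Γ(S, W)).Opens) = hW.fromSpec ⁻¹ᵁ S.basicOpen (g k) :=
      (hW.fromSpec_preimage_basicOpen (g k)).symm
    rw [h4]
    change hW.fromSpec (NA6.κW j W u) ∈ S.basicOpen (g k)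
    have h3 := congr($(NA6.κW_fromSpec j hW) u)
    rw [Scheme.Hom.comp_apply] at h3
    rw [h3]
    exact hk
  obtain ⟨y, f, hf, h1, h2⟩ :=
    exists_descend_opens D c hc x₀ T₀ hT₀c (j ⁻¹ᵁ W) hT₀ s hcov haff
  exact ⟨{
    i₅ := y.left.unop
    T₅ := D.map y.hom ⁻¹ᵁ T₀
    hT₅ := by rw [← hT₀, ← Scheme.Hom.comp_preimage, c.w]
    n := n
    g := g
    f₅ := f
    hfg := hf
    hcov := h1
    haff := h2
    hg := hgle }⟩

end stepA

end Groth.Agent.Lib.Helper22.NA7
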