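import Mathlib
import Groth.Agent.Lib.Helper22NA7

universe u
open CategoryTheory Limits AlgebraicGeometry Opposite

namespace Groth.Agent.Lib.Helper22.NA8

open Groth.Agent.Lib.Helper22

theorem approx_step {I : Type u} [Preorder I] (D : Iᵒᵖ ⥤ Scheme.{u}) (hD : NA5.GoodSys D)
    (c : Cone D) (hc : IsLimit c) {S : Scheme.{u}} [QuasiSeparatedSpace S] (j : c.pt ⟶ S)
    [IsOpenImmersion j] {W : S.Opens} (hW : IsAffineOpen W) (hcov : j.opensRange ⊔ W = ⊤) :
    NA5.Approx D c j := by
  obtain ⟨sd⟩ := NA7.nonempty_stepData D hD c hc j hW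
  exact sd.approx hD hc hW hcov

theorem approx_of_cover (n : ℕ) : ∀ {I : Type u} [Preorder I] (D : Iᵒᵖ ⥤ Scheme.{u})
    (_ : NA5.GoodSys D)
    (c : Cone D) (_ : IsLimit c) {S : Scheme.{u}} [QuasiSeparatedSpace S] (j : c.pt ⟶ S)
    [IsOpenImmersion j] (W : Fin n → S.Opens) (_ : ∀ k, IsAffineOpen (W k))
    (_ : j.opensRange ⊔ ⨆ k, W k = ⊤), NA5.Approx D c j := by
  induction n with
  | zero =>
    intro I _ D hD c hc S _ j _ W hW hcov
    have h1 : (⨆ k, W k) = ⊥ := by
      rw [iSup_eq_bot]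
      intro k; exact k.elim0
    rw [h1, sup_bot_eq] at hcov
    have : IsIso j := by
      have : Epi j.base := by
        rw [TopCat.epi_iff_surjective]
        intro x
        have : x ∈ j.opensRange := by rw [hcov]; trivial
        exact this
      exact (isIso_iff_isOpenImmersion_and_epi_base j).mpr ⟨inferInstance, inferInstance⟩
    exact NA5.approx_of_isIso hD hc j
  | succ n ih =>
    intro I _ D hD c hc S _ j _ W hW hcov
    let S₁ : S.Opens := j.opensRange ⊔ ⨆ k : Fin n, W (Fin.castSucc k)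
    have hle : j.opensRange ≤ S₁ := le_sup_left
    have hj : Set.range j.base ⊆ Set.range S₁.ι.base := by
      rw [Scheme.Opens.range_ι]
      exact hle
    let j₁ : c.pt ⟶ S₁.toScheme := IsOpenImmersion.lift S₁.ι j hj
    have hj₁ : j₁ ≫ S₁.ι = j := IsOpenImmersion.lift_fac _ _ _
    have : IsOpenImmersion j₁ := by
      have : IsOpenImmersion (j₁ ≫ S₁.ι) := by rw [hj₁]; infer_instance
      exact IsOpenImmersion.of_comp j₁ S₁.ι
    have : QuasiSeparatedSpace S₁.toScheme :=
      (isQuasiSeparated_iff_quasiSeparatedSpace _ S₁.2).mp (.of_quasiSeparatedSpace _)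
    have h1 : NA5.Approx D c j₁ := by
      refine ih D hD c hc j₁ (fun k => S₁.ι ⁻¹ᵁ W (Fin.castSucc k))
        (fun k => (hW (Fin.castSucc k)).preimage_of_isOpenImmersion S₁.ι ?_) ?_
      · rw [Scheme.Opens.opensRange_ι]
        exact le_trans (le_iSup (fun k : Fin n => W (Fin.castSucc k)) k) le_sup_right
      · rw [eq_top_iff]
        rintro x -
        have hx : S₁.ι x ∈ S₁ := x.2
        rcases (TopologicalSpace.Opens.mem_sup.mp hx) with h | h
        · obtain ⟨y, hy⟩ := h
          refine TopologicalSpace.Opens.mem_sup.mpr (Or.inl ⟨y, ?_⟩)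
          apply S₁.ι.injective
          rw [← hy, ← hj₁]
          rfl
        · obtain ⟨k, hk⟩ := TopologicalSpace.Opens.mem_iSup.mp h
          exact TopologicalSpace.Opens.mem_sup.mpr
            (Or.inr (TopologicalSpace.Opens.mem_iSup.mpr ⟨k, hk⟩))
    rw [← hj₁]
    refine NA5.approx_trans j₁ S₁.ι h1 (fun J pJ DS cS hcS eS hgood => ?_)
    refine approx_step DS hgood cS hcS (eS.hom ≫ S₁.ι) (hW (Fin.last n)) ?_
    have h2 : (eS.hom ≫ S₁.ι).opensRange = S₁ := by
      rw [Scheme.Hom.opensRange_comp_of_isIso, Scheme.Opens.opensRange_ι]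
    rw [h2, eq_top_iff]
    rintro x -
    have hx : x ∈ j.opensRange ⊔ ⨆ k, W k := by rw [hcov]; trivial
    rcases (TopologicalSpace.Opens.mem_sup.mp hx) with h | h
    · exact TopologicalSpace.Opens.mem_sup.mpr (Or.inl (hle h))
    · obtain ⟨k, hk⟩ := TopologicalSpace.Opens.mem_iSup.mp h
      induction k using Fin.lastCases with
      | last => exact TopologicalSpace.Opens.mem_sup.mpr (Or.inr hk)
      | cast k =>
        refine TopologicalSpace.Opens.mem_sup.mpr (Or.inl ?_)
        exact TopologicalSpace.Opens.mem_sup.mpr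
            (Or.inr (TopologicalSpace.Opens.mem_iSup.mpr ⟨k, hk⟩))


end Groth.Agent.Lib.Helper22.NA8
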