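import Mathlib
import Groth.Agent.Lib.Helper22NA8

universe u
open CategoryTheory Limits AlgebraicGeometry Opposite

namespace Groth.Agent.Lib.Helper22.NA9

open Groth.Agent.Lib.Helper22

theorem exists_fin_affine_cover {S : Scheme.{u}} (U : S.Opens) (hU : IsCompact (U : Set S)) :
    ∃ (n : ℕ) (W : Fin n → S.Opens), (∀ k, IsAffineOpen (W k)) ∧ ⨆ k, W k = U := by
  obtain ⟨s, hs, e⟩ := isCompact_iff_finite_and_eq_biUnion_affineOpens.mp hU
  have := hs.to_subtype
  obtain ⟨n, ⟨eq⟩⟩ := Finite.exists_equiv_fin s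
  refine ⟨n, fun k => ((eq.symm k).1 : S.Opens), fun k => (eq.symm k).1.2, ?_⟩
  rw [e]
  apply le_antisymm
  · refine iSup_le fun k => ?_
    exact le_iSup₂_of_le (eq.symm k).1 (eq.symm k).2 le_rfl
  · refine iSup₂_le fun i hi => ?_
    refine le_iSup_of_le (eq ⟨i, hi⟩) ?_
    simp

/-- absolute Noetherian approximation, relative to an approximated quasi-compact open. -/
theorem approx_of_qcqs {I : Type u} [Preorder I] (D : Iᵒᵖ ⥤ Scheme.{u}) (hD : NA5.GoodSys D)
    (c : Cone D) (hc : IsLimit c) {S : Scheme.{u}} [CompactSpace S] [QuasiSeparatedSpace S]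
    (j : c.pt ⟶ S) [IsOpenImmersion j] : NA5.Approx D c j := by
  obtain ⟨n, W, hW, hcov⟩ := exists_fin_affine_cover (⊤ : S.Opens) isCompact_univ
  refine NA8.approx_of_cover n D hD c hc j W hW ?_
  rw [hcov, sup_top_eq]

/-- the constant empty system -/
noncomputable def emptyD : (PUnit.{u+1})ᵒᵖ ⥤ Scheme.{u} := (Functor.const _).obj ∅

noncomputable def emptyC : Cone emptyD.{u} where
  pt := ∅
  π := 𝟙 _

noncomputable def emptyIsLimit : IsLimit emptyC.{u} where
  lift s := s.π.app (op PUnit.unit)
  fac s x := by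
    obtain ⟨⟨⟩⟩ := x
    exact Category.comp_id (s.π.app (op PUnit.unit))
  uniq s m h := by
    have := h (op PUnit.unit)
    exact (Category.comp_id m).symm.trans this

theorem goodSys_emptyD : NA5.GoodSys emptyD.{u} where
  dir := inferInstance
  ne := inferInstance
  aff a := by
    change IsAffineHom (𝟙 _)
    infer_instance
  cpt x := by
    change CompactSpace (∅ : Scheme.{u})
    infer_instance
  lft x := by
    change LocallyOfFiniteType (specULiftZIsTerminal.from (∅ : Scheme.{u}))
    infer_instance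

end Groth.Agent.Lib.Helper22.NA9
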