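import Mathlib
import Groth.Agent.Lib.Helper26LimDescend

set_option autoImplicit false
universe u
open CategoryTheory Limits AlgebraicGeometry

namespace Groth.Agent.Lib.Helper26.LimDescend

open Groth.Agent.Lib.Helper22.LimBC Polynomial

section AffineSystems

variable {J : Type u} [SmallCategory J] [IsCofiltered J]
  (DU DV : J ⥤ Scheme.{u}) (τ : DU ⟶ DV)
  [∀ j, IsAffine (DU.obj j)] [∀ j, IsAffine (DV.obj j)]
  (hcart : ∀ {j k : J} (a : j ⟶ k), IsPullback (DU.map a) (τ.app j) (τ.app k) (DV.map a))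

/-- Finitely many global sections of the limit come from a common stage. -/
theorem exists_stage_of_finset (cV : Cone DV) (hcV : IsLimit cV)
    (s : Finset Γ(cV.pt, ⊤)) : ∃ i, ∀ x ∈ s, x ∈ Set.range (r (cV.π.app i)) := by
  classical
  have h : ∀ x : Γ(cV.pt, ⊤), ∃ (i : J) (t : Γ(DV.obj i, ⊤)), r (cV.π.app i) t = x :=
    fun x => exists_appTop_π_eq_of_isAffine_of_isLimit DV cV hcV x
  choose ix tx hx using h
  obtain ⟨i, hi⟩ := IsCofiltered.inf_objs_exists (s.image ix)
  refine ⟨i, fun x hxs => ?_⟩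
  obtain ⟨u⟩ := hi (Finset.mem_image_of_mem ix hxs)
  refine ⟨r (DV.map u) (tx x), ?_⟩
  rw [← r_comp_apply, cV.w, hx]

include hcart in
set_option backward.isDefEq.respectTransparency.types false in
/-- Finite morphisms descend along cartesian systems of affine schemes. -/
theorem exists_isFinite (cU : Cone DU) (cV : Cone DV) (hcU : IsLimit cU)
    (hcV : IsLimit cV) (F : cU.pt ⟶ cV.pt)
    (hF : ∀ j, F ≫ cV.π.app j = cU.π.app j ≫ τ.app j) [IsFinite F]
    (j₁ : J) [LocallyOfFiniteType (τ.app j₁)] :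
    ∃ j : Over j₁, IsFinite (τ.app j.left) := by
  have : IsAffine cU.pt := Scheme.isAffine_of_isLimit _ hcU
  have : IsAffine cV.pt := Scheme.isAffine_of_isLimit _ hcV
  have hFfin : (r F).Finite := Scheme.Hom.finite_appTop F
  have hFint : (r F).IsIntegral := hFfin.to_isIntegral
  obtain ⟨j, G, hQ, hG⟩ := exists_generators DU DV τ hcart j₁
    (fun j x => (r (τ.app j.left)).IsIntegralElem x)
    (by
      intro j k u x hx
      have h1 := hx.map (r (DU.map u.left))
      have h2 : (r (DU.map u.left)).comp (r (τ.app j.left)) =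
          (r (τ.app k.left)).comp (r (DV.map u.left)) := by
        rw [← r_comp, ← r_comp, τ.naturality]
      rw [h2] at h1
      exact h1.of_comp)
    (by
      intro β
      obtain ⟨p, hp, hp0⟩ := hFint (r (cU.π.app j₁) β)
      obtain ⟨i, hi⟩ := exists_stage_of_finset DV cV hcV p.coeffs
      have hlifts : p ∈ lifts (r (cV.π.app i)) := by
        rw [lifts_iff_coeffs_subset_range]
        exact fun x hx => hi x hx
      obtain ⟨q, hq, -, hqm⟩ := lifts_and_natDegree_eq_and_monic hlifts hp
      let j₂ := IsCofiltered.min j₁ i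
      let a : j₂ ⟶ j₁ := IsCofiltered.minToLeft j₁ i
      let b : j₂ ⟶ i := IsCofiltered.minToRight j₁ i
      have hx : r (cU.π.app j₂) (eval₂ (r (τ.app j₂)) (r (DU.map a) β)
          (q.map (r (DV.map b)))) = 0 := by
        rw [hom_eval₂, ← r_comp_apply, cU.w, eval₂_map, ← r_comp, ← r_comp, ← hF, Category.assoc,
          cV.w, r_comp, ← eval₂_map, hq]
        exact hp0
      obtain ⟨j₃, e, he⟩ := exists_appTop_map_eq_zero_of_isAffine_of_isLimit DU cU hcU j₂ _ hx
      refine ⟨Over.mk (e ≫ a), (q.map (r (DV.map b))).map (r (DV.map e)),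
        (hqm.map _).map _, ?_⟩
      change r (DU.map e) _ = 0 at he
      rw [hom_eval₂, ← r_comp_apply, ← DU.map_comp, eval₂_map, ← r_comp, τ.naturality, r_comp]
        at he
      show eval₂ (r (τ.app j₃)) (r (DU.map (e ≫ a)) β)
        ((q.map (r (DV.map b))).map (r (DV.map e))) = 0
      rw [eval₂_map, eval₂_map]
      exact he)
  refine ⟨j, ?_⟩
  rw [HasAffineProperty.iff_of_isAffine (P := @IsFinite)]
  refine ⟨inferInstance, ?_⟩
  change (r (τ.app j.left)).Finite
  have hlft : LocallyOfFiniteType (τ.app j.left) :=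
    MorphismProperty.of_isPullback (P := @LocallyOfFiniteType) (hcart j.hom) inferInstance
  have hft : (r (τ.app j.left)).FiniteType :=
    (HasRingHomProperty.iff_of_isAffine (P := @LocallyOfFiniteType)).mp hlft
  refine RingHom.IsIntegral.to_finite ?_ hft
  intro x
  have hx : x ∈ Subring.closure
      (Set.range (r (τ.app j.left)) ∪ (G : Set Γ(DU.obj j.left, ⊤))) := hG ▸ Subring.mem_top x
  induction hx using Subring.closure_induction with
  | mem y hy =>
    rcases hy with ⟨z, rfl⟩ | hy
    · exact RingHom.isIntegralElem_map _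
    · exact hQ y hy
  | zero => exact RingHom.isIntegralElem_zero _
  | one => exact RingHom.isIntegralElem_one _
  | add y z _ _ hy hz => exact RingHom.IsIntegralElem.add _ hy hz
  | neg y _ hy => exact RingHom.IsIntegralElem.neg _ hy
  | mul y z _ _ hy hz => exact RingHom.IsIntegralElem.mul _ hy hz

end AffineSystems

section General

variable {I : Type u} [SmallCategory I] [IsCofiltered I] {D : I ⥤ Scheme.{u}} {c : Cone D}
  [∀ {i j : I} (f : i ⟶ j), IsAffineHom (D.map f)]

/-- The affine case for finite morphisms. -/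
theorem affCase_isFinite (hc : IsLimit c) : AffCase D c @IsFinite := by
  intro i₀ X₀ Y₀ _ _ f₀ g₀ _ X Y f g qY qX hY hX hf
  have hf' : IsFinite
      (show (bcCone i₀ (hX.paste_vert hY)).pt ⟶ (bcCone i₀ hY).pt from f) := hf
  have h1 : ∀ j, IsAffine ((bcDiagram D i₀ (f₀ ≫ g₀)).obj j) := fun j => by
    show IsAffine (pullback (f₀ ≫ g₀) (D.map j.hom))
    infer_instance
  have h2 : ∀ j, IsAffine ((bcDiagram D i₀ g₀).obj j) := fun j => by
    show IsAffine (pullback g₀ (D.map j.hom))
    infer_instance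
  have hlft : LocallyOfFiniteType ((bcMorNat D i₀ f₀ g₀).app (Over.mk (𝟙 i₀))) :=
    MorphismProperty.of_isPullback (P := @LocallyOfFiniteType)
      (isPullback_bcMor D i₀ f₀ g₀ (Over.mk (𝟙 i₀))) inferInstance
  obtain ⟨j, hj⟩ := exists_isFinite (bcDiagram D i₀ (f₀ ≫ g₀)) (bcDiagram D i₀ g₀)
    (bcMorNat D i₀ f₀ g₀) (fun a => isPullback_map_bcMor D i₀ f₀ g₀ a)
    (bcCone i₀ (hX.paste_vert hY)) (bcCone i₀ hY) (isLimitBcCone i₀ _ hc) (isLimitBcCone i₀ _ hc)
    f (fun j => (bcπ_bcMor hY hX j).symm) (Over.mk (𝟙 i₀))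
  exact ⟨j.left, hj⟩

end General

end Groth.Agent.Lib.Helper26.LimDescend
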