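import Mathlib
import Groth.Agent.S0590
import Groth.Agent.S0591
import Groth.Agent.S9187
import Groth.Agent.S0021
import Groth.Agent.Lib.Helper22LimBC
import Groth.Agent.Lib.Helper22ThickAffine
import Groth.Agent.Lib.Helper22NA4

set_option autoImplicit false
set_option linter.style.haveILetI false
universe u
open CategoryTheory AlgebraicGeometry Limits Opposite TopologicalSpace

/-!
# Chevalley's theorem: finite finitely presented case (helper11)

`f : X ⟶ Y` finite, of finite presentation, surjective, `X` affine, `Y` qcqs ⟹ `Y` affine.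
Via absolute Noetherian approximation (S0590/S0591/S9187), the Noetherian case (S0021) and
"thickenings of affines are affine" (helper22).
-/

namespace Groth.Agent.Lib.Helper11.Chev

open Groth.Agent.Lib.Helper22.LimBC

/-- key step: a finite stage over a Noetherian approximation -/
theorem isAffine_of_stage {I : Type u} [SmallCategory I] [IsCofiltered I] (D : I ⥤ Scheme.{u})
    (c : Cone D) (hc : IsLimit c)
    [∀ {i j : I} (f : i ⟶ j), IsAffineHom (D.map f)] [∀ i, CompactSpace (D.obj i)]
    [∀ i, IsLocallyNoetherian (D.obj i)]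
    (i : I) {Xi X : Scheme.{u}} (fi : Xi ⟶ D.obj i) [IsFinite fi] (g : X ⟶ Xi) (f : X ⟶ c.pt)
    [Surjective f] [IsAffine X] (hP : IsPullback g f fi (c.π.app i)) : IsAffine c.pt := by
  have hfin : ∀ j : Over i, IsFinite (dSnd D i fi j) := fun j =>
    MorphismProperty.of_isPullback (P := @IsFinite) (isPullback_d D i fi j) inferInstance
  haveI : ∀ j : Over i, CompactSpace ((bcDiagram D i fi).obj j) := fun j =>
    haveI := hfin j
    QuasiCompact.compactSpace_of_compactSpace (dSnd D i fi j)
  haveI : ∀ j : Over i, QuasiSeparatedSpace ((bcDiagram D i fi).obj j) := fun j =>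
    haveI := hfin j
    quasiSeparatedSpace_of_quasiSeparated (dSnd D i fi j)
  haveI : IsAffine (bcCone i hP).pt := ‹IsAffine X›
  obtain ⟨j, hj⟩ := Scheme.exists_isAffine_of_isLimit (bcDiagram D i fi) (bcCone i hP)
    (isLimitBcCone i hP hc)
  set fj := dSnd D i fi j with hfj
  haveI : IsFinite fj := hfin j
  haveI : IsFinite (fj.toImage ≫ fj.imageι) := by rw [fj.toImage_imageι]; infer_instance
  haveI : IsFinite fj.toImage := IsFinite.of_comp fj.toImage fj.imageι
  haveI : Surjective fj.toImage := inferInstance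
  haveI : IsLocallyNoetherian fj.image := LocallyOfFiniteType.isLocallyNoetherian fj.imageι
  haveI : CompactSpace fj.image := fj.imageι.isClosedEmbedding.compactSpace
  haveI : IsNoetherian fj.image := {}
  haveI : IsAffine ((bcDiagram D i fi).obj j) := hj
  haveI : IsAffine fj.image := Groth.Agent.S0021.result fj.toImage
  -- the thickening
  haveI : IsAffineHom (c.π.app j.left) := isAffineHom_π_app D c hc j.left
  haveI : IsAffineHom (pullback.snd (c.π.app j.left) fj.imageι) :=
    MorphismProperty.pullback_snd (P := @IsAffineHom) _ _ inferInstance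
  haveI : IsAffine (pullback (c.π.app j.left) fj.imageι) :=
    isAffine_of_isAffineHom (pullback.snd (c.π.app j.left) fj.imageι)
  have hw : f ≫ c.π.app j.left = (bcπ i hP j ≫ fj.toImage) ≫ fj.imageι := by
    rw [Category.assoc, fj.toImage_imageι, hfj, bcπ_snd]
  let ℓ : X ⟶ pullback (c.π.app j.left) fj.imageι := pullback.lift f (bcπ i hP j ≫ fj.toImage) hw
  have hℓ : ℓ ≫ pullback.fst (c.π.app j.left) fj.imageι = f := pullback.lift_fst _ _ _
  have hsurj : Function.Surjective (pullback.fst (c.π.app j.left) fj.imageι) := by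
    intro y
    obtain ⟨x, rfl⟩ := f.surjective y
    exact ⟨ℓ x, by rw [← Scheme.Hom.comp_apply, hℓ]⟩
  exact Groth.Agent.Lib.Helper22.ThickAffine.isAffine_of_thickening
    (pullback.fst (c.π.app j.left) fj.imageι) hsurj

/-- Chevalley, finite finitely presented case -/
theorem isAffine_of_finite_fp {X Y : Scheme.{u}} (f : X ⟶ Y) [IsFinite f]
    [LocallyOfFinitePresentation f] [Surjective f] [IsAffine X] [CompactSpace Y]
    [QuasiSeparatedSpace Y] : IsAffine Y := by
  obtain ⟨I, instP, instD, instN, D, c, hc, haff, hft, ⟨e⟩⟩ := Groth.Agent.S0590.result Y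
  haveI : IsFiltered I := inferInstance
  haveI : IsCofiltered Iᵒᵖ := inferInstance
  haveI : ∀ {i j : Iᵒᵖ} (a : i ⟶ j), IsAffineHom (D.map a) := fun a => haff _ _ a
  haveI : ∀ (i j : Iᵒᵖ) (a : i ⟶ j), IsAffineHom (D.map a) := fun i j a => haff _ _ a
  haveI : ∀ i, CompactSpace (D.obj i) := fun i => (hft i).1
  haveI : ∀ i, IsLocallyNoetherian (D.obj i) := fun i =>
    haveI := (hft i).2
    Groth.Agent.Lib.Helper22.NA4.isLocallyNoetherian_of_lft _
  set f' := f ≫ e.inv with hf'
  obtain ⟨i, Xi, fi, g, h1, h2, h3, hP⟩ := Groth.Agent.S0591.result D c hc X f'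
  haveI := h1
  haveI := h2
  haveI := h3
  haveI : CompactSpace Xi := QuasiCompact.compactSpace_of_compactSpace fi
  haveI : QuasiSeparatedSpace Xi := quasiSeparatedSpace_of_quasiSeparated fi
  have hY : IsPullback (c.π.app i) (𝟙 c.pt) (𝟙 (D.obj i)) (c.π.app i) := IsPullback.id_vert _
  obtain ⟨i', φ, Xi', Yi', fi', gi', pY, pX, hY', hX', hfin⟩ :=
    Groth.Agent.S9187.result D c hc i fi (𝟙 _) f' (𝟙 _) (c.π.app i) g hY hP
  haveI := hfin
  haveI : IsIso gi' := hY'.isIso_snd_of_isIso
  have hsq : IsPullback pX (fi' ≫ gi') fi (D.map φ) := by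
    have := hX'.paste_vert hY'
    rwa [Category.comp_id] at this
  have hw : g ≫ fi = (f' ≫ c.π.app i') ≫ D.map φ := by
    rw [Category.assoc, c.w, hP.w]
  have hP' : IsPullback (hsq.lift g (f' ≫ c.π.app i') hw) f' (fi' ≫ gi') (c.π.app i') := by
    refine IsPullback.of_right ?_ (hsq.lift_snd _ _ _) hsq
    rw [hsq.lift_fst, c.w]
    exact hP
  haveI : IsAffine c.pt := isAffine_of_stage D c hc i' (fi' ≫ gi') _ f' hP'
  exact IsAffine.of_isIso e.inv

end Groth.Agent.Lib.Helper11.Chev
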