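import Mathlib
import Groth.Agent.Lib.Helper22NA9

universe u
open CategoryTheory Limits AlgebraicGeometry Opposite

namespace Groth.Agent.Lib.Helper22.NA10

open Groth.Agent.Lib.Helper22

section lfp

theorem lfp_of_lft (X : Scheme.{u}) [LocallyOfFiniteType (specULiftZIsTerminal.from X)] :
    LocallyOfFinitePresentation (specULiftZIsTerminal.from X) := by
  have : IsNoetherianRing (CommRingCat.of (ULift.{u} ℤ)) :=
    isNoetherianRing_of_ringEquiv ℤ ULift.ringEquiv.symm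
  exact LocallyOfFinitePresentation.iff_locallyOfFiniteType.mpr inferInstance

end lfp

/-- absolute Noetherian approximation, packaged with `GoodSys` -/
theorem exists_goodSys (X : Scheme.{u}) [CompactSpace X] [QuasiSeparatedSpace X] :
    ∃ (A : Type u) (_ : Preorder A) (DA : Aᵒᵖ ⥤ Scheme.{u}) (cA : Limits.Cone DA)
      (_ : Limits.IsLimit cA) (_ : cA.pt ≅ X), NA5.GoodSys DA := by
  have j : NA9.emptyC.{u}.pt ⟶ X := Scheme.emptyTo X
  have : IsOpenImmersion j := by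
    have : IsEmpty NA9.emptyC.{u}.pt := inferInstanceAs (IsEmpty (∅ : Scheme.{u}))
    infer_instance
  obtain ⟨J, pJ, DS, cS, hcS, eS, α, ν, hgood, -, -, -⟩ :=
    NA9.approx_of_qcqs NA9.emptyD.{u} NA9.goodSys_emptyD NA9.emptyC NA9.emptyIsLimit j
  exact ⟨J, pJ, DS, cS, hcS, eS, hgood⟩

variable {A B : Type u} [Preorder A] [Preorder B]
  (DA : Aᵒᵖ ⥤ Scheme.{u}) (DB : Bᵒᵖ ⥤ Scheme.{u})
  (cA : Cone DA) (cB : Cone DB) (F : cA.pt ⟶ cB.pt)

/-- transition maps -/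
abbrev mA {a a' : A} (h : a ≤ a') : DA.obj (op a') ⟶ DA.obj (op a) := DA.map (homOfLE h).op

theorem mA_trans {a a' a'' : A} (h : a ≤ a') (h' : a' ≤ a'') :
    mA DA h' ≫ mA DA h = mA DA (h.trans h') := by
  rw [mA, mA, ← DA.map_comp]; rfl

theorem mA_refl (a : A) : mA DA (le_refl a) = 𝟙 _ := by
  have : (homOfLE (le_refl a)).op = 𝟙 (op a) := rfl
  rw [mA, this, DA.map_id]

theorem cA_mA {a a' : A} (h : a ≤ a') : cA.π.app (op a') ≫ mA DA h = cA.π.app (op a) :=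
  cA.w (homOfLE h).op

/-- the index set: compatible maps between stages -/
structure Idx where
  a : A
  b : B
  h : DA.obj (op a) ⟶ DB.obj (op b)
  comm : cA.π.app (op a) ≫ h = F ≫ cB.π.app (op b)

variable {DA DB cA cB F}

instance : Preorder (Idx DA DB cA cB F) where
  le i i' := ∃ (ha : i.a ≤ i'.a) (hb : i.b ≤ i'.b), mA DA ha ≫ i.h = i'.h ≫ mA DB hb
  le_refl i := ⟨le_rfl, le_rfl, by rw [mA_refl, mA_refl, Category.id_comp, Category.comp_id]⟩
  le_trans i i' i'' := by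
    rintro ⟨ha, hb, h⟩ ⟨ha', hb', h'⟩
    refine ⟨ha.trans ha', hb.trans hb', ?_⟩
    rw [← mA_trans DA ha ha', ← mA_trans DB hb hb', Category.assoc, h, reassoc_of% h']

/-- restriction of an index to a later stage of `A` -/
def Idx.restrict (i : Idx DA DB cA cB F) {a' : A} (ha : i.a ≤ a') : Idx DA DB cA cB F where
  a := a'
  b := i.b
  h := mA DA ha ≫ i.h
  comm := by rw [reassoc_of% cA_mA DA cA ha, i.comm]

theorem Idx.le_restrict (i : Idx DA DB cA cB F) {a' : A} (ha : i.a ≤ a') : i ≤ i.restrict ha :=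
  ⟨ha, le_rfl, by
    change mA DA ha ≫ i.h = (mA DA ha ≫ i.h) ≫ mA DB (le_refl i.b)
    rw [mA_refl, Category.comp_id]⟩

variable (hA : NA5.GoodSys DA) (hB : NA5.GoodSys DB) (hcA : IsLimit cA)

include hA hB hcA

theorem exists_hom (b : B) : ∃ (a : A) (h : DA.obj (op a) ⟶ DB.obj (op b)),
    cA.π.app (op a) ≫ h = F ≫ cB.π.app (op b) := by
  have := hA.dir
  have := hA.ne
  have : ∀ {x y : Aᵒᵖ} (a : x ⟶ y), IsAffineHom (DA.map a) := hA.aff
  have := hA.cpt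
  have : ∀ x, QuasiSeparatedSpace (DA.obj x) := fun x => by
    have := hA.lft x
    exact NA4.quasiSeparatedSpace_of_lft _
  have := hB.lft (op b)
  have := lfp_of_lft (DB.obj (op b))
  let t : DA ⟶ (Functor.const Aᵒᵖ).obj (Spec (CommRingCat.of (ULift.{u} ℤ))) :=
    { app := fun x => specULiftZIsTerminal.from _
      naturality := fun _ _ _ => specULiftZIsTerminal.hom_ext _ _ }
  obtain ⟨x, g, hg, -⟩ := Scheme.exists_π_app_comp_eq_of_locallyOfFinitePresentation DA t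
    (specULiftZIsTerminal.from (DB.obj (op b))) cA hcA (F ≫ cB.π.app (op b)) (by
      ext x : 2
      exact specULiftZIsTerminal.hom_ext _ _)
  exact ⟨x.unop, g, hg⟩

theorem exists_eq {a : A} {b : B} (h₁ h₂ : DA.obj (op a) ⟶ DB.obj (op b))
    (heq : cA.π.app (op a) ≫ h₁ = cA.π.app (op a) ≫ h₂) :
    ∃ (a' : A) (ha : a ≤ a'), mA DA ha ≫ h₁ = mA DA ha ≫ h₂ := by
  have := hA.dir
  have := hA.ne
  have : ∀ {x y : Aᵒᵖ} (a : x ⟶ y), IsAffineHom (DA.map a) := hA.aff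
  have := hA.cpt
  have := hB.lft (op b)
  let t : DA ⟶ (Functor.const Aᵒᵖ).obj (Spec (CommRingCat.of (ULift.{u} ℤ))) :=
    { app := fun x => specULiftZIsTerminal.from _
      naturality := fun _ _ _ => specULiftZIsTerminal.hom_ext _ _ }
  obtain ⟨x, hx, hh⟩ := Scheme.exists_hom_comp_eq_comp_of_locallyOfFiniteType DA t
    (specULiftZIsTerminal.from (DB.obj (op b))) cA hcA h₁ h₂
    (specULiftZIsTerminal.hom_ext _ _) (specULiftZIsTerminal.hom_ext _ _) heq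
  exact ⟨x.unop, leOfHom hx.unop, hh⟩

theorem exists_ge_of_le_b (i j : Idx DA DB cA cB F) (hb : i.b ≤ j.b) :
    ∃ j' : Idx DA DB cA cB F, j ≤ j' ∧ i ≤ j' := by
  have := hA.dir
  obtain ⟨a, ha1, ha2⟩ := exists_ge_ge i.a j.a
  have heq : cA.π.app (op a) ≫ (mA DA ha1 ≫ i.h) = cA.π.app (op a) ≫ (mA DA ha2 ≫ j.h ≫ mA DB hb) := by
    rw [reassoc_of% cA_mA DA cA ha1, reassoc_of% cA_mA DA cA ha2, i.comm, reassoc_of% j.comm,
      cA_mA DB cB hb]
  obtain ⟨a', ha', h'⟩ := exists_eq hA hB hcA _ _ heq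
  refine ⟨j.restrict (ha2.trans ha'), j.le_restrict _, ha1.trans ha', hb, ?_⟩
  change mA DA (ha1.trans ha') ≫ i.h = (mA DA (ha2.trans ha') ≫ j.h) ≫ mA DB hb
  rw [← mA_trans DA ha1 ha', ← mA_trans DA ha2 ha', Category.assoc, h', Category.assoc,
    Category.assoc]

theorem isDirected_idx :
    IsDirected (Idx DA DB cA cB F) (fun a b => a ≤ b) := by
  refine ⟨fun i₁ i₂ => ?_⟩
  have := hB.dir
  obtain ⟨b, hb1, hb2⟩ := exists_ge_ge i₁.b i₂.b
  obtain ⟨a₀, h₀, hcomm⟩ := exists_hom (F := F) hA hB hcA b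
  let j : Idx DA DB cA cB F := ⟨a₀, b, h₀, hcomm⟩
  obtain ⟨j', hj', h1⟩ := exists_ge_of_le_b hA hB hcA i₁ j hb1
  have hb2' : i₂.b ≤ j'.b := hb2.trans hj'.2.1
  obtain ⟨j'', hj'', h2⟩ := exists_ge_of_le_b hA hB hcA i₂ j' hb2'
  exact ⟨j'', h1.trans hj'', h2⟩

theorem nonempty_idx : Nonempty (Idx DA DB cA cB F) := by
  have := hB.ne
  obtain ⟨b⟩ := ‹Nonempty B›
  obtain ⟨a₀, h₀, hcomm⟩ := exists_hom (F := F) hA hB hcA b
  exact ⟨⟨a₀, b, h₀, hcomm⟩⟩

omit hA hB hcA in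
variable (DA DB cA cB F) in
/-- projection to `A` -/
def αA : Idx DA DB cA cB F →o A := ⟨Idx.a, fun _ _ h => h.1⟩

omit hA hB hcA in
variable (DA DB cA cB F) in
/-- projection to `B` -/
def αB : Idx DA DB cA cB F →o B := ⟨Idx.b, fun _ _ h => h.2.1⟩

theorem αB_cofinal (b : B) : ∃ i : Idx DA DB cA cB F, b ≤ αB DA DB cA cB F i := by
  obtain ⟨a₀, h₀, hcomm⟩ := exists_hom (F := F) hA hB hcA b
  exact ⟨⟨a₀, b, h₀, hcomm⟩, le_rfl⟩

theorem αA_cofinal (a : A) : ∃ i : Idx DA DB cA cB F, a ≤ αA DA DB cA cB F i := by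
  obtain ⟨i₀⟩ := nonempty_idx (F := F) hA hB hcA
  have := hA.dir
  obtain ⟨a', ha1, ha2⟩ := exists_ge_ge a i₀.a
  exact ⟨i₀.restrict ha2, ha1⟩

omit hA hB hcA in
variable (DA DB cA cB F) in
/-- the natural transformation -/
def φ : (αA DA DB cA cB F).monotone.functor.op ⋙ DA ⟶
    (αB DA DB cA cB F).monotone.functor.op ⋙ DB where
  app x := x.unop.h
  naturality x y f := by
    obtain ⟨ha, hb, h⟩ := leOfHom f.unop
    exact h

end Groth.Agent.Lib.Helper22.NA10
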