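import Mathlib
import Groth.Agent.Lib.Helper22NA10

universe u
open CategoryTheory Limits AlgebraicGeometry Opposite

namespace Groth.Agent.Lib.Helper22.NA11

open Groth.Agent.Lib.Helper22 NA10

variable {A B : Type u} [Preorder A] [Preorder B]
  {DA : Aᵒᵖ ⥤ Scheme.{u}} {DB : Bᵒᵖ ⥤ Scheme.{u}}
  {cA : Cone DA} {cB : Cone DB} {F : cA.pt ⟶ cB.pt}

/-- the fibre product `X_a ×_{S_b} S` -/
noncomputable def P (i : Idx DA DB cA cB F) : Scheme.{u} := pullback i.h (cB.π.app (op i.b))

/-- projection to `X_a` -/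
noncomputable def p1 (i : Idx DA DB cA cB F) : P i ⟶ DA.obj (op i.a) := pullback.fst _ _

/-- projection to `S` -/
noncomputable def p2 (i : Idx DA DB cA cB F) : P i ⟶ cB.pt := pullback.snd _ _

theorem p_cond (i : Idx DA DB cA cB F) : p1 i ≫ i.h = p2 i ≫ cB.π.app (op i.b) :=
  pullback.condition

theorem P_ext {T : Scheme.{u}} {i : Idx DA DB cA cB F} (x y : T ⟶ P i)
    (h1 : x ≫ p1 i = y ≫ p1 i) (h2 : x ≫ p2 i = y ≫ p2 i) : x = y :=
  pullback.hom_ext h1 h2

/-- transition maps -/
noncomputable def tr {i i' : Idx DA DB cA cB F} (h : i ≤ i') : P i' ⟶ P i :=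
  pullback.lift (p1 i' ≫ mA DA h.1) (p2 i') (by
    obtain ⟨ha, hb, hh⟩ := h
    rw [Category.assoc, hh, reassoc_of% p_cond i', cA_mA DB cB hb])

@[reassoc (attr := simp)]
theorem tr_p1 {i i' : Idx DA DB cA cB F} (h : i ≤ i') : tr h ≫ p1 i = p1 i' ≫ mA DA h.1 :=
  pullback.lift_fst _ _ _

@[reassoc (attr := simp)]
theorem tr_p2 {i i' : Idx DA DB cA cB F} (h : i ≤ i') : tr h ≫ p2 i = p2 i' :=
  pullback.lift_snd _ _ _

theorem tr_refl (i : Idx DA DB cA cB F) : tr (le_refl i) = 𝟙 _ := by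
  apply P_ext
  · rw [tr_p1, mA_refl, Category.comp_id, Category.id_comp]
  · rw [tr_p2, Category.id_comp]

theorem tr_trans {i i' i'' : Idx DA DB cA cB F} (h : i ≤ i') (h' : i' ≤ i'') :
    tr h' ≫ tr h = tr (h.trans h') := by
  apply P_ext
  · rw [Category.assoc, tr_p1, tr_p1_assoc, tr_p1, mA_trans]
  · rw [Category.assoc, tr_p2, tr_p2, tr_p2]

variable (DA DB cA cB F) in
/-- the system of fibre products -/
noncomputable def DP : (Idx DA DB cA cB F)ᵒᵖ ⥤ Scheme.{u} where
  obj x := P x.unop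
  map f := tr (leOfHom f.unop)
  map_id _ := tr_refl _
  map_comp _ _ := (tr_trans _ _).symm

/-- the map from the limit -/
noncomputable def toP (i : Idx DA DB cA cB F) : cA.pt ⟶ P i :=
  pullback.lift (cA.π.app (op i.a)) F i.comm

@[reassoc (attr := simp)]
theorem toP_p1 (i : Idx DA DB cA cB F) : toP i ≫ p1 i = cA.π.app (op i.a) :=
  pullback.lift_fst _ _ _

@[reassoc (attr := simp)]
theorem toP_p2 (i : Idx DA DB cA cB F) : toP i ≫ p2 i = F :=
  pullback.lift_snd _ _ _

variable (DA DB cA cB F) in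
/-- the cone -/
noncomputable def cP : Cone (DP DA DB cA cB F) where
  pt := cA.pt
  π :=
    { app := fun x => toP x.unop
      naturality := fun x y f => by
        change 𝟙 _ ≫ toP y.unop = toP x.unop ≫ tr (leOfHom f.unop)
        rw [Category.id_comp]
        apply P_ext
        · rw [Category.assoc, tr_p1, toP_p1_assoc, toP_p1, cA_mA]
        · rw [Category.assoc, tr_p2, toP_p2, toP_p2] }

theorem cone_w_p2 (s : Cone (DP DA DB cA cB F)) {i k : Idx DA DB cA cB F} (h : i ≤ k) :
    s.π.app (op k) ≫ p2 k = s.π.app (op i) ≫ p2 i := by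
  have h1 : s.π.app (op k) ≫ (DP DA DB cA cB F).map (homOfLE h).op = s.π.app (op i) := s.w _
  rw [← h1]
  exact ((Category.assoc _ _ _).trans (congrArg (s.π.app (op k) ≫ ·) (tr_p2 h))).symm

theorem cone_w_p1 (s : Cone (DP DA DB cA cB F)) {i k : Idx DA DB cA cB F} (h : i ≤ k) :
    s.π.app (op k) ≫ p1 k ≫ mA DA h.1 = s.π.app (op i) ≫ p1 i := by
  have h1 : s.π.app (op k) ≫ (DP DA DB cA cB F).map (homOfLE h).op = s.π.app (op i) := s.w _
  rw [← h1]
  exact ((Category.assoc _ _ _).trans (congrArg (s.π.app (op k) ≫ ·) (tr_p1 h))).symm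

theorem cone_p2_eq (hdir : IsDirected (Idx DA DB cA cB F) (fun a b => a ≤ b))
    (s : Cone (DP DA DB cA cB F)) (i j : Idx DA DB cA cB F) :
    s.π.app (op i) ≫ p2 i = s.π.app (op j) ≫ p2 j := by
  obtain ⟨k, hik, hjk⟩ := exists_ge_ge i j
  exact (cone_w_p2 s hik).symm.trans (cone_w_p2 s hjk)

theorem isLimit_cP (hA : NA5.GoodSys DA) (hB : NA5.GoodSys DB) (hcA : IsLimit cA)
    (hcB : IsLimit cB) : Nonempty (IsLimit (cP DA DB cA cB F)) := by
  have hdir := isDirected_idx (F := F) hA hB hcA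
  have hne := nonempty_idx (F := F) hA hB hcA
  let hWA := NA1.isLimitWhiskerOfCofinal (αA DA DB cA cB F) (αA_cofinal hA hB hcA) DA cA hcA
  let hWB := NA1.isLimitWhiskerOfCofinal (αB DA DB cA cB F) (αB_cofinal hA hB hcA) DB cB hcB
  let sA : ∀ s : Cone (DP DA DB cA cB F), Cone ((αA DA DB cA cB F).monotone.functor.op ⋙ DA) :=
    fun s =>
    { pt := s.pt
      π :=
        { app := fun x => s.π.app x ≫ p1 x.unop
          naturality := fun x y f => by
            induction x using Opposite.rec with | _ k => ?_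
            induction y using Opposite.rec with | _ i => ?_
            have h1 := cone_w_p1 s (leOfHom f.unop)
            change 𝟙 _ ≫ s.π.app (op i) ≫ p1 i =
              (s.π.app (op k) ≫ p1 k) ≫ mA DA (leOfHom f.unop).1
            rw [Category.id_comp, ← h1]
            exact (Category.assoc _ _ _).symm } }
  have hfacA : ∀ (s : Cone (DP DA DB cA cB F)) (i : Idx DA DB cA cB F),
      hWA.lift (sA s) ≫ cA.π.app (op i.a) = s.π.app (op i) ≫ p1 i :=
    fun s i => hWA.fac (sA s) (op i)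
  refine ⟨{ lift := fun s => hWA.lift (sA s), fac := fun s x => ?_, uniq := fun s m hm => ?_ }⟩
  · induction x using Opposite.rec with | _ i => ?_
    change hWA.lift (sA s) ≫ toP i = s.π.app (op i)
    apply P_ext
    · exact (Category.assoc _ _ _).trans ((congrArg (hWA.lift (sA s) ≫ ·) (toP_p1 i)).trans
        (hfacA s i))
    · refine (Category.assoc _ _ _).trans ((congrArg (hWA.lift (sA s) ≫ ·) (toP_p2 i)).trans ?_)
      refine hWB.hom_ext fun y => ?_
      induction y using Opposite.rec with | _ j => ?_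
      change (hWA.lift (sA s) ≫ F) ≫ cB.π.app (op j.b) =
        (s.π.app (op i) ≫ p2 i) ≫ cB.π.app (op j.b)
      rw [cone_p2_eq hdir s i j, Category.assoc, ← j.comm, reassoc_of% hfacA s j]
      have := p_cond j
      exact ((Category.assoc _ _ _).trans ((congrArg (s.π.app (op j) ≫ ·) this).trans
        (Category.assoc _ _ _).symm))
  · refine hWA.uniq (sA s) m fun x => ?_
    induction x using Opposite.rec with | _ i => ?_
    change m ≫ cA.π.app (op i.a) = s.π.app (op i) ≫ p1 i
    rw [← hm (op i)]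
    exact ((Category.assoc m (toP i) (p1 i)).trans (congrArg (m ≫ ·) (toP_p1 i))).symm

section props

variable (hA : NA5.GoodSys DA) (hB : NA5.GoodSys DB)

include hA hB in
theorem props_h (i : Idx DA DB cA cB F) :
    LocallyOfFinitePresentation i.h ∧ QuasiCompact i.h ∧ QuasiSeparated i.h := by
  have := hA.lft (op i.a)
  have := hB.lft (op i.b)
  have := hA.cpt (op i.a)
  have : QuasiSeparatedSpace (DA.obj (op i.a)) := NA4.quasiSeparatedSpace_of_lft _
  have : QuasiSeparatedSpace (DB.obj (op i.b)) := NA4.quasiSeparatedSpace_of_lft _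
  have : IsLocallyNoetherian (DB.obj (op i.b)) := NA4.isLocallyNoetherian_of_lft _
  refine ⟨?_, inferInstance, inferInstance⟩
  have h1 : LocallyOfFiniteType (i.h ≫ specULiftZIsTerminal.from (DB.obj (op i.b))) := by
    have : i.h ≫ specULiftZIsTerminal.from (DB.obj (op i.b)) =
      specULiftZIsTerminal.from (DA.obj (op i.a)) := specULiftZIsTerminal.hom_ext _ _
    rw [this]; infer_instance
  have h2 : LocallyOfFiniteType i.h :=
    locallyOfFiniteType_of_comp i.h (specULiftZIsTerminal.from (DB.obj (op i.b)))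
  exact LocallyOfFinitePresentation.iff_locallyOfFiniteType.mpr h2

include hA hB in
theorem props_p2 (i : Idx DA DB cA cB F) :
    LocallyOfFinitePresentation (p2 i) ∧ QuasiCompact (p2 i) ∧ QuasiSeparated (p2 i) := by
  obtain ⟨h1, h2, h3⟩ := props_h hA hB i
  exact ⟨inferInstanceAs (LocallyOfFinitePresentation (pullback.snd _ _)),
    inferInstanceAs (QuasiCompact (pullback.snd _ _)),
    inferInstanceAs (QuasiSeparated (pullback.snd _ _))⟩

set_option backward.isDefEq.respectTransparency.types false in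
include hA hB in
theorem isAffineHom_p1 (hcB : IsLimit cB) (i : Idx DA DB cA cB F) : IsAffineHom (p1 i) := by
  have := hB.dir
  have := hB.ne
  have : ∀ {x y : Bᵒᵖ} (a : x ⟶ y), IsAffineHom (DB.map a) := hB.aff
  have : IsAffineHom (cB.π.app (op i.b)) := isAffineHom_π_app DB cB hcB (op i.b)
  exact MorphismProperty.pullback_fst (P := @IsAffineHom) _ _ this

include hA hB in
theorem isAffineHom_tr (hcB : IsLimit cB) {i i' : Idx DA DB cA cB F} (h : i ≤ i') :
    IsAffineHom (tr h) := by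
  have h1 := isAffineHom_p1 hA hB hcB i
  have h2 := isAffineHom_p1 hA hB hcB i'
  have h3 : IsAffineHom (mA DA h.1) := hA.aff _
  have : IsAffineHom (tr h ≫ p1 i) := by
    rw [tr_p1]; infer_instance
  exact IsAffineHom.of_comp (tr h) (p1 i)

end props

section overS

variable {S : Scheme.{u}} (q : cB.pt ⟶ S)

variable (DA DB cA cB F) in
/-- the system of fibre products as a system over `S` -/
noncomputable def DO : (Idx DA DB cA cB F)ᵒᵖ ⥤ Over S where
  obj x := Over.mk (p2 x.unop ≫ q)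
  map f := Over.homMk (tr (leOfHom f.unop)) (tr_p2_assoc _ _)
  map_id _ := Over.OverMorphism.ext (tr_refl _)
  map_comp f g := Over.OverMorphism.ext (tr_trans (leOfHom g.unop) (leOfHom f.unop)).symm

variable (DA DB cA cB F) in
/-- the cone over `S` -/
noncomputable def cO : Cone (DO DA DB cA cB F q) where
  pt := Over.mk (F ≫ q)
  π :=
    { app := fun x => Over.homMk (toP x.unop) (toP_p2_assoc _ _)
      naturality := fun _ _ f => Over.OverMorphism.ext ((cP DA DB cA cB F).π.naturality f) }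

theorem isLimit_cO (hA : NA5.GoodSys DA) (hB : NA5.GoodSys DB) (hcA : IsLimit cA)
    (hcB : IsLimit cB) : Nonempty (IsLimit (cO DA DB cA cB F q)) := by
  have hdir := isDirected_idx (F := F) hA hB hcA
  have hne := nonempty_idx (F := F) hA hB hcA
  obtain ⟨hP⟩ := isLimit_cP (F := F) hA hB hcA hcB
  have : IsConnected (Idx DA DB cA cB F)ᵒᵖ := IsCofiltered.isConnected _
  refine ⟨isLimitOfReflects (Over.forget S) ?_⟩
  exact hP

end overS

/-- relative approximation: `X → U → S` with `X, U` qcqs and `U → S` of finite presentation. -/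
theorem exists_over_system {X U S : Scheme.{u}} [CompactSpace X] [QuasiSeparatedSpace X]
    [CompactSpace U] [QuasiSeparatedSpace U] (g : X ⟶ U) (ι : U ⟶ S)
    [LocallyOfFinitePresentation ι] [QuasiCompact ι] [QuasiSeparated ι] :
    ∃ (I : Type u) (_ : Preorder I) (_ : IsDirected I (fun a b => a ≤ b)) (_ : Nonempty I)
      (D : Iᵒᵖ ⥤ Over S) (c : Limits.Cone D) (_ : Limits.IsLimit c),
      (∀ i, LocallyOfFinitePresentation (D.obj i).hom ∧ QuasiCompact (D.obj i).hom ∧
        QuasiSeparated (D.obj i).hom) ∧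
      (∀ (i j : Iᵒᵖ) (a : i ⟶ j), IsAffineHom (D.map a).left) ∧
      Nonempty (c.pt ≅ Over.mk (g ≫ ι)) := by
  obtain ⟨A, pA, DA, cA, hcA, eA, hA⟩ := NA10.exists_goodSys X
  obtain ⟨B, pB, DB, cB, hcB, eB, hB⟩ := NA10.exists_goodSys U
  let F : cA.pt ⟶ cB.pt := eA.hom ≫ g ≫ eB.inv
  let q : cB.pt ⟶ S := eB.hom ≫ ι
  have hdir := isDirected_idx (F := F) hA hB hcA
  have hne := nonempty_idx (F := F) hA hB hcA
  obtain ⟨hlim⟩ := isLimit_cO (F := F) q hA hB hcA hcB
  refine ⟨Idx DA DB cA cB F, inferInstance, hdir, hne, DO DA DB cA cB F q, cO DA DB cA cB F q,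
    hlim, fun x => ?_, fun x y a => ?_, ⟨Over.isoMk eA ?_⟩⟩
  · obtain ⟨h1, h2, h3⟩ := props_p2 hA hB x.unop
    change LocallyOfFinitePresentation (p2 x.unop ≫ eB.hom ≫ ι) ∧
      QuasiCompact (p2 x.unop ≫ eB.hom ≫ ι) ∧ QuasiSeparated (p2 x.unop ≫ eB.hom ≫ ι)
    exact ⟨inferInstance, inferInstance, inferInstance⟩
  · exact isAffineHom_tr hA hB hcB (leOfHom a.unop)
  · change eA.hom ≫ g ≫ ι = (eA.hom ≫ g ≫ eB.inv) ≫ eB.hom ≫ ι
    simp

end Groth.Agent.Lib.Helper22.NA11
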