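import Mathlib
import Groth.Agent.Lib.Helper22NA11

universe u
open CategoryTheory Limits AlgebraicGeometry Opposite

namespace Groth.Agent.Lib.Helper22.NA12

open Groth.Agent.Lib.Helper22

section gen

/-- `Γ(X, W)` is generated as a ring by the images of `Γ(S, V)` and `Γ(E, U)`. -/
def Gen {X S E : Scheme.{u}} (f : X ⟶ S) (π : X ⟶ E) (V : S.Opens) (U : E.Opens)
    (W : X.Opens) : Prop :=
  ∃ (h₁ : W ≤ f ⁻¹ᵁ V) (h₂ : W ≤ π ⁻¹ᵁ U), ∀ R : Subring Γ(X, W),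
    (∀ v, (f.appLE V W h₁).hom v ∈ R) → (∀ s, (π.appLE U W h₂).hom s ∈ R) → R = ⊤

variable {X S E : Scheme.{u}}

theorem Gen.of_comp {E' : Scheme.{u}} {f : X ⟶ S} {π : X ⟶ E} {V : S.Opens} {U : E.Opens}
    {W : X.Opens} (h : Gen f π V U W) (π' : X ⟶ E') (m : E' ⟶ E) (hm : π' ≫ m = π) :
    Gen f π' V (m ⁻¹ᵁ U) W := by
  subst hm
  obtain ⟨h₁, h₂, h⟩ := h
  refine ⟨h₁, h₂, fun R hR1 hR2 => h R hR1 fun s => ?_⟩
  have := Scheme.Hom.comp_appLE π' m U W h₂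
  rw [this]
  exact hR2 _

/-- if `Γ(X, j⁻¹Ω)` is generated by the images of `Γ(S,V)` and `Γ(E,U)`, both of which factor
through `Γ(Q, Ω)`, then `Γ(Q, Ω) → Γ(X, j⁻¹Ω)` is surjective. -/
theorem surjective_app_of_gen {Q : Scheme.{u}} (j : X ⟶ Q) (p₁ : Q ⟶ E) (p₂ : Q ⟶ S)
    (Ω : Q.Opens) (U : E.Opens) (V : S.Opens) (hΩ₁ : Ω ≤ p₁ ⁻¹ᵁ U) (hΩ₂ : Ω ≤ p₂ ⁻¹ᵁ V)
    (h : Gen (j ≫ p₂) (j ≫ p₁) V U (j ⁻¹ᵁ Ω)) : Function.Surjective (j.app Ω) := by
  obtain ⟨h₁, h₂, h⟩ := h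
  have key := h (RingHom.range (j.app Ω).hom) (fun v => ?_) (fun s => ?_)
  · intro z
    have : z ∈ (RingHom.range (j.app Ω).hom) := by rw [key]; trivial
    exact this
  · refine ⟨(p₂.appLE V Ω hΩ₂).hom v, ?_⟩
    have := Scheme.Hom.appLE_comp_appLE j p₂ V Ω (j ⁻¹ᵁ Ω) hΩ₂ le_rfl
    rw [Scheme.Hom.appLE_eq_app] at this
    exact congr($this v)
  · refine ⟨(p₁.appLE U Ω hΩ₁).hom s, ?_⟩
    have := Scheme.Hom.appLE_comp_appLE j p₁ U Ω (j ⁻¹ᵁ Ω) hΩ₁ le_rfl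
    rw [Scheme.Hom.appLE_eq_app] at this
    exact congr($this s)

end gen

section affine

variable {X Y Z : Scheme.{u}} (f : X ⟶ Z) (g : Y ⟶ Z)

theorem isAffineOpen_pullback_inf [IsAffine Z] {U : X.Opens} (hU : IsAffineOpen U) {V : Y.Opens}
    (hV : IsAffineOpen V) :
    IsAffineOpen (pullback.fst f g ⁻¹ᵁ U ⊓ pullback.snd f g ⁻¹ᵁ V) := by
  have : IsAffine U.toScheme := hU
  have : IsAffine V.toScheme := hV
  let p : pullback (U.ι ≫ f) (V.ι ≫ g) ⟶ pullback f g :=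
    pullback.map _ _ _ _ U.ι V.ι (𝟙 Z) (by simp) (by simp)
  have hp : p.opensRange = pullback.fst f g ⁻¹ᵁ U ⊓ pullback.snd f g ⁻¹ᵁ V := by
    apply TopologicalSpace.Opens.ext
    simp [p, Scheme.Pullback.range_map]
  rw [← hp]
  exact isAffineOpen_opensRange p

end affine

section imm

variable {X S E Z : Scheme.{u}} [IsAffine Z] (tE : E ⟶ Z) (tS : S ⟶ Z) (π : X ⟶ E) (f : X ⟶ S)
  (hcomm : π ≫ tE = f ≫ tS)

/-- the graph-like map `X → E ×_Z S` -/
noncomputable def jmap : X ⟶ pullback tE tS := pullback.lift π f hcomm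

set_option backward.isDefEq.respectTransparency.types false in
theorem isImmersion_jmap {K : Type*} (U : K → E.Opens) (V : K → S.Opens)
    (hU : ∀ k, IsAffineOpen (U k)) (hV : ∀ k, IsAffineOpen (V k))
    (hcov : ⨆ k, π ⁻¹ᵁ U k = ⊤) (hπ : ∀ k, IsAffineOpen (π ⁻¹ᵁ U k))
    (hgen : ∀ k, Gen f π (V k) (U k) (π ⁻¹ᵁ U k)) :
    IsImmersion (jmap tE tS π f hcomm) := by
  have h1 : jmap tE tS π f hcomm ≫ pullback.fst tE tS = π := pullback.lift_fst _ _ _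
  have h2 : jmap tE tS π f hcomm ≫ pullback.snd tE tS = f := pullback.lift_snd _ _ _
  have hle : ∀ k, π ⁻¹ᵁ U k ≤ f ⁻¹ᵁ V k := fun k => (hgen k).1
  let Ω : K → (pullback tE tS).Opens := fun k =>
    pullback.fst tE tS ⁻¹ᵁ U k ⊓ pullback.snd tE tS ⁻¹ᵁ V k
  have hΩ : ∀ k, jmap tE tS π f hcomm ⁻¹ᵁ Ω k = π ⁻¹ᵁ U k := by
    intro k
    change jmap tE tS π f hcomm ⁻¹ᵁ (pullback.fst tE tS ⁻¹ᵁ U k ⊓ pullback.snd tE tS ⁻¹ᵁ V k) = _
    rw [Scheme.Hom.preimage_inf, ← Scheme.Hom.comp_preimage, ← Scheme.Hom.comp_preimage, h1, h2]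
    exact inf_eq_left.mpr (hle k)
  have : MorphismProperty.RespectsRight @IsImmersion @IsOpenImmersion :=
    ⟨fun i hi f hf => by
      have : IsImmersion f := hf
      have : IsOpenImmersion i := hi
      exact inferInstanceAs (IsImmersion (f ≫ i))⟩
  refine IsZariskiLocalAtTarget.of_range_subset_iSup (P := @IsImmersion) Ω ?_ fun k => ?_
  · rintro _ ⟨x, rfl⟩
    have hx : x ∈ (⨆ k, π ⁻¹ᵁ U k : X.Opens) := by rw [hcov]; trivial
    obtain ⟨k, hk⟩ := TopologicalSpace.Opens.mem_iSup.mp hx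
    refine TopologicalSpace.Opens.mem_iSup.mpr ⟨k, ?_⟩
    have : x ∈ jmap tE tS π f hcomm ⁻¹ᵁ Ω k := by rw [hΩ]; exact hk
    exact this
  · have hΩaff : IsAffineOpen (Ω k) := isAffineOpen_pullback_inf tE tS (hU k) (hV k)
    have : IsAffine (Ω k).toScheme := hΩaff
    have : IsClosedImmersion (jmap tE tS π f hcomm ∣_ Ω k) := by
      rw [HasAffineProperty.iff_of_isAffine (P := @IsClosedImmersion)]
      refine ⟨?_, ?_⟩
      · change IsAffineOpen (jmap tE tS π f hcomm ⁻¹ᵁ Ω k)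
        rw [hΩ]; exact hπ k
      · have hs : Function.Surjective ((jmap tE tS π f hcomm).app (Ω k)) := by
          refine surjective_app_of_gen (jmap tE tS π f hcomm) (pullback.fst tE tS)
            (pullback.snd tE tS) (Ω k) (U k) (V k) inf_le_left inf_le_right ?_
          rw [h1, h2, hΩ]
          exact hgen k
        have key : ∀ W : (pullback tE tS).Opens, W = Ω k →
            Function.Surjective ((jmap tE tS π f hcomm).app W) := by
          rintro W rfl; exact hs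
        rw [morphismRestrict_appTop]
        have h3 := key ((Ω k).ι ''ᵁ ⊤) (by simp)
        have h4 : Function.Bijective (X.presheaf.map (eqToHom
            (image_morphismRestrict_preimage (jmap tE tS π f hcomm) (Ω k) ⊤)).op) :=
          ConcreteCategory.bijective_of_isIso _
        exact h4.2.comp h3
    infer_instance

end imm

section lim

variable {𝒦 : Type u} [SmallCategory 𝒦] [IsCofiltered 𝒦] (E : 𝒦 ⥤ Scheme.{u}) (cE : Cone E)
  (hE : IsLimit cE) [∀ {x y : 𝒦} (a : x ⟶ y), IsAffineHom (E.map a)]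

omit [IsCofiltered 𝒦] [∀ {x y : 𝒦} (a : x ⟶ y), IsAffineHom (E.map a)] in
theorem preimage_eq {i : 𝒦} (V : (E.obj i).Opens) (j : Over i) :
    cE.π.app j.left ⁻¹ᵁ E.map j.hom ⁻¹ᵁ V = cE.π.app i ⁻¹ᵁ V :=
  congr($(cE.w j.hom) ⁻¹ᵁ V)

set_option backward.defeqAttrib.useBackward true in
set_option backward.isDefEq.respectTransparency false in
open Scheme.Opens in
include hE in
/-- sections of the limit over the preimage of an affine open come from a finite stage -/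
theorem exists_section {i : 𝒦} (V : (E.obj i).Opens) (hV : IsAffineOpen V)
    (r : Γ(cE.pt, cE.π.app i ⁻¹ᵁ V)) :
    ∃ (j : Over i) (s : Γ(E.obj j.left, E.map j.hom ⁻¹ᵁ V)),
      r = (cE.π.app j.left).appLE (E.map j.hom ⁻¹ᵁ V) (cE.π.app i ⁻¹ᵁ V)
        (preimage_eq E cE V j).ge s := by
  have (j : _) : IsAffine ((opensDiagram E i V).op.obj j).unop := hV.preimage _
  have (j : _) : IsAffine ((opensDiagram E i V).obj j) := hV.preimage _
  obtain ⟨⟨j⟩, s, hs⟩ := (Types.jointly_surjective_of_isColimit (isColimitOfPreserves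
    (Scheme.Γ ⋙ forget _) (isLimitOpensCone E cE hE i V).op) ((cE.π.app i ⁻¹ᵁ V).topIso.inv r))
  obtain ⟨s, rfl⟩ := (E.map j.hom ⁻¹ᵁ V).topIso.symm.commRingCatIsoToRingEquiv.surjective s
  refine ⟨j, s, ?_⟩
  convert!
    show r = ((topIso _).inv ≫ ((opensCone E cE i V).π.app j).appTop ≫ (topIso _).hom) s from
      (cE.π.app i ⁻¹ᵁ V).topIso.commRingCatIsoToRingEquiv.symm_apply_eq.mp hs.symm using 3
  simp [Scheme.Hom.app_eq_appLE, Scheme.Hom.resLE_appLE]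

/-- a general principle: finitely many nonempty downward closed properties on a cofiltered
category have a common object -/
theorem exists_common {C : Type*} [Category C] [IsCofiltered C] {ι : Type*} [Finite ι]
    (P : ι → C → Prop) (hP : ∀ i, ∃ c, P i c)
    (hmono : ∀ i (c c' : C), (c' ⟶ c) → P i c → P i c') : ∃ c, ∀ i, P i c := by
  classical
  cases nonempty_fintype ι
  choose c hc using hP
  obtain ⟨c₀, h₀⟩ := IsCofiltered.inf_objs_exists (Finset.univ.image c)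
  exact ⟨c₀, fun i => hmono i (c i) c₀
    (h₀ (Finset.mem_image_of_mem c (Finset.mem_univ i))).some (hc i)⟩

variable {E cE}

/-- `r` lifts to stage `j` -/
def LiftsAt {i : 𝒦} (V : (E.obj i).Opens) (r : Γ(cE.pt, cE.π.app i ⁻¹ᵁ V)) (j : Over i) : Prop :=
  ∃ s : Γ(E.obj j.left, E.map j.hom ⁻¹ᵁ V),
    r = (cE.π.app j.left).appLE (E.map j.hom ⁻¹ᵁ V) (cE.π.app i ⁻¹ᵁ V)
      (preimage_eq E cE V j).ge s

omit [IsCofiltered 𝒦] [∀ {x y : 𝒦} (a : x ⟶ y), IsAffineHom (E.map a)] in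
theorem map_preimage_eq {i : 𝒦} (V : (E.obj i).Opens) {j j' : Over i} (a : j' ⟶ j) :
    E.map a.left ⁻¹ᵁ E.map j.hom ⁻¹ᵁ V = E.map j'.hom ⁻¹ᵁ V := by
  rw [← Scheme.Hom.comp_preimage, ← E.map_comp, Over.w a]

theorem appLE_congr_hom {X Y : Scheme.{u}} {f f' : X ⟶ Y} (h : f = f') (U : Y.Opens)
    (V : X.Opens) (e : V ≤ f ⁻¹ᵁ U) : f.appLE U V e = f'.appLE U V (h ▸ e) := by
  subst h; rfl

omit [IsCofiltered 𝒦] [∀ {x y : 𝒦} (a : x ⟶ y), IsAffineHom (E.map a)] in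
theorem LiftsAt.mono {i : 𝒦} {V : (E.obj i).Opens} {r : Γ(cE.pt, cE.π.app i ⁻¹ᵁ V)}
    {j j' : Over i} (a : j' ⟶ j) (h : LiftsAt V r j) : LiftsAt V r j' := by
  obtain ⟨s, rfl⟩ := h
  refine ⟨((E.map a.left).appLE (E.map j.hom ⁻¹ᵁ V) (E.map j'.hom ⁻¹ᵁ V)
    (map_preimage_eq V a).ge).hom s, ?_⟩
  have h1 := Scheme.Hom.appLE_comp_appLE (cE.π.app j'.left) (E.map a.left) (E.map j.hom ⁻¹ᵁ V)
    (E.map j'.hom ⁻¹ᵁ V) (cE.π.app i ⁻¹ᵁ V) (map_preimage_eq V a).ge (preimage_eq E cE V j').ge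
  have h2 := appLE_congr_hom (cE.w a.left) (E.map j.hom ⁻¹ᵁ V) (cE.π.app i ⁻¹ᵁ V)
    ((preimage_eq E cE V j').ge.trans ((Scheme.Hom.preimage_mono _ (map_preimage_eq V a).ge)))
  rw [h2] at h1
  exact congr($(h1.symm) s)

variable {S : Scheme.{u}} (f : cE.pt ⟶ S)

/-- generation at stage `j` -/
def GoodAt {i : 𝒦} (V : (E.obj i).Opens) (V' : S.Opens) (j : Over i) : Prop :=
  Gen f (cE.π.app j.left) V' (E.map j.hom ⁻¹ᵁ V) (cE.π.app i ⁻¹ᵁ V)

omit [IsCofiltered 𝒦] [∀ {x y : 𝒦} (a : x ⟶ y), IsAffineHom (E.map a)] in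
theorem GoodAt.mono {i : 𝒦} {V : (E.obj i).Opens} {V' : S.Opens} {j j' : Over i} (a : j' ⟶ j)
    (h : GoodAt f V V' j) : GoodAt f V V' j' := by
  have := Gen.of_comp h (cE.π.app j'.left) (E.map a.left) (cE.w a.left)
  rw [map_preimage_eq] at this
  exact this

include hE in
theorem exists_goodAt [LocallyOfFiniteType f] {i : 𝒦} (V : (E.obj i).Opens)
    (hV : IsAffineOpen V) (V' : S.Opens) (hV' : IsAffineOpen V')
    (hle : cE.π.app i ⁻¹ᵁ V ≤ f ⁻¹ᵁ V') : ∃ j : Over i, GoodAt f V V' j := by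
  have hW : IsAffineOpen (cE.π.app i ⁻¹ᵁ V) := by
    have := isAffineHom_π_app E cE hE i
    exact hV.preimage _
  have hft : (f.appLE V' (cE.π.app i ⁻¹ᵁ V) hle).hom.FiniteType :=
    HasRingHomProperty.appLE @LocallyOfFiniteType f inferInstance ⟨V', hV'⟩ ⟨_, hW⟩ hle
  obtain ⟨G, hG⟩ := NA2.exists_finset_generators _ hft
  obtain ⟨j, hj⟩ := exists_common (C := Over i) (ι := G) (fun g j => LiftsAt V g.1 j)
    (fun g => by obtain ⟨j, s, hs⟩ := exists_section E cE hE V hV g.1; exact ⟨j, s, hs⟩)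
    (fun g c c' a h => h.mono a)
  refine ⟨j, hle, (preimage_eq E cE V j).ge, fun R hR1 hR2 => hG R hR1 fun g hg => ?_⟩
  obtain ⟨s, hs⟩ := hj ⟨g, hg⟩
  have hs' : g = (cE.π.app j.left).appLE (E.map j.hom ⁻¹ᵁ V) (cE.π.app i ⁻¹ᵁ V)
      (preimage_eq E cE V j).ge s := hs
  rw [hs']
  exact hR2 s

omit [IsCofiltered 𝒦] [∀ {x y : 𝒦} (a : x ⟶ y), IsAffineHom (E.map a)] in
/-- the affine opens of the source mapping into an affine open of the target cover the source -/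
theorem isOpenCover_affine_le {X : Scheme.{u}} (f : X ⟶ S) :
    TopologicalSpace.IsOpenCover (fun W : {W : X.affineOpens // ∃ V' : S.affineOpens,
      W.1 ≤ f ⁻¹ᵁ V'.1} => W.1.1) := by
  change iSup _ = ⊤
  rw [eq_top_iff]
  rintro x -
  obtain ⟨_, ⟨V', hV', rfl⟩, hxV', -⟩ := S.isBasis_affineOpens.exists_subset_of_mem_open
    (Set.mem_univ (f x)) isOpen_univ
  obtain ⟨_, ⟨W, hW, rfl⟩, hxW, hWV⟩ := X.isBasis_affineOpens.exists_subset_of_mem_open
    (show x ∈ ((f ⁻¹ᵁ V' : X.Opens) : Set X) from hxV') (f ⁻¹ᵁ V').isOpen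
  exact TopologicalSpace.Opens.mem_iSup.mpr ⟨⟨⟨W, hW⟩, ⟨V', hV'⟩, hWV⟩, hxW⟩

include hE in
/-- **Immersion at a finite stage**: if `X = lim E_x` (qcqs stages over an affine base `Z`, affine
transitions) and `f : X → S` is locally of finite type over `Z`, then `X → E_x ×_Z S` is an
immersion for some `x`. -/
theorem exists_isImmersion [∀ x, CompactSpace (E.obj x)] [∀ x, QuasiSeparatedSpace (E.obj x)]
    {Z : Scheme.{u}} [IsAffine Z] (t : ∀ x, E.obj x ⟶ Z) (tS : S ⟶ Z) [LocallyOfFiniteType f]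
    (hcomm : ∀ x, cE.π.app x ≫ t x = f ≫ tS) :
    ∃ x, IsImmersion (jmap (t x) tS (cE.π.app x) f (hcomm x)) := by
  obtain ⟨i₀, s, Vs, hVs, hVs'⟩ := Scheme.exists_isOpenCover_and_isAffine E cE hE _
    (isOpenCover_affine_le f) (fun W => W.1.2)
  have hV' : ∀ k : s, ∃ V' : S.Opens, IsAffineOpen V' ∧ cE.π.app i₀ ⁻¹ᵁ Vs k ≤ f ⁻¹ᵁ V' := by
    intro k
    obtain ⟨V', hV'⟩ := k.1.2
    refine ⟨V'.1, V'.2, ?_⟩
    rw [← (hVs' k).2]
    exact hV'
  choose V' hV'aff hV'le using hV'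
  obtain ⟨j, hj⟩ := exists_common (C := Over i₀) (ι := s) (fun k j => GoodAt f (Vs k) (V' k) j)
    (fun k => exists_goodAt hE f (Vs k) (hVs' k).1 (V' k) (hV'aff k) (hV'le k))
    (fun k c c' a h => h.mono f a)
  refine ⟨j.left, ?_⟩
  have haff := isAffineHom_π_app E cE hE j.left
  refine isImmersion_jmap (t j.left) tS (cE.π.app j.left) f (hcomm j.left)
    (fun k : s => E.map j.hom ⁻¹ᵁ Vs k) V' (fun k => (hVs' k).1.preimage _) hV'aff ?_
    (fun k => ((hVs' k).1.preimage _).preimage _) (fun k => ?_)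
  · simp_rw [preimage_eq E cE _ j]
    rw [← Scheme.Hom.preimage_iSup]
    have : (⨆ k, Vs k) = ⊤ := hVs
    rw [this]
    rfl
  · have := hj k
    unfold GoodAt at this
    rw [← preimage_eq E cE (Vs k) j] at this
    exact this

end lim

end Groth.Agent.Lib.Helper22.NA12
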