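import Mathlib
import Groth.Agent.Lib.Helper22NA12
import Groth.Agent.Lib.Helper22FTLimit

universe u
open CategoryTheory Limits AlgebraicGeometry Opposite

namespace Groth.Agent.Lib.Helper22.NA13

open Groth.Agent.Lib.Helper22

/-- a compact subset of a scheme is contained in a quasi-compact open -/
theorem exists_compact_open_of_range {X S : Scheme.{u}} (f : X ⟶ S) [CompactSpace X] :
    ∃ U : S.Opens, IsCompact (U : Set S) ∧ Set.range f ⊆ U := by
  have h : ∀ x : X, ∃ W : S.Opens, IsAffineOpen W ∧ f x ∈ W := fun x => by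
    obtain ⟨_, ⟨W, hW, rfl⟩, hx, -⟩ := S.isBasis_affineOpens.exists_subset_of_mem_open
      (Set.mem_univ (f x)) isOpen_univ
    exact ⟨W, hW, hx⟩
  choose W hW hxW using h
  obtain ⟨t, ht⟩ := isCompact_univ.elim_finite_subcover (fun x : X => ((f ⁻¹ᵁ W x : X.Opens) : Set X))
    (fun x => (f ⁻¹ᵁ W x).isOpen) (fun x _ => Set.mem_iUnion.mpr ⟨x, hxW x⟩)
  refine ⟨⨆ x ∈ t, W x, ?_, ?_⟩
  · have : ((⨆ x ∈ t, W x : S.Opens) : Set S) = ⋃ x ∈ t, (W x : Set S) := by
      simp
    rw [this]
    exact t.isCompact_biUnion fun x _ => (hW x).isCompact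
  · rintro _ ⟨x, rfl⟩
    obtain ⟨y, hy⟩ := Set.mem_iUnion.mp (ht (Set.mem_univ x))
    obtain ⟨hyt, hxy⟩ := Set.mem_iUnion.mp hy
    exact TopologicalSpace.Opens.mem_iSup.mpr ⟨y, TopologicalSpace.Opens.mem_iSup.mpr ⟨hyt, hxy⟩⟩

/-- Stacks 09ZP -/
theorem exists_immersion_fp {X S : Scheme.{u}} (f : X ⟶ S) [LocallyOfFiniteType f]
    [CompactSpace X] [QuasiSeparatedSpace X] :
    ∃ (X' : Scheme.{u}) (f' : X' ⟶ S) (j : X ⟶ X'), LocallyOfFinitePresentation f' ∧ QuasiCompact f' ∧
      QuasiSeparated f' ∧ IsImmersion j ∧ j ≫ f' = f := by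
  obtain ⟨A, pA, DA, cA, hcA, eA, hA⟩ := NA10.exists_goodSys X
  have := hA.dir
  have := hA.ne
  have : ∀ {x y : Aᵒᵖ} (a : x ⟶ y), IsAffineHom (DA.map a) := hA.aff
  have := hA.cpt
  have hlft := hA.lft
  have : ∀ x, QuasiSeparatedSpace (DA.obj x) := fun x => NA4.quasiSeparatedSpace_of_lft _
  obtain ⟨x, hx⟩ := NA12.exists_isImmersion hcA (eA.hom ≫ f)
    (fun x => specULiftZIsTerminal.from (DA.obj x)) (specULiftZIsTerminal.from S)
    (fun x => specULiftZIsTerminal.hom_ext _ _)
  have := NA10.lfp_of_lft (DA.obj x)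
  refine ⟨_, Limits.pullback.snd (specULiftZIsTerminal.from (DA.obj x))
    (specULiftZIsTerminal.from S), eA.inv ≫ NA12.jmap (specULiftZIsTerminal.from (DA.obj x))
      (specULiftZIsTerminal.from S) (cA.π.app x) (eA.hom ≫ f)
      (specULiftZIsTerminal.hom_ext _ _), inferInstance, inferInstance,
    inferInstance, inferInstance, ?_⟩
  rw [Category.assoc, NA12.jmap, Limits.pullback.lift_snd, Iso.inv_hom_id_assoc]

/-- Stacks 09ZQ, with the extra information that `X'` is quasi-compact and quasi-separated -/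
theorem exists_closedImmersion_fp {X S : Scheme.{u}} (f : X ⟶ S) [LocallyOfFiniteType f]
    [CompactSpace X] [QuasiSeparatedSpace X] [QuasiSeparatedSpace S] :
    ∃ (X' : Scheme.{u}) (f' : X' ⟶ S) (j : X ⟶ X'), LocallyOfFinitePresentation f' ∧ QuasiCompact f' ∧
      QuasiSeparated f' ∧ CompactSpace X' ∧ QuasiSeparatedSpace X' ∧ IsClosedImmersion j ∧
      j ≫ f' = f := by
  obtain ⟨X', f', j, h1, h2, h3, h4, h5⟩ := exists_immersion_fp f
  have : QuasiSeparatedSpace X' := quasiSeparatedSpace_of_quasiSeparated f'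
  obtain ⟨U₀, hU₀, hrange⟩ := exists_compact_open_of_range j.liftCoborder
  have hrange' : Set.range j.liftCoborder ⊆ Set.range U₀.ι := by
    rw [Scheme.Opens.range_ι]; exact hrange
  let j'' : X ⟶ U₀.toScheme := IsOpenImmersion.lift U₀.ι j.liftCoborder hrange'
  have hj'' : j'' ≫ U₀.ι = j.liftCoborder := IsOpenImmersion.lift_fac _ _ _
  have : IsClosedImmersion j'' := by
    have : IsClosedImmersion (j'' ≫ U₀.ι) := by rw [hj'']; infer_instance
    exact IsClosedImmersion.of_comp j'' U₀.ι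
  have : CompactSpace U₀.toScheme := isCompact_iff_compactSpace.mp hU₀
  have hqs : QuasiSeparatedSpace U₀.toScheme :=
    quasiSeparatedSpace_of_quasiSeparated (U₀.ι ≫ j.coborderRange.ι)
  refine ⟨U₀.toScheme, (U₀.ι ≫ j.coborderRange.ι) ≫ f', j'', inferInstance, inferInstance,
    inferInstance, inferInstance, hqs, inferInstance, ?_⟩
  rw [← Category.assoc, ← Category.assoc, hj'', Scheme.Hom.liftCoborder_ι, h5]

open FTIdeal FTLimit in
/-- a closed subscheme `X` of a qcqs scheme `Y` of finite presentation over `S` is, over `S`, the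
limit of finitely presented closed subschemes of `Y` (with closed immersions as transitions). -/
theorem exists_closed_system {X Y S : Scheme.{u}} [CompactSpace Y] [QuasiSeparatedSpace Y]
    (ι : X ⟶ Y) [IsClosedImmersion ι] (f' : Y ⟶ S) [LocallyOfFinitePresentation f']
    [QuasiCompact f'] [QuasiSeparated f'] :
    ∃ (I : Type u) (_ : Preorder I) (_ : IsDirected I (fun a b => a ≤ b)) (_ : Nonempty I)
      (D : Iᵒᵖ ⥤ Over S) (c : Limits.Cone D) (_ : Limits.IsLimit c),
      (∀ i, LocallyOfFinitePresentation (D.obj i).hom ∧ QuasiCompact (D.obj i).hom ∧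
        QuasiSeparated (D.obj i).hom ∧ CompactSpace (D.obj i).left ∧
        QuasiSeparatedSpace (D.obj i).left) ∧
      (∀ (i j : Iᵒᵖ) (a : i ⟶ j), IsClosedImmersion (D.map a).left) ∧
      Nonempty (c.pt ≅ Over.mk (ι ≫ f')) := by
  have hconn : IsConnected (Idx ι.ker)ᵒᵖ := IsCofiltered.isConnected _
  have hlim : IsLimit ((Over.map f').mapCone (cone ι.ker)) := by
    refine isLimitOfReflects (Over.forget S) ?_
    exact isLimitOfPreserves (Over.forget Y) (coneIsLimit ι.ker)
  refine ⟨Idx ι.ker, inferInstance, inferInstance, inferInstance, FTLimit.diag ι.ker ⋙ Over.map f',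
    (Over.map f').mapCone (cone ι.ker), hlim, fun i => ?_, fun i j a => ?_, ?_⟩
  · have h1 : LocallyOfFinitePresentation i.unop.1.subschemeι :=
      locallyOfFinitePresentation_subschemeι _ i.unop.2.2
    have h2 : CompactSpace i.unop.1.subscheme :=
      (quasiCompact_iff_compactSpace i.unop.1.subschemeι).mp inferInstance
    have h3 : QuasiSeparatedSpace i.unop.1.subscheme :=
      quasiSeparatedSpace_of_quasiSeparated i.unop.1.subschemeι
    change LocallyOfFinitePresentation (i.unop.1.subschemeι ≫ f') ∧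
      QuasiCompact (i.unop.1.subschemeι ≫ f') ∧ QuasiSeparated (i.unop.1.subschemeι ≫ f') ∧
      CompactSpace i.unop.1.subscheme ∧ QuasiSeparatedSpace i.unop.1.subscheme
    exact ⟨inferInstance, inferInstance, inferInstance, h2, h3⟩
  · change IsClosedImmersion ((FTLimit.diag ι.ker).map a).left
    rw [FTLimit.diag_map_left]
    have hle : j.unop.1 ≤ i.unop.1 := a.unop.le
    have : IsClosedImmersion (Scheme.IdealSheafData.inclusion hle ≫ j.unop.1.subschemeι) := by
      rw [Scheme.IdealSheafData.inclusion_subschemeι]; infer_instance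
    exact IsClosedImmersion.of_comp (Scheme.IdealSheafData.inclusion hle) j.unop.1.subschemeι
  · let e : X ≅ ι.ker.subscheme := asIso ι.toImage
    have he : e.hom ≫ ι.ker.subschemeι = ι := ι.toImage_imageι
    refine ⟨(Over.isoMk (f := Over.mk (ι ≫ f')) (g := Over.mk (ι.ker.subschemeι ≫ f')) e ?_).symm⟩
    change e.hom ≫ ι.ker.subschemeι ≫ f' = ι ≫ f'
    rw [reassoc_of% he]

end Groth.Agent.Lib.Helper22.NA13
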