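import Mathlib
import Groth.Agent.Lib.Helper22NA13

universe u
open CategoryTheory Limits AlgebraicGeometry Opposite

namespace Groth.Agent.Lib.Helper22.NA14

open Groth.Agent.Lib.Helper22

section alg

theorem finite_of_generators {A B B' : Type u} [CommRing A] [CommRing B] [CommRing B']
    (φ₁ : A →+* B) (ρ : B →+* B') (hρ : Function.Surjective ρ) (G : Finset B)
    (hG : ∀ R' : Subring B, (∀ a, φ₁ a ∈ R') → (∀ b ∈ G, b ∈ R') → R' = ⊤)
    (hint : ∀ g ∈ G, (ρ.comp φ₁).IsIntegralElem (ρ g)) : (ρ.comp φ₁).Finite := by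
  classical
  let _ : Algebra A B' := (ρ.comp φ₁).toAlgebra
  have hfg : (Algebra.adjoin A ((G.image ρ : Finset B') : Set B')).toSubmodule.FG :=
    fg_adjoin_of_finite (Finset.finite_toSet _) (fun x hx => by
      obtain ⟨g, hg, rfl⟩ := Finset.mem_image.mp hx
      exact hint g hg)
  have htop : Algebra.adjoin A ((G.image ρ : Finset B') : Set B') = ⊤ := by
    rw [eq_top_iff]
    rintro y -
    obtain ⟨b, rfl⟩ := hρ y
    have h1 := hG ((Algebra.adjoin A ((G.image ρ : Finset B') : Set B')).toSubring.comap ρ)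
      (fun a => by
        change ρ (φ₁ a) ∈ Algebra.adjoin A ((G.image ρ : Finset B') : Set B')
        exact (Algebra.adjoin A _).algebraMap_mem a)
      (fun g hg => by
        change ρ g ∈ Algebra.adjoin A ((G.image ρ : Finset B') : Set B')
        exact Algebra.subset_adjoin (Finset.mem_image_of_mem ρ hg))
    have : b ∈ (Algebra.adjoin A ((G.image ρ : Finset B') : Set B')).toSubring.comap ρ := by
      rw [h1]; trivial
    exact this
  rw [htop] at hfg
  exact ⟨hfg⟩

end alg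

section ringsys

variable {𝒦 : Type u} [SmallCategory 𝒦] (E : 𝒦 ⥤ Scheme.{u}) (cE : Cone E)
  {S : Scheme.{u}} (t : ∀ x, E.obj x ⟶ S) (ht : ∀ {x y : 𝒦} (a : x ⟶ y), E.map a ≫ t y = t x)
  (f : cE.pt ⟶ S) (hf : ∀ x, cE.π.app x ≫ t x = f) (U : S.Opens)

/-- the open `t_x⁻¹ U` -/
abbrev T (x : 𝒦) : (E.obj x).Opens := t x ⁻¹ᵁ U

include ht in
theorem T_le {x y : 𝒦} (a : x ⟶ y) : T E t U x ≤ E.map a ⁻¹ᵁ T E t U y := by
  change t x ⁻¹ᵁ U ≤ E.map a ⁻¹ᵁ (t y ⁻¹ᵁ U)
  rw [← Scheme.Hom.comp_preimage, ht a]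

include hf in
theorem T_le_π (x : 𝒦) : f ⁻¹ᵁ U ≤ cE.π.app x ⁻¹ᵁ T E t U x := by
  change f ⁻¹ᵁ U ≤ cE.π.app x ⁻¹ᵁ (t x ⁻¹ᵁ U)
  rw [← Scheme.Hom.comp_preimage, hf x]

/-- transition maps of the ring system -/
noncomputable def r {x y : 𝒦} (a : x ⟶ y) : Γ(E.obj y, T E t U y) ⟶ Γ(E.obj x, T E t U x) :=
  (E.map a).appLE (T E t U y) (T E t U x) (T_le E t ht U a)

/-- structure maps -/
noncomputable def φ (x : 𝒦) : Γ(S, U) ⟶ Γ(E.obj x, T E t U x) := (t x).app U

/-- maps to the limit -/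
noncomputable def ψ (x : 𝒦) : Γ(E.obj x, T E t U x) ⟶ Γ(cE.pt, f ⁻¹ᵁ U) :=
  (cE.π.app x).appLE (T E t U x) (f ⁻¹ᵁ U) (T_le_π E cE t f hf U x)

theorem φ_r {x y : 𝒦} (a : x ⟶ y) : φ E t U y ≫ r E t ht U a = φ E t U x := by
  rw [φ, r, Scheme.Hom.app_eq_appLE, Scheme.Hom.appLE_comp_appLE,
    NA12.appLE_congr_hom (ht a), ← Scheme.Hom.app_eq_appLE]
  rfl

theorem r_comp {x y z : 𝒦} (a : x ⟶ y) (b : y ⟶ z) :
    r E t ht U b ≫ r E t ht U a = r E t ht U (a ≫ b) := by
  rw [r, r, r, Scheme.Hom.appLE_comp_appLE]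
  exact (NA12.appLE_congr_hom (E.map_comp a b) _ _ _).symm

theorem r_ψ {x y : 𝒦} (a : x ⟶ y) : r E t ht U a ≫ ψ E cE t f hf U x = ψ E cE t f hf U y := by
  rw [r, ψ, ψ, Scheme.Hom.appLE_comp_appLE]
  exact NA12.appLE_congr_hom (cE.w a) _ _ _

theorem φ_ψ (x : 𝒦) : φ E t U x ≫ ψ E cE t f hf U x = f.app U := by
  rw [φ, ψ, Scheme.Hom.app_eq_appLE, Scheme.Hom.appLE_comp_appLE,
    NA12.appLE_congr_hom (hf x), ← Scheme.Hom.app_eq_appLE]

section transport

variable {X Y : Scheme.{u}}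

/-- restriction along an equality of opens is bijective -/
theorem bijective_res {V V' : X.Opens} (h : V' ≤ V) (h' : V ≤ V') :
    Function.Bijective (X.presheaf.map (homOfLE h).op) := by
  have : IsIso (X.presheaf.map (homOfLE h).op) :=
    ⟨X.presheaf.map (homOfLE h').op, by
      rw [← X.presheaf.map_comp]; exact X.presheaf.map_id _, by
      rw [← X.presheaf.map_comp]; exact X.presheaf.map_id _⟩
  exact ConcreteCategory.bijective_of_isIso _

theorem appLE_eq_zero_iff (g : X ⟶ Y) (W : Y.Opens) (V : X.Opens) (h : V ≤ g ⁻¹ᵁ W)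
    (h' : g ⁻¹ᵁ W ≤ V) (s : Γ(Y, W)) : g.appLE W V h s = 0 ↔ g.app W s = 0 := by
  have hb := bijective_res h h'
  change X.presheaf.map (homOfLE h).op (g.app W s) = 0 ↔ _
  rw [← map_zero (X.presheaf.map (homOfLE h).op).hom]
  exact hb.1.eq_iff

theorem appLE_surjective (g : X ⟶ Y) (W : Y.Opens) (V : X.Opens) (h : V ≤ g ⁻¹ᵁ W)
    (h' : g ⁻¹ᵁ W ≤ V) (hs : Function.Surjective (g.app W)) :
    Function.Surjective (g.appLE W V h) := by
  have hb := bijective_res h h'
  change Function.Surjective (X.presheaf.map (homOfLE h).op ∘ g.app W)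
  exact hb.2.comp hs

end transport

section props

include ht in
theorem T_eq {x y : 𝒦} (a : x ⟶ y) : E.map a ⁻¹ᵁ T E t U y = T E t U x := by
  change E.map a ⁻¹ᵁ (t y ⁻¹ᵁ U) = t x ⁻¹ᵁ U
  rw [← Scheme.Hom.comp_preimage, ht a]

include hf in
theorem T_eq_π (x : 𝒦) : cE.π.app x ⁻¹ᵁ T E t U x = f ⁻¹ᵁ U := by
  change cE.π.app x ⁻¹ᵁ (t x ⁻¹ᵁ U) = f ⁻¹ᵁ U
  rw [← Scheme.Hom.comp_preimage, hf x]

theorem r_surjective {x y : 𝒦} (a : x ⟶ y) [IsClosedImmersion (E.map a)]
    (hT : IsAffineOpen (T E t U y)) : Function.Surjective (r E t ht U a) :=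
  appLE_surjective _ _ _ _ (T_eq E t ht U a).le ((E.map a).app_surjective _ hT)

variable [IsCofiltered 𝒦] (hE : IsLimit cE) [∀ {x y : 𝒦} (a : x ⟶ y), IsAffineHom (E.map a)]

include hE in
theorem exists_r_eq_zero (x : 𝒦) (hc : IsCompact (T E t U x : Set (E.obj x)))
    (s : Γ(E.obj x, T E t U x)) (hs : ψ E cE t f hf U x s = 0) :
    ∃ j : Over x, r E t ht U j.hom s = 0 := by
  have h1 : (cE.π.app x).app (T E t U x) s = 0 :=
    (appLE_eq_zero_iff _ _ _ _ (T_eq_π E cE t f hf U x).le s).mp hs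
  obtain ⟨j, a, ha⟩ := exists_app_map_eq_zero_of_isLimit E cE hE hc s h1
  exact ⟨Over.mk a, (appLE_eq_zero_iff _ _ _ _ (T_eq E t ht U a).le s).mpr ha⟩

include hE ht hf in
theorem exists_affine_T [∀ x, CompactSpace (E.obj x)] [∀ x, QuasiSeparatedSpace (E.obj x)]
    [QuasiSeparatedSpace S] (hU : IsAffineOpen U) (hfU : IsAffineOpen (f ⁻¹ᵁ U)) :
    ∃ x, IsAffineOpen (T E t U x) := by
  obtain ⟨x₀⟩ := IsCofiltered.nonempty (C := 𝒦)
  have hc : IsCompact (T E t U x₀ : Set (E.obj x₀)) :=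
    QuasiCompact.isCompact_preimage (f := t x₀) _ U.2 hU.isCompact
  have (j : Over x₀) : CompactSpace ((opensDiagram E x₀ (T E t U x₀)).obj j) :=
    isCompact_iff_compactSpace.mp (QuasiCompact.isCompact_preimage _ (T E t U x₀).2 hc)
  have (j : Over x₀) : QuasiSeparatedSpace ((opensDiagram E x₀ (T E t U x₀)).obj j) :=
    (isQuasiSeparated_iff_quasiSeparatedSpace _ (E.map _ ⁻¹ᵁ _).2).mp (.of_quasiSeparatedSpace _)
  have : IsAffine (opensCone E cE x₀ (T E t U x₀)).pt := by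
    change IsAffineOpen (cE.π.app x₀ ⁻¹ᵁ T E t U x₀)
    rw [T_eq_π E cE t f hf U x₀]
    exact hfU
  obtain ⟨j, hj⟩ := Scheme.exists_isAffine_of_isLimit _ _ (isLimitOpensCone E cE hE x₀ (T E t U x₀))
  refine ⟨j.left, ?_⟩
  rw [← T_eq E t ht U j.hom]
  exact hj

include hE ht hf in
theorem exists_affine_finite [∀ {x y : 𝒦} (a : x ⟶ y), IsClosedImmersion (E.map a)]
    [∀ x, CompactSpace (E.obj x)] [∀ x, QuasiSeparatedSpace (E.obj x)]
    [QuasiSeparatedSpace S] [∀ x, LocallyOfFiniteType (t x)] [IsFinite f]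
    (hU : IsAffineOpen U) : ∃ x, IsAffineOpen (T E t U x) ∧ (φ E t U x).hom.Finite := by
  classical
  obtain ⟨x₁, hx₁⟩ := exists_affine_T E cE t ht f hf U hE hU (hU.preimage f)
  have hc : IsCompact (T E t U x₁ : Set (E.obj x₁)) := hx₁.isCompact
  have hft : (φ E t U x₁).hom.FiniteType := by
    have := HasRingHomProperty.appLE @LocallyOfFiniteType (t x₁) inferInstance ⟨U, hU⟩
      ⟨T E t U x₁, hx₁⟩ le_rfl
    rw [φ, Scheme.Hom.app_eq_appLE]
    exact this
  obtain ⟨G, hG⟩ := NA2.exists_finset_generators _ hft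
  have hfin : (f.app U).hom.Finite := IsFinite.finite_app f U hU
  have hint : ∀ g : G, ∃ p : Polynomial Γ(S, U), p.Monic ∧
      ψ E cE t f hf U x₁ (p.eval₂ (φ E t U x₁).hom g.1) = 0 := by
    intro g
    obtain ⟨p, hp, hp0⟩ := hfin.to_isIntegral (ψ E cE t f hf U x₁ g.1)
    refine ⟨p, hp, ?_⟩
    have h1 := Polynomial.hom_eval₂ p (φ E t U x₁).hom (ψ E cE t f hf U x₁).hom g.1
    have h2 : (ψ E cE t f hf U x₁).hom.comp (φ E t U x₁).hom = (f.app U).hom := by
      rw [← CommRingCat.hom_comp, φ_ψ]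
    rw [h2] at h1
    exact h1.trans hp0
  choose p hp hp0 using hint
  obtain ⟨j, hj⟩ := NA12.exists_common (C := Over x₁) (ι := G)
    (fun g j => r E t ht U j.hom ((p g).eval₂ (φ E t U x₁).hom g.1) = 0)
    (fun g => exists_r_eq_zero E cE t ht f hf U hE x₁ hc _ (hp0 g))
    (fun g c c' b h => by
      rw [← Over.w b, ← r_comp]
      change r E t ht U b.left (r E t ht U c.hom _) = 0
      rw [h, map_zero])
  have hx₂ : IsAffineOpen (T E t U j.left) := by
    rw [← T_eq E t ht U j.hom]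
    exact hx₁.preimage (E.map j.hom)
  refine ⟨j.left, hx₂, ?_⟩
  have h3 := finite_of_generators (φ E t U x₁).hom (r E t ht U j.hom).hom
    (r_surjective E t ht U j.hom hx₁) G hG (fun g hg => ⟨p ⟨g, hg⟩, hp _, by
      rw [← Polynomial.hom_eval₂]
      exact hj ⟨g, hg⟩⟩)
  rw [← CommRingCat.hom_comp, φ_r] at h3
  exact h3

set_option backward.isDefEq.respectTransparency.types false in
include hE ht hf in
/-- **Finite at a finite stage**: an inverse system of qcqs `S`-schemes of finite type with closed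
immersions as transition maps, whose limit is finite over the qcqs scheme `S`, is eventually
finite over `S`. -/
theorem exists_isFinite_stage [∀ {x y : 𝒦} (a : x ⟶ y), IsClosedImmersion (E.map a)]
    [∀ x, CompactSpace (E.obj x)] [∀ x, QuasiSeparatedSpace (E.obj x)]
    [CompactSpace S] [QuasiSeparatedSpace S] [∀ x, LocallyOfFiniteType (t x)] [IsFinite f] :
    ∃ x, IsFinite (t x) := by
  obtain ⟨n, W, hW, hcov⟩ := NA9.exists_fin_affine_cover (⊤ : S.Opens) isCompact_univ
  obtain ⟨x, hx⟩ := NA12.exists_common (C := 𝒦) (ι := Fin n)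
    (fun k x => IsAffineOpen (T E t (W k) x) ∧ (φ E t (W k) x).hom.Finite)
    (fun k => exists_affine_finite E cE t ht f hf (W k) hE (hW k))
    (fun k x x' a h => by
      refine ⟨?_, ?_⟩
      · rw [← T_eq E t ht (W k) a]
        exact h.1.preimage (E.map a)
      · rw [← φ_r E t ht (W k) a, CommRingCat.hom_comp]
        exact (RingHom.Finite.of_surjective _ (r_surjective E t ht (W k) a h.1)).comp h.2)
  refine ⟨x, ?_⟩
  rw [HasAffineProperty.iff_of_iSup_eq_top (P := @IsFinite) (fun k => ⟨W k, hW k⟩) hcov]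
  intro k
  refine ⟨(hx k).1, ?_⟩
  have key : ∀ W' : S.Opens, W' = W k → ((t x).app W').hom.Finite := by
    rintro W' rfl; exact (hx k).2
  change ((t x ∣_ W k).appTop).hom.Finite
  rw [morphismRestrict_appTop]
  have h1 : ((t x).app ((W k).ι ''ᵁ ⊤)).hom.Finite := key _ (by simp)
  have h2 : ((E.obj x).presheaf.map (eqToHom
      (image_morphismRestrict_preimage (t x) (W k) ⊤)).op).hom.Finite :=
    RingHom.Finite.of_surjective _ (ConcreteCategory.bijective_of_isIso
      ((E.obj x).presheaf.map (eqToHom (image_morphismRestrict_preimage (t x) (W k) ⊤)).op)).2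
  exact h2.comp h1

end props

end ringsys

section closed

open FTIdeal FTLimit

variable {X Y S : Scheme.{u}} [CompactSpace Y] [QuasiSeparatedSpace Y]
  (ι : X ⟶ Y) [IsClosedImmersion ι] (f' : Y ⟶ S) [LocallyOfFinitePresentation f']
  [QuasiCompact f'] [QuasiSeparated f']

omit [CompactSpace Y] [QuasiSeparatedSpace Y] in
theorem isClosedImmersion_inclusion {I J : Y.IdealSheafData} (h : I ≤ J) :
    IsClosedImmersion (Scheme.IdealSheafData.inclusion h) := by
  have : IsClosedImmersion (Scheme.IdealSheafData.inclusion h ≫ I.subschemeι) := by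
    rw [Scheme.IdealSheafData.inclusion_subschemeι]; infer_instance
  exact IsClosedImmersion.of_comp (Scheme.IdealSheafData.inclusion h) I.subschemeι

omit [QuasiCompact f'] [QuasiSeparated f'] in
/-- if `X → S` is finite then so is a finitely presented closed subscheme `X ⊆ V(J) ⊆ Y`. -/
theorem exists_finite_stage_closed [CompactSpace S] [QuasiSeparatedSpace S]
    [IsFinite (ι ≫ f')] : ∃ J₀ : Idx ι.ker, IsFinite (J₀.1.subschemeι ≫ f') := by
  let E : (Idx ι.ker)ᵒᵖ ⥤ Scheme.{u} := FTLimit.diag ι.ker ⋙ Over.forget Y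
  let cE : Cone E := (Over.forget Y).mapCone (cone ι.ker)
  let t : ∀ x : (Idx ι.ker)ᵒᵖ, E.obj x ⟶ S := fun x => x.unop.1.subschemeι ≫ f'
  have hconn : IsConnected (Idx ι.ker)ᵒᵖ := IsCofiltered.isConnected _
  have hE : IsLimit cE := isLimitOfPreserves (Over.forget Y) (coneIsLimit ι.ker)
  have hcpt : ∀ x, CompactSpace (E.obj x) := fun x =>
    (quasiCompact_iff_compactSpace x.unop.1.subschemeι).mp inferInstance
  have hqs : ∀ x, QuasiSeparatedSpace (E.obj x) := fun x => by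
    have h := quasiSeparatedSpace_of_quasiSeparated x.unop.1.subschemeι
    exact h
  have hlft : ∀ x, LocallyOfFiniteType (t x) := fun x =>
    inferInstanceAs (LocallyOfFiniteType (x.unop.1.subschemeι ≫ f'))
  let f0 : cE.pt ⟶ S := ι.ker.subschemeι ≫ f'
  have hfin : IsFinite f0 := by
    have h1 : ι.toImage ≫ ι.ker.subschemeι = ι := ι.toImage_imageι
    have h2 : ι.ker.subschemeι ≫ f' = inv ι.toImage ≫ ι ≫ f' := by
      rw [← reassoc_of% h1, IsIso.inv_hom_id_assoc]
    have h3 : IsFinite (ι.ker.subschemeι ≫ f') := by rw [h2]; infer_instance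
    exact h3
  have hcl : ∀ {x y : (Idx ι.ker)ᵒᵖ} (a : x ⟶ y), IsClosedImmersion (E.map a) := fun a => by
    change IsClosedImmersion ((FTLimit.diag ι.ker).map a).left
    rw [FTLimit.diag_map_left]
    exact isClosedImmersion_inclusion _
  have haff : ∀ {x y : (Idx ι.ker)ᵒᵖ} (a : x ⟶ y), IsAffineHom (E.map a) := fun a => by
    have := hcl a; infer_instance
  have ht : ∀ {x y : (Idx ι.ker)ᵒᵖ} (a : x ⟶ y), E.map a ≫ t y = t x := fun {x y} a => by
    have h := Scheme.IdealSheafData.inclusion_subschemeι (show y.unop.1 ≤ x.unop.1 from a.unop.le)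
    exact (Category.assoc _ _ _).symm.trans (congrArg (· ≫ f') h)
  have hf : ∀ x, cE.π.app x ≫ t x = f0 := fun x => by
    have h := Scheme.IdealSheafData.inclusion_subschemeι (show x.unop.1 ≤ ι.ker from x.unop.2.1)
    exact (Category.assoc _ _ _).symm.trans (congrArg (· ≫ f') h)
  obtain ⟨x, hx⟩ := exists_isFinite_stage E cE t ht f0 hf hE
  exact ⟨x.unop, hx⟩

end closed

section final

open FTIdeal FTLimit

/-- Stacks 09ZU-like: a finite morphism to a qcqs scheme factors as a closed immersion into a finite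
morphism of finite presentation. Also gives the ambient data. -/
theorem exists_finite_data {X S : Scheme.{u}} (f : X ⟶ S) [IsFinite f] [CompactSpace S]
    [QuasiSeparatedSpace S] :
    ∃ (Y : Scheme.{u}) (_ : CompactSpace Y) (_ : QuasiSeparatedSpace Y) (g : Y ⟶ S) (ι : X ⟶ Y)
      (_ : IsClosedImmersion ι) (J₀ : Idx ι.ker),
      LocallyOfFinitePresentation g ∧ QuasiCompact g ∧ QuasiSeparated g ∧ ι ≫ g = f ∧
      IsFinite (J₀.1.subschemeι ≫ g) := by
  have : CompactSpace X := (quasiCompact_iff_compactSpace f).mp inferInstance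
  have : QuasiSeparatedSpace X := quasiSeparatedSpace_of_quasiSeparated f
  obtain ⟨Y, g, ι, h1, h2, h3, h4, h5, h6, h7⟩ := NA13.exists_closedImmersion_fp f
  have : IsFinite (ι ≫ g) := by rw [h7]; infer_instance
  obtain ⟨J₀, hJ₀⟩ := exists_finite_stage_closed ι g
  exact ⟨Y, h4, h5, g, ι, h6, J₀, h1, h2, h3, h7, hJ₀⟩

theorem exists_finite_fp_closedImmersion {X S : Scheme.{u}} (f : X ⟶ S) [IsFinite f]
    [CompactSpace S] [QuasiSeparatedSpace S] :
    ∃ (X' : Scheme.{u}) (f' : X' ⟶ S) (j : X ⟶ X'), IsFinite f' ∧ LocallyOfFinitePresentation f' ∧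
      IsClosedImmersion j ∧ j ≫ f' = f := by
  obtain ⟨Y, _, _, g, ι, _, J₀, h1, h2, h3, h4, h5⟩ := exists_finite_data f
  have h6 : LocallyOfFinitePresentation J₀.1.subschemeι :=
    locallyOfFinitePresentation_subschemeι _ J₀.2.2
  have h7 := isClosedImmersion_inclusion J₀.2.1
  refine ⟨J₀.1.subscheme, J₀.1.subschemeι ≫ g,
    ι.toImage ≫ Scheme.IdealSheafData.inclusion J₀.2.1, h5, inferInstance, inferInstance, ?_⟩
  rw [Category.assoc, Scheme.IdealSheafData.inclusion_subschemeι_assoc,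
    Scheme.Hom.toImage_imageι_assoc, h4]

theorem exists_finite_fp_system {X S : Scheme.{u}} (f : X ⟶ S) [IsFinite f]
    [CompactSpace S] [QuasiSeparatedSpace S] :
    ∃ (I : Type u) (_ : Preorder I) (_ : IsDirected I (fun a b => a ≤ b)) (_ : Nonempty I)
      (D : Iᵒᵖ ⥤ Over S) (c : Limits.Cone D) (_ : Limits.IsLimit c),
      (∀ i, IsFinite (D.obj i).hom ∧ LocallyOfFinitePresentation (D.obj i).hom) ∧
      (∀ (i j : Iᵒᵖ) (a : i ⟶ j), IsClosedImmersion (D.map a).left) ∧
      Nonempty (c.pt ≅ Over.mk f) := by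
  obtain ⟨Y, _, _, g, ι, _, J₀, h1, h2, h3, h4, h5⟩ := exists_finite_data f
  have hconn : IsConnected (Idx ι.ker)ᵒᵖ := IsCofiltered.isConnected _
  have hlim : IsLimit ((Over.map g).mapCone (cone ι.ker)) := by
    refine isLimitOfReflects (Over.forget S) ?_
    exact isLimitOfPreserves (Over.forget Y) (coneIsLimit ι.ker)
  refine ⟨NA6.Ici' J₀, inferInstance, inferInstance, inferInstance,
    (NA6.inc J₀).monotone.functor.op ⋙ (FTLimit.diag ι.ker ⋙ Over.map g),
    ((Over.map g).mapCone (cone ι.ker)).whisker (NA6.inc J₀).monotone.functor.op,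
    NA1.isLimitWhiskerOfCofinal (NA6.inc J₀) (NA6.inc_cofinal J₀) _ _ hlim,
    fun i => ?_, fun i j a => ?_, ?_⟩
  · have h6 : LocallyOfFinitePresentation i.unop.1.1.subschemeι :=
      locallyOfFinitePresentation_subschemeι _ i.unop.1.2.2
    have hle : J₀.1 ≤ i.unop.1.1 := i.unop.2
    have h7 := isClosedImmersion_inclusion hle
    have h8 : IsFinite (i.unop.1.1.subschemeι ≫ g) := by
      rw [← Scheme.IdealSheafData.inclusion_subschemeι hle, Category.assoc]
      infer_instance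
    change IsFinite (i.unop.1.1.subschemeι ≫ g) ∧
      LocallyOfFinitePresentation (i.unop.1.1.subschemeι ≫ g)
    exact ⟨h8, inferInstance⟩
  · change IsClosedImmersion ((FTLimit.diag ι.ker).map
      ((NA6.inc J₀).monotone.functor.op.map a)).left
    rw [FTLimit.diag_map_left]
    exact isClosedImmersion_inclusion _
  · let e : X ≅ ι.ker.subscheme := asIso ι.toImage
    have he : e.hom ≫ ι.ker.subschemeι = ι := ι.toImage_imageι
    refine ⟨(Over.isoMk (f := Over.mk f) (g := Over.mk (ι.ker.subschemeι ≫ g)) e ?_).symm⟩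
    change e.hom ≫ ι.ker.subschemeι ≫ g = f
    rw [reassoc_of% he, h4]

end final

end Groth.Agent.Lib.Helper22.NA14
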