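import Mathlib
import Groth.Agent.Lib.Helper11ChevA
import Groth.Agent.S7381
import Groth.Agent.S17885

set_option autoImplicit false
set_option linter.style.haveILetI false
universe u
open CategoryTheory AlgebraicGeometry Limits Opposite TopologicalSpace

/-!
# Chevalley's theorem: integral surjective morphisms from affine schemes (helper11)

Stacks 05YU: `f : X ⟶ Y` integral and surjective with `X` affine ⟹ `Y` affine.
-/

namespace Groth.Agent.Lib.Helper11.Chev

/-- some stage of a cofiltered limit in `Over Y` of affine `Y`-schemes with affine apex is affine -/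
theorem exists_isAffine_stage {Y : Scheme.{u}} {J : Type u} [SmallCategory J] [IsCofiltered J]
    (D : J ⥤ Over Y) (c : Cone D) (hc : IsLimit c) (haffD : ∀ j, IsAffineHom (D.obj j).hom)
    [CompactSpace Y] [QuasiSeparatedSpace Y] [IsAffine c.pt.left] :
    ∃ j, IsAffine (D.obj j).left := by
  haveI : IsConnected J := IsCofiltered.isConnected J
  have hc' : IsLimit ((Over.forget Y).mapCone c) := isLimitOfPreserves (Over.forget Y) hc
  haveI : ∀ {i j : J} (a : i ⟶ j), IsAffineHom ((D ⋙ Over.forget Y).map a) := by
    intro i j a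
    haveI := haffD j
    haveI : IsAffineHom ((D.map a).left ≫ (D.obj j).hom) := by
      rw [Over.w]
      exact haffD i
    exact IsAffineHom.of_comp (D.map a).left (D.obj j).hom
  haveI : ∀ j, CompactSpace ((D ⋙ Over.forget Y).obj j) := by
    intro j
    haveI : IsAffineHom (D.obj j).hom := haffD j
    change CompactSpace (D.obj j).left
    exact QuasiCompact.compactSpace_of_compactSpace (D.obj j).hom
  haveI : ∀ j, QuasiSeparatedSpace ((D ⋙ Over.forget Y).obj j) := by
    intro j
    haveI : IsAffineHom (D.obj j).hom := haffD j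
    change QuasiSeparatedSpace (D.obj j).left
    exact quasiSeparatedSpace_of_quasiSeparated (D.obj j).hom
  haveI : IsAffine ((Over.forget Y).mapCone c).pt := ‹IsAffine c.pt.left›
  exact Scheme.exists_isAffine_of_isLimit (D ⋙ Over.forget Y) _ hc'

/-- Chevalley, finite case -/
theorem isAffine_of_finite {X Y : Scheme.{u}} (f : X ⟶ Y) [IsFinite f] [Surjective f] [IsAffine X]
    [CompactSpace Y] [QuasiSeparatedSpace Y] : IsAffine Y := by
  obtain ⟨I, instP, instD, instN, D, c, hc, hD, hcl, ⟨e⟩⟩ := Groth.Agent.S7381.result f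
  haveI : IsFiltered I := inferInstance
  haveI : IsCofiltered Iᵒᵖ := inferInstance
  haveI : IsIso e.hom.left := inferInstanceAs (IsIso ((Over.forget Y).map e.hom))
  haveI : IsAffine (Over.mk f).left := ‹IsAffine X›
  haveI : IsAffine c.pt.left := IsAffine.of_isIso e.hom.left
  obtain ⟨i, hi⟩ := exists_isAffine_stage D c hc (fun j => haveI := (hD j).1; inferInstance)
  haveI := hi
  haveI := (hD i).1
  haveI := (hD i).2
  have h1 : (c.π.app i).left ≫ (D.obj i).hom = c.pt.hom := Over.w _
  have h2 : e.hom.left ≫ f = c.pt.hom := Over.w e.hom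
  haveI : Surjective c.pt.hom := by rw [← h2]; infer_instance
  haveI : Surjective ((c.π.app i).left ≫ (D.obj i).hom) := by rw [h1]; infer_instance
  haveI : Surjective (D.obj i).hom := Surjective.of_comp (c.π.app i).left (D.obj i).hom
  exact isAffine_of_finite_fp (D.obj i).hom

/-- Chevalley, integral case over a qcqs base -/
theorem isAffine_of_integral {X Y : Scheme.{u}} (f : X ⟶ Y) [IsIntegralHom f] [Surjective f]
    [IsAffine X] [CompactSpace Y] [QuasiSeparatedSpace Y] : IsAffine Y := by
  obtain ⟨I, instC, instF, D, c, hc, hD, ⟨e⟩⟩ := (Groth.Agent.S17885.result f).1 inferInstance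
  haveI : IsCofiltered Iᵒᵖ := inferInstance
  haveI : IsIso e.hom.left := inferInstanceAs (IsIso ((Over.forget Y).map e.hom))
  haveI : IsAffine (Over.mk f).left := ‹IsAffine X›
  haveI : IsAffine c.pt.left := IsAffine.of_isIso e.hom.left
  obtain ⟨i, hi⟩ := exists_isAffine_stage D c hc (fun j => (hD j).1)
  haveI := hi
  haveI := (hD i).1
  haveI := (hD i).2
  set π := (c.π.app i).left with hπ
  set h := (D.obj i).hom with hh
  have hπh : π ≫ h = c.pt.hom := Over.w _
  have h2 : e.hom.left ≫ f = c.pt.hom := Over.w e.hom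
  haveI : IsIntegralHom c.pt.hom := by rw [← h2]; infer_instance
  haveI : Surjective c.pt.hom := by rw [← h2]; infer_instance
  haveI : IsIntegralHom (π ≫ h) := by rw [hπh]; infer_instance
  haveI : IsIntegralHom π := IsIntegralHom.of_comp π h
  haveI : IsIntegralHom (π.toImage ≫ π.imageι) := by rw [π.toImage_imageι]; infer_instance
  haveI : IsIntegralHom π.toImage := IsIntegralHom.of_comp π.toImage π.imageι
  haveI : Surjective π.toImage := inferInstance
  have hf'' : π.toImage ≫ (π.imageι ≫ h) = c.pt.hom := by
    rw [← Category.assoc, π.toImage_imageι, hπh]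
  haveI : UniversallyClosed (π.toImage ≫ (π.imageι ≫ h)) := by rw [hf'']; infer_instance
  haveI : UniversallyClosed (π.imageι ≫ h) := UniversallyClosed.of_comp_surjective π.toImage _
  haveI : IsIntegralHom (π.imageι ≫ h) :=
    IsIntegralHom.iff_universallyClosed_and_isAffineHom.2 ⟨inferInstance, inferInstance⟩
  haveI : IsFinite (π.imageι ≫ h) :=
    (IsFinite.iff_isIntegralHom_and_locallyOfFiniteType _).2 ⟨inferInstance, inferInstance⟩
  haveI : Surjective (π.toImage ≫ (π.imageι ≫ h)) := by rw [hf'']; infer_instance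
  haveI : Surjective (π.imageι ≫ h) := Surjective.of_comp π.toImage _
  haveI : IsAffine π.image := isAffine_of_isAffineHom π.imageι
  exact isAffine_of_finite (π.imageι ≫ h)

/-- **Chevalley** (Stacks 05YU): the target of a surjective integral morphism from an affine
scheme is affine. -/
theorem isAffine_of_isIntegralHom_of_surjective {X Y : Scheme.{u}} (f : X ⟶ Y) [IsIntegralHom f]
    [Surjective f] [IsAffine X] : IsAffine Y := by
  haveI : CompactSpace Y :=
    Groth.Agent.Lib.Helper22.ThickAffine.compactSpace_of_surjective f f.surjective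
  haveI : QuasiSeparatedSpace Y := by
    rw [quasiSeparatedSpace_iff_forall_affineOpens]
    intro U V
    have hU : IsAffineOpen (f ⁻¹ᵁ U.1) := U.2.preimage f
    have hV : IsAffineOpen (f ⁻¹ᵁ V.1) := V.2.preimage f
    have hc := (quasiSeparatedSpace_iff_forall_affineOpens (X := X)).1 inferInstance
      ⟨_, hU⟩ ⟨_, hV⟩
    have : (U ∩ V : Set Y) = f '' ((f ⁻¹ᵁ U.1 : Set X) ∩ (f ⁻¹ᵁ V.1 : Set X)) := by
      ext y
      constructor
      · rintro ⟨hyU, hyV⟩
        obtain ⟨x, rfl⟩ := f.surjective y
        exact ⟨x, ⟨hyU, hyV⟩, rfl⟩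
      · rintro ⟨x, ⟨hxU, hxV⟩, rfl⟩
        exact ⟨hxU, hxV⟩
    rw [this]
    exact hc.image f.continuous
  exact isAffine_of_integral f

end Groth.Agent.Lib.Helper11.Chev
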