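import Mathlib
import Groth.Prelude.Def_Fitting

set_option autoImplicit false
universe u v

namespace Groth.Agent.Helper18Fitt

open Matrix

variable {R : Type u} [CommRing R] {M : Type v} [AddCommGroup M] [Module R M]

/-- The ideal generated by determinants of square matrices indexed by `ι` all of whose rows outside a
set of at most `k` "free" rows are relations among the family `x`. -/
def T (k : ℕ) (ι : Type) [Fintype ι] [DecidableEq ι] (x : ι → M) : Ideal R :=
  Ideal.span {d | ∃ (a : Matrix ι ι R) (S : Finset ι), S.card ≤ k ∧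
    (∀ i, i ∉ S → ∑ j, a i j • x j = 0) ∧ d = a.det}

theorem mem_T_of {k : ℕ} {ι : Type} [Fintype ι] [DecidableEq ι] {x : ι → M}
    (a : Matrix ι ι R) (S : Finset ι) (hS : S.card ≤ k)
    (h : ∀ i, i ∉ S → ∑ j, a i j • x j = 0) : a.det ∈ T (R := R) k ι x :=
  Ideal.subset_span ⟨a, S, hS, h, rfl⟩

theorem T_le_of_equiv (k : ℕ) {ι : Type} {κ : Type} [Fintype ι] [DecidableEq ι] [Fintype κ]
    [DecidableEq κ] (e : ι ≃ κ) (x : κ → M) :
    T (R := R) k ι (x ∘ e) ≤ T k κ x := by
  unfold T
  rw [Ideal.span_le]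
  rintro d ⟨a, S, hS, h, rfl⟩
  rw [← Matrix.det_submatrix_equiv_self e.symm a]
  refine mem_T_of (a.submatrix e.symm e.symm) (S.map e.toEmbedding) (by rwa [Finset.card_map]) ?_
  intro i hi
  have hi' : e.symm i ∉ S := by
    intro h'
    apply hi
    rw [Finset.mem_map]
    exact ⟨e.symm i, h', by simp⟩
  have := h (e.symm i) hi'
  rw [← this]
  simp only [Matrix.submatrix_apply]
  rw [← Equiv.sum_comp e]
  simp

theorem T_equiv (k : ℕ) {ι : Type} {κ : Type} [Fintype ι] [DecidableEq ι] [Fintype κ]
    [DecidableEq κ] (e : ι ≃ κ) (x : κ → M) :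
    T (R := R) k ι (x ∘ e) = T k κ x := by
  apply le_antisymm (T_le_of_equiv k e x)
  have := T_le_of_equiv (R := R) k e.symm (x ∘ e)
  have h2 : (x ∘ e) ∘ e.symm = x := by
    funext i; simp
  rwa [h2] at this

/-- adding a redundant generator in front: `≥` -/
theorem T_le_cons (k : ℕ) {n : ℕ} (x : Fin n → M) (y : M) (c : Fin n → R)
    (hc : ∑ j, c j • x j = y) :
    T (R := R) k (Fin n) x ≤ T k (Fin (n + 1)) (Fin.cons y x : Fin (n + 1) → M) := by
  unfold T
  rw [Ideal.span_le]
  rintro d ⟨a, S, hS, h, rfl⟩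
  set a' : Matrix (Fin (n + 1)) (Fin (n + 1)) R :=
    Matrix.of (Fin.cons (Fin.cons (-1) c) (fun r => Fin.cons 0 (a r))) with ha'
  have hdet : a'.det = - a.det := by
    rw [Matrix.det_succ_column_zero, Fin.sum_univ_succ]
    have h0 : a'.submatrix (Fin.succAbove 0) Fin.succ = a := by
      ext i j
      simp [ha', Matrix.submatrix_apply]
    have h1 : ∀ i : Fin n, a' i.succ 0 = 0 := by
      intro i
      simp [ha']
    have h2 : a' 0 0 = -1 := by simp [ha']
    simp only [h1, mul_zero, zero_mul, Finset.sum_const_zero, add_zero, h2, h0]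
    simp
  have hmem : a'.det ∈ T (R := R) k (Fin (n + 1)) (Fin.cons y x : Fin (n + 1) → M) := by
    refine mem_T_of a' (S.map (Fin.succEmb n)) (by rwa [Finset.card_map]) ?_
    intro i
    refine Fin.cases ?_ (fun r => ?_) i
    · intro _
      rw [Fin.sum_univ_succ]
      simp only [ha', Matrix.of_apply, Fin.cons_zero, Fin.cons_succ]
      rw [hc]; simp
    · intro hi
      have hr : r ∉ S := by
        intro h'
        apply hi
        rw [Finset.mem_map]
        exact ⟨r, h', rfl⟩
      rw [Fin.sum_univ_succ]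
      simp only [ha', Matrix.of_apply, Fin.cons_zero, Fin.cons_succ, zero_smul, zero_add]
      exact h r hr
  have : a.det = - a'.det := by rw [hdet, neg_neg]
  rw [this]
  exact (Ideal.neg_mem_iff _).mpr hmem

end Groth.Agent.Helper18Fitt
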