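import Mathlib
import Groth.Agent.Lib.Helper18Fitt1

set_option autoImplicit false
universe u v

namespace Groth.Agent.Helper18Fitt

open Matrix

variable {R : Type u} [CommRing R] {M : Type v} [AddCommGroup M] [Module R M]

/-- adding a redundant generator in front: `≤` -/
theorem T_cons_le (k : ℕ) {n : ℕ} (x : Fin n → M) (y : M) (c : Fin n → R)
    (hc : ∑ j, c j • x j = y) :
    T (R := R) k (Fin (n + 1)) (Fin.cons y x : Fin (n + 1) → M) ≤ T k (Fin n) x := by
  unfold T
  rw [Ideal.span_le]
  rintro d ⟨a, S, hS, h, rfl⟩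
  -- column operation
  set a' : Matrix (Fin (n + 1)) (Fin (n + 1)) R :=
    Matrix.of (fun i j => a i j + (Fin.cons 0 c : Fin (n + 1) → R) j * a i 0) with ha'
  have hdet : a'.det = a.det := by
    rw [← Matrix.det_transpose a', ← Matrix.det_transpose a]
    apply Matrix.det_eq_of_forall_row_eq_smul_add_const (Fin.cons 0 c) 0 (by simp)
    intro i j
    simp [ha']
  rw [← hdet, Matrix.det_succ_column_zero]
  refine Ideal.sum_mem _ (fun i _ => Ideal.mul_mem_left _ _ ?_)
  refine mem_T_of _ (S.preimage i.succAbove (Fin.succAbove_right_injective.injOn)) ?_ ?_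
  · refine le_trans ?_ hS
    rw [← Finset.card_map ⟨i.succAbove, Fin.succAbove_right_injective⟩]
    apply Finset.card_le_card
    intro j hj
    rw [Finset.mem_map] at hj
    obtain ⟨r, hr, rfl⟩ := hj
    rw [Finset.mem_preimage] at hr
    exact hr
  · intro r hr
    rw [Finset.mem_preimage] at hr
    have h1 := h (i.succAbove r) hr
    rw [Fin.sum_univ_succ] at h1
    simp only [Fin.cons_zero, Fin.cons_succ] at h1
    simp only [Matrix.submatrix_apply, ha', Matrix.of_apply, Fin.cons_succ]
    simp only [add_smul, Finset.sum_add_distrib]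
    rw [← h1, add_comm]
    congr 1
    rw [← hc, Finset.smul_sum]
    refine Finset.sum_congr rfl fun j _ => ?_
    rw [mul_comm, mul_smul]

theorem T_cons (k : ℕ) {n : ℕ} (x : Fin n → M) (y : M)
    (hy : y ∈ Submodule.span R (Set.range x)) :
    T (R := R) k (Fin (n + 1)) (Fin.cons y x : Fin (n + 1) → M) = T k (Fin n) x := by
  obtain ⟨c, hc⟩ := (Submodule.mem_span_range_iff_exists_fun R).mp hy
  exact le_antisymm (T_cons_le k x y c hc) (T_le_cons k x y c hc)

end Groth.Agent.Helper18Fitt
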