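import Mathlib
import Groth.Agent.Lib.Helper18Fitt2

set_option autoImplicit false
universe u v

namespace Groth.Agent.Helper18Fitt

open Matrix

variable {R : Type u} [CommRing R] {M : Type v} [AddCommGroup M] [Module R M]

theorem T_option (k : ℕ) {ι : Type} [Fintype ι] [DecidableEq ι] (x : ι → M) (y : M)
    (hy : y ∈ Submodule.span R (Set.range x)) :
    T (R := R) k (Option ι) (fun o => o.elim y x) = T k ι x := by
  classical
  set n := Fintype.card ι
  let e : ι ≃ Fin n := Fintype.equivFin ι
  let e' : Option ι ≃ Fin (n + 1) := (Equiv.optionCongr e).trans (finSuccEquiv n).symm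
  have h1 : (fun o : Option ι => o.elim y x) = (Fin.cons y (x ∘ e.symm) : Fin (n + 1) → M) ∘ e' := by
    funext o
    cases o with
    | none => simp [e']
    | some i => simp [e']
  rw [h1, T_equiv, T_cons, T_equiv]
  have : Set.range (x ∘ e.symm) = Set.range x := by
    rw [Set.range_comp, Equiv.range_eq_univ, Set.image_univ]
  rw [this]; exact hy

/-- `Option κ ⊕ ι ≃ Option (κ ⊕ ι)` -/
def optSum (κ ι : Type) : Option κ ⊕ ι ≃ Option (κ ⊕ ι) where
  toFun s := match s with
    | Sum.inl none => none
    | Sum.inl (some a) => some (Sum.inl a)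
    | Sum.inr i => some (Sum.inr i)
  invFun o := match o with
    | none => Sum.inl none
    | some (Sum.inl a) => Sum.inl (some a)
    | some (Sum.inr i) => Sum.inr i
  left_inv s := by rcases s with (_ | a) | i <;> rfl
  right_inv o := by rcases o with _ | (a | i) <;> rfl

theorem T_sum (k : ℕ) {ι : Type} [Fintype ι] [DecidableEq ι] (x : ι → M)
    (κ : Type) [Finite κ] :
    ∀ [Fintype κ] [DecidableEq κ] (y : κ → M), (∀ l, y l ∈ Submodule.span R (Set.range x)) →
      T (R := R) k (κ ⊕ ι) (Sum.elim y x) = T k ι x := by
  classical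
  induction κ using Finite.induction_empty_option with
  | of_equiv f ih =>
    rename_i α β
    intro _ _ y hy
    have : Fintype α := Fintype.ofEquiv β f.symm
    have h1 : Sum.elim (y ∘ f) x = Sum.elim y x ∘ (Equiv.sumCongr f (Equiv.refl ι)) := by
      funext s; rcases s with a | i <;> simp
    have := ih (y ∘ f) (fun l => hy (f l))
    rw [h1, T_equiv] at this
    exact this
  | h_empty =>
    intro _ _ y _
    have h1 : Sum.elim y x = x ∘ (Equiv.emptySum PEmpty ι) := by
      funext s; rcases s with a | i
      · exact a.elim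
      · simp
    rw [h1, T_equiv]
  | h_option ih =>
    rename_i α _
    intro _ _ y hy
    have h1 : Sum.elim y x =
        (fun o : Option (α ⊕ ι) => o.elim (y none) (Sum.elim (y ∘ some) x)) ∘ optSum α ι := by
      funext s
      rcases s with (_ | a) | i <;> rfl
    rw [h1, T_equiv, T_option]
    · exact ih (y ∘ some) (fun l => hy (some l))
    · refine Submodule.span_mono ?_ (hy none)
      rintro _ ⟨i, rfl⟩
      exact ⟨Sum.inr i, rfl⟩

/-- independence of the generating family -/
theorem T_indep (k : ℕ) {ι κ : Type} [Fintype ι] [DecidableEq ι] [Fintype κ] [DecidableEq κ]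
    (x : ι → M) (y : κ → M) (hx : Submodule.span R (Set.range x) = ⊤)
    (hy : Submodule.span R (Set.range y) = ⊤) :
    T (R := R) k ι x = T k κ y := by
  have h1 := T_sum (R := R) k x κ y (fun l => by rw [hx]; trivial)
  have h2 := T_sum (R := R) k y ι x (fun l => by rw [hy]; trivial)
  have h3 : Sum.elim y x = Sum.elim x y ∘ (Equiv.sumComm κ ι) := by
    funext s; rcases s with a | i <;> simp
  rw [h3, T_equiv] at h1
  rw [← h1, h2]

end Groth.Agent.Helper18Fitt
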