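import Mathlib
import Groth.Agent.Lib.Helper18Fitt3

set_option autoImplicit false
universe u v

namespace Groth.Agent.Helper18Fitt

open Matrix

variable {R : Type u} [CommRing R] {M : Type u} [AddCommGroup M] [Module R M]

theorem exists_perm_of_card {n k : ℕ} (S : Finset (Fin n)) (hS : S.card ≤ k) :
    ∃ σ : Fin n ≃ Fin n, ∀ i : Fin n, (i : ℕ) < n - k → σ i ∉ S := by
  classical
  let p : Fin n → Prop := fun i => i ∉ S
  set m := Fintype.card {i // p i} with hm
  set m' := Fintype.card {i // ¬ p i} with hm'
  let e1 : {i // p i} ≃ Fin m := Fintype.equivFin _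
  let e2 : {i // ¬ p i} ≃ Fin m' := Fintype.equivFin _
  have hsum : m + m' = n := by
    have := Fintype.card_congr (Equiv.sumCompl p)
    rw [Fintype.card_sum, Fintype.card_fin] at this
    exact this
  have hm'S : m' = S.card := by
    rw [hm']
    have : Fintype.card {i // ¬ p i} = Fintype.card {i // i ∈ S} := by
      apply Fintype.card_congr
      exact Equiv.subtypeEquivRight (fun i => by simp [p])
    rw [this, Fintype.card_coe]
  let σ : Fin n ≃ Fin n := (finCongr hsum.symm).trans
    (finSumFinEquiv.symm.trans ((Equiv.sumCongr e1.symm e2.symm).trans (Equiv.sumCompl p)))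
  refine ⟨σ, fun i hi => ?_⟩
  have hlt : (i : ℕ) < m := by omega
  have h1 : finCongr hsum.symm i = Fin.castAdd m' ⟨i, hlt⟩ := by
    ext; simp
  have h2 : σ i = ((e1.symm ⟨i, hlt⟩ : {i // p i}) : Fin n) := by
    simp only [σ, Equiv.trans_apply, h1, finSumFinEquiv_symm_apply_castAdd, Equiv.sumCongr_apply,
      Sum.map_inl, Equiv.sumCompl_apply_inl]
  rw [h2]
  exact (e1.symm ⟨i, hlt⟩).2

theorem fitt_eq_T {n : ℕ} (x : Fin n → M) (hx : Submodule.span R (Set.range x) = ⊤) (k : ℕ) :
    Fitt.ideal R M k = T k (Fin n) x := by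
  classical
  apply le_antisymm
  · unfold Fitt.ideal
    rw [Ideal.span_le]
    rintro d ⟨n', x', a, hx', ha, rfl⟩
    rw [T_indep k x x' hx hx']
    refine mem_T_of a (Finset.univ.filter (fun i : Fin n' => n' - k ≤ (i : ℕ))) ?_ ?_
    · have h1 : (Finset.univ.filter (fun i : Fin n' => n' - k ≤ (i : ℕ))).card
          ≤ (Finset.Ico (n' - k) n').card := by
        apply Finset.card_le_card_of_injOn (fun i : Fin n' => (i : ℕ))
        · intro i hi
          simp only [Finset.coe_filter, Finset.mem_univ, true_and, Set.mem_ofPred_eq] at hi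
          simp only [Finset.coe_Ico, Set.mem_Ico]
          exact ⟨hi, i.2⟩
        · intro i _ j _ hij
          exact Fin.ext hij
      rw [Nat.card_Ico] at h1
      omega
    · intro i hi
      simp only [Finset.mem_filter, Finset.mem_univ, true_and, not_le] at hi
      exact ha i hi
  · unfold T
    rw [Ideal.span_le]
    rintro d ⟨a, S, hS, h, rfl⟩
    obtain ⟨σ, hσ⟩ := exists_perm_of_card S hS
    unfold Fitt.ideal
    apply Ideal.subset_span
    refine ⟨n, x ∘ σ, a.submatrix σ σ, ?_, ?_, (Matrix.det_submatrix_equiv_self σ a).symm⟩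
    · rw [Set.range_comp, Equiv.range_eq_univ, Set.image_univ]; exact hx
    · intro i hi
      have := h (σ i) (hσ i hi)
      rw [← this]
      simp only [Matrix.submatrix_apply, Function.comp_apply]
      exact Equiv.sum_comp σ (fun j => a (σ i) j • x j)

end Groth.Agent.Helper18Fitt
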