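import Mathlib
import Groth.Agent.Lib.Helper18Fitt4

set_option autoImplicit false
universe u v

namespace Groth.Agent.Helper18Fitt

open Matrix

variable {R : Type u} [CommRing R] {M : Type v} [AddCommGroup M] [Module R M]

/-- the ideal of `s × s` minors of relation rows -/
def minors {n : ℕ} (x : Fin n → M) (s : ℕ) : Ideal R :=
  Ideal.span {d | ∃ (z : Fin s → (Fin n → R)) (e : Fin s → Fin n),
    (∀ j, ∑ i, z j i • x i = 0) ∧ d = (Matrix.of fun a b => z b (e a)).det}

/-- Laplace: a `p × p` matrix, all of whose rows outside `S` are relation rows pulled back along a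
column map, has determinant in the ideal of `(p - q)`-minors when `|S| ≤ q`. -/
theorem det_mem_minors {n : ℕ} (x : Fin n → M) (q : ℕ) :
    ∀ (p : ℕ) (A : Matrix (Fin p) (Fin p) R) (e : Fin p → Fin n) (S : Finset (Fin p)),
      S.card ≤ q →
      (∀ i, i ∉ S → ∃ z : Fin n → R, (∑ j, z j • x j = 0) ∧ ∀ j, A i j = z (e j)) →
      A.det ∈ minors (R := R) x (p - q) := by
  induction q with
  | zero =>
    intro p A e S hS h
    have hS' : S = ∅ := Finset.card_eq_zero.mp (Nat.le_zero.mp hS)
    subst hS'
    choose z hz1 hz2 using fun i => h i (Finset.notMem_empty i)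
    unfold minors
    apply Ideal.subset_span
    refine ⟨z, e, hz1, ?_⟩
    rw [← Matrix.det_transpose]
    congr 1
    ext i j
    simp [hz2]
  | succ q ih =>
    intro p A e S hS h
    rcases p with _ | p
    · -- `0 × 0`
      rw [show 0 - (q + 1) = 0 by omega, Matrix.det_isEmpty]
      unfold minors
      apply Ideal.subset_span
      refine ⟨fun j => j.elim0, fun j => j.elim0, fun j => j.elim0, ?_⟩
      simp
    · -- choose a row
      obtain ⟨i₀, hi₀⟩ : ∃ i₀ : Fin (p + 1), S = ∅ ∨ i₀ ∈ S := by
        rcases S.eq_empty_or_nonempty with h0 | ⟨i, hi⟩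
        · exact ⟨0, Or.inl h0⟩
        · exact ⟨i, Or.inr hi⟩
      rw [Matrix.det_succ_row A i₀]
      refine Ideal.sum_mem _ (fun j _ => Ideal.mul_mem_left _ _ ?_)
      have hpq : p + 1 - (q + 1) = p - q := by omega
      rw [hpq]
      refine ih p _ (e ∘ j.succAbove)
        (S.preimage i₀.succAbove (Fin.succAbove_right_injective.injOn)) ?_ ?_
      · -- card
        have hmap : (S.preimage i₀.succAbove (Fin.succAbove_right_injective.injOn)).map
            ⟨i₀.succAbove, Fin.succAbove_right_injective⟩ ⊆ S.erase i₀ := by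
          intro r hr
          rw [Finset.mem_map] at hr
          obtain ⟨r', hr', rfl⟩ := hr
          rw [Finset.mem_preimage] at hr'
          rw [Finset.mem_erase]
          exact ⟨Fin.succAbove_ne i₀ r', hr'⟩
        have h1 := Finset.card_le_card hmap
        rw [Finset.card_map] at h1
        rcases hi₀ with h0 | h0
        · subst h0
          simp
        · rw [Finset.card_erase_of_mem h0] at h1
          omega
      · intro r hr
        rw [Finset.mem_preimage] at hr
        obtain ⟨z, hz1, hz2⟩ := h (i₀.succAbove r) hr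
        exact ⟨z, hz1, fun j' => by simp [Matrix.submatrix_apply, hz2]⟩

theorem T_le_minors {n : ℕ} (x : Fin n → M) (k : ℕ) :
    T (R := R) k (Fin n) x ≤ minors x (n - k) := by
  unfold T
  rw [Ideal.span_le]
  rintro d ⟨a, S, hS, h, rfl⟩
  exact det_mem_minors x k n a id S hS (fun i hi => ⟨a i, h i hi, fun j => rfl⟩)

end Groth.Agent.Helper18Fitt
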