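import Mathlib
import Groth.Agent.Lib.Helper18Fitt5

set_option autoImplicit false
universe u v

namespace Groth.Agent.Helper18Fitt

open Matrix

variable {R : Type u} [CommRing R] {M : Type v} [AddCommGroup M] [Module R M]

theorem minors_le_T {n : ℕ} (x : Fin n → M) (k : ℕ) :
    minors (R := R) x (n - k) ≤ T k (Fin n) x := by
  classical
  unfold minors
  rw [Ideal.span_le]
  rintro d ⟨z, e, hz, rfl⟩
  by_cases he : Function.Injective e
  · -- block matrix
    let κ := ↥(Set.range e)ᶜ
    let φ : Fin (n - k) ⊕ κ ≃ Fin n :=
      (Equiv.sumCongr (Equiv.ofInjective e he) (Equiv.refl κ)).trans (Equiv.Set.sumCompl (Set.range e))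
    have hφl : ∀ a, φ (Sum.inl a) = e a := fun a => by
      simp only [φ, Equiv.trans_apply, Equiv.sumCongr_apply, Sum.map_inl]
      exact Equiv.Set.sumCompl_apply_inl _ _
    have hφr : ∀ c : κ, φ (Sum.inr c) = c.1 := fun c => by
      simp only [φ, Equiv.trans_apply, Equiv.sumCongr_apply, Sum.map_inr]
      exact Equiv.Set.sumCompl_apply_inr _ _
    let A' : Matrix (Fin (n - k) ⊕ κ) (Fin (n - k) ⊕ κ) R :=
      Matrix.fromBlocks (Matrix.of fun b a => z b (e a)) (Matrix.of fun b (c : κ) => z b c.1) 0 1
    have hdet : A'.det = (Matrix.of fun a b => z b (e a)).det := by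
      rw [Matrix.det_fromBlocks_zero₂₁, Matrix.det_one, mul_one, ← Matrix.det_transpose]
      rfl
    rw [← hdet, ← T_equiv k φ x]
    refine mem_T_of A' (Finset.univ.map ⟨Sum.inr, Sum.inr_injective⟩) ?_ ?_
    · rw [Finset.card_map, Finset.card_univ]
      have h1 : Fintype.card κ = n - Fintype.card (Set.range e) := by
        rw [Fintype.card_compl_set, Fintype.card_fin]
      have h2 : Fintype.card (Set.range e) = n - k := by
        rw [Set.card_range_of_injective he, Fintype.card_fin]
      rw [h1, h2]
      omega
    · intro i hi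
      rcases i with b | c
      · have hrow : ∀ col, A' (Sum.inl b) col = z b (φ col) := by
          intro col
          rcases col with a | c
          · rw [hφl]; rfl
          · rw [hφr]; rfl
        simp only [hrow, Function.comp_apply]
        rw [Equiv.sum_comp φ (fun j => z b j • x j)]
        exact hz b
      · exfalso
        apply hi
        rw [Finset.mem_map]
        exact ⟨c, Finset.mem_univ _, rfl⟩
  · -- repeated row
    rw [Function.Injective] at he
    push Not at he
    obtain ⟨a, a', hea, hne⟩ := he
    rw [Matrix.det_zero_of_row_eq hne]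
    · exact Ideal.zero_mem _
    · funext b
      simp [hea]

theorem fitt_eq_minors {R : Type u} [CommRing R] {M : Type u} [AddCommGroup M] [Module R M]
    {n : ℕ} (x : Fin n → M) (hx : Submodule.span R (Set.range x) = ⊤) (k : ℕ) :
    Fitt.ideal R M k = minors x (n - k) := by
  rw [fitt_eq_T x hx k]
  exact le_antisymm (T_le_minors x k) (minors_le_T x k)

end Groth.Agent.Helper18Fitt
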