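import Mathlib
import Groth.Agent.Lib.Helper18Fitt6

set_option autoImplicit false
universe u v

namespace Groth.Agent.Helper18Fitt

open Matrix

variable {R : Type u} [CommRing R] {M : Type v} [AddCommGroup M] [Module R M]

/-- the minor as a multilinear map in the relation rows -/
noncomputable def minorML {n s : ℕ} (e : Fin s → Fin n) :
    MultilinearMap R (fun _ : Fin s => (Fin n → R)) R :=
  (Matrix.detRowAlternating (R := R) (n := Fin s)).toMultilinearMap.compLinearMap
    (fun _ => LinearMap.funLeft R R e)

theorem minorML_apply {n s : ℕ} (e : Fin s → Fin n) (z : Fin s → (Fin n → R)) :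
    minorML e z = (Matrix.of fun a b => z b (e a)).det := by
  rw [← Matrix.det_transpose]
  rfl

/-- minors of rows in the span of `W` lie in the ideal of minors of rows in `W` -/
theorem minor_mem_of_span {n s : ℕ} (W : Finset (Fin n → R)) (e : Fin s → Fin n)
    (z : Fin s → (Fin n → R)) (hz : ∀ b, z b ∈ Submodule.span R (W : Set (Fin n → R))) :
    (Matrix.of fun a b => z b (e a)).det ∈
      Ideal.span {d | ∃ (w : Fin s → (Fin n → R)) (e : Fin s → Fin n), (∀ b, w b ∈ W) ∧
        d = (Matrix.of fun a b => w b (e a)).det} := by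
  classical
  have h1 : ∀ b, ∃ c : (Fin n → R) → R, z b = ∑ w ∈ W, c w • w := by
    intro b
    obtain ⟨c, hc⟩ := (Submodule.mem_span_finset'.mp (hz b))
    refine ⟨fun w => if h : w ∈ W then c ⟨w, h⟩ else 0, ?_⟩
    rw [← hc, ← Finset.sum_attach W]
    refine Finset.sum_congr rfl fun w _ => ?_
    simp
  choose c hc using h1
  rw [← minorML_apply]
  have : z = fun b => ∑ w ∈ W, c b w • w := funext hc
  rw [this, MultilinearMap.map_sum_finset]
  refine Ideal.sum_mem _ (fun r hr => ?_)
  rw [Fintype.mem_piFinset] at hr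
  rw [MultilinearMap.map_smul_univ, smul_eq_mul]
  refine Ideal.mul_mem_left _ _ (Ideal.subset_span ⟨r, e, hr, ?_⟩)
  rw [minorML_apply]

theorem minors_fg_of_ker_fg {n : ℕ} (x : Fin n → M) (s : ℕ)
    (hfg : (LinearMap.ker (Fintype.linearCombination R x)).FG) :
    (minors (R := R) x s).FG := by
  classical
  obtain ⟨W, hW⟩ := hfg
  have hWker : ∀ w ∈ W, ∑ i, w i • x i = 0 := by
    intro w hw
    have : w ∈ LinearMap.ker (Fintype.linearCombination R x) := by
      rw [← hW]; exact Submodule.subset_span hw
    rw [LinearMap.mem_ker, Fintype.linearCombination_apply] at this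
    exact this
  set G : Set R := {d | ∃ (w : Fin s → (Fin n → R)) (e : Fin s → Fin n), (∀ b, w b ∈ W) ∧
        d = (Matrix.of fun a b => w b (e a)).det} with hG
  have hGfin : G.Finite := by
    have : G ⊆ Set.range (fun p : (Fin s → W) × (Fin s → Fin n) =>
        (Matrix.of fun a b => (p.1 b : Fin n → R) (p.2 a)).det) := by
      rintro d ⟨w, e, hw, rfl⟩
      exact ⟨(fun b => ⟨w b, hw b⟩, e), rfl⟩
    exact (Set.finite_range _).subset this
  have heq : minors (R := R) x s = Ideal.span G := by
    apply le_antisymm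
    · unfold minors
      rw [Ideal.span_le]
      rintro d ⟨z, e, hz, rfl⟩
      refine minor_mem_of_span W e z (fun b => ?_)
      rw [hW, LinearMap.mem_ker, Fintype.linearCombination_apply]
      exact hz b
    · rw [Ideal.span_le]
      rintro d ⟨w, e, hw, rfl⟩
      exact Ideal.subset_span ⟨w, e, fun j => hWker _ (hw j), rfl⟩
  rw [heq]
  exact ⟨hGfin.toFinset, by simp⟩

end Groth.Agent.Helper18Fitt
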