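import Mathlib
import Groth.Agent.Lib.Helper18Fitt7

set_option autoImplicit false
universe u v

namespace Groth.Agent.Helper18Fitt

open Matrix

theorem fitt_top_of_gens {R : Type u} [CommRing R] {M : Type u} [AddCommGroup M] [Module R M]
    (n : ℕ) (x : Fin n → M) (hx : Submodule.span R (Set.range x) = ⊤) :
    Fitt.ideal R M n = ⊤ := by
  rw [fitt_eq_T x hx n, Ideal.eq_top_iff_one]
  have := mem_T_of (R := R) (k := n) (x := x) (1 : Matrix (Fin n) (Fin n) R) Finset.univ
    (by simp) (fun i hi => absurd (Finset.mem_univ i) hi)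
  rwa [Matrix.det_one] at this

theorem fitt_fg_of_fp {R : Type u} [CommRing R] {M : Type u} [AddCommGroup M] [Module R M]
    [Module.Finite R M] (hfp : Module.FinitePresentation R M) (k : ℕ) :
    (Fitt.ideal R M k).FG := by
  obtain ⟨n, x, hx⟩ := Module.Finite.exists_fin (R := R) (M := M)
  rw [fitt_eq_minors x hx k]
  apply minors_fg_of_ker_fg
  apply Module.FinitePresentation.fg_ker
  rw [← LinearMap.range_eq_top, Fintype.range_linearCombination]
  exact hx

theorem fitt_le_of_surjective {R : Type u} [CommRing R] {M M' : Type u} [AddCommGroup M]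
    [Module R M] [AddCommGroup M'] [Module R M'] (f : M →ₗ[R] M') (hf : Function.Surjective f)
    (k : ℕ) : Fitt.ideal R M k ≤ Fitt.ideal R M' k := by
  unfold Fitt.ideal
  rw [Ideal.span_le]
  rintro d ⟨n, x, a, hx, ha, rfl⟩
  apply Ideal.subset_span
  refine ⟨n, f ∘ x, a, ?_, ?_, rfl⟩
  · rw [Set.range_comp, ← Submodule.map_span, hx, Submodule.map_top, LinearMap.range_eq_top]
    exact hf
  · intro i hi
    have := congrArg f (ha i hi)
    simpa [map_sum] using this

end Groth.Agent.Helper18Fitt
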