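import Mathlib
import Groth.Agent.Lib.Helper18Fitt8

set_option autoImplicit false
universe u v

namespace Groth.Agent.Helper18Fitt

open Matrix TensorProduct

variable {R R' : Type u} [CommRing R] [CommRing R'] [Algebra R R']
  {M : Type u} [AddCommGroup M] [Module R M]

theorem lTensor_eq_sum {n : ℕ} (x : Fin n → M) (t : R' ⊗[R] (Fin n → R)) :
    (Fintype.linearCombination R x).lTensor R' t =
      ∑ i, (TensorProduct.piScalarRight R R' R' (Fin n) t) i • ((1 : R') ⊗ₜ[R] x i) := by
  induction t using TensorProduct.induction_on with
  | zero => simp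
  | tmul r v =>
    rw [LinearMap.lTensor_tmul, Fintype.linearCombination_apply, TensorProduct.tmul_sum]
    refine Finset.sum_congr rfl fun i _ => ?_
    rw [TensorProduct.piScalarRight_apply, TensorProduct.piScalarRightHom_tmul,
      TensorProduct.smul_tmul', smul_eq_mul, mul_one, TensorProduct.tmul_smul,
      TensorProduct.smul_tmul']
  | add a b ha hb =>
    rw [map_add, ha, hb, map_add, ← Finset.sum_add_distrib]
    refine Finset.sum_congr rfl fun i _ => ?_
    rw [Pi.add_apply, add_smul]

theorem rel_mem_span {n : ℕ} (x : Fin n → M) (hx : Submodule.span R (Set.range x) = ⊤)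
    (z' : Fin n → R') (h : ∑ i, z' i • ((1 : R') ⊗ₜ[R] x i) = 0) :
    z' ∈ Submodule.span R' {w : Fin n → R' | ∃ z : Fin n → R, (∑ i, z i • x i = 0) ∧
      w = fun i => algebraMap R R' (z i)} := by
  set π := Fintype.linearCombination R x with hπ
  have hsurj : Function.Surjective π := by
    rw [← LinearMap.range_eq_top, Fintype.range_linearCombination]; exact hx
  set Φ := TensorProduct.piScalarRight R R' R' (Fin n) with hΦ
  have hex := lTensor_exact R' (LinearMap.exact_subtype_ker_map π) hsurj
  have ht : π.lTensor R' (Φ.symm z') = 0 := by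
    rw [lTensor_eq_sum, ← hΦ, LinearEquiv.apply_symm_apply]; exact h
  obtain ⟨s, hs⟩ := (hex (Φ.symm z')).mp ht
  have hz' : z' = Φ ((LinearMap.ker π).subtype.lTensor R' s) := by
    rw [hs, LinearEquiv.apply_symm_apply]
  rw [hz']
  clear hz' hs ht h
  induction s using TensorProduct.induction_on with
  | zero => simp
  | tmul r z =>
    rw [LinearMap.lTensor_tmul, hΦ, TensorProduct.piScalarRight_apply,
      TensorProduct.piScalarRightHom_tmul]
    have : (fun j => ((LinearMap.ker π).subtype z) j • r)
        = r • (fun j => algebraMap R R' ((z : Fin n → R) j)) := by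
      funext j
      simp [Algebra.smul_def, mul_comm]
    rw [this]
    refine Submodule.smul_mem _ _ (Submodule.subset_span ⟨z, ?_, rfl⟩)
    have := z.2
    rw [LinearMap.mem_ker] at this
    rw [← Fintype.linearCombination_apply R x]
    exact this
  | add a b ha hb =>
    rw [map_add, map_add]
    exact Submodule.add_mem _ ha hb

end Groth.Agent.Helper18Fitt
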