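import Mathlib
import Groth.Agent.Lib.Helper18Fitt9

set_option autoImplicit false
universe u v

namespace Groth.Agent.Helper18Fitt

open Matrix TensorProduct

variable {R R' : Type u} [CommRing R] [CommRing R'] [Algebra R R']
  {M : Type u} [AddCommGroup M] [Module R M]

theorem span_one_tmul {n : ℕ} (x : Fin n → M) (hx : Submodule.span R (Set.range x) = ⊤) :
    Submodule.span R' (Set.range fun i => (1 : R') ⊗ₜ[R] x i) = ⊤ := by
  rw [eq_top_iff]
  rintro t -
  induction t using TensorProduct.induction_on with
  | zero => exact Submodule.zero_mem _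
  | tmul r m =>
    have hm : m ∈ Submodule.span R (Set.range x) := by rw [hx]; trivial
    induction hm using Submodule.span_induction with
    | mem y hy =>
      obtain ⟨i, rfl⟩ := hy
      have : r ⊗ₜ[R] x i = r • ((1 : R') ⊗ₜ[R] x i) := by
        rw [TensorProduct.smul_tmul', smul_eq_mul, mul_one]
      rw [this]
      exact Submodule.smul_mem _ _ (Submodule.subset_span ⟨i, rfl⟩)
    | zero => rw [TensorProduct.tmul_zero]; exact Submodule.zero_mem _
    | add a b _ _ ha hb => rw [TensorProduct.tmul_add]; exact Submodule.add_mem _ ha hb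
    | smul c a _ ha =>
      rw [TensorProduct.tmul_smul, ← algebraMap_smul R' c (r ⊗ₜ[R] a)]
      exact Submodule.smul_mem _ _ ha
  | add a b ha hb => exact Submodule.add_mem _ ha hb

theorem map_minor {n s : ℕ} (z : Fin s → (Fin n → R)) (e : Fin s → Fin n) :
    algebraMap R R' (Matrix.of fun a b => z b (e a)).det
      = (Matrix.of fun a b => (fun i => algebraMap R R' (z b i)) (e a)).det := by
  rw [RingHom.map_det]
  rfl

theorem minors_baseChange {n : ℕ} (x : Fin n → M) (hx : Submodule.span R (Set.range x) = ⊤)
    (s : ℕ) :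
    minors (R := R') (fun i => (1 : R') ⊗ₜ[R] x i) s = (minors (R := R) x s).map (algebraMap R R') := by
  classical
  apply le_antisymm
  · unfold minors
    rw [Ideal.span_le]
    rintro d ⟨z', e, hz', rfl⟩
    -- finite set of base-changed relations
    have h1 : ∀ b, ∃ T : Finset (Fin n → R'),
        (T : Set (Fin n → R')) ⊆ {w : Fin n → R' | ∃ z : Fin n → R, (∑ i, z i • x i = 0) ∧
          w = fun i => algebraMap R R' (z i)} ∧ z' b ∈ Submodule.span R' (T : Set (Fin n → R')) :=
      fun b => Submodule.mem_span_finite_of_mem_span (rel_mem_span x hx (z' b) (hz' b))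
    choose T hT1 hT2 using h1
    set W : Finset (Fin n → R') := Finset.univ.biUnion T with hW
    have hz'W : ∀ b, z' b ∈ Submodule.span R' (W : Set (Fin n → R')) := by
      intro b
      refine Submodule.span_mono ?_ (hT2 b)
      intro w hw
      rw [hW, Finset.coe_biUnion]
      exact Set.mem_iUnion₂.mpr ⟨b, Finset.mem_coe.mpr (Finset.mem_univ b), hw⟩
    have hWrel : ∀ w ∈ W, ∃ z : Fin n → R, (∑ i, z i • x i = 0) ∧
        w = fun i => algebraMap R R' (z i) := by
      intro w hw
      rw [hW, Finset.mem_biUnion] at hw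
      obtain ⟨b, -, hb⟩ := hw
      exact hT1 b hb
    refine (Ideal.span_le.mpr ?_) (minor_mem_of_span W e z' hz'W)
    rintro d ⟨w, e', hw, rfl⟩
    choose z hz1 hz2 using fun b => hWrel (w b) (hw b)
    have : (Matrix.of fun a b => w b (e' a)).det
        = algebraMap R R' (Matrix.of fun a b => z b (e' a)).det := by
      rw [map_minor]
      congr 1
      ext a b
      simp only [Matrix.of_apply]
      rw [hz2 b]
    rw [this]
    exact Ideal.mem_map_of_mem _ (Ideal.subset_span ⟨z, e', hz1, rfl⟩)
  · rw [Ideal.map_le_iff_le_comap]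
    unfold minors
    rw [Ideal.span_le]
    rintro d ⟨z, e, hz, rfl⟩
    rw [SetLike.mem_coe, Ideal.mem_comap, map_minor]
    apply Ideal.subset_span
    refine ⟨fun b i => algebraMap R R' (z b i), e, fun b => ?_, rfl⟩
    have := congrArg (fun m => (1 : R') ⊗ₜ[R] m) (hz b)
    simp only [TensorProduct.tmul_sum, TensorProduct.tmul_zero, TensorProduct.tmul_smul] at this
    rw [← this]
    refine Finset.sum_congr rfl fun i _ => ?_
    rw [algebraMap_smul]

theorem fitt_baseChange [Module.Finite R M] (k : ℕ) :
    Fitt.ideal R' (R' ⊗[R] M) k = (Fitt.ideal R M k).map (algebraMap R R') := by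
  obtain ⟨n, x, hx⟩ := Module.Finite.exists_fin (R := R) (M := M)
  rw [fitt_eq_minors x hx k, fitt_eq_minors (fun i => (1 : R') ⊗ₜ[R] x i) (span_one_tmul x hx) k,
    minors_baseChange x hx]

end Groth.Agent.Helper18Fitt
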