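import Mathlib
import Groth.Agent.Lib.Helper18Fitt10

set_option autoImplicit false
universe u v

namespace Groth.Agent.Helper18Fitt

open Matrix TensorProduct

theorem fitt_congr {R : Type u} [CommRing R] {M M' : Type u} [AddCommGroup M]
    [Module R M] [AddCommGroup M'] [Module R M'] (e : M ≃ₗ[R] M') (k : ℕ) :
    Fitt.ideal R M k = Fitt.ideal R M' k :=
  le_antisymm (fitt_le_of_surjective e.toLinearMap e.surjective k)
    (fitt_le_of_surjective e.symm.toLinearMap e.symm.surjective k)

theorem fitt_localizedModule {R : Type u} [CommRing R] {M : Type u} [AddCommGroup M]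
    [Module R M] [Module.Finite R M] (S : Submonoid R) (k : ℕ) :
    Fitt.ideal (Localization S) (LocalizedModule S M) k
      = (Fitt.ideal R M k).map (algebraMap R (Localization S)) := by
  rw [← fitt_baseChange (R' := Localization S) (M := M) k]
  exact (fitt_congr (LocalizedModule.isBaseChange S M).equiv k).symm

theorem minors_zero_eq_top {R : Type u} [CommRing R] {M : Type v} [AddCommGroup M] [Module R M]
    {n : ℕ} (x : Fin n → M) : minors (R := R) x 0 = ⊤ := by
  rw [Ideal.eq_top_iff_one]
  unfold minors
  apply Ideal.subset_span
  refine ⟨fun j => j.elim0, fun j => j.elim0, fun j => j.elim0, ?_⟩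
  simp

/-- Fitting ideals of a finite-dimensional vector space -/
theorem fitt_field {K : Type u} [Field K] {V : Type u} [AddCommGroup V] [Module K V]
    [Module.Finite K V] (k : ℕ) :
    Fitt.ideal K V k ≠ ⊥ ↔ Module.finrank K V ≤ k := by
  set d := Module.finrank K V with hd
  let b : Module.Basis (Fin d) K V := Module.finBasis K V
  have hb : Submodule.span K (Set.range b) = ⊤ := b.span_eq
  rw [fitt_eq_minors (⇑b) hb k]
  constructor
  · intro h
    by_contra hlt
    push Not at hlt
    apply h
    rw [eq_bot_iff]
    unfold minors
    rw [Ideal.span_le]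
    rintro _ ⟨z, e, hz, rfl⟩
    have hz0 : ∀ j, z j = 0 := by
      intro j
      funext i
      exact (Fintype.linearIndependent_iff.mp b.linearIndependent) (z j) (hz j) i
    have : (Matrix.of fun a b => z b (e a)) = (0 : Matrix (Fin (d - k)) (Fin (d - k)) K) := by
      ext a b
      simp [hz0]
    rw [this]
    have : Nonempty (Fin (d - k)) := ⟨⟨0, by omega⟩⟩
    rw [Matrix.det_zero]
    exact Ideal.zero_mem _
  · intro h
    have : d - k = 0 := by omega
    rw [this, minors_zero_eq_top]
    exact top_ne_bot

end Groth.Agent.Helper18Fitt
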