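import Mathlib
import Groth.Agent.Lib.Helper18Fitt11
import Groth.Agent.S6891

set_option autoImplicit false
universe u v

namespace Groth.Agent.Helper18Fitt

open Matrix TensorProduct

theorem gens_of_minor {R : Type u} [CommRing R] {M : Type u} [AddCommGroup M] [Module R M]
    (S : Submonoid R) {n : ℕ} (x : Fin n → M) (hx : Submodule.span R (Set.range x) = ⊤) (k : ℕ)
    (z : Fin (n - k) → (Fin n → R)) (e : Fin (n - k) → Fin n) (hz : ∀ j, ∑ i, z j i • x i = 0)
    (hd : (Matrix.of fun a b => z b (e a)).det ∈ S) :
    ∃ g : Fin k → LocalizedModule S M, Submodule.span (Localization S) (Set.range g) = ⊤ := by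
  classical
  let ι := LocalizedModule.mkLinearMap S M
  let y : Fin n → LocalizedModule S M := fun j => ι (x j)
  have hy : Submodule.span (Localization S) (Set.range y) = ⊤ := by
    have := span_eq_top_of_isLocalizedModule (Localization S) S ι hx
    rwa [← Set.range_comp] at this
  by_cases he : Function.Injective e
  · let N : Submodule (Localization S) (LocalizedModule S M) :=
      Submodule.span (Localization S) (y '' {j | j ∉ Set.range e})
    have hN : N = ⊤ := by
      rw [eq_top_iff, ← hy, Submodule.span_le]
      rintro _ ⟨j, rfl⟩
      by_cases hj : j ∈ Set.range e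
      · obtain ⟨a, rfl⟩ := hj
        let w : Fin n → (LocalizedModule S M) ⧸ N := fun j => N.mkQ (y j)
        let v : Fin (n - k) → (LocalizedModule S M) ⧸ N := fun a => w (e a)
        have hw0 : ∀ j, j ∉ Set.range e → w j = 0 := by
          intro j hj
          simp only [w, Submodule.mkQ_apply, Submodule.Quotient.mk_eq_zero]
          exact Submodule.subset_span ⟨j, hj, rfl⟩
        have hwrel : ∀ b, ∑ j, z b j • w j = 0 := by
          intro b
          have h1 : ∑ j, z b j • w j = N.mkQ (ι (∑ j, z b j • x j)) := by
            simp only [map_sum, map_smul, w, y]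
            refine Finset.sum_congr rfl fun j _ => ?_
            rw [← algebraMap_smul (Localization S) (z b j) (ι (x j)), map_smul, algebraMap_smul]
          rw [h1, hz b, map_zero, map_zero]
        have hrel : ∀ b, ∑ a, (Matrix.of fun b a => z b (e a)) b a • v a = 0 := by
          intro b
          rw [← hwrel b]
          refine Finset.sum_of_injOn e he.injOn (fun _ _ => Finset.mem_coe.mpr (Finset.mem_univ _))
            ?_ (fun a _ => rfl)
          intro j _ hj
          rw [hw0 j (fun ⟨a, ha⟩ => hj ⟨a, Finset.mem_coe.mpr (Finset.mem_univ _), ha⟩), smul_zero]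
        have h2 := Groth.Agent.S6891.det_smul_eq_zero v (Matrix.of fun b a => z b (e a)) hrel a
        have hdet : (Matrix.of fun b a => z b (e a)).det = (Matrix.of fun a b => z b (e a)).det := by
          rw [← Matrix.det_transpose]; rfl
        rw [hdet, ← algebraMap_smul (Localization S)] at h2
        have hu : IsUnit (algebraMap R (Localization S) (Matrix.of fun a b => z b (e a)).det) :=
          IsLocalization.map_units (Localization S) ⟨_, hd⟩
        rw [hu.smul_eq_zero] at h2
        simp only [v, w, Submodule.mkQ_apply, Submodule.Quotient.mk_eq_zero] at h2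
        exact h2
      · exact Submodule.subset_span ⟨j, hj, rfl⟩
    -- enumerate the complement
    let κ := {j : Fin n // j ∉ Set.range e}
    set c := Fintype.card κ with hc
    have hck : c ≤ k := by
      have h1 : Fintype.card κ = n - Fintype.card (Set.range e) := by
        have := Fintype.card_compl_set (Set.range e)
        rw [Fintype.card_fin] at this
        rw [← this]
        exact Fintype.card_congr (Equiv.refl _)
      have h2 : Fintype.card (Set.range e) = n - k := by
        rw [Set.card_range_of_injective he, Fintype.card_fin]
      rw [hc, h1, h2]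
      omega
    let eq : κ ≃ Fin c := Fintype.equivFin κ
    refine ⟨fun i => if h : (i : ℕ) < c then y (eq.symm ⟨i, h⟩).1 else 0, ?_⟩
    rw [eq_top_iff, ← hN]
    apply Submodule.span_le.mpr
    rintro _ ⟨j, hj, rfl⟩
    apply Submodule.subset_span
    refine ⟨⟨(eq ⟨j, hj⟩ : ℕ), lt_of_lt_of_le (eq ⟨j, hj⟩).2 hck⟩, ?_⟩
    simp only [Fin.is_lt, dite_true, Fin.eta, Equiv.symm_apply_apply]
  · -- degenerate: the minor is zero
    have h0 : (Matrix.of fun a b => z b (e a)).det = 0 := by
      rw [Function.Injective] at he
      push Not at he
      obtain ⟨a, a', hea, hne⟩ := he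
      apply Matrix.det_zero_of_row_eq hne
      funext b
      simp [hea]
    rw [h0] at hd
    have : Subsingleton (LocalizedModule S M) := LocalizedModule.subsingleton hd
    refine ⟨fun _ => 0, ?_⟩
    rw [eq_top_iff]
    intro l _
    rw [Subsingleton.elim l 0]
    exact Submodule.zero_mem _

end Groth.Agent.Helper18Fitt
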