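import Mathlib
import Groth.Agent.Lib.Helper18Fitt12

set_option autoImplicit false
universe u v

namespace Groth.Agent.Helper18Fitt

open Matrix TensorProduct

variable {R : Type u} [CommRing R] (M : Type u) [AddCommGroup M] [Module R M] [Module.Finite R M]

theorem not_le_iff_finrank (k : ℕ) (p : Ideal R) [p.IsPrime] :
    ¬ Fitt.ideal R M k ≤ p ↔ Module.finrank p.ResidueField (p.ResidueField ⊗[R] M) ≤ k := by
  rw [← fitt_field (K := p.ResidueField) (V := p.ResidueField ⊗[R] M) k, fitt_baseChange, Ne,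
    Ideal.map_eq_bot_iff_le_ker, Ideal.ker_algebraMap_residueField]

theorem not_le_of_gens (k : ℕ) (p : Ideal R) [p.IsPrime] (S : Submonoid R)
    (hS : Disjoint (S : Set R) (p : Set R))
    (g : Fin k → LocalizedModule S M)
    (hg : Submodule.span (Localization S) (Set.range g) = ⊤) : ¬ Fitt.ideal R M k ≤ p := by
  intro hle
  have h1 := fitt_top_of_gens k g hg
  rw [fitt_localizedModule] at h1
  have h2 : p.map (algebraMap R (Localization S)) ≠ ⊤ :=
    (IsLocalization.map_algebraMap_ne_top_iff_disjoint S (Localization S) p).mpr hS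
  apply h2
  rw [eq_top_iff, ← h1]
  exact Ideal.map_mono hle

omit [Module.Finite R M] in
theorem exists_minor_notMem (k : ℕ) (p : Ideal R) (h : ¬ Fitt.ideal R M k ≤ p)
    {n : ℕ} (x : Fin n → M) (hx : Submodule.span R (Set.range x) = ⊤) :
    ∃ (z : Fin (n - k) → (Fin n → R)) (e : Fin (n - k) → Fin n),
      (∀ j, ∑ i, z j i • x i = 0) ∧ (Matrix.of fun a b => z b (e a)).det ∉ p := by
  by_contra hcon
  push Not at hcon
  apply h
  rw [fitt_eq_minors x hx k]
  unfold minors
  rw [Ideal.span_le]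
  rintro _ ⟨z, e, hz, rfl⟩
  exact hcon z e hz

theorem main_S6894 (k : ℕ) (p : Ideal R) [p.IsPrime] :
    (¬ Fitt.ideal R M k ≤ p ↔ Module.finrank p.ResidueField (p.ResidueField ⊗[R] M) ≤ k) ∧
    (¬ Fitt.ideal R M k ≤ p ↔
      ∃ g : Fin k → LocalizedModule p.primeCompl M,
        Submodule.span (Localization.AtPrime p) (Set.range g) = ⊤) ∧
    (¬ Fitt.ideal R M k ≤ p ↔ ∃ f : R, f ∉ p ∧
      ∃ g : Fin k → LocalizedModule (Submonoid.powers f) M,
        Submodule.span (Localization.Away f) (Set.range g) = ⊤) := by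
  obtain ⟨n, x, hx⟩ := Module.Finite.exists_fin (R := R) (M := M)
  refine ⟨not_le_iff_finrank M k p, ⟨fun h => ?_, fun ⟨g, hg⟩ => ?_⟩, ⟨fun h => ?_, ?_⟩⟩
  · obtain ⟨z, e, hz, hd⟩ := exists_minor_notMem M k p h x hx
    exact gens_of_minor p.primeCompl x hx k z e hz hd
  · refine not_le_of_gens M k p p.primeCompl ?_ g hg
    rw [Set.disjoint_left]
    intro a ha ha'
    exact ha ha'
  · obtain ⟨z, e, hz, hd⟩ := exists_minor_notMem M k p h x hx
    exact ⟨_, hd, gens_of_minor (Submonoid.powers _) x hx k z e hz (Submonoid.mem_powers _)⟩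
  · rintro ⟨f, hf, g, hg⟩
    refine not_le_of_gens M k p (Submonoid.powers f) ?_ g hg
    rw [Set.disjoint_left]
    rintro a ⟨m, rfl⟩ ha'
    exact hf (Ideal.IsPrime.mem_of_pow_mem inferInstance m ha')

end Groth.Agent.Helper18Fitt
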