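import Mathlib
import Groth.Agent.Lib.Helper18Fitt13

set_option autoImplicit false
universe u v

namespace Groth.Agent.Helper18Fitt

open Matrix TensorProduct

/-- Fitting ideals of a free module with a given finite basis -/
theorem fitt_of_basis {A : Type u} [CommRing A] {L : Type u} [AddCommGroup L] [Module A L]
    {r : ℕ} (b : Module.Basis (Fin r) A L) (k : ℕ) :
    (k < r → Fitt.ideal A L k = ⊥) ∧ (r ≤ k → Fitt.ideal A L k = ⊤) := by
  have hb : Submodule.span A (Set.range b) = ⊤ := b.span_eq
  rw [fitt_eq_minors (⇑b) hb k]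
  constructor
  · intro hlt
    rw [eq_bot_iff]
    unfold minors
    rw [Ideal.span_le]
    rintro _ ⟨z, e, hz, rfl⟩
    have hz0 : ∀ j, z j = 0 := by
      intro j
      funext i
      exact (Fintype.linearIndependent_iff.mp b.linearIndependent) (z j) (hz j) i
    have : (Matrix.of fun a b => z b (e a)) = (0 : Matrix (Fin (r - k)) (Fin (r - k)) A) := by
      ext a b
      simp [hz0]
    rw [this]
    have : Nonempty (Fin (r - k)) := ⟨⟨0, by omega⟩⟩
    rw [Matrix.det_zero]
    exact Ideal.zero_mem _
  · intro h
    have : r - k = 0 := by omega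
    rw [this, minors_zero_eq_top]

theorem nontrivial_away_of_notMem {R : Type u} [CommRing R] (p : Ideal R) [p.IsPrime] (f : R)
    (hf : f ∉ p) : Nontrivial (Localization.Away f) := by
  by_contra hcon
  rw [not_nontrivial_iff_subsingleton] at hcon
  have h2 : p.map (algebraMap R (Localization.Away f)) ≠ ⊤ := by
    apply (IsLocalization.map_algebraMap_ne_top_iff_disjoint (Submonoid.powers f)
      (Localization.Away f) p).mpr
    rw [Set.disjoint_left]
    rintro a ⟨m, rfl⟩ ha'
    exact hf (Ideal.IsPrime.mem_of_pow_mem inferInstance m ha')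
  exact h2 (Subsingleton.elim _ _)

end Groth.Agent.Helper18Fitt
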