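import Mathlib
import Groth.Agent.Lib.Helper18Fitt14

set_option autoImplicit false
universe u v

namespace Groth.Agent.Helper18Fitt

open Matrix TensorProduct

variable {R : Type u} [CommRing R] (M : Type u) [AddCommGroup M] [Module R M] [Module.Finite R M]

/-- local freeness of rank `r` (basic-open form) -/
def LocFree (r : ℕ) : Prop :=
  ∀ (p : Ideal R) [p.IsPrime], ∃ f : R, f ∉ p ∧
      Module.Free (Localization.Away f) (LocalizedModule (Submonoid.powers f) M) ∧
        Module.finrank (Localization.Away f) (LocalizedModule (Submonoid.powers f) M) = r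

theorem fitt_of_locFree (r : ℕ) (h : LocFree (R := R) M r) :
    (∀ k, k < r → Fitt.ideal R M k = ⊥) ∧ (∀ k, r ≤ k → Fitt.ideal R M k = ⊤) := by
  -- local computation
  have key : ∀ (p : Ideal R) [p.IsPrime], ∃ f : R, f ∉ p ∧ ∀ k,
      (k < r → (Fitt.ideal R M k).map (algebraMap R (Localization.Away f)) = ⊥) ∧
      (r ≤ k → (Fitt.ideal R M k).map (algebraMap R (Localization.Away f)) = ⊤) := by
    intro p _
    obtain ⟨f, hf, hfree, hrank⟩ := h p
    refine ⟨f, hf, fun k => ?_⟩
    have : Nontrivial (Localization.Away f) := nontrivial_away_of_notMem p f hf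
    let b : Module.Basis (Fin r) (Localization.Away f) (LocalizedModule (Submonoid.powers f) M) :=
      Module.finBasisOfFinrankEq _ _ hrank
    have := fitt_of_basis b k
    rw [fitt_localizedModule] at this
    exact this
  constructor
  · intro k hk
    rw [eq_bot_iff]
    intro d hd
    rw [Ideal.mem_bot]
    by_contra hd0
    -- annihilator of d
    let I : Ideal R := (Ideal.span {d}).annihilator
    have hI : I ≠ ⊤ := by
      intro h
      have : (1 : R) ∈ I := by rw [h]; trivial
      rw [Submodule.mem_annihilator_span_singleton] at this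
      exact hd0 (by simpa using this)
    obtain ⟨m, hm, hIm⟩ := Ideal.exists_le_maximal I hI
    obtain ⟨f, hf, hk'⟩ := key m
    have h0 := (hk' k).1 hk
    have hd' : algebraMap R (Localization.Away f) d = 0 := by
      have : algebraMap R (Localization.Away f) d ∈
          (Fitt.ideal R M k).map (algebraMap R (Localization.Away f)) := Ideal.mem_map_of_mem _ hd
      rw [h0] at this
      exact this
    obtain ⟨⟨_, j, rfl⟩, hj⟩ := (IsLocalization.map_eq_zero_iff (Submonoid.powers f) _ d).mp hd'
    have : f ^ j ∈ I := by
      rw [Submodule.mem_annihilator_span_singleton]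
      exact hj
    exact hf (Ideal.IsPrime.mem_of_pow_mem inferInstance j (hIm this))
  · intro k hk
    by_contra hne
    obtain ⟨m, hm, hIm⟩ := Ideal.exists_le_maximal _ hne
    obtain ⟨f, hf, hk'⟩ := key m
    have h1 := (hk' k).2 hk
    have h2 : m.map (algebraMap R (Localization.Away f)) ≠ ⊤ := by
      apply (IsLocalization.map_algebraMap_ne_top_iff_disjoint (Submonoid.powers f)
        (Localization.Away f) m).mpr
      rw [Set.disjoint_left]
      rintro a ⟨j, rfl⟩ ha'
      exact hf (Ideal.IsPrime.mem_of_pow_mem inferInstance j ha')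
    apply h2
    rw [eq_top_iff, ← h1]
    exact Ideal.map_mono hIm

theorem locFree_of_fitt (r : ℕ) (h1 : ∀ k, k < r → Fitt.ideal R M k = ⊥)
    (h2 : ∀ k, r ≤ k → Fitt.ideal R M k = ⊤) : LocFree (R := R) M r := by
  intro p _
  have hnot : ¬ Fitt.ideal R M r ≤ p := by
    rw [h2 r le_rfl]
    intro h
    exact Ideal.IsPrime.ne_top inferInstance (top_le_iff.mp h)
  obtain ⟨f, hf, g, hg⟩ := (main_S6894 M r p).2.2.mp hnot
  have hnt : Nontrivial (Localization.Away f) := nontrivial_away_of_notMem p f hf
  refine ⟨f, hf, ?_⟩
  have hli : LinearIndependent (Localization.Away f) g := by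
    rw [Fintype.linearIndependent_iff]
    intro z hz i
    rcases Nat.eq_zero_or_pos r with h0 | hpos
    · subst h0; exact i.elim0
    · have hF : Fitt.ideal (Localization.Away f) (LocalizedModule (Submonoid.powers f) M) (r - 1) = ⊥ := by
        rw [fitt_localizedModule, h1 (r - 1) (by omega), Ideal.map_bot]
      rw [fitt_eq_minors g hg (r - 1), show r - (r - 1) = 1 by omega] at hF
      have hmem : z i ∈ minors (R := Localization.Away f) g 1 := by
        unfold minors
        apply Ideal.subset_span
        refine ⟨fun _ => z, fun _ => i, fun _ => hz, ?_⟩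
        rw [Matrix.det_unique]
        rfl
      rw [hF, Ideal.mem_bot] at hmem
      exact hmem
  let b : Module.Basis (Fin r) (Localization.Away f) (LocalizedModule (Submonoid.powers f) M) :=
    Module.Basis.mk hli (by rw [hg])
  refine ⟨Module.Free.of_basis b, ?_⟩
  rw [Module.finrank_eq_card_basis b, Fintype.card_fin]

theorem main_S6895 (r : ℕ) :
    (∀ (p : Ideal R) [p.IsPrime], ∃ f : R, f ∉ p ∧
      Module.Free (Localization.Away f) (LocalizedModule (Submonoid.powers f) M) ∧
        Module.finrank (Localization.Away f) (LocalizedModule (Submonoid.powers f) M) = r) ↔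
    ((∀ k, k < r → Fitt.ideal R M k = ⊥) ∧ (∀ k, r ≤ k → Fitt.ideal R M k = ⊤)) :=
  ⟨fun h => fitt_of_locFree M r h, fun h => locFree_of_fitt M r h.1 h.2⟩

end Groth.Agent.Helper18Fitt
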