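import Mathlib
import Groth.Agent.Lib.Helper18Fitt15

set_option autoImplicit false
universe u v

namespace Groth.Agent.Helper18Fitt

open Matrix TensorProduct

/-- if the images of the `y j` with `j` outside the range of an injective `e : Fin (n-k) → Fin n`
span, then `k` elements span. -/
theorem exists_fin_gens_of_compl {A : Type u} [CommRing A] {L : Type v} [AddCommGroup L] [Module A L]
    {n k : ℕ} (y : Fin n → L) (e : Fin (n - k) → Fin n) (he : Function.Injective e)
    (h : Submodule.span A (y '' {j | j ∉ Set.range e}) = ⊤) :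
    ∃ g : Fin k → L, Submodule.span A (Set.range g) = ⊤ := by
  classical
  let κ := {j : Fin n // j ∉ Set.range e}
  set c := Fintype.card κ with hc
  have hck : c ≤ k := by
    have h1 : Fintype.card κ = n - Fintype.card (Set.range e) := by
      have := Fintype.card_compl_set (Set.range e)
      rw [Fintype.card_fin] at this
      rw [← this]
      exact Fintype.card_congr (Equiv.refl _)
    have h2 : Fintype.card (Set.range e) = n - k := by
      rw [Set.card_range_of_injective he, Fintype.card_fin]
    rw [hc, h1, h2]
    omega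
  let eq : κ ≃ Fin c := Fintype.equivFin κ
  refine ⟨fun i => if h : (i : ℕ) < c then y (eq.symm ⟨i, h⟩).1 else 0, ?_⟩
  rw [eq_top_iff, ← h]
  apply Submodule.span_le.mpr
  rintro _ ⟨j, hj, rfl⟩
  apply Submodule.subset_span
  refine ⟨⟨(eq ⟨j, hj⟩ : ℕ), lt_of_lt_of_le (eq ⟨j, hj⟩).2 hck⟩, ?_⟩
  simp only [Fin.is_lt, dite_true, Fin.eta, Equiv.symm_apply_apply]

/-- Cramer: the combination of relation rows with adjugate coefficients. -/
theorem cramer_entry {R : Type u} [CommRing R] {n s : ℕ} (z : Fin s → (Fin n → R))
    (e : Fin s → Fin n) (a' : Fin s) (j : Fin n) :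
    ∑ b, z b j * (Matrix.of fun a b => z b (e a)).adjugate b a'
      = (Matrix.of fun a b => z b (Function.update e a' j a)).det := by
  classical
  set A₁ : Matrix (Fin s) (Fin s) R := Matrix.of fun a b => z b (e a) with hA
  have h1 : (Matrix.of fun a b => z b (Function.update e a' j a)) = A₁.updateRow a' (fun b => z b j) := by
    ext a b
    by_cases h : a = a'
    · subst h; simp [Matrix.updateRow_apply]
    · simp [Matrix.updateRow_apply, h, hA]
  rw [h1, ← Matrix.cramer_transpose_apply, Matrix.cramer_eq_adjugate_mulVec,
    ← Matrix.adjugate_transpose, Matrix.mulVec, dotProduct]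
  refine Finset.sum_congr rfl fun b _ => ?_
  rw [Matrix.transpose_apply, mul_comm]

theorem cramer_diag {R : Type u} [CommRing R] {n s : ℕ} (z : Fin s → (Fin n → R))
    (e : Fin s → Fin n) (a a' : Fin s) :
    ∑ b, z b (e a) * (Matrix.of fun a b => z b (e a)).adjugate b a'
      = if a = a' then (Matrix.of fun a b => z b (e a)).det else 0 := by
  classical
  set A₁ : Matrix (Fin s) (Fin s) R := Matrix.of fun a b => z b (e a) with hA
  have := congrFun (congrFun (Matrix.mul_adjugate A₁) a) a'
  rw [Matrix.mul_apply] at this
  simp only [Matrix.smul_apply, Matrix.one_apply, smul_eq_mul, mul_ite, mul_one, mul_zero] at this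
  rw [← this]
  rfl

end Groth.Agent.Helper18Fitt
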