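import Mathlib
import Groth.Agent.Lib.Helper18Fitt17
import Groth.Prelude.Def_FlatCA

set_option autoImplicit false
universe u v

namespace Groth.Agent.Helper18Fitt

open Matrix TensorProduct

theorem gens_localized_quot_torsion {R₁ : Type u} [CommRing R₁] (N : Type u) [AddCommGroup N]
    [Module R₁ N] [Module.Finite R₁ N] (k : ℕ) (a₁ : R₁)
    (hF : Fitt.ideal R₁ N k = Ideal.span {a₁}) (q : Ideal R₁) [q.IsPrime] :
    ∃ g : Fin k → LocalizedModule q.primeCompl (N ⧸ FlatCA.powTorsion R₁ a₁ N),
      Submodule.span (Localization.AtPrime q) (Set.range g) = ⊤ := by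
  classical
  set S := q.primeCompl with hS
  set A := Localization.AtPrime q with hA
  set T := FlatCA.powTorsion R₁ a₁ N with hT
  set a₂ : A := algebraMap R₁ A a₁ with ha₂
  have hFL : Fitt.ideal A (LocalizedModule S N) k = Ideal.span {a₂} := by
    rw [fitt_localizedModule, hF, Ideal.map_span, Set.image_singleton]
  let K : Submodule A (LocalizedModule S N) :=
    LinearMap.ker (a₂ • (LinearMap.id : LocalizedModule S N →ₗ[A] LocalizedModule S N))
  have hK : K = LinearMap.ker (a₂ • (LinearMap.id : LocalizedModule S N →ₗ[A] LocalizedModule S N)) := rfl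
  obtain ⟨g, hg⟩ : ∃ g : Fin k → LocalizedModule S N ⧸ K, Submodule.span A (Set.range g) = ⊤ :=
    gens_quot_of_principal (LocalizedModule S N) k a₂ hFL
  choose h hh using fun i => K.mkQ_surjective (g i)
  let φ : LocalizedModule S N →ₗ[A] LocalizedModule S (N ⧸ T) :=
    (IsLocalizedModule.map S (LocalizedModule.mkLinearMap S N)
      (LocalizedModule.mkLinearMap S (N ⧸ T)) T.mkQ).extendScalarsOfIsLocalization S A
  have hφsurj : Function.Surjective φ :=
    IsLocalizedModule.map_surjective S _ _ T.mkQ T.mkQ_surjective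
  have hφK : ∀ l ∈ K, φ l = 0 := by
    intro l hl
    induction l using LocalizedModule.induction_on with
    | h n s =>
      rw [hK, LinearMap.mem_ker, LinearMap.smul_apply, LinearMap.id_apply, ha₂,
        algebraMap_smul, LocalizedModule.smul'_mk] at hl
      have hl' : LocalizedModule.mk (a₁ • n) s = LocalizedModule.mk (0 : N) 1 := by
        rw [hl, LocalizedModule.zero_mk]
      rw [LocalizedModule.mk_eq] at hl'
      obtain ⟨t, ht⟩ := hl'
      simp only [one_smul, smul_zero] at ht
      have htn : (t : R₁) • n ∈ T := by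
        rw [hT, FlatCA.powTorsion]
        apply Submodule.mem_iSup_of_mem 1
        rw [Submodule.mem_torsionBy_iff, pow_one]
        rw [← ht, Submonoid.smul_def, smul_comm]
      change (IsLocalizedModule.map S (LocalizedModule.mkLinearMap S N)
        (LocalizedModule.mkLinearMap S (N ⧸ T)) T.mkQ) (LocalizedModule.mk n s) = 0
      rw [IsLocalizedModule.map_LocalizedModules]
      have : LocalizedModule.mk (T.mkQ n) s = LocalizedModule.mk (0 : N ⧸ T) 1 := by
        rw [LocalizedModule.mk_eq]
        refine ⟨t, ?_⟩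
        simp only [one_smul, smul_zero]
        rw [Submonoid.smul_def, ← map_smul, Submodule.mkQ_apply, Submodule.Quotient.mk_eq_zero]
        exact htn
      rw [this, LocalizedModule.zero_mk]
  refine ⟨fun i => φ (h i), ?_⟩
  rw [eq_top_iff]
  rintro l' -
  obtain ⟨l, rfl⟩ := hφsurj l'
  have hsup : Submodule.span A (Set.range h) ⊔ K = ⊤ := by
    rw [sup_comm, ← Submodule.map_mkQ_eq_top, Submodule.map_span, ← Set.range_comp]
    have : (⇑K.mkQ ∘ h) = g := funext hh
    rw [this]
    exact hg
  have hl : l ∈ Submodule.span A (Set.range h) ⊔ K := by rw [hsup]; trivial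
  obtain ⟨l₁, hl₁, l₂, hl₂, rfl⟩ := Submodule.mem_sup.mp hl
  rw [map_add, hφK l₂ hl₂, add_zero]
  have : Set.range (fun i => φ (h i)) = φ '' Set.range h := by
    rw [← Set.range_comp]; rfl
  rw [this, ← Submodule.map_span]
  exact Submodule.mem_map_of_mem hl₁

theorem fitt_quot_torsion_eq_top {R₁ : Type u} [CommRing R₁] (N : Type u) [AddCommGroup N]
    [Module R₁ N] [Module.Finite R₁ N] (k : ℕ) (a₁ : R₁)
    (hF : Fitt.ideal R₁ N k = Ideal.span {a₁}) :
    Fitt.ideal R₁ (N ⧸ FlatCA.powTorsion R₁ a₁ N) k = ⊤ := by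
  by_contra hne
  obtain ⟨m, hm, hle⟩ := Ideal.exists_le_maximal _ hne
  obtain ⟨g, hg⟩ := gens_localized_quot_torsion N k a₁ hF m
  exact ((main_S6894 (N ⧸ FlatCA.powTorsion R₁ a₁ N) k m).2.1.mpr ⟨g, hg⟩) hle

end Groth.Agent.Helper18Fitt
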