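import Mathlib
import Groth.Agent.Lib.Helper18Fitt18
import Groth.Prelude.Def_BlowUp2

set_option autoImplicit false
universe u v

namespace Groth.Agent.Helper18Fitt

open Matrix TensorProduct

/-- In (a copy of) the affine blow-up algebra `R[I/a]` the ideal `I` becomes principal,
generated by `a`. -/
theorem map_blowup_eq_span {R : Type u} [CommRing R] (I : Ideal R) (a : R) (ha : a ∈ I)
    (R₁ : Type u) [CommRing R₁] [Algebra R R₁] (e : R₁ ≃ₐ[R] ↥(BlowUp.affineAlgebra R I a)) :
    I.map (algebraMap R R₁) = Ideal.span {algebraMap R R₁ a} := by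
  apply le_antisymm
  · rw [Ideal.map_le_iff_le_comap]
    intro x hx
    rw [Ideal.mem_comap, Ideal.mem_span_singleton']
    let q : ↥(BlowUp.affineAlgebra R I a) :=
      ⟨IsLocalization.mk' (Localization.Away a) x ⟨a, Submonoid.mem_powers a⟩,
        Algebra.subset_adjoin ⟨x, hx, rfl⟩⟩
    refine ⟨e.symm q, ?_⟩
    apply e.injective
    rw [map_mul, AlgEquiv.apply_symm_apply, AlgEquiv.commutes, AlgEquiv.commutes]
    apply Subtype.ext
    rw [Subalgebra.coe_mul, Subalgebra.coe_algebraMap, Subalgebra.coe_algebraMap]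
    simp only [q]
    rw [mul_comm]
    exact IsLocalization.mk'_spec' (Localization.Away a) x ⟨a, Submonoid.mem_powers a⟩
  · rw [Ideal.span_le, Set.singleton_subset_iff]
    exact Ideal.mem_map_of_mem _ ha

theorem main_S6914 {R : Type u} [CommRing R] (M : Type u) [AddCommGroup M] [Module R M]
    [Module.Finite R M] (k : ℕ) (a : R) (ha : a ∈ Fitt.ideal R M k)
    (R₁ : Type u) [CommRing R₁] [Algebra R R₁]
    (e : R₁ ≃ₐ[R] ↥(BlowUp.affineAlgebra R (Fitt.ideal R M k) a)) :
    Fitt.ideal R₁ ((R₁ ⊗[R] M) ⧸ FlatCA.powTorsion R₁ (algebraMap R R₁ a) (R₁ ⊗[R] M)) k = ⊤ := by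
  apply fitt_quot_torsion_eq_top
  rw [fitt_baseChange, map_blowup_eq_span _ a ha R₁ e]

end Groth.Agent.Helper18Fitt
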