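import Mathlib
import Groth.Agent.Lib.Helper18Fitt19

set_option autoImplicit false
universe u v

namespace Groth.Agent.Helper18Fitt

open Matrix TensorProduct

theorem mem_powTorsion_iff {S : Type u} [CommRing S] (x : S) {N : Type u} [AddCommGroup N]
    [Module S N] (t : N) : t ∈ FlatCA.powTorsion S x N ↔ ∃ m : ℕ, x ^ m • t = 0 := by
  unfold FlatCA.powTorsion
  rw [Submodule.mem_iSup_of_directed]
  · simp only [Submodule.mem_torsionBy_iff]
  · apply Monotone.directed_le
    intro m m' hmm' t ht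
    rw [Submodule.mem_torsionBy_iff] at ht ⊢
    obtain ⟨j, rfl⟩ := Nat.exists_eq_add_of_le hmm'
    rw [pow_add, mul_comm, mul_smul, ht, smul_zero]

theorem T_mono {R : Type u} [CommRing R] {M : Type v} [AddCommGroup M] [Module R M]
    {k k' : ℕ} (h : k ≤ k') {ι : Type} [Fintype ι] [DecidableEq ι] (x : ι → M) :
    T (R := R) k ι x ≤ T k' ι x := by
  unfold T
  apply Ideal.span_mono
  rintro d ⟨a, S, hS, ha, rfl⟩
  exact ⟨a, S, hS.trans h, ha, rfl⟩

theorem fitt_mono {R : Type u} [CommRing R] {M : Type u} [AddCommGroup M] [Module R M]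
    [Module.Finite R M] {k k' : ℕ} (h : k ≤ k') : Fitt.ideal R M k ≤ Fitt.ideal R M k' := by
  obtain ⟨n, x, hx⟩ := Module.Finite.exists_fin (R := R) (M := M)
  rw [fitt_eq_T x hx, fitt_eq_T x hx]
  exact T_mono h x

/-- killing `a`-power torsion does not create Fitting ideal when `a` is a nonzerodivisor -/
theorem fitt_quot_torsion_eq_bot {R₁ : Type u} [CommRing R₁] (N : Type u) [AddCommGroup N]
    [Module R₁ N] [Module.Finite R₁ N] (j : ℕ) (a₁ : R₁) (ha₁ : a₁ ∈ nonZeroDivisors R₁)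
    (hF : Fitt.ideal R₁ N j = ⊥) :
    Fitt.ideal R₁ (N ⧸ FlatCA.powTorsion R₁ a₁ N) j = ⊥ := by
  classical
  set Tt := FlatCA.powTorsion R₁ a₁ N with hT
  obtain ⟨n, x, hx⟩ := Module.Finite.exists_fin (R := R₁) (M := N)
  have hx' : Submodule.span R₁ (Set.range (fun i => Tt.mkQ (x i))) = ⊤ := by
    have : Set.range (fun i => Tt.mkQ (x i)) = Tt.mkQ '' Set.range x := by
      rw [← Set.range_comp]; rfl
    rw [this, ← Submodule.map_span, hx, Submodule.map_top, Submodule.range_mkQ]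
  rw [fitt_eq_minors x hx j] at hF
  rw [fitt_eq_minors _ hx' j, eq_bot_iff]
  unfold minors
  rw [Ideal.span_le]
  rintro _ ⟨z, e, hz, rfl⟩
  rw [SetLike.mem_coe, Ideal.mem_bot]
  -- exponents
  have hex : ∀ b, ∃ m : ℕ, a₁ ^ m • ∑ i, z b i • x i = 0 := by
    intro b
    rw [← mem_powTorsion_iff, ← hT, ← Submodule.Quotient.mk_eq_zero, ← Submodule.mkQ_apply, map_sum]
    rw [← hz b]
    refine Finset.sum_congr rfl fun i _ => ?_
    rw [map_smul]
  choose m hm using hex
  have hmem : (Matrix.of fun a b => (fun i => a₁ ^ m b * z b i) (e a)).det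
      ∈ minors (R := R₁) x (n - j) := by
    apply Ideal.subset_span
    refine ⟨fun b i => a₁ ^ m b * z b i, e, fun b => ?_, rfl⟩
    rw [← hm b, Finset.smul_sum]
    refine Finset.sum_congr rfl fun i _ => ?_
    rw [mul_smul]
  rw [hF, Ideal.mem_bot] at hmem
  have hdet : (Matrix.of fun a b => (fun i => a₁ ^ m b * z b i) (e a)).det
      = (∏ b, a₁ ^ m b) * (Matrix.of fun a b => z b (e a)).det := by
    rw [← Matrix.det_mul_row]
    rfl
  rw [hdet] at hmem
  have hnzd : (∏ b, a₁ ^ m b) ∈ nonZeroDivisors R₁ :=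
    Submonoid.prod_mem _ (fun b _ => Submonoid.pow_mem _ ha₁ _)
  rw [mul_comm] at hmem
  exact (mem_nonZeroDivisors_iff.mp hnzd).2 _ hmem |> fun h => h

end Groth.Agent.Helper18Fitt
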