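import Mathlib
import Groth.Agent.Lib.Helper18Fitt20

set_option autoImplicit false
universe u v

namespace Groth.Agent.Helper18Fitt

open Matrix TensorProduct

/-- `a` is a nonzerodivisor in (a copy of) the affine blow-up algebra `R[I/a]`. -/
theorem blowup_nonZeroDivisor {R : Type u} [CommRing R] (I : Ideal R) (a : R)
    (R₁ : Type u) [CommRing R₁] [Algebra R R₁] (e : R₁ ≃ₐ[R] ↥(BlowUp.affineAlgebra R I a)) :
    algebraMap R R₁ a ∈ nonZeroDivisors R₁ := by
  rw [mem_nonZeroDivisors_iff_right]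
  intro y hy
  have h1 : e (y * algebraMap R R₁ a) = 0 := by rw [hy, map_zero]
  rw [map_mul, AlgEquiv.commutes] at h1
  have h2 := congrArg (Subtype.val) h1
  rw [Subalgebra.coe_mul, Subalgebra.coe_algebraMap, Subalgebra.coe_zero] at h2
  have hu : IsUnit (algebraMap R (Localization.Away a) a) :=
    IsLocalization.map_units (Localization.Away a) ⟨a, Submonoid.mem_powers a⟩
  have h3 : ((e y : ↥(BlowUp.affineAlgebra R I a)) : Localization.Away a) = 0 :=
    (hu.mul_left_eq_zero).mp h2
  have h4 : e y = 0 := Subtype.ext h3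
  exact (map_eq_zero_iff e e.injective).mp h4

variable {R : Type u} [CommRing R] (M : Type u) [AddCommGroup M] [Module R M] [Module.Finite R M]

/-- (i): elements of `Fit_{k-1}` are killed by a power of `a` -/
theorem exists_pow_mul_eq_zero (k : ℕ) (hk : 1 ≤ k)
    (hfree : ∀ (p : Ideal R) [p.IsPrime], ¬ Fitt.ideal R M k ≤ p →
      Module.Free (Localization.AtPrime p) (LocalizedModule p.primeCompl M) ∧
        Module.finrank (Localization.AtPrime p) (LocalizedModule p.primeCompl M) = k)
    (a : R) (ha : a ∈ Fitt.ideal R M k) (d : R) (hd : d ∈ Fitt.ideal R M (k - 1)) :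
    ∃ m : ℕ, a ^ m * d = 0 := by
  let J : Ideal R := (Ideal.span {d}).annihilator
  have haJ : a ∈ J.radical := by
    rw [Ideal.radical_eq_sInf, Ideal.mem_sInf]
    rintro p ⟨hJp, hp⟩
    by_contra hap
    have hnot : ¬ Fitt.ideal R M k ≤ p := fun h => hap (h ha)
    obtain ⟨hfr, hrank⟩ := hfree p hnot
    let b : Module.Basis (Fin k) (Localization.AtPrime p) (LocalizedModule p.primeCompl M) :=
      Module.finBasisOfFinrankEq _ _ hrank
    have h0 := (fitt_of_basis b (k - 1)).1 (by omega)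
    rw [fitt_localizedModule] at h0
    have hd0 : algebraMap R (Localization.AtPrime p) d = 0 := by
      have : algebraMap R (Localization.AtPrime p) d ∈
          (Fitt.ideal R M (k - 1)).map (algebraMap R (Localization.AtPrime p)) :=
        Ideal.mem_map_of_mem _ hd
      rw [h0] at this
      exact this
    obtain ⟨⟨t, ht⟩, htd⟩ := (IsLocalization.map_eq_zero_iff p.primeCompl _ d).mp hd0
    have : t ∈ J := by
      rw [Submodule.mem_annihilator_span_singleton]
      exact htd
    exact ht (hJp this)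
  obtain ⟨m, hm⟩ := haJ
  refine ⟨m, ?_⟩
  rw [Submodule.mem_annihilator_span_singleton] at hm
  exact hm

theorem main_S6915 (k : ℕ)
    (hfree : ∀ (p : Ideal R) [p.IsPrime], ¬ Fitt.ideal R M k ≤ p →
      Module.Free (Localization.AtPrime p) (LocalizedModule p.primeCompl M) ∧
        Module.finrank (Localization.AtPrime p) (LocalizedModule p.primeCompl M) = k)
    (a : R) (ha : a ∈ Fitt.ideal R M k) (R₁ : Type u) [CommRing R₁] [Algebra R R₁]
    (e : R₁ ≃ₐ[R] ↥(BlowUp.affineAlgebra R (Fitt.ideal R M k) a)) :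
    ∀ (p' : Ideal R₁) [p'.IsPrime], ∃ g : R₁, g ∉ p' ∧
      Module.Free (Localization.Away g) (LocalizedModule (Submonoid.powers g)
        ((R₁ ⊗[R] M) ⧸ FlatCA.powTorsion R₁ (algebraMap R R₁ a) (R₁ ⊗[R] M))) ∧
      Module.finrank (Localization.Away g) (LocalizedModule (Submonoid.powers g)
        ((R₁ ⊗[R] M) ⧸ FlatCA.powTorsion R₁ (algebraMap R R₁ a) (R₁ ⊗[R] M))) = k := by
  have hnzd := blowup_nonZeroDivisor (Fitt.ideal R M k) a R₁ e
  have htop := main_S6914 M k a ha R₁ e
  apply locFree_of_fitt ((R₁ ⊗[R] M) ⧸ FlatCA.powTorsion R₁ (algebraMap R R₁ a) (R₁ ⊗[R] M)) k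
  · intro j hj
    have hk : 1 ≤ k := by omega
    have hbot : Fitt.ideal R₁ ((R₁ ⊗[R] M) ⧸ FlatCA.powTorsion R₁ (algebraMap R R₁ a) (R₁ ⊗[R] M))
        (k - 1) = ⊥ := by
      apply fitt_quot_torsion_eq_bot _ _ _ hnzd
      rw [fitt_baseChange, Ideal.map_eq_bot_iff_le_ker]
      intro d hd
      obtain ⟨m, hm⟩ := exists_pow_mul_eq_zero M k hk hfree a ha d hd
      rw [RingHom.mem_ker]
      have h1 : algebraMap R R₁ a ^ m * algebraMap R R₁ d = 0 := by
        rw [← map_pow, ← map_mul, hm, map_zero]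
      have hnz : algebraMap R R₁ a ^ m ∈ nonZeroDivisors R₁ := Submonoid.pow_mem _ hnzd _
      rw [mul_comm] at h1
      exact (mem_nonZeroDivisors_iff.mp hnz).2 _ h1 |> fun h => h
    rw [eq_bot_iff, ← hbot]
    exact fitt_mono (by omega)
  · intro j hj
    rw [eq_top_iff, ← htop]
    exact fitt_mono hj

end Groth.Agent.Helper18Fitt
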