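import Mathlib
import Groth.Agent.Lib.Helper18Fitt21

set_option autoImplicit false
universe u v

namespace Groth.Agent.Helper18Fitt

open Matrix TensorProduct

/-- the ideal of `s × s` minors of rows taken from a set `𝒲` of vectors -/
def minorsOf {R : Type u} [CommRing R] {n : ℕ} (𝒲 : Set (Fin n → R)) (s : ℕ) : Ideal R :=
  Ideal.span {d | ∃ (z : Fin s → (Fin n → R)) (e : Fin s → Fin n),
    (∀ j, z j ∈ 𝒲) ∧ d = (Matrix.of fun a b => z b (e a)).det}

variable {R : Type u} [CommRing R] [IsLocalRing R]

/-- some minor generates the principal ideal of minors (or `f = 0`) -/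
theorem exists_minorOf_unit_mul {n : ℕ} (𝒲 : Set (Fin n → R)) (s : ℕ) (f : R)
    (hf : minorsOf 𝒲 s = Ideal.span {f}) (hf0 : f ≠ 0) :
    ∃ (z : Fin s → (Fin n → R)) (e : Fin s → Fin n) (u : R), (∀ j, z j ∈ 𝒲) ∧
      IsUnit u ∧ (Matrix.of fun a b => z b (e a)).det = u * f := by
  by_contra hcon
  push Not at hcon
  apply hf0
  have hle : minorsOf 𝒲 s ≤ IsLocalRing.maximalIdeal R * Ideal.span {f} := by
    unfold minorsOf
    rw [Ideal.span_le]
    rintro d ⟨z, e, hz, rfl⟩
    have hd : (Matrix.of fun a b => z b (e a)).det ∈ Ideal.span {f} := by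
      rw [← hf]; exact Ideal.subset_span ⟨z, e, hz, rfl⟩
    obtain ⟨a, ha⟩ := Ideal.mem_span_singleton'.mp hd
    rw [SetLike.mem_coe, Ideal.mem_mul_span_singleton]
    refine ⟨a, ?_, ha⟩
    rw [IsLocalRing.mem_maximalIdeal]
    intro hu
    exact hcon z e a hz hu ha.symm
  have hfm : f ∈ IsLocalRing.maximalIdeal R * Ideal.span {f} := by
    apply hle
    rw [hf]
    exact Ideal.mem_span_singleton_self f
  obtain ⟨t, ht, htf⟩ := Ideal.mem_mul_span_singleton.mp hfm
  have hu : IsUnit (1 - t) := IsLocalRing.isUnit_one_sub_self_of_mem_nonunits t ht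
  have : (1 - t) * f = 0 := by rw [sub_mul, one_mul, htf, sub_self]
  exact (hu.mul_right_eq_zero).mp this

theorem gens_quot_of_principalW (M : Type v) [AddCommGroup M] [Module R M]
    {n : ℕ} (x : Fin n → M) (hx : Submodule.span R (Set.range x) = ⊤)
    (𝒲 : Set (Fin n → R)) (h𝒲 : ∀ z ∈ 𝒲, ∑ i, z i • x i = 0) (k : ℕ) (f : R)
    (hf : minorsOf 𝒲 (n - k) = Ideal.span {f}) :
    ∃ g : Fin k → M ⧸ LinearMap.ker (f • (LinearMap.id : M →ₗ[R] M)),
      Submodule.span R (Set.range g) = ⊤ := by
  classical
  by_cases hf0 : f = 0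
  · subst hf0
    have : Subsingleton (M ⧸ LinearMap.ker ((0 : R) • (LinearMap.id : M →ₗ[R] M))) := by
      rw [Submodule.Quotient.subsingleton_iff, zero_smul, LinearMap.ker_zero]
    refine ⟨fun _ => 0, ?_⟩
    rw [eq_top_iff]
    intro l _
    rw [Subsingleton.elim l 0]
    exact Submodule.zero_mem _
  obtain ⟨z, e, u, hz𝒲, hu, hdet⟩ := exists_minorOf_unit_mul 𝒲 (n - k) f hf hf0
  have hz : ∀ j, ∑ i, z j i • x i = 0 := fun j => h𝒲 _ (hz𝒲 j)
  have he : Function.Injective e := by
    by_contra he
    rw [Function.Injective] at he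
    push Not at he
    obtain ⟨a, a', hea, hne⟩ := he
    have h0 : (Matrix.of fun a b => z b (e a)).det = 0 := by
      apply Matrix.det_zero_of_row_eq hne
      funext b
      simp [hea]
    rw [h0] at hdet
    exact hf0 ((hu.mul_right_eq_zero).mp hdet.symm)
  set K := LinearMap.ker (f • (LinearMap.id : M →ₗ[R] M)) with hK
  let y : Fin n → M ⧸ K := fun j => K.mkQ (x j)
  have hy : Submodule.span R (Set.range y) = ⊤ := by
    have : Set.range y = K.mkQ '' Set.range x := by
      rw [← Set.range_comp]; rfl
    rw [this, ← Submodule.map_span, hx, Submodule.map_top, Submodule.range_mkQ]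
  apply exists_fin_gens_of_compl y e he
  rw [eq_top_iff, ← hy, Submodule.span_le]
  rintro _ ⟨j, rfl⟩
  by_cases hj : j ∈ Set.range e
  swap
  · exact Submodule.subset_span ⟨j, hj, rfl⟩
  obtain ⟨a', rfl⟩ := hj
  -- the relation vector
  set w : Fin n → R := fun j => ∑ b, z b j * (Matrix.of fun a b => z b (e a)).adjugate b a' with hw
  have hwrel : ∑ j, w j • x j = 0 := by
    simp only [hw, Finset.sum_smul]
    rw [Finset.sum_comm]
    have : ∀ b, ∑ j, (z b j * (Matrix.of fun a b => z b (e a)).adjugate b a') • x j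
        = (Matrix.of fun a b => z b (e a)).adjugate b a' • ∑ j, z b j • x j := by
      intro b
      rw [Finset.smul_sum]
      refine Finset.sum_congr rfl fun j _ => ?_
      rw [mul_comm, mul_smul]
    simp only [this, hz, smul_zero, Finset.sum_const_zero]
  have hwmem : ∀ j, ∃ c : R, w j = f * c := by
    intro j
    have : w j ∈ Ideal.span {f} := by
      rw [← hf, hw]
      simp only
      rw [cramer_entry]
      exact Ideal.subset_span ⟨z, Function.update e a' j, hz𝒲, rfl⟩
    obtain ⟨c, hc⟩ := Ideal.mem_span_singleton'.mp this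
    exact ⟨c, by rw [← hc, mul_comm]⟩
  choose c0 hc0 using hwmem
  -- corrected coefficients
  let c : Fin n → R := fun j => if j ∈ Set.range e then (if j = e a' then u else 0) else c0 j
  have hwc : ∀ j, w j = f * c j := by
    intro j
    by_cases hj : j ∈ Set.range e
    · obtain ⟨a, rfl⟩ := hj
      have h1 : w (e a) = if a = a' then (Matrix.of fun a b => z b (e a)).det else 0 :=
        cramer_diag z e a a'
      simp only [c, Set.mem_range_self, if_true]
      rw [h1, hdet]
      by_cases haa : a = a'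
      · subst haa; simp [mul_comm]
      · have : e a ≠ e a' := fun h => haa (he h)
        simp [haa, this]
    · simp only [c, hj, if_false]
      exact hc0 j
  have hker : ∑ j, c j • x j ∈ K := by
    rw [hK, LinearMap.mem_ker, LinearMap.smul_apply, LinearMap.id_apply, Finset.smul_sum, ← hwrel]
    refine Finset.sum_congr rfl fun j _ => ?_
    rw [hwc j, mul_smul]
  have hq : ∑ j, c j • y j = 0 := by
    have : K.mkQ (∑ j, c j • x j) = 0 := by
      rw [Submodule.mkQ_apply, Submodule.Quotient.mk_eq_zero]; exact hker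
    rw [← this, map_sum]
    refine Finset.sum_congr rfl fun j _ => ?_
    rw [map_smul]
  -- split off the term `j = e a'`
  rw [← Finset.add_sum_erase Finset.univ _ (Finset.mem_univ (e a'))] at hq
  have hce : c (e a') = u := by simp [c]
  rw [hce] at hq
  have hrest : ∑ j ∈ Finset.univ.erase (e a'), c j • y j
      ∈ Submodule.span R (y '' {j | j ∉ Set.range e}) := by
    refine Submodule.sum_mem _ (fun j hj => ?_)
    rw [Finset.mem_erase] at hj
    by_cases hjr : j ∈ Set.range e
    · have : c j = 0 := by simp only [c, if_pos hjr, if_neg hj.1]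
      rw [this, zero_smul]
      exact Submodule.zero_mem _
    · exact Submodule.smul_mem _ _ (Submodule.subset_span ⟨j, hjr, rfl⟩)
  have huy : u • y (e a') ∈ Submodule.span R (y '' {j | j ∉ Set.range e}) := by
    have : u • y (e a') = - ∑ j ∈ Finset.univ.erase (e a'), c j • y j :=
      eq_neg_of_add_eq_zero_left hq
    rw [this]
    exact Submodule.neg_mem _ hrest
  obtain ⟨v, hv⟩ := hu.exists_left_inv
  have : y (e a') = v • (u • y (e a')) := by
    rw [← mul_smul, hv, one_smul]
  rw [SetLike.mem_coe, this]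
  exact Submodule.smul_mem _ _ huy

end Groth.Agent.Helper18Fitt
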