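import Mathlib
import Groth.Agent.Lib.Helper18Fitt22

set_option autoImplicit false
universe u v

namespace Groth.Agent.Helper18Fitt

open Matrix TensorProduct

variable {R : Type u} [CommRing R]

theorem minorsOf_mono {n : ℕ} {𝒲 𝒲' : Set (Fin n → R)} (h : 𝒲 ⊆ 𝒲') (s : ℕ) :
    minorsOf 𝒲 s ≤ minorsOf 𝒲' s := by
  unfold minorsOf
  apply Ideal.span_mono
  rintro d ⟨z, e, hz, rfl⟩
  exact ⟨z, e, fun j => h (hz j), rfl⟩

theorem minors_eq_minorsOf {M : Type v} [AddCommGroup M] [Module R M] {n : ℕ} (x : Fin n → M)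
    (s : ℕ) : minors (R := R) x s = minorsOf {z : Fin n → R | ∑ i, z i • x i = 0} s := rfl

theorem minorsOf_fg {n : ℕ} (W : Finset (Fin n → R)) (s : ℕ) :
    (minorsOf (W : Set (Fin n → R)) s).FG := by
  classical
  set G : Set R := {d | ∃ (z : Fin s → (Fin n → R)) (e : Fin s → Fin n),
    (∀ j, z j ∈ (W : Set (Fin n → R))) ∧ d = (Matrix.of fun a b => z b (e a)).det} with hG
  have hGfin : G.Finite := by
    have : G ⊆ Set.range (fun p : (Fin s → W) × (Fin s → Fin n) =>
        (Matrix.of fun a b => (p.1 b : Fin n → R) (p.2 a)).det) := by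
      rintro d ⟨w, e, hw, rfl⟩
      exact ⟨(fun b => ⟨w b, hw b⟩, e), rfl⟩
    exact (Set.finite_range _).subset this
  exact ⟨hGfin.toFinset, by simp [minorsOf, hG]⟩

theorem minorsOf_map {A : Type u} [CommRing A] (φ : R →+* A) {n : ℕ} (𝒲 : Set (Fin n → R))
    (s : ℕ) :
    minorsOf ((fun z : Fin n → R => fun i => φ (z i)) '' 𝒲) s = (minorsOf 𝒲 s).map φ := by
  apply le_antisymm
  · unfold minorsOf
    rw [Ideal.span_le]
    rintro d ⟨z', e, hz', rfl⟩
    choose z hz1 hz2 using hz'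
    have : (Matrix.of fun a b => z' b (e a)).det = φ (Matrix.of fun a b => z b (e a)).det := by
      rw [RingHom.map_det]
      congr 1
      ext a b
      simp only [Matrix.of_apply, RingHom.mapMatrix_apply, Matrix.map_apply]
      rw [← hz2 b]
    rw [this]
    exact Ideal.mem_map_of_mem _ (Ideal.subset_span ⟨z, e, hz1, rfl⟩)
  · rw [Ideal.map_le_iff_le_comap]
    unfold minorsOf
    rw [Ideal.span_le]
    rintro d ⟨z, e, hz, rfl⟩
    rw [SetLike.mem_coe, Ideal.mem_comap]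
    apply Ideal.subset_span
    refine ⟨fun b i => φ (z b i), e, fun b => ⟨z b, hz b, rfl⟩, ?_⟩
    rw [RingHom.map_det]
    rfl

/-- an element of the ideal of minors already lies in the ideal of minors of finitely many rows -/
theorem exists_finset_of_mem_minorsOf {n : ℕ} (𝒲 : Set (Fin n → R)) (s : ℕ) (c : R)
    (hc : c ∈ minorsOf 𝒲 s) :
    ∃ W : Finset (Fin n → R), (W : Set (Fin n → R)) ⊆ 𝒲 ∧ c ∈ minorsOf (W : Set (Fin n → R)) s := by
  classical
  unfold minorsOf at hc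
  obtain ⟨G, hG1, hG2⟩ := Submodule.mem_span_finite_of_mem_span hc
  choose z e hz hd using fun d : G => hG1 d.2
  refine ⟨Finset.univ.biUnion (fun d : G => Finset.univ.image (z d)), ?_, ?_⟩
  · intro w hw
    rw [Finset.mem_coe, Finset.mem_biUnion] at hw
    obtain ⟨d, -, hw⟩ := hw
    rw [Finset.mem_image] at hw
    obtain ⟨j, -, rfl⟩ := hw
    exact hz d j
  · refine (Submodule.span_le.mpr ?_) hG2
    intro d hdG
    rw [SetLike.mem_coe]
    apply Ideal.subset_span
    refine ⟨z ⟨d, hdG⟩, e ⟨d, hdG⟩, fun j => ?_, hd ⟨d, hdG⟩⟩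
    rw [Finset.mem_coe, Finset.mem_biUnion]
    exact ⟨⟨d, hdG⟩, Finset.mem_univ _, Finset.mem_image.mpr ⟨j, Finset.mem_univ _, rfl⟩⟩

end Groth.Agent.Helper18Fitt
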