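import Mathlib
import Groth.Agent.Lib.Helper18Fitt24

set_option autoImplicit false
universe u v

namespace Groth.Agent.Helper18Fitt

open Matrix TensorProduct

variable {R : Type u} [CommRing R] (M : Type u) [AddCommGroup M] [Module R M] [Module.Finite R M]

theorem fitt_map_away_of_free (p : Ideal R) [p.IsPrime] (g : R) (hg : g ∉ p) (r : ℕ)
    (hfree : Module.Free (Localization.Away g) (LocalizedModule (Submonoid.powers g) M))
    (hrank : Module.finrank (Localization.Away g) (LocalizedModule (Submonoid.powers g) M) = r)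
    (j : ℕ) :
    (j < r → (Fitt.ideal R M j).map (algebraMap R (Localization.Away g)) = ⊥) ∧
    (r ≤ j → (Fitt.ideal R M j).map (algebraMap R (Localization.Away g)) = ⊤) := by
  have : Nontrivial (Localization.Away g) := nontrivial_away_of_notMem p g hg
  let b : Module.Basis (Fin r) (Localization.Away g) (LocalizedModule (Submonoid.powers g) M) :=
    Module.finBasisOfFinrankEq _ _ hrank
  have := fitt_of_basis b j
  rw [fitt_localizedModule] at this
  exact this

/-- hypothesis shape of S6924 -/
def LocFreeOn (f : R) (r : ℕ) : Prop :=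
  ∀ (p : Ideal R) [p.IsPrime], f ∉ p → ∃ g : R, g ∉ p ∧ g ∈ (Ideal.span {f}).radical ∧
      Module.Free (Localization.Away g) (LocalizedModule (Submonoid.powers g) M) ∧
        Module.finrank (Localization.Away g) (LocalizedModule (Submonoid.powers g) M) = r

theorem mem_radical_fitt (f : R) (r : ℕ) (hf : LocFreeOn M f r) :
    f ∈ (Fitt.ideal R M r).radical := by
  rw [Ideal.radical_eq_sInf, Ideal.mem_sInf]
  rintro p ⟨hFp, hp⟩
  by_contra hfp
  obtain ⟨g, hg, -, hfree, hrank⟩ := hf p hfp
  have h1 := (fitt_map_away_of_free M p g hg r hfree hrank r).2 le_rfl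
  have h2 : p.map (algebraMap R (Localization.Away g)) ≠ ⊤ := by
    apply (IsLocalization.map_algebraMap_ne_top_iff_disjoint (Submonoid.powers g)
      (Localization.Away g) p).mpr
    rw [Set.disjoint_left]
    rintro a ⟨j, rfl⟩ ha'
    exact hg (Ideal.IsPrime.mem_of_pow_mem inferInstance j ha')
  apply h2
  rw [eq_top_iff, ← h1]
  exact Ideal.map_mono hFp

theorem exists_pow_mul_eq_zero_of_locFreeOn (f : R) (r : ℕ) (hr : 1 ≤ r) (hf : LocFreeOn M f r)
    (d : R) (hd : d ∈ Fitt.ideal R M (r - 1)) : ∃ m : ℕ, f ^ m * d = 0 := by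
  let J : Ideal R := (Ideal.span {d}).annihilator
  have hfJ : f ∈ J.radical := by
    rw [Ideal.radical_eq_sInf, Ideal.mem_sInf]
    rintro p ⟨hJp, hp⟩
    by_contra hfp
    obtain ⟨g, hg, -, hfree, hrank⟩ := hf p hfp
    have h0 := (fitt_map_away_of_free M p g hg r hfree hrank (r - 1)).1 (by omega)
    have hd0 : algebraMap R (Localization.Away g) d = 0 := by
      have : algebraMap R (Localization.Away g) d ∈
          (Fitt.ideal R M (r - 1)).map (algebraMap R (Localization.Away g)) :=
        Ideal.mem_map_of_mem _ hd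
      rw [h0] at this
      exact this
    obtain ⟨⟨_, j, rfl⟩, hj⟩ := (IsLocalization.map_eq_zero_iff (Submonoid.powers g) _ d).mp hd0
    have : g ^ j ∈ J := by
      rw [Submodule.mem_annihilator_span_singleton]
      exact hj
    exact hg (Ideal.IsPrime.mem_of_pow_mem inferInstance j (hJp this))
  obtain ⟨m, hm⟩ := hfJ
  refine ⟨m, ?_⟩
  rw [Submodule.mem_annihilator_span_singleton] at hm
  exact hm

end Groth.Agent.Helper18Fitt
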