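import Mathlib
import Groth.Agent.Lib.Helper18Fitt25

set_option autoImplicit false
universe u v

namespace Groth.Agent.Helper18Fitt

open Matrix TensorProduct

variable {R : Type u} [CommRing R] (M : Type u) [AddCommGroup M] [Module R M] [Module.Finite R M]

omit [Module.Finite R M] in
/-- the local generation statement at a prime of the blow-up algebra -/
theorem gens_strict_local {n : ℕ} (x : Fin n → M) (hx : Submodule.span R (Set.range x) = ⊤)
    (r : ℕ) (W : Finset (Fin n → R)) (hW : ∀ z ∈ W, ∑ i, z i • x i = 0)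
    (R₁ : Type u) [CommRing R₁] [Algebra R R₁] (f b : R)
    (hJmap : (minorsOf (W : Set (Fin n → R)) (n - r)).map (algebraMap R R₁)
      = Ideal.span {algebraMap R R₁ b})
    (q : Ideal R₁) [q.IsPrime] :
    ∃ g' : Fin r → LocalizedModule q.primeCompl
        ((R₁ ⊗[R] M) ⧸ FlatCA.powTorsion R₁ (algebraMap R R₁ (f * b)) (R₁ ⊗[R] M)),
      Submodule.span (Localization.AtPrime q) (Set.range g') = ⊤ := by
  classical
  let ψ : R →+* Localization.AtPrime q :=
    (algebraMap R₁ (Localization.AtPrime q)).comp (algebraMap R R₁)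
  let y : Fin n → LocalizedModule q.primeCompl (R₁ ⊗[R] M) :=
    fun i => LocalizedModule.mkLinearMap q.primeCompl (R₁ ⊗[R] M) ((1 : R₁) ⊗ₜ[R] x i)
  have hy : Submodule.span (Localization.AtPrime q) (Set.range y) = ⊤ := by
    have := span_eq_top_of_isLocalizedModule (Localization.AtPrime q) q.primeCompl
      (LocalizedModule.mkLinearMap q.primeCompl (R₁ ⊗[R] M)) (span_one_tmul (R' := R₁) x hx)
    rwa [← Set.range_comp] at this
  have h𝒲 : ∀ z' ∈ ((fun z : Fin n → R => fun i => ψ (z i)) '' (W : Set (Fin n → R))),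
      ∑ i, z' i • y i = 0 := by
    rintro _ ⟨z, hz, rfl⟩
    have h1 : ∀ i, ψ (z i) • y i = LocalizedModule.mkLinearMap q.primeCompl (R₁ ⊗[R] M)
        ((1 : R₁) ⊗ₜ[R] (z i • x i)) := by
      intro i
      simp only [ψ, y, RingHom.comp_apply]
      rw [algebraMap_smul, ← map_smul, algebraMap_smul, TensorProduct.tmul_smul]
    simp only [h1]
    rw [← map_sum, ← TensorProduct.tmul_sum, hW z hz, TensorProduct.tmul_zero, map_zero]
  have hminors : minorsOf ((fun z : Fin n → R => fun i => ψ (z i)) '' (W : Set (Fin n → R))) (n - r)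
      = Ideal.span {algebraMap R₁ (Localization.AtPrime q) (algebraMap R R₁ b)} := by
    rw [minorsOf_map ψ, ← Ideal.map_map, hJmap, Ideal.map_span, Set.image_singleton]
  obtain ⟨g, hg⟩ := gens_quot_of_principalW (LocalizedModule q.primeCompl (R₁ ⊗[R] M)) y hy _ h𝒲 r _
    hminors
  exact gens_localized_quot_of_gens (R₁ ⊗[R] M) r (algebraMap R R₁ (f * b)) (algebraMap R R₁ b)
    (algebraMap R R₁ f) (map_mul _ _ _) q g hg

end Groth.Agent.Helper18Fitt
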