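import Mathlib
import Groth.Agent.Lib.Helper18Fitt26

set_option autoImplicit false
universe u v

namespace Groth.Agent.Helper18Fitt

open Matrix TensorProduct

variable {R : Type u} [CommRing R] (M : Type u) [AddCommGroup M] [Module R M] [Module.Finite R M]

theorem main_S6924 (f : R) (r : ℕ) (hf : LocFreeOn M f r) :
    ∃ I : Ideal R, I.FG ∧ I.radical = (Ideal.span {f}).radical ∧ ∀ a ∈ I, ∀ (R₁ : Type u)
      [CommRing R₁] [Algebra R R₁] (e : R₁ ≃ₐ[R] ↥(BlowUp.affineAlgebra R I a)),
      ∀ (p' : Ideal R₁) [p'.IsPrime], ∃ g : R₁, g ∉ p' ∧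
        Module.Free (Localization.Away g) (LocalizedModule (Submonoid.powers g)
          ((R₁ ⊗[R] M) ⧸ FlatCA.powTorsion R₁ (algebraMap R R₁ a) (R₁ ⊗[R] M))) ∧
        Module.finrank (Localization.Away g) (LocalizedModule (Submonoid.powers g)
          ((R₁ ⊗[R] M) ⧸ FlatCA.powTorsion R₁ (algebraMap R R₁ a) (R₁ ⊗[R] M))) = r := by
  classical
  obtain ⟨n, x, hx⟩ := Module.Finite.exists_fin (R := R) (M := M)
  have hF : Fitt.ideal R M r = minors x (n - r) := fitt_eq_minors x hx r
  obtain ⟨N0, hN0⟩ := mem_radical_fitt M f r hf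
  rw [hF, minors_eq_minorsOf] at hN0
  obtain ⟨W, hW1, hW2⟩ := exists_finset_of_mem_minorsOf _ _ _ hN0
  set J := minorsOf (W : Set (Fin n → R)) (n - r) with hJ
  have hWrel : ∀ z ∈ W, ∑ i, z i • x i = 0 := fun z hz => hW1 (Finset.mem_coe.mpr hz)
  refine ⟨Ideal.span {f} * J, (Submodule.fg_span_singleton f).mul (minorsOf_fg W _), ?_, ?_⟩
  · apply le_antisymm
    · exact Ideal.radical_mono Ideal.mul_le_left
    · rw [Ideal.radical_le_radical_iff, Ideal.span_le, Set.singleton_subset_iff]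
      refine ⟨N0 + 1, ?_⟩
      rw [pow_succ']
      exact Ideal.mul_mem_mul (Ideal.mem_span_singleton_self f) hW2
  · intro a ha R₁ _ _ e
    obtain ⟨b, hbJ, rfl⟩ := Ideal.mem_span_singleton_mul.mp ha
    have hnzd : algebraMap R R₁ (f * b) ∈ nonZeroDivisors R₁ := blowup_nonZeroDivisor _ _ R₁ e
    have hnzd' := hnzd
    rw [map_mul, mul_mem_nonZeroDivisors] at hnzd'
    obtain ⟨hfnzd, hbnzd⟩ := hnzd'
    have hImap := map_blowup_eq_span (Ideal.span {f} * J) (f * b) ha R₁ e
    have hJmap : J.map (algebraMap R R₁) = Ideal.span {algebraMap R R₁ b} := by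
      apply le_antisymm
      · rw [Ideal.map_le_iff_le_comap]
        intro y hy
        rw [Ideal.mem_comap]
        have h1 : algebraMap R R₁ (f * y) ∈ Ideal.span {algebraMap R R₁ (f * b)} := by
          rw [← hImap]
          exact Ideal.mem_map_of_mem _ (Ideal.mul_mem_mul (Ideal.mem_span_singleton_self f) hy)
        obtain ⟨c, hc⟩ := Ideal.mem_span_singleton'.mp h1
        rw [Ideal.mem_span_singleton']
        refine ⟨c, ?_⟩
        rw [map_mul, map_mul] at hc
        have h2 : algebraMap R R₁ f * (c * algebraMap R R₁ b) = algebraMap R R₁ f * algebraMap R R₁ y := by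
          rw [← hc]; ring
        exact mul_cancel_left_mem_nonZeroDivisors hfnzd |>.mp h2
      · rw [Ideal.span_le, Set.singleton_subset_iff]
        exact Ideal.mem_map_of_mem _ hbJ
    have htop : Fitt.ideal R₁
        ((R₁ ⊗[R] M) ⧸ FlatCA.powTorsion R₁ (algebraMap R R₁ (f * b)) (R₁ ⊗[R] M)) r = ⊤ := by
      by_contra hne
      obtain ⟨q, hq, hle⟩ := Ideal.exists_le_maximal _ hne
      obtain ⟨g', hg'⟩ := gens_strict_local M x hx r W hWrel R₁ f b hJmap q
      exact ((main_S6894 _ r q).2.1.mpr ⟨g', hg'⟩) hle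
    apply locFree_of_fitt _ r
    · intro j hj
      have hr : 1 ≤ r := by omega
      have hbot : Fitt.ideal R₁
          ((R₁ ⊗[R] M) ⧸ FlatCA.powTorsion R₁ (algebraMap R R₁ (f * b)) (R₁ ⊗[R] M)) (r - 1) = ⊥ := by
        apply fitt_quot_torsion_eq_bot _ _ _ hnzd
        rw [fitt_baseChange, Ideal.map_eq_bot_iff_le_ker]
        intro d hd
        obtain ⟨m, hm⟩ := exists_pow_mul_eq_zero_of_locFreeOn M f r hr hf d hd
        rw [RingHom.mem_ker]
        have h1 : algebraMap R R₁ f ^ m * algebraMap R R₁ d = 0 := by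
          rw [← map_pow, ← map_mul, hm, map_zero]
        have hnz : algebraMap R R₁ f ^ m ∈ nonZeroDivisors R₁ := Submonoid.pow_mem _ hfnzd _
        rw [mul_comm] at h1
        exact (mem_nonZeroDivisors_iff.mp hnz).2 _ h1 |> fun h => h
      rw [eq_bot_iff, ← hbot]
      exact fitt_mono (by omega)
    · intro j hj
      rw [eq_top_iff, ← htop]
      exact fitt_mono hj

end Groth.Agent.Helper18Fitt
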