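import Mathlib
import Groth.Agent.Lib.Helper18Fitt27

set_option autoImplicit false
universe u v

namespace Groth.Agent.Helper18Fitt

open Matrix TensorProduct

variable {R : Type u} [CommRing R]

/-- minors of a finite family of rows -/
def minorsFam {n t : ℕ} (w : Fin t → (Fin n → R)) (s : ℕ) : Ideal R :=
  Ideal.span {d | ∃ (β : Fin s → Fin t) (ε : Fin s → Fin n),
    d = (Matrix.of fun a b => w (β b) (ε a)).det}

theorem minors_eq_minorsFam {M : Type v} [AddCommGroup M] [Module R M] {n t : ℕ}
    (x : Fin n → M) (w : Fin t → (Fin n → R))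
    (hrel : ∀ z : Fin n → R, ∑ i, z i • x i = 0 ↔ z ∈ Submodule.span R (Set.range w)) (s : ℕ) :
    minors (R := R) x s = minorsFam w s := by
  classical
  apply le_antisymm
  · unfold minors
    rw [Ideal.span_le]
    rintro d ⟨z, e, hz, rfl⟩
    have hzW : ∀ b, z b ∈ Submodule.span R ((Finset.univ.image w : Finset (Fin n → R)) : Set (Fin n → R)) := by
      intro b
      rw [Finset.coe_image, Finset.coe_univ, Set.image_univ]
      exact (hrel _).mp (hz b)
    refine (Ideal.span_le.mpr ?_) (minor_mem_of_span (Finset.univ.image w) e z hzW)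
    rintro d ⟨w', e', hw', rfl⟩
    have : ∀ b, ∃ β, w β = w' b := by
      intro b
      have := hw' b
      rw [Finset.mem_image] at this
      obtain ⟨β, -, hβ⟩ := this
      exact ⟨β, hβ⟩
    choose β hβ using this
    apply Ideal.subset_span
    refine ⟨β, e', ?_⟩
    congr 1
    ext a b
    simp only [Matrix.of_apply]
    rw [hβ]
  · unfold minorsFam
    rw [Ideal.span_le]
    rintro d ⟨β, ε, rfl⟩
    apply Ideal.subset_span
    exact ⟨fun b => w (β b), ε, fun b => (hrel _).mpr (Submodule.subset_span ⟨β b, rfl⟩), rfl⟩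

theorem minorsFam_eq_bot_of_lt {n t : ℕ} (w : Fin t → (Fin n → R)) (s : ℕ) (h : t < s) :
    minorsFam w s = ⊥ := by
  rw [eq_bot_iff]
  unfold minorsFam
  rw [Ideal.span_le]
  rintro d ⟨β, ε, rfl⟩
  rw [SetLike.mem_coe, Ideal.mem_bot]
  have hni : ¬ Function.Injective β := by
    intro hinj
    have := Fintype.card_le_of_injective β hinj
    simp at this
    omega
  rw [Function.Injective] at hni
  push Not at hni
  obtain ⟨b, b', hbb, hne⟩ := hni
  apply Matrix.det_zero_of_column_eq hne
  intro a
  simp [hbb]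

theorem minorsFam_transpose {n t : ℕ} (w : Fin t → (Fin n → R)) (s : ℕ) :
    minorsFam w s = minorsFam (fun (i : Fin n) (b : Fin t) => w b i) s := by
  apply le_antisymm
  · unfold minorsFam
    rw [Ideal.span_le]
    rintro d ⟨β, ε, rfl⟩
    apply Ideal.subset_span
    refine ⟨ε, β, ?_⟩
    rw [← Matrix.det_transpose]
    rfl
  · unfold minorsFam
    rw [Ideal.span_le]
    rintro d ⟨β, ε, rfl⟩
    apply Ideal.subset_span
    refine ⟨ε, β, ?_⟩
    rw [← Matrix.det_transpose]
    rfl

end Groth.Agent.Helper18Fitt
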