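import Mathlib
import Groth.Agent.Lib.Helper18Fitt28

set_option autoImplicit false
universe u v

namespace Groth.Agent.Helper18Fitt

open Matrix TensorProduct

variable {R : Type u} [CommRing R] {m n : ℕ} (σ : (Fin m → R) →ₗ[R] (Fin n → R))

/-- the columns of `σ` -/
def colFam : Fin m → (Fin n → R) := fun b => σ (Pi.single b 1)

theorem range_eq_span_colFam : LinearMap.range σ = Submodule.span R (Set.range (colFam σ)) := by
  have h1 : (⊤ : Submodule R (Fin m → R)) = Submodule.span R (Set.range (Pi.basisFun R (Fin m))) :=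
    (Pi.basisFun R (Fin m)).span_eq.symm
  rw [← Submodule.map_top, h1, Submodule.map_span, ← Set.range_comp]
  congr 2
  funext b
  simp [colFam, Pi.basisFun_apply]

/-- generators of the cokernel -/
def cokerGen : Fin n → (Fin n → R) ⧸ LinearMap.range σ :=
  fun i => (LinearMap.range σ).mkQ (Pi.single i 1)

theorem cokerGen_span : Submodule.span R (Set.range (cokerGen σ)) = ⊤ := by
  have h1 : (⊤ : Submodule R (Fin n → R)) = Submodule.span R (Set.range (Pi.basisFun R (Fin n))) :=
    (Pi.basisFun R (Fin n)).span_eq.symm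
  have : Set.range (cokerGen σ) = (LinearMap.range σ).mkQ '' Set.range (Pi.basisFun R (Fin n)) := by
    rw [← Set.range_comp]
    congr 1
    funext b
    simp [cokerGen, Pi.basisFun_apply]
  rw [this, ← Submodule.map_span, ← h1, Submodule.map_top, Submodule.range_mkQ]

theorem cokerGen_rel (z : Fin n → R) :
    ∑ i, z i • cokerGen σ i = 0 ↔ z ∈ Submodule.span R (Set.range (colFam σ)) := by
  rw [← range_eq_span_colFam]
  have : ∑ i, z i • cokerGen σ i = (LinearMap.range σ).mkQ z := by
    simp only [cokerGen, ← map_smul, ← map_sum]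
    congr 1
    funext j
    simp [Finset.sum_apply, Pi.single_apply]
  rw [this, Submodule.mkQ_apply, Submodule.Quotient.mk_eq_zero]

/-- generators of the cokernel of the dual map -/
def dualGen : Fin m → Module.Dual R (Fin m → R) ⧸ LinearMap.range σ.dualMap :=
  fun b => (LinearMap.range σ.dualMap).mkQ (LinearMap.proj b)

theorem dual_eq_sum {k : ℕ} (φ : Module.Dual R (Fin k → R)) :
    φ = ∑ b, φ (Pi.single b 1) • (LinearMap.proj b : (Fin k → R) →ₗ[R] R) := by
  apply LinearMap.pi_ext'
  intro b
  ext
  simp [Finset.sum_apply, Pi.single_apply]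

theorem dualGen_span : Submodule.span R (Set.range (dualGen σ)) = ⊤ := by
  rw [eq_top_iff]
  rintro y -
  obtain ⟨φ, rfl⟩ := (LinearMap.range σ.dualMap).mkQ_surjective y
  rw [dual_eq_sum φ, map_sum]
  refine Submodule.sum_mem _ (fun b _ => ?_)
  rw [map_smul]
  exact Submodule.smul_mem _ _ (Submodule.subset_span ⟨b, rfl⟩)

theorem dual_apply_eq {k : ℕ} (φ : Module.Dual R (Fin k → R)) (v : Fin k → R) :
    φ v = ∑ i, φ (Pi.single i 1) * v i := by
  conv_lhs => rw [dual_eq_sum φ]
  simp [LinearMap.sum_apply]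

theorem dualGen_rel (c : Fin m → R) :
    ∑ b, c b • dualGen σ b = 0 ↔
      c ∈ Submodule.span R (Set.range (fun (i : Fin n) (b : Fin m) => colFam σ b i)) := by
  have h0 : ∑ b, c b • dualGen σ b
      = (LinearMap.range σ.dualMap).mkQ (∑ b, c b • (LinearMap.proj b : (Fin m → R) →ₗ[R] R)) := by
    simp only [dualGen, map_sum, map_smul]
  rw [h0, Submodule.mkQ_apply, Submodule.Quotient.mk_eq_zero, LinearMap.mem_range]
  constructor
  · rintro ⟨φ, hφ⟩
    have hc : c = ∑ i, φ (Pi.single i 1) • (fun b : Fin m => colFam σ b i) := by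
      funext b
      have h1 := congrArg (fun ψ : Module.Dual R (Fin m → R) => ψ (Pi.single b 1)) hφ
      simp only [LinearMap.dualMap_apply, LinearMap.sum_apply,
        LinearMap.smul_apply, LinearMap.proj_apply, Pi.single_apply, smul_eq_mul, mul_ite, mul_one,
        mul_zero, Finset.sum_ite_eq, Finset.sum_ite_eq', Finset.mem_univ, if_true] at h1
      rw [← h1, dual_apply_eq φ]
      simp [colFam, Finset.sum_apply]
    rw [hc]
    exact Submodule.sum_mem _ (fun i _ => Submodule.smul_mem _ _ (Submodule.subset_span ⟨i, rfl⟩))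
  · intro hc
    obtain ⟨φc, hφc⟩ := (Submodule.mem_span_range_iff_exists_fun R).mp hc
    refine ⟨∑ i, φc i • (LinearMap.proj i : (Fin n → R) →ₗ[R] R), ?_⟩
    apply LinearMap.pi_ext'
    intro b
    ext
    simp only [LinearMap.dualMap_apply, LinearMap.coe_comp, LinearMap.coe_single, Function.comp_apply,
      LinearMap.sum_apply, LinearMap.smul_apply, LinearMap.proj_apply, smul_eq_mul,
      Pi.single_apply, mul_ite, mul_one, mul_zero, Finset.sum_ite_eq, Finset.sum_ite_eq',
      Finset.mem_univ, if_true]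
    rw [← hφc]
    simp [colFam, Finset.sum_apply]

theorem main_S14347 (R : Type u) [CommRing R] (m n : ℕ)
    (σ : (Fin m → R) →ₗ[R] (Fin n → R)) (hσ : Function.Injective σ) :
    (∀ j : ℕ, Fitt.ideal R ((Fin n → R) ⧸ LinearMap.range σ) (n - m + j) =
        Fitt.ideal R (Module.Dual R (Fin m → R) ⧸ LinearMap.range σ.dualMap) j) ∧
      ∀ i : ℕ, i < n - m → Fitt.ideal R ((Fin n → R) ⧸ LinearMap.range σ) i = ⊥ := by
  have hM : ∀ k, Fitt.ideal R ((Fin n → R) ⧸ LinearMap.range σ) k = minorsFam (colFam σ) (n - k) := by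
    intro k
    rw [fitt_eq_minors (cokerGen σ) (cokerGen_span σ) k]
    exact minors_eq_minorsFam _ _ (cokerGen_rel σ) _
  have hK : ∀ k, Fitt.ideal R (Module.Dual R (Fin m → R) ⧸ LinearMap.range σ.dualMap) k
      = minorsFam (colFam σ) (m - k) := by
    intro k
    rw [fitt_eq_minors (dualGen σ) (dualGen_span σ) k, minorsFam_transpose]
    exact minors_eq_minorsFam _ _ (dualGen_rel σ) _
  constructor
  · intro j
    rcases subsingleton_or_nontrivial R with hR | hR
    · apply Subsingleton.elim
    · have hmn : m ≤ n := le_of_fin_injective R σ hσ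
      rw [hM, hK]
      congr 1
      omega
  · intro i hi
    rw [hM]
    exact minorsFam_eq_bot_of_lt _ _ (by omega)

end Groth.Agent.Helper18Fitt
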