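import Mathlib
import Groth.Agent.Lib.Helper18Fitt29

set_option autoImplicit false
universe u v w

namespace Groth.Agent.Helper18Fitt

open Matrix TensorProduct

theorem fitt_le_of_surjective' {R : Type u} [CommRing R] {M : Type v} {M' : Type w} [AddCommGroup M]
    [Module R M] [AddCommGroup M'] [Module R M'] (f : M →ₗ[R] M') (hf : Function.Surjective f)
    (k : ℕ) : Fitt.ideal R M k ≤ Fitt.ideal R M' k := by
  unfold Fitt.ideal
  rw [Ideal.span_le]
  rintro d ⟨n, x, a, hx, ha, rfl⟩
  apply Ideal.subset_span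
  refine ⟨n, f ∘ x, a, ?_, ?_, rfl⟩
  · rw [Set.range_comp, ← Submodule.map_span, hx, Submodule.map_top, LinearMap.range_eq_top]
    exact hf
  · intro i hi
    have := congrArg f (ha i hi)
    simpa [map_sum] using this

theorem fitt_congr' {R : Type u} [CommRing R] {M : Type v} {M' : Type w} [AddCommGroup M]
    [Module R M] [AddCommGroup M'] [Module R M'] (e : M ≃ₗ[R] M') (k : ℕ) :
    Fitt.ideal R M k = Fitt.ideal R M' k :=
  le_antisymm (fitt_le_of_surjective' e.toLinearMap e.surjective k)
    (fitt_le_of_surjective' e.symm.toLinearMap e.symm.surjective k)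

theorem locFree_of_projective {A : Type u} [CommRing A] (Q : Type u) [AddCommGroup Q] [Module A Q]
    [Module.Finite A Q] [Module.Projective A Q] (k : ℕ)
    (h : ∀ p, Module.rankAtStalk (R := A) Q p = k) : LocFree (R := A) Q k := by
  intro p _
  have hfp : Module.FinitePresentation A Q := Module.finitePresentation_of_projective A Q
  have hfree : Module.Free (Localization.AtPrime p) (LocalizedModule p.primeCompl Q) := by
    have h1 : (⟨p, inferInstance⟩ : PrimeSpectrum A) ∈ Module.freeLocus A Q := by
      rw [Module.freeLocus_eq_univ]; trivial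
    exact Module.mem_freeLocus.mp h1
  obtain ⟨f, hf, hfr, hrk⟩ := Module.FinitePresentation.exists_free_localizedModule_powers
    p.primeCompl (LocalizedModule.mkLinearMap p.primeCompl Q) (Localization.AtPrime p)
  exact ⟨f, hf, hfr, hrk.trans (h ⟨p, inferInstance⟩)⟩

theorem main_S14345 (R : Type u) [CommRing R]
    (M : Type v) [AddCommGroup M] [Module R M] [Module.Finite R M] (k : ℕ)
    (A : Type u) [CommRing A] [Algebra R A] (N : Module.Grassmannian A (A ⊗[R] M) k)
    (j : ℕ) (hj : j < k) :
    (Fitt.ideal R M j).map (algebraMap R A) = ⊥ := by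
  obtain ⟨n, x, hx⟩ := Module.Finite.exists_fin (R := R) (M := M)
  let π : (Fin n → R) →ₗ[R] M := Fintype.linearCombination R x
  have hπ : Function.Surjective π := by
    rw [← LinearMap.range_eq_top, Fintype.range_linearCombination]; exact hx
  let M' := (Fin n → R) ⧸ LinearMap.ker π
  let e : M' ≃ₗ[R] M := π.quotKerEquivOfSurjective hπ
  rw [fitt_congr' e.symm j, ← fitt_baseChange (R' := A) (M := M') j]
  let E : A ⊗[R] M' ≃ₗ[A] A ⊗[R] M :=
    TensorProduct.AlgebraTensorModule.congr (LinearEquiv.refl A A) e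
  let q : A ⊗[R] M' →ₗ[A] (A ⊗[R] M) ⧸ N.toSubmodule := N.toSubmodule.mkQ ∘ₗ E.toLinearMap
  have hq : Function.Surjective q := (Submodule.mkQ_surjective _).comp E.surjective
  let Q' := (A ⊗[R] M') ⧸ LinearMap.ker q
  let eq : Q' ≃ₗ[A] (A ⊗[R] M) ⧸ N.toSubmodule := q.quotKerEquivOfSurjective hq
  have : Module.Finite A Q' := Module.Finite.equiv eq.symm
  have : Module.Projective A Q' := Module.Projective.of_equiv eq.symm
  have hrank : ∀ p, Module.rankAtStalk (R := A) Q' p = k := fun p => by
    rw [Module.rankAtStalk_eq_of_equiv eq]; exact N.rankAtStalk_eq p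
  have h1 := (fitt_of_locFree Q' k (locFree_of_projective Q' k hrank)).1 j hj
  rw [eq_bot_iff, ← h1]
  exact fitt_le_of_surjective (LinearMap.ker q).mkQ (Submodule.mkQ_surjective _) j

end Groth.Agent.Helper18Fitt
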