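import Mathlib
import Groth.Agent.Lib.Helper18Fitt30
import Groth.Agent.Lib.Helper20FittSheaf
import Groth.Agent.Lib.Helper2FPAff
import Groth.Agent.Lib.Helper23FinType2

set_option autoImplicit false
set_option linter.style.haveILetI false
universe u
open CategoryTheory AlgebraicGeometry Limits Opposite

namespace Groth.Agent.Helper18FittSh

open Groth.Agent.Helper18Fitt Groth.Agent.Lib.Helper2.FPAff

/-- Fitting ideals commute with localization (general form). -/
theorem fitt_map_of_isLocalizedModule {A : Type u} [CommRing A] (S : Submonoid A) {A' : Type u}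
    [CommRing A'] [Algebra A A'] [IsLocalization S A'] {N N' : Type u} [AddCommGroup N] [Module A N]
    [AddCommGroup N'] [Module A N'] [Module A' N'] [IsScalarTower A A' N'] (r : N →ₗ[A] N')
    [IsLocalizedModule S r] [Module.Finite A N] (k : ℕ) :
    Ideal.map (algebraMap A A') (Fitt.ideal A N k) = Fitt.ideal A' N' k := by
  rw [← fitt_baseChange (R' := A') (M := N) k]
  exact fitt_congr (IsLocalizedModule.isBaseChange S A' r).equiv k

variable {X : Scheme.{u}} (M : X.Modules) [M.IsQuasicoherent] {U : X.Opens} (hU : IsAffineOpen U)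

include hU in
theorem map_fitt_basicOpen (k : ℕ) (g : Γ(X, U)) [Module.Finite Γ(X, U) Γ(M, U)] :
    (Fitt.ideal Γ(X, U) Γ(M, U) k).map (X.presheaf.map (homOfLE (X.basicOpen_le g)).op).hom =
      Fitt.ideal Γ(X, X.basicOpen g) Γ(M, X.basicOpen g) k := by
  have hloc : IsLocalization.Away g Γ(X, X.basicOpen g) := hU.isLocalization_basicOpen g
  letI := moduleRes M (X.basicOpen_le g)
  haveI := isScalarTower_basicOpen M g
  haveI := isLocalizedModule_basicOpen M hU g
  exact fitt_map_of_isLocalizedModule (Submonoid.powers g) (resₗ M (X.basicOpen_le g)) k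

/-- the `k`-th Fitting ideal sheaf of a quasi-coherent module of finite type. -/
noncomputable def fittSheaf (k : ℕ) (hfin : ∀ V : X.affineOpens, Module.Finite Γ(X, V.1) Γ(M, V.1)) :
    X.IdealSheafData where
  ideal V := Fitt.ideal Γ(X, V.1) Γ(M, V.1) k
  map_ideal_basicOpen V g := by
    haveI := hfin V
    exact map_fitt_basicOpen M V.2 k g

theorem sheafIdeal_eq (k : ℕ) (hfin : ∀ V : X.affineOpens, Module.Finite Γ(X, V.1) Γ(M, V.1)) :
    Fitt.sheafIdeal M k = fittSheaf M k hfin :=
  Scheme.IdealSheafData.ofIdeals_ideal (fittSheaf M k hfin)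

theorem sheafIdeal_ideal (k : ℕ) (hfin : ∀ V : X.affineOpens, Module.Finite Γ(X, V.1) Γ(M, V.1))
    (V : X.affineOpens) :
    (Fitt.sheafIdeal M k).ideal V = Fitt.ideal Γ(X, V.1) Γ(M, V.1) k := by
  rw [sheafIdeal_eq M k hfin]
  rfl

/-- finite type + quasi-coherent: finite sections on affine opens -/
theorem finite_sections (hft : CohB1.IsFT M) (V : X.affineOpens) :
    Module.Finite Γ(X, V.1) Γ(M, V.1) :=
  haveI : SheafOfModules.IsFiniteType (R := X.ringCatSheaf) M := hft
  Groth.Agent.Lib.Helper23.FinType.finite_of_isFiniteType M V.2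

end Groth.Agent.Helper18FittSh

namespace Groth.Agent.Helper18FittSh

open Groth.Agent.Helper18Fitt Groth.Agent.Lib.Helper2.FPAff

variable {X : Scheme.{u}} (M : X.Modules) [M.IsQuasicoherent]

theorem mem_support_iff (k : ℕ) (hfin : ∀ V : X.affineOpens, Module.Finite Γ(X, V.1) Γ(M, V.1))
    (x : X) (V : X.affineOpens) (hxV : x ∈ V.1) :
    x ∈ (Fitt.sheafIdeal M k).support ↔
      Fitt.ideal Γ(X, V.1) Γ(M, V.1) k ≤ (V.2.primeIdealOf ⟨x, hxV⟩).asIdeal := by
  rw [Scheme.IdealSheafData.mem_support_iff_of_mem (U := V) hxV, sheafIdeal_ideal M k hfin V,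
    Scheme.mem_zeroLocus_iff]
  constructor
  · intro h f hf
    by_contra hfp
    exact h f hf ((Groth.Agent.Lib.Helper2.mem_basicOpen_iff_notMem_primeIdealOf V.2 x hxV f).mpr hfp)
  · intro h f hf hxf
    exact (Groth.Agent.Lib.Helper2.mem_basicOpen_iff_notMem_primeIdealOf V.2 x hxV f).mp hxf (h hf)

theorem main_S8873 (S : Scheme.{u}) (F : S.Modules) (hF : CohB1.IsFP F) (r : ℕ) :
    BlowUp.IsFiniteTypeIdeal (Fitt.sheafIdeal F r) := by
  haveI : SheafOfModules.IsFinitePresentation (R := S.ringCatSheaf) F := hF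
  haveI : F.IsQuasicoherent :=
    { nonempty_quasicoherentData := ⟨(SheafOfModules.IsFinitePresentation.exists_quasicoherentData (R := S.ringCatSheaf) F).choose⟩ }
  have hft : CohB1.IsFT F := by
    obtain ⟨σ, hσ⟩ := SheafOfModules.IsFinitePresentation.exists_quasicoherentData (R := S.ringCatSheaf) F
    exact { exists_localGeneratorsData := ⟨σ.localGeneratorsData,
      { isFiniteType := fun i => (hσ.isFinite_presentation i).isFiniteType_generators }⟩ }
  intro U
  rw [sheafIdeal_ideal F r (finite_sections F hft) U]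
  haveI := finite_sections F hft U
  exact fitt_fg_of_fp (finitePresentation_sections F U.2) r

theorem main_S8877 (S : Scheme.{u}) (F : S.Modules) (hF : Coh.IsQCoh F) (hft : CohB1.IsFT F)
    (s : ↥S) : ∃ r : ℕ, s ∉ (Fitt.sheafIdeal F r).support := by
  haveI : F.IsQuasicoherent := hF
  obtain ⟨V, hV, hsV, -⟩ := exists_isAffineOpen_mem_and_subset (x := s) (U := ⊤) trivial
  haveI := finite_sections F hft ⟨V, hV⟩
  obtain ⟨n, x, hx⟩ := Module.Finite.exists_fin (R := Γ(S, V)) (M := Γ(F, V))
  refine ⟨n, ?_⟩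
  rw [mem_support_iff F n (finite_sections F hft) s ⟨V, hV⟩ hsV, fitt_top_of_gens n x hx]
  intro h
  exact (hV.primeIdealOf ⟨s, hsV⟩).isPrime.ne_top (top_le_iff.mp h)

theorem main_S8876 (S : Scheme.{u}) (F : S.Modules) (hF : Coh.IsQCoh F) (hft : CohB1.IsFT F) :
    ((Fitt.sheafIdeal F 0).support : Set ↥S) = CohB1.support F := by
  haveI : F.IsQuasicoherent := hF
  ext x
  exact Groth.Agent.Lib.Helper20.FittSheaf.mem_support_sheafIdeal_iff F (finite_sections F hft) x

end Groth.Agent.Helper18FittSh
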