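import Mathlib
import Groth.Agent.Lib.Helper18FittSh1

set_option autoImplicit false
set_option linter.style.haveILetI false
universe u
open CategoryTheory AlgebraicGeometry Limits Opposite

namespace Groth.Agent.Helper18FittSh

open Groth.Agent.Helper18Fitt

section alg

variable {A : Type u} [CommRing A] {M : Type u} [AddCommGroup M] [Module A M]

/-- Cramer: with relations `z` and a column selection `e`, the minor times every generator lies in
the span of the unselected generators. -/
theorem minor_smul_mem_span_compl {n s : ℕ} (x : Fin n → M)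
    (z : Fin s → (Fin n → A)) (e : Fin s → Fin n) (he : Function.Injective e)
    (hz : ∀ j, ∑ i, z j i • x i = 0) (j : Fin n) :
    (Matrix.of fun a b => z b (e a)).det • x j ∈
      Submodule.span A (x '' {j | j ∉ Set.range e}) := by
  classical
  set N : Submodule A M := Submodule.span A (x '' {j | j ∉ Set.range e}) with hN
  by_cases hj : j ∈ Set.range e
  · obtain ⟨a, rfl⟩ := hj
    let w : Fin n → M ⧸ N := fun j => N.mkQ (x j)
    let v : Fin s → M ⧸ N := fun a => w (e a)
    have hw0 : ∀ j, j ∉ Set.range e → w j = 0 := by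
      intro j hj
      simp only [w, Submodule.mkQ_apply, Submodule.Quotient.mk_eq_zero]
      exact Submodule.subset_span ⟨j, hj, rfl⟩
    have hwrel : ∀ b, ∑ j, z b j • w j = 0 := by
      intro b
      have h1 : ∑ j, z b j • w j = N.mkQ (∑ j, z b j • x j) := by
        simp only [map_sum, map_smul, w]
      rw [h1, hz b, map_zero]
    have hrel : ∀ b, ∑ a, (Matrix.of fun b a => z b (e a)) b a • v a = 0 := by
      intro b
      rw [← hwrel b]
      refine Finset.sum_of_injOn e he.injOn (fun _ _ => Finset.mem_coe.mpr (Finset.mem_univ _))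
        ?_ (fun a _ => rfl)
      intro j _ hj
      rw [hw0 j (fun ⟨a, ha⟩ => hj ⟨a, Finset.mem_coe.mpr (Finset.mem_univ _), ha⟩), smul_zero]
    have h2 := Groth.Agent.S6891.det_smul_eq_zero v (Matrix.of fun b a => z b (e a)) hrel a
    have hdet : (Matrix.of fun b a => z b (e a)).det = (Matrix.of fun a b => z b (e a)).det := by
      rw [← Matrix.det_transpose]; rfl
    rw [hdet] at h2
    simp only [v, w, Submodule.mkQ_apply, ← Submodule.Quotient.mk_smul,
      Submodule.Quotient.mk_eq_zero] at h2
    exact h2
  · exact Submodule.smul_mem _ _ (Submodule.subset_span ⟨j, hj, rfl⟩)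

/-- in a localization where `d` becomes a unit, a set `G` with `d • x j ∈ span G` for generators `x`
spans. -/
theorem span_image_eq_top_of_smul_mem (S : Submonoid A) {A' : Type u} [CommRing A'] [Algebra A A']
    [IsLocalization S A'] {M' : Type u} [AddCommGroup M'] [Module A M'] [Module A' M']
    [IsScalarTower A A' M'] (ρ : M →ₗ[A] M') [IsLocalizedModule S ρ]
    {n : ℕ} (x : Fin n → M) (hx : Submodule.span A (Set.range x) = ⊤) (G : Set M) (d : A)
    (hd : d ∈ S) (h : ∀ j, d • x j ∈ Submodule.span A G) :
    Submodule.span A' (ρ '' G) = ⊤ := by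
  have h1 : Submodule.span A' (ρ '' Set.range x) = ⊤ :=
    span_eq_top_of_isLocalizedModule A' S ρ hx
  rw [eq_top_iff, ← h1, Submodule.span_le]
  rintro _ ⟨_, ⟨j, rfl⟩, rfl⟩
  have h2 : ρ (d • x j) ∈ Submodule.span A' (ρ '' G) := by
    have h3 : ρ (d • x j) ∈ Submodule.map ρ (Submodule.span A G) := ⟨_, h j, rfl⟩
    rw [Submodule.map_span] at h3
    exact (Submodule.span_le_restrictScalars A A' (ρ '' G)) h3
  have hu : IsUnit (algebraMap A A' d) := IsLocalization.map_units A' ⟨d, hd⟩
  obtain ⟨u, hu⟩ := hu
  rw [map_smul, ← algebraMap_smul A', ← hu] at h2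
  have h4 := Submodule.smul_mem _ ((↑u⁻¹ : A')) h2
  rwa [smul_smul, Units.inv_mul, one_smul] at h4

/-- enumerate the complement of the range of an injective selection by `Fin k`, padding with `0` -/
theorem exists_fin_enum_compl {n k : ℕ} (e : Fin (n - k) → Fin n) (he : Function.Injective e)
    {P : Type u} [AddCommGroup P] (y : Fin n → P) :
    ∃ g : Fin k → P, y '' {j | j ∉ Set.range e} ⊆ Set.range g := by
  classical
  let κ := {j : Fin n // j ∉ Set.range e}
  set c := Fintype.card κ with hc
  have hck : c ≤ k := by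
    have h1 : Fintype.card κ = n - Fintype.card (Set.range e) := by
      have := Fintype.card_compl_set (Set.range e)
      rw [Fintype.card_fin] at this
      rw [← this]
      exact Fintype.card_congr (Equiv.refl _)
    have h2 : Fintype.card (Set.range e) = n - k := by
      rw [Set.card_range_of_injective he, Fintype.card_fin]
    rw [hc, h1, h2]
    omega
  let eq : κ ≃ Fin c := Fintype.equivFin κ
  refine ⟨fun i => if h : (i : ℕ) < c then y (eq.symm ⟨i, h⟩).1 else 0, ?_⟩
  rintro _ ⟨j, hj, rfl⟩
  refine ⟨⟨(eq ⟨j, hj⟩ : ℕ), lt_of_lt_of_le (eq ⟨j, hj⟩).2 hck⟩, ?_⟩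
  simp only [Fin.is_lt, dite_true, Fin.eta, Equiv.symm_apply_apply]

/-- `r` generators of a module whose `(r-1)`-st Fitting ideal vanishes are linearly independent -/
theorem linearIndependent_of_fitt_bot {r : ℕ} (g : Fin r → M)
    (hg : Submodule.span A (Set.range g) = ⊤) (h1 : ∀ k, k < r → Fitt.ideal A M k = ⊥) :
    LinearIndependent A g := by
  rw [Fintype.linearIndependent_iff]
  intro z hz i
  rcases Nat.eq_zero_or_pos r with h0 | hpos
  · subst h0; exact i.elim0
  · have hF : Fitt.ideal A M (r - 1) = ⊥ := h1 (r - 1) (by omega)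
    rw [fitt_eq_minors g hg (r - 1), show r - (r - 1) = 1 by omega] at hF
    have hmem : z i ∈ minors (R := A) g 1 := by
      unfold minors
      apply Ideal.subset_span
      refine ⟨fun _ => z, fun _ => i, fun _ => hz, ?_⟩
      rw [Matrix.det_unique]
      rfl
    rw [hF, Ideal.mem_bot] at hmem
    exact hmem

end alg

end Groth.Agent.Helper18FittSh
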