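import Mathlib
import Groth.Prelude.Def_FlatMod2
import Groth.Agent.Lib.Helper2LocFree
import Groth.Agent.Lib.Helper2FibreCrit2

/-!
# Fibre rank and finite locally free modules (helper2)

Namespace `Groth.Agent.Lib.Helper2.RankLoc`.

* `exists_fin_span_eq_top`, `exists_smul_mem_span_of_span_eq_top`: algebra (Nakayama-type spreading out).
* `fibreRank M x`: `dim_{κ(x)} κ(x) ⊗ M_x`.
* `exists_affine_generators`: a quasi-coherent module of finite type is generated near `x` by `fibreRank M x`
  sections over a small affine open neighbourhood.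
* `span_germ_eq_top`: generators of sections over an affine open generate the stalks.
* `linearIndependent_of_isReduced`, `linearIndependent_of_free_stalks`: `n` generators over an affine open with
  constant fibre rank `n` are linearly independent (reduced scheme, resp. free stalks).
* `isFinLocFree_of_isLocallyConstant_fibreRank`.
* `fibreRank_eq_of_restrict_iso_freeMod`, `isLocallyConstant_fibreRank_of_isFinLocFree`.
-/

set_option autoImplicit false
set_option linter.style.haveILetI false
universe u
open CategoryTheory Limits AlgebraicGeometry TopologicalSpace Opposite TensorProduct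

namespace Groth.Agent.Lib.Helper2.RankLoc

open Groth.Agent.Lib.Helper2.FlatOver Groth.Agent.Lib.Helper2.QCoh Groth.Agent.Lib.Helper23.FinType
open Groth.Agent.Lib.Helper20.LocFree Groth.Agent.Lib.Helper20.PullbackAff Groth.Agent.Lib.Helper20.Thickening

section alg1
variable {O P : Type*} [CommRing O] [IsLocalRing O] [AddCommGroup P] [Module O P] [Module.Finite O P]

/-- from a generating set `G` of a finite module over a local ring one can pick
`dim_k (k ⊗ P)` elements which still generate. -/
theorem exists_fin_span_eq_top (G : Set P) (hG : Submodule.span O G = ⊤) :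
    ∃ f : Fin (Module.finrank (IsLocalRing.ResidueField O)
        (IsLocalRing.ResidueField O ⊗[O] P)) → P,
      (∀ i, f i ∈ G) ∧ Submodule.span O (Set.range f) = ⊤ := by
  classical
  set k := IsLocalRing.ResidueField O with hk
  set T : Set (k ⊗[O] P) := (TensorProduct.mk O k P 1) '' G with hT
  have hspan : Submodule.span k T = ⊤ := by
    rw [← IsLocalRing.map_tensorProduct_mk_eq_top, Submodule.map_span,
      ← Submodule.restrictScalars_span O k Ideal.Quotient.mk_surjective,
      Submodule.restrictScalars_eq_top_iff] at hG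
    exact hG
  obtain ⟨b, hbT, hbspan, hbli⟩ := exists_linearIndependent k T
  have hbtop : ⊤ ≤ Submodule.span k (Set.range (Subtype.val : b → k ⊗[O] P)) := by
    rw [Subtype.range_coe_subtype, Set.ofPred_mem_eq, hbspan, hspan]
  let B : Module.Basis b k (k ⊗[O] P) := Module.Basis.mk hbli hbtop
  haveI : Fintype b := FiniteDimensional.fintypeBasisIndex B
  have hcard : Module.finrank k (k ⊗[O] P) = Fintype.card b := Module.finrank_eq_card_basis B
  let e : Fin (Module.finrank k (k ⊗[O] P)) ≃ b := (Fintype.equivFinOfCardEq hcard.symm).symm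
  have hch : ∀ i, ∃ p ∈ G, TensorProduct.mk O k P 1 p = (e i : k ⊗[O] P) := fun i => hbT (e i).2
  choose f hfG hf using hch
  refine ⟨f, hfG, ?_⟩
  refine IsLocalRing.span_eq_top_of_tmul_eq_basis f (B.reindex e.symm) (fun i => ?_)
  rw [Module.Basis.reindex_apply, Equiv.symm_symm, Module.Basis.mk_apply]
  exact hf i

end alg1

section alg2
variable {A N : Type*} [CommRing A] [AddCommGroup N] [Module A N] [Module.Finite A N]
  (S : Submonoid A) {A' N' : Type*} [CommRing A'] [Algebra A A'] [IsLocalization S A']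
  [AddCommGroup N'] [Module A N'] [Module A' N'] [IsScalarTower A A' N']
  (g : N →ₗ[A] N') [IsLocalizedModule S g]

/-- if the images of `m i` generate the localization, then some `f ∈ S` multiplies `N` into the span
of the `m i`. -/
theorem exists_smul_mem_span_of_span_eq_top {ι : Type*} (m : ι → N)
    (h : Submodule.span A' (Set.range (g ∘ m)) = ⊤) :
    ∃ f ∈ S, ∀ y : N, f • y ∈ Submodule.span A (Set.range m) := by
  classical
  set N₀ := Submodule.span A (Set.range m) with hN₀
  have hloc : N₀.localized' A' S g = ⊤ := by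
    rw [hN₀, Submodule.localized'_span, ← Set.range_comp]
    exact h
  have key : ∀ y : N, ∃ t ∈ S, t • y ∈ N₀ := by
    intro y
    have hy : g y ∈ N₀.localized' A' S g := by rw [hloc]; trivial
    rw [Submodule.mem_localized'] at hy
    obtain ⟨n₀, hn₀, s, hs⟩ := hy
    rw [IsLocalizedModule.mk'_eq_iff] at hs
    have hs' : g n₀ = g ((s : A) • y) := by rw [map_smul]; exact hs
    obtain ⟨t, ht⟩ := IsLocalizedModule.exists_of_eq (S := S) hs'
    refine ⟨t * s, S.mul_mem t.2 s.2, ?_⟩
    rw [mul_smul]
    change (t : A) • ((s : A) • y) ∈ N₀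
    have : (t : A) • ((s : A) • y) = (t : A) • n₀ := ht.symm
    rw [this]
    exact N₀.smul_mem _ hn₀
  obtain ⟨Gs, hGs⟩ := (Module.Finite.fg_top : (⊤ : Submodule A N).FG)
  choose t htS ht using key
  refine ⟨∏ y ∈ Gs, t y, S.prod_mem (fun y _ => htS y), fun y => ?_⟩
  have hy : y ∈ Submodule.span A (Gs : Set N) := by rw [hGs]; trivial
  induction hy using Submodule.span_induction with
  | mem z hz =>
    rw [← Finset.mul_prod_erase Gs t hz, mul_comm, mul_smul]
    exact N₀.smul_mem _ (ht z)
  | zero => rw [smul_zero]; exact N₀.zero_mem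
  | add a b _ _ ha hb => rw [smul_add]; exact N₀.add_mem ha hb
  | smul c a _ ha => rw [smul_comm]; exact N₀.smul_mem _ ha

end alg2

variable {X : Scheme.{u}}

/-- the fibre rank of an `O_X`-module at a point. -/
noncomputable abbrev fibreRank (M : X.Modules) (x : X) : ℕ :=
  Module.finrank (IsLocalRing.ResidueField (X.presheaf.stalk x))
    (IsLocalRing.ResidueField (X.presheaf.stalk x) ⊗[X.presheaf.stalk x] M.presheaf.stalk x)

/-- restriction of sections to a smaller open, semilinear. -/
theorem res_mem_span (M : X.Modules) {U D : X.Opens} (hDU : D ≤ U) {ι : Type*} (m : ι → Γ(M, U))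
    (y : Γ(M, U)) (hy : y ∈ Submodule.span Γ(X, U) (Set.range m)) :
    M.presheaf.map (homOfLE hDU).op y ∈
      Submodule.span Γ(X, D) (Set.range fun i => M.presheaf.map (homOfLE hDU).op (m i)) := by
  induction hy using Submodule.span_induction with
  | mem z hz =>
    obtain ⟨i, rfl⟩ := hz
    exact Submodule.subset_span ⟨i, rfl⟩
  | zero => rw [map_zero]; exact Submodule.zero_mem _
  | add a b _ _ ha hb => rw [map_add]; exact Submodule.add_mem _ ha hb
  | smul c a _ ha =>
    rw [Scheme.Modules.map_smul]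
    exact Submodule.smul_mem _ _ ha

/-- near a point `x`, a quasi-coherent module of finite type is generated by `fibreRank M x`
sections over a small affine open neighbourhood. -/
theorem exists_affine_generators (M : X.Modules) [M.IsQuasicoherent]
    [SheafOfModules.IsFiniteType (R := X.ringCatSheaf) M] (x : X) (W : X.Opens) (hxW : x ∈ W) :
    ∃ (D : X.Opens) (_ : IsAffineOpen D) (m : Fin (fibreRank M x) → Γ(M, D)),
      x ∈ D ∧ D ≤ W ∧ Submodule.span Γ(X, D) (Set.range m) = ⊤ := by
  obtain ⟨U, hU, hxU, hUW⟩ : ∃ U : X.Opens, IsAffineOpen U ∧ x ∈ U ∧ U ≤ W := by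
    obtain ⟨_, ⟨U, hU, rfl⟩, hxU, hUle⟩ :=
      X.isBasis_affineOpens.exists_subset_of_mem_open hxW W.isOpen
    exact ⟨U, hU, hxU, hUle⟩
  haveI : Module.Finite Γ(X, U) Γ(M, U) := finite_of_isFiniteType M hU
  haveI := Groth.Agent.Lib.Helper2.FibreCrit.finite_stalk M x
  letI := X.presheaf.algebra_section_stalk ⟨x, hxU⟩
  haveI := hU.isLocalization_stalk ⟨x, hxU⟩
  letI := moduleStalkSections M U x hxU
  haveI : IsScalarTower Γ(X, U) (X.presheaf.stalk x) (M.presheaf.stalk x) := by
    refine ⟨fun a b y => ?_⟩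
    change (X.presheaf.germ U x hxU a * b) • y = X.presheaf.germ U x hxU a • (b • y)
    rw [mul_smul]
  haveI := isLocalizedModule_germ hU M x hxU
  set S := (hU.primeIdealOf ⟨x, hxU⟩).asIdeal.primeCompl with hS
  have hG : Submodule.span (X.presheaf.stalk x) (Set.range (germₗ M U x hxU)) = ⊤ := by
    rw [eq_top_iff]
    intro y _
    obtain ⟨s, m, hs, hsm⟩ := exists_smul_eq_germ hU M x hxU y
    have hu : IsUnit (X.presheaf.germ U x hxU s) := (Scheme.mem_basicOpen X s x hxU).1 hs
    obtain ⟨u, hu⟩ := hu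
    have : y = (u⁻¹ : (X.presheaf.stalk x)ˣ).1 • M.presheaf.germ U x hxU m := by
      rw [← hsm, ← hu, smul_smul, Units.inv_mul, one_smul]
    rw [this]
    exact Submodule.smul_mem _ _ (Submodule.subset_span ⟨m, rfl⟩)
  obtain ⟨f0, hf0G, hf0⟩ := exists_fin_span_eq_top _ hG
  choose m hm using hf0G
  have h : Submodule.span (X.presheaf.stalk x) (Set.range ((germₗ M U x hxU) ∘ m)) = ⊤ := by
    have : (germₗ M U x hxU) ∘ m = f0 := funext hm
    rw [this]; exact hf0
  obtain ⟨f, hfS, hf⟩ := exists_smul_mem_span_of_span_eq_top S (germₗ M U x hxU) m h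
  have hxD : x ∈ X.basicOpen f :=
    (Groth.Agent.Lib.Helper2.mem_basicOpen_iff_notMem_primeIdealOf hU x hxU f).2 hfS
  refine ⟨X.basicOpen f, hU.basicOpen f,
    fun i => M.presheaf.map (homOfLE (X.basicOpen_le f)).op (m i), hxD,
    (X.basicOpen_le f).trans hUW, ?_⟩
  rw [eq_top_iff]
  intro s _
  obtain ⟨k, t, ht⟩ := exists_extension hU M f s
  have h1 := res_mem_span M (X.basicOpen_le f) m _ (hf t)
  rw [Scheme.Modules.map_smul, ht, smul_smul, ← pow_succ'] at h1
  have hu : IsUnit ((X.presheaf.map (homOfLE (X.basicOpen_le f)).op f) ^ (k + 1)) :=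
    (RingedSpace.isUnit_res_basicOpen _ f).pow (k + 1)
  obtain ⟨w, hw⟩ := hu
  have : s = (w⁻¹ : (Γ(X, X.basicOpen f))ˣ).1 •
      (((X.presheaf.map (homOfLE (X.basicOpen_le f)).op f) ^ (k + 1)) • s) := by
    rw [← hw, smul_smul, Units.inv_mul, one_smul]
  rw [this]
  exact Submodule.smul_mem _ _ h1

/-- generators of the sections over an affine open generate the stalks. -/
theorem span_germ_eq_top (M : X.Modules) [M.IsQuasicoherent] {D : X.Opens} (hD : IsAffineOpen D)
    {ι : Type*} (m : ι → Γ(M, D)) (hm : Submodule.span Γ(X, D) (Set.range m) = ⊤) (x : X)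
    (hxD : x ∈ D) :
    Submodule.span (X.presheaf.stalk x) (Set.range fun i => M.presheaf.germ D x hxD (m i)) = ⊤ := by
  have key : ∀ t ∈ Submodule.span Γ(X, D) (Set.range m), M.presheaf.germ D x hxD t ∈
      Submodule.span (X.presheaf.stalk x) (Set.range fun i => M.presheaf.germ D x hxD (m i)) := by
    intro t ht
    induction ht using Submodule.span_induction with
    | mem z hz =>
      obtain ⟨i, rfl⟩ := hz
      exact Submodule.subset_span ⟨i, rfl⟩
    | zero => rw [map_zero]; exact Submodule.zero_mem _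
    | add a b _ _ ha hb => rw [map_add]; exact Submodule.add_mem _ ha hb
    | smul c a _ ha =>
      rw [germ_smul]
      exact Submodule.smul_mem _ _ ha
  rw [eq_top_iff]
  intro y _
  obtain ⟨s, t, hs, hst⟩ := exists_smul_eq_germ hD M x hxD y
  have hu : IsUnit (X.presheaf.germ D x hxD s) := (Scheme.mem_basicOpen X s x hxD).1 hs
  obtain ⟨u, hu⟩ := hu
  have : y = (u⁻¹ : (X.presheaf.stalk x)ˣ).1 • M.presheaf.germ D x hxD t := by
    rw [← hst, ← hu, smul_smul, Units.inv_mul, one_smul]
  rw [this]
  exact Submodule.smul_mem _ _ (key t (by rw [hm]; trivial))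

/-- over a reduced scheme, `n` generating sections over an affine open on which the fibre rank is
constantly `n` are linearly independent. -/
theorem linearIndependent_of_isReduced [IsReduced X] (M : X.Modules) [M.IsQuasicoherent]
    [SheafOfModules.IsFiniteType (R := X.ringCatSheaf) M] {D : X.Opens} (hD : IsAffineOpen D)
    {n : ℕ} (m : Fin n → Γ(M, D)) (hm : Submodule.span Γ(X, D) (Set.range m) = ⊤)
    (hrank : ∀ x ∈ D, fibreRank M x = n) : LinearIndependent Γ(X, D) m := by
  rw [Fintype.linearIndependent_iff]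
  intro b hb i
  rw [← basicOpen_eq_bot_iff, eq_bot_iff]
  intro x hx
  have hxD : x ∈ D := X.basicOpen_le (b i) hx
  exfalso
  have hunit : IsUnit (X.presheaf.germ D x hxD (b i)) := (Scheme.mem_basicOpen X (b i) x hxD).1 hx
  haveI := Groth.Agent.Lib.Helper2.FibreCrit.finite_stalk M x
  set O := X.presheaf.stalk x with hO
  set k := IsLocalRing.ResidueField O with hk
  set P := M.presheaf.stalk x with hP
  let v : Fin n → k ⊗[O] P := fun j => (1 : k) ⊗ₜ[O] M.presheaf.germ D x hxD (m j)
  have hspan : ⊤ ≤ Submodule.span k (Set.range v) := by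
    have h := span_germ_eq_top M hD m hm x hxD
    rw [← IsLocalRing.map_tensorProduct_mk_eq_top, Submodule.map_span,
      ← Submodule.restrictScalars_span O k Ideal.Quotient.mk_surjective,
      Submodule.restrictScalars_eq_top_iff, ← Set.range_comp] at h
    rw [← h]
    rfl
  have hli : LinearIndependent k v :=
    linearIndependent_of_top_le_span_of_card_eq_finrank hspan
      (by rw [Fintype.card_fin]; exact (hrank x hxD).symm)
  rw [Fintype.linearIndependent_iff] at hli
  have hsum : ∑ j, (IsLocalRing.residue O (X.presheaf.germ D x hxD (b j))) • v j = 0 := by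
    have h1 : ∀ j, (IsLocalRing.residue O (X.presheaf.germ D x hxD (b j))) • v j =
        (1 : k) ⊗ₜ[O] (M.presheaf.germ D x hxD (b j • m j)) := by
      intro j
      rw [germ_smul]
      change (algebraMap O k (X.presheaf.germ D x hxD (b j))) • ((1 : k) ⊗ₜ[O] _) = _
      rw [algebraMap_smul, TensorProduct.smul_tmul', TensorProduct.smul_tmul, ]
    simp_rw [h1]
    rw [← TensorProduct.tmul_sum, ← map_sum, hb, map_zero, TensorProduct.tmul_zero]
  have h0 := hli _ hsum i
  have hmem : X.presheaf.germ D x hxD (b i) ∈ IsLocalRing.maximalIdeal O :=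
    (IsLocalRing.residue_eq_zero_iff _).1 h0
  exact (IsLocalRing.mem_maximalIdeal _).1 hmem hunit

/-- if the stalks are free, `n` generating sections over an affine open on which the fibre rank is
constantly `n` are linearly independent. -/
theorem linearIndependent_of_free_stalks (M : X.Modules) [M.IsQuasicoherent]
    {D : X.Opens} (hD : IsAffineOpen D)
    {n : ℕ} (m : Fin n → Γ(M, D)) (hm : Submodule.span Γ(X, D) (Set.range m) = ⊤)
    (hfree : ∀ x ∈ D, Module.Free (X.presheaf.stalk x) (M.presheaf.stalk x))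
    (hrank : ∀ x ∈ D, fibreRank M x = n) : LinearIndependent Γ(X, D) m := by
  rw [Fintype.linearIndependent_iff]
  intro b hb i
  refine TopCat.Presheaf.section_ext X.sheaf D _ _ (fun x hxD => ?_)
  change X.presheaf.germ D x hxD (b i) = X.presheaf.germ D x hxD 0
  rw [map_zero]
  haveI := hfree x hxD
  set O := X.presheaf.stalk x with hO
  set P := M.presheaf.stalk x with hP
  let v : Fin n → P := fun j => M.presheaf.germ D x hxD (m j)
  have hspan : ⊤ ≤ Submodule.span O (Set.range v) := (span_germ_eq_top M hD m hm x hxD).ge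
  have hfr : Module.finrank O P = n := by
    rw [← hrank x hxD]
    exact (Module.finrank_baseChange (R := IsLocalRing.ResidueField O) (S := O) (M' := P)).symm
  have hli : LinearIndependent O v :=
    linearIndependent_of_top_le_span_of_card_eq_finrank hspan
      (by rw [Fintype.card_fin]; exact hfr.symm)
  rw [Fintype.linearIndependent_iff] at hli
  have hsum : ∑ j, (X.presheaf.germ D x hxD (b j)) • v j = 0 := by
    have h1 : ∀ j, (X.presheaf.germ D x hxD (b j)) • v j = M.presheaf.germ D x hxD (b j • m j) := by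
      intro j
      rw [germ_smul]
    simp_rw [h1]
    rw [← map_sum, hb, map_zero]
  exact hli _ hsum i

/-- a quasi-coherent module of finite type with locally constant fibre rank is finite locally free,
provided generating families of the right size are linearly independent. -/
theorem isFinLocFree_of_isLocallyConstant_fibreRank (M : X.Modules) [M.IsQuasicoherent]
    [SheafOfModules.IsFiniteType (R := X.ringCatSheaf) M]
    (hlc : IsLocallyConstant (fun x : X => fibreRank M x))
    (H : ∀ (D : X.Opens) (_ : IsAffineOpen D) (n : ℕ) (m : Fin n → Γ(M, D)),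
      Submodule.span Γ(X, D) (Set.range m) = ⊤ → (∀ x ∈ D, fibreRank M x = n) →
        LinearIndependent Γ(X, D) m) : FlatMod.IsFinLocFree M := by
  intro x
  let W : X.Opens := ⟨(fun x : X => fibreRank M x) ⁻¹' {fibreRank M x}, hlc.isOpen_fiber _⟩
  obtain ⟨D, hD, m, hxD, hDW, hm⟩ := exists_affine_generators M x W rfl
  have hli := H D hD _ m hm (fun x' hx' => hDW hx')
  let b : Module.Basis (Fin (fibreRank M x)) Γ(X, D) Γ(M, D) := Module.Basis.mk hli (by rw [hm])
  exact ⟨D, _, hxD, ⟨restrictIsoFreeMod M hD b⟩⟩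

/-- sections over an affine open of a module isomorphic to `O^n`. -/
theorem nonempty_sections_equiv_of_iso_freeMod {Y : Scheme.{u}} (N : Y.Modules) {n : ℕ}
    (e : N ≅ FlatMod.freeMod Y n) {V : Y.Opens} (hV : IsAffineOpen V) :
    Nonempty (Γ(N, V) ≃ₗ[Γ(Y, V)] (Fin n →₀ Γ(Y, V))) := by
  let e1 : Γ(N, V) ≃ₗ[Γ(Y, V)] (ΓUF hV).obj N := ΓUEquiv hV N
  let e2 : (ΓUF hV).obj N ≃ₗ[Γ(Y, V)] (ΓUF hV).obj (FlatMod.freeMod Y n) :=
    ((ΓUF hV).mapIso e).toLinearEquiv
  let e3 : (ΓUF hV).obj (FlatMod.freeMod Y n) ≃ₗ[Γ(Y, V)] (Fin n →₀ Γ(Y, V)) :=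
    (ΓUFFreeModIso n hV).toLinearEquiv
  exact ⟨e1.trans (e2.trans e3)⟩

attribute [local instance] RingHomInvPair.of_ringEquiv RingHomInvPair.of_ringEquiv_symm in
/-- the fibre rank of a module whose restriction along an open immersion `f` is `O^n` is `n` at the
points of the image, and the stalks there are free. -/
theorem fibreRank_eq_of_restrict_iso_freeMod {Y : Scheme.{u}} (f : Y ⟶ X) [IsOpenImmersion f]
    (M : X.Modules) [M.IsQuasicoherent] {n : ℕ} (e : M.restrict f ≅ FlatMod.freeMod Y n) (y : Y) :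
    Module.Free (X.presheaf.stalk (f y)) (M.presheaf.stalk (f y)) ∧ fibreRank M (f y) = n := by
  obtain ⟨V, hV, hyV, -⟩ := exists_isAffineOpen_mem_and_subset (x := y) (U := ⊤) trivial
  obtain ⟨E⟩ := nonempty_sections_equiv_of_iso_freeMod (M.restrict f) e hV
  haveI : Nonempty V := ⟨⟨y, hyV⟩⟩
  haveI : Nontrivial Γ(Y, V) := inferInstance
  have hV' : IsAffineOpen (f ''ᵁ V) := hV.image_of_isOpenImmersion f
  have hxD : f y ∈ f ''ᵁ V := ⟨y, hyV, rfl⟩
  haveI hfreeY : Module.Free Γ(Y, V) Γ(M.restrict f, V) := Module.Free.of_equiv E.symm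
  have hrkY : Module.finrank Γ(Y, V) Γ(M.restrict f, V) = n := by
    rw [E.finrank_eq, Module.finrank_finsupp_self, Fintype.card_fin]
  let σ : Γ(Y, V) ≃+* Γ(X, f ''ᵁ V) := (f.appIso V).symm.commRingCatIsoToRingEquiv
  let j : Γ(M.restrict f, V) ≃+ Γ(M, f ''ᵁ V) := (M.restrictAppIso f V).addCommGroupIsoToAddEquiv
  have hc : ∀ (r : Γ(Y, V)) (m : Γ(M.restrict f, V)), j (r • m) = σ r • j m :=
    fun r m => Scheme.Modules.smul_restrictAppIso_hom_apply f M V r m
  haveI hfreeX : Module.Free Γ(X, f ''ᵁ V) Γ(M, f ''ᵁ V) := by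
    refine (Module.Free.iff_of_equiv (σ := (σ : Γ(Y, V) →+* Γ(X, f ''ᵁ V)))
      (σ' := (σ.symm : Γ(X, f ''ᵁ V) →+* Γ(Y, V))) ?_).1 hfreeY
    exact { j with map_smul' := hc }
  have hrkX : Module.finrank Γ(X, f ''ᵁ V) Γ(M, f ''ᵁ V) = n := by
    rw [← hrkY]
    exact (congrArg Cardinal.toNat (rank_eq_of_equiv_equiv σ j σ.bijective hc)).symm
  set x := f y with hx
  letI := X.presheaf.algebra_section_stalk ⟨x, hxD⟩
  haveI := hV'.isLocalization_stalk ⟨x, hxD⟩
  letI := moduleStalkSections M (f ''ᵁ V) x hxD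
  haveI : IsScalarTower Γ(X, f ''ᵁ V) (X.presheaf.stalk x) (M.presheaf.stalk x) := by
    refine ⟨fun a b y => ?_⟩
    change (X.presheaf.germ (f ''ᵁ V) x hxD a * b) • y = X.presheaf.germ (f ''ᵁ V) x hxD a • (b • y)
    rw [mul_smul]
  haveI := isLocalizedModule_germ hV' M x hxD
  haveI hfree : Module.Free (X.presheaf.stalk x) (M.presheaf.stalk x) :=
    Module.free_of_isLocalizedModule (hV'.primeIdealOf ⟨x, hxD⟩).asIdeal.primeCompl
      (germₗ M (f ''ᵁ V) x hxD)
  have h1 : Module.finrank (X.presheaf.stalk x) (M.presheaf.stalk x) = n :=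
    (Module.finrank_of_isLocalizedModule_of_free (X.presheaf.stalk x)
      (hV'.primeIdealOf ⟨x, hxD⟩).asIdeal.primeCompl (germₗ M (f ''ᵁ V) x hxD)).trans hrkX
  exact ⟨hfree, (Module.finrank_baseChange (R := IsLocalRing.ResidueField (X.presheaf.stalk x))
    (S := X.presheaf.stalk x) (M' := M.presheaf.stalk x)).trans h1⟩

/-- a finite locally free quasi-coherent module has free stalks and locally constant fibre rank. -/
theorem isLocallyConstant_fibreRank_of_isFinLocFree (M : X.Modules) [M.IsQuasicoherent]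
    (h : FlatMod.IsFinLocFree M) :
    (∀ x : X, Module.Free (X.presheaf.stalk x) (M.presheaf.stalk x)) ∧
      IsLocallyConstant (fun x : X => fibreRank M x) := by
  refine ⟨fun x => ?_, ?_⟩
  · obtain ⟨U, n, hxU, ⟨e⟩⟩ := h x
    exact (fibreRank_eq_of_restrict_iso_freeMod U.ι M e ⟨x, hxU⟩).1
  · rw [IsLocallyConstant.iff_exists_open]
    intro x
    obtain ⟨U, n, hxU, ⟨e⟩⟩ := h x
    refine ⟨U, U.isOpen, hxU, fun x' hx' => ?_⟩
    exact ((fibreRank_eq_of_restrict_iso_freeMod U.ι M e ⟨x', hx'⟩).2).trans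
      ((fibreRank_eq_of_restrict_iso_freeMod U.ι M e ⟨x, hxU⟩).2).symm

end Groth.Agent.Lib.Helper2.RankLoc
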