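import Mathlib
import Groth.Agent.Lib.Helper18FittSh2
import Groth.Agent.Lib.Helper2RankLoc

set_option autoImplicit false
set_option linter.style.haveILetI false
universe u
open CategoryTheory AlgebraicGeometry Limits Opposite

namespace Groth.Agent.Helper18FittSh

open Groth.Agent.Helper18Fitt Groth.Agent.Lib.Helper2.FPAff

variable {X : Scheme.{u}} (M : X.Modules) [M.IsQuasicoherent]

/-- if `Fit_k` of the sections over an affine `V` is not contained in the prime of `x`, then `M` is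
generated by `k` sections over a basic open neighbourhood of `x`. -/
theorem exists_basicOpen_gens {V : X.Opens} (hV : IsAffineOpen V) [Module.Finite Γ(X, V) Γ(M, V)]
    (x : X) (hxV : x ∈ V) (k : ℕ)
    (h : ¬ Fitt.ideal Γ(X, V) Γ(M, V) k ≤ (hV.primeIdealOf ⟨x, hxV⟩).asIdeal) :
    ∃ d : Γ(X, V), x ∈ X.basicOpen d ∧ ∃ g : Fin k → Γ(M, X.basicOpen d),
      Submodule.span Γ(X, X.basicOpen d) (Set.range g) = ⊤ := by
  classical
  obtain ⟨n, y, hy⟩ := Module.Finite.exists_fin (R := Γ(X, V)) (M := Γ(M, V))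
  obtain ⟨z, e, hz, hd⟩ := exists_minor_notMem Γ(M, V) k _ h y hy
  have he : Function.Injective e := by
    by_contra hne
    apply hd
    have h0 : (Matrix.of fun a b => z b (e a)).det = 0 := by
      rw [Function.Injective] at hne
      push Not at hne
      obtain ⟨a, a', hea, hne⟩ := hne
      apply Matrix.det_zero_of_row_eq hne
      funext b
      simp [hea]
    rw [h0]
    exact Ideal.zero_mem _
  set d := (Matrix.of fun a b => z b (e a)).det with hd_def
  have hxd : x ∈ X.basicOpen d :=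
    (Groth.Agent.Lib.Helper2.mem_basicOpen_iff_notMem_primeIdealOf hV x hxV d).mpr hd
  refine ⟨d, hxd, ?_⟩
  have hloc : IsLocalization.Away d Γ(X, X.basicOpen d) := hV.isLocalization_basicOpen d
  letI := moduleRes M (X.basicOpen_le d)
  haveI := isScalarTower_basicOpen M d
  haveI := isLocalizedModule_basicOpen M hV d
  have h1 := span_image_eq_top_of_smul_mem (A' := Γ(X, X.basicOpen d)) (Submonoid.powers d)
    (resₗ M (X.basicOpen_le d)) y hy
    (y '' {j | j ∉ Set.range e}) d (Submonoid.mem_powers d)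
    (fun j => minor_smul_mem_span_compl y z e he hz j)
  obtain ⟨g, hg⟩ := exists_fin_enum_compl e he (fun j => resₗ M (X.basicOpen_le d) (y j))
  refine ⟨g, ?_⟩
  rw [eq_top_iff, ← h1]
  apply Submodule.span_mono
  rw [Set.image_image]
  exact hg

theorem isFinLocFreeOfRank_of_fitt (hft : CohB1.IsFT M) (r : ℕ)
    (h1 : ∀ k, k < r → Fitt.sheafIdeal M k = ⊥) (h2 : Fitt.sheafIdeal M r = ⊤) :
    FlatMod.IsFinLocFreeOfRank r M := by
  intro x
  obtain ⟨V, hV, hxV, -⟩ := exists_isAffineOpen_mem_and_subset (x := x) (U := ⊤) trivial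
  have hfin := finite_sections M hft
  haveI := hfin ⟨V, hV⟩
  have hnot : ¬ Fitt.ideal Γ(X, V) Γ(M, V) r ≤ (hV.primeIdealOf ⟨x, hxV⟩).asIdeal := by
    rw [← sheafIdeal_ideal M r hfin ⟨V, hV⟩, h2]
    intro h
    exact (hV.primeIdealOf ⟨x, hxV⟩).isPrime.ne_top (top_le_iff.mp h)
  obtain ⟨d, hxd, g, hg⟩ := exists_basicOpen_gens M hV x hxV r hnot
  have hD : IsAffineOpen (X.basicOpen d) := hV.basicOpen d
  have hli : LinearIndependent Γ(X, X.basicOpen d) g :=
    linearIndependent_of_fitt_bot g hg (fun k hk => by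
      rw [← sheafIdeal_ideal M k hfin ⟨_, hD⟩, h1 k hk]; rfl)
  let b : Module.Basis (Fin r) Γ(X, X.basicOpen d) Γ(M, X.basicOpen d) :=
    Module.Basis.mk hli (by rw [hg])
  exact ⟨X.basicOpen d, hxd, ⟨Groth.Agent.Lib.Helper20.LocFree.restrictIsoFreeMod M hD b⟩⟩

open Groth.Agent.Lib.Helper2.RankLoc in
attribute [local instance] RingHomInvPair.of_ringEquiv RingHomInvPair.of_ringEquiv_symm in
/-- a module whose restriction along an open immersion is `O^n` has, near each point of the image,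
an affine open neighbourhood over which its sections have a basis indexed by `Fin n`. -/
theorem exists_affine_basis_of_restrict_iso_freeMod {Y : Scheme.{u}} (f : Y ⟶ X) [IsOpenImmersion f]
    {n : ℕ} (e : M.restrict f ≅ FlatMod.freeMod Y n) (y : Y) :
    ∃ (W : X.Opens) (_ : IsAffineOpen W), f y ∈ W ∧
      Nonempty (Module.Basis (Fin n) Γ(X, W) Γ(M, W)) := by
  obtain ⟨V, hV, hyV, -⟩ := exists_isAffineOpen_mem_and_subset (x := y) (U := ⊤) trivial
  obtain ⟨E⟩ := nonempty_sections_equiv_of_iso_freeMod (M.restrict f) e hV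
  haveI : Nonempty V := ⟨⟨y, hyV⟩⟩
  haveI : Nontrivial Γ(Y, V) := inferInstance
  have hV' : IsAffineOpen (f ''ᵁ V) := hV.image_of_isOpenImmersion f
  have hxD : f y ∈ f ''ᵁ V := ⟨y, hyV, rfl⟩
  haveI hfreeY : Module.Free Γ(Y, V) Γ(M.restrict f, V) := Module.Free.of_equiv E.symm
  have hrkY : Module.finrank Γ(Y, V) Γ(M.restrict f, V) = n := by
    rw [E.finrank_eq, Module.finrank_finsupp_self, Fintype.card_fin]
  let σ : Γ(Y, V) ≃+* Γ(X, f ''ᵁ V) := (f.appIso V).symm.commRingCatIsoToRingEquiv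
  let j : Γ(M.restrict f, V) ≃+ Γ(M, f ''ᵁ V) := (M.restrictAppIso f V).addCommGroupIsoToAddEquiv
  have hc : ∀ (r : Γ(Y, V)) (m : Γ(M.restrict f, V)), j (r • m) = σ r • j m :=
    fun r m => Scheme.Modules.smul_restrictAppIso_hom_apply f M V r m
  haveI hfreeX : Module.Free Γ(X, f ''ᵁ V) Γ(M, f ''ᵁ V) := by
    refine (Module.Free.iff_of_equiv (σ := (σ : Γ(Y, V) →+* Γ(X, f ''ᵁ V)))
      (σ' := (σ.symm : Γ(X, f ''ᵁ V) →+* Γ(Y, V))) ?_).1 hfreeY
    exact { j with map_smul' := hc }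
  have hrkX : Module.finrank Γ(X, f ''ᵁ V) Γ(M, f ''ᵁ V) = n := by
    rw [← hrkY]
    exact (congrArg Cardinal.toNat (rank_eq_of_equiv_equiv σ j σ.bijective hc)).symm
  haveI : Nonempty (f ''ᵁ V : X.Opens) := ⟨⟨f y, hxD⟩⟩
  haveI : Nontrivial Γ(X, f ''ᵁ V) := inferInstance
  haveI : Module.Finite Γ(Y, V) Γ(M.restrict f, V) := Module.Finite.equiv E.symm
  haveI : Module.Finite Γ(X, f ''ᵁ V) Γ(M, f ''ᵁ V) := by
    let J : Γ(M.restrict f, V) →ₛₗ[(σ : Γ(Y, V) →+* Γ(X, f ''ᵁ V))] Γ(M, f ''ᵁ V) :=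
      { j with map_smul' := hc }
    exact Module.Finite.of_surjective J j.surjective
  exact ⟨f ''ᵁ V, hV', hxD, ⟨Module.finBasisOfFinrankEq _ _ hrkX⟩⟩

theorem fitt_of_isFinLocFreeOfRank (hft : CohB1.IsFT M) (r : ℕ)
    (h : FlatMod.IsFinLocFreeOfRank r M) :
    (∀ k, k < r → Fitt.sheafIdeal M k = ⊥) ∧ (∀ k, r ≤ k → Fitt.sheafIdeal M k = ⊤) := by
  have hfin := finite_sections M hft
  let ι := {W : X.affineOpens // Nonempty (Module.Basis (Fin r) Γ(X, W.1) Γ(M, W.1))}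
  have hcov : ⨆ i : ι, (i.1 : X.affineOpens).1 = ⊤ := by
    rw [eq_top_iff]
    intro x _
    obtain ⟨U, hxU, ⟨e⟩⟩ := h x
    obtain ⟨W, hW, hxW, hb⟩ := exists_affine_basis_of_restrict_iso_freeMod M U.ι e ⟨x, hxU⟩
    exact TopologicalSpace.Opens.mem_iSup.mpr ⟨⟨⟨W, hW⟩, hb⟩, hxW⟩
  constructor
  · intro k hk
    apply Scheme.IdealSheafData.ext_of_iSup_eq_top (fun i : ι => i.1) hcov
    rintro ⟨W, ⟨b⟩⟩
    rw [sheafIdeal_ideal M k hfin W]
    exact (fitt_of_basis b k).1 hk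
  · intro k hk
    apply Scheme.IdealSheafData.ext_of_iSup_eq_top (fun i : ι => i.1) hcov
    rintro ⟨W, ⟨b⟩⟩
    rw [sheafIdeal_ideal M k hfin W]
    exact (fitt_of_basis b k).2 hk

theorem main_S8875 (S : Scheme.{u}) (F : S.Modules) (hF : Coh.IsQCoh F) (hft : CohB1.IsFT F)
    (r : ℕ) :
    FlatMod.IsFinLocFreeOfRank r F ↔
      (∀ k : ℕ, k < r → Fitt.sheafIdeal F k = ⊥) ∧ (∀ k : ℕ, r ≤ k → Fitt.sheafIdeal F k = ⊤) := by
  haveI : F.IsQuasicoherent := hF
  exact ⟨fitt_of_isFinLocFreeOfRank F hft r,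
    fun h => isFinLocFreeOfRank_of_fitt F hft r h.1 (h.2 r le_rfl)⟩

end Groth.Agent.Helper18FittSh
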