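import Mathlib
import Groth.Agent.Lib.Helper18FittSh3
import Groth.Agent.Lib.Helper23FinTypeLocal

set_option autoImplicit false
set_option linter.style.haveILetI false
universe u
open CategoryTheory AlgebraicGeometry Limits Opposite TopologicalSpace

namespace Groth.Agent.Helper18FittSh

open Groth.Agent.Helper18Fitt Groth.Agent.Lib.Helper2.FPAff
open Groth.Agent.Lib.Helper20.Thickening Groth.Agent.Lib.Helper20.PullbackAff
  Groth.Agent.Lib.Helper20.OmegaAff Groth.Agent.Lib.Helper20.LocFree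

set_option backward.isDefEq.respectTransparency false in
/-- `r` generators of `P` give an epimorphism `O^r ⟶ P~` on `Spec R`. -/
theorem exists_epi_freeMod_tilde (R : CommRingCat.{u}) (P : ModuleCat.{u} R) {r : ℕ} (g : Fin r → P)
    (hg : Submodule.span R (Set.range g) = ⊤) :
    ∃ π : FlatMod.freeMod (Spec R) r ⟶ (tilde.functor R).obj P, Epi π := by
  let I : Type u := ULift.{u} (Fin r)
  let G : ModuleCat.of R (I →₀ R) ⟶ P :=
    ModuleCat.ofHom (Finsupp.linearCombination R (fun i : I => g i.down))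
  haveI : Epi G := by
    rw [ModuleCat.epi_iff_surjective]
    rw [← LinearMap.range_eq_top]
    change LinearMap.range (Finsupp.linearCombination R (fun i : I => g i.down)) = ⊤
    rw [Finsupp.range_linearCombination]
    have : Set.range (fun i : I => g i.down) = Set.range g := by
      ext y
      constructor
      · rintro ⟨i, rfl⟩; exact ⟨i.down, rfl⟩
      · rintro ⟨i, rfl⟩; exact ⟨⟨i⟩, rfl⟩
    rw [this, hg]
  haveI : Epi ((tilde.functor R).map G) := inferInstance
  refine ⟨(freeModIsoFree (Spec R) r).hom ≫ (tildeFinsupp I).inv ≫ (tilde.functor R).map G, ?_⟩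
  haveI : Epi ((tildeFinsupp I).inv ≫ (tilde.functor R).map G) := epi_comp _ _
  exact epi_comp _ _

variable {X : Scheme.{u}} (M : X.Modules) [M.IsQuasicoherent]

/-- `r` generators of the sections over an affine open `U` give an epimorphism `O_U^r ⟶ M|_U`. -/
theorem exists_epi_freeMod_restrict {U : X.Opens} (hU : IsAffineOpen U) {r : ℕ}
    (g : Fin r → Γ(M, U)) (hg : Submodule.span Γ(X, U) (Set.range g) = ⊤) :
    ∃ π : FlatMod.freeMod (U : Scheme.{u}) r ⟶ M.restrict U.ι, Epi π := by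
  haveI : (M.restrict hU.fromSpec).IsQuasicoherent :=
    Scheme.Modules.isQuasicoherent_restrictFunctor hU.fromSpec M
  let e := ΓUEquiv hU M
  have hg' : Submodule.span Γ(X, U) (Set.range (fun i => e (g i))) = ⊤ := by
    have : Set.range (fun i => e (g i)) = e '' Set.range g := by
      rw [← Set.range_comp]; rfl
    have h1 := Submodule.map_span (e : Γ(M, U) →ₗ[Γ(X, U)] (ΓUF hU).obj M) (Set.range g)
    rw [hg, Submodule.map_top, LinearMap.range_eq_top.mpr e.surjective] at h1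
    rw [this]
    exact h1.symm
  obtain ⟨π₀, hπ₀⟩ := exists_epi_freeMod_tilde Γ(X, U) ((ΓUF hU).obj M) (fun i => e (g i)) hg'
  let i1 : M.restrict hU.fromSpec ≅ (tilde.functor Γ(X, U)).obj ((ΓUF hU).obj M) :=
    isoTildeOfΓIso (M.restrict hU.fromSpec) ((ΓUF hU).obj M) (Iso.refl _)
  let π₁ : FlatMod.freeMod (Spec Γ(X, U)) r ⟶ M.restrict hU.fromSpec := π₀ ≫ i1.inv
  haveI : IsIso i1.inv := ⟨⟨i1.hom, i1.inv_hom_id, i1.hom_inv_id⟩⟩
  haveI : Epi i1.inv := IsIso.epi_of_iso _
  haveI : Epi π₁ := epi_comp _ _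
  haveI : Epi ((Scheme.Modules.restrictFunctor hU.isoSpec.hom).map π₁) := inferInstance
  refine ⟨(restrictFreeMod hU.isoSpec.hom r).inv ≫
    (Scheme.Modules.restrictFunctor hU.isoSpec.hom).map π₁ ≫ (restrictιIso M hU).inv, ?_⟩
  haveI : Epi ((Scheme.Modules.restrictFunctor hU.isoSpec.hom).map π₁ ≫ (restrictιIso M hU).inv) :=
    epi_comp _ _
  exact epi_comp _ _

theorem exists_epi_of_notMem_support (hft : CohB1.IsFT M) (s : X) (r : ℕ)
    (h : s ∉ (Fitt.sheafIdeal M r).support) :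
    ∃ U : X.Opens, s ∈ U ∧ ∃ π : FlatMod.freeMod (↑U) r ⟶ M.restrict U.ι, Epi π := by
  obtain ⟨V, hV, hsV, -⟩ := exists_isAffineOpen_mem_and_subset (x := s) (U := ⊤) trivial
  have hfin := finite_sections M hft
  haveI := hfin ⟨V, hV⟩
  rw [mem_support_iff M r hfin s ⟨V, hV⟩ hsV] at h
  obtain ⟨d, hsd, g, hg⟩ := exists_basicOpen_gens M hV s hsV r h
  exact ⟨X.basicOpen d, hsd, exists_epi_freeMod_restrict M (hV.basicOpen d) g hg⟩

open Groth.Agent.Lib.Helper2.RankLoc in
attribute [local instance] RingHomInvPair.of_ringEquiv RingHomInvPair.of_ringEquiv_symm in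
theorem notMem_support_of_epi (hft : CohB1.IsFT M) (s : X) (r : ℕ) (U : X.Opens) (hsU : s ∈ U)
    (π : FlatMod.freeMod (↑U) r ⟶ M.restrict U.ι) [Epi π] :
    s ∉ (Fitt.sheafIdeal M r).support := by
  obtain ⟨W', hW', hsW', -⟩ := exists_isAffineOpen_mem_and_subset (X := (U : Scheme.{u}))
    (x := ⟨s, hsU⟩) (U := ⊤) trivial
  haveI : (M.restrict U.ι).IsQuasicoherent := Scheme.Modules.isQuasicoherent_restrictFunctor U.ι M
  have hsurj := Groth.Agent.Lib.Helper23.FinType.surjective_app_of_epi π hW'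
  obtain ⟨E⟩ := nonempty_sections_equiv_of_iso_freeMod (FlatMod.freeMod (↑U) r) (Iso.refl _) hW'
  let f : Γ(FlatMod.freeMod (↑U) r, W') →ₗ[Γ((U : Scheme.{u}), W')] Γ(M.restrict U.ι, W') :=
    { toFun := fun x => π.app W' x
      map_add' := fun x y => map_add _ x y
      map_smul' := fun r x => Scheme.Modules.Hom.app_smul π r x }
  have hf : Function.Surjective f := hsurj
  let g₀ : Fin r → Γ(M.restrict U.ι, W') := fun i => f (E.symm (Finsupp.single i 1))
  have hg₀ : Submodule.span Γ((U : Scheme.{u}), W') (Set.range g₀) = ⊤ := by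
    have h1 : Submodule.span Γ((U : Scheme.{u}), W')
        (Set.range (fun i : Fin r => (Finsupp.single i 1 : Fin r →₀ Γ((U : Scheme.{u}), W')))) = ⊤ := by
      have := (Finsupp.basisSingleOne (R := Γ((U : Scheme.{u}), W')) (ι := Fin r)).span_eq
      rwa [Finsupp.coe_basisSingleOne] at this
    have h2 : Set.range g₀ = (f ∘ₗ (E.symm : _ →ₗ[Γ((U : Scheme.{u}), W')] _)) ''
        (Set.range (fun i : Fin r => (Finsupp.single i 1 : Fin r →₀ Γ((U : Scheme.{u}), W')))) := by
      rw [← Set.range_comp]; rfl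
    rw [h2, ← Submodule.map_span, h1, Submodule.map_top, LinearMap.range_eq_top]
    exact hf.comp E.symm.surjective
  -- transport to `X`
  have hW : IsAffineOpen (U.ι ''ᵁ W') := hW'.image_of_isOpenImmersion U.ι
  let σ : Γ((U : Scheme.{u}), W') ≃+* Γ(X, U.ι ''ᵁ W') :=
    (U.ι.appIso W').symm.commRingCatIsoToRingEquiv
  let j : Γ(M.restrict U.ι, W') ≃+ Γ(M, U.ι ''ᵁ W') :=
    (M.restrictAppIso U.ι W').addCommGroupIsoToAddEquiv
  have hc : ∀ (a : Γ((U : Scheme.{u}), W')) (m : Γ(M.restrict U.ι, W')), j (a • m) = σ a • j m :=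
    fun a m => Scheme.Modules.smul_restrictAppIso_hom_apply U.ι M W' a m
  let J : Γ(M.restrict U.ι, W') →ₛₗ[(σ : Γ((U : Scheme.{u}), W') →+* Γ(X, U.ι ''ᵁ W'))]
      Γ(M, U.ι ''ᵁ W') := { j with map_smul' := hc }
  have hg : Submodule.span Γ(X, U.ι ''ᵁ W') (Set.range (fun i => J (g₀ i))) = ⊤ := by
    have h2 : Set.range (fun i => J (g₀ i)) = J '' Set.range g₀ := by
      rw [← Set.range_comp]; rfl
    rw [h2, ← Submodule.map_span, hg₀, Submodule.map_top, LinearMap.range_eq_top]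
    exact j.surjective
  have hfin := finite_sections M hft
  have hsW : s ∈ U.ι ''ᵁ W' := ⟨⟨s, hsU⟩, hsW', rfl⟩
  rw [mem_support_iff M r hfin s ⟨_, hW⟩ hsW, fitt_top_of_gens r _ hg]
  intro h
  exact (hW.primeIdealOf ⟨s, hsW⟩).isPrime.ne_top (top_le_iff.mp h)

theorem main_S8874 (S : Scheme.{u}) (F : S.Modules) (hF : Coh.IsQCoh F) (hft : CohB1.IsFT F)
    (s : ↥S) (r : ℕ) :
    (∃ U : S.Opens, s ∈ U ∧ ∃ π : FlatMod.freeMod (↑U) r ⟶ F.restrict U.ι, Epi π) ↔
      s ∉ (Fitt.sheafIdeal F r).support := by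
  haveI : F.IsQuasicoherent := hF
  constructor
  · rintro ⟨U, hsU, π, hπ⟩
    exact notMem_support_of_epi F hft s r U hsU π
  · exact exists_epi_of_notMem_support F hft s r

end Groth.Agent.Helper18FittSh
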