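import Mathlib
import Groth.Agent.Lib.Helper22Thick

set_option autoImplicit false
universe u

namespace Groth.Agent.Lib.Helper22.IdealComap

open AlgebraicGeometry CategoryTheory CategoryTheory.Limits Groth.Agent.Lib.Helper22.Thick

theorem appLE_congr_hom {X Y : Scheme.{u}} {f g : X ⟶ Y} (e : f = g) (U : Y.Opens) (V : X.Opens)
    (h : V ≤ f ⁻¹ᵁ U) : f.appLE U V h = g.appLE U V (e ▸ h) := by
  subst e; rfl

/-- **local formula for the pullback of an ideal sheaf**: for affine opens `U ≤ g⁻¹ V`,
`(I.comap g)(U) = I(V) · Γ(U)`. -/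
theorem ideal_comap_eq_map {S T : Scheme.{u}} (g : S ⟶ T) (I : T.IdealSheafData)
    (U : S.affineOpens) (V : T.affineOpens) (hUV : U.1 ≤ g ⁻¹ᵁ V.1) :
    (I.comap g).ideal U = (I.ideal V).map (g.appLE V.1 U.1 hUV).hom := by
  have sq : IsPullback (pullback.fst g I.subschemeι) (pullback.snd g I.subschemeι) g
      I.subschemeι := IsPullback.of_hasPullback g I.subschemeι
  have h1 : (I.comap g).ideal U = RingHom.ker ((pullback.fst g I.subschemeι).app U.1).hom := by
    unfold Scheme.IdealSheafData.comap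
    exact Scheme.Hom.ker_apply _ U
  have h2 : RingHom.ker (I.subschemeι.app V.1).hom = I.ideal V := I.ker_subschemeι_app V
  rw [h1, ← h2]
  apply le_antisymm
  · exact ker_app_le sq V.2 U.2 hUV
  · rw [Ideal.map_le_iff_le_comap]
    intro a ha
    rw [RingHom.mem_ker] at ha
    rw [Ideal.mem_comap, RingHom.mem_ker]
    have e1 : g.appLE V.1 U.1 hUV ≫ (pullback.fst g I.subschemeι).app U.1 =
        I.subschemeι.app V.1 ≫ (pullback.snd g I.subschemeι).appLE (I.subschemeι ⁻¹ᵁ V.1)
          (pullback.fst g I.subschemeι ⁻¹ᵁ U.1) (by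
            rw [← Scheme.Hom.comp_preimage, ← sq.w, Scheme.Hom.comp_preimage]
            exact (pullback.fst g I.subschemeι).preimage_mono hUV) := by
      rw [Scheme.Hom.app_eq_appLE, Scheme.Hom.appLE_comp_appLE, Scheme.Hom.app_eq_appLE,
        Scheme.Hom.appLE_comp_appLE]
      exact appLE_congr_hom sq.w _ _ _
    have e2 := congrArg (fun φ => φ.hom a) e1
    simp only [CommRingCat.hom_comp, RingHom.comp_apply] at e2
    rw [e2, ha, map_zero]

end Groth.Agent.Lib.Helper22.IdealComap
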