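import Mathlib
import Groth.Agent.Lib.Helper18FittSh4
import Groth.Agent.Lib.Helper22IdealComap
import Groth.Agent.Lib.Helper20PullbackAff

set_option autoImplicit false
set_option linter.style.haveILetI false
universe u
open CategoryTheory AlgebraicGeometry Limits Opposite TopologicalSpace TensorProduct

namespace Groth.Agent.Helper18FittSh

open Groth.Agent.Helper18Fitt Groth.Agent.Lib.Helper2.FPAff
open Groth.Agent.Lib.Helper20.Thickening Groth.Agent.Lib.Helper20.PullbackAff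
  Groth.Agent.Lib.Helper20.OmegaAff

variable {T S : Scheme.{u}} (f : T ⟶ S) (F : S.Modules) [F.IsQuasicoherent]

/-- local formula: Fitting ideals of the sections of a pullback. -/
theorem fitt_pullback_sections {V : S.Opens} (hV : IsAffineOpen V) {U : T.Opens}
    (hU : IsAffineOpen U) (h : U ≤ f ⁻¹ᵁ V) [Module.Finite Γ(S, V) Γ(F, V)] (i : ℕ) :
    Fitt.ideal Γ(T, U) Γ((Scheme.Modules.pullback f).obj F, U) i =
      (Fitt.ideal Γ(S, V) Γ(F, V) i).map (f.appLE V U h).hom := by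
  letI : Algebra Γ(S, V) Γ(T, U) := (f.appLE V U h).hom.toAlgebra
  let e1 : Γ((Scheme.Modules.pullback f).obj F, U) ≃ₗ[Γ(T, U)]
      (ΓUF hU).obj ((Scheme.Modules.pullback f).obj F) := ΓUEquiv hU _
  let e2 : (ΓUF hU).obj ((Scheme.Modules.pullback f).obj F) ≃ₗ[Γ(T, U)]
      (Γ(T, U) ⊗[Γ(S, V)] ((ΓUF hV).obj F)) := (ΓUFPullbackIso f hV hU h F).toLinearEquiv
  let e3 : Γ(F, V) ≃ₗ[Γ(S, V)] (ΓUF hV).obj F := ΓUEquiv hV F
  haveI : Module.Finite Γ(S, V) ((ΓUF hV).obj F) := Module.Finite.equiv e3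
  rw [fitt_congr (e1.trans e2) i, fitt_baseChange (R' := Γ(T, U)) (M := (ΓUF hV).obj F) i,
    fitt_congr e3 i]
  rfl

theorem main_S8872 {T S : Scheme.{u}} (f : T ⟶ S) (F : S.Modules) (hF : Coh.IsQCoh F)
    (hft : CohB1.IsFT F) (i : ℕ) :
    (Fitt.sheafIdeal F i).comap f = Fitt.sheafIdeal ((Scheme.Modules.pullback f).obj F) i := by
  haveI : F.IsQuasicoherent := hF
  have hfinF := finite_sections F hft
  let ι : Type u := {p : T.affineOpens × S.affineOpens // p.1.1 ≤ f ⁻¹ᵁ p.2.1}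
  have hcov : ⨆ p : ι, (p.1.1 : T.affineOpens).1 = ⊤ := by
    rw [eq_top_iff]
    intro y _
    obtain ⟨V, hV, hyV, -⟩ := exists_isAffineOpen_mem_and_subset (x := f y) (U := ⊤) trivial
    obtain ⟨U, hU, hyU, hUV⟩ := exists_isAffineOpen_mem_and_subset (x := y) (U := f ⁻¹ᵁ V) hyV
    exact Opens.mem_iSup.2 ⟨⟨(⟨U, hU⟩, ⟨V, hV⟩), hUV⟩, hyU⟩
  have hGft : CohB1.IsFT ((Scheme.Modules.pullback f).obj F) := by
    refine Groth.Agent.Lib.Helper23.FinType.isFiniteType_of_finite _ (fun p : ι => p.1.1.1) hcov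
      (fun p => p.1.1.2) (fun p => ?_)
    haveI := hfinF p.1.2
    letI : Algebra Γ(S, p.1.2.1) Γ(T, p.1.1.1) := (f.appLE p.1.2.1 p.1.1.1 p.2).hom.toAlgebra
    let e1 : Γ((Scheme.Modules.pullback f).obj F, p.1.1.1) ≃ₗ[Γ(T, p.1.1.1)]
        (ΓUF p.1.1.2).obj ((Scheme.Modules.pullback f).obj F) := ΓUEquiv p.1.1.2 _
    let e2 : (ΓUF p.1.1.2).obj ((Scheme.Modules.pullback f).obj F) ≃ₗ[Γ(T, p.1.1.1)]
        (Γ(T, p.1.1.1) ⊗[Γ(S, p.1.2.1)] ((ΓUF p.1.2.2).obj F)) :=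
      (ΓUFPullbackIso f p.1.2.2 p.1.1.2 p.2 F).toLinearEquiv
    let e3 : Γ(F, p.1.2.1) ≃ₗ[Γ(S, p.1.2.1)] (ΓUF p.1.2.2).obj F := ΓUEquiv p.1.2.2 F
    haveI : Module.Finite Γ(S, p.1.2.1) ((ΓUF p.1.2.2).obj F) := Module.Finite.equiv e3
    exact Module.Finite.equiv (e1.trans e2).symm
  have hfinG := finite_sections ((Scheme.Modules.pullback f).obj F) hGft
  apply Scheme.IdealSheafData.ext_of_iSup_eq_top (fun p : ι => p.1.1) hcov
  intro p
  haveI := hfinF p.1.2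
  rw [Groth.Agent.Lib.Helper22.IdealComap.ideal_comap_eq_map f _ p.1.1 p.1.2 p.2,
    sheafIdeal_ideal F i hfinF p.1.2, sheafIdeal_ideal _ i hfinG p.1.1,
    fitt_pullback_sections f F p.1.2.2 p.1.1.2 p.2 i]

end Groth.Agent.Helper18FittSh
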