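import Mathlib
import Groth.Prelude.Def_BlowUp2
import Groth.Prelude.Def_Omega4
import Groth.Agent.Lib.Helper2FPAff

/-!
# Strict transforms along effective Cartier ideals (helper18), part 1

* `isoOfEpi`, `isoCoimage`: epimorphisms with the same kernel have isomorphic targets.
* `hom_eq_zero_of_basis`: a morphism of modules vanishing on sections over a basis is zero.
* `cmpl E`, `cmpl_inf_eq_basicOpen`, `quasiCompact_cmpl_ι`: the complement of the support of an
  effective Cartier ideal; its inclusion is quasi-compact.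
* `goodOpens E`, `isBasis_goodOpens`.
* `map_basicOpen_eq_zero_iff`.
-/

set_option autoImplicit false
set_option linter.style.haveILetI false
universe u
open CategoryTheory CategoryTheory.Limits AlgebraicGeometry TopologicalSpace Opposite
open Groth.Agent.Lib.Helper2.FPAff

namespace Groth.Agent.Helper18Strict


section Cat
variable {C : Type*} [Category C] [Abelian C]

/-- two epimorphisms out of `P` with the same kernel have isomorphic targets -/
noncomputable def isoOfEpi {P G Q : C} (π : P ⟶ G) [Epi π] (p : P ⟶ Q) [Epi p]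
    (h₁ : kernel.ι π ≫ p = 0) (h₂ : kernel.ι p ≫ π = 0) : G ≅ Q where
  hom := Abelian.epiDesc π p h₁
  inv := Abelian.epiDesc p π h₂
  hom_inv_id := by
    rw [← cancel_epi π, Abelian.comp_epiDesc_assoc, Abelian.comp_epiDesc, Category.comp_id]
  inv_hom_id := by
    rw [← cancel_epi p, Abelian.comp_epiDesc_assoc, Abelian.comp_epiDesc, Category.comp_id]

/-- an epimorphism `π` whose kernel is the kernel of `u` has target isomorphic to the coimage of `u`. -/
noncomputable def isoCoimage {P G Q : C} (π : P ⟶ G) [Epi π] (u : P ⟶ Q)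
    (h₁ : kernel.ι π ≫ u = 0) (h₂ : kernel.ι u ≫ π = 0) : G ≅ Abelian.coimage u := by
  refine isoOfEpi π (Abelian.coimage.π u) ?_ ?_
  · rw [← cancel_mono (Abelian.factorThruCoimage u), Category.assoc, Abelian.coimage.fac, h₁,
      zero_comp]
  · have h : kernel.ι (Abelian.coimage.π u) ≫ u = 0 := by
      calc kernel.ι (Abelian.coimage.π u) ≫ u
          = kernel.ι (Abelian.coimage.π u) ≫ (Abelian.coimage.π u ≫ Abelian.factorThruCoimage u) := by
            rw [Abelian.coimage.fac]
        _ = 0 := by rw [← Category.assoc, kernel.condition, zero_comp]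
    rw [← kernel.lift_ι u _ h, Category.assoc, h₂, comp_zero]

end Cat

variable {X : Scheme.{u}}

/-- a morphism of modules vanishing on all sections over a basis of opens is zero. -/
theorem hom_eq_zero_of_basis {A B : X.Modules} (φ : A ⟶ B) (𝔅 : Set X.Opens)
    (hB : TopologicalSpace.Opens.IsBasis 𝔅) (h : ∀ V ∈ 𝔅, ∀ s : Γ(A, V), φ.app V s = 0) :
    φ = 0 := by
  apply Scheme.Modules.hom_ext
  intro W
  ext s
  refine B.isSheaf.section_ext (U := op W) fun x hx => ?_
  obtain ⟨V, hVB, hxV, hVW⟩ := TopologicalSpace.Opens.isBasis_iff_nbhd.mp hB hx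
  refine ⟨V, hVW, hxV, ?_⟩
  have hnat : B.presheaf.map (homOfLE hVW).op (φ.app W s) =
      φ.app V (A.presheaf.map (homOfLE hVW).op s) :=
    (congr($((Scheme.Modules.Hom.mapPresheaf φ).naturality (homOfLE hVW).op) s)).symm
  erw [hnat, h V hVB]
  simp



variable (E : X.IdealSheafData)

/-- the open complement of the support of `E`. -/
def cmpl : X.Opens := E.support.compl

theorem mem_cmpl_iff (x : X) : x ∈ cmpl E ↔ x ∉ E.support := Iff.rfl

theorem cmpl_inf_eq_basicOpen (V : X.affineOpens) (a : Γ(X, V.1))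
    (ha : E.ideal V = Ideal.span {a}) : cmpl E ⊓ V.1 = X.basicOpen a := by
  ext x
  constructor
  · rintro ⟨hx, hxV⟩
    have hx' : x ∉ E.support := hx
    rw [Scheme.IdealSheafData.mem_support_iff_of_mem (U := V) hxV, ha, Scheme.zeroLocus_span,
      Scheme.zeroLocus_singleton] at hx'
    simpa using hx'
  · intro hx
    have hxV : x ∈ V.1 := X.basicOpen_le a hx
    refine ⟨?_, hxV⟩
    show x ∉ E.support
    rw [Scheme.IdealSheafData.mem_support_iff_of_mem (U := V) hxV, ha, Scheme.zeroLocus_span,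
      Scheme.zeroLocus_singleton]
    simpa using hx

theorem ι_image_preimage (D V : X.Opens) : D.ι ''ᵁ (D.ι ⁻¹ᵁ V) = D ⊓ V := by
  rw [Scheme.Hom.image_preimage_eq_opensRange_inf, Scheme.Opens.opensRange_ι]

set_option backward.isDefEq.respectTransparency false in
theorem quasiCompact_cmpl_ι (hE : BlowUp.IsEffCartierIdeal E) : QuasiCompact (cmpl E).ι := by
  choose V hxV a ha0 ha using hE
  have hcov : ⨆ x : X, ((V x : X.affineOpens) : X.Opens) = ⊤ := by
    rw [eq_top_iff]
    intro x _
    exact Opens.mem_iSup.mpr ⟨x, hxV x⟩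
  apply IsZariskiLocalAtTarget.of_iSup_eq_top (P := @QuasiCompact) (fun x => (V x).1) hcov
  intro x
  have : IsAffine ((V x).1 : Scheme.{u}) := (V x).2
  rw [HasAffineProperty.iff_of_isAffine (P := @QuasiCompact)]
  show CompactSpace ↥((cmpl E).ι ⁻¹ᵁ (V x).1)
  refine (isCompact_iff_compactSpace
    (s := (((cmpl E).ι ⁻¹ᵁ (V x).1 : (cmpl E).toScheme.Opens) : Set (cmpl E).toScheme))).mp ?_
  have hemb := (cmpl E).ι.isOpenEmbedding
  rw [hemb.isInducing.isCompact_iff]
  have h1 : ((cmpl E).ι '' (((cmpl E).ι ⁻¹ᵁ (V x).1 : (cmpl E).toScheme.Opens) : Set (cmpl E).toScheme)) =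
      ((X.basicOpen (a x) : X.Opens) : Set X) := by
    have := ι_image_preimage (cmpl E) (V x).1
    rw [cmpl_inf_eq_basicOpen E (V x) (a x) (ha x)] at this
    exact congrArg (fun W : X.Opens => (W : Set X)) this
  rw [h1]
  exact ((V x).2.basicOpen (a x)).isCompact




/-- affine opens on which `E` is generated by one nonzerodivisor. -/
def goodOpens : Set X.Opens :=
  {V | ∃ hV : IsAffineOpen V, ∃ a : Γ(X, V), a ∈ nonZeroDivisors Γ(X, V) ∧
    E.ideal ⟨V, hV⟩ = Ideal.span {a}}

theorem isBasis_goodOpens (hE : BlowUp.IsEffCartierIdeal E) :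
    TopologicalSpace.Opens.IsBasis (goodOpens E) := by
  rw [TopologicalSpace.Opens.isBasis_iff_nbhd]
  intro W x hxW
  obtain ⟨V₀, hxV₀, a₀, ha₀, hE₀⟩ := hE x
  obtain ⟨g, hgW, hxg⟩ := V₀.2.exists_basicOpen_le (V := W) ⟨x, hxW⟩ hxV₀
  refine ⟨X.basicOpen g, ⟨V₀.2.basicOpen g, X.presheaf.map (homOfLE (X.basicOpen_le g)).op a₀, ?_, ?_⟩,
    hxg, hgW⟩
  · have hloc : IsLocalization.Away g Γ(X, X.basicOpen g) := V₀.2.isLocalization_basicOpen g
    exact IsLocalization.map_nonZeroDivisors_le (Submonoid.powers g) Γ(X, X.basicOpen g)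
      (Submonoid.mem_map_of_mem _ ha₀)
  · have := E.map_ideal_basicOpen V₀ g
    show E.ideal (X.affineBasicOpen g) = _
    rw [← this, hE₀, Ideal.map_span, Set.image_singleton]


variable (P : X.Modules)

/-- restricting a section to equal opens -/
theorem map_eq_zero_iff_of_eq {V W₁ W₂ : X.Opens} (h₁ : W₁ ≤ V) (h₂ : W₂ ≤ V) (h : W₁ = W₂)
    (m : Γ(P, V)) :
    P.presheaf.map (homOfLE h₁).op m = 0 ↔ P.presheaf.map (homOfLE h₂).op m = 0 := by
  subst h
  rfl

theorem map_basicOpen_eq_zero_iff [P.IsQuasicoherent] {V : X.Opens} (hV : IsAffineOpen V)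
    (a : Γ(X, V)) (m : Γ(P, V)) :
    P.presheaf.map (homOfLE (X.basicOpen_le a)).op m = 0 ↔ ∃ n : ℕ, a ^ n • m = 0 := by
  letI := moduleRes P (X.basicOpen_le a)
  haveI := isLocalizedModule_basicOpen P hV a
  rw [← resₗ_apply, IsLocalizedModule.eq_zero_iff (Submonoid.powers a)]
  constructor
  · rintro ⟨⟨_, n, rfl⟩, hc⟩
    exact ⟨n, hc⟩
  · rintro ⟨n, hn⟩
    exact ⟨⟨a ^ n, n, rfl⟩, hn⟩

end Groth.Agent.Helper18Strict
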