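import Mathlib
import Groth.Agent.Lib.Helper18Strict1
import Groth.Agent.Lib.Helper23QCohLocal
import Groth.Agent.Lib.Helper23QCohAbelian
import Groth.Agent.Lib.Helper23FinTypeLocal

set_option autoImplicit false
set_option linter.style.haveILetI false
universe u
open CategoryTheory CategoryTheory.Limits AlgebraicGeometry TopologicalSpace Opposite
open Groth.Agent.Lib.Helper2.FPAff

namespace Groth.Agent.Helper18Strict

variable {X : Scheme.{u}} (E : X.IdealSheafData) (P : X.Modules)

/-- the unit `P → j_*(P|_D)`, `D` the complement of the support of `E`. -/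
noncomputable def unitMap :
    P ⟶ (Scheme.Modules.pushforward (cmpl E).ι).obj (P.restrict (cmpl E).ι) :=
  (Scheme.Modules.restrictAdjunction (cmpl E).ι).unit.app P

theorem unitMap_app (V : X.Opens) (m : Γ(P, V)) :
    (unitMap E P).app V m =
      P.presheaf.map (homOfLE ((cmpl E).ι.image_preimage_le V)).op m := by
  rfl

theorem unitMap_app_eq_zero_iff [P.IsQuasicoherent] (V : X.affineOpens) (a : Γ(X, V.1))
    (ha : E.ideal V = Ideal.span {a}) (m : Γ(P, V.1)) :
    (unitMap E P).app V.1 m = 0 ↔ ∃ n : ℕ, a ^ n • m = 0 := by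
  rw [unitMap_app, ← map_basicOpen_eq_zero_iff P V.2 a m]
  apply map_eq_zero_iff_of_eq
  rw [ι_image_preimage, cmpl_inf_eq_basicOpen E V a ha]

theorem killedByPowerNear_iff (V : X.affineOpens) (a : Γ(X, V.1))
    (ha : E.ideal V = Ideal.span {a}) (m : Γ(P, V.1)) :
    BlowUp.KilledByPowerNear E P V m ↔ ∃ n : ℕ, a ^ n • m = 0 := by
  constructor
  · rintro ⟨n, hn⟩
    refine ⟨n, hn _ ?_⟩
    rw [Scheme.IdealSheafData.ideal_pow, Pi.pow_apply, ha]
    exact Ideal.pow_mem_pow (Ideal.mem_span_singleton_self a) n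
  · rintro ⟨n, hn⟩
    refine ⟨n, fun a' ha' => ?_⟩
    rw [Scheme.IdealSheafData.ideal_pow, Pi.pow_apply, ha, Ideal.span_singleton_pow,
      Ideal.mem_span_singleton'] at ha'
    obtain ⟨c, rfl⟩ := ha'
    rw [mul_smul, hn, smul_zero]

variable {E P} {G : X.Modules} (π : P ⟶ G)

/-- `π` is the quotient of `P` by its `E`-power torsion. -/
def IsTorsQuot (E : X.IdealSheafData) (π : P ⟶ G) : Prop :=
  Epi π ∧ ∀ (V : X.affineOpens) (m : Γ(P, V.1)),
    π.app V.1 m = 0 ↔ BlowUp.KilledByPowerNear E P V m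

variable (hE : BlowUp.IsEffCartierIdeal E) (hπ : IsTorsQuot E π)

include hE hπ in
theorem kernel_comp_unitMap [P.IsQuasicoherent] : kernel.ι π ≫ unitMap E P = 0 := by
  refine hom_eq_zero_of_basis _ (goodOpens E) (isBasis_goodOpens E hE) ?_
  rintro V ⟨hV, a, -, ha⟩ s
  have h0 : π.app V ((kernel.ι π).app V s) = 0 := by
    rw [← ConcreteCategory.comp_apply, ← Scheme.Modules.Hom.comp_app, kernel.condition,
      Scheme.Modules.Hom.zero_app]
    rfl
  rw [Scheme.Modules.Hom.comp_app, ConcreteCategory.comp_apply]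
  rw [hπ.2 ⟨V, hV⟩, killedByPowerNear_iff E P ⟨V, hV⟩ a ha] at h0
  exact (unitMap_app_eq_zero_iff E P ⟨V, hV⟩ a ha _).mpr h0

include hE hπ in
theorem kernel_unitMap_comp [P.IsQuasicoherent] : kernel.ι (unitMap E P) ≫ π = 0 := by
  refine hom_eq_zero_of_basis _ (goodOpens E) (isBasis_goodOpens E hE) ?_
  rintro V ⟨hV, a, -, ha⟩ s
  have h0 : (unitMap E P).app V ((kernel.ι (unitMap E P)).app V s) = 0 := by
    rw [← ConcreteCategory.comp_apply, ← Scheme.Modules.Hom.comp_app, kernel.condition,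
      Scheme.Modules.Hom.zero_app]
    rfl
  rw [Scheme.Modules.Hom.comp_app, ConcreteCategory.comp_apply]
  rw [unitMap_app_eq_zero_iff E P ⟨V, hV⟩ a ha] at h0
  exact (hπ.2 ⟨V, hV⟩ _).mpr ((killedByPowerNear_iff E P ⟨V, hV⟩ a ha _).mpr h0)


open Groth.Agent.Lib.Helper23.QCohLocal in
include hE hπ in
/-- the target of a torsion quotient of a quasi-coherent module is quasi-coherent. -/
theorem isQuasicoherent_target [P.IsQuasicoherent] : G.IsQuasicoherent := by
  haveI := hπ.1
  haveI : QuasiCompact (cmpl E).ι := quasiCompact_cmpl_ι E hE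
  haveI : (P.restrict (cmpl E).ι).IsQuasicoherent :=
    Scheme.Modules.isQuasicoherent_restrictFunctor _ P
  haveI : ((Scheme.Modules.pushforward (cmpl E).ι).obj (P.restrict (cmpl E).ι)).IsQuasicoherent :=
    isQuasicoherent_pushforward _ _
  have e : G ≅ Abelian.coimage (unitMap E P) :=
    isoCoimage π (unitMap E P) (kernel_comp_unitMap π hE hπ) (kernel_unitMap_comp π hE hπ)
  haveI : (kernel (unitMap E P)).IsQuasicoherent := isQuasicoherent_kernel _
  haveI : (Abelian.coimage (unitMap E P)).IsQuasicoherent :=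
    isQuasicoherent_cokernel (kernel.ι (unitMap E P))
  exact (SheafOfModules.isQuasicoherent X.ringCatSheaf).prop_of_iso e.symm inferInstance

end Groth.Agent.Helper18Strict
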