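import Mathlib
import Groth.Agent.Lib.Helper18Strict2
import Groth.Agent.Lib.Helper18FittSh5
import Groth.Agent.Lib.Helper18Fitt20

set_option autoImplicit false
set_option linter.style.haveILetI false
universe u
open CategoryTheory CategoryTheory.Limits AlgebraicGeometry TopologicalSpace Opposite
open Groth.Agent.Lib.Helper2.FPAff Groth.Agent.Helper18Fitt Groth.Agent.Helper18FittSh

namespace Groth.Agent.Helper18Strict

variable {X : Scheme.{u}} {E : X.IdealSheafData} {P G : X.Modules} (π : P ⟶ G)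
variable (hE : BlowUp.IsEffCartierIdeal E) (hπ : IsTorsQuot E π)

/-- `π` on sections as a linear map. -/
noncomputable def appₗ (V : X.Opens) : Γ(P, V) →ₗ[Γ(X, V)] Γ(G, V) where
  toFun x := π.app V x
  map_add' x y := map_add _ x y
  map_smul' r x := Scheme.Modules.Hom.app_smul π r x

theorem appₗ_apply (V : X.Opens) (x : Γ(P, V)) : appₗ π V x = π.app V x := rfl

include hE hπ in
theorem appₗ_surjective [P.IsQuasicoherent] {V : X.Opens} (hV : IsAffineOpen V) :
    Function.Surjective (appₗ π V) := by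
  haveI := hπ.1
  haveI : G.IsQuasicoherent := isQuasicoherent_target π hE hπ
  exact Groth.Agent.Lib.Helper23.FinType.surjective_app_of_epi π hV

include hπ in
theorem ker_appₗ (V : X.affineOpens) (a : Γ(X, V.1)) (ha : E.ideal V = Ideal.span {a}) :
    LinearMap.ker (appₗ π V.1) = FlatCA.powTorsion Γ(X, V.1) a Γ(P, V.1) := by
  ext m
  rw [LinearMap.mem_ker, appₗ_apply, hπ.2 V, killedByPowerNear_iff E P V a ha, mem_powTorsion_iff]

include hE hπ in
/-- sections of the torsion quotient over a good affine open. -/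
theorem nonempty_sections_equiv [P.IsQuasicoherent] (V : X.affineOpens) (a : Γ(X, V.1))
    (ha : E.ideal V = Ideal.span {a}) :
    Nonempty ((Γ(P, V.1) ⧸ FlatCA.powTorsion Γ(X, V.1) a Γ(P, V.1)) ≃ₗ[Γ(X, V.1)] Γ(G, V.1)) := by
  rw [← ker_appₗ π hπ V a ha]
  exact ⟨LinearMap.quotKerEquivOfSurjective _ (appₗ_surjective π hE hπ V.2)⟩

include hE hπ in
theorem fitt_sections_eq_top [P.IsQuasicoherent] (V : X.affineOpens) (a : Γ(X, V.1))
    (ha : E.ideal V = Ideal.span {a}) [Module.Finite Γ(X, V.1) Γ(P, V.1)] (k : ℕ)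
    (hF : Fitt.ideal Γ(X, V.1) Γ(P, V.1) k = Ideal.span {a}) :
    Fitt.ideal Γ(X, V.1) Γ(G, V.1) k = ⊤ := by
  obtain ⟨e⟩ := nonempty_sections_equiv π hE hπ V a ha
  rw [← fitt_congr e k]
  exact fitt_quot_torsion_eq_top _ k a hF

include hE hπ in
theorem fitt_sections_eq_bot [P.IsQuasicoherent] (V : X.affineOpens) (a : Γ(X, V.1))
    (ha0 : a ∈ nonZeroDivisors Γ(X, V.1))
    (ha : E.ideal V = Ideal.span {a}) [Module.Finite Γ(X, V.1) Γ(P, V.1)] (j : ℕ)
    (hF : Fitt.ideal Γ(X, V.1) Γ(P, V.1) j = ⊥) :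
    Fitt.ideal Γ(X, V.1) Γ(G, V.1) j = ⊥ := by
  obtain ⟨e⟩ := nonempty_sections_equiv π hE hπ V a ha
  rw [← fitt_congr e j]
  exact fitt_quot_torsion_eq_bot _ j a ha0 hF


include hE hπ in
/-- properties of the quotient of `P` by its `Fit_k(P)`-power torsion when `Fit_k(P)` is effective
Cartier. -/
theorem target_props [P.IsQuasicoherent] (hft : CohB1.IsFT P) (k : ℕ)
    (hEk : E = Fitt.sheafIdeal P k) :
    G.IsQuasicoherent ∧ CohB1.IsFT G ∧ Fitt.sheafIdeal G k = ⊤ ∧
      ∀ j, Fitt.sheafIdeal P j = ⊥ → Fitt.sheafIdeal G j = ⊥ := by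
  haveI := hπ.1
  haveI hGq : G.IsQuasicoherent := isQuasicoherent_target π hE hπ
  haveI : SheafOfModules.IsFiniteType (R := X.ringCatSheaf) P := hft
  have hftG : CohB1.IsFT G := Groth.Agent.Lib.Helper23.FinType.isFiniteType_of_epi π
  have hfinP := finite_sections P hft
  have hfinG := finite_sections G hftG
  choose V hxV a ha0 ha using hE
  have hcov : ⨆ x : X, ((V x : X.affineOpens) : X.Opens) = ⊤ := by
    rw [eq_top_iff]
    intro x _
    exact Opens.mem_iSup.mpr ⟨x, hxV x⟩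
  have hE' : BlowUp.IsEffCartierIdeal E := fun x => ⟨V x, hxV x, a x, ha0 x, ha x⟩
  refine ⟨hGq, hftG, ?_, ?_⟩
  · refine Scheme.IdealSheafData.ext_of_iSup_eq_top V hcov fun x => ?_
    haveI := hfinP (V x)
    rw [sheafIdeal_ideal G k hfinG (V x), Scheme.IdealSheafData.ideal_top, Pi.top_apply]
    refine fitt_sections_eq_top π hE' hπ (V x) (a x) (ha x) k ?_
    rw [← sheafIdeal_ideal P k hfinP (V x), ← hEk, ha x]
  · intro j hj
    refine Scheme.IdealSheafData.ext_of_iSup_eq_top V hcov fun x => ?_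
    haveI := hfinP (V x)
    rw [sheafIdeal_ideal G j hfinG (V x), Scheme.IdealSheafData.ideal_bot, Pi.bot_apply]
    refine fitt_sections_eq_bot π hE' hπ (V x) (a x) (ha0 x) (ha x) j ?_
    rw [← sheafIdeal_ideal P j hfinP (V x), hj, Scheme.IdealSheafData.ideal_bot, Pi.bot_apply]

end Groth.Agent.Helper18Strict
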