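import Mathlib
import Groth.Agent.Lib.Helper18Strict3
import Groth.Agent.Lib.Helper20FormalPull

set_option autoImplicit false
set_option linter.style.haveILetI false
universe u
open CategoryTheory CategoryTheory.Limits AlgebraicGeometry TopologicalSpace Opposite
open Groth.Agent.Lib.Helper2.FPAff Groth.Agent.Helper18Fitt Groth.Agent.Helper18FittSh

namespace Groth.Agent.Helper18Strict

/-- the strict transform of `F` along a blow up in `Fit_k(F)`: quasi-coherent, of finite type, with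
`Fit_k = ⊤`, and `Fit_j = ⊥` whenever `Fit_j(b^*F) = ⊥`. -/
theorem strictTransform_props (S : Scheme.{u}) (F : S.Modules) (hF : Coh.IsQCoh F) (hft : CohB1.IsFT F)
    (k : ℕ) {S' : Scheme.{u}} (b : S' ⟶ S) (hb : BlowUp.IsBlowUp b (Fitt.sheafIdeal F k)) (G : S'.Modules)
    (π : (Scheme.Modules.pullback b).obj F ⟶ G)
    (hG : BlowUp.IsStrictTransform b (Fitt.sheafIdeal F k) F G π) :
    G.IsQuasicoherent ∧ CohB1.IsFT G ∧ Fitt.sheafIdeal G k = ⊤ ∧
      ∀ j, Fitt.sheafIdeal ((Scheme.Modules.pullback b).obj F) j = ⊥ → Fitt.sheafIdeal G j = ⊥ := by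
  haveI : F.IsQuasicoherent := hF
  haveI : SheafOfModules.IsFiniteType (R := S.ringCatSheaf) F := hft
  have hftP : CohB1.IsFT ((Scheme.Modules.pullback b).obj F) :=
    Groth.Agent.Lib.Helper20.FormalPull.isFiniteType_pullback b F
  exact target_props (E := (Fitt.sheafIdeal F k).comap b) π hb.1 hG hftP k
    (main_S8872 b F hF hft k)

theorem main_S8911 (S : Scheme.{u}) (F : S.Modules) (hF : Coh.IsQCoh F) (hft : CohB1.IsFT F)
    (k : ℕ) {S' : Scheme.{u}} (b : S' ⟶ S) (hb : BlowUp.IsBlowUp b (Fitt.sheafIdeal F k)) (G : S'.Modules)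
    (π : (Scheme.Modules.pullback b).obj F ⟶ G) (hG : BlowUp.IsStrictTransform b (Fitt.sheafIdeal F k) F G π) (s' : ↥S') :
    ∃ U : S'.Opens, s' ∈ U ∧ ∃ q : FlatMod.freeMod (↑U) k ⟶ G.restrict U.ι, Epi q := by
  obtain ⟨hGq, hGft, hGk, -⟩ := strictTransform_props S F hF hft k b hb G π hG
  refine (main_S8874 S' G hGq hGft s' k).mpr ?_
  rw [hGk, Scheme.IdealSheafData.support_top]
  exact fun h => h

end Groth.Agent.Helper18Strict
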