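import Mathlib
import Groth.Agent.Lib.Helper18Strict4
import Groth.Agent.Lib.Helper18Fitt14
import Groth.Agent.Lib.Helper22IdealComap

set_option autoImplicit false
set_option linter.style.haveILetI false
universe u
open CategoryTheory CategoryTheory.Limits AlgebraicGeometry TopologicalSpace Opposite
open Groth.Agent.Lib.Helper2.FPAff Groth.Agent.Helper18Fitt Groth.Agent.Helper18FittSh

namespace Groth.Agent.Helper18Strict

theorem map_eq_bot_of_pow_kill {R R' : Type*} [CommRing R] [CommRing R'] (φ : R →+* R')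
    (I J : Ideal R) (h : ∀ c ∈ J, ∀ f ∈ I, ∃ n : ℕ, f ^ n * c = 0) (a : R')
    (ha0 : a ∈ nonZeroDivisors R') (ha : I.map φ = Ideal.span {a}) : J.map φ = ⊥ := by
  rw [Ideal.map_eq_bot_iff_le_ker]
  intro c hc
  rw [RingHom.mem_ker]
  let K : Ideal R' := (Ideal.span {φ c}).annihilator.radical
  have hIK : I.map φ ≤ K := by
    rw [Ideal.map_le_iff_le_comap]
    intro f hf
    obtain ⟨n, hn⟩ := h c hc f hf
    refine ⟨n, ?_⟩
    rw [Submodule.mem_annihilator_span_singleton, smul_eq_mul, ← map_pow, ← map_mul, hn, map_zero]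
  have haK : a ∈ K := hIK (ha ▸ Ideal.mem_span_singleton_self a)
  obtain ⟨N, hN⟩ := haK
  rw [Submodule.mem_annihilator_span_singleton, smul_eq_mul] at hN
  exact (pow_mem ha0 N).2 _ (by rw [mul_comm]; exact hN)


variable {S : Scheme.{u}} (F : S.Modules) [F.IsQuasicoherent]

/-- near a point where a restriction of `F` is locally free of rank `k`, the lower Fitting ideals
vanish on some affine neighbourhood. -/
theorem exists_affine_fitt_eq_bot (hft : CohB1.IsFT F) (k : ℕ) (U₀ : S.Opens)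
    (hfree : FlatMod.IsFinLocFreeOfRank k (F.restrict U₀.ι)) (x : S) (hx : x ∈ U₀) :
    ∃ W : S.affineOpens, x ∈ W.1 ∧ ∀ j, j < k → (Fitt.sheafIdeal F j).ideal W = ⊥ := by
  obtain ⟨U₁, hxU₁, ⟨e⟩⟩ := hfree ⟨x, hx⟩
  let e' : F.restrict (U₁.ι ≫ U₀.ι) ≅ FlatMod.freeMod (↑U₁) k :=
    (Scheme.Modules.restrictFunctorComp U₁.ι U₀.ι).app F ≪≫ e
  obtain ⟨W, hW, hxW, ⟨bs⟩⟩ :=
    exists_affine_basis_of_restrict_iso_freeMod F (U₁.ι ≫ U₀.ι) e' ⟨⟨x, hx⟩, hxU₁⟩
  refine ⟨⟨W, hW⟩, hxW, fun j hj => ?_⟩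
  rw [sheafIdeal_ideal F j (finite_sections F hft) ⟨W, hW⟩]
  exact (fitt_of_basis bs j).1 hj


omit [F.IsQuasicoherent] in
/-- a section of an ideal sheaf which vanishes locally on `D(f)` is killed by a power of `f`. -/
theorem exists_pow_mul_eq_zero_of_locally_bot (I : S.IdealSheafData) (W : S.affineOpens)
    (f c : Γ(S, W.1)) (hc : c ∈ I.ideal W)
    (h : ∀ x ∈ S.basicOpen f, ∃ W' : S.affineOpens, x ∈ W'.1 ∧ I.ideal W' = ⊥) :
    ∃ n : ℕ, f ^ n * c = 0 := by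
  have hloc : IsLocalization.Away f Γ(S, S.basicOpen f) := W.2.isLocalization_basicOpen f
  have h0 : algebraMap Γ(S, W.1) Γ(S, S.basicOpen f) c = 0 := by
    refine TopCat.Presheaf.section_ext S.sheaf (S.basicOpen f) _ 0 fun x hx => ?_
    obtain ⟨W', hxW', hW'⟩ := h x hx
    obtain ⟨V₁, hV₁, hxV₁, hV₁le⟩ := exists_isAffineOpen_mem_and_subset (x := x)
      (U := S.basicOpen f ⊓ W'.1) ⟨hx, hxW'⟩
    have hle1 : V₁ ≤ W'.1 := hV₁le.trans inf_le_right
    have hle2 : V₁ ≤ S.basicOpen f := hV₁le.trans inf_le_left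
    have hle3 : V₁ ≤ W.1 := hle2.trans (S.basicOpen_le f)
    have e1 : I.ideal ⟨V₁, hV₁⟩ = ⊥ := by
      rw [← I.map_ideal (U := ⟨V₁, hV₁⟩) (V := W') hle1, hW', Ideal.map_bot]
    have e2 : (S.presheaf.map (homOfLE hle3).op).hom c ∈ I.ideal ⟨V₁, hV₁⟩ := by
      rw [← I.map_ideal (U := ⟨V₁, hV₁⟩) (V := W) hle3]
      exact Ideal.mem_map_of_mem _ hc
    rw [e1, Ideal.mem_bot] at e2
    have e3 : (S.presheaf.map (homOfLE hle2).op).hom (algebraMap Γ(S, W.1) Γ(S, S.basicOpen f) c) = 0 := by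
      rw [← e2]
      change (S.presheaf.map (homOfLE hle2).op).hom ((S.presheaf.map (homOfLE (S.basicOpen_le f)).op).hom c) = _
      rw [← CommRingCat.comp_apply, ← Functor.map_comp]
      rfl
    have e4 := TopCat.Presheaf.germ_res_apply S.presheaf (homOfLE hle2) x hxV₁
      (algebraMap Γ(S, W.1) Γ(S, S.basicOpen f) c)
    change S.presheaf.germ (S.basicOpen f) x hx (algebraMap Γ(S, W.1) Γ(S, S.basicOpen f) c) =
      S.presheaf.germ (S.basicOpen f) x hx 0
    rw [← e4]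
    erw [e3]
    rw [map_zero, map_zero]
  rw [IsLocalization.map_eq_zero_iff (Submonoid.powers f)] at h0
  obtain ⟨⟨_, n, rfl⟩, hn⟩ := h0
  exact ⟨n, hn⟩


/-- if `F` is locally free of rank `k` outside `V(Fit_k F)` and `Fit_k(F)` pulls back to an
effective Cartier ideal along `b`, then the lower Fitting ideals of `b^*F` vanish. -/
theorem fitt_pullback_eq_bot (hft : CohB1.IsFT F) (k : ℕ)
    (hfree : FlatMod.IsFinLocFreeOfRank k
      (F.restrict (Scheme.Opens.ι (Fitt.sheafIdeal F k).support.compl)))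
    {S' : Scheme.{u}} (b : S' ⟶ S) (hE : BlowUp.IsEffCartierIdeal ((Fitt.sheafIdeal F k).comap b))
    (j : ℕ) (hj : j < k) : Fitt.sheafIdeal ((Scheme.Modules.pullback b).obj F) j = ⊥ := by
  have hF : Coh.IsQCoh F := inferInstance
  rw [← main_S8872 b F hF hft j]
  have key : ∀ x : S', ∃ V : S'.affineOpens, x ∈ V.1 ∧
      ((Fitt.sheafIdeal F j).comap b).ideal V = ⊥ := by
    intro x
    obtain ⟨W, hW, hxW, -⟩ := exists_isAffineOpen_mem_and_subset (x := b x) (U := ⊤) trivial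
    obtain ⟨V, ⟨hV, a, ha0, ha⟩, hxV, hVW⟩ := TopologicalSpace.Opens.isBasis_iff_nbhd.mp
      (isBasis_goodOpens _ hE) (show x ∈ b ⁻¹ᵁ W from hxW)
    refine ⟨⟨V, hV⟩, hxV, ?_⟩
    rw [Groth.Agent.Lib.Helper22.IdealComap.ideal_comap_eq_map b _ ⟨V, hV⟩ ⟨W, hW⟩ hVW]
    refine map_eq_bot_of_pow_kill _ ((Fitt.sheafIdeal F k).ideal ⟨W, hW⟩) _ ?_ a ha0 ?_
    · intro c hc f hf
      refine exists_pow_mul_eq_zero_of_locally_bot _ ⟨W, hW⟩ f c hc fun y hy => ?_
      have hyU₀ : y ∈ (Fitt.sheafIdeal F k).support.compl := by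
        show y ∉ (Fitt.sheafIdeal F k).support
        rw [Scheme.IdealSheafData.mem_support_iff_of_mem (U := ⟨W, hW⟩) (S.basicOpen_le f hy),
          Scheme.mem_zeroLocus_iff]
        intro h
        exact h f hf hy
      obtain ⟨W', hyW', hW'⟩ := exists_affine_fitt_eq_bot F hft k _ hfree y hyU₀
      exact ⟨W', hyW', hW' j hj⟩
    · rw [← Groth.Agent.Lib.Helper22.IdealComap.ideal_comap_eq_map b _ ⟨V, hV⟩ ⟨W, hW⟩ hVW, ha]
  choose V hxV hV using key
  refine Scheme.IdealSheafData.ext_of_iSup_eq_top V ?_ fun x => ?_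
  · rw [eq_top_iff]
    intro x _
    exact Opens.mem_iSup.mpr ⟨x, hxV x⟩
  · rw [hV x]
    rfl


theorem main_S8912 (S : Scheme.{u}) (F : S.Modules) (hF : Coh.IsQCoh F) (hft : CohB1.IsFT F)
    (k : ℕ) (hfree : FlatMod.IsFinLocFreeOfRank k (F.restrict (Scheme.Opens.ι (Fitt.sheafIdeal F k).support.compl)))
    {S' : Scheme.{u}} (b : S' ⟶ S) (hb : BlowUp.IsBlowUp b (Fitt.sheafIdeal F k)) (G : S'.Modules)
    (π : (Scheme.Modules.pullback b).obj F ⟶ G) (hG : BlowUp.IsStrictTransform b (Fitt.sheafIdeal F k) F G π) :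
    FlatMod.IsFinLocFreeOfRank k G := by
  haveI : F.IsQuasicoherent := hF
  obtain ⟨hGq, hGft, hGk, hGj⟩ := strictTransform_props S F hF hft k b hb G π hG
  haveI : G.IsQuasicoherent := hGq
  exact isFinLocFreeOfRank_of_fitt G hGft k
    (fun j hj => hGj j (fitt_pullback_eq_bot F hft k hfree b hb.1 j hj)) hGk

end Groth.Agent.Helper18Strict
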