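import Mathlib
import Groth.Agent.Lib.Helper18Strict5
import Groth.Prelude.Def_CInt
import Groth.Agent.Lib.Helper2FinPushFP

set_option autoImplicit false
set_option linter.style.haveILetI false
universe u
open CategoryTheory CategoryTheory.Limits AlgebraicGeometry TopologicalSpace Opposite
open Groth.Agent.Lib.Helper2.FPAff Groth.Agent.Helper18Fitt Groth.Agent.Helper18FittSh

namespace Groth.Agent.Helper18Strict

theorem isQCoh_of_isFP {X : Scheme.{u}} (F : X.Modules) (hF : CohB1.IsFP F) : F.IsQuasicoherent :=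
  { nonempty_quasicoherentData :=
      ⟨(SheafOfModules.IsFinitePresentation.exists_quasicoherentData (R := X.ringCatSheaf) F).choose⟩ }

theorem isFT_of_isFP {X : Scheme.{u}} (F : X.Modules) (hF : CohB1.IsFP F) : CohB1.IsFT F := by
  obtain ⟨σ, hσ⟩ :=
    SheafOfModules.IsFinitePresentation.exists_quasicoherentData (R := X.ringCatSheaf) F
  exact { exists_localGeneratorsData := ⟨σ.localGeneratorsData,
    { isFiniteType := fun i => (hσ.isFinite_presentation i).isFiniteType_generators }⟩ }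

variable {X : Scheme.{u}} (F : X.Modules) [F.IsQuasicoherent]

/-- near a point where a restriction of `F` is locally free of rank `k`, the Fitting ideals are
trivial on some affine neighbourhood. -/
theorem exists_affine_fitt_of_locFree (hft : CohB1.IsFT F) (k : ℕ) (U₀ : X.Opens)
    (hfree : FlatMod.IsFinLocFreeOfRank k (F.restrict U₀.ι)) (x : X) (hx : x ∈ U₀) :
    ∃ W : X.affineOpens, x ∈ W.1 ∧ (∀ j, j < k → (Fitt.sheafIdeal F j).ideal W = ⊥) ∧
      (∀ j, k ≤ j → (Fitt.sheafIdeal F j).ideal W = ⊤) := by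
  obtain ⟨U₁, hxU₁, ⟨e⟩⟩ := hfree ⟨x, hx⟩
  let e' : F.restrict (U₁.ι ≫ U₀.ι) ≅ FlatMod.freeMod (↑U₁) k :=
    (Scheme.Modules.restrictFunctorComp U₁.ι U₀.ι).app F ≪≫ e
  obtain ⟨W, hW, hxW, ⟨bs⟩⟩ :=
    exists_affine_basis_of_restrict_iso_freeMod F (U₁.ι ≫ U₀.ι) e' ⟨⟨x, hx⟩, hxU₁⟩
  refine ⟨⟨W, hW⟩, hxW, fun j hj => ?_, fun j hj => ?_⟩
  · rw [sheafIdeal_ideal F j (finite_sections F hft) ⟨W, hW⟩]
    exact (fitt_of_basis bs j).1 hj
  · rw [sheafIdeal_ideal F j (finite_sections F hft) ⟨W, hW⟩]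
    exact (fitt_of_basis bs j).2 hj

omit [F.IsQuasicoherent] in
/-- a section of an ideal sheaf vanishes on an open where the ideal sheaf is locally zero. -/
theorem res_eq_zero_of_locally_bot (I : X.IdealSheafData) (W : X.affineOpens)
    (c : Γ(X, W.1)) (hc : c ∈ I.ideal W) (O : X.Opens) (hO : O ≤ W.1)
    (h : ∀ x ∈ O, ∃ W' : X.affineOpens, x ∈ W'.1 ∧ I.ideal W' = ⊥) :
    (X.presheaf.map (homOfLE hO).op).hom c = 0 := by
  refine TopCat.Presheaf.section_ext X.sheaf O _ 0 fun x hx => ?_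
  obtain ⟨W', hxW', hW'⟩ := h x hx
  obtain ⟨V₁, hV₁, hxV₁, hV₁le⟩ := exists_isAffineOpen_mem_and_subset (x := x)
    (U := O ⊓ W'.1) ⟨hx, hxW'⟩
  have hle1 : V₁ ≤ W'.1 := hV₁le.trans inf_le_right
  have hle2 : V₁ ≤ O := hV₁le.trans inf_le_left
  have hle3 : V₁ ≤ W.1 := hle2.trans hO
  have e1 : I.ideal ⟨V₁, hV₁⟩ = ⊥ := by
    rw [← I.map_ideal (U := ⟨V₁, hV₁⟩) (V := W') hle1, hW', Ideal.map_bot]
  have e2 : (X.presheaf.map (homOfLE hle3).op).hom c ∈ I.ideal ⟨V₁, hV₁⟩ := by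
    rw [← I.map_ideal (U := ⟨V₁, hV₁⟩) (V := W) hle3]
    exact Ideal.mem_map_of_mem _ hc
  rw [e1, Ideal.mem_bot] at e2
  have e3 : (X.presheaf.map (homOfLE hle2).op).hom ((X.presheaf.map (homOfLE hO).op).hom c) = 0 := by
    rw [← e2, ← CommRingCat.comp_apply, ← Functor.map_comp]
    rfl
  have e4 := TopCat.Presheaf.germ_res_apply X.presheaf (homOfLE hle2) x hxV₁
    ((X.presheaf.map (homOfLE hO).op).hom c)
  change X.presheaf.germ O x hx ((X.presheaf.map (homOfLE hO).op).hom c) =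
    X.presheaf.germ O x hx 0
  rw [← e4]
  erw [e3]
  rw [map_zero, map_zero]

/-- lower Fitting ideals vanish when `F` is locally free of rank `r` on a schematically dense open. -/
theorem fitt_eq_bot_of_schematicallyDense (hft : CohB1.IsFT F) (U : X.Opens)
    (hU : CInt.IsSchematicallyDense U) (r : ℕ)
    (hfree : FlatMod.IsFinLocFreeOfRank r (F.restrict U.ι)) (j : ℕ) (hj : j < r) :
    Fitt.sheafIdeal F j = ⊥ := by
  ext W : 2
  rw [Scheme.IdealSheafData.ideal_bot, Pi.bot_apply, eq_bot_iff]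
  intro c hc
  rw [Ideal.mem_bot]
  apply hU W.1
  rw [map_zero]
  refine res_eq_zero_of_locally_bot _ W c hc (W.1 ⊓ U) inf_le_left fun x hx => ?_
  obtain ⟨W', hxW', hW', -⟩ := exists_affine_fitt_of_locFree F hft r U hfree x hx.2
  exact ⟨W', hxW', hW' j hj⟩


/-- the inverse image of the zero ideal sheaf is zero. -/
theorem comap_bot {X' : Scheme.{u}} (b : X' ⟶ X) :
    (⊥ : X.IdealSheafData).comap b = ⊥ := by
  have key : ∀ x : X', ∃ V : X'.affineOpens, x ∈ V.1 ∧
      ((⊥ : X.IdealSheafData).comap b).ideal V = ⊥ := by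
    intro x
    obtain ⟨W, hW, hxW, -⟩ := exists_isAffineOpen_mem_and_subset (x := b x) (U := ⊤) trivial
    obtain ⟨V, hV, hxV, hVW⟩ := exists_isAffineOpen_mem_and_subset (x := x) (U := b ⁻¹ᵁ W) hxW
    refine ⟨⟨V, hV⟩, hxV, ?_⟩
    rw [Groth.Agent.Lib.Helper22.IdealComap.ideal_comap_eq_map b _ ⟨V, hV⟩ ⟨W, hW⟩ hVW,
      Scheme.IdealSheafData.ideal_bot, Pi.bot_apply, Ideal.map_bot]
  choose V hxV hV using key
  refine Scheme.IdealSheafData.ext_of_iSup_eq_top V ?_ fun x => ?_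
  · rw [eq_top_iff]
    intro x _
    exact Opens.mem_iSup.mpr ⟨x, hxV x⟩
  · rw [hV x]
    rfl

/-- admissibility of `Fit_r(F)` for an open over which `F` is locally free of rank `r`. -/
theorem isAdmissibleFor_fitt (hF : CohB1.IsFP F) (U : X.Opens) (r : ℕ)
    (hfree : FlatMod.IsFinLocFreeOfRank r (F.restrict U.ι)) :
    BlowUp.IsAdmissibleFor U (Fitt.sheafIdeal F r) := by
  have hft : CohB1.IsFT F := isFT_of_isFP F hF
  refine ⟨main_S8873 X F hF r, Set.disjoint_left.mpr fun x hxs hxU => ?_⟩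
  obtain ⟨W, hxW, -, hW⟩ := exists_affine_fitt_of_locFree F hft r U hfree x hxU
  have hxs' : x ∈ (Fitt.sheafIdeal F r).support := hxs
  rw [Scheme.IdealSheafData.mem_support_iff_of_mem (U := W) hxW, hW r le_rfl,
    Scheme.mem_zeroLocus_iff] at hxs'
  exact hxs' 1 trivial (by rw [Scheme.basicOpen_of_isUnit _ isUnit_one]; exact hxW)


/-- the strict transform along a blow up in `Fit_r(F)` is locally free of rank `r` when `F` is
locally free of rank `r` on a schematically dense open. -/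
theorem isFinLocFreeOfRank_strictTransform (hft : CohB1.IsFT F) (U : X.Opens)
    (hU : CInt.IsSchematicallyDense U) (r : ℕ)
    (hfree : FlatMod.IsFinLocFreeOfRank r (F.restrict U.ι))
    {X' : Scheme.{u}} (b : X' ⟶ X) (hb : BlowUp.IsBlowUp b (Fitt.sheafIdeal F r)) (G : X'.Modules)
    (π : (Scheme.Modules.pullback b).obj F ⟶ G)
    (hG : BlowUp.IsStrictTransform b (Fitt.sheafIdeal F r) F G π) :
    G.IsQuasicoherent ∧ FlatMod.IsFinLocFreeOfRank r G := by
  have hF : Coh.IsQCoh F := inferInstance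
  obtain ⟨hGq, hGft, hGk, hGj⟩ := strictTransform_props X F hF hft r b hb G π hG
  haveI := hGq
  refine ⟨hGq, isFinLocFreeOfRank_of_fitt G hGft r (fun j hj => hGj j ?_) hGk⟩
  rw [← main_S8872 b F hF hft j, fitt_eq_bot_of_schematicallyDense F hft U hU r hfree j hj,
    comap_bot]

open Groth.Agent.Lib.Helper20.Thickening Groth.Agent.Lib.Helper20.PullbackAff
  Groth.Agent.Lib.Helper20.OmegaAff in
open TensorProduct in
/-- sections of the pullback of a module with finitely presented sections. -/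
theorem finitePresentation_pullback_sections {T S : Scheme.{u}} (f : T ⟶ S) (F : S.Modules)
    [F.IsQuasicoherent] {V : S.Opens} (hV : IsAffineOpen V) {U : T.Opens}
    (hU : IsAffineOpen U) (h : U ≤ f ⁻¹ᵁ V) [Module.FinitePresentation Γ(S, V) Γ(F, V)] :
    Module.FinitePresentation Γ(T, U) Γ((Scheme.Modules.pullback f).obj F, U) := by
  letI : Algebra Γ(S, V) Γ(T, U) := (f.appLE V U h).hom.toAlgebra
  let e1 : Γ((Scheme.Modules.pullback f).obj F, U) ≃ₗ[Γ(T, U)]
      (ΓUF hU).obj ((Scheme.Modules.pullback f).obj F) := ΓUEquiv hU _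
  let e2 : (ΓUF hU).obj ((Scheme.Modules.pullback f).obj F) ≃ₗ[Γ(T, U)]
      (Γ(T, U) ⊗[Γ(S, V)] ((ΓUF hV).obj F)) := (ΓUFPullbackIso f hV hU h F).toLinearEquiv
  let e3 : Γ(F, V) ≃ₗ[Γ(S, V)] (ΓUF hV).obj F := ΓUEquiv hV F
  haveI : Module.FinitePresentation Γ(S, V) ((ΓUF hV).obj F) := Module.FinitePresentation.of_equiv e3
  exact Module.FinitePresentation.of_equiv (e1.trans e2).symm

/-- pullbacks of finitely presented modules are finitely presented. -/
theorem isFP_pullback {T S : Scheme.{u}} (f : T ⟶ S) (F : S.Modules) (hF : CohB1.IsFP F) :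
    CohB1.IsFP ((Scheme.Modules.pullback f).obj F) := by
  haveI : F.IsQuasicoherent := isQCoh_of_isFP F hF
  haveI : SheafOfModules.IsFinitePresentation (R := S.ringCatSheaf) F := hF
  let ι : Type u := {U : T.Opens // IsAffineOpen U ∧ ∃ V : S.Opens, IsAffineOpen V ∧ U ≤ f ⁻¹ᵁ V}
  refine Groth.Agent.Lib.Helper2.FinPushFP.isFinitePresentation_of_finitePresentation_sections _
    (fun U : ι => U.1) ?_ (fun U => U.2.1) ?_
  · rw [IsOpenCover, eq_top_iff]
    intro y _
    obtain ⟨V, hV, hyV, -⟩ := exists_isAffineOpen_mem_and_subset (x := f y) (U := ⊤) trivial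
    obtain ⟨U, hU, hyU, hUV⟩ := exists_isAffineOpen_mem_and_subset (x := y) (U := f ⁻¹ᵁ V) hyV
    exact Opens.mem_iSup.2 ⟨⟨U, hU, V, hV, hUV⟩, hyU⟩
  · rintro ⟨U, hU, V, hV, hUV⟩
    haveI := finitePresentation_sections F hV
    exact finitePresentation_pullback_sections f F hV hU hUV

end Groth.Agent.Helper18Strict
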