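import Mathlib
import Groth.Agent.Lib.Helper18Strict6
import Groth.Agent.Lib.Helper20OmegaUnr

set_option autoImplicit false
set_option linter.style.haveILetI false
universe u
open CategoryTheory CategoryTheory.Limits AlgebraicGeometry TopologicalSpace Opposite
open Groth.Agent.Lib.Helper2.FPAff Groth.Agent.Helper18Fitt Groth.Agent.Helper18FittSh

namespace Groth.Agent.Helper18Strict

section alg
variable {R : Type*} [CommRing R] {M N : Type*} [AddCommGroup M] [Module R M] [AddCommGroup N]
  [Module R N]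

/-- the kernel of a split surjection from a finitely presented module onto a finite module is
finitely presented. -/
theorem finitePresentation_ker_of_split [Module.FinitePresentation R M] [Module.Finite R N]
    (p : M →ₗ[R] N) (s : N →ₗ[R] M) (hps : p ∘ₗ s = LinearMap.id) :
    Module.FinitePresentation R (LinearMap.ker p) := by
  have hps' : ∀ n, p (s n) = n := fun n => congr($hps n)
  let ρ : M →ₗ[R] LinearMap.ker p :=
    (LinearMap.id - s ∘ₗ p).codRestrict (LinearMap.ker p) (fun m => by
      rw [LinearMap.mem_ker, LinearMap.sub_apply, map_sub, LinearMap.id_apply,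
        LinearMap.comp_apply, hps', sub_self])
  have hρ : ∀ m, (ρ m : M) = m - s (p m) := fun m => rfl
  refine Module.finitePresentation_of_surjective ρ ?_ ?_
  · rintro ⟨m, hm⟩
    refine ⟨m, Subtype.ext ?_⟩
    rw [hρ, LinearMap.mem_ker.mp hm, map_zero, sub_zero]
  · have : LinearMap.ker ρ = LinearMap.range s := by
      ext m
      rw [LinearMap.mem_ker, LinearMap.mem_range]
      constructor
      · intro h
        have h' := congrArg Subtype.val h
        rw [hρ] at h'
        exact ⟨p m, (sub_eq_zero.mp h').symm⟩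
      · rintro ⟨n, rfl⟩
        apply Subtype.ext
        rw [hρ, hps', sub_self]
        rfl
    rw [this, LinearMap.range_eq_map]
    exact Submodule.FG.map _ (Module.Finite.fg_top)

end alg


variable {X : Scheme.{u}} {P G : X.Modules} (π : P ⟶ G)

/-- sections of the kernel are the kernel on sections (linearly). -/
theorem nonempty_kernel_sections_equiv (W : X.Opens) :
    Nonempty (Γ(kernel π, W) ≃ₗ[Γ(X, W)] LinearMap.ker (appₗ π W)) := by
  have hinj : Function.Injective (appₗ (kernel.ι π) W) := OmegaSh.ι_app_injective π W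
  have hrange : LinearMap.range (appₗ (kernel.ι π) W) = LinearMap.ker (appₗ π W) := by
    ext m
    constructor
    · rintro ⟨s, rfl⟩
      rw [LinearMap.mem_ker, appₗ_apply, appₗ_apply, ← ConcreteCategory.comp_apply,
        ← Scheme.Modules.Hom.comp_app, kernel.condition, Scheme.Modules.Hom.zero_app]
      rfl
    · intro hm
      exact ⟨OmegaSh.kerLift π W m hm, OmegaSh.ι_kerLift π W m hm⟩
  exact ⟨(LinearEquiv.ofInjective _ hinj).trans (LinearEquiv.ofEq _ _ hrange)⟩

open Groth.Agent.Lib.Helper23.QCohLocal in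
/-- the kernel of an epimorphism from a finitely presented module onto a finite locally free
module is finitely presented. -/
theorem isFP_kernel [P.IsQuasicoherent] [G.IsQuasicoherent] [Epi π] (hP : CohB1.IsFP P) (r : ℕ)
    (hG : FlatMod.IsFinLocFreeOfRank r G) : CohB1.IsFP (kernel π) := by
  haveI : SheafOfModules.IsFinitePresentation (R := X.ringCatSheaf) P := hP
  haveI : (kernel π).IsQuasicoherent := isQuasicoherent_kernel π
  have key : ∀ x : X, ∃ W : X.Opens, IsAffineOpen W ∧ x ∈ W ∧
      Module.FinitePresentation Γ(X, W) Γ(kernel π, W) := by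
    intro x
    obtain ⟨U₁, hxU₁, ⟨e⟩⟩ := hG x
    obtain ⟨W, hW, hxW, ⟨bs⟩⟩ := exists_affine_basis_of_restrict_iso_freeMod G U₁.ι e ⟨x, hxU₁⟩
    refine ⟨W, hW, hxW, ?_⟩
    have hsurj : Function.Surjective (appₗ π W) :=
      Groth.Agent.Lib.Helper23.FinType.surjective_app_of_epi π hW
    choose t ht using fun i => hsurj (bs i)
    let s : Γ(G, W) →ₗ[Γ(X, W)] Γ(P, W) := bs.constr ℕ t
    have hps : appₗ π W ∘ₗ s = LinearMap.id := by
      refine bs.ext fun i => ?_
      rw [LinearMap.comp_apply, Module.Basis.constr_basis, ht, LinearMap.id_apply]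
    haveI : Module.Finite Γ(X, W) Γ(G, W) := Module.Finite.of_basis bs
    haveI : Module.FinitePresentation Γ(X, W) Γ(P, W) := finitePresentation_sections P hW
    haveI := finitePresentation_ker_of_split (appₗ π W) s hps
    obtain ⟨ε⟩ := nonempty_kernel_sections_equiv π W
    exact Module.FinitePresentation.of_equiv ε.symm
  choose W hW hxW hfp using key
  refine Groth.Agent.Lib.Helper2.FinPushFP.isFinitePresentation_of_finitePresentation_sections _
    W ?_ hW hfp
  rw [IsOpenCover, eq_top_iff]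
  intro x _
  exact Opens.mem_iSup.2 ⟨x, hxW x⟩


/-- the kernel of the strict transform map vanishes over the open where `F` is locally free of
rank `r`. -/
theorem isZero_kernel_restrict {X : Scheme.{u}} (F : X.Modules) [F.IsQuasicoherent]
    (hft : CohB1.IsFT F) (U : X.Opens) (r : ℕ)
    (hfree : FlatMod.IsFinLocFreeOfRank r (F.restrict U.ι))
    {X' : Scheme.{u}} (b : X' ⟶ X) (hb : BlowUp.IsBlowUp b (Fitt.sheafIdeal F r)) (G : X'.Modules)
    (π : (Scheme.Modules.pullback b).obj F ⟶ G)
    (hG : BlowUp.IsStrictTransform b (Fitt.sheafIdeal F r) F G π) :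
    IsZero ((kernel π).restrict (b ⁻¹ᵁ U).ι) := by
  have hE := hb.1
  -- sections of `b^*F` killed by `π` over opens inside `b⁻¹U` vanish
  have key : ∀ (O' : X'.Opens), O' ≤ b ⁻¹ᵁ U →
      ∀ m : Γ((Scheme.Modules.pullback b).obj F, O'), π.app O' m = 0 → m = 0 := by
    intro O' hO' m hm
    refine ((Scheme.Modules.pullback b).obj F).isSheaf.section_ext (U := op O') fun x hx => ?_
    obtain ⟨W, hbxW, -, hW⟩ := exists_affine_fitt_of_locFree F hft r U hfree (b x) (hO' hx)
    obtain ⟨V, ⟨hV, a, -, ha⟩, hxV, hVle⟩ := TopologicalSpace.Opens.isBasis_iff_nbhd.mp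
      (isBasis_goodOpens _ hE) (show x ∈ O' ⊓ b ⁻¹ᵁ W.1 from ⟨hx, hbxW⟩)
    have hVO' : V ≤ O' := hVle.trans inf_le_left
    have hVW : V ≤ b ⁻¹ᵁ W.1 := hVle.trans inf_le_right
    refine ⟨V, hVO', hxV, ?_⟩
    rw [map_zero]
    have hnat : π.app V (((Scheme.Modules.pullback b).obj F).presheaf.map (homOfLE hVO').op m) = 0 := by
      have hnat' : G.presheaf.map (homOfLE hVO').op (π.app O' m) =
          π.app V (((Scheme.Modules.pullback b).obj F).presheaf.map (homOfLE hVO').op m) :=
        (congr($((Scheme.Modules.Hom.mapPresheaf π).naturality (homOfLE hVO').op) m)).symm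
      rw [← hnat', hm, map_zero]
    rw [hG.2 ⟨V, hV⟩, killedByPowerNear_iff _ _ ⟨V, hV⟩ a ha] at hnat
    obtain ⟨n, hn⟩ := hnat
    have hunit : IsUnit a := by
      rw [← Ideal.span_singleton_eq_top, ← ha,
        Groth.Agent.Lib.Helper22.IdealComap.ideal_comap_eq_map b _ ⟨V, hV⟩ W hVW, hW r le_rfl,
        Ideal.map_top]
    exact ((hunit.pow n).smul_eq_zero).mp hn
  refine Groth.Agent.Lib.Helper20.OmegaUnr.isZero_of_basis _ Set.univ ?_ fun O _ => ?_
  · rw [TopologicalSpace.Opens.isBasis_iff_nbhd]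
    intro O x hx
    exact ⟨O, trivial, hx, le_rfl⟩
  · refine ⟨fun s t => ?_⟩
    have hO' : (b ⁻¹ᵁ U).ι ''ᵁ O ≤ b ⁻¹ᵁ U := (b ⁻¹ᵁ U).ι_image_le O
    apply OmegaSh.ι_app_injective π ((b ⁻¹ᵁ U).ι ''ᵁ O)
    have h0 : ∀ s : Γ(kernel π, (b ⁻¹ᵁ U).ι ''ᵁ O),
        (kernel.ι π).app ((b ⁻¹ᵁ U).ι ''ᵁ O) s = 0 := by
      intro s
      apply key _ hO'
      rw [← ConcreteCategory.comp_apply, ← Scheme.Modules.Hom.comp_app, kernel.condition,
        Scheme.Modules.Hom.zero_app]
      rfl
    exact (h0 s).trans (h0 t).symm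


theorem main_S8913 (X : Scheme.{u}) (F : X.Modules) (hF : CohB1.IsFP F)
    (U : X.Opens) (hU : CInt.IsSchematicallyDense U) (r : ℕ) (hfree : FlatMod.IsFinLocFreeOfRank r (F.restrict U.ι)) :
    BlowUp.IsAdmissibleFor U (Fitt.sheafIdeal F r) ∧
      ∀ (X' : Scheme.{u}) (b : X' ⟶ X), BlowUp.IsBlowUp b (Fitt.sheafIdeal F r) →
        ∀ (G : X'.Modules) (π : (Scheme.Modules.pullback b).obj F ⟶ G), BlowUp.IsStrictTransform b (Fitt.sheafIdeal F r) F G π →
          FlatMod.IsFinLocFreeOfRank r G ∧ CohB1.IsFP (kernel π) ∧ IsZero ((kernel π).restrict (b ⁻¹ᵁ U).ι) := by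
  haveI : F.IsQuasicoherent := isQCoh_of_isFP F hF
  have hft : CohB1.IsFT F := isFT_of_isFP F hF
  refine ⟨isAdmissibleFor_fitt F hF U r hfree, fun X' b hb G π hG => ?_⟩
  obtain ⟨hGq, hGfree⟩ := isFinLocFreeOfRank_strictTransform F hft U hU r hfree b hb G π hG
  haveI := hGq
  haveI := hG.1
  exact ⟨hGfree, isFP_kernel π (isFP_pullback b F hF) r hGfree,
    isZero_kernel_restrict F hft U r hfree b hb G π hG⟩

end Groth.Agent.Helper18Strict
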