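import Mathlib
import Groth.Agent.Lib.Helper18Strict7
import Groth.Prelude.Def_Pic
import Groth.Agent.Lib.Helper20OmegaAff
import Groth.Agent.Lib.Helper20LocFree

set_option autoImplicit false
set_option linter.style.haveILetI false
universe u
open CategoryTheory CategoryTheory.Limits AlgebraicGeometry TopologicalSpace Opposite
open Groth.Agent.Lib.Helper2.FPAff Groth.Agent.Helper18Fitt Groth.Agent.Helper18FittSh
open Groth.Agent.Helper18Strict

namespace Groth.Agent.Helper18Cart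

variable {X : Scheme.{u}} (I : X.IdealSheafData)

/-- sections of the structure sheaf module are functions (linearly). -/
noncomputable def strEquiv (X : Scheme.{u}) (V : X.Opens) :
    Γ(Coh.structureModule X, V) ≃ₗ[Γ(X, V)] Γ(X, V) where
  toFun x := x
  invFun x := x
  map_add' _ _ := rfl
  map_smul' _ _ := rfl
  left_inv _ := rfl
  right_inv _ := rfl

/-- sections of the ideal sheaf module over an affine open are the ideal. -/
theorem nonempty_idealMod_sections_equiv (V : X.affineOpens) :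
    Nonempty (Γ(ClSub.idealMod I, V.1) ≃ₗ[Γ(X, V.1)] I.ideal V) := by
  obtain ⟨ε⟩ := nonempty_kernel_sections_equiv (ClSub.toSubscheme I) V.1
  have h : (LinearMap.ker (appₗ (ClSub.toSubscheme I) V.1)).map (strEquiv X V.1).toLinearMap =
      I.ideal V := by
    ext x
    rw [← I.ker_subschemeι_app V, RingHom.mem_ker]
    constructor
    · rintro ⟨y, hy, rfl⟩
      exact hy
    · intro hx
      exact ⟨(strEquiv X V.1).symm x, hx, rfl⟩
  exact ⟨ε.trans (((strEquiv X V.1).submoduleMap _).trans (LinearEquiv.ofEq _ _ h))⟩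


open Groth.Agent.Lib.Helper20.LocFree Groth.Agent.Lib.Helper20.OmegaAff in
theorem isInvertible_of_isEffCartier (hI : BlowUp.IsEffCartierIdeal I) :
    PicF.IsInvertible (ClSub.idealMod I) := by
  intro x
  obtain ⟨V, hxV, f, hf0, hf⟩ := hI x
  obtain ⟨ε⟩ := nonempty_idealMod_sections_equiv I V
  let g : Γ(X, V.1) →ₗ[Γ(X, V.1)] I.ideal V :=
    (LinearMap.toSpanSingleton Γ(X, V.1) Γ(X, V.1) f).codRestrict (I.ideal V) (fun r => by
      rw [hf]
      exact Ideal.mem_span_singleton'.mpr ⟨r, rfl⟩)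
  have hg : Function.Bijective g := by
    constructor
    · rw [injective_iff_map_eq_zero]
      intro r hr
      have h1 : r * f = 0 := congrArg Subtype.val hr
      exact (mem_nonZeroDivisors_iff_right.mp hf0) r h1
    · rintro ⟨y, hy⟩
      rw [hf] at hy
      obtain ⟨r, rfl⟩ := Ideal.mem_span_singleton'.mp hy
      exact ⟨r, Subtype.ext rfl⟩
  let e1 : Γ(X, V.1) ≃ₗ[Γ(X, V.1)] I.ideal V := LinearEquiv.ofBijective g hg
  let e2 : Γ(ClSub.idealMod I, V.1) ≃ₗ[Γ(X, V.1)] (Fin 1 → Γ(X, V.1)) :=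
    ε.trans (e1.symm.trans (LinearEquiv.funUnique (Fin 1) Γ(X, V.1) Γ(X, V.1)).symm)
  let bs : Module.Basis (Fin 1) Γ(X, V.1) Γ(ClSub.idealMod I, V.1) := Module.Basis.ofEquivFun e2
  exact ⟨V.1, hxV, ⟨restrictIsoFreeMod (ClSub.idealMod I) V.2 bs ≪≫
    coproductUniqueIso (fun _ : Fin 1 => Coh.structureModule (V.1 : Scheme.{u}))⟩⟩


open Groth.Agent.Lib.Helper20.OmegaAff in
theorem isEffCartier_of_isInvertible (h : PicF.IsInvertible (ClSub.idealMod I)) :
    BlowUp.IsEffCartierIdeal I := by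
  intro x
  obtain ⟨U, hxU, ⟨e⟩⟩ := h x
  let e' : (ClSub.idealMod I).restrict U.ι ≅ FlatMod.freeMod (↑U) 1 :=
    e ≪≫ (coproductUniqueIso (fun _ : Fin 1 => Coh.structureModule (U : Scheme.{u}))).symm
  obtain ⟨W, hW, hxW, ⟨bs⟩⟩ :=
    exists_affine_basis_of_restrict_iso_freeMod (ClSub.idealMod I) U.ι e' ⟨x, hxU⟩
  obtain ⟨ε⟩ := nonempty_idealMod_sections_equiv I ⟨W, hW⟩
  have hm : ∀ m : Γ(ClSub.idealMod I, W), m = bs.repr m 0 • bs 0 := by
    intro m
    conv_lhs => rw [← bs.sum_repr m]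
    simp
  refine ⟨⟨W, hW⟩, hxW, (ε (bs 0) : Γ(X, W)), ?_, ?_⟩
  · rw [mem_nonZeroDivisors_iff_right]
    intro r hr
    have h1 : ε (r • bs 0) = 0 := by
      rw [map_smul]
      exact Subtype.ext hr
    have h2 : r • bs 0 = 0 := ε.map_eq_zero_iff.mp h1
    have h3 := congrArg (fun m => bs.repr m 0) h2
    simpa using h3
  · apply le_antisymm
    · intro y hy
      obtain ⟨m, hmy⟩ := ε.surjective ⟨y, hy⟩
      rw [Ideal.mem_span_singleton']
      refine ⟨bs.repr m 0, ?_⟩
      have h1 : ε (bs.repr m 0 • bs 0) = ⟨y, hy⟩ := by rw [← hm m]; exact hmy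
      rw [map_smul] at h1
      exact congrArg Subtype.val h1
    · rw [Ideal.span_le, Set.singleton_subset_iff]
      exact (ε (bs 0)).2

theorem main_S8914 {S : Scheme.{u}} (𝓘 : S.IdealSheafData) :
    PicF.IsInvertible (ClSub.idealMod 𝓘) ↔ BlowUp.IsEffCartierIdeal 𝓘 :=
  ⟨isEffCartier_of_isInvertible 𝓘, isInvertible_of_isEffCartier 𝓘⟩

end Groth.Agent.Helper18Cart
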