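import Mathlib
import Groth.Prelude.Def_Mor2
import Groth.Prelude.Def_FlatMod2
import Groth.Agent.Lib.Helper18FittSh3
import Groth.Agent.Lib.Helper18Cart1
import Groth.Agent.Lib.Helper2LocFree
import Groth.Agent.Lib.Helper2FinPushFP
import Groth.Agent.Lib.Helper23QCohLocal
import Groth.Agent.Lib.Helper20OmegaAff

set_option autoImplicit false
set_option linter.style.haveILetI false
universe u
open CategoryTheory CategoryTheory.Limits AlgebraicGeometry TopologicalSpace Opposite

namespace Groth.Agent.Helper18FinFlat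

variable {X S : Scheme.{u}} (f : X ⟶ S)

/-- sections of `f_* O_X` over `W` are the functions on `f⁻¹ W`, linearly over `Γ(S, W)`. -/
noncomputable def pushEquiv (W : S.Opens) :
    letI : Algebra Γ(S, W) Γ(X, f ⁻¹ᵁ W) := (f.app W).hom.toAlgebra
    Γ((Scheme.Modules.pushforward f).obj (Coh.structureModule X), W) ≃ₗ[Γ(S, W)] Γ(X, f ⁻¹ᵁ W) :=
  letI : Algebra Γ(S, W) Γ(X, f ⁻¹ᵁ W) := (f.app W).hom.toAlgebra
  { toFun := fun x => x
    invFun := fun x => x
    map_add' := fun _ _ => rfl
    map_smul' := fun _ _ => rfl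
    left_inv := fun _ => rfl
    right_inv := fun _ => rfl }

theorem ringHom_props_of_basis {W : S.Opens} {n : ℕ}
    (b : Module.Basis (Fin n) Γ(S, W)
      Γ((Scheme.Modules.pushforward f).obj (Coh.structureModule X), W)) :
    (f.app W).hom.Finite ∧ (f.app W).hom.Flat ∧ (f.app W).hom.FinitePresentation := by
  letI : Algebra Γ(S, W) Γ(X, f ⁻¹ᵁ W) := (f.app W).hom.toAlgebra
  let b' : Module.Basis (Fin n) Γ(S, W) Γ(X, f ⁻¹ᵁ W) := b.map (pushEquiv f W)
  haveI : Module.Finite Γ(S, W) Γ(X, f ⁻¹ᵁ W) := Module.Finite.of_basis b'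
  haveI : Module.Free Γ(S, W) Γ(X, f ⁻¹ᵁ W) := Module.Free.of_basis b'
  haveI : Module.FinitePresentation Γ(S, W) Γ(X, f ⁻¹ᵁ W) :=
    Module.finitePresentation_of_projective _ _
  refine ⟨?_, ?_, ?_⟩
  · change Module.Finite Γ(S, W) Γ(X, f ⁻¹ᵁ W)
    infer_instance
  · change Module.Flat Γ(S, W) Γ(X, f ⁻¹ᵁ W)
    infer_instance
  · change Algebra.FinitePresentation Γ(S, W) Γ(X, f ⁻¹ᵁ W)
    infer_instance

set_option backward.isDefEq.respectTransparency false in
theorem appTop_restrict_iff {Q : ∀ {R T : Type u} [CommRing R] [CommRing T], (R →+* T) → Prop}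
    (hQ : RingHom.RespectsIso @Q) (W : S.Opens) :
    Q ((f ∣_ W).appTop).hom ↔ Q (f.app W).hom := by
  rw [morphismRestrict_appTop, CommRingCat.hom_comp, hQ.cancel_right_isIso]
  have : ∀ (V : S.Opens), V = W → (Q (f.app V).hom ↔ Q (f.app W).hom) := by
    rintro V rfl; rfl
  exact this _ (Scheme.Opens.ι_image_top W)

set_option backward.isDefEq.respectTransparency false in
open Groth.Agent.Lib.Helper23.QCohLocal Groth.Agent.Helper18FittSh in
theorem isFinLocFree_of_pushforward [IsAffineHom f]
    (h : FlatMod.IsFinLocFree ((Scheme.Modules.pushforward f).obj (Coh.structureModule X))) :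
    Mor2.IsFinLocFree f := by
  haveI : ((Scheme.Modules.pushforward f).obj (Coh.structureModule X)).IsQuasicoherent :=
    isQuasicoherent_pushforward f _
  have key : ∀ s : S, ∃ (W : S.Opens) (_ : IsAffineOpen W), s ∈ W ∧ (f.app W).hom.Finite ∧
      (f.app W).hom.Flat ∧ (f.app W).hom.FinitePresentation := by
    intro s
    obtain ⟨U, n, hsU, ⟨e⟩⟩ := h s
    obtain ⟨W, hW, hsW, ⟨b⟩⟩ := exists_affine_basis_of_restrict_iso_freeMod _ U.ι e ⟨s, hsU⟩
    exact ⟨W, hW, hsW, ringHom_props_of_basis f b⟩
  choose W hW hsW hfin hflat hfp using key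
  have hcov : ⨆ s, W s = ⊤ := by
    rw [eq_top_iff]
    intro s _
    exact Opens.mem_iSup.2 ⟨s, hsW s⟩
  have haff : ∀ s, IsAffine ((f ⁻¹ᵁ W s : X.Opens) : Scheme.{u}) := fun s => (hW s).preimage f
  have haff' : ∀ s, IsAffine ((W s : S.Opens) : Scheme.{u}) := fun s => hW s
  refine ⟨?_, ?_, ?_⟩
  · rw [HasAffineProperty.iff_of_iSup_eq_top (P := @IsFinite) (fun s => ⟨W s, hW s⟩) hcov]
    intro s
    refine ⟨haff s, ?_⟩
    exact (appTop_restrict_iff f RingHom.finite_respectsIso (W s)).2 (hfin s)
  · rw [IsZariskiLocalAtTarget.iff_of_iSup_eq_top (P := @Flat) W hcov]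
    intro s
    haveI := haff s
    haveI := haff' s
    rw [HasRingHomProperty.iff_of_isAffine (P := @Flat)]
    exact (appTop_restrict_iff f RingHom.Flat.respectsIso (W s)).2 (hflat s)
  · rw [IsZariskiLocalAtTarget.iff_of_iSup_eq_top (P := @LocallyOfFinitePresentation) W hcov]
    intro s
    haveI := haff s
    haveI := haff' s
    rw [HasRingHomProperty.iff_of_isAffine (P := @LocallyOfFinitePresentation)]
    exact (appTop_restrict_iff f RingHom.finitePresentation_respectsIso (W s)).2 (hfp s)

open Groth.Agent.Lib.Helper2.FinPushFP Groth.Agent.Helper18Cart in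
theorem isFinitePresentation_structureModule (X : Scheme.{u}) :
    SheafOfModules.IsFinitePresentation (R := X.ringCatSheaf) (Coh.structureModule X) := by
  refine isFinitePresentation_of_finitePresentation_sections _ (fun V : X.affineOpens => V.1)
    (iSup_affineOpens_eq_top X) (fun V => V.2) (fun V => ?_)
  exact Module.FinitePresentation.of_equiv (strEquiv X V.1).symm

open Groth.Agent.Lib.Helper23.QCohLocal Groth.Agent.Lib.Helper2.FinPushFP
  Groth.Agent.Lib.Helper2.LocFree in
theorem pushforward_isFinLocFree (hf : Mor2.IsFinLocFree f) :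
    FlatMod.IsFinLocFree ((Scheme.Modules.pushforward f).obj (Coh.structureModule X)) := by
  obtain ⟨h1, h2, h3⟩ := hf
  haveI := h1
  haveI := h2
  haveI := h3
  haveI : ((Scheme.Modules.pushforward f).obj (Coh.structureModule X)).IsQuasicoherent :=
    isQuasicoherent_pushforward f _
  haveI : SheafOfModules.IsFinitePresentation (R := X.ringCatSheaf) (Coh.structureModule X) :=
    isFinitePresentation_structureModule X
  haveI : SheafOfModules.IsFinitePresentation (R := S.ringCatSheaf)
      ((Scheme.Modules.pushforward f).obj (Coh.structureModule X)) :=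
    (isFinitePresentation_pushforward_iff f _).1 inferInstance
  intro s
  obtain ⟨W, hW, hsW, -⟩ := exists_isAffineOpen_mem_and_subset (x := s) (U := ⊤) trivial
  have hflat : Module.Flat Γ(S, W)
      Γ((Scheme.Modules.pushforward f).obj (Coh.structureModule X), W) := by
    letI : Algebra Γ(S, W) Γ(X, f ⁻¹ᵁ W) := (f.app W).hom.toAlgebra
    haveI : Module.Flat Γ(S, W) Γ(X, f ⁻¹ᵁ W) := by
      have := f.flat_appLE hW (hW.preimage f) le_rfl
      rw [← Scheme.Hom.app_eq_appLE] at this
      exact this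
    exact Module.Flat.of_linearEquiv (pushEquiv f W)
  obtain ⟨D, m, hsD, hD⟩ := exists_restrict_iso_freeMod_of_isFlatAt _ s
    (isFlatAt_of_flat_sections _ hW hflat s hsW)
  exact ⟨D, m, hsD, hD⟩

theorem main_S9716 :
    (IsAffineHom f ∧
      FlatMod.IsFinLocFree ((Scheme.Modules.pushforward f).obj (Coh.structureModule X))) ↔
      Mor2.IsFinLocFree f := by
  constructor
  · rintro ⟨h1, h2⟩
    exact isFinLocFree_of_pushforward f h2
  · intro h
    haveI : IsFinite f := h.1
    exact ⟨inferInstance, pushforward_isFinLocFree f h⟩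

end Groth.Agent.Helper18FinFlat
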