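import Mathlib
import Groth.Agent.Lib.Helper18FinFlat1

set_option autoImplicit false
set_option linter.style.haveILetI false
universe u
open CategoryTheory CategoryTheory.Limits AlgebraicGeometry TopologicalSpace Opposite

namespace Groth.Agent.Helper18FinFlat

variable {X S : Scheme.{u}} (f : X ⟶ S)

/-- finite flat of constant rank `d`. -/
def RankQ (d : ℕ) {R T : Type u} [CommRing R] [CommRing T] (φ : R →+* T) : Prop :=
  φ.Finite ∧ φ.Flat ∧ ∀ p, φ.finrank p = d

theorem rankQ_respectsIso (d : ℕ) : RingHom.RespectsIso (@RankQ d) := by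
  constructor
  · intro R T T' _ _ _ φ e ⟨h1, h2, h3⟩
    refine ⟨RingHom.finite_respectsIso.1 φ e h1, RingHom.Flat.respectsIso.1 φ e h2, fun p => ?_⟩
    rw [← h3 p]
    exact RingHom.finrank_comp_left_of_bijective φ e.toRingHom e.bijective h1 h2 p
  · intro R T T' _ _ _ φ e ⟨h1, h2, h3⟩
    refine ⟨RingHom.finite_respectsIso.2 φ e h1, RingHom.Flat.respectsIso.2 φ e h2, fun p => ?_⟩
    rw [← h3 (PrimeSpectrum.comap e.symm.toRingHom p)]
    refine RingHom.finrank_comp_right_of_bijective e.toRingHom φ e.bijective h1 h2 p _ ?_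
    ext x
    simp

set_option backward.isDefEq.respectTransparency false in
theorem finrank_eq_of_isAffine' {X' S' : Scheme.{u}} (g : X' ⟶ S') [IsAffine X'] [IsAffine S']
    [IsFinite g] [Flat g] (y : S') :
    g.finrank y = g.appTop.hom.finrank (S'.isoSpec.hom y) := by
  have hpb : IsPullback X'.isoSpec.hom g (Spec.map g.appTop) S'.isoSpec.hom :=
    IsPullback.of_horiz_isIso ⟨Scheme.isoSpec_hom_naturality g⟩
  have hf₁ : g.appTop.hom.Finite := g.finite_appTop
  have hf₂ : g.appTop.hom.Flat := g.flat_appTop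
  haveI : IsFinite (Spec.map g.appTop) := (IsFinite.SpecMap_iff _).2 hf₁
  haveI : Flat (Spec.map g.appTop) := Flat.SpecMap_iff.2 hf₂
  rw [Scheme.Hom.finrank_of_isPullback _ _ _ _ hpb y, Scheme.Hom.finrank_SpecMap_eq_finrank hf₁ hf₂]

set_option backward.isDefEq.respectTransparency false in
theorem finrank_eq_of_rankQ [IsFinite f] [Flat f] {W : S.Opens} (hW : IsAffineOpen W) (s : S)
    (hs : s ∈ W) (d : ℕ) (h : RankQ d (f.app W).hom) : f.finrank s = d := by
  haveI : IsAffine ((f ⁻¹ᵁ W : X.Opens) : Scheme.{u}) := hW.preimage f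
  haveI : IsAffine ((W : S.Opens) : Scheme.{u}) := hW
  have h1 := Scheme.Hom.finrank_of_isPullback _ _ _ _ (isPullback_morphismRestrict f W).flip ⟨s, hs⟩
  change Scheme.Hom.finrank (f ∣_ W) ⟨s, hs⟩ = f.finrank s at h1
  rw [← h1, finrank_eq_of_isAffine']
  exact ((appTop_restrict_iff f (rankQ_respectsIso d) W).2 h).2.2 _

theorem rankQ_of_basis {W : S.Opens} [Nontrivial Γ(S, W)] {n : ℕ}
    (b : Module.Basis (Fin n) Γ(S, W)
      Γ((Scheme.Modules.pushforward f).obj (Coh.structureModule X), W)) :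
    RankQ n (f.app W).hom := by
  obtain ⟨h1, h2, -⟩ := ringHom_props_of_basis f b
  refine ⟨h1, h2, fun p => ?_⟩
  letI : Algebra Γ(S, W) Γ(X, f ⁻¹ᵁ W) := (f.app W).hom.toAlgebra
  let b' : Module.Basis (Fin n) Γ(S, W) Γ(X, f ⁻¹ᵁ W) := b.map (pushEquiv f W)
  haveI : Module.Free Γ(S, W) Γ(X, f ⁻¹ᵁ W) := Module.Free.of_basis b'
  change Module.rankAtStalk (R := Γ(S, W)) Γ(X, f ⁻¹ᵁ W) p = n
  rw [Module.rankAtStalk_eq_finrank_of_free, Pi.natCast_def, Module.finrank_eq_card_basis b',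
    Fintype.card_fin]
  rfl

open Groth.Agent.Lib.Helper23.QCohLocal Groth.Agent.Helper18FittSh in
theorem main_S19692 (d : ℕ) :
    Mor2.IsFinLocFreeOfDeg d f ↔
      IsAffineHom f ∧ FlatMod.IsFinLocFreeOfRank d
        ((Scheme.Modules.pushforward f).obj (Coh.structureModule X)) := by
  constructor
  · rintro ⟨h, hd⟩
    haveI : IsFinite f := h.1
    haveI : Flat f := h.2.1
    haveI : ((Scheme.Modules.pushforward f).obj (Coh.structureModule X)).IsQuasicoherent :=
      isQuasicoherent_pushforward f _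
    refine ⟨inferInstance, fun s => ?_⟩
    obtain ⟨U, n, hsU, ⟨e⟩⟩ := pushforward_isFinLocFree f h s
    obtain ⟨W, hW, hsW, ⟨b⟩⟩ := exists_affine_basis_of_restrict_iso_freeMod _ U.ι e ⟨s, hsU⟩
    haveI : Nonempty W := ⟨⟨s, hsW⟩⟩
    haveI : Nontrivial Γ(S, W) := inferInstance
    have h1 := finrank_eq_of_rankQ f hW s hsW n (rankQ_of_basis f b)
    rw [hd s] at h1
    subst h1
    exact ⟨U, hsU, ⟨e⟩⟩
  · rintro ⟨h1, h2⟩
    haveI : ((Scheme.Modules.pushforward f).obj (Coh.structureModule X)).IsQuasicoherent :=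
      isQuasicoherent_pushforward f _
    have h3 : Mor2.IsFinLocFree f := isFinLocFree_of_pushforward f (fun s => by
      obtain ⟨U, hsU, e⟩ := h2 s
      exact ⟨U, d, hsU, e⟩)
    haveI : IsFinite f := h3.1
    haveI : Flat f := h3.2.1
    refine ⟨h3, fun s => ?_⟩
    obtain ⟨U, hsU, ⟨e⟩⟩ := h2 s
    obtain ⟨W, hW, hsW, ⟨b⟩⟩ := exists_affine_basis_of_restrict_iso_freeMod _ U.ι e ⟨s, hsU⟩
    haveI : Nonempty W := ⟨⟨s, hsW⟩⟩
    haveI : Nontrivial Γ(S, W) := inferInstance
    exact finrank_eq_of_rankQ f hW s hsW d (rankQ_of_basis f b)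

end Groth.Agent.Helper18FinFlat
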