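import Mathlib
import Groth.Agent.Lib.Helper18FinFlat2
import Groth.Prelude.Def_RelSpec
import Groth.Agent.S8255

set_option autoImplicit false
set_option linter.style.haveILetI false
universe u
open CategoryTheory CategoryTheory.Limits AlgebraicGeometry TopologicalSpace Opposite

namespace Groth.Agent.Helper18FinFlat

variable {X S : Scheme.{u}} (f : X ⟶ S)

open Groth.Agent.Lib.Helper2.RankLoc in
attribute [local instance] RingHomInvPair.of_ringEquiv RingHomInvPair.of_ringEquiv_symm in
/-- version of `exists_affine_basis_of_restrict_iso_freeMod` without quasi-coherence. -/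
theorem exists_affine_basis_of_restrict_iso_freeMod' (M : X.Modules) {Y : Scheme.{u}} (f : Y ⟶ X)
    [IsOpenImmersion f]
    {n : ℕ} (e : M.restrict f ≅ FlatMod.freeMod Y n) (y : Y) :
    ∃ (W : X.Opens) (_ : IsAffineOpen W), f y ∈ W ∧
      Nonempty (Module.Basis (Fin n) Γ(X, W) Γ(M, W)) := by
  obtain ⟨V, hV, hyV, -⟩ := exists_isAffineOpen_mem_and_subset (x := y) (U := ⊤) trivial
  obtain ⟨E⟩ := nonempty_sections_equiv_of_iso_freeMod (M.restrict f) e hV
  haveI : Nonempty V := ⟨⟨y, hyV⟩⟩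
  haveI : Nontrivial Γ(Y, V) := inferInstance
  have hV' : IsAffineOpen (f ''ᵁ V) := hV.image_of_isOpenImmersion f
  have hxD : f y ∈ f ''ᵁ V := ⟨y, hyV, rfl⟩
  haveI hfreeY : Module.Free Γ(Y, V) Γ(M.restrict f, V) := Module.Free.of_equiv E.symm
  have hrkY : Module.finrank Γ(Y, V) Γ(M.restrict f, V) = n := by
    rw [E.finrank_eq, Module.finrank_finsupp_self, Fintype.card_fin]
  let σ : Γ(Y, V) ≃+* Γ(X, f ''ᵁ V) := (f.appIso V).symm.commRingCatIsoToRingEquiv
  let j : Γ(M.restrict f, V) ≃+ Γ(M, f ''ᵁ V) := (M.restrictAppIso f V).addCommGroupIsoToAddEquiv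
  have hc : ∀ (r : Γ(Y, V)) (m : Γ(M.restrict f, V)), j (r • m) = σ r • j m :=
    fun r m => Scheme.Modules.smul_restrictAppIso_hom_apply f M V r m
  haveI hfreeX : Module.Free Γ(X, f ''ᵁ V) Γ(M, f ''ᵁ V) := by
    refine (Module.Free.iff_of_equiv (σ := (σ : Γ(Y, V) →+* Γ(X, f ''ᵁ V)))
      (σ' := (σ.symm : Γ(X, f ''ᵁ V) →+* Γ(Y, V))) ?_).1 hfreeY
    exact { j with map_smul' := hc }
  have hrkX : Module.finrank Γ(X, f ''ᵁ V) Γ(M, f ''ᵁ V) = n := by
    rw [← hrkY]
    exact (congrArg Cardinal.toNat (rank_eq_of_equiv_equiv σ j σ.bijective hc)).symm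
  haveI : Nonempty (f ''ᵁ V : X.Opens) := ⟨⟨f y, hxD⟩⟩
  haveI : Nontrivial Γ(X, f ''ᵁ V) := inferInstance
  haveI : Module.Finite Γ(Y, V) Γ(M.restrict f, V) := Module.Finite.equiv E.symm
  haveI : Module.Finite Γ(X, f ''ᵁ V) Γ(M, f ''ᵁ V) := by
    let J : Γ(M.restrict f, V) →ₛₗ[(σ : Γ(Y, V) →+* Γ(X, f ''ᵁ V))] Γ(M, f ''ᵁ V) :=
      { j with map_smul' := hc }
    exact Module.Finite.of_surjective J j.surjective
  exact ⟨f ''ᵁ V, hV', hxD, ⟨Module.finBasisOfFinrankEq _ _ hrkX⟩⟩

/-- a ring map making the target free of rank `n` is finite flat of constant rank `n` and finitely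
presented. -/
theorem rankQ_of_basis' {R T : Type u} [CommRing R] [CommRing T] [Nontrivial R] (φ : R →+* T)
    {n : ℕ} (b : letI := φ.toAlgebra; Module.Basis (Fin n) R T) :
    RankQ n φ ∧ φ.FinitePresentation := by
  letI := φ.toAlgebra
  haveI : Module.Finite R T := Module.Finite.of_basis b
  haveI : Module.Free R T := Module.Free.of_basis b
  haveI : Module.FinitePresentation R T := Module.finitePresentation_of_projective _ _
  refine ⟨⟨?_, ?_, fun p => ?_⟩, ?_⟩
  · change Module.Finite R T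
    infer_instance
  · change Module.Flat R T
    infer_instance
  · change Module.rankAtStalk (R := R) T p = n
    rw [Module.rankAtStalk_eq_finrank_of_free, Pi.natCast_def, Module.finrank_eq_card_basis b,
      Fintype.card_fin]
    rfl
  · change Algebra.FinitePresentation R T
    infer_instance

set_option backward.isDefEq.respectTransparency false in
/-- a morphism which over an affine open cover of the target is given by finite flat finitely
presented ring maps of rank `d` is a cover of degree `d`. -/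
theorem isFinLocFreeOfDeg_of_forall_exists_affine [IsAffineHom f] (d : ℕ)
    (key : ∀ s : S, ∃ (W : S.Opens) (_ : IsAffineOpen W), s ∈ W ∧ RankQ d (f.app W).hom ∧
      (f.app W).hom.FinitePresentation) :
    Mor2.IsFinLocFreeOfDeg d f := by
  choose W hW hsW hQ hfp using key
  have hcov : ⨆ s, W s = ⊤ := by
    rw [eq_top_iff]
    intro s _
    exact Opens.mem_iSup.2 ⟨s, hsW s⟩
  have haff : ∀ s, IsAffine ((f ⁻¹ᵁ W s : X.Opens) : Scheme.{u}) := fun s => (hW s).preimage f
  have haff' : ∀ s, IsAffine ((W s : S.Opens) : Scheme.{u}) := fun s => hW s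
  have h3 : Mor2.IsFinLocFree f := by
    refine ⟨?_, ?_, ?_⟩
    · rw [HasAffineProperty.iff_of_iSup_eq_top (P := @IsFinite) (fun s => ⟨W s, hW s⟩) hcov]
      intro s
      refine ⟨haff s, ?_⟩
      exact (appTop_restrict_iff f RingHom.finite_respectsIso (W s)).2 (hQ s).1
    · rw [IsZariskiLocalAtTarget.iff_of_iSup_eq_top (P := @Flat) W hcov]
      intro s
      haveI := haff s
      haveI := haff' s
      rw [HasRingHomProperty.iff_of_isAffine (P := @Flat)]
      exact (appTop_restrict_iff f RingHom.Flat.respectsIso (W s)).2 (hQ s).2.1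
    · rw [IsZariskiLocalAtTarget.iff_of_iSup_eq_top (P := @LocallyOfFinitePresentation) W hcov]
      intro s
      haveI := haff s
      haveI := haff' s
      rw [HasRingHomProperty.iff_of_isAffine (P := @LocallyOfFinitePresentation)]
      exact (appTop_restrict_iff f RingHom.finitePresentation_respectsIso (W s)).2 (hfp s)
  haveI : IsFinite f := h3.1
  haveI : Flat f := h3.2.1
  exact ⟨h3, fun s => finrank_eq_of_rankQ f (hW s) s (hsW s) d (hQ s)⟩

theorem main_S19693 {X : Scheme.{u}} (A : RelSpec.QCAlg X) (d : ℕ)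
    (hA : FlatMod.IsFinLocFreeOfRank d A.toModule) : Mor2.IsFinLocFreeOfDeg d A.π := by
  refine isFinLocFreeOfDeg_of_forall_exists_affine A.π d (fun s => ?_)
  obtain ⟨U, hsU, ⟨e⟩⟩ := hA s
  obtain ⟨W, hW, hsW, ⟨b⟩⟩ := exists_affine_basis_of_restrict_iso_freeMod' _ U.ι e ⟨s, hsU⟩
  haveI : Nonempty W := ⟨⟨s, hsW⟩⟩
  haveI : Nontrivial Γ(X, W) := inferInstance
  refine ⟨W, hW, hsW, ?_⟩
  have h1 : RankQ d (A.str.app (op W)).hom ∧ (A.str.app (op W)).hom.FinitePresentation :=
    rankQ_of_basis' (A.str.app (op W)).hom b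
  haveI : IsIso (A.gammaAff W hW) := by
    rw [← A.gammaMap_app W hW]
    haveI := Groth.Agent.S8255.result A
    infer_instance
  have h2 : A.π.app W = A.str.app (op W) ≫ inv (A.gammaAff W hW) := by
    rw [← A.π_app_gammaAff W hW, Category.assoc, IsIso.hom_inv_id, Category.comp_id]
  rw [h2, CommRingCat.hom_comp]
  exact ⟨(rankQ_respectsIso d).cancel_right_isIso _ _ |>.2 h1.1,
    RingHom.finitePresentation_respectsIso.cancel_right_isIso _ _ |>.2 h1.2⟩

end Groth.Agent.Helper18FinFlat
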