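import Mathlib

set_option autoImplicit false
set_option linter.style.haveILetI false
universe u
open CategoryTheory CategoryTheory.Limits AlgebraicGeometry TopologicalSpace Opposite

namespace Groth.Agent.Helper18Trace

section alg

variable {R R' S S' : Type u} [CommRing R] [CommRing R'] [CommRing S] [CommRing S']
  (φ : R →+* S) (φ' : R' →+* S') (ρ : R →+* R') (σ : S →+* S')

/-- a basis localizes. -/
theorem nonempty_basis_localization (hcomm : σ.comp φ = φ'.comp ρ) (r : R)
    (h1 : letI := ρ.toAlgebra; IsLocalization.Away r R')
    (h2 : letI := σ.toAlgebra; IsLocalization.Away (φ r) S') {n : ℕ}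
    (b : letI := φ.toAlgebra; Module.Basis (Fin n) R S) :
    letI := φ'.toAlgebra; Nonempty (Module.Basis (Fin n) R' S') := by
  letI i1 : Algebra R S := φ.toAlgebra
  letI i2 : Algebra R' S' := φ'.toAlgebra
  letI i3 : Algebra R R' := ρ.toAlgebra
  letI i4 : Algebra S S' := σ.toAlgebra
  letI i5 : Algebra R S' := (σ.comp φ).toAlgebra
  haveI : IsScalarTower R R' S' := IsScalarTower.of_algebraMap_eq (fun x => by
    change σ (φ x) = φ' (ρ x)
    exact congr($hcomm x))
  haveI : IsScalarTower R S S' := IsScalarTower.of_algebraMap_eq (fun x => rfl)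
  haveI : IsLocalization (Submonoid.powers r) R' := h1
  haveI : IsLocalization (Algebra.algebraMapSubmonoid S (Submonoid.powers r)) S' := by
    have : Algebra.algebraMapSubmonoid S (Submonoid.powers r) = Submonoid.powers (φ r) :=
      Submonoid.map_powers _ _
    rw [this]
    exact h2
  exact ⟨b.localizationLocalization R' (Submonoid.powers r) S'⟩

/-- the trace commutes with localization (ring hom form). -/
theorem trace_localization' (hcomm : σ.comp φ = φ'.comp ρ) (r : R)
    (h1 : letI := ρ.toAlgebra; IsLocalization.Away r R')
    (h2 : letI := σ.toAlgebra; IsLocalization.Away (φ r) S')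
    (hfree : letI := φ.toAlgebra; Module.Free R S) (hfin : letI := φ.toAlgebra; Module.Finite R S)
    (a : S) :
    letI := φ.toAlgebra; letI := φ'.toAlgebra
    Algebra.trace R' S' (σ a) = ρ (Algebra.trace R S a) := by
  letI i1 : Algebra R S := φ.toAlgebra
  letI i2 : Algebra R' S' := φ'.toAlgebra
  letI i3 : Algebra R R' := ρ.toAlgebra
  letI i4 : Algebra S S' := σ.toAlgebra
  letI i5 : Algebra R S' := (σ.comp φ).toAlgebra
  haveI : IsScalarTower R R' S' := IsScalarTower.of_algebraMap_eq (fun x => by
    change σ (φ x) = φ' (ρ x)
    exact congr($hcomm x))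
  haveI : IsScalarTower R S S' := IsScalarTower.of_algebraMap_eq (fun x => rfl)
  haveI : IsLocalization (Submonoid.powers r) R' := h1
  haveI : IsLocalization (Algebra.algebraMapSubmonoid S (Submonoid.powers r)) S' := by
    have : Algebra.algebraMapSubmonoid S (Submonoid.powers r) = Submonoid.powers (φ r) :=
      Submonoid.map_powers _ _
    rw [this]
    exact h2
  haveI := hfree
  haveI := hfin
  exact Algebra.trace_localization R (Submonoid.powers r) a

/-- the norm commutes with localization (ring hom form). -/
theorem norm_localization' (hcomm : σ.comp φ = φ'.comp ρ) (r : R)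
    (h1 : letI := ρ.toAlgebra; IsLocalization.Away r R')
    (h2 : letI := σ.toAlgebra; IsLocalization.Away (φ r) S')
    (hfree : letI := φ.toAlgebra; Module.Free R S) (hfin : letI := φ.toAlgebra; Module.Finite R S)
    (a : S) :
    letI := φ.toAlgebra; letI := φ'.toAlgebra
    Algebra.norm R' (σ a) = ρ (Algebra.norm R a) := by
  letI i1 : Algebra R S := φ.toAlgebra
  letI i2 : Algebra R' S' := φ'.toAlgebra
  letI i3 : Algebra R R' := ρ.toAlgebra
  letI i4 : Algebra S S' := σ.toAlgebra
  letI i5 : Algebra R S' := (σ.comp φ).toAlgebra
  haveI : IsScalarTower R R' S' := IsScalarTower.of_algebraMap_eq (fun x => by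
    change σ (φ x) = φ' (ρ x)
    exact congr($hcomm x))
  haveI : IsScalarTower R S S' := IsScalarTower.of_algebraMap_eq (fun x => rfl)
  haveI : IsLocalization (Submonoid.powers r) R' := h1
  haveI : IsLocalization (Algebra.algebraMapSubmonoid S (Submonoid.powers r)) S' := by
    have : Algebra.algebraMapSubmonoid S (Submonoid.powers r) = Submonoid.powers (φ r) :=
      Submonoid.map_powers _ _
    rw [this]
    exact h2
  haveI := hfree
  haveI := hfin
  exact Algebra.norm_localization R (Submonoid.powers r) a

end alg

end Groth.Agent.Helper18Trace
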