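import Mathlib
import Groth.Agent.Lib.Helper18Trace1
import Groth.Agent.Lib.Helper18FinFlat3
import Groth.Prelude.Def_FinCov

set_option autoImplicit false
set_option linter.style.haveILetI false
universe u
open CategoryTheory CategoryTheory.Limits AlgebraicGeometry TopologicalSpace Opposite

namespace Groth.Agent.Helper18Trace

variable {X : Scheme.{u}} (A : RelSpec.QCAlg X)

/-- the algebra structure on `A(W)`. -/
abbrev alg (W : X.Opens) : Algebra Γ(X, W) (A.presheaf.obj (op W)) :=
  (A.str.app (op W)).hom.toAlgebra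

theorem str_res {V W : X.Opens} (h : V ≤ W) :
    (A.presheaf.map (homOfLE h).op).hom.comp (A.str.app (op W)).hom =
      (A.str.app (op V)).hom.comp (X.presheaf.map (homOfLE h).op).hom := by
  have := A.str.naturality (homOfLE h).op
  exact congr($(this.symm).hom)

theorem nonempty_basis_basicOpen {W : X.Opens} (hW : IsAffineOpen W) (r : Γ(X, W)) {n : ℕ}
    (b : letI := alg A W; Module.Basis (Fin n) Γ(X, W) (A.presheaf.obj (op W))) :
    letI := alg A (X.basicOpen r)
    Nonempty (Module.Basis (Fin n) Γ(X, X.basicOpen r) (A.presheaf.obj (op (X.basicOpen r)))) :=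
  nonempty_basis_localization (A.str.app (op W)).hom (A.str.app (op (X.basicOpen r))).hom
    (X.presheaf.map (homOfLE (X.basicOpen_le r)).op).hom
    (A.presheaf.map (homOfLE (X.basicOpen_le r)).op).hom (str_res A _) r
    (hW.isLocalization_basicOpen r) (A.isQC W hW r) b

theorem trace_basicOpen {W : X.Opens} (hW : IsAffineOpen W) (r : Γ(X, W))
    (hfree : letI := alg A W; Module.Free Γ(X, W) (A.presheaf.obj (op W)))
    (hfin : letI := alg A W; Module.Finite Γ(X, W) (A.presheaf.obj (op W)))
    (a : A.presheaf.obj (op W)) :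
    letI := alg A W; letI := alg A (X.basicOpen r)
    Algebra.trace Γ(X, X.basicOpen r) (A.presheaf.obj (op (X.basicOpen r)))
        ((A.presheaf.map (homOfLE (X.basicOpen_le r)).op).hom a) =
      (X.presheaf.map (homOfLE (X.basicOpen_le r)).op).hom
        (Algebra.trace Γ(X, W) (A.presheaf.obj (op W)) a) :=
  trace_localization' (A.str.app (op W)).hom (A.str.app (op (X.basicOpen r))).hom
    (X.presheaf.map (homOfLE (X.basicOpen_le r)).op).hom
    (A.presheaf.map (homOfLE (X.basicOpen_le r)).op).hom (str_res A _) r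
    (hW.isLocalization_basicOpen r) (A.isQC W hW r) hfree hfin a

theorem norm_basicOpen {W : X.Opens} (hW : IsAffineOpen W) (r : Γ(X, W))
    (hfree : letI := alg A W; Module.Free Γ(X, W) (A.presheaf.obj (op W)))
    (hfin : letI := alg A W; Module.Finite Γ(X, W) (A.presheaf.obj (op W)))
    (a : A.presheaf.obj (op W)) :
    letI := alg A W; letI := alg A (X.basicOpen r)
    Algebra.norm Γ(X, X.basicOpen r)
        ((A.presheaf.map (homOfLE (X.basicOpen_le r)).op).hom a) =
      (X.presheaf.map (homOfLE (X.basicOpen_le r)).op).hom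
        (Algebra.norm Γ(X, W) a) :=
  norm_localization' (A.str.app (op W)).hom (A.str.app (op (X.basicOpen r))).hom
    (X.presheaf.map (homOfLE (X.basicOpen_le r)).op).hom
    (A.presheaf.map (homOfLE (X.basicOpen_le r)).op).hom (str_res A _) r
    (hW.isLocalization_basicOpen r) (A.isQC W hW r) hfree hfin a

open Groth.Agent.Helper18FinFlat in
/-- good opens (affine with a finite basis) form a basis of the topology. -/
theorem exists_good {U₀ : X.Opens} {n : ℕ}
    (e : A.toModule.restrict U₀.ι ≅ FlatMod.freeMod (↑U₀ : Scheme.{u}) n) (x : X) (hx₀ : x ∈ U₀)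
    (U : X.Opens) (hx : x ∈ U) :
    ∃ W : X.Opens, IsAffineOpen W ∧ x ∈ W ∧ W ≤ U ∧
      (letI := alg A W; Nonempty (Module.Basis (Fin n) Γ(X, W) (A.presheaf.obj (op W)))) := by
  obtain ⟨W₀, hW₀, hxW₀, ⟨b⟩⟩ := exists_affine_basis_of_restrict_iso_freeMod' _ U₀.ι e ⟨x, hx₀⟩
  obtain ⟨r, hrU, hxr⟩ := hW₀.exists_basicOpen_le (V := U) ⟨x, hx⟩ hxW₀
  exact ⟨X.basicOpen r, hW₀.basicOpen r, hxr, hrU, nonempty_basis_basicOpen A hW₀ r b⟩

theorem trace_basicOpen' {W : X.Opens} (hW : IsAffineOpen W) (r : Γ(X, W)) (V : X.Opens)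
    (hV : V = X.basicOpen r) (hVW : V ≤ W)
    (hfree : letI := alg A W; Module.Free Γ(X, W) (A.presheaf.obj (op W)))
    (hfin : letI := alg A W; Module.Finite Γ(X, W) (A.presheaf.obj (op W)))
    (a : A.presheaf.obj (op W)) :
    letI := alg A W; letI := alg A V
    Algebra.trace Γ(X, V) (A.presheaf.obj (op V)) ((A.presheaf.map (homOfLE hVW).op).hom a) =
      (X.presheaf.map (homOfLE hVW).op).hom (Algebra.trace Γ(X, W) (A.presheaf.obj (op W)) a) := by
  subst hV
  exact trace_basicOpen A hW r hfree hfin a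

theorem trace_res {W W' : X.Opens} (hW : IsAffineOpen W) (hW' : IsAffineOpen W') (h : W' ≤ W)
    (hfree : letI := alg A W; Module.Free Γ(X, W) (A.presheaf.obj (op W)))
    (hfin : letI := alg A W; Module.Finite Γ(X, W) (A.presheaf.obj (op W)))
    (hfree' : letI := alg A W'; Module.Free Γ(X, W') (A.presheaf.obj (op W')))
    (hfin' : letI := alg A W'; Module.Finite Γ(X, W') (A.presheaf.obj (op W')))
    (a : A.presheaf.obj (op W)) :
    letI := alg A W; letI := alg A W'
    Algebra.trace Γ(X, W') (A.presheaf.obj (op W')) ((A.presheaf.map (homOfLE h).op).hom a) =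
      (X.presheaf.map (homOfLE h).op).hom (Algebra.trace Γ(X, W) (A.presheaf.obj (op W)) a) := by
  letI := alg A W
  letI := alg A W'
  have key : ∀ x : W', ∃ (V : X.Opens) (hVW' : V ≤ W'), x.1 ∈ V ∧
      (X.presheaf.map (homOfLE hVW').op).hom
        (Algebra.trace Γ(X, W') (A.presheaf.obj (op W')) ((A.presheaf.map (homOfLE h).op).hom a)) =
      (X.presheaf.map (homOfLE hVW').op).hom ((X.presheaf.map (homOfLE h).op).hom
        (Algebra.trace Γ(X, W) (A.presheaf.obj (op W)) a)) := by
    intro x
    obtain ⟨r, hrW', hxr⟩ := hW.exists_basicOpen_le (V := W') x (h x.2)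
    have hV' : X.basicOpen r = X.basicOpen ((X.presheaf.map (homOfLE h).op).hom r) := by
      rw [Scheme.basicOpen_res]
      exact (inf_eq_right.2 hrW').symm
    refine ⟨X.basicOpen r, hrW', hxr, ?_⟩
    have e1 := trace_basicOpen' A hW' _ (X.basicOpen r) hV' hrW' hfree' hfin'
      ((A.presheaf.map (homOfLE h).op).hom a)
    have e2 := trace_basicOpen' A hW r (X.basicOpen r) rfl (hrW'.trans h) hfree hfin a
    have e3 : (A.presheaf.map (homOfLE hrW').op).hom ((A.presheaf.map (homOfLE h).op).hom a) =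
        (A.presheaf.map (homOfLE (hrW'.trans h)).op).hom a := by
      rw [← CommRingCat.comp_apply, ← Functor.map_comp]
      rfl
    have e4 : ∀ t, (X.presheaf.map (homOfLE hrW').op).hom ((X.presheaf.map (homOfLE h).op).hom t) =
        (X.presheaf.map (homOfLE (hrW'.trans h)).op).hom t := by
      intro t
      rw [← CommRingCat.comp_apply, ← Functor.map_comp]
      rfl
    rw [← e1, e3, e2, e4]
  choose V hVW' hxV hV using key
  refine TopCat.Sheaf.eq_of_locally_eq' X.sheaf V W' (fun x => homOfLE (hVW' x)) ?_ _ _ hV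
  intro x hx
  exact Opens.mem_iSup.2 ⟨⟨x, hx⟩, hxV _⟩

end Groth.Agent.Helper18Trace
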