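import Mathlib
import Groth.Agent.Lib.Helper18Trace2

set_option autoImplicit false
set_option linter.style.haveILetI false
universe u
open CategoryTheory CategoryTheory.Limits AlgebraicGeometry TopologicalSpace Opposite

namespace Groth.Agent.Helper18Trace

variable {X : Scheme.{u}} (A : RelSpec.QCAlg X)

/-- good opens: affine, with `A(W)` finite free. -/
def IsGood (W : X.Opens) : Prop :=
  IsAffineOpen W ∧ (letI := alg A W
    Module.Free Γ(X, W) (A.presheaf.obj (op W)) ∧ Module.Finite Γ(X, W) (A.presheaf.obj (op W)))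

/-- the index type of good opens. -/
def Good : Type u := {W : X.Opens // IsGood A W}

/-- the family of good opens. -/
def goodB : Good A → Opens X := fun W => W.1

theorem isGood_of_basis {W : X.Opens} (hW : IsAffineOpen W) {n : ℕ}
    (b : letI := alg A W; Module.Basis (Fin n) Γ(X, W) (A.presheaf.obj (op W))) : IsGood A W := by
  letI := alg A W
  exact ⟨hW, Module.Free.of_basis b, Module.Finite.of_basis b⟩

theorem isBasis_good (hA : FlatMod.IsFinLocFree A.toModule) :
    Opens.IsBasis (Set.range (goodB A)) := by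
  rw [Opens.isBasis_iff_nbhd]
  intro U x hx
  obtain ⟨U₀, n, hx₀, ⟨e⟩⟩ := hA x
  obtain ⟨W, hW, hxW, hWU, ⟨b⟩⟩ := exists_good A e x hx₀ U hx
  exact ⟨W, ⟨⟨W, isGood_of_basis A hW b⟩, rfl⟩, hxW, hWU⟩

/-- the trace on a good open, as an additive map. -/
noncomputable def traceHom (W : X.Opens) : A.presheaf.obj (op W) →+ Γ(X, W) :=
  letI := alg A W
  (Algebra.trace Γ(X, W) (A.presheaf.obj (op W))).toAddMonoidHom

/-- the target sheaf of abelian groups. -/
noncomputable def strSheaf (X : Scheme.{u}) : TopCat.Sheaf AddCommGrpCat.{u} X.carrier :=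
  ⟨(Coh.structureModule X).val.presheaf, (Coh.structureModule X).isSheaf⟩

/-- the trace on good opens as a natural transformation. -/
noncomputable def traceNat :
    (inducedFunctor (goodB A)).op ⋙ A.toModule.val.presheaf ⟶
      (inducedFunctor (goodB A)).op ⋙ (strSheaf X).1 where
  app W := AddCommGrpCat.ofHom (traceHom A W.unop.1)
  naturality W W' i := by
    ext a
    have hle : W'.unop.1 ≤ W.unop.1 := leOfHom i.unop.hom
    exact trace_res A W.unop.2.1 W'.unop.2.1 hle W.unop.2.2.1 W.unop.2.2.2
      W'.unop.2.2.1 W'.unop.2.2.2 a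

/-- the trace as a morphism of abelian presheaves. -/
noncomputable def traceAb (hA : FlatMod.IsFinLocFree A.toModule) :
    A.toModule.val.presheaf ⟶ (strSheaf X).1 :=
  TopCat.Sheaf.restrictHomEquivHom _ (strSheaf X) (isBasis_good A hA) (traceNat A)

/-- the trace on sections over an arbitrary open. -/
noncomputable def traceSec (hA : FlatMod.IsFinLocFree A.toModule) (U : X.Opens) :
    A.presheaf.obj (op U) →+ Γ(X, U) :=
  ((traceAb A hA).app (op U)).hom

theorem traceSec_good (hA : FlatMod.IsFinLocFree A.toModule) {W : X.Opens} (hW : IsGood A W)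
    (a : A.presheaf.obj (op W)) :
    traceSec A hA W a = traceHom A W a := by
  have h := TopCat.Sheaf.extend_hom_app _ (strSheaf X) (isBasis_good A hA) (traceNat A) ⟨W, hW⟩
  exact congr($h a)

theorem traceSec_res (hA : FlatMod.IsFinLocFree A.toModule) {U V : X.Opens} (h : V ≤ U)
    (a : A.presheaf.obj (op U)) :
    (X.presheaf.map (homOfLE h).op).hom (traceSec A hA U a) =
      traceSec A hA V ((A.presheaf.map (homOfLE h).op).hom a) := by
  have := (traceAb A hA).naturality (homOfLE h).op
  exact (congr($this a)).symm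

theorem eq_of_good (hA : FlatMod.IsFinLocFree A.toModule) {U : X.Opens} (s t : Γ(X, U))
    (h : ∀ (W : X.Opens) (_ : IsGood A W) (hWU : W ≤ U),
      (X.presheaf.map (homOfLE hWU).op).hom s = (X.presheaf.map (homOfLE hWU).op).hom t) :
    s = t := by
  have hb : ∀ {U : Opens ↥X} {x : ↥X}, x ∈ U → ∃ U' ∈ Set.range (goodB A), x ∈ U' ∧ U' ≤ U :=
    Opens.isBasis_iff_nbhd.1 (isBasis_good A hA)
  have key : ∀ x : U, ∃ (W : X.Opens) (_ : IsGood A W) (_ : W ≤ U), x.1 ∈ W := by
    intro x
    obtain ⟨W, ⟨W', rfl⟩, hxW, hWU⟩ := hb x.2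
    exact ⟨W'.1, W'.2, hWU, hxW⟩
  choose W hW hWU hxW using key
  refine TopCat.Sheaf.eq_of_locally_eq' X.sheaf W U (fun x => homOfLE (hWU x)) ?_ _ _
    (fun x => h _ (hW x) (hWU x))
  intro x hx
  exact Opens.mem_iSup.2 ⟨⟨x, hx⟩, hxW _⟩

theorem str_res_apply {V W : X.Opens} (h : V ≤ W) (r : Γ(X, W)) :
    (A.presheaf.map (homOfLE h).op).hom ((A.str.app (op W)).hom r) =
      (A.str.app (op V)).hom ((X.presheaf.map (homOfLE h).op).hom r) :=
  congr($(str_res A h) r)

theorem traceHom_smul (W : X.Opens) (r : Γ(X, W)) (a : A.presheaf.obj (op W)) :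
    traceHom A W ((A.str.app (op W)).hom r * a) = r * traceHom A W a := by
  letI := alg A W
  exact (Algebra.trace Γ(X, W) (A.presheaf.obj (op W))).map_smul r a

theorem traceSec_smul (hA : FlatMod.IsFinLocFree A.toModule) (U : X.Opens) (r : Γ(X, U))
    (a : A.presheaf.obj (op U)) :
    traceSec A hA U ((A.str.app (op U)).hom r * a) = r * traceSec A hA U a := by
  apply eq_of_good A hA
  intro W hW hWU
  have e1 : (X.presheaf.map (homOfLE hWU).op).hom
      (traceSec A hA U ((A.str.app (op U)).hom r * a)) =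
      (X.presheaf.map (homOfLE hWU).op).hom r *
        traceHom A W ((A.presheaf.map (homOfLE hWU).op).hom a) := by
    rw [traceSec_res, map_mul (A.presheaf.map (homOfLE hWU).op).hom, str_res_apply,
      traceSec_good A hA hW, traceHom_smul]
  have e2 : (X.presheaf.map (homOfLE hWU).op).hom (r * traceSec A hA U a) =
      (X.presheaf.map (homOfLE hWU).op).hom r *
        traceHom A W ((A.presheaf.map (homOfLE hWU).op).hom a) := by
    rw [map_mul (X.presheaf.map (homOfLE hWU).op).hom, traceSec_res, traceSec_good A hA hW]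
  rw [e1, e2]

/-- the trace as a morphism of modules. -/
noncomputable def traceMod (hA : FlatMod.IsFinLocFree A.toModule) :
    A.toModule ⟶ Coh.structureModule X :=
  ⟨PresheafOfModules.homMk (traceAb A hA) (fun U r m => traceSec_smul A hA U.unop r m)⟩

theorem traceMod_app (hA : FlatMod.IsFinLocFree A.toModule) (U : X.Opens)
    (a : A.presheaf.obj (op U)) :
    ((traceMod A hA).val.app (op U)).hom a = traceSec A hA U a := rfl

theorem isTrace_traceMod (hA : FlatMod.IsFinLocFree A.toModule) :
    FinCov.IsTrace A (traceMod A hA) := by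
  intro U hU hfree hfin a
  exact traceSec_good A hA ⟨hU, hfree, hfin⟩ a

theorem hom_res (τ : A.toModule ⟶ Coh.structureModule X) {U V : X.Opens} (h : V ≤ U)
    (a : A.presheaf.obj (op U)) :
    (X.presheaf.map (homOfLE h).op).hom ((τ.val.app (op U)).hom a) =
      (τ.val.app (op V)).hom ((A.presheaf.map (homOfLE h).op).hom a) :=
  (PresheafOfModules.naturality_apply τ.val (homOfLE h).op a).symm

theorem isTrace_good {τ : A.toModule ⟶ Coh.structureModule X} (hτ : FinCov.IsTrace A τ)
    {W : X.Opens} (hW : IsGood A W) (a : A.presheaf.obj (op W)) :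
    (τ.val.app (op W)).hom a = traceHom A W a :=
  hτ W hW.1 hW.2.1 hW.2.2 a

theorem app_eq_traceSec (hA : FlatMod.IsFinLocFree A.toModule)
    {τ : A.toModule ⟶ Coh.structureModule X} (hτ : FinCov.IsTrace A τ) (U : X.Opens)
    (a : A.presheaf.obj (op U)) :
    (τ.val.app (op U)).hom a = traceSec A hA U a := by
  apply eq_of_good A hA
  intro W hW hWU
  rw [hom_res, traceSec_res, isTrace_good A hτ hW, traceSec_good A hA hW]

theorem eq_traceMod (hA : FlatMod.IsFinLocFree A.toModule)
    {τ : A.toModule ⟶ Coh.structureModule X} (hτ : FinCov.IsTrace A τ) : τ = traceMod A hA := by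
  apply SheafOfModules.hom_ext
  ext U a
  exact app_eq_traceSec A hA hτ U.unop a

theorem main_S19694 (hA : FlatMod.IsFinLocFree A.toModule) :
    ∃! τ : A.toModule ⟶ Coh.structureModule X, FinCov.IsTrace A τ :=
  ⟨traceMod A hA, isTrace_traceMod A hA, fun _ hτ => eq_traceMod A hA hτ⟩

end Groth.Agent.Helper18Trace
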