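import Mathlib
import Groth.Agent.Lib.Helper18Trace3

set_option autoImplicit false
set_option linter.style.haveILetI false
universe u
open CategoryTheory CategoryTheory.Limits AlgebraicGeometry TopologicalSpace Opposite

namespace Groth.Agent.Helper18Norm

open Groth.Agent.Helper18Trace

variable {X : Scheme.{u}} (A : RelSpec.QCAlg X)

theorem norm_basicOpen' {W : X.Opens} (hW : IsAffineOpen W) (r : Γ(X, W)) (V : X.Opens)
    (hV : V = X.basicOpen r) (hVW : V ≤ W)
    (hfree : letI := alg A W; Module.Free Γ(X, W) (A.presheaf.obj (op W)))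
    (hfin : letI := alg A W; Module.Finite Γ(X, W) (A.presheaf.obj (op W)))
    (a : A.presheaf.obj (op W)) :
    letI := alg A W; letI := alg A V
    Algebra.norm Γ(X, V) ((A.presheaf.map (homOfLE hVW).op).hom a) =
      (X.presheaf.map (homOfLE hVW).op).hom (Algebra.norm Γ(X, W) a) := by
  subst hV
  exact norm_basicOpen A hW r hfree hfin a

theorem norm_res {W W' : X.Opens} (hW : IsAffineOpen W) (hW' : IsAffineOpen W') (h : W' ≤ W)
    (hfree : letI := alg A W; Module.Free Γ(X, W) (A.presheaf.obj (op W)))
    (hfin : letI := alg A W; Module.Finite Γ(X, W) (A.presheaf.obj (op W)))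
    (hfree' : letI := alg A W'; Module.Free Γ(X, W') (A.presheaf.obj (op W')))
    (hfin' : letI := alg A W'; Module.Finite Γ(X, W') (A.presheaf.obj (op W')))
    (a : A.presheaf.obj (op W)) :
    letI := alg A W; letI := alg A W'
    Algebra.norm Γ(X, W') ((A.presheaf.map (homOfLE h).op).hom a) =
      (X.presheaf.map (homOfLE h).op).hom (Algebra.norm Γ(X, W) a) := by
  letI := alg A W
  letI := alg A W'
  have key : ∀ x : W', ∃ (V : X.Opens) (hVW' : V ≤ W'), x.1 ∈ V ∧
      (X.presheaf.map (homOfLE hVW').op).hom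
        (Algebra.norm Γ(X, W') ((A.presheaf.map (homOfLE h).op).hom a)) =
      (X.presheaf.map (homOfLE hVW').op).hom ((X.presheaf.map (homOfLE h).op).hom
        (Algebra.norm Γ(X, W) a)) := by
    intro x
    obtain ⟨r, hrW', hxr⟩ := hW.exists_basicOpen_le (V := W') x (h x.2)
    have hV' : X.basicOpen r = X.basicOpen ((X.presheaf.map (homOfLE h).op).hom r) := by
      rw [Scheme.basicOpen_res]
      exact (inf_eq_right.2 hrW').symm
    refine ⟨X.basicOpen r, hrW', hxr, ?_⟩
    have e1 := norm_basicOpen' A hW' _ (X.basicOpen r) hV' hrW' hfree' hfin'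
      ((A.presheaf.map (homOfLE h).op).hom a)
    have e2 := norm_basicOpen' A hW r (X.basicOpen r) rfl (hrW'.trans h) hfree hfin a
    have e3 : (A.presheaf.map (homOfLE hrW').op).hom ((A.presheaf.map (homOfLE h).op).hom a) =
        (A.presheaf.map (homOfLE (hrW'.trans h)).op).hom a := by
      rw [← CommRingCat.comp_apply, ← Functor.map_comp]
      rfl
    have e4 : ∀ t, (X.presheaf.map (homOfLE hrW').op).hom ((X.presheaf.map (homOfLE h).op).hom t) =
        (X.presheaf.map (homOfLE (hrW'.trans h)).op).hom t := by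
      intro t
      rw [← CommRingCat.comp_apply, ← Functor.map_comp]
      rfl
    rw [← e1, e3, e2, e4]
  choose V hVW' hxV hV using key
  refine TopCat.Sheaf.eq_of_locally_eq' X.sheaf V W' (fun x => homOfLE (hVW' x)) ?_ _ _ hV
  intro x hx
  exact Opens.mem_iSup.2 ⟨⟨x, hx⟩, hxV _⟩

/-- the norm on an open (meaningful on good opens). -/
noncomputable def normFun (W : X.Opens) : A.presheaf.obj (op W) → Γ(X, W) :=
  letI := alg A W
  fun a => Algebra.norm Γ(X, W) a

/-- the structure sheaf as a sheaf of types. -/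
noncomputable def tySheaf (X : Scheme.{u}) : TopCat.Sheaf (Type u) X.carrier :=
  ⟨X.presheaf ⋙ forget CommRingCat,
    (TopCat.Presheaf.isSheaf_iff_isSheaf_comp (forget CommRingCat) _).mp X.sheaf.property⟩

/-- the norm on good opens as a natural transformation of presheaves of types. -/
noncomputable def normNat :
    (inducedFunctor (goodB A)).op ⋙ (A.presheaf ⋙ forget CommRingCat) ⟶
      (inducedFunctor (goodB A)).op ⋙ (tySheaf X).1 where
  app W := TypeCat.ofHom (normFun A W.unop.1)
  naturality W W' i := by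
    ext a
    have hle : W'.unop.1 ≤ W.unop.1 := leOfHom i.unop.hom
    exact norm_res A W.unop.2.1 W'.unop.2.1 hle W.unop.2.2.1 W.unop.2.2.2
      W'.unop.2.2.1 W'.unop.2.2.2 a

variable (hB : Opens.IsBasis (Set.range (goodB A)))

/-- the norm as a morphism of presheaves of types. -/
noncomputable def normTy : (A.presheaf ⋙ forget CommRingCat) ⟶ (tySheaf X).1 :=
  TopCat.Sheaf.restrictHomEquivHom _ (tySheaf X) hB (normNat A)

/-- the norm on sections over an arbitrary open. -/
noncomputable def normSec (U : X.Opens) : A.presheaf.obj (op U) → Γ(X, U) :=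
  fun a => (normTy A hB).app (op U) a

theorem normSec_good {W : X.Opens} (hW : IsGood A W) (a : A.presheaf.obj (op W)) :
    normSec A hB W a = normFun A W a := by
  have h := TopCat.Sheaf.extend_hom_app _ (tySheaf X) hB (normNat A) ⟨W, hW⟩
  exact congr($h a)

theorem normSec_res {U V : X.Opens} (h : V ≤ U) (a : A.presheaf.obj (op U)) :
    (X.presheaf.map (homOfLE h).op).hom (normSec A hB U a) =
      normSec A hB V ((A.presheaf.map (homOfLE h).op).hom a) := by
  have := (normTy A hB).naturality (homOfLE h).op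
  exact (congr($this a)).symm

include hB in
theorem eq_of_good' {U : X.Opens} (s t : Γ(X, U))
    (h : ∀ (W : X.Opens) (_ : IsGood A W) (hWU : W ≤ U),
      (X.presheaf.map (homOfLE hWU).op).hom s = (X.presheaf.map (homOfLE hWU).op).hom t) :
    s = t := by
  have hb : ∀ {U : Opens ↥X} {x : ↥X}, x ∈ U → ∃ U' ∈ Set.range (goodB A), x ∈ U' ∧ U' ≤ U :=
    Opens.isBasis_iff_nbhd.1 hB
  have key : ∀ x : U, ∃ (W : X.Opens) (_ : IsGood A W) (_ : W ≤ U), x.1 ∈ W := by
    intro x
    obtain ⟨W, ⟨W', rfl⟩, hxW, hWU⟩ := hb x.2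
    exact ⟨W'.1, W'.2, hWU, hxW⟩
  choose W hW hWU hxW using key
  refine TopCat.Sheaf.eq_of_locally_eq' X.sheaf W U (fun x => homOfLE (hWU x)) ?_ _ _
    (fun x => h _ (hW x) (hWU x))
  intro x hx
  exact Opens.mem_iSup.2 ⟨⟨x, hx⟩, hxW _⟩

theorem normSec_one (U : X.Opens) : normSec A hB U 1 = 1 := by
  apply eq_of_good' A hB
  intro W hW hWU
  letI := alg A W
  rw [normSec_res, map_one, map_one, normSec_good A hB hW]
  exact map_one (Algebra.norm Γ(X, W))

theorem normSec_mul (U : X.Opens) (a b : A.presheaf.obj (op U)) :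
    normSec A hB U (a * b) = normSec A hB U a * normSec A hB U b := by
  apply eq_of_good' A hB
  intro W hW hWU
  letI := alg A W
  rw [normSec_res, map_mul, map_mul, normSec_res, normSec_res, normSec_good A hB hW,
    normSec_good A hB hW, normSec_good A hB hW]
  exact map_mul (Algebra.norm Γ(X, W)) _ _

/-- the norm as a monoid homomorphism. -/
noncomputable def normHom (U : X.Opens) : A.presheaf.obj (op U) →* Γ(X, U) where
  toFun := normSec A hB U
  map_one' := normSec_one A hB U
  map_mul' := normSec_mul A hB U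

end Groth.Agent.Helper18Norm
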