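import Mathlib
import Groth.Agent.Lib.Helper18Norm1
import Groth.Agent.Lib.Helper18FinFlat2
import Groth.Prelude.Def_Fitting

set_option autoImplicit false
set_option linter.style.haveILetI false
universe u
open CategoryTheory CategoryTheory.Limits AlgebraicGeometry TopologicalSpace Opposite

namespace Groth.Agent.Helper18Norm

open Groth.Agent.Helper18Trace Groth.Agent.Helper18FinFlat

variable {X Y : Scheme.{u}} (π : X ⟶ Y) [IsAffineHom π]

/-- rank-`d` good opens for the direct image algebra form a basis of the topology. -/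
theorem exists_good_directImage (d : ℕ)
    (h : FlatMod.IsFinLocFreeOfRank d
      ((Scheme.Modules.pushforward π).obj (Coh.structureModule X))) (y : Y) (U : Y.Opens)
    (hy : y ∈ U) :
    ∃ W : Y.Opens, IsAffineOpen W ∧ y ∈ W ∧ W ≤ U ∧
      (letI := alg (RelSpec.QCAlg.directImage π) W
       Nonempty (Module.Basis (Fin d) Γ(Y, W)
        ((RelSpec.QCAlg.directImage π).presheaf.obj (op W)))) := by
  obtain ⟨U₀, hy₀, ⟨e⟩⟩ := h y
  obtain ⟨W₀, hW₀, hyW₀, ⟨b₀⟩⟩ := exists_affine_basis_of_restrict_iso_freeMod' _ U₀.ι e ⟨y, hy₀⟩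
  letI := alg (RelSpec.QCAlg.directImage π) W₀
  let b₀' : Module.Basis (Fin d) Γ(Y, W₀) ((RelSpec.QCAlg.directImage π).presheaf.obj (op W₀)) :=
    b₀.map (pushEquiv π W₀)
  obtain ⟨r, hrU, hyr⟩ := hW₀.exists_basicOpen_le (V := U) ⟨y, hy⟩ hyW₀
  exact ⟨Y.basicOpen r, hW₀.basicOpen r, hyr, hrU,
    nonempty_basis_basicOpen (RelSpec.QCAlg.directImage π) hW₀ r b₀'⟩

theorem isBasis_good_directImage (d : ℕ)
    (h : FlatMod.IsFinLocFreeOfRank d
      ((Scheme.Modules.pushforward π).obj (Coh.structureModule X))) :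
    Opens.IsBasis (Set.range (goodB (RelSpec.QCAlg.directImage π))) := by
  rw [Opens.isBasis_iff_nbhd]
  intro U y hy
  obtain ⟨W, hW, hyW, hWU, ⟨b⟩⟩ := exists_good_directImage π d h y U hy
  exact ⟨W, ⟨⟨W, isGood_of_basis _ hW b⟩, rfl⟩, hyW, hWU⟩

theorem eq_of_goodRank' (d : ℕ)
    (h : FlatMod.IsFinLocFreeOfRank d
      ((Scheme.Modules.pushforward π).obj (Coh.structureModule X))) {U : Y.Opens}
    (s t : Γ(Y, U))
    (hst : ∀ (W : Y.Opens) (_ : IsAffineOpen W) (hWU : W ≤ U)
      (_ : letI := alg (RelSpec.QCAlg.directImage π) W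
        Module.Basis (Fin d) Γ(Y, W) ((RelSpec.QCAlg.directImage π).presheaf.obj (op W))),
      (Y.presheaf.map (homOfLE hWU).op).hom s = (Y.presheaf.map (homOfLE hWU).op).hom t) :
    s = t := by
  have key : ∀ y : U, ∃ (W : Y.Opens) (_ : IsAffineOpen W) (_ : W ≤ U)
      (_ : letI := alg (RelSpec.QCAlg.directImage π) W
        Module.Basis (Fin d) Γ(Y, W) ((RelSpec.QCAlg.directImage π).presheaf.obj (op W))),
      y.1 ∈ W := by
    intro y
    obtain ⟨W, hW, hyW, hWU, ⟨b⟩⟩ := exists_good_directImage π d h y.1 U y.2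
    exact ⟨W, hW, hWU, b, hyW⟩
  choose W hW hWU b hyW using key
  refine TopCat.Sheaf.eq_of_locally_eq' Y.sheaf W U (fun y => homOfLE (hWU y)) ?_ _ _
    (fun y => hst _ (hW y) (hWU y) (b y))
  intro y hy
  exact Opens.mem_iSup.2 ⟨⟨y, hy⟩, hyW _⟩

theorem normSec_app (d : ℕ)
    (h : FlatMod.IsFinLocFreeOfRank d
      ((Scheme.Modules.pushforward π).obj (Coh.structureModule X)))
    (hB : Opens.IsBasis (Set.range (goodB (RelSpec.QCAlg.directImage π)))) (U : Y.Opens)
    (g : Γ(Y, U)) :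
    normSec (RelSpec.QCAlg.directImage π) hB U
      (((RelSpec.QCAlg.directImage π).str.app (op U)).hom g) = g ^ d := by
  apply eq_of_goodRank' π d h
  intro W hW hWU b
  letI := alg (RelSpec.QCAlg.directImage π) W
  rw [normSec_res, str_res_apply, normSec_good _ hB (isGood_of_basis _ hW b), map_pow]
  have := Algebra.norm_algebraMap_of_basis b ((Y.presheaf.map (homOfLE hWU).op).hom g)
  rw [Fintype.card_fin] at this
  exact this

theorem isUnit_of_isUnit_norm {R S : Type u} [CommRing R] [CommRing S] [Algebra R S]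
    [Module.Free R S] [Module.Finite R S] (a : S) (h : IsUnit (Algebra.norm R a)) : IsUnit a := by
  rw [Algebra.norm_apply] at h
  have h2 := (LinearMap.isUnit_iff_isUnit_det (Algebra.lmul R S a)).2 h
  obtain ⟨b, hb⟩ := ((Module.End.isUnit_iff _).1 h2).2 1
  exact IsUnit.of_mul_eq_one b hb

theorem normSec_mem (hB : Opens.IsBasis (Set.range (goodB (RelSpec.QCAlg.directImage π))))
    (U : Y.Opens) (s : Γ(X, π ⁻¹ᵁ U)) (x : X) (hx : π.base x ∈ U)
    (hs : X.presheaf.germ (π ⁻¹ᵁ U) x hx s ∈ IsLocalRing.maximalIdeal (X.presheaf.stalk x)) :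
    Y.presheaf.germ U (π.base x) hx (normSec (RelSpec.QCAlg.directImage π) hB U s) ∈
      IsLocalRing.maximalIdeal (Y.presheaf.stalk (π.base x)) := by
  by_contra hcon
  have hunit : IsUnit (Y.presheaf.germ U (π.base x) hx
      (normSec (RelSpec.QCAlg.directImage π) hB U s)) := by
    rwa [IsLocalRing.mem_maximalIdeal, mem_nonunits_iff, not_not] at hcon
  have hxb : π.base x ∈ Y.basicOpen (normSec (RelSpec.QCAlg.directImage π) hB U s) :=
    (Y.mem_basicOpen _ _ hx).2 hunit
  have hb : ∀ {U : Opens ↥Y} {x : ↥Y}, x ∈ U →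
      ∃ U' ∈ Set.range (goodB (RelSpec.QCAlg.directImage π)), x ∈ U' ∧ U' ≤ U :=
    Opens.isBasis_iff_nbhd.1 hB
  obtain ⟨W, ⟨W', rfl⟩, hxW, hWb⟩ := hb hxb
  have hWU : W'.1 ≤ U := hWb.trans (Y.basicOpen_le _)
  have h1 : IsUnit ((Y.presheaf.map (homOfLE hWU).op).hom
      (normSec (RelSpec.QCAlg.directImage π) hB U s)) := by
    have h0 := RingedSpace.isUnit_res_basicOpen Y.toRingedSpace
      (normSec (RelSpec.QCAlg.directImage π) hB U s)
    have h2 := h0.map (Y.presheaf.map (homOfLE hWb).op).hom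
    have h3 : (Y.presheaf.map (homOfLE hWb).op).hom
        ((Y.presheaf.map (homOfLE (Y.basicOpen_le
          (normSec (RelSpec.QCAlg.directImage π) hB U s))).op).hom
          (normSec (RelSpec.QCAlg.directImage π) hB U s)) =
        (Y.presheaf.map (homOfLE hWU).op).hom (normSec (RelSpec.QCAlg.directImage π) hB U s) := by
      rw [← CommRingCat.comp_apply, ← Functor.map_comp]
      rfl
    rw [← h3]
    exact h2
  have e1 := normSec_res (RelSpec.QCAlg.directImage π) hB hWU s
  have e2 := normSec_good (RelSpec.QCAlg.directImage π) hB W'.2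
    (((RelSpec.QCAlg.directImage π).presheaf.map (homOfLE hWU).op).hom s)
  replace h1 : IsUnit (normFun (RelSpec.QCAlg.directImage π) W'.1
      (((RelSpec.QCAlg.directImage π).presheaf.map (homOfLE hWU).op).hom s)) := by
    rw [← e2, ← e1]
    exact h1
  letI := alg (RelSpec.QCAlg.directImage π) W'.1
  haveI := W'.2.2.1
  haveI := W'.2.2.2
  have h3 : IsUnit (((RelSpec.QCAlg.directImage π).presheaf.map (homOfLE hWU).op).hom s) :=
    isUnit_of_isUnit_norm _ h1
  have h4 := h3.map (X.presheaf.germ (π ⁻¹ᵁ W'.1) x hxW).hom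
  have h5 : (X.presheaf.germ (π ⁻¹ᵁ W'.1) x hxW).hom
      (((RelSpec.QCAlg.directImage π).presheaf.map (homOfLE hWU).op).hom s) =
      X.presheaf.germ (π ⁻¹ᵁ U) x hx s :=
    TopCat.Presheaf.germ_res_apply X.presheaf (homOfLE (π.preimage_mono hWU)) x hxW s
  exact (IsLocalRing.mem_maximalIdeal _).1 hs (h5 ▸ h4)

omit [IsAffineHom π] in
theorem main_S8878 (d : ℕ) (hd : 1 ≤ d) (hπ : Mor2.IsFinLocFreeOfDeg d π) :
    Nrm.HasNorm π d := by
  obtain ⟨haff, h⟩ := (main_S19692 π d).1 hπ
  haveI := haff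
  have hB := isBasis_good_directImage π d h
  exact ⟨{ one_le := hd
           norm := fun U => normHom (RelSpec.QCAlg.directImage π) hB U
           norm_res := fun i s => normSec_res (RelSpec.QCAlg.directImage π) hB (leOfHom i) s
           norm_app := fun U g => normSec_app π d h hB U g
           norm_mem := fun U s x hx hs => normSec_mem π hB U s x hx hs }⟩

end Groth.Agent.Helper18Norm
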