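import Mathlib
import Groth.Prelude.Def_CohB1
import Groth.Agent.Lib.Helper23GenLocus

/-!
# Unit isomorphisms for the tensor product of O_X-modules, and generating loci for trivial modules (helper23)

* `counitIso M : sheafify (M.val) ≅ M`
* `tensorUnitIso M : M ⊗ O_X ≅ M`, `unitTensorIso M : O_X ⊗ M ≅ M`
* `tensorPowUnitIso n : O_X^{⊗ n} ≅ O_X`
* `genLocus_eq_basicOpen` : for `e : L ≅ O_X` and `s : O_X ⟶ L`, `X_s = X_f` with `f` the function of `s ≫ e.hom`.
* `isInvertible_structureModule`
-/

set_option autoImplicit false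
universe u
open CategoryTheory CategoryTheory.Limits AlgebraicGeometry MonoidalCategory TopologicalSpace Opposite

namespace Groth.Agent.Lib.Helper23.TensorUnit

open Groth.Agent.Lib.Helper23.GenLocus Groth.Agent.Lib.Helper23.Extend

variable {X : Scheme.{u}}

/-- the sheafification of the underlying presheaf of a sheaf of modules is the sheaf itself -/
noncomputable def counitIso (M : X.Modules) :
    (CohB1.sheafifyMod X).obj (show X.PresheafOfModules from M.val) ≅ M := by
  let adj := PresheafOfModules.sheafificationAdjunction.{u} (R := X.ringCatSheaf) (𝟙 X.ringCatSheaf.obj)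
  haveI : IsIso adj.counit := inferInstance
  have h : IsIso (adj.counit.app M) := NatIso.isIso_app_of_isIso adj.counit M
  exact @asIso _ _ _ _ (adj.counit.app M) h

/-- right unitor at the presheaf level -/
noncomputable def rho (M : X.Modules) : CohB1.tensorPre M (Coh.structureModule X) ≅ CohB1.toPMod M :=
  ρ_ (CohB1.toPMod M)

/-- left unitor at the presheaf level -/
noncomputable def lam (M : X.Modules) : CohB1.tensorPre (Coh.structureModule X) M ≅ CohB1.toPMod M :=
  λ_ (CohB1.toPMod M)

/-- `M ⊗ O_X ≅ M` -/
noncomputable def tensorUnitIso (M : X.Modules) : CohB1.tensorMod M (Coh.structureModule X) ≅ M :=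
  (CohB1.sheafifyMod X).mapIso (show (show X.PresheafOfModules from CohB1.tensorPre M (Coh.structureModule X)) ≅
    (show X.PresheafOfModules from M.val) from rho M) ≪≫ counitIso M

/-- `O_X ⊗ M ≅ M` -/
noncomputable def unitTensorIso (M : X.Modules) : CohB1.tensorMod (Coh.structureModule X) M ≅ M :=
  (CohB1.sheafifyMod X).mapIso (show (show X.PresheafOfModules from CohB1.tensorPre (Coh.structureModule X) M) ≅
    (show X.PresheafOfModules from M.val) from lam M) ≪≫ counitIso M

/-- `O_X^{⊗ n} ≅ O_X` -/
noncomputable def tensorPowUnitIso : (n : ℕ) → (CohB1.tensorPow (Coh.structureModule X) n ≅ Coh.structureModule X)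
  | 0 => Iso.refl _
  | n + 1 => tensorUnitIso (CohB1.tensorPow (Coh.structureModule X) n) ≪≫ tensorPowUnitIso n

/-- For a trivialised module, the generating locus of a section is a basic open. -/
theorem genLocus_eq_basicOpen (L : X.Modules) (e : L ≅ Coh.structureModule X) (s : Coh.structureModule X ⟶ L) :
    CohB1.genLocus L s = X.basicOpen (endFun (s ≫ e.hom) ⊤) := by
  have key : ∀ W : X.Opens, IsIso (s.app W) ↔ W ≤ X.basicOpen (endFun (s ≫ e.hom) ⊤) := by
    intro W
    rw [← bijective_app_iff_le_basicOpen, ConcreteCategory.isIso_iff_bijective]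
    have hc : IsIso (e.hom.app W) := Scheme.Modules.Hom.isIso_iff_isIso_app.1 inferInstance _
    have hcb : Function.Bijective (e.hom.app W) := ConcreteCategory.bijective_of_isIso _
    have hfun : ⇑((s ≫ e.hom).app W) = ⇑(e.hom.app W) ∘ ⇑(s.app W) := rfl
    rw [hfun]
    exact (Function.Bijective.of_comp_iff' hcb _).symm
  ext x
  rw [SetLike.mem_coe, mem_genLocus_iff]
  constructor
  · rintro ⟨V, hxV, hV⟩
    exact (key V).1 (hV V le_rfl) hxV
  · intro hx
    exact ⟨_, hx, fun W hW => (key W).2 hW⟩

theorem isInvertible_structureModule (X : Scheme.{u}) : PicF.IsInvertible (Coh.structureModule X) := by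
  intro y
  exact ⟨⊤, trivial, ⟨Scheme.Modules.restrictUnitIso (⊤ : X.Opens).ι⟩⟩

end Groth.Agent.Lib.Helper23.TensorUnit
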