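import Mathlib
import Groth.Prelude.Def_CohB1
import Groth.Agent.Lib.Helper23TensorUnit
import Groth.Agent.Lib.Helper23Serre

/-!
# Ampleness is invariant under isomorphism of modules (helper23)

* `tensorModIso e e' : M ⊗ N ≅ M' ⊗ N'`, `tensorPowIso e n : L^{⊗ n} ≅ L'^{⊗ n}`
* `genLocus_comp_iso`, `isInvertible_of_iso`, `isAmple_of_iso`
* `isQuasiAffine_iff_isAmple_structureModule` (no separatedness needed)
-/

set_option autoImplicit false
universe u
open CategoryTheory CategoryTheory.Limits AlgebraicGeometry MonoidalCategory TopologicalSpace Opposite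

namespace Groth.Agent.Lib.Helper23.AmpleIso

open Groth.Agent.Lib.Helper23.GenLocus Groth.Agent.Lib.Helper23.Extend Groth.Agent.Lib.Helper23.TensorUnit

variable {X : Scheme.{u}}

/-- the underlying isomorphism of presheaves of modules -/
noncomputable def valIso {M M' : X.Modules} (e : M ≅ M') : CohB1.toPMod M ≅ CohB1.toPMod M' :=
  (SheafOfModules.forget X.ringCatSheaf).mapIso e

/-- functoriality of the tensor product in isomorphisms -/
noncomputable def tensorPreIso {M M' N N' : X.Modules} (e : M ≅ M') (e' : N ≅ N') :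
    CohB1.tensorPre M N ≅ CohB1.tensorPre M' N' :=
  MonoidalCategory.tensorIso (valIso e) (valIso e')

/-- functoriality of the tensor product in isomorphisms -/
noncomputable def tensorModIso {M M' N N' : X.Modules} (e : M ≅ M') (e' : N ≅ N') :
    CohB1.tensorMod M N ≅ CohB1.tensorMod M' N' :=
  (CohB1.sheafifyMod X).mapIso (show (show X.PresheafOfModules from CohB1.tensorPre M N) ≅
    (show X.PresheafOfModules from CohB1.tensorPre M' N') from tensorPreIso e e')

/-- functoriality of tensor powers in isomorphisms -/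
noncomputable def tensorPowIso {L L' : X.Modules} (e : L ≅ L') :
    (n : ℕ) → (CohB1.tensorPow L n ≅ CohB1.tensorPow L' n)
  | 0 => Iso.refl _
  | n + 1 => tensorModIso (tensorPowIso e n) e

theorem genLocus_comp_iso {L L' : X.Modules} (e : L ≅ L') (s : Coh.structureModule X ⟶ L) :
    CohB1.genLocus L' (s ≫ e.hom) = CohB1.genLocus L s := by
  have key : ∀ W : X.Opens, IsIso ((s ≫ e.hom).app W) ↔ IsIso (s.app W) := by
    intro W
    rw [ConcreteCategory.isIso_iff_bijective, ConcreteCategory.isIso_iff_bijective]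
    have hc : IsIso (e.hom.app W) := Scheme.Modules.Hom.isIso_iff_isIso_app.1 inferInstance _
    have hcb : Function.Bijective (e.hom.app W) := ConcreteCategory.bijective_of_isIso _
    have hfun : ⇑((s ≫ e.hom).app W) = ⇑(e.hom.app W) ∘ ⇑(s.app W) := rfl
    rw [hfun]
    exact Function.Bijective.of_comp_iff' hcb _
  ext x
  rw [SetLike.mem_coe, SetLike.mem_coe, mem_genLocus_iff, mem_genLocus_iff]
  constructor
  · rintro ⟨V, hxV, hV⟩
    exact ⟨V, hxV, fun W hW => (key W).1 (hV W hW)⟩
  · rintro ⟨V, hxV, hV⟩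
    exact ⟨V, hxV, fun W hW => (key W).2 (hV W hW)⟩

theorem isInvertible_of_iso {L L' : X.Modules} (e : L ≅ L') (h : PicF.IsInvertible L) :
    PicF.IsInvertible L' := by
  intro y
  obtain ⟨U, hyU, ⟨t⟩⟩ := h y
  exact ⟨U, hyU, ⟨((Scheme.Modules.restrictFunctor U.ι).mapIso e).symm ≪≫ t⟩⟩

theorem isAmple_of_iso {L L' : X.Modules} (e : L ≅ L') (h : CohB1.IsAmple L) : CohB1.IsAmple L' := by
  obtain ⟨h1, h2, h3⟩ := h
  refine ⟨isInvertible_of_iso e h1, h2, ?_⟩
  intro x
  obtain ⟨n, s, hxs, haff⟩ := h3 x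
  refine ⟨n, s ≫ (tensorPowIso e (n + 1)).hom, ?_, ?_⟩
  · rw [genLocus_comp_iso]; exact hxs
  · rw [genLocus_comp_iso]; exact haff

theorem isAmple_iff_of_iso {L L' : X.Modules} (e : L ≅ L') : CohB1.IsAmple L ↔ CohB1.IsAmple L' :=
  ⟨isAmple_of_iso e, isAmple_of_iso e.symm⟩

/-- A scheme is quasi-affine iff its structure sheaf is ample. -/
theorem isQuasiAffine_iff_isAmple_structureModule (X : Scheme.{u}) :
    X.IsQuasiAffine ↔ CohB1.IsAmple (Coh.structureModule X) := by
  constructor
  · intro hX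
    refine ⟨isInvertible_structureModule X, inferInstance, ?_⟩
    intro x
    obtain ⟨_, ⟨_, ⟨f, hf, rfl⟩, rfl⟩, hxf, -⟩ :=
      (Scheme.IsQuasiAffine.isBasis_basicOpen X).exists_subset_of_mem_open (Set.mem_univ x) isOpen_univ
    let e := tensorPowUnitIso (X := X) 1
    refine ⟨0, Groth.Agent.Lib.Helper23.Serre.mulBy f ≫ e.inv, ?_⟩
    have h1 : CohB1.genLocus _ (Groth.Agent.Lib.Helper23.Serre.mulBy f ≫ e.inv) = X.basicOpen f := by
      rw [genLocus_eq_basicOpen _ e]
      have h2 : (Groth.Agent.Lib.Helper23.Serre.mulBy f ≫ e.inv) ≫ e.hom =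
          Groth.Agent.Lib.Helper23.Serre.mulBy f := by
        rw [Category.assoc, Iso.inv_hom_id, Category.comp_id]
      rw [h2, Groth.Agent.Lib.Helper23.Serre.endFun_mulBy, Groth.Agent.Lib.Helper23.Serre.resF_top]
    rw [h1]
    exact ⟨hxf, hf⟩
  · rintro ⟨-, hc, h⟩
    haveI := hc
    apply Scheme.IsQuasiAffine.of_forall_exists_mem_basicOpen
    intro x
    obtain ⟨n, s, hxs, haff⟩ := h x
    let e := tensorPowUnitIso (X := X) (n + 1)
    rw [genLocus_eq_basicOpen _ e] at hxs haff
    exact ⟨_, haff, hxs⟩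

end Groth.Agent.Lib.Helper23.AmpleIso
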