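import Mathlib
import Groth.Prelude.Def_SecTwist
import Groth.Prelude.Def_Pic
import Groth.Prelude.Def_Coh
import Groth.Agent.Lib.Helper23GenLocus
import Groth.Agent.Lib.Helper23QCohLocal

/-!
# Sections of tensor products of O-modules: bilinearity, local powers, local frames (helper23)

* `tm`, `tm_smul_left/right`, `tm_add_left/right`, `res_tm` : `SecTwist.tmul` in `Γ(-,U)` notation, bilinear, natural
* `pw`, `tw` : local tensor powers `e^{⊗ n}` and twists `t ⊗ e^{⊗ n}` of local sections; `pw_smul`, `tw_smul`, `res_pw`, `res_tw`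
* `sig`, `genLocus_inf_eq_sig`, `frameE`, `frameF`, `val_eq_frame`, `basicOpen_frameF` : on an open trivialising `L`,
  `s = f • e` and `X_s ∩ W = D(f)`.
-/

set_option autoImplicit false
universe u
open CategoryTheory Limits AlgebraicGeometry TopologicalSpace Opposite TensorProduct MonoidalCategory

namespace Groth.Agent.Lib.Helper23.SecTw

section general
variable {C : Type*} [Category C] {R : Cᵒᵖ ⥤ CommRingCat.{u}}
variable (P Q : PresheafOfModules.{u} (R ⋙ forget₂ CommRingCat RingCat)) (Z : Cᵒᵖ)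

/-- pure tensor as element of the sectionwise tensor product -/
def pt (p : P.obj Z) (q : Q.obj Z) : ↑((P ⊗ Q).obj Z) := p ⊗ₜ[R.obj Z] q

theorem pt_smul_left (r : (R ⋙ forget₂ CommRingCat RingCat).obj Z) (p : P.obj Z) (q : Q.obj Z) :
    pt P Q Z (r • p) q = r • pt P Q Z p q := 
  (TensorProduct.smul_tmul' (R := R.obj Z) (R' := R.obj Z) (M := P.obj Z) (N := Q.obj Z) r p q).symm

theorem pt_smul_right (r : (R ⋙ forget₂ CommRingCat RingCat).obj Z) (p : P.obj Z) (q : Q.obj Z) :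
    pt P Q Z p (r • q) = r • pt P Q Z p q := 
  (TensorProduct.tmul_smul (R := R.obj Z) (R' := R.obj Z) (M := P.obj Z) (N := Q.obj Z) r p q)

theorem pt_add_left (p p' : P.obj Z) (q : Q.obj Z) :
    pt P Q Z (p + p') q = pt P Q Z p q + pt P Q Z p' q := 
  (TensorProduct.add_tmul (R := R.obj Z) (M := P.obj Z) (N := Q.obj Z) p p' q)

theorem pt_add_right (p : P.obj Z) (q q' : Q.obj Z) :
    pt P Q Z p (q + q') = pt P Q Z p q + pt P Q Z p q' := 
  (TensorProduct.tmul_add (R := R.obj Z) (M := P.obj Z) (N := Q.obj Z) p q q')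

theorem pt_zero_left (q : Q.obj Z) : pt P Q Z 0 q = 0 := 
  (TensorProduct.zero_tmul (R := R.obj Z) (P.obj Z) q)

theorem pt_zero_right (p : P.obj Z) : pt P Q Z p 0 = 0 := 
  (TensorProduct.tmul_zero (R := R.obj Z) (Q.obj Z) p)

variable {T : ModuleCat.{u} ((R ⋙ forget₂ CommRingCat RingCat).obj Z)} (φ : (P ⊗ Q).obj Z ⟶ T)

theorem hom_pt_smul_left (r : (R ⋙ forget₂ CommRingCat RingCat).obj Z) (p : P.obj Z) (q : Q.obj Z) :
    φ.hom (pt P Q Z (r • p) q) = r • φ.hom (pt P Q Z p q) := by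
  rw [pt_smul_left]; exact map_smul φ.hom r _

theorem hom_pt_smul_right (r : (R ⋙ forget₂ CommRingCat RingCat).obj Z) (p : P.obj Z) (q : Q.obj Z) :
    φ.hom (pt P Q Z p (r • q)) = r • φ.hom (pt P Q Z p q) := by
  rw [pt_smul_right]; exact map_smul φ.hom r _

theorem hom_pt_add_left (p p' : P.obj Z) (q : Q.obj Z) :
    φ.hom (pt P Q Z (p + p') q) = φ.hom (pt P Q Z p q) + φ.hom (pt P Q Z p' q) := by
  rw [pt_add_left]; exact map_add φ.hom _ _

theorem hom_pt_add_right (p : P.obj Z) (q q' : Q.obj Z) :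
    φ.hom (pt P Q Z p (q + q')) = φ.hom (pt P Q Z p q) + φ.hom (pt P Q Z p q') := by
  rw [pt_add_right]; exact map_add φ.hom _ _

theorem hom_pt_zero_left (q : Q.obj Z) : φ.hom (pt P Q Z 0 q) = 0 := by
  rw [pt_zero_left]; exact map_zero φ.hom

theorem hom_pt_zero_right (p : P.obj Z) : φ.hom (pt P Q Z p 0) = 0 := by
  rw [pt_zero_right]; exact map_zero φ.hom

end general

variable {X : Scheme.{u}}

theorem tmul_smul_left (M N : X.Modules) (U : X.Opens) (r : X.ringCatSheaf.obj.obj (op U))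
    (m : M.val.obj (op U)) (n : N.val.obj (op U)) :
    SecTwist.tmul M N U (r • m) n = r • SecTwist.tmul M N U m n :=
  hom_pt_smul_left (CohB1.toPMod M) (CohB1.toPMod N) (op U) ((SecTwist.toTensor M N).app (op U)) r m n

theorem tmul_smul_right (M N : X.Modules) (U : X.Opens) (r : X.ringCatSheaf.obj.obj (op U))
    (m : M.val.obj (op U)) (n : N.val.obj (op U)) :
    SecTwist.tmul M N U m (r • n) = r • SecTwist.tmul M N U m n :=
  hom_pt_smul_right (CohB1.toPMod M) (CohB1.toPMod N) (op U) ((SecTwist.toTensor M N).app (op U)) r m n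

theorem tmul_add_left (M N : X.Modules) (U : X.Opens) 
    (m m' : M.val.obj (op U)) (n : N.val.obj (op U)) :
    SecTwist.tmul M N U (m + m') n = SecTwist.tmul M N U m n + SecTwist.tmul M N U m' n :=
  hom_pt_add_left (CohB1.toPMod M) (CohB1.toPMod N) (op U) ((SecTwist.toTensor M N).app (op U)) m m' n

theorem tmul_add_right (M N : X.Modules) (U : X.Opens) 
    (m : M.val.obj (op U)) (n n' : N.val.obj (op U)) :
    SecTwist.tmul M N U m (n + n') = SecTwist.tmul M N U m n + SecTwist.tmul M N U m n' :=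
  hom_pt_add_right (CohB1.toPMod M) (CohB1.toPMod N) (op U) ((SecTwist.toTensor M N).app (op U)) m n n'

theorem tmul_zero_left (M N : X.Modules) (U : X.Opens) (n : N.val.obj (op U)) :
    SecTwist.tmul M N U 0 n = 0 :=
  hom_pt_zero_left (CohB1.toPMod M) (CohB1.toPMod N) (op U) ((SecTwist.toTensor M N).app (op U)) n

theorem tmul_zero_right (M N : X.Modules) (U : X.Opens) (m : M.val.obj (op U)) :
    SecTwist.tmul M N U m 0 = 0 :=
  hom_pt_zero_right (CohB1.toPMod M) (CohB1.toPMod N) (op U) ((SecTwist.toTensor M N).app (op U)) m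

end Groth.Agent.Lib.Helper23.SecTw

namespace Groth.Agent.Lib.Helper23.SecTw
open Groth.Agent.Lib.Helper6
variable {X : Scheme.{u}}

/-- `SecTwist.tmul` in the `Γ(-, U)` notation -/
noncomputable def tm (M N : X.Modules) (U : X.Opens) (m : Γ(M, U)) (n : Γ(N, U)) : Γ(CohB1.tensorMod M N, U) :=
  SecTwist.tmul M N U m n

theorem tm_smul_left (M N : X.Modules) (U : X.Opens) (r : Γ(X, U)) (m : Γ(M, U)) (n : Γ(N, U)) :
    tm M N U (r • m) n = r • tm M N U m n := tmul_smul_left M N U r m n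

theorem tm_smul_right (M N : X.Modules) (U : X.Opens) (r : Γ(X, U)) (m : Γ(M, U)) (n : Γ(N, U)) :
    tm M N U m (r • n) = r • tm M N U m n := tmul_smul_right M N U r m n

theorem tm_add_left (M N : X.Modules) (U : X.Opens) (m m' : Γ(M, U)) (n : Γ(N, U)) :
    tm M N U (m + m') n = tm M N U m n + tm M N U m' n := tmul_add_left M N U m m' n

theorem tm_add_right (M N : X.Modules) (U : X.Opens) (m : Γ(M, U)) (n n' : Γ(N, U)) :
    tm M N U m (n + n') = tm M N U m n + tm M N U m n' := tmul_add_right M N U m n n'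

theorem tm_zero_left (M N : X.Modules) (U : X.Opens) (n : Γ(N, U)) :
    tm M N U 0 n = 0 := tmul_zero_left M N U n

theorem tm_zero_right (M N : X.Modules) (U : X.Opens) (m : Γ(M, U)) :
    tm M N U m 0 = 0 := tmul_zero_right M N U m

theorem res_tm (M N : X.Modules) {U V : X.Opens} (h : V ≤ U) (m : Γ(M, U)) (n : Γ(N, U)) :
    res (CohB1.tensorMod M N) h (tm M N U m n) = tm M N V (res M h m) (res N h n) :=
  SecTwist.map_tmul M N (homOfLE h) m n

theorem tm_neg_left (M N : X.Modules) (U : X.Opens) (m : Γ(M, U)) (n : Γ(N, U)) :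
    tm M N U (-m) n = - tm M N U m n := by
  have h := tm_add_left M N U m (-m) n
  rw [add_neg_cancel, tm_zero_left] at h
  exact eq_neg_of_add_eq_zero_right h.symm

theorem tm_sub_left (M N : X.Modules) (U : X.Opens) (m m' : Γ(M, U)) (n : Γ(N, U)) :
    tm M N U (m - m') n = tm M N U m n - tm M N U m' n := by
  rw [sub_eq_add_neg, tm_add_left, tm_neg_left, ← sub_eq_add_neg]

end Groth.Agent.Lib.Helper23.SecTw

namespace Groth.Agent.Lib.Helper23.SecTw
open Groth.Agent.Lib.Helper6 Groth.Agent.Lib.Helper23.GenLocus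
variable {X : Scheme.{u}}

/-- `SecTwist.val` in the `Γ(-, U)` notation -/
noncomputable def sv {L : X.Modules} (s : Coh.structureModule X ⟶ L) (U : X.Opens) : Γ(L, U) := SecTwist.val s U

theorem res_sv {L : X.Modules} (s : Coh.structureModule X ⟶ L) {U V : X.Opens} (h : V ≤ U) :
    res L h (sv s U) = sv s V := SecTwist.map_val s (homOfLE h)

/-- local tensor powers of a local section -/
noncomputable def pw (L : X.Modules) (U : X.Opens) (e : Γ(L, U)) : (n : ℕ) → Γ(CohB1.tensorPow L n, U)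
  | 0 => toS U 1
  | n + 1 => tm (CohB1.tensorPow L n) L U (pw L U e n) e

theorem pow_eq_pw {L : X.Modules} (s : Coh.structureModule X ⟶ L) (n : ℕ) (U : X.Opens) :
    SecTwist.pow s n U = pw L U (sv s U) n := by
  induction n with
  | zero => rfl
  | succ n ih =>
    change SecTwist.tmul _ _ U (SecTwist.pow s n U) (SecTwist.val s U) = tm _ _ U (pw L U _ n) _
    rw [ih]
    rfl

theorem pw_smul (L : X.Modules) (U : X.Opens) (r : Γ(X, U)) (e : Γ(L, U)) (n : ℕ) :
    pw L U (r • e) n = r ^ n • pw L U e n := by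
  induction n with
  | zero => 
    rw [pow_zero, one_smul]
    rfl
  | succ n ih =>
    change tm _ _ U (pw L U (r • e) n) (r • e) = r ^ (n + 1) • tm _ _ U (pw L U e n) e
    rw [ih, tm_smul_left, tm_smul_right, ← mul_smul, pow_succ]

theorem res_pw (L : X.Modules) {U V : X.Opens} (h : V ≤ U) (e : Γ(L, U)) (n : ℕ) :
    res (CohB1.tensorPow L n) h (pw L U e n) = pw L V (res L h e) n := by
  induction n with
  | zero => exact (map_toS (homOfLE h) 1).trans (by rw [map_one]; rfl)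
  | succ n ih =>
    change res (CohB1.tensorMod _ _) h (tm _ _ U (pw L U e n) e) = tm _ _ V (pw L V _ n) _
    rw [res_tm, ih]

/-- local twist `t ⊗ e^{⊗ n}` -/
noncomputable def tw (F L : X.Modules) (U : X.Opens) (t : Γ(F, U)) (e : Γ(L, U)) (n : ℕ) :
    Γ(CohB1.tensorMod F (CohB1.tensorPow L n), U) :=
  tm F (CohB1.tensorPow L n) U t (pw L U e n)

theorem twist_eq_tw {L : X.Modules} (s : Coh.structureModule X ⟶ L) (n : ℕ) (F : X.Modules) (U : X.Opens)
    (t : Γ(F, U)) : SecTwist.twist s n F U t = tw F L U t (sv s U) n := by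
  change SecTwist.tmul _ _ U t (SecTwist.pow s n U) = tm _ _ U t (pw L U _ n)
  rw [pow_eq_pw]
  rfl

theorem tw_smul (F L : X.Modules) (U : X.Opens) (t : Γ(F, U)) (r : Γ(X, U)) (e : Γ(L, U)) (n : ℕ) :
    tw F L U t (r • e) n = tw F L U (r ^ n • t) e n := by
  unfold tw
  rw [pw_smul, tm_smul_right, tm_smul_left]

theorem res_tw (F L : X.Modules) {U V : X.Opens} (h : V ≤ U) (t : Γ(F, U)) (e : Γ(L, U)) (n : ℕ) :
    res (CohB1.tensorMod F (CohB1.tensorPow L n)) h (tw F L U t e n) = tw F L V (res F h t) (res L h e) n := by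
  unfold tw
  rw [res_tm, res_pw]

theorem tw_zero (F L : X.Modules) (U : X.Opens) (e : Γ(L, U)) (n : ℕ) : tw F L U 0 e n = 0 :=
  tm_zero_left _ _ _ _

end Groth.Agent.Lib.Helper23.SecTw

namespace Groth.Agent.Lib.Helper23.SecTw
open Groth.Agent.Lib.Helper23.GenLocus Groth.Agent.Lib.Helper23.Extend Groth.Agent.Lib.Helper6

variable {X : Scheme.{u}}

theorem restrictUnitIso_inv_one (U : X.Opens) (V : (↑U : Scheme.{u}).Opens) :
    (Scheme.Modules.restrictUnitIso U.ι).inv.app V (toS V 1) = toS (U.ι ''ᵁ V) 1 := by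
  change (U.ι.appIso V).inv (1 : Γ(↑U, V)) = 1
  exact map_one _

/-- the endomorphism of the structure module of `U` given by a section `s` and a trivialisation of `L` on `U` -/
noncomputable def sig (L : X.Modules) (s : Coh.structureModule X ⟶ L) (U : X.Opens)
    (ε : L.restrict U.ι ≅ Coh.structureModule (↑U : Scheme.{u})) :
    Coh.structureModule (↑U : Scheme.{u}) ⟶ Coh.structureModule (↑U : Scheme.{u}) :=
  (Scheme.Modules.restrictUnitIso U.ι).inv ≫ (Scheme.Modules.restrictFunctor U.ι).map s ≫ ε.hom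

theorem genLocus_inf_eq_sig (L : X.Modules) (s : Coh.structureModule X ⟶ L) (U₀ : X.Opens)
    (e : L.restrict U₀.ι ≅ Coh.structureModule (↑U₀ : Scheme.{u})) :
    CohB1.genLocus L s ⊓ U₀ = U₀.ι ''ᵁ ((↑U₀ : Scheme.{u}).basicOpen (endFun (sig L s U₀ e) ⊤)) := by
  let ρ : Coh.structureModule (↑U₀ : Scheme.{u}) ⟶ (Coh.structureModule X).restrict U₀.ι :=
    (Scheme.Modules.restrictUnitIso U₀.ι).inv
  have hρ : IsIso ρ := ⟨⟨(Scheme.Modules.restrictUnitIso U₀.ι).hom, Iso.inv_hom_id _, Iso.hom_inv_id _⟩⟩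
  let σ : Coh.structureModule (↑U₀ : Scheme.{u}) ⟶ Coh.structureModule (↑U₀ : Scheme.{u}) :=
    ρ ≫ (Scheme.Modules.restrictFunctor U₀.ι).map s ≫ e.hom
  change CohB1.genLocus L s ⊓ U₀ = U₀.ι ''ᵁ ((↑U₀ : Scheme.{u}).basicOpen (endFun σ ⊤))
  have key : ∀ W : X.Opens, W ≤ U₀ → (IsIso (s.app W) ↔ W ≤ U₀.ι ''ᵁ ((↑U₀ : Scheme.{u}).basicOpen (endFun σ ⊤))) := by
    intro W hW
    have himg : U₀.ι ''ᵁ (U₀.ι ⁻¹ᵁ W) = W := by
      rw [Scheme.Hom.image_preimage_eq_opensRange_inf, Scheme.Opens.opensRange_ι]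
      exact inf_eq_right.2 hW
    have h1 : Function.Bijective (σ.app (U₀.ι ⁻¹ᵁ W)) ↔ Function.Bijective (s.app (U₀.ι ''ᵁ (U₀.ι ⁻¹ᵁ W))) := by
      have h1a : IsIso (ρ.app (U₀.ι ⁻¹ᵁ W)) := Scheme.Modules.Hom.isIso_iff_isIso_app.1 hρ _
      have h1c : IsIso (e.hom.app (U₀.ι ⁻¹ᵁ W)) := Scheme.Modules.Hom.isIso_iff_isIso_app.1 inferInstance _
      have ha : Function.Bijective (ρ.app (U₀.ι ⁻¹ᵁ W)) := ConcreteCategory.bijective_of_isIso _
      have hc : Function.Bijective (e.hom.app (U₀.ι ⁻¹ᵁ W)) := ConcreteCategory.bijective_of_isIso _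
      have hfun : ⇑(σ.app (U₀.ι ⁻¹ᵁ W)) = ⇑(e.hom.app (U₀.ι ⁻¹ᵁ W)) ∘ ⇑(s.app (U₀.ι ''ᵁ (U₀.ι ⁻¹ᵁ W))) ∘
          ⇑(ρ.app (U₀.ι ⁻¹ᵁ W)) := rfl
      rw [hfun]
      exact (Function.Bijective.of_comp_iff' hc _).trans (Function.Bijective.of_comp_iff _ ha)
    have h2 : IsIso (s.app (U₀.ι ''ᵁ (U₀.ι ⁻¹ᵁ W))) ↔ IsIso (s.app W) := by rw [himg]
    rw [← h2, ConcreteCategory.isIso_iff_bijective, ← h1, bijective_app_iff_le_basicOpen]
    constructor
    · intro h
      rw [← himg]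
      exact U₀.ι.image_mono h
    · intro h
      have := U₀.ι.preimage_mono h
      rwa [Scheme.Hom.preimage_image_eq] at this
  apply le_antisymm
  · rintro x ⟨hxG, hxU⟩
    obtain ⟨V, hxV, hV⟩ := (mem_genLocus_iff L s x).1 hxG
    exact (key (V ⊓ U₀) inf_le_right).1 (hV _ inf_le_left) ⟨hxV, hxU⟩
  · intro x hx
    refine ⟨(mem_genLocus_iff L s x).2 ⟨_, hx, fun W hW => ?_⟩, ?_⟩
    · exact (key W (hW.trans ((Scheme.Hom.image_le_opensRange U₀.ι _).trans (by rw [Scheme.Opens.opensRange_ι])))).2 hW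
    · have := Scheme.Hom.image_le_opensRange U₀.ι _ hx
      rwa [Scheme.Opens.opensRange_ι] at this

/-- the frame of `L` over `U.ι ''ᵁ V` given by a trivialisation -/
noncomputable def frameE (L : X.Modules) (U : X.Opens) (ε : L.restrict U.ι ≅ Coh.structureModule (↑U : Scheme.{u}))
    (V : (↑U : Scheme.{u}).Opens) : Γ(L, U.ι ''ᵁ V) :=
  ε.inv.app V (toS V 1)

/-- the coefficient of `s` in the frame -/
noncomputable def frameF (L : X.Modules) (s : Coh.structureModule X ⟶ L) (U : X.Opens)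
    (ε : L.restrict U.ι ≅ Coh.structureModule (↑U : Scheme.{u}))
    (V : (↑U : Scheme.{u}).Opens) : Γ(X, U.ι ''ᵁ V) :=
  endFun (sig L s U ε) V

theorem val_eq_app (L : X.Modules) (s : Coh.structureModule X ⟶ L) (W : X.Opens) :
    sv s W = s.app W (toS W 1) := rfl

theorem smul_restrict_eq (L : X.Modules) (U : X.Opens) (V : (↑U : Scheme.{u}).Opens) (r : Γ((↑U : Scheme.{u}), V))
    (m : Γ(L.restrict U.ι, V)) :
    (r • m : Γ(L.restrict U.ι, V)) = ((show Γ(X, U.ι ''ᵁ V) from r) • (show Γ(L, U.ι ''ᵁ V) from m) : Γ(L, U.ι ''ᵁ V)) := by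
  have h1 : (r • m : Γ(L.restrict U.ι, V)) =
      (((U.ι.appIso V).inv r : Γ(X, U.ι ''ᵁ V)) • (show Γ(L, U.ι ''ᵁ V) from m) : Γ(L, U.ι ''ᵁ V)) := rfl
  rw [h1, Scheme.Opens.ι_appIso]
  rfl

theorem val_eq_frame (L : X.Modules) (s : Coh.structureModule X ⟶ L) (U : X.Opens)
    (ε : L.restrict U.ι ≅ Coh.structureModule (↑U : Scheme.{u}))
    (V : (↑U : Scheme.{u}).Opens) :
    sv s (U.ι ''ᵁ V) = frameF L s U ε V • frameE L U ε V := by
  have h1 : (sig L s U ε).app V (toS V 1) = ε.hom.app V (s.app (U.ι ''ᵁ V) (toS (U.ι ''ᵁ V) 1)) := by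
    have : (sig L s U ε).app V (toS V 1) = ε.hom.app V (s.app (U.ι ''ᵁ V)
        ((Scheme.Modules.restrictUnitIso U.ι).inv.app V (toS V 1))) := rfl
    rw [this, restrictUnitIso_inv_one]
  have h2 : ε.inv.app V ((sig L s U ε).app V (toS V 1)) = s.app (U.ι ''ᵁ V) (toS (U.ι ''ᵁ V) 1) := by
    rw [h1]
    have : ε.hom ≫ ε.inv = 𝟙 _ := Iso.hom_inv_id _
    have h3 := congrArg (fun φ => Scheme.Modules.Hom.app φ V (s.app (U.ι ''ᵁ V) (toS (U.ι ''ᵁ V) 1))) this
    exact h3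
  rw [val_eq_app, ← h2]
  have h4 : (sig L s U ε).app V (toS V 1) = (endFun (sig L s U ε) V) • toS V 1 := by
    rw [smul_toS, mul_one]
    rfl
  rw [h4, Scheme.Modules.Hom.app_smul]
  exact smul_restrict_eq L U V _ _

theorem image_inf_image (U : X.Opens) (A B : (↑U : Scheme.{u}).Opens) : U.ι ''ᵁ (A ⊓ B) = U.ι ''ᵁ A ⊓ U.ι ''ᵁ B := by
  ext x
  constructor
  · rintro ⟨y, ⟨hA, hB⟩, rfl⟩
    exact ⟨⟨y, hA, rfl⟩, ⟨y, hB, rfl⟩⟩
  · rintro ⟨⟨y, hA, rfl⟩, ⟨y', hB, hy'⟩⟩
    have : y' = y := U.ι.isOpenEmbedding.injective hy'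
    subst this
    exact ⟨y', ⟨hA, hB⟩, rfl⟩

theorem basicOpen_frameF (L : X.Modules) (s : Coh.structureModule X ⟶ L) (U : X.Opens)
    (ε : L.restrict U.ι ≅ Coh.structureModule (↑U : Scheme.{u}))
    (V : (↑U : Scheme.{u}).Opens) :
    X.basicOpen (frameF L s U ε V) = CohB1.genLocus L s ⊓ U.ι ''ᵁ V := by
  have hle : U.ι ''ᵁ V ≤ U := by
    have := Scheme.Hom.image_le_opensRange U.ι V
    rwa [Scheme.Opens.opensRange_ι] at this
  have h1 : CohB1.genLocus L s ⊓ U.ι ''ᵁ V = (CohB1.genLocus L s ⊓ U) ⊓ U.ι ''ᵁ V := by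
    rw [inf_assoc, inf_eq_right.2 hle]
  rw [h1, genLocus_inf_eq_sig L s U ε, ← image_inf_image, inf_comm, ← Scheme.basicOpen_res _ _ (homOfLE (le_top : V ≤ ⊤)).op,
    endFun_map, Scheme.image_basicOpen, Scheme.Opens.ι_appIso]
  rfl

end Groth.Agent.Lib.Helper23.SecTw
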