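import Mathlib
import Groth.Agent.Lib.Helper23SecTw

/-!
# Frames of an invertible module: generators, transition functions, compatibility of twisted extensions (helper23)

* `IsGen L W e`, `isGen_frameE`, `exists_frame` : local frames `(W, e, f)` with `s = f • e`, `X_s ∩ W = D(f)`, `e` a generator
* `exists_transition` : transition functions between frames
* `exists_compat` : local twisted extensions agree on overlaps after multiplying by a power of the coefficient
-/

set_option autoImplicit false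
universe u
open CategoryTheory Limits AlgebraicGeometry TopologicalSpace Opposite TensorProduct MonoidalCategory

namespace Groth.Agent.Lib.Helper23.SecTw
open Groth.Agent.Lib.Helper23.GenLocus Groth.Agent.Lib.Helper23.Extend Groth.Agent.Lib.Helper6

variable {X : Scheme.{u}}

/-- `e` generates `L` over `W`: every section of `L` over a smaller open is uniquely a multiple of `e` -/
def IsGen (L : X.Modules) (W : X.Opens) (e : Γ(L, W)) : Prop :=
  ∀ (W' : X.Opens) (h : W' ≤ W), Function.Bijective (fun r : Γ(X, W') => r • res L h e)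

theorem res_frameE (L : X.Modules) (U : X.Opens) (ε : L.restrict U.ι ≅ Coh.structureModule (↑U : Scheme.{u}))
    {V V' : (↑U : Scheme.{u}).Opens} (h : V' ≤ V) :
    res L (U.ι.image_mono h) (frameE L U ε V) = frameE L U ε V' := by
  have h1 := app_map ε.inv (homOfLE h) (toS V 1)
  rw [map_toS, map_one] at h1
  exact h1.symm

theorem smul_frameE (L : X.Modules) (U : X.Opens) (ε : L.restrict U.ι ≅ Coh.structureModule (↑U : Scheme.{u}))
    (V : (↑U : Scheme.{u}).Opens) (r : Γ(X, U.ι ''ᵁ V)) :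
    r • frameE L U ε V = ε.inv.app V (toS V r) := by
  have h1 : toS V (show Γ((↑U : Scheme.{u}), V) from r) = (show Γ((↑U : Scheme.{u}), V) from r) • toS V 1 := by
    rw [smul_toS, mul_one]
  rw [h1, Scheme.Modules.Hom.app_smul]
  exact (smul_restrict_eq L U V _ _).symm

theorem isGen_frameE (L : X.Modules) (U : X.Opens) (ε : L.restrict U.ι ≅ Coh.structureModule (↑U : Scheme.{u}))
    (V : (↑U : Scheme.{u}).Opens) : IsGen L (U.ι ''ᵁ V) (frameE L U ε V) := by
  intro W' hW'
  have hle : W' ≤ U := hW'.trans (by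
    have := Scheme.Hom.image_le_opensRange U.ι V
    rwa [Scheme.Opens.opensRange_ι] at this)
  obtain ⟨V', hV', rfl⟩ : ∃ V' : (↑U : Scheme.{u}).Opens, V' ≤ V ∧ W' = U.ι ''ᵁ V' := by
    refine ⟨U.ι ⁻¹ᵁ W', ?_, ?_⟩
    · have := U.ι.preimage_mono hW'
      rwa [Scheme.Hom.preimage_image_eq] at this
    · rw [Scheme.Hom.image_preimage_eq_opensRange_inf, Scheme.Opens.opensRange_ι]
      exact (inf_eq_right.2 hle).symm
  have h1 : res L hW' (frameE L U ε V) = frameE L U ε V' := res_frameE L U ε hV'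
  have h2 : (fun r : Γ(X, U.ι ''ᵁ V') => r • res L hW' (frameE L U ε V)) =
      fun r => ε.inv.app V' (toS V' r) := by
    funext r
    rw [h1, smul_frameE]
  rw [h2]
  have hiso : IsIso (ε.inv.app V') := Scheme.Modules.Hom.isIso_iff_isIso_app.1 inferInstance _
  have hb : Function.Bijective (ε.inv.app V') := ConcreteCategory.bijective_of_isIso _
  exact hb.comp ⟨fun a b h => h, fun b => ⟨b, rfl⟩⟩

/-- local frames of an invertible module adapted to a global section -/
theorem exists_frame {X : Scheme.{u}} (L : X.Modules) (hL : PicF.IsInvertible L) (s : Coh.structureModule X ⟶ L) (x : X) :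
    ∃ (W : X.Opens), x ∈ W ∧ IsAffineOpen W ∧ ∃ (e : Γ(L, W)) (f : Γ(X, W)),
      sv s W = f • e ∧ X.basicOpen f = CohB1.genLocus L s ⊓ W ∧ IsGen L W e := by
  obtain ⟨U, hxU, ⟨ε⟩⟩ := hL x
  obtain ⟨V, hV, hxV, -⟩ := exists_isAffineOpen_mem_and_subset (X := (↑U : Scheme.{u})) (x := ⟨x, hxU⟩)
    (U := ⊤) trivial
  exact ⟨U.ι ''ᵁ V, ⟨⟨x, hxU⟩, hxV, rfl⟩, hV.image_of_isOpenImmersion U.ι, frameE L U ε V, frameF L s U ε V,
    val_eq_frame L s U ε V, basicOpen_frameF L s U ε V, isGen_frameE L U ε V⟩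

/-- transition functions between two frames -/
theorem exists_transition (L : X.Modules) (s : Coh.structureModule X ⟶ L) {Wx Wy : X.Opens}
    (ex : Γ(L, Wx)) (ey : Γ(L, Wy)) (fx : Γ(X, Wx)) (fy : Γ(X, Wy))
    (hx : sv s Wx = fx • ex) (hy : sv s Wy = fy • ey) (hgen : IsGen L Wy ey) :
    ∃ g : Γ(X, Wx ⊓ Wy), res L inf_le_left ex = g • res L inf_le_right ey ∧
      resf inf_le_left fx * g = resf inf_le_right fy := by
  obtain ⟨g, hg⟩ := (hgen (Wx ⊓ Wy) inf_le_right).2 (res L inf_le_left ex)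
  replace hg : g • res L (inf_le_right : Wx ⊓ Wy ≤ Wy) ey = res L inf_le_left ex := hg
  refine ⟨g, hg.symm, ?_⟩
  apply (hgen (Wx ⊓ Wy) inf_le_right).1
  change (resf inf_le_left fx * g) • res L inf_le_right ey = resf inf_le_right fy • res L inf_le_right ey
  have h1 : res L (inf_le_left : Wx ⊓ Wy ≤ Wx) (sv s Wx) = res L (inf_le_right : Wx ⊓ Wy ≤ Wy) (sv s Wy) := by
    rw [res_sv, res_sv]
  rw [hx, hy, res_smul, res_smul] at h1
  rw [mul_smul, hg]
  exact h1

theorem tw_sub_left (F L : X.Modules) (U : X.Opens) (t t' : Γ(F, U)) (e : Γ(L, U)) (n : ℕ) :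
    tw F L U (t - t') e n = tw F L U t e n - tw F L U t' e n := tm_sub_left _ _ _ _ _ _

theorem tw_smul_left (F L : X.Modules) (U : X.Opens) (r : Γ(X, U)) (t : Γ(F, U)) (e : Γ(L, U)) (n : ℕ) :
    tw F L U (r • t) e n = r • tw F L U t e n := tm_smul_left _ _ _ _ _ _

theorem resf_mul {U V : X.Opens} (h : V ≤ U) (r r' : Γ(X, U)) : resf h (r * r') = resf h r * resf h r' :=
  map_mul _ _ _

/-- after multiplying by a high power of the coefficient, local twisted extensions agree on overlaps -/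
theorem exists_compat (F L : X.Modules) [F.IsQuasicoherent] (s : Coh.structureModule X ⟶ L)
    (t : Γ(F, CohB1.genLocus L s)) {Wx Wy : X.Opens} (hc : IsCompact ((Wx ⊓ Wy : X.Opens) : Set X))
    (ex : Γ(L, Wx)) (ey : Γ(L, Wy)) (fx : Γ(X, Wx)) (fy : Γ(X, Wy))
    (hx : sv s Wx = fx • ex) (hy : sv s Wy = fy • ey) (hgen : IsGen L Wy ey)
    (hbx : X.basicOpen fx = CohB1.genLocus L s ⊓ Wx) (hby : X.basicOpen fy = CohB1.genLocus L s ⊓ Wy)
    (N : ℕ) (tx : Γ(F, Wx)) (ty : Γ(F, Wy))
    (htx : res F (X.basicOpen_le fx) tx = resf (X.basicOpen_le fx) fx ^ N • res F (hbx.le.trans inf_le_left) t)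
    (hty : res F (X.basicOpen_le fy) ty = resf (X.basicOpen_le fy) fy ^ N • res F (hby.le.trans inf_le_left) t) :
    ∃ m : ℕ, ∀ k, m ≤ k →
      tw F L (Wx ⊓ Wy) (res F inf_le_left (fx ^ k • tx)) (res L inf_le_left ex) (N + k) =
      tw F L (Wx ⊓ Wy) (res F inf_le_right (fy ^ k • ty)) (res L inf_le_right ey) (N + k) := by
  obtain ⟨g, hg1, hg2⟩ := exists_transition L s ex ey fx fy hx hy hgen
  obtain ⟨a, ha⟩ : ∃ a : Γ(X, Wx ⊓ Wy), a = resf inf_le_right fy := ⟨_, rfl⟩
  obtain ⟨u, hu⟩ : ∃ u : Γ(F, Wx ⊓ Wy), u = g ^ N • res F inf_le_left tx - res F inf_le_right ty := ⟨_, rfl⟩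
  have hD : X.basicOpen a = (Wx ⊓ Wy) ⊓ X.basicOpen fy := by rw [ha]; exact Scheme.basicOpen_res _ _ _
  have hDy : X.basicOpen a ≤ X.basicOpen fy := by rw [hD]; exact inf_le_right
  have hDG : X.basicOpen a ≤ CohB1.genLocus L s := hDy.trans (hby.le.trans inf_le_left)
  have hDx : X.basicOpen a ≤ X.basicOpen fx := by
    rw [hbx]
    exact le_inf hDG ((X.basicOpen_le a).trans inf_le_left)
  have h0 : res F (X.basicOpen_le a) u = 0 := by
    have e1 : res F ((X.basicOpen_le a).trans inf_le_left) tx =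
        resf ((X.basicOpen_le a).trans inf_le_left) fx ^ N • res F hDG t := by
      have := congrArg (res F hDx) htx
      rw [res_res, res_smul, resf_pow, resf_resf, res_res] at this
      exact this
    have e2 : res F ((X.basicOpen_le a).trans inf_le_right) ty =
        resf ((X.basicOpen_le a).trans inf_le_right) fy ^ N • res F hDG t := by
      have := congrArg (res F hDy) hty
      rw [res_res, res_smul, resf_pow, resf_resf, res_res] at this
      exact this
    have e3 : resf (X.basicOpen_le a) g * resf ((X.basicOpen_le a).trans inf_le_left) fx =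
        resf ((X.basicOpen_le a).trans inf_le_right) fy := by
      have := congrArg (resf (X.basicOpen_le a)) hg2
      rw [resf_mul, resf_resf, resf_resf] at this
      rw [mul_comm]
      exact this
    rw [hu, res_sub, res_smul, resf_pow, res_res, res_res, e1, e2, ← mul_smul, ← mul_pow, e3, sub_self]
  obtain ⟨m, hm⟩ := Groth.Agent.Lib.Helper23.QCohLocal.exists_pow_smul_eq_zero_qc' hc F a (X.basicOpen a) rfl
    (X.basicOpen_le a) u h0
  refine ⟨m, fun k hk => ?_⟩
  have hk0 : a ^ k • u = 0 := by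
    obtain ⟨j, rfl⟩ := Nat.exists_eq_add_of_le hk
    rw [add_comm, pow_add, mul_smul, hm, smul_zero]
  rw [hg1, tw_smul, ← sub_eq_zero, ← tw_sub_left]
  have : g ^ (N + k) • res F (inf_le_left : Wx ⊓ Wy ≤ Wx) (fx ^ k • tx) - res F (inf_le_right : Wx ⊓ Wy ≤ Wy) (fy ^ k • ty)
      = a ^ k • u := by
    rw [hu, smul_sub, res_smul, res_smul, resf_pow, resf_pow, ← ha, ← mul_smul, ← mul_smul, ha, ← hg2, mul_pow]
    congr 2
    ring
  rw [this, hk0, tw_zero]

end Groth.Agent.Lib.Helper23.SecTw
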