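import Mathlib
import Groth.Agent.Lib.Helper23SecTw2
import Groth.Agent.Lib.Helper23TensorUnit
import Groth.Agent.Lib.Helper23AmpleIso

/-!
# Sections as morphisms, generating locus via frames, invertible modules are quasi-coherent (helper23)

* `secHom M σ : O ⟶ M` for a global section `σ`, `sv_secHom`
* `IsGen.mono`, `app_toS`, `genLocus_inf_eq_of_isGen` : `X_s ∩ W = D(f)` if `s = f • e` with `e` a generator on `W`
* `presentationFree`, `isQuasicoherent_of_isInvertible`
-/

set_option autoImplicit false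
universe u
open CategoryTheory Limits AlgebraicGeometry TopologicalSpace Opposite TensorProduct MonoidalCategory

namespace Groth.Agent.Lib.Helper23.SecTw
open Groth.Agent.Lib.Helper23.GenLocus Groth.Agent.Lib.Helper23.Extend Groth.Agent.Lib.Helper6

variable {X : Scheme.{u}}

theorem map_map_top (M : X.Modules) (σ : Γ(M, ⊤)) {U V : (Opens X)ᵒᵖ} (f : U ⟶ V) :
    M.val.map f (M.val.map (homOfLE (le_top : U.unop ≤ ⊤)).op σ) =
      M.val.map (homOfLE (le_top : V.unop ≤ ⊤)).op σ := by
  have : M.presheaf.map f (M.presheaf.map (homOfLE (le_top : U.unop ≤ ⊤)).op σ) =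
      M.presheaf.map (homOfLE (le_top : V.unop ≤ ⊤)).op σ := by
    rw [← ConcreteCategory.comp_apply, ← M.presheaf.map_comp]
    rfl
  exact this

/-- the morphism `O ⟶ M` attached to a global section -/
noncomputable def secHom (M : X.Modules) (σ : Γ(M, ⊤)) : Coh.structureModule X ⟶ M :=
  M.unitHomEquiv.symm (PresheafOfModules.sectionsMk (fun U => M.val.map (homOfLE (le_top : U.unop ≤ ⊤)).op σ)
    (fun U V f => map_map_top M σ f))

theorem sv_secHom (M : X.Modules) (σ : Γ(M, ⊤)) (U : X.Opens) : sv (secHom M σ) U = res M le_top σ := by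
  have := congrArg (fun τ => τ.val (op U)) (M.unitHomEquiv.apply_symm_apply
    (PresheafOfModules.sectionsMk (fun U => M.val.map (homOfLE (le_top : U.unop ≤ ⊤)).op σ) (fun U V f => map_map_top M σ f)))
  exact this

theorem IsGen.mono {L : X.Modules} {W W₁ : X.Opens} {e : Γ(L, W)} (h : IsGen L W e) (hle : W₁ ≤ W) :
    IsGen L W₁ (res L hle e) := by
  intro W' hW'
  have := h W' (hW'.trans hle)
  have h2 : (fun r : Γ(X, W') => r • res L hW' (res L hle e)) = fun r => r • res L (hW'.trans hle) e := by
    funext r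
    rw [res_res]
  rw [h2]
  exact this

theorem app_toS {L : X.Modules} (s : Coh.structureModule X ⟶ L) (W : X.Opens) (r : Γ(X, W)) :
    s.app W (toS W r) = r • sv s W := by
  have h1 : toS W r = r • toS W 1 := by rw [smul_toS, mul_one]
  rw [h1, Scheme.Modules.Hom.app_smul]
  rfl

/-- the generating locus in terms of a frame -/
theorem genLocus_inf_eq_of_isGen (L : X.Modules) (s : Coh.structureModule X ⟶ L) (W : X.Opens) (e : Γ(L, W))
    (f : Γ(X, W)) (hgen : IsGen L W e) (h : sv s W = f • e) :
    CohB1.genLocus L s ⊓ W = X.basicOpen f := by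
  have hsv : ∀ (W' : X.Opens) (hW' : W' ≤ W), sv s W' = resf hW' f • res L hW' e := by
    intro W' hW'
    rw [← res_sv s hW', h, res_smul]
  apply le_antisymm
  · rintro y ⟨hyG, hyW⟩
    obtain ⟨V, hyV, hV⟩ := (mem_genLocus_iff L s y).1 hyG
    have hiso : IsIso (s.app (V ⊓ W)) := hV _ inf_le_left
    have hbij : Function.Bijective (s.app (V ⊓ W)) := ConcreteCategory.bijective_of_isIso _
    obtain ⟨r₀, hr₀⟩ := hbij.2 (res L (inf_le_right : V ⊓ W ≤ W) e)
    have hr : ofS _ r₀ * resf inf_le_right f = 1 := by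
      apply (hgen (V ⊓ W) inf_le_right).1
      change (ofS _ r₀ * resf inf_le_right f) • res L inf_le_right e = (1 : Γ(X, V ⊓ W)) • res L inf_le_right e
      rw [one_smul, mul_smul, ← hsv, ← app_toS, toS_ofS, hr₀]
    have hu : IsUnit (resf (inf_le_right : V ⊓ W ≤ W) f) := IsUnit.of_mul_eq_one _ (by rw [mul_comm]; exact hr)
    have h1 := X.basicOpen_of_isUnit hu
    rw [Scheme.basicOpen_res] at h1
    have : V ⊓ W ≤ X.basicOpen f := inf_eq_left.1 h1
    exact this ⟨hyV, hyW⟩
  · intro y hy
    refine ⟨(mem_genLocus_iff L s y).2 ⟨X.basicOpen f, hy, fun W' hW' => ?_⟩, X.basicOpen_le f hy⟩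
    have hW'W : W' ≤ W := hW'.trans (X.basicOpen_le f)
    have hu : IsUnit (resf hW'W f) := by
      have h2 : IsUnit (X.presheaf.map (homOfLE hW').op (X.presheaf.map (homOfLE (X.basicOpen_le f)).op f)) :=
        (X.toRingedSpace.isUnit_res_basicOpen f).map _
      rw [← ConcreteCategory.comp_apply, ← Functor.map_comp] at h2
      exact h2
    rw [ConcreteCategory.isIso_iff_bijective]
    have hfun : ⇑(s.app W') = (fun r : Γ(X, W') => r • res L hW'W e) ∘ (fun r : Γ(X, W') => r * resf hW'W f) ∘
        (ofS W') := by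
      funext b
      have := app_toS s W' (ofS W' b)
      rw [toS_ofS] at this
      rw [this, hsv W' hW'W, ← mul_smul]
      rfl
    rw [hfun]
    refine (hgen W' hW'W).comp (Function.Bijective.comp ?_ ⟨fun a b h => h, fun b => ⟨b, rfl⟩⟩)
    obtain ⟨u, hu⟩ := hu
    refine ⟨fun a b hab => ?_, fun b => ⟨b * ↑u⁻¹, ?_⟩⟩
    · have : a * resf hW'W f = b * resf hW'W f := hab
      rw [← hu] at this
      exact (Units.mul_left_inj u).1 this
    · change b * ↑u⁻¹ * resf hW'W f = b
      rw [← hu, mul_assoc, Units.inv_mul, mul_one]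

/-- the tautological presentation of a free module -/
noncomputable def presentationFree (Y : Scheme.{u}) (I : Type u) :
    (SheafOfModules.free (R := Y.ringCatSheaf) I).Presentation where
  generators := SheafOfModules.free.generatingSections I
  relations :=
    { I := ULift Empty
      s := fun j => Empty.rec _ j.down
      epi := IsZero.epi (IsZero.of_iso (isZero_zero _) (Limits.kernel.ofMono _)) _ }

theorem isQuasicoherent_of_isInvertible (L : X.Modules) (hL : PicF.IsInvertible L) : L.IsQuasicoherent := by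
  choose U hxU hε using hL
  have hcov : IsOpenCover U := by
    rw [IsOpenCover, eq_top_iff]
    intro x _
    exact Opens.mem_iSup.2 ⟨x, hxU x⟩
  refine Groth.Agent.Lib.Helper23.QCohLocal.isQuasicoherent_of_presentation L U hcov (fun x => ?_)
  obtain ⟨ε⟩ := hε x
  let P₀ : (Coh.structureModule (↑(U x) : Scheme.{u})).Presentation :=
    SheafOfModules.Presentation.ofIsIso.{u, u, u}
      (coproductUniqueIso (fun (_ : PUnit.{u+1}) ↦ SheafOfModules.unit (↑(U x) : Scheme.{u}).ringCatSheaf)).hom
      (presentationFree (↑(U x) : Scheme.{u}) PUnit.{u+1})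
  have hiso : IsIso (C := SheafOfModules.{u} (↑(U x) : Scheme.{u}).ringCatSheaf) ε.inv :=
    ⟨⟨ε.hom, ε.inv_hom_id, ε.hom_inv_id⟩⟩
  exact ⟨@SheafOfModules.Presentation.ofIsIso.{u, u, u} _ _ _ _ _ _ _ _ ε.inv hiso P₀⟩

end Groth.Agent.Lib.Helper23.SecTw
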