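import Mathlib
import Groth.Agent.Lib.Helper23SecTw3

/-!
# Tensoring with a generator is bijective on sections (helper23)

* `toT`, `resP`, `locInj`, `locSurj` : the sheafification map of the sectionwise tensor product is locally bijective
* `bijective_pt_of_bijective_smul`, `bijective_ptm` : `m ↦ m ⊗ₜ e` is bijective if `e` is a basis
* `injective_tm_of_isGen`, `bijective_tm_of_isGen` : if `e` generates `L` on `W` then `t ↦ t ⊗ e` is bijective
  `Γ(M, V) → Γ(M ⊗ L, V)` for `V ≤ W`
-/

set_option autoImplicit false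
universe u
open CategoryTheory Limits AlgebraicGeometry TopologicalSpace Opposite TensorProduct MonoidalCategory

namespace Groth.Agent.Lib.Helper23.SecTw
open Groth.Agent.Lib.Helper23.GenLocus Groth.Agent.Lib.Helper23.Extend Groth.Agent.Lib.Helper6

section general
variable {C : Type*} [Category C] {R : Cᵒᵖ ⥤ CommRingCat.{u}}
variable (P Q : PresheafOfModules.{u} (R ⋙ forget₂ CommRingCat RingCat)) (Z : Cᵒᵖ)

theorem bijective_pt_of_bijective_smul (q : Q.obj Z) (hq : Function.Bijective (fun r : R.obj Z => r • q)) :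
    Function.Bijective (fun p : P.obj Z => pt P Q Z p q) := by
  let ℓ : (R.obj Z) ≃ₗ[R.obj Z] (Q.obj Z) :=
    LinearEquiv.ofBijective (LinearMap.toSpanSingleton (R.obj Z) (Q.obj Z) q) hq
  let E : (P.obj Z) ≃ₗ[R.obj Z] ((P.obj Z) ⊗[R.obj Z] (Q.obj Z)) :=
    (TensorProduct.rid (R.obj Z) (P.obj Z)).symm ≪≫ₗ TensorProduct.congr (LinearEquiv.refl _ _) ℓ
  have hE : ∀ p : P.obj Z, E p = pt P Q Z p q := by
    intro p
    change (TensorProduct.congr (LinearEquiv.refl _ _) ℓ) ((TensorProduct.rid (R.obj Z) (P.obj Z)).symm p) = _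
    rw [TensorProduct.rid_symm_apply, TensorProduct.congr_tmul]
    change p ⊗ₜ[R.obj Z] ((1 : R.obj Z) • q) = _
    rw [one_smul]
    rfl
  have : (fun p : P.obj Z => pt P Q Z p q) = E := by
    funext p
    exact (hE p).symm
  rw [this]
  exact E.bijective

end general

variable {X : Scheme.{u}}

/-- sections of the sectionwise tensor product -/
abbrev PreSec (M N : X.Modules) (V : X.Opens) : Type u := ↑((CohB1.tensorPre M N).obj (op V))

/-- the sheafification map on sections -/
noncomputable def toT (M N : X.Modules) (V : X.Opens) (p : PreSec M N V) : Γ(CohB1.tensorMod M N, V) :=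
  ((SecTwist.toTensor M N).app (op V)).hom p

/-- restriction of sections of the sectionwise tensor product -/
noncomputable def resP (M N : X.Modules) {U V : X.Opens} (h : V ≤ U) (p : PreSec M N U) : PreSec M N V :=
  ((CohB1.tensorPre M N).map (homOfLE h).op).hom p

theorem toT_resP (M N : X.Modules) {U V : X.Opens} (h : V ≤ U) (p : PreSec M N U) :
    toT M N V (resP M N h p) = res (CohB1.tensorMod M N) h (toT M N U p) :=
  PresheafOfModules.naturality_apply (SecTwist.toTensor M N) (homOfLE h).op p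

theorem locInj (M N : X.Modules) (V : X.Opens) (p p' : PreSec M N V) (h : toT M N V p = toT M N V p') :
    ∀ x ∈ V, ∃ (V' : X.Opens) (hV' : V' ≤ V), x ∈ V' ∧ resP M N hV' p = resP M N hV' p' := by
  have hinj : Presheaf.IsLocallyInjective (Opens.grothendieckTopology X)
      ((PresheafOfModules.toPresheaf _).map (SecTwist.toTensor M N)) := by
    change Presheaf.IsLocallyInjective _ (CategoryTheory.toSheafify _ _)
    infer_instance
  have h1 := Presheaf.equalizerSieve_mem (Opens.grothendieckTopology X)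
    ((PresheafOfModules.toPresheaf _).map (SecTwist.toTensor M N)) (X := op V) p p' h
  intro x hx
  obtain ⟨V', f, hf, hxV'⟩ := h1 x hx
  exact ⟨V', f.le, hxV', hf⟩

theorem locSurj (M N : X.Modules) (V : X.Opens) (y : Γ(CohB1.tensorMod M N, V)) :
    ∀ x ∈ V, ∃ (V' : X.Opens) (hV' : V' ≤ V) (p : PreSec M N V'), x ∈ V' ∧
      toT M N V' p = res (CohB1.tensorMod M N) hV' y := by
  have hsurj : Presheaf.IsLocallySurjective (Opens.grothendieckTopology X)
      ((PresheafOfModules.toPresheaf _).map (SecTwist.toTensor M N)) := by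
    change Presheaf.IsLocallySurjective _ (CategoryTheory.toSheafify _ _)
    infer_instance
  have h1 := Presheaf.imageSieve_mem (Opens.grothendieckTopology X)
    ((PresheafOfModules.toPresheaf _).map (SecTwist.toTensor M N)) (U := op V) y
  intro x hx
  obtain ⟨V', f, ⟨p, hp⟩, hxV'⟩ := h1 x hx
  exact ⟨V', f.le, p, hxV', hp⟩

/-- pure tensors as sections of the sectionwise tensor product -/
noncomputable def ptm (M N : X.Modules) (V : X.Opens) (m : Γ(M, V)) (n : Γ(N, V)) : PreSec M N V :=
  pt (CohB1.toPMod M) (CohB1.toPMod N) (op V) m n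

theorem tm_eq_toT (M N : X.Modules) (V : X.Opens) (m : Γ(M, V)) (n : Γ(N, V)) :
    tm M N V m n = toT M N V (ptm M N V m n) := rfl

theorem resP_ptm (M N : X.Modules) {U V : X.Opens} (h : V ≤ U) (m : Γ(M, U)) (n : Γ(N, U)) :
    resP M N h (ptm M N U m n) = ptm M N V (res M h m) (res N h n) := rfl

theorem bijective_ptm (M N : X.Modules) (V : X.Opens) (e : Γ(N, V))
    (he : Function.Bijective (fun r : Γ(X, V) => r • e)) :
    Function.Bijective (fun m : Γ(M, V) => ptm M N V m e) :=
  bijective_pt_of_bijective_smul (CohB1.toPMod M) (CohB1.toPMod N) (op V) e he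

theorem injective_tm_of_isGen (M L : X.Modules) (W : X.Opens) (e : Γ(L, W)) (hgen : IsGen L W e)
    (V : X.Opens) (hV : V ≤ W) : Function.Injective (fun t : Γ(M, V) => tm M L V t (res L hV e)) := by
  intro t t' htt
  replace htt : toT M L V (ptm M L V t (res L hV e)) = toT M L V (ptm M L V t' (res L hV e)) := htt
  have hloc := locInj M L V _ _ htt
  choose V' hV' hxV' heq using hloc
  refine (modSheaf M).eq_of_locally_eq' (fun x : V => V' x.1 x.2) V (fun x => homOfLE (hV' x.1 x.2)) ?_ t t'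
    (fun x => ?_)
  · intro y hy
    exact Opens.mem_iSup.2 ⟨⟨y, hy⟩, hxV' y hy⟩
  · have h1 := heq x.1 x.2
    rw [resP_ptm, resP_ptm, res_res] at h1
    exact (bijective_ptm M L (V' x.1 x.2) _ (hgen _ ((hV' x.1 x.2).trans hV))).1 h1

theorem bijective_tm_of_isGen (M L : X.Modules) (W : X.Opens) (e : Γ(L, W)) (hgen : IsGen L W e)
    (V : X.Opens) (hV : V ≤ W) : Function.Bijective (fun t : Γ(M, V) => tm M L V t (res L hV e)) := by
  refine ⟨injective_tm_of_isGen M L W e hgen V hV, fun y => ?_⟩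
  have hloc := locSurj M L V y
  choose V' hV' p hxV' hp using hloc
  -- local preimages
  have hq : ∀ (x : X) (hx : x ∈ V), ∃ t : Γ(M, V' x hx), ptm M L (V' x hx) t (res L ((hV' x hx).trans hV) e) = p x hx :=
    fun x hx => (bijective_ptm M L (V' x hx) _ (hgen _ ((hV' x hx).trans hV))).2 (p x hx)
  choose t ht using hq
  have hτ : ∀ (x : X) (hx : x ∈ V), tm M L (V' x hx) (t x hx) (res L ((hV' x hx).trans hV) e) =
      res (CohB1.tensorMod M L) (hV' x hx) y := by
    intro x hx
    rw [tm_eq_toT, ht, hp]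
  have hL : ∀ (x : V) (A : X.Opens) (hA : A ≤ V' x.1 x.2),
      tm M L A (res M hA (t x.1 x.2)) (res L (hA.trans ((hV' x.1 x.2).trans hV)) e) =
        res _ (hA.trans (hV' x.1 x.2)) y := by
    intro x A hA
    have := congrArg (res _ hA) (hτ x.1 x.2)
    rw [res_tm, res_res, res_res] at this
    exact this
  have hcompat : TopCat.Presheaf.IsCompatible (modSheaf M).1 (fun x : V => V' x.1 x.2) (fun x => t x.1 x.2) := by
    intro x x'
    change res M (inf_le_left : V' x.1 x.2 ⊓ V' x'.1 x'.2 ≤ V' x.1 x.2) (t x.1 x.2) =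
      res M (inf_le_right : V' x.1 x.2 ⊓ V' x'.1 x'.2 ≤ V' x'.1 x'.2) (t x'.1 x'.2)
    apply injective_tm_of_isGen M L W e hgen _ (inf_le_left.trans ((hV' x.1 x.2).trans hV))
    change tm M L _ (res M inf_le_left (t x.1 x.2)) (res L _ e) = tm M L _ (res M inf_le_right (t x'.1 x'.2)) (res L _ e)
    exact (hL x _ inf_le_left).trans (hL x' _ inf_le_right).symm
  have hcov : V ≤ ⨆ x : V, V' x.1 x.2 := by
    intro y hy
    exact Opens.mem_iSup.2 ⟨⟨y, hy⟩, hxV' y hy⟩
  obtain ⟨t₀, ht₀⟩ : ∃ t₀ : Γ(M, V), ∀ x : V, res M (hV' x.1 x.2) t₀ = t x.1 x.2 := by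
    obtain ⟨t₀, ht₀, -⟩ := (modSheaf M).existsUnique_gluing' (fun x : V => V' x.1 x.2) V
      (fun x => homOfLE (hV' x.1 x.2)) hcov _ hcompat
    exact ⟨t₀, ht₀⟩
  refine ⟨t₀, ?_⟩
  refine (modSheaf (CohB1.tensorMod M L)).eq_of_locally_eq' (fun x : V => V' x.1 x.2) V
    (fun x => homOfLE (hV' x.1 x.2)) hcov _ _ (fun x => ?_)
  change res _ (hV' x.1 x.2) (tm M L V t₀ (res L hV e)) = res _ (hV' x.1 x.2) y
  rw [res_tm, ht₀, res_res, hτ]

end Groth.Agent.Lib.Helper23.SecTw
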