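import Mathlib
import Groth.Agent.Lib.Helper23SecTw3

/-!
# Gluing morphisms of modules from frames (helper23)

* `exists_hom_of_sections` : a morphism of `O_X`-modules from sectionwise additive, linear, natural maps
* `coef`, `psi` : coefficients w.r.t. a generator, local maps `c • a ↦ c • b`
* `exists_hom_of_frames`, `eq_id_of_frames`, `exists_iso_of_frames` : modules with frames on a common cover having the same
  transition functions are isomorphic (generator to generator)
-/

set_option autoImplicit false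
universe u
open CategoryTheory Limits AlgebraicGeometry TopologicalSpace Opposite TensorProduct MonoidalCategory

namespace Groth.Agent.Lib.Helper23.SecTw
open Groth.Agent.Lib.Helper23.GenLocus Groth.Agent.Lib.Helper23.Extend Groth.Agent.Lib.Helper6

variable {X : Scheme.{u}}

/-- a morphism of modules from sectionwise additive, linear, natural maps -/
theorem exists_hom_of_sections (M N : X.Modules) (φ : ∀ V : X.Opens, Γ(M, V) → Γ(N, V))
    (hadd : ∀ V m m', φ V (m + m') = φ V m + φ V m')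
    (hsmul : ∀ V (r : Γ(X, V)) m, φ V (r • m) = r • φ V m)
    (hres : ∀ (U V : X.Opens) (h : V ≤ U) m, res N h (φ U m) = φ V (res M h m)) :
    ∃ Φ : M ⟶ N, ∀ V m, Φ.app V m = φ V m := by
  let nt : M.presheaf ⟶ N.presheaf :=
    { app := fun U => AddCommGrpCat.ofHom (AddMonoidHom.mk' (φ U.unop) (hadd U.unop))
      naturality := fun U V f => by
        ext m
        have := hres U.unop V.unop f.unop.le m
        exact this.symm }
  let Ψ : M.val ⟶ N.val := PresheafOfModules.homMk nt (fun U r m => hsmul U.unop r m)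
  exact ⟨⟨Ψ⟩, fun V m => rfl⟩

end Groth.Agent.Lib.Helper23.SecTw

namespace Groth.Agent.Lib.Helper23.SecTw
open Groth.Agent.Lib.Helper23.GenLocus Groth.Agent.Lib.Helper23.Extend Groth.Agent.Lib.Helper6

variable {X : Scheme.{u}}

section coef
variable {M : X.Modules} {W : X.Opens} {a : Γ(M, W)}

/-- the coefficient of a section with respect to a generator -/
noncomputable def coef (hgen : IsGen M W a) {A : X.Opens} (hA : A ≤ W) (m : Γ(M, A)) : Γ(X, A) :=
  (Equiv.ofBijective _ (hgen A hA)).symm m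

theorem coef_spec (hgen : IsGen M W a) {A : X.Opens} (hA : A ≤ W) (m : Γ(M, A)) :
    coef hgen hA m • res M hA a = m :=
  (Equiv.ofBijective _ (hgen A hA)).apply_symm_apply m

theorem coef_unique (hgen : IsGen M W a) {A : X.Opens} (hA : A ≤ W) (m : Γ(M, A)) (c : Γ(X, A))
    (h : c • res M hA a = m) : c = coef hgen hA m := by
  apply (hgen A hA).1
  change c • res M hA a = coef hgen hA m • res M hA a
  rw [h, coef_spec]

theorem coef_add (hgen : IsGen M W a) {A : X.Opens} (hA : A ≤ W) (m m' : Γ(M, A)) :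
    coef hgen hA (m + m') = coef hgen hA m + coef hgen hA m' :=
  (coef_unique hgen hA _ _ (by rw [add_smul, coef_spec, coef_spec])).symm

theorem coef_smul (hgen : IsGen M W a) {A : X.Opens} (hA : A ≤ W) (r : Γ(X, A)) (m : Γ(M, A)) :
    coef hgen hA (r • m) = r * coef hgen hA m :=
  (coef_unique hgen hA _ _ (by rw [mul_smul, coef_spec])).symm

theorem coef_res (hgen : IsGen M W a) {A A' : X.Opens} (hA : A ≤ W) (hA' : A' ≤ A) (m : Γ(M, A)) :
    coef hgen (hA'.trans hA) (res M hA' m) = resf hA' (coef hgen hA m) :=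
  (coef_unique hgen (hA'.trans hA) _ _ (by
    have := congrArg (res M hA') (coef_spec hgen hA m)
    rw [res_smul, res_res] at this
    exact this)).symm

end coef

end Groth.Agent.Lib.Helper23.SecTw

namespace Groth.Agent.Lib.Helper23.SecTw
open Groth.Agent.Lib.Helper23.GenLocus Groth.Agent.Lib.Helper23.Extend Groth.Agent.Lib.Helper6

variable {X : Scheme.{u}}

section psi
variable {M N : X.Modules} {W : X.Opens} {a : Γ(M, W)} (b : Γ(N, W))

/-- the local map `c • a ↦ c • b` -/
noncomputable def psi (hgen : IsGen M W a) {A : X.Opens} (hA : A ≤ W) (m : Γ(M, A)) : Γ(N, A) :=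
  coef hgen hA m • res N hA b

theorem psi_add (hgen : IsGen M W a) {A : X.Opens} (hA : A ≤ W) (m m' : Γ(M, A)) :
    psi b hgen hA (m + m') = psi b hgen hA m + psi b hgen hA m' := by
  unfold psi
  rw [coef_add, add_smul]

theorem psi_smul (hgen : IsGen M W a) {A : X.Opens} (hA : A ≤ W) (r : Γ(X, A)) (m : Γ(M, A)) :
    psi b hgen hA (r • m) = r • psi b hgen hA m := by
  unfold psi
  rw [coef_smul, mul_smul]

theorem psi_res (hgen : IsGen M W a) {A A' : X.Opens} (hA : A ≤ W) (hA' : A' ≤ A) (m : Γ(M, A)) :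
    res N hA' (psi b hgen hA m) = psi b hgen (hA'.trans hA) (res M hA' m) := by
  unfold psi
  rw [res_smul, res_res, coef_res]

theorem psi_gen (hgen : IsGen M W a) {A : X.Opens} (hA : A ≤ W) (c : Γ(X, A)) :
    psi b hgen hA (c • res M hA a) = c • res N hA b := by
  unfold psi
  rw [← coef_unique hgen hA (c • res M hA a) c rfl]

end psi

/-- two local maps agree on overlaps under the cocycle condition -/
theorem psi_eq {M N : X.Modules} {W₁ W₂ : X.Opens} {a₁ : Γ(M, W₁)} {a₂ : Γ(M, W₂)} (b₁ : Γ(N, W₁)) (b₂ : Γ(N, W₂))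
    (h₁ : IsGen M W₁ a₁) (h₂ : IsGen M W₂ a₂)
    (hc : ∀ g : Γ(X, W₁ ⊓ W₂), res M inf_le_left a₁ = g • res M inf_le_right a₂ →
      res N inf_le_left b₁ = g • res N inf_le_right b₂)
    {A : X.Opens} (hA₁ : A ≤ W₁) (hA₂ : A ≤ W₂) (m : Γ(M, A)) :
    psi b₁ h₁ hA₁ m = psi b₂ h₂ hA₂ m := by
  obtain ⟨g, hg⟩ : ∃ g : Γ(X, W₁ ⊓ W₂), res M inf_le_left a₁ = g • res M inf_le_right a₂ :=
    ⟨coef h₂ inf_le_right (res M inf_le_left a₁), (coef_spec h₂ inf_le_right _).symm⟩
  have hg' := hc g hg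
  have hA : A ≤ W₁ ⊓ W₂ := le_inf hA₁ hA₂
  have e1 : res M hA₁ a₁ = resf hA g • res M hA₂ a₂ := by
    have := congrArg (res M hA) hg
    rw [res_res, res_smul, res_res] at this
    exact this
  have e2 : res N hA₁ b₁ = resf hA g • res N hA₂ b₂ := by
    have := congrArg (res N hA) hg'
    rw [res_res, res_smul, res_res] at this
    exact this
  have e3 : coef h₂ hA₂ m = coef h₁ hA₁ m * resf hA g := by
    refine (coef_unique h₂ hA₂ m _ ?_).symm
    rw [mul_smul, ← e1, coef_spec]
  unfold psi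
  rw [e3, mul_smul, ← e2]

end Groth.Agent.Lib.Helper23.SecTw

namespace Groth.Agent.Lib.Helper23.SecTw
open Groth.Agent.Lib.Helper23.GenLocus Groth.Agent.Lib.Helper23.Extend Groth.Agent.Lib.Helper6

variable {X : Scheme.{u}}

theorem res_add' (M : X.Modules) {U V : X.Opens} (h : V ≤ U) (s t : Γ(M, U)) :
    res M h (s + t) = res M h s + res M h t := map_add _ _ _

/-- gluing the local maps `c • a i ↦ c • b i` to a morphism of modules -/
theorem exists_hom_of_frames (M N : X.Modules) {ι : Type*} (W : ι → X.Opens) (hcov : ∀ x : X, ∃ i, x ∈ W i)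
    (a : ∀ i, Γ(M, W i)) (b : ∀ i, Γ(N, W i)) (ha : ∀ i, IsGen M (W i) (a i))
    (hc : ∀ i j (g : Γ(X, W i ⊓ W j)), res M inf_le_left (a i) = g • res M inf_le_right (a j) →
      res N inf_le_left (b i) = g • res N inf_le_right (b j)) :
    ∃ Φ : M ⟶ N, ∀ i (A : X.Opens) (hA : A ≤ W i) (c : Γ(X, A)),
      Φ.app A (c • res M hA (a i)) = c • res N hA (b i) := by
  have hcovV : ∀ V : X.Opens, V ≤ ⨆ i, V ⊓ W i := by
    intro V x hx
    obtain ⟨i, hi⟩ := hcov x
    exact Opens.mem_iSup.2 ⟨i, hx, hi⟩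
  have hsep : ∀ (V : X.Opens) (n n' : Γ(N, V)),
      (∀ i, res N (inf_le_left : V ⊓ W i ≤ V) n = res N (inf_le_left : V ⊓ W i ≤ V) n') → n = n' := by
    intro V n n' h
    exact (modSheaf N).eq_of_locally_eq' (fun i => V ⊓ W i) V (fun i => homOfLE inf_le_left) (hcovV V) n n' h
  have hex : ∀ (V : X.Opens) (m : Γ(M, V)), ∃ n : Γ(N, V), ∀ i,
      res N (inf_le_left : V ⊓ W i ≤ V) n =
        psi (b i) (ha i) (inf_le_right : V ⊓ W i ≤ W i) (res M inf_le_left m) := by
    intro V m
    have hcompat : TopCat.Presheaf.IsCompatible (modSheaf N).1 (fun i => V ⊓ W i)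
        (fun i => psi (b i) (ha i) (inf_le_right : V ⊓ W i ≤ W i) (res M inf_le_left m)) := by
      intro i j
      change res N (inf_le_left : (V ⊓ W i) ⊓ (V ⊓ W j) ≤ V ⊓ W i) (psi (b i) (ha i) _ _) =
        res N (inf_le_right : (V ⊓ W i) ⊓ (V ⊓ W j) ≤ V ⊓ W j) (psi (b j) (ha j) _ _)
      rw [psi_res, psi_res, res_res, res_res]
      exact psi_eq (b i) (b j) (ha i) (ha j) (hc i j) _ _ _
    obtain ⟨n, hn, -⟩ := (modSheaf N).existsUnique_gluing' (fun i => V ⊓ W i) V
      (fun i => homOfLE inf_le_left) (hcovV V) _ hcompat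
    exact ⟨n, hn⟩
  choose G hG using hex
  have huniq : ∀ (V : X.Opens) (m : Γ(M, V)) (n : Γ(N, V)), (∀ i, res N (inf_le_left : V ⊓ W i ≤ V) n =
      psi (b i) (ha i) (inf_le_right : V ⊓ W i ≤ W i) (res M inf_le_left m)) → n = G V m := by
    intro V m n hn
    exact hsep V n (G V m) (fun i => (hn i).trans (hG V m i).symm)
  obtain ⟨Φ, hΦ⟩ := exists_hom_of_sections M N G
    (fun V m m' => (huniq V (m + m') _ (fun i => by
      rw [res_add', hG, hG, res_add', psi_add])).symm)
    (fun V r m => (huniq V (r • m) _ (fun i => by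
      rw [res_smul, hG, res_smul, psi_smul])).symm)
    (fun U V h m => huniq V (res M h m) _ (fun i => by
      have e1 : res N (inf_le_left : V ⊓ W i ≤ V) (res N h (G U m)) =
          res N (inf_le_inf_right (W i) h : V ⊓ W i ≤ U ⊓ W i) (res N inf_le_left (G U m)) := by
        rw [res_res, res_res]
      rw [e1, hG, psi_res, res_res, res_res]))
  refine ⟨Φ, fun i A hA c => ?_⟩
  rw [hΦ]
  refine hsep A _ _ (fun j => ?_)
  rw [hG, ← psi_eq (b i) (b j) (ha i) (ha j) (hc i j) (inf_le_left.trans hA) inf_le_right, res_smul, res_smul,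
    res_res, res_res, psi_gen]

end Groth.Agent.Lib.Helper23.SecTw

namespace Groth.Agent.Lib.Helper23.SecTw
open Groth.Agent.Lib.Helper23.GenLocus Groth.Agent.Lib.Helper23.Extend Groth.Agent.Lib.Helper6

variable {X : Scheme.{u}}

theorem eq_id_of_frames (M : X.Modules) {ι : Type*} (W : ι → X.Opens) (hcov : ∀ x : X, ∃ i, x ∈ W i)
    (a : ∀ i, Γ(M, W i)) (ha : ∀ i, IsGen M (W i) (a i)) (χ : M ⟶ M)
    (h : ∀ i (A : X.Opens) (hA : A ≤ W i) (c : Γ(X, A)), χ.app A (c • res M hA (a i)) = c • res M hA (a i)) :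
    χ = 𝟙 M := by
  ext U m
  change χ.app U m = m
  have hcovV : U ≤ ⨆ i, U ⊓ W i := by
    intro x hx
    obtain ⟨i, hi⟩ := hcov x
    exact Opens.mem_iSup.2 ⟨i, hx, hi⟩
  refine (modSheaf M).eq_of_locally_eq' (fun i => U ⊓ W i) U (fun i => homOfLE inf_le_left) hcovV _ _ (fun i => ?_)
  change res M (inf_le_left : U ⊓ W i ≤ U) (χ.app U m) = res M inf_le_left m
  have h1 : res M (inf_le_left : U ⊓ W i ≤ U) (χ.app U m) = χ.app (U ⊓ W i) (res M inf_le_left m) :=
    (app_map χ (homOfLE inf_le_left) m).symm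
  rw [h1, ← coef_spec (ha i) (inf_le_right : U ⊓ W i ≤ W i) (res M inf_le_left m), h]

/-- two modules with frames having the same transition functions are isomorphic -/
theorem exists_iso_of_frames (M N : X.Modules) {ι : Type*} (W : ι → X.Opens) (hcov : ∀ x : X, ∃ i, x ∈ W i)
    (a : ∀ i, Γ(M, W i)) (b : ∀ i, Γ(N, W i)) (ha : ∀ i, IsGen M (W i) (a i)) (hb : ∀ i, IsGen N (W i) (b i))
    (hc : ∀ i j (g : Γ(X, W i ⊓ W j)), res M inf_le_left (a i) = g • res M inf_le_right (a j) →
      res N inf_le_left (b i) = g • res N inf_le_right (b j)) :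
    ∃ Φ : M ≅ N, ∀ i (A : X.Opens) (hA : A ≤ W i) (c : Γ(X, A)),
      Φ.hom.app A (c • res M hA (a i)) = c • res N hA (b i) := by
  have hc' : ∀ i j (g : Γ(X, W i ⊓ W j)), res N inf_le_left (b i) = g • res N inf_le_right (b j) →
      res M inf_le_left (a i) = g • res M inf_le_right (a j) := by
    intro i j g hg
    have h1 := (coef_spec (ha j) inf_le_right (res M inf_le_left (a i))).symm
    have h2 := hc i j _ h1
    have h3 : g = coef (ha j) inf_le_right (res M inf_le_left (a i)) := by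
      apply (hb j _ inf_le_right).1
      change g • res N inf_le_right (b j) = coef (ha j) inf_le_right (res M inf_le_left (a i)) • res N inf_le_right (b j)
      rw [← hg, ← h2]
    rw [h3]
    exact h1
  obtain ⟨Φ, hΦ⟩ := exists_hom_of_frames M N W hcov a b ha hc
  obtain ⟨Ψ, hΨ⟩ := exists_hom_of_frames N M W hcov b a hb hc'
  refine ⟨⟨Φ, Ψ, ?_, ?_⟩, hΦ⟩
  · refine eq_id_of_frames M W hcov a ha _ (fun i A hA c => ?_)
    change Ψ.app A (Φ.app A _) = _
    rw [hΦ, hΨ]
  · refine eq_id_of_frames N W hcov b hb _ (fun i A hA c => ?_)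
    change Φ.app A (Ψ.app A _) = _
    rw [hΨ, hΦ]

end Groth.Agent.Lib.Helper23.SecTw
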