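import Mathlib
import Groth.Agent.Lib.Helper23SecTw4
import Groth.Agent.Lib.Helper23SecTw5

/-!
# Tensor products and powers of invertible modules via frames (helper23)

* `isGen_tm`, `isGen_one`, `isGen_pw`, `exists_gen`, `sv_eq_coef_smul`, `genLocus_inf_eq_coef`
* `genLocus_powHom` (`X_{s^n} = X_s`), `genLocus_tmulHom` (`X_{a ⊗ b} = X_a ∩ X_b`)
* `nonempty_restrict_iso_of_isGen`, `isInvertible_of_isGen`, `isInvertible_tensorMod`, `isInvertible_tensorPow`
* `nonempty_tensorPow_tensorPow_iso` (`(L^a)^b ≅ L^{ab}`), `nonempty_tensorPow_tensorMod_iso` (`L^n ⊗ L'^n ≅ (L ⊗ L')^n`)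
-/

set_option autoImplicit false
universe u
open CategoryTheory Limits AlgebraicGeometry TopologicalSpace Opposite TensorProduct MonoidalCategory

namespace Groth.Agent.Lib.Helper23.SecTw
open Groth.Agent.Lib.Helper23.GenLocus Groth.Agent.Lib.Helper23.Extend Groth.Agent.Lib.Helper6

variable {X : Scheme.{u}}

theorem isGen_tm (M L : X.Modules) (W : X.Opens) (a : Γ(M, W)) (e : Γ(L, W)) (ha : IsGen M W a)
    (he : IsGen L W e) : IsGen (CohB1.tensorMod M L) W (tm M L W a e) := by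
  intro W' hW'
  have h : (fun r : Γ(X, W') => r • res (CohB1.tensorMod M L) hW' (tm M L W a e)) =
      (fun t : Γ(M, W') => tm M L W' t (res L hW' e)) ∘ (fun r : Γ(X, W') => r • res M hW' a) := by
    funext r
    change _ = tm M L W' (r • res M hW' a) (res L hW' e)
    rw [res_tm, tm_smul_left]
  rw [h]
  exact (bijective_tm_of_isGen M L W e he W' hW').comp (ha W' hW')

theorem isGen_one (W : X.Opens) : IsGen (Coh.structureModule X) W (toS W 1) := by
  intro W' hW'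
  have h : (fun r : Γ(X, W') => r • res (Coh.structureModule X) hW' (toS W 1)) = fun r => toS W' r := by
    funext r
    have : res (Coh.structureModule X) hW' (toS W 1) = toS W' 1 := (map_toS (homOfLE hW') 1).trans (by rw [map_one])
    rw [this, smul_toS, mul_one]
  rw [h]
  exact ⟨fun a b h => h, fun b => ⟨b, rfl⟩⟩

theorem isGen_pw (L : X.Modules) (W : X.Opens) (e : Γ(L, W)) (he : IsGen L W e) (n : ℕ) :
    IsGen (CohB1.tensorPow L n) W (pw L W e n) := by
  induction n with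
  | zero => exact isGen_one W
  | succ n ih => exact isGen_tm (CohB1.tensorPow L n) L W (pw L W e n) e ih he

/-- existence of local generators of an invertible module -/
theorem exists_gen (L : X.Modules) (hL : PicF.IsInvertible L) (x : X) :
    ∃ (W : X.Opens) (e : Γ(L, W)), x ∈ W ∧ IsGen L W e := by
  obtain ⟨W, hxW, -, e, -, -, -, hgen⟩ := exists_frame L hL 0 x
  exact ⟨W, e, hxW, hgen⟩

theorem res_self (M : X.Modules) {U : X.Opens} (m : Γ(M, U)) : res M (le_refl U) m = m := by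
  change M.presheaf.map (𝟙 _) m = m
  rw [M.presheaf.map_id]; rfl

/-- the coefficient of a section in a frame -/
theorem sv_eq_coef_smul {L : X.Modules} (s : Coh.structureModule X ⟶ L) {W : X.Opens} {e : Γ(L, W)}
    (he : IsGen L W e) : sv s W = coef he le_rfl (sv s W) • e := by
  have := coef_spec he le_rfl (sv s W)
  rw [res_self] at this
  exact this.symm

theorem genLocus_inf_eq_coef {L : X.Modules} (s : Coh.structureModule X ⟶ L) {W : X.Opens} {e : Γ(L, W)}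
    (he : IsGen L W e) : CohB1.genLocus L s ⊓ W = X.basicOpen (coef he le_rfl (sv s W)) :=
  genLocus_inf_eq_of_isGen L s W e _ he (sv_eq_coef_smul s he)

theorem opens_eq_of_cover (A B : X.Opens) (h : ∀ x : X, ∃ W : X.Opens, x ∈ W ∧ A ⊓ W = B ⊓ W) : A = B := by
  apply le_antisymm
  · intro x hx
    obtain ⟨W, hxW, hW⟩ := h x
    have : x ∈ A ⊓ W := ⟨hx, hxW⟩
    rw [hW] at this
    exact this.1
  · intro x hx
    obtain ⟨W, hxW, hW⟩ := h x
    have : x ∈ B ⊓ W := ⟨hx, hxW⟩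
    rw [← hW] at this
    exact this.1

theorem sv_powHom {L : X.Modules} (s : Coh.structureModule X ⟶ L) (n : ℕ) (W : X.Opens) :
    sv (SecTwist.powHom s n) W = pw L W (sv s W) n :=
  (SecTwist.val_powHom s n W).trans (pow_eq_pw s n W)

theorem sv_tmulHom {M N : X.Modules} (a : Coh.structureModule X ⟶ M) (b : Coh.structureModule X ⟶ N)
    (W : X.Opens) : sv (SecTwist.tmulHom a b) W = tm M N W (sv a W) (sv b W) :=
  SecTwist.val_tmulHom a b W

/-- `X_{s^{⊗ n}} = X_s` for `n > 0` -/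
theorem genLocus_powHom {L : X.Modules} (hL : PicF.IsInvertible L) (s : Coh.structureModule X ⟶ L) (n : ℕ)
    (hn : 0 < n) : CohB1.genLocus (CohB1.tensorPow L n) (SecTwist.powHom s n) = CohB1.genLocus L s := by
  refine opens_eq_of_cover _ _ (fun x => ?_)
  obtain ⟨W, e, hxW, he⟩ := exists_gen L hL x
  refine ⟨W, hxW, ?_⟩
  rw [genLocus_inf_eq_coef s he]
  have h1 : sv (SecTwist.powHom s n) W = coef he le_rfl (sv s W) ^ n • pw L W e n := by
    rw [sv_powHom]
    conv_lhs => rw [sv_eq_coef_smul s he]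
    rw [pw_smul]
  rw [genLocus_inf_eq_of_isGen _ _ W _ _ (isGen_pw L W e he n) h1]
  exact Scheme.basicOpen_pow (X := X) _ hn

/-- `X_{a ⊗ b} = X_a ∩ X_b` -/
theorem genLocus_tmulHom {M N : X.Modules} (hM : PicF.IsInvertible M) (hN : PicF.IsInvertible N)
    (a : Coh.structureModule X ⟶ M) (b : Coh.structureModule X ⟶ N) :
    CohB1.genLocus (CohB1.tensorMod M N) (SecTwist.tmulHom a b) = CohB1.genLocus M a ⊓ CohB1.genLocus N b := by
  refine opens_eq_of_cover _ _ (fun x => ?_)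
  obtain ⟨W₁, e₁, hxW₁, he₁⟩ := exists_gen M hM x
  obtain ⟨W₂, e₂, hxW₂, he₂⟩ := exists_gen N hN x
  have h₁ := he₁.mono (inf_le_left : W₁ ⊓ W₂ ≤ W₁)
  have h₂ := he₂.mono (inf_le_right : W₁ ⊓ W₂ ≤ W₂)
  refine ⟨W₁ ⊓ W₂, ⟨hxW₁, hxW₂⟩, ?_⟩
  have h3 : sv (SecTwist.tmulHom a b) (W₁ ⊓ W₂) =
      (coef h₁ le_rfl (sv a (W₁ ⊓ W₂)) * coef h₂ le_rfl (sv b (W₁ ⊓ W₂))) •
        tm M N (W₁ ⊓ W₂) (res M inf_le_left e₁) (res N inf_le_right e₂) := by
    rw [sv_tmulHom]
    conv_lhs => rw [sv_eq_coef_smul a h₁, sv_eq_coef_smul b h₂]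
    rw [tm_smul_left, tm_smul_right, ← mul_smul]
  rw [genLocus_inf_eq_of_isGen _ _ (W₁ ⊓ W₂) _ _ (isGen_tm M N _ _ _ h₁ h₂) h3, Scheme.basicOpen_mul,
    ← genLocus_inf_eq_coef a h₁, ← genLocus_inf_eq_coef b h₂]
  ext y
  simp only [Opens.coe_inf, Set.mem_inter_iff, SetLike.mem_coe]
  tauto

/-- a generator of `M` on `W` trivialises `M` on `W` -/
theorem nonempty_restrict_iso_of_isGen (M : X.Modules) (W : X.Opens) (e : Γ(M, W)) (he : IsGen M W e) :
    Nonempty (M.restrict W.ι ≅ Coh.structureModule (↑W : Scheme.{u})) := by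
  have htop : W.ι ''ᵁ ⊤ ≤ W := by
    have := Scheme.Hom.image_le_opensRange W.ι ⊤
    rwa [Scheme.Opens.opensRange_ι] at this
  let e' : Γ(M.restrict W.ι, ⊤) := res M htop e
  let φ : Coh.structureModule (↑W : Scheme.{u}) ⟶ M.restrict W.ι := secHom (M.restrict W.ι) e'
  have hiso : IsIso φ := by
    rw [Scheme.Modules.Hom.isIso_iff_isIso_app]
    intro V
    rw [ConcreteCategory.isIso_iff_bijective]
    have hVW : W.ι ''ᵁ V ≤ W := (W.ι.image_mono le_top).trans htop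
    have hfun : ⇑(φ.app V) = (fun r : Γ(X, W.ι ''ᵁ V) => r • res M hVW e) ∘ (ofS V) := by
      funext b
      have h1 := app_toS φ V (ofS V b)
      rw [toS_ofS] at h1
      rw [h1, sv_secHom]
      have h2 : res (M.restrict W.ι) (le_top : V ≤ ⊤) e' = res M hVW e := by
        change res M (W.ι.image_mono le_top) (res M htop e) = _
        rw [res_res]
      rw [h2]
      exact smul_restrict_eq M W V _ _
    rw [hfun]
    exact (he _ hVW).comp ⟨fun a b h => h, fun b => ⟨b, rfl⟩⟩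
  exact ⟨(asIso φ).symm⟩

theorem isInvertible_of_isGen (M : X.Modules) (h : ∀ x : X, ∃ (W : X.Opens) (e : Γ(M, W)), x ∈ W ∧ IsGen M W e) :
    PicF.IsInvertible M := by
  intro x
  obtain ⟨W, e, hxW, he⟩ := h x
  exact ⟨W, hxW, nonempty_restrict_iso_of_isGen M W e he⟩

theorem isInvertible_tensorMod {M N : X.Modules} (hM : PicF.IsInvertible M) (hN : PicF.IsInvertible N) :
    PicF.IsInvertible (CohB1.tensorMod M N) := by
  refine isInvertible_of_isGen _ (fun x => ?_)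
  obtain ⟨W₁, e₁, hxW₁, he₁⟩ := exists_gen M hM x
  obtain ⟨W₂, e₂, hxW₂, he₂⟩ := exists_gen N hN x
  exact ⟨W₁ ⊓ W₂, _, ⟨hxW₁, hxW₂⟩, isGen_tm M N _ _ _ (he₁.mono inf_le_left) (he₂.mono inf_le_right)⟩

theorem isInvertible_tensorPow {L : X.Modules} (hL : PicF.IsInvertible L) (n : ℕ) :
    PicF.IsInvertible (CohB1.tensorPow L n) := by
  refine isInvertible_of_isGen _ (fun x => ?_)
  obtain ⟨W, e, hxW, he⟩ := exists_gen L hL x
  exact ⟨W, _, hxW, isGen_pw L W e he n⟩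

/-- the type of frames of a module -/
abbrev Fr (L : X.Modules) : Type u := {p : Σ W : X.Opens, Γ(L, W) // IsGen L p.1 p.2}

theorem cocycle_of_transition {M N : X.Modules} {W₁ W₂ : X.Opens} {a₁ : Γ(M, W₁)} {a₂ : Γ(M, W₂)}
    {b₁ : Γ(N, W₁)} {b₂ : Γ(N, W₂)} (h₂ : IsGen M W₂ a₂) (c : Γ(X, W₁ ⊓ W₂))
    (h1 : res M inf_le_left a₁ = c • res M inf_le_right a₂)
    (h2 : res N inf_le_left b₁ = c • res N inf_le_right b₂) :
    ∀ g : Γ(X, W₁ ⊓ W₂), res M inf_le_left a₁ = g • res M inf_le_right a₂ →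
      res N inf_le_left b₁ = g • res N inf_le_right b₂ := by
  intro g hg
  have : g = c := (h₂ _ inf_le_right).1 (show g • res M inf_le_right a₂ = c • res M inf_le_right a₂ from
    hg.symm.trans h1)
  rw [this]
  exact h2

theorem exists_transition' {L : X.Modules} {W₁ W₂ : X.Opens} (e₁ : Γ(L, W₁)) {e₂ : Γ(L, W₂)} (he₂ : IsGen L W₂ e₂) :
    ∃ γ : Γ(X, W₁ ⊓ W₂), res L inf_le_left e₁ = γ • res L inf_le_right e₂ :=
  ⟨coef he₂ inf_le_right _, (coef_spec he₂ inf_le_right _).symm⟩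

/-- `(L^{⊗ a})^{⊗ b} ≅ L^{⊗ ab}` -/
theorem nonempty_tensorPow_tensorPow_iso (L : X.Modules) (hL : PicF.IsInvertible L) (a b c : ℕ) (h : a * b = c) :
    Nonempty (CohB1.tensorPow (CohB1.tensorPow L a) b ≅ CohB1.tensorPow L c) := by
  subst h
  obtain ⟨Φ, -⟩ := exists_iso_of_frames (CohB1.tensorPow (CohB1.tensorPow L a) b) (CohB1.tensorPow L (a * b))
    (fun p : Fr L => p.1.1)
    (fun x => by
      obtain ⟨W, e, hxW, he⟩ := exists_gen L hL x
      exact ⟨⟨⟨W, e⟩, he⟩, hxW⟩)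
    (fun p => pw (CohB1.tensorPow L a) p.1.1 (pw L p.1.1 p.1.2 a) b)
    (fun p => pw L p.1.1 p.1.2 (a * b))
    (fun p => isGen_pw _ _ _ (isGen_pw L _ _ p.2 a) b)
    (fun p => isGen_pw L _ _ p.2 (a * b))
    (fun p q => by
      obtain ⟨γ, hγ⟩ := exists_transition' p.1.2 q.2
      refine cocycle_of_transition (isGen_pw _ _ _ (isGen_pw L _ _ q.2 a) b) ((γ ^ a) ^ b) ?_ ?_
      · rw [res_pw, res_pw, hγ, pw_smul, pw_smul, res_pw, res_pw]
      · rw [res_pw, hγ, pw_smul, res_pw, pow_mul])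
  exact ⟨Φ⟩

/-- `L^{⊗ n} ⊗ L'^{⊗ n} ≅ (L ⊗ L')^{⊗ n}` -/
theorem nonempty_tensorPow_tensorMod_iso (L L' : X.Modules) (hL : PicF.IsInvertible L) (hL' : PicF.IsInvertible L')
    (n : ℕ) :
    Nonempty (CohB1.tensorMod (CohB1.tensorPow L n) (CohB1.tensorPow L' n) ≅
      CohB1.tensorPow (CohB1.tensorMod L L') n) := by
  obtain ⟨Φ, -⟩ := exists_iso_of_frames (CohB1.tensorMod (CohB1.tensorPow L n) (CohB1.tensorPow L' n))
    (CohB1.tensorPow (CohB1.tensorMod L L') n)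
    (fun p : Fr L × Fr L' => p.1.1.1 ⊓ p.2.1.1)
    (fun x => by
      obtain ⟨W, e, hxW, he⟩ := exists_gen L hL x
      obtain ⟨W', e', hxW', he'⟩ := exists_gen L' hL' x
      exact ⟨⟨⟨⟨W, e⟩, he⟩, ⟨⟨W', e'⟩, he'⟩⟩, hxW, hxW'⟩)
    (fun p => tm _ _ _ (pw L _ (res L inf_le_left p.1.1.2) n) (pw L' _ (res L' inf_le_right p.2.1.2) n))
    (fun p => pw _ _ (tm L L' _ (res L inf_le_left p.1.1.2) (res L' inf_le_right p.2.1.2)) n)
    (fun p => isGen_tm _ _ _ _ _ (isGen_pw L _ _ (p.1.2.mono inf_le_left) n) (isGen_pw L' _ _ (p.2.2.mono inf_le_right) n))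
    (fun p => isGen_pw _ _ _ (isGen_tm L L' _ _ _ (p.1.2.mono inf_le_left) (p.2.2.mono inf_le_right)) n)
    (fun p q => by
      obtain ⟨γ, hγ⟩ := exists_transition' (res L inf_le_left p.1.1.2) (q.1.2.mono (inf_le_left : q.1.1.1 ⊓ q.2.1.1 ≤ _))
      obtain ⟨γ', hγ'⟩ := exists_transition' (res L' inf_le_right p.2.1.2)
        (q.2.2.mono (inf_le_right : q.1.1.1 ⊓ q.2.1.1 ≤ _))
      refine cocycle_of_transition (isGen_tm _ _ _ _ _ (isGen_pw L _ _ (q.1.2.mono inf_le_left) n)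
        (isGen_pw L' _ _ (q.2.2.mono inf_le_right) n)) (γ ^ n * γ' ^ n) ?_ ?_
      · rw [res_tm, res_pw, res_pw, hγ, hγ', pw_smul, pw_smul, tm_smul_left, tm_smul_right, ← mul_smul,
          res_tm, res_pw, res_pw]
      · rw [res_pw, res_tm, hγ, hγ', tm_smul_left, tm_smul_right, ← mul_smul, pw_smul, res_pw, res_tm, mul_pow])
  exact ⟨Φ⟩

end Groth.Agent.Lib.Helper23.SecTw
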