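import Mathlib
import Groth.Agent.Lib.Helper23SecTw6
import Groth.Agent.Lib.Helper23Serre
import Groth.Agent.S2350
import Groth.Agent.S15744

/-!
# Ample modules: the opens `X_s` form a basis (helper23)

* `isAffineOpen_inf_genLocus` : `U ∩ X_s` is affine for affine `U` (from S2350)
* `bijective_app_of_cover`, `isGen_sv_genLocus` : `s` generates `L` on `X_s`
* `exists_section_genLocus_eq_basicOpen` : on a qcqs scheme, `D(g) ⊆ X_s` is `X_τ` for a section `τ` of a power
* `quasiSeparatedSpace_of_cover`, `quasiSeparatedSpace_of_isAmple`, `exists_genLocus_nhd_of_isAmple`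
-/

set_option autoImplicit false
universe u
open CategoryTheory Limits AlgebraicGeometry TopologicalSpace Opposite TensorProduct MonoidalCategory

namespace Groth.Agent.Lib.Helper23.SecTw
open Groth.Agent.Lib.Helper23.GenLocus Groth.Agent.Lib.Helper23.Extend Groth.Agent.Lib.Helper6
open Groth.Agent.Lib.Helper23.TensorUnit Groth.Agent.Lib.Helper23.AmpleIso

variable {X : Scheme.{u}}

theorem isAffineOpen_inf_genLocus (L : X.Modules) (hL : PicF.IsInvertible L)
    (s : Coh.structureModule X ⟶ L) (U : X.Opens) (hU : IsAffineOpen U) :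
    IsAffineOpen (U ⊓ CohB1.genLocus L s) := by
  have h1 : IsAffineHom (CohB1.genLocus L s).ι := Groth.Agent.S2350.result X L hL s
  have h2 : IsAffineOpen ((CohB1.genLocus L s).ι ⁻¹ᵁ U) := hU.preimage (CohB1.genLocus L s).ι
  have h3 := h2.image_of_isOpenImmersion (CohB1.genLocus L s).ι
  rw [Scheme.Hom.image_preimage_eq_opensRange_inf, Scheme.Opens.opensRange_ι, inf_comm] at h3
  exact h3

/-- a morphism which is bijective on all small opens around every point of `W` is bijective on `W` -/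
theorem bijective_app_of_cover {A B : X.Modules} (m : A ⟶ B) (W : X.Opens)
    (h : ∀ x ∈ W, ∃ V : X.Opens, x ∈ V ∧ IsoOn m V) : Function.Bijective (m.app W) := by
  choose V hxV hV using h
  have hcov : W ≤ ⨆ x : W, W ⊓ V x.1 x.2 := by
    intro y hy
    exact Opens.mem_iSup.2 ⟨⟨y, hy⟩, hy, hxV y hy⟩
  have hbij : ∀ (x : W) (W' : X.Opens), W' ≤ W ⊓ V x.1 x.2 → Function.Bijective (m.app W') := by
    intro x W' hW'
    have := hV x.1 x.2 W' (hW'.trans inf_le_right)
    exact ConcreteCategory.bijective_of_isIso _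
  constructor
  · intro a a' haa
    refine (modSheaf A).eq_of_locally_eq' (fun x : W => W ⊓ V x.1 x.2) W (fun x => homOfLE inf_le_left) hcov a a'
      (fun x => ?_)
    apply (hbij x _ le_rfl).1
    change m.app _ (res A inf_le_left a) = m.app _ (res A inf_le_left a')
    have e1 := app_map m (homOfLE (inf_le_left : W ⊓ V x.1 x.2 ≤ W)) a
    have e2 := app_map m (homOfLE (inf_le_left : W ⊓ V x.1 x.2 ≤ W)) a'
    exact e1.trans ((congrArg _ haa).trans e2.symm)
  · intro b
    have hloc : ∀ x : W, ∃ a : Γ(A, W ⊓ V x.1 x.2), m.app _ a = res B inf_le_left b :=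
      fun x => (hbij x _ le_rfl).2 _
    choose a ha using hloc
    have hcompat : TopCat.Presheaf.IsCompatible (modSheaf A).1 (fun x : W => W ⊓ V x.1 x.2) a := by
      intro x x'
      change res A (inf_le_left : (W ⊓ V x.1 x.2) ⊓ (W ⊓ V x'.1 x'.2) ≤ _) (a x) =
        res A (inf_le_right : (W ⊓ V x.1 x.2) ⊓ (W ⊓ V x'.1 x'.2) ≤ _) (a x')
      apply (hbij x _ inf_le_left).1
      have e1 := app_map m (homOfLE (inf_le_left : (W ⊓ V x.1 x.2) ⊓ (W ⊓ V x'.1 x'.2) ≤ _)) (a x)
      have e2 := app_map m (homOfLE (inf_le_right : (W ⊓ V x.1 x.2) ⊓ (W ⊓ V x'.1 x'.2) ≤ _)) (a x')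
      refine e1.trans (Eq.trans ?_ e2.symm)
      change res B _ (m.app _ (a x)) = res B _ (m.app _ (a x'))
      rw [ha, ha, res_res, res_res]
    obtain ⟨a₀, ha₀⟩ : ∃ a₀ : Γ(A, W), ∀ x : W, res A inf_le_left a₀ = a x := by
      obtain ⟨a₀, ha₀, -⟩ := (modSheaf A).existsUnique_gluing' (fun x : W => W ⊓ V x.1 x.2) W
        (fun x => homOfLE inf_le_left) hcov a hcompat
      exact ⟨a₀, ha₀⟩
    refine ⟨a₀, ?_⟩
    refine (modSheaf B).eq_of_locally_eq' (fun x : W => W ⊓ V x.1 x.2) W (fun x => homOfLE inf_le_left) hcov _ _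
      (fun x => ?_)
    change res B inf_le_left (m.app W a₀) = res B inf_le_left b
    have e1 := app_map m (homOfLE (inf_le_left : W ⊓ V x.1 x.2 ≤ W)) a₀
    refine e1.symm.trans ?_
    change m.app _ (res A inf_le_left a₀) = _
    rw [ha₀, ha]

/-- a section generates its module on its generating locus -/
theorem isGen_sv_genLocus (L : X.Modules) (s : Coh.structureModule X ⟶ L) :
    IsGen L (CohB1.genLocus L s) (sv s (CohB1.genLocus L s)) := by
  intro W' hW'
  have h1 : Function.Bijective (s.app W') :=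
    bijective_app_of_cover s W' (fun x hx => (mem_genLocus_iff L s x).1 (hW' hx))
  have hfun : (fun r : Γ(X, W') => r • res L hW' (sv s (CohB1.genLocus L s))) = ⇑(s.app W') ∘ toS W' := by
    funext r
    rw [res_sv]
    exact (app_toS s W' r).symm
  rw [hfun]
  exact h1.comp ⟨fun a b h => h, fun b => ⟨b, rfl⟩⟩

/-- For a section `s` of an invertible `M` on a qcqs scheme and a function `g` on `X_s`, the basic open `D(g) ⊆ X_s` is the
generating locus of a section of a positive power of `M`. -/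
theorem exists_section_genLocus_eq_basicOpen [CompactSpace X] [QuasiSeparatedSpace X] (M : X.Modules)
    (hM : PicF.IsInvertible M) (s : Coh.structureModule X ⟶ M) (g : Γ(X, CohB1.genLocus M s)) :
    ∃ (n : ℕ) (τ : Coh.structureModule X ⟶ CohB1.tensorPow M (n + 1)),
      CohB1.genLocus (CohB1.tensorPow M (n + 1)) τ = X.basicOpen g := by
  haveI : (Coh.structureModule X).IsQuasicoherent := Groth.Agent.Lib.Helper23.Serre.isQuasicoherent_structureModule' X
  obtain ⟨n, -, t', ht'⟩ := Groth.Agent.S15744.main X M hM s (Coh.structureModule X) (toS _ g)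
  let t'' : Coh.structureModule X ⟶ CohB1.tensorPow M n :=
    secHom _ t' ≫ (unitTensorIso (CohB1.tensorPow M n)).hom
  let τ : Coh.structureModule X ⟶ CohB1.tensorPow M (n + 1) := SecTwist.tmulHom t'' s
  refine ⟨n, τ, ?_⟩
  have h1 : CohB1.genLocus (CohB1.tensorPow M (n + 1)) τ =
      CohB1.genLocus (CohB1.tensorPow M n) t'' ⊓ CohB1.genLocus M s :=
    genLocus_tmulHom (isInvertible_tensorPow hM n) hM t'' s
  have h2 : CohB1.genLocus (CohB1.tensorPow M n) t'' = CohB1.genLocus _ (secHom _ t') :=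
    genLocus_comp_iso _ _
  have hgen := isGen_sv_genLocus M s
  have h3 : sv (secHom _ t') (CohB1.genLocus M s) =
      g • tm (Coh.structureModule X) (CohB1.tensorPow M n) _ (toS _ 1) (pw M _ (sv s (CohB1.genLocus M s)) n) := by
    rw [sv_secHom, ht', ← tm_smul_left, smul_toS, mul_one]
    rfl
  have h4 := genLocus_inf_eq_of_isGen _ (secHom _ t') (CohB1.genLocus M s) _ g
    (isGen_tm _ _ _ _ _ (isGen_one _) (isGen_pw M _ _ hgen n)) h3
  rw [h1, h2, h4]

/-- a scheme covered by affine generating loci is quasi-separated -/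
theorem quasiSeparatedSpace_of_cover (L : X.Modules) (hL : PicF.IsInvertible L)
    (h : ∀ x : X, ∃ (n : ℕ) (s : Coh.structureModule X ⟶ CohB1.tensorPow L (n + 1)),
      x ∈ CohB1.genLocus _ s ∧ IsAffineOpen (CohB1.genLocus _ s)) : QuasiSeparatedSpace X := by
  choose n s hxs haff using h
  refine Scheme.quasiSeparatedSpace_of_isOpenCover (fun x : X => CohB1.genLocus _ (s x)) ?_ haff (fun x y => ?_)
  · rw [IsOpenCover, eq_top_iff]
    intro x _
    exact Opens.mem_iSup.2 ⟨x, hxs x⟩
  · exact (isAffineOpen_inf_genLocus _ (isInvertible_tensorPow hL _) (s y) _ (haff x)).isCompact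

theorem quasiSeparatedSpace_of_isAmple (L : X.Modules) (hL : CohB1.IsAmple L) : QuasiSeparatedSpace X :=
  quasiSeparatedSpace_of_cover L hL.1 hL.2.2

/-- for an ample `L`, the affine opens `X_σ` form a basis -/
theorem exists_genLocus_nhd_of_isAmple (L : X.Modules) (hL : CohB1.IsAmple L) (U : X.Opens) (x : X) (hx : x ∈ U) :
    ∃ (n : ℕ) (σ : Coh.structureModule X ⟶ CohB1.tensorPow L (n + 1)),
      x ∈ CohB1.genLocus _ σ ∧ CohB1.genLocus _ σ ≤ U ∧ IsAffineOpen (CohB1.genLocus _ σ) := by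
  haveI := quasiSeparatedSpace_of_isAmple L hL
  obtain ⟨hinv, hc, h⟩ := hL
  haveI := hc
  obtain ⟨k, s, hxs, haff⟩ := h x
  obtain ⟨g, hgU, hxg⟩ := haff.exists_basicOpen_le (V := U) ⟨x, hx⟩ hxs
  obtain ⟨n, τ, hτ⟩ := exists_section_genLocus_eq_basicOpen _ (isInvertible_tensorPow hinv (k + 1)) s g
  obtain ⟨N', hN'⟩ : ∃ N', (k + 1) * (n + 1) = N' + 1 := ⟨(k + 1) * (n + 1) - 1, by
    have : 0 < (k + 1) * (n + 1) := Nat.mul_pos (Nat.succ_pos k) (Nat.succ_pos n)
    omega⟩
  obtain ⟨Φ⟩ := nonempty_tensorPow_tensorPow_iso L hinv (k + 1) (n + 1) (N' + 1) hN'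
  refine ⟨N', τ ≫ Φ.hom, ?_⟩
  rw [genLocus_comp_iso, hτ]
  exact ⟨hxg, hgU, haff.basicOpen g⟩

end Groth.Agent.Lib.Helper23.SecTw
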