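import Mathlib
import Groth.Prelude.Def_FlatMod2
import Groth.Agent.Lib.Helper2RankLoc
import Groth.Agent.Lib.Helper2FPAff
import Groth.Agent.Lib.Helper2Div

/-!
# Finite locally free modules of constant rank are free near finitely many points of an affine open (helper2)

Namespace `Groth.Agent.Lib.Helper2.SemiLocFree`.

* `avoid ps`: the multiplicative set of elements outside finitely many primes; `finite_maximalSpectrum`: its
  localization is semilocal; `exists_comap_le`.
* `finrank_quotient_tensor`: `dim_{R/P} (R/P ⊗ M) = rankAtStalk M P` for maximal `P`, `M` finite flat.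
* `exists_basis_away`: a finitely presented flat module of rank `r` at finitely many primes has a basis of `r`
  elements over some `A_g`, `g` outside those primes.
* `nonempty_basis_of_isLocalizedModule`: transport of a basis between two models of a localization.
* `rankAtStalk_sections`, `exists_basicOpen_iso_freeMod`: the geometric statements.
-/

set_option autoImplicit false
set_option linter.style.haveILetI false
universe u
open CategoryTheory Limits AlgebraicGeometry TopologicalSpace Opposite TensorProduct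

namespace Groth.Agent.Lib.Helper2.SemiLocFree

section semilocal

variable {A : Type u} [CommRing A] (ps : Finset (PrimeSpectrum A))

/-- the multiplicative set of elements avoiding finitely many primes. -/
def avoid : Submonoid A where
  carrier := {a | ∀ q ∈ ps, a ∉ q.asIdeal}
  one_mem' := fun q _ h => q.isPrime.ne_top ((Ideal.eq_top_iff_one _).2 h)
  mul_mem' := by
    intro a b ha hb q hq hab
    rcases q.isPrime.mem_or_mem hab with h | h
    · exact ha q hq h
    · exact hb q hq h

theorem mem_avoid {a : A} : a ∈ avoid ps ↔ ∀ q ∈ ps, a ∉ q.asIdeal := Iff.rfl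

theorem disjoint_avoid {q : PrimeSpectrum A} (hq : q ∈ ps) :
    Disjoint (avoid ps : Set A) (q.asIdeal : Set A) := by
  rw [Set.disjoint_left]
  intro a ha haq
  exact ha q hq haq

theorem exists_le_of_disjoint (I : Ideal A) (hI : Disjoint (avoid ps : Set A) (I : Set A)) :
    ∃ q ∈ ps, I ≤ q.asIdeal := by
  classical
  have h : (I : Set A) ⊆ ⋃ q ∈ (↑ps : Set (PrimeSpectrum A)), (q.asIdeal : Set A) := by
    intro a ha
    by_contra hcon
    simp only [Set.mem_iUnion, not_exists] at hcon
    have : a ∈ avoid ps := fun q hq haq => hcon q (by simpa using hq) haq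
    exact Set.disjoint_left.1 hI this ha
  rcases ps.eq_empty_or_nonempty with hps | ⟨q0, hq0⟩
  · subst hps
    have := h I.zero_mem
    simp at this
  · exact (Ideal.subset_union_prime (s := ps) (f := fun q => q.asIdeal) q0 q0
      (fun q _ _ _ => q.isPrime)).1 h

variable (R : Type u) [CommRing R] [Algebra A R] [IsLocalization (avoid ps) R]

theorem exists_comap_le (P : Ideal R) (hP : P ≠ ⊤) :
    ∃ q ∈ ps, P.comap (algebraMap A R) ≤ q.asIdeal := by
  apply exists_le_of_disjoint
  rw [Set.disjoint_left]
  intro a ha haP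
  apply hP
  rw [Ideal.eq_top_iff_one]
  have hu : IsUnit (algebraMap A R a) := IsLocalization.map_units R ⟨a, ha⟩
  obtain ⟨u, hu⟩ := hu
  have : algebraMap A R a ∈ P := haP
  rw [← hu] at this
  simpa using P.mul_mem_left (↑u⁻¹ : R) this

theorem finite_maximalSpectrum {A : Type u} [CommRing A] (ps : Finset (PrimeSpectrum A))
    (R : Type u) [CommRing R] [Algebra A R] [IsLocalization (avoid ps) R] :
    Finite (MaximalSpectrum R) := by
  classical
  have hch : ∀ P : MaximalSpectrum R, ∃ q ∈ ps, P.asIdeal.comap (algebraMap A R) ≤ q.asIdeal :=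
    fun P => exists_comap_le ps R P.asIdeal P.isMaximal.ne_top
  choose φ hφ hle using hch
  have hinj : Function.Injective (fun P : MaximalSpectrum R => (⟨φ P, hφ P⟩ : ps)) := by
    intro P P' h
    have h' : φ P = φ P' := congrArg Subtype.val h
    have key : ∀ Q : MaximalSpectrum R, Q.asIdeal = (φ Q).asIdeal.map (algebraMap A R) := by
      intro Q
      have h1 : Q.asIdeal ≤ (φ Q).asIdeal.map (algebraMap A R) := by
        rw [← IsLocalization.map_under (avoid ps) R Q.asIdeal]
        exact Ideal.map_mono (hle Q)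
      have h2 : (φ Q).asIdeal.map (algebraMap A R) ≠ ⊤ := by
        have := IsLocalization.isPrime_of_isPrime_disjoint (avoid ps) R (φ Q).asIdeal (φ Q).isPrime
          (disjoint_avoid ps (hφ Q))
        exact this.ne_top
      exact Q.isMaximal.eq_of_le h2 h1
    ext1
    rw [key P, key P', h']
  exact Finite.of_injective _ hinj

end semilocal


theorem finrank_quotient_tensor (R : Type u) [CommRing R] (M : Type u) [AddCommGroup M] [Module R M]
    [Module.Finite R M] [Module.Flat R M]
    (P : Ideal R) [hP : P.IsMaximal] :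
    Module.finrank (R ⧸ P) ((R ⧸ P) ⊗[R] M) = Module.rankAtStalk M ⟨P, hP.isPrime⟩ := by
  letI := Ideal.Quotient.field P
  rw [Module.rankAtStalk_eq]
  let e : P.ResidueField ⊗[R ⧸ P] ((R ⧸ P) ⊗[R] M) ≃ₗ[P.ResidueField] P.ResidueField ⊗[R] M :=
    AlgebraTensorModule.cancelBaseChange R (R ⧸ P) P.ResidueField P.ResidueField M
  change _ = Module.finrank P.ResidueField (P.ResidueField ⊗[R] M)
  rw [← e.finrank_eq]
  exact (Module.finrank_baseChange (R := P.ResidueField) (S := R ⧸ P) (M' := (R ⧸ P) ⊗[R] M)).symm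


theorem exists_basis_away {A : Type u} [CommRing A] (M : Type u) [AddCommGroup M] [Module A M]
    [Module.FinitePresentation A M] [Module.Flat A M] (ps : Finset (PrimeSpectrum A)) (r : ℕ)
    (hr : ∀ q ∈ ps, Module.rankAtStalk M q = r) :
    ∃ g : A, (∀ q ∈ ps, g ∉ q.asIdeal) ∧
      Nonempty (Module.Basis (Fin r) (Localization.Away g) (LocalizedModule.Away g M)) := by
  let R := Localization (avoid ps)
  haveI := finite_maximalSpectrum ps R
  have rk : ∀ P : MaximalSpectrum R,
      Module.finrank (R ⧸ P.1) ((R ⧸ P.1) ⊗[R] (R ⊗[A] M)) = r := by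
    intro P
    haveI := P.isMaximal
    rw [finrank_quotient_tensor R (R ⊗[A] M) P.asIdeal, Module.rankAtStalk_baseChange]
    obtain ⟨q, hq, hle⟩ := exists_comap_le ps R P.asIdeal P.isMaximal.ne_top
    rw [← hr q hq]
    exact Module.rankAtStalk_eq_of_le_of_finite_of_flat M hle
  obtain ⟨b⟩ := Module.nonempty_basis_of_flat_of_finrank_eq R (R ⊗[A] M) r rk
  obtain ⟨g, hg, b', -⟩ := Module.FinitePresentation.exists_basis_localizedModule_powers (avoid ps)
    (TensorProduct.mk A R M 1) R b
  exact ⟨g, hg, ⟨b'⟩⟩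


section transport

variable {R M : Type*} [CommRing R] [AddCommGroup M] [Module R M] (S : Submonoid R)
    (Rₛ Mₛ : Type*) [CommRing Rₛ] [Algebra R Rₛ] [IsLocalization S Rₛ]
    [AddCommGroup Mₛ] [Module R Mₛ] (f : M →ₗ[R] Mₛ) [IsLocalizedModule S f]
    [Module Rₛ Mₛ] [IsScalarTower R Rₛ Mₛ]

theorem iso_smul (r : Localization S) (x : LocalizedModule S M) :
    IsLocalizedModule.iso S f (r • x) =
      (IsLocalization.algEquiv S (Localization S) Rₛ) r • IsLocalizedModule.iso S f x := by
  obtain ⟨r, s, rfl⟩ := IsLocalization.exists_mk'_eq S r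
  apply ((Module.End.isUnit_iff _).mp (IsLocalizedModule.map_units f s)).1
  simp [← map_smul, ← smul_assoc]

include f in
theorem nonempty_basis_of_isLocalizedModule {ι : Type*}
    (b : Module.Basis ι (Localization S) (LocalizedModule S M)) :
    Nonempty (Module.Basis ι Rₛ Mₛ) := by
  set e := IsLocalization.algEquiv S (Localization S) Rₛ with he
  set τ := IsLocalizedModule.iso S f with hτ
  have hc : ∀ (r : Localization S) (x : LocalizedModule S M), τ (r • x) = e r • τ x :=
    iso_smul S Rₛ Mₛ f
  have hli : LinearIndependent Rₛ (fun i => τ (b i)) := by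
    have := b.linearIndependent.map_of_injective_injective (R' := Rₛ) (M' := Mₛ)
      (e.symm : Rₛ → Localization S) τ.toAddMonoidHom ?_ ?_ ?_
    · exact this
    · intro r hr
      exact (map_eq_zero_iff e.symm e.symm.injective).1 hr
    · intro m hm
      exact (map_eq_zero_iff τ τ.injective).1 hm
    · intro r m
      change τ (e.symm r • m) = r • τ m
      rw [hc, AlgEquiv.apply_symm_apply]
  have hsp : ⊤ ≤ Submodule.span Rₛ (Set.range fun i => τ (b i)) := by
    intro x _
    have hx : x = τ (τ.symm x) := (τ.apply_symm_apply x).symm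
    rw [hx, ← b.linearCombination_repr (τ.symm x), Finsupp.linearCombination_apply, Finsupp.sum,
      map_sum]
    refine Submodule.sum_mem _ fun i _ => ?_
    rw [hc]
    exact Submodule.smul_mem _ _ (Submodule.subset_span ⟨i, rfl⟩)
  exact ⟨Module.Basis.mk hli hsp⟩

end transport

section transport2

variable {R : Type u} {M : Type u} [CommRing R] [AddCommGroup M] [Module R M] (S : Submonoid R)
    (Rₛ Mₛ : Type u) [CommRing Rₛ] [Algebra R Rₛ] [IsLocalization S Rₛ]
    [AddCommGroup Mₛ] [Module R Mₛ] (f : M →ₗ[R] Mₛ) [IsLocalizedModule S f]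
    [Module Rₛ Mₛ] [IsScalarTower R Rₛ Mₛ]

include f in
theorem finrank_eq_of_isLocalizedModule :
    Module.finrank Rₛ Mₛ = Module.finrank (Localization S) (LocalizedModule S M) :=
  (congrArg Cardinal.toNat (rank_eq_of_equiv_equiv
    (IsLocalization.algEquiv S (Localization S) Rₛ) (IsLocalizedModule.iso S f).toAddEquiv
    (IsLocalization.algEquiv S (Localization S) Rₛ).bijective (iso_smul S Rₛ Mₛ f))).symm

end transport2


section geo

open Groth.Agent.Lib.Helper2.FlatOver Groth.Agent.Lib.Helper2.QCoh Groth.Agent.Lib.Helper2.LocFree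
open Groth.Agent.Lib.Helper2.RankLoc Groth.Agent.Lib.Helper2.FPAff Groth.Agent.Lib.Helper20.LocFree

variable {Y : Scheme.{u}}

/-- the rank at a point of the sections over an affine open is the rank of the stalk. -/
theorem rankAtStalk_sections (E : Y.Modules) [E.IsQuasicoherent] {V : Y.Opens} (hV : IsAffineOpen V)
    (z : Y) (hz : z ∈ V) :
    Module.rankAtStalk Γ(E, V) (hV.primeIdealOf ⟨z, hz⟩) =
      Module.finrank (Y.presheaf.stalk z) (E.presheaf.stalk z) := by
  letI := Y.presheaf.algebra_section_stalk ⟨z, hz⟩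
  haveI := hV.isLocalization_stalk ⟨z, hz⟩
  letI := moduleStalkSections E V z hz
  haveI : IsScalarTower Γ(Y, V) (Y.presheaf.stalk z) (E.presheaf.stalk z) := by
    refine ⟨fun a b y => ?_⟩
    change (Y.presheaf.germ V z hz a * b) • y = Y.presheaf.germ V z hz a • (b • y)
    rw [mul_smul]
  haveI := isLocalizedModule_germ hV E z hz
  exact (finrank_eq_of_isLocalizedModule (hV.primeIdealOf ⟨z, hz⟩).asIdeal.primeCompl
    (Y.presheaf.stalk z) (E.presheaf.stalk z) (germₗ E V z hz)).symm

/-- **EGA II 6.1.?-type**: a locally free module of rank `r` is free of rank `r` on a basic open of any affine open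
`V`, containing any given finite subset of `V`. -/
theorem exists_basicOpen_iso_freeMod (E : Y.Modules) (r : ℕ) (hE : FlatMod.IsFinLocFreeOfRank r E)
    (Z : Set Y) (hZ : Z.Finite) {V : Y.Opens} (hV : IsAffineOpen V) (hZV : Z ⊆ V) :
    ∃ g : Γ(Y, V), Z ⊆ Y.basicOpen g ∧
      Nonempty (E.restrict (Y.basicOpen g).ι ≅ FlatMod.freeMod (Y.basicOpen g : Scheme.{u}) r) := by
  classical
  have hlf : FlatMod.IsFinLocFree E := fun x => by
    obtain ⟨U, hx, h⟩ := hE x
    exact ⟨U, r, hx, h⟩
  haveI hfp : SheafOfModules.IsFinitePresentation (R := Y.ringCatSheaf) E := isFP_of_isFinLocFree E hlf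
  haveI : E.IsQuasicoherent := inferInstance
  haveI : Module.FinitePresentation Γ(Y, V) Γ(E, V) := finitePresentation_sections E hV
  haveI : Module.Flat Γ(Y, V) Γ(E, V) :=
    flat_sections_of_isFlatAt E hV (fun x _ => isFlat_of_isFinLocFree E hlf x)
  let ps : Finset (PrimeSpectrum Γ(Y, V)) :=
    hZ.toFinset.attach.image (fun z => hV.primeIdealOf ⟨z.1, hZV (hZ.mem_toFinset.1 z.2)⟩)
  have hr : ∀ q ∈ ps, Module.rankAtStalk Γ(E, V) q = r := by
    intro q hq
    obtain ⟨z, -, rfl⟩ := Finset.mem_image.1 hq
    rw [rankAtStalk_sections]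
    obtain ⟨U, hzU, ⟨e⟩⟩ := hE z.1
    obtain ⟨hfree, hrk⟩ := fibreRank_eq_of_restrict_iso_freeMod U.ι E e ⟨z.1, hzU⟩
    haveI : Module.Free (Y.presheaf.stalk z.1) (E.presheaf.stalk z.1) := hfree
    rw [← hrk]
    exact (Module.finrank_baseChange (R := IsLocalRing.ResidueField (Y.presheaf.stalk z.1))
      (S := Y.presheaf.stalk z.1) (M' := E.presheaf.stalk z.1)).symm
  obtain ⟨g, hg, ⟨b⟩⟩ := exists_basis_away Γ(E, V) ps r hr
  letI := moduleRes E (Y.basicOpen_le g)
  haveI := isScalarTower_basicOpen E g
  haveI := isLocalizedModule_basicOpen E hV g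
  haveI : IsLocalization.Away g Γ(Y, Y.basicOpen g) := hV.isLocalization_basicOpen g
  obtain ⟨b'⟩ := nonempty_basis_of_isLocalizedModule (Submonoid.powers g) Γ(Y, Y.basicOpen g)
    Γ(E, Y.basicOpen g) (resₗ E (Y.basicOpen_le g)) b
  refine ⟨g, ?_, ⟨restrictIsoFreeMod E (hV.basicOpen g) b'⟩⟩
  intro z hz
  refine (Groth.Agent.Lib.Helper2.mem_basicOpen_iff_notMem_primeIdealOf hV z (hZV hz) g).2 ?_
  exact hg _ (Finset.mem_image.2 ⟨⟨z, hZ.mem_toFinset.2 hz⟩, Finset.mem_attach _ _, rfl⟩)

end geo

end Groth.Agent.Lib.Helper2.SemiLocFree
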