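import Mathlib
import Groth.Agent.Lib.Helper23SecTw7
import Groth.Agent.Lib.Helper2SemiLocFree

/-!
# Affine `X_s` around finitely many points of a quasi-affine scheme (helper23)

* `isFinLocFreeOfRank_one_of_isInvertible`, `exists_isGen_of_iso_freeMod`
* `genLocus_secHom_smul_le` : `X_{g σ} ⊆ D(g)`
* `exists_basicOpen_of_finite` : prime avoidance in a quasi-affine scheme
* `exists_affine_genLocus_of_isQuasiAffine` : EGA II 4.5.4 in the quasi-affine case
-/

set_option autoImplicit false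
universe u
open CategoryTheory CategoryTheory.Limits AlgebraicGeometry TopologicalSpace Opposite

namespace Groth.Agent.Lib.Helper23.SecTw
open Groth.Agent.Lib.Helper23.GenLocus Groth.Agent.Lib.Helper6

variable {X : Scheme.{u}}

theorem isFinLocFreeOfRank_one_of_isInvertible (L : X.Modules) (hL : PicF.IsInvertible L) :
    FlatMod.IsFinLocFreeOfRank 1 L := by
  intro x
  obtain ⟨U, hxU, ⟨ε⟩⟩ := hL x
  exact ⟨U, hxU, ⟨ε ≪≫ (Limits.coproductUniqueIso (fun _ : Fin 1 => Coh.structureModule (↑U : Scheme.{u}))).symm⟩⟩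

theorem exists_isGen_of_eq (L : X.Modules) {U U' : X.Opens} (h : U' = U) (e : Γ(L, U')) (he : IsGen L U' e) :
    ∃ e : Γ(L, U), IsGen L U e := by
  subst h
  exact ⟨e, he⟩

theorem exists_isGen_of_iso_freeMod (L : X.Modules) (U : X.Opens)
    (h : Nonempty (L.restrict U.ι ≅ FlatMod.freeMod (↑U : Scheme.{u}) 1)) : ∃ e : Γ(L, U), IsGen L U e := by
  obtain ⟨ε⟩ := h
  let ε' : L.restrict U.ι ≅ Coh.structureModule (↑U : Scheme.{u}) :=
    ε ≪≫ Limits.coproductUniqueIso (fun _ : Fin 1 => Coh.structureModule (↑U : Scheme.{u}))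
  refine exists_isGen_of_eq L ?_ _ (isGen_frameE L U ε' ⊤)
  rw [Scheme.Hom.image_top_eq_opensRange, Scheme.Opens.opensRange_ι]

/-- `X_{g σ} ⊆ D(g)` -/
theorem genLocus_secHom_smul_le (L : X.Modules) (hL : PicF.IsInvertible L) (g : Γ(X, ⊤)) (σ : Γ(L, ⊤)) :
    CohB1.genLocus L (secHom L (g • σ)) ≤ X.basicOpen g := by
  intro x hx
  obtain ⟨W, e, hxW, he⟩ := exists_gen L hL x
  have h1 : sv (secHom L (g • σ)) W = (resf le_top g * coef he le_rfl (res L le_top σ)) • e := by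
    rw [sv_secHom, res_smul, mul_smul]
    congr 1
    have := coef_spec he le_rfl (res L le_top σ)
    rw [res_self] at this
    exact this.symm
  have h2 := genLocus_inf_eq_of_isGen L _ W e _ he h1
  have h3 : x ∈ CohB1.genLocus L (secHom L (g • σ)) ⊓ W := ⟨hx, hxW⟩
  rw [h2, Scheme.basicOpen_mul] at h3
  have h4 : x ∈ X.basicOpen (resf (le_top : W ≤ ⊤) g) := h3.1
  have h5 : X.basicOpen (resf (le_top : W ≤ ⊤) g) = W ⊓ X.basicOpen g := Scheme.basicOpen_res _ _ _
  rw [h5] at h4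
  exact h4.2

/-- prime avoidance: in a quasi-affine scheme, a finite set of points inside an open `W` lies in an affine basic open
`X_g ⊆ W` of a global function -/
theorem exists_basicOpen_of_finite [X.IsQuasiAffine] (W : X.Opens) (E : Set X) (hE : E.Finite)
    (hEW : E ⊆ W) :
    ∃ g : Γ(X, ⊤), E ⊆ X.basicOpen g ∧ X.basicOpen g ≤ W ∧ IsAffineOpen (X.basicOpen g) := by
  classical
  rcases E.eq_empty_or_nonempty with rfl | ⟨x₀, hx₀⟩
  · refine ⟨0, Set.empty_subset _, ?_, ?_⟩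
    · rw [Scheme.basicOpen_zero]; exact bot_le
    · rw [Scheme.basicOpen_zero]; exact isAffineOpen_bot X
  obtain ⟨I, hI⟩ : ∃ I : Ideal Γ(X, ⊤), ((X.toSpecΓ ''ᵁ W : (Spec Γ(X, ⊤)).Opens) : Set (Spec Γ(X, ⊤)))ᶜ =
      PrimeSpectrum.zeroLocus (I : Set Γ(X, ⊤)) :=
    (PrimeSpectrum.isClosed_iff_zeroLocus_ideal _).1 (X.toSpecΓ ''ᵁ W).2.isClosed_compl
  have hnot : ¬ ((I : Set Γ(X, ⊤)) ⊆ ⋃ x ∈ E, ((X.toSpecΓ x : PrimeSpectrum Γ(X, ⊤)).asIdeal : Set Γ(X, ⊤))) := by
    rw [Ideal.subset_union_prime_finite hE (f := fun x : X => (X.toSpecΓ x : PrimeSpectrum Γ(X, ⊤)).asIdeal)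
      x₀ x₀ (fun x _ _ _ => (X.toSpecΓ x : PrimeSpectrum Γ(X, ⊤)).isPrime)]
    rintro ⟨x, hxE, hle⟩
    have h1 : (X.toSpecΓ x : PrimeSpectrum Γ(X, ⊤)) ∈ PrimeSpectrum.zeroLocus (I : Set Γ(X, ⊤)) := hle
    rw [← hI] at h1
    exact h1 ⟨x, hEW hxE, rfl⟩
  rw [Set.not_subset] at hnot
  obtain ⟨g, hgI, hg⟩ := hnot
  have hgE : ∀ x ∈ E, g ∉ (X.toSpecΓ x : PrimeSpectrum Γ(X, ⊤)).asIdeal := by
    intro x hx hgx
    exact hg (Set.mem_biUnion hx hgx)
  have hDW : (PrimeSpectrum.basicOpen g : Set (PrimeSpectrum Γ(X, ⊤))) ⊆ X.toSpecΓ '' (W : Set X) := by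
    intro p hp
    by_contra hpW
    have h1 : p ∈ PrimeSpectrum.zeroLocus (I : Set Γ(X, ⊤)) := by
      rw [← hI]; exact hpW
    exact hp (h1 hgI)
  refine ⟨g, ?_, ?_, ?_⟩
  · intro x hx
    rw [← Scheme.toSpecΓ_preimage_basicOpen]
    exact hgE x hx
  · rw [← Scheme.toSpecΓ_preimage_basicOpen]
    intro x hx
    obtain ⟨y, hyW, hy⟩ := hDW hx
    have : y = x := X.toSpecΓ.isOpenEmbedding.injective hy
    exact this ▸ hyW
  · rw [← Scheme.toSpecΓ_preimage_basicOpen, ← Scheme.Hom.isAffineOpen_iff_of_isOpenImmersion X.toSpecΓ]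
    have heq : X.toSpecΓ ''ᵁ (X.toSpecΓ ⁻¹ᵁ PrimeSpectrum.basicOpen g) = PrimeSpectrum.basicOpen g := by
      ext1
      exact Set.image_preimage_eq_of_subset (hDW.trans (Set.image_subset_range _ _))
    rw [heq]
    exact IsAffineOpen.Spec_basicOpen g

/-- EGA II 4.5.4 (quasi-affine case): a finite set of points of a quasi-affine scheme inside an open `W` lies in an affine
`X_s ⊆ W` for a global section `s` of any given invertible module. -/
theorem exists_affine_genLocus_of_isQuasiAffine [X.IsQuasiAffine] (L : X.Modules) (hL : PicF.IsInvertible L)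
    (W : X.Opens) (E : Set X) (hE : E.Finite) (hEW : E ⊆ W) :
    ∃ s : Coh.structureModule X ⟶ L, IsAffineOpen (CohB1.genLocus L s) ∧ E ⊆ CohB1.genLocus L s ∧
      CohB1.genLocus L s ≤ W := by
  haveI : L.IsQuasicoherent := isQuasicoherent_of_isInvertible L hL
  -- an affine basic open around `E` inside `W`
  obtain ⟨g₁, hEg₁, hg₁W, hg₁⟩ := exists_basicOpen_of_finite W E hE hEW
  -- shrink so that `L` is trivial
  obtain ⟨g₂, hEg₂, hiso⟩ := Groth.Agent.Lib.Helper2.SemiLocFree.exists_basicOpen_iso_freeMod L 1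
    (isFinLocFreeOfRank_one_of_isInvertible L hL) E hE hg₁ hEg₁
  obtain ⟨e, he⟩ := exists_isGen_of_iso_freeMod L _ hiso
  have hg₂W : X.basicOpen g₂ ≤ W := (X.basicOpen_le g₂).trans hg₁W
  -- a basic open of a global function inside
  obtain ⟨g, hEg, hgU, hgaff⟩ := exists_basicOpen_of_finite (X.basicOpen g₂) E hE hEg₂
  have he' : IsGen L (X.basicOpen g) (res L hgU e) := he.mono hgU
  obtain ⟨n, -, t, ht⟩ := exists_extension_top_of_qcqs X g L (res L hgU e)
  refine ⟨secHom L (g • t), ?_⟩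
  have hle : CohB1.genLocus L (secHom L (g • t)) ≤ X.basicOpen g := genLocus_secHom_smul_le L hL g t
  have hge : X.basicOpen g ≤ CohB1.genLocus L (secHom L (g • t)) := by
    have h1 : sv (secHom L (g • t)) (X.basicOpen g) =
        (resf (le_top : X.basicOpen g ≤ ⊤) g) ^ (n + 1) • res L hgU e := by
      rw [sv_secHom, res_smul, ht, pow_succ', mul_smul]
    have h2 := genLocus_inf_eq_of_isGen L _ _ _ _ he' h1
    rw [Scheme.basicOpen_pow (X := X) _ (Nat.succ_pos n)] at h2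
    have h3 : X.basicOpen (resf (le_top : X.basicOpen g ≤ ⊤) g) = X.basicOpen g ⊓ X.basicOpen g :=
      Scheme.basicOpen_res _ _ _
    rw [h3, inf_idem] at h2
    exact inf_eq_right.1 h2
  have heq : CohB1.genLocus L (secHom L (g • t)) = X.basicOpen g := le_antisymm hle hge
  rw [heq]
  exact ⟨hgaff, hEg, hgU.trans hg₂W⟩

end Groth.Agent.Lib.Helper23.SecTw
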