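import Mathlib
import Groth.Prelude
import Groth.Agent.Lib.Helper23QAffSec
set_option backward.isDefEq.respectTransparency.types false

/-!
# Norms for finite morphisms (helper23)

Namespace `Groth.Agent.Lib.Helper23.Norm`.  `N : Nrm.NormOfDegree π d`.

* `mem_basicOpen_of_mem_basicOpen_norm` : `π⁻¹(U_{N s}) ⊆ (π⁻¹U)_s`
* `surjective_of_norm` : a closed map carrying a norm is surjective
* `mem_basicOpen_norm` : if `s` is invertible along the fibre of `y` then `N s` is invertible at `y`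
* `isQuasiAffine_of_norm` : `X` quasi-affine ⇒ `Y` quasi-affine
-/

set_option autoImplicit false
universe u
open CategoryTheory Limits AlgebraicGeometry TopologicalSpace Opposite

namespace Groth.Agent.Lib.Helper23.Norm

variable {X Y : Scheme.{u}} (π : X ⟶ Y) {d : ℕ} (N : Nrm.NormOfDegree π d)

theorem mem_basicOpen_of_mem_basicOpen_norm (U : Y.Opens) (s : Γ(X, π ⁻¹ᵁ U)) (x : X)
    (hx : π x ∈ Y.basicOpen (N.norm U s)) : x ∈ X.basicOpen s := by
  have hxU : π x ∈ U := Y.basicOpen_le _ hx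
  by_contra h
  have h1 : ¬ IsUnit (X.presheaf.germ (π ⁻¹ᵁ U) x hxU s) := fun hu => h ((X.mem_basicOpen s x hxU).2 hu)
  have h2 := N.norm_mem U s x hxU ((IsLocalRing.mem_maximalIdeal _).2 h1)
  exact (IsLocalRing.mem_maximalIdeal _).1 h2 ((Y.mem_basicOpen (N.norm U s) (π x) hxU).1 hx)

theorem isUnit_of_forall_mem_basicOpen {Z : Scheme.{u}} (W : Z.Opens) (s : Γ(Z, W))
    (h : ∀ z ∈ W, z ∈ Z.basicOpen s) : IsUnit s := by
  apply RingedSpace.isUnit_of_isUnit_germ
  intro z hz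
  exact (Z.mem_basicOpen s z hz).1 (h z hz)


include N in
/-- a closed map carrying a norm (of degree `≥ 1`) is surjective -/
theorem surjective_of_norm (hcl : IsClosedMap π) : Function.Surjective π := by
  intro y
  by_contra hy
  have hopen : IsOpen (Set.range π)ᶜ := (hcl.isClosed_range).isOpen_compl
  let U : Y.Opens := ⟨(Set.range π)ᶜ, hopen⟩
  have hyU : y ∈ U := fun ⟨x, hx⟩ => hy ⟨x, hx⟩
  have hbot : π ⁻¹ᵁ U = ⊥ := by
    rw [eq_bot_iff]
    intro x hx
    exact hx ⟨x, rfl⟩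
  haveI : Subsingleton Γ(X, π ⁻¹ᵁ U) := by
    rw [hbot]
    infer_instance
  have h1 : N.norm U (π.app U 0) = 0 := by
    rw [N.norm_app, zero_pow (by have := N.one_le; omega)]
  have h2 : N.norm U (π.app U 0) = 1 := by
    rw [Subsingleton.elim (π.app U 0) 1, map_one]
  have h3 : (1 : Γ(Y, U)) = 0 := h2.symm.trans h1
  have h4 : Y.basicOpen (1 : Γ(Y, U)) = U := Scheme.basicOpen_of_isUnit _ isUnit_one
  rw [h3, Scheme.basicOpen_zero] at h4
  rw [← h4] at hyU
  exact hyU

/-- if `s` is invertible at all points of the fibre of `y`, then its norm is invertible at `y` -/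
theorem mem_basicOpen_norm (hcl : IsClosedMap π) (U : Y.Opens) (s : Γ(X, π ⁻¹ᵁ U)) (y : Y) (hy : y ∈ U)
    (h : ∀ x, π x = y → x ∈ X.basicOpen s) : y ∈ Y.basicOpen (N.norm U s) := by
  have hC : IsClosed (π '' ((X.basicOpen s : Set X)ᶜ)) := hcl _ (X.basicOpen s).isOpen.isClosed_compl
  let U' : Y.Opens := U ⊓ ⟨(π '' ((X.basicOpen s : Set X)ᶜ))ᶜ, hC.isOpen_compl⟩
  have hyU' : y ∈ U' := ⟨hy, fun ⟨x, hx, hxy⟩ => hx (h x hxy)⟩
  have hle : U' ≤ U := inf_le_left
  have hpre : ∀ x, x ∈ π ⁻¹ᵁ U' → x ∈ X.basicOpen s := by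
    intro x hx
    by_contra hxs
    exact hx.2 ⟨x, hxs, rfl⟩
  have hu : IsUnit (X.presheaf.map ((Opens.map π.base).map (homOfLE hle)).op s) := by
    apply isUnit_of_forall_mem_basicOpen
    intro x hx
    rw [Scheme.basicOpen_res]
    exact ⟨hx, hpre x hx⟩
  have h1 := N.norm_res (homOfLE hle) s
  have h2 : IsUnit (Y.presheaf.map (homOfLE hle).op (N.norm U s)) := by
    rw [h1]
    exact hu.map _
  have h3 := Scheme.basicOpen_of_isUnit _ h2
  rw [Scheme.basicOpen_res] at h3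
  have h4 : y ∈ U' ⊓ Y.basicOpen (N.norm U s) := by
    rw [h3]
    exact hyU'
  exact h4.2


open Groth.Agent.Lib.Helper23.SecTw in
include N in
/-- quasi-affineness descends along a finite morphism carrying a norm -/
theorem isQuasiAffine_of_norm [IsFinite π] (hX : X.IsQuasiAffine) : Y.IsQuasiAffine := by
  have hcl : IsClosedMap π := π.isClosedMap
  have hsurj := surjective_of_norm π N hcl
  haveI : CompactSpace Y := by
    constructor
    rw [← hsurj.range_eq, ← Set.image_univ]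
    exact isCompact_univ.image π.continuous
  refine Scheme.IsQuasiAffine.of_forall_exists_mem_basicOpen Y (fun y => ?_)
  obtain ⟨_, ⟨V, hV, rfl⟩, hyV, -⟩ :=
    Y.isBasis_affineOpens.exists_subset_of_mem_open (Set.mem_univ y) isOpen_univ
  have hfin : (π ⁻¹' {y}).Finite := π.finite_preimage_singleton y
  have hEW : π ⁻¹' {y} ⊆ (π ⁻¹ᵁ V : X.Opens) := by
    intro x hx
    have : π x = y := hx
    change π x ∈ V
    rw [this]
    exact hyV
  obtain ⟨g, hgE, hgV, -⟩ := exists_basicOpen_of_finite (π ⁻¹ᵁ V) (π ⁻¹' {y}) hfin hEW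
  let f : Γ(Y, ⊤) := N.norm ⊤ g
  have hyf : y ∈ Y.basicOpen f := mem_basicOpen_norm π N hcl ⊤ g y trivial (fun x hx => hgE hx)
  have hfV : Y.basicOpen f ≤ V := by
    intro y' hy'
    obtain ⟨x', rfl⟩ := hsurj y'
    exact hgV (mem_basicOpen_of_mem_basicOpen_norm π N ⊤ g x' hy')
  refine ⟨f, ?_, hyf⟩
  have h1 : Y.basicOpen (Y.presheaf.map (homOfLE (le_top : V ≤ ⊤)).op f) = Y.basicOpen f := by
    rw [Scheme.basicOpen_res]
    exact inf_eq_right.2 hfV
  rw [← h1]
  exact hV.basicOpen _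

end Groth.Agent.Lib.Helper23.Norm
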