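import Mathlib
import Groth.Prelude
import Groth.Agent.Lib.Helper23QAffSec
import Groth.Agent.Lib.Helper23Norm
import Groth.Agent.Lib.Helper18Norm2
set_option backward.isDefEq.respectTransparency.types false

/-!
# Weak norms (no degree) for finite morphisms (helper23)

Namespace `Groth.Agent.Lib.Helper23.Norm3`.

* `WeakNorm π` : multiplicative maps on sections compatible with restriction and vanishing
* `isQuasiAffine_of_weakNorm` : `π` finite surjective with a weak norm, `X` quasi-affine ⇒ `Y` quasi-affine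
* `weakNormOfFinLocFree` : a finite locally free morphism (of any, varying rank) carries a weak norm
-/

set_option autoImplicit false
universe u
open CategoryTheory Limits AlgebraicGeometry TopologicalSpace Opposite

namespace Groth.Agent.Lib.Helper23.Norm3

variable {X Y : Scheme.{u}} (π : X ⟶ Y)

/-- a norm without a degree -/
structure WeakNorm where
  /-- the norm maps on sections -/
  norm : ∀ U : Y.Opens, Γ(X, π ⁻¹ᵁ U) →* Γ(Y, U)
  /-- compatibility with restriction -/
  norm_res : ∀ {U V : Y.Opens} (i : V ⟶ U) (s : Γ(X, π ⁻¹ᵁ U)),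
    Y.presheaf.map i.op (norm U s) = norm V (X.presheaf.map ((Opens.map π.base).map i).op s)
  /-- functions vanishing at `x` have norm vanishing at `π x` -/
  norm_mem : ∀ (U : Y.Opens) (s : Γ(X, π ⁻¹ᵁ U)) (x : X) (hx : π.base x ∈ U),
    X.presheaf.germ (π ⁻¹ᵁ U) x hx s ∈ IsLocalRing.maximalIdeal (X.presheaf.stalk x) →
      Y.presheaf.germ U (π.base x) hx (norm U s) ∈ IsLocalRing.maximalIdeal (Y.presheaf.stalk (π.base x))

/-- a norm of degree `d` is a weak norm -/
def ofNormOfDegree {d : ℕ} (N : Nrm.NormOfDegree π d) : WeakNorm π where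
  norm := N.norm
  norm_res := N.norm_res
  norm_mem := N.norm_mem

variable {π} (N : WeakNorm π)

theorem mem_basicOpen_of_mem_basicOpen_norm (U : Y.Opens) (s : Γ(X, π ⁻¹ᵁ U)) (x : X)
    (hx : π x ∈ Y.basicOpen (N.norm U s)) : x ∈ X.basicOpen s := by
  have hxU : π x ∈ U := Y.basicOpen_le _ hx
  by_contra h
  have h1 : ¬ IsUnit (X.presheaf.germ (π ⁻¹ᵁ U) x hxU s) := fun hu => h ((X.mem_basicOpen s x hxU).2 hu)
  have h2 := N.norm_mem U s x hxU ((IsLocalRing.mem_maximalIdeal _).2 h1)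
  exact (IsLocalRing.mem_maximalIdeal _).1 h2 ((Y.mem_basicOpen (N.norm U s) (π x) hxU).1 hx)

/-- if `s` is invertible at all points of the fibre of `y`, then its norm is invertible at `y` -/
theorem mem_basicOpen_norm (hcl : IsClosedMap π) (U : Y.Opens) (s : Γ(X, π ⁻¹ᵁ U)) (y : Y) (hy : y ∈ U)
    (h : ∀ x, π x = y → x ∈ X.basicOpen s) : y ∈ Y.basicOpen (N.norm U s) := by
  have hC : IsClosed (π '' ((X.basicOpen s : Set X)ᶜ)) := hcl _ (X.basicOpen s).isOpen.isClosed_compl
  let U' : Y.Opens := U ⊓ ⟨(π '' ((X.basicOpen s : Set X)ᶜ))ᶜ, hC.isOpen_compl⟩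
  have hyU' : y ∈ U' := ⟨hy, fun ⟨x, hx, hxy⟩ => hx (h x hxy)⟩
  have hle : U' ≤ U := inf_le_left
  have hpre : ∀ x, x ∈ π ⁻¹ᵁ U' → x ∈ X.basicOpen s := by
    intro x hx
    by_contra hxs
    exact hx.2 ⟨x, hxs, rfl⟩
  have hu : IsUnit (X.presheaf.map ((Opens.map π.base).map (homOfLE hle)).op s) := by
    apply Groth.Agent.Lib.Helper23.Norm.isUnit_of_forall_mem_basicOpen
    intro x hx
    rw [Scheme.basicOpen_res]
    exact ⟨hx, hpre x hx⟩
  have h1 := N.norm_res (homOfLE hle) s
  have h2 : IsUnit (Y.presheaf.map (homOfLE hle).op (N.norm U s)) := by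
    rw [h1]
    exact hu.map _
  have h3 := Scheme.basicOpen_of_isUnit _ h2
  rw [Scheme.basicOpen_res] at h3
  have h4 : y ∈ U' ⊓ Y.basicOpen (N.norm U s) := by
    rw [h3]
    exact hyU'
  exact h4.2

open Groth.Agent.Lib.Helper23.SecTw in
include N in
/-- quasi-affineness descends along a finite surjective morphism carrying a weak norm -/
theorem isQuasiAffine_of_weakNorm [IsFinite π] (hsurj : Function.Surjective π)
    (hX : X.IsQuasiAffine) : Y.IsQuasiAffine := by
  have hcl : IsClosedMap π := π.isClosedMap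
  haveI : CompactSpace Y := by
    constructor
    rw [← hsurj.range_eq, ← Set.image_univ]
    exact isCompact_univ.image π.continuous
  refine Scheme.IsQuasiAffine.of_forall_exists_mem_basicOpen Y (fun y => ?_)
  obtain ⟨_, ⟨V, hV, rfl⟩, hyV, -⟩ :=
    Y.isBasis_affineOpens.exists_subset_of_mem_open (Set.mem_univ y) isOpen_univ
  have hfin : (π ⁻¹' {y}).Finite := π.finite_preimage_singleton y
  have hEW : π ⁻¹' {y} ⊆ (π ⁻¹ᵁ V : X.Opens) := by
    intro x hx
    have : π x = y := hx
    change π x ∈ V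
    rw [this]
    exact hyV
  obtain ⟨g, hgE, hgV, -⟩ := exists_basicOpen_of_finite (π ⁻¹ᵁ V) (π ⁻¹' {y}) hfin hEW
  let f : Γ(Y, ⊤) := N.norm ⊤ g
  have hyf : y ∈ Y.basicOpen f := mem_basicOpen_norm N hcl ⊤ g y trivial (fun x hx => hgE hx)
  have hfV : Y.basicOpen f ≤ V := by
    intro y' hy'
    obtain ⟨x', rfl⟩ := hsurj y'
    exact hgV (mem_basicOpen_of_mem_basicOpen_norm N ⊤ g x' hy')
  refine ⟨f, ?_, hyf⟩
  have h1 : Y.basicOpen (Y.presheaf.map (homOfLE (le_top : V ≤ ⊤)).op f) = Y.basicOpen f := by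
    rw [Scheme.basicOpen_res]
    exact inf_eq_right.2 hfV
  rw [← h1]
  exact hV.basicOpen _

section FinLocFree

open Groth.Agent.Helper18Norm Groth.Agent.Helper18Trace Groth.Agent.Helper18FinFlat

variable (π)

/-- good opens for the direct image algebra of a finite locally free morphism form a basis -/
theorem isBasis_good_of_isFinLocFree [IsAffineHom π] (hπ : Mor2.IsFinLocFree π) :
    Opens.IsBasis (Set.range (goodB (RelSpec.QCAlg.directImage π))) := by
  have h := pushforward_isFinLocFree π hπ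
  rw [Opens.isBasis_iff_nbhd]
  intro U y hy
  obtain ⟨U₀, n, hy₀, ⟨e⟩⟩ := h y
  obtain ⟨W₀, hW₀, hyW₀, ⟨b₀⟩⟩ := exists_affine_basis_of_restrict_iso_freeMod' _ U₀.ι e ⟨y, hy₀⟩
  letI := alg (RelSpec.QCAlg.directImage π) W₀
  let b₀' : Module.Basis (Fin n) Γ(Y, W₀) ((RelSpec.QCAlg.directImage π).presheaf.obj (op W₀)) :=
    b₀.map (pushEquiv π W₀)
  obtain ⟨r, hrU, hyr⟩ := hW₀.exists_basicOpen_le (V := U) ⟨y, hy⟩ hyW₀
  obtain ⟨b⟩ := nonempty_basis_basicOpen (RelSpec.QCAlg.directImage π) hW₀ r b₀'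
  exact ⟨Y.basicOpen r, ⟨⟨Y.basicOpen r, isGood_of_basis _ (hW₀.basicOpen r) b⟩, rfl⟩, hyr, hrU⟩

/-- a finite locally free morphism carries a weak norm -/
theorem nonempty_weakNorm_of_isFinLocFree (hπ : Mor2.IsFinLocFree π) : Nonempty (WeakNorm π) := by
  haveI : IsFinite π := hπ.1
  have hB := isBasis_good_of_isFinLocFree π hπ
  exact ⟨{ norm := fun U => normHom (RelSpec.QCAlg.directImage π) hB U
           norm_res := fun i s => normSec_res (RelSpec.QCAlg.directImage π) hB (leOfHom i) s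
           norm_mem := fun U s x hx hs => normSec_mem π hB U s x hx hs }⟩

end FinLocFree

end Groth.Agent.Lib.Helper23.Norm3
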