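import Mathlib
import Groth.Agent.Lib.Helper23Norm3
import Groth.Agent.Lib.Helper2Div

set_option autoImplicit false
set_option linter.style.haveILetI false
universe u v
open CategoryTheory AlgebraicGeometry Limits Opposite TopologicalSpace

/-!
# Invariant affine opens via norms (helper11)

`σ τ : A ⟶ Y` with `σ` carrying a weak norm, both closed maps, whose image relation
`{(σ a, τ a)}` is an equivalence relation on `Y`.  A finite saturated set of points contained in an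
affine open is contained in an invariant affine open.
-/

namespace Groth.Agent.Lib.Helper11.KMAff

open Groth.Agent.Lib.Helper23.Norm3

variable {Y : Scheme.{u}}

/-- prime avoidance on an affine open -/
theorem exists_basicOpen_of_finite {V : Y.Opens} (hV : IsAffineOpen V) (W : Y.Opens) (E : Set Y)
    (hE : E.Finite) (hEV : E ⊆ V) (hEW : E ⊆ W) :
    ∃ f : Γ(Y, V), E ⊆ Y.basicOpen f ∧ Y.basicOpen f ≤ W := by
  classical
  rcases E.eq_empty_or_nonempty with rfl | ⟨x₀, hx₀⟩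
  · exact ⟨0, Set.empty_subset _, by rw [Scheme.basicOpen_zero]; exact bot_le⟩
  obtain ⟨I, hI⟩ : ∃ I : Ideal Γ(Y, V),
      ((hV.fromSpec ⁻¹ᵁ W : (Spec Γ(Y, V)).Opens) : Set (Spec Γ(Y, V)))ᶜ =
        PrimeSpectrum.zeroLocus (I : Set Γ(Y, V)) :=
    (PrimeSpectrum.isClosed_iff_zeroLocus_ideal _).1 (hV.fromSpec ⁻¹ᵁ W).2.isClosed_compl
  let E' : Set V := {x | x.1 ∈ E}
  have hE' : E'.Finite := hE.preimage Subtype.val_injective.injOn
  let x₀' : V := ⟨x₀, hEV hx₀⟩
  have hnot : ¬ ((I : Set Γ(Y, V)) ⊆ ⋃ x ∈ E', ((hV.primeIdealOf x).asIdeal : Set Γ(Y, V))) := by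
    rw [Ideal.subset_union_prime_finite hE' (f := fun x : V => (hV.primeIdealOf x).asIdeal)
      x₀' x₀' (fun x _ _ _ => (hV.primeIdealOf x).isPrime)]
    rintro ⟨x, hxE, hle⟩
    have h1 : hV.primeIdealOf x ∈ PrimeSpectrum.zeroLocus (I : Set Γ(Y, V)) := hle
    rw [← hI] at h1
    apply h1
    change hV.fromSpec (hV.primeIdealOf x) ∈ W
    rw [hV.fromSpec_primeIdealOf x]
    exact hEW hxE
  rw [Set.not_subset] at hnot
  obtain ⟨g, hgI, hg⟩ := hnot
  refine ⟨g, fun x hx => ?_, fun y hy => ?_⟩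
  · rw [SetLike.mem_coe, Groth.Agent.Lib.Helper2.mem_basicOpen_iff_notMem_primeIdealOf hV x (hEV hx)]
    intro hgx
    exact hg (Set.mem_biUnion (show (⟨x, hEV hx⟩ : V) ∈ E' from hx) hgx)
  · have hyV : y ∈ V := Y.basicOpen_le g hy
    rw [Groth.Agent.Lib.Helper2.mem_basicOpen_iff_notMem_primeIdealOf hV y hyV] at hy
    by_contra hyW
    have h1 : hV.primeIdealOf ⟨y, hyV⟩ ∈ PrimeSpectrum.zeroLocus (I : Set Γ(Y, V)) := by
      rw [← hI]
      intro h2
      apply hyW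
      have h3 : hV.fromSpec (hV.primeIdealOf ⟨y, hyV⟩) ∈ W := h2
      rwa [hV.fromSpec_primeIdealOf ⟨y, hyV⟩] at h3
    exact hy (h1 hgI)

/-- a finite saturated set of points in an affine open lies in an invariant affine open -/
theorem exists_invariant_affine {A : Scheme.{u}} (σ τ : A ⟶ Y) (N : WeakNorm σ)
    (hσ : IsClosedMap σ) (hτ : IsClosedMap τ)
    (hrefl : ∀ y : Y, ∃ a : A, σ a = y ∧ τ a = y)
    (hsymm : ∀ a : A, ∃ b : A, σ b = τ a ∧ τ b = σ a)
    (htrans : ∀ a b : A, τ a = σ b → ∃ c : A, σ c = σ a ∧ τ c = τ b)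
    (O₁ : Y.Opens) (hO₁ : IsAffineOpen O₁) (T : Set Y) (hT : T.Finite) (hTO : T ⊆ O₁)
    (hsat : ∀ a : A, σ a ∈ T → τ a ∈ T) :
    ∃ V : Y.Opens, IsAffineOpen V ∧ T ⊆ V ∧ σ ⁻¹ᵁ V = τ ⁻¹ᵁ V := by
  -- the largest invariant open inside `O₁`
  let Winv : Y.Opens := ⟨(τ '' (σ ⁻¹' (O₁ : Set Y)ᶜ))ᶜ,
    (hτ _ (O₁.isOpen.isClosed_compl.preimage σ.continuous)).isOpen_compl⟩
  have memW : ∀ y : Y, y ∈ Winv ↔ ∀ a : A, τ a = y → σ a ∈ O₁ := by
    intro y
    change y ∉ (τ '' (σ ⁻¹' (O₁ : Set Y)ᶜ)) ↔ _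
    constructor
    · intro h a ha
      by_contra hn
      exact h ⟨a, hn, ha⟩
    · rintro h ⟨a, ha, rfl⟩
      exact ha (h a rfl)
  have hWO : Winv ≤ O₁ := by
    intro y hy
    obtain ⟨a, ha1, ha2⟩ := hrefl y
    have := (memW y).1 hy a ha2
    rwa [ha1] at this
  have hWinv : ∀ a : A, σ a ∈ Winv ↔ τ a ∈ Winv := by
    intro a
    constructor
    · intro h
      rw [memW]
      intro b hb
      obtain ⟨a', h1, h2⟩ := hsymm a
      obtain ⟨c, hc1, hc2⟩ := htrans b a' (hb.trans h1.symm)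
      have := (memW _).1 h c (hc2.trans h2)
      rwa [hc1] at this
    · intro h
      rw [memW]
      intro b hb
      obtain ⟨c, hc1, hc2⟩ := htrans b a hb
      have := (memW _).1 h c hc2
      rwa [hc1] at this
  have hTW : T ⊆ Winv := by
    intro y hy
    rw [SetLike.mem_coe, memW]
    intro b hb
    obtain ⟨b', h1, h2⟩ := hsymm b
    have : τ b' ∈ T := hsat b' (by rw [h1, hb]; exact hy)
    rw [h2] at this
    exact hTO this
  obtain ⟨f, hTf, hfW⟩ := exists_basicOpen_of_finite hO₁ Winv T hT hTO hTW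
  -- the function `f` transported along `τ` and its norm
  let fW : Γ(Y, Winv) := Y.presheaf.map (homOfLE hWO).op f
  have hfW' : Y.basicOpen fW = Y.basicOpen f := by
    rw [Scheme.basicOpen_res]
    exact inf_eq_right.2 hfW
  have hle : σ ⁻¹ᵁ Winv ≤ τ ⁻¹ᵁ Winv := fun a ha => (hWinv a).1 ha
  let h : Γ(A, σ ⁻¹ᵁ Winv) := A.presheaf.map (homOfLE hle).op (τ.app Winv fW)
  have memh : ∀ a : A, a ∈ A.basicOpen h ↔ σ a ∈ Winv ∧ τ a ∈ Y.basicOpen f := by
    intro a
    rw [Scheme.basicOpen_res, ← Scheme.preimage_basicOpen, hfW']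
    rfl
  let g : Γ(Y, Winv) := N.norm Winv h
  have charV : ∀ y : Y, y ∈ Y.basicOpen g ↔ y ∈ Winv ∧ ∀ a : A, σ a = y → τ a ∈ Y.basicOpen f := by
    intro y
    constructor
    · intro hy
      refine ⟨Y.basicOpen_le g hy, fun a ha => ?_⟩
      subst ha
      exact ((memh a).1 (mem_basicOpen_of_mem_basicOpen_norm N Winv h a hy)).2
    · rintro ⟨hy, hall⟩
      refine mem_basicOpen_norm N hσ Winv h y hy (fun a ha => ?_)
      rw [memh]
      exact ⟨by rw [ha]; exact hy, hall a ha⟩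
  have hVf : Y.basicOpen g ≤ Y.basicOpen f := by
    intro y hy
    obtain ⟨a, ha1, ha2⟩ := hrefl y
    have := ((charV y).1 hy).2 a ha1
    rwa [ha2] at this
  refine ⟨Y.basicOpen g, ?_, ?_, ?_⟩
  · have h1 : Y.basicOpen (Y.presheaf.map (homOfLE hfW).op g) = Y.basicOpen g := by
      rw [Scheme.basicOpen_res]
      exact inf_eq_right.2 hVf
    rw [← h1]
    exact (hO₁.basicOpen f).basicOpen _
  · intro y hy
    rw [SetLike.mem_coe, charV]
    refine ⟨hTW hy, fun a ha => hTf (hsat a ?_)⟩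
    rw [ha]
    exact hy
  · ext a
    change σ a ∈ Y.basicOpen g ↔ τ a ∈ Y.basicOpen g
    rw [charV, charV]
    constructor
    · rintro ⟨h1, h2⟩
      refine ⟨(hWinv a).1 h1, fun b hb => ?_⟩
      obtain ⟨c, hc1, hc2⟩ := htrans a b hb.symm
      rw [← hc2]
      exact h2 c hc1
    · rintro ⟨h1, h2⟩
      refine ⟨(hWinv a).2 h1, fun b hb => ?_⟩
      obtain ⟨a', ha1, ha2⟩ := hsymm a
      obtain ⟨c, hc1, hc2⟩ := htrans a' b (ha2.trans hb.symm)
      rw [← hc2]
      exact h2 c (hc1.trans ha1)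

end Groth.Agent.Lib.Helper11.KMAff
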