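import Mathlib
import Groth.Agent.Lib.Helper11ChevB
import Groth.Agent.Lib.Helper11KMAffA
import Groth.Agent.S7661
import Groth.Agent.Lib.Helper22ThickAffine

set_option autoImplicit false
set_option linter.style.haveILetI false
universe u
open CategoryTheory AlgebraicGeometry Limits Opposite TopologicalSpace

/-!
# Gluing affine opens of two closed subschemes (helper11)

`X` covered by two closed subschemes `X₁`, `X₂`; a finite set of points `T` of `X` whose traces on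
`X₁`, `X₂` lie in affine opens `V₁`, `V₂`.  Then `T` lies in an affine open of `X`.
-/

namespace Groth.Agent.Lib.Helper11.AffGlue

open Groth.Agent.Lib.Helper11.KMAff

variable {X X₁ X₂ : Scheme.{u}}

/-- two closed immersions from affine schemes which are jointly surjective -/
theorem isAffine_of_two_closed {U A B : Scheme.{u}} (a : A ⟶ U) (b : B ⟶ U) [IsClosedImmersion a]
    [IsClosedImmersion b] [IsAffine A] [IsAffine B]
    (hcov : ∀ x : U, x ∈ Set.range a ∨ x ∈ Set.range b) : IsAffine U := by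
  haveI : Surjective (coprod.desc a b) := by
    refine ⟨fun x => ?_⟩
    rcases hcov x with ⟨y, rfl⟩ | ⟨y, rfl⟩
    · exact ⟨(coprod.inl : A ⟶ A ⨿ B) y, by rw [← Scheme.Hom.comp_apply, coprod.inl_desc]⟩
    · exact ⟨(coprod.inr : B ⟶ A ⨿ B) y, by rw [← Scheme.Hom.comp_apply, coprod.inr_desc]⟩
  exact Groth.Agent.Lib.Helper11.Chev.isAffine_of_isIntegralHom_of_surjective (coprod.desc a b)

/-- **gluing lemma** -/
theorem exists_affine_of_two_closed (ι₁ : X₁ ⟶ X) (ι₂ : X₂ ⟶ X) [IsClosedImmersion ι₁]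
    [IsClosedImmersion ι₂] (hcov : ∀ x : X, x ∈ Set.range ι₁ ∨ x ∈ Set.range ι₂)
    (T : Set X) (hT : T.Finite) (V₁ : X₁.Opens) (hV₁ : IsAffineOpen V₁) (V₂ : X₂.Opens)
    (hV₂ : IsAffineOpen V₂) (h₁ : ι₁ ⁻¹' T ⊆ V₁) (h₂ : ι₂ ⁻¹' T ⊆ V₂) :
    ∃ U : X.Opens, IsAffineOpen U ∧ T ⊆ U := by
  classical
  set p₁ := pullback.fst ι₁ ι₂ with hp₁
  set p₂ := pullback.snd ι₁ ι₂ with hp₂
  have inj₁ : Function.Injective ι₁ := ι₁.isClosedEmbedding.injective
  have inj₂ : Function.Injective ι₂ := ι₂.isClosedEmbedding.injective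
  have hcond : ∀ q, ι₁ (p₁ q) = ι₂ (p₂ q) := by
    intro q
    rw [← Scheme.Hom.comp_apply, ← Scheme.Hom.comp_apply, pullback.condition]
  have hpt : ∀ x₁ x₂, ι₁ x₁ = ι₂ x₂ → ∃ q, p₁ q = x₁ ∧ p₂ q = x₂ := fun x₁ x₂ h =>
    Scheme.Pullback.exists_preimage_pullback x₁ x₂ h
  have hT₁ : (ι₁ ⁻¹' T).Finite := hT.preimage inj₁.injOn
  have hT₂ : (ι₂ ⁻¹' T).Finite := hT.preimage inj₂.injOn
  -- Step 1: shrink `V₂`
  let W₂ : X₂.Opens := ⟨(p₂ '' (p₁ ⁻¹' (V₁ : Set X₁))ᶜ)ᶜ,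
    (p₂.isClosedMap _ (V₁.isOpen.preimage p₁.continuous).isClosed_compl).isOpen_compl⟩
  have hT₂W : ι₂ ⁻¹' T ⊆ W₂ := by
    rintro x₂ hx₂ ⟨q, hq, rfl⟩
    apply hq
    apply h₁
    change ι₁ (p₁ q) ∈ T
    rw [hcond]
    exact hx₂
  obtain ⟨g, hTg, hgW⟩ := exists_basicOpen_of_finite hV₂ W₂ _ hT₂ h₂ hT₂W
  have hV₂' : IsAffineOpen (X₂.basicOpen g) := hV₂.basicOpen g
  have P1 : ∀ q, p₂ q ∈ X₂.basicOpen g → p₁ q ∈ V₁ := by
    intro q hq
    by_contra hn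
    exact hgW hq ⟨q, hn, rfl⟩
  -- Step 2: shrink `V₁`
  let W₁ : X₁.Opens := ⟨(p₁ '' (p₂ ⁻¹' (X₂.basicOpen g : Set X₂))ᶜ)ᶜ,
    (p₁.isClosedMap _ ((X₂.basicOpen g).isOpen.preimage p₂.continuous).isClosed_compl).isOpen_compl⟩
  have hT₁W : ι₁ ⁻¹' T ⊆ W₁ := by
    rintro x₁ hx₁ ⟨q, hq, rfl⟩
    apply hq
    apply hTg
    change ι₂ (p₂ q) ∈ T
    rw [← hcond]
    exact hx₁
  obtain ⟨f, hTf, hfW⟩ := exists_basicOpen_of_finite hV₁ W₁ _ hT₁ h₁ hT₁W
  have hV₁' : IsAffineOpen (X₁.basicOpen f) := hV₁.basicOpen f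
  have P2 : ∀ q, p₁ q ∈ X₁.basicOpen f → p₂ q ∈ X₂.basicOpen g := by
    intro q hq
    by_contra hn
    exact hfW hq ⟨q, hn, rfl⟩
  -- Step 3: transport `f` to `V₂`
  have hO : p₂ ⁻¹ᵁ X₂.basicOpen g ≤ p₁ ⁻¹ᵁ V₁ := fun q hq => P1 q hq
  let φ : Γ(pullback ι₁ ι₂, p₂ ⁻¹ᵁ X₂.basicOpen g) :=
    (pullback ι₁ ι₂).presheaf.map (homOfLE hO).op (p₁.app V₁ f)
  have hφ : (pullback ι₁ ι₂).basicOpen φ = p₁ ⁻¹ᵁ X₁.basicOpen f := by
    rw [Scheme.basicOpen_res, ← Scheme.preimage_basicOpen]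
    exact inf_eq_right.2 (fun q hq => P2 q hq)
  have hsurj : Function.Surjective (p₂.app (X₂.basicOpen g)) :=
    (isClosedImmersion_iff_isAffineHom.1 (inferInstance : IsClosedImmersion p₂)).2 _ hV₂'
  obtain ⟨g₀, hg₀⟩ := hsurj φ
  -- the primes to avoid
  let K : Ideal Γ(X₂, X₂.basicOpen g) := RingHom.ker (p₂.app (X₂.basicOpen g)).hom
  let E : Set X₂ := {x₂ | x₂ ∈ ι₂ ⁻¹' T ∧ x₂ ∉ Set.range p₂}
  have hE : E.Finite := hT₂.subset (fun x hx => hx.1)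
  let prim : X₂ → Ideal Γ(X₂, X₂.basicOpen g) := fun x₂ =>
    if h : x₂ ∈ X₂.basicOpen g then (hV₂'.primeIdealOf ⟨x₂, h⟩).asIdeal else ⊤
  have hprim : ∀ x₂ (h : x₂ ∈ X₂.basicOpen g), prim x₂ = (hV₂'.primeIdealOf ⟨x₂, h⟩).asIdeal :=
    fun x₂ h => dif_pos h
  have hKnot : ∀ x₂ ∈ E, ¬ K ≤ prim x₂ := by
    rintro x₂ ⟨hx₂T, hx₂r⟩ hle
    have hx₂g : x₂ ∈ X₂.basicOpen g := hTg hx₂T
    apply hx₂r
    have hsupp : x₂ ∈ p₂.ker.support := by
      rw [Scheme.IdealSheafData.mem_support_iff_of_mem (U := ⟨X₂.basicOpen g, hV₂'⟩) hx₂g,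
        Scheme.mem_zeroLocus_iff]
      intro k hk hxk
      have hk' : k ∈ K := by
        rw [Scheme.Hom.ker_apply] at hk
        exact hk
      have := hle hk'
      rw [hprim x₂ hx₂g] at this
      exact (Groth.Agent.Lib.Helper2.mem_basicOpen_iff_notMem_primeIdealOf hV₂' x₂ hx₂g k).1 hxk
        this
    have h3 : (p₂.ker.support : Set X₂) = Set.range p₂ := by
      rw [Scheme.Hom.support_ker]
      exact p₂.isClosedEmbedding.isClosed_range.closure_eq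
    rw [← h3]
    exact hsupp
  obtain ⟨g', hg'K, hg'⟩ := Groth.Agent.S7661.avoid_aux Γ(X₂, X₂.basicOpen g) K
    (hE.toFinset.image prim).card (hE.toFinset.image prim) rfl
    (by
      intro p hp
      obtain ⟨x₂, hx₂, rfl⟩ := Finset.mem_image.1 hp
      have hx₂E : x₂ ∈ E := hE.mem_toFinset.1 hx₂
      rw [hprim x₂ (hTg hx₂E.1)]
      exact (hV₂'.primeIdealOf _).isPrime)
    (by
      intro p hp
      obtain ⟨x₂, hx₂, rfl⟩ := Finset.mem_image.1 hp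
      exact hKnot x₂ (hE.mem_toFinset.1 hx₂)) g₀
  have hg'φ : p₂.app (X₂.basicOpen g) g' = φ := by
    rw [← hg₀]
    have : (p₂.app (X₂.basicOpen g)).hom (g' - g₀) = 0 := hg'K
    rw [map_sub, sub_eq_zero] at this
    exact this
  have hE' : p₂ ⁻¹ᵁ X₂.basicOpen g' = p₁ ⁻¹ᵁ X₁.basicOpen f := by
    rw [Scheme.preimage_basicOpen, hg'φ, hφ]
  have hV₂'' : IsAffineOpen (X₂.basicOpen g') := hV₂'.basicOpen g'
  have hTg' : ι₂ ⁻¹' T ⊆ X₂.basicOpen g' := by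
    intro x₂ hx₂
    by_cases hr : x₂ ∈ Set.range p₂
    · obtain ⟨q, rfl⟩ := hr
      have : q ∈ p₂ ⁻¹ᵁ X₂.basicOpen g' := by
        rw [hE']
        apply hTf
        change ι₁ (p₁ q) ∈ T
        rw [hcond]
        exact hx₂
      exact this
    · have hx₂E : x₂ ∈ E := ⟨hx₂, hr⟩
      have hx₂g : x₂ ∈ X₂.basicOpen g := hTg hx₂
      rw [SetLike.mem_coe,
        Groth.Agent.Lib.Helper2.mem_basicOpen_iff_notMem_primeIdealOf hV₂' x₂ hx₂g g', ← hprim x₂ hx₂g]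
      exact hg' _ (Finset.mem_image.2 ⟨x₂, hE.mem_toFinset.2 hx₂E, rfl⟩)
  -- Step 4: the union
  have Eq : ∀ q, p₂ q ∈ X₂.basicOpen g' ↔ p₁ q ∈ X₁.basicOpen f := by
    intro q
    have := congrArg (fun O : (pullback ι₁ ι₂).Opens => q ∈ O) hE'
    simp only [eq_iff_iff] at this
    exact this
  have hcompl : (ι₁ '' (X₁.basicOpen f : Set X₁) ∪ ι₂ '' (X₂.basicOpen g' : Set X₂))ᶜ =
      ι₁ '' (X₁.basicOpen f : Set X₁)ᶜ ∪ ι₂ '' (X₂.basicOpen g' : Set X₂)ᶜ := by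
    ext x
    constructor
    · intro hx
      rcases hcov x with ⟨a, rfl⟩ | ⟨b, rfl⟩
      · exact Or.inl ⟨a, fun ha => hx (Or.inl ⟨a, ha, rfl⟩), rfl⟩
      · exact Or.inr ⟨b, fun hb => hx (Or.inr ⟨b, hb, rfl⟩), rfl⟩
    · rintro (⟨a, ha, rfl⟩ | ⟨b, hb, rfl⟩)
      · rintro (⟨a', ha', haa⟩ | ⟨b, hb, hab⟩)
        · exact ha (inj₁ haa ▸ ha')
        · obtain ⟨q, rfl, rfl⟩ := hpt a b hab.symm
          exact ha ((Eq q).1 hb)
      · rintro (⟨a, ha, hab⟩ | ⟨b', hb', hbb⟩)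
        · obtain ⟨q, rfl, rfl⟩ := hpt a b hab
          exact hb ((Eq q).2 ha)
        · exact hb (inj₂ hbb ▸ hb')
  have hopen : IsOpen (ι₁ '' (X₁.basicOpen f : Set X₁) ∪ ι₂ '' (X₂.basicOpen g' : Set X₂)) := by
    rw [← isClosed_compl_iff, hcompl]
    exact (ι₁.isClosedMap _ (X₁.basicOpen f).isOpen.isClosed_compl).union
      (ι₂.isClosedMap _ (X₂.basicOpen g').isOpen.isClosed_compl)
  let U : X.Opens := ⟨_, hopen⟩
  have hU₁ : ι₁ ⁻¹ᵁ U = X₁.basicOpen f := by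
    ext a
    constructor
    · rintro (⟨a', ha', haa⟩ | ⟨b, hb, hab⟩)
      · exact inj₁ haa ▸ ha'
      · obtain ⟨q, rfl, rfl⟩ := hpt a b hab.symm
        exact (Eq q).1 hb
    · intro ha
      exact Or.inl ⟨a, ha, rfl⟩
  have hU₂ : ι₂ ⁻¹ᵁ U = X₂.basicOpen g' := by
    ext b
    constructor
    · rintro (⟨a, ha, hab⟩ | ⟨b', hb', hbb⟩)
      · obtain ⟨q, rfl, rfl⟩ := hpt a b hab
        exact (Eq q).2 ha
      · exact inj₂ hbb ▸ hb'
    · intro hb
      exact Or.inr ⟨b, hb, rfl⟩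
  refine ⟨U, ?_, ?_⟩
  · haveI : IsAffine (ι₁ ⁻¹ᵁ U : Scheme.{u}) := by rw [hU₁]; exact hV₁'
    haveI : IsAffine (ι₂ ⁻¹ᵁ U : Scheme.{u}) := by rw [hU₂]; exact hV₂''
    refine isAffine_of_two_closed (ι₁ ∣_ U) (ι₂ ∣_ U) ?_
    rintro ⟨x, hx⟩
    rcases hx with ⟨a, ha, rfl⟩ | ⟨b, hb, rfl⟩
    · exact Or.inl ⟨⟨a, Or.inl ⟨a, ha, rfl⟩⟩, Subtype.ext (morphismRestrict_base_coe _ _ _)⟩
    · exact Or.inr ⟨⟨b, Or.inr ⟨b, hb, rfl⟩⟩, Subtype.ext (morphismRestrict_base_coe _ _ _)⟩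
  · intro t ht
    rcases hcov t with ⟨a, rfl⟩ | ⟨b, rfl⟩
    · exact Or.inl ⟨a, hTf ht, rfl⟩
    · exact Or.inr ⟨b, hTg' ht, rfl⟩

open Scheme.IdealSheafData in
/-- the closed union of the closures of finitely many sets -/
def Cl (𝒮 : Finset (Set X)) : Closeds X :=
  ⟨⋃ Z ∈ 𝒮, closure Z, 𝒮.finite_toSet.isClosed_biUnion (fun _ _ => isClosed_closure)⟩

theorem mem_Cl (𝒮 : Finset (Set X)) (x : X) : x ∈ Cl 𝒮 ↔ ∃ Z ∈ 𝒮, x ∈ closure Z := by
  change x ∈ ⋃ Z ∈ 𝒮, closure Z ↔ _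
  simp only [Set.mem_iUnion, exists_prop]

theorem subschemeι_mem_support (I : X.IdealSheafData) (x : I.subscheme) :
    I.subschemeι x ∈ I.support := by
  have : I.subschemeι x ∈ Set.range I.subschemeι := ⟨x, rfl⟩
  rwa [Scheme.IdealSheafData.range_subschemeι] at this

theorem exists_subschemeι_eq (I : X.IdealSheafData) {x : X} (hx : x ∈ I.support) :
    ∃ y : I.subscheme, I.subschemeι y = x := by
  have : x ∈ Set.range I.subschemeι := by
    rw [Scheme.IdealSheafData.range_subschemeι]; exact hx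
  exact this

theorem mem_support_vanishingIdeal (Z : Closeds X) (x : X) :
    x ∈ (Scheme.IdealSheafData.vanishingIdeal Z).support ↔ x ∈ Z := by
  rw [← SetLike.mem_coe, Scheme.IdealSheafData.coe_support_vanishingIdeal]
  rfl

open Scheme.IdealSheafData in
/-- the gluing step for ideal sheaves -/
theorem exists_affine_step (I I₁ I₂ : X.IdealSheafData) (hle₁ : I ≤ I₁) (hle₂ : I ≤ I₂)
    (hsupp : ∀ x ∈ I.support, x ∈ I₁.support ∨ x ∈ I₂.support) (T : Set X) (hT : T.Finite)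
    (V₁ : I₁.subscheme.Opens) (hV₁ : IsAffineOpen V₁) (V₂ : I₂.subscheme.Opens)
    (hV₂ : IsAffineOpen V₂) (hTV₁ : I₁.subschemeι ⁻¹' T ⊆ V₁) (hTV₂ : I₂.subschemeι ⁻¹' T ⊆ V₂) :
    ∃ V : I.subscheme.Opens, IsAffineOpen V ∧ I.subschemeι ⁻¹' T ⊆ V := by
  have hinj : Function.Injective I.subschemeι := I.subschemeι.isClosedEmbedding.injective
  have e₁ : ∀ a, I.subschemeι (inclusion hle₁ a) = I₁.subschemeι a := by
    intro a
    rw [← Scheme.Hom.comp_apply, inclusion_subschemeι]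
  have e₂ : ∀ b, I.subschemeι (inclusion hle₂ b) = I₂.subschemeι b := by
    intro b
    rw [← Scheme.Hom.comp_apply, inclusion_subschemeι]
  have hcov : ∀ x : I.subscheme,
      x ∈ Set.range (inclusion hle₁) ∨ x ∈ Set.range (inclusion hle₂) := by
    intro x
    rcases hsupp _ (subschemeι_mem_support I x) with h3 | h3
    · left
      obtain ⟨a, ha⟩ := exists_subschemeι_eq I₁ h3
      exact ⟨a, hinj (by rw [e₁, ha])⟩
    · right
      obtain ⟨b, hb⟩ := exists_subschemeι_eq I₂ h3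
      exact ⟨b, hinj (by rw [e₂, hb])⟩
  have hT' : (I.subschemeι ⁻¹' T).Finite := hT.preimage hinj.injOn
  refine exists_affine_of_two_closed (inclusion hle₁) (inclusion hle₂) hcov _ hT' V₁ hV₁ V₂ hV₂
    ?_ ?_
  · intro a ha
    apply hTV₁
    change I₁.subschemeι a ∈ T
    rw [← e₁]
    exact ha
  · intro b hb
    apply hTV₂
    change I₂.subschemeι b ∈ T
    rw [← e₂]
    exact hb

open Scheme.IdealSheafData in
/-- induction over finitely many closed pieces -/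
theorem exists_affine_induct (T : Set X) (hT : T.Finite) (𝒮 : Finset (Set X))
    (h : ∀ Z ∈ 𝒮, ∃ (hZ : IsClosed Z) (V : (vanishingIdeal ⟨Z, hZ⟩).subscheme.Opens),
      IsAffineOpen V ∧ (vanishingIdeal ⟨Z, hZ⟩).subschemeι ⁻¹' T ⊆ V) :
    ∃ V : (vanishingIdeal (Cl 𝒮)).subscheme.Opens, IsAffineOpen V ∧
      (vanishingIdeal (Cl 𝒮)).subschemeι ⁻¹' T ⊆ V := by
  classical
  induction 𝒮 using Finset.induction_on with
  | empty =>
    refine ⟨⊥, isAffineOpen_bot _, ?_⟩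
    intro x _
    have h2 := (mem_support_vanishingIdeal _ _).1 (subschemeι_mem_support _ x)
    obtain ⟨Z, hZ, -⟩ := (mem_Cl _ _).1 h2
    exact absurd hZ (Finset.notMem_empty Z)
  | insert Z 𝒮 hZ𝒮 ih =>
    obtain ⟨V₁, hV₁, hTV₁⟩ := ih (fun Z' hZ' => h Z' (Finset.mem_insert_of_mem hZ'))
    obtain ⟨hZc, V₂, hV₂, hTV₂⟩ := h Z (Finset.mem_insert_self Z 𝒮)
    refine exists_affine_step _ _ _ ?_ ?_ ?_ T hT V₁ hV₁ V₂ hV₂ hTV₁ hTV₂
    · refine vanishingIdeal_antimono ?_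
      intro x hx
      obtain ⟨Z', hZ', hx'⟩ := (mem_Cl _ _).1 hx
      exact (mem_Cl _ _).2 ⟨Z', Finset.mem_insert_of_mem hZ', hx'⟩
    · refine vanishingIdeal_antimono ?_
      intro x hx
      exact (mem_Cl _ _).2 ⟨Z, Finset.mem_insert_self Z 𝒮, subset_closure hx⟩
    · intro x hx
      obtain ⟨Z', hZ', hx'⟩ := (mem_Cl _ _).1 ((mem_support_vanishingIdeal _ _).1 hx)
      rcases Finset.mem_insert.1 hZ' with rfl | hZ''
      · right
        rw [hZc.closure_eq] at hx'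
        exact (mem_support_vanishingIdeal _ _).2 hx'
      · left
        exact (mem_support_vanishingIdeal _ _).2 ((mem_Cl _ _).2 ⟨Z', hZ'', hx'⟩)

open Scheme.IdealSheafData in
/-- **S7662** -/
theorem exists_affine_of_per_component
    (hX : (irreducibleComponents (X : Type u)).Finite) (T : Finset X)
    (h : ∀ (Z : Set X) (hZ : Z ∈ irreducibleComponents (X : Type u)),
      ∃ V : (vanishingIdeal
          (⟨Z, isClosed_of_mem_irreducibleComponents Z hZ⟩ : Closeds X)).subscheme.Opens,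
        IsAffineOpen V ∧ ∀ t ∈ T, t ∈ Z → t ∈ (vanishingIdeal
          (⟨Z, isClosed_of_mem_irreducibleComponents Z hZ⟩ : Closeds X)).subschemeι.base ''
            (V : Set _)) :
    ∃ U : X.Opens, IsAffineOpen U ∧ ∀ t ∈ T, t ∈ U := by
  classical
  have key := exists_affine_induct (X := X) (T : Set X) T.finite_toSet hX.toFinset
    (by
      intro Z hZ
      have hZ' : Z ∈ irreducibleComponents (X : Type u) := hX.mem_toFinset.1 hZ
      obtain ⟨V, hV, hTV⟩ := h Z hZ'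
      refine ⟨isClosed_of_mem_irreducibleComponents Z hZ', V, hV, ?_⟩
      intro x hx
      have hxZ : (vanishingIdeal (⟨Z, isClosed_of_mem_irreducibleComponents Z hZ'⟩ :
          Closeds X)).subschemeι x ∈ Z :=
        (mem_support_vanishingIdeal _ _).1 (subschemeι_mem_support _ x)
      obtain ⟨v, hv, hvx⟩ := hTV _ hx hxZ
      have : v = x := (vanishingIdeal (⟨Z, isClosed_of_mem_irreducibleComponents Z hZ'⟩ :
          Closeds X)).subschemeι.isClosedEmbedding.injective hvx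
      exact this ▸ hv)
  generalize hI : vanishingIdeal (Cl hX.toFinset) = I at key
  obtain ⟨V, hV, hTV⟩ := key
  have hsupp : ∀ x : X, x ∈ I.support := by
    intro x
    rw [← hI, mem_support_vanishingIdeal]
    have hx : x ∈ ⋃₀ irreducibleComponents (X : Type u) := by
      rw [sUnion_irreducibleComponents]; trivial
    obtain ⟨Z, hZ, hxZ⟩ := hx
    exact (mem_Cl _ _).2 ⟨Z, hX.mem_toFinset.2 hZ, subset_closure hxZ⟩
  have hsurj : Function.Surjective I.subschemeι := fun x => exists_subschemeι_eq I (hsupp x)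
  have hopen : IsOpenMap I.subschemeι :=
    (Groth.Agent.Lib.Helper22.ThickAffine.isHomeomorph_of_surjective _ hsurj).isOpenMap
  let U : X.Opens := ⟨I.subschemeι '' (V : Set I.subscheme), hopen _ V.2⟩
  have hpre : I.subschemeι ⁻¹ᵁ U = V :=
    Opens.ext (Set.preimage_image_eq _ I.subschemeι.isClosedEmbedding.injective)
  refine ⟨U, ?_, ?_⟩
  · haveI : IsAffine (I.subschemeι ⁻¹ᵁ U : Scheme.{u}) := by rw [hpre]; exact hV
    have hs : Function.Surjective (I.subschemeι ∣_ U) := by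
      rintro ⟨x, v, hv, rfl⟩
      exact ⟨⟨v, by rw [hpre]; exact hv⟩, Subtype.ext (morphismRestrict_base_coe _ _ _)⟩
    exact Groth.Agent.Lib.Helper22.ThickAffine.isAffine_of_thickening (I.subschemeι ∣_ U) hs
  · intro t ht
    obtain ⟨y, rfl⟩ := hsurj t
    exact ⟨y, hTV ht, rfl⟩

end Groth.Agent.Lib.Helper11.AffGlue
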