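import Mathlib

set_option autoImplicit false
universe u
open CategoryTheory AlgebraicGeometry TopologicalSpace

namespace Groth.Agent.Lib.Helper11

/-- A point specializing to the generic point of an irreducible component equals it. -/
lemma eq_of_specializes_generic {X : Type*} [TopologicalSpace X] [T0Space X] {η y : X}
    (hη : closure ({η} : Set X) ∈ irreducibleComponents X) (h : y ⤳ η) : y = η := by
  have h1 : closure ({η} : Set X) ⊆ closure {y} := specializes_iff_closure_subset.mp h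
  have h2 : IsIrreducible (closure ({y} : Set X)) := isIrreducible_singleton.closure
  have h3 : closure ({y} : Set X) ⊆ closure {η} := hη.2 h2 h1
  have : Inseparable y η := by
    rw [inseparable_iff_closure_eq]; exact le_antisymm h3 h1
  exact this.eq

/-- At the generic point of an irreducible component, a section not invertible there has
nilpotent germ. -/
lemma isNilpotent_germ_of_generic {X : Scheme.{u}} {η : X}
    (hη : closure ({η} : Set X) ∈ irreducibleComponents X) {U : X.Opens} (hU : IsAffineOpen U)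
    (hηU : η ∈ U) (x : Γ(X, U)) (hx : η ∉ X.basicOpen x) :
    IsNilpotent (X.presheaf.germ U η hηU x) := by
  set p := hU.primeIdealOf ⟨η, hηU⟩ with hp
  have hmin : p.asIdeal ∈ minimalPrimes Γ(X, U) := by
    refine ⟨⟨p.2, bot_le⟩, ?_⟩
    rintro q ⟨hq, -⟩ hqp
    let q' : PrimeSpectrum Γ(X, U) := ⟨q, hq⟩
    have h1 : q' ⤳ p := (PrimeSpectrum.le_iff_specializes q' p).mp hqp
    have h2 : hU.fromSpec q' ⤳ hU.fromSpec p := h1.map hU.fromSpec.continuous
    rw [hU.fromSpec_primeIdealOf] at h2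
    have h3 := eq_of_specializes_generic hη h2
    have h4 : q' = p := by
      apply hU.fromSpec.isOpenEmbedding.injective
      rw [h3, hU.fromSpec_primeIdealOf]
    exact (congrArg PrimeSpectrum.asIdeal h4).ge
  let := X.presheaf.algebra_section_stalk ⟨η, hηU⟩
  have := hU.isLocalization_stalk ⟨η, hηU⟩
  have hrad := IsLocalization.AtPrime.radical_map_of_mem_minimalPrimes (X.presheaf.stalk η)
    p.asIdeal ⊥ hmin
  rw [Ideal.map_bot] at hrad
  have hxp : x ∈ p.asIdeal := by
    by_contra hxp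
    apply hx
    have h5 : p ∈ PrimeSpectrum.basicOpen x := hxp
    rw [← hU.fromSpec_preimage_basicOpen] at h5
    have h6 : hU.fromSpec p ∈ X.basicOpen x := h5
    rwa [hU.fromSpec_primeIdealOf] at h6
  have h7 : algebraMap _ (X.presheaf.stalk η) x ∈ (⊥ : Ideal (X.presheaf.stalk η)).radical := by
    rw [hrad]; exact Ideal.mem_map_of_mem _ hxp
  obtain ⟨n, hn⟩ := h7
  exact ⟨n, hn⟩

/-- Near the generic point of an irreducible component, a section vanishing there is nilpotent:
there is a basic open around the point disjoint from the basic open of the section. -/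
lemma exists_basicOpen_disjoint_of_generic {X : Scheme.{u}} {η : X}
    (hη : closure ({η} : Set X) ∈ irreducibleComponents X) {U : X.Opens} (hU : IsAffineOpen U)
    (hηU : η ∈ U) (x : Γ(X, U)) (hx : η ∉ X.basicOpen x) :
    ∃ s : Γ(X, U), η ∈ X.basicOpen s ∧ X.basicOpen s ⊓ X.basicOpen x = ⊥ := by
  obtain ⟨n, hn⟩ := isNilpotent_germ_of_generic hη hU hηU x hx
  rw [← map_pow] at hn
  have hn' : X.presheaf.germ U η hηU (x ^ n) = X.presheaf.germ U η hηU 0 := by
    rw [hn, map_zero]
  obtain ⟨W, hηW, iU, iV, hW⟩ := TopCat.Presheaf.germ_eq X.presheaf η hηU hηU _ _ hn'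
  obtain ⟨s, hsW, hηs⟩ := hU.exists_basicOpen_le (V := W) ⟨η, hηW⟩ hηU
  refine ⟨s, hηs, ?_⟩
  rw [eq_bot_iff]
  rintro y ⟨hys, hyx⟩
  have hyW : y ∈ W := hsW hys
  have hyU : y ∈ U := iU.le hyW
  have hu : IsUnit (X.presheaf.germ U y hyU x) := (X.mem_basicOpen x y hyU).mp hyx
  have h0 : X.presheaf.germ U y hyU (x ^ n) = 0 := by
    rw [← TopCat.Presheaf.germ_res_apply X.presheaf iU y hyW, hW, map_zero, map_zero]
  rw [map_pow] at h0
  exact not_isUnit_zero (h0 ▸ hu.pow n)

lemma mem_basicOpen_prod {X : Scheme.{u}} {U : X.Opens} {ι : Type*} (T : Finset ι)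
    (s : ι → Γ(X, U)) (η : X) (hηU : η ∈ U) (h : ∀ y ∈ T, η ∈ X.basicOpen (s y)) :
    η ∈ X.basicOpen (∏ y ∈ T, s y) := by
  classical
  induction T using Finset.induction_on with
  | empty => simpa using hηU
  | insert a T ha ih =>
    rw [Finset.prod_insert ha, Scheme.basicOpen_mul]
    exact ⟨h a (Finset.mem_insert_self _ _), ih fun y hy => h y (Finset.mem_insert_of_mem hy)⟩

lemma basicOpen_prod_le {X : Scheme.{u}} {U : X.Opens} {ι : Type*} (T : Finset ι)
    (s : ι → Γ(X, U)) (y : ι) (hy : y ∈ T) :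
    X.basicOpen (∏ y ∈ T, s y) ≤ X.basicOpen (s y) := by
  classical
  rw [← Finset.mul_prod_erase T s hy, Scheme.basicOpen_mul]
  exact inf_le_left

/-- Shrinking lemma: in a quasi-separated scheme, the generic point of an irreducible component
that is not in a quasi-compact open `W` has a basic open neighbourhood (inside a given affine
open) disjoint from `W`. -/
lemma exists_basicOpen_disjoint_compact {X : Scheme.{u}} [QuasiSeparatedSpace X] {η : X}
    (hη : closure ({η} : Set X) ∈ irreducibleComponents X) {U : X.Opens} (hU : IsAffineOpen U)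
    (hηU : η ∈ U) (W : X.Opens) (hW : IsCompact (W : Set X)) (hηW : η ∉ W) :
    ∃ s : Γ(X, U), η ∈ X.basicOpen s ∧ X.basicOpen s ⊓ W = ⊥ := by
  classical
  have hc : IsCompact ((U : Set X) ∩ W) :=
    QuasiSeparatedSpace.inter_isCompact _ _ U.2 hU.isCompact W.2 hW
  have hf : ∀ y : X, ∃ f : Γ(X, U), ∃ s : Γ(X, U), y ∈ (U : Set X) ∩ W →
      (y ∈ X.basicOpen f ∧ η ∈ X.basicOpen s ∧ X.basicOpen s ⊓ X.basicOpen f = ⊥) := by
    intro y
    by_cases hy : y ∈ (U : Set X) ∩ W
    · obtain ⟨f, hfle, hyf⟩ := hU.exists_basicOpen_le (V := U ⊓ W) ⟨y, hy⟩ hy.1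
      have hηf : η ∉ X.basicOpen f := fun h => hηW (hfle h).2
      obtain ⟨s, hs1, hs2⟩ := exists_basicOpen_disjoint_of_generic hη hU hηU f hηf
      exact ⟨f, s, fun _ => ⟨hyf, hs1, hs2⟩⟩
    · exact ⟨0, 0, fun h => absurd h hy⟩
  choose f s hfs using hf
  obtain ⟨b, hbsub, hbfin, hbcov⟩ := hc.elim_finite_subcover_image
    (b := (U : Set X) ∩ W) (c := fun y => ((X.basicOpen (f y) : X.Opens) : Set X))
    (fun y _ => (X.basicOpen (f y)).2)
    (fun y hy => Set.mem_biUnion hy (hfs y hy).1)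
  refine ⟨∏ y ∈ hbfin.toFinset, s y, ?_, ?_⟩
  · apply mem_basicOpen_prod _ _ _ hηU
    intro y hy
    exact (hfs y (hbsub (hbfin.mem_toFinset.mp hy))).2.1
  · rw [eq_bot_iff]
    rintro z ⟨hz1, hz2⟩
    have hzU : z ∈ U := X.basicOpen_le _ hz1
    obtain ⟨y, hyb, hzy⟩ := Set.mem_iUnion₂.mp (hbcov ⟨hzU, hz2⟩)
    have h1 : z ∈ X.basicOpen (s y) :=
      basicOpen_prod_le _ s y (hbfin.mem_toFinset.mpr hyb) hz1
    have h2 := (hfs y (hbsub hyb)).2.2
    have h3 : z ∈ X.basicOpen (s y) ⊓ X.basicOpen (f y) := ⟨h1, hzy⟩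
    rw [h2] at h3
    exact h3

/-- In a quasi-separated scheme, finitely many generic points of irreducible components outside a
quasi-compact open `W₀` have pairwise disjoint affine open neighbourhoods disjoint from `W₀`. -/
lemma exists_disjoint_affine_nhds {X : Scheme.{u}} [QuasiSeparatedSpace X] (S : Set X)
    (hS : S.Finite) (hgen : ∀ y ∈ S, closure ({y} : Set X) ∈ irreducibleComponents X)
    (W₀ : X.Opens) (hW₀ : IsCompact (W₀ : Set X)) (hSW : ∀ y ∈ S, y ∉ W₀) :
    ∃ U : X → X.Opens, (∀ y ∈ S, IsAffineOpen (U y) ∧ y ∈ U y ∧ Disjoint (U y) W₀) ∧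
      ∀ y ∈ S, ∀ z ∈ S, y ≠ z → Disjoint (U y) (U z) := by
  classical
  have hA : ∀ y : X, ∃ A : X.Opens, y ∈ S →
      (IsAffineOpen A ∧ y ∈ A ∧ ∀ z ∈ S, z ≠ y → z ∉ A) := by
    intro y
    by_cases hy : y ∈ S
    · let O : Set X := ⋂ z ∈ S \ {y}, (closure ({z} : Set X))ᶜ
      have hO : IsOpen O := (hS.subset Set.sdiff_subset).isOpen_biInter
        (fun z _ => isClosed_closure.isOpen_compl)
      have hyO : y ∈ O := by
        simp only [O, Set.mem_iInter]
        intro z hz hyz
        have h1 : z ⤳ y := specializes_iff_mem_closure.mpr hyz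
        exact hz.2 (eq_of_specializes_generic (hgen y hy) h1)
      obtain ⟨A, hAaff, hyA, hAO⟩ :=
        exists_isAffineOpen_mem_and_subset (x := y) (U := ⟨O, hO⟩) hyO
      refine ⟨A, fun _ => ⟨hAaff, hyA, fun z hz hzy hzA => ?_⟩⟩
      have h2 : z ∈ O := hAO hzA
      simp only [O, Set.mem_iInter] at h2
      exact h2 z ⟨hz, hzy⟩ (subset_closure rfl)
    · exact ⟨⊥, fun h => absurd h hy⟩
  choose A hA using hA
  have hU : ∀ y : X, ∃ V : X.Opens, y ∈ S → (IsAffineOpen V ∧ y ∈ V ∧ V ≤ A y ∧ Disjoint V W₀ ∧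
      ∀ z ∈ S, z ≠ y → Disjoint V (A z)) := by
    intro y
    by_cases hy : y ∈ S
    · let W : X.Opens := W₀ ⊔ ⨆ z ∈ S \ {y}, A z
      have hWc : IsCompact (W : Set X) := by
        have : (W : Set X) = (W₀ : Set X) ∪ ⋃ z ∈ S \ {y}, (A z : Set X) := by
          simp [W]
        rw [this]
        refine hW₀.union ((hS.subset Set.sdiff_subset).isCompact_biUnion ?_)
        intro z hz
        exact (hA z hz.1).1.isCompact
      have hyW : y ∉ W := by
        intro hyW
        have : y ∈ (W₀ : Set X) ∪ ⋃ z ∈ S \ {y}, (A z : Set X) := by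
          simpa [W] using hyW
        rcases this with h | h
        · exact hSW y hy h
        · obtain ⟨z, hz, hyz⟩ := Set.mem_iUnion₂.mp h
          exact (hA z hz.1).2.2 y hy (fun e => hz.2 e.symm) hyz
      obtain ⟨s, hys, hsW⟩ := exists_basicOpen_disjoint_compact (hgen y hy) (hA y hy).1
        (hA y hy).2.1 W hWc hyW
      refine ⟨X.basicOpen s, fun _ => ⟨(hA y hy).1.basicOpen s, hys, X.basicOpen_le s, ?_, ?_⟩⟩
      · rw [disjoint_iff]
        exact le_bot_iff.mp (hsW ▸ inf_le_inf_left _ le_sup_left)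
      · intro z hz hzy
        rw [disjoint_iff]
        refine le_bot_iff.mp (hsW ▸ inf_le_inf_left _ ?_)
        exact le_sup_of_le_right (le_iSup₂_of_le z ⟨hz, hzy⟩ le_rfl)
    · exact ⟨⊥, fun h => absurd h hy⟩
  choose U hU using hU
  refine ⟨U, fun y hy => ⟨(hU y hy).1, (hU y hy).2.1, (hU y hy).2.2.2.1⟩,
    fun y hy z hz hyz => ?_⟩
  exact ((hU y hy).2.2.2.2 z hz hyz.symm).mono_right (hU z hz).2.2.1

end Groth.Agent.Lib.Helper11
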