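import Mathlib
import Groth.Agent.Lib.Helper11Generic

set_option autoImplicit false
set_option linter.style.haveILetI false
universe u
open CategoryTheory AlgebraicGeometry TopologicalSpace

/-!
# Generic points of irreducible components (helper11)

`IsGen x` : `x` has no proper generizations.  In quasi-sober `T₀` spaces these are exactly the
generic points of the irreducible components.
-/

namespace Groth.Agent.Lib.Helper11.GenPt

variable {α β : Type*} [TopologicalSpace α] [TopologicalSpace β]

/-- a point without proper generizations -/
def IsGen (x : α) : Prop := ∀ y : α, y ⤳ x → y = x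

theorem isGen_of_closure_mem [T0Space α] {x : α}
    (h : closure ({x} : Set α) ∈ irreducibleComponents α) : IsGen x :=
  fun _ hy => Groth.Agent.Lib.Helper11.eq_of_specializes_generic h hy

theorem closure_mem_of_isGen [QuasiSober α] {x : α} (h : IsGen x) :
    closure ({x} : Set α) ∈ irreducibleComponents α := by
  refine ⟨isIrreducible_singleton.closure, fun Z hZ hle => ?_⟩
  obtain ⟨η, hη⟩ := QuasiSober.sober hZ.closure isClosed_closure
  have hy : x ∈ closure Z := subset_closure (hle (subset_closure rfl))
  have h1 : η ⤳ x := hη.specializes hy
  have h2 : η = x := h η h1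
  rw [← h2]
  intro z hz
  have : z ∈ closure Z := subset_closure hz
  rw [← hη.def] at this
  exact this

theorem isGen_iff [QuasiSober α] [T0Space α] {x : α} :
    IsGen x ↔ closure ({x} : Set α) ∈ irreducibleComponents α :=
  ⟨closure_mem_of_isGen, isGen_of_closure_mem⟩

/-- every point has a generization without proper generizations -/
theorem exists_isGen_specializes [QuasiSober α] [T0Space α] (y : α) : ∃ ξ : α, IsGen ξ ∧ ξ ⤳ y := by
  have hZ : irreducibleComponent y ∈ irreducibleComponents α := irreducibleComponent_mem_irreducibleComponents y
  have hirr : IsIrreducible (irreducibleComponent y) := hZ.1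
  have hcl : IsClosed (irreducibleComponent y) := isClosed_irreducibleComponent
  obtain ⟨ξ, hξ⟩ := QuasiSober.sober hirr hcl
  refine ⟨ξ, ?_, hξ.specializes mem_irreducibleComponent⟩
  apply isGen_of_closure_mem
  rw [hξ.def]
  exact hZ

/-- transport along open embeddings -/
theorem isGen_iff_of_isOpenEmbedding {e : α → β} (he : Topology.IsOpenEmbedding e) (a : α) :
    IsGen (e a) ↔ IsGen a := by
  constructor
  · intro h y hy
    exact he.injective (h (e y) (hy.map he.continuous))
  · intro h y hy
    have hyr : y ∈ Set.range e := hy.mem_open he.isOpen_range ⟨a, rfl⟩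
    obtain ⟨b, rfl⟩ := hyr
    rw [he.isInducing.specializes_iff] at hy
    rw [h b hy]

/-- the set of generic points is finite iff there are finitely many irreducible components -/
theorem finite_setOf_isGen_iff [QuasiSober α] [T0Space α] :
    {x : α | IsGen x}.Finite ↔ (irreducibleComponents α).Finite := by
  have himg : (fun x : α => closure ({x} : Set α)) '' {x : α | IsGen x} = irreducibleComponents α := by
    ext Z
    constructor
    · rintro ⟨x, hx, rfl⟩
      exact closure_mem_of_isGen hx
    · intro hZ
      obtain ⟨ξ, hξ⟩ := QuasiSober.sober hZ.1 (isClosed_of_mem_irreducibleComponents Z hZ)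
      refine ⟨ξ, ?_, hξ.def⟩
      apply isGen_of_closure_mem
      rw [hξ.def]
      exact hZ
  have hinj : Set.InjOn (fun x : α => closure ({x} : Set α)) {x : α | IsGen x} := by
    intro x _ y _ hxy
    have : Inseparable x y := inseparable_iff_closure_eq.2 hxy
    exact this.eq
  rw [← himg]
  exact (Set.finite_image_iff hinj).symm

end Groth.Agent.Lib.Helper11.GenPt
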