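import Mathlib
import Groth.Agent.Lib.Helper11GenPt

set_option autoImplicit false
set_option linter.style.haveILetI false
universe u
open CategoryTheory AlgebraicGeometry TopologicalSpace Opposite

namespace Groth.Agent.Lib.Helper11.StalkGen

open Groth.Agent.Lib.Helper11.GenPt

/-- generizations lift along a morphism inducing an isomorphism of local rings -/
theorem exists_specializes_of_isIso_stalkMap {T X : Scheme.{u}} (f : T ⟶ X) (t : T)
    [IsIso (f.stalkMap t)] (θ : X) (hθ : θ ⤳ f t) : ∃ η : T, η ⤳ t ∧ f η = θ := by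
  have h1 : θ ∈ Set.range (X.fromSpecStalk (f t)) := by
    rw [Scheme.range_fromSpecStalk]; exact hθ
  obtain ⟨p, rfl⟩ := h1
  let q := (inv (Spec.map (f.stalkMap t))) p
  have hq : (Spec.map (f.stalkMap t)) q = p := by
    change (Spec.map (f.stalkMap t)) ((inv (Spec.map (f.stalkMap t))) p) = p
    rw [← Scheme.Hom.comp_apply, IsIso.inv_hom_id]
    rfl
  refine ⟨T.fromSpecStalk t q, ?_, ?_⟩
  · have : T.fromSpecStalk t q ∈ Set.range (T.fromSpecStalk t) := ⟨q, rfl⟩
    rw [Scheme.range_fromSpecStalk] at this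
    exact this
  · rw [← Scheme.Hom.comp_apply, ← Scheme.SpecMap_stalkMap_fromSpecStalk, Scheme.Hom.comp_apply, hq]

/-- injectivity of the map on local rings for a morphism to a reduced scheme through which
generic points lift compatibly with specialization -/
theorem stalkMap_injective {T T' : Scheme.{u}} [IsReduced T'] (π : T ⟶ T') (t : T)
    (hfin : {ξ' : T' | IsGen ξ'}.Finite)
    (hK : ∀ ξ' : T', IsGen ξ' → ξ' ⤳ π t → ∃ η : T, π η = ξ' ∧ η ⤳ t) :
    Function.Injective (π.stalkMap t) := by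
  rw [injective_iff_map_eq_zero]
  intro a ha
  obtain ⟨U, ht'U, σ, rfl⟩ := T'.presheaf.exists_germ_eq (x := π t) a
  rw [Scheme.Hom.germ_stalkMap_apply] at ha
  have h0 : T.presheaf.germ (π ⁻¹ᵁ U) t ht'U (π.app U σ) =
      T.presheaf.germ (π ⁻¹ᵁ U) t ht'U 0 := by rw [ha, map_zero]
  obtain ⟨W, htW, iU, iV, hW⟩ := T.presheaf.germ_eq t ht'U ht'U _ _ h0
  rw [map_zero] at hW
  -- the bad closed set
  let Bad : Set T' := {ξ' | IsGen ξ' ∧ ¬ ξ' ⤳ π t}
  have hBadfin : Bad.Finite := hfin.subset (fun _ h => h.1)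
  let B : Set T' := ⋃ ξ' ∈ Bad, closure {ξ'}
  have hB : IsClosed B := hBadfin.isClosed_biUnion (fun _ _ => isClosed_closure)
  have htB : π t ∉ B := by
    intro h
    obtain ⟨ξ', hξ', hmem⟩ := Set.mem_iUnion₂.1 h
    exact hξ'.2 (specializes_iff_mem_closure.2 hmem)
  let N' : T'.Opens := U ⊓ ⟨Bᶜ, hB.isOpen_compl⟩
  have htN : π t ∈ N' := ⟨ht'U, htB⟩
  have hle : N' ≤ U := inf_le_left
  have hzero : T'.presheaf.map (homOfLE hle).op σ = 0 := by
    rw [← basicOpen_eq_bot_iff, eq_bot_iff]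
    intro y hy
    rw [Scheme.basicOpen_res] at hy
    obtain ⟨ξ', hξ'gen, hξ'y⟩ := exists_isGen_specializes y
    have hξ'N : ξ' ∈ N' := hξ'y.mem_open N'.2 hy.1
    have hξ'σ : ξ' ∈ T'.basicOpen σ := hξ'y.mem_open (T'.basicOpen σ).2 hy.2
    have hξ't : ξ' ⤳ π t := by
      by_contra hn
      exact hξ'N.2 (Set.mem_iUnion₂.2 ⟨ξ', ⟨hξ'gen, hn⟩, subset_closure rfl⟩)
    obtain ⟨η, rfl, hηt⟩ := hK ξ' hξ'gen hξ't
    have hηW : η ∈ W := hηt.mem_open W.2 htW
    have hη1 : η ∈ T.basicOpen (π.app U σ) := by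
      rw [← Scheme.preimage_basicOpen]
      exact hξ'σ
    have hη2 : η ∈ T.basicOpen (T.presheaf.map iU.op (π.app U σ)) := by
      rw [Scheme.basicOpen_res]
      exact ⟨hηW, hη1⟩
    rw [hW, Scheme.basicOpen_zero] at hη2
    exact hη2
  rw [← T'.presheaf.germ_res_apply (homOfLE hle) (π t) htN σ, hzero, map_zero]

end Groth.Agent.Lib.Helper11.StalkGen
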