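import Mathlib
import Groth.Agent.Lib.Helper11StalkGen
import Groth.Agent.Lib.Helper11KMAffA
import Groth.Agent.S7658
import Groth.Agent.S7659

set_option autoImplicit false
set_option linter.style.haveILetI false
universe u
open CategoryTheory AlgebraicGeometry TopologicalSpace Opposite Limits

/-!
# Affine opens containing images of points of an affine scheme: the core case (helper11)
-/

namespace Groth.Agent.Lib.Helper11.AffImg

open Groth.Agent.Lib.Helper11.GenPt Groth.Agent.Lib.Helper11.StalkGen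
  Groth.Agent.Lib.Helper11.KMAff

/-- core case: `T → T' → X` with `T'` affine reduced of finite type over the reduced scheme `X`,
`T → T'` dominant. -/
theorem core {T T' X : Scheme.{u}} [IsAffine T'] [IsReduced T'] [IsReduced X]
    (π : T ⟶ T') [IsDominant π] (g : T' ⟶ X) [LocallyOfFiniteType g]
    (hX : {ξ : X | IsGen ξ}.Finite)
    (hgen : ∀ η : T, IsGen η → IsGen ((π ≫ g) η))
    (hinj : ∀ η η' : T, IsGen η → IsGen η' → (π ≫ g) η = (π ≫ g) η' → η = η')
    (s : Finset T) (hs : ∀ t ∈ s, IsIso ((π ≫ g).stalkMap t)) :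
    ∃ U : X.Opens, IsAffineOpen U ∧ ∀ t ∈ s, (π ≫ g) t ∈ U := by
  classical
  have hcomp : ∀ z : T, (π ≫ g) z = g (π z) := fun z => Scheme.Hom.comp_apply _ _ _
  have hTfin : {η : T | IsGen η}.Finite := by
    refine Set.Finite.of_injOn (f := fun η => (π ≫ g) η) (t := {ξ : X | IsGen ξ}) ?_ ?_ hX
    · intro η hη
      exact hgen η hη
    · intro η hη η' hη' h
      exact hinj η η' hη hη' h
  -- dominance: generic points of `T'` are images of generic points of `T`
  have hdom : ∀ ξ' : T', IsGen ξ' → ∃ η : T, IsGen η ∧ π η = ξ' := by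
    intro ξ' hξ'
    let C : Set T' := ⋃ η ∈ {η : T | IsGen η}, closure {π η}
    have hC : IsClosed C := hTfin.isClosed_biUnion (fun _ _ => isClosed_closure)
    have hrange : Set.range π ⊆ C := by
      rintro _ ⟨z, rfl⟩
      obtain ⟨η, hη, hηz⟩ := exists_isGen_specializes z
      exact Set.mem_iUnion₂.2 ⟨η, hη, (specializes_iff_mem_closure.1 (hηz.map π.continuous))⟩
    have huniv : C = Set.univ := by
      rw [← Set.univ_subset_iff, ← π.denseRange.closure_range]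
      exact closure_minimal hrange hC
    have : ξ' ∈ C := by rw [huniv]; trivial
    obtain ⟨η, hη, hmem⟩ := Set.mem_iUnion₂.1 this
    exact ⟨η, hη, hξ' _ (specializes_iff_mem_closure.2 hmem)⟩
  have hT'fin : {ξ' : T' | IsGen ξ'}.Finite := by
    refine (hTfin.image π).subset ?_
    intro ξ' hξ'
    obtain ⟨η, hη, rfl⟩ := hdom ξ' hξ'
    exact ⟨η, hη, rfl⟩
  -- the key lifting property
  have hK : ∀ t ∈ s, ∀ ξ' : T', IsGen ξ' → ξ' ⤳ π t → ∃ η : T, π η = ξ' ∧ η ⤳ t := by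
    intro t ht ξ' hξ' hξ't
    haveI := hs t ht
    obtain ⟨η₁, hη₁, rfl⟩ := hdom ξ' hξ'
    have hθ : (π ≫ g) η₁ ⤳ (π ≫ g) t := by
      rw [hcomp, hcomp]
      exact hξ't.map g.continuous
    obtain ⟨η₂, hη₂t, hη₂⟩ := @exists_specializes_of_isIso_stalkMap _ _ (π ≫ g) t (hs t ht) _ hθ
    obtain ⟨η₃, hη₃, hη₃₂⟩ := exists_isGen_specializes η₂
    have h1 : (π ≫ g) η₃ ⤳ (π ≫ g) η₁ := by
      rw [← hη₂]
      exact hη₃₂.map (π ≫ g).continuous
    have h2 : (π ≫ g) η₃ = (π ≫ g) η₁ := hgen η₁ hη₁ _ h1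
    have h3 : η₃ = η₁ := hinj η₃ η₁ hη₃ hη₁ h2
    exact ⟨η₁, rfl, (h3 ▸ hη₃₂).trans hη₂t⟩
  -- the stalk maps of `g` are isomorphisms
  have hiso : ∀ t ∈ s, IsIso (g.stalkMap (π t)) := by
    intro t ht
    haveI := hs t ht
    have hinjB : Function.Injective (π.stalkMap t) := stalkMap_injective π t hT'fin (hK t ht)
    have hcompS : (π ≫ g).stalkMap t = g.stalkMap (π t) ≫ π.stalkMap t :=
      Scheme.Hom.stalkMap_comp π g t
    haveI : IsIso (g.stalkMap (π t) ≫ π.stalkMap t) := by rw [← hcompS]; exact hs t ht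
    have hsurjB : Function.Surjective (π.stalkMap t) := by
      intro y
      obtain ⟨x', hx'⟩ := (ConcreteCategory.bijective_of_isIso
        (g.stalkMap (π t) ≫ π.stalkMap t)).2 y
      exact ⟨g.stalkMap (π t) x', hx'⟩
    haveI : IsIso (π.stalkMap t) :=
      (ConcreteCategory.isIso_iff_bijective _).2 ⟨hinjB, hsurjB⟩
    exact IsIso.of_isIso_comp_right (g.stalkMap (π t)) (π.stalkMap t)
  -- local open immersions
  have hS : (irreducibleComponents (X : Type u)).Finite := finite_setOf_isGen_iff.1 hX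
  have hU : ∀ t : T, ∃ Ut : T'.Opens, t ∈ s → (π t ∈ Ut ∧ IsOpenImmersion (Ut.ι ≫ g)) := by
    intro t
    by_cases ht : t ∈ s
    · obtain ⟨Ut, h1, h2⟩ := Groth.Agent.S7659.result g hS (π t) (hiso t ht)
      exact ⟨Ut, fun _ => ⟨h1, h2⟩⟩
    · exact ⟨⊥, fun h => absurd h ht⟩
  choose Uf hUf using hU
  let V : T'.Opens := ⨆ t ∈ s, Uf t
  have hUV : ∀ t ∈ s, Uf t ≤ V := fun t ht => le_iSup₂_of_le t ht le_rfl
  haveI : IsSeparated (V.ι ≫ g) := inferInstance
  haveI : IsOpenImmersion (V.ι ≫ g) := by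
    refine Groth.Agent.S7658.result (V.ι ≫ g) ?_ ?_
    · intro x
      have hx : V.ι x ∈ V := by
        have : V.ι x ∈ Set.range V.ι := ⟨x, rfl⟩
        rwa [Scheme.Opens.range_ι] at this
      obtain ⟨t, hx'⟩ := Opens.mem_iSup.1 hx
      obtain ⟨ht, hxt⟩ := Opens.mem_iSup.1 hx'
      refine ⟨V.ι ⁻¹ᵁ Uf t, hxt, ?_⟩
      haveI := (hUf t ht).2
      have hrange : Set.range ((V.ι ⁻¹ᵁ Uf t).ι ≫ V.ι) ⊆ Set.range (Uf t).ι := by
        rintro _ ⟨y, rfl⟩
        rw [Scheme.Opens.range_ι, Scheme.Hom.comp_apply]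
        exact y.2
      let k := IsOpenImmersion.lift (Uf t).ι ((V.ι ⁻¹ᵁ Uf t).ι ≫ V.ι) hrange
      have hk : k ≫ (Uf t).ι = (V.ι ⁻¹ᵁ Uf t).ι ≫ V.ι := IsOpenImmersion.lift_fac _ _ _
      haveI : IsOpenImmersion (k ≫ (Uf t).ι) := by rw [hk]; infer_instance
      haveI : IsOpenImmersion k := IsOpenImmersion.of_comp k (Uf t).ι
      have : (V.ι ⁻¹ᵁ Uf t).ι ≫ V.ι ≫ g = k ≫ ((Uf t).ι ≫ g) := by
        rw [← Category.assoc, ← hk, Category.assoc]
      rw [this]
      infer_instance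
    · intro ξ ξ' hξ hξ' h
      have h1 : IsGen (V.ι ξ) :=
        (isGen_iff_of_isOpenEmbedding V.ι.isOpenEmbedding ξ).2 (isGen_of_closure_mem hξ)
      have h2 : IsGen (V.ι ξ') :=
        (isGen_iff_of_isOpenEmbedding V.ι.isOpenEmbedding ξ').2 (isGen_of_closure_mem hξ')
      obtain ⟨η, hη, hηξ⟩ := hdom _ h1
      obtain ⟨η', hη', hηξ'⟩ := hdom _ h2
      have h3 : (π ≫ g) η = (π ≫ g) η' := by
        rw [hcomp, hcomp, hηξ, hηξ']
        have := h
        rw [Scheme.Hom.comp_apply, Scheme.Hom.comp_apply] at this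
        exact this
      have h4 : η = η' := hinj η η' hη hη' h3
      apply V.ι.isOpenEmbedding.injective
      rw [← hηξ, ← hηξ', h4]
  -- prime avoidance in `T'`
  have hE : (π '' (s : Set T)).Finite := s.finite_toSet.image _
  have hEV : π '' (s : Set T) ⊆ V := by
    rintro _ ⟨t, ht, rfl⟩
    exact hUV t ht (hUf t ht).1
  obtain ⟨r, hEr, hrV⟩ := exists_basicOpen_of_finite (isAffineOpen_top T') V _ hE
    (fun _ _ => trivial) hEV
  have hD : IsAffineOpen (T'.basicOpen r) := (isAffineOpen_top T').basicOpen r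
  have hD' : IsAffineOpen (V.ι ⁻¹ᵁ T'.basicOpen r) :=
    hD.preimage_of_isOpenImmersion V.ι (by rw [Scheme.Opens.opensRange_ι]; exact hrV)
  refine ⟨(V.ι ≫ g) ''ᵁ (V.ι ⁻¹ᵁ T'.basicOpen r), hD'.image_of_isOpenImmersion _, ?_⟩
  intro t ht
  have h1 : π t ∈ T'.basicOpen r := hEr ⟨t, ht, rfl⟩
  have h2 : π t ∈ Set.range V.ι := by rw [Scheme.Opens.range_ι]; exact hrV h1
  obtain ⟨v, hv⟩ := h2
  refine ⟨v, ?_, ?_⟩
  · change V.ι v ∈ T'.basicOpen r
    rw [hv]
    exact h1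
  · exact (Scheme.Hom.comp_apply V.ι g v).trans (by rw [hv]; exact (hcomp t).symm)

end Groth.Agent.Lib.Helper11.AffImg
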