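import Mathlib
import Groth.Agent.Lib.Helper22ThickAffine
import Groth.Agent.Lib.Helper6Reduced
import Groth.Agent.S7383

set_option autoImplicit false
set_option linter.style.haveILetI false
universe u
open CategoryTheory AlgebraicGeometry TopologicalSpace Opposite Limits

/-!
# Auxiliary results for affine opens containing images of points (helper11)
-/

namespace Groth.Agent.Lib.Helper11.AffImg

/-- an open whose preimage under a surjective closed immersion is affine is affine -/
theorem isAffineOpen_of_preimage {X₀ X : Scheme.{u}} (r : X₀ ⟶ X) [IsClosedImmersion r]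
    (hr : Function.Surjective r) (U : X.Opens) (h : IsAffineOpen (r ⁻¹ᵁ U)) : IsAffineOpen U := by
  haveI : IsAffine (r ⁻¹ᵁ U : Scheme.{u}) := h
  have hsurj : Function.Surjective (r ∣_ U) := by
    rintro ⟨w, hw⟩
    obtain ⟨y, rfl⟩ := hr w
    refine ⟨⟨y, hw⟩, ?_⟩
    apply Subtype.ext
    exact morphismRestrict_base_coe _ _ _
  exact Groth.Agent.Lib.Helper22.ThickAffine.isAffine_of_thickening (r ∣_ U) hsurj

/-- the kernel of the map on local rings of a surjective closed immersion consists of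
nilpotents -/
theorem ker_stalkMap_le_nilradical {Z X : Scheme.{u}} (r : Z ⟶ X) [IsClosedImmersion r]
    (hr : Function.Surjective r) (z : Z) (a : X.presheaf.stalk (r z))
    (ha : r.stalkMap z a = 0) : IsNilpotent a := by
  haveI : Surjective r := ⟨hr⟩
  obtain ⟨U₀, hzU₀, σ₀, rfl⟩ := X.presheaf.exists_germ_eq (x := r z) a
  obtain ⟨_, ⟨U, hU : IsAffineOpen U, rfl⟩, hzU, hle⟩ :=
    X.isBasis_affineOpens.exists_subset_of_mem_open hzU₀ U₀.2
  have hle' : U ≤ U₀ := hle
  let σ := X.presheaf.map (homOfLE hle').op σ₀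
  have hσ : X.presheaf.germ U (r z) hzU σ = X.presheaf.germ U₀ (r z) hzU₀ σ₀ :=
    TopCat.Presheaf.germ_res_apply _ _ _ _ _
  rw [← hσ] at ha ⊢
  rw [Scheme.Hom.germ_stalkMap_apply] at ha
  have h0 : Z.presheaf.germ (r ⁻¹ᵁ U) z hzU (r.app U σ) =
      Z.presheaf.germ (r ⁻¹ᵁ U) z hzU 0 := by rw [ha, map_zero]
  obtain ⟨W, hzW, iU, iV, hW⟩ := Z.presheaf.germ_eq z hzU hzU _ _ h0
  rw [map_zero] at hW
  obtain ⟨W₁, hW₁, hW₁eq⟩ := r.isEmbedding.isInducing.isOpen_iff.1 W.2
  have hzW₁ : r z ∈ W₁ := by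
    have : z ∈ r ⁻¹' W₁ := by rw [hW₁eq]; exact hzW
    exact this
  obtain ⟨_, ⟨U', hU' : IsAffineOpen U', rfl⟩, hzU', hle₂⟩ :=
    X.isBasis_affineOpens.exists_subset_of_mem_open
      (show r z ∈ (U : Set X) ∩ W₁ from ⟨hzU, hzW₁⟩) (U.2.inter hW₁)
  have hU'U : U' ≤ U := fun x hx => (hle₂ hx).1
  have hU'W : r ⁻¹ᵁ U' ≤ W := by
    intro x hx
    have : x ∈ r ⁻¹' W₁ := (hle₂ hx).2
    rw [hW₁eq] at this
    exact this
  let σ' := X.presheaf.map (homOfLE hU'U).op σ
  have hσ' : X.presheaf.germ U' (r z) hzU' σ' = X.presheaf.germ U (r z) hzU σ :=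
    TopCat.Presheaf.germ_res_apply _ _ _ _ _
  have hker : r.app U' σ' = 0 := by
    have hnat : r.app U' σ' = Z.presheaf.map (homOfLE (show r ⁻¹ᵁ U' ≤ r ⁻¹ᵁ U from
        fun x hx => hU'U hx)).op (r.app U σ) := by
      have := r.naturality (homOfLE hU'U).op
      exact congr($this σ)
    rw [hnat]
    have : (homOfLE (show r ⁻¹ᵁ U' ≤ r ⁻¹ᵁ U from fun x hx => hU'U hx)).op =
        iU.op ≫ (homOfLE hU'W).op := rfl
    rw [this, Functor.map_comp, CommRingCat.comp_apply, hW, map_zero]
  have hnil : IsNilpotent σ' :=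
    Groth.Agent.Lib.Helper22.Thick.ker_app_le_nilradical r hU' ((RingHom.mem_ker).2 hker)
  rw [← hσ']
  exact hnil.map _

/-- algebra: an isomorphism descends to reductions -/
theorem bijective_of_square {A B A' B' : Type*} [CommRing A] [CommRing B] [CommRing A']
    [CommRing B'] [_root_.IsReduced A'] (φ : A →+* B) (pA : A →+* A') (pB : B →+* B')
    (ψ : A' →+* B') (hφ : Function.Bijective φ) (hpA : Function.Surjective pA)
    (hpB : Function.Surjective pB) (hkB : ∀ b, pB b = 0 → IsNilpotent b)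
    (hcomm : ∀ a, ψ (pA a) = pB (φ a)) : Function.Bijective ψ := by
  constructor
  · rw [injective_iff_map_eq_zero]
    intro a' ha'
    obtain ⟨a, rfl⟩ := hpA a'
    rw [hcomm] at ha'
    have h1 : IsNilpotent (φ a) := hkB _ ha'
    have h2 : IsNilpotent a := by
      obtain ⟨n, hn⟩ := h1
      refine ⟨n, hφ.1 ?_⟩
      rw [map_pow, hn, map_zero]
    exact (h2.map pA).eq_zero
  · intro b'
    obtain ⟨b, rfl⟩ := hpB b'
    obtain ⟨a, rfl⟩ := hφ.2 b
    exact ⟨pA a, hcomm a⟩

/-- isomorphisms on local rings descend along a square whose vertical maps are surjective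
closed immersions (composed with an open immersion on the target side) -/
theorem isIso_stalkMap_of_square {T₀ T X₀ X : Scheme.{u}} [IsReduced X₀]
    (r : T₀ ⟶ T) [IsClosedImmersion r] (hr : Function.Surjective r)
    (j : X₀ ⟶ X) [SurjectiveOnStalks j]
    (f : T ⟶ X) (f₀ : T₀ ⟶ X₀) (hsq : f₀ ≫ j = r ≫ f) (t₀ : T₀)
    [IsIso (f.stalkMap (r t₀))] : IsIso (f₀.stalkMap t₀) := by
  have h1 := Scheme.Hom.stalkMap_congr_hom _ _ hsq t₀
  rw [Scheme.Hom.stalkMap_comp, Scheme.Hom.stalkMap_comp] at h1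
  rw [ConcreteCategory.isIso_iff_bijective]
  let e := (X.presheaf.stalkCongr (.of_eq (show (f₀ ≫ j) t₀ = (r ≫ f) t₀ from hsq ▸ rfl)))
  refine bijective_of_square
    (φ := (e.hom ≫ f.stalkMap (r t₀)).hom) (pA := (j.stalkMap (f₀ t₀)).hom)
    (pB := (r.stalkMap t₀).hom) (ψ := (f₀.stalkMap t₀).hom) ?_ ?_ ?_ ?_ ?_
  · haveI : IsIso (e.hom ≫ f.stalkMap (r t₀)) :=
      IsIso.comp_isIso' (inferInstanceAs (IsIso e.hom)) ‹IsIso (f.stalkMap (r t₀))›
    exact ConcreteCategory.bijective_of_isIso (e.hom ≫ f.stalkMap (r t₀))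
  · exact j.stalkMap_surjective _
  · exact r.stalkMap_surjective _
  · intro b hb
    exact ker_stalkMap_le_nilradical r hr t₀ b hb
  · intro a
    have := congr($h1 a)
    exact this

/-- some stage of a cofiltered limit in `Over Y` of qcqs `Y`-schemes with affine transition maps
and affine apex is affine -/
theorem exists_isAffine_stage' {Y : Scheme.{u}} {J : Type u} [SmallCategory J] [IsCofiltered J]
    (D : J ⥤ Over Y) (c : Cone D) (hc : IsLimit c) (hqc : ∀ j, QuasiCompact (D.obj j).hom)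
    (hqs : ∀ j, QuasiSeparated (D.obj j).hom)
    (haff : ∀ (i j : J) (a : i ⟶ j), IsAffineHom (D.map a).left)
    [CompactSpace Y] [QuasiSeparatedSpace Y] [IsAffine c.pt.left] :
    ∃ j, IsAffine (D.obj j).left := by
  haveI : IsConnected J := IsCofiltered.isConnected J
  have hc' : IsLimit ((Over.forget Y).mapCone c) := isLimitOfPreserves (Over.forget Y) hc
  haveI : ∀ {i j : J} (a : i ⟶ j), IsAffineHom ((D ⋙ Over.forget Y).map a) := by
    intro i j a
    exact haff i j a
  haveI : ∀ j, CompactSpace ((D ⋙ Over.forget Y).obj j) := by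
    intro j
    haveI : QuasiCompact (D.obj j).hom := hqc j
    change CompactSpace (D.obj j).left
    exact QuasiCompact.compactSpace_of_compactSpace (D.obj j).hom
  haveI : ∀ j, QuasiSeparatedSpace ((D ⋙ Over.forget Y).obj j) := by
    intro j
    haveI : QuasiSeparated (D.obj j).hom := hqs j
    change QuasiSeparatedSpace (D.obj j).left
    exact quasiSeparatedSpace_of_quasiSeparated (D.obj j).hom
  haveI : IsAffine ((Over.forget Y).mapCone c).pt := ‹IsAffine c.pt.left›
  exact Scheme.exists_isAffine_of_isLimit (D ⋙ Over.forget Y) _ hc'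

/-- a morphism from an affine scheme to a qcqs scheme factors through an affine scheme of finite
presentation over the target -/
theorem exists_affine_factorization {T X : Scheme.{u}} [IsAffine T] [CompactSpace X]
    [QuasiSeparatedSpace X] (f : T ⟶ X) :
    ∃ (T₁ : Scheme.{u}) (π : T ⟶ T₁) (h : T₁ ⟶ X), IsAffine T₁ ∧ LocallyOfFiniteType h ∧
      π ≫ h = f := by
  obtain ⟨I, instP, instD, instN, D, c, hc, hD, haff, ⟨e⟩⟩ := Groth.Agent.S7383.result f
  haveI : IsFiltered I := inferInstance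
  haveI : IsCofiltered Iᵒᵖ := inferInstance
  haveI : IsIso e.hom.left := inferInstanceAs (IsIso ((Over.forget X).map e.hom))
  haveI : IsAffine (Over.mk f).left := ‹IsAffine T›
  haveI : IsAffine c.pt.left := IsAffine.of_isIso e.hom.left
  obtain ⟨i, hi⟩ := exists_isAffine_stage' D c hc (fun j => (hD j).2.1) (fun j => (hD j).2.2) haff
  haveI : LocallyOfFinitePresentation (D.obj i).hom := (hD i).1
  refine ⟨(D.obj i).left, e.inv.left ≫ (c.π.app i).left, (D.obj i).hom, hi, inferInstance, ?_⟩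
  rw [Category.assoc]
  have h1 : (c.π.app i).left ≫ (D.obj i).hom = c.pt.hom := Over.w _
  have h2 : e.inv.left ≫ c.pt.hom = (Over.mk f).hom := Over.w e.inv
  rw [h1, h2]
  rfl

/-- the scheme theoretic image of a quasi-compact morphism from a reduced scheme is reduced -/
theorem isReduced_image {X Y : Scheme.{u}} (f : X ⟶ Y) [QuasiCompact f] [IsReduced X] :
    IsReduced f.image := by
  change IsReduced f.ker.subscheme
  rw [Groth.Agent.Lib.Helper6.isReduced_subscheme_iff]
  refine Scheme.IdealSheafData.ext ?_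
  funext U
  rw [Scheme.IdealSheafData.radical_ideal, Scheme.Hom.ker_apply]
  have hrad : (RingHom.ker (f.app U.1).hom).IsRadical := by
    intro a ha
    obtain ⟨n, hn⟩ := ha
    rw [RingHom.mem_ker, map_pow] at hn
    rw [RingHom.mem_ker]
    exact IsReduced.eq_zero _ ⟨n, hn⟩
  exact hrad.radical.symm

end Groth.Agent.Lib.Helper11.AffImg
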