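import Mathlib
import Groth.Agent.Lib.Helper11AffImgA
import Groth.Agent.Lib.Helper11AffImgB

set_option autoImplicit false
set_option linter.style.haveILetI false
universe u
open CategoryTheory AlgebraicGeometry TopologicalSpace Opposite Limits

/-!
# Affine opens containing images of points of an affine scheme (helper11)

Stacks 09NN.
-/

namespace Groth.Agent.Lib.Helper11.AffImg

open Groth.Agent.Lib.Helper11.GenPt Groth.Agent.Lib.Helper6
  Groth.Agent.Lib.Helper22.ThickAffine

/-- `core` with a named composite -/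
theorem core' {T T' X : Scheme.{u}} [IsAffine T'] [IsReduced T'] [IsReduced X]
    (π : T ⟶ T') [IsDominant π] (g : T' ⟶ X) [LocallyOfFiniteType g] (f : T ⟶ X)
    (hf : π ≫ g = f) (hX : {ξ : X | IsGen ξ}.Finite)
    (hgen : ∀ η : T, IsGen η → IsGen (f η))
    (hinj : ∀ η η' : T, IsGen η → IsGen η' → f η = f η' → η = η')
    (s : Finset T) (hs : ∀ t ∈ s, IsIso (f.stalkMap t)) :
    ∃ U : X.Opens, IsAffineOpen U ∧ ∀ t ∈ s, f t ∈ U := by
  subst hf
  exact core π g hX hgen hinj s hs

/-- the reduced quasi-compact case -/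
theorem reduced_case {T X : Scheme.{u}} [IsAffine T] [IsReduced T] [IsReduced X]
    [CompactSpace X] [QuasiSeparatedSpace X] (f : T ⟶ X) (hX : {ξ : X | IsGen ξ}.Finite)
    (hgen : ∀ η : T, IsGen η → IsGen (f η))
    (hinj : ∀ η η' : T, IsGen η → IsGen η' → f η = f η' → η = η')
    (s : Finset T) (hs : ∀ t ∈ s, IsIso (f.stalkMap t)) :
    ∃ U : X.Opens, IsAffineOpen U ∧ ∀ t ∈ s, f t ∈ U := by
  obtain ⟨T₁, π₀, h, hT₁, hh, hfac⟩ := exists_affine_factorization f
  haveI := hT₁
  haveI := hh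
  haveI : QuasiCompact π₀ := inferInstance
  haveI : IsReduced π₀.image := isReduced_image π₀
  haveI : IsAffine π₀.image := isAffine_of_isAffineHom π₀.imageι
  refine core' π₀.toImage (π₀.imageι ≫ h) f ?_ hX hgen hinj s hs
  rw [← Category.assoc, π₀.toImage_imageι, hfac]

/-- a compact subset of a scheme is contained in a quasi-compact open -/
theorem exists_compact_open_of_compact {X : Scheme.{u}} (K : Set X) (hK : IsCompact K) :
    ∃ V : X.Opens, IsCompact (V : Set X) ∧ K ⊆ V := by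
  have hcov : K ⊆ ⋃ U : X.affineOpens, (U.1 : Set X) := by
    intro x _
    obtain ⟨_, ⟨U, hU, rfl⟩, hxU, -⟩ :=
      X.isBasis_affineOpens.exists_subset_of_mem_open (Set.mem_univ x) isOpen_univ
    exact Set.mem_iUnion.2 ⟨⟨U, hU⟩, hxU⟩
  obtain ⟨F, hF⟩ := hK.elim_finite_subcover (fun U : X.affineOpens => (U.1 : Set X))
    (fun U => U.1.2) hcov
  refine ⟨⨆ U ∈ F, U.1, ?_, ?_⟩
  · simp only [Opens.coe_iSup]
    exact F.finite_toSet.isCompact_biUnion (fun U _ => U.2.isCompact)
  · simp only [Opens.coe_iSup]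
    exact hF

/-- Stacks 09NN in terms of `IsGen` -/
theorem main {T X : Scheme.{u}} (f : T ⟶ X) [IsAffine T] [QuasiSeparatedSpace X]
    (hX : {ξ : X | IsGen ξ}.Finite) (hgen : ∀ η : T, IsGen η → IsGen (f η))
    (hinj : ∀ η η' : T, IsGen η → IsGen η' → f η = f η' → η = η')
    (s : Finset T) (hs : ∀ t ∈ s, IsIso (f.stalkMap t)) :
    ∃ U : X.Opens, IsAffineOpen U ∧ ∀ t ∈ s, f t ∈ U := by
  classical
  obtain ⟨X', hX'c, hrange⟩ := exists_compact_open_of_compact (Set.range f)
    (isCompact_range f.continuous)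
  haveI : CompactSpace X' := isCompact_iff_compactSpace.1 hX'c
  haveI : QuasiSeparatedSpace X' := quasiSeparatedSpace_of_quasiSeparated X'.ι
  let f' : T ⟶ X' := IsOpenImmersion.lift X'.ι f (by rw [Scheme.Opens.range_ι]; exact hrange)
  have hf' : f' ≫ X'.ι = f := IsOpenImmersion.lift_fac _ _ _
  -- reductions
  let r := T.nilradical.subschemeι
  let rX := (X' : Scheme.{u}).nilradical.subschemeι
  have hr : Function.Surjective r := by
    rw [← Set.range_eq_univ]; exact range_nilradical_subschemeι T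
  have hrX : Function.Surjective rX := by
    rw [← Set.range_eq_univ]; exact range_nilradical_subschemeι _
  obtain ⟨f₀, hf₀⟩ := exists_lift_of_isReduced_of_range_subset (r ≫ f') rX
    (by rw [range_nilradical_subschemeι]; exact Set.subset_univ _)
  let j := rX ≫ X'.ι
  have hsq : f₀ ≫ j = r ≫ f := by
    rw [← Category.assoc, hf₀, Category.assoc, hf']
  have hrO : Topology.IsOpenEmbedding r := (isHomeomorph_of_surjective r hr).isOpenEmbedding
  have hrXO : Topology.IsOpenEmbedding rX := (isHomeomorph_of_surjective rX hrX).isOpenEmbedding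
  have hjO : Topology.IsOpenEmbedding j := by
    have : (j : _ → _) = X'.ι ∘ rX := by
      funext x; exact Scheme.Hom.comp_apply _ _ _
    rw [this]
    exact X'.ι.isOpenEmbedding.comp hrXO
  have hpt : ∀ z, j (f₀ z) = f (r z) := by
    intro z
    rw [← Scheme.Hom.comp_apply, hsq, Scheme.Hom.comp_apply]
  haveI : IsAffine T.nilradical.subscheme := isAffine_of_isAffineHom r
  haveI : CompactSpace (X' : Scheme.{u}).nilradical.subscheme :=
    rX.isClosedEmbedding.compactSpace
  haveI : QuasiSeparatedSpace (X' : Scheme.{u}).nilradical.subscheme :=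
    quasiSeparatedSpace_of_quasiSeparated rX
  have hX₀ : {ξ : (X' : Scheme.{u}).nilradical.subscheme | IsGen ξ}.Finite := by
    refine (hX.preimage (hjO.injective.injOn)).subset ?_
    intro ξ hξ
    exact (isGen_iff_of_isOpenEmbedding hjO ξ).2 hξ
  have hgen₀ : ∀ η, IsGen η → IsGen (f₀ η) := by
    intro η hη
    rw [← isGen_iff_of_isOpenEmbedding hjO, hpt]
    exact hgen _ ((isGen_iff_of_isOpenEmbedding hrO η).2 hη)
  have hinj₀ : ∀ η η', IsGen η → IsGen η' → f₀ η = f₀ η' → η = η' := by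
    intro η η' hη hη' h
    apply hrO.injective
    apply hinj _ _ ((isGen_iff_of_isOpenEmbedding hrO η).2 hη)
      ((isGen_iff_of_isOpenEmbedding hrO η').2 hη')
    rw [← hpt, ← hpt, h]
  let s₀ : Finset T.nilradical.subscheme := s.preimage r hrO.injective.injOn
  have hs₀ : ∀ t₀ ∈ s₀, IsIso (f₀.stalkMap t₀) := by
    intro t₀ ht₀
    haveI : IsIso (f.stalkMap (r t₀)) := hs _ (Finset.mem_preimage.1 ht₀)
    exact isIso_stalkMap_of_square r hr j f f₀ hsq t₀
  obtain ⟨U₀, hU₀, hU₀s⟩ := reduced_case f₀ hX₀ hgen₀ hinj₀ s₀ hs₀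
  let U' : (X' : Scheme.{u}).Opens := ⟨rX '' U₀, hrXO.isOpenMap _ U₀.2⟩
  have hpre : rX ⁻¹ᵁ U' = U₀ := by
    apply Opens.ext
    exact Set.preimage_image_eq _ hrXO.injective
  have hU' : IsAffineOpen U' := isAffineOpen_of_preimage rX hrX U' (by rw [hpre]; exact hU₀)
  refine ⟨X'.ι ''ᵁ U', hU'.image_of_isOpenImmersion _, ?_⟩
  intro t ht
  obtain ⟨t₀, rfl⟩ := hr t
  have ht₀ : t₀ ∈ s₀ := Finset.mem_preimage.2 ht
  rw [← hpt]
  refine ⟨rX (f₀ t₀), ⟨f₀ t₀, hU₀s t₀ ht₀, rfl⟩, ?_⟩
  exact (Scheme.Hom.comp_apply _ _ _).symm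

end Groth.Agent.Lib.Helper11.AffImg
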