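import Mathlib

/-!
# Automorphisms of big algebraically closed fields (helper11)

Algebraically closed extensions of a field with the same transcendence degree are isomorphic;
any field `K` embeds into an algebraically closed field `k'` (in the same universe) such that for any
two embeddings `φ₁ φ₂ : k → K` of a field there is an automorphism of `k'` carrying one to the other.
-/

set_option autoImplicit false
universe u v w

open Cardinal Algebra

namespace Groth.Agent.Lib.Helper11.AlgClAut

/-- algebraically closed extensions with the same transcendence degree are isomorphic. -/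
theorem nonempty_algEquiv_of_trdeg_eq {R : Type u} [Field R] {K : Type v} {L : Type w} [Field K]
    [Field L] [Algebra R K] [Algebra R L] [IsAlgClosed K] [IsAlgClosed L]
    (h : Cardinal.lift.{w} (trdeg R K) = Cardinal.lift.{v} (trdeg R L)) : Nonempty (K ≃ₐ[R] L) := by
  obtain ⟨s, hs⟩ := exists_isTranscendenceBasis R K
  obtain ⟨t, ht⟩ := exists_isTranscendenceBasis R L
  have hc : Cardinal.lift.{w} #s = Cardinal.lift.{v} #t := by
    rw [hs.cardinalMk_eq_trdeg, ht.cardinalMk_eq_trdeg, h]
  obtain ⟨e⟩ := Cardinal.lift_mk_eq'.1 hc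
  letI := IsAlgClosed.isAlgClosure_of_transcendence_basis _ hs
  letI := IsAlgClosed.isAlgClosure_of_transcendence_basis _ ht
  let e' : Algebra.adjoin R (Set.range ((↑) : s → K)) ≃ₐ[R]
      Algebra.adjoin R (Set.range ((↑) : t → L)) :=
    (hs.1.aevalEquiv.symm.trans (AlgEquiv.ofAlgHom (MvPolynomial.rename e)
      (MvPolynomial.rename e.symm) (by ext; simp) (by ext; simp))).trans ht.1.aevalEquiv
  let E : K ≃+* L := IsAlgClosure.equivOfEquiv K L e'.toRingEquiv
  refine ⟨AlgEquiv.ofRingEquiv (f := E) fun r => ?_⟩
  have h1 : algebraMap R K r =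
      algebraMap (Algebra.adjoin R (Set.range ((↑) : s → K))) K (algebraMap R _ r) := rfl
  rw [h1]
  change IsAlgClosure.equivOfEquiv K L e'.toRingEquiv _ = _
  rw [IsAlgClosure.equivOfEquiv_algebraMap]
  change algebraMap _ L (e' (algebraMap R _ r)) = _
  rw [e'.commutes]
  rfl

/-- the transcendence degree over a subfield of a small field equals that over the small field,
when the latter is large. -/
theorem trdeg_eq_of_le {k K k' : Type u} [Field k] [Field K] [Field k'] [Algebra k K]
    [Algebra K k'] [Algebra k k'] [IsScalarTower k K k'] (hT : max #K ℵ₀ ≤ trdeg K k') :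
    trdeg k k' = trdeg K k' := by
  rw [← trdeg_add_eq k K (A := k')]
  apply Cardinal.add_eq_right ((le_max_right _ _).trans hT)
  refine le_trans ?_ ((le_max_left _ _).trans hT)
  obtain ⟨s, hs⟩ := exists_isTranscendenceBasis k K
  rw [← hs.cardinalMk_eq_trdeg]
  exact Cardinal.mk_set_le s

/-- two embeddings of a field into a small subfield of a big algebraically closed field differ by an
automorphism. -/
theorem exists_aut {k K k' : Type u} [Field k] [Field K] [Field k'] [IsAlgClosed k']
    (j : K →+* k') (φ₁ φ₂ : k →+* K)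
    (hT : max #K ℵ₀ ≤ @trdeg K k' _ _ j.toAlgebra) :
    ∃ β : k' ≃+* k', ∀ x, β (j (φ₁ x)) = j (φ₂ x) := by
  have h1 := @trdeg_eq_of_le k K k' _ _ _ φ₁.toAlgebra j.toAlgebra (j.comp φ₁).toAlgebra
    (@IsScalarTower.of_algebraMap_eq' k K k' _ _ _ φ₁.toAlgebra j.toAlgebra (j.comp φ₁).toAlgebra
      rfl) hT
  have h2 := @trdeg_eq_of_le k K k' _ _ _ φ₂.toAlgebra j.toAlgebra (j.comp φ₂).toAlgebra
    (@IsScalarTower.of_algebraMap_eq' k K k' _ _ _ φ₂.toAlgebra j.toAlgebra (j.comp φ₂).toAlgebra
      rfl) hT
  obtain ⟨β⟩ := @nonempty_algEquiv_of_trdeg_eq k _ k' k' _ _ (j.comp φ₁).toAlgebra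
    (j.comp φ₂).toAlgebra _ _ (by rw [h1, h2])
  exact ⟨@AlgEquiv.toRingEquiv k k' k' _ _ _ (j.comp φ₁).toAlgebra (j.comp φ₂).toAlgebra β,
    fun x => @AlgEquiv.commutes k k' k' _ _ _ (j.comp φ₁).toAlgebra (j.comp φ₂).toAlgebra β x⟩

/-- every field embeds into a big algebraically closed field of the same universe. -/
theorem exists_big (K : Type u) [Field K] :
    ∃ (k' : Type u) (_ : Field k') (_ : IsAlgClosed k') (j : K →+* k'),
      max #K ℵ₀ ≤ @trdeg K k' _ _ j.toAlgebra := by
  let J := K × ℕ
  let L := FractionRing (MvPolynomial J K)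
  refine ⟨AlgebraicClosure L, inferInstance, inferInstance, algebraMap K (AlgebraicClosure L), ?_⟩
  have hJ : max #K ℵ₀ ≤ #J := by
    apply max_le
    · exact Cardinal.mk_le_of_injective (f := fun a : K => ((a, 0) : J))
        (fun a b h => (Prod.mk.inj h).1)
    · exact Cardinal.aleph0_le_mk J
  refine hJ.trans ?_
  have hinj : Function.Injective (IsScalarTower.toAlgHom K (MvPolynomial J K) (AlgebraicClosure L)) := by
    change Function.Injective (algebraMap (MvPolynomial J K) (AlgebraicClosure L))
    rw [IsScalarTower.algebraMap_eq (MvPolynomial J K) L (AlgebraicClosure L)]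
    exact (algebraMap L (AlgebraicClosure L)).injective.comp (IsFractionRing.injective _ _)
  have hind : AlgebraicIndependent K
      (fun i : J => IsScalarTower.toAlgHom K (MvPolynomial J K) (AlgebraicClosure L)
        (MvPolynomial.X i)) :=
    (MvPolynomial.algebraicIndependent_X J K).map' hinj
  exact hind.cardinalMk_le_trdeg

end Groth.Agent.Lib.Helper11.AlgClAut
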