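import Mathlib
import Groth.Prelude.Def_BlowUp2
import Groth.Prelude.Def_CurvBase
import Groth.Agent.Lib.Helper20EffCartier

/-!
# An affine criterion for `Spec B ⟶ Spec A` to be a blowing up (helper2)

Let `A → B` be injective, `I` an ideal of `A` with `IB ⊆ im(I)` and `IB = (f)` for a nonzerodivisor `f`.
Then `Spec B → Spec A` is a blowing up of `Spec A` in `I` (universal property).

* `existsUnique_lift`: the ring-level universal property.
* `local_key`: if `I·R = (c)` with `c` a nonzerodivisor and `I² ⊆ a₀ I`, then `φ a₀` is a nonzerodivisor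
  dividing `φ a` for all `a ∈ I`.
* `global_nzd`, `global_dvd`: gluing along an affine open cover.
* `main`: the statement.
-/

set_option autoImplicit false
set_option linter.style.haveILetI false
universe u
open CategoryTheory Limits AlgebraicGeometry TopologicalSpace Opposite nonZeroDivisors

namespace Groth.Agent.Lib.Helper2.AffBlowUp

section algebra

theorem nzd_of_ringEquiv {R S : Type*} [CommRing R] [CommRing S] (e : R ≃+* S) (r : R)
    (hr : r ∈ nonZeroDivisors R) : e r ∈ nonZeroDivisors S := by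
  rw [mem_nonZeroDivisors_iff_right] at hr ⊢
  intro x hx
  have h1 : e.symm x * r = 0 := by
    apply e.injective
    rw [map_mul, e.apply_symm_apply, hx, map_zero]
  have h2 := hr _ h1
  have h3 := congrArg e h2
  rwa [e.apply_symm_apply, map_zero] at h3

/-- the ring-level universal property -/
theorem existsUnique_lift {A B R : Type*} [CommRing A] [CommRing B] [CommRing R] [Algebra A B]
    (hinj : Function.Injective (algebraMap A B)) (I : Ideal A) (f : B) (a₀ : A)
    (hfa : algebraMap A B a₀ = f) (hmul : ∀ b : B, ∃ a ∈ I, algebraMap A B a = b * f)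
    (φ : A →+* R) (h1 : φ a₀ ∈ nonZeroDivisors R) (h2 : ∀ a ∈ I, φ a₀ ∣ φ a) :
    ∃! ψ : B →+* R, ψ.comp (algebraMap A B) = φ := by
  choose sel hselI hsel using hmul
  choose t ht using fun b => h2 (sel b) (hselI b)
  have canc : ∀ {x y : R}, φ a₀ * x = φ a₀ * y → x = y :=
    fun {x y} h => (mul_cancel_left_mem_nonZeroDivisors h1).1 h
  -- `t b` is characterized by `φ a₀ * t b = φ (sel b)`
  have hchar : ∀ (b : B) (a : A) (r : R), algebraMap A B a = b * f → φ a = φ a₀ * r → t b = r := by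
    intro b a r hab har
    have : sel b = a := hinj (by rw [hsel, hab])
    apply canc
    rw [← ht, this, har]
  have t_one : t 1 = 1 := hchar 1 a₀ 1 (by rw [hfa, one_mul]) (by rw [mul_one])
  have t_zero : t 0 = 0 := hchar 0 0 0 (by rw [map_zero, zero_mul]) (by rw [map_zero, mul_zero])
  have t_add : ∀ b b', t (b + b') = t b + t b' := by
    intro b b'
    refine hchar (b + b') (sel b + sel b') _ ?_ ?_
    · rw [map_add, hsel, hsel, add_mul]
    · rw [map_add, ht, ht, mul_add]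
  have t_mul : ∀ b b', t (b * b') = t b * t b' := by
    intro b b'
    have e1 : sel (b * b') * a₀ = sel b * sel b' := hinj (by
      rw [map_mul, map_mul, hsel, hsel, hsel, hfa]
      ring)
    apply canc
    apply canc
    have e2 := congrArg φ e1
    rw [map_mul, map_mul, ht, ht, ht] at e2
    calc φ a₀ * (φ a₀ * t (b * b')) = φ a₀ * t (b * b') * φ a₀ := by ring
      _ = φ a₀ * t b * (φ a₀ * t b') := e2
      _ = φ a₀ * (φ a₀ * (t b * t b')) := by ring
  have t_alg : ∀ a : A, t (algebraMap A B a) = φ a := by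
    intro a
    refine hchar (algebraMap A B a) (a * a₀) _ ?_ ?_
    · rw [map_mul, hfa]
    · rw [map_mul, mul_comm]
  let ψ₀ : B →+* R :=
    { toFun := t
      map_one' := t_one
      map_mul' := t_mul
      map_zero' := t_zero
      map_add' := t_add }
  refine ⟨ψ₀, ?_, ?_⟩
  · ext a
    exact t_alg a
  · intro ψ' hψ'
    ext b
    symm
    refine hchar b (sel b) _ (hsel b) ?_
    have h3 : ψ' (algebraMap A B (sel b)) = φ (sel b) := by
      rw [← hψ']
      rfl
    have h4 : ψ' (algebraMap A B a₀) = φ a₀ := by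
      rw [← hψ']
      rfl
    rw [← h3, hsel, map_mul, ← hfa, h4, mul_comm]

/-- the local computation -/
theorem local_key {A R : Type*} [CommRing A] [CommRing R] (I : Ideal A) (a₀ : A)
    (hI2 : I * I ≤ Ideal.span {a₀} * I) (φ : A →+* R) (c : R) (hc : c ∈ nonZeroDivisors R)
    (hJ : I.map φ = Ideal.span {c}) :
    φ a₀ ∈ nonZeroDivisors R ∧ ∀ a ∈ I, φ a₀ ∣ φ a := by
  have hcJ : c ∈ I.map φ := hJ ▸ Ideal.mem_span_singleton_self c
  have h1 : c * c ∈ Ideal.span {φ a₀ * c} := by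
    have h2 : c * c ∈ I.map φ * I.map φ := Ideal.mul_mem_mul hcJ hcJ
    rw [← Ideal.map_mul] at h2
    have h3 := Ideal.map_mono (f := φ) hI2 h2
    rw [Ideal.map_mul, Ideal.map_span, Set.image_singleton, hJ,
      Ideal.span_singleton_mul_span_singleton] at h3
    exact h3
  obtain ⟨r, hr⟩ := Ideal.mem_span_singleton'.1 h1
  have hc' : c = r * φ a₀ := by
    have h4 : (c - r * φ a₀) * c = 0 := by
      have : (c - r * φ a₀) * c = c * c - r * (φ a₀ * c) := by ring
      rw [this, hr, sub_self]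
    exact sub_eq_zero.1 (mem_nonZeroDivisors_iff_right.1 hc _ h4)
  refine ⟨?_, ?_⟩
  · rw [mem_nonZeroDivisors_iff_right]
    intro x hx
    apply mem_nonZeroDivisors_iff_right.1 hc
    calc x * c = r * (x * φ a₀) := by rw [hc']; ring
      _ = 0 := by rw [hx, mul_zero]
  · intro a ha
    have h5 : φ a ∈ Ideal.span {c} := hJ ▸ Ideal.mem_map_of_mem φ ha
    obtain ⟨s, hs⟩ := Ideal.mem_span_singleton'.1 h5
    refine ⟨s * r, ?_⟩
    calc φ a = s * c := hs.symm
      _ = φ a₀ * (s * r) := by rw [hc']; ring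

end algebra

section sheaf

variable {Y : Scheme.{u}}

/-- restriction of sections of the structure sheaf -/
noncomputable def rs {V W : Y.Opens} (h : V ≤ W) : Γ(Y, W) →+* Γ(Y, V) :=
  (Y.presheaf.map (homOfLE h).op).hom

theorem rs_rs {V W W' : Y.Opens} (h : V ≤ W) (h' : W ≤ W') (x : Γ(Y, W')) :
    rs h (rs h' x) = rs (h.trans h') x := by
  have e : Y.presheaf.map (homOfLE (h.trans h')).op =
      Y.presheaf.map (homOfLE h').op ≫ Y.presheaf.map (homOfLE h).op := by
    rw [← Functor.map_comp]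
    rfl
  unfold rs
  rw [e]
  rfl

theorem rs_self {V : Y.Opens} (h : V ≤ V) (x : Γ(Y, V)) : rs h x = x := by
  have e : Y.presheaf.map (homOfLE h).op = 𝟙 _ := by
    rw [show homOfLE h = 𝟙 V from Subsingleton.elim _ _, op_id, CategoryTheory.Functor.map_id]
  unfold rs
  rw [e]
  rfl

theorem germ_rs {V W : Y.Opens} (h : V ≤ W) (x : Y) (hx : x ∈ V) (s : Γ(Y, W)) :
    Y.presheaf.germ V x hx (rs h s) = Y.presheaf.germ W x (h hx) s :=
  TopCat.Presheaf.germ_res_apply Y.presheaf (homOfLE h) x hx s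

/-- a section with nonzerodivisor germs is a nonzerodivisor (helper20, S8898). -/
theorem mem_nonZeroDivisors_of_germ {V : Y.Opens} (s : Γ(Y, V))
    (hs : ∀ x : V, Y.presheaf.germ V x.1 x.2 s ∈ (Y.presheaf.stalk x.1)⁰) : s ∈ Γ(Y, V)⁰ := by
  rw [mem_nonZeroDivisors_iff_right]
  intro y hy
  apply TopCat.Presheaf.section_ext Y.sheaf V
  intro x hx
  change Y.presheaf.germ V x hx y = Y.presheaf.germ V x hx 0
  rw [map_zero]
  apply (mem_nonZeroDivisors_iff_right.1 (hs ⟨x, hx⟩))
  change Y.presheaf.germ V x hx y * Y.presheaf.germ V x hx s = 0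
  rw [← map_mul, hy, map_zero]

/-- germs of a nonzerodivisor over an affine open are nonzerodivisors (helper20, S8898). -/
theorem germ_mem_nonZeroDivisors {U : Y.Opens} (hU : IsAffineOpen U) (s : Γ(Y, U))
    (hs : s ∈ Γ(Y, U)⁰) (x : U) : Y.presheaf.germ U x.1 x.2 s ∈ (Y.presheaf.stalk x.1)⁰ := by
  have inst := hU.isLocalization_stalk x
  have h1 : (Y.presheaf.germ U x.1 x.2).hom = algebraMap Γ(Y, U) (Y.presheaf.stalk x.1) := rfl
  change (Y.presheaf.germ U x.1 x.2).hom s ∈ _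
  rw [h1]
  exact IsLocalization.map_nonZeroDivisors_le (hU.primeIdealOf x).asIdeal.primeCompl _
    (Submonoid.mem_map_of_mem _ hs)

/-- a nonzerodivisor over an affine open restricts to a nonzerodivisor over any smaller open. -/
theorem nzd_rs {U W : Y.Opens} (hU : IsAffineOpen U) (hWU : W ≤ U) (s : Γ(Y, U))
    (hs : s ∈ Γ(Y, U)⁰) : rs hWU s ∈ Γ(Y, W)⁰ := by
  apply mem_nonZeroDivisors_of_germ
  intro x
  rw [germ_rs]
  exact germ_mem_nonZeroDivisors hU s hs ⟨x.1, hWU x.2⟩

/-- a global section which is a nonzerodivisor on the members of an affine open cover is a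
nonzerodivisor. -/
theorem global_nzd (s : Γ(Y, ⊤))
    (h : ∀ y : Y, ∃ U : Y.Opens, IsAffineOpen U ∧ y ∈ U ∧ rs (le_top : U ≤ ⊤) s ∈ Γ(Y, U)⁰) :
    s ∈ Γ(Y, ⊤)⁰ := by
  apply mem_nonZeroDivisors_of_germ
  intro x
  obtain ⟨U, hU, hxU, hs⟩ := h x.1
  have h1 := germ_mem_nonZeroDivisors hU _ hs ⟨x.1, hxU⟩
  rw [germ_rs] at h1
  exact h1

/-- divisibility by a section which is locally a nonzerodivisor can be checked locally. -/
theorem global_dvd (s t : Γ(Y, ⊤))
    (h : ∀ y : Y, ∃ U : Y.Opens, IsAffineOpen U ∧ y ∈ U ∧ rs (le_top : U ≤ ⊤) s ∈ Γ(Y, U)⁰ ∧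
      rs (le_top : U ≤ ⊤) s ∣ rs (le_top : U ≤ ⊤) t) : s ∣ t := by
  choose U hU hyU hnz hdvd using h
  choose q hq using hdvd
  have hcover : (⊤ : Y.Opens) ≤ iSup U := fun y _ => Opens.mem_iSup.2 ⟨y, hyU y⟩
  have hcompat : TopCat.Presheaf.IsCompatible Y.sheaf.1 U q := by
    intro y y'
    change rs (inf_le_left : U y ⊓ U y' ≤ U y) (q y) = rs (inf_le_right : U y ⊓ U y' ≤ U y') (q y')
    have hnz' := nzd_rs (hU y) (inf_le_left : U y ⊓ U y' ≤ U y) _ (hnz y)
    apply (mul_cancel_left_mem_nonZeroDivisors hnz').1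
    have e1 : rs (inf_le_left : U y ⊓ U y' ≤ U y) (rs (le_top : U y ≤ ⊤) s) =
        rs (inf_le_right : U y ⊓ U y' ≤ U y') (rs (le_top : U y' ≤ ⊤) s) := by
      rw [rs_rs, rs_rs]
    have e2 : rs (inf_le_left : U y ⊓ U y' ≤ U y) (rs (le_top : U y ≤ ⊤) t) =
        rs (inf_le_right : U y ⊓ U y' ≤ U y') (rs (le_top : U y' ≤ ⊤) t) := by
      rw [rs_rs, rs_rs]
    calc rs inf_le_left (rs le_top s) * rs inf_le_left (q y)
        = rs (inf_le_left : U y ⊓ U y' ≤ U y) (rs (le_top : U y ≤ ⊤) t) := by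
          rw [← map_mul, ← hq y]
      _ = rs (inf_le_right : U y ⊓ U y' ≤ U y') (rs (le_top : U y' ≤ ⊤) t) := e2
      _ = rs inf_le_right (rs le_top s) * rs inf_le_right (q y') := by
          rw [← map_mul, ← hq y']
      _ = rs inf_le_left (rs le_top s) * rs inf_le_right (q y') := by rw [e1]
  obtain ⟨q₀, hq₀⟩ : ∃ q₀ : Γ(Y, ⊤), ∀ y, rs (le_top : U y ≤ ⊤) q₀ = q y := by
    obtain ⟨q₀, hq₀, -⟩ :=
      Y.sheaf.existsUnique_gluing' U ⊤ (fun i => homOfLE le_top) hcover q hcompat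
    exact ⟨q₀, hq₀⟩
  refine ⟨q₀, ?_⟩
  refine Y.sheaf.eq_of_locally_eq' U ⊤ (fun i => homOfLE le_top) hcover t (s * q₀) (fun y => ?_)
  change rs (le_top : U y ≤ ⊤) t = rs (le_top : U y ≤ ⊤) (s * q₀)
  have h1 : rs (le_top : U y ≤ ⊤) q₀ = q y := hq₀ y
  rw [map_mul, h1, ← hq y]

end sheaf

section scheme

variable {A : Type u} [CommRing A] {Y : Scheme.{u}}

/-- the ring homomorphism `A → Γ(Y, ⊤)` attached to `g : Y ⟶ Spec A` -/
noncomputable def gHom (g : Y ⟶ Spec (CommRingCat.of A)) : A →+* Γ(Y, ⊤) :=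
  ((Scheme.ΓSpecIso (CommRingCat.of A)).inv ≫ g.appTop).hom

/-- a morphism to `Spec R` is determined by its ring map. -/
theorem toSpecΓ_SpecMap (R : CommRingCat.{u}) (g : Y ⟶ Spec R) :
    Y.toSpecΓ ≫ Spec.map ((Scheme.ΓSpecIso R).inv ≫ g.appTop) = g := by
  rw [Spec.map_comp, ← Scheme.toSpecΓ_naturality_assoc, ← SpecMap_ΓSpecIso_hom, ← Spec.map_comp,
    Iso.inv_hom_id, Spec.map_id, Category.comp_id]

/-- the local formula for the inverse image of the ideal sheaf of an ideal of `A` -/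
theorem ideal_comap_idealSheaf (I : Ideal A) (g : Y ⟶ Spec (CommRingCat.of A)) {U : Y.Opens}
    (hU : IsAffineOpen U) :
    ((Curv2.idealSheaf A I).comap g).ideal ⟨U, hU⟩ =
      I.map ((rs (le_top : U ≤ ⊤)).comp (gHom g)) := by
  have hle : U ≤ g ⁻¹ᵁ ⊤ := fun _ _ => trivial
  rw [Groth.Agent.Lib.Helper20.EffCartier.ideal_comap_eq_map g _ hU (isAffineOpen_top _) hle]
  have h1 : (Curv2.idealSheaf A I).ideal ⟨⊤, isAffineOpen_top _⟩ =
      I.map (Scheme.ΓSpecIso (CommRingCat.of A)).inv.hom := by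
    unfold Curv2.idealSheaf
    rw [Scheme.IdealSheafData.ofIdealTop_ideal]
    have h2 : ∀ (h : (⊤ : (Spec (CommRingCat.of A)).Opens) ≤ ⊤),
        ((Spec (CommRingCat.of A)).presheaf.map (homOfLE h).op).hom = RingHom.id _ := by
      intro h
      ext x
      exact rs_self h x
    rw [h2]
    exact Ideal.map_id _
  rw [h1, Ideal.map_map]
  rfl

end scheme

section main

variable (A B : Type u) [CommRing A] [CommRing B] [Algebra A B]

theorem main (hinj : Function.Injective (algebraMap A B)) (I : Ideal A)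
    (hIB : (Ideal.map (algebraMap A B) I : Set B) ⊆ algebraMap A B '' (I : Set A))
    (f : B) (hf : f ∈ nonZeroDivisors B) (hgen : Ideal.map (algebraMap A B) I = Ideal.span {f}) :
    BlowUp.IsBlowUp (Spec.map (CommRingCat.ofHom (algebraMap A B))) (Curv2.idealSheaf A I) := by
  obtain ⟨a₀, ha₀, hfa⟩ : ∃ a₀ ∈ I, algebraMap A B a₀ = f := by
    have h0 : f ∈ Ideal.map (algebraMap A B) I := hgen ▸ Ideal.mem_span_singleton_self f
    exact hIB h0
  have hmul : ∀ b : B, ∃ a ∈ I, algebraMap A B a = b * f := by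
    intro b
    have h0 : b * f ∈ Ideal.map (algebraMap A B) I := by
      rw [hgen]
      exact Ideal.mul_mem_left _ b (Ideal.mem_span_singleton_self f)
    exact hIB h0
  have hI2 : I * I ≤ Ideal.span {a₀} * I := by
    rw [Ideal.mul_le]
    intro a ha a' ha'
    have h1 : algebraMap A B a' ∈ Ideal.span {f} := hgen ▸ Ideal.mem_map_of_mem _ ha'
    obtain ⟨b', hb'⟩ := Ideal.mem_span_singleton'.1 h1
    have h2 : algebraMap A B a * b' ∈ Ideal.map (algebraMap A B) I :=
      Ideal.mul_mem_right _ _ (Ideal.mem_map_of_mem _ ha)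
    obtain ⟨a'', ha'', ha''e⟩ := hIB h2
    have h3 : a * a' = a₀ * a'' := hinj (by
      rw [map_mul, map_mul, hfa, ha''e, ← hb']
      ring)
    rw [h3]
    exact Ideal.mul_mem_mul (Ideal.mem_span_singleton_self a₀) ha''
  set β : CommRingCat.of A ⟶ CommRingCat.of B := CommRingCat.ofHom (algebraMap A B) with hβ
  refine ⟨?_, ?_⟩
  · -- the inverse image ideal on `Spec B` is generated by `f`
    intro x
    refine ⟨⟨⊤, isAffineOpen_top _⟩, trivial,
      (Scheme.ΓSpecIso (CommRingCat.of B)).commRingCatIsoToRingEquiv.symm f,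
      nzd_of_ringEquiv _ f hf, ?_⟩
    rw [ideal_comap_idealSheaf I (Spec.map β) (isAffineOpen_top _)]
    have e1 : (rs (le_top : (⊤ : (Spec (CommRingCat.of B)).Opens) ≤ ⊤)).comp (gHom (Spec.map β)) =
        (Scheme.ΓSpecIso (CommRingCat.of B)).inv.hom.comp (algebraMap A B) := by
      ext a
      change rs _ (gHom (Spec.map β) a) = _
      rw [rs_self]
      have := Scheme.ΓSpecIso_inv_naturality β
      exact (congrArg (fun k => k.hom a) this).symm
    rw [e1, ← Ideal.map_map, hgen, Ideal.map_span, Set.image_singleton]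
    rfl
  · intro Y g hg
    have hloc : ∀ y : Y, ∃ U : Y.Opens, IsAffineOpen U ∧ y ∈ U ∧
        rs (le_top : U ≤ ⊤) (gHom g a₀) ∈ Γ(Y, U)⁰ ∧
        ∀ a ∈ I, rs (le_top : U ≤ ⊤) (gHom g a₀) ∣ rs (le_top : U ≤ ⊤) (gHom g a) := by
      intro y
      obtain ⟨U, hyU, c, hc, hE⟩ := hg y
      rw [ideal_comap_idealSheaf I g U.2] at hE
      obtain ⟨h1, h2⟩ := local_key I a₀ hI2 ((rs (le_top : U.1 ≤ ⊤)).comp (gHom g)) c hc hE
      exact ⟨U.1, U.2, hyU, h1, h2⟩
    have hG1 : gHom g a₀ ∈ Γ(Y, ⊤)⁰ := global_nzd _ (fun y => by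
      obtain ⟨U, hU, hy, h1, -⟩ := hloc y
      exact ⟨U, hU, hy, h1⟩)
    have hG2 : ∀ a ∈ I, gHom g a₀ ∣ gHom g a := fun a ha => global_dvd _ _ (fun y => by
      obtain ⟨U, hU, hy, h1, h2⟩ := hloc y
      exact ⟨U, hU, hy, h1, h2 a ha⟩)
    obtain ⟨ψ, hψ, hψu⟩ := existsUnique_lift hinj I f a₀ hfa hmul (gHom g) hG1 hG2
    refine ⟨Y.toSpecΓ ≫ Spec.map (CommRingCat.ofHom ψ), ?_, ?_⟩
    · change (Y.toSpecΓ ≫ Spec.map (CommRingCat.ofHom ψ)) ≫ Spec.map β = g
      rw [Category.assoc, ← Spec.map_comp]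
      have e2 : β ≫ CommRingCat.ofHom ψ =
          (Scheme.ΓSpecIso (CommRingCat.of A)).inv ≫ g.appTop := by
        apply CommRingCat.hom_ext
        exact hψ
      rw [e2]
      exact toSpecΓ_SpecMap _ g
    · intro h' hh'
      change h' ≫ Spec.map β = g at hh'
      rw [← toSpecΓ_SpecMap _ h']
      congr 2
      apply CommRingCat.hom_ext
      apply hψu
      -- `((ΓSpecIso B).inv ≫ h'.appTop).hom.comp (algebraMap A B) = gHom g`
      have e3 : β ≫ (Scheme.ΓSpecIso (CommRingCat.of B)).inv ≫ h'.appTop =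
          (Scheme.ΓSpecIso (CommRingCat.of A)).inv ≫ g.appTop := by
        rw [← hh', Scheme.Hom.comp_appTop, ← Category.assoc, Scheme.ΓSpecIso_inv_naturality β,
          Category.assoc]
      exact congrArg CommRingCat.Hom.hom e3

end main

end Groth.Agent.Lib.Helper2.AffBlowUp
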