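import Mathlib
import Groth.Prelude.Def_BlowUp2
import Groth.Prelude.Def_CurvBase
import Groth.Agent.Lib.Helper2AffBlowUp

/-!
# Affine charts of a blowing up of an affine scheme (helper2)

Let `b : X' ⟶ Spec A` be a blowing up in the ideal `I` (universal property).  Every point of `X'` has an
open neighbourhood isomorphic over `Spec A` to `Spec A[I/a]` for some `a ∈ I`.
-/

set_option autoImplicit false
set_option linter.style.haveILetI false
universe u
open CategoryTheory Limits AlgebraicGeometry TopologicalSpace Opposite nonZeroDivisors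

namespace Groth.Agent.Lib.Helper2.BlowChart

open Groth.Agent.Lib.Helper2.AffBlowUp

section ringlevel

variable {A : Type u} [CommRing A] (I : Ideal A) (a : A)

theorem frac_mem {x : A} (hx : x ∈ I) :
    IsLocalization.mk' (Localization.Away a) x (⟨a, Submonoid.mem_powers a⟩ : Submonoid.powers a) ∈
      BlowUp.affineAlgebra A I a :=
  Algebra.subset_adjoin ⟨x, hx, rfl⟩

theorem algebraMap_a_nzd :
    algebraMap A (BlowUp.affineAlgebra A I a) a ∈ nonZeroDivisors (BlowUp.affineAlgebra A I a) := by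
  rw [mem_nonZeroDivisors_iff_right]
  intro z hz
  have h1 : (z : Localization.Away a) * algebraMap A (Localization.Away a) a = 0 := by
    have := congrArg Subtype.val hz
    simpa using this
  have hu : IsUnit (algebraMap A (Localization.Away a) a) :=
    IsLocalization.Away.algebraMap_isUnit a
  apply Subtype.ext
  exact (hu.mul_left_eq_zero).1 h1

theorem algebraMap_a_dvd {x : A} (hx : x ∈ I) :
    algebraMap A (BlowUp.affineAlgebra A I a) a ∣ algebraMap A (BlowUp.affineAlgebra A I a) x := by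
  refine ⟨⟨_, frac_mem I a hx⟩, ?_⟩
  apply Subtype.ext
  simp only [Subalgebra.coe_algebraMap, MulMemClass.coe_mul]
  exact (IsLocalization.mk'_spec' (Localization.Away a) x
    (⟨a, Submonoid.mem_powers a⟩ : Submonoid.powers a)).symm

theorem existsUnique_lift_chart {R : Type*} [CommRing R] (φ : A →+* R)
    (h1 : φ a ∈ nonZeroDivisors R) (h2 : ∀ x ∈ I, φ a ∣ φ x) :
    ∃! ψ : (BlowUp.affineAlgebra A I a) →+* R,
      ψ.comp (algebraMap A (BlowUp.affineAlgebra A I a)) = φ := by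
  classical
  have hιinj : Function.Injective (algebraMap R (Localization.Away (φ a))) :=
    IsLocalization.injective (Localization.Away (φ a)) (M := Submonoid.powers (φ a))
      (Submonoid.powers_le.mpr h1)
  have hunit : IsUnit (((algebraMap R (Localization.Away (φ a))).comp φ) a) :=
    IsLocalization.Away.algebraMap_isUnit (φ a)
  obtain ⟨Φ, hΦ⟩ : ∃ Φ : Localization.Away a →+* Localization.Away (φ a),
      ∀ r : A, Φ (algebraMap A (Localization.Away a) r) =
        algebraMap R (Localization.Away (φ a)) (φ r) :=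
    ⟨IsLocalization.Away.lift a hunit, fun r => IsLocalization.Away.lift_eq a hunit r⟩
  have hu' : IsUnit (algebraMap R (Localization.Away (φ a)) (φ a)) := hunit
  have hfrac : ∀ x : A, Φ (IsLocalization.mk' (Localization.Away a) x
      (⟨a, Submonoid.mem_powers a⟩ : Submonoid.powers a)) *
        algebraMap R (Localization.Away (φ a)) (φ a) =
          algebraMap R (Localization.Away (φ a)) (φ x) := by
    intro x
    rw [← hΦ a, ← map_mul]
    have := IsLocalization.mk'_spec (Localization.Away a) x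
      (⟨a, Submonoid.mem_powers a⟩ : Submonoid.powers a)
    rw [this, hΦ]
  have hrange : ∀ z ∈ BlowUp.affineAlgebra A I a,
      Φ z ∈ (algebraMap R (Localization.Away (φ a))).range := by
    intro z hz
    refine Algebra.adjoin_induction
      (p := fun z _ => Φ z ∈ (algebraMap R (Localization.Away (φ a))).range) ?_ ?_ ?_ ?_ hz
    · rintro q ⟨x, hx, rfl⟩
      obtain ⟨t, ht⟩ := h2 x hx
      refine ⟨t, ?_⟩
      apply hu'.mul_left_injective
      show algebraMap R (Localization.Away (φ a)) t * algebraMap R (Localization.Away (φ a)) (φ a) =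
        Φ _ * algebraMap R (Localization.Away (φ a)) (φ a)
      rw [hfrac, ht, map_mul, mul_comm]
    · intro r
      exact ⟨φ r, (hΦ r).symm⟩
    · intro x y _ _ hx hy
      rw [map_add]
      exact Subring.add_mem _ hx hy
    · intro x y _ _ hx hy
      rw [map_mul]
      exact Subring.mul_mem _ hx hy
  let eqv : R ≃+* (algebraMap R (Localization.Away (φ a))).range :=
    RingEquiv.ofLeftInverse (Function.leftInverse_invFun hιinj)
  let Φ' : (BlowUp.affineAlgebra A I a) →+* (algebraMap R (Localization.Away (φ a))).range :=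
    (Φ.comp (BlowUp.affineAlgebra A I a).val.toRingHom).codRestrict _ (fun z => hrange z.1 z.2)
  let ψ : (BlowUp.affineAlgebra A I a) →+* R := eqv.symm.toRingHom.comp Φ'
  have hψ : ∀ z : BlowUp.affineAlgebra A I a,
      algebraMap R (Localization.Away (φ a)) (ψ z) = Φ z := by
    intro z
    have e1 : ((eqv (ψ z) : (algebraMap R (Localization.Away (φ a))).range) :
        Localization.Away (φ a)) = algebraMap R (Localization.Away (φ a)) (ψ z) := rfl
    rw [← e1]
    show ((eqv (eqv.symm (Φ' z)) : (algebraMap R (Localization.Away (φ a))).range) :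
        Localization.Away (φ a)) = Φ z
    rw [RingEquiv.apply_symm_apply]
    rfl
  have hval : ∀ r : A, ((algebraMap A (BlowUp.affineAlgebra A I a) r :
      BlowUp.affineAlgebra A I a) : Localization.Away a) = algebraMap A (Localization.Away a) r :=
    fun r => rfl
  refine ⟨ψ, ?_, ?_⟩
  · ext r
    apply hιinj
    rw [RingHom.comp_apply, hψ, hval, hΦ]
  · intro ψ' hψ'
    have hφ' : ∀ r, ψ' (algebraMap A (BlowUp.affineAlgebra A I a) r) = φ r := fun r => by
      rw [← hψ']; rfl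
    have key : ∀ z (hz : z ∈ BlowUp.affineAlgebra A I a),
        algebraMap R (Localization.Away (φ a)) (ψ' ⟨z, hz⟩) = Φ z := by
      intro z hz
      refine Algebra.adjoin_induction
        (p := fun z _ => ∀ hz : z ∈ BlowUp.affineAlgebra A I a,
          algebraMap R (Localization.Away (φ a)) (ψ' ⟨z, hz⟩) = Φ z) ?_ ?_ ?_ ?_ hz hz
      · rintro q ⟨x, hx, rfl⟩ hq
        apply hu'.mul_left_injective
        show algebraMap R (Localization.Away (φ a)) (ψ' ⟨_, hq⟩) *
          algebraMap R (Localization.Away (φ a)) (φ a) =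
            Φ _ * algebraMap R (Localization.Away (φ a)) (φ a)
        rw [hfrac, ← hφ' a, ← map_mul, ← map_mul, ← hφ' x]
        congr 2
        apply Subtype.ext
        simp only [MulMemClass.coe_mul, hval]
        exact IsLocalization.mk'_spec (Localization.Away a) x
          (⟨a, Submonoid.mem_powers a⟩ : Submonoid.powers a)
      · intro r hr
        have : (⟨algebraMap A (Localization.Away a) r, hr⟩ : BlowUp.affineAlgebra A I a) =
            algebraMap A (BlowUp.affineAlgebra A I a) r := Subtype.ext (hval r).symm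
        rw [this, hφ', hΦ]
      · intro x y hx hy ihx ihy hxy
        have : (⟨x + y, hxy⟩ : BlowUp.affineAlgebra A I a) = ⟨x, hx⟩ + ⟨y, hy⟩ := rfl
        rw [this, map_add, map_add, map_add, ihx hx, ihy hy]
      · intro x y hx hy ihx ihy hxy
        have : (⟨x * y, hxy⟩ : BlowUp.affineAlgebra A I a) = ⟨x, hx⟩ * ⟨y, hy⟩ := rfl
        rw [this, map_mul, map_mul, map_mul, ihx hx, ihy hy]
    ext z
    apply hιinj
    rw [hψ z]
    exact key z.1 z.2

end ringlevel


section scheme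

variable {A : Type u} [CommRing A] {Y : Scheme.{u}}

/-- an affine open on which `a` generates the inverse image of `I` and is a nonzerodivisor -/
def Good (I : Ideal A) (a : A) (g : Y ⟶ Spec (CommRingCat.of A)) (W : Y.Opens) : Prop :=
  IsAffineOpen W ∧ rs (le_top : W ≤ ⊤) (gHom g a) ∈ Γ(Y, W)⁰ ∧
    ∀ x ∈ I, rs (le_top : W ≤ ⊤) (gHom g a) ∣ rs (le_top : W ≤ ⊤) (gHom g x)

/-- the local chart property -/
def LocP (I : Ideal A) (a : A) (g : Y ⟶ Spec (CommRingCat.of A)) : Prop :=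
  ∀ y : Y, ∃ W : Y.Opens, Good I a g W ∧ y ∈ W

theorem LocP.effCartier {I : Ideal A} {a : A} (ha : a ∈ I) {g : Y ⟶ Spec (CommRingCat.of A)}
    (h : LocP I a g) : BlowUp.IsEffCartierIdeal ((Curv2.idealSheaf A I).comap g) := by
  intro y
  obtain ⟨U, ⟨hU, hnz, hdvd⟩, hyU⟩ := h y
  refine ⟨⟨U, hU⟩, hyU, rs (le_top : U ≤ ⊤) (gHom g a), hnz, ?_⟩
  rw [ideal_comap_idealSheaf I g hU]
  apply le_antisymm
  · rw [Ideal.map_le_iff_le_comap]
    intro x hx
    rw [Ideal.mem_comap, Ideal.mem_span_singleton]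
    exact hdvd x hx
  · rw [Ideal.span_singleton_le_iff_mem]
    exact Ideal.mem_map_of_mem _ ha

/-- morphisms to `Spec B` over `Spec A` from the ring-level universal property -/
theorem existsUnique_hom_of_ring (B : Type u) [CommRing B] [Algebra A B]
    (g : Y ⟶ Spec (CommRingCat.of A))
    (hψ : ∃! ψ : B →+* Γ(Y, ⊤), ψ.comp (algebraMap A B) = gHom g) :
    ∃! l : Y ⟶ Spec (CommRingCat.of B),
      l ≫ Spec.map (CommRingCat.ofHom (algebraMap A B)) = g := by
  obtain ⟨ψ, hψ, hψu⟩ := hψ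
  set β : CommRingCat.of A ⟶ CommRingCat.of B := CommRingCat.ofHom (algebraMap A B) with hβ
  refine ⟨Y.toSpecΓ ≫ Spec.map (CommRingCat.ofHom ψ), ?_, ?_⟩
  · change (Y.toSpecΓ ≫ Spec.map (CommRingCat.ofHom ψ)) ≫ Spec.map β = g
    rw [Category.assoc, ← Spec.map_comp]
    have e2 : β ≫ CommRingCat.ofHom ψ =
        (Scheme.ΓSpecIso (CommRingCat.of A)).inv ≫ g.appTop := by
      apply CommRingCat.hom_ext
      exact hψ
    rw [e2]
    exact toSpecΓ_SpecMap _ g
  · intro h' hh'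
    change h' ≫ Spec.map β = g at hh'
    rw [← toSpecΓ_SpecMap _ h']
    congr 2
    apply CommRingCat.hom_ext
    apply hψu
    have e3 : β ≫ (Scheme.ΓSpecIso (CommRingCat.of B)).inv ≫ h'.appTop =
        (Scheme.ΓSpecIso (CommRingCat.of A)).inv ≫ g.appTop := by
      rw [← hh', Scheme.Hom.comp_appTop, ← Category.assoc, Scheme.ΓSpecIso_inv_naturality β,
        Category.assoc]
    exact congrArg CommRingCat.Hom.hom e3

theorem LocP.existsUnique_lift {I : Ideal A} {a : A} {g : Y ⟶ Spec (CommRingCat.of A)}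
    (h : LocP I a g) :
    ∃! l : Y ⟶ Spec (CommRingCat.of (BlowUp.affineAlgebra A I a)),
      l ≫ Spec.map (CommRingCat.ofHom (algebraMap A (BlowUp.affineAlgebra A I a))) = g := by
  have hG1 : gHom g a ∈ Γ(Y, ⊤)⁰ := global_nzd _ (fun y => by
    obtain ⟨U, ⟨hU, h1, -⟩, hy⟩ := h y
    exact ⟨U, hU, hy, h1⟩)
  have hG2 : ∀ x ∈ I, gHom g a ∣ gHom g x := fun x hx => global_dvd _ _ (fun y => by
    obtain ⟨U, ⟨hU, h1, h2⟩, hy⟩ := h y
    exact ⟨U, hU, hy, h1, h2 x hx⟩)
  exact existsUnique_hom_of_ring (BlowUp.affineAlgebra A I a) g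
    (existsUnique_lift_chart I a (gHom g) hG1 hG2)

theorem locP_chart (I : Ideal A) (a : A) :
    LocP I a (Spec.map (CommRingCat.ofHom (algebraMap A (BlowUp.affineAlgebra A I a)))) := by
  intro y
  have e1 : ∀ x : A, rs (le_top : (⊤ : (Spec (CommRingCat.of
      (BlowUp.affineAlgebra A I a))).Opens) ≤ ⊤)
      (gHom (Spec.map (CommRingCat.ofHom (algebraMap A (BlowUp.affineAlgebra A I a)))) x) =
      (Scheme.ΓSpecIso (CommRingCat.of (BlowUp.affineAlgebra A I a))).inv.hom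
        (algebraMap A (BlowUp.affineAlgebra A I a) x) := by
    intro x
    rw [rs_self]
    have := Scheme.ΓSpecIso_inv_naturality
      (CommRingCat.ofHom (algebraMap A (BlowUp.affineAlgebra A I a)))
    exact (congrArg (fun k => k.hom x) this).symm
  refine ⟨⊤, ⟨isAffineOpen_top _, ?_, ?_⟩, trivial⟩
  · rw [e1]
    exact nzd_of_ringEquiv
      (Scheme.ΓSpecIso (CommRingCat.of (BlowUp.affineAlgebra A I a))).commRingCatIsoToRingEquiv.symm
      _ (algebraMap_a_nzd I a)
  · intro x hx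
    rw [e1, e1]
    exact map_dvd _ (algebraMap_a_dvd I a hx)

theorem gHom_comp {Z : Scheme.{u}} (j : Z ⟶ Y) (g : Y ⟶ Spec (CommRingCat.of A)) (x : A) :
    gHom (j ≫ g) x = j.appTop.hom (gHom g x) := by
  unfold gHom
  rw [Scheme.Hom.comp_appTop]
  rfl

theorem rs_appTop {Z : Scheme.{u}} (j : Z ⟶ Y) (W : Y.Opens) (s : Γ(Y, ⊤)) :
    rs (le_top : j ⁻¹ᵁ W ≤ ⊤) (j.appTop.hom s) = (j.app W).hom (rs (le_top : W ≤ ⊤) s) := by
  have := Scheme.Hom.naturality j (homOfLE (le_top : W ≤ ⊤)).op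
  have h2 := congrArg (fun k => k.hom s) this
  exact h2.symm

theorem Good.preimage {Z : Scheme.{u}} (j : Z ⟶ Y) [IsOpenImmersion j] {I : Ideal A} {a : A}
    {g : Y ⟶ Spec (CommRingCat.of A)} {W : Y.Opens} (hW : Good I a g W)
    (hWj : W ≤ j.opensRange) : Good I a (j ≫ g) (j ⁻¹ᵁ W) := by
  obtain ⟨hWa, hnz, hdvd⟩ := hW
  have hiso : IsIso (j.app W) := Scheme.Hom.isIso_app j W hWj
  refine ⟨hWa.preimage_of_isOpenImmersion j hWj, ?_, ?_⟩
  · rw [gHom_comp, rs_appTop]
    exact nzd_of_ringEquiv (asIso (j.app W)).commRingCatIsoToRingEquiv _ hnz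
  · intro x hx
    rw [gHom_comp, gHom_comp, rs_appTop, rs_appTop]
    exact map_dvd _ (hdvd x hx)

theorem good_basicOpen {I : Ideal A} {a : A} {g : Y ⟶ Spec (CommRingCat.of A)} {U : Y.Opens}
    (hU : IsAffineOpen U) (c : Γ(Y, U)) (hc : c ∈ Γ(Y, U)⁰)
    (hE : I.map ((rs (le_top : U ≤ ⊤)).comp (gHom g)) = Ideal.span {c})
    (s : Γ(Y, U)) (hs : rs (le_top : U ≤ ⊤) (gHom g a) = s * c) :
    Good I a g (Y.basicOpen s) := by
  have hWU : Y.basicOpen s ≤ U := Y.basicOpen_le s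
  have hunit : IsUnit (rs hWU s) := Y.toRingedSpace.isUnit_res_basicOpen s
  have hcn : rs hWU c ∈ Γ(Y, Y.basicOpen s)⁰ := nzd_rs hU hWU c hc
  have hrs : ∀ x : A, rs (le_top : Y.basicOpen s ≤ ⊤) (gHom g x) =
      rs hWU (rs (le_top : U ≤ ⊤) (gHom g x)) := fun x => (rs_rs _ _ _).symm
  have ha' : rs (le_top : Y.basicOpen s ≤ ⊤) (gHom g a) = rs hWU s * rs hWU c := by
    rw [hrs, hs, map_mul]
  refine ⟨hU.basicOpen s, ?_, ?_⟩
  · rw [ha']
    exact mul_mem hunit.mem_nonZeroDivisors hcn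
  · intro x hx
    have h1 : rs (le_top : U ≤ ⊤) (gHom g x) ∈ Ideal.span {c} :=
      hE ▸ Ideal.mem_map_of_mem ((rs (le_top : U ≤ ⊤)).comp (gHom g)) hx
    obtain ⟨t, ht⟩ := Ideal.mem_span_singleton'.1 h1
    obtain ⟨v, hv⟩ := hunit.exists_left_inv
    refine ⟨rs hWU t * v, ?_⟩
    rw [hrs x, ← ht, map_mul, ha']
    linear_combination (-(rs hWU t * rs hWU c)) * hv

theorem exists_good_nhd {I : Ideal A} {g : Y ⟶ Spec (CommRingCat.of A)}
    (hg : BlowUp.IsEffCartierIdeal ((Curv2.idealSheaf A I).comap g)) (y : Y) :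
    ∃ a ∈ I, ∃ W : Y.Opens, Good I a g W ∧ y ∈ W := by
  obtain ⟨U, hyU, c, hc, hE⟩ := hg y
  rw [ideal_comap_idealSheaf I g U.2] at hE
  by_contra hcon
  push Not at hcon
  have hcon' : ∀ a ∈ I, ∀ s : Γ(Y, U.1),
      (rs (le_top : U.1 ≤ ⊤)).comp (gHom g) a = s * c → y ∉ Y.basicOpen s := by
    intro a ha s hs
    exact hcon a ha _ (good_basicOpen U.2 c hc hE s hs)
  set 𝔪' : Ideal Γ(Y, U.1) :=
    (IsLocalRing.maximalIdeal (Y.presheaf.stalk y)).comap (Y.presheaf.germ U.1 y hyU).hom with h𝔪'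
  have h1 : I.map ((rs (le_top : U.1 ≤ ⊤)).comp (gHom g)) ≤ 𝔪' * Ideal.span {c} := by
    rw [Ideal.map_le_iff_le_comap]
    intro a ha
    have h0 : (rs (le_top : U.1 ≤ ⊤)).comp (gHom g) a ∈ Ideal.span {c} :=
      hE ▸ Ideal.mem_map_of_mem _ ha
    obtain ⟨s, hs⟩ := Ideal.mem_span_singleton'.1 h0
    rw [Ideal.mem_comap, Ideal.mem_mul_span_singleton]
    refine ⟨s, ?_, hs⟩
    have h3 := hcon' a ha s hs.symm
    rw [Scheme.mem_basicOpen _ _ _ hyU] at h3
    exact (IsLocalRing.mem_maximalIdeal _).mpr h3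
  have h2 : c ∈ 𝔪' * Ideal.span {c} := h1 (hE ▸ Ideal.mem_span_singleton_self c)
  obtain ⟨k, hk, hkc⟩ := Ideal.mem_mul_span_singleton.1 h2
  have hk1 : k = 1 := by
    have h4 : (k - 1) * c = 0 := by rw [sub_mul, hkc, one_mul, sub_self]
    exact sub_eq_zero.1 (mem_nonZeroDivisors_iff_right.1 hc _ h4)
  rw [hk1] at hk
  have h5 : (1 : Y.presheaf.stalk y) ∈ IsLocalRing.maximalIdeal (Y.presheaf.stalk y) := by
    have h6 : (Y.presheaf.germ U.1 y hyU).hom 1 ∈ IsLocalRing.maximalIdeal (Y.presheaf.stalk y) := hk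
    rwa [map_one] at h6
  exact (IsLocalRing.maximalIdeal.isMaximal (Y.presheaf.stalk y)).ne_top
    ((Ideal.eq_top_iff_one _).2 h5)

theorem exists_good_of_locP {X' : Scheme.{u}} {I : Ideal A} {a : A} (ha : a ∈ I) (k : Y ⟶ X')
    (g : X' ⟶ Spec (CommRingCat.of A))
    (hg : BlowUp.IsEffCartierIdeal ((Curv2.idealSheaf A I).comap g)) (hk : LocP I a (k ≫ g))
    (y : Y) : ∃ W : X'.Opens, Good I a g W ∧ k y ∈ W := by
  obtain ⟨U, hxU, c, hc, hE⟩ := hg (k y)
  rw [ideal_comap_idealSheaf I g U.2] at hE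
  have hφa : (rs (le_top : U.1 ≤ ⊤)).comp (gHom g) a ∈ Ideal.span {c} :=
    hE ▸ Ideal.mem_map_of_mem _ ha
  obtain ⟨s, hs⟩ := Ideal.mem_span_singleton'.1 hφa
  refine ⟨X'.basicOpen s, good_basicOpen U.2 c hc hE s hs.symm, ?_⟩
  have hyU : y ∈ k ⁻¹ᵁ U.1 := hxU
  obtain ⟨T, ⟨hT, hnzT, hdvdT⟩, hyT⟩ := hk y
  have hκφ : ∀ z : A, Y.presheaf.germ (k ⁻¹ᵁ U.1) y hyU
      ((k.app U.1).hom (rs (le_top : U.1 ≤ ⊤) (gHom g z))) =
        Y.presheaf.germ ⊤ y trivial (gHom (k ≫ g) z) := by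
    intro z
    rw [← rs_appTop, germ_rs, gHom_comp]
  have hαa : Y.presheaf.germ ⊤ y trivial (gHom (k ≫ g) a) ∈ (Y.presheaf.stalk y)⁰ := by
    have := germ_mem_nonZeroDivisors hT _ hnzT ⟨y, hyT⟩
    rwa [germ_rs] at this
  have hαdvd : ∀ x ∈ I, Y.presheaf.germ ⊤ y trivial (gHom (k ≫ g) a) ∣
      Y.presheaf.germ ⊤ y trivial (gHom (k ≫ g) x) := by
    intro x hx
    have := map_dvd (Y.presheaf.germ T y hyT).hom (hdvdT x hx)
    change Y.presheaf.germ T y hyT _ ∣ Y.presheaf.germ T y hyT _ at this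
    rwa [germ_rs, germ_rs] at this
  let κ : Γ(X', U.1) →+* Y.presheaf.stalk y :=
    (Y.presheaf.germ (k ⁻¹ᵁ U.1) y hyU).hom.comp (k.app U.1).hom
  have hκ : ∀ z : A, κ ((rs (le_top : U.1 ≤ ⊤)).comp (gHom g) z) =
      Y.presheaf.germ ⊤ y trivial (gHom (k ≫ g) z) := hκφ
  have hκc : κ c ∈ Ideal.span {Y.presheaf.germ ⊤ y trivial (gHom (k ≫ g) a)} := by
    have h1 : c ∈ I.map ((rs (le_top : U.1 ≤ ⊤)).comp (gHom g)) :=
      hE ▸ Ideal.mem_span_singleton_self c
    have h2 : κ c ∈ (I.map ((rs (le_top : U.1 ≤ ⊤)).comp (gHom g))).map κ :=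
      Ideal.mem_map_of_mem κ h1
    rw [Ideal.map_map] at h2
    refine (Ideal.map_le_iff_le_comap.2 ?_) h2
    intro x hx
    rw [Ideal.mem_comap, Ideal.mem_span_singleton]
    change _ ∣ κ ((rs (le_top : U.1 ≤ ⊤)).comp (gHom g) x)
    rw [hκ]
    exact hαdvd x hx
  obtain ⟨t, ht⟩ := Ideal.mem_span_singleton'.1 hκc
  have hunit : IsUnit (κ s) := by
    have e : Y.presheaf.germ ⊤ y trivial (gHom (k ≫ g) a) = κ s * κ c := by
      rw [← hκ, ← hs, map_mul]
    have e2 : (κ s * t - 1) * Y.presheaf.germ ⊤ y trivial (gHom (k ≫ g) a) = 0 := by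
      rw [sub_mul, one_mul, mul_assoc, ht, ← e, sub_self]
    have e3 := mem_nonZeroDivisors_iff_right.1 hαa _ e2
    exact IsUnit.of_mul_eq_one t (sub_eq_zero.1 e3)
  change y ∈ k ⁻¹ᵁ (X'.basicOpen s)
  rw [Scheme.preimage_basicOpen]
  exact (Scheme.mem_basicOpen _ _ _ hyU).2 hunit

end scheme

section main

variable (A : Type u) [CommRing A]

theorem main (I : Ideal A) {X' : Scheme.{u}} (b : X' ⟶ Spec (CommRingCat.of A))
    (hb : BlowUp.IsBlowUp b (Curv2.idealSheaf A I)) (x' : X') :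
    ∃ (a : A) (_ : a ∈ I) (V : X'.Opens)
      (e : (V : Scheme.{u}) ≅ Spec (CommRingCat.of ↥(BlowUp.affineAlgebra A I a))),
      x' ∈ V ∧ e.hom ≫ Spec.map (CommRingCat.ofHom
        (algebraMap A ↥(BlowUp.affineAlgebra A I a))) = V.ι ≫ b := by
  obtain ⟨a, ha, W₀, hW₀, hxW₀⟩ := exists_good_nhd hb.1 x'
  obtain ⟨V, hV⟩ : ∃ V : X'.Opens, V = sSup {W | Good I a b W} := ⟨_, rfl⟩
  have hVmem : ∀ z : X', z ∈ V ↔ ∃ W, Good I a b W ∧ z ∈ W := by
    intro z
    rw [hV]
    exact Opens.mem_sSup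
  have hVle : ∀ W, Good I a b W → W ≤ V := by
    intro W hW
    rw [hV]
    exact le_sSup hW
  have hxV : x' ∈ V := (hVmem x').2 ⟨W₀, hW₀, hxW₀⟩
  have hPπ : LocP I a (Spec.map (CommRingCat.ofHom
      (algebraMap A ↥(BlowUp.affineAlgebra A I a)))) := locP_chart I a
  obtain ⟨k, hk, hku⟩ := hb.2 _ _ (hPπ.effCartier ha)
  have hPV : LocP I a (V.ι ≫ b) := by
    intro y
    have hy : V.ι y ∈ V := y.2
    obtain ⟨W, hW, hyW⟩ := (hVmem _).1 hy
    have hWV : W ≤ V.ι.opensRange := by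
      rw [Scheme.Opens.opensRange_ι]
      exact hVle W hW
    exact ⟨V.ι ⁻¹ᵁ W, hW.preimage V.ι hWV, hyW⟩
  obtain ⟨h, hh, hhu⟩ := hPV.existsUnique_lift
  have hhk : h ≫ k = V.ι := by
    obtain ⟨l, hl, hlu⟩ := hb.2 _ (V.ι ≫ b) (hPV.effCartier ha)
    rw [hlu (h ≫ k) (by
      show (h ≫ k) ≫ b = V.ι ≫ b
      rw [Category.assoc, hk, hh]), hlu V.ι rfl]
  have hrange : Set.range k ⊆ Set.range V.ι := by
    rintro _ ⟨y, rfl⟩
    obtain ⟨W, hW, hyW⟩ := exists_good_of_locP ha k b hb.1 (by rw [hk]; exact hPπ) y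
    rw [Scheme.Opens.range_ι]
    exact (hVmem _).2 ⟨W, hW, hyW⟩
  have hk'fac : IsOpenImmersion.lift V.ι k hrange ≫ V.ι = k := IsOpenImmersion.lift_fac _ _ _
  have h1 : h ≫ IsOpenImmersion.lift V.ι k hrange = 𝟙 _ := by
    rw [← cancel_mono V.ι, Category.assoc, hk'fac, hhk, Category.id_comp]
  have h2 : IsOpenImmersion.lift V.ι k hrange ≫ h = 𝟙 _ := by
    obtain ⟨l, hl, hlu⟩ := hPπ.existsUnique_lift
    rw [hlu (IsOpenImmersion.lift V.ι k hrange ≫ h) (by
      show (IsOpenImmersion.lift V.ι k hrange ≫ h) ≫ Spec.map (CommRingCat.ofHom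
        (algebraMap A ↥(BlowUp.affineAlgebra A I a))) = _
      rw [Category.assoc, hh, ← Category.assoc, hk'fac, hk]), hlu (𝟙 _) (Category.id_comp _)]
  exact ⟨a, ha, V, ⟨h, IsOpenImmersion.lift V.ι k hrange, h1, h2⟩, hxV, hh⟩

end main

end Groth.Agent.Lib.Helper2.BlowChart
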