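import Mathlib
import Groth.Prelude.Def_BlowUp2
import Groth.Prelude.Def_CurvBase
import Groth.Agent.Lib.Helper2AffBlowUp
import Groth.Agent.Lib.Helper2BlowChart

/-!
# Blowing up: localization on the base, comparison of charts along a closed immersion (helper2)

* `effCartier_comap_of_isOpenImmersion`, `isBlowUp_of_isPullback`: blowing up commutes with restriction to
  opens (and transport along isomorphisms).
* `comap_idealSheaf_SpecMap`, `exists_idealSheaf_eq`: ideal sheaves on affine schemes.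
* `chart_iso`: the `a`-chart of a blowing up of `Spec A` in `I`.
* `good_iff_of_surjective`, `exists_good_preimage`, `mem_preimage_chart_iff`, `exists_theta`: comparison of
  the charts of the blowing up of `Spec A` in `I` and of `Spec (A/J)` in `I(A/J)`.
-/

set_option autoImplicit false
set_option linter.style.haveILetI false
universe u
open CategoryTheory Limits AlgebraicGeometry TopologicalSpace Opposite nonZeroDivisors

namespace Groth.Agent.Lib.Helper2.BlowLocal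

open Groth.Agent.Lib.Helper2.AffBlowUp Groth.Agent.Lib.Helper2.BlowChart

section general

theorem effCartier_comap_of_isOpenImmersion {X Z : Scheme.{u}} (j : Z ⟶ X) [IsOpenImmersion j]
    {𝓔 : X.IdealSheafData} (h : BlowUp.IsEffCartierIdeal 𝓔) :
    BlowUp.IsEffCartierIdeal (𝓔.comap j) := by
  intro z
  obtain ⟨U, hU, hzU, hUle, c, hc, hE⟩ :=
    Groth.Agent.Lib.Helper20.EffCartier.exists_le_of_isEffCartierIdeal h (j z) j.opensRange ⟨z, rfl⟩
  have hU' : IsAffineOpen (j ⁻¹ᵁ U) := hU.preimage_of_isOpenImmersion j hUle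
  have hiso : IsIso (j.app U) := Scheme.Hom.isIso_app j U hUle
  refine ⟨⟨j ⁻¹ᵁ U, hU'⟩, hzU, (j.app U).hom c,
    nzd_of_ringEquiv (asIso (j.app U)).commRingCatIsoToRingEquiv c hc, ?_⟩
  rw [Groth.Agent.Lib.Helper20.EffCartier.ideal_comap_eq_map j 𝓔 hU' hU le_rfl, hE, Ideal.map_span,
    Set.image_singleton, Scheme.Hom.appLE_eq_app]

theorem isBlowUp_of_isPullback {X X' U V : Scheme.{u}} {𝓘 : X.IdealSheafData} {b : X' ⟶ X}
    (hb : BlowUp.IsBlowUp b 𝓘) (j : U ⟶ X) [IsOpenImmersion j] (p : V ⟶ X') (q : V ⟶ U)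
    (sq : IsPullback p q b j) : BlowUp.IsBlowUp q (𝓘.comap j) := by
  haveI : IsOpenImmersion p :=
    MorphismProperty.of_isPullback (P := @IsOpenImmersion) sq.flip inferInstance
  refine ⟨?_, ?_⟩
  · rw [← Scheme.IdealSheafData.comap_comp, ← sq.w, Scheme.IdealSheafData.comap_comp]
    exact effCartier_comap_of_isOpenImmersion p hb.1
  · intro Y g hg
    rw [← Scheme.IdealSheafData.comap_comp] at hg
    obtain ⟨h₀, hh₀, hu⟩ := hb.2 Y (g ≫ j) hg
    refine ⟨sq.lift h₀ g hh₀, sq.lift_snd _ _ _, ?_⟩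
    intro h' hh'
    apply sq.hom_ext
    · rw [sq.lift_fst]
      apply hu
      show (h' ≫ p) ≫ b = g ≫ j
      rw [Category.assoc, sq.w, ← Category.assoc, hh']
    · rw [sq.lift_snd]
      exact hh'

end general

section affine

variable {A : Type u} [CommRing A] {Y : Scheme.{u}}

theorem idealSheaf_ideal_top (I : Ideal A) :
    (Curv2.idealSheaf A I).ideal ⟨⊤, isAffineOpen_top _⟩ =
      I.map (Scheme.ΓSpecIso (CommRingCat.of A)).inv.hom := by
  unfold Curv2.idealSheaf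
  rw [Scheme.IdealSheafData.ofIdealTop_ideal]
  have h2 : ∀ (h : (⊤ : (Spec (CommRingCat.of A)).Opens) ≤ ⊤),
      ((Spec (CommRingCat.of A)).presheaf.map (homOfLE h).op).hom = RingHom.id _ := by
    intro h
    ext x
    exact rs_self h x
  rw [h2]
  exact Ideal.map_id _

theorem gHom_SpecMap {B : Type u} [CommRing B] (π : A →+* B) (x : A) :
    gHom (Spec.map (CommRingCat.ofHom π)) x =
      (Scheme.ΓSpecIso (CommRingCat.of B)).inv.hom (π x) := by
  have := Scheme.ΓSpecIso_inv_naturality (CommRingCat.ofHom π)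
  exact (congrArg (fun k => k.hom x) this).symm

theorem gHom_comp_SpecMap {B : Type u} [CommRing B] (π : A →+* B)
    (h : Y ⟶ Spec (CommRingCat.of B)) (x : A) :
    gHom (h ≫ Spec.map (CommRingCat.ofHom π)) x = gHom h (π x) := by
  rw [gHom_comp, gHom_SpecMap]
  rfl

theorem comap_idealSheaf_SpecMap {B : Type u} [CommRing B] (π : A →+* B) (I : Ideal A) :
    (Curv2.idealSheaf A I).comap (Spec.map (CommRingCat.ofHom π)) =
      Curv2.idealSheaf B (I.map π) := by
  apply Scheme.IdealSheafData.ext_of_isAffine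
  rw [ideal_comap_idealSheaf I _ (isAffineOpen_top _), idealSheaf_ideal_top, Ideal.map_map]
  congr 1
  ext x
  simp only [RingHom.comp_apply]
  rw [rs_self, gHom_SpecMap]

theorem exists_idealSheaf_eq (𝓚 : (Spec (CommRingCat.of A)).IdealSheafData) :
    ∃ I : Ideal A, 𝓚 = Curv2.idealSheaf A I := by
  refine ⟨(𝓚.ideal ⟨⊤, isAffineOpen_top _⟩).comap
    (Scheme.ΓSpecIso (CommRingCat.of A)).inv.hom, ?_⟩
  apply Scheme.IdealSheafData.ext_of_isAffine
  rw [idealSheaf_ideal_top, Ideal.map_comap_of_surjective]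
  exact (Scheme.ΓSpecIso (CommRingCat.of A)).symm.commRingCatIsoToRingEquiv.surjective

/-- the `a`-chart of a blowing up of `Spec A` in `I` -/
theorem chart_iso (I : Ideal A) {X' : Scheme.{u}} (b : X' ⟶ Spec (CommRingCat.of A))
    (hb : BlowUp.IsBlowUp b (Curv2.idealSheaf A I)) (a : A) (ha : a ∈ I) (V : X'.Opens)
    (hVmem : ∀ z : X', z ∈ V ↔ ∃ W, Good I a b W ∧ z ∈ W) :
    ∃ (e : (V : Scheme.{u}) ≅ Spec (CommRingCat.of ↥(BlowUp.affineAlgebra A I a))),
      e.hom ≫ Spec.map (CommRingCat.ofHom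
        (algebraMap A ↥(BlowUp.affineAlgebra A I a))) = V.ι ≫ b := by
  have hVle : ∀ W, Good I a b W → W ≤ V := fun W hW z hz => (hVmem z).2 ⟨W, hW, hz⟩
  have hPπ : LocP I a (Spec.map (CommRingCat.ofHom
      (algebraMap A ↥(BlowUp.affineAlgebra A I a)))) := locP_chart I a
  obtain ⟨k, hk, hku⟩ := hb.2 _ _ (hPπ.effCartier ha)
  have hPV : LocP I a (V.ι ≫ b) := by
    intro y
    have hy : V.ι y ∈ V := y.2
    obtain ⟨W, hW, hyW⟩ := (hVmem _).1 hy
    have hWV : W ≤ V.ι.opensRange := by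
      rw [Scheme.Opens.opensRange_ι]
      exact hVle W hW
    exact ⟨V.ι ⁻¹ᵁ W, hW.preimage V.ι hWV, hyW⟩
  obtain ⟨h, hh, hhu⟩ := hPV.existsUnique_lift
  have hhk : h ≫ k = V.ι := by
    obtain ⟨l, hl, hlu⟩ := hb.2 _ (V.ι ≫ b) (hPV.effCartier ha)
    rw [hlu (h ≫ k) (by
      show (h ≫ k) ≫ b = V.ι ≫ b
      rw [Category.assoc, hk, hh]), hlu V.ι rfl]
  have hrange : Set.range k ⊆ Set.range V.ι := by
    rintro _ ⟨y, rfl⟩
    obtain ⟨W, hW, hyW⟩ := exists_good_of_locP ha k b hb.1 (by rw [hk]; exact hPπ) y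
    rw [Scheme.Opens.range_ι]
    exact (hVmem _).2 ⟨W, hW, hyW⟩
  have hk'fac : IsOpenImmersion.lift V.ι k hrange ≫ V.ι = k := IsOpenImmersion.lift_fac _ _ _
  have h1 : h ≫ IsOpenImmersion.lift V.ι k hrange = 𝟙 _ := by
    rw [← cancel_mono V.ι, Category.assoc, hk'fac, hhk, Category.id_comp]
  have h2 : IsOpenImmersion.lift V.ι k hrange ≫ h = 𝟙 _ := by
    obtain ⟨l, hl, hlu⟩ := hPπ.existsUnique_lift
    rw [hlu (IsOpenImmersion.lift V.ι k hrange ≫ h) (by
      show (IsOpenImmersion.lift V.ι k hrange ≫ h) ≫ Spec.map (CommRingCat.ofHom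
        (algebraMap A ↥(BlowUp.affineAlgebra A I a))) = _
      rw [Category.assoc, hh, ← Category.assoc, hk'fac, hk]), hlu (𝟙 _) (Category.id_comp _)]
  exact ⟨⟨h, IsOpenImmersion.lift V.ι k hrange, h1, h2⟩, hh⟩

theorem good_iff_of_surjective {B : Type u} [CommRing B] (π : A →+* B)
    (hπ : Function.Surjective π) (I : Ideal A) (a : A) (h : Y ⟶ Spec (CommRingCat.of B))
    (W : Y.Opens) :
    Good (I.map π) (π a) h W ↔ Good I a (h ≫ Spec.map (CommRingCat.ofHom π)) W := by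
  unfold Good
  simp only [gHom_comp_SpecMap]
  constructor
  · rintro ⟨h1, h2, h3⟩
    exact ⟨h1, h2, fun x hx => h3 (π x) (Ideal.mem_map_of_mem π hx)⟩
  · rintro ⟨h1, h2, h3⟩
    refine ⟨h1, h2, fun y hy => ?_⟩
    obtain ⟨x, hx, rfl⟩ := (Ideal.mem_map_iff_of_surjective π hπ).1 hy
    exact h3 x hx

/-- a chart neighbourhood downstairs pulls back to a chart neighbourhood, provided the inverse image ideal
is effective Cartier upstairs. -/
theorem exists_good_preimage {X' : Scheme.{u}} {I : Ideal A} {a : A} (ha : a ∈ I) (k : Y ⟶ X')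
    (g : X' ⟶ Spec (CommRingCat.of A)) {W : X'.Opens} (hW : Good I a g W)
    (hE : BlowUp.IsEffCartierIdeal ((Curv2.idealSheaf A I).comap (k ≫ g))) (y : Y)
    (hy : k y ∈ W) : ∃ W' : Y.Opens, Good I a (k ≫ g) W' ∧ y ∈ W' := by
  obtain ⟨hWa, hnz, hdvd⟩ := hW
  obtain ⟨U, hyU, c, hc, hEU⟩ := hE y
  rw [ideal_comap_idealSheaf I (k ≫ g) U.2] at hEU
  have hφa : (rs (le_top : U.1 ≤ ⊤)).comp (gHom (k ≫ g)) a ∈ Ideal.span {c} :=
    hEU ▸ Ideal.mem_map_of_mem _ ha
  obtain ⟨s, hs⟩ := Ideal.mem_span_singleton'.1 hφa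
  refine ⟨Y.basicOpen s, good_basicOpen U.2 c hc hEU s hs.symm, ?_⟩
  rw [Scheme.mem_basicOpen _ _ _ hyU]
  have hyW : y ∈ k ⁻¹ᵁ W := hy
  have hdvd' : ∀ x ∈ I, Y.presheaf.germ ⊤ y trivial (gHom (k ≫ g) a) ∣
      Y.presheaf.germ ⊤ y trivial (gHom (k ≫ g) x) := by
    intro x hx
    have h1 := map_dvd (k.app W).hom (hdvd x hx)
    rw [← rs_appTop, ← rs_appTop, ← gHom_comp, ← gHom_comp] at h1
    have h2 := map_dvd (Y.presheaf.germ (k ⁻¹ᵁ W) y hyW).hom h1
    change Y.presheaf.germ (k ⁻¹ᵁ W) y hyW _ ∣ Y.presheaf.germ (k ⁻¹ᵁ W) y hyW _ at h2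
    rwa [germ_rs, germ_rs] at h2
  let κ : Γ(Y, U.1) →+* Y.presheaf.stalk y := (Y.presheaf.germ U.1 y hyU).hom
  have hκ : ∀ z : A, κ ((rs (le_top : U.1 ≤ ⊤)).comp (gHom (k ≫ g)) z) =
      Y.presheaf.germ ⊤ y trivial (gHom (k ≫ g) z) := fun z => germ_rs _ _ _ _
  have hκc : κ c ∈ Ideal.span {Y.presheaf.germ ⊤ y trivial (gHom (k ≫ g) a)} := by
    have h1 : c ∈ I.map ((rs (le_top : U.1 ≤ ⊤)).comp (gHom (k ≫ g))) :=
      hEU ▸ Ideal.mem_span_singleton_self c
    have h2 : κ c ∈ (I.map ((rs (le_top : U.1 ≤ ⊤)).comp (gHom (k ≫ g)))).map κ :=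
      Ideal.mem_map_of_mem κ h1
    rw [Ideal.map_map] at h2
    refine (Ideal.map_le_iff_le_comap.2 ?_) h2
    intro x hx
    rw [Ideal.mem_comap, Ideal.mem_span_singleton]
    change _ ∣ κ ((rs (le_top : U.1 ≤ ⊤)).comp (gHom (k ≫ g)) x)
    rw [hκ]
    exact hdvd' x hx
  obtain ⟨t, ht⟩ := Ideal.mem_span_singleton'.1 hκc
  have hcnz : κ c ∈ (Y.presheaf.stalk y)⁰ := germ_mem_nonZeroDivisors U.2 c hc ⟨y, hyU⟩
  have e : Y.presheaf.germ ⊤ y trivial (gHom (k ≫ g) a) = κ s * κ c := by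
    rw [← hκ, ← hs, map_mul]
  have e2 : (t * κ s - 1) * κ c = 0 := by
    rw [sub_mul, one_mul, mul_assoc, ← e, ht, sub_self]
  have e3 := mem_nonZeroDivisors_iff_right.1 hcnz _ e2
  exact IsUnit.of_mul_eq_one t (by rw [mul_comm]; exact sub_eq_zero.1 e3)

theorem mem_preimage_chart_iff {B : Type u} [CommRing B] (π : A →+* B)
    (hπ : Function.Surjective π) (I : Ideal A) (a : A) (ha : a ∈ I) {X' Y' : Scheme.{u}}
    (b : X' ⟶ Spec (CommRingCat.of A))
    (hb1 : BlowUp.IsEffCartierIdeal ((Curv2.idealSheaf A I).comap b))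
    (b' : Y' ⟶ Spec (CommRingCat.of B))
    (hb'1 : BlowUp.IsEffCartierIdeal
      ((Curv2.idealSheaf A I).comap (b' ≫ Spec.map (CommRingCat.ofHom π))))
    (f' : Y' ⟶ X') (hf' : f' ≫ b = b' ≫ Spec.map (CommRingCat.ofHom π)) (y : Y') :
    (∃ W, Good I a b W ∧ f' y ∈ W) ↔ ∃ W', Good (I.map π) (π a) b' W' ∧ y ∈ W' := by
  constructor
  · rintro ⟨W, hW, hyW⟩
    obtain ⟨W', hW', hyW'⟩ := exists_good_preimage ha f' b hW (by rw [hf']; exact hb'1) y hyW
    rw [hf'] at hW'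
    exact ⟨W', (good_iff_of_surjective π hπ I a b' W').2 hW', hyW'⟩
  · rintro ⟨W', hW', hyW'⟩
    have hW'' : Good I a (f' ≫ b) W' := by
      rw [hf']
      exact (good_iff_of_surjective π hπ I a b' W').1 hW'
    have hk : LocP I a ((W'.ι ≫ f') ≫ b) := by
      intro z
      rw [Category.assoc]
      exact ⟨W'.ι ⁻¹ᵁ W', hW''.preimage W'.ι (by rw [Scheme.Opens.opensRange_ι]), z.2⟩
    obtain ⟨W, hW, hzW⟩ := exists_good_of_locP ha (W'.ι ≫ f') b hb1 hk ⟨y, hyW'⟩
    exact ⟨W, hW, hzW⟩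

/-- the comparison homomorphism `A[I/a] → B[IB/π a]` for surjective `π : A → B` is surjective. -/
theorem exists_theta {B : Type u} [CommRing B] (π : A →+* B) (hπ : Function.Surjective π)
    (I : Ideal A) (a : A) :
    ∃ θ : BlowUp.affineAlgebra A I a →+* BlowUp.affineAlgebra B (I.map π) (π a),
      θ.comp (algebraMap A (BlowUp.affineAlgebra A I a)) =
        (algebraMap B (BlowUp.affineAlgebra B (I.map π) (π a))).comp π ∧
      Function.Surjective θ := by
  obtain ⟨θ, hθ, -⟩ := existsUnique_lift_chart I a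
    ((algebraMap B (BlowUp.affineAlgebra B (I.map π) (π a))).comp π)
    (algebraMap_a_nzd (I.map π) (π a))
    (fun x hx => algebraMap_a_dvd (I.map π) (π a) (Ideal.mem_map_of_mem π hx))
  refine ⟨θ, hθ, ?_⟩
  have hθ' : ∀ r : A, θ (algebraMap A (BlowUp.affineAlgebra A I a) r) =
      algebraMap B (BlowUp.affineAlgebra B (I.map π) (π a)) (π r) :=
    fun r => RingHom.congr_fun hθ r
  have key : ∀ z (hz : z ∈ BlowUp.affineAlgebra B (I.map π) (π a)),
      (⟨z, hz⟩ : BlowUp.affineAlgebra B (I.map π) (π a)) ∈ θ.range := by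
    intro z hz
    refine Algebra.adjoin_induction
      (p := fun z _ => ∀ hz : z ∈ BlowUp.affineAlgebra B (I.map π) (π a),
        (⟨z, hz⟩ : BlowUp.affineAlgebra B (I.map π) (π a)) ∈ θ.range) ?_ ?_ ?_ ?_ hz hz
    · rintro q ⟨xb, hxb, rfl⟩ hq
      obtain ⟨x, hx, rfl⟩ := (Ideal.mem_map_iff_of_surjective π hπ).1 hxb
      refine ⟨⟨_, frac_mem I a hx⟩, ?_⟩
      apply (mul_cancel_right_mem_nonZeroDivisors (algebraMap_a_nzd (I.map π) (π a))).1
      rw [← hθ' a, ← map_mul]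
      have e1 : (⟨_, frac_mem I a hx⟩ : BlowUp.affineAlgebra A I a) *
          algebraMap A (BlowUp.affineAlgebra A I a) a =
            algebraMap A (BlowUp.affineAlgebra A I a) x := by
        apply Subtype.ext
        simp only [MulMemClass.coe_mul, Subalgebra.coe_algebraMap]
        exact IsLocalization.mk'_spec (Localization.Away a) x
          (⟨a, Submonoid.mem_powers a⟩ : Submonoid.powers a)
      rw [e1, hθ', hθ']
      apply Subtype.ext
      simp only [MulMemClass.coe_mul, Subalgebra.coe_algebraMap]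
      exact (IsLocalization.mk'_spec (Localization.Away (π a)) (π x)
        (⟨π a, Submonoid.mem_powers (π a)⟩ : Submonoid.powers (π a))).symm
    · intro r hr
      obtain ⟨r', rfl⟩ := hπ r
      exact ⟨algebraMap A (BlowUp.affineAlgebra A I a) r', by rw [hθ' r']; rfl⟩
    · intro x y hx hy ihx ihy hxy
      have : (⟨x + y, hxy⟩ : BlowUp.affineAlgebra B (I.map π) (π a)) = ⟨x, hx⟩ + ⟨y, hy⟩ := rfl
      rw [this]
      exact Subring.add_mem _ (ihx hx) (ihy hy)
    · intro x y hx hy ihx ihy hxy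
      have : (⟨x * y, hxy⟩ : BlowUp.affineAlgebra B (I.map π) (π a)) = ⟨x, hx⟩ * ⟨y, hy⟩ := rfl
      rw [this]
      exact Subring.mul_mem _ (ihx hx) (ihy hy)
  intro z
  exact key z.1 z.2

end affine

end Groth.Agent.Lib.Helper2.BlowLocal
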