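import Mathlib
import Groth.Prelude.Def_BlowUp2
import Groth.Prelude.Def_CurvBase
import Groth.Agent.Lib.Helper2AffBlowUp
import Groth.Agent.Lib.Helper2BlowChart
import Groth.Agent.Lib.Helper2BlowLocal

/-!
# The strict transform of a closed subscheme under a blowing up is a closed subscheme (helper2)

* `core0`, `core`: affine base.
* `glob`: the general statement: if `f : Y ⟶ X` is a closed immersion, `b : X' ⟶ X` a blowing up in `𝓘`,
  `b' : Y' ⟶ Y` a blowing up in `𝓘.comap f` and `f' ≫ b = b' ≫ f`, then `f'` is a closed immersion.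
* `isAffineHom_ι_compl`, `ker_ι_compl`: the complement of an effective Cartier divisor is affine over the
  ambient scheme and scheme-theoretically dense.
-/

set_option autoImplicit false
set_option linter.style.haveILetI false
universe u
open CategoryTheory Limits AlgebraicGeometry TopologicalSpace Opposite nonZeroDivisors

namespace Groth.Agent.Lib.Helper2.StrictTr

open Groth.Agent.Lib.Helper2.AffBlowUp Groth.Agent.Lib.Helper2.BlowChart
  Groth.Agent.Lib.Helper2.BlowLocal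

theorem core0 {A B : Type u} [CommRing A] [CommRing B] (π : A →+* B)
    (hπ : Function.Surjective π) (I : Ideal A) {X' Y' : Scheme.{u}}
    (b : X' ⟶ Spec (CommRingCat.of A)) (hb : BlowUp.IsBlowUp b (Curv2.idealSheaf A I))
    (b' : Y' ⟶ Spec (CommRingCat.of B))
    (hb' : BlowUp.IsBlowUp b' (Curv2.idealSheaf B (I.map π)))
    (f' : Y' ⟶ X') (hf' : f' ≫ b = b' ≫ Spec.map (CommRingCat.ofHom π)) :
    IsClosedImmersion f' := by
  have hcomap : (Curv2.idealSheaf A I).comap (Spec.map (CommRingCat.ofHom π)) =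
      Curv2.idealSheaf B (I.map π) := comap_idealSheaf_SpecMap π I
  have hb'1 : BlowUp.IsEffCartierIdeal
      ((Curv2.idealSheaf A I).comap (b' ≫ Spec.map (CommRingCat.ofHom π))) := by
    rw [Scheme.IdealSheafData.comap_comp, hcomap]
    exact hb'.1
  let V : I → X'.Opens := fun a => sSup {W | Good I a.1 b W}
  have hVmem : ∀ (a : I) (z : X'), z ∈ V a ↔ ∃ W, Good I a.1 b W ∧ z ∈ W := by
    intro a z
    exact Opens.mem_sSup
  have hcover : iSup V = ⊤ := by
    rw [eq_top_iff]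
    intro x _
    obtain ⟨a, ha, W, hW, hxW⟩ := exists_good_nhd hb.1 x
    exact Opens.mem_iSup.2 ⟨⟨a, ha⟩, (hVmem ⟨a, ha⟩ x).2 ⟨W, hW, hxW⟩⟩
  apply IsZariskiLocalAtTarget.of_iSup_eq_top (P := @IsClosedImmersion) V hcover
  rintro ⟨a, ha⟩
  obtain ⟨e, he⟩ := chart_iso I b hb a ha (V ⟨a, ha⟩) (hVmem ⟨a, ha⟩)
  have hTmem : ∀ z : Y', z ∈ f' ⁻¹ᵁ (V ⟨a, ha⟩) ↔
      ∃ W', Good (I.map π) (π a) b' W' ∧ z ∈ W' := by
    intro z
    rw [← mem_preimage_chart_iff π hπ I a ha b hb.1 b' hb'1 f' hf' z]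
    exact hVmem ⟨a, ha⟩ (f' z)
  obtain ⟨e', he'⟩ := chart_iso (I.map π) b' hb' (π a) (Ideal.mem_map_of_mem π ha)
    (f' ⁻¹ᵁ (V ⟨a, ha⟩)) hTmem
  obtain ⟨θ, hθ, hθsurj⟩ := exists_theta π hπ I a
  have hm : e'.inv ≫ (f' ∣_ (V ⟨a, ha⟩)) ≫ e.hom = Spec.map (CommRingCat.ofHom θ) := by
    have hLoc : LocP I a (Spec.map (CommRingCat.ofHom
        (algebraMap B (BlowUp.affineAlgebra B (I.map π) (π a)))) ≫
          Spec.map (CommRingCat.ofHom π)) := by
      intro z
      obtain ⟨W, hW, hzW⟩ := locP_chart (I.map π) (π a) z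
      exact ⟨W, (good_iff_of_surjective π hπ I a _ W).1 hW, hzW⟩
    obtain ⟨l, hl, hlu⟩ := hLoc.existsUnique_lift
    have h1 : (f' ∣_ (V ⟨a, ha⟩)) ≫ (V ⟨a, ha⟩).ι ≫ b =
        (f' ⁻¹ᵁ (V ⟨a, ha⟩)).ι ≫ b' ≫ Spec.map (CommRingCat.ofHom π) := by
      rw [← Category.assoc, morphismRestrict_ι, Category.assoc, hf']
    rw [hlu (e'.inv ≫ (f' ∣_ (V ⟨a, ha⟩)) ≫ e.hom) ?_, hlu (Spec.map (CommRingCat.ofHom θ)) ?_]
    · show Spec.map (CommRingCat.ofHom θ) ≫ Spec.map (CommRingCat.ofHom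
        (algebraMap A (BlowUp.affineAlgebra A I a))) = _
      rw [← Spec.map_comp, ← Spec.map_comp]
      congr 1
      apply CommRingCat.hom_ext
      exact hθ
    · show (e'.inv ≫ (f' ∣_ (V ⟨a, ha⟩)) ≫ e.hom) ≫ Spec.map (CommRingCat.ofHom
        (algebraMap A (BlowUp.affineAlgebra A I a))) = _
      calc (e'.inv ≫ (f' ∣_ (V ⟨a, ha⟩)) ≫ e.hom) ≫ Spec.map (CommRingCat.ofHom
              (algebraMap A (BlowUp.affineAlgebra A I a)))
          = e'.inv ≫ (f' ∣_ (V ⟨a, ha⟩)) ≫ (e.hom ≫ Spec.map (CommRingCat.ofHom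
              (algebraMap A (BlowUp.affineAlgebra A I a)))) := by
            simp only [Category.assoc]
        _ = e'.inv ≫ (f' ∣_ (V ⟨a, ha⟩)) ≫ (V ⟨a, ha⟩).ι ≫ b := by rw [he]
        _ = e'.inv ≫ (f' ⁻¹ᵁ (V ⟨a, ha⟩)).ι ≫ b' ≫ Spec.map (CommRingCat.ofHom π) := by
            rw [h1]
        _ = e'.inv ≫ (e'.hom ≫ Spec.map (CommRingCat.ofHom
              (algebraMap B (BlowUp.affineAlgebra B (I.map π) (π a))))) ≫
                Spec.map (CommRingCat.ofHom π) := by
            rw [he', Category.assoc]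
        _ = _ := by rw [Category.assoc, Iso.inv_hom_id_assoc]
  haveI hcl : IsClosedImmersion (Spec.map (CommRingCat.ofHom θ)) :=
    IsClosedImmersion.spec_of_surjective _ hθsurj
  have hfin : f' ∣_ (V ⟨a, ha⟩) = e'.hom ≫ Spec.map (CommRingCat.ofHom θ) ≫ e.inv := by
    rw [← hm]
    simp only [Category.assoc, Iso.hom_inv_id, Category.comp_id, Iso.hom_inv_id_assoc]
  rw [hfin]
  infer_instance

theorem core {A : Type u} [CommRing A] (I : Ideal A) {X' Y Y' : Scheme.{u}}
    (b : X' ⟶ Spec (CommRingCat.of A)) (hb : BlowUp.IsBlowUp b (Curv2.idealSheaf A I))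
    (f : Y ⟶ Spec (CommRingCat.of A)) [IsClosedImmersion f] (b' : Y' ⟶ Y)
    (hb' : BlowUp.IsBlowUp b' ((Curv2.idealSheaf A I).comap f)) (f' : Y' ⟶ X')
    (hf' : f' ≫ b = b' ≫ f) : IsClosedImmersion f' := by
  obtain ⟨hYaff, hsurj⟩ := IsClosedImmersion.isAffine_surjective_of_isAffine f
  let π : A →+* Γ(Y, ⊤) := gHom f
  have hπ : Function.Surjective π := by
    intro y
    obtain ⟨x, hx⟩ := hsurj y
    refine ⟨(Scheme.ΓSpecIso (CommRingCat.of A)).hom.hom x, ?_⟩
    show f.appTop.hom ((Scheme.ΓSpecIso (CommRingCat.of A)).inv.hom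
      ((Scheme.ΓSpecIso (CommRingCat.of A)).hom.hom x)) = y
    have h1 : (Scheme.ΓSpecIso (CommRingCat.of A)).inv.hom
        ((Scheme.ΓSpecIso (CommRingCat.of A)).hom.hom x) = x := by
      have := (Scheme.ΓSpecIso (CommRingCat.of A)).hom_inv_id
      exact congrArg (fun k => k.hom x) this
    rw [h1]
    exact hx
  let g : Spec (CommRingCat.of Γ(Y, ⊤)) ⟶ Spec (CommRingCat.of A) :=
    Spec.map (CommRingCat.ofHom π)
  let e' : Y ⟶ Spec (CommRingCat.of Γ(Y, ⊤)) := Y.toSpecΓ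
  have he : e' ≫ g = f := toSpecΓ_SpecMap (CommRingCat.of A) f
  haveI : IsIso e' := (inferInstance : IsIso Y.toSpecΓ)
  have sq : IsPullback (𝟙 Y') (b' ≫ e') b' (inv e') := IsPullback.of_horiz_isIso ⟨by simp⟩
  have hB := isBlowUp_of_isPullback hb' (inv e') (𝟙 Y') (b' ≫ e') sq
  have hid : ((Curv2.idealSheaf A I).comap f).comap (inv e') =
      Curv2.idealSheaf Γ(Y, ⊤) (I.map π) := by
    rw [← Scheme.IdealSheafData.comap_comp, ← he, IsIso.inv_hom_id_assoc]
    exact comap_idealSheaf_SpecMap π I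
  rw [hid] at hB
  exact core0 π hπ I b hb (b' ≫ e') hB f' (by rw [hf', ← he, Category.assoc])

theorem local_step {X Y X' Y' : Scheme.{u}} (𝓘 : X.IdealSheafData) (f : Y ⟶ X)
    [IsClosedImmersion f] (b : X' ⟶ X) (hb : BlowUp.IsBlowUp b 𝓘) (b' : Y' ⟶ Y)
    (hb' : BlowUp.IsBlowUp b' (𝓘.comap f)) (f' : Y' ⟶ X') (hf' : f' ≫ b = b' ≫ f)
    {A : Type u} [CommRing A] (j : Spec (CommRingCat.of A) ⟶ X) [IsOpenImmersion j] :
    IsClosedImmersion (pullback.snd f' (pullback.fst b j)) := by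
  have hcond1 : pullback.fst b j ≫ b = pullback.snd b j ≫ j := pullback.condition
  have hcond2 : pullback.fst f' (pullback.fst b j) ≫ f' =
      pullback.snd f' (pullback.fst b j) ≫ pullback.fst b j := pullback.condition
  have hcond3 : pullback.fst f j ≫ f = pullback.snd f j ≫ j := pullback.condition
  have hw : (pullback.fst f' (pullback.fst b j) ≫ b') ≫ f =
      (pullback.snd f' (pullback.fst b j) ≫ pullback.snd b j) ≫ j := by
    rw [Category.assoc, ← hf', ← Category.assoc, hcond2, Category.assoc, hcond1, Category.assoc]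
  let b'U : pullback f' (pullback.fst b j) ⟶ pullback f j :=
    pullback.lift (pullback.fst f' (pullback.fst b j) ≫ b')
      (pullback.snd f' (pullback.fst b j) ≫ pullback.snd b j) hw
  have hb'U1 : b'U ≫ pullback.fst f j = pullback.fst f' (pullback.fst b j) ≫ b' :=
    pullback.lift_fst _ _ _
  have hb'U2 : b'U ≫ pullback.snd f j =
      pullback.snd f' (pullback.fst b j) ≫ pullback.snd b j := pullback.lift_snd _ _ _
  have sq2 : IsPullback (pullback.fst b j) (pullback.snd b j) b j := IsPullback.of_hasPullback b j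
  have hBU : BlowUp.IsBlowUp (pullback.snd b j) (𝓘.comap j) :=
    isBlowUp_of_isPullback hb j _ _ sq2
  have sq1 : IsPullback (pullback.snd f' (pullback.fst b j)) (pullback.fst f' (pullback.fst b j))
      (pullback.fst b j) f' := (IsPullback.of_hasPullback f' (pullback.fst b j)).flip
  have sq12 : IsPullback (pullback.snd f' (pullback.fst b j) ≫ pullback.snd b j)
      (pullback.fst f' (pullback.fst b j)) j (f' ≫ b) := sq1.paste_horiz sq2.flip
  have sq3 : IsPullback (pullback.snd f j) (pullback.fst f j) j f :=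
    (IsPullback.of_hasPullback f j).flip
  have sq12' : IsPullback (b'U ≫ pullback.snd f j) (pullback.fst f' (pullback.fst b j)) j
      (b' ≫ f) := by
    rw [hb'U2, ← hf']
    exact sq12
  have sq4 : IsPullback b'U (pullback.fst f' (pullback.fst b j)) (pullback.fst f j) b' :=
    IsPullback.of_right sq12' hb'U1 sq3
  have hB'U : BlowUp.IsBlowUp b'U ((𝓘.comap f).comap (pullback.fst f j)) :=
    isBlowUp_of_isPullback hb' (pullback.fst f j) _ b'U sq4.flip
  have hideal : (𝓘.comap f).comap (pullback.fst f j) = (𝓘.comap j).comap (pullback.snd f j) := by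
    rw [← Scheme.IdealSheafData.comap_comp, ← Scheme.IdealSheafData.comap_comp, hcond3]
  rw [hideal] at hB'U
  obtain ⟨I, hI⟩ := exists_idealSheaf_eq (𝓘.comap j)
  rw [hI] at hBU hB'U
  exact core I (pullback.snd b j) hBU (pullback.snd f j) b'U hB'U _ hb'U2.symm

/-- **The strict transform is a closed subscheme.** -/
theorem glob {X Y X' Y' : Scheme.{u}} (𝓘 : X.IdealSheafData) (f : Y ⟶ X)
    [IsClosedImmersion f] (b : X' ⟶ X) (hb : BlowUp.IsBlowUp b 𝓘) (b' : Y' ⟶ Y)
    (hb' : BlowUp.IsBlowUp b' (𝓘.comap f)) (f' : Y' ⟶ X') (hf' : f' ≫ b = b' ≫ f) :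
    IsClosedImmersion f' := by
  apply IsZariskiLocalAtTarget.of_openCover (P := @IsClosedImmersion)
    (X.affineOpenCover.openCover.pullback₁ b)
  intro i
  haveI hi : IsOpenImmersion (X.affineOpenCover.f i) := X.affineOpenCover.map_prop i
  exact @local_step X Y X' Y' 𝓘 f _ b hb b' hb' f' hf' (X.affineOpenCover.X i) _
    (X.affineOpenCover.f i) hi

section complement

variable {Z : Scheme.{u}}

theorem mem_basicOpen_iff_of_span {𝓔 : Z.IdealSheafData} (W : Z.Opens)
    (hW : (W : Set Z) = (𝓔.support : Set Z)ᶜ) (V : Z.affineOpens) (t : Γ(Z, V.1))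
    (hE : 𝓔.ideal V = Ideal.span {t}) (z : Z) : z ∈ Z.basicOpen t ↔ z ∈ W ∧ z ∈ V.1 := by
  have hWmem : ∀ z : Z, z ∈ W ↔ z ∉ 𝓔.support := by
    intro z
    have : z ∈ (W : Set Z) ↔ z ∈ (𝓔.support : Set Z)ᶜ := by rw [hW]
    exact this
  constructor
  · intro hz
    have hzV : z ∈ V.1 := Z.basicOpen_le t hz
    refine ⟨?_, hzV⟩
    rw [hWmem]
    intro hmem
    rw [Scheme.IdealSheafData.mem_support_iff_of_mem (U := V) hzV,
      Scheme.mem_zeroLocus_iff] at hmem
    exact hmem t (by rw [hE]; exact Ideal.mem_span_singleton_self t) hz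
  · rintro ⟨hzW, hzV⟩
    rw [hWmem, Scheme.IdealSheafData.mem_support_iff_of_mem (U := V) hzV,
      Scheme.mem_zeroLocus_iff] at hzW
    push Not at hzW
    obtain ⟨f, hf, hzf⟩ := hzW
    rw [hE] at hf
    obtain ⟨r, rfl⟩ := Ideal.mem_span_singleton'.1 hf
    rw [Scheme.basicOpen_mul] at hzf
    exact hzf.2

/-- the complement of an effective Cartier divisor is affine over the ambient scheme. -/
theorem isAffineHom_ι_compl {𝓔 : Z.IdealSheafData} (h𝓔 : BlowUp.IsEffCartierIdeal 𝓔)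
    (W : Z.Opens) (hW : (W : Set Z) = (𝓔.support : Set Z)ᶜ) : IsAffineHom W.ι := by
  apply isAffineHom_of_forall_exists_isAffineOpen
  intro x
  obtain ⟨V, hxV, t, -, hE⟩ := h𝓔 x
  refine ⟨V.1, hxV, V.2, ?_⟩
  have key := mem_basicOpen_iff_of_span W hW V t hE
  have heq : W.ι ⁻¹ᵁ V.1 = W.ι ⁻¹ᵁ (Z.basicOpen t) := by
    ext z
    change W.ι z ∈ V.1 ↔ W.ι z ∈ Z.basicOpen t
    rw [key]
    exact ⟨fun h => ⟨z.2, h⟩, fun h => h.2⟩
  rw [heq]
  refine (V.2.basicOpen t).preimage_of_isOpenImmersion W.ι ?_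
  rw [Scheme.Opens.opensRange_ι]
  exact fun z hz => ((key z).1 hz).1

/-- the complement of an effective Cartier divisor is scheme-theoretically dense. -/
theorem ker_ι_compl {𝓔 : Z.IdealSheafData} (h𝓔 : BlowUp.IsEffCartierIdeal 𝓔)
    (W : Z.Opens) (hW : (W : Set Z) = (𝓔.support : Set Z)ᶜ) : W.ι.ker = ⊥ := by
  haveI : IsAffineHom W.ι := isAffineHom_ι_compl h𝓔 W hW
  choose V hxV t ht hE using h𝓔
  refine Scheme.IdealSheafData.ext_of_iSup_eq_top V ?_ ?_
  · rw [eq_top_iff]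
    intro x _
    exact Opens.mem_iSup.2 ⟨x, hxV x⟩
  · intro x
    rw [Scheme.Hom.ker_apply]
    have key := mem_basicOpen_iff_of_span W hW (V x) (t x) (hE x)
    have hle : Z.basicOpen (t x) ≤ W.ι ''ᵁ W.ι ⁻¹ᵁ (V x).1 := by
      intro z hz
      obtain ⟨hzW, hzV⟩ := (key z).1 hz
      exact ⟨⟨z, hzW⟩, hzV, rfl⟩
    have hle2 : W.ι ''ᵁ W.ι ⁻¹ᵁ (V x).1 ≤ (V x).1 := Set.image_preimage_subset _ _
    have inst := (V x).2.isLocalization_basicOpen (t x)
    have hinj : Function.Injective (rs (Z.basicOpen_le (t x))) :=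
      IsLocalization.injective (M := Submonoid.powers (t x)) Γ(Z, Z.basicOpen (t x))
        (Submonoid.powers_le.2 (ht x))
    have hker : RingHom.ker (W.ι.app (V x).1).hom = ⊥ := by
      rw [← RingHom.injective_iff_ker_eq_bot]
      intro s s' hss'
      apply hinj
      have e1 : ∀ r : Γ(Z, (V x).1), (W.ι.app (V x).1).hom r = rs hle2 r := fun r => rfl
      rw [e1, e1] at hss'
      have := congrArg (rs hle) hss'
      rwa [rs_rs, rs_rs] at this
    rw [hker]
    rfl

end complement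

end Groth.Agent.Lib.Helper2.StrictTr
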