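import Mathlib
import Groth.Prelude.Def_BlowUp2
import Groth.Prelude.Def_W4c6modpairsegaMP
import Groth.Agent.Lib.Helper20EffCartier
import Groth.Agent.Lib.Helper2AffBlowUp
import Groth.Agent.Lib.Helper2StrictTr

/-!
# Modulus pairs: scheme-theoretic closure of the interior (helper2)

* `isAffineHom_ι_inf`, `isAffineHom_ι_preimage_interior`: the relevant opens have affine inclusions.
* `effCartier_comap_image`: an effective Cartier ideal pulls back to an effective Cartier ideal on the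
  scheme-theoretic closure of an open lying over the interior.
* `exists_lift_image`: a morphism from a modulus pair sending the interior into an open `O` factors through
  the scheme-theoretic closure of `O`.
* `isIso_restrict_image`: the closure of the interior is an isomorphism over the interior.
-/

set_option autoImplicit false
set_option linter.style.haveILetI false
universe u
open CategoryTheory Limits AlgebraicGeometry TopologicalSpace Opposite nonZeroDivisors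

namespace Groth.Agent.Lib.Helper2.ModPairLib

open Groth.Agent.Lib.Helper2.AffBlowUp Groth.Agent.Lib.Helper2.StrictTr
open Groth.Agent.Lib.Helper20.EffCartier

theorem isAffineHom_ι_inf {P : Scheme.{u}} (U V : P.Opens) [IsAffineHom U.ι] [IsAffineHom V.ι] :
    IsAffineHom (U ⊓ V).ι := by
  have sq := (isPullback_opens_inf U V).flip
  haveI : IsAffineHom (P.homOfLE (inf_le_left : U ⊓ V ≤ U)) :=
    MorphismProperty.of_isPullback (P := @IsAffineHom) sq inferInstance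
  rw [← Scheme.homOfLE_ι P (inf_le_left : U ⊓ V ≤ U)]
  infer_instance

theorem isAffineHom_ι_preimage_interior {P T : Scheme.{u}} (h : P ⟶ T) {IT : T.IdealSheafData}
    (hT : BlowUp.IsEffCartierIdeal IT) : IsAffineHom (h ⁻¹ᵁ ModPair.interior IT).ι := by
  haveI : IsAffineHom (ModPair.interior IT).ι := isAffineHom_ι_compl hT _ rfl
  exact MorphismProperty.of_isPullback (P := @IsAffineHom)
    (isPullback_morphismRestrict h (ModPair.interior IT)) inferInstance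

theorem isAffineHom_ι_prodInterior {X T S : Scheme.{u}} (f : X ⟶ S) (g : T ⟶ S)
    {IX : X.IdealSheafData} {IT : T.IdealSheafData} (hX : BlowUp.IsEffCartierIdeal IX)
    (hT : BlowUp.IsEffCartierIdeal IT) : IsAffineHom (ModPair.prodInterior f g IX IT).ι := by
  haveI := isAffineHom_ι_preimage_interior (pullback.fst f g) hX
  haveI := isAffineHom_ι_preimage_interior (pullback.snd f g) hT
  exact isAffineHom_ι_inf _ _

theorem isUnit_appLE_of_le_basicOpen {W T : Scheme.{u}} (g : W ⟶ T) {V : T.Opens} (t : Γ(T, V))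
    (W' : W.Opens) (e : W' ≤ g ⁻¹ᵁ V) (hW : W' ≤ g ⁻¹ᵁ (T.basicOpen t)) :
    IsUnit ((g.appLE V W' e).hom t) := by
  rw [Scheme.preimage_basicOpen] at hW
  have h1 : IsUnit (rs (W.basicOpen_le ((g.app V).hom t)) ((g.app V).hom t)) :=
    W.toRingedSpace.isUnit_res_basicOpen _
  have h2 : (g.appLE V W' e).hom t =
      rs hW (rs (W.basicOpen_le ((g.app V).hom t)) ((g.app V).hom t)) := by
    rw [rs_rs]
    rfl
  rw [h2]
  exact h1.map _

theorem not_mem_support_of_le {X Y : Scheme.{u}} {I : X.IdealSheafData} {J : Y.IdealSheafData}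
    (f : X ⟶ Y) (h : I ≤ J.comap f) (x : X) (hx : x ∉ I.support) : f x ∉ J.support := by
  intro hfx
  apply hx
  have h1 : x ∈ (J.comap f).support := by
    rw [Scheme.IdealSheafData.support_comap]
    exact hfx
  exact Scheme.IdealSheafData.support_antitone h h1

/-- an effective Cartier ideal pulls back to an effective Cartier ideal on the scheme-theoretic closure of
an open lying over its complement. -/
theorem effCartier_comap_image {P T : Scheme.{u}} (O : P.Opens) [QuasiCompact O.ι] (h : P ⟶ T)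
    {IT : T.IdealSheafData} (hT : BlowUp.IsEffCartierIdeal IT)
    (hO : ∀ z ∈ O, h z ∉ IT.support) :
    BlowUp.IsEffCartierIdeal (IT.comap (O.ι.imageι ≫ h)) := by
  intro y
  obtain ⟨V, hyV, t, ht, hE⟩ := hT ((O.ι.imageι ≫ h) y)
  obtain ⟨U, hU, hyU, hUV⟩ :=
    exists_isAffineOpen_mem_and_subset (x := O.ι.imageι y) (U := h ⁻¹ᵁ V.1) hyV
  have hU' : IsAffineOpen (O.ι.imageι ⁻¹ᵁ U) := hU.preimage O.ι.imageι
  have hle : O.ι.imageι ⁻¹ᵁ U ≤ (O.ι.imageι ≫ h) ⁻¹ᵁ V.1 := fun z hz => hUV hz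
  refine ⟨⟨O.ι.imageι ⁻¹ᵁ U, hU'⟩, hyU,
    ((O.ι.imageι ≫ h).appLE V.1 (O.ι.imageι ⁻¹ᵁ U) hle).hom t, ?_, ?_⟩
  · rw [mem_nonZeroDivisors_iff_right]
    intro z hz
    apply O.ι.toImage_app_injective ⟨U, hU⟩
    rw [map_zero]
    have h1 : (O.ι.toImage.app (O.ι.imageι ⁻¹ᵁ U)).hom z *
        (O.ι.toImage.app (O.ι.imageι ⁻¹ᵁ U)).hom
          (((O.ι.imageι ≫ h).appLE V.1 (O.ι.imageι ⁻¹ᵁ U) hle).hom t) = 0 := by
      rw [← map_mul, hz, map_zero]
    have hle2 : O.ι.toImage ⁻¹ᵁ (O.ι.imageι ⁻¹ᵁ U) ≤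
        (O.ι.toImage ≫ O.ι.imageι ≫ h) ⁻¹ᵁ V.1 := fun w hw => hle hw
    have h2 : (O.ι.toImage.app (O.ι.imageι ⁻¹ᵁ U)).hom
        (((O.ι.imageι ≫ h).appLE V.1 (O.ι.imageι ⁻¹ᵁ U) hle).hom t) =
        ((O.ι.toImage ≫ O.ι.imageι ≫ h).appLE V.1 (O.ι.toImage ⁻¹ᵁ (O.ι.imageι ⁻¹ᵁ U))
          hle2).hom t := by
      rw [Scheme.Hom.app_eq_appLE, ← Scheme.Hom.appLE_comp_appLE _ _ V.1 (O.ι.imageι ⁻¹ᵁ U)
        (O.ι.toImage ⁻¹ᵁ (O.ι.imageι ⁻¹ᵁ U)) hle le_rfl]
      rfl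
    have hunit : IsUnit (((O.ι.toImage ≫ O.ι.imageι ≫ h).appLE V.1
        (O.ι.toImage ⁻¹ᵁ (O.ι.imageι ⁻¹ᵁ U)) hle2).hom t) := by
      apply isUnit_appLE_of_le_basicOpen
      intro w hw
      have hw1 : (O.ι.toImage ≫ O.ι.imageι ≫ h) w = h (O.ι w) := by
        rw [Scheme.Hom.toImage_imageι_assoc]
        rfl
      change (O.ι.toImage ≫ O.ι.imageι ≫ h) w ∈ T.basicOpen t
      rw [hw1, mem_basicOpen_iff_of_span (ModPair.interior IT) rfl V t hE]
      refine ⟨hO _ w.2, ?_⟩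
      have := hle2 hw
      change (O.ι.toImage ≫ O.ι.imageι ≫ h) w ∈ V.1 at this
      rwa [hw1] at this
    rw [h2] at h1
    exact hunit.mul_left_eq_zero.1 h1
  · rw [ideal_comap_eq_map (O.ι.imageι ≫ h) IT hU' V.2 hle]
    change (IT.ideal V).map _ = _
    rw [hE, Ideal.map_span, Set.image_singleton]

/-- a morphism from a modulus pair sending the interior into an open `O` factors through the
scheme-theoretic closure of `O`. -/
theorem exists_lift_image {P W : Scheme.{u}} (O : P.Opens) {IW : W.IdealSheafData}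
    (hW : BlowUp.IsEffCartierIdeal IW) (c₀ : W ⟶ P) (hc : ∀ w : W, w ∉ IW.support → c₀ w ∈ O) :
    ∃ c : W ⟶ O.ι.image, c ≫ O.ι.imageι = c₀ := by
  have hker : (ModPair.interior IW).ι.ker = ⊥ := ker_ι_compl hW (ModPair.interior IW) rfl
  have hrange : Set.range ((ModPair.interior IW).ι ≫ c₀) ⊆ Set.range O.ι := by
    rintro _ ⟨w, rfl⟩
    rw [Scheme.Opens.range_ι]
    exact hc w.1 w.2
  have hk : IsOpenImmersion.lift O.ι ((ModPair.interior IW).ι ≫ c₀) hrange ≫ O.ι =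
      (ModPair.interior IW).ι ≫ c₀ := IsOpenImmersion.lift_fac _ _ _
  have H : O.ι.imageι.ker ≤ c₀.ker := by
    rw [Scheme.IdealSheafData.ker_subschemeι]
    calc O.ι.ker ≤ (IsOpenImmersion.lift O.ι ((ModPair.interior IW).ι ≫ c₀) hrange ≫ O.ι).ker :=
          Scheme.Hom.le_ker_comp _ O.ι
      _ = ((ModPair.interior IW).ι ≫ c₀).ker := by rw [hk]
      _ = c₀.ker := by rw [Scheme.Hom.ker_comp, hker, Scheme.IdealSheafData.map_bot]
  exact ⟨IsClosedImmersion.lift O.ι.imageι c₀ H, IsClosedImmersion.lift_fac _ _ _⟩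

/-- the closure of the interior is an isomorphism over the interior. -/
theorem isIso_restrict_image {X T S : Scheme.{u}} (s : X ⟶ S) (g : T ⟶ S) (S₀ : S.Opens)
    [IsIso (s ∣_ S₀)] (T₀ : T.Opens) (hT₀ : ∀ t ∈ T₀, g t ∈ S₀) (O : (pullback s g).Opens)
    (hO : ∀ z : ↥(pullback s g), z ∈ O ↔ (pullback.snd s g) z ∈ T₀) :
    IsIso ((O.ι.imageι ≫ pullback.snd s g) ∣_ T₀) := by
  obtain ⟨γ, hγ⟩ : ∃ γ : (T₀ : Scheme.{u}) ⟶ S₀, γ ≫ S₀.ι = T₀.ι ≫ g := by
    have hγr : Set.range (T₀.ι ≫ g) ⊆ Set.range S₀.ι := by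
      rintro _ ⟨t, rfl⟩
      rw [Scheme.Opens.range_ι]
      exact hT₀ _ t.2
    exact ⟨IsOpenImmersion.lift S₀.ι (T₀.ι ≫ g) hγr, IsOpenImmersion.lift_fac _ _ _⟩
  obtain ⟨β, hβdef, hβ⟩ : ∃ β : (T₀ : Scheme.{u}) ⟶ X,
      β = (γ ≫ inv (s ∣_ S₀)) ≫ (s ⁻¹ᵁ S₀).ι ∧ β ≫ s = T₀.ι ≫ g := by
    refine ⟨_, rfl, ?_⟩
    rw [Category.assoc, Category.assoc, ← morphismRestrict_ι, IsIso.inv_hom_id_assoc, hγ]
  obtain ⟨c₀, hc1, hc2⟩ : ∃ c₀ : (T₀ : Scheme.{u}) ⟶ pullback s g,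
      c₀ ≫ pullback.fst s g = β ∧ c₀ ≫ pullback.snd s g = T₀.ι :=
    ⟨pullback.lift β T₀.ι hβ, pullback.lift_fst _ _ _, pullback.lift_snd _ _ _⟩
  obtain ⟨k, hk⟩ : ∃ k : (T₀ : Scheme.{u}) ⟶ O, k ≫ O.ι = c₀ := by
    have hkr : Set.range c₀ ⊆ Set.range O.ι := by
      rintro _ ⟨t, rfl⟩
      rw [Scheme.Opens.range_ι]
      change c₀ t ∈ O
      rw [hO, ← Scheme.Hom.comp_apply, hc2]
      exact t.2
    exact ⟨IsOpenImmersion.lift O.ι c₀ hkr, IsOpenImmersion.lift_fac _ _ _⟩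
  have hσ₀ι : (k ≫ O.ι.toImage) ≫ O.ι.imageι = c₀ := by
    rw [Category.assoc, Scheme.Hom.toImage_imageι, hk]
  have hσ₀q : (k ≫ O.ι.toImage) ≫ O.ι.imageι ≫ pullback.snd s g = T₀.ι := by
    rw [← Category.assoc, hσ₀ι, hc2]
  obtain ⟨σ, hσ⟩ : ∃ σ : (T₀ : Scheme.{u}) ⟶ ((O.ι.imageι ≫ pullback.snd s g) ⁻¹ᵁ T₀),
      σ ≫ ((O.ι.imageι ≫ pullback.snd s g) ⁻¹ᵁ T₀).ι = k ≫ O.ι.toImage := by
    have hσr : Set.range (k ≫ O.ι.toImage) ⊆
        Set.range ((O.ι.imageι ≫ pullback.snd s g) ⁻¹ᵁ T₀).ι := by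
      rintro _ ⟨t, rfl⟩
      rw [Scheme.Opens.range_ι]
      change (O.ι.imageι ≫ pullback.snd s g) ((k ≫ O.ι.toImage) t) ∈ T₀
      rw [← Scheme.Hom.comp_apply, hσ₀q]
      exact t.2
    exact ⟨IsOpenImmersion.lift _ (k ≫ O.ι.toImage) hσr, IsOpenImmersion.lift_fac _ _ _⟩
  have hσι : σ ≫ ((O.ι.imageι ≫ pullback.snd s g) ⁻¹ᵁ T₀).ι ≫ O.ι.imageι = c₀ := by
    rw [← Category.assoc, hσ, hσ₀ι]
  refine ⟨σ, ?_, ?_⟩
  · -- (q ∣_ T₀) ≫ σ = 𝟙
    rw [← cancel_mono (((O.ι.imageι ≫ pullback.snd s g) ⁻¹ᵁ T₀).ι ≫ O.ι.imageι), Category.assoc,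
      hσι, Category.id_comp]
    apply pullback.hom_ext
    · rw [Category.assoc, hc1, hβdef]
      -- both sides factor through `s ⁻¹ᵁ S₀`
      obtain ⟨ρ', hρ⟩ : ∃ ρ' : (((O.ι.imageι ≫ pullback.snd s g) ⁻¹ᵁ T₀ : _) : Scheme.{u}) ⟶
          (s ⁻¹ᵁ S₀), ρ' ≫ (s ⁻¹ᵁ S₀).ι =
            (((O.ι.imageι ≫ pullback.snd s g) ⁻¹ᵁ T₀).ι ≫ O.ι.imageι) ≫ pullback.fst s g := by
        have hρr : Set.range ((((O.ι.imageι ≫ pullback.snd s g) ⁻¹ᵁ T₀).ι ≫ O.ι.imageι) ≫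
            pullback.fst s g) ⊆ Set.range (s ⁻¹ᵁ S₀).ι := by
          rintro _ ⟨y, rfl⟩
          rw [Scheme.Opens.range_ι]
          change s (((((O.ι.imageι ≫ pullback.snd s g) ⁻¹ᵁ T₀).ι ≫ O.ι.imageι) ≫
            pullback.fst s g) y) ∈ S₀
          rw [← Scheme.Hom.comp_apply, Category.assoc, Category.assoc, pullback.condition]
          exact hT₀ _ y.2
        exact ⟨IsOpenImmersion.lift _ _ hρr, IsOpenImmersion.lift_fac _ _ _⟩
      rw [← hρ, ← Category.assoc]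
      congr 1
      rw [← cancel_mono (s ∣_ S₀), ← cancel_mono S₀.ι]
      have e1 : (((O.ι.imageι ≫ pullback.snd s g) ∣_ T₀ ≫ γ ≫ inv (s ∣_ S₀)) ≫ s ∣_ S₀) ≫ S₀.ι =
          ((O.ι.imageι ≫ pullback.snd s g) ⁻¹ᵁ T₀).ι ≫ (O.ι.imageι ≫ pullback.snd s g) ≫ g := by
        simp only [Category.assoc, IsIso.inv_hom_id, Category.comp_id]
        rw [hγ, ← Category.assoc, morphismRestrict_ι]
        simp only [Category.assoc]
      have e2 : (ρ' ≫ s ∣_ S₀) ≫ S₀.ι =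
          ((O.ι.imageι ≫ pullback.snd s g) ⁻¹ᵁ T₀).ι ≫ (O.ι.imageι ≫ pullback.snd s g) ≫ g := by
        rw [Category.assoc, morphismRestrict_ι, ← Category.assoc, hρ]
        simp only [Category.assoc]
        rw [pullback.condition]
      rw [e1, e2]
    · rw [Category.assoc, hc2, morphismRestrict_ι, Category.assoc]
  · -- σ ≫ (q ∣_ T₀) = 𝟙
    rw [← cancel_mono T₀.ι, Category.assoc, morphismRestrict_ι, ← Category.assoc, hσ, hσ₀q,
      Category.id_comp]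

theorem comap_fst_le_comap_snd {X T S Y : Scheme.{u}} (IS : S.IdealSheafData)
    (IT : T.IdealSheafData) (IX : X.IdealSheafData) (p : X ⟶ S) (f : T ⟶ S)
    (hp : IX ≤ IS.comap p) (hf : IT = IS.comap f) (ι : Y ⟶ pullback p f) :
    IX.comap (ι ≫ pullback.fst p f) ≤ IT.comap (ι ≫ pullback.snd p f) := by
  subst hf
  have e : (ι ≫ pullback.snd p f) ≫ f = (ι ≫ pullback.fst p f) ≫ p := by
    simp only [Category.assoc, pullback.condition]
  rw [← Scheme.IdealSheafData.comap_comp IS (ι ≫ pullback.snd p f) f, e,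
    Scheme.IdealSheafData.comap_comp IS (ι ≫ pullback.fst p f) p]
  exact Scheme.IdealSheafData.comap_mono _ hp

theorem comap_snd_le_comap_fst {X T S Y : Scheme.{u}} (IS : S.IdealSheafData)
    (IT : T.IdealSheafData) (IX : X.IdealSheafData) (s : X ⟶ S) (g : T ⟶ S)
    (hs : IX = IS.comap s) (hg : IT ≤ IS.comap g) (ι : Y ⟶ pullback s g) :
    IT.comap (ι ≫ pullback.snd s g) ≤ IX.comap (ι ≫ pullback.fst s g) := by
  subst hs
  have e : (ι ≫ pullback.fst s g) ≫ s = (ι ≫ pullback.snd s g) ≫ g := by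
    simp only [Category.assoc, pullback.condition]
  rw [← Scheme.IdealSheafData.comap_comp IS (ι ≫ pullback.fst s g) s, e,
    Scheme.IdealSheafData.comap_comp IS (ι ≫ pullback.snd s g) g]
  exact Scheme.IdealSheafData.comap_mono _ hg

end Groth.Agent.Lib.Helper2.ModPairLib
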