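import Mathlib
import Groth.Prelude.Def_BlowUp2
import Groth.Prelude.Def_W4c6modpairsegaMP
import Groth.Agent.Lib.Helper2ModPair

/-!
# Admissible blow-ups of modulus pairs: multiplicativity and right cancellation (helper2)

Namespace `Groth.Agent.Lib.Helper2.AdmFrac`.
* `mem_support_comap`
* `ext_of_ker_eq_bot_of_isSeparated` : `f g : X ⟶ Y` over a separated `s : Y ⟶ Z`, agreeing on a
  scheme-theoretically dominant `ι : W ⟶ X` (`ι.ker = ⊥`) are equal.
* `isAdmBlowup_id`, `isAdmBlowup_comp`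
* `hom_ext_of_comp_admBlowup` : ambient morphisms equalized by an admissible blow-up are equal.
-/

set_option autoImplicit false
set_option linter.style.haveILetI false
universe u
open CategoryTheory CategoryTheory.Limits AlgebraicGeometry

namespace Groth.Agent.Lib.Helper2.AdmFrac

open Groth.Agent.Lib.Helper2.ModPairLib Groth.Agent.Lib.Helper2.StrictTr

theorem mem_support_comap {X Y : Scheme.{u}} (h : X ⟶ Y) (I : Y.IdealSheafData) (x : X) :
    x ∈ (I.comap h).support ↔ h x ∈ I.support := by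
  rw [Scheme.IdealSheafData.support_comap]
  rfl

theorem ext_of_ker_eq_bot_of_isSeparated {W X Y Z : Scheme.{u}} {f g : X ⟶ Y} (s : Y ⟶ Z)
    [IsSeparated s] (h : f ≫ s = g ≫ s) (ι : W ⟶ X) (hι : ι.ker = ⊥) (hU : ι ≫ f = ι ≫ g) :
    f = g := by
  let X' : Over Z := Over.mk (f ≫ s)
  let Y' : Over Z := Over.mk s
  let U' : Over Z := Over.mk (ι ≫ f ≫ s)
  let f' : X' ⟶ Y' := Over.homMk f rfl
  let g' : X' ⟶ Y' := Over.homMk g h.symm
  let ι' : U' ⟶ X' := Over.homMk ι rfl
  haveI : IsSeparated Y'.hom := ‹_›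
  have hw : ι' ≫ f' = ι' ≫ g' := by
    ext1
    exact hU
  have hfac : (equalizer.lift ι' hw).left ≫ (equalizer.ι f' g').left = ι := by
    rw [← Over.comp_left, equalizer.lift_ι]
    rfl
  have hker : (equalizer.ι f' g').left.ker = ⊥ := by
    rw [← le_bot_iff, ← hι, ← hfac]
    exact Scheme.Hom.le_ker_comp _ _
  haveI : IsIso (equalizer.ι f' g').left :=
    (IsClosedImmersion.isIso_iff_ker_eq_bot (f := (equalizer.ι f' g').left)).2 hker
  rw [← cancel_epi (equalizer.ι f' g').left]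
  exact congr($(equalizer.condition f' g').left)

theorem isIso_morphismRestrict_of_eq {X Y : Scheme.{u}} (f : X ⟶ Y) {U V : Y.Opens} (h : U = V)
    [IsIso (f ∣_ U)] : IsIso (f ∣_ V) := by
  subst h
  infer_instance

theorem isAdmBlowup_id {X : Scheme.{u}} (I : X.IdealSheafData) : ModPair.IsAdmBlowup I I (𝟙 X) :=
  ⟨(Scheme.IdealSheafData.comap_id I).symm, inferInstance, inferInstance⟩

theorem preimage_interior_eq {Y Z : Scheme.{u}} {J : Y.IdealSheafData} {K : Z.IdealSheafData}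
    (g : Y ⟶ Z) (h : J = K.comap g) : g ⁻¹ᵁ ModPair.interior K = ModPair.interior J := by
  ext y
  change g y ∉ K.support ↔ y ∉ J.support
  rw [h, mem_support_comap]

theorem isAdmBlowup_comp {X Y Z : Scheme.{u}} {I : X.IdealSheafData} {J : Y.IdealSheafData}
    {K : Z.IdealSheafData} {f : X ⟶ Y} {g : Y ⟶ Z} (hf : ModPair.IsAdmBlowup I J f)
    (hg : ModPair.IsAdmBlowup J K g) : ModPair.IsAdmBlowup I K (f ≫ g) := by
  obtain ⟨hf1, hf2, hf3⟩ := hf
  obtain ⟨hg1, hg2, hg3⟩ := hg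
  have hf1' : I = J.comap f := hf1
  have hg1' : J = K.comap g := hg1
  refine ⟨?_, inferInstance, ?_⟩
  · change I = K.comap (f ≫ g)
    rw [Scheme.IdealSheafData.comap_comp, ← hg1', ← hf1']
  · have h1 : IsIso (f ∣_ g ⁻¹ᵁ ModPair.interior K) :=
      isIso_morphismRestrict_of_eq f (preimage_interior_eq g hg1').symm
    have h2 : IsIso (g ∣_ ModPair.interior K) := hg3
    rw [morphismRestrict_comp]
    exact @IsIso.comp_isIso _ _ _ _ _ _ _ h1 h2

theorem hom_ext_of_comp_admBlowup {X Y Z : Scheme.{u}} {I : X.IdealSheafData}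
    {J : Y.IdealSheafData} {K : Z.IdealSheafData} (hI : BlowUp.IsEffCartierIdeal I)
    (f₁ f₂ : X ⟶ Y) (hf₁ : I ≤ J.comap f₁) (hf₂ : I ≤ J.comap f₂) (s : Y ⟶ Z)
    (hs : ModPair.IsAdmBlowup J K s) (h : f₁ ≫ s = f₂ ≫ s) : f₁ = f₂ := by
  obtain ⟨hmin, hprop, hiso⟩ := hs
  have hmin' : J = K.comap s := hmin
  have hker : (ModPair.interior I).ι.ker = ⊥ := ker_ι_compl hI (ModPair.interior I) rfl
  refine ext_of_ker_eq_bot_of_isSeparated s h (ModPair.interior I).ι hker ?_
  have hr : ∀ (f : X ⟶ Y), I ≤ J.comap f →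
      Set.range ((ModPair.interior I).ι ≫ f) ⊆ Set.range (s ⁻¹ᵁ ModPair.interior K).ι := by
    intro f hf
    rintro _ ⟨x, rfl⟩
    rw [Scheme.Opens.range_ι]
    have h1 : f x.1 ∉ J.support := not_mem_support_of_le f hf x.1 x.2
    rw [hmin', mem_support_comap] at h1
    exact h1
  have key : ∀ (f : X ⟶ Y) (hf : I ≤ J.comap f), (ModPair.interior I).ι ≫ f =
      IsOpenImmersion.lift (s ⁻¹ᵁ ModPair.interior K).ι ((ModPair.interior I).ι ≫ f) (hr f hf) ≫
        (s ⁻¹ᵁ ModPair.interior K).ι := fun f hf => (IsOpenImmersion.lift_fac _ _ _).symm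
  have e : IsOpenImmersion.lift (s ⁻¹ᵁ ModPair.interior K).ι ((ModPair.interior I).ι ≫ f₁)
      (hr f₁ hf₁) = IsOpenImmersion.lift (s ⁻¹ᵁ ModPair.interior K).ι
        ((ModPair.interior I).ι ≫ f₂) (hr f₂ hf₂) := by
    rw [← cancel_mono (s ∣_ ModPair.interior K), ← cancel_mono (ModPair.interior K).ι]
    simp only [Category.assoc, morphismRestrict_ι]
    rw [IsOpenImmersion.lift_fac_assoc, IsOpenImmersion.lift_fac_assoc, Category.assoc,
      Category.assoc, h]
  rw [key f₁ hf₁, key f₂ hf₂, e]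

end Groth.Agent.Lib.Helper2.AdmFrac
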