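import Mathlib
import Groth.Prelude.Def_BlowUp2
import Groth.Agent.Lib.Helper20EffCartier
import Groth.Agent.Lib.Helper2AffBlowUp
import Groth.Agent.Lib.Helper2BlowLocal

/-!
# Effective Cartier ideals, pointwise (helper2)

* `ECAt 𝓔 x`: `𝓔` is generated by one nonzerodivisor on some affine open neighbourhood of `x`.
* `ECAt.shrink`, `ECAt.comap_congr`, `ECAt.of_ideal_eq_top`, `ECAt.comap_of_not_mem_support`,
  `ECAt.of_comap_ι`.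
* `ecAt_of_le`: a locally principal ideal containing an effective Cartier ideal is effective Cartier.
* `isIso_fst_restrict`: the base change of a blowing up is an isomorphism away from the centre.
* `isEffCartierIdeal_comap_fst`, `exists_iso_pullback_blowUps`: blowing up in `I₁ ⊓ I₂` for disjoint centres.
-/

set_option autoImplicit false
set_option linter.style.haveILetI false
universe u
open CategoryTheory Limits AlgebraicGeometry TopologicalSpace Opposite nonZeroDivisors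

namespace Groth.Agent.Lib.Helper2.ECLocal

open Groth.Agent.Lib.Helper2.AffBlowUp Groth.Agent.Lib.Helper2.BlowLocal
open Groth.Agent.Lib.Helper20.EffCartier

/-- `𝓔` is generated by one nonzerodivisor on some affine open neighbourhood of `x`. -/
def ECAt {X : Scheme.{u}} (𝓔 : X.IdealSheafData) (x : X) : Prop :=
  ∃ U : X.affineOpens, x ∈ U.1 ∧
    ∃ f : Γ(X, U.1), f ∈ nonZeroDivisors Γ(X, U.1) ∧ 𝓔.ideal U = Ideal.span {f}

theorem isEffCartierIdeal_iff {X : Scheme.{u}} {𝓔 : X.IdealSheafData} :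
    BlowUp.IsEffCartierIdeal 𝓔 ↔ ∀ x, ECAt 𝓔 x := Iff.rfl

theorem isEffCartierIdeal_top {X : Scheme.{u}} :
    BlowUp.IsEffCartierIdeal (⊤ : X.IdealSheafData) := by
  intro x
  obtain ⟨U, hU, hxU, -⟩ :=
    exists_isAffineOpen_mem_and_subset (x := x) (U := (⊤ : X.Opens)) trivial
  refine ⟨⟨U, hU⟩, hxU, 1, one_mem _, ?_⟩
  rw [Ideal.span_singleton_one]
  rfl

theorem comap_eq_top {X Y : Scheme.{u}} (𝓘 : X.IdealSheafData) (g : Y ⟶ X)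
    (hg : ∀ y, g y ∉ 𝓘.support) : 𝓘.comap g = ⊤ := by
  rw [← Scheme.IdealSheafData.support_eq_bot_iff]
  ext y
  simp only [Scheme.IdealSheafData.support_comap, TopologicalSpace.Closeds.coe_preimage,
    Set.mem_preimage, SetLike.mem_coe, TopologicalSpace.Closeds.coe_bot,
    Set.mem_empty_iff_false, iff_false]
  exact hg y

theorem ECAt.shrink {X : Scheme.{u}} {𝓔 : X.IdealSheafData} {x : X} (h : ECAt 𝓔 x)
    (W : X.Opens) (hxW : x ∈ W) :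
    ∃ (U : X.Opens) (hU : IsAffineOpen U), x ∈ U ∧ U ≤ W ∧
      ∃ f : Γ(X, U), f ∈ Γ(X, U)⁰ ∧ 𝓔.ideal ⟨U, hU⟩ = Ideal.span {f} := by
  obtain ⟨U', hxU', a, ha, hIa⟩ := h
  obtain ⟨r, hrW, hxr⟩ := U'.2.exists_basicOpen_le ⟨x, hxW⟩ hxU'
  refine ⟨X.basicOpen r, U'.2.basicOpen r, hxr, hrW,
    (X.presheaf.map (homOfLE (X.basicOpen_le r)).op).hom a, ?_, ?_⟩
  · have inst := U'.2.isLocalization_basicOpen r
    have h1 : (X.presheaf.map (homOfLE (X.basicOpen_le r)).op).hom = algebraMap _ _ := rfl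
    rw [h1]
    exact IsLocalization.map_nonZeroDivisors_le (.powers r) _ (Submonoid.mem_map_of_mem _ ha)
  · have h2 := 𝓔.map_ideal_basicOpen U' r
    rw [hIa, Ideal.map_span, Set.image_singleton] at h2
    exact h2.symm

theorem ECAt.comap_congr {X Y : Scheme.{u}} (g : Y ⟶ X) {𝓐 𝓑 : X.IdealSheafData} {y : Y}
    (V : X.affineOpens) (hyV : g y ∈ V.1) (hV : 𝓐.ideal V = 𝓑.ideal V)
    (h : ECAt (𝓐.comap g) y) : ECAt (𝓑.comap g) y := by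
  obtain ⟨U, hU, hyU, hUV, f, hf, hE⟩ := h.shrink (g ⁻¹ᵁ V.1) hyV
  refine ⟨⟨U, hU⟩, hyU, f, hf, ?_⟩
  rw [← hE, ideal_comap_eq_map g 𝓑 hU V.2 hUV, ideal_comap_eq_map g 𝓐 hU V.2 hUV]
  change (𝓑.ideal V).map _ = (𝓐.ideal V).map _
  rw [hV]

theorem ECAt.of_ideal_eq_top {X Y : Scheme.{u}} (g : Y ⟶ X) {𝓑 : X.IdealSheafData} {y : Y}
    (V : X.affineOpens) (hyV : g y ∈ V.1) (hV : 𝓑.ideal V = ⊤) : ECAt (𝓑.comap g) y := by
  obtain ⟨U, hU, hyU, hUV⟩ :=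
    exists_isAffineOpen_mem_and_subset (x := y) (U := g ⁻¹ᵁ V.1) hyV
  refine ⟨⟨U, hU⟩, hyU, 1, one_mem _, ?_⟩
  rw [ideal_comap_eq_map g 𝓑 hU V.2 hUV]
  change (𝓑.ideal V).map _ = _
  rw [hV, Ideal.map_top, Ideal.span_singleton_one]

theorem ideal_eq_top_of_disjoint {X : Scheme.{u}} (𝓑 : X.IdealSheafData) (V : X.affineOpens)
    (h : Disjoint (V.1 : Set X) (𝓑.support : Set X)) : 𝓑.ideal V = ⊤ := by
  have h1 := 𝓑.coe_support_inter V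
  have h2 : X.zeroLocus (U := V.1) (𝓑.ideal V : Set Γ(X, V.1)) ∩ V.1 = ∅ := by
    rw [← h1]
    exact Set.disjoint_iff_inter_eq_empty.1 h.symm
  rw [← V.2.fromSpec_image_zeroLocus, Set.image_eq_empty] at h2
  exact PrimeSpectrum.zeroLocus_empty_iff_eq_top.1 h2

theorem exists_affine_disjoint {X : Scheme.{u}} (𝓑 : X.IdealSheafData) (x : X)
    (hx : x ∉ 𝓑.support) :
    ∃ V : X.affineOpens, x ∈ V.1 ∧ Disjoint (V.1 : Set X) (𝓑.support : Set X) := by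
  obtain ⟨V, hV, hxV, hsub⟩ :=
    exists_isAffineOpen_mem_and_subset (x := x) (U := 𝓑.support.compl) hx
  exact ⟨⟨V, hV⟩, hxV, Set.disjoint_left.2 (fun z hz hzs => hsub hz hzs)⟩

theorem ECAt.comap_of_not_mem_support {X Y : Scheme.{u}} (g : Y ⟶ X) (𝓑 : X.IdealSheafData)
    (y : Y) (hy : g y ∉ 𝓑.support) : ECAt (𝓑.comap g) y := by
  obtain ⟨V, hyV, hV⟩ := exists_affine_disjoint 𝓑 (g y) hy
  exact ECAt.of_ideal_eq_top g V hyV (ideal_eq_top_of_disjoint 𝓑 V hV)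

theorem ECAt.comap_inf_iff {X Y : Scheme.{u}} (g : Y ⟶ X) (𝓐 𝓑 : X.IdealSheafData) (y : Y)
    (hy : g y ∉ 𝓑.support) : ECAt ((𝓐 ⊓ 𝓑).comap g) y ↔ ECAt (𝓐.comap g) y := by
  obtain ⟨V, hyV, hV⟩ := exists_affine_disjoint 𝓑 (g y) hy
  have h1 : (𝓐 ⊓ 𝓑).ideal V = 𝓐.ideal V := by
    rw [Scheme.IdealSheafData.ideal_inf]
    change 𝓐.ideal V ⊓ 𝓑.ideal V = _
    rw [ideal_eq_top_of_disjoint 𝓑 V hV, inf_top_eq]
  exact ⟨ECAt.comap_congr g V hyV h1, ECAt.comap_congr g V hyV h1.symm⟩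

/-- pointwise effective Cartier can be checked on an open subscheme. -/
theorem ECAt.of_comap_ι {P : Scheme.{u}} (𝓔 : P.IdealSheafData) (W : P.Opens) (p : W)
    (h : ECAt (𝓔.comap W.ι) p) : ECAt 𝓔 p.1 := by
  obtain ⟨U', hpU', c, hc, hE⟩ := h
  have hU : IsAffineOpen (W.ι ''ᵁ U'.1) := U'.2.image_of_isOpenImmersion W.ι
  rw [Scheme.IdealSheafData.ideal_comap_of_isOpenImmersion] at hE
  refine ⟨⟨W.ι ''ᵁ U'.1, hU⟩, ⟨p, hpU', rfl⟩, (W.ι.appIso U'.1).inv.hom c,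
    nzd_of_ringEquiv (W.ι.appIso U'.1).symm.commRingCatIsoToRingEquiv c hc, ?_⟩
  have h1 := congrArg (Ideal.map (W.ι.appIso U'.1).inv.hom) hE
  have hsurj : Function.Surjective (W.ι.appIso U'.1).inv.hom :=
    (W.ι.appIso U'.1).symm.commRingCatIsoToRingEquiv.surjective
  rw [Ideal.map_comap_of_surjective (W.ι.appIso U'.1).inv.hom hsurj, Ideal.map_span,
    Set.image_singleton] at h1
  exact h1

/-- a locally principal ideal containing an effective Cartier ideal is effective Cartier. -/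
theorem ecAt_of_le {X Y : Scheme.{u}} (g : Y ⟶ X) {𝓢 : X.IdealSheafData}
    (h𝓢 : BlowUp.IsEffCartierIdeal 𝓢) {𝓚 : Y.IdealSheafData} (hle : 𝓚 ≤ 𝓢.comap g) (y : Y)
    (h : ECAt 𝓚 y) : ECAt (𝓢.comap g) y := by
  obtain ⟨V, hyV, s, -, hs⟩ := h𝓢 (g y)
  obtain ⟨U, hU, hyU, hUV, x', hx', hE⟩ := h.shrink (g ⁻¹ᵁ V.1) hyV
  have key := ideal_comap_eq_map g 𝓢 hU V.2 hUV
  have hs' : 𝓢.ideal ⟨V.1, V.2⟩ = Ideal.span {s} := hs
  rw [hs', Ideal.map_span, Set.image_singleton] at key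
  refine ⟨⟨U, hU⟩, hyU, _, ?_, key⟩
  have hmem : x' ∈ (𝓢.comap g).ideal ⟨U, hU⟩ :=
    hle ⟨U, hU⟩ (hE ▸ Ideal.mem_span_singleton_self x')
  rw [key] at hmem
  obtain ⟨r, hr⟩ := Ideal.mem_span_singleton'.1 hmem
  rw [mem_nonZeroDivisors_iff_right]
  intro z hz
  apply mem_nonZeroDivisors_iff_right.1 hx'
  rw [← hr]
  calc z * (r * (g.appLE V.1 U hUV).hom s) = r * (z * (g.appLE V.1 U hUV).hom s) := by ring
    _ = 0 := by rw [hz, mul_zero]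

/-- the base change of a blowing up is an isomorphism away from the centre. -/
theorem isIso_fst_restrict {X B₁ B₂ P : Scheme.{u}} {σ₁ : B₁ ⟶ X} {σ₂ : B₂ ⟶ X}
    {I₂ : X.IdealSheafData} (hσ₂ : BlowUp.IsBlowUp σ₂ I₂) {fst : P ⟶ B₁} {snd : P ⟶ B₂}
    (sq : IsPullback fst snd σ₁ σ₂) (O : B₁.Opens) (hO : ∀ z ∈ O, σ₁ z ∉ I₂.support) :
    IsIso (fst ∣_ O) := by
  have hE1 : BlowUp.IsEffCartierIdeal (I₂.comap (O.ι ≫ σ₁)) := by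
    rw [comap_eq_top I₂ (O.ι ≫ σ₁) (fun y => hO _ y.2)]
    exact isEffCartierIdeal_top
  obtain ⟨s, hs, -⟩ := hσ₂.2 _ (O.ι ≫ σ₁) hE1
  have hs' : s ≫ σ₂ = O.ι ≫ σ₁ := hs
  have ht1 : sq.lift O.ι s hs'.symm ≫ fst = O.ι := sq.lift_fst _ _ _
  have ht2 : sq.lift O.ι s hs'.symm ≫ snd = s := sq.lift_snd _ _ _
  have hrange : Set.range (sq.lift O.ι s hs'.symm) ⊆ Set.range (fst ⁻¹ᵁ O).ι := by
    rintro _ ⟨w, rfl⟩
    rw [Scheme.Opens.range_ι]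
    change fst (sq.lift O.ι s hs'.symm w) ∈ O
    rw [← Scheme.Hom.comp_apply, ht1]
    exact w.2
  have ht' : IsOpenImmersion.lift (fst ⁻¹ᵁ O).ι (sq.lift O.ι s hs'.symm) hrange ≫
      (fst ⁻¹ᵁ O).ι = sq.lift O.ι s hs'.symm := IsOpenImmersion.lift_fac _ _ _
  have h1 : IsOpenImmersion.lift (fst ⁻¹ᵁ O).ι (sq.lift O.ι s hs'.symm) hrange ≫
      (fst ∣_ O) = 𝟙 _ := by
    rw [← cancel_mono O.ι, Category.assoc, morphismRestrict_ι, ← Category.assoc, ht', ht1,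
      Category.id_comp]
  have h2 : (fst ∣_ O) ≫
      IsOpenImmersion.lift (fst ⁻¹ᵁ O).ι (sq.lift O.ι s hs'.symm) hrange = 𝟙 _ := by
    rw [← cancel_mono (fst ⁻¹ᵁ O).ι, Category.assoc, ht', Category.id_comp]
    apply sq.hom_ext
    · rw [Category.assoc, ht1, morphismRestrict_ι]
    · rw [Category.assoc, ht2]
      have hE2 : BlowUp.IsEffCartierIdeal (I₂.comap ((fst ⁻¹ᵁ O).ι ≫ fst ≫ σ₁)) := by
        rw [comap_eq_top I₂ ((fst ⁻¹ᵁ O).ι ≫ fst ≫ σ₁) (fun y => hO _ y.2)]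
        exact isEffCartierIdeal_top
      obtain ⟨l, -, hl⟩ := hσ₂.2 _ ((fst ⁻¹ᵁ O).ι ≫ fst ≫ σ₁) hE2
      rw [hl ((fst ∣_ O) ≫ s) ?_, hl ((fst ⁻¹ᵁ O).ι ≫ snd) ?_]
      · show ((fst ⁻¹ᵁ O).ι ≫ snd) ≫ σ₂ = _
        rw [Category.assoc, ← sq.w]
      · show ((fst ∣_ O) ≫ s) ≫ σ₂ = _
        rw [Category.assoc, hs', ← Category.assoc, morphismRestrict_ι, Category.assoc]
  exact ⟨_, h2, h1⟩

theorem isEffCartierIdeal_comap_fst {X B₁ B₂ P : Scheme.{u}} {σ₁ : B₁ ⟶ X} {σ₂ : B₂ ⟶ X}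
    {I₁ I₂ : X.IdealSheafData} (hdisj : ∀ x : X, x ∉ I₁.support ∨ x ∉ I₂.support)
    (hσ₁ : BlowUp.IsEffCartierIdeal (I₁.comap σ₁)) (hσ₂ : BlowUp.IsBlowUp σ₂ I₂)
    {fst : P ⟶ B₁} {snd : P ⟶ B₂} (sq : IsPullback fst snd σ₁ σ₂) :
    BlowUp.IsEffCartierIdeal (I₁.comap (fst ≫ σ₁)) := by
  intro p
  rcases hdisj ((fst ≫ σ₁) p) with h | h
  · exact ECAt.comap_of_not_mem_support (fst ≫ σ₁) I₁ p h
  · -- near `p`, `fst` is an isomorphism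
    let O : B₁.Opens := σ₁ ⁻¹ᵁ I₂.support.compl
    have hO : ∀ z ∈ O, σ₁ z ∉ I₂.support := fun z hz => hz
    haveI : IsIso (fst ∣_ O) := isIso_fst_restrict hσ₂ sq O hO
    have hpW : p ∈ fst ⁻¹ᵁ O := h
    have hglob : BlowUp.IsEffCartierIdeal ((I₁.comap (fst ≫ σ₁)).comap (fst ⁻¹ᵁ O).ι) := by
      rw [Scheme.IdealSheafData.comap_comp, ← Scheme.IdealSheafData.comap_comp _ (fst ⁻¹ᵁ O).ι fst,
        ← morphismRestrict_ι, Scheme.IdealSheafData.comap_comp]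
      exact effCartier_comap_of_isOpenImmersion (fst ∣_ O)
        (effCartier_comap_of_isOpenImmersion O.ι hσ₁)
    exact ECAt.of_comap_ι _ (fst ⁻¹ᵁ O) ⟨p, hpW⟩ (hglob ⟨p, hpW⟩)

/-- blowing up in `I₁ ⊓ I₂` for disjoint centres: `B ≅ B₁ ×_X B₂`. -/
theorem exists_iso_pullback_blowUps {X B B₁ B₂ : Scheme.{u}} (I₁ I₂ : X.IdealSheafData)
    (hdisj : I₁ ⊔ I₂ = ⊤) (σ : B ⟶ X) (hσ : BlowUp.IsBlowUp σ (I₁ ⊓ I₂))
    (σ₁ : B₁ ⟶ X) (hσ₁ : BlowUp.IsBlowUp σ₁ I₁) (σ₂ : B₂ ⟶ X) (hσ₂ : BlowUp.IsBlowUp σ₂ I₂) :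
    ∃ ι : B ⟶ pullback σ₁ σ₂, IsIso ι ∧ ι ≫ pullback.fst σ₁ σ₂ ≫ σ₁ = σ := by
  have hd : ∀ x : X, x ∉ I₁.support ∨ x ∉ I₂.support := by
    intro x
    by_contra hcon
    push Not at hcon
    have h1 : x ∈ (I₁ ⊔ I₂).support := by
      rw [Scheme.IdealSheafData.support_sup]
      exact ⟨hcon.1, hcon.2⟩
    rw [hdisj, Scheme.IdealSheafData.support_top] at h1
    exact h1
  have hd' : ∀ x : X, x ∉ I₂.support ∨ x ∉ I₁.support := fun x => (hd x).symm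
  -- Step A
  have hA : ∀ {Y : Scheme.{u}} (g : Y ⟶ X), BlowUp.IsEffCartierIdeal ((I₁ ⊓ I₂).comap g) →
      BlowUp.IsEffCartierIdeal (I₁.comap g) ∧ BlowUp.IsEffCartierIdeal (I₂.comap g) := by
    intro Y g hg
    refine ⟨fun y => ?_, fun y => ?_⟩
    · rcases hd (g y) with h | h
      · exact ECAt.comap_of_not_mem_support g I₁ y h
      · exact (ECAt.comap_inf_iff g I₁ I₂ y h).1 (hg y)
    · rcases hd (g y) with h | h
      · have := hg y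
        rw [inf_comm] at this
        exact (ECAt.comap_inf_iff g I₂ I₁ y h).1 this
      · exact ECAt.comap_of_not_mem_support g I₂ y h
  have hB : ∀ {Y : Scheme.{u}} (g : Y ⟶ X), BlowUp.IsEffCartierIdeal (I₁.comap g) →
      BlowUp.IsEffCartierIdeal (I₂.comap g) → BlowUp.IsEffCartierIdeal ((I₁ ⊓ I₂).comap g) := by
    intro Y g hg1 hg2 y
    rcases hd (g y) with h | h
    · have : ECAt ((I₂ ⊓ I₁).comap g) y := (ECAt.comap_inf_iff g I₂ I₁ y h).2 (hg2 y)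
      rwa [inf_comm] at this
    · exact (ECAt.comap_inf_iff g I₁ I₂ y h).2 (hg1 y)
  obtain ⟨hσ1, hσ2⟩ := hA σ hσ.1
  obtain ⟨τ₁, hτ₁, -⟩ := hσ₁.2 B σ hσ1
  obtain ⟨τ₂, hτ₂, -⟩ := hσ₂.2 B σ hσ2
  have hτ₁' : τ₁ ≫ σ₁ = σ := hτ₁
  have hτ₂' : τ₂ ≫ σ₂ = σ := hτ₂
  have sq : IsPullback (pullback.fst σ₁ σ₂) (pullback.snd σ₁ σ₂) σ₁ σ₂ :=
    IsPullback.of_hasPullback σ₁ σ₂
  have hP1 : BlowUp.IsEffCartierIdeal (I₁.comap (pullback.fst σ₁ σ₂ ≫ σ₁)) :=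
    isEffCartierIdeal_comap_fst hd hσ₁.1 hσ₂ sq
  have hP2 : BlowUp.IsEffCartierIdeal (I₂.comap (pullback.fst σ₁ σ₂ ≫ σ₁)) := by
    rw [sq.w]
    exact isEffCartierIdeal_comap_fst hd' hσ₂.1 hσ₁ sq.flip
  have hP : BlowUp.IsEffCartierIdeal ((I₁ ⊓ I₂).comap (pullback.fst σ₁ σ₂ ≫ σ₁)) :=
    hB _ hP1 hP2
  obtain ⟨ρ, hρ, -⟩ := hσ.2 _ _ hP
  have hρ' : ρ ≫ σ = pullback.fst σ₁ σ₂ ≫ σ₁ := hρ
  have hι1 : pullback.lift τ₁ τ₂ (hτ₁'.trans hτ₂'.symm) ≫ pullback.fst σ₁ σ₂ = τ₁ :=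
    pullback.lift_fst _ _ _
  have hι2 : pullback.lift τ₁ τ₂ (hτ₁'.trans hτ₂'.symm) ≫ pullback.snd σ₁ σ₂ = τ₂ :=
    pullback.lift_snd _ _ _
  refine ⟨pullback.lift τ₁ τ₂ (hτ₁'.trans hτ₂'.symm), ⟨ρ, ?_, ?_⟩, ?_⟩
  · -- ι ≫ ρ = 𝟙
    obtain ⟨l, -, hl⟩ := hσ.2 B σ hσ.1
    rw [hl (pullback.lift τ₁ τ₂ (hτ₁'.trans hτ₂'.symm) ≫ ρ) ?_, hl (𝟙 B) (Category.id_comp _)]
    show (pullback.lift τ₁ τ₂ (hτ₁'.trans hτ₂'.symm) ≫ ρ) ≫ σ = σ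
    rw [Category.assoc, hρ', ← Category.assoc, hι1, hτ₁']
  · -- ρ ≫ ι = 𝟙
    apply pullback.hom_ext
    · rw [Category.assoc, hι1, Category.id_comp]
      obtain ⟨l, -, hl⟩ := hσ₁.2 _ (pullback.fst σ₁ σ₂ ≫ σ₁) hP1
      rw [hl (ρ ≫ τ₁) ?_, hl (pullback.fst σ₁ σ₂) rfl]
      show (ρ ≫ τ₁) ≫ σ₁ = _
      rw [Category.assoc, hτ₁', hρ']
    · rw [Category.assoc, hι2, Category.id_comp]
      have hP2' : BlowUp.IsEffCartierIdeal (I₂.comap (pullback.snd σ₁ σ₂ ≫ σ₂)) := by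
        rw [← sq.w]
        exact hP2
      obtain ⟨l, -, hl⟩ := hσ₂.2 _ (pullback.snd σ₁ σ₂ ≫ σ₂) hP2'
      rw [hl (ρ ≫ τ₂) ?_, hl (pullback.snd σ₁ σ₂) rfl]
      show (ρ ≫ τ₂) ≫ σ₂ = _
      rw [Category.assoc, hτ₂', hρ', sq.w]
  · rw [← Category.assoc, hι1, hτ₁']

end Groth.Agent.Lib.Helper2.ECLocal
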