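import Mathlib
import Groth.Prelude.Def_BlowUp2
import Groth.Prelude.Def_W4c6modpairsegaMP
import Groth.Agent.Lib.Helper2ECLocal
import Groth.Agent.Lib.Helper2ModPair

/-!
# Closures of a clopen decomposition of the complement of an effective Cartier divisor (helper2)

Namespace `Groth.Agent.Lib.Helper2.CoprodClosure`.
* `ECAt.of_comap_openImmersion`, `isEffCartierIdeal_coprod`
* `quasiCompact_ι_of_sup_disjoint`
* `range_imageι_subset_closure`
* `mem_range_homOfLE`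
* `isIso_coprodDesc_restrict` : for `U = U₀ ⊔ U₁` disjoint (quasi-compact inclusions), the map
  `closure U₀ ⨿ closure U₁ ⟶ X` is an isomorphism over `U`.
-/

set_option autoImplicit false
set_option linter.style.haveILetI false
universe u
open CategoryTheory CategoryTheory.Limits AlgebraicGeometry TopologicalSpace

namespace Groth.Agent.Lib.Helper2.CoprodClosure

open Groth.Agent.Lib.Helper2.AffBlowUp Groth.Agent.Lib.Helper2.ECLocal

theorem ECAt.of_comap_openImmersion {Z P : Scheme.{u}} (j : Z ⟶ P) [IsOpenImmersion j]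
    (𝓔 : P.IdealSheafData) (z : Z) (h : ECAt (𝓔.comap j) z) : ECAt 𝓔 (j z) := by
  obtain ⟨U', hpU', c, hc, hE⟩ := h
  have hU : IsAffineOpen (j ''ᵁ U'.1) := U'.2.image_of_isOpenImmersion j
  rw [Scheme.IdealSheafData.ideal_comap_of_isOpenImmersion] at hE
  refine ⟨⟨j ''ᵁ U'.1, hU⟩, ⟨z, hpU', rfl⟩, (j.appIso U'.1).inv.hom c,
    nzd_of_ringEquiv (j.appIso U'.1).symm.commRingCatIsoToRingEquiv c hc, ?_⟩
  have h1 := congrArg (Ideal.map (j.appIso U'.1).inv.hom) hE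
  have hsurj : Function.Surjective (j.appIso U'.1).inv.hom :=
    (j.appIso U'.1).symm.commRingCatIsoToRingEquiv.surjective
  rw [Ideal.map_comap_of_surjective (j.appIso U'.1).inv.hom hsurj, Ideal.map_span,
    Set.image_singleton] at h1
  exact h1

theorem isEffCartierIdeal_coprod {A B : Scheme.{u}} (𝓔 : (A ⨿ B).IdealSheafData)
    (hA : BlowUp.IsEffCartierIdeal (𝓔.comap coprod.inl))
    (hB : BlowUp.IsEffCartierIdeal (𝓔.comap coprod.inr)) : BlowUp.IsEffCartierIdeal 𝓔 := by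
  intro z
  have h1 := (isCompl_range_inl_inr A B).sup_eq_top
  have hz : z ∈ Set.range (coprod.inl : A ⟶ A ⨿ B) ∪ Set.range (coprod.inr : B ⟶ A ⨿ B) := by
    have : z ∈ (⊤ : Set ↥(A ⨿ B)) := Set.mem_univ z
    rw [← h1] at this
    exact this
  rcases hz with ⟨a, rfl⟩ | ⟨b, rfl⟩
  · exact ECAt.of_comap_openImmersion coprod.inl 𝓔 a (hA a)
  · exact ECAt.of_comap_openImmersion coprod.inr 𝓔 b (hB b)

theorem quasiCompact_ι_of_sup_disjoint {X : Scheme.{u}} (U U₀ U₁ : X.Opens) [QuasiCompact U.ι]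
    (hU : U₀ ⊔ U₁ = U) (hd : Disjoint U₀ U₁) : QuasiCompact U₀.ι := by
  have hdis : ∀ x, x ∈ U₀ → x ∈ U₁ → False := by
    intro x h0 h1
    have := hd.le_bot (show x ∈ U₀ ⊓ U₁ from ⟨h0, h1⟩)
    simp at this
  rw [quasiCompact_iff_forall_isAffineOpen]
  intro W hW
  have h1 : IsCompact (U.ι ⁻¹ᵁ W : Set U) :=
    (quasiCompact_iff_forall_isAffineOpen (f := U.ι)).1 inferInstance W hW
  have h2 : IsCompact ((W : Set X) ∩ U) := by
    have h := h1.image U.ι.continuous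
    rw [Scheme.Hom.coe_preimage, Set.image_preimage_eq_inter_range, Scheme.Opens.range_ι] at h
    exact h
  have h3 : IsCompact ((W : Set X) ∩ U₀) := by
    have e : (W : Set X) ∩ U₀ = ((W : Set X) ∩ U) ∩ (U₁ : Set X)ᶜ := by
      ext x
      constructor
      · rintro ⟨hxW, hx0⟩
        refine ⟨⟨hxW, ?_⟩, fun hx1 => hdis x hx0 hx1⟩
        rw [← hU]
        exact Or.inl hx0
      · rintro ⟨⟨hxW, hxU⟩, hx1⟩
        rw [← hU] at hxU
        rcases hxU with h | h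
        · exact ⟨hxW, h⟩
        · exact (hx1 h).elim
    rw [e]
    exact h2.inter_right U₁.isOpen.isClosed_compl
  rw [U₀.ι.isEmbedding.isCompact_iff, Scheme.Hom.coe_preimage, Set.image_preimage_eq_inter_range,
    Scheme.Opens.range_ι]
  exact h3

theorem range_imageι_subset_closure {X : Scheme.{u}} (O : X.Opens) [QuasiCompact O.ι] :
    Set.range O.ι.imageι ⊆ closure (O : Set X) := by
  have h1 : Set.range O.ι.imageι = O.ι.ker.support :=
    Scheme.IdealSheafData.range_subschemeι O.ι.ker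
  rw [h1, Scheme.Hom.support_ker, Scheme.Opens.range_ι]

theorem mem_range_homOfLE {X : Scheme.{u}} {U₀ U : X.Opens} (h : U₀ ≤ U) (w : U) :
    w ∈ Set.range (X.homOfLE h) ↔ w.1 ∈ U₀ := by
  constructor
  · rintro ⟨u, rfl⟩
    have h1 : U.ι ((X.homOfLE h) u) = U₀.ι u := by
      rw [← Scheme.Hom.comp_apply, Scheme.homOfLE_ι]
    have h2 : ((X.homOfLE h) u).1 = u.1 := h1
    rw [h2]
    exact u.2
  · intro hw
    refine ⟨⟨w.1, hw⟩, ?_⟩
    apply U.ι.isOpenEmbedding.injective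
    rw [← Scheme.Hom.comp_apply, Scheme.homOfLE_ι]
    rfl

theorem isIso_coprodDesc_restrict {X : Scheme.{u}} (U U₀ U₁ : X.Opens) [QuasiCompact U₀.ι]
    [QuasiCompact U₁.ι] (hU : U₀ ⊔ U₁ = U) (hd : Disjoint U₀ U₁) :
    IsIso ((coprod.desc U₀.ι.imageι U₁.ι.imageι) ∣_ U) := by
  have hdis : ∀ x, x ∈ U₀ → x ∈ U₁ → False := by
    intro x h0 h1
    have := hd.le_bot (show x ∈ U₀ ⊓ U₁ from ⟨h0, h1⟩)
    simp at this
  have h₀ : U₀ ≤ U := hU ▸ le_sup_left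
  have h₁ : U₁ ≤ U := hU ▸ le_sup_right
  have hcl₀ : ∀ a : U₀.ι.image, U₀.ι.imageι a ∈ U → U₀.ι.imageι a ∈ U₀ := by
    intro a ha
    rw [← hU] at ha
    rcases ha with h | h
    · exact h
    · exfalso
      have h2 : U₀.ι.imageι a ∈ closure (U₀ : Set X) := range_imageι_subset_closure U₀ ⟨a, rfl⟩
      obtain ⟨x, hx1, hx0⟩ := mem_closure_iff.1 h2 U₁ U₁.isOpen h
      exact hdis x hx0 hx1
  have hcl₁ : ∀ a : U₁.ι.image, U₁.ι.imageι a ∈ U → U₁.ι.imageι a ∈ U₁ := by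
    intro a ha
    rw [← hU] at ha
    rcases ha with h | h
    · exfalso
      have h2 : U₁.ι.imageι a ∈ closure (U₁ : Set X) := range_imageι_subset_closure U₁ ⟨a, rfl⟩
      obtain ⟨x, hx0, hx1⟩ := mem_closure_iff.1 h2 U₀ U₀.isOpen h
      exact hdis x hx0 hx1
    · exact h
  set p := coprod.desc U₀.ι.imageι U₁.ι.imageι with hp
  have hj₀ : (U₀.ι.toImage ≫ coprod.inl) ≫ p = U₀.ι := by
    rw [Category.assoc, hp, coprod.inl_desc, Scheme.Hom.toImage_imageι]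
  have hj₁ : (U₁.ι.toImage ≫ coprod.inr) ≫ p = U₁.ι := by
    rw [Category.assoc, hp, coprod.inr_desc, Scheme.Hom.toImage_imageι]
  have hr₀ : Set.range (U₀.ι.toImage ≫
      (coprod.inl : U₀.ι.image ⟶ U₀.ι.image ⨿ U₁.ι.image)) ⊆ Set.range (p ⁻¹ᵁ U).ι := by
    rintro _ ⟨u, rfl⟩
    rw [Scheme.Opens.range_ι]
    change p ((U₀.ι.toImage ≫ coprod.inl) u) ∈ U
    rw [← Scheme.Hom.comp_apply, hj₀]
    exact h₀ u.2
  have hr₁ : Set.range (U₁.ι.toImage ≫
      (coprod.inr : U₁.ι.image ⟶ U₀.ι.image ⨿ U₁.ι.image)) ⊆ Set.range (p ⁻¹ᵁ U).ι := by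
    rintro _ ⟨u, rfl⟩
    rw [Scheme.Opens.range_ι]
    change p ((U₁.ι.toImage ≫ coprod.inr) u) ∈ U
    rw [← Scheme.Hom.comp_apply, hj₁]
    exact h₁ u.2
  obtain ⟨r₀, hr₀ι⟩ : ∃ r₀ : (U₀ : Scheme.{u}) ⟶ (p ⁻¹ᵁ U),
      r₀ ≫ (p ⁻¹ᵁ U).ι = U₀.ι.toImage ≫ coprod.inl :=
    ⟨IsOpenImmersion.lift (p ⁻¹ᵁ U).ι _ hr₀, IsOpenImmersion.lift_fac _ _ _⟩
  obtain ⟨r₁, hr₁ι⟩ : ∃ r₁ : (U₁ : Scheme.{u}) ⟶ (p ⁻¹ᵁ U),
      r₁ ≫ (p ⁻¹ᵁ U).ι = U₁.ι.toImage ≫ coprod.inr :=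
    ⟨IsOpenImmersion.lift (p ⁻¹ᵁ U).ι _ hr₁, IsOpenImmersion.lift_fac _ _ _⟩
  haveI : IsOpenImmersion r₀ := by
    haveI : IsOpenImmersion (r₀ ≫ (p ⁻¹ᵁ U).ι) := by
      rw [hr₀ι]
      infer_instance
    exact IsOpenImmersion.of_comp r₀ (p ⁻¹ᵁ U).ι
  haveI : IsOpenImmersion r₁ := by
    haveI : IsOpenImmersion (r₁ ≫ (p ⁻¹ᵁ U).ι) := by
      rw [hr₁ι]
      infer_instance
    exact IsOpenImmersion.of_comp r₁ (p ⁻¹ᵁ U).ι
  have hq₀ : r₀ ≫ (p ∣_ U) = X.homOfLE h₀ := by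
    rw [← cancel_mono U.ι, Category.assoc, morphismRestrict_ι, ← Category.assoc, hr₀ι, hj₀,
      Scheme.homOfLE_ι]
  have hq₁ : r₁ ≫ (p ∣_ U) = X.homOfLE h₁ := by
    rw [← cancel_mono U.ι, Category.assoc, morphismRestrict_ι, ← Category.assoc, hr₁ι, hj₁,
      Scheme.homOfLE_ι]
  have hQ : IsCompl r₀.opensRange r₁.opensRange := by
    rw [isCompl_iff, disjoint_iff, codisjoint_iff, eq_bot_iff, eq_top_iff]
    constructor
    · rintro z ⟨⟨u, hu⟩, ⟨v, hv⟩⟩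
      exfalso
      have e0 : (p ⁻¹ᵁ U).ι z = (coprod.inl : U₀.ι.image ⟶ U₀.ι.image ⨿ U₁.ι.image)
          (U₀.ι.toImage u) := by
        rw [← hu, ← Scheme.Hom.comp_apply, hr₀ι]
        rfl
      have e1 : (p ⁻¹ᵁ U).ι z = (coprod.inr : U₁.ι.image ⟶ U₀.ι.image ⨿ U₁.ι.image)
          (U₁.ι.toImage v) := by
        rw [← hv, ← Scheme.Hom.comp_apply, hr₁ι]
        rfl
      exact Set.disjoint_left.1 (isCompl_range_inl_inr U₀.ι.image U₁.ι.image).disjoint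
        ⟨U₀.ι.toImage u, rfl⟩ ⟨U₁.ι.toImage v, e1.symm.trans e0⟩
    · intro z _
      change z ∈ Set.range r₀ ∪ Set.range r₁
      have hzU : p z.1 ∈ U := z.2
      have h1 := (isCompl_range_inl_inr U₀.ι.image U₁.ι.image).sup_eq_top
      have hz : z.1 ∈ Set.range (coprod.inl : U₀.ι.image ⟶ U₀.ι.image ⨿ U₁.ι.image) ∪
          Set.range (coprod.inr : U₁.ι.image ⟶ U₀.ι.image ⨿ U₁.ι.image) := by
        have : z.1 ∈ (⊤ : Set ↥(U₀.ι.image ⨿ U₁.ι.image)) := Set.mem_univ _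
        rw [← h1] at this
        exact this
      rcases hz with ⟨a, ha⟩ | ⟨b, hb⟩
      · left
        have h2 : p z.1 = U₀.ι.imageι a := by
          rw [← ha, ← Scheme.Hom.comp_apply, hp, coprod.inl_desc]
        rw [h2] at hzU
        have h3 := hcl₀ a hzU
        have h4 : U₀.ι.imageι (U₀.ι.toImage ⟨U₀.ι.imageι a, h3⟩) = U₀.ι.imageι a := by
          rw [← Scheme.Hom.comp_apply, Scheme.Hom.toImage_imageι]
          rfl
        have h5 : U₀.ι.toImage ⟨U₀.ι.imageι a, h3⟩ = a :=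
          U₀.ι.imageι.isEmbedding.injective h4
        refine ⟨⟨U₀.ι.imageι a, h3⟩, ?_⟩
        apply (p ⁻¹ᵁ U).ι.isOpenEmbedding.injective
        rw [← Scheme.Hom.comp_apply, hr₀ι, Scheme.Hom.comp_apply, h5]
        exact ha
      · right
        have h2 : p z.1 = U₁.ι.imageι b := by
          rw [← hb, ← Scheme.Hom.comp_apply, hp, coprod.inr_desc]
        rw [h2] at hzU
        have h3 := hcl₁ b hzU
        have h4 : U₁.ι.imageι (U₁.ι.toImage ⟨U₁.ι.imageι b, h3⟩) = U₁.ι.imageι b := by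
          rw [← Scheme.Hom.comp_apply, Scheme.Hom.toImage_imageι]
          rfl
        have h5 : U₁.ι.toImage ⟨U₁.ι.imageι b, h3⟩ = b :=
          U₁.ι.imageι.isEmbedding.injective h4
        refine ⟨⟨U₁.ι.imageι b, h3⟩, ?_⟩
        apply (p ⁻¹ᵁ U).ι.isOpenEmbedding.injective
        rw [← Scheme.Hom.comp_apply, hr₁ι, Scheme.Hom.comp_apply, h5]
        exact hb
  have hUc : IsCompl (X.homOfLE h₀).opensRange (X.homOfLE h₁).opensRange := by
    rw [isCompl_iff, disjoint_iff, codisjoint_iff, eq_bot_iff, eq_top_iff]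
    constructor
    · rintro w ⟨hw0, hw1⟩
      exfalso
      exact hdis w.1 ((mem_range_homOfLE h₀ w).1 hw0) ((mem_range_homOfLE h₁ w).1 hw1)
    · intro w _
      change w ∈ Set.range (X.homOfLE h₀) ∪ Set.range (X.homOfLE h₁)
      have hw : w.1 ∈ U₀ ⊔ U₁ := by
        rw [hU]
        exact w.2
      rcases hw with h | h
      · exact Or.inl ((mem_range_homOfLE h₀ w).2 h)
      · exact Or.inr ((mem_range_homOfLE h₁ w).2 h)
  obtain ⟨cU⟩ := nonempty_isColimit_binaryCofanMk_of_isCompl (X.homOfLE h₀) (X.homOfLE h₁) hUc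
  obtain ⟨cQ⟩ := nonempty_isColimit_binaryCofanMk_of_isCompl r₀ r₁ hQ
  have he₀ : X.homOfLE h₀ ≫ (cU.coconePointUniqueUpToIso cQ).hom = r₀ :=
    cU.comp_coconePointUniqueUpToIso_hom cQ ⟨WalkingPair.left⟩
  have he₁ : X.homOfLE h₁ ≫ (cU.coconePointUniqueUpToIso cQ).hom = r₁ :=
    cU.comp_coconePointUniqueUpToIso_hom cQ ⟨WalkingPair.right⟩
  have hid : (cU.coconePointUniqueUpToIso cQ).hom ≫ (p ∣_ U) = 𝟙 _ := by
    apply BinaryCofan.IsColimit.hom_ext cU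
    · change X.homOfLE h₀ ≫ (cU.coconePointUniqueUpToIso cQ).hom ≫ (p ∣_ U) =
        X.homOfLE h₀ ≫ 𝟙 _
      rw [← Category.assoc, he₀]
      exact hq₀.trans (Category.comp_id _).symm
    · change X.homOfLE h₁ ≫ (cU.coconePointUniqueUpToIso cQ).hom ≫ (p ∣_ U) =
        X.homOfLE h₁ ≫ 𝟙 _
      rw [← Category.assoc, he₁]
      exact hq₁.trans (Category.comp_id _).symm
  haveI : IsIso ((cU.coconePointUniqueUpToIso cQ).hom ≫ (p ∣_ U)) := by
    rw [hid]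
    exact IsIso.id _
  exact IsIso.of_isIso_comp_left (cU.coconePointUniqueUpToIso cQ).hom (p ∣_ U)

end Groth.Agent.Lib.Helper2.CoprodClosure
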