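import Mathlib
import Groth.Prelude.Def_BlowUp2
import Groth.Prelude.Def_CurvBase
import Groth.Agent.Lib.Helper2BlowChart
import Groth.Agent.Lib.Helper2BlowLocal
import Groth.Agent.Lib.Helper2ECLocal

/-!
# A chart criterion for a blowing up of an affine scheme (helper2)

Namespace `Groth.Agent.Lib.Helper2.BlowCrit`.
`isBlowUp_of_charts`: `π : P ⟶ Spec A` is a blowing up in `I` as soon as `P` is covered by opens `V a`
(`a ∈ I`), `V a ≅ Spec A[I/a]` over `Spec A`, and every open of `P` which is `Good` for `a` lies in `V a`.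
-/

set_option autoImplicit false
set_option linter.style.haveILetI false
universe u
open CategoryTheory Limits AlgebraicGeometry TopologicalSpace Opposite nonZeroDivisors

namespace Groth.Agent.Lib.Helper2.BlowCrit

open Groth.Agent.Lib.Helper2.AffBlowUp Groth.Agent.Lib.Helper2.BlowChart
open Groth.Agent.Lib.Helper2.BlowLocal Groth.Agent.Lib.Helper2.ECLocal

variable {A : Type u} [CommRing A] {Y : Scheme.{u}}

theorem Good.of_le {I : Ideal A} {a : A} {g : Y ⟶ Spec (CommRingCat.of A)} {W W' : Y.Opens}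
    (hW : Good I a g W) (hW' : IsAffineOpen W') (hle : W' ≤ W) : Good I a g W' := by
  obtain ⟨hWa, hnz, hdvd⟩ := hW
  have hrs : ∀ x : A, rs (le_top : W' ≤ ⊤) (gHom g x) = rs hle (rs (le_top : W ≤ ⊤) (gHom g x)) :=
    fun x => (rs_rs _ _ _).symm
  refine ⟨hW', ?_, ?_⟩
  · rw [hrs]
    exact nzd_rs hWa hle _ hnz
  · intro x hx
    rw [hrs, hrs]
    exact map_dvd (rs hle) (hdvd x hx)

theorem LocP.comp_openImmersion {Z : Scheme.{u}} (j : Z ⟶ Y) [IsOpenImmersion j] {I : Ideal A}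
    {a : A} {g : Y ⟶ Spec (CommRingCat.of A)}
    (h : ∀ z : Z, ∃ W : Y.Opens, Good I a g W ∧ j z ∈ W) : LocP I a (j ≫ g) := by
  intro z
  obtain ⟨W, hW, hzW⟩ := h z
  obtain ⟨W', hW', hzW', hW'le⟩ :=
    exists_isAffineOpen_mem_and_subset (x := j z) (U := W ⊓ j.opensRange) ⟨hzW, ⟨z, rfl⟩⟩
  have hW'W : W' ≤ W := fun x hx => (hW'le hx).1
  have hW'j : W' ≤ j.opensRange := fun x hx => (hW'le hx).2
  exact ⟨j ⁻¹ᵁ W', (Good.of_le hW hW' hW'W).preimage j hW'j, hzW'⟩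

theorem LocP.comp_openImmersion' {Z : Scheme.{u}} (j : Z ⟶ Y) [IsOpenImmersion j] {I : Ideal A}
    {a : A} {g : Y ⟶ Spec (CommRingCat.of A)} (h : LocP I a g) : LocP I a (j ≫ g) :=
  LocP.comp_openImmersion j (fun z => h (j z))

/-- the union of the opens which are good for `a` -/
noncomputable def goodOpen (I : Ideal A) (a : A) (g : Y ⟶ Spec (CommRingCat.of A)) : Y.Opens :=
  sSup {W | Good I a g W}

theorem mem_goodOpen {I : Ideal A} {a : A} {g : Y ⟶ Spec (CommRingCat.of A)} (z : Y) :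
    z ∈ goodOpen I a g ↔ ∃ W, Good I a g W ∧ z ∈ W := by
  unfold goodOpen
  rw [Opens.mem_sSup]
  constructor
  · rintro ⟨W, hW, hz⟩
    exact ⟨W, hW, hz⟩
  · rintro ⟨W, hW, hz⟩
    exact ⟨W, hW, hz⟩

theorem locP_goodOpen (I : Ideal A) (a : A) (g : Y ⟶ Spec (CommRingCat.of A)) :
    LocP I a ((goodOpen I a g).ι ≫ g) :=
  LocP.comp_openImmersion _ (fun z => (mem_goodOpen _).1 z.2)

section crit

variable {P : Scheme.{u}} (π : P ⟶ Spec (CommRingCat.of A)) (I : Ideal A)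

/-- uniqueness of lifts of a morphism which is in the `a`-chart -/
theorem lift_unique (hEC : BlowUp.IsEffCartierIdeal ((Curv2.idealSheaf A I).comap π)) (a : A)
    (ha : a ∈ I) (V : P.Opens)
    (e : (V : Scheme.{u}) ≅ Spec (CommRingCat.of ↥(BlowUp.affineAlgebra A I a)))
    (he : e.hom ≫ Spec.map (CommRingCat.ofHom (algebraMap A ↥(BlowUp.affineAlgebra A I a))) =
      V.ι ≫ π)
    (h3 : ∀ W, Good I a π W → W ≤ V) {Z : Scheme.{u}} (k : Z ⟶ Spec (CommRingCat.of A))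
    (hk : LocP I a k) (h₁ h₂ : Z ⟶ P) (e₁ : h₁ ≫ π = k) (e₂ : h₂ ≫ π = k) : h₁ = h₂ := by
  have hr : ∀ h : Z ⟶ P, h ≫ π = k → Set.range h ⊆ Set.range V.ι := by
    intro h hh
    rintro _ ⟨z, rfl⟩
    obtain ⟨W, hW, hzW⟩ := exists_good_of_locP ha h π hEC (by rw [hh]; exact hk) z
    rw [Scheme.Opens.range_ι]
    exact h3 W hW hzW
  have key : ∀ (h : Z ⟶ P) (hh : h ≫ π = k),
      (IsOpenImmersion.lift V.ι h (hr h hh) ≫ e.hom) ≫
        Spec.map (CommRingCat.ofHom (algebraMap A ↥(BlowUp.affineAlgebra A I a))) = k := by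
    intro h hh
    rw [Category.assoc, he, ← Category.assoc, IsOpenImmersion.lift_fac, hh]
  obtain ⟨l, -, hlu⟩ := hk.existsUnique_lift
  have e12 : IsOpenImmersion.lift V.ι h₁ (hr h₁ e₁) ≫ e.hom =
      IsOpenImmersion.lift V.ι h₂ (hr h₂ e₂) ≫ e.hom :=
    (hlu _ (key h₁ e₁)).trans (hlu _ (key h₂ e₂)).symm
  have e12' : IsOpenImmersion.lift V.ι h₁ (hr h₁ e₁) = IsOpenImmersion.lift V.ι h₂ (hr h₂ e₂) := by
    rw [← cancel_mono e.hom]
    exact e12
  rw [← IsOpenImmersion.lift_fac V.ι h₁ (hr h₁ e₁), ← IsOpenImmersion.lift_fac V.ι h₂ (hr h₂ e₂),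
    e12']

theorem lift_exists (a : A) (V : P.Opens)
    (e : (V : Scheme.{u}) ≅ Spec (CommRingCat.of ↥(BlowUp.affineAlgebra A I a)))
    (he : e.hom ≫ Spec.map (CommRingCat.ofHom (algebraMap A ↥(BlowUp.affineAlgebra A I a))) =
      V.ι ≫ π) {Z : Scheme.{u}} (k : Z ⟶ Spec (CommRingCat.of A)) (hk : LocP I a k) :
    ∃ h : Z ⟶ P, h ≫ π = k := by
  obtain ⟨l, hl, -⟩ := hk.existsUnique_lift
  refine ⟨l ≫ e.inv ≫ V.ι, ?_⟩
  rw [Category.assoc, Category.assoc, ← he, Iso.inv_hom_id_assoc]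
  exact hl

theorem isBlowUp_of_charts (V : A → P.Opens) (hcov : ∀ z : P, ∃ a ∈ I, z ∈ V a)
    (hiso : ∀ a ∈ I, ∃ e : (V a : Scheme.{u}) ≅
      Spec (CommRingCat.of ↥(BlowUp.affineAlgebra A I a)),
      e.hom ≫ Spec.map (CommRingCat.ofHom (algebraMap A ↥(BlowUp.affineAlgebra A I a))) =
        (V a).ι ≫ π)
    (hgood : ∀ a ∈ I, ∀ W, Good I a π W → W ≤ V a) :
    BlowUp.IsBlowUp π (Curv2.idealSheaf A I) := by
  have hEC : BlowUp.IsEffCartierIdeal ((Curv2.idealSheaf A I).comap π) := by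
    intro z
    obtain ⟨a, ha, hz⟩ := hcov z
    obtain ⟨e, he⟩ := hiso a ha
    have h1 : LocP I a ((V a).ι ≫ π) := by
      rw [← he]
      exact LocP.comp_openImmersion' e.hom (locP_chart I a)
    have h2 := h1.effCartier ha
    rw [Scheme.IdealSheafData.comap_comp] at h2
    exact ECAt.of_comap_ι _ (V a) ⟨z, hz⟩ (h2 ⟨z, hz⟩)
  refine ⟨hEC, ?_⟩
  intro Y g hg
  -- the cover of `Y` by the good loci
  have hcovY : IsOpenCover (fun a : {a // a ∈ I} => goodOpen I a.1 g) := by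
    apply IsOpenCover.mk
    rw [eq_top_iff]
    intro y _
    obtain ⟨a, ha, W, hW, hyW⟩ := exists_good_nhd hg y
    exact Opens.mem_iSup.2 ⟨⟨a, ha⟩, (mem_goodOpen y).2 ⟨W, hW, hyW⟩⟩
  set 𝒰 : Y.OpenCover := Y.openCoverOfIsOpenCover _ hcovY with h𝒰
  have hLoc : ∀ a : {a // a ∈ I}, LocP I a.1 (𝒰.f a ≫ g) := fun a => locP_goodOpen I a.1 g
  have hex : ∀ a : {a // a ∈ I}, ∃ h : 𝒰.X a ⟶ P, h ≫ π = 𝒰.f a ≫ g := by
    intro a
    obtain ⟨e, he⟩ := hiso a.1 a.2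
    exact lift_exists π I a.1 (V a.1) e he _ (hLoc a)
  choose h hh using hex
  have huniq : ∀ (a : {a // a ∈ I}) {Z : Scheme.{u}} (k : Z ⟶ Spec (CommRingCat.of A)),
      LocP I a.1 k → ∀ h₁ h₂ : Z ⟶ P, h₁ ≫ π = k → h₂ ≫ π = k → h₁ = h₂ := by
    intro a Z k hk h₁ h₂ e₁ e₂
    obtain ⟨e, he⟩ := hiso a.1 a.2
    exact lift_unique π I hEC a.1 a.2 (V a.1) e he (hgood a.1 a.2) k hk h₁ h₂ e₁ e₂
  have hcompat : ∀ a b : {a // a ∈ I},
      pullback.fst (𝒰.f a) (𝒰.f b) ≫ h a = pullback.snd (𝒰.f a) (𝒰.f b) ≫ h b := by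
    intro a b
    refine huniq a (pullback.fst (𝒰.f a) (𝒰.f b) ≫ 𝒰.f a ≫ g)
      (LocP.comp_openImmersion' _ (hLoc a)) _ _ ?_ ?_
    · rw [Category.assoc, hh]
    · rw [Category.assoc, hh, ← Category.assoc, ← pullback.condition, Category.assoc]
  refine ⟨𝒰.glueMorphisms h hcompat, ?_, ?_⟩
  · apply 𝒰.hom_ext
    intro a
    rw [← Category.assoc, Scheme.Cover.ι_glueMorphisms, hh]
  · intro h' hh'
    apply 𝒰.hom_ext
    intro a
    rw [Scheme.Cover.ι_glueMorphisms]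
    refine huniq a (𝒰.f a ≫ g) (hLoc a) _ _ ?_ (hh a)
    rw [Category.assoc]
    exact congrArg (fun t => 𝒰.f a ≫ t) hh'

end crit

end Groth.Agent.Lib.Helper2.BlowCrit
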