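import Mathlib
import Groth.Prelude.Def_BlowUp2
import Groth.Prelude.Def_Rees
import Groth.Agent.Lib.Helper2BlowChart

/-!
# Charts of `Proj` of the Rees algebra: `R(I)_(aX) ≃ A[I/a]` (helper2)

Namespace `Groth.Agent.Lib.Helper2.ReesChart`.
* `aX I a ha : reesAlgebra I` the degree one element `a·X`.
* `evalHom I a : reesAlgebra I →+* A_a`, `X ↦ 1/a`.
* `awayHom I a ha : Away (Rees.deg (reesAlgebra I)) (aX) →+* A_a`, its image is `A[I/a]`, it is injective.
* `awayEquiv I a ha : Away (Rees.deg (reesAlgebra I)) (aX) ≃+* A[I/a]` and `awayEquiv_comp`.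
* `fracElem I b a ha : A[I/b]` the element `a/b`; `awayEquiv_isLocalizationElem`.
* `irrelevant_le_span`.
-/

set_option autoImplicit false
set_option linter.style.haveILetI false
universe u
open Polynomial HomogeneousLocalization

namespace Groth.Agent.Lib.Helper2.ReesChart

open Groth.Agent.Lib.Helper2.BlowChart

variable {A : Type u} [CommRing A] (I : Ideal A)

/-- the degree one element `a·X` of the Rees algebra -/
noncomputable def aX (a : A) (ha : a ∈ I) : reesAlgebra I :=
  ⟨monomial 1 a, reesAlgebra.monomial_mem.mpr (by rwa [pow_one])⟩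

theorem coe_aX (a : A) (ha : a ∈ I) : ((aX I a ha : reesAlgebra I) : A[X]) = monomial 1 a := rfl

theorem aX_mem_deg (a : A) (ha : a ∈ I) : aX I a ha ∈ Rees.deg (reesAlgebra I) 1 := by
  rw [Rees.mem_deg_iff]
  intro m hm
  rw [coe_aX, coeff_monomial]
  exact if_neg (Ne.symm hm)

theorem val_eq_monomial {n : ℕ} {x : reesAlgebra I} (hx : x ∈ Rees.deg (reesAlgebra I) n) :
    (x : A[X]) = monomial n ((x : A[X]).coeff n) := by
  ext m
  rw [coeff_monomial]
  split_ifs with h
  · subst h
    rfl
  · exact hx m (Ne.symm h)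

theorem coeff_mem_pow (x : reesAlgebra I) (n : ℕ) : (x : A[X]).coeff n ∈ I ^ n := x.2 n

/-- evaluation at `X = 1/a` -/
noncomputable def evalHom (a : A) : reesAlgebra I →+* Localization.Away a :=
  (eval₂RingHom (algebraMap A (Localization.Away a)) (IsLocalization.Away.invSelf a)).comp
    (reesAlgebra I).val.toRingHom

theorem evalHom_apply (a : A) (x : reesAlgebra I) :
    evalHom I a x = eval₂ (algebraMap A (Localization.Away a)) (IsLocalization.Away.invSelf a)
      (x : A[X]) := rfl

theorem evalHom_of_mem_deg (a : A) {n : ℕ} {x : reesAlgebra I}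
    (hx : x ∈ Rees.deg (reesAlgebra I) n) :
    evalHom I a x = algebraMap A (Localization.Away a) ((x : A[X]).coeff n) *
      IsLocalization.Away.invSelf a ^ n := by
  rw [evalHom_apply]
  conv_lhs => rw [val_eq_monomial I hx]
  rw [eval₂_monomial]

theorem evalHom_aX (a : A) (ha : a ∈ I) : evalHom I a (aX I a ha) = 1 := by
  rw [evalHom_apply, coe_aX, eval₂_monomial, pow_one, IsLocalization.Away.mul_invSelf]

theorem evalHom_aX' (a b : A) (hb : b ∈ I) :
    evalHom I a (aX I b hb) = algebraMap A (Localization.Away a) b *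
      IsLocalization.Away.invSelf a := by
  rw [evalHom_apply, coe_aX, eval₂_monomial, pow_one]

theorem evalHom_algebraMap (a : A) (r : A) :
    evalHom I a (algebraMap A (reesAlgebra I) r) = algebraMap A (Localization.Away a) r := by
  rw [evalHom_apply]
  have h : ((algebraMap A (reesAlgebra I) r : reesAlgebra I) : A[X]) = C r := rfl
  rw [h, eval₂_C]

theorem mk'_eq_mul_invSelf (a x : A) :
    IsLocalization.mk' (Localization.Away a) x
      (⟨a, Submonoid.mem_powers a⟩ : Submonoid.powers a) =
      algebraMap A (Localization.Away a) x * IsLocalization.Away.invSelf a :=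
  IsLocalization.mk'_eq_mul_mk'_one x _

theorem pow_mem_affineAlgebra (a : A) : ∀ (n : ℕ) (c : A), c ∈ I ^ n →
    algebraMap A (Localization.Away a) c * IsLocalization.Away.invSelf a ^ n ∈
      BlowUp.affineAlgebra A I a := by
  intro n
  induction n with
  | zero =>
    intro c _
    rw [pow_zero, mul_one]
    exact Subalgebra.algebraMap_mem _ c
  | succ n ih =>
    intro c hc
    rw [pow_succ] at hc
    refine Submodule.mul_induction_on hc ?_ ?_
    · intro m hm x hx
      have h1 : algebraMap A (Localization.Away a) (m * x) *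
          IsLocalization.Away.invSelf a ^ (n + 1) =
          (algebraMap A (Localization.Away a) m * IsLocalization.Away.invSelf a ^ n) *
            (algebraMap A (Localization.Away a) x * IsLocalization.Away.invSelf a) := by
        rw [map_mul, pow_succ]
        ring
      rw [h1]
      refine mul_mem (ih m hm) ?_
      rw [← mk'_eq_mul_invSelf]
      exact frac_mem I a hx
    · intro x y hx hy
      rw [map_add, add_mul]
      exact add_mem hx hy

/-- the comparison map from the degree zero part of `R(I)_{aX}` to `A_a` -/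
noncomputable def awayHom (a : A) (ha : a ∈ I) :
    Away (Rees.deg (reesAlgebra I)) (aX I a ha) →+* Localization.Away a :=
  (IsLocalization.Away.lift (S := Localization.Away (aX I a ha)) (aX I a ha) (g := evalHom I a)
    (by rw [evalHom_aX]; exact isUnit_one)).comp
    (algebraMap (Away (Rees.deg (reesAlgebra I)) (aX I a ha)) (Localization.Away (aX I a ha)))

theorem awayHom_mk (a : A) (ha : a ∈ I) (n : ℕ) (x : reesAlgebra I)
    (hx : x ∈ Rees.deg (reesAlgebra I) (n • 1)) :
    awayHom I a ha (Away.mk (Rees.deg (reesAlgebra I)) (aX_mem_deg I a ha) n x hx) =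
      evalHom I a x := by
  unfold awayHom
  rw [RingHom.comp_apply, HomogeneousLocalization.algebraMap_apply, Away.val_mk,
    Localization.mk_eq_mk']
  unfold IsLocalization.Away.lift
  rw [IsLocalization.lift_mk'_spec]
  change evalHom I a x = evalHom I a (aX I a ha ^ n) * evalHom I a x
  rw [map_pow, evalHom_aX, one_pow, one_mul]

theorem awayHom_mem (a : A) (ha : a ∈ I) (z : Away (Rees.deg (reesAlgebra I)) (aX I a ha)) :
    awayHom I a ha z ∈ BlowUp.affineAlgebra A I a := by
  obtain ⟨n, x, hx, rfl⟩ := Away.mk_surjective (Rees.deg (reesAlgebra I)) (aX_mem_deg I a ha) z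
  have hx' : x ∈ Rees.deg (reesAlgebra I) n := by simpa using hx
  rw [awayHom_mk, evalHom_of_mem_deg I a hx']
  exact pow_mem_affineAlgebra I a n _ (coeff_mem_pow I x n)

theorem awayHom_injective (a : A) (ha : a ∈ I) : Function.Injective (awayHom I a ha) := by
  rw [injective_iff_map_eq_zero]
  intro z hz
  obtain ⟨n, x, hx, rfl⟩ := Away.mk_surjective (Rees.deg (reesAlgebra I)) (aX_mem_deg I a ha) z
  have hx' : x ∈ Rees.deg (reesAlgebra I) n := by simpa using hx
  rw [awayHom_mk, evalHom_of_mem_deg I a hx'] at hz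
  have h1 : algebraMap A (Localization.Away a) ((x : A[X]).coeff n) = 0 := by
    have h2 := congrArg (fun t => t * algebraMap A (Localization.Away a) a ^ n) hz
    simp only [zero_mul] at h2
    rw [mul_assoc, ← mul_pow, mul_comm (IsLocalization.Away.invSelf a),
      IsLocalization.Away.mul_invSelf, one_pow, mul_one] at h2
    exact h2
  obtain ⟨⟨_, k, rfl⟩, hk⟩ :=
    (IsLocalization.map_eq_zero_iff (Submonoid.powers a) (Localization.Away a) _).1 h1
  have hk' : a ^ k * (x : A[X]).coeff n = 0 := hk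
  have h3 : aX I a ha ^ k * x = 0 := by
    apply Subtype.ext
    rw [MulMemClass.coe_mul, SubmonoidClass.coe_pow, coe_aX, val_eq_monomial I hx', monomial_pow,
      monomial_mul_monomial, hk', monomial_zero_right]
    rfl
  apply HomogeneousLocalization.val_injective
  rw [Away.val_mk, HomogeneousLocalization.val_zero, Localization.mk_eq_mk',
    IsLocalization.mk'_eq_zero_iff]
  exact ⟨⟨aX I a ha ^ k, k, rfl⟩, h3⟩

theorem awayHom_surjOn (a : A) (ha : a ∈ I) (y : Localization.Away a)
    (hy : y ∈ BlowUp.affineAlgebra A I a) : ∃ z, awayHom I a ha z = y := by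
  unfold BlowUp.affineAlgebra at hy
  induction hy using Algebra.adjoin_induction with
  | mem y hy =>
    obtain ⟨x, hx, rfl⟩ := hy
    have hdeg : aX I x hx ∈ Rees.deg (reesAlgebra I) (1 • 1) := by
      simpa using aX_mem_deg I x hx
    refine ⟨Away.mk (Rees.deg (reesAlgebra I)) (aX_mem_deg I a ha) 1 (aX I x hx) hdeg, ?_⟩
    rw [awayHom_mk, evalHom_aX', mk'_eq_mul_invSelf]
  | algebraMap r =>
    have hdeg : algebraMap A (reesAlgebra I) r ∈ Rees.deg (reesAlgebra I) (0 • 1) := by
      rw [zero_smul, Rees.mem_deg_iff]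
      intro m hm
      change (C r : A[X]).coeff m = 0
      rw [coeff_C]
      exact if_neg hm
    refine ⟨Away.mk (Rees.deg (reesAlgebra I)) (aX_mem_deg I a ha) 0 _ hdeg, ?_⟩
    rw [awayHom_mk, evalHom_algebraMap]
  | add x y _ _ hx hy =>
    obtain ⟨z₁, rfl⟩ := hx
    obtain ⟨z₂, rfl⟩ := hy
    exact ⟨z₁ + z₂, map_add _ _ _⟩
  | mul x y _ _ hx hy =>
    obtain ⟨z₁, rfl⟩ := hx
    obtain ⟨z₂, rfl⟩ := hy
    exact ⟨z₁ * z₂, map_mul _ _ _⟩

/-- the chart ring isomorphism `R(I)_(aX) ≃ A[I/a]` -/
noncomputable def awayEquiv (a : A) (ha : a ∈ I) :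
    Away (Rees.deg (reesAlgebra I)) (aX I a ha) ≃+* ↥(BlowUp.affineAlgebra A I a) :=
  RingEquiv.ofBijective
    ((awayHom I a ha).codRestrict (BlowUp.affineAlgebra A I a) (awayHom_mem I a ha))
    ⟨fun z₁ z₂ h => awayHom_injective I a ha (congrArg Subtype.val h),
      fun y => by
        obtain ⟨z, hz⟩ := awayHom_surjOn I a ha y.1 y.2
        exact ⟨z, Subtype.ext hz⟩⟩

theorem coe_awayEquiv (a : A) (ha : a ∈ I) (z : Away (Rees.deg (reesAlgebra I)) (aX I a ha)) :
    ((awayEquiv I a ha z : ↥(BlowUp.affineAlgebra A I a)) : Localization.Away a) =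
      awayHom I a ha z := rfl

theorem awayHom_fromZero (a : A) (ha : a ∈ I) (y : Rees.deg (reesAlgebra I) 0) :
    awayHom I a ha (fromZeroRingHom (Rees.deg (reesAlgebra I)) _ y) = evalHom I a y.1 := by
  have hdeg : (y : reesAlgebra I) ∈ Rees.deg (reesAlgebra I) (0 • 1) := by
    rw [zero_smul]
    exact y.2
  have h1 : fromZeroRingHom (Rees.deg (reesAlgebra I)) (Submonoid.powers (aX I a ha)) y =
      Away.mk (Rees.deg (reesAlgebra I)) (aX_mem_deg I a ha) 0 y.1 hdeg := by
    apply HomogeneousLocalization.val_injective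
    rw [Away.val_mk]
    change Localization.mk (y : reesAlgebra I) 1 = _
    congr 1
  rw [h1, awayHom_mk]

theorem awayEquiv_comp (a : A) (ha : a ∈ I) (r : A) :
    awayEquiv I a ha (fromZeroRingHom (Rees.deg (reesAlgebra I)) _
      (algebraMap A (Rees.deg (reesAlgebra I) 0) r)) =
      algebraMap A ↥(BlowUp.affineAlgebra A I a) r := by
  apply Subtype.ext
  rw [coe_awayEquiv, awayHom_fromZero]
  have h : ((algebraMap A (Rees.deg (reesAlgebra I) 0) r : Rees.deg (reesAlgebra I) 0) :
      reesAlgebra I) = algebraMap A (reesAlgebra I) r := rfl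
  rw [h, evalHom_algebraMap]
  rfl

/-- the element `a/b` of `A[I/b]` -/
noncomputable def fracElem (b a : A) (ha : a ∈ I) : ↥(BlowUp.affineAlgebra A I b) :=
  ⟨IsLocalization.mk' (Localization.Away b) a (⟨b, Submonoid.mem_powers b⟩ : Submonoid.powers b),
    frac_mem I b ha⟩

theorem algebraMap_eq_fracElem_mul (b a : A) (ha : a ∈ I) :
    algebraMap A ↥(BlowUp.affineAlgebra A I b) a =
      fracElem I b a ha * algebraMap A ↥(BlowUp.affineAlgebra A I b) b := by
  apply Subtype.ext
  simp only [Subalgebra.coe_algebraMap, MulMemClass.coe_mul, fracElem]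
  exact (IsLocalization.mk'_spec (Localization.Away b) a
    (⟨b, Submonoid.mem_powers b⟩ : Submonoid.powers b)).symm

theorem awayEquiv_isLocalizationElem (b a : A) (hb : b ∈ I) (ha : a ∈ I) :
    awayEquiv I b hb (Away.isLocalizationElem (aX_mem_deg I b hb) (aX_mem_deg I a ha)) =
      fracElem I b a ha := by
  apply Subtype.ext
  rw [coe_awayEquiv]
  unfold Away.isLocalizationElem
  rw [awayHom_mk, pow_one, evalHom_aX', ← mk'_eq_mul_invSelf]
  rfl

/-- the irrelevant ideal of the Rees algebra is generated by the `aX`, `a ∈ I` -/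
theorem mem_span_of_mem_deg_succ (n : ℕ) (y : reesAlgebra I)
    (hy : y ∈ Rees.deg (reesAlgebra I) (n + 1)) :
    y ∈ Ideal.span (Set.range (fun a : {a // a ∈ I} => aX I a.1 a.2)) := by
  have key : ∀ c ∈ I ^ (n + 1), ∃ w ∈ Ideal.span (Set.range (fun a : {a // a ∈ I} => aX I a.1 a.2)),
      ((w : reesAlgebra I) : A[X]) = monomial (n + 1) c := by
    intro c hc
    rw [pow_succ] at hc
    refine Submodule.mul_induction_on hc ?_ ?_
    · intro d hd x hx
      refine ⟨⟨monomial n d, reesAlgebra.monomial_mem.mpr hd⟩ * aX I x hx,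
        Ideal.mul_mem_left _ _ (Ideal.subset_span ⟨⟨x, hx⟩, rfl⟩), ?_⟩
      rw [MulMemClass.coe_mul, coe_aX, monomial_mul_monomial]
    · rintro x y ⟨w₁, hw₁, e₁⟩ ⟨w₂, hw₂, e₂⟩
      refine ⟨w₁ + w₂, add_mem hw₁ hw₂, ?_⟩
      rw [AddMemClass.coe_add, e₁, e₂, map_add]
  obtain ⟨w, hw, e⟩ := key _ (coeff_mem_pow I y (n + 1))
  have : y = w := Subtype.ext ((val_eq_monomial I hy).trans e.symm)
  rw [this]
  exact hw

theorem irrelevant_le_span :
    (HomogeneousIdeal.irrelevant (Rees.deg (reesAlgebra I))).toIdeal ≤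
      Ideal.span (Set.range (fun a : {a // a ∈ I} => aX I a.1 a.2)) := by
  classical
  intro x hx
  rw [HomogeneousIdeal.mem_iff, HomogeneousIdeal.mem_irrelevant_iff] at hx
  rw [← DirectSum.sum_support_decompose (Rees.deg (reesAlgebra I)) x]
  refine Ideal.sum_mem _ (fun n _ => ?_)
  rcases n with _ | n
  · have h0 : ((DirectSum.decompose (Rees.deg (reesAlgebra I)) x 0 :
        Rees.deg (reesAlgebra I) 0) : reesAlgebra I) = 0 := hx
    rw [h0]
    exact zero_mem _
  · exact mem_span_of_mem_deg_succ I n _ (SetLike.coe_mem _)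

end Groth.Agent.Lib.Helper2.ReesChart
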