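import Mathlib
import Groth.Prelude.Def_BlowUp2
import Groth.Prelude.Def_Rees
import Groth.Prelude.Def_CurvBase
import Groth.Agent.Lib.Helper2ReesChart
import Groth.Agent.Lib.Helper2BlowCrit

/-!
# `Proj` of the Rees algebra is the blow-up of `Spec A` in `I` (helper2)

Namespace `Groth.Agent.Lib.Helper2.ReesBlowUp`.
* `piMap I : Proj R(I) ⟶ Spec A` the structure morphism.
* `chartMap I b hb : Spec A[I/b] ⟶ Proj R(I)` the open chart `D₊(bX)`.
* `isBlowUp_piMap I : BlowUp.IsBlowUp (piMap I) (Curv2.idealSheaf A I)`.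
-/

set_option autoImplicit false
set_option linter.style.haveILetI false
universe u
open CategoryTheory Limits AlgebraicGeometry TopologicalSpace Opposite nonZeroDivisors
open HomogeneousLocalization

namespace Groth.Agent.Lib.Helper2.ReesBlowUp

open Groth.Agent.Lib.Helper2.AffBlowUp Groth.Agent.Lib.Helper2.BlowChart
open Groth.Agent.Lib.Helper2.BlowLocal Groth.Agent.Lib.Helper2.ReesChart
open Groth.Agent.Lib.Helper2.BlowCrit

variable {A : Type u} [CommRing A] (I : Ideal A)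

/-- the structure morphism `Proj R(I) ⟶ Spec A` -/
noncomputable def piMap : Proj (Rees.deg (reesAlgebra I)) ⟶ Spec (CommRingCat.of A) :=
  Proj.toSpecZero (Rees.deg (reesAlgebra I)) ≫
    Spec.map (CommRingCat.ofHom (algebraMap A (Rees.deg (reesAlgebra I) 0)))

/-- the chart `Spec A[I/b] ⟶ Proj R(I)` -/
noncomputable def chartMap (b : A) (hb : b ∈ I) :
    Spec (CommRingCat.of ↥(BlowUp.affineAlgebra A I b)) ⟶ Proj (Rees.deg (reesAlgebra I)) :=
  Spec.map (awayEquiv I b hb).toCommRingCatIso.hom ≫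
    Proj.awayι (Rees.deg (reesAlgebra I)) (aX I b hb) (aX_mem_deg I b hb) one_pos

instance (b : A) (hb : b ∈ I) : IsOpenImmersion (chartMap I b hb) := by
  unfold chartMap
  infer_instance

theorem opensRange_chartMap (b : A) (hb : b ∈ I) :
    (chartMap I b hb).opensRange = Proj.basicOpen (Rees.deg (reesAlgebra I)) (aX I b hb) := by
  unfold chartMap
  rw [Scheme.Hom.opensRange_comp_of_isIso]
  exact Proj.opensRange_awayι _ _ _ _

theorem chartMap_piMap (b : A) (hb : b ∈ I) :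
    chartMap I b hb ≫ piMap I =
      Spec.map (CommRingCat.ofHom (algebraMap A ↥(BlowUp.affineAlgebra A I b))) := by
  unfold chartMap piMap
  rw [Category.assoc, Proj.awayι_toSpecZero_assoc, ← Spec.map_comp, ← Spec.map_comp]
  congr 1
  refine CommRingCat.hom_ext (RingHom.ext fun r => ?_)
  exact awayEquiv_comp I b hb r

theorem SpecMap_preimage_basicOpen {R S : CommRingCat.{u}} (f : R ⟶ S) (r : R) :
    Spec.map f ⁻¹ᵁ PrimeSpectrum.basicOpen r = PrimeSpectrum.basicOpen (f.hom r) := by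
  ext x
  exact Iff.rfl

theorem chartMap_preimage_basicOpen (b : A) (hb : b ∈ I) (a : A) (ha : a ∈ I) :
    chartMap I b hb ⁻¹ᵁ Proj.basicOpen (Rees.deg (reesAlgebra I)) (aX I a ha) =
      PrimeSpectrum.basicOpen (fracElem I b a ha) := by
  unfold chartMap
  rw [Scheme.Hom.comp_preimage, Proj.awayι_preimage_basicOpen (Rees.deg (reesAlgebra I))
    (aX_mem_deg I b hb) one_pos (aX_mem_deg I a ha) one_pos, SpecMap_preimage_basicOpen]
  congr 1
  exact awayEquiv_isLocalizationElem I b a hb ha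

theorem cover (z : Proj (Rees.deg (reesAlgebra I))) :
    ∃ a, ∃ ha : a ∈ I, z ∈ Proj.basicOpen (Rees.deg (reesAlgebra I)) (aX I a ha) := by
  have h := Proj.iSup_basicOpen_eq_top (Rees.deg (reesAlgebra I))
    (fun a : {a // a ∈ I} => aX I a.1 a.2) (irrelevant_le_span I)
  have hz : z ∈ (⨆ i : {a // a ∈ I},
      Proj.basicOpen (Rees.deg (reesAlgebra I)) (aX I i.1 i.2)) := by
    rw [h]
    trivial
  obtain ⟨i, hi⟩ := Opens.mem_iSup.1 hz
  exact ⟨i.1, i.2, hi⟩

theorem good_le (a : A) (ha : a ∈ I) (W : (Proj (Rees.deg (reesAlgebra I))).Opens)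
    (hW : Good I a (piMap I) W) :
    W ≤ Proj.basicOpen (Rees.deg (reesAlgebra I)) (aX I a ha) := by
  intro z hzW
  obtain ⟨b, hb, hzb⟩ := cover I z
  have hzr : z ∈ (chartMap I b hb).opensRange := by
    rw [opensRange_chartMap]
    exact hzb
  obtain ⟨t, rfl⟩ := hzr
  have htT : t ∈ chartMap I b hb ⁻¹ᵁ W := hzW
  obtain ⟨-, -, hdvd⟩ := hW
  obtain ⟨q, hq⟩ := hdvd b hb
  have e1 : ∀ x : A, rs (le_top : chartMap I b hb ⁻¹ᵁ W ≤ ⊤)
      (gHom (Spec.map (CommRingCat.ofHom (algebraMap A ↥(BlowUp.affineAlgebra A I b)))) x) =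
      ((chartMap I b hb).app W).hom (rs (le_top : W ≤ ⊤) (gHom (piMap I) x)) := by
    intro x
    rw [← rs_appTop, ← gHom_comp, chartMap_piMap]
  have e2 : ∀ x : A,
      gHom (Spec.map (CommRingCat.ofHom (algebraMap A ↥(BlowUp.affineAlgebra A I b)))) x =
      (Scheme.ΓSpecIso (CommRingCat.of ↥(BlowUp.affineAlgebra A I b))).inv.hom
        (algebraMap A ↥(BlowUp.affineAlgebra A I b) x) := fun x => gHom_SpecMap _ x
  have hBF : gHom (Spec.map (CommRingCat.ofHom
      (algebraMap A ↥(BlowUp.affineAlgebra A I b)))) a =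
      (Scheme.ΓSpecIso (CommRingCat.of ↥(BlowUp.affineAlgebra A I b))).inv.hom
        (fracElem I b a ha) *
      gHom (Spec.map (CommRingCat.ofHom (algebraMap A ↥(BlowUp.affineAlgebra A I b)))) b := by
    rw [e2, e2, algebraMap_eq_fracElem_mul I b a ha, map_mul]
  have hBnz : gHom (Spec.map (CommRingCat.ofHom
      (algebraMap A ↥(BlowUp.affineAlgebra A I b)))) b ∈
      Γ(Spec (CommRingCat.of ↥(BlowUp.affineAlgebra A I b)), ⊤)⁰ := by
    rw [e2]
    exact nzd_of_ringEquiv (Scheme.ΓSpecIso (CommRingCat.of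
      ↥(BlowUp.affineAlgebra A I b))).commRingCatIsoToRingEquiv.symm _ (algebraMap_a_nzd I b)
  have hBnzT := nzd_rs (isAffineOpen_top _) (le_top : chartMap I b hb ⁻¹ᵁ W ≤ ⊤) _ hBnz
  have h3 : rs (le_top : chartMap I b hb ⁻¹ᵁ W ≤ ⊤)
      (gHom (Spec.map (CommRingCat.ofHom (algebraMap A ↥(BlowUp.affineAlgebra A I b)))) b) =
      rs (le_top : chartMap I b hb ⁻¹ᵁ W ≤ ⊤)
      (gHom (Spec.map (CommRingCat.ofHom (algebraMap A ↥(BlowUp.affineAlgebra A I b)))) a) *
        ((chartMap I b hb).app W).hom q := by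
    rw [e1, e1, hq, map_mul]
  have h4 : rs (le_top : chartMap I b hb ⁻¹ᵁ W ≤ ⊤)
      ((Scheme.ΓSpecIso (CommRingCat.of ↥(BlowUp.affineAlgebra A I b))).inv.hom
        (fracElem I b a ha)) * ((chartMap I b hb).app W).hom q = 1 := by
    rw [← mul_cancel_left_mem_nonZeroDivisors hBnzT, mul_one]
    conv_rhs => rw [h3, hBF, map_mul]
    ring
  have hu : IsUnit (rs (le_top : chartMap I b hb ⁻¹ᵁ W ≤ ⊤)
      ((Scheme.ΓSpecIso (CommRingCat.of ↥(BlowUp.affineAlgebra A I b))).inv.hom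
        (fracElem I b a ha))) := IsUnit.of_mul_eq_one _ h4
  have h5 := Scheme.basicOpen_res (Spec (CommRingCat.of ↥(BlowUp.affineAlgebra A I b)))
    ((Scheme.ΓSpecIso (CommRingCat.of ↥(BlowUp.affineAlgebra A I b))).inv.hom
        (fracElem I b a ha)) (homOfLE (le_top : chartMap I b hb ⁻¹ᵁ W ≤ ⊤)).op
  have h6 := Scheme.basicOpen_of_isUnit
    (Spec (CommRingCat.of ↥(BlowUp.affineAlgebra A I b))) hu
  have hT : chartMap I b hb ⁻¹ᵁ W ≤
      (Spec (CommRingCat.of ↥(BlowUp.affineAlgebra A I b))).basicOpen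
        ((Scheme.ΓSpecIso (CommRingCat.of ↥(BlowUp.affineAlgebra A I b))).inv.hom
          (fracElem I b a ha)) := by
    have h7 : chartMap I b hb ⁻¹ᵁ W = chartMap I b hb ⁻¹ᵁ W ⊓
        (Spec (CommRingCat.of ↥(BlowUp.affineAlgebra A I b))).basicOpen
        ((Scheme.ΓSpecIso (CommRingCat.of ↥(BlowUp.affineAlgebra A I b))).inv.hom
          (fracElem I b a ha)) := h6.symm.trans h5
    rw [h7]
    exact inf_le_right
  have htF := hT htT
  have h8 : (Spec (CommRingCat.of ↥(BlowUp.affineAlgebra A I b))).basicOpen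
        ((Scheme.ΓSpecIso (CommRingCat.of ↥(BlowUp.affineAlgebra A I b))).inv.hom
          (fracElem I b a ha)) = PrimeSpectrum.basicOpen (fracElem I b a ha) :=
    basicOpen_eq_of_affine (R := CommRingCat.of ↥(BlowUp.affineAlgebra A I b)) (fracElem I b a ha)
  rw [h8, ← chartMap_preimage_basicOpen I b hb a ha] at htF
  exact htF

theorem isBlowUp_piMap : BlowUp.IsBlowUp (piMap I) (Curv2.idealSheaf A I) := by
  classical
  let V : A → (Proj (Rees.deg (reesAlgebra I))).Opens := fun a =>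
    if ha : a ∈ I then Proj.basicOpen (Rees.deg (reesAlgebra I)) (aX I a ha) else ⊥
  have hV : ∀ a (ha : a ∈ I), V a = Proj.basicOpen (Rees.deg (reesAlgebra I)) (aX I a ha) :=
    fun a ha => dif_pos ha
  refine isBlowUp_of_charts (piMap I) I V ?_ ?_ ?_
  · intro z
    obtain ⟨a, ha, hz⟩ := cover I z
    exact ⟨a, ha, by rw [hV a ha]; exact hz⟩
  · intro a ha
    have hr : Set.range (V a).ι = Set.range (chartMap I a ha) := by
      rw [Scheme.Opens.range_ι, hV a ha, ← opensRange_chartMap I a ha]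
      rfl
    refine ⟨IsOpenImmersion.isoOfRangeEq (V a).ι (chartMap I a ha) hr, ?_⟩
    rw [← chartMap_piMap I a ha, IsOpenImmersion.isoOfRangeEq_hom_fac_assoc]
  · intro a ha W hW
    rw [hV a ha]
    exact good_le I a ha W hW

end Groth.Agent.Lib.Helper2.ReesBlowUp
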