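import Mathlib
import Groth.Prelude.Def_BlowUp2
import Groth.Prelude.Def_CurvBase
import Groth.Agent.Lib.Helper2BlowLocal
import Groth.Agent.Lib.Helper2ECLocal
import Groth.Agent.Lib.Helper2CoprodClosure
import Groth.Agent.Lib.Helper2ReesBlowUp

/-!
# Existence of blow-ups by gluing (helper2)

Namespace `Groth.Agent.Lib.Helper2.BlowGlue`.
* `isIso_of_isBlowUp` : a morphism between two blow-ups of the same ideal over the base is an iso.
* `isBlowUp_of_isPullback_cover` : being a blow-up is local on the base.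
* `exists_isBlowUp_of_isAffine` : blow-ups of affine schemes exist (`Proj` of the Rees algebra).
* `LocData`, `LocData.exists_isBlowUp` : relative gluing of the blow-ups of the affine opens.
* `exists_isBlowUp` : blow-ups exist.
-/

set_option autoImplicit false
set_option linter.style.haveILetI false
universe u
open CategoryTheory CategoryTheory.Limits AlgebraicGeometry TopologicalSpace

namespace Groth.Agent.Lib.Helper2.BlowGlue

open Groth.Agent.Lib.Helper2.AffBlowUp Groth.Agent.Lib.Helper2.BlowLocal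
open Groth.Agent.Lib.Helper2.ECLocal Groth.Agent.Lib.Helper2.CoprodClosure
open Groth.Agent.Lib.Helper2.ReesBlowUp

section general

variable {X : Scheme.{u}} {𝓘 : X.IdealSheafData}

/-- uniqueness of blow-ups -/
theorem isIso_of_isBlowUp {B₁ B₂ : Scheme.{u}} {b₁ : B₁ ⟶ X} {b₂ : B₂ ⟶ X}
    (h₁ : BlowUp.IsBlowUp b₁ 𝓘) (h₂ : BlowUp.IsBlowUp b₂ 𝓘) (φ : B₁ ⟶ B₂) (hφ : φ ≫ b₂ = b₁) :
    IsIso φ := by
  obtain ⟨ψ, hψ, -⟩ := h₁.2 B₂ b₂ h₂.1
  have e1 : φ ≫ ψ = 𝟙 B₁ := by
    apply (h₁.2 B₁ b₁ h₁.1).unique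
    · rw [Category.assoc, hψ, hφ]
    · exact Category.id_comp _
  have e2 : ψ ≫ φ = 𝟙 B₂ := by
    apply (h₂.2 B₂ b₂ h₂.1).unique
    · rw [Category.assoc, hφ, hψ]
    · exact Category.id_comp _
  exact ⟨ψ, e1, e2⟩

/-- being a blow-up is local on the base -/
theorem isBlowUp_of_isPullback_cover {B : Scheme.{u}} (π : B ⟶ X) (𝓘 : X.IdealSheafData)
    {ι : Type u} (U : ι → X.Opens) (hU : ∀ x : X, ∃ i, x ∈ U i)
    (Bi : ι → Scheme.{u}) (bi : ∀ i, Bi i ⟶ (U i : Scheme.{u})) (ji : ∀ i, Bi i ⟶ B)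
    (sq : ∀ i, IsPullback (ji i) (bi i) π (U i).ι)
    (hbl : ∀ i, BlowUp.IsBlowUp (bi i) (𝓘.comap (U i).ι)) : BlowUp.IsBlowUp π 𝓘 := by
  haveI : ∀ i, IsOpenImmersion (ji i) := fun i =>
    MorphismProperty.of_isPullback (P := @IsOpenImmersion) (sq i).flip inferInstance
  have hEC : BlowUp.IsEffCartierIdeal (𝓘.comap π) := by
    intro z
    obtain ⟨i, hi⟩ := hU (π z)
    obtain ⟨w, hw, -⟩ := Scheme.exists_preimage_of_isPullback (sq i) z ⟨π z, hi⟩ rfl
    have h1 : BlowUp.IsEffCartierIdeal ((𝓘.comap π).comap (ji i)) := by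
      rw [← Scheme.IdealSheafData.comap_comp, (sq i).w, Scheme.IdealSheafData.comap_comp]
      exact (hbl i).1
    have h2 := ECAt.of_comap_openImmersion (ji i) (𝓘.comap π) w (h1 w)
    rw [hw] at h2
    exact h2
  have hECr : ∀ {T : Scheme.{u}} (k : T ⟶ X), BlowUp.IsEffCartierIdeal (𝓘.comap k) → ∀ i,
      BlowUp.IsEffCartierIdeal ((𝓘.comap (U i).ι).comap (k ∣_ U i)) := by
    intro T k hk i
    rw [← Scheme.IdealSheafData.comap_comp, morphismRestrict_ι, Scheme.IdealSheafData.comap_comp]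
    exact effCartier_comap_of_isOpenImmersion _ hk
  have huniq : ∀ {T : Scheme.{u}} (k : T ⟶ X), BlowUp.IsEffCartierIdeal (𝓘.comap k) →
      ∀ h₁ h₂ : T ⟶ B, h₁ ≫ π = k → h₂ ≫ π = k → h₁ = h₂ := by
    intro T k hk h₁ h₂ e₁ e₂
    apply Scheme.hom_ext_of_forall
    intro t
    obtain ⟨i, hi⟩ := hU (k t)
    refine ⟨k ⁻¹ᵁ U i, hi, ?_⟩
    have w₁ : ((k ⁻¹ᵁ U i).ι ≫ h₁) ≫ π = (k ∣_ U i) ≫ (U i).ι := by
      rw [Category.assoc, e₁, morphismRestrict_ι]
    have w₂ : ((k ⁻¹ᵁ U i).ι ≫ h₂) ≫ π = (k ∣_ U i) ≫ (U i).ι := by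
      rw [Category.assoc, e₂, morphismRestrict_ι]
    have hl : (sq i).lift _ _ w₁ = (sq i).lift _ _ w₂ :=
      ((hbl i).2 _ (k ∣_ U i) (hECr k hk i)).unique ((sq i).lift_snd _ _ w₁)
        ((sq i).lift_snd _ _ w₂)
    exact ((sq i).lift_fst _ _ w₁).symm.trans
      ((congrArg (fun l => l ≫ ji i) hl).trans ((sq i).lift_fst _ _ w₂))
  refine ⟨hEC, fun Y g hg => ?_⟩
  have hcov : IsOpenCover (fun i => g ⁻¹ᵁ U i) := by
    apply IsOpenCover.mk
    rw [eq_top_iff]
    intro y _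
    obtain ⟨i, hi⟩ := hU (g y)
    exact Opens.mem_iSup.2 ⟨i, hi⟩
  set 𝒱 : Y.OpenCover := Y.openCoverOfIsOpenCover _ hcov with h𝒱
  have hex : ∀ i : ι, ∃ H : 𝒱.X i ⟶ B, H ≫ π = 𝒱.f i ≫ g := by
    intro i
    obtain ⟨l, hl, -⟩ := (hbl i).2 _ (g ∣_ U i) (hECr g hg i)
    refine ⟨l ≫ ji i, ?_⟩
    have e1 : (l ≫ ji i) ≫ π = (l ≫ bi i) ≫ (U i).ι := by
      rw [Category.assoc, (sq i).w, Category.assoc]
    exact e1.trans ((congrArg (fun t => t ≫ (U i).ι) hl).trans (morphismRestrict_ι _ _))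
  choose H hH using hex
  have hcompat : ∀ i j,
      pullback.fst (𝒱.f i) (𝒱.f j) ≫ H i = pullback.snd (𝒱.f i) (𝒱.f j) ≫ H j := by
    intro i j
    refine huniq (pullback.fst (𝒱.f i) (𝒱.f j) ≫ 𝒱.f i ≫ g) ?_ _ _ ?_ ?_
    · rw [← Category.assoc, Scheme.IdealSheafData.comap_comp]
      exact effCartier_comap_of_isOpenImmersion _ hg
    · rw [Category.assoc, hH]
    · rw [Category.assoc, hH, ← Category.assoc, ← pullback.condition, Category.assoc]
  refine ⟨𝒱.glueMorphisms H hcompat, ?_, ?_⟩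
  · apply 𝒱.hom_ext
    intro i
    rw [← Category.assoc, Scheme.Cover.ι_glueMorphisms, hH]
  · intro h' hh'
    refine huniq g hg _ _ hh' ?_
    apply 𝒱.hom_ext
    intro i
    rw [← Category.assoc, Scheme.Cover.ι_glueMorphisms, hH]

/-- blow-ups of affine schemes exist -/
theorem exists_isBlowUp_of_isAffine (Z : Scheme.{u}) [IsAffine Z] (𝓚 : Z.IdealSheafData) :
    ∃ (P : Scheme.{u}) (b : P ⟶ Z), BlowUp.IsBlowUp b 𝓚 := by
  let e : Z ≅ Spec (CommRingCat.of Γ(Z, ⊤)) := Z.isoSpec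
  obtain ⟨I, hI⟩ := exists_idealSheaf_eq (A := Γ(Z, ⊤)) (𝓚.comap e.inv)
  have hP : BlowUp.IsBlowUp (piMap I) (𝓚.comap e.inv) := by
    rw [hI]
    exact isBlowUp_piMap I
  have sq : IsPullback (𝟙 _) (piMap I ≫ e.inv) (piMap I) e.hom :=
    IsPullback.of_horiz_isIso ⟨by rw [Category.id_comp, Category.assoc, e.inv_hom_id,
      Category.comp_id]⟩
  have h := isBlowUp_of_isPullback hP e.hom (𝟙 _) (piMap I ≫ e.inv) sq
  rw [← Scheme.IdealSheafData.comap_comp, e.hom_inv_id, Scheme.IdealSheafData.comap_id] at h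
  exact ⟨_, _, h⟩

end general

section glue

variable (X : Scheme.{u}) (𝓘 : X.IdealSheafData)

/-- a blow-up of every affine open of `X` in the restriction of `𝓘` -/
structure LocData where
  /-- the blow-up of `U` -/
  P : X.AffineZariskiSite → Scheme.{u}
  /-- its structure map -/
  b : ∀ U : X.AffineZariskiSite, P U ⟶ (U.1 : Scheme.{u})
  hb : ∀ U : X.AffineZariskiSite, BlowUp.IsBlowUp (b U) (𝓘.comap U.1.ι)

variable {X 𝓘} (D : LocData X 𝓘)

namespace LocData

theorem trans_ι {U V : X.AffineZariskiSite} (f : U ⟶ V) :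
    (Scheme.AffineZariskiSite.directedCover X).trans f ≫ V.1.ι = U.1.ι :=
  (Scheme.AffineZariskiSite.directedCover X).trans_map f

theorem ec {U V : X.AffineZariskiSite} (f : U ⟶ V) :
    BlowUp.IsEffCartierIdeal ((𝓘.comap V.1.ι).comap
      (D.b U ≫ (Scheme.AffineZariskiSite.directedCover X).trans f)) := by
  rw [← Scheme.IdealSheafData.comap_comp, Category.assoc, trans_ι,
    Scheme.IdealSheafData.comap_comp]
  exact (D.hb U).1

/-- the transition maps -/
noncomputable def tr {U V : X.AffineZariskiSite} (f : U ⟶ V) : D.P U ⟶ D.P V :=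
  ((D.hb V).2 _ _ (D.ec f)).exists.choose

theorem tr_b {U V : X.AffineZariskiSite} (f : U ⟶ V) :
    D.tr f ≫ D.b V = D.b U ≫ (Scheme.AffineZariskiSite.directedCover X).trans f :=
  ((D.hb V).2 _ _ (D.ec f)).exists.choose_spec

theorem tr_unique {U V : X.AffineZariskiSite} (f : U ⟶ V) (k : D.P U ⟶ D.P V)
    (hk : k ≫ D.b V = D.b U ≫ (Scheme.AffineZariskiSite.directedCover X).trans f) :
    k = D.tr f :=
  ((D.hb V).2 _ _ (D.ec f)).unique hk (D.tr_b f)

/-- the diagram of the local blow-ups -/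
noncomputable def functor : X.AffineZariskiSite ⥤ Scheme.{u} where
  obj := D.P
  map f := D.tr f
  map_id U := by
    symm
    apply D.tr_unique
    rw [Category.id_comp, Scheme.Cover.trans_id, Category.comp_id]
  map_comp f g := by
    symm
    apply D.tr_unique
    rw [Category.assoc, D.tr_b, ← Category.assoc, D.tr_b, Category.assoc,
      ← Scheme.Cover.trans_comp]

/-- the structure maps -/
noncomputable def natTrans :
    D.functor ⟶ (Scheme.AffineZariskiSite.directedCover X).functorOfLocallyDirected where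
  app U := D.b U
  naturality _ _ f := D.tr_b f

theorem equifibered : NatTrans.Equifibered D.natTrans := by
  intro U V f
  change IsPullback (D.tr f) (D.b U) (D.b V) ((Scheme.AffineZariskiSite.directedCover X).trans f)
  have hsnd : BlowUp.IsBlowUp (pullback.snd (D.b V)
      ((Scheme.AffineZariskiSite.directedCover X).trans f)) (𝓘.comap U.1.ι) := by
    have h := isBlowUp_of_isPullback (D.hb V) ((Scheme.AffineZariskiSite.directedCover X).trans f)
      (pullback.fst (D.b V) ((Scheme.AffineZariskiSite.directedCover X).trans f))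
      (pullback.snd _ _) (IsPullback.of_hasPullback _ _)
    rw [← Scheme.IdealSheafData.comap_comp, trans_ι] at h
    exact h
  haveI : IsIso (pullback.lift (D.tr f) (D.b U) (D.tr_b f)) :=
    isIso_of_isBlowUp (D.hb U) hsnd _ (pullback.lift_snd _ _ _)
  exact IsPullback.of_iso_pullback ⟨D.tr_b f⟩
    (asIso (pullback.lift (D.tr f) (D.b U) (D.tr_b f))) (pullback.lift_fst _ _ _)
    (pullback.lift_snd _ _ _)

/-- the relative gluing datum -/
noncomputable def gluing : (Scheme.AffineZariskiSite.directedCover X).RelativeGluingData where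
  functor := D.functor
  natTrans := D.natTrans
  equifibered := D.equifibered

instance : (D.gluing.functor ⋙ Scheme.forget).IsLocallyDirected :=
  Scheme.Cover.RelativeGluingData.instIsLocallyDirectedI₀CompFunctorForgetOfIsThin ..

include D in
theorem exists_isBlowUp : ∃ (B : Scheme.{u}) (π : B ⟶ X), BlowUp.IsBlowUp π 𝓘 := by
  refine ⟨D.gluing.glued, D.gluing.toBase, ?_⟩
  refine isBlowUp_of_isPullback_cover D.gluing.toBase 𝓘
    (fun U : X.AffineZariskiSite => U.1) ?_ D.P D.b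
    (fun U => colimit.ι D.gluing.functor U)
    (fun U => (D.gluing.isPullback_natTrans_ι_toBase U).flip) D.hb
  intro x
  obtain ⟨U, hxU⟩ := TopologicalSpace.Opens.mem_iSup.mp
    ((iSup_affineOpens_eq_top X).ge (Set.mem_univ x))
  exact ⟨⟨U.1, U.2⟩, hxU⟩

end LocData

/-- blow-ups exist -/
theorem exists_isBlowUp (X : Scheme.{u}) (𝓘 : X.IdealSheafData) :
    ∃ (X' : Scheme.{u}) (b : X' ⟶ X), BlowUp.IsBlowUp b 𝓘 := by
  have hex : ∀ U : X.AffineZariskiSite, ∃ (P : Scheme.{u}) (b : P ⟶ (U.1 : Scheme.{u})),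
      BlowUp.IsBlowUp b (𝓘.comap U.1.ι) := by
    intro U
    haveI : IsAffine (U.1 : Scheme.{u}) := U.2
    exact exists_isBlowUp_of_isAffine _ _
  choose P b hb using hex
  exact (LocData.mk P b hb).exists_isBlowUp

end glue

end Groth.Agent.Lib.Helper2.BlowGlue
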