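import Mathlib
import Groth.Prelude.Def_BlowUp2
import Groth.Agent.Lib.Helper20BlowUp

/-!
# Cancellation of effective Cartier ideals; factors (helper2)

Namespace `Groth.Agent.Lib.Helper2.EffQuot`.
* `ideal_le_of_mul_span_le` : `A·(e) ≤ B·(e)`, `e` nzd ⇒ `A ≤ B`
* `le_of_mul_le_mul` : `A * E ≤ B * E`, `E` effective Cartier ⇒ `A ≤ B`
* `eq_of_mul_eq_mul`
* `isEffCartierIdeal_of_mul_eq` : `K * E = D`, `E`, `D` effective Cartier ⇒ `K` effective Cartier
* `ambProd_core` : blow up of `I' ⊔ J'` (both effective Cartier), `K·E = I''·J''` ⇒ `K` eff. Cartier,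
  `K ≤ I''`, `K ≤ J''`, `supp K = supp I'' ∪ supp J''`.
-/

set_option autoImplicit false
set_option linter.style.haveILetI false
universe u
open CategoryTheory AlgebraicGeometry nonZeroDivisors

namespace Groth.Agent.Lib.Helper2.EffQuot

open Groth.Agent.Lib.Helper20

theorem ideal_le_of_mul_span_le {R : Type*} [CommRing R] {A B : Ideal R} {e : R}
    (he : e ∈ nonZeroDivisors R) (h : A * Ideal.span {e} ≤ B * Ideal.span {e}) : A ≤ B := by
  intro a ha
  have h1 : a * e ∈ A * Ideal.span {e} :=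
    Ideal.mul_mem_mul ha (Ideal.mem_span_singleton_self e)
  obtain ⟨b, hb, hbe⟩ := Ideal.mem_mul_span_singleton.1 (h h1)
  have h2 : b = a := (mul_cancel_right_mem_nonZeroDivisors he).1 hbe
  rw [← h2]
  exact hb

theorem le_of_mul_le_mul {X : Scheme.{u}} {A B E : X.IdealSheafData}
    (hE : BlowUp.IsEffCartierIdeal E) (h : A * E ≤ B * E) : A ≤ B := by
  choose U hxU e he hEe using hE
  refine Scheme.IdealSheafData.le_of_iSup_eq_top U ?_ (fun x => ?_)
  · rw [eq_top_iff]
    intro x _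
    exact TopologicalSpace.Opens.mem_iSup.2 ⟨x, hxU x⟩
  · have h1 : (A * E).ideal (U x) ≤ (B * E).ideal (U x) := h (U x)
    rw [Scheme.IdealSheafData.ideal_mul, Scheme.IdealSheafData.ideal_mul, Pi.mul_apply,
      Pi.mul_apply, hEe x] at h1
    exact ideal_le_of_mul_span_le (he x) h1

theorem eq_of_mul_eq_mul {X : Scheme.{u}} {A B E : X.IdealSheafData}
    (hE : BlowUp.IsEffCartierIdeal E) (h : A * E = B * E) : A = B :=
  le_antisymm (le_of_mul_le_mul hE h.le) (le_of_mul_le_mul hE h.ge)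

theorem isEffCartierIdeal_of_mul_eq {X : Scheme.{u}} {K E D : X.IdealSheafData}
    (hE : BlowUp.IsEffCartierIdeal E) (hD : BlowUp.IsEffCartierIdeal D) (h : K * E = D) :
    BlowUp.IsEffCartierIdeal K := by
  intro x
  obtain ⟨U, hU, hxU, -, e, d, he, hd, hEe, hDd⟩ :=
    RelCartier.exists_common hE hD x ⊤ trivial
  have h1 : K.ideal ⟨U, hU⟩ * Ideal.span {e} = Ideal.span {d} := by
    rw [← hEe, ← hDd, ← h]
    rfl
  have hdm : d ∈ K.ideal ⟨U, hU⟩ * Ideal.span {e} := by
    rw [h1]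
    exact Ideal.mem_span_singleton_self d
  obtain ⟨k, hk, hke⟩ := Ideal.mem_mul_span_singleton.1 hdm
  refine ⟨⟨U, hU⟩, hxU, k, ?_, ?_⟩
  · rw [← hke] at hd
    exact (mul_mem_nonZeroDivisors.1 hd).1
  · apply le_antisymm
    · intro k' hk'
      have h2 : k' * e ∈ Ideal.span {d} := by
        rw [← h1]
        exact Ideal.mul_mem_mul hk' (Ideal.mem_span_singleton_self e)
      obtain ⟨r, hr⟩ := Ideal.mem_span_singleton'.1 h2
      have h3 : r * k = k' := by
        apply (mul_cancel_right_mem_nonZeroDivisors he).1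
        rw [← hr, ← hke]
        ring
      rw [← h3]
      exact Ideal.mul_mem_left _ _ (Ideal.mem_span_singleton_self k)
    · rw [Ideal.span_singleton_le_iff_mem]
      exact hk

theorem ambProd_core {Y₀ Y : Scheme.{u}} (π : Y ⟶ Y₀) (I' J' : Y₀.IdealSheafData)
    (hb : BlowUp.IsBlowUp π (I' ⊔ J')) (hI' : BlowUp.IsEffCartierIdeal I')
    (hJ' : BlowUp.IsEffCartierIdeal J') (K : Y.IdealSheafData)
    (hK : K * (I' ⊔ J').comap π = I'.comap π * J'.comap π) :
    BlowUp.IsEffCartierIdeal K ∧ K ≤ I'.comap π ∧ K ≤ J'.comap π ∧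
      K.support = (I'.comap π).support ⊔ (J'.comap π).support := by
  have hI'' := BlowUpBasic.isEffCartierIdeal_comap (I' ⊔ J') π hb I' hI'
  have hJ'' := BlowUpBasic.isEffCartierIdeal_comap (I' ⊔ J') π hb J' hJ'
  have hE : BlowUp.IsEffCartierIdeal ((I' ⊔ J').comap π) := hb.1
  have hIE : I'.comap π ≤ (I' ⊔ J').comap π := Scheme.IdealSheafData.comap_mono π le_sup_left
  have hJE : J'.comap π ≤ (I' ⊔ J').comap π := Scheme.IdealSheafData.comap_mono π le_sup_right
  have h0 : ∀ A : Y.IdealSheafData, 0 ≤ A := fun A => by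
    rw [Scheme.IdealSheafData.zero_eq_bot]
    exact bot_le
  have hKI : K ≤ I'.comap π := by
    apply le_of_mul_le_mul hE
    rw [hK]
    exact mul_le_mul_of_nonneg_left hJE (h0 _)
  have hKJ : K ≤ J'.comap π := by
    apply le_of_mul_le_mul hE
    rw [hK, mul_comm (I'.comap π)]
    exact mul_le_mul_of_nonneg_left hIE (h0 _)
  refine ⟨isEffCartierIdeal_of_mul_eq hE (BlowUpBasic.isEffCartierIdeal_mul hI'' hJ'') hK,
    hKI, hKJ, ?_⟩
  apply le_antisymm
  · have h1 : K.support ≤ (K * (I' ⊔ J').comap π).support := by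
      rw [Scheme.IdealSheafData.support_mul]
      exact le_sup_left
    rw [hK, Scheme.IdealSheafData.support_mul] at h1
    exact h1
  · exact sup_le (Scheme.IdealSheafData.support_antitone hKI)
      (Scheme.IdealSheafData.support_antitone hKJ)

end Groth.Agent.Lib.Helper2.EffQuot
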