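import Mathlib
import Groth.Prelude.Def_BlowUp2
import Groth.Agent.Lib.Helper22FTIdeal
import Groth.Agent.Lib.Helper20RelCartier

/-!
# The ideal quotient `(D : E)` of ideal sheaves for `E` of finite type (helper2)

Namespace `Groth.Agent.Lib.Helper2.Quot`.
* `map_colon_away` (copied from helper20's `Helper20EffCartSum`, which assumes a locally Noetherian
  scheme for the sheaf construction): colon ideals commute with localization away from an element
  when the denominator ideal is finitely generated.
* `fg_of_isEffCartierIdeal` : an effective Cartier ideal sheaf is of finite type.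
* `quot D E hE` : the ideal sheaf `(D : E)` for `E` of finite type; `quot_ideal`, `le_quot`,
  `mul_quot_le`, `quot_ideal_of_span`.
* `mul_quot_eq` : `E * (D : E) = D` if `D ≤ E` and `E` is locally principal.
* `isEffCartierIdeal_quot` : `(D : E)` is effective Cartier if `D ≤ E` are.
-/

set_option autoImplicit false
set_option linter.style.haveILetI false
set_option linter.unusedSectionVars false
universe u
open CategoryTheory CategoryTheory.Limits AlgebraicGeometry TopologicalSpace Opposite

namespace Groth.Agent.Lib.Helper2.Quot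

/-- uniform denominators over a finitely generated ideal (submonoid version; helper20). -/
theorem exists_uniform_of_fg' {B : Type*} [CommRing B] (M : Submonoid B) (J K : Ideal B)
    (hJ : J.FG) (h : ∀ x ∈ J, ∃ u ∈ M, u * x ∈ K) : ∃ s ∈ M, ∀ x ∈ J, s * x ∈ K := by
  classical
  obtain ⟨T, rfl⟩ := hJ
  have key : ∀ T' : Finset B, (∀ x ∈ T', ∃ u ∈ M, u * x ∈ K) →
      ∃ s ∈ M, ∀ x ∈ T', s * x ∈ K := by
    intro T'
    induction T' using Finset.induction_on with
    | empty => intro _; exact ⟨1, M.one_mem, by simp⟩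
    | insert a T' ha ih =>
      intro h
      obtain ⟨s, hs, hsT⟩ := ih (fun x hx => h x (Finset.mem_insert_of_mem hx))
      obtain ⟨u, hu, hua⟩ := h a (Finset.mem_insert_self a T')
      refine ⟨u * s, M.mul_mem hu hs, ?_⟩
      intro x hx
      rcases Finset.mem_insert.mp hx with rfl | hx
      · have : u * s * x = s * (u * x) := by ring
        rw [this]; exact K.mul_mem_left _ hua
      · have : u * s * x = u * (s * x) := by ring
        rw [this]; exact K.mul_mem_left _ (hsT x hx)
  obtain ⟨s, hs, hsT⟩ := key T (fun x hx => h x (Ideal.subset_span hx))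
  refine ⟨s, hs, fun x hx => ?_⟩
  induction hx using Submodule.span_induction with
  | mem x hx => exact hsT x hx
  | zero => simp
  | add x y _ _ hx hy => rw [mul_add]; exact K.add_mem hx hy
  | smul a x _ hx => rw [smul_eq_mul, mul_left_comm]; exact K.mul_mem_left _ hx

/-- colon ideals commute with localization away from an element, for finitely generated
denominators (helper20). -/
theorem map_colon_away {B Bs : Type*} [CommRing B] [CommRing Bs] [Algebra B Bs] (s : B)
    [IsLocalization.Away s Bs] (I K : Ideal B) (hK : K.FG) :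
    (Submodule.colon I (K : Set B)).map (algebraMap B Bs) =
      Submodule.colon (I.map (algebraMap B Bs)) ((K.map (algebraMap B Bs) : Ideal Bs) : Set Bs) := by
  apply le_antisymm
  · rw [Ideal.map_le_iff_le_comap]
    intro h hh
    rw [Ideal.mem_comap, Submodule.mem_colon]
    intro y hy
    have hy' : y ∈ Ideal.span ((algebraMap B Bs) '' (K : Set B)) := hy
    clear hy
    induction hy' using Submodule.span_induction with
    | mem y hy =>
      obtain ⟨k, hk, rfl⟩ := hy
      rw [smul_eq_mul, ← map_mul]
      apply Ideal.mem_map_of_mem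
      have := (Submodule.mem_colon.mp hh) k hk
      exact this
    | zero => rw [smul_zero]; exact Submodule.zero_mem _
    | add x y _ _ hx hy => rw [smul_add]; exact Submodule.add_mem _ hx hy
    | smul a x _ hx =>
      rw [smul_comm]
      exact Submodule.smul_mem _ a hx
  · intro z hz
    obtain ⟨⟨h, ⟨_, n, rfl⟩⟩, hzh⟩ := IsLocalization.surj (Submonoid.powers s) z
    simp only at hzh
    have hsu : IsUnit (algebraMap B Bs s) := IsLocalization.Away.algebraMap_isUnit s
    have h1 : ∀ k ∈ K, ∃ u ∈ Submonoid.powers s,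
        u * k ∈ (Submodule.comap (LinearMap.mulLeft B h) I : Ideal B) := by
      intro k hk
      have h2 : algebraMap B Bs (h * k) ∈ I.map (algebraMap B Bs) := by
        rw [map_mul, ← hzh, mul_assoc, mul_comm, mul_assoc]
        apply Ideal.mul_mem_left
        rw [mul_comm]
        have := (Submodule.mem_colon.mp hz) (algebraMap B Bs k) (Ideal.mem_map_of_mem _ hk)
        exact this
      obtain ⟨⟨⟨x, hx⟩, ⟨m, hm⟩⟩, hxm⟩ :=
        (IsLocalization.mem_map_algebraMap_iff (Submonoid.powers s) Bs).mp h2
      simp only at hxm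
      rw [← map_mul] at hxm
      obtain ⟨⟨c, hc⟩, hc2⟩ := (IsLocalization.eq_iff_exists (Submonoid.powers s) Bs).mp hxm
      simp only at hc2
      refine ⟨c * m, (Submonoid.powers s).mul_mem hc hm, ?_⟩
      change h * (c * m * k) ∈ I
      have : h * (c * m * k) = c * (h * k * m) := by ring
      rw [this, hc2]
      exact I.mul_mem_left _ hx
    obtain ⟨u, hu, hu2⟩ := exists_uniform_of_fg' (Submonoid.powers s) K _ hK h1
    have huh : u * h ∈ Submodule.colon I (K : Set B) := by
      rw [Submodule.mem_colon]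
      intro k hk
      have := hu2 k hk
      change h * (u * k) ∈ I at this
      rw [smul_eq_mul]
      have h3 : u * h * k = h * (u * k) := by ring
      rw [h3]; exact this
    have huu : IsUnit (algebraMap B Bs u) := by
      obtain ⟨m, rfl⟩ := hu
      rw [map_pow]; exact hsu.pow m
    have h4 : algebraMap B Bs (u * h) ∈ (Submodule.colon I (K : Set B)).map (algebraMap B Bs) :=
      Ideal.mem_map_of_mem _ huh
    rw [map_mul, ← hzh, map_pow] at h4
    have h5 := (Ideal.unit_mul_mem_iff_mem _ huu).mp h4
    exact (Ideal.mul_unit_mem_iff_mem _ (hsu.pow n)).mp h5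

variable {X : Scheme.{u}}

/-- an effective Cartier ideal sheaf is of finite type -/
theorem fg_of_isEffCartierIdeal {E : X.IdealSheafData} (hE : BlowUp.IsEffCartierIdeal E)
    (W : X.affineOpens) : (E.ideal W).FG := by
  have key : ∀ x : W.1, ∃ r : Γ(X, W.1), x.1 ∈ X.basicOpen r ∧
      (E.ideal (X.affineBasicOpen r)).FG := by
    intro ⟨x, hx⟩
    obtain ⟨U, hxU, c, -, hc⟩ := hE x
    obtain ⟨r, hr, hxr⟩ := W.2.exists_basicOpen_le (V := U.1) ⟨x, hxU⟩ hx
    refine ⟨r, hxr, ?_⟩
    have hle : X.affineBasicOpen r ≤ U := hr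
    rw [← E.map_ideal hle, hc, Ideal.map_span, Set.image_singleton]
    exact Submodule.fg_span_singleton _
  choose r hxr hr using key
  have hspan : Ideal.span (Set.range r) = ⊤ := by
    rw [← W.2.self_le_iSup_basicOpen_iff]
    exact fun x hxW ↦ Opens.mem_iSup.mpr ⟨⟨_, ⟨x, hxW⟩, rfl⟩, hxr ⟨x, hxW⟩⟩
  have inst := W.2.isLocalization_basicOpen
  refine Groth.Agent.Lib.Helper22.FTIdeal.fg_of_span_isLocalization _ _ hspan
    (fun g => Γ(X, X.basicOpen g.1)) ?_
  rintro ⟨_, x, rfl⟩
  have hle : X.affineBasicOpen (r x) ≤ W := X.affineBasicOpen_le (r x)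
  have hmap := E.map_ideal hle
  have := hr x
  rw [← hmap] at this
  exact this

/-- the ideal quotient `(D : E)` for `E` of finite type -/
noncomputable def quot (D E : X.IdealSheafData) (hE : ∀ U : X.affineOpens, (E.ideal U).FG) :
    X.IdealSheafData where
  ideal U := Submodule.colon (D.ideal U) ((E.ideal U : Ideal Γ(X, U)) : Set Γ(X, U))
  map_ideal_basicOpen U f := by
    haveI := U.2.isLocalization_basicOpen f
    rw [← D.map_ideal_basicOpen U f, ← E.map_ideal_basicOpen U f]
    exact map_colon_away (Bs := Γ(X, X.basicOpen f)) f (D.ideal U) (E.ideal U) (hE U)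

theorem quot_ideal (D E : X.IdealSheafData) (hE : ∀ U : X.affineOpens, (E.ideal U).FG)
    (U : X.affineOpens) :
    (quot D E hE).ideal U =
      Submodule.colon (D.ideal U) ((E.ideal U : Ideal Γ(X, U)) : Set Γ(X, U)) :=
  rfl

theorem le_quot (D E : X.IdealSheafData) (hE : ∀ U : X.affineOpens, (E.ideal U).FG) :
    D ≤ quot D E hE := by
  intro U z hz
  rw [quot_ideal, Submodule.mem_colon]
  intro e _
  rw [smul_eq_mul]
  exact Ideal.mul_mem_right _ _ hz

theorem mul_quot_le (D E : X.IdealSheafData) (hE : ∀ U : X.affineOpens, (E.ideal U).FG) :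
    E * quot D E hE ≤ D := by
  intro U
  rw [Scheme.IdealSheafData.ideal_mul, Pi.mul_apply, Ideal.mul_le]
  intro e he z hz
  rw [quot_ideal, Submodule.mem_colon] at hz
  have := hz e he
  rw [smul_eq_mul, mul_comm] at this
  exact this

theorem quot_ideal_of_span (D E : X.IdealSheafData) (hE : ∀ U : X.affineOpens, (E.ideal U).FG)
    (U : X.affineOpens) (g h : Γ(X, U))
    (hg : g ∈ nonZeroDivisors Γ(X, U)) (hEg : E.ideal U = Ideal.span {g})
    (hD : D.ideal U = Ideal.span {g * h}) : (quot D E hE).ideal U = Ideal.span {h} := by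
  ext z
  rw [quot_ideal, Submodule.mem_colon, hEg, hD, Ideal.mem_span_singleton']
  constructor
  · intro hz
    have h1 := hz g (Ideal.mem_span_singleton_self g)
    rw [smul_eq_mul, Ideal.mem_span_singleton'] at h1
    obtain ⟨c, hc⟩ := h1
    refine ⟨c, ?_⟩
    have h2 : (c * h - z) * g = 0 := by
      rw [sub_mul]
      have : c * h * g = c * (g * h) := by ring
      rw [this, hc, sub_self]
    have h3 := (mem_nonZeroDivisors_iff_right.mp hg) _ h2
    exact sub_eq_zero.mp h3
  · rintro ⟨c, rfl⟩ e he
    obtain ⟨d, rfl⟩ := Ideal.mem_span_singleton'.mp he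
    rw [smul_eq_mul, Ideal.mem_span_singleton']
    exact ⟨c * d, by ring⟩

/-- `E * (D : E) = D` for `D ≤ E` with `E` locally principal -/
theorem mul_quot_eq {D E : X.IdealSheafData} (hE : BlowUp.IsEffCartierIdeal E) (hle : D ≤ E) :
    E * quot D E (fg_of_isEffCartierIdeal hE) = D := by
  apply le_antisymm (mul_quot_le D E _)
  have hE' := hE
  choose U hxU g hg hEg using hE'
  apply Scheme.IdealSheafData.le_of_iSup_eq_top U
  · rw [eq_top_iff]
    intro x _
    exact TopologicalSpace.Opens.mem_iSup.mpr ⟨x, hxU x⟩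
  · intro x d hd
    rw [Scheme.IdealSheafData.ideal_mul, Pi.mul_apply]
    have hdE : d ∈ E.ideal (U x) := hle (U x) hd
    rw [hEg x, Ideal.mem_span_singleton'] at hdE
    obtain ⟨c, hc⟩ := hdE
    have hcq : c ∈ (quot D E (fg_of_isEffCartierIdeal hE)).ideal (U x) := by
      rw [quot_ideal, Submodule.mem_colon]
      intro e he
      have he' : e ∈ Ideal.span {g x} := by
        rw [← hEg x]
        exact he
      obtain ⟨a, rfl⟩ := Ideal.mem_span_singleton'.mp he'
      rw [smul_eq_mul]
      have : c * (a * g x) = a * d := by rw [← hc]; ring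
      rw [this]
      exact Ideal.mul_mem_left _ _ hd
    have hgE : g x ∈ E.ideal (U x) := by
      rw [hEg x]
      exact Ideal.mem_span_singleton_self _
    rw [← hc, mul_comm c (g x)]
    exact Ideal.mul_mem_mul hgE hcq

/-- `(D : E)` is effective Cartier if `D ≤ E` are -/
theorem isEffCartierIdeal_quot {D E : X.IdealSheafData} (hD : BlowUp.IsEffCartierIdeal D)
    (hE : BlowUp.IsEffCartierIdeal E) (hle : D ≤ E) :
    BlowUp.IsEffCartierIdeal (quot D E (fg_of_isEffCartierIdeal hE)) := by
  intro x
  obtain ⟨U, hU, hxU, -, f, g, hf, hg, hDf, hEg⟩ :=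
    Groth.Agent.Lib.Helper20.RelCartier.exists_common hD hE x ⊤ trivial
  have hfg : f ∈ Ideal.span {g} := by
    rw [← hEg]
    apply hle ⟨U, hU⟩
    rw [hDf]
    exact Ideal.mem_span_singleton_self f
  obtain ⟨h, hh⟩ := Ideal.mem_span_singleton'.mp hfg
  have hhn : h ∈ nonZeroDivisors Γ(X, U) := by
    rw [mem_nonZeroDivisors_iff_right]
    intro z hz
    apply (mem_nonZeroDivisors_iff_right.mp hf) z
    rw [← hh, ← mul_assoc, hz, zero_mul]
  refine ⟨⟨U, hU⟩, hxU, h, hhn, ?_⟩
  refine quot_ideal_of_span D E _ ⟨U, hU⟩ g h hg hEg ?_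
  rw [hDf, ← hh, mul_comm]

end Groth.Agent.Lib.Helper2.Quot
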