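import Mathlib
import Groth.Prelude.Def_W4c6modpairsegaMP
import Groth.Agent.S8859
import Groth.Agent.Lib.Helper2ModPair
import Groth.Agent.Lib.Helper2AdmFrac
import Groth.Agent.Lib.Helper2EffQuot
import Groth.Agent.Lib.Helper2BlowProper
import Groth.Agent.Lib.Helper2BlowDom
import Groth.Agent.Lib.Helper2Quot
import Groth.Agent.Lib.Helper20BlowUp

/-!
# Ambient products of modulus pairs: lifting and uniqueness (helper11)

Namespace `Groth.Agent.Lib.Helper11.AmbProd`.

* `isIso_morphismRestrict_of_comap_eq_top`: a blowing up is an isomorphism over every open on which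
  the centre restricts to the unit ideal.
* `isIso_imageι_restrict`: the scheme-theoretic closure of an open `O` is isomorphic to `O` over `O`.
* `hom_ext_ambProd`: two ambient morphisms into an ambient product `(Y, K)` agreeing after projection
  to both factors are equal.
* `exists_lift_ambProd`: a pair of compatible ambient morphisms `W ⟶ X`, `W ⟶ T` lifts to the ambient
  product after replacing `W` by an abstract admissible blow-up.
-/

set_option autoImplicit false
set_option linter.style.haveILetI false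
universe u
open CategoryTheory CategoryTheory.Limits AlgebraicGeometry TopologicalSpace

namespace Groth.Agent.Lib.Helper11.AmbProd

open Groth.Agent.Lib.Helper2.ModPairLib Groth.Agent.Lib.Helper2.AdmFrac
open Groth.Agent.Lib.Helper20.BlowUpBasic Scheme.IdealSheafData

/-- a blowing up is an isomorphism over every open on which the centre becomes the unit ideal. -/
theorem isIso_morphismRestrict_of_comap_eq_top {X X' : Scheme.{u}} (𝓘 : X.IdealSheafData)
    (b : X' ⟶ X) (hb : BlowUp.IsBlowUp b 𝓘) (W : X.Opens) (hW : 𝓘.comap W.ι = ⊤) :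
    IsIso (b ∣_ W) := by
  obtain ⟨s, hs, -⟩ := hb.2 W W.ι (by rw [hW]; exact isEffCartierIdeal_top)
  have hrange : Set.range s ⊆ Set.range (b ⁻¹ᵁ W).ι := by
    rintro _ ⟨w, rfl⟩
    rw [Scheme.Opens.range_ι]
    change b (s w) ∈ W
    rw [← Scheme.Hom.comp_apply, hs]
    exact w.2
  let sW : W.toScheme ⟶ (b ⁻¹ᵁ W).toScheme := IsOpenImmersion.lift (b ⁻¹ᵁ W).ι s hrange
  have hsW : sW ≫ (b ⁻¹ᵁ W).ι = s := IsOpenImmersion.lift_fac _ _ _
  have h1 : sW ≫ (b ∣_ W) = 𝟙 _ := by
    rw [← cancel_mono W.ι, Category.assoc, morphismRestrict_ι, ← Category.assoc, hsW, hs,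
      Category.id_comp]
  have h2 : (b ∣_ W) ≫ sW = 𝟙 _ := by
    rw [← cancel_mono (b ⁻¹ᵁ W).ι, Category.assoc, hsW, Category.id_comp]
    have hE : BlowUp.IsEffCartierIdeal (𝓘.comap ((b ∣_ W) ≫ W.ι)) := by
      rw [comap_comp, hW, comap_top]
      exact isEffCartierIdeal_top
    obtain ⟨k, -, hk⟩ := hb.2 _ ((b ∣_ W) ≫ W.ι) hE
    rw [hk ((b ∣_ W) ≫ s) (by change ((b ∣_ W) ≫ s) ≫ b = _; rw [Category.assoc, hs]),
      hk (b ⁻¹ᵁ W).ι (by change (b ⁻¹ᵁ W).ι ≫ b = _; rw [morphismRestrict_ι])]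
  exact ⟨sW, h2, h1⟩

theorem comap_ι_interior_eq_top {X : Scheme.{u}} {I J : X.IdealSheafData} (h : I ≤ J) :
    J.comap (ModPair.interior I).ι = ⊤ := by
  rw [← support_eq_bot_iff]
  ext x
  simp only [support_comap, TopologicalSpace.Closeds.coe_preimage, Set.mem_preimage,
    SetLike.mem_coe, TopologicalSpace.Closeds.coe_bot, Set.mem_empty_iff_false, iff_false]
  intro hx
  exact x.2 (support_antitone h hx)

/-- the scheme-theoretic closure of an open `O` is isomorphic to `O` over `O`. -/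
theorem isIso_imageι_restrict {P : Scheme.{u}} (O : P.Opens) : IsIso (O.ι.imageι ∣_ O) := by
  haveI : Mono (O.ι.imageι ∣_ O) := by
    haveI : Mono ((O.ι.imageι ∣_ O) ≫ O.ι) := by
      rw [morphismRestrict_ι]
      infer_instance
    exact mono_of_mono _ O.ι
  have hr : Set.range O.ι.toImage ⊆ Set.range (O.ι.imageι ⁻¹ᵁ O).ι := by
    rintro _ ⟨z, rfl⟩
    rw [Scheme.Opens.range_ι]
    change O.ι.imageι (O.ι.toImage z) ∈ O
    rw [← Scheme.Hom.comp_apply, Scheme.Hom.toImage_imageι]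
    exact z.2
  have hσ : IsOpenImmersion.lift (O.ι.imageι ⁻¹ᵁ O).ι O.ι.toImage hr ≫ (O.ι.imageι ∣_ O) = 𝟙 _ := by
    rw [← cancel_mono O.ι, Category.assoc, morphismRestrict_ι, ← Category.assoc,
      IsOpenImmersion.lift_fac, Scheme.Hom.toImage_imageι, Category.id_comp]
  haveI : IsSplitEpi (O.ι.imageι ∣_ O) := ⟨⟨_, hσ⟩⟩
  exact isIso_of_mono_of_isSplitEpi _

section
variable {P T X : Scheme.{u}} (IT : T.IdealSheafData) (IX : X.IdealSheafData)
  (hT : BlowUp.IsEffCartierIdeal IT) (hX : BlowUp.IsEffCartierIdeal IX)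
  (f : X ⟶ P) (g : T ⟶ P) {Y : Scheme.{u}} (π : Y ⟶ ModPair.mprod f g IX IT)
  (K : Y.IdealSheafData) (hY : ModPair.IsAmbProd f g IX IT π K)

include hT hX in
theorem isFiniteTypeIdeal_sup_comap {W : Scheme.{u}} (a : W ⟶ X) (b : W ⟶ T) :
    BlowUp.IsFiniteTypeIdeal (IX.comap a ⊔ IT.comap b) := by
  intro U
  rw [Scheme.IdealSheafData.ideal_sup, Pi.sup_apply]
  exact Submodule.FG.sup
    (Groth.Agent.Lib.Helper2.BlowDom.isFiniteTypeIdeal_comap _
      (Groth.Agent.Lib.Helper2.Quot.fg_of_isEffCartierIdeal hX) U)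
    (Groth.Agent.Lib.Helper2.BlowDom.isFiniteTypeIdeal_comap _
      (Groth.Agent.Lib.Helper2.Quot.fg_of_isEffCartierIdeal hT) U)

include hT hX hY in
/-- two ambient morphisms into an ambient product agreeing on both projections are equal. -/
theorem hom_ext_ambProd
    (hKX : K ≤ IX.comap (π ≫ ModPair.mprodι f g IX IT ≫ pullback.fst f g))
    {W : Scheme.{u}} (IW : W.IdealSheafData) (hW : BlowUp.IsEffCartierIdeal IW)
    (c₁ c₂ : W ⟶ Y) (h₁ : IW ≤ K.comap c₁) (h₂ : IW ≤ K.comap c₂)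
    (e1 : c₁ ≫ π ≫ ModPair.mprodι f g IX IT ≫ pullback.fst f g =
      c₂ ≫ π ≫ ModPair.mprodι f g IX IT ≫ pullback.fst f g)
    (e2 : c₁ ≫ π ≫ ModPair.mprodι f g IX IT ≫ pullback.snd f g =
      c₂ ≫ π ≫ ModPair.mprodι f g IX IT ≫ pullback.snd f g) : c₁ = c₂ := by
  have hπ : c₁ ≫ π = c₂ ≫ π := by
    rw [← cancel_mono (ModPair.mprodι f g IX IT)]
    apply pullback.hom_ext
    · simpa only [Category.assoc] using e1
    · simpa only [Category.assoc] using e2
  have hft : BlowUp.IsFiniteTypeIdeal (ModPair.prodCentre f g IX IT) :=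
    isFiniteTypeIdeal_sup_comap IT IX hT hX _ _
  haveI : IsProper π := Groth.Agent.Lib.Helper2.BlowProper.isProper_of_isBlowUp _ hft π hY.1
  have hadm : ModPair.IsAdmBlowup
      ((IX.comap (ModPair.mprodι f g IX IT ≫ pullback.fst f g)).comap π)
      (IX.comap (ModPair.mprodι f g IX IT ≫ pullback.fst f g)) π :=
    ⟨rfl, inferInstance, isIso_morphismRestrict_of_comap_eq_top _ π hY.1 _
      (comap_ι_interior_eq_top (le_sup_left :
        IX.comap (ModPair.mprodι f g IX IT ≫ pullback.fst f g) ≤ ModPair.prodCentre f g IX IT))⟩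
  have hKX' : K ≤ (IX.comap (ModPair.mprodι f g IX IT ≫ pullback.fst f g)).comap π := by
    rw [← comap_comp]
    exact hKX
  exact hom_ext_of_comp_admBlowup hW c₁ c₂ (le_trans h₁ (comap_mono c₁ hKX'))
    (le_trans h₂ (comap_mono c₂ hKX')) π hadm hπ

include hT hX hY in
/-- compatible ambient morphisms to the two factors lift to the ambient product after an abstract
admissible blow-up of the source. -/
theorem exists_lift_ambProd
    {W : Scheme.{u}} (IW : W.IdealSheafData) (hW : BlowUp.IsEffCartierIdeal IW)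
    (a : W ⟶ X) (b : W ⟶ T) (ha : IW ≤ IX.comap a) (hb : IW ≤ IT.comap b)
    (hab : a ≫ f = b ≫ g) :
    ∃ (W' : Scheme.{u}) (r : W' ⟶ W) (c : W' ⟶ Y),
      BlowUp.IsEffCartierIdeal (IW.comap r) ∧ ModPair.IsAdmBlowup (IW.comap r) IW r ∧
      IW.comap r ≤ K.comap c ∧
      c ≫ π ≫ ModPair.mprodι f g IX IT ≫ pullback.fst f g = r ≫ a ∧
      c ≫ π ≫ ModPair.mprodι f g IX IT ≫ pullback.snd f g = r ≫ b := by
  obtain ⟨hbl, hK⟩ := hY
  -- Step 1: the map to the closure of the product of interiors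
  have hc : ∀ w : W, w ∉ IW.support →
      (pullback.lift a b hab) w ∈ ModPair.prodInterior f g IX IT := by
    intro w hw
    refine ⟨?_, ?_⟩
    · change (pullback.fst f g) ((pullback.lift a b hab) w) ∉ IX.support
      rw [← Scheme.Hom.comp_apply, pullback.lift_fst]
      exact not_mem_support_of_le a ha w hw
    · change (pullback.snd f g) ((pullback.lift a b hab) w) ∉ IT.support
      rw [← Scheme.Hom.comp_apply, pullback.lift_snd]
      exact not_mem_support_of_le b hb w hw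
  obtain ⟨h, hh⟩ := exists_lift_image (ModPair.prodInterior f g IX IT) hW
    (pullback.lift a b hab) hc
  have hh1 : h ≫ ModPair.mprodι f g IX IT ≫ pullback.fst f g = a := by
    rw [← Category.assoc, hh, pullback.lift_fst]
  have hh2 : h ≫ ModPair.mprodι f g IX IT ≫ pullback.snd f g = b := by
    rw [← Category.assoc, hh, pullback.lift_snd]
  -- Step 2: the centre on `W`
  have e𝓒 : (ModPair.prodCentre f g IX IT).comap h = IX.comap a ⊔ IT.comap b := by
    unfold ModPair.prodCentre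
    rw [comap_sup, ← comap_comp, ← comap_comp, hh1, hh2]
  have hle : IW ≤ (ModPair.prodCentre f g IX IT).comap h := by
    rw [e𝓒]
    exact le_trans ha le_sup_left
  have hft : BlowUp.IsFiniteTypeIdeal ((ModPair.prodCentre f g IX IT).comap h) := by
    rw [e𝓒]
    exact isFiniteTypeIdeal_sup_comap IT IX hT hX a b
  -- Step 3: blow up
  obtain ⟨B₁, r₁, hr₁⟩ := Groth.Agent.S8859.result W ((ModPair.prodCentre f g IX IT).comap h)
  haveI : IsProper r₁ := Groth.Agent.Lib.Helper2.BlowProper.isProper_of_isBlowUp _ hft r₁ hr₁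
  -- Step 4: closure of the interior
  haveI : IsAffineHom (r₁ ⁻¹ᵁ ModPair.interior IW).ι := isAffineHom_ι_preimage_interior r₁ hW
  have hN : BlowUp.IsEffCartierIdeal
      (IW.comap ((r₁ ⁻¹ᵁ ModPair.interior IW).ι.imageι ≫ r₁)) :=
    effCartier_comap_image (r₁ ⁻¹ᵁ ModPair.interior IW) r₁ hW (fun z hz => hz)
  have hadm : ModPair.IsAdmBlowup (IW.comap ((r₁ ⁻¹ᵁ ModPair.interior IW).ι.imageι ≫ r₁)) IW
      ((r₁ ⁻¹ᵁ ModPair.interior IW).ι.imageι ≫ r₁) := by
    refine ⟨rfl, inferInstance, ?_⟩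
    rw [morphismRestrict_comp]
    have h1 : IsIso ((r₁ ⁻¹ᵁ ModPair.interior IW).ι.imageι ∣_ r₁ ⁻¹ᵁ ModPair.interior IW) :=
      isIso_imageι_restrict _
    have h2 : IsIso (r₁ ∣_ ModPair.interior IW) :=
      isIso_morphismRestrict_of_comap_eq_top _ r₁ hr₁ _ (comap_ι_interior_eq_top hle)
    exact @IsIso.comp_isIso _ _ _ _ _ _ _ h1 h2
  -- Step 5: the lift to the blow-up `Y`
  have hO : ∀ z ∈ r₁ ⁻¹ᵁ ModPair.interior IW, (𝟙 B₁ : B₁ ⟶ B₁) z ∉
      (((ModPair.prodCentre f g IX IT).comap h).comap r₁).support := by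
    intro z hz hz'
    have hz'' : z ∈ (((ModPair.prodCentre f g IX IT).comap h).comap r₁).support := hz'
    rw [mem_support_comap] at hz''
    exact hz (support_antitone hle hz'')
  have hE1 := effCartier_comap_image (r₁ ⁻¹ᵁ ModPair.interior IW) (𝟙 B₁) hr₁.1 hO
  rw [Category.comp_id] at hE1
  have hEC : BlowUp.IsEffCartierIdeal ((ModPair.prodCentre f g IX IT).comap
      (((r₁ ⁻¹ᵁ ModPair.interior IW).ι.imageι ≫ r₁) ≫ h)) := by
    rw [comap_comp, comap_comp]
    exact hE1
  obtain ⟨c₀, hc₀, -⟩ := hbl.2 _ (((r₁ ⁻¹ᵁ ModPair.interior IW).ι.imageι ≫ r₁) ≫ h) hEC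
  have hc₀' : c₀ ≫ π = ((r₁ ⁻¹ᵁ ModPair.interior IW).ι.imageι ≫ r₁) ≫ h := hc₀
  refine ⟨_, (r₁ ⁻¹ᵁ ModPair.interior IW).ι.imageι ≫ r₁, c₀, hN, hadm, ?_, ?_, ?_⟩
  · -- the modulus condition
    generalize (r₁ ⁻¹ᵁ ModPair.interior IW).ι.imageι ≫ r₁ = r at *
    have hE3 : BlowUp.IsEffCartierIdeal (((ModPair.prodCentre f g IX IT).comap π).comap c₀) := by
      rw [← comap_comp, hc₀']
      exact hEC
    have eI : (IX.comap (ModPair.mprodι f g IX IT ≫ pullback.fst f g)).comap (r ≫ h) =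
        IX.comap (r ≫ a) := by
      rw [← comap_comp, Category.assoc, hh1]
    have eJ : (IT.comap (ModPair.mprodι f g IX IT ≫ pullback.snd f g)).comap (r ≫ h) =
        IT.comap (r ≫ b) := by
      rw [← comap_comp, Category.assoc, hh2]
    have eE : ((ModPair.prodCentre f g IX IT).comap π).comap c₀ =
        IX.comap (r ≫ a) ⊔ IT.comap (r ≫ b) := by
      rw [← comap_comp, hc₀']
      unfold ModPair.prodCentre
      rw [comap_sup, eI, eJ]
    have hNI : IW.comap r ≤ IX.comap (r ≫ a) := by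
      rw [comap_comp]
      exact comap_mono r ha
    have hNJ : IW.comap r ≤ IT.comap (r ≫ b) := by
      rw [comap_comp]
      exact comap_mono r hb
    have hKE : K.comap c₀ * ((ModPair.prodCentre f g IX IT).comap π).comap c₀ =
        IX.comap (r ≫ a) * IT.comap (r ≫ b) := by
      rw [← comap_mul c₀ K, hK, comap_mul, ← comap_comp _ c₀ π, ← comap_comp _ c₀ π, hc₀', eI, eJ]
    apply Groth.Agent.Lib.Helper2.EffQuot.le_of_mul_le_mul hE3
    rw [hKE, eE, ← Scheme.IdealSheafData.add_eq_sup, mul_add, Scheme.IdealSheafData.add_eq_sup]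
    apply sup_le
    · rw [mul_comm]
      exact mul_le_mul' le_rfl hNJ
    · exact mul_le_mul' hNI le_rfl
  · rw [← Category.assoc, hc₀', Category.assoc, hh1]
  · rw [← Category.assoc, hc₀', Category.assoc, hh2]

end

end Groth.Agent.Lib.Helper11.AmbProd
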