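import Groth.Prelude
import Mathlib

/-!
# Anti-affine schemes: morphisms to affine schemes are constant (helper11)
-/

set_option autoImplicit false

open CategoryTheory AlgebraicGeometry CategoryTheory.Limits MonoidalCategory CartesianMonoidalCategory

namespace Groth.Agent.Lib.Helper11AntiAffine

universe u

/-- a morphism to an affine scheme factors through the affinization -/
theorem exists_factor_toSpecΓ {X Y : Scheme.{u}} [IsAffine Y] (φ : X ⟶ Y) :
    ∃ φ' : Spec Γ(X, ⊤) ⟶ Y, φ = X.toSpecΓ ≫ φ' := by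
  refine ⟨Spec.map φ.appTop ≫ inv Y.toSpecΓ, ?_⟩
  rw [← Category.assoc, ← Scheme.toSpecΓ_naturality, Category.assoc, IsIso.hom_inv_id,
    Category.comp_id]

/-- anti-affine: the affinization map factors through the structure map -/
theorem exists_factor_of_bijective (k : Type u) [Field k] (X : Over (Spec (CommRingCat.of k)))
    (hX : Function.Bijective ((Scheme.ΓSpecIso (CommRingCat.of k)).inv ≫ X.hom.appTop).hom) :
    ∃ c : Spec (CommRingCat.of k) ⟶ Spec Γ(X.left, ⊤), X.left.toSpecΓ = X.hom ≫ c := by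
  have h1 : IsIso ((Scheme.ΓSpecIso (CommRingCat.of k)).inv ≫ X.hom.appTop) :=
    (ConcreteCategory.isIso_iff_bijective _).mpr hX
  have h2 : IsIso X.hom.appTop :=
    IsIso.of_isIso_comp_left (Scheme.ΓSpecIso (CommRingCat.of k)).inv X.hom.appTop
  refine ⟨(Spec (CommRingCat.of k)).toSpecΓ ≫ inv (Spec.map X.hom.appTop), ?_⟩
  rw [← Category.assoc, Scheme.toSpecΓ_naturality, Category.assoc, IsIso.hom_inv_id,
    Category.comp_id]

/-- every morphism from an anti-affine `k`-scheme to an affine scheme is constant -/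
theorem exists_const_of_bijective (k : Type u) [Field k] (X : Over (Spec (CommRingCat.of k)))
    (hX : Function.Bijective ((Scheme.ΓSpecIso (CommRingCat.of k)).inv ≫ X.hom.appTop).hom)
    {Y : Scheme.{u}} [IsAffine Y] (φ : X.left ⟶ Y) :
    ∃ c : Spec (CommRingCat.of k) ⟶ Y, φ = X.hom ≫ c := by
  obtain ⟨φ', hφ'⟩ := exists_factor_toSpecΓ φ
  obtain ⟨c, hc⟩ := exists_factor_of_bijective k X hX
  exact ⟨c ≫ φ', by rw [hφ', hc, Category.assoc]⟩

/-- every morphism `φ` from an anti-affine `k`-scheme with a rational point `e` to an affine scheme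
is constant with value `φ(e)` -/
theorem eq_toUnit_comp_of_bijective (k : Type u) [Field k] (X : Over (Spec (CommRingCat.of k)))
    (hX : Function.Bijective ((Scheme.ΓSpecIso (CommRingCat.of k)).inv ≫ X.hom.appTop).hom)
    (e : 𝟙_ (Over (Spec (CommRingCat.of k))) ⟶ X) {Y : Scheme.{u}} [IsAffine Y] (φ : X.left ⟶ Y) :
    φ = (toUnit X).left ≫ e.left ≫ φ := by
  obtain ⟨c, hc⟩ := exists_const_of_bijective k X hX φ
  have hu : (toUnit X).left = X.hom := by
    have := Over.w (toUnit X)
    rw [← this]
    exact (Category.comp_id _).symm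
  have he : e.left ≫ X.hom = 𝟙 _ := Over.w e
  have h1 : e.left ≫ φ = c := by
    rw [hc, ← Category.assoc, he]
    exact Category.id_comp _
  rw [h1, hu]
  exact hc

end Groth.Agent.Lib.Helper11AntiAffine
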