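import Mathlib
import Groth.Prelude.Def_TwC

set_option autoImplicit false
universe u

open CategoryTheory MonoidalCategory CartesianMonoidalCategory AlgebraicGeometry Limits

namespace Groth.Agent.Lib.Helper11ConstPts

variable {S : Scheme.{u}} (M : Type)

instance (m : M) : IsOpenImmersion (Sigma.ι (fun _ : M => S) m) := inferInstance

/-- the piece of `X` lying over the `m`-th copy -/
noncomputable def piece {X : Over S} (z : X ⟶ TwC.const S M) (m : M) : X.left.Opens :=
  z.left ⁻¹ᵁ (Sigma.ι (fun _ : M => S) m).opensRange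

lemma iSup_piece {X : Over S} (z : X ⟶ TwC.const S M) : ⨆ m, piece M z m = ⊤ := by
  rw [eq_top_iff]
  intro x _
  rw [TopologicalSpace.Opens.mem_iSup]
  obtain ⟨m, y, hy⟩ := (sigmaOpenCover (fun _ : M => S)).exists_eq (z.left.base x)
  exact ⟨m, ⟨y, hy⟩⟩

lemma piece_ι_comp {X : Over S} (z : X ⟶ TwC.const S M) (m : M) :
    (piece M z m).ι ≫ z.left = ((piece M z m).ι ≫ X.hom) ≫ Sigma.ι (fun _ : M => S) m := by
  have hr : Set.range ((piece M z m).ι ≫ z.left).base ⊆
      Set.range (Sigma.ι (fun _ : M => S) m).base := by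
    rintro _ ⟨x, rfl⟩
    exact x.2
  have h1 := IsOpenImmersion.lift_fac (Sigma.ι (fun _ : M => S) m) ((piece M z m).ι ≫ z.left) hr
  have h2 : IsOpenImmersion.lift (Sigma.ι (fun _ : M => S) m) ((piece M z m).ι ≫ z.left) hr =
      (piece M z m).ι ≫ X.hom := by
    have h3 : Sigma.ι (fun _ : M => S) m ≫ (TwC.const S M).hom = 𝟙 S := by
      simp
    calc IsOpenImmersion.lift (Sigma.ι (fun _ : M => S) m) ((piece M z m).ι ≫ z.left) hr
        = IsOpenImmersion.lift (Sigma.ι (fun _ : M => S) m) ((piece M z m).ι ≫ z.left) hr ≫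
            Sigma.ι (fun _ : M => S) m ≫ (TwC.const S M).hom := by rw [h3, Category.comp_id]
      _ = ((piece M z m).ι ≫ z.left) ≫ (TwC.const S M).hom := by rw [← Category.assoc, h1]
      _ = (piece M z m).ι ≫ X.hom := by rw [Category.assoc, Over.w z]
  rw [← h2, h1]

lemma le_piece_ι_comp {X : Over S} (z : X ⟶ TwC.const S M) (m : M) (V : X.left.Opens)
    (hV : V ≤ piece M z m) :
    V.ι ≫ z.left = (V.ι ≫ X.hom) ≫ Sigma.ι (fun _ : M => S) m := by
  have h := piece_ι_comp M z m
  have h2 : X.left.homOfLE hV ≫ (piece M z m).ι = V.ι := Scheme.homOfLE_ι _ _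
  rw [← h2, Category.assoc, h, Category.assoc, Category.assoc, Category.assoc]

section Glue

variable {X : Over S} (U : M → X.left.Opens) (hU : TopologicalSpace.IsOpenCover U)
  (hd : ∀ m m', m ≠ m' → U m ⊓ U m' = ⊥)

include hd in
lemma glue_compat (m m' : M) :
    pullback.fst ((X.left.openCoverOfIsOpenCover U hU).f m)
        ((X.left.openCoverOfIsOpenCover U hU).f m') ≫
      (((U m).ι ≫ X.hom) ≫ Sigma.ι (fun _ : M => S) m) =
    pullback.snd ((X.left.openCoverOfIsOpenCover U hU).f m)
        ((X.left.openCoverOfIsOpenCover U hU).f m') ≫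
      (((U m').ι ≫ X.hom) ≫ Sigma.ι (fun _ : M => S) m') := by
  by_cases h : m = m'
  · subst h
    have h1 : pullback.fst ((X.left.openCoverOfIsOpenCover U hU).f m)
        ((X.left.openCoverOfIsOpenCover U hU).f m) =
        pullback.snd ((X.left.openCoverOfIsOpenCover U hU).f m)
        ((X.left.openCoverOfIsOpenCover U hU).f m) := by
      have : Mono ((X.left.openCoverOfIsOpenCover U hU).f m) := by
        show Mono (U m).ι
        infer_instance
      rw [← cancel_mono ((X.left.openCoverOfIsOpenCover U hU).f m)]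
      exact pullback.condition
    rw [h1]
  · have hE : IsEmpty ↑(pullback ((X.left.openCoverOfIsOpenCover U hU).f m)
        ((X.left.openCoverOfIsOpenCover U hU).f m')) := by
      refine ⟨fun t => ?_⟩
      have h1 : (pullback.fst ((X.left.openCoverOfIsOpenCover U hU).f m)
          ((X.left.openCoverOfIsOpenCover U hU).f m') ≫ (U m).ι).base t ∈ U m := by
        rw [Scheme.Hom.comp_base, TopCat.comp_app]
        exact ((pullback.fst ((X.left.openCoverOfIsOpenCover U hU).f m)
          ((X.left.openCoverOfIsOpenCover U hU).f m')).base t).2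
      have h2 : (pullback.fst ((X.left.openCoverOfIsOpenCover U hU).f m)
          ((X.left.openCoverOfIsOpenCover U hU).f m') ≫ (U m).ι).base t ∈ U m' := by
        have hc : pullback.fst ((X.left.openCoverOfIsOpenCover U hU).f m)
          ((X.left.openCoverOfIsOpenCover U hU).f m') ≫ (U m).ι =
          pullback.snd ((X.left.openCoverOfIsOpenCover U hU).f m)
          ((X.left.openCoverOfIsOpenCover U hU).f m') ≫ (U m').ι := pullback.condition
        rw [hc, Scheme.Hom.comp_base, TopCat.comp_app]
        exact ((pullback.snd ((X.left.openCoverOfIsOpenCover U hU).f m)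
          ((X.left.openCoverOfIsOpenCover U hU).f m')).base t).2
      have h3 : (pullback.fst ((X.left.openCoverOfIsOpenCover U hU).f m)
          ((X.left.openCoverOfIsOpenCover U hU).f m') ≫ (U m).ι).base t ∈ U m ⊓ U m' := ⟨h1, h2⟩
      rw [hd m m' h] at h3
      exact h3
    exact (isInitialOfIsEmpty (X := pullback ((X.left.openCoverOfIsOpenCover U hU).f m)
      ((X.left.openCoverOfIsOpenCover U hU).f m'))).hom_ext _ _

/-- a point of the constant scheme from a disjoint open cover -/
noncomputable def mkPt : X ⟶ TwC.const S M :=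
  Over.homMk ((X.left.openCoverOfIsOpenCover U hU).glueMorphisms
    (fun m => ((U m).ι ≫ X.hom) ≫ Sigma.ι (fun _ : M => S) m) (glue_compat M U hU hd)) (by
    apply (X.left.openCoverOfIsOpenCover U hU).hom_ext
    intro m
    rw [← Category.assoc, Scheme.Cover.ι_glueMorphisms]
    show (((U m).ι ≫ X.hom) ≫ Sigma.ι (fun _ : M => S) m) ≫ (TwC.const S M).hom = (U m).ι ≫ X.hom
    rw [Category.assoc]
    have h3 : Sigma.ι (fun _ : M => S) m ≫ (TwC.const S M).hom = 𝟙 S := by
      simp
    rw [h3, Category.comp_id])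

lemma mkPt_spec (m : M) :
    (U m).ι ≫ (mkPt M U hU hd).left = ((U m).ι ≫ X.hom) ≫ Sigma.ι (fun _ : M => S) m := by
  exact (X.left.openCoverOfIsOpenCover U hU).ι_glueMorphisms
    (fun m => ((U m).ι ≫ X.hom) ≫ Sigma.ι (fun _ : M => S) m) (glue_compat M U hU hd) m

end Glue

/-- two points of the constant scheme which have the same label on the members of an open cover
are equal -/
lemma pt_ext {X : Over S} (z z' : X ⟶ TwC.const S M)
    (h : ∀ x : X.left, ∃ (V : X.left.Opens) (m : M), x ∈ V ∧
      V.ι ≫ z.left = (V.ι ≫ X.hom) ≫ Sigma.ι (fun _ : M => S) m ∧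
      V.ι ≫ z'.left = (V.ι ≫ X.hom) ≫ Sigma.ι (fun _ : M => S) m) : z = z' := by
  apply Over.OverMorphism.ext
  apply Scheme.hom_ext_of_forall
  intro x
  obtain ⟨V, m, hx, h1, h2⟩ := h x
  exact ⟨V, hx, h1.trans h2.symm⟩

end Groth.Agent.Lib.Helper11ConstPts
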