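import Mathlib

set_option autoImplicit false
universe u

namespace Groth.Agent.Lib.Helper11Rigidity

open CategoryTheory MonoidalCategory CartesianMonoidalCategory AlgebraicGeometry Limits

/-- if `p : X ⟶ S` induces a bijection on global sections and has a section `x₀`, then any
morphism from `X` landing in an affine open is constant along `p`. -/
lemma eq_comp_of_appTop_bijective {X S Y : Scheme.{u}} (p : X ⟶ S) (x₀ : S ⟶ X)
    (hx₀ : x₀ ≫ p = 𝟙 S) (hp : Function.Bijective p.appTop) (a : X ⟶ Y)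
    (U : Y.Opens) (hU : IsAffineOpen U) (hrange : Set.range a.base ⊆ U) :
    a = p ≫ x₀ ≫ a := by
  have hU' : IsAffine (U : Scheme.{u}) := hU
  have h1 : Set.range a.base ⊆ Set.range U.ι.base := by
    rw [Scheme.Opens.range_ι]; exact hrange
  have h2 : Set.range (x₀ ≫ a).base ⊆ Set.range U.ι.base := by
    rw [Scheme.Opens.range_ι]
    rintro _ ⟨s, rfl⟩
    exact hrange ⟨x₀.base s, by simp⟩
  set ψ := IsOpenImmersion.lift U.ι a h1 with hψ
  set ε := IsOpenImmersion.lift U.ι (x₀ ≫ a) h2 with hε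
  have hψ' : ψ ≫ U.ι = a := IsOpenImmersion.lift_fac _ _ _
  have hε' : ε ≫ U.ι = x₀ ≫ a := IsOpenImmersion.lift_fac _ _ _
  have h3 : x₀ ≫ ψ = ε := by
    rw [← cancel_mono U.ι, Category.assoc, hψ', hε']
  have hiso : IsIso p.appTop := (ConcreteCategory.isIso_iff_bijective _).mpr hp
  have h4 : p.appTop ≫ x₀.appTop = 𝟙 _ := by
    rw [← Scheme.Hom.comp_appTop, hx₀]; rfl
  have h5 : x₀.appTop ≫ p.appTop = 𝟙 _ := by
    rw [← cancel_epi p.appTop, ← Category.assoc, h4, Category.id_comp, Category.comp_id]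
  have h6 : ψ = p ≫ ε := by
    apply ext_of_isAffine
    rw [Scheme.Hom.comp_appTop, ← h3, Scheme.Hom.comp_appTop, Category.assoc, h5, Category.comp_id]
  rw [← hε', ← Category.assoc, ← h6, hψ']

variable {K : Type u} [Field K]

/-- global sections of a proper integral scheme over an algebraically closed field -/
lemma appTop_bijective_of_isAlgClosed [IsAlgClosed K] {X : Scheme.{u}}
    (p : X ⟶ Spec (CommRingCat.of K)) [IsProper p] [IsIntegral X] :
    Function.Bijective p.appTop := by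
  have hfin := finite_appTop_of_universallyClosed K p
  let F := (Scheme.ΓSpecIso (CommRingCat.of K)).inv ≫ p.appTop
  have hF : F.hom.IsIntegral := by
    have h1 : (Scheme.ΓSpecIso (CommRingCat.of K)).inv.hom.IsIntegral :=
      RingHom.isIntegral_of_surjective _
        ((ConcreteCategory.isIso_iff_bijective (Scheme.ΓSpecIso (CommRingCat.of K)).inv).mp
          inferInstance).2
    exact RingHom.IsIntegral.trans _ _ h1 hfin.to_isIntegral
  have hbij : Function.Bijective F.hom :=
    IsAlgClosed.ringHom_bijective_of_isIntegral F.hom hF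
  have h2 : Function.Bijective (Scheme.ΓSpecIso (CommRingCat.of K)).hom :=
    (ConcreteCategory.isIso_iff_bijective _).mp inferInstance
  have h3 : ⇑p.appTop = ⇑F.hom ∘ ⇑(Scheme.ΓSpecIso (CommRingCat.of K)).hom := by
    funext a
    change _ = p.appTop.hom ((Scheme.ΓSpecIso (CommRingCat.of K)).inv.hom
      ((Scheme.ΓSpecIso (CommRingCat.of K)).hom.hom a))
    rw [Iso.hom_inv_id_apply]
  rw [h3]
  exact hbij.comp h2

/-- the section `x ↦ (x, y)` of `X ⊗ Y` attached to a point `y` of `Y` -/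
abbrev slice {C : Type*} [Category C] [CartesianMonoidalCategory C] (X : C) {Y : C}
    (y : 𝟙_ C ⟶ Y) : X ⟶ X ⊗ Y :=
  lift (𝟙 X) (toUnit X ≫ y)

lemma isPullback_slice (X Y : Over (Spec (CommRingCat.of K)))
    (y : 𝟙_ (Over (Spec (CommRingCat.of K))) ⟶ Y) :
    IsPullback X.hom (slice X y).left y.left (snd X Y).left := by
  have hright : IsPullback (snd X Y).left (fst X Y).left Y.hom X.hom :=
    (IsPullback.of_hasPullback X.hom Y.hom).flip
  have houter : IsPullback X.hom ((slice X y).left ≫ (fst X Y).left) (y.left ≫ Y.hom) X.hom := by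
    have e1 : y.left ≫ Y.hom = 𝟙 (Spec (CommRingCat.of K)) := Over.w y
    have e2 : (slice X y).left ≫ (fst X Y).left = 𝟙 _ := by
      rw [← Over.comp_left, lift_fst]; rfl
    rw [e1, e2]
    exact IsPullback.of_vert_isIso ⟨by simp⟩
  refine IsPullback.of_bot houter ?_ hright
  rw [← Over.comp_left, lift_snd, Over.comp_left]
  rfl

lemma range_slice (X Y : Over (Spec (CommRingCat.of K)))
    (y : 𝟙_ (Over (Spec (CommRingCat.of K))) ⟶ Y) :
    Set.range (slice X y).left.base = (snd X Y).left.base ⁻¹' Set.range y.left.base := by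
  have := Scheme.image_preimage_eq_of_isPullback (isPullback_slice X Y y) Set.univ
  simpa using this

section AlgClosed

variable [IsAlgClosed K]

theorem rigidity_algClosed (X Y Z : Over (Spec (CommRingCat.of K))) [IsProper X.hom]
    [IsIntegral X.left] [LocallyOfFiniteType Y.hom] [IsIntegral (X ⊗ Y).left]
    [IsSeparated Z.hom] [LocallyOfFiniteType Z.hom]
    (f : X ⊗ Y ⟶ Z) (x₀ : 𝟙_ (Over (Spec (CommRingCat.of K))) ⟶ X)
    (y₀ : 𝟙_ (Over (Spec (CommRingCat.of K))) ⟶ Y) (z₀ : 𝟙_ (Over (Spec (CommRingCat.of K))) ⟶ Z)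
    (h : slice X y₀ ≫ f = toUnit X ≫ z₀) :
    f = snd X Y ≫ lift (toUnit Y ≫ x₀) (𝟙 Y) ≫ f := by
  let S := Spec (CommRingCat.of K)
  let pt : S := IsLocalRing.closedPoint K
  have hpt : ∀ s : S, s = pt := fun s => Subsingleton.elim _ _
  have hΓ : Function.Bijective X.hom.appTop := appTop_bijective_of_isAlgClosed X.hom
  have hx₀ : x₀.left ≫ X.hom = 𝟙 S := Over.w x₀
  -- affine neighbourhood of `z₀`
  obtain ⟨_, ⟨U, hU, rfl⟩, hzU, -⟩ := Z.left.isBasis_affineOpens.exists_subset_of_mem_open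
    (Set.mem_univ (z₀.left.base pt)) isOpen_univ
  -- the bad locus
  let F : Set (X ⊗ Y).left := f.left.base ⁻¹' ((U : Set Z.left)ᶜ)
  have hF : IsClosed F := (U.2.isClosed_compl).preimage f.left.continuous
  have hprop : IsProper (snd X Y).left := by
    rw [Over.snd_left]; infer_instance
  have hcl : IsClosedMap (snd X Y).left.base := (snd X Y).left.isClosedMap
  let W : Set Y.left := (snd X Y).left.base '' F
  have hW : IsClosed W := hcl _ hF
  -- slices over points of `Wᶜ` land in `U`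
  have hslice : ∀ y : 𝟙_ (Over S) ⟶ Y, y.left.base pt ∉ W →
      Set.range (slice X y ≫ f).left.base ⊆ U := by
    intro y hy
    rintro _ ⟨x, rfl⟩
    by_contra hx
    apply hy
    refine ⟨(slice X y).left.base x, ?_, ?_⟩
    · simpa [F] using hx
    · rw [← Scheme.Hom.comp_apply, ← Over.comp_left, lift_snd, Over.comp_left,
        Scheme.Hom.comp_apply]
      congr 1
      exact hpt _
  -- `y₀ ∉ W`
  have hy₀ : y₀.left.base pt ∉ W := by
    rintro ⟨c, hcF, hc⟩
    have hc' : c ∈ Set.range (slice X y₀).left.base := by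
      rw [range_slice]
      exact ⟨pt, hc.symm⟩
    obtain ⟨x, rfl⟩ := hc'
    apply hcF
    show f.left.base ((slice X y₀).left.base x) ∈ (U : Set Z.left)
    rw [← Scheme.Hom.comp_apply, ← Over.comp_left, h, Over.comp_left, Scheme.Hom.comp_apply]
    convert hzU using 2
    exact hpt _
  -- the dense open set
  let T : Set (X ⊗ Y).left := (snd X Y).left.base ⁻¹' Wᶜ
  have hTo : IsOpen T := hW.isOpen_compl.preimage (snd X Y).left.continuous
  have hTne : T.Nonempty := by
    refine ⟨(slice X y₀).left.base (x₀.left.base pt), ?_⟩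
    show (snd X Y).left.base _ ∈ Wᶜ
    have hmem : (snd X Y).left.base ((slice X y₀).left.base (x₀.left.base pt)) =
        y₀.left.base pt := by
      rw [← Scheme.Hom.comp_apply, ← Over.comp_left, lift_snd, Over.comp_left,
        Scheme.Hom.comp_apply]
      exact congrArg y₀.left.base (hpt _)
    rw [hmem]
    exact hy₀
  have hTd : Dense T := hTo.dense hTne
  have hlft : LocallyOfFiniteType (X ⊗ Y).hom := by
    rw [Over.tensorObj_hom]; infer_instance
  have hlft' : LocallyOfFiniteType (f.left ≫ Z.hom) := by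
    rw [Over.w f]; exact hlft
  ext1
  refine ext_of_apply_eq Z.hom T hTo.isLocallyClosed hTd ?_ ?_
  · intro c hcT hc
    obtain ⟨⟨p, hp⟩, e⟩ := (pointEquivClosedPoint (X ⊗ Y).hom).surjective ⟨c, hc⟩
    obtain rfl : p.base pt = c := congr(($e).1)
    let c' : 𝟙_ (Over S) ⟶ X ⊗ Y := Over.homMk p hp
    let x : 𝟙_ (Over S) ⟶ X := c' ≫ fst X Y
    let y : 𝟙_ (Over S) ⟶ Y := c' ≫ snd X Y
    have hyW : y.left.base pt ∉ W := hcT
    have hc' : c' = x ≫ slice X y := by
      ext1
      · rw [Category.assoc, lift_fst, Category.comp_id]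
      · rw [Category.assoc, lift_snd, ← Category.assoc, toUnit_unique (x ≫ toUnit X) (𝟙 _),
          Category.id_comp]
    have key : (slice X y ≫ f).left = X.hom ≫ x₀.left ≫ (slice X y ≫ f).left :=
      eq_comp_of_appTop_bijective X.hom x₀.left hx₀ hΓ _ U hU (hslice y hyW)
    have key' : slice X y ≫ f = toUnit X ≫ x₀ ≫ slice X y ≫ f := by
      ext1
      rw [key]
      rfl
    have e1 : c' ≫ f = x₀ ≫ slice X y ≫ f := by
      calc c' ≫ f = x ≫ (slice X y ≫ f) := by rw [hc', Category.assoc]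
        _ = x ≫ (toUnit X ≫ x₀ ≫ slice X y ≫ f) := by rw [← key']
        _ = x₀ ≫ slice X y ≫ f := by
          rw [← Category.assoc, toUnit_unique (x ≫ toUnit X) (𝟙 _), Category.id_comp]
    have e2 : c' ≫ snd X Y ≫ lift (toUnit Y ≫ x₀) (𝟙 Y) ≫ f = x₀ ≫ slice X y ≫ f := by
      have : (c' ≫ snd X Y) ≫ lift (toUnit Y ≫ x₀) (𝟙 Y) = x₀ ≫ slice X y := by
        ext1
        · simp only [Category.assoc, lift_fst, Category.comp_id]
          rw [← Category.assoc, ← Category.assoc,
            toUnit_unique ((c' ≫ snd X Y) ≫ toUnit Y) (𝟙 _), Category.id_comp]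
        · simp only [Category.assoc, lift_snd, Category.comp_id]
          rw [← Category.assoc, toUnit_unique (x₀ ≫ toUnit X) (𝟙 _), Category.id_comp]
      rw [← Category.assoc, ← Category.assoc, this, Category.assoc]
    have e3 : (c' ≫ f).left = (c' ≫ snd X Y ≫ lift (toUnit Y ≫ x₀) (𝟙 Y) ≫ f).left := by
      rw [e1, e2]
    have := congrArg (fun q : S ⟶ Z.left => q.base pt) e3
    simpa [c'] using this
  · rw [Over.w f, Over.w]

end AlgClosed

section General

open Functor.LaxMonoidal Functor.Monoidal in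
/-- **Rigidity lemma** over an arbitrary field, with rational base points. -/
theorem rigidity (X Y Z : Over (Spec (CommRingCat.of K))) [IsProper X.hom]
    [GeometricallyIntegral X.hom] [LocallyOfFiniteType Y.hom] [GeometricallyIntegral Y.hom]
    [IsSeparated Z.hom] [LocallyOfFiniteType Z.hom]
    (f : X ⊗ Y ⟶ Z) (x₀ : 𝟙_ (Over (Spec (CommRingCat.of K))) ⟶ X)
    (y₀ : 𝟙_ (Over (Spec (CommRingCat.of K))) ⟶ Y) (z₀ : 𝟙_ (Over (Spec (CommRingCat.of K))) ⟶ Z)
    (h : slice X y₀ ≫ f = toUnit X ≫ z₀) :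
    f = snd X Y ≫ lift (toUnit Y ≫ x₀) (𝟙 Y) ≫ f := by
  let φ := Spec.map (CommRingCat.ofHom <| algebraMap K (AlgebraicClosure K))
  let F := Over.pullback φ
  let X' := F.obj X
  let Y' := F.obj Y
  let Z' := F.obj Z
  have : IsProper X'.hom := by dsimp [X', F]; infer_instance
  have : IsIntegral X'.left := by dsimp [X', F]; infer_instance
  have : LocallyOfFiniteType Y'.hom := by dsimp [Y', F]; infer_instance
  have : IsIntegral (X' ⊗ Y').left := by dsimp [X', Y', F]; infer_instance
  have : IsSeparated Z'.hom := by dsimp [Z', F]; infer_instance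
  have : LocallyOfFiniteType Z'.hom := by dsimp [Z', F]; infer_instance
  let f' : X' ⊗ Y' ⟶ Z' := μ F X Y ≫ F.map f
  let x₀' : 𝟙_ _ ⟶ X' := ε F ≫ F.map x₀
  let y₀' : 𝟙_ _ ⟶ Y' := ε F ≫ F.map y₀
  let z₀' : 𝟙_ _ ⟶ Z' := ε F ≫ F.map z₀
  have hsl : ∀ {A B : Over (Spec (CommRingCat.of K))} (b : 𝟙_ _ ⟶ B),
      slice (F.obj A) (ε F ≫ F.map b) ≫ μ F A B = F.map (slice A b) := by
    intro A B b
    rw [← lift_μ, F.map_id, F.map_comp, ← toUnit_ε, Category.assoc]
  have h' : slice X' y₀' ≫ f' = toUnit X' ≫ z₀' := by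
    show slice (F.obj X) (ε F ≫ F.map y₀) ≫ μ F X Y ≫ F.map f = _
    rw [← Category.assoc, hsl, ← F.map_comp, h, F.map_comp, ← toUnit_ε, Category.assoc]
  have key := rigidity_algClosed X' Y' Z' f' x₀' y₀' z₀' h'
  have hμ : IsIso (μ F X Y) := inferInstance
  apply F.map_injective
  rw [← cancel_epi (μ F X Y)]
  show f' = _
  rw [key]
  show snd (F.obj X) (F.obj Y) ≫ lift (toUnit (F.obj Y) ≫ ε F ≫ F.map x₀) (𝟙 (F.obj Y)) ≫
    μ F X Y ≫ F.map f = _
  have h2 : lift (toUnit (F.obj Y) ≫ ε F ≫ F.map x₀) (𝟙 (F.obj Y)) ≫ μ F X Y =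
      F.map (lift (toUnit Y ≫ x₀) (𝟙 Y)) := by
    rw [← lift_μ, F.map_id, F.map_comp, ← toUnit_ε, Category.assoc]
  rw [← Category.assoc (lift _ _), h2, ← μ_snd, Category.assoc, ← F.map_comp, ← F.map_comp]

end General

end Groth.Agent.Lib.Helper11Rigidity
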