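import Mathlib
import Groth.Agent.Lib.Helper11Rigidity

set_option autoImplicit false
universe u

namespace Groth.Agent.Lib.Helper11Rigidity

open CategoryTheory MonoidalCategory CartesianMonoidalCategory AlgebraicGeometry Limits MonObj

section Formal

variable {C : Type*} [Category C] [CartesianMonoidalCategory C]

theorem pt_toUnit {X : C} (x : 𝟙_ C ⟶ X) : x ≫ toUnit X = 𝟙 (𝟙_ C) := toUnit_unique _ _

theorem eta_eq_one {A : C} [MonObj A] : η[A] = (1 : 𝟙_ C ⟶ A) := MonObj.one_eq_one A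

theorem toUnit_eta {X A : C} [MonObj A] : toUnit X ≫ η[A] = (1 : X ⟶ A) := by
  rw [eta_eq_one, MonObj.comp_one]

/-- criterion for being a monoid homomorphism in terms of the Hom-monoids -/
theorem isMonHom_of_mul {M N : C} [MonObj M] [MonObj N] (h : M ⟶ N)
    (h0 : η[M] ≫ h = η[N])
    (h1 : (fst M M * snd M M) ≫ h = (fst M M ≫ h) * (snd M M ≫ h)) : IsMonHom h where
  one_hom := h0
  mul_hom := by
    rw [MonObj.mul_eq_mul M, h1, Hom.mul_def]
    congr 1
    ext <;> simp

end Formal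

variable {K : Type u} [Field K]

/-- a morphism from a product which is constant along both axes is constant -/
theorem const_of_axes (X Y Z : Over (Spec (CommRingCat.of K))) [IsProper X.hom]
    [GeometricallyIntegral X.hom] [LocallyOfFiniteType Y.hom] [GeometricallyIntegral Y.hom]
    [IsSeparated Z.hom] [LocallyOfFiniteType Z.hom]
    (f : X ⊗ Y ⟶ Z) (x₀ : 𝟙_ (Over (Spec (CommRingCat.of K))) ⟶ X)
    (y₀ : 𝟙_ (Over (Spec (CommRingCat.of K))) ⟶ Y) (z₀ : 𝟙_ (Over (Spec (CommRingCat.of K))) ⟶ Z)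
    (h1 : slice X y₀ ≫ f = toUnit X ≫ z₀)
    (h2 : lift (toUnit Y ≫ x₀) (𝟙 Y) ≫ f = toUnit Y ≫ z₀) :
    f = toUnit _ ≫ z₀ := by
  rw [rigidity X Y Z f x₀ y₀ z₀ h1, h2, ← Category.assoc]
  congr 1
  exact toUnit_unique _ _

/-- group-valued version: trivial along both axes implies trivial -/
theorem eq_one_of_axes (X Y Z : Over (Spec (CommRingCat.of K))) [IsProper X.hom]
    [GeometricallyIntegral X.hom] [LocallyOfFiniteType Y.hom] [GeometricallyIntegral Y.hom]
    [GrpObj Z] [IsSeparated Z.hom] [LocallyOfFiniteType Z.hom]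
    (f : X ⊗ Y ⟶ Z) (x₀ : 𝟙_ (Over (Spec (CommRingCat.of K))) ⟶ X)
    (y₀ : 𝟙_ (Over (Spec (CommRingCat.of K))) ⟶ Y)
    (h1 : slice X y₀ ≫ f = 1)
    (h2 : lift (toUnit Y ≫ x₀) (𝟙 Y) ≫ f = 1) :
    f = 1 := by
  have := const_of_axes X Y Z f x₀ y₀ η[Z] (by rw [h1, toUnit_eta]) (by rw [h2, toUnit_eta])
  rw [this, toUnit_eta]

/-- a pointed morphism from an abelian variety to a separated group scheme of finite type is a
homomorphism -/
theorem isMonHom_of_pointed (A Z : Over (Spec (CommRingCat.of K))) [GrpObj A] [IsProper A.hom]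
    [GeometricallyIntegral A.hom] [GrpObj Z] [IsSeparated Z.hom] [LocallyOfFiniteType Z.hom]
    (g : A ⟶ Z) (hg : η[A] ≫ g = η[Z]) : IsMonHom g := by
  have one_comp' : ∀ {T : Over (Spec (CommRingCat.of K))}, (1 : T ⟶ A) ≫ g = 1 := by
    intro T
    rw [← toUnit_eta, Category.assoc, hg, toUnit_eta]
  apply isMonHom_of_mul g hg
  have hδ : ((fst A A * snd A A) ≫ g) * ((fst A A ≫ g) * (snd A A ≫ g))⁻¹ = 1 := by
    apply eq_one_of_axes A A Z _ η[A] η[A]
    · have e1 : slice A η[A] ≫ fst A A = 𝟙 A := lift_fst _ _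
      have e2 : slice A η[A] ≫ snd A A = 1 := by rw [lift_snd, toUnit_eta]
      rw [MonObj.comp_mul, GrpObj.comp_inv, MonObj.comp_mul, ← Category.assoc, MonObj.comp_mul,
        ← Category.assoc, ← Category.assoc, e1, e2, _root_.mul_one, Category.id_comp, one_comp',
        _root_.mul_one, _root_.mul_inv_cancel]
    · have e1 : lift (toUnit A ≫ η[A]) (𝟙 A) ≫ fst A A = 1 := by rw [lift_fst, toUnit_eta]
      have e2 : lift (toUnit A ≫ η[A]) (𝟙 A) ≫ snd A A = 𝟙 A := lift_snd _ _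
      rw [MonObj.comp_mul, GrpObj.comp_inv, MonObj.comp_mul, ← Category.assoc, MonObj.comp_mul,
        ← Category.assoc, ← Category.assoc, e1, e2, _root_.one_mul, Category.id_comp, one_comp',
        _root_.one_mul, _root_.mul_inv_cancel]
  exact mul_inv_eq_one.mp hδ

end Groth.Agent.Lib.Helper11Rigidity
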