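import Mathlib
import Groth.Agent.Lib.Helper11ConstPts
import Groth.Agent.Lib.Helper11ASAlg
import Groth.Agent.Lib.Helper11KummerB
import Groth.Agent.Lib.Helper11RigidityB

set_option autoImplicit false
universe u

open CategoryTheory MonoidalCategory CartesianMonoidalCategory MonObj GrpObj AlgebraicGeometry Limits
open Groth.Agent.Lib.Helper27.GaGm

namespace Groth.Agent.Lib.Helper11AS

section Alg

variable (p : ℕ) [Fact p.Prime]

lemma add_pow_p {R : Type*} [CommRing R] (h : (p : R) = 0) (x y : R) :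
    (x + y) ^ p = x ^ p + y ^ p := by
  obtain ⟨r, hr⟩ := exists_add_pow_prime_eq (Fact.out : p.Prime) x y
  rw [hr, h]
  ring

/-- the structure map `𝔽_p → R` of a ring with `p = 0` -/
noncomputable def psi {R : Type*} [CommRing R] (h : (p : R) = 0) : ZMod p →+* R :=
  ZMod.castHom (ringChar.dvd h) R

lemma psi_pow {R : Type*} [CommRing R] (h : (p : R) = 0) (k : ZMod p) :
    psi p h k ^ p = psi p h k := by
  rw [← map_pow, ZMod.pow_card]

lemma psi_sub_isUnit {R : Type*} [CommRing R] (h : (p : R) = 0) {k k' : ZMod p} (hk : k ≠ k') :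
    IsUnit (psi p h k - psi p h k') := by
  rw [← map_sub]
  exact (sub_ne_zero.mpr hk).isUnit.map _

lemma map_psi {R R' : Type*} [CommRing R] [CommRing R'] (f : R →+* R') (h : (p : R) = 0)
    (h' : (p : R') = 0) (k : ZMod p) : f (psi p h k) = psi p h' k :=
  congrArg (fun g : ZMod p →+* R' => g k) (RingHom.ext_zmod (f.comp (psi p h)) (psi p h'))

end Alg

variable (p : ℕ) [Fact p.Prime] {S : Scheme.{u}} (hp : (p : Γ(S, ⊤)) = 0)
  (F : Red.Ga S ⟶ Red.Ga S)
  (hF : ∀ (T : Over S) (x : T ⟶ Red.Ga S), Red.gaFn (x ≫ F) = Red.gaFn x ^ p)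

omit [Fact p.Prime] in
include hp in
/-- `p = 0` on every `S`-scheme -/
lemma p_eq_zero (X : Over S) : (p : Γ(X.left, ⊤)) = 0 := by
  have := congrArg X.hom.appTop.hom hp
  rwa [map_natCast, map_zero] at this

/-- the Artin–Schreier map -/
noncomputable abbrev PAS : Red.Ga S ⟶ Red.Ga S := 𝟙 (Red.Ga S) * F⁻¹

omit [Fact p.Prime] in
include hF in
lemma gaFn_PAS {X : Over S} (x : X ⟶ Red.Ga S) :
    Red.gaFn (x ≫ PAS F) = Red.gaFn x - Red.gaFn x ^ p := by
  unfold PAS
  rw [MonObj.comp_mul, Category.comp_id, GrpObj.comp_inv, gaFn_mul, gaFn_inv, hF]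
  ring

include hp hF in
lemma isMonHom_PAS : IsMonHom (PAS F) := by
  apply Groth.Agent.Lib.Helper11Rigidity.isMonHom_of_mul
  · rw [MonObj.one_eq_one]
    apply gaFn_injective
    rw [gaFn_PAS p F hF, gaFn_one, zero_pow (Fact.out : p.Prime).ne_zero, sub_zero]
  · apply gaFn_injective
    rw [gaFn_PAS p F hF, gaFn_mul, gaFn_mul, gaFn_PAS p F hF, gaFn_PAS p F hF,
      add_pow_p p (p_eq_zero p hp _)]
    ring

section Const

omit [Fact p.Prime] in
lemma gaFn_pow {X : Over S} (x : X ⟶ Red.Ga S) (k : ℕ) : Red.gaFn (x ^ k) = k • Red.gaFn x := by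
  induction k with
  | zero => rw [pow_zero, gaFn_one, zero_smul]
  | succ k ih => rw [pow_succ, gaFn_mul, ih, succ_nsmul]

lemma pow_comp_hom {C : Type*} [Category C] [CartesianMonoidalCategory C] {G H : C}
    [GrpObj G] [GrpObj H] (s : G ⟶ H) [IsMonHom s] {X : C} (x : X ⟶ G) (j : ℕ) :
    (x ^ j) ≫ s = (x ≫ s) ^ j := by
  induction j with
  | zero => rw [pow_zero, pow_zero, MonObj.one_comp]
  | succ j ih => rw [pow_succ, pow_succ, MonObj.mul_comp, ih]

variable {G' : Over S} [GrpObj G'] (e : G' ≅ TwC.const S (Multiplicative (ZMod p)))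
    (he : TwC.IsConstGrp (Multiplicative (ZMod p)) G' e)
    (i : G' ⟶ Red.Ga S) [IsMonHom i]
    (hi : Red.gaFn (TwC.pt S (Multiplicative (ZMod p)) (Multiplicative.ofAdd 1) ≫ e.inv ≫ i) = 1)

/-- the points of the constant group as a monoid hom -/
noncomputable def ptHom : Multiplicative (ZMod p) →* (𝟙_ (Over S) ⟶ G') :=
  MonoidHom.mk' (fun m => TwC.pt S (Multiplicative (ZMod p)) m ≫ e.inv) (fun a b => (he a b).symm)

include he hi in
lemma gaFn_pt (m : Multiplicative (ZMod p)) :
    Red.gaFn (TwC.pt S (Multiplicative (ZMod p)) m ≫ e.inv ≫ i) =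
      psi p hp (Multiplicative.toAdd m) := by
  have hm : m = (Multiplicative.ofAdd (1 : ZMod p)) ^ (Multiplicative.toAdd m).val := by
    apply Multiplicative.toAdd.injective
    rw [toAdd_pow, toAdd_ofAdd, nsmul_eq_mul, _root_.mul_one, ZMod.natCast_zmod_val]
  have h1 : TwC.pt S (Multiplicative (ZMod p)) m ≫ e.inv =
      (ptHom p e he (Multiplicative.ofAdd 1)) ^ (Multiplicative.toAdd m).val := by
    rw [← map_pow, ← hm]
    rfl
  have h2 : ptHom p e he (Multiplicative.ofAdd 1) ≫ i =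
      TwC.pt S (Multiplicative (ZMod p)) (Multiplicative.ofAdd 1) ≫ e.inv ≫ i := by
    rw [← Category.assoc]
    rfl
  have h3 := pow_comp_hom i (ptHom p e he (Multiplicative.ofAdd 1)) (Multiplicative.toAdd m).val
  rw [← Category.assoc, h1, h3, gaFn_pow, h2, hi, nsmul_eq_mul, _root_.mul_one]
  conv_rhs => rw [← ZMod.natCast_zmod_val (Multiplicative.toAdd m), map_natCast]

include he hi in
lemma gaFn_toUnit_pt (X : Over S) (m : Multiplicative (ZMod p)) :
    Red.gaFn (toUnit X ≫ TwC.pt S (Multiplicative (ZMod p)) m ≫ e.inv ≫ i) =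
      psi p (p_eq_zero p hp X) (Multiplicative.toAdd m) := by
  rw [gaFn_comp, gaFn_pt p hp e he i hi]
  exact map_psi p (toUnit X).left.appTop.hom hp _ _

include hp hF he hi in
lemma i_comp_PAS : i ≫ PAS F = 1 := by
  rw [← cancel_epi e.inv]
  apply Over.OverMorphism.ext
  apply Sigma.hom_ext
  intro m
  have key : TwC.pt S (Multiplicative (ZMod p)) m ≫ e.inv ≫ i ≫ PAS F =
      TwC.pt S (Multiplicative (ZMod p)) m ≫ e.inv ≫ 1 := by
    rw [MonObj.comp_one, MonObj.comp_one]
    apply gaFn_injective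
    rw [← Category.assoc, ← Category.assoc, gaFn_PAS p F hF, Category.assoc,
      gaFn_pt p hp e he i hi, psi_pow, sub_self, gaFn_one]
  exact congrArg (fun k => k.left) key

end Const

section Pieces

lemma isUnit_appTop_of_le {X : Scheme.{u}} (V : X.Opens) (f : Γ(X, ⊤)) (h : V ≤ X.basicOpen f) :
    IsUnit (V.ι.appTop.hom f) := by
  have h1 : V.ι ⁻¹ᵁ X.basicOpen f = ⊤ := by
    ext x
    simp only [TopologicalSpace.Opens.map_coe, Set.mem_preimage, SetLike.mem_coe,
      TopologicalSpace.Opens.coe_top, Set.mem_univ, iff_true]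
    exact h x.2
  rw [Scheme.preimage_basicOpen_top] at h1
  apply RingedSpace.isUnit_of_isUnit_germ
  intro x hx
  have h2 : x ∈ (V : Scheme.{u}).basicOpen (V.ι.appTop.hom f) := by
    rw [h1]
    trivial
  exact ((V : Scheme.{u}).mem_basicOpen_top _ x).mp h2

lemma basicOpen_sum_le {X : Scheme.{u}} {J : Type*} (s : Finset J) (f : J → Γ(X, ⊤)) :
    X.basicOpen (∑ k ∈ s, f k) ≤ ⨆ k ∈ s, X.basicOpen (f k) := by
  classical
  induction s using Finset.induction_on with
  | empty => simp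
  | insert a s ha ih =>
    rw [Finset.sum_insert ha, Finset.iSup_insert]
    exact (X.basicOpen_add_le _ _).trans (sup_le_sup le_rfl ih)

/-- the restriction of an `S`-scheme to an open -/
noncomputable abbrev resOver (X : Over S) (V : X.left.Opens) : Over S := Over.mk (V.ι ≫ X.hom)

/-- the inclusion of the restriction -/
noncomputable abbrev resι (X : Over S) (V : X.left.Opens) : resOver X V ⟶ X := Over.homMk V.ι rfl

omit [Fact p.Prime] in
lemma res_comp_eq {X : Over S} (V : X.left.Opens) (z : X ⟶ TwC.const S (Multiplicative (ZMod p)))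
    (m : Multiplicative (ZMod p))
    (h : V.ι ≫ z.left = (V.ι ≫ X.hom) ≫ Sigma.ι (fun _ : Multiplicative (ZMod p) => S) m) :
    resι X V ≫ z = toUnit (resOver X V) ≫ TwC.pt S (Multiplicative (ZMod p)) m := by
  apply Over.OverMorphism.ext
  exact h

end Pieces

section Kernel

open Groth.Agent.Lib.Helper11ConstPts Groth.Agent.Lib.Helper11ASAlg

variable {G' : Over S} [GrpObj G'] (e : G' ≅ TwC.const S (Multiplicative (ZMod p)))
    (he : TwC.IsConstGrp (Multiplicative (ZMod p)) G' e)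
    (i : G' ⟶ Red.Ga S) [IsMonHom i]
    (hi : Red.gaFn (TwC.pt S (Multiplicative (ZMod p)) (Multiplicative.ofAdd 1) ≫ e.inv ≫ i) = 1)

include he hi in
/-- value of a point with constant label -/
lemma gaFn_of_label {X : Over S} (V : X.left.Opens) (z : X ⟶ G') (m : Multiplicative (ZMod p))
    (h : V.ι ≫ (z ≫ e.hom).left =
      (V.ι ≫ X.hom) ≫ Sigma.ι (fun _ : Multiplicative (ZMod p) => S) m) :
    Red.gaFn (resι X V ≫ z ≫ i) =
      psi p (p_eq_zero p hp (resOver X V)) (Multiplicative.toAdd m) := by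
  have h1 := res_comp_eq p V (z ≫ e.hom) m h
  have h2 : resι X V ≫ z = toUnit (resOver X V) ≫ TwC.pt S (Multiplicative (ZMod p)) m ≫ e.inv := by
    have := congrArg (fun k => k ≫ e.inv) h1
    simp only [Category.assoc, Iso.hom_inv_id, Category.comp_id] at this
    exact this
  rw [← Category.assoc, h2, Category.assoc, Category.assoc]
  exact gaFn_toUnit_pt p hp e he i hi (resOver X V) m

include hp he hi in
lemma inj_i {X : Over S} (z z' : X ⟶ G') (h : z ≫ i = z' ≫ i) : z = z' := by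
  rw [← cancel_mono e.hom]
  apply pt_ext (Multiplicative (ZMod p))
  intro x
  have hx : x ∈ (⊤ : X.left.Opens) := trivial
  have hx' := hx
  rw [← iSup_piece (Multiplicative (ZMod p)) (z ≫ e.hom), TopologicalSpace.Opens.mem_iSup] at hx
  rw [← iSup_piece (Multiplicative (ZMod p)) (z' ≫ e.hom), TopologicalSpace.Opens.mem_iSup] at hx'
  obtain ⟨m, hm⟩ := hx
  obtain ⟨m', hm'⟩ := hx'
  obtain ⟨V, hV⟩ : ∃ V : X.left.Opens, V = piece (Multiplicative (ZMod p)) (z ≫ e.hom) m ⊓
    piece (Multiplicative (ZMod p)) (z' ≫ e.hom) m' := ⟨_, rfl⟩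
  have hxV : x ∈ V := by rw [hV]; exact ⟨hm, hm'⟩
  have h1 := le_piece_ι_comp (Multiplicative (ZMod p)) (z ≫ e.hom) m V (by rw [hV]; exact inf_le_left)
  have h2 := le_piece_ι_comp (Multiplicative (ZMod p)) (z' ≫ e.hom) m' V
    (by rw [hV]; exact inf_le_right)
  have g1 := gaFn_of_label p hp e he i hi V z m h1
  have g2 := gaFn_of_label p hp e he i hi V z' m' h2
  rw [h, g2] at g1
  have hmm : m = m' := by
    by_contra hne
    have hne' : Multiplicative.toAdd m' ≠ Multiplicative.toAdd m := fun h => hne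
      (Multiplicative.toAdd.injective h).symm
    have hu := psi_sub_isUnit p (p_eq_zero p hp (resOver X V)) hne'
    rw [g1, sub_self] at hu
    have hne2 : Nonempty ↥(⊤ : (V : Scheme.{u}).Opens) := ⟨⟨⟨x, hxV⟩, trivial⟩⟩
    have hnt : Nontrivial Γ((V : Scheme.{u}), ⊤) :=
      @Scheme.component_nontrivial (V : Scheme.{u}) ⊤ hne2
    exact (@not_isUnit_zero _ _ hnt) hu
  subst hmm
  exact ⟨V, m, hxV, h1, h2⟩

include hp hF he hi in
lemma exists_lift_i {X : Over S} (w : X ⟶ Red.Ga S) (hw : w ≫ PAS F = 1) :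
    ∃ z : X ⟶ G', z ≫ i = w := by
  have hpX := p_eq_zero p hp X
  obtain ⟨a, haw⟩ : ∃ a, a = Red.gaFn w := ⟨_, rfl⟩
  have ha : a ^ p = a := by
    have := gaFn_PAS p F hF w
    rw [hw, gaFn_one, ← haw] at this
    exact (sub_eq_zero.mp this.symm).symm
  obtain ⟨U, hUdef⟩ : ∃ U : Multiplicative (ZMod p) → X.left.Opens,
    U = fun m => X.left.basicOpen (idem p (psi p hpX) a (Multiplicative.toAdd m)) := ⟨_, rfl⟩
  have hU : TopologicalSpace.IsOpenCover U := by
    show ⨆ m, U m = ⊤
    rw [eq_top_iff]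
    have h1 : (⊤ : X.left.Opens) = X.left.basicOpen (∑ k, idem p (psi p hpX) a k) := by
      rw [sum_idem, Scheme.basicOpen_one]
    rw [h1]
    refine (basicOpen_sum_le _ _).trans ?_
    refine iSup_le fun k => iSup_le fun _ => ?_
    refine le_trans ?_ (le_iSup U (Multiplicative.ofAdd k))
    rw [hUdef]
    exact le_rfl
  have hd : ∀ m m', m ≠ m' → U m ⊓ U m' = ⊥ := by
    intro m m' hne
    rw [hUdef]
    show X.left.basicOpen _ ⊓ X.left.basicOpen _ = ⊥
    rw [← Scheme.basicOpen_mul]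
    have hne' : Multiplicative.toAdd m ≠ Multiplicative.toAdd m' := fun h => hne
      (Multiplicative.toAdd.injective h)
    have hu := psi_sub_isUnit p hpX hne'
    have e1 := sub_mul_idem p (psi p hpX) a ha (Multiplicative.toAdd m)
    have e2 := sub_mul_idem p (psi p hpX) a ha (Multiplicative.toAdd m')
    have e3 : (psi p hpX (Multiplicative.toAdd m) - psi p hpX (Multiplicative.toAdd m')) *
        (idem p (psi p hpX) a (Multiplicative.toAdd m) *
          idem p (psi p hpX) a (Multiplicative.toAdd m')) = 0 := by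
      have : (psi p hpX (Multiplicative.toAdd m) - psi p hpX (Multiplicative.toAdd m')) *
        (idem p (psi p hpX) a (Multiplicative.toAdd m) *
          idem p (psi p hpX) a (Multiplicative.toAdd m')) =
          ((a - psi p hpX (Multiplicative.toAdd m')) *
              idem p (psi p hpX) a (Multiplicative.toAdd m')) *
            idem p (psi p hpX) a (Multiplicative.toAdd m) -
          ((a - psi p hpX (Multiplicative.toAdd m)) *
              idem p (psi p hpX) a (Multiplicative.toAdd m)) *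
            idem p (psi p hpX) a (Multiplicative.toAdd m') := by ring
      rw [this, e1, e2]
      ring
    rw [hu.mul_right_eq_zero] at e3
    rw [e3, Scheme.basicOpen_zero]
  refine ⟨mkPt (Multiplicative (ZMod p)) U hU hd ≫ e.inv, ?_⟩
  apply gaFn_injective
  rw [← haw]
  have hsub : Red.gaFn ((mkPt (Multiplicative (ZMod p)) U hU hd ≫ e.inv) ≫ i) - a = 0 := by
    refine Scheme.zero_of_zero_cover _ (X.left.openCoverOfIsOpenCover U hU) (fun m => ?_)
    show (U m).ι.appTop.hom (Red.gaFn ((mkPt (Multiplicative (ZMod p)) U hU hd ≫ e.inv) ≫ i) - a)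
      = 0
    rw [map_sub, sub_eq_zero]
    have h0 := mkPt_spec (Multiplicative (ZMod p)) U hU hd m
    have h1 : (U m).ι ≫ ((mkPt (Multiplicative (ZMod p)) U hU hd ≫ e.inv) ≫ e.hom).left =
        ((U m).ι ≫ X.hom) ≫ Sigma.ι (fun _ : Multiplicative (ZMod p) => S) m := by
      rw [Category.assoc, Iso.inv_hom_id, Category.comp_id]
      exact h0
    have g1 := gaFn_of_label p hp e he i hi (U m) (mkPt (Multiplicative (ZMod p)) U hU hd ≫ e.inv)
      m h1
    rw [gaFn_comp] at g1
    refine g1.trans ?_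
    have hunit : IsUnit ((U m).ι.appTop.hom (idem p (psi p hpX) a (Multiplicative.toAdd m))) := by
      apply isUnit_appTop_of_le
      rw [hUdef]
    have e1 := congrArg (U m).ι.appTop.hom
      (sub_mul_idem p (psi p hpX) a ha (Multiplicative.toAdd m))
    rw [map_mul, map_zero, hunit.mul_left_eq_zero, map_sub, sub_eq_zero] at e1
    rw [e1]
    exact (map_psi p (U m).ι.appTop.hom hpX _ _).symm
  exact sub_eq_zero.mp hsub

end Kernel

section LocTriv

open Polynomial Groth.Agent.Lib.Helper11MultGa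

/-- coordinate ring of `𝔾_a` over `ℤ` -/
abbrev ASr : Type u := SymmetricAlgebra (ULift.{u} ℤ) (ULift.{u} ℤ)

/-- the coordinate -/
noncomputable abbrev tS : ASr.{u} := SymmetricAlgebra.ι (ULift.{u} ℤ) (ULift.{u} ℤ) (ULift.up 1)

/-- `X^p - X + t` -/
noncomputable abbrev gAS (p : ℕ) : Polynomial ASr.{u} := X ^ p - (X - C tS)

instance : Nontrivial ASr.{u} :=
  (SymmetricAlgebra.algebraMap_leftInverse (R := ULift.{u} ℤ) (M := ULift.{u} ℤ)).injective.nontrivial

lemma deg_lt : (X - C tS.{u} : Polynomial ASr.{u}).degree < (p : WithBot ℕ) := by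
  rw [degree_X_sub_C]
  exact_mod_cast (Fact.out : p.Prime).one_lt

lemma monic_gAS : (gAS.{u} p).Monic := monic_X_pow_sub (deg_lt p)

lemma natDegree_gAS : (gAS.{u} p).natDegree = p := by
  unfold gAS
  have h1 : (X - C tS.{u} : Polynomial ASr.{u}).natDegree < (X ^ p : Polynomial ASr.{u}).natDegree := by
    rw [natDegree_X_sub_C, natDegree_X_pow]
    exact (Fact.out : p.Prime).one_lt
  rw [natDegree_sub_eq_left_of_natDegree_lt h1, natDegree_X_pow]

omit [Fact p.Prime] in
lemma of_tS : AdjoinRoot.of (gAS.{u} p) tS =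
    AdjoinRoot.root (gAS.{u} p) - (AdjoinRoot.root (gAS.{u} p)) ^ p := by
  have h := AdjoinRoot.eval₂_root (gAS.{u} p)
  unfold gAS at h
  rw [eval₂_sub, eval₂_pow, eval₂_X, eval₂_sub, eval₂_X, eval₂_C] at h
  have h2 : AdjoinRoot.of (gAS.{u} p) tS = AdjoinRoot.root (gAS.{u} p) -
      (AdjoinRoot.root (gAS.{u} p)) ^ p + ((AdjoinRoot.root (gAS.{u} p)) ^ p -
        (AdjoinRoot.root (gAS.{u} p) - AdjoinRoot.of (gAS.{u} p) tS)) := by ring
  rw [h2]
  unfold gAS
  rw [h, add_zero]

/-- the covering `Spec ℤ[t][X]/(X^p - X + t) ⟶ Spec ℤ[t]` -/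
noncomputable abbrev cAS (p : ℕ) : Spec (CommRingCat.of (AdjoinRoot (gAS.{u} p))) ⟶
    Spec (CommRingCat.of ASr.{u}) :=
  Spec.map (CommRingCat.ofHom (AdjoinRoot.of (gAS.{u} p)))

lemma nontrivial_adjoinRoot_gAS : Nontrivial (AdjoinRoot (gAS.{u} p)) := by
  apply Module.nontrivial_of_finrank_pos (R := ASr.{u})
  rw [PowerBasis.finrank (AdjoinRoot.powerBasis' (monic_gAS p))]
  simp only [AdjoinRoot.powerBasis'_dim]
  rw [natDegree_gAS]
  exact (Fact.out : p.Prime).pos

lemma faithfullyFlat_cAS : Flat (cAS.{u} p) ∧ Surjective (cAS.{u} p) := by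
  rw [flat_and_surjective_SpecMap_iff]
  have h1 : Module.Free ASr.{u} (AdjoinRoot (gAS.{u} p)) := (monic_gAS p).free_adjoinRoot
  have h2 := nontrivial_adjoinRoot_gAS.{u} p
  have h3 : Module.FaithfullyFlat ASr.{u} (AdjoinRoot (gAS.{u} p)) := inferInstance
  have h4 := (RingHom.faithfullyFlat_algebraMap_iff (R := ASr.{u})
    (S := AdjoinRoot (gAS.{u} p))).mpr h3
  rwa [AdjoinRoot.algebraMap_eq] at h4

variable (S)

/-- the projection `𝔾_{a,S} ⟶ Spec ℤ[t]` -/
noncomputable abbrev piAS : (Red.Ga S).left ⟶ Spec (CommRingCat.of ASr.{u}) :=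
  pullback.fst (Red.GaZ).hom (tU S)

/-- the Artin–Schreier covering of `𝔾_{a,S}` -/
noncomputable abbrev fAS : pullback (piAS S) (cAS.{u} p) ⟶ (Red.Ga S).left :=
  pullback.fst (piAS S) (cAS.{u} p)

variable {S}

include hF in
omit [Fact p.Prime] in
lemma hasSection_fAS :
    NonAbH1.HasSectionOver (Over.mk (PAS F).left : Over (Red.Ga S).left) (fAS p S) := by
  let X' : Over S := Over.mk (fAS p S ≫ (Red.Ga S).hom)
  let pf : X' ⟶ Red.Ga S := Over.homMk (fAS p S) rfl
  let y' : Γ(X'.left, ⊤) := fn (pullback.snd (piAS S) (cAS.{u} p)) (AdjoinRoot.root (gAS.{u} p))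
  have hy : Red.gaFn pf = y' - y' ^ p := by
    rw [gaFn_eq_fn_gaPt]
    have h1 : gaPt pf = pullback.snd (piAS S) (cAS.{u} p) ≫ cAS.{u} p := pullback.condition
    rw [h1, fn_specMap, of_tS, fn_eq, map_sub, map_pow, ← fn_eq]
  refine ⟨((gaEquiv X').symm y').left, ?_⟩
  have hq : (gaEquiv X').symm y' ≫ PAS F = pf := by
    apply gaFn_injective
    rw [gaFn_PAS p F hF, gaFn_gaEquiv_symm, hy]
  exact congrArg (fun k => k.left) hq

include hF in
theorem isLocallyTrivialFor_PAS :
    NonAbH1.IsLocallyTrivialFor Scheme.fpqcPrecoverage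
      (Over.mk (PAS F).left : Over (Red.Ga S).left) := by
  have h1 := faithfullyFlat_cAS.{u} p
  have : Flat (cAS.{u} p) := h1.1
  have : Surjective (cAS.{u} p) := h1.2
  have : QuasiCompact (cAS.{u} p) := inferInstance
  have : Flat (fAS p S) := MorphismProperty.pullback_fst _ _ ‹_›
  have : Surjective (fAS p S) := MorphismProperty.pullback_fst _ _ ‹_›
  have : QuasiCompact (fAS p S) := MorphismProperty.pullback_fst _ _ ‹_›
  refine ⟨Presieve.singleton (fAS p S), Scheme.Hom.singleton_mem_fpqcPrecoverage _, ?_⟩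
  rintro S' f ⟨⟩
  exact hasSection_fAS p F hF

end LocTriv

section Main

variable {G' : Over S} [GrpObj G'] (e : G' ≅ TwC.const S (Multiplicative (ZMod p)))
    (he : TwC.IsConstGrp (Multiplicative (ZMod p)) G' e)
    (i : G' ⟶ Red.Ga S) [IsMonHom i]
    (hi : Red.gaFn (TwC.pt S (Multiplicative (ZMod p)) (Multiplicative.ofAdd 1) ≫ e.inv ≫ i) = 1)

include hp hF he hi in
theorem artinSchreier_isExactSeq :
    NonAbH1.IsExactSeq Scheme.fpqcPrecoverage i (PAS F) := by
  have hP : IsMonHom (PAS F) := isMonHom_PAS p hp F hF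
  refine ⟨inferInstance, hP, i_comp_PAS p hp F hF e he i hi, ?_, isLocallyTrivialFor_PAS p F hF⟩
  exact Groth.Agent.Lib.Helper11Kummer.isPullback_of_kernel i (PAS F)
    (i_comp_PAS p hp F hF e he i hi)
    (fun X w hw => exists_lift_i p hp F hF e he i hi w hw)
    (fun X z z' h => inj_i p hp e he i hi z z' h)

end Main

end Groth.Agent.Lib.Helper11AS
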