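import Mathlib

/-!
# Separatedness / affine diagonal from an affine open cover (helper23)

* `isAffineHom_diagonal_of_isOpenCover` : `X` covered by affine opens with affine pairwise intersections has affine diagonal
* `isSeparated_of_isOpenCover` : if moreover `Γ(U i ⊓ U j)` is generated as a ring by the images of `Γ(U i)` and `Γ(U j)`
  then `X` is separated
-/

set_option autoImplicit false
universe u
open CategoryTheory CategoryTheory.Limits AlgebraicGeometry TopologicalSpace Opposite

namespace Groth.Agent.Lib.Helper23.SepCover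

set_option backward.defeqAttrib.useBackward true in
set_option backward.isDefEq.respectTransparency false in
/-- a scheme covered by affine opens with pairwise affine intersections has affine diagonal -/
theorem isAffineHom_diagonal_of_isOpenCover {X : Scheme.{u}}
    {I : Type*} (U : I → X.Opens) (hU : IsOpenCover U)
    (hU₁ : ∀ i, IsAffineOpen (U i)) (hU₂ : ∀ i j, IsAffineOpen (U i ⊓ U j)) :
    IsAffineHom (Limits.pullback.diagonal (Limits.terminal.from X)) := by
  let := HasAffineProperty.isLocal_affineProperty @IsAffineHom.{u}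
  change MorphismProperty.diagonal @IsAffineHom.{u} (Limits.terminal.from X)
  rw [HasAffineProperty.iff_of_isAffine (P := MorphismProperty.diagonal @IsAffineHom.{u})]
  have : ∀ i, IsAffine ((X.openCoverOfIsOpenCover U hU).X i) := hU₁
  refine AffineTargetMorphismProperty.diagonal_of_openCover_source _
    (Scheme.openCoverOfIsOpenCover _ _ hU) fun i j ↦ ?_
  let g := pullback.fst ((X.openCoverOfIsOpenCover U hU).f i)
    ((X.openCoverOfIsOpenCover U hU).f j) ≫ (X.openCoverOfIsOpenCover U hU).f i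
  have hr : g.opensRange = U i ⊓ U j := by
    ext1
    simp only [Scheme.Hom.coe_opensRange, g]
    rw [IsOpenImmersion.range_pullback_to_base_of_left]
    simp
  have h1 : IsAffineOpen g.opensRange := hr ▸ hU₂ i j
  have : IsAffine g.opensRange.toScheme := h1
  exact .of_isIso g.isoOpensRange.hom

lemma mem_range_aux {P V W X : Scheme.{u}} (p : P ⟶ V) (ι : V ⟶ X) (h : P ⟶ W) (q : W ⟶ V)
    (hq : h ≫ q = p) (g : P ⟶ X) (hg : g = p ≫ ι) (U' U'' : X.Opens) (hle : U' ≤ U'')
    (e : ⊤ ≤ g ⁻¹ᵁ U') (e₁ : ⊤ ≤ ι ⁻¹ᵁ U'') (a : Γ(X, U'')) :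
    (g.appLE U' ⊤ e).hom ((X.presheaf.map (homOfLE hle).op).hom a) ∈ RingHom.range h.appTop.hom := by
  subst hg hq
  refine ⟨q.appTop.hom ((ι.appLE U'' ⊤ e₁).hom a), ?_⟩
  rw [← CommRingCat.comp_apply, ← CommRingCat.comp_apply, ← CommRingCat.comp_apply,
    Scheme.Hom.map_appLE]
  have e2 : (⊤ : P.Opens) ≤ (h ≫ q) ⁻¹ᵁ ⊤ := le_rfl
  rw [← Scheme.Hom.appLE_comp_appLE (h ≫ q) ι U'' ⊤ ⊤ e₁ e2]
  have e3 : Scheme.Hom.appLE (h ≫ q) ⊤ ⊤ e2 = Scheme.Hom.appTop q ≫ Scheme.Hom.appTop h := by
    rw [← Scheme.Hom.comp_appTop]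
    exact Scheme.Hom.appLE_eq_app (h ≫ q) (U := ⊤)
  rw [e3]

set_option backward.defeqAttrib.useBackward true in
set_option backward.isDefEq.respectTransparency false in
/-- a scheme covered by affine opens with pairwise affine intersections `U i ⊓ U j` whose rings of
sections are generated by the images of `Γ(U i)` and `Γ(U j)` is separated -/
theorem isSeparated_of_isOpenCover {X : Scheme.{u}}
    {I : Type*} (U : I → X.Opens) (hU : IsOpenCover U)
    (hU₁ : ∀ i, IsAffineOpen (U i)) (hU₂ : ∀ i j, IsAffineOpen (U i ⊓ U j))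
    (hU₃ : ∀ i j, Subring.closure
      (Set.range (X.presheaf.map (homOfLE (inf_le_left : U i ⊓ U j ≤ U i)).op).hom ∪
        Set.range (X.presheaf.map (homOfLE (inf_le_right : U i ⊓ U j ≤ U j)).op).hom) = ⊤) :
    X.IsSeparated := by
  let := HasAffineProperty.isLocal_affineProperty @IsClosedImmersion.{u}
  rw [Scheme.isSeparated_iff, IsSeparated.isSeparated_eq_diagonal_isClosedImmersion]
  rw [HasAffineProperty.iff_of_isAffine (P := MorphismProperty.diagonal @IsClosedImmersion.{u})]
  have : ∀ i, IsAffine ((X.openCoverOfIsOpenCover U hU).X i) := hU₁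
  refine AffineTargetMorphismProperty.diagonal_of_openCover_source _
    (Scheme.openCoverOfIsOpenCover _ _ hU) fun i j ↦ ?_
  obtain ⟨g, hg⟩ : ∃ g, g = pullback.fst ((X.openCoverOfIsOpenCover U hU).f i)
    ((X.openCoverOfIsOpenCover U hU).f j) ≫ (X.openCoverOfIsOpenCover U hU).f i := ⟨_, rfl⟩
  have hg' : g = pullback.snd ((X.openCoverOfIsOpenCover U hU).f i)
    ((X.openCoverOfIsOpenCover U hU).f j) ≫ (X.openCoverOfIsOpenCover U hU).f j := by
    rw [hg, pullback.condition]
  have : IsOpenImmersion g := by rw [hg]; infer_instance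
  have hr : g.opensRange = U i ⊓ U j := by
    ext1
    simp only [Scheme.Hom.coe_opensRange, hg]
    rw [IsOpenImmersion.range_pullback_to_base_of_left]
    simp
  have h1 : IsAffineOpen g.opensRange := hr ▸ hU₂ i j
  have : IsAffine g.opensRange.toScheme := h1
  refine ⟨.of_isIso g.isoOpensRange.hom, ?_⟩
  intro z
  have hr' : U i ⊓ U j = g ''ᵁ ⊤ := by rw [← hr, Scheme.Hom.image_top_eq_opensRange]
  have e0 : (⊤ : Scheme.Opens _) ≤ g ⁻¹ᵁ (g ''ᵁ ⊤) := by rw [Scheme.Hom.preimage_image_eq]
  have e : (⊤ : Scheme.Opens _) ≤ g ⁻¹ᵁ (U i ⊓ U j) := by rw [hr']; exact e0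
  have hz : z = (g.appLE (U i ⊓ U j) ⊤ e).hom ((X.presheaf.map (eqToHom hr').op).hom
      ((g.appIso ⊤).inv.hom z)) := by
    rw [← CommRingCat.comp_apply, ← CommRingCat.comp_apply]
    have h2 := Scheme.Hom.map_appLE' g e0 hr'
    have h3 := Scheme.Hom.appIso_inv_appLE g (U := ⊤) (V := ⊤) e0
    rw [h2, h3]
    have : (homOfLE (le_refl (⊤ : Scheme.Opens (pullback ((X.openCoverOfIsOpenCover U hU).f i)
      ((X.openCoverOfIsOpenCover U hU).f j))))).op = 𝟙 _ := rfl
    rw [this, CategoryTheory.Functor.map_id]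
    rfl
  have hmem : ∀ w : Γ(X, U i ⊓ U j), (g.appLE (U i ⊓ U j) ⊤ e).hom w ∈ RingHom.range
      (pullback.mapDesc ((X.openCoverOfIsOpenCover U hU).f i)
        ((X.openCoverOfIsOpenCover U hU).f j) (terminal.from X)).appTop.hom := by
    intro w
    have hw : w ∈ Subring.closure
      (Set.range (X.presheaf.map (homOfLE (inf_le_left : U i ⊓ U j ≤ U i)).op).hom ∪
        Set.range (X.presheaf.map (homOfLE (inf_le_right : U i ⊓ U j ≤ U j)).op).hom) := by
      rw [hU₃ i j]; trivial
    have hle : Subring.closure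
      (Set.range (X.presheaf.map (homOfLE (inf_le_left : U i ⊓ U j ≤ U i)).op).hom ∪
        Set.range (X.presheaf.map (homOfLE (inf_le_right : U i ⊓ U j ≤ U j)).op).hom) ≤
        (RingHom.range (pullback.mapDesc ((X.openCoverOfIsOpenCover U hU).f i)
        ((X.openCoverOfIsOpenCover U hU).f j) (terminal.from X)).appTop.hom).comap
          (g.appLE (U i ⊓ U j) ⊤ e).hom := by
      rw [Subring.closure_le]
      rintro _ (⟨a, rfl⟩ | ⟨a, rfl⟩)
      · exact mem_range_aux _ _ _ (pullback.fst _ _) (by simp) g hg _ _ _ e (by simp) a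
      · exact mem_range_aux _ _ _ (pullback.snd _ _) (by simp) g hg' _ _ _ e (by simp) a
    exact hle hw
  rw [hz]
  exact hmem _

end Groth.Agent.Lib.Helper23.SepCover
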