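import Mathlib
import Groth.Agent.Lib.Helper23SecTw7
import Groth.Agent.Lib.Helper23SepCover

/-!
# A scheme covered by affine `X_s` (sections of powers of one invertible module) is separated (helper23)

* `exists_eq_resf_mul_pow` : functions on `D(f) ⊆ U` (`U` affine) are `a * g ^ n` if `f * g = 1`
* `closure_eq_top_of_sections` : for two sections `σ τ` of `N` with `X_σ` affine, `Γ(X_σ ∩ X_τ)` is generated by
  `Γ(X_σ)` and `Γ(X_τ)`
* `exists_common_power` : sections of `L^a`, `L^b` give sections of `L^(ab)` with the same loci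
* `isSeparated_of_cover`
-/

set_option autoImplicit false
universe u
open CategoryTheory CategoryTheory.Limits AlgebraicGeometry TopologicalSpace Opposite

namespace Groth.Agent.Lib.Helper23.SecTw
open Groth.Agent.Lib.Helper23.GenLocus Groth.Agent.Lib.Helper23.Extend Groth.Agent.Lib.Helper6
open Groth.Agent.Lib.Helper23.TensorUnit Groth.Agent.Lib.Helper23.AmpleIso

variable {X : Scheme.{u}}

/-- if `W = D(f) ⊆ U` for affine `U` and `f|_W * g = 1` then every function on `W` is `a|_W * g ^ n` -/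
theorem exists_eq_resf_mul_pow {U W : X.Opens} (hU : IsAffineOpen U) (f : Γ(X, U)) (hWU : W ≤ U)
    (hW : W = X.basicOpen f) (g : Γ(X, W)) (hfg : resf hWU f * g = 1) (z : Γ(X, W)) :
    ∃ (n : ℕ) (a : Γ(X, U)), z = resf hWU a * g ^ n := by
  letI : Algebra Γ(X, U) Γ(X, W) := (X.presheaf.map (homOfLE hWU).op).hom.toAlgebra
  have : IsLocalization.Away f Γ(X, W) := hU.isLocalization_of_eq_basicOpen f (homOfLE hWU) hW
  obtain ⟨n, a, ha⟩ := IsLocalization.Away.surj f z
  refine ⟨n, a, ?_⟩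
  have h1 : algebraMap Γ(X, U) Γ(X, W) f = resf hWU f := rfl
  have h2 : algebraMap Γ(X, U) Γ(X, W) a = resf hWU a := rfl
  rw [h1, h2] at ha
  rw [← ha, mul_assoc, ← mul_pow, hfg, one_pow, mul_one]

/-- for two sections `σ, τ` of `N` with `X_σ` affine, the ring `Γ(X_σ ∩ X_τ)` is generated by the images of `Γ(X_σ)` and
`Γ(X_τ)` (indeed by `Γ(X_σ)` and `σ/τ`) -/
theorem closure_eq_top_of_sections (N : X.Modules) (σ τ : Coh.structureModule X ⟶ N)
    (hU : IsAffineOpen (CohB1.genLocus N σ)) :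
    Subring.closure
      (Set.range (X.presheaf.map (homOfLE (inf_le_left :
          CohB1.genLocus N σ ⊓ CohB1.genLocus N τ ≤ CohB1.genLocus N σ)).op).hom ∪
        Set.range (X.presheaf.map (homOfLE (inf_le_right :
          CohB1.genLocus N σ ⊓ CohB1.genLocus N τ ≤ CohB1.genLocus N τ)).op).hom) = ⊤ := by
  obtain ⟨U, hUdef⟩ : ∃ U, U = CohB1.genLocus N σ := ⟨_, rfl⟩
  obtain ⟨V, hVdef⟩ : ∃ V, V = CohB1.genLocus N τ := ⟨_, rfl⟩
  have hσ : IsGen N U (sv σ U) := hUdef ▸ isGen_sv_genLocus N σ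
  have hτ : IsGen N V (sv τ V) := hVdef ▸ isGen_sv_genLocus N τ
  rw [← hUdef] at hU ⊢
  rw [← hVdef]
  obtain ⟨f, hf⟩ : ∃ f : Γ(X, U), sv τ U = f • sv σ U := ⟨coef hσ le_rfl (sv τ U), by
    have := coef_spec hσ le_rfl (sv τ U)
    rw [res_self] at this
    exact this.symm⟩
  obtain ⟨g, hg⟩ : ∃ g : Γ(X, V), sv σ V = g • sv τ V := ⟨coef hτ le_rfl (sv σ V), by
    have := coef_spec hτ le_rfl (sv σ V)
    rw [res_self] at this
    exact this.symm⟩
  have h4 : V ⊓ U = X.basicOpen f := by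
    rw [hVdef]
    exact genLocus_inf_eq_of_isGen N τ U (sv σ U) f hσ hf
  have hW : U ⊓ V = X.basicOpen f := by rw [inf_comm]; exact h4
  have hfg : resf (inf_le_left : U ⊓ V ≤ U) f * resf (inf_le_right : U ⊓ V ≤ V) g = 1 := by
    apply (hτ (U ⊓ V) inf_le_right).1
    change (resf (inf_le_left : U ⊓ V ≤ U) f * resf (inf_le_right : U ⊓ V ≤ V) g) • res N _ (sv τ V) =
      (1 : Γ(X, U ⊓ V)) • res N _ (sv τ V)
    rw [one_smul, mul_smul, ← res_smul, ← hg, res_sv, ← res_sv σ (inf_le_left : U ⊓ V ≤ U), ← res_smul, ← hf,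
      res_sv, res_sv]
  rw [eq_top_iff]
  intro z _
  obtain ⟨n, a, rfl⟩ := exists_eq_resf_mul_pow hU f inf_le_left hW _ hfg z
  apply Subring.mul_mem
  · apply Subring.subset_closure
    left
    exact ⟨a, rfl⟩
  · apply Subring.pow_mem
    apply Subring.subset_closure
    right
    exact ⟨g, rfl⟩

/-- sections of `L^a` and `L^b` (`a, b > 0`) give sections of `L^(ab)` with the same generating loci -/
theorem exists_common_power (L : X.Modules) (hL : PicF.IsInvertible L) (a b : ℕ) (ha : 0 < a) (hb : 0 < b)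
    (s : Coh.structureModule X ⟶ CohB1.tensorPow L a) (t : Coh.structureModule X ⟶ CohB1.tensorPow L b) :
    ∃ σ τ : Coh.structureModule X ⟶ CohB1.tensorPow L (a * b),
      CohB1.genLocus _ σ = CohB1.genLocus _ s ∧ CohB1.genLocus _ τ = CohB1.genLocus _ t := by
  obtain ⟨Φ₁⟩ := nonempty_tensorPow_tensorPow_iso L hL a b (a * b) rfl
  obtain ⟨Φ₂⟩ := nonempty_tensorPow_tensorPow_iso L hL b a (a * b) (mul_comm b a)
  refine ⟨SecTwist.powHom s b ≫ Φ₁.hom, SecTwist.powHom t a ≫ Φ₂.hom, ?_, ?_⟩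
  · rw [genLocus_comp_iso, genLocus_powHom (isInvertible_tensorPow hL a) s b hb]
  · rw [genLocus_comp_iso, genLocus_powHom (isInvertible_tensorPow hL b) t a ha]

theorem closure_eq_top_of_eq {U V U' V' : X.Opens} (hU : U' = U) (hV : V' = V)
    (h : Subring.closure
      (Set.range (X.presheaf.map (homOfLE (inf_le_left : U' ⊓ V' ≤ U')).op).hom ∪
        Set.range (X.presheaf.map (homOfLE (inf_le_right : U' ⊓ V' ≤ V')).op).hom) = ⊤) :
    Subring.closure
      (Set.range (X.presheaf.map (homOfLE (inf_le_left : U ⊓ V ≤ U)).op).hom ∪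
        Set.range (X.presheaf.map (homOfLE (inf_le_right : U ⊓ V ≤ V)).op).hom) = ⊤ := by
  subst hU hV
  exact h

/-- a scheme covered by affine generating loci of sections of positive powers of an invertible module is separated -/
theorem isSeparated_of_cover (L : X.Modules) (hL : PicF.IsInvertible L)
    (h : ∀ x : X, ∃ (n : ℕ) (s : Coh.structureModule X ⟶ CohB1.tensorPow L (n + 1)),
      x ∈ CohB1.genLocus _ s ∧ IsAffineOpen (CohB1.genLocus _ s)) : X.IsSeparated := by
  choose n s hxs haff using h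
  refine SepCover.isSeparated_of_isOpenCover (fun x : X => CohB1.genLocus _ (s x)) ?_ haff (fun x y => ?_)
    (fun x y => ?_)
  · rw [IsOpenCover, eq_top_iff]
    intro x _
    exact Opens.mem_iSup.2 ⟨x, hxs x⟩
  · exact isAffineOpen_inf_genLocus _ (isInvertible_tensorPow hL _) (s y) _ (haff x)
  · obtain ⟨σ, τ, hσ, hτ⟩ := exists_common_power L hL (n x + 1) (n y + 1) (Nat.succ_pos _) (Nat.succ_pos _)
      (s x) (s y)
    exact closure_eq_top_of_eq hσ hτ (closure_eq_top_of_sections _ σ τ (hσ ▸ haff x))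

end Groth.Agent.Lib.Helper23.SecTw
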