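import Mathlib
import Groth.Agent.Lib.Helper23SecTw8
import Groth.Agent.Lib.Helper23QAffSec

/-!
# Ample modules: affine `X_s` around finitely many points (helper23)

* `sv_add`, `sv_zero`, `genLocus_zero`, `basicOpen_add_le`, `mem_basicOpen_add`, `genLocus_add_le`, `mem_genLocus_add`
* `exists_not_mem_closure` : a finite nonempty subset of a T0 space has a point outside the closure of the others
* `exists_common_power_eq`, `exists_section_of_finite` : finite `Z ⊆ U` lies in some `X_t ⊆ U`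
* `isQuasiAffine_genLocus` : `X_s` is quasi-affine when `L` is ample
* `exists_affine_genLocus_of_finite` : EGA II 4.5.4
-/

set_option autoImplicit false
universe u
open CategoryTheory CategoryTheory.Limits AlgebraicGeometry TopologicalSpace Opposite

namespace Groth.Agent.Lib.Helper23.SecTw
open Groth.Agent.Lib.Helper23.GenLocus Groth.Agent.Lib.Helper6 Groth.Agent.Lib.Helper23.AmpleIso

variable {X : Scheme.{u}}



theorem sv_add {L : X.Modules} (σ τ : Coh.structureModule X ⟶ L) (W : X.Opens) :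
    sv (σ + τ) W = sv σ W + sv τ W := by
  rw [val_eq_app, val_eq_app, val_eq_app]
  rfl

theorem sv_zero {L : X.Modules} (W : X.Opens) : sv (0 : Coh.structureModule X ⟶ L) W = 0 := by
  rw [val_eq_app]
  rfl

theorem genLocus_zero (L : X.Modules) (hL : PicF.IsInvertible L) :
    CohB1.genLocus L (0 : Coh.structureModule X ⟶ L) = ⊥ := by
  rw [eq_bot_iff]
  intro x hx
  obtain ⟨W, e, hxW, he⟩ := exists_gen L hL x
  have h1 : sv (0 : Coh.structureModule X ⟶ L) W = (0 : Γ(X, W)) • e := by rw [sv_zero, zero_smul]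
  have h2 := genLocus_inf_eq_of_isGen L _ W e _ he h1
  rw [Scheme.basicOpen_zero] at h2
  have : x ∈ CohB1.genLocus L (0 : Coh.structureModule X ⟶ L) ⊓ W := ⟨hx, hxW⟩
  rw [h2] at this
  exact this

theorem basicOpen_add_le {W : X.Opens} (a b : Γ(X, W)) :
    X.basicOpen (a + b) ≤ X.basicOpen a ⊔ X.basicOpen b := by
  intro x hx
  have hxW : x ∈ W := X.basicOpen_le _ hx
  rw [Scheme.mem_basicOpen _ _ x hxW, map_add] at hx
  rcases IsLocalRing.isUnit_or_isUnit_of_isUnit_add hx with h | h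
  · exact Or.inl ((Scheme.mem_basicOpen _ _ x hxW).2 h)
  · exact Or.inr ((Scheme.mem_basicOpen _ _ x hxW).2 h)

theorem mem_basicOpen_add {W : X.Opens} (a b : Γ(X, W)) (x : X) (ha : x ∈ X.basicOpen a)
    (hb : x ∉ X.basicOpen b) : x ∈ X.basicOpen (a + b) := by
  have hxW : x ∈ W := X.basicOpen_le _ ha
  rw [Scheme.mem_basicOpen _ _ x hxW] at ha hb ⊢
  rw [map_add]
  by_contra h
  have h1 : (X.presheaf.germ W x hxW) a + (X.presheaf.germ W x hxW) b ∈ nonunits _ := h
  have h2 : (X.presheaf.germ W x hxW) b ∈ nonunits _ := hb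
  have h3 := IsLocalRing.nonunits_add h1 (by
    have : -(X.presheaf.germ W x hxW) b ∈ nonunits _ := by
      rw [mem_nonunits_iff, IsUnit.neg_iff]; exact hb
    exact this)
  rw [add_neg_cancel_right] at h3
  exact h3 ha

theorem genLocus_add_le (L : X.Modules) (hL : PicF.IsInvertible L) (σ τ : Coh.structureModule X ⟶ L) :
    CohB1.genLocus L (σ + τ) ≤ CohB1.genLocus L σ ⊔ CohB1.genLocus L τ := by
  intro x hx
  obtain ⟨W, e, hxW, he⟩ := exists_gen L hL x
  have h1 : sv (σ + τ) W = (coef he le_rfl (sv σ W) + coef he le_rfl (sv τ W)) • e := by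
    rw [sv_add, add_smul, ← sv_eq_coef_smul σ he, ← sv_eq_coef_smul τ he]
  have h2 := genLocus_inf_eq_of_isGen L _ W e _ he h1
  have h3 : x ∈ CohB1.genLocus L (σ + τ) ⊓ W := ⟨hx, hxW⟩
  rw [h2] at h3
  rcases basicOpen_add_le _ _ h3 with h | h
  · rw [← genLocus_inf_eq_coef σ he] at h
    exact Or.inl h.1
  · rw [← genLocus_inf_eq_coef τ he] at h
    exact Or.inr h.1

theorem mem_genLocus_add (L : X.Modules) (hL : PicF.IsInvertible L) (σ τ : Coh.structureModule X ⟶ L) (x : X)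
    (hσ : x ∈ CohB1.genLocus L σ) (hτ : x ∉ CohB1.genLocus L τ) : x ∈ CohB1.genLocus L (σ + τ) := by
  obtain ⟨W, e, hxW, he⟩ := exists_gen L hL x
  have h1 : sv (σ + τ) W = (coef he le_rfl (sv σ W) + coef he le_rfl (sv τ W)) • e := by
    rw [sv_add, add_smul, ← sv_eq_coef_smul σ he, ← sv_eq_coef_smul τ he]
  have h2 := genLocus_inf_eq_of_isGen L _ W e _ he h1
  have ha : x ∈ X.basicOpen (coef he le_rfl (sv σ W)) := by
    rw [← genLocus_inf_eq_coef σ he]; exact ⟨hσ, hxW⟩
  have hb : x ∉ X.basicOpen (coef he le_rfl (sv τ W)) := by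
    rw [← genLocus_inf_eq_coef τ he]; exact fun h => hτ h.1
  have h3 := mem_basicOpen_add _ _ x ha hb
  rw [← h2] at h3
  exact h3.1


/-- a finite nonempty subset of a T0 space has a point which is not a specialization of any other point of the set -/
theorem exists_not_mem_closure {T : Type*} [TopologicalSpace T] [T0Space T] (Z : Set T) (hZ : Z.Finite)
    (hne : Z.Nonempty) : ∃ z ∈ Z, z ∉ closure (Z \ {z}) := by
  letI := specializationPreorder T
  obtain ⟨z, hzZ, hmax⟩ := hZ.exists_maximal hne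
  refine ⟨z, hzZ, ?_⟩
  have hfin : (Z \ {z}).Finite := hZ.subset Set.diff_subset
  rw [← Set.biUnion_of_singleton (Z \ {z}), hfin.closure_biUnion]
  simp only [Set.mem_iUnion, not_exists]
  intro w hw hzw
  have h1 : w ⤳ z := specializes_iff_mem_closure.2 hzw
  have h2 : z ⤳ w := hmax hw.1 h1
  exact hw.2 (h1.antisymm h2).eq



theorem exists_common_power_eq (L : X.Modules) (hL : PicF.IsInvertible L) (a b c : ℕ) (ha : 0 < a) (hb : 0 < b)
    (hc : a * b = c)
    (s : Coh.structureModule X ⟶ CohB1.tensorPow L a) (t : Coh.structureModule X ⟶ CohB1.tensorPow L b) :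
    ∃ σ τ : Coh.structureModule X ⟶ CohB1.tensorPow L c,
      CohB1.genLocus _ σ = CohB1.genLocus _ s ∧ CohB1.genLocus _ τ = CohB1.genLocus _ t := by
  subst hc
  exact exists_common_power L hL a b ha hb s t

/-- for an ample `L`, a finite set inside an open `U` lies in some `X_t ⊆ U` -/
theorem exists_section_of_finite [CompactSpace X] (L : X.Modules) (hL : CohB1.IsAmple L) :
    ∀ (n : ℕ) (Z : Set X), Z.Finite → Z.ncard = n → ∀ U : X.Opens, Z ⊆ U →
      ∃ (N : ℕ) (t : Coh.structureModule X ⟶ CohB1.tensorPow L (N + 1)),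
        Z ⊆ CohB1.genLocus _ t ∧ CohB1.genLocus _ t ≤ U := by
  intro n
  induction n with
  | zero =>
    intro Z hZ hcard U hZU
    have hZe : Z = ∅ := (Set.ncard_eq_zero hZ).1 hcard
    refine ⟨0, 0, ?_, ?_⟩
    · rw [hZe]; exact Set.empty_subset _
    · rw [genLocus_zero _ (isInvertible_tensorPow hL.1 _)]; exact bot_le
  | succ n ih =>
    intro Z hZ hcard U hZU
    have hne : Z.Nonempty := by
      rw [← Set.ncard_pos hZ, hcard]; exact Nat.succ_pos n
    obtain ⟨z, hzZ, hz⟩ := exists_not_mem_closure Z hZ hne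
    have hcard₀ : (Z \ {z}).ncard = n := by
      rw [Set.ncard_diff_singleton_of_mem hzZ, hcard]; rfl
    obtain ⟨a, t₀, hZt₀, ht₀U⟩ := ih (Z \ {z}) (hZ.subset Set.diff_subset) hcard₀ U
      (Set.diff_subset.trans hZU)
    by_cases hzt₀ : z ∈ CohB1.genLocus _ t₀
    · refine ⟨a, t₀, ?_, ht₀U⟩
      intro w hw
      by_cases hwz : w = z
      · rw [hwz]; exact hzt₀
      · exact hZt₀ ⟨hw, hwz⟩
    · let V : X.Opens := U ⊓ ⟨(closure (Z \ {z}))ᶜ, isClosed_closure.isOpen_compl⟩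
      have hzV : z ∈ V := ⟨hZU hzZ, hz⟩
      obtain ⟨b, u, hzu, huV, -⟩ := exists_genLocus_nhd_of_isAmple L hL V z hzV
      obtain ⟨N', hN'⟩ : ∃ N', (a + 1) * (b + 1) = N' + 1 := ⟨(a + 1) * (b + 1) - 1, by
        have : 0 < (a + 1) * (b + 1) := Nat.mul_pos (Nat.succ_pos a) (Nat.succ_pos b)
        omega⟩
      obtain ⟨σ, τ, hσ, hτ⟩ := exists_common_power_eq L hL.1 (a + 1) (b + 1) (N' + 1) (Nat.succ_pos _)
        (Nat.succ_pos _) hN' t₀ u
      have hinv := isInvertible_tensorPow hL.1 (N' + 1)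
      refine ⟨N', σ + τ, ?_, ?_⟩
      · intro w hw
        by_cases hwz : w = z
        · rw [hwz, add_comm σ τ]
          apply mem_genLocus_add _ hinv
          · rw [hτ]; exact hzu
          · rw [hσ]; exact hzt₀
        · apply mem_genLocus_add _ hinv
          · rw [hσ]; exact hZt₀ ⟨hw, hwz⟩
          · rw [hτ]
            intro hwu
            exact (huV hwu).2 (subset_closure ⟨hw, hwz⟩)
      · refine (genLocus_add_le _ hinv σ τ).trans (sup_le ?_ ?_)
        · rw [hσ]; exact ht₀U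
        · rw [hτ]; exact huV.trans inf_le_left



theorem exists_basicOpen_eq_inf (M : X.Modules) (σ s : Coh.structureModule X ⟶ M) (Y : X.Opens)
    (hY : CohB1.genLocus M s = Y) : ∃ r : Γ(X, Y), X.basicOpen r = CohB1.genLocus M σ ⊓ Y := by
  subst hY
  exact ⟨_, (genLocus_inf_eq_coef σ (isGen_sv_genLocus M s)).symm⟩

/-- for an ample `L`, every `X_s` (`s` a section of a positive power) is quasi-affine -/
theorem isQuasiAffine_genLocus [CompactSpace X] (L : X.Modules) (hL : CohB1.IsAmple L) (N : ℕ)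
    (s₀ : Coh.structureModule X ⟶ CohB1.tensorPow L (N + 1)) :
    (CohB1.genLocus _ s₀ : Scheme.{u}).IsQuasiAffine := by
  have hM := isInvertible_tensorPow hL.1 (N + 1)
  haveI : IsAffineHom (CohB1.genLocus _ s₀).ι := Groth.Agent.S2350.result X _ hM s₀
  haveI : CompactSpace (CohB1.genLocus _ s₀ : Scheme.{u}) :=
    QuasiCompact.compactSpace_of_compactSpace (CohB1.genLocus _ s₀).ι
  refine Scheme.IsQuasiAffine.of_forall_exists_mem_basicOpen _ fun y => ?_
  obtain ⟨m, σ, hyσ, haff⟩ := hL.2.2 y.1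
  obtain ⟨σ', s', hσ', hs'⟩ := exists_common_power L hL.1 (m + 1) (N + 1) (Nat.succ_pos _) (Nat.succ_pos _) σ s₀
  obtain ⟨r, hr⟩ := exists_basicOpen_eq_inf _ σ' s' _ hs'
  rw [hσ'] at hr
  have hraff : IsAffineOpen (X.basicOpen r) := by
    rw [hr]
    exact isAffineOpen_inf_genLocus _ hM s₀ _ haff
  have himg := Scheme.Opens.ι_image_basicOpen_topIso_inv (U := CohB1.genLocus _ s₀) r
  refine ⟨(CohB1.genLocus _ s₀).topIso.inv r, ?_, ?_⟩
  · rw [← Scheme.Hom.isAffineOpen_iff_of_isOpenImmersion (CohB1.genLocus _ s₀).ι, himg]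
    exact hraff
  · have h1 : y.1 ∈ X.basicOpen r := by
      rw [hr]; exact ⟨hyσ, y.2⟩
    rw [← himg] at h1
    obtain ⟨y', hy', hy'eq⟩ := h1
    have : y' = y := (CohB1.genLocus _ s₀).ι.isOpenEmbedding.injective hy'eq
    exact this ▸ hy'

/-- EGA II 4.5.4: for an ample `L` on a quasi-compact scheme, a finite set inside an open `U` lies in an affine
`X_s ⊆ U` for a section `s` of a positive power of `L` -/
theorem exists_affine_genLocus_of_finite {X : Scheme.{u}} [CompactSpace X] (L : X.Modules) (hL : CohB1.IsAmple L)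
    (Z : Set X) (hZ : Z.Finite) (U : X.Opens) (hZU : Z ⊆ U) :
    ∃ (n : ℕ) (s : Coh.structureModule X ⟶ CohB1.tensorPow L (n + 1)),
      Z ⊆ CohB1.genLocus _ s ∧ CohB1.genLocus _ s ≤ U ∧ IsAffineOpen (CohB1.genLocus _ s) := by
  haveI := quasiSeparatedSpace_of_isAmple L hL
  obtain ⟨N, s₀, hZs₀, hs₀U⟩ := exists_section_of_finite L hL _ Z hZ rfl U hZU
  have hM := isInvertible_tensorPow hL.1 (N + 1)
  haveI := isQuasiAffine_genLocus L hL N s₀
  have hE : ((CohB1.genLocus _ s₀).ι ⁻¹' Z).Finite :=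
    hZ.preimage ((CohB1.genLocus _ s₀).ι.isOpenEmbedding.injective.injOn)
  obtain ⟨g', hEg', -, hg'aff⟩ := exists_basicOpen_of_finite (X := (CohB1.genLocus _ s₀ : Scheme.{u})) ⊤
    ((CohB1.genLocus _ s₀).ι ⁻¹' Z) hE (fun _ _ => trivial)
  obtain ⟨g, hg⟩ : ∃ g : Γ(X, CohB1.genLocus _ s₀), (CohB1.genLocus _ s₀).topIso.inv g = g' :=
    ⟨(CohB1.genLocus _ s₀).topIso.hom g', by
      rw [← CommRingCat.comp_apply, Iso.hom_inv_id]; rfl⟩
  have himg := Scheme.Opens.ι_image_basicOpen_topIso_inv (U := CohB1.genLocus _ s₀) g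
  rw [hg] at himg
  obtain ⟨n, τ, hτ⟩ := exists_section_genLocus_eq_basicOpen _ hM s₀ g
  obtain ⟨N', hN'⟩ : ∃ N', (N + 1) * (n + 1) = N' + 1 := ⟨(N + 1) * (n + 1) - 1, by
    have : 0 < (N + 1) * (n + 1) := Nat.mul_pos (Nat.succ_pos N) (Nat.succ_pos n)
    omega⟩
  obtain ⟨Φ⟩ := nonempty_tensorPow_tensorPow_iso L hL.1 (N + 1) (n + 1) (N' + 1) hN'
  refine ⟨N', τ ≫ Φ.hom, ?_⟩
  rw [genLocus_comp_iso, hτ, ← himg]
  refine ⟨?_, ?_, hg'aff.image_of_isOpenImmersion _⟩
  · intro z hz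
    exact ⟨⟨z, hZs₀ hz⟩, hEg' (show (CohB1.genLocus _ s₀).ι ⟨z, hZs₀ hz⟩ ∈ Z from hz), rfl⟩
  · rw [himg]
    exact (X.basicOpen_le g).trans hs₀U


end Groth.Agent.Lib.Helper23.SecTw
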