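import Mathlib
import Groth.Agent.Lib.Helper23SecTw9

/-!
# Ample modules: sections of all large twists (helper23)

* `nonempty_tensorMod_tensorPow_add_iso` : `(E ⊗ L^a) ⊗ L^b ≅ E ⊗ L^(a+b)`; `nonempty_tensorMod_comm_iso` : `E ⊗ F ≅ F ⊗ E`
* `le_genLocus_of_isGen`, `exists_section_extending_gen` : a generator of `Q` on `X_σ` extends to a section of `Q ⊗ P^n`
* `exists_isGen_nhd_of_finite`, `exists_frame_of_finite` : generators near a finite set (scheme with an ample module)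
* `exists_sections_eventually` : for `L` ample, `E` invertible, `Z` finite: a neighbourhood `V ⊇ Z` and `N₀` such that for
  all `N ≥ N₀` some section of `E ⊗ L^N` generates on `V`
* `isGloballyGenerated_of_forall_mem_genLocus`
-/

set_option autoImplicit false
universe u
open CategoryTheory CategoryTheory.Limits AlgebraicGeometry TopologicalSpace Opposite

namespace Groth.Agent.Lib.Helper23.SecTw
open Groth.Agent.Lib.Helper23.GenLocus Groth.Agent.Lib.Helper6 Groth.Agent.Lib.Helper23.AmpleIso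
open Groth.Agent.Lib.Helper23.Extend

variable {X : Scheme.{u}}



theorem tm_smul_smul (M N : X.Modules) (U : X.Opens) (r r' : Γ(X, U)) (m : Γ(M, U)) (n : Γ(N, U)) :
    tm M N U (r • m) (r' • n) = (r * r') • tm M N U m n := by
  rw [tm_smul_left, tm_smul_right, mul_smul]

/-- `(E ⊗ L^a) ⊗ L^b ≅ E ⊗ L^(a+b)` -/
theorem nonempty_tensorMod_tensorPow_add_iso (E L : X.Modules) (hE : PicF.IsInvertible E) (hL : PicF.IsInvertible L)
    (a b c : ℕ) (h : a + b = c) :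
    Nonempty (CohB1.tensorMod (CohB1.tensorMod E (CohB1.tensorPow L a)) (CohB1.tensorPow L b) ≅
      CohB1.tensorMod E (CohB1.tensorPow L c)) := by
  subst h
  obtain ⟨Φ, -⟩ := exists_iso_of_frames
    (CohB1.tensorMod (CohB1.tensorMod E (CohB1.tensorPow L a)) (CohB1.tensorPow L b))
    (CohB1.tensorMod E (CohB1.tensorPow L (a + b)))
    (fun p : Fr E × Fr L => p.1.1.1 ⊓ p.2.1.1)
    (fun x => by
      obtain ⟨W, e, hxW, he⟩ := exists_gen E hE x
      obtain ⟨W', e', hxW', he'⟩ := exists_gen L hL x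
      exact ⟨⟨⟨⟨W, e⟩, he⟩, ⟨⟨W', e'⟩, he'⟩⟩, hxW, hxW'⟩)
    (fun p => tm _ _ _ (tm E _ _ (res E inf_le_left p.1.1.2) (pw L _ (res L inf_le_right p.2.1.2) a))
      (pw L _ (res L inf_le_right p.2.1.2) b))
    (fun p => tm E _ _ (res E inf_le_left p.1.1.2) (pw L _ (res L inf_le_right p.2.1.2) (a + b)))
    (fun p => isGen_tm _ _ _ _ _ (isGen_tm _ _ _ _ _ (p.1.2.mono inf_le_left) (isGen_pw L _ _ (p.2.2.mono inf_le_right) a))
      (isGen_pw L _ _ (p.2.2.mono inf_le_right) b))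
    (fun p => isGen_tm _ _ _ _ _ (p.1.2.mono inf_le_left) (isGen_pw L _ _ (p.2.2.mono inf_le_right) (a + b)))
    (fun p q => by
      obtain ⟨γ, hγ⟩ := exists_transition' (res E inf_le_left p.1.1.2) (q.1.2.mono (inf_le_left : q.1.1.1 ⊓ q.2.1.1 ≤ _))
      obtain ⟨γ', hγ'⟩ := exists_transition' (res L inf_le_right p.2.1.2)
        (q.2.2.mono (inf_le_right : q.1.1.1 ⊓ q.2.1.1 ≤ _))
      refine cocycle_of_transition (isGen_tm _ _ _ _ _ (isGen_tm _ _ _ _ _ (q.1.2.mono inf_le_left)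
        (isGen_pw L _ _ (q.2.2.mono inf_le_right) a)) (isGen_pw L _ _ (q.2.2.mono inf_le_right) b))
        (γ * γ' ^ a * γ' ^ b) ?_ ?_
      · rw [res_tm, res_tm, res_pw, res_pw, hγ, hγ', pw_smul, pw_smul, tm_smul_smul, tm_smul_smul,
          res_tm, res_tm, res_pw, res_pw]
      · rw [res_tm, res_pw, hγ, hγ', pw_smul, tm_smul_smul, res_tm, res_pw,
          mul_assoc, ← pow_add])
  exact ⟨Φ⟩

/-- `E ⊗ F ≅ F ⊗ E` -/
theorem nonempty_tensorMod_comm_iso (E F : X.Modules) (hE : PicF.IsInvertible E) (hF : PicF.IsInvertible F) :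
    Nonempty (CohB1.tensorMod E F ≅ CohB1.tensorMod F E) := by
  obtain ⟨Φ, -⟩ := exists_iso_of_frames (CohB1.tensorMod E F) (CohB1.tensorMod F E)
    (fun p : Fr E × Fr F => p.1.1.1 ⊓ p.2.1.1)
    (fun x => by
      obtain ⟨W, e, hxW, he⟩ := exists_gen E hE x
      obtain ⟨W', e', hxW', he'⟩ := exists_gen F hF x
      exact ⟨⟨⟨⟨W, e⟩, he⟩, ⟨⟨W', e'⟩, he'⟩⟩, hxW, hxW'⟩)
    (fun p => tm E F _ (res E inf_le_left p.1.1.2) (res F inf_le_right p.2.1.2))
    (fun p => tm F E _ (res F inf_le_right p.2.1.2) (res E inf_le_left p.1.1.2))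
    (fun p => isGen_tm _ _ _ _ _ (p.1.2.mono inf_le_left) (p.2.2.mono inf_le_right))
    (fun p => isGen_tm _ _ _ _ _ (p.2.2.mono inf_le_right) (p.1.2.mono inf_le_left))
    (fun p q => by
      obtain ⟨γ, hγ⟩ := exists_transition' (res E inf_le_left p.1.1.2) (q.1.2.mono (inf_le_left : q.1.1.1 ⊓ q.2.1.1 ≤ _))
      obtain ⟨γ', hγ'⟩ := exists_transition' (res F inf_le_right p.2.1.2)
        (q.2.2.mono (inf_le_right : q.1.1.1 ⊓ q.2.1.1 ≤ _))
      refine cocycle_of_transition (isGen_tm _ _ _ _ _ (q.1.2.mono inf_le_left) (q.2.2.mono inf_le_right))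
        (γ * γ') ?_ ?_
      · rw [res_tm, hγ, hγ', tm_smul_smul, res_tm]
      · rw [res_tm, hγ, hγ', tm_smul_smul, res_tm, mul_comm])
  exact ⟨Φ⟩



/-- a section restricting to a generator on `W` has `W ≤ X_u` -/
theorem le_genLocus_of_isGen (M : X.Modules) (u : Coh.structureModule X ⟶ M) (W : X.Opens)
    (h : IsGen M W (sv u W)) : W ≤ CohB1.genLocus M u := by
  have h1 : sv u W = (1 : Γ(X, W)) • sv u W := (one_smul _ _).symm
  have h2 := genLocus_inf_eq_of_isGen M u W _ _ h h1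
  rw [Scheme.basicOpen_of_isUnit _ isUnit_one] at h2
  exact inf_eq_right.1 h2

/-- extension of a local generator of `Q` on `X_σ` to a global section of `Q ⊗ P^n` -/
theorem exists_section_extending_gen [CompactSpace X] [QuasiSeparatedSpace X] (P : X.Modules)
    (hP : PicF.IsInvertible P) (σ : Coh.structureModule X ⟶ P) (Q : X.Modules) (hQ : PicF.IsInvertible Q)
    (e : Γ(Q, CohB1.genLocus P σ)) (he : IsGen Q (CohB1.genLocus P σ) e) :
    ∃ (n : ℕ) (u : Coh.structureModule X ⟶ CohB1.tensorMod Q (CohB1.tensorPow P n)), 0 < n ∧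
      CohB1.genLocus P σ ≤ CohB1.genLocus _ u := by
  haveI : Q.IsQuasicoherent := isQuasicoherent_of_isInvertible Q hQ
  obtain ⟨n, hn, t', ht'⟩ := Groth.Agent.S15744.main X P hP σ Q e
  refine ⟨n, secHom _ t', hn, le_genLocus_of_isGen _ _ _ ?_⟩
  rw [sv_secHom, ht']
  exact isGen_tm _ _ _ _ _ he (isGen_pw P _ _ (isGen_sv_genLocus P σ) n)



theorem exists_isGen_of_iso (L : X.Modules) (U : X.Opens)
    (h : Nonempty (L.restrict U.ι ≅ Coh.structureModule (↑U : Scheme.{u}))) : ∃ e : Γ(L, U), IsGen L U e := by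
  obtain ⟨ε⟩ := h
  refine exists_isGen_of_eq L ?_ _ (isGen_frameE L U ε ⊤)
  rw [Scheme.Hom.image_top_eq_opensRange, Scheme.Opens.opensRange_ι]

/-- on a scheme with an ample module, an invertible module has a generator on a neighbourhood of any finite set -/
theorem exists_isGen_nhd_of_finite (M : X.Modules) (hM : CohB1.IsAmple M)
    (L : X.Modules) (hL : PicF.IsInvertible L) (Z : Set X) (hZ : Z.Finite) (W : X.Opens) (hZW : Z ⊆ W) :
    ∃ (U : X.Opens) (e : Γ(L, U)), Z ⊆ U ∧ U ≤ W ∧ IsGen L U e := by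
  haveI := hM.2.1
  obtain ⟨n, σ, hZσ, hσW, haff⟩ := exists_affine_genLocus_of_finite M hM Z hZ W hZW
  obtain ⟨g, hZg, hiso⟩ := Groth.Agent.Lib.Helper2.SemiLocFree.exists_basicOpen_iso_freeMod L 1
    (isFinLocFreeOfRank_one_of_isInvertible L hL) Z hZ haff hZσ
  obtain ⟨e, he⟩ := exists_isGen_of_iso_freeMod L _ hiso
  exact ⟨X.basicOpen g, e, hZg, (X.basicOpen_le g).trans hσW, he⟩

/-- a common affine frame `X_σ` of `E` and `L` around a finite set -/
theorem exists_frame_of_finite (L : X.Modules) (hL : CohB1.IsAmple L) (E : X.Modules) (hE : PicF.IsInvertible E)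
    (Z : Set X) (hZ : Z.Finite) (U : X.Opens) (hZU : Z ⊆ U) :
    ∃ (n : ℕ) (σ : Coh.structureModule X ⟶ CohB1.tensorPow L (n + 1)),
      Z ⊆ CohB1.genLocus _ σ ∧ CohB1.genLocus _ σ ≤ U ∧ IsAffineOpen (CohB1.genLocus _ σ) ∧
      (∃ e : Γ(E, CohB1.genLocus _ σ), IsGen E _ e) ∧ (∃ e : Γ(L, CohB1.genLocus _ σ), IsGen L _ e) := by
  haveI := hL.2.1
  obtain ⟨U₁, e₁, hZU₁, hU₁U, he₁⟩ := exists_isGen_nhd_of_finite L hL E hE Z hZ U hZU
  obtain ⟨U₂, e₂, hZU₂, hU₂U₁, he₂⟩ := exists_isGen_nhd_of_finite L hL L hL.1 Z hZ U₁ hZU₁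
  obtain ⟨n, σ, hZσ, hσU₂, haff⟩ := exists_affine_genLocus_of_finite L hL Z hZ U₂ hZU₂
  exact ⟨n, σ, hZσ, hσU₂.trans (hU₂U₁.trans hU₁U), haff, ⟨_, he₁.mono (hσU₂.trans hU₂U₁)⟩, ⟨_, he₂.mono hσU₂⟩⟩



/-- **Sections of all large twists**: for `L` ample and `E` invertible, there are a neighbourhood `V` of a given finite
set and `N₀` such that for all `N ≥ N₀` some global section of `E ⊗ L^N` generates on `V`. -/
theorem exists_sections_eventually (L : X.Modules) (hL : CohB1.IsAmple L) (E : X.Modules) (hE : PicF.IsInvertible E)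
    (Z : Set X) (hZ : Z.Finite) :
    ∃ (V : X.Opens) (N₀ : ℕ), Z ⊆ V ∧ ∀ N, N₀ ≤ N →
      ∃ s : Coh.structureModule X ⟶ CohB1.tensorMod E (CohB1.tensorPow L N), V ≤ CohB1.genLocus _ s := by
  haveI := hL.2.1
  haveI := quasiSeparatedSpace_of_isAmple L hL
  have hinv := hL.1
  obtain ⟨n₀, σ, hZσ, -, -, ⟨eE, heE⟩, ⟨eL, heL⟩⟩ := exists_frame_of_finite L hL E hE Z hZ ⊤ (fun _ _ => trivial)
  have hP := isInvertible_tensorPow hinv (n₀ + 1)
  have hQ : ∀ r : ℕ, PicF.IsInvertible (CohB1.tensorMod E (CohB1.tensorPow L r)) :=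
    fun r => isInvertible_tensorMod hE (isInvertible_tensorPow hinv r)
  have hK1 : ∀ r : ℕ, ∃ (n : ℕ) (u : Coh.structureModule X ⟶
      CohB1.tensorMod (CohB1.tensorMod E (CohB1.tensorPow L r)) (CohB1.tensorPow (CohB1.tensorPow L (n₀ + 1)) n)),
      0 < n ∧ CohB1.genLocus _ σ ≤ CohB1.genLocus _ u :=
    fun r => exists_section_extending_gen _ hP σ _ (hQ r) _
      (isGen_tm _ _ _ _ _ heE (isGen_pw L _ _ heL r))
  choose n u hn hu using hK1
  refine ⟨CohB1.genLocus _ σ, (n₀ + 1) * ((Finset.range (n₀ + 1)).sup n + 1), hZσ, fun N hN => ?_⟩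
  have ha : 0 < n₀ + 1 := Nat.succ_pos _
  have hr : N % (n₀ + 1) < n₀ + 1 := Nat.mod_lt _ ha
  have hq : (Finset.range (n₀ + 1)).sup n + 1 ≤ N / (n₀ + 1) := by
    rw [Nat.le_div_iff_mul_le ha, mul_comm]; exact hN
  have hnr : n (N % (n₀ + 1)) ≤ (Finset.range (n₀ + 1)).sup n :=
    Finset.le_sup (f := n) (Finset.mem_range.2 hr)
  obtain ⟨m, hm⟩ : ∃ m, n (N % (n₀ + 1)) + (m + 1) = N / (n₀ + 1) :=
    ⟨N / (n₀ + 1) - n (N % (n₀ + 1)) - 1, by omega⟩
  obtain ⟨Φ₁⟩ := nonempty_tensorMod_tensorPow_add_iso (CohB1.tensorMod E (CohB1.tensorPow L (N % (n₀ + 1))))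
    (CohB1.tensorPow L (n₀ + 1)) (hQ _) hP (n (N % (n₀ + 1))) (m + 1) (N / (n₀ + 1)) hm
  obtain ⟨Ψ⟩ := nonempty_tensorPow_tensorPow_iso L hinv (n₀ + 1) (N / (n₀ + 1)) ((n₀ + 1) * (N / (n₀ + 1))) rfl
  obtain ⟨Φ₃⟩ := nonempty_tensorMod_tensorPow_add_iso E L hE hinv (N % (n₀ + 1)) ((n₀ + 1) * (N / (n₀ + 1))) N
    (Nat.mod_add_div N (n₀ + 1))
  refine ⟨SecTwist.tmulHom (u (N % (n₀ + 1))) (SecTwist.powHom σ (m + 1)) ≫
    (Φ₁ ≪≫ tensorModIso (Iso.refl _) Ψ ≪≫ Φ₃).hom, ?_⟩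
  rw [genLocus_comp_iso, genLocus_tmulHom (isInvertible_tensorMod (hQ _) (isInvertible_tensorPow hP _))
    (isInvertible_tensorPow hP _), genLocus_powHom hP σ (m + 1) (Nat.succ_pos m)]
  exact le_inf (hu _) le_rfl



/-- a module all of whose points lie in some `X_s` is globally generated -/
theorem isGloballyGenerated_of_forall_mem_genLocus (N : X.Modules)
    (h : ∀ x : X, ∃ s : Coh.structureModule X ⟶ N, x ∈ CohB1.genLocus N s) : Curv2.IsGloballyGenerated N := by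
  let p : (SheafOfModules.free (Coh.structureModule X ⟶ N) : X.Modules) ⟶ N :=
    Sigma.desc (C := SheafOfModules X.ringCatSheaf) (fun s : (Coh.structureModule X ⟶ N) => s)
  have hp : ∀ s : Coh.structureModule X ⟶ N,
      (show Coh.structureModule X ⟶ (SheafOfModules.free (Coh.structureModule X ⟶ N) : X.Modules) from
        SheafOfModules.ιFree (R := X.ringCatSheaf) s) ≫ p = s := fun s =>
    Sigma.ι_desc (C := SheafOfModules X.ringCatSheaf) (fun s : (Coh.structureModule X ⟶ N) => s) s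
  refine ⟨(Coh.structureModule X ⟶ N), p, ?_⟩
  apply Groth.Agent.Lib.Helper23.Serre.epi_of_locally_surjective
  intro V t x hxV
  obtain ⟨s, hxs⟩ := h x
  obtain ⟨V₀, hxV₀, hiso⟩ := (mem_genLocus_iff N s x).1 hxs
  refine ⟨V ⊓ V₀, inf_le_left, ⟨hxV, hxV₀⟩, ?_⟩
  haveI := hiso (V ⊓ V₀) inf_le_right
  obtain ⟨a, ha⟩ := (ConcreteCategory.bijective_of_isIso (s.app (V ⊓ V₀))).2
    (N.presheaf.map (homOfLE (inf_le_left : V ⊓ V₀ ≤ V)).op t)
  refine ⟨(show Coh.structureModule X ⟶ (SheafOfModules.free (Coh.structureModule X ⟶ N) : X.Modules) from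
        SheafOfModules.ιFree (R := X.ringCatSheaf) s).app (V ⊓ V₀) a, ?_⟩
  rw [← ha]
  exact congrArg (fun φ : Coh.structureModule X ⟶ N => φ.app (V ⊓ V₀) a) (hp s)

end Groth.Agent.Lib.Helper23.SecTw
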