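import Mathlib
import Groth.Agent.Lib.Helper23SecTw10

/-!
# Restriction of invertible / ample modules to open subschemes (helper23)

* `isGen_restrict_of_isGen`, `isGen_of_isGen_restrict` : frames of `M.restrict U.ι` = frames of `M` inside `U`
* `isInvertible_restrict`
* `nonempty_restrict_tensorPow_iso` : `(L^{⊗ n})|_U ≅ (L|_U)^{⊗ n}`; `nonempty_restrict_tensorMod_iso` : `(M ⊗ N)|_U ≅ M|_U ⊗ N|_U`
  (invertible modules)
* `restrSec`, `genLocus_restrSec` : the restriction of a global section and its generating locus (`= U.ι ⁻¹ᵁ X_s`)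
* `isAmple_restrict` : the restriction of an ample module to a quasi-compact open is ample
* `isAmple_of_restrict_top` : ampleness can be checked on the open subscheme `⊤`
-/

set_option autoImplicit false
universe u
open CategoryTheory CategoryTheory.Limits AlgebraicGeometry TopologicalSpace Opposite

namespace Groth.Agent.Lib.Helper23.SecTw
open Groth.Agent.Lib.Helper23.GenLocus Groth.Agent.Lib.Helper6 Groth.Agent.Lib.Helper23.AmpleIso
open Groth.Agent.Lib.Helper23.Extend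

variable {X : Scheme.{u}}


theorem image_le_self (U : X.Opens) (V : (↑U : Scheme.{u}).Opens) : U.ι ''ᵁ V ≤ U := by
  have := Scheme.Hom.image_le_opensRange U.ι V
  rwa [Scheme.Opens.opensRange_ι] at this

theorem image_preimage_of_le (U : X.Opens) {W : X.Opens} (h : W ≤ U) : U.ι ''ᵁ (U.ι ⁻¹ᵁ W) = W := by
  rw [Scheme.Hom.image_preimage_eq_opensRange_inf, Scheme.Opens.opensRange_ι]
  exact inf_eq_right.2 h

/-- restriction maps of a restricted module -/
theorem res_restrict (M : X.Modules) (U : X.Opens) {V V' : (↑U : Scheme.{u}).Opens} (h : V' ≤ V)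
    (m : Γ(M.restrict U.ι, V)) :
    res (M.restrict U.ι) h m = res M (U.ι.image_mono h) (show Γ(M, U.ι ''ᵁ V) from m) := rfl

theorem isGen_restrict_of_isGen (M : X.Modules) (U : X.Opens) (V : (↑U : Scheme.{u}).Opens) (e : Γ(M, U.ι ''ᵁ V))
    (h : IsGen M (U.ι ''ᵁ V) e) : IsGen (M.restrict U.ι) V (show Γ(M.restrict U.ι, V) from e) := by
  intro W' hW'
  have h1 := h (U.ι ''ᵁ W') (U.ι.image_mono hW')
  have h2 : (fun r : Γ((↑U : Scheme.{u}), W') => r • res (M.restrict U.ι) hW' (show Γ(M.restrict U.ι, V) from e)) =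
      fun r : Γ((↑U : Scheme.{u}), W') => ((show Γ(X, U.ι ''ᵁ W') from r) • res M (U.ι.image_mono hW') e : Γ(M, U.ι ''ᵁ W')) := by
    funext r
    exact smul_restrict_eq M U W' r _
  rw [h2]
  exact h1

theorem isGen_of_isGen_restrict (M : X.Modules) (U : X.Opens) (V : (↑U : Scheme.{u}).Opens) (e : Γ(M, U.ι ''ᵁ V))
    (h : IsGen (M.restrict U.ι) V (show Γ(M.restrict U.ι, V) from e)) : IsGen M (U.ι ''ᵁ V) e := by
  intro W' hW'
  have hle : W' ≤ U := hW'.trans (image_le_self U V)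
  obtain ⟨V', hV', rfl⟩ : ∃ V' : (↑U : Scheme.{u}).Opens, V' ≤ V ∧ W' = U.ι ''ᵁ V' := by
    refine ⟨U.ι ⁻¹ᵁ W', ?_, (image_preimage_of_le U hle).symm⟩
    have := U.ι.preimage_mono hW'
    rwa [Scheme.Hom.preimage_image_eq] at this
  have h1 := h V' hV'
  have h2 : (fun r : Γ((↑U : Scheme.{u}), V') => r • res (M.restrict U.ι) hV' (show Γ(M.restrict U.ι, V) from e)) =
      fun r : Γ((↑U : Scheme.{u}), V') => ((show Γ(X, U.ι ''ᵁ V') from r) • res M (U.ι.image_mono hV') e : Γ(M, U.ι ''ᵁ V')) := by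
    funext r
    exact smul_restrict_eq M U V' r _
  rw [h2] at h1
  exact h1



theorem exists_gen_restrict (L : X.Modules) (hL : PicF.IsInvertible L) (U : X.Opens) (x : (↑U : Scheme.{u})) :
    ∃ (V : (↑U : Scheme.{u}).Opens) (e : Γ(L, U.ι ''ᵁ V)), x ∈ V ∧ IsGen L (U.ι ''ᵁ V) e := by
  obtain ⟨W, e, hxW, he⟩ := exists_gen L hL x.1
  have hle : U.ι ''ᵁ (U.ι ⁻¹ᵁ W) ≤ W := by
    rw [Scheme.Hom.image_preimage_eq_opensRange_inf]
    exact inf_le_right
  exact ⟨U.ι ⁻¹ᵁ W, res L hle e, hxW, he.mono hle⟩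

theorem isInvertible_restrict (L : X.Modules) (hL : PicF.IsInvertible L) (U : X.Opens) :
    PicF.IsInvertible (L.restrict U.ι) := by
  refine isInvertible_of_isGen _ (fun x => ?_)
  obtain ⟨V, e, hxV, he⟩ := exists_gen_restrict L hL U x
  exact ⟨V, _, hxV, isGen_restrict_of_isGen L U V e he⟩

/-- `pw` computed in `X` as a section of the restricted module -/
noncomputable def pwR (L : X.Modules) (U : X.Opens) (V : (↑U : Scheme.{u}).Opens) (e : Γ(L.restrict U.ι, V)) (n : ℕ) :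
    Γ((CohB1.tensorPow L n).restrict U.ι, V) :=
  pw L (U.ι ''ᵁ V) (show Γ(L, U.ι ''ᵁ V) from e) n

theorem res_pwR (L : X.Modules) (U : X.Opens) {V V' : (↑U : Scheme.{u}).Opens} (h : V' ≤ V)
    (e : Γ(L.restrict U.ι, V)) (n : ℕ) :
    res ((CohB1.tensorPow L n).restrict U.ι) h (pwR L U V e n) = pwR L U V' (res (L.restrict U.ι) h e) n := by
  exact res_pw L (U.ι.image_mono h) _ n

theorem pwR_smul (L : X.Modules) (U : X.Opens) (V : (↑U : Scheme.{u}).Opens) (r : Γ((↑U : Scheme.{u}), V))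
    (e : Γ(L.restrict U.ι, V)) (n : ℕ) :
    pwR L U V (r • e) n = r ^ n • pwR L U V e n := by
  have h1 : pwR L U V (r • e) n = pw L (U.ι ''ᵁ V) ((show Γ(X, U.ι ''ᵁ V) from r) • (show Γ(L, U.ι ''ᵁ V) from e)) n := by
    unfold pwR
    exact congrArg (fun z => pw L (U.ι ''ᵁ V) z n) (smul_restrict_eq L U V r e)
  rw [h1, pw_smul]
  exact (smul_restrict_eq (CohB1.tensorPow L n) U V (r ^ n) _).symm

theorem isGen_pwR (L : X.Modules) (U : X.Opens) (V : (↑U : Scheme.{u}).Opens) (e : Γ(L.restrict U.ι, V))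
    (he : IsGen (L.restrict U.ι) V e) (n : ℕ) :
    IsGen ((CohB1.tensorPow L n).restrict U.ι) V (pwR L U V e n) :=
  isGen_restrict_of_isGen _ U V _ (isGen_pw L _ _ (isGen_of_isGen_restrict L U V e he) n)

/-- `(L^{⊗ n})|_U ≅ (L|_U)^{⊗ n}` -/
theorem nonempty_restrict_tensorPow_iso (L : X.Modules) (hL : PicF.IsInvertible L) (U : X.Opens) (n : ℕ) :
    Nonempty ((CohB1.tensorPow L n).restrict U.ι ≅ CohB1.tensorPow (L.restrict U.ι) n) := by
  have hLr := isInvertible_restrict L hL U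
  obtain ⟨Φ, -⟩ := exists_iso_of_frames ((CohB1.tensorPow L n).restrict U.ι) (CohB1.tensorPow (L.restrict U.ι) n)
    (fun p : Fr (L.restrict U.ι) => p.1.1)
    (fun x => by
      obtain ⟨W, e, hxW, he⟩ := exists_gen _ hLr x
      exact ⟨⟨⟨W, e⟩, he⟩, hxW⟩)
    (fun p => pwR L U p.1.1 p.1.2 n)
    (fun p => pw (L.restrict U.ι) p.1.1 p.1.2 n)
    (fun p => isGen_pwR L U _ _ p.2 n)
    (fun p => isGen_pw _ _ _ p.2 n)
    (fun p q => by
      obtain ⟨γ, hγ⟩ := exists_transition' p.1.2 q.2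
      refine cocycle_of_transition (isGen_pwR L U _ _ q.2 n) (γ ^ n) ?_ ?_
      · rw [res_pwR, res_pwR, hγ, pwR_smul]
      · rw [res_pw, hγ, pw_smul, res_pw])
  exact ⟨Φ⟩



/-- `tm` computed in `X` as a section of the restricted module -/
noncomputable def tmR (M N : X.Modules) (U : X.Opens) (V : (↑U : Scheme.{u}).Opens) (a : Γ(M.restrict U.ι, V))
    (b : Γ(N.restrict U.ι, V)) : Γ((CohB1.tensorMod M N).restrict U.ι, V) :=
  tm M N (U.ι ''ᵁ V) (show Γ(M, U.ι ''ᵁ V) from a) (show Γ(N, U.ι ''ᵁ V) from b)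

theorem res_tmR (M N : X.Modules) (U : X.Opens) {V V' : (↑U : Scheme.{u}).Opens} (h : V' ≤ V)
    (a : Γ(M.restrict U.ι, V)) (b : Γ(N.restrict U.ι, V)) :
    res ((CohB1.tensorMod M N).restrict U.ι) h (tmR M N U V a b) =
      tmR M N U V' (res (M.restrict U.ι) h a) (res (N.restrict U.ι) h b) :=
  res_tm M N (U.ι.image_mono h) _ _

theorem tmR_smul_smul (M N : X.Modules) (U : X.Opens) (V : (↑U : Scheme.{u}).Opens) (r r' : Γ((↑U : Scheme.{u}), V))
    (a : Γ(M.restrict U.ι, V)) (b : Γ(N.restrict U.ι, V)) :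
    tmR M N U V (r • a) (r' • b) = (r * r') • tmR M N U V a b := by
  have h1 : tmR M N U V (r • a) (r' • b) = tm M N (U.ι ''ᵁ V)
      ((show Γ(X, U.ι ''ᵁ V) from r) • (show Γ(M, U.ι ''ᵁ V) from a))
      ((show Γ(X, U.ι ''ᵁ V) from r') • (show Γ(N, U.ι ''ᵁ V) from b)) := by
    unfold tmR
    exact congrArg₂ (fun z w => tm M N (U.ι ''ᵁ V) z w) (smul_restrict_eq M U V r a) (smul_restrict_eq N U V r' b)
  rw [h1, tm_smul_smul]
  exact (smul_restrict_eq (CohB1.tensorMod M N) U V (r * r') _).symm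

theorem isGen_tmR (M N : X.Modules) (U : X.Opens) (V : (↑U : Scheme.{u}).Opens) (a : Γ(M.restrict U.ι, V))
    (b : Γ(N.restrict U.ι, V)) (ha : IsGen (M.restrict U.ι) V a) (hb : IsGen (N.restrict U.ι) V b) :
    IsGen ((CohB1.tensorMod M N).restrict U.ι) V (tmR M N U V a b) :=
  isGen_restrict_of_isGen _ U V _ (isGen_tm M N _ _ _ (isGen_of_isGen_restrict M U V a ha)
    (isGen_of_isGen_restrict N U V b hb))

/-- `(M ⊗ N)|_U ≅ M|_U ⊗ N|_U` for invertible modules -/
theorem nonempty_restrict_tensorMod_iso (M N : X.Modules) (hM : PicF.IsInvertible M) (hN : PicF.IsInvertible N)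
    (U : X.Opens) :
    Nonempty ((CohB1.tensorMod M N).restrict U.ι ≅ CohB1.tensorMod (M.restrict U.ι) (N.restrict U.ι)) := by
  have hMr := isInvertible_restrict M hM U
  have hNr := isInvertible_restrict N hN U
  obtain ⟨Φ, -⟩ := exists_iso_of_frames ((CohB1.tensorMod M N).restrict U.ι)
    (CohB1.tensorMod (M.restrict U.ι) (N.restrict U.ι))
    (fun p : Fr (M.restrict U.ι) × Fr (N.restrict U.ι) => p.1.1.1 ⊓ p.2.1.1)
    (fun x => by
      obtain ⟨W, e, hxW, he⟩ := exists_gen _ hMr x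
      obtain ⟨W', e', hxW', he'⟩ := exists_gen _ hNr x
      exact ⟨⟨⟨⟨W, e⟩, he⟩, ⟨⟨W', e'⟩, he'⟩⟩, hxW, hxW'⟩)
    (fun p => tmR M N U _ (res (M.restrict U.ι) inf_le_left p.1.1.2) (res (N.restrict U.ι) inf_le_right p.2.1.2))
    (fun p => tm _ _ _ (res (M.restrict U.ι) inf_le_left p.1.1.2) (res (N.restrict U.ι) inf_le_right p.2.1.2))
    (fun p => isGen_tmR M N U _ _ _ (p.1.2.mono inf_le_left) (p.2.2.mono inf_le_right))
    (fun p => isGen_tm _ _ _ _ _ (p.1.2.mono inf_le_left) (p.2.2.mono inf_le_right))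
    (fun p q => by
      obtain ⟨γ, hγ⟩ := exists_transition' (res (M.restrict U.ι) inf_le_left p.1.1.2)
        (q.1.2.mono (inf_le_left : q.1.1.1 ⊓ q.2.1.1 ≤ _))
      obtain ⟨γ', hγ'⟩ := exists_transition' (res (N.restrict U.ι) inf_le_right p.2.1.2)
        (q.2.2.mono (inf_le_right : q.1.1.1 ⊓ q.2.1.1 ≤ _))
      refine cocycle_of_transition (isGen_tmR M N U _ _ _ (q.1.2.mono inf_le_left) (q.2.2.mono inf_le_right))
        (γ * γ') ?_ ?_
      · rw [res_tmR, res_tmR, hγ, hγ', tmR_smul_smul]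
      · rw [res_tm, hγ, hγ', tm_smul_smul, res_tm])
  exact ⟨Φ⟩

/-- restriction of a global section to an open subscheme -/
noncomputable def restrSec {M : X.Modules} (s : Coh.structureModule X ⟶ M) (U : X.Opens) :
    Coh.structureModule (↑U : Scheme.{u}) ⟶ M.restrict U.ι :=
  (Scheme.Modules.restrictUnitIso U.ι).inv ≫ (Scheme.Modules.restrictFunctor U.ι).map s

theorem isIso_restrSec_app_iff {M : X.Modules} (s : Coh.structureModule X ⟶ M) (U : X.Opens)
    (V : (↑U : Scheme.{u}).Opens) : IsIso ((restrSec s U).app V) ↔ IsIso (s.app (U.ι ''ᵁ V)) := by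
  have hρ : IsIso (Scheme.Modules.restrictUnitIso U.ι).inv :=
    ⟨⟨(Scheme.Modules.restrictUnitIso U.ι).hom, Iso.inv_hom_id _, Iso.hom_inv_id _⟩⟩
  have h1a : IsIso ((Scheme.Modules.restrictUnitIso U.ι).inv.app V) :=
    Scheme.Modules.Hom.isIso_iff_isIso_app.1 hρ _
  have ha : Function.Bijective ((Scheme.Modules.restrictUnitIso U.ι).inv.app V) :=
    ConcreteCategory.bijective_of_isIso _
  have hfun : ⇑((restrSec s U).app V) = ⇑(s.app (U.ι ''ᵁ V)) ∘
      ⇑((Scheme.Modules.restrictUnitIso U.ι).inv.app V) := rfl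
  rw [ConcreteCategory.isIso_iff_bijective, ConcreteCategory.isIso_iff_bijective, hfun]
  exact Function.Bijective.of_comp_iff _ ha

theorem genLocus_restrSec {M : X.Modules} (s : Coh.structureModule X ⟶ M) (U : X.Opens) :
    CohB1.genLocus (M.restrict U.ι) (restrSec s U) = U.ι ⁻¹ᵁ CohB1.genLocus M s := by
  ext x
  change x ∈ CohB1.genLocus (M.restrict U.ι) (restrSec s U) ↔ U.ι x ∈ CohB1.genLocus M s
  rw [mem_genLocus_iff, mem_genLocus_iff]
  constructor
  · rintro ⟨V, hxV, hV⟩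
    refine ⟨U.ι ''ᵁ V, ⟨x, hxV, rfl⟩, fun W' hW' => ?_⟩
    have hle : W' ≤ U := hW'.trans (image_le_self U V)
    have h1 : U.ι ⁻¹ᵁ W' ≤ V := by
      have := U.ι.preimage_mono hW'
      rwa [Scheme.Hom.preimage_image_eq] at this
    have h2 := (isIso_restrSec_app_iff s U _).1 (hV _ h1)
    exact isIso_app_of_eq s (image_preimage_of_le U hle) h2
  · rintro ⟨W, hxW, hW⟩
    refine ⟨U.ι ⁻¹ᵁ W, hxW, fun V' hV' => ?_⟩
    rw [isIso_restrSec_app_iff]
    refine hW _ ?_
    have := U.ι.image_mono hV'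
    refine this.trans ?_
    rw [Scheme.Hom.image_preimage_eq_opensRange_inf]
    exact inf_le_right

/-- the restriction of an ample module to a quasi-compact open is ample -/
theorem isAmple_restrict (L : X.Modules) (hL : CohB1.IsAmple L) (U : X.Opens) (hU : IsCompact (U : Set X)) :
    CohB1.IsAmple (L.restrict U.ι) := by
  refine ⟨isInvertible_restrict L hL.1 U, isCompact_iff_compactSpace.1 hU, fun x => ?_⟩
  obtain ⟨n, s, hxs, hsU, haff⟩ := exists_genLocus_nhd_of_isAmple L hL U x.1 x.2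
  obtain ⟨Φ⟩ := nonempty_restrict_tensorPow_iso L hL.1 U (n + 1)
  refine ⟨n, restrSec s U ≫ Φ.hom, ?_, ?_⟩
  · rw [genLocus_comp_iso, genLocus_restrSec]
    exact hxs
  · rw [genLocus_comp_iso, genLocus_restrSec]
    exact haff.preimage_of_isOpenImmersion U.ι (by rwa [Scheme.Opens.opensRange_ι])



theorem hom_ext_of_sv {M : X.Modules} (s t : Coh.structureModule X ⟶ M) (h : sv s ⊤ = sv t ⊤) : s = t := by
  ext U m
  change s.app U m = t.app U m
  have h1 := app_toS s U (ofS U m)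
  have h2 := app_toS t U (ofS U m)
  rw [toS_ofS] at h1 h2
  rw [h1, h2, ← res_sv s (le_top : U ≤ ⊤), ← res_sv t (le_top : U ≤ ⊤), h]

theorem sv_restrSec {M : X.Modules} (s : Coh.structureModule X ⟶ M) (U : X.Opens) (V : (↑U : Scheme.{u}).Opens) :
    sv (restrSec s U) V = sv s (U.ι ''ᵁ V) := by
  have h1 : sv (restrSec s U) V = s.app (U.ι ''ᵁ V) ((Scheme.Modules.restrictUnitIso U.ι).inv.app V (toS V 1)) := rfl
  rw [h1, restrictUnitIso_inv_one]
  rfl

theorem sv_comp {M N : X.Modules} (s : Coh.structureModule X ⟶ M) (φ : M ⟶ N) (V : X.Opens) :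
    sv (s ≫ φ) V = φ.app V (sv s V) := rfl

/-- ampleness can be checked on the open subscheme `⊤` -/
theorem isAmple_of_restrict_top (L : X.Modules) (U : X.Opens) (hU : U = ⊤) (h : CohB1.IsAmple (L.restrict U.ι)) :
    CohB1.IsAmple L := by
  obtain ⟨hinv, hc, hpt⟩ := h
  have hLinv : PicF.IsInvertible L := by
    refine isInvertible_of_isGen _ (fun x => ?_)
    have hxU : x ∈ U := by rw [hU]; trivial
    obtain ⟨V, e, hxV, he⟩ := exists_gen _ hinv (⟨x, hxU⟩ : (↑U : Scheme.{u}))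
    exact ⟨U.ι ''ᵁ V, e, ⟨⟨x, hxU⟩, hxV, rfl⟩, isGen_of_isGen_restrict L U V e he⟩
  refine ⟨hLinv, ?_, fun x => ?_⟩
  · have h1 : IsCompact (U : Set X) := isCompact_iff_compactSpace.2 hc
    rw [hU] at h1
    exact isCompact_univ_iff.1 h1
  · have hxU : x ∈ U := by rw [hU]; trivial
    obtain ⟨n, s', hxs', haff⟩ := hpt (⟨x, hxU⟩ : (↑U : Scheme.{u}))
    obtain ⟨Φ⟩ := nonempty_restrict_tensorPow_iso L hLinv U (n + 1)
    have htop : (⊤ : X.Opens) ≤ U.ι ''ᵁ ⊤ := by
      intro y _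
      exact ⟨⟨y, by rw [hU]; trivial⟩, trivial, rfl⟩
    obtain ⟨σU, hσU⟩ : ∃ σU : Γ(CohB1.tensorPow L (n + 1), U.ι ''ᵁ ⊤), σU = Φ.inv.app ⊤ (sv s' ⊤) := ⟨_, rfl⟩
    obtain ⟨s, hs⟩ : ∃ s : Coh.structureModule X ⟶ CohB1.tensorPow L (n + 1),
        s = secHom _ (res (CohB1.tensorPow L (n + 1)) htop σU) := ⟨_, rfl⟩
    have hss' : restrSec s U ≫ Φ.hom = s' := by
      apply hom_ext_of_sv
      rw [sv_comp, sv_restrSec, hs, sv_secHom, res_res, res_self, hσU]
      have : Φ.inv ≫ Φ.hom = 𝟙 _ := Iso.inv_hom_id _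
      exact congrArg (fun φ => Scheme.Modules.Hom.app φ ⊤ (sv s' ⊤)) this
    have hgl : CohB1.genLocus _ s' = U.ι ⁻¹ᵁ CohB1.genLocus _ s := by
      rw [← hss', genLocus_comp_iso, genLocus_restrSec]
    refine ⟨n, s, ?_, ?_⟩
    · rw [hgl] at hxs'
      exact hxs'
    · have hle : CohB1.genLocus _ s ≤ U := by rw [hU]; exact le_top
      rw [← image_preimage_of_le U hle, ← hgl]
      exact haff.image_of_isOpenImmersion U.ι

end Groth.Agent.Lib.Helper23.SecTw
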