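import Mathlib
import Groth.Agent.Lib.Helper23Restr
import Groth.Agent.Lib.Helper23QAffSec
import Groth.Agent.Lib.Helper23SecTw8
import Groth.Prelude.Def_LCI2

/-!
# Relative ampleness via restriction to preimages of affine opens (helper23)

* `isAmple_tensorPow_iff`, `isAmple_tensorMod_of_forall_mem_genLocus`, `isAmple_tensorMod` (no separatedness hypotheses)
* `isAmple_of_isQuasiAffine` : invertible modules on quasi-affine schemes are ample
* `isInvertible_of_isRelAmple`, `isSeparated_of_isAmple`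
-/

set_option autoImplicit false
universe u
open CategoryTheory CategoryTheory.Limits AlgebraicGeometry TopologicalSpace Opposite

namespace Groth.Agent.Lib.Helper23.SecTw
open Groth.Agent.Lib.Helper23.GenLocus Groth.Agent.Lib.Helper6 Groth.Agent.Lib.Helper23.AmpleIso
open Groth.Agent.Lib.Helper23.Extend Groth.Agent.Lib.Helper23.TensorUnit

variable {X : Scheme.{u}}

/-- `L` ample iff `L^{⊗ n}` ample (`n > 0`) -/
theorem isAmple_tensorPow_iff (L : X.Modules) (hL : PicF.IsInvertible L) (n : ℕ) (hn : 0 < n) :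
    CohB1.IsAmple L ↔ CohB1.IsAmple (CohB1.tensorPow L n) := by
  constructor
  · rintro ⟨-, hc, h⟩
    refine ⟨isInvertible_tensorPow hL n, hc, fun x => ?_⟩
    obtain ⟨k, s, hxs, haff⟩ := h x
    obtain ⟨Φ₁⟩ := nonempty_tensorPow_tensorPow_iso L hL (k + 1) n ((k + 1) * n) rfl
    obtain ⟨Φ₂⟩ := nonempty_tensorPow_tensorPow_iso L hL n (k + 1) ((k + 1) * n) (Nat.mul_comm _ _)
    refine ⟨k, SecTwist.powHom s n ≫ (Φ₁ ≪≫ Φ₂.symm).hom, ?_⟩
    rw [genLocus_comp_iso, genLocus_powHom (isInvertible_tensorPow hL (k + 1)) s n hn]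
    exact ⟨hxs, haff⟩
  · rintro ⟨-, hc, h⟩
    refine ⟨hL, hc, fun x => ?_⟩
    obtain ⟨k, σ, hxσ, haff⟩ := h x
    obtain ⟨k', hk'⟩ : ∃ k', n * (k + 1) = k' + 1 := ⟨n * (k + 1) - 1, by
      have : 0 < n * (k + 1) := Nat.mul_pos hn (Nat.succ_pos k)
      omega⟩
    obtain ⟨Φ⟩ := nonempty_tensorPow_tensorPow_iso L hL n (k + 1) (k' + 1) hk'
    refine ⟨k', σ ≫ Φ.hom, ?_⟩
    rw [genLocus_comp_iso]
    exact ⟨hxσ, haff⟩

/-- `L` ample, `L'` invertible with every point in some `X_{s'}`: `L ⊗ L'` ample -/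
theorem isAmple_tensorMod_of_forall_mem_genLocus (L L' : X.Modules) (hL : CohB1.IsAmple L)
    (hL' : PicF.IsInvertible L')
    (h : ∀ x : X, ∃ (n : ℕ) (s' : Coh.structureModule X ⟶ CohB1.tensorPow L' (n + 1)), x ∈ CohB1.genLocus _ s') :
    CohB1.IsAmple (CohB1.tensorMod L L') := by
  obtain ⟨hinv, hc, hamp⟩ := hL
  refine ⟨isInvertible_tensorMod hinv hL', hc, fun x => ?_⟩
  obtain ⟨k, s, hxs, haff⟩ := hamp x
  obtain ⟨j, s', hxs'⟩ := h x
  obtain ⟨N', hN'⟩ : ∃ N', (k + 1) * (j + 1) = N' + 1 := ⟨(k + 1) * (j + 1) - 1, by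
    have : 0 < (k + 1) * (j + 1) := Nat.mul_pos (Nat.succ_pos k) (Nat.succ_pos j)
    omega⟩
  obtain ⟨Φ₁⟩ := nonempty_tensorPow_tensorPow_iso L hinv (k + 1) (j + 1) (N' + 1) hN'
  obtain ⟨Φ₂⟩ := nonempty_tensorPow_tensorPow_iso L' hL' (j + 1) (k + 1) (N' + 1) ((Nat.mul_comm _ _).trans hN')
  obtain ⟨Φ₃⟩ := nonempty_tensorPow_tensorMod_iso L L' hinv hL' (N' + 1)
  refine ⟨N', SecTwist.tmulHom (SecTwist.powHom s (j + 1) ≫ Φ₁.hom) (SecTwist.powHom s' (k + 1) ≫ Φ₂.hom) ≫ Φ₃.hom, ?_⟩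
  rw [genLocus_comp_iso, genLocus_tmulHom (isInvertible_tensorPow hinv _) (isInvertible_tensorPow hL' _),
    genLocus_comp_iso, genLocus_comp_iso, genLocus_powHom (isInvertible_tensorPow hinv _) s _ (Nat.succ_pos j),
    genLocus_powHom (isInvertible_tensorPow hL' _) s' _ (Nat.succ_pos k)]
  exact ⟨⟨hxs, hxs'⟩, isAffineOpen_inf_genLocus _ (isInvertible_tensorPow hL' _) s' _ haff⟩

/-- the tensor product of two ample modules is ample -/
theorem isAmple_tensorMod (L L' : X.Modules) (hL : CohB1.IsAmple L) (hL' : CohB1.IsAmple L') :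
    CohB1.IsAmple (CohB1.tensorMod L L') :=
  isAmple_tensorMod_of_forall_mem_genLocus L L' hL hL'.1 (fun x => by
    obtain ⟨n, s', hx, -⟩ := hL'.2.2 x
    exact ⟨n, s', hx⟩)

/-- invertible modules on quasi-affine schemes are ample -/
theorem isAmple_of_isQuasiAffine [X.IsQuasiAffine] (L : X.Modules) (hL : PicF.IsInvertible L) :
    CohB1.IsAmple L := by
  refine ⟨hL, inferInstance, fun x => ?_⟩
  obtain ⟨s, haff, hx, -⟩ := exists_affine_genLocus_of_isQuasiAffine L hL ⊤ {x} (Set.finite_singleton x)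
    (fun _ _ => trivial)
  obtain ⟨Φ⟩ : Nonempty (L ≅ CohB1.tensorPow L (0 + 1)) := ⟨(unitTensorIso L).symm⟩
  refine ⟨0, s ≫ Φ.hom, ?_, ?_⟩
  · rw [genLocus_comp_iso]
    exact hx rfl
  · rw [genLocus_comp_iso]
    exact haff

/-- a scheme with an ample module is separated -/
theorem isSeparated_of_isAmple (L : X.Modules) (hL : CohB1.IsAmple L) : X.IsSeparated :=
  isSeparated_of_cover L hL.1 hL.2.2

/-- a module which is invertible on the members of an open cover is invertible -/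
theorem isInvertible_of_restrict (L : X.Modules)
    (h : ∀ x : X, ∃ U : X.Opens, x ∈ U ∧ PicF.IsInvertible (L.restrict U.ι)) : PicF.IsInvertible L := by
  refine isInvertible_of_isGen _ (fun x => ?_)
  obtain ⟨U, hxU, hinv⟩ := h x
  obtain ⟨V, e, hxV, he⟩ := exists_gen _ hinv (⟨x, hxU⟩ : (↑U : Scheme.{u}))
  exact ⟨U.ι ''ᵁ V, e, ⟨⟨x, hxU⟩, hxV, rfl⟩, isGen_of_isGen_restrict L U V e he⟩

theorem isInvertible_of_isRelAmple {S : Scheme.{u}} (f : X ⟶ S) (L : X.Modules) (h : RelAmple.IsRelAmple f L) :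
    PicF.IsInvertible L := by
  refine isInvertible_of_restrict L (fun x => ?_)
  obtain ⟨V, hV, hxV, -⟩ := exists_isAffineOpen_mem_and_subset (X := S) (x := f x) (U := ⊤) trivial
  exact ⟨f ⁻¹ᵁ V, hxV, (h.2 ⟨V, hV⟩).1⟩

end Groth.Agent.Lib.Helper23.SecTw
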