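import Mathlib

/-!
# helper13: graded symmetric algebras (pure Mathlib)

For `ι : M →ₗ[R] A` with `IsSymmetricAlgebra ι` and a grading `𝒜` of `A` with `ι m ∈ 𝒜 1`:
`exists_ringHom`, `ringHom_ext` (ring-level universal property), `scaleHom` (`a ↦ u^d ψ a` on `𝒜 d`),
`homog_scale`, `exists_not_mem` (the `D₊(ι m)` cover `Proj 𝒜`).
-/

set_option autoImplicit false
set_option linter.unusedSectionVars false
universe u

open HomogeneousLocalization

namespace Groth.Agent.Helper13SymGr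

variable {R A : Type u} [CommRing R] [CommRing A] [Algebra R A] (𝒜 : ℕ → Submodule R A)
  [GradedAlgebra 𝒜]
variable {M : Type u} [AddCommGroup M] [Module R M] {ι : M →ₗ[R] A}

theorem exists_ringHom (hsym : IsSymmetricAlgebra ι) {B : Type u} [CommRing B] (ρ : R →+* B) (g : M →+ B)
    (hg : ∀ (c : R) (m : M), g (c • m) = ρ c * g m) :
    ∃ ψ : A →+* B, (∀ c, ψ (algebraMap R A c) = ρ c) ∧ ∀ m, ψ (ι m) = g m := by
  letI : Algebra R B := ρ.toAlgebra
  let g' : M →ₗ[R] B :=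
    { toFun := g
      map_add' := g.map_add
      map_smul' := fun c m => by
        rw [hg, RingHom.id_apply, Algebra.smul_def]
        rfl }
  refine ⟨(hsym.lift g').toRingHom, fun c => ?_, fun m => ?_⟩
  · exact (hsym.lift g').commutes c
  · exact hsym.lift_eq g' m

theorem ringHom_ext (hsym : IsSymmetricAlgebra ι) {B : Type u} [CommRing B] (ψ ψ' : A →+* B)
    (h0 : ∀ c, ψ (algebraMap R A c) = ψ' (algebraMap R A c)) (h1 : ∀ m, ψ (ι m) = ψ' (ι m)) :
    ψ = ψ' := by
  ext a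
  induction a using hsym.induction with
  | algebraMap r => exact h0 r
  | ι x => exact h1 x
  | mul a b ha hb => rw [map_mul, map_mul, ha, hb]
  | add a b ha hb => rw [map_add, map_add, ha, hb]

/-- the pieces of the scaled ring hom `a ↦ u^d ψ a` (`a ∈ 𝒜 d`) -/
noncomputable def scalePiece {B : Type u} [CommRing B] (ψ : A →+* B) (u : B) (d : ℕ) : 𝒜 d →+ B where
  toFun a := u ^ d * ψ a.1
  map_zero' := by simp
  map_add' a b := by simp [mul_add]

/-- the ring hom `a ↦ u^d ψ a` for `a ∈ 𝒜 d` -/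
noncomputable def scaleHom {B : Type u} [CommRing B] (ψ : A →+* B) (u : B) : A →+* B :=
  (DirectSum.toSemiring (scalePiece 𝒜 ψ u)
    (by
      change u ^ 0 * ψ (1 : A) = 1
      simp)
    (by
      intro i j a b
      change u ^ (i + j) * ψ (a.1 * b.1) = (u ^ i * ψ a.1) * (u ^ j * ψ b.1)
      rw [map_mul, pow_add]
      ring)).comp (DirectSum.decomposeRingEquiv 𝒜).toRingHom

theorem scaleHom_of_mem {B : Type u} [CommRing B] (ψ : A →+* B) (u : B) {d : ℕ} {a : A} (ha : a ∈ 𝒜 d) :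
    scaleHom 𝒜 ψ u a = u ^ d * ψ a := by
  unfold scaleHom
  rw [RingHom.comp_apply]
  have : (DirectSum.decomposeRingEquiv 𝒜).toRingHom a = DirectSum.of (fun i => 𝒜 i) d ⟨a, ha⟩ :=
    DirectSum.decompose_of_mem 𝒜 ha
  rw [this, DirectSum.toSemiring_of]
  rfl

theorem homog_scale (hsym : IsSymmetricAlgebra ι) (hι : ∀ m, ι m ∈ 𝒜 1) {B : Type u} [CommRing B]
    (ψ ψ' : A →+* B) (u : B)
    (h0 : ∀ c, ψ' (algebraMap R A c) = ψ (algebraMap R A c)) (h1 : ∀ m, ψ' (ι m) = u * ψ (ι m))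
    {d : ℕ} {a : A} (ha : a ∈ 𝒜 d) : ψ' a = u ^ d * ψ a := by
  have : ψ' = scaleHom 𝒜 ψ u := by
    apply ringHom_ext hsym
    · intro c
      rw [h0, scaleHom_of_mem 𝒜 ψ u (SetLike.algebraMap_mem_graded 𝒜 c), pow_zero, one_mul]
    · intro m
      rw [h1, scaleHom_of_mem 𝒜 ψ u (hι m), pow_one]
  rw [this, scaleHom_of_mem 𝒜 ψ u ha]

theorem exists_not_mem (hsym : IsSymmetricAlgebra ι) (hι : ∀ m, ι m ∈ 𝒜 1) (y : ProjectiveSpectrum 𝒜) :
    ∃ m, ι m ∉ y.asHomogeneousIdeal := by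
  by_contra hcon
  push_neg at hcon
  apply y.not_irrelevant_le
  let I : Ideal A := y.asHomogeneousIdeal.toIdeal
  let ψ : A →+* A ⧸ I := Ideal.Quotient.mk I
  let ψ' : A →+* A ⧸ I := (Ideal.Quotient.mk I).comp (GradedRing.projZeroRingHom 𝒜)
  have hψ : ψ = ψ' := by
    apply ringHom_ext hsym
    · intro c
      change _ = Ideal.Quotient.mk I (GradedRing.projZeroRingHom 𝒜 (algebraMap R A c))
      rw [GradedRing.projZeroRingHom_apply,
        DirectSum.decompose_of_mem_same 𝒜 (SetLike.algebraMap_mem_graded 𝒜 c)]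
    · intro m
      change Ideal.Quotient.mk I (ι m) = Ideal.Quotient.mk I (GradedRing.projZeroRingHom 𝒜 (ι m))
      rw [GradedRing.projZeroRingHom_apply, DirectSum.decompose_of_mem_ne 𝒜 (hι m) one_ne_zero,
        map_zero, Ideal.Quotient.eq_zero_iff_mem]
      exact hcon m
  intro a ha
  have h1 := congrArg (fun φ => φ a) hψ
  change Ideal.Quotient.mk I a = Ideal.Quotient.mk I (GradedRing.projZeroRingHom 𝒜 a) at h1
  rw [GradedRing.projZeroRingHom_apply, ← GradedRing.proj_apply,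
    (HomogeneousIdeal.mem_irrelevant_iff _ _).mp ha, map_zero, Ideal.Quotient.eq_zero_iff_mem] at h1
  exact h1

end Groth.Agent.Helper13SymGr
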