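import Mathlib
import Groth.Agent.Lib.Helper23Restr2

/-!
# Restriction of ample modules along arbitrary open immersions; ampleness local on an affine base (helper23)

Namespace `Groth.Agent.Lib.Helper23.RestrJ` (general open immersion `j : X' ⟶ X`; `Helper23Restr` is the case `U.ι`).

* `isGen_restrict_of_isGen`, `isGen_of_isGen_restrict`, `isInvertible_restrict`, `nonempty_restrict_tensorPow_iso`,
  `nonempty_restrict_tensorMod_iso`, `restrSec`, `genLocus_restrSec`
* `isAmple_restrict` (`X'` quasi-compact), `isAmple_of_restrict` (`j` surjective), `isAmple_restrict_iff_of_isIso`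
* `isAmple_restrict_comp_iff`, `isAmple_restrict_iff_of_range_eq`, `isAmple_restrict_restrict_iff`
  (`(M|_U)|_V` ample iff `M|_{U.ι ''ᵁ V}` ample), `isAmple_restrict_of_le`
* `quasiSeparatedSpace_of_basicOpen_cover`, `genLocus_eq_of_sv_eq_unit_smul`
* `isAmple_of_basicOpen_cover` : `X` quasi-compact, `X = ⋃ D(g_i)` with `g_i` global functions and `L|_{D(g_i)}` ample ⇒ `L` ample
* `isAmple_restrict_preimage_of_basicOpen_cover` : for `f : X ⟶ Y` quasi-compact and `V ⊆ Y` affine, ampleness of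
  `L|_{f⁻¹ V}` can be checked on a cover of `V` by basic opens (EGA II 4.6.4)
-/

set_option autoImplicit false
universe u
open CategoryTheory CategoryTheory.Limits AlgebraicGeometry TopologicalSpace Opposite

namespace Groth.Agent.Lib.Helper23.RestrJ
open Groth.Agent.Lib.Helper23.GenLocus Groth.Agent.Lib.Helper6 Groth.Agent.Lib.Helper23.AmpleIso
open Groth.Agent.Lib.Helper23.Extend Groth.Agent.Lib.Helper23.SecTw

variable {X X' : Scheme.{u}} (j : X' ⟶ X) [IsOpenImmersion j]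

theorem image_preimage_of_le {W : X.Opens} (h : W ≤ j.opensRange) : j ''ᵁ (j ⁻¹ᵁ W) = W := by
  rw [Scheme.Hom.image_preimage_eq_opensRange_inf]
  exact inf_eq_right.2 h

/-- the ring isomorphism `Γ(X', V) ≃ Γ(X, j ''ᵁ V)` as a function -/
noncomputable def upf (V : X'.Opens) (r : Γ(X', V)) : Γ(X, j ''ᵁ V) := (j.appIso V).inv r

theorem upf_bijective (V : X'.Opens) : Function.Bijective (upf j V) :=
  ConcreteCategory.bijective_of_isIso (j.appIso V).inv

theorem upf_mul (V : X'.Opens) (r r' : Γ(X', V)) : upf j V (r * r') = upf j V r * upf j V r' :=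
  map_mul _ _ _

theorem upf_pow (V : X'.Opens) (r : Γ(X', V)) (n : ℕ) : upf j V (r ^ n) = upf j V r ^ n :=
  map_pow _ _ _

theorem upf_one (V : X'.Opens) : upf j V 1 = 1 := map_one _

theorem smul_restrict_eq (M : X.Modules) (V : X'.Opens) (r : Γ(X', V)) (m : Γ(M.restrict j, V)) :
    (r • m : Γ(M.restrict j, V)) = (upf j V r • (show Γ(M, j ''ᵁ V) from m) : Γ(M, j ''ᵁ V)) := rfl

theorem res_restrict (M : X.Modules) {V V' : X'.Opens} (h : V' ≤ V) (m : Γ(M.restrict j, V)) :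
    res (M.restrict j) h m = res M (j.image_mono h) (show Γ(M, j ''ᵁ V) from m) := rfl

theorem isGen_restrict_of_isGen (M : X.Modules) (V : X'.Opens) (e : Γ(M, j ''ᵁ V))
    (h : IsGen M (j ''ᵁ V) e) : IsGen (M.restrict j) V (show Γ(M.restrict j, V) from e) := by
  intro W' hW'
  have h1 := h (j ''ᵁ W') (j.image_mono hW')
  have h2 : (fun r : Γ(X', W') => r • res (M.restrict j) hW' (show Γ(M.restrict j, V) from e)) =
      (fun r : Γ(X, j ''ᵁ W') => (r • res M (j.image_mono hW') e : Γ(M, j ''ᵁ W'))) ∘ upf j W' := by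
    funext r
    exact smul_restrict_eq j M W' r _
  rw [h2]
  exact h1.comp (upf_bijective j W')

theorem isGen_of_isGen_restrict (M : X.Modules) (V : X'.Opens) (e : Γ(M, j ''ᵁ V))
    (h : IsGen (M.restrict j) V (show Γ(M.restrict j, V) from e)) : IsGen M (j ''ᵁ V) e := by
  intro W' hW'
  have hle : W' ≤ j.opensRange := hW'.trans (j.image_le_opensRange V)
  obtain ⟨V', hV', rfl⟩ : ∃ V' : X'.Opens, V' ≤ V ∧ W' = j ''ᵁ V' := by
    refine ⟨j ⁻¹ᵁ W', ?_, (image_preimage_of_le j hle).symm⟩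
    have := j.preimage_mono hW'
    rwa [Scheme.Hom.preimage_image_eq] at this
  have h1 := h V' hV'
  have h2 : (fun r : Γ(X', V') => r • res (M.restrict j) hV' (show Γ(M.restrict j, V) from e)) =
      (fun r : Γ(X, j ''ᵁ V') => (r • res M (j.image_mono hV') e : Γ(M, j ''ᵁ V'))) ∘ upf j V' := by
    funext r
    exact smul_restrict_eq j M V' r _
  rw [h2] at h1
  exact (Function.Bijective.of_comp_iff _ (upf_bijective j V')).1 h1

theorem exists_gen_restrict (L : X.Modules) (hL : PicF.IsInvertible L) (x : X') :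
    ∃ (V : X'.Opens) (e : Γ(L, j ''ᵁ V)), x ∈ V ∧ IsGen L (j ''ᵁ V) e := by
  obtain ⟨W, e, hxW, he⟩ := exists_gen L hL (j x)
  have hle : j ''ᵁ (j ⁻¹ᵁ W) ≤ W := by
    rw [Scheme.Hom.image_preimage_eq_opensRange_inf]
    exact inf_le_right
  exact ⟨j ⁻¹ᵁ W, res L hle e, hxW, he.mono hle⟩

theorem isInvertible_restrict (L : X.Modules) (hL : PicF.IsInvertible L) :
    PicF.IsInvertible (L.restrict j) := by
  refine isInvertible_of_isGen _ (fun x => ?_)
  obtain ⟨V, e, hxV, he⟩ := exists_gen_restrict j L hL x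
  exact ⟨V, _, hxV, isGen_restrict_of_isGen j L V e he⟩

/-- `pw` computed in `X` as a section of the restricted module -/
noncomputable def pwR (L : X.Modules) (V : X'.Opens) (e : Γ(L.restrict j, V)) (n : ℕ) :
    Γ((CohB1.tensorPow L n).restrict j, V) :=
  pw L (j ''ᵁ V) (show Γ(L, j ''ᵁ V) from e) n

theorem res_pwR (L : X.Modules) {V V' : X'.Opens} (h : V' ≤ V) (e : Γ(L.restrict j, V)) (n : ℕ) :
    res ((CohB1.tensorPow L n).restrict j) h (pwR j L V e n) = pwR j L V' (res (L.restrict j) h e) n := by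
  exact res_pw L (j.image_mono h) _ n

theorem pwR_smul (L : X.Modules) (V : X'.Opens) (r : Γ(X', V)) (e : Γ(L.restrict j, V)) (n : ℕ) :
    pwR j L V (r • e) n = r ^ n • pwR j L V e n := by
  have h1 : pwR j L V (r • e) n = pw L (j ''ᵁ V) (upf j V r • (show Γ(L, j ''ᵁ V) from e)) n := by
    unfold pwR
    exact congrArg (fun z => pw L (j ''ᵁ V) z n) (smul_restrict_eq j L V r e)
  rw [h1, pw_smul, smul_restrict_eq j (CohB1.tensorPow L n) V (r ^ n), upf_pow]
  rfl

theorem isGen_pwR (L : X.Modules) (V : X'.Opens) (e : Γ(L.restrict j, V))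
    (he : IsGen (L.restrict j) V e) (n : ℕ) :
    IsGen ((CohB1.tensorPow L n).restrict j) V (pwR j L V e n) :=
  isGen_restrict_of_isGen j _ V _ (isGen_pw L _ _ (isGen_of_isGen_restrict j L V e he) n)

/-- `(L^{⊗ n})|_{X'} ≅ (L|_{X'})^{⊗ n}` -/
theorem nonempty_restrict_tensorPow_iso (L : X.Modules) (hL : PicF.IsInvertible L) (n : ℕ) :
    Nonempty ((CohB1.tensorPow L n).restrict j ≅ CohB1.tensorPow (L.restrict j) n) := by
  have hLr := isInvertible_restrict j L hL
  obtain ⟨Φ, -⟩ := exists_iso_of_frames ((CohB1.tensorPow L n).restrict j) (CohB1.tensorPow (L.restrict j) n)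
    (fun p : Fr (L.restrict j) => p.1.1)
    (fun x => by
      obtain ⟨W, e, hxW, he⟩ := exists_gen _ hLr x
      exact ⟨⟨⟨W, e⟩, he⟩, hxW⟩)
    (fun p => pwR j L p.1.1 p.1.2 n)
    (fun p => pw (L.restrict j) p.1.1 p.1.2 n)
    (fun p => isGen_pwR j L _ _ p.2 n)
    (fun p => isGen_pw _ _ _ p.2 n)
    (fun p q => by
      obtain ⟨γ, hγ⟩ := exists_transition' p.1.2 q.2
      refine cocycle_of_transition (isGen_pwR j L _ _ q.2 n) (γ ^ n) ?_ ?_
      · rw [res_pwR, res_pwR, hγ, pwR_smul]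
      · rw [res_pw, hγ, pw_smul, res_pw])
  exact ⟨Φ⟩

/-- `tm` computed in `X` as a section of the restricted module -/
noncomputable def tmR (M N : X.Modules) (V : X'.Opens) (a : Γ(M.restrict j, V))
    (b : Γ(N.restrict j, V)) : Γ((CohB1.tensorMod M N).restrict j, V) :=
  tm M N (j ''ᵁ V) (show Γ(M, j ''ᵁ V) from a) (show Γ(N, j ''ᵁ V) from b)

theorem res_tmR (M N : X.Modules) {V V' : X'.Opens} (h : V' ≤ V)
    (a : Γ(M.restrict j, V)) (b : Γ(N.restrict j, V)) :
    res ((CohB1.tensorMod M N).restrict j) h (tmR j M N V a b) =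
      tmR j M N V' (res (M.restrict j) h a) (res (N.restrict j) h b) :=
  res_tm M N (j.image_mono h) _ _

theorem tmR_smul_smul (M N : X.Modules) (V : X'.Opens) (r r' : Γ(X', V))
    (a : Γ(M.restrict j, V)) (b : Γ(N.restrict j, V)) :
    tmR j M N V (r • a) (r' • b) = (r * r') • tmR j M N V a b := by
  have h1 : tmR j M N V (r • a) (r' • b) = tm M N (j ''ᵁ V)
      (upf j V r • (show Γ(M, j ''ᵁ V) from a)) (upf j V r' • (show Γ(N, j ''ᵁ V) from b)) := by
    unfold tmR
    exact congrArg₂ (fun z w => tm M N (j ''ᵁ V) z w) (smul_restrict_eq j M V r a) (smul_restrict_eq j N V r' b)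
  rw [h1, tm_smul_smul, smul_restrict_eq j (CohB1.tensorMod M N) V (r * r'), upf_mul]
  rfl

theorem isGen_tmR (M N : X.Modules) (V : X'.Opens) (a : Γ(M.restrict j, V))
    (b : Γ(N.restrict j, V)) (ha : IsGen (M.restrict j) V a) (hb : IsGen (N.restrict j) V b) :
    IsGen ((CohB1.tensorMod M N).restrict j) V (tmR j M N V a b) :=
  isGen_restrict_of_isGen j _ V _ (isGen_tm M N _ _ _ (isGen_of_isGen_restrict j M V a ha)
    (isGen_of_isGen_restrict j N V b hb))

/-- `(M ⊗ N)|_{X'} ≅ M|_{X'} ⊗ N|_{X'}` for invertible modules -/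
theorem nonempty_restrict_tensorMod_iso (M N : X.Modules) (hM : PicF.IsInvertible M) (hN : PicF.IsInvertible N) :
    Nonempty ((CohB1.tensorMod M N).restrict j ≅ CohB1.tensorMod (M.restrict j) (N.restrict j)) := by
  have hMr := isInvertible_restrict j M hM
  have hNr := isInvertible_restrict j N hN
  obtain ⟨Φ, -⟩ := exists_iso_of_frames ((CohB1.tensorMod M N).restrict j)
    (CohB1.tensorMod (M.restrict j) (N.restrict j))
    (fun p : Fr (M.restrict j) × Fr (N.restrict j) => p.1.1.1 ⊓ p.2.1.1)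
    (fun x => by
      obtain ⟨W, e, hxW, he⟩ := exists_gen _ hMr x
      obtain ⟨W', e', hxW', he'⟩ := exists_gen _ hNr x
      exact ⟨⟨⟨⟨W, e⟩, he⟩, ⟨⟨W', e'⟩, he'⟩⟩, hxW, hxW'⟩)
    (fun p => tmR j M N _ (res (M.restrict j) inf_le_left p.1.1.2) (res (N.restrict j) inf_le_right p.2.1.2))
    (fun p => tm _ _ _ (res (M.restrict j) inf_le_left p.1.1.2) (res (N.restrict j) inf_le_right p.2.1.2))
    (fun p => isGen_tmR j M N _ _ _ (p.1.2.mono inf_le_left) (p.2.2.mono inf_le_right))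
    (fun p => isGen_tm _ _ _ _ _ (p.1.2.mono inf_le_left) (p.2.2.mono inf_le_right))
    (fun p q => by
      obtain ⟨γ, hγ⟩ := exists_transition' (res (M.restrict j) inf_le_left p.1.1.2)
        (q.1.2.mono (inf_le_left : q.1.1.1 ⊓ q.2.1.1 ≤ _))
      obtain ⟨γ', hγ'⟩ := exists_transition' (res (N.restrict j) inf_le_right p.2.1.2)
        (q.2.2.mono (inf_le_right : q.1.1.1 ⊓ q.2.1.1 ≤ _))
      refine cocycle_of_transition (isGen_tmR j M N _ _ _ (q.1.2.mono inf_le_left) (q.2.2.mono inf_le_right))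
        (γ * γ') ?_ ?_
      · rw [res_tmR, res_tmR, hγ, hγ', tmR_smul_smul]
      · rw [res_tm, hγ, hγ', tm_smul_smul, res_tm])
  exact ⟨Φ⟩

end Groth.Agent.Lib.Helper23.RestrJ

namespace Groth.Agent.Lib.Helper23.RestrJ
open Groth.Agent.Lib.Helper23.GenLocus Groth.Agent.Lib.Helper6 Groth.Agent.Lib.Helper23.AmpleIso
open Groth.Agent.Lib.Helper23.Extend Groth.Agent.Lib.Helper23.SecTw

variable {X X' : Scheme.{u}} (j : X' ⟶ X) [IsOpenImmersion j]

theorem restrictUnitIso_inv_one (V : X'.Opens) :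
    (Scheme.Modules.restrictUnitIso j).inv.app V (toS V 1) = toS (j ''ᵁ V) 1 := by
  change (j.appIso V).inv (1 : Γ(X', V)) = 1
  exact map_one _

/-- restriction of a global section along an open immersion -/
noncomputable def restrSec {M : X.Modules} (s : Coh.structureModule X ⟶ M) :
    Coh.structureModule X' ⟶ M.restrict j :=
  (Scheme.Modules.restrictUnitIso j).inv ≫ (Scheme.Modules.restrictFunctor j).map s

theorem isIso_restrSec_app_iff {M : X.Modules} (s : Coh.structureModule X ⟶ M)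
    (V : X'.Opens) : IsIso ((restrSec j s).app V) ↔ IsIso (s.app (j ''ᵁ V)) := by
  have hρ : IsIso (Scheme.Modules.restrictUnitIso j).inv :=
    ⟨⟨(Scheme.Modules.restrictUnitIso j).hom, Iso.inv_hom_id _, Iso.hom_inv_id _⟩⟩
  have h1a : IsIso ((Scheme.Modules.restrictUnitIso j).inv.app V) :=
    Scheme.Modules.Hom.isIso_iff_isIso_app.1 hρ _
  have ha : Function.Bijective ((Scheme.Modules.restrictUnitIso j).inv.app V) :=
    ConcreteCategory.bijective_of_isIso _
  have hfun : ⇑((restrSec j s).app V) = ⇑(s.app (j ''ᵁ V)) ∘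
      ⇑((Scheme.Modules.restrictUnitIso j).inv.app V) := rfl
  rw [ConcreteCategory.isIso_iff_bijective, ConcreteCategory.isIso_iff_bijective, hfun]
  exact Function.Bijective.of_comp_iff _ ha

theorem genLocus_restrSec {M : X.Modules} (s : Coh.structureModule X ⟶ M) :
    CohB1.genLocus (M.restrict j) (restrSec j s) = j ⁻¹ᵁ CohB1.genLocus M s := by
  ext x
  change x ∈ CohB1.genLocus (M.restrict j) (restrSec j s) ↔ j x ∈ CohB1.genLocus M s
  rw [mem_genLocus_iff, mem_genLocus_iff]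
  constructor
  · rintro ⟨V, hxV, hV⟩
    refine ⟨j ''ᵁ V, ⟨x, hxV, rfl⟩, fun W' hW' => ?_⟩
    have hle : W' ≤ j.opensRange := hW'.trans (j.image_le_opensRange V)
    have h1 : j ⁻¹ᵁ W' ≤ V := by
      have := j.preimage_mono hW'
      rwa [Scheme.Hom.preimage_image_eq] at this
    have h2 := (isIso_restrSec_app_iff j s _).1 (hV _ h1)
    exact isIso_app_of_eq s (image_preimage_of_le j hle) h2
  · rintro ⟨W, hxW, hW⟩
    refine ⟨j ⁻¹ᵁ W, hxW, fun V' hV' => ?_⟩
    rw [isIso_restrSec_app_iff]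
    refine hW _ ?_
    have := j.image_mono hV'
    refine this.trans ?_
    rw [Scheme.Hom.image_preimage_eq_opensRange_inf]
    exact inf_le_right

/-- the restriction of an ample module along an open immersion with quasi-compact source is ample -/
theorem isAmple_restrict [CompactSpace X'] (L : X.Modules) (hL : CohB1.IsAmple L) :
    CohB1.IsAmple (L.restrict j) := by
  refine ⟨isInvertible_restrict j L hL.1, inferInstance, fun x => ?_⟩
  obtain ⟨n, s, hxs, hsU, haff⟩ := exists_genLocus_nhd_of_isAmple L hL j.opensRange (j x) ⟨x, rfl⟩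
  obtain ⟨Φ⟩ := nonempty_restrict_tensorPow_iso j L hL.1 (n + 1)
  refine ⟨n, restrSec j s ≫ Φ.hom, ?_, ?_⟩
  · rw [genLocus_comp_iso, genLocus_restrSec]
    exact hxs
  · rw [genLocus_comp_iso, genLocus_restrSec]
    exact haff.preimage_of_isOpenImmersion j hsU

theorem sv_restrSec {M : X.Modules} (s : Coh.structureModule X ⟶ M) (V : X'.Opens) :
    sv (restrSec j s) V = sv s (j ''ᵁ V) := by
  have h1 : sv (restrSec j s) V = s.app (j ''ᵁ V) ((Scheme.Modules.restrictUnitIso j).inv.app V (toS V 1)) := rfl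
  rw [h1, restrictUnitIso_inv_one]
  rfl

/-- ampleness can be checked after restriction along a surjective open immersion -/
theorem isAmple_of_restrict (L : X.Modules) (hj : j.opensRange = ⊤) (h : CohB1.IsAmple (L.restrict j)) :
    CohB1.IsAmple L := by
  obtain ⟨hinv, hc, hpt⟩ := h
  have hsurj : ∀ x : X, ∃ x' : X', j x' = x := by
    intro x
    have : x ∈ j.opensRange := by rw [hj]; trivial
    exact this
  have hLinv : PicF.IsInvertible L := by
    refine isInvertible_of_isGen _ (fun x => ?_)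
    obtain ⟨x', rfl⟩ := hsurj x
    obtain ⟨V, e, hxV, he⟩ := exists_gen _ hinv x'
    exact ⟨j ''ᵁ V, e, ⟨x', hxV, rfl⟩, isGen_of_isGen_restrict j L V e he⟩
  refine ⟨hLinv, ?_, fun x => ?_⟩
  · have h1 : IsCompact (Set.range j) := isCompact_range j.continuous
    have h2 : Set.range j = Set.univ := Set.eq_univ_of_forall hsurj
    rw [h2] at h1
    exact isCompact_univ_iff.1 h1
  · obtain ⟨x', rfl⟩ := hsurj x
    obtain ⟨n, s', hxs', haff⟩ := hpt x'
    obtain ⟨Φ⟩ := nonempty_restrict_tensorPow_iso j L hLinv (n + 1)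
    have htop : (⊤ : X.Opens) ≤ j ''ᵁ ⊤ := by
      intro y _
      obtain ⟨y', rfl⟩ := hsurj y
      exact ⟨y', trivial, rfl⟩
    obtain ⟨σU, hσU⟩ : ∃ σU : Γ(CohB1.tensorPow L (n + 1), j ''ᵁ ⊤), σU = Φ.inv.app ⊤ (sv s' ⊤) := ⟨_, rfl⟩
    obtain ⟨s, hs⟩ : ∃ s : Coh.structureModule X ⟶ CohB1.tensorPow L (n + 1),
        s = secHom _ (res (CohB1.tensorPow L (n + 1)) htop σU) := ⟨_, rfl⟩
    have hss' : restrSec j s ≫ Φ.hom = s' := by
      apply hom_ext_of_sv
      rw [sv_comp, sv_restrSec, hs, sv_secHom, res_res, res_self, hσU]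
      have : Φ.inv ≫ Φ.hom = 𝟙 _ := Iso.inv_hom_id _
      exact congrArg (fun φ => Scheme.Modules.Hom.app φ ⊤ (sv s' ⊤)) this
    have hgl : CohB1.genLocus _ s' = j ⁻¹ᵁ CohB1.genLocus _ s := by
      rw [← hss', genLocus_comp_iso, genLocus_restrSec]
    refine ⟨n, s, ?_, ?_⟩
    · rw [hgl] at hxs'
      exact hxs'
    · have hle : CohB1.genLocus _ s ≤ j.opensRange := by rw [hj]; exact le_top
      rw [← image_preimage_of_le j hle, ← hgl]
      exact haff.image_of_isOpenImmersion j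

theorem isAmple_restrict_iff_of_isIso [IsIso j] (L : X.Modules) :
    CohB1.IsAmple (L.restrict j) ↔ CohB1.IsAmple L := by
  have hj : j.opensRange = ⊤ := by
    ext x
    simp only [Scheme.Hom.coe_opensRange, Set.mem_range, Opens.coe_top, Set.mem_univ, iff_true]
    exact ⟨(inv j) x, by rw [← Scheme.Hom.comp_apply]; simp⟩
  constructor
  · exact isAmple_of_restrict j L hj
  · intro h
    haveI : CompactSpace X' := by
      haveI := h.2.1
      have e : X' ≃ₜ X := Scheme.homeoOfIso (asIso j)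
      exact e.symm.compactSpace
    exact isAmple_restrict j L h

end Groth.Agent.Lib.Helper23.RestrJ

namespace Groth.Agent.Lib.Helper23.RestrJ
open Groth.Agent.Lib.Helper23.GenLocus Groth.Agent.Lib.Helper6 Groth.Agent.Lib.Helper23.AmpleIso
open Groth.Agent.Lib.Helper23.Extend Groth.Agent.Lib.Helper23.SecTw

variable {X : Scheme.{u}}

theorem isAmple_restrict_comp_iff (M : X.Modules) {X' X'' : Scheme.{u}} (j : X' ⟶ X) (k : X'' ⟶ X')
    [IsOpenImmersion j] [IsOpenImmersion k] :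
    CohB1.IsAmple ((M.restrict j).restrict k) ↔ CohB1.IsAmple (M.restrict (k ≫ j)) :=
  isAmple_iff_of_iso ((Scheme.Modules.restrictFunctorComp k j).symm.app M)

theorem isAmple_restrict_iff_of_eq (M : X.Modules) {X' : Scheme.{u}} {j j' : X' ⟶ X} (h : j = j')
    [IsOpenImmersion j] [IsOpenImmersion j'] :
    CohB1.IsAmple (M.restrict j) ↔ CohB1.IsAmple (M.restrict j') :=
  isAmple_iff_of_iso ((Scheme.Modules.restrictFunctorCongr h).app M)

/-- ampleness of a restriction only depends on the image of the open immersion -/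
theorem isAmple_restrict_iff_of_range_eq (M : X.Modules) {X₁ X₂ : Scheme.{u}} (j₁ : X₁ ⟶ X) (j₂ : X₂ ⟶ X)
    [IsOpenImmersion j₁] [IsOpenImmersion j₂] (h : Set.range j₁ = Set.range j₂) :
    CohB1.IsAmple (M.restrict j₁) ↔ CohB1.IsAmple (M.restrict j₂) := by
  let φ : X₁ ≅ X₂ := IsOpenImmersion.isoOfRangeEq j₁ j₂ h
  have hφ : φ.hom ≫ j₂ = j₁ := IsOpenImmersion.isoOfRangeEq_hom_fac _ _ _
  rw [← isAmple_restrict_iff_of_isIso φ.hom (M.restrict j₂), isAmple_restrict_comp_iff]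
  exact isAmple_restrict_iff_of_eq M hφ.symm

theorem isAmple_restrict_restrict_iff (M : X.Modules) (U : X.Opens) (V : (↑U : Scheme.{u}).Opens) :
    CohB1.IsAmple ((M.restrict U.ι).restrict V.ι) ↔ CohB1.IsAmple (M.restrict (U.ι ''ᵁ V).ι) := by
  rw [isAmple_restrict_comp_iff]
  refine isAmple_restrict_iff_of_range_eq M _ _ ?_
  rw [Scheme.Opens.range_ι, Scheme.Hom.comp_base, TopCat.coe_comp, Set.range_comp, Scheme.Opens.range_ι]
  rfl

/-- restriction of an ample restriction to a smaller quasi-compact open -/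
theorem isAmple_restrict_of_le (M : X.Modules) {U U' : X.Opens} (hle : U' ≤ U) (hU' : IsCompact (U' : Set X))
    (h : CohB1.IsAmple (M.restrict U.ι)) : CohB1.IsAmple (M.restrict U'.ι) := by
  obtain ⟨V, hV⟩ : ∃ V : (↑U : Scheme.{u}).Opens, V = U.ι ⁻¹ᵁ U' := ⟨_, rfl⟩
  have hc : IsCompact (V : Set (↑U : Scheme.{u})) := by
    have h1 : (V : Set (↑U : Scheme.{u})) = U.ι ⁻¹' (U' : Set X) := by rw [hV]; rfl
    rw [h1]
    exact (U.ι.isOpenEmbedding.isInducing.isCompact_preimage_iff (by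
      rw [Scheme.Opens.range_ι]; exact hle)).2 hU'
  haveI : CompactSpace ↥(V : Scheme.{u}) := isCompact_iff_compactSpace.1 hc
  have h1 := isAmple_restrict V.ι (M.restrict U.ι) h
  rw [isAmple_restrict_restrict_iff] at h1
  have h2 : U.ι ''ᵁ V = U' := by rw [hV]; exact Groth.Agent.Lib.Helper23.SecTw.image_preimage_of_le U hle
  rw [h2] at h1
  exact h1

end Groth.Agent.Lib.Helper23.RestrJ

namespace Groth.Agent.Lib.Helper23.RestrJ
open Groth.Agent.Lib.Helper23.GenLocus Groth.Agent.Lib.Helper6 Groth.Agent.Lib.Helper23.AmpleIso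
open Groth.Agent.Lib.Helper23.Extend Groth.Agent.Lib.Helper23.SecTw

variable {X : Scheme.{u}}

/-- a scheme covered by quasi-separated basic opens of global functions is quasi-separated -/
theorem quasiSeparatedSpace_of_basicOpen_cover (X : Scheme.{u})
    (h : ∀ x : X, ∃ g : Γ(X, ⊤), x ∈ X.basicOpen g ∧ QuasiSeparatedSpace ↥(X.basicOpen g)) :
    QuasiSeparatedSpace X := by
  rw [quasiSeparatedSpace_iff_forall_affineOpens]
  intro P Q
  choose g hxg hqs using h
  obtain ⟨t, ht⟩ := P.2.isCompact.elim_finite_subcover (fun x : X => ((X.basicOpen (g x) : X.Opens) : Set X))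
    (fun x => (X.basicOpen (g x)).2) (fun x _ => Set.mem_iUnion.2 ⟨x, hxg x⟩)
  have hPQ : ((P : X.Opens) : Set X) ∩ ((Q : X.Opens) : Set X) = ⋃ x ∈ t,
      ((((P : X.Opens) ⊓ X.basicOpen (g x) : X.Opens) : Set X) ∩ (((Q : X.Opens) ⊓ X.basicOpen (g x) : X.Opens) : Set X)) := by
    ext y
    simp only [Set.mem_inter_iff, SetLike.mem_coe, Set.mem_iUnion, Opens.coe_inf, exists_prop]
    constructor
    · rintro ⟨hP, hQ⟩
      obtain ⟨x, hxt, hyx⟩ := Set.mem_iUnion₂.1 (ht hP)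
      exact ⟨x, hxt, ⟨hP, hyx⟩, ⟨hQ, hyx⟩⟩
    · rintro ⟨x, -, ⟨hP, -⟩, ⟨hQ, -⟩⟩
      exact ⟨hP, hQ⟩
  rw [hPQ]
  refine t.isCompact_biUnion (fun x _ => ?_)
  have hD : IsQuasiSeparated ((X.basicOpen (g x) : X.Opens) : Set X) :=
    (isQuasiSeparated_iff_quasiSeparatedSpace _ (X.basicOpen (g x)).2).2 (hqs x)
  have hcomp : ∀ A : X.affineOpens, IsCompact (((A : X.Opens) ⊓ X.basicOpen (g x) : X.Opens) : Set X) := by
    intro A
    have h1 := (A.2.basicOpen (X.presheaf.map (homOfLE (le_top : (A : X.Opens) ≤ ⊤)).op (g x))).isCompact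
    rwa [Scheme.basicOpen_res] at h1
  exact hD _ _ (fun y hy => hy.2) (Opens.isOpen _) (hcomp P) (fun y hy => hy.2) (Opens.isOpen _) (hcomp Q)

theorem exists_extension_of_eq [CompactSpace X] [QuasiSeparatedSpace X] (g : Γ(X, ⊤)) (F : X.Modules)
    [F.IsQuasicoherent] (W : X.Opens) (hW : W = X.basicOpen g) (σ : Γ(F, W)) :
    ∃ (N : ℕ) (τ : Γ(F, ⊤)), res F (le_top : W ≤ ⊤) τ = (resf (le_top : W ≤ ⊤) g) ^ N • σ := by
  subst hW
  obtain ⟨n, -, s, hs⟩ := exists_extension_top_of_qcqs X g F σ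
  exact ⟨n, s, hs⟩

/-- multiplying a section by a unit does not change its generating locus -/
theorem genLocus_eq_of_sv_eq_unit_smul (M : X.Modules) (a b : Coh.structureModule X ⟶ M) (u : Γ(X, ⊤))
    (hu : IsUnit u) (h : sv a ⊤ = u • sv b ⊤) : CohB1.genLocus M a = CohB1.genLocus M b := by
  have key : ∀ W : X.Opens, IsIso (a.app W) ↔ IsIso (b.app W) := by
    intro W
    have hfun : ⇑(a.app W) = ⇑(b.app W) ∘ (fun r : Γ(Coh.structureModule X, W) =>
        toS W (ofS W r * resf (le_top : W ≤ ⊤) u)) := by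
      funext r
      have h1 := app_toS a W (ofS W r)
      rw [toS_ofS] at h1
      change a.app W r = b.app W (toS W (ofS W r * resf (le_top : W ≤ ⊤) u))
      rw [h1, app_toS, ← res_sv a (le_top : W ≤ ⊤), h, res_smul, res_sv, mul_smul]
    have hbij : Function.Bijective (fun r : Γ(Coh.structureModule X, W) =>
        toS W (ofS W r * resf (le_top : W ≤ ⊤) u)) := by
      have hu' : IsUnit (resf (le_top : W ≤ ⊤) u) := hu.map _
      obtain ⟨v, hv⟩ := hu'
      refine ⟨fun r r' hrr' => ?_, fun r => ⟨toS W (ofS W r * ↑v⁻¹), ?_⟩⟩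
      · have h2 : ofS W r * resf (le_top : W ≤ ⊤) u = ofS W r' * resf (le_top : W ≤ ⊤) u := hrr'
        rw [← hv] at h2
        exact (Units.mul_left_inj v).1 h2
      · change toS W (ofS W r * ↑v⁻¹ * resf (le_top : W ≤ ⊤) u) = r
        rw [← hv, mul_assoc, Units.inv_mul, mul_one]
        rfl
    rw [ConcreteCategory.isIso_iff_bijective, ConcreteCategory.isIso_iff_bijective, hfun]
    exact Function.Bijective.of_comp_iff _ hbij
  ext x
  change x ∈ CohB1.genLocus M a ↔ x ∈ CohB1.genLocus M b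
  rw [mem_genLocus_iff, mem_genLocus_iff]
  constructor
  · rintro ⟨V, hxV, hV⟩
    exact ⟨V, hxV, fun W hW => (key W).1 (hV W hW)⟩
  · rintro ⟨V, hxV, hV⟩
    exact ⟨V, hxV, fun W hW => (key W).2 (hV W hW)⟩

end Groth.Agent.Lib.Helper23.RestrJ

namespace Groth.Agent.Lib.Helper23.RestrJ
open Groth.Agent.Lib.Helper23.GenLocus Groth.Agent.Lib.Helper6 Groth.Agent.Lib.Helper23.AmpleIso
open Groth.Agent.Lib.Helper23.Extend Groth.Agent.Lib.Helper23.SecTw

variable {X : Scheme.{u}}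

/-- ampleness is local for a cover by basic opens of global functions (quasi-compact total space) -/
theorem isAmple_of_basicOpen_cover [CompactSpace X] (L : X.Modules)
    (h : ∀ x : X, ∃ g : Γ(X, ⊤), x ∈ X.basicOpen g ∧ CohB1.IsAmple (L.restrict (X.basicOpen g).ι)) :
    CohB1.IsAmple L := by
  have hLinv : PicF.IsInvertible L := by
    refine isInvertible_of_restrict L (fun x => ?_)
    obtain ⟨g, hxg, hamp⟩ := h x
    exact ⟨X.basicOpen g, hxg, hamp.1⟩
  haveI : QuasiSeparatedSpace X := by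
    refine quasiSeparatedSpace_of_basicOpen_cover X (fun x => ?_)
    obtain ⟨g, hxg, hamp⟩ := h x
    exact ⟨g, hxg, quasiSeparatedSpace_of_isAmple _ hamp⟩
  refine ⟨hLinv, inferInstance, fun x => ?_⟩
  obtain ⟨g, hxg, hamp⟩ := h x
  obtain ⟨U, hU⟩ : ∃ U : X.Opens, U = X.basicOpen g := ⟨_, rfl⟩
  rw [← hU] at hamp hxg
  obtain ⟨n, s', hxs', haff⟩ := hamp.2.2 (⟨x, hxg⟩ : (↑U : Scheme.{u}))
  obtain ⟨Φ⟩ := Groth.Agent.Lib.Helper23.SecTw.nonempty_restrict_tensorPow_iso L hLinv U (n + 1)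
  haveI : (CohB1.tensorPow L (n + 1)).IsQuasicoherent :=
    isQuasicoherent_of_isInvertible _ (isInvertible_tensorPow hLinv (n + 1))
  have hW : U.ι ''ᵁ ⊤ = X.basicOpen g := by
    rw [Scheme.Hom.image_top_eq_opensRange, Scheme.Opens.opensRange_ι, hU]
  obtain ⟨σU, hσU⟩ : ∃ σU : Γ(CohB1.tensorPow L (n + 1), U.ι ''ᵁ ⊤), σU = Φ.inv.app ⊤ (sv s' ⊤) := ⟨_, rfl⟩
  obtain ⟨N, τ, hτ⟩ := exists_extension_of_eq g (CohB1.tensorPow L (n + 1)) (U.ι ''ᵁ ⊤) hW σU
  obtain ⟨t, ht⟩ : ∃ t : Coh.structureModule X ⟶ CohB1.tensorPow L (n + 1), t = secHom _ (g • τ) := ⟨_, rfl⟩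
  have hle : CohB1.genLocus _ t ≤ U := by
    rw [ht, hU]
    exact genLocus_secHom_smul_le _ (isInvertible_tensorPow hLinv (n + 1)) g τ
  -- the unit
  obtain ⟨u, hu⟩ : ∃ u : Γ((↑U : Scheme.{u}), ⊤),
      (show Γ(X, U.ι ''ᵁ ⊤) from u) = (resf (le_top : U.ι ''ᵁ ⊤ ≤ ⊤) g) ^ (N + 1) := ⟨_, rfl⟩
  have hunit : IsUnit u := by
    have h1 : IsUnit (resf (le_top : U.ι ''ᵁ ⊤ ≤ ⊤) g) := by
      have h2 : IsUnit (X.presheaf.map (homOfLE (X.basicOpen_le g)).op g) :=
        X.toRingedSpace.isUnit_res_basicOpen g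
      have h3 : resf (le_top : U.ι ''ᵁ ⊤ ≤ ⊤) g = resf (le_of_eq hW) (resf (X.basicOpen_le g) g) := by
        rw [resf_resf]
      rw [h3]
      exact h2.map _
    have h4 : IsUnit ((resf (le_top : U.ι ''ᵁ ⊤ ≤ ⊤) g) ^ (N + 1)) := h1.pow _
    rw [← hu] at h4
    exact h4
  have hsv : sv (Groth.Agent.Lib.Helper23.SecTw.restrSec t U ≫ Φ.hom) ⊤ = u • sv s' ⊤ := by
    rw [sv_comp, Groth.Agent.Lib.Helper23.SecTw.sv_restrSec, ht, sv_secHom, res_smul, hτ, ← mul_smul, ← pow_succ']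
    have h5 : ((resf (le_top : U.ι ''ᵁ ⊤ ≤ ⊤) g) ^ (N + 1) • σU : Γ(CohB1.tensorPow L (n + 1), U.ι ''ᵁ ⊤)) =
        (u • (show Γ((CohB1.tensorPow L (n + 1)).restrict U.ι, ⊤) from σU) :
          Γ((CohB1.tensorPow L (n + 1)).restrict U.ι, ⊤)) := by
      rw [Groth.Agent.Lib.Helper23.SecTw.smul_restrict_eq, hu]
    rw [h5, Scheme.Modules.Hom.app_smul, hσU]
    congr 1
    have : Φ.inv ≫ Φ.hom = 𝟙 _ := Iso.inv_hom_id _
    exact congrArg (fun φ => Scheme.Modules.Hom.app φ ⊤ (sv s' ⊤)) this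
  have hgl : CohB1.genLocus _ s' = U.ι ⁻¹ᵁ CohB1.genLocus _ t := by
    rw [← genLocus_eq_of_sv_eq_unit_smul _ _ _ u hunit hsv, genLocus_comp_iso,
      Groth.Agent.Lib.Helper23.SecTw.genLocus_restrSec]
  refine ⟨n, t, ?_, ?_⟩
  · rw [hgl] at hxs'
    exact hxs'
  · rw [← Groth.Agent.Lib.Helper23.SecTw.image_preimage_of_le U hle, ← hgl]
    exact haff.image_of_isOpenImmersion U.ι

end Groth.Agent.Lib.Helper23.RestrJ

namespace Groth.Agent.Lib.Helper23.RestrJ
open Groth.Agent.Lib.Helper23.GenLocus Groth.Agent.Lib.Helper6 Groth.Agent.Lib.Helper23.AmpleIso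
open Groth.Agent.Lib.Helper23.Extend Groth.Agent.Lib.Helper23.SecTw

/-- relative ampleness over an affine open of the base can be checked on a cover by basic opens -/
theorem isAmple_restrict_preimage_of_basicOpen_cover {X Y : Scheme.{u}} (f : X ⟶ Y) [QuasiCompact f]
    (L : X.Modules) (V : Y.Opens) (hV : IsAffineOpen V)
    (h : ∀ y ∈ V, ∃ g : Γ(Y, V), y ∈ Y.basicOpen g ∧
      CohB1.IsAmple (L.restrict (f ⁻¹ᵁ (Y.basicOpen g)).ι)) :
    CohB1.IsAmple (L.restrict (f ⁻¹ᵁ V).ι) := by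
  haveI : CompactSpace ↥((f ⁻¹ᵁ V : X.Opens) : Scheme.{u}) :=
    isCompact_iff_compactSpace.1 (QuasiCompact.isCompact_preimage (f := f) _ V.isOpen hV.isCompact)
  refine isAmple_of_basicOpen_cover _ (fun x => ?_)
  obtain ⟨g, hyg, hamp⟩ := h (f x.1) x.2
  refine ⟨(f ⁻¹ᵁ V).topIso.inv (f.app V g), ?_, ?_⟩
  · have h1 : x.1 ∈ (f ⁻¹ᵁ V).ι ''ᵁ ((f ⁻¹ᵁ V : X.Opens) : Scheme.{u}).basicOpen ((f ⁻¹ᵁ V).topIso.inv (f.app V g)) := by
      rw [Scheme.Opens.ι_image_basicOpen_topIso_inv, ← Scheme.preimage_basicOpen]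
      exact hyg
    obtain ⟨x', hx', hxx'⟩ := h1
    have : x' = x := (f ⁻¹ᵁ V).ι.isOpenEmbedding.injective hxx'
    rw [← this]
    exact hx'
  · rw [isAmple_restrict_restrict_iff, Scheme.Opens.ι_image_basicOpen_topIso_inv, ← Scheme.preimage_basicOpen]
    exact hamp

end Groth.Agent.Lib.Helper23.RestrJ

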