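import Mathlib
import Groth.Agent.Lib.Helper23RestrJ
import Groth.Agent.Lib.Helper13PullbackUnit

/-!
# Pullbacks of invertible / ample modules along arbitrary morphisms (helper23)

Namespace `Groth.Agent.Lib.Helper23.PB`. Uses helper13's `unitSec` / `existsUnique_lift`.

* `final_opensMap`, `pullbackUnitIso f : f^* O_Y ≅ O_X`
* `res_unitSec`, `map_unitSec` : `unitSec` commutes with restriction and with morphisms of modules
* `isGen_of_affine` : a section generating over all affine opens inside `U` generates over `U`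
* `bijective_smul_unitSec`, `isGen_unitSec` : the pullback of a generator over an affine open `W` generates `f^* L` on `f⁻¹ W`
* `isInvertible_pullback`, `isGen_of_iso`, `isUnit_coef_of_isGen`
* `genLocus_pullback` : `X_{f^* s} = f⁻¹(Y_s)` (for any identification `O_X ≅ f^* O_Y`)
* `nonempty_pullback_tensorPow_iso`, `nonempty_pullback_tensorMod_iso`
* `exists_pullback_section`, `isAmple_pullback_of`, `isAmple_pullback_of_isAffineHom`, `isAmple_pullback_of_isEmbedding`
-/

set_option autoImplicit false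
universe u
open CategoryTheory CategoryTheory.Limits AlgebraicGeometry TopologicalSpace Opposite

namespace Groth.Agent.Lib.Helper23.PB

instance final_opensMap {X Y : Scheme.{u}} (f : X ⟶ Y) : (TopologicalSpace.Opens.map f.base).Final := by
  apply Functor.final_of_exists_of_isFiltered
  · intro U
    exact ⟨⊤, ⟨homOfLE le_top⟩⟩
  · intro U V s s'
    exact ⟨V, 𝟙 V, Subsingleton.elim _ _⟩

instance isRightAdjoint_pushforward {X Y : Scheme.{u}} (f : X ⟶ Y) :
    (SheafOfModules.pushforward.{u} f.toRingCatSheafHom).IsRightAdjoint :=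
  inferInstanceAs ((Scheme.Modules.pushforward f).IsRightAdjoint)

set_option backward.isDefEq.respectTransparency.types false in
theorem isIso_pullbackObjUnitToUnit {X Y : Scheme.{u}} (f : X ⟶ Y) :
    IsIso (SheafOfModules.pullbackObjUnitToUnit.{u} f.toRingCatSheafHom) := by
  infer_instance

set_option backward.isDefEq.respectTransparency.types false in
noncomputable def pullbackUnitHom {X Y : Scheme.{u}} (f : X ⟶ Y) :
    (Scheme.Modules.pullback f).obj (Coh.structureModule Y) ⟶ Coh.structureModule X :=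
  SheafOfModules.pullbackObjUnitToUnit.{u} f.toRingCatSheafHom

set_option backward.isDefEq.respectTransparency.types false in
instance {X Y : Scheme.{u}} (f : X ⟶ Y) : IsIso (pullbackUnitHom f) := isIso_pullbackObjUnitToUnit f

noncomputable def pullbackUnitIso {X Y : Scheme.{u}} (f : X ⟶ Y) :
    (Scheme.Modules.pullback f).obj (Coh.structureModule Y) ≅ Coh.structureModule X :=
  asIso (pullbackUnitHom f)

end Groth.Agent.Lib.Helper23.PB

namespace Groth.Agent.Lib.Helper23.PB
open Groth.Agent.Lib.Helper23.GenLocus Groth.Agent.Lib.Helper6 Groth.Agent.Lib.Helper23.AmpleIso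
open Groth.Agent.Lib.Helper23.Extend Groth.Agent.Lib.Helper23.SecTw
open Groth.Agent.Helper13PullbackUnit

variable {X Y : Scheme.{u}} (f : X ⟶ Y)

/-- `unitSec` commutes with restriction -/
theorem res_unitSec (F : Y.Modules) {V V' : Y.Opens} {U U' : X.Opens} (hle : U ≤ f ⁻¹ᵁ V)
    (hle' : U' ≤ f ⁻¹ᵁ V') (hV : V' ≤ V) (hU : U' ≤ U) (x : Γ(F, V)) :
    res ((Scheme.Modules.pullback f).obj F) hU (unitSec f F hle x) = unitSec f F hle' (res F hV x) := by
  rw [unitSec_apply, unitSec_apply]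
  have h1 := app_map ((Scheme.Modules.pullbackPushforwardAdjunction f).unit.app F) (homOfLE hV) x
  have h2 : ((Scheme.Modules.pullbackPushforwardAdjunction f).unit.app F).app V' (res F hV x) =
      ((Scheme.Modules.pullback f).obj F).presheaf.map (homOfLE (f.preimage_mono hV)).op
        (((Scheme.Modules.pullbackPushforwardAdjunction f).unit.app F).app V x) := h1
  rw [h2]
  obtain ⟨a, ha⟩ : ∃ a : Γ((Scheme.Modules.pullback f).obj F, f ⁻¹ᵁ V),
      a = ((Scheme.Modules.pullbackPushforwardAdjunction f).unit.app F).app V x := ⟨_, rfl⟩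
  change res _ hU (res _ hle _) = res _ hle' (res _ (f.preimage_mono hV) _)
  rw [← ha, res_res, res_res]

end Groth.Agent.Lib.Helper23.PB

namespace Groth.Agent.Lib.Helper23.PB
open Groth.Agent.Lib.Helper23.GenLocus Groth.Agent.Lib.Helper6 Groth.Agent.Lib.Helper23.AmpleIso
open Groth.Agent.Lib.Helper23.Extend Groth.Agent.Lib.Helper23.SecTw
open Groth.Agent.Helper13PullbackUnit

variable {X : Scheme.{u}}

theorem le_iSup_affine (W : X.Opens) :
    W ≤ ⨆ A : {A : X.Opens // IsAffineOpen A ∧ A ≤ W}, A.1 := by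
  intro x hx
  obtain ⟨A, hA, hxA, hAW⟩ := exists_isAffineOpen_mem_and_subset (X := X) (x := x) (U := W) hx
  exact Opens.mem_iSup.2 ⟨⟨A, hA, hAW⟩, hxA⟩

/-- functions agreeing on all affine opens inside `W` agree -/
theorem resf_ext_affine {W : X.Opens} (r r' : Γ(X, W))
    (h : ∀ (A : X.Opens) (hA : A ≤ W), IsAffineOpen A → resf hA r = resf hA r') : r = r' := by
  have h1 : toS W r = toS W r' :=
    (modSheaf (Coh.structureModule X)).eq_of_locally_eq' (fun A : {A : X.Opens // IsAffineOpen A ∧ A ≤ W} => A.1) W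
      (fun A => homOfLE A.2.2) (le_iSup_affine W) _ _ (fun A => by
        change res (Coh.structureModule X) A.2.2 (toS W r) = res (Coh.structureModule X) A.2.2 (toS W r')
        have := h A.1 A.2.2 A.2.1
        exact congrArg (toS A.1) this)
  exact h1

theorem res_ext_affine (M : X.Modules) {W : X.Opens} (m m' : Γ(M, W))
    (h : ∀ (A : X.Opens) (hA : A ≤ W), IsAffineOpen A → res M hA m = res M hA m') : m = m' :=
  (modSheaf M).eq_of_locally_eq' (fun A : {A : X.Opens // IsAffineOpen A ∧ A ≤ W} => A.1) W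
    (fun A => homOfLE A.2.2) (le_iSup_affine W) _ _ (fun A => h A.1 A.2.2 A.2.1)

/-- a section which generates over all affine opens inside `U` generates over `U` -/
theorem isGen_of_affine (M : X.Modules) (U : X.Opens) (σ : Γ(M, U))
    (h : ∀ (A : X.Opens) (hA : A ≤ U), IsAffineOpen A → Function.Bijective (fun r : Γ(X, A) => r • res M hA σ)) :
    IsGen M U σ := by
  intro W' hW'
  constructor
  · intro r r' hrr'
    refine resf_ext_affine r r' (fun A hA hAaff => ?_)
    apply (h A (hA.trans hW') hAaff).1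
    change resf hA r • res M (hA.trans hW') σ = resf hA r' • res M (hA.trans hW') σ
    have h1 : r • res M hW' σ = r' • res M hW' σ := hrr'
    have h2 := congrArg (res M hA) h1
    rwa [res_smul, res_smul, res_res] at h2
  · intro m
    have hex : ∀ A : {A : X.Opens // IsAffineOpen A ∧ A ≤ W'}, ∃ r : Γ(X, A.1),
        r • res M (A.2.2.trans hW') σ = res M A.2.2 m := fun A => (h A.1 (A.2.2.trans hW') A.2.1).2 _
    choose r hr using hex
    have hcompat : TopCat.Presheaf.IsCompatible (modSheaf (Coh.structureModule X)).1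
        (fun A : {A : X.Opens // IsAffineOpen A ∧ A ≤ W'} => A.1) (fun A => toS A.1 (r A)) := by
      intro A B
      change toS (A.1 ⊓ B.1) (resf inf_le_left (r A)) = toS (A.1 ⊓ B.1) (resf inf_le_right (r B))
      congr 1
      refine resf_ext_affine _ _ (fun C hC hCaff => ?_)
      rw [resf_resf, resf_resf]
      apply (h C ((hC.trans inf_le_left).trans (A.2.2.trans hW')) hCaff).1
      change resf (hC.trans inf_le_left) (r A) • res M _ σ = resf (hC.trans inf_le_right) (r B) • res M _ σ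
      have hA := congrArg (res M (hC.trans inf_le_left)) (hr A)
      have hB := congrArg (res M (hC.trans inf_le_right)) (hr B)
      rw [res_smul, res_res, res_res] at hA hB
      rw [hA, hB]
    obtain ⟨ρ, hρ, -⟩ := (modSheaf (Coh.structureModule X)).existsUnique_gluing'
      (fun A : {A : X.Opens // IsAffineOpen A ∧ A ≤ W'} => A.1) W'
      (fun A => homOfLE A.2.2) (le_iSup_affine W') _ hcompat
    refine ⟨ofS W' ρ, ?_⟩
    refine res_ext_affine M _ _ (fun A hA hAaff => ?_)
    change res M hA (ofS W' ρ • res M hW' σ) = res M hA m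
    rw [res_smul, res_res]
    have h3 : resf hA (ofS W' ρ) = r ⟨A, hAaff, hA⟩ := by
      have := hρ ⟨A, hAaff, hA⟩
      exact congrArg (ofS A) this
    rw [h3]
    exact hr ⟨A, hAaff, hA⟩

end Groth.Agent.Lib.Helper23.PB

namespace Groth.Agent.Lib.Helper23.PB
open Groth.Agent.Lib.Helper23.GenLocus Groth.Agent.Lib.Helper6 Groth.Agent.Lib.Helper23.AmpleIso
open Groth.Agent.Lib.Helper23.Extend Groth.Agent.Lib.Helper23.SecTw
open Groth.Agent.Helper13PullbackUnit

variable {X Y : Scheme.{u}} (f : X ⟶ Y)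

theorem bijective_smul_unitSec (L : Y.Modules) [L.IsQuasicoherent] {W : Y.Opens} (hW : IsAffineOpen W)
    (e : Γ(L, W)) (he : IsGen L W e) {A : X.Opens} (hA : IsAffineOpen A) (hle : A ≤ f ⁻¹ᵁ W) :
    Function.Bijective (fun r : Γ(X, A) => r • unitSec f L hle e) := by
  have hspec : ∀ m : Γ(L, W), coef he le_rfl m • e = m := by
    intro m
    have := coef_spec he le_rfl m
    rwa [res_self] at this
  let l : Γ(L, W) →+ Γ(X, A) :=
    { toFun := fun m => f.appLE W A hle (coef he le_rfl m)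
      map_zero' := by
        have : coef he le_rfl (0 : Γ(L, W)) = 0 := (coef_unique he le_rfl _ _ (by rw [zero_smul])).symm
        change f.appLE W A hle (coef he le_rfl 0) = 0
        rw [this, map_zero]
      map_add' := fun m m' => by
        change f.appLE W A hle (coef he le_rfl (m + m')) = _
        rw [coef_add, map_add] }
  have hl : ∀ (r : Γ(Y, W)) (x : Γ(L, W)), l (r • x) = (f.appLE W A hle r : Γ(X, A)) • l x := by
    intro r x
    change f.appLE W A hle (coef he le_rfl (r • x)) = f.appLE W A hle r • f.appLE W A hle (coef he le_rfl x)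
    rw [coef_smul, map_mul]
    rfl
  have hl1 : l e = 1 := by
    have : coef he le_rfl e = 1 := (coef_unique he le_rfl _ _ (by rw [one_smul, res_self])).symm
    change f.appLE W A hle (coef he le_rfl e) = 1
    rw [this, map_one]
  obtain ⟨l', hl', -⟩ := existsUnique_lift f L hW hA hle Γ(X, A) l hl
  have hU := existsUnique_lift f L hW hA hle Γ((Scheme.Modules.pullback f).obj L, A) (unitSec f L hle)
    (fun r x => unitSec_smul f L hle r x)
  constructor
  · intro r r' hrr'
    have h1 : r • unitSec f L hle e = r' • unitSec f L hle e := hrr'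
    have h2 := congrArg l' h1
    rw [map_smul, map_smul, hl', hl1, smul_eq_mul, smul_eq_mul, mul_one, mul_one] at h2
    exact h2
  · intro p
    refine ⟨l' p, ?_⟩
    let ψ : Γ((Scheme.Modules.pullback f).obj L, A) →ₗ[Γ(X, A)] Γ((Scheme.Modules.pullback f).obj L, A) :=
      { toFun := fun p => l' p • unitSec f L hle e
        map_add' := fun p q => by rw [map_add, add_smul]
        map_smul' := fun r p => by rw [map_smul, smul_eq_mul, mul_smul]; rfl }
    have hψ : ∀ x : Γ(L, W), ψ (unitSec f L hle x) = unitSec f L hle x := by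
      intro x
      change l' (unitSec f L hle x) • unitSec f L hle e = unitSec f L hle x
      rw [hl']
      change f.appLE W A hle (coef he le_rfl x) • unitSec f L hle e = _
      rw [← unitSec_smul, hspec]
    have hid : ∀ x : Γ(L, W), (LinearMap.id : Γ((Scheme.Modules.pullback f).obj L, A) →ₗ[Γ(X, A)] _)
        (unitSec f L hle x) = unitSec f L hle x := fun x => rfl
    have := hU.unique hψ hid
    exact congrArg (fun φ => φ p) this

theorem isGen_unitSec (L : Y.Modules) [L.IsQuasicoherent] {W : Y.Opens} (hW : IsAffineOpen W)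
    (e : Γ(L, W)) (he : IsGen L W e) :
    IsGen ((Scheme.Modules.pullback f).obj L) (f ⁻¹ᵁ W) (unitSec f L le_rfl e) := by
  refine isGen_of_affine _ _ _ (fun A hA hAaff => ?_)
  have h1 : res ((Scheme.Modules.pullback f).obj L) hA (unitSec f L le_rfl e) = unitSec f L hA e := by
    rw [res_unitSec f L le_rfl hA le_rfl hA, res_self]
  rw [h1]
  exact bijective_smul_unitSec f L hW e he hAaff hA

end Groth.Agent.Lib.Helper23.PB

namespace Groth.Agent.Lib.Helper23.PB
open Groth.Agent.Lib.Helper23.GenLocus Groth.Agent.Lib.Helper6 Groth.Agent.Lib.Helper23.AmpleIso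
open Groth.Agent.Lib.Helper23.Extend Groth.Agent.Lib.Helper23.SecTw
open Groth.Agent.Helper13PullbackUnit

variable {X Y : Scheme.{u}} (f : X ⟶ Y)

theorem exists_affine_gen (L : Y.Modules) (hL : PicF.IsInvertible L) (y : Y) :
    ∃ (W : Y.Opens) (e : Γ(L, W)), y ∈ W ∧ IsAffineOpen W ∧ IsGen L W e := by
  obtain ⟨W₀, e₀, hyW₀, he₀⟩ := exists_gen L hL y
  obtain ⟨W, hW, hyW, hWW₀⟩ := exists_isAffineOpen_mem_and_subset (X := Y) (x := y) (U := W₀) hyW₀
  exact ⟨W, res L hWW₀ e₀, hyW, hW, he₀.mono hWW₀⟩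

theorem isInvertible_pullback (L : Y.Modules) (hL : PicF.IsInvertible L) :
    PicF.IsInvertible ((Scheme.Modules.pullback f).obj L) := by
  haveI : L.IsQuasicoherent := isQuasicoherent_of_isInvertible L hL
  refine isInvertible_of_isGen _ (fun x => ?_)
  obtain ⟨W, e, hyW, hW, he⟩ := exists_affine_gen L hL (f x)
  exact ⟨f ⁻¹ᵁ W, _, hyW, isGen_unitSec f L hW e he⟩

/-- naturality of the adjunction unit on sections -/
theorem map_unitSec {M N : Y.Modules} (φ : M ⟶ N) {V : Y.Opens} {U : X.Opens} (hle : U ≤ f ⁻¹ᵁ V)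
    (m : Γ(M, V)) :
    ((Scheme.Modules.pullback f).map φ).app U (unitSec f M hle m) = unitSec f N hle (φ.app V m) := by
  rw [unitSec_apply, unitSec_apply]
  have h1 := app_map ((Scheme.Modules.pullback f).map φ) (homOfLE hle)
    (((Scheme.Modules.pullbackPushforwardAdjunction f).unit.app M).app V m)
  rw [h1]
  congr 1
  have h2 := (Scheme.Modules.pullbackPushforwardAdjunction f).unit.naturality φ
  have h3 := congrArg (fun ψ => Scheme.Modules.Hom.app ψ V m) h2
  exact h3.symm

theorem isGen_of_iso {M N : X.Modules} (Φ : M ≅ N) {W : X.Opens} {a : Γ(M, W)} (ha : IsGen M W a) :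
    IsGen N W (Φ.hom.app W a) := by
  intro W' hW'
  have h1 := ha W' hW'
  have hiso : IsIso (Φ.hom.app W') := Scheme.Modules.Hom.isIso_iff_isIso_app.1 inferInstance _
  have hb : Function.Bijective (Φ.hom.app W') := ConcreteCategory.bijective_of_isIso _
  have hfun : (fun r : Γ(X, W') => r • res N hW' (Φ.hom.app W a)) =
      ⇑(Φ.hom.app W') ∘ (fun r : Γ(X, W') => r • res M hW' a) := by
    funext r
    change r • res N hW' (Φ.hom.app W a) = Φ.hom.app W' (r • res M hW' a)
    rw [Scheme.Modules.Hom.app_smul]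
    congr 1
    exact (app_map Φ.hom (homOfLE hW') a).symm
  rw [hfun]
  exact hb.comp h1

end Groth.Agent.Lib.Helper23.PB

namespace Groth.Agent.Lib.Helper23.PB
open Groth.Agent.Lib.Helper23.GenLocus Groth.Agent.Lib.Helper6 Groth.Agent.Lib.Helper23.AmpleIso
open Groth.Agent.Lib.Helper23.Extend Groth.Agent.Lib.Helper23.SecTw
open Groth.Agent.Helper13PullbackUnit

variable {X Y : Scheme.{u}} (f : X ⟶ Y)

/-- two generators differ by a unit -/
theorem isUnit_coef_of_isGen {M : X.Modules} {W : X.Opens} {a b : Γ(M, W)} (ha : IsGen M W a) (hb : IsGen M W b) :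
    IsUnit (coef ha le_rfl b) := by
  have h1 := coef_spec ha le_rfl b
  have h2 := coef_spec hb le_rfl a
  rw [res_self] at h1 h2
  have h3 : (coef ha le_rfl b * coef hb le_rfl a) • b = (1 : Γ(X, W)) • b := by
    rw [mul_smul, h2, h1, one_smul]
  have h4 : coef ha le_rfl b * coef hb le_rfl a = 1 := by
    apply (hb W le_rfl).1
    change (coef ha le_rfl b * coef hb le_rfl a) • res M le_rfl b = (1 : Γ(X, W)) • res M le_rfl b
    rw [res_self]
    exact h3
  exact IsUnit.of_mul_eq_one _ h4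

/-- the generating locus of a pulled back section is the preimage of the generating locus -/
theorem genLocus_pullback (L : Y.Modules) (hL : PicF.IsInvertible L) (s : Coh.structureModule Y ⟶ L)
    (e : Coh.structureModule X ≅ (Scheme.Modules.pullback f).obj (Coh.structureModule Y)) :
    CohB1.genLocus ((Scheme.Modules.pullback f).obj L) (e.hom ≫ (Scheme.Modules.pullback f).map s) =
      f ⁻¹ᵁ CohB1.genLocus L s := by
  haveI : L.IsQuasicoherent := isQuasicoherent_of_isInvertible L hL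
  haveI : (Coh.structureModule Y).IsQuasicoherent := Groth.Agent.Lib.Helper23.Serre.isQuasicoherent_structureModule' Y
  refine opens_eq_of_cover _ _ (fun x => ?_)
  obtain ⟨W, ε, hyW, hW, hε⟩ := exists_affine_gen L hL (f x)
  refine ⟨f ⁻¹ᵁ W, hyW, ?_⟩
  -- generators upstairs
  have hσ := isGen_unitSec f L hW ε hε
  have hω := isGen_unitSec f (Coh.structureModule Y) hW (toS W 1) (isGen_one W)
  have hγ : IsGen ((Scheme.Modules.pullback f).obj (Coh.structureModule Y)) (f ⁻¹ᵁ W)
      (e.hom.app (f ⁻¹ᵁ W) (toS (f ⁻¹ᵁ W) 1)) := isGen_of_iso e (isGen_one (f ⁻¹ᵁ W))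
  obtain ⟨α, hα⟩ : ∃ α : Γ(X, f ⁻¹ᵁ W), α = coef hω le_rfl (e.hom.app (f ⁻¹ᵁ W) (toS (f ⁻¹ᵁ W) 1)) := ⟨_, rfl⟩
  have hαu : IsUnit α := hα ▸ isUnit_coef_of_isGen hω hγ
  have hαs : α • unitSec f (Coh.structureModule Y) le_rfl (toS W 1) = e.hom.app (f ⁻¹ᵁ W) (toS (f ⁻¹ᵁ W) 1) := by
    have := coef_spec hω le_rfl (e.hom.app (f ⁻¹ᵁ W) (toS (f ⁻¹ᵁ W) 1))
    rw [res_self] at this
    rw [hα]
    exact this
  obtain ⟨c, hc⟩ : ∃ c : Γ(Y, W), c = coef hε le_rfl (sv s W) := ⟨_, rfl⟩
  have hcs : sv s W = c • ε := by rw [hc]; exact sv_eq_coef_smul s hε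
  have hsv : sv (e.hom ≫ (Scheme.Modules.pullback f).map s) (f ⁻¹ᵁ W) =
      (α * f.app W c) • unitSec f L le_rfl ε := by
    rw [sv_comp]
    change ((Scheme.Modules.pullback f).map s).app (f ⁻¹ᵁ W) (e.hom.app (f ⁻¹ᵁ W) (toS (f ⁻¹ᵁ W) 1)) = _
    rw [← hαs, Scheme.Modules.Hom.app_smul, map_unitSec, mul_smul]
    congr 1
    have h1 : s.app W (toS W 1) = c • ε := hcs
    rw [h1, unitSec_smul, Scheme.Hom.appLE_eq_app]
  rw [genLocus_inf_eq_of_isGen _ _ (f ⁻¹ᵁ W) _ _ hσ hsv, Scheme.basicOpen_mul,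
    Scheme.basicOpen_of_isUnit _ hαu, ← Scheme.preimage_basicOpen,
    ← genLocus_inf_eq_of_isGen L s W ε c hε hcs]
  ext z
  simp only [Opens.coe_inf, Set.mem_inter_iff, SetLike.mem_coe, Scheme.Hom.coe_preimage, Set.mem_preimage]
  tauto

end Groth.Agent.Lib.Helper23.PB

namespace Groth.Agent.Lib.Helper23.PB
open Groth.Agent.Lib.Helper23.GenLocus Groth.Agent.Lib.Helper6 Groth.Agent.Lib.Helper23.AmpleIso
open Groth.Agent.Lib.Helper23.Extend Groth.Agent.Lib.Helper23.SecTw
open Groth.Agent.Helper13PullbackUnit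

variable {X Y : Scheme.{u}} (f : X ⟶ Y)

/-- affine frames of a module -/
abbrev AFr (L : Y.Modules) : Type u := {p : Σ W : Y.Opens, Γ(L, W) // IsAffineOpen p.1 ∧ IsGen L p.1 p.2}

theorem preimage_inf_le (A B : Y.Opens) : f ⁻¹ᵁ A ⊓ f ⁻¹ᵁ B ≤ f ⁻¹ᵁ (A ⊓ B) := fun _ hx => hx

/-- transition functions of pulled-back frames -/
theorem res_unitSec_of_transition (M : Y.Modules) {W₁ W₂ : Y.Opens} (a₁ : Γ(M, W₁)) (a₂ : Γ(M, W₂))
    (γ : Γ(Y, W₁ ⊓ W₂)) (h : res M inf_le_left a₁ = γ • res M inf_le_right a₂) :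
    res ((Scheme.Modules.pullback f).obj M) (inf_le_left : f ⁻¹ᵁ W₁ ⊓ f ⁻¹ᵁ W₂ ≤ f ⁻¹ᵁ W₁) (unitSec f M le_rfl a₁) =
      f.appLE (W₁ ⊓ W₂) (f ⁻¹ᵁ W₁ ⊓ f ⁻¹ᵁ W₂) (preimage_inf_le f W₁ W₂) γ •
        res ((Scheme.Modules.pullback f).obj M) (inf_le_right : f ⁻¹ᵁ W₁ ⊓ f ⁻¹ᵁ W₂ ≤ f ⁻¹ᵁ W₂)
          (unitSec f M le_rfl a₂) := by
  rw [res_unitSec f M le_rfl (preimage_inf_le f W₁ W₂) inf_le_left inf_le_left,
    res_unitSec f M le_rfl (preimage_inf_le f W₁ W₂) inf_le_right inf_le_right, h, unitSec_smul]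

/-- `f^*(L^{⊗ n}) ≅ (f^* L)^{⊗ n}` -/
theorem nonempty_pullback_tensorPow_iso (L : Y.Modules) (hL : PicF.IsInvertible L) (n : ℕ) :
    Nonempty ((Scheme.Modules.pullback f).obj (CohB1.tensorPow L n) ≅
      CohB1.tensorPow ((Scheme.Modules.pullback f).obj L) n) := by
  haveI : L.IsQuasicoherent := isQuasicoherent_of_isInvertible L hL
  haveI : (CohB1.tensorPow L n).IsQuasicoherent :=
    isQuasicoherent_of_isInvertible _ (isInvertible_tensorPow hL n)
  obtain ⟨Φ, -⟩ := exists_iso_of_frames ((Scheme.Modules.pullback f).obj (CohB1.tensorPow L n))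
    (CohB1.tensorPow ((Scheme.Modules.pullback f).obj L) n)
    (fun p : AFr L => f ⁻¹ᵁ p.1.1)
    (fun x => by
      obtain ⟨W, e, hxW, hW, he⟩ := exists_affine_gen L hL (f x)
      exact ⟨⟨⟨W, e⟩, hW, he⟩, hxW⟩)
    (fun p => unitSec f (CohB1.tensorPow L n) le_rfl (pw L p.1.1 p.1.2 n))
    (fun p => pw ((Scheme.Modules.pullback f).obj L) (f ⁻¹ᵁ p.1.1) (unitSec f L le_rfl p.1.2) n)
    (fun p => isGen_unitSec f _ p.2.1 _ (isGen_pw L _ _ p.2.2 n))
    (fun p => isGen_pw _ _ _ (isGen_unitSec f L p.2.1 _ p.2.2) n)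
    (fun p q => by
      obtain ⟨γ, hγ⟩ := exists_transition' p.1.2 q.2.2
      refine cocycle_of_transition (isGen_unitSec f _ q.2.1 _ (isGen_pw L _ _ q.2.2 n))
        ((f.appLE _ _ (preimage_inf_le f p.1.1 q.1.1) γ) ^ n) ?_ ?_
      · rw [← map_pow]
        refine res_unitSec_of_transition f _ _ _ _ ?_
        rw [res_pw, res_pw, hγ, pw_smul]
      · rw [res_pw, res_pw, res_unitSec_of_transition f L _ _ γ hγ, pw_smul])
  exact ⟨Φ⟩

/-- `f^*(M ⊗ N) ≅ f^* M ⊗ f^* N` for invertible modules -/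
theorem nonempty_pullback_tensorMod_iso (M N : Y.Modules) (hM : PicF.IsInvertible M) (hN : PicF.IsInvertible N) :
    Nonempty ((Scheme.Modules.pullback f).obj (CohB1.tensorMod M N) ≅
      CohB1.tensorMod ((Scheme.Modules.pullback f).obj M) ((Scheme.Modules.pullback f).obj N)) := by
  haveI : M.IsQuasicoherent := isQuasicoherent_of_isInvertible M hM
  haveI : N.IsQuasicoherent := isQuasicoherent_of_isInvertible N hN
  haveI : (CohB1.tensorMod M N).IsQuasicoherent :=
    isQuasicoherent_of_isInvertible _ (isInvertible_tensorMod hM hN)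
  -- common affine frames
  let J : Type u := {p : Σ W : Y.Opens, Γ(M, W) × Γ(N, W) // IsAffineOpen p.1 ∧ IsGen M p.1 p.2.1 ∧ IsGen N p.1 p.2.2}
  obtain ⟨Φ, -⟩ := exists_iso_of_frames ((Scheme.Modules.pullback f).obj (CohB1.tensorMod M N))
    (CohB1.tensorMod ((Scheme.Modules.pullback f).obj M) ((Scheme.Modules.pullback f).obj N))
    (fun p : J => f ⁻¹ᵁ p.1.1)
    (fun x => by
      obtain ⟨W₁, e₁, hxW₁, he₁⟩ := exists_gen M hM (f x)
      obtain ⟨W₂, e₂, hxW₂, he₂⟩ := exists_gen N hN (f x)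
      obtain ⟨W, hW, hxW, hWle⟩ := exists_isAffineOpen_mem_and_subset (X := Y) (x := f x) (U := W₁ ⊓ W₂)
        ⟨hxW₁, hxW₂⟩
      exact ⟨⟨⟨W, res M (hWle.trans inf_le_left) e₁, res N (hWle.trans inf_le_right) e₂⟩, hW,
        he₁.mono _, he₂.mono _⟩, hxW⟩)
    (fun p => unitSec f (CohB1.tensorMod M N) le_rfl (tm M N p.1.1 p.1.2.1 p.1.2.2))
    (fun p => tm _ _ (f ⁻¹ᵁ p.1.1) (unitSec f M le_rfl p.1.2.1) (unitSec f N le_rfl p.1.2.2))
    (fun p => isGen_unitSec f _ p.2.1 _ (isGen_tm M N _ _ _ p.2.2.1 p.2.2.2))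
    (fun p => isGen_tm _ _ _ _ _ (isGen_unitSec f M p.2.1 _ p.2.2.1) (isGen_unitSec f N p.2.1 _ p.2.2.2))
    (fun p q => by
      obtain ⟨γ, hγ⟩ := exists_transition' p.1.2.1 q.2.2.1
      obtain ⟨γ', hγ'⟩ := exists_transition' p.1.2.2 q.2.2.2
      refine cocycle_of_transition (isGen_unitSec f _ q.2.1 _ (isGen_tm M N _ _ _ q.2.2.1 q.2.2.2))
        (f.appLE _ _ (preimage_inf_le f p.1.1 q.1.1) γ * f.appLE _ _ (preimage_inf_le f p.1.1 q.1.1) γ') ?_ ?_
      · rw [← map_mul]
        refine res_unitSec_of_transition f _ _ _ _ ?_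
        rw [res_tm, res_tm, hγ, hγ', tm_smul_smul]
      · rw [res_tm, res_tm, res_unitSec_of_transition f M _ _ γ hγ, res_unitSec_of_transition f N _ _ γ' hγ',
          tm_smul_smul])
  exact ⟨Φ⟩

end Groth.Agent.Lib.Helper23.PB

namespace Groth.Agent.Lib.Helper23.PB
open Groth.Agent.Lib.Helper23.GenLocus Groth.Agent.Lib.Helper6 Groth.Agent.Lib.Helper23.AmpleIso
open Groth.Agent.Lib.Helper23.Extend Groth.Agent.Lib.Helper23.SecTw
open Groth.Agent.Helper13PullbackUnit

variable {X Y : Scheme.{u}} (f : X ⟶ Y)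

/-- pullback of a section of a tensor power of an invertible module -/
theorem exists_pullback_section (L : Y.Modules) (hL : PicF.IsInvertible L) (n : ℕ)
    (s : Coh.structureModule Y ⟶ CohB1.tensorPow L n) :
    ∃ s' : Coh.structureModule X ⟶ CohB1.tensorPow ((Scheme.Modules.pullback f).obj L) n,
      CohB1.genLocus _ s' = f ⁻¹ᵁ CohB1.genLocus _ s := by
  obtain ⟨Φ⟩ := nonempty_pullback_tensorPow_iso f L hL n
  refine ⟨((pullbackUnitIso f).symm.hom ≫ (Scheme.Modules.pullback f).map s) ≫ Φ.hom, ?_⟩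
  rw [genLocus_comp_iso]
  exact genLocus_pullback f _ (isInvertible_tensorPow hL n) s (pullbackUnitIso f).symm

/-- a criterion for ampleness of a pullback -/
theorem isAmple_pullback_of [CompactSpace X] (L : Y.Modules) (hL : PicF.IsInvertible L)
    (h : ∀ x : X, ∃ (n : ℕ) (s : Coh.structureModule Y ⟶ CohB1.tensorPow L (n + 1)),
      f x ∈ CohB1.genLocus _ s ∧ IsAffineOpen (f ⁻¹ᵁ CohB1.genLocus _ s)) :
    CohB1.IsAmple ((Scheme.Modules.pullback f).obj L) := by
  refine ⟨isInvertible_pullback f L hL, inferInstance, fun x => ?_⟩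
  obtain ⟨n, s, hxs, haff⟩ := h x
  obtain ⟨s', hs'⟩ := exists_pullback_section f L hL (n + 1) s
  refine ⟨n, s', ?_, ?_⟩
  · rw [hs']; exact hxs
  · rw [hs']; exact haff

/-- the pullback of an ample module along an affine morphism is ample -/
theorem isAmple_pullback_of_isAffineHom [IsAffineHom f] (L : Y.Modules) (hL : CohB1.IsAmple L) :
    CohB1.IsAmple ((Scheme.Modules.pullback f).obj L) := by
  haveI : CompactSpace Y := hL.2.1
  haveI : CompactSpace X := by
    have h1 : IsCompact (f ⁻¹' (Set.univ : Set Y)) :=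
      QuasiCompact.isCompact_preimage (f := f) _ isOpen_univ isCompact_univ
    rw [Set.preimage_univ] at h1
    exact isCompact_univ_iff.1 h1
  refine isAmple_pullback_of f L hL.1 (fun x => ?_)
  obtain ⟨n, s, hxs, haff⟩ := hL.2.2 (f x)
  exact ⟨n, s, hxs, haff.preimage f⟩

/-- the pullback of an ample module along a topological embedding with quasi-compact source is ample -/
theorem isAmple_pullback_of_isEmbedding [CompactSpace X] (hf : Topology.IsEmbedding f) (L : Y.Modules)
    (hL : CohB1.IsAmple L) : CohB1.IsAmple ((Scheme.Modules.pullback f).obj L) := by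
  refine isAmple_pullback_of f L hL.1 (fun x => ?_)
  obtain ⟨A, hA, hxA, -⟩ := exists_isAffineOpen_mem_and_subset (X := X) (x := x) (U := ⊤) trivial
  obtain ⟨B, hB, hBA⟩ := hf.isInducing.isOpen_iff.1 A.isOpen
  obtain ⟨n, s, hxs, hsB, haff⟩ := exists_genLocus_nhd_of_isAmple L hL ⟨B, hB⟩ (f x) (by
    have : x ∈ f ⁻¹' B := by rw [hBA]; exact hxA
    exact this)
  refine ⟨n, s, hxs, ?_⟩
  obtain ⟨s', hs'⟩ := exists_pullback_section f L hL.1 (n + 1) s
  have hle : f ⁻¹ᵁ CohB1.genLocus _ s ≤ A := by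
    intro z hz
    have h1 : z ∈ f ⁻¹' B := hsB hz
    rw [hBA] at h1
    exact h1
  have h2 := isAffineOpen_inf_genLocus _ (isInvertible_tensorPow (isInvertible_pullback f L hL.1) (n + 1)) s' A hA
  rw [hs', inf_eq_right.2 hle] at h2
  exact h2

end Groth.Agent.Lib.Helper23.PB

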