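import Groth.Agent.Lib.Helper27TwistGen2
import Groth.Agent.Lib.Helper2QCoh
import Groth.Prelude.Def_ProjUP

/-!
# `O(n)` when `Proj` is covered by `D₊(G)`, `G` of degree `n > 0`: invertible, generated by global
sections, ample (helper27)
-/

set_option autoImplicit false
universe u

open CategoryTheory CategoryTheory.Limits AlgebraicGeometry TopologicalSpace Opposite
  HomogeneousLocalization
open Groth.Agent.Lib.Helper23.SecTw Groth.Agent.Lib.Helper6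

namespace Groth.Agent.Lib.Helper27GrTildeSect

variable {R A : Type u} [CommRing R] [CommRing A] [Algebra R A] (𝒜 : ℕ → Submodule R A)
  [GradedAlgebra 𝒜]

theorem one_not_mem (y : ProjectiveSpectrum 𝒜) : (1 : A) ∉ y.asHomogeneousIdeal := fun h =>
  y.isPrime.ne_top ((Ideal.eq_top_iff_one _).mpr h)

/-- the section `b / 1` of `O(n)` over `W`, for `b` of degree `n`. -/
noncomputable def gsec (n : ℕ) (W : (Proj 𝒜).Opens) {b : A} (hb : b ∈ 𝒜 n) :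
    Γ(GrTilde.tilde 𝒜 𝒜 (n : ℤ), W) :=
  fracSec 𝒜 (n : ℤ) W hb (SetLike.GradedOne.one_mem : (1 : A) ∈ 𝒜 0) (by simp)
    (fun y => one_not_mem 𝒜 y.1)

theorem gsec_top_eq_globalOf (n : ℕ) (b : 𝒜 n) :
    gsec 𝒜 n ⊤ b.2 = (Twist.globalOf 𝒜 b : ProjUP.Γm (Twist.twist 𝒜 (n : ℤ))) := rfl

theorem res_gsec (n : ℕ) {V W : (Proj 𝒜).Opens} (h : V ≤ W) {b : A} (hb : b ∈ 𝒜 n) :
    res (GrTilde.tilde 𝒜 𝒜 (n : ℤ)) h (gsec 𝒜 n W hb) = gsec 𝒜 n V hb := rfl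

theorem isGen_gsec (n : ℕ) {G : A} (hG : G ∈ 𝒜 n) :
    IsGen (GrTilde.tilde 𝒜 𝒜 (n : ℤ)) (Proj.basicOpen 𝒜 G) (gsec 𝒜 n (Proj.basicOpen 𝒜 G) hG) :=
  isGen_fracSec 𝒜 (n : ℤ) _ hG _ _ _
    (fun y => (ProjectiveSpectrum.mem_basicOpen 𝒜 G y.1).mp y.2)

variable {ι : Type*} (n : ℕ) (G : ι → A) (hG : ∀ i, G i ∈ 𝒜 n)
  (hcov : ∀ y : Proj 𝒜, ∃ i, G i ∉ (show ProjectiveSpectrum 𝒜 from y).asHomogeneousIdeal)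

include hG hcov in
theorem isInvertible_of_cover : PicF.IsInvertible (GrTilde.tilde 𝒜 𝒜 (n : ℤ)) := by
  apply isInvertible_of_isGen
  intro y
  obtain ⟨i, hi⟩ := hcov y
  exact ⟨Proj.basicOpen 𝒜 (G i), gsec 𝒜 n _ (hG i),
    (ProjectiveSpectrum.mem_basicOpen 𝒜 (G i) y).mpr hi, isGen_gsec 𝒜 n (hG i)⟩

include hG hcov in
theorem generatedBy_of_cover :
    ProjUP.GeneratedBy (GrTilde.tilde 𝒜 𝒜 (n : ℤ))
      (fun b : 𝒜 n => (gsec 𝒜 n ⊤ b.2 : ProjUP.Γm (GrTilde.tilde 𝒜 𝒜 (n : ℤ)))) := by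
  intro x
  rw [eq_top_iff]
  intro z _
  obtain ⟨i, hi⟩ := hcov x
  obtain ⟨V, hxV, t, rfl⟩ := (GrTilde.tilde 𝒜 𝒜 (n : ℤ)).presheaf.exists_germ_eq z
  have hxW : x ∈ Proj.basicOpen 𝒜 (G i) := (ProjectiveSpectrum.mem_basicOpen 𝒜 (G i) x).mpr hi
  have hxV' : x ∈ V ⊓ Proj.basicOpen 𝒜 (G i) := ⟨hxV, hxW⟩
  obtain ⟨r, hr⟩ := (isGen_gsec 𝒜 n (hG i) (V ⊓ Proj.basicOpen 𝒜 (G i)) inf_le_right).2
    (res (GrTilde.tilde 𝒜 𝒜 (n : ℤ)) inf_le_left t)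
  have hr' : r • res (GrTilde.tilde 𝒜 𝒜 (n : ℤ)) (le_top : V ⊓ Proj.basicOpen 𝒜 (G i) ≤ ⊤)
      (gsec 𝒜 n ⊤ (hG i)) = res (GrTilde.tilde 𝒜 𝒜 (n : ℤ)) inf_le_left t := hr
  have h1 : (GrTilde.tilde 𝒜 𝒜 (n : ℤ)).presheaf.germ V x hxV t =
      (GrTilde.tilde 𝒜 𝒜 (n : ℤ)).presheaf.germ (V ⊓ Proj.basicOpen 𝒜 (G i)) x hxV'
        (res (GrTilde.tilde 𝒜 𝒜 (n : ℤ)) inf_le_left t) :=
    (TopCat.Presheaf.germ_res_apply (GrTilde.tilde 𝒜 𝒜 (n : ℤ)).presheaf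
      (homOfLE (inf_le_left : V ⊓ Proj.basicOpen 𝒜 (G i) ≤ V)) x hxV' t).symm
  have h2 : (GrTilde.tilde 𝒜 𝒜 (n : ℤ)).presheaf.germ (V ⊓ Proj.basicOpen 𝒜 (G i)) x hxV'
      (res (GrTilde.tilde 𝒜 𝒜 (n : ℤ)) (le_top : V ⊓ Proj.basicOpen 𝒜 (G i) ≤ ⊤)
        (gsec 𝒜 n ⊤ (hG i))) =
      (GrTilde.tilde 𝒜 𝒜 (n : ℤ)).presheaf.germ ⊤ x trivial (gsec 𝒜 n ⊤ (hG i)) :=
    TopCat.Presheaf.germ_res_apply (GrTilde.tilde 𝒜 𝒜 (n : ℤ)).presheaf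
      (homOfLE (le_top : V ⊓ Proj.basicOpen 𝒜 (G i) ≤ ⊤)) x hxV' _
  rw [h1, ← hr', Groth.Agent.Lib.Helper2.QCoh.germ_smul, h2]
  exact Submodule.smul_mem _ _ (Submodule.subset_span ⟨⟨G i, hG i⟩, rfl⟩)

end Groth.Agent.Lib.Helper27GrTildeSect
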