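import Groth.Agent.Lib.Helper13ProjUPa
import Groth.Agent.Lib.Helper13SymGr
import Groth.Agent.Lib.Helper23PB
import Groth.Agent.Lib.Helper23SecTw10
import Groth.Agent.Lib.Helper27TwistAmple
import Groth.Agent.Lib.Helper27GrTildeQCoh

/-!
# helper13: the universal property of `Proj` of a graded symmetric algebra, existence part

`exists_mem_genLocus` : generating global sections of an invertible module have generating loci covering `X`.
For `ι : M →ₗ[R] A` a symmetric algebra with `ι m ∈ 𝒜 1`, `q : X ⟶ Spec R`, `L` invertible on `X` and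
`v : M →+ Γ(X, L)` semilinear and generating:
`XL`, `eL`, `cf` (coefficients `v m' = cf m m' • v m` on `XL m`), `exists_mor` (the morphism `r : X ⟶ Proj 𝒜`),
`pcoord`, `isGen_pcoord`, `unitSec_gsec` (pulled back coordinates), `exists_mor_iso` (with `r^* O(1) ≅ L`).
-/

set_option autoImplicit false
set_option linter.unusedSectionVars false
universe u

open CategoryTheory CategoryTheory.Limits AlgebraicGeometry TopologicalSpace Opposite
  HomogeneousLocalization

namespace Groth.Agent.Helper13ProjUP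

open Groth.Agent.Lib.Helper27GrTildeSect Groth.Agent.Helper13GrTildeFrac
  Groth.Agent.Helper13Dehom Groth.Agent.Helper13AffMor Groth.Agent.Helper13SymGr
open Groth.Agent.Lib.Helper23.SecTw Groth.Agent.Lib.Helper6 Groth.Agent.Lib.Helper23.GenLocus
open Groth.Agent.Lib.Helper23.PB Groth.Agent.Helper13PullbackUnit Groth.Agent.Lib.Helper23.Extend

section gen
variable {X : Scheme.{u}}

/-- if global sections generate an invertible module, their generating loci cover -/
theorem exists_mem_genLocus (L : X.Modules) (hL : PicF.IsInvertible L) {ι : Type*} (s : ι → ProjUP.Γm L)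
    (hs : ProjUP.GeneratedBy L s) (x : X) : ∃ i, x ∈ CohB1.genLocus L (secHom L (s i)) := by
  obtain ⟨W, e, hxW, he⟩ := exists_gen L hL x
  -- coefficients
  have hc : ∀ i, sv (secHom L (s i)) W = coef he le_rfl (res L le_top (s i)) • e := by
    intro i
    rw [sv_secHom]
    have := coef_spec he le_rfl (res L le_top (s i))
    rw [res_self] at this
    exact this.symm
  by_contra hcon
  push_neg at hcon
  have hnu : ∀ i, ¬ IsUnit (X.presheaf.germ W x hxW (coef he le_rfl (res L le_top (s i)))) := by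
    intro i hu
    apply hcon i
    have h1 := genLocus_inf_eq_of_isGen L (secHom L (s i)) W e _ he (hc i)
    have h2 : x ∈ X.basicOpen (coef he le_rfl (res L le_top (s i))) :=
      (Scheme.mem_basicOpen X _ x hxW).2 hu
    rw [← h1] at h2
    exact h2.1
  set ε := L.presheaf.germ W x hxW e with hε
  -- the span lies in 𝔪 • ε
  have hspan : ∀ z ∈ Submodule.span (X.presheaf.stalk x)
      (Set.range fun i => (L.presheaf.germ ⊤ x trivial).hom (s i)),
      ∃ t ∈ IsLocalRing.maximalIdeal (X.presheaf.stalk x), z = t • ε := by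
    intro z hz
    induction hz using Submodule.span_induction with
    | mem z hz =>
      obtain ⟨i, rfl⟩ := hz
      refine ⟨X.presheaf.germ W x hxW (coef he le_rfl (res L le_top (s i))), ?_, ?_⟩
      · exact (IsLocalRing.mem_maximalIdeal _).2 (hnu i)
      · have h1 : (L.presheaf.germ ⊤ x trivial).hom (s i) =
            L.presheaf.germ W x hxW (res L le_top (s i)) :=
          (TopCat.Presheaf.germ_res_apply L.presheaf (homOfLE (le_top : W ≤ ⊤)) x hxW (s i)).symm
        have h2 := coef_spec he le_rfl (res L le_top (s i))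
        rw [res_self] at h2
        change (L.presheaf.germ ⊤ x trivial).hom (s i) = _
        rw [h1, ← Groth.Agent.Lib.Helper2.QCoh.germ_smul, h2]
    | zero => exact ⟨0, zero_mem _, (zero_smul _ _).symm⟩
    | add a b _ _ ha hb =>
      obtain ⟨t, ht, rfl⟩ := ha
      obtain ⟨t', ht', rfl⟩ := hb
      exact ⟨t + t', add_mem ht ht', (add_smul _ _ _).symm⟩
    | smul c a _ ha =>
      obtain ⟨t, ht, rfl⟩ := ha
      exact ⟨c * t, Ideal.mul_mem_left _ _ ht, (mul_smul _ _ _).symm⟩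
  obtain ⟨t, ht, hεt⟩ := hspan ε (by rw [hs x]; trivial)
  -- ε = 0
  have hε0 : ε = 0 := by
    have h1 : (1 - t) • ε = 0 := by rw [sub_smul, one_smul, ← hεt, sub_self]
    have hu : IsUnit (1 - t) := by
      by_contra hnu'
      have h2 : (1 - t) ∈ IsLocalRing.maximalIdeal (X.presheaf.stalk x) :=
        (IsLocalRing.mem_maximalIdeal _).2 hnu'
      have h3 : (1 : X.presheaf.stalk x) ∈ IsLocalRing.maximalIdeal (X.presheaf.stalk x) := by
        have := add_mem h2 ht
        rwa [sub_add_cancel] at this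
      exact (IsLocalRing.maximalIdeal.isMaximal _).ne_top ((Ideal.eq_top_iff_one _).2 h3)
    exact Groth.Agent.Lib.Helper2.QCoh.germ_smul_eq_zero_of_isUnit hu h1
  -- contradiction
  have h0 : L.presheaf.germ W x hxW e = L.presheaf.germ W x hxW 0 := by
    rw [map_zero]; exact hε0
  obtain ⟨W', hxW', i₁, i₂, hW'⟩ := TopCat.Presheaf.germ_eq L.presheaf x hxW hxW e 0 h0
  have hle : W' ≤ W := i₁.le
  have h3 : res L hle e = 0 := by
    have : L.presheaf.map i₁.op e = L.presheaf.map i₂.op 0 := hW'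
    rw [map_zero] at this
    exact this
  have h4 : (1 : Γ(X, W')) = 0 := by
    apply (he W' hle).1
    change (1 : Γ(X, W')) • res L hle e = (0 : Γ(X, W')) • res L hle e
    rw [h3, smul_zero, smul_zero]
  have h5 := congrArg (X.presheaf.germ W' x hxW') h4
  rw [map_one, map_zero] at h5
  exact one_ne_zero h5

end gen

variable {R A : Type u} [CommRing R] [CommRing A] [Algebra R A] (𝒜 : ℕ → Submodule R A)
  [GradedAlgebra 𝒜]

/-- `O(1)` on `Proj 𝒜` -/
noncomputable abbrev O1 : (Proj 𝒜).Modules := GrTilde.tilde 𝒜 𝒜 ((1 : ℕ) : ℤ)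

section pull
variable {𝒜}
variable {X : Scheme.{u}} (r : X ⟶ Proj 𝒜)

/-- the pulled back coordinate `r^* f` on an open `V ≤ r⁻¹ D₊(f)` -/
noncomputable def pcoord {f : A} (hf : f ∈ 𝒜 1) {V : X.Opens} (hV : V ≤ r ⁻¹ᵁ Proj.basicOpen 𝒜 f) :
    Γ((Scheme.Modules.pullback r).obj (O1 𝒜), V) :=
  unitSec r (O1 𝒜) hV (gsec 𝒜 1 (Proj.basicOpen 𝒜 f) hf)

theorem isGen_pcoord {f : A} (hf : f ∈ 𝒜 1) {V : X.Opens} (hV : V ≤ r ⁻¹ᵁ Proj.basicOpen 𝒜 f) :
    IsGen ((Scheme.Modules.pullback r).obj (O1 𝒜)) V (pcoord r hf hV) := by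
  haveI : (O1 𝒜).IsQuasicoherent := isQuasicoherent_tilde 𝒜 𝒜 _
  have h1 := isGen_unitSec r (O1 𝒜) (isAffineOpen_basicOpen hf) _ (isGen_gsec 𝒜 1 hf)
  have h2 := h1.mono hV
  rw [res_unitSec r (O1 𝒜) le_rfl hV le_rfl hV, res_self] at h2
  exact h2

theorem res_pcoord {f : A} (hf : f ∈ 𝒜 1) {V V' : X.Opens} (hV : V ≤ r ⁻¹ᵁ Proj.basicOpen 𝒜 f)
    (h : V' ≤ V) :
    res ((Scheme.Modules.pullback r).obj (O1 𝒜)) h (pcoord r hf hV) = pcoord r hf (h.trans hV) := by
  unfold pcoord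
  rw [res_unitSec r (O1 𝒜) hV (h.trans hV) le_rfl h]
  rfl

/-- the pullback of the section `f'` of `O(1)`, on an open `V ≤ r⁻¹ D₊(f)`, in terms of the generator `r^* f` -/
theorem unitSec_gsec {f f' : A} (hf : f ∈ 𝒜 1) (hf' : f' ∈ 𝒜 1) {V : X.Opens}
    (hV : V ≤ r ⁻¹ᵁ Proj.basicOpen 𝒜 f) {U : (Proj 𝒜).Opens} (hVU : V ≤ r ⁻¹ᵁ U) :
    unitSec r (O1 𝒜) hVU (gsec 𝒜 1 U hf') =
      (r.appLE (Proj.basicOpen 𝒜 f) V hV).hom (dehom hf f') • pcoord r hf hV := by
  have hVW : V ≤ r ⁻¹ᵁ (U ⊓ Proj.basicOpen 𝒜 f) := fun x hx => ⟨hVU hx, hV hx⟩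
  have h1 := res_unitSec r (O1 𝒜) hVU hVW inf_le_left le_rfl (gsec 𝒜 1 U hf')
  rw [res_self] at h1
  have h2 := res_unitSec r (O1 𝒜) hV hVW inf_le_right le_rfl (gsec 𝒜 1 (Proj.basicOpen 𝒜 f) hf)
  rw [res_self] at h2
  rw [h1, res_gsec, gsec_eq_smul hf hf' inf_le_right, unitSec_smul]
  unfold pcoord
  rw [h2, res_gsec]
  congr 1
  have h3 := r.map_appLE hVW (homOfLE (inf_le_right : U ⊓ Proj.basicOpen 𝒜 f ≤ Proj.basicOpen 𝒜 f)).op
  have h4 := congrArg (fun φ => φ.hom (dehom hf f')) h3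
  exact h4

end pull

variable {M : Type u} [AddCommGroup M] [Module R M] (ι : M →ₗ[R] A)
variable {X : Scheme.{u}} (q : X ⟶ Spec (CommRingCat.of R)) (L : X.Modules)
  (v : M →+ ProjUP.Γm L)

theorem res_add' (F : X.Modules) {U V : X.Opens} (h : V ≤ U) (s t : Γ(F, U)) :
    res F h (s + t) = res F h s + res F h t := map_add _ _ _

/-- the locus where `v m` generates `L` -/
noncomputable def XL (m : M) : X.Opens := CohB1.genLocus L (secHom L (v m))

/-- `v m` restricted to `XL m` -/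
noncomputable def eL (m : M) : Γ(L, XL L v m) := res L le_top (v m)

theorem isGen_eL (m : M) : IsGen L (XL L v m) (eL L v m) := by
  have := isGen_sv_genLocus L (secHom L (v m))
  rw [sv_secHom] at this
  exact this

/-- the coefficient of `v m'` with respect to the generator `v m` on `XL m` -/
noncomputable def cf (m m' : M) : Γ(X, XL L v m) :=
  coef (isGen_eL L v m) le_rfl (res L le_top (v m'))

theorem cf_spec (m m' : M) : cf L v m m' • eL L v m = res L le_top (v m') := by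
  have := coef_spec (isGen_eL L v m) le_rfl (res L le_top (v m'))
  rw [res_self] at this
  exact this

theorem cf_self (m : M) : cf L v m m = 1 := by
  symm
  apply coef_unique
  rw [one_smul, res_self]
  rfl

/-- `R → Γ(X, XL m)` -/
noncomputable def ρL (m : M) : R →+* Γ(X, XL L v m) :=
  (X.presheaf.map (homOfLE (le_top : XL L v m ≤ ⊤)).op).hom.comp (ProjUP.toGlobal q)

theorem cf_add (m m₁ m₂ : M) : cf L v m (m₁ + m₂) = cf L v m m₁ + cf L v m m₂ := by
  unfold cf
  rw [map_add, res_add', coef_add]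

theorem cf_smul (hv : ∀ (c : R) (m : M), v (c • m) = ProjUP.toGlobal q c • v m) (m : M) (c : R) (m' : M) :
    cf L v m (c • m') = ρL q L v m c * cf L v m m' := by
  unfold cf
  rw [hv]
  have h1 : res L (le_top : XL L v m ≤ ⊤) (ProjUP.toGlobal q c • v m') =
      ρL q L v m c • res L le_top (v m') := res_smul L le_top _ _
  rw [h1, coef_smul]

theorem res_eL {m : M} {W : X.Opens} (h : W ≤ XL L v m) : res L h (eL L v m) = res L le_top (v m) := by
  unfold eL
  rw [res_res]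

theorem cf_trans (m m' m'' : M) :
    resf (inf_le_right : XL L v m ⊓ XL L v m' ≤ XL L v m') (cf L v m' m'') =
      resf inf_le_right (cf L v m' m) * resf inf_le_left (cf L v m m'') := by
  apply (isGen_eL L v m' _ inf_le_right).1
  change resf inf_le_right (cf L v m' m'') • res L inf_le_right (eL L v m') =
    (resf inf_le_right (cf L v m' m) * resf inf_le_left (cf L v m m'')) • res L inf_le_right (eL L v m')
  rw [← res_smul, cf_spec, res_res, mul_comm, mul_smul, ← res_smul, cf_spec, res_res,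
    ← res_eL L v (inf_le_left : XL L v m ⊓ XL L v m' ≤ XL L v m), ← res_smul, cf_spec, res_res]

theorem cf_inv (m m' : M) :
    resf (inf_le_left : XL L v m ⊓ XL L v m' ≤ XL L v m) (cf L v m m') *
      resf inf_le_right (cf L v m' m) = 1 := by
  have h := cf_trans L v m m' m'
  rw [cf_self] at h
  have h1 : resf (inf_le_right : XL L v m ⊓ XL L v m' ≤ XL L v m') (1 : Γ(X, XL L v m')) = 1 := map_one _
  rw [h1] at h
  rw [mul_comm]
  exact h.symm

theorem eq_toSpecΓ_SpecMap_toGlobal :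
    q = X.toSpecΓ ≫ Spec.map (CommRingCat.ofHom (ProjUP.toGlobal q)) := by
  have h1 : CommRingCat.ofHom (ProjUP.toGlobal q) =
      (Scheme.ΓSpecIso (CommRingCat.of R)).inv ≫ q.appTop := rfl
  rw [h1, Spec.map_comp, ← Scheme.toSpecΓ_naturality_assoc, toSpecΓ_SpecMap_ΓSpecIso_inv,
    Category.comp_id]

theorem hom_ext_opens {Z : Scheme.{u}} {κ : Type*} (V : κ → X.Opens) (hV : ∀ x : X, ∃ i, x ∈ V i)
    (a b : X ⟶ Z) (h : ∀ i, (V i).ι ≫ a = (V i).ι ≫ b) : a = b := by
  have hcov : IsOpenCover V := by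
    rw [IsOpenCover, eq_top_iff]
    intro x _
    obtain ⟨i, hi⟩ := hV x
    exact Opens.mem_iSup.2 ⟨i, hi⟩
  exact (X.openCoverOfIsOpenCover V hcov).hom_ext _ _ h

theorem exists_mor (hι : ∀ m, ι m ∈ 𝒜 1) (hsym : IsSymmetricAlgebra ι) (hL : PicF.IsInvertible L)
    (hv : ∀ (c : R) (m : M), v (c • m) = ProjUP.toGlobal q c • v m) (hgen : ProjUP.GeneratedBy L v) :
    ∃ (r : X ⟶ Proj 𝒜) (hle : ∀ m, XL L v m ≤ r ⁻¹ᵁ Proj.basicOpen 𝒜 (ι m)),
      r ≫ toBase 𝒜 = q ∧
      ∀ m m', (r.appLE (Proj.basicOpen 𝒜 (ι m)) (XL L v m) (hle m)).hom (dehom (hι m) (ι m')) =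
        cf L v m m' := by
  have hψ : ∀ m, ∃ ψ : A →+* Γ(X, XL L v m), (∀ c, ψ (algebraMap R A c) = ρL q L v m c) ∧
      ∀ m', ψ (ι m') = cf L v m m' :=
    fun m => exists_ringHom hsym (ρL q L v m)
      (AddMonoidHom.mk' (fun m' => cf L v m m') (cf_add L v m)) (fun c m' => cf_smul q L v hv m c m')
  choose ψ hψ0 hψ1 using hψ
  have hφ : ∀ m, ∃ φ : Γ(Proj 𝒜, Proj.basicOpen 𝒜 (ι m)) →+* Γ(X, XL L v m),
      ∀ a, φ (dehom (hι m) a) = ψ m a :=
    fun m => exists_dehomLift (hι m) (ψ m) (by rw [hψ1, cf_self])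
  choose φ hφ using hφ
  let rm : ∀ m, (XL L v m : Scheme.{u}) ⟶ Proj 𝒜 :=
    fun m => toAff (isAffineOpen_basicOpen (hι m)) (CommRingCat.ofHom (φ m))
  have hcov : ∀ x : X, ∃ m, x ∈ XL L v m := fun x => exists_mem_genLocus L hL v hgen x
  obtain ⟨r, hr⟩ := glue_opens (fun m => XL L v m) hcov rm (by
    intro m m'
    change X.homOfLE _ ≫ toAff _ _ = X.homOfLE _ ≫ toAff _ _
    rw [toAff_homOfLE, toAff_homOfLE]
    refine toAff_eq_toAff (hι m) (hι m') _ _ (resf inf_le_left (cf L v m m'))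
      (resf inf_le_right (cf L v m' m)) (cf_inv L v m m') ?_ ?_
    · change resf _ (φ m (dehom (hι m) (ι m'))) = _
      rw [hφ, hψ1]
    · intro d a ha
      change resf _ (φ m' (dehom (hι m') a)) = _ * resf _ (φ m (dehom (hι m) a))
      rw [hφ, hφ]
      refine homog_scale 𝒜 hsym hι
        ((X.presheaf.map (homOfLE (inf_le_left : XL L v m ⊓ XL L v m' ≤ XL L v m)).op).hom.comp (ψ m))
        ((X.presheaf.map (homOfLE (inf_le_right : XL L v m ⊓ XL L v m' ≤ XL L v m')).op).hom.comp (ψ m'))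
        _ ?_ ?_ ha
      · intro c
        change resf _ (ψ m' (algebraMap R A c)) = resf _ (ψ m (algebraMap R A c))
        rw [hψ0, hψ0]
        unfold ρL
        change resf _ (resf _ _) = resf _ (resf _ _)
        rw [resf_resf, resf_resf]
      · intro m''
        change resf _ (ψ m' (ι m'')) = _ * resf _ (ψ m (ι m''))
        rw [hψ1, hψ1]
        exact cf_trans L v m m' m'')
  have hle : ∀ m, XL L v m ≤ r ⁻¹ᵁ Proj.basicOpen 𝒜 (ι m) :=
    fun m => le_preimage_of_ι_comp_eq (isAffineOpen_basicOpen (hι m)) r _ (hr m)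
  refine ⟨r, hle, ?_, ?_⟩
  · refine hom_ext_opens (fun m => XL L v m) hcov _ _ (fun m => ?_)
    rw [← Category.assoc, hr m]
    change toAff _ _ ≫ _ = _
    unfold toAff
    rw [Category.assoc, Category.assoc, fromSpec_toBase, ← Spec.map_comp]
    conv_rhs => rw [eq_toSpecΓ_SpecMap_toGlobal q, ← Category.assoc,
      ← Scheme.Opens.toSpecΓ_SpecMap_presheaf_map_top, Category.assoc, ← Spec.map_comp]
    congr 2
    ext c
    change φ m (dehom (hι m) (algebraMap R A c)) = resf _ (ProjUP.toGlobal q c)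
    rw [hφ, hψ0]
    rfl
  · intro m m'
    have h1 := appLE_of_ι_comp_eq (isAffineOpen_basicOpen (hι m)) r _ (hr m)
    have h2 : r.appLE (Proj.basicOpen 𝒜 (ι m)) (XL L v m) (hle m) = CommRingCat.ofHom (φ m) := h1
    rw [h2]
    change φ m (dehom (hι m) (ι m')) = _
    rw [hφ, hψ1]

theorem sec_ext_cover (F : X.Modules) {κ : Type*} (V : κ → X.Opens) (hV : ∀ x : X, ∃ i, x ∈ V i)
    (s t : Γ(F, ⊤)) (h : ∀ i, res F le_top s = res F (le_top : V i ≤ ⊤) t) : s = t :=
  (modSheaf F).eq_of_locally_eq' V ⊤ (fun i => homOfLE le_top)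
    (fun x _ => by
      obtain ⟨i, hi⟩ := hV x
      exact Opens.mem_iSup.2 ⟨i, hi⟩) s t h

theorem exists_mor_iso (hι : ∀ m, ι m ∈ 𝒜 1) (hsym : IsSymmetricAlgebra ι) (hL : PicF.IsInvertible L)
    (hv : ∀ (c : R) (m : M), v (c • m) = ProjUP.toGlobal q c • v m) (hgen : ProjUP.GeneratedBy L v) :
    ∃ (r : X ⟶ Proj 𝒜) (_ : r ≫ toBase 𝒜 = q)
      (τ : (Scheme.Modules.pullback r).obj (O1 𝒜) ≅ L),
      ∀ m, τ.hom.app ⊤ (unitSec r (O1 𝒜) (le_top : (⊤ : X.Opens) ≤ r ⁻¹ᵁ ⊤) (gsec 𝒜 1 ⊤ (hι m))) = v m := by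
  obtain ⟨r, hle, hrq, hcf⟩ := exists_mor 𝒜 ι q L v hι hsym hL hv hgen
  have hcov : ∀ x : X, ∃ m, x ∈ XL L v m := fun x => exists_mem_genLocus L hL v hgen x
  set P := (Scheme.Modules.pullback r).obj (O1 𝒜) with hP
  obtain ⟨Φ, hΦ⟩ := exists_iso_of_frames P L (fun m => XL L v m) hcov
    (fun m => pcoord r (hι m) (hle m)) (fun m => eL L v m)
    (fun m => isGen_pcoord r (hι m) (hle m)) (fun m => isGen_eL L v m)
    (fun m m' => by
      refine cocycle_of_transition (isGen_pcoord r (hι m') (hle m'))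
        (resf inf_le_right (cf L v m' m)) ?_ ?_
      · rw [res_pcoord, res_pcoord]
        have h1 := unitSec_gsec r (hι m') (hι m)
          ((inf_le_right : XL L v m ⊓ XL L v m' ≤ XL L v m').trans (hle m'))
          ((inf_le_left : XL L v m ⊓ XL L v m' ≤ XL L v m).trans (hle m))
        change pcoord r (hι m) _ = _
        unfold pcoord at h1 ⊢
        rw [h1]
        congr 1
        rw [← hcf m' m]
        have h3 := r.appLE_map (hle m') (homOfLE (inf_le_right : XL L v m ⊓ XL L v m' ≤ XL L v m')).op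
        have h4 := congrArg (fun φ => φ.hom (dehom (hι m') (ι m))) h3
        exact h4.symm
      · rw [← res_smul, cf_spec, res_res, res_eL])
  refine ⟨r, hrq, Φ, fun m => ?_⟩
  refine sec_ext_cover L (fun m => XL L v m) hcov _ _ (fun m' => ?_)
  obtain ⟨σ, hσ⟩ : ∃ σ : Γ(P, ⊤), σ = unitSec r (O1 𝒜) (le_top : (⊤ : X.Opens) ≤ r ⁻¹ᵁ ⊤)
    (gsec 𝒜 1 ⊤ (hι m)) := ⟨_, rfl⟩
  rw [← hσ]
  have key : res L (le_top : XL L v m' ≤ ⊤) (Φ.hom.app ⊤ σ) =
      Φ.hom.app (XL L v m') (res P le_top σ) := (app_map Φ.hom (homOfLE le_top) σ).symm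
  change res L (le_top : XL L v m' ≤ ⊤) (Φ.hom.app ⊤ σ) = _
  rw [key]
  have h2 := res_unitSec r (O1 𝒜) (le_top : (⊤ : X.Opens) ≤ r ⁻¹ᵁ ⊤)
    (le_top : XL L v m' ≤ r ⁻¹ᵁ ⊤) le_rfl le_top (gsec 𝒜 1 ⊤ (hι m))
  rw [res_self] at h2
  have h2' : res P (le_top : XL L v m' ≤ ⊤) σ =
      cf L v m' m • pcoord r (hι m') (hle m') := by
    rw [hσ]
    change res ((Scheme.Modules.pullback r).obj (O1 𝒜)) _ _ = _
    rw [h2, unitSec_gsec r (hι m') (hι m) (hle m'), hcf]
  rw [h2']
  have h3 := hΦ m' (XL L v m') le_rfl (cf L v m' m)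
  rw [res_self, res_self] at h3
  rw [h3, cf_spec]

end Groth.Agent.Helper13ProjUP
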