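import Mathlib
import Groth.Agent.Lib.Helper23PB

/-!
# Pullback vs restriction; ampleness of pullbacks along quasi-affine morphisms (helper23)

* `pullbackRestrictIso f L U : (f^* L)|_{f⁻¹ U} ≅ (f|_U)^*(L|_U)`
* `quasiSeparatedSpace_of_opens_cover`
* `isAmple_pullback_of_quasiAffine` : `h : Z ⟶ T`, `Z` quasi-compact, preimages of affine opens quasi-affine, `M` ample ⇒ `h^* M` ample
-/

set_option autoImplicit false
universe u
open CategoryTheory CategoryTheory.Limits AlgebraicGeometry TopologicalSpace Opposite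

namespace Groth.Agent.Lib.Helper23.PB
open Groth.Agent.Lib.Helper23.GenLocus Groth.Agent.Lib.Helper6 Groth.Agent.Lib.Helper23.AmpleIso
open Groth.Agent.Lib.Helper23.Extend Groth.Agent.Lib.Helper23.SecTw
open Groth.Agent.Helper13PullbackUnit

variable {X Y : Scheme.{u}} (f : X ⟶ Y)

/-- pullback commutes with restriction to an open of the base: `(f^* L)|_{f⁻¹ U} ≅ (f|_U)^*(L|_U)` -/
noncomputable def pullbackRestrictIso (L : Y.Modules) (U : Y.Opens) :
    ((Scheme.Modules.pullback f).obj L).restrict (f ⁻¹ᵁ U).ι ≅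
      (Scheme.Modules.pullback (f ∣_ U)).obj (L.restrict U.ι) :=
  (Scheme.Modules.restrictFunctorIsoPullback (f ⁻¹ᵁ U).ι).app _ ≪≫
    (Scheme.Modules.pullbackComp (f ⁻¹ᵁ U).ι f).app L ≪≫
    (Scheme.Modules.pullbackCongr (morphismRestrict_ι f U).symm).app L ≪≫
    ((Scheme.Modules.pullbackComp (f ∣_ U) U.ι).app L).symm ≪≫
    (Scheme.Modules.pullback (f ∣_ U)).mapIso ((Scheme.Modules.restrictFunctorIsoPullback U.ι).app L).symm

end Groth.Agent.Lib.Helper23.PB

namespace Groth.Agent.Lib.Helper23.PB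
open Groth.Agent.Lib.Helper23.GenLocus Groth.Agent.Lib.Helper6 Groth.Agent.Lib.Helper23.AmpleIso
open Groth.Agent.Lib.Helper23.Extend Groth.Agent.Lib.Helper23.SecTw
open Groth.Agent.Helper13PullbackUnit

/-- a scheme covered by quasi-separated opens meeting every affine open in a quasi-compact set is quasi-separated -/
theorem quasiSeparatedSpace_of_opens_cover (Z : Scheme.{u})
    (h : ∀ z : Z, ∃ D : Z.Opens, z ∈ D ∧ QuasiSeparatedSpace ↥D ∧
      ∀ P : Z.affineOpens, IsCompact (((P : Z.Opens) ⊓ D : Z.Opens) : Set Z)) :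
    QuasiSeparatedSpace Z := by
  rw [quasiSeparatedSpace_iff_forall_affineOpens]
  intro P Q
  choose D hzD hqs hcomp using h
  obtain ⟨t, ht⟩ := P.2.isCompact.elim_finite_subcover (fun z : Z => ((D z : Z.Opens) : Set Z))
    (fun z => (D z).2) (fun z _ => Set.mem_iUnion.2 ⟨z, hzD z⟩)
  have hPQ : ((P : Z.Opens) : Set Z) ∩ ((Q : Z.Opens) : Set Z) = ⋃ z ∈ t,
      ((((P : Z.Opens) ⊓ D z : Z.Opens) : Set Z) ∩ (((Q : Z.Opens) ⊓ D z : Z.Opens) : Set Z)) := by
    ext y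
    simp only [Set.mem_inter_iff, SetLike.mem_coe, Set.mem_iUnion, Opens.coe_inf, exists_prop]
    constructor
    · rintro ⟨hP, hQ⟩
      obtain ⟨z, hzt, hyz⟩ := Set.mem_iUnion₂.1 (ht hP)
      exact ⟨z, hzt, ⟨hP, hyz⟩, ⟨hQ, hyz⟩⟩
    · rintro ⟨z, -, ⟨hP, -⟩, ⟨hQ, -⟩⟩
      exact ⟨hP, hQ⟩
  rw [hPQ]
  refine t.isCompact_biUnion (fun z _ => ?_)
  have hD : IsQuasiSeparated ((D z : Z.Opens) : Set Z) :=
    (isQuasiSeparated_iff_quasiSeparatedSpace _ (D z).2).2 (hqs z)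
  exact hD _ _ (fun y hy => hy.2) (Opens.isOpen _) (hcomp z P) (fun y hy => hy.2) (Opens.isOpen _) (hcomp z Q)

variable {Z T : Scheme.{u}} (h : Z ⟶ T)

/-- the pullback of an ample module along a morphism with quasi-compact source such that preimages of affine opens are
quasi-affine is ample -/
theorem isAmple_pullback_of_quasiAffine [CompactSpace Z] (M : T.Modules) (hM : CohB1.IsAmple M)
    (hqa : ∀ A : T.Opens, IsAffineOpen A → Scheme.IsQuasiAffine ((h ⁻¹ᵁ A : Z.Opens) : Scheme.{u})) :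
    CohB1.IsAmple ((Scheme.Modules.pullback h).obj M) := by
  have hinv := isInvertible_pullback h M hM.1
  have key : ∀ z : Z, ∃ (n : ℕ) (s' : Coh.structureModule Z ⟶ CohB1.tensorPow ((Scheme.Modules.pullback h).obj M) (n + 1)),
      z ∈ CohB1.genLocus _ s' ∧ Scheme.IsQuasiAffine ((CohB1.genLocus _ s' : Z.Opens) : Scheme.{u}) := by
    intro z
    obtain ⟨n, s, hzs, haff⟩ := hM.2.2 (h z)
    obtain ⟨s', hs'⟩ := exists_pullback_section h M hM.1 (n + 1) s
    refine ⟨n, s', ?_, ?_⟩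
    · rw [hs']; exact hzs
    · rw [hs']; exact hqa _ haff
  haveI : QuasiSeparatedSpace Z := by
    refine quasiSeparatedSpace_of_opens_cover Z (fun z => ?_)
    obtain ⟨n, s', hzs', hq⟩ := key z
    refine ⟨CohB1.genLocus _ s', hzs', ?_, fun P => ?_⟩
    · haveI := hq
      exact (inferInstance : QuasiSeparatedSpace ↥((CohB1.genLocus _ s' : Z.Opens) : Scheme.{u}))
    · exact (isAffineOpen_inf_genLocus _ (isInvertible_tensorPow hinv (n + 1)) s' _ P.2).isCompact
  refine ⟨hinv, inferInstance, fun z => ?_⟩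
  obtain ⟨n, s', hzs', hq⟩ := key z
  haveI := hq
  obtain ⟨r, hzr, -, hraff⟩ := exists_basicOpen_of_finite (X := ((CohB1.genLocus _ s' : Z.Opens) : Scheme.{u}))
    ⊤ {(⟨z, hzs'⟩ : ↥((CohB1.genLocus _ s' : Z.Opens) : Scheme.{u}))} (Set.finite_singleton _) (fun _ _ => trivial)
  obtain ⟨r', hr'⟩ : ∃ r' : Γ(Z, CohB1.genLocus _ s'), r' = (CohB1.genLocus _ s').topIso.hom r := ⟨_, rfl⟩
  obtain ⟨m, τ, hτ⟩ := exists_section_genLocus_eq_basicOpen _ (isInvertible_tensorPow hinv (n + 1)) s' r'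
  have himg : (CohB1.genLocus _ s').ι ''ᵁ
      (((CohB1.genLocus _ s' : Z.Opens) : Scheme.{u}).basicOpen r) = Z.basicOpen r' := by
    have h1 := Scheme.Opens.ι_image_basicOpen_topIso_inv (U := CohB1.genLocus _ s') r'
    rw [hr'] at h1
    have h2 : (CohB1.genLocus _ s').topIso.inv ((CohB1.genLocus _ s').topIso.hom r) = r := by
      rw [← CommRingCat.comp_apply, Iso.hom_inv_id]
      rfl
    rw [h2] at h1
    rw [hr']
    exact h1
  obtain ⟨N', hN'⟩ : ∃ N', (n + 1) * (m + 1) = N' + 1 := ⟨(n + 1) * (m + 1) - 1, by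
    have : 0 < (n + 1) * (m + 1) := Nat.mul_pos (Nat.succ_pos n) (Nat.succ_pos m)
    omega⟩
  obtain ⟨Φ⟩ := nonempty_tensorPow_tensorPow_iso _ hinv (n + 1) (m + 1) (N' + 1) hN'
  refine ⟨N', τ ≫ Φ.hom, ?_, ?_⟩
  · rw [genLocus_comp_iso, hτ, ← himg]
    exact ⟨⟨z, hzs'⟩, hzr rfl, rfl⟩
  · rw [genLocus_comp_iso, hτ, ← himg]
    exact hraff.image_of_isOpenImmersion _

end Groth.Agent.Lib.Helper23.PB

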