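import Mathlib
import Groth.Agent.Lib.Helper23PB2

/-!
# Base change of relatively ample modules: auxiliary results (helper23)

* `isAffineOpen_pullback_inf` : `p₁⁻¹ U ⊓ p₂⁻¹ V` is affine in `X ×_Z Y` for `U`, `V` affine mapping into an affine `W ⊆ Z`
* `pullbackRestrictIso'` : `(p^* L)|_{P'} ≅ j^*(L|_{X'})` for a commutative square with open immersions `P' ⟶ P`, `X' ⟶ X`
* `isAmple_restrict_pullback_of` : criterion for ampleness of `(p^* L)|_W` when `L|_U` is ample and `W ⊆ p⁻¹ U`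
-/

set_option autoImplicit false
universe u
open CategoryTheory CategoryTheory.Limits AlgebraicGeometry TopologicalSpace Opposite

namespace Groth.Agent.Lib.Helper23.PB
open Groth.Agent.Lib.Helper23.GenLocus Groth.Agent.Lib.Helper6 Groth.Agent.Lib.Helper23.AmpleIso
open Groth.Agent.Lib.Helper23.Extend Groth.Agent.Lib.Helper23.SecTw
open Groth.Agent.Helper13PullbackUnit

/-- affine opens of a fibre product -/
theorem isAffineOpen_pullback_inf {X Y Z : Scheme.{u}} {f : X ⟶ Z} {g : Y ⟶ Z}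
    {U : X.Opens} (hU : IsAffineOpen U) {V : Y.Opens} (hV : IsAffineOpen V)
    {W : Z.Opens} (hW : IsAffineOpen W) (hUW : U ≤ f ⁻¹ᵁ W) (hVW : V ≤ g ⁻¹ᵁ W) :
    IsAffineOpen (pullback.fst f g ⁻¹ᵁ U ⊓ pullback.snd f g ⁻¹ᵁ V) := by
  haveI : IsAffine U.toScheme := hU
  haveI : IsAffine W.toScheme := hW
  haveI : IsAffine V.toScheme := hV
  let f' : U.toScheme ⟶ W := f.resLE _ _ hUW
  let q : V.toScheme ⟶ W := g.resLE _ _ hVW
  let p : pullback f' q ⟶ pullback f g :=
    pullback.map _ _ _ _ U.ι V.ι W.ι (by simp [f']) (by simp [q])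
  have h1 : IsAffineOpen p.opensRange := isAffineOpen_opensRange p
  have h2 : p.opensRange = pullback.fst f g ⁻¹ᵁ U ⊓ pullback.snd f g ⁻¹ᵁ V := by
    ext z
    simp [p, Scheme.Pullback.range_map]
  rwa [h2] at h1

variable {P X : Scheme.{u}} (p : P ⟶ X)

/-- pullback followed by restriction, for a commutative square whose vertical maps are open immersions -/
noncomputable def pullbackRestrictIso' (L : X.Modules) {P' X' : Scheme.{u}} (i : P' ⟶ P) (k : X' ⟶ X)
    [IsOpenImmersion i] [IsOpenImmersion k] (j : P' ⟶ X') (w : j ≫ k = i ≫ p) :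
    ((Scheme.Modules.pullback p).obj L).restrict i ≅ (Scheme.Modules.pullback j).obj (L.restrict k) :=
  (Scheme.Modules.restrictFunctorIsoPullback i).app _ ≪≫
    (Scheme.Modules.pullbackComp i p).app L ≪≫
    (Scheme.Modules.pullbackCongr w.symm).app L ≪≫
    ((Scheme.Modules.pullbackComp j k).app L).symm ≪≫
    (Scheme.Modules.pullback j).mapIso ((Scheme.Modules.restrictFunctorIsoPullback k).app L).symm

theorem isAmple_restrict_pullback_of (L : X.Modules) (U : X.Opens) (hLU : CohB1.IsAmple (L.restrict U.ι))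
    (W : P.Opens) (hWc : IsCompact (W : Set P)) (hWU : W ≤ p ⁻¹ᵁ U)
    (haff : ∀ A : X.Opens, IsAffineOpen A → A ≤ U → IsAffineOpen (p ⁻¹ᵁ A ⊓ W)) :
    CohB1.IsAmple (((Scheme.Modules.pullback p).obj L).restrict W.ι) := by
  have hrange : Set.range (W.ι ≫ p) ⊆ Set.range U.ι := by
    rintro _ ⟨z, rfl⟩
    rw [Scheme.Opens.range_ι]
    exact hWU z.2
  let j : (↑W : Scheme.{u}) ⟶ (↑U : Scheme.{u}) := IsOpenImmersion.lift U.ι (W.ι ≫ p) hrange
  have hj : j ≫ U.ι = W.ι ≫ p := IsOpenImmersion.lift_fac _ _ _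
  refine isAmple_of_iso (pullbackRestrictIso' p L W.ι U.ι j hj).symm ?_
  haveI : CompactSpace ↥(W : Scheme.{u}) := isCompact_iff_compactSpace.1 hWc
  refine isAmple_pullback_of j _ hLU.1 (fun z => ?_)
  obtain ⟨n, s, hzs, hsaff⟩ := hLU.2.2 (j z)
  refine ⟨n, s, hzs, ?_⟩
  have hA : IsAffineOpen (U.ι ''ᵁ CohB1.genLocus _ s) := hsaff.image_of_isOpenImmersion U.ι
  have h1 := haff _ hA (Groth.Agent.Lib.Helper23.SecTw.image_le_self U _)
  have h2 := h1.preimage_of_isOpenImmersion W.ι (by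
    rw [Scheme.Opens.opensRange_ι]; exact inf_le_right)
  have h3 : W.ι ⁻¹ᵁ (p ⁻¹ᵁ (U.ι ''ᵁ CohB1.genLocus _ s) ⊓ W) = j ⁻¹ᵁ CohB1.genLocus _ s := by
    ext z
    have hz : p (W.ι z) = U.ι (j z) := by
      rw [← Scheme.Hom.comp_apply, ← Scheme.Hom.comp_apply, hj]
    constructor
    · rintro ⟨⟨y, hy, hyz⟩, -⟩
      have hz' : U.ι y = U.ι (j z) := hyz.trans hz
      have : y = j z := U.ι.isOpenEmbedding.injective hz'
      change j z ∈ CohB1.genLocus _ s
      rw [← this]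
      exact hy
    · intro hzs
      refine ⟨⟨j z, hzs, hz.symm⟩, z.2⟩
  rwa [h3] at h2

end Groth.Agent.Lib.Helper23.PB
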