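import Mathlib
import Groth.Prelude
import Groth.Agent.Lib.Helper13ProjUPb
import Groth.Agent.Lib.Helper23PB3
set_option backward.isDefEq.respectTransparency.types false

/-!
# Immersions into projective space from sections of an invertible module (helper23)

Namespace `Groth.Agent.Lib.Helper23.VeryAmple`.

* `surjective_appLE_of_closure`, `isClosedImmersion_of_cover` : scheme-theoretic lemmas.
* `exists_mor_iso'`, `preimage_basicOpen_eq` : complements to helper13's `exists_mor`: `r⁻¹(D₊(ι m)) = X_{v m}`.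
* `generatedBy_of_cover`.
* `ιP`, `vP`, `qZ` : the data for `P^n_ℤ`.
* `isRelVeryAmplePn_of_sections` : the immersion criterion.
-/

set_option autoImplicit false
set_option linter.unusedSectionVars false
universe u
open CategoryTheory CategoryTheory.Limits AlgebraicGeometry TopologicalSpace Opposite HomogeneousLocalization

namespace Groth.Agent.Lib.Helper23.VeryAmple


/-- surjectivity of `i.appLE W G` from generators coming from two projections -/
theorem surjective_appLE_of_closure {X P P₀ S : Scheme.{u}} (i : X ⟶ P) (p₁ : P ⟶ P₀) (p₂ : P ⟶ S)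
    (W : P.Opens) (D : P₀.Opens) (V : S.Opens) (G : X.Opens) (hW : W ≤ p₁ ⁻¹ᵁ D) (hW' : W ≤ p₂ ⁻¹ᵁ V)
    (hG : G ≤ i ⁻¹ᵁ W) (T : Set Γ(X, G)) (hT : Subring.closure T = ⊤)
    (h : ∀ t ∈ T, (∃ a, ((i ≫ p₁).appLE D G (fun x hx => hW (hG hx))).hom a = t) ∨
      (∃ b, ((i ≫ p₂).appLE V G (fun x hx => hW' (hG hx))).hom b = t)) :
    Function.Surjective (i.appLE W G hG).hom := by
  rw [← RingHom.range_eq_top, eq_top_iff, ← hT, Subring.closure_le]
  intro t ht
  rcases h t ht with ⟨a, rfl⟩ | ⟨b, rfl⟩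
  · refine ⟨(p₁.appLE D W hW).hom a, ?_⟩
    have := Scheme.Hom.appLE_comp_appLE i p₁ D W G hW hG
    exact congrArg (fun φ => φ.hom a) this
  · refine ⟨(p₂.appLE V W hW').hom b, ?_⟩
    have := Scheme.Hom.appLE_comp_appLE i p₂ V W G hW' hG
    exact congrArg (fun φ => φ.hom b) this

/-- a morphism which, over an affine open cover of an open `Wt` containing its image, has affine preimages and is
surjective on sections, is a closed immersion into `Wt` -/
theorem isClosedImmersion_of_cover {X P : Scheme.{u}} (i : X ⟶ P) (Wt : P.Opens) (i' : X ⟶ Wt.toScheme)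
    (hfac : i' ≫ Wt.ι = i) {κ : Type*} (W : κ → P.Opens) (hW : ∀ k, IsAffineOpen (W k))
    (hWt : ⨆ k, W k = Wt)
    (haff : ∀ k, IsAffineOpen (i ⁻¹ᵁ W k))
    (hsurj : ∀ k, Function.Surjective (i.app (W k)).hom) : IsClosedImmersion i' := by
  subst hfac
  have hle : ∀ k, W k ≤ Wt := fun k => hWt ▸ le_iSup W k
  let U : κ → Wt.toScheme.affineOpens := fun k => ⟨Wt.ι ⁻¹ᵁ W k, (hW k).preimage_of_isOpenImmersion Wt.ι (by
    rw [Scheme.Opens.opensRange_ι]; exact hle k)⟩
  have hU : ⨆ k, (U k : Wt.toScheme.Opens) = ⊤ := by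
    rw [eq_top_iff]
    intro z _
    have hz : Wt.ι z ∈ ⨆ k, W k := by rw [hWt]; exact z.2
    obtain ⟨k, hk⟩ := Opens.mem_iSup.1 hz
    exact Opens.mem_iSup.2 ⟨k, hk⟩
  rw [HasAffineProperty.iff_of_iSup_eq_top (P := @IsClosedImmersion) U hU]
  intro k
  refine ⟨haff k, ?_⟩
  rw [morphismRestrict_appTop]
  have h1 : (i' ≫ Wt.ι).app (W k) = Wt.ι.app (W k) ≫ i'.app (Wt.ι ⁻¹ᵁ W k) := Scheme.Hom.comp_app _ _ _
  have h2 : Function.Surjective (i'.app (Wt.ι ⁻¹ᵁ W k)).hom := by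
    intro b
    obtain ⟨a, ha⟩ := hsurj k b
    rw [h1] at ha
    exact ⟨_, ha⟩
  have h3 : ∀ (O : Wt.toScheme.Opens), O = Wt.ι ⁻¹ᵁ W k → Function.Surjective (i'.app O).hom := by
    rintro O rfl
    exact h2
  have h4 := h3 ((U k).1.ι ''ᵁ ⊤) (Scheme.Opens.ι_image_top _)
  have h5 : Function.Bijective (X.presheaf.map (eqToHom (image_morphismRestrict_preimage i' (U k).1 ⊤)).op).hom :=
    ConcreteCategory.bijective_of_isIso _
  exact h5.2.comp h4

open Groth.Agent.Lib.Helper27GrTildeSect Groth.Agent.Helper13GrTildeFrac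
  Groth.Agent.Helper13Dehom Groth.Agent.Helper13AffMor Groth.Agent.Helper13SymGr
open Groth.Agent.Lib.Helper23.SecTw Groth.Agent.Lib.Helper6 Groth.Agent.Lib.Helper23.GenLocus
open Groth.Agent.Lib.Helper23.PB Groth.Agent.Helper13PullbackUnit Groth.Agent.Lib.Helper23.Extend
open Groth.Agent.Helper13ProjUP



variable {R A : Type u} [CommRing R] [CommRing A] [Algebra R A] (𝒜 : ℕ → Submodule R A)
  [GradedAlgebra 𝒜]
variable {M : Type u} [AddCommGroup M] [Module R M] (ι : M →ₗ[R] A)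
variable {X : Scheme.{u}} (q : X ⟶ Spec (CommRingCat.of R)) (L : X.Modules)
  (v : M →+ ProjUP.Γm L)

/-- combined form of helper13's `exists_mor` and `exists_mor_iso` -/
theorem exists_mor_iso' (hι : ∀ m, ι m ∈ 𝒜 1) (hsym : IsSymmetricAlgebra ι) (hL : PicF.IsInvertible L)
    (hv : ∀ (c : R) (m : M), v (c • m) = ProjUP.toGlobal q c • v m) (hgen : ProjUP.GeneratedBy L v) :
    ∃ (r : X ⟶ Proj 𝒜) (hle : ∀ m, XL L v m ≤ r ⁻¹ᵁ Proj.basicOpen 𝒜 (ι m)),
      r ≫ toBase 𝒜 = q ∧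
      (∀ m m', (r.appLE (Proj.basicOpen 𝒜 (ι m)) (XL L v m) (hle m)).hom (dehom (hι m) (ι m')) =
        cf L v m m') ∧
      Nonempty ((Scheme.Modules.pullback r).obj (O1 𝒜) ≅ L) := by
  obtain ⟨r, hle, hrq, hcf⟩ := exists_mor 𝒜 ι q L v hι hsym hL hv hgen
  have hcov : ∀ x : X, ∃ m, x ∈ XL L v m := fun x => exists_mem_genLocus L hL v hgen x
  set P := (Scheme.Modules.pullback r).obj (O1 𝒜) with hP
  obtain ⟨Φ, hΦ⟩ := exists_iso_of_frames P L (fun m => XL L v m) hcov
    (fun m => pcoord r (hι m) (hle m)) (fun m => eL L v m)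
    (fun m => isGen_pcoord r (hι m) (hle m)) (fun m => isGen_eL L v m)
    (fun m m' => by
      refine cocycle_of_transition (isGen_pcoord r (hι m') (hle m'))
        (resf inf_le_right (cf L v m' m)) ?_ ?_
      · rw [res_pcoord, res_pcoord]
        have h1 := unitSec_gsec r (hι m') (hι m)
          ((inf_le_right : XL L v m ⊓ XL L v m' ≤ XL L v m').trans (hle m'))
          ((inf_le_left : XL L v m ⊓ XL L v m' ≤ XL L v m).trans (hle m))
        change pcoord r (hι m) _ = _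
        unfold pcoord at h1 ⊢
        rw [h1]
        congr 1
        rw [← hcf m' m]
        have h3 := r.appLE_map (hle m') (homOfLE (inf_le_right : XL L v m ⊓ XL L v m' ≤ XL L v m')).op
        have h4 := congrArg (fun φ => φ.hom (dehom (hι m') (ι m))) h3
        exact h4.symm
      · rw [← res_smul, cf_spec, res_res, res_eL])
  exact ⟨r, hle, hrq, hcf, ⟨Φ⟩⟩

/-- the preimage of `D₊(ι m)` is exactly the locus where `v m` generates -/
theorem preimage_basicOpen_eq (hι : ∀ m, ι m ∈ 𝒜 1) (hL : PicF.IsInvertible L)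
    (hgen : ProjUP.GeneratedBy L v)
    (r : X ⟶ Proj 𝒜) (hle : ∀ m, XL L v m ≤ r ⁻¹ᵁ Proj.basicOpen 𝒜 (ι m))
    (hcf : ∀ m m', (r.appLE (Proj.basicOpen 𝒜 (ι m)) (XL L v m) (hle m)).hom (dehom (hι m) (ι m')) =
        cf L v m m') (m : M) :
    r ⁻¹ᵁ Proj.basicOpen 𝒜 (ι m) = XL L v m := by
  apply le_antisymm _ (hle m)
  intro x hx
  obtain ⟨k, hxk⟩ := exists_mem_genLocus L hL v hgen x
  change x ∈ XL L v k at hxk
  -- `r x ∈ D₊(ι m) ⊓ D₊(ι k) = basicOpen (dehom_k (ι m))`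
  have h1 : r x ∈ (Proj 𝒜).basicOpen (dehom (hι k) (ι m)) := by
    rw [basicOpen_dehom (hι m) (hι k)]
    exact ⟨hx, hle k hxk⟩
  have h2 : x ∈ X.basicOpen ((r.appLE (Proj.basicOpen 𝒜 (ι k)) (XL L v k) (hle k)).hom (dehom (hι k) (ι m))) := by
    rw [basicOpen_appLE]
    exact ⟨hxk, h1⟩
  rw [hcf] at h2
  have h3 : sv (secHom L (v m)) (XL L v k) = cf L v k m • eL L v k := by
    rw [sv_secHom, cf_spec]
  have h4 := genLocus_inf_eq_of_isGen L (secHom L (v m)) (XL L v k) (eL L v k) _ (isGen_eL L v k) h3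
  rw [← h4] at h2
  exact h2.1



section gen
variable {X : Scheme.{u}}

/-- global sections whose generating loci cover `X` generate `L` -/
theorem generatedBy_of_cover (L : X.Modules) {ι : Type*} (s : ι → ProjUP.Γm L)
    (hcov : ∀ x : X, ∃ i, x ∈ CohB1.genLocus L (secHom L (s i))) : ProjUP.GeneratedBy L s := by
  intro x
  obtain ⟨i, hxi⟩ := hcov x
  rw [eq_top_iff]
  intro z _
  obtain ⟨W, hxW, t, rfl⟩ := TopCat.Presheaf.exists_germ_eq L.presheaf z
  set G := CohB1.genLocus L (secHom L (s i)) with hG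
  have hgen : IsGen L G (sv (secHom L (s i)) G) := isGen_sv_genLocus L (secHom L (s i))
  have hle : W ⊓ G ≤ G := inf_le_right
  obtain ⟨a, ha⟩ := (hgen (W ⊓ G) hle).2 (res L inf_le_left t)
  replace ha : a • res L hle (sv (secHom L (s i)) G) = res L inf_le_left t := ha
  rw [sv_secHom, res_res] at ha
  have h1 : L.presheaf.germ W x hxW t = L.presheaf.germ (W ⊓ G) x ⟨hxW, hxi⟩ (res L inf_le_left t) :=
    (TopCat.Presheaf.germ_res_apply L.presheaf (homOfLE (inf_le_left : W ⊓ G ≤ W)) x ⟨hxW, hxi⟩ t).symm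
  have h2 : (L.presheaf.germ ⊤ x trivial).hom (s i) =
      L.presheaf.germ (W ⊓ G) x ⟨hxW, hxi⟩ (res L le_top (s i)) :=
    (TopCat.Presheaf.germ_res_apply L.presheaf (homOfLE (le_top : W ⊓ G ≤ ⊤)) x ⟨hxW, hxi⟩ (s i)).symm
  rw [h1, ← ha, Groth.Agent.Lib.Helper2.QCoh.germ_smul, ← h2]
  exact Submodule.smul_mem _ _ (Submodule.subset_span ⟨i, rfl⟩)

end gen

section Pn
variable (n : ℕ)

/-- the base ring `ℤ`, in universe `u` -/
abbrev Rz : Type u := ULift.{u} ℤ

/-- the linear map `ℤ^{n+1} → ℤ[T_0, …, T_n]`, `e_i ↦ T_i` -/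
noncomputable def ιP : (Fin (n + 1) → Rz.{u}) →ₗ[Rz.{u}] MvPolynomial (Fin (n + 1)) Rz.{u} :=
  Module.Basis.constr (Pi.basisFun Rz.{u} (Fin (n + 1))) Rz.{u}
    (MvPolynomial.X : Fin (n + 1) → MvPolynomial (Fin (n + 1)) Rz.{u})

theorem ιP_single (i : Fin (n + 1)) : ιP.{u} n (Pi.single i 1) = MvPolynomial.X i := by
  have := Module.Basis.constr_basis (Pi.basisFun Rz.{u} (Fin (n + 1))) Rz.{u}
    (MvPolynomial.X : Fin (n + 1) → MvPolynomial (Fin (n + 1)) Rz.{u}) i
  rwa [Pi.basisFun_apply] at this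

theorem ιP_mem (m : Fin (n + 1) → Rz.{u}) : ιP.{u} n m ∈ CohB1.polyGrading n Rz.{u} 1 := by
  classical
  have hm : m = ∑ i, m i • (Pi.single i (1 : Rz.{u}) : Fin (n + 1) → Rz.{u}) := by
    ext j
    simp [Finset.sum_apply, Pi.single_apply]
  rw [hm, map_sum]
  refine Submodule.sum_mem _ (fun i _ => ?_)
  rw [map_smul, ιP_single]
  exact Submodule.smul_mem _ _ (MvPolynomial.isHomogeneous_X Rz.{u} i)

theorem isSymmetricAlgebra_ιP : IsSymmetricAlgebra (ιP.{u} n) :=
  SymmetricAlgebra.IsSymmetricAlgebra.mvPolynomial (Fin (n + 1)) (Pi.basisFun Rz.{u} (Fin (n + 1)))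

variable {X : Scheme.{u}} (L : X.Modules) (s : Fin (n + 1) → ProjUP.Γm L)

/-- the structure morphism to `Spec ℤ` -/
noncomputable def qZ (X : Scheme.{u}) : X ⟶ Spec (CommRingCat.of Rz.{u}) := specULiftZIsTerminal.from X

/-- the additive map `ℤ^{n+1} → Γ(X, L)`, `e_i ↦ s_i` -/
noncomputable def vP : (Fin (n + 1) → Rz.{u}) →+ ProjUP.Γm L where
  toFun m := ∑ i, ProjUP.toGlobal (qZ X) (m i) • s i
  map_zero' := by simp
  map_add' m m' := by simp only [Pi.add_apply, map_add, add_smul, Finset.sum_add_distrib]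

theorem vP_smul (c : Rz.{u}) (m : Fin (n + 1) → Rz.{u}) :
    vP n L s (c • m) = ProjUP.toGlobal (qZ X) c • vP n L s m := by
  change ∑ i, ProjUP.toGlobal (qZ X) ((c • m) i) • s i =
    ProjUP.toGlobal (qZ X) c • ∑ i, ProjUP.toGlobal (qZ X) (m i) • s i
  rw [Finset.smul_sum]
  refine Finset.sum_congr rfl (fun i _ => ?_)
  rw [Pi.smul_apply, smul_eq_mul, map_mul, mul_smul]

theorem vP_single (i : Fin (n + 1)) : vP n L s (Pi.single i 1) = s i := by
  classical
  change ∑ j, ProjUP.toGlobal (qZ X) ((Pi.single i (1 : Rz.{u}) : Fin (n + 1) → Rz.{u}) j) • s j = s i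
  rw [Finset.sum_eq_single i]
  · rw [Pi.single_eq_same, map_one, one_smul]
  · intro j _ hj
    rw [Pi.single_eq_of_ne hj, map_zero, zero_smul]
  · intro h
    exact absurd (Finset.mem_univ i) h

theorem generatedBy_vP (hs : ProjUP.GeneratedBy L s) : ProjUP.GeneratedBy L (vP n L s) := by
  intro x
  rw [eq_top_iff, ← hs x]
  apply Submodule.span_mono
  rintro _ ⟨i, rfl⟩
  exact ⟨Pi.single i 1, by simp only [vP_single]⟩

theorem XL_single (i : Fin (n + 1)) :
    XL L (vP n L s) (Pi.single i 1) = CohB1.genLocus L (secHom L (s i)) := by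
  unfold XL
  rw [vP_single]

/-- the ratio `s_k / s_j` lies in the image of `r.appLE` -/
theorem exists_appLE_eq_ratio (r : X ⟶ Proj (CohB1.polyGrading n Rz.{u}))
    (hler : ∀ m, XL L (vP n L s) m ≤ r ⁻¹ᵁ Proj.basicOpen (CohB1.polyGrading n Rz.{u}) (ιP.{u} n m))
    (hcf : ∀ m m', (r.appLE (Proj.basicOpen (CohB1.polyGrading n Rz.{u}) (ιP.{u} n m)) (XL L (vP n L s) m)
      (hler m)).hom (dehom (ιP_mem n m) (ιP.{u} n m')) = cf L (vP n L s) m m')
    (j k : Fin (n + 1)) (σ : ProjUP.Γm L) (hσ : vP n L s (Pi.single j 1) = σ)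
    (a : Γ(X, CohB1.genLocus L (secHom L σ)))
    (ha : a • res L (le_top : CohB1.genLocus L (secHom L σ) ≤ ⊤) σ = res L le_top (s k))
    (D' : (Proj (CohB1.polyGrading n Rz.{u})).Opens)
    (hD' : D' = Proj.basicOpen (CohB1.polyGrading n Rz.{u}) (ιP.{u} n (Pi.single j 1)))
    (e : CohB1.genLocus L (secHom L σ) ≤ r ⁻¹ᵁ D') :
    ∃ a', (r.appLE D' (CohB1.genLocus L (secHom L σ)) e).hom a' = a := by
  subst hσ
  subst hD'
  refine ⟨dehom (ιP_mem n (Pi.single j 1)) (ιP.{u} n (Pi.single k 1)), ?_⟩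
  refine (hcf (Pi.single j 1) (Pi.single k 1)).trans ?_
  have h1 := cf_spec L (vP n L s) (Pi.single j 1) (Pi.single k 1)
  rw [vP_single n L s k] at h1
  have hinj := (isGen_eL L (vP n L s) (Pi.single j 1) (XL L (vP n L s) (Pi.single j 1)) le_rfl).1
  apply hinj
  change cf L (vP n L s) (Pi.single j 1) (Pi.single k 1) •
      res L le_rfl (eL L (vP n L s) (Pi.single j 1)) =
    (show Γ(X, XL L (vP n L s) (Pi.single j 1)) from a) • res L le_rfl (eL L (vP n L s) (Pi.single j 1))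
  rw [SecTw.res_self, h1]
  exact ha.symm

end Pn

theorem appLE_hom_congr {X Y : Scheme.{u}} {f g : X ⟶ Y} (h : f = g) (U : Y.Opens) (V : X.Opens)
    (e : V ≤ f ⁻¹ᵁ U) (b : Γ(Y, U)) : (f.appLE U V e).hom b = (g.appLE U V (h ▸ e)).hom b := by
  subst h
  rfl

/-- **immersion criterion**: sections `s_0, …, s_n` of an invertible module `L` on `X` such that, for `j` in a subset
`J`, the loci `X_{s_j}` are affine, cover `X`, map into affine opens `V_j` of `S`, and `Γ(X_{s_j}, O)` is generated by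
the image of `Γ(V_j, O)` and the ratios `s_k / s_j`, define an immersion `X ⟶ P^n_S` with `i^* O(1) ≅ L`. -/
theorem isRelVeryAmplePn_of_sections {X S : Scheme.{u}} (f : X ⟶ S) (L : X.Modules) (hL : PicF.IsInvertible L)
    (n : ℕ) (s : Fin (n + 1) → ProjUP.Γm L)
    (J : Set (Fin (n + 1))) (V : Fin (n + 1) → S.Opens)
    (hcov : ∀ x : X, ∃ j ∈ J, x ∈ CohB1.genLocus L (secHom L (s j)))
    (haff : ∀ j ∈ J, IsAffineOpen (CohB1.genLocus L (secHom L (s j))))
    (hV : ∀ j ∈ J, IsAffineOpen (V j))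
    (hle : ∀ j ∈ J, CohB1.genLocus L (secHom L (s j)) ≤ f ⁻¹ᵁ V j)
    (hgen : ∀ j (hj : j ∈ J), ∃ a : Fin (n + 1) → Γ(X, CohB1.genLocus L (secHom L (s j))),
      (∀ k, a k • res L (le_top : CohB1.genLocus L (secHom L (s j)) ≤ ⊤) (s j) = res L le_top (s k)) ∧
      Subring.closure (Set.range (f.appLE (V j) _ (hle j hj)).hom ∪ Set.range a) = ⊤) :
    RelAmple.IsRelVeryAmplePn f L := by
  have hs : ProjUP.GeneratedBy L s := generatedBy_of_cover L s (fun x => by
    obtain ⟨j, -, h⟩ := hcov x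
    exact ⟨j, h⟩)
  obtain ⟨r, hler, hrq, hcf, ⟨Φ⟩⟩ := exists_mor_iso' (CohB1.polyGrading n Rz.{u}) (ιP.{u} n) (qZ X) L (vP n L s)
    (ιP_mem n) (isSymmetricAlgebra_ιP n) hL (vP_smul n L s) (generatedBy_vP n L s hs)
  have hpre := preimage_basicOpen_eq (CohB1.polyGrading n Rz.{u}) (ιP.{u} n) L (vP n L s) (ιP_mem n) hL
    (generatedBy_vP n L s hs) r hler hcf
  let r' : X ⟶ CohB1.ProjSpace n Rz.{u} := r
  let i : X ⟶ CohB1.ProjSpaceOver n S := pullback.lift r' f (specULiftZIsTerminal.hom_ext _ _)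
  have hi1 : i ≫ pullback.fst (CohB1.ProjSpace.toSpec n Rz.{u}) (specULiftZIsTerminal.from S) = r' :=
    pullback.lift_fst _ _ _
  have hi2 : i ≫ pullback.snd (CohB1.ProjSpace.toSpec n Rz.{u}) (specULiftZIsTerminal.from S) = f :=
    pullback.lift_snd _ _ _
  refine ⟨n, i, ?_, hi2, ?_⟩
  · classical
    have hX : ∀ j : Fin (n + 1), (MvPolynomial.X j : MvPolynomial (Fin (n + 1)) Rz.{u}) ∈
        CohB1.polyGrading n Rz.{u} 1 := fun j => MvPolynomial.isHomogeneous_X _ j
    let D : Fin (n + 1) → (CohB1.ProjSpace n Rz.{u}).Opens :=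
      fun j => Proj.basicOpen (CohB1.polyGrading n Rz.{u}) (MvPolynomial.X j)
    have hD : ∀ j, IsAffineOpen (D j) := fun j => isAffineOpen_basicOpen (hX j)
    let G : Fin (n + 1) → X.Opens := fun j => CohB1.genLocus L (secHom L (s j))
    have hrD : ∀ j, r' ⁻¹ᵁ D j = G j := by
      intro j
      have h1 := hpre (Pi.single j 1)
      rw [XL_single] at h1
      have h2 : Proj.basicOpen (CohB1.polyGrading n Rz.{u}) (ιP.{u} n (Pi.single j 1)) = D j := by
        rw [ιP_single]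
      rw [h2] at h1
      exact h1
    let W : J → (CohB1.ProjSpaceOver n S).Opens := fun j =>
      pullback.fst (CohB1.ProjSpace.toSpec n Rz.{u}) (specULiftZIsTerminal.from S) ⁻¹ᵁ D j ⊓
        pullback.snd (CohB1.ProjSpace.toSpec n Rz.{u}) (specULiftZIsTerminal.from S) ⁻¹ᵁ V j
    have hWaff : ∀ j : J, IsAffineOpen (W j) := fun j =>
      isAffineOpen_pullback_inf (hD j) (hV j j.2) (isAffineOpen_top (Spec (CommRingCat.of Rz.{u}))) le_top le_top
    have hiW : ∀ j : J, i ⁻¹ᵁ W j = G j := by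
      intro j
      apply le_antisymm
      · rintro x ⟨hx1, -⟩
        have : x ∈ r' ⁻¹ᵁ D j := by
          rw [← hi1]
          exact hx1
        rw [hrD] at this
        exact this
      · intro x hx
        refine ⟨?_, ?_⟩
        · have : x ∈ r' ⁻¹ᵁ D j := by rw [hrD]; exact hx
          rw [← hi1] at this
          exact this
        · have : x ∈ f ⁻¹ᵁ V j := hle j j.2 hx
          rw [← hi2] at this
          exact this
    let Wt : (CohB1.ProjSpaceOver n S).Opens := ⨆ j : J, W j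
    have hrange : Set.range i ⊆ (Wt : Set (CohB1.ProjSpaceOver n S)) := by
      rintro _ ⟨x, rfl⟩
      obtain ⟨j, hj, hx⟩ := hcov x
      have : x ∈ i ⁻¹ᵁ W ⟨j, hj⟩ := by rw [hiW]; exact hx
      exact Opens.mem_iSup.2 ⟨⟨j, hj⟩, this⟩
    let i' : X ⟶ Wt.toScheme := IsOpenImmersion.lift Wt.ι i (by rw [Scheme.Opens.range_ι]; exact hrange)
    have hfac : i' ≫ Wt.ι = i := IsOpenImmersion.lift_fac _ _ _
    have hcl : IsClosedImmersion i' := by
      refine isClosedImmersion_of_cover i Wt i' hfac W hWaff rfl (fun j => by rw [hiW]; exact haff j j.2)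
        (fun j => ?_)
      obtain ⟨a, ha1, ha2⟩ := hgen j j.2
      have hGW : G j ≤ i ⁻¹ᵁ W j := (hiW j).ge
      have key : Function.Surjective (i.appLE (W j) (G j) hGW).hom := by
        refine surjective_appLE_of_closure i _ _ (W j) (D j) (V j) (G j) inf_le_left inf_le_right hGW _ ha2 ?_
        rintro t (⟨b, rfl⟩ | ⟨k, rfl⟩)
        · right
          exact ⟨b, appLE_hom_congr hi2 (V j) (G j) _ b⟩
        · left
          obtain ⟨a', ha'⟩ := exists_appLE_eq_ratio n L s r hler hcf j k (s j) (vP_single n L s j) (a k) (ha1 k)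
            (D j) (by rw [ιP_single]) (hrD j).ge
          exact ⟨a', (appLE_hom_congr hi1 (D j) (G j) _ a').trans ha'⟩
      have key2 : ∀ (G' : X.Opens) (e : G' = i ⁻¹ᵁ W j), Function.Surjective (i.appLE (W j) G' e.le).hom →
          Function.Surjective (i.app (W j)).hom := by
        rintro G' rfl h
        rwa [Scheme.Hom.appLE_eq_app] at h
      exact key2 (G j) (hiW j).symm key
    rw [← hfac]
    infer_instance
  · have e1 : (Scheme.Modules.pullback i).obj (Twist.twistOver n S 1) ≅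
        (Scheme.Modules.pullback (i ≫ pullback.fst (CohB1.ProjSpace.toSpec n Rz.{u})
          (specULiftZIsTerminal.from S))).obj (Twist.twistProjSpace n Rz.{u} 1) :=
      (Scheme.Modules.pullbackComp i (pullback.fst (CohB1.ProjSpace.toSpec n Rz.{u})
          (specULiftZIsTerminal.from S))).app (Twist.twistProjSpace n Rz.{u} 1)
    have e2 : (Scheme.Modules.pullback (i ≫ pullback.fst (CohB1.ProjSpace.toSpec n Rz.{u})
          (specULiftZIsTerminal.from S))).obj (Twist.twistProjSpace n Rz.{u} 1) ≅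
        (Scheme.Modules.pullback r').obj (Twist.twistProjSpace n Rz.{u} 1) :=
      (Scheme.Modules.pullbackCongr hi1).app (Twist.twistProjSpace n Rz.{u} 1)
    have e3 : (Scheme.Modules.pullback r').obj (Twist.twistProjSpace n Rz.{u} 1) ≅ L := Φ
    exact ⟨(e1 ≪≫ e2 ≪≫ e3).symm⟩

end Groth.Agent.Lib.Helper23.VeryAmple
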