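import Mathlib
import Groth.Prelude
import Groth.Agent.Lib.Helper23VeryAmple
import Groth.Agent.Lib.Helper23SecTw2
import Groth.Agent.Lib.Helper23SecTw10
import Groth.Agent.Lib.Helper23Restr2
set_option backward.isDefEq.respectTransparency.types false

/-!
# Ample implies very ample for large twists (helper23)

Namespace `Groth.Agent.Lib.Helper23.VeryAmple2`.

* `main_eventually` : for all large `n`, `t ⊗ s^n` extends from `X_s` to `X`.
* `exists_sections_ratio` : global sections of `E ⊗ L^N` with prescribed ratios on an affine `X_σ`.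
* `isRelVeryAmplePn_of_sections'` : reindexed immersion criterion.
* `isRelVeryAmplePn_twist_eventually` : `f` locally of finite type, `L` ample, `E` invertible ⇒ `E ⊗ L^n` is very ample
  relative to `f` (immersion into some `P^m_S`) for all large `n`.
-/

set_option autoImplicit false
universe u

namespace Groth.Agent.Lib.Helper23.VeryAmple2


open CategoryTheory Limits AlgebraicGeometry TopologicalSpace Opposite
open Groth.Agent.Lib.Helper23.SecTw Groth.Agent.Lib.Helper23.GenLocus Groth.Agent.Lib.Helper23.QCohLocal Groth.Agent.Lib.Helper6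

/-- the extension of `t ⊗ s^n` to a global section exists for all large `n` -/
theorem main_eventually
    (X : Scheme.{u}) [CompactSpace X] [QuasiSeparatedSpace X] (L : X.Modules)
    (hL : PicF.IsInvertible L) (s : Coh.structureModule X ⟶ L) (F : X.Modules) [Coh.IsQCoh F]
    (t : Γ(F, CohB1.genLocus L s)) :
    ∃ n₀ : ℕ, ∀ n : ℕ, n₀ ≤ n → ∃ t' : Γ(CohB1.tensorMod F (CohB1.tensorPow L n), ⊤),
      res _ (le_top : CohB1.genLocus L s ≤ ⊤) t' = tw F L (CohB1.genLocus L s) t (sv s _) n := by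
  choose W hxW hWaff e f hval hbo hgen using exists_frame L hL s
  obtain ⟨T, hT⟩ : ∃ T : Finset X, (⊤ : X.Opens) ≤ ⨆ x : T, W x := by
    have hc : IsCompact ((⊤ : X.Opens) : Set X) := by
      simpa using isCompact_univ
    obtain ⟨T, hT⟩ := hc.elim_finite_subcover (fun x => (W x : Set X)) (fun x => (W x).2)
      (fun x _ => Set.mem_iUnion.2 ⟨x, hxW x⟩)
    refine ⟨T, fun x hx => ?_⟩
    obtain ⟨y, hy⟩ := Set.mem_iUnion.1 (hT hx)
    obtain ⟨hyT, hxy⟩ := Set.mem_iUnion.1 hy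
    exact Opens.mem_iSup.2 ⟨⟨y, hyT⟩, hxy⟩
  -- Step 1 : local extensions
  have h1 : ∀ x, ∃ (n : ℕ) (tx : Γ(F, W x)), res F (X.basicOpen_le (f x)) tx =
      resf (X.basicOpen_le (f x)) (f x) ^ n • res F ((hbo x).le.trans inf_le_left) t := by
    intro x
    exact exists_extension_qcqs' (hWaff x).isCompact (hWaff x).isQuasiSeparated F (f x) (X.basicOpen (f x)) rfl
      (X.basicOpen_le _) _
  choose n0 t0 ht0 using h1
  obtain ⟨N, hN⟩ : ∃ N : ℕ, N = T.sup n0 := ⟨_, rfl⟩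
  have h1' : ∀ x : T, ∃ tx : Γ(F, W x), res F (X.basicOpen_le (f x)) tx =
      resf (X.basicOpen_le (f x)) (f x) ^ N • res F ((hbo x).le.trans inf_le_left) t := by
    intro x
    have hle : n0 x ≤ N := hN ▸ Finset.le_sup x.2
    obtain ⟨k, hk⟩ := Nat.exists_eq_add_of_le hle
    refine ⟨(f x) ^ k • t0 x, ?_⟩
    rw [res_smul, ht0, resf_pow, ← mul_smul, ← pow_add, hk, add_comm]
  choose t1 ht1 using h1'
  -- Step 2 : compatibility
  have hc : ∀ x y : T, IsCompact ((W x ⊓ W y : X.Opens) : Set X) := fun x y =>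
    QuasiSeparatedSpace.inter_isCompact _ _ (W x).2 (hWaff x).isCompact (W y).2 (hWaff y).isCompact
  have h2 : ∀ x y : T, ∃ m : ℕ, ∀ k, m ≤ k →
      tw F L (W x ⊓ W y) (res F inf_le_left (f x ^ k • t1 x)) (res L inf_le_left (e x)) (N + k) =
      tw F L (W x ⊓ W y) (res F inf_le_right (f y ^ k • t1 y)) (res L inf_le_right (e y)) (N + k) := fun x y =>
    exists_compat F L s t (hc x y) (e x) (e y) (f x) (f y) (hval x) (hval y) (hgen y) (hbo x) (hbo y) N
      (t1 x) (t1 y) (ht1 x) (ht1 y)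
  choose m hm using h2
  obtain ⟨M₀, hM₀⟩ : ∃ M : ℕ, M = (Finset.univ : Finset (T × T)).sup (fun p => m p.1 p.2) + 1 := ⟨_, rfl⟩
  refine ⟨N + M₀, fun n hn => ?_⟩
  obtain ⟨M, rfl⟩ : ∃ M, n = N + M := ⟨n - N, by omega⟩
  have hMM₀ : M₀ ≤ M := by omega
  have hmM : ∀ x y : T, m x y ≤ M := fun x y => by
    refine le_trans ?_ hMM₀
    rw [hM₀]
    exact (Finset.le_sup (f := fun p : T × T => m p.1 p.2) (Finset.mem_univ (x, y))).trans (Nat.le_succ _)
  -- Step 3 : glue
  have hcompat : TopCat.Presheaf.IsCompatible (modSheaf (CohB1.tensorMod F (CohB1.tensorPow L (N + M)))).1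
      (fun x : T => W x) (fun x => tw F L (W x) (f x ^ M • t1 x) (e x) (N + M)) := by
    intro x y
    change res _ (inf_le_left : W x ⊓ W y ≤ W x) (tw F L (W x) (f x ^ M • t1 x) (e x) (N + M)) =
      res _ (inf_le_right : W x ⊓ W y ≤ W y) (tw F L (W y) (f y ^ M • t1 y) (e y) (N + M))
    rw [res_tw, res_tw]
    exact hm x y M (hmM x y)
  obtain ⟨t', ht'⟩ : ∃ t' : Γ(CohB1.tensorMod F (CohB1.tensorPow L (N + M)), ⊤), ∀ x : T,
      res _ (le_top : W x ≤ ⊤) t' = tw F L (W x) (f x ^ M • t1 x) (e x) (N + M) := by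
    obtain ⟨t', ht', -⟩ := (modSheaf (CohB1.tensorMod F (CohB1.tensorPow L (N + M)))).existsUnique_gluing'
      (fun x : T => W x) ⊤ (fun x => homOfLE le_top) hT _ hcompat
    exact ⟨t', ht'⟩
  refine ⟨t', ?_⟩
  -- Step 4 : check on the cover of `X_s`
  have hcov : CohB1.genLocus L s ≤ ⨆ x : T, X.basicOpen (f x) := by
    intro y hy
    obtain ⟨x, hx⟩ := Opens.mem_iSup.1 (hT (show y ∈ (⊤ : X.Opens) from trivial))
    refine Opens.mem_iSup.2 ⟨x, ?_⟩
    rw [hbo]
    exact ⟨hy, hx⟩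
  refine (modSheaf _).eq_of_locally_eq' (fun x : T => X.basicOpen (f x)) _
    (fun x => homOfLE ((hbo x).le.trans inf_le_left)) hcov _ _ (fun x => ?_)
  have hx' : res _ (le_top : W x ≤ ⊤) t' = tw F L (W x) (f x ^ M • t1 x) (e x) (N + M) := ht' x
  change res _ ((hbo x).le.trans inf_le_left) (res _ (le_top : CohB1.genLocus L s ≤ ⊤) t') =
    res _ ((hbo x).le.trans inf_le_left) (tw F L (CohB1.genLocus L s) t (sv s _) (N + M))
  have e1 : res _ ((hbo x).le.trans inf_le_left) (res _ (le_top : CohB1.genLocus L s ≤ ⊤) t') =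
      res _ (X.basicOpen_le (f x)) (res _ (le_top : W x ≤ ⊤) t') := by
    rw [res_res, res_res]
  rw [e1, hx', res_tw, res_tw, res_smul, ht1, resf_pow, ← mul_smul, ← pow_add, add_comm M N, ← tw_smul, res_sv,
    ← res_smul, ← hval, res_sv]


open Groth.Agent.Lib.Helper23.AmpleIso in
/-- **sections with prescribed ratios**: for `σ ∈ Γ(X, L^{d+1})` with `E`, `L` trivial on `G = X_σ` and finitely many
functions `b` on `G`, for all large `N` there are global sections `ρ`, `τ_b` of `E ⊗ L^N` with `X_ρ = G` and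
`τ_b = b • ρ` on `G`. -/
theorem exists_sections_ratio {X : Scheme.{u}} [CompactSpace X] [QuasiSeparatedSpace X]
    (L : X.Modules) (hL : PicF.IsInvertible L) (E : X.Modules) (hE : PicF.IsInvertible E)
    (d : ℕ) (σ : Coh.structureModule X ⟶ CohB1.tensorPow L (d + 1))
    (eE : Γ(E, CohB1.genLocus _ σ)) (heE : IsGen E _ eE) (eL : Γ(L, CohB1.genLocus _ σ)) (heL : IsGen L _ eL)
    (T : Finset Γ(X, CohB1.genLocus _ σ)) :
    ∃ N₀ : ℕ, ∀ N : ℕ, N₀ ≤ N → ∃ ρ : Coh.structureModule X ⟶ CohB1.tensorMod E (CohB1.tensorPow L N),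
      CohB1.genLocus _ ρ = CohB1.genLocus _ σ ∧
      ∀ b ∈ T, ∃ τ : Coh.structureModule X ⟶ CohB1.tensorMod E (CohB1.tensorPow L N),
        sv τ (CohB1.genLocus _ σ) = b • sv ρ (CohB1.genLocus _ σ) := by
  classical
  let G : X.Opens := CohB1.genLocus _ σ
  let P : X.Modules := CohB1.tensorPow L (d + 1)
  have hP : PicF.IsInvertible P := isInvertible_tensorPow hL (d + 1)
  let Q : ℕ → X.Modules := fun r => CohB1.tensorMod E (CohB1.tensorPow L r)
  have hQ : ∀ r, PicF.IsInvertible (Q r) := fun r => isInvertible_tensorMod hE (isInvertible_tensorPow hL r)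
  have hQq : ∀ r, (Q r).IsQuasicoherent := fun r => isQuasicoherent_of_isInvertible _ (hQ r)
  let q : ∀ r, Γ(Q r, G) := fun r => tm E _ G eE (pw L G eL r)
  have hq : ∀ r, IsGen (Q r) G (q r) := fun r => isGen_tm _ _ _ _ _ heE (isGen_pw L _ _ heL r)
  let T' : Finset Γ(X, G) := insert 1 T
  have key : ∀ (r : ℕ) (b : Γ(X, G)), ∃ n₀ : ℕ, ∀ n : ℕ, n₀ ≤ n →
      ∃ t' : Γ(CohB1.tensorMod (Q r) (CohB1.tensorPow P n), ⊤),
        res _ (le_top : G ≤ ⊤) t' = tw (Q r) P G (b • q r) (sv σ G) n := fun r b => by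
    haveI := hQq r
    exact main_eventually X P hP σ (Q r) (b • q r)
  choose n₀ hn₀ using key
  let n₁ : ℕ → ℕ := fun r => T'.sup (n₀ r)
  let K : ℕ := (Finset.range (d + 1)).sup n₁
  refine ⟨(d + 1) * (K + 1), fun N hN => ?_⟩
  have ha : 0 < d + 1 := Nat.succ_pos _
  let r := N % (d + 1)
  have hrlt : r < d + 1 := Nat.mod_lt _ ha
  have hk : K + 1 ≤ N / (d + 1) := by
    rw [Nat.le_div_iff_mul_le ha, mul_comm]; exact hN
  obtain ⟨n, hn⟩ : ∃ n, n + 1 = N / (d + 1) := ⟨N / (d + 1) - 1, by omega⟩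
  have hn₁ : n₁ r ≤ n := by
    have : n₁ r ≤ K := Finset.le_sup (f := n₁) (Finset.mem_range.2 hrlt)
    omega
  have hnb : ∀ b ∈ T', n₀ r b ≤ n := fun b hb => (Finset.le_sup (f := n₀ r) hb).trans hn₁
  -- the isomorphism to `E ⊗ L^N`
  obtain ⟨Φ₁⟩ := nonempty_tensorMod_tensorPow_add_iso (Q r) P (hQ r) hP n 1 (N / (d + 1)) hn
  obtain ⟨Ψ⟩ := nonempty_tensorPow_tensorPow_iso L hL (d + 1) (N / (d + 1)) ((d + 1) * (N / (d + 1))) rfl
  obtain ⟨Φ₃⟩ := nonempty_tensorMod_tensorPow_add_iso E L hE hL r ((d + 1) * (N / (d + 1))) N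
    (Nat.mod_add_div N (d + 1))
  let Φ : CohB1.tensorMod (CohB1.tensorMod (Q r) (CohB1.tensorPow P n)) (CohB1.tensorPow P 1) ≅
      CohB1.tensorMod E (CohB1.tensorPow L N) := Φ₁ ≪≫ tensorModIso (Iso.refl _) Ψ ≪≫ Φ₃
  -- the sections
  have hsec : ∀ b ∈ T', ∃ t' : Γ(CohB1.tensorMod (Q r) (CohB1.tensorPow P n), ⊤),
      res _ (le_top : G ≤ ⊤) t' = tw (Q r) P G (b • q r) (sv σ G) n := fun b hb => hn₀ r b n (hnb b hb)
  obtain ⟨t₁, ht₁⟩ := hsec 1 (Finset.mem_insert_self 1 T)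
  rw [one_smul] at ht₁
  let ρ₀ : Coh.structureModule X ⟶ CohB1.tensorMod (CohB1.tensorMod (Q r) (CohB1.tensorPow P n)) (CohB1.tensorPow P 1) :=
    SecTwist.tmulHom (secHom _ t₁) (SecTwist.powHom σ 1)
  have hQPn : PicF.IsInvertible (CohB1.tensorMod (Q r) (CohB1.tensorPow P n)) :=
    isInvertible_tensorMod (hQ r) (isInvertible_tensorPow hP n)
  refine ⟨ρ₀ ≫ Φ.hom, ?_, fun b hb => ?_⟩
  · rw [genLocus_comp_iso, genLocus_tmulHom hQPn (isInvertible_tensorPow hP 1), genLocus_powHom hP σ 1 Nat.one_pos]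
    refine inf_eq_right.2 (le_genLocus_of_isGen _ _ _ ?_)
    rw [sv_secHom, ht₁]
    exact isGen_tm _ _ _ _ _ (hq r) (isGen_pw P _ _ (isGen_sv_genLocus P σ) n)
  · obtain ⟨tb, htb⟩ := hsec b (Finset.mem_insert_of_mem hb)
    refine ⟨SecTwist.tmulHom (secHom _ tb) (SecTwist.powHom σ 1) ≫ Φ.hom, ?_⟩
    rw [sv_comp, sv_comp, sv_tmulHom, sv_tmulHom, sv_secHom, sv_secHom, htb, ht₁, tw_smul_left, tm_smul_left,
      Scheme.Modules.Hom.app_smul]


open CategoryTheory Limits AlgebraicGeometry TopologicalSpace Opposite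
open Groth.Agent.Lib.Helper23.SecTw Groth.Agent.Lib.Helper23.GenLocus Groth.Agent.Lib.Helper6
open Groth.Agent.Lib.Helper23.VeryAmple

variable {X : Scheme.{u}}

theorem secHom_sv (M : X.Modules) (s : Coh.structureModule X ⟶ M) : secHom M (sv s ⊤) = s := by
  apply hom_ext_of_sv
  rw [sv_secHom, SecTw.res_self]

/-- reindexed immersion criterion, with sections given as morphisms `O ⟶ L` indexed by a finite type -/
theorem isRelVeryAmplePn_of_sections' {S : Scheme.{u}} (f : X ⟶ S) (L : X.Modules) (hL : PicF.IsInvertible L)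
    {κ : Type*} [Fintype κ] (s : κ → (Coh.structureModule X ⟶ L))
    (J : Set κ) (V : κ → S.Opens) (G : κ → X.Opens)
    (hG : ∀ j ∈ J, CohB1.genLocus L (s j) = G j)
    (hcov : ∀ x : X, ∃ j ∈ J, x ∈ G j)
    (haff : ∀ j ∈ J, IsAffineOpen (G j))
    (hV : ∀ j ∈ J, IsAffineOpen (V j))
    (hle : ∀ j ∈ J, G j ≤ f ⁻¹ᵁ V j)
    (hgen : ∀ j (hj : j ∈ J), ∃ a : κ → Γ(X, G j),
      (∀ k, a k • sv (s j) (G j) = sv (s k) (G j)) ∧
      Subring.closure (Set.range (f.appLE (V j) (G j) (hle j hj)).hom ∪ Set.range a) = ⊤) :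
    RelAmple.IsRelVeryAmplePn f L := by
  classical
  by_cases hκ : Nonempty κ
  · obtain ⟨n, hn⟩ : ∃ n, Fintype.card κ = n + 1 := ⟨Fintype.card κ - 1, by
      have := Fintype.card_pos_iff.2 hκ
      omega⟩
    let e : Fin (n + 1) ≃ κ := (Fintype.equivFinOfCardEq hn).symm
    let s' : Fin (n + 1) → ProjUP.Γm L := fun i => sv (s (e i)) ⊤
    have hs' : ∀ i, secHom L (s' i) = s (e i) := fun i => secHom_sv L (s (e i))
    have hG' : ∀ i, e i ∈ J → CohB1.genLocus L (secHom L (s' i)) = G (e i) := fun i hi => by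
      rw [hs']; exact hG _ hi
    refine isRelVeryAmplePn_of_sections f L hL n s' (e ⁻¹' J) (fun i => V (e i)) ?_ ?_ ?_ ?_ ?_
    · intro x
      obtain ⟨j, hj, hx⟩ := hcov x
      refine ⟨e.symm j, by simpa using hj, ?_⟩
      rw [hG' _ (by simpa using hj)]
      simpa using hx
    · intro i hi
      rw [hG' i hi]
      exact haff _ hi
    · intro i hi
      exact hV _ hi
    · intro i hi
      rw [hG' i hi]
      exact hle _ hi
    · intro i hi
      have key : ∀ (G' : X.Opens) (hGG : G' = G (e i)) (hle' : G' ≤ f ⁻¹ᵁ V (e i)),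
          ∃ a : Fin (n + 1) → Γ(X, G'),
            (∀ k, a k • res L (le_top : G' ≤ ⊤) (s' i) = res L le_top (s' k)) ∧
            Subring.closure (Set.range (f.appLE (V (e i)) G' hle').hom ∪ Set.range a) = ⊤ := by
        rintro G' rfl hle'
        obtain ⟨a, ha1, ha2⟩ := hgen (e i) hi
        refine ⟨a ∘ e, fun k => ?_, ?_⟩
        · change a (e k) • res L le_top (sv (s (e i)) ⊤) = res L le_top (sv (s (e k)) ⊤)
          rw [res_sv, res_sv]
          exact ha1 (e k)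
        · rw [e.surjective.range_comp]
          exact ha2
      exact key _ (hG' i hi) _
  · -- `κ` empty, hence `X` empty
    have hX : IsEmpty X := ⟨fun x => by
      obtain ⟨j, -, -⟩ := hcov x
      exact hκ ⟨j⟩⟩
    refine isRelVeryAmplePn_of_sections f L hL 0 (fun _ => 0) ∅ (fun _ => ⊤) ?_ ?_ ?_ ?_ ?_
    · intro x; exact hX.elim x
    · intro j hj; exact hj.elim
    · intro j hj; exact hj.elim
    · intro j hj; exact hj.elim
    · intro j hj; exact hj.elim

open Groth.Agent.Lib.Helper23.AmpleIso in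
/-- **ample ⇒ very ample for large twists**: for `f : X ⟶ S` locally of finite type, `L` ample and `E` invertible on `X`,
`E ⊗ L^n` is the pullback of `O(1)` along an immersion `X ⟶ P^m_S` over `S`, for all large `n`. -/
theorem isRelVeryAmplePn_twist_eventually {S : Scheme.{u}} (f : X ⟶ S) [LocallyOfFiniteType f]
    (L : X.Modules) (hL : CohB1.IsAmple L) (E : X.Modules) (hE : PicF.IsInvertible E) :
    ∃ n₀ : ℕ, ∀ n, n₀ ≤ n → RelAmple.IsRelVeryAmplePn f (CohB1.tensorMod E (CohB1.tensorPow L n)) := by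
  classical
  haveI := hL.2.1
  haveI := quasiSeparatedSpace_of_isAmple L hL
  have hinv := hL.1
  have h1 : ∀ x : X, ∃ (V : S.Opens) (d : ℕ) (σ : Coh.structureModule X ⟶ CohB1.tensorPow L (d + 1)),
      IsAffineOpen V ∧ x ∈ CohB1.genLocus _ σ ∧ CohB1.genLocus _ σ ≤ f ⁻¹ᵁ V ∧
      IsAffineOpen (CohB1.genLocus _ σ) ∧ (∃ e : Γ(E, CohB1.genLocus _ σ), IsGen E _ e) ∧
      (∃ e : Γ(L, CohB1.genLocus _ σ), IsGen L _ e) := by
    intro x
    obtain ⟨_, ⟨V, hV, rfl⟩, hxV, -⟩ :=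
      S.isBasis_affineOpens.exists_subset_of_mem_open (Set.mem_univ (f x)) isOpen_univ
    obtain ⟨d, σ, hZ, hle, haff, hE', hL'⟩ := exists_frame_of_finite L hL E hE {x} (Set.finite_singleton x)
      (f ⁻¹ᵁ V) (by simpa using hxV)
    exact ⟨V, d, σ, hV, hZ rfl, hle, haff, hE', hL'⟩
  choose V d σ hV hxσ hle haff heE heL using h1
  choose eE heE using heE
  choose eL heL using heL
  obtain ⟨T₀, hT₀⟩ := CompactSpace.elim_nhds_subcover (fun x => (CohB1.genLocus _ (σ x) : Set X))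
    (fun x => (CohB1.genLocus _ (σ x)).isOpen.mem_nhds (hxσ x))
  have h2 : ∀ x, ∃ B : Finset Γ(X, CohB1.genLocus _ (σ x)),
      Subring.closure (Set.range (f.appLE (V x) _ (hle x)).hom ∪ (B : Set Γ(X, CohB1.genLocus _ (σ x)))) = ⊤ := by
    intro x
    have hft := Scheme.Hom.finiteType_appLE f (hV x) (haff x) (hle x)
    letI := (f.appLE (V x) _ (hle x)).hom.toAlgebra
    obtain ⟨B, hB⟩ := (show Algebra.FiniteType Γ(S, V x) Γ(X, CohB1.genLocus _ (σ x)) from hft).out
    refine ⟨B, ?_⟩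
    have h := Algebra.adjoin_eq_ring_closure (R := Γ(S, V x)) (B : Set Γ(X, CohB1.genLocus _ (σ x)))
    rw [hB] at h
    exact h.symm.trans Algebra.top_toSubring
  choose B hB using h2
  have h3 := fun x => exists_sections_ratio L hinv E hE (d x) (σ x) (eE x) (heE x) (eL x) (heL x) (B x)
  choose N₀ hN₀ using h3
  refine ⟨T₀.sup N₀, fun n hn => ?_⟩
  have h4 : ∀ x : {x // x ∈ T₀}, ∃ ρ : Coh.structureModule X ⟶ CohB1.tensorMod E (CohB1.tensorPow L n),
      CohB1.genLocus _ ρ = CohB1.genLocus _ (σ x.1) ∧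
      ∀ b ∈ B x.1, ∃ τ : Coh.structureModule X ⟶ CohB1.tensorMod E (CohB1.tensorPow L n),
        sv τ (CohB1.genLocus _ (σ x.1)) = b • sv ρ (CohB1.genLocus _ (σ x.1)) :=
    fun x => hN₀ x.1 n ((Finset.le_sup x.2).trans hn)
  choose ρ hρ1 hρ2 using h4
  choose τ hτ using hρ2
  let M : X.Modules := CohB1.tensorMod E (CohB1.tensorPow L n)
  have hM : PicF.IsInvertible M := isInvertible_tensorMod hE (isInvertible_tensorPow hinv n)
  let κ := Σ x : {x // x ∈ T₀}, Option {b // b ∈ B x.1}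
  let s : κ → (Coh.structureModule X ⟶ M) := fun k => match k with
    | ⟨x, none⟩ => ρ x
    | ⟨x, some b⟩ => τ x b.1 b.2
  refine isRelVeryAmplePn_of_sections' f M hM s {k | k.2 = none} (fun k => V k.1.1)
    (fun k => CohB1.genLocus _ (σ k.1.1)) ?_ ?_ ?_ ?_ ?_ ?_
  · rintro ⟨x, _ | b⟩ hk
    · exact hρ1 x
    · exact absurd hk (by simp)
  · intro y
    have hy : y ∈ ⋃ x ∈ T₀, (CohB1.genLocus _ (σ x) : Set X) := by rw [hT₀]; trivial
    simp only [Set.mem_iUnion] at hy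
    obtain ⟨x, hx, hyx⟩ := hy
    exact ⟨⟨⟨x, hx⟩, none⟩, rfl, hyx⟩
  · intro k _; exact haff _
  · intro k _; exact hV _
  · intro k _; exact hle _
  · rintro ⟨x, _ | b⟩ hk
    swap
    · exact absurd hk (by simp)
    have hgenρ : IsGen M (CohB1.genLocus _ (σ x.1)) (sv (ρ x) (CohB1.genLocus _ (σ x.1))) := by
      have : ∀ (G' : X.Opens), CohB1.genLocus M (ρ x) = G' → IsGen M G' (sv (ρ x) G') := by
        rintro _ rfl
        exact isGen_sv_genLocus M (ρ x)
      exact this _ (hρ1 x)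
    refine ⟨fun k' => coef hgenρ le_rfl (sv (s k') (CohB1.genLocus _ (σ x.1))), fun k' => ?_, ?_⟩
    · have := coef_spec hgenρ le_rfl (sv (s k') (CohB1.genLocus _ (σ x.1)))
      rw [SecTw.res_self] at this
      exact this
    · rw [eq_top_iff, ← hB x.1]
      apply Subring.closure_mono
      apply Set.union_subset_union_right
      intro b hb
      refine ⟨⟨x, some ⟨b, hb⟩⟩, ?_⟩
      symm
      apply coef_unique
      rw [SecTw.res_self]
      exact (hτ x b hb).symm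

end Groth.Agent.Lib.Helper23.VeryAmple2
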