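import Mathlib
import Groth.Agent.Lib.Helper23SecTw9
import Groth.Agent.Lib.Helper23VeryAmple2

/-!
# Avoiding finitely many points by a global section over an infinite field (helper11)

Namespace `Groth.Agent.Lib.Helper11.Avoid`.

* `nvan L he x hx φ` : for a ring homomorphism `φ : k →+* Γ(X, ⊤)` from a field, the `k`-subspace (for the
  module structure `Module.compHom _ φ`) of the global sections of `L` not generating `L` at `x`
  (in terms of a local generator `e` of `L` near `x`).
* `exists_section_of_finite` : `k` infinite, `L` invertible, `P` a `k`-subspace (as a predicate) of global sections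
  such that every point `y i` of a finite family lies in `X_t` for some `t` in `P`; then one `t` in `P` works for all.
-/

set_option autoImplicit false
universe u
open CategoryTheory CategoryTheory.Limits AlgebraicGeometry TopologicalSpace Opposite

namespace Groth.Agent.Lib.Helper11.Avoid
open Groth.Agent.Lib.Helper23.SecTw Groth.Agent.Lib.Helper23.GenLocus Groth.Agent.Lib.Helper6

variable {X : Scheme.{u}}

/-- membership in `X_σ` through a local generator and evaluation at the point -/
theorem mem_genLocus_secHom_iff (L : X.Modules) {W : X.Opens} {e : Γ(L, W)} (he : IsGen L W e) (x : X)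
    (hx : x ∈ W) (m : Γ(L, ⊤)) :
    x ∈ CohB1.genLocus L (secHom L m) ↔
      X.evaluation W x hx (coef he le_rfl (res L le_top m)) ≠ 0 := by
  rw [Scheme.evaluation_ne_zero_iff_mem_basicOpen, ← sv_secHom L m W, ← genLocus_inf_eq_coef (secHom L m) he]
  exact ⟨fun h => ⟨h, hx⟩, fun h => h.1⟩

section field

variable {k : Type*} [Field k] (φ : k →+* Γ(X, ⊤))

/-- the `k`-subspace of global sections vanishing at `x`. -/
noncomputable def nvan (L : X.Modules) {W : X.Opens} {e : Γ(L, W)} (he : IsGen L W e) (x : X) (hx : x ∈ W) :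
    letI : Module k Γ(L, ⊤) := Module.compHom _ φ
    Submodule k Γ(L, ⊤) :=
  letI : Module k Γ(L, ⊤) := Module.compHom _ φ
  { carrier := {m | X.evaluation W x hx (coef he le_rfl (res L le_top m)) = 0}
    add_mem' := by
      intro a b ha hb
      simp only [Set.mem_ofPred_eq] at ha hb ⊢
      rw [res_add', coef_add, map_add, ha, hb, add_zero]
    zero_mem' := by
      simp only [Set.mem_ofPred_eq]
      have h0 : coef he le_rfl (res L le_top (0 : Γ(L, ⊤))) = 0 := by
        refine (coef_unique he le_rfl _ 0 ?_).symm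
        rw [zero_smul, res_zero]
      rw [h0, map_zero]
    smul_mem' := by
      intro c a ha
      simp only [Set.mem_ofPred_eq] at ha ⊢
      have h1 : c • a = φ c • a := rfl
      rw [h1, res_smul, coef_smul, map_mul, ha, mul_zero] }

theorem mem_nvan_iff (L : X.Modules) {W : X.Opens} {e : Γ(L, W)} (he : IsGen L W e) (x : X) (hx : x ∈ W)
    (m : Γ(L, ⊤)) :
    letI : Module k Γ(L, ⊤) := Module.compHom _ φ
    m ∈ nvan φ L he x hx ↔ x ∉ CohB1.genLocus L (secHom L m) := by
  rw [mem_genLocus_secHom_iff L he x hx m, not_not]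
  rfl

variable [Infinite k]

/-- finitely many points each in some `X_t`, `t` in a `k`-subspace `P` of sections: one `t` in `P` works for all. -/
theorem exists_section_of_finite (L : X.Modules) (hL : PicF.IsInvertible L) (P : Γ(L, ⊤) → Prop)
    (hP0 : P 0) (hPadd : ∀ a b, P a → P b → P (a + b)) (hPsmul : ∀ (c : k) a, P a → P (φ c • a))
    {ι : Type*} [Finite ι] (y : ι → X)
    (h : ∀ i, ∃ m, P m ∧ y i ∈ CohB1.genLocus L (secHom L m)) :
    ∃ m, P m ∧ ∀ i, y i ∈ CohB1.genLocus L (secHom L m) := by
  letI : Module k Γ(L, ⊤) := Module.compHom _ φ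
  let H : Submodule k Γ(L, ⊤) :=
    { carrier := {m | P m}
      add_mem' := fun {a b} ha hb => hPadd a b ha hb
      zero_mem' := hP0
      smul_mem' := fun c a ha => hPsmul c a ha }
  choose W e hyW he using fun i => exists_gen L hL (y i)
  let N : ι → Submodule k H := fun i => (nvan φ L (he i) (y i) (hyW i)).comap H.subtype
  by_contra hcon
  push Not at hcon
  have hcov : ⋃ i, ((N i : Submodule k H) : Set H) = Set.univ := by
    rw [Set.eq_univ_iff_forall]
    rintro ⟨m, hm⟩
    obtain ⟨i, hi⟩ := hcon m hm
    rw [Set.mem_iUnion]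
    refine ⟨i, ?_⟩
    change m ∈ nvan φ L (he i) (y i) (hyW i)
    exact (mem_nvan_iff φ L (he i) (y i) (hyW i) m).2 hi
  obtain ⟨i, hi⟩ := Subspace.exists_eq_top_of_iUnion_eq_univ hcov
  obtain ⟨m, hm, hmy⟩ := h i
  have h1 : (⟨m, hm⟩ : H) ∈ N i := by rw [hi]; trivial
  have h2 : m ∈ nvan φ L (he i) (y i) (hyW i) := h1
  exact (mem_nvan_iff φ L (he i) (y i) (hyW i) m).1 h2 hmy

include φ in
/-- version with morphisms `O ⟶ L` and no constraint -/
theorem exists_hom_of_finite (L : X.Modules) (hL : PicF.IsInvertible L)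
    {ι : Type*} [Finite ι] (y : ι → X)
    (h : ∀ i, ∃ t : Coh.structureModule X ⟶ L, y i ∈ CohB1.genLocus L t) :
    ∃ t : Coh.structureModule X ⟶ L, ∀ i, y i ∈ CohB1.genLocus L t := by
  obtain ⟨m, -, hm⟩ := exists_section_of_finite φ L hL (fun _ => True) trivial (fun _ _ _ _ => trivial)
    (fun _ _ _ => trivial) y (fun i => by
      obtain ⟨t, ht⟩ := h i
      refine ⟨sv t ⊤, trivial, ?_⟩
      rw [Groth.Agent.Lib.Helper23.VeryAmple2.secHom_sv]
      exact ht)
  exact ⟨secHom L m, hm⟩

end field

end Groth.Agent.Lib.Helper11.Avoid
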