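import Mathlib

/-!
# Avoiding finitely many proper submodules over a local ring with infinite residue field (helper11)
-/

set_option autoImplicit false
universe u

namespace Groth.Agent.Lib.Helper11.AvoidLoc

variable {A : Type*} [CommRing A] [IsLocalRing A]

/-- a nonzero finite module over a local ring with infinite residue field is infinite -/
theorem infinite_of_finite_nontrivial (hA : Infinite (IsLocalRing.ResidueField A))
    (Q : Type*) [AddCommGroup Q] [Module A Q] [Module.Finite A Q] [Nontrivial Q] : Infinite Q := by
  let m := IsLocalRing.maximalIdeal A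
  let N : Submodule A Q := m • (⊤ : Submodule A Q)
  have hN : N ≠ ⊤ := by
    intro h
    have h1 : (⊤ : Submodule A Q) ≤ m • (⊤ : Submodule A Q) := le_of_eq h.symm
    have h2 := Submodule.eq_bot_of_le_smul_of_le_jacobson_bot m (⊤ : Submodule A Q) Module.Finite.fg_top h1
      (IsLocalRing.maximalIdeal_le_jacobson _)
    exact top_ne_bot h2
  haveI : Nontrivial (Q ⧸ N) := Submodule.Quotient.nontrivial_iff.mpr hN
  letI : Field (A ⧸ m) := Ideal.Quotient.field m
  haveI : Infinite (A ⧸ m) := hA
  haveI : Infinite (Q ⧸ N) := Module.Free.infinite (A ⧸ m) (Q ⧸ N)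
  exact Infinite.of_surjective _ (Submodule.mkQ_surjective N)

/-- finitely many proper submodules of a finite module over a local ring with infinite residue field do not cover -/
theorem exists_notMem (hA : Infinite (IsLocalRing.ResidueField A))
    {M : Type*} [AddCommGroup M] [Module A M] [Module.Finite A M] {ι : Type*} [Finite ι]
    (K : ι → Submodule A M) (hK : ∀ i, K i ≠ ⊤) : ∃ m : M, ∀ i, m ∉ K i := by
  classical
  haveI := Fintype.ofFinite ι
  by_contra hcon
  push Not at hcon
  have hcov : ⋃ i ∈ (Finset.univ : Finset ι), (K i : Set M) = Set.univ := by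
    rw [Set.eq_univ_iff_forall]
    intro m
    obtain ⟨i, hi⟩ := hcon m
    exact Set.mem_iUnion₂.2 ⟨i, Finset.mem_univ i, hi⟩
  obtain ⟨i, -, hfi⟩ := Submodule.exists_finiteIndex_of_cover hcov
  haveI : Finite (M ⧸ K i) := AddSubgroup.finite_quotient_of_finiteIndex
  haveI : Nontrivial (M ⧸ K i) := Submodule.Quotient.nontrivial_iff.mpr (hK i)
  haveI : Infinite (M ⧸ K i) := infinite_of_finite_nontrivial hA (M ⧸ K i)
  exact not_finite (M ⧸ K i)

end Groth.Agent.Lib.Helper11.AvoidLoc
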