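import Mathlib
import Groth.Prelude.Def_Grpd

/-!
# T-point calculus for groupoid schemes (helper2)

`comp G α β h` is the composite `α ∘ β` of two `T`-points of `R` with `s α = t β`.
-/

set_option autoImplicit false
universe u

open CategoryTheory CategoryTheory.Limits AlgebraicGeometry

namespace Groth.Agent.Lib.Helper2.Grpd

variable {S : Scheme.{u}} (G : Grpd.GroupoidScheme S) {T T' : Scheme.{u}}

/-- composition of `T`-points in the groupoid -/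
noncomputable def comp (α β : T ⟶ G.R) (h : α ≫ G.s = β ≫ G.t) : T ⟶ G.R :=
  pullback.lift α β h ≫ G.c

lemma comp_congr {α α' β β' : T ⟶ G.R} (h : α ≫ G.s = β ≫ G.t) (hα : α = α') (hβ : β = β') :
    comp G α β h = comp G α' β' (by rw [← hα, ← hβ]; exact h) := by
  subst hα hβ
  rfl

lemma precomp_comp (f : T' ⟶ T) (α β : T ⟶ G.R) (h : α ≫ G.s = β ≫ G.t) :
    f ≫ comp G α β h = comp G (f ≫ α) (f ≫ β)
      (by rw [Category.assoc, Category.assoc, h]) := by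
  unfold comp
  rw [← Category.assoc]
  congr 1
  apply pullback.hom_ext <;> simp only [Category.assoc, pullback.lift_fst, pullback.lift_snd]

@[simp] lemma comp_s (α β : T ⟶ G.R) (h : α ≫ G.s = β ≫ G.t) :
    comp G α β h ≫ G.s = β ≫ G.s := G.comp_s α β h

@[simp] lemma comp_t (α β : T ⟶ G.R) (h : α ≫ G.s = β ≫ G.t) :
    comp G α β h ≫ G.t = α ≫ G.t := G.comp_t α β h

lemma comp_assoc (α β γ : T ⟶ G.R) (h₁ : α ≫ G.s = β ≫ G.t) (h₂ : β ≫ G.s = γ ≫ G.t) :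
    comp G (comp G α β h₁) γ ((comp_s G α β h₁).trans h₂) =
      comp G α (comp G β γ h₂) (h₁.trans (comp_t G β γ h₂).symm) :=
  G.assoc α β γ h₁ h₂

lemma comp_e (α : T ⟶ G.R) (β : T ⟶ G.R) (hβ : β = α ≫ G.s ≫ G.e)
    (h : α ≫ G.s = β ≫ G.t) : comp G α β h = α := by
  subst hβ
  exact G.comp_e α

lemma e_comp (α : T ⟶ G.R) (β : T ⟶ G.R) (hβ : β = α ≫ G.t ≫ G.e)
    (h : β ≫ G.s = α ≫ G.t) : comp G β α h = α := by
  subst hβ
  exact G.e_comp α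

lemma comp_i (α : T ⟶ G.R) (h : α ≫ G.s = (α ≫ G.i) ≫ G.t) :
    comp G α (α ≫ G.i) h = α ≫ G.t ≫ G.e := G.comp_i α

lemma i_comp (α : T ⟶ G.R) (h : (α ≫ G.i) ≫ G.s = α ≫ G.t) :
    comp G (α ≫ G.i) α h = α ≫ G.s ≫ G.e := G.i_comp α

/-- `α⁻¹ ∘ (α ∘ β) = β`. -/
lemma i_comp_comp (α β : T ⟶ G.R) (h : α ≫ G.s = β ≫ G.t)
    (h' : (α ≫ G.i) ≫ G.s = comp G α β h ≫ G.t) :
    comp G (α ≫ G.i) (comp G α β h) h' = β := by
  have h1 : (α ≫ G.i) ≫ G.s = α ≫ G.t := by rw [Category.assoc, G.i_s]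
  rw [← comp_assoc G (α ≫ G.i) α β h1 h]
  have h2 := i_comp G α h1
  rw [comp_congr G _ h2 rfl]
  exact e_comp G β _ (by rw [reassoc_of% h]) _

/-- `α ∘ (α⁻¹ ∘ β) = β`. -/
lemma comp_i_comp (α β : T ⟶ G.R) (h : (α ≫ G.i) ≫ G.s = β ≫ G.t)
    (h' : α ≫ G.s = comp G (α ≫ G.i) β h ≫ G.t) :
    comp G α (comp G (α ≫ G.i) β h) h' = β := by
  have h1 : α ≫ G.s = (α ≫ G.i) ≫ G.t := by rw [Category.assoc, G.i_t]
  rw [← comp_assoc G α (α ≫ G.i) β h1 h]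
  have h2 := comp_i G α h1
  rw [comp_congr G _ h2 rfl]
  have h3 : α ≫ G.t = β ≫ G.t := by
    rw [← h, Category.assoc, G.i_s]
  exact e_comp G β _ (by rw [reassoc_of% h3]) _

/-- `(α ∘ β) ∘ β⁻¹ = α`. -/
lemma comp_comp_i (α β : T ⟶ G.R) (h : α ≫ G.s = β ≫ G.t)
    (h' : comp G α β h ≫ G.s = (β ≫ G.i) ≫ G.t) :
    comp G (comp G α β h) (β ≫ G.i) h' = α := by
  have h1 : β ≫ G.s = (β ≫ G.i) ≫ G.t := by rw [Category.assoc, G.i_t]
  rw [comp_congr G h' rfl rfl, comp_assoc G α β (β ≫ G.i) h h1]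
  have h2 := comp_i G β h1
  rw [comp_congr G _ rfl h2]
  exact comp_e G α _ (by rw [reassoc_of% h]) _

/-- `(α ∘ β⁻¹) ∘ β = α`. -/
lemma comp_i_comp' (α β : T ⟶ G.R) (h : α ≫ G.s = (β ≫ G.i) ≫ G.t)
    (h' : comp G α (β ≫ G.i) h ≫ G.s = β ≫ G.t) :
    comp G (comp G α (β ≫ G.i) h) β h' = α := by
  have h1 : (β ≫ G.i) ≫ G.s = β ≫ G.t := by rw [Category.assoc, G.i_s]
  rw [comp_congr G h' rfl rfl, comp_assoc G α (β ≫ G.i) β h h1]
  have h2 := i_comp G β h1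
  rw [comp_congr G _ rfl h2]
  have h3 : α ≫ G.s = β ≫ G.s := by rw [h, Category.assoc, G.i_t]
  exact comp_e G α _ (by rw [reassoc_of% h3]) _

end Groth.Agent.Lib.Helper2.Grpd
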