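import Mathlib
import Groth.Prelude.Def_Grpd
import Groth.Agent.Lib.Helper2Grpd

/-!
# The groupoid of `T`-points of a groupoid scheme (helper11)

For a groupoid scheme `G` and a scheme `T`, `Pt G T` is the groupoid whose objects are the
`T`-points of `G.U` and whose morphisms `x ⟶ y` are the `T`-points `r` of `G.R` with `s r = x`,
`t r = y`.  All the algebra of composites of `T`-points can then be done with the category API.
-/

set_option autoImplicit false
set_option linter.style.haveILetI false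
set_option linter.unusedSectionVars false
universe u

open CategoryTheory CategoryTheory.Limits AlgebraicGeometry

namespace Groth.Agent.Lib.Helper11.PtGrpd

open Groth.Agent.Lib.Helper2.Grpd

variable {S : Scheme.{u}} (G : Grpd.GroupoidScheme S) (T : Scheme.{u})

/-- `T`-points of the objects of `G`. -/
structure Pt where
  /-- the underlying `T`-point. -/
  pt : T ⟶ G.U

variable {G T}

/-- arrows between two `T`-points. -/
structure PtHom (x y : Pt G T) where
  /-- the underlying `T`-point of `R`. -/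
  val : T ⟶ G.R
  src : val ≫ G.s = x.pt
  tgt : val ≫ G.t = y.pt

@[ext]
theorem PtHom.ext' {x y : Pt G T} {f g : PtHom x y} (h : f.val = g.val) : f = g := by
  cases f; cases g; cases h; rfl

noncomputable instance : Category (Pt G T) where
  Hom x y := PtHom x y
  id x := ⟨x.pt ≫ G.e, by rw [Category.assoc, G.e_s, Category.comp_id],
    by rw [Category.assoc, G.e_t, Category.comp_id]⟩
  comp {x y z} f g := ⟨comp G g.val f.val (g.src.trans f.tgt.symm),
    by rw [comp_s, f.src], by rw [comp_t, g.tgt]⟩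
  id_comp {x y} f := by
    apply PtHom.ext'
    refine comp_e G f.val _ ?_ _
    show x.pt ≫ G.e = f.val ≫ G.s ≫ G.e
    rw [← Category.assoc, f.src]
  comp_id {x y} f := by
    apply PtHom.ext'
    refine e_comp G f.val _ ?_ _
    show y.pt ≫ G.e = f.val ≫ G.t ≫ G.e
    rw [← Category.assoc, f.tgt]
  assoc {w x y z} f g h := by
    apply PtHom.ext'
    exact (comp_assoc G h.val g.val f.val (h.src.trans g.tgt.symm) (g.src.trans f.tgt.symm)).symm

@[ext]
theorem hom_ext {x y : Pt G T} {f g : x ⟶ y} (h : f.val = g.val) : f = g := PtHom.ext' h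

theorem id_val (x : Pt G T) : (𝟙 x : x ⟶ x).val = x.pt ≫ G.e := rfl

theorem comp_val {x y z : Pt G T} (f : x ⟶ y) (g : y ⟶ z) :
    (f ≫ g).val = comp G g.val f.val (g.src.trans f.tgt.symm) := rfl

/-- the inverse arrow. -/
def invHom {x y : Pt G T} (f : x ⟶ y) : y ⟶ x :=
  ⟨f.val ≫ G.i, by rw [Category.assoc, G.i_s, f.tgt], by rw [Category.assoc, G.i_t, f.src]⟩

noncomputable instance : Groupoid (Pt G T) where
  inv f := invHom f
  inv_comp f := by
    apply hom_ext
    change comp G f.val (f.val ≫ G.i) _ = _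
    rw [comp_i, id_val, ← Category.assoc, f.tgt]
  comp_inv f := by
    apply hom_ext
    change comp G (f.val ≫ G.i) f.val _ = _
    rw [i_comp, id_val, ← Category.assoc, f.src]

theorem inv_val {x y : Pt G T} (f : x ⟶ y) : (Groupoid.inv f).val = f.val ≫ G.i := rfl

/-- an arrow as a morphism between chosen endpoints. -/
def homMk (r : T ⟶ G.R) {x y : Pt G T} (h₁ : r ≫ G.s = x.pt) (h₂ : r ≫ G.t = y.pt) : x ⟶ y :=
  ⟨r, h₁, h₂⟩

@[simp] theorem homMk_val (r : T ⟶ G.R) {x y : Pt G T} (h₁ : r ≫ G.s = x.pt)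
    (h₂ : r ≫ G.t = y.pt) : (homMk r h₁ h₂).val = r := rfl

/-- an arrow as a morphism from its source to its target. -/
def arr (r : T ⟶ G.R) : (⟨r ≫ G.s⟩ : Pt G T) ⟶ ⟨r ≫ G.t⟩ := ⟨r, rfl, rfl⟩

@[simp] theorem arr_val (r : T ⟶ G.R) : (arr r).val = r := rfl

/-- restriction of points along `g : T' ⟶ T`. -/
noncomputable def res {T' : Scheme.{u}} (g : T' ⟶ T) : Pt G T ⥤ Pt G T' where
  obj x := ⟨g ≫ x.pt⟩
  map {x y} f := ⟨g ≫ f.val, by rw [Category.assoc, f.src], by rw [Category.assoc, f.tgt]⟩
  map_id x := by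
    apply hom_ext
    change g ≫ x.pt ≫ G.e = (g ≫ x.pt) ≫ G.e
    rw [Category.assoc]
  map_comp {x y z} f h := by
    apply hom_ext
    change g ≫ comp G h.val f.val _ = comp G (g ≫ h.val) (g ≫ f.val) _
    rw [precomp_comp]

@[simp] theorem res_obj_pt {T' : Scheme.{u}} (g : T' ⟶ T) (x : Pt G T) :
    ((res g).obj x).pt = g ≫ x.pt := rfl

@[simp] theorem res_map_val {T' : Scheme.{u}} (g : T' ⟶ T) {x y : Pt G T} (f : x ⟶ y) :
    ((res g).map f).val = g ≫ f.val := rfl

end Groth.Agent.Lib.Helper11.PtGrpd
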