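import Mathlib
import Groth.Prelude.Def_Grpd
import Groth.Agent.Lib.Helper2Grpd
import Groth.Agent.Lib.Helper11PtGrpd
import Groth.Agent.Lib.Helper11EqvGrpd

/-!
# A subgroupoid `P ⟶ R` of a groupoid scheme whose `j` is a monomorphism (helper11)
-/

set_option autoImplicit false
set_option linter.style.haveILetI false
set_option linter.unusedSectionVars false
universe u

open CategoryTheory CategoryTheory.Limits AlgebraicGeometry

namespace Groth.Agent.Lib.Helper11.SubGrpd

open Groth.Agent.Lib.Helper2.Grpd Groth.Agent.Lib.Helper11.PtGrpd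

variable {S : Scheme.{u}} (G : Grpd.GroupoidScheme S) {P : Scheme.{u}} (ιP : P ⟶ G.R)

theorem c_s : G.c ≫ G.s = pullback.snd G.s G.t ≫ G.s := by
  have := G.comp_s (pullback.fst G.s G.t) (pullback.snd G.s G.t) pullback.condition
  have e : pullback.lift (pullback.fst G.s G.t) (pullback.snd G.s G.t) pullback.condition =
      𝟙 _ := by
    apply pullback.hom_ext <;> simp
  rw [e, Category.id_comp] at this
  exact this

theorem c_t : G.c ≫ G.t = pullback.fst G.s G.t ≫ G.t := by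
  have := G.comp_t (pullback.fst G.s G.t) (pullback.snd G.s G.t) pullback.condition
  have e : pullback.lift (pullback.fst G.s G.t) (pullback.snd G.s G.t) pullback.condition =
      𝟙 _ := by
    apply pullback.hom_ext <;> simp
  rw [e, Category.id_comp] at this
  exact this

/-- the data of a subgroupoid structure on `ιP : P ⟶ R`. -/
structure Data where
  /-- identity. -/
  eP : G.U ⟶ P
  heP : eP ≫ ιP = G.e
  /-- inverse. -/
  iP : P ⟶ P
  hiP : iP ≫ ιP = ιP ≫ G.i
  /-- composition. -/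
  cP : pullback (ιP ≫ G.s) (ιP ≫ G.t) ⟶ P
  hcP : cP ≫ ιP = pullback.map (ιP ≫ G.s) (ιP ≫ G.t) G.s G.t ιP ιP (𝟙 G.U)
    (Category.comp_id _) (Category.comp_id _) ≫ G.c

variable {G ιP} (D : Data G ιP) [Mono (ιP ≫ G.j)]

omit D in
theorem jmP {Z : Scheme.{u}} (a b : Z ⟶ P) (h1 : a ≫ (ιP ≫ G.t) = b ≫ (ιP ≫ G.t))
    (h2 : a ≫ (ιP ≫ G.s) = b ≫ (ιP ≫ G.s)) : a = b := by
  rw [← cancel_mono (ιP ≫ G.j)]
  unfold Grpd.GroupoidScheme.j
  apply pullback.hom_ext
  · simp only [Category.assoc, pullback.lift_fst]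
    exact h1
  · simp only [Category.assoc, pullback.lift_snd]
    exact h2

omit D in
instance mono_ιP : Mono ιP := mono_of_mono ιP G.j

theorem lift_cP {T : Scheme.{u}} (a b : T ⟶ P) (h : a ≫ (ιP ≫ G.s) = b ≫ (ιP ≫ G.t)) :
    (pullback.lift a b h ≫ D.cP) ≫ ιP = comp G (a ≫ ιP) (b ≫ ιP)
      (by rw [Category.assoc, Category.assoc]; exact h) := by
  rw [Category.assoc, D.hcP, ← Category.assoc]
  unfold comp
  congr 1
  apply pullback.hom_ext
  · rw [Category.assoc, pullback.lift_fst, pullback.lift_fst, ← Category.assoc, pullback.lift_fst]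
  · rw [Category.assoc, pullback.lift_snd, pullback.lift_snd, ← Category.assoc, pullback.lift_snd]

/-- the subgroupoid as a groupoid scheme. -/
noncomputable def grpd : Grpd.GroupoidScheme S :=
  EqvGrpd.mk G.pU (ιP ≫ G.s) (ιP ≫ G.t)
    (by rw [Category.assoc, Category.assoc, G.t_over, G.s_over])
    (fun a b h1 h2 => jmP a b h1 h2)
    D.eP (by rw [← Category.assoc, D.heP, G.e_s]) (by rw [← Category.assoc, D.heP, G.e_t])
    D.iP (by rw [← Category.assoc, D.hiP, Category.assoc, G.i_s])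
    (by rw [← Category.assoc, D.hiP, Category.assoc, G.i_t])
    D.cP
    (by
      rw [← Category.assoc, D.hcP, Category.assoc, c_s, ← Category.assoc, pullback.lift_snd,
        Category.assoc])
    (by
      rw [← Category.assoc, D.hcP, Category.assoc, c_t, ← Category.assoc, pullback.lift_fst,
        Category.assoc])

@[simp] theorem grpd_U : (grpd D).U = G.U := rfl
@[simp] theorem grpd_R : (grpd D).R = P := rfl
@[simp] theorem grpd_s : (grpd D).s = ιP ≫ G.s := rfl
@[simp] theorem grpd_t : (grpd D).t = ιP ≫ G.t := rfl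
@[simp] theorem grpd_pU : (grpd D).pU = G.pU := rfl

theorem mono_j_grpd : Mono (grpd D).j := by
  refine ⟨fun {Z} a b hab => jmP (G := G) (ιP := ιP) a b ?_ ?_⟩
  · have := congrArg (· ≫ pullback.fst _ _) hab
    unfold Grpd.GroupoidScheme.j at this
    simp only [Category.assoc] at this
    rw [pullback.lift_fst] at this
    exact this
  · have := congrArg (· ≫ pullback.snd _ _) hab
    unfold Grpd.GroupoidScheme.j at this
    simp only [Category.assoc] at this
    rw [pullback.lift_snd] at this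
    exact this

section IsP

variable {T : Scheme.{u}}

omit D [Mono (ιP ≫ G.j)] in
variable (ιP) in
/-- an arrow between `T`-points which lies in `P`. -/
def IsP {x y : Pt G T} (f : x ⟶ y) : Prop := ∃ p : T ⟶ P, p ≫ ιP = f.val

include D in
theorem isP_id (x : Pt G T) : IsP ιP (𝟙 x) :=
  ⟨x.pt ≫ D.eP, by rw [Category.assoc, D.heP]; rfl⟩

include D in
theorem isP_comp {x y z : Pt G T} {f : x ⟶ y} {g : y ⟶ z} (hf : IsP ιP f) (hg : IsP ιP g) :
    IsP ιP (f ≫ g) := by
  obtain ⟨p, hp⟩ := hf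
  obtain ⟨q, hq⟩ := hg
  have h : q ≫ (ιP ≫ G.s) = p ≫ (ιP ≫ G.t) := by
    rw [← Category.assoc, ← Category.assoc, hp, hq, g.src, f.tgt]
  refine ⟨pullback.lift q p h ≫ D.cP, ?_⟩
  rw [lift_cP, comp_val]
  exact comp_congr G _ hq hp

include D in
theorem isP_inv {x y : Pt G T} {f : x ⟶ y} (hf : IsP ιP f) : IsP ιP (Groupoid.inv f) := by
  obtain ⟨p, hp⟩ := hf
  exact ⟨p ≫ D.iP, by rw [Category.assoc, D.hiP, ← Category.assoc, hp]; rfl⟩

omit D in
theorem isP_unique {x y : Pt G T} {f g : x ⟶ y} (hf : IsP ιP f) (hg : IsP ιP g) : f = g := by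
  obtain ⟨p, hp⟩ := hf
  obtain ⟨q, hq⟩ := hg
  apply hom_ext
  rw [← hp, ← hq]
  congr 1
  apply jmP (G := G) (ιP := ιP)
  · rw [← Category.assoc, ← Category.assoc, hp, hq, f.tgt, g.tgt]
  · rw [← Category.assoc, ← Category.assoc, hp, hq, f.src, g.src]

omit D [Mono (ιP ≫ G.j)] in
theorem isP_res {T' : Scheme.{u}} (g : T' ⟶ T) {x y : Pt G T} {f : x ⟶ y} (hf : IsP ιP f) :
    IsP ιP ((res g).map f) := by
  obtain ⟨p, hp⟩ := hf
  exact ⟨g ≫ p, by rw [Category.assoc, hp]; rfl⟩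

omit D [Mono (ιP ≫ G.j)] in
variable (ιP) in
/-- a `T`-point of `P` as a morphism of `T`-points. -/
def ofP (p : T ⟶ P) {x y : Pt G T} (h₁ : p ≫ ιP ≫ G.s = x.pt) (h₂ : p ≫ ιP ≫ G.t = y.pt) :
    x ⟶ y :=
  homMk (p ≫ ιP) (by rw [Category.assoc, h₁]) (by rw [Category.assoc, h₂])

omit D [Mono (ιP ≫ G.j)] in
theorem isP_ofP (p : T ⟶ P) {x y : Pt G T} (h₁ : p ≫ ιP ≫ G.s = x.pt)
    (h₂ : p ≫ ιP ≫ G.t = y.pt) : IsP ιP (ofP ιP p h₁ h₂) := ⟨p, rfl⟩

end IsP

end Groth.Agent.Lib.Helper11.SubGrpd
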