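import Mathlib
import Groth.Prelude.Def_Grpd
import Groth.Agent.Lib.Helper2Grpd
import Groth.Agent.Lib.Helper11PtGrpd
import Groth.Agent.Lib.Helper11EqvGrpd
import Groth.Agent.Lib.Helper11SubGrpd

/-!
# The two-sided action of a subgroupoid `P` on the arrows `R` of a groupoid scheme (helper11)

`R₂ = P ×_U R ×_U P` with the maps `σ₂ (p, r, q) = r` and `τ₂ (p, r, q) = p ∘ r ∘ q` is an
equivalence relation on `R` (when `j|_P` is a monomorphism), hence a groupoid scheme.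
-/

set_option autoImplicit false
set_option linter.style.haveILetI false
set_option linter.unusedSectionVars false
universe u

open CategoryTheory CategoryTheory.Limits AlgebraicGeometry

namespace Groth.Agent.Lib.Helper11.BiAct

open Groth.Agent.Lib.Helper2.Grpd Groth.Agent.Lib.Helper11.PtGrpd Groth.Agent.Lib.Helper11.SubGrpd

variable {S : Scheme.{u}} (G : Grpd.GroupoidScheme S) {P : Scheme.{u}} (ιP : P ⟶ G.R)

/-- triples `(p, r, q)` with `s p = t r`, `s r = t q`. -/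
noncomputable abbrev R₂ : Scheme.{u} :=
  pullback (pullback.snd (ιP ≫ G.s) G.t ≫ G.s) (ιP ≫ G.t)

/-- the component `p`. -/
noncomputable def πp : R₂ G ιP ⟶ P := pullback.fst _ _ ≫ pullback.fst _ _

/-- the component `r`. -/
noncomputable def πr : R₂ G ιP ⟶ G.R := pullback.fst _ _ ≫ pullback.snd _ _

/-- the component `q`. -/
noncomputable def πq : R₂ G ιP ⟶ P := pullback.snd _ _

theorem cond₁ : (πp G ιP ≫ ιP) ≫ G.s = πr G ιP ≫ G.t := by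
  unfold πp πr
  rw [Category.assoc, Category.assoc, Category.assoc, pullback.condition]

theorem cond₂ : πr G ιP ≫ G.s = (πq G ιP ≫ ιP) ≫ G.t := by
  unfold πr πq
  rw [Category.assoc, Category.assoc]
  exact pullback.condition

variable {T : Scheme.{u}}

/-- constructor for `T`-points of `R₂`. -/
noncomputable def mk₃ (p : T ⟶ P) (r : T ⟶ G.R) (q : T ⟶ P) (h₁ : (p ≫ ιP) ≫ G.s = r ≫ G.t)
    (h₂ : r ≫ G.s = (q ≫ ιP) ≫ G.t) : T ⟶ R₂ G ιP :=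
  pullback.lift (pullback.lift p r (by rw [← Category.assoc]; exact h₁)) q (by
    rw [← Category.assoc, pullback.lift_snd, h₂, Category.assoc])

theorem mk₃_πp (p : T ⟶ P) (r : T ⟶ G.R) (q : T ⟶ P) (h₁ : (p ≫ ιP) ≫ G.s = r ≫ G.t)
    (h₂ : r ≫ G.s = (q ≫ ιP) ≫ G.t) : mk₃ G ιP p r q h₁ h₂ ≫ πp G ιP = p := by
  unfold mk₃ πp
  rw [← Category.assoc, pullback.lift_fst, pullback.lift_fst]

theorem mk₃_πr (p : T ⟶ P) (r : T ⟶ G.R) (q : T ⟶ P) (h₁ : (p ≫ ιP) ≫ G.s = r ≫ G.t)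
    (h₂ : r ≫ G.s = (q ≫ ιP) ≫ G.t) : mk₃ G ιP p r q h₁ h₂ ≫ πr G ιP = r := by
  unfold mk₃ πr
  rw [← Category.assoc, pullback.lift_fst, pullback.lift_snd]

theorem mk₃_πq (p : T ⟶ P) (r : T ⟶ G.R) (q : T ⟶ P) (h₁ : (p ≫ ιP) ≫ G.s = r ≫ G.t)
    (h₂ : r ≫ G.s = (q ≫ ιP) ≫ G.t) : mk₃ G ιP p r q h₁ h₂ ≫ πq G ιP = q := by
  unfold mk₃ πq
  rw [pullback.lift_snd]

theorem ext₃ {a b : T ⟶ R₂ G ιP} (hp : a ≫ πp G ιP = b ≫ πp G ιP)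
    (hr : a ≫ πr G ιP = b ≫ πr G ιP) (hq : a ≫ πq G ιP = b ≫ πq G ιP) : a = b := by
  apply pullback.hom_ext
  · apply pullback.hom_ext
    · simpa only [Category.assoc, πp] using hp
    · simpa only [Category.assoc, πr] using hr
  · exact hq

/-- `p ∘ r ∘ q` for `T`-points. -/
noncomputable def tot₃ (p r q : T ⟶ G.R) (h₁ : p ≫ G.s = r ≫ G.t) (h₂ : r ≫ G.s = q ≫ G.t) :
    T ⟶ G.R :=
  comp G (comp G p r h₁) q ((comp_s G p r h₁).trans h₂)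

theorem tot₃_s (p r q : T ⟶ G.R) (h₁ : p ≫ G.s = r ≫ G.t) (h₂ : r ≫ G.s = q ≫ G.t) :
    tot₃ G p r q h₁ h₂ ≫ G.s = q ≫ G.s := by
  unfold tot₃
  rw [comp_s]

theorem tot₃_t (p r q : T ⟶ G.R) (h₁ : p ≫ G.s = r ≫ G.t) (h₂ : r ≫ G.s = q ≫ G.t) :
    tot₃ G p r q h₁ h₂ ≫ G.t = p ≫ G.t := by
  unfold tot₃
  rw [comp_t, comp_t]

theorem tot₃_congr {p r q p' r' q' : T ⟶ G.R} (h₁ : p ≫ G.s = r ≫ G.t)
    (h₂ : r ≫ G.s = q ≫ G.t) (hp : p = p') (hr : r = r') (hq : q = q') :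
    tot₃ G p r q h₁ h₂ = tot₃ G p' r' q' (by rw [← hp, ← hr]; exact h₁)
      (by rw [← hr, ← hq]; exact h₂) := by
  subst hp hr hq
  rfl

theorem pre_tot₃ {T' : Scheme.{u}} (g : T' ⟶ T) (p r q : T ⟶ G.R) (h₁ : p ≫ G.s = r ≫ G.t)
    (h₂ : r ≫ G.s = q ≫ G.t) :
    g ≫ tot₃ G p r q h₁ h₂ = tot₃ G (g ≫ p) (g ≫ r) (g ≫ q)
      (by rw [Category.assoc, Category.assoc, h₁]) (by rw [Category.assoc, Category.assoc, h₂]) := by
  unfold tot₃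
  rw [precomp_comp]
  exact comp_congr G _ (precomp_comp G g p r h₁) rfl

/-- the composite of a chain of three morphisms of `T`-points. -/
theorem chain_val {x₀ x₁ x₂ x₃ : Pt G T} (fq : x₀ ⟶ x₁) (fr : x₁ ⟶ x₂) (fp : x₂ ⟶ x₃) :
    (fq ≫ fr ≫ fp).val = tot₃ G fp.val fr.val fq.val (fp.src.trans fr.tgt.symm)
      (fr.src.trans fq.tgt.symm) := rfl

/-- source map of the equivalence relation. -/
noncomputable abbrev σ₂ : R₂ G ιP ⟶ G.R := πr G ιP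

/-- target map of the equivalence relation. -/
noncomputable def τ₂ : R₂ G ιP ⟶ G.R :=
  tot₃ G (πp G ιP ≫ ιP) (πr G ιP) (πq G ιP ≫ ιP) (cond₁ G ιP) (cond₂ G ιP)

theorem τ₂_s : τ₂ G ιP ≫ G.s = (πq G ιP ≫ ιP) ≫ G.s := tot₃_s G _ _ _ _ _

theorem τ₂_t : τ₂ G ιP ≫ G.t = (πp G ιP ≫ ιP) ≫ G.t := tot₃_t G _ _ _ _ _

/-- the value of `τ₂` on a `T`-point described by a chain of morphisms of `T`-points. -/
theorem comp_τ₂ (w : T ⟶ R₂ G ιP) {x₀ x₁ x₂ x₃ : Pt G T} (fq : x₀ ⟶ x₁) (fr : x₁ ⟶ x₂)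
    (fp : x₂ ⟶ x₃) (hq : (w ≫ πq G ιP) ≫ ιP = fq.val) (hr : w ≫ πr G ιP = fr.val)
    (hp : (w ≫ πp G ιP) ≫ ιP = fp.val) : w ≫ τ₂ G ιP = (fq ≫ fr ≫ fp).val := by
  unfold τ₂
  rw [pre_tot₃, chain_val]
  refine tot₃_congr G _ _ ?_ hr ?_
  · rw [← Category.assoc, hp]
  · rw [← Category.assoc, hq]

/-- construct a point of `R₂` from a chain. -/
theorem exists_of_chain {x₀ x₁ x₂ x₃ : Pt G T} (fq : x₀ ⟶ x₁) (fr : x₁ ⟶ x₂) (fp : x₂ ⟶ x₃)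
    (hq : IsP ιP fq) (hp : IsP ιP fp) :
    ∃ w : T ⟶ R₂ G ιP, w ≫ σ₂ G ιP = fr.val ∧ w ≫ τ₂ G ιP = (fq ≫ fr ≫ fp).val ∧
      (w ≫ πq G ιP) ≫ ιP = fq.val ∧ (w ≫ πp G ιP) ≫ ιP = fp.val := by
  obtain ⟨q, hq⟩ := hq
  obtain ⟨p, hp⟩ := hp
  have h₁ : (p ≫ ιP) ≫ G.s = fr.val ≫ G.t := by rw [hp, fp.src, fr.tgt]
  have h₂ : fr.val ≫ G.s = (q ≫ ιP) ≫ G.t := by rw [hq, fr.src, fq.tgt]
  refine ⟨mk₃ G ιP p fr.val q h₁ h₂, mk₃_πr G ιP _ _ _ _ _, ?_, ?_, ?_⟩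
  · refine comp_τ₂ G ιP _ fq fr fp ?_ (mk₃_πr G ιP _ _ _ _ _) ?_
    · rw [mk₃_πq, hq]
    · rw [mk₃_πp, hp]
  · rw [mk₃_πq, hq]
  · rw [mk₃_πp, hp]

/-- the chain of a point of `R₂`. -/
theorem exists_chain (w : T ⟶ R₂ G ιP) :
    ∃ (x₀ x₁ x₂ x₃ : Pt G T) (fq : x₀ ⟶ x₁) (fr : x₁ ⟶ x₂) (fp : x₂ ⟶ x₃),
      IsP ιP fq ∧ IsP ιP fp ∧ (w ≫ πq G ιP) ≫ ιP = fq.val ∧ w ≫ πr G ιP = fr.val ∧
      (w ≫ πp G ιP) ≫ ιP = fp.val ∧ w ≫ τ₂ G ιP = (fq ≫ fr ≫ fp).val := by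
  have c₁ : ((w ≫ πp G ιP) ≫ ιP) ≫ G.s = (w ≫ πr G ιP) ≫ G.t := by
    have := congrArg (w ≫ ·) (cond₁ G ιP)
    simpa only [Category.assoc] using this
  have c₂ : (w ≫ πr G ιP) ≫ G.s = ((w ≫ πq G ιP) ≫ ιP) ≫ G.t := by
    have := congrArg (w ≫ ·) (cond₂ G ιP)
    simpa only [Category.assoc] using this
  refine ⟨⟨((w ≫ πq G ιP) ≫ ιP) ≫ G.s⟩, ⟨(w ≫ πr G ιP) ≫ G.s⟩, ⟨(w ≫ πr G ιP) ≫ G.t⟩,
    ⟨((w ≫ πp G ιP) ≫ ιP) ≫ G.t⟩, homMk ((w ≫ πq G ιP) ≫ ιP) rfl c₂.symm,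
    homMk (w ≫ πr G ιP) rfl rfl, homMk ((w ≫ πp G ιP) ≫ ιP) c₁ rfl, ⟨w ≫ πq G ιP, rfl⟩,
    ⟨w ≫ πp G ιP, rfl⟩, rfl, rfl, rfl, ?_⟩
  exact comp_τ₂ G ιP w _ _ _ rfl rfl rfl

theorem hst₂ : τ₂ G ιP ≫ G.pR = σ₂ G ιP ≫ G.pR := by
  calc τ₂ G ιP ≫ G.pR = (τ₂ G ιP ≫ G.t) ≫ G.pU := by rw [Category.assoc, G.t_over]
    _ = ((πp G ιP ≫ ιP) ≫ G.t) ≫ G.pU := by rw [τ₂_t]
    _ = (πp G ιP ≫ ιP) ≫ G.pR := by rw [Category.assoc, G.t_over]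
    _ = ((πp G ιP ≫ ιP) ≫ G.s) ≫ G.pU := by
        rw [Category.assoc (πp G ιP ≫ ιP) G.s G.pU, G.s_over]
    _ = (πr G ιP ≫ G.t) ≫ G.pU := by rw [cond₁]
    _ = σ₂ G ιP ≫ G.pR := by rw [Category.assoc, G.t_over]

omit ιP in
theorem pt_ext {x y : Pt G T} (h : x.pt = y.pt) : x = y := by
  cases x; cases y; cases h; rfl

section grpd

variable {G ιP} (D : SubGrpd.Data G ιP) [Mono (ιP ≫ G.j)]

omit D in
theorem jm₂ {Z : Scheme.{u}} (a b : Z ⟶ R₂ G ιP) (h1 : a ≫ τ₂ G ιP = b ≫ τ₂ G ιP)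
    (h2 : a ≫ σ₂ G ιP = b ≫ σ₂ G ιP) : a = b := by
  refine ext₃ G ιP ?_ h2 ?_
  · apply jmP (G := G) (ιP := ιP)
    · have ha := congrArg (a ≫ ·) (τ₂_t G ιP)
      have hb := congrArg (b ≫ ·) (τ₂_t G ιP)
      simp only [← Category.assoc] at ha hb
      simp only [← Category.assoc]
      rw [← ha, ← hb, h1]
    · have ha := congrArg (a ≫ ·) (cond₁ G ιP)
      have hb := congrArg (b ≫ ·) (cond₁ G ιP)
      simp only [← Category.assoc] at ha hb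
      simp only [← Category.assoc]
      rw [ha, hb, h2]
  · apply jmP (G := G) (ιP := ιP)
    · have ha := congrArg (a ≫ ·) (cond₂ G ιP)
      have hb := congrArg (b ≫ ·) (cond₂ G ιP)
      simp only [← Category.assoc] at ha hb
      simp only [← Category.assoc]
      rw [← ha, ← hb, h2]
    · have ha := congrArg (a ≫ ·) (τ₂_s G ιP)
      have hb := congrArg (b ≫ ·) (τ₂_s G ιP)
      simp only [← Category.assoc] at ha hb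
      simp only [← Category.assoc]
      rw [← ha, ← hb, h1]

include D in
theorem exists_e₂ : ∃ e₂ : G.R ⟶ R₂ G ιP, e₂ ≫ σ₂ G ιP = 𝟙 G.R ∧ e₂ ≫ τ₂ G ιP = 𝟙 G.R := by
  let x : Pt G G.R := ⟨G.s⟩
  let y : Pt G G.R := ⟨G.t⟩
  let fr : x ⟶ y := homMk (𝟙 G.R) (Category.id_comp _) (Category.id_comp _)
  obtain ⟨w, h1, h2, -, -⟩ := exists_of_chain G ιP (𝟙 x) fr (𝟙 y) (isP_id D x) (isP_id D y)
  refine ⟨w, h1, ?_⟩
  rw [h2, Category.id_comp, Category.comp_id]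
  rfl

include D in
theorem exists_i₂ : ∃ i₂ : R₂ G ιP ⟶ R₂ G ιP, i₂ ≫ σ₂ G ιP = τ₂ G ιP ∧
    i₂ ≫ τ₂ G ιP = σ₂ G ιP := by
  obtain ⟨x₀, x₁, x₂, x₃, fq, fr, fp, hq, hp, -, e2, -, e4⟩ := exists_chain G ιP (𝟙 (R₂ G ιP))
  obtain ⟨w, h1, h2, -, -⟩ := exists_of_chain G ιP (Groupoid.inv fq) (fq ≫ fr ≫ fp)
    (Groupoid.inv fp) (isP_inv D hq) (isP_inv D hp)
  rw [Category.id_comp] at e2 e4
  refine ⟨w, by rw [h1, e4], ?_⟩
  rw [h2]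
  refine Eq.trans ?_ e2.symm
  congr 1
  simp

include D in
theorem exists_c₂ : ∃ c₂ : pullback (σ₂ G ιP) (τ₂ G ιP) ⟶ R₂ G ιP,
    c₂ ≫ σ₂ G ιP = pullback.snd (σ₂ G ιP) (τ₂ G ιP) ≫ σ₂ G ιP ∧
    c₂ ≫ τ₂ G ιP = pullback.fst (σ₂ G ιP) (τ₂ G ιP) ≫ τ₂ G ιP := by
  obtain ⟨y₀, y₁, y₂, y₃, gq, gr, gp, hgq, hgp, -, e2, -, e4⟩ :=
    exists_chain G ιP (pullback.fst (σ₂ G ιP) (τ₂ G ιP))
  obtain ⟨x₀, x₁, x₂, x₃, fq, fr, fp, hfq, hfp, -, e2', -, e4'⟩ :=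
    exists_chain G ιP (pullback.snd (σ₂ G ιP) (τ₂ G ιP))
  -- `gr = fq ≫ fr ≫ fp` as arrows
  have hc : gr.val = (fq ≫ fr ≫ fp).val := by
    rw [← e2, ← e4']
    exact pullback.condition
  have hy₁ : y₁ = x₀ := pt_ext G (by rw [← gr.src, hc, (fq ≫ fr ≫ fp).src])
  have hy₂ : y₂ = x₃ := pt_ext G (by rw [← gr.tgt, hc, (fq ≫ fr ≫ fp).tgt])
  subst hy₁ hy₂
  have hgr : gr = fq ≫ fr ≫ fp := hom_ext hc
  obtain ⟨w, h1, h2, -, -⟩ := exists_of_chain G ιP (gq ≫ fq) fr (fp ≫ gp)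
    (isP_comp D hgq hfq) (isP_comp D hfp hgp)
  refine ⟨w, by rw [h1, e2'], ?_⟩
  rw [h2, e4, hgr]
  congr 1
  simp

/-- the equivalence relation `R₂ ⇉ R` as a groupoid scheme. -/
noncomputable def act : Grpd.GroupoidScheme S :=
  EqvGrpd.mk G.pR (σ₂ G ιP) (τ₂ G ιP)
    (hst₂ G ιP)
    (fun a b h1 h2 => jm₂ a b h1 h2)
    (exists_e₂ D).choose (exists_e₂ D).choose_spec.1 (exists_e₂ D).choose_spec.2
    (exists_i₂ D).choose (exists_i₂ D).choose_spec.1 (exists_i₂ D).choose_spec.2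
    (exists_c₂ D).choose (exists_c₂ D).choose_spec.1 (exists_c₂ D).choose_spec.2

@[simp] theorem act_U : (act D).U = G.R := rfl
@[simp] theorem act_R : (act D).R = R₂ G ιP := rfl
@[simp] theorem act_s : (act D).s = σ₂ G ιP := rfl
@[simp] theorem act_t : (act D).t = τ₂ G ιP := rfl
@[simp] theorem act_pU : (act D).pU = G.pR := rfl

theorem mono_j_act : Mono (act D).j := by
  refine ⟨fun {Z} a b hab => jm₂ (G := G) (ιP := ιP) a b ?_ ?_⟩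
  · have := congrArg (· ≫ pullback.fst _ _) hab
    unfold Grpd.GroupoidScheme.j at this
    simp only [Category.assoc] at this
    rw [pullback.lift_fst] at this
    exact this
  · have := congrArg (· ≫ pullback.snd _ _) hab
    unfold Grpd.GroupoidScheme.j at this
    simp only [Category.assoc] at this
    rw [pullback.lift_snd] at this
    exact this

section inst

variable (G ιP)

instance isFinite_σ₂ [IsFinite (ιP ≫ G.s)] [IsFinite (ιP ≫ G.t)] : IsFinite (σ₂ G ιP) := by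
  unfold σ₂ πr
  infer_instance

instance flat_σ₂ [Flat (ιP ≫ G.s)] [Flat (ιP ≫ G.t)] : Flat (σ₂ G ιP) := by
  unfold σ₂ πr
  infer_instance

instance lfp_σ₂ [LocallyOfFinitePresentation (ιP ≫ G.s)]
    [LocallyOfFinitePresentation (ιP ≫ G.t)] : LocallyOfFinitePresentation (σ₂ G ιP) := by
  unfold σ₂ πr
  infer_instance

end inst

end grpd

end Groth.Agent.Lib.Helper11.BiAct
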