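import Mathlib

/-!
# Determinant fractional ideals I : commutative algebra (helper11)

Namespace `Groth.Agent.Lib.Helper11.Bir`.
-/

set_option autoImplicit false
set_option linter.style.haveILetI false
universe u

namespace Groth.Agent.Lib.Helper11.Bir

open Matrix

section Det

variable {R : Type*} [CommRing R]

/-- for a free algebra `M` of rank `d`, the `d × d` determinant of functionals against `y • m` is the norm of `y` times
the determinant against `m` -/
theorem det_apply_mul {M : Type*} [CommRing M] [Algebra R M] {d : ℕ} (ε : Module.Basis (Fin d) R M)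
    (Φ : Fin d → (M →ₗ[R] R)) (m : Fin d → M) (y : M) :
    (Matrix.of fun i j => Φ i (y * m j)).det =
      Algebra.norm R y * (Matrix.of fun i j => Φ i (m j)).det := by
  classical
  set P : Matrix (Fin d) (Fin d) R := Matrix.of fun i k => Φ i (ε k) with hP
  set L : Matrix (Fin d) (Fin d) R := Algebra.leftMulMatrix ε y with hL
  set Q : Matrix (Fin d) (Fin d) R := Matrix.of fun l j => ε.repr (m j) l with hQ
  have h1 : (Matrix.of fun i j => Φ i (m j)) = P * Q := by
    ext i j
    simp only [Matrix.of_apply, Matrix.mul_apply, hP, hQ]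
    conv_lhs => rw [← ε.sum_repr (m j)]
    rw [map_sum]
    refine Finset.sum_congr rfl fun l _ => ?_
    rw [map_smul, smul_eq_mul, mul_comm]
  have h2 : (Matrix.of fun i j => Φ i (y * m j)) = P * L * Q := by
    ext i j
    simp only [Matrix.of_apply, Matrix.mul_apply, hP, hQ, hL]
    conv_lhs => rw [← ε.sum_repr (m j)]
    rw [Finset.mul_sum, map_sum]
    refine Finset.sum_congr rfl fun l _ => ?_
    rw [mul_smul_comm, map_smul, smul_eq_mul, mul_comm]
    congr 1
    conv_lhs => rw [← ε.sum_repr (y * ε l)]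
    rw [map_sum]
    refine Finset.sum_congr rfl fun k _ => ?_
    rw [map_smul, smul_eq_mul, Algebra.leftMulMatrix_eq_repr_mul, mul_comm]
  rw [h1, h2, Matrix.det_mul, Matrix.det_mul, Matrix.det_mul, Algebra.norm_eq_matrix_det ε y]
  ring

/-- multilinear expansion of a determinant whose columns are linear combinations with common coefficients -/
theorem det_sum_mul_eq {S : Type*} [CommRing S] {d : ℕ} {Λ : Type*} [Fintype Λ] (c : Λ → S)
    (a : Λ → Fin d → Fin d → S) :
    (Matrix.of fun i j => ∑ l, c l * a l i j).det =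
      ∑ f : Fin d → Λ, (∏ j, c (f j)) * (Matrix.of fun i j => a (f j) i j).det := by
  classical
  have key : ∀ M : Matrix (Fin d) (Fin d) S, M.det = Matrix.detRowAlternating (fun j => fun i => M i j) := by
    intro M
    rw [← Matrix.det_transpose]
    rfl
  rw [key]
  have h1 : (fun j => fun i => (Matrix.of fun i j => ∑ l, c l * a l i j) i j) =
      fun j => ∑ l, c l • (fun i => a l i j) := by
    funext j i
    simp [Finset.sum_apply]
  rw [h1]
  have h2 := (Matrix.detRowAlternating (n := Fin d) (R := S)).toMultilinearMap.map_sum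
    (fun j l => c l • (fun i => a l i j))
  simp only [AlternatingMap.coe_multilinearMap] at h2
  rw [h2]
  refine Finset.sum_congr rfl fun f _ => ?_
  have h3 := (Matrix.detRowAlternating (n := Fin d) (R := S)).toMultilinearMap.map_smul_univ
    (fun j => c (f j)) (fun j => fun i => a (f j) i j)
  simp only [AlternatingMap.coe_multilinearMap] at h3
  rw [h3, key, smul_eq_mul]
  rfl

end Det

section LM

variable {R S B BS : Type*} [CommRing R] [CommRing S] [CommRing B] [CommRing BS]
  [Algebra R S] [Algebra R B] [Algebra S BS]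

/-- the determinant of functionals against elements -/
def delta {d : ℕ} (φ : Fin d → (B →ₗ[R] R)) (b : Fin d → B) : R := (Matrix.of fun i j => φ i (b j)).det

variable (R B) in
/-- generators of the determinant fractional ideal -/
def gens (D : ℕ) (e : ℕ → S) : Set S :=
  {ε | ∃ (d : ℕ) (_ : 1 ≤ d) (_ : d ≤ D) (φ : Fin d → (B →ₗ[R] R)) (b : Fin d → B),
    ε = e d * algebraMap R S (delta φ b)}

variable (R B) in
/-- the determinant fractional ideal -/
def fracIdeal (D : ℕ) (e : ℕ → S) : Submodule R S := Submodule.span R (gens R B D e)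

variable (R B) in
/-- the stabiliser subalgebra of the determinant fractional ideal -/
def stab (D : ℕ) (e : ℕ → S) : Subalgebra R S where
  carrier := {c | ∀ ε ∈ fracIdeal R B D e, c * ε ∈ fracIdeal R B D e}
  mul_mem' {a b} ha hb ε hε := by
    rw [mul_assoc]
    exact ha _ (hb _ hε)
  one_mem' ε hε := by rwa [one_mul]
  add_mem' {a b} ha hb ε hε := by
    rw [add_mul]
    exact add_mem (ha _ hε) (hb _ hε)
  zero_mem' ε _ := by
    rw [zero_mul]
    exact zero_mem _
  algebraMap_mem' r ε hε := by
    rw [← Algebra.smul_def]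
    exact Submodule.smul_mem _ r hε

theorem mem_stab {D : ℕ} {e : ℕ → S} {c : S} :
    c ∈ stab R B D e ↔ ∀ ε ∈ fracIdeal R B D e, c * ε ∈ fracIdeal R B D e := Iff.rfl

/-- membership in the stabiliser can be tested on generators -/
theorem mem_stab_of_gens {D : ℕ} {e : ℕ → S} {c : S}
    (h : ∀ ε ∈ gens R B D e, c * ε ∈ fracIdeal R B D e) : c ∈ stab R B D e := by
  intro ε hε
  induction hε using Submodule.span_induction with
  | mem x hx => exact h x hx
  | zero => rw [mul_zero]; exact zero_mem _
  | add x y _ _ hx hy => rw [mul_add]; exact add_mem hx hy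
  | smul r x _ hx => rw [mul_smul_comm]; exact Submodule.smul_mem _ r hx

/-- linear combinations of images of `B` with coefficients in `K` -/
def InSpan (K : Set S) (ρ : B →+* BS) (x : BS) : Prop :=
  ∃ (ι : Type) (_ : Fintype ι) (c : ι → S) (b : ι → B), (∀ l, c l ∈ K) ∧ x = ∑ l, c l • ρ (b l)

namespace InSpan

variable {K K' K'' : Set S} {ρ : B →+* BS} {x x' : BS}

theorem mono (h : InSpan K ρ x) (hK : K ⊆ K') : InSpan K' ρ x := by
  obtain ⟨ι, _, c, b, hc, rfl⟩ := h
  exact ⟨ι, inferInstance, c, b, fun l => hK (hc l), rfl⟩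

theorem add (h : InSpan K ρ x) (h' : InSpan K ρ x') : InSpan K ρ (x + x') := by
  obtain ⟨ι, _, c, b, hc, rfl⟩ := h
  obtain ⟨ι', _, c', b', hc', rfl⟩ := h'
  refine ⟨ι ⊕ ι', inferInstance, Sum.elim c c', Sum.elim b b', ?_, ?_⟩
  · rintro (l | l)
    · exact hc l
    · exact hc' l
  · rw [Fintype.sum_sum_type]
    rfl

theorem zero : InSpan K ρ (0 : BS) :=
  ⟨PEmpty, inferInstance, PEmpty.elim, PEmpty.elim, fun l => l.elim, by simp⟩

theorem sum {κ : Type*} (s : Finset κ) (y : κ → BS) (h : ∀ k ∈ s, InSpan K ρ (y k)) :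
    InSpan K ρ (∑ k ∈ s, y k) := by
  classical
  induction s using Finset.induction_on with
  | empty => simpa using zero
  | insert a s ha ih =>
    rw [Finset.sum_insert ha]
    exact (h a (Finset.mem_insert_self a s)).add (ih fun k hk => h k (Finset.mem_insert_of_mem hk))

theorem mul (h : InSpan K ρ x) (h' : InSpan K' ρ x') (hK : ∀ a ∈ K, ∀ a' ∈ K', a * a' ∈ K'') :
    InSpan K'' ρ (x * x') := by
  obtain ⟨ι, _, c, b, hc, rfl⟩ := h
  obtain ⟨ι', _, c', b', hc', rfl⟩ := h'
  refine ⟨ι × ι', inferInstance, fun p => c p.1 * c' p.2, fun p => b p.1 * b' p.2,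
    fun p => hK _ (hc p.1) _ (hc' p.2), ?_⟩
  rw [Finset.sum_mul_sum, Fintype.sum_prod_type]
  refine Finset.sum_congr rfl fun l _ => Finset.sum_congr rfl fun l' _ => ?_
  rw [smul_mul_smul_comm, map_mul]

theorem of_mem {c : S} (hc : c ∈ K) (b : B) : InSpan K ρ (c • ρ b) :=
  ⟨PUnit, inferInstance, fun _ => c, fun _ => b, fun _ => hc, by simp⟩

theorem one (h1 : (1 : S) ∈ K) : InSpan K ρ (1 : BS) := by
  have := of_mem (ρ := ρ) h1 (1 : B)
  rwa [map_one, one_smul] at this

theorem pow (h : InSpan K ρ x) (h1 : (1 : S) ∈ K) (hK : ∀ a ∈ K, ∀ a' ∈ K, a * a' ∈ K) (n : ℕ) :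
    InSpan K ρ (x ^ n) := by
  induction n with
  | zero => rw [pow_zero]; exact one h1
  | succ n ih => rw [pow_succ]; exact ih.mul h hK

/-- positive powers stay in the span of a set absorbing a multiplicatively closed set -/
theorem pow_pos (h : InSpan K ρ x) (hK' : K ⊆ K') (h1 : (1 : S) ∈ K')
    (hK'' : ∀ a ∈ K', ∀ a' ∈ K', a * a' ∈ K') (hK : ∀ a ∈ K', ∀ a' ∈ K, a * a' ∈ K) {n : ℕ} (hn : 1 ≤ n) :
    InSpan K ρ (x ^ n) := by
  obtain ⟨m, rfl⟩ : ∃ m, n = m + 1 := ⟨n - 1, by omega⟩
  rw [pow_succ]
  exact ((h.mono hK').pow h1 hK'' m).mul h hK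

end InSpan

/-- the key multilinear identity, as a hypothesis -/
structure KeyHyp (ρ : B →+* BS) (N : BS →* S) (D : ℕ) (e : ℕ → S) : Prop where
  key : ∀ (d : ℕ), 1 ≤ d → d ≤ D → ∀ (φ : Fin d → (B →ₗ[R] R)) (b : Fin d → B) (x : BS)
    (ι : Type) [Fintype ι] (c : ι → S) (b' : ι → B), x ^ (D / d) = ∑ l, c l • ρ (b' l) →
    N x * (e d * algebraMap R S (delta φ b)) =
      e d * (Matrix.of fun i j => ∑ l, c l * algebraMap R S (φ i (b' l * b j))).det

variable {ρ : B →+* BS} {N : BS →* S} {D : ℕ} {e : ℕ → S}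

/-- consequence of the key identity: the norm of a combination with coefficients in `K` multiplies a generator into
combinations of generators with coefficients products of `d` elements of `K` -/
theorem KeyHyp.mul_gen_eq (h : KeyHyp (R := R) ρ N D e) {d : ℕ} (hd1 : 1 ≤ d) (hdD : d ≤ D)
    (φ : Fin d → (B →ₗ[R] R)) (b : Fin d → B) (x : BS)
    (ι : Type) [Fintype ι] (c : ι → S) (b' : ι → B) (hx : x ^ (D / d) = ∑ l, c l • ρ (b' l)) :
    N x * (e d * algebraMap R S (delta φ b)) =
      ∑ f : Fin d → ι, (∏ j, c (f j)) * (e d * algebraMap R S (delta φ (fun j => b' (f j) * b j))) := by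
  rw [h.key d hd1 hdD φ b x ι c b' hx, det_sum_mul_eq, Finset.mul_sum]
  refine Finset.sum_congr rfl fun f _ => ?_
  have : (Matrix.of fun i j => algebraMap R S (φ i (b' (f j) * b j))).det =
      algebraMap R S (delta φ (fun j => b' (f j) * b j)) := by
    unfold delta
    rw [RingHom.map_det]
    rfl
  rw [this]
  ring

/-- **stability**: the norm of a combination of images of `B` with coefficients in the stabiliser lies in the
stabiliser -/
theorem KeyHyp.norm_mem_stab (h : KeyHyp (R := R) ρ N D e) (x : BS)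
    (hx : InSpan (stab R B D e : Set S) ρ x) : N x ∈ stab R B D e := by
  apply mem_stab_of_gens
  rintro ε ⟨d, hd1, hdD, φ, b, rfl⟩
  obtain ⟨ι, _, c, b', hc, hxp⟩ := hx.pow (one_mem _) (fun a ha a' ha' => mul_mem ha ha') (D / d)
  rw [h.mul_gen_eq hd1 hdD φ b x ι c b' hxp]
  refine Submodule.sum_mem _ fun f _ => ?_
  have hprod : (∏ j, c (f j)) ∈ stab R B D e := prod_mem fun j _ => hc (f j)
  exact hprod _ (Submodule.subset_span ⟨d, hd1, hdD, φ, _, rfl⟩)

end LM

section Prime

variable {R S B BS : Type*} [CommRing R] [CommRing S] [CommRing B] [CommRing BS]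
  [Algebra R S] [Algebra R B] [Algebra S BS]
variable {ρ : B →+* BS} {N : BS →* S} {D : ℕ} {e : ℕ → S}

variable (R B D e) in
/-- the determinant fractional ideal as a module over its stabiliser -/
def fracIdealC : Submodule (stab R B D e) S where
  carrier := fracIdeal R B D e
  add_mem' := add_mem
  zero_mem' := zero_mem _
  smul_mem' c ε hε := by
    have : c • ε = (c : S) * ε := rfl
    rw [this]
    exact c.2 ε hε

theorem mem_fracIdealC {ε : S} : ε ∈ fracIdealC R B D e ↔ ε ∈ fracIdeal R B D e := Iff.rfl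

theorem fg_fracIdealC (hfg : (fracIdeal R B D e).FG) : (fracIdealC R B D e).FG := by
  obtain ⟨T, hT⟩ := hfg
  refine ⟨T, le_antisymm ?_ ?_⟩
  · rw [Submodule.span_le]
    intro t ht
    change t ∈ fracIdeal R B D e
    rw [← hT]
    exact Submodule.subset_span ht
  · intro ε hε
    have h1 : ε ∈ Submodule.span R (T : Set S) := by
      rw [hT]
      exact hε
    exact Submodule.span_le_restrictScalars R (stab R B D e) (T : Set S) h1

/-- the image of an ideal of the stabiliser -/
def idealImage (𝔮 : Ideal (stab R B D e)) : Set S := (fun c : stab R B D e => (c : S)) '' (𝔮 : Set (stab R B D e))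

theorem idealImage_subset (𝔮 : Ideal (stab R B D e)) : idealImage 𝔮 ⊆ (stab R B D e : Set S) := by
  rintro _ ⟨c, -, rfl⟩
  exact c.2

theorem mul_mem_idealImage (𝔮 : Ideal (stab R B D e)) {a a' : S} (ha : a ∈ (stab R B D e : Set S))
    (ha' : a' ∈ idealImage 𝔮) : a * a' ∈ idealImage 𝔮 := by
  obtain ⟨c, hc, rfl⟩ := ha'
  exact ⟨⟨a, ha⟩ * c, 𝔮.mul_mem_left _ hc, rfl⟩

theorem prod_mem_idealImage (𝔮 : Ideal (stab R B D e)) {d : ℕ} (hd : 1 ≤ d) (c : Fin d → S)
    (hc : ∀ j, c j ∈ idealImage 𝔮) : (∏ j, c j) ∈ idealImage 𝔮 := by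
  obtain ⟨m, rfl⟩ : ∃ m, d = m + 1 := ⟨d - 1, by omega⟩
  rw [Fin.prod_univ_succ, mul_comm]
  refine mul_mem_idealImage 𝔮 ?_ (hc 0)
  exact prod_mem fun j _ => idealImage_subset 𝔮 (hc _)

/-- the norm of a combination with coefficients in `𝔮` multiplies the fractional ideal into `𝔮` times it -/
theorem KeyHyp.norm_mul_mem_smul (h : KeyHyp (R := R) ρ N D e) (𝔮 : Ideal (stab R B D e)) (x : BS)
    (hx : InSpan (idealImage 𝔮) ρ x) (ε : S) (hε : ε ∈ fracIdeal R B D e) :
    N x * ε ∈ 𝔮 • fracIdealC R B D e := by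
  induction hε using Submodule.span_induction with
  | mem y hy =>
    obtain ⟨d, hd1, hdD, φ, b, rfl⟩ := hy
    have hpos : 1 ≤ D / d := Nat.div_pos hdD hd1
    obtain ⟨ι, _, c, b', hc, hxp⟩ := hx.pow_pos (idealImage_subset 𝔮) (one_mem _)
      (fun a ha a' ha' => mul_mem ha ha') (fun a ha a' ha' => mul_mem_idealImage 𝔮 ha ha') hpos
    rw [h.mul_gen_eq hd1 hdD φ b x ι c b' hxp]
    refine Submodule.sum_mem _ fun f _ => ?_
    obtain ⟨q, hq, hqe⟩ := prod_mem_idealImage 𝔮 hd1 (fun j => c (f j)) (fun j => hc (f j))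
    have hgen : e d * algebraMap R S (delta φ (fun j => b' (f j) * b j)) ∈ fracIdealC R B D e :=
      Submodule.subset_span ⟨d, hd1, hdD, φ, _, rfl⟩
    have := Submodule.smul_mem_smul hq hgen
    have h2 : q • (e d * algebraMap R S (delta φ (fun j => b' (f j) * b j))) =
        (∏ j, c (f j)) * (e d * algebraMap R S (delta φ (fun j => b' (f j) * b j))) := by
      rw [← hqe]
      rfl
    rwa [h2] at this
  | zero => rw [mul_zero]; exact zero_mem _
  | add y z _ _ hy hz => rw [mul_add]; exact add_mem hy hz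
  | smul r y _ hy =>
    rw [mul_smul_comm]
    have : r • (N x * y) = (algebraMap R (stab R B D e) r) • (N x * y) := by
      rw [algebraMap_smul]
    rw [this]
    exact Submodule.smul_mem _ _ hy

/-- **the vanishing property**: the norm of a combination with coefficients in a prime `𝔮` of the stabiliser lies in
`𝔮` -/
theorem KeyHyp.norm_mem_prime (h : KeyHyp (R := R) ρ N D e) (hfg : (fracIdeal R B D e).FG)
    (hfaith : ∀ c : S, (∀ ε ∈ fracIdeal R B D e, c * ε = 0) → c = 0)
    (𝔮 : Ideal (stab R B D e)) [𝔮.IsPrime] (x : BS) (hx : InSpan (idealImage 𝔮) ρ x)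
    (hN : N x ∈ stab R B D e) : (⟨N x, hN⟩ : stab R B D e) ∈ 𝔮 := by
  classical
  obtain ⟨u, hu⟩ : ∃ u : stab R B D e, u = ⟨N x, hN⟩ := ⟨_, rfl⟩
  have huS : (u : S) = N x := by rw [hu]
  rw [← hu]
  haveI : Module.Finite (stab R B D e) (fracIdealC R B D e) := Module.Finite.iff_fg.2 (fg_fracIdealC hfg)
  let f : Module.End (stab R B D e) (fracIdealC R B D e) :=
    Algebra.lsmul (stab R B D e) (stab R B D e) (fracIdealC R B D e) u
  have hI : LinearMap.range f ≤ 𝔮 • (⊤ : Submodule (stab R B D e) (fracIdealC R B D e)) := by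
    rintro _ ⟨m, rfl⟩
    rw [Submodule.mem_smul_top_iff]
    have : ((f m : fracIdealC R B D e) : S) = N x * (m : S) := by
      rw [← huS]
      rfl
    rw [this]
    exact h.norm_mul_mem_smul 𝔮 x hx m m.2
  obtain ⟨p, hpm, -, hpc, hp0⟩ :=
    LinearMap.exists_monic_and_natDegree_eq_and_coeff_mem_pow_and_aeval_eq_zero (stab R B D e) f 𝔮 hI
  have h1 : Polynomial.aeval f p = Algebra.lsmul (stab R B D e) (stab R B D e) (fracIdealC R B D e)
      (Polynomial.aeval u p) :=
    Polynomial.aeval_algHom_apply (Algebra.lsmul (stab R B D e) (stab R B D e) (fracIdealC R B D e)) u p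
  have h2 : Polynomial.aeval u p = 0 := by
    apply Subtype.ext
    apply hfaith
    intro ε hε
    have h3 : (Algebra.lsmul (stab R B D e) (stab R B D e) (fracIdealC R B D e) (Polynomial.aeval u p))
        ⟨ε, hε⟩ = 0 := by
      rw [← h1, hp0]
      rfl
    exact congrArg (fun m : fracIdealC R B D e => (m : S)) h3
  have h4 : u ^ p.natDegree ∈ 𝔮 := by
    have h5 := congrArg (Polynomial.aeval u) hpm.as_sum
    rw [h2, map_add, map_pow, Polynomial.aeval_X, map_sum] at h5
    have h6 : ∑ i ∈ Finset.range p.natDegree,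
        Polynomial.aeval u (Polynomial.C (p.coeff i) * Polynomial.X ^ i) ∈ 𝔮 := by
      refine Ideal.sum_mem _ fun i hi => ?_
      rw [map_mul, Polynomial.aeval_C, map_pow, Polynomial.aeval_X]
      apply Ideal.mul_mem_right
      have hi' : p.natDegree - i ≠ 0 := by
        have := Finset.mem_range.1 hi
        omega
      exact Ideal.pow_le_self hi' (hpc i)
    have h7 : u ^ p.natDegree = -(∑ i ∈ Finset.range p.natDegree,
        Polynomial.aeval u (Polynomial.C (p.coeff i) * Polynomial.X ^ i)) := by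
      rw [eq_neg_iff_add_eq_zero]
      exact h5.symm
    rw [h7]
    exact 𝔮.neg_mem h6
  exact Ideal.IsPrime.mem_of_pow_mem inferInstance _ h4

end Prime

section Final

variable {R S B BS : Type*} [CommRing R] [CommRing S] [CommRing B] [CommRing BS]
  [Algebra R S] [Algebra R B] [Algebra S BS]
variable {ρ : B →+* BS} {N : BS →* S} {D : ℕ} {e : ℕ → S}

/-- **vanishing on fibres**: if `y` lies in every prime over `𝔮` then the norm of its image lies in `𝔮` -/
theorem KeyHyp.norm_mem_of_forall_prime (h : KeyHyp (R := R) ρ N D e) (hfg : (fracIdeal R B D e).FG)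
    (hfaith : ∀ c : S, (∀ ε ∈ fracIdeal R B D e, c * ε = 0) → c = 0)
    (hNalg : ∀ c : S, N (c • (1 : BS)) = c ^ D)
    {PV : Type*} [CommRing PV] (ψ : stab R B D e →+* PV) (ev : PV →+* BS)
    (hev : ∀ y, InSpan (stab R B D e : Set S) ρ (ev y))
    (hevψ : ∀ c : stab R B D e, ev (ψ c) = (c : S) • (1 : BS))
    (𝔮 : Ideal (stab R B D e)) [h𝔮 : 𝔮.IsPrime] (y : PV)
    (hy : ∀ 𝔓 : Ideal PV, 𝔓.IsPrime → 𝔓.comap ψ = 𝔮 → y ∈ 𝔓) :
    (⟨N (ev y), h.norm_mem_stab _ (hev y)⟩ : stab R B D e) ∈ 𝔮 := by
  classical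
  let Mon : Submonoid PV :=
    { carrier := {w | ∃ s : stab R B D e, s ∉ 𝔮 ∧ ∃ m : ℕ, w = ψ s * y ^ m}
      mul_mem' := by
        rintro _ _ ⟨s, hs, m, rfl⟩ ⟨s', hs', m', rfl⟩
        refine ⟨s * s', fun hc => (h𝔮.mem_or_mem hc).elim hs hs', m + m', ?_⟩
        rw [map_mul, pow_add]
        ring
      one_mem' := ⟨1, fun hc => h𝔮.ne_top ((Ideal.eq_top_iff_one _).2 hc), 0, by simp⟩ }
  have hex : ∃ s : stab R B D e, s ∉ 𝔮 ∧ ∃ m : ℕ, ψ s * y ^ m ∈ 𝔮.map ψ := by
    by_contra hcon
    have hdisj : Disjoint ((𝔮.map ψ : Ideal PV) : Set PV) (Mon : Set PV) := by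
      rw [Set.disjoint_left]
      rintro w hw ⟨s, hs, m, rfl⟩
      exact hcon ⟨s, hs, m, hw⟩
    obtain ⟨𝔓, h𝔓, hle, hd⟩ := Ideal.exists_le_prime_disjoint (𝔮.map ψ) Mon hdisj
    have hcomap : 𝔓.comap ψ = 𝔮 := by
      apply le_antisymm
      · intro c hc
        by_contra hcq
        exact Set.disjoint_left.1 hd hc ⟨c, hcq, 0, by simp⟩
      · exact Ideal.le_comap_of_map_le hle
    have hy𝔓 := hy 𝔓 h𝔓 hcomap
    exact Set.disjoint_left.1 hd hy𝔓
      ⟨1, fun hc => h𝔮.ne_top ((Ideal.eq_top_iff_one _).2 hc), 1, by simp⟩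
  obtain ⟨s, hs, m, hmem⟩ := hex
  have hclaim : ∀ w ∈ 𝔮.map ψ, InSpan (idealImage 𝔮) ρ (ev w) := by
    intro w hw
    induction hw using Submodule.span_induction with
    | mem z hz =>
      obtain ⟨q, hq, rfl⟩ := hz
      rw [hevψ]
      have := InSpan.of_mem (ρ := ρ) (K := idealImage 𝔮) (c := (q : S)) ⟨q, hq, rfl⟩ (1 : B)
      rwa [map_one] at this
    | zero => rw [map_zero]; exact InSpan.zero
    | add z z' _ _ hz hz' => rw [map_add]; exact hz.add hz'
    | smul a z _ hz =>
      rw [smul_eq_mul, map_mul]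
      exact (hev a).mul hz fun a ha a' ha' => mul_mem_idealImage 𝔮 ha ha'
  have hx := hclaim _ hmem
  have hNx : N (ev (ψ s * y ^ m)) = (s : S) ^ D * N (ev y) ^ m := by
    rw [map_mul, map_pow, map_mul, map_pow, hevψ, hNalg]
  have hmemC : N (ev (ψ s * y ^ m)) ∈ stab R B D e := h.norm_mem_stab _ (hx.mono (idealImage_subset 𝔮))
  have h1 := h.norm_mem_prime hfg hfaith 𝔮 _ hx hmemC
  have h2 : (⟨N (ev (ψ s * y ^ m)), hmemC⟩ : stab R B D e) =
      s ^ D * (⟨N (ev y), h.norm_mem_stab _ (hev y)⟩ : stab R B D e) ^ m := by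
    apply Subtype.ext
    exact hNx
  rw [h2] at h1
  rcases h𝔮.mem_or_mem h1 with h3 | h3
  · exact absurd (h𝔮.mem_of_pow_mem _ h3) hs
  · exact h𝔮.mem_of_pow_mem _ h3

/-- the stabiliser is a finite module over a Noetherian base -/
theorem finite_stab [IsNoetherianRing R] (hfg : (fracIdeal R B D e).FG)
    (hfaith : ∀ c : S, (∀ ε ∈ fracIdeal R B D e, c * ε = 0) → c = 0) :
    Module.Finite R (stab R B D e) := by
  haveI : Module.Finite R (fracIdeal R B D e) := Module.Finite.iff_fg.2 hfg
  haveI : IsNoetherian R (fracIdeal R B D e) := isNoetherian_of_isNoetherianRing_of_finite R _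
  let Φ : stab R B D e →ₗ[R] (fracIdeal R B D e →ₗ[R] fracIdeal R B D e) :=
    { toFun := fun c =>
        { toFun := fun ε => ⟨(c : S) * ε, c.2 ε ε.2⟩
          map_add' := fun ε ε' => Subtype.ext (mul_add _ _ _)
          map_smul' := fun r ε => Subtype.ext (mul_smul_comm _ _ _) }
      map_add' := fun c c' => LinearMap.ext fun ε => Subtype.ext (add_mul _ _ _)
      map_smul' := fun r c => LinearMap.ext fun ε => Subtype.ext (smul_mul_assoc _ _ _) }
  have hinj : Function.Injective Φ := by
    rw [injective_iff_map_eq_zero]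
    intro c hc
    apply Subtype.ext
    apply hfaith
    intro ε hε
    have := congrArg (fun g : fracIdeal R B D e →ₗ[R] fracIdeal R B D e => ((g ⟨ε, hε⟩ : fracIdeal R B D e) : S)) hc
    exact this
  exact Module.Finite.of_injective Φ hinj

end Final

section Localization

variable {R R' B B' : Type*} [CommRing R] [CommRing R'] [CommRing B] [CommRing B']
  [Algebra R R'] [Algebra R B] [Algebra R' B'] [Algebra B B'] [Algebra R B'] [IsScalarTower R B B']
  [IsScalarTower R R' B'] (r : R) [IsLocalization.Away r R'] [IsLocalization.Away (algebraMap R B r) B']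

include r in
/-- functionals localize -/
theorem exists_localized_functional (φ : B →ₗ[R] R) :
    ∃ Φ : B' →ₗ[R'] R', ∀ z : B, Φ (algebraMap B B' z) = algebraMap R R' (φ z) := by
  let f : B →ₗ[R] B' := (IsScalarTower.toAlgHom R B B').toLinearMap
  haveI hloc : IsLocalization (Algebra.algebraMapSubmonoid B (Submonoid.powers r)) B' := by
    rw [Algebra.algebraMapSubmonoid_powers]
    infer_instance
  haveI : IsLocalizedModule (Submonoid.powers r) f := isLocalizedModule_iff_isLocalization.mpr hloc
  have hunit : ∀ x : Submonoid.powers r, IsUnit ((algebraMap R (Module.End R R')) x) :=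
    IsLocalizedModule.map_units (Algebra.linearMap R R')
  let Φ₀ : B' →ₗ[R] R' :=
    IsLocalizedModule.lift (Submonoid.powers r) f ((Algebra.linearMap R R').comp φ) hunit
  refine ⟨LinearMap.extendScalarsOfIsLocalization (Submonoid.powers r) R' Φ₀, fun z => ?_⟩
  exact IsLocalizedModule.lift_apply (Submonoid.powers r) f ((Algebra.linearMap R R').comp φ) hunit z

include r in
omit [IsLocalization.Away ((algebraMap R B) r) B'] in
/-- functionals on the localization come from functionals, up to a power of `r` -/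
theorem exists_lift_functional [Module.FinitePresentation R B] (φ' : B' →ₗ[R'] R') :
    ∃ (h : B →ₗ[R] R) (k : ℕ), ∀ z : B,
      algebraMap R R' (h z) = algebraMap R R' r ^ k * φ' (algebraMap B B' z) := by
  let f : B →ₗ[R] B' := (IsScalarTower.toAlgHom R B B').toLinearMap
  let g : B →ₗ[R] R' := (φ'.restrictScalars R).comp f
  obtain ⟨h, ⟨_, ⟨k, rfl⟩⟩, hs⟩ := Module.FinitePresentation.exists_lift_of_isLocalizedModule
    (Submonoid.powers r) (Algebra.linearMap R R') g
  refine ⟨h, k, fun z => ?_⟩
  have := LinearMap.congr_fun hs z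
  simp only [LinearMap.coe_comp, Function.comp_apply, Algebra.linearMap_apply, LinearMap.smul_apply] at this
  rw [this]
  change (r ^ k) • φ' (algebraMap B B' z) = _
  rw [Algebra.smul_def, map_pow]

include r in
omit [IsLocalization.Away r R'] in
/-- a finite family of elements of the localization comes from the algebra after multiplication by a common power -/
theorem exists_common_pow {κ : Type*} [Finite κ] (z : κ → B') :
    ∃ (k : ℕ) (b : κ → B), ∀ j, algebraMap R R' r ^ k • z j = algebraMap B B' (b j) := by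
  classical
  cases nonempty_fintype κ
  have h0 : ∀ j, ∃ (n : ℕ) (a : B), z j * algebraMap B B' (algebraMap R B r) ^ n = algebraMap B B' a :=
    fun j => IsLocalization.Away.surj (algebraMap R B r) (z j)
  choose n a ha using h0
  refine ⟨Finset.univ.sup n, fun j => algebraMap R B r ^ (Finset.univ.sup n - n j) * a j, fun j => ?_⟩
  have hle : n j ≤ Finset.univ.sup n := Finset.le_sup (Finset.mem_univ j)
  have hr : algebraMap R' B' (algebraMap R R' r) = algebraMap B B' (algebraMap R B r) := by
    rw [← IsScalarTower.algebraMap_apply, ← IsScalarTower.algebraMap_apply]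
  rw [Algebra.smul_def, map_pow, hr, map_mul, ← ha j, map_pow]
  have : Finset.univ.sup n = (Finset.univ.sup n - n j) + n j := by omega
  conv_lhs => rw [this, pow_add]
  ring

include r in
/-- the determinant identity over a principal localization on which the algebra becomes free, with functionals and
elements coming from the unlocalized algebra -/
theorem det_localization {d : ℕ} (ε : Module.Basis (Fin d) R' B') (φ : Fin d → (B →ₗ[R] R)) (b : Fin d → B)
    (y' : B') {ι : Type*} [Fintype ι] (c' : ι → R') (b' : ι → B)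
    (hy : y' = ∑ l, c' l • algebraMap B B' (b' l)) :
    Algebra.norm R' y' * algebraMap R R' (delta φ b) =
      (Matrix.of fun i j => ∑ l, c' l * algebraMap R R' (φ i (b' l * b j))).det := by
  classical
  choose Φ hΦ using fun i => exists_localized_functional (R' := R') (B' := B') r (φ i)
  have h1 := det_apply_mul ε Φ (fun j => algebraMap B B' (b j)) y'
  have h2 : (Matrix.of fun i j => Φ i (algebraMap B B' (b j))).det = algebraMap R R' (delta φ b) := by
    unfold delta
    rw [RingHom.map_det]
    congr 1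
    ext i j
    exact hΦ i (b j)
  rw [h2] at h1
  rw [← h1]
  congr 1
  ext i j
  simp only [Matrix.of_apply]
  rw [hy, Finset.sum_mul, map_sum]
  refine Finset.sum_congr rfl fun l _ => ?_
  rw [smul_mul_assoc, map_smul, smul_eq_mul, ← map_mul, hΦ]

include r in
/-- on a principal localization where the algebra is free some determinant of functionals against elements becomes a
unit -/
theorem exists_delta_isUnit [Module.FinitePresentation R B] {d : ℕ} (ε : Module.Basis (Fin d) R' B') :
    ∃ (φ : Fin d → (B →ₗ[R] R)) (b : Fin d → B), IsUnit (algebraMap R R' (delta φ b)) := by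
  classical
  obtain ⟨k, b, hb⟩ := exists_common_pow (R' := R') (B := B) r (fun j => ε j)
  choose φ k' hφ using fun i => exists_lift_functional (R' := R') (B := B) (B' := B') r (ε.coord i)
  refine ⟨φ, b, ?_⟩
  have hru : IsUnit (algebraMap R R' r) := IsLocalization.Away.algebraMap_isUnit r
  have h1 : (Matrix.of fun i j => algebraMap R R' (φ i (b j))) =
      Matrix.diagonal fun i => algebraMap R R' r ^ k' i * algebraMap R R' r ^ k := by
    ext i j
    simp only [Matrix.of_apply]
    rw [hφ, ← hb, map_smul, Module.Basis.coord_apply, Module.Basis.repr_self, Matrix.diagonal_apply]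
    by_cases hij : i = j
    · subst hij
      simp
    · rw [if_neg hij, Finsupp.single_eq_of_ne hij]
      simp
  unfold delta
  rw [RingHom.map_det]
  have h2 : (algebraMap R R').mapMatrix (Matrix.of fun i j => φ i (b j)) =
      Matrix.of fun i j => algebraMap R R' (φ i (b j)) := by
    ext i j
    rfl
  rw [h2, h1, Matrix.det_diagonal]
  exact IsUnit.prod_univ_iff.2 fun i => (hru.pow _).mul (hru.pow _)

end Localization

section LocStab

variable {R R' B B' S S' : Type*} [CommRing R] [CommRing R'] [CommRing B] [CommRing B'] [CommRing S] [CommRing S']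
  [Algebra R R'] [Algebra R B] [Algebra R' B'] [Algebra B B'] [Algebra R B'] [IsScalarTower R B B']
  [IsScalarTower R R' B'] [Algebra R S] [Algebra R' S'] [Algebra S S'] [Algebra R S'] [IsScalarTower R S S']
  [IsScalarTower R R' S'] (r : R) [IsLocalization.Away r R'] [IsLocalization.Away (algebraMap R B r) B']
  (D : ℕ) (e : ℕ → S)

include r in
/-- the determinant fractional ideal maps into the one of a principal localization -/
theorem map_mem_fracIdeal {ε : S} (hε : ε ∈ fracIdeal R B D e) :
    algebraMap S S' ε ∈ fracIdeal R' B' D (fun d => algebraMap S S' (e d)) := by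
  induction hε using Submodule.span_induction with
  | mem x hx =>
    obtain ⟨d, hd1, hdD, φ, b, rfl⟩ := hx
    choose Φ hΦ using fun i => exists_localized_functional (R' := R') (B' := B') r (φ i)
    refine Submodule.subset_span ⟨d, hd1, hdD, Φ, fun j => algebraMap B B' (b j), ?_⟩
    rw [map_mul, ← IsScalarTower.algebraMap_apply R S S', IsScalarTower.algebraMap_apply R R' S']
    congr 2
    unfold delta
    rw [RingHom.map_det]
    congr 1
    ext i j
    exact (hΦ i (b j)).symm
  | zero => rw [map_zero]; exact zero_mem _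
  | add x y _ _ hx hy => rw [map_add]; exact add_mem hx hy
  | smul a x _ hx =>
    have h1 : algebraMap S S' (a • x) = algebraMap R R' a • algebraMap S S' x := by
      rw [Algebra.smul_def, map_mul, ← IsScalarTower.algebraMap_apply R S S', Algebra.smul_def,
        ← IsScalarTower.algebraMap_apply R R' S']
    rw [h1]
    exact Submodule.smul_mem _ _ hx

include r in
/-- every element of the determinant fractional ideal of a principal localization is, up to a power of `r`, the image
of an element of the determinant fractional ideal -/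
theorem exists_mem_fracIdeal_map [Module.FinitePresentation R B] {ε' : S'}
    (hε' : ε' ∈ fracIdeal R' B' D (fun d => algebraMap S S' (e d))) :
    ∃ (n : ℕ) (ι : S), ι ∈ fracIdeal R B D e ∧ algebraMap S S' ι = algebraMap R S' r ^ n * ε' := by
  classical
  have hrS : algebraMap R' S' (algebraMap R R' r) = algebraMap R S' r :=
    (IsScalarTower.algebraMap_apply R R' S' r).symm
  induction hε' using Submodule.span_induction with
  | mem x hx =>
    obtain ⟨d, hd1, hdD, φ', b', rfl⟩ := hx
    obtain ⟨k, b, hb⟩ := exists_common_pow (R' := R') (B := B) r b'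
    choose h₀ k₀ hh₀ using fun i => exists_lift_functional (R' := R') (B := B) (B' := B') r (φ' i)
    let K := Finset.univ.sup k₀
    let h : Fin d → (B →ₗ[R] R) := fun i => (r ^ (K - k₀ i)) • h₀ i
    have hh : ∀ i z, algebraMap R R' (h i z) = algebraMap R R' r ^ K * φ' i (algebraMap B B' z) := by
      intro i z
      have hle : k₀ i ≤ K := Finset.le_sup (Finset.mem_univ i)
      simp only [h, LinearMap.smul_apply, smul_eq_mul, map_mul, map_pow]
      rw [hh₀, ← mul_assoc, ← pow_add]
      congr 2
      omega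
    refine ⟨(K + k) * d, e d * algebraMap R S (delta h b), Submodule.subset_span ⟨d, hd1, hdD, h, b, rfl⟩, ?_⟩
    have hmat : (algebraMap R R').mapMatrix (Matrix.of fun i j => h i (b j)) =
        (algebraMap R R' r ^ (K + k)) • (Matrix.of fun i j => φ' i (b' j)) := by
      ext i j
      simp only [RingHom.mapMatrix_apply, Matrix.map_apply, Matrix.of_apply, Matrix.smul_apply, smul_eq_mul]
      rw [hh, ← hb, map_smul, smul_eq_mul, pow_add]
      ring
    have hdelta : algebraMap R R' (delta h b) = (algebraMap R R' r ^ (K + k)) ^ d * delta φ' b' := by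
      unfold delta
      rw [RingHom.map_det, hmat, Matrix.det_smul, Fintype.card_fin]
    rw [map_mul, ← IsScalarTower.algebraMap_apply R S S', IsScalarTower.algebraMap_apply R R' S', hdelta, map_mul,
      map_pow, map_pow, hrS, ← pow_mul]
    ring
  | zero => exact ⟨0, 0, zero_mem _, by simp⟩
  | add x y _ _ hx hy =>
    obtain ⟨n₁, ι₁, h₁, e₁⟩ := hx
    obtain ⟨n₂, ι₂, h₂, e₂⟩ := hy
    refine ⟨n₁ + n₂, (r ^ n₂) • ι₁ + (r ^ n₁) • ι₂,
      add_mem (Submodule.smul_mem _ _ h₁) (Submodule.smul_mem _ _ h₂), ?_⟩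
    rw [map_add, Algebra.smul_def, Algebra.smul_def, map_mul, map_mul, ← IsScalarTower.algebraMap_apply R S S',
      ← IsScalarTower.algebraMap_apply R S S', e₁, e₂, map_pow, map_pow]
    ring
  | smul a' x _ hx =>
    obtain ⟨n, ι, hι, eι⟩ := hx
    obtain ⟨p, a, ha⟩ := IsLocalization.Away.surj r a'
    refine ⟨n + p, a • ι, Submodule.smul_mem _ _ hι, ?_⟩
    rw [Algebra.smul_def, map_mul, ← IsScalarTower.algebraMap_apply R S S', eι,
      IsScalarTower.algebraMap_apply R R' S' a, ← ha, map_mul, map_pow, hrS, Algebra.smul_def]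
    ring

include r in
/-- the stabiliser maps into the stabiliser of a principal localization -/
theorem map_mem_stab [Module.FinitePresentation R B] {c : S} (hc : c ∈ stab R B D e) :
    algebraMap S S' c ∈ stab R' B' D (fun d => algebraMap S S' (e d)) := by
  intro ε' hε'
  obtain ⟨n, ι, hι, eι⟩ := exists_mem_fracIdeal_map (R' := R') (B := B) (B' := B') r D e hε'
  have h1 : algebraMap S S' (c * ι) ∈ fracIdeal R' B' D (fun d => algebraMap S S' (e d)) :=
    map_mem_fracIdeal (R' := R') (B' := B') r D e (hc ι hι)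
  have hru : IsUnit (algebraMap R R' r ^ n) := (IsLocalization.Away.algebraMap_isUnit r).pow n
  obtain ⟨u, hu⟩ := hru
  have hrS : algebraMap R' S' (algebraMap R R' r) = algebraMap R S' r :=
    (IsScalarTower.algebraMap_apply R R' S' r).symm
  have h2 : algebraMap S S' c * ε' = (↑u⁻¹ : R') • algebraMap S S' (c * ι) := by
    rw [map_mul, eι, Algebra.smul_def, ← hrS, ← map_pow, ← hu]
    have : algebraMap R' S' ↑u⁻¹ * (algebraMap S S' c * (algebraMap R' S' ↑u * ε')) =
        algebraMap R' S' (↑u⁻¹ * ↑u) * (algebraMap S S' c * ε') := by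
      rw [map_mul]
      ring
    rw [this, Units.inv_mul, map_one, one_mul]
  rw [h2]
  exact Submodule.smul_mem _ _ h1

include r in
/-- every element of the stabiliser of a principal localization is, up to a power of `r`, the image of an element of
the stabiliser -/
theorem exists_mem_stab_map [Module.FinitePresentation R B] [IsLocalization.Away (algebraMap R S r) S']
    (hfg : (fracIdeal R B D e).FG) {z : S'} (hz : z ∈ stab R' B' D (fun d => algebraMap S S' (e d))) :
    ∃ (n : ℕ) (t : S), t ∈ stab R B D e ∧ algebraMap S S' t = algebraMap R S' r ^ n * z := by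
  classical
  obtain ⟨T, hT⟩ := hfg
  have hrS : algebraMap S S' (algebraMap R S r) = algebraMap R S' r :=
    (IsScalarTower.algebraMap_apply R S S' r).symm
  obtain ⟨n₀, z₀, hz₀⟩ := IsLocalization.Away.surj (algebraMap R S r) z
  rw [hrS] at hz₀
  have hTmem : ∀ τ ∈ T, τ ∈ fracIdeal R B D e := fun τ hτ => by
    rw [← hT]
    exact Submodule.subset_span hτ
  have key : ∀ τ ∈ T, ∃ m : ℕ, (r ^ m) • (z₀ * τ) ∈ fracIdeal R B D e := by
    intro τ hτ
    have h1 : z * algebraMap S S' τ ∈ fracIdeal R' B' D (fun d => algebraMap S S' (e d)) :=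
      hz _ (map_mem_fracIdeal (R' := R') (B' := B') r D e (hTmem τ hτ))
    obtain ⟨n, ι, hι, eι⟩ := exists_mem_fracIdeal_map (R' := R') (B := B) (B' := B') r D e h1
    have h2 : algebraMap S S' ((r ^ n) • (z₀ * τ)) = algebraMap S S' ((r ^ n₀) • ι) := by
      rw [Algebra.smul_def, Algebra.smul_def, map_mul, map_mul, map_mul, ← IsScalarTower.algebraMap_apply R S S',
        ← IsScalarTower.algebraMap_apply R S S', eι, ← hz₀, map_pow, map_pow]
      ring
    obtain ⟨⟨_, ⟨m, rfl⟩⟩, hm⟩ := (IsLocalization.eq_iff_exists (Submonoid.powers (algebraMap R S r)) S').1 h2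
    refine ⟨m + n, ?_⟩
    have h3 : (r ^ (m + n)) • (z₀ * τ) = (r ^ (m + n₀)) • ι := by
      simp only at hm
      rw [pow_add, mul_smul, pow_add, mul_smul, Algebra.smul_def (r ^ m), Algebra.smul_def (r ^ m), map_pow]
      exact hm
    rw [h3]
    exact Submodule.smul_mem _ _ hι
  choose! m hm using key
  let Mx := T.sup m
  refine ⟨Mx + n₀, (r ^ Mx) • z₀, ?_, ?_⟩
  · intro ε hε
    rw [← hT] at hε
    induction hε using Submodule.span_induction with
    | mem τ hτ =>
      have hle : m τ ≤ Mx := Finset.le_sup hτ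
      have : (r ^ Mx) • z₀ * τ = (r ^ (Mx - m τ)) • ((r ^ m τ) • (z₀ * τ)) := by
        rw [smul_mul_assoc, ← mul_smul, ← pow_add]
        congr 2
        omega
      rw [this]
      exact Submodule.smul_mem _ _ (hm τ hτ)
    | zero => rw [mul_zero]; exact zero_mem _
    | add x y _ _ hx hy => rw [mul_add]; exact add_mem hx hy
    | smul a x _ hx => rw [mul_smul_comm]; exact Submodule.smul_mem _ a hx
  · rw [Algebra.smul_def, map_mul, ← IsScalarTower.algebraMap_apply R S S', ← hz₀, map_pow, pow_add]
    ring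

end LocStab

section Away

/-- abstract form of "localizing on `D(r)`" (copied from helper10) -/
theorem away_of_elementwise {R A A' R' : Type*} [CommRing R] [CommRing A] [CommRing A'] [CommRing R']
    (fU : R →+* A) (fD : R' →+* A') (ρB : A →+* A') (ρS : R →+* R')
    (hnat : ∀ a, ρB (fU a) = fD (ρS a)) (r : R) (hunit : IsUnit (ρS r))
    (hex : ∀ z : A', ∃ (n : ℕ) (t : A), ρB t = (fD (ρS r)) ^ n * z)
    (huniq : ∀ t : A, ρB t = 0 → ∃ n : ℕ, fU (r ^ n) * t = 0) :
    letI := ρB.toAlgebra
    IsLocalization.Away (fU r) A' := by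
  letI := ρB.toAlgebra
  have halg : ∀ b : A, algebraMap A A' b = ρB b := fun b => rfl
  rw [IsLocalization.Away, isLocalization_iff]
  refine ⟨?_, ?_, ?_⟩
  · rintro ⟨_, n, rfl⟩
    rw [map_pow, halg, hnat]
    exact (hunit.map fD).pow n
  · intro z
    obtain ⟨n, t, ht⟩ := hex z
    refine ⟨⟨t, ⟨_, n, rfl⟩⟩, ?_⟩
    show z * algebraMap A A' (fU r ^ n) = algebraMap A A' t
    rw [halg, halg, ht, map_pow, hnat, mul_comm]
  · intro a b hab
    rw [halg, halg] at hab
    have h0 : ρB (a - b) = 0 := by rw [map_sub, hab, sub_self]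
    obtain ⟨n, hn⟩ := huniq (a - b) h0
    refine ⟨⟨_, n, rfl⟩, ?_⟩
    show fU r ^ n * a = fU r ^ n * b
    rw [map_pow, mul_sub, sub_eq_zero] at hn
    exact hn

end Away

end Groth.Agent.Lib.Helper11.Bir
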