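import Mathlib
import Groth.Prelude
import Groth.Agent.Lib.Helper18Norm1

/-!
# Mixed norms I : norms glued from the free locus (helper11)

Namespace `Groth.Agent.Lib.Helper11.MixNorm`.

For a quasi-coherent algebra `A` on a reduced scheme `X` whose "good" opens (affine, `A(W)` finite free over `Γ(X, W)`)
are dense, a section `t` of `O_X` over `U` is *a `D`-norm* of `a ∈ A(U)` when on every good open `W ≤ U` of rank `n` it
restricts to `Nm(a|_W) ^ (D / n)`.  Such a `t` is unique, restricts, and glues.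
-/

set_option autoImplicit false
set_option linter.style.haveILetI false
universe u
open CategoryTheory CategoryTheory.Limits AlgebraicGeometry TopologicalSpace Opposite

namespace Groth.Agent.Lib.Helper11.MixNorm

open Groth.Agent.Helper18Trace Groth.Agent.Helper18Norm

variable {X : Scheme.{u}} (A : RelSpec.QCAlg X)

/-- restriction of sections of the algebra -/
noncomputable abbrev rA {U V : X.Opens} (h : V ≤ U) : A.presheaf.obj (op U) →+* A.presheaf.obj (op V) :=
  (A.presheaf.map (homOfLE h).op).hom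

/-- restriction of functions -/
noncomputable abbrev rX {U V : X.Opens} (h : V ≤ U) : Γ(X, U) →+* Γ(X, V) :=
  (X.presheaf.map (homOfLE h).op).hom

theorem rA_rA {U V W : X.Opens} (h : V ≤ U) (h' : W ≤ V) (a : A.presheaf.obj (op U)) :
    rA A h' (rA A h a) = rA A (h'.trans h) a := by
  change (A.presheaf.map (homOfLE h').op).hom ((A.presheaf.map (homOfLE h).op).hom a) = _
  rw [← CommRingCat.comp_apply, ← Functor.map_comp]
  rfl

theorem rX_rX {U V W : X.Opens} (h : V ≤ U) (h' : W ≤ V) (a : Γ(X, U)) :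
    rX h' (rX h a) = rX (h'.trans h) a := by
  change (X.presheaf.map (homOfLE h').op).hom ((X.presheaf.map (homOfLE h).op).hom a) = _
  rw [← CommRingCat.comp_apply, ← Functor.map_comp]
  rfl

theorem rA_self {U : X.Opens} (a : A.presheaf.obj (op U)) : rA A (le_refl U) a = a := by
  change (A.presheaf.map (𝟙 _)).hom a = a
  rw [A.presheaf.map_id]
  rfl

theorem rX_self {U : X.Opens} (a : Γ(X, U)) : rX (le_refl U) a = a := by
  change (X.presheaf.map (𝟙 _)).hom a = a
  rw [X.presheaf.map_id]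
  rfl

/-- the structure map is compatible with restrictions -/
theorem str_rX {U V : X.Opens} (h : V ≤ U) (f : Γ(X, U)) :
    rA A h ((A.str.app (op U)).hom f) = (A.str.app (op V)).hom (rX h f) :=
  congr($(str_res A h) f)

/-- good opens of rank `n` -/
def IsGoodN (n : ℕ) (W : X.Opens) : Prop :=
  IsAffineOpen W ∧ (letI := alg A W; Nonempty (Module.Basis (Fin n) Γ(X, W) (A.presheaf.obj (op W))))

variable {A}

theorem IsGoodN.isGood {n : ℕ} {W : X.Opens} (h : IsGoodN A n W) : IsGood A W := by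
  obtain ⟨hW, ⟨b⟩⟩ := h
  exact isGood_of_basis A hW b

theorem IsGoodN.basicOpen {n : ℕ} {W : X.Opens} (h : IsGoodN A n W) (r : Γ(X, W)) :
    IsGoodN A n (X.basicOpen r) := by
  obtain ⟨hW, ⟨b⟩⟩ := h
  exact ⟨hW.basicOpen r, nonempty_basis_basicOpen A hW r b⟩

theorem nontrivial_of_mem {W : X.Opens} {x : X} (hx : x ∈ W) : Nontrivial Γ(X, W) :=
  (X.presheaf.germ W x hx).hom.domain_nontrivial

/-- the rank of a nonempty good open is determined by any good open containing it -/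
theorem IsGoodN.rank_eq {n n' : ℕ} {W W' : X.Opens} (hW : IsGoodN A n W) (hW' : IsGoodN A n' W') (h : W' ≤ W)
    {x : X} (hx : x ∈ W') : n = n' := by
  obtain ⟨r, hrW', hxr⟩ := hW.1.exists_basicOpen_le (V := W') ⟨x, hx⟩ (h hx)
  have hV' : X.basicOpen r = X.basicOpen (rX h r) := by
    rw [Scheme.basicOpen_res]
    exact (inf_eq_right.2 hrW').symm
  have h1 := hW.basicOpen r
  have h2 := hW'.basicOpen (rX h r)
  rw [← hV'] at h2
  obtain ⟨-, ⟨b1⟩⟩ := h1
  obtain ⟨-, ⟨b2⟩⟩ := h2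
  letI := alg A (X.basicOpen r)
  haveI : Nontrivial Γ(X, X.basicOpen r) := nontrivial_of_mem hxr
  have := Fintype.card_congr (b1.indexEquiv b2)
  simpa using this

variable (A)

/-- the power-normalised norm on an open (meaningful on good opens of rank `n`) -/
noncomputable def pn (D n : ℕ) (W : X.Opens) (a : A.presheaf.obj (op W)) : Γ(X, W) :=
  normFun A W a ^ (D / n)

variable {A}

theorem normFun_res {n n' : ℕ} {W W' : X.Opens} (hW : IsGoodN A n W) (hW' : IsGoodN A n' W') (h : W' ≤ W)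
    (a : A.presheaf.obj (op W)) : normFun A W' (rA A h a) = rX h (normFun A W a) :=
  norm_res A hW.1 hW'.1 h hW.isGood.2.1 hW.isGood.2.2 hW'.isGood.2.1 hW'.isGood.2.2 a

theorem pn_res (D : ℕ) {n n' : ℕ} {W W' : X.Opens} (hW : IsGoodN A n W) (hW' : IsGoodN A n' W') (h : W' ≤ W)
    (a : A.presheaf.obj (op W)) : pn A D n' W' (rA A h a) = rX h (pn A D n W a) := by
  by_cases hne : ∃ x, x ∈ W'
  · obtain ⟨x, hx⟩ := hne
    obtain rfl := hW.rank_eq hW' h hx
    unfold pn
    rw [normFun_res hW hW' h, map_pow]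
  · have hbot : W' = ⊥ := by
      ext x
      simp only [Opens.coe_bot, Set.mem_empty_iff_false, iff_false]
      exact fun hx => hne ⟨x, hx⟩
    subst hbot
    exact Subsingleton.elim _ _

theorem pn_one (D n : ℕ) (W : X.Opens) : pn A D n W 1 = 1 := by
  letI := alg A W
  unfold pn normFun
  rw [map_one, one_pow]

theorem pn_mul (D n : ℕ) (W : X.Opens) (a b : A.presheaf.obj (op W)) :
    pn A D n W (a * b) = pn A D n W a * pn A D n W b := by
  letI := alg A W
  unfold pn normFun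
  rw [map_mul, mul_pow]

/-- on a good open of rank `n ∣ D` the power-normalised norm of a function is its `D`-th power -/
theorem pn_str (D : ℕ) {n : ℕ} {W : X.Opens} (hW : IsGoodN A n W) (hn : n ∣ D) (f : Γ(X, W)) :
    pn A D n W ((A.str.app (op W)).hom f) = f ^ D := by
  obtain ⟨-, ⟨b⟩⟩ := hW
  letI := alg A W
  unfold pn normFun
  have h := Algebra.norm_algebraMap_of_basis b f
  rw [Fintype.card_fin] at h
  change Algebra.norm Γ(X, W) (algebraMap Γ(X, W) (A.presheaf.obj (op W)) f) ^ (D / n) = _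
  rw [h, ← pow_mul, Nat.mul_div_cancel' hn]

variable (A)

/-- `t` is a `D`-norm of `a` on `U` -/
def IsNormOf (D : ℕ) (U : X.Opens) (a : A.presheaf.obj (op U)) (t : Γ(X, U)) : Prop :=
  ∀ (n : ℕ) (W : X.Opens) (_ : IsGoodN A n W) (h : W ≤ U), rX h t = pn A D n W (rA A h a)

/-- density of the good opens -/
def GoodDense : Prop :=
  ∀ U : X.Opens, U ≠ ⊥ → ∃ (n : ℕ) (W : X.Opens), IsGoodN A n W ∧ W ≤ U ∧ W ≠ ⊥

variable {A}

theorem IsNormOf.res {D : ℕ} {U V : X.Opens} {a : A.presheaf.obj (op U)} {t : Γ(X, U)}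
    (h : IsNormOf A D U a t) (hVU : V ≤ U) : IsNormOf A D V (rA A hVU a) (rX hVU t) := by
  intro n W hW hWV
  rw [rX_rX, rA_rA]
  exact h n W hW (hWV.trans hVU)

theorem ne_bot_of_mem {W : X.Opens} {x : X} (hx : x ∈ W) : W ≠ ⊥ := by
  rintro rfl
  exact hx

/-- uniqueness of norms on a reduced scheme with dense good locus -/
theorem IsNormOf.unique [IsReduced X] (hd : GoodDense A) {D : ℕ} {U : X.Opens} {a : A.presheaf.obj (op U)}
    {t₁ t₂ : Γ(X, U)} (h₁ : IsNormOf A D U a t₁) (h₂ : IsNormOf A D U a t₂) : t₁ = t₂ := by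
  rw [← sub_eq_zero, ← basicOpen_eq_bot_iff]
  by_contra hne
  obtain ⟨n, W, hW, hWb, hWne⟩ := hd _ hne
  have hWU : W ≤ U := hWb.trans (X.basicOpen_le _)
  have h0 : rX hWU (t₁ - t₂) = 0 := by
    rw [map_sub, h₁ n W hW hWU, h₂ n W hW hWU, sub_self]
  have hu : IsUnit (rX hWU (t₁ - t₂)) := by
    have h1 := RingedSpace.isUnit_res_basicOpen X.toRingedSpace (t₁ - t₂)
    have h2 := h1.map (rX hWb)
    have h3 : rX hWb (rX (X.basicOpen_le (t₁ - t₂)) (t₁ - t₂)) = rX hWU (t₁ - t₂) := rX_rX _ _ _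
    rw [← h3]
    exact h2
  rw [h0] at hu
  have hsub : Subsingleton Γ(X, W) := by
    have : (0 : Γ(X, W)) = 1 := by
      obtain ⟨v, hv⟩ := hu
      have := v.mul_inv
      rw [hv, zero_mul] at this
      exact this
    exact subsingleton_of_zero_eq_one this
  apply hWne
  ext x
  simp only [Opens.coe_bot, Set.mem_empty_iff_false, iff_false]
  intro hx
  haveI := nontrivial_of_mem hx
  exact not_subsingleton _ hsub

/-- on a good open the power-normalised norm is a norm -/
theorem isNormOf_pn (D : ℕ) {n₀ : ℕ} {W₀ : X.Opens} (hW₀ : IsGoodN A n₀ W₀) (a : A.presheaf.obj (op W₀)) :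
    IsNormOf A D W₀ a (pn A D n₀ W₀ a) := by
  intro n W hW h
  exact (pn_res D hW₀ hW h a).symm

/-- norms glue -/
theorem exists_isNormOf_of_locally [IsReduced X] (hd : GoodDense A) (D : ℕ) (U : X.Opens)
    (a : A.presheaf.obj (op U))
    (h : ∀ x : X, x ∈ U → ∃ (V : X.Opens) (hVU : V ≤ U) (t : Γ(X, V)),
      x ∈ V ∧ IsNormOf A D V (rA A hVU a) t) :
    ∃ t : Γ(X, U), IsNormOf A D U a t := by
  have h' : ∀ x : U, ∃ (V : X.Opens) (hVU : V ≤ U) (t : Γ(X, V)),
      x.1 ∈ V ∧ IsNormOf A D V (rA A hVU a) t := fun x => h x.1 x.2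
  choose V hVU t hxV ht using h'
  have hcompat : TopCat.Presheaf.IsCompatible X.sheaf.1 V t := by
    intro x y
    change rX (inf_le_left : V x ⊓ V y ≤ V x) (t x) = rX (inf_le_right : V x ⊓ V y ≤ V y) (t y)
    have h1 := (ht x).res (inf_le_left : V x ⊓ V y ≤ V x)
    have h2 := (ht y).res (inf_le_right : V x ⊓ V y ≤ V y)
    rw [rA_rA] at h1 h2
    exact h1.unique hd h2
  obtain ⟨τ, hτ, -⟩ := X.sheaf.existsUnique_gluing' V U (fun x => homOfLE (hVU x))
    (fun x hx => Opens.mem_iSup.2 ⟨⟨x, hx⟩, hxV _⟩) t hcompat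
  have hτ' : ∀ x : U, rX (hVU x) τ = t x := hτ
  refine ⟨τ, ?_⟩
  intro n W hW hWU
  have key : ∀ y : W, ∃ (W' : X.Opens) (hW'W : W' ≤ W), y.1 ∈ W' ∧
      rX hW'W (rX hWU τ) = rX hW'W (pn A D n W (rA A hWU a)) := by
    intro y
    have hyU : y.1 ∈ U := hWU y.2
    obtain ⟨r, hrV, hyr⟩ := hW.1.exists_basicOpen_le (V := V ⟨y.1, hyU⟩) ⟨y.1, hxV ⟨y.1, hyU⟩⟩ y.2
    have hW'' := hW.basicOpen r
    refine ⟨X.basicOpen r, X.basicOpen_le r, hyr, ?_⟩
    rw [rX_rX, ← pn_res D hW hW'' (X.basicOpen_le r), rA_rA]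
    have e1 : rX ((X.basicOpen_le r).trans hWU) τ = rX hrV (rX (hVU ⟨y.1, hyU⟩) τ) := (rX_rX _ _ _).symm
    rw [e1, hτ', ht ⟨y.1, hyU⟩ n _ hW'' hrV, rA_rA]
  choose W' hW'W hyW' hW' using key
  refine TopCat.Sheaf.eq_of_locally_eq' X.sheaf W' W (fun y => homOfLE (hW'W y)) ?_ _ _ hW'
  intro y hy
  exact Opens.mem_iSup.2 ⟨⟨y, hy⟩, hyW' _⟩

variable (A)

/-- the data making the glued norm exist -/
structure Setup (D : ℕ) : Prop where
  /-- good opens are dense -/
  dense : GoodDense A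
  /-- ranks of nonempty good opens divide `D` -/
  dvd : ∀ (n : ℕ) (W : X.Opens), IsGoodN A n W → W ≠ ⊥ → n ∣ D
  /-- norms exist locally -/
  loc : ∀ (U : X.Opens) (a : A.presheaf.obj (op U)) (x : X), x ∈ U →
    ∃ (V : X.Opens) (hVU : V ≤ U) (t : Γ(X, V)), x ∈ V ∧ IsNormOf A D V (rA A hVU a) t

variable {A}

namespace Setup

variable [IsReduced X] {D : ℕ} (S : Setup A D)

include S in
theorem exists_isNormOf (U : X.Opens) (a : A.presheaf.obj (op U)) : ∃ t : Γ(X, U), IsNormOf A D U a t :=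
  exists_isNormOf_of_locally S.dense D U a (S.loc U a)

/-- the glued norm -/
noncomputable def nrm (U : X.Opens) (a : A.presheaf.obj (op U)) : Γ(X, U) := (S.exists_isNormOf U a).choose

theorem isNormOf_nrm (U : X.Opens) (a : A.presheaf.obj (op U)) : IsNormOf A D U a (S.nrm U a) :=
  (S.exists_isNormOf U a).choose_spec

theorem nrm_eq {U : X.Opens} {a : A.presheaf.obj (op U)} {t : Γ(X, U)} (h : IsNormOf A D U a t) :
    S.nrm U a = t := (S.isNormOf_nrm U a).unique S.dense h

theorem nrm_res {U V : X.Opens} (h : V ≤ U) (a : A.presheaf.obj (op U)) :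
    rX h (S.nrm U a) = S.nrm V (rA A h a) :=
  (S.nrm_eq ((S.isNormOf_nrm U a).res h)).symm

theorem nrm_one (U : X.Opens) : S.nrm U 1 = 1 := by
  apply S.nrm_eq
  intro n W hW h
  rw [map_one, map_one, pn_one]

theorem nrm_mul (U : X.Opens) (a b : A.presheaf.obj (op U)) : S.nrm U (a * b) = S.nrm U a * S.nrm U b := by
  apply S.nrm_eq
  intro n W hW h
  rw [map_mul, map_mul, pn_mul, S.isNormOf_nrm U a n W hW h, S.isNormOf_nrm U b n W hW h]

theorem nrm_str (U : X.Opens) (f : Γ(X, U)) : S.nrm U ((A.str.app (op U)).hom f) = f ^ D := by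
  apply S.nrm_eq
  intro n W hW h
  by_cases hne : W = ⊥
  · subst hne
    exact Subsingleton.elim _ _
  · rw [str_rX, pn_str D hW (S.dvd n W hW hne), map_pow]

theorem nrm_good {n : ℕ} {W : X.Opens} (hW : IsGoodN A n W) (a : A.presheaf.obj (op W)) :
    S.nrm W a = pn A D n W a := S.nrm_eq (isNormOf_pn D hW a)

/-- the norm as a monoid homomorphism -/
noncomputable def nrmHom (U : X.Opens) : A.presheaf.obj (op U) →* Γ(X, U) where
  toFun := S.nrm U
  map_one' := S.nrm_one U
  map_mul' := S.nrm_mul U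

end Setup

end Groth.Agent.Lib.Helper11.MixNorm
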