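import Mathlib

/-!
# Algebra for the mixed norm (helper11)

Namespace `Groth.Agent.Lib.Helper11.MixNormAlg`.
-/

set_option autoImplicit false
universe u
open Polynomial

namespace Groth.Agent.Lib.Helper11.MixNormAlg

/-- the coefficients of the characteristic polynomial of an endomorphism (of a finite free module over a domain `R`)
killed by a monic polynomial with coefficients in `A` are integral over `A` -/
theorem isIntegral_charpoly_coeff {A R M : Type*} [CommRing A] [CommRing R] [IsDomain R] [Algebra A R]
    [AddCommGroup M] [Module R M] [Module.Free R M] [Module.Finite R M]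
    (φ : Module.End R M) (P : A[X]) (hP : P.Monic) (hφ : aeval φ (P.map (algebraMap A R)) = 0) (i : ℕ) :
    IsIntegral A (φ.charpoly.coeff i) := by
  classical
  let K := FractionRing R
  let L := AlgebraicClosure K
  haveI : IsScalarTower A R L := by
    refine IsScalarTower.of_algebraMap_eq (fun a => ?_)
    rw [IsScalarTower.algebraMap_apply A K L, IsScalarTower.algebraMap_apply A R K,
      IsScalarTower.algebraMap_apply R K L]
  have hinj : Function.Injective (algebraMap R L) := by
    rw [IsScalarTower.algebraMap_eq R K L]
    exact (algebraMap K L).injective.comp (IsFractionRing.injective R K)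
  let ψ : Module.End L (TensorProduct R L M) := φ.baseChange L
  have hψ : ψ.charpoly = φ.charpoly.map (algebraMap R L) := LinearMap.charpoly_baseChange φ L
  have hψ0 : aeval ψ ((P.map (algebraMap A R)).map (algebraMap R L)) = 0 := by
    rw [Polynomial.aeval_map_algebraMap]
    have h1 : ψ = Module.End.baseChangeHom R L M φ := rfl
    rw [h1, Polynomial.aeval_algHom_apply, hφ, map_zero]
  have hroot : ∀ μ ∈ ψ.charpoly.roots, IsIntegral A μ := by
    intro μ hμ
    have hr : ψ.charpoly.IsRoot μ := (Polynomial.mem_roots (LinearMap.charpoly_monic ψ).ne_zero).1 hμ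
    have hev : ψ.HasEigenvalue μ := (Module.End.hasEigenvalue_iff_isRoot_charpoly ψ μ).2 hr
    obtain ⟨v, hv⟩ := hev.exists_hasEigenvector
    have h2 := Module.End.aeval_apply_of_hasEigenvector (p := (P.map (algebraMap A R)).map (algebraMap R L)) hv
    rw [hψ0, LinearMap.zero_apply] at h2
    have h3 : ((P.map (algebraMap A R)).map (algebraMap R L)).eval μ = 0 := by
      rcases smul_eq_zero.1 h2.symm with h | h
      · exact h
      · exact absurd h hv.2
    refine ⟨P, hP, ?_⟩
    rw [Polynomial.map_map] at h3
    rw [← h3, Polynomial.eval_map]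
    rfl
  have hsplit : ψ.charpoly.Splits := IsAlgClosed.splits _
  have hcoef : IsIntegral A (ψ.charpoly.coeff i) := by
    by_cases hi : i ≤ ψ.charpoly.natDegree
    · rw [Polynomial.coeff_eq_esymm_roots_of_splits hsplit hi, (LinearMap.charpoly_monic ψ).leadingCoeff, one_mul]
      refine IsIntegral.mul ?_ ?_
      · exact (IsIntegral.neg isIntegral_one).pow _
      · rw [Multiset.esymm]
        refine IsIntegral.multiset_sum ?_
        intro x hx
        obtain ⟨s, hs, rfl⟩ := Multiset.mem_map.1 hx
        refine IsIntegral.multiset_prod ?_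
        intro y hy
        exact hroot y (Multiset.mem_of_le (Multiset.mem_powersetCard.1 hs).1 hy)
    · rw [Polynomial.coeff_eq_zero_of_natDegree_lt (not_le.1 hi)]
      exact isIntegral_zero
  rw [hψ, Polynomial.coeff_map] at hcoef
  exact (isIntegral_algebraMap_iff hinj).1 hcoef

/-- Cayley-Hamilton for the multiplication by an element of a finite free algebra -/
theorem aeval_self_charpoly_lmul {R E : Type*} [CommRing R] [CommRing E] [Algebra R E] [Module.Free R E]
    [Module.Finite R E] (e : E) : aeval e (Algebra.lmul R E e).charpoly = 0 := by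
  have h1 := LinearMap.aeval_self_charpoly (Algebra.lmul R E e)
  rw [Polynomial.aeval_algHom_apply] at h1
  have h2 : Algebra.lmul R E (aeval e (Algebra.lmul R E e).charpoly) = Algebra.lmul R E 0 := by
    rw [h1, map_zero]
  exact Algebra.lmul_injective h2

/-- square version: `b` integral over `A`, its image in a finite free `R`-algebra `E` (`R` a domain) has a characteristic
polynomial with coefficients integral over `A` -/
theorem isIntegralElem_charpoly_coeff_lmul {A B R E : Type*} [CommRing A] [CommRing B] [CommRing R] [IsDomain R]
    [CommRing E] [Algebra A B] [Algebra R E] [Module.Free R E] [Module.Finite R E]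
    (ρ₀ : A →+* R) (ρ : B →+* E) (hρ : ∀ a : A, ρ (algebraMap A B a) = algebraMap R E (ρ₀ a))
    (b : B) (hb : IsIntegral A b) (i : ℕ) :
    ρ₀.IsIntegralElem ((Algebra.lmul R E (ρ b)).charpoly.coeff i) := by
  letI := ρ₀.toAlgebra
  obtain ⟨P, hP, hPb⟩ := hb
  refine isIntegral_charpoly_coeff (A := A) (Algebra.lmul R E (ρ b)) P hP ?_ i
  rw [Polynomial.aeval_algHom_apply]
  have h1 : aeval (ρ b) (P.map (algebraMap A R)) = 0 := by
    rw [Polynomial.aeval_def, Polynomial.eval₂_map]
    have h2 : (algebraMap R E).comp (algebraMap A R) = ρ.comp (algebraMap A B) := by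
      ext a
      exact (hρ a).symm
    rw [h2, ← Polynomial.hom_eval₂, hPb, map_zero]
  rw [h1, map_zero]

/-- the norm of the image of an integral element is integral -/
theorem isIntegralElem_norm {A B R E : Type*} [CommRing A] [CommRing B] [CommRing R] [IsDomain R]
    [CommRing E] [Algebra A B] [Algebra R E] [Module.Free R E] [Module.Finite R E]
    (ρ₀ : A →+* R) (ρ : B →+* E) (hρ : ∀ a : A, ρ (algebraMap A B a) = algebraMap R E (ρ₀ a))
    (b : B) (hb : IsIntegral A b) :
    ρ₀.IsIntegralElem (Algebra.norm R (ρ b)) := by
  letI := ρ₀.toAlgebra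
  rw [Algebra.norm_apply, LinearMap.det_eq_sign_charpoly_coeff]
  have h := isIntegralElem_charpoly_coeff_lmul ρ₀ ρ hρ b hb 0
  change IsIntegral A _
  exact IsIntegral.mul ((IsIntegral.neg isIntegral_one).pow _) h

/-- an element of `A[1/h]` (`A` a domain) integral over `A` lies in the localization at a prime `p` if the latter is
integrally closed: it has a denominator outside `p` -/
theorem exists_mul_eq_of_isIntegral {A R S : Type*} [CommRing A] [IsDomain A] [CommRing R] [CommRing S]
    [IsDomain S] (p : Ideal A) [p.IsPrime] [Algebra A S] [IsLocalization.AtPrime S p] [IsIntegrallyClosed S]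
    (h : A) (hh : h ≠ 0) [Algebra A R] [IsLocalization.Away h R] (c : R) (hc : IsIntegral A c) :
    ∃ f a : A, f ∉ p ∧ algebraMap A R f * c = algebraMap A R a := by
  let K := FractionRing A
  have hM : Submonoid.powers h ≤ nonZeroDivisors A := powers_le_nonZeroDivisors_of_noZeroDivisors hh
  letI : Algebra R K := (IsLocalization.lift (M := Submonoid.powers h) (S := R) (g := algebraMap A K)
      (fun y => IsLocalization.map_units K ⟨y.1, hM y.2⟩)).toAlgebra
  haveI : IsScalarTower A R K := IsScalarTower.of_algebraMap_eq (fun a => (IsLocalization.lift_eq _ a).symm)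
  haveI : IsFractionRing R K :=
    IsFractionRing.isFractionRing_of_isDomain_of_isLocalization (Submonoid.powers h) R K
  letI : Algebra S K := (IsLocalization.lift (M := p.primeCompl) (S := S) (g := algebraMap A K)
      (fun y => IsLocalization.map_units K ⟨y.1, p.primeCompl_le_nonZeroDivisors y.2⟩)).toAlgebra
  haveI : IsScalarTower A S K := IsScalarTower.of_algebraMap_eq (fun a => (IsLocalization.lift_eq _ a).symm)
  haveI : IsFractionRing S K :=
    IsFractionRing.isFractionRing_of_isDomain_of_isLocalization p.primeCompl S K
  have h1 : IsIntegral A (algebraMap R K c) := hc.map (IsScalarTower.toAlgHom A R K)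
  have h2 : IsIntegral S (algebraMap R K c) := h1.tower_top
  obtain ⟨σ, hσ⟩ := (IsIntegrallyClosed.isIntegral_iff (R := S) (K := K)).1 h2
  obtain ⟨a, ⟨f, hf⟩, hfa⟩ := IsLocalization.exists_mk'_eq p.primeCompl σ
  refine ⟨f, a, hf, ?_⟩
  apply IsFractionRing.injective R K
  rw [map_mul, ← hσ, ← hfa, ← IsScalarTower.algebraMap_apply A R K, ← IsScalarTower.algebraMap_apply A R K,
    IsScalarTower.algebraMap_apply A S K f, IsScalarTower.algebraMap_apply A S K a, ← map_mul, mul_comm,
    IsLocalization.mk'_spec]

/-- a basis of the standard localization away from `r` gives a basis of any localization away from `r` -/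
theorem nonempty_basis_of_away {R S R' S' : Type*} [CommRing R] [CommRing S] [CommRing R'] [CommRing S']
    [Algebra R S] [Algebra R R'] [Algebra R' S'] [Algebra S S'] [Algebra R S'] [IsScalarTower R R' S']
    [IsScalarTower R S S'] (r : R) [IsLocalization.Away r R'] [IsLocalization.Away (algebraMap R S r) S']
    {I : Type*} (b : Module.Basis I (Localization.Away r) (LocalizedModule.Away r S)) :
    Nonempty (Module.Basis I R' S') := by
  let f : S →ₗ[R] S' := (IsScalarTower.toAlgHom R S S').toLinearMap
  haveI : IsLocalization (Algebra.algebraMapSubmonoid S (Submonoid.powers r)) S' := by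
    have : Algebra.algebraMapSubmonoid S (Submonoid.powers r) = Submonoid.powers (algebraMap R S r) :=
      Submonoid.map_powers _ _
    rw [this]
    infer_instance
  haveI : IsLocalizedModule (Submonoid.powers r) f :=
    (isLocalizedModule_iff_isLocalization (S := Submonoid.powers r) (A := S) (Aₛ := S')).2 inferInstance
  let σ : Localization.Away r ≃ₐ[R] R' := IsLocalization.algEquiv (Submonoid.powers r) _ _
  letI : Module (Localization.Away r) S' := Module.compHom S' (σ : Localization.Away r →+* R')
  haveI : IsScalarTower R (Localization.Away r) S' := by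
    refine ⟨fun r₀ c x => ?_⟩
    change σ (r₀ • c) • x = r₀ • (σ c • x)
    rw [map_smul, smul_assoc]
  let e : LocalizedModule (Submonoid.powers r) S ≃ₗ[Localization.Away r] S' :=
    (IsLocalizedModule.iso (Submonoid.powers r) f).extendScalarsOfIsLocalization (Submonoid.powers r)
      (Localization.Away r)
  let b1 : Module.Basis I (Localization.Away r) S' := b.map e
  exact ⟨b1.mapCoeffs σ.toRingEquiv (fun c x => rfl)⟩

/-- generic freeness of a finite algebra over a Noetherian domain -/
theorem exists_basis_away_of_isDomain (R S : Type*) [CommRing R] [IsDomain R] [IsNoetherianRing R] [CommRing S]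
    [Algebra R S] [Module.Finite R S] :
    ∃ (r : R) (n : ℕ), r ≠ 0 ∧
      Nonempty (Module.Basis (Fin n) (Localization.Away r) (LocalizedModule.Away r S)) := by
  classical
  let K := FractionRing R
  let M' := LocalizedModule (nonZeroDivisors R) S
  haveI : Module.FinitePresentation R S := Module.finitePresentation_of_finite R S
  haveI : Module.Finite K M' := Module.Finite.of_isLocalizedModule (nonZeroDivisors R)
    (LocalizedModule.mkLinearMap (nonZeroDivisors R) S)
  let b : Module.Basis (Module.Free.ChooseBasisIndex K M') K M' := Module.Free.chooseBasis K M'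
  obtain ⟨r, hr, b', -⟩ := Module.FinitePresentation.exists_basis_localizedModule_powers (nonZeroDivisors R)
    (LocalizedModule.mkLinearMap (nonZeroDivisors R) S) K b
  exact ⟨r, _, nonZeroDivisors.ne_zero hr, ⟨b'.reindex (Finite.equivFin _)⟩⟩

end Groth.Agent.Lib.Helper11.MixNormAlg
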