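import Mathlib

/-!
# Integral affine neighbourhoods of points with integral local ring (helper4)
-/


set_option autoImplicit false
set_option linter.style.haveILetI false
universe u

namespace Groth.Agent.Lib.Helper4.DomNhd

/-- if the localization of a Noetherian ring at a prime is a domain, so is the localization away from a suitable element
outside the prime -/
theorem exists_isDomain_away {A : Type*} [CommRing A] [IsNoetherianRing A] (p : Ideal A) [p.IsPrime]
    (S : Type*) [CommRing S] [Algebra A S] [IsLocalization.AtPrime S p] [IsDomain S] :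
    ∃ f : A, f ∉ p ∧ ∀ (R : Type*) [CommRing R] [Algebra A R] [IsLocalization.Away f R], IsDomain R := by
  classical
  let I : Ideal A := RingHom.ker (algebraMap A S)
  obtain ⟨T, hT⟩ : I.FG := IsNoetherian.noetherian I
  have hex : ∀ a ∈ I, ∃ s : A, s ∉ p ∧ s * a = 0 := by
    intro a ha
    have h0 : algebraMap A S a = 0 := ha
    obtain ⟨⟨s, hs⟩, hsa⟩ := (IsLocalization.map_eq_zero_iff p.primeCompl S a).1 h0
    exact ⟨s, hs, hsa⟩
  choose! σ hσ using hex
  let f : A := ∏ a ∈ T, σ a
  have hTI : ∀ a ∈ T, a ∈ I := fun a ha => by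
    rw [← hT]; exact Ideal.subset_span ha
  have hf : f ∉ p := by
    intro h
    obtain ⟨a, ha, hpa⟩ := (Ideal.IsPrime.prod_mem_iff).1 h
    exact (hσ a (hTI a ha)).1 hpa
  have hfI : ∀ a ∈ I, f * a = 0 := by
    intro a ha
    rw [← hT] at ha
    refine Submodule.span_induction (p := fun a _ => f * a = 0) ?_ ?_ ?_ ?_ ha
    · intro a haT
      have h1 : σ a * a = 0 := (hσ a (hTI a haT)).2
      have h2 : f = (∏ b ∈ T.erase a, σ b) * σ a :=
        (Finset.prod_erase_mul T σ haT).symm
      rw [h2, mul_assoc, h1, mul_zero]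
    · exact mul_zero f
    · intro x y _ _ hx hy
      rw [mul_add, hx, hy, add_zero]
    · intro r x _ hx
      rw [smul_eq_mul, mul_left_comm, hx, mul_zero]
  refine ⟨f, hf, fun R _ _ _ => ?_⟩
  have hfS : IsUnit (algebraMap A S f) := IsLocalization.map_units S (⟨f, hf⟩ : p.primeCompl)
  -- zero in `R` iff in `I`
  have hzero : ∀ a : A, algebraMap A R a = 0 ↔ a ∈ I := by
    intro a
    constructor
    · intro h
      obtain ⟨⟨_, n, rfl⟩, hn⟩ := (IsLocalization.map_eq_zero_iff (Submonoid.powers f) R a).1 h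
      have h1 : algebraMap A S (f ^ n * a) = 0 := by rw [hn, map_zero]
      rw [map_mul, map_pow] at h1
      exact (IsUnit.mul_right_eq_zero (hfS.pow n)).1 h1
    · intro h
      have h1 : f * a = 0 := hfI a h
      exact (IsLocalization.map_eq_zero_iff (Submonoid.powers f) R a).2 ⟨⟨f, 1, pow_one f⟩, h1⟩
  haveI : Nontrivial R := by
    refine ⟨⟨1, 0, fun h => ?_⟩⟩
    have h1 : algebraMap A R 1 = 0 := by rw [map_one]; exact h
    have h2 := (hzero 1).1 h1
    have h3 : algebraMap A S 1 = 0 := h2
    rw [map_one] at h3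
    exact one_ne_zero h3
  haveI : NoZeroDivisors R := by
    refine ⟨fun {x y} hxy => ?_⟩
    obtain ⟨⟨a, s⟩, hx⟩ := IsLocalization.surj (Submonoid.powers f) x
    obtain ⟨⟨b, t⟩, hy⟩ := IsLocalization.surj (Submonoid.powers f) y
    have hs : IsUnit (algebraMap A R s) := IsLocalization.map_units R s
    have ht : IsUnit (algebraMap A R t) := IsLocalization.map_units R t
    have hab : algebraMap A R (a * b) = 0 := by
      rw [map_mul, ← hx, ← hy]
      calc x * algebraMap A R s * (y * algebraMap A R t)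
          = (x * y) * (algebraMap A R s * algebraMap A R t) := by ring
        _ = 0 := by rw [hxy, zero_mul]
    have h1 := (hzero (a * b)).1 hab
    have h2 : algebraMap A S a * algebraMap A S b = 0 := by rw [← map_mul]; exact h1
    rcases mul_eq_zero.1 h2 with h | h
    · left
      have h3 : algebraMap A R a = 0 := (hzero a).2 h
      rw [← hx] at h3
      exact (IsUnit.mul_left_eq_zero hs).1 h3
    · right
      have h3 : algebraMap A R b = 0 := (hzero b).2 h
      rw [← hy] at h3
      exact (IsUnit.mul_left_eq_zero ht).1 h3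
  exact NoZeroDivisors.to_isDomain R

end Groth.Agent.Lib.Helper4.DomNhd

namespace Groth.Agent.Lib.Helper4.DomNhd
open AlgebraicGeometry CategoryTheory

/-- a point of a locally Noetherian scheme whose local ring is a domain has an integral affine open neighbourhood -/
theorem exists_isAffineOpen_isDomain (X : Scheme.{u}) [IsLocallyNoetherian X] (z : X)
    [IsDomain (X.presheaf.stalk z)] :
    ∃ W : X.Opens, IsAffineOpen W ∧ z ∈ W ∧ IsDomain Γ(X, W) := by
  obtain ⟨W₀, hW0, hz, -⟩ := (TopologicalSpace.Opens.isBasis_iff_nbhd.1 X.isBasis_affineOpens)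
    (TopologicalSpace.Opens.mem_top z)
  have hW₀ : IsAffineOpen W₀ := hW0
  haveI : IsNoetherianRing Γ(X, W₀) := IsLocallyNoetherian.component_noetherian ⟨W₀, hW₀⟩
  letI alg : Algebra Γ(X, W₀) (X.presheaf.stalk z) :=
    TopCat.Presheaf.algebra_section_stalk X.presheaf ⟨z, hz⟩
  haveI loc : IsLocalization.AtPrime (X.presheaf.stalk z) (hW₀.primeIdealOf ⟨z, hz⟩).asIdeal :=
    hW₀.isLocalization_stalk ⟨z, hz⟩
  obtain ⟨f, hf, hdom⟩ := exists_isDomain_away (hW₀.primeIdealOf ⟨z, hz⟩).asIdeal (X.presheaf.stalk z)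
  haveI := hW₀.isLocalization_basicOpen f
  refine ⟨X.basicOpen f, hW₀.basicOpen f, ?_, hdom Γ(X, X.basicOpen f)⟩
  have h1 : (hW₀.primeIdealOf ⟨z, hz⟩) ∈ PrimeSpectrum.basicOpen f := hf
  rw [← hW₀.fromSpec_preimage_basicOpen f] at h1
  have h2 : hW₀.fromSpec (hW₀.primeIdealOf ⟨z, hz⟩) ∈ X.basicOpen f := h1
  rwa [hW₀.fromSpec_primeIdealOf ⟨z, hz⟩] at h2

end Groth.Agent.Lib.Helper4.DomNhd
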