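import Mathlib
import Groth.Prelude
import Groth.Agent.Lib.Helper11MixNorm1
import Groth.Agent.Lib.Helper11MixNormAlg
import Groth.Agent.Lib.Helper4DomNhd
import Groth.Agent.Lib.Helper18Norm2

/-!
# Mixed norms II : existence of the norm near points with integrally closed local ring (helper11)

Namespace `Groth.Agent.Lib.Helper11.MixNorm`.
-/

set_option autoImplicit false
set_option linter.style.haveILetI false
universe u
open CategoryTheory CategoryTheory.Limits AlgebraicGeometry TopologicalSpace Opposite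

namespace Groth.Agent.Lib.Helper11.MixNorm

open Groth.Agent.Helper18Trace Groth.Agent.Helper18Norm Groth.Agent.Lib.Helper11.MixNormAlg

variable {X : Scheme.{u}} (A : RelSpec.QCAlg X)

/-- finiteness of the algebra on affine opens -/
def IsFiniteAlg : Prop :=
  ∀ V : X.Opens, IsAffineOpen V → (letI := alg A V; Module.Finite Γ(X, V) (A.presheaf.obj (op V)))

variable {A}

/-- generic freeness on an integral affine open -/
theorem exists_isGoodN_basicOpen (hfin : IsFiniteAlg A) {V : X.Opens} (hV : IsAffineOpen V) [IsDomain Γ(X, V)]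
    [IsNoetherianRing Γ(X, V)] : ∃ (h : Γ(X, V)) (n : ℕ), h ≠ 0 ∧ IsGoodN A n (X.basicOpen h) := by
  letI := alg A V
  haveI := hfin V hV
  obtain ⟨r, n, hr, ⟨b⟩⟩ := exists_basis_away_of_isDomain Γ(X, V) (A.presheaf.obj (op V))
  refine ⟨r, n, hr, hV.basicOpen r, ?_⟩
  letI i1 : Algebra Γ(X, V) Γ(X, X.basicOpen r) := (rX (X.basicOpen_le r)).toAlgebra
  letI i2 : Algebra Γ(X, X.basicOpen r) (A.presheaf.obj (op (X.basicOpen r))) := alg A (X.basicOpen r)
  letI i3 : Algebra (A.presheaf.obj (op V)) (A.presheaf.obj (op (X.basicOpen r))) :=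
    (rA A (X.basicOpen_le r)).toAlgebra
  letI i4 : Algebra Γ(X, V) (A.presheaf.obj (op (X.basicOpen r))) :=
    ((rA A (X.basicOpen_le r)).comp (A.str.app (op V)).hom).toAlgebra
  haveI : IsScalarTower Γ(X, V) Γ(X, X.basicOpen r) (A.presheaf.obj (op (X.basicOpen r))) :=
    IsScalarTower.of_algebraMap_eq (fun x => str_rX A (X.basicOpen_le r) x)
  haveI : IsScalarTower Γ(X, V) (A.presheaf.obj (op V)) (A.presheaf.obj (op (X.basicOpen r))) :=
    IsScalarTower.of_algebraMap_eq (fun x => rfl)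
  haveI : IsLocalization.Away r Γ(X, X.basicOpen r) := hV.isLocalization_basicOpen r
  haveI : IsLocalization.Away (algebraMap Γ(X, V) (A.presheaf.obj (op V)) r)
      (A.presheaf.obj (op (X.basicOpen r))) := A.isQC V hV r
  exact nonempty_basis_of_away r b

/-- two nonempty opens of an integral affine open meet -/
theorem exists_mem_inf_of_isDomain {V : X.Opens} (hV : IsAffineOpen V) [IsDomain Γ(X, V)] {O₁ O₂ : X.Opens}
    (h₁ : O₁ ≤ V) (h₂ : O₂ ≤ V) (hne₁ : O₁ ≠ ⊥) (hne₂ : O₂ ≠ ⊥) : ∃ y, y ∈ O₁ ∧ y ∈ O₂ := by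
  haveI : IsAffine (↑V : Scheme.{u}) := hV
  haveI : Nonempty (↑V : Scheme.{u}) := by
    by_contra hc
    apply hne₁
    ext x
    simp only [Opens.coe_bot, Set.mem_empty_iff_false, iff_false]
    exact fun hx => hc ⟨⟨x, h₁ hx⟩⟩
  haveI : IsDomain Γ((↑V : Scheme.{u}), ⊤) := V.topIso.commRingCatIsoToRingEquiv.toMulEquiv.isDomain _
  haveI : IsIntegral (↑V : Scheme.{u}) := isIntegral_of_isAffine_of_isDomain _
  have hirr : IsIrreducible (Set.univ : Set (↑V : Scheme.{u})) := IrreducibleSpace.isIrreducible_univ _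
  have hV' : IsIrreducible (Set.range V.ι) := by
    rw [← Set.image_univ]
    exact hirr.image _ V.ι.continuous.continuousOn
  rw [Scheme.Opens.range_ι] at hV'
  have hn₁ : ((V : Set X) ∩ (O₁ : Set X)).Nonempty := by
    by_contra hc
    apply hne₁
    ext x
    simp only [Opens.coe_bot, Set.mem_empty_iff_false, iff_false]
    exact fun hx => hc ⟨x, h₁ hx, hx⟩
  have hn₂ : ((V : Set X) ∩ (O₂ : Set X)).Nonempty := by
    by_contra hc
    apply hne₂
    ext x
    simp only [Opens.coe_bot, Set.mem_empty_iff_false, iff_false]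
    exact fun hx => hc ⟨x, h₂ hx, hx⟩
  obtain ⟨y, -, hy1, hy2⟩ := hV'.2 _ _ O₁.isOpen O₂.isOpen hn₁ hn₂
  exact ⟨y, hy1, hy2⟩

/-- a function on a reduced scheme vanishing locally at the points of a set meeting every nonempty open subset
vanishes -/
theorem eq_zero_of_dense [IsReduced X] {W : X.Opens} (s : Γ(X, W)) (W₀ : X.Opens)
    (hdense : ∀ O : X.Opens, O ≤ W → O ≠ ⊥ → ∃ y, y ∈ O ∧ y ∈ W₀)
    (hloc : ∀ y, y ∈ W → y ∈ W₀ → ∃ (W₁ : X.Opens) (h₁ : W₁ ≤ W), y ∈ W₁ ∧ rX h₁ s = 0) : s = 0 := by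
  rw [← basicOpen_eq_bot_iff]
  by_contra hne
  obtain ⟨y, hyO, hyW₀⟩ := hdense _ (X.basicOpen_le s) hne
  have hyW : y ∈ W := X.basicOpen_le s hyO
  obtain ⟨W₁, h₁, hyW₁, hs⟩ := hloc y hyW hyW₀
  have hu : IsUnit (X.presheaf.germ W y hyW s) := (X.mem_basicOpen s y hyW).1 hyO
  have h2 : X.presheaf.germ W y hyW s = X.presheaf.germ W₁ y hyW₁ (rX h₁ s) :=
    (TopCat.Presheaf.germ_res_apply X.presheaf (homOfLE h₁) y hyW₁ s).symm
  rw [h2, hs, map_zero] at hu
  exact not_isUnit_zero hu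

/-- integral affine neighbourhoods inside a given open -/
theorem exists_affine_isDomain_le [IsLocallyNoetherian X] (x : X) [IsDomain (X.presheaf.stalk x)] (U : X.Opens)
    (hxU : x ∈ U) : ∃ V : X.Opens, IsAffineOpen V ∧ x ∈ V ∧ V ≤ U ∧ IsDomain Γ(X, V) := by
  obtain ⟨V₁, hV₁, hxV₁, hdom⟩ := Groth.Agent.Lib.Helper4.DomNhd.exists_isAffineOpen_isDomain X x
  haveI := hdom
  obtain ⟨r, hrU, hxr⟩ := hV₁.exists_basicOpen_le (V := U) ⟨x, hxU⟩ hxV₁
  refine ⟨X.basicOpen r, hV₁.basicOpen r, hxr, hrU, ?_⟩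
  have hr : r ≠ 0 := by
    rintro rfl
    rw [Scheme.basicOpen_zero] at hxr
    exact hxr
  haveI := hV₁.isLocalization_basicOpen r
  exact IsLocalization.isDomain_of_le_nonZeroDivisors (R := Γ(X, V₁)) (M := Submonoid.powers r) _
    (powers_le_nonZeroDivisors_of_noZeroDivisors hr)

/-- a point of an affine open lies in the basic open of a function outside its prime ideal -/
theorem mem_basicOpen_of_notMem_primeIdealOf {V : X.Opens} (hV : IsAffineOpen V) {x : X} (hxV : x ∈ V)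
    {f : Γ(X, V)} (hf : f ∉ (hV.primeIdealOf ⟨x, hxV⟩).asIdeal) : x ∈ X.basicOpen f := by
  have h1 : (hV.primeIdealOf ⟨x, hxV⟩) ∈ PrimeSpectrum.basicOpen f := hf
  rw [← hV.fromSpec_preimage_basicOpen f] at h1
  have h2 : hV.fromSpec (hV.primeIdealOf ⟨x, hxV⟩) ∈ X.basicOpen f := h1
  rwa [hV.fromSpec_primeIdealOf ⟨x, hxV⟩] at h2

/-- the restriction to a smaller open of a function invertible on a basic open is invertible -/
theorem isUnit_rX_of_le_basicOpen {V W : X.Opens} (f : Γ(X, V)) (hWV : W ≤ V) (hW : W ≤ X.basicOpen f) :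
    IsUnit (rX hWV f) := by
  have h1 := RingedSpace.isUnit_res_basicOpen X.toRingedSpace f
  have h2 := h1.map (rX hW)
  have h3 : rX hW (rX (X.basicOpen_le f) f) = rX hWV f := rX_rX _ _ _
  rw [← h3]
  exact h2

/-- **local existence of the norm at a point with integrally closed local ring** -/
theorem exists_isNormOf_of_normal [IsReduced X] [IsLocallyNoetherian X] (hfin : IsFiniteAlg A) (D : ℕ)
    (U : X.Opens) (a : A.presheaf.obj (op U)) (x : X) (hxU : x ∈ U) [IsDomain (X.presheaf.stalk x)]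
    [IsIntegrallyClosed (X.presheaf.stalk x)] :
    ∃ (V : X.Opens) (hVU : V ≤ U) (t : Γ(X, V)), x ∈ V ∧ IsNormOf A D V (rA A hVU a) t := by
  obtain ⟨V, hV, hxV, hVU, hdom⟩ := exists_affine_isDomain_le x U hxU
  haveI := hdom
  haveI : IsNoetherianRing Γ(X, V) := IsLocallyNoetherian.component_noetherian ⟨V, hV⟩
  obtain ⟨h, n₀, hh, hW₀⟩ := exists_isGoodN_basicOpen hfin hV
  have hW₀V : X.basicOpen h ≤ V := X.basicOpen_le h
  have hW₀ne : X.basicOpen h ≠ ⊥ := fun hb => hh ((basicOpen_eq_bot_iff h).1 hb)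
  -- the norm on the good open
  obtain ⟨ν₀, hν₀⟩ : ∃ ν₀ : Γ(X, X.basicOpen h), ν₀ = pn A D n₀ (X.basicOpen h) (rA A (hW₀V.trans hVU) a) :=
    ⟨_, rfl⟩
  have hint : (rX hW₀V).IsIntegralElem ν₀ := by
    letI := alg A V
    letI := alg A (X.basicOpen h)
    haveI := hfin V hV
    haveI := hW₀.isGood.2.1
    haveI := hW₀.isGood.2.2
    haveI : IsDomain Γ(X, X.basicOpen h) := by
      haveI := hV.isLocalization_basicOpen h
      exact IsLocalization.isDomain_of_le_nonZeroDivisors (R := Γ(X, V)) (M := Submonoid.powers h) _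
        (powers_le_nonZeroDivisors_of_noZeroDivisors hh)
    have h1 := isIntegralElem_norm (rX hW₀V) (rA A hW₀V) (fun f => str_rX A hW₀V f) (rA A hVU a)
      (Algebra.IsIntegral.isIntegral _)
    rw [hν₀]
    unfold pn normFun
    rw [← rA_rA A hVU hW₀V]
    letI := (rX hW₀V).toAlgebra
    exact IsIntegral.pow h1 _
  -- denominators outside the prime of `x`
  letI i1 : Algebra Γ(X, V) (X.presheaf.stalk x) := TopCat.Presheaf.algebra_section_stalk X.presheaf ⟨x, hxV⟩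
  haveI : IsLocalization.AtPrime (X.presheaf.stalk x) (hV.primeIdealOf ⟨x, hxV⟩).asIdeal :=
    hV.isLocalization_stalk ⟨x, hxV⟩
  letI i2 : Algebra Γ(X, V) Γ(X, X.basicOpen h) := (rX hW₀V).toAlgebra
  haveI : IsLocalization.Away h Γ(X, X.basicOpen h) := hV.isLocalization_basicOpen h
  obtain ⟨f, c, hf, hfc⟩ := exists_mul_eq_of_isIntegral (S := X.presheaf.stalk x)
    (hV.primeIdealOf ⟨x, hxV⟩).asIdeal h hh ν₀ hint
  have hfc' : rX hW₀V f * ν₀ = rX hW₀V c := hfc
  have hxf : x ∈ X.basicOpen f := mem_basicOpen_of_notMem_primeIdealOf hV hxV hf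
  have hV'V : X.basicOpen f ≤ V := X.basicOpen_le f
  obtain ⟨u, hu⟩ := isUnit_rX_of_le_basicOpen f hV'V le_rfl
  refine ⟨X.basicOpen f, hV'V.trans hVU, rX hV'V c * ↑u⁻¹, hxf, ?_⟩
  have htf : rX hV'V f * (rX hV'V c * ↑u⁻¹) = rX hV'V c := by
    rw [← hu, mul_comm (rX hV'V c), ← mul_assoc, Units.mul_inv, one_mul]
  intro n W hW hWV'
  rw [← sub_eq_zero]
  refine eq_zero_of_dense _ (X.basicOpen h) (fun O hO hOne => ?_) (fun y hyW hyW₀ => ?_)
  · exact exists_mem_inf_of_isDomain hV (hO.trans (hWV'.trans hV'V)) hW₀V hOne hW₀ne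
  · obtain ⟨r, hrW₀, hyr⟩ := hW.1.exists_basicOpen_le (V := X.basicOpen h) ⟨y, hyW₀⟩ hyW
    have hW₁ := hW.basicOpen r
    have hW₁W : X.basicOpen r ≤ W := X.basicOpen_le r
    refine ⟨X.basicOpen r, hW₁W, hyr, ?_⟩
    rw [map_sub, sub_eq_zero, rX_rX, ← pn_res D hW hW₁ hW₁W, rA_rA, rA_rA]
    have e1 : pn A D n (X.basicOpen r) (rA A ((hW₁W.trans hWV').trans (hV'V.trans hVU)) a) =
        rX hrW₀ ν₀ := by
      rw [hν₀, ← pn_res D hW₀ hW₁ hrW₀, rA_rA]
    rw [e1]
    have e2 : rX (hW₁W.trans (hWV'.trans hV'V)) f * rX (hW₁W.trans hWV') (rX hV'V c * ↑u⁻¹) =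
        rX (hW₁W.trans (hWV'.trans hV'V)) c := by
      have := congrArg (rX (hW₁W.trans hWV')) htf
      rwa [map_mul, rX_rX, rX_rX] at this
    have e3 : rX (hW₁W.trans (hWV'.trans hV'V)) f * rX hrW₀ ν₀ = rX (hW₁W.trans (hWV'.trans hV'V)) c := by
      have := congrArg (rX hrW₀) hfc'
      rwa [map_mul, rX_rX, rX_rX] at this
    have hunit : IsUnit (rX (hW₁W.trans (hWV'.trans hV'V)) f) :=
      isUnit_rX_of_le_basicOpen f _ (hW₁W.trans hWV')
    exact hunit.mul_left_cancel (e2.trans e3.symm)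

/-- a function on a basic open of an integral affine open, integral over the functions of the latter, extends over a
neighbourhood of any point with integrally closed local ring -/
theorem exists_extension_of_isIntegralElem {V : X.Opens} (hV : IsAffineOpen V) [IsDomain Γ(X, V)] (y : X)
    (hyV : y ∈ V) [IsDomain (X.presheaf.stalk y)] [IsIntegrallyClosed (X.presheaf.stalk y)]
    (h : Γ(X, V)) (hh : h ≠ 0) (c : Γ(X, X.basicOpen h)) (hc : (rX (X.basicOpen_le h)).IsIntegralElem c) :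
    ∃ (V' : X.Opens) (hV' : V' ≤ V) (c' : Γ(X, V')), y ∈ V' ∧
      ∀ (W₁ : X.Opens) (h₁ : W₁ ≤ V') (h₀ : W₁ ≤ X.basicOpen h), rX h₁ c' = rX h₀ c := by
  have hW₀V : X.basicOpen h ≤ V := X.basicOpen_le h
  letI i1 : Algebra Γ(X, V) (X.presheaf.stalk y) := TopCat.Presheaf.algebra_section_stalk X.presheaf ⟨y, hyV⟩
  haveI : IsLocalization.AtPrime (X.presheaf.stalk y) (hV.primeIdealOf ⟨y, hyV⟩).asIdeal :=
    hV.isLocalization_stalk ⟨y, hyV⟩
  letI i2 : Algebra Γ(X, V) Γ(X, X.basicOpen h) := (rX hW₀V).toAlgebra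
  haveI : IsLocalization.Away h Γ(X, X.basicOpen h) := hV.isLocalization_basicOpen h
  obtain ⟨f, a, hf, hfa⟩ := exists_mul_eq_of_isIntegral (S := X.presheaf.stalk y)
    (hV.primeIdealOf ⟨y, hyV⟩).asIdeal h hh c hc
  have hfa' : rX hW₀V f * c = rX hW₀V a := hfa
  have hyf : y ∈ X.basicOpen f := mem_basicOpen_of_notMem_primeIdealOf hV hyV hf
  have hV'V : X.basicOpen f ≤ V := X.basicOpen_le f
  obtain ⟨u, hu⟩ := isUnit_rX_of_le_basicOpen f hV'V le_rfl
  refine ⟨X.basicOpen f, hV'V, rX hV'V a * ↑u⁻¹, hyf, ?_⟩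
  have htf : rX hV'V f * (rX hV'V a * ↑u⁻¹) = rX hV'V a := by
    rw [← hu, mul_comm (rX hV'V a), ← mul_assoc, Units.mul_inv, one_mul]
  intro W₁ h₁ h₀
  have e2 : rX (h₁.trans hV'V) f * rX h₁ (rX hV'V a * ↑u⁻¹) = rX (h₁.trans hV'V) a := by
    have := congrArg (rX h₁) htf
    rwa [map_mul, rX_rX, rX_rX] at this
  have e3 : rX (h₁.trans hV'V) f * rX h₀ c = rX (h₁.trans hV'V) a := by
    have := congrArg (rX h₀) hfa'
    rwa [map_mul, rX_rX, rX_rX] at this
  have hunit : IsUnit (rX (h₁.trans hV'V) f) := isUnit_rX_of_le_basicOpen f _ h₁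
  exact hunit.mul_left_cancel (e2.trans e3.symm)

/-- a common multiple of the ranks of the nonempty good opens -/
theorem exists_rank_bound [NoetherianSpace X]
    (hrank : ∀ (n : ℕ) (W : X.Opens), IsGoodN A n W → W ≠ ⊥ → 1 ≤ n) :
    ∃ D : ℕ, 0 < D ∧ ∀ (n : ℕ) (W : X.Opens), IsGoodN A n W → W ≠ ⊥ → n ∣ D := by
  classical
  let ι := {p : ℕ × X.Opens // IsGoodN A p.1 p.2}
  let G : Set X := ⋃ p : ι, (p.1.2 : Set X)
  have hG : IsCompact G := NoetherianSpace.isCompact G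
  obtain ⟨T, hT⟩ := hG.elim_finite_subcover (fun p : ι => (p.1.2 : Set X)) (fun p => p.1.2.isOpen) subset_rfl
  refine ⟨∏ p ∈ T, (if p.1.2 = ⊥ then 1 else p.1.1), Finset.prod_pos (fun p _ => ?_), fun n W hW hne => ?_⟩
  · split_ifs with hp
    · exact Nat.one_pos
    · exact hrank _ _ p.2 hp
  · obtain ⟨x, hx⟩ : ∃ x, x ∈ W := by
      by_contra hc
      apply hne
      ext x
      simp only [Opens.coe_bot, Set.mem_empty_iff_false, iff_false]
      exact fun hx => hc ⟨x, hx⟩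
    have hxG : x ∈ G := Set.mem_iUnion.2 ⟨⟨(n, W), hW⟩, hx⟩
    obtain ⟨p, hp⟩ := Set.mem_iUnion.1 (hT hxG)
    obtain ⟨hpT, hxp⟩ := Set.mem_iUnion.1 hp
    have hxp' : x ∈ p.1.2 := hxp
    obtain ⟨r, hrp, hxr⟩ := hW.1.exists_basicOpen_le (V := p.1.2) ⟨x, hxp'⟩ hx
    have hnp : p.1.1 = n := p.2.rank_eq (hW.basicOpen r) hrp hxr
    have hpne : p.1.2 ≠ ⊥ := ne_bot_of_mem hxp'
    have hdvd := Finset.dvd_prod_of_mem (fun p : ι => if p.1.2 = ⊥ then 1 else p.1.1) hpT
    rw [if_neg hpne, hnp] at hdvd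
    exact hdvd

/-- nonempty good opens have positive rank if the algebra is nonzero on nonempty opens -/
theorem one_le_rank (hnz : ∀ W : X.Opens, W ≠ ⊥ → Nontrivial (A.presheaf.obj (op W))) (n : ℕ) (W : X.Opens)
    (hW : IsGoodN A n W) (hne : W ≠ ⊥) : 1 ≤ n := by
  obtain ⟨-, ⟨b⟩⟩ := hW
  letI := alg A W
  by_contra hn
  have hn0 : n = 0 := by omega
  subst hn0
  haveI := hnz W hne
  haveI : Subsingleton (A.presheaf.obj (op W)) := b.repr.toEquiv.subsingleton
  exact not_subsingleton (A.presheaf.obj (op W)) inferInstance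

/-- the pointwise hypothesis: integrally closed local ring, or a good neighbourhood -/
def NormalOrGood (A : RelSpec.QCAlg X) (x : X) : Prop :=
  (IsDomain (X.presheaf.stalk x) ∧ IsIntegrallyClosed (X.presheaf.stalk x)) ∨
    ∃ (n : ℕ) (W : X.Opens), IsGoodN A n W ∧ x ∈ W

/-- **existence of the glued norm** -/
theorem exists_setup [IsReduced X] [IsLocallyNoetherian X] [NoetherianSpace X] (hfin : IsFiniteAlg A)
    (hnz : ∀ W : X.Opens, W ≠ ⊥ → Nontrivial (A.presheaf.obj (op W))) (hpt : ∀ x : X, NormalOrGood A x) :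
    ∃ D : ℕ, 0 < D ∧ Setup A D := by
  obtain ⟨D, hD, hdvd⟩ := exists_rank_bound (A := A) (one_le_rank hnz)
  refine ⟨D, hD, ?_, hdvd, ?_⟩
  · intro U hU
    obtain ⟨x, hx⟩ : ∃ x, x ∈ U := by
      by_contra hc
      apply hU
      ext x
      simp only [Opens.coe_bot, Set.mem_empty_iff_false, iff_false]
      exact fun hx => hc ⟨x, hx⟩
    rcases hpt x with ⟨hdom, -⟩ | ⟨n, W, hW, hxW⟩
    · haveI := hdom
      obtain ⟨V, hV, hxV, hVU, hdomV⟩ := exists_affine_isDomain_le x U hx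
      haveI := hdomV
      haveI : IsNoetherianRing Γ(X, V) := IsLocallyNoetherian.component_noetherian ⟨V, hV⟩
      obtain ⟨h, n₀, hh, hW₀⟩ := exists_isGoodN_basicOpen hfin hV
      exact ⟨n₀, X.basicOpen h, hW₀, (X.basicOpen_le h).trans hVU,
        fun hb => hh ((basicOpen_eq_bot_iff h).1 hb)⟩
    · obtain ⟨r, hrU, hxr⟩ := hW.1.exists_basicOpen_le (V := U) ⟨x, hx⟩ hxW
      exact ⟨n, X.basicOpen r, hW.basicOpen r, hrU, ne_bot_of_mem hxr⟩
  · intro U a x hxU
    rcases hpt x with ⟨hdom, hic⟩ | ⟨n, W, hW, hxW⟩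
    · haveI := hdom
      haveI := hic
      exact exists_isNormOf_of_normal hfin D U a x hxU
    · obtain ⟨r, hrU, hxr⟩ := hW.1.exists_basicOpen_le (V := U) ⟨x, hxU⟩ hxW
      exact ⟨X.basicOpen r, hrU, _, hxr, isNormOf_pn D (hW.basicOpen r) _⟩

end Groth.Agent.Lib.Helper11.MixNorm
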