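import Mathlib
import Groth.Prelude
import Groth.Agent.Lib.Helper11MixNorm2

/-!
# Mixed norms III : sections with invertible norm are invertible modulo generically vanishing sections (helper11)

Namespace `Groth.Agent.Lib.Helper11.MixNorm`.
-/

set_option autoImplicit false
set_option linter.style.haveILetI false
set_option linter.unusedVariables false
universe u
open CategoryTheory CategoryTheory.Limits AlgebraicGeometry TopologicalSpace Opposite Polynomial

namespace Groth.Agent.Lib.Helper11.MixNorm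

open Groth.Agent.Helper18Trace Groth.Agent.Helper18Norm Groth.Agent.Lib.Helper11.MixNormAlg

variable {X : Scheme.{u}} {A : RelSpec.QCAlg X}

/-- the algebra has no nonzero sections over the empty open -/
theorem subsingleton_A_bot : Subsingleton (A.presheaf.obj (op (⊥ : X.Opens))) := by
  have h : (0 : A.presheaf.obj (op (⊥ : X.Opens))) = 1 := by
    have h1 : (A.str.app (op ⊥)).hom (1 : Γ(X, ⊥)) = 1 := map_one _
    have h0 : (A.str.app (op ⊥)).hom (0 : Γ(X, ⊥)) = 0 := map_zero _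
    rw [← h1, ← h0, Subsingleton.elim (1 : Γ(X, ⊥)) 0]
  exact subsingleton_of_zero_eq_one h

/-- a section of `A` over a good open inside an integral affine open which vanishes on the part over a nonempty open
vanishes -/
theorem eq_zero_of_rA_eq_zero [IsReduced X] {V : X.Opens} (hV : IsAffineOpen V) [IsDomain Γ(X, V)]
    {n : ℕ} {W : X.Opens} (hW : IsGoodN A n W) (hWV : W ≤ V) (W₂ : X.Opens) (hW₂V : W₂ ≤ V) (hW₂ne : W₂ ≠ ⊥)
    (τ : A.presheaf.obj (op W))
    (hτ : ∀ (W₁ : X.Opens) (h₁ : W₁ ≤ W), W₁ ≤ W₂ → rA A h₁ τ = 0) : τ = 0 := by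
  obtain ⟨hWa, ⟨b⟩⟩ := hW
  letI := alg A W
  suffices h : ∀ j, b.repr τ j = 0 by
    apply b.repr.injective
    ext j
    rw [h j, map_zero]
    rfl
  intro j
  refine eq_zero_of_dense _ W₂ (fun O hO hOne => ?_) (fun y hyW hyW₂ => ?_)
  · exact exists_mem_inf_of_isDomain hV (hO.trans hWV) hW₂V hOne hW₂ne
  · obtain ⟨r, hrW₂, hyr⟩ := hWa.exists_basicOpen_le (V := W₂) ⟨y, hyW₂⟩ hyW
    refine ⟨X.basicOpen r, X.basicOpen_le r, hyr, ?_⟩
    have h0 : rA A (X.basicOpen_le r) τ = 0 := hτ _ _ hrW₂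
    letI : Algebra (A.presheaf.obj (op W)) (A.presheaf.obj (op (X.basicOpen r))) :=
      (rA A (X.basicOpen_le r)).toAlgebra
    haveI : IsLocalization.Away ((A.str.app (op W)).hom r) (A.presheaf.obj (op (X.basicOpen r))) :=
      A.isQC W hWa r
    have h0' : algebraMap (A.presheaf.obj (op W)) (A.presheaf.obj (op (X.basicOpen r))) τ = 0 := h0
    obtain ⟨⟨m, k, hk⟩, hm⟩ := (IsLocalization.map_eq_zero_iff
      (Submonoid.powers ((A.str.app (op W)).hom r)) (A.presheaf.obj (op (X.basicOpen r))) τ).1 h0'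
    have hm' : (A.str.app (op W)).hom r ^ k * τ = 0 := by
      have : m * τ = 0 := hm
      rw [← this]
      congr 1
    have hsm : (r ^ k) • τ = 0 := by
      rw [Algebra.smul_def, map_pow]
      exact hm'
    have hj : r ^ k * b.repr τ j = 0 := by
      have := congrArg (fun v => b.repr v j) hsm
      simpa using this
    have hu : IsUnit (rX (X.basicOpen_le r) r) := isUnit_rX_of_le_basicOpen r _ le_rfl
    have h2 : rX (X.basicOpen_le r) r ^ k * rX (X.basicOpen_le r) (b.repr τ j) = 0 := by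
      rw [← map_pow, ← map_mul, hj, map_zero]
    exact (hu.pow k).mul_right_eq_zero.1 h2

theorem div_ne_zero_of_dvd {n D : ℕ} (hD : 0 < D) (h : n ∣ D) : D / n ≠ 0 :=
  (Nat.div_pos (Nat.le_of_dvd hD h) (Nat.pos_of_dvd_of_pos h hD)).ne'

/-- near a point with a good neighbourhood, a section whose norm is invertible at the point is invertible -/
theorem Setup.exists_inverse_of_good [IsReduced X] {D : ℕ} (S : Setup A D) (hD : 0 < D) (U : X.Opens)
    (a : A.presheaf.obj (op U)) (y : X) (hyU : y ∈ U)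
    (hu : IsUnit (X.presheaf.germ U y hyU (S.nrm U a))) {n : ℕ} {W : X.Opens} (hW : IsGoodN A n W)
    (hyW : y ∈ W) :
    ∃ (V : X.Opens) (hVU : V ≤ U) (q : A.presheaf.obj (op V)), y ∈ V ∧ rA A hVU a * q = 1 := by
  have hyO : y ∈ X.basicOpen (S.nrm U a) := (X.mem_basicOpen _ y hyU).2 hu
  obtain ⟨r, hrO, hyr⟩ := hW.1.exists_basicOpen_le (V := X.basicOpen (S.nrm U a)) ⟨y, hyO⟩ hyW
  have hrU : X.basicOpen r ≤ U := hrO.trans (X.basicOpen_le _)
  have hW₁ := hW.basicOpen r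
  have hdvd := S.dvd n _ hW₁ (ne_bot_of_mem hyr)
  have h1 : IsUnit (S.nrm (X.basicOpen r) (rA A hrU a)) := by
    rw [← S.nrm_res hrU]
    exact isUnit_rX_of_le_basicOpen _ hrU hrO
  rw [S.nrm_good hW₁] at h1
  unfold pn at h1
  rw [isUnit_pow_iff (div_ne_zero_of_dvd hD hdvd)] at h1
  letI := alg A (X.basicOpen r)
  haveI := hW₁.isGood.2.1
  haveI := hW₁.isGood.2.2
  have h2 : IsUnit (rA A hrU a) := isUnit_of_isUnit_norm _ h1
  obtain ⟨v, hv⟩ := h2
  exact ⟨X.basicOpen r, hrU, ↑v⁻¹, hyr, by rw [← hv, Units.mul_inv]⟩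

/-- near a point with integrally closed local ring, a section whose norm is invertible at the point is invertible
modulo a section vanishing on all good opens -/
theorem Setup.exists_inverse_of_normal [IsReduced X] [IsLocallyNoetherian X] {D : ℕ} (S : Setup A D) (hD : 0 < D)
    (hfin : IsFiniteAlg A) (U : X.Opens) (a : A.presheaf.obj (op U)) (y : X) (hyU : y ∈ U)
    (hu : IsUnit (X.presheaf.germ U y hyU (S.nrm U a)))
    [IsDomain (X.presheaf.stalk y)] [IsIntegrallyClosed (X.presheaf.stalk y)] :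
    ∃ (V : X.Opens) (hVU : V ≤ U) (q τ : A.presheaf.obj (op V)), y ∈ V ∧ rA A hVU a * q = 1 + τ ∧
      ∀ (n : ℕ) (W : X.Opens), IsGoodN A n W → ∀ h : W ≤ V, rA A h τ = 0 := by
  have hyO : y ∈ X.basicOpen (S.nrm U a) := (X.mem_basicOpen _ y hyU).2 hu
  obtain ⟨V, hV, hyV, hVO, hdom⟩ := exists_affine_isDomain_le y (X.basicOpen (S.nrm U a)) hyO
  have hVU : V ≤ U := hVO.trans (X.basicOpen_le _)
  haveI := hdom
  haveI : IsNoetherianRing Γ(X, V) := IsLocallyNoetherian.component_noetherian ⟨V, hV⟩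
  obtain ⟨h, n₀, hh, hW₀⟩ := exists_isGoodN_basicOpen hfin hV
  have hW₀V : X.basicOpen h ≤ V := X.basicOpen_le h
  have hW₀ne : X.basicOpen h ≠ ⊥ := fun hb => hh ((basicOpen_eq_bot_iff h).1 hb)
  have hdvd := S.dvd n₀ _ hW₀ hW₀ne
  have hk := div_ne_zero_of_dvd hD hdvd
  have hn₀ : 0 < n₀ := Nat.pos_of_dvd_of_pos hdvd hD
  letI iV := alg A V
  letI iW₀ := alg A (X.basicOpen h)
  haveI := hfin V hV
  haveI hfree₀ := hW₀.isGood.2.1
  haveI hfin₀ := hW₀.isGood.2.2
  haveI hdomW₀ : IsDomain Γ(X, X.basicOpen h) := by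
    haveI := hV.isLocalization_basicOpen h
    exact IsLocalization.isDomain_of_le_nonZeroDivisors (R := Γ(X, V)) (M := Submonoid.powers h) _
      (powers_le_nonZeroDivisors_of_noZeroDivisors hh)
  obtain ⟨e, he⟩ : ∃ e : A.presheaf.obj (op (X.basicOpen h)), e = rA A (hW₀V.trans hVU) a := ⟨_, rfl⟩
  obtain ⟨χ, hχ⟩ : ∃ χ : Polynomial Γ(X, X.basicOpen h),
      χ = (Algebra.lmul Γ(X, X.basicOpen h) (A.presheaf.obj (op (X.basicOpen h))) e).charpoly := ⟨_, rfl⟩
  have hχmonic : χ.Monic := hχ ▸ LinearMap.charpoly_monic _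
  have hrank : Module.finrank Γ(X, X.basicOpen h) (A.presheaf.obj (op (X.basicOpen h))) = n₀ := by
    obtain ⟨-, ⟨b⟩⟩ := hW₀
    rw [Module.finrank_eq_card_basis b, Fintype.card_fin]
  have hχdeg : χ.natDegree = n₀ := by
    rw [hχ, LinearMap.charpoly_natDegree, hrank]
  have hint : ∀ i, (rX hW₀V).IsIntegralElem (χ.coeff i) := by
    intro i
    have h1 := isIntegralElem_charpoly_coeff_lmul (rX hW₀V) (rA A hW₀V) (fun f => str_rX A hW₀V f) (rA A hVU a)
      (Algebra.IsIntegral.isIntegral _) i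
    rwa [rA_rA, ← he, ← hχ] at h1
  have hext := fun i => exists_extension_of_isIntegralElem hV y hyV h hh (χ.coeff i) (hint i)
  choose Vi hVi ci hyVi hci using hext
  have hyinf : y ∈ ⨅ i : Fin n₀, Vi i.1 := by
    rw [← SetLike.mem_coe, Opens.coe_iInf]
    exact Set.mem_iInter.2 (fun i => hyVi i.1)
  obtain ⟨F, hFV, hyF⟩ := hV.exists_basicOpen_le (V := ⨅ i : Fin n₀, Vi i.1) ⟨y, hyinf⟩ hyV
  have hV'V : X.basicOpen F ≤ V := X.basicOpen_le F
  have hV'Vi : ∀ i : Fin n₀, X.basicOpen F ≤ Vi i.1 := fun i => hFV.trans (iInf_le _ i)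
  have hV' : IsAffineOpen (X.basicOpen F) := hV.basicOpen F
  have hF : F ≠ 0 := by
    rintro rfl
    rw [Scheme.basicOpen_zero] at hyF
    exact hyF
  haveI hdomV' : IsDomain Γ(X, X.basicOpen F) := by
    haveI := hV.isLocalization_basicOpen F
    exact IsLocalization.isDomain_of_le_nonZeroDivisors (R := Γ(X, V)) (M := Submonoid.powers F) _
      (powers_le_nonZeroDivisors_of_noZeroDivisors hF)
  -- the lifted characteristic polynomial
  let cc : ℕ → Γ(X, X.basicOpen F) := fun i => if hi : i < n₀ then rX (hV'Vi ⟨i, hi⟩) (ci i) else 1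
  obtain ⟨χ', hχ'⟩ : ∃ χ' : Polynomial Γ(X, X.basicOpen F),
      χ' = ∑ i ∈ Finset.range (n₀ + 1), Polynomial.monomial i (cc i) := ⟨_, rfl⟩
  have hχ'coeff : ∀ j, χ'.coeff j = if j < n₀ + 1 then cc j else 0 := by
    intro j
    rw [hχ', Polynomial.finsetSum_coeff]
    simp only [Polynomial.coeff_monomial]
    rw [Finset.sum_ite_eq' (Finset.range (n₀ + 1)) j]
    simp only [Finset.mem_range]
  -- the good open `V' ∩ W₀`
  have hW₂ : IsGoodN A n₀ (X.basicOpen (rX hW₀V F)) := hW₀.basicOpen _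
  have hW₂W₀ : X.basicOpen (rX hW₀V F) ≤ X.basicOpen h := X.basicOpen_le _
  have hW₂eq : X.basicOpen (rX hW₀V F) = X.basicOpen h ⊓ X.basicOpen F := Scheme.basicOpen_res _ _ _
  have hW₂V' : X.basicOpen (rX hW₀V F) ≤ X.basicOpen F := by
    rw [hW₂eq]
    exact inf_le_right
  have hW₂ne : X.basicOpen (rX hW₀V F) ≠ ⊥ := by
    obtain ⟨y', hy'1, hy'2⟩ := exists_mem_inf_of_isDomain hV hW₀V hV'V hW₀ne (ne_bot_of_mem hyF)
    have : y' ∈ X.basicOpen (rX hW₀V F) := by
      rw [hW₂eq]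
      exact ⟨hy'1, hy'2⟩
    exact ne_bot_of_mem this
  have hmap : χ'.map (rX hW₂V') = χ.map (rX hW₂W₀) := by
    ext j
    rw [Polynomial.coeff_map, Polynomial.coeff_map, hχ'coeff]
    by_cases hj : j < n₀
    · rw [if_pos (by omega)]
      simp only [cc, dif_pos hj]
      rw [rX_rX]
      exact hci j _ _ hW₂W₀
    · by_cases hj' : j = n₀
      · subst hj'
        rw [if_pos (by omega)]
        simp only [cc, dif_neg hj]
        have h1 : χ.coeff j = 1 := by
          rw [← hχdeg]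
          exact hχmonic.coeff_natDegree
        rw [h1, map_one, map_one]
      · rw [if_neg (by omega), map_zero, Polynomial.coeff_eq_zero_of_natDegree_lt (by omega), map_zero]
  letI iV' := alg A (X.basicOpen F)
  obtain ⟨a', ha'⟩ : ∃ a' : A.presheaf.obj (op (X.basicOpen F)), a' = rA A (hV'V.trans hVU) a := ⟨_, rfl⟩
  obtain ⟨τ, hτ⟩ : ∃ τ : A.presheaf.obj (op (X.basicOpen F)), τ = Polynomial.aeval a' χ' := ⟨_, rfl⟩
  -- `τ` vanishes on `V' ∩ W₀` by Cayley-Hamilton
  have hτW₂ : rA A hW₂V' τ = 0 := by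
    have h1 : rA A hW₂V' τ = Polynomial.eval₂ ((rA A hW₂V').comp
        (algebraMap Γ(X, X.basicOpen F) (A.presheaf.obj (op (X.basicOpen F))))) (rA A hW₂V' a') χ' := by
      rw [hτ, Polynomial.aeval_def, Polynomial.hom_eval₂]
    have h2 : (rA A hW₂V').comp (algebraMap Γ(X, X.basicOpen F) (A.presheaf.obj (op (X.basicOpen F)))) =
        (A.str.app (op (X.basicOpen (rX hW₀V F)))).hom.comp (rX hW₂V') := by
      ext f
      exact str_rX A hW₂V' f
    have h3 : (A.str.app (op (X.basicOpen (rX hW₀V F)))).hom.comp (rX hW₂W₀) =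
        (rA A hW₂W₀).comp (algebraMap Γ(X, X.basicOpen h) (A.presheaf.obj (op (X.basicOpen h)))) := by
      ext f
      exact (str_rX A hW₂W₀ f).symm
    have h4 : rA A hW₂V' a' = rA A hW₂W₀ e := by
      rw [ha', he, rA_rA, rA_rA]
    rw [h1, h2, ← Polynomial.eval₂_map, hmap, Polynomial.eval₂_map, h3, h4, ← Polynomial.hom_eval₂,
      ← Polynomial.aeval_def, hχ, aeval_self_charpoly_lmul, map_zero]
  have hτgood : ∀ (n : ℕ) (W : X.Opens), IsGoodN A n W → ∀ hW : W ≤ X.basicOpen F, rA A hW τ = 0 := by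
    intro n W hW hWV'
    refine eq_zero_of_rA_eq_zero hV' hW hWV' _ hW₂V' hW₂ne _ (fun W₁ h₁ h₁₂ => ?_)
    rw [rA_rA]
    have h5 : rA A (h₁.trans hWV') τ = rA A h₁₂ (rA A hW₂V' τ) := (rA_rA A _ _ _).symm
    rw [h5, hτW₂, map_zero]
  -- the constant coefficient is invertible
  have hc0 : IsUnit (cc 0) := by
    have heq : ((-1) ^ n₀ * cc 0) ^ (D / n₀) = rX (hV'V.trans hVU) (S.nrm U a) := by
      rw [← sub_eq_zero]
      refine eq_zero_of_dense _ (X.basicOpen (rX hW₀V F))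
        (fun O hO hOne => exists_mem_inf_of_isDomain hV' hO hW₂V' hOne hW₂ne)
        (fun y' _ hy'W₂ => ⟨_, hW₂V', hy'W₂, ?_⟩)
      rw [map_sub, sub_eq_zero, map_pow, map_mul, map_pow, map_neg, map_one, rX_rX, S.nrm_res,
        S.nrm_good hW₂]
      unfold pn
      congr 1
      have h1 : rX hW₂V' (cc 0) = rX hW₂W₀ (χ.coeff 0) := by
        simp only [cc, dif_pos hn₀]
        rw [rX_rX]
        exact hci 0 _ _ hW₂W₀
      have h2 : normFun A (X.basicOpen h) e = (-1) ^ n₀ * χ.coeff 0 := by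
        unfold normFun
        rw [Algebra.norm_apply, LinearMap.det_eq_sign_charpoly_coeff, hrank, hχ]
      have h3 : rA A (hW₂V'.trans (hV'V.trans hVU)) a = rA A hW₂W₀ e := by
        rw [he, rA_rA]
      rw [h1, h3, normFun_res hW₀ hW₂ hW₂W₀, h2, map_mul, map_pow, map_neg, map_one]
    have hN' : IsUnit (rX (hV'V.trans hVU) (S.nrm U a)) := isUnit_rX_of_le_basicOpen _ _ (hV'V.trans hVO)
    rw [← heq, isUnit_pow_iff hk] at hN'
    exact (IsUnit.mul_iff.1 hN').2
  have hτeq : τ = Polynomial.aeval a' (Polynomial.divX χ') * a' +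
      algebraMap Γ(X, X.basicOpen F) (A.presheaf.obj (op (X.basicOpen F))) (cc 0) := by
    have h1 := Polynomial.divX_mul_X_add χ'
    have h2 := congrArg (Polynomial.aeval a') h1
    rw [map_add, map_mul, Polynomial.aeval_X, Polynomial.aeval_C, hχ'coeff 0, if_pos (by omega), ← hτ] at h2
    exact h2.symm
  obtain ⟨v, hv⟩ := hc0
  have hs : algebraMap Γ(X, X.basicOpen F) (A.presheaf.obj (op (X.basicOpen F))) (↑v⁻¹ : Γ(X, X.basicOpen F)) *
      algebraMap Γ(X, X.basicOpen F) (A.presheaf.obj (op (X.basicOpen F))) (cc 0) = 1 := by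
    rw [← map_mul, ← hv, Units.inv_mul, map_one]
  refine ⟨X.basicOpen F, hV'V.trans hVU,
    -(algebraMap Γ(X, X.basicOpen F) (A.presheaf.obj (op (X.basicOpen F))) (↑v⁻¹ : Γ(X, X.basicOpen F))) *
      Polynomial.aeval a' (Polynomial.divX χ'),
    -(algebraMap Γ(X, X.basicOpen F) (A.presheaf.obj (op (X.basicOpen F))) (↑v⁻¹ : Γ(X, X.basicOpen F))) * τ,
    hyF, ?_, ?_⟩
  · rw [← ha']
    linear_combination (algebraMap Γ(X, X.basicOpen F) (A.presheaf.obj (op (X.basicOpen F)))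
      (↑v⁻¹ : Γ(X, X.basicOpen F))) * hτeq + hs
  · intro n W hW hWV'
    rw [map_mul, hτgood n W hW hWV', mul_zero]

end Groth.Agent.Lib.Helper11.MixNorm
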