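import Mathlib
import Groth.Prelude
import Groth.Agent.Lib.Helper11MixNorm3
set_option backward.isDefEq.respectTransparency.types false

/-!
# Determinant fractional ideals II : the free locus, its norm and its rank idempotents (helper11)

Namespace `Groth.Agent.Lib.Helper11.Bir`.
-/

set_option autoImplicit false
set_option linter.style.haveILetI false
universe u
open CategoryTheory CategoryTheory.Limits AlgebraicGeometry TopologicalSpace Opposite

namespace Groth.Agent.Lib.Helper11.Bir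

open Groth.Agent.Lib.Helper11.MixNorm Groth.Agent.Helper18Trace Groth.Agent.Helper18Norm

variable {X : Scheme.{u}} (A : RelSpec.QCAlg X)

/-- the union of the good opens -/
def goodLocus : X.Opens := ⨆ p : {p : ℕ × X.Opens // IsGoodN A p.1 p.2}, p.1.2

variable {A}

theorem mem_goodLocus {x : X} : x ∈ goodLocus A ↔ ∃ (n : ℕ) (W : X.Opens), IsGoodN A n W ∧ x ∈ W := by
  unfold goodLocus
  rw [Opens.mem_iSup]
  constructor
  · rintro ⟨⟨⟨n, W⟩, hW⟩, hx⟩
    exact ⟨n, W, hW, hx⟩
  · rintro ⟨n, W, hW, hx⟩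
    exact ⟨⟨⟨n, W⟩, hW⟩, hx⟩

theorem le_goodLocus {n : ℕ} {W : X.Opens} (hW : IsGoodN A n W) : W ≤ goodLocus A :=
  fun _ hx => mem_goodLocus.2 ⟨n, W, hW, hx⟩

/-- a nonempty open of a reduced locally Noetherian scheme contains a point whose local ring is a domain -/
theorem exists_isDomain_stalk [IsReduced X] [IsLocallyNoetherian X] (U' : X.Opens) (hne : U' ≠ ⊥) :
    ∃ y : X, y ∈ U' ∧ IsDomain (X.presheaf.stalk y) := by
  obtain ⟨x, hx⟩ : ∃ x, x ∈ U' := by
    by_contra hc
    apply hne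
    ext x
    simp only [Opens.coe_bot, Set.mem_empty_iff_false, iff_false]
    exact fun hx => hc ⟨x, hx⟩
  obtain ⟨_, ⟨V, hV, rfl⟩, hxV, hVU⟩ := X.isBasis_affineOpens.exists_subset_of_mem_open hx U'.2
  haveI : Nontrivial Γ(X, V) := nontrivial_of_mem hxV
  obtain ⟨q, hq⟩ := Ideal.nonempty_minimalPrimes (bot_ne_top : (⊥ : Ideal Γ(X, V)) ≠ ⊤)
  haveI hqp : q.IsPrime := hq.1.1
  let y : PrimeSpectrum Γ(X, V) := ⟨q, hqp⟩
  have hyV : hV.fromSpec y ∈ V := (hV.isoSpec.inv y).2
  refine ⟨hV.fromSpec y, hVU hyV, ?_⟩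
  letI := TopCat.Presheaf.algebra_section_stalk X.presheaf ⟨hV.fromSpec y, hyV⟩
  haveI : IsLocalization.AtPrime (X.presheaf.stalk (hV.fromSpec y)) q := hV.isLocalization_stalk' y hyV
  have h1 := IsLocalization.AtPrime.radical_map_of_mem_minimalPrimes (A := X.presheaf.stalk (hV.fromSpec y)) q ⊥ hq
  rw [Ideal.map_bot, IsLocalization.AtPrime.map_eq_maximalIdeal q] at h1
  have h2 : IsLocalRing.maximalIdeal (X.presheaf.stalk (hV.fromSpec y)) = ⊥ := by
    rw [← h1]
    exact nilradical_eq_zero _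
  exact (IsLocalRing.isField_iff_maximalIdeal_eq.2 h2).isDomain

/-- on a reduced locally Noetherian scheme the good opens of a finite algebra are dense -/
theorem goodDense_of_isFiniteAlg [IsReduced X] [IsLocallyNoetherian X] (hfin : IsFiniteAlg A) : GoodDense A := by
  intro U' hne
  obtain ⟨y, hyU, hdom⟩ := exists_isDomain_stalk U' hne
  haveI := hdom
  obtain ⟨V, hV, hyV, hVU, hVdom⟩ := exists_affine_isDomain_le y U' hyU
  haveI := hVdom
  haveI : IsNoetherianRing Γ(X, V) := IsLocallyNoetherian.component_noetherian ⟨V, hV⟩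
  obtain ⟨h, n, hh, hgood⟩ := exists_isGoodN_basicOpen hfin hV
  refine ⟨n, X.basicOpen h, hgood, (X.basicOpen_le h).trans hVU, ?_⟩
  intro hbot
  rw [basicOpen_eq_bot_iff] at hbot
  exact hh hbot

variable (A) in
/-- the data for the norm on the good locus -/
structure USetup (D : ℕ) : Prop where
  /-- good opens are dense -/
  dense : GoodDense A
  /-- ranks of nonempty good opens divide `D` -/
  dvd : ∀ (n : ℕ) (W : X.Opens), IsGoodN A n W → W ≠ ⊥ → n ∣ D
  /-- ranks of nonempty good opens are positive -/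
  pos : ∀ (n : ℕ) (W : X.Opens), IsGoodN A n W → W ≠ ⊥ → 1 ≤ n
  /-- the degree is positive -/
  one_le : 1 ≤ D

theorem exists_isNormOf_of_le_goodLocus [IsReduced X] (hd : GoodDense A) (D : ℕ) (T : X.Opens)
    (hT : T ≤ goodLocus A) (a : A.presheaf.obj (op T)) : ∃ t : Γ(X, T), IsNormOf A D T a t := by
  refine exists_isNormOf_of_locally hd D T a fun x hx => ?_
  obtain ⟨n, W, hW, hxW⟩ := mem_goodLocus.1 (hT hx)
  obtain ⟨r, hrT, hxr⟩ := hW.1.exists_basicOpen_le (V := T) ⟨x, hx⟩ hxW
  exact ⟨X.basicOpen r, hrT, pn A D n _ (rA A hrT a), hxr, isNormOf_pn D (hW.basicOpen r) _⟩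

namespace USetup

variable [IsReduced X] {D : ℕ} (S : USetup A D)

/-- the norm on opens of the good locus -/
noncomputable def nrm (T : X.Opens) (hT : T ≤ goodLocus A) (a : A.presheaf.obj (op T)) : Γ(X, T) :=
  (exists_isNormOf_of_le_goodLocus S.dense D T hT a).choose

theorem isNormOf_nrm (T : X.Opens) (hT : T ≤ goodLocus A) (a : A.presheaf.obj (op T)) :
    IsNormOf A D T a (S.nrm T hT a) :=
  (exists_isNormOf_of_le_goodLocus S.dense D T hT a).choose_spec

theorem nrm_eq {T : X.Opens} (hT : T ≤ goodLocus A) {a : A.presheaf.obj (op T)} {t : Γ(X, T)}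
    (h : IsNormOf A D T a t) : S.nrm T hT a = t := (S.isNormOf_nrm T hT a).unique S.dense h

theorem nrm_res {T T' : X.Opens} (hT : T ≤ goodLocus A) (h : T' ≤ T) (a : A.presheaf.obj (op T)) :
    rX h (S.nrm T hT a) = S.nrm T' (h.trans hT) (rA A h a) :=
  (S.nrm_eq (h.trans hT) ((S.isNormOf_nrm T hT a).res h)).symm

theorem nrm_one (T : X.Opens) (hT : T ≤ goodLocus A) : S.nrm T hT 1 = 1 := by
  apply S.nrm_eq
  intro n W hW h
  rw [map_one, map_one, pn_one]

theorem nrm_mul (T : X.Opens) (hT : T ≤ goodLocus A) (a b : A.presheaf.obj (op T)) :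
    S.nrm T hT (a * b) = S.nrm T hT a * S.nrm T hT b := by
  apply S.nrm_eq
  intro n W hW h
  rw [map_mul, map_mul, pn_mul, S.isNormOf_nrm T hT a n W hW h, S.isNormOf_nrm T hT b n W hW h]

theorem nrm_str (T : X.Opens) (hT : T ≤ goodLocus A) (f : Γ(X, T)) :
    S.nrm T hT ((A.str.app (op T)).hom f) = f ^ D := by
  apply S.nrm_eq
  intro n W hW h
  by_cases hne : W = ⊥
  · subst hne
    exact Subsingleton.elim _ _
  · rw [str_rX, pn_str D hW (S.dvd n W hW hne), map_pow]

theorem nrm_good {n : ℕ} {W : X.Opens} (hW : IsGoodN A n W) (a : A.presheaf.obj (op W)) :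
    S.nrm W (le_goodLocus hW) a = pn A D n W a := S.nrm_eq _ (isNormOf_pn D hW a)

/-- the norm as a monoid homomorphism -/
noncomputable def nrmHom (T : X.Opens) (hT : T ≤ goodLocus A) : A.presheaf.obj (op T) →* Γ(X, T) where
  toFun := S.nrm T hT
  map_one' := S.nrm_one T hT
  map_mul' := S.nrm_mul T hT

end USetup

/-- two good opens with a common point have the same rank -/
theorem rank_eq_of_mem {n n' : ℕ} {W W' : X.Opens} (hW : IsGoodN A n W) (hW' : IsGoodN A n' W') {x : X}
    (hx : x ∈ W) (hx' : x ∈ W') : n = n' := by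
  obtain ⟨r, hrW', hxr⟩ := hW.1.exists_basicOpen_le (V := W') ⟨x, hx'⟩ hx
  have h1 := hW.rank_eq (hW.basicOpen r) (X.basicOpen_le r) hxr
  have h2 := hW'.rank_eq (hW.basicOpen r) hrW' hxr
  rw [h1, h2]

/-- the idempotent of the rank `d` part of the good locus -/
theorem exists_idem (A : RelSpec.QCAlg X) (d : ℕ) : ∃ e : Γ(X, goodLocus A), ∀ (n : ℕ) (W : X.Opens)
    (hW : IsGoodN A n W), rX (le_goodLocus hW) e = if n = d then 1 else 0 := by
  classical
  let ι := {p : ℕ × X.Opens // IsGoodN A p.1 p.2}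
  let V : ι → X.Opens := fun p => p.1.2
  let t : ∀ p : ι, Γ(X, V p) := fun p => if p.1.1 = d then 1 else 0
  have hcompat : TopCat.Presheaf.IsCompatible X.sheaf.1 V t := by
    intro p p'
    change rX (inf_le_left : V p ⊓ V p' ≤ V p) (t p) = rX (inf_le_right : V p ⊓ V p' ≤ V p') (t p')
    by_cases hne : ∃ x, x ∈ V p ⊓ V p'
    · obtain ⟨x, hx⟩ := hne
      have := rank_eq_of_mem p.2 p'.2 hx.1 hx.2
      simp only [t]
      rw [this]
      split_ifs
      · rw [map_one, map_one]
      · rw [map_zero, map_zero]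
    · have hbot : V p ⊓ V p' = ⊥ := by
        ext x
        simp only [Opens.coe_bot, Set.mem_empty_iff_false, iff_false]
        exact fun hx => hne ⟨x, hx⟩
      haveI : Subsingleton Γ(X, V p ⊓ V p') := by
        rw [hbot]
        infer_instance
      exact Subsingleton.elim _ _
  obtain ⟨e, he, -⟩ := X.sheaf.existsUnique_gluing' V (goodLocus A) (fun p => homOfLE (le_goodLocus p.2))
    (fun x hx => by
      obtain ⟨n, W, hW, hxW⟩ := mem_goodLocus.1 hx
      exact Opens.mem_iSup.2 ⟨⟨⟨n, W⟩, hW⟩, hxW⟩) t hcompat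
  exact ⟨e, fun n W hW => he ⟨⟨n, W⟩, hW⟩⟩

/-- the chosen idempotent of the rank `d` part of the good locus -/
noncomputable def idem (A : RelSpec.QCAlg X) (d : ℕ) : Γ(X, goodLocus A) := (exists_idem A d).choose

theorem idem_res (d : ℕ) {n : ℕ} {W : X.Opens} (hW : IsGoodN A n W) :
    rX (le_goodLocus hW) (idem A d) = if n = d then 1 else 0 := (exists_idem A d).choose_spec n W hW

/-- existence of the data for the norm on the good locus -/
theorem exists_usetup [IsReduced X] [IsLocallyNoetherian X] [NoetherianSpace X] (hfin : IsFiniteAlg A)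
    (hnz : ∀ W : X.Opens, W ≠ ⊥ → Nontrivial (A.presheaf.obj (op W))) : ∃ D : ℕ, USetup A D := by
  obtain ⟨D, hD, hdvd⟩ := exists_rank_bound (A := A) (one_le_rank hnz)
  exact ⟨D, goodDense_of_isFiniteAlg hfin, hdvd, one_le_rank hnz, hD⟩

end Groth.Agent.Lib.Helper11.Bir
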