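import Mathlib
import Groth.Prelude
import Groth.Agent.Lib.Helper11BirA
import Groth.Agent.Lib.Helper11BirB
set_option backward.isDefEq.respectTransparency.types false

/-!
# Determinant fractional ideals III : the fractional ideal and its stabiliser on the affine opens (helper11)

Namespace `Groth.Agent.Lib.Helper11.Bir`.
-/

set_option autoImplicit false
set_option linter.style.haveILetI false
universe u
open CategoryTheory CategoryTheory.Limits AlgebraicGeometry TopologicalSpace Opposite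

namespace Groth.Agent.Lib.Helper11.Bir

open Groth.Agent.Lib.Helper11.MixNorm Groth.Agent.Helper18Trace Groth.Agent.Helper18Norm

variable {X : Scheme.{u}} (A : RelSpec.QCAlg X)

/-- functions on `V ∩ U` as an algebra over functions on `V` (`U` the good locus) -/
noncomputable abbrev algRU (V : X.Opens) : Algebra Γ(X, V) Γ(X, V ⊓ goodLocus A) :=
  (rX (inf_le_left : V ⊓ goodLocus A ≤ V)).toAlgebra

/-- sections of the algebra as an algebra over functions -/
noncomputable abbrev algB (V : X.Opens) : Algebra Γ(X, V) (A.presheaf.obj (op V)) := alg A V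

attribute [local instance] algRU algB

/-- the rank idempotents over `V ∩ U` -/
noncomputable def eV (V : X.Opens) (d : ℕ) : Γ(X, V ⊓ goodLocus A) :=
  rX (inf_le_right : V ⊓ goodLocus A ≤ goodLocus A) (idem A d)

/-- the determinant fractional ideal over `V` -/
noncomputable def fI (D : ℕ) (V : X.Opens) : Submodule Γ(X, V) Γ(X, V ⊓ goodLocus A) :=
  fracIdeal Γ(X, V) (A.presheaf.obj (op V)) D (eV A V)

/-- its stabiliser -/
noncomputable def cV (D : ℕ) (V : X.Opens) : Subalgebra Γ(X, V) Γ(X, V ⊓ goodLocus A) :=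
  stab Γ(X, V) (A.presheaf.obj (op V)) D (eV A V)

variable {A}

theorem algebraMap_RU (V : X.Opens) (a : Γ(X, V)) :
    algebraMap Γ(X, V) Γ(X, V ⊓ goodLocus A) a = rX inf_le_left a := rfl

theorem algebraMap_B (V : X.Opens) (a : Γ(X, V)) :
    algebraMap Γ(X, V) (A.presheaf.obj (op V)) a = (A.str.app (op V)).hom a := rfl

theorem eV_res (V : X.Opens) (d : ℕ) {n : ℕ} {W : X.Opens} (hW : IsGoodN A n W) (h : W ≤ V ⊓ goodLocus A) :
    rX h (eV A V d) = if n = d then 1 else 0 := by
  unfold eV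
  rw [rX_rX]
  exact idem_res d hW

/-- good basic opens of an affine open cover its intersection with the good locus -/
theorem exists_good_basicOpen {V : X.Opens} (hV : IsAffineOpen V) {y : X} (hy : y ∈ V ⊓ goodLocus A) :
    ∃ (r : Γ(X, V)) (n : ℕ), y ∈ X.basicOpen r ∧ X.basicOpen r ≤ V ⊓ goodLocus A ∧
      IsGoodN A n (X.basicOpen r) := by
  obtain ⟨n, W, hW, hyW⟩ := mem_goodLocus.1 hy.2
  obtain ⟨r₁, hr₁, hyr₁⟩ := hW.1.exists_basicOpen_le (V := V ⊓ goodLocus A) ⟨y, hy⟩ hyW
  have hW₁ := hW.basicOpen r₁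
  obtain ⟨r, hr, hyr⟩ := hV.exists_basicOpen_le (V := X.basicOpen r₁) ⟨y, hyr₁⟩ hy.1
  have hle : X.basicOpen r₁ ≤ V := hr₁.trans inf_le_left
  have heq : X.basicOpen r = X.basicOpen (rX hle r) := by
    rw [Scheme.basicOpen_res]
    exact (inf_eq_right.2 hr).symm
  refine ⟨r, n, hyr, hr.trans hr₁, ?_⟩
  rw [heq]
  exact hW₁.basicOpen _

/-- sections over `V ∩ U` agreeing on the good basic opens of `V` are equal -/
theorem eq_of_good_basicOpen {V : X.Opens} (hV : IsAffineOpen V) (s t : Γ(X, V ⊓ goodLocus A))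
    (h : ∀ (r : Γ(X, V)) (n : ℕ) (hr : X.basicOpen r ≤ V ⊓ goodLocus A), IsGoodN A n (X.basicOpen r) →
      X.basicOpen r ≠ ⊥ → rX hr s = rX hr t) : s = t := by
  have key : ∀ y : (V ⊓ goodLocus A : X.Opens), ∃ (W' : X.Opens) (hW' : W' ≤ V ⊓ goodLocus A), y.1 ∈ W' ∧
      rX hW' s = rX hW' t := by
    intro y
    obtain ⟨r, n, hyr, hr, hgood⟩ := exists_good_basicOpen hV y.2
    exact ⟨X.basicOpen r, hr, hyr, h r n hr hgood (ne_bot_of_mem hyr)⟩
  choose W' hW' hyW' hst using key
  refine TopCat.Sheaf.eq_of_locally_eq' X.sheaf W' (V ⊓ goodLocus A) (fun y => homOfLE (hW' y)) ?_ _ _ hst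
  intro y hy
  exact Opens.mem_iSup.2 ⟨⟨y, hy⟩, hyW' _⟩

theorem rA_smul {U' V' : X.Opens} (h : V' ≤ U') (c : Γ(X, U')) (z : A.presheaf.obj (op U')) :
    rA A h (c • z) = rX h c • rA A h z := by
  rw [Algebra.smul_def, Algebra.smul_def, map_mul, algebraMap_B, algebraMap_B, str_rX]

/-- **the key multilinear identity** for the determinant fractional ideal over an affine open -/
theorem keyHyp [IsReduced X] {D : ℕ} (S : USetup A D) {V : X.Opens} (hV : IsAffineOpen V) :
    KeyHyp (R := Γ(X, V)) (rA A (inf_le_left : V ⊓ goodLocus A ≤ V))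
      (S.nrmHom (V ⊓ goodLocus A) inf_le_right) D (eV A V) := by
  constructor
  intro d hd1 hdD φ b x ι _ c b' hx
  apply eq_of_good_basicOpen hV
  intro r n hr hgood hne
  have hrV : X.basicOpen r ≤ V := X.basicOpen_le r
  rw [map_mul, map_mul, map_mul, eV_res V d hgood hr]
  by_cases hnd : n = d
  · subst hnd
    rw [if_pos rfl, one_mul, one_mul]
    have h1 : rX hr (S.nrmHom (V ⊓ goodLocus A) inf_le_right x) = pn A D n (X.basicOpen r) (rA A hr x) := by
      change rX hr (S.nrm (V ⊓ goodLocus A) inf_le_right x) = _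
      rw [S.nrm_res (T := V ⊓ goodLocus A) inf_le_right hr x, ← S.nrm_good hgood]
    have h2 : rX hr (algebraMap Γ(X, V) Γ(X, V ⊓ goodLocus A) (delta φ b)) = rX hrV (delta φ b) := by
      rw [algebraMap_RU, rX_rX]
    rw [h1, h2, RingHom.map_det]
    letI i1 : Algebra Γ(X, V) Γ(X, X.basicOpen r) := (rX hrV).toAlgebra
    letI i2 : Algebra (A.presheaf.obj (op V)) (A.presheaf.obj (op (X.basicOpen r))) := (rA A hrV).toAlgebra
    letI i3 : Algebra Γ(X, V) (A.presheaf.obj (op (X.basicOpen r))) :=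
      ((rA A hrV).comp (A.str.app (op V)).hom).toAlgebra
    haveI : IsScalarTower Γ(X, V) (A.presheaf.obj (op V)) (A.presheaf.obj (op (X.basicOpen r))) :=
      .of_algebraMap_eq' rfl
    haveI : IsScalarTower Γ(X, V) Γ(X, X.basicOpen r) (A.presheaf.obj (op (X.basicOpen r))) :=
      .of_algebraMap_eq' (str_res A hrV)
    haveI : IsLocalization.Away r Γ(X, X.basicOpen r) := hV.isLocalization_basicOpen r
    haveI : IsLocalization.Away (algebraMap Γ(X, V) (A.presheaf.obj (op V)) r)
        (A.presheaf.obj (op (X.basicOpen r))) := A.isQC V hV r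
    obtain ⟨-, ⟨ε⟩⟩ := hgood
    have hy : (rA A hr x) ^ (D / n) = ∑ l, rX hr (c l) •
        algebraMap (A.presheaf.obj (op V)) (A.presheaf.obj (op (X.basicOpen r))) (b' l) := by
      rw [← map_pow, hx, map_sum]
      refine Finset.sum_congr rfl fun l _ => ?_
      rw [rA_smul, rA_rA]
      rfl
    have key := det_localization (R := Γ(X, V)) (R' := Γ(X, X.basicOpen r)) (B := A.presheaf.obj (op V))
      (B' := A.presheaf.obj (op (X.basicOpen r))) r ε φ b ((rA A hr x) ^ (D / n)) (fun l => rX hr (c l)) b' hy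
    have h3 : pn A D n (X.basicOpen r) (rA A hr x) = Algebra.norm Γ(X, X.basicOpen r) ((rA A hr x) ^ (D / n)) := by
      rw [map_pow]
      rfl
    rw [h3]
    refine key.trans ?_
    congr 1
    ext i j
    simp only [Matrix.of_apply, RingHom.mapMatrix_apply, Matrix.map_apply]
    rw [map_sum]
    refine Finset.sum_congr rfl fun l _ => ?_
    rw [(rX hr).map_mul, algebraMap_RU, rX_rX]
    rfl
  · rw [if_neg hnd, zero_mul, zero_mul, mul_zero]

/-- the determinant fractional ideal over an affine open of a locally Noetherian scheme is finitely generated -/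
theorem fg_fI [IsLocallyNoetherian X] (D : ℕ) {V : X.Opens} (hV : IsAffineOpen V) : (fI A D V).FG := by
  haveI : IsNoetherianRing Γ(X, V) := IsLocallyNoetherian.component_noetherian ⟨V, hV⟩
  let M₀ : Submodule Γ(X, V) Γ(X, V ⊓ goodLocus A) :=
    Submodule.span Γ(X, V) (Set.range fun d : Fin (D + 1) => eV A V d)
  have hM₀ : M₀.FG := Submodule.fg_span (Set.finite_range _)
  haveI : IsNoetherian Γ(X, V) M₀ := isNoetherian_of_fg_of_noetherian M₀ hM₀
  refine (isNoetherian_submodule (N := M₀)).1 inferInstance (fI A D V) ?_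
  unfold fI fracIdeal
  rw [Submodule.span_le]
  rintro _ ⟨d, hd1, hdD, φ, b, rfl⟩
  have : eV A V d * algebraMap Γ(X, V) Γ(X, V ⊓ goodLocus A) (delta φ b) = delta φ b • eV A V d := by
    rw [Algebra.smul_def, mul_comm]
  rw [this]
  exact Submodule.smul_mem _ _ (Submodule.subset_span ⟨⟨d, by omega⟩, rfl⟩)

/-- sections of a finite algebra over an affine open of a locally Noetherian scheme are finitely presented -/
theorem finitePresentation_of_isFiniteAlg [IsLocallyNoetherian X] (hfin : IsFiniteAlg A) {V : X.Opens}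
    (hV : IsAffineOpen V) : Module.FinitePresentation Γ(X, V) (A.presheaf.obj (op V)) := by
  haveI : IsNoetherianRing Γ(X, V) := IsLocallyNoetherian.component_noetherian ⟨V, hV⟩
  haveI : Module.Finite Γ(X, V) (A.presheaf.obj (op V)) := hfin V hV
  exact Module.finitePresentation_of_finite Γ(X, V) (A.presheaf.obj (op V))

/-- the determinant fractional ideal is faithful -/
theorem faith_fI [IsLocallyNoetherian X] {D : ℕ} (S : USetup A D) (hfin : IsFiniteAlg A) {V : X.Opens}
    (hV : IsAffineOpen V) (c : Γ(X, V ⊓ goodLocus A)) (hc : ∀ ε ∈ fI A D V, c * ε = 0) : c = 0 := by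
  apply eq_of_good_basicOpen hV
  intro r n hr hgood hne
  have hrV : X.basicOpen r ≤ V := X.basicOpen_le r
  have hn1 : 1 ≤ n := S.pos n _ hgood hne
  have hnD : n ≤ D := Nat.le_of_dvd S.one_le (S.dvd n _ hgood hne)
  letI i1 : Algebra Γ(X, V) Γ(X, X.basicOpen r) := (rX hrV).toAlgebra
  letI i2 : Algebra (A.presheaf.obj (op V)) (A.presheaf.obj (op (X.basicOpen r))) := (rA A hrV).toAlgebra
  letI i3 : Algebra Γ(X, V) (A.presheaf.obj (op (X.basicOpen r))) :=
    ((rA A hrV).comp (A.str.app (op V)).hom).toAlgebra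
  haveI : IsScalarTower Γ(X, V) (A.presheaf.obj (op V)) (A.presheaf.obj (op (X.basicOpen r))) :=
    .of_algebraMap_eq' rfl
  haveI : IsScalarTower Γ(X, V) Γ(X, X.basicOpen r) (A.presheaf.obj (op (X.basicOpen r))) :=
    .of_algebraMap_eq' (str_res A hrV)
  haveI : IsLocalization.Away r Γ(X, X.basicOpen r) := hV.isLocalization_basicOpen r
  haveI : IsLocalization.Away (algebraMap Γ(X, V) (A.presheaf.obj (op V)) r)
      (A.presheaf.obj (op (X.basicOpen r))) := A.isQC V hV r
  haveI := finitePresentation_of_isFiniteAlg hfin hV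
  have hgood' := hgood
  obtain ⟨-, ⟨ε⟩⟩ := hgood'
  obtain ⟨φ, b, hu⟩ := exists_delta_isUnit (R := Γ(X, V)) (R' := Γ(X, X.basicOpen r))
    (B := A.presheaf.obj (op V)) (B' := A.presheaf.obj (op (X.basicOpen r))) r ε
  have hmem : eV A V n * algebraMap Γ(X, V) Γ(X, V ⊓ goodLocus A) (delta φ b) ∈ fI A D V :=
    Submodule.subset_span ⟨n, hn1, hnD, φ, b, rfl⟩
  have h0 := congrArg (rX hr) (hc _ hmem)
  rw [map_mul, map_mul, eV_res V n hgood hr, if_pos rfl, one_mul, algebraMap_RU, rX_rX, map_zero] at h0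
  have hu' : IsUnit (rX hrV (delta φ b)) := hu
  rw [map_zero]
  exact (hu'.mul_left_eq_zero).1 h0

/-- the stabiliser is a finite module -/
theorem finite_cV [IsLocallyNoetherian X] {D : ℕ} (S : USetup A D) (hfin : IsFiniteAlg A) {V : X.Opens}
    (hV : IsAffineOpen V) : Module.Finite Γ(X, V) (cV A D V) := by
  haveI : IsNoetherianRing Γ(X, V) := IsLocallyNoetherian.component_noetherian ⟨V, hV⟩
  exact finite_stab (fg_fI D hV) (faith_fI S hfin hV)

/-- sections over an open equal to a basic open of a quasi-compact quasi-separated open are a localization -/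
theorem isLocalization_of_eq_basicOpen {T O : X.Opens} (hT : IsCompact T.1) (hqs : IsQuasiSeparated T.1)
    (f : Γ(X, T)) (hO : O = X.basicOpen f) (h : O ≤ T) :
    letI := (rX h).toAlgebra
    IsLocalization.Away f Γ(X, O) := by
  subst hO
  exact isLocalization_basicOpen_of_qcqs hT hqs f

theorem eV_rX {V W : X.Opens} (h : W ≤ V) (d : ℕ) :
    rX (inf_le_inf_right (goodLocus A) h) (eV A V d) = eV A W d := by
  unfold eV
  rw [rX_rX]

/-- compatibility of the stabilisers with passage to a basic open -/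
theorem loc_cV [IsLocallyNoetherian X] [NoetherianSpace X] (hfin : IsFiniteAlg A) (D : ℕ) {V : X.Opens}
    (hV : IsAffineOpen V) (r : Γ(X, V)) :
    (∀ c ∈ cV A D V, rX (inf_le_inf_right (goodLocus A) (X.basicOpen_le r)) c ∈ cV A D (X.basicOpen r)) ∧
    (∀ z ∈ cV A D (X.basicOpen r), ∃ (n : ℕ) (t : Γ(X, V ⊓ goodLocus A)), t ∈ cV A D V ∧
      rX (inf_le_inf_right (goodLocus A) (X.basicOpen_le r)) t =
        rX (inf_le_inf_right (goodLocus A) (X.basicOpen_le r)) (rX inf_le_left r) ^ n * z) ∧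
    (∀ t : Γ(X, V ⊓ goodLocus A), rX (inf_le_inf_right (goodLocus A) (X.basicOpen_le r)) t = 0 →
      ∃ n : ℕ, rX inf_le_left (r ^ n) * t = 0) := by
  have hrV : X.basicOpen r ≤ V := X.basicOpen_le r
  have hrU : X.basicOpen r ⊓ goodLocus A ≤ V ⊓ goodLocus A := inf_le_inf_right (goodLocus A) hrV
  letI i1 : Algebra Γ(X, V) Γ(X, X.basicOpen r) := (rX hrV).toAlgebra
  letI i2 : Algebra (A.presheaf.obj (op V)) (A.presheaf.obj (op (X.basicOpen r))) := (rA A hrV).toAlgebra
  letI i3 : Algebra Γ(X, V) (A.presheaf.obj (op (X.basicOpen r))) :=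
    ((rA A hrV).comp (A.str.app (op V)).hom).toAlgebra
  haveI : IsScalarTower Γ(X, V) (A.presheaf.obj (op V)) (A.presheaf.obj (op (X.basicOpen r))) :=
    .of_algebraMap_eq' rfl
  haveI : IsScalarTower Γ(X, V) Γ(X, X.basicOpen r) (A.presheaf.obj (op (X.basicOpen r))) :=
    .of_algebraMap_eq' (str_res A hrV)
  haveI : IsLocalization.Away r Γ(X, X.basicOpen r) := hV.isLocalization_basicOpen r
  haveI : IsLocalization.Away (algebraMap Γ(X, V) (A.presheaf.obj (op V)) r)
      (A.presheaf.obj (op (X.basicOpen r))) := A.isQC V hV r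
  haveI := finitePresentation_of_isFiniteAlg hfin hV
  letI i4 : Algebra Γ(X, V ⊓ goodLocus A) Γ(X, X.basicOpen r ⊓ goodLocus A) := (rX hrU).toAlgebra
  letI i5 : Algebra Γ(X, V) Γ(X, X.basicOpen r ⊓ goodLocus A) :=
    ((rX hrU).comp (rX (inf_le_left : V ⊓ goodLocus A ≤ V))).toAlgebra
  haveI : IsScalarTower Γ(X, V) Γ(X, V ⊓ goodLocus A) Γ(X, X.basicOpen r ⊓ goodLocus A) :=
    .of_algebraMap_eq' rfl
  haveI : IsScalarTower Γ(X, V) Γ(X, X.basicOpen r) Γ(X, X.basicOpen r ⊓ goodLocus A) :=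
    .of_algebraMap_eq' (by
      ext a
      change rX hrU (rX inf_le_left a) = rX inf_le_left (rX hrV a)
      rw [rX_rX, rX_rX])
  have hloc : IsLocalization.Away (algebraMap Γ(X, V) Γ(X, V ⊓ goodLocus A) r)
      Γ(X, X.basicOpen r ⊓ goodLocus A) := by
    refine isLocalization_of_eq_basicOpen (NoetherianSpace.isCompact _)
      (hV.isQuasiSeparated.of_subset inf_le_left) _ ?_ hrU
    rw [algebraMap_RU, Scheme.basicOpen_res]
    apply le_antisymm
    · exact fun x hx => ⟨⟨hrV hx.1, hx.2⟩, hx.1⟩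
    · exact fun x hx => ⟨hx.2, hx.1.2⟩
  haveI := hloc
  have he : (fun d => algebraMap Γ(X, V ⊓ goodLocus A) Γ(X, X.basicOpen r ⊓ goodLocus A) (eV A V d)) =
      eV A (X.basicOpen r) := by
    funext d
    exact eV_rX hrV d
  refine ⟨fun c hc => ?_, fun z hz => ?_, fun t ht => ?_⟩
  · have := map_mem_stab (R := Γ(X, V)) (R' := Γ(X, X.basicOpen r)) (B := A.presheaf.obj (op V))
      (B' := A.presheaf.obj (op (X.basicOpen r))) (S := Γ(X, V ⊓ goodLocus A))
      (S' := Γ(X, X.basicOpen r ⊓ goodLocus A)) r D (eV A V) hc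
    rw [he] at this
    exact this
  · have hz' : z ∈ stab Γ(X, X.basicOpen r) (A.presheaf.obj (op (X.basicOpen r))) D
        (fun d => algebraMap Γ(X, V ⊓ goodLocus A) Γ(X, X.basicOpen r ⊓ goodLocus A) (eV A V d)) := by
      rw [he]
      exact hz
    obtain ⟨n, t, ht, e⟩ := exists_mem_stab_map (R := Γ(X, V)) (R' := Γ(X, X.basicOpen r))
      (B := A.presheaf.obj (op V)) (B' := A.presheaf.obj (op (X.basicOpen r))) (S := Γ(X, V ⊓ goodLocus A))
      (S' := Γ(X, X.basicOpen r ⊓ goodLocus A)) r D (eV A V) (fg_fI D hV) hz'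
    exact ⟨n, t, ht, e⟩
  · have h2 : algebraMap Γ(X, V ⊓ goodLocus A) Γ(X, X.basicOpen r ⊓ goodLocus A) t =
        algebraMap Γ(X, V ⊓ goodLocus A) Γ(X, X.basicOpen r ⊓ goodLocus A) 0 := by
      rw [map_zero]
      exact ht
    obtain ⟨⟨_, ⟨m, rfl⟩⟩, hm⟩ := (IsLocalization.eq_iff_exists
      (Submonoid.powers (algebraMap Γ(X, V) Γ(X, V ⊓ goodLocus A) r)) Γ(X, X.basicOpen r ⊓ goodLocus A)).1 h2
    refine ⟨m, ?_⟩
    simp only [mul_zero] at hm
    rw [map_pow]
    exact hm

section Functor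

open Scheme.AffineZariskiSite

variable (A) (D : ℕ) [IsLocallyNoetherian X] [NoetherianSpace X] (hfin : IsFiniteAlg A)

include hfin in
theorem rX_mem_cV {V W : X.AffineZariskiSite} (i : W ⟶ V) (c : Γ(X, V.1 ⊓ goodLocus A)) (hc : c ∈ cV A D V.1) :
    rX (inf_le_inf_right (goodLocus A) (toOpens_mono i.le)) c ∈ cV A D W.1 := by
  obtain ⟨r, hr⟩ := i.le
  obtain ⟨W, hW⟩ := W
  change X.basicOpen r = W at hr
  subst hr
  exact (loc_cV hfin D V.2 r).1 c hc

/-- restriction maps between the stabilisers -/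
noncomputable def cVres {V W : X.AffineZariskiSite} (i : W ⟶ V) : cV A D V.1 →+* cV A D W.1 :=
  (rX (inf_le_inf_right (goodLocus A) (toOpens_mono i.le))).restrict _ _ (rX_mem_cV A D hfin i)

/-- the stabilisers as a functor on the affine opens -/
noncomputable def cFun : X.AffineZariskiSiteᵒᵖ ⥤ CommRingCat.{u} where
  obj V := CommRingCat.of (cV A D V.unop.1)
  map i := CommRingCat.ofHom (cVres A D hfin i.unop)
  map_id V := by
    ext c
    exact rX_self _
  map_comp i j := by
    ext c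
    exact (rX_rX _ _ _).symm

/-- the structure map of the functor of stabilisers -/
noncomputable def cStr : (toOpensFunctor X).op ⋙ X.presheaf ⟶ cFun A D hfin where
  app V := CommRingCat.ofHom (algebraMap Γ(X, V.unop.1) (cV A D V.unop.1))
  naturality V W i := by
    ext a
    apply Subtype.ext
    change rX inf_le_left (rX (toOpens_mono i.unop.le) a) =
      rX (inf_le_inf_right (goodLocus A) (toOpens_mono i.unop.le)) (rX inf_le_left a)
    rw [rX_rX, rX_rX]

theorem coequifibered_cStr : (cStr A D hfin).Coequifibered := by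
  refine coequifibered_iff_forall_isLocalizationAway.mpr fun V r => ?_
  obtain ⟨h1, h2, h3⟩ := loc_cV hfin D V.2 r
  refine away_of_elementwise (algebraMap Γ(X, V.1) (cV A D V.1))
    (algebraMap Γ(X, X.basicOpen r) (cV A D (X.basicOpen r)))
    (cVres A D hfin (homOfLE (V.basicOpen_le r))) (rX (X.basicOpen_le r)) ?_ r
    (RingedSpace.isUnit_res_basicOpen X.toRingedSpace r) ?_ ?_
  · intro a
    apply Subtype.ext
    change rX (inf_le_inf_right (goodLocus A) (X.basicOpen_le r)) (rX inf_le_left a) =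
      rX inf_le_left (rX (X.basicOpen_le r) a)
    rw [rX_rX, rX_rX]
  · intro z
    obtain ⟨n, t, ht, e⟩ := h2 z.1 z.2
    refine ⟨n, ⟨t, ht⟩, ?_⟩
    apply Subtype.ext
    refine e.trans ?_
    change _ = (rX inf_le_left (rX (X.basicOpen_le r) r)) ^ n * z.1
    rw [rX_rX, rX_rX]
  · intro t ht
    obtain ⟨n, hn⟩ := h3 t.1 (congrArg Subtype.val ht)
    exact ⟨n, Subtype.ext hn⟩

end Functor

end Groth.Agent.Lib.Helper11.Bir
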