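import Mathlib
import Groth.Prelude.Def_RelSpec

set_option autoImplicit false

namespace Groth.Agent.Helper13QCAlgOfAffine

open CategoryTheory CategoryTheory.Limits AlgebraicGeometry Opposite TopologicalSpace
open Scheme.AffineZariskiSite

universe u

noncomputable section

variable {S : Scheme.{u}} {F : S.AffineZariskiSiteᵒᵖ ⥤ CommRingCat.{u}}
  {α : (toOpensFunctor S).op ⋙ S.presheaf ⟶ F} (H : α.Coequifibered)

/-- the affine open as an object of the affine site -/
abbrev aff (U : S.Opens) (hU : IsAffineOpen U) : S.AffineZariskiSite := ⟨U, hU⟩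

/-- the relative gluing datum -/
def glueData : (directedCover S).RelativeGluingData := relativeGluingData H

instance : ((glueData H).functor ⋙ Scheme.forget).IsLocallyDirected :=
  Scheme.Cover.RelativeGluingData.instIsLocallyDirectedI₀CompFunctorForgetOfIsThin ..

/-- the glued scheme -/
def spec : Scheme.{u} := (glueData H).glued

/-- its structure morphism -/
def π : spec H ⟶ S := (glueData H).toBase

variable (U : S.Opens) (hU : IsAffineOpen U)

variable (α) in
/-- the structure map over an affine open -/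
def strAff : Γ(S, U) ⟶ F.obj (op (aff U hU)) := α.app (op (aff U hU))

/-- the charts -/
def ι : Spec (F.obj (op (aff U hU))) ⟶ spec H := (glueData H).cover.f (aff U hU)

instance : IsOpenImmersion (ι H U hU) := (glueData H).cover.map_prop _

theorem ι_π : ι H U hU ≫ π H = Spec.map (strAff α U hU) ≫ hU.fromSpec :=
  colimit.ι_desc _ _

theorem π_preimage : π H ⁻¹ᵁ U = (ι H U hU).opensRange := by
  simpa using! (glueData H).toBase_preimage_eq_opensRange_ι (aff U hU)

theorem ι_res {U V : S.AffineZariskiSite} (i : V ⟶ U) :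
    Spec.map (F.map i.op) ≫ ι H U.1 U.2 = ι H V.1 V.2 :=
  colimit.w (glueData H).functor i

theorem top_le_preimage :
    (⊤ : (Spec (F.obj (op (aff U hU)))).Opens) ≤ ι H U hU ⁻¹ᵁ (π H ⁻¹ᵁ U) := by
  rw [← Scheme.Hom.comp_preimage, ι_π, Scheme.Hom.comp_preimage, hU.fromSpec_preimage_self]
  exact le_top

instance isAffineHom_π : IsAffineHom (π H) where
  isAffine_preimage U hU := by
    rw [π_preimage H U hU]
    exact isAffineOpen_opensRange (ι H U hU)

/-- functions over the preimage of an affine open -/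
def gammaAff : Γ(spec H, π H ⁻¹ᵁ U) ⟶ F.obj (op (aff U hU)) :=
  (ι H U hU).appLE (π H ⁻¹ᵁ U) ⊤ (top_le_preimage H U hU) ≫
    (Scheme.ΓSpecIso (F.obj (op (aff U hU)))).hom

instance isIso_gammaAff : IsIso (gammaAff H U hU) := by
  have key : ∀ {X Y : Scheme.{u}} (f : X ⟶ Y) [IsOpenImmersion f] (W : Y.Opens)
      (hW : W = f ''ᵁ ⊤) (e : ⊤ ≤ f ⁻¹ᵁ W), IsIso (f.appLE W ⊤ e) := by
    intro X Y f _ W hW e
    subst hW
    have h := f.appIso_hom' ⊤
    have h2 : f.appLE (f ''ᵁ ⊤) ⊤ e = (f.appIso ⊤).hom := h.symm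
    rw [h2]
    infer_instance
  have h1 : IsIso ((ι H U hU).appLE (π H ⁻¹ᵁ U) ⊤ (top_le_preimage H U hU)) := by
    apply key
    rw [π_preimage H U hU, Scheme.Hom.image_top_eq_opensRange]
  unfold gammaAff
  infer_instance

set_option backward.isDefEq.respectTransparency false in
theorem gammaAff_naturality {U V : S.AffineZariskiSite} (i : V ⟶ U) :
    (spec H).presheaf.map (homOfLE ((π H).preimage_mono (toOpens_mono i.le))).op ≫
        gammaAff H V.1 V.2 =
      gammaAff H U.1 U.2 ≫ F.map i.op := by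
  simp only [gammaAff, Category.assoc, ← Scheme.ΓSpecIso_naturality]
  simp only [← Category.assoc]
  congr 1
  simp only [Scheme.Hom.appTop, Scheme.Hom.appLE, Category.assoc]
  have h1 := (Scheme.Hom.comp_app (Spec.map (F.map i.op)) (ι H U.1 U.2) (π H ⁻¹ᵁ U.1)).symm
  rw [Scheme.Hom.naturality_assoc, Scheme.Hom.naturality, reassoc_of% h1,
    Scheme.Hom.congr_app (ι_res H i), Category.assoc, ← Functor.map_comp, ← Functor.map_comp]
  rfl

set_option backward.isDefEq.respectTransparency false in
theorem π_app_gammaAff : (π H).app U ≫ gammaAff H U hU = strAff α U hU := by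
  have h1 := Scheme.Hom.congr_app (ι_π H U hU) U
  have h2 := (Scheme.Hom.comp_app (ι H U hU) (π H) U).symm
  have hk : ∀ k : (op ⊤ : (Spec (F.obj (op (aff U hU)))).Opensᵒᵖ) ⟶ op ⊤,
      (Spec (F.obj (op (aff U hU)))).presheaf.map k = 𝟙 _ := fun k => by
    rw [Subsingleton.elim k (𝟙 _)]; exact CategoryTheory.Functor.map_id _ _
  simp only [gammaAff, Scheme.Hom.appLE, Category.assoc]
  rw [reassoc_of% h2, h1, Scheme.Hom.comp_app, hU.fromSpec_app_self]
  simp only [Category.assoc]
  rw [Scheme.Hom.naturality_assoc]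
  simp only [← Functor.map_comp_assoc]
  erw [hk, Category.id_comp]
  rw [← cancel_epi (Scheme.ΓSpecIso Γ(S, U)).hom, Iso.hom_inv_id_assoc]
  erw [Scheme.ΓSpecIso_naturality]

/-- the quasi-coherent algebra attached to the affine-local data -/
def qcAlg : RelSpec.QCAlg S := RelSpec.QCAlg.directImage (π H)

end

end Groth.Agent.Helper13QCAlgOfAffine
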