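import Mathlib
import Groth.Agent.Lib.Helper23Restr
import Groth.Agent.Lib.Helper23SecTw7

/-!
# Local sections generating an invertible module near a point (helper23)

Namespace `Groth.Agent.Lib.Helper23.GenNear`.

* `IsGenNear M B m y` : the section `m ∈ Γ(M, B)` generates `M` on some open neighbourhood of `y` inside `B`.
* `isGen_smul_iff`, `isGenNear_iff_of_isGen` (in a frame `(W, e)`: `m` generates near `y` iff its coefficient is invertible at `y`)
* `IsGenNear.res_iff`, `isGenNear_smul_iff` (invertible `M`)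
* `exists_extension_isGenNear` : for `U` quasi-compact quasi-separated, `g ∈ Γ(X, U)` and `m` a section of an invertible `M`
  over an open containing `U_g`, there is `t ∈ Γ(M, U)` generating exactly at the points of `U_g` where `m` generates.
* `restrSecLocal M U t : O_U ⟶ M|_U` and `mem_genLocus_restrSecLocal_iff`.
-/

set_option autoImplicit false
universe u
open CategoryTheory CategoryTheory.Limits AlgebraicGeometry TopologicalSpace Opposite

namespace Groth.Agent.Lib.Helper23.GenNear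
open Groth.Agent.Lib.Helper23.SecTw Groth.Agent.Lib.Helper23.GenLocus Groth.Agent.Lib.Helper6
open Groth.Agent.Lib.Helper23.Extend

variable {X : Scheme.{u}}

/-- the section `m` of `M` over `B` generates `M` near `y` -/
def IsGenNear (M : X.Modules) (B : X.Opens) (m : Γ(M, B)) (y : X) : Prop :=
  ∃ (W : X.Opens) (h : W ≤ B), y ∈ W ∧ IsGen M W (res M h m)

theorem isGen_smul_iff {M : X.Modules} {W : X.Opens} {e : Γ(M, W)} (hgen : IsGen M W e) (c : Γ(X, W)) :
    IsGen M W (c • e) ↔ IsUnit c := by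
  constructor
  · intro h
    obtain ⟨r, hr⟩ := (h W le_rfl).2 e
    simp only [] at hr
    rw [res_self, ← mul_smul] at hr
    have h1 : r * c = 1 := by
      apply (hgen W le_rfl).1
      simp only []
      rw [res_self, hr, one_smul]
    exact IsUnit.of_mul_eq_one r (by rw [mul_comm]; exact h1)
  · intro hc W' hW'
    have h2 : (fun r : Γ(X, W') => r • res M hW' (c • e)) =
        (fun r : Γ(X, W') => r • res M hW' e) ∘ (fun r : Γ(X, W') => r * resf hW' c) := by
      funext r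
      simp only [Function.comp]
      rw [res_smul, mul_smul]
    rw [h2]
    refine (hgen W' hW').comp ?_
    have hu : IsUnit (resf hW' c) := hc.map _
    exact ⟨fun a b hab => hu.mul_left_injective hab, fun b => ⟨b * ↑hu.unit⁻¹, by
      simp only []
      rw [mul_assoc, IsUnit.val_inv_mul, mul_one]⟩⟩

theorem isGenNear_iff_of_isGen {M : X.Modules} {W B : X.Opens} {e : Γ(M, W)} (hgen : IsGen M W e) (hWB : W ≤ B)
    (m : Γ(M, B)) (y : X) (hy : y ∈ W) :
    IsGenNear M B m y ↔ y ∈ X.basicOpen (coef hgen le_rfl (res M hWB m)) := by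
  obtain ⟨c, hc⟩ : ∃ c, c = coef hgen le_rfl (res M hWB m) := ⟨_, rfl⟩
  rw [← hc]
  have hspec : c • e = res M hWB m := by
    have := coef_spec hgen le_rfl (res M hWB m)
    rw [res_self, ← hc] at this
    exact this
  constructor
  · rintro ⟨W₁, hW₁, hyW₁, hg₁⟩
    have h2 : IsGen M (W₁ ⊓ W) (res M (inf_le_left : W₁ ⊓ W ≤ W₁) (res M hW₁ m)) := hg₁.mono inf_le_left
    have h3 : res M (inf_le_left : W₁ ⊓ W ≤ W₁) (res M hW₁ m) =
        resf (inf_le_right : W₁ ⊓ W ≤ W) c • res M (inf_le_right : W₁ ⊓ W ≤ W) e := by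
      rw [← res_smul, hspec, res_res, res_res]
    rw [h3] at h2
    have h4 := (isGen_smul_iff (hgen.mono (inf_le_right : W₁ ⊓ W ≤ W)) _).1 h2
    have h5 : (⟨hyW₁, hy⟩ : y ∈ W₁ ⊓ W) = (⟨hyW₁, hy⟩ : y ∈ W₁ ⊓ W) := rfl
    have h6 : y ∈ X.basicOpen (resf (inf_le_right : W₁ ⊓ W ≤ W) c) := by
      rw [Scheme.basicOpen_of_isUnit _ h4]
      exact ⟨hyW₁, hy⟩
    rw [Scheme.basicOpen_res] at h6
    exact h6.2
  · intro hyc
    have hle : X.basicOpen c ≤ W := X.basicOpen_le c
    refine ⟨X.basicOpen c, hle.trans hWB, hyc, ?_⟩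
    have h3 : res M (hle.trans hWB) m = resf hle c • res M hle e := by
      rw [← res_smul, hspec, res_res]
    rw [h3]
    exact (isGen_smul_iff (hgen.mono hle) _).2 (RingedSpace.isUnit_res_basicOpen (X := X.toRingedSpace) c)

theorem IsGenNear.res_iff {M : X.Modules} (hM : PicF.IsInvertible M) {B B' : X.Opens} (h : B' ≤ B) (m : Γ(M, B))
    (y : X) (hy : y ∈ B') : IsGenNear M B' (res M h m) y ↔ IsGenNear M B m y := by
  obtain ⟨W₀, e₀, hyW₀, hgen₀⟩ := exists_gen M hM y
  have hgen : IsGen M (W₀ ⊓ B') (res M inf_le_left e₀) := hgen₀.mono inf_le_left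
  rw [isGenNear_iff_of_isGen hgen (inf_le_right : W₀ ⊓ B' ≤ B') _ y ⟨hyW₀, hy⟩,
    isGenNear_iff_of_isGen hgen ((inf_le_right : W₀ ⊓ B' ≤ B').trans h) m y ⟨hyW₀, hy⟩, res_res]

theorem isGenNear_smul_iff {M : X.Modules} (hM : PicF.IsInvertible M) {B : X.Opens} (a : Γ(X, B)) (m : Γ(M, B))
    (y : X) (hy : y ∈ B) : IsGenNear M B (a • m) y ↔ y ∈ X.basicOpen a ∧ IsGenNear M B m y := by
  obtain ⟨W₀, e₀, hyW₀, hgen₀⟩ := exists_gen M hM y
  have hgen : IsGen M (W₀ ⊓ B) (res M inf_le_left e₀) := hgen₀.mono inf_le_left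
  rw [isGenNear_iff_of_isGen hgen (inf_le_right : W₀ ⊓ B ≤ B) _ y ⟨hyW₀, hy⟩,
    isGenNear_iff_of_isGen hgen (inf_le_right : W₀ ⊓ B ≤ B) m y ⟨hyW₀, hy⟩, res_smul, coef_smul,
    Scheme.basicOpen_mul, Scheme.basicOpen_res]
  constructor
  · rintro ⟨⟨-, h1⟩, h2⟩
    exact ⟨h1, h2⟩
  · rintro ⟨h1, h2⟩
    exact ⟨⟨⟨hyW₀, hy⟩, h1⟩, h2⟩

theorem IsGenNear.mem {M : X.Modules} {B : X.Opens} {m : Γ(M, B)} {y : X} (h : IsGenNear M B m y) : y ∈ B := by
  obtain ⟨W, hW, hyW, -⟩ := h
  exact hW hyW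

/-- extension of a section over `U_g` to `U`, keeping track of where it generates -/
theorem exists_extension_isGenNear {M : X.Modules} (hM : PicF.IsInvertible M) (U : X.Opens) (hqc : IsCompact U.1)
    (hqs : IsQuasiSeparated U.1) (g : Γ(X, U)) (B : X.Opens) (hB : X.basicOpen g ≤ B) (m : Γ(M, B)) :
    ∃ t : Γ(M, U), ∀ y, IsGenNear M U t y ↔ (y ∈ X.basicOpen g ∧ IsGenNear M B m y) := by
  haveI : M.IsQuasicoherent := isQuasicoherent_of_isInvertible M hM
  obtain ⟨n, t₁, ht₁⟩ := exists_extension_of_isCompact_of_isQuasiSeparated M hqc hqs g (res M hB m)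
  refine ⟨g • t₁, fun y => ?_⟩
  have hDU : X.basicOpen g ≤ U := X.basicOpen_le g
  constructor
  · intro h
    have hyU : y ∈ U := h.mem
    rw [isGenNear_smul_iff hM g t₁ y hyU] at h
    obtain ⟨hyg, h1⟩ := h
    refine ⟨hyg, ?_⟩
    rw [← IsGenNear.res_iff hM hDU t₁ y hyg, ht₁, isGenNear_smul_iff hM _ _ y hyg] at h1
    exact (IsGenNear.res_iff hM hB m y hyg).1 h1.2
  · rintro ⟨hyg, h1⟩
    have hyU : y ∈ U := hDU hyg
    rw [isGenNear_smul_iff hM g t₁ y hyU]
    refine ⟨hyg, ?_⟩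
    rw [← IsGenNear.res_iff hM hDU t₁ y hyg, ht₁, isGenNear_smul_iff hM _ _ y hyg]
    refine ⟨?_, (IsGenNear.res_iff hM hB m y hyg).2 h1⟩
    have hu : IsUnit ((resf hDU g) ^ n) := (RingedSpace.isUnit_res_basicOpen (X := X.toRingedSpace) g).pow n
    rw [Scheme.basicOpen_of_isUnit _ hu]
    exact hyg

/-- the morphism `O_U ⟶ M|_U` attached to a section of `M` over `U` -/
noncomputable def restrSecLocal (M : X.Modules) (U : X.Opens) (t : Γ(M, U)) :
    Coh.structureModule (↑U : Scheme.{u}) ⟶ M.restrict U.ι :=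
  secHom (M.restrict U.ι) (show Γ(M.restrict U.ι, ⊤) from res M (image_le_self U ⊤) t)

theorem sv_restrSecLocal (M : X.Modules) (U : X.Opens) (t : Γ(M, U)) (V : (↑U : Scheme.{u}).Opens) :
    sv (restrSecLocal M U t) V = (show Γ(M.restrict U.ι, V) from res M (image_le_self U V) t) := by
  unfold restrSecLocal
  rw [sv_secHom, res_restrict]
  exact res_res M _ _ t

theorem mem_genLocus_restrSecLocal_iff (M : X.Modules) (U : X.Opens) (t : Γ(M, U)) (x' : (↑U : Scheme.{u})) :
    x' ∈ CohB1.genLocus (M.restrict U.ι) (restrSecLocal M U t) ↔ IsGenNear M U t x'.1 := by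
  constructor
  · intro hx
    have h1 := isGen_sv_genLocus (M.restrict U.ι) (restrSecLocal M U t)
    rw [sv_restrSecLocal] at h1
    have h2 := isGen_of_isGen_restrict M U _ _ h1
    exact ⟨_, image_le_self U _, ⟨x', hx, rfl⟩, h2⟩
  · rintro ⟨W, hW, hxW, hg⟩
    have hle : U.ι ''ᵁ (U.ι ⁻¹ᵁ W) ≤ W := (image_preimage_of_le U hW).le
    have h1 : IsGen M (U.ι ''ᵁ (U.ι ⁻¹ᵁ W)) (res M (image_le_self U _) t) := by
      have := hg.mono hle
      rwa [res_res] at this
    have h2 := isGen_restrict_of_isGen M U _ _ h1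
    have h3 : IsGen (M.restrict U.ι) (U.ι ⁻¹ᵁ W) (sv (restrSecLocal M U t) (U.ι ⁻¹ᵁ W)) := by
      rw [sv_restrSecLocal]
      exact h2
    exact le_genLocus_of_isGen _ _ _ h3 hxW

end Groth.Agent.Lib.Helper23.GenNear
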