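import Mathlib
import Groth.Prelude
import Groth.Agent.Lib.Helper23QAffSec
import Groth.Agent.Lib.Helper23PB
import Groth.Agent.Lib.Helper23SecTw6
import Groth.Agent.Lib.Helper23GenNear
import Groth.Agent.Lib.Helper2SemiLocFree
import Groth.Agent.S10963
set_option backward.isDefEq.respectTransparency.types false

/-!
# Descent of invertible modules along a finite morphism which is an isomorphism off a discrete set (helper23)

Namespace `Groth.Agent.Lib.Helper23.FinPic`.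

* `exists_frames_over_of_isInvertible` : for `π` finite and `L` invertible on `X`, every `y : Y` has arbitrarily
  small affine neighbourhoods `V` such that `L` has a frame on `π⁻¹ V`
* `bijective_app_of_le` : if `f ∣_ V` is an isomorphism then `f.app W` is bijective for `W ≤ V`
* `exists_pullback_iso` : the descent statement
-/

set_option autoImplicit false
universe u
open CategoryTheory Limits AlgebraicGeometry TopologicalSpace Opposite

namespace Groth.Agent.Lib.Helper23.FinPic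
open Groth.Agent.Lib.Helper23.SecTw Groth.Agent.Lib.Helper6 Groth.Agent.Lib.Helper23.PB
  Groth.Agent.Helper13PullbackUnit Groth.Agent.Lib.Helper23.GenLocus Groth.Agent.Lib.Helper23.Extend
  Groth.Agent.Lib.Helper23.GenNear

variable {X Y : Scheme.{u}} (π : X ⟶ Y)

theorem exists_frames_over_of_isInvertible [IsFinite π] (L : X.Modules) (hL : PicF.IsInvertible L) (y : Y)
    (O : Y.Opens) (hyO : y ∈ O) :
    ∃ (V : Y.Opens) (e : Γ(L, π ⁻¹ᵁ V)), y ∈ V ∧ V ≤ O ∧ IsAffineOpen V ∧ IsGen L (π ⁻¹ᵁ V) e := by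
  have hcl : IsClosedMap π := π.isClosedMap
  have hfin : (π ⁻¹' {y}).Finite := π.finite_preimage_singleton y
  obtain ⟨_, ⟨A, hA, rfl⟩, hyA, hAO⟩ := Y.isBasis_affineOpens.exists_subset_of_mem_open hyO O.isOpen
  have hA' : IsAffineOpen (π ⁻¹ᵁ A) := hA.preimage π
  have hZA : π ⁻¹' {y} ⊆ (π ⁻¹ᵁ A : X.Opens) := by
    intro x hx
    have : π x = y := hx
    change π x ∈ A
    rw [this]
    exact hyA
  obtain ⟨g, hZg, hiso⟩ := Groth.Agent.Lib.Helper2.SemiLocFree.exists_basicOpen_iso_freeMod L 1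
    (isFinLocFreeOfRank_one_of_isInvertible L hL) (π ⁻¹' {y}) hfin hA' hZA
  obtain ⟨e, he⟩ := exists_isGen_of_iso_freeMod L _ hiso
  have hC : IsClosed (π '' ((X.basicOpen g : Set X)ᶜ)) := hcl _ (X.basicOpen g).isOpen.isClosed_compl
  let V₀ : Y.Opens := ⟨(π '' ((X.basicOpen g : Set X)ᶜ))ᶜ, hC.isOpen_compl⟩
  have hyV₀ : y ∈ V₀ := fun ⟨x, hx, hxy⟩ => hx (hZg hxy)
  have hle₀ : π ⁻¹ᵁ V₀ ≤ X.basicOpen g := by
    intro x hx
    by_contra hxU
    exact hx ⟨x, hxU, rfl⟩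
  obtain ⟨_, ⟨V, hV, rfl⟩, hyV, hVle⟩ := Y.isBasis_affineOpens.exists_subset_of_mem_open
    (show y ∈ (V₀ ⊓ A : Y.Opens) from ⟨hyV₀, hyA⟩) (V₀ ⊓ A).isOpen
  have hle : π ⁻¹ᵁ V ≤ X.basicOpen g := (π.preimage_mono (fun z hz => (hVle hz).1)).trans hle₀
  exact ⟨V, res L hle e, hyV, fun z hz => hAO (hVle hz).2, hV, he.mono hle⟩

theorem bijective_app_of_le (V : Y.Opens) (hV : IsIso (π ∣_ V)) (W : Y.Opens) (hW : W ≤ V) :
    Function.Bijective (π.app W) := by
  haveI := hV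
  have hι : (π ∣_ V) ≫ V.ι = (π ⁻¹ᵁ V).ι ≫ π := morphismRestrict_ι π V
  haveI : IsOpenImmersion ((π ⁻¹ᵁ V).ι ≫ π) := by
    rw [← hι]
    infer_instance
  have hrange : ((π ⁻¹ᵁ V).ι ≫ π).opensRange = V := by
    have h0 : ∀ (g : (π ⁻¹ᵁ V).toScheme ⟶ Y) [IsOpenImmersion g], g = (π ∣_ V) ≫ V.ι → g.opensRange = V := by
      intro g _ hg
      subst hg
      rw [Scheme.Hom.opensRange_comp_of_isIso, Scheme.Opens.opensRange_ι]
    exact h0 _ hι.symm
  have h1 : IsIso (((π ⁻¹ᵁ V).ι ≫ π).app W) := Scheme.Hom.isIso_app _ W (by rw [hrange]; exact hW)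
  have h2 : IsIso ((π ⁻¹ᵁ V).ι.app (π ⁻¹ᵁ W)) :=
    Scheme.Hom.isIso_app _ _ (by rw [Scheme.Opens.opensRange_ι]; exact π.preimage_mono hW)
  have h3 : ((π ⁻¹ᵁ V).ι ≫ π).app W = π.app W ≫ (π ⁻¹ᵁ V).ι.app (π ⁻¹ᵁ W) := Scheme.Hom.comp_app _ _ _
  rw [h3] at h1
  have h4 : IsIso (π.app W) := @IsIso.of_isIso_comp_right _ _ _ _ _ (π.app W) ((π ⁻¹ᵁ V).ι.app (π ⁻¹ᵁ W)) h2 h1
  exact ConcreteCategory.bijective_of_isIso _

theorem app_resf₀ {V W : Y.Opens} (h : V ≤ W) (c : Γ(Y, W)) :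
    π.app V (resf h c) = resf (π.preimage_mono h) (π.app W c) := by
  have := π.naturality (homOfLE h).op
  exact ConcreteCategory.congr_hom this c

/-- isolating neighbourhoods for the points of the discrete complement -/
theorem exists_isolating_nhd (V : Y.Opens) (hdisc : DiscreteTopology ((V : Set Y)ᶜ : Set Y)) (y : Y) :
    ∃ O : Y.Opens, y ∈ O ∧ ∀ w ∈ O, w ∉ V → w = y := by
  by_cases hy : y ∈ V
  · exact ⟨V, hy, fun w hw hw' => absurd hw hw'⟩
  · have h1 : IsOpen ({⟨y, hy⟩} : Set ((V : Set Y)ᶜ : Set Y)) := isOpen_discrete _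
    obtain ⟨O, hO, hO'⟩ := isOpen_induced_iff.1 h1
    refine ⟨⟨O, hO⟩, ?_, ?_⟩
    · have : (⟨y, hy⟩ : ((V : Set Y)ᶜ : Set Y)) ∈ Subtype.val ⁻¹' O := by
        rw [hO']
        rfl
      exact this
    · intro w hw hwV
      have : (⟨w, hwV⟩ : ((V : Set Y)ᶜ : Set Y)) ∈ Subtype.val ⁻¹' O := hw
      rw [hO'] at this
      exact congrArg Subtype.val (Set.mem_singleton_iff.1 this)

/-- **descent of invertible modules along a finite morphism which is an isomorphism off a discrete closed set** -/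
theorem exists_pullback_iso [IsFinite π] (V : Y.Opens) (hV : IsIso (π ∣_ V))
    (hdisc : DiscreteTopology ((V : Set Y)ᶜ : Set Y)) (L : X.Modules) (hL : PicF.IsInvertible L) :
    ∃ N : Y.Modules, PicF.IsInvertible N ∧ Nonempty ((Scheme.Modules.pullback π).obj N ≅ L) := by
  classical
  have h0 : ∀ y : Y, ∃ (U : Y.Opens) (e : Γ(L, π ⁻¹ᵁ U)), y ∈ U ∧ (∀ w ∈ U, w ∉ V → w = y) ∧ IsAffineOpen U ∧
      IsGen L (π ⁻¹ᵁ U) e := by
    intro y
    obtain ⟨O, hyO, hO⟩ := exists_isolating_nhd V hdisc y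
    obtain ⟨U, e, hyU, hUO, hUaff, he⟩ := exists_frames_over_of_isInvertible π L hL y O hyO
    exact ⟨U, e, hyU, fun w hw => hO w (hUO hw), hUaff, he⟩
  choose U m hyU hUV hUaff hm using h0
  have hle : ∀ i j, i ≠ j → U i ⊓ U j ≤ V := by
    intro i j hij w hw
    by_contra hwV
    exact hij ((hUV i w hw.1 hwV).symm.trans (hUV j w hw.2 hwV))
  -- transition units
  obtain ⟨h, hh⟩ : ∃ h : ∀ i j, Γ(X, π ⁻¹ᵁ (U i ⊓ U j)), ∀ i j,
      res L (π.preimage_mono (inf_le_left : U i ⊓ U j ≤ U i)) (m i) =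
        h i j • res L (π.preimage_mono (inf_le_right : U i ⊓ U j ≤ U j)) (m j) :=
    ⟨fun i j => coef (hm j) (π.preimage_mono inf_le_right) (res L (π.preimage_mono inf_le_left) (m i)),
      fun i j => (coef_spec (hm j) _ _).symm⟩
  have hhu : ∀ i j, IsUnit (h i j) := by
    intro i j
    have h1 := (hm i).mono (π.preimage_mono (inf_le_left : U i ⊓ U j ≤ U i))
    have h2 := (hm j).mono (π.preimage_mono (inf_le_right : U i ⊓ U j ≤ U j))
    rw [hh i j] at h1
    exact (isGen_smul_iff h2 (h i j)).1 h1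
  have hhc : ∀ i j k,
      resf (π.preimage_mono (inf_le_inf_right (U k) inf_le_left : U i ⊓ U j ⊓ U k ≤ U i ⊓ U k)) (h i k) =
        resf (π.preimage_mono (inf_le_left : U i ⊓ U j ⊓ U k ≤ U i ⊓ U j)) (h i j) *
          resf (π.preimage_mono (inf_le_inf_right (U k) inf_le_right : U i ⊓ U j ⊓ U k ≤ U j ⊓ U k))
            (h j k) := by
    intro i j k
    have hk := (hm k) (π ⁻¹ᵁ (U i ⊓ U j ⊓ U k)) (π.preimage_mono inf_le_right)
    apply hk.1
    change resf _ (h i k) • res L _ (m k) = (resf _ (h i j) * resf _ (h j k)) • res L _ (m k)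
    have e1 := congrArg (res L (π.preimage_mono
      (inf_le_inf_right (U k) inf_le_left : U i ⊓ U j ⊓ U k ≤ U i ⊓ U k))) (hh i k)
    have e2 := congrArg (res L (π.preimage_mono (inf_le_left : U i ⊓ U j ⊓ U k ≤ U i ⊓ U j))) (hh i j)
    have e3 := congrArg (res L (π.preimage_mono
      (inf_le_inf_right (U k) inf_le_right : U i ⊓ U j ⊓ U k ≤ U j ⊓ U k))) (hh j k)
    rw [res_smul, res_res, res_res] at e1 e2 e3
    rw [mul_smul, ← e3, ← e2, ← e1]
  have hh1 : ∀ i, h i i = 1 := by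
    intro i
    have hk := (hm i) (π ⁻¹ᵁ (U i ⊓ U i)) (π.preimage_mono inf_le_right)
    apply hk.1
    change h i i • res L _ (m i) = (1 : Γ(X, π ⁻¹ᵁ (U i ⊓ U i))) • res L _ (m i)
    rw [one_smul]
    exact (hh i i).symm
  -- descend the transition units
  have h4 : ∀ i j, i ≠ j → ∃ a : Γ(Y, U i ⊓ U j), π.app (U i ⊓ U j) a = h i j := fun i j hij =>
    (bijective_app_of_le π V hV (U i ⊓ U j) (hle i j hij)).2 (h i j)
  let c : ∀ i j, Γ(Y, U i ⊓ U j) := fun i j => if hij : i = j then 1 else Classical.choose (h4 i j hij)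
  have hc : ∀ i j, π.app (U i ⊓ U j) (c i j) = h i j := by
    intro i j
    by_cases hij : i = j
    · subst hij
      have : c i i = 1 := dif_pos rfl
      rw [this, map_one, hh1]
    · have : c i j = Classical.choose (h4 i j hij) := dif_neg hij
      rw [this]
      exact Classical.choose_spec (h4 i j hij)
  have hcu : ∀ i j, IsUnit (c i j) := by
    intro i j
    by_cases hij : i = j
    · subst hij
      have : c i i = 1 := dif_pos rfl
      rw [this]
      exact isUnit_one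
    · have hb := bijective_app_of_le π V hV (U i ⊓ U j) (hle i j hij)
      obtain ⟨b, hb'⟩ := (hhu i j).exists_right_inv
      obtain ⟨d, rfl⟩ := hb.2 b
      refine IsUnit.of_mul_eq_one d (hb.1 ?_)
      rw [map_mul, map_one, hc, hb']
  let η : ∀ i j, (Γ(Y, U i ⊓ U j))ˣ := fun i j => (hcu i j).unit
  have hηc : ∀ i j, ((η i j : (Γ(Y, U i ⊓ U j))ˣ) : Γ(Y, U i ⊓ U j)) = c i j := fun i j =>
    IsUnit.unit_spec _
  have hUtop : iSup U = ⊤ := by
    rw [eq_top_iff]
    intro x _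
    exact Opens.mem_iSup.2 ⟨x, hyU x⟩
  have hcoc : ∀ i j k,
      resf (inf_le_inf_right (U k) inf_le_left : U i ⊓ U j ⊓ U k ≤ U i ⊓ U k) (c i k) =
        resf (inf_le_left : U i ⊓ U j ⊓ U k ≤ U i ⊓ U j) (c i j) *
          resf (inf_le_inf_right (U k) inf_le_right : U i ⊓ U j ⊓ U k ≤ U j ⊓ U k) (c j k) := by
    intro i j k
    have key : U i ⊓ U j ⊓ U k ≤ V →
        resf (inf_le_inf_right (U k) inf_le_left : U i ⊓ U j ⊓ U k ≤ U i ⊓ U k) (c i k) =
        resf (inf_le_left : U i ⊓ U j ⊓ U k ≤ U i ⊓ U j) (c i j) *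
          resf (inf_le_inf_right (U k) inf_le_right : U i ⊓ U j ⊓ U k ≤ U j ⊓ U k) (c j k) := by
      intro hT
      apply (bijective_app_of_le π V hV _ hT).1
      rw [map_mul, app_resf₀, app_resf₀, app_resf₀, hc, hc, hc]
      exact hhc i j k
    by_cases hij : i = j
    · by_cases hjk : j = k
      · subst hij
        subst hjk
        have : c i i = 1 := dif_pos rfl
        rw [this]
        simp [resf]
      · exact key ((inf_le_inf_right (U k) inf_le_right).trans (hle j k hjk))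
    · exact key (inf_le_left.trans (hle i j hij))
  obtain ⟨N, s, hNinv, hs, hst⟩ := Groth.Agent.S10963.result Y U hUtop η (by
    intro i j k
    rw [hηc, hηc, hηc]
    exact hcoc i j k)
  haveI : N.IsQuasicoherent := isQuasicoherent_of_isInvertible N hNinv
  have hsgen : ∀ i, IsGen N (U i) (s i) := hs
  have hcovP : ∀ x : X, ∃ i, x ∈ π ⁻¹ᵁ U i := fun x => ⟨π x, hyU (π x)⟩
  obtain ⟨Φ, -⟩ := exists_iso_of_frames L ((Scheme.Modules.pullback π).obj N)
    (fun i => π ⁻¹ᵁ U i) hcovP (fun i => m i) (fun i => unitSec π N le_rfl (s i))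
    (fun i => hm i) (fun i => isGen_unitSec π N (hUaff i) (s i) (hsgen i))
    (fun i j => by
      refine cocycle_of_transition (hm j) (h i j : Γ(X, π ⁻¹ᵁ (U i ⊓ U j))) ?_ ?_
      · exact hh i j
      · have h2 := res_unitSec_of_transition π N (s i) (s j) (η i j) (hst i j)
        have h3 : π.appLE (U i ⊓ U j) (π ⁻¹ᵁ U i ⊓ π ⁻¹ᵁ U j) (preimage_inf_le π (U i) (U j))
            ((η i j : (Γ(Y, U i ⊓ U j))ˣ) : Γ(Y, U i ⊓ U j)) = h i j := by
          have h5 : π.appLE (U i ⊓ U j) (π ⁻¹ᵁ U i ⊓ π ⁻¹ᵁ U j) (preimage_inf_le π (U i) (U j)) =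
              π.app (U i ⊓ U j) := Scheme.Hom.appLE_eq_app π
          rw [h5, hηc]
          exact hc i j
        rw [h3] at h2
        exact h2)
  exact ⟨N, hNinv, ⟨Φ.symm⟩⟩

end Groth.Agent.Lib.Helper23.FinPic
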