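import Mathlib
import Groth.Prelude
import Groth.Agent.Lib.Helper11BirC
import Groth.Agent.Lib.Helper13QCAlgOfAffine
import Groth.Agent.Lib.Helper23FinPic
set_option backward.isDefEq.respectTransparency.types false

/-!
# Determinant fractional ideals IV : the finite birational model (helper11)

Namespace `Groth.Agent.Lib.Helper11.Bir`.  The relative spectrum `Zs` of the stabilisers, its structure morphism
`Zh`, reducedness, finiteness, isomorphism over the good or normal points, density of the preimage of the good locus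
and the compatibility `gam_compat`.
-/

set_option autoImplicit false
set_option linter.style.haveILetI false
universe u
open CategoryTheory CategoryTheory.Limits AlgebraicGeometry TopologicalSpace Opposite

namespace Groth.Agent.Lib.Helper11.Bir

open Groth.Agent.Lib.Helper11.MixNorm Groth.Agent.Helper18Trace Groth.Agent.Helper18Norm

section Generic

/-- a morphism is an isomorphism over an open covered by opens over which it is an isomorphism -/
theorem isIso_morphismRestrict_of_cover {Z X : Scheme.{u}} (h : Z ⟶ X) (W : X.Opens) {ι : Type*} (V : ι → X.Opens)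
    (hV : ∀ i, V i ≤ W) (hcov : ∀ x ∈ W, ∃ i, x ∈ V i) (hiso : ∀ i, IsIso (h ∣_ V i)) : IsIso (h ∣_ W) := by
  have hsup : ⨆ i, W.ι ⁻¹ᵁ V i = ⊤ := by
    rw [eq_top_iff]
    rintro ⟨x, hx⟩ -
    obtain ⟨i, hi⟩ := hcov x hx
    exact Opens.mem_iSup.2 ⟨i, hi⟩
  refine (IsZariskiLocalAtTarget.iff_of_iSup_eq_top (P := MorphismProperty.isomorphisms Scheme)
    (f := h ∣_ W) (fun i => W.ι ⁻¹ᵁ V i) hsup).2 fun i => ?_
  have himg : W.ι ''ᵁ (W.ι ⁻¹ᵁ V i) = V i := by
    rw [Scheme.Hom.image_preimage_eq_opensRange_inf, Scheme.Opens.opensRange_ι]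
    exact inf_eq_right.2 (hV i)
  refine ((MorphismProperty.isomorphisms Scheme).arrow_mk_iso_iff
    (morphismRestrictRestrict h W (W.ι ⁻¹ᵁ V i) ≪≫ morphismRestrictEq h himg)).2 ?_
  exact hiso i

/-- naturality of the maps on sections -/
theorem app_rX {Z X : Scheme.{u}} (h : Z ⟶ X) {T T' : X.Opens} (hle : T' ≤ T) (a : Γ(X, T)) :
    rX (h.preimage_mono hle) (h.app T a) = h.app T' (rX hle a) := by
  have := h.naturality (homOfLE hle).op
  exact (ConcreteCategory.congr_hom this a).symm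

theorem exists_preimage_of_isIso_morphismRestrict {Z X : Scheme.{u}} (f : Z ⟶ X) (U : X.Opens) [IsIso (f ∣_ U)]
    (w : X) (hw : w ∈ U) : ∃ x' : ↥(f ⁻¹ᵁ U), ((f ⁻¹ᵁ U).ι ≫ f) x' = w := by
  refine ⟨(inv (f ∣_ U)) ⟨w, hw⟩, ?_⟩
  rw [← morphismRestrict_ι, Scheme.Hom.comp_apply, ← Scheme.Hom.comp_apply (inv (f ∣_ U)),
    IsIso.inv_hom_id]
  rfl

theorem surjective_of_isIso_dense {Z X : Scheme.{u}} (f : Z ⟶ X) [IsFinite f] (U : X.Opens) [IsIso (f ∣_ U)]
    (hU : Dense (U : Set X)) : Function.Surjective f := by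
  have hclosed : IsClosed (Set.range f) := f.isClosedMap.isClosed_range
  have hsub : (U : Set X) ⊆ Set.range f := by
    intro w hw
    obtain ⟨x', hx'⟩ := exists_preimage_of_isIso_morphismRestrict f U w hw
    exact ⟨(f ⁻¹ᵁ U).ι x', by rw [← Scheme.Hom.comp_apply]; exact hx'⟩
  have h1 : Set.range f = Set.univ := by
    apply Set.eq_univ_of_univ_subset
    rw [← hU.closure_eq]
    exact closure_minimal hsub hclosed
  exact Set.range_eq_univ.1 h1

/-- over an open above which `f` is an isomorphism, intersections of opens with its preimage are preimages -/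
theorem exists_opens_preimage_eq {Z X : Scheme.{u}} (f : Z ⟶ X) (U : X.Opens) [IsIso (f ∣_ U)] (O : Z.Opens) :
    ∃ T : X.Opens, T ≤ U ∧ f ⁻¹ᵁ T = O ⊓ f ⁻¹ᵁ U := by
  haveI : IsOpenImmersion ((f ⁻¹ᵁ U).ι ≫ f) := by
    rw [← morphismRestrict_ι]
    infer_instance
  refine ⟨((f ⁻¹ᵁ U).ι ≫ f) ''ᵁ ((f ⁻¹ᵁ U).ι ⁻¹ᵁ O), ?_, ?_⟩
  · rintro _ ⟨x', -, rfl⟩
    exact x'.2
  · ext z
    constructor
    · rintro ⟨x', hx', hx'z⟩
      have hzU : z ∈ f ⁻¹ᵁ U := by
        change f z ∈ U
        rw [← hx'z]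
        exact x'.2
      have heq : x' = ⟨z, hzU⟩ := ((f ⁻¹ᵁ U).ι ≫ f).isOpenEmbedding.injective hx'z
      refine ⟨?_, hzU⟩
      have : (f ⁻¹ᵁ U).ι x' ∈ O := hx'
      rw [heq] at this
      exact this
    · rintro ⟨hzO, hzU⟩
      exact ⟨⟨z, hzU⟩, hzO, rfl⟩

end Generic

section Construct

open Groth.Agent.Helper13QCAlgOfAffine Scheme.AffineZariskiSite

variable {X : Scheme.{u}} (A : RelSpec.QCAlg X) (D : ℕ) [IsLocallyNoetherian X] [NoetherianSpace X]
  (hfin : IsFiniteAlg A)

attribute [local instance] algRU algB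

/-- the finite birational model -/
noncomputable def Zs : Scheme.{u} := spec (coequifibered_cStr A D hfin)

/-- its structure morphism -/
noncomputable def Zh : Zs A D hfin ⟶ X := π (coequifibered_cStr A D hfin)

instance : IsAffineHom (Zh A D hfin) := isAffineHom_π _

/-- functions on the preimage of an affine open are the stabiliser -/
noncomputable def gam {V : X.Opens} (hV : IsAffineOpen V) : Γ(Zs A D hfin, Zh A D hfin ⁻¹ᵁ V) ≃+* cV A D V :=
  (asIso (gammaAff (coequifibered_cStr A D hfin) V hV)).commRingCatIsoToRingEquiv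

theorem gam_app {V : X.Opens} (hV : IsAffineOpen V) (a : Γ(X, V)) :
    gam A D hfin hV ((Zh A D hfin).app V a) = algebraMap Γ(X, V) (cV A D V) a := by
  have := π_app_gammaAff (coequifibered_cStr A D hfin) V hV
  exact congr($(this) a)

theorem gam_res {V : X.Opens} (hV : IsAffineOpen V) (r : Γ(X, V)) (f : Γ(Zs A D hfin, Zh A D hfin ⁻¹ᵁ V)) :
    (gam A D hfin (hV.basicOpen r)
      (rX ((Zh A D hfin).preimage_mono (X.basicOpen_le r)) f) : Γ(X, X.basicOpen r ⊓ goodLocus A)) =
      rX (inf_le_inf_right (goodLocus A) (X.basicOpen_le r)) (gam A D hfin hV f : Γ(X, V ⊓ goodLocus A)) := by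
  have := gammaAff_naturality (coequifibered_cStr A D hfin) (U := ⟨V, hV⟩) (V := ⟨X.basicOpen r, hV.basicOpen r⟩)
    (homOfLE (Scheme.AffineZariskiSite.basicOpen_le (⟨V, hV⟩ : X.AffineZariskiSite) r))
  exact congrArg Subtype.val congr($(this) f)

instance isReduced_Zs [IsReduced X] : IsReduced (Zs A D hfin) := by
  haveI : ∀ i, IsReduced ((glueData (coequifibered_cStr A D hfin)).cover.X i) := by
    intro i
    change IsReduced (Spec (CommRingCat.of (cV A D i.1)))
    have hinj : Function.Injective (cV A D i.1).val := Subtype.val_injective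
    haveI : _root_.IsReduced (cV A D i.1) := isReduced_of_injective (cV A D i.1).val hinj
    infer_instance
  exact IsReduced.of_openCover (X := spec (coequifibered_cStr A D hfin)) (glueData (coequifibered_cStr A D hfin)).cover

theorem isFinite_Zh [IsReduced X] (S : USetup A D) : IsFinite (Zh A D hfin) where
  finite_app V hV := by
    have h1 : (algebraMap Γ(X, V) (cV A D V)).Finite := by
      haveI := finite_cV S hfin hV
      exact RingHom.finite_algebraMap.2 inferInstance
    have h2 : ((gam A D hfin hV).symm : cV A D V →+* Γ(Zs A D hfin, Zh A D hfin ⁻¹ᵁ V)).Finite :=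
      RingHom.Finite.of_surjective _ (gam A D hfin hV).symm.surjective
    have h3 : ((Zh A D hfin).app V).hom =
        ((gam A D hfin hV).symm : cV A D V →+* Γ(Zs A D hfin, Zh A D hfin ⁻¹ᵁ V)).comp
          (algebraMap Γ(X, V) (cV A D V)) := by
      ext a
      change _ = (gam A D hfin hV).symm (algebraMap Γ(X, V) (cV A D V) a)
      rw [← gam_app A D hfin hV, RingEquiv.symm_apply_apply]
    rw [h3]
    exact h2.comp h1

omit [IsLocallyNoetherian X] [NoetherianSpace X] in
variable {A D} in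
/-- every nonempty open meets the good locus -/
theorem USetup.exists_mem_goodLocus (S : USetup A D) (O : X.Opens) (hO : O ≠ ⊥) : ∃ y, y ∈ O ∧ y ∈ goodLocus A := by
  obtain ⟨n, W, hW, hWO, hWne⟩ := S.dense O hO
  obtain ⟨y, hy⟩ : ∃ y, y ∈ W := by
    by_contra hc
    apply hWne
    ext x
    simp only [Opens.coe_bot, Set.mem_empty_iff_false, iff_false]
    exact fun hx => hc ⟨x, hx⟩
  exact ⟨y, hWO hy, le_goodLocus hW hy⟩

omit [IsLocallyNoetherian X] [NoetherianSpace X] in
variable {A D} in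
/-- a function on a reduced scheme is determined by its restriction to the good locus -/
theorem USetup.eq_of_rX_eq [IsReduced X] (S : USetup A D) {O : X.Opens} (s t : Γ(X, O))
    (h : rX (inf_le_left : O ⊓ goodLocus A ≤ O) s = rX inf_le_left t) : s = t := by
  rw [← sub_eq_zero]
  refine eq_zero_of_dense _ (goodLocus A) (fun O' _ hne => S.exists_mem_goodLocus O' hne) (fun y hyO hyU => ?_)
  refine ⟨O ⊓ goodLocus A, inf_le_left, ⟨hyO, hyU⟩, ?_⟩
  rw [map_sub, h, sub_self]

omit [NoetherianSpace X] in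
variable {A D} in
/-- elements of the stabiliser are integral over the functions -/
theorem isIntegralElem_of_mem_cV [IsReduced X] (S : USetup A D) (hfin : IsFiniteAlg A) {V : X.Opens}
    (hV : IsAffineOpen V) (c : Γ(X, V ⊓ goodLocus A)) (hc : c ∈ cV A D V) :
    (rX (inf_le_left : V ⊓ goodLocus A ≤ V)).IsIntegralElem c := by
  haveI := finite_cV S hfin hV
  have h1 : IsIntegral Γ(X, V) (⟨c, hc⟩ : cV A D V) := Algebra.IsIntegral.isIntegral _
  have h2 : IsIntegral Γ(X, V) ((cV A D V).val ⟨c, hc⟩) := h1.map (cV A D V).val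
  exact h2

omit [NoetherianSpace X] in
variable {A D} in
/-- an element of the stabiliser extends over a neighbourhood of a point with integrally closed local ring -/
theorem exists_extension_of_mem_cV [IsReduced X] (S : USetup A D) (hfin : IsFiniteAlg A) {V : X.Opens}
    (hV : IsAffineOpen V) (c : Γ(X, V ⊓ goodLocus A)) (hc : c ∈ cV A D V) (x : X) (hxV : x ∈ V)
    [IsDomain (X.presheaf.stalk x)] [IsIntegrallyClosed (X.presheaf.stalk x)] :
    ∃ (V'' : X.Opens) (hV'' : V'' ≤ V) (c'' : Γ(X, V'')), x ∈ V'' ∧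
      rX (inf_le_left : V'' ⊓ goodLocus A ≤ V'') c'' = rX (inf_le_inf_right (goodLocus A) hV'') c := by
  obtain ⟨V', hV', hxV', hV'V, hdom⟩ := exists_affine_isDomain_le x V hxV
  haveI := hdom
  obtain ⟨y, hyV', hyU⟩ := S.exists_mem_goodLocus V' (ne_bot_of_mem hxV')
  obtain ⟨h, hhle, hyh⟩ := hV'.exists_basicOpen_le (V := V' ⊓ goodLocus A) ⟨y, ⟨hyV', hyU⟩⟩ hyV'
  have hh : h ≠ 0 := by
    rintro rfl
    rw [Scheme.basicOpen_zero] at hyh
    exact hyh
  have hhne : X.basicOpen h ≠ ⊥ := ne_bot_of_mem hyh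
  have hle : X.basicOpen h ≤ V ⊓ goodLocus A := hhle.trans (inf_le_inf_right _ hV'V)
  have hint : (rX (X.basicOpen_le h)).IsIntegralElem (rX hle c) := by
    obtain ⟨p, hp, hpc⟩ := isIntegralElem_of_mem_cV S hfin hV c hc
    refine ⟨p.map (rX hV'V), hp.map _, ?_⟩
    rw [Polynomial.eval₂_map]
    have h1 : (rX (X.basicOpen_le h)).comp (rX hV'V) = (rX hle).comp (rX (inf_le_left : V ⊓ goodLocus A ≤ V)) := by
      ext a
      change rX _ (rX _ a) = rX _ (rX _ a)
      rw [rX_rX, rX_rX]
    rw [h1, ← Polynomial.hom_eval₂, hpc, map_zero]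
  obtain ⟨V'', hV''V', c'', hxV'', hc''⟩ := exists_extension_of_isIntegralElem hV' x hxV' h hh (rX hle c) hint
  refine ⟨V'', hV''V'.trans hV'V, c'', hxV'', ?_⟩
  rw [← sub_eq_zero]
  refine eq_zero_of_dense _ (X.basicOpen h) (fun O hO hne => ?_) (fun y hy hyh => ?_)
  · exact exists_mem_inf_of_isDomain hV' (hO.trans (inf_le_left.trans hV''V')) (X.basicOpen_le h) hne hhne
  · refine ⟨V'' ⊓ goodLocus A ⊓ X.basicOpen h, inf_le_left, ⟨hy, hyh⟩, ?_⟩
    rw [map_sub, rX_rX, rX_rX, hc'' _ (inf_le_left.trans inf_le_left) inf_le_right, rX_rX, sub_self]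

omit [NoetherianSpace X] in
variable {A D} in
/-- over an affine open all of whose points are good or have an integrally closed local ring the stabiliser is the
ring of functions -/
theorem bijective_algebraMap_cV [IsReduced X] (S : USetup A D) (hfin : IsFiniteAlg A) {V : X.Opens}
    (hV : IsAffineOpen V)
    (hpt : ∀ x ∈ V, x ∈ goodLocus A ∨
      (IsDomain (X.presheaf.stalk x) ∧ IsIntegrallyClosed (X.presheaf.stalk x))) :
    Function.Bijective (algebraMap Γ(X, V) (cV A D V)) := by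
  constructor
  · intro a b hab
    exact S.eq_of_rX_eq a b (congrArg Subtype.val hab)
  · rintro ⟨c, hc⟩
    have key : ∀ x : V, ∃ (V'' : X.Opens) (hV'' : V'' ≤ V) (c'' : Γ(X, V'')), x.1 ∈ V'' ∧
        rX (inf_le_left : V'' ⊓ goodLocus A ≤ V'') c'' = rX (inf_le_inf_right (goodLocus A) hV'') c := by
      rintro ⟨x, hxV⟩
      rcases hpt x hxV with hxU | ⟨hdom, hic⟩
      · refine ⟨V ⊓ goodLocus A, inf_le_left, c, ⟨hxV, hxU⟩, ?_⟩
        have : (V ⊓ goodLocus A) ⊓ goodLocus A = V ⊓ goodLocus A := by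
          rw [inf_assoc, inf_idem]
        have h1 : ∀ (T : X.Opens) (e : T = V ⊓ goodLocus A) (h1 h2 : T ≤ V ⊓ goodLocus A), rX h1 c = rX h2 c :=
          fun T e h1 h2 => rfl
        exact h1 _ this _ _
      · haveI := hdom
        haveI := hic
        exact exists_extension_of_mem_cV S hfin hV c hc x hxV
    choose V'' hV'' c'' hxV'' hc'' using key
    have hcompat : TopCat.Presheaf.IsCompatible X.sheaf.1 V'' c'' := by
      intro x y
      change rX (inf_le_left : V'' x ⊓ V'' y ≤ V'' x) (c'' x) = rX (inf_le_right : V'' x ⊓ V'' y ≤ V'' y) (c'' y)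
      apply S.eq_of_rX_eq
      have e1 := congrArg (rX (inf_le_inf_right (goodLocus A) inf_le_left :
        V'' x ⊓ V'' y ⊓ goodLocus A ≤ V'' x ⊓ goodLocus A)) (hc'' x)
      have e2 := congrArg (rX (inf_le_inf_right (goodLocus A) inf_le_right :
        V'' x ⊓ V'' y ⊓ goodLocus A ≤ V'' y ⊓ goodLocus A)) (hc'' y)
      rw [rX_rX, rX_rX] at e1 e2
      rw [rX_rX, rX_rX]
      exact e1.trans e2.symm
    obtain ⟨r, hr, -⟩ := X.sheaf.existsUnique_gluing' V'' V (fun x => homOfLE (hV'' x))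
      (fun x hx => Opens.mem_iSup.2 ⟨⟨x, hx⟩, hxV'' _⟩) c'' hcompat
    refine ⟨r, Subtype.ext ?_⟩
    change rX inf_le_left r = c
    refine TopCat.Sheaf.eq_of_locally_eq' X.sheaf (fun x : V => V'' x ⊓ goodLocus A) (V ⊓ goodLocus A)
      (fun x => homOfLE (inf_le_inf_right (goodLocus A) (hV'' x))) ?_ _ _ ?_
    · intro y hy
      exact Opens.mem_iSup.2 ⟨⟨y, hy.1⟩, ⟨hxV'' _, hy.2⟩⟩
    · intro x
      change rX _ (rX _ r) = rX _ c
      rw [← hc'' x, rX_rX]
      have := congrArg (rX (inf_le_left : V'' x ⊓ goodLocus A ≤ V'' x)) (hr x)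
      change rX _ (rX _ r) = _ at this
      rw [rX_rX] at this
      exact this

/-- the structure morphism is an isomorphism over an affine open all of whose points are good or have an integrally
closed local ring -/
theorem isIso_Zh_app [IsReduced X] (S : USetup A D) {V : X.Opens} (hV : IsAffineOpen V)
    (hpt : ∀ x ∈ V, x ∈ goodLocus A ∨
      (IsDomain (X.presheaf.stalk x) ∧ IsIntegrallyClosed (X.presheaf.stalk x))) :
    IsIso ((Zh A D hfin).app V) := by
  rw [ConcreteCategory.isIso_iff_bijective]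
  have h1 := bijective_algebraMap_cV S hfin hV hpt
  have h3 : ⇑(ConcreteCategory.hom ((Zh A D hfin).app V)) =
      (gam A D hfin hV).symm ∘ (algebraMap Γ(X, V) (cV A D V)) := by
    funext a
    change _ = (gam A D hfin hV).symm (algebraMap Γ(X, V) (cV A D V) a)
    rw [← gam_app A D hfin hV, RingEquiv.symm_apply_apply]
  rw [h3]
  exact (gam A D hfin hV).symm.bijective.comp h1

/-- the structure morphism is an isomorphism over an open all of whose points are good or have an integrally closed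
local ring -/
theorem isIso_Zh_restrict [IsReduced X] (S : USetup A D) (W' : X.Opens)
    (hpt : ∀ x ∈ W', x ∈ goodLocus A ∨
      (IsDomain (X.presheaf.stalk x) ∧ IsIntegrallyClosed (X.presheaf.stalk x))) :
    IsIso (Zh A D hfin ∣_ W') := by
  refine isIso_morphismRestrict_of_cover (Zh A D hfin) W'
    (ι := {V : X.Opens // IsAffineOpen V ∧ V ≤ W'}) (fun V => V.1) (fun V => V.2.2) ?_ ?_
  · intro x hx
    obtain ⟨_, ⟨V, hV, rfl⟩, hxV, hVW⟩ := X.isBasis_affineOpens.exists_subset_of_mem_open hx W'.isOpen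
    exact ⟨⟨V, hV, hVW⟩, hxV⟩
  · rintro ⟨V, hV, hVW⟩
    exact (isIso_morphismRestrict_iff_isIso_app (Zh A D hfin) hV).2
      (isIso_Zh_app A D hfin S hV fun x hx => hpt x (hVW hx))

/-- **compatibility**: over an open of the good locus a function on the model is the pull-back of its image in the
stabiliser -/
theorem gam_compat {V : X.Opens} (hV : IsAffineOpen V) (f : Γ(Zs A D hfin, Zh A D hfin ⁻¹ᵁ V)) {T : X.Opens}
    (hT : T ≤ V ⊓ goodLocus A) :
    rX ((Zh A D hfin).preimage_mono (hT.trans inf_le_left)) f =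
      (Zh A D hfin).app T (rX hT (gam A D hfin hV f : Γ(X, V ⊓ goodLocus A))) := by
  have step1 : ∀ (r : Γ(X, V)) (hr : X.basicOpen r ≤ V ⊓ goodLocus A),
      rX ((Zh A D hfin).preimage_mono (X.basicOpen_le r)) f =
        (Zh A D hfin).app (X.basicOpen r) (rX hr (gam A D hfin hV f : Γ(X, V ⊓ goodLocus A))) := by
    intro r hr
    apply (gam A D hfin (hV.basicOpen r)).injective
    apply Subtype.ext
    rw [gam_res, gam_app]
    change _ = rX inf_le_left (rX hr _)
    rw [rX_rX]
  have key : ∀ z : (Zh A D hfin ⁻¹ᵁ T : (Zs A D hfin).Opens), ∃ (r : Γ(X, V)), X.basicOpen r ≤ T ∧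
      Zh A D hfin z.1 ∈ X.basicOpen r := by
    intro z
    obtain ⟨r, hr, hz⟩ := hV.exists_basicOpen_le (V := T) ⟨Zh A D hfin z.1, z.2⟩ ((hT.trans inf_le_left) z.2)
    exact ⟨r, hr, hz⟩
  choose r hrT hzr using key
  refine TopCat.Sheaf.eq_of_locally_eq' (Zs A D hfin).sheaf (fun z => Zh A D hfin ⁻¹ᵁ X.basicOpen (r z))
    (Zh A D hfin ⁻¹ᵁ T) (fun z => homOfLE ((Zh A D hfin).preimage_mono (hrT z))) ?_ _ _ ?_
  · intro z hz
    exact Opens.mem_iSup.2 ⟨⟨z, hz⟩, hzr ⟨z, hz⟩⟩
  · intro z
    change rX _ (rX _ f) = rX _ ((Zh A D hfin).app T _)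
    rw [rX_rX, app_rX (Zh A D hfin) (hrT z), rX_rX]
    exact step1 (r z) ((hrT z).trans hT)

omit [IsLocallyNoetherian X] [NoetherianSpace X] in
variable {A D} in
theorem USetup.dense_goodLocus (S : USetup A D) : Dense ((goodLocus A : X.Opens) : Set X) := by
  rw [dense_iff_inter_open]
  rintro O hO ⟨x, hx⟩
  obtain ⟨y, hyO, hyU⟩ := S.exists_mem_goodLocus ⟨O, hO⟩ (ne_bot_of_mem (W := ⟨O, hO⟩) hx)
  exact ⟨y, hyO, hyU⟩

theorem isIso_Zh_goodLocus [IsReduced X] (S : USetup A D) : IsIso (Zh A D hfin ∣_ goodLocus A) :=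
  isIso_Zh_restrict A D hfin S (goodLocus A) fun _ hx => Or.inl hx

theorem bijective_Zh_app [IsReduced X] (S : USetup A D) {T : X.Opens} (hT : T ≤ goodLocus A) :
    Function.Bijective ((Zh A D hfin).app T) :=
  Groth.Agent.Lib.Helper23.FinPic.bijective_app_of_le (Zh A D hfin) (goodLocus A) (isIso_Zh_goodLocus A D hfin S) T hT

theorem surjective_Zh [IsReduced X] (S : USetup A D) : Function.Surjective (Zh A D hfin) := by
  haveI := isFinite_Zh A D hfin S
  haveI := isIso_Zh_goodLocus A D hfin S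
  exact surjective_of_isIso_dense (Zh A D hfin) (goodLocus A) S.dense_goodLocus

/-- the preimage of the good locus is dense in the model -/
theorem dense_preimage_goodLocus [IsReduced X] (S : USetup A D) :
    Dense ((Zh A D hfin ⁻¹ᵁ goodLocus A : (Zs A D hfin).Opens) : Set (Zs A D hfin)) := by
  rw [dense_iff_inter_open]
  rintro O hO ⟨z₀, hz₀⟩
  obtain ⟨_, ⟨V, hV, rfl⟩, hzV, -⟩ := X.isBasis_affineOpens.exists_subset_of_mem_open
    (Set.mem_univ (Zh A D hfin z₀)) isOpen_univ
  have hV' : IsAffineOpen (Zh A D hfin ⁻¹ᵁ V) := hV.preimage (Zh A D hfin)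
  obtain ⟨f, hfO, hzf⟩ := hV'.exists_basicOpen_le (V := ⟨O, hO⟩) ⟨z₀, hz₀⟩ hzV
  by_contra hcon
  have hempty : ∀ z, z ∈ (Zs A D hfin).basicOpen f → z ∉ Zh A D hfin ⁻¹ᵁ goodLocus A :=
    fun z hz hzU => hcon ⟨z, hfO hz, hzU⟩
  have h1 := gam_compat A D hfin hV f (T := V ⊓ goodLocus A) le_rfl
  have h2 : rX ((Zh A D hfin).preimage_mono (inf_le_left : V ⊓ goodLocus A ≤ V)) f = 0 := by
    rw [← basicOpen_eq_bot_iff, Scheme.basicOpen_res]
    ext z
    simp only [Opens.coe_bot, Set.mem_empty_iff_false, iff_false]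
    rintro ⟨hz1, hz2⟩
    exact hempty z hz2 hz1.2
  rw [h2, rX_self] at h1
  have h3 : (gam A D hfin hV f : Γ(X, V ⊓ goodLocus A)) = 0 := by
    apply (bijective_Zh_app A D hfin S (inf_le_right : V ⊓ goodLocus A ≤ goodLocus A)).1
    rw [← h1, map_zero]
  have h4 : f = 0 := by
    apply (gam A D hfin hV).injective
    rw [map_zero]
    exact Subtype.ext h3
  rw [h4, Scheme.basicOpen_zero] at hzf
  exact hzf

end Construct

end Groth.Agent.Lib.Helper11.Bir
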