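import Mathlib
import Groth.Agent.Lib.Helper23RestrJ

/-!
# Ampleness on a disjoint union (helper23)

Namespace `Groth.Agent.Lib.Helper23.Coprod`.

* `exists_idempotent_of_disjoint_cover` : `X = U₁ ⊔ U₂` disjoint opens ⇒ a global function `e` with `D(e) = U₁`, `D(1-e) = U₂`
* `isAmple_of_disjoint_cover` : `L|_{U₁}`, `L|_{U₂}` ample ⇒ `L` ample
* `isAmple_pullback_restrict_iff` : for an open immersion `j`, `(j^*L)|_U` ample iff `L|_{j(U)}` ample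
-/

set_option autoImplicit false
universe u
open CategoryTheory CategoryTheory.Limits AlgebraicGeometry TopologicalSpace Opposite

namespace Groth.Agent.Lib.Helper23.Coprod
open Groth.Agent.Lib.Helper23.AmpleIso Groth.Agent.Lib.Helper23.RestrJ

variable {X : Scheme.{u}}

theorem exists_idempotent_of_disjoint_cover (U₁ U₂ : X.Opens) (hcov : U₁ ⊔ U₂ = ⊤) (hdisj : U₁ ⊓ U₂ = ⊥) :
    ∃ e : Γ(X, ⊤), X.basicOpen e = U₁ ∧ X.basicOpen (1 - e) = U₂ := by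
  haveI : Subsingleton Γ(X, U₁ ⊓ U₂) := by rw [hdisj]; infer_instance
  let x : (CommRingCat.of <| RingHom.eqLocus
      (RingHom.comp (X.sheaf.obj.map (homOfLE inf_le_left : U₁ ⊓ U₂ ⟶ U₁).op).hom
        (RingHom.fst (X.sheaf.obj.obj <| op U₁) (X.sheaf.obj.obj <| op U₂)))
      (RingHom.comp (X.sheaf.obj.map (homOfLE inf_le_right : U₁ ⊓ U₂ ⟶ U₂).op).hom
        (RingHom.snd (X.sheaf.obj.obj <| op U₁) (X.sheaf.obj.obj <| op U₂)))) :=
    ⟨((1 : Γ(X, U₁)), (0 : Γ(X, U₂))), Subsingleton.elim (α := Γ(X, U₁ ⊓ U₂)) _ _⟩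
  obtain ⟨e₀, he₀⟩ : ∃ e₀ : Γ(X, U₁ ⊔ U₂), e₀ = (X.sheaf.objSupIsoProdEqLocus U₁ U₂).inv x := ⟨_, rfl⟩
  have h1 : X.presheaf.map (homOfLE (le_sup_left : U₁ ≤ U₁ ⊔ U₂)).op e₀ = 1 := by
    rw [he₀]; exact X.sheaf.objSupIsoProdEqLocus_inv_fst U₁ U₂ x
  have h2 : X.presheaf.map (homOfLE (le_sup_right : U₂ ≤ U₁ ⊔ U₂)).op e₀ = 0 := by
    rw [he₀]; exact X.sheaf.objSupIsoProdEqLocus_inv_snd U₁ U₂ x
  have htop : (⊤ : X.Opens) ≤ U₁ ⊔ U₂ := hcov.ge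
  obtain ⟨e, he⟩ : ∃ e : Γ(X, ⊤), e = X.presheaf.map (homOfLE htop).op e₀ := ⟨_, rfl⟩
  have r1 : X.presheaf.map (homOfLE (le_top : U₁ ≤ ⊤)).op e = 1 := by
    rw [he, ← h1, ← ConcreteCategory.comp_apply, ← Functor.map_comp]; rfl
  have r2 : X.presheaf.map (homOfLE (le_top : U₂ ≤ ⊤)).op e = 0 := by
    rw [he, ← h2, ← ConcreteCategory.comp_apply, ← Functor.map_comp]; rfl
  have key : ∀ g : Γ(X, ⊤), X.presheaf.map (homOfLE (le_top : U₁ ≤ ⊤)).op g = 1 →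
      X.presheaf.map (homOfLE (le_top : U₂ ≤ ⊤)).op g = 0 → X.basicOpen g = U₁ := by
    intro g hg1 hg2
    have a1 : U₁ ⊓ X.basicOpen g = U₁ := by
      rw [← Scheme.basicOpen_res X g (homOfLE (le_top : U₁ ≤ ⊤)).op, hg1]
      exact Scheme.basicOpen_of_isUnit X isUnit_one
    have a2 : U₂ ⊓ X.basicOpen g = ⊥ := by
      rw [← Scheme.basicOpen_res X g (homOfLE (le_top : U₂ ≤ ⊤)).op, hg2]
      exact Scheme.basicOpen_zero X U₂
    calc X.basicOpen g = (U₁ ⊔ U₂) ⊓ X.basicOpen g := by rw [hcov, top_inf_eq]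
      _ = (U₁ ⊓ X.basicOpen g) ⊔ (U₂ ⊓ X.basicOpen g) := inf_sup_right _ _ _
      _ = U₁ := by rw [a1, a2, sup_bot_eq]
  have key' : ∀ g : Γ(X, ⊤), X.presheaf.map (homOfLE (le_top : U₁ ≤ ⊤)).op g = 0 →
      X.presheaf.map (homOfLE (le_top : U₂ ≤ ⊤)).op g = 1 → X.basicOpen g = U₂ := by
    intro g hg1 hg2
    have a1 : U₁ ⊓ X.basicOpen g = ⊥ := by
      rw [← Scheme.basicOpen_res X g (homOfLE (le_top : U₁ ≤ ⊤)).op, hg1]
      exact Scheme.basicOpen_zero X U₁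
    have a2 : U₂ ⊓ X.basicOpen g = U₂ := by
      rw [← Scheme.basicOpen_res X g (homOfLE (le_top : U₂ ≤ ⊤)).op, hg2]
      exact Scheme.basicOpen_of_isUnit X isUnit_one
    calc X.basicOpen g = (U₁ ⊔ U₂) ⊓ X.basicOpen g := by rw [hcov, top_inf_eq]
      _ = (U₁ ⊓ X.basicOpen g) ⊔ (U₂ ⊓ X.basicOpen g) := inf_sup_right _ _ _
      _ = U₂ := by rw [a1, a2, bot_sup_eq]
  refine ⟨e, key e r1 r2, key' (1 - e) ?_ ?_⟩
  · rw [map_sub, map_one, r1, sub_self]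
  · rw [map_sub, map_one, r2, sub_zero]

theorem isAmple_of_disjoint_cover (L : X.Modules) (U₁ U₂ : X.Opens) (hcov : U₁ ⊔ U₂ = ⊤) (hdisj : U₁ ⊓ U₂ = ⊥)
    (h₁ : CohB1.IsAmple (L.restrict U₁.ι)) (h₂ : CohB1.IsAmple (L.restrict U₂.ι)) : CohB1.IsAmple L := by
  have c1 : IsCompact (U₁ : Set X) := by
    exact isCompact_iff_compactSpace.2 h₁.2.1
  have c2 : IsCompact (U₂ : Set X) := by
    exact isCompact_iff_compactSpace.2 h₂.2.1
  haveI : CompactSpace X := by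
    refine ⟨?_⟩
    have : (Set.univ : Set X) = (U₁ : Set X) ∪ (U₂ : Set X) := by
      rw [← Opens.coe_sup, hcov]; rfl
    rw [this]
    exact c1.union c2
  obtain ⟨e, he1, he2⟩ := exists_idempotent_of_disjoint_cover U₁ U₂ hcov hdisj
  refine isAmple_of_basicOpen_cover L (fun x => ?_)
  have hx : x ∈ U₁ ⊔ U₂ := by rw [hcov]; trivial
  rcases hx with hx | hx
  · refine ⟨e, by rw [he1]; exact hx, ?_⟩
    rw [he1]; exact h₁
  · refine ⟨1 - e, by rw [he2]; exact hx, ?_⟩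
    rw [he2]; exact h₂

theorem isAmple_pullback_restrict_iff {X' : Scheme.{u}} (j : X' ⟶ X) [IsOpenImmersion j] (L : X.Modules)
    (U : X'.Opens) :
    CohB1.IsAmple (((Scheme.Modules.pullback j).obj L).restrict U.ι) ↔ CohB1.IsAmple (L.restrict (j ''ᵁ U).ι) := by
  have e1 : (Scheme.Modules.pullback j).obj L ≅ L.restrict j :=
    ((Scheme.Modules.restrictFunctorIsoPullback j).app L).symm
  rw [isAmple_iff_of_iso ((Scheme.Modules.restrictFunctor U.ι).mapIso e1)]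
  change CohB1.IsAmple ((L.restrict j).restrict U.ι) ↔ _
  rw [isAmple_restrict_comp_iff]
  refine isAmple_restrict_iff_of_range_eq L _ _ ?_
  rw [Scheme.Opens.range_ι, Scheme.Hom.comp_base, TopCat.coe_comp, Set.range_comp, Scheme.Opens.range_ι]
  rfl

end Groth.Agent.Lib.Helper23.Coprod
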