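import Mathlib
import Groth.Prelude
import Groth.Agent.Lib.Helper23Norm
import Groth.Agent.Lib.Helper23GenNear
import Groth.Agent.Lib.Helper23SecTw10
import Groth.Agent.S10963
set_option backward.isDefEq.respectTransparency.types false

/-!
# Norms of invertible modules along finite morphisms with a norm (helper23)

Namespace `Groth.Agent.Lib.Helper23.Norm`.

* `exists_frames_over` : an invertible module on `X` (carrying an ample module) has frames on `π⁻¹(V)` for a cover `V` of `Y`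
* `exists_isAmple_of_norm` : if `X` has an ample module and `π : X ⟶ Y` is finite with a norm, then `Y` has an ample module
-/

set_option autoImplicit false
universe u
open CategoryTheory Limits AlgebraicGeometry TopologicalSpace Opposite

namespace Groth.Agent.Lib.Helper23.Norm
open Groth.Agent.Lib.Helper23.SecTw Groth.Agent.Lib.Helper6 Groth.Agent.Lib.Helper23.GenLocus
  Groth.Agent.Lib.Helper23.Extend Groth.Agent.Lib.Helper23.GenNear

variable {X Y : Scheme.{u}} (π : X ⟶ Y) {d : ℕ} (N : Nrm.NormOfDegree π d)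

theorem exists_frames_over [IsFinite π] (L : X.Modules) (hL : CohB1.IsAmple L) (y : Y) :
    ∃ (V : Y.Opens) (e : Γ(L, π ⁻¹ᵁ V)), y ∈ V ∧ IsGen L (π ⁻¹ᵁ V) e := by
  have hcl : IsClosedMap π := π.isClosedMap
  have hfin : (π ⁻¹' {y}).Finite := π.finite_preimage_singleton y
  obtain ⟨U, e, hZU, -, hgen⟩ := exists_isGen_nhd_of_finite L hL L hL.1 (π ⁻¹' {y}) hfin ⊤ (fun _ _ => trivial)
  have hC : IsClosed (π '' ((U : Set X)ᶜ)) := hcl _ U.isOpen.isClosed_compl
  let V : Y.Opens := ⟨(π '' ((U : Set X)ᶜ))ᶜ, hC.isOpen_compl⟩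
  have hyV : y ∈ V := fun ⟨x, hx, hxy⟩ => hx (hZU hxy)
  have hle : π ⁻¹ᵁ V ≤ U := by
    intro x hx
    by_contra hxU
    exact hx ⟨x, hxU, rfl⟩
  exact ⟨V, res L hle e, hyV, hgen.mono hle⟩


theorem map_preimage_eq_resf {U V : Y.Opens} (h : V ≤ U) (s : Γ(X, π ⁻¹ᵁ U)) :
    X.presheaf.map ((Opens.map π.base).map (homOfLE h)).op s = resf (π.preimage_mono h) s := rfl

include N in
/-- the norm commutes with restriction -/
theorem norm_resf {U V : Y.Opens} (h : V ≤ U) (s : Γ(X, π ⁻¹ᵁ U)) :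
    resf h (N.norm U s) = N.norm V (resf (π.preimage_mono h) s) :=
  N.norm_res (homOfLE h) s

include N in
/-- ampleness descends along a finite morphism carrying a norm -/
theorem exists_isAmple_of_norm [IsFinite π] (L : X.Modules) (hL : CohB1.IsAmple L) :
    ∃ NL : Y.Modules, CohB1.IsAmple NL := by
  classical
  have hcl : IsClosedMap π := π.isClosedMap
  have hsurj := surjective_of_norm π N hcl
  haveI : CompactSpace X := hL.2.1
  haveI : CompactSpace Y := by
    constructor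
    rw [← hsurj.range_eq, ← Set.image_univ]
    exact isCompact_univ.image π.continuous
  have h0 := exists_frames_over π L hL
  choose V e hyV he using h0
  -- transition units
  obtain ⟨g, hg⟩ : ∃ g : ∀ i j, Γ(X, π ⁻¹ᵁ (V i ⊓ V j)), ∀ i j,
      res L (π.preimage_mono (inf_le_left : V i ⊓ V j ≤ V i)) (e i) =
        g i j • res L (π.preimage_mono (inf_le_right : V i ⊓ V j ≤ V j)) (e j) :=
    ⟨fun i j => coef (he j) (π.preimage_mono inf_le_right) (res L (π.preimage_mono inf_le_left) (e i)),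
      fun i j => (coef_spec (he j) _ _).symm⟩
  have hgu : ∀ i j, IsUnit (g i j) := by
    intro i j
    have h1 := (he i).mono (π.preimage_mono (inf_le_left : V i ⊓ V j ≤ V i))
    have h2 := (he j).mono (π.preimage_mono (inf_le_right : V i ⊓ V j ≤ V j))
    rw [hg i j] at h1
    exact (isGen_smul_iff h2 (g i j)).1 h1
  have hgc : ∀ i j k,
      resf (π.preimage_mono (inf_le_inf_right (V k) inf_le_left : V i ⊓ V j ⊓ V k ≤ V i ⊓ V k)) (g i k) =
        resf (π.preimage_mono (inf_le_left : V i ⊓ V j ⊓ V k ≤ V i ⊓ V j)) (g i j) *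
          resf (π.preimage_mono (inf_le_inf_right (V k) inf_le_right : V i ⊓ V j ⊓ V k ≤ V j ⊓ V k))
            (g j k) := by
    intro i j k
    have hk := (he k) (π ⁻¹ᵁ (V i ⊓ V j ⊓ V k)) (π.preimage_mono inf_le_right)
    apply hk.1
    change resf _ (g i k) • res L _ (e k) = (resf _ (g i j) * resf _ (g j k)) • res L _ (e k)
    have e1 := congrArg (res L (π.preimage_mono
      (inf_le_inf_right (V k) inf_le_left : V i ⊓ V j ⊓ V k ≤ V i ⊓ V k))) (hg i k)
    have e2 := congrArg (res L (π.preimage_mono (inf_le_left : V i ⊓ V j ⊓ V k ≤ V i ⊓ V j))) (hg i j)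
    have e3 := congrArg (res L (π.preimage_mono
      (inf_le_inf_right (V k) inf_le_right : V i ⊓ V j ⊓ V k ≤ V j ⊓ V k))) (hg j k)
    rw [res_smul, res_res, res_res] at e1 e2 e3
    rw [mul_smul, ← e3, ← e2, ← e1]
  -- the norm cocycle
  let η : ∀ i j, (Γ(Y, V i ⊓ V j))ˣ := fun i j => Units.map (N.norm (V i ⊓ V j)) (hgu i j).unit
  have hηc : ∀ i j, ((η i j : (Γ(Y, V i ⊓ V j))ˣ) : Γ(Y, V i ⊓ V j)) = N.norm (V i ⊓ V j) (g i j) := fun i j => by
    change N.norm (V i ⊓ V j) ((hgu i j).unit : Γ(X, π ⁻¹ᵁ (V i ⊓ V j))) = _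
    rw [IsUnit.unit_spec]
  have hV : iSup V = ⊤ := by
    rw [eq_top_iff]
    intro y _
    exact Opens.mem_iSup.2 ⟨y, hyV y⟩
  obtain ⟨NL, t, hNLinv, ht, htt⟩ := Groth.Agent.S10963.result Y V hV η (by
    intro i j k
    rw [hηc, hηc, hηc]
    change resf _ (N.norm _ (g i k)) = resf _ (N.norm _ (g i j)) * resf _ (N.norm _ (g j k))
    rw [norm_resf π N, norm_resf π N, norm_resf π N, hgc i j k, map_mul])
  have htgen : ∀ i, IsGen NL (V i) (t i) := ht
  have htt' : ∀ i j, res NL (inf_le_left : V i ⊓ V j ≤ V i) (t i) =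
      N.norm (V i ⊓ V j) (g i j) • res NL (inf_le_right : V i ⊓ V j ≤ V j) (t j) := by
    intro i j
    rw [← hηc]
    exact htt i j
  refine ⟨NL, hNLinv, inferInstance, fun y => ?_⟩
  obtain ⟨_, ⟨V', hV', rfl⟩, hyV', -⟩ :=
    Y.isBasis_affineOpens.exists_subset_of_mem_open (Set.mem_univ y) isOpen_univ
  have hfin : (π ⁻¹' {y}).Finite := π.finite_preimage_singleton y
  have hZV' : π ⁻¹' {y} ⊆ (π ⁻¹ᵁ V' : X.Opens) := by
    intro x hx
    have : π x = y := hx
    change π x ∈ V'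
    rw [this]
    exact hyV'
  obtain ⟨n, σ, hZσ, hσV', -⟩ := exists_affine_genLocus_of_finite L hL (π ⁻¹' {y}) hfin (π ⁻¹ᵁ V') hZV'
  have hpe : ∀ i, IsGen (CohB1.tensorPow L (n + 1)) (π ⁻¹ᵁ V i) (pw L _ (e i) (n + 1)) :=
    fun i => isGen_pw L _ (e i) (he i) _
  have hpt : ∀ i, IsGen (CohB1.tensorPow NL (n + 1)) (V i) (pw NL _ (t i) (n + 1)) :=
    fun i => isGen_pw NL _ (t i) (htgen i) _
  obtain ⟨a, ha⟩ : ∃ a : ∀ i, Γ(X, π ⁻¹ᵁ V i), ∀ i, sv σ (π ⁻¹ᵁ V i) = a i • pw L _ (e i) (n + 1) :=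
    ⟨fun i => coef (hpe i) le_rfl (sv σ (π ⁻¹ᵁ V i)), fun i => sv_eq_coef_smul σ (hpe i)⟩
  -- relation between the coefficients
  have haa : ∀ i j, resf (π.preimage_mono (inf_le_left : V i ⊓ V j ≤ V i)) (a i) * g i j ^ (n + 1) =
      resf (π.preimage_mono (inf_le_right : V i ⊓ V j ≤ V j)) (a j) := by
    intro i j
    apply ((hpe j) (π ⁻¹ᵁ (V i ⊓ V j)) (π.preimage_mono inf_le_right)).1
    change (resf _ (a i) * g i j ^ (n + 1)) • res _ _ (pw L _ (e j) (n + 1)) =
      resf _ (a j) • res _ _ (pw L _ (e j) (n + 1))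
    rw [← res_smul, ← ha j, res_sv, mul_smul, res_pw, ← pw_smul, ← hg i j, ← res_pw, ← res_smul, ← ha i, res_sv]
  -- the norm section
  have hcompat : TopCat.Presheaf.IsCompatible (modSheaf (CohB1.tensorPow NL (n + 1))).1 V
      (fun i => N.norm (V i) (a i) • pw NL (V i) (t i) (n + 1)) := by
    intro i j
    change res _ inf_le_left (N.norm (V i) (a i) • pw NL (V i) (t i) (n + 1)) =
      res _ inf_le_right (N.norm (V j) (a j) • pw NL (V j) (t j) (n + 1))
    rw [res_smul, res_smul, res_pw, res_pw, htt' i j, pw_smul, ← mul_smul, norm_resf π N, norm_resf π N,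
      ← map_pow, ← map_mul, haa i j]
  obtain ⟨τ₀, hτ₀, -⟩ := (modSheaf (CohB1.tensorPow NL (n + 1))).existsUnique_gluing' V ⊤
    (fun i => homOfLE le_top) (fun y _ => Opens.mem_iSup.2 ⟨y, hyV y⟩) _ hcompat
  have hsv : ∀ i, sv (secHom (CohB1.tensorPow NL (n + 1)) τ₀) (V i) =
      N.norm (V i) (a i) • pw NL (V i) (t i) (n + 1) := by
    intro i
    rw [sv_secHom]
    exact hτ₀ i
  have h1 : ∀ i, CohB1.genLocus _ (secHom (CohB1.tensorPow NL (n + 1)) τ₀) ⊓ V i =
      Y.basicOpen (N.norm (V i) (a i)) := by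
    intro i
    have h := genLocus_inf_eq_coef (secHom (CohB1.tensorPow NL (n + 1)) τ₀) (hpt i)
    have h' : coef (hpt i) le_rfl (sv (secHom (CohB1.tensorPow NL (n + 1)) τ₀) (V i)) = N.norm (V i) (a i) := by
      symm
      apply coef_unique
      rw [res_self]
      exact (hsv i).symm
    rw [h'] at h
    exact h
  have h2 : ∀ i, CohB1.genLocus _ σ ⊓ π ⁻¹ᵁ V i = X.basicOpen (a i) := by
    intro i
    have h := genLocus_inf_eq_coef σ (hpe i)
    have h' : coef (hpe i) le_rfl (sv σ (π ⁻¹ᵁ V i)) = a i := by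
      symm
      apply coef_unique
      rw [res_self]
      exact (ha i).symm
    rw [h'] at h
    exact h
  have hle : CohB1.genLocus _ (secHom (CohB1.tensorPow NL (n + 1)) τ₀) ≤ V' := by
    intro y' hy'
    have hy'' : y' ∈ CohB1.genLocus _ (secHom (CohB1.tensorPow NL (n + 1)) τ₀) ⊓ V y' := ⟨hy', hyV y'⟩
    rw [h1] at hy''
    obtain ⟨x', rfl⟩ := hsurj y'
    have hx' := mem_basicOpen_of_mem_basicOpen_norm π N _ _ x' hy''
    rw [← h2] at hx'
    exact hσV' hx'.1
  refine ⟨n, secHom _ τ₀, ?_, ?_⟩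
  · have : y ∈ CohB1.genLocus _ (secHom (CohB1.tensorPow NL (n + 1)) τ₀) ⊓ V y := by
      rw [h1]
      refine mem_basicOpen_norm π N hcl (V y) (a y) y (hyV y) (fun x hx => ?_)
      rw [← h2]
      refine ⟨hZσ hx, ?_⟩
      change π x ∈ V y
      rw [hx]
      exact hyV y
    exact this.1
  · have := isAffineOpen_inf_genLocus _ (isInvertible_tensorPow hNLinv (n + 1))
      (secHom (CohB1.tensorPow NL (n + 1)) τ₀) V' hV'
    rwa [inf_eq_right.2 hle] at this

end Groth.Agent.Lib.Helper23.Norm
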