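import Mathlib
import Groth.Prelude
import Groth.Agent.Lib.Helper23Norm2
import Groth.Agent.Lib.Helper23PB
import Groth.Agent.Lib.Helper23PB3
import Groth.Agent.Lib.Helper23Coprod
import Groth.Agent.Lib.Helper18Norm2
set_option backward.isDefEq.respectTransparency.types false

/-!
# Descent of ampleness along a finite morphism carrying a norm (helper23)

Namespace `Groth.Agent.Lib.Helper23.NormAmple`.

* `isAmple_of_isAmple_pullback_of_norm` : `π : X ⟶ Y` finite with a norm of degree `d`, `L` invertible on `Y`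
  with `π^* L` ample ⇒ `L` ample.
-/

set_option autoImplicit false
universe u
open CategoryTheory Limits AlgebraicGeometry TopologicalSpace Opposite

namespace Groth.Agent.Lib.Helper23.NormAmple
open Groth.Agent.Lib.Helper23.SecTw Groth.Agent.Lib.Helper6 Groth.Agent.Lib.Helper23.GenLocus
  Groth.Agent.Lib.Helper23.Extend Groth.Agent.Lib.Helper23.GenNear Groth.Agent.Lib.Helper23.Norm
  Groth.Agent.Lib.Helper23.PB Groth.Agent.Helper13PullbackUnit

variable {X Y : Scheme.{u}} (π : X ⟶ Y) {d : ℕ} (N : Nrm.NormOfDegree π d)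

include N in
/-- ampleness descends along a finite morphism carrying a norm -/
theorem isAmple_of_isAmple_pullback_of_norm [IsFinite π] (L : Y.Modules) (hL : PicF.IsInvertible L)
    (hL' : CohB1.IsAmple ((Scheme.Modules.pullback π).obj L)) : CohB1.IsAmple L := by
  classical
  have hcl : IsClosedMap π := π.isClosedMap
  have hsurj := surjective_of_norm π N hcl
  haveI : CompactSpace X := hL'.2.1
  haveI : CompactSpace Y := by
    constructor
    rw [← hsurj.range_eq, ← Set.image_univ]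
    exact isCompact_univ.image π.continuous
  haveI : L.IsQuasicoherent := isQuasicoherent_of_isInvertible L hL
  have h0 := exists_affine_gen L hL
  choose V e hyV hVaff he using h0
  set L' := (Scheme.Modules.pullback π).obj L with hL'def
  let e' : ∀ i, Γ(L', π ⁻¹ᵁ V i) := fun i => unitSec π L le_rfl (e i)
  have he' : ∀ i, IsGen L' (π ⁻¹ᵁ V i) (e' i) := fun i => isGen_unitSec π L (hVaff i) (e i) (he i)
  -- transition units
  obtain ⟨g, hg⟩ : ∃ g : ∀ i j, Γ(Y, V i ⊓ V j), ∀ i j,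
      res L (inf_le_left : V i ⊓ V j ≤ V i) (e i) =
        g i j • res L (inf_le_right : V i ⊓ V j ≤ V j) (e j) :=
    ⟨fun i j => coef (he j) inf_le_right (res L inf_le_left (e i)),
      fun i j => (coef_spec (he j) _ _).symm⟩
  have hg' : ∀ i j, res L' (π.preimage_mono (inf_le_left : V i ⊓ V j ≤ V i)) (e' i) =
      π.app (V i ⊓ V j) (g i j) • res L' (π.preimage_mono (inf_le_right : V i ⊓ V j ≤ V j)) (e' j) := by
    intro i j
    change res L' _ (unitSec π L le_rfl (e i)) = _ • res L' _ (unitSec π L le_rfl (e j))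
    rw [res_unitSec π L le_rfl (le_rfl : π ⁻¹ᵁ (V i ⊓ V j) ≤ π ⁻¹ᵁ (V i ⊓ V j)) inf_le_left
        (π.preimage_mono inf_le_left),
      res_unitSec π L le_rfl (le_rfl : π ⁻¹ᵁ (V i ⊓ V j) ≤ π ⁻¹ᵁ (V i ⊓ V j)) inf_le_right
        (π.preimage_mono inf_le_right), hg i j, unitSec_smul, Scheme.Hom.appLE_eq_app]
  refine ⟨hL, inferInstance, fun y => ?_⟩
  obtain ⟨_, ⟨V', hV', rfl⟩, hyV', -⟩ :=
    Y.isBasis_affineOpens.exists_subset_of_mem_open (Set.mem_univ y) isOpen_univ
  have hfin : (π ⁻¹' {y}).Finite := π.finite_preimage_singleton y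
  have hZV' : π ⁻¹' {y} ⊆ (π ⁻¹ᵁ V' : X.Opens) := by
    intro x hx
    have : π x = y := hx
    change π x ∈ V'
    rw [this]
    exact hyV'
  obtain ⟨n, σ, hZσ, hσV', -⟩ := exists_affine_genLocus_of_finite L' hL' (π ⁻¹' {y}) hfin (π ⁻¹ᵁ V') hZV'
  obtain ⟨k, hk⟩ : ∃ k, (n + 1) * d = k + 1 :=
    ⟨(n + 1) * d - 1, (Nat.sub_add_cancel (Nat.mul_pos (Nat.succ_pos n) N.one_le)).symm⟩
  have hpe : ∀ i, IsGen (CohB1.tensorPow L' (n + 1)) (π ⁻¹ᵁ V i) (pw L' _ (e' i) (n + 1)) :=
    fun i => isGen_pw L' _ (e' i) (he' i) _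
  have hpt : ∀ i, IsGen (CohB1.tensorPow L (k + 1)) (V i) (pw L _ (e i) (k + 1)) :=
    fun i => isGen_pw L _ (e i) (he i) _
  obtain ⟨a, ha⟩ : ∃ a : ∀ i, Γ(X, π ⁻¹ᵁ V i), ∀ i, sv σ (π ⁻¹ᵁ V i) = a i • pw L' _ (e' i) (n + 1) :=
    ⟨fun i => coef (hpe i) le_rfl (sv σ (π ⁻¹ᵁ V i)), fun i => sv_eq_coef_smul σ (hpe i)⟩
  -- relation between the coefficients
  have haa : ∀ i j, resf (π.preimage_mono (inf_le_left : V i ⊓ V j ≤ V i)) (a i) *
      π.app (V i ⊓ V j) (g i j) ^ (n + 1) =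
      resf (π.preimage_mono (inf_le_right : V i ⊓ V j ≤ V j)) (a j) := by
    intro i j
    apply ((hpe j) (π ⁻¹ᵁ (V i ⊓ V j)) (π.preimage_mono inf_le_right)).1
    change (resf _ (a i) * π.app (V i ⊓ V j) (g i j) ^ (n + 1)) • res _ _ (pw L' _ (e' j) (n + 1)) =
      resf _ (a j) • res _ _ (pw L' _ (e' j) (n + 1))
    rw [← res_smul, ← ha j, res_sv, mul_smul, res_pw, ← pw_smul, ← hg' i j, ← res_pw, ← res_smul, ← ha i, res_sv]
  -- the norm section
  have hcompat : TopCat.Presheaf.IsCompatible (modSheaf (CohB1.tensorPow L (k + 1))).1 V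
      (fun i => N.norm (V i) (a i) • pw L (V i) (e i) (k + 1)) := by
    intro i j
    change res _ inf_le_left (N.norm (V i) (a i) • pw L (V i) (e i) (k + 1)) =
      res _ inf_le_right (N.norm (V j) (a j) • pw L (V j) (e j) (k + 1))
    rw [res_smul, res_smul, res_pw, res_pw, hg i j, pw_smul, ← mul_smul, norm_resf π N, norm_resf π N,
      ← haa i j, map_mul, map_pow, N.norm_app, ← pow_mul, ← hk, mul_comm d (n + 1)]
  obtain ⟨τ₀, hτ₀, -⟩ := (modSheaf (CohB1.tensorPow L (k + 1))).existsUnique_gluing' V ⊤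
    (fun i => homOfLE le_top) (fun y _ => Opens.mem_iSup.2 ⟨y, hyV y⟩) _ hcompat
  have hsv : ∀ i, sv (secHom (CohB1.tensorPow L (k + 1)) τ₀) (V i) =
      N.norm (V i) (a i) • pw L (V i) (e i) (k + 1) := by
    intro i
    rw [sv_secHom]
    exact hτ₀ i
  have h1 : ∀ i, CohB1.genLocus _ (secHom (CohB1.tensorPow L (k + 1)) τ₀) ⊓ V i =
      Y.basicOpen (N.norm (V i) (a i)) := by
    intro i
    have h := genLocus_inf_eq_coef (secHom (CohB1.tensorPow L (k + 1)) τ₀) (hpt i)
    have h' : coef (hpt i) le_rfl (sv (secHom (CohB1.tensorPow L (k + 1)) τ₀) (V i)) = N.norm (V i) (a i) := by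
      symm
      apply coef_unique
      rw [res_self]
      exact (hsv i).symm
    rw [h'] at h
    exact h
  have h2 : ∀ i, CohB1.genLocus _ σ ⊓ π ⁻¹ᵁ V i = X.basicOpen (a i) := by
    intro i
    have h := genLocus_inf_eq_coef σ (hpe i)
    have h' : coef (hpe i) le_rfl (sv σ (π ⁻¹ᵁ V i)) = a i := by
      symm
      apply coef_unique
      rw [res_self]
      exact (ha i).symm
    rw [h'] at h
    exact h
  have hle : CohB1.genLocus _ (secHom (CohB1.tensorPow L (k + 1)) τ₀) ≤ V' := by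
    intro y' hy'
    have hy'' : y' ∈ CohB1.genLocus _ (secHom (CohB1.tensorPow L (k + 1)) τ₀) ⊓ V y' := ⟨hy', hyV y'⟩
    rw [h1] at hy''
    obtain ⟨x', rfl⟩ := hsurj y'
    have hx' := mem_basicOpen_of_mem_basicOpen_norm π N _ _ x' hy''
    rw [← h2] at hx'
    exact hσV' hx'.1
  refine ⟨k, secHom _ τ₀, ?_, ?_⟩
  · have : y ∈ CohB1.genLocus _ (secHom (CohB1.tensorPow L (k + 1)) τ₀) ⊓ V y := by
      rw [h1]
      refine mem_basicOpen_norm π N hcl (V y) (a y) y (hyV y) (fun x hx => ?_)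
      rw [← h2]
      refine ⟨hZσ hx, ?_⟩
      change π x ∈ V y
      rw [hx]
      exact hyV y
    exact this.1
  · have := isAffineOpen_inf_genLocus _ (isInvertible_tensorPow hL (k + 1))
      (secHom (CohB1.tensorPow L (k + 1)) τ₀) V' hV'
    rwa [inf_eq_right.2 hle] at this

end Groth.Agent.Lib.Helper23.NormAmple

namespace Groth.Agent.Lib.Helper23.NormAmple
open Groth.Agent.Lib.Helper23.SecTw Groth.Agent.Lib.Helper23.AmpleIso Groth.Agent.Lib.Helper23.RestrJ
  Groth.Agent.Lib.Helper23.Coprod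

variable {X Y : Scheme.{u}} (π : X ⟶ Y)

/-- ampleness descends along a finite locally free surjective morphism (of possibly varying rank) -/
theorem isAmple_of_isAmple_pullback_of_isFinLocFree (hπ : Mor2.IsFinLocFree π) [Surjective π]
    (L : Y.Modules) (hL : PicF.IsInvertible L)
    (hL' : CohB1.IsAmple ((Scheme.Modules.pullback π).obj L)) : CohB1.IsAmple L := by
  classical
  haveI : IsFinite π := hπ.1
  haveI : Flat π := hπ.2.1
  haveI : LocallyOfFinitePresentation π := hπ.2.2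
  have hsurj : Function.Surjective π := π.surjective
  haveI : CompactSpace X := hL'.2.1
  haveI : CompactSpace Y := by
    constructor
    rw [← hsurj.range_eq, ← Set.image_univ]
    exact isCompact_univ.image π.continuous
  have hlc := π.isLocallyConstant_finrank
  refine isAmple_of_basicOpen_cover L (fun y => ?_)
  set n := π.finrank y with hn
  let U₁ : Y.Opens := ⟨π.finrank ⁻¹' {n}, hlc.isOpen_fiber n⟩
  let U₂ : Y.Opens := ⟨π.finrank ⁻¹' {n}ᶜ, hlc _⟩
  have hcov : U₁ ⊔ U₂ = ⊤ := by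
    ext z
    simp only [Opens.coe_sup, Opens.coe_top, Set.mem_union, Set.mem_univ, iff_true]
    by_cases h : π.finrank z = n
    · exact Or.inl h
    · exact Or.inr h
  have hdisj : U₁ ⊓ U₂ = ⊥ := by
    ext z
    simp only [Opens.coe_inf, Opens.coe_bot, Set.mem_inter_iff, Set.mem_empty_iff_false, iff_false]
    rintro ⟨h1, h2⟩
    exact h2 h1
  obtain ⟨e, he1, -⟩ := exists_idempotent_of_disjoint_cover U₁ U₂ hcov hdisj
  have hy1 : y ∈ U₁ := rfl
  refine ⟨e, by rw [he1]; exact hy1, ?_⟩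
  rw [he1]
  -- the restricted morphism
  have hn1 : 1 ≤ n := by
    obtain ⟨x, hx⟩ := hsurj y
    rw [hn, ← hx]
    exact π.one_le_finrank_map x
  have hdeg : Mor2.IsFinLocFreeOfDeg n (π ∣_ U₁) := by
    refine ⟨⟨inferInstance, inferInstance, inferInstance⟩, fun z => ?_⟩
    rw [Scheme.Hom.finrank_of_isPullback _ _ _ _ (isPullback_morphismRestrict π U₁).flip z]
    exact z.2
  obtain ⟨N⟩ := Groth.Agent.Helper18Norm.main_S8878 (π ∣_ U₁) n hn1 hdeg
  haveI : IsFinite (π ∣_ U₁) := hdeg.1.1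
  refine isAmple_of_isAmple_pullback_of_norm (π ∣_ U₁) N _ (RestrJ.isInvertible_restrict U₁.ι L hL) ?_
  have hc : IsCompact ((π ⁻¹ᵁ U₁ : X.Opens) : Set X) := by
    have hcl : IsClosed ((π ⁻¹ᵁ U₁ : X.Opens) : Set X) := by
      have : ((π ⁻¹ᵁ U₁ : X.Opens) : Set X) = ((π ⁻¹ᵁ U₂ : X.Opens) : Set X)ᶜ := by
        ext x
        change π.finrank (π x) = n ↔ ¬ ¬ π.finrank (π x) = n
        rw [not_not]
      rw [this]
      exact (π ⁻¹ᵁ U₂).isOpen.isClosed_compl
    exact hcl.isCompact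
  have h1 := Groth.Agent.Lib.Helper23.SecTw.isAmple_restrict _ hL' (π ⁻¹ᵁ U₁) hc
  exact isAmple_of_iso (Groth.Agent.Lib.Helper23.PB.pullbackRestrictIso' π L (π ⁻¹ᵁ U₁).ι U₁.ι (π ∣_ U₁)
    (morphismRestrict_ι π U₁)) h1

end Groth.Agent.Lib.Helper23.NormAmple
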