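import Mathlib
import Groth.Prelude
import Groth.Agent.Lib.Helper11MixNorm3
import Groth.Agent.Lib.Helper23NormAmple
set_option backward.isDefEq.respectTransparency.types false

/-!
# Mixed norms IV : descent of ampleness along a finite morphism with a weak-membership norm (helper11)

Namespace `Groth.Agent.Lib.Helper11.MixNorm`.  Copy of helper23's `isAmple_of_isAmple_pullback_of_norm` where the
vanishing axiom of the norm is only required at one point of every fibre.
-/

set_option autoImplicit false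
set_option linter.style.haveILetI false
universe u
open CategoryTheory Limits AlgebraicGeometry TopologicalSpace Opposite

namespace Groth.Agent.Lib.Helper11.MixNorm

/-- a norm of degree `d` whose "invertible norm implies invertible" property is only required at one point of
every fibre -/
structure WNorm {X Y : Scheme.{u}} (π : X ⟶ Y) (d : ℕ) where
  /-- the degree is positive -/
  one_le : 1 ≤ d
  /-- the norm maps on sections -/
  norm : ∀ U : Y.Opens, Γ(X, π ⁻¹ᵁ U) →* Γ(Y, U)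
  /-- compatibility with restriction -/
  norm_res : ∀ {U V : Y.Opens} (i : V ⟶ U) (s : Γ(X, π ⁻¹ᵁ U)),
    Y.presheaf.map i.op (norm U s) = norm V (X.presheaf.map ((Opens.map π.base).map i).op s)
  /-- the norm of a function pulled back from `Y` is its `d`-th power -/
  norm_app : ∀ (U : Y.Opens) (g : Γ(Y, U)), norm U (π.app U g) = g ^ d
  /-- over every point there is a point at which sections with invertible norm are invertible -/
  exists_pt : ∀ y : Y, ∃ x : X, π x = y ∧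
    ∀ (U : Y.Opens) (s : Γ(X, π ⁻¹ᵁ U)), π x ∈ Y.basicOpen (norm U s) → x ∈ X.basicOpen s

open Groth.Agent.Lib.Helper23.SecTw Groth.Agent.Lib.Helper6 Groth.Agent.Lib.Helper23.GenLocus
  Groth.Agent.Lib.Helper23.Extend Groth.Agent.Lib.Helper23.GenNear Groth.Agent.Lib.Helper23.Norm
  Groth.Agent.Lib.Helper23.PB Groth.Agent.Helper13PullbackUnit

variable {X Y : Scheme.{u}} (π : X ⟶ Y) {d : ℕ}

/-- the norm commutes with restriction -/
theorem wnorm_resf (N : WNorm π d) {U V : Y.Opens} (h : V ≤ U) (s : Γ(X, π ⁻¹ᵁ U)) :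
    resf h (N.norm U s) = N.norm V (resf (π.preimage_mono h) s) :=
  N.norm_res (homOfLE h) s

/-- if `s` is invertible at all points of the fibre of `y`, then its norm is invertible at `y` -/
theorem wmem_basicOpen_norm (N : WNorm π d) (hcl : IsClosedMap π) (U : Y.Opens) (s : Γ(X, π ⁻¹ᵁ U)) (y : Y)
    (hy : y ∈ U) (h : ∀ x, π x = y → x ∈ X.basicOpen s) : y ∈ Y.basicOpen (N.norm U s) := by
  have hC : IsClosed (π '' ((X.basicOpen s : Set X)ᶜ)) := hcl _ (X.basicOpen s).isOpen.isClosed_compl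
  let U' : Y.Opens := U ⊓ ⟨(π '' ((X.basicOpen s : Set X)ᶜ))ᶜ, hC.isOpen_compl⟩
  have hyU' : y ∈ U' := ⟨hy, fun ⟨x, hx, hxy⟩ => hx (h x hxy)⟩
  have hle : U' ≤ U := inf_le_left
  have hpre : ∀ x, x ∈ π ⁻¹ᵁ U' → x ∈ X.basicOpen s := by
    intro x hx
    by_contra hxs
    exact hx.2 ⟨x, hxs, rfl⟩
  have hu : IsUnit (X.presheaf.map ((Opens.map π.base).map (homOfLE hle)).op s) := by
    apply isUnit_of_forall_mem_basicOpen
    intro x hx
    rw [Scheme.basicOpen_res]
    exact ⟨hx, hpre x hx⟩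
  have h1 := N.norm_res (homOfLE hle) s
  have h2 : IsUnit (Y.presheaf.map (homOfLE hle).op (N.norm U s)) := by
    rw [h1]
    exact hu.map _
  have h3 := Scheme.basicOpen_of_isUnit _ h2
  rw [Scheme.basicOpen_res] at h3
  have h4 : y ∈ U' ⊓ Y.basicOpen (N.norm U s) := by
    rw [h3]
    exact hyU'
  exact h4.2

/-- ampleness descends along a finite morphism carrying a weak-membership norm -/
theorem isAmple_of_isAmple_pullback_of_wnorm [IsFinite π] (N : WNorm π d) (L : Y.Modules) (hL : PicF.IsInvertible L)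
    (hL' : CohB1.IsAmple ((Scheme.Modules.pullback π).obj L)) : CohB1.IsAmple L := by
  classical
  have hcl : IsClosedMap π := π.isClosedMap
  have hsurj : Function.Surjective π := fun y => by
    obtain ⟨z, hz, -⟩ := N.exists_pt y
    exact ⟨z, hz⟩
  haveI : CompactSpace X := hL'.2.1
  haveI : CompactSpace Y := by
    constructor
    rw [← hsurj.range_eq, ← Set.image_univ]
    exact isCompact_univ.image π.continuous
  haveI : L.IsQuasicoherent := isQuasicoherent_of_isInvertible L hL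
  have h0 := exists_affine_gen L hL
  choose V e hyV hVaff he using h0
  set L' := (Scheme.Modules.pullback π).obj L with hL'def
  let e' : ∀ i, Γ(L', π ⁻¹ᵁ V i) := fun i => unitSec π L le_rfl (e i)
  have he' : ∀ i, IsGen L' (π ⁻¹ᵁ V i) (e' i) := fun i => isGen_unitSec π L (hVaff i) (e i) (he i)
  -- transition units
  obtain ⟨g, hg⟩ : ∃ g : ∀ i j, Γ(Y, V i ⊓ V j), ∀ i j,
      res L (inf_le_left : V i ⊓ V j ≤ V i) (e i) =
        g i j • res L (inf_le_right : V i ⊓ V j ≤ V j) (e j) :=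
    ⟨fun i j => coef (he j) inf_le_right (res L inf_le_left (e i)),
      fun i j => (coef_spec (he j) _ _).symm⟩
  have hg' : ∀ i j, res L' (π.preimage_mono (inf_le_left : V i ⊓ V j ≤ V i)) (e' i) =
      π.app (V i ⊓ V j) (g i j) • res L' (π.preimage_mono (inf_le_right : V i ⊓ V j ≤ V j)) (e' j) := by
    intro i j
    change res L' _ (unitSec π L le_rfl (e i)) = _ • res L' _ (unitSec π L le_rfl (e j))
    rw [res_unitSec π L le_rfl (le_rfl : π ⁻¹ᵁ (V i ⊓ V j) ≤ π ⁻¹ᵁ (V i ⊓ V j)) inf_le_left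
        (π.preimage_mono inf_le_left),
      res_unitSec π L le_rfl (le_rfl : π ⁻¹ᵁ (V i ⊓ V j) ≤ π ⁻¹ᵁ (V i ⊓ V j)) inf_le_right
        (π.preimage_mono inf_le_right), hg i j, unitSec_smul, Scheme.Hom.appLE_eq_app]
  refine ⟨hL, inferInstance, fun y => ?_⟩
  obtain ⟨_, ⟨V', hV', rfl⟩, hyV', -⟩ :=
    Y.isBasis_affineOpens.exists_subset_of_mem_open (Set.mem_univ y) isOpen_univ
  have hfin : (π ⁻¹' {y}).Finite := π.finite_preimage_singleton y
  have hZV' : π ⁻¹' {y} ⊆ (π ⁻¹ᵁ V' : X.Opens) := by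
    intro x hx
    have : π x = y := hx
    change π x ∈ V'
    rw [this]
    exact hyV'
  obtain ⟨n, σ, hZσ, hσV', -⟩ := exists_affine_genLocus_of_finite L' hL' (π ⁻¹' {y}) hfin (π ⁻¹ᵁ V') hZV'
  obtain ⟨k, hk⟩ : ∃ k, (n + 1) * d = k + 1 :=
    ⟨(n + 1) * d - 1, (Nat.sub_add_cancel (Nat.mul_pos (Nat.succ_pos n) N.one_le)).symm⟩
  have hpe : ∀ i, IsGen (CohB1.tensorPow L' (n + 1)) (π ⁻¹ᵁ V i) (pw L' _ (e' i) (n + 1)) :=
    fun i => isGen_pw L' _ (e' i) (he' i) _
  have hpt : ∀ i, IsGen (CohB1.tensorPow L (k + 1)) (V i) (pw L _ (e i) (k + 1)) :=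
    fun i => isGen_pw L _ (e i) (he i) _
  obtain ⟨a, ha⟩ : ∃ a : ∀ i, Γ(X, π ⁻¹ᵁ V i), ∀ i, sv σ (π ⁻¹ᵁ V i) = a i • pw L' _ (e' i) (n + 1) :=
    ⟨fun i => coef (hpe i) le_rfl (sv σ (π ⁻¹ᵁ V i)), fun i => sv_eq_coef_smul σ (hpe i)⟩
  -- relation between the coefficients
  have haa : ∀ i j, resf (π.preimage_mono (inf_le_left : V i ⊓ V j ≤ V i)) (a i) *
      π.app (V i ⊓ V j) (g i j) ^ (n + 1) =
      resf (π.preimage_mono (inf_le_right : V i ⊓ V j ≤ V j)) (a j) := by
    intro i j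
    apply ((hpe j) (π ⁻¹ᵁ (V i ⊓ V j)) (π.preimage_mono inf_le_right)).1
    change (resf _ (a i) * π.app (V i ⊓ V j) (g i j) ^ (n + 1)) • res _ _ (pw L' _ (e' j) (n + 1)) =
      resf _ (a j) • res _ _ (pw L' _ (e' j) (n + 1))
    rw [← res_smul, ← ha j, res_sv, mul_smul, res_pw, ← pw_smul, ← hg' i j, ← res_pw, ← res_smul, ← ha i, res_sv]
  -- the norm section
  have hcompat : TopCat.Presheaf.IsCompatible (modSheaf (CohB1.tensorPow L (k + 1))).1 V
      (fun i => N.norm (V i) (a i) • pw L (V i) (e i) (k + 1)) := by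
    intro i j
    change res _ inf_le_left (N.norm (V i) (a i) • pw L (V i) (e i) (k + 1)) =
      res _ inf_le_right (N.norm (V j) (a j) • pw L (V j) (e j) (k + 1))
    rw [res_smul, res_smul, res_pw, res_pw, hg i j, pw_smul, ← mul_smul, wnorm_resf π N, wnorm_resf π N,
      ← haa i j, map_mul, map_pow, N.norm_app, ← pow_mul, ← hk, mul_comm d (n + 1)]
  obtain ⟨τ₀, hτ₀, -⟩ := (modSheaf (CohB1.tensorPow L (k + 1))).existsUnique_gluing' V ⊤
    (fun i => homOfLE le_top) (fun y _ => Opens.mem_iSup.2 ⟨y, hyV y⟩) _ hcompat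
  have hsv : ∀ i, sv (secHom (CohB1.tensorPow L (k + 1)) τ₀) (V i) =
      N.norm (V i) (a i) • pw L (V i) (e i) (k + 1) := by
    intro i
    rw [sv_secHom]
    exact hτ₀ i
  have h1 : ∀ i, CohB1.genLocus _ (secHom (CohB1.tensorPow L (k + 1)) τ₀) ⊓ V i =
      Y.basicOpen (N.norm (V i) (a i)) := by
    intro i
    have h := genLocus_inf_eq_coef (secHom (CohB1.tensorPow L (k + 1)) τ₀) (hpt i)
    have h' : coef (hpt i) le_rfl (sv (secHom (CohB1.tensorPow L (k + 1)) τ₀) (V i)) = N.norm (V i) (a i) := by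
      symm
      apply coef_unique
      rw [res_self]
      exact (hsv i).symm
    rw [h'] at h
    exact h
  have h2 : ∀ i, CohB1.genLocus _ σ ⊓ π ⁻¹ᵁ V i = X.basicOpen (a i) := by
    intro i
    have h := genLocus_inf_eq_coef σ (hpe i)
    have h' : coef (hpe i) le_rfl (sv σ (π ⁻¹ᵁ V i)) = a i := by
      symm
      apply coef_unique
      rw [res_self]
      exact (ha i).symm
    rw [h'] at h
    exact h
  have hle : CohB1.genLocus _ (secHom (CohB1.tensorPow L (k + 1)) τ₀) ≤ V' := by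
    intro y' hy'
    have hy'' : y' ∈ CohB1.genLocus _ (secHom (CohB1.tensorPow L (k + 1)) τ₀) ⊓ V y' := ⟨hy', hyV y'⟩
    rw [h1] at hy''
    obtain ⟨x', rfl, hx'0⟩ := N.exists_pt y'
    have hx' := hx'0 _ _ hy''
    rw [← h2] at hx'
    exact hσV' hx'.1
  refine ⟨k, secHom _ τ₀, ?_, ?_⟩
  · have : y ∈ CohB1.genLocus _ (secHom (CohB1.tensorPow L (k + 1)) τ₀) ⊓ V y := by
      rw [h1]
      refine wmem_basicOpen_norm π N hcl (V y) (a y) y (hyV y) (fun x hx => ?_)
      rw [← h2]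
      refine ⟨hZσ hx, ?_⟩
      change π x ∈ V y
      rw [hx]
      exact hyV y
    exact this.1
  · have := isAffineOpen_inf_genLocus _ (isInvertible_tensorPow hL (k + 1))
      (secHom (CohB1.tensorPow L (k + 1)) τ₀) V' hV'
    rwa [inf_eq_right.2 hle] at this


section Construct

open Groth.Agent.Helper18Trace Groth.Agent.Helper18Norm

variable {Z S : Scheme.{u}} (g : Z ⟶ S) [IsFinite g]

theorem isFiniteAlg_directImage : IsFiniteAlg (RelSpec.QCAlg.directImage g) :=
  fun V hV => g.finite_app V hV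

theorem nontrivial_directImage [Surjective g] (W : S.Opens) (hW : W ≠ ⊥) :
    Nontrivial ((RelSpec.QCAlg.directImage g).presheaf.obj (op W)) := by
  obtain ⟨x, hx⟩ : ∃ x, x ∈ W := by
    by_contra hc
    apply hW
    ext x
    simp only [Opens.coe_bot, Set.mem_empty_iff_false, iff_false]
    exact fun hx => hc ⟨x, hx⟩
  obtain ⟨z, rfl⟩ := g.surjective x
  exact nontrivial_of_mem (X := Z) (W := g ⁻¹ᵁ W) hx

/-- **the mixed norm**: a finite surjective morphism onto a reduced Noetherian scheme, each point of which has an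
integrally closed local ring or a neighbourhood over which the direct image algebra is free, carries a
weak-membership norm -/
theorem exists_wnorm [IsReduced S] [IsLocallyNoetherian S] [NoetherianSpace S] [Surjective g]
    (hpt : ∀ x : S, NormalOrGood (RelSpec.QCAlg.directImage g) x) : ∃ D : ℕ, Nonempty (WNorm g D) := by
  have hfin := isFiniteAlg_directImage g
  obtain ⟨D, hD, St⟩ := exists_setup hfin (nontrivial_directImage g) hpt
  refine ⟨D, ⟨{ one_le := hD
                norm := fun U => St.nrmHom U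
                norm_res := fun i s => St.nrm_res (leOfHom i) s
                norm_app := fun U f => St.nrm_str U f
                exists_pt := ?_ }⟩⟩
  intro y
  let G : Set S := {x | ∃ (n : ℕ) (W : S.Opens), IsGoodN (RelSpec.QCAlg.directImage g) n W ∧ x ∈ W}
  have hGdense : Dense G := by
    rw [dense_iff_inter_open]
    intro U hU hUne
    have hne : (⟨U, hU⟩ : S.Opens) ≠ ⊥ := by
      intro hb
      obtain ⟨x, hx⟩ := hUne
      have : x ∈ (⟨U, hU⟩ : S.Opens) := hx
      rw [hb] at this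
      exact this
    obtain ⟨n, W, hW, hWU, hWne⟩ := St.dense _ hne
    obtain ⟨x, hx⟩ : ∃ x, x ∈ W := by
      by_contra hc
      apply hWne
      ext x
      simp only [Opens.coe_bot, Set.mem_empty_iff_false, iff_false]
      exact fun hx => hc ⟨x, hx⟩
    exact ⟨x, hWU hx, n, W, hW, hx⟩
  have hcl : IsClosed (g '' closure (g ⁻¹' G)) := g.isClosedMap _ isClosed_closure
  have hsub : G ⊆ g '' closure (g ⁻¹' G) := by
    intro x hx
    obtain ⟨z, rfl⟩ := g.surjective x
    exact ⟨z, subset_closure hx, rfl⟩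
  have hall : y ∈ g '' closure (g ⁻¹' G) := by
    have h1 : closure G ⊆ g '' closure (g ⁻¹' G) := closure_minimal hsub hcl
    rw [hGdense.closure_eq] at h1
    exact h1 (Set.mem_univ y)
  obtain ⟨z, hzC, rfl⟩ := hall
  refine ⟨z, rfl, fun U s hys => ?_⟩
  have hyU : g z ∈ U := S.basicOpen_le _ hys
  have hu : IsUnit (S.presheaf.germ U (g z) hyU (St.nrm U s)) := (S.mem_basicOpen _ _ hyU).1 hys
  rcases hpt (g z) with ⟨hdom, hic⟩ | ⟨n, W, hW, hyW⟩
  · haveI := hdom
    haveI := hic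
    obtain ⟨V, hVU, q₀, τ₀, hyV, heq₀, hτ₀⟩ := St.exists_inverse_of_normal hD hfin U s (g z) hyU hu
    obtain ⟨q, hq⟩ : ∃ q : Γ(Z, g ⁻¹ᵁ V), q = q₀ := ⟨_, rfl⟩
    obtain ⟨τ, hτdef⟩ : ∃ τ : Γ(Z, g ⁻¹ᵁ V), τ = τ₀ := ⟨_, rfl⟩
    have heq : (Z.presheaf.map (homOfLE (g.preimage_mono hVU)).op).hom s * q = 1 + τ := by
      rw [hq, hτdef]
      exact heq₀
    have hτ : ∀ (n : ℕ) (W : S.Opens), IsGoodN (RelSpec.QCAlg.directImage g) n W → ∀ h : W ≤ V,
        (Z.presheaf.map (homOfLE (g.preimage_mono h)).op).hom τ = 0 := by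
      intro n W hW h
      rw [hτdef]
      exact hτ₀ n W hW h
    by_contra hzs
    have hzV : z ∈ g ⁻¹ᵁ V := hyV
    have hns : ¬ IsUnit (Z.presheaf.germ (g ⁻¹ᵁ U) z hyU s) := fun h => hzs ((Z.mem_basicOpen s z hyU).2 h)
    have h1 : Z.presheaf.germ (g ⁻¹ᵁ V) z hzV ((Z.presheaf.map (homOfLE (g.preimage_mono hVU)).op).hom s) =
        Z.presheaf.germ (g ⁻¹ᵁ U) z hyU s :=
      TopCat.Presheaf.germ_res_apply Z.presheaf (homOfLE (g.preimage_mono hVU)) z hzV s
    have hnu : ¬ IsUnit (Z.presheaf.germ (g ⁻¹ᵁ V) z hzV (1 + τ)) := by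
      rw [← heq, map_mul, h1]
      exact fun h => hns (isUnit_of_mul_isUnit_left h)
    have hτu : IsUnit (Z.presheaf.germ (g ⁻¹ᵁ V) z hzV τ) := by
      have h2 : IsUnit (Z.presheaf.germ (g ⁻¹ᵁ V) z hzV (1 + τ) + -(Z.presheaf.germ (g ⁻¹ᵁ V) z hzV τ)) := by
        rw [map_add, map_one, add_neg_cancel_right]
        exact isUnit_one
      rcases IsLocalRing.isUnit_or_isUnit_of_isUnit_add h2 with h3 | h3
      · exact absurd h3 hnu
      · exact (IsUnit.neg_iff _).1 h3
    have hzO : z ∈ Z.basicOpen τ := (Z.mem_basicOpen τ z hzV).2 hτu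
    obtain ⟨z', hz'O, n', W', hW', hz'W'⟩ := mem_closure_iff.1 hzC _ (Z.basicOpen τ).isOpen hzO
    have hz'V : g z' ∈ V := Z.basicOpen_le τ hz'O
    obtain ⟨r, hrV, hz'r⟩ := hW'.1.exists_basicOpen_le (V := V) ⟨g z', hz'V⟩ hz'W'
    have h0 := hτ n' _ (hW'.basicOpen r) hrV
    have hz'r' : z' ∈ g ⁻¹ᵁ S.basicOpen r := hz'r
    have h4 : Z.presheaf.germ (g ⁻¹ᵁ S.basicOpen r) z' hz'r'
        ((Z.presheaf.map (homOfLE (g.preimage_mono hrV)).op).hom τ) =
        Z.presheaf.germ (g ⁻¹ᵁ V) z' hz'V τ :=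
      TopCat.Presheaf.germ_res_apply Z.presheaf (homOfLE (g.preimage_mono hrV)) z' hz'r' τ
    have h5 : IsUnit (Z.presheaf.germ (g ⁻¹ᵁ V) z' hz'V τ) := (Z.mem_basicOpen τ z' hz'V).1 hz'O
    rw [← h4, h0, map_zero] at h5
    exact not_isUnit_zero h5
  · obtain ⟨V, hVU, q₀, hyV, heq₀⟩ := St.exists_inverse_of_good hD U s (g z) hyU hu hW hyW
    obtain ⟨q, hq⟩ : ∃ q : Γ(Z, g ⁻¹ᵁ V), q = q₀ := ⟨_, rfl⟩
    have heq : (Z.presheaf.map (homOfLE (g.preimage_mono hVU)).op).hom s * q = 1 := by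
      rw [hq]
      exact heq₀
    have hzV : z ∈ g ⁻¹ᵁ V := hyV
    have h1 : Z.presheaf.germ (g ⁻¹ᵁ V) z hzV ((Z.presheaf.map (homOfLE (g.preimage_mono hVU)).op).hom s) =
        Z.presheaf.germ (g ⁻¹ᵁ U) z hyU s :=
      TopCat.Presheaf.germ_res_apply Z.presheaf (homOfLE (g.preimage_mono hVU)) z hzV s
    have h2 := congrArg (Z.presheaf.germ (g ⁻¹ᵁ V) z hzV) heq
    rw [map_mul, map_one, h1] at h2
    exact (Z.mem_basicOpen s z hyU).2 (IsUnit.of_mul_eq_one _ h2)

end Construct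

end Groth.Agent.Lib.Helper11.MixNorm
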