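import Mathlib
import Groth.Prelude
import Groth.Agent.Lib.Helper11BirD
import Groth.Agent.Lib.Helper11MixNorm4
set_option backward.isDefEq.respectTransparency.types false

/-!
# Determinant fractional ideals V : the norm from the fibre product to the finite birational model (helper11)

Namespace `Groth.Agent.Lib.Helper11.Bir`.  For a finite morphism `g : X' ⟶ X` onto a reduced Noetherian scheme, the
fibre product `PP` of the model `ZZ` with `X'` carries a weak-membership norm `wnorm` over `ZZ`.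
-/

set_option autoImplicit false
set_option linter.style.haveILetI false
universe u
open CategoryTheory CategoryTheory.Limits AlgebraicGeometry TopologicalSpace Opposite

namespace Groth.Agent.Lib.Helper11.Bir

open Groth.Agent.Lib.Helper11.MixNorm Groth.Agent.Helper18Trace Groth.Agent.Helper18Norm

section SumProd

/-- sums of products of an element of `A` and an element of `B` -/
def IsSumProd {A B C : Type*} [CommRing A] [CommRing B] [CommRing C] (φ : A →+* C) (ψ : B →+* C) (w : C) : Prop :=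
  ∃ (ι : Type) (_ : Fintype ι) (a : ι → A) (b : ι → B), w = ∑ i, φ (a i) * ψ (b i)

namespace IsSumProd
variable {A B C : Type*} [CommRing A] [CommRing B] [CommRing C] {φ : A →+* C} {ψ : B →+* C}

theorem zero : IsSumProd φ ψ 0 := ⟨Empty, inferInstance, Empty.elim, Empty.elim, by simp⟩
theorem one : IsSumProd φ ψ 1 := ⟨Unit, inferInstance, fun _ => 1, fun _ => 1, by simp⟩
theorem left (a : A) : IsSumProd φ ψ (φ a) := ⟨Unit, inferInstance, fun _ => a, fun _ => 1, by simp⟩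
theorem right (b : B) : IsSumProd φ ψ (ψ b) := ⟨Unit, inferInstance, fun _ => 1, fun _ => b, by simp⟩
theorem add {w w' : C} (h : IsSumProd φ ψ w) (h' : IsSumProd φ ψ w') : IsSumProd φ ψ (w + w') := by
  obtain ⟨ι, _, a, b, rfl⟩ := h
  obtain ⟨ι', _, a', b', rfl⟩ := h'
  exact ⟨ι ⊕ ι', inferInstance, Sum.elim a a', Sum.elim b b', by simp [Fintype.sum_sum_type]⟩
theorem neg {w : C} (h : IsSumProd φ ψ w) : IsSumProd φ ψ (-w) := by
  obtain ⟨ι, _, a, b, rfl⟩ := h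
  exact ⟨ι, inferInstance, fun i => -a i, b, by simp⟩
theorem mul {w w' : C} (h : IsSumProd φ ψ w) (h' : IsSumProd φ ψ w') : IsSumProd φ ψ (w * w') := by
  obtain ⟨ι, _, a, b, rfl⟩ := h
  obtain ⟨ι', _, a', b', rfl⟩ := h'
  refine ⟨ι × ι', inferInstance, fun i => a i.1 * a' i.2, fun i => b i.1 * b' i.2, ?_⟩
  rw [Finset.sum_mul_sum, Fintype.sum_prod_type]
  refine Finset.sum_congr rfl fun i _ => Finset.sum_congr rfl fun j _ => ?_
  simp only [map_mul]
  ring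

end IsSumProd

/-- every element of a pushout of commutative rings is a sum of products of elements of the two factors -/
theorem pushout_isSumProd {R A B : CommRingCat.{u}} (f : R ⟶ A) (g : R ⟶ B) (w : ↑(pushout f g)) :
    IsSumProd (pushout.inl f g).hom (pushout.inr f g).hom w := by
  let S' : Subring ↑(pushout f g) :=
    { carrier := {w | IsSumProd (pushout.inl f g).hom (pushout.inr f g).hom w}
      mul_mem' := fun h h' => h.mul h'
      one_mem' := IsSumProd.one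
      add_mem' := fun h h' => h.add h'
      zero_mem' := IsSumProd.zero
      neg_mem' := fun h => h.neg }
  let inl' : A ⟶ CommRingCat.of S' := CommRingCat.ofHom
    ((pushout.inl f g).hom.codRestrict S' fun a => IsSumProd.left a)
  let inr' : B ⟶ CommRingCat.of S' := CommRingCat.ofHom
    ((pushout.inr f g).hom.codRestrict S' fun b => IsSumProd.right b)
  have hw : f ≫ inl' = g ≫ inr' := by
    ext r
    exact ConcreteCategory.congr_hom (pushout.condition (f := f) (g := g)) r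
  let d : pushout f g ⟶ CommRingCat.of S' := pushout.desc inl' inr' hw
  let ι : CommRingCat.of S' ⟶ pushout f g := CommRingCat.ofHom S'.subtype
  have hid : d ≫ ι = 𝟙 _ := by
    apply pushout.hom_ext
    · rw [pushout.inl_desc_assoc, Category.comp_id]
      rfl
    · rw [pushout.inr_desc_assoc, Category.comp_id]
      rfl
  have := ConcreteCategory.congr_hom hid w
  have h2 : (d w : ↑(pushout f g)) = w := this
  rw [← h2]
  exact (d w).2

end SumProd

section PB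

variable {Z X X' : Scheme.{u}} (h : Z ⟶ X) (g : X' ⟶ X)

theorem preimage_fst_eq (T : X.Opens) :
    pullback.fst h g ⁻¹ᵁ (h ⁻¹ᵁ T) = pullback.snd h g ⁻¹ᵁ (g ⁻¹ᵁ T) := by
  rw [← Scheme.Hom.comp_preimage, ← Scheme.Hom.comp_preimage, pullback.condition]

/-- pull-back of functions along the second projection, landing over the preimage under the first -/
noncomputable def pS (T : X.Opens) :
    Γ(X', g ⁻¹ᵁ T) →+* Γ(pullback h g, pullback.fst h g ⁻¹ᵁ (h ⁻¹ᵁ T)) :=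
  ((pullback.snd h g).appLE (g ⁻¹ᵁ T) (pullback.fst h g ⁻¹ᵁ (h ⁻¹ᵁ T))
    (le_of_eq (preimage_fst_eq h g T))).hom

theorem pS_app (T : X.Opens) (a : Γ(X, T)) :
    pS h g T (g.app T a) = (pullback.fst h g).app (h ⁻¹ᵁ T) (h.app T a) := by
  have h1 : g.app T ≫ (pullback.snd h g).appLE (g ⁻¹ᵁ T) (pullback.fst h g ⁻¹ᵁ (h ⁻¹ᵁ T))
      (le_of_eq (preimage_fst_eq h g T)) =
      h.app T ≫ (pullback.fst h g).app (h ⁻¹ᵁ T) := by
    rw [← Scheme.Hom.comp_appLE, ← Scheme.Hom.comp_app]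
    rw [Scheme.Hom.app_eq_appLE]
    congr 1
    exact pullback.condition.symm
  exact ConcreteCategory.congr_hom h1 a

theorem pS_res {T T' : X.Opens} (hle : T' ≤ T) (b : Γ(X', g ⁻¹ᵁ T)) :
    rX ((pullback.fst h g).preimage_mono (h.preimage_mono hle)) (pS h g T b) =
      pS h g T' (rX (g.preimage_mono hle) b) := by
  have h1 : (pullback.snd h g).appLE (g ⁻¹ᵁ T) (pullback.fst h g ⁻¹ᵁ (h ⁻¹ᵁ T))
      (le_of_eq (preimage_fst_eq h g T)) ≫ (pullback h g).presheaf.map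
        (homOfLE ((pullback.fst h g).preimage_mono (h.preimage_mono hle))).op =
      X'.presheaf.map (homOfLE (g.preimage_mono hle)).op ≫
        (pullback.snd h g).appLE (g ⁻¹ᵁ T') (pullback.fst h g ⁻¹ᵁ (h ⁻¹ᵁ T'))
          (le_of_eq (preimage_fst_eq h g T')) := by
    rw [Scheme.Hom.appLE_map, Scheme.Hom.map_appLE]
  exact ConcreteCategory.congr_hom h1 b

theorem bijective_rX_of_eq {Y : Scheme.{u}} {A B : Y.Opens} (e : A = B) (hle : A ≤ B) :
    Function.Bijective (rX hle) := by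
  subst e
  have : (rX hle : Γ(Y, A) → Γ(Y, A)) = id := by
    funext a
    exact rX_self a
  rw [this]
  exact Function.bijective_id

/-- over an open above which `h` is an isomorphism the second projection is an isomorphism -/
theorem isIso_snd_restrict (U : X.Opens) [IsIso (h ∣_ U)] : IsIso (pullback.snd h g ∣_ (g ⁻¹ᵁ U)) := by
  have H : IsPullback (pullback.fst h g) (pullback.snd h g) h g := IsPullback.of_hasPullback h g
  have hUY : pullback.snd h g ⁻¹ᵁ (g ⁻¹ᵁ U) =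
      pullback.fst h g ⁻¹ᵁ (h ⁻¹ᵁ U) ⊓ pullback.snd h g ⁻¹ᵁ (g ⁻¹ᵁ U) := by
    rw [preimage_fst_eq, inf_idem]
  have H2 := Scheme.Hom.isPullback_resLE H (US := U) (UT := g ⁻¹ᵁ U) (UX := h ⁻¹ᵁ U) le_rfl le_rfl hUY
  simp only [Scheme.Hom.resLE_eq_morphismRestrict] at H2
  exact H2.isIso_snd_of_isIso

theorem pS_bijective (U : X.Opens) [IsIso (h ∣_ U)] {T : X.Opens} (hT : T ≤ U) :
    Function.Bijective (pS h g T) := by
  have h1 := Groth.Agent.Lib.Helper23.FinPic.bijective_app_of_le (pullback.snd h g) (g ⁻¹ᵁ U)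
    (isIso_snd_restrict h g U) (g ⁻¹ᵁ T) (g.preimage_mono hT)
  have h2 := bijective_rX_of_eq (preimage_fst_eq h g T) (le_of_eq (preimage_fst_eq h g T))
  exact h2.comp h1

/-- over affine opens the functions on the fibre product are sums of products of functions on the factors -/
theorem isSumProd_pullback {V : X.Opens} (hV : IsAffineOpen V) (hhV : IsAffineOpen (h ⁻¹ᵁ V))
    (hgV : IsAffineOpen (g ⁻¹ᵁ V)) (y : Γ(pullback h g, pullback.fst h g ⁻¹ᵁ (h ⁻¹ᵁ V))) :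
    IsSumProd ((pullback.fst h g).app (h ⁻¹ᵁ V)).hom (pS h g V) y := by
  have H : IsPullback (pullback.fst h g) (pullback.snd h g) h g := IsPullback.of_hasPullback h g
  have hUY : pullback.fst h g ⁻¹ᵁ (h ⁻¹ᵁ V) =
      pullback.fst h g ⁻¹ᵁ (h ⁻¹ᵁ V) ⊓ pullback.snd h g ⁻¹ᵁ (g ⁻¹ᵁ V) := by
    rw [← preimage_fst_eq, inf_idem]
  have hiso := isIso_pushoutSection_of_isAffineOpen H (US := V) (UT := g ⁻¹ᵁ V) (UX := h ⁻¹ᵁ V)
    le_rfl le_rfl hUY hV hgV hhV
  obtain ⟨w, rfl⟩ := (ConcreteCategory.bijective_of_isIso (pushoutSection H (US := V) (UT := g ⁻¹ᵁ V)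
    (UX := h ⁻¹ᵁ V) le_rfl le_rfl hUY)).2 y
  obtain ⟨ι, _, a, b, rfl⟩ := pushout_isSumProd _ _ w
  refine ⟨ι, inferInstance, a, b, ?_⟩
  rw [map_sum]
  refine Finset.sum_congr rfl fun i _ => ?_
  rw [map_mul]
  congr 1
  · have : pushout.inl _ _ ≫ pushoutSection H (US := V) (UT := g ⁻¹ᵁ V) (UX := h ⁻¹ᵁ V) le_rfl le_rfl hUY =
        (pullback.fst h g).app (h ⁻¹ᵁ V) := by
      rw [Scheme.Hom.app_eq_appLE]
      exact pushout.inl_desc _ _ _
    exact ConcreteCategory.congr_hom this (a i)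
  · have : pushout.inr _ _ ≫ pushoutSection H (US := V) (UT := g ⁻¹ᵁ V) (UX := h ⁻¹ᵁ V) le_rfl le_rfl hUY =
        (pullback.snd h g).appLE (g ⁻¹ᵁ V) (pullback.fst h g ⁻¹ᵁ (h ⁻¹ᵁ V))
          (le_of_eq (preimage_fst_eq h g V)) :=
      pushout.inr_desc _ _ _
    exact ConcreteCategory.congr_hom this (b i)

end PB

section Norm

variable {X X' : Scheme.{u}} (g : X' ⟶ X) [IsFinite g] (D : ℕ) [IsLocallyNoetherian X] [NoetherianSpace X]
  [IsReduced X]

attribute [local instance] algRU algB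

/-- the model attached to a finite morphism -/
noncomputable abbrev ZZ : Scheme.{u} := Zs (RelSpec.QCAlg.directImage g) D (isFiniteAlg_directImage g)

/-- its structure morphism -/
noncomputable abbrev hh : ZZ g D ⟶ X := Zh (RelSpec.QCAlg.directImage g) D (isFiniteAlg_directImage g)

/-- the fibre product of the model and the source -/
noncomputable abbrev PP : Scheme.{u} := pullback (hh g D) g

/-- the projection to the model -/
noncomputable abbrev qq : PP g D ⟶ ZZ g D := pullback.fst (hh g D) g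

/-- the projection to the source -/
noncomputable abbrev pp : PP g D ⟶ X' := pullback.snd (hh g D) g

variable (S : USetup (RelSpec.QCAlg.directImage g) D)

/-- over opens of the good locus the functions on the fibre product are the functions on the source -/
noncomputable def pSe {T : X.Opens} (hTU : T ≤ goodLocus (RelSpec.QCAlg.directImage g)) :
    Γ(X', g ⁻¹ᵁ T) ≃+* Γ(PP g D, qq g D ⁻¹ᵁ (hh g D ⁻¹ᵁ T)) :=
  haveI := isIso_Zh_goodLocus (RelSpec.QCAlg.directImage g) D (isFiniteAlg_directImage g) S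
  RingEquiv.ofBijective (pS (hh g D) g T)
    (pS_bijective (hh g D) g (goodLocus (RelSpec.QCAlg.directImage g)) hTU)

theorem pSe_apply {T : X.Opens} (hTU : T ≤ goodLocus (RelSpec.QCAlg.directImage g)) (b : Γ(X', g ⁻¹ᵁ T)) :
    pSe g D S hTU b = pS (hh g D) g T b := rfl

/-- the norm over opens of the good locus, transported to the model -/
noncomputable def nT {T : X.Opens} (hTU : T ≤ goodLocus (RelSpec.QCAlg.directImage g)) :
    Γ(PP g D, qq g D ⁻¹ᵁ (hh g D ⁻¹ᵁ T)) →* Γ(ZZ g D, hh g D ⁻¹ᵁ T) :=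
  (((hh g D).app T).hom : Γ(X, T) →* Γ(ZZ g D, hh g D ⁻¹ᵁ T)).comp
    ((S.nrmHom T hTU).comp ((pSe g D S hTU).symm : Γ(PP g D, qq g D ⁻¹ᵁ (hh g D ⁻¹ᵁ T)) →* Γ(X', g ⁻¹ᵁ T)))

theorem nT_apply {T : X.Opens} (hTU : T ≤ goodLocus (RelSpec.QCAlg.directImage g))
    (y : Γ(PP g D, qq g D ⁻¹ᵁ (hh g D ⁻¹ᵁ T))) :
    nT g D S hTU y = (hh g D).app T (S.nrm T hTU ((pSe g D S hTU).symm y)) := rfl

theorem nT_pS {T : X.Opens} (hTU : T ≤ goodLocus (RelSpec.QCAlg.directImage g)) (b : Γ(X', g ⁻¹ᵁ T)) :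
    nT g D S hTU (pS (hh g D) g T b) = (hh g D).app T (S.nrm T hTU b) := by
  rw [nT_apply, ← pSe_apply g D S hTU, RingEquiv.symm_apply_apply]

theorem nT_res {T T' : X.Opens} (hTU : T ≤ goodLocus (RelSpec.QCAlg.directImage g)) (hle : T' ≤ T)
    (y : Γ(PP g D, qq g D ⁻¹ᵁ (hh g D ⁻¹ᵁ T))) :
    rX ((hh g D).preimage_mono hle) (nT g D S hTU y) =
      nT g D S (hle.trans hTU) (rX ((qq g D).preimage_mono ((hh g D).preimage_mono hle)) y) := by
  obtain ⟨b, rfl⟩ := (pSe g D S hTU).surjective y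
  rw [pSe_apply, pS_res (hh g D) g hle, nT_pS, nT_pS, app_rX (hh g D) hle, S.nrm_res hTU hle]
  rfl

theorem nT_app {T : X.Opens} (hTU : T ≤ goodLocus (RelSpec.QCAlg.directImage g))
    (f : Γ(ZZ g D, hh g D ⁻¹ᵁ T)) :
    nT g D S hTU ((qq g D).app (hh g D ⁻¹ᵁ T) f) = f ^ D := by
  obtain ⟨f', rfl⟩ := (bijective_Zh_app (RelSpec.QCAlg.directImage g) D (isFiniteAlg_directImage g) S hTU).2 f
  rw [← pS_app, nT_pS]
  have := S.nrm_str T hTU f'
  rw [← map_pow]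
  exact congrArg _ this

/-- `t` is a norm of `s` over the open `O` of the model -/
def IsZN (O : (ZZ g D).Opens) (s : Γ(PP g D, qq g D ⁻¹ᵁ O)) (t : Γ(ZZ g D, O)) : Prop :=
  ∀ (T : X.Opens) (hTU : T ≤ goodLocus (RelSpec.QCAlg.directImage g)) (hTO : hh g D ⁻¹ᵁ T ≤ O),
    rX hTO t = nT g D S hTU (rX ((qq g D).preimage_mono hTO) s)

variable {g D S}

theorem exists_mem_of_ne_bot {Y : Scheme.{u}} {O : Y.Opens} (hne : O ≠ ⊥) : ∃ y, y ∈ O := by
  by_contra hc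
  apply hne
  ext x
  simp only [Opens.coe_bot, Set.mem_empty_iff_false, iff_false]
  exact fun hx => hc ⟨x, hx⟩

/-- a function on the model is determined by its restriction to the preimage of the good locus -/
theorem eq_of_rX_eq_ZZ (S : USetup (RelSpec.QCAlg.directImage g) D) {O : (ZZ g D).Opens} (t₁ t₂ : Γ(ZZ g D, O))
    (W₁ : (ZZ g D).Opens) (hW₁ : W₁ ≤ O)
    (hW₁' : O ⊓ hh g D ⁻¹ᵁ goodLocus (RelSpec.QCAlg.directImage g) ≤ W₁)
    (heq : rX hW₁ t₁ = rX hW₁ t₂) : t₁ = t₂ := by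
  rw [← sub_eq_zero]
  refine eq_zero_of_dense _ (hh g D ⁻¹ᵁ goodLocus (RelSpec.QCAlg.directImage g)) (fun O' _ hne => ?_)
    (fun y hyO hyU => ?_)
  · obtain ⟨y, hy⟩ := exists_mem_of_ne_bot hne
    obtain ⟨x, hxU, hxO⟩ := (dense_preimage_goodLocus (RelSpec.QCAlg.directImage g) D
      (isFiniteAlg_directImage g) S).exists_mem_open O'.isOpen ⟨y, hy⟩
    exact ⟨x, hxO, hxU⟩
  · exact ⟨W₁, hW₁, hW₁' ⟨hyO, hyU⟩, by rw [map_sub, heq, sub_self]⟩

theorem IsZN.unique {O : (ZZ g D).Opens} {s : Γ(PP g D, qq g D ⁻¹ᵁ O)} {t₁ t₂ : Γ(ZZ g D, O)}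
    (h₁ : IsZN g D S O s t₁) (h₂ : IsZN g D S O s t₂) : t₁ = t₂ := by
  haveI := isIso_Zh_goodLocus (RelSpec.QCAlg.directImage g) D (isFiniteAlg_directImage g) S
  obtain ⟨T, hTU, hT⟩ := exists_opens_preimage_eq (hh g D) (goodLocus (RelSpec.QCAlg.directImage g)) O
  have hTO : hh g D ⁻¹ᵁ T ≤ O := by
    rw [hT]
    exact inf_le_left
  refine eq_of_rX_eq_ZZ S t₁ t₂ (hh g D ⁻¹ᵁ T) hTO (le_of_eq hT.symm) ?_
  rw [h₁ T hTU hTO, h₂ T hTU hTO]

theorem IsZN.res {O O' : (ZZ g D).Opens} {s : Γ(PP g D, qq g D ⁻¹ᵁ O)} {t : Γ(ZZ g D, O)}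
    (h : IsZN g D S O s t) (hle : O' ≤ O) :
    IsZN g D S O' (rX ((qq g D).preimage_mono hle) s) (rX hle t) := by
  intro T hTU hTO
  rw [rX_rX, rX_rX]
  exact h T hTU (hTO.trans hle)

theorem IsZN.one (O : (ZZ g D).Opens) : IsZN g D S O 1 1 := by
  intro T hTU hTO
  rw [map_one, map_one, map_one]

theorem IsZN.mul {O : (ZZ g D).Opens} {s s' : Γ(PP g D, qq g D ⁻¹ᵁ O)} {t t' : Γ(ZZ g D, O)}
    (h : IsZN g D S O s t) (h' : IsZN g D S O s' t') : IsZN g D S O (s * s') (t * t') := by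
  intro T hTU hTO
  rw [map_mul, map_mul, map_mul, h T hTU hTO, h' T hTU hTO]

theorem isZN_app (O : (ZZ g D).Opens) (f : Γ(ZZ g D, O)) : IsZN g D S O ((qq g D).app O f) (f ^ D) := by
  intro T hTU hTO
  rw [app_rX (qq g D) hTO, nT_app, map_pow]

/-- norms glue -/
theorem exists_isZN_of_locally (O : (ZZ g D).Opens) (s : Γ(PP g D, qq g D ⁻¹ᵁ O))
    (hloc : ∀ z ∈ O, ∃ (O' : (ZZ g D).Opens) (hO' : O' ≤ O) (t' : Γ(ZZ g D, O')), z ∈ O' ∧
      IsZN g D S O' (rX ((qq g D).preimage_mono hO') s) t') : ∃ t : Γ(ZZ g D, O), IsZN g D S O s t := by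
  haveI := isIso_Zh_goodLocus (RelSpec.QCAlg.directImage g) D (isFiniteAlg_directImage g) S
  have hloc' : ∀ z : O, ∃ (O' : (ZZ g D).Opens) (hO' : O' ≤ O) (t' : Γ(ZZ g D, O')), z.1 ∈ O' ∧
      IsZN g D S O' (rX ((qq g D).preimage_mono hO') s) t' := fun z => hloc z.1 z.2
  choose O' hO' t' hzO' ht' using hloc'
  have hcompat : TopCat.Presheaf.IsCompatible (ZZ g D).sheaf.1 O' t' := by
    intro z w
    change rX (inf_le_left : O' z ⊓ O' w ≤ O' z) (t' z) = rX (inf_le_right : O' z ⊓ O' w ≤ O' w) (t' w)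
    have h1 := (ht' z).res (inf_le_left : O' z ⊓ O' w ≤ O' z)
    have h2 := (ht' w).res (inf_le_right : O' z ⊓ O' w ≤ O' w)
    rw [rX_rX] at h1 h2
    exact h1.unique h2
  obtain ⟨t, ht, -⟩ := (ZZ g D).sheaf.existsUnique_gluing' O' O (fun z => homOfLE (hO' z))
    (fun z hz => Opens.mem_iSup.2 ⟨⟨z, hz⟩, hzO' _⟩) t' hcompat
  have ht2 : ∀ z : O, rX (hO' z) t = t' z := ht
  refine ⟨t, fun T hTU hTO => ?_⟩
  have key : ∀ z : O, ∃ Tz : X.Opens, Tz ≤ T ∧ hh g D ⁻¹ᵁ Tz = O' z ⊓ hh g D ⁻¹ᵁ T := by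
    intro z
    obtain ⟨T₁, hT₁U, hT₁⟩ := exists_opens_preimage_eq (hh g D) (goodLocus (RelSpec.QCAlg.directImage g))
      (O' z ⊓ hh g D ⁻¹ᵁ T)
    refine ⟨T₁ ⊓ T, inf_le_right, ?_⟩
    rw [Scheme.Hom.preimage_inf, hT₁]
    ext x
    constructor
    · rintro ⟨⟨hx1, -⟩, -⟩
      exact hx1
    · intro hx
      exact ⟨⟨hx, hTU hx.2⟩, hx.2⟩
  choose Tz hTzT hTz using key
  refine TopCat.Sheaf.eq_of_locally_eq' (ZZ g D).sheaf (fun z : O => hh g D ⁻¹ᵁ Tz z) (hh g D ⁻¹ᵁ T)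
    (fun z => homOfLE ((hh g D).preimage_mono (hTzT z))) ?_ _ _ ?_
  · intro x hx
    refine Opens.mem_iSup.2 ⟨⟨x, hTO hx⟩, ?_⟩
    rw [hTz]
    exact ⟨hzO' _, hx⟩
  · intro z
    change rX _ (rX _ t) = rX _ (nT g D S hTU _)
    have hle1 : hh g D ⁻¹ᵁ Tz z ≤ O' z := by
      rw [hTz]
      exact inf_le_left
    rw [rX_rX, nT_res g D S hTU (hTzT z), rX_rX]
    have h3 := ht' z (Tz z) ((hTzT z).trans hTU) hle1
    rw [← ht2 z, rX_rX, rX_rX] at h3
    exact h3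

variable (g D S) in
/-- evaluation of the functions on the fibre product over an affine open as sections over the good part -/
noncomputable def evV (V : X.Opens) : Γ(PP g D, qq g D ⁻¹ᵁ (hh g D ⁻¹ᵁ V)) →+*
    (RelSpec.QCAlg.directImage g).presheaf.obj (op (V ⊓ goodLocus (RelSpec.QCAlg.directImage g))) :=
  ((pSe g D S (inf_le_right : V ⊓ goodLocus (RelSpec.QCAlg.directImage g) ≤ _)).symm :
      Γ(PP g D, qq g D ⁻¹ᵁ (hh g D ⁻¹ᵁ (V ⊓ goodLocus (RelSpec.QCAlg.directImage g)))) →+*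
        Γ(X', g ⁻¹ᵁ (V ⊓ goodLocus (RelSpec.QCAlg.directImage g)))).comp
    (rX ((qq g D).preimage_mono ((hh g D).preimage_mono inf_le_left)))

theorem pS_evV (V : X.Opens) (y : Γ(PP g D, qq g D ⁻¹ᵁ (hh g D ⁻¹ᵁ V))) :
    pS (hh g D) g (V ⊓ goodLocus (RelSpec.QCAlg.directImage g)) (evV g D S V y) =
      rX ((qq g D).preimage_mono ((hh g D).preimage_mono inf_le_left)) y := by
  change pSe g D S inf_le_right ((pSe g D S inf_le_right).symm _) = _
  rw [RingEquiv.apply_symm_apply]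

theorem evV_app {V : X.Opens} (hV : IsAffineOpen V) (f : Γ(ZZ g D, hh g D ⁻¹ᵁ V)) :
    evV g D S V ((qq g D).app (hh g D ⁻¹ᵁ V) f) =
      ((RelSpec.QCAlg.directImage g).str.app (op (V ⊓ goodLocus (RelSpec.QCAlg.directImage g)))).hom
        (gam (RelSpec.QCAlg.directImage g) D (isFiniteAlg_directImage g) hV f :
          Γ(X, V ⊓ goodLocus (RelSpec.QCAlg.directImage g))) := by
  apply (pSe g D S (inf_le_right : V ⊓ goodLocus (RelSpec.QCAlg.directImage g) ≤ _)).injective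
  rw [pSe_apply, pSe_apply, pS_evV, app_rX (qq g D) ((hh g D).preimage_mono inf_le_left)]
  have h1 := gam_compat (RelSpec.QCAlg.directImage g) D (isFiniteAlg_directImage g) hV f
    (T := V ⊓ goodLocus (RelSpec.QCAlg.directImage g)) le_rfl
  rw [rX_self] at h1
  rw [h1]
  exact (pS_app (hh g D) g _ _).symm

theorem evV_pS (V : X.Opens) (b : Γ(X', g ⁻¹ᵁ V)) :
    evV g D S V (pS (hh g D) g V b) = rA (RelSpec.QCAlg.directImage g) inf_le_left b := by
  apply (pSe g D S (inf_le_right : V ⊓ goodLocus (RelSpec.QCAlg.directImage g) ≤ _)).injective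
  rw [pSe_apply, pSe_apply, pS_evV, pS_res (hh g D) g inf_le_left]
  rfl

theorem evV_inSpan {V : X.Opens} (hV : IsAffineOpen V) (y : Γ(PP g D, qq g D ⁻¹ᵁ (hh g D ⁻¹ᵁ V))) :
    InSpan (cV (RelSpec.QCAlg.directImage g) D V : Set Γ(X, V ⊓ goodLocus (RelSpec.QCAlg.directImage g)))
      (rA (RelSpec.QCAlg.directImage g) (inf_le_left : V ⊓ goodLocus (RelSpec.QCAlg.directImage g) ≤ V))
      (evV g D S V y) := by
  have hV' : IsAffineOpen (hh g D ⁻¹ᵁ V) := hV.preimage (hh g D)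
  have hgV : IsAffineOpen (g ⁻¹ᵁ V) := hV.preimage g
  obtain ⟨ι, _, a, b, rfl⟩ := isSumProd_pullback (hh g D) g hV hV' hgV y
  refine ⟨ι, inferInstance,
    fun i => (gam (RelSpec.QCAlg.directImage g) D (isFiniteAlg_directImage g) hV (a i) :
      Γ(X, V ⊓ goodLocus (RelSpec.QCAlg.directImage g))), b, fun i => Subtype.property _, ?_⟩
  rw [map_sum]
  refine Finset.sum_congr rfl fun i _ => ?_
  rw [map_mul, Algebra.smul_def]
  congr 1
  · exact evV_app hV (a i)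
  · exact evV_pS V (b i)

theorem nrm_evV_mem {V : X.Opens} (hV : IsAffineOpen V) (y : Γ(PP g D, qq g D ⁻¹ᵁ (hh g D ⁻¹ᵁ V))) :
    S.nrmHom (V ⊓ goodLocus (RelSpec.QCAlg.directImage g)) inf_le_right (evV g D S V y) ∈
      cV (RelSpec.QCAlg.directImage g) D V :=
  (keyHyp S hV).norm_mem_stab _ (evV_inSpan hV y)

variable (g D S) in
/-- the norm over the preimage of an affine open -/
noncomputable def t0 {V : X.Opens} (hV : IsAffineOpen V) (y : Γ(PP g D, qq g D ⁻¹ᵁ (hh g D ⁻¹ᵁ V))) :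
    Γ(ZZ g D, hh g D ⁻¹ᵁ V) :=
  (gam (RelSpec.QCAlg.directImage g) D (isFiniteAlg_directImage g) hV).symm
    ⟨S.nrmHom (V ⊓ goodLocus (RelSpec.QCAlg.directImage g)) inf_le_right (evV g D S V y), nrm_evV_mem hV y⟩

theorem gam_t0 {V : X.Opens} (hV : IsAffineOpen V) (y : Γ(PP g D, qq g D ⁻¹ᵁ (hh g D ⁻¹ᵁ V))) :
    (gam (RelSpec.QCAlg.directImage g) D (isFiniteAlg_directImage g) hV (t0 g D S hV y) :
      Γ(X, V ⊓ goodLocus (RelSpec.QCAlg.directImage g))) =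
      S.nrm (V ⊓ goodLocus (RelSpec.QCAlg.directImage g)) inf_le_right (evV g D S V y) := by
  unfold t0
  rw [RingEquiv.apply_symm_apply]
  rfl

theorem isZN_t0 {V : X.Opens} (hV : IsAffineOpen V) (y : Γ(PP g D, qq g D ⁻¹ᵁ (hh g D ⁻¹ᵁ V))) :
    IsZN g D S (hh g D ⁻¹ᵁ V) y (t0 g D S hV y) := by
  intro T hTU hTO
  have hTV : T ≤ V := by
    intro x hx
    obtain ⟨z, rfl⟩ := surjective_Zh (RelSpec.QCAlg.directImage g) D (isFiniteAlg_directImage g) S x
    exact hTO hx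
  have hTVU : T ≤ V ⊓ goodLocus (RelSpec.QCAlg.directImage g) := le_inf hTV hTU
  have h1 := gam_compat (RelSpec.QCAlg.directImage g) D (isFiniteAlg_directImage g) hV (t0 g D S hV y) hTVU
  rw [gam_t0, S.nrm_res inf_le_right hTVU] at h1
  refine h1.trans ?_
  rw [nT_apply]
  congr 2
  apply (pSe g D S hTU).injective
  rw [RingEquiv.apply_symm_apply, pSe_apply]
  have h2 := pS_res (hh g D) g hTVU (evV g D S V y)
  rw [pS_evV, rX_rX] at h2
  exact h2.symm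

theorem exists_pow_mul_eq_rX {Y : Scheme.{u}} {W W' : Y.Opens} (hW : IsAffineOpen W) (ℓ : Γ(Y, W))
    (hW' : W' = Y.basicOpen ℓ) (hle : W' ≤ W) (a' : Γ(Y, W')) :
    ∃ (k : ℕ) (a : Γ(Y, W)), rX hle ℓ ^ k * a' = rX hle a := by
  subst hW'
  haveI := hW.isLocalization_basicOpen ℓ
  obtain ⟨⟨a, ⟨_, k, rfl⟩⟩, h⟩ := IsLocalization.surj (Submonoid.powers ℓ) a'
  refine ⟨k, a, ?_⟩
  have h' : a' * algebraMap Γ(Y, W) Γ(Y, Y.basicOpen ℓ) (ℓ ^ k) = algebraMap Γ(Y, W) Γ(Y, Y.basicOpen ℓ) a := h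
  rw [map_pow, mul_comm] at h'
  exact h'

/-- local existence of the norm -/
theorem exists_isZN_at (O : (ZZ g D).Opens) (s : Γ(PP g D, qq g D ⁻¹ᵁ O)) (z : ZZ g D) (hz : z ∈ O) :
    ∃ (O' : (ZZ g D).Opens) (hO' : O' ≤ O) (t' : Γ(ZZ g D, O')), z ∈ O' ∧
      IsZN g D S O' (rX ((qq g D).preimage_mono hO') s) t' := by
  obtain ⟨_, ⟨V, hV, rfl⟩, hzV, -⟩ := X.isBasis_affineOpens.exists_subset_of_mem_open
    (Set.mem_univ (hh g D z)) isOpen_univ
  have hV' : IsAffineOpen (hh g D ⁻¹ᵁ V) := hV.preimage (hh g D)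
  obtain ⟨f, hfO, hzf⟩ := hV'.exists_basicOpen_le (V := O) ⟨z, hz⟩ hzV
  have hfV : (ZZ g D).basicOpen f ≤ hh g D ⁻¹ᵁ V := (ZZ g D).basicOpen_le f
  have hPV : IsAffineOpen (qq g D ⁻¹ᵁ (hh g D ⁻¹ᵁ V)) := hV'.preimage (qq g D)
  have hpre : qq g D ⁻¹ᵁ (ZZ g D).basicOpen f = (PP g D).basicOpen ((qq g D).app (hh g D ⁻¹ᵁ V) f) :=
    Scheme.preimage_basicOpen (qq g D) f
  obtain ⟨k, b₀, hb₀⟩ := exists_pow_mul_eq_rX hPV ((qq g D).app (hh g D ⁻¹ᵁ V) f) hpre
    ((qq g D).preimage_mono hfV) (rX ((qq g D).preimage_mono hfO) s)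
  obtain ⟨u, hu⟩ := isUnit_rX_of_le_basicOpen f hfV le_rfl
  have A1 := (isZN_t0 (S := S) hV b₀).res hfV
  have A2 := isZN_app (S := S) ((ZZ g D).basicOpen f) ((↑u⁻¹ : Γ(ZZ g D, (ZZ g D).basicOpen f)) ^ k)
  have A3 := A1.mul A2
  have heq : rX ((qq g D).preimage_mono hfV) b₀ *
      (qq g D).app ((ZZ g D).basicOpen f) ((↑u⁻¹ : Γ(ZZ g D, (ZZ g D).basicOpen f)) ^ k) =
      rX ((qq g D).preimage_mono hfO) s := by
    rw [← hb₀, app_rX (qq g D) hfV, ← hu, mul_comm, ← mul_assoc, ← map_pow, ← map_mul, ← mul_pow,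
      Units.inv_mul, one_pow, map_one, one_mul]
  rw [heq] at A3
  exact ⟨(ZZ g D).basicOpen f, hfO, _, hzf, A3⟩

theorem exists_isZN (O : (ZZ g D).Opens) (s : Γ(PP g D, qq g D ⁻¹ᵁ O)) : ∃ t : Γ(ZZ g D, O), IsZN g D S O s t :=
  exists_isZN_of_locally O s (exists_isZN_at O s)

variable (g D S) in
/-- the norm from the fibre product to the model -/
noncomputable def zNorm (O : (ZZ g D).Opens) : Γ(PP g D, qq g D ⁻¹ᵁ O) →* Γ(ZZ g D, O) where
  toFun s := (exists_isZN (S := S) O s).choose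
  map_one' := (exists_isZN (S := S) O 1).choose_spec.unique (IsZN.one O)
  map_mul' s s' := (exists_isZN (S := S) O (s * s')).choose_spec.unique
    ((exists_isZN (S := S) O s).choose_spec.mul (exists_isZN (S := S) O s').choose_spec)

theorem isZN_zNorm (O : (ZZ g D).Opens) (s : Γ(PP g D, qq g D ⁻¹ᵁ O)) : IsZN g D S O s (zNorm g D S O s) :=
  (exists_isZN (S := S) O s).choose_spec

theorem zNorm_res {O O' : (ZZ g D).Opens} (hle : O' ≤ O) (s : Γ(PP g D, qq g D ⁻¹ᵁ O)) :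
    rX hle (zNorm g D S O s) = zNorm g D S O' (rX ((qq g D).preimage_mono hle) s) :=
  ((isZN_zNorm O s).res hle).unique (isZN_zNorm O' _)

theorem zNorm_app (O : (ZZ g D).Opens) (f : Γ(ZZ g D, O)) : zNorm g D S O ((qq g D).app O f) = f ^ D :=
  (isZN_zNorm O _).unique (isZN_app O f)

theorem zNorm_t0 {V : X.Opens} (hV : IsAffineOpen V) (y : Γ(PP g D, qq g D ⁻¹ᵁ (hh g D ⁻¹ᵁ V))) :
    zNorm g D S (hh g D ⁻¹ᵁ V) y = t0 g D S hV y :=
  (isZN_zNorm _ y).unique (isZN_t0 hV y)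

theorem notMem_primeIdealOf_of_mem_basicOpen {Y : Scheme.{u}} {V : Y.Opens} (hV : IsAffineOpen V) {x : Y}
    (hxV : x ∈ V) {f : Γ(Y, V)} (hx : x ∈ Y.basicOpen f) : f ∉ (hV.primeIdealOf ⟨x, hxV⟩).asIdeal := by
  have h2 : hV.fromSpec (hV.primeIdealOf ⟨x, hxV⟩) ∈ Y.basicOpen f := by
    rw [hV.fromSpec_primeIdealOf ⟨x, hxV⟩]
    exact hx
  have h1 : (hV.primeIdealOf ⟨x, hxV⟩) ∈ hV.fromSpec ⁻¹ᵁ Y.basicOpen f := h2
  rw [hV.fromSpec_preimage_basicOpen f] at h1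
  exact h1

theorem primeIdealOf_fromSpec {Y : Scheme.{u}} {V : Y.Opens} (hV : IsAffineOpen V) (𝔓 : PrimeSpectrum Γ(Y, V))
    (h : hV.fromSpec 𝔓 ∈ V) : hV.primeIdealOf ⟨hV.fromSpec 𝔓, h⟩ = 𝔓 := by
  apply hV.fromSpec.isOpenEmbedding.injective
  exact hV.fromSpec_primeIdealOf ⟨hV.fromSpec 𝔓, h⟩

/-- a function on the fibre product over the preimage of an affine open whose norm is invertible at a point of the
model is invertible at some point of the fibre -/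
theorem exists_mem_basicOpen_of_t0 {V : X.Opens} (hV : IsAffineOpen V)
    (y : Γ(PP g D, qq g D ⁻¹ᵁ (hh g D ⁻¹ᵁ V))) (z : ZZ g D)
    (hz : z ∈ (ZZ g D).basicOpen (t0 g D S hV y)) :
    ∃ x : PP g D, qq g D x = z ∧ x ∈ (PP g D).basicOpen y := by
  have hV' : IsAffineOpen (hh g D ⁻¹ᵁ V) := hV.preimage (hh g D)
  have hPV : IsAffineOpen (qq g D ⁻¹ᵁ (hh g D ⁻¹ᵁ V)) := hV'.preimage (qq g D)
  have hzV : z ∈ hh g D ⁻¹ᵁ V := (ZZ g D).basicOpen_le _ hz
  have hnot := notMem_primeIdealOf_of_mem_basicOpen hV' hzV hz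
  obtain ⟨γ, hγ⟩ : ∃ γ, γ = gam (RelSpec.QCAlg.directImage g) D (isFiniteAlg_directImage g) hV := ⟨_, rfl⟩
  obtain ⟨𝔮, h𝔮⟩ : ∃ 𝔮 : Ideal (cV (RelSpec.QCAlg.directImage g) D V),
      𝔮 = (hV'.primeIdealOf ⟨z, hzV⟩).asIdeal.comap
        (γ.symm : cV (RelSpec.QCAlg.directImage g) D V →+* Γ(ZZ g D, hh g D ⁻¹ᵁ V)) := ⟨_, rfl⟩
  haveI h𝔮p : 𝔮.IsPrime := by
    rw [h𝔮]
    infer_instance
  obtain ⟨ψ, hψ⟩ : ∃ ψ : cV (RelSpec.QCAlg.directImage g) D V →+* Γ(PP g D, qq g D ⁻¹ᵁ (hh g D ⁻¹ᵁ V)),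
      ψ = ((qq g D).app (hh g D ⁻¹ᵁ V)).hom.comp
        (γ.symm : cV (RelSpec.QCAlg.directImage g) D V →+* Γ(ZZ g D, hh g D ⁻¹ᵁ V)) := ⟨_, rfl⟩
  by_contra hcon
  have hy : ∀ 𝔓 : Ideal Γ(PP g D, qq g D ⁻¹ᵁ (hh g D ⁻¹ᵁ V)), 𝔓.IsPrime → 𝔓.comap ψ = 𝔮 → y ∈ 𝔓 := by
    intro 𝔓 h𝔓 hcomap
    by_contra hy𝔓
    apply hcon
    have hxPV : hPV.fromSpec ⟨𝔓, h𝔓⟩ ∈ qq g D ⁻¹ᵁ (hh g D ⁻¹ᵁ V) := (hPV.isoSpec.inv ⟨𝔓, h𝔓⟩).2
    have hprime := primeIdealOf_fromSpec hPV ⟨𝔓, h𝔓⟩ hxPV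
    refine ⟨hPV.fromSpec ⟨𝔓, h𝔓⟩, ?_, ?_⟩
    · have h1 := IsAffineOpen.comap_primeIdealOf_appLE (f := qq g D) (hh g D ⁻¹ᵁ V) hV'
        (qq g D ⁻¹ᵁ (hh g D ⁻¹ᵁ V)) hPV le_rfl hxPV
      rw [hprime] at h1
      have h2 : hV'.primeIdealOf ⟨qq g D (hPV.fromSpec ⟨𝔓, h𝔓⟩), hxPV⟩ = hV'.primeIdealOf ⟨z, hzV⟩ := by
        rw [← h1]
        apply PrimeSpectrum.ext
        change 𝔓.comap _ = _
        rw [Scheme.Hom.appLE_eq_app]
        have h3 : (𝔓.comap ((qq g D).app (hh g D ⁻¹ᵁ V)).hom).comap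
            (γ.symm : cV (RelSpec.QCAlg.directImage g) D V →+* Γ(ZZ g D, hh g D ⁻¹ᵁ V)) =
            (hV'.primeIdealOf ⟨z, hzV⟩).asIdeal.comap
              (γ.symm : cV (RelSpec.QCAlg.directImage g) D V →+* Γ(ZZ g D, hh g D ⁻¹ᵁ V)) := by
          rw [← h𝔮, ← hcomap, hψ, Ideal.comap_comap]
        exact Ideal.comap_injective_of_surjective _ γ.symm.surjective h3
      have h4 := congrArg hV'.fromSpec h2
      rw [hV'.fromSpec_primeIdealOf, hV'.fromSpec_primeIdealOf] at h4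
      exact h4
    · exact mem_basicOpen_of_notMem_primeIdealOf hPV hxPV (by rw [hprime]; exact hy𝔓)
  have hNalg : ∀ c : Γ(X, V ⊓ goodLocus (RelSpec.QCAlg.directImage g)),
      S.nrmHom (V ⊓ goodLocus (RelSpec.QCAlg.directImage g)) inf_le_right
        (c • (1 : (RelSpec.QCAlg.directImage g).presheaf.obj
          (op (V ⊓ goodLocus (RelSpec.QCAlg.directImage g))))) = c ^ D := by
    intro c
    rw [Algebra.smul_def, mul_one]
    exact S.nrm_str _ inf_le_right c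
  have hevψ : ∀ c : cV (RelSpec.QCAlg.directImage g) D V, evV g D S V (ψ c) =
      (c : Γ(X, V ⊓ goodLocus (RelSpec.QCAlg.directImage g))) •
        (1 : (RelSpec.QCAlg.directImage g).presheaf.obj (op (V ⊓ goodLocus (RelSpec.QCAlg.directImage g)))) := by
    intro c
    rw [hψ, Algebra.smul_def, mul_one]
    change evV g D S V ((qq g D).app (hh g D ⁻¹ᵁ V) (γ.symm c)) = _
    rw [evV_app hV, hγ, RingEquiv.apply_symm_apply]
    rfl
  have hmem := (keyHyp S hV).norm_mem_of_forall_prime (fg_fI D hV)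
    (faith_fI S (isFiniteAlg_directImage g) hV) hNalg ψ (evV g D S V) (evV_inSpan hV) hevψ 𝔮 (h𝔮 := h𝔮p) y hy
  apply hnot
  rw [h𝔮, hγ] at hmem
  exact hmem

/-- a function on the fibre product whose norm is invertible at a point of the model is invertible at some point of
the fibre -/
theorem exists_mem_basicOpen_of_zNorm (O : (ZZ g D).Opens) (s : Γ(PP g D, qq g D ⁻¹ᵁ O)) (z : ZZ g D)
    (hz : z ∈ (ZZ g D).basicOpen (zNorm g D S O s)) :
    ∃ x : PP g D, qq g D x = z ∧ x ∈ (PP g D).basicOpen s := by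
  have hzO : z ∈ O := (ZZ g D).basicOpen_le _ hz
  obtain ⟨_, ⟨V, hV, rfl⟩, hzV, -⟩ := X.isBasis_affineOpens.exists_subset_of_mem_open
    (Set.mem_univ (hh g D z)) isOpen_univ
  have hV' : IsAffineOpen (hh g D ⁻¹ᵁ V) := hV.preimage (hh g D)
  obtain ⟨f, hfO, hzf⟩ := hV'.exists_basicOpen_le (V := O) ⟨z, hzO⟩ hzV
  have hzf' : z ∈ (ZZ g D).basicOpen f := hzf
  have hfV : (ZZ g D).basicOpen f ≤ hh g D ⁻¹ᵁ V := (ZZ g D).basicOpen_le f
  have hPV : IsAffineOpen (qq g D ⁻¹ᵁ (hh g D ⁻¹ᵁ V)) := hV'.preimage (qq g D)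
  have hpre : qq g D ⁻¹ᵁ (ZZ g D).basicOpen f = (PP g D).basicOpen ((qq g D).app (hh g D ⁻¹ᵁ V) f) :=
    Scheme.preimage_basicOpen (qq g D) f
  obtain ⟨k, b₀, hb₀⟩ := exists_pow_mul_eq_rX hPV ((qq g D).app (hh g D ⁻¹ᵁ V) f) hpre
    ((qq g D).preimage_mono hfV) (rX ((qq g D).preimage_mono hfO) s)
  have hu : IsUnit (rX hfV f) := isUnit_rX_of_le_basicOpen f hfV le_rfl
  have h1 : rX hfV (t0 g D S hV b₀) = (rX hfV f ^ D) ^ k * rX hfO (zNorm g D S O s) := by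
    rw [← zNorm_t0 hV, zNorm_res hfV, ← hb₀, map_mul, map_pow, app_rX (qq g D) hfV, zNorm_app, zNorm_res hfO]
  have hz1 : z ∈ (ZZ g D).basicOpen (t0 g D S hV b₀) := by
    have h2 : z ∈ (ZZ g D).basicOpen (rX hfV (t0 g D S hV b₀)) := by
      rw [h1, Scheme.basicOpen_mul, Scheme.basicOpen_of_isUnit _ ((hu.pow D).pow k), Scheme.basicOpen_res]
      exact ⟨hzf', hzf', hz⟩
    rw [Scheme.basicOpen_res] at h2
    exact h2.2
  obtain ⟨x, hxz, hx⟩ := exists_mem_basicOpen_of_t0 hV b₀ z hz1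
  refine ⟨x, hxz, ?_⟩
  have hxf : x ∈ qq g D ⁻¹ᵁ (ZZ g D).basicOpen f := by
    change qq g D x ∈ (ZZ g D).basicOpen f
    rw [hxz]
    exact hzf'
  have h3 : x ∈ (PP g D).basicOpen (rX ((qq g D).preimage_mono hfV) b₀) := by
    rw [Scheme.basicOpen_res]
    exact ⟨hxf, hx⟩
  rw [← hb₀, Scheme.basicOpen_mul, Scheme.basicOpen_res] at h3
  exact h3.2.2

/-- **the distinguished points of the fibres**: over every point of the model there is a point of the fibre product at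
which every function with norm invertible at the given point is invertible -/
theorem exists_pt (z : ZZ g D) : ∃ x : PP g D, qq g D x = z ∧
    ∀ (O : (ZZ g D).Opens) (s : Γ(PP g D, qq g D ⁻¹ᵁ O)),
      qq g D x ∈ (ZZ g D).basicOpen (zNorm g D S O s) → x ∈ (PP g D).basicOpen s := by
  classical
  by_contra hcon
  push Not at hcon
  have hfin : (qq g D ⁻¹' {z}).Finite := (qq g D).finite_preimage_singleton z
  have key : ∀ F : Finset (PP g D), (∀ x ∈ F, qq g D x = z) →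
      ∃ (O : (ZZ g D).Opens) (s : Γ(PP g D, qq g D ⁻¹ᵁ O)), z ∈ (ZZ g D).basicOpen (zNorm g D S O s) ∧
        ∀ x ∈ F, x ∉ (PP g D).basicOpen s := by
    intro F
    induction F using Finset.induction_on with
    | empty =>
      intro _
      refine ⟨⊤, 1, ?_, by simp⟩
      rw [map_one, Scheme.basicOpen_of_isUnit _ isUnit_one]
      trivial
    | insert x₀ F hx₀ ih =>
      intro hF
      obtain ⟨O, s, hzs, hs⟩ := ih (fun x hx => hF x (Finset.mem_insert_of_mem hx))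
      obtain ⟨O₀, s₀, hzs₀, hs₀⟩ := hcon x₀ (hF x₀ (Finset.mem_insert_self _ _))
      rw [hF x₀ (Finset.mem_insert_self _ _)] at hzs₀
      have hzO : z ∈ O := (ZZ g D).basicOpen_le _ hzs
      have hzO₀ : z ∈ O₀ := (ZZ g D).basicOpen_le _ hzs₀
      refine ⟨O ⊓ O₀, rX ((qq g D).preimage_mono inf_le_left) s * rX ((qq g D).preimage_mono inf_le_right) s₀,
        ?_, ?_⟩
      · rw [map_mul, ← zNorm_res (inf_le_left : O ⊓ O₀ ≤ O), ← zNorm_res (inf_le_right : O ⊓ O₀ ≤ O₀),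
          Scheme.basicOpen_mul, Scheme.basicOpen_res, Scheme.basicOpen_res]
        exact ⟨⟨⟨hzO, hzO₀⟩, hzs⟩, ⟨⟨hzO, hzO₀⟩, hzs₀⟩⟩
      · intro x hx hxs
        rw [Scheme.basicOpen_mul, Scheme.basicOpen_res, Scheme.basicOpen_res] at hxs
        rcases Finset.mem_insert.1 hx with rfl | hx
        · exact hs₀ hxs.2.2
        · exact hs x hx hxs.1.2
  obtain ⟨O, s, hzs, hs⟩ := key hfin.toFinset (fun x hx => (hfin.mem_toFinset.1 hx))
  obtain ⟨x, hxz, hx⟩ := exists_mem_basicOpen_of_zNorm O s z hzs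
  exact hs x (hfin.mem_toFinset.2 hxz) hx

variable (g D S) in
/-- **the norm of the fibre product over the model** -/
noncomputable def wnorm : WNorm (qq g D) D where
  one_le := S.one_le
  norm := zNorm g D S
  norm_res i s := zNorm_res (leOfHom i) s
  norm_app := zNorm_app
  exists_pt := exists_pt

end Norm

end Groth.Agent.Lib.Helper11.Bir
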