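import Mathlib

set_option autoImplicit false
universe u

namespace Groth.Agent.Lib.Helper11Blanchard

open CategoryTheory AlgebraicGeometry Limits

/-- flat base change of `O = f_* O` on affine opens lying over an affine open of the base -/
lemma isIso_app_of_isPullback {X Y S T : Scheme.{u}} {f : T ⟶ S} {g : Y ⟶ X} {iX : X ⟶ S}
    {iY : Y ⟶ T} (H : IsPullback g iY iX f) [Flat f] [QuasiCompact iX] [QuasiSeparated iX]
    (hiX : ∀ U : S.Opens, IsIso (iX.app U)) (V : S.Opens) (hV : IsAffineOpen V)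
    (B : T.Opens) (hB : IsAffineOpen B) (hBV : B ≤ f ⁻¹ᵁ V) : IsIso (iY.app B) := by
  have hUY : iY ⁻¹ᵁ B = g ⁻¹ᵁ (iX ⁻¹ᵁ V) ⊓ iY ⁻¹ᵁ B := by
    apply le_antisymm
    · refine le_inf ?_ le_rfl
      have h1 : iY ⁻¹ᵁ B ≤ iY ⁻¹ᵁ (f ⁻¹ᵁ V) := Scheme.Hom.preimage_mono iY hBV
      have h2 : iY ⁻¹ᵁ (f ⁻¹ᵁ V) = g ⁻¹ᵁ (iX ⁻¹ᵁ V) := by
        rw [← Scheme.Hom.comp_preimage, ← Scheme.Hom.comp_preimage, H.w]
      rwa [h2] at h1
    · exact inf_le_right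
  have hcomp : IsCompact (X := X) (iX ⁻¹ᵁ V) := by
    exact QuasiCompact.isCompact_preimage (f := iX) _ V.isOpen hV.isCompact
  have hqs : IsQuasiSeparated (α := X) (iX ⁻¹ᵁ V) :=
    Scheme.Hom.isQuasiSeparated_preimage (f := iX) hV.isQuasiSeparated
  have hiso := isIso_pushoutSection_of_isQuasiSeparated_of_flat_right H (US := V) (UT := B)
    (UX := iX ⁻¹ᵁ V) (UY := iY ⁻¹ᵁ B) hBV le_rfl hUY hV hB hcomp hqs
  have h1 : IsIso (iX.appLE V (iX ⁻¹ᵁ V) le_rfl) := by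
    rw [Scheme.Hom.appLE_eq_app]; exact hiX V
  have hinr : IsIso (pushout.inr (iX.appLE V (iX ⁻¹ᵁ V) le_rfl) (f.appLE V B hBV)) :=
    inferInstance
  have hcomp2 : pushout.inr (iX.appLE V (iX ⁻¹ᵁ V) le_rfl) (f.appLE V B hBV) ≫
      pushoutSection H (US := V) (UT := B) (UX := iX ⁻¹ᵁ V) (UY := iY ⁻¹ᵁ B) hBV le_rfl hUY =
      iY.app B := by
    rw [pushoutSection, pushout.inr_desc, Scheme.Hom.appLE_eq_app]
  rw [← hcomp2]; infer_instance



lemma isSchemeTheoreticallyDominant_of_injective {X S : Scheme.{u}} (iX : X ⟶ S) [QuasiCompact iX]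
    (h : ∀ U : S.Opens, Function.Injective (iX.app U)) : IsSchemeTheoreticallyDominant iX := by
  rw [isSchemeTheoreticallyDominant_iff]
  apply Scheme.IdealSheafData.ext
  funext U
  rw [Scheme.Hom.ker_apply, Scheme.IdealSheafData.ideal_bot]
  exact (RingHom.injective_iff_ker_eq_bot _).mp (h U.1)

/-- a scheme-theoretically dominant morphism is "epi" for maps into separated schemes -/
lemma eq_of_comp_eq {P Q Z : Scheme.{u}} (F : P ⟶ Q) [IsSchemeTheoreticallyDominant F]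
    [Z.IsSeparated] (a b : Q ⟶ Z) (h : F ≫ a = F ≫ b) : a = b := by
  have hcl : IsClosedImmersion (equalizer.ι a b) := inferInstance
  have h1 : F = equalizer.lift F h ≫ equalizer.ι a b := (equalizer.lift_ι _ _).symm
  have hker : (equalizer.ι a b).ker = ⊥ := by
    apply le_bot_iff.mp
    have h2 := Scheme.Hom.le_ker_comp (equalizer.lift F h) (equalizer.ι a b)
    rw [← h1, F.ker_eq_bot] at h2
    exact h2
  have hiso : IsIso (equalizer.ι a b) := IsClosedImmersion.isIso_iff_ker_eq_bot.mpr hker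
  rw [← cancel_epi (equalizer.ι a b)]
  exact equalizer.condition a b

/-- for affine targets only injectivity on global sections is needed -/
lemma eq_of_comp_eq_of_isAffine {P Q Z : Scheme.{u}} (F : P ⟶ Q)
    (hF : Function.Injective F.appTop) [IsAffine Z] (a b : Q ⟶ Z) (h : F ≫ a = F ≫ b) : a = b := by
  apply ext_of_isAffine
  have h1 : a.appTop ≫ F.appTop = b.appTop ≫ F.appTop := by
    rw [← Scheme.Hom.comp_appTop, ← Scheme.Hom.comp_appTop, h]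
  ext x
  apply hF
  exact congr($h1 x)


/-- local descent (Mumford's rigidity lemma, local form) -/
lemma exists_local_desc {P Q Z : Scheme.{u}} (F : P ⟶ Q) (hcl : IsClosedMap F.base)
    (hB : ∀ (q : Q) (W : Q.Opens), q ∈ W →
      ∃ B : Q.Opens, q ∈ B ∧ B ≤ W ∧ IsIso (F.app B))
    (φ : P ⟶ Z) (q : Q) (V : Z.Opens) (hV : IsAffineOpen V)
    (hq : ∀ p : P, F.base p = q → φ.base p ∈ V) :
    ∃ (B : Q.Opens) (ψ : (B : Scheme.{u}) ⟶ Z), q ∈ B ∧ (F ∣_ B) ≫ ψ = (F ⁻¹ᵁ B).ι ≫ φ := by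
  let W : Q.Opens := ⟨(F.base '' ((φ ⁻¹ᵁ V : P.Opens) : Set P)ᶜ)ᶜ,
    (hcl _ (φ ⁻¹ᵁ V).isOpen.isClosed_compl).isOpen_compl⟩
  have hqW : q ∈ W := by
    rintro ⟨p, hp, hpq⟩
    exact hp (hq p hpq)
  have hWV : F ⁻¹ᵁ W ≤ φ ⁻¹ᵁ V := by
    intro p hp
    by_contra hpV
    exact hp ⟨p, hpV, rfl⟩
  obtain ⟨B, hqB, hBW, hiso⟩ := hB q W hqW
  have hBV : F ⁻¹ᵁ B ≤ φ ⁻¹ᵁ V := (Scheme.Hom.preimage_mono F hBW).trans hWV
  have hV' : IsAffine (V : Scheme.{u}) := hV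
  have hrange : Set.range ((F ⁻¹ᵁ B).ι ≫ φ).base ⊆ Set.range V.ι.base := by
    rw [Scheme.Opens.range_ι]
    rintro _ ⟨p, rfl⟩
    exact hBV p.2
  let φB : ((F ⁻¹ᵁ B : P.Opens) : Scheme.{u}) ⟶ (V : Scheme.{u}) :=
    IsOpenImmersion.lift V.ι ((F ⁻¹ᵁ B).ι ≫ φ) hrange
  have hφB : φB ≫ V.ι = (F ⁻¹ᵁ B).ι ≫ φ := IsOpenImmersion.lift_fac _ _ _
  have hFB : IsIso (F ∣_ B).appTop := by
    rw [morphismRestrict_appTop]
    have h1 : IsIso (F.app (B.ι ''ᵁ ⊤)) := by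
      rw [Scheme.Opens.ι_image_top]; exact hiso
    have h2 : IsIso (P.presheaf.map
        (eqToHom (image_morphismRestrict_preimage F B ⊤)).op) := inferInstance
    exact @IsIso.comp_isIso _ _ _ _ _ _ _ h1 h2
  let ψ' : (B : Scheme.{u}) ⟶ (V : Scheme.{u}) :=
    (B : Scheme.{u}).toSpecΓ ≫ Spec.map (inv (F ∣_ B).appTop) ≫ Spec.map φB.appTop ≫
      (V : Scheme.{u}).isoSpec.inv
  have hψ' : (F ∣_ B) ≫ ψ' = φB := by
    dsimp only [ψ']
    rw [← Category.assoc, Scheme.toSpecΓ_naturality, Category.assoc, ← Category.assoc (Spec.map _),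
      ← Spec.map_comp, IsIso.inv_hom_id, Spec.map_id, Category.id_comp, ← Category.assoc,
      ← Scheme.toSpecΓ_naturality, Category.assoc]
    have : (V : Scheme.{u}).toSpecΓ ≫ (V : Scheme.{u}).isoSpec.inv = 𝟙 _ :=
      (V : Scheme.{u}).isoSpec.hom_inv_id
    rw [this, Category.comp_id]
  refine ⟨B, ψ' ≫ V.ι, hqB, ?_⟩
  rw [← Category.assoc, hψ', hφB]

lemma desc_aux {P Q Z : Scheme.{u}} (F : P ⟶ Q) (φ : P ⟶ Z) (B : Q.Opens)
    (ψ : (B : Scheme.{u}) ⟶ Z) (hψ : (F ∣_ B) ≫ ψ = (F ⁻¹ᵁ B).ι ≫ φ) {T' T : Scheme.{u}}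
    (r : T' ⟶ P) (s : T' ⟶ T) (t : T ⟶ (B : Scheme.{u})) (h : r ≫ F = s ≫ t ≫ B.ι) :
    s ≫ t ≫ ψ = r ≫ φ := by
  have hrange : Set.range r.base ⊆ Set.range (F ⁻¹ᵁ B).ι.base := by
    rw [Scheme.Opens.range_ι]
    rintro _ ⟨t', rfl⟩
    change F.base (r.base t') ∈ B
    have h1 : F.base (r.base t') = (s ≫ t ≫ B.ι).base t' := by
      rw [← h]; rfl
    rw [h1]
    exact (t.base (s.base t')).2
  let r' := IsOpenImmersion.lift (F ⁻¹ᵁ B).ι r hrange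
  have hr' : r' ≫ (F ⁻¹ᵁ B).ι = r := IsOpenImmersion.lift_fac _ _ _
  have h2 : r' ≫ (F ∣_ B) = s ≫ t := by
    rw [← cancel_mono B.ι, Category.assoc, morphismRestrict_ι, ← Category.assoc, hr', h,
      Category.assoc]
  rw [← Category.assoc, ← h2, Category.assoc, hψ, ← Category.assoc, hr']

/-- **Mumford's rigidity lemma** (factorisation form). -/
theorem exists_desc {P Q Z : Scheme.{u}} (F : P ⟶ Q) [QuasiCompact F]
    [IsSchemeTheoreticallyDominant F]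
    (hcl : IsClosedMap F.base) (hsurj : Function.Surjective F.base)
    (hB : ∀ (q : Q) (W : Q.Opens), q ∈ W → ∃ B : Q.Opens, q ∈ B ∧ B ≤ W ∧ IsIso (F.app B))
    [Z.IsSeparated] (φ : P ⟶ Z)
    (hφ : ∀ p₁ p₂ : P, F.base p₁ = F.base p₂ → φ.base p₁ = φ.base p₂) :
    ∃ ψ : Q ⟶ Z, F ≫ ψ = φ := by
  have hloc : ∀ q : Q, ∃ (B : Q.Opens) (ψ : (B : Scheme.{u}) ⟶ Z),
      q ∈ B ∧ (F ∣_ B) ≫ ψ = (F ⁻¹ᵁ B).ι ≫ φ := by
    intro q
    obtain ⟨p₀, hp₀⟩ := hsurj q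
    obtain ⟨V, hV, hpV, -⟩ :=
      exists_isAffineOpen_mem_and_subset (x := φ.base p₀) (U := ⊤) trivial
    exact exists_local_desc F hcl hB φ q V hV
      (fun p hp => by rw [hφ p p₀ (hp.trans hp₀.symm)]; exact hpV)
  choose B ψ hqB hψ using hloc
  have hcover : TopologicalSpace.IsOpenCover B :=
    eq_top_iff.mpr fun q _ => TopologicalSpace.Opens.mem_iSup.mpr ⟨q, hqB q⟩
  let 𝒰 := Q.openCoverOfIsOpenCover B hcover
  have hcompat : ∀ x y : Q,
      pullback.fst (B x).ι (B y).ι ≫ ψ x = pullback.snd (B x).ι (B y).ι ≫ ψ y := by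
    intro x y
    let j : pullback (B x).ι (B y).ι ⟶ Q := pullback.fst (B x).ι (B y).ι ≫ (B x).ι
    have hj : IsOpenImmersion j := by dsimp only [j]; infer_instance
    apply eq_of_comp_eq (pullback.snd F j)
    have hx := desc_aux F φ (B x) (ψ x) (hψ x) (pullback.fst F j) (pullback.snd F j)
      (pullback.fst (B x).ι (B y).ι) pullback.condition
    have hy := desc_aux F φ (B y) (ψ y) (hψ y) (pullback.fst F j) (pullback.snd F j)
      (pullback.snd (B x).ι (B y).ι) (by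
        rw [pullback.condition (f := F) (g := j)]
        dsimp only [j]
        congr 1
        exact pullback.condition)
    rw [hx, hy]
  have hcompat' : ∀ x y : 𝒰.I₀, pullback.fst (𝒰.f x) (𝒰.f y) ≫ ψ x =
      pullback.snd (𝒰.f x) (𝒰.f y) ≫ ψ y := fun x y => hcompat x y
  refine ⟨𝒰.glueMorphisms ψ hcompat', ?_⟩
  have hcover' : TopologicalSpace.IsOpenCover (fun q => F ⁻¹ᵁ B q) :=
    eq_top_iff.mpr fun p _ => TopologicalSpace.Opens.mem_iSup.mpr ⟨F.base p, hqB (F.base p)⟩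
  apply Scheme.Cover.hom_ext (P.openCoverOfIsOpenCover _ hcover')
  intro q
  change (F ⁻¹ᵁ B q).ι ≫ F ≫ 𝒰.glueMorphisms ψ hcompat' = (F ⁻¹ᵁ B q).ι ≫ φ
  rw [← Category.assoc, ← morphismRestrict_ι, Category.assoc]
  have : (B q).ι ≫ 𝒰.glueMorphisms ψ hcompat' = ψ q := 𝒰.ι_glueMorphisms ψ hcompat' q
  rw [this, hψ]

end Groth.Agent.Lib.Helper11Blanchard
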