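import Mathlib
import Groth.Agent.Lib.Helper11BlanchardA

set_option autoImplicit false
universe u

namespace Groth.Agent.Lib.Helper11Blanchard

open CategoryTheory MonoidalCategory CartesianMonoidalCategory AlgebraicGeometry Limits

variable {k : Type u} [Field k]

lemma isSeparated_left (Y : Over (Spec (CommRingCat.of k))) [IsSeparated Y.hom] :
    Y.left.IsSeparated := by
  constructor
  rw [← terminalIsTerminal.hom_ext (Y.hom ≫ terminal.from _) (terminal.from Y.left)]
  infer_instance

lemma isPullback_whiskerLeft (T : Over (Spec (CommRingCat.of k)))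
    {X Y : Over (Spec (CommRingCat.of k))} (f : X ⟶ Y) :
    IsPullback (snd T X).left (T ◁ f).left f.left (snd T Y).left := by
  have H1 : IsPullback (snd T Y).left (fst T Y).left Y.hom T.hom :=
    (IsPullback.of_hasPullback T.hom Y.hom).flip
  have H2 : IsPullback (snd T X).left (fst T X).left X.hom T.hom :=
    (IsPullback.of_hasPullback T.hom X.hom).flip
  have e1 : (T ◁ f).left ≫ (fst T Y).left = (fst T X).left := by
    rw [← Over.comp_left, whiskerLeft_fst]
  have e2 : (T ◁ f).left ≫ (snd T Y).left = (snd T X).left ≫ f.left := by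
    rw [← Over.comp_left, whiskerLeft_snd, Over.comp_left]
  have e3 : f.left ≫ Y.hom = X.hom := Over.w f
  refine IsPullback.of_bot ?_ e2.symm H1
  rw [e1, e3]
  exact H2

section props

variable (T : Over (Spec (CommRingCat.of k))) {X Y : Over (Spec (CommRingCat.of k))} (f : X ⟶ Y)
  [IsProper f.left]

instance flat_snd_left (T Y : Over (Spec (CommRingCat.of k))) : Flat (snd T Y).left :=
  inferInstanceAs (Flat (pullback.snd T.hom Y.hom))

lemma std_of_hf (hf : ∀ U : Y.left.Opens, IsIso (f.left.app U)) :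
    IsSchemeTheoreticallyDominant f.left :=
  isSchemeTheoreticallyDominant_of_injective f.left fun U =>
    ((ConcreteCategory.isIso_iff_bijective _).mp (hf U)).1

lemma surjective_of_hf (hf : ∀ U : Y.left.Opens, IsIso (f.left.app U)) : Surjective f.left := by
  have := std_of_hf f hf
  have hd : IsDominant f.left := inferInstance
  have hcl : IsClosed (Set.range f.left.base) := f.left.isClosedMap.isClosed_range
  constructor
  intro y
  have h1 : closure (Set.range f.left.base) = Set.univ := hd.denseRange.closure_range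
  rw [hcl.closure_eq] at h1
  have h2 : y ∈ Set.range f.left.base := h1 ▸ Set.mem_univ y
  exact h2

lemma isProper_whiskerLeft : IsProper (T ◁ f).left :=
  MorphismProperty.of_isPullback (isPullback_whiskerLeft T f) (inferInstance : IsProper f.left)

lemma std_whiskerLeft (hf : ∀ U : Y.left.Opens, IsIso (f.left.app U)) :
    IsSchemeTheoreticallyDominant (T ◁ f).left := by
  have := std_of_hf f hf
  exact IsSchemeTheoreticallyDominant.of_isPullback (isPullback_whiskerLeft T f)

lemma surjective_whiskerLeft (hf : ∀ U : Y.left.Opens, IsIso (f.left.app U)) :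
    Surjective (T ◁ f).left :=
  MorphismProperty.of_isPullback (isPullback_whiskerLeft T f) (surjective_of_hf f hf)

lemma basis_whiskerLeft (hf : ∀ U : Y.left.Opens, IsIso (f.left.app U))
    (q : (T ⊗ Y).left) (W : (T ⊗ Y).left.Opens) (hq : q ∈ W) :
    ∃ B : (T ⊗ Y).left.Opens, q ∈ B ∧ B ≤ W ∧ IsIso ((T ◁ f).left.app B) := by
  obtain ⟨V, hV, hqV, -⟩ :=
    exists_isAffineOpen_mem_and_subset (x := (snd T Y).left.base q) (U := ⊤) trivial
  have hqW' : q ∈ W ⊓ (snd T Y).left ⁻¹ᵁ V := ⟨hq, hqV⟩
  obtain ⟨B, hB, hqB, hBW⟩ := exists_isAffineOpen_mem_and_subset hqW'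
  refine ⟨B, hqB, fun x hx => (hBW hx).1, ?_⟩
  exact isIso_app_of_isPullback (isPullback_whiskerLeft T f) hf V hV B hB
    (fun x hx => (hBW hx).2)

theorem whiskerLeft_cancel (hf : ∀ U : Y.left.Opens, IsIso (f.left.app U))
    {Z : Over (Spec (CommRingCat.of k))} [IsSeparated Z.hom] (a b : T ⊗ Y ⟶ Z)
    (h : (T ◁ f) ≫ a = (T ◁ f) ≫ b) : a = b := by
  have := std_whiskerLeft T f hf
  have := isSeparated_left Z
  apply Over.OverMorphism.ext
  apply eq_of_comp_eq (T ◁ f).left
  rw [← Over.comp_left, ← Over.comp_left, h]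

theorem exists_hom_desc (hf : ∀ U : Y.left.Opens, IsIso (f.left.app U))
    {Z : Over (Spec (CommRingCat.of k))} [IsSeparated Z.hom] (φ : T ⊗ X ⟶ Z)
    (hφ : ∀ p q : (T ⊗ X).left, (T ◁ f).left.base p = (T ◁ f).left.base q →
      φ.left.base p = φ.left.base q) :
    ∃ ψ : T ⊗ Y ⟶ Z, (T ◁ f) ≫ ψ = φ := by
  have hstd := std_whiskerLeft T f hf
  have hZ := isSeparated_left Z
  have hprop := isProper_whiskerLeft T f
  have hsurj := surjective_whiskerLeft T f hf
  obtain ⟨ψ₀, hψ₀⟩ := exists_desc (T ◁ f).left (T ◁ f).left.isClosedMap hsurj.surj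
    (basis_whiskerLeft T f hf) φ.left hφ
  have hinj : Function.Injective (T ◁ f).left.appTop := Scheme.Hom.app_injective _ ⊤
  have hw : ψ₀ ≫ Z.hom = (T ⊗ Y).hom := by
    apply eq_of_comp_eq_of_isAffine (T ◁ f).left hinj
    rw [← Category.assoc, hψ₀, Over.w, Over.w]
  refine ⟨Over.homMk ψ₀ hw, ?_⟩
  apply Over.OverMorphism.ext
  rw [Over.comp_left]
  exact hψ₀

end props

end Groth.Agent.Lib.Helper11Blanchard
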