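import Mathlib
import Groth.Prelude.Def_AlgGrp
import Groth.Agent.Lib.Helper11BlanchardB

set_option autoImplicit false
universe u

namespace Groth.Agent.Lib.Helper11Blanchard

open CategoryTheory MonoidalCategory CartesianMonoidalCategory MonObj AlgebraicGeometry Limits

variable {k : Type u} [Field k]

theorem exists_action_desc (G X Y : Over (Spec (CommRingCat.of k))) [GrpObj G] (f : X ⟶ Y)
    [IsProper f.left] (hf : ∀ U : Y.left.Opens, IsIso (f.left.app U)) [IsSeparated Y.hom]
    (a : AlgGrp.Action G X)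
    (hφ : ∀ p q : (G ⊗ X).left, (G ◁ f).left.base p = (G ◁ f).left.base q →
      (a.act ≫ f).left.base p = (a.act ≫ f).left.base q) :
    ∃ b : AlgGrp.Action G Y, (G ◁ f) ≫ b.act = a.act ≫ f := by
  obtain ⟨ψ, hψ⟩ := exists_hom_desc G f hf (a.act ≫ f) hφ
  refine ⟨⟨ψ, ?_, ?_⟩, hψ⟩
  · apply whiskerLeft_cancel (𝟙_ _) f hf
    rw [← Category.assoc, whisker_exchange, Category.assoc, hψ, ← Category.assoc, a.one_act,
      leftUnitor_naturality]
  · apply whiskerLeft_cancel (G ⊗ G) f hf
    rw [← Category.assoc, whisker_exchange, Category.assoc, hψ, ← Category.assoc, a.mul_act,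
      ← Category.assoc ((G ⊗ G) ◁ f), associator_naturality_right]
    simp only [Category.assoc]
    rw [← whiskerLeft_comp_assoc, hψ, whiskerLeft_comp_assoc, hψ]

end Groth.Agent.Lib.Helper11Blanchard
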