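import Mathlib

set_option autoImplicit false
set_option linter.unusedSectionVars false

namespace Groth.Agent.Lib.Helper25.TensorDomain

universe u v w

section part0
open TensorProduct


section null
variable {K : Type u} [Field K] [IsAlgClosed K]

/-- every maximal ideal of a f.g. algebra over an algebraically closed field is the kernel of a
`K`-point. -/
lemma exists_algHom_ker_eq {A : Type v} [CommRing A] [Algebra K A] [Algebra.FiniteType K A]
    (m : Ideal A) [hm : m.IsMaximal] : ∃ φ : A →ₐ[K] K, RingHom.ker φ = m := by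
  let _ : Field (A ⧸ m) := Ideal.Quotient.field m
  have hft : Algebra.FiniteType K (A ⧸ m) :=
    Algebra.FiniteType.of_surjective (Ideal.Quotient.mkₐ K m) Ideal.Quotient.mk_surjective
  have hfin : Module.Finite K (A ⧸ m) := finite_of_finite_type_of_isJacobsonRing K (A ⧸ m)
  have hint : Algebra.IsIntegral K (A ⧸ m) := inferInstance
  have hbij : Function.Bijective (algebraMap K (A ⧸ m)) :=
    IsAlgClosed.algebraMap_bijective_of_isIntegral
  let e : K ≃ₐ[K] (A ⧸ m) := AlgEquiv.ofBijective (Algebra.ofId K (A ⧸ m)) hbij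
  refine ⟨(e.symm : (A ⧸ m) →ₐ[K] K).comp (Ideal.Quotient.mkₐ K m), ?_⟩
  ext x
  simp only [RingHom.mem_ker, AlgHom.coe_comp, Function.comp_apply,
    Ideal.Quotient.mkₐ_eq_mk]
  change e.symm (Ideal.Quotient.mk m x) = 0 ↔ x ∈ m
  rw [EmbeddingLike.map_eq_zero_iff, Ideal.Quotient.eq_zero_iff_mem]

/-- Nullstellensatz: in a reduced f.g. algebra over an algebraically closed field, an element killed
by all `K`-points is zero. -/
lemma eq_zero_of_forall_algHom_eq_zero {A : Type v} [CommRing A] [Algebra K A]
    [Algebra.FiniteType K A] [IsReduced A] (x : A) (h : ∀ φ : A →ₐ[K] K, φ x = 0) : x = 0 := by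
  have hJ : IsJacobsonRing A := isJacobsonRing_of_finiteType (A := K)
  have hb : (⊥ : Ideal A).jacobson = ⊥ := hJ.out Ideal.isRadical_bot
  have hx : x ∈ (⊥ : Ideal A).jacobson := by
    rw [Ideal.jacobson, Ideal.mem_sInf]
    rintro m ⟨-, hm⟩
    obtain ⟨φ, hφ⟩ := exists_algHom_ker_eq (K := K) m
    rw [← hφ]
    exact h φ
  rw [hb] at hx
  exact hx

end null

end part0

section part1
open TensorProduct


section dom
variable {K : Type u} [Field K] [IsAlgClosed K]
variable {A : Type v} [CommRing A] [Algebra K A] {B : Type w} [CommRing B] [Algebra K B]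

/-- evaluate the first factor at a `K`-point -/
noncomputable def evalLeft (φ : A →ₐ[K] K) : A ⊗[K] B →ₐ[K] B :=
  (Algebra.TensorProduct.lid K B : K ⊗[K] B →ₐ[K] B).comp
    (Algebra.TensorProduct.map φ (AlgHom.id K B))

@[simp] lemma evalLeft_tmul (φ : A →ₐ[K] K) (a : A) (b : B) :
    evalLeft φ (a ⊗ₜ[K] b) = φ a • b := by
  simp [evalLeft]

variable {ι : Type*} [DecidableEq ι] (𝒷 : Module.Basis ι K B)

lemma evalLeft_eq (φ : A →ₐ[K] K) (z : A ⊗[K] B) :
    evalLeft φ z = Finsupp.linearCombination K 𝒷
      ((TensorProduct.equivFinsuppOfBasisRight 𝒷 z).mapRange φ (map_zero φ)) := by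
  obtain ⟨c, rfl⟩ := (TensorProduct.equivFinsuppOfBasisRight (M := A) 𝒷).symm.surjective z
  rw [LinearEquiv.apply_symm_apply, TensorProduct.equivFinsuppOfBasisRight_symm_apply]
  induction c using Finsupp.induction_linear with
  | zero => simp
  | add f g hf hg =>
    rw [Finsupp.sum_add_index' (by simp) (by intros; simp [TensorProduct.add_tmul]), map_add, hf, hg,
      Finsupp.mapRange_add (by intros; simp), map_add]
  | single i a => simp

lemma evalLeft_eq_zero_iff (φ : A →ₐ[K] K) (z : A ⊗[K] B) :
    evalLeft φ z = 0 ↔ ∀ i, φ (TensorProduct.equivFinsuppOfBasisRight 𝒷 z i) = 0 := by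
  rw [evalLeft_eq 𝒷]
  have hinj : Function.Injective (Finsupp.linearCombination K 𝒷) := 𝒷.linearIndependent
  rw [← map_zero (Finsupp.linearCombination K 𝒷), hinj.eq_iff, Finsupp.ext_iff]
  simp

/-- key step: `A` f.g. domain, `B` domain over algebraically closed `K`. -/
lemma eq_zero_of_mul_eq_zero_of_finiteType [Algebra.FiniteType K A] [IsDomain A] [IsDomain B]
    (z z' : A ⊗[K] B) (h : z * z' = 0) (hz : z ≠ 0) : z' = 0 := by
  classical
  let 𝒷 := Module.Basis.ofVectorSpace K B
  let e := TensorProduct.equivFinsuppOfBasisRight (M := A) 𝒷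
  have hc : e z ≠ 0 := fun h0 => hz (by simpa using h0)
  obtain ⟨i0, hi0⟩ : ∃ i, e z i ≠ 0 := by
    by_contra hcon
    push Not at hcon
    exact hc (Finsupp.ext hcon)
  suffices e z' = 0 by simpa using this
  ext j
  have key : e z i0 * e z' j = 0 := by
    apply eq_zero_of_forall_algHom_eq_zero (K := K)
    intro φ
    have hφ : evalLeft φ z * evalLeft φ z' = 0 := by rw [← map_mul, h, map_zero]
    rcases mul_eq_zero.mp hφ with h1 | h1
    · rw [map_mul, (evalLeft_eq_zero_iff 𝒷 φ z).mp h1 i0, zero_mul]
    · rw [map_mul, (evalLeft_eq_zero_iff 𝒷 φ z').mp h1 j, mul_zero]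
  rcases mul_eq_zero.mp key with h1 | h1
  · exact absurd h1 hi0
  · simpa using h1

end dom

end part1

section part2
open TensorProduct


section dom
variable {K : Type u} [Field K] [IsAlgClosed K]
variable {A : Type v} [CommRing A] [Algebra K A] {B : Type w} [CommRing B] [Algebra K B]

lemma eq_zero_of_mul_eq_zero [IsDomain A] [IsDomain B]
    (z z' : A ⊗[K] B) (h : z * z' = 0) (hz : z ≠ 0) : z' = 0 := by
  obtain ⟨M', hfin, hM'⟩ := TensorProduct.exists_finite_submodule_left_of_setFinite
    ({z, z'} : Set (A ⊗[K] B)) (Set.toFinite _)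
  let A' : Subalgebra K A := Algebra.adjoin K (M' : Set A)
  have hA'fg : A'.FG := by
    obtain ⟨S, hS⟩ := (Submodule.fg_top M').mp hfin.1
    refine ⟨S, ?_⟩
    show Algebra.adjoin K (S : Set A) = Algebra.adjoin K (M' : Set A)
    rw [← hS, Algebra.adjoin_span]
  have hle : M' ≤ Subalgebra.toSubmodule A' := fun x hx => Algebra.subset_adjoin hx
  have : Algebra.FiniteType K A' := (Subalgebra.fg_iff_finiteType A').mp hA'fg
  let ψ : A' ⊗[K] B →ₐ[K] A ⊗[K] B := Algebra.TensorProduct.map A'.val (AlgHom.id K B)
  have hψinj : Function.Injective ψ := by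
    have : Function.Injective (LinearMap.rTensor B A'.val.toLinearMap) :=
      Module.Flat.rTensor_preserves_injective_linearMap _ Subtype.val_injective
    intro x y hxy
    apply this
    exact hxy
  have hrange : ∀ x ∈ ({z, z'} : Set (A ⊗[K] B)), ∃ w, ψ w = x := by
    intro x hx
    obtain ⟨y, rfl⟩ := hM' hx
    clear hx
    refine ⟨LinearMap.rTensor B (Submodule.inclusion hle) y, ?_⟩
    induction y using TensorProduct.induction_on with
    | zero => simp
    | tmul a b => simp [ψ]
    | add a b ha hb => simp only [map_add, ha, hb]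
  obtain ⟨w, rfl⟩ := hrange z (by simp)
  obtain ⟨w', rfl⟩ := hrange z' (by simp)
  have hww : w * w' = 0 := hψinj (by rw [map_mul, h, map_zero])
  have hw : w ≠ 0 := fun h0 => hz (by rw [h0, map_zero])
  rw [eq_zero_of_mul_eq_zero_of_finiteType w w' hww hw, map_zero]

end dom

end part2

section part3
open TensorProduct CategoryTheory CategoryTheory.Limits AlgebraicGeometry


section dom
variable {K : Type u} [Field K] [IsAlgClosed K]

theorem isDomain_tensorProduct {A B : Type u} [CommRing A] [Algebra K A] [CommRing B] [Algebra K B]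
    [IsDomain A] [IsDomain B] : IsDomain (A ⊗[K] B) := by
  have : Nontrivial (A ⊗[K] B) :=
    Algebra.TensorProduct.nontrivial_of_algebraMap_injective_of_isDomain K A B
      (algebraMap K A).injective (algebraMap K B).injective
  have : NoZeroDivisors (A ⊗[K] B) := ⟨fun {a b} h => by
    by_cases ha : a = 0
    · exact Or.inl ha
    · exact Or.inr (eq_zero_of_mul_eq_zero a b h ha)⟩
  exact NoZeroDivisors.to_isDomain _

/-- a morphism between spectra of fields with algebraically closed target is geometrically
irreducible. -/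
theorem geometricallyIrreducible_Spec_field {L : Type u} [Field L]
    (x : Spec (CommRingCat.of L) ⟶ Spec (CommRingCat.of K)) : GeometricallyIrreducible x := by
  obtain ⟨φ, rfl⟩ := Spec.map_surjective x
  algebraize [φ.hom]
  refine ⟨(geometrically_iff_of_commRing_of_isClosedUnderIsomorphisms).mpr fun F _ _ => ?_⟩
  have : IsDomain (L ⊗[K] F) := isDomain_tensorProduct
  have e := pullbackSpecIso K L F
  have : IrreducibleSpace (Spec (CommRingCat.of (L ⊗[K] F))) := inferInstance
  exact e.hom.homeomorph.irreducibleSpace_iff.mpr this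

/-- an irreducible scheme over an algebraically closed field is geometrically irreducible. -/
theorem geometricallyIrreducible_of_isAlgClosed {X : Scheme.{u}} (f : X ⟶ Spec (CommRingCat.of K))
    [IrreducibleSpace X] : GeometricallyIrreducible f := by
  refine ⟨(geometrically_iff_of_isClosedUnderIsomorphisms).mpr fun L _ x => ?_⟩
  have := geometricallyIrreducible_Spec_field x
  infer_instance

end dom

end part3

end Groth.Agent.Lib.Helper25.TensorDomain
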