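import Groth.Agent.Lib.Helper25DenseMul

set_option autoImplicit false
set_option linter.unusedSectionVars false
universe u
open CategoryTheory CategoryTheory.Limits MonoidalCategory CartesianMonoidalCategory MonObj GrpObj AlgebraicGeometry

namespace Groth.Agent.Lib.Helper25.TopGrp

open Groth.Agent.Lib.Helper25.DenseMul

section


/-- if `h` is surjective and `h ≫ f` is universally open then so is `f`. -/
lemma universallyOpen_of_comp_of_surjective {X' X Y : Scheme.{u}} (h : X' ⟶ X) (f : X ⟶ Y)
    [Surjective h] [UniversallyOpen (h ≫ f)] : UniversallyOpen f := by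
  rw [UniversallyOpen.eq]
  intro X₁ Y' i₁ i₂ f' hf
  -- `hf : IsPullback f' i₁ i₂ f`
  have hsq : IsPullback (pullback.snd h i₁ ≫ f') (pullback.fst h i₁) i₂ (h ≫ f) :=
    (IsPullback.of_hasPullback h i₁).flip.paste_horiz hf
  have h1 : IsOpenMap (pullback.snd h i₁ ≫ f') :=
    (inferInstance : UniversallyOpen (h ≫ f)).universally_isOpenMap _ _ _ hsq
  have h2 : Surjective (pullback.snd h i₁) := inferInstance
  intro W hW
  have : f' '' W = (pullback.snd h i₁ ≫ f') '' ((pullback.snd h i₁) ⁻¹' W) := by
    rw [Scheme.Hom.comp_base, TopCat.coe_comp, Set.image_comp,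
      Set.image_preimage_eq _ (pullback.snd h i₁).surjective]
  rw [this]
  exact h1 _ (hW.preimage (pullback.snd h i₁).continuous)

/-- Every morphism to `S` is universally open (e.g. `S` the spectrum of a field or of a local
artinian ring). -/
class BaseUO (S : Scheme.{u}) : Prop where
  uo : ∀ {X : Scheme.{u}} (f : X ⟶ S), UniversallyOpen f

instance (k : Type u) [Field k] : BaseUO (Spec (CommRingCat.of k)) := ⟨fun _ => inferInstance⟩

instance (A : Type u) [CommRing A] [IsArtinianRing A] [IsLocalRing A] :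
    BaseUO (Spec (CommRingCat.of A)) := by
  constructor
  intro X f
  have hprime : ∀ p : Ideal A, p.IsPrime → p = IsLocalRing.maximalIdeal A := fun p hp =>
    IsLocalRing.eq_maximalIdeal (IsArtinianRing.isMaximal_of_isPrime p)
  let r := Spec.map (CommRingCat.ofHom (IsLocalRing.residue A))
  have h2 : IsClosedImmersion r :=
    IsClosedImmersion.spec_of_surjective _ Ideal.Quotient.mk_surjective
  have h3 : Surjective r := by
    constructor
    intro x
    obtain ⟨y⟩ : Nonempty (Spec (CommRingCat.of (IsLocalRing.ResidueField A))) := inferInstance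
    refine ⟨y, ?_⟩
    have hsub : ∀ z w : PrimeSpectrum A, z = w := fun z w =>
      PrimeSpectrum.ext ((hprime _ z.2).trans (hprime _ w.2).symm)
    exact hsub _ _
  have h4 : UniversallyOpen r := universallyOpen_of_isClosedImmersion_of_surjective r
  have h5 : Surjective (pullback.fst f r) := inferInstance
  have h6 : UniversallyOpen (pullback.fst f r ≫ f) := by
    rw [pullback.condition]
    infer_instance
  exact universallyOpen_of_comp_of_surjective (pullback.fst f r) f


end
section


variable {S : Scheme.{u}}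

section
variable [BaseUO S]

lemma isOpenMap_snd (X Y : Over S) : IsOpenMap (snd X Y).left := by
  have : UniversallyOpen X.hom := BaseUO.uo _
  exact isOpenMap_snd_left_of_universallyOpen Y X

lemma isOpenMap_fst (X Y : Over S) : IsOpenMap (fst X Y).left := by
  rw [Over.fst_left]
  have : UniversallyOpen Y.hom := BaseUO.uo _
  have : UniversallyOpen (pullback.fst X.hom Y.hom) := inferInstance
  exact (pullback.fst X.hom Y.hom).isOpenMap

end

/-- `snd ⁻¹ (range i) = range (X ◁ i)` -/
lemma range_whiskerLeft (X : Over S) {H G : Over S} (i : H ⟶ G) :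
    Set.range (X ◁ i).left = (snd X G).left ⁻¹' Set.range i.left := by
  have h := Scheme.Pullback.range_map X.hom H.hom X.hom G.hom (𝟙 _) i.left (𝟙 _)
    (by simp) (by simp)
  have e : (X ◁ i).left = pullback.map X.hom H.hom X.hom G.hom (𝟙 _) i.left (𝟙 _)
      (by simp) (by simp) := by
    apply pullback.hom_ext
    · simp only [pullback.map]
      rw [pullback.lift_fst]
      simp
    · simp only [pullback.map]
      rw [pullback.lift_snd]
      simp
  rw [e, h]
  simp

/-- `fst ⁻¹ (range i) ∩ snd ⁻¹ (range j) = range (i ⊗ j)` -/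
lemma range_tensorHom {H G H' G' : Over S} (i : H ⟶ G) (j : H' ⟶ G') :
    Set.range (i ⊗ₘ j).left =
      (fst G G').left ⁻¹' Set.range i.left ∩ (snd G G').left ⁻¹' Set.range j.left := by
  have h := Scheme.Pullback.range_map H.hom H'.hom G.hom G'.hom i.left j.left (𝟙 _)
    (by simp) (by simp)
  have e : (i ⊗ₘ j).left = pullback.map H.hom H'.hom G.hom G'.hom i.left j.left (𝟙 _)
      (by simp) (by simp) := by
    apply pullback.hom_ext
    · simp only [pullback.map]
      rw [pullback.lift_fst]
      simp
    · simp only [pullback.map]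
      rw [pullback.lift_snd]
      simp
  rw [e, h]
  rfl


end
section


variable {S : Scheme.{u}} [BaseUO S] {G H : Over S} [GrpObj G] [GrpObj H] (i : H ⟶ G) [IsMonHom i]

/-- "`H⁻¹ · closure H ⊆ closure H`" at the level of scheme points. -/
lemma inv_mul_mem_closure_range (w : (H ⊗ G).left)
    (hw : (snd H G).left w ∈ closure (Set.range i.left)) :
    ((fst H G ≫ i)⁻¹ * snd H G).left w ∈ closure (Set.range i.left) := by
  let m : H ⊗ G ⟶ G := (fst H G ≫ i)⁻¹ * snd H G
  let σ : H ⊗ G ⟶ H ⊗ G := lift (fst H G) m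
  let σH : H ⊗ H ⟶ H ⊗ H := lift (fst H H) ((fst H H)⁻¹ * snd H H)
  have hσ : (H ◁ i) ≫ σ = σH ≫ (H ◁ i) := by
    apply CartesianMonoidalCategory.hom_ext
    · simp [σ, σH]
    · simp only [σ, σH, m, Category.assoc, lift_snd, whiskerLeft_snd, lift_snd_assoc]
      rw [MonObj.comp_mul, GrpObj.comp_inv, MonObj.mul_comp, GrpObj.inv_comp]
      simp
  have hopen := isOpenMap_snd H G
  have hcl : (snd H G).left ⁻¹' closure (Set.range i.left) =
      closure ((snd H G).left ⁻¹' Set.range i.left) :=
    hopen.preimage_closure_eq_closure_preimage (snd H G).left.continuous _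
  have hmaps : Set.MapsTo σ.left ((snd H G).left ⁻¹' Set.range i.left)
      ((snd H G).left ⁻¹' Set.range i.left) := by
    rw [← range_whiskerLeft]
    rintro _ ⟨s, rfl⟩
    refine ⟨σH.left s, ?_⟩
    change (σH.left ≫ (H ◁ i).left) s = ((H ◁ i).left ≫ σ.left) s
    rw [← Over.comp_left, ← Over.comp_left, hσ]
  have hmaps' := hmaps.closure σ.left.continuous
  rw [← hcl] at hmaps'
  have h3 : (σ ≫ snd H G).left w ∈ closure (Set.range i.left) := hmaps' hw
  rwa [lift_snd] at h3


end
section


variable {S : Scheme.{u}} [BaseUO S] {G H : Over S} [GrpObj G] [GrpObj H] (i : H ⟶ G) [IsMonHom i]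

/-- the range of a homomorphism is stable under multiplication -/
lemma mul_mem_range (z : (G ⊗ G).left) (h1 : (fst G G).left z ∈ Set.range i.left)
    (h2 : (snd G G).left z ∈ Set.range i.left) : μ[G].left z ∈ Set.range i.left := by
  have hz : z ∈ Set.range (i ⊗ₘ i).left := by
    rw [range_tensorHom]; exact ⟨h1, h2⟩
  obtain ⟨w, rfl⟩ := hz
  refine ⟨μ[H].left w, ?_⟩
  change (μ[H].left ≫ i.left) w = ((i ⊗ₘ i).left ≫ μ[G].left) w
  rw [← Over.comp_left, ← Over.comp_left, IsMonHom.mul_hom]

set_option maxHeartbeats 1600000 in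
/-- A locally closed subgroup is closed (scheme-point version). -/
theorem isClosed_range_of_isLocallyClosed (hlc : IsLocallyClosed (Set.range i.left)) :
    IsClosed (Set.range i.left) := by
  rw [← closure_subset_iff_isClosed]
  intro g hg
  let P : Over S := Over.mk (G.left.fromSpecResidueField g ≫ G.hom)
  let gP : P ⟶ G := Over.homMk (G.left.fromSpecResidueField g) rfl
  let T : Over S := P ⊗ G
  let a : T ⟶ G := snd P G
  let g' : T ⟶ G := fst P G ≫ gP
  let b : T ⟶ G := a⁻¹ * g'
  let φ : T ⟶ T := lift (fst P G) b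
  have hφa : φ ≫ a = b := lift_snd _ _
  have hopen_a : IsOpenMap a.left := isOpenMap_snd P G
  have hg'pt : ∀ t : T.left, g'.left t = g := by
    intro t
    change (G.left.fromSpecResidueField g) ((fst P G).left t) = g
    exact Scheme.fromSpecResidueField_apply _ _
  -- `Y = a⁻¹(closure (Set.range i.left)) = closure (a⁻¹ (Set.range i.left))`
  have hY : a.left ⁻¹' closure (Set.range i.left) = closure (a.left ⁻¹' (Set.range i.left)) :=
    hopen_a.preimage_closure_eq_closure_preimage a.left.continuous _
  -- (1) `b` maps `a⁻¹ (Set.range i.left)` into `closure (Set.range i.left)`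
  have h1 : ∀ t : T.left, a.left t ∈ (Set.range i.left) → b.left t ∈ closure (Set.range i.left) := by
    intro t ht
    have ht' : t ∈ Set.range (P ◁ i).left := by
      rw [range_whiskerLeft]; exact ht
    obtain ⟨s, rfl⟩ := ht'
    let w' : P ⊗ H ⟶ H ⊗ G := lift (snd P H) (fst P H ≫ gP)
    have hw' : (P ◁ i) ≫ b = w' ≫ ((fst H G ≫ i)⁻¹ * snd H G) := by
      simp only [b, a, g', w']
      rw [MonObj.comp_mul, GrpObj.comp_inv, MonObj.comp_mul, GrpObj.comp_inv]
      simp
    change ((P ◁ i) ≫ b).left s ∈ closure (Set.range i.left)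
    rw [hw']
    apply inv_mul_mem_closure_range i (w'.left s)
    change (w' ≫ snd H G).left s ∈ closure (Set.range i.left)
    rw [lift_snd]
    change (G.left.fromSpecResidueField g) _ ∈ closure (Set.range i.left)
    rw [Scheme.fromSpecResidueField_apply]
    exact hg
  -- (2) `φ` maps `Y` into `Y`
  have h2 : Set.MapsTo φ.left (a.left ⁻¹' closure (Set.range i.left)) (a.left ⁻¹' closure (Set.range i.left)) := by
    have hm : Set.MapsTo φ.left (a.left ⁻¹' (Set.range i.left)) (a.left ⁻¹' closure (Set.range i.left)) := by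
      intro t ht
      change (φ ≫ a).left t ∈ closure (Set.range i.left)
      rw [hφa]
      exact h1 t ht
    have := hm.closure φ.left.continuous
    rw [← hY, (isClosed_closure.preimage a.left.continuous).closure_eq] at this
    exact this
  -- (3) the point `y₀ = (pt, g)`
  obtain ⟨p₀⟩ : Nonempty P.left := by
    change Nonempty (Spec (G.left.residueField g))
    infer_instance
  let y₀ : T.left := (lift (𝟙 P) gP).left p₀
  have hy₀a : a.left y₀ = g := by
    change (lift (𝟙 P) gP ≫ a).left p₀ = g
    rw [lift_snd]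
    exact Scheme.fromSpecResidueField_apply _ _
  have hy₀b : b.left y₀ ∈ (Set.range i.left) := by
    have : lift (𝟙 P) gP ≫ b = toUnit P ≫ η[H] ≫ i := by
      simp only [b, a, g']
      rw [MonObj.comp_mul, GrpObj.comp_inv, lift_snd, lift_fst_assoc, Category.id_comp,
        inv_mul_cancel, IsMonHom.one_hom, Hom.one_def]
    change (lift (𝟙 P) gP ≫ b).left p₀ ∈ (Set.range i.left)
    rw [this]
    exact ⟨_, rfl⟩
  -- (4) find `t ∈ a⁻¹R` with `b t ∈ (Set.range i.left)`
  have hO : IsOpen (coborder (Set.range i.left)) := hlc.isOpen_coborder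
  have hRO : coborder (Set.range i.left) ∩ closure (Set.range i.left) = (Set.range i.left) := coborder_inter_closure
  have hy₀mem : y₀ ∈ closure (a.left ⁻¹' (Set.range i.left)) := by
    rw [← hY]; change a.left y₀ ∈ closure (Set.range i.left); rw [hy₀a]; exact hg
  obtain ⟨t, htO, htR⟩ := mem_closure_iff.mp hy₀mem (b.left ⁻¹' coborder (Set.range i.left))
    (hO.preimage b.left.continuous) (subset_coborder hy₀b)
  have htb : b.left t ∈ (Set.range i.left) := by
    rw [← hRO]
    exact ⟨htO, h1 t htR⟩
  -- (5) conclude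
  have hab : a * b = g' := by simp only [b]; group
  have : g = μ[G].left ((lift a b).left t) := by
    change g = (lift a b ≫ μ[G]).left t
    rw [← Hom.mul_def, hab, hg'pt]
  rw [this]
  apply mul_mem_range i
  · change (lift a b ≫ fst G G).left t ∈ (Set.range i.left)
    rw [lift_fst]; exact htR
  · change (lift a b ≫ snd G G).left t ∈ (Set.range i.left)
    rw [lift_snd]; exact htb


end
section

variable {S : Scheme.{u}} [BaseUO S] {G H : Over S} [GrpObj G] [GrpObj H] (i : H ⟶ G) [IsMonHom i]

/-- an immersed subgroup scheme is closed (base: field, local artinian ring, ...). -/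
theorem isClosedImmersion_of_isImmersion [IsImmersion i.left] : IsClosedImmersion i.left :=
  IsClosedImmersion.of_isPreimmersion _
    (isClosed_range_of_isLocallyClosed i i.left.isLocallyClosed_range)


end
section

variable {S : Scheme.{u}} {G : Over S} [GrpObj G]

/-- multiplication of a group scheme is an open map (when everything over `S` is universally open) -/
lemma isOpenMap_mul [BaseUO S] : IsOpenMap μ[G].left := by
  let σ : G ⊗ G ⟶ G ⊗ G := lift (fst G G) μ[G]
  let τ : G ⊗ G ⟶ G ⊗ G := lift (fst G G) ((fst G G)⁻¹ * snd G G)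
  have hμ : μ[G] = fst G G * snd G G := by
    rw [Hom.mul_def, lift_fst_snd, Category.id_comp]
  have h1 : σ ≫ τ = 𝟙 _ := by
    apply CartesianMonoidalCategory.hom_ext
    · simp [σ, τ]
    · simp only [σ, τ, Category.assoc, lift_snd, Category.id_comp]
      rw [MonObj.comp_mul, GrpObj.comp_inv, lift_fst, lift_snd, hμ]
      group
  have h2 : τ ≫ σ = 𝟙 _ := by
    apply CartesianMonoidalCategory.hom_ext
    · simp [σ, τ]
    · simp only [σ, τ, Category.assoc, lift_snd, Category.id_comp]
      rw [hμ, MonObj.comp_mul, lift_fst, lift_snd]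
      group
  have : IsIso σ.left :=
    ⟨τ.left, by rw [← Over.comp_left, h1]; rfl, by rw [← Over.comp_left, h2]; rfl⟩
  have hμ' : μ[G].left = σ.left ≫ (snd G G).left := by
    rw [← Over.comp_left, lift_snd]
  rw [hμ']
  exact (isOpenMap_snd G G).comp σ.left.isOpenEmbedding.isOpenMap

/-- `A × B` is compact for compact opens `A`, `B`. -/
lemma isCompact_fst_preimage_inter_snd_preimage [QuasiSeparatedSpace S] (A B : G.left.Opens)
    (hA : IsCompact (A : Set G.left)) (hB : IsCompact (B : Set G.left)) :
    IsCompact ((fst G G).left ⁻¹' (A : Set G.left) ∩ (snd G G).left ⁻¹' (B : Set G.left)) := by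
  have hrange := Scheme.Pullback.range_map (A.ι ≫ G.hom) (B.ι ≫ G.hom) G.hom G.hom A.ι B.ι (𝟙 _)
    (by simp) (by simp)
  have : CompactSpace A := isCompact_iff_compactSpace.mp hA
  have : CompactSpace B := isCompact_iff_compactSpace.mp hB
  have : QuasiCompact (B.ι ≫ G.hom) := inferInstance
  have : CompactSpace ↑(pullback (A.ι ≫ G.hom) (B.ι ≫ G.hom)) := inferInstance
  rw [Scheme.Opens.range_ι, Scheme.Opens.range_ι] at hrange
  rw [Over.fst_left, Over.snd_left, ← hrange]
  exact isCompact_range (Scheme.Hom.continuous _)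


end
section

variable {S : Scheme.{u}} {G : Over S} [GrpObj G]

/-- the "powers" `W, W·W, (W·W)·W, …` of a subset of a group scheme (on scheme points). -/
def pw (W : Set G.left) : ℕ → Set G.left
  | 0 => W
  | n + 1 => μ[G].left '' ((fst G G).left ⁻¹' (pw W n) ∩ (snd G G).left ⁻¹' W)

lemma isOpen_pw [BaseUO S] (W : G.left.Opens) (n : ℕ) : IsOpen (pw (W : Set G.left) n) := by
  induction n with
  | zero => exact W.isOpen
  | succ n ih =>
    exact isOpenMap_mul _ ((ih.preimage (fst G G).left.continuous).inter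
      (W.isOpen.preimage (snd G G).left.continuous))

lemma isCompact_pw [BaseUO S] [QuasiSeparatedSpace S] (W : G.left.Opens)
    (hW : IsCompact (W : Set G.left)) (n : ℕ) : IsCompact (pw (W : Set G.left) n) := by
  induction n with
  | zero => exact hW
  | succ n ih =>
    have := isCompact_fst_preimage_inter_snd_preimage (G := G) ⟨_, isOpen_pw W n⟩ W ih hW
    exact this.image μ[G].left.continuous

/-- the union of the powers of an open neighbourhood of the unit section is closed. -/
lemma isClosed_iUnion_pw [BaseUO S] (W : G.left.Opens)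
    (hW : Set.range η[G].left ⊆ (W : Set G.left)) :
    IsClosed (⋃ n, pw (W : Set G.left) n) := by
  rw [← closure_subset_iff_isClosed]
  intro g hg
  let P : Over S := Over.mk (G.left.fromSpecResidueField g ≫ G.hom)
  let gP : P ⟶ G := Over.homMk (G.left.fromSpecResidueField g) rfl
  let T : Over S := P ⊗ G
  let a : T ⟶ G := snd P G
  let g' : T ⟶ G := fst P G ≫ gP
  let b : T ⟶ G := a⁻¹ * g'
  have hopen_a : IsOpenMap a.left := isOpenMap_snd P G
  have hg'pt : ∀ t : T.left, g'.left t = g := by
    intro t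
    change (G.left.fromSpecResidueField g) ((fst P G).left t) = g
    exact Scheme.fromSpecResidueField_apply _ _
  obtain ⟨p₀⟩ : Nonempty P.left := by
    change Nonempty (Spec (G.left.residueField g))
    infer_instance
  let y₀ : T.left := (lift (𝟙 P) gP).left p₀
  have hy₀a : a.left y₀ = g := by
    change (lift (𝟙 P) gP ≫ a).left p₀ = g
    rw [lift_snd]
    exact Scheme.fromSpecResidueField_apply _ _
  have hy₀b : b.left y₀ ∈ (W : Set G.left) := by
    have : lift (𝟙 P) gP ≫ b = toUnit P ≫ η[G] := by
      simp only [b, a, g']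
      rw [MonObj.comp_mul, GrpObj.comp_inv, lift_snd, lift_fst_assoc, Category.id_comp,
        inv_mul_cancel, Hom.one_def]
    change (lift (𝟙 P) gP ≫ b).left p₀ ∈ (W : Set G.left)
    rw [this]
    exact hW ⟨_, rfl⟩
  have hN : IsOpen (a.left '' (b.left ⁻¹' (W : Set G.left))) :=
    hopen_a _ (W.isOpen.preimage b.left.continuous)
  have hgN : g ∈ a.left '' (b.left ⁻¹' (W : Set G.left)) := ⟨y₀, hy₀b, hy₀a⟩
  obtain ⟨u, ⟨t, htW, rfl⟩, hu⟩ := mem_closure_iff.mp hg _ hN hgN
  obtain ⟨n, hn⟩ := Set.mem_iUnion.mp hu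
  refine Set.mem_iUnion.mpr ⟨n + 1, ?_⟩
  have hab : a * b = g' := by simp only [b]; group
  refine ⟨(lift a b).left t, ⟨?_, ?_⟩, ?_⟩
  · change (lift a b ≫ fst G G).left t ∈ pw (W : Set G.left) n
    rw [lift_fst]; exact hn
  · change (lift a b ≫ snd G G).left t ∈ (W : Set G.left)
    rw [lift_snd]; exact htW
  · change (lift a b ≫ μ[G]).left t = g
    rw [← Hom.mul_def, hab, hg'pt]


end
section

variable {S : Scheme.{u}} {G : Over S} [GrpObj G]

/-- a countable union of compact opens is a countable union of affine opens -/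
lemma exists_affine_seq_of_isCompact_isOpen {X : Scheme.{u}} (A : ℕ → Set X)
    (hA : ∀ n, IsCompact (A n) ∧ IsOpen (A n)) :
    ∃ V : ℕ → X.Opens, (∀ n, IsAffineOpen (V n)) ∧ (⋃ n, A n) = ⋃ n, (V n : Set X) := by
  choose s hsfin hs using fun n =>
    isCompact_and_isOpen_iff_finite_and_eq_biUnion_affineOpens.mp (hA n)
  let 𝒜 : Set X.Opens := insert ⊥ (⋃ n, (fun i : X.affineOpens => (i : X.Opens)) '' s n)
  have h𝒜c : 𝒜.Countable :=
    (Set.countable_iUnion fun n => ((hsfin n).image _).countable).insert _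
  obtain ⟨V, hV⟩ := h𝒜c.exists_eq_range (Set.insert_nonempty _ _)
  have hmem : ∀ n, V n ∈ 𝒜 := fun n => hV ▸ ⟨n, rfl⟩
  refine ⟨V, fun n => ?_, ?_⟩
  · rcases hmem n with h | h
    · rw [h]; exact isAffineOpen_bot X
    · obtain ⟨m, i, -, hi⟩ := Set.mem_iUnion.mp h |>.imp fun m hm => hm
      rw [← hi]; exact i.2
  · apply Set.Subset.antisymm
    · intro x hx
      obtain ⟨n, hn⟩ := Set.mem_iUnion.mp hx
      rw [hs n] at hn
      obtain ⟨i, hi, hxi⟩ := Set.mem_iUnion₂.mp hn
      have : (i : X.Opens) ∈ 𝒜 := Or.inr (Set.mem_iUnion.mpr ⟨n, i, hi, rfl⟩)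
      rw [hV] at this
      obtain ⟨k, hk⟩ := this
      exact Set.mem_iUnion.mpr ⟨k, by rw [hk]; exact hxi⟩
    · intro x hx
      obtain ⟨k, hk⟩ := Set.mem_iUnion.mp hx
      rcases hmem k with h | h
      · rw [h] at hk; exact absurd hk (by simp)
      · obtain ⟨m, hm⟩ := Set.mem_iUnion.mp h
        obtain ⟨i, hi, hiV⟩ := hm
        refine Set.mem_iUnion.mpr ⟨m, ?_⟩
        rw [hs m]
        exact Set.mem_iUnion₂.mpr ⟨i, hi, by rw [← hiV] at hk; exact hk⟩

theorem exists_clopen_countable_union_affine (K : Type u) [Field K]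
    (G : Over (Spec (CommRingCat.of K))) [GrpObj G] :
    ∃ U : G.left.Opens, IsClosed (U : Set G.left) ∧
      η[G].left (IsLocalRing.closedPoint K) ∈ U ∧
      ∃ V : ℕ → G.left.Opens, (∀ n, IsAffineOpen (V n)) ∧
        (U : Set G.left) = ⋃ n, (V n : Set G.left) := by
  set e : G.left := η[G].left (IsLocalRing.closedPoint K) with he
  obtain ⟨_, ⟨(W : G.left.Opens), hWaff, rfl⟩, heW, -⟩ :=
    (G.left.isBasis_affineOpens).exists_subset_of_mem_open (Set.mem_univ e) isOpen_univ
  have hWaff : IsAffineOpen W := hWaff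
  have hrange : Set.range η[G].left ⊆ (W : Set G.left) := by
    rintro _ ⟨x, rfl⟩
    have hss : Subsingleton (PrimeSpectrum K) := inferInstance
    have : x = IsLocalRing.closedPoint K := @Subsingleton.elim _ hss _ _
    rw [this]; exact heW
  have hopen : IsOpen (⋃ n, pw (W : Set G.left) n) := isOpen_iUnion (isOpen_pw W)
  refine ⟨⟨_, hopen⟩, isClosed_iUnion_pw W hrange, ?_, ?_⟩
  · exact Set.mem_iUnion.mpr ⟨0, heW⟩
  · exact exists_affine_seq_of_isCompact_isOpen _
      (fun n => ⟨isCompact_pw W hWaff.isCompact n, isOpen_pw W n⟩)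


end

end Groth.Agent.Lib.Helper25.TopGrp
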