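import Mathlib
import Groth.Agent.Lib.Helper25TensorDomain
import Groth.Agent.Lib.Helper25TopGrp
import Groth.Agent.Lib.Helper8Grp

set_option autoImplicit false
set_option linter.unusedSectionVars false

namespace Groth.Agent.Lib.Helper25.IdComp

universe u

section part0
open CategoryTheory CategoryTheory.Limits MonoidalCategory CartesianMonoidalCategory MonObj GrpObj AlgebraicGeometry

open Groth.Agent.Lib.Helper25.TopGrp Groth.Agent.Lib.Helper25.TensorDomain

section prod
variable {k : Type u} [Field k] [IsAlgClosed k]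

/-- product of irreducible schemes over an algebraically closed field is irreducible -/
lemma irreducibleSpace_tensor (X Y : Over (Spec (CommRingCat.of k)))
    [IrreducibleSpace X.left] [IrreducibleSpace Y.left] : IrreducibleSpace (X ⊗ Y).left := by
  have : GeometricallyIrreducible X.hom := geometricallyIrreducible_of_isAlgClosed X.hom
  have : UniversallyOpen X.hom := inferInstance
  exact inferInstanceAs (IrreducibleSpace ↥(pullback X.hom Y.hom))

/-- the "box" of the ranges of two morphisms from irreducible schemes is irreducible. -/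
lemma isIrreducible_box {X Y X' Y' : Over (Spec (CommRingCat.of k))}
    [IrreducibleSpace X'.left] [IrreducibleSpace Y'.left] (i : X' ⟶ X) (j : Y' ⟶ Y) :
    IsIrreducible ((fst X Y).left ⁻¹' Set.range i.left ∩ (snd X Y).left ⁻¹' Set.range j.left) := by
  rw [← range_tensorHom]
  have := irreducibleSpace_tensor X' Y'
  rw [← Set.image_univ]
  exact (IrreducibleSpace.isIrreducible_univ _).image _ (i ⊗ₘ j).left.continuous.continuousOn

end prod

section sub
variable {S : Scheme.{u}}

/-- an irreducible subset `Z` of `X` is the range of a morphism from an irreducible scheme; when `Z`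
is closed the scheme is a closed subscheme. -/
lemma exists_hom_range_eq (X : Over S) (Z : Set X.left) (hZ : IsIrreducible Z)
    (hcl : IsClosed Z) :
    ∃ (Z' : Over S) (i : Z' ⟶ X), IrreducibleSpace Z'.left ∧ IsClosedImmersion i.left ∧
      Set.range i.left = Z := by
  let I := Scheme.IdealSheafData.vanishingIdeal ⟨Z, hcl⟩
  have hr : Set.range I.subschemeι = Z := by
    rw [Scheme.IdealSheafData.range_subschemeι, Scheme.IdealSheafData.coe_support_vanishingIdeal]
    rfl
  refine ⟨Over.mk (I.subschemeι ≫ X.hom), Over.homMk I.subschemeι rfl, ?_, ?_, hr⟩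
  · have h1 : IrreducibleSpace Z := Subtype.irreducibleSpace hZ
    let e : I.subscheme ≃ₜ Set.range I.subschemeι :=
      I.subschemeι.isEmbedding.toHomeomorph
    have h2 : IrreducibleSpace (Set.range I.subschemeι) := by rw [hr]; exact h1
    exact e.irreducibleSpace_iff.mpr h2
  · exact inferInstanceAs (IsClosedImmersion I.subschemeι)

end sub

end part0

section part1
open CategoryTheory CategoryTheory.Limits MonoidalCategory CartesianMonoidalCategory MonObj GrpObj AlgebraicGeometry

open Groth.Agent.Lib.Helper25.TopGrp Groth.Agent.Lib.Helper25.TensorDomain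

section basic
variable {k : Type u} [Field k] (G : Over (Spec (CommRingCat.of k))) [GrpObj G]

/-- the identity point -/
noncomputable def ePt : G.left := η[G].left (IsLocalRing.closedPoint k)

lemma one_left_apply {T : Over (Spec (CommRingCat.of k))} (t : T.left) :
    (1 : T ⟶ G).left t = ePt G := by
  rw [Hom.one_def, Over.comp_left, Scheme.Hom.comp_apply]
  congr 1
  exact Subsingleton.elim (α := Spec (CommRingCat.of k)) _ _

/-- pointwise product of subsets of a group scheme -/
def pmul (A B : Set G.left) : Set G.left :=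
  μ[G].left '' ((fst G G).left ⁻¹' A ∩ (snd G G).left ⁻¹' B)

variable {G}

lemma mul_left_apply_mem_pmul {T : Over (Spec (CommRingCat.of k))} (u v : T ⟶ G) (t : T.left)
    {A B : Set G.left} (hu : u.left t ∈ A) (hv : v.left t ∈ B) : (u * v).left t ∈ pmul G A B := by
  refine ⟨(lift u v).left t, ⟨?_, ?_⟩, ?_⟩
  · change ((lift u v).left ≫ (fst G G).left) t ∈ A
    rw [← Over.comp_left, lift_fst]; exact hu
  · change ((lift u v).left ≫ (snd G G).left) t ∈ B
    rw [← Over.comp_left, lift_snd]; exact hv
  · change ((lift u v).left ≫ μ[G].left) t = _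
    rw [← Over.comp_left, ← Hom.mul_def]

lemma mem_pmul_iff {A B : Set G.left} {g : G.left} :
    g ∈ pmul G A B ↔ ∃ (T : Over (Spec (CommRingCat.of k))) (u v : T ⟶ G) (t : T.left),
      u.left t ∈ A ∧ v.left t ∈ B ∧ (u * v).left t = g := by
  constructor
  · rintro ⟨w, ⟨h1, h2⟩, rfl⟩
    refine ⟨G ⊗ G, fst G G, snd G G, w, h1, h2, ?_⟩
    rw [Hom.mul_def, lift_fst_snd, Category.id_comp]
  · rintro ⟨T, u, v, t, h1, h2, rfl⟩
    exact mul_left_apply_mem_pmul u v t h1 h2

lemma subset_pmul_right {A B : Set G.left} (hB : ePt G ∈ B) : A ⊆ pmul G A B := by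
  intro a ha
  have := mul_left_apply_mem_pmul (𝟙 G) (1 : G ⟶ G) a (A := A) (B := B) ha
    (by rw [one_left_apply]; exact hB)
  rwa [_root_.mul_one] at this

lemma subset_pmul_left {A B : Set G.left} (hA : ePt G ∈ A) : B ⊆ pmul G A B := by
  intro b hb
  have := mul_left_apply_mem_pmul (1 : G ⟶ G) (𝟙 G) b (A := A) (B := B)
    (by rw [one_left_apply]; exact hA) hb
  rwa [_root_.one_mul] at this

end basic

section idcomp
variable {k : Type u} [Field k] [IsAlgClosed k] {G : Over (Spec (CommRingCat.of k))} [GrpObj G]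

lemma isIrreducible_pmul {A B : Set G.left} (hA : IsIrreducible A) (hB : IsIrreducible B)
    (hAc : IsClosed A) (hBc : IsClosed B) : IsIrreducible (pmul G A B) := by
  obtain ⟨A', i, _, -, rfl⟩ := exists_hom_range_eq G A hA hAc
  obtain ⟨B', j, _, -, rfl⟩ := exists_hom_range_eq G B hB hBc
  exact (isIrreducible_box i j).image _ μ[G].left.continuous.continuousOn

/-- over an algebraically closed field exactly one irreducible component passes through `e`. -/
theorem irreducibleComponent_unique {Z₁ Z₂ : Set G.left} (h₁ : Z₁ ∈ irreducibleComponents G.left)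
    (h₂ : Z₂ ∈ irreducibleComponents G.left) (he₁ : ePt G ∈ Z₁) (he₂ : ePt G ∈ Z₂) : Z₁ = Z₂ := by
  have hM := isIrreducible_pmul h₁.1 h₂.1 (isClosed_of_mem_irreducibleComponents _ h₁)
    (isClosed_of_mem_irreducibleComponents _ h₂)
  have e1 : Z₁ = pmul G Z₁ Z₂ := le_antisymm (subset_pmul_right he₂) (h₁.2 hM (subset_pmul_right he₂))
  have e2 : Z₂ = pmul G Z₁ Z₂ := le_antisymm (subset_pmul_left he₁) (h₂.2 hM (subset_pmul_left he₁))
  rw [e1, ← e2]

end idcomp

end part1

section part2
open CategoryTheory CategoryTheory.Limits MonoidalCategory CartesianMonoidalCategory MonObj GrpObj AlgebraicGeometry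

open Groth.Agent.Lib.Helper25.TopGrp Groth.Agent.Lib.Helper25.TensorDomain

section refine
variable {S : Scheme.{u}} {G : Over S}

/-- common refinement of two "`T`-points with a marked point" having the same image. -/
lemma exists_refinement {T₁ T₂ : Over S} (u₁ : T₁ ⟶ G) (u₂ : T₂ ⟶ G) (t₁ : T₁.left) (t₂ : T₂.left)
    (h : u₁.left t₁ = u₂.left t₂) :
    ∃ (T : Over S) (f₁ : T ⟶ T₁) (f₂ : T ⟶ T₂) (t : T.left),
      f₁.left t = t₁ ∧ f₂.left t = t₂ ∧ f₁ ≫ u₁ = f₂ ≫ u₂ := by
  obtain ⟨q, hq1, hq2⟩ := Scheme.Pullback.exists_preimage_pullback (f := u₁.left) (g := u₂.left)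
    t₁ t₂ h
  refine ⟨Over.mk (pullback.fst u₁.left u₂.left ≫ T₁.hom),
    Over.homMk (pullback.fst u₁.left u₂.left) rfl,
    Over.homMk (pullback.snd u₁.left u₂.left) ?_, q, hq1, hq2, ?_⟩
  · simp only [Over.mk_hom]
    rw [← Over.w u₂, ← Category.assoc, ← pullback.condition, Category.assoc, Over.w u₁]
  · ext
    simp only [Over.comp_left, Over.homMk_left]
    exact pullback.condition

end refine

section idcomp
variable {k : Type u} [Field k] [IsAlgClosed k] (G : Over (Spec (CommRingCat.of k))) [GrpObj G]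

/-- the identity component: the irreducible component through the identity point -/
noncomputable def idComp : Set G.left := irreducibleComponent (ePt G)

lemma ePt_mem_idComp : ePt G ∈ idComp G := mem_irreducibleComponent
lemma isClosed_idComp : IsClosed (idComp G) := isClosed_irreducibleComponent
lemma isIrreducible_idComp : IsIrreducible (idComp G) := isIrreducible_irreducibleComponent

variable {G}

lemma subset_idComp {A : Set G.left} (hA : IsIrreducible A) (he : ePt G ∈ A) : A ⊆ idComp G := by
  obtain ⟨u, hu, hAu⟩ := exists_mem_irreducibleComponents_subset_of_isIrreducible A hA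
  rw [irreducibleComponent_unique hu (irreducibleComponent_mem_irreducibleComponents (ePt G))
    (hAu he) mem_irreducibleComponent] at hAu
  exact hAu

lemma pmul_idComp_subset : pmul G (idComp G) (idComp G) ⊆ idComp G :=
  subset_idComp (isIrreducible_pmul (isIrreducible_idComp G) (isIrreducible_idComp G)
    (isClosed_idComp G) (isClosed_idComp G)) (subset_pmul_right (ePt_mem_idComp G) (ePt_mem_idComp G))

lemma inv_left_ePt : ι[G].left (ePt G) = ePt G := by
  have h : ((1 : G ⟶ G)⁻¹).left (ePt G) = ePt G := by rw [inv_one, one_left_apply]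
  rw [Hom.inv_def, Over.comp_left, Scheme.Hom.comp_apply, one_left_apply] at h
  exact h

lemma inv_image_idComp_subset : ι[G].left '' idComp G ⊆ idComp G :=
  subset_idComp ((isIrreducible_idComp G).image _ ι[G].left.continuous.continuousOn)
    ⟨_, ePt_mem_idComp G, inv_left_ePt⟩

/-- `T`-points landing in the identity component at a marked point form a subgroup -/
def ptSubgroup (T : Over (Spec (CommRingCat.of k))) (t : T.left) : Subgroup (T ⟶ G) where
  carrier := {u | u.left t ∈ idComp G}
  mul_mem' {u v} hu hv := pmul_idComp_subset (mul_left_apply_mem_pmul u v t hu hv)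
  one_mem' := by
    show (1 : T ⟶ G).left t ∈ idComp G
    rw [one_left_apply]; exact ePt_mem_idComp G
  inv_mem' {u} hu := by
    show (u⁻¹).left t ∈ idComp G
    rw [Hom.inv_def, Over.comp_left, Scheme.Hom.comp_apply]
    exact inv_image_idComp_subset ⟨_, hu, rfl⟩

lemma mem_ptSubgroup {T : Over (Spec (CommRingCat.of k))} {t : T.left} {u : T ⟶ G} :
    u ∈ ptSubgroup T t ↔ u.left t ∈ idComp G := Iff.rfl

lemma comp_mem_ptSubgroup {T T' : Over (Spec (CommRingCat.of k))} (f : T' ⟶ T) (t' : T'.left)
    {u : T ⟶ G} (hu : u ∈ ptSubgroup T (f.left t')) : f ≫ u ∈ ptSubgroup T' t' := by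
  rw [mem_ptSubgroup, Over.comp_left, Scheme.Hom.comp_apply]
  exact hu

/-- saturation with respect to the identity component: `A · Z` -/
def sat (A : Set G.left) : Set G.left := pmul G A (idComp G)

lemma mem_sat_iff {A : Set G.left} {g : G.left} :
    g ∈ sat A ↔ ∃ (T : Over (Spec (CommRingCat.of k))) (u z : T ⟶ G) (t : T.left),
      u.left t ∈ A ∧ z ∈ ptSubgroup T t ∧ (u * z).left t = g := mem_pmul_iff

lemma subset_sat (A : Set G.left) : A ⊆ sat A := subset_pmul_right (ePt_mem_idComp G)

lemma sat_mono {A B : Set G.left} (h : A ⊆ B) : sat A ⊆ sat B := by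
  intro g hg
  obtain ⟨T, u, z, t, h1, h2, h3⟩ := mem_sat_iff.mp hg
  exact mem_sat_iff.mpr ⟨T, u, z, t, h h1, h2, h3⟩

lemma sat_sat (A : Set G.left) : sat (sat A) = sat A := by
  apply le_antisymm _ (subset_sat _)
  intro g hg
  obtain ⟨T₁, u₁, z₁, t₁, h1, h2, rfl⟩ := mem_sat_iff.mp hg
  obtain ⟨T₂, u₂, z₂, t₂, h1', h2', h3'⟩ := mem_sat_iff.mp h1
  obtain ⟨T, f₁, f₂, t, rfl, rfl, hf⟩ := exists_refinement u₁ (u₂ * z₂) t₁ t₂ h3'.symm
  refine mem_sat_iff.mpr ⟨T, f₂ ≫ u₂, (f₂ ≫ z₂) * (f₁ ≫ z₁), t, ?_, ?_, ?_⟩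
  · rw [Over.comp_left, Scheme.Hom.comp_apply]; exact h1'
  · exact mul_mem (comp_mem_ptSubgroup f₂ t h2') (comp_mem_ptSubgroup f₁ t h2)
  · rw [← _root_.mul_assoc, ← MonObj.comp_mul, ← hf, ← MonObj.comp_mul, Over.comp_left,
      Scheme.Hom.comp_apply]

/-- symmetry of the relation defined by `sat` -/
lemma sat_inter_nonempty_symm {A B : Set G.left} (h : (sat A ∩ B).Nonempty) :
    (A ∩ sat B).Nonempty := by
  obtain ⟨g, hg, hgB⟩ := h
  obtain ⟨T, u, z, t, h1, h2, rfl⟩ := mem_sat_iff.mp hg
  refine ⟨u.left t, h1, mem_sat_iff.mpr ⟨T, u * z, z⁻¹, t, hgB, inv_mem h2, ?_⟩⟩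
  rw [mul_inv_cancel_right]

lemma sat_compl_of_sat_eq {A : Set G.left} (h : sat A = A) : sat Aᶜ = Aᶜ := by
  apply le_antisymm _ (subset_sat _)
  intro g hg
  by_contra hgA
  rw [Set.mem_compl_iff, not_not] at hgA
  obtain ⟨x, hx1, hx2⟩ := sat_inter_nonempty_symm (A := Aᶜ) (B := A) ⟨g, hg, hgA⟩
  rw [h] at hx2
  exact hx1 hx2

end idcomp

end part2

section part3
open CategoryTheory CategoryTheory.Limits MonoidalCategory CartesianMonoidalCategory MonObj GrpObj AlgebraicGeometry

open Groth.Agent.Lib.Helper25.TopGrp Groth.Agent.Lib.Helper25.TensorDomain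

section pts
variable {k : Type u} [Field k]

/-- points of a product over a field with prescribed projections -/
lemma exists_tensor_point (X Y : Over (Spec (CommRingCat.of k))) (x : X.left) (y : Y.left) :
    ∃ w : (X ⊗ Y).left, (fst X Y).left w = x ∧ (snd X Y).left w = y := by
  obtain ⟨w, h1, h2⟩ := Scheme.Pullback.exists_preimage_pullback (f := X.hom) (g := Y.hom) x y
    (Subsingleton.elim (α := Spec (CommRingCat.of k)) _ _)
  exact ⟨w, by rw [Over.fst_left]; exact h1, by rw [Over.snd_left]; exact h2⟩

variable {G : Over (Spec (CommRingCat.of k))} [GrpObj G]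

lemma pmul_range_range {X H : Over (Spec (CommRingCat.of k))} (j : X ⟶ G) (i : H ⟶ G) :
    pmul G (Set.range j.left) (Set.range i.left) = Set.range ((j ⊗ₘ i) ≫ μ[G]).left := by
  rw [pmul, ← range_tensorHom, Over.comp_left, Scheme.Hom.comp_base, TopCat.coe_comp,
    Set.range_comp]

lemma pmul_range_eq {H : Over (Spec (CommRingCat.of k))} (A : Set G.left) (i : H ⟶ G) :
    pmul G A (Set.range i.left) = ((G ◁ i) ≫ μ[G]).left '' ((fst G H).left ⁻¹' A) := by
  rw [pmul, ← range_whiskerLeft]
  ext g
  constructor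
  · rintro ⟨w, ⟨h1, ⟨v, rfl⟩⟩, rfl⟩
    refine ⟨v, ?_, rfl⟩
    change (fst G H).left v ∈ A
    have : (fst G H) = (G ◁ i) ≫ fst G G := by simp
    rw [this]
    exact h1
  · rintro ⟨v, hv, rfl⟩
    refine ⟨(G ◁ i).left v, ⟨?_, ⟨v, rfl⟩⟩, rfl⟩
    change ((G ◁ i) ≫ fst G G).left v ∈ A
    have : (G ◁ i) ≫ fst G G = fst G H := by simp
    rw [this]
    exact hv

lemma isOpenMap_whiskerLeft_mul {H : Over (Spec (CommRingCat.of k))} (i : H ⟶ G) :
    IsOpenMap ((G ◁ i) ≫ μ[G]).left := by
  let m : G ⊗ H ⟶ G := fst G H * (snd G H ≫ i)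
  have hm : (G ◁ i) ≫ μ[G] = m := by
    simp only [m]
    rw [Hom.mul_def]
    congr 1
  let σ : G ⊗ H ⟶ G ⊗ H := lift m (snd G H)
  let τ : G ⊗ H ⟶ G ⊗ H := lift (fst G H * (snd G H ≫ i)⁻¹) (snd G H)
  have h1 : σ ≫ τ = 𝟙 _ := by
    apply CartesianMonoidalCategory.hom_ext
    · simp only [σ, τ, Category.assoc, lift_fst, Category.id_comp]
      rw [MonObj.comp_mul, GrpObj.comp_inv, lift_fst, ← Category.assoc, lift_snd]
      simp only [m]; group
    · simp [σ, τ]
  have h2 : τ ≫ σ = 𝟙 _ := by
    apply CartesianMonoidalCategory.hom_ext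
    · simp only [σ, τ, Category.assoc, lift_fst, Category.id_comp]
      simp only [m]
      rw [MonObj.comp_mul, lift_fst, ← Category.assoc, lift_snd]
      group
    · simp [σ, τ]
  have : IsIso σ.left :=
    ⟨τ.left, by rw [← Over.comp_left, h1]; rfl, by rw [← Over.comp_left, h2]; rfl⟩
  have hσ : m.left = σ.left ≫ (fst G H).left := by rw [← Over.comp_left, lift_fst]
  rw [hm, hσ]
  exact (isOpenMap_fst G H).comp σ.left.isOpenEmbedding.isOpenMap

end pts

section idcomp
variable {k : Type u} [Field k] [IsAlgClosed k] {G : Over (Spec (CommRingCat.of k))} [GrpObj G]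

lemma isOpen_sat {A : Set G.left} (hA : IsOpen A) : IsOpen (sat A) := by
  obtain ⟨Z', i, _, -, hr⟩ := exists_hom_range_eq G (idComp G) (isIrreducible_idComp G)
    (isClosed_idComp G)
  rw [sat, ← hr, pmul_range_eq]
  exact isOpenMap_whiskerLeft_mul i _ (hA.preimage (fst G Z').left.continuous)

end idcomp

end part3

section part4
open CategoryTheory CategoryTheory.Limits MonoidalCategory CartesianMonoidalCategory MonObj GrpObj AlgebraicGeometry

open Groth.Agent.Lib.Helper25.TopGrp Groth.Agent.Lib.Helper25.TensorDomain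

section ptobj
variable {k : Type u} [Field k] {G : Over (Spec (CommRingCat.of k))}

/-- the spectrum of the residue field at a point, as an object over the base -/
noncomputable def ptObj (y : G.left) : Over (Spec (CommRingCat.of k)) :=
  Over.mk (G.left.fromSpecResidueField y ≫ G.hom)

/-- the point as a morphism -/
noncomputable def ptHom (y : G.left) : ptObj y ⟶ G :=
  Over.homMk (G.left.fromSpecResidueField y) rfl

lemma ptHom_left_apply (y : G.left) (p : (ptObj y).left) : (ptHom y).left p = y :=
  Scheme.fromSpecResidueField_apply _ _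

instance (y : G.left) : IrreducibleSpace (ptObj y).left :=
  inferInstanceAs (IrreducibleSpace (Spec (G.left.residueField y)))

instance (y : G.left) : CompactSpace (ptObj y).left :=
  inferInstanceAs (CompactSpace (Spec (G.left.residueField y)))

instance (y : G.left) : Nonempty (ptObj y).left :=
  inferInstanceAs (Nonempty (Spec (G.left.residueField y)))

lemma range_ptHom (y : G.left) : Set.range (ptHom y).left = {y} := by
  ext g
  constructor
  · rintro ⟨p, rfl⟩; exact ptHom_left_apply y p
  · intro hg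
    rw [Set.mem_singleton_iff] at hg
    obtain ⟨p⟩ : Nonempty (ptObj y).left := inferInstance
    exact ⟨p, (ptHom_left_apply y p).trans hg.symm⟩

end ptobj

section idcomp
variable {k : Type u} [Field k] [IsAlgClosed k] {G : Over (Spec (CommRingCat.of k))} [GrpObj G]

lemma isIrreducible_sat_singleton (y : G.left) : IsIrreducible (sat ({y} : Set G.left)) := by
  obtain ⟨Z', i, _, -, hr⟩ := exists_hom_range_eq G (idComp G) (isIrreducible_idComp G)
    (isClosed_idComp G)
  rw [sat, ← hr, ← range_ptHom, pmul_range_range]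
  have := irreducibleSpace_tensor (ptObj y) Z'
  rw [← Set.image_univ]
  exact (IrreducibleSpace.isIrreducible_univ _).image _
    ((ptHom y ⊗ₘ i) ≫ μ[G]).left.continuous.continuousOn

/-- key lemma: if `η` is the generic point of an irreducible component through `y` then `η ∈ y·Z`;
moreover `η` is determined by `y`. -/
lemma exists_genericPoint_mem_sat (y : G.left) :
    ∃ g₀ : G.left, g₀ ∈ sat ({y} : Set G.left) ∧
      ∀ M ∈ irreducibleComponents G.left, y ∈ M → IsGenericPoint g₀ M := by
  let P := ptObj y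
  let T : Over (Spec (CommRingCat.of k)) := P ⊗ G
  let a : T ⟶ G := snd P G
  let y' : T ⟶ G := fst P G ≫ ptHom y
  let b : T ⟶ G := y'⁻¹ * a
  let ψ : T ⟶ T := lift (fst P G) (y' * a)
  have hy' : ∀ t : T.left, y'.left t = y := fun t => ptHom_left_apply y _
  -- `ψ ≫ b = a`
  have hψb : ψ ≫ b = a := by
    simp only [b, ψ, y', a]
    rw [MonObj.comp_mul, GrpObj.comp_inv, lift_snd, ← Category.assoc, lift_fst]
    group
  -- the closed irreducible set `N = b⁻¹ Z`
  let N : Set T.left := b.left ⁻¹' idComp G
  have hNcl : IsClosed N := (isClosed_idComp G).preimage b.left.continuous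
  obtain ⟨Z', i, _, -, hr⟩ := exists_hom_range_eq G (idComp G) (isIrreducible_idComp G)
    (isClosed_idComp G)
  have hZT : IsIrreducible (a.left ⁻¹' idComp G) := by
    rw [← hr, ← range_whiskerLeft]
    have := irreducibleSpace_tensor P Z'
    rw [← Set.image_univ]
    exact (IrreducibleSpace.isIrreducible_univ _).image _ (P ◁ i).left.continuous.continuousOn
  let φ : T ⟶ T := lift (fst P G) b
  have hφa : φ ≫ a = b := lift_snd _ _
  have hφψ : φ ≫ ψ = 𝟙 T := by
    apply CartesianMonoidalCategory.hom_ext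
    · simp [φ, ψ]
    · change (φ ≫ ψ) ≫ a = 𝟙 T ≫ a
      have e1 : ψ ≫ a = y' * a := lift_snd _ _
      have e2 : φ ≫ y' = y' := by simp only [φ, y']; rw [← Category.assoc, lift_fst]
      rw [Category.assoc, e1, MonObj.comp_mul, e2, hφa, Category.id_comp]
      simp only [b]; group
  have hNeq : N = ψ.left '' (a.left ⁻¹' idComp G) := by
    ext t
    constructor
    · intro ht
      refine ⟨φ.left t, ?_, ?_⟩
      · change (φ ≫ a).left t ∈ idComp G
        rw [hφa]; exact ht
      · change (φ ≫ ψ).left t = t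
        rw [hφψ]; rfl
    · rintro ⟨s, hs, rfl⟩
      change (ψ ≫ b).left s ∈ idComp G
      rw [hψb]; exact hs
  have hNirr : IsIrreducible N := by
    rw [hNeq]; exact hZT.image _ ψ.left.continuous.continuousOn
  let ζ := hNirr.genericPoint
  have hζ : IsGenericPoint ζ N := hNirr.isGenericPoint_genericPoint hNcl
  -- the marked point
  obtain ⟨p₀⟩ : Nonempty P.left := inferInstance
  let ty : T.left := (lift (𝟙 P) (ptHom y)).left p₀
  have haty : a.left ty = y := by
    change (lift (𝟙 P) (ptHom y) ≫ a).left p₀ = y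
    rw [lift_snd]; exact ptHom_left_apply y _
  have hbty : b.left ty = ePt G := by
    have : lift (𝟙 P) (ptHom y) ≫ b = 1 := by
      simp only [b, a, y']
      rw [MonObj.comp_mul, GrpObj.comp_inv, lift_snd, lift_fst_assoc, Category.id_comp,
        inv_mul_cancel]
    change (lift (𝟙 P) (ptHom y) ≫ b).left p₀ = ePt G
    rw [this, one_left_apply]
  have hflat : Flat a.left := by
    rw [Over.snd_left]
    infer_instance
  have hgen : GeneralizingMap a.left := Flat.generalizingMap a.left
  refine ⟨a.left ζ, ?_, ?_⟩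
  · -- `a ζ ∈ y Z`
    have hbζ : b ∈ ptSubgroup T ζ := hζ.mem
    refine mem_sat_iff.mpr ⟨T, y', b, ζ, hy' ζ, hbζ, ?_⟩
    simp only [b]; rw [mul_inv_cancel_left]
  · intro M hM hyM
    have hMcl := isClosed_of_mem_irreducibleComponents _ hM
    let gm := hM.1.genericPoint
    have hη : IsGenericPoint gm M := hM.1.isGenericPoint_genericPoint hMcl
    have hηy : gm ⤳ a.left ty := by rw [haty]; exact hη.specializes hyM
    obtain ⟨ζ₁, hζ₁, hζ₁a⟩ := hgen hηy
    -- `ζ₁ ∈ N`
    have hζ₁N : ζ₁ ∈ N := by
      have h1 : b.left ζ₁ ⤳ b.left ty := hζ₁.map b.left.continuous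
      rw [hbty] at h1
      have h2 : ePt G ∈ closure ({b.left ζ₁} : Set G.left) := h1.mem_closure
      exact subset_idComp isIrreducible_singleton.closure h2 (subset_closure rfl)
    have h3 : ζ ⤳ ζ₁ := hζ.specializes hζ₁N
    have h4 : a.left ζ ⤳ gm := by
      rw [← hζ₁a]; exact h3.map a.left.continuous
    -- minimality of `η`
    have h6 : M ⊆ closure ({a.left ζ} : Set G.left) := by
      rw [← hη.def]
      exact h4.closure_subset
    exact le_antisymm (hM.2 isIrreducible_singleton.closure h6) h6
  
end idcomp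

end part4

section part5
open CategoryTheory CategoryTheory.Limits MonoidalCategory CartesianMonoidalCategory MonObj GrpObj AlgebraicGeometry

open Groth.Agent.Lib.Helper25.TopGrp Groth.Agent.Lib.Helper25.TensorDomain

section idcomp
variable {k : Type u} [Field k] [IsAlgClosed k] {G : Over (Spec (CommRingCat.of k))} [GrpObj G]

/-- over an algebraically closed field every point of a group scheme lies on exactly one
irreducible component. -/
theorem irreducibleComponent_unique_of_mem {M₁ M₂ : Set G.left}
    (h₁ : M₁ ∈ irreducibleComponents G.left) (h₂ : M₂ ∈ irreducibleComponents G.left) (y : G.left)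
    (hy₁ : y ∈ M₁) (hy₂ : y ∈ M₂) : M₁ = M₂ := by
  obtain ⟨g₀, -, hg⟩ := exists_genericPoint_mem_sat y
  rw [← (hg M₁ h₁ hy₁).def, ← (hg M₂ h₂ hy₂).def]

lemma mem_sat_singleton_symm {x y : G.left} (h : x ∈ sat ({y} : Set G.left)) :
    y ∈ sat ({x} : Set G.left) := by
  obtain ⟨z, hz1, hz2⟩ := sat_inter_nonempty_symm (A := {y}) (B := {x}) ⟨x, h, rfl⟩
  rw [Set.mem_singleton_iff] at hz1
  rwa [hz1] at hz2

/-- the classes `y · Z` are exactly the irreducible components. -/
theorem sat_singleton_eq {M : Set G.left} (hM : M ∈ irreducibleComponents G.left) {y : G.left}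
    (hy : y ∈ M) : sat ({y} : Set G.left) = M := by
  apply le_antisymm
  · obtain ⟨M', hM', hsub⟩ := exists_mem_irreducibleComponents_subset_of_isIrreducible _
      (isIrreducible_sat_singleton y)
    have hyM' : y ∈ M' := hsub (subset_sat _ rfl)
    rw [irreducibleComponent_unique_of_mem hM hM' y hy hyM']
    exact hsub
  · intro y₂ hy₂
    obtain ⟨g₀, hg₀, hg⟩ := exists_genericPoint_mem_sat y
    obtain ⟨g₁, hg₁, hg'⟩ := exists_genericPoint_mem_sat y₂
    have : g₀ = g₁ := (hg M hM hy).eq (hg' M hM hy₂)
    rw [← this] at hg₁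
    have h1 : y₂ ∈ sat ({g₀} : Set G.left) := mem_sat_singleton_symm hg₁
    have h2 : sat ({g₀} : Set G.left) ⊆ sat (sat {y}) :=
      sat_mono (Set.singleton_subset_iff.mpr hg₀)
    rw [sat_sat] at h2
    exact h2 h1

lemma sat_singleton_eq_irreducibleComponent (y : G.left) :
    sat ({y} : Set G.left) = irreducibleComponent y :=
  sat_singleton_eq (irreducibleComponent_mem_irreducibleComponents y) mem_irreducibleComponent

lemma isClosed_sat_singleton (y : G.left) : IsClosed (sat ({y} : Set G.left)) := by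
  rw [sat_singleton_eq_irreducibleComponent]; exact isClosed_irreducibleComponent

lemma sat_singleton_ePt : sat ({ePt G} : Set G.left) = idComp G :=
  sat_singleton_eq_irreducibleComponent _

lemma sat_idComp : sat (idComp G) = idComp G := by
  rw [← sat_singleton_ePt, sat_sat]

lemma sat_sat_singleton (y : G.left) : sat (sat ({y} : Set G.left)) = sat {y} := sat_sat _

/-- two classes are equal or disjoint -/
lemma sat_singleton_eq_of_mem {x y : G.left} (h : x ∈ sat ({y} : Set G.left)) :
    sat ({x} : Set G.left) = sat {y} := by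
  apply le_antisymm
  · have := sat_mono (Set.singleton_subset_iff.mpr h)
    rwa [sat_sat] at this
  · have := sat_mono (Set.singleton_subset_iff.mpr (mem_sat_singleton_symm h))
    rwa [sat_sat] at this

lemma sat_eq_iUnion (A : Set G.left) : sat A = ⋃ a ∈ A, sat ({a} : Set G.left) := by
  ext g
  simp only [Set.mem_iUnion]
  constructor
  · intro hg
    obtain ⟨T, u, z, t, h1, h2, h3⟩ := mem_sat_iff.mp hg
    exact ⟨u.left t, h1, mem_sat_iff.mpr ⟨T, u, z, t, rfl, h2, h3⟩⟩
  · rintro ⟨a, ha, hg⟩
    exact sat_mono (Set.singleton_subset_iff.mpr ha) hg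

end idcomp

end part5

section part6
open CategoryTheory CategoryTheory.Limits MonoidalCategory CartesianMonoidalCategory MonObj GrpObj AlgebraicGeometry

open Groth.Agent.Lib.Helper25.TopGrp Groth.Agent.Lib.Helper25.TensorDomain

section idcomp
variable {k : Type u} [Field k] [IsAlgClosed k] {G : Over (Spec (CommRingCat.of k))} [GrpObj G]

/-- `Z ⊆ (U ∩ Z) · (U ∩ Z)` for an open `U` meeting `Z`. -/
lemma idComp_subset_pmul_inter (U : Set G.left) (hU : IsOpen U) (hne : (U ∩ idComp G).Nonempty) :
    idComp G ⊆ pmul G (U ∩ idComp G) (U ∩ idComp G) := by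
  intro g hg
  let P := ptObj g
  let T : Over (Spec (CommRingCat.of k)) := P ⊗ G
  let a : T ⟶ G := snd P G
  let g' : T ⟶ G := fst P G ≫ ptHom g
  let b : T ⟶ G := a⁻¹ * g'
  let φ : T ⟶ T := lift (fst P G) b
  let ψ : T ⟶ T := lift (fst P G) (g' * a⁻¹)
  have hg' : ∀ t : T.left, g'.left t = g := fun t => ptHom_left_apply g _
  have hφa : φ ≫ a = b := lift_snd _ _
  have hψg : ψ ≫ g' = g' := by simp only [ψ, g']; rw [← Category.assoc, lift_fst]
  have hψb : ψ ≫ b = a := by
    have e1 : ψ ≫ a = g' * a⁻¹ := lift_snd _ _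
    simp only [b]
    rw [MonObj.comp_mul, GrpObj.comp_inv, e1, hψg]
    group
  obtain ⟨Z', i, _, -, hr⟩ := exists_hom_range_eq G (idComp G) (isIrreducible_idComp G)
    (isClosed_idComp G)
  have hZT : IsIrreducible (a.left ⁻¹' idComp G) := by
    rw [← hr, ← range_whiskerLeft]
    have := irreducibleSpace_tensor P Z'
    rw [← Set.image_univ]
    exact (IrreducibleSpace.isIrreducible_univ _).image _ (P ◁ i).left.continuous.continuousOn
  -- `b` maps `Z_T` into `Z`
  have hbZ : ∀ t : T.left, a.left t ∈ idComp G → b.left t ∈ idComp G := by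
    intro t ht
    have h1 : a ∈ ptSubgroup T t := ht
    have h2 : g' ∈ ptSubgroup T t := by rw [mem_ptSubgroup, hg']; exact hg
    exact mul_mem (inv_mem h1) h2
  obtain ⟨z₀, hz₀U, hz₀Z⟩ := hne
  obtain ⟨p₀⟩ : Nonempty P.left := inferInstance
  obtain ⟨t₀, -, ht₀⟩ := exists_tensor_point P G p₀ z₀
  have hO1 : IsOpen (a.left ⁻¹' U) := hU.preimage a.left.continuous
  have hO2 : IsOpen (b.left ⁻¹' U) := hU.preimage b.left.continuous
  have hne1 : (a.left ⁻¹' idComp G ∩ a.left ⁻¹' U).Nonempty :=
    ⟨t₀, by rw [Set.mem_preimage, ht₀]; exact hz₀Z, by rw [Set.mem_preimage, ht₀]; exact hz₀U⟩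
  have hne2 : (a.left ⁻¹' idComp G ∩ b.left ⁻¹' U).Nonempty := by
    refine ⟨ψ.left t₀, ?_, ?_⟩
    · -- `a (ψ t₀) = g * (a t₀)⁻¹ ∈ Z`
      change (ψ ≫ a).left t₀ ∈ idComp G
      have e1 : ψ ≫ a = g' * a⁻¹ := lift_snd _ _
      rw [e1]
      have h1 : a ∈ ptSubgroup T t₀ := by rw [mem_ptSubgroup, ht₀]; exact hz₀Z
      have h2 : g' ∈ ptSubgroup T t₀ := by rw [mem_ptSubgroup, hg']; exact hg
      exact mul_mem h2 (inv_mem h1)
    · change (ψ ≫ b).left t₀ ∈ U
      rw [hψb, ht₀]; exact hz₀U
  obtain ⟨t, htZ, htU1, htU2⟩ := hZT.2 _ _ hO1 hO2 hne1 hne2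
  have hab : a * b = g' := by simp only [b]; group
  have := mul_left_apply_mem_pmul a b t (A := U ∩ idComp G) (B := U ∩ idComp G)
    ⟨htU1, htZ⟩ ⟨htU2, hbZ t htZ⟩
  rwa [hab, hg'] at this

/-- the identity component is quasi-compact -/
theorem isCompact_idComp : IsCompact (idComp G) := by
  obtain ⟨_, ⟨(U : G.left.Opens), hU, rfl⟩, heU, -⟩ :=
    (G.left.isBasis_affineOpens).exists_subset_of_mem_open (Set.mem_univ (ePt G)) isOpen_univ
  have hU : IsAffineOpen U := hU
  have hsub := idComp_subset_pmul_inter (U : Set G.left) U.isOpen ⟨ePt G, heU, ePt_mem_idComp G⟩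
  have hUc : IsCompact (U : Set G.left) := hU.isCompact
  have hc1 := isCompact_fst_preimage_inter_snd_preimage (G := G) U U hUc hUc
  have hcl : IsClosed ((fst G G).left ⁻¹' idComp G ∩ (snd G G).left ⁻¹' idComp G) :=
    ((isClosed_idComp G).preimage (fst G G).left.continuous).inter
      ((isClosed_idComp G).preimage (snd G G).left.continuous)
  have hc2 := hc1.inter_right hcl
  have heq : idComp G = μ[G].left '' (((fst G G).left ⁻¹' (U : Set G.left) ∩
      (snd G G).left ⁻¹' (U : Set G.left)) ∩ ((fst G G).left ⁻¹' idComp G ∩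
      (snd G G).left ⁻¹' idComp G)) := by
    apply le_antisymm
    · intro g hg
      obtain ⟨w, ⟨⟨h1, h2⟩, ⟨h3, h4⟩⟩, rfl⟩ := hsub hg
      exact ⟨w, ⟨⟨h1, h3⟩, ⟨h2, h4⟩⟩, rfl⟩
    · rintro _ ⟨w, ⟨-, ⟨h3, h4⟩⟩, rfl⟩
      exact pmul_idComp_subset ⟨w, ⟨h3, h4⟩, rfl⟩
  rw [heq]
  exact hc2.image μ[G].left.continuous

end idcomp

end part6

section part7
open CategoryTheory CategoryTheory.Limits MonoidalCategory CartesianMonoidalCategory MonObj GrpObj AlgebraicGeometry

open Groth.Agent.Lib.Helper25.TopGrp Groth.Agent.Lib.Helper25.TensorDomain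

section general
variable {X : Scheme.{u}}

/-- between a compact set and an open neighbourhood of it there is a compact open. -/
lemma exists_isCompact_opens_between (Z O : Set X) (hZ : IsCompact Z) (hO : IsOpen O)
    (h : Z ⊆ O) : ∃ V : X.Opens, IsCompact (V : Set X) ∧ Z ⊆ V ∧ (V : Set X) ⊆ O := by
  have key : ∀ x : X, ∃ U : X.Opens, IsAffineOpen U ∧ (x ∈ O → x ∈ U) ∧ (U : Set X) ⊆ O := by
    intro x
    by_cases hx : x ∈ O
    · obtain ⟨_, ⟨U, hU, rfl⟩, hxU, hUO⟩ :=
        (X.isBasis_affineOpens).exists_subset_of_mem_open hx hO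
      exact ⟨U, hU, fun _ => hxU, hUO⟩
    · exact ⟨⊥, isAffineOpen_bot X, fun h => (hx h).elim, by simp⟩
  choose U hU hxU hUO using key
  obtain ⟨t, -, ht⟩ := hZ.elim_nhds_subcover (fun x => (U x : Set X))
    (fun x hx => (U x).isOpen.mem_nhds (hxU x (h hx)))
  refine ⟨⨆ x ∈ t, U x, ?_, ?_, ?_⟩
  · simp only [TopologicalSpace.Opens.coe_iSup]
    exact t.isCompact_biUnion fun x _ => (hU x).isCompact
  · simpa only [TopologicalSpace.Opens.coe_iSup] using ht
  · simp only [TopologicalSpace.Opens.coe_iSup]
    exact Set.iUnion₂_subset fun x _ => hUO x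

/-- a compact open of a quasi-separated scheme which is stable under specialization is closed. -/
lemma isClosed_of_isCompact_of_stableUnderSpecialization [QuasiSeparatedSpace X] (W : X.Opens)
    (hc : IsCompact (W : Set X)) (hs : StableUnderSpecialization (W : Set X)) :
    IsClosed (W : Set X) := by
  have : CompactSpace W := isCompact_iff_compactSpace.mp hc
  have hq : QuasiCompact W.ι := inferInstance
  have hsp : SpecializingMap W.ι := by
    intro w x hwx
    have hx : x ∈ W := hs hwx w.2
    refine ⟨⟨x, hx⟩, ?_, rfl⟩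
    exact (subtype_specializes_iff _ _).mpr hwx
  have := (isClosedMap_iff_specializingMap W.ι).mpr hsp
  rw [← Scheme.Opens.range_ι]
  exact this.isClosed_range

end general

section field
variable {k : Type u} [Field k] (G : Over (Spec (CommRingCat.of k))) [GrpObj G]

lemma quasiSeparatedSpace_left : QuasiSeparatedSpace G.left := by
  have : IsSeparated G.hom := Groth.Agent.Lib.Helper8.isSeparated_of_discrete G
  exact quasiSeparatedSpace_of_quasiSeparated G.hom

end field

section idcomp
variable {k : Type u} [Field k] [IsAlgClosed k] {G : Over (Spec (CommRingCat.of k))} [GrpObj G]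

lemma isCompact_sat (U : G.left.Opens) (hU : IsCompact (U : Set G.left)) :
    IsCompact (sat (U : Set G.left)) := by
  obtain ⟨V, hVc, hZV, -⟩ := exists_isCompact_opens_between (idComp G) Set.univ isCompact_idComp
    isOpen_univ (Set.subset_univ _)
  have hc1 := isCompact_fst_preimage_inter_snd_preimage (G := G) U V hU hVc
  have hcl : IsClosed ((snd G G).left ⁻¹' idComp G) :=
    (isClosed_idComp G).preimage (snd G G).left.continuous
  have hc2 := hc1.inter_right hcl
  have heq : sat (U : Set G.left) = μ[G].left '' (((fst G G).left ⁻¹' (U : Set G.left) ∩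
      (snd G G).left ⁻¹' (V : Set G.left)) ∩ (snd G G).left ⁻¹' idComp G) := by
    rw [sat, pmul]
    congr 1
    ext w
    constructor
    · rintro ⟨h1, h2⟩; exact ⟨⟨h1, hZV h2⟩, h2⟩
    · rintro ⟨⟨h1, -⟩, h2⟩; exact ⟨h1, h2⟩
  rw [heq]
  exact hc2.image μ[G].left.continuous

/-- over an algebraically closed field the connected component of the identity is the
irreducible component of the identity. -/
theorem connectedComponent_ePt : connectedComponent (ePt G) = idComp G := by
  apply le_antisymm
  · intro x hx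
    by_contra hxZ
    have hdisj : idComp G ⊆ (sat ({x} : Set G.left))ᶜ := by
      intro z hz hzx
      have h1 : sat ({z} : Set G.left) = idComp G :=
        sat_singleton_eq (irreducibleComponent_mem_irreducibleComponents (ePt G)) hz
      have h2 := sat_singleton_eq_of_mem hzx
      rw [h1] at h2
      exact hxZ (h2 ▸ subset_sat _ rfl)
    obtain ⟨V, hVc, hZV, hVO⟩ := exists_isCompact_opens_between (idComp G) _ isCompact_idComp
      (isClosed_sat_singleton x).isOpen_compl hdisj
    let W : G.left.Opens := ⟨sat (V : Set G.left), isOpen_sat V.isOpen⟩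
    have hWc : IsCompact (W : Set G.left) := isCompact_sat V hVc
    have hWsat : sat (W : Set G.left) = W := sat_sat _
    have hWx : (W : Set G.left) ⊆ (sat ({x} : Set G.left))ᶜ := by
      have h1 := sat_mono hVO
      rwa [sat_compl_of_sat_eq (sat_sat _)] at h1
    have hWs : StableUnderSpecialization (W : Set G.left) := by
      intro w y hwy hw
      obtain ⟨M, hM, hsub⟩ := exists_mem_irreducibleComponents_subset_of_isIrreducible
        (closure ({w} : Set G.left)) isIrreducible_singleton.closure
      have hwM : w ∈ M := hsub (subset_closure rfl)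
      have h1 : sat ({w} : Set G.left) = M := sat_singleton_eq hM hwM
      have h2 : sat ({w} : Set G.left) ⊆ sat (W : Set G.left) :=
        sat_mono (Set.singleton_subset_iff.mpr hw)
      rw [hWsat] at h2
      exact h2 (h1 ▸ hsub hwy.mem_closure)
    have := quasiSeparatedSpace_left G
    have hWcl : IsClosed (W : Set G.left) :=
      isClosed_of_isCompact_of_stableUnderSpecialization W hWc hWs
    have hclopen : IsClopen (W : Set G.left) := ⟨hWcl, W.isOpen⟩
    have heW : ePt G ∈ (W : Set G.left) := subset_sat _ (hZV (ePt_mem_idComp G))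
    exact hWx (hclopen.connectedComponent_subset heW hx) (subset_sat _ rfl)
  · exact (isIrreducible_idComp G).2.isPreconnected.subset_connectedComponent (ePt_mem_idComp G)

end idcomp

end part7

section part8
open CategoryTheory CategoryTheory.Limits MonoidalCategory CartesianMonoidalCategory MonObj GrpObj AlgebraicGeometry

open Groth.Agent.Lib.Helper25.TopGrp Groth.Agent.Lib.Helper25.TensorDomain

section basechange
variable (k : Type u) [Field k]

/-- `Spec k̄ ⟶ Spec k`. -/
noncomputable def bcMap :
    Spec (CommRingCat.of (AlgebraicClosure k)) ⟶ Spec (CommRingCat.of k) :=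
  Spec.map (CommRingCat.ofHom <| algebraMap k (AlgebraicClosure k))

variable {k} (G : Over (Spec (CommRingCat.of k))) [GrpObj G]

/-- base change of `G` to the algebraic closure. -/
noncomputable abbrev bc : Over (Spec (CommRingCat.of (AlgebraicClosure k))) :=
  (Over.pullback (bcMap k)).obj G

noncomputable instance : GrpObj (bc G) := Functor.grpObjObj

/-- the projection `G_k̄ ⟶ G`. -/
noncomputable def bcProj : (bc G).left ⟶ G.left := pullback.fst G.hom (bcMap k)

instance : Surjective (bcMap k) := by
  constructor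
  intro x
  have : Nonempty (Spec (CommRingCat.of (AlgebraicClosure k))) := inferInstance
  obtain ⟨y⟩ := this
  exact ⟨y, Subsingleton.elim (α := Spec (CommRingCat.of k)) _ _⟩

instance : IsIntegralHom (bcMap k) := by
  rw [bcMap, IsIntegralHom.SpecMap_iff]
  exact algebraMap_isIntegral_iff.mpr inferInstance

lemma bcProj_surjective : Function.Surjective (bcProj G) := by
  have : Surjective (pullback.fst G.hom (bcMap k)) := inferInstance
  exact this.surj

lemma bcProj_isOpenMap : IsOpenMap (bcProj G) := by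
  have : UniversallyOpen (bcMap k) := inferInstance
  have : UniversallyOpen (pullback.fst G.hom (bcMap k)) := inferInstance
  exact (pullback.fst G.hom (bcMap k)).isOpenMap

lemma bcProj_isClosedMap : IsClosedMap (bcProj G) := by
  have : IsIntegralHom (pullback.fst G.hom (bcMap k)) := inferInstance
  exact (pullback.fst G.hom (bcMap k)).isClosedMap

lemma bcProj_ePt : bcProj G (ePt (bc G)) = ePt G := by
  have h1 : η[bc G] = Functor.LaxMonoidal.ε (Over.pullback (bcMap k)) ≫
      (Over.pullback (bcMap k)).map η[G] := rfl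
  have h2 : ((Over.pullback (bcMap k)).map η[G]).left ≫ bcProj G =
      pullback.fst _ _ ≫ η[G].left := pullback.lift_fst _ _ _
  have h3 : η[bc G].left ≫ bcProj G =
      ((Functor.LaxMonoidal.ε (Over.pullback (bcMap k))).left ≫ pullback.fst _ _) ≫ η[G].left := by
    rw [h1, Over.comp_left, Category.assoc, h2, Category.assoc]
  have key : ∀ q : (𝟙_ (Over (Spec (CommRingCat.of (AlgebraicClosure k))))).left,
      (η[bc G].left ≫ bcProj G) q = ePt G := by
    intro q
    rw [h3, Scheme.Hom.comp_apply, ePt]
    congr 1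
    exact Subsingleton.elim (α := Spec (CommRingCat.of k)) _ _
  exact key _

lemma bcProj_fiber_ePt (w : (bc G).left) (hw : bcProj G w = ePt G) : w = ePt (bc G) := by
  let f := bcMap k
  let s : Spec (CommRingCat.of k) ⟶ G.left := η[G].left
  have hs : s ≫ G.hom = 𝟙 _ := Over.w η[G]
  let sK : Spec (CommRingCat.of (AlgebraicClosure k)) ⟶ pullback G.hom f :=
    pullback.lift (f ≫ s) (𝟙 _) (by rw [Category.assoc, hs, Category.comp_id, Category.id_comp])
  have h1 : sK ≫ pullback.snd G.hom f = 𝟙 _ := pullback.lift_snd _ _ _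
  have h2 : sK ≫ pullback.fst G.hom f = f ≫ s := pullback.lift_fst _ _ _
  have hout : IsPullback (sK ≫ pullback.snd G.hom f) f f (s ≫ G.hom) := by
    rw [h1, hs]; exact IsPullback.id_horiz f
  have H : IsPullback sK f (pullback.fst G.hom f) s :=
    IsPullback.of_right hout h2 (IsPullback.of_hasPullback G.hom f).flip
  have hr : Set.range sK = (pullback.fst G.hom f) ⁻¹' Set.range s := by
    rw [← Scheme.Pullback.range_fst, ← H.isoPullback_hom_fst, Scheme.Hom.comp_base,
      TopCat.coe_comp, Set.range_comp, Set.range_eq_univ.mpr H.isoPullback.hom.surjective,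
      Set.image_univ]
  have hsub : ((pullback.fst G.hom f) ⁻¹' Set.range s).Subsingleton := by
    rw [← hr]
    rintro _ ⟨a, rfl⟩ _ ⟨b, rfl⟩
    rw [Subsingleton.elim a b]
  exact hsub ⟨IsLocalRing.closedPoint k, hw.symm⟩ ⟨IsLocalRing.closedPoint k, (bcProj_ePt G).symm⟩

end basechange

end part8

section part9
open CategoryTheory CategoryTheory.Limits MonoidalCategory CartesianMonoidalCategory MonObj GrpObj AlgebraicGeometry

open Groth.Agent.Lib.Helper25.TopGrp Groth.Agent.Lib.Helper25.TensorDomain

section top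
variable {X Y : Type*} [TopologicalSpace X] [TopologicalSpace Y]

private lemma preimage_aux (p : X → Y) (ho : IsOpenMap p) (hcl : IsClosedMap p) (x₀ : X)
    (hx₀ : ∀ x, p x = p x₀ → x = x₀) (C : Set Y) (hC : IsPreconnected C) (hy : p x₀ ∈ C)
    (u v : Set X) (hu : IsOpen u) (hv : IsOpen v) (hD : p ⁻¹' C ⊆ u ∪ v)
    (hdisj : ∀ x, x ∈ p ⁻¹' C → x ∈ u → x ∈ v → False) (hxu : x₀ ∈ u) :
    ∀ x, x ∈ p ⁻¹' C → x ∉ v := by
  intro b hbD hbv
  have heq : ∀ y ∈ C, (y ∈ p '' v ↔ y ∈ p '' uᶜ) := by
    intro y hyC
    constructor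
    · rintro ⟨b', hb'v, rfl⟩
      exact ⟨b', fun hb'u => hdisj b' hyC hb'u hb'v, rfl⟩
    · rintro ⟨b', hb'u, rfl⟩
      rcases hD hyC with h | h
      · exact (hb'u h).elim
      · exact ⟨b', h, rfl⟩
  obtain ⟨y, hyC, hy1, hy2⟩ := hC (p '' v) (p '' uᶜ)ᶜ (ho v hv)
    (hcl uᶜ hu.isClosed_compl).isOpen_compl
    (by
      intro y hyC
      by_cases h : y ∈ p '' uᶜ
      · exact Or.inl ((heq y hyC).mpr h)
      · exact Or.inr h)
    ⟨p b, hbD, b, hbv, rfl⟩
    ⟨p x₀, hy, by
      rintro ⟨b', hb'u, hb'⟩
      rw [hx₀ b' hb'] at hb'u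
      exact hb'u hxu⟩
  exact hy2 ((heq y hyC).mp hy1)

/-- the preimage of a preconnected set under an open and closed map is preconnected provided
the set contains a point whose fibre is a single point. -/
lemma isPreconnected_preimage_of_fiber (p : X → Y) (ho : IsOpenMap p) (hcl : IsClosedMap p)
    (x₀ : X) (hx₀ : ∀ x, p x = p x₀ → x = x₀) (C : Set Y) (hC : IsPreconnected C)
    (hy : p x₀ ∈ C) : IsPreconnected (p ⁻¹' C) := by
  intro u v hu hv hD ⟨a, haD, hau⟩ ⟨b, hbD, hbv⟩
  by_contra hne
  have hdisj : ∀ x, x ∈ p ⁻¹' C → x ∈ u → x ∈ v → False :=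
    fun x h1 h2 h3 => hne ⟨x, h1, h2, h3⟩
  rcases hD (show x₀ ∈ p ⁻¹' C from hy) with h | h
  · exact preimage_aux p ho hcl x₀ hx₀ C hC hy u v hu hv hD hdisj h b hbD hbv
  · exact preimage_aux p ho hcl x₀ hx₀ C hC hy v u hv hu (by rwa [Set.union_comm])
      (fun x h1 h2 h3 => hdisj x h1 h3 h2) h a haD hau

end top

section field
variable {k : Type u} [Field k] (G : Over (Spec (CommRingCat.of k))) [GrpObj G]

/-- the connected component of the identity is the image of the identity component of the
base change to the algebraic closure. -/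
theorem connectedComponent_ePt_eq_image :
    connectedComponent (ePt G) = bcProj G '' idComp (bc G) := by
  have hcont : Continuous (bcProj G) := (bcProj G).continuous
  apply le_antisymm
  · intro y hy
    obtain ⟨w, rfl⟩ := bcProj_surjective G y
    refine ⟨w, ?_, rfl⟩
    have hpre : _root_.IsPreconnected (bcProj G ⁻¹' connectedComponent (ePt G)) :=
      isPreconnected_preimage_of_fiber (bcProj G) (bcProj_isOpenMap G) (bcProj_isClosedMap G)
        (ePt (bc G)) (fun x hx => bcProj_fiber_ePt G x (hx.trans (bcProj_ePt G)))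
        _ isPreconnected_connectedComponent (by rw [bcProj_ePt]; exact mem_connectedComponent)
    have h1 := hpre.subset_connectedComponent (x := ePt (bc G))
      (by rw [Set.mem_preimage, bcProj_ePt]; exact mem_connectedComponent)
    rw [connectedComponent_ePt (G := bc G)] at h1
    exact h1 hy
  · have h1 : _root_.IsPreconnected (bcProj G '' idComp (bc G)) :=
      (isIrreducible_idComp (bc G)).2.isPreconnected.image _ hcont.continuousOn
    exact h1.subset_connectedComponent ⟨_, ePt_mem_idComp (bc G), bcProj_ePt G⟩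

theorem isIrreducible_connectedComponent_ePt : IsIrreducible (connectedComponent (ePt G)) := by
  rw [connectedComponent_ePt_eq_image]
  exact (isIrreducible_idComp (bc G)).image _ (bcProj G).continuous.continuousOn

theorem isCompact_connectedComponent_ePt : IsCompact (connectedComponent (ePt G)) := by
  rw [connectedComponent_ePt_eq_image]
  exact isCompact_idComp.image (bcProj G).continuous

theorem irreducibleSpace_of_connectedSpace [ConnectedSpace G.left] : IrreducibleSpace G.left := by
  have h := isIrreducible_connectedComponent_ePt G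
  rw [PreconnectedSpace.connectedComponent_eq_univ] at h
  exact { isPreirreducible_univ := h.2, toNonempty := ⟨ePt G⟩ }

end field

end part9

end Groth.Agent.Lib.Helper25.IdComp
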