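import Mathlib
import Groth.Agent.Lib.Helper25IdComp

set_option autoImplicit false
set_option linter.unusedSectionVars false

namespace Groth.Agent.Lib.Helper25.IdComp

universe u

section part0
open CategoryTheory CategoryTheory.Limits MonoidalCategory CartesianMonoidalCategory MonObj GrpObj AlgebraicGeometry

open Groth.Agent.Lib.Helper25.TopGrp Groth.Agent.Lib.Helper25.TensorDomain

section field
variable {k : Type u} [Field k] (G : Over (Spec (CommRingCat.of k))) [GrpObj G]

lemma bcProj_generalizingMap : GeneralizingMap (bcProj G) := by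
  have : Flat (bcMap k) := inferInstance
  have : Flat (pullback.fst G.hom (bcMap k)) := inferInstance
  exact Flat.generalizingMap (pullback.fst G.hom (bcMap k))

variable {G}

/-- over any field, every point of a group scheme lies on exactly one irreducible component. -/
theorem irreducibleComponent_unique_of_mem_field {M₁ M₂ : Set G.left}
    (h₁ : M₁ ∈ irreducibleComponents G.left) (h₂ : M₂ ∈ irreducibleComponents G.left) (x : G.left)
    (hx₁ : x ∈ M₁) (hx₂ : x ∈ M₂) : M₁ = M₂ := by
  obtain ⟨x', rfl⟩ := bcProj_surjective G x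
  -- a component `N` of `G_k̄` through `x'` such that `closure (p N) = M`
  have key : ∀ M ∈ irreducibleComponents G.left, bcProj G x' ∈ M →
      ∃ N ∈ irreducibleComponents (bc G).left, x' ∈ N ∧ M = closure (bcProj G '' N) := by
    intro M hM hxM
    have hMcl := isClosed_of_mem_irreducibleComponents _ hM
    let gm := hM.1.genericPoint
    have hgm : IsGenericPoint gm M := hM.1.isGenericPoint_genericPoint hMcl
    obtain ⟨ζ, hζ, hζp⟩ := bcProj_generalizingMap G (hgm.specializes hxM)
    obtain ⟨N, hN, hsub⟩ := exists_mem_irreducibleComponents_subset_of_isIrreducible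
      (closure ({ζ} : Set (bc G).left)) isIrreducible_singleton.closure
    refine ⟨N, hN, hsub hζ.mem_closure, ?_⟩
    have hirr : IsIrreducible (closure (bcProj G '' N)) :=
      (hN.1.image _ (bcProj G).continuous.continuousOn).closure
    have hle : M ⊆ closure (bcProj G '' N) := by
      rw [← hgm.def]
      apply closure_mono
      rw [Set.singleton_subset_iff, ← hζp]
      exact ⟨ζ, hsub (subset_closure rfl), rfl⟩
    exact le_antisymm hle (hM.2 hirr hle)
  obtain ⟨N₁, hN₁, hx'₁, e₁⟩ := key M₁ h₁ hx₁
  obtain ⟨N₂, hN₂, hx'₂, e₂⟩ := key M₂ h₂ hx₂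
  rw [e₁, e₂, irreducibleComponent_unique_of_mem hN₁ hN₂ x' hx'₁ hx'₂]

/-- the local rings of a group scheme over a field have a unique minimal prime. -/
theorem minimalPrimes_stalk_subsingleton (x : G.left) :
    (minimalPrimes (G.left.presheaf.stalk x)).Subsingleton := by
  intro p₁ hp₁ p₂ hp₂
  let j := G.left.fromSpecStalk x
  have hj : Topology.IsEmbedding j := j.isEmbedding
  -- a common generization
  have key : ∀ p ∈ minimalPrimes (G.left.presheaf.stalk x), ∀ M ∈ irreducibleComponents G.left,
      x ∈ M → (∀ M' ∈ irreducibleComponents G.left, x ∈ M' → M' = M) →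
      ∃ Q : ↥(Spec (G.left.presheaf.stalk x)), IsGenericPoint (j Q) M ∧ Q.asIdeal = p := by
    intro p hp M hM hxM huniq
    have hpp : p.IsPrime := hp.1.1
    let P : ↥(Spec (G.left.presheaf.stalk x)) :=
      (⟨p, hpp⟩ : PrimeSpectrum (G.left.presheaf.stalk x))
    have hPx : j P ⤳ x := by
      have : j P ∈ Set.range j := ⟨P, rfl⟩
      rw [Scheme.range_fromSpecStalk] at this
      exact this
    obtain ⟨M', hM', hsub⟩ := exists_mem_irreducibleComponents_subset_of_isIrreducible
      (closure ({j P} : Set G.left)) isIrreducible_singleton.closure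
    have hM'M : M' = M := huniq M' hM' (hsub hPx.mem_closure)
    rw [hM'M] at hsub
    have hMcl := isClosed_of_mem_irreducibleComponents _ hM
    let gm := hM.1.genericPoint
    have hgm : IsGenericPoint gm M := hM.1.isGenericPoint_genericPoint hMcl
    have hgx : gm ⤳ x := hgm.specializes hxM
    have : gm ∈ Set.range j := by rw [Scheme.range_fromSpecStalk]; exact hgx
    obtain ⟨Q, hQ⟩ := this
    refine ⟨Q, by rw [hQ]; exact hgm, ?_⟩
    have hQP : Q ⤳ P := by
      rw [← hj.isInducing.specializes_iff, hQ]
      exact hgm.specializes (hsub (subset_closure rfl))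
    have hle : Q.asIdeal ≤ p := (PrimeSpectrum.le_iff_specializes Q P).mpr hQP
    exact le_antisymm hle (hp.2 ⟨Q.isPrime, bot_le⟩ hle)
  let M := irreducibleComponent x
  have hM : M ∈ irreducibleComponents G.left := irreducibleComponent_mem_irreducibleComponents x
  have hxM : x ∈ M := mem_irreducibleComponent
  have huniq : ∀ M' ∈ irreducibleComponents G.left, x ∈ M' → M' = M :=
    fun M' hM' hx' => irreducibleComponent_unique_of_mem_field hM' hM x hx' hxM
  obtain ⟨Q₁, hQ₁, rfl⟩ := key p₁ hp₁ M hM hxM huniq
  obtain ⟨Q₂, hQ₂, rfl⟩ := key p₂ hp₂ M hM hxM huniq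
  rw [hj.injective (hQ₁.eq hQ₂)]

theorem existsUnique_irreducibleComponent_ePt :
    ∃! Z : Set G.left, Z ∈ irreducibleComponents G.left ∧ ePt G ∈ Z := by
  refine ⟨irreducibleComponent (ePt G),
    ⟨irreducibleComponent_mem_irreducibleComponents _, mem_irreducibleComponent⟩, ?_⟩
  rintro Z ⟨hZ, heZ⟩
  exact irreducibleComponent_unique_of_mem_field hZ
    (irreducibleComponent_mem_irreducibleComponents _) (ePt G) heZ mem_irreducibleComponent

end field

end part0

end Groth.Agent.Lib.Helper25.IdComp
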