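import Mathlib
import Groth.Agent.Lib.Helper25IdCompStalk

set_option autoImplicit false
set_option linter.unusedSectionVars false

namespace Groth.Agent.Lib.Helper25.IdComp

universe u

section part0
open CategoryTheory CategoryTheory.Limits MonoidalCategory CartesianMonoidalCategory MonObj GrpObj AlgebraicGeometry

open Groth.Agent.Lib.Helper25.TopGrp Groth.Agent.Lib.Helper25.TensorDomain

section field
variable {k : Type u} [Field k] (G : Over (Spec (CommRingCat.of k))) [GrpObj G]

lemma bcProj_preimage_connectedComponent :
    bcProj G ⁻¹' connectedComponent (ePt G) = idComp (bc G) := by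
  apply le_antisymm
  · have hpre : _root_.IsPreconnected (bcProj G ⁻¹' connectedComponent (ePt G)) :=
      isPreconnected_preimage_of_fiber (bcProj G) (bcProj_isOpenMap G) (bcProj_isClosedMap G)
        (ePt (bc G)) (fun x hx => bcProj_fiber_ePt G x (hx.trans (bcProj_ePt G)))
        _ isPreconnected_connectedComponent (by rw [bcProj_ePt]; exact mem_connectedComponent)
    have h1 := hpre.subset_connectedComponent (x := ePt (bc G))
      (by rw [Set.mem_preimage, bcProj_ePt]; exact mem_connectedComponent)
    rwa [connectedComponent_ePt (G := bc G)] at h1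
  · intro w hw
    rw [Set.mem_preimage, connectedComponent_ePt_eq_image]
    exact ⟨w, hw, rfl⟩

variable {G}

/-- the irreducible component through `e` is the connected component of `e`. -/
lemma eq_connectedComponent_of_mem_irreducibleComponents {Z : Set G.left}
    (hZ : Z ∈ irreducibleComponents G.left) (he : ePt G ∈ Z) :
    Z = connectedComponent (ePt G) := by
  have hC := isIrreducible_connectedComponent_ePt G
  obtain ⟨M, hM, hsub⟩ := exists_mem_irreducibleComponents_subset_of_isIrreducible _ hC
  have hMZ : M = Z :=
    irreducibleComponent_unique_of_mem_field hM hZ (ePt G) (hsub mem_connectedComponent) he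
  apply le_antisymm
  · exact hZ.1.2.isPreconnected.subset_connectedComponent he
  · rw [← hMZ]; exact hsub

end field

section descent
variable {k : Type u} [Field k]

lemma surjective_SpecMap_field {L M : Type u} [Field L] [Field M] (φ : L →+* M) :
    Surjective (Spec.map (CommRingCat.ofHom φ)) := by
  constructor
  intro x
  obtain ⟨y⟩ : Nonempty (Spec (CommRingCat.of M)) := inferInstance
  exact ⟨y, Subsingleton.elim (α := Spec (CommRingCat.of L)) _ _⟩

/-- a `k`-scheme whose base change to the algebraic closure is irreducible is geometrically
irreducible. -/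
theorem geometricallyIrreducible_of_bc {X : Scheme.{u}} (f : X ⟶ Spec (CommRingCat.of k))
    [IrreducibleSpace ↑(pullback f (bcMap k))] : GeometricallyIrreducible f := by
  have h1 : GeometricallyIrreducible (pullback.snd f (bcMap k)) :=
    geometricallyIrreducible_of_isAlgClosed _
  refine ⟨(geometrically_iff_of_commRing_of_isClosedUnderIsomorphisms).mpr fun L _ _ => ?_⟩
  let Ω := AlgebraicClosure L
  let ψ : AlgebraicClosure k →ₐ[k] Ω := IsAlgClosed.lift
  let x : Spec (CommRingCat.of L) ⟶ Spec (CommRingCat.of k) :=
    Spec.map (CommRingCat.ofHom (algebraMap k L))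
  let y : Spec (CommRingCat.of Ω) ⟶ Spec (CommRingCat.of L) :=
    Spec.map (CommRingCat.ofHom (algebraMap L Ω))
  let z : Spec (CommRingCat.of Ω) ⟶ Spec (CommRingCat.of (AlgebraicClosure k)) :=
    Spec.map (CommRingCat.ofHom ψ.toRingHom)
  have hcomm : y ≫ x = z ≫ bcMap k := by
    simp only [y, x, z, bcMap]
    rw [← Spec.map_comp, ← Spec.map_comp]
    congr 1
    ext a
    simp only [CommRingCat.hom_comp, CommRingCat.hom_ofHom, RingHom.coe_comp, Function.comp_apply]
    rw [← IsScalarTower.algebraMap_apply k L Ω]
    exact (ψ.commutes a).symm
  -- the base change to `Ω`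
  let P := pullback f (y ≫ x)
  let a : P ⟶ pullback f (bcMap k) := pullback.lift (pullback.fst _ _) (pullback.snd _ _ ≫ z)
    (by rw [Category.assoc, ← hcomm, pullback.condition])
  have hbig : IsPullback (pullback.snd f (y ≫ x)) (a ≫ pullback.fst f (bcMap k)) (z ≫ bcMap k) f := by
    have : a ≫ pullback.fst f (bcMap k) = pullback.fst f (y ≫ x) := pullback.lift_fst _ _ _
    rw [this, ← hcomm]
    exact (IsPullback.of_hasPullback f (y ≫ x)).flip
  have hP : IsPullback a (pullback.snd f (y ≫ x)) (pullback.snd f (bcMap k)) z :=
    (IsPullback.of_bot hbig (pullback.lift_snd _ _ _).symm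
      (IsPullback.of_hasPullback f (bcMap k)).flip).flip
  have hPirr : IrreducibleSpace P :=
    GeometricallyIrreducible.geometrically_irreducibleSpace z a _ hP
  -- surjection onto the base change to `L`
  let e2 := pullbackLeftPullbackSndIso f x y
  let b : P ⟶ pullback f x := e2.inv ≫ pullback.fst (pullback.snd f x) y
  have hy : Surjective y := surjective_SpecMap_field _
  have hb : Surjective b := by
    have : Surjective (pullback.fst (pullback.snd f x) y) := inferInstance
    infer_instance
  have himg := (IrreducibleSpace.isIrreducible_univ P).image b b.continuous.continuousOn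
  rw [Set.image_univ, Set.range_eq_univ.mpr hb.surj] at himg
  exact (irreducibleSpace_def _).mpr himg

end descent

section main
variable {k : Type u} [Field k] {G : Over (Spec (CommRingCat.of k))} [GrpObj G]

/-- the irreducible component through the identity is geometrically irreducible. -/
theorem geometricallyIrreducible_component_through_unit (Z : Scheme.{u}) (incl : Z ⟶ G.left)
    [IsClosedImmersion incl] (hZ : Set.range incl ∈ irreducibleComponents G.left)
    (he : ePt G ∈ Set.range incl) : GeometricallyIrreducible (incl ≫ G.hom) := by
  have hZC := eq_connectedComponent_of_mem_irreducibleComponents hZ he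
  let s := pullback.snd incl (bcProj G)
  have hs : IsClosedImmersion s := inferInstance
  have hr : Set.range s = idComp (bc G) := by
    rw [Scheme.Pullback.range_snd, hZC, bcProj_preimage_connectedComponent]
  have h1 : IrreducibleSpace ↑(pullback incl (bcProj G)) := by
    have h2 : IrreducibleSpace (idComp (bc G)) := Subtype.irreducibleSpace (isIrreducible_idComp _)
    let e : ↑(pullback incl (bcProj G)) ≃ₜ Set.range s := s.isEmbedding.toHomeomorph
    have h3 : IrreducibleSpace (Set.range s) := by rw [hr]; exact h2
    exact e.irreducibleSpace_iff.mpr h3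
  let e := pullbackRightPullbackFstIso G.hom (bcMap k) incl
  have : IrreducibleSpace ↑(pullback (incl ≫ G.hom) (bcMap k)) :=
    e.hom.homeomorph.irreducibleSpace_iff.mp h1
  exact geometricallyIrreducible_of_bc (incl ≫ G.hom)

end main

end part0

end Groth.Agent.Lib.Helper25.IdComp
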