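import Mathlib
import Groth.Prelude.Def_AlgGrp
import Groth.Agent.Lib.Helper11BlanchardC
import Groth.Agent.Lib.Helper25IdCompGeom

set_option autoImplicit false
universe u

namespace Groth.Agent.Lib.Helper11Blanchard

open CategoryTheory MonoidalCategory CartesianMonoidalCategory MonObj AlgebraicGeometry Limits

variable {k : Type u} [Field k]

/-- connected group schemes over a field are geometrically irreducible -/
lemma geometricallyIrreducible_of_connected (G : Over (Spec (CommRingCat.of k))) [GrpObj G]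
    [ConnectedSpace G.left] : GeometricallyIrreducible G.hom := by
  have h1 : IrreducibleSpace G.left :=
    Groth.Agent.Lib.Helper25.IdComp.irreducibleSpace_of_connectedSpace G
  have h2 := Groth.Agent.Lib.Helper25.IdComp.geometricallyIrreducible_component_through_unit
    (G := G) G.left (𝟙 _) (by
      rw [irreducibleComponents_eq_singleton]
      simp) (by simp)
  simpa using h2

/-- the unit section of `G ⊗ X` -/
noncomputable abbrev unitSec (G X : Over (Spec (CommRingCat.of k))) [GrpObj G] : X ⟶ G ⊗ X :=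
  lift (toUnit X ≫ η[G]) (𝟙 X)

lemma unitSec_eq (G X : Over (Spec (CommRingCat.of k))) [GrpObj G] :
    unitSec G X = (λ_ X).inv ≫ (η[G] ▷ X) := by
  ext1
  · rw [lift_fst, Category.assoc, whiskerRight_fst, ← Category.assoc]
    congr 1
    exact toUnit_unique _ _
  · rw [lift_snd, Category.assoc, whiskerRight_snd, leftUnitor_inv_snd]

lemma range_whiskerRight' (X Y T : Over (Spec (CommRingCat.of k))) (t : T ⟶ Y) :
    Set.range (t ▷ X).left.base = (fst Y X).left.base ⁻¹' Set.range t.left.base := by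
  have h := Scheme.Pullback.range_map (f := T.hom) (g := X.hom) Y.hom X.hom t.left (𝟙 _) (𝟙 _)
    (by simp) (by simp)
  have h2 : Set.range (t ▷ X).left.base =
      Set.range (pullback.map T.hom X.hom Y.hom X.hom t.left (𝟙 _) (𝟙 _) (by simp) (by simp)) :=
    rfl
  rw [h2, h]
  ext w
  simp only [Set.mem_inter_iff, Set.mem_preimage, Set.mem_range]
  constructor
  · rintro ⟨h3, -⟩; exact h3
  · intro h3; exact ⟨h3, ⟨_, rfl⟩⟩

lemma range_unitSec (G X : Over (Spec (CommRingCat.of k))) [GrpObj G] :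
    Set.range (unitSec G X).left.base = (fst G X).left.base ⁻¹' Set.range (η[G]).left.base := by
  rw [unitSec_eq, ← range_whiskerRight', Over.comp_left, Scheme.Hom.comp_base, TopCat.coe_comp,
    Set.range_comp]
  have : Function.Surjective (λ_ X).inv.left.base :=
    (λ_ X).inv.left.homeomorph.surjective
  rw [Set.range_eq_univ.mpr this, Set.image_univ]

lemma unitSec_act {G X : Over (Spec (CommRingCat.of k))} [GrpObj G] (a : AlgGrp.Action G X) :
    unitSec G X ≫ a.act = 𝟙 X := by
  rw [unitSec_eq, Category.assoc, a.one_act, Iso.inv_hom_id]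

lemma unitSec_whiskerLeft (G : Over (Spec (CommRingCat.of k))) [GrpObj G]
    {X Y : Over (Spec (CommRingCat.of k))} (f : X ⟶ Y) :
    unitSec G X ≫ (G ◁ f) = f ≫ unitSec G Y := by
  ext1
  · rw [Category.assoc, whiskerLeft_fst, lift_fst, Category.assoc, lift_fst, ← Category.assoc]
    congr 1
    exact toUnit_unique _ _
  · rw [Category.assoc, whiskerLeft_snd, ← Category.assoc, lift_snd, Category.id_comp,
      Category.assoc, lift_snd, Category.comp_id]

lemma subset_closure_inter_of_isPreirreducible {α : Type*} [TopologicalSpace α] {S O : Set α}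
    (hS : IsPreirreducible S) (hO : IsOpen O) (hne : (S ∩ O).Nonempty) :
    S ⊆ closure (S ∩ O) := by
  intro x hx
  by_contra hxc
  have h1 : (S ∩ (closure (S ∩ O))ᶜ).Nonempty := ⟨x, hx, hxc⟩
  obtain ⟨y, hyS, hyO, hyc⟩ := hS O (closure (S ∩ O))ᶜ hO isClosed_closure.isOpen_compl hne h1
  exact hyc (subset_closure ⟨hyS, hyO⟩)

/-- the fibre of `G ◁ f` over a point of the unit section is contracted by `a.act ≫ f` -/
lemma contracted_unitSec {G X Y : Over (Spec (CommRingCat.of k))} [GrpObj G] (f : X ⟶ Y)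
    (a : AlgGrp.Action G X) (y : Y.left) (p₁ p₂ : (G ⊗ X).left)
    (h₁ : (G ◁ f).left.base p₁ = (unitSec G Y).left.base y)
    (h₂ : (G ◁ f).left.base p₂ = (unitSec G Y).left.base y) :
    (a.act ≫ f).left.base p₁ = (a.act ≫ f).left.base p₂ := by
  have key : ∀ p : (G ⊗ X).left, (G ◁ f).left.base p = (unitSec G Y).left.base y →
      (a.act ≫ f).left.base p = y := by
    intro p hp
    have hp1 : p ∈ Set.range (unitSec G X).left.base := by
      rw [range_unitSec]
      have e1 : (fst G X).left.base p = (fst G Y).left.base ((G ◁ f).left.base p) := by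
        rw [← TopCat.comp_app, ← Scheme.Hom.comp_base, ← Over.comp_left, whiskerLeft_fst]
      rw [Set.mem_preimage, e1, hp, ← TopCat.comp_app, ← Scheme.Hom.comp_base, ← Over.comp_left,
        lift_fst, Over.comp_left, Scheme.Hom.comp_base, TopCat.comp_app]
      exact ⟨_, rfl⟩
    obtain ⟨x, rfl⟩ := hp1
    have e2 : (a.act ≫ f).left.base ((unitSec G X).left.base x) = f.left.base x := by
      rw [← TopCat.comp_app, ← Scheme.Hom.comp_base, ← Over.comp_left, ← Category.assoc,
        unitSec_act, Category.id_comp]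
    have e3 : (G ◁ f).left.base ((unitSec G X).left.base x) =
        (unitSec G Y).left.base (f.left.base x) := by
      rw [← TopCat.comp_app, ← Scheme.Hom.comp_base, ← Over.comp_left, unitSec_whiskerLeft,
        Over.comp_left, Scheme.Hom.comp_base, TopCat.comp_app]
    have e4 : ∀ y' : Y.left, (snd G Y).left.base ((unitSec G Y).left.base y') = y' := by
      intro y'
      rw [← TopCat.comp_app, ← Scheme.Hom.comp_base, ← Over.comp_left, lift_snd]
      rfl
    rw [e2]
    rw [e3] at hp
    have := congrArg (snd G Y).left.base hp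
    rwa [e4, e4] at this
  rw [key p₁ h₁, key p₂ h₂]

lemma apply_eq_of_mem_range_equalizer {M Z : Over (Spec (CommRingCat.of k))} (u v : M ⟶ Z)
    (w : M.left) (hw : w ∈ Set.range (equalizer.ι u v).left.base) :
    u.left.base w = v.left.base w := by
  obtain ⟨e, rfl⟩ := hw
  rw [← TopCat.comp_app, ← Scheme.Hom.comp_base, ← Over.comp_left, equalizer.condition,
    Over.comp_left, Scheme.Hom.comp_base, TopCat.comp_app]

/-- an open subscheme on which two morphisms agree lies in the range of the equalizer -/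
lemma subset_range_equalizer {M Z : Over (Spec (CommRingCat.of k))} (u v : M ⟶ Z)
    (O : M.left.Opens) (h : O.ι ≫ u.left = O.ι ≫ v.left) :
    (O : Set M.left) ⊆ Set.range (equalizer.ι u v).left.base := by
  let O' : Over (Spec (CommRingCat.of k)) := Over.mk (O.ι ≫ M.hom)
  let j : O' ⟶ M := Over.homMk O.ι rfl
  have hj : j ≫ u = j ≫ v := by
    apply Over.OverMorphism.ext
    exact h
  intro w hw
  have h1 : j = equalizer.lift j hj ≫ equalizer.ι u v := (equalizer.lift_ι _ _).symm
  have h2 : w ∈ Set.range j.left.base := by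
    change w ∈ Set.range O.ι.base
    rw [Scheme.Opens.range_ι]; exact hw
  obtain ⟨w', rfl⟩ := h2
  rw [h1, Over.comp_left, Scheme.Hom.comp_base, TopCat.comp_app]
  exact ⟨_, rfl⟩

/-- **Blanchard's lemma, key step**: for a connected group scheme `G` acting on `X` and a proper
`f : X ⟶ Y` with `f_* O_X = O_Y`, the morphism `G × X ⟶ X ⟶ Y` is constant on the fibres of
`G × X ⟶ G × Y`. -/
theorem const_on_fibres (G X Y : Over (Spec (CommRingCat.of k))) [GrpObj G]
    [ConnectedSpace G.left] (f : X ⟶ Y) [IsProper f.left]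
    (hf : ∀ U : Y.left.Opens, IsIso (f.left.app U)) [IsSeparated Y.hom]
    (a : AlgGrp.Action G X) (p q : (G ⊗ X).left)
    (hpq : (G ◁ f).left.base p = (G ◁ f).left.base q) :
    (a.act ≫ f).left.base p = (a.act ≫ f).left.base q := by
  have hGI : GeometricallyIrreducible G.hom := geometricallyIrreducible_of_connected G
  -- the fibre square X ×_Y X
  let R' : Over (Spec (CommRingCat.of k)) := Over.mk (pullback.fst f.left f.left ≫ X.hom)
  let pr₁ : R' ⟶ X := Over.homMk (pullback.fst f.left f.left) rfl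
  let pr₂ : R' ⟶ X := Over.homMk (pullback.snd f.left f.left) (by
    change pullback.snd f.left f.left ≫ X.hom = pullback.fst f.left f.left ≫ X.hom
    rw [← Over.w f, ← Category.assoc, ← Category.assoc, pullback.condition])
  have hpr : pr₁ ≫ f = pr₂ ≫ f := by
    apply Over.OverMorphism.ext
    exact pullback.condition
  obtain ⟨φ, hφ⟩ : ∃ φ, φ = a.act ≫ f := ⟨_, rfl⟩
  rw [← hφ]
  obtain ⟨u', hu'⟩ : ∃ u', u' = (G ◁ pr₁) ≫ φ := ⟨_, rfl⟩
  obtain ⟨v', hv'⟩ : ∃ v', v' = (G ◁ pr₂) ≫ φ := ⟨_, rfl⟩
  obtain ⟨θ', hθ'⟩ : ∃ θ', θ' = G ◁ (pr₁ ≫ f) := ⟨_, rfl⟩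
  have hθ1 : (G ◁ pr₁) ≫ (G ◁ f) = θ' := by rw [hθ', whiskerLeft_comp]
  have hθ2 : (G ◁ pr₂) ≫ (G ◁ f) = θ' := by rw [hθ', hpr, whiskerLeft_comp]
  -- Claim A
  have hA : ∀ m : (G ⊗ R').left, u'.left.base m = v'.left.base m := by
    intro m
    apply apply_eq_of_mem_range_equalizer
    have hcl : IsClosed (Set.range (equalizer.ι u' v').left.base) :=
      (equalizer.ι u' v').left.isClosedEmbedding.isClosed_range
    obtain ⟨ρ, hρ⟩ : ∃ ρ, ρ = (snd G R').left.base m := ⟨_, rfl⟩
    have hGI' : GeometricallyIrreducible (snd G R').left :=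
      inferInstanceAs (GeometricallyIrreducible (pullback.snd G.hom R'.hom))
    have hopen : IsOpenMap (snd G R').left.base := by
      have : UniversallyOpen (snd G R').left :=
        inferInstanceAs (UniversallyOpen (pullback.snd G.hom R'.hom))
      exact (snd G R').left.isOpenMap
    have hirr : IsIrreducible ((snd G R').left.base ⁻¹' {ρ}) :=
      Scheme.Hom.isIrreducible_preimage (f := (snd G R').left) hopen isIrreducible_singleton
    -- the point on the unit section
    obtain ⟨m₀, hm₀⟩ : ∃ m₀, m₀ = (unitSec G R').left.base ρ := ⟨_, rfl⟩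
    have hm₀S : m₀ ∈ (snd G R').left.base ⁻¹' {ρ} := by
      rw [Set.mem_preimage, Set.mem_singleton_iff, hm₀, ← TopCat.comp_app,
        ← Scheme.Hom.comp_base, ← Over.comp_left, lift_snd]
      rfl
    obtain ⟨q₀, hq₀⟩ : ∃ q₀, q₀ = θ'.left.base m₀ := ⟨_, rfl⟩
    have hq₀' : q₀ = (unitSec G Y).left.base ((pr₁ ≫ f).left.base ρ) := by
      rw [hq₀, hm₀, hθ', ← TopCat.comp_app, ← Scheme.Hom.comp_base, ← Over.comp_left,
        unitSec_whiskerLeft, Over.comp_left, Scheme.Hom.comp_base, TopCat.comp_app]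
    -- local descent at q₀
    have hsurj := surjective_whiskerLeft G f hf
    obtain ⟨p₀, hp₀⟩ := hsurj.surj q₀
    obtain ⟨V, hV, hpV, -⟩ :=
      exists_isAffineOpen_mem_and_subset (x := φ.left.base p₀) (U := ⊤) trivial
    have hprop := isProper_whiskerLeft G f
    obtain ⟨B, ψ, hqB, hψ⟩ := exists_local_desc (G ◁ f).left (G ◁ f).left.isClosedMap
      (basis_whiskerLeft G f hf) φ.left q₀ V hV (fun p' hp' => by
        have := contracted_unitSec f a ((pr₁ ≫ f).left.base ρ) p' p₀ (hp'.trans hq₀')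
          (hp₀.trans hq₀')
        rw [← hφ] at this
        rw [this]; exact hpV)
    -- the open set O
    let O : (G ⊗ R').left.Opens := θ'.left ⁻¹ᵁ B
    have hm₀O : m₀ ∈ O := by
      change θ'.left.base m₀ ∈ B
      rw [← hq₀]; exact hqB
    have hOeq : O.ι ≫ u'.left = O.ι ≫ v'.left := by
      have h1 := desc_aux (G ◁ f).left φ.left B ψ hψ (O.ι ≫ (G ◁ pr₁).left) (𝟙 _)
        (θ'.left ∣_ B) (by
          rw [Category.id_comp, morphismRestrict_ι, Category.assoc, ← Over.comp_left, hθ1])
      have h2 := desc_aux (G ◁ f).left φ.left B ψ hψ (O.ι ≫ (G ◁ pr₂).left) (𝟙 _)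
        (θ'.left ∣_ B) (by
          rw [Category.id_comp, morphismRestrict_ι, Category.assoc, ← Over.comp_left, hθ2])
      rw [hu', hv', Over.comp_left, Over.comp_left, ← Category.assoc, ← Category.assoc, ← h1, ← h2]
    have hOC := subset_range_equalizer u' v' O hOeq
    have hsub := subset_closure_inter_of_isPreirreducible hirr.isPreirreducible O.isOpen
      ⟨m₀, hm₀S, hm₀O⟩
    have hmS : m ∈ (snd G R').left.base ⁻¹' {ρ} := by
      rw [Set.mem_preimage, Set.mem_singleton_iff, hρ]
    have h3 : closure ((snd G R').left.base ⁻¹' {ρ} ∩ O) ⊆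
        Set.range (equalizer.ι u' v').left.base :=
      closure_minimal (fun x hx => hOC hx.2) hcl
    exact h3 (hsub hmS)
  -- Claim B: a point of `G ⊗ R'` over `p` and `q`
  obtain ⟨r, hr1, hr2⟩ := Scheme.Pullback.exists_preimage_pullback
    (f := (G ◁ f).left) (g := (G ◁ f).left) p q hpq
  let T : Over (Spec (CommRingCat.of k)) :=
    Over.mk (pullback.fst (G ◁ f).left (G ◁ f).left ≫ (G ⊗ X).hom)
  let π₁ : T ⟶ G ⊗ X := Over.homMk (pullback.fst (G ◁ f).left (G ◁ f).left) rfl
  let π₂ : T ⟶ G ⊗ X := Over.homMk (pullback.snd (G ◁ f).left (G ◁ f).left) (by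
    change pullback.snd _ _ ≫ (G ⊗ X).hom = pullback.fst _ _ ≫ (G ⊗ X).hom
    rw [← Over.w (G ◁ f), ← Category.assoc, ← Category.assoc, pullback.condition])
  have hπ : π₁ ≫ (G ◁ f) = π₂ ≫ (G ◁ f) := by
    apply Over.OverMorphism.ext
    exact pullback.condition
  have hx : (π₁ ≫ snd G X) ≫ f = (π₂ ≫ snd G X) ≫ f := by
    rw [Category.assoc, Category.assoc, ← whiskerLeft_snd, ← Category.assoc, hπ, Category.assoc]
  have hg : π₂ ≫ fst G X = π₁ ≫ fst G X := by
    rw [← whiskerLeft_fst G f, ← Category.assoc, ← hπ, Category.assoc]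
  let r'' : T ⟶ R' := Over.homMk
    (pullback.lift (π₁ ≫ snd G X).left (π₂ ≫ snd G X).left (by
      rw [← Over.comp_left, ← Over.comp_left, hx])) (by
      change pullback.lift _ _ _ ≫ pullback.fst f.left f.left ≫ X.hom = T.hom
      rw [← Category.assoc, pullback.lift_fst, Over.w])
  have hr1'' : r'' ≫ pr₁ = π₁ ≫ snd G X := by
    apply Over.OverMorphism.ext
    exact pullback.lift_fst _ _ _
  have hr2'' : r'' ≫ pr₂ = π₂ ≫ snd G X := by
    apply Over.OverMorphism.ext
    exact pullback.lift_snd _ _ _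
  let θ : T ⟶ G ⊗ R' := lift (π₁ ≫ fst G X) r''
  have hθp : θ ≫ (G ◁ pr₁) = π₁ := by
    ext1
    · rw [Category.assoc, whiskerLeft_fst, lift_fst]
    · rw [Category.assoc, whiskerLeft_snd, ← Category.assoc, lift_snd, hr1'']
  have hθq : θ ≫ (G ◁ pr₂) = π₂ := by
    ext1
    · rw [Category.assoc, whiskerLeft_fst, lift_fst, hg]
    · rw [Category.assoc, whiskerLeft_snd, ← Category.assoc, lift_snd, hr2'']
  have e1 : φ.left.base p = u'.left.base (θ.left.base r) := by
    rw [hu', ← hr1]
    have : pullback.fst (G ◁ f).left (G ◁ f).left = (θ ≫ (G ◁ pr₁)).left := by rw [hθp]; rfl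
    rw [this]
    simp only [Over.comp_left, Scheme.Hom.comp_base, TopCat.comp_app]
  have e2 : φ.left.base q = v'.left.base (θ.left.base r) := by
    rw [hv', ← hr2]
    have : pullback.snd (G ◁ f).left (G ◁ f).left = (θ ≫ (G ◁ pr₂)).left := by rw [hθq]; rfl
    rw [this]
    simp only [Over.comp_left, Scheme.Hom.comp_base, TopCat.comp_app]
  rw [e1, e2, hA]

end Groth.Agent.Lib.Helper11Blanchard
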