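import Mathlib

set_option autoImplicit false
universe u

namespace Groth.Agent.Lib.Helper11Blanchard

open CategoryTheory AlgebraicGeometry Limits TopologicalSpace Opposite

lemma app_res {P Q : Scheme.{u}} (F : P ⟶ Q) {U W : Q.Opens} (hUW : U ≤ W) (s : Γ(Q, W)) :
    (F.app U).hom ((Q.presheaf.map (homOfLE hUW).op).hom s) =
      (P.presheaf.map (homOfLE (Scheme.Hom.preimage_mono F hUW)).op).hom ((F.app W).hom s) := by
  have := congr($(F.naturality (homOfLE hUW).op) s)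
  rw [CommRingCat.comp_apply, CommRingCat.comp_apply] at this
  exact this

lemma affine_cover_le {Q : Scheme.{u}} (W : Q.Opens) :
    W ≤ ⨆ i : {U : Q.Opens // IsAffineOpen U ∧ U ≤ W}, i.1 := by
  intro x hx
  obtain ⟨U, hU, hxU, hUW⟩ := exists_isAffineOpen_mem_and_subset (x := x) (U := W) hx
  exact Opens.mem_iSup.mpr ⟨⟨U, hU, hUW⟩, hxU⟩

lemma app_injective_of_forall_isAffineOpen {P Q : Scheme.{u}} (F : P ⟶ Q)
    (h : ∀ U : Q.Opens, IsAffineOpen U → Function.Injective (F.app U).hom) (W : Q.Opens) :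
    Function.Injective (F.app W).hom := by
  rw [injective_iff_map_eq_zero]
  intro s hs
  apply TopCat.Sheaf.eq_of_locally_eq' Q.sheaf
    (fun i : {U : Q.Opens // IsAffineOpen U ∧ U ≤ W} => i.1) W (fun i => homOfLE i.2.2)
    (affine_cover_le W) s 0
  intro i
  apply h i.1 i.2.1
  have h1 := app_res F i.2.2 s
  rw [hs, map_zero] at h1
  have h2 : (Q.sheaf.obj.map (homOfLE i.2.2).op).hom (0 : Γ(Q, W)) = 0 := map_zero _
  erw [h2, map_zero]
  exact h1

lemma app_bijective_of_forall_isAffineOpen {P Q : Scheme.{u}} (F : P ⟶ Q)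
    (h : ∀ U : Q.Opens, IsAffineOpen U → Function.Bijective (F.app U).hom) (W : Q.Opens) :
    Function.Bijective (F.app W).hom := by
  have hinj := app_injective_of_forall_isAffineOpen F (fun U hU => (h U hU).1)
  refine ⟨hinj W, ?_⟩
  intro t
  let ι := {U : Q.Opens // IsAffineOpen U ∧ U ≤ W}
  -- local preimages
  have hloc : ∀ i : ι, ∃ s : Γ(Q, i.1), (F.app i.1).hom s =
      (P.presheaf.map (homOfLE (Scheme.Hom.preimage_mono F i.2.2)).op).hom t :=
    fun i => (h i.1 i.2.1).2 _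
  choose sf hsf using hloc
  have hcompat : TopCat.Presheaf.IsCompatible Q.sheaf.1 (fun i : ι => i.1) sf := by
    intro i j
    apply hinj (i.1 ⊓ j.1)
    have e1 := app_res F (inf_le_left : i.1 ⊓ j.1 ≤ i.1) (sf i)
    have e2 := app_res F (inf_le_right : i.1 ⊓ j.1 ≤ j.1) (sf j)
    rw [hsf] at e1 e2
    refine (e1.trans ?_).trans e2.symm
    rw [← CommRingCat.comp_apply, ← CommRingCat.comp_apply, ← Functor.map_comp,
      ← Functor.map_comp]
    rfl
  obtain ⟨s, hs, -⟩ := TopCat.Sheaf.existsUnique_gluing' Q.sheaf (fun i : ι => i.1) W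
    (fun i => homOfLE i.2.2) (affine_cover_le W) sf hcompat
  refine ⟨s, ?_⟩
  apply TopCat.Sheaf.eq_of_locally_eq' P.sheaf (fun i : ι => F ⁻¹ᵁ i.1) (F ⁻¹ᵁ W)
    (fun i => homOfLE (Scheme.Hom.preimage_mono F i.2.2)) ?_ _ _
  · intro i
    have e1 := app_res F i.2.2 s
    have e2 : (Q.presheaf.map (homOfLE i.2.2).op).hom s = sf i := hs i
    rw [e2, hsf] at e1
    exact e1.symm
  · intro x hx
    have hx' : F.base x ∈ W := hx
    obtain ⟨i, hi⟩ := Opens.mem_iSup.mp (affine_cover_le W hx')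
    exact Opens.mem_iSup.mpr ⟨i, hi⟩

lemma isIso_app_of_forall_isAffineOpen {P Q : Scheme.{u}} (F : P ⟶ Q)
    (h : ∀ U : Q.Opens, IsAffineOpen U → IsIso (F.app U)) (W : Q.Opens) : IsIso (F.app W) := by
  rw [ConcreteCategory.isIso_iff_bijective]
  exact app_bijective_of_forall_isAffineOpen F
    (fun U hU => (ConcreteCategory.isIso_iff_bijective _).mp (h U hU)) W

/-- Künneth: base change of a qcqs scheme with `O(X) = O(S)` (`S` affine) along a flat morphism -/
lemma isIso_app_of_isPullback_of_appTop {X Y S T : Scheme.{u}} {f : T ⟶ S} {g : Y ⟶ X}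
    {iX : X ⟶ S} {iY : Y ⟶ T} (H : IsPullback g iY iX f) [Flat f] [IsAffine S] [CompactSpace X]
    [QuasiSeparatedSpace X] (hiX : IsIso iX.appTop) (U : T.Opens) (hU : IsAffineOpen U) :
    IsIso (iY.app U) := by
  have hUY : iY ⁻¹ᵁ U = g ⁻¹ᵁ (⊤ : X.Opens) ⊓ iY ⁻¹ᵁ U := by
    rw [Scheme.Hom.preimage_top, top_inf_eq]
  have hiso := isIso_pushoutSection_of_isQuasiSeparated_of_flat_right H (US := ⊤) (UT := U)
    (UX := ⊤) (UY := iY ⁻¹ᵁ U) le_top le_top hUY (isAffineOpen_top S) hU isCompact_univ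
    isQuasiSeparated_univ
  have h1 : IsIso (iX.appLE ⊤ ⊤ le_top) := by
    have : iX.appLE ⊤ ⊤ le_top = iX.appTop := Scheme.Hom.appLE_eq_app iX
    rw [this]; exact hiX
  have hinr : IsIso (pushout.inr (iX.appLE ⊤ ⊤ le_top) (f.appLE ⊤ U le_top)) :=
    inferInstance
  have hcomp2 : pushout.inr (iX.appLE ⊤ ⊤ le_top) (f.appLE ⊤ U le_top) ≫
      pushoutSection H (US := ⊤) (UT := U) (UX := ⊤) (UY := iY ⁻¹ᵁ U) le_top le_top hUY =
      iY.app U := by
    rw [pushoutSection, pushout.inr_desc, Scheme.Hom.appLE_eq_app]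
  rw [← hcomp2]; infer_instance

end Groth.Agent.Lib.Helper11Blanchard
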