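import Mathlib
import Groth.Prelude.Def_W4bk4boschfrg79

/-!
# Helper11 Bosch A: basic facts on complete height-one valuation rings, precompleteness of finite
products, lifting maps to adic completions, density in adic completions.
-/

set_option autoImplicit false
universe u v

namespace Groth.Agent.Lib.Helper11.Bosch

open IsLocalRing

section ValRing
variable (R : Type u) [CommRing R] [IsDomain R] [IsLocalRing R] [Ring.KrullDimLE 1 R]
  (t : R) (ht : t ≠ 0) [IsAdicComplete (Ideal.span {t}) R]

omit [IsDomain R] [Ring.KrullDimLE 1 R] in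
theorem t_mem_maximalIdeal : t ∈ maximalIdeal R := by
  have := IsAdicComplete.le_jacobson_bot (Ideal.span {t}) (R := R)
  rw [IsLocalRing.jacobson_eq_maximalIdeal ⊥ bot_ne_top] at this
  exact this (Ideal.mem_span_singleton_self t)

omit [IsAdicComplete (Ideal.span {t}) R] in
theorem prime_eq_bot_or_maximal (P : Ideal R) [hP : P.IsPrime] : P = ⊥ ∨ P = maximalIdeal R := by
  by_cases h : P = ⊥
  · exact Or.inl h
  · right
    have hPmax : P.IsMaximal := Ideal.IsPrime.isMaximal_of_ne_bot hP h
    exact IsLocalRing.eq_maximalIdeal hPmax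

theorem prime_eq_bot_of_notMem (P : Ideal R) [hP : P.IsPrime] (h : t ∉ P) : P = ⊥ := by
  rcases prime_eq_bot_or_maximal R P with h1 | h1
  · exact h1
  · exact absurd (h1 ▸ t_mem_maximalIdeal R t) h

include ht in
omit [IsAdicComplete (Ideal.span {t}) R] in
theorem maximalIdeal_le_radical : maximalIdeal R ≤ (Ideal.span {t}).radical := by
  rw [Ideal.radical_eq_sInf]
  refine le_sInf ?_
  rintro P ⟨hP1, hP2⟩
  haveI := hP2
  rcases prime_eq_bot_or_maximal R P with h1 | h1
  · exact absurd ((Ideal.mem_bot).1 (h1 ▸ hP1 (Ideal.mem_span_singleton_self t))) ht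
  · rw [h1]

include ht in
omit [IsAdicComplete (Ideal.span {t}) R] in
theorem exists_pow_mem_span (c : R) (hc : c ∈ maximalIdeal R) : ∃ n : ℕ, c ^ n ∈ Ideal.span {t} :=
  maximalIdeal_le_radical R t ht hc

include ht in
theorem not_isField : ¬ IsField R := by
  intro h
  have h1 := t_mem_maximalIdeal R t
  rw [mem_maximalIdeal, mem_nonunits_iff] at h1
  letI := h.toField
  exact h1 (IsUnit.mk0 t ht)

include ht in
theorem ringKrullDim_eq_one : ringKrullDim R = 1 := by
  have hle : ringKrullDim R ≤ 1 := Ring.krullDimLE_iff.1 inferInstance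
  have hn0 : ¬ ringKrullDim R ≤ 0 := fun h => by
    have : Ring.KrullDimLE 0 R := Ring.krullDimLE_iff.mpr h
    exact not_isField R t ht Ring.KrullDimLE.isField_of_isDomain
  exact le_antisymm hle (Order.succ_le_of_lt (lt_of_not_ge hn0))

end ValRing

section Pi
variable {R : Type*} [CommRing R] (I : Ideal R) {ι : Type*} [Fintype ι] [DecidableEq ι]
  (M : Type*) [AddCommGroup M] [Module R M]

omit [Fintype ι] [DecidableEq ι] in
theorem pi_apply_mem_of_mem (n : ℕ) (x : ι → M)
    (hx : x ∈ (I ^ n • ⊤ : Submodule R (ι → M))) (i : ι) : x i ∈ (I ^ n • ⊤ : Submodule R M) := by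
  have : (I ^ n • ⊤ : Submodule R (ι → M)) ≤ (I ^ n • ⊤ : Submodule R M).comap (LinearMap.proj i) := by
    rw [Submodule.smul_le]
    intro r hr y _
    rw [Submodule.mem_comap, map_smul]
    exact Submodule.smul_mem_smul hr Submodule.mem_top
  exact this hx

theorem pi_mem_of_apply_mem (n : ℕ) (x : ι → M)
    (hx : ∀ i, x i ∈ (I ^ n • ⊤ : Submodule R M)) : x ∈ (I ^ n • ⊤ : Submodule R (ι → M)) := by
  have h1 : x = ∑ i, LinearMap.single R (fun _ => M) i (x i) := by
    funext j
    simp [Finset.sum_apply, Pi.single_apply]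
  rw [h1]
  refine Submodule.sum_mem _ (fun i _ => ?_)
  have : (I ^ n • ⊤ : Submodule R M) ≤
      (I ^ n • ⊤ : Submodule R (ι → M)).comap (LinearMap.single R (fun _ => M) i) := by
    rw [Submodule.smul_le]
    intro r hr y _
    rw [Submodule.mem_comap, map_smul]
    exact Submodule.smul_mem_smul hr Submodule.mem_top
  exact this (hx i)

theorem isPrecomplete_pi [IsPrecomplete I M] : IsPrecomplete I (ι → M) := by
  refine ⟨fun f hf => ?_⟩
  have hc : ∀ i, ∃ L : M, ∀ n, f n i ≡ L [SMOD (I ^ n • ⊤ : Submodule R M)] := by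
    intro i
    apply IsPrecomplete.prec' (I := I) (fun n => f n i)
    intro m n hmn
    have := hf hmn
    rw [SModEq.sub_mem] at this ⊢
    exact pi_apply_mem_of_mem I M m _ this i
  choose L hL using hc
  refine ⟨L, fun n => ?_⟩
  rw [SModEq.sub_mem]
  apply pi_mem_of_apply_mem
  intro i
  have := hL i n
  rw [SModEq.sub_mem] at this
  exact this

end Pi

section Compl
variable {R : Type u} [CommRing R] (I : Ideal R) (C : Type v) [CommRing C] [Algebra R C]

theorem compl_map_map :
    (I.map (algebraMap R C)).map (algebraMap C (AdicCompletion (I.map (algebraMap R C)) C)) =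
      I.map (algebraMap R (AdicCompletion (I.map (algebraMap R C)) C)) := by
  rw [Ideal.map_map, ← IsScalarTower.algebraMap_eq]

theorem isAdicComplete_compl (hI : I.FG) :
    IsAdicComplete (I.map (algebraMap R (AdicCompletion (I.map (algebraMap R C)) C)))
      (AdicCompletion (I.map (algebraMap R C)) C) := by
  rw [← compl_map_map]
  exact AdicCompletion.isAdicComplete_self _ (hI.map _)

theorem algebraMap_eq_of (c : C) :
    algebraMap C (AdicCompletion (I.map (algebraMap R C)) C) c =
      AdicCompletion.of (I.map (algebraMap R C)) C c := by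
  rw [AdicCompletion.algebraMap_apply]
  rfl

theorem exists_of_sub_mem (hI : I.FG) (k : ℕ) (x : AdicCompletion (I.map (algebraMap R C)) C) :
    ∃ c : C, x - algebraMap C _ c ∈
      (I.map (algebraMap R (AdicCompletion (I.map (algebraMap R C)) C))) ^ k := by
  obtain ⟨y, hy⟩ := Submodule.Quotient.mk_surjective _
    (AdicCompletion.eval (I.map (algebraMap R C)) C k x)
  refine ⟨y, ?_⟩
  have hker : x - AdicCompletion.of (I.map (algebraMap R C)) C y ∈
      LinearMap.ker (AdicCompletion.eval (I.map (algebraMap R C)) C k) := by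
    rw [LinearMap.mem_ker, map_sub, AdicCompletion.eval_of, ← hy]
    exact sub_self _
  rw [← AdicCompletion.pow_smul_top_eq_ker_eval (hI.map _), Ideal.smul_top_eq_map] at hker
  rw [← compl_map_map, ← Ideal.map_pow, algebraMap_eq_of]
  exact hker

theorem isAdicComplete_rpow (hI : I.FG) (n : ℕ) :
    IsAdicComplete (I.map (algebraMap R (AdicRing.RPow R I n))) (AdicRing.RPow R I n) :=
  isAdicComplete_compl I (MvPolynomial (Fin n) R) hI

end Compl

section ZL
open AdicRing

theorem comp_algebraMap_isIntegral {R : Type u} [CommRing R] [IsLocalRing R] (I : Ideal R)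
    (hI : I.FG) (hrad : maximalIdeal R ≤ I.radical) (n : ℕ) {κ : Type v} [Field κ]
    (φ : RPow R I n →+* κ) (hφ : Function.Surjective φ)
    (hφI : ∀ a ∈ I, φ (algebraMap R _ a) = 0) :
    (φ.comp (algebraMap R (RPow R I n))).IsIntegral := by
  classical
  set g₀ : R →+* κ := φ.comp (algebraMap R (RPow R I n)) with hg₀
  have hkill : ∀ c ∈ maximalIdeal R, g₀ c = 0 := by
    intro c hc
    obtain ⟨N, hN⟩ := hrad hc
    have h1 : g₀ c ^ N = 0 := by rw [← map_pow]; exact hφI _ hN
    exact IsReduced.eq_zero _ ⟨N, h1⟩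
  let g : ResidueField R →+* κ := Ideal.Quotient.lift (maximalIdeal R) g₀ hkill
  let ι : MvPolynomial (Fin n) R →+* RPow R I n := algebraMap _ _
  let F : MvPolynomial (Fin n) (ResidueField R) →+* κ :=
    MvPolynomial.eval₂Hom g (fun i => φ (ι (MvPolynomial.X i)))
  have hFp : (F.comp (MvPolynomial.map (residue R))) = φ.comp ι := by
    apply MvPolynomial.ringHom_ext
    · intro r
      simp only [RingHom.comp_apply, MvPolynomial.map_C, F, MvPolynomial.coe_eval₂Hom,
        MvPolynomial.eval₂_C]
      show Ideal.Quotient.lift (maximalIdeal R) g₀ hkill (Ideal.Quotient.mk _ r) = _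
      rw [Ideal.Quotient.lift_mk, hg₀, RingHom.comp_apply]
      congr 1
    · intro i
      simp only [RingHom.comp_apply, MvPolynomial.map_X, F, MvPolynomial.coe_eval₂Hom,
        MvPolynomial.eval₂_X]
  have hker : I.map (algebraMap R (RPow R I n)) ≤ RingHom.ker φ := by
    rw [Ideal.map_le_iff_le_comap]
    intro a ha
    rw [Ideal.mem_comap, RingHom.mem_ker]
    exact hφI a ha
  have hF : Function.Surjective F := by
    intro y
    obtain ⟨x, rfl⟩ := hφ y
    obtain ⟨p, hp⟩ := exists_of_sub_mem I (MvPolynomial (Fin n) R) hI 1 x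
    rw [pow_one] at hp
    have h2 : φ x = φ (ι p) := by
      have h3 : φ (x - ι p) = 0 := hker hp
      rw [map_sub, sub_eq_zero] at h3
      exact h3
    refine ⟨MvPolynomial.map (residue R) p, ?_⟩
    rw [h2]
    exact congrArg (fun h => h p) hFp
  have hint := MvPolynomial.comp_C_integral_of_surjective_of_isJacobsonRing F hF
  have hFC : F.comp MvPolynomial.C = g := by
    ext r
    simp [F]
  rw [hFC] at hint
  have hg : g₀ = g.comp (residue R) := by
    ext r
    show _ = Ideal.Quotient.lift (maximalIdeal R) g₀ hkill (Ideal.Quotient.mk _ r)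
    rw [Ideal.Quotient.lift_mk]
  rw [hg]
  exact RingHom.IsIntegral.trans _ _
    (RingHom.isIntegral_of_surjective _ (residue_surjective)) hint

end ZL

section Finite
open AdicRing Polynomial

variable (R : Type u) [CommRing R] [IsDomain R] [IsLocalRing R] [Ring.KrullDimLE 1 R]
  (t : R) (ht : t ≠ 0) [IsAdicComplete (Ideal.span {t}) R]
  (B : Type u) [CommRing B] [Algebra R B] [IsDomain B] [IsLocalRing B]

omit [IsDomain R] [IsLocalRing R] [Ring.KrullDimLE 1 R] [IsAdicComplete (Ideal.span {t}) R]
  [IsDomain B] in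
/-- `t` is not a unit in a nontrivial quotient of a ring of restricted power series. -/
theorem algebraMap_t_mem_maximalIdeal (hB : TopFiniteType R (Ideal.span {t}) B) :
    algebraMap R B t ∈ maximalIdeal B := by
  obtain ⟨n, φ, hφ⟩ := hB
  rw [mem_maximalIdeal, mem_nonunits_iff]
  intro hu
  obtain ⟨b, hb⟩ := hu.exists_right_inv
  obtain ⟨x, rfl⟩ := hφ b
  haveI := isAdicComplete_rpow (Ideal.span {t}) ⟨{t}, by simp⟩ n
  have hjac := IsAdicComplete.le_jacobson_bot
    ((Ideal.span {t}).map (algebraMap R (RPow R (Ideal.span {t}) n)))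
  have hmem : algebraMap R (RPow R (Ideal.span {t}) n) t ∈
      (Ideal.span {t}).map (algebraMap R (RPow R (Ideal.span {t}) n)) :=
    Ideal.mem_map_of_mem _ (Ideal.mem_span_singleton_self t)
  have h1 := (Ideal.mem_jacobson_bot.1 (hjac hmem)) (-x)
  have h2 := h1.map φ
  rw [map_add, map_mul, map_neg, map_one, AlgHom.commutes, mul_neg, hb, neg_add_cancel] at h2
  exact not_isUnit_zero h2

variable (hB : TopFiniteType R (Ideal.span {t}) B) (htB : algebraMap R B t ≠ 0)
  (hdim : ringKrullDim B = 1)

include hB htB hdim in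
omit [IsDomain R] [IsLocalRing R] [Ring.KrullDimLE 1 R] [IsAdicComplete (Ideal.span {t}) R] in
theorem isHausdorff_of_dim_one : IsHausdorff (Ideal.span {t}) B := by
  haveI : Ring.KrullDimLE 1 B := Ring.krullDimLE_iff.2 hdim.le
  refine ⟨fun x hx => ?_⟩
  by_contra hx0
  have key : ∀ k : ℕ, x ∈ Ideal.span {algebraMap R B t ^ k} := by
    intro k
    have h1 := hx k
    rw [SModEq.zero] at h1
    refine Submodule.smul_induction_on h1 (fun r hr b _ => ?_) (fun a b ha hb => Ideal.add_mem _ ha hb)
    rw [Ideal.span_singleton_pow, Ideal.mem_span_singleton] at hr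
    obtain ⟨c, rfl⟩ := hr
    rw [Ideal.mem_span_singleton, Algebra.smul_def, map_mul, map_pow, mul_assoc]
    exact Dvd.intro _ rfl
  have htm := algebraMap_t_mem_maximalIdeal R t B hB
  obtain ⟨N, hN⟩ := maximalIdeal_le_radical B x hx0 htm
  rw [Ideal.mem_span_singleton] at hN
  obtain ⟨c, hc⟩ := hN
  have h2 := key (N + 1)
  rw [Ideal.mem_span_singleton] at h2
  obtain ⟨d, hd⟩ := h2
  have h3 : algebraMap R B t ^ N * (1 - algebraMap R B t * (d * c)) = 0 := by
    rw [mul_sub, mul_one, sub_eq_zero]
    conv_lhs => rw [hc, hd]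
    ring
  rcases mul_eq_zero.1 h3 with h4 | h4
  · exact htB (pow_eq_zero_iff (n := N) (by
      rintro rfl
      simp at h4) |>.1 h4)
  · rw [mem_maximalIdeal, mem_nonunits_iff] at htm
    exact htm (IsUnit.of_mul_eq_one _ (sub_eq_zero.1 h4).symm)

include hB in
omit [IsDomain R] [Ring.KrullDimLE 1 R] [IsAdicComplete (Ideal.span {t}) R] in
theorem exists_monic_aeval_mem (hrad : maximalIdeal R ≤ (Ideal.span {t}).radical) (b : B) :
    ∃ p : R[X], p.Monic ∧ aeval b p ∈ maximalIdeal B := by
  obtain ⟨n, φ, hφ⟩ := hB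
  have htm := algebraMap_t_mem_maximalIdeal R t B ⟨n, φ, hφ⟩
  let φκ : RPow R (Ideal.span {t}) n →+* ResidueField B := (residue B).comp φ.toRingHom
  have hsurj : Function.Surjective φκ := (residue_surjective).comp hφ
  have hkill : ∀ a ∈ Ideal.span {t}, φκ (algebraMap R _ a) = 0 := by
    intro a ha
    rw [Ideal.mem_span_singleton] at ha
    obtain ⟨c, rfl⟩ := ha
    show residue B (φ (algebraMap R _ (t * c))) = 0
    rw [AlgHom.commutes, residue_eq_zero_iff, map_mul]
    exact Ideal.mul_mem_right _ _ htm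
  have hint := comp_algebraMap_isIntegral (Ideal.span {t}) ⟨{t}, by simp⟩ hrad n φκ hsurj hkill
  have hcomp : φκ.comp (algebraMap R (RPow R (Ideal.span {t}) n)) =
      (residue B).comp (algebraMap R B) := by
    ext r
    show residue B (φ (algebraMap R _ r)) = _
    rw [AlgHom.commutes]
    rfl
  rw [hcomp] at hint
  obtain ⟨p, hp, hp0⟩ := hint (residue B b)
  refine ⟨p, hp, ?_⟩
  rw [← residue_eq_zero_iff, aeval_def, Polynomial.hom_eval₂]
  exact hp0

include ht hB htB hdim in
/-- Bosch 8.3: a local integral domain of dimension one which is topologically of finite type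
over a complete height-one (valuation) ring is a finite module over it. -/
theorem finite_of_dim_one : Module.Finite R B := by
  classical
  haveI : Ring.KrullDimLE 1 B := Ring.krullDimLE_iff.2 hdim.le
  have hrad := maximalIdeal_le_radical R t ht
  have htm := algebraMap_t_mem_maximalIdeal R t B hB
  have hradB := maximalIdeal_le_radical B (algebraMap R B t) htB
  haveI hH : IsHausdorff (Ideal.span {t}) B := isHausdorff_of_dim_one R t B hB htB hdim
  -- the quotient `C = B / tB`
  let J : Ideal B := Ideal.span {algebraMap R B t}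
  have hint : Algebra.IsIntegral R (B ⧸ J) := by
    refine ⟨fun c => ?_⟩
    obtain ⟨b, rfl⟩ := Ideal.Quotient.mk_surjective c
    obtain ⟨p, hp, hpm⟩ := exists_monic_aeval_mem R t B hB hrad b
    obtain ⟨N, hN⟩ := hradB hpm
    refine ⟨p ^ N, hp.pow N, ?_⟩
    rw [← aeval_def]
    have h1 : aeval (Ideal.Quotient.mk J b) (p ^ N) = Ideal.Quotient.mk J (aeval b (p ^ N)) := by
      rw [← Ideal.Quotient.mkₐ_eq_mk R, ← aeval_algHom_apply]
    rw [h1, map_pow, Ideal.Quotient.eq_zero_iff_mem]
    exact hN
  obtain ⟨n, φ, hφ⟩ := hB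
  have hft : Algebra.FiniteType R (B ⧸ J) := by
    let ψ : MvPolynomial (Fin n) R →ₐ[R] B ⧸ J :=
      (Ideal.Quotient.mkₐ R J).comp (φ.comp
        (IsScalarTower.toAlgHom R (MvPolynomial (Fin n) R) (RPow R (Ideal.span {t}) n)))
    refine Algebra.FiniteType.of_surjective ψ ?_
    intro c
    obtain ⟨b, rfl⟩ := Ideal.Quotient.mk_surjective c
    obtain ⟨x, rfl⟩ := hφ b
    obtain ⟨p, hp⟩ := exists_of_sub_mem (Ideal.span {t}) (MvPolynomial (Fin n) R) ⟨{t}, by simp⟩ 1 x
    rw [pow_one] at hp
    refine ⟨p, ?_⟩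
    show Ideal.Quotient.mk J (φ (algebraMap _ _ p)) = Ideal.Quotient.mk J (φ x)
    rw [eq_comm, Ideal.Quotient.mk_eq_mk_iff_sub_mem, ← map_sub]
    have hle : (Ideal.span {t}).map (algebraMap R (RPow R (Ideal.span {t}) n)) ≤ J.comap φ := by
      rw [Ideal.map_le_iff_le_comap, Ideal.span_le]
      intro a ha
      rw [Set.mem_singleton_iff] at ha
      subst ha
      show φ (algebraMap R _ a) ∈ J
      rw [AlgHom.commutes]
      exact Ideal.mem_span_singleton_self _
    exact hle hp
  haveI : Module.Finite R (B ⧸ J) := Algebra.IsIntegral.finite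
  obtain ⟨s, c, hc⟩ := Module.Finite.exists_fin (R := R) (M := B ⧸ J)
  have hb : ∀ i, ∃ b : B, Ideal.Quotient.mk J b = c i := fun i => Ideal.Quotient.mk_surjective _
  choose b hb using hb
  let f : (Fin s → R) →ₗ[R] B := Fintype.linearCombination R b
  haveI : IsPrecomplete (Ideal.span {t}) (Fin s → R) := isPrecomplete_pi _ _
  have hsurj : Function.Surjective f := by
    apply surjective_of_mkQ_comp_surjective (I := Ideal.span {t})
    intro y
    obtain ⟨y, rfl⟩ := Submodule.Quotient.mk_surjective _ y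
    have hy : Ideal.Quotient.mk J y ∈ Submodule.span R (Set.range c) := by rw [hc]; trivial
    obtain ⟨r, hr⟩ := (Submodule.mem_span_range_iff_exists_fun R).1 hy
    refine ⟨r, ?_⟩
    show Submodule.Quotient.mk (f r) = Submodule.Quotient.mk y
    rw [Submodule.Quotient.eq]
    have h1 : f r - y ∈ J := by
      rw [← Ideal.Quotient.eq_zero_iff_mem, map_sub, sub_eq_zero, ← hr]
      show Ideal.Quotient.mk J (∑ i, r i • b i) = _
      rw [map_sum]
      refine Finset.sum_congr rfl (fun i _ => ?_)
      rw [← hb i, ← Ideal.Quotient.mkₐ_eq_mk R, map_smul]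
    rw [Ideal.mem_span_singleton] at h1
    obtain ⟨d, hd⟩ := h1
    rw [hd, ← Algebra.smul_def]
    exact Submodule.smul_mem_smul (Ideal.mem_span_singleton_self t) Submodule.mem_top
  exact Module.Finite.of_surjective f hsurj

end Finite

end Groth.Agent.Lib.Helper11.Bosch
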