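import Mathlib

/-!
# Henselian pairs and radicals (helper2)

`(A, I)` henselian and `J ≤ I` implies `(A, J)` henselian; `(A, I)` henselian and
`I ≤ K ≤ √I` implies `(A, K)` henselian.
-/

set_option autoImplicit false
universe u

open Polynomial

namespace Groth.Agent.Lib.Helper2

lemma isUnit_of_isUnit_mk_of_le_jacobson {A : Type*} [CommRing A] (I : Ideal A)
    (hI : I ≤ Ideal.jacobson ⊥) (x : A) (hx : IsUnit (Ideal.Quotient.mk I x)) : IsUnit x := by
  obtain ⟨y, hy⟩ := hx.exists_right_inv
  obtain ⟨z, rfl⟩ := Ideal.Quotient.mk_surjective y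
  have h1 : x * z - 1 ∈ I := by
    rw [← Ideal.Quotient.eq_zero_iff_mem, map_sub, map_mul, hy, map_one, sub_self]
  have h2 : IsUnit (x * z) := Ideal.isUnit_of_sub_one_mem_jacobson_bot _ (hI h1)
  exact isUnit_of_mul_isUnit_left h2

lemma isUnit_add_of_mem_jacobson {A : Type*} [CommRing A] (x j : A) (hx : IsUnit x)
    (hj : j ∈ Ideal.jacobson (⊥ : Ideal A)) : IsUnit (x + j) := by
  obtain ⟨u, rfl⟩ := hx
  have h1 : IsUnit (j * ↑u⁻¹ + 1) := (Ideal.mem_jacobson_bot.mp hj) _
  have h2 : (u : A) + j = (j * ↑u⁻¹ + 1) * u := by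
    rw [add_mul, mul_assoc, Units.inv_mul, mul_one, one_mul, add_comm]
  rw [h2]
  exact h1.mul u.isUnit

/-- A sub-ideal of a henselian ideal is henselian. -/
theorem henselianRing_of_le {A : Type*} [CommRing A] (I J : Ideal A) (hI : HenselianRing A I)
    (hJI : J ≤ I) : HenselianRing A J where
  jac := hJI.trans hI.jac
  is_henselian := by
    intro f hf a₀ h₁ h₂
    have h₂' : IsUnit (Ideal.Quotient.mk I (f.derivative.eval a₀)) := by
      have := h₂.map (Ideal.Quotient.factor hJI)
      rwa [Ideal.Quotient.factor_mk] at this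
    obtain ⟨a, ha, ha'⟩ := hI.is_henselian f hf a₀ (hJI h₁) h₂'
    have ha0 : f.eval a = 0 := ha
    obtain ⟨c, hc⟩ := f.binomExpansion a (a₀ - a)
    have e0 : a + (a₀ - a) = a₀ := by ring
    rw [e0, ha0, zero_add] at hc
    -- f(a₀) = (a₀ - a) * (f'(a) + c (a₀ - a))
    have hfac : f.eval a₀ = (a₀ - a) * (f.derivative.eval a + c * (a₀ - a)) := by
      rw [hc]; ring
    have hu0 : IsUnit (f.derivative.eval a₀) :=
      isUnit_of_isUnit_mk_of_le_jacobson I hI.jac _ h₂'
    have hu : IsUnit (f.derivative.eval a + c * (a₀ - a)) := by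
      obtain ⟨z, hz⟩ := f.derivative.evalSubFactor a a₀
      have : f.derivative.eval a + c * (a₀ - a) =
          f.derivative.eval a₀ + (z - c) * (a - a₀) := by
        have : f.derivative.eval a = f.derivative.eval a₀ + z * (a - a₀) := by
          rw [← hz]; ring
        rw [this]; ring
      rw [this]
      exact isUnit_add_of_mem_jacobson _ _ hu0 (hI.jac (I.mul_mem_left _ ha'))
    obtain ⟨v, hv⟩ := hu.exists_right_inv
    refine ⟨a, ha, ?_⟩
    have : a - a₀ = -(f.eval a₀ * v) := by
      rw [hfac, mul_assoc, hv]; ring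
    rw [this]
    exact (Ideal.neg_mem_iff _).mpr (J.mul_mem_right _ h₁)

/-- Newton iteration: improve an approximate root. -/
lemma exists_newton {A : Type*} [CommRing A] (f : A[X]) (a₀ : A)
    (hjac : f.eval a₀ ∈ Ideal.jacobson (⊥ : Ideal A)) (hu : IsUnit (f.derivative.eval a₀)) (m : ℕ) :
    ∃ a : A, f.eval a₀ ∣ (a - a₀) ∧ f.eval a₀ ^ (m + 1) ∣ f.eval a := by
  induction m with
  | zero => exact ⟨a₀, by rw [sub_self]; exact dvd_zero _, by rw [zero_add, pow_one]⟩
  | succ m ih =>
    obtain ⟨a, h1, h2⟩ := ih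
    set e := f.eval a₀ with he
    have hua : IsUnit (f.derivative.eval a) := by
      obtain ⟨z, hz⟩ := f.derivative.evalSubFactor a a₀
      have : f.derivative.eval a = f.derivative.eval a₀ + z * (a - a₀) := by
        rw [← hz]; ring
      rw [this]
      apply isUnit_add_of_mem_jacobson _ _ hu
      obtain ⟨w, hw⟩ := h1
      rw [hw]
      exact Ideal.mul_mem_left _ _ (Ideal.mul_mem_right _ _ hjac)
    obtain ⟨v, hv⟩ := hua.exists_right_inv
    obtain ⟨c, hc⟩ := f.binomExpansion a (-(f.eval a * v))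
    refine ⟨a + -(f.eval a * v), ?_, ?_⟩
    · have h3 : e ∣ f.eval a := dvd_trans (dvd_pow_self e (Nat.succ_ne_zero m)) h2
      have : a + -(f.eval a * v) - a₀ = (a - a₀) - f.eval a * v := by ring
      rw [this]
      exact dvd_sub h1 (Dvd.dvd.mul_right h3 v)
    · rw [hc]
      have : f.eval a + f.derivative.eval a * -(f.eval a * v) + c * (-(f.eval a * v)) ^ 2 =
          c * v ^ 2 * (f.eval a) ^ 2 + f.eval a * (1 - f.derivative.eval a * v) := by ring
      rw [this, hv, sub_self, mul_zero, add_zero]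
      apply Dvd.dvd.mul_left
      have h4 : (e ^ (m + 1)) ^ 2 ∣ f.eval a ^ 2 := pow_dvd_pow_of_dvd h2 2
      refine dvd_trans ?_ h4
      rw [← pow_mul]
      exact pow_dvd_pow e (by omega)

/-- An ideal between a henselian ideal and its radical is henselian. -/
theorem henselianRing_of_le_radical {A : Type*} [CommRing A] (I K : Ideal A)
    (hI : HenselianRing A I) (hIK : I ≤ K) (hK : K ≤ I.radical) : HenselianRing A K where
  jac := by
    have h1 : I.radical ≤ Ideal.jacobson ⊥ := by
      calc I.radical ≤ I.jacobson := Ideal.radical_le_jacobson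
        _ ≤ (Ideal.jacobson ⊥).jacobson := Ideal.jacobson_mono hI.jac
        _ = Ideal.jacobson ⊥ := Ideal.jacobson_idem
    exact hK.trans h1
  is_henselian := by
    have hKjac : K ≤ Ideal.jacobson ⊥ := by
      have h1 : I.radical ≤ Ideal.jacobson ⊥ := by
        calc I.radical ≤ I.jacobson := Ideal.radical_le_jacobson
          _ ≤ (Ideal.jacobson ⊥).jacobson := Ideal.jacobson_mono hI.jac
          _ = Ideal.jacobson ⊥ := Ideal.jacobson_idem
      exact hK.trans h1
    intro f hf a₀ h₁ h₂
    have hu0 : IsUnit (f.derivative.eval a₀) := isUnit_of_isUnit_mk_of_le_jacobson K hKjac _ h₂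
    obtain ⟨n, hn⟩ := hK h₁
    obtain ⟨a₁, h3, h4⟩ := exists_newton f a₀ (hKjac h₁) hu0 n
    have h5 : f.eval a₁ ∈ I := by
      obtain ⟨w, hw⟩ := h4
      rw [hw, pow_succ, mul_assoc]
      exact I.mul_mem_right _ hn
    have h6 : a₁ - a₀ ∈ K := by
      obtain ⟨w, hw⟩ := h3
      rw [hw]; exact K.mul_mem_right _ h₁
    have hu1 : IsUnit (f.derivative.eval a₁) := by
      obtain ⟨z, hz⟩ := f.derivative.evalSubFactor a₁ a₀
      have : f.derivative.eval a₁ = f.derivative.eval a₀ + z * (a₁ - a₀) := by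
        rw [← hz]; ring
      rw [this]
      exact isUnit_add_of_mem_jacobson _ _ hu0 (hKjac (K.mul_mem_left _ h6))
    obtain ⟨a, ha, ha'⟩ := hI.is_henselian f hf a₁ h5 (hu1.map _)
    refine ⟨a, ha, ?_⟩
    have : a - a₀ = (a - a₁) + (a₁ - a₀) := by ring
    rw [this]
    exact K.add_mem (hIK ha') h6

/-- Being henselian along an ideal only depends on the radical of the ideal. -/
theorem henselianRing_of_radical_eq {A : Type*} [CommRing A] (I J : Ideal A)
    (hI : HenselianRing A I) (h : I.radical = J.radical) : HenselianRing A J := by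
  have h1 : HenselianRing A I.radical :=
    henselianRing_of_le_radical I I.radical hI Ideal.le_radical (le_refl _)
  rw [h] at h1
  exact henselianRing_of_le J.radical J h1 Ideal.le_radical

end Groth.Agent.Lib.Helper2
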