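import Mathlib
import Groth.Agent.Lib.Helper28GeomRed1
import Groth.Agent.Lib.Helper2HenselRad

/-!
# Integrality via the norm over a complete height-one valuation ring (S11544)
-/

set_option autoImplicit false
universe u

namespace Groth.Agent.Lib.Helper14ValNorm


open Polynomial IsLocalRing

/-- the valuation-ring criterion: in a local ring integrally closed in a field `L`, an element
of `L` killed by a polynomial with a unit coefficient lies in the ring or its inverse does. -/
theorem mem_or_inv_mem {B L : Type*} [CommRing B] [IsLocalRing B] [Field L] [Algebra B L]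
    [IsIntegrallyClosedIn B L] (x : L) :
    ∀ (n : ℕ) (p : B[X]), p.natDegree = n → aeval x p = 0 → (∃ i, IsUnit (p.coeff i)) →
      x ∈ (algebraMap B L).range ∨ x⁻¹ ∈ (algebraMap B L).range := by
  intro n
  induction n using Nat.strong_induction_on with
  | _ n IH =>
  intro p hn hp hu
  have hinj : Function.Injective (algebraMap B L) :=
    (isIntegrallyClosedIn_iff.mp inferInstance).1
  have hcl : ∀ {y : L}, IsIntegral B y → ∃ b, algebraMap B L b = y :=
    (isIntegrallyClosedIn_iff.mp inferInstance).2
  obtain ⟨i, hi⟩ := hu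
  rcases Nat.eq_zero_or_pos n with h0 | hpos
  · -- constant polynomial
    exfalso
    rw [h0] at hn
    obtain ⟨c, rfl⟩ := natDegree_eq_zero.mp hn
    rw [aeval_C] at hp
    have hc0 : c = 0 := hinj (by rw [hp, map_zero])
    subst hc0
    rw [map_zero, coeff_zero] at hi
    exact not_isUnit_zero hi
  by_cases hlead : IsUnit p.leadingCoeff
  · -- x is integral
    left
    have hint : IsIntegral B x := by
      obtain ⟨u, hu⟩ := hlead
      refine ⟨C (↑u⁻¹ : B) * p, ?_, ?_⟩
      · rw [Monic, leadingCoeff_mul' (by
          rw [leadingCoeff_C, ← hu, Units.inv_mul]; exact one_ne_zero), leadingCoeff_C, ← hu,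
          Units.inv_mul]
      · rw [← aeval_def, map_mul, hp, mul_zero]
    obtain ⟨b, hb⟩ := hcl hint
    exact ⟨b, hb⟩
  · -- leading coefficient in the maximal ideal
    have hy : IsIntegral B (p.leadingCoeff • x) := isIntegral_leadingCoeff_smul p x hp
    obtain ⟨y, hy⟩ := hcl hy
    by_cases hyu : IsUnit y
    · right
      obtain ⟨u, rfl⟩ := hyu
      refine ⟨p.leadingCoeff * ↑u⁻¹, ?_⟩
      have hx0 : x ≠ 0 := by
        rintro rfl
        rw [smul_zero] at hy
        have : (u : B) = 0 := hinj (by rw [hy, map_zero])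
        exact u.ne_zero this
      rw [map_mul, ← Algebra.smul_def]
      have h1 : algebraMap B L ↑u * algebraMap B L ↑u⁻¹ = 1 := by
        rw [← map_mul, Units.mul_inv, map_one]
      rw [Algebra.smul_def] at hy
      field_simp
      rw [Algebra.smul_def]
      calc algebraMap B L p.leadingCoeff * algebraMap B L ↑u⁻¹ * x
          = (algebraMap B L p.leadingCoeff * x) * algebraMap B L ↑u⁻¹ := by ring
        _ = algebraMap B L ↑u * algebraMap B L ↑u⁻¹ := by rw [← hy]
        _ = 1 := h1
    · -- recurse
      obtain ⟨m, rfl⟩ : ∃ m, n = m + 1 := ⟨n - 1, by omega⟩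
      let q : B[X] := p.eraseLead + C y * X ^ m
      have hqdeg : q.natDegree ≤ m := by
        have h1 : p.eraseLead.natDegree ≤ m := by
          have := eraseLead_natDegree_le p
          omega
        exact (natDegree_add_le _ _).trans (max_le h1 (natDegree_C_mul_X_pow_le y m))
      have hqx : aeval x q = 0 := by
        have e1 : p.eraseLead = p - C p.leadingCoeff * X ^ (m + 1) := by
          rw [← hn, self_sub_C_mul_X_pow]
        simp only [q, e1, map_add, map_sub, map_mul, aeval_C, map_pow, aeval_X, hp, zero_sub]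
        rw [hy, Algebra.smul_def]
        ring
      have hni : i ≠ m + 1 := by
        rintro rfl
        apply hlead
        rwa [leadingCoeff, hn]
      have hqi : IsUnit (q.coeff i) := by
        have hc : q.coeff i = p.coeff i + (if i = m then y else 0) := by
          simp only [q, coeff_add, coeff_C_mul, coeff_X_pow, eraseLead_coeff, hn]
          rw [if_neg hni]
          split_ifs <;> simp
        rw [hc]
        split_ifs with him
        · have hym : y ∈ maximalIdeal B := (mem_maximalIdeal _).2 hyu
          by_contra hcon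
          have h2 : p.coeff i + y ∈ maximalIdeal B := (mem_maximalIdeal _).2 hcon
          have h3 : p.coeff i ∈ maximalIdeal B := by
            have := Ideal.sub_mem _ h2 hym
            rwa [add_sub_cancel_right] at this
          exact ((mem_maximalIdeal _).1 h3) hi
        · rwa [add_zero]
      exact IH q.natDegree (by omega) q rfl hqx ⟨i, hqi⟩



open Polynomial IsLocalRing

/-- the integral closure of a henselian local ring in a field is a local ring. -/
theorem isLocalRing_integralClosure (R : Type u) [CommRing R] [HenselianLocalRing R]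
    (L : Type u) [Field L] [Algebra R L] : IsLocalRing (integralClosure R L) := by
  apply IsLocalRing.of_nonunits_add
  intro a b ha hb hab
  rw [mem_nonunits_iff] at ha hb
  obtain ⟨c, hc⟩ := hab.exists_right_inv
  -- the finite subalgebra generated by a, b, c
  let s : Set L := {(a : L), (b : L), (c : L)}
  have hsfin : s.Finite := by simp [s]
  have hsint : ∀ x ∈ s, IsIntegral R x := by
    intro x hx
    simp only [s, Set.mem_insert_iff, Set.mem_singleton_iff] at hx
    rcases hx with rfl | rfl | rfl
    · exact a.2
    · exact b.2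
    · exact c.2
  let C : Subalgebra R L := Algebra.adjoin R s
  haveI : Module.Finite R C := Algebra.finite_adjoin_of_finite_of_isIntegral hsfin hsint
  haveI : IsLocalRing C := Groth.Agent.Lib.Helper28.GeomRed.isLocalRing_of_finite_of_isDomain R C
  have hCle : C ≤ integralClosure R L := Algebra.adjoin_le (fun x hx => hsint x hx)
  have haC : (a : L) ∈ C := Algebra.subset_adjoin (by simp [s])
  have hbC : (b : L) ∈ C := Algebra.subset_adjoin (by simp [s])
  have hcC : (c : L) ∈ C := Algebra.subset_adjoin (by simp [s])
  -- units of C are units of the integral closure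
  have hunit : ∀ (x : integralClosure R L) (hx : (x : L) ∈ C), IsUnit (⟨x, hx⟩ : C) → IsUnit x := by
    intro x hx hu
    obtain ⟨y, hy⟩ := hu.exists_right_inv
    refine IsUnit.of_mul_eq_one (⟨y, hCle y.2⟩ : integralClosure R L) ?_
    apply Subtype.ext
    have := congrArg (Subtype.val) hy
    simpa using this
  have ha' : ¬ IsUnit (⟨a, haC⟩ : C) := fun h => ha (hunit a haC h)
  have hb' : ¬ IsUnit (⟨b, hbC⟩ : C) := fun h => hb (hunit b hbC h)
  have hsum : ¬ IsUnit ((⟨a, haC⟩ : C) + ⟨b, hbC⟩) := by
    have h1 := (mem_maximalIdeal _).2 ha'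
    have h2 := (mem_maximalIdeal _).2 hb'
    exact (mem_maximalIdeal _).1 (Ideal.add_mem _ h1 h2)
  apply hsum
  refine IsUnit.of_mul_eq_one (⟨c, hcC⟩ : C) ?_
  apply Subtype.ext
  have := congrArg (Subtype.val) hc
  simpa using this



open Polynomial IsLocalRing

theorem henselianLocalRing_of_complete (R : Type u) [CommRing R] [IsDomain R] [IsLocalRing R]
    [Ring.KrullDimLE 1 R] (t : R) (ht : t ≠ 0) [IsAdicComplete (Ideal.span {t}) R] :
    HenselianLocalRing R := by
  have hjac : Ideal.span {t} ≤ maximalIdeal R := by
    have := IsAdicComplete.le_jacobson_bot (Ideal.span {t}) (R := R)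
    rwa [IsLocalRing.jacobson_eq_maximalIdeal ⊥ bot_ne_top] at this
  have hrad : maximalIdeal R ≤ (Ideal.span {t}).radical := by
    rw [Ideal.radical_eq_sInf]
    refine le_sInf ?_
    rintro P ⟨hP1, hP2⟩
    have hPne : P ≠ ⊥ := by
      rintro rfl
      exact ht ((Ideal.mem_bot).1 (hP1 (Ideal.mem_span_singleton_self t)))
    haveI := hP2
    have hPmax : P.IsMaximal := Ideal.IsPrime.isMaximal_of_ne_bot hP2 hPne
    rw [IsLocalRing.eq_maximalIdeal hPmax]
  have h1 : HenselianRing R (maximalIdeal R) :=
    Groth.Agent.Lib.Helper2.henselianRing_of_le_radical _ _ inferInstance hjac hrad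
  exact { is_henselian := fun f hf a₀ h₁ h₂ =>
      h1.is_henselian f hf a₀ h₁ (h₂.map (Ideal.Quotient.mk (maximalIdeal R))) }



open Polynomial IsLocalRing

theorem exists_dvd_all {R : Type*} [CommRing R] [IsDomain R] [ValuationRing R] {ι : Type*}
    (f : ι → R) (s : Finset ι) (hs : s.Nonempty) : ∃ i ∈ s, ∀ j ∈ s, f i ∣ f j := by
  classical
  induction hs using Finset.Nonempty.cons_induction with
  | singleton a => exact ⟨a, Finset.mem_singleton_self a, fun j hj => by
      rw [Finset.mem_singleton] at hj; rw [hj]⟩
  | cons a s ha hs ih =>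
    obtain ⟨i, his, hi⟩ := ih
    rcases ValuationRing.dvd_total (f a) (f i) with h | h
    · refine ⟨a, Finset.mem_cons_self a s, fun j hj => ?_⟩
      rw [Finset.mem_cons] at hj
      rcases hj with rfl | hj
      · exact dvd_rfl
      · exact h.trans (hi j hj)
    · refine ⟨i, Finset.mem_cons.2 (Or.inr his), fun j hj => ?_⟩
      rw [Finset.mem_cons] at hj
      rcases hj with rfl | hj
      · exact h
      · exact hi j hj

theorem exists_poly_coeff_one {R : Type*} [CommRing R] [IsDomain R] [ValuationRing R]
    {L : Type*} [Field L] [Algebra R L] (hinj : Function.Injective (algebraMap R L))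
    (x : L) (hx : IsAlgebraic R x) : ∃ p : R[X], aeval x p = 0 ∧ ∃ i, p.coeff i = 1 := by
  obtain ⟨p, hp0, hp⟩ := hx
  have hne : p.support.Nonempty := by
    rw [Finset.nonempty_iff_ne_empty, Ne, support_eq_empty]; exact hp0
  obtain ⟨i, hi, hdvd⟩ := exists_dvd_all (fun j => p.coeff j) p.support hne
  have hc0 : p.coeff i ≠ 0 := mem_support_iff.mp hi
  have hCdvd : C (p.coeff i) ∣ p := by
    rw [C_dvd_iff_dvd_coeff]
    intro j
    by_cases hj : j ∈ p.support
    · exact hdvd j hj
    · rw [notMem_support_iff.mp hj]; exact dvd_zero _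
  obtain ⟨q, hq⟩ := hCdvd
  refine ⟨q, ?_, i, ?_⟩
  · rw [hq, map_mul, aeval_C] at hp
    rcases mul_eq_zero.mp hp with h | h
    · exfalso
      exact hc0 (hinj (by rw [h, map_zero]))
    · exact h
  · have h1 : p.coeff i = p.coeff i * q.coeff i := by
      conv_lhs => rw [hq, coeff_C_mul]
    have h2 : p.coeff i * q.coeff i = p.coeff i * 1 := by rw [mul_one]; exact h1.symm
    exact mul_left_cancel₀ hc0 h2



open Polynomial IsLocalRing IntermediateField

/-- an integral element whose norm is a unit has an integral inverse. -/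
theorem isIntegral_inv_of_norm_isUnit {R K L : Type*} [CommRing R] [IsDomain R]
    [IsIntegrallyClosed R] [Field K] [Algebra R K] [IsFractionRing R K] [Field L] [Algebra K L]
    [Algebra R L] [IsScalarTower R K L] [FiniteDimensional K L] (x : L) (hx : IsIntegral R x)
    (hx0 : x ≠ 0) (s : R) (hs : IsUnit s) (hN : Algebra.norm K x = algebraMap R K s) :
    IsIntegral R x⁻¹ := by
  classical
  let E := AlgebraicClosure L
  have hinjE : Function.Injective (algebraMap L E) := (algebraMap L E).injective
  rw [← isIntegral_algHom_iff (IsScalarTower.toAlgHom R L E) hinjE, IsScalarTower.coe_toAlgHom',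
    map_inv₀]
  have hxE0 : algebraMap L E x ≠ 0 := (map_ne_zero_iff _ hinjE).mpr hx0
  have hroots := Algebra.norm_eq_prod_roots (K := K) (F := E) (x := x) (IsAlgClosed.splits _)
  have hmem : algebraMap L E x ∈ (minpoly K x).aroots E := by
    rw [mem_aroots]
    refine ⟨minpoly.ne_zero (hx.tower_top), ?_⟩
    rw [aeval_algebraMap_apply, minpoly.aeval, map_zero]
  rw [← Multiset.prod_erase hmem] at hroots
  have hk : Module.finrank K⟮x⟯ L ≠ 0 := Nat.pos_iff_ne_zero.1 Module.finrank_pos
  set Q := (((minpoly K x).aroots E).erase (algebraMap L E x)).prod with hQ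
  have hQint : IsIntegral R Q := by
    refine IsIntegral.multiset_prod (fun a ha => ⟨minpoly R x, minpoly.monic hx, ?_⟩)
    replace ha := Multiset.erase_subset _ _ ha
    rw [mem_aroots] at ha
    have h1 : minpoly K x = (minpoly R x).map (algebraMap R K) :=
      minpoly.isIntegrallyClosed_eq_field_fractions K L hx
    have h2 := ha.2
    rw [h1, aeval_map_algebraMap] at h2
    rw [← aeval_def]; exact h2
  have hxEint : IsIntegral R (algebraMap L E x) := hx.map (IsScalarTower.toAlgHom R L E)
  obtain ⟨u, rfl⟩ := hs
  have hNE : algebraMap K E (Algebra.norm K x) = algebraMap R E (u : R) := by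
    rw [hN, ← IsScalarTower.algebraMap_apply]
  rw [hNE] at hroots
  -- x_E⁻¹ = u⁻¹ * x_E^(k-1) * Q^k
  have key : (algebraMap L E x)⁻¹ = algebraMap R E (↑u⁻¹ : R) *
      ((algebraMap L E x) ^ (Module.finrank K⟮x⟯ L - 1) * Q ^ Module.finrank K⟮x⟯ L) := by
    have h3 : algebraMap R E (u : R) * algebraMap R E (↑u⁻¹ : R) = 1 := by
      rw [← map_mul, Units.mul_inv, map_one]
    have h4 : algebraMap R E (u : R) = algebraMap L E x *
        ((algebraMap L E x) ^ (Module.finrank K⟮x⟯ L - 1) * Q ^ Module.finrank K⟮x⟯ L) := by
      rw [hroots, mul_pow, ← mul_assoc, mul_pow_sub_one hk]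
    rw [inv_eq_iff_eq_inv]
    symm
    apply inv_eq_of_mul_eq_one_left
    calc algebraMap L E x * (algebraMap R E (↑u⁻¹ : R) *
        ((algebraMap L E x) ^ (Module.finrank K⟮x⟯ L - 1) * Q ^ Module.finrank K⟮x⟯ L))
        = (algebraMap L E x * ((algebraMap L E x) ^ (Module.finrank K⟮x⟯ L - 1) *
            Q ^ Module.finrank K⟮x⟯ L)) * algebraMap R E (↑u⁻¹ : R) := by ring
      _ = 1 := by rw [← h4, h3]
  rw [key]
  exact IsIntegral.mul isIntegral_algebraMap ((hxEint.pow _).mul (hQint.pow _))



open Polynomial IsLocalRing IntermediateField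

section Main
variable (R : Type u) [CommRing R] [IsDomain R] [ValuationRing R] [Ring.KrullDimLE 1 R]
    (t : R) (ht : t ≠ 0) [IsAdicComplete (Ideal.span {t}) R]
    (L : Type u) [Field L] [Algebra R L] [Algebra (FractionRing R) L]
    [IsScalarTower R (FractionRing R) L] [Algebra.IsAlgebraic (FractionRing R) L] (α : L)

omit [Ring.KrullDimLE 1 R] [Algebra.IsAlgebraic (FractionRing R) L] in
theorem isIntegral_gen_iff :
    IsIntegral R (AdjoinSimple.gen (FractionRing R) α) ↔ IsIntegral R α := by
  have := isIntegral_algHom_iff ((IntermediateField.val (FractionRing R)⟮α⟯).restrictScalars R)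
    (x := AdjoinSimple.gen (FractionRing R) α) (Subtype.val_injective)
  rw [← this]
  rfl

omit [Ring.KrullDimLE 1 R] [Algebra.IsAlgebraic (FractionRing R) L] in
theorem norm_mem_of_isIntegral (h : IsIntegral R α) :
    Algebra.norm (FractionRing R) (AdjoinSimple.gen (FractionRing R) α) ∈
        (algebraMap R (FractionRing R)).range := by
  have h1 : IsIntegral R (AdjoinSimple.gen (FractionRing R) α) := (isIntegral_gen_iff R L α).2 h
  have h2 := Algebra.isIntegral_norm (FractionRing R) h1
  obtain ⟨y, hy⟩ := IsIntegrallyClosed.isIntegral_iff.mp h2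
  exact ⟨y, hy⟩

end Main



open Polynomial IsLocalRing IntermediateField

section Main
variable (R : Type u) [CommRing R] [IsDomain R] [ValuationRing R] [Ring.KrullDimLE 1 R]
    (t : R) (ht : t ≠ 0) [IsAdicComplete (Ideal.span {t}) R]
    (L : Type u) [Field L] [Algebra R L] [Algebra (FractionRing R) L]
    [IsScalarTower R (FractionRing R) L] [Algebra.IsAlgebraic (FractionRing R) L] (α : L)

include t ht in
theorem isIntegral_gen_of_norm_mem
    (h : Algebra.norm (FractionRing R) (AdjoinSimple.gen (FractionRing R) α) ∈
        (algebraMap R (FractionRing R)).range) :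
    IsIntegral R (AdjoinSimple.gen (FractionRing R) α) := by
  classical
  obtain ⟨r, hr⟩ := h
  haveI : HenselianLocalRing R := henselianLocalRing_of_complete R t ht
  haveI : IsLocalRing (integralClosure R (FractionRing R)⟮α⟯) :=
    isLocalRing_integralClosure R (FractionRing R)⟮α⟯
  have hαK : IsIntegral (FractionRing R) α := Algebra.IsIntegral.isIntegral α
  haveI : FiniteDimensional (FractionRing R) (FractionRing R)⟮α⟯ :=
    IntermediateField.adjoin.finiteDimensional hαK
  have hinj : Function.Injective (algebraMap R (FractionRing R)⟮α⟯) := by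
    rw [IsScalarTower.algebraMap_eq R (FractionRing R) (FractionRing R)⟮α⟯]
    exact (algebraMap (FractionRing R) (FractionRing R)⟮α⟯).injective.comp
      (IsFractionRing.injective R (FractionRing R))
  set g := AdjoinSimple.gen (FractionRing R) α with hg
  have halgK : IsAlgebraic (FractionRing R) g := Algebra.IsAlgebraic.isAlgebraic g
  have halg : IsAlgebraic R g :=
    (IsFractionRing.isAlgebraic_iff R (FractionRing R) (FractionRing R)⟮α⟯).2 halgK
  obtain ⟨p, hp, i, hi⟩ := exists_poly_coeff_one hinj g halg
  have hp' : aeval g (p.map (algebraMap R (integralClosure R (FractionRing R)⟮α⟯))) = 0 := by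
    rw [aeval_map_algebraMap]; exact hp
  have hu : ∃ i, IsUnit ((p.map (algebraMap R (integralClosure R (FractionRing R)⟮α⟯))).coeff i) :=
    ⟨i, by rw [coeff_map, hi, map_one]; exact isUnit_one⟩
  rcases mem_or_inv_mem g _ _ rfl hp' hu with ⟨b, hb⟩ | ⟨β, hβ⟩
  · rw [← hb]; exact b.2
  · -- the inverse is integral; use the norm
    by_cases hg0 : g = 0
    · rw [hg0]; exact isIntegral_zero
    have hβint : IsIntegral R (β : (FractionRing R)⟮α⟯) := β.2
    have hβ0 : (β : (FractionRing R)⟮α⟯) ≠ 0 := by
      show algebraMap (integralClosure R (FractionRing R)⟮α⟯) (FractionRing R)⟮α⟯ β ≠ 0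
      rw [hβ]; exact inv_ne_zero hg0
    have hNβint : IsIntegral R (Algebra.norm (FractionRing R) (β : (FractionRing R)⟮α⟯)) :=
      Algebra.isIntegral_norm (FractionRing R) hβint
    obtain ⟨s, hs⟩ := IsIntegrallyClosed.isIntegral_iff.mp hNβint
    have hmul : algebraMap R (FractionRing R) (r * s) = 1 := by
      rw [map_mul, hr, hs, ← map_mul]
      have : g * (β : (FractionRing R)⟮α⟯) = 1 := by
        show g * algebraMap (integralClosure R (FractionRing R)⟮α⟯) (FractionRing R)⟮α⟯ β = 1
        rw [hβ]; exact mul_inv_cancel₀ hg0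
      rw [this, map_one]
    have hrs : r * s = 1 := IsFractionRing.injective R (FractionRing R) (by rw [hmul, map_one])
    have hsu : IsUnit s := IsUnit.of_mul_eq_one r (by rw [mul_comm]; exact hrs)
    have := isIntegral_inv_of_norm_isUnit (R := R) (K := FractionRing R)
      (β : (FractionRing R)⟮α⟯) hβint hβ0 s hsu hs.symm
    have hβg : (β : (FractionRing R)⟮α⟯)⁻¹ = g := by
      show (algebraMap (integralClosure R (FractionRing R)⟮α⟯) (FractionRing R)⟮α⟯ β)⁻¹ = g
      rw [hβ, inv_inv]
    rwa [hβg] at this

end Main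


section Final
variable (R : Type u) [CommRing R] [IsDomain R] [ValuationRing R] [Ring.KrullDimLE 1 R]
    (t : R) (ht : t ≠ 0) [IsAdicComplete (Ideal.span {t}) R]
    (L : Type u) [Field L] [Algebra R L] [Algebra (FractionRing R) L]
    [IsScalarTower R (FractionRing R) L] [Algebra.IsAlgebraic (FractionRing R) L] (α : L)

include t ht in
theorem main :
    IsIntegral R α ↔
      Algebra.norm (FractionRing R) (IntermediateField.AdjoinSimple.gen (FractionRing R) α) ∈
        (algebraMap R (FractionRing R)).range := by
  constructor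
  · exact norm_mem_of_isIntegral R L α
  · intro h
    exact (isIntegral_gen_iff R L α).1 (isIntegral_gen_of_norm_mem R t ht L α h)

end Final

end Groth.Agent.Lib.Helper14ValNorm
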