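import Mathlib
import Groth.Prelude.Def_W4bk4boschfrg79
import Groth.Agent.Lib.Helper11BoschA
import Groth.Agent.Lib.Helper14ValNorm

/-!
# Helper11 Bosch B: integral closure of a finite domain over a complete height-one valuation ring
is a valuation ring; admissible local domains of dimension one.
-/

set_option autoImplicit false
universe u v

namespace Groth.Agent.Lib.Helper11.Bosch

open IsLocalRing Polynomial

section VR
variable (R : Type u) [CommRing R] [IsDomain R] [ValuationRing R] [Ring.KrullDimLE 1 R]
  (t : R) (ht : t ≠ 0) [IsAdicComplete (Ideal.span {t}) R]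
  (B : Type u) [CommRing B] [Algebra R B] [IsDomain B] [Module.Finite R B]

include ht in
theorem valuationRing_integralClosure (hinj : Function.Injective (algebraMap R B)) :
    ValuationRing (integralClosure B (FractionRing B)) := by
  classical
  let L := FractionRing B
  haveI : Algebra.IsIntegral R B := Algebra.IsIntegral.of_finite R B
  haveI : Algebra.IsAlgebraic B L := IsLocalization.isAlgebraic L (nonZeroDivisors B)
  haveI : Algebra.IsAlgebraic R L := Algebra.IsIntegral.trans_isAlgebraic R B L
  have hinjBL : Function.Injective (algebraMap B L) := IsFractionRing.injective B L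
  have hinjRL : Function.Injective (algebraMap R L) := by
    rw [IsScalarTower.algebraMap_eq R B L]
    exact hinjBL.comp hinj
  haveI : IsFractionRing (integralClosure B L) L :=
    integralClosure.isFractionRing_of_algebraic
      (fun x hx => hinjBL (by rw [hx, map_zero]))
  -- the integral closure of `B` is that of `R`
  have hmem : ∀ x : L, x ∈ integralClosure B L ↔ x ∈ integralClosure R L := by
    intro x
    constructor
    · intro hx
      exact isIntegral_trans (R := R) (A := B) x hx
    · intro hx
      exact IsIntegral.tower_top hx
  haveI : HenselianLocalRing R :=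
    Groth.Agent.Lib.Helper14ValNorm.henselianLocalRing_of_complete R t ht
  haveI hloc : IsLocalRing (integralClosure R L) :=
    Groth.Agent.Lib.Helper14ValNorm.isLocalRing_integralClosure R L
  let e : integralClosure R L ≃+* integralClosure B L :=
    { toFun := fun x => ⟨x.1, (hmem _).2 x.2⟩
      invFun := fun x => ⟨x.1, (hmem _).1 x.2⟩
      left_inv := fun _ => rfl
      right_inv := fun _ => rfl
      map_mul' := fun _ _ => rfl
      map_add' := fun _ _ => rfl }
  haveI : IsLocalRing (integralClosure B L) := e.isLocalRing
  haveI : IsIntegrallyClosedIn (integralClosure B L) L := inferInstance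
  rw [ValuationRing.iff_isInteger_or_isInteger (integralClosure B L) L]
  intro x
  obtain ⟨p, hp, i, hi⟩ := Groth.Agent.Lib.Helper14ValNorm.exists_poly_coeff_one hinjRL x
    (Algebra.IsAlgebraic.isAlgebraic x)
  have := Groth.Agent.Lib.Helper14ValNorm.mem_or_inv_mem (B := integralClosure B L) (L := L) x
    _ (p.map (algebraMap R (integralClosure B L))) rfl
    (by rw [aeval_map_algebraMap]; exact hp)
    ⟨i, by rw [coeff_map, hi, map_one]; exact isUnit_one⟩
  exact this

end VR

section Adm
open AdicRing
variable (R : Type u) [CommRing R] (I : Ideal R) (B : Type u) [CommRing B] [Algebra R B]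

theorem topFiniteType_of_admissible (hB : Admissible R I B) : TopFiniteType R I B := by
  obtain ⟨⟨n, φ, hφ, -⟩, -⟩ := hB
  exact ⟨n, φ, hφ⟩

theorem algebraMap_ne_zero_of_noPowTorsion [Nontrivial B] (t : R) (hB : NoPowTorsion (Ideal.span {t}) B) :
    algebraMap R B t ≠ 0 := by
  intro h0
  have := hB 1 1 (fun a ha => by
    rw [pow_one, Ideal.mem_span_singleton] at ha
    obtain ⟨c, rfl⟩ := ha
    rw [Algebra.smul_def, map_mul, h0, zero_mul, zero_mul])
  exact one_ne_zero this

end Adm

section Main
open AdicRing
variable (R : Type u) [CommRing R] [IsDomain R] [IsLocalRing R] [Ring.KrullDimLE 1 R]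
  (t : R) (ht : t ≠ 0) [IsAdicComplete (Ideal.span {t}) R]
  (B : Type u) [CommRing B] [Algebra R B] [IsDomain B]

theorem algebraMap_injective_of_ne_zero (htB : algebraMap R B t ≠ 0) :
    Function.Injective (algebraMap R B) := by
  rw [RingHom.injective_iff_ker_eq_bot]
  haveI : (RingHom.ker (algebraMap R B)).IsPrime := RingHom.ker_isPrime _
  apply prime_eq_bot_of_notMem R t
  rw [RingHom.mem_ker]
  exact htB

end Main

end Groth.Agent.Lib.Helper11.Bosch
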