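import Mathlib
import Groth.Prelude.Def_W4bk4boschfrg79
import Groth.Agent.Lib.Helper11BoschA

/-!
# Helper11 Bosch C: inverse of a unit with integral inverse; surjectivity after complete
localization (Bosch 8.3).
-/

set_option autoImplicit false
universe u v

namespace Groth.Agent.Lib.Helper11.Bosch

open IsLocalRing Polynomial

theorem inv_mem_adjoin_of_isIntegral {R B : Type*} [CommRing R] [CommRing B] [Algebra R B]
    (b b' : B) (h : b * b' = 1) (hint : IsIntegral R b') : b' ∈ Algebra.adjoin R {b} := by
  obtain ⟨p, hp, hp0⟩ := hint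
  letI : Invertible b' := ⟨b, h, by rw [mul_comm]; exact h⟩
  have h1 := Polynomial.eval₂_reverse_mul_pow (algebraMap R B) b' p
  rw [hp0] at h1
  have hinv : (⅟b' : B) = b := rfl
  rw [hinv] at h1
  have hu : IsUnit (b' ^ p.natDegree) := (IsUnit.of_mul_eq_one b (by rw [mul_comm]; exact h)).pow _
  have h2 : eval₂ (algebraMap R B) b p.reverse = 0 := hu.mul_left_eq_zero.1 h1
  have h3 := Polynomial.divX_mul_X_add p.reverse
  rw [coeff_zero_reverse, hp.leadingCoeff] at h3
  rw [← h3, eval₂_add, eval₂_mul, eval₂_X, eval₂_C, map_one] at h2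
  have h4 : b' = - eval₂ (algebraMap R B) b p.reverse.divX := by
    have h5 : (eval₂ (algebraMap R B) b p.reverse.divX * b + 1) * b' = 0 := by rw [h2, zero_mul]
    have h6 : eval₂ (algebraMap R B) b p.reverse.divX * (b * b') + b' = 0 := by
      rw [← h5]; ring
    rw [h, mul_one] at h6
    exact (neg_eq_of_add_eq_zero_right h6).symm ▸ (by ring)
  rw [h4]
  refine Subalgebra.neg_mem _ ?_
  rw [← aeval_def]
  exact aeval_mem_adjoin_singleton R b

open AdicRing in
/-- If `B` is a finite module over the `t`-adically complete ring `R` and `A⟨f⁻¹⟩ → B` is a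
surjective `R`-algebra map, then `A → B` is surjective. -/
theorem surjective_of_cloc {R : Type u} [CommRing R] (t : R) [IsAdicComplete (Ideal.span {t}) R]
    (A : Type u) [CommRing A] [Algebra R A] (f : A) (B : Type u) [CommRing B] [Algebra R B]
    [Module.Finite R B] (u : CLoc (Ideal.span {t}) f →ₐ[R] B) (hu : Function.Surjective u) :
    Function.Surjective (u.toRingHom.comp (algebraMap A (CLoc (Ideal.span {t}) f))) := by
  classical
  let gA : A →ₐ[R] B := u.comp (IsScalarTower.toAlgHom R A (CLoc (Ideal.span {t}) f))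
  have hgA : ∀ a, gA a = u (algebraMap A (CLoc (Ideal.span {t}) f) a) := fun a => rfl
  let S : Subalgebra R B := gA.range
  -- `b = g f` is a unit of `B`
  have hfu : IsUnit (algebraMap A (CLoc (Ideal.span {t}) f) f) := by
    rw [IsScalarTower.algebraMap_apply A (Localization.Away f) (CLoc (Ideal.span {t}) f)]
    exact (IsLocalization.Away.algebraMap_isUnit f).map _
  have hbu : IsUnit (gA f) := hfu.map u
  obtain ⟨b', hb'⟩ := hbu.exists_right_inv
  haveI : Algebra.IsIntegral R B := Algebra.IsIntegral.of_finite R B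
  have hb'S : b' ∈ S := by
    have h1 := inv_mem_adjoin_of_isIntegral (R := R) (gA f) b' hb' (Algebra.IsIntegral.isIntegral b')
    have h2 : Algebra.adjoin R {gA f} ≤ S := Algebra.adjoin_le (by
      rintro _ rfl
      exact ⟨f, rfl⟩)
    exact h2 h1
  -- image of `A_f` lies in `S`
  have hloc : ∀ z : Localization.Away f,
      u (algebraMap (Localization.Away f) (CLoc (Ideal.span {t}) f) z) ∈ S := by
    intro z
    obtain ⟨⟨a, ⟨_, k, rfl⟩⟩, hz⟩ := IsLocalization.surj (Submonoid.powers f) z
    simp only at hz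
    have h1 : u (algebraMap (Localization.Away f) (CLoc (Ideal.span {t}) f) z) * gA f ^ k = gA a := by
      rw [hgA, hgA, ← map_pow, ← map_pow, ← map_mul,
        IsScalarTower.algebraMap_apply A (Localization.Away f) (CLoc (Ideal.span {t}) f),
        IsScalarTower.algebraMap_apply A (Localization.Away f) (CLoc (Ideal.span {t}) f) a,
        ← map_mul, hz]
    have h2 : u (algebraMap (Localization.Away f) (CLoc (Ideal.span {t}) f) z) = gA a * b' ^ k := by
      rw [← h1, mul_assoc, ← mul_pow, hb', one_pow, mul_one]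
    rw [h2]
    exact S.mul_mem ⟨a, rfl⟩ (S.pow_mem hb'S k)
  -- density
  have hdense : (⊤ : Submodule R B) ≤ Subalgebra.toSubmodule S ⊔ Ideal.span {t} • ⊤ := by
    intro y _
    obtain ⟨x, rfl⟩ := hu y
    obtain ⟨z, hz⟩ := exists_of_sub_mem (Ideal.span {t}) (Localization.Away f) ⟨{t}, by simp⟩ 1 x
    rw [pow_one] at hz
    have hle : (Ideal.span {t}).map (algebraMap R (CLoc (Ideal.span {t}) f)) ≤
        (Ideal.span {algebraMap R B t}).comap u := by
      rw [Ideal.map_le_iff_le_comap, Ideal.span_le]
      intro a ha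
      rw [Set.mem_singleton_iff] at ha
      subst ha
      rw [SetLike.mem_coe, Ideal.mem_comap, Ideal.mem_comap, AlgHom.commutes]
      exact Ideal.mem_span_singleton_self _
    have h1 := hle hz
    rw [Ideal.mem_comap, map_sub, Ideal.mem_span_singleton] at h1
    obtain ⟨d, hd⟩ := h1
    have h2 : u x = u (algebraMap (Localization.Away f) _ z) + t • d := by
      rw [Algebra.smul_def, ← hd]; ring
    rw [h2]
    exact Submodule.add_mem_sup (hloc z)
      (Submodule.smul_mem_smul (Ideal.mem_span_singleton_self t) Submodule.mem_top)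
  have hfg : (⊤ : Submodule R B).FG := Module.Finite.fg_top
  have hle := Submodule.le_of_le_smul_of_le_jacobson_bot hfg
    (IsAdicComplete.le_jacobson_bot (Ideal.span {t})) hdense
  intro y
  obtain ⟨a, ha⟩ := hle (Submodule.mem_top : y ∈ ⊤)
  exact ⟨a, ha⟩

end Groth.Agent.Lib.Helper11.Bosch
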