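import Mathlib
import Groth.Prelude.Def_W4bk4boschfrg79
import Groth.Agent.Lib.Helper11BoschA
import Groth.Agent.Lib.Helper11BoschB
import Groth.Agent.Lib.Helper11BoschC
import Groth.Agent.Lib.Helper5IntDim

/-!
# Helper11 Bosch D: subalgebras of a finite local domain which are topologically of finite type
are admissible local domains of dimension one (Bosch 8.3).
-/

set_option autoImplicit false
universe u v

namespace Groth.Agent.Lib.Helper11.Bosch

open IsLocalRing Polynomial AdicRing

theorem isHausdorff_of_injective {R : Type*} [CommRing R] (I : Ideal R) {N M : Type*}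
    [AddCommGroup N] [Module R N] [AddCommGroup M] [Module R M] (j : N →ₗ[R] M)
    (hj : Function.Injective j) [IsHausdorff I M] : IsHausdorff I N := by
  refine ⟨fun x hx => ?_⟩
  apply hj
  rw [map_zero]
  apply IsHausdorff.haus' (I := I)
  intro k
  have h1 := hx k
  rw [SModEq.zero] at h1 ⊢
  have hle : (I ^ k • ⊤ : Submodule R N) ≤ (I ^ k • ⊤ : Submodule R M).comap j := by
    rw [Submodule.smul_le]
    intro r hr y _
    rw [Submodule.mem_comap, map_smul]
    exact Submodule.smul_mem_smul hr Submodule.mem_top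
  exact hle h1

/-- A subalgebra of a local ring integral over the base is local. -/
theorem isLocalRing_subalgebra_of_isIntegral {R B : Type*} [CommRing R] [CommRing B]
    [Algebra R B] [IsLocalRing B] [Algebra.IsIntegral R B] (S : Subalgebra R B) :
    IsLocalRing S := by
  have hunit : ∀ x : S, IsUnit (x : B) → IsUnit x := by
    intro x hx
    obtain ⟨y, hy⟩ := hx.exists_right_inv
    have h1 := inv_mem_adjoin_of_isIntegral (R := R) (x : B) y hy
      (Algebra.IsIntegral.isIntegral y)
    have h2 : Algebra.adjoin R {(x : B)} ≤ S := Algebra.adjoin_le (by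
      rintro _ rfl
      exact x.2)
    refine IsUnit.of_mul_eq_one (⟨y, h2 h1⟩ : S) ?_
    exact Subtype.ext hy
  apply IsLocalRing.of_nonunits_add
  intro a b ha hb hab
  rw [mem_nonunits_iff] at ha hb
  have ha' : ¬ IsUnit (a : B) := fun h => ha (hunit a h)
  have hb' : ¬ IsUnit (b : B) := fun h => hb (hunit b h)
  have h1 := (mem_maximalIdeal _).2 ha'
  have h2 := (mem_maximalIdeal _).2 hb'
  have h3 := (mem_maximalIdeal _).1 (Ideal.add_mem _ h1 h2)
  apply h3
  have := hab.map S.val
  simpa using this

theorem exists_eq_add {R : Type u} [CommRing R] (I : Ideal R) (C : Type v) [CommRing C]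
    [Algebra R C] (hI : I.FG) (k : ℕ) (x : AdicCompletion (I.map (algebraMap R C)) C) :
    ∃ (c : C) (e : AdicCompletion (I.map (algebraMap R C)) C),
      e ∈ (I.map (algebraMap R (AdicCompletion (I.map (algebraMap R C)) C))) ^ k ∧
      x = algebraMap C _ c + e := by
  obtain ⟨c, hc⟩ := exists_of_sub_mem I C hI k x
  exact ⟨c, _, hc, (add_sub_cancel _ _).symm⟩

theorem map_span_singleton_eq {R : Type*} [CommRing R] (t : R) (C : Type*) [CommRing C]
    [Algebra R C] : (Ideal.span {t}).map (algebraMap R C) = Ideal.span {algebraMap R C t} := by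
  rw [Ideal.map_span, Set.image_singleton]

theorem rpow_exists_eq_add {R : Type u} [CommRing R] (I : Ideal R) (hI : I.FG) (n k : ℕ)
    (x : RPow R I n) :
    ∃ (p : MvPolynomial (Fin n) R) (e : RPow R I n),
      e ∈ (I.map (algebraMap R (RPow R I n))) ^ k ∧
      x = algebraMap (MvPolynomial (Fin n) R) (RPow R I n) p + e :=
  exists_eq_add I (MvPolynomial (Fin n) R) hI k x

theorem rpow_exists_eq_add_mul {R : Type u} [CommRing R] (t : R) (n k : ℕ)
    (x : RPow R (Ideal.span {t}) n) :
    ∃ (p : MvPolynomial (Fin n) R) (y : RPow R (Ideal.span {t}) n),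
      x = algebraMap (MvPolynomial (Fin n) R) (RPow R (Ideal.span {t}) n) p +
        algebraMap R (RPow R (Ideal.span {t}) n) t ^ k * y := by
  obtain ⟨p, e, he, hx⟩ := rpow_exists_eq_add (Ideal.span {t}) ⟨{t}, by simp⟩ n k x
  rw [map_span_singleton_eq, Ideal.span_singleton_pow, Ideal.mem_span_singleton] at he
  obtain ⟨y, rfl⟩ := he
  exact ⟨p, y, hx⟩

theorem algHom_mem_span_singleton {R : Type*} [CommRing R] (t : R) {C S : Type*} [CommRing C]
    [Algebra R C] [CommRing S] [Algebra R S] (θ : C →ₐ[R] S) (e : C)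
    (he : e ∈ (Ideal.span {t}).map (algebraMap R C)) : θ e ∈ Ideal.span {algebraMap R S t} := by
  have hle : (Ideal.span {t}).map (algebraMap R C) ≤ (Ideal.span {algebraMap R S t}).comap θ := by
    rw [Ideal.map_le_iff_le_comap, Ideal.span_le]
    intro a ha
    rw [Set.mem_singleton_iff] at ha
    subst ha
    rw [SetLike.mem_coe, Ideal.mem_comap, Ideal.mem_comap, AlgHom.commutes]
    exact Ideal.mem_span_singleton_self _
  exact hle he

/-- polynomials are dense: a surjection `R⟨ζ⟩ → S` onto a finite `R`-module restricts to a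
surjection on `R[ζ]`. -/
theorem surjective_comp_of_finite {R : Type u} [CommRing R] (t : R)
    [IsAdicComplete (Ideal.span {t}) R] (n : ℕ) (S : Type u) [CommRing S] [Algebra R S]
    [Module.Finite R S] (θ : RPow R (Ideal.span {t}) n →ₐ[R] S) (hθ : Function.Surjective θ) :
    Function.Surjective (θ.comp (IsScalarTower.toAlgHom R (MvPolynomial (Fin n) R)
      (RPow R (Ideal.span {t}) n))) := by
  set Θ₀ := θ.comp (IsScalarTower.toAlgHom R (MvPolynomial (Fin n) R)
      (RPow R (Ideal.span {t}) n)) with hΘ₀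
  have hdense : (⊤ : Submodule R S) ≤ LinearMap.range Θ₀.toLinearMap ⊔ Ideal.span {t} • ⊤ := by
    intro y _
    obtain ⟨x, rfl⟩ := hθ y
    obtain ⟨p, y, hxe⟩ := rpow_exists_eq_add_mul t n 1 x
    have h2 : θ x = Θ₀ p + t • θ y := by
      rw [Algebra.smul_def, hxe, map_add, map_mul, pow_one, AlgHom.commutes]
      rfl
    rw [h2]
    exact Submodule.add_mem_sup ⟨p, rfl⟩
      (Submodule.smul_mem_smul (Ideal.mem_span_singleton_self t) Submodule.mem_top)
  have hle := Submodule.le_of_le_smul_of_le_jacobson_bot Module.Finite.fg_top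
    (IsAdicComplete.le_jacobson_bot (Ideal.span {t})) hdense
  intro y
  obtain ⟨a, ha⟩ := hle (Submodule.mem_top : y ∈ ⊤)
  exact ⟨a, ha⟩

theorem ker_fg_of_finitePresentation {R : Type u} [CommRing R] (t : R)
    [IsAdicComplete (Ideal.span {t}) R] (n : ℕ) (S : Type u) [CommRing S] [Algebra R S]
    [Module.Finite R S] [Algebra.FinitePresentation R S]
    (htS : ∀ x : S, algebraMap R S t * x = 0 → x = 0)
    (θ : RPow R (Ideal.span {t}) n →ₐ[R] S) (hθ : Function.Surjective θ) :
    (RingHom.ker θ.toRingHom).FG := by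
  classical
  have hI : (Ideal.span {t}).FG := ⟨{t}, by simp⟩
  set Θ₀ := θ.comp (IsScalarTower.toAlgHom R (MvPolynomial (Fin n) R)
      (RPow R (Ideal.span {t}) n)) with hΘ₀
  have hΘ₀s : Function.Surjective Θ₀ := surjective_comp_of_finite t n S θ hθ
  have hJ := Algebra.FinitePresentation.ker_fG_of_surjective Θ₀ hΘ₀s
  obtain ⟨s, h, hh⟩ := Submodule.fg_iff_exists_fin_generating_family.1 hJ
  let ι : MvPolynomial (Fin n) R →+* RPow R (Ideal.span {t}) n := algebraMap _ _
  have hΘι : ∀ p, θ (ι p) = Θ₀ p := fun p => rfl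
  have hhJ : ∀ j, Θ₀ (h j) = 0 := by
    intro j
    have : h j ∈ RingHom.ker Θ₀.toRingHom := by
      rw [← hh]; exact Submodule.subset_span ⟨j, rfl⟩
    exact this
  have hmem : ∀ j, ι (h j) ∈ RingHom.ker θ.toRingHom := by
    intro j
    rw [RingHom.mem_ker]
    exact hhJ j
  let IP : Ideal (RPow R (Ideal.span {t}) n) :=
    (Ideal.span {t}).map (algebraMap R (RPow R (Ideal.span {t}) n))
  haveI hc : IsAdicComplete IP (RPow R (Ideal.span {t}) n) := isAdicComplete_rpow _ hI n
  haveI : IsPrecomplete IP (Fin s → RPow R (Ideal.span {t}) n) := isPrecomplete_pi _ _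
  haveI : IsHausdorff IP (RingHom.ker θ.toRingHom) :=
    isHausdorff_of_injective IP (Submodule.subtype _) (Subtype.val_injective)
  let f : (Fin s → RPow R (Ideal.span {t}) n) →ₗ[RPow R (Ideal.span {t}) n]
      (RingHom.ker θ.toRingHom) :=
    Fintype.linearCombination _ (fun j => (⟨ι (h j), hmem j⟩ : RingHom.ker θ.toRingHom))
  have hfval : ∀ g, ((f g : RingHom.ker θ.toRingHom) : RPow R (Ideal.span {t}) n) =
      ∑ j, g j * ι (h j) := by
    intro g
    simp only [f, Fintype.linearCombination_apply]
    rw [Submodule.coe_sum]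
    rfl
  set τ : RPow R (Ideal.span {t}) n := algebraMap R _ t with hτ
  have hτmem : τ ∈ IP := Ideal.mem_map_of_mem _ (Ideal.mem_span_singleton_self t)
  have hθτ : ∀ y, θ (τ * y) = algebraMap R S t * θ y := by
    intro y; rw [map_mul, hτ, AlgHom.commutes]
  have hsurj : Function.Surjective f := by
    apply surjective_of_mkQ_comp_surjective (I := IP)
    intro z
    obtain ⟨⟨x, hx⟩, rfl⟩ := Submodule.Quotient.mk_surjective _ z
    have hx0 : θ x = 0 := hx
    obtain ⟨p, y₀, hxe⟩ := rpow_exists_eq_add_mul t n 1 x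
    have hx1 : x = ι p + τ * y₀ := by rw [hxe, pow_one]
    obtain ⟨q, hq⟩ := hΘ₀s (θ y₀)
    have hpq : p + MvPolynomial.C t * q ∈ RingHom.ker Θ₀.toRingHom := by
      rw [RingHom.mem_ker]
      show Θ₀ (p + MvPolynomial.C t * q) = 0
      have hΘC : Θ₀ (MvPolynomial.C t) = algebraMap R S t := by
        have := Θ₀.commutes t
        rwa [MvPolynomial.algebraMap_eq] at this
      rw [map_add, map_mul, hq, hΘC, ← hΘι p, ← hθτ, ← map_add, ← hx1, hx0]
    rw [← hh] at hpq
    obtain ⟨c, hc⟩ := (Submodule.mem_span_range_iff_exists_fun _).1 hpq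
    refine ⟨fun j => ι (c j), ?_⟩
    show Submodule.Quotient.mk (f _) = Submodule.Quotient.mk _
    rw [eq_comm, Submodule.Quotient.eq]
    have hιC : ι (MvPolynomial.C t) = τ := by
      rw [hτ, IsScalarTower.algebraMap_apply R (MvPolynomial (Fin n) R) (RPow R (Ideal.span {t}) n)]
      rfl
    have hsum : ∑ j, ι (c j) * ι (h j) = ι p + τ * ι q := by
      rw [← hιC, ← map_mul, ← map_add, ← hc, map_sum]
      refine Finset.sum_congr rfl (fun j _ => ?_)
      rw [smul_eq_mul, map_mul]
    have hy : θ (y₀ - ι q) = 0 := by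
      apply htS
      rw [← hθτ]
      have : τ * (y₀ - ι q) = x - ∑ j, ι (c j) * ι (h j) := by rw [hsum, hx1]; ring
      rw [this, map_sub, hx0, zero_sub, neg_eq_zero, map_sum]
      refine Finset.sum_eq_zero (fun j _ => ?_)
      rw [map_mul, hΘι (h j), hhJ j, mul_zero]
    have hkey : (⟨x, hx⟩ : RingHom.ker θ.toRingHom) - f (fun j => ι (c j)) =
        τ • (⟨y₀ - ι q, hy⟩ : RingHom.ker θ.toRingHom) := by
      apply Subtype.ext
      rw [Submodule.coe_sub, hfval, hsum, Submodule.coe_smul, smul_eq_mul]
      show x - _ = τ * (y₀ - ι q)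
      rw [hx1]; ring
    rw [hkey]
    exact Submodule.smul_mem_smul hτmem Submodule.mem_top
  refine ⟨Finset.univ.image (fun j => ι (h j)), ?_⟩
  apply le_antisymm
  · rw [Ideal.span_le]
    intro y hy
    simp only [Finset.coe_image, Finset.coe_univ, Set.image_univ, Set.mem_range] at hy
    obtain ⟨j, rfl⟩ := hy
    exact hmem j
  · intro x hx
    obtain ⟨g, hg⟩ := hsurj ⟨x, hx⟩
    have h1 : x = ∑ j, g j * ι (h j) := by
      rw [← hfval, hg]
    rw [h1]
    refine Ideal.sum_mem _ (fun j _ => Ideal.mul_mem_left _ _ (Ideal.subset_span ?_))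
    simp

section Sub
variable (R : Type u) [CommRing R] [IsDomain R] [ValuationRing R] [Ring.KrullDimLE 1 R]
  (t : R) (ht : t ≠ 0) [IsAdicComplete (Ideal.span {t}) R]

/-- A domain which is a finite module over `R` and in which `t ≠ 0` is finitely presented as an
`R`-algebra (it is a finite free module). -/
theorem finitePresentation_of_finite_domain (S : Type u) [CommRing S] [Algebra R S] [IsDomain S]
    [Module.Finite R S] (htS : algebraMap R S t ≠ 0) : Algebra.FinitePresentation R S := by
  have hinj : Function.Injective (algebraMap R S) := algebraMap_injective_of_ne_zero R t S htS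
  have htors : Submodule.torsion R S = ⊥ := by
    rw [eq_bot_iff]
    rintro x ⟨a, ha⟩
    rw [Submodule.mem_bot]
    have h1 : algebraMap R S (a : R) * x = 0 := by rw [← Algebra.smul_def]; exact ha
    rcases mul_eq_zero.1 h1 with h2 | h2
    · exfalso
      have : (a : R) = 0 := hinj (by rw [h2, map_zero])
      exact nonZeroDivisors.coe_ne_zero a this
    · exact h2
  haveI : Module.Flat R S := (Module.Flat.flat_iff_torsion_eq_bot_of_isBezout).2 htors
  haveI : Module.Free R S := Module.free_of_flat_of_isLocalRing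
  haveI : Module.FinitePresentation R S := Module.finitePresentation_of_projective R S
  exact Algebra.FinitePresentation.of_finitePresentation R S

include ht in
theorem admissible_subalgebra (B' : Type u) [CommRing B'] [Algebra R B'] [IsDomain B']
    [IsLocalRing B'] [Module.Finite R B'] (htB' : algebraMap R B' t ≠ 0)
    (hdim : ringKrullDim B' = 1) (S : Subalgebra R B')
    (hS : TopFiniteType R (Ideal.span {t}) S) :
    Admissible R (Ideal.span {t}) S ∧ IsLocalRing S ∧ ringKrullDim S = 1 := by
  haveI : Algebra.IsIntegral R B' := Algebra.IsIntegral.of_finite R B'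
  haveI hloc : IsLocalRing S := isLocalRing_subalgebra_of_isIntegral S
  haveI : Algebra.IsIntegral S B' := Algebra.IsIntegral.tower_top (R := R)
  have hdimS : ringKrullDim S = 1 := by
    rw [← Groth.Agent.Lib.Helper5.ringKrullDim_eq_of_isIntegral_of_injective S B'
      Subtype.val_injective]
    exact hdim
  have htS : algebraMap R S t ≠ 0 := by
    intro h0
    apply htB'
    have := congrArg Subtype.val h0
    simpa using this
  haveI hfinS : Module.Finite R S := finite_of_dim_one R t ht S hS htS hdimS
  haveI := finitePresentation_of_finite_domain R t S htS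
  have htS' : ∀ x : S, algebraMap R S t * x = 0 → x = 0 := by
    intro x hx
    rcases mul_eq_zero.1 hx with h | h
    · exact absurd h htS
    · exact h
  refine ⟨⟨?_, ?_⟩, hloc, hdimS⟩
  · obtain ⟨n, θ, hθ⟩ := hS
    exact ⟨n, θ, hθ, ker_fg_of_finitePresentation t n S htS' θ hθ⟩
  · intro x k hx
    have h1 := hx (t ^ k) (Ideal.pow_mem_pow (Ideal.mem_span_singleton_self t) k)
    rw [Algebra.smul_def] at h1
    rcases mul_eq_zero.1 h1 with h | h
    · rw [map_pow] at h
      exact absurd (IsReduced.eq_zero _ ⟨k, h⟩) htS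
    · exact h

end Sub

end Groth.Agent.Lib.Helper11.Bosch
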