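import Mathlib
import Groth.Prelude.Def_W4bk4boschfrg79
import Groth.Agent.Lib.Helper11BoschA
import Groth.Agent.Lib.Helper11BoschD
import Groth.Agent.Lib.Helper5IntDim

/-!
# Helper11 Bosch E: completeness of finite free modules, lifting maps to adic completions,
towers of monic extensions, closed points of the special fibre of the formal affine space.
-/

set_option autoImplicit false
universe u v

namespace Groth.Agent.Lib.Helper11.Bosch

open IsLocalRing Polynomial AdicRing

section Complete
variable {R : Type*} [CommRing R] (I : Ideal R)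

theorem isHausdorff_pi {ι : Type*} (M : Type*) [AddCommGroup M] [Module R M] [IsHausdorff I M] :
    IsHausdorff I (ι → M) := by
  refine ⟨fun x hx => ?_⟩
  funext i
  apply IsHausdorff.haus' (I := I)
  intro k
  have h1 := hx k
  rw [SModEq.zero] at h1 ⊢
  exact pi_apply_mem_of_mem I M k x h1 i

theorem map_mem_pow_smul_top {A B : Type*} [AddCommGroup A] [Module R A] [AddCommGroup B]
    [Module R B] (g : A →ₗ[R] B) (k : ℕ) (a : A) (ha : a ∈ (I ^ k • ⊤ : Submodule R A)) :
    g a ∈ (I ^ k • ⊤ : Submodule R B) := by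
  have hle : (I ^ k • ⊤ : Submodule R A) ≤ (I ^ k • ⊤ : Submodule R B).comap g := by
    rw [Submodule.smul_le]
    intro r hr y _
    rw [Submodule.mem_comap, map_smul]
    exact Submodule.smul_mem_smul hr Submodule.mem_top
  exact hle ha

theorem isPrecomplete_of_linearEquiv {M N : Type*} [AddCommGroup M] [Module R M] [AddCommGroup N]
    [Module R N] (e : M ≃ₗ[R] N) [IsPrecomplete I M] : IsPrecomplete I N := by
  refine ⟨fun f hf => ?_⟩
  obtain ⟨L, hL⟩ := IsPrecomplete.prec' (I := I) (fun k => e.symm (f k)) (by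
    intro m k hmk
    have := hf hmk
    rw [SModEq.sub_mem] at this ⊢
    rw [← map_sub]
    exact map_mem_pow_smul_top I e.symm.toLinearMap m _ this)
  refine ⟨e L, fun k => ?_⟩
  have := hL k
  rw [SModEq.sub_mem] at this ⊢
  have h2 := map_mem_pow_smul_top I e.toLinearMap k _ this
  simpa using h2

theorem isAdicComplete_of_finite_free [IsAdicComplete I R] (T : Type*) [AddCommGroup T]
    [Module R T] [Module.Free R T] [Module.Finite R T] : IsAdicComplete I T := by
  classical
  let b := Module.Free.chooseBasis R T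
  haveI : Fintype (Module.Free.ChooseBasisIndex R T) := Module.Free.ChooseBasisIndex.fintype R T
  let e : T ≃ₗ[R] (Module.Free.ChooseBasisIndex R T → R) := b.equivFun
  haveI : IsHausdorff I (Module.Free.ChooseBasisIndex R T → R) := isHausdorff_pi I R
  haveI : IsPrecomplete I (Module.Free.ChooseBasisIndex R T → R) := isPrecomplete_pi I R
  haveI : IsHausdorff I T := isHausdorff_of_injective I e.toLinearMap e.injective
  haveI : IsPrecomplete I T := isPrecomplete_of_linearEquiv I e.symm
  exact {}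

end Complete

section lift
variable {R C B : Type u} [CommRing R] [CommRing C] [CommRing B] [Algebra R C] [Algebra R B]
  (J : Ideal C) (K : Ideal B) [IsAdicComplete K B] (ψ₀ : C →ₐ[R] B) (hJK : J ≤ K.comap ψ₀)

omit [IsAdicComplete K B] in
include hJK in
lemma pow_le_comap (n : ℕ) : J ^ n ≤ (K ^ n).comap ψ₀ := by
  calc J ^ n ≤ (K.comap ψ₀) ^ n := Ideal.pow_right_mono hJK n
    _ ≤ (K ^ n).comap ψ₀ := Ideal.le_comap_pow _ n

/-- the level-`n` map -/
noncomputable def gmap (n : ℕ) : AdicCompletion J C →ₐ[R] B ⧸ K ^ n :=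
  (Ideal.quotientMapₐ (K ^ n) ψ₀ (pow_le_comap J K ψ₀ hJK n)).comp
    ((AdicCompletion.evalₐ J n).restrictScalars R)

omit [IsAdicComplete K B] in
lemma gmap_mk (n : ℕ) (s : AdicCompletion.AdicCauchySequence J C) :
    gmap J K ψ₀ hJK n (AdicCompletion.mk J C s) = Ideal.Quotient.mk (K ^ n) (ψ₀ (s n)) := by
  unfold gmap
  simp only [AlgHom.coe_comp, Function.comp_apply, AlgHom.coe_restrictScalars']
  rw [AdicCompletion.evalₐ_mk]
  rfl

omit [IsAdicComplete K B] in
lemma gmap_compat {m n : ℕ} (hle : m ≤ n) :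
    (Ideal.Quotient.factorₐ R (Ideal.pow_le_pow_right hle)).comp (gmap J K ψ₀ hJK n)
      = gmap J K ψ₀ hJK m := by
  apply AlgHom.ext
  intro x
  obtain ⟨s, rfl⟩ := AdicCompletion.mk_surjective J C x
  rw [AlgHom.comp_apply, gmap_mk, gmap_mk]
  rw [Ideal.Quotient.factorₐ_apply_mk, Ideal.Quotient.mk_eq_mk_iff_sub_mem, ← map_sub]
  apply pow_le_comap J K ψ₀ hJK m
  have := AdicCompletion.Ideal.mk_eq_mk (I := J) hle s
  rw [Ideal.Quotient.mk_eq_mk_iff_sub_mem] at this
  exact this

/-- lift to the completion -/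
noncomputable def liftC : AdicCompletion J C →ₐ[R] B :=
  IsAdicComplete.liftAlgHom K (gmap J K ψ₀ hJK) (gmap_compat J K ψ₀ hJK)

lemma liftC_of (y : C) : liftC J K ψ₀ hJK (AdicCompletion.of J C y) = ψ₀ y := by
  rw [← sub_eq_zero]
  apply IsHausdorff.haus' (I := K)
  intro n
  rw [SModEq.zero, smul_eq_mul, Ideal.mul_top, ← Ideal.Quotient.eq_zero_iff_mem, map_sub,
    liftC, IsAdicComplete.mk_liftAlgHom]
  unfold gmap
  simp only [AlgHom.coe_comp, Function.comp_apply, AlgHom.coe_restrictScalars']
  rw [AdicCompletion.evalₐ_of]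
  simp

end lift

/-- Lifting an algebra map `R[ζ] → T` into a complete `R`-algebra to `R⟨ζ⟩`. -/
theorem exists_rpow_lift {R : Type u} [CommRing R] (I : Ideal R) (n : ℕ) (T : Type u) [CommRing T]
    [Algebra R T] [IsAdicComplete (I.map (algebraMap R T)) T]
    (π₀ : MvPolynomial (Fin n) R →ₐ[R] T) :
    ∃ π : RPow R I n →ₐ[R] T, ∀ p, π (algebraMap (MvPolynomial (Fin n) R) (RPow R I n) p) = π₀ p := by
  have hJK : I.map (algebraMap R (MvPolynomial (Fin n) R)) ≤ (I.map (algebraMap R T)).comap π₀ := by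
    rw [Ideal.map_le_iff_le_comap]
    intro a ha
    rw [Ideal.mem_comap, Ideal.mem_comap, AlgHom.commutes]
    exact Ideal.mem_map_of_mem _ ha
  refine ⟨liftC _ _ π₀ hJK, fun p => ?_⟩
  have := liftC_of _ _ π₀ hJK p
  rw [← this]
  congr 1

/-- A tower of monic simple extensions: a finite free `R`-algebra with universal roots of
finitely many monic polynomials. -/
theorem exists_tower (R : Type u) [CommRing R] : ∀ (n : ℕ) (G : Fin n → R[X]),
    (∀ i, (G i).Monic) →
    ∃ (T : Type u) (_ : CommRing T) (_ : Algebra R T), Module.Free R T ∧ Module.Finite R T ∧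
      ∃ β : Fin n → T, (∀ i, aeval (β i) (G i) = 0) ∧
        ∀ (S : Type u) [CommRing S] [Algebra R S] (s : Fin n → S),
          (∀ i, aeval (s i) (G i) = 0) → ∃ f : T →ₐ[R] S, ∀ i, f (β i) = s i := by
  intro n
  induction n with
  | zero =>
    intro G _
    refine ⟨R, inferInstance, inferInstance, inferInstance, inferInstance, Fin.elim0,
      fun i => i.elim0, ?_⟩
    intro S _ _ s _
    exact ⟨Algebra.ofId R S, fun i => i.elim0⟩
  | succ n ih =>
    intro G hG
    obtain ⟨T, _, _, hfree, hfin, β, hβ, huniv⟩ :=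
      ih (fun i => G i.castSucc) (fun i => hG i.castSucc)
    let g : T[X] := (G (Fin.last n)).map (algebraMap R T)
    have hg : g.Monic := (hG (Fin.last n)).map _
    haveI : Module.Free T (AdjoinRoot g) := hg.free_adjoinRoot
    haveI : Module.Finite T (AdjoinRoot g) := hg.finite_adjoinRoot
    haveI : Module.Free R (AdjoinRoot g) := Module.Free.trans (S := T)
    haveI : Module.Finite R (AdjoinRoot g) := Module.Finite.trans T _
    refine ⟨AdjoinRoot g, inferInstance, inferInstance, inferInstance, inferInstance,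
      Fin.lastCases (AdjoinRoot.root g) (fun i => AdjoinRoot.of g (β i)), ?_, ?_⟩
    · refine Fin.lastCases ?_ (fun i => ?_)
      · beta_reduce
        rw [Fin.lastCases_last, aeval_def, IsScalarTower.algebraMap_eq R T (AdjoinRoot g),
          ← eval₂_map]
        exact AdjoinRoot.eval₂_root g
      · beta_reduce
        rw [Fin.lastCases_castSucc]
        have h1 := aeval_algHom_apply (IsScalarTower.toAlgHom R T (AdjoinRoot g)) (β i)
          (G i.castSucc)
        rw [IsScalarTower.coe_toAlgHom'] at h1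
        show aeval (algebraMap T (AdjoinRoot g) (β i)) (G i.castSucc) = 0
        rw [h1, hβ i, map_zero]
    · intro S _ _ s hs
      obtain ⟨f₀, hf₀⟩ := huniv S (fun i => s i.castSucc) (fun i => hs i.castSucc)
      have h0 : eval₂ (f₀ : T →+* S) (s (Fin.last n)) g = 0 := by
        rw [eval₂_map]
        have h1 : (f₀ : T →+* S).comp (algebraMap R T) = algebraMap R S := by
          ext r; exact f₀.commutes r
        rw [h1, ← aeval_def]
        exact hs _
      refine ⟨AdjoinRoot.liftAlgHom g f₀ (s (Fin.last n)) h0, ?_⟩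
      refine Fin.lastCases ?_ (fun i => ?_)
      · beta_reduce
        rw [Fin.lastCases_last, AdjoinRoot.liftAlgHom_root]
      · beta_reduce
        rw [Fin.lastCases_castSucc, AdjoinRoot.liftAlgHom_of, hf₀]

/-- Bosch 8.3: every closed point of the special fibre of the formal affine space is the
specialization of a "rigid point". -/
theorem exists_prime_le_maximal (R : Type u) [CommRing R] [IsDomain R] [IsLocalRing R]
    [Ring.KrullDimLE 1 R] (t : R) (ht : t ≠ 0) [IsAdicComplete (Ideal.span {t}) R]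
    (n : ℕ) (m : Ideal (RPow R (Ideal.span {t}) n)) [m.IsMaximal]
    (hm : algebraMap R (RPow R (Ideal.span {t}) n) t ∈ m) :
    ∃ p : Ideal (RPow R (Ideal.span {t}) n), p.IsPrime ∧ p ≤ m ∧
      algebraMap R (RPow R (Ideal.span {t}) n) t ∉ p ∧
      ringKrullDim (RPow R (Ideal.span {t}) n ⧸ p) = 1 := by
  classical
  let ι : MvPolynomial (Fin n) R →+* RPow R (Ideal.span {t}) n := algebraMap _ _
  letI : Field (RPow R (Ideal.span {t}) n ⧸ m) := Ideal.Quotient.field m
  let φ : RPow R (Ideal.span {t}) n →+* RPow R (Ideal.span {t}) n ⧸ m := Ideal.Quotient.mk m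
  have hφt : φ (algebraMap R _ t) = 0 := (Ideal.Quotient.eq_zero_iff_mem).2 hm
  have hkill : ∀ a ∈ Ideal.span {t}, φ (algebraMap R _ a) = 0 := by
    intro a ha
    rw [Ideal.mem_span_singleton] at ha
    obtain ⟨c, rfl⟩ := ha
    rw [map_mul, map_mul, hφt, zero_mul]
  have hint := comp_algebraMap_isIntegral (Ideal.span {t}) ⟨{t}, by simp⟩
    (maximalIdeal_le_radical R t ht) n φ Ideal.Quotient.mk_surjective hkill
  have hG : ∀ i : Fin n, ∃ G : R[X], G.Monic ∧ aeval (φ (ι (MvPolynomial.X i))) G = 0 := by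
    intro i
    obtain ⟨G, hG, h0⟩ := hint (φ (ι (MvPolynomial.X i)))
    exact ⟨G, hG, h0⟩
  choose G hGm hG0 using hG
  obtain ⟨T, _, _, hfree, hfin, β, hβ, huniv⟩ := exists_tower R n G hGm
  haveI : IsAdicComplete (Ideal.span {t}) T := isAdicComplete_of_finite_free _ T
  haveI : IsAdicComplete ((Ideal.span {t}).map (algebraMap R T)) T :=
    (IsAdicComplete.map_algebraMap_iff _ _).2 inferInstance
  obtain ⟨π, hπ⟩ := exists_rpow_lift (Ideal.span {t}) n T (MvPolynomial.aeval β)
  obtain ⟨fκ, hfκ⟩ := huniv (RPow R (Ideal.span {t}) n ⧸ m)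
    (fun i => φ (ι (MvPolynomial.X i))) hG0
  have hfκt : algebraMap R (RPow R (Ideal.span {t}) n ⧸ m) t = 0 := hφt
  have hpoly : ∀ p : MvPolynomial (Fin n) R, fκ (MvPolynomial.aeval β p) = φ (ι p) := by
    intro p
    have h1 : (fκ.comp (MvPolynomial.aeval β)) = (Ideal.Quotient.mkₐ R m).comp
        (IsScalarTower.toAlgHom R (MvPolynomial (Fin n) R) (RPow R (Ideal.span {t}) n)) := by
      apply MvPolynomial.algHom_ext
      intro i
      rw [AlgHom.comp_apply, MvPolynomial.aeval_X, hfκ]
      rfl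
    exact congrArg (fun h => h p) h1
  have hcomp : ∀ x : RPow R (Ideal.span {t}) n, fκ (π x) = φ x := by
    intro x
    obtain ⟨p, y, rfl⟩ := rpow_exists_eq_add_mul t n 1 x
    rw [pow_one, map_add, map_add, map_add, map_mul, map_mul, map_mul, AlgHom.commutes,
      AlgHom.commutes, hπ, hfκt, hφt, zero_mul, zero_mul, add_zero, add_zero]
    exact hpoly p
  let m₀ : Ideal T := RingHom.ker fκ.toRingHom
  haveI : m₀.IsPrime := RingHom.ker_isPrime _
  have hm₀ : m = m₀.comap π := by
    ext x
    rw [Ideal.mem_comap, RingHom.mem_ker]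
    show _ ↔ fκ (π x) = 0
    rw [hcomp]
    exact (Ideal.Quotient.eq_zero_iff_mem).symm
  haveI : (⊥ : Ideal R).IsPrime := Ideal.bot_prime
  obtain ⟨Q, hQle, hQp, hQo⟩ := Ideal.exists_ideal_le_liesOver_of_le (p := (⊥ : Ideal R))
    (q := m₀.under R) m₀ bot_le
  haveI := hQp
  have hQR : ∀ r : R, algebraMap R T r ∈ Q → r = 0 := by
    intro r hr
    have h1 : r ∈ Q.under R := hr
    rw [← hQo.over] at h1
    exact h1
  refine ⟨Q.comap π, Ideal.comap_isPrime _ _, ?_, ?_, ?_⟩
  · rw [hm₀]; exact Ideal.comap_mono hQle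
  · intro h
    rw [Ideal.mem_comap, AlgHom.commutes] at h
    exact ht (hQR t h)
  · haveI : Algebra.IsIntegral R T := Algebra.IsIntegral.of_finite R T
    haveI : Algebra.IsIntegral R (T ⧸ Q) := ⟨fun x => by
      obtain ⟨y, rfl⟩ := Ideal.Quotient.mk_surjective x
      exact (Algebra.IsIntegral.isIntegral (R := R) y).map (Ideal.Quotient.mkₐ R Q)⟩
    let j : (RPow R (Ideal.span {t}) n ⧸ Q.comap π) →ₐ[R] T ⧸ Q :=
      Ideal.quotientMapₐ Q π le_rfl
    have hj : Function.Injective j := Ideal.quotientMap_injective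
    haveI : Algebra.IsIntegral R (RPow R (Ideal.span {t}) n ⧸ Q.comap π) :=
      ⟨fun x => (isIntegral_algHom_iff j hj).1 (Algebra.IsIntegral.isIntegral (j x))⟩
    have hinj : Function.Injective (algebraMap R (RPow R (Ideal.span {t}) n ⧸ Q.comap π)) := by
      rw [injective_iff_map_eq_zero]
      intro r hr
      have h1 : algebraMap R (RPow R (Ideal.span {t}) n) r ∈ Q.comap π :=
        (Ideal.Quotient.eq_zero_iff_mem).1 hr
      rw [Ideal.mem_comap, AlgHom.commutes] at h1
      exact hQR r h1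
    rw [Groth.Agent.Lib.Helper5.ringKrullDim_eq_of_isIntegral_of_injective R _ hinj]
    exact ringKrullDim_eq_one R t ht

end Groth.Agent.Lib.Helper11.Bosch
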