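import Mathlib
import Groth.Prelude.Def_W4bk4boschfrg79
import Groth.Agent.Lib.Helper11BoschA
import Groth.Agent.Lib.Helper11BoschD
import Groth.Agent.Lib.Helper11BoschE
import Groth.Agent.Lib.Helper14ValNorm

/-!
# Helper11 Bosch F: a rigid Nullstellensatz without Weierstrass theory.
-/

set_option autoImplicit false
universe u v

namespace Groth.Agent.Lib.Helper11.Bosch

open IsLocalRing Polynomial AdicRing

/-- complete Nakayama, algebra form -/
theorem finite_of_finite_quotient {Λ D : Type*} [CommRing Λ] [CommRing D] [Algebra Λ D]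
    (J₀ : Ideal Λ) [IsPrecomplete J₀ Λ] [IsHausdorff J₀ D]
    [Module.Finite Λ (D ⧸ J₀.map (algebraMap Λ D))] : Module.Finite Λ D := by
  classical
  set J : Ideal D := J₀.map (algebraMap Λ D) with hJ
  obtain ⟨s, c, hc⟩ := Module.Finite.exists_fin (R := Λ) (M := D ⧸ J)
  have hb : ∀ i, ∃ b : D, Ideal.Quotient.mk J b = c i := fun i => Ideal.Quotient.mk_surjective _
  choose b hb using hb
  let f : (Fin s → Λ) →ₗ[Λ] D := Fintype.linearCombination Λ b
  haveI : IsPrecomplete J₀ (Fin s → Λ) := isPrecomplete_pi _ _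
  have hsurj : Function.Surjective f := by
    apply surjective_of_mkQ_comp_surjective (I := J₀)
    intro y
    obtain ⟨y, rfl⟩ := Submodule.Quotient.mk_surjective _ y
    have hy : Ideal.Quotient.mk J y ∈ Submodule.span Λ (Set.range c) := by rw [hc]; trivial
    obtain ⟨r, hr⟩ := (Submodule.mem_span_range_iff_exists_fun Λ).1 hy
    refine ⟨r, ?_⟩
    show Submodule.Quotient.mk (f r) = Submodule.Quotient.mk y
    rw [Submodule.Quotient.eq]
    have h1 : f r - y ∈ J := by
      rw [← Ideal.Quotient.eq_zero_iff_mem, map_sub, sub_eq_zero, ← hr]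
      show Ideal.Quotient.mk J (∑ i, r i • b i) = _
      rw [map_sum]
      refine Finset.sum_congr rfl (fun i _ => ?_)
      rw [← hb i, ← Ideal.Quotient.mkₐ_eq_mk Λ, map_smul]
    have h2 : (J₀ • ⊤ : Submodule Λ D) = J.restrictScalars Λ := by
      rw [hJ, Ideal.smul_top_eq_map]
    rw [h2]
    exact h1
  exact Module.Finite.of_surjective f hsurj

theorem algebraMap_C {R : Type u} [CommRing R] (I : Ideal R) (s : ℕ) (r : R) :
    algebraMap (MvPolynomial (Fin s) R) (RPow R I s) (MvPolynomial.C r) =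
      algebraMap R (RPow R I s) r := by
  rw [IsScalarTower.algebraMap_apply R (MvPolynomial (Fin s) R) (RPow R I s)]
  rfl

section Content
variable (R : Type u) [CommRing R] [IsDomain R] [ValuationRing R] [Ring.KrullDimLE 1 R]
  (t : R) (ht : t ≠ 0) [IsAdicComplete (Ideal.span {t}) R]

omit [Ring.KrullDimLE 1 R] [IsAdicComplete (Ideal.span {t}) R] in
/-- content decomposition of a nonzero restricted power series over a valuation ring. -/
theorem exists_content (s : ℕ) (x : RPow R (Ideal.span {t}) s) (hx : x ≠ 0) :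
    ∃ (c : R) (p₁ : MvPolynomial (Fin s) R) (d : R) (y : RPow R (Ideal.span {t}) s),
      c ≠ 0 ∧ d ∈ maximalIdeal R ∧ (∃ i, p₁.coeff i = 1) ∧
      x = algebraMap R _ c * (algebraMap (MvPolynomial (Fin s) R) _ p₁ + algebraMap R _ d * y) := by
  classical
  have hI : (Ideal.span {t}).FG := ⟨{t}, by simp⟩
  haveI hc := isAdicComplete_rpow (Ideal.span {t}) hI s
  set τ : RPow R (Ideal.span {t}) s := algebraMap R _ t with hτ
  -- some power of `τ` does not divide `x`
  have hk : ∃ k : ℕ, ¬ τ ^ k ∣ x := by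
    by_contra hcon
    push Not at hcon
    apply hx
    apply IsHausdorff.haus' (I := (Ideal.span {t}).map (algebraMap R (RPow R (Ideal.span {t}) s)))
    intro k
    rw [SModEq.zero, smul_eq_mul, Ideal.mul_top, map_span_singleton_eq, Ideal.span_singleton_pow,
      Ideal.mem_span_singleton]
    exact hcon k
  obtain ⟨k, hk⟩ := hk
  obtain ⟨p, y, hxy⟩ := rpow_exists_eq_add_mul t s k x
  have hp : ¬ ∀ i, t ^ k ∣ p.coeff i := by
    intro hall
    apply hk
    obtain ⟨p', hp'⟩ := (MvPolynomial.C_dvd_iff_dvd_coeff _ _).2 hall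
    refine ⟨algebraMap (MvPolynomial (Fin s) R) _ p' + y, ?_⟩
    rw [hxy, hp', map_mul, algebraMap_C, map_pow]
    ring
  have hp0 : p ≠ 0 := by
    rintro rfl
    exact hp (fun i => by simp)
  have hne : p.support.Nonempty := by
    rw [Finset.nonempty_iff_ne_empty, Ne, MvPolynomial.support_eq_empty]; exact hp0
  obtain ⟨i₀, hi₀, hdvd⟩ := Groth.Agent.Lib.Helper14ValNorm.exists_dvd_all
    (fun j => p.coeff j) p.support hne
  have hc0 : p.coeff i₀ ≠ 0 := MvPolynomial.mem_support_iff.mp hi₀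
  have hdvd' : ∀ j, p.coeff i₀ ∣ p.coeff j := by
    intro j
    by_cases hj : j ∈ p.support
    · exact hdvd j hj
    · rw [MvPolynomial.notMem_support_iff.mp hj]; exact dvd_zero _
  have hnd : ¬ t ^ k ∣ p.coeff i₀ := fun h => hp (fun j => h.trans (hdvd' j))
  obtain ⟨d, hd⟩ : p.coeff i₀ ∣ t ^ k := by
    rcases ValuationRing.dvd_total (p.coeff i₀) (t ^ k) with h | h
    · exact h
    · exact absurd h hnd
  have hdm : d ∈ maximalIdeal R := by
    rw [mem_maximalIdeal, mem_nonunits_iff]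
    intro hu
    apply hnd
    obtain ⟨u, rfl⟩ := hu
    exact ⟨(↑u⁻¹ : R), by rw [hd, mul_assoc, Units.mul_inv, mul_one]⟩
  obtain ⟨p₁, hp₁⟩ := (MvPolynomial.C_dvd_iff_dvd_coeff _ _).2 hdvd'
  refine ⟨p.coeff i₀, p₁, d, y, hc0, hdm, ⟨i₀, ?_⟩, ?_⟩
  · have h1 : p.coeff i₀ = p.coeff i₀ * p₁.coeff i₀ := by
      conv_lhs => rw [hp₁, MvPolynomial.coeff_C_mul]
    have h2 : p.coeff i₀ * p₁.coeff i₀ = p.coeff i₀ * 1 := by rw [mul_one]; exact h1.symm
    exact mul_left_cancel₀ hc0 h2
  · rw [hxy]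
    conv_lhs => rw [hp₁, map_mul, algebraMap_C, ← map_pow, hd, map_mul]
    ring

end Content

section Jac
variable {R : Type u} [CommRing R] (t : R) (D : Type v) [CommRing D] [Algebra R D]

theorem isUnit_t_mul_add_one (hD : TopFiniteType R (Ideal.span {t}) D) (y : D) :
    IsUnit (algebraMap R D t * y + 1) := by
  obtain ⟨n, φ, hφ⟩ := hD
  obtain ⟨x, rfl⟩ := hφ y
  haveI := isAdicComplete_rpow (Ideal.span {t}) ⟨{t}, by simp⟩ n
  have hjac := IsAdicComplete.le_jacobson_bot
    ((Ideal.span {t}).map (algebraMap R (RPow R (Ideal.span {t}) n)))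
  have hmem : algebraMap R (RPow R (Ideal.span {t}) n) t ∈
      (Ideal.span {t}).map (algebraMap R (RPow R (Ideal.span {t}) n)) :=
    Ideal.mem_map_of_mem _ (Ideal.mem_span_singleton_self t)
  have h1 := (Ideal.mem_jacobson_bot.1 (hjac hmem)) x
  have h2 := h1.map φ
  rwa [map_add, map_mul, map_one, AlgHom.commutes] at h2

theorem not_isUnit_algebraMap_t [Nontrivial D] (hD : TopFiniteType R (Ideal.span {t}) D) :
    ¬ IsUnit (algebraMap R D t) := by
  intro hu
  obtain ⟨b, hb⟩ := hu.exists_right_inv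
  have h1 := isUnit_t_mul_add_one t D hD (-b)
  rw [mul_neg, hb, neg_add_cancel] at h1
  exact not_isUnit_zero h1

theorem algebraMap_t_mem_of_isMaximal (hD : TopFiniteType R (Ideal.span {t}) D) (M : Ideal D)
    [hM : M.IsMaximal] : algebraMap R D t ∈ M := by
  by_contra hnot
  obtain ⟨y, m, hm, hy⟩ := hM.exists_inv hnot
  have h1 := isUnit_t_mul_add_one t D hD (-y)
  have h2 : algebraMap R D t * -y + 1 = m := by rw [← hy]; ring
  rw [h2] at h1
  exact hM.ne_top (Ideal.eq_top_of_isUnit_mem _ hm h1)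

/-- if `D[1/t]` is a field and `t` is not a unit then `D` is `t`-adically separated. -/
theorem eq_zero_of_forall_pow_dvd [IsDomain D] (hnu : ¬ IsUnit (algebraMap R D t))
    (hF : ∀ x : D, x ≠ 0 → ∃ (y : D) (k : ℕ), x * y = algebraMap R D t ^ k)
    (x : D) (hx : ∀ k : ℕ, algebraMap R D t ^ k ∣ x) : x = 0 := by
  by_contra hx0
  obtain ⟨y, j, hy⟩ := hF x hx0
  obtain ⟨e, he⟩ := hx (j + 1)
  have ht0 : algebraMap R D t ≠ 0 := by
    intro h0
    rcases Nat.eq_zero_or_pos j with rfl | hj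
    · rw [h0, zero_pow (by omega), zero_mul] at he
      exact hx0 he
    · rw [h0, zero_pow (by omega)] at hy
      rcases mul_eq_zero.1 hy with h | h
      · exact hx0 h
      · rw [h, mul_zero] at hy
        rw [h0, zero_pow (by omega), zero_mul] at he
        exact hx0 he
  have h3 : algebraMap R D t ^ j * (1 - algebraMap R D t * (e * y)) = 0 := by
    rw [mul_sub, mul_one, sub_eq_zero]
    conv_lhs => rw [← hy, he]
    ring
  rcases mul_eq_zero.1 h3 with h4 | h4
  · exact ht0 (IsReduced.eq_zero _ ⟨j, h4⟩)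
  · exact hnu (IsUnit.of_mul_eq_one _ (sub_eq_zero.1 h4).symm)

theorem isHausdorff_of_forall_pow_dvd {Λ : Type*} [CommRing Λ] [Algebra Λ D] (τ : Λ)
    (hτ : ∀ x : D, (∀ k : ℕ, algebraMap Λ D τ ^ k ∣ x) → x = 0) :
    IsHausdorff (Ideal.span {τ}) D := by
  refine ⟨fun x hx => hτ x (fun k => ?_)⟩
  have h1 := hx k
  rw [SModEq.zero] at h1
  refine Submodule.smul_induction_on h1 (fun r hr b _ => ?_) (fun a b ha hb => dvd_add ha hb)
  rw [Ideal.span_singleton_pow, Ideal.mem_span_singleton] at hr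
  obtain ⟨c, rfl⟩ := hr
  rw [Algebra.smul_def, map_mul, map_pow, mul_assoc]
  exact Dvd.intro _ rfl

end Jac

/-- `R⟨⟩` (no variables) is a finite `R`-module. -/
theorem finite_rpow_zero (R : Type u) [CommRing R] (I : Ideal R) (hI : I.FG) [IsAdicComplete I R] :
    Module.Finite R (RPow R I 0) := by
  haveI hc := isAdicComplete_rpow I hI 0
  haveI : IsHausdorff I (RPow R I 0) := IsHausdorff.map_algebraMap_iff.1 hc.toIsHausdorff
  haveI : Module.Finite R (RPow R I 0 ⧸ I.map (algebraMap R (RPow R I 0))) := by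
    refine Module.Finite.of_surjective
      ((Algebra.linearMap R (RPow R I 0 ⧸ I.map (algebraMap R (RPow R I 0))))) ?_
    intro z
    obtain ⟨x, rfl⟩ := Ideal.Quotient.mk_surjective z
    obtain ⟨p, e, he, rfl⟩ := rpow_exists_eq_add I hI 0 1 x
    rw [pow_one] at he
    refine ⟨MvPolynomial.coeff 0 p, ?_⟩
    rw [Algebra.linearMap_apply, map_add, (Ideal.Quotient.eq_zero_iff_mem).2 he, add_zero]
    conv_rhs => rw [MvPolynomial.eq_C_of_isEmpty p, algebraMap_C]
    rfl
  exact finite_of_finite_quotient I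

theorem reduction_surjective {R : Type u} [CommRing R] [IsLocalRing R] (I : Ideal R) (hI : I.FG)
    (n : ℕ) {κ : Type v} [CommRing κ] (φ : RPow R I n →+* κ) (hφ : Function.Surjective φ)
    (hφI : ∀ a ∈ I, φ (algebraMap R _ a) = 0)
    (ρ : ResidueField R →+* κ) (hρ : ∀ r, ρ (residue R r) = φ (algebraMap R _ r)) :
    Function.Surjective (MvPolynomial.eval₂Hom ρ
      (fun i => φ (algebraMap (MvPolynomial (Fin n) R) (RPow R I n) (MvPolynomial.X i)))) ∧
    (MvPolynomial.eval₂Hom ρ
      (fun i => φ (algebraMap (MvPolynomial (Fin n) R) (RPow R I n) (MvPolynomial.X i)))).comp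
      (MvPolynomial.map (residue R)) = φ.comp (algebraMap (MvPolynomial (Fin n) R) (RPow R I n)) := by
  set F := MvPolynomial.eval₂Hom ρ
      (fun i => φ (algebraMap (MvPolynomial (Fin n) R) (RPow R I n) (MvPolynomial.X i))) with hF
  have hFp : F.comp (MvPolynomial.map (residue R)) =
      φ.comp (algebraMap (MvPolynomial (Fin n) R) (RPow R I n)) := by
    apply MvPolynomial.ringHom_ext
    · intro r
      simp only [RingHom.comp_apply, MvPolynomial.map_C, F, MvPolynomial.coe_eval₂Hom,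
        MvPolynomial.eval₂_C]
      rw [hρ, algebraMap_C]
    · intro i
      simp only [RingHom.comp_apply, MvPolynomial.map_X, F, MvPolynomial.coe_eval₂Hom,
        MvPolynomial.eval₂_X]
  refine ⟨?_, hFp⟩
  intro y
  obtain ⟨x, rfl⟩ := hφ y
  obtain ⟨p, e, he, rfl⟩ := rpow_exists_eq_add I hI n 1 x
  rw [pow_one] at he
  have hker : I.map (algebraMap R (RPow R I n)) ≤ RingHom.ker φ := by
    rw [Ideal.map_le_iff_le_comap]
    intro a ha
    rw [Ideal.mem_comap, RingHom.mem_ker]
    exact hφI a ha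
  refine ⟨MvPolynomial.map (residue R) p, ?_⟩
  rw [map_add, (RingHom.mem_ker).1 (hker he), add_zero]
  exact congrArg (fun h => h p) hFp

end Groth.Agent.Lib.Helper11.Bosch
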