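import Mathlib
import Groth.Prelude.Def_W4bk4boschfrg79
import Groth.Agent.Lib.Helper11BoschA
import Groth.Agent.Lib.Helper11BoschD
import Groth.Agent.Lib.Helper11BoschE
import Groth.Agent.Lib.Helper11BoschF

/-!
# Helper11 Bosch G: rigid Nullstellensatz — a domain `D`, topologically of finite type over a
complete height-one valuation ring `R`, with `D[1/t]` a field, is a finite `R`-module.
-/

set_option autoImplicit false
universe u v

namespace Groth.Agent.Lib.Helper11.Bosch

open IsLocalRing Polynomial AdicRing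

section NS
variable (R : Type u) [CommRing R] [IsDomain R] [ValuationRing R] [Ring.KrullDimLE 1 R]
  (t : R) (ht : t ≠ 0) [IsAdicComplete (Ideal.span {t}) R]
  (D : Type u) [CommRing D] [Algebra R D] [IsDomain D]

include ht in
theorem finite_of_localization_isField (hD : TopFiniteType R (Ideal.span {t}) D)
    (htD : algebraMap R D t ≠ 0)
    (hF : ∀ x : D, x ≠ 0 → ∃ (y : D) (k : ℕ), x * y = algebraMap R D t ^ k) :
    Module.Finite R D := by
  classical
  have hI : (Ideal.span {t}).FG := ⟨{t}, by simp⟩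
  have hnu : ¬ IsUnit (algebraMap R D t) := not_isUnit_algebraMap_t t D hD
  have hsep := eq_zero_of_forall_pow_dvd t D hnu hF
  have hinjRD : Function.Injective (algebraMap R D) := algebraMap_injective_of_ne_zero R t D htD
  have hrad := maximalIdeal_le_radical R t ht
  obtain ⟨n, ψ, hψ⟩ := hD
  -- the reduction `D̄ = D / 𝔪_R D`
  let mD : Ideal D := (maximalIdeal R).map (algebraMap R D)
  have hmD_le : mD ≤ (Ideal.span {algebraMap R D t}).radical := by
    rw [Ideal.map_le_iff_le_comap]
    intro c hc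
    obtain ⟨N, hN⟩ := hrad hc
    rw [Ideal.mem_comap]
    refine ⟨N, ?_⟩
    rw [← map_pow]
    rw [Ideal.mem_span_singleton] at hN ⊢
    exact map_dvd (algebraMap R D) hN
  have hmD_ne : mD ≠ ⊤ := by
    intro htop
    have h1 : (1 : D) ∈ (Ideal.span {algebraMap R D t}).radical := hmD_le (htop ▸ Submodule.mem_top)
    obtain ⟨N, hN⟩ := h1
    rw [one_pow, Ideal.mem_span_singleton] at hN
    exact hnu (isUnit_of_dvd_one hN)
  haveI : Nontrivial (D ⧸ mD) := Ideal.Quotient.nontrivial_iff.2 hmD_ne
  let ρ : ResidueField R →+* D ⧸ mD := Ideal.Quotient.lift (maximalIdeal R)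
    ((Ideal.Quotient.mk mD).comp (algebraMap R D)) (fun c hc => by
      rw [RingHom.comp_apply, Ideal.Quotient.eq_zero_iff_mem]
      exact Ideal.mem_map_of_mem _ hc)
  have hρ : ∀ r, ρ (residue R r) = Ideal.Quotient.mk mD (algebraMap R D r) := fun r => rfl
  letI algk : Algebra (ResidueField R) (D ⧸ mD) := ρ.toAlgebra
  have htm : t ∈ maximalIdeal R := t_mem_maximalIdeal R t
  let φ : RPow R (Ideal.span {t}) n →+* D ⧸ mD := (Ideal.Quotient.mk mD).comp ψ.toRingHom
  have hφs : Function.Surjective φ := Ideal.Quotient.mk_surjective.comp hψ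
  have hφI : ∀ a ∈ Ideal.span {t}, φ (algebraMap R _ a) = 0 := by
    intro a ha
    show Ideal.Quotient.mk mD (ψ (algebraMap R _ a)) = 0
    rw [AlgHom.commutes, Ideal.Quotient.eq_zero_iff_mem]
    refine Ideal.mem_map_of_mem _ ?_
    rw [Ideal.mem_span_singleton] at ha
    obtain ⟨c, rfl⟩ := ha
    exact Ideal.mul_mem_right _ _ htm
  have hρφ : ∀ r, ρ (residue R r) = φ (algebraMap R _ r) := by
    intro r
    show _ = Ideal.Quotient.mk mD (ψ (algebraMap R _ r))
    rw [AlgHom.commutes, hρ]
  obtain ⟨hFs, -⟩ := reduction_surjective (Ideal.span {t}) hI n φ hφs hφI ρ hρφ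
  haveI : Algebra.FiniteType (ResidueField R) (D ⧸ mD) := by
    refine Algebra.FiniteType.of_surjective
      (MvPolynomial.aeval (fun i => φ (algebraMap (MvPolynomial (Fin n) R) _ (MvPolynomial.X i))))
      ?_
    exact hFs
  -- Noether normalization of the reduction
  obtain ⟨s, g, hginj, hgint⟩ := exists_integral_inj_algHom_of_fg (ResidueField R) (D ⧸ mD)
  -- lift the normalization to `γ : R⟨Y⟩ → D`
  have hlift : ∀ j : Fin s, ∃ y : RPow R (Ideal.span {t}) n, φ y = g (MvPolynomial.X j) :=
    fun j => hφs _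
  choose ytil hytil using hlift
  haveI hcn := isAdicComplete_rpow (Ideal.span {t}) hI n
  obtain ⟨γt, hγt⟩ := exists_rpow_lift (Ideal.span {t}) s (RPow R (Ideal.span {t}) n)
    (MvPolynomial.aeval ytil)
  let γ : RPow R (Ideal.span {t}) s →ₐ[R] D := ψ.comp γt
  let ιs : MvPolynomial (Fin s) R →+* RPow R (Ideal.span {t}) s := algebraMap _ _
  have hcomp : ∀ p : MvPolynomial (Fin s) R,
      Ideal.Quotient.mk mD (γ (ιs p)) = g (MvPolynomial.map (residue R) p) := by
    intro p
    have h1 : ((Ideal.Quotient.mk mD).comp γ.toRingHom).comp ιs =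
        g.toRingHom.comp (MvPolynomial.map (residue R)) := by
      apply MvPolynomial.ringHom_ext
      · intro r
        show Ideal.Quotient.mk mD (γ (ιs (MvPolynomial.C r))) =
          g (MvPolynomial.map (residue R) (MvPolynomial.C r))
        rw [MvPolynomial.map_C, algebraMap_C, AlgHom.commutes, ← MvPolynomial.algebraMap_eq,
          AlgHom.commutes]
        rfl
      · intro j
        show Ideal.Quotient.mk mD (ψ (γt (ιs (MvPolynomial.X j)))) =
          g (MvPolynomial.map (residue R) (MvPolynomial.X j))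
        rw [MvPolynomial.map_X, hγt, MvPolynomial.aeval_X, ← hytil]
        rfl
    exact congrArg (fun h => h p) h1
  letI algΛ : Algebra (RPow R (Ideal.span {t}) s) D := γ.toRingHom.toAlgebra
  haveI : IsScalarTower R (RPow R (Ideal.span {t}) s) D :=
    IsScalarTower.of_algebraMap_eq (fun r => (γ.commutes r).symm)
  have halgΛ : ∀ x, algebraMap (RPow R (Ideal.span {t}) s) D x = γ x := fun x => rfl
  -- integrality modulo `𝔪_R D`
  have hINT : ∀ x : D, ∃ F : (RPow R (Ideal.span {t}) s)[X], F.Monic ∧ aeval x F ∈ mD := by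
    intro x
    obtain ⟨Fbar, hFm, hF0⟩ := hgint (Ideal.Quotient.mk mD x)
    have hsurj : Function.Surjective (MvPolynomial.map (residue R) :
        MvPolynomial (Fin s) R →+* MvPolynomial (Fin s) (ResidueField R)) :=
      MvPolynomial.map_surjective _ residue_surjective
    have hlifts : Fbar ∈ Polynomial.lifts (MvPolynomial.map (residue R) :
        MvPolynomial (Fin s) R →+* MvPolynomial (Fin s) (ResidueField R)) := by
      rw [Polynomial.mem_lifts]
      exact Polynomial.map_surjective _ hsurj Fbar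
    obtain ⟨F₀, hF₀map, -, hF₀m⟩ := Polynomial.lifts_and_degree_eq_and_monic hlifts hFm
    refine ⟨F₀.map ιs, hF₀m.map _, ?_⟩
    rw [← Ideal.Quotient.eq_zero_iff_mem, aeval_def, eval₂_map, Polynomial.hom_eval₂]
    have h1 : (Ideal.Quotient.mk mD).comp ((algebraMap (RPow R (Ideal.span {t}) s) D).comp ιs) =
        g.toRingHom.comp (MvPolynomial.map (residue R)) := RingHom.ext (fun p => hcomp p)
    rw [h1, ← eval₂_map, hF₀map]
    exact hF0
  set J : Ideal D := Ideal.span {algebraMap R D t} with hJ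
  haveI hintΛ : Algebra.IsIntegral (RPow R (Ideal.span {t}) s) (D ⧸ J) := by
    refine ⟨fun c => ?_⟩
    obtain ⟨b, rfl⟩ := Ideal.Quotient.mk_surjective c
    obtain ⟨F, hFm, hFmem⟩ := hINT b
    obtain ⟨N, hN⟩ := hmD_le hFmem
    refine ⟨F ^ N, hFm.pow N, ?_⟩
    rw [← aeval_def]
    have h1 : aeval (Ideal.Quotient.mk J b) (F ^ N) = Ideal.Quotient.mk J (aeval b (F ^ N)) := by
      rw [← Ideal.Quotient.mkₐ_eq_mk (RPow R (Ideal.span {t}) s), ← aeval_algHom_apply]
    rw [h1, map_pow, Ideal.Quotient.eq_zero_iff_mem]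
    exact hN
  haveI hftR : Algebra.FiniteType R (D ⧸ J) := by
    let ψ' : MvPolynomial (Fin n) R →ₐ[R] D ⧸ J :=
      (Ideal.Quotient.mkₐ R J).comp (ψ.comp
        (IsScalarTower.toAlgHom R (MvPolynomial (Fin n) R) (RPow R (Ideal.span {t}) n)))
    refine Algebra.FiniteType.of_surjective ψ' ?_
    intro c
    obtain ⟨b, rfl⟩ := Ideal.Quotient.mk_surjective c
    obtain ⟨x, rfl⟩ := hψ b
    obtain ⟨p, y, rfl⟩ := rpow_exists_eq_add_mul t n 1 x
    refine ⟨p, ?_⟩
    show Ideal.Quotient.mk J (ψ (algebraMap _ _ p)) = Ideal.Quotient.mk J (ψ _)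
    rw [eq_comm, Ideal.Quotient.mk_eq_mk_iff_sub_mem, map_add, add_sub_cancel_left, map_mul,
      pow_one, AlgHom.commutes]
    exact Ideal.mul_mem_right _ _ (Ideal.mem_span_singleton_self _)
  haveI hftΛ : Algebra.FiniteType (RPow R (Ideal.span {t}) s) (D ⧸ J) :=
    Algebra.FiniteType.of_restrictScalars_finiteType R _ _
  haveI : Module.Finite (RPow R (Ideal.span {t}) s) (D ⧸ J) := Algebra.IsIntegral.finite
  -- complete Nakayama
  set τs : RPow R (Ideal.span {t}) s := algebraMap R _ t with hτs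
  have hγτ : γ τs = algebraMap R D t := γ.commutes t
  haveI hcs := isAdicComplete_rpow (Ideal.span {t}) hI s
  haveI : IsHausdorff (Ideal.span {τs}) D := isHausdorff_of_forall_pow_dvd D τs (by
    intro x hx
    apply hsep x
    intro k
    have := hx k
    rwa [halgΛ, hγτ] at this)
  haveI : IsPrecomplete (Ideal.span {τs}) (RPow R (Ideal.span {t}) s) := by
    have := hcs.toIsPrecomplete
    rwa [map_span_singleton_eq] at this
  have hJ' : (Ideal.span {τs}).map (algebraMap (RPow R (Ideal.span {t}) s) D) = J := by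
    rw [Ideal.map_span, Set.image_singleton, halgΛ, hγτ]
  haveI : Module.Finite (RPow R (Ideal.span {t}) s)
      (D ⧸ (Ideal.span {τs}).map (algebraMap (RPow R (Ideal.span {t}) s) D)) := by
    rw [hJ']; infer_instance
  haveI hfinΛ : Module.Finite (RPow R (Ideal.span {t}) s) D :=
    finite_of_finite_quotient (Ideal.span {τs})
  haveI hintΛD : Algebra.IsIntegral (RPow R (Ideal.span {t}) s) D := Algebra.IsIntegral.of_finite _ _
  -- `γ` is injective
  have hγinj : Function.Injective γ := by
    rw [injective_iff_map_eq_zero]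
    intro x hx
    by_contra hx0
    obtain ⟨c, p₁, d, y, hc0, hdm, ⟨i₀, hi₀⟩, hxe⟩ := exists_content R t s x hx0
    rw [hxe, map_mul, map_add, map_mul, AlgHom.commutes, AlgHom.commutes] at hx
    have hcD : algebraMap R D c ≠ 0 := fun h => hc0 (hinjRD (by rw [h, map_zero]))
    rcases mul_eq_zero.1 hx with h | h
    · exact hcD h
    · have h1 : Ideal.Quotient.mk mD (γ (ιs p₁)) = 0 := by
        have h2 : γ (ιs p₁) = - (algebraMap R D d * γ y) := eq_neg_of_add_eq_zero_left h
        rw [h2, map_neg, neg_eq_zero, Ideal.Quotient.eq_zero_iff_mem]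
        exact Ideal.mul_mem_right _ _ (Ideal.mem_map_of_mem _ hdm)
      rw [hcomp] at h1
      have h3 : MvPolynomial.map (residue R) p₁ = 0 := by
        apply hginj
        rw [h1, map_zero]
      have h4 := congrArg (MvPolynomial.coeff i₀) h3
      rw [MvPolynomial.coeff_map, hi₀, map_one, MvPolynomial.coeff_zero] at h4
      exact one_ne_zero h4
  -- `s = 0`
  rcases Nat.eq_zero_or_pos s with hs0 | hspos
  · subst hs0
    haveI : Module.Finite R (RPow R (Ideal.span {t}) 0) := finite_rpow_zero R _ hI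
    exact Module.Finite.trans (RPow R (Ideal.span {t}) 0) D
  · exfalso
    haveI hcR : IsAdicComplete ((Ideal.span {t}).map (algebraMap R R)) R := by
      rw [Algebra.algebraMap_self, Ideal.map_id]; infer_instance
    obtain ⟨ev0, hev0⟩ := exists_rpow_lift (Ideal.span {t}) s R
      (MvPolynomial.aeval (fun _ => (0 : R)))
    obtain ⟨ev1, hev1⟩ := exists_rpow_lift (Ideal.span {t}) s R
      (MvPolynomial.aeval (fun _ => (1 : R)))
    let q₀ : Ideal (RPow R (Ideal.span {t}) s) := RingHom.ker ev0.toRingHom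
    haveI : q₀.IsPrime := RingHom.ker_isPrime _
    let j0 : Fin s := ⟨0, hspos⟩
    have hY0 : ιs (MvPolynomial.X j0) ∈ q₀ := by
      rw [RingHom.mem_ker]
      show ev0 _ = 0
      rw [hev0, MvPolynomial.aeval_X]
    have hY0ne : ιs (MvPolynomial.X j0) ≠ 0 := by
      intro h0
      have := congrArg ev1 h0
      rw [hev1, MvPolynomial.aeval_X, map_zero] at this
      exact one_ne_zero this
    have hτq : τs ∉ q₀ := by
      rw [RingHom.mem_ker]
      show ¬ ev0 τs = 0
      rw [AlgHom.commutes]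
      exact ht
    have hkerγ : (⊥ : Ideal D).comap (algebraMap (RPow R (Ideal.span {t}) s) D) = ⊥ := by
      rw [eq_bot_iff]
      intro x hx
      rw [Ideal.mem_comap, Ideal.mem_bot, halgΛ] at hx
      rw [Ideal.mem_bot]
      exact hγinj (by rw [hx, map_zero])
    obtain ⟨Q, -, hQp, hQc⟩ := Ideal.exists_ideal_over_prime_of_isIntegral q₀ (⊥ : Ideal D) (by
      rw [hkerγ]; exact bot_le)
    haveI := hQp
    have hQne : Q ≠ ⊥ := by
      rintro rfl
      rw [hkerγ] at hQc
      rw [← hQc, Ideal.mem_bot] at hY0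
      exact hY0ne hY0
    obtain ⟨x, hxQ, hx0⟩ := Submodule.exists_mem_ne_zero_of_ne_bot hQne
    obtain ⟨y, k, hy⟩ := hF x hx0
    have h1 : algebraMap R D t ^ k ∈ Q := hy ▸ Ideal.mul_mem_right _ _ hxQ
    have h2 : algebraMap R D t ∈ Q := hQp.mem_of_pow_mem _ h1
    apply hτq
    rw [← hQc, Ideal.mem_comap, halgΛ, hγτ]
    exact h2

end NS

end Groth.Agent.Lib.Helper11.Bosch
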