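import Mathlib
import Groth.Prelude.Def_W4bk4boschfrg79
import Groth.Agent.Lib.Helper11BoschA
import Groth.Agent.Lib.Helper11BoschB
import Groth.Agent.Lib.Helper11BoschF
import Groth.Agent.Lib.Helper11BoschG
import Groth.Agent.Lib.Helper5IntDim

/-!
# Helper11 Bosch H: rig-points of an admissible algebra (Bosch 8.3).
-/

set_option autoImplicit false
universe u v

namespace Groth.Agent.Lib.Helper11.Bosch

open IsLocalRing Polynomial AdicRing

section Frac
variable (R : Type u) [CommRing R] [IsDomain R] [IsLocalRing R] [Ring.KrullDimLE 1 R]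
  (t : R) (ht : t ≠ 0) [IsAdicComplete (Ideal.span {t}) R]

include ht in
theorem isLocalization_powers_fractionRing (K : Type*) [CommRing K] [Algebra R K]
    [IsFractionRing R K] : IsLocalization (Submonoid.powers t) K := by
  refine (IsLocalization.iff_of_le_of_exists_dvd (M := Submonoid.powers t) (S := K)
    (nonZeroDivisors R) ?_ ?_).2 inferInstance
  · rintro _ ⟨k, rfl⟩
    exact mem_nonZeroDivisors_of_ne_zero (pow_ne_zero k ht)
  · intro n hn
    have hn0 : n ≠ 0 := nonZeroDivisors.ne_zero hn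
    have htm : t ∈ maximalIdeal R := t_mem_maximalIdeal R t
    obtain ⟨N, hN⟩ := maximalIdeal_le_radical R n hn0 htm
    rw [Ideal.mem_span_singleton] at hN
    exact ⟨t ^ N, ⟨N, rfl⟩, hN⟩

end Frac

section Rig
variable (R : Type u) [CommRing R] [IsDomain R] [ValuationRing R] [Ring.KrullDimLE 1 R]
  (t : R) (ht : t ≠ 0) [IsAdicComplete (Ideal.span {t}) R]
  (A : Type u) [CommRing A] [Algebra R A] (hA : TopFiniteType R (Ideal.span {t}) A)
  (S : Type u) [CommRing S] [Algebra A S]
  [IsLocalization (Algebra.algebraMapSubmonoid A (Submonoid.powers t)) S]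

omit [IsDomain R] [ValuationRing R] [Ring.KrullDimLE 1 R] [IsAdicComplete (Ideal.span {t}) R] in
theorem mem_algebraMapSubmonoid_powers (x : A)
    (hx : x ∈ Algebra.algebraMapSubmonoid A (Submonoid.powers t)) :
    ∃ k : ℕ, x = algebraMap R A t ^ k := by
  obtain ⟨_, ⟨k, rfl⟩, rfl⟩ := hx
  exact ⟨k, by rw [map_pow]⟩

omit [IsDomain R] [ValuationRing R] [Ring.KrullDimLE 1 R] [IsAdicComplete (Ideal.span {t}) R] in
theorem disjoint_powers_of_notMem (p : Ideal A) [hp : p.IsPrime] (htp : algebraMap R A t ∉ p) :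
    Disjoint (Algebra.algebraMapSubmonoid A (Submonoid.powers t) : Set A) (p : Set A) := by
  rw [Set.disjoint_left]
  intro x hx hxp
  obtain ⟨k, rfl⟩ := mem_algebraMapSubmonoid_powers R t A x hx
  exact htp (hp.mem_of_pow_mem k hxp)

include hA in
omit [IsDomain R] [ValuationRing R] [Ring.KrullDimLE 1 R] [IsAdicComplete (Ideal.span {t}) R] in
/-- a non-open prime `p` with `dim A/p = 1` extends to a maximal ideal of `A[1/t]`. -/
theorem isMaximal_map_of_dim_one (p : Ideal A) [hp : p.IsPrime] (htp : algebraMap R A t ∉ p)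
    (hdim : ringKrullDim (A ⧸ p) = 1) :
    (p.map (algebraMap A S)).IsMaximal ∧ (p.map (algebraMap A S)).comap (algebraMap A S) = p := by
  set M := Algebra.algebraMapSubmonoid A (Submonoid.powers t) with hM
  have hdisj := disjoint_powers_of_notMem R t A p htp
  have hcm : (p.map (algebraMap A S)).comap (algebraMap A S) = p :=
    IsLocalization.under_map_of_isPrime_disjoint M S hp hdisj
  refine ⟨?_, hcm⟩
  have hprime : (p.map (algebraMap A S)).IsPrime :=
    IsLocalization.isPrime_of_isPrime_disjoint M S p hp hdisj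
  obtain ⟨𝔐, h𝔐, hle⟩ := Ideal.exists_le_maximal _ hprime.ne_top
  haveI := h𝔐
  let q : Ideal A := 𝔐.comap (algebraMap A S)
  haveI hq : q.IsPrime := Ideal.comap_isPrime _ _
  have hpq : p ≤ q := by
    rw [← hcm]; exact Ideal.comap_mono hle
  have htq : algebraMap R A t ∉ q := by
    intro h
    have hu : IsUnit (algebraMap A S (algebraMap R A t)) :=
      IsLocalization.map_units S (⟨algebraMap R A t, ⟨t, ⟨1, pow_one t⟩, rfl⟩⟩ : M)
    exact h𝔐.ne_top (Ideal.eq_top_of_isUnit_mem _ h hu)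
  have hqp : q = p := by
    by_contra hne
    have hlt : p < q := lt_of_le_of_ne hpq (Ne.symm hne)
    haveI : Ring.KrullDimLE 1 (A ⧸ p) := Ring.krullDimLE_iff.2 hdim.le
    let Q' : Ideal (A ⧸ p) := q.map (Ideal.Quotient.mk p)
    have hQ'c : Q'.comap (Ideal.Quotient.mk p) = q := by
      rw [Ideal.comap_map_of_surjective _ Ideal.Quotient.mk_surjective, ← RingHom.ker_eq_comap_bot,
        Ideal.mk_ker, sup_eq_left]
      exact hpq
    haveI hQ'p : Q'.IsPrime := by
      apply Ideal.map_isPrime_of_surjective Ideal.Quotient.mk_surjective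
      rw [Ideal.mk_ker]; exact hpq
    have hQ'ne : Q' ≠ ⊥ := by
      intro h0
      have : q ≤ p := by
        rw [← hQ'c, h0, ← RingHom.ker_eq_comap_bot, Ideal.mk_ker]
      exact absurd (le_antisymm this hpq) hne
    haveI hQ'max : Q'.IsMaximal := Ideal.IsPrime.isMaximal_of_ne_bot hQ'p hQ'ne
    haveI hqmax : q.IsMaximal := by
      rw [← hQ'c]
      exact Ideal.comap_isMaximal_of_surjective _ Ideal.Quotient.mk_surjective
    exact htq (algebraMap_t_mem_of_isMaximal t A hA q)
  have h𝔐eq : 𝔐 = p.map (algebraMap A S) := by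
    rw [← IsLocalization.map_under M S 𝔐]
    show Ideal.map _ q = _
    rw [hqp]
  rw [← h𝔐eq]
  exact h𝔐

include ht hA in
/-- a maximal ideal of `A[1/t]` contracts to a non-open prime `q` with `dim A/q = 1`. -/
theorem dim_one_of_isMaximal (𝔐 : Ideal S) [h𝔐 : 𝔐.IsMaximal] :
    algebraMap R A t ∉ 𝔐.comap (algebraMap A S) ∧
      ringKrullDim (A ⧸ 𝔐.comap (algebraMap A S)) = 1 ∧
      (𝔐.comap (algebraMap A S)).map (algebraMap A S) = 𝔐 := by
  set M := Algebra.algebraMapSubmonoid A (Submonoid.powers t) with hM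
  set q : Ideal A := 𝔐.comap (algebraMap A S) with hqdef
  haveI hq : q.IsPrime := Ideal.comap_isPrime _ _
  have htq : algebraMap R A t ∉ q := by
    intro h
    have hu : IsUnit (algebraMap A S (algebraMap R A t)) :=
      IsLocalization.map_units S (⟨algebraMap R A t, ⟨t, ⟨1, pow_one t⟩, rfl⟩⟩ : M)
    exact h𝔐.ne_top (Ideal.eq_top_of_isUnit_mem _ h hu)
  refine ⟨htq, ?_, IsLocalization.map_under M S 𝔐⟩
  -- the domain `D = A / q`
  have hD : TopFiniteType R (Ideal.span {t}) (A ⧸ q) := by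
    obtain ⟨n, ψ, hψ⟩ := hA
    exact ⟨n, (Ideal.Quotient.mkₐ R q).comp ψ, (Ideal.Quotient.mkₐ_surjective R q).comp hψ⟩
  have htD : algebraMap R (A ⧸ q) t ≠ 0 := by
    intro h0
    apply htq
    rw [← Ideal.Quotient.eq_zero_iff_mem]
    exact h0
  have hF : ∀ x : A ⧸ q, x ≠ 0 → ∃ (y : A ⧸ q) (k : ℕ), x * y = algebraMap R (A ⧸ q) t ^ k := by
    intro x hx
    obtain ⟨a, rfl⟩ := Ideal.Quotient.mk_surjective x
    have ha : algebraMap A S a ∉ 𝔐 := by
      intro h
      apply hx
      rw [Ideal.Quotient.eq_zero_iff_mem]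
      exact h
    obtain ⟨σ, μ, hμ, hσ⟩ := h𝔐.exists_inv ha
    obtain ⟨⟨b, m⟩, hbm⟩ := IsLocalization.surj M σ
    obtain ⟨k, hk⟩ := mem_algebraMapSubmonoid_powers R t A m.1 m.2
    simp only at hbm
    refine ⟨Ideal.Quotient.mk q b, k, ?_⟩
    have h1 : algebraMap A S (m.1 - b * a) ∈ 𝔐 := by
      have h2 : algebraMap A S (m.1 - b * a) = μ * algebraMap A S m.1 := by
        rw [map_sub, map_mul, ← hbm]
        have : μ = 1 - σ * algebraMap A S a := by rw [← hσ]; ring
        rw [this]; ring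
      rw [h2]
      exact Ideal.mul_mem_right _ _ hμ
    have h3 : m.1 - b * a ∈ q := h1
    rw [← Ideal.Quotient.eq_zero_iff_mem, map_sub, sub_eq_zero, hk, map_mul, map_pow] at h3
    rw [mul_comm, ← h3]
    rfl
  haveI hfin : Module.Finite R (A ⧸ q) :=
    finite_of_localization_isField R t ht (A ⧸ q) hD htD hF
  haveI : Algebra.IsIntegral R (A ⧸ q) := Algebra.IsIntegral.of_finite R _
  have hinj : Function.Injective (algebraMap R (A ⧸ q)) :=
    algebraMap_injective_of_ne_zero R t (A ⧸ q) htD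
  rw [Groth.Agent.Lib.Helper5.ringKrullDim_eq_of_isIntegral_of_injective R _ hinj]
  exact ringKrullDim_eq_one R t ht

end Rig

end Groth.Agent.Lib.Helper11.Bosch
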