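import Mathlib
import Groth.Prelude.Def_W4bk4boschfrg79
import Groth.Agent.Lib.Helper11BoschA
import Groth.Agent.Lib.Helper11BoschD
import Groth.Agent.Lib.Helper11BoschE

/-!
# Helper11 Bosch I: algebras finitely generated over a topologically finite type algebra and
`I`-adically complete are topologically of finite type.
-/

set_option autoImplicit false
universe u v

namespace Groth.Agent.Lib.Helper11.Bosch

open AdicRing

theorem algHom_mem_map {R : Type*} [CommRing R] (I : Ideal R) {C S : Type*} [CommRing C]
    [Algebra R C] [CommRing S] [Algebra R S] (θ : C →ₐ[R] S) (e : C)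
    (he : e ∈ I.map (algebraMap R C)) : θ e ∈ I.map (algebraMap R S) := by
  have h1 := Ideal.mem_map_of_mem θ.toRingHom he
  rw [Ideal.map_map] at h1
  have h2 : θ.toRingHom.comp (algebraMap R C) = algebraMap R S := θ.comp_algebraMap
  rw [h2] at h1
  exact h1

/-- An `I`-adically complete `R`-algebra `A'` which is generated by finitely many elements over
the image of an algebra `A` topologically of finite type is topologically of finite type. -/
theorem topFiniteType_of_adjoin {R : Type u} [CommRing R] (I : Ideal R) (hI : I.FG)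
    (A : Type u) [CommRing A] [Algebra R A] (hA : TopFiniteType R I A)
    (A' : Type u) [CommRing A'] [Algebra R A'] [Algebra A A'] [IsScalarTower R A A']
    [IsAdicComplete I A'] (n : ℕ) (f : Fin n → A')
    (hf : Algebra.adjoin A (Set.range f) = ⊤) :
    TopFiniteType R I A' := by
  classical
  obtain ⟨m, θ, hθ⟩ := hA
  let ι : MvPolynomial (Fin m) R →ₐ[R] RPow R I m :=
    IsScalarTower.toAlgHom R (MvPolynomial (Fin m) R) (RPow R I m)
  let gens : Fin (m + n) → A' :=
    Fin.append (fun i => algebraMap A A' (θ (ι (MvPolynomial.X i)))) f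
  let π₀ : MvPolynomial (Fin (m + n)) R →ₐ[R] A' := MvPolynomial.aeval gens
  haveI : IsAdicComplete (I.map (algebraMap R A')) A' :=
    (IsAdicComplete.map_algebraMap_iff (R := R) (S := A') I A').mpr inferInstance
  obtain ⟨π, hπ⟩ := exists_rpow_lift I (m + n) A' π₀
  refine ⟨m + n, π, ?_⟩
  -- compatibility with `θ` on polynomials
  have hcomp : ∀ q : MvPolynomial (Fin m) R,
      algebraMap A A' (θ (ι q)) = π₀ (MvPolynomial.rename (Fin.castAdd n) q) := by
    intro q
    have h1 : ((IsScalarTower.toAlgHom R A A').comp (θ.comp ι)) =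
        π₀.comp (MvPolynomial.rename (Fin.castAdd n)) := by
      apply MvPolynomial.algHom_ext
      intro i
      simp only [AlgHom.comp_apply, MvPolynomial.rename_X, IsScalarTower.coe_toAlgHom']
      simp only [π₀, gens, MvPolynomial.aeval_X, Fin.append_left]
    exact DFunLike.congr_fun h1 q
  set J : Ideal A' := I.map (algebraMap R A') with hJ
  -- every element is a polynomial value modulo `I A'`
  have key : ∀ a' : A', ∃ p : MvPolynomial (Fin (m + n)) R, a' - π₀ p ∈ J := by
    intro a'
    have hmem : a' ∈ Algebra.adjoin A (Set.range f) := by rw [hf]; exact Algebra.mem_top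
    induction hmem using Algebra.adjoin_induction with
    | mem x hx =>
      obtain ⟨j, rfl⟩ := hx
      refine ⟨MvPolynomial.X (Fin.natAdd m j), ?_⟩
      have : π₀ (MvPolynomial.X (Fin.natAdd m j)) = f j := by
        simp only [π₀, gens, MvPolynomial.aeval_X, Fin.append_right]
      rw [this, sub_self]
      exact J.zero_mem
    | algebraMap a =>
      obtain ⟨x, rfl⟩ := hθ a
      obtain ⟨q, e, he, hx⟩ := rpow_exists_eq_add I hI m 1 x
      rw [pow_one] at he
      refine ⟨MvPolynomial.rename (Fin.castAdd n) q, ?_⟩
      rw [← hcomp q]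
      have h2 : θ x = θ (ι q) + θ e := by
        rw [hx, map_add]
        rfl
      rw [h2, map_add, add_sub_cancel_left]
      have h3 := algHom_mem_map I θ e he
      have h4 := algHom_mem_map I (IsScalarTower.toAlgHom R A A') (θ e) h3
      exact h4
    | add x y _ _ hx hy =>
      obtain ⟨p, hp⟩ := hx
      obtain ⟨q, hq⟩ := hy
      refine ⟨p + q, ?_⟩
      rw [map_add]
      have : x + y - (π₀ p + π₀ q) = (x - π₀ p) + (y - π₀ q) := by ring
      rw [this]
      exact J.add_mem hp hq
    | mul x y _ _ hx hy =>
      obtain ⟨p, hp⟩ := hx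
      obtain ⟨q, hq⟩ := hy
      refine ⟨p * q, ?_⟩
      rw [map_mul]
      have : x * y - π₀ p * π₀ q = x * (y - π₀ q) + (x - π₀ p) * π₀ q := by ring
      rw [this]
      exact J.add_mem (J.mul_mem_left _ hq) (J.mul_mem_right _ hp)
  haveI hc : IsAdicComplete (I.map (algebraMap R (RPow R I (m + n)))) (RPow R I (m + n)) :=
    isAdicComplete_rpow I hI (m + n)
  haveI : IsAdicComplete I (RPow R I (m + n)) :=
    (IsAdicComplete.map_algebraMap_iff (R := R) (S := RPow R I (m + n)) I
      (RPow R I (m + n))).mp hc
  have hsurj : Function.Surjective π.toLinearMap := by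
    apply surjective_of_mkQ_comp_surjective (I := I)
    intro y
    obtain ⟨a', rfl⟩ := Submodule.mkQ_surjective _ y
    obtain ⟨p, hp⟩ := key a'
    refine ⟨algebraMap (MvPolynomial (Fin (m + n)) R) (RPow R I (m + n)) p, ?_⟩
    rw [LinearMap.comp_apply, AlgHom.toLinearMap_apply, hπ p]
    symm
    rw [← sub_eq_zero, ← map_sub, Submodule.mkQ_apply, Submodule.Quotient.mk_eq_zero,
      Ideal.smul_top_eq_map]
    exact hp
  exact hsurj

end Groth.Agent.Lib.Helper11.Bosch
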