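import Groth.Agent.Lib.Helper11Models

/-!
Explicit forms (for small `k`) of the criterion `no_subharmonic` and of the row relation,
for embedded families of `(-2)`-indices of a numerical type.
-/

namespace Groth.Agent.Lib.Helper11

open Finset Models

variable {n : ℕ} (T : Models.NumericalType n)

theorem sum_univ_nine {M : Type*} [AddCommMonoid M] (f : Fin 9 → M) :
    ∑ i, f i = f 0 + f 1 + f 2 + f 3 + f 4 + f 5 + f 6 + f 7 + f 8 := by
  rw [Fin.sum_univ_castSucc, Fin.sum_univ_eight]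
  rfl

section
variable {k : ℕ} (v : Fin k ↪ Fin n)

theorem K_ne {p q : Fin k} (h : p ≠ q) : v p ≠ v q := fun h' => h (v.injective h')

theorem K_nonneg {p q : Fin k} (h : p ≠ q) : 0 ≤ kk T (v p) (v q) :=
  kk_nonneg T (K_ne v h)

theorem K_pos {p q : Fin k} (h : p ≠ q) (ha : T.a (v p) (v q) ≠ 0) : 1 ≤ kk T (v p) (v q) :=
  kk_pos T (K_ne v h) ha

theorem K_pos' {p q : Fin k} (h : p ≠ q) (ha : T.a (v p) (v q) ≠ 0) : 1 ≤ kk T (v q) (v p) :=
  kk_pos' T (K_ne v h) ha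

theorem K_mul (i j : Fin n) : kk T i j * T.w i = kk T j i * T.w j := by
  rw [← a_eq_kk, ← a_eq_kk']

theorem K_symm_zero {i j : Fin n} (h : kk T i j = 0) : kk T j i = 0 := by
  rw [kk_eq_zero_iff] at h ⊢
  rwa [a_symm]

theorem K_symm_pos {p q : Fin k} (hpq : p ≠ q) (h : 1 ≤ kk T (v p) (v q)) :
    1 ≤ kk T (v q) (v p) := by
  have h1 := K_nonneg T v hpq.symm
  have h2 : kk T (v q) (v p) ≠ 0 := fun h0 => by
    have := K_symm_zero T h0
    omega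
  omega

theorem W_eq_of_K_one {i j : Fin n} (h1 : kk T i j = 1) (h2 : kk T j i = 1) : T.w j = T.w i := by
  have := K_mul T i j
  rw [h1, h2] at this
  linarith

theorem a_of_K_one {i j : Fin n} (h1 : kk T i j = 1) : T.a i j = T.w i := by
  rw [a_eq_kk, h1, one_mul]

theorem a_of_K_zero {i j : Fin n} (h1 : kk T i j = 0) : T.a i j = 0 := by
  rw [a_eq_kk, h1, zero_mul]

end

/-- explicit criterion for `k = 2` -/
theorem refute2 (v : Fin 2 ↪ Fin n) (hv : ∀ j, T.IsMinusTwo (v j)) (hk : 2 < n)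
    (c0 c1 : ℤ)
    (h0 : 0 ≤ c0) (h1 : 0 ≤ c1)
    (hpos : 0 < c0 + c1)
    (r0 : 0 < c0 → 2 * c0 ≤ kk T (v 0) (v 1) * c1)
    (r1 : 0 < c1 → 2 * c1 ≤ kk T (v 1) (v 0) * c0)
    : False := by
  refine no_subharmonic T v hk ![c0, c1] ?_ ?_ ?_
  · intro p; fin_cases p <;> simpa
  · by_contra hcon
    push Not at hcon
    have g0 := hcon 0
    have g1 := hcon 1
    simp at g0 g1
    omega
  · intro p hp
    have d : ∀ q, kk T (v q) (v q) = -2 := fun q => kk_minusTwo T (hv q)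
    fin_cases p
    · have := r0 (by simpa using hp)
      simp [Fin.sum_univ_two, d]
      linarith
    · have := r1 (by simpa using hp)
      simp [Fin.sum_univ_two, d]
      linarith

/-- explicit row relation for `k = 2` -/
theorem mrow2 (v : Fin 2 ↪ Fin n) (p : Fin 2) :
    kk T (v p) (v 0) * T.m (v 0) + kk T (v p) (v 1) * T.m (v 1) ≤ 0 := by
  have := row_emb_le T v p
  simpa [Fin.sum_univ_two] using this

/-- explicit criterion for `k = 3` -/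
theorem refute3 (v : Fin 3 ↪ Fin n) (hv : ∀ j, T.IsMinusTwo (v j)) (hk : 3 < n)
    (c0 c1 c2 : ℤ)
    (h0 : 0 ≤ c0) (h1 : 0 ≤ c1) (h2 : 0 ≤ c2)
    (hpos : 0 < c0 + c1 + c2)
    (r0 : 0 < c0 → 2 * c0 ≤ kk T (v 0) (v 1) * c1 + kk T (v 0) (v 2) * c2)
    (r1 : 0 < c1 → 2 * c1 ≤ kk T (v 1) (v 0) * c0 + kk T (v 1) (v 2) * c2)
    (r2 : 0 < c2 → 2 * c2 ≤ kk T (v 2) (v 0) * c0 + kk T (v 2) (v 1) * c1)
    : False := by
  refine no_subharmonic T v hk ![c0, c1, c2] ?_ ?_ ?_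
  · intro p; fin_cases p <;> simpa
  · by_contra hcon
    push Not at hcon
    have g0 := hcon 0
    have g1 := hcon 1
    have g2 := hcon 2
    simp at g0 g1 g2
    omega
  · intro p hp
    have d : ∀ q, kk T (v q) (v q) = -2 := fun q => kk_minusTwo T (hv q)
    fin_cases p
    · have := r0 (by simpa using hp)
      simp [Fin.sum_univ_three, d]
      linarith
    · have := r1 (by simpa using hp)
      simp [Fin.sum_univ_three, d]
      linarith
    · have := r2 (by simpa using hp)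
      simp [Fin.sum_univ_three, d]
      linarith

/-- explicit row relation for `k = 3` -/
theorem mrow3 (v : Fin 3 ↪ Fin n) (p : Fin 3) :
    kk T (v p) (v 0) * T.m (v 0) + kk T (v p) (v 1) * T.m (v 1) + kk T (v p) (v 2) * T.m (v 2) ≤ 0 := by
  have := row_emb_le T v p
  simpa [Fin.sum_univ_three] using this

/-- explicit criterion for `k = 4` -/
theorem refute4 (v : Fin 4 ↪ Fin n) (hv : ∀ j, T.IsMinusTwo (v j)) (hk : 4 < n)
    (c0 c1 c2 c3 : ℤ)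
    (h0 : 0 ≤ c0) (h1 : 0 ≤ c1) (h2 : 0 ≤ c2) (h3 : 0 ≤ c3)
    (hpos : 0 < c0 + c1 + c2 + c3)
    (r0 : 0 < c0 → 2 * c0 ≤ kk T (v 0) (v 1) * c1 + kk T (v 0) (v 2) * c2 + kk T (v 0) (v 3) * c3)
    (r1 : 0 < c1 → 2 * c1 ≤ kk T (v 1) (v 0) * c0 + kk T (v 1) (v 2) * c2 + kk T (v 1) (v 3) * c3)
    (r2 : 0 < c2 → 2 * c2 ≤ kk T (v 2) (v 0) * c0 + kk T (v 2) (v 1) * c1 + kk T (v 2) (v 3) * c3)
    (r3 : 0 < c3 → 2 * c3 ≤ kk T (v 3) (v 0) * c0 + kk T (v 3) (v 1) * c1 + kk T (v 3) (v 2) * c2)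
    : False := by
  refine no_subharmonic T v hk ![c0, c1, c2, c3] ?_ ?_ ?_
  · intro p; fin_cases p <;> simpa
  · by_contra hcon
    push Not at hcon
    have g0 := hcon 0
    have g1 := hcon 1
    have g2 := hcon 2
    have g3 := hcon 3
    simp at g0 g1 g2 g3
    omega
  · intro p hp
    have d : ∀ q, kk T (v q) (v q) = -2 := fun q => kk_minusTwo T (hv q)
    fin_cases p
    · have := r0 (by simpa using hp)
      simp [Fin.sum_univ_four, d]
      linarith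
    · have := r1 (by simpa using hp)
      simp [Fin.sum_univ_four, d]
      linarith
    · have := r2 (by simpa using hp)
      simp [Fin.sum_univ_four, d]
      linarith
    · have := r3 (by simpa using hp)
      simp [Fin.sum_univ_four, d]
      linarith

/-- explicit row relation for `k = 4` -/
theorem mrow4 (v : Fin 4 ↪ Fin n) (p : Fin 4) :
    kk T (v p) (v 0) * T.m (v 0) + kk T (v p) (v 1) * T.m (v 1) + kk T (v p) (v 2) * T.m (v 2) + kk T (v p) (v 3) * T.m (v 3) ≤ 0 := by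
  have := row_emb_le T v p
  simpa [Fin.sum_univ_four] using this

/-- explicit criterion for `k = 5` -/
theorem refute5 (v : Fin 5 ↪ Fin n) (hv : ∀ j, T.IsMinusTwo (v j)) (hk : 5 < n)
    (c0 c1 c2 c3 c4 : ℤ)
    (h0 : 0 ≤ c0) (h1 : 0 ≤ c1) (h2 : 0 ≤ c2) (h3 : 0 ≤ c3) (h4 : 0 ≤ c4)
    (hpos : 0 < c0 + c1 + c2 + c3 + c4)
    (r0 : 0 < c0 → 2 * c0 ≤ kk T (v 0) (v 1) * c1 + kk T (v 0) (v 2) * c2 + kk T (v 0) (v 3) * c3 + kk T (v 0) (v 4) * c4)
    (r1 : 0 < c1 → 2 * c1 ≤ kk T (v 1) (v 0) * c0 + kk T (v 1) (v 2) * c2 + kk T (v 1) (v 3) * c3 + kk T (v 1) (v 4) * c4)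
    (r2 : 0 < c2 → 2 * c2 ≤ kk T (v 2) (v 0) * c0 + kk T (v 2) (v 1) * c1 + kk T (v 2) (v 3) * c3 + kk T (v 2) (v 4) * c4)
    (r3 : 0 < c3 → 2 * c3 ≤ kk T (v 3) (v 0) * c0 + kk T (v 3) (v 1) * c1 + kk T (v 3) (v 2) * c2 + kk T (v 3) (v 4) * c4)
    (r4 : 0 < c4 → 2 * c4 ≤ kk T (v 4) (v 0) * c0 + kk T (v 4) (v 1) * c1 + kk T (v 4) (v 2) * c2 + kk T (v 4) (v 3) * c3)
    : False := by
  refine no_subharmonic T v hk ![c0, c1, c2, c3, c4] ?_ ?_ ?_
  · intro p; fin_cases p <;> simpa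
  · by_contra hcon
    push Not at hcon
    have g0 := hcon 0
    have g1 := hcon 1
    have g2 := hcon 2
    have g3 := hcon 3
    have g4 := hcon 4
    simp at g0 g1 g2 g3 g4
    omega
  · intro p hp
    have d : ∀ q, kk T (v q) (v q) = -2 := fun q => kk_minusTwo T (hv q)
    fin_cases p
    · have := r0 (by simpa using hp)
      simp [Fin.sum_univ_five, d]
      linarith
    · have := r1 (by simpa using hp)
      simp [Fin.sum_univ_five, d]
      linarith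
    · have := r2 (by simpa using hp)
      simp [Fin.sum_univ_five, d]
      linarith
    · have := r3 (by simpa using hp)
      simp [Fin.sum_univ_five, d]
      linarith
    · have := r4 (by simpa using hp)
      simp [Fin.sum_univ_five, d]
      linarith

/-- explicit row relation for `k = 5` -/
theorem mrow5 (v : Fin 5 ↪ Fin n) (p : Fin 5) :
    kk T (v p) (v 0) * T.m (v 0) + kk T (v p) (v 1) * T.m (v 1) + kk T (v p) (v 2) * T.m (v 2) + kk T (v p) (v 3) * T.m (v 3) + kk T (v p) (v 4) * T.m (v 4) ≤ 0 := by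
  have := row_emb_le T v p
  simpa [Fin.sum_univ_five] using this

/-- explicit criterion for `k = 6` -/
theorem refute6 (v : Fin 6 ↪ Fin n) (hv : ∀ j, T.IsMinusTwo (v j)) (hk : 6 < n)
    (c0 c1 c2 c3 c4 c5 : ℤ)
    (h0 : 0 ≤ c0) (h1 : 0 ≤ c1) (h2 : 0 ≤ c2) (h3 : 0 ≤ c3) (h4 : 0 ≤ c4) (h5 : 0 ≤ c5)
    (hpos : 0 < c0 + c1 + c2 + c3 + c4 + c5)
    (r0 : 0 < c0 → 2 * c0 ≤ kk T (v 0) (v 1) * c1 + kk T (v 0) (v 2) * c2 + kk T (v 0) (v 3) * c3 + kk T (v 0) (v 4) * c4 + kk T (v 0) (v 5) * c5)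
    (r1 : 0 < c1 → 2 * c1 ≤ kk T (v 1) (v 0) * c0 + kk T (v 1) (v 2) * c2 + kk T (v 1) (v 3) * c3 + kk T (v 1) (v 4) * c4 + kk T (v 1) (v 5) * c5)
    (r2 : 0 < c2 → 2 * c2 ≤ kk T (v 2) (v 0) * c0 + kk T (v 2) (v 1) * c1 + kk T (v 2) (v 3) * c3 + kk T (v 2) (v 4) * c4 + kk T (v 2) (v 5) * c5)
    (r3 : 0 < c3 → 2 * c3 ≤ kk T (v 3) (v 0) * c0 + kk T (v 3) (v 1) * c1 + kk T (v 3) (v 2) * c2 + kk T (v 3) (v 4) * c4 + kk T (v 3) (v 5) * c5)
    (r4 : 0 < c4 → 2 * c4 ≤ kk T (v 4) (v 0) * c0 + kk T (v 4) (v 1) * c1 + kk T (v 4) (v 2) * c2 + kk T (v 4) (v 3) * c3 + kk T (v 4) (v 5) * c5)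
    (r5 : 0 < c5 → 2 * c5 ≤ kk T (v 5) (v 0) * c0 + kk T (v 5) (v 1) * c1 + kk T (v 5) (v 2) * c2 + kk T (v 5) (v 3) * c3 + kk T (v 5) (v 4) * c4)
    : False := by
  refine no_subharmonic T v hk ![c0, c1, c2, c3, c4, c5] ?_ ?_ ?_
  · intro p; fin_cases p <;> simpa
  · by_contra hcon
    push Not at hcon
    have g0 := hcon 0
    have g1 := hcon 1
    have g2 := hcon 2
    have g3 := hcon 3
    have g4 := hcon 4
    have g5 := hcon 5
    simp at g0 g1 g2 g3 g4 g5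
    omega
  · intro p hp
    have d : ∀ q, kk T (v q) (v q) = -2 := fun q => kk_minusTwo T (hv q)
    fin_cases p
    · have := r0 (by simpa using hp)
      simp [Fin.sum_univ_six, d]
      linarith
    · have := r1 (by simpa using hp)
      simp [Fin.sum_univ_six, d]
      linarith
    · have := r2 (by simpa using hp)
      simp [Fin.sum_univ_six, d]
      linarith
    · have := r3 (by simpa using hp)
      simp [Fin.sum_univ_six, d]
      linarith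
    · have := r4 (by simpa using hp)
      simp [Fin.sum_univ_six, d]
      linarith
    · have := r5 (by simpa using hp)
      simp [Fin.sum_univ_six, d]
      linarith

/-- explicit row relation for `k = 6` -/
theorem mrow6 (v : Fin 6 ↪ Fin n) (p : Fin 6) :
    kk T (v p) (v 0) * T.m (v 0) + kk T (v p) (v 1) * T.m (v 1) + kk T (v p) (v 2) * T.m (v 2) + kk T (v p) (v 3) * T.m (v 3) + kk T (v p) (v 4) * T.m (v 4) + kk T (v p) (v 5) * T.m (v 5) ≤ 0 := by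
  have := row_emb_le T v p
  simpa [Fin.sum_univ_six] using this

/-- explicit criterion for `k = 7` -/
theorem refute7 (v : Fin 7 ↪ Fin n) (hv : ∀ j, T.IsMinusTwo (v j)) (hk : 7 < n)
    (c0 c1 c2 c3 c4 c5 c6 : ℤ)
    (h0 : 0 ≤ c0) (h1 : 0 ≤ c1) (h2 : 0 ≤ c2) (h3 : 0 ≤ c3) (h4 : 0 ≤ c4) (h5 : 0 ≤ c5) (h6 : 0 ≤ c6)
    (hpos : 0 < c0 + c1 + c2 + c3 + c4 + c5 + c6)
    (r0 : 0 < c0 → 2 * c0 ≤ kk T (v 0) (v 1) * c1 + kk T (v 0) (v 2) * c2 + kk T (v 0) (v 3) * c3 + kk T (v 0) (v 4) * c4 + kk T (v 0) (v 5) * c5 + kk T (v 0) (v 6) * c6)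
    (r1 : 0 < c1 → 2 * c1 ≤ kk T (v 1) (v 0) * c0 + kk T (v 1) (v 2) * c2 + kk T (v 1) (v 3) * c3 + kk T (v 1) (v 4) * c4 + kk T (v 1) (v 5) * c5 + kk T (v 1) (v 6) * c6)
    (r2 : 0 < c2 → 2 * c2 ≤ kk T (v 2) (v 0) * c0 + kk T (v 2) (v 1) * c1 + kk T (v 2) (v 3) * c3 + kk T (v 2) (v 4) * c4 + kk T (v 2) (v 5) * c5 + kk T (v 2) (v 6) * c6)
    (r3 : 0 < c3 → 2 * c3 ≤ kk T (v 3) (v 0) * c0 + kk T (v 3) (v 1) * c1 + kk T (v 3) (v 2) * c2 + kk T (v 3) (v 4) * c4 + kk T (v 3) (v 5) * c5 + kk T (v 3) (v 6) * c6)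
    (r4 : 0 < c4 → 2 * c4 ≤ kk T (v 4) (v 0) * c0 + kk T (v 4) (v 1) * c1 + kk T (v 4) (v 2) * c2 + kk T (v 4) (v 3) * c3 + kk T (v 4) (v 5) * c5 + kk T (v 4) (v 6) * c6)
    (r5 : 0 < c5 → 2 * c5 ≤ kk T (v 5) (v 0) * c0 + kk T (v 5) (v 1) * c1 + kk T (v 5) (v 2) * c2 + kk T (v 5) (v 3) * c3 + kk T (v 5) (v 4) * c4 + kk T (v 5) (v 6) * c6)
    (r6 : 0 < c6 → 2 * c6 ≤ kk T (v 6) (v 0) * c0 + kk T (v 6) (v 1) * c1 + kk T (v 6) (v 2) * c2 + kk T (v 6) (v 3) * c3 + kk T (v 6) (v 4) * c4 + kk T (v 6) (v 5) * c5)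
    : False := by
  refine no_subharmonic T v hk ![c0, c1, c2, c3, c4, c5, c6] ?_ ?_ ?_
  · intro p; fin_cases p <;> simpa
  · by_contra hcon
    push Not at hcon
    have g0 := hcon 0
    have g1 := hcon 1
    have g2 := hcon 2
    have g3 := hcon 3
    have g4 := hcon 4
    have g5 := hcon 5
    have g6 := hcon 6
    simp at g0 g1 g2 g3 g4 g5 g6
    omega
  · intro p hp
    have d : ∀ q, kk T (v q) (v q) = -2 := fun q => kk_minusTwo T (hv q)
    fin_cases p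
    · have := r0 (by simpa using hp)
      simp [Fin.sum_univ_seven, d]
      linarith
    · have := r1 (by simpa using hp)
      simp [Fin.sum_univ_seven, d]
      linarith
    · have := r2 (by simpa using hp)
      simp [Fin.sum_univ_seven, d]
      linarith
    · have := r3 (by simpa using hp)
      simp [Fin.sum_univ_seven, d]
      linarith
    · have := r4 (by simpa using hp)
      simp [Fin.sum_univ_seven, d]
      linarith
    · have := r5 (by simpa using hp)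
      simp [Fin.sum_univ_seven, d]
      linarith
    · have := r6 (by simpa using hp)
      simp [Fin.sum_univ_seven, d]
      linarith

/-- explicit row relation for `k = 7` -/
theorem mrow7 (v : Fin 7 ↪ Fin n) (p : Fin 7) :
    kk T (v p) (v 0) * T.m (v 0) + kk T (v p) (v 1) * T.m (v 1) + kk T (v p) (v 2) * T.m (v 2) + kk T (v p) (v 3) * T.m (v 3) + kk T (v p) (v 4) * T.m (v 4) + kk T (v p) (v 5) * T.m (v 5) + kk T (v p) (v 6) * T.m (v 6) ≤ 0 := by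
  have := row_emb_le T v p
  simpa [Fin.sum_univ_seven] using this

/-- explicit criterion for `k = 8` -/
theorem refute8 (v : Fin 8 ↪ Fin n) (hv : ∀ j, T.IsMinusTwo (v j)) (hk : 8 < n)
    (c0 c1 c2 c3 c4 c5 c6 c7 : ℤ)
    (h0 : 0 ≤ c0) (h1 : 0 ≤ c1) (h2 : 0 ≤ c2) (h3 : 0 ≤ c3) (h4 : 0 ≤ c4) (h5 : 0 ≤ c5) (h6 : 0 ≤ c6) (h7 : 0 ≤ c7)
    (hpos : 0 < c0 + c1 + c2 + c3 + c4 + c5 + c6 + c7)
    (r0 : 0 < c0 → 2 * c0 ≤ kk T (v 0) (v 1) * c1 + kk T (v 0) (v 2) * c2 + kk T (v 0) (v 3) * c3 + kk T (v 0) (v 4) * c4 + kk T (v 0) (v 5) * c5 + kk T (v 0) (v 6) * c6 + kk T (v 0) (v 7) * c7)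
    (r1 : 0 < c1 → 2 * c1 ≤ kk T (v 1) (v 0) * c0 + kk T (v 1) (v 2) * c2 + kk T (v 1) (v 3) * c3 + kk T (v 1) (v 4) * c4 + kk T (v 1) (v 5) * c5 + kk T (v 1) (v 6) * c6 + kk T (v 1) (v 7) * c7)
    (r2 : 0 < c2 → 2 * c2 ≤ kk T (v 2) (v 0) * c0 + kk T (v 2) (v 1) * c1 + kk T (v 2) (v 3) * c3 + kk T (v 2) (v 4) * c4 + kk T (v 2) (v 5) * c5 + kk T (v 2) (v 6) * c6 + kk T (v 2) (v 7) * c7)
    (r3 : 0 < c3 → 2 * c3 ≤ kk T (v 3) (v 0) * c0 + kk T (v 3) (v 1) * c1 + kk T (v 3) (v 2) * c2 + kk T (v 3) (v 4) * c4 + kk T (v 3) (v 5) * c5 + kk T (v 3) (v 6) * c6 + kk T (v 3) (v 7) * c7)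
    (r4 : 0 < c4 → 2 * c4 ≤ kk T (v 4) (v 0) * c0 + kk T (v 4) (v 1) * c1 + kk T (v 4) (v 2) * c2 + kk T (v 4) (v 3) * c3 + kk T (v 4) (v 5) * c5 + kk T (v 4) (v 6) * c6 + kk T (v 4) (v 7) * c7)
    (r5 : 0 < c5 → 2 * c5 ≤ kk T (v 5) (v 0) * c0 + kk T (v 5) (v 1) * c1 + kk T (v 5) (v 2) * c2 + kk T (v 5) (v 3) * c3 + kk T (v 5) (v 4) * c4 + kk T (v 5) (v 6) * c6 + kk T (v 5) (v 7) * c7)
    (r6 : 0 < c6 → 2 * c6 ≤ kk T (v 6) (v 0) * c0 + kk T (v 6) (v 1) * c1 + kk T (v 6) (v 2) * c2 + kk T (v 6) (v 3) * c3 + kk T (v 6) (v 4) * c4 + kk T (v 6) (v 5) * c5 + kk T (v 6) (v 7) * c7)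
    (r7 : 0 < c7 → 2 * c7 ≤ kk T (v 7) (v 0) * c0 + kk T (v 7) (v 1) * c1 + kk T (v 7) (v 2) * c2 + kk T (v 7) (v 3) * c3 + kk T (v 7) (v 4) * c4 + kk T (v 7) (v 5) * c5 + kk T (v 7) (v 6) * c6)
    : False := by
  refine no_subharmonic T v hk ![c0, c1, c2, c3, c4, c5, c6, c7] ?_ ?_ ?_
  · intro p; fin_cases p <;> simpa
  · by_contra hcon
    push Not at hcon
    have g0 := hcon 0
    have g1 := hcon 1
    have g2 := hcon 2
    have g3 := hcon 3
    have g4 := hcon 4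
    have g5 := hcon 5
    have g6 := hcon 6
    have g7 := hcon 7
    simp at g0 g1 g2 g3 g4 g5 g6 g7
    omega
  · intro p hp
    have d : ∀ q, kk T (v q) (v q) = -2 := fun q => kk_minusTwo T (hv q)
    fin_cases p
    · have := r0 (by simpa using hp)
      simp [Fin.sum_univ_eight, d]
      linarith
    · have := r1 (by simpa using hp)
      simp [Fin.sum_univ_eight, d]
      linarith
    · have := r2 (by simpa using hp)
      simp [Fin.sum_univ_eight, d]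
      linarith
    · have := r3 (by simpa using hp)
      simp [Fin.sum_univ_eight, d]
      linarith
    · have := r4 (by simpa using hp)
      simp [Fin.sum_univ_eight, d]
      linarith
    · have := r5 (by simpa using hp)
      simp [Fin.sum_univ_eight, d]
      linarith
    · have := r6 (by simpa using hp)
      simp [Fin.sum_univ_eight, d]
      linarith
    · have := r7 (by simpa using hp)
      simp [Fin.sum_univ_eight, d]
      linarith

/-- explicit row relation for `k = 8` -/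
theorem mrow8 (v : Fin 8 ↪ Fin n) (p : Fin 8) :
    kk T (v p) (v 0) * T.m (v 0) + kk T (v p) (v 1) * T.m (v 1) + kk T (v p) (v 2) * T.m (v 2) + kk T (v p) (v 3) * T.m (v 3) + kk T (v p) (v 4) * T.m (v 4) + kk T (v p) (v 5) * T.m (v 5) + kk T (v p) (v 6) * T.m (v 6) + kk T (v p) (v 7) * T.m (v 7) ≤ 0 := by
  have := row_emb_le T v p
  simpa [Fin.sum_univ_eight] using this

/-- explicit criterion for `k = 9` -/
theorem refute9 (v : Fin 9 ↪ Fin n) (hv : ∀ j, T.IsMinusTwo (v j)) (hk : 9 < n)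
    (c0 c1 c2 c3 c4 c5 c6 c7 c8 : ℤ)
    (h0 : 0 ≤ c0) (h1 : 0 ≤ c1) (h2 : 0 ≤ c2) (h3 : 0 ≤ c3) (h4 : 0 ≤ c4) (h5 : 0 ≤ c5) (h6 : 0 ≤ c6) (h7 : 0 ≤ c7) (h8 : 0 ≤ c8)
    (hpos : 0 < c0 + c1 + c2 + c3 + c4 + c5 + c6 + c7 + c8)
    (r0 : 0 < c0 → 2 * c0 ≤ kk T (v 0) (v 1) * c1 + kk T (v 0) (v 2) * c2 + kk T (v 0) (v 3) * c3 + kk T (v 0) (v 4) * c4 + kk T (v 0) (v 5) * c5 + kk T (v 0) (v 6) * c6 + kk T (v 0) (v 7) * c7 + kk T (v 0) (v 8) * c8)
    (r1 : 0 < c1 → 2 * c1 ≤ kk T (v 1) (v 0) * c0 + kk T (v 1) (v 2) * c2 + kk T (v 1) (v 3) * c3 + kk T (v 1) (v 4) * c4 + kk T (v 1) (v 5) * c5 + kk T (v 1) (v 6) * c6 + kk T (v 1) (v 7) * c7 + kk T (v 1) (v 8) * c8)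
    (r2 : 0 < c2 → 2 * c2 ≤ kk T (v 2) (v 0) * c0 + kk T (v 2) (v 1) * c1 + kk T (v 2) (v 3) * c3 + kk T (v 2) (v 4) * c4 + kk T (v 2) (v 5) * c5 + kk T (v 2) (v 6) * c6 + kk T (v 2) (v 7) * c7 + kk T (v 2) (v 8) * c8)
    (r3 : 0 < c3 → 2 * c3 ≤ kk T (v 3) (v 0) * c0 + kk T (v 3) (v 1) * c1 + kk T (v 3) (v 2) * c2 + kk T (v 3) (v 4) * c4 + kk T (v 3) (v 5) * c5 + kk T (v 3) (v 6) * c6 + kk T (v 3) (v 7) * c7 + kk T (v 3) (v 8) * c8)
    (r4 : 0 < c4 → 2 * c4 ≤ kk T (v 4) (v 0) * c0 + kk T (v 4) (v 1) * c1 + kk T (v 4) (v 2) * c2 + kk T (v 4) (v 3) * c3 + kk T (v 4) (v 5) * c5 + kk T (v 4) (v 6) * c6 + kk T (v 4) (v 7) * c7 + kk T (v 4) (v 8) * c8)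
    (r5 : 0 < c5 → 2 * c5 ≤ kk T (v 5) (v 0) * c0 + kk T (v 5) (v 1) * c1 + kk T (v 5) (v 2) * c2 + kk T (v 5) (v 3) * c3 + kk T (v 5) (v 4) * c4 + kk T (v 5) (v 6) * c6 + kk T (v 5) (v 7) * c7 + kk T (v 5) (v 8) * c8)
    (r6 : 0 < c6 → 2 * c6 ≤ kk T (v 6) (v 0) * c0 + kk T (v 6) (v 1) * c1 + kk T (v 6) (v 2) * c2 + kk T (v 6) (v 3) * c3 + kk T (v 6) (v 4) * c4 + kk T (v 6) (v 5) * c5 + kk T (v 6) (v 7) * c7 + kk T (v 6) (v 8) * c8)
    (r7 : 0 < c7 → 2 * c7 ≤ kk T (v 7) (v 0) * c0 + kk T (v 7) (v 1) * c1 + kk T (v 7) (v 2) * c2 + kk T (v 7) (v 3) * c3 + kk T (v 7) (v 4) * c4 + kk T (v 7) (v 5) * c5 + kk T (v 7) (v 6) * c6 + kk T (v 7) (v 8) * c8)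
    (r8 : 0 < c8 → 2 * c8 ≤ kk T (v 8) (v 0) * c0 + kk T (v 8) (v 1) * c1 + kk T (v 8) (v 2) * c2 + kk T (v 8) (v 3) * c3 + kk T (v 8) (v 4) * c4 + kk T (v 8) (v 5) * c5 + kk T (v 8) (v 6) * c6 + kk T (v 8) (v 7) * c7)
    : False := by
  refine no_subharmonic T v hk ![c0, c1, c2, c3, c4, c5, c6, c7, c8] ?_ ?_ ?_
  · intro p; fin_cases p <;> simpa
  · by_contra hcon
    push Not at hcon
    have g0 := hcon 0
    have g1 := hcon 1
    have g2 := hcon 2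
    have g3 := hcon 3
    have g4 := hcon 4
    have g5 := hcon 5
    have g6 := hcon 6
    have g7 := hcon 7
    have g8 := hcon 8
    simp at g0 g1 g2 g3 g4 g5 g6 g7 g8
    omega
  · intro p hp
    have d : ∀ q, kk T (v q) (v q) = -2 := fun q => kk_minusTwo T (hv q)
    fin_cases p
    · have := r0 (by simpa using hp)
      simp [sum_univ_nine, d]
      linarith
    · have := r1 (by simpa using hp)
      simp [sum_univ_nine, d]
      linarith
    · have := r2 (by simpa using hp)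
      simp [sum_univ_nine, d]
      linarith
    · have := r3 (by simpa using hp)
      simp [sum_univ_nine, d]
      linarith
    · have := r4 (by simpa using hp)
      simp [sum_univ_nine, d]
      linarith
    · have := r5 (by simpa using hp)
      simp [sum_univ_nine, d]
      linarith
    · have := r6 (by simpa using hp)
      simp [sum_univ_nine, d]
      linarith
    · have := r7 (by simpa using hp)
      simp [sum_univ_nine, d]
      linarith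
    · have := r8 (by simpa using hp)
      simp [sum_univ_nine, d]
      linarith

/-- explicit row relation for `k = 9` -/
theorem mrow9 (v : Fin 9 ↪ Fin n) (p : Fin 9) :
    kk T (v p) (v 0) * T.m (v 0) + kk T (v p) (v 1) * T.m (v 1) + kk T (v p) (v 2) * T.m (v 2) + kk T (v p) (v 3) * T.m (v 3) + kk T (v p) (v 4) * T.m (v 4) + kk T (v p) (v 5) * T.m (v 5) + kk T (v p) (v 6) * T.m (v 6) + kk T (v p) (v 7) * T.m (v 7) + kk T (v p) (v 8) * T.m (v 8) ≤ 0 := by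
  have := row_emb_le T v p
  simpa [sum_univ_nine] using this

end Groth.Agent.Lib.Helper11
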