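import Groth.Agent.Lib.Helper11Cfg

/-!
Cartan-integer level facts for small configurations of `(-2)`-indices (generated certificates).
-/

namespace Groth.Agent.Lib.Helper11

open Finset Models

variable {n : ℕ} (T : Models.NumericalType n)


theorem chain3_K (v : Fin 3 ↪ Fin n) (hv : ∀ j, T.IsMinusTwo (v j)) (hn : 3 < n)
    (h01 : T.a (v 0) (v 1) ≠ 0) (h12 : T.a (v 1) (v 2) ≠ 0) :
    kk T (v 0) (v 2) = 0 ∧
    kk T (v 2) (v 0) = 0 ∧
    kk T (v 0) (v 1) ≤ 2 ∧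
    kk T (v 1) (v 0) ≤ 2 ∧
    kk T (v 1) (v 2) ≤ 2 ∧
    kk T (v 2) (v 1) ≤ 2 ∧
    ¬ (2 ≤ kk T (v 0) (v 1) ∧ 2 ≤ kk T (v 1) (v 0)) ∧
    ¬ (2 ≤ kk T (v 0) (v 1) ∧ 2 ≤ kk T (v 1) (v 2)) ∧
    ¬ (2 ≤ kk T (v 0) (v 1) ∧ 2 ≤ kk T (v 2) (v 1)) ∧
    ¬ (2 ≤ kk T (v 1) (v 0) ∧ 2 ≤ kk T (v 1) (v 2)) ∧
    ¬ (2 ≤ kk T (v 1) (v 0) ∧ 2 ≤ kk T (v 2) (v 1)) ∧
    ¬ (2 ≤ kk T (v 1) (v 2) ∧ 2 ≤ kk T (v 2) (v 1)) := by
  have e_0_1 : 1 ≤ kk T (v 0) (v 1) := K_pos T v (p := 0) (q := 1) (by decide) h01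
  have e_1_0 : 1 ≤ kk T (v 1) (v 0) := K_pos' T v (p := 0) (q := 1) (by decide) h01
  have e_1_2 : 1 ≤ kk T (v 1) (v 2) := K_pos T v (p := 1) (q := 2) (by decide) h12
  have e_2_1 : 1 ≤ kk T (v 2) (v 1) := K_pos' T v (p := 1) (q := 2) (by decide) h12
  have n_0_2 : 0 ≤ kk T (v 0) (v 2) := K_nonneg T v (p := 0) (q := 2) (by decide)
  have n_2_0 : 0 ≤ kk T (v 2) (v 0) := K_nonneg T v (p := 2) (q := 0) (by decide)
  have z_0_2 : kk T (v 0) (v 2) = 0 := by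
    by_contra hcon
    have h1 : 1 ≤ kk T (v 0) (v 2) := by omega
    have h2 : 1 ≤ kk T (v 2) (v 0) := K_symm_pos T v (p := 0) (q := 2) (by decide) h1
    exact refute3 T v hv hn 1 1 1 (by norm_num) (by norm_num) (by norm_num) (by norm_num) (fun _ => by omega) (fun _ => by omega) (fun _ => by omega)
  have z_2_0 : kk T (v 2) (v 0) = 0 := K_symm_zero T z_0_2
  have u_0_1 : kk T (v 0) (v 1) ≤ 2 := by
    by_contra hcon
    have hcon' : 3 ≤ kk T (v 0) (v 1) := by omega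
    exact refute3 T v hv hn 3 2 1 (by norm_num) (by norm_num) (by norm_num) (by norm_num) (fun _ => by omega) (fun _ => by omega) (fun _ => by omega)
  have u_1_0 : kk T (v 1) (v 0) ≤ 2 := by
    by_contra hcon
    have hcon' : 3 ≤ kk T (v 1) (v 0) := by omega
    exact refute3 T v hv hn 1 2 1 (by norm_num) (by norm_num) (by norm_num) (by norm_num) (fun _ => by omega) (fun _ => by omega) (fun _ => by omega)
  have u_1_2 : kk T (v 1) (v 2) ≤ 2 := by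
    by_contra hcon
    have hcon' : 3 ≤ kk T (v 1) (v 2) := by omega
    exact refute3 T v hv hn 1 2 1 (by norm_num) (by norm_num) (by norm_num) (by norm_num) (fun _ => by omega) (fun _ => by omega) (fun _ => by omega)
  have u_2_1 : kk T (v 2) (v 1) ≤ 2 := by
    by_contra hcon
    have hcon' : 3 ≤ kk T (v 2) (v 1) := by omega
    exact refute3 T v hv hn 1 2 3 (by norm_num) (by norm_num) (by norm_num) (by norm_num) (fun _ => by omega) (fun _ => by omega) (fun _ => by omega)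
  have b_0_1_1_0 : ¬ (2 ≤ kk T (v 0) (v 1) ∧ 2 ≤ kk T (v 1) (v 0)) := by
    rintro ⟨hc1, hc2⟩
    exact refute3 T v hv hn 1 1 0 (by norm_num) (by norm_num) (by norm_num) (by norm_num) (fun _ => by omega) (fun _ => by omega) (fun _ => by omega)
  have b_0_1_1_2 : ¬ (2 ≤ kk T (v 0) (v 1) ∧ 2 ≤ kk T (v 1) (v 2)) := by
    rintro ⟨hc1, hc2⟩
    exact refute3 T v hv hn 2 2 1 (by norm_num) (by norm_num) (by norm_num) (by norm_num) (fun _ => by omega) (fun _ => by omega) (fun _ => by omega)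
  have b_0_1_2_1 : ¬ (2 ≤ kk T (v 0) (v 1) ∧ 2 ≤ kk T (v 2) (v 1)) := by
    rintro ⟨hc1, hc2⟩
    exact refute3 T v hv hn 1 1 1 (by norm_num) (by norm_num) (by norm_num) (by norm_num) (fun _ => by omega) (fun _ => by omega) (fun _ => by omega)
  have b_1_0_1_2 : ¬ (2 ≤ kk T (v 1) (v 0) ∧ 2 ≤ kk T (v 1) (v 2)) := by
    rintro ⟨hc1, hc2⟩
    exact refute3 T v hv hn 1 2 1 (by norm_num) (by norm_num) (by norm_num) (by norm_num) (fun _ => by omega) (fun _ => by omega) (fun _ => by omega)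
  have b_1_0_2_1 : ¬ (2 ≤ kk T (v 1) (v 0) ∧ 2 ≤ kk T (v 2) (v 1)) := by
    rintro ⟨hc1, hc2⟩
    exact refute3 T v hv hn 1 2 2 (by norm_num) (by norm_num) (by norm_num) (by norm_num) (fun _ => by omega) (fun _ => by omega) (fun _ => by omega)
  have b_1_2_2_1 : ¬ (2 ≤ kk T (v 1) (v 2) ∧ 2 ≤ kk T (v 2) (v 1)) := by
    rintro ⟨hc1, hc2⟩
    exact refute3 T v hv hn 0 1 1 (by norm_num) (by norm_num) (by norm_num) (by norm_num) (fun _ => by omega) (fun _ => by omega) (fun _ => by omega)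
  exact ⟨z_0_2, z_2_0, u_0_1, u_1_0, u_1_2, u_2_1, b_0_1_1_0, b_0_1_1_2, b_0_1_2_1, b_1_0_1_2, b_1_0_2_1, b_1_2_2_1⟩

theorem chain4_K (v : Fin 4 ↪ Fin n) (hv : ∀ j, T.IsMinusTwo (v j)) (hn : 4 < n)
    (h01 : T.a (v 0) (v 1) ≠ 0) (h12 : T.a (v 1) (v 2) ≠ 0) (h23 : T.a (v 2) (v 3) ≠ 0) :
    kk T (v 0) (v 2) = 0 ∧
    kk T (v 2) (v 0) = 0 ∧
    kk T (v 0) (v 3) = 0 ∧
    kk T (v 3) (v 0) = 0 ∧
    kk T (v 1) (v 3) = 0 ∧
    kk T (v 3) (v 1) = 0 ∧
    kk T (v 0) (v 1) ≤ 2 ∧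
    kk T (v 1) (v 0) ≤ 2 ∧
    kk T (v 1) (v 2) ≤ 2 ∧
    kk T (v 2) (v 1) ≤ 2 ∧
    kk T (v 2) (v 3) ≤ 2 ∧
    kk T (v 3) (v 2) ≤ 2 ∧
    ¬ (2 ≤ kk T (v 0) (v 1) ∧ 2 ≤ kk T (v 1) (v 0)) ∧
    ¬ (2 ≤ kk T (v 0) (v 1) ∧ 2 ≤ kk T (v 1) (v 2)) ∧
    ¬ (2 ≤ kk T (v 0) (v 1) ∧ 2 ≤ kk T (v 2) (v 1)) ∧
    ¬ (2 ≤ kk T (v 0) (v 1) ∧ 2 ≤ kk T (v 2) (v 3)) ∧
    ¬ (2 ≤ kk T (v 0) (v 1) ∧ 2 ≤ kk T (v 3) (v 2)) ∧
    ¬ (2 ≤ kk T (v 1) (v 0) ∧ 2 ≤ kk T (v 1) (v 2)) ∧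
    ¬ (2 ≤ kk T (v 1) (v 0) ∧ 2 ≤ kk T (v 2) (v 1)) ∧
    ¬ (2 ≤ kk T (v 1) (v 0) ∧ 2 ≤ kk T (v 2) (v 3)) ∧
    ¬ (2 ≤ kk T (v 1) (v 0) ∧ 2 ≤ kk T (v 3) (v 2)) ∧
    ¬ (2 ≤ kk T (v 1) (v 2) ∧ 2 ≤ kk T (v 2) (v 1)) ∧
    ¬ (2 ≤ kk T (v 1) (v 2) ∧ 2 ≤ kk T (v 2) (v 3)) ∧
    ¬ (2 ≤ kk T (v 1) (v 2) ∧ 2 ≤ kk T (v 3) (v 2)) ∧
    ¬ (2 ≤ kk T (v 2) (v 1) ∧ 2 ≤ kk T (v 2) (v 3)) ∧
    ¬ (2 ≤ kk T (v 2) (v 1) ∧ 2 ≤ kk T (v 3) (v 2)) ∧
    ¬ (2 ≤ kk T (v 2) (v 3) ∧ 2 ≤ kk T (v 3) (v 2)) := by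
  have e_0_1 : 1 ≤ kk T (v 0) (v 1) := K_pos T v (p := 0) (q := 1) (by decide) h01
  have e_1_0 : 1 ≤ kk T (v 1) (v 0) := K_pos' T v (p := 0) (q := 1) (by decide) h01
  have e_1_2 : 1 ≤ kk T (v 1) (v 2) := K_pos T v (p := 1) (q := 2) (by decide) h12
  have e_2_1 : 1 ≤ kk T (v 2) (v 1) := K_pos' T v (p := 1) (q := 2) (by decide) h12
  have e_2_3 : 1 ≤ kk T (v 2) (v 3) := K_pos T v (p := 2) (q := 3) (by decide) h23
  have e_3_2 : 1 ≤ kk T (v 3) (v 2) := K_pos' T v (p := 2) (q := 3) (by decide) h23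
  have n_0_2 : 0 ≤ kk T (v 0) (v 2) := K_nonneg T v (p := 0) (q := 2) (by decide)
  have n_0_3 : 0 ≤ kk T (v 0) (v 3) := K_nonneg T v (p := 0) (q := 3) (by decide)
  have n_1_3 : 0 ≤ kk T (v 1) (v 3) := K_nonneg T v (p := 1) (q := 3) (by decide)
  have n_2_0 : 0 ≤ kk T (v 2) (v 0) := K_nonneg T v (p := 2) (q := 0) (by decide)
  have n_3_0 : 0 ≤ kk T (v 3) (v 0) := K_nonneg T v (p := 3) (q := 0) (by decide)
  have n_3_1 : 0 ≤ kk T (v 3) (v 1) := K_nonneg T v (p := 3) (q := 1) (by decide)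
  have z_0_2 : kk T (v 0) (v 2) = 0 := by
    by_contra hcon
    have h1 : 1 ≤ kk T (v 0) (v 2) := by omega
    have h2 : 1 ≤ kk T (v 2) (v 0) := K_symm_pos T v (p := 0) (q := 2) (by decide) h1
    exact refute4 T v hv hn 1 1 1 0 (by norm_num) (by norm_num) (by norm_num) (by norm_num) (by norm_num) (fun _ => by omega) (fun _ => by omega) (fun _ => by omega) (fun _ => by omega)
  have z_2_0 : kk T (v 2) (v 0) = 0 := K_symm_zero T z_0_2
  have z_0_3 : kk T (v 0) (v 3) = 0 := by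
    by_contra hcon
    have h1 : 1 ≤ kk T (v 0) (v 3) := by omega
    have h2 : 1 ≤ kk T (v 3) (v 0) := K_symm_pos T v (p := 0) (q := 3) (by decide) h1
    exact refute4 T v hv hn 1 1 1 1 (by norm_num) (by norm_num) (by norm_num) (by norm_num) (by norm_num) (fun _ => by omega) (fun _ => by omega) (fun _ => by omega) (fun _ => by omega)
  have z_3_0 : kk T (v 3) (v 0) = 0 := K_symm_zero T z_0_3
  have z_1_3 : kk T (v 1) (v 3) = 0 := by
    by_contra hcon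
    have h1 : 1 ≤ kk T (v 1) (v 3) := by omega
    have h2 : 1 ≤ kk T (v 3) (v 1) := K_symm_pos T v (p := 1) (q := 3) (by decide) h1
    exact refute4 T v hv hn 0 1 1 1 (by norm_num) (by norm_num) (by norm_num) (by norm_num) (by norm_num) (fun _ => by omega) (fun _ => by omega) (fun _ => by omega) (fun _ => by omega)
  have z_3_1 : kk T (v 3) (v 1) = 0 := K_symm_zero T z_1_3
  have u_0_1 : kk T (v 0) (v 1) ≤ 2 := by
    by_contra hcon
    have hcon' : 3 ≤ kk T (v 0) (v 1) := by omega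
    exact refute4 T v hv hn 3 2 1 0 (by norm_num) (by norm_num) (by norm_num) (by norm_num) (by norm_num) (fun _ => by omega) (fun _ => by omega) (fun _ => by omega) (fun _ => by omega)
  have u_1_0 : kk T (v 1) (v 0) ≤ 2 := by
    by_contra hcon
    have hcon' : 3 ≤ kk T (v 1) (v 0) := by omega
    exact refute4 T v hv hn 1 2 1 0 (by norm_num) (by norm_num) (by norm_num) (by norm_num) (by norm_num) (fun _ => by omega) (fun _ => by omega) (fun _ => by omega) (fun _ => by omega)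
  have u_1_2 : kk T (v 1) (v 2) ≤ 2 := by
    by_contra hcon
    have hcon' : 3 ≤ kk T (v 1) (v 2) := by omega
    exact refute4 T v hv hn 1 2 1 0 (by norm_num) (by norm_num) (by norm_num) (by norm_num) (by norm_num) (fun _ => by omega) (fun _ => by omega) (fun _ => by omega) (fun _ => by omega)
  have u_2_1 : kk T (v 2) (v 1) ≤ 2 := by
    by_contra hcon
    have hcon' : 3 ≤ kk T (v 2) (v 1) := by omega
    exact refute4 T v hv hn 0 1 2 1 (by norm_num) (by norm_num) (by norm_num) (by norm_num) (by norm_num) (fun _ => by omega) (fun _ => by omega) (fun _ => by omega) (fun _ => by omega)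
  have u_2_3 : kk T (v 2) (v 3) ≤ 2 := by
    by_contra hcon
    have hcon' : 3 ≤ kk T (v 2) (v 3) := by omega
    exact refute4 T v hv hn 0 1 2 1 (by norm_num) (by norm_num) (by norm_num) (by norm_num) (by norm_num) (fun _ => by omega) (fun _ => by omega) (fun _ => by omega) (fun _ => by omega)
  have u_3_2 : kk T (v 3) (v 2) ≤ 2 := by
    by_contra hcon
    have hcon' : 3 ≤ kk T (v 3) (v 2) := by omega
    exact refute4 T v hv hn 0 1 2 3 (by norm_num) (by norm_num) (by norm_num) (by norm_num) (by norm_num) (fun _ => by omega) (fun _ => by omega) (fun _ => by omega) (fun _ => by omega)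
  have b_0_1_1_0 : ¬ (2 ≤ kk T (v 0) (v 1) ∧ 2 ≤ kk T (v 1) (v 0)) := by
    rintro ⟨hc1, hc2⟩
    exact refute4 T v hv hn 1 1 0 0 (by norm_num) (by norm_num) (by norm_num) (by norm_num) (by norm_num) (fun _ => by omega) (fun _ => by omega) (fun _ => by omega) (fun _ => by omega)
  have b_0_1_1_2 : ¬ (2 ≤ kk T (v 0) (v 1) ∧ 2 ≤ kk T (v 1) (v 2)) := by
    rintro ⟨hc1, hc2⟩
    exact refute4 T v hv hn 2 2 1 0 (by norm_num) (by norm_num) (by norm_num) (by norm_num) (by norm_num) (fun _ => by omega) (fun _ => by omega) (fun _ => by omega) (fun _ => by omega)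
  have b_0_1_2_1 : ¬ (2 ≤ kk T (v 0) (v 1) ∧ 2 ≤ kk T (v 2) (v 1)) := by
    rintro ⟨hc1, hc2⟩
    exact refute4 T v hv hn 1 1 1 0 (by norm_num) (by norm_num) (by norm_num) (by norm_num) (by norm_num) (fun _ => by omega) (fun _ => by omega) (fun _ => by omega) (fun _ => by omega)
  have b_0_1_2_3 : ¬ (2 ≤ kk T (v 0) (v 1) ∧ 2 ≤ kk T (v 2) (v 3)) := by
    rintro ⟨hc1, hc2⟩
    exact refute4 T v hv hn 2 2 2 1 (by norm_num) (by norm_num) (by norm_num) (by norm_num) (by norm_num) (fun _ => by omega) (fun _ => by omega) (fun _ => by omega) (fun _ => by omega)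
  have b_0_1_3_2 : ¬ (2 ≤ kk T (v 0) (v 1) ∧ 2 ≤ kk T (v 3) (v 2)) := by
    rintro ⟨hc1, hc2⟩
    exact refute4 T v hv hn 1 1 1 1 (by norm_num) (by norm_num) (by norm_num) (by norm_num) (by norm_num) (fun _ => by omega) (fun _ => by omega) (fun _ => by omega) (fun _ => by omega)
  have b_1_0_1_2 : ¬ (2 ≤ kk T (v 1) (v 0) ∧ 2 ≤ kk T (v 1) (v 2)) := by
    rintro ⟨hc1, hc2⟩
    exact refute4 T v hv hn 1 2 1 0 (by norm_num) (by norm_num) (by norm_num) (by norm_num) (by norm_num) (fun _ => by omega) (fun _ => by omega) (fun _ => by omega) (fun _ => by omega)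
  have b_1_0_2_1 : ¬ (2 ≤ kk T (v 1) (v 0) ∧ 2 ≤ kk T (v 2) (v 1)) := by
    rintro ⟨hc1, hc2⟩
    exact refute4 T v hv hn 1 2 2 0 (by norm_num) (by norm_num) (by norm_num) (by norm_num) (by norm_num) (fun _ => by omega) (fun _ => by omega) (fun _ => by omega) (fun _ => by omega)
  have b_1_0_2_3 : ¬ (2 ≤ kk T (v 1) (v 0) ∧ 2 ≤ kk T (v 2) (v 3)) := by
    rintro ⟨hc1, hc2⟩
    exact refute4 T v hv hn 1 2 2 1 (by norm_num) (by norm_num) (by norm_num) (by norm_num) (by norm_num) (fun _ => by omega) (fun _ => by omega) (fun _ => by omega) (fun _ => by omega)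
  have b_1_0_3_2 : ¬ (2 ≤ kk T (v 1) (v 0) ∧ 2 ≤ kk T (v 3) (v 2)) := by
    rintro ⟨hc1, hc2⟩
    exact refute4 T v hv hn 1 2 2 2 (by norm_num) (by norm_num) (by norm_num) (by norm_num) (by norm_num) (fun _ => by omega) (fun _ => by omega) (fun _ => by omega) (fun _ => by omega)
  have b_1_2_2_1 : ¬ (2 ≤ kk T (v 1) (v 2) ∧ 2 ≤ kk T (v 2) (v 1)) := by
    rintro ⟨hc1, hc2⟩
    exact refute4 T v hv hn 0 1 1 0 (by norm_num) (by norm_num) (by norm_num) (by norm_num) (by norm_num) (fun _ => by omega) (fun _ => by omega) (fun _ => by omega) (fun _ => by omega)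
  have b_1_2_2_3 : ¬ (2 ≤ kk T (v 1) (v 2) ∧ 2 ≤ kk T (v 2) (v 3)) := by
    rintro ⟨hc1, hc2⟩
    exact refute4 T v hv hn 0 2 2 1 (by norm_num) (by norm_num) (by norm_num) (by norm_num) (by norm_num) (fun _ => by omega) (fun _ => by omega) (fun _ => by omega) (fun _ => by omega)
  have b_1_2_3_2 : ¬ (2 ≤ kk T (v 1) (v 2) ∧ 2 ≤ kk T (v 3) (v 2)) := by
    rintro ⟨hc1, hc2⟩
    exact refute4 T v hv hn 0 1 1 1 (by norm_num) (by norm_num) (by norm_num) (by norm_num) (by norm_num) (fun _ => by omega) (fun _ => by omega) (fun _ => by omega) (fun _ => by omega)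
  have b_2_1_2_3 : ¬ (2 ≤ kk T (v 2) (v 1) ∧ 2 ≤ kk T (v 2) (v 3)) := by
    rintro ⟨hc1, hc2⟩
    exact refute4 T v hv hn 0 1 2 1 (by norm_num) (by norm_num) (by norm_num) (by norm_num) (by norm_num) (fun _ => by omega) (fun _ => by omega) (fun _ => by omega) (fun _ => by omega)
  have b_2_1_3_2 : ¬ (2 ≤ kk T (v 2) (v 1) ∧ 2 ≤ kk T (v 3) (v 2)) := by
    rintro ⟨hc1, hc2⟩
    exact refute4 T v hv hn 0 1 2 2 (by norm_num) (by norm_num) (by norm_num) (by norm_num) (by norm_num) (fun _ => by omega) (fun _ => by omega) (fun _ => by omega) (fun _ => by omega)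
  have b_2_3_3_2 : ¬ (2 ≤ kk T (v 2) (v 3) ∧ 2 ≤ kk T (v 3) (v 2)) := by
    rintro ⟨hc1, hc2⟩
    exact refute4 T v hv hn 0 0 1 1 (by norm_num) (by norm_num) (by norm_num) (by norm_num) (by norm_num) (fun _ => by omega) (fun _ => by omega) (fun _ => by omega) (fun _ => by omega)
  exact ⟨z_0_2, z_2_0, z_0_3, z_3_0, z_1_3, z_3_1, u_0_1, u_1_0, u_1_2, u_2_1, u_2_3, u_3_2, b_0_1_1_0, b_0_1_1_2, b_0_1_2_1, b_0_1_2_3, b_0_1_3_2, b_1_0_1_2, b_1_0_2_1, b_1_0_2_3, b_1_0_3_2, b_1_2_2_1, b_1_2_2_3, b_1_2_3_2, b_2_1_2_3, b_2_1_3_2, b_2_3_3_2⟩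

theorem chain5_K (v : Fin 5 ↪ Fin n) (hv : ∀ j, T.IsMinusTwo (v j)) (hn : 5 < n)
    (h01 : T.a (v 0) (v 1) ≠ 0) (h12 : T.a (v 1) (v 2) ≠ 0) (h23 : T.a (v 2) (v 3) ≠ 0) (h34 : T.a (v 3) (v 4) ≠ 0) :
    kk T (v 1) (v 2) ≤ 1 ∧
    kk T (v 2) (v 1) ≤ 1 ∧
    kk T (v 2) (v 3) ≤ 1 ∧
    kk T (v 3) (v 2) ≤ 1 := by
  have e_0_1 : 1 ≤ kk T (v 0) (v 1) := K_pos T v (p := 0) (q := 1) (by decide) h01
  have e_1_0 : 1 ≤ kk T (v 1) (v 0) := K_pos' T v (p := 0) (q := 1) (by decide) h01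
  have e_1_2 : 1 ≤ kk T (v 1) (v 2) := K_pos T v (p := 1) (q := 2) (by decide) h12
  have e_2_1 : 1 ≤ kk T (v 2) (v 1) := K_pos' T v (p := 1) (q := 2) (by decide) h12
  have e_2_3 : 1 ≤ kk T (v 2) (v 3) := K_pos T v (p := 2) (q := 3) (by decide) h23
  have e_3_2 : 1 ≤ kk T (v 3) (v 2) := K_pos' T v (p := 2) (q := 3) (by decide) h23
  have e_3_4 : 1 ≤ kk T (v 3) (v 4) := K_pos T v (p := 3) (q := 4) (by decide) h34
  have e_4_3 : 1 ≤ kk T (v 4) (v 3) := K_pos' T v (p := 3) (q := 4) (by decide) h34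
  have n_0_2 : 0 ≤ kk T (v 0) (v 2) := K_nonneg T v (p := 0) (q := 2) (by decide)
  have n_0_3 : 0 ≤ kk T (v 0) (v 3) := K_nonneg T v (p := 0) (q := 3) (by decide)
  have n_0_4 : 0 ≤ kk T (v 0) (v 4) := K_nonneg T v (p := 0) (q := 4) (by decide)
  have n_1_3 : 0 ≤ kk T (v 1) (v 3) := K_nonneg T v (p := 1) (q := 3) (by decide)
  have n_1_4 : 0 ≤ kk T (v 1) (v 4) := K_nonneg T v (p := 1) (q := 4) (by decide)
  have n_2_0 : 0 ≤ kk T (v 2) (v 0) := K_nonneg T v (p := 2) (q := 0) (by decide)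
  have n_2_4 : 0 ≤ kk T (v 2) (v 4) := K_nonneg T v (p := 2) (q := 4) (by decide)
  have n_3_0 : 0 ≤ kk T (v 3) (v 0) := K_nonneg T v (p := 3) (q := 0) (by decide)
  have n_3_1 : 0 ≤ kk T (v 3) (v 1) := K_nonneg T v (p := 3) (q := 1) (by decide)
  have n_4_0 : 0 ≤ kk T (v 4) (v 0) := K_nonneg T v (p := 4) (q := 0) (by decide)
  have n_4_1 : 0 ≤ kk T (v 4) (v 1) := K_nonneg T v (p := 4) (q := 1) (by decide)
  have n_4_2 : 0 ≤ kk T (v 4) (v 2) := K_nonneg T v (p := 4) (q := 2) (by decide)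
  have u_1_2 : kk T (v 1) (v 2) ≤ 1 := by
    by_contra hcon
    have hcon' : 2 ≤ kk T (v 1) (v 2) := by omega
    exact refute5 T v hv hn 2 4 3 2 1 (by norm_num) (by norm_num) (by norm_num) (by norm_num) (by norm_num) (by norm_num) (fun _ => by omega) (fun _ => by omega) (fun _ => by omega) (fun _ => by omega) (fun _ => by omega)
  have u_2_1 : kk T (v 2) (v 1) ≤ 1 := by
    by_contra hcon
    have hcon' : 2 ≤ kk T (v 2) (v 1) := by omega
    exact refute5 T v hv hn 1 2 3 2 1 (by norm_num) (by norm_num) (by norm_num) (by norm_num) (by norm_num) (by norm_num) (fun _ => by omega) (fun _ => by omega) (fun _ => by omega) (fun _ => by omega) (fun _ => by omega)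
  have u_2_3 : kk T (v 2) (v 3) ≤ 1 := by
    by_contra hcon
    have hcon' : 2 ≤ kk T (v 2) (v 3) := by omega
    exact refute5 T v hv hn 1 2 3 2 1 (by norm_num) (by norm_num) (by norm_num) (by norm_num) (by norm_num) (by norm_num) (fun _ => by omega) (fun _ => by omega) (fun _ => by omega) (fun _ => by omega) (fun _ => by omega)
  have u_3_2 : kk T (v 3) (v 2) ≤ 1 := by
    by_contra hcon
    have hcon' : 2 ≤ kk T (v 3) (v 2) := by omega
    exact refute5 T v hv hn 1 2 3 4 2 (by norm_num) (by norm_num) (by norm_num) (by norm_num) (by norm_num) (by norm_num) (fun _ => by omega) (fun _ => by omega) (fun _ => by omega) (fun _ => by omega) (fun _ => by omega)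
  exact ⟨u_1_2, u_2_1, u_2_3, u_3_2⟩

theorem D4_K (v : Fin 4 ↪ Fin n) (hv : ∀ j, T.IsMinusTwo (v j)) (hn : 4 < n)
    (h01 : T.a (v 0) (v 1) ≠ 0) (h02 : T.a (v 0) (v 2) ≠ 0) (h03 : T.a (v 0) (v 3) ≠ 0) :
    kk T (v 1) (v 2) = 0 ∧
    kk T (v 2) (v 1) = 0 ∧
    kk T (v 1) (v 3) = 0 ∧
    kk T (v 3) (v 1) = 0 ∧
    kk T (v 2) (v 3) = 0 ∧
    kk T (v 3) (v 2) = 0 ∧
    kk T (v 0) (v 1) ≤ 1 ∧
    kk T (v 1) (v 0) ≤ 1 ∧
    kk T (v 0) (v 2) ≤ 1 ∧
    kk T (v 2) (v 0) ≤ 1 ∧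
    kk T (v 0) (v 3) ≤ 1 ∧
    kk T (v 3) (v 0) ≤ 1 := by
  have e_0_1 : 1 ≤ kk T (v 0) (v 1) := K_pos T v (p := 0) (q := 1) (by decide) h01
  have e_1_0 : 1 ≤ kk T (v 1) (v 0) := K_pos' T v (p := 0) (q := 1) (by decide) h01
  have e_0_2 : 1 ≤ kk T (v 0) (v 2) := K_pos T v (p := 0) (q := 2) (by decide) h02
  have e_2_0 : 1 ≤ kk T (v 2) (v 0) := K_pos' T v (p := 0) (q := 2) (by decide) h02
  have e_0_3 : 1 ≤ kk T (v 0) (v 3) := K_pos T v (p := 0) (q := 3) (by decide) h03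
  have e_3_0 : 1 ≤ kk T (v 3) (v 0) := K_pos' T v (p := 0) (q := 3) (by decide) h03
  have n_1_2 : 0 ≤ kk T (v 1) (v 2) := K_nonneg T v (p := 1) (q := 2) (by decide)
  have n_1_3 : 0 ≤ kk T (v 1) (v 3) := K_nonneg T v (p := 1) (q := 3) (by decide)
  have n_2_1 : 0 ≤ kk T (v 2) (v 1) := K_nonneg T v (p := 2) (q := 1) (by decide)
  have n_2_3 : 0 ≤ kk T (v 2) (v 3) := K_nonneg T v (p := 2) (q := 3) (by decide)
  have n_3_1 : 0 ≤ kk T (v 3) (v 1) := K_nonneg T v (p := 3) (q := 1) (by decide)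
  have n_3_2 : 0 ≤ kk T (v 3) (v 2) := K_nonneg T v (p := 3) (q := 2) (by decide)
  have z_1_2 : kk T (v 1) (v 2) = 0 := by
    by_contra hcon
    have h1 : 1 ≤ kk T (v 1) (v 2) := by omega
    have h2 : 1 ≤ kk T (v 2) (v 1) := K_symm_pos T v (p := 1) (q := 2) (by decide) h1
    exact refute4 T v hv hn 1 1 1 0 (by norm_num) (by norm_num) (by norm_num) (by norm_num) (by norm_num) (fun _ => by omega) (fun _ => by omega) (fun _ => by omega) (fun _ => by omega)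
  have z_2_1 : kk T (v 2) (v 1) = 0 := K_symm_zero T z_1_2
  have z_1_3 : kk T (v 1) (v 3) = 0 := by
    by_contra hcon
    have h1 : 1 ≤ kk T (v 1) (v 3) := by omega
    have h2 : 1 ≤ kk T (v 3) (v 1) := K_symm_pos T v (p := 1) (q := 3) (by decide) h1
    exact refute4 T v hv hn 1 1 0 1 (by norm_num) (by norm_num) (by norm_num) (by norm_num) (by norm_num) (fun _ => by omega) (fun _ => by omega) (fun _ => by omega) (fun _ => by omega)
  have z_3_1 : kk T (v 3) (v 1) = 0 := K_symm_zero T z_1_3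
  have z_2_3 : kk T (v 2) (v 3) = 0 := by
    by_contra hcon
    have h1 : 1 ≤ kk T (v 2) (v 3) := by omega
    have h2 : 1 ≤ kk T (v 3) (v 2) := K_symm_pos T v (p := 2) (q := 3) (by decide) h1
    exact refute4 T v hv hn 1 0 1 1 (by norm_num) (by norm_num) (by norm_num) (by norm_num) (by norm_num) (fun _ => by omega) (fun _ => by omega) (fun _ => by omega) (fun _ => by omega)
  have z_3_2 : kk T (v 3) (v 2) = 0 := K_symm_zero T z_2_3
  have u_0_1 : kk T (v 0) (v 1) ≤ 1 := by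
    by_contra hcon
    have hcon' : 2 ≤ kk T (v 0) (v 1) := by omega
    exact refute4 T v hv hn 2 1 1 1 (by norm_num) (by norm_num) (by norm_num) (by norm_num) (by norm_num) (fun _ => by omega) (fun _ => by omega) (fun _ => by omega) (fun _ => by omega)
  have u_1_0 : kk T (v 1) (v 0) ≤ 1 := by
    by_contra hcon
    have hcon' : 2 ≤ kk T (v 1) (v 0) := by omega
    exact refute4 T v hv hn 2 2 1 1 (by norm_num) (by norm_num) (by norm_num) (by norm_num) (by norm_num) (fun _ => by omega) (fun _ => by omega) (fun _ => by omega) (fun _ => by omega)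
  have u_0_2 : kk T (v 0) (v 2) ≤ 1 := by
    by_contra hcon
    have hcon' : 2 ≤ kk T (v 0) (v 2) := by omega
    exact refute4 T v hv hn 2 1 1 1 (by norm_num) (by norm_num) (by norm_num) (by norm_num) (by norm_num) (fun _ => by omega) (fun _ => by omega) (fun _ => by omega) (fun _ => by omega)
  have u_2_0 : kk T (v 2) (v 0) ≤ 1 := by
    by_contra hcon
    have hcon' : 2 ≤ kk T (v 2) (v 0) := by omega
    exact refute4 T v hv hn 2 1 2 1 (by norm_num) (by norm_num) (by norm_num) (by norm_num) (by norm_num) (fun _ => by omega) (fun _ => by omega) (fun _ => by omega) (fun _ => by omega)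
  have u_0_3 : kk T (v 0) (v 3) ≤ 1 := by
    by_contra hcon
    have hcon' : 2 ≤ kk T (v 0) (v 3) := by omega
    exact refute4 T v hv hn 2 1 1 1 (by norm_num) (by norm_num) (by norm_num) (by norm_num) (by norm_num) (fun _ => by omega) (fun _ => by omega) (fun _ => by omega) (fun _ => by omega)
  have u_3_0 : kk T (v 3) (v 0) ≤ 1 := by
    by_contra hcon
    have hcon' : 2 ≤ kk T (v 3) (v 0) := by omega
    exact refute4 T v hv hn 2 1 1 2 (by norm_num) (by norm_num) (by norm_num) (by norm_num) (by norm_num) (fun _ => by omega) (fun _ => by omega) (fun _ => by omega) (fun _ => by omega)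
  exact ⟨z_1_2, z_2_1, z_1_3, z_3_1, z_2_3, z_3_2, u_0_1, u_1_0, u_0_2, u_2_0, u_0_3, u_3_0⟩

end Groth.Agent.Lib.Helper11
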