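import Groth.Agent.Lib.Helper11Gen
import Groth.Agent.Lib.Helper11Small

/-!
Chains of `(-2)`-indices of arbitrary length inside an embedded configuration.
-/

namespace Groth.Agent.Lib.Helper11

open Finset Models

variable {n : ℕ} (T : Models.NumericalType n)

theorem exists_fin {t : ℕ} (a : ℕ) (h : a < t) : ∃ r : Fin t, r.val = a := ⟨⟨a, h⟩, rfl⟩

theorem fin_ne {t : ℕ} {p q : Fin t} (h : p.val ≠ q.val) : p ≠ q := fun h' => h (by rw [h'])

/-- The cycle lemma: no nonempty set of `(-2)`-indices (inside a proper subset) in which every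
member has two distinct neighbours in the set. -/
theorem no_two_neighbors {k : ℕ} (v : Fin k ↪ Fin n) (hv : ∀ j, T.IsMinusTwo (v j)) (hk : k < n)
    (S : Finset (Fin k)) (hS : S.Nonempty)
    (h : ∀ p ∈ S, ∃ q1 ∈ S, ∃ q2 ∈ S, p ≠ q1 ∧ p ≠ q2 ∧ q1 ≠ q2 ∧
      1 ≤ kk T (v p) (v q1) ∧ 1 ≤ kk T (v p) (v q2)) : False := by
  let c : Fin k → ℤ := fun p => if p ∈ S then 1 else 0
  have hc1 : ∀ p, p ∈ S → c p = 1 := fun p hp => if_pos hp
  have hc0' : ∀ p, p ∉ S → c p = 0 := fun p hp => if_neg hp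
  have hc0 : ∀ p, 0 ≤ c p := by
    intro p
    by_cases hp : p ∈ S
    · rw [hc1 p hp]; norm_num
    · rw [hc0' p hp]
  obtain ⟨p0, hp0⟩ := hS
  refine no_subharmonic T v hk c hc0 ⟨p0, by rw [hc1 p0 hp0]; norm_num⟩ ?_
  intro p hp
  have hpS : p ∈ S := by
    by_contra hcon
    rw [hc0' p hcon] at hp
    exact lt_irrefl _ hp
  obtain ⟨q1, hq1, q2, hq2, n1, n2, n12, k1, k2⟩ := h p hpS
  have hrow := row_ge_two T v hv c hc0 p q1 q2 n1 n2 n12
  rw [hc1 p hpS, hc1 q1 hq1, hc1 q2 hq2] at hrow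
  linarith

section Chain

variable {t : ℕ} (v : Fin t ↪ Fin n)

/-- consecutive vertices with indices in `[lo, hi]` are adjacent -/
def IsChainOn (lo hi : ℕ) : Prop :=
  ∀ j j' : Fin t, lo ≤ j.val → j'.val ≤ hi → j'.val = j.val + 1 → T.a (v j) (v j') ≠ 0

variable {T v}

theorem IsChainOn.mono {lo hi lo' hi' : ℕ} (h : IsChainOn T v lo hi) (h1 : lo ≤ lo') (h2 : hi' ≤ hi) :
    IsChainOn T v lo' hi' :=
  fun j j' hj hj' hjj => h j j' (le_trans h1 hj) (le_trans hj' h2) hjj

theorem IsChainOn.K {lo hi : ℕ} (h : IsChainOn T v lo hi) (j j' : Fin t) (hj : lo ≤ j.val)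
    (hj' : j'.val ≤ hi) (hjj : j'.val = j.val + 1) :
    1 ≤ kk T (v j) (v j') ∧ 1 ≤ kk T (v j') (v j) := by
  have hne : j ≠ j' := fin_ne (by omega)
  exact ⟨K_pos T v hne (h j j' hj hj' hjj), K_pos' T v hne (h j j' hj hj' hjj)⟩

/-- no chords in a chain -/
theorem IsChainOn.nonadj_zero {lo hi : ℕ} (h : IsChainOn T v lo hi) (hv : ∀ j, T.IsMinusTwo (v j))
    (hk : t < n) (p q : Fin t) (hp : lo ≤ p.val) (hq : q.val ≤ hi) (hpq : p.val + 1 < q.val) :
    kk T (v p) (v q) = 0 := by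
  by_contra hcon
  have hne : p ≠ q := fin_ne (by omega)
  have h1 : 1 ≤ kk T (v p) (v q) := by
    have := K_nonneg T v hne
    omega
  have h2 : 1 ≤ kk T (v q) (v p) := K_symm_pos T v hne h1
  have hmem : ∀ r : Fin t, r ∈ (univ.filter fun r : Fin t => p.val ≤ r.val ∧ r.val ≤ q.val) ↔
      (p.val ≤ r.val ∧ r.val ≤ q.val) := by
    intro r
    simp only [mem_filter, mem_univ, true_and]
  refine no_two_neighbors T v hv hk (univ.filter fun r : Fin t => p.val ≤ r.val ∧ r.val ≤ q.val)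
    ⟨p, (hmem p).mpr (by omega)⟩ ?_
  intro r hr
  rw [hmem] at hr
  have hrt := r.isLt
  have hqt := q.isLt
  by_cases hrp : r.val = p.val
  · have hrp' : r = p := Fin.ext hrp
    subst hrp'
    obtain ⟨r1, hr1⟩ := exists_fin (t := t) (r.val + 1) (by omega)
    refine ⟨r1, (hmem r1).mpr (by omega), q, (hmem q).mpr (by omega), fin_ne (by omega), hne,
      fin_ne (by omega), ?_, h1⟩
    exact (h.K r r1 hp (by omega) hr1).1
  by_cases hrq : r.val = q.val
  · have hrq' : r = q := Fin.ext hrq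
    subst hrq'
    obtain ⟨r1, hr1⟩ := exists_fin (t := t) (r.val - 1) (by omega)
    refine ⟨r1, (hmem r1).mpr (by omega), p, (hmem p).mpr (by omega), fin_ne (by omega), hne.symm,
      fin_ne (by omega), ?_, h2⟩
    exact (h.K r1 r (by omega) hq (by omega)).2
  -- interior
  obtain ⟨ra, hra⟩ := exists_fin (t := t) (r.val - 1) (by omega)
  obtain ⟨rb, hrb⟩ := exists_fin (t := t) (r.val + 1) (by omega)
  refine ⟨ra, (hmem ra).mpr (by omega), rb, (hmem rb).mpr (by omega), fin_ne (by omega),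
    fin_ne (by omega), fin_ne (by omega), ?_, ?_⟩
  · exact (h.K ra r (by omega) (by omega) (by omega)).2
  · exact (h.K r rb (by omega) (by omega) hrb).1

/-- a window of five consecutive vertices: the two middle edges are simple -/
theorem IsChainOn.window5 {lo hi : ℕ} (h : IsChainOn T v lo hi) (hv : ∀ j, T.IsMinusTwo (v j))
    (hk : t < n) (p0 p1 p2 p3 p4 : Fin t) (h0 : lo ≤ p0.val) (h1 : p1.val = p0.val + 1)
    (h2 : p2.val = p0.val + 2) (h3 : p3.val = p0.val + 3) (h4 : p4.val = p0.val + 4)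
    (h4' : p4.val ≤ hi) :
    kk T (v p1) (v p2) ≤ 1 ∧ kk T (v p2) (v p1) ≤ 1 ∧
    kk T (v p2) (v p3) ≤ 1 ∧ kk T (v p3) (v p2) ≤ 1 := by
  have hw : p0.val + 5 ≤ t := by have := p4.isLt; omega
  have e0 : (shiftEmb 5 p0.val t hw) 0 = p0 := Fin.ext rfl
  have e1 : (shiftEmb 5 p0.val t hw) 1 = p1 := Fin.ext (by rw [h1]; rfl)
  have e2 : (shiftEmb 5 p0.val t hw) 2 = p2 := Fin.ext (by rw [h2]; rfl)
  have e3 : (shiftEmb 5 p0.val t hw) 3 = p3 := Fin.ext (by rw [h3]; rfl)
  have e4 : (shiftEmb 5 p0.val t hw) 4 = p4 := Fin.ext (by rw [h4]; rfl)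
  have key := chain5_K T ((shiftEmb 5 p0.val t hw).trans v) (fun j => hv _) (by omega)
    (by
      simp only [Function.Embedding.trans_apply, e0, e1]
      exact h p0 p1 h0 (by omega) h1)
    (by
      simp only [Function.Embedding.trans_apply, e1, e2]
      exact h p1 p2 (by omega) (by omega) (by omega))
    (by
      simp only [Function.Embedding.trans_apply, e2, e3]
      exact h p2 p3 (by omega) (by omega) (by omega))
    (by
      simp only [Function.Embedding.trans_apply, e3, e4]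
      exact h p3 p4 (by omega) (by omega) (by omega))
  simp only [Function.Embedding.trans_apply, e1, e2, e3] at key
  exact key

/-- interior edges of a chain with at least five vertices are simple -/
theorem IsChainOn.interior_simple {lo hi : ℕ} (h : IsChainOn T v lo hi)
    (hv : ∀ j, T.IsMinusTwo (v j)) (hk : t < n) (hhi : hi < t) (hlen : lo + 4 ≤ hi)
    (j j' : Fin t) (hjj : j'.val = j.val + 1) (hj : lo + 1 ≤ j.val) (hj' : j'.val + 1 ≤ hi) :
    kk T (v j) (v j') = 1 ∧ kk T (v j') (v j) = 1 := by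
  have hK := h.K j j' (by omega) (by omega) hjj
  by_cases hc : j.val + 3 ≤ hi
  · obtain ⟨p0, hp0⟩ := exists_fin (t := t) (j.val - 1) (by omega)
    obtain ⟨p3, hp3⟩ := exists_fin (t := t) (j.val + 2) (by omega)
    obtain ⟨p4, hp4⟩ := exists_fin (t := t) (j.val + 3) (by omega)
    have hw := h.window5 hv hk p0 j j' p3 p4 (by omega) (by omega) (by omega) (by omega)
      (by omega) (by omega)
    omega
  · obtain ⟨p0, hp0⟩ := exists_fin (t := t) (j.val - 2) (by omega)
    obtain ⟨p1, hp1⟩ := exists_fin (t := t) (j.val - 1) (by omega)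
    obtain ⟨p4, hp4⟩ := exists_fin (t := t) (j.val + 2) (by omega)
    have hw := h.window5 hv hk p0 p1 j j' p4 (by omega) (by omega) (by omega) (by omega)
      (by omega) (by omega)
    omega

/-- a window of three consecutive vertices -/
theorem IsChainOn.window3 {lo hi : ℕ} (h : IsChainOn T v lo hi) (hv : ∀ j, T.IsMinusTwo (v j))
    (hk : t < n) (p0 p1 p2 : Fin t) (h0 : lo ≤ p0.val) (h1 : p1.val = p0.val + 1)
    (h2 : p2.val = p0.val + 2) (h2' : p2.val ≤ hi) :
    kk T (v p0) (v p1) ≤ 2 ∧ kk T (v p1) (v p0) ≤ 2 ∧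
    kk T (v p1) (v p2) ≤ 2 ∧ kk T (v p2) (v p1) ≤ 2 ∧
    ¬ (2 ≤ kk T (v p0) (v p1) ∧ 2 ≤ kk T (v p1) (v p0)) ∧
    ¬ (2 ≤ kk T (v p1) (v p2) ∧ 2 ≤ kk T (v p2) (v p1)) := by
  have hw : p0.val + 3 ≤ t := by have := p2.isLt; omega
  have e0 : (shiftEmb 3 p0.val t hw) 0 = p0 := Fin.ext rfl
  have e1 : (shiftEmb 3 p0.val t hw) 1 = p1 := Fin.ext (by rw [h1]; rfl)
  have e2 : (shiftEmb 3 p0.val t hw) 2 = p2 := Fin.ext (by rw [h2]; rfl)
  have key := chain3_K T ((shiftEmb 3 p0.val t hw).trans v) (fun j => hv _) (by omega)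
    (by
      simp only [Function.Embedding.trans_apply, e0, e1]
      exact h p0 p1 h0 (by omega) h1)
    (by
      simp only [Function.Embedding.trans_apply, e1, e2]
      exact h p1 p2 (by omega) (by omega) (by omega))
  simp only [Function.Embedding.trans_apply, e0, e1, e2] at key
  obtain ⟨-, -, u01, u10, u12, u21, b1, -, -, -, -, b6⟩ := key
  exact ⟨u01, u10, u12, u21, b1, b6⟩

/-- The chain certificate: a nonnegative vector which equals `2` on the whole range `[lo, hi]`
of a chain only needs to be checked at the two ends of the range and outside it. -/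
theorem IsChainOn.cert {lo hi : ℕ} (h : IsChainOn T v lo hi) (hv : ∀ j, T.IsMinusTwo (v j))
    (hk : t < n) (hlh : lo ≤ hi) (hhi : hi < t) (c : Fin t → ℤ) (hc0 : ∀ p, 0 ≤ c p)
    (hc2 : ∀ p : Fin t, lo ≤ p.val → p.val ≤ hi → c p = 2)
    (hrows : ∀ p : Fin t, 0 < c p → ¬ (lo < p.val ∧ p.val < hi) →
      0 ≤ ∑ q, kk T (v p) (v q) * c q) : False := by
  obtain ⟨plo, hplo⟩ := exists_fin (t := t) lo (by omega)
  refine no_subharmonic T v hk c hc0 ⟨plo, by rw [hc2 plo (by omega) (by omega)]; norm_num⟩ ?_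
  intro p hp
  by_cases hint : lo < p.val ∧ p.val < hi
  · have hpt := p.isLt
    obtain ⟨ra, hra⟩ := exists_fin (t := t) (p.val - 1) (by omega)
    obtain ⟨rb, hrb⟩ := exists_fin (t := t) (p.val + 1) (by omega)
    have ka := (h.K ra p (by omega) (by omega) (by omega)).2
    have kb := (h.K p rb (by omega) (by omega) hrb).1
    have hrow := row_ge_two T v hv c hc0 p ra rb (fin_ne (by omega)) (fin_ne (by omega))
      (fin_ne (by omega))
    rw [hc2 p (by omega) (by omega), hc2 ra (by omega) (by omega),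
      hc2 rb (by omega) (by omega)] at hrow
    linarith
  · exact hrows p hp hint

/-- weights are constant along simple edges of a chain -/
theorem IsChainOn.W_eq {lo hi : ℕ}
    (hs : ∀ j j' : Fin t, lo ≤ j.val → j'.val ≤ hi → j'.val = j.val + 1 →
      kk T (v j) (v j') = 1 ∧ kk T (v j') (v j) = 1)
    (p q : Fin t) (hp : lo ≤ p.val) (hpq : p.val ≤ q.val) (hq : q.val ≤ hi) :
    T.w (v q) = T.w (v p) := by
  obtain ⟨d, hd⟩ : ∃ d, q.val = p.val + d := ⟨q.val - p.val, by omega⟩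
  induction d generalizing q with
  | zero =>
    have : q = p := Fin.ext (by omega)
    rw [this]
  | succ d ih =>
    have hqt := q.isLt
    obtain ⟨q1, hq1⟩ := exists_fin (t := t) (q.val - 1) (by omega)
    have ih' := ih q1 (by omega) (by omega) (by omega)
    have hk := hs q1 q (by omega) hq (by omega)
    rw [← ih']
    exact W_eq_of_K_one T hk.1 hk.2

end Chain

end Groth.Agent.Lib.Helper11
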