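import Groth.Agent.Lib.Helper11Spider2

/-!
Genus one classification: the case where a longest path is everything.
-/

namespace Groth.Agent.Lib.Helper11

open Finset Models

variable {n : ℕ} {T : Models.NumericalType n}

/-- a path which is everything, all of whose edges except possibly the first are simple,
does not exist -/
theorem chain_fin (h2 : ∀ i, T.IsMinusTwo i) (hn : 4 ≤ n) {t : ℕ} {v : Fin t ↪ Fin n}
    (hv : IsPath T v) (hs : Function.Surjective v)
    (hch : ∀ p q : Fin t, p.val + 2 ≤ q.val → T.a (v p) (v q) = 0)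
    (hsimple : ∀ j j1 : Fin t, j1.val = j.val + 1 → 1 ≤ j.val → ¬ DblE T (v j) (v j1)) :
    False := by
  have htn : t = n := eq_of_surjective_emb v hs
  obtain ⟨p0, hp0⟩ := exists_fin (t := t) 0 (by omega)
  obtain ⟨p1, hp1⟩ := exists_fin (t := t) 1 (by omega)
  obtain ⟨p2, hp2⟩ := exists_fin (t := t) 2 (by omega)
  have hL : 0 + 3 ≤ t := by omega
  have key := chain3_K T (segEmb v 0 3 hL) (fun j => h2 _) (by omega)
    ((hv.seg 0 3 hL) 0 1 rfl) ((hv.seg 0 3 hL) 1 2 rfl)
  rw [segEmb_eq v 0 3 hL 0 p0 (by simp [hp0]), segEmb_eq v 0 3 hL 1 p1 (by simp [hp1]),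
    segEmb_eq v 0 3 hL 2 p2 (by simp [hp2])] at key
  obtain ⟨-, -, u01, u10, -, -, b1, -⟩ := key
  have e01 := K_pos T v (p := p0) (q := p1) (fin_ne (by omega)) (hv p0 p1 (by omega))
  have e10 := K_pos' T v (p := p0) (q := p1) (fin_ne (by omega)) (hv p0 p1 (by omega))
  have haa : kk T (v p0) (v p1) * kk T (v p1) (v p0) ≤ 2 := by
    have h1 : kk T (v p0) (v p1) = 1 ∨ kk T (v p0) (v p1) = 2 := by omega
    have h2' : kk T (v p1) (v p0) = 1 ∨ kk T (v p1) (v p0) = 2 := by omega
    rcases h1 with h1 | h1 <;> rcases h2' with h2' | h2' <;> rw [h1, h2'] <;> omega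
  refine no_finite_chain v hs (fun j => h2 _) (by omega) e01 e10 haa ?_
  intro p q hpq
  have hne : p.val ≠ q.val := fun h => hpq (Fin.ext h)
  by_cases h1 : q.val = p.val + 1
  · by_cases h0 : p.val = 0
    · rw [Bfc_fwd0 _ _ h1 h0, show p = p0 from Fin.ext (by omega), show q = p1 from Fin.ext (by omega)]
    · rw [Bfc_fwd1 _ _ h1 h0]
      exact (kk_le_one_of_not_dbl (hsimple p q h1 (by omega))).1
  by_cases h2' : p.val = q.val + 1
  · by_cases h0 : q.val = 0
    · rw [Bfc_bwd0 _ _ h2' h0, show q = p0 from Fin.ext (by omega),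
        show p = p1 from Fin.ext (by omega)]
    · rw [Bfc_bwd1 _ _ h2' h0]
      exact (kk_le_one_of_not_dbl (hsimple q p h2' (by omega))).2
  · rw [Bfc_zero _ _ h1 h2']
    have hz : T.a (v p) (v q) = 0 := by
      rcases Nat.lt_or_gt_of_ne hne with h | h
      · exact hch _ _ (by omega)
      · rw [a_symm]; exact hch _ _ (by omega)
    rw [kk_eq_zero T hz]

/-- upper bounds for a chain of four vertices whose middle edge is of type `(a, a')` -/
def BF4 (a a' : ℤ) (p q : Fin 4) : ℤ :=
  if q.val = p.val + 1 then (if p.val = 1 then a else 1)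
  else if p.val = q.val + 1 then (if q.val = 1 then a' else 1)
  else 0

/-- a chain of four vertices which is everything and whose middle edge only is multiple
does not exist -/
theorem chain4_fin (h2 : ∀ i, T.IsMinusTwo i) {v : Fin 4 ↪ Fin n}
    (hv : IsPath T v) (hs : Function.Surjective v)
    (hch : ∀ p q : Fin 4, p.val + 2 ≤ q.val → T.a (v p) (v q) = 0)
    (h01 : ¬ DblE T (v 0) (v 1)) (h12 : DblE T (v 1) (v 2)) (h23 : ¬ DblE T (v 2) (v 3)) :
    False := by
  have hn : 4 = n := eq_of_surjective_emb v hs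
  have hL : 0 + 3 ≤ 4 := by omega
  have key := chain3_K T (segEmb v 0 3 hL) (fun j => h2 _) (by omega)
    ((hv.seg 0 3 hL) 0 1 rfl) ((hv.seg 0 3 hL) 1 2 rfl)
  rw [segEmb_eq v 0 3 hL 0 0 rfl, segEmb_eq v 0 3 hL 1 1 rfl, segEmb_eq v 0 3 hL 2 2 rfl] at key
  obtain ⟨-, -, -, -, u12, u21, -, -, -, -, -, b6⟩ := key
  have e12 := K_pos T v (p := 1) (q := 2) (by decide) (hv 1 2 rfl)
  have e21 := K_pos' T v (p := 1) (q := 2) (by decide) (hv 1 2 rfl)
  have b01 := kk_le_one_of_not_dbl h01
  have b23 := kk_le_one_of_not_dbl h23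
  have hB : ∀ (a a' : ℤ), kk T (v 1) (v 2) ≤ a → kk T (v 2) (v 1) ≤ a' →
      ∀ p q : Fin 4, p ≠ q → kk T (v p) (v q) ≤ BF4 a a' p q := by
    intro a a' ha ha' p q hpq
    have hne : p.val ≠ q.val := fun h => hpq (Fin.ext h)
    have hp := p.isLt
    have hq := q.isLt
    unfold BF4
    split_ifs with c1 c2 c3 c4
    · rw [show p = 1 from Fin.ext c2, show q = 2 from Fin.ext (by omega)]; exact ha
    · have : (p = 0 ∧ q = 1) ∨ (p = 2 ∧ q = 3) := by
        have : p.val = 0 ∨ p.val = 2 := by omega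
        rcases this with h | h
        · exact Or.inl ⟨Fin.ext h, Fin.ext (by omega)⟩
        · exact Or.inr ⟨Fin.ext h, Fin.ext (by omega)⟩
      rcases this with ⟨rfl, rfl⟩ | ⟨rfl, rfl⟩
      · exact b01.1
      · exact b23.1
    · rw [show q = 1 from Fin.ext c4, show p = 2 from Fin.ext (by omega)]; exact ha'
    · have : (q = 0 ∧ p = 1) ∨ (q = 2 ∧ p = 3) := by
        have : q.val = 0 ∨ q.val = 2 := by omega
        rcases this with h | h
        · exact Or.inl ⟨Fin.ext h, Fin.ext (by omega)⟩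
        · exact Or.inr ⟨Fin.ext h, Fin.ext (by omega)⟩
      rcases this with ⟨rfl, rfl⟩ | ⟨rfl, rfl⟩
      · exact b01.2
      · exact b23.2
    · have hz : T.a (v p) (v q) = 0 := by
        rcases Nat.lt_or_gt_of_ne hne with h | h
        · exact hch _ _ (by omega)
        · rw [a_symm]; exact hch _ _ (by omega)
      rw [kk_eq_zero T hz]
  by_cases hA : 2 ≤ kk T (v 1) (v 2)
  · exact finite_master v hs (fun j => h2 _) ![2, 4, 3, 2] (by decide) (BF4 2 1)
      (hB 2 1 u12 (by omega)) (by decide) 3 (by decide)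
  · have hA' : 2 ≤ kk T (v 2) (v 1) := by rcases h12 with h | h <;> omega
    exact finite_master v hs (fun j => h2 _) ![2, 3, 4, 2] (by decide) (BF4 1 2)
      (hB 1 2 (by omega) u21) (by decide) 0 (by decide)

/-- a window of five vertices whose third edge is multiple -/
theorem window_F {X : Prop} (hF4 : ∀ u, IsF4cfg T u → X) (hE62 : ∀ u, IsE62cfg T u → X)
    (w : Fin 5 ↪ Fin n) (hw : IsPath T w) (hd : DblE T (w 2) (w 3)) : X := by
  rcases hd with h | h
  · exact hF4 w ⟨hw, h⟩
  · exact hE62 w ⟨hw, h⟩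

theorem chain_main (h2 : ∀ i, T.IsMinusTwo i) (hn : 4 ≤ n) {t : ℕ} {v : Fin t ↪ Fin n}
    (hv : IsPath T v) (hs : Function.Surjective v)
    (hch : ∀ p q : Fin t, p.val + 2 ≤ q.val → T.a (v p) (v q) = 0) (X : Prop)
    (hF4 : ∀ u, IsF4cfg T u → X) (hE62 : ∀ u, IsE62cfg T u → X) : ResFam T ∨ X := by
  have htn : t = n := eq_of_surjective_emb v hs
  by_cases hint : ∃ j j1 : Fin t, j1.val = j.val + 1 ∧ 1 ≤ j.val ∧ j1.val + 1 < t ∧
      DblE T (v j) (v j1)
  · obtain ⟨j, j1, hj, hj0, hj1, hd⟩ := hint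
    by_cases ht5 : t = 4
    · subst ht5
      have ej : j = 1 := Fin.ext (by omega)
      have ej1 : j1 = 2 := Fin.ext (by omega)
      subst ej ej1
      by_cases hf : DblE T (v 0) (v 1)
      · exact Or.inl (resFam_of_two_dbl h2 hv 0 1 1 2 rfl rfl (by decide) hf hd)
      by_cases hl : DblE T (v 2) (v 3)
      · exact Or.inl (resFam_of_two_dbl h2 hv 1 2 2 3 rfl rfl (by decide) hd hl)
      exact (chain4_fin h2 hv hs hch hf hd hl).elim
    right
    by_cases hc : j1.val + 2 < t
    · -- the window j-1 .. j+3, reversed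
      have hL : (j.val - 1) + 5 ≤ t := by omega
      refine window_F hF4 hE62 (revEmb (segEmb v (j.val - 1) 5 hL)) (hv.seg _ _ hL).rev ?_
      rw [revEmb_eq _ 2 2 rfl, revEmb_eq _ 3 1 rfl,
        segEmb_eq v _ _ hL 2 j1 (by simp; omega), segEmb_eq v _ _ hL 1 j (by simp; omega)]
      exact hd.symm
    · -- the window j-2 .. j+2
      have hL : (j.val - 2) + 5 ≤ t := by omega
      refine window_F hF4 hE62 (segEmb v (j.val - 2) 5 hL) (hv.seg _ _ hL) ?_
      rw [segEmb_eq v _ _ hL 2 j (by simp; omega), segEmb_eq v _ _ hL 3 j1 (by simp; omega)]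
      exact hd
  push Not at hint
  obtain ⟨p0, hp0⟩ := exists_fin (t := t) 0 (by omega)
  obtain ⟨p1, hp1⟩ := exists_fin (t := t) 1 (by omega)
  obtain ⟨pd, hpd⟩ := exists_fin (t := t) (t - 2) (by omega)
  obtain ⟨pe, hpe⟩ := exists_fin (t := t) (t - 1) (by omega)
  by_cases hlast : DblE T (v pd) (v pe)
  · by_cases hfirst : DblE T (v p0) (v p1)
    · left
      exact resFam_of_chain h2 v (by omega) hv p0 p1 pd pe hp0 hp1 (by omega) (by omega) hfirst hlast
    · -- reverse
      exfalso
      refine chain_fin h2 (by omega) hv.rev ?_ ?_ ?_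
      · intro i
        obtain ⟨j, hj⟩ := hs i
        have hjl := j.isLt
        exact ⟨⟨t - 1 - j.val, by omega⟩, by rw [revEmb_eq v _ j (by simp only []; omega)]; exact hj⟩
      · intro p q hpq
        have hp := p.isLt
        have hq := q.isLt
        rw [revEmb_apply, revEmb_apply, a_symm]
        exact hch _ _ (by simp only []; omega)
      · intro j j1 hj hj0 hd
        have hjl := j.isLt
        have hj1l := j1.isLt
        rw [revEmb_apply, revEmb_apply] at hd
        by_cases hc : j1.val + 1 = t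
        · apply hfirst
          rw [show p0 = ⟨t - 1 - j1.val, by omega⟩ from Fin.ext (by simp only []; omega),
            show p1 = ⟨t - 1 - j.val, by omega⟩ from Fin.ext (by simp only []; omega)]
          exact hd.symm
        · exact hint ⟨t - 1 - j1.val, by omega⟩ ⟨t - 1 - j.val, by omega⟩ (by simp only []; omega)
            (by simp only []; omega) (by simp only []; omega) hd.symm
  · exfalso
    refine chain_fin h2 (by omega) hv hs hch ?_
    intro j j1 hj hj0 hd
    have hj1l := j1.isLt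
    by_cases hc : j1.val + 1 = t
    · apply hlast
      rw [show pd = j from Fin.ext (by omega), show pe = j1 from Fin.ext (by omega)]
      exact hd
    · exact hint j j1 hj hj0 (by omega) hd

end Groth.Agent.Lib.Helper11
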