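import Mathlib
import Groth.Agent.Lib.Helper11ChevB

set_option autoImplicit false
set_option linter.style.haveILetI false
universe u v
open CategoryTheory AlgebraicGeometry Limits Opposite TopologicalSpace

namespace Groth.Agent.Lib.Helper11.Chev

/-- the target of a surjective universally closed morphism from a separated scheme is separated
(Stacks 09MQ) -/
theorem isSeparated_of_surjective_universallyClosed {X S : Scheme.{u}} (f : X ⟶ S) [Surjective f]
    [UniversallyClosed f] [X.IsSeparated] : S.IsSeparated := by
  constructor
  set a := terminal.from S with ha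
  have hb : f ≫ a = terminal.from X := terminal.hom_ext _ _
  haveI : IsSeparated (f ≫ a) := by rw [hb]; infer_instance
  set F := pullback.map (f ≫ a) (f ≫ a) a a f f (𝟙 _) (by simp) (by simp) with hF
  haveI : UniversallyClosed F :=
    MorphismProperty.pullbackMap (P := @UniversallyClosed) ‹_› ‹_› rfl rfl
  have hcomm : f ≫ pullback.diagonal a = pullback.diagonal (f ≫ a) ≫ F :=
    pullback.comp_diagonal f a
  have hrange : Set.range (pullback.diagonal a) =
      F '' Set.range (pullback.diagonal (f ≫ a)) := by
    ext z
    constructor
    · rintro ⟨s, rfl⟩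
      obtain ⟨x, rfl⟩ := f.surjective s
      refine ⟨pullback.diagonal (f ≫ a) x, ⟨x, rfl⟩, ?_⟩
      rw [← Scheme.Hom.comp_apply, ← hcomm, Scheme.Hom.comp_apply]
    · rintro ⟨_, ⟨x, rfl⟩, rfl⟩
      exact ⟨f x, by rw [← Scheme.Hom.comp_apply, hcomm, Scheme.Hom.comp_apply]⟩
  have hcl : IsClosed (Set.range (pullback.diagonal a)) := by
    rw [hrange]
    exact F.isClosedMap _ (pullback.diagonal (f ≫ a)).isClosedEmbedding.isClosed_range
  exact ⟨IsClosedImmersion.of_isPreimmersion _ hcl⟩

/-- **S0593** (Stacks 05YU+): the target of a surjective universally closed morphism from an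
affine scheme is affine. -/
theorem isAffine_of_surjective_universallyClosed {X S : Scheme.{u}} (f : X ⟶ S) [IsAffine X]
    [Surjective f] [UniversallyClosed f] : IsAffine S := by
  haveI : S.IsSeparated := isSeparated_of_surjective_universallyClosed f
  haveI : IsAffineHom (f ≫ terminal.from S) := by
    have : f ≫ terminal.from S = terminal.from X := terminal.hom_ext _ _
    rw [this]
    infer_instance
  haveI : IsAffineHom f := IsAffineHom.of_comp f (terminal.from S)
  haveI : IsIntegralHom f :=
    IsIntegralHom.iff_universallyClosed_and_isAffineHom.2 ⟨inferInstance, inferInstance⟩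
  exact isAffine_of_isIntegralHom_of_surjective f

end Groth.Agent.Lib.Helper11.Chev
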