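import Mathlib
import Groth.Agent.Lib.Helper27ProjSpaceFibres
import Groth.Prelude.Def_P1

/-!
# Finite flat covers of `P^1_S` (helper27)
-/

set_option autoImplicit false
universe u

open CategoryTheory CategoryTheory.Limits AlgebraicGeometry

namespace Groth.Agent.Lib.Helper27P1Cover

open Groth.Agent.Lib.Helper27ProjSpaceFibres

theorem sect_toBase (S : Scheme.{u}) (i : Fin (1 + 1)) :
    P1.sect S i ≫ CohB1.ProjSpaceOver.toBase 1 S = 𝟙 S := by
  unfold P1.sect CohB1.ProjSpaceOver.toBase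
  exact pullback.lift_snd _ _ _

theorem toBase_sect_apply (S : Scheme.{u}) (i : Fin (1 + 1)) (s : S) :
    CohB1.ProjSpaceOver.toBase 1 S (P1.sect S i s) = s := by
  rw [← Scheme.Hom.comp_apply, sect_toBase]
  rfl

/-- a clopen subset of a finite flat cover of `P^1_S` containing the points over the zero
section is everything. -/
theorem eq_univ_of_isClopen (S X : Scheme.{u})
    (g : X ⟶ CohB1.ProjSpaceOver 1 S) [IsFinite g] [Flat g] [LocallyOfFinitePresentation g]
    (i : Fin (1 + 1))
    (W : Set X) (hW : IsClopen W)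
    (h0 : ∀ x : X, g x ∈ Set.range (P1.sect S i) → x ∈ W) : W = Set.univ := by
  have hopen : IsOpenMap g := g.isOpenMap
  have hclosed : IsClosedMap g := g.isClosedMap
  have hT : IsClopen (g '' Wᶜ) := ⟨hclosed _ hW.compl.1, hopen _ hW.compl.2⟩
  rw [Set.eq_univ_iff_forall]
  intro x
  by_contra hx
  have ht : g x ∈ g '' Wᶜ := ⟨x, hx, rfl⟩
  have h1 := mem_of_isClopen 1 S hT ht
    (t' := P1.sect S i (CohB1.ProjSpaceOver.toBase 1 S (g x)))
    (toBase_sect_apply S i _)
  obtain ⟨x', hx', hgx'⟩ := h1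
  exact hx' (h0 x' ⟨_, hgx'.symm⟩)

end Groth.Agent.Lib.Helper27P1Cover
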