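import Groth.Agent.Lib.Helper27SegreClosed

/-!
# The Segre embedding `P^n_S ×_S P^m_S ⟶ P^{nm+n+m}_S` (helper27)
-/

set_option autoImplicit false
set_option linter.unusedSectionVars false
universe u

open CategoryTheory CategoryTheory.Limits AlgebraicGeometry

namespace Groth.Agent.Lib.Helper27SegreBC

section Cat
variable {C : Type*} [Category C] [HasPullbacks C] {A₁ A₂ B B' : C}
  (f₁ : A₁ ⟶ B) (f₂ : A₂ ⟶ B) (g : B' ⟶ B)

/-- the comparison map `(A₁ ×_B B') ×_{B'} (A₂ ×_B B') ⟶ A₁ ×_B A₂`. -/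
noncomputable def prodMap :
    pullback (pullback.snd f₁ g) (pullback.snd f₂ g) ⟶ pullback f₁ f₂ :=
  pullback.map (pullback.snd f₁ g) (pullback.snd f₂ g) f₁ f₂ (pullback.fst f₁ g)
    (pullback.fst f₂ g) g pullback.condition.symm pullback.condition.symm

theorem prodMap_fst :
    prodMap f₁ f₂ g ≫ pullback.fst f₁ f₂ =
      pullback.fst (pullback.snd f₁ g) (pullback.snd f₂ g) ≫ pullback.fst f₁ g :=
  pullback.lift_fst _ _ _

theorem prodMap_snd :
    prodMap f₁ f₂ g ≫ pullback.snd f₁ f₂ =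
      pullback.snd (pullback.snd f₁ g) (pullback.snd f₂ g) ≫ pullback.fst f₂ g :=
  pullback.lift_snd _ _ _

theorem isPullback_prodMap :
    IsPullback (prodMap f₁ f₂ g)
      (pullback.fst (pullback.snd f₁ g) (pullback.snd f₂ g) ≫ pullback.snd f₁ g)
      (pullback.fst f₁ f₂ ≫ f₁) g := by
  have hI : IsPullback (pullback.fst (pullback.snd f₁ g) (pullback.snd f₂ g))
      (pullback.snd (pullback.snd f₁ g) (pullback.snd f₂ g))
      (pullback.snd f₁ g) (pullback.snd f₂ g) := IsPullback.of_hasPullback _ _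
  have hII : IsPullback (pullback.snd f₂ g) (pullback.fst f₂ g) g f₂ :=
    (IsPullback.of_hasPullback f₂ g).flip
  have hIII := hI.paste_vert hII
  rw [← pullback.condition] at hIII
  have hIV : IsPullback (pullback.snd f₁ f₂) (pullback.fst f₁ f₂) f₂ f₁ :=
    (IsPullback.of_hasPullback f₁ f₂).flip
  have hV : IsPullback (prodMap f₁ f₂ g)
      (pullback.fst (pullback.snd f₁ g) (pullback.snd f₂ g)) (pullback.fst f₁ f₂)
      (pullback.fst f₁ g) := by
    refine IsPullback.of_right ?_ (prodMap_fst f₁ f₂ g) hIV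
    rw [prodMap_snd]
    exact hIII.flip
  exact hV.paste_vert (IsPullback.of_hasPullback f₁ g)

end Cat

section Final
open Groth.Agent.Lib.Helper27SegreMap Groth.Agent.Helper13ProjUP

/-- the index bijection. -/
def idx (n m : ℕ) : Fin (n + 1) × Fin (m + 1) ≃ Fin (n * m + n + m + 1) :=
  finProdFinEquiv.trans (finCongr (by ring))

theorem exists_segre_ring (n m : ℕ) (R : Type u) [CommRing R] :
    ∃ σ : pullback (CohB1.ProjSpace.toSpec n R) (CohB1.ProjSpace.toSpec m R) ⟶
        CohB1.ProjSpace (n * m + n + m) R,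
      IsClosedImmersion σ ∧ σ ≫ CohB1.ProjSpace.toSpec (n * m + n + m) R =
        pullback.fst (CohB1.ProjSpace.toSpec n R) (CohB1.ProjSpace.toSpec m R) ≫
          CohB1.ProjSpace.toSpec n R :=
  exists_segre (idx n m)
    (pullback.fst (CohB1.ProjSpace.toSpec n R) (CohB1.ProjSpace.toSpec m R))
    (pullback.snd (CohB1.ProjSpace.toSpec n R) (CohB1.ProjSpace.toSpec m R))
    (IsPullback.of_hasPullback _ _)

set_option backward.isDefEq.respectTransparency.types false in
theorem exists_segre_over (S : Scheme.{u}) (n m : ℕ) :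
    ∃ φ : pullback (CohB1.ProjSpaceOver.toBase n S) (CohB1.ProjSpaceOver.toBase m S) ⟶
        CohB1.ProjSpaceOver (n * m + n + m) S,
      IsClosedImmersion φ ∧ φ ≫ CohB1.ProjSpaceOver.toBase (n * m + n + m) S =
        pullback.fst (CohB1.ProjSpaceOver.toBase n S) (CohB1.ProjSpaceOver.toBase m S) ≫
          CohB1.ProjSpaceOver.toBase n S := by
  obtain ⟨σ, hσ, hσb⟩ := exists_segre_ring.{u} n m (ULift.{u} ℤ)
  have hP := isPullback_prodMap (CohB1.ProjSpace.toSpec n (ULift.{u} ℤ))
    (CohB1.ProjSpace.toSpec m (ULift.{u} ℤ)) (specULiftZIsTerminal.from S)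
  set a := prodMap (CohB1.ProjSpace.toSpec n (ULift.{u} ℤ))
    (CohB1.ProjSpace.toSpec m (ULift.{u} ℤ)) (specULiftZIsTerminal.from S) with ha
  have hw : (a ≫ σ) ≫ CohB1.ProjSpace.toSpec (n * m + n + m) (ULift.{u} ℤ) =
      (pullback.fst (CohB1.ProjSpaceOver.toBase n S) (CohB1.ProjSpaceOver.toBase m S) ≫
        CohB1.ProjSpaceOver.toBase n S) ≫ specULiftZIsTerminal.from S := by
    rw [Category.assoc, hσb]
    exact hP.w
  let φ : pullback (CohB1.ProjSpaceOver.toBase n S) (CohB1.ProjSpaceOver.toBase m S) ⟶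
      CohB1.ProjSpaceOver (n * m + n + m) S :=
    pullback.lift (a ≫ σ)
      (pullback.fst (CohB1.ProjSpaceOver.toBase n S) (CohB1.ProjSpaceOver.toBase m S) ≫
        CohB1.ProjSpaceOver.toBase n S) hw
  have hφ1 : φ ≫ pullback.fst (CohB1.ProjSpace.toSpec (n * m + n + m) (ULift.{u} ℤ))
      (specULiftZIsTerminal.from S) = a ≫ σ := pullback.lift_fst _ _ _
  have hφ2 : φ ≫ CohB1.ProjSpaceOver.toBase (n * m + n + m) S =
      pullback.fst (CohB1.ProjSpaceOver.toBase n S) (CohB1.ProjSpaceOver.toBase m S) ≫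
        CohB1.ProjSpaceOver.toBase n S := pullback.lift_snd _ _ _
  refine ⟨φ, ?_, hφ2⟩
  have hR : IsPullback (CohB1.ProjSpaceOver.toBase (n * m + n + m) S)
      (pullback.fst (CohB1.ProjSpace.toSpec (n * m + n + m) (ULift.{u} ℤ))
        (specULiftZIsTerminal.from S))
      (specULiftZIsTerminal.from S) (CohB1.ProjSpace.toSpec (n * m + n + m) (ULift.{u} ℤ)) :=
    (IsPullback.of_hasPullback _ _).flip
  have hsq : IsPullback φ a
      (pullback.fst (CohB1.ProjSpace.toSpec (n * m + n + m) (ULift.{u} ℤ))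
        (specULiftZIsTerminal.from S)) σ := by
    refine IsPullback.of_right ?_ hφ1 hR
    rw [hφ2, hσb]
    exact hP.flip
  exact MorphismProperty.of_isPullback (P := @IsClosedImmersion) hsq.flip hσ

end Final

end Groth.Agent.Lib.Helper27SegreBC
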