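import Mathlib
import Groth.Agent.Lib.Helper10SchDense

/-!
# Chow's lemma, part A: general lemmas on scheme-theoretically dominant morphisms
-/

set_option autoImplicit false
universe u

namespace Groth.Agent.Lib.Helper4.Chow

open CategoryTheory CategoryTheory.Limits AlgebraicGeometry

/-- a closed immersion through which a scheme-theoretically dominant morphism factors is an
isomorphism. -/
theorem isIso_of_factor {Y' E Y : Scheme.{u}} (i : E ⟶ Y) [IsClosedImmersion i] (l : Y' ⟶ E)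
    (d : Y' ⟶ Y) [IsSchemeTheoreticallyDominant d] (h : l ≫ i = d) : IsIso i := by
  refine IsClosedImmersion.isIso_iff_ker_eq_bot.mpr ?_
  rw [← le_bot_iff, ← d.ker_eq_bot, ← h, Scheme.Hom.ker_comp, ← Scheme.IdealSheafData.map_bot]
  exact Scheme.IdealSheafData.map_mono _ bot_le

/-- Two morphisms into a scheme separated over `S`, agreeing over `S` and after a
scheme-theoretically dominant morphism, are equal. -/
theorem ext_of_dominant {Y' Y T S : Scheme.{u}} (d : Y' ⟶ Y) [IsSchemeTheoreticallyDominant d]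
    (a b : Y ⟶ T) (s : T ⟶ S) [IsSeparated s] (h₁ : a ≫ s = b ≫ s) (h₂ : d ≫ a = d ≫ b) :
    a = b := by
  let ab : Y ⟶ pullback s s := pullback.lift a b h₁
  have hab1 : ab ≫ pullback.fst s s = a := pullback.lift_fst _ _ _
  have hab2 : ab ≫ pullback.snd s s = b := pullback.lift_snd _ _ _
  let E := pullback ab (pullback.diagonal s)
  have : IsClosedImmersion (pullback.fst ab (pullback.diagonal s)) := inferInstance
  have hfac : (d ≫ ab) = (d ≫ a) ≫ pullback.diagonal s := by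
    apply pullback.hom_ext
    · rw [Category.assoc, hab1, Category.assoc, pullback.diagonal_fst, Category.comp_id]
    · rw [Category.assoc, hab2, Category.assoc, pullback.diagonal_snd, Category.comp_id, h₂]
  let l : Y' ⟶ E := pullback.lift d (d ≫ a) hfac
  have hl : l ≫ pullback.fst ab (pullback.diagonal s) = d := pullback.lift_fst _ _ _
  have hiso : IsIso (pullback.fst ab (pullback.diagonal s)) := isIso_of_factor _ l d hl
  have hc := pullback.condition (f := ab) (g := pullback.diagonal s)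
  have e1 : pullback.fst ab (pullback.diagonal s) ≫ a =
      pullback.snd ab (pullback.diagonal s) := by
    have := congr($hc ≫ pullback.fst s s)
    rw [Category.assoc, hab1, Category.assoc, pullback.diagonal_fst, Category.comp_id] at this
    exact this
  have e2 : pullback.fst ab (pullback.diagonal s) ≫ b =
      pullback.snd ab (pullback.diagonal s) := by
    have := congr($hc ≫ pullback.snd s s)
    rw [Category.assoc, hab2, Category.assoc, pullback.diagonal_snd, Category.comp_id] at this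
    exact this
  rw [← cancel_epi (pullback.fst ab (pullback.diagonal s)), e1, e2]

/-- If the restriction of `a : Y ⟶ V` to a scheme-theoretically dominant `d : Y' ⟶ Y` factors through
a closed immersion `c : C ⟶ V`, then so does `a`. -/
theorem exists_factor_of_dominant {Y' Y V C : Scheme.{u}} (d : Y' ⟶ Y)
    [IsSchemeTheoreticallyDominant d] (a : Y ⟶ V) (c : C ⟶ V) [IsClosedImmersion c]
    (a' : Y' ⟶ C) (h : d ≫ a = a' ≫ c) : ∃ b : Y ⟶ C, b ≫ c = a := by
  have : IsClosedImmersion (pullback.fst a c) := inferInstance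
  let l : Y' ⟶ pullback a c := pullback.lift d a' h
  have hl : l ≫ pullback.fst a c = d := pullback.lift_fst _ _ _
  have hiso : IsIso (pullback.fst a c) := isIso_of_factor _ l d hl
  refine ⟨inv (pullback.fst a c) ≫ pullback.snd a c, ?_⟩
  rw [Category.assoc, ← pullback.condition, IsIso.inv_hom_id_assoc]

/-- restriction of a quasi-compact scheme-theoretically dominant morphism to an open of the
target. -/
theorem dominant_restrict {Y' Y : Scheme.{u}} (d : Y' ⟶ Y) [IsSchemeTheoreticallyDominant d]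
    [QuasiCompact d] (W : Y.Opens) : IsSchemeTheoreticallyDominant (d ∣_ W) :=
  IsSchemeTheoreticallyDominant.of_isPullback (isPullback_morphismRestrict d W).flip

/-- `q` is, locally on the target around the image of `x`, a closed immersion. -/
def LocCI {Xt Q : Scheme.{u}} (q : Xt ⟶ Q) (x : Xt) : Prop :=
  ∃ O : Q.Opens, q x ∈ O ∧ IsClosedImmersion (q ∣_ O)

theorem isClosedImmersion_restrict_iSup {Xt Q : Scheme.{u}} (q : Xt ⟶ Q) {J : Type*}
    (O : J → Q.Opens) (h : ∀ j, IsClosedImmersion (q ∣_ O j)) :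
    IsClosedImmersion (q ∣_ (⨆ j, O j)) := by
  set Ω : Q.Opens := ⨆ j, O j with hΩ
  refine IsZariskiLocalAtTarget.of_iSup_eq_top (P := @IsClosedImmersion)
    (fun j => Ω.ι ⁻¹ᵁ (O j)) ?_ fun j => ?_
  · rw [← Scheme.Hom.preimage_iSup, ← hΩ]
    exact Scheme.Opens.ι_preimage_self Ω
  · refine ((MorphismProperty.arrow_mk_iso_iff @IsClosedImmersion
      (morphismRestrictRestrict q Ω _))).mpr ?_
    have e : Ω.ι ''ᵁ (Ω.ι ⁻¹ᵁ O j) = O j := by
      have h1 : Ω.ι ''ᵁ (Ω.ι ⁻¹ᵁ O j) = O j ⊓ Ω := Ω.functor_map_eq_inf (O j)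
      rw [h1]
      exact inf_eq_left.mpr (le_iSup O j)
    exact ((MorphismProperty.arrow_mk_iso_iff @IsClosedImmersion
      (morphismRestrictEq q e))).mpr (h j)

theorem isImmersion_of_locCI {Xt Q : Scheme.{u}} (q : Xt ⟶ Q) (h : ∀ x, LocCI q x) :
    IsImmersion q := by
  choose O hO hcl using h
  set Ω : Q.Opens := ⨆ x, O x with hΩ
  have hpre : q ⁻¹ᵁ Ω = ⊤ := by
    rw [eq_top_iff]
    intro x _
    change q x ∈ Ω
    rw [hΩ, TopologicalSpace.Opens.mem_iSup]
    exact ⟨x, hO x⟩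
  have h1 : IsClosedImmersion (q ∣_ Ω) := isClosedImmersion_restrict_iSup q O hcl
  have h2 : IsIso (q ⁻¹ᵁ Ω).ι := by
    apply isIso_of_isOpenImmersion_of_opensRange_eq_top
    rw [Scheme.Opens.opensRange_ι, hpre]
  have h3 : q = inv (q ⁻¹ᵁ Ω).ι ≫ (q ∣_ Ω) ≫ Ω.ι := by
    rw [morphismRestrict_ι, IsIso.inv_hom_id_assoc]
  rw [h3]
  infer_instance

/-- base change of a restricted closed immersion. -/
theorem isClosedImmersion_restrict_of_isPullback {Z Xt Q' Q : Scheme.{u}} {m : Z ⟶ Q'}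
    {p : Z ⟶ Xt} {b : Q' ⟶ Q} {q : Xt ⟶ Q} (h : IsPullback m p b q) (O : Q.Opens)
    (hq : IsClosedImmersion (q ∣_ O)) : IsClosedImmersion (m ∣_ (b ⁻¹ᵁ O)) := by
  set Ω : Q'.Opens := b ⁻¹ᵁ O with hΩ
  have h1 := isPullback_morphismRestrict m Ω
  have h2 := isPullback_morphismRestrict q O
  have hbig : IsPullback (m ∣_ Ω) ((m ⁻¹ᵁ Ω).ι ≫ p) (Ω.ι ≫ b) q := h1.paste_vert h
  have hb : Ω.ι ≫ b = (b ∣_ O) ≫ O.ι := (morphismRestrict_ι b O).symm
  have hcomm : ((m ∣_ Ω) ≫ (b ∣_ O)) ≫ O.ι = ((m ⁻¹ᵁ Ω).ι ≫ p) ≫ q := by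
    rw [Category.assoc, ← hb, ← Category.assoc, morphismRestrict_ι, Category.assoc, h.w,
      Category.assoc]
  let φ : (m ⁻¹ᵁ Ω : Scheme.{u}) ⟶ (q ⁻¹ᵁ O : Scheme.{u}) :=
    h2.lift ((m ∣_ Ω) ≫ (b ∣_ O)) ((m ⁻¹ᵁ Ω).ι ≫ p) hcomm
  have hφ1 : φ ≫ (q ∣_ O) = (m ∣_ Ω) ≫ (b ∣_ O) := h2.lift_fst _ _ _
  have hφ2 : φ ≫ (q ⁻¹ᵁ O).ι = (m ⁻¹ᵁ Ω).ι ≫ p := h2.lift_snd _ _ _
  rw [hb, ← hφ2] at hbig
  have h3 : IsPullback (m ∣_ Ω) φ (b ∣_ O) (q ∣_ O) := IsPullback.of_bot hbig hφ1.symm h2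
  exact MorphismProperty.of_isPullback (P := @IsClosedImmersion) h3.flip hq

end Groth.Agent.Lib.Helper4.Chow
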