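import Mathlib
import Groth.Agent.Lib.Helper4ChowA

/-!
# Chow's lemma, part B: the two inclusions and the transfer lemma
-/

set_option autoImplicit false
universe u

namespace Groth.Agent.Lib.Helper4.Chow

open CategoryTheory CategoryTheory.Limits AlgebraicGeometry

/-- transfer of a closed immersion over an open immersion `w` to the restricted form. -/
theorem isClosedImmersion_restrict_opensRange {Xt Q D' O' : Scheme.{u}} (q : Xt ⟶ Q)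
    (iD : D' ⟶ Xt) (w : O' ⟶ Q) (f' : D' ⟶ O') [IsOpenImmersion iD] [IsOpenImmersion w]
    (H : iD ≫ q = f' ≫ w) (H' : q ⁻¹ᵁ w.opensRange = iD.opensRange)
    (hf' : IsClosedImmersion f') : IsClosedImmersion (q ∣_ w.opensRange) := by
  have hp : IsPullback f' iD w q := IsOpenImmersion.isPullback f' iD w q H H'
  refine ((MorphismProperty.arrow_mk_iso_iff @IsClosedImmersion
    (morphismRestrictOpensRange q w))).mpr ?_
  have h1 : hp.flip.isoPullback.hom ≫ pullback.snd q w = f' := hp.flip.isoPullback_hom_snd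
  rw [← MorphismProperty.cancel_left_of_respectsIso @IsClosedImmersion hp.flip.isoPullback.hom,
    h1]
  exact hf'

/-- First inclusion: on `π' ⁻¹ B` the `P`-coordinate is `j ∘ π'`. -/
theorem coord_eq_on_preimage {Xt' X P S U₀ : Scheme.{u}} (π' : Xt' ⟶ X) (ιt' : U₀ ⟶ Xt')
    [QuasiCompact ιt'] [IsSchemeTheoreticallyDominant ιt'] (f : X ⟶ S) (t : P ⟶ S)
    [IsSeparated t] (α : Xt' ⟶ P) (hαt : α ≫ t = π' ≫ f) (B : X.Opens) (V : P.Opens)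
    (jV : (B : Scheme.{u}) ⟶ (V : Scheme.{u})) (hj : jV ≫ V.ι ≫ t = B.ι ≫ f)
    (hagree : ((ιt' ≫ π') ⁻¹ᵁ B).ι ≫ ιt' ≫ α = ((ιt' ≫ π') ∣_ B) ≫ jV ≫ V.ι) :
    (π' ⁻¹ᵁ B).ι ≫ α = (π' ∣_ B) ≫ jV ≫ V.ι := by
  set T : Xt'.Opens := π' ⁻¹ᵁ B with hT
  have hd : IsSchemeTheoreticallyDominant (ιt' ∣_ T) := dominant_restrict ιt' T
  refine ext_of_dominant (ιt' ∣_ T) _ _ t ?_ ?_
  · rw [Category.assoc, hαt, Category.assoc, Category.assoc, hj, morphismRestrict_ι_assoc]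
  · rw [morphismRestrict_ι_assoc]
    have h1 : (ιt' ∣_ T) ≫ (π' ∣_ B) = (ιt' ≫ π') ∣_ B := (morphismRestrict_comp ιt' π' B).symm
    rw [← Category.assoc (ιt' ∣_ T), h1]
    exact hagree

/-- Second inclusion. -/
theorem preimage_le_of_avoid {Xt' X P S U₀ : Scheme.{u}} (π' : Xt' ⟶ X) (ιt' : U₀ ⟶ Xt')
    [QuasiCompact ιt'] [IsSchemeTheoreticallyDominant ιt'] (f : X ⟶ S) [IsSeparated f]
    (t : P ⟶ S) (α : Xt' ⟶ P) (hαt : α ≫ t = π' ≫ f) (B : X.Opens) (V : P.Opens)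
    (jV : (B : Scheme.{u}) ⟶ (V : Scheme.{u})) [IsClosedImmersion jV]
    (hj : jV ≫ V.ι ≫ t = B.ι ≫ f)
    (hagree : ((ιt' ≫ π') ⁻¹ᵁ B).ι ≫ ιt' ≫ α = ((ιt' ≫ π') ∣_ B) ≫ jV ≫ V.ι)
    (havoid : (ιt' ≫ α) ⁻¹ᵁ V ≤ (ιt' ≫ π') ⁻¹ᵁ B) :
    α ⁻¹ᵁ V ≤ π' ⁻¹ᵁ B := by
  set W : Xt'.Opens := α ⁻¹ᵁ V with hW
  have hd : IsSchemeTheoreticallyDominant (ιt' ∣_ W) := dominant_restrict ιt' W
  have havoid' : ιt' ⁻¹ᵁ W ≤ (ιt' ≫ π') ⁻¹ᵁ B := havoid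
  let a' : (ιt' ⁻¹ᵁ W : Scheme.{u}) ⟶ (B : Scheme.{u}) :=
    U₀.homOfLE havoid' ≫ ((ιt' ≫ π') ∣_ B)
  have ha' : (ιt' ∣_ W) ≫ (α ∣_ V) = a' ≫ jV := by
    rw [← cancel_mono V.ι, Category.assoc, morphismRestrict_ι, morphismRestrict_ι_assoc,
      Category.assoc, Category.assoc, ← hagree, Scheme.homOfLE_ι_assoc]
  obtain ⟨β', hβ'⟩ := exists_factor_of_dominant (ιt' ∣_ W) (α ∣_ V) jV a' ha'
  have hdβ : (ιt' ∣_ W) ≫ β' = a' := by
    rw [← cancel_mono jV, Category.assoc, hβ', ha']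
  have key : W.ι ≫ π' = β' ≫ B.ι := by
    refine ext_of_dominant (ιt' ∣_ W) _ _ f ?_ ?_
    · rw [Category.assoc, Category.assoc, ← hj, ← Category.assoc β', ← Category.assoc (β' ≫ jV),
        hβ', Category.assoc, morphismRestrict_ι_assoc, hαt]
    · rw [← Category.assoc (ιt' ∣_ W) β', hdβ, morphismRestrict_ι_assoc]
      change _ = (U₀.homOfLE havoid' ≫ ((ιt' ≫ π') ∣_ B)) ≫ B.ι
      rw [Category.assoc, morphismRestrict_ι, Scheme.homOfLE_ι_assoc]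
  intro x hx
  have : π' x = (β' ≫ B.ι) ⟨x, hx⟩ := by
    rw [← key]
    rfl
  change π' x ∈ B
  rw [this]
  exact (β' ⟨x, hx⟩).2

end Groth.Agent.Lib.Helper4.Chow
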