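import Mathlib
import Groth.Agent.Lib.Helper4ChowB

/-!
# Chow's lemma, part C: three closed immersions
-/

set_option autoImplicit false
universe u

namespace Groth.Agent.Lib.Helper4.Chow

open CategoryTheory CategoryTheory.Limits AlgebraicGeometry

/-- (II) restriction of `c : Xt ⟶ X ×_S Q` over an open `B` of `X`. -/
theorem exists_restrict_closedImmersion {X S Q Xt : Scheme.{u}} (f : X ⟶ S) (r : Q ⟶ S)
    (c : Xt ⟶ pullback f r) [IsClosedImmersion c] (B : X.Opens) :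
    ∃ cB : (((c ≫ pullback.fst f r) ⁻¹ᵁ B : Xt.Opens) : Scheme.{u}) ⟶ pullback (B.ι ≫ f) r,
      IsClosedImmersion cB ∧
      cB ≫ pullback.fst (B.ι ≫ f) r = (c ≫ pullback.fst f r) ∣_ B ∧
      cB ≫ pullback.snd (B.ι ≫ f) r =
        ((c ≫ pullback.fst f r) ⁻¹ᵁ B).ι ≫ c ≫ pullback.snd f r := by
  set π := c ≫ pullback.fst f r with hπ
  set Ω : Xt.Opens := π ⁻¹ᵁ B with hΩ
  let w₂ : pullback (B.ι ≫ f) r ⟶ pullback f r :=
    pullback.map (B.ι ≫ f) r f r B.ι (𝟙 Q) (𝟙 S) (by simp) (by simp)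
  have hw₂1 : w₂ ≫ pullback.fst f r = pullback.fst (B.ι ≫ f) r ≫ B.ι := pullback.lift_fst _ _ _
  have hw₂2 : w₂ ≫ pullback.snd f r = pullback.snd (B.ι ≫ f) r ≫ 𝟙 Q := pullback.lift_snd _ _ _
  have hw₂o : IsOpenImmersion w₂ := inferInstance
  have hπf : π ≫ f = c ≫ pullback.snd f r ≫ r := by
    rw [hπ, Category.assoc, pullback.condition]
  have hcond : (π ∣_ B) ≫ (B.ι ≫ f) = (Ω.ι ≫ c ≫ pullback.snd f r) ≫ r := by
    rw [morphismRestrict_ι_assoc, hπf]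
    simp only [Category.assoc]
    rfl
  let cB : (Ω : Scheme.{u}) ⟶ pullback (B.ι ≫ f) r :=
    pullback.lift (π ∣_ B) (Ω.ι ≫ c ≫ pullback.snd f r) hcond
  have hcB1 : cB ≫ pullback.fst (B.ι ≫ f) r = π ∣_ B := pullback.lift_fst _ _ _
  have hcB2 : cB ≫ pullback.snd (B.ι ≫ f) r = Ω.ι ≫ c ≫ pullback.snd f r :=
    pullback.lift_snd _ _ _
  refine ⟨cB, ?_, hcB1, hcB2⟩
  have H : Ω.ι ≫ c = cB ≫ w₂ := by
    apply pullback.hom_ext
    · rw [Category.assoc, Category.assoc, hw₂1, ← Category.assoc cB, hcB1, morphismRestrict_ι]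
    · rw [Category.assoc, Category.assoc, hw₂2, Category.comp_id, hcB2]
  have H' : c ⁻¹ᵁ w₂.opensRange = Ω.ι.opensRange := by
    rw [Scheme.Opens.opensRange_ι]
    ext x
    change c x ∈ Set.range w₂ ↔ π x ∈ B
    rw [Scheme.Pullback.range_map]
    simp only [Set.mem_inter_iff, Set.mem_preimage, Scheme.Opens.range_ι, Scheme.Hom.id_base,
      TopCat.hom_id, ContinuousMap.coe_id, Set.range_id, Set.mem_univ, and_true, SetLike.mem_coe]
    rw [hπ, Scheme.Hom.comp_apply]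
  have hp : IsPullback cB Ω.ι w₂ c := IsOpenImmersion.isPullback cB Ω.ι w₂ c H H'
  exact IsZariskiLocalAtTarget.of_isPullback (P := @IsClosedImmersion) hp.flip inferInstance

/-- (III) base change of `jV : B ⟶ V` to `B ×_S Q ⟶ Q ×_S V`. -/
theorem exists_closedImmersion_swap {X S Q P : Scheme.{u}} (f : X ⟶ S) (r : Q ⟶ S) (t : P ⟶ S)
    (B : X.Opens) (V : P.Opens) (jV : (B : Scheme.{u}) ⟶ (V : Scheme.{u})) [IsClosedImmersion jV]
    (hj : jV ≫ V.ι ≫ t = B.ι ≫ f) :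
    ∃ Ψ : pullback (B.ι ≫ f) r ⟶ pullback r (V.ι ≫ t), IsClosedImmersion Ψ ∧
      Ψ ≫ pullback.fst r (V.ι ≫ t) = pullback.snd (B.ι ≫ f) r ∧
      Ψ ≫ pullback.snd r (V.ι ≫ t) = pullback.fst (B.ι ≫ f) r ≫ jV := by
  have hcond : pullback.snd (B.ι ≫ f) r ≫ r = (pullback.fst (B.ι ≫ f) r ≫ jV) ≫ (V.ι ≫ t) := by
    rw [Category.assoc, hj, pullback.condition]
  let Ψ : pullback (B.ι ≫ f) r ⟶ pullback r (V.ι ≫ t) :=
    pullback.lift (pullback.snd (B.ι ≫ f) r) (pullback.fst (B.ι ≫ f) r ≫ jV) hcond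
  have h1 : Ψ ≫ pullback.fst r (V.ι ≫ t) = pullback.snd (B.ι ≫ f) r := pullback.lift_fst _ _ _
  have h2 : Ψ ≫ pullback.snd r (V.ι ≫ t) = pullback.fst (B.ι ≫ f) r ≫ jV :=
    pullback.lift_snd _ _ _
  refine ⟨Ψ, ?_, h1, h2⟩
  have hbig : IsPullback (Ψ ≫ pullback.fst r (V.ι ≫ t)) (pullback.fst (B.ι ≫ f) r) r
      (jV ≫ (V.ι ≫ t)) := by
    rw [h1, hj]
    exact (IsPullback.of_hasPullback (B.ι ≫ f) r).flip
  have hright : IsPullback (pullback.fst r (V.ι ≫ t)) (pullback.snd r (V.ι ≫ t)) r (V.ι ≫ t) :=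
    IsPullback.of_hasPullback _ _
  have hsq : IsPullback Ψ (pullback.fst (B.ι ≫ f) r) (pullback.snd r (V.ι ≫ t)) jV :=
    IsPullback.of_right hbig h2 hright
  exact MorphismProperty.of_isPullback (P := @IsClosedImmersion) hsq.flip inferInstance

/-- (I) the graph trick: over `B` the new closure projects by a closed immersion. -/
theorem isClosedImmersion_restrict_proj {X S Xt Xt' P : Scheme.{u}} (f : X ⟶ S) (π : Xt ⟶ X)
    (t : P ⟶ S) [IsSeparated t] (k : Xt' ⟶ pullback (π ≫ f) t) [IsClosedImmersion k]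
    (B : X.Opens) (V : P.Opens) (jV : (B : Scheme.{u}) ⟶ (V : Scheme.{u}))
    (hj : jV ≫ V.ι ≫ t = B.ι ≫ f)
    (hTW : ((k ≫ pullback.fst (π ≫ f) t) ≫ π) ⁻¹ᵁ B = (k ≫ pullback.snd (π ≫ f) t) ⁻¹ᵁ V)
    (hcoord : (((k ≫ pullback.fst (π ≫ f) t) ≫ π) ⁻¹ᵁ B).ι ≫ (k ≫ pullback.snd (π ≫ f) t) =
      (((k ≫ pullback.fst (π ≫ f) t) ≫ π) ∣_ B) ≫ jV ≫ V.ι) :
    IsClosedImmersion ((k ≫ pullback.fst (π ≫ f) t) ∣_ (π ⁻¹ᵁ B)) := by
  set ρ : Xt' ⟶ Xt := k ≫ pullback.fst (π ≫ f) t with hρ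
  set α : Xt' ⟶ P := k ≫ pullback.snd (π ≫ f) t with hα
  set ΩB : Xt.Opens := π ⁻¹ᵁ B with hΩB
  set D : Xt'.Opens := ρ ⁻¹ᵁ ΩB with hD
  let κ : (D : Scheme.{u}) ⟶ (ΩB : Scheme.{u}) := ρ ∣_ ΩB
  let w₁ : pullback (ΩB.ι ≫ π ≫ f) (V.ι ≫ t) ⟶ pullback (π ≫ f) t :=
    pullback.map (ΩB.ι ≫ π ≫ f) (V.ι ≫ t) (π ≫ f) t ΩB.ι V.ι (𝟙 S) (by simp) (by simp)
  have hw₁1 : w₁ ≫ pullback.fst (π ≫ f) t = pullback.fst _ _ ≫ ΩB.ι := pullback.lift_fst _ _ _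
  have hw₁2 : w₁ ≫ pullback.snd (π ≫ f) t = pullback.snd _ _ ≫ V.ι := pullback.lift_snd _ _ _
  have hw₁o : IsOpenImmersion w₁ := inferInstance
  have hscond : 𝟙 (ΩB : Scheme.{u}) ≫ (ΩB.ι ≫ π ≫ f) = ((π ∣_ B) ≫ jV) ≫ (V.ι ≫ t) := by
    rw [Category.id_comp, Category.assoc, hj, morphismRestrict_ι_assoc]
  let s : (ΩB : Scheme.{u}) ⟶ pullback (ΩB.ι ≫ π ≫ f) (V.ι ≫ t) :=
    pullback.lift (𝟙 _) ((π ∣_ B) ≫ jV) hscond
  have hs1 : s ≫ pullback.fst (ΩB.ι ≫ π ≫ f) (V.ι ≫ t) = 𝟙 _ := pullback.lift_fst _ _ _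
  have hs2 : s ≫ pullback.snd (ΩB.ι ≫ π ≫ f) (V.ι ≫ t) = (π ∣_ B) ≫ jV :=
    pullback.lift_snd _ _ _
  have hsep : IsSeparated s := by
    have : IsSeparated (s ≫ pullback.fst (ΩB.ι ≫ π ≫ f) (V.ι ≫ t)) := by
      rw [hs1]; infer_instance
    exact IsSeparated.of_comp s (pullback.fst (ΩB.ι ≫ π ≫ f) (V.ι ≫ t))
  have H : D.ι ≫ k = (κ ≫ s) ≫ w₁ := by
    apply pullback.hom_ext
    · rw [Category.assoc, Category.assoc, Category.assoc, hw₁1, ← Category.assoc s, hs1,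
        Category.id_comp]
      exact (morphismRestrict_ι ρ ΩB).symm
    · rw [Category.assoc, Category.assoc, Category.assoc, hw₁2, ← Category.assoc s, hs2]
      have h1 : κ ≫ (π ∣_ B) = (ρ ≫ π) ∣_ B := (morphismRestrict_comp ρ π B).symm
      rw [Category.assoc, ← Category.assoc κ, h1]
      exact hcoord
  have H' : k ⁻¹ᵁ w₁.opensRange = D.ι.opensRange := by
    rw [Scheme.Opens.opensRange_ι]
    ext x
    change k x ∈ Set.range w₁ ↔ x ∈ D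
    rw [Scheme.Pullback.range_map]
    simp only [Set.mem_inter_iff, Set.mem_preimage, Scheme.Opens.range_ι, SetLike.mem_coe]
    have e1 : pullback.fst (π ≫ f) t (k x) = ρ x := by rw [hρ, Scheme.Hom.comp_apply]
    have e2 : pullback.snd (π ≫ f) t (k x) = α x := by rw [hα, Scheme.Hom.comp_apply]
    rw [e1, e2]
    have e3 : α x ∈ V ↔ x ∈ D := by
      have := congr(x ∈ $hTW)
      exact (Iff.of_eq this).symm
    rw [e3]
    constructor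
    · exact fun h => h.2
    · exact fun h => ⟨h, h⟩
  have hp : IsPullback (κ ≫ s) D.ι w₁ k := IsOpenImmersion.isPullback (κ ≫ s) D.ι w₁ k H H'
  have hcl : IsClosedImmersion (κ ≫ s) :=
    IsZariskiLocalAtTarget.of_isPullback (P := @IsClosedImmersion) hp.flip inferInstance
  exact IsClosedImmersion.of_comp κ s

end Groth.Agent.Lib.Helper4.Chow
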