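import Mathlib
import Groth.Agent.Lib.Helper4ChowC

/-!
# Chow's lemma, part D: the closure is an isomorphism over the dense open; the new closed immersion
-/

set_option autoImplicit false
universe u

namespace Groth.Agent.Lib.Helper4.Chow

open CategoryTheory CategoryTheory.Limits AlgebraicGeometry

theorem preimage_range_eq' {S Xt P U₀ : Scheme.{u}} (h : Xt ⟶ S) (t : P ⟶ S)
    [IsSeparated t] (ιt : U₀ ⟶ Xt) [IsOpenImmersion ιt] (g : U₀ ⟶ pullback h t)
    [QuasiCompact g] (hg1 : g ≫ pullback.fst h t = ιt) :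
    ⇑(g.imageι ≫ pullback.fst h t) ⁻¹' Set.range ⇑ιt = Set.range ⇑g.toImage := by
  set R : Xt.Opens := ιt.opensRange with hR
  set Ω : (pullback h t).Opens := pullback.fst h t ⁻¹ᵁ R with hΩ
  have hrange : Set.range ⇑g ⊆ Set.range ⇑Ω.ι := by
    rw [Scheme.Opens.range_ι]
    rintro _ ⟨u, rfl⟩
    change pullback.fst h t (g u) ∈ R
    rw [← Scheme.Hom.comp_apply, hg1]
    exact ⟨u, rfl⟩
  let gΩ : U₀ ⟶ (Ω : Scheme.{u}) := IsOpenImmersion.lift Ω.ι g hrange
  have hgΩ : gΩ ≫ Ω.ι = g := IsOpenImmersion.lift_fac _ _ _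
  have hcomp : gΩ ≫ (pullback.fst h t ∣_ R) = ιt.isoOpensRange.hom := by
    rw [← cancel_mono R.ι, Category.assoc, morphismRestrict_ι, ← Category.assoc, hgΩ, hg1,
      Scheme.Hom.isoOpensRange_hom_ι]
  have hsep : IsSeparated (pullback.fst h t ∣_ R) :=
    IsZariskiLocalAtTarget.restrict (P := @IsSeparated) inferInstance R
  have hcl : IsClosedImmersion gΩ := by
    have : IsClosedImmersion (gΩ ≫ (pullback.fst h t ∣_ R)) := by
      rw [hcomp]; infer_instance
    exact IsClosedImmersion.of_comp gΩ (pullback.fst h t ∣_ R)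
  have hclosed : IsClosed (Set.range ⇑gΩ) := gΩ.isClosedEmbedding.isClosed_range
  have hk : Set.range ⇑g.imageι = closure (Set.range ⇑g) := by
    rw [Scheme.IdealSheafData.range_subschemeι, Scheme.Hom.support_ker]
  ext x'
  constructor
  · intro hx
    have hx1 : g.imageι x' ∈ Ω := by
      change pullback.fst h t (g.imageι x') ∈ R
      rw [← Scheme.Hom.comp_apply]
      exact hx
    have hx2 : g.imageι x' ∈ closure (Set.range ⇑g) := by
      rw [← hk]; exact ⟨x', rfl⟩
    let y' : Ω := ⟨g.imageι x', hx1⟩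
    have hy' : y' ∈ closure (Set.range ⇑gΩ) := by
      rw [Ω.ι.isOpenEmbedding.isInducing.closure_eq_preimage_closure_image]
      change Ω.ι y' ∈ closure (⇑Ω.ι '' Set.range ⇑gΩ)
      have : ⇑Ω.ι '' Set.range ⇑gΩ = Set.range ⇑g := by
        rw [← Set.range_comp, ← hgΩ]
        rfl
      rw [this]
      exact hx2
    rw [hclosed.closure_eq] at hy'
    obtain ⟨u, hu⟩ := hy'
    refine ⟨u, ?_⟩
    apply g.imageι.isClosedEmbedding.injective
    rw [← Scheme.Hom.comp_apply, Scheme.Hom.toImage_imageι]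
    have h1 : (gΩ ≫ Ω.ι) u = Ω.ι y' := by rw [Scheme.Hom.comp_apply, hu]
    rw [hgΩ] at h1
    exact h1
  · rintro ⟨u, rfl⟩
    change (g.imageι ≫ pullback.fst h t) (g.toImage u) ∈ Set.range ⇑ιt
    rw [← Scheme.Hom.comp_apply, Scheme.Hom.toImage_imageι_assoc, hg1]
    exact ⟨u, rfl⟩

theorem preimage_range_eq {X S Xt P U₀ : Scheme.{u}} (f : X ⟶ S) (π : Xt ⟶ X) (t : P ⟶ S)
    [IsSeparated t] (ιt : U₀ ⟶ Xt) [IsOpenImmersion ιt] (g : U₀ ⟶ pullback (π ≫ f) t)
    [QuasiCompact g] (hg1 : g ≫ pullback.fst (π ≫ f) t = ιt) :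
    ⇑(g.imageι ≫ pullback.fst (π ≫ f) t) ⁻¹' Set.range ⇑ιt = Set.range ⇑g.toImage :=
  preimage_range_eq' (π ≫ f) t ιt g hg1

set_option backward.isDefEq.respectTransparency.types false in
/-- the new closed immersion `Xt' ⟶ X ×_S (Q ×_S P)`. -/
theorem exists_closedImmersion_lift {X S Q Xt P Xt' : Scheme.{u}} (f : X ⟶ S) (r : Q ⟶ S)
    [IsSeparated r] (c : Xt ⟶ pullback f r) [IsClosedImmersion c] (t : P ⟶ S) [IsSeparated t]
    (π : Xt ⟶ X) (hπ : π = c ≫ pullback.fst f r) (q : Xt ⟶ Q) (hq : q = c ≫ pullback.snd f r)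
    (k : Xt' ⟶ pullback (π ≫ f) t) [IsClosedImmersion k]
    (mm : pullback (π ≫ f) t ⟶ pullback r t)
    (hmm1 : mm ≫ pullback.fst r t = pullback.fst (π ≫ f) t ≫ q)
    (hmm2 : mm ≫ pullback.snd r t = pullback.snd (π ≫ f) t) :
    ∃ c' : Xt' ⟶ pullback f (pullback.fst r t ≫ r), IsClosedImmersion c' ∧
      c' ≫ pullback.fst f (pullback.fst r t ≫ r) = (k ≫ pullback.fst (π ≫ f) t) ≫ π ∧
      c' ≫ pullback.snd f (pullback.fst r t ≫ r) = k ≫ mm := by
  set r' : pullback r t ⟶ S := pullback.fst r t ≫ r with hr'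
  have hqr : q ≫ r = π ≫ f := by
    rw [hq, hπ, Category.assoc, Category.assoc, pullback.condition]
  have hcond : ((k ≫ pullback.fst (π ≫ f) t) ≫ π) ≫ f = (k ≫ mm) ≫ r' := by
    rw [hr', Category.assoc k mm, ← Category.assoc mm, hmm1]
    simp only [Category.assoc]
    rw [hqr]
  let c' : Xt' ⟶ pullback f r' := pullback.lift ((k ≫ pullback.fst (π ≫ f) t) ≫ π) (k ≫ mm) hcond
  have hc'1 : c' ≫ pullback.fst f r' = (k ≫ pullback.fst (π ≫ f) t) ≫ π := pullback.lift_fst _ _ _
  have hc'2 : c' ≫ pullback.snd f r' = k ≫ mm := pullback.lift_snd _ _ _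
  refine ⟨c', ?_, hc'1, hc'2⟩
  -- the comparison map `w`
  have hcond1 : pullback.fst f r' ≫ f = (pullback.snd f r' ≫ pullback.fst r t) ≫ r := by
    rw [pullback.condition, hr', Category.assoc]
  let w₀ : pullback f r' ⟶ pullback f r :=
    pullback.lift (pullback.fst f r') (pullback.snd f r' ≫ pullback.fst r t) hcond1
  have hw₀1 : w₀ ≫ pullback.fst f r = pullback.fst f r' := pullback.lift_fst _ _ _
  have hw₀2 : w₀ ≫ pullback.snd f r = pullback.snd f r' ≫ pullback.fst r t :=
    pullback.lift_snd _ _ _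
  have hcond2 : w₀ ≫ (pullback.fst f r ≫ f) = (pullback.snd f r' ≫ pullback.snd r t) ≫ t := by
    rw [← Category.assoc, hw₀1, Category.assoc, ← pullback.condition, ← Category.assoc, ← hcond1]
  let w : pullback f r' ⟶ pullback (pullback.fst f r ≫ f) t :=
    pullback.lift w₀ (pullback.snd f r' ≫ pullback.snd r t) hcond2
  have hw1 : w ≫ pullback.fst (pullback.fst f r ≫ f) t = w₀ := pullback.lift_fst _ _ _
  have hw2 : w ≫ pullback.snd (pullback.fst f r ≫ f) t = pullback.snd f r' ≫ pullback.snd r t :=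
    pullback.lift_snd _ _ _
  have hsepw : IsSeparated w := by
    have hr's : IsSeparated r' := by rw [hr']; infer_instance
    have : IsSeparated (w ≫ (pullback.fst (pullback.fst f r ≫ f) t ≫ pullback.fst f r)) := by
      rw [← Category.assoc, hw1, hw₀1]; infer_instance
    exact IsSeparated.of_comp w (pullback.fst (pullback.fst f r ≫ f) t ≫ pullback.fst f r)
  let cP : pullback (π ≫ f) t ⟶ pullback (pullback.fst f r ≫ f) t :=
    pullback.map (π ≫ f) t (pullback.fst f r ≫ f) t c (𝟙 P) (𝟙 S)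
      ((Category.comp_id _).trans (by rw [hπ, Category.assoc]))
      ((Category.comp_id _).trans (Category.id_comp _).symm)
  have hcP1 : cP ≫ pullback.fst (pullback.fst f r ≫ f) t = pullback.fst (π ≫ f) t ≫ c :=
    pullback.lift_fst _ _ _
  have hcP2 : cP ≫ pullback.snd (pullback.fst f r ≫ f) t = pullback.snd (π ≫ f) t ≫ 𝟙 P :=
    pullback.lift_snd _ _ _
  have hcPcl : IsClosedImmersion cP :=
    MorphismProperty.pullbackMap (P := @IsClosedImmersion) (inferInstance : IsClosedImmersion c)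
      (inferInstance : IsClosedImmersion (𝟙 P)) (by rw [hπ, Category.assoc])
      (Category.id_comp _).symm
  have hclaim : c' ≫ w = k ≫ cP := by
    apply pullback.hom_ext
    · rw [Category.assoc, hw1, Category.assoc, hcP1]
      apply pullback.hom_ext
      · rw [Category.assoc, hw₀1, hc'1]
        have e : c ≫ pullback.fst f r = π := hπ.symm
        simp only [Category.assoc, e]
      · rw [Category.assoc, hw₀2, ← Category.assoc, hc'2, Category.assoc, hmm1]
        have e : c ≫ pullback.snd f r = q := hq.symm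
        simp only [Category.assoc, e]
    · rw [Category.assoc, hw2, ← Category.assoc, hc'2, Category.assoc, hmm2, Category.assoc,
        hcP2, Category.comp_id]
  have : IsClosedImmersion (c' ≫ w) := by rw [hclaim]; infer_instance
  exact IsClosedImmersion.of_comp c' w

end Groth.Agent.Lib.Helper4.Chow
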