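import Mathlib
import Groth.Agent.Lib.Helper4ChowD
import Groth.Agent.Lib.Helper27SegreBC
import Groth.Agent.Lib.Helper27ProjSpaceFibres

/-!
# Chow's lemma, part E: the inductive step
-/

set_option autoImplicit false
universe u

namespace Groth.Agent.Lib.Helper4.Chow

open CategoryTheory CategoryTheory.Limits AlgebraicGeometry

/-- a partial Chow datum: a closure `Xt` of `U₀` in `X ×_S Q` with `Q` projective over `S`, such that
the projection to `Q` is locally a closed immersion over the open `A` of `X`. -/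
def Good {X S U₀ : Scheme.{u}} (f : X ⟶ S) (ι : U₀ ⟶ X) (A : X.Opens) : Prop :=
  ∃ (Xt Q : Scheme.{u}) (r : Q ⟶ S) (c : Xt ⟶ pullback f r) (ιt : U₀ ⟶ Xt) (N : ℕ)
    (e : Q ⟶ CohB1.ProjSpaceOver N S),
    IsClosedImmersion c ∧ IsOpenImmersion ιt ∧ QuasiCompact ιt ∧
    IsSchemeTheoreticallyDominant ιt ∧ ιt ≫ c ≫ pullback.fst f r = ι ∧
    (⇑(c ≫ pullback.fst f r) ⁻¹' Set.range ⇑ι = Set.range ⇑ιt) ∧
    IsClosedImmersion e ∧ e ≫ CohB1.ProjSpaceOver.toBase N S = r ∧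
    ∀ x : Xt, (c ≫ pullback.fst f r) x ∈ A → LocCI (c ≫ pullback.snd f r) x

theorem coord_eq_on_preimage' {Xt' X P S U₀ : Scheme.{u}} (π' : Xt' ⟶ X) (ιt' : U₀ ⟶ Xt')
    [QuasiCompact ιt'] [IsSchemeTheoreticallyDominant ιt'] (f : X ⟶ S) (t : P ⟶ S)
    [IsSeparated t] (α : Xt' ⟶ P) (hαt : α ≫ t = π' ≫ f) (B : X.Opens) (V : P.Opens)
    (jV : (B : Scheme.{u}) ⟶ (V : Scheme.{u})) (hj : jV ≫ V.ι ≫ t = B.ι ≫ f)
    (ι : U₀ ⟶ X) (hfac : ιt' ≫ π' = ι)
    (hagree : (ι ⁻¹ᵁ B).ι ≫ ιt' ≫ α = (ι ∣_ B) ≫ jV ≫ V.ι) :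
    (π' ⁻¹ᵁ B).ι ≫ α = (π' ∣_ B) ≫ jV ≫ V.ι := by
  subst hfac
  exact coord_eq_on_preimage π' ιt' f t α hαt B V jV hj hagree

theorem preimage_le_of_avoid' {Xt' X P S U₀ : Scheme.{u}} (π' : Xt' ⟶ X) (ιt' : U₀ ⟶ Xt')
    [QuasiCompact ιt'] [IsSchemeTheoreticallyDominant ιt'] (f : X ⟶ S) [IsSeparated f]
    (t : P ⟶ S) (α : Xt' ⟶ P) (hαt : α ≫ t = π' ≫ f) (B : X.Opens) (V : P.Opens)
    (jV : (B : Scheme.{u}) ⟶ (V : Scheme.{u})) [IsClosedImmersion jV]
    (hj : jV ≫ V.ι ≫ t = B.ι ≫ f) (ι : U₀ ⟶ X) (hfac : ιt' ≫ π' = ι)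
    (hagree : (ι ⁻¹ᵁ B).ι ≫ ιt' ≫ α = (ι ∣_ B) ≫ jV ≫ V.ι)
    (havoid : (ιt' ≫ α) ⁻¹ᵁ V ≤ ι ⁻¹ᵁ B) :
    α ⁻¹ᵁ V ≤ π' ⁻¹ᵁ B := by
  subst hfac
  exact preimage_le_of_avoid π' ιt' f t α hαt B V jV hj hagree havoid

theorem exists_restrict_closedImmersion' {X S Q Xt : Scheme.{u}} (f : X ⟶ S) (r : Q ⟶ S)
    (c : Xt ⟶ pullback f r) [IsClosedImmersion c] (π : Xt ⟶ X) (hπ : π = c ≫ pullback.fst f r)
    (q : Xt ⟶ Q) (hq : q = c ≫ pullback.snd f r) (B : X.Opens) :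
    ∃ cB : ((π ⁻¹ᵁ B : Xt.Opens) : Scheme.{u}) ⟶ pullback (B.ι ≫ f) r,
      IsClosedImmersion cB ∧ cB ≫ pullback.fst (B.ι ≫ f) r = π ∣_ B ∧
      cB ≫ pullback.snd (B.ι ≫ f) r = (π ⁻¹ᵁ B).ι ≫ q := by
  subst hπ hq
  exact exists_restrict_closedImmersion f r c B

set_option backward.isDefEq.respectTransparency.types false in
/-- core of the step with `π`, `q` generalised. -/
theorem good_step_aux {X S U₀ Xt Q P : Scheme.{u}} (f : X ⟶ S) [IsSeparated f] (ι : U₀ ⟶ X)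
    (A : X.Opens) (r : Q ⟶ S) (c : Xt ⟶ pullback f r) (ιt : U₀ ⟶ Xt) (N : ℕ)
    (e : Q ⟶ CohB1.ProjSpaceOver N S) [IsClosedImmersion c] [IsOpenImmersion ιt] [QuasiCompact ιt]
    [IsSchemeTheoreticallyDominant ιt] (π : Xt ⟶ X) (hπ : π = c ≫ pullback.fst f r)
    (q : Xt ⟶ Q) (hq : q = c ≫ pullback.snd f r) (fac : ιt ≫ π = ι)
    (hpre : ⇑π ⁻¹' Set.range ⇑ι = Set.range ⇑ιt) [IsClosedImmersion e]
    (her : e ≫ CohB1.ProjSpaceOver.toBase N S = r)
    (hloc : ∀ x : Xt, π x ∈ A → LocCI q x)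
    (B : X.Opens) (t : P ⟶ S) (M : ℕ)
    (eP : P ⟶ CohB1.ProjSpaceOver M S) [IsClosedImmersion eP]
    (heP : eP ≫ CohB1.ProjSpaceOver.toBase M S = t)
    (V : P.Opens) (jV : (B : Scheme.{u}) ⟶ (V : Scheme.{u})) [IsClosedImmersion jV]
    (hj : jV ≫ V.ι ≫ t = B.ι ≫ f)
    (a : U₀ ⟶ P) (ha : a ≫ t = ι ≫ f)
    (hagree : (ι ⁻¹ᵁ B).ι ≫ a = (ι ∣_ B) ≫ jV ≫ V.ι)
    (havoid : a ⁻¹ᵁ V ≤ ι ⁻¹ᵁ B) : Good f ι (A ⊔ B) := by
  have hpt : IsProper t := by
    have := Groth.Agent.Lib.Helper27ProjSpaceFibres.isProper_toBase M S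
    rw [← heP]; infer_instance
  have hpr : IsProper r := by
    have := Groth.Agent.Lib.Helper27ProjSpaceFibres.isProper_toBase N S
    rw [← her]; infer_instance
  have hqr : q ≫ r = π ≫ f := by
    rw [hq, hπ, Category.assoc, Category.assoc, pullback.condition]
  have hgcond : ιt ≫ (π ≫ f) = a ≫ t := by
    rw [ha, ← fac, Category.assoc]
  let g : U₀ ⟶ pullback (π ≫ f) t := pullback.lift ιt a hgcond
  have hg1 : g ≫ pullback.fst (π ≫ f) t = ιt := pullback.lift_fst _ _ _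
  have hg2 : g ≫ pullback.snd (π ≫ f) t = a := pullback.lift_snd _ _ _
  have hgi : IsImmersion g := by
    have : IsImmersion (g ≫ pullback.fst (π ≫ f) t) := by rw [hg1]; infer_instance
    exact IsImmersion.of_comp g (pullback.fst (π ≫ f) t)
  have hgq : QuasiCompact g := by
    have : QuasiCompact (g ≫ pullback.fst (π ≫ f) t) := by rw [hg1]; infer_instance
    exact QuasiCompact.of_comp g (pullback.fst (π ≫ f) t)
  have hιd' : IsSchemeTheoreticallyDominant g.toImage :=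
    Groth.Agent.Lib.Helper10.SchDense.isSchemeTheoreticallyDominant_toImage g
  let mm : pullback (π ≫ f) t ⟶ pullback r t :=
    pullback.map (π ≫ f) t r t q (𝟙 P) (𝟙 S) (by rw [Category.comp_id, hqr])
      (by rw [Category.comp_id, Category.id_comp])
  have hmm1 : mm ≫ pullback.fst r t = pullback.fst (π ≫ f) t ≫ q := pullback.lift_fst _ _ _
  have hmm2 : mm ≫ pullback.snd r t = pullback.snd (π ≫ f) t := by
    have : mm ≫ pullback.snd r t = pullback.snd (π ≫ f) t ≫ 𝟙 P := pullback.lift_snd _ _ _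
    rw [this, Category.comp_id]
  obtain ⟨c', hc', hc'1, hc'2⟩ :=
    exists_closedImmersion_lift f r c t π hπ q hq g.imageι mm hmm1 hmm2
  obtain ⟨φ, hφ, hφb⟩ := Groth.Agent.Lib.Helper27SegreBC.exists_segre_over S N M
  let em : pullback r t ⟶ pullback (CohB1.ProjSpaceOver.toBase N S)
      (CohB1.ProjSpaceOver.toBase M S) :=
    pullback.map r t (CohB1.ProjSpaceOver.toBase N S) (CohB1.ProjSpaceOver.toBase M S) e eP (𝟙 S)
      ((Category.comp_id _).trans her.symm) ((Category.comp_id _).trans heP.symm)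
  have hem1 : em ≫ pullback.fst _ _ = pullback.fst r t ≫ e := pullback.lift_fst _ _ _
  have hemcl : IsClosedImmersion em :=
    MorphismProperty.pullbackMap (P := @IsClosedImmersion) (inferInstance : IsClosedImmersion e)
      (inferInstance : IsClosedImmersion eP) her.symm heP.symm
  set π' : g.image ⟶ X := (g.imageι ≫ pullback.fst (π ≫ f) t) ≫ π with hπ'
  set α : g.image ⟶ P := g.imageι ≫ pullback.snd (π ≫ f) t with hα
  have fac' : g.toImage ≫ π' = ι := by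
    rw [hπ', ← Category.assoc, ← Category.assoc, Scheme.Hom.toImage_imageι, hg1, fac]
  have hαa : g.toImage ≫ α = a := by
    rw [hα, ← Category.assoc, Scheme.Hom.toImage_imageι, hg2]
  have hαt : α ≫ t = π' ≫ f := by
    rw [hα, hπ', Category.assoc, ← pullback.condition]
    simp only [Category.assoc]
  refine ⟨g.image, pullback r t, pullback.fst r t ≫ r, c', g.toImage, N * M + N + M, em ≫ φ,
    hc', inferInstance, inferInstance, hιd', ?_, ?_, inferInstance, ?_, ?_⟩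
  · rw [hc'1]; exact fac'
  · rw [hc'1, ← preimage_range_eq f π t ιt g hg1, ← hpre]
    rfl
  · rw [Category.assoc, hφb, ← Category.assoc, hem1, Category.assoc, her]
  · intro x' hx'
    rw [hc'1] at hx'
    rw [hc'2]
    rcases hx' with hxA | hxB
    · -- over `A`
      obtain ⟨O, hxO, hO⟩ := hloc ((g.imageι ≫ pullback.fst (π ≫ f) t) x') hxA
      have hmmpb : IsPullback mm (pullback.fst (π ≫ f) t) (pullback.fst r t) q := by
        have hbig : IsPullback (mm ≫ pullback.snd r t) (pullback.fst (π ≫ f) t) t (q ≫ r) := by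
          rw [hmm2, hqr]
          exact (IsPullback.of_hasPullback (π ≫ f) t).flip
        exact IsPullback.of_right hbig hmm1 (IsPullback.of_hasPullback r t).flip
      have h1 : IsClosedImmersion (mm ∣_ (pullback.fst r t ⁻¹ᵁ O)) :=
        isClosedImmersion_restrict_of_isPullback hmmpb O hO
      refine ⟨pullback.fst r t ⁻¹ᵁ O, ?_, ?_⟩
      · change pullback.fst r t ((g.imageι ≫ mm) x') ∈ O
        rw [← Scheme.Hom.comp_apply, Category.assoc, hmm1, ← Category.assoc]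
        exact hxO
      · rw [morphismRestrict_comp]
        have h0 : IsClosedImmersion (g.imageι ∣_ (mm ⁻¹ᵁ (pullback.fst r t ⁻¹ᵁ O))) :=
          IsZariskiLocalAtTarget.restrict (P := @IsClosedImmersion) inferInstance _
        exact MorphismProperty.comp_mem _ _ _ h0 h1
    · -- over `B`
      have hagree' : (ι ⁻¹ᵁ B).ι ≫ g.toImage ≫ α = (ι ∣_ B) ≫ jV ≫ V.ι := by
        rw [hαa]; exact hagree
      have havoid' : (g.toImage ≫ α) ⁻¹ᵁ V ≤ ι ⁻¹ᵁ B := by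
        rw [hαa]; exact havoid
      have hcoord := coord_eq_on_preimage' π' g.toImage f t α hαt B V jV hj ι fac' hagree'
      have hle2 := preimage_le_of_avoid' π' g.toImage f t α hαt B V jV hj ι fac' hagree' havoid'
      have hle1 : π' ⁻¹ᵁ B ≤ α ⁻¹ᵁ V := by
        intro y hy
        have h2 : α y = ((π' ⁻¹ᵁ B).ι ≫ α) ⟨y, hy⟩ := rfl
        change α y ∈ V
        rw [h2, hcoord]
        exact (((π' ∣_ B) ≫ jV) ⟨y, hy⟩).2
      have hTW : π' ⁻¹ᵁ B = α ⁻¹ᵁ V := le_antisymm hle1 hle2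
      have hκ : IsClosedImmersion ((g.imageι ≫ pullback.fst (π ≫ f) t) ∣_ (π ⁻¹ᵁ B)) :=
        isClosedImmersion_restrict_proj f π t g.imageι B V jV hj hTW hcoord
      obtain ⟨cB, hcB, hcB1, hcB2⟩ := exists_restrict_closedImmersion' f r c π hπ q hq B
      obtain ⟨Ψ, hΨ, hΨ1, hΨ2⟩ := exists_closedImmersion_swap f r t B V jV hj
      set ρ : g.image ⟶ Xt := g.imageι ≫ pullback.fst (π ≫ f) t with hρ
      set D : g.image.Opens := ρ ⁻¹ᵁ (π ⁻¹ᵁ B) with hD
      let f' : (D : Scheme.{u}) ⟶ pullback r (V.ι ≫ t) := (ρ ∣_ (π ⁻¹ᵁ B)) ≫ cB ≫ Ψ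
      let w₃ : pullback r (V.ι ≫ t) ⟶ pullback r t :=
        pullback.map r (V.ι ≫ t) r t (𝟙 Q) V.ι (𝟙 S) (by simp) (by simp)
      have hw₃1 : w₃ ≫ pullback.fst r t = pullback.fst r (V.ι ≫ t) ≫ 𝟙 Q := pullback.lift_fst _ _ _
      have hw₃2 : w₃ ≫ pullback.snd r t = pullback.snd r (V.ι ≫ t) ≫ V.ι := pullback.lift_snd _ _ _
      have hw₃o : IsOpenImmersion w₃ := inferInstance
      have H : D.ι ≫ (g.imageι ≫ mm) = f' ≫ w₃ := by
        apply pullback.hom_ext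
        · simp only [f', Category.assoc]
          rw [hw₃1, Category.comp_id, hΨ1, hcB2, hmm1, morphismRestrict_ι_assoc]
          rfl
        · simp only [f', Category.assoc]
          rw [hw₃2, hmm2, ← Category.assoc Ψ, hΨ2, Category.assoc, ← Category.assoc cB, hcB1]
          have h1 : (ρ ∣_ (π ⁻¹ᵁ B)) ≫ (π ∣_ B) = (ρ ≫ π) ∣_ B := (morphismRestrict_comp ρ π B).symm
          rw [← Category.assoc (ρ ∣_ (π ⁻¹ᵁ B)), h1]
          exact hcoord
      have H' : (g.imageι ≫ mm) ⁻¹ᵁ w₃.opensRange = D.ι.opensRange := by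
        rw [Scheme.Opens.opensRange_ι]
        ext y
        change (g.imageι ≫ mm) y ∈ Set.range w₃ ↔ y ∈ D
        rw [Scheme.Pullback.range_map]
        simp only [Set.mem_inter_iff, Set.mem_preimage, Scheme.Opens.range_ι, SetLike.mem_coe,
          Scheme.Hom.id_base, TopCat.hom_id, ContinuousMap.coe_id, Set.range_id, Set.mem_univ,
          true_and]
        have e2 : pullback.snd r t ((g.imageι ≫ mm) y) = α y := by
          rw [← Scheme.Hom.comp_apply, Category.assoc, hmm2]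
        rw [e2]
        have := congr(y ∈ $hTW)
        exact (Iff.of_eq this).symm
      have hf' : IsClosedImmersion f' := inferInstance
      have hR := isClosedImmersion_restrict_opensRange (g.imageι ≫ mm) D.ι w₃ f' H H' hf'
      refine ⟨w₃.opensRange, ?_, hR⟩
      have hxD : x' ∈ D := hxB
      have : x' ∈ (g.imageι ≫ mm) ⁻¹ᵁ w₃.opensRange := by
        rw [H', Scheme.Opens.opensRange_ι]; exact hxD
      exact this

/-- the inductive step: adding an open `B` with a closed immersion into an open of a projective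
`P`, and a compatible map `a : U₀ ⟶ P` avoiding `V` off `B`. -/
theorem good_step {X S U₀ P : Scheme.{u}} (f : X ⟶ S) [IsSeparated f] (ι : U₀ ⟶ X)
    (A : X.Opens) (hA : Good f ι A)
    (B : X.Opens) (t : P ⟶ S) (M : ℕ)
    (eP : P ⟶ CohB1.ProjSpaceOver M S) [IsClosedImmersion eP]
    (heP : eP ≫ CohB1.ProjSpaceOver.toBase M S = t)
    (V : P.Opens) (jV : (B : Scheme.{u}) ⟶ (V : Scheme.{u})) [IsClosedImmersion jV]
    (hj : jV ≫ V.ι ≫ t = B.ι ≫ f)
    (a : U₀ ⟶ P) (ha : a ≫ t = ι ≫ f)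
    (hagree : (ι ⁻¹ᵁ B).ι ≫ a = (ι ∣_ B) ≫ jV ≫ V.ι)
    (havoid : a ⁻¹ᵁ V ≤ ι ⁻¹ᵁ B) : Good f ι (A ⊔ B) := by
  obtain ⟨Xt, Q, r, c, ιt, N, e, h1, h2, h3, h4, h5, h6, h7, h8, h9⟩ := hA
  exact good_step_aux f ι A r c ιt N e (c ≫ pullback.fst f r) rfl (c ≫ pullback.snd f r) rfl
    h5 h6 h8 h9 B t M eP heP V jV hj a ha hagree havoid

end Groth.Agent.Lib.Helper4.Chow
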