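import Mathlib
import Groth.Agent.Lib.Helper4ChowE
import Groth.Agent.Lib.Helper27P1Cover

/-!
# Chow's lemma, part F: base case, induction over a finite cover, final assembly
-/

set_option autoImplicit false
set_option linter.style.haveILetI false
universe u

namespace Groth.Agent.Lib.Helper4.Chow

open CategoryTheory CategoryTheory.Limits AlgebraicGeometry

theorem good_bot {X S U₀ : Scheme.{u}} (f : X ⟶ S) (ι : U₀ ⟶ X) [IsOpenImmersion ι]
    [QuasiCompact ι] : Good f ι ⊥ := by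
  set r : CohB1.ProjSpaceOver 1 S ⟶ S := CohB1.ProjSpaceOver.toBase 1 S with hr
  have hpr : IsProper r := Groth.Agent.Lib.Helper27ProjSpaceFibres.isProper_toBase 1 S
  have hcond : ι ≫ f = (ι ≫ f ≫ P1.sect S 0) ≫ r := by
    rw [Category.assoc, Category.assoc, hr, Groth.Agent.Lib.Helper27P1Cover.sect_toBase,
      Category.comp_id]
  let g : U₀ ⟶ pullback f r := pullback.lift ι (ι ≫ f ≫ P1.sect S 0) hcond
  have hg1 : g ≫ pullback.fst f r = ι := pullback.lift_fst _ _ _
  have hgi : IsImmersion g := by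
    have : IsImmersion (g ≫ pullback.fst f r) := by rw [hg1]; infer_instance
    exact IsImmersion.of_comp g (pullback.fst f r)
  have hgq : QuasiCompact g := by
    have : QuasiCompact (g ≫ pullback.fst f r) := by rw [hg1]; infer_instance
    exact QuasiCompact.of_comp g (pullback.fst f r)
  refine ⟨g.image, CohB1.ProjSpaceOver 1 S, r, g.imageι, g.toImage, 1, 𝟙 _, inferInstance,
    inferInstance, inferInstance,
    Groth.Agent.Lib.Helper10.SchDense.isSchemeTheoreticallyDominant_toImage g, ?_, ?_,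
    inferInstance, Category.id_comp _, ?_⟩
  · rw [← Category.assoc, Scheme.Hom.toImage_imageι, hg1]
  · exact preimage_range_eq' f r ι g hg1
  · intro x hx
    exact absurd hx (by simp)

theorem chow_of_good_top {X S U₀ : Scheme.{u}} (f : X ⟶ S) (ι : U₀ ⟶ X) [IsOpenImmersion ι]
    (hd : Dense (Set.range ⇑ι)) (h : Good f ι ⊤) :
    ∃ (n : ℕ) (X' : Scheme.{u}) (π : X' ⟶ X) (j : X' ⟶ CohB1.ProjSpaceOver n S),
      IsImmersion j ∧ j ≫ CohB1.ProjSpaceOver.toBase n S = π ≫ f ∧ IsProper π ∧ Surjective π ∧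
      ∃ U : X.Opens, Dense (U : Set X) ∧ IsIso (π ∣_ U) := by
  obtain ⟨Xt, Q, r, c, ιt, N, e, h1, h2, h3, h4, h5, h6, h7, h8, h9⟩ := h
  have hpr : IsProper r := by
    have := Groth.Agent.Lib.Helper27ProjSpaceFibres.isProper_toBase N S
    rw [← h8]; infer_instance
  have hq : IsImmersion (c ≫ pullback.snd f r) :=
    isImmersion_of_locCI _ (fun x => h9 x trivial)
  set π : Xt ⟶ X := c ≫ pullback.fst f r with hπ
  have hπp : IsProper π := by rw [hπ]; infer_instance
  refine ⟨N, Xt, π, (c ≫ pullback.snd f r) ≫ e, inferInstance, ?_, hπp, ?_, ι.opensRange, ?_,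
    ?_⟩
  · rw [Category.assoc, Category.assoc, h8, hπ, Category.assoc, pullback.condition]
  · constructor
    have hcl : IsClosed (Set.range ⇑π) := π.isClosedMap.isClosed_range
    have hsub : Set.range ⇑ι ⊆ Set.range ⇑π := by
      rw [← h5]
      rintro _ ⟨u, rfl⟩
      exact ⟨ιt u, rfl⟩
    have hd' : Dense (Set.range ⇑π) := hd.mono hsub
    have huniv : Set.range ⇑π = Set.univ := by
      rw [← hcl.closure_eq, hd'.closure_eq]
    exact Set.range_eq_univ.mp huniv
  · rw [Scheme.Hom.coe_opensRange]; exact hd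
  · have hpre : π ⁻¹ᵁ ι.opensRange = ιt.opensRange := by
      ext x
      exact Set.ext_iff.mp h6 x
    have hrange : Set.range ⇑ιt ⊆ Set.range ⇑(π ⁻¹ᵁ ι.opensRange).ι := by
      rw [Scheme.Opens.range_ι, hpre]
      rfl
    let φ : U₀ ⟶ ((π ⁻¹ᵁ ι.opensRange : Xt.Opens) : Scheme.{u}) :=
      IsOpenImmersion.lift (π ⁻¹ᵁ ι.opensRange).ι ιt hrange
    have hφ : φ ≫ (π ⁻¹ᵁ ι.opensRange).ι = ιt := IsOpenImmersion.lift_fac _ _ _
    have hφo : IsOpenImmersion φ := by
      have : IsOpenImmersion (φ ≫ (π ⁻¹ᵁ ι.opensRange).ι) := by rw [hφ]; infer_instance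
      exact IsOpenImmersion.of_comp φ (π ⁻¹ᵁ ι.opensRange).ι
    have hφs : Function.Surjective ⇑φ := by
      intro y
      have hy : (y.1 : Xt) ∈ ιt.opensRange := by rw [← hpre]; exact y.2
      obtain ⟨u, hu⟩ := hy
      refine ⟨u, ?_⟩
      apply (π ⁻¹ᵁ ι.opensRange).ι.isOpenEmbedding.injective
      rw [← Scheme.Hom.comp_apply, hφ]
      exact hu
    have hφi : IsIso φ := by
      have : Surjective φ := ⟨hφs⟩
      exact (isIso_iff_isOpenImmersion_and_surjective φ).mpr ⟨hφo, this⟩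
    have hcomp : φ ≫ (π ∣_ ι.opensRange) = ι.isoOpensRange.hom := by
      rw [← cancel_mono ι.opensRange.ι, Category.assoc, morphismRestrict_ι, ← Category.assoc, hφ,
        Scheme.Hom.isoOpensRange_hom_ι]
      exact h5
    have : π ∣_ ι.opensRange = inv φ ≫ ι.isoOpensRange.hom := by
      rw [← hcomp, IsIso.inv_hom_id_assoc]
    rw [this]
    infer_instance

theorem chow_of_cover {X S U₀ : Scheme.{u}} {κ : Type*} (f : X ⟶ S) [IsSeparated f] (ι : U₀ ⟶ X)
    [IsOpenImmersion ι] [QuasiCompact ι] (hd : Dense (Set.range ⇑ι))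
    (s : Finset κ) (B : κ → X.Opens) (hB : ⨆ i ∈ s, B i = ⊤)
    (P : κ → Scheme.{u}) (t : ∀ i, P i ⟶ S) (M : κ → ℕ)
    (eP : ∀ i, P i ⟶ CohB1.ProjSpaceOver (M i) S) (hcl : ∀ i, IsClosedImmersion (eP i))
    (heP : ∀ i, eP i ≫ CohB1.ProjSpaceOver.toBase (M i) S = t i)
    (V : ∀ i, (P i).Opens) (jV : ∀ i, ((B i : X.Opens) : Scheme.{u}) ⟶ ((V i : (P i).Opens) : Scheme.{u}))
    (hjcl : ∀ i, IsClosedImmersion (jV i))
    (hj : ∀ i, jV i ≫ (V i).ι ≫ t i = (B i).ι ≫ f)
    (a : ∀ i, U₀ ⟶ P i) (ha : ∀ i, a i ≫ t i = ι ≫ f)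
    (hagree : ∀ i, (ι ⁻¹ᵁ B i).ι ≫ a i = (ι ∣_ B i) ≫ jV i ≫ (V i).ι)
    (havoid : ∀ i, a i ⁻¹ᵁ V i ≤ ι ⁻¹ᵁ B i) :
    ∃ (n : ℕ) (X' : Scheme.{u}) (π : X' ⟶ X) (j : X' ⟶ CohB1.ProjSpaceOver n S),
      IsImmersion j ∧ j ≫ CohB1.ProjSpaceOver.toBase n S = π ≫ f ∧ IsProper π ∧ Surjective π ∧
      ∃ U : X.Opens, Dense (U : Set X) ∧ IsIso (π ∣_ U) := by
  classical
  have key : ∀ s' : Finset κ, Good f ι (⨆ i ∈ s', B i) := by
    intro s'
    induction s' using Finset.induction_on with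
    | empty =>
      simp only [Finset.notMem_empty, iSup_false, iSup_bot]
      exact good_bot f ι
    | insert k s' hk ih =>
      rw [Finset.iSup_insert, sup_comm]
      haveI := hcl k
      haveI := hjcl k
      exact good_step f ι _ ih (B k) (t k) (M k) (eP k) (heP k) (V k) (jV k) (hj k) (a k) (ha k)
        (hagree k) (havoid k)
  have htop := key s
  rw [hB] at htop
  exact chow_of_good_top f ι hd htop

end Groth.Agent.Lib.Helper4.Chow
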