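import Mathlib
import Groth.Agent.Lib.Helper27ChartPoly
import Groth.Agent.Lib.Helper27ProjSpaceFibres

/-!
# Base change maps between `P^n_T` and `P^n_S`; affine-to-projective factorization (helper27)
-/

set_option autoImplicit false
universe u

open CategoryTheory CategoryTheory.Limits AlgebraicGeometry HomogeneousLocalization MvPolynomial

namespace Groth.Agent.Lib.Helper27ProjOverBC

open Groth.Agent.Lib.Helper27ProjSpaceBC Groth.Agent.Lib.Helper27DehomAway
  Groth.Agent.Lib.Helper27ChartPoly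

theorem isPullback_congr {C : Type*} [Category C] {P X Y Z : C} {fst fst' : P ⟶ X} {snd : P ⟶ Y}
    {f : X ⟶ Z} {g g' : Y ⟶ Z} (h : IsPullback fst snd f g) (h1 : fst = fst') (h2 : g = g') :
    IsPullback fst' snd f g' := by
  subst h1 h2
  exact h

section BC
variable (n : ℕ) {T S : Scheme.{u}} (g : T ⟶ S)

/-- the map `P^n_T ⟶ P^n_S` over `g : T ⟶ S`. -/
noncomputable def bcOver : CohB1.ProjSpaceOver n T ⟶ CohB1.ProjSpaceOver n S :=
  pullback.lift (pullback.fst (CohB1.ProjSpace.toSpec n (ULift.{u} ℤ))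
      (specULiftZIsTerminal.from T))
    (pullback.snd (CohB1.ProjSpace.toSpec n (ULift.{u} ℤ)) (specULiftZIsTerminal.from T) ≫ g) (by
    have h1 := pullback.condition (f := CohB1.ProjSpace.toSpec n (ULift.{u} ℤ))
      (g := specULiftZIsTerminal.from T)
    have h2 : g ≫ specULiftZIsTerminal.from S = specULiftZIsTerminal.from T :=
      specULiftZIsTerminal.hom_ext _ _
    exact h1.trans ((congrArg (fun t => pullback.snd (CohB1.ProjSpace.toSpec n (ULift.{u} ℤ))
      (specULiftZIsTerminal.from T) ≫ t) h2.symm).trans (Category.assoc _ _ _).symm))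

theorem bcOver_toBase :
    bcOver n g ≫ CohB1.ProjSpaceOver.toBase n S = CohB1.ProjSpaceOver.toBase n T ≫ g :=
  pullback.lift_snd _ _ _

theorem bcOver_fst :
    bcOver n g ≫ pullback.fst (CohB1.ProjSpace.toSpec n (ULift.{u} ℤ))
      (specULiftZIsTerminal.from S) =
      pullback.fst (CohB1.ProjSpace.toSpec n (ULift.{u} ℤ)) (specULiftZIsTerminal.from T) :=
  pullback.lift_fst _ _ _

theorem isPullback_bcOver :
    IsPullback (bcOver n g) (CohB1.ProjSpaceOver.toBase n T) (CohB1.ProjSpaceOver.toBase n S) g := by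
  refine IsPullback.of_right (h₁₂ := pullback.fst (CohB1.ProjSpace.toSpec n (ULift.{u} ℤ))
      (specULiftZIsTerminal.from S)) (v₁₃ := CohB1.ProjSpace.toSpec n (ULift.{u} ℤ))
      (h₂₂ := specULiftZIsTerminal.from S) ?_ (bcOver_toBase n g)
      (IsPullback.of_hasPullback _ _)
  have h2 : g ≫ specULiftZIsTerminal.from S = specULiftZIsTerminal.from T :=
    specULiftZIsTerminal.hom_ext _ _
  have h3 : IsPullback (pullback.fst (CohB1.ProjSpace.toSpec n (ULift.{u} ℤ))
      (specULiftZIsTerminal.from T)) (CohB1.ProjSpaceOver.toBase n T)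
      (CohB1.ProjSpace.toSpec n (ULift.{u} ℤ)) (specULiftZIsTerminal.from T) :=
    IsPullback.of_hasPullback _ _
  exact isPullback_congr h3 (bcOver_fst n g).symm h2.symm

set_option backward.isDefEq.respectTransparency.types false in
instance isOpenImmersion_bcOver [IsOpenImmersion g] : IsOpenImmersion (bcOver n g) :=
  MorphismProperty.of_isPullback (P := @IsOpenImmersion) (isPullback_bcOver n g).flip inferInstance

end BC

section Chart
variable (n : ℕ) (A : Type u) [CommRing A]

/-- `overIso` with source `Proj`. -/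
noncomputable def ovP :
    Proj (CohB1.polyGrading n A) ≅ CohB1.ProjSpaceOver n (Spec (CommRingCat.of A)) :=
  overIso n A

theorem ovP_hom_toBase :
    (ovP n A).hom ≫ CohB1.ProjSpaceOver.toBase n (Spec (CommRingCat.of A)) = toSpec' n A :=
  overIso_hom_toBase n A

/-- the zeroth standard chart of `P^n_A`. -/
noncomputable def chart0 :
    Spec (CommRingCat.of (Away (CohB1.polyGrading n A) (X (0 : Fin (n + 1))))) ⟶
      CohB1.ProjSpaceOver n (Spec (CommRingCat.of A)) :=
  Proj.awayι (CohB1.polyGrading n A) (X 0) (hX n A 0) Nat.one_pos ≫ (ovP n A).hom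

instance : IsOpenImmersion (chart0 n A) := by
  unfold chart0
  infer_instance

theorem chart0_toBase :
    chart0 n A ≫ CohB1.ProjSpaceOver.toBase n (Spec (CommRingCat.of A)) =
      Spec.map (CommRingCat.ofHom (strA (CohB1.polyGrading n A) (X 0))) := by
  unfold chart0
  rw [Category.assoc, ovP_hom_toBase]
  exact awayι_toSpec n A (X 0) (hX n A 0)

end Chart

section Affine
variable {A B : Type u} [CommRing A] [CommRing B] (φ : A →+* B)

theorem exists_surj (hφ : φ.FiniteType) :
    ∃ (n : ℕ) (c : Fin (n + 1) → B) (hc : c 0 = 1), Function.Surjective (evB φ 0 c hc) := by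
  algebraize [φ]
  obtain ⟨n, f, hf⟩ := Algebra.FiniteType.iff_quotient_mvPolynomial''.mp hφ
  obtain ⟨c, hc0, hcs⟩ : ∃ c : Fin (n + 1) → B, c 0 = 1 ∧ ∀ j : Fin n, c j.succ = f (X j) :=
    ⟨Fin.cases 1 (fun j => f (X j)), rfl, fun j => rfl⟩
  refine ⟨n, c, hc0, fun b => ?_⟩
  obtain ⟨p, rfl⟩ := hf b
  refine ⟨dehA (hX n A 0) (rename Fin.succ p), ?_⟩
  rw [evB_dehA, coe_eval₂Hom, eval₂_rename]
  have h1 : f p = aeval (fun j => f (X j)) p := by
    conv_lhs => rw [MvPolynomial.aeval_unique f]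
    rfl
  rw [h1]
  have h2 : c ∘ Fin.succ = fun j => f (X j) := funext hcs
  rw [h2]
  rfl

theorem exists_factor (hφ : φ.FiniteType) :
    ∃ (n : ℕ) (j : Spec (CommRingCat.of B) ⟶ CohB1.ProjSpaceOver n (Spec (CommRingCat.of A))),
      IsImmersion j ∧ j ≫ CohB1.ProjSpaceOver.toBase n (Spec (CommRingCat.of A)) =
        Spec.map (CommRingCat.ofHom φ) := by
  obtain ⟨n, c, hc, hsurj⟩ := exists_surj φ hφ
  have : IsClosedImmersion (Spec.map (CommRingCat.ofHom (evB φ 0 c hc))) :=
    IsClosedImmersion.spec_of_surjective _ hsurj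
  refine ⟨n, Spec.map (CommRingCat.ofHom (evB φ 0 c hc)) ≫ chart0 n A, inferInstance, ?_⟩
  rw [Category.assoc, chart0_toBase, ← Spec.map_comp, ← CommRingCat.ofHom_comp, evB_comp_strA]

end Affine

section Sch

theorem exists_factor_scheme {X Y : Scheme.{u}} (f : X ⟶ Y) [LocallyOfFiniteType f]
    (U : X.Opens) (hU : IsAffineOpen U) (V : Y.Opens) (hV : IsAffineOpen V) (hUV : U ≤ f ⁻¹ᵁ V) :
    ∃ (n : ℕ) (j : (U : Scheme.{u}) ⟶ CohB1.ProjSpaceOver n Y), IsImmersion j ∧
      j ≫ CohB1.ProjSpaceOver.toBase n Y = U.ι ≫ f := by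
  have hφ : (f.appLE V U hUV).hom.FiniteType :=
    HasRingHomProperty.appLE (P := @LocallyOfFiniteType) f inferInstance ⟨V, hV⟩ ⟨U, hU⟩ hUV
  obtain ⟨n, j₀, hj₀, hcomp⟩ := exists_factor (f.appLE V U hUV).hom hφ
  refine ⟨n, hU.isoSpec.hom ≫ j₀ ≫ bcOver n hV.fromSpec, inferInstance, ?_⟩
  rw [Category.assoc, Category.assoc, bcOver_toBase, reassoc_of% hcomp]
  have h1 : Spec.map (CommRingCat.ofHom (f.appLE V U hUV).hom) ≫ hV.fromSpec =
      hU.fromSpec ≫ f := IsAffineOpen.SpecMap_appLE_fromSpec f hV hU hUV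
  rw [h1, IsAffineOpen.isoSpec_hom_fromSpec_assoc]

end Sch

end Groth.Agent.Lib.Helper27ProjOverBC
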