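import Mathlib
import Groth.Agent.Lib.Helper27ProjOverBC
import Groth.Agent.Lib.Helper27SegreBC

/-!
# Chow's lemma, part G: sections of projective space, the bump by `P^1`
-/

set_option autoImplicit false
set_option linter.style.haveILetI false
universe u

namespace Groth.Agent.Lib.Helper4.Chow

open CategoryTheory CategoryTheory.Limits AlgebraicGeometry HomogeneousLocalization MvPolynomial

open Groth.Agent.Lib.Helper27ProjSpaceBC Groth.Agent.Lib.Helper27DehomAway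
  Groth.Agent.Lib.Helper27ChartPoly

section Sect

variable (n : ℕ) (S : Scheme.{u}) (i : Fin (n + 1)) (c : Fin (n + 1) → ULift.{u} ℤ)
  (hc : c i = 1)

/-- the `ℤ`-point `c` of `P^n_ℤ` in the chart `i`. -/
noncomputable def ptC : Spec (CommRingCat.of (ULift.{u} ℤ)) ⟶ CohB1.ProjSpace n (ULift.{u} ℤ) :=
  Spec.map (CommRingCat.ofHom (evB (RingHom.id (ULift.{u} ℤ)) i c hc)) ≫
    Proj.awayι (CohB1.polyGrading n (ULift.{u} ℤ)) (X i) (hX n (ULift.{u} ℤ) i) Nat.one_pos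

/-- the induced section of `P^n_S ⟶ S`. -/
noncomputable def sectC : S ⟶ CohB1.ProjSpaceOver n S :=
  pullback.lift (specULiftZIsTerminal.from S ≫ ptC n i c hc) (𝟙 S)
    (specULiftZIsTerminal.hom_ext _ _)

theorem sectC_toBase : sectC n S i c hc ≫ CohB1.ProjSpaceOver.toBase n S = 𝟙 S :=
  pullback.lift_snd _ _ _

theorem sectC_fst : sectC n S i c hc ≫ pullback.fst (CohB1.ProjSpace.toSpec n (ULift.{u} ℤ))
    (specULiftZIsTerminal.from S) = specULiftZIsTerminal.from S ≫ ptC n i c hc :=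
  pullback.lift_fst _ _ _

instance isClosedImmersion_sectC : IsClosedImmersion (sectC n S i c hc) := by
  have hs : IsSeparated (CohB1.ProjSpaceOver.toBase n S) :=
    (Groth.Agent.Lib.Helper27ProjSpaceFibres.isProper_toBase n S).toIsSeparated
  have : IsClosedImmersion (sectC n S i c hc ≫ CohB1.ProjSpaceOver.toBase n S) := by
    rw [sectC_toBase]; infer_instance
  exact IsClosedImmersion.of_comp (sectC n S i c hc) (CohB1.ProjSpaceOver.toBase n S)

theorem ptC_mem_basicOpen (z : Spec (CommRingCat.of (ULift.{u} ℤ))) :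
    ptC n i c hc z ∈ Proj.basicOpen (CohB1.polyGrading n (ULift.{u} ℤ)) (X i) := by
  rw [← Proj.opensRange_awayι _ _ (hX n (ULift.{u} ℤ) i) Nat.one_pos]
  exact ⟨_, rfl⟩

theorem ptC_notMem_basicOpen (k : Fin (n + 1)) (hk : c k = 0)
    (z : Spec (CommRingCat.of (ULift.{u} ℤ))) :
    ptC n i c hc z ∉ Proj.basicOpen (CohB1.polyGrading n (ULift.{u} ℤ)) (X k) := by
  intro hmem
  set y := Spec.map (CommRingCat.ofHom (evB (RingHom.id (ULift.{u} ℤ)) i c hc)) z with hy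
  have h1 : y ∈ Proj.awayι (CohB1.polyGrading n (ULift.{u} ℤ)) (X i) (hX n (ULift.{u} ℤ) i)
      Nat.one_pos ⁻¹ᵁ Proj.basicOpen (CohB1.polyGrading n (ULift.{u} ℤ)) (X k) := hmem
  rw [Proj.awayι_preimage_basicOpen _ (hX n (ULift.{u} ℤ) i) Nat.one_pos
    (hX n (ULift.{u} ℤ) k) Nat.one_pos] at h1
  have h2 : Away.isLocalizationElem (hX n (ULift.{u} ℤ) i) (hX n (ULift.{u} ℤ) k) =
      dehA (hX n (ULift.{u} ℤ) i) (X k) := by
    apply HomogeneousLocalization.val_injective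
    rw [val_dehA_of_mem (hX n (ULift.{u} ℤ) i) (hX n (ULift.{u} ℤ) k), Away.val_mk]
    simp
  rw [h2] at h1
  apply h1
  change evB (RingHom.id (ULift.{u} ℤ)) i c hc (dehA (hX n (ULift.{u} ℤ) i) (X k)) ∈ z.asIdeal
  rw [evB_dehA_X, hk]
  exact z.asIdeal.zero_mem

theorem sectC_ne (k : Fin (n + 1)) (c' : Fin (n + 1) → ULift.{u} ℤ) (hc' : c' k = 1)
    (hk : c k = 0) (s s' : S) : sectC n S i c hc s ≠ sectC n S k c' hc' s' := by
  intro h
  have e1 : pullback.fst (CohB1.ProjSpace.toSpec n (ULift.{u} ℤ)) (specULiftZIsTerminal.from S)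
      (sectC n S i c hc s) = ptC n i c hc (specULiftZIsTerminal.from S s) :=
    congrArg (fun φ : S ⟶ CohB1.ProjSpace n (ULift.{u} ℤ) => φ s) (sectC_fst n S i c hc)
  have e2 : pullback.fst (CohB1.ProjSpace.toSpec n (ULift.{u} ℤ)) (specULiftZIsTerminal.from S)
      (sectC n S k c' hc' s') = ptC n k c' hc' (specULiftZIsTerminal.from S s') :=
    congrArg (fun φ : S ⟶ CohB1.ProjSpace n (ULift.{u} ℤ) => φ s') (sectC_fst n S k c' hc')
  have h1 : ptC n i c hc (specULiftZIsTerminal.from S s) =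
      ptC n k c' hc' (specULiftZIsTerminal.from S s') := by
    rw [← e1, ← e2, h]
  have h2 := ptC_mem_basicOpen n k c' hc' (specULiftZIsTerminal.from S s')
  rw [← h1] at h2
  exact ptC_notMem_basicOpen n i c hc k hk _ h2

end Sect

/-- a closed immersion into a smaller open. -/
theorem exists_open_closedImmersion {B P : Scheme.{u}} (g : B ⟶ P) [IsImmersion g] (W : P.Opens)
    (hW : Set.range ⇑g ⊆ (W : Set P)) :
    ∃ (V : P.Opens) (jV : B ⟶ (V : Scheme.{u})), V ≤ W ∧ IsClosedImmersion jV ∧ jV ≫ V.ι = g := by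
  set V : P.Opens := g.coborderRange ⊓ W with hV
  have hrange : Set.range ⇑g ⊆ Set.range ⇑V.ι := by
    rw [Scheme.Opens.range_ι]
    intro x hx
    exact (show x ∈ g.coborderRange ⊓ W from ⟨subset_coborder hx, hW hx⟩)
  let jV : B ⟶ (V : Scheme.{u}) := IsOpenImmersion.lift V.ι g hrange
  have hfac : jV ≫ V.ι = g := IsOpenImmersion.lift_fac _ _ _
  have himm : IsImmersion jV := by
    have : IsImmersion (jV ≫ V.ι) := by rw [hfac]; infer_instance
    exact IsImmersion.of_comp jV V.ι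
  refine ⟨V, jV, inf_le_right, ?_, hfac⟩
  apply IsClosedImmersion.of_isPreimmersion
  have hr : Set.range ⇑jV = ⇑V.ι ⁻¹' closure (Set.range ⇑g) := by
    ext v
    constructor
    · rintro ⟨b, rfl⟩
      change V.ι (jV b) ∈ closure (Set.range ⇑g)
      rw [← Scheme.Hom.comp_apply, hfac]
      exact subset_closure ⟨b, rfl⟩
    · intro hv
      have hv1 : V.ι v ∈ coborder (Set.range ⇑g) := v.2.1
      have hv2 : V.ι v ∈ coborder (Set.range ⇑g) ∩ closure (Set.range ⇑g) := ⟨hv1, hv⟩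
      rw [coborder_inter_closure] at hv2
      obtain ⟨b, hb⟩ := hv2
      refine ⟨b, ?_⟩
      apply V.ι.isOpenEmbedding.injective
      rw [← Scheme.Hom.comp_apply, hfac]
      exact hb
  rw [hr]
  exact isClosed_closure.preimage V.ι.continuous

/-- the bump: an immersion `B ⟶ P^n_S` over `S` gives a projective `P`, an open `V`, a closed
immersion `B ⟶ V` and a section of `P ⟶ S` avoiding `V`. -/
theorem exists_bump {X S : Scheme.{u}} (f : X ⟶ S) (B : X.Opens) (n : ℕ)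
    (j : (B : Scheme.{u}) ⟶ CohB1.ProjSpaceOver n S) [IsImmersion j]
    (hj : j ≫ CohB1.ProjSpaceOver.toBase n S = B.ι ≫ f) :
    ∃ (P : Scheme.{u}) (t : P ⟶ S) (M : ℕ) (eP : P ⟶ CohB1.ProjSpaceOver M S) (V : P.Opens)
      (jV : (B : Scheme.{u}) ⟶ (V : Scheme.{u})) (σ : S ⟶ P),
      IsClosedImmersion eP ∧ eP ≫ CohB1.ProjSpaceOver.toBase M S = t ∧ IsClosedImmersion jV ∧
      jV ≫ V.ι ≫ t = B.ι ≫ f ∧ σ ≫ t = 𝟙 S ∧ ∀ s, σ s ∉ V := by
  set tn := CohB1.ProjSpaceOver.toBase n S with htn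
  set t1 := CohB1.ProjSpaceOver.toBase 1 S with ht1
  obtain ⟨φ, hφ, hφb⟩ := Groth.Agent.Lib.Helper27SegreBC.exists_segre_over S n 1
  let c0 : Fin (1 + 1) → ULift.{u} ℤ := ![1, 0]
  let c1 : Fin (1 + 1) → ULift.{u} ℤ := ![0, 1]
  have hc0 : c0 0 = 1 := rfl
  have hc1 : c1 1 = 1 := rfl
  have hc01 : c0 1 = 0 := rfl
  let σ0 : S ⟶ CohB1.ProjSpaceOver 1 S := sectC 1 S 0 c0 hc0
  let σ1 : S ⟶ CohB1.ProjSpaceOver 1 S := sectC 1 S 1 c1 hc1
  let τ : S ⟶ CohB1.ProjSpaceOver n S := sectC n S 0 (fun _ => 1) rfl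
  have hσ0 : σ0 ≫ t1 = 𝟙 S := sectC_toBase 1 S 0 c0 hc0
  have hσ1 : σ1 ≫ t1 = 𝟙 S := sectC_toBase 1 S 1 c1 hc1
  have hτ : τ ≫ tn = 𝟙 S := sectC_toBase n S 0 (fun _ => 1) rfl
  have hcond : j ≫ tn = (B.ι ≫ f ≫ σ0) ≫ t1 := by
    rw [Category.assoc, Category.assoc, hσ0, Category.comp_id, hj]
  let j' : (B : Scheme.{u}) ⟶ pullback tn t1 := pullback.lift j (B.ι ≫ f ≫ σ0) hcond
  have hj'1 : j' ≫ pullback.fst tn t1 = j := pullback.lift_fst _ _ _
  have hj'2 : j' ≫ pullback.snd tn t1 = B.ι ≫ f ≫ σ0 := pullback.lift_snd _ _ _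
  have hj'i : IsImmersion j' := by
    have : IsImmersion (j' ≫ pullback.fst tn t1) := by rw [hj'1]; infer_instance
    exact IsImmersion.of_comp j' (pullback.fst tn t1)
  let W₀ : (CohB1.ProjSpaceOver 1 S).Opens :=
    ⟨(Set.range ⇑σ1)ᶜ, σ1.isClosedEmbedding.isClosed_range.isOpen_compl⟩
  let W : (pullback tn t1).Opens := pullback.snd tn t1 ⁻¹ᵁ W₀
  have hW : Set.range ⇑j' ⊆ (W : Set (pullback tn t1 : Scheme.{u})) := by
    rintro _ ⟨b, rfl⟩
    change pullback.snd tn t1 (j' b) ∈ (Set.range ⇑σ1)ᶜ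
    rw [← Scheme.Hom.comp_apply, hj'2]
    rintro ⟨s', hs'⟩
    have e : (B.ι ≫ f ≫ σ0) b = σ0 ((B.ι ≫ f) b) := by
      rw [← Scheme.Hom.comp_apply, Category.assoc]
    rw [e] at hs'
    exact sectC_ne 1 S 0 c0 hc0 1 c1 hc1 hc01 _ _ hs'.symm
  obtain ⟨V, jV, hVW, hjV, hfac⟩ := exists_open_closedImmersion j' W hW
  let σ : S ⟶ pullback tn t1 := pullback.lift τ σ1 (by rw [hτ, hσ1])
  have hσa : σ ≫ pullback.fst tn t1 = τ := pullback.lift_fst _ _ _
  have hσb : σ ≫ pullback.snd tn t1 = σ1 := pullback.lift_snd _ _ _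
  refine ⟨pullback tn t1, pullback.fst tn t1 ≫ tn, n * 1 + n + 1, φ, V, jV, σ, hφ, hφb, hjV,
    ?_, ?_, ?_⟩
  · rw [← Category.assoc, hfac, ← Category.assoc, hj'1, hj]
  · rw [← Category.assoc, hσa, hτ]
  · intro s hs
    have h1 : σ s ∈ W := hVW hs
    apply h1
    change pullback.snd tn t1 (σ s) ∈ Set.range ⇑σ1
    rw [← Scheme.Hom.comp_apply, hσb]
    exact ⟨s, rfl⟩

end Groth.Agent.Lib.Helper4.Chow
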