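import Mathlib

/-!
# Chow's lemma, part H: a topological lemma on spaces with finitely many irreducible components
-/

set_option autoImplicit false
universe u

namespace Groth.Agent.Lib.Helper4.Chow

open TopologicalSpace Set

/-- In a space with finitely many irreducible components, given finitely many opens `B i` and a
basis `b`, there are pairwise disjoint nonempty basic opens `U Z`, one for each component, with
dense union, such that each `U Z` is either inside or disjoint from each `B i`. -/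
theorem exists_disjoint_dense_family {X : Type*} [TopologicalSpace X]
    (hirr : (irreducibleComponents X).Finite) {b : Set (Set X)} (hb : IsTopologicalBasis b)
    {κ : Type*} (s : Finset κ) (B : κ → Set X) (hBo : ∀ i, IsOpen (B i)) :
    ∃ U : irreducibleComponents X → Set X, (∀ Z, U Z ∈ b) ∧
      (∀ Z Z', Z ≠ Z' → Disjoint (U Z) (U Z')) ∧ Dense (⋃ Z, U Z) ∧
      ∀ Z, ∀ i ∈ s, U Z ⊆ B i ∨ Disjoint (U Z) (B i) := by
  classical
  -- the open `W Z`
  let W : irreducibleComponents X → Set X := fun Z => (⋃₀ (irreducibleComponents X \ {Z.1}))ᶜ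
  have hWo : ∀ Z, IsOpen (W Z) := by
    intro Z
    change IsOpen (⋃₀ (irreducibleComponents X \ {Z.1}))ᶜ
    rw [Set.sUnion_eq_biUnion, isOpen_compl_iff]
    exact hirr.sdiff.isClosed_biUnion fun V hV ↦ isClosed_of_mem_irreducibleComponents V hV.1
  have hWsub : ∀ Z, W Z ⊆ Z.1 := by
    intro Z
    change (⋃₀ (irreducibleComponents X \ {Z.1}))ᶜ ⊆ Z.1
    rw [Set.compl_subset_iff_union, ← Set.sUnion_singleton Z.1, ← Set.sUnion_union,
      Set.sUnion_singleton, Set.sdiff_union_of_subset, sUnion_irreducibleComponents]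
    rw [Set.singleton_subset_iff]
    exact Z.2
  have hK0 : ∀ Z : irreducibleComponents X, ¬ Z.1 ⊆ ⋃₀ (irreducibleComponents X \ {Z.1}) := by
    intro Z
    exact mt (mem_of_subset_sUnion_irreducibleComponents Z.1 Z.2 _ hirr.sdiff Set.sdiff_subset)
      (Set.notMem_sdiff_of_mem (Set.mem_singleton Z.1))
  have hWne : ∀ Z, (W Z).Nonempty := by
    intro Z
    by_contra h
    rw [Set.not_nonempty_iff_eq_empty] at h
    apply hK0 Z
    intro x _
    by_contra hx
    have : x ∈ W Z := hx
    rw [h] at this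
    exact this
  have hWdisj : ∀ Z Z' : irreducibleComponents X, Z ≠ Z' → Disjoint (W Z) (W Z') := by
    intro Z Z' hne
    rw [Set.disjoint_left]
    intro x hx hx'
    apply hx'
    exact ⟨Z.1, ⟨Z.2, fun h => hne (Subtype.ext h)⟩, hWsub Z hx⟩
  -- the index sets
  let I : irreducibleComponents X → Finset κ := fun Z => s.filter fun i => (B i ∩ W Z).Nonempty
  let O : irreducibleComponents X → Set X := fun Z => W Z ∩ ⋂ i ∈ I Z, B i
  have hOo : ∀ Z, IsOpen (O Z) := fun Z =>
    (hWo Z).inter (isOpen_biInter_finset fun i _ => hBo i)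
  have hOne : ∀ Z, (O Z).Nonempty := by
    intro Z
    have hZirr : IsIrreducible Z.1 := Z.2.1
    have := isIrreducible_iff_sInter.mp hZirr (insert (W Z) ((I Z).image B)) ?_ ?_
    · obtain ⟨x, _, hx⟩ := this
      refine ⟨x, ?_, ?_⟩
      · exact hx (W Z) (by simp)
      · simp only [Set.mem_iInter]
        intro i hi
        exact hx (B i) (by
          simp only [Finset.coe_insert, Finset.coe_image, Set.mem_insert_iff, Set.mem_image,
            Finset.mem_coe]
          exact Or.inr ⟨i, hi, rfl⟩)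
    · intro u hu
      rw [Finset.mem_insert, Finset.mem_image] at hu
      rcases hu with rfl | ⟨i, _, rfl⟩
      · exact hWo Z
      · exact hBo i
    · intro u hu
      rw [Finset.mem_insert, Finset.mem_image] at hu
      rcases hu with rfl | ⟨i, hi, rfl⟩
      · obtain ⟨x, hx⟩ := hWne Z
        exact ⟨x, hWsub Z hx, hx⟩
      · obtain ⟨x, hxB, hxW⟩ := (Finset.mem_filter.mp hi).2
        exact ⟨x, hWsub Z hxW, hxB⟩
  choose x hx using hOne
  have hex : ∀ Z, ∃ v ∈ b, x Z ∈ v ∧ v ⊆ O Z := fun Z =>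
    hb.exists_subset_of_mem_open (hx Z) (hOo Z)
  choose U hUb hxU hUO using hex
  have hUW : ∀ Z, U Z ⊆ W Z := fun Z => (hUO Z).trans Set.inter_subset_left
  refine ⟨U, hUb, ?_, ?_, ?_⟩
  · intro Z Z' hne
    exact (hWdisj Z Z' hne).mono (hUW Z) (hUW Z')
  · rw [dense_iff_inter_open]
    intro Ω hΩ hΩne
    obtain ⟨y, hy⟩ := hΩne
    let Z₀ : irreducibleComponents X :=
      ⟨irreducibleComponent y, irreducibleComponent_mem_irreducibleComponents y⟩
    have hyZ : y ∈ Z₀.1 := mem_irreducibleComponent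
    have hZirr : IsIrreducible Z₀.1 := Z₀.2.1
    -- `Ω` meets `W Z₀`
    have h1 : (Z₀.1 ∩ (Ω ∩ W Z₀)).Nonempty := by
      by_contra hcon
      rw [Set.not_nonempty_iff_eq_empty] at hcon
      have hcov : Z₀.1 ⊆ Ωᶜ ∪ ⋃₀ (irreducibleComponents X \ {Z₀.1}) := by
        intro z hz
        by_cases hzΩ : z ∈ Ω
        · right
          by_contra hzW
          have : z ∈ Z₀.1 ∩ (Ω ∩ W Z₀) := ⟨hz, hzΩ, hzW⟩
          rw [hcon] at this
          exact this
        · left; exact hzΩ
      have hcl : IsClosed (⋃₀ (irreducibleComponents X \ {Z₀.1})) := by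
        rw [← isOpen_compl_iff]; exact hWo Z₀
      rcases isPreirreducible_iff_isClosed_union_isClosed.mp hZirr.2 _ _ hΩ.isClosed_compl hcl hcov
        with h | h
      · exact h hyZ hy
      · exact hK0 Z₀ h
    have h2 : (Z₀.1 ∩ U Z₀).Nonempty := ⟨x Z₀, hWsub Z₀ (hUW Z₀ (hxU Z₀)), hxU Z₀⟩
    have hUo : IsOpen (U Z₀) := hb.isOpen (hUb Z₀)
    obtain ⟨z, _, ⟨hzΩ, _⟩, hzU⟩ := hZirr.2 _ _ (hΩ.inter (hWo Z₀)) hUo h1 h2
    exact ⟨z, hzΩ, Set.mem_iUnion.mpr ⟨Z₀, hzU⟩⟩
  · intro Z i hi
    by_cases hne : (B i ∩ W Z).Nonempty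
    · left
      have hiI : i ∈ I Z := Finset.mem_filter.mpr ⟨hi, hne⟩
      intro z hz
      have := (hUO Z hz).2
      simp only [Set.mem_iInter] at this
      exact this i hiI
    · right
      rw [Set.not_nonempty_iff_eq_empty] at hne
      rw [Set.disjoint_left]
      intro z hz hzB
      have : z ∈ B i ∩ W Z := ⟨hzB, hUW Z hz⟩
      rw [hne] at this
      exact this

end Groth.Agent.Lib.Helper4.Chow
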