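import Mathlib
import Groth.Agent.Lib.Helper4ChowF
import Groth.Agent.Lib.Helper4ChowG
import Groth.Agent.Lib.Helper4ChowH

/-!
# Chow's lemma, part I: the dense open, the maps to the projective pieces, the theorem
-/

set_option autoImplicit false
set_option linter.style.haveILetI false
universe u

namespace Groth.Agent.Lib.Helper4.Chow

open CategoryTheory CategoryTheory.Limits AlgebraicGeometry

theorem hom_ext_over_sigma {σ : Type u} (F : σ → Scheme.{u}) {T Y : Scheme.{u}} (o : T ⟶ ∐ F)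
    (φ ψ : T ⟶ Y)
    (h : ∀ Z, pullback.fst o (Sigma.ι F Z) ≫ φ = pullback.fst o (Sigma.ι F Z) ≫ ψ) : φ = ψ :=
  Scheme.Cover.hom_ext ((sigmaOpenCover F).pullback₁ o) _ _ h

/-- a finite cover by affine opens lying over affine opens of the base. -/
theorem exists_finite_affine_cover {X S : Scheme.{u}} (f : X ⟶ S) [CompactSpace X] :
    ∃ (t : Finset X) (B : X → X.Opens) (V : X → S.Opens), (∀ x, IsAffineOpen (B x)) ∧
      (∀ x, IsAffineOpen (V x)) ∧ (∀ x, B x ≤ f ⁻¹ᵁ V x) ∧ ⨆ x ∈ t, B x = ⊤ := by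
  have h1 : ∀ x : X, ∃ V : S.Opens, IsAffineOpen V ∧ f x ∈ V := by
    intro x
    obtain ⟨V, hV, hxV, -⟩ := TopologicalSpace.Opens.isBasis_iff_nbhd.mp
      (Scheme.isBasis_affineOpens S) (show f x ∈ (⊤ : S.Opens) from trivial)
    exact ⟨V, hV, hxV⟩
  choose V hV hxV using h1
  have h2 : ∀ x : X, ∃ B : X.Opens, IsAffineOpen B ∧ x ∈ B ∧ B ≤ f ⁻¹ᵁ V x := by
    intro x
    obtain ⟨B, hB, hxB, hle⟩ := TopologicalSpace.Opens.isBasis_iff_nbhd.mp
      (Scheme.isBasis_affineOpens X) (show x ∈ f ⁻¹ᵁ V x from hxV x)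
    exact ⟨B, hB, hxB, hle⟩
  choose B hB hxB hle using h2
  obtain ⟨t, ht⟩ := isCompact_univ.elim_finite_subcover (fun x => (B x : Set X))
    (fun x => (B x).isOpen) (fun x _ => Set.mem_iUnion.mpr ⟨x, hxB x⟩)
  refine ⟨t, B, V, hB, hV, hle, ?_⟩
  rw [eq_top_iff]
  intro x _
  have := ht (Set.mem_univ x)
  simp only [Set.mem_iUnion] at this
  obtain ⟨y, hy, hxy⟩ := this
  simp only [TopologicalSpace.Opens.mem_iSup]
  exact ⟨y, hy, hxy⟩

/-- **Chow's lemma** with a dense open, for `X` with finitely many irreducible components. -/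
theorem chow_finite_components {X S : Scheme.{u}} (f : X ⟶ S) [CompactSpace S]
    [QuasiSeparatedSpace S] [IsSeparated f] [LocallyOfFiniteType f] [QuasiCompact f]
    (hirr : (irreducibleComponents (X : Type u)).Finite) :
    ∃ (n : ℕ) (X' : Scheme.{u}) (π : X' ⟶ X) (j : X' ⟶ CohB1.ProjSpaceOver n S),
      IsImmersion j ∧ j ≫ CohB1.ProjSpaceOver.toBase n S = π ≫ f ∧ IsProper π ∧ Surjective π ∧
      ∃ U : X.Opens, Dense (U : Set X) ∧ IsIso (π ∣_ U) := by
  classical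
  haveI : CompactSpace X := QuasiCompact.compactSpace_of_compactSpace f
  haveI : QuasiSeparatedSpace X := quasiSeparatedSpace_of_quasiSeparated f
  obtain ⟨t, B, V, hB, hV, hle, hcov⟩ := exists_finite_affine_cover f
  -- projective data
  have hdata : ∀ x : X, ∃ (P : Scheme.{u}) (tP : P ⟶ S) (M : ℕ)
      (eP : P ⟶ CohB1.ProjSpaceOver M S) (Vo : P.Opens)
      (jV : ((B x : X.Opens) : Scheme.{u}) ⟶ (Vo : Scheme.{u})) (σ : S ⟶ P),
      IsClosedImmersion eP ∧ eP ≫ CohB1.ProjSpaceOver.toBase M S = tP ∧ IsClosedImmersion jV ∧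
      jV ≫ Vo.ι ≫ tP = (B x).ι ≫ f ∧ σ ≫ tP = 𝟙 S ∧ ∀ s, σ s ∉ Vo := by
    intro x
    obtain ⟨n, j, hj, hjb⟩ := Groth.Agent.Lib.Helper27ProjOverBC.exists_factor_scheme f (B x)
      (hB x) (V x) (hV x) (hle x)
    exact exists_bump f (B x) n j hjb
  choose P tP M eP Vo jV σ heP1 heP2 hjV1 hjV2 hσ1 hσ2 using hdata
  -- the dense open
  obtain ⟨U, hUb, hUdisj, hUdense, hUdich⟩ := exists_disjoint_dense_family hirr
    (Scheme.isBasis_affineOpens X) t (fun x => (B x : Set X)) (fun x => (B x).isOpen)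
  have hUo : ∀ Z, ∃ Uo : X.Opens, IsAffineOpen Uo ∧ (Uo : Set X) = U Z := by
    intro Z
    obtain ⟨Uo, h1, h2⟩ := hUb Z
    exact ⟨Uo, h1, h2⟩
  choose Uo hUoaff hUoeq using hUo
  haveI : Finite (irreducibleComponents (X : Type u)) := hirr.to_subtype
  let F : irreducibleComponents (X : Type u) → Scheme.{u} :=
    fun Z => ((Uo Z : X.Opens) : Scheme.{u})
  haveI : ∀ Z, IsAffine (F Z) := fun Z => hUoaff Z
  let ι : (∐ F) ⟶ X := Sigma.desc (fun Z => (Uo Z).ι)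
  have hιZ : ∀ Z, Sigma.ι F Z ≫ ι = (Uo Z).ι := fun Z => Sigma.ι_desc _ _
  have hιZa : ∀ Z (y : F Z), ι (Sigma.ι F Z y) = (Uo Z).ι y := fun Z y =>
    congrArg (fun φ : F Z ⟶ X => φ y) (hιZ Z)
  haveI hιo : IsOpenImmersion ι := by
    apply isOpenImmersion_sigmaDesc
    intro Z Z' hne
    change Disjoint (Set.range ⇑(Uo Z).ι) (Set.range ⇑(Uo Z').ι)
    rw [Scheme.Opens.range_ι, Scheme.Opens.range_ι, hUoeq, hUoeq]
    exact hUdisj Z Z' hne
  haveI hιq : QuasiCompact ι := inferInstance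
  have hιd : Dense (Set.range ⇑ι) := by
    refine hUdense.mono ?_
    intro x hx
    obtain ⟨Z, hZ⟩ := Set.mem_iUnion.mp hx
    rw [← hUoeq Z] at hZ
    exact ⟨Sigma.ι F Z (⟨x, hZ⟩ : ↥(Uo Z)), hιZa Z _⟩
  -- index type
  let κ := {x : X // x ∈ t}
  -- maps a
  let acomp : ∀ (i : κ) (Z), F Z ⟶ P i.1 := fun i Z =>
    if h : Uo Z ≤ B i.1 then X.homOfLE h ≫ jV i.1 ≫ (Vo i.1).ι else (Uo Z).ι ≫ f ≫ σ i.1
  let a : ∀ i : κ, (∐ F) ⟶ P i.1 := fun i => Sigma.desc (acomp i)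
  have haZ : ∀ i Z, Sigma.ι F Z ≫ a i = acomp i Z := fun i Z => Sigma.ι_desc _ _
  have hdisj : ∀ (i : κ) Z, ¬ Uo Z ≤ B i.1 → Disjoint (U Z) (B i.1 : Set X) := by
    intro i Z hn
    rcases hUdich Z i.1 i.2 with h | h
    · exfalso
      apply hn
      intro y hy
      apply h
      rw [← hUoeq]
      exact hy
    · exact h
  refine chow_of_cover (κ := κ) f ι hιd Finset.univ (fun i => B i.1) ?_ (fun i => P i.1)
    (fun i => tP i.1) (fun i => M i.1) (fun i => eP i.1) (fun i => heP1 i.1) (fun i => heP2 i.1)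
    (fun i => Vo i.1) (fun i => jV i.1) (fun i => hjV1 i.1) (fun i => hjV2 i.1) a ?_ ?_ ?_
  · -- cover
    rw [eq_top_iff, ← hcov]
    refine iSup₂_le fun x hx => ?_
    exact le_iSup₂_of_le (⟨x, hx⟩ : κ) (Finset.mem_univ _) le_rfl
  · -- ha
    intro i
    apply Sigma.hom_ext
    intro Z
    rw [← Category.assoc, haZ, ← Category.assoc, hιZ]
    dsimp only [acomp]
    split_ifs with h
    · rw [Category.assoc, Category.assoc, hjV2, Scheme.homOfLE_ι_assoc]
    · rw [Category.assoc, Category.assoc, hσ1, Category.comp_id]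
  · -- hagree
    intro i
    apply hom_ext_over_sigma F (ι ⁻¹ᵁ B i.1).ι
    intro Z
    by_cases h : Uo Z ≤ B i.1
    · have hc : pullback.fst (ι ⁻¹ᵁ B i.1).ι (Sigma.ι F Z) ≫ (ι ⁻¹ᵁ B i.1).ι =
          pullback.snd (ι ⁻¹ᵁ B i.1).ι (Sigma.ι F Z) ≫ Sigma.ι F Z := pullback.condition
      rw [← Category.assoc, hc, Category.assoc, haZ]
      dsimp only [acomp]
      rw [dif_pos h]
      have h3 : pullback.snd (ι ⁻¹ᵁ B i.1).ι (Sigma.ι F Z) ≫ X.homOfLE h =
          pullback.fst (ι ⁻¹ᵁ B i.1).ι (Sigma.ι F Z) ≫ (ι ∣_ B i.1) := by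
        rw [← cancel_mono (B i.1).ι, Category.assoc, Category.assoc, Scheme.homOfLE_ι,
          morphismRestrict_ι, ← Category.assoc, hc, Category.assoc, hιZ]
      rw [← Category.assoc, h3, Category.assoc]
    · haveI : IsEmpty ↥(pullback (ι ⁻¹ᵁ B i.1).ι (Sigma.ι F Z)) := by
        constructor
        intro p
        have hc : pullback.fst (ι ⁻¹ᵁ B i.1).ι (Sigma.ι F Z) ≫ (ι ⁻¹ᵁ B i.1).ι =
            pullback.snd (ι ⁻¹ᵁ B i.1).ι (Sigma.ι F Z) ≫ Sigma.ι F Z := pullback.condition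
        set o := pullback.fst (ι ⁻¹ᵁ B i.1).ι (Sigma.ι F Z) p with ho
        set y := pullback.snd (ι ⁻¹ᵁ B i.1).ι (Sigma.ι F Z) p with hy
        have h1 : ι ((ι ⁻¹ᵁ B i.1).ι o) ∈ B i.1 := o.2
        have h2 : (ι ⁻¹ᵁ B i.1).ι o = Sigma.ι F Z y := by
          rw [ho, hy, ← Scheme.Hom.comp_apply, ← Scheme.Hom.comp_apply, hc]
        rw [h2, ← Scheme.Hom.comp_apply, hιZ] at h1
        have h3 : (Uo Z).ι y ∈ U Z := by
          rw [← hUoeq]
          exact y.2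
        exact Set.disjoint_left.mp (hdisj i Z h) h3 h1
      exact isInitialOfIsEmpty.hom_ext _ _
  · -- havoid
    intro i u hu
    have hex : ∃ (Z : irreducibleComponents (X : Type u)) (y : F Z), Sigma.ι F Z y = u :=
      (sigmaOpenCover F).exists_eq u
    obtain ⟨Z, y, rfl⟩ := hex
    have h1 : a i (Sigma.ι F Z y) ∈ Vo i.1 := hu
    have e1 : a i (Sigma.ι F Z y) = acomp i Z y :=
      congrArg (fun φ : F Z ⟶ P i.1 => φ y) (haZ i Z)
    change ι (Sigma.ι F Z y) ∈ B i.1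
    by_cases h : Uo Z ≤ B i.1
    · rw [hιZa]
      exact h y.2
    · exfalso
      rw [e1] at h1
      dsimp only [acomp] at h1
      rw [dif_neg h] at h1
      have e : ((Uo Z).ι ≫ f ≫ σ i.1) y = σ i.1 (((Uo Z).ι ≫ f) y) := by
        rw [← Scheme.Hom.comp_apply, Category.assoc]
      rw [e] at h1
      exact hσ2 i.1 _ h1

end Groth.Agent.Lib.Helper4.Chow
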