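import Mathlib
import Groth.Agent.Lib.Helper4ChowI

/-!
# Chow's lemma keeping the schematically dominant open (helper11)

Copies of helper4's `chow_of_good_top`, `chow_of_cover`, `chow_finite_components` (namespace
`Groth.Agent.Lib.Helper4.Chow`) whose conclusion also records that the open `π⁻¹ U ⊆ X'` is quasi-compact and
schematically dominant in `X'`.  Namespace `Groth.Agent.Lib.Helper11.ChowPlus`.
-/

set_option autoImplicit false
set_option linter.style.haveILetI false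
universe u

namespace Groth.Agent.Lib.Helper11.ChowPlus

open CategoryTheory CategoryTheory.Limits AlgebraicGeometry Groth.Agent.Lib.Helper4.Chow

theorem chow_of_good_top' {X S U₀ : Scheme.{u}} (f : X ⟶ S) (ι : U₀ ⟶ X) [IsOpenImmersion ι]
    (hd : Dense (Set.range ⇑ι)) (h : Good f ι ⊤) :
    ∃ (n : ℕ) (X' : Scheme.{u}) (π : X' ⟶ X) (j : X' ⟶ CohB1.ProjSpaceOver n S),
      IsImmersion j ∧ j ≫ CohB1.ProjSpaceOver.toBase n S = π ≫ f ∧ IsProper π ∧ Surjective π ∧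
      ∃ U : X.Opens, Dense (U : Set X) ∧ IsIso (π ∣_ U) ∧ QuasiCompact (π ⁻¹ᵁ U).ι ∧
        IsSchemeTheoreticallyDominant (π ⁻¹ᵁ U).ι := by
  obtain ⟨Xt, Q, r, c, ιt, N, e, h1, h2, h3, h4, h5, h6, h7, h8, h9⟩ := h
  have hpr : IsProper r := by
    have := Groth.Agent.Lib.Helper27ProjSpaceFibres.isProper_toBase N S
    rw [← h8]; infer_instance
  have hq : IsImmersion (c ≫ pullback.snd f r) :=
    isImmersion_of_locCI _ (fun x => h9 x trivial)
  set π : Xt ⟶ X := c ≫ pullback.fst f r with hπ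
  have hπp : IsProper π := by rw [hπ]; infer_instance
  have hpre : π ⁻¹ᵁ ι.opensRange = ιt.opensRange := by
    ext x
    exact Set.ext_iff.mp h6 x
  have hrange : Set.range ⇑ιt ⊆ Set.range ⇑(π ⁻¹ᵁ ι.opensRange).ι := by
    rw [Scheme.Opens.range_ι, hpre]
    rfl
  let φ : U₀ ⟶ ((π ⁻¹ᵁ ι.opensRange : Xt.Opens) : Scheme.{u}) :=
    IsOpenImmersion.lift (π ⁻¹ᵁ ι.opensRange).ι ιt hrange
  have hφ : φ ≫ (π ⁻¹ᵁ ι.opensRange).ι = ιt := IsOpenImmersion.lift_fac _ _ _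
  have hφo : IsOpenImmersion φ := by
    have : IsOpenImmersion (φ ≫ (π ⁻¹ᵁ ι.opensRange).ι) := by rw [hφ]; infer_instance
    exact IsOpenImmersion.of_comp φ (π ⁻¹ᵁ ι.opensRange).ι
  have hφs : Function.Surjective ⇑φ := by
    intro y
    have hy : (y.1 : Xt) ∈ ιt.opensRange := by rw [← hpre]; exact y.2
    obtain ⟨u, hu⟩ := hy
    refine ⟨u, ?_⟩
    apply (π ⁻¹ᵁ ι.opensRange).ι.isOpenEmbedding.injective
    rw [← Scheme.Hom.comp_apply, hφ]
    exact hu
  have hφi : IsIso φ := by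
    have : Surjective φ := ⟨hφs⟩
    exact (isIso_iff_isOpenImmersion_and_surjective φ).mpr ⟨hφo, this⟩
  have hιeq : (π ⁻¹ᵁ ι.opensRange).ι = inv φ ≫ ιt := by rw [← hφ, IsIso.inv_hom_id_assoc]
  refine ⟨N, Xt, π, (c ≫ pullback.snd f r) ≫ e, inferInstance, ?_, hπp, ?_, ι.opensRange, ?_,
    ?_, ?_, ?_⟩
  · rw [Category.assoc, Category.assoc, h8, hπ, Category.assoc, pullback.condition]
  · constructor
    have hcl : IsClosed (Set.range ⇑π) := π.isClosedMap.isClosed_range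
    have hsub : Set.range ⇑ι ⊆ Set.range ⇑π := by
      rw [← h5]
      rintro _ ⟨u, rfl⟩
      exact ⟨ιt u, rfl⟩
    have hd' : Dense (Set.range ⇑π) := hd.mono hsub
    have huniv : Set.range ⇑π = Set.univ := by
      rw [← hcl.closure_eq, hd'.closure_eq]
    exact Set.range_eq_univ.mp huniv
  · rw [Scheme.Hom.coe_opensRange]; exact hd
  · have hcomp : φ ≫ (π ∣_ ι.opensRange) = ι.isoOpensRange.hom := by
      rw [← cancel_mono ι.opensRange.ι, Category.assoc, morphismRestrict_ι, ← Category.assoc, hφ,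
        Scheme.Hom.isoOpensRange_hom_ι]
      exact h5
    have : π ∣_ ι.opensRange = inv φ ≫ ι.isoOpensRange.hom := by
      rw [← hcomp, IsIso.inv_hom_id_assoc]
    rw [this]
    infer_instance
  · rw [hιeq]
    infer_instance
  · rw [hιeq]
    infer_instance

theorem chow_of_cover' {X S U₀ : Scheme.{u}} {κ : Type*} (f : X ⟶ S) [IsSeparated f] (ι : U₀ ⟶ X)
    [IsOpenImmersion ι] [QuasiCompact ι] (hd : Dense (Set.range ⇑ι))
    (s : Finset κ) (B : κ → X.Opens) (hB : ⨆ i ∈ s, B i = ⊤)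
    (P : κ → Scheme.{u}) (t : ∀ i, P i ⟶ S) (M : κ → ℕ)
    (eP : ∀ i, P i ⟶ CohB1.ProjSpaceOver (M i) S) (hcl : ∀ i, IsClosedImmersion (eP i))
    (heP : ∀ i, eP i ≫ CohB1.ProjSpaceOver.toBase (M i) S = t i)
    (V : ∀ i, (P i).Opens) (jV : ∀ i, ((B i : X.Opens) : Scheme.{u}) ⟶ ((V i : (P i).Opens) : Scheme.{u}))
    (hjcl : ∀ i, IsClosedImmersion (jV i))
    (hj : ∀ i, jV i ≫ (V i).ι ≫ t i = (B i).ι ≫ f)
    (a : ∀ i, U₀ ⟶ P i) (ha : ∀ i, a i ≫ t i = ι ≫ f)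
    (hagree : ∀ i, (ι ⁻¹ᵁ B i).ι ≫ a i = (ι ∣_ B i) ≫ jV i ≫ (V i).ι)
    (havoid : ∀ i, a i ⁻¹ᵁ V i ≤ ι ⁻¹ᵁ B i) :
    ∃ (n : ℕ) (X' : Scheme.{u}) (π : X' ⟶ X) (j : X' ⟶ CohB1.ProjSpaceOver n S),
      IsImmersion j ∧ j ≫ CohB1.ProjSpaceOver.toBase n S = π ≫ f ∧ IsProper π ∧ Surjective π ∧
      ∃ U : X.Opens, Dense (U : Set X) ∧ IsIso (π ∣_ U) ∧ QuasiCompact (π ⁻¹ᵁ U).ι ∧
        IsSchemeTheoreticallyDominant (π ⁻¹ᵁ U).ι := by
  classical
  have key : ∀ s' : Finset κ, Good f ι (⨆ i ∈ s', B i) := by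
    intro s'
    induction s' using Finset.induction_on with
    | empty =>
      simp only [Finset.notMem_empty, iSup_false, iSup_bot]
      exact good_bot f ι
    | insert k s' hk ih =>
      rw [Finset.iSup_insert, sup_comm]
      haveI := hcl k
      haveI := hjcl k
      exact good_step f ι _ ih (B k) (t k) (M k) (eP k) (heP k) (V k) (jV k) (hj k) (a k) (ha k)
        (hagree k) (havoid k)
  have htop := key s
  rw [hB] at htop
  exact chow_of_good_top' f ι hd htop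

/-- **Chow's lemma** with a dense open, for `X` with finitely many irreducible components. -/
theorem chow_finite_components' {X S : Scheme.{u}} (f : X ⟶ S) [CompactSpace S]
    [QuasiSeparatedSpace S] [IsSeparated f] [LocallyOfFiniteType f] [QuasiCompact f]
    (hirr : (irreducibleComponents (X : Type u)).Finite) :
    ∃ (n : ℕ) (X' : Scheme.{u}) (π : X' ⟶ X) (j : X' ⟶ CohB1.ProjSpaceOver n S),
      IsImmersion j ∧ j ≫ CohB1.ProjSpaceOver.toBase n S = π ≫ f ∧ IsProper π ∧ Surjective π ∧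
      ∃ U : X.Opens, Dense (U : Set X) ∧ IsIso (π ∣_ U) ∧ QuasiCompact (π ⁻¹ᵁ U).ι ∧
        IsSchemeTheoreticallyDominant (π ⁻¹ᵁ U).ι := by
  classical
  haveI : CompactSpace X := QuasiCompact.compactSpace_of_compactSpace f
  haveI : QuasiSeparatedSpace X := quasiSeparatedSpace_of_quasiSeparated f
  obtain ⟨t, B, V, hB, hV, hle, hcov⟩ := exists_finite_affine_cover f
  -- projective data
  have hdata : ∀ x : X, ∃ (P : Scheme.{u}) (tP : P ⟶ S) (M : ℕ)
      (eP : P ⟶ CohB1.ProjSpaceOver M S) (Vo : P.Opens)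
      (jV : ((B x : X.Opens) : Scheme.{u}) ⟶ (Vo : Scheme.{u})) (σ : S ⟶ P),
      IsClosedImmersion eP ∧ eP ≫ CohB1.ProjSpaceOver.toBase M S = tP ∧ IsClosedImmersion jV ∧
      jV ≫ Vo.ι ≫ tP = (B x).ι ≫ f ∧ σ ≫ tP = 𝟙 S ∧ ∀ s, σ s ∉ Vo := by
    intro x
    obtain ⟨n, j, hj, hjb⟩ := Groth.Agent.Lib.Helper27ProjOverBC.exists_factor_scheme f (B x)
      (hB x) (V x) (hV x) (hle x)
    exact exists_bump f (B x) n j hjb
  choose P tP M eP Vo jV σ heP1 heP2 hjV1 hjV2 hσ1 hσ2 using hdata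
  -- the dense open
  obtain ⟨U, hUb, hUdisj, hUdense, hUdich⟩ := exists_disjoint_dense_family hirr
    (Scheme.isBasis_affineOpens X) t (fun x => (B x : Set X)) (fun x => (B x).isOpen)
  have hUo : ∀ Z, ∃ Uo : X.Opens, IsAffineOpen Uo ∧ (Uo : Set X) = U Z := by
    intro Z
    obtain ⟨Uo, h1, h2⟩ := hUb Z
    exact ⟨Uo, h1, h2⟩
  choose Uo hUoaff hUoeq using hUo
  haveI : Finite (irreducibleComponents (X : Type u)) := hirr.to_subtype
  let F : irreducibleComponents (X : Type u) → Scheme.{u} :=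
    fun Z => ((Uo Z : X.Opens) : Scheme.{u})
  haveI : ∀ Z, IsAffine (F Z) := fun Z => hUoaff Z
  let ι : (∐ F) ⟶ X := Sigma.desc (fun Z => (Uo Z).ι)
  have hιZ : ∀ Z, Sigma.ι F Z ≫ ι = (Uo Z).ι := fun Z => Sigma.ι_desc _ _
  have hιZa : ∀ Z (y : F Z), ι (Sigma.ι F Z y) = (Uo Z).ι y := fun Z y =>
    congrArg (fun φ : F Z ⟶ X => φ y) (hιZ Z)
  haveI hιo : IsOpenImmersion ι := by
    apply isOpenImmersion_sigmaDesc
    intro Z Z' hne
    change Disjoint (Set.range ⇑(Uo Z).ι) (Set.range ⇑(Uo Z').ι)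
    rw [Scheme.Opens.range_ι, Scheme.Opens.range_ι, hUoeq, hUoeq]
    exact hUdisj Z Z' hne
  haveI hιq : QuasiCompact ι := inferInstance
  have hιd : Dense (Set.range ⇑ι) := by
    refine hUdense.mono ?_
    intro x hx
    obtain ⟨Z, hZ⟩ := Set.mem_iUnion.mp hx
    rw [← hUoeq Z] at hZ
    exact ⟨Sigma.ι F Z (⟨x, hZ⟩ : ↥(Uo Z)), hιZa Z _⟩
  -- index type
  let κ := {x : X // x ∈ t}
  -- maps a
  let acomp : ∀ (i : κ) (Z), F Z ⟶ P i.1 := fun i Z =>
    if h : Uo Z ≤ B i.1 then X.homOfLE h ≫ jV i.1 ≫ (Vo i.1).ι else (Uo Z).ι ≫ f ≫ σ i.1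
  let a : ∀ i : κ, (∐ F) ⟶ P i.1 := fun i => Sigma.desc (acomp i)
  have haZ : ∀ i Z, Sigma.ι F Z ≫ a i = acomp i Z := fun i Z => Sigma.ι_desc _ _
  have hdisj : ∀ (i : κ) Z, ¬ Uo Z ≤ B i.1 → Disjoint (U Z) (B i.1 : Set X) := by
    intro i Z hn
    rcases hUdich Z i.1 i.2 with h | h
    · exfalso
      apply hn
      intro y hy
      apply h
      rw [← hUoeq]
      exact hy
    · exact h
  refine chow_of_cover' (κ := κ) f ι hιd Finset.univ (fun i => B i.1) ?_ (fun i => P i.1)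
    (fun i => tP i.1) (fun i => M i.1) (fun i => eP i.1) (fun i => heP1 i.1) (fun i => heP2 i.1)
    (fun i => Vo i.1) (fun i => jV i.1) (fun i => hjV1 i.1) (fun i => hjV2 i.1) a ?_ ?_ ?_
  · -- cover
    rw [eq_top_iff, ← hcov]
    refine iSup₂_le fun x hx => ?_
    exact le_iSup₂_of_le (⟨x, hx⟩ : κ) (Finset.mem_univ _) le_rfl
  · -- ha
    intro i
    apply Sigma.hom_ext
    intro Z
    rw [← Category.assoc, haZ, ← Category.assoc, hιZ]
    dsimp only [acomp]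
    split_ifs with h
    · rw [Category.assoc, Category.assoc, hjV2, Scheme.homOfLE_ι_assoc]
    · rw [Category.assoc, Category.assoc, hσ1, Category.comp_id]
  · -- hagree
    intro i
    apply hom_ext_over_sigma F (ι ⁻¹ᵁ B i.1).ι
    intro Z
    by_cases h : Uo Z ≤ B i.1
    · have hc : pullback.fst (ι ⁻¹ᵁ B i.1).ι (Sigma.ι F Z) ≫ (ι ⁻¹ᵁ B i.1).ι =
          pullback.snd (ι ⁻¹ᵁ B i.1).ι (Sigma.ι F Z) ≫ Sigma.ι F Z := pullback.condition
      rw [← Category.assoc, hc, Category.assoc, haZ]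
      dsimp only [acomp]
      rw [dif_pos h]
      have h3 : pullback.snd (ι ⁻¹ᵁ B i.1).ι (Sigma.ι F Z) ≫ X.homOfLE h =
          pullback.fst (ι ⁻¹ᵁ B i.1).ι (Sigma.ι F Z) ≫ (ι ∣_ B i.1) := by
        rw [← cancel_mono (B i.1).ι, Category.assoc, Category.assoc, Scheme.homOfLE_ι,
          morphismRestrict_ι, ← Category.assoc, hc, Category.assoc, hιZ]
      rw [← Category.assoc, h3, Category.assoc]
    · haveI : IsEmpty ↥(pullback (ι ⁻¹ᵁ B i.1).ι (Sigma.ι F Z)) := by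
        constructor
        intro p
        have hc : pullback.fst (ι ⁻¹ᵁ B i.1).ι (Sigma.ι F Z) ≫ (ι ⁻¹ᵁ B i.1).ι =
            pullback.snd (ι ⁻¹ᵁ B i.1).ι (Sigma.ι F Z) ≫ Sigma.ι F Z := pullback.condition
        set o := pullback.fst (ι ⁻¹ᵁ B i.1).ι (Sigma.ι F Z) p with ho
        set y := pullback.snd (ι ⁻¹ᵁ B i.1).ι (Sigma.ι F Z) p with hy
        have h1 : ι ((ι ⁻¹ᵁ B i.1).ι o) ∈ B i.1 := o.2
        have h2 : (ι ⁻¹ᵁ B i.1).ι o = Sigma.ι F Z y := by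
          rw [ho, hy, ← Scheme.Hom.comp_apply, ← Scheme.Hom.comp_apply, hc]
        rw [h2, ← Scheme.Hom.comp_apply, hιZ] at h1
        have h3 : (Uo Z).ι y ∈ U Z := by
          rw [← hUoeq]
          exact y.2
        exact Set.disjoint_left.mp (hdisj i Z h) h3 h1
      exact isInitialOfIsEmpty.hom_ext _ _
  · -- havoid
    intro i u hu
    have hex : ∃ (Z : irreducibleComponents (X : Type u)) (y : F Z), Sigma.ι F Z y = u :=
      (sigmaOpenCover F).exists_eq u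
    obtain ⟨Z, y, rfl⟩ := hex
    have h1 : a i (Sigma.ι F Z y) ∈ Vo i.1 := hu
    have e1 : a i (Sigma.ι F Z y) = acomp i Z y :=
      congrArg (fun φ : F Z ⟶ P i.1 => φ y) (haZ i Z)
    change ι (Sigma.ι F Z y) ∈ B i.1
    by_cases h : Uo Z ≤ B i.1
    · rw [hιZa]
      exact h y.2
    · exfalso
      rw [e1] at h1
      dsimp only [acomp] at h1
      rw [dif_neg h] at h1
      have e : ((Uo Z).ι ≫ f ≫ σ i.1) y = σ i.1 (((Uo Z).ι ≫ f) y) := by
        rw [← Scheme.Hom.comp_apply, Category.assoc]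
      rw [e] at h1
      exact hσ2 i.1 _ h1

end Groth.Agent.Lib.Helper11.ChowPlus
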