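import Groth.Agent.Lib.Helper27SerreGen3
import Groth.Agent.Lib.Helper27EpiGen2
import Groth.Agent.Lib.Helper23FinType2

/-!
# Serre's global generation on `Proj`, part 4: `⊕ O(-nd) ⟶ F` is an epimorphism for `n ≫ 0`
(helper27)
-/

set_option autoImplicit false
universe u

open CategoryTheory CategoryTheory.Limits AlgebraicGeometry TopologicalSpace Opposite
  HomogeneousLocalization
open Groth.Agent.Lib.Helper23.SecTw Groth.Agent.Lib.Helper6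

namespace Groth.Agent.Lib.Helper27GrTildeSect

variable {R A : Type u} [CommRing R] [CommRing A] [Algebra R A] (𝒜 : ℕ → Submodule R A)
  [GradedAlgebra 𝒜]
variable (d : ℕ) {ι : Type*} (G : ι → A) (hG : ∀ i, G i ∈ 𝒜 d)
  (hcov : ∀ y : Proj 𝒜, ∃ i, G i ∉ (show ProjectiveSpectrum 𝒜 from y).asHomogeneousIdeal)

include hG hcov in
theorem compactSpace_of_cover [Finite ι] (hd : 0 < d) : CompactSpace (Proj 𝒜) := by
  refine ⟨?_⟩
  have huniv : (Set.univ : Set (Proj 𝒜)) =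
      ⋃ i : ι, ((Proj.basicOpen 𝒜 (G i) : (Proj 𝒜).Opens) : Set (Proj 𝒜)) := by
    apply Set.eq_of_subset_of_subset
    · intro y _
      obtain ⟨i, hi⟩ := hcov y
      exact Set.mem_iUnion.mpr ⟨i, (ProjectiveSpectrum.mem_basicOpen 𝒜 (G i) y).mpr hi⟩
    · exact Set.subset_univ _
  rw [huniv]
  exact isCompact_iUnion (fun i => (Proj.isAffineOpen_basicOpen 𝒜 (G i) (hG i) hd).isCompact)

include hcov in
/-- for `n ≥ n₀` there is a cocycle family of exponent `n` with prescribed value `t` on `D₊(G l)`. -/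
theorem exists_coc_ge [CompactSpace (Proj 𝒜)] (F : (Proj 𝒜).Modules) [F.IsQuasicoherent] (l : ι)
    (t : Γ(F, Proj.basicOpen 𝒜 (G l))) :
    ∃ n₀ : ℕ, ∀ n, n₀ ≤ n → ∃ b : ∀ i, Γ(F, Proj.basicOpen 𝒜 (G i)),
      Coc 𝒜 d G hG F n b ∧ b l = t := by
  obtain ⟨n₀, b, hb, hbl⟩ := exists_coc 𝒜 d G hG hcov F l t
  refine ⟨n₀, fun n hn => ?_⟩
  have h1 := hb.shift 𝒜 d G hG l (n - n₀)
  rw [Nat.add_sub_cancel' hn] at h1
  refine ⟨_, h1, ?_⟩
  change cfun 𝒜 d G hG l l ^ (n - n₀) • b l = t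
  rw [cfun_self, one_pow, one_smul, hbl]

include hG hcov in
/-- **Serre**: for `F` quasi-coherent of finite type on `Proj 𝒜` covered by finitely many
`D₊(G i)`, `G i ∈ 𝒜 d`, `d > 0`, and `n ≫ 0`, `F` is a quotient of a finite direct sum of copies of
`O(-nd)`. -/
theorem exists_epi_twist [Finite ι] (hd : 0 < d) (F : (Proj 𝒜).Modules) [F.IsQuasicoherent]
    [SheafOfModules.IsFiniteType (R := (Proj 𝒜).ringCatSheaf) F] :
    ∃ n₀ : ℕ, ∀ n : ℕ, n₀ ≤ n → ∀ k : ℤ, ((0 : ℕ) : ℤ) = ((n * d : ℕ) : ℤ) + k →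
      ∃ (r : ℕ) (p : (∐ fun _ : Fin r => GrTilde.tilde 𝒜 𝒜 k) ⟶ F), Epi p := by
  classical
  haveI : CompactSpace (Proj 𝒜) := compactSpace_of_cover 𝒜 d G hG hcov hd
  haveI : Fintype ι := Fintype.ofFinite ι
  have hW : ∀ i, IsAffineOpen (Proj.basicOpen 𝒜 (G i)) :=
    fun i => Proj.isAffineOpen_basicOpen 𝒜 (G i) (hG i) hd
  have hcov' : ∀ x : Proj 𝒜, ∃ i, x ∈ Proj.basicOpen 𝒜 (G i) := by
    intro x
    obtain ⟨i, hi⟩ := hcov x
    exact ⟨i, (ProjectiveSpectrum.mem_basicOpen 𝒜 (G i) x).mpr hi⟩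
  have hfin : ∀ i, ∃ T : Finset Γ(F, Proj.basicOpen 𝒜 (G i)),
      Submodule.span Γ(Proj 𝒜, Proj.basicOpen 𝒜 (G i)) (T : Set Γ(F, Proj.basicOpen 𝒜 (G i))) = ⊤ := by
    intro i
    have := Groth.Agent.Lib.Helper23.FinType.finite_of_isFiniteType F (hW i)
    exact this.fg_top
  choose T hT using hfin
  let J : Type _ := Σ i, T i
  have hJ : ∀ j : J, ∃ n₀ : ℕ, ∀ n, n₀ ≤ n → ∃ b : ∀ i, Γ(F, Proj.basicOpen 𝒜 (G i)),
      Coc 𝒜 d G hG F n b ∧ b j.1 = j.2.1 := fun j => exists_coc_ge 𝒜 d G hG hcov F j.1 j.2.1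
  choose N hN using hJ
  refine ⟨Finset.univ.sup N, fun n hn k hk => ?_⟩
  have hΦ : ∀ j : J, ∃ Φ : GrTilde.tilde 𝒜 𝒜 k ⟶ F,
      Φ.app (Proj.basicOpen 𝒜 (G j.1)) (aSec 𝒜 d n k hk (hG j.1)) = j.2.1 := by
    intro j
    obtain ⟨b, hb, hbj⟩ := hN j n ((Finset.le_sup (Finset.mem_univ j)).trans hn)
    obtain ⟨Φ, hΦ⟩ := exists_hom_of_coc 𝒜 d G hG hcov n k hk F b hb
    exact ⟨Φ, (hΦ j.1).trans hbj⟩
  choose Φ hΦ using hΦ
  let e : Fin (Fintype.card J) ≃ J := (Fintype.equivFin J).symm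
  refine ⟨Fintype.card J, Sigma.desc (fun x => Φ (e x)), ⟨fun {Z} g h hgh => ?_⟩⟩
  have hj : ∀ j : J, Φ j ≫ g = Φ j ≫ h := by
    intro j
    have := congrArg (fun t => Sigma.ι (fun _ : Fin (Fintype.card J) => GrTilde.tilde 𝒜 𝒜 k)
      (e.symm j) ≫ t) hgh
    simpa using this
  refine Groth.Agent.Lib.Helper27EpiGen.hom_ext_of_affine_cover F Z
    (fun i => Proj.basicOpen 𝒜 (G i)) hW hcov' g h (fun i m => ?_)
  have hm : m ∈ Submodule.span Γ(Proj 𝒜, Proj.basicOpen 𝒜 (G i))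
      (T i : Set Γ(F, Proj.basicOpen 𝒜 (G i))) := by rw [hT i]; trivial
  induction hm using Submodule.span_induction with
  | mem t ht =>
    have h1 := hΦ ⟨i, ⟨t, ht⟩⟩
    have h2 : ∀ q : F ⟶ Z, q.app (Proj.basicOpen 𝒜 (G i)) t =
        (Φ ⟨i, ⟨t, ht⟩⟩ ≫ q).app (Proj.basicOpen 𝒜 (G i)) (aSec 𝒜 d n k hk (hG i)) := by
      intro q
      change _ = q.app _ ((Φ ⟨i, ⟨t, ht⟩⟩).app _ _)
      rw [h1]
    rw [h2 g, h2 h, hj]
  | zero => rw [map_zero, map_zero]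
  | add m₁ m₂ _ _ h₁ h₂ => rw [map_add, map_add, h₁, h₂]
  | smul c m₁ _ h₁ =>
    rw [Scheme.Modules.Hom.app_smul, Scheme.Modules.Hom.app_smul, h₁]

end Groth.Agent.Lib.Helper27GrTildeSect
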