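import Groth.Agent.Lib.Helper27TwistAmple

/-!
# Ampleness of `O(n)` when `Proj` is quasi-compact and covered by `D₊(G)`, `deg G = n > 0` (helper27)
-/

set_option autoImplicit false
universe u

open CategoryTheory CategoryTheory.Limits AlgebraicGeometry TopologicalSpace Opposite
  HomogeneousLocalization
open Groth.Agent.Lib.Helper23.SecTw Groth.Agent.Lib.Helper6

namespace Groth.Agent.Lib.Helper27GrTildeSect

variable {R A : Type u} [CommRing R] [CommRing A] [Algebra R A] (𝒜 : ℕ → Submodule R A)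
  [GradedAlgebra 𝒜]

variable {ι : Type*} (n : ℕ) (G : ι → A) (hG : ∀ i, G i ∈ 𝒜 n)
  (hcov : ∀ y : Proj 𝒜, ∃ i, G i ∉ (show ProjectiveSpectrum 𝒜 from y).asHomogeneousIdeal)

include hcov in
/-- the locus where the global section `G i / 1` generates `O(n)` is `D₊(G i)`. -/
theorem genLocus_secHom_gsec (i : ι) :
    CohB1.genLocus (GrTilde.tilde 𝒜 𝒜 (n : ℤ))
      (secHom (GrTilde.tilde 𝒜 𝒜 (n : ℤ)) (gsec 𝒜 n ⊤ (hG i))) = Proj.basicOpen 𝒜 (G i) := by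
  refine opens_eq_of_cover _ _ (fun x => ?_)
  obtain ⟨j, hj⟩ := hcov x
  have hxW : x ∈ Proj.basicOpen 𝒜 (G j) := (ProjectiveSpectrum.mem_basicOpen 𝒜 (G j) x).mpr hj
  refine ⟨Proj.basicOpen 𝒜 (G j), hxW, ?_⟩
  obtain ⟨f, hf⟩ := (isGen_gsec 𝒜 n (hG j) (Proj.basicOpen 𝒜 (G j)) le_rfl).2
    (gsec 𝒜 n (Proj.basicOpen 𝒜 (G j)) (hG i))
  have hf' : gsec 𝒜 n (Proj.basicOpen 𝒜 (G j)) (hG i) =
      f • gsec 𝒜 n (Proj.basicOpen 𝒜 (G j)) (hG j) := hf.symm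
  have h : sv (secHom (GrTilde.tilde 𝒜 𝒜 (n : ℤ)) (gsec 𝒜 n ⊤ (hG i))) (Proj.basicOpen 𝒜 (G j)) =
      f • gsec 𝒜 n (Proj.basicOpen 𝒜 (G j)) (hG j) := by
    rw [sv_secHom]
    exact hf'
  rw [genLocus_inf_eq_of_isGen _ _ (Proj.basicOpen 𝒜 (G j)) _ f (isGen_gsec 𝒜 n (hG j)) h]
  have hval := (fracSec_eq_smul_iff (n : ℤ) (Proj.basicOpen 𝒜 (G j)) (hG i)
    (SetLike.GradedOne.one_mem : (1 : A) ∈ 𝒜 0) (by simp) (fun y => one_not_mem 𝒜 y.1) (hG j)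
    (SetLike.GradedOne.one_mem : (1 : A) ∈ 𝒜 0) (by simp) (fun y => one_not_mem 𝒜 y.1) f).mp hf'
  have hunit : ∀ (y : ProjectiveSpectrum 𝒜) (hy : y ∈ Proj.basicOpen 𝒜 (G j)),
      IsUnit (funVal 𝒜 _ f y hy) ↔ G i ∉ y.asHomogeneousIdeal := by
    intro y hy
    have hGj : G j ∉ y.asHomogeneousIdeal := (ProjectiveSpectrum.mem_basicOpen 𝒜 (G j) y).mp hy
    apply isUnit_of_val_eq_mk _ hGj
    apply (isUnit_mk hGj (one_not_mem 𝒜 y)).mul_left_injective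
    change _ * _ = _ * _
    rw [← hval y hy, Localization.mk_mul, Localization.mk_eq_mk_iff, Localization.r_iff_exists]
    refine ⟨1, ?_⟩
    simp only [OneMemClass.coe_one, one_mul, Submonoid.coe_mul, mul_one]
    ring
  ext y
  constructor
  · intro hy
    have hyW : y ∈ Proj.basicOpen 𝒜 (G j) := (Proj 𝒜).basicOpen_le f hy
    refine ⟨?_, hyW⟩
    exact (ProjectiveSpectrum.mem_basicOpen 𝒜 (G i) y).mpr
      ((hunit y hyW).mp ((mem_basicOpen_iff_isUnit_funVal 𝒜 _ f y hyW).mp hy))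
  · rintro ⟨hyi, hyW⟩
    exact (mem_basicOpen_iff_isUnit_funVal 𝒜 _ f y hyW).mpr
      ((hunit y hyW).mpr ((ProjectiveSpectrum.mem_basicOpen 𝒜 (G i) y).mp hyi))

include hG hcov in
theorem isAmple_of_cover [CompactSpace (Proj 𝒜)] (hn : 0 < n) :
    CohB1.IsAmple (GrTilde.tilde 𝒜 𝒜 (n : ℤ)) := by
  have hL := isInvertible_of_cover 𝒜 n G hG hcov
  refine ⟨hL, inferInstance, fun x => ?_⟩
  obtain ⟨i, hi⟩ := hcov x
  refine ⟨0, SecTwist.powHom (secHom (GrTilde.tilde 𝒜 𝒜 (n : ℤ)) (gsec 𝒜 n ⊤ (hG i))) 1, ?_, ?_⟩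
  · rw [genLocus_powHom hL _ 1 one_pos, genLocus_secHom_gsec 𝒜 n G hG hcov]
    exact (ProjectiveSpectrum.mem_basicOpen 𝒜 (G i) x).mpr hi
  · rw [genLocus_powHom hL _ 1 one_pos, genLocus_secHom_gsec 𝒜 n G hG hcov]
    exact Proj.isAffineOpen_basicOpen 𝒜 (G i) (hG i) hn

end Groth.Agent.Lib.Helper27GrTildeSect
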