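import Mathlib
import Groth.Prelude
import Groth.Agent.Lib.Helper23VeryAmple2
import Groth.Agent.Lib.Helper27TwistAmple2
import Groth.Agent.Lib.Helper27SerreGen4
import Groth.Agent.Lib.Helper27ProjSpaceBC2
set_option backward.isDefEq.respectTransparency.types false

/-!
# `O(1)` on projective space is ample; very ample ⇒ ample (helper23)

Namespace `Groth.Agent.Lib.Helper23.VeryAmple3`.

* `isRelVeryAmplePn_of_iso`, `exists_X_not_mem`, `isAmple_twistProjSpace`, `isAmple_twistOver` (affine base),
  `isAmple_of_isRelVeryAmplePn` (affine base: some positive power very ample ⇒ ample).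
-/

set_option autoImplicit false
universe u

namespace Groth.Agent.Lib.Helper23.VeryAmple3

open CategoryTheory Limits AlgebraicGeometry TopologicalSpace Opposite
open Groth.Agent.Lib.Helper23.SecTw Groth.Agent.Lib.Helper23.GenLocus Groth.Agent.Lib.Helper6
open Groth.Agent.Lib.Helper23.VeryAmple Groth.Agent.Lib.Helper23.VeryAmple2
open Groth.Agent.Lib.Helper23.AmpleIso Groth.Agent.Lib.Helper23.PB

/-- very ampleness is invariant under isomorphism -/
theorem isRelVeryAmplePn_of_iso {X S : Scheme.{u}} (f : X ⟶ S) {L L' : X.Modules} (e : L ≅ L')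
    (h : RelAmple.IsRelVeryAmplePn f L) : RelAmple.IsRelVeryAmplePn f L' := by
  obtain ⟨n, i, hi, hif, ⟨Φ⟩⟩ := h
  exact ⟨n, i, hi, hif, ⟨e.symm ≪≫ Φ⟩⟩

section Pn
variable (n : ℕ) (R : Type u) [CommRing R]

theorem exists_X_not_mem (y : Proj (CohB1.polyGrading n R)) :
    ∃ i : Fin (n + 1), (MvPolynomial.X i : MvPolynomial (Fin (n + 1)) R) ∉
      (show ProjectiveSpectrum (CohB1.polyGrading n R) from y).asHomogeneousIdeal := by
  by_contra h
  push Not at h
  apply (show ProjectiveSpectrum (CohB1.polyGrading n R) from y).not_irrelevant_le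
  intro a ha
  change a ∈ (show ProjectiveSpectrum (CohB1.polyGrading n R) from y).asHomogeneousIdeal.toIdeal
  have h1 := Groth.Agent.Lib.Helper27ProjSpaceBC.irrelevant_le_span_X n R ha
  have h2 : Ideal.span (Set.range (fun j : ULift.{u} (Fin (n + 1)) =>
        (MvPolynomial.X j.down : MvPolynomial (Fin (n + 1)) R))) ≤
      (show ProjectiveSpectrum (CohB1.polyGrading n R) from y).asHomogeneousIdeal.toIdeal := by
    rw [Ideal.span_le]
    rintro _ ⟨j, rfl⟩
    exact h j.down
  exact h2 h1

/-- `O(1)` on `P^n_R` is ample -/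
theorem isAmple_twistProjSpace : CohB1.IsAmple (Twist.twistProjSpace n R 1) := by
  have hG : ∀ i : Fin (n + 1), (MvPolynomial.X i : MvPolynomial (Fin (n + 1)) R) ∈ CohB1.polyGrading n R 1 :=
    fun i => MvPolynomial.isHomogeneous_X R i
  haveI : CompactSpace (Proj (CohB1.polyGrading n R)) :=
    Groth.Agent.Lib.Helper27GrTildeSect.compactSpace_of_cover (CohB1.polyGrading n R) 1
      (fun i : Fin (n + 1) => (MvPolynomial.X i : MvPolynomial (Fin (n + 1)) R)) hG (exists_X_not_mem n R) Nat.one_pos
  exact Groth.Agent.Lib.Helper27GrTildeSect.isAmple_of_cover (CohB1.polyGrading n R) 1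
    (fun i : Fin (n + 1) => (MvPolynomial.X i : MvPolynomial (Fin (n + 1)) R)) hG (exists_X_not_mem n R) Nat.one_pos

end Pn

/-- `O(1)` on `P^n_Y` is ample, for `Y` affine -/
theorem isAmple_twistOver (n : ℕ) (Y : Scheme.{u}) [IsAffine Y] : CohB1.IsAmple (Twist.twistOver n Y 1) := by
  unfold Twist.twistOver
  haveI : IsAffineHom (specULiftZIsTerminal.from Y) := isAffineHom_of_isAffine _
  haveI : IsAffineHom (pullback.fst (CohB1.ProjSpace.toSpec n (ULift.{u} ℤ)) (specULiftZIsTerminal.from Y)) :=
    MorphismProperty.pullback_fst _ _ ‹_›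
  exact @isAmple_pullback_of_isAffineHom _ _ _ this _ (isAmple_twistProjSpace n (ULift.{u} ℤ))

/-- over an affine base, a module some positive power of which is very ample is ample -/
theorem isAmple_of_isRelVeryAmplePn {X Y : Scheme.{u}} [IsAffine Y] (q : X ⟶ Y) [QuasiCompact q]
    (L : X.Modules) (hL : PicF.IsInvertible L) (n : ℕ) (hn : 0 < n)
    (h : RelAmple.IsRelVeryAmplePn q (CohB1.tensorPow L n)) : CohB1.IsAmple L := by
  obtain ⟨m, i, hi, hiq, ⟨Φ⟩⟩ := h
  haveI : CompactSpace X := QuasiCompact.compactSpace_of_compactSpace q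
  have h1 : CohB1.IsAmple ((Scheme.Modules.pullback i).obj (Twist.twistOver m Y 1)) :=
    isAmple_pullback_of_isEmbedding i i.isEmbedding _ (isAmple_twistOver m Y)
  exact (isAmple_tensorPow_iff L hL n hn).2 (isAmple_of_iso Φ.symm h1)

end Groth.Agent.Lib.Helper23.VeryAmple3
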