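import Mathlib
import Groth.Prelude
import Groth.Agent.S2332
import Groth.Agent.S2359
import Groth.Agent.S4381
import Groth.Agent.S4417
import Groth.Agent.Lib.Helper23VeryAmple3
import Groth.Agent.Lib.Helper27ProjSpaceFibres

/-!
# Very ample implies relatively ample (helper23)

Namespace `Groth.Agent.Lib.Helper23.VeryAmple4`.

* `isRelAmple_twistOver n S` : `O(1)` on `P^n_S` is ample relative to `P^n_S ⟶ S` (any base `S`).
* `isRelAmple_of_isRelVeryAmplePn` : `g : X ⟶ S` quasi-compact, `M` very ample relative to `g` (w.r.t. some `P^n_S`)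
  ⇒ `M` is ample relative to `g`.
-/

set_option autoImplicit false
universe u

namespace Groth.Agent.Lib.Helper23.VeryAmple4

open CategoryTheory CategoryTheory.Limits AlgebraicGeometry

/-- `O(1)` on `P^n_S` is ample relative to `P^n_S ⟶ S` -/
theorem isRelAmple_twistOver (n : ℕ) (S : Scheme.{u}) :
    RelAmple.IsRelAmple (pullback.snd (CohB1.ProjSpace.toSpec n (ULift.{u} ℤ)) (specULiftZIsTerminal.from S))
      (Twist.twistOver n S 1) := by
  haveI : IsProper (CohB1.ProjSpace.toSpec n (ULift.{u} ℤ)) :=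
    Groth.Agent.Lib.Helper27ProjSpaceFibres.isProper_projSpace_toSpec n (ULift.{u} ℤ)
  have h1 : RelAmple.IsRelAmple (CohB1.ProjSpace.toSpec n (ULift.{u} ℤ)) (Twist.twistProjSpace n (ULift.{u} ℤ) 1) :=
    (Groth.Agent.S4381.result _ _).2 (Groth.Agent.Lib.Helper23.VeryAmple3.isAmple_twistProjSpace n (ULift.{u} ℤ))
  exact Groth.Agent.S2332.result _ (specULiftZIsTerminal.from S) _ h1

/-- very ample (w.r.t. `P^n_S`) implies relatively ample, for quasi-compact morphisms -/
theorem isRelAmple_of_isRelVeryAmplePn {X S : Scheme.{u}} (g : X ⟶ S) [QuasiCompact g] (M : X.Modules)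
    (h : RelAmple.IsRelVeryAmplePn g M) : RelAmple.IsRelAmple g M := by
  obtain ⟨n, i, hi, hig, ⟨Φ⟩⟩ := h
  haveI : IsProper (CohB1.ProjSpace.toSpec n (ULift.{u} ℤ)) :=
    Groth.Agent.Lib.Helper27ProjSpaceFibres.isProper_projSpace_toSpec n (ULift.{u} ℤ)
  have hp : IsProper (pullback.snd (CohB1.ProjSpace.toSpec n (ULift.{u} ℤ)) (specULiftZIsTerminal.from S)) :=
    inferInstance
  haveI : IsProper (CohB1.ProjSpaceOver.toBase n S) := hp
  change i ≫ CohB1.ProjSpaceOver.toBase n S = g at hig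
  haveI : QuasiCompact (i ≫ CohB1.ProjSpaceOver.toBase n S) := by
    rw [hig]; infer_instance
  haveI : QuasiCompact i := QuasiCompact.of_comp i (CohB1.ProjSpaceOver.toBase n S)
  have h2 := Groth.Agent.S2359.result (CohB1.ProjSpaceOver.toBase n S) i i.isEmbedding _ (isRelAmple_twistOver n S)
  rw [hig] at h2
  exact Groth.Agent.S4417.isRelAmple_of_iso g Φ.symm h2

end Groth.Agent.Lib.Helper23.VeryAmple4
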