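import Mathlib
import Groth.Agent.S2330
import Groth.Agent.Lib.Helper23VeryAmple4
import Groth.Agent.Lib.Helper23Restr2

/-!
# helper18: quasi-projective morphisms: base change, restriction, comparison with H-quasi-projective
-/

set_option autoImplicit false
set_option linter.unusedSectionVars false
set_option linter.style.haveILetI false
universe u

open CategoryTheory CategoryTheory.Limits AlgebraicGeometry TopologicalSpace Opposite

namespace Groth.Agent.Helper18LC

/-- an isomorphism followed by a quasi-projective morphism is quasi-projective. -/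
theorem isQuasiProjective_iso_comp {X' X Y : Scheme.{u}} (e : X' ≅ X) (f : X ⟶ Y)
    (hf : RelProj.IsQuasiProjective f) : RelProj.IsQuasiProjective (e.hom ≫ f) := by
  obtain ⟨h1, h2, L, hL⟩ := hf
  haveI := h1
  haveI := h2
  refine ⟨inferInstance, inferInstance, (Scheme.Modules.pullback e.hom).obj L, ?_⟩
  exact Groth.Agent.S2359.result f e.hom e.hom.isOpenEmbedding.isEmbedding L hL

/-- base change of a quasi-projective morphism. -/
theorem isQuasiProjective_baseChange {X Y Y' : Scheme.{u}} (f : X ⟶ Y)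
    (hf : RelProj.IsQuasiProjective f) (g : Y' ⟶ Y) :
    RelProj.IsQuasiProjective (pullback.snd f g) := by
  obtain ⟨h1, h2, L, hL⟩ := hf
  haveI := h1
  haveI := h2
  exact ⟨inferInstance, inferInstance, _, Groth.Agent.S2332.result f g L hL⟩

/-- base change of a quasi-projective morphism, for an arbitrary pullback square. -/
theorem isQuasiProjective_of_isPullback {X' X Y' Y : Scheme.{u}} {fst : X' ⟶ X} {snd : X' ⟶ Y'}
    {f : X ⟶ Y} {g : Y' ⟶ Y} (h : IsPullback fst snd f g) (hf : RelProj.IsQuasiProjective f) :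
    RelProj.IsQuasiProjective snd := by
  have h1 := isQuasiProjective_iso_comp h.isoPullback (pullback.snd f g)
    (isQuasiProjective_baseChange f hf g)
  rwa [h.isoPullback_hom_snd] at h1

/-- restriction to a smaller open -/
theorem isQuasiProjective_morphismRestrict_of_le {X Y : Scheme.{u}} (f : X ⟶ Y) {U V : Y.Opens}
    (hVU : V ≤ U) (hf : RelProj.IsQuasiProjective (f ∣_ U)) : RelProj.IsQuasiProjective (f ∣_ V) := by
  have t : IsPullback (f ⁻¹ᵁ U).ι (f ∣_ U) f U.ι := (isPullback_morphismRestrict f U).flip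
  have s : IsPullback (f ⁻¹ᵁ V).ι (f ∣_ V) f V.ι := (isPullback_morphismRestrict f V).flip
  have s' : IsPullback (X.homOfLE (f.preimage_mono hVU) ≫ (f ⁻¹ᵁ U).ι) (f ∣_ V) f
      (Y.homOfLE hVU ≫ U.ι) := by
    rw [Scheme.homOfLE_ι, Scheme.homOfLE_ι]; exact s
  refine isQuasiProjective_of_isPullback (IsPullback.of_right s' ?_ t) hf
  rw [← cancel_mono U.ι, Category.assoc, Category.assoc, morphismRestrict_ι, Scheme.homOfLE_ι_assoc,
    Scheme.homOfLE_ι, morphismRestrict_ι]

/-- **over an affine base quasi-projective morphisms are H-quasi-projective.** -/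
theorem isHQuasiProjective_of_isQuasiProjective_of_isAffine {Z Y : Scheme.{u}} [IsAffine Y] (g : Z ⟶ Y)
    (hg : RelProj.IsQuasiProjective g) : RelProj.IsHQuasiProjective g := by
  obtain ⟨h1, h2, L, hL⟩ := hg
  haveI := h1
  haveI := h2
  have hamp : CohB1.IsAmple L := (Groth.Agent.S4381.result g L).1 hL
  haveI hsep : Z.IsSeparated := Groth.Agent.Lib.Helper23.SecTw.isSeparated_of_isAmple L hamp
  haveI : IsSeparated (g ≫ terminal.from Y) := by
    rw [terminal.comp_from]; exact hsep.1
  haveI : IsSeparated g := IsSeparated.of_comp g (terminal.from Y)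
  obtain ⟨n, -, m, i, hi, hig, -⟩ := (Groth.Agent.S2330.result g L hamp.1).1.1 hamp
  haveI : IsProper (CohB1.ProjSpace.toSpec m (ULift.{u} ℤ)) :=
    Groth.Agent.Lib.Helper27ProjSpaceFibres.isProper_projSpace_toSpec m (ULift.{u} ℤ)
  have hp : IsProper (pullback.snd (CohB1.ProjSpace.toSpec m (ULift.{u} ℤ))
      (specULiftZIsTerminal.from Y)) := inferInstance
  haveI : IsProper (CohB1.ProjSpaceOver.toBase m Y) := hp
  change i ≫ CohB1.ProjSpaceOver.toBase m Y = g at hig
  haveI : QuasiCompact (i ≫ CohB1.ProjSpaceOver.toBase m Y) := by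
    rw [hig]; infer_instance
  haveI : QuasiCompact i := QuasiCompact.of_comp i (CohB1.ProjSpaceOver.toBase m Y)
  exact ⟨m, i, hi, inferInstance, hig⟩

/-- **H-quasi-projective morphisms are quasi-projective.** -/
theorem isQuasiProjective_of_isHQuasiProjective {Z Y : Scheme.{u}} (g : Z ⟶ Y)
    (hg : RelProj.IsHQuasiProjective g) : RelProj.IsQuasiProjective g := by
  obtain ⟨n, i, hi, hqc, hig⟩ := hg
  haveI := hi
  haveI := hqc
  haveI : IsProper (CohB1.ProjSpace.toSpec n (ULift.{u} ℤ)) :=
    Groth.Agent.Lib.Helper27ProjSpaceFibres.isProper_projSpace_toSpec n (ULift.{u} ℤ)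
  have hp : IsProper (pullback.snd (CohB1.ProjSpace.toSpec n (ULift.{u} ℤ))
      (specULiftZIsTerminal.from Y)) := inferInstance
  haveI : IsProper (CohB1.ProjSpaceOver.toBase n Y) := hp
  haveI hlft : LocallyOfFiniteType g := by rw [← hig]; infer_instance
  haveI hqcg : QuasiCompact g := by rw [← hig]; infer_instance
  refine ⟨hlft, hqcg, (Scheme.Modules.pullback i).obj (Twist.twistOver n Y 1), ?_⟩
  exact Groth.Agent.Lib.Helper23.VeryAmple4.isRelAmple_of_isRelVeryAmplePn g _
    ⟨n, i, hi, hig, ⟨Iso.refl _⟩⟩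

/-- **locally quasi-projective is the same as locally H-quasi-projective.** -/
theorem isLocallyQuasiProjective_iff {X S : Scheme.{u}} (f : X ⟶ S) :
    (∀ s : S, ∃ U : S.Opens, s ∈ U ∧ RelProj.IsQuasiProjective (f ∣_ U)) ↔
      (∀ s : S, ∃ U : S.Opens, s ∈ U ∧ RelProj.IsHQuasiProjective (f ∣_ U)) := by
  constructor
  · intro hf s
    obtain ⟨U, hsU, hU⟩ := hf s
    obtain ⟨V, hV, hsV, hVU⟩ := exists_isAffineOpen_mem_and_subset (x := s) (U := U) hsU
    haveI : IsAffine (↑V : Scheme.{u}) := hV
    exact ⟨V, hsV, isHQuasiProjective_of_isQuasiProjective_of_isAffine _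
      (isQuasiProjective_morphismRestrict_of_le f hVU hU)⟩
  · intro hf s
    obtain ⟨U, hsU, hU⟩ := hf s
    exact ⟨U, hsU, isQuasiProjective_of_isHQuasiProjective _ hU⟩

end Groth.Agent.Helper18LC
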