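import Mathlib
import Groth.Agent.Lib.Helper23GenNear
import Groth.Agent.Lib.Helper23Restr
import Groth.Agent.Lib.Helper23AmpleIso
import Groth.Agent.Lib.Helper23SecTw7
import Groth.Prelude.Def_LCI2

/-!
# Relative ampleness is local on the base (helper26)
-/

set_option autoImplicit false
set_option linter.style.haveILetI false
universe u
open CategoryTheory CategoryTheory.Limits AlgebraicGeometry TopologicalSpace Opposite

namespace Groth.Agent.Lib.Helper26.RelAmpleLoc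
open Groth.Agent.Lib.Helper23.SecTw Groth.Agent.Lib.Helper23.GenLocus Groth.Agent.Lib.Helper6
open Groth.Agent.Lib.Helper23.GenNear Groth.Agent.Lib.Helper23.Extend Groth.Agent.Lib.Helper23.AmpleIso

variable {X Y : Scheme.{u}}

theorem secHom_sv' (M : X.Modules) (s : Coh.structureModule X ⟶ M) : secHom M (sv s ⊤) = s := by
  apply hom_ext_of_sv
  rw [sv_secHom, Groth.Agent.Lib.Helper23.SecTw.res_self]

/-- every morphism `O_U ⟶ M|_U` comes from a section of `M` over `U`. -/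
theorem exists_restrSecLocal_eq (M : X.Modules) (U : X.Opens)
    (s : Coh.structureModule (↑U : Scheme.{u}) ⟶ M.restrict U.ι) :
    ∃ t : Γ(M, U), restrSecLocal M U t = s := by
  have hle : U ≤ U.ι ''ᵁ ⊤ := by rw [Scheme.Opens.ι_image_top]
  refine ⟨res M hle (show Γ(M, U.ι ''ᵁ ⊤) from sv s ⊤), ?_⟩
  apply hom_ext_of_sv
  rw [sv_restrSecLocal]
  have h1 : res M (image_le_self U ⊤) (res M hle (show Γ(M, U.ι ''ᵁ ⊤) from sv s ⊤)) =
      (show Γ(M, U.ι ''ᵁ ⊤) from sv s ⊤) := by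
    rw [res_res]
    exact Groth.Agent.Lib.Helper23.SecTw.res_self M _
  exact h1

/-- unpacking ampleness of `L|_A` at a point in terms of sections of powers of `L` over `A`. -/
theorem exists_section_of_isAmple_restrict (L : X.Modules) (hL : PicF.IsInvertible L) (A : X.Opens)
    (hA : CohB1.IsAmple (L.restrict A.ι)) (x : X) (hx : x ∈ A) :
    ∃ (n : ℕ) (m : Γ(CohB1.tensorPow L (n + 1), A)) (Z : X.Opens), IsAffineOpen Z ∧ Z ≤ A ∧ x ∈ Z ∧
      ∀ y, IsGenNear (CohB1.tensorPow L (n + 1)) A m y ↔ y ∈ Z := by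
  obtain ⟨n, s, hxs, haff⟩ := hA.2.2 ⟨x, hx⟩
  obtain ⟨Θ⟩ := nonempty_restrict_tensorPow_iso L hL A (n + 1)
  obtain ⟨m, hm⟩ := exists_restrSecLocal_eq (CohB1.tensorPow L (n + 1)) A (s ≫ Θ.inv)
  have hgl : CohB1.genLocus _ (restrSecLocal (CohB1.tensorPow L (n + 1)) A m) = CohB1.genLocus _ s := by
    rw [hm]
    exact genLocus_comp_iso Θ.symm s
  refine ⟨n, m, A.ι ''ᵁ CohB1.genLocus _ s, haff.image_of_isOpenImmersion A.ι, image_le_self A _,
    ⟨⟨x, hx⟩, hxs, rfl⟩, fun y => ?_⟩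
  constructor
  · intro hy
    have hyA : y ∈ A := hy.mem
    have h1 := (mem_genLocus_restrSecLocal_iff (CohB1.tensorPow L (n + 1)) A m ⟨y, hyA⟩).2 hy
    rw [hgl] at h1
    exact ⟨⟨y, hyA⟩, h1, rfl⟩
  · rintro ⟨y', hy', rfl⟩
    rw [← hgl] at hy'
    exact (mem_genLocus_restrSecLocal_iff (CohB1.tensorPow L (n + 1)) A m y').1 hy'

/-- a criterion for ampleness of `L|_U` in terms of sections of powers of `L` over `U`. -/
theorem isAmple_restrict_of_sections (L : X.Modules) (hL : PicF.IsInvertible L) (U : X.Opens)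
    (hqc : IsCompact (U : Set X))
    (h : ∀ x ∈ U, ∃ (n : ℕ) (t : Γ(CohB1.tensorPow L (n + 1), U)) (Z : X.Opens), IsAffineOpen Z ∧ x ∈ Z ∧
      ∀ y, IsGenNear (CohB1.tensorPow L (n + 1)) U t y ↔ y ∈ Z) :
    CohB1.IsAmple (L.restrict U.ι) := by
  refine ⟨isInvertible_restrict L hL U, isCompact_iff_compactSpace.1 hqc, fun x' => ?_⟩
  obtain ⟨n, t, Z, hZ, hxZ, hiff⟩ := h x'.1 x'.2
  obtain ⟨Θ⟩ := nonempty_restrict_tensorPow_iso L hL U (n + 1)
  have hZU : Z ≤ U := fun y hy => ((hiff y).2 hy).mem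
  have hgl : CohB1.genLocus _ (restrSecLocal (CohB1.tensorPow L (n + 1)) U t) = U.ι ⁻¹ᵁ Z := by
    ext y'
    exact ((mem_genLocus_restrSecLocal_iff (CohB1.tensorPow L (n + 1)) U t y').trans (hiff y'.1))
  refine ⟨n, restrSecLocal (CohB1.tensorPow L (n + 1)) U t ≫ Θ.hom, ?_, ?_⟩
  · rw [genLocus_comp_iso, hgl]
    exact hxZ
  · rw [genLocus_comp_iso, hgl, ← Scheme.Hom.isAffineOpen_iff_of_isOpenImmersion U.ι, image_preimage_of_le _ hZU]
    exact hZ

/-- **Relative ampleness is local on the base**: if every point of `Y` has an affine open neighbourhood `V` with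
`L|_{f⁻¹ V}` ample, then `L` is ample relative to `f`. -/
theorem isRelAmple_of_affine_cover (f : X ⟶ Y) [QuasiCompact f] [QuasiSeparated f] (L : X.Modules)
    (hL : PicF.IsInvertible L)
    (h : ∀ y : Y, ∃ V : Y.Opens, IsAffineOpen V ∧ y ∈ V ∧ CohB1.IsAmple (L.restrict (f ⁻¹ᵁ V).ι)) :
    RelAmple.IsRelAmple f L := by
  refine ⟨inferInstance, fun V => ?_⟩
  have hqc : IsCompact (f ⁻¹ᵁ V.1).carrier := QuasiCompact.isCompact_preimage (f := f) _ V.1.2 V.2.isCompact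
  have hqs : IsQuasiSeparated (f ⁻¹ᵁ V.1).carrier := Scheme.Hom.isQuasiSeparated_preimage f V.2.isQuasiSeparated
  refine isAmple_restrict_of_sections L hL _ hqc (fun x hx => ?_)
  obtain ⟨Va, hVa, hxa, hamp⟩ := h (f x)
  obtain ⟨n, m, Z, hZ, hZA, hxZ, hiff⟩ := exists_section_of_isAmple_restrict L hL (f ⁻¹ᵁ Va) hamp x hxa
  obtain ⟨g, ga, hgg, hyg⟩ := exists_basicOpen_le_affine_inter V.2 hVa (f x) ⟨hx, hxa⟩
  have hM := isInvertible_tensorPow hL (n + 1)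
  obtain ⟨g', hg'⟩ : ∃ g' : Γ(X, f ⁻¹ᵁ V.1), g' = f.app V.1 g := ⟨_, rfl⟩
  obtain ⟨ga', hga'⟩ : ∃ ga' : Γ(X, f ⁻¹ᵁ Va), ga' = f.app Va ga := ⟨_, rfl⟩
  have hbo : X.basicOpen g' = f ⁻¹ᵁ Y.basicOpen g := by rw [hg', Scheme.preimage_basicOpen]
  have hboa : X.basicOpen ga' = f ⁻¹ᵁ Y.basicOpen ga := by rw [hga', Scheme.preimage_basicOpen]
  have hBB : X.basicOpen g' = X.basicOpen ga' := by rw [hbo, hboa, hgg]
  have hBA : X.basicOpen g' ≤ f ⁻¹ᵁ Va := hBB ▸ X.basicOpen_le ga'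
  have hxB : x ∈ X.basicOpen g' := by rw [hbo]; exact hyg
  obtain ⟨t, ht⟩ := exists_extension_isGenNear hM (f ⁻¹ᵁ V.1) hqc hqs g' (X.basicOpen g') le_rfl
    (res _ hBA m)
  refine ⟨n, t, X.basicOpen (X.presheaf.map (homOfLE hZA).op ga'), hZ.basicOpen _, ?_, fun y => ?_⟩
  · rw [Scheme.basicOpen_res]
    exact ⟨hxZ, hBB ▸ hxB⟩
  · rw [ht y, Scheme.basicOpen_res]
    constructor
    · rintro ⟨hyB, hgen⟩
      have h1 := (IsGenNear.res_iff hM hBA m y hyB).1 hgen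
      exact ⟨(hiff y).1 h1, hBB ▸ hyB⟩
    · rintro ⟨hyZ, hyB⟩
      have hyB' : y ∈ X.basicOpen g' := hBB.symm ▸ hyB
      exact ⟨hyB', (IsGenNear.res_iff hM hBA m y hyB').2 ((hiff y).2 hyZ)⟩

end Groth.Agent.Lib.Helper26.RelAmpleLoc
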