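import Mathlib
import Groth.Prelude
import Groth.Agent.Lib.Helper11ChowPlus
import Groth.Agent.Lib.Helper18LC
import Groth.Agent.Lib.Helper26RelAmpleLoc
import Groth.Agent.Lib.Helper23RestrJ
import Groth.Agent.Lib.Helper23Restr2
set_option backward.isDefEq.respectTransparency.types false

/-!
# Chow's lemma in the form of EGA II 5.6.1 (helper11)

Namespace `Groth.Agent.Lib.Helper11.ChowEGA`.
-/

set_option autoImplicit false
set_option linter.style.haveILetI false
universe u
open CategoryTheory Limits AlgebraicGeometry TopologicalSpace Opposite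

namespace Groth.Agent.Lib.Helper11.ChowEGA

/-- if `L` is ample relative to `π ≫ r` with `π` quasi-compact and quasi-separated, then `L` is ample relative to `π` -/
theorem isRelAmple_of_comp {X' X S : Scheme.{u}} (π : X' ⟶ X) (r : X ⟶ S) [QuasiCompact π] [QuasiSeparated π]
    (L : X'.Modules) (hL : RelAmple.IsRelAmple (π ≫ r) L) : RelAmple.IsRelAmple π L := by
  have hinv := Groth.Agent.Lib.Helper23.SecTw.isInvertible_of_isRelAmple (π ≫ r) L hL
  refine Groth.Agent.Lib.Helper26.RelAmpleLoc.isRelAmple_of_affine_cover π L hinv (fun y => ?_)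
  obtain ⟨_, ⟨W, hW, rfl⟩, hyW, -⟩ :=
    S.isBasis_affineOpens.exists_subset_of_mem_open (Set.mem_univ (r y)) isOpen_univ
  obtain ⟨_, ⟨V, hV, rfl⟩, hyV, hVW⟩ :=
    X.isBasis_affineOpens.exists_subset_of_mem_open (show y ∈ r ⁻¹ᵁ W from hyW) (r ⁻¹ᵁ W).isOpen
  have hle : π ⁻¹ᵁ V ≤ (π ≫ r) ⁻¹ᵁ W := fun x hx => hVW hx
  have hc : IsCompact ((π ⁻¹ᵁ V : X'.Opens) : Set X') :=
    QuasiCompact.isCompact_preimage (f := π) _ V.isOpen hV.isCompact
  exact ⟨V, hV, hyV, Groth.Agent.Lib.Helper23.RestrJ.isAmple_restrict_of_le L hle hc (hL.2 ⟨W, hW⟩)⟩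

/-- quasi-projectivity of the first factor of a quasi-projective composite -/
theorem isQuasiProjective_of_comp {X' X S : Scheme.{u}} (π : X' ⟶ X) (r : X ⟶ S) [QuasiCompact π]
    [QuasiSeparated π] (h : RelProj.IsQuasiProjective (π ≫ r)) : RelProj.IsQuasiProjective π := by
  obtain ⟨hlft, -, L, hL⟩ := h
  haveI := hlft
  exact ⟨locallyOfFiniteType_of_comp π r, inferInstance, L, isRelAmple_of_comp π r L hL⟩

/-- Chow's lemma, EGA form, without the projectivity of `f` -/
theorem chow_ega {X S : Scheme.{u}} (r : X ⟶ S) [IsSeparated r] [LocallyOfFiniteType r] [QuasiCompact r]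
    (h : IsNoetherian S ∨ (CompactSpace S ∧ S.IsSeparated ∧ (irreducibleComponents X).Finite)) :
    ∃ (X' : Scheme.{u}) (f : X' ⟶ X),
      RelProj.IsQuasiProjective (f ≫ r) ∧ IsProper f ∧ RelProj.IsQuasiProjective f ∧ Surjective f ∧
      (∃ U : X.Opens, Dense (U : Set X) ∧ Dense ((f ⁻¹ᵁ U : X'.Opens) : Set X') ∧ IsIso (f ∣_ U)) ∧
      (IsReduced X → IsReduced X') ∧ (IrreducibleSpace X → IrreducibleSpace X') ∧
      (IsIntegral X → IsIntegral X') := by
  have hS : CompactSpace S ∧ QuasiSeparatedSpace S ∧ (irreducibleComponents X).Finite := by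
    rcases h with h | ⟨h1, h2, h3⟩
    · haveI := h
      haveI : IsLocallyNoetherian X := LocallyOfFiniteType.isLocallyNoetherian r
      haveI : CompactSpace X := QuasiCompact.compactSpace_of_compactSpace r
      haveI : IsNoetherian X := {}
      exact ⟨inferInstance, inferInstance, TopologicalSpace.NoetherianSpace.finite_irreducibleComponents⟩
    · haveI := h2
      exact ⟨h1, inferInstance, h3⟩
  obtain ⟨hS1, hS2, hirr⟩ := hS
  haveI := hS1
  haveI := hS2
  obtain ⟨n, X', π, j, hj, hfac, hprop, hsurj, U, hUd, hiso, hqc, hsd⟩ :=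
    Groth.Agent.Lib.Helper11.ChowPlus.chow_finite_components' r hirr
  haveI := hj
  haveI := hprop
  haveI := hiso
  haveI := hqc
  haveI := hsd
  haveI : IsProper (CohB1.ProjSpaceOver.toBase n S) :=
    Groth.Agent.Lib.Helper27ProjSpaceFibres.isProper_toBase n S
  have hjqc : QuasiCompact j := by
    haveI : QuasiCompact (j ≫ CohB1.ProjSpaceOver.toBase n S) := by rw [hfac]; infer_instance
    exact QuasiCompact.of_comp j (CohB1.ProjSpaceOver.toBase n S)
  have hqp : RelProj.IsQuasiProjective (π ≫ r) :=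
    Groth.Agent.Helper18LC.isQuasiProjective_of_isHQuasiProjective (π ≫ r) ⟨n, j, hj, hjqc, hfac⟩
  -- density of the preimage
  have hdense : Dense ((π ⁻¹ᵁ U : X'.Opens) : Set X') := by
    have h1 : DenseRange (π ⁻¹ᵁ U).ι := (π ⁻¹ᵁ U).ι.denseRange
    have h2 : Set.range (π ⁻¹ᵁ U).ι = ((π ⁻¹ᵁ U : X'.Opens) : Set X') := Scheme.Opens.range_ι _
    rw [← h2]
    exact h1
  have hred : IsReduced X → IsReduced X' := by
    intro hX
    haveI : IsReduced (↑(π ⁻¹ᵁ U) : Scheme.{u}) := isReduced_of_isOpenImmersion (π ∣_ U)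
    exact IsSchemeTheoreticallyDominant.isReduced (π ⁻¹ᵁ U).ι
  have hirr' : IrreducibleSpace X → IrreducibleSpace X' := by
    intro hX
    have hne : (U : Set X).Nonempty := hUd.nonempty
    have hUirr : IsIrreducible (U : Set X) :=
      ⟨hne, (IrreducibleSpace.isIrreducible_univ X).2.open_subset U.isOpen (Set.subset_univ _)⟩
    haveI : IrreducibleSpace (↑U : Scheme.{u}) := isIrreducible_iff_irreducibleSpace.1 hUirr
    have hhomeo : (↑(π ⁻¹ᵁ U) : Scheme.{u}) ≃ₜ (↑U : Scheme.{u}) := Scheme.homeoOfIso (asIso (π ∣_ U))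
    haveI : IrreducibleSpace (↑(π ⁻¹ᵁ U) : Scheme.{u}) := by
      rw [irreducibleSpace_def]
      have h1 := (IrreducibleSpace.isIrreducible_univ (↑U : Scheme.{u})).image hhomeo.symm
        hhomeo.symm.continuous.continuousOn
      rwa [Set.image_univ, hhomeo.symm.surjective.range_eq] at h1
    have h1 := (IrreducibleSpace.isIrreducible_univ (↑(π ⁻¹ᵁ U) : Scheme.{u})).image (π ⁻¹ᵁ U).ι
      (π ⁻¹ᵁ U).ι.continuous.continuousOn
    rw [Set.image_univ, Scheme.Opens.range_ι] at h1
    have h2 := h1.closure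
    rw [hdense.closure_eq] at h2
    exact (irreducibleSpace_def X').2 h2
  refine ⟨X', π, hqp, hprop, isQuasiProjective_of_comp π r hqp, hsurj, ⟨U, hUd, hdense, hiso⟩, hred, hirr', ?_⟩
  intro hX
  haveI := hred inferInstance
  haveI := hirr' inferInstance
  exact isIntegral_of_irreducibleSpace_of_isReduced X'

end Groth.Agent.Lib.Helper11.ChowEGA
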