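import Groth.Agent.Lib.Helper11ChainX

/-!
Genus one classification: the main structure theorem.
-/

namespace Groth.Agent.Lib.Helper11

open Finset Models

variable {n : ℕ} {T : Models.NumericalType n}

/-- a vertex with three neighbours one of which is joined by a multiple edge -/
theorem resFam_of_pend_dbl (h2 : ∀ i, T.IsMinusTwo i) (c l1 l2 x : Fin n) (hcl1 : c ≠ l1)
    (hcl2 : c ≠ l2) (hcx : c ≠ x) (hl12 : l1 ≠ l2) (hl1x : l1 ≠ x) (hl2x : l2 ≠ x)
    (a1 : T.a c l1 ≠ 0) (a2 : T.a c l2 ≠ 0) (ax : T.a c x ≠ 0) (hd : DblE T c x) : ResFam T := by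
  have hpath : ∀ j j' : Fin 4, j'.val = j.val + 1 → j'.val + 2 ≤ 4 →
      T.a (emb4 x c l1 l2 hcx.symm hl1x.symm hl2x.symm hcl1 hcl2 hl12 j)
        (emb4 x c l1 l2 hcx.symm hl1x.symm hl2x.symm hcl1 hcl2 hl12 j') ≠ 0 := by
    intro j j' hjj hj'
    have hj : j.val = 0 ∨ j.val = 1 := by omega
    rcases hj with hj | hj
    · rw [show j = 0 from Fin.ext hj, show j' = 1 from Fin.ext (by omega)]
      show T.a x c ≠ 0
      rw [a_symm]; exact ax
    · rw [show j = 1 from Fin.ext hj, show j' = 2 from Fin.ext (by omega)]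
      exact a1
  have hbr : ∀ j j' : Fin 4, j.val + 3 = 4 → j'.val + 1 = 4 →
      T.a (emb4 x c l1 l2 hcx.symm hl1x.symm hl2x.symm hcl1 hcl2 hl12 j)
        (emb4 x c l1 l2 hcx.symm hl1x.symm hl2x.symm hcl1 hcl2 hl12 j') ≠ 0 := by
    intro j j' hj hj'
    rw [show j = 1 from Fin.ext (by omega), show j' = 3 from Fin.ext (by omega)]
    exact a2
  have e1 := kk_pos T hcx ax
  have e2 := kk_pos' T hcx ax
  by_cases hA : 2 ≤ kk T x c
  · obtain ⟨hkn, m, w, hc⟩ := fam6 T (emb4 x c l1 l2 hcx.symm hl1x.symm hl2x.symm hcl1 hcl2 hl12)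
      (fun j => h2 _) (by omega) (hB_bt _ (Or.inr rfl) hpath hbr (by
        intro p q hp hq
        rw [show p = 0 from Fin.ext hp, show q = 1 from Fin.ext hq]
        exact ⟨hA, by show 3 - 2 ≤ kk T c x; omega⟩))
    exact ⟨_, _, m, w, hkn, Or.inr (Or.inr (Or.inr (Or.inr (Or.inr (Or.inl hc)))))⟩
  · have h' : 2 ≤ kk T c x := by rcases hd with h | h <;> omega
    obtain ⟨hkn, m, w, hc⟩ := fam5 T (emb4 x c l1 l2 hcx.symm hl1x.symm hl2x.symm hcl1 hcl2 hl12)
      (fun j => h2 _) (by omega) (hB_bt _ (Or.inl rfl) hpath hbr (by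
        intro p q hp hq
        rw [show p = 0 from Fin.ext hp, show q = 1 from Fin.ext hq]
        exact ⟨by show 1 ≤ kk T x c; omega, by show 3 - 1 ≤ kk T c x; omega⟩))
    exact ⟨_, _, m, w, hkn, Or.inr (Or.inr (Or.inr (Or.inr (Or.inl hc))))⟩

/-- the reordering for the completed `E6` configuration -/
def permE6 : Equiv.Perm (Fin 7) := Equiv.swap 3 4 * Equiv.swap 5 6

/-- the reordering for the completed `D4` configuration -/
def permD4 : Equiv.Perm (Fin 5) := Equiv.swap 0 1

theorem classify (h2 : ∀ i, T.IsMinusTwo i) (hn : 4 ≤ n) (X : Prop)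
    (hD4 : ∀ u, IsD4cfg T u → X) (hF4 : ∀ u, IsF4cfg T u → X) (hE62 : ∀ u, IsE62cfg T u → X)
    (hE6 : ∀ u, IsE6cfg T u → X) (hE7 : ∀ u, IsE7cfg T u → X) (hE8 : ∀ u, IsE8cfg T u → X)
    (hfin : ∀ (t' : ℕ) (v' : Fin t' ↪ Fin n) (x' : Fin n) (kb' : Fin t'), Spider T v' x' kb' →
      kb'.val = 2 → 5 ≤ t' → t' ≤ 7 → X) :
    ResFam T ∨ X := by
  classical
  obtain ⟨t, v, hpath, ht2, hmax⟩ := exists_longest_path T (by omega)
  have hLP : LP T v := ⟨hpath, ht2, hmax⟩
  have hvne : ∀ i j : Fin t, i.val ≠ j.val → v i ≠ v j := fun i j hij h =>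
    hij (congrArg Fin.val (v.injective h))
  -- Step 1: chords
  by_cases hch : ∃ p q : Fin t, p.val + 2 ≤ q.val ∧ T.a (v p) (v q) ≠ 0
  · obtain ⟨p, q, hpq, ha⟩ := hch
    exact Or.inl (resFam_of_cyc h2 (cycle_of_chord hpath p q hpq ha))
  push Not at hch
  -- Step 2: vertices off the path with two neighbours on the path
  by_cases htw : ∃ x, (∀ j, v j ≠ x) ∧ ∃ p q : Fin t, p.val < q.val ∧ T.a (v p) x ≠ 0 ∧
      T.a (v q) x ≠ 0
  · obtain ⟨x, hx, p, q, hpq, hp, hq⟩ := htw
    exact Or.inl (resFam_of_cyc h2 (cycle_of_two hpath x hx p q hpq hp hq))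
  push Not at htw
  have hint : ∀ x, (∀ j, v j ≠ x) → ∀ kb : Fin t, T.a (v kb) x ≠ 0 →
      1 ≤ kb.val ∧ kb.val + 2 ≤ t := by
    intro x hx kb hkb
    have := kb.isLt
    constructor
    · by_contra h; exact hkb (hLP.no_ext_first x hx kb (by omega))
    · by_contra h; exact hkb (hLP.no_ext_last x hx kb (by omega))
  -- Step 3: the completed E6 configuration
  by_cases hE : ∃ x y, ∃ kb : Fin t, (∀ j, v j ≠ x) ∧ (∀ j, v j ≠ y) ∧ x ≠ y ∧
      T.a (v kb) x ≠ 0 ∧ T.a x y ≠ 0
  · right
    obtain ⟨x, y, kb, hx, hy, hxy, hkx, hxyadj⟩ := hE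
    have hkl := kb.isLt
    have hk3 : kb.val + 3 ≤ t := by
      have hL : 0 + (kb.val + 1) ≤ t := by omega
      have hx1 : ∀ j, segEmb v 0 (kb.val + 1) hL j ≠ x := fun j => by
        rw [segEmb_apply]; exact hx _
      have hy1 : ∀ j, snocEmb (segEmb v 0 (kb.val + 1) hL) x hx1 j ≠ y := by
        intro j
        by_cases hj : j.val < kb.val + 1
        · rw [snocEmb_lt _ x hx1 j ⟨j.val, hj⟩ rfl, segEmb_apply]; exact hy _
        · rw [snocEmb_last _ x hx1 j (by have := j.isLt; omega)]; exact hxy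
      have := hmax _ (snocEmb (snocEmb (segEmb v 0 (kb.val + 1) hL) x hx1) y hy1)
        (((hpath.seg 0 (kb.val + 1) hL).snoc x hx1 (by
          intro j hj
          rw [segEmb_eq v _ _ hL j kb (by omega)]
          exact hkx)).snoc y hy1 (by
          intro j hj
          rw [snocEmb_last _ x hx1 j (by omega)]
          exact hxyadj))
      omega
    have hk2 : 2 ≤ kb.val := by
      have hL : 0 + (t - kb.val) ≤ t := by omega
      have hx1 : ∀ j, segEmb (revEmb v) 0 (t - kb.val) hL j ≠ x := fun j => by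
        rw [segEmb_apply, revEmb_apply]; exact hx _
      have hy1 : ∀ j, snocEmb (segEmb (revEmb v) 0 (t - kb.val) hL) x hx1 j ≠ y := by
        intro j
        by_cases hj : j.val < t - kb.val
        · rw [snocEmb_lt _ x hx1 j ⟨j.val, hj⟩ rfl, segEmb_apply, revEmb_apply]; exact hy _
        · rw [snocEmb_last _ x hx1 j (by have := j.isLt; omega)]; exact hxy
      have := hmax _ (snocEmb (snocEmb (segEmb (revEmb v) 0 (t - kb.val) hL) x hx1) y hy1)
        (((hpath.rev.seg 0 (t - kb.val) hL).snoc x hx1 (by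
          intro j hj
          rw [segEmb_apply, revEmb_eq v _ kb (by simp only []; omega)]
          exact hkx)).snoc y hy1 (by
          intro j hj
          rw [snocEmb_last _ x hx1 j (by omega)]
          exact hxyadj))
      omega
    -- the configuration
    have hL : (kb.val - 2) + 5 ≤ t := by omega
    have hx1 : ∀ j, segEmb v (kb.val - 2) 5 hL j ≠ x := fun j => by
      rw [segEmb_apply]; exact hx _
    have hy1 : ∀ j, snocEmb (segEmb v (kb.val - 2) 5 hL) x hx1 j ≠ y := by
      intro j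
      by_cases hj : j.val < 5
      · rw [snocEmb_lt _ x hx1 j ⟨j.val, hj⟩ rfl, segEmb_apply]; exact hy _
      · rw [snocEmb_last _ x hx1 j (by have := j.isLt; omega)]; exact hxy
    have hw := hpath.seg (kb.val - 2) 5 hL
    have w0 : ∀ (j : Fin 7) (j' : Fin 5), j'.val = j.val →
        snocEmb (snocEmb (segEmb v (kb.val - 2) 5 hL) x hx1) y hy1 j =
          segEmb v (kb.val - 2) 5 hL j' := by
      intro j j' hj
      rw [snocEmb_lt _ y hy1 j ⟨j.val, by have := j'.isLt; omega⟩ rfl,
        snocEmb_lt _ x hx1 _ j' hj]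
    have w5 : snocEmb (snocEmb (segEmb v (kb.val - 2) 5 hL) x hx1) y hy1 5 = x := by
      rw [snocEmb_lt _ y hy1 5 ⟨5, by omega⟩ rfl, snocEmb_last _ x hx1 _ rfl]
    have w6 : snocEmb (snocEmb (segEmb v (kb.val - 2) 5 hL) x hx1) y hy1 6 = y :=
      snocEmb_last _ y hy1 6 rfl
    have w2 : segEmb v (kb.val - 2) 5 hL 2 = v kb := segEmb_eq v _ _ hL 2 kb (by simp; omega)
    refine hE6 (permE6.toEmbedding.trans
      (snocEmb (snocEmb (segEmb v (kb.val - 2) 5 hL) x hx1) y hy1)) ⟨?_, ?_, ?_, ?_, ?_, ?_⟩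
    · show T.a (snocEmb _ y hy1 (permE6 0))
        (snocEmb _ y hy1 (permE6 1)) ≠ 0
      rw [show permE6 0 = 0 from by decide,
        show permE6 1 = 1 from by decide,
        w0 0 0 rfl, w0 1 1 rfl]
      exact hw 0 1 rfl
    · show T.a (snocEmb _ y hy1 (permE6 1))
        (snocEmb _ y hy1 (permE6 2)) ≠ 0
      rw [show permE6 1 = 1 from by decide,
        show permE6 2 = 2 from by decide,
        w0 1 1 rfl, w0 2 2 rfl]
      exact hw 1 2 rfl
    · show T.a (snocEmb _ y hy1 (permE6 2))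
        (snocEmb _ y hy1 (permE6 4)) ≠ 0
      rw [show permE6 2 = 2 from by decide,
        show permE6 4 = 3 from by decide,
        w0 2 2 rfl, w0 3 3 rfl]
      exact hw 2 3 rfl
    · show T.a (snocEmb _ y hy1 (permE6 2))
        (snocEmb _ y hy1 (permE6 6)) ≠ 0
      rw [show permE6 2 = 2 from by decide,
        show permE6 6 = 5 from by decide,
        w0 2 2 rfl, w5, w2]
      exact hkx
    · show T.a (snocEmb _ y hy1 (permE6 3))
        (snocEmb _ y hy1 (permE6 4)) ≠ 0
      rw [show permE6 3 = 4 from by decide,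
        show permE6 4 = 3 from by decide,
        w0 4 4 rfl, w0 3 3 rfl, a_symm]
      exact hw 3 4 rfl
    · show T.a (snocEmb _ y hy1 (permE6 5))
        (snocEmb _ y hy1 (permE6 6)) ≠ 0
      rw [show permE6 5 = 6 from by decide,
        show permE6 6 = 5 from by decide,
        w6, w5, a_symm]
      exact hxyadj
  push Not at hE
  -- Step 4: every vertex off the path is adjacent to the path
  have hoff : ∀ x, (∀ j, v j ≠ x) → ∃ kb : Fin t, T.a (v kb) x ≠ 0 := by
    by_contra hcon
    push Not at hcon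
    obtain ⟨x0, hx0, hx0'⟩ := hcon
    let S : Finset (Fin n) := univ.filter fun i => (∃ j, v j = i) ∨ ∃ kb : Fin t, T.a (v kb) i ≠ 0
    have hS : ∀ i, i ∈ S ↔ ((∃ j, v j = i) ∨ ∃ kb : Fin t, T.a (v kb) i ≠ 0) := by
      intro i
      simp only [S, mem_filter, mem_univ, true_and]
    obtain ⟨i, hi, j, hj, hij⟩ := T.connected S ⟨v ⟨0, by omega⟩, (hS _).mpr (Or.inl ⟨_, rfl⟩)⟩ (by
      intro h
      have : x0 ∈ S := by rw [h]; exact mem_univ _
      rw [hS] at this
      rcases this with ⟨j, hj⟩ | ⟨kb, hkb⟩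
      · exact hx0 j hj
      · exact hkb (hx0' kb))
    rw [hS] at hi hj
    push Not at hj
    rcases hi with ⟨ji, rfl⟩ | ⟨kb, hkb⟩
    · exact hij (hj.2 ji)
    · by_cases hion : ∃ ji, v ji = i
      · obtain ⟨ji, rfl⟩ := hion
        exact hij (hj.2 ji)
      · push Not at hion
        refine hij (hE i j kb hion hj.1 ?_ hkb)
        intro h
        rw [h] at hkb
        exact hkb (hj.2 kb)
  -- Step 5
  by_cases hBr : ∃ x, ∀ j, v j ≠ x
  · obtain ⟨x, hx⟩ := hBr
    obtain ⟨kb, hkx⟩ := hoff x hx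
    obtain ⟨hk1, hk2⟩ := hint x hx kb hkx
    -- a second vertex off the path
    by_cases hx2 : ∃ x', x' ≠ x ∧ ∀ j, v j ≠ x'
    · obtain ⟨x', hxx, hx'⟩ := hx2
      obtain ⟨kb', hkx'⟩ := hoff x' hx'
      obtain ⟨hk1', hk2'⟩ := hint x' hx' kb' hkx'
      rcases Nat.lt_trichotomy kb.val kb'.val with hlt | heq | hgt
      · exact Or.inl (resFam_of_two_br h2 hpath kb kb' hk1 hlt (by omega) x x' hx hx' hxx.symm
          hkx hkx')
      · -- completed D4
        right
        have hkk : kb' = kb := Fin.ext heq.symm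
        subst hkk
        have hL : (kb'.val - 1) + 3 ≤ t := by omega
        have hx1 : ∀ j, segEmb v (kb'.val - 1) 3 hL j ≠ x := fun j => by
          rw [segEmb_apply]; exact hx _
        have hy1 : ∀ j, snocEmb (segEmb v (kb'.val - 1) 3 hL) x hx1 j ≠ x' := by
          intro j
          by_cases hj : j.val < 3
          · rw [snocEmb_lt _ x hx1 j ⟨j.val, hj⟩ rfl, segEmb_apply]; exact hx' _
          · rw [snocEmb_last _ x hx1 j (by have := j.isLt; omega)]; exact hxx.symm
        have hw := hpath.seg (kb'.val - 1) 3 hL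
        have w0 : ∀ (j : Fin 5) (j' : Fin 3), j'.val = j.val →
            snocEmb (snocEmb (segEmb v (kb'.val - 1) 3 hL) x hx1) x' hy1 j =
              segEmb v (kb'.val - 1) 3 hL j' := by
          intro j j' hj
          rw [snocEmb_lt _ x' hy1 j ⟨j.val, by have := j'.isLt; omega⟩ rfl,
            snocEmb_lt _ x hx1 _ j' hj]
        have w3 : snocEmb (snocEmb (segEmb v (kb'.val - 1) 3 hL) x hx1) x' hy1 3 = x := by
          rw [snocEmb_lt _ x' hy1 3 ⟨3, by omega⟩ rfl, snocEmb_last _ x hx1 _ rfl]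
        have w4 : snocEmb (snocEmb (segEmb v (kb'.val - 1) 3 hL) x hx1) x' hy1 4 = x' :=
          snocEmb_last _ x' hy1 4 rfl
        have w1 : segEmb v (kb'.val - 1) 3 hL 1 = v kb' :=
          segEmb_eq v _ _ hL 1 kb' (by simp; omega)
        refine hD4 (permD4.toEmbedding.trans
          (snocEmb (snocEmb (segEmb v (kb'.val - 1) 3 hL) x hx1) x' hy1)) ?_
        intro j hj
        show T.a (snocEmb _ x' hy1 (permD4 0))
          (snocEmb _ x' hy1 (permD4 j)) ≠ 0
        rw [show permD4 0 = 1 from by decide, w0 1 1 rfl]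
        have hj4 : j = 1 ∨ j = 2 ∨ j = 3 ∨ j = 4 := by
          revert hj; revert j; decide
        rcases hj4 with rfl | rfl | rfl | rfl
        · rw [show permD4 1 = 0 from by decide, w0 0 0 rfl, a_symm]
          exact hw 0 1 rfl
        · rw [show permD4 2 = 2 from by decide, w0 2 2 rfl]
          exact hw 1 2 rfl
        · rw [show permD4 3 = 3 from by decide, w3, w1]
          exact hkx
        · rw [show permD4 4 = 4 from by decide, w4, w1]
          exact hkx'
      · exact Or.inl (resFam_of_two_br h2 hpath kb' kb hk1' hgt (by omega) x' x hx' hx hxx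
          hkx' hkx)
    push Not at hx2
    -- a multiple edge on the path
    by_cases hD : ∃ j j1 : Fin t, j1.val = j.val + 1 ∧ DblE T (v j) (v j1)
    · obtain ⟨j, j1, hj, hd⟩ := hD
      have hjl := j1.isLt
      by_cases hjk : j1.val ≤ kb.val
      · exact Or.inl (resFam_of_dbl_br h2 hpath j j1 kb hj hjk (by omega) hd x hx hkx)
      · refine Or.inl (resFam_of_dbl_br h2 hpath.rev ⟨t - 1 - j1.val, by omega⟩
          ⟨t - 1 - j.val, by omega⟩ ⟨t - 1 - kb.val, by omega⟩ (by simp only []; omega)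
          (by simp only []; omega) (by simp only []; omega) ?_ x
          (fun i => by rw [revEmb_apply]; exact hx _) ?_)
        · rw [revEmb_eq v _ j1 (by simp only []; omega), revEmb_eq v _ j (by simp only []; omega)]
          exact hd.symm
        · rw [revEmb_eq v _ kb (by simp only []; omega)]
          exact hkx
    push Not at hD
    -- the pendant edge is simple
    obtain ⟨km, hkm⟩ := exists_fin (t := t) (kb.val - 1) (by omega)
    obtain ⟨kp, hkp⟩ := exists_fin (t := t) (kb.val + 1) (by omega)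
    by_cases hP : DblE T (v kb) x
    · exact Or.inl (resFam_of_pend_dbl h2 (v kb) (v km) (v kp) x (hvne _ _ (by omega))
        (hvne _ _ (by omega)) (hx _) (hvne _ _ (by omega)) (hx _) (hx _)
        (by rw [a_symm]; exact hpath km kb (by omega)) (hpath kb kp (by omega)) hkx hP)
    have S : Spider T v x kb := by
      refine ⟨hpath, hx, ?_, ?_, hch, hkx, hP, ?_⟩
      · intro i
        by_cases hi : i = x
        · exact Or.inl hi
        · exact Or.inr (hx2 i hi)
      · intro p q hpq
        exact hD p q hpq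
      · intro j hj
        by_contra hcon
        have hne : j.val ≠ kb.val := fun h => hj (Fin.ext h)
        rcases Nat.lt_or_gt_of_ne hne with h | h
        · exact hkx (htw x hx j kb h hcon)
        · exact hcon (htw x hx kb j h hkx)
    right
    by_cases hle : 2 * kb.val + 1 ≤ t
    · exact S.main h2 hk1 hle X hE7 hE8 hfin
    · exact (S.rev ⟨t - 1 - kb.val, by omega⟩ (by simp only []; omega)).main h2
        (by simp only []; omega) (by simp only []; omega) X hE7 hE8 hfin
  · push Not at hBr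
    have hs : Function.Surjective v := fun i => hBr i
    exact chain_main h2 hn hpath hs hch X hF4 hE62

end Groth.Agent.Lib.Helper11
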