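import Groth.Prelude.Def_Models

/-!
The seven families of the genus one classification, as predicates on an enumeration `u`.
-/

namespace Groth.Agent.Lib.Helper11

open Models

/-- family 1 of the genus one classification -/
def Clause1 {n : ℕ} (T : Models.NumericalType n) (k : ℕ) (u : Fin k → Fin n) (m w : ℤ) : Prop :=
  ((∀ i : Fin k, T.m (u i) = m) ∧
    (∀ i : Fin k, T.w (u i) = w) ∧
    (∀ i j : Fin k, i.val < j.val → j.val = i.val + 1 → T.a (u i) (u j) = w) ∧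
    (∀ i j : Fin k, i.val < j.val → i.val = 0 ∧ j.val + 1 = k → T.a (u i) (u j) = w) ∧
    (∀ i j : Fin k, i.val < j.val → ¬ (j.val = i.val + 1) → ¬ (i.val = 0 ∧ j.val + 1 = k) → T.a (u i) (u j) = 0))

/-- family 2 of the genus one classification -/
def Clause2 {n : ℕ} (T : Models.NumericalType n) (k : ℕ) (u : Fin k → Fin n) (m w : ℤ) : Prop :=
  ((∀ i : Fin k, i.val + 1 < k → T.m (u i) = 2 * m) ∧
    (∀ i : Fin k, i.val + 1 = k → T.m (u i) = m) ∧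
    (∀ i : Fin k, i.val = 0 → T.w (u i) = w) ∧
    (∀ i : Fin k, 0 < i.val ∧ i.val + 1 < k → T.w (u i) = 2 * w) ∧
    (∀ i : Fin k, i.val + 1 = k → T.w (u i) = 4 * w) ∧
    (∀ i j : Fin k, i.val < j.val → j.val = i.val + 1 ∧ j.val + 1 < k → T.a (u i) (u j) = 2 * w) ∧
    (∀ i j : Fin k, i.val < j.val → j.val = i.val + 1 ∧ j.val + 1 = k → T.a (u i) (u j) = 4 * w) ∧
    (∀ i j : Fin k, i.val < j.val → ¬ (j.val = i.val + 1 ∧ j.val + 1 < k) → ¬ (j.val = i.val + 1 ∧ j.val + 1 = k) → T.a (u i) (u j) = 0))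

/-- family 3 of the genus one classification -/
def Clause3 {n : ℕ} (T : Models.NumericalType n) (k : ℕ) (u : Fin k → Fin n) (m w : ℤ) : Prop :=
  ((∀ i : Fin k, T.m (u i) = m) ∧
    (∀ i : Fin k, i.val = 0 → T.w (u i) = w) ∧
    (∀ i : Fin k, 0 < i.val ∧ i.val + 1 < k → T.w (u i) = 2 * w) ∧
    (∀ i : Fin k, i.val + 1 = k → T.w (u i) = w) ∧
    (∀ i j : Fin k, i.val < j.val → j.val = i.val + 1 → T.a (u i) (u j) = 2 * w) ∧
    (∀ i j : Fin k, i.val < j.val → ¬ (j.val = i.val + 1) → T.a (u i) (u j) = 0))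

/-- family 4 of the genus one classification -/
def Clause4 {n : ℕ} (T : Models.NumericalType n) (k : ℕ) (u : Fin k → Fin n) (m w : ℤ) : Prop :=
  ((∀ i : Fin k, i.val = 0 → T.m (u i) = m) ∧
    (∀ i : Fin k, 0 < i.val ∧ i.val + 1 < k → T.m (u i) = 2 * m) ∧
    (∀ i : Fin k, i.val + 1 = k → T.m (u i) = m) ∧
    (∀ i : Fin k, i.val = 0 → T.w (u i) = 2 * w) ∧
    (∀ i : Fin k, 0 < i.val ∧ i.val + 1 < k → T.w (u i) = w) ∧
    (∀ i : Fin k, i.val + 1 = k → T.w (u i) = 2 * w) ∧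
    (∀ i j : Fin k, i.val < j.val → i.val = 0 ∧ j.val = 1 → T.a (u i) (u j) = 2 * w) ∧
    (∀ i j : Fin k, i.val < j.val → j.val = i.val + 1 ∧ 1 ≤ i.val ∧ j.val + 2 ≤ k → T.a (u i) (u j) = w) ∧
    (∀ i j : Fin k, i.val < j.val → j.val = i.val + 1 ∧ j.val + 1 = k → T.a (u i) (u j) = 2 * w) ∧
    (∀ i j : Fin k, i.val < j.val → ¬ (i.val = 0 ∧ j.val = 1) → ¬ (j.val = i.val + 1 ∧ 1 ≤ i.val ∧ j.val + 2 ≤ k) → ¬ (j.val = i.val + 1 ∧ j.val + 1 = k) → T.a (u i) (u j) = 0))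

/-- family 5 of the genus one classification -/
def Clause5 {n : ℕ} (T : Models.NumericalType n) (k : ℕ) (u : Fin k → Fin n) (m w : ℤ) : Prop :=
  ((∀ i : Fin k, i.val = 0 → T.m (u i) = m) ∧
    (∀ i : Fin k, 1 ≤ i.val ∧ i.val + 2 < k → T.m (u i) = 2 * m) ∧
    (∀ i : Fin k, k ≤ i.val + 2 → T.m (u i) = m) ∧
    (∀ i : Fin k, i.val = 0 → T.w (u i) = 2 * w) ∧
    (∀ i : Fin k, 0 < i.val → T.w (u i) = w) ∧
    (∀ i j : Fin k, i.val < j.val → i.val = 0 ∧ j.val = 1 → T.a (u i) (u j) = 2 * w) ∧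
    (∀ i j : Fin k, i.val < j.val → j.val = i.val + 1 ∧ 1 ≤ i.val ∧ j.val + 2 ≤ k → T.a (u i) (u j) = w) ∧
    (∀ i j : Fin k, i.val < j.val → i.val + 3 = k ∧ j.val + 1 = k → T.a (u i) (u j) = w) ∧
    (∀ i j : Fin k, i.val < j.val → ¬ (i.val = 0 ∧ j.val = 1) → ¬ (j.val = i.val + 1 ∧ 1 ≤ i.val ∧ j.val + 2 ≤ k) → ¬ (i.val + 3 = k ∧ j.val + 1 = k) → T.a (u i) (u j) = 0))

/-- family 6 of the genus one classification -/
def Clause6 {n : ℕ} (T : Models.NumericalType n) (k : ℕ) (u : Fin k → Fin n) (m w : ℤ) : Prop :=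
  ((∀ i : Fin k, i.val + 2 < k → T.m (u i) = 2 * m) ∧
    (∀ i : Fin k, k ≤ i.val + 2 → T.m (u i) = m) ∧
    (∀ i : Fin k, i.val = 0 → T.w (u i) = w) ∧
    (∀ i : Fin k, 0 < i.val → T.w (u i) = 2 * w) ∧
    (∀ i j : Fin k, i.val < j.val → j.val = i.val + 1 ∧ j.val + 2 ≤ k → T.a (u i) (u j) = 2 * w) ∧
    (∀ i j : Fin k, i.val < j.val → i.val + 3 = k ∧ j.val + 1 = k → T.a (u i) (u j) = 2 * w) ∧
    (∀ i j : Fin k, i.val < j.val → ¬ (j.val = i.val + 1 ∧ j.val + 2 ≤ k) → ¬ (i.val + 3 = k ∧ j.val + 1 = k) → T.a (u i) (u j) = 0))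

/-- family 7 of the genus one classification -/
def Clause7 {n : ℕ} (T : Models.NumericalType n) (k : ℕ) (u : Fin k → Fin n) (m w : ℤ) : Prop :=
  ((∀ i : Fin k, i.val ≤ 1 → T.m (u i) = m) ∧
    (∀ i : Fin k, 2 ≤ i.val ∧ i.val + 2 < k → T.m (u i) = 2 * m) ∧
    (∀ i : Fin k, k ≤ i.val + 2 → T.m (u i) = m) ∧
    (∀ i : Fin k, T.w (u i) = w) ∧
    (∀ i j : Fin k, i.val < j.val → i.val = 0 ∧ j.val = 2 → T.a (u i) (u j) = w) ∧
    (∀ i j : Fin k, i.val < j.val → i.val = 1 ∧ j.val = 2 → T.a (u i) (u j) = w) ∧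
    (∀ i j : Fin k, i.val < j.val → j.val = i.val + 1 ∧ 2 ≤ i.val ∧ j.val + 2 ≤ k → T.a (u i) (u j) = w) ∧
    (∀ i j : Fin k, i.val < j.val → i.val + 3 = k ∧ j.val + 1 = k → T.a (u i) (u j) = w) ∧
    (∀ i j : Fin k, i.val < j.val → ¬ (i.val = 0 ∧ j.val = 2) → ¬ (i.val = 1 ∧ j.val = 2) → ¬ (j.val = i.val + 1 ∧ 2 ≤ i.val ∧ j.val + 2 ≤ k) → ¬ (i.val + 3 = k ∧ j.val + 1 = k) → T.a (u i) (u j) = 0))

end Groth.Agent.Lib.Helper11
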