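import Mathlib

/-!
# Irreducible components through a point and minimal primes of the local ring (helper11)
-/

set_option autoImplicit false
universe u

open CategoryTheory AlgebraicGeometry TopologicalSpace

namespace Groth.Agent.Lib.Helper11.CompMin

/-- a flat local homomorphism of local rings reflects uniqueness of minimal primes. -/
theorem minimalPrimes_subsingleton_of_flat {A B : Type u} [CommRing A] [CommRing B]
    [IsLocalRing A] [IsLocalRing B] (f : A →+* B) (hf : f.Flat) [IsLocalHom f]
    (h : (minimalPrimes B).Subsingleton) : (minimalPrimes A).Subsingleton := by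
  algebraize [f]
  haveI : IsLocalHom (algebraMap A B) := ‹IsLocalHom f›
  haveI : Module.FaithfullyFlat A B := Module.FaithfullyFlat.of_flat_of_isLocalHom
  have key : ∀ p ∈ minimalPrimes A, ∃ q ∈ minimalPrimes B, q.comap (algebraMap A B) = p := by
    intro p hp
    haveI : p.IsPrime := hp.1.1
    obtain ⟨P, hP, hPp⟩ := Ideal.exists_isPrime_liesOver_of_faithfullyFlat (B := B) p
    obtain ⟨q, hq, hqP⟩ := Ideal.exists_minimalPrimes_le (I := (⊥ : Ideal B)) (J := P) bot_le
    refine ⟨q, hq, ?_⟩
    haveI : q.IsPrime := hq.1.1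
    have h1 : q.comap (algebraMap A B) ≤ p := by
      rw [hPp.over]
      exact Ideal.comap_mono hqP
    exact le_antisymm h1 (hp.2 ⟨inferInstance, bot_le⟩ h1)
  intro p hp p' hp'
  obtain ⟨q, hq, rfl⟩ := key p hp
  obtain ⟨q', hq', rfl⟩ := key p' hp'
  rw [h hq hq']

variable {X : Scheme.{u}} (x : X)

theorem exists_prime_of_specializes {y : X} (h : y ⤳ x) :
    ∃ P : PrimeSpectrum (X.presheaf.stalk x), X.fromSpecStalk x P = y := by
  have : y ∈ Set.range (X.fromSpecStalk x) := by
    rw [Scheme.range_fromSpecStalk]; exact h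
  exact this

theorem fromSpecStalk_specializes (P : PrimeSpectrum (X.presheaf.stalk x)) :
    X.fromSpecStalk x P ⤳ x := by
  have : X.fromSpecStalk x P ∈ Set.range (X.fromSpecStalk x) := ⟨P, rfl⟩
  rw [Scheme.range_fromSpecStalk] at this
  exact this

theorem fromSpecStalk_specializes_iff (P Q : PrimeSpectrum (X.presheaf.stalk x)) :
    X.fromSpecStalk x P ⤳ X.fromSpecStalk x Q ↔ P ≤ Q := by
  rw [(X.fromSpecStalk x).isEmbedding.isInducing.specializes_iff]
  exact (PrimeSpectrum.le_iff_specializes P Q).symm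

/-- if at most one irreducible component passes through `x`, the local ring at `x` has at most one
minimal prime. -/
theorem minimalPrimes_subsingleton_of_components
    (h : ∀ Z₁ ∈ irreducibleComponents X, ∀ Z₂ ∈ irreducibleComponents X,
      x ∈ Z₁ → x ∈ Z₂ → Z₁ = Z₂) :
    (minimalPrimes (X.presheaf.stalk x)).Subsingleton := by
  have key : ∀ p ∈ minimalPrimes (X.presheaf.stalk x), ∃ Z ∈ irreducibleComponents X, x ∈ Z ∧
      ∀ η : X, IsGenericPoint η Z → ∃ hp : p.IsPrime, X.fromSpecStalk x ⟨p, hp⟩ = η := by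
    intro p hp
    have hpp : p.IsPrime := hp.1.1
    let P : PrimeSpectrum (X.presheaf.stalk x) := ⟨p, hpp⟩
    let y := X.fromSpecStalk x P
    have hyx : y ⤳ x := fromSpecStalk_specializes x P
    refine ⟨irreducibleComponent y, irreducibleComponent_mem_irreducibleComponents y,
      hyx.mem_closed isClosed_irreducibleComponent mem_irreducibleComponent, ?_⟩
    intro η hη
    have hηy : η ⤳ y := hη.specializes mem_irreducibleComponent
    obtain ⟨Q, hQ⟩ := exists_prime_of_specializes x (hηy.trans hyx)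
    have hQP : Q ≤ P := by
      rw [← fromSpecStalk_specializes_iff, hQ]
      exact hηy
    have hPQ : p ≤ Q.asIdeal := hp.2 ⟨Q.isPrime, bot_le⟩ hQP
    have : P = Q := le_antisymm hPQ hQP
    exact ⟨hpp, by rw [← hQ, ← this]⟩
  intro p hp p' hp'
  obtain ⟨Z, hZ, hxZ, hZg⟩ := key p hp
  obtain ⟨Z', hZ', hxZ', hZg'⟩ := key p' hp'
  have hZZ' : Z = Z' := h Z hZ Z' hZ' hxZ hxZ'
  subst hZZ'
  obtain ⟨η, hη⟩ := QuasiSober.sober hZ.1 (isClosed_of_mem_irreducibleComponents Z hZ)
  obtain ⟨hpp, e1⟩ := hZg η hη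
  obtain ⟨hpp', e2⟩ := hZg' η hη
  have := (X.fromSpecStalk x).isEmbedding.injective (e1.trans e2.symm)
  exact congrArg PrimeSpectrum.asIdeal this

/-- if the local ring at `x` has at most one minimal prime, at most one irreducible component passes
through `x`. -/
theorem components_unique_of_minimalPrimes_subsingleton
    (h : (minimalPrimes (X.presheaf.stalk x)).Subsingleton)
    (Z₁ : Set X) (h₁ : Z₁ ∈ irreducibleComponents X) (Z₂ : Set X)
    (h₂ : Z₂ ∈ irreducibleComponents X) (hx₁ : x ∈ Z₁) (hx₂ : x ∈ Z₂) : Z₁ = Z₂ := by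
  have key : ∀ Z ∈ irreducibleComponents X, x ∈ Z → ∃ p ∈ minimalPrimes (X.presheaf.stalk x),
      ∃ hp : p.IsPrime, IsGenericPoint (X.fromSpecStalk x ⟨p, hp⟩) Z := by
    intro Z hZ hxZ
    have hZc : IsClosed Z := isClosed_of_mem_irreducibleComponents Z hZ
    obtain ⟨η, hη⟩ := QuasiSober.sober hZ.1 hZc
    have hηx : η ⤳ x := hη.specializes hxZ
    obtain ⟨Q, hQ⟩ := exists_prime_of_specializes x hηx
    refine ⟨Q.asIdeal, ⟨⟨Q.isPrime, bot_le⟩, ?_⟩, Q.isPrime, ?_⟩
    · intro q' hq' hq'Q
      haveI : q'.IsPrime := hq'.1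
      let Q' : PrimeSpectrum (X.presheaf.stalk x) := ⟨q', hq'.1⟩
      have hsp : X.fromSpecStalk x Q' ⤳ η := by
        rw [← hQ, fromSpecStalk_specializes_iff]
        exact hq'Q
      -- closure of y' is irreducible and contains Z
      have hirr : IsIrreducible (closure {X.fromSpecStalk x Q'}) := isIrreducible_singleton.closure
      have hsub : Z ⊆ closure {X.fromSpecStalk x Q'} := by
        rw [← hη.def]
        exact closure_minimal (Set.singleton_subset_iff.mpr (specializes_iff_mem_closure.mp hsp))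
          isClosed_closure
      have heq : closure {X.fromSpecStalk x Q'} ⊆ Z := hZ.2 hirr hsub
      have hgen : IsGenericPoint (X.fromSpecStalk x Q') Z :=
        (Set.Subset.antisymm heq hsub : closure {X.fromSpecStalk x Q'} = Z)
      have := hgen.eq hη
      rw [← hQ] at this
      have hQQ : Q' = Q := (X.fromSpecStalk x).isEmbedding.injective this
      exact le_of_eq (congrArg PrimeSpectrum.asIdeal hQQ).symm
    · have : (⟨Q.asIdeal, Q.isPrime⟩ : PrimeSpectrum (X.presheaf.stalk x)) = Q := rfl
      rw [this, hQ]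
      exact hη
  obtain ⟨p, hp, hpp, hg⟩ := key Z₁ h₁ hx₁
  obtain ⟨p', hp', hpp', hg'⟩ := key Z₂ h₂ hx₂
  have e : p = p' := h hp hp'
  subst e
  rw [← hg.def, ← hg'.def]

/-- flat morphisms reflect uniqueness of minimal primes of local rings. -/
theorem minimalPrimes_subsingleton_of_flat_hom {X' : Scheme.{u}} (f : X' ⟶ X) [Flat f] (x' : X')
    (h : (minimalPrimes (X'.presheaf.stalk x')).Subsingleton) :
    (minimalPrimes (X.presheaf.stalk (f x'))).Subsingleton :=
  minimalPrimes_subsingleton_of_flat (f.stalkMap x').hom (Flat.stalkMap f x') h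

end Groth.Agent.Lib.Helper11.CompMin
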