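import Mathlib
import Groth.Prelude.Def_TwC

/-!
# Points of constant schemes, universe-general version (helper11)

`piece z m` is the open part of `X` where the point `z : X ⟶ M_S` has label `m`.
-/

set_option autoImplicit false
universe u v

open CategoryTheory MonoidalCategory CartesianMonoidalCategory MonObj AlgebraicGeometry Limits

namespace Groth.Agent.Lib.Helper11ConstPtsU

variable {S : Scheme.{u}} (M : Type v) [Small.{u} M]

/-- the piece of `X` lying over the `m`-th copy -/
noncomputable def piece {X : Over S} (z : X ⟶ TwC.const S M) (m : M) : X.left.Opens :=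
  z.left ⁻¹ᵁ (Sigma.ι (fun _ : M => S) m).opensRange

lemma mem_piece {X : Over S} (z : X ⟶ TwC.const S M) (m : M) (x : X.left) :
    x ∈ piece M z m ↔ z.left x ∈ Set.range (Sigma.ι (fun _ : M => S) m) := Iff.rfl

lemma iSup_piece {X : Over S} (z : X ⟶ TwC.const S M) : ⨆ m, piece M z m = ⊤ := by
  rw [eq_top_iff]
  intro x _
  rw [TopologicalSpace.Opens.mem_iSup]
  obtain ⟨m, y, hy⟩ := (sigmaOpenCover (fun _ : M => S)).exists_eq (z.left.base x)
  exact ⟨m, ⟨y, hy⟩⟩

lemma piece_disjoint {X : Over S} (z : X ⟶ TwC.const S M) (m n : M) (h : m ≠ n) (x : X.left)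
    (hm : x ∈ piece M z m) (hn : x ∈ piece M z n) : False := by
  have hd := disjoint_opensRange_sigmaι (fun _ : M => S) m n h
  have h1 : z.left x ∈ (Sigma.ι (fun _ : M => S) m).opensRange ⊓
      (Sigma.ι (fun _ : M => S) n).opensRange := ⟨hm, hn⟩
  rw [disjoint_iff.mp hd] at h1
  exact h1

lemma piece_ι_comp {X : Over S} (z : X ⟶ TwC.const S M) (m : M) :
    (piece M z m).ι ≫ z.left = ((piece M z m).ι ≫ X.hom) ≫ Sigma.ι (fun _ : M => S) m := by
  have hr : Set.range ((piece M z m).ι ≫ z.left).base ⊆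
      Set.range (Sigma.ι (fun _ : M => S) m).base := by
    rintro _ ⟨x, rfl⟩
    exact x.2
  have h1 := IsOpenImmersion.lift_fac (Sigma.ι (fun _ : M => S) m) ((piece M z m).ι ≫ z.left) hr
  have h2 : IsOpenImmersion.lift (Sigma.ι (fun _ : M => S) m) ((piece M z m).ι ≫ z.left) hr =
      (piece M z m).ι ≫ X.hom := by
    have h3 : Sigma.ι (fun _ : M => S) m ≫ (TwC.const S M).hom = 𝟙 S := by
      simp
    calc IsOpenImmersion.lift (Sigma.ι (fun _ : M => S) m) ((piece M z m).ι ≫ z.left) hr
        = IsOpenImmersion.lift (Sigma.ι (fun _ : M => S) m) ((piece M z m).ι ≫ z.left) hr ≫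
            Sigma.ι (fun _ : M => S) m ≫ (TwC.const S M).hom := by rw [h3, Category.comp_id]
      _ = ((piece M z m).ι ≫ z.left) ≫ (TwC.const S M).hom := by rw [← Category.assoc, h1]
      _ = (piece M z m).ι ≫ X.hom := by rw [Category.assoc, Over.w z]
  rw [← h2, h1]

/-- the constant point of label `m` -/
noncomputable def cpt (T : Over S) (m : M) : T ⟶ TwC.const S M := toUnit T ≫ TwC.pt S M m

lemma cpt_left (T : Over S) (m : M) : (cpt M T m).left = T.hom ≫ Sigma.ι (fun _ : M => S) m := by
  unfold cpt TwC.pt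
  rw [Over.comp_left]
  have h2 : (Over.homMk (Sigma.ι (fun _ : M => S) m)
      (by simp) : 𝟙_ (Over S) ⟶ TwC.const S M).left = Sigma.ι (fun _ : M => S) m := rfl
  rw [h2]
  congr 1

/-- a point which lands in the piece of label `m` is the constant point -/
lemma eq_cpt_of_le {X T : Over S} (z : X ⟶ TwC.const S M) (m : M) (a : T ⟶ X)
    (h : ∀ t : T.left, a.left t ∈ piece M z m) : a ≫ z = cpt M T m := by
  apply Over.OverMorphism.ext
  rw [Over.comp_left, cpt_left]
  have hr : Set.range a.left.base ⊆ Set.range (piece M z m).ι.base := by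
    rw [Scheme.Opens.range_ι]
    rintro _ ⟨t, rfl⟩
    exact h t
  have h1 := IsOpenImmersion.lift_fac (piece M z m).ι a.left hr
  rw [← h1, Category.assoc, piece_ι_comp, ← Category.assoc, ← Category.assoc, h1, Over.w a]

/-- a point equal to the constant point lands in the piece -/
lemma mem_piece_of_eq_cpt {X T : Over S} (z : X ⟶ TwC.const S M) (m : M) (a : T ⟶ X)
    (h : a ≫ z = cpt M T m) (t : T.left) : a.left t ∈ piece M z m := by
  rw [mem_piece]
  have h1 := congrArg (fun f => f.left) h
  simp only [Over.comp_left] at h1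
  rw [cpt_left] at h1
  refine ⟨T.hom t, ?_⟩
  rw [← Scheme.Hom.comp_apply, ← h1, Scheme.Hom.comp_apply]

end Groth.Agent.Lib.Helper11ConstPtsU
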