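import Mathlib
import Groth.Prelude.Def_TwC
import Groth.Agent.Lib.Helper11ConstPtsU

/-!
# Homomorphisms from a quasi-compact group scheme over a one-point base to a torsion-free constant
group are trivial (helper11)
-/

set_option autoImplicit false
universe u v

open CategoryTheory MonoidalCategory CartesianMonoidalCategory MonObj GrpObj AlgebraicGeometry Limits
open Groth.Agent.Lib.Helper11ConstPtsU

namespace Groth.Agent.Lib.Helper11ConstHom

variable {S : Scheme.{u}} (Z : Type v) [Small.{u} Z] [Group Z]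

lemma cpt_mul {G : Over S} [GrpObj G] (eG : G ≅ TwC.const S Z) (hG : TwC.IsConstGrp Z G eG)
    (T : Over S) (m n : Z) :
    (cpt Z T m ≫ eG.inv) * (cpt Z T n ≫ eG.inv) = cpt Z T (m * n) ≫ eG.inv := by
  unfold cpt
  rw [Category.assoc, Category.assoc, Category.assoc, ← MonObj.comp_mul, hG m n]

lemma cpt_one {G : Over S} [GrpObj G] (eG : G ≅ TwC.const S Z) (hG : TwC.IsConstGrp Z G eG)
    (T : Over S) : cpt Z T 1 ≫ eG.inv = 1 := by
  have h := cpt_mul Z eG hG T 1 1
  rw [_root_.mul_one] at h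
  exact mul_eq_left.mp h

theorem hom_eq_one [Subsingleton S] (P G : Over S) [GrpObj P] [GrpObj G] [CompactSpace P.left]
    (hZ : ∀ z : Z, IsOfFinOrder z → z = 1) (eG : G ≅ TwC.const S Z)
    (hG : TwC.IsConstGrp Z G eG) (χ : P ⟶ G) [IsMonHom χ] : χ = 1 := by
  by_cases hne : Nonempty P.left
  swap
  · rw [not_nonempty_iff] at hne
    apply Over.OverMorphism.ext
    exact (isInitialOfIsEmpty (X := P.left)).hom_ext _ _
  obtain ⟨z, hz⟩ : ∃ z : P ⟶ TwC.const S Z, z = χ ≫ eG.hom := ⟨_, rfl⟩
  have hχ : χ = z ≫ eG.inv := by rw [hz, Category.assoc, Iso.hom_inv_id, Category.comp_id]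
  -- multiplicativity of labels
  have hmul : ∀ (m n : Z) (p q : P.left), p ∈ piece Z z m → q ∈ piece Z z n →
      ∃ r : P.left, r ∈ piece Z z (m * n) := by
    intro m n p q hp hq
    obtain ⟨t, ht1, ht2⟩ := Scheme.Pullback.exists_preimage_pullback (f := P.hom) (g := P.hom) p q
      (Subsingleton.elim _ _)
    let W : (P ⊗ P).left.Opens := (fst P P).left ⁻¹ᵁ (piece Z z m) ⊓ (snd P P).left ⁻¹ᵁ (piece Z z n)
    have htW : t ∈ W := by
      refine ⟨?_, ?_⟩
      · show (fst P P).left t ∈ piece Z z m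
        have : (fst P P).left t = p := ht1
        rw [this]; exact hp
      · show (snd P P).left t ∈ piece Z z n
        have : (snd P P).left t = q := ht2
        rw [this]; exact hq
    let T : Over S := Over.mk (W.ι ≫ (P ⊗ P).hom)
    let j : T ⟶ P ⊗ P := Over.homMk W.ι rfl
    have ha : (j ≫ fst P P) ≫ z = cpt Z T m := by
      apply eq_cpt_of_le
      intro t'
      show (fst P P).left (W.ι t') ∈ piece Z z m
      exact t'.2.1
    have hb : (j ≫ snd P P) ≫ z = cpt Z T n := by
      apply eq_cpt_of_le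
      intro t'
      show (snd P P).left (W.ι t') ∈ piece Z z n
      exact t'.2.2
    have hab : ((j ≫ fst P P) * (j ≫ snd P P)) ≫ z = cpt Z T (m * n) := by
      rw [hz, ← Category.assoc, MonObj.mul_comp, hχ, ← Category.assoc, ← Category.assoc, ha, hb,
        cpt_mul Z eG hG, Category.assoc, Iso.inv_hom_id, Category.comp_id]
    exact ⟨_, mem_piece_of_eq_cpt Z z (m * n) _ hab ⟨t, htW⟩⟩
  -- the set of labels
  obtain ⟨F, hF⟩ : ∃ F : Set Z, F = {m | ∃ p : P.left, p ∈ piece Z z m} := ⟨_, rfl⟩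
  have hFfin : F.Finite := by
    have hcov : (Set.univ : Set P.left) ⊆ ⋃ m, (piece Z z m : Set P.left) := by
      intro x _
      have := iSup_piece Z z
      have hx : x ∈ (⨆ m, piece Z z m : P.left.Opens) := by rw [this]; trivial
      rw [TopologicalSpace.Opens.mem_iSup] at hx
      exact Set.mem_iUnion.mpr hx
    obtain ⟨t, ht⟩ := isCompact_univ.elim_finite_subcover (fun m => (piece Z z m : Set P.left))
      (fun m => (piece Z z m).isOpen) hcov
    refine t.finite_toSet.subset ?_
    intro m hm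
    rw [hF] at hm
    obtain ⟨p, hp⟩ := hm
    obtain ⟨m', hm't, hpm'⟩ : ∃ m' ∈ t, p ∈ piece Z z m' := by
      have := ht (Set.mem_univ p)
      simpa using this
    by_contra hne'
    have : m ≠ m' := fun h => hne' (h ▸ hm't)
    exact piece_disjoint Z z m m' this p hp hpm'
  have hFmul : ∀ m n, m ∈ F → n ∈ F → m * n ∈ F := by
    intro m n hm hn
    rw [hF] at hm hn ⊢
    obtain ⟨p, hp⟩ := hm
    obtain ⟨q, hq⟩ := hn
    exact hmul m n p q hp hq
  have hF1 : ∀ m ∈ F, m = 1 := by
    intro m hm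
    have hpow : ∀ k : ℕ, m ^ (k + 1) ∈ F := by
      intro k
      induction k with
      | zero => simpa using hm
      | succ k ih => rw [pow_succ]; exact hFmul _ _ ih hm
    obtain ⟨a, b, hab, heq⟩ := Set.Finite.exists_lt_map_eq_of_forall_mem hpow hFfin
    apply hZ
    rw [isOfFinOrder_iff_pow_eq_one]
    refine ⟨b - a, Nat.sub_pos_of_lt hab, ?_⟩
    have h1 : m ^ (b + 1) = m ^ (a + 1) * m ^ (b - a) := by
      rw [← pow_add]; congr 1; omega
    rw [← heq] at h1
    exact (mul_eq_left.mp h1.symm)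
  have hall : ∀ p : P.left, p ∈ piece Z z 1 := by
    intro p
    have := iSup_piece Z z
    have hx : p ∈ (⨆ m, piece Z z m : P.left.Opens) := by rw [this]; trivial
    rw [TopologicalSpace.Opens.mem_iSup] at hx
    obtain ⟨m, hm⟩ := hx
    have hmF : m ∈ F := by rw [hF]; exact ⟨p, hm⟩
    rw [hF1 m hmF] at hm
    exact hm
  have h1 : 𝟙 P ≫ z = cpt Z P 1 := eq_cpt_of_le Z z 1 (𝟙 P) (fun t => by
    have : (𝟙 P : P ⟶ P).left t = t := rfl
    rw [this]; exact hall t)
  rw [Category.id_comp] at h1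
  rw [hχ, h1, cpt_one Z eG hG]

end Groth.Agent.Lib.Helper11ConstHom
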