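import Mathlib
import Groth.Agent.Lib.Helper11Genus

/-!
Contraction of a `(-1)`-index of a numerical type: the contracted data form a numerical type
of the same genus.
-/

namespace Groth.Agent.Lib.Helper11.Contract

open Finset Models Groth.Agent.Lib.Helper11

variable {n : ℕ} (T : Models.NumericalType (n + 1))

/-- `b_i = a_{i,l}` -/
def b (i : Fin n) : ℤ := T.a i.castSucc (Fin.last n)
/-- `c_i = b_i / w_l` -/
def c (i : Fin n) : ℤ := T.a i.castSucc (Fin.last n) / T.w (Fin.last n)
/-- `q_i = b_i / w_i` -/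
def q (i : Fin n) : ℤ := T.a i.castSucc (Fin.last n) / T.w i.castSucc

theorem b_nonneg (i : Fin n) : 0 ≤ b T i :=
  T.offDiag_nonneg _ _ (Fin.castSucc_lt_last i).ne

theorem b_eq_c (i : Fin n) : b T i = T.w (Fin.last n) * c T i := by
  have h : T.w (Fin.last n) ∣ T.a i.castSucc (Fin.last n) := by
    rw [a_symm T]; exact T.w_dvd _ _
  exact (Int.mul_ediv_cancel' h).symm

theorem b_eq_q (i : Fin n) : b T i = T.w i.castSucc * q T i :=
  (Int.mul_ediv_cancel' (T.w_dvd _ _)).symm

theorem c_nonneg (i : Fin n) : 0 ≤ c T i :=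
  Int.ediv_nonneg (b_nonneg T i) (T.w_pos _).le

theorem q_nonneg (i : Fin n) : 0 ≤ q T i :=
  Int.ediv_nonneg (b_nonneg T i) (T.w_pos _).le

theorem sum_c_m (h : T.IsMinusOne (Fin.last n)) :
    ∑ i, c T i * T.m i.castSucc = T.m (Fin.last n) := by
  have h1 := row_sum T (Fin.last n)
  rw [Fin.sum_univ_castSucc, h.2] at h1
  have h2 : ∑ i : Fin n, T.a (Fin.last n) i.castSucc * T.m i.castSucc =
      T.w (Fin.last n) * ∑ i, c T i * T.m i.castSucc := by
    rw [Finset.mul_sum]
    refine Finset.sum_congr rfl fun i _ => ?_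
    rw [a_symm T (Fin.last n) i.castSucc]
    have := b_eq_c T i
    unfold b at this
    rw [this]; ring
  rw [h2] at h1
  have hw := T.w_pos (Fin.last n)
  have h3 : T.w (Fin.last n) * (∑ i, c T i * T.m i.castSucc - T.m (Fin.last n)) = 0 := by
    linarith
  rcases mul_eq_zero.mp h3 with h' | h'
  · exact absurd h' hw.ne'
  · linarith

theorem row_castSucc (i : Fin n) :
    ∑ j : Fin n, T.a i.castSucc j.castSucc * T.m j.castSucc + b T i * T.m (Fin.last n) = 0 := by
  have h1 := row_sum T i.castSucc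
  rw [Fin.sum_univ_castSucc] at h1
  exact h1

theorem n_pos (h : T.IsMinusOne (Fin.last n)) : 0 < n := by
  by_contra h0
  have hn : n = 0 := by omega
  subst hn
  have := sum_c_m T h
  simp at this
  exact (T.m_pos _).ne' this.symm

/-- the contracted matrix -/
def a' : Matrix (Fin n) (Fin n) ℤ := fun i j =>
  T.a i.castSucc j.castSucc + T.w (Fin.last n) * c T i * c T j

/-- the contracted `w` -/
def w' (i : Fin n) : ℤ :=
  if 2 ∣ T.a i.castSucc (Fin.last n) / T.w (Fin.last n) ∧
      ¬ 2 ∣ T.a i.castSucc (Fin.last n) / T.w i.castSucc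
  then T.w i.castSucc / 2 else T.w i.castSucc

/-- the contracted `g` -/
def g' (i : Fin n) : ℤ := T.w i.castSucc / w' T i * (T.g i.castSucc - 1) + 1 +
  (T.a i.castSucc (Fin.last n) ^ 2 - T.w (Fin.last n) * T.a i.castSucc (Fin.last n)) /
    (2 * w' T i * T.w (Fin.last n))

theorem a'_formula (h : T.IsMinusOne (Fin.last n)) (i j : Fin n) :
    T.a i.castSucc j.castSucc -
      T.a i.castSucc (Fin.last n) * T.a j.castSucc (Fin.last n) / T.a (Fin.last n) (Fin.last n)
      = a' T i j := by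
  have hi := b_eq_c T i
  have hj := b_eq_c T j
  unfold b at hi hj
  have hw := (T.w_pos (Fin.last n)).ne'
  have e : T.a i.castSucc (Fin.last n) * T.a j.castSucc (Fin.last n) =
      T.w (Fin.last n) * (T.w (Fin.last n) * c T i * c T j) := by
    rw [hi, hj]; ring
  rw [h.2, Int.ediv_neg, e, Int.mul_ediv_cancel_left _ hw]
  unfold a'
  ring

theorem w'_cases (i : Fin n) : (w' T i = T.w i.castSucc ∧ (2 ∣ c T i → 2 ∣ q T i)) ∨
    (2 * w' T i = T.w i.castSucc ∧ 2 ∣ c T i ∧ ¬ 2 ∣ q T i) := by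
  unfold w'
  by_cases hh : 2 ∣ c T i ∧ ¬ 2 ∣ q T i
  · right
    have hh' := hh
    unfold c q at hh'
    rw [if_pos hh']
    refine ⟨?_, hh⟩
    have h2 : (2 : ℤ) ∣ T.w i.castSucc := by
      have h3 : (2 : ℤ) ∣ T.w i.castSucc * q T i := by
        rw [← b_eq_q, b_eq_c]
        exact Dvd.dvd.mul_left hh.1 _
      rcases Int.prime_two.dvd_or_dvd h3 with h4 | h4
      · exact h4
      · exact absurd h4 hh.2
    exact Int.mul_ediv_cancel' h2
  · left
    have hh' := hh
    unfold c q at hh'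
    rw [if_neg hh']
    refine ⟨rfl, fun h1 => ?_⟩
    by_contra h2
    exact hh ⟨h1, h2⟩

theorem w'_pos (i : Fin n) : 0 < w' T i := by
  have := T.w_pos i.castSucc
  rcases w'_cases T i with ⟨h1, _⟩ | ⟨h1, _⟩ <;> omega

theorem w'_dvd_w (i : Fin n) : w' T i ∣ T.w i.castSucc := by
  rcases w'_cases T i with ⟨h1, _⟩ | ⟨h1, _⟩
  · rw [h1]
  · exact ⟨2, by linarith⟩

/-- the correction term in the genus -/
def Z (i : Fin n) : ℤ := T.w (Fin.last n) * c T i * (c T i - 1) / 2

theorem two_Z (i : Fin n) : 2 * Z T i = T.w (Fin.last n) * c T i * (c T i - 1) := by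
  unfold Z
  have : (2 : ℤ) ∣ T.w (Fin.last n) * c T i * (c T i - 1) := by
    have := (Int.even_mul_pred_self (c T i)).two_dvd
    rw [mul_assoc]; exact Dvd.dvd.mul_left this _
  exact Int.mul_ediv_cancel' this

theorem num_eq (i : Fin n) : T.a i.castSucc (Fin.last n) ^ 2 -
    T.w (Fin.last n) * T.a i.castSucc (Fin.last n) =
      T.w i.castSucc * T.w (Fin.last n) * (q T i * (c T i - 1)) := by
  have hbc := b_eq_c T i
  have hbq := b_eq_q T i
  unfold b at hbc hbq
  have e1 : T.a i.castSucc (Fin.last n) ^ 2 - T.w (Fin.last n) * T.a i.castSucc (Fin.last n) =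
      T.a i.castSucc (Fin.last n) * (T.w (Fin.last n) * (c T i - 1)) := by
    have : T.a i.castSucc (Fin.last n) ^ 2 - T.w (Fin.last n) * T.a i.castSucc (Fin.last n) =
        T.a i.castSucc (Fin.last n) * (T.a i.castSucc (Fin.last n) - T.w (Fin.last n)) := by ring
    rw [this]
    congr 1
    rw [hbc]; ring
  rw [e1]
  calc T.a i.castSucc (Fin.last n) * (T.w (Fin.last n) * (c T i - 1))
      = (T.w i.castSucc * q T i) * (T.w (Fin.last n) * (c T i - 1)) := by rw [← hbq]
    _ = _ := by ring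

theorem w_q_c (i : Fin n) : T.w i.castSucc * (q T i * (c T i - 1)) = 2 * Z T i := by
  rw [two_Z, ← mul_assoc, ← b_eq_q, b_eq_c]

theorem w'_mul_g' (i : Fin n) :
    w' T i * (g' T i - 1) = T.w i.castSucc * (T.g i.castSucc - 1) + Z T i := by
  have hw'pos := w'_pos T i
  have hwl := T.w_pos (Fin.last n)
  have hnum := num_eq T i
  have hwqc := w_q_c T i
  have key : ∃ y, (T.a i.castSucc (Fin.last n) ^ 2 -
      T.w (Fin.last n) * T.a i.castSucc (Fin.last n)) = (2 * w' T i * T.w (Fin.last n)) * y ∧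
      w' T i * y = Z T i := by
    rcases w'_cases T i with ⟨h1, h2⟩ | ⟨h1, h2, h3⟩
    · have h4 : (2 : ℤ) ∣ q T i * (c T i - 1) := by
        by_cases hc : (2 : ℤ) ∣ c T i
        · exact Dvd.dvd.mul_right (h2 hc) _
        · have : (2 : ℤ) ∣ c T i - 1 := by omega
          exact Dvd.dvd.mul_left this _
      obtain ⟨y, hy⟩ := h4
      refine ⟨y, ?_, ?_⟩
      · rw [hnum, h1, hy]; ring
      · rw [h1]
        rw [hy] at hwqc
        have : 2 * (T.w i.castSucc * y) = 2 * Z T i := by rw [← hwqc]; ring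
        linarith
    · refine ⟨q T i * (c T i - 1), ?_, ?_⟩
      · rw [hnum, h1]
      · have : 2 * (w' T i * (q T i * (c T i - 1))) = 2 * Z T i := by
          rw [← hwqc, ← h1]; ring
        linarith
  obtain ⟨y, hy1, hy2⟩ := key
  have hne : 2 * w' T i * T.w (Fin.last n) ≠ 0 := by positivity
  unfold g'
  rw [hy1, Int.mul_ediv_cancel_left _ hne]
  have h5 : w' T i * (T.w i.castSucc / w' T i) = T.w i.castSucc :=
    Int.mul_ediv_cancel' (w'_dvd_w T i)
  have : w' T i * (T.w i.castSucc / w' T i * (T.g i.castSucc - 1) + 1 + y - 1) =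
      (w' T i * (T.w i.castSucc / w' T i)) * (T.g i.castSucc - 1) + w' T i * y := by ring
  rw [this, h5, hy2]

theorem g'_nonneg (i : Fin n) : 0 ≤ g' T i := by
  have hbc := b_eq_c T i
  have hbq := b_eq_q T i
  have hc := c_nonneg T i
  have hq := q_nonneg T i
  have hwl := T.w_pos (Fin.last n)
  have hw := T.w_pos i.castSucc
  have hw' := w'_pos T i
  have hg := T.g_nonneg i.castSucc
  have hnum : 0 ≤ T.a i.castSucc (Fin.last n) ^ 2 -
      T.w (Fin.last n) * T.a i.castSucc (Fin.last n) := by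
    rw [num_eq]
    have h1 : 0 ≤ q T i * (c T i - 1) := by
      rcases eq_or_lt_of_le hc with h0 | h0
      · have hb0 : b T i = 0 := by rw [hbc, ← h0, mul_zero]
        have hq0 : q T i = 0 := by
          rcases mul_eq_zero.mp (hbq.symm.trans hb0) with h' | h'
          · exact absurd h' hw.ne'
          · exact h'
        rw [hq0, zero_mul]
      · exact mul_nonneg hq (by omega)
    positivity
  unfold g'
  rcases w'_cases T i with ⟨h1, _⟩ | ⟨h1, h2, h3⟩
  · rw [h1, Int.ediv_self hw.ne']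
    have := Int.ediv_nonneg hnum (by positivity : 0 ≤ 2 * T.w i.castSucc * T.w (Fin.last n))
    linarith
  · have hdiv : T.w i.castSucc / w' T i = 2 := by
      rw [← h1]; exact Int.mul_ediv_cancel _ hw'.ne'
    rw [hdiv]
    have hX : 1 ≤ (T.a i.castSucc (Fin.last n) ^ 2 -
        T.w (Fin.last n) * T.a i.castSucc (Fin.last n)) / (2 * w' T i * T.w (Fin.last n)) := by
      apply Int.le_ediv_of_mul_le (by positivity)
      rw [one_mul, h1, num_eq]
      have hq1 : 1 ≤ q T i := by
        have : q T i ≠ 0 := fun h0 => h3 (h0 ▸ dvd_zero _)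
        omega
      have hc2 : 2 ≤ c T i := by
        have : c T i ≠ 0 := by
          intro h0
          apply h3
          have hb0 : b T i = 0 := by rw [hbc, h0, mul_zero]
          have hq0 : q T i = 0 := by
            rcases mul_eq_zero.mp (hbq.symm.trans hb0) with h' | h'
            · exact absurd h' hw.ne'
            · exact h'
          rw [hq0]; exact dvd_zero _
        omega
      have h6 : 1 ≤ q T i * (c T i - 1) := by nlinarith
      have h7 : 0 < T.w i.castSucc * T.w (Fin.last n) := by positivity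
      nlinarith
    linarith

theorem a'_symm (i j : Fin n) : a' T j i = a' T i j := by
  unfold a'
  rw [a_symm T]
  ring

theorem a'_ne_zero_of (i j : Fin n) (hij : i ≠ j)
    (h : T.a i.castSucc j.castSucc ≠ 0 ∨ (c T i ≠ 0 ∧ c T j ≠ 0)) : a' T i j ≠ 0 := by
  have h1 : 0 ≤ T.a i.castSucc j.castSucc :=
    T.offDiag_nonneg _ _ (fun h' => hij (Fin.castSucc_injective _ h'))
  have hwl := T.w_pos (Fin.last n)
  have hci := c_nonneg T i
  have hcj := c_nonneg T j
  have h2 : 0 ≤ T.w (Fin.last n) * c T i * c T j := by positivity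
  unfold a'
  rcases h with h | ⟨h3, h4⟩
  · have : 0 < T.a i.castSucc j.castSucc := lt_of_le_of_ne h1 (Ne.symm h)
    omega
  · have h5 : 0 < c T i := lt_of_le_of_ne hci (Ne.symm h3)
    have h6 : 0 < c T j := lt_of_le_of_ne hcj (Ne.symm h4)
    have : 0 < T.w (Fin.last n) * c T i * c T j := by positivity
    omega

theorem a'_offDiag_nonneg (i j : Fin n) (hij : i ≠ j) : 0 ≤ a' T i j := by
  have h1 : 0 ≤ T.a i.castSucc j.castSucc :=
    T.offDiag_nonneg _ _ (fun h' => hij (Fin.castSucc_injective _ h'))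
  have hwl := T.w_pos (Fin.last n)
  have hci := c_nonneg T i
  have hcj := c_nonneg T j
  have h2 : 0 ≤ T.w (Fin.last n) * c T i * c T j := by positivity
  unfold a'
  omega

theorem a'_connected (I : Finset (Fin n)) (hI : I.Nonempty) (hI' : I ≠ univ) :
    ∃ i ∈ I, ∃ j ∉ I, a' T i j ≠ 0 := by
  classical
  obtain ⟨J, hJ⟩ : ∃ J : Finset (Fin (n + 1)), J = I.map Fin.castSuccEmb := ⟨_, rfl⟩
  have hmemJ : ∀ x, x ∈ J ↔ ∃ i ∈ I, i.castSucc = x := by
    intro x
    rw [hJ, Finset.mem_map]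
    rfl
  have hJne : J.Nonempty := by
    obtain ⟨i, hi⟩ := hI
    exact ⟨i.castSucc, (hmemJ _).2 ⟨i, hi, rfl⟩⟩
  have hlJ : Fin.last n ∉ J := by
    intro h
    obtain ⟨i, _, hi⟩ := (hmemJ _).1 h
    exact (Fin.castSucc_lt_last i).ne hi
  have hJuniv : J ≠ univ := fun h => hlJ (h ▸ mem_univ _)
  obtain ⟨i', hi', j', hj', hij'⟩ := T.connected J hJne hJuniv
  obtain ⟨i, hiI, rfl⟩ := (hmemJ _).1 hi'
  rcases Fin.eq_castSucc_or_eq_last j' with ⟨j, rfl⟩ | rfl
  · have hjI : j ∉ I := fun h => hj' ((hmemJ _).2 ⟨j, h, rfl⟩)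
    exact ⟨i, hiI, j, hjI, a'_ne_zero_of T i j (ne_of_mem_of_not_mem hiI hjI) (Or.inl hij')⟩
  · have hci : c T i ≠ 0 := by
      intro h0
      apply hij'
      have := b_eq_c T i
      unfold b at this
      rw [this, h0, mul_zero]
    obtain ⟨J2, hJ2⟩ : ∃ J2 : Finset (Fin (n + 1)), J2 = insert (Fin.last n) J := ⟨_, rfl⟩
    have hJ2ne : J2.Nonempty := by rw [hJ2]; exact insert_nonempty _ _
    obtain ⟨j0, hj0⟩ : ∃ j0, j0 ∉ I := by
      by_contra hh
      push Not at hh
      exact hI' (eq_univ_iff_forall.2 hh)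
    have hJ2univ : J2 ≠ univ := by
      intro h
      have h1 : j0.castSucc ∈ J2 := h ▸ mem_univ _
      rw [hJ2] at h1
      rcases Finset.mem_insert.1 h1 with h1 | h1
      · exact (Fin.castSucc_lt_last j0).ne h1
      · obtain ⟨k, hk, hk'⟩ := (hmemJ _).1 h1
        exact hj0 (Fin.castSucc_injective _ hk' ▸ hk)
    obtain ⟨i2', hi2', j2', hj2', hij2'⟩ := T.connected J2 hJ2ne hJ2univ
    rw [hJ2] at hi2' hj2'
    rcases Fin.eq_castSucc_or_eq_last j2' with ⟨j2, rfl⟩ | rfl
    swap
    · exact absurd (mem_insert_self _ _) hj2'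
    have hj2I : j2 ∉ I := fun h => hj2' (mem_insert_of_mem ((hmemJ _).2 ⟨j2, h, rfl⟩))
    rcases Finset.mem_insert.1 hi2' with rfl | h1
    · have hcj : c T j2 ≠ 0 := by
        intro h0
        apply hij2'
        rw [a_symm T]
        have := b_eq_c T j2
        unfold b at this
        rw [this, h0, mul_zero]
      exact ⟨i, hiI, j2, hj2I,
        a'_ne_zero_of T i j2 (ne_of_mem_of_not_mem hiI hj2I) (Or.inr ⟨hci, hcj⟩)⟩
    · obtain ⟨i2, hi2I, rfl⟩ := (hmemJ _).1 h1
      exact ⟨i2, hi2I, j2, hj2I,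
        a'_ne_zero_of T i2 j2 (ne_of_mem_of_not_mem hi2I hj2I) (Or.inl hij2')⟩

theorem a'_mulVec (h : T.IsMinusOne (Fin.last n)) :
    (a' T).mulVec (fun i => T.m i.castSucc) = 0 := by
  funext i
  simp only [Matrix.mulVec, dotProduct, Pi.zero_apply]
  have h1 := row_castSucc T i
  have h2 := sum_c_m T h
  have h3 : ∑ j : Fin n, a' T i j * T.m j.castSucc =
      ∑ j : Fin n, T.a i.castSucc j.castSucc * T.m j.castSucc +
        T.w (Fin.last n) * c T i * ∑ j : Fin n, c T j * T.m j.castSucc := by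
    rw [Finset.mul_sum, ← Finset.sum_add_distrib]
    refine Finset.sum_congr rfl fun j _ => ?_
    unfold a'; ring
  rw [h3, h2]
  rw [b_eq_c] at h1
  linarith

theorem w'_dvd_a' (i j : Fin n) : w' T i ∣ a' T i j := by
  have h1 := w'_dvd_w T i
  unfold a'
  refine dvd_add (h1.trans (T.w_dvd _ _)) ?_
  have : T.w i.castSucc ∣ T.w (Fin.last n) * c T i := by
    rw [← b_eq_c]; exact ⟨q T i, b_eq_q T i⟩
  exact Dvd.dvd.mul_right (h1.trans this) _

/-- the contraction of the last index -/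
def contraction (h : T.IsMinusOne (Fin.last n)) : Models.NumericalType n where
  m := fun i => T.m i.castSucc
  a := a' T
  w := w' T
  g := g' T
  pos := n_pos T h
  m_pos := fun i => T.m_pos _
  w_pos := w'_pos T
  g_nonneg := g'_nonneg T
  symm := Matrix.IsSymm.ext (a'_symm T)
  offDiag_nonneg := a'_offDiag_nonneg T
  connected := a'_connected T
  mulVec_m := a'_mulVec T h
  w_dvd := w'_dvd_a' T

theorem isContraction_contraction (h : T.IsMinusOne (Fin.last n)) :
    T.IsContraction (contraction T h) :=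
  ⟨fun _ => rfl, fun i j => (a'_formula T h i j).symm, fun _ => rfl, fun _ => rfl⟩

theorem fields_of_isContraction (h : T.IsMinusOne (Fin.last n)) (T' : Models.NumericalType n)
    (hT' : T.IsContraction T') :
    (∀ i, T'.m i = T.m i.castSucc) ∧ (∀ i j, T'.a i j = a' T i j) ∧ (∀ i, T'.w i = w' T i) ∧
      (∀ i, T'.g i = g' T i) := by
  obtain ⟨h1, h2, h3, h4⟩ := hT'
  have hw : ∀ i, T'.w i = w' T i := fun i => h3 i
  refine ⟨h1, fun i j => (h2 i j).trans (a'_formula T h i j), hw, ?_⟩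
  intro i
  rw [h4 i, hw i]
  rfl

theorem genus_eq (h : T.IsMinusOne (Fin.last n)) (T' : Models.NumericalType n)
    (hT' : T.IsContraction T') : T'.genus = T.genus := by
  obtain ⟨hm, ha, hw, hg⟩ := fields_of_isContraction T h T' hT'
  unfold NumericalType.genus
  have e1 : ∑ i, T'.m i * T'.w i * (T'.g i - 1) =
      ∑ i : Fin n, T.m i.castSucc * T.w i.castSucc * (T.g i.castSucc - 1) +
        ∑ i : Fin n, T.m i.castSucc * Z T i := by
    rw [← Finset.sum_add_distrib]
    refine Finset.sum_congr rfl fun i _ => ?_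
    rw [hm, hw, hg, mul_assoc, w'_mul_g' T i]; ring
  have e2 : ∑ i, T'.m i * T'.a i i =
      ∑ i : Fin n, T.m i.castSucc * T.a i.castSucc i.castSucc +
        T.w (Fin.last n) * ∑ i : Fin n, T.m i.castSucc * c T i ^ 2 := by
    rw [Finset.mul_sum, ← Finset.sum_add_distrib]
    refine Finset.sum_congr rfl fun i _ => ?_
    rw [hm, ha]; unfold a'; ring
  have e3 : 2 * ∑ i : Fin n, T.m i.castSucc * Z T i =
      T.w (Fin.last n) * ∑ i : Fin n, T.m i.castSucc * c T i ^ 2 -
        T.w (Fin.last n) * T.m (Fin.last n) := by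
    rw [← sum_c_m T h, Finset.mul_sum, Finset.mul_sum, Finset.mul_sum, ← Finset.sum_sub_distrib]
    refine Finset.sum_congr rfl fun i _ => ?_
    have := two_Z T i
    linear_combination (T.m i.castSucc) * this
  obtain ⟨E, hE⟩ := two_dvd_sum_m_diag T
  rw [Fin.sum_univ_castSucc, h.2] at hE
  rw [Fin.sum_univ_castSucc (f := fun i => T.m i * T.w i * (T.g i - 1)),
    Fin.sum_univ_castSucc (f := fun i => T.m i * T.a i i), h.1, h.2, e1, e2]
  have h5 : ∑ i : Fin n, T.m i.castSucc * T.a i.castSucc i.castSucc +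
      T.w (Fin.last n) * ∑ i : Fin n, T.m i.castSucc * c T i ^ 2 =
      2 * (E + T.m (Fin.last n) * T.w (Fin.last n) + ∑ i : Fin n, T.m i.castSucc * Z T i) := by
    linarith
  rw [h5, hE, Int.mul_ediv_cancel_left _ (two_ne_zero), Int.mul_ediv_cancel_left _ (two_ne_zero)]
  ring

end Groth.Agent.Lib.Helper11.Contract
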