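import Mathlib
import Groth.Agent.Lib.Helper11Contract

/-!
Contraction of a `(-1)`-index of a numerical type: the induced map of Picard groups.
-/

namespace Groth.Agent.Lib.Helper11.Contract

open Finset Models Groth.Agent.Lib.Helper11

variable {n : ℕ} (T : Models.NumericalType (n + 1))

theorem w_mul_pic {k : ℕ} (S : Models.NumericalType k) (i j : Fin k) :
    S.w i * S.picMatrix i j = S.a i j :=
  Int.mul_ediv_cancel' (S.w_dvd i j)

theorem w_mul_picMulVec {k : ℕ} (S : Models.NumericalType k) (x : Fin k → ℤ) (i : Fin k) :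
    S.w i * (S.picMatrix.mulVec x) i = (S.a.mulVec x) i := by
  simp only [Matrix.mulVec, dotProduct]
  rw [Finset.mul_sum]
  refine Finset.sum_congr rfl fun j _ => ?_
  rw [← mul_assoc, w_mul_pic]

/-- the linear map on degree vectors -/
def F : (Fin (n + 1) → ℤ) →ₗ[ℤ] (Fin n → ℤ) where
  toFun d j := (T.w j.castSucc / w' T j) * d j.castSucc + (b T j / w' T j) * d (Fin.last n)
  map_add' d e := by funext j; simp only [Pi.add_apply]; ring
  map_smul' r d := by
    funext j
    simp only [Pi.smul_apply, smul_eq_mul, RingHom.id_apply]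
    ring

theorem F_apply (d : Fin (n + 1) → ℤ) (j : Fin n) :
    F T d j = (T.w j.castSucc / w' T j) * d j.castSucc + (b T j / w' T j) * d (Fin.last n) := rfl

theorem w'_mul_F (d : Fin (n + 1) → ℤ) (j : Fin n) :
    w' T j * F T d j = T.w j.castSucc * d j.castSucc + b T j * d (Fin.last n) := by
  have h1 : w' T j * (T.w j.castSucc / w' T j) = T.w j.castSucc :=
    Int.mul_ediv_cancel' (w'_dvd_w T j)
  have h2 : w' T j * (b T j / w' T j) = b T j :=
    Int.mul_ediv_cancel' ((w'_dvd_w T j).trans ⟨q T j, b_eq_q T j⟩)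
  rw [F_apply, mul_add, ← mul_assoc, ← mul_assoc, h1, h2]

theorem F_pic (h : T.IsMinusOne (Fin.last n)) (T' : Models.NumericalType n)
    (hT' : T.IsContraction T') (x : Fin (n + 1) → ℤ) :
    F T (T.picMatrix.mulVec x) = T'.picMatrix.mulVec (fun k => x k.castSucc) := by
  obtain ⟨hm, ha, hw, hg⟩ := fields_of_isContraction T h T' hT'
  funext j
  have hw'pos := w'_pos T j
  apply mul_left_cancel₀ hw'pos.ne'
  rw [w'_mul_F, ← hw j, w_mul_picMulVec, w_mul_picMulVec]
  have hbc := b_eq_c T j
  have e1 : b T j * (T.picMatrix.mulVec x) (Fin.last n) = c T j * (T.a.mulVec x) (Fin.last n) := by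
    rw [← w_mul_picMulVec, hbc]; ring
  rw [e1]
  simp only [Matrix.mulVec, dotProduct]
  rw [Fin.sum_univ_castSucc, Fin.sum_univ_castSucc (f := fun k => T.a (Fin.last n) k * x k), h.2]
  have e2 : ∑ k : Fin n, T.a (Fin.last n) k.castSucc * x k.castSucc =
      T.w (Fin.last n) * ∑ k : Fin n, c T k * x k.castSucc := by
    rw [Finset.mul_sum]
    refine Finset.sum_congr rfl fun k _ => ?_
    rw [a_symm T (Fin.last n) k.castSucc]
    have := b_eq_c T k
    unfold b at this
    rw [this]; ring
  have e3 : ∑ k : Fin n, T'.a j k * x k.castSucc =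
      ∑ k : Fin n, T.a j.castSucc k.castSucc * x k.castSucc +
        T.w (Fin.last n) * c T j * ∑ k : Fin n, c T k * x k.castSucc := by
    rw [Finset.mul_sum, ← Finset.sum_add_distrib]
    refine Finset.sum_congr rfl fun k _ => ?_
    rw [ha]; unfold a'; ring
  rw [e2, e3]
  unfold b at hbc
  rw [hbc]
  ring

theorem F_ker (h : T.IsMinusOne (Fin.last n)) (e : Fin (n + 1) → ℤ) (he : F T e = 0) :
    e ∈ LinearMap.range (Matrix.mulVecLin T.picMatrix) := by
  classical
  refine ⟨fun k => if k = Fin.last n then - e (Fin.last n) else 0, ?_⟩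
  rw [Matrix.mulVecLin_apply]
  have hcomp : ∀ i, (T.picMatrix.mulVec
      (fun k => if k = Fin.last n then - e (Fin.last n) else 0)) i =
        T.picMatrix i (Fin.last n) * (- e (Fin.last n)) := by
    intro i
    simp [Matrix.mulVec, dotProduct]
  funext i
  rw [hcomp]
  rcases Fin.eq_castSucc_or_eq_last i with ⟨j, rfl⟩ | rfl
  · have h1 := w'_mul_F T e j
    rw [he, Pi.zero_apply, mul_zero, b_eq_q] at h1
    have hw := T.w_pos j.castSucc
    have h2 : T.w j.castSucc * (e j.castSucc + q T j * e (Fin.last n)) = 0 := by linarith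
    have h3 : e j.castSucc + q T j * e (Fin.last n) = 0 := by
      rcases mul_eq_zero.mp h2 with h' | h'
      · exact absurd h' hw.ne'
      · exact h'
    change q T j * (- e (Fin.last n)) = _
    linarith
  · have hw := T.w_pos (Fin.last n)
    have : T.picMatrix (Fin.last n) (Fin.last n) = -1 := by
      unfold NumericalType.picMatrix
      rw [h.2]
      exact Int.ediv_eq_of_eq_mul_right hw.ne' (by ring)
    rw [this]; ring

theorem range_le_comap (h : T.IsMinusOne (Fin.last n)) (T' : Models.NumericalType n)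
    (hT' : T.IsContraction T') :
    LinearMap.range (Matrix.mulVecLin T.picMatrix) ≤
      (LinearMap.range (Matrix.mulVecLin T'.picMatrix)).comap (F T) := by
  rintro _ ⟨x, rfl⟩
  rw [Submodule.mem_comap, Matrix.mulVecLin_apply, F_pic T h T' hT']
  exact ⟨_, rfl⟩

/-- the map of Picard groups induced by a contraction -/
def picMap (h : T.IsMinusOne (Fin.last n)) (T' : Models.NumericalType n)
    (hT' : T.IsContraction T') : T.Pic →ₗ[ℤ] T'.Pic :=
  Submodule.mapQ _ _ (F T) (range_le_comap T h T' hT')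

theorem picMap_mk (h : T.IsMinusOne (Fin.last n)) (T' : Models.NumericalType n)
    (hT' : T.IsContraction T') (d : Fin (n + 1) → ℤ) :
    picMap T h T' hT' (Submodule.Quotient.mk d) = Submodule.Quotient.mk (F T d) := rfl

theorem picMap_injective (h : T.IsMinusOne (Fin.last n)) (T' : Models.NumericalType n)
    (hT' : T.IsContraction T') : Function.Injective (picMap T h T' hT') := by
  rw [← LinearMap.ker_eq_bot, LinearMap.ker_eq_bot']
  intro x hx
  obtain ⟨d, rfl⟩ := Submodule.Quotient.mk_surjective _ x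
  rw [picMap_mk, Submodule.Quotient.mk_eq_zero] at hx
  obtain ⟨x', hx'⟩ := hx
  rw [Matrix.mulVecLin_apply] at hx'
  obtain ⟨xx, hxx⟩ : ∃ xx : Fin (n + 1) → ℤ, xx = Fin.snoc (α := fun _ => ℤ) x' 0 := ⟨_, rfl⟩
  have hxx' : (fun k : Fin n => xx k.castSucc) = x' := by
    funext k
    rw [hxx, Fin.snoc_castSucc]
  have h1 : F T (d - T.picMatrix.mulVec xx) = 0 := by
    rw [map_sub, F_pic T h T' hT', hxx', hx', sub_self]
  have h2 := F_ker T h _ h1
  rw [Submodule.Quotient.mk_eq_zero]
  have h3 : T.picMatrix.mulVec xx ∈ LinearMap.range (Matrix.mulVecLin T.picMatrix) :=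
    ⟨xx, rfl⟩
  have := Submodule.add_mem _ h2 h3
  rwa [sub_add_cancel] at this

theorem picMap_two (h : T.IsMinusOne (Fin.last n)) (T' : Models.NumericalType n)
    (hT' : T.IsContraction T') (y : T'.Pic) : ∃ x : T.Pic, 2 • y = picMap T h T' hT' x := by
  obtain ⟨y0, rfl⟩ := Submodule.Quotient.mk_surjective _ y
  have hs : ∀ j : Fin n, ∃ s : ℤ, (T.w j.castSucc / w' T j) * s = 2 := by
    intro j
    have hw := T.w_pos j.castSucc
    have hw' := w'_pos T j
    rcases w'_cases T j with ⟨h1, _⟩ | ⟨h1, _⟩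
    · exact ⟨2, by rw [h1, Int.ediv_self hw.ne', one_mul]⟩
    · refine ⟨1, ?_⟩
      rw [← h1, Int.mul_ediv_cancel _ hw'.ne', mul_one]
  choose s hs using hs
  refine ⟨Submodule.Quotient.mk (Fin.snoc (α := fun _ => ℤ) (fun j => s j * y0 j) 0), ?_⟩
  rw [picMap_mk, ← Submodule.Quotient.mk_smul]
  congr 1
  funext j
  rw [F_apply, Fin.snoc_castSucc, Fin.snoc_last, mul_zero, add_zero, ← mul_assoc, hs j]
  simp

end Groth.Agent.Lib.Helper11.Contract
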