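import Mathlib
import Groth.Prelude.Def_W4stkflatp2Cpct

/-!
# The category of compactifications (helper11)

Namespace `Groth.Agent.Lib.Helper11.CpctLib`.

* `isIso_lift_toImage`: if a quasi-compact `j : X ⟶ P` factors through an open `U ⊆ P` as a closed
  immersion, the part over `U` of the scheme-theoretic image of `j` is `X`.
* `isIso_fst_resLE`: Ore condition at the level of schemes.
* `restr_ι`, `restr_id`, `restr_comp`, `isoOpen` is multiplicative.
* `exists_ore`, `exists_equalizing`: the calculus of right fractions for `Cpct.isoOpen`.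
* `exists_fraction`: every morphism of open parts is a right fraction (closure of the graph).
-/

set_option autoImplicit false
set_option linter.style.haveILetI false
universe u
open CategoryTheory CategoryTheory.Limits AlgebraicGeometry TopologicalSpace

namespace Groth.Agent.Lib.Helper11.CpctLib

section SchemeLevel

theorem ker_toImage_eq_bot {X Y : Scheme.{u}} (f : X ⟶ Y) [QuasiCompact f] : f.toImage.ker = ⊥ := by
  refine Scheme.IdealSheafData.ext_of_iSup_eq_top
    (fun V : Y.affineOpens => ⟨f.imageι ⁻¹ᵁ V.1, V.2.preimage f.imageι⟩) ?_ ?_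
  · change ⨆ V : Y.affineOpens, f.imageι ⁻¹ᵁ V.1 = ⊤
    rw [← Scheme.Hom.preimage_iSup, iSup_affineOpens_eq_top, Scheme.Hom.preimage_top]
  · intro V
    rw [Scheme.Hom.ker_apply, Scheme.IdealSheafData.ideal_bot, Pi.bot_apply,
      ← RingHom.injective_iff_ker_eq_bot]
    exact f.toImage_app_injective V

/-- If a quasi-compact `j : X ⟶ P` factors through an open `U` as a closed immersion, then the part
of the scheme-theoretic image of `j` over `U` is `X`. -/
theorem isIso_lift_toImage {X P : Scheme.{u}} (j : X ⟶ P) [QuasiCompact j] (U : P.Opens)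
    (j' : X ⟶ U.toScheme) [IsClosedImmersion j'] (hj : j' ≫ U.ι = j)
    (σ : X ⟶ (j.imageι ⁻¹ᵁ U).toScheme) (hσ : σ ≫ (j.imageι ⁻¹ᵁ U).ι = j.toImage) :
    IsIso σ := by
  have h1 : σ ≫ (j.imageι ∣_ U) = j' := by
    rw [← cancel_mono U.ι, Category.assoc, morphismRestrict_ι, reassoc_of% hσ,
      Scheme.Hom.toImage_imageι, hj]
  haveI : IsClosedImmersion (σ ≫ (j.imageι ∣_ U)) := by rw [h1]; infer_instance
  haveI : IsClosedImmersion σ := IsClosedImmersion.of_comp σ (j.imageι ∣_ U)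
  have H : IsPullback σ (𝟙 X) (j.imageι ⁻¹ᵁ U).ι j.toImage :=
    IsPullback.of_vert_isIso_mono ⟨by rw [hσ, Category.id_comp]⟩
  rw [IsClosedImmersion.isIso_iff_ker_eq_bot, eq_bot_iff]
  intro V
  rw [Scheme.ker_ideal_of_isPullback_of_isOpenImmersion j.toImage σ (𝟙 X) _ H V,
    ker_toImage_eq_bot, Scheme.IdealSheafData.ideal_bot, Pi.bot_apply,
    Scheme.IdealSheafData.ideal_bot, Pi.bot_apply]
  rw [Ideal.comap_bot_of_injective]
  exact (ConcreteCategory.bijective_of_isIso _).1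

/-- Ore condition at the level of schemes: the base change of `u` (an isomorphism on opens) is an
isomorphism on opens. -/
theorem isIso_fst_resLE {X Y X' : Scheme.{u}} (f : Y ⟶ X) (g : X' ⟶ X) (UX : X.Opens)
    (UY : Y.Opens) (UX' : X'.Opens) (hf : UY ≤ f ⁻¹ᵁ UX) (hg : UX' ≤ g ⁻¹ᵁ UX)
    [IsIso (g.resLE UX UX' hg)] :
    IsIso ((pullback.fst f g).resLE UY (pullback.fst f g ⁻¹ᵁ UY ⊓ pullback.snd f g ⁻¹ᵁ UX')
      inf_le_left) := by
  set Y' : (pullback f g).Opens := pullback.fst f g ⁻¹ᵁ UY ⊓ pullback.snd f g ⁻¹ᵁ UX' with hY'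
  let a : UY.toScheme ⟶ pullback f g :=
    pullback.lift UY.ι (f.resLE UX UY hf ≫ inv (g.resLE UX UX' hg) ≫ UX'.ι) (by
      rw [Category.assoc, Category.assoc, ← Scheme.Hom.resLE_comp_ι g hg, IsIso.inv_hom_id_assoc,
        Scheme.Hom.resLE_comp_ι])
  have ha1 : a ≫ pullback.fst f g = UY.ι := pullback.lift_fst _ _ _
  have ha2 : a ≫ pullback.snd f g = f.resLE UX UY hf ≫ inv (g.resLE UX UX' hg) ≫ UX'.ι :=
    pullback.lift_snd _ _ _
  have hr : Set.range a ⊆ Set.range Y'.ι := by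
    rintro _ ⟨y, rfl⟩
    rw [Scheme.Opens.range_ι]
    refine ⟨?_, ?_⟩
    · change (pullback.fst f g) (a y) ∈ UY
      rw [← Scheme.Hom.comp_apply, ha1]
      exact y.2
    · change (pullback.snd f g) (a y) ∈ UX'
      rw [← Scheme.Hom.comp_apply, ha2, ← Category.assoc, Scheme.Hom.comp_apply]
      exact Subtype.prop _
  let σ : UY.toScheme ⟶ Y'.toScheme := IsOpenImmersion.lift Y'.ι a hr
  have hσ : σ ≫ Y'.ι = a := IsOpenImmersion.lift_fac _ _ _
  have e1 : σ ≫ (pullback.fst f g).resLE UY Y' inf_le_left = 𝟙 _ := by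
    rw [← cancel_mono UY.ι, Category.assoc, Scheme.Hom.resLE_comp_ι, reassoc_of% hσ, ha1,
      Category.id_comp]
  have e3 : (pullback.fst f g).resLE UY Y' inf_le_left ≫ f.resLE UX UY hf =
      (pullback.snd f g).resLE UX' Y' inf_le_right ≫ g.resLE UX UX' hg := by
    rw [← cancel_mono UX.ι]
    simp only [Category.assoc, Scheme.Hom.resLE_comp_ι, Scheme.Hom.resLE_comp_ι_assoc]
    rw [pullback.condition]
  have e2 : (pullback.fst f g).resLE UY Y' inf_le_left ≫ σ = 𝟙 _ := by
    rw [← cancel_mono Y'.ι, Category.assoc, hσ, Category.id_comp]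
    apply pullback.hom_ext
    · rw [Category.assoc, ha1, Scheme.Hom.resLE_comp_ι]
    · rw [Category.assoc, ha2, reassoc_of% e3, IsIso.hom_inv_id_assoc, Scheme.Hom.resLE_comp_ι]
  exact ⟨σ, e2, e1⟩

end SchemeLevel

section PairLevel
open Cpct
variable {S : Scheme.{u}}

@[reassoc]
lemma restr_ι {A B : Pair S} (f : A ⟶ B) : restr f ≫ B.U.ι = A.U.ι ≫ (Pair.Hom.bar f).left := by
  simp [restr]

lemma restr_id (A : Pair S) : restr (𝟙 A) = 𝟙 _ := by
  rw [← cancel_mono A.U.ι, restr_ι]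
  simp

lemma restr_comp {A B C : Pair S} (f : A ⟶ B) (g : B ⟶ C) : restr (f ≫ g) = restr f ≫ restr g := by
  rw [← cancel_mono C.U.ι]
  simp [restr_ι, restr_ι_assoc]

instance : (isoOpen S).IsMultiplicative where
  id_mem A := by
    change IsIso (restr (𝟙 A))
    rw [restr_id]
    infer_instance
  comp_mem f g hf hg := by
    change IsIso (restr (f ≫ g))
    rw [restr_comp]
    haveI : IsIso (restr f) := hf
    haveI : IsIso (restr g) := hg
    infer_instance

lemma isCompact_of_isIso {X Y : Scheme.{u}} (U : X.Opens) (V : Y.Opens)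
    (h : U.toScheme ⟶ V.toScheme) [IsIso h] (hV : IsCompact (V : Set Y)) :
    IsCompact (U : Set X) := by
  haveI : CompactSpace V.toScheme := isCompact_iff_compactSpace.mp hV
  have h2 : CompactSpace U.toScheme := h.homeomorph.symm.compactSpace
  exact isCompact_iff_compactSpace.mpr h2

/-- the Ore condition for `isoOpen` -/
theorem exists_ore {A B A' : Pair S} (f : B ⟶ A) (u : A' ⟶ A) (hu : isoOpen S u) :
    ∃ (B' : Pair S) (v : B' ⟶ B) (g : B' ⟶ A'), isoOpen S v ∧ v ≫ f = g ≫ u := by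
  haveI : IsProper A.bar.hom := A.isProper
  haveI : IsProper B.bar.hom := B.isProper
  haveI : IsProper (Pair.Hom.bar u).left := by
    haveI : IsProper ((Pair.Hom.bar u).left ≫ A.bar.hom) := by
      rw [Over.w]
      exact A'.isProper
    exact IsProper.of_comp (Pair.Hom.bar u).left A.bar.hom
  have hle_f : B.U ≤ (Pair.Hom.bar f).left ⁻¹ᵁ A.U := fun x hx => Pair.Hom.le f x hx
  have hle_u : A'.U ≤ (Pair.Hom.bar u).left ⁻¹ᵁ A.U := fun x hx => Pair.Hom.le u x hx
  haveI : IsIso ((Pair.Hom.bar u).left.resLE A.U A'.U hle_u) := hu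
  have hiso := isIso_fst_resLE (Pair.Hom.bar f).left (Pair.Hom.bar u).left A.U B.U A'.U hle_f hle_u
  let B' : Pair S :=
    { bar := Over.mk (pullback.fst (Pair.Hom.bar f).left (Pair.Hom.bar u).left ≫ B.bar.hom)
      U := pullback.fst (Pair.Hom.bar f).left (Pair.Hom.bar u).left ⁻¹ᵁ B.U ⊓
        pullback.snd (Pair.Hom.bar f).left (Pair.Hom.bar u).left ⁻¹ᵁ A'.U
      isProper := by
        change IsProper (pullback.fst (Pair.Hom.bar f).left (Pair.Hom.bar u).left ≫ B.bar.hom)
        infer_instance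
      isCompact := @isCompact_of_isIso _ _ _ B.U _ hiso B.isCompact }
  let v : B' ⟶ B :=
    ⟨Over.homMk (pullback.fst (Pair.Hom.bar f).left (Pair.Hom.bar u).left) rfl, fun x hx => hx.1⟩
  let g : B' ⟶ A' :=
    ⟨Over.homMk (pullback.snd (Pair.Hom.bar f).left (Pair.Hom.bar u).left) (by
      change pullback.snd (Pair.Hom.bar f).left (Pair.Hom.bar u).left ≫ A'.bar.hom =
        pullback.fst (Pair.Hom.bar f).left (Pair.Hom.bar u).left ≫ B.bar.hom
      rw [← Over.w (Pair.Hom.bar u), ← Over.w (Pair.Hom.bar f), pullback.condition_assoc]),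
      fun x hx => hx.2⟩
  refine ⟨B', v, g, hiso, ?_⟩
  apply Pair.Hom.ext
  ext1
  exact pullback.condition

/-- two morphisms of compactifications with the same open part are equalized by a morphism of
`isoOpen` (the equalizer of the two morphisms of proper schemes). -/
theorem exists_equalizing {A B : Pair S} (f₁ f₂ : A ⟶ B) (h : restr f₁ = restr f₂) :
    ∃ (A' : Pair S) (t : A' ⟶ A), isoOpen S t ∧ t ≫ f₁ = t ≫ f₂ := by
  haveI : IsProper A.bar.hom := A.isProper
  haveI : IsProper B.bar.hom := B.isProper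
  haveI : IsSeparated B.bar.hom := inferInstance
  let ι : equalizer (Pair.Hom.bar f₁) (Pair.Hom.bar f₂) ⟶ A.bar :=
    equalizer.ι (Pair.Hom.bar f₁) (Pair.Hom.bar f₂)
  haveI : IsClosedImmersion ι.left := inferInstance
  let A' : Pair S :=
    { bar := equalizer (Pair.Hom.bar f₁) (Pair.Hom.bar f₂)
      U := ι.left ⁻¹ᵁ A.U
      isProper := by
        rw [← Over.w ι]
        infer_instance
      isCompact := ι.left.isCompact_preimage A.isCompact }
  let t : A' ⟶ A := ⟨ι, fun x hx => hx⟩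
  have hι : A.U.ι ≫ (Pair.Hom.bar f₁).left = A.U.ι ≫ (Pair.Hom.bar f₂).left := by
    rw [← restr_ι, ← restr_ι, h]
  let k : Over.mk (A.U.ι ≫ A.bar.hom) ⟶ equalizer (Pair.Hom.bar f₁) (Pair.Hom.bar f₂) :=
    equalizer.lift (Over.homMk A.U.ι rfl) (by ext1; exact hι)
  have hk : k.left ≫ ι.left = A.U.ι := by
    rw [← Over.comp_left, equalizer.lift_ι]
    rfl
  have hr : Set.range k.left ⊆ Set.range (ι.left ⁻¹ᵁ A.U).ι := by
    rintro _ ⟨x, rfl⟩
    rw [Scheme.Opens.range_ι]
    change ι.left (k.left x) ∈ A.U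
    rw [← Scheme.Hom.comp_apply, hk]
    exact x.2
  let σ : A.U.toScheme ⟶ (ι.left ⁻¹ᵁ A.U).toScheme := IsOpenImmersion.lift _ k.left hr
  have hσ : σ ≫ (ι.left ⁻¹ᵁ A.U).ι = k.left := IsOpenImmersion.lift_fac _ _ _
  have ht : restr t ≫ A.U.ι = (ι.left ⁻¹ᵁ A.U).ι ≫ ι.left := restr_ι t
  refine ⟨A', t, ⟨σ, ?_, ?_⟩, ?_⟩
  · rw [← cancel_mono (ι.left ⁻¹ᵁ A.U).ι, ← cancel_mono ι.left]
    simp only [Category.assoc, Category.id_comp]
    rw [reassoc_of% hσ, hk, ht]
  · rw [← cancel_mono A.U.ι, Category.assoc, ht, reassoc_of% hσ, hk, Category.id_comp]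
  · apply Pair.Hom.ext
    exact equalizer.condition _ _

/-- every morphism between the open parts is a right fraction (closure of the graph). -/
theorem exists_fraction_aux [QuasiSeparatedSpace S] {A B : Pair S}
    (φl : A.U.toScheme ⟶ B.U.toScheme) (hφ : φl ≫ B.U.ι ≫ B.bar.hom = A.U.ι ≫ A.bar.hom) :
    ∃ (A' : Pair S) (s : A' ⟶ A) (_ : isoOpen S s) (f : A' ⟶ B), restr s ≫ φl = restr f := by
  haveI : IsProper A.bar.hom := A.isProper
  haveI : IsProper B.bar.hom := B.isProper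
  let j : A.U.toScheme ⟶ pullback A.bar.hom B.bar.hom :=
    pullback.lift A.U.ι (φl ≫ B.U.ι) (by rw [Category.assoc, hφ])
  have hj1 : j ≫ pullback.fst _ _ = A.U.ι := pullback.lift_fst _ _ _
  have hj2 : j ≫ pullback.snd _ _ = φl ≫ B.U.ι := pullback.lift_snd _ _ _
  haveI : QuasiSeparatedSpace ↥(pullback A.bar.hom B.bar.hom) :=
    quasiSeparatedSpace_of_quasiSeparated (pullback.fst A.bar.hom B.bar.hom ≫ A.bar.hom)
  haveI : CompactSpace A.U.toScheme := isCompact_iff_compactSpace.mp A.isCompact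
  haveI : QuasiCompact j := inferInstance
  let UP : (pullback A.bar.hom B.bar.hom).Opens := pullback.fst A.bar.hom B.bar.hom ⁻¹ᵁ A.U
  have hrj : Set.range j ⊆ Set.range UP.ι := by
    rintro _ ⟨x, rfl⟩
    rw [Scheme.Opens.range_ι]
    change (pullback.fst A.bar.hom B.bar.hom) (j x) ∈ A.U
    rw [← Scheme.Hom.comp_apply, hj1]
    exact x.2
  let j' : A.U.toScheme ⟶ UP.toScheme := IsOpenImmersion.lift UP.ι j hrj
  have hj' : j' ≫ UP.ι = j := IsOpenImmersion.lift_fac _ _ _
  have hj'1 : j' ≫ (pullback.fst A.bar.hom B.bar.hom ∣_ A.U) = 𝟙 _ := by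
    rw [← cancel_mono A.U.ι, Category.assoc, morphismRestrict_ι, reassoc_of% hj', hj1,
      Category.id_comp]
  haveI : IsClosedImmersion (j' ≫ (pullback.fst A.bar.hom B.bar.hom ∣_ A.U)) := by
    rw [hj'1]
    infer_instance
  haveI : IsClosedImmersion j' :=
    IsClosedImmersion.of_comp j' (pullback.fst A.bar.hom B.bar.hom ∣_ A.U)
  let W : j.image.Opens := j.imageι ⁻¹ᵁ UP
  have hrσ : Set.range j.toImage ⊆ Set.range W.ι := by
    rintro _ ⟨x, rfl⟩
    rw [Scheme.Opens.range_ι]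
    change j.imageι (j.toImage x) ∈ UP
    rw [← Scheme.Hom.comp_apply, Scheme.Hom.toImage_imageι]
    change (pullback.fst A.bar.hom B.bar.hom) (j x) ∈ A.U
    rw [← Scheme.Hom.comp_apply, hj1]
    exact x.2
  let σ : A.U.toScheme ⟶ W.toScheme := IsOpenImmersion.lift W.ι j.toImage hrσ
  have hσ : σ ≫ W.ι = j.toImage := IsOpenImmersion.lift_fac _ _ _
  haveI hσiso : IsIso σ := isIso_lift_toImage j UP j' hj' σ hσ
  have hσj : σ ≫ W.ι ≫ j.imageι = j := by rw [reassoc_of% hσ, Scheme.Hom.toImage_imageι]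
  let A' : Pair S :=
    { bar := Over.mk (j.imageι ≫ pullback.fst A.bar.hom B.bar.hom ≫ A.bar.hom)
      U := W
      isProper := by
        change IsProper (j.imageι ≫ pullback.fst A.bar.hom B.bar.hom ≫ A.bar.hom)
        infer_instance
      isCompact := isCompact_of_isIso W A.U (inv σ) A.isCompact }
  let s : A' ⟶ A :=
    ⟨Over.homMk (j.imageι ≫ pullback.fst A.bar.hom B.bar.hom) (by simp [A']), fun x hx => hx⟩
  have hfle : ∀ x, x ∈ W → (j.imageι ≫ pullback.snd A.bar.hom B.bar.hom) x ∈ B.U := by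
    intro x hx
    obtain ⟨x₀, hx₀⟩ := σ.homeomorph.surjective ⟨x, hx⟩
    have hx₁ : x = (σ ≫ W.ι) x₀ := by
      rw [Scheme.Hom.comp_apply]
      change x = (σ.homeomorph x₀).1
      rw [hx₀]
    rw [hx₁, ← Scheme.Hom.comp_apply, Category.assoc, reassoc_of% hσj, hj2,
      Scheme.Hom.comp_apply]
    exact Subtype.prop _
  let f : A' ⟶ B :=
    ⟨Over.homMk (j.imageι ≫ pullback.snd A.bar.hom B.bar.hom) (by
      change (j.imageι ≫ pullback.snd A.bar.hom B.bar.hom) ≫ B.bar.hom =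
        j.imageι ≫ pullback.fst A.bar.hom B.bar.hom ≫ A.bar.hom
      rw [Category.assoc, pullback.condition]), hfle⟩
  have hs : σ ≫ restr s = 𝟙 _ := by
    rw [← cancel_mono A.U.ι, Category.assoc, restr_ι]
    change σ ≫ W.ι ≫ j.imageι ≫ pullback.fst A.bar.hom B.bar.hom = _
    rw [reassoc_of% hσj, hj1, Category.id_comp]
  have hf : σ ≫ restr f = φl := by
    rw [← cancel_mono B.U.ι, Category.assoc, restr_ι]
    change σ ≫ W.ι ≫ j.imageι ≫ pullback.snd A.bar.hom B.bar.hom = _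
    rw [reassoc_of% hσj, hj2]
  haveI : IsIso (σ ≫ restr s) := by
    rw [hs]
    infer_instance
  have hsiso : IsIso (restr s) := IsIso.of_isIso_comp_left σ (restr s)
  refine ⟨A', s, hsiso, f, ?_⟩
  rw [← cancel_epi σ, reassoc_of% hs, hf]

theorem exists_fraction [QuasiSeparatedSpace S] {A B : Pair S}
    (φ : openOver.obj A ⟶ openOver.obj B) :
    ∃ (A' : Pair S) (s : A' ⟶ A) (_ : isoOpen S s) (f : A' ⟶ B),
      openOver.map s ≫ φ = openOver.map f := by
  obtain ⟨A', s, hs, f, h⟩ := exists_fraction_aux (A := A) (B := B) φ.left (Over.w φ)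
  refine ⟨A', s, hs, f, ?_⟩
  ext1
  exact h

end PairLevel

end Groth.Agent.Lib.Helper11.CpctLib
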