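import Mathlib
import Groth.Agent.Lib.Helper11ChevC
import Groth.Agent.Lib.Helper11AffGlue

set_option autoImplicit false
universe u
open CategoryTheory CategoryTheory.Limits AlgebraicGeometry Opposite TopologicalSpace

namespace Groth.Agent.Lib.Helper11.CurveAff

variable {X : Scheme.{u}}

theorem isEmpty_subscheme_of_support_eq_bot (I : X.IdealSheafData) (h : I.support = ⊥) :
    IsEmpty I.subscheme := by
  refine ⟨fun z => ?_⟩
  have h1 : I.subschemeι z ∈ Set.range I.subschemeι := ⟨z, rfl⟩
  rw [I.range_subschemeι, h] at h1
  exact h1

/-- a finite union of affine reduced closed subschemes is affine -/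
theorem isAffine_vanishingIdeal_sup (S : Finset (Closeds X)) :
    (∀ Z ∈ S, IsAffine (Scheme.IdealSheafData.vanishingIdeal Z).subscheme) →
    ∀ W : Closeds X, W = S.sup id → IsAffine (Scheme.IdealSheafData.vanishingIdeal W).subscheme := by
  classical
  induction S using Finset.induction_on with
  | empty =>
    intro _ W hW
    have h0 : (Scheme.IdealSheafData.vanishingIdeal W).support = ⊥ := by
      rw [hW, Finset.sup_empty, Scheme.IdealSheafData.vanishingIdeal_bot,
        Scheme.IdealSheafData.support_top]
    haveI := isEmpty_subscheme_of_support_eq_bot _ h0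
    infer_instance
  | insert Z S' hZ ih =>
    intro hS W hW
    haveI hA : IsAffine (Scheme.IdealSheafData.vanishingIdeal Z).subscheme :=
      hS Z (Finset.mem_insert_self Z S')
    haveI hB : IsAffine (Scheme.IdealSheafData.vanishingIdeal (S'.sup id)).subscheme :=
      ih (fun Z' hZ' => hS Z' (Finset.mem_insert_of_mem hZ')) (S'.sup id) rfl
    have hWeq : W = Z ⊔ S'.sup id := by rw [hW, Finset.sup_insert, id]
    have hle1 : Scheme.IdealSheafData.vanishingIdeal W ≤ Scheme.IdealSheafData.vanishingIdeal Z :=
      Scheme.IdealSheafData.vanishingIdeal_antimono (by rw [hWeq]; exact le_sup_left)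
    have hle2 : Scheme.IdealSheafData.vanishingIdeal W ≤
        Scheme.IdealSheafData.vanishingIdeal (S'.sup id) :=
      Scheme.IdealSheafData.vanishingIdeal_antimono (by rw [hWeq]; exact le_sup_right)
    refine Groth.Agent.Lib.Helper11.AffGlue.isAffine_of_two_closed
      (Scheme.IdealSheafData.inclusion hle1) (Scheme.IdealSheafData.inclusion hle2) ?_
    intro x
    have hinj : Function.Injective (Scheme.IdealSheafData.vanishingIdeal W).subschemeι :=
      (Scheme.IdealSheafData.vanishingIdeal W).subschemeι.isClosedEmbedding.injective
    have hx : (Scheme.IdealSheafData.vanishingIdeal W).subschemeι x ∈ (W : Set X) := by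
      have h1 : (Scheme.IdealSheafData.vanishingIdeal W).subschemeι x ∈
          Set.range (Scheme.IdealSheafData.vanishingIdeal W).subschemeι := ⟨x, rfl⟩
      rw [Scheme.IdealSheafData.range_subschemeι,
        Scheme.IdealSheafData.coe_support_vanishingIdeal] at h1
      exact h1
    have hx' : (Scheme.IdealSheafData.vanishingIdeal W).subschemeι x ∈
        ((Z ⊔ S'.sup id : Closeds X) : Set X) := by
      have h3 : (W : Set X) = ((Z ⊔ S'.sup id : Closeds X) : Set X) := by rw [hWeq]
      rw [← h3]
      exact hx
    rcases hx' with hx | hx
    · left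
      have h2 : (Scheme.IdealSheafData.vanishingIdeal W).subschemeι x ∈
          Set.range (Scheme.IdealSheafData.vanishingIdeal Z).subschemeι := by
        rw [Scheme.IdealSheafData.range_subschemeι,
          Scheme.IdealSheafData.coe_support_vanishingIdeal]
        exact hx
      obtain ⟨y, hy⟩ := h2
      refine ⟨y, hinj ?_⟩
      rw [← Scheme.Hom.comp_apply, Scheme.IdealSheafData.inclusion_subschemeι, hy]
    · right
      have h2 : (Scheme.IdealSheafData.vanishingIdeal W).subschemeι x ∈
          Set.range (Scheme.IdealSheafData.vanishingIdeal (S'.sup id)).subschemeι := by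
        rw [Scheme.IdealSheafData.range_subschemeι,
          Scheme.IdealSheafData.coe_support_vanishingIdeal]
        exact hx
      obtain ⟨y, hy⟩ := h2
      refine ⟨y, hinj ?_⟩
      rw [← Scheme.Hom.comp_apply, Scheme.IdealSheafData.inclusion_subschemeι, hy]

/-- a Noetherian scheme all of whose irreducible components, with their reduced structures, are
affine is affine -/
theorem isAffine_of_components [IsNoetherian X]
    (hcomp : ∀ (C : Set X) (hC : C ∈ irreducibleComponents X),
      IsAffine (X.irreducibleComponentIdeal C hC).radical.subscheme) : IsAffine X := by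
  classical
  haveI : NoetherianSpace X := IsNoetherian.noetherianSpace (X := X)
  have hfin : {Z : Closeds X | (Z : Set X) ∈ irreducibleComponents X}.Finite := by
    have h1 := NoetherianSpace.finite_irreducibleComponents (α := X)
    exact h1.preimage (fun a _ b _ hab => SetLike.coe_injective hab)
  have hred : IsAffine (Scheme.IdealSheafData.vanishingIdeal (⊤ : Closeds X)).subscheme := by
    refine isAffine_vanishingIdeal_sup hfin.toFinset (fun Z hZ => ?_) ⊤ ?_
    · have hZ' : (Z : Set X) ∈ irreducibleComponents X := hfin.mem_toFinset.1 hZ
      have hZI : Z = (X.irreducibleComponentIdeal (Z : Set X) hZ').support := Closeds.ext rfl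
      have e : Scheme.IdealSheafData.vanishingIdeal Z =
          (X.irreducibleComponentIdeal (Z : Set X) hZ').radical := by
        rw [← Scheme.IdealSheafData.vanishingIdeal_support, ← hZI]
      rw [e]
      exact hcomp _ hZ'
    · symm
      rw [eq_top_iff]
      intro x _
      have hc := irreducibleComponent_mem_irreducibleComponents x
      let Z : Closeds X := ⟨irreducibleComponent x, isClosed_of_mem_irreducibleComponents _ hc⟩
      have hZ : Z ∈ hfin.toFinset := hfin.mem_toFinset.2 hc
      have hle : Z ≤ hfin.toFinset.sup id := Finset.le_sup (f := id) hZ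
      exact hle mem_irreducibleComponent
  haveI := hred
  haveI : Surjective (Scheme.IdealSheafData.vanishingIdeal (⊤ : Closeds X)).subschemeι := by
    refine ⟨fun x => ?_⟩
    have : x ∈ Set.range (Scheme.IdealSheafData.vanishingIdeal (⊤ : Closeds X)).subschemeι := by
      rw [Scheme.IdealSheafData.range_subschemeι, Scheme.IdealSheafData.coe_support_vanishingIdeal]
      trivial
    exact this
  exact Groth.Agent.Lib.Helper11.Chev.isAffine_of_surjective_universallyClosed
    (Scheme.IdealSheafData.vanishingIdeal (⊤ : Closeds X)).subschemeι

end Groth.Agent.Lib.Helper11.CurveAff
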