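import Mathlib

set_option autoImplicit false
universe u

open CategoryTheory Limits AlgebraicGeometry TopologicalSpace Opposite

namespace Groth.Agent.Lib.Helper11.CurveAmple

/-- in a pushout square of commutative rings the images of the two legs generate -/
theorem range_sup_range_eq_top_of_isPushout {R A B P : CommRingCat.{u}} {f : R ⟶ A} {g : R ⟶ B}
    {inl : A ⟶ P} {inr : B ⟶ P} (h : IsPushout f g inl inr) :
    inl.hom.range ⊔ inr.hom.range = ⊤ := by
  set P₀ : Subring P := inl.hom.range ⊔ inr.hom.range with hP₀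
  let inl₀ : A ⟶ CommRingCat.of P₀ :=
    CommRingCat.ofHom (inl.hom.codRestrict P₀ (fun a => (le_sup_left : inl.hom.range ≤ P₀) ⟨a, rfl⟩))
  let inr₀ : B ⟶ CommRingCat.of P₀ :=
    CommRingCat.ofHom (inr.hom.codRestrict P₀ (fun a => (le_sup_right : inr.hom.range ≤ P₀) ⟨a, rfl⟩))
  let ι : CommRingCat.of P₀ ⟶ P := CommRingCat.ofHom P₀.subtype
  have h1 : inl₀ ≫ ι = inl := by ext a; rfl
  have h2 : inr₀ ≫ ι = inr := by ext a; rfl
  have hι : Mono ι := ConcreteCategory.mono_of_injective ι Subtype.val_injective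
  have hw : f ≫ inl₀ = g ≫ inr₀ := by
    rw [← cancel_mono ι, Category.assoc, Category.assoc, h1, h2]
    exact h.w
  let r : P ⟶ CommRingCat.of P₀ := h.desc inl₀ inr₀ hw
  have hr : r ≫ ι = 𝟙 P := by
    apply h.hom_ext
    · rw [← Category.assoc, h.inl_desc, h1, Category.comp_id]
    · rw [← Category.assoc, h.inr_desc, h2, Category.comp_id]
  rw [eq_top_iff]
  intro p _
  have : ι.hom (r.hom p) = p := by
    have := congrArg (fun φ : P ⟶ P => φ.hom p) hr
    exact this
  rw [← this]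
  exact (r.hom p).2

theorem homOfLE_appTop_topIso {X : Scheme.{u}} {U V : X.Opens} (e : U ≤ V) :
    (X.homOfLE e).appTop ≫ U.topIso.hom = V.topIso.hom ≫ X.presheaf.map (homOfLE e).op := by
  rw [Scheme.homOfLE_appTop]
  simp only [Scheme.Opens.topIso_hom]
  erw [← Functor.map_comp, ← Functor.map_comp]
  rfl

/-- **separatedness.** on a separated scheme the ring of functions on the intersection of two affine
opens is generated by the restrictions of the functions on the two opens -/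
theorem range_sup_range_eq_top_of_isSeparated {X : Scheme.{u}} [X.IsSeparated] {V W : X.Opens}
    (hV : IsAffineOpen V) (hW : IsAffineOpen W) :
    (X.presheaf.map (homOfLE (inf_le_left : V ⊓ W ≤ V)).op).hom.range ⊔
      (X.presheaf.map (homOfLE (inf_le_right : V ⊓ W ≤ W)).op).hom.range = ⊤ := by
  haveI : IsAffine V.toScheme := hV
  haveI : IsAffine W.toScheme := hW
  let t : X ⟶ ⊤_ Scheme.{u} := terminal.from X
  have hP : IsPullback (X.homOfLE (inf_le_left : V ⊓ W ≤ V)) (X.homOfLE (inf_le_right : V ⊓ W ≤ W))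
      V.ι W.ι :=
    IsOpenImmersion.isPullback _ _ _ _ (by simp) (by ext; simp)
  let m : pullback V.ι W.ι ⟶ pullback (V.ι ≫ t) (W.ι ≫ t) :=
    pullback.map V.ι W.ι (V.ι ≫ t) (W.ι ≫ t) (𝟙 _) (𝟙 _) t (Category.id_comp _).symm
      (Category.id_comp _).symm
  haveI hm : IsClosedImmersion m :=
    MorphismProperty.of_isPullback (P := @IsClosedImmersion)
      (pullback_map_diagonal_isPullback V.ι W.ι t) inferInstance
  let j : (V ⊓ W).toScheme ⟶ pullback (V.ι ≫ t) (W.ι ≫ t) := hP.isoPullback.hom ≫ m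
  haveI : IsClosedImmersion j := inferInstance
  have hj1 : j ≫ pullback.fst _ _ = X.homOfLE (inf_le_left : V ⊓ W ≤ V) := by
    change (hP.isoPullback.hom ≫ m) ≫ pullback.fst _ _ = _
    rw [Category.assoc]
    have : m ≫ pullback.fst _ _ = pullback.fst _ _ ≫ 𝟙 _ := pullback.lift_fst _ _ _
    rw [this, Category.comp_id, hP.isoPullback_hom_fst]
  have hj2 : j ≫ pullback.snd _ _ = X.homOfLE (inf_le_right : V ⊓ W ≤ W) := by
    change (hP.isoPullback.hom ≫ m) ≫ pullback.snd _ _ = _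
    rw [Category.assoc]
    have : m ≫ pullback.snd _ _ = pullback.snd _ _ ≫ 𝟙 _ := pullback.lift_snd _ _ _
    rw [this, Category.comp_id, hP.isoPullback_hom_snd]
  have hsurj := (IsClosedImmersion.isAffine_surjective_of_isAffine j).2
  have hPO := isPushout_appTop_of_isPullback (IsPullback.of_hasPullback (V.ι ≫ t) (W.ι ≫ t))
  have hgen := range_sup_range_eq_top_of_isPushout hPO
  let Φ : Γ(pullback (V.ι ≫ t) (W.ι ≫ t), ⊤) →+* Γ(X, V ⊓ W) :=
    (j.appTop ≫ (V ⊓ W).topIso.hom).hom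
  have hΦ1 : Φ.comp (pullback.fst (V.ι ≫ t) (W.ι ≫ t)).appTop.hom =
      (X.presheaf.map (homOfLE (inf_le_left : V ⊓ W ≤ V)).op).hom.comp V.topIso.hom.hom := by
    have h1 : (pullback.fst (V.ι ≫ t) (W.ι ≫ t)).appTop ≫ j.appTop =
        (X.homOfLE (inf_le_left : V ⊓ W ≤ V)).appTop := by
      rw [← Scheme.Hom.comp_appTop, hj1]
    have h2 : (pullback.fst (V.ι ≫ t) (W.ι ≫ t)).appTop ≫ j.appTop ≫ (V ⊓ W).topIso.hom =
        V.topIso.hom ≫ X.presheaf.map (homOfLE (inf_le_left : V ⊓ W ≤ V)).op := by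
      rw [← Category.assoc, h1, homOfLE_appTop_topIso]
    exact congrArg CommRingCat.Hom.hom h2
  have hΦ2 : Φ.comp (pullback.snd (V.ι ≫ t) (W.ι ≫ t)).appTop.hom =
      (X.presheaf.map (homOfLE (inf_le_right : V ⊓ W ≤ W)).op).hom.comp W.topIso.hom.hom := by
    have h1 : (pullback.snd (V.ι ≫ t) (W.ι ≫ t)).appTop ≫ j.appTop =
        (X.homOfLE (inf_le_right : V ⊓ W ≤ W)).appTop := by
      rw [← Scheme.Hom.comp_appTop, hj2]
    have h2 : (pullback.snd (V.ι ≫ t) (W.ι ≫ t)).appTop ≫ j.appTop ≫ (V ⊓ W).topIso.hom =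
        W.topIso.hom ≫ X.presheaf.map (homOfLE (inf_le_right : V ⊓ W ≤ W)).op := by
      rw [← Category.assoc, h1, homOfLE_appTop_topIso]
    exact congrArg CommRingCat.Hom.hom h2
  have hΦsurj : Function.Surjective Φ := by
    have h1 : Function.Surjective (V ⊓ W).topIso.hom.hom :=
      (ConcreteCategory.bijective_of_isIso (V ⊓ W).topIso.hom).2
    exact h1.comp hsurj
  rw [eq_top_iff]
  have h3 : (⊤ : Subring Γ(X, V ⊓ W)) = (⊤ : Subring _).map Φ := by
    rw [← RingHom.range_eq_map, RingHom.range_eq_top.2 hΦsurj]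
  rw [h3, ← hgen, Subring.map_sup, RingHom.map_range, RingHom.map_range, hΦ1, hΦ2]
  refine sup_le_sup ?_ ?_
  · rintro _ ⟨a, rfl⟩
    exact ⟨_, rfl⟩
  · rintro _ ⟨a, rfl⟩
    exact ⟨_, rfl⟩

end Groth.Agent.Lib.Helper11.CurveAmple
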