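import Mathlib

set_option autoImplicit false
universe u

open CategoryTheory CategoryTheory.Limits AlgebraicGeometry TopologicalSpace

namespace Groth.Agent.Lib.Helper11.QfAff

/-- in a `T₀` space of Krull dimension `≤ 1` there is no chain of two proper specializations -/
theorem no_chain {X : Type*} [TopologicalSpace X] [T0Space X] (hdim : topologicalKrullDim X ≤ 1)
    {a b c : X} (hab : a ⤳ b) (hbc : b ⤳ c) (h1 : a ≠ b) (h2 : b ≠ c) : False := by
  let A : IrreducibleCloseds X := ⟨closure {a}, isIrreducible_singleton.closure, isClosed_closure⟩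
  let B : IrreducibleCloseds X := ⟨closure {b}, isIrreducible_singleton.closure, isClosed_closure⟩
  let C : IrreducibleCloseds X := ⟨closure {c}, isIrreducible_singleton.closure, isClosed_closure⟩
  have hBA : B < A := by
    refine lt_of_le_of_ne ?_ ?_
    · change closure {b} ⊆ closure {a}
      exact specializes_iff_closure_subset.1 hab
    · intro h
      have h3 : closure {b} = closure {a} :=
        congrArg (fun t : IrreducibleCloseds X => (t : Set X)) h
      have h4 : b ⤳ a := specializes_iff_closure_subset.2 h3.ge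
      exact h1 (hab.antisymm h4).eq
  have hCB : C < B := by
    refine lt_of_le_of_ne ?_ ?_
    · change closure {c} ⊆ closure {b}
      exact specializes_iff_closure_subset.1 hbc
    · intro h
      have h3 : closure {c} = closure {b} :=
        congrArg (fun t : IrreducibleCloseds X => (t : Set X)) h
      have h4 : c ⤳ b := specializes_iff_closure_subset.2 h3.ge
      exact h2 (hbc.antisymm h4).eq
  rcases (Order.krullDim_le_one_iff.1 hdim) B with h | h
  · exact (h hCB.le).not_gt hCB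
  · exact (h hBA.le).not_gt hBA

/-- ring level: in a Noetherian ring without chains of primes of length two, a non-minimal prime
`p` is cut out, in a principal open neighbourhood `D(g)`, by a single element `t`. -/
theorem exists_cut {R : Type*} [CommRing R] [IsNoetherianRing R]
    (hR : ∀ p₀ p₁ p₂ : PrimeSpectrum R, p₀ < p₁ → p₁ < p₂ → False)
    (p p₀ : PrimeSpectrum R) (hp : p₀ < p) :
    ∃ t g : R, t ∈ p.asIdeal ∧ g ∉ p.asIdeal ∧
      ∀ q : PrimeSpectrum R, t ∈ q.asIdeal → g ∉ q.asIdeal → q = p := by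
  classical
  have hfin : (minimalPrimes R).Finite := minimalPrimes.finite_of_isNoetherianRing R
  -- prime avoidance
  have h1 : ¬ ((p.asIdeal : Set R) ⊆ ⋃ i ∈ (↑hfin.toFinset : Set (Ideal R)), (i : Set R)) := by
    intro hsub
    have hpr : ∀ i ∈ hfin.toFinset, i ≠ (⊥ : Ideal R) → i ≠ (⊥ : Ideal R) → (id i : Ideal R).IsPrime := by
      intro i hi _ _
      exact ((hfin.mem_toFinset).1 hi).1.1
    obtain ⟨q, hq, hpq⟩ := (Ideal.subset_union_prime (f := id) (⊥ : Ideal R) ⊥ hpr).1 hsub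
    have hqmin : q ∈ minimalPrimes R := (hfin.mem_toFinset).1 hq
    have h2 : p₀.asIdeal ≤ q := le_trans (PrimeSpectrum.asIdeal_le_asIdeal _ _ |>.2 hp.le) hpq
    have h3 : q ≤ p₀.asIdeal := hqmin.2 ⟨p₀.2, bot_le⟩ h2
    have h4 : p.asIdeal ≤ p₀.asIdeal := le_trans hpq h3
    exact hp.not_ge ((PrimeSpectrum.asIdeal_le_asIdeal _ _).1 h4)
  rw [Set.not_subset] at h1
  obtain ⟨t, htp, htn⟩ := h1
  have htmin : ∀ q ∈ minimalPrimes R, t ∉ q := by
    intro q hq htq
    apply htn
    simp only [Set.mem_iUnion]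
    exact ⟨q, by simpa using hq, htq⟩
  -- every prime containing `t` has a strictly smaller prime
  have hlow : ∀ q : PrimeSpectrum R, t ∈ q.asIdeal → ∃ q₀ : PrimeSpectrum R, q₀ < q := by
    intro q hq
    obtain ⟨q₀, hq₀, hle⟩ := Ideal.exists_minimalPrimes_le (I := ⊥) (J := q.asIdeal) bot_le
    refine ⟨⟨q₀, hq₀.1.1⟩, lt_of_le_of_ne ((PrimeSpectrum.asIdeal_le_asIdeal _ _).1 hle) ?_⟩
    intro h
    apply htmin q₀ hq₀
    have : q₀ = q.asIdeal := congrArg PrimeSpectrum.asIdeal h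
    rw [this]; exact hq
  -- the set of primes containing `t` is finite
  have hVfin : {q : PrimeSpectrum R | t ∈ q.asIdeal}.Finite := by
    have h5 := Ideal.finite_minimalPrimes_of_isNoetherianRing R (Ideal.span {t})
    refine Set.Finite.of_finite_image (f := PrimeSpectrum.asIdeal) (h5.subset ?_) ?_
    · rintro _ ⟨q, hq, rfl⟩
      refine ⟨⟨q.2, (Ideal.span_singleton_le_iff_mem _).2 hq⟩, ?_⟩
      rintro q' ⟨hq'1, hq'2⟩ hq'q
      by_contra hne
      have htq' : t ∈ q' := (Ideal.span_singleton_le_iff_mem _).1 hq'2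
      obtain ⟨q₀, hq₀⟩ := hlow ⟨q', hq'1⟩ htq'
      have hlt : (⟨q', hq'1⟩ : PrimeSpectrum R) < q := by
        refine lt_of_le_of_ne ((PrimeSpectrum.asIdeal_le_asIdeal _ _).1 hq'q) ?_
        intro h
        apply hne
        have : q' = q.asIdeal := congrArg PrimeSpectrum.asIdeal h
        rw [this]
      exact hR _ _ _ hq₀ hlt
    · intro a _ b _ hab
      exact PrimeSpectrum.ext hab
  -- choose elements separating the other primes from `p`
  have hsep : ∀ q : PrimeSpectrum R, t ∈ q.asIdeal → q ≠ p → ∃ gq : R, gq ∈ q.asIdeal ∧ gq ∉ p.asIdeal := by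
    intro q hq hqp
    by_contra hcon
    push Not at hcon
    have hle : q ≤ p := (PrimeSpectrum.asIdeal_le_asIdeal _ _).1 (fun x hx => hcon x hx)
    obtain ⟨q₀, hq₀⟩ := hlow q hq
    exact hR _ _ _ hq₀ (lt_of_le_of_ne hle hqp)
  choose! gq hgq1 hgq2 using hsep
  refine ⟨t, ∏ q ∈ hVfin.toFinset.erase p, gq q, htp, ?_, ?_⟩
  · intro hmem
    have hpp : p.asIdeal.IsPrime := p.2
    rw [Ideal.IsPrime.prod_mem_iff] at hmem
    obtain ⟨q, hq, hgq⟩ := hmem
    rw [Finset.mem_erase, Set.Finite.mem_toFinset] at hq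
    exact hgq2 q hq.2 hq.1 hgq
  · intro q hq hg
    by_contra hne
    apply hg
    have hmem : q ∈ hVfin.toFinset.erase p := by
      rw [Finset.mem_erase, Set.Finite.mem_toFinset]
      exact ⟨hne, hq⟩
    exact Ideal.mem_of_dvd _ (Finset.dvd_prod_of_mem gq hmem) (hgq1 q hq hne)

/-- scheme level: at a non-generic point `s` of a locally Noetherian scheme of dimension `≤ 1`
there is an affine open neighbourhood `S₁` and a function `t` on it whose zero locus is `{s}`. -/
theorem exists_affine_cut {S : Scheme.{u}} [IsLocallyNoetherian S]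
    (hdim : topologicalKrullDim S ≤ 1) (s s₀ : S) (h : s₀ ⤳ s) (hne : s₀ ≠ s) :
    ∃ (S₁ : S.Opens) (t : Γ(S, S₁)), IsAffineOpen S₁ ∧ s ∈ S₁ ∧
      ∀ s' ∈ S₁, s' ∈ S.basicOpen t ↔ s' ≠ s := by
  obtain ⟨S₀, hS₀, hsS₀, -⟩ := exists_isAffineOpen_mem_and_subset (x := s) (U := ⊤) trivial
  have hs₀S₀ : s₀ ∈ S₀ := h.mem_open S₀.2 hsS₀
  have hnoeth : IsNoetherianRing Γ(S, S₀) := IsLocallyNoetherian.component_noetherian ⟨S₀, hS₀⟩
  have hemb := hS₀.fromSpec.isOpenEmbedding
  have hinj : Function.Injective hS₀.fromSpec := hemb.injective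
  have hr : ∀ w : S, w ∈ S₀ → ∃ q : PrimeSpectrum Γ(S, S₀), hS₀.fromSpec q = w := by
    intro w hw
    have : w ∈ Set.range hS₀.fromSpec := by rw [hS₀.range_fromSpec]; exact hw
    exact this
  obtain ⟨p, rfl⟩ := hr s hsS₀
  obtain ⟨p₀, rfl⟩ := hr s₀ hs₀S₀
  have hsp : ∀ a b : PrimeSpectrum Γ(S, S₀), a ≤ b → hS₀.fromSpec a ⤳ hS₀.fromSpec b := by
    intro a b hab
    exact ((PrimeSpectrum.le_iff_specializes a b).1 hab).map hS₀.fromSpec.continuous
  have hR : ∀ p₀ p₁ p₂ : PrimeSpectrum Γ(S, S₀), p₀ < p₁ → p₁ < p₂ → False := by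
    intro a b c hab hbc
    exact no_chain hdim (hsp a b hab.le) (hsp b c hbc.le) (fun e => hab.ne (hinj e))
      (fun e => hbc.ne (hinj e))
  have hlt : p₀ < p := by
    refine lt_of_le_of_ne ?_ (fun e => hne (by rw [e]))
    rw [PrimeSpectrum.le_iff_specializes]
    exact hemb.isInducing.specializes_iff.1 h
  obtain ⟨t, g, htp, hgp, hq⟩ := exists_cut hR p p₀ hlt
  have hbo : ∀ (x : Γ(S, S₀)) (q : PrimeSpectrum Γ(S, S₀)),
      hS₀.fromSpec q ∈ S.basicOpen x ↔ x ∉ q.asIdeal := by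
    intro x q
    have h1 : hS₀.fromSpec q ∈ S.basicOpen x ↔ q ∈ hS₀.fromSpec ⁻¹ᵁ S.basicOpen x := Iff.rfl
    rw [h1, hS₀.fromSpec_preimage_basicOpen x]
    exact Iff.rfl
  refine ⟨S.basicOpen g, S.presheaf.map (homOfLE (S.basicOpen_le g)).op t, hS₀.basicOpen g,
    (hbo g p).2 hgp, ?_⟩
  intro s' hs'
  obtain ⟨q, rfl⟩ := hr s' (S.basicOpen_le g hs')
  rw [Scheme.basicOpen_res]
  have hgq : g ∉ q.asIdeal := (hbo g q).1 hs'
  constructor
  · rintro ⟨-, h2⟩ e
    have : q = p := hinj e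
    rw [this] at h2
    exact (hbo t p).1 h2 htp
  · intro h2
    refine ⟨hs', (hbo t q).2 ?_⟩
    intro htq
    exact h2 (by rw [hq q htq hgq])

end Groth.Agent.Lib.Helper11.QfAff
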