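import Mathlib
import Groth.Agent.Lib.Helper11QfAffC

set_option autoImplicit false
universe u

open CategoryTheory Limits AlgebraicGeometry TopologicalSpace Opposite

namespace Groth.Agent.Lib.Helper11.CurveAmple

/-- ring level: in a Noetherian ring without chains of primes of length two, a finite set `D` of
non-minimal primes is cut out, in a principal open neighbourhood `D(g)`, by a single element `t`
which lies in no minimal prime. -/
theorem exists_cut_finset {R : Type*} [CommRing R] [IsNoetherianRing R]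
    (hR : ∀ p₀ p₁ p₂ : PrimeSpectrum R, p₀ < p₁ → p₁ < p₂ → False)
    (D : Finset (PrimeSpectrum R)) (hD : ∀ p ∈ D, ∃ p₀ : PrimeSpectrum R, p₀ < p) :
    ∃ t g : R, (∀ p ∈ D, t ∈ p.asIdeal ∧ g ∉ p.asIdeal) ∧
      (∀ q : PrimeSpectrum R, t ∈ q.asIdeal → g ∉ q.asIdeal → q ∈ D) ∧
      ∀ 𝔓 ∈ minimalPrimes R, t ∉ 𝔓 := by
  classical
  have hfin : (minimalPrimes R).Finite := minimalPrimes.finite_of_isNoetherianRing R
  set 𝔞 : Ideal R := D.inf (fun p => p.asIdeal) with h𝔞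
  have h𝔞le : ∀ p ∈ D, 𝔞 ≤ p.asIdeal := fun p hp => Finset.inf_le hp
  -- prime avoidance
  have h1 : ¬ ((𝔞 : Set R) ⊆ ⋃ i ∈ (↑hfin.toFinset : Set (Ideal R)), (i : Set R)) := by
    intro hsub
    have hpr : ∀ i ∈ hfin.toFinset, i ≠ (⊥ : Ideal R) → i ≠ (⊥ : Ideal R) → (id i : Ideal R).IsPrime := by
      intro i hi _ _
      exact ((hfin.mem_toFinset).1 hi).1.1
    obtain ⟨q, hq, hpq⟩ := (Ideal.subset_union_prime (f := id) (⊥ : Ideal R) ⊥ hpr).1 hsub
    have hqmin : q ∈ minimalPrimes R := (hfin.mem_toFinset).1 hq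
    obtain ⟨p, hpD, hple⟩ := (Ideal.IsPrime.inf_le' hqmin.1.1).1 hpq
    obtain ⟨p₀, hp₀⟩ := hD p hpD
    have h2 : p₀.asIdeal ≤ q := le_trans (PrimeSpectrum.asIdeal_le_asIdeal _ _ |>.2 hp₀.le) hple
    have h3 : q ≤ p₀.asIdeal := hqmin.2 ⟨p₀.2, bot_le⟩ h2
    have h4 : p.asIdeal ≤ p₀.asIdeal := le_trans hple h3
    exact hp₀.not_ge ((PrimeSpectrum.asIdeal_le_asIdeal _ _).1 h4)
  rw [Set.not_subset] at h1
  obtain ⟨t, ht𝔞, htn⟩ := h1
  have htmin : ∀ q ∈ minimalPrimes R, t ∉ q := by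
    intro q hq htq
    apply htn
    simp only [Set.mem_iUnion]
    exact ⟨q, by simpa using hq, htq⟩
  -- every prime containing `t` has a strictly smaller prime
  have hlow : ∀ q : PrimeSpectrum R, t ∈ q.asIdeal → ∃ q₀ : PrimeSpectrum R, q₀ < q := by
    intro q hq
    obtain ⟨q₀, hq₀, hle⟩ := Ideal.exists_minimalPrimes_le (I := ⊥) (J := q.asIdeal) bot_le
    refine ⟨⟨q₀, hq₀.1.1⟩, lt_of_le_of_ne ((PrimeSpectrum.asIdeal_le_asIdeal _ _).1 hle) ?_⟩
    intro h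
    apply htmin q₀ hq₀
    have : q₀ = q.asIdeal := congrArg PrimeSpectrum.asIdeal h
    rw [this]; exact hq
  -- the set of primes containing `t` is finite
  have hVfin : {q : PrimeSpectrum R | t ∈ q.asIdeal}.Finite := by
    have h5 := Ideal.finite_minimalPrimes_of_isNoetherianRing R (Ideal.span {t})
    refine Set.Finite.of_finite_image (f := PrimeSpectrum.asIdeal) (h5.subset ?_) ?_
    · rintro _ ⟨q, hq, rfl⟩
      refine ⟨⟨q.2, (Ideal.span_singleton_le_iff_mem _).2 hq⟩, ?_⟩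
      rintro q' ⟨hq'1, hq'2⟩ hq'q
      by_contra hne
      have htq' : t ∈ q' := (Ideal.span_singleton_le_iff_mem _).1 hq'2
      obtain ⟨q₀, hq₀⟩ := hlow ⟨q', hq'1⟩ htq'
      have hlt : (⟨q', hq'1⟩ : PrimeSpectrum R) < q := by
        refine lt_of_le_of_ne ((PrimeSpectrum.asIdeal_le_asIdeal _ _).1 hq'q) ?_
        intro h
        apply hne
        have : q' = q.asIdeal := congrArg PrimeSpectrum.asIdeal h
        rw [this]
      exact hR _ _ _ hq₀ hlt
    · intro a _ b _ hab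
      exact PrimeSpectrum.ext hab
  -- choose elements separating the other primes from `D`
  have hsep : ∀ q : PrimeSpectrum R, t ∈ q.asIdeal → q ∉ D →
      ∃ gq : R, gq ∈ q.asIdeal ∧ ∀ p ∈ D, gq ∉ p.asIdeal := by
    intro q hq hqD
    have h2 : ¬ ((q.asIdeal : Set R) ⊆ ⋃ i ∈ (↑(D.image PrimeSpectrum.asIdeal) : Set (Ideal R)), (i : Set R)) := by
      intro hsub
      have hpr : ∀ i ∈ D.image PrimeSpectrum.asIdeal, i ≠ (⊥ : Ideal R) → i ≠ (⊥ : Ideal R) →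
          (id i : Ideal R).IsPrime := by
        intro i hi _ _
        obtain ⟨p, -, rfl⟩ := Finset.mem_image.1 hi
        exact p.2
      obtain ⟨i, hi, hqi⟩ := (Ideal.subset_union_prime (f := id) (⊥ : Ideal R) ⊥ hpr).1 hsub
      obtain ⟨p, hpD, rfl⟩ := Finset.mem_image.1 hi
      have hle : q ≤ p := (PrimeSpectrum.asIdeal_le_asIdeal _ _).1 hqi
      have hne : q ≠ p := fun h => hqD (h ▸ hpD)
      obtain ⟨q₀, hq₀⟩ := hlow q hq
      exact hR _ _ _ hq₀ (lt_of_le_of_ne hle hne)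
    rw [Set.not_subset] at h2
    obtain ⟨gq, hgq, hgn⟩ := h2
    refine ⟨gq, hgq, fun p hp hmem => hgn ?_⟩
    simp only [Set.mem_iUnion]
    exact ⟨p.asIdeal, by simpa using ⟨p, hp, rfl⟩, hmem⟩
  choose! gq hgq1 hgq2 using hsep
  refine ⟨t, ∏ q ∈ hVfin.toFinset.filter (fun q => q ∉ D), gq q, ?_, ?_, htmin⟩
  · intro p hp
    refine ⟨h𝔞le p hp ht𝔞, ?_⟩
    intro hmem
    have hpp : p.asIdeal.IsPrime := p.2
    rw [Ideal.IsPrime.prod_mem_iff] at hmem
    obtain ⟨q, hq, hgq⟩ := hmem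
    rw [Finset.mem_filter, Set.Finite.mem_toFinset] at hq
    exact hgq2 q hq.1 hq.2 p hp hgq
  · intro q hq hg
    by_contra hne
    apply hg
    have hmem : q ∈ hVfin.toFinset.filter (fun q => q ∉ D) := by
      rw [Finset.mem_filter, Set.Finite.mem_toFinset]
      exact ⟨hq, hne⟩
    exact Ideal.mem_of_dvd _ (Finset.dvd_prod_of_mem gq hmem) (hgq1 q hq hne)

open Groth.Agent.Lib.Helper11.QfAff in
/-- scheme level: a finite set `D` of non-generic points of a locally Noetherian scheme of dimension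
`≤ 1`, contained in an affine open `V₁`, is cut out inside a principal open `D(g) ⊆ V₁` by one
function `t`, which lies in no minimal prime. -/
theorem exists_affine_cut_finset {X : Scheme.{u}} [IsLocallyNoetherian X]
    (hdim : topologicalKrullDim X ≤ 1) {V₁ : X.Opens} (hV₁ : IsAffineOpen V₁) (D : Finset X)
    (hDV : ∀ s ∈ D, s ∈ V₁) (hD : ∀ s ∈ D, ∃ s₀ : X, s₀ ⤳ s ∧ s₀ ≠ s) :
    ∃ t g : Γ(X, V₁), (∀ s ∈ D, s ∈ X.basicOpen g) ∧
      (∀ s' ∈ X.basicOpen g, s' ∈ X.basicOpen t ↔ s' ∉ D) ∧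
      ∀ 𝔓 ∈ minimalPrimes Γ(X, V₁), t ∉ 𝔓 := by
  classical
  have hnoeth : IsNoetherianRing Γ(X, V₁) := IsLocallyNoetherian.component_noetherian ⟨V₁, hV₁⟩
  have hemb := hV₁.fromSpec.isOpenEmbedding
  have hinj : Function.Injective hV₁.fromSpec := hemb.injective
  have hr : ∀ w : X, w ∈ V₁ → ∃ q : PrimeSpectrum Γ(X, V₁), hV₁.fromSpec q = w := by
    intro w hw
    have : w ∈ Set.range hV₁.fromSpec := by rw [hV₁.range_fromSpec]; exact hw
    exact this
  have hsp : ∀ a b : PrimeSpectrum Γ(X, V₁), a ≤ b → hV₁.fromSpec a ⤳ hV₁.fromSpec b := by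
    intro a b hab
    exact ((PrimeSpectrum.le_iff_specializes a b).1 hab).map hV₁.fromSpec.continuous
  have hR : ∀ p₀ p₁ p₂ : PrimeSpectrum Γ(X, V₁), p₀ < p₁ → p₁ < p₂ → False := by
    intro a b c hab hbc
    exact no_chain hdim (hsp a b hab.le) (hsp b c hbc.le) (fun e => hab.ne (hinj e))
      (fun e => hbc.ne (hinj e))
  let DR : Finset (PrimeSpectrum Γ(X, V₁)) := D.preimage hV₁.fromSpec hinj.injOn
  have hDR : ∀ q, q ∈ DR ↔ hV₁.fromSpec q ∈ D := fun q => Finset.mem_preimage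
  have hDR' : ∀ p ∈ DR, ∃ p₀ : PrimeSpectrum Γ(X, V₁), p₀ < p := by
    intro p hp
    obtain ⟨s₀, hs₀, hne⟩ := hD _ ((hDR p).1 hp)
    have hs₀V : s₀ ∈ V₁ := hs₀.mem_open V₁.2 (hDV _ ((hDR p).1 hp))
    obtain ⟨p₀, rfl⟩ := hr s₀ hs₀V
    refine ⟨p₀, lt_of_le_of_ne ?_ (fun e => hne (by rw [e]))⟩
    rw [PrimeSpectrum.le_iff_specializes]
    exact hemb.isInducing.specializes_iff.1 hs₀
  obtain ⟨t, g, h1, h2, h3⟩ := exists_cut_finset hR DR hDR'
  have hbo : ∀ (x : Γ(X, V₁)) (q : PrimeSpectrum Γ(X, V₁)),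
      hV₁.fromSpec q ∈ X.basicOpen x ↔ x ∉ q.asIdeal := by
    intro x q
    have h1 : hV₁.fromSpec q ∈ X.basicOpen x ↔ q ∈ hV₁.fromSpec ⁻¹ᵁ X.basicOpen x := Iff.rfl
    rw [h1, hV₁.fromSpec_preimage_basicOpen x]
    exact Iff.rfl
  refine ⟨t, g, ?_, ?_, h3⟩
  · intro s hs
    obtain ⟨p, rfl⟩ := hr s (hDV s hs)
    exact (hbo g p).2 (h1 p ((hDR p).2 hs)).2
  · intro s' hs'
    obtain ⟨q, rfl⟩ := hr s' (X.basicOpen_le g hs')
    have hgq : g ∉ q.asIdeal := (hbo g q).1 hs'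
    rw [hbo t q]
    constructor
    · intro htq hqD
      exact htq (h1 q ((hDR q).2 hqD)).1
    · intro hqD htq
      exact hqD ((hDR q).1 (h2 q htq hgq))

end Groth.Agent.Lib.Helper11.CurveAmple
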