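import Mathlib
import Groth.Prelude
import Groth.Agent.Lib.Helper23FinPic
set_option backward.isDefEq.respectTransparency.types false

/-!
# Descent of invertible modules along a morphism via a virtual frame (helper23)

Namespace `Groth.Agent.Lib.Helper23.ClPic`.

* `exists_glue_units` : units on pairwise disjoint opens glue
* `exists_pullback_iso_of_virtual_frame` : the abstract cocycle construction
-/

set_option autoImplicit false
universe u
open CategoryTheory Limits AlgebraicGeometry TopologicalSpace Opposite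

namespace Groth.Agent.Lib.Helper23.ClPic
open Groth.Agent.Lib.Helper23.SecTw Groth.Agent.Lib.Helper6 Groth.Agent.Lib.Helper23.PB
  Groth.Agent.Helper13PullbackUnit Groth.Agent.Lib.Helper23.GenLocus Groth.Agent.Lib.Helper23.Extend
  Groth.Agent.Lib.Helper23.GenNear Groth.Agent.Lib.Helper23.FinPic

section glue
variable {X : Scheme.{u}}

/-- restriction of units -/
noncomputable def resu {U V : X.Opens} (h : V ≤ U) : (Γ(X, U))ˣ →* (Γ(X, V))ˣ :=
  Units.map (X.presheaf.map (homOfLE h).op).hom.toMonoidHom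

@[simp] theorem coe_resu {U V : X.Opens} (h : V ≤ U) (t : (Γ(X, U))ˣ) :
    ((resu h t : (Γ(X, V))ˣ) : Γ(X, V)) = resf h (t : Γ(X, U)) := rfl

theorem resu_resu {U V W : X.Opens} (h₁ : V ≤ U) (h₂ : W ≤ V) (t : (Γ(X, U))ˣ) :
    resu h₂ (resu h₁ t) = resu (h₂.trans h₁) t := by
  apply Units.ext
  rw [coe_resu, coe_resu, coe_resu, resf_resf]

theorem exists_glue {J : Type*} (W : J → X.Opens) (T : X.Opens) (hWT : ∀ η, W η ≤ T)
    (hcov : T ≤ iSup W) (hdisj : ∀ η η', η ≠ η' → W η ⊓ W η' = ⊥) (u : ∀ η, Γ(X, W η)) :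
    ∃ t : Γ(X, T), ∀ η, resf (hWT η) t = u η := by
  have hcompat : TopCat.Presheaf.IsCompatible X.presheaf W u := by
    intro η η'
    by_cases h : η = η'
    · subst h
      rfl
    · haveI : Subsingleton Γ(X, W η ⊓ W η') := by
        rw [hdisj η η' h]
        infer_instance
      exact Subsingleton.elim _ _
  obtain ⟨t, ht, -⟩ := X.sheaf.existsUnique_gluing' W T (fun η => homOfLE (hWT η)) hcov u hcompat
  exact ⟨t, ht⟩

theorem exists_glue_units {J : Type*} (W : J → X.Opens) (T : X.Opens) (hWT : ∀ η, W η ≤ T)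
    (hcov : T ≤ iSup W) (hdisj : ∀ η η', η ≠ η' → W η ⊓ W η' = ⊥) (u : ∀ η, (Γ(X, W η))ˣ) :
    ∃ t : (Γ(X, T))ˣ, ∀ η, resu (hWT η) t = u η := by
  obtain ⟨t, ht⟩ := exists_glue W T hWT hcov hdisj (fun η => ((u η : (Γ(X, W η))ˣ) : Γ(X, W η)))
  obtain ⟨t', ht'⟩ := exists_glue W T hWT hcov hdisj (fun η => (((u η)⁻¹ : (Γ(X, W η))ˣ) : Γ(X, W η)))
  have h1 : t * t' = 1 := by
    refine X.sheaf.eq_of_locally_eq' W T (fun η => homOfLE (hWT η)) hcov _ _ (fun η => ?_)
    change resf (hWT η) (t * t') = resf (hWT η) 1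
    rw [resf_mul, ht, ht', Units.mul_inv]
    exact (map_one _).symm
  refine ⟨⟨t, t', h1, by rw [mul_comm]; exact h1⟩, fun η => ?_⟩
  apply Units.ext
  rw [coe_resu]
  exact ht η

end glue

section descent
variable {Z X : Scheme.{u}} (f : Z ⟶ X)

/-- **abstract cocycle construction**: if `L` has frames `m x` over neighbourhoods `f⁻¹ (U x)` of all points, and
every `m x` differs from a virtual frame `n` on an open `⨆ W η` containing all pairwise intersections by the pullback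
of a unit `τ x` on the base, then `L` is a pullback. -/
theorem exists_pullback_iso_of_virtual_frame (L : Z.Modules) {J : Type*} (W : J → X.Opens)
    (n : ∀ η, Γ(L, f ⁻¹ᵁ W η))
    (h : ∀ x : X, ∃ (U : X.Opens) (m : Γ(L, f ⁻¹ᵁ U)) (τ : (Γ(X, U ⊓ iSup W))ˣ), x ∈ U ∧ IsAffineOpen U ∧
      (∀ w ∈ U, w ≠ x → w ∈ iSup W) ∧ IsGen L (f ⁻¹ᵁ U) m ∧
      ∀ η, res L (f.preimage_mono (inf_le_left : U ⊓ W η ≤ U)) m =
        f.app (U ⊓ W η) (resf (inf_le_inf_left U (le_iSup W η)) (τ : Γ(X, U ⊓ iSup W))) •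
          res L (f.preimage_mono (inf_le_right : U ⊓ W η ≤ W η)) (n η)) :
    ∃ N : X.Modules, PicF.IsInvertible N ∧ Nonempty ((Scheme.Modules.pullback f).obj N ≅ L) := by
  classical
  choose U m τ hxU hUaff hU₀ hm hτ using h
  have hle : ∀ x y, x ≠ y → U x ⊓ U y ≤ iSup W := by
    intro x y hxy w hw
    by_cases hwx : w = x
    · exact hU₀ y w hw.2 (fun h => hxy (hwx.symm.trans h))
    · exact hU₀ x w hw.1 hwx
  -- the cocycle
  let c : ∀ x y, (Γ(X, U x ⊓ U y))ˣ := fun x y =>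
    if hxy : x = y then 1 else
      resu (le_inf inf_le_left (hle x y hxy)) (τ x) * (resu (le_inf inf_le_right (hle x y hxy)) (τ y))⁻¹
  have hc1 : ∀ x, c x x = 1 := fun x => dif_pos rfl
  have hc2 : ∀ x y (hxy : x ≠ y), c x y =
      resu (le_inf inf_le_left (hle x y hxy)) (τ x) * (resu (le_inf inf_le_right (hle x y hxy)) (τ y))⁻¹ :=
    fun x y hxy => dif_neg hxy
  have key : ∀ x y (T : X.Opens) (h1 : T ≤ U x ⊓ U y) (h2 : T ≤ iSup W),
      resu h1 (c x y) = resu (le_inf (h1.trans inf_le_left) h2) (τ x) *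
        (resu (le_inf (h1.trans inf_le_right) h2) (τ y))⁻¹ := by
    intro x y T h1 h2
    by_cases hxy : x = y
    · subst hxy
      rw [hc1, map_one, mul_inv_cancel]
    · rw [hc2 x y hxy, map_mul, map_inv, resu_resu, resu_resu]
  have hcoc : ∀ x y z, resu (inf_le_inf_right (U z) inf_le_left : U x ⊓ U y ⊓ U z ≤ U x ⊓ U z) (c x z) =
      resu (inf_le_left : U x ⊓ U y ⊓ U z ≤ U x ⊓ U y) (c x y) *
        resu (inf_le_inf_right (U z) inf_le_right : U x ⊓ U y ⊓ U z ≤ U y ⊓ U z) (c y z) := by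
    intro x y z
    have key2 : U x ⊓ U y ⊓ U z ≤ iSup W →
        resu (inf_le_inf_right (U z) inf_le_left : U x ⊓ U y ⊓ U z ≤ U x ⊓ U z) (c x z) =
        resu (inf_le_left : U x ⊓ U y ⊓ U z ≤ U x ⊓ U y) (c x y) *
          resu (inf_le_inf_right (U z) inf_le_right : U x ⊓ U y ⊓ U z ≤ U y ⊓ U z) (c y z) := by
      intro hT
      rw [key x z _ _ hT, key x y _ _ hT, key y z _ _ hT]
      rw [mul_assoc, inv_mul_cancel_left]
    by_cases hxy : x = y
    · by_cases hyz : y = z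
      · subst hxy
        subst hyz
        simp only [hc1, map_one, mul_one]
      · exact key2 ((inf_le_inf_right (U z) inf_le_right).trans (hle y z hyz))
    · exact key2 (inf_le_left.trans (hle x y hxy))
  have hUtop : iSup U = ⊤ := by
    rw [eq_top_iff]
    intro x _
    exact Opens.mem_iSup.2 ⟨x, hxU x⟩
  obtain ⟨N, s, hNinv, hs, hst⟩ := Groth.Agent.S10963.result X U hUtop c (by
    intro x y z
    have := congrArg (fun t : (Γ(X, U x ⊓ U y ⊓ U z))ˣ => (t : Γ(X, U x ⊓ U y ⊓ U z))) (hcoc x y z)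
    exact this)
  haveI : N.IsQuasicoherent := isQuasicoherent_of_isInvertible N hNinv
  have hsgen : ∀ x, IsGen N (U x) (s x) := hs
  have hcovP : ∀ z : Z, ∃ x, z ∈ f ⁻¹ᵁ U x := fun z => ⟨f z, hxU (f z)⟩
  -- the transition relation for the frames of `L`
  have htrans : ∀ x y, res L (f.preimage_mono (inf_le_left : U x ⊓ U y ≤ U x)) (m x) =
      f.app (U x ⊓ U y) ((c x y : (Γ(X, U x ⊓ U y))ˣ) : Γ(X, U x ⊓ U y)) •
        res L (f.preimage_mono (inf_le_right : U x ⊓ U y ≤ U y)) (m y) := by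
    intro x y
    by_cases hxy : x = y
    · subst hxy
      rw [hc1, Units.val_one, map_one, one_smul]
    · refine (modSheaf L).eq_of_locally_eq' (fun η => f ⁻¹ᵁ (U x ⊓ U y ⊓ W η)) (f ⁻¹ᵁ (U x ⊓ U y))
        (fun η => homOfLE (f.preimage_mono inf_le_left)) ?_ _ _ (fun η => ?_)
      · intro z hz
        have h1 : f z ∈ iSup W := hle x y hxy hz
        obtain ⟨η, hη⟩ := Opens.mem_iSup.1 h1
        exact Opens.mem_iSup.2 ⟨η, hz, hη⟩
      · change res L (f.preimage_mono (inf_le_left : U x ⊓ U y ⊓ W η ≤ U x ⊓ U y)) _ =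
          res L (f.preimage_mono (inf_le_left : U x ⊓ U y ⊓ W η ≤ U x ⊓ U y)) _
        have hP : U x ⊓ U y ⊓ W η ≤ iSup W := inf_le_right.trans (le_iSup W η)
        have hx' : U x ⊓ U y ⊓ W η ≤ U x ⊓ W η := le_inf (inf_le_left.trans inf_le_left) inf_le_right
        have hy' : U x ⊓ U y ⊓ W η ≤ U y ⊓ W η := le_inf (inf_le_left.trans inf_le_right) inf_le_right
        have e1 := congrArg (res L (f.preimage_mono hx')) (hτ x η)
        have e2 := congrArg (res L (f.preimage_mono hy')) (hτ y η)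
        rw [res_res, res_smul, res_res, ← app_resf₀ f hx', resf_resf] at e1
        rw [res_res, res_smul, res_res, ← app_resf₀ f hy', resf_resf] at e2
        rw [res_res, res_smul, res_res, ← app_resf₀ f (inf_le_left : U x ⊓ U y ⊓ W η ≤ U x ⊓ U y), e1, e2,
          ← mul_smul, ← map_mul]
        congr 2
        have e3 := congrArg (fun t : (Γ(X, U x ⊓ U y ⊓ W η))ˣ => (t : Γ(X, U x ⊓ U y ⊓ W η)))
          (key x y (U x ⊓ U y ⊓ W η) inf_le_left hP)
        simp only [coe_resu, Units.val_mul] at e3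
        rw [e3, mul_assoc]
        have e4 : ((resu (le_inf ((inf_le_left : U x ⊓ U y ⊓ W η ≤ U x ⊓ U y).trans inf_le_right) hP)
            (τ y))⁻¹ : (Γ(X, U x ⊓ U y ⊓ W η))ˣ).val *
            resf (le_inf ((inf_le_left : U x ⊓ U y ⊓ W η ≤ U x ⊓ U y).trans inf_le_right) hP)
              ((τ y : (Γ(X, U y ⊓ iSup W))ˣ) : Γ(X, U y ⊓ iSup W)) = 1 := by
          rw [← coe_resu, Units.inv_mul]
        rw [e4, mul_one]
  obtain ⟨Φ, -⟩ := exists_iso_of_frames L ((Scheme.Modules.pullback f).obj N)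
    (fun x => f ⁻¹ᵁ U x) hcovP (fun x => m x) (fun x => unitSec f N le_rfl (s x))
    (fun x => hm x) (fun x => isGen_unitSec f N (hUaff x) (s x) (hsgen x))
    (fun x y => by
      refine cocycle_of_transition (hm y)
        (f.app (U x ⊓ U y) ((c x y : (Γ(X, U x ⊓ U y))ˣ) : Γ(X, U x ⊓ U y)) : Γ(Z, f ⁻¹ᵁ (U x ⊓ U y))) ?_ ?_
      · exact htrans x y
      · have h2 := res_unitSec_of_transition f N (s x) (s y) (c x y) (hst x y)
        have h5 : f.appLE (U x ⊓ U y) (f ⁻¹ᵁ U x ⊓ f ⁻¹ᵁ U y) (preimage_inf_le f (U x) (U y)) =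
            f.app (U x ⊓ U y) := Scheme.Hom.appLE_eq_app f
        rw [h5] at h2
        exact h2)
  exact ⟨N, hNinv, ⟨Φ.symm⟩⟩

end descent

end Groth.Agent.Lib.Helper23.ClPic
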