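import Mathlib
import Groth.Prelude
import Groth.Agent.Lib.Helper23FamPic
set_option backward.isDefEq.respectTransparency.types false

/-!
# Descent of a family of invertible modules: core version, and modules from virtual units (helper23)

Namespace `Groth.Agent.Lib.Helper23.FamPic`.

* `exists_pullback_iso_family_of_frames` : the core of `exists_pullback_iso_family`, with the existence of framed
  neighbourhoods as a hypothesis (no finiteness assumptions)
* `exists_module_of_virtual_units` : an invertible module with frames `s x` on `O x` and transitions `τ x / τ y`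
-/

set_option autoImplicit false
universe u
open CategoryTheory Limits AlgebraicGeometry TopologicalSpace Opposite

namespace Groth.Agent.Lib.Helper23.FamPic
open Groth.Agent.Lib.Helper23.SecTw Groth.Agent.Lib.Helper6 Groth.Agent.Lib.Helper23.PB
  Groth.Agent.Helper13PullbackUnit Groth.Agent.Lib.Helper23.GenLocus Groth.Agent.Lib.Helper23.Extend
  Groth.Agent.Lib.Helper23.GenNear Groth.Agent.Lib.Helper23.FinPic Groth.Agent.Lib.Helper23.ClPic

section core
variable {X : Scheme.{u}} {ι : Type*} (Z : ι → Scheme.{u}) (f : ∀ i, Z i ⟶ X)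

/-- **descent of a family of invertible modules, core version** -/
theorem exists_pullback_iso_family_of_frames (V : X.Opens)
    (hbij : ∀ W : X.Opens, W ≤ V →
      Function.Bijective (fun (a : Γ(X, W)) (i : ι) => ((f i).app W a : Γ(Z i, f i ⁻¹ᵁ W))))
    (L : ∀ i, (Z i).Modules)
    (h0 : ∀ y : X, ∃ (U : X.Opens) (e : ∀ i, Γ(L i, f i ⁻¹ᵁ U)), y ∈ U ∧ (∀ w ∈ U, w ∉ V → w = y) ∧
      IsAffineOpen U ∧ ∀ i, IsGen (L i) (f i ⁻¹ᵁ U) (e i)) :
    ∃ N : X.Modules, PicF.IsInvertible N ∧ ∀ i, Nonempty ((Scheme.Modules.pullback (f i)).obj N ≅ L i) := by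
  classical
  choose U m hyU hUV hUaff hm using h0
  have hle : ∀ y z, y ≠ z → U y ⊓ U z ≤ V := by
    intro y z hyz w hw
    by_contra hwV
    exact hyz ((hUV y w hw.1 hwV).symm.trans (hUV z w hw.2 hwV))
  -- transition units
  obtain ⟨h, hh⟩ : ∃ h : ∀ i y z, Γ(Z i, f i ⁻¹ᵁ (U y ⊓ U z)), ∀ i y z,
      res (L i) ((f i).preimage_mono (inf_le_left : U y ⊓ U z ≤ U y)) (m y i) =
        h i y z • res (L i) ((f i).preimage_mono (inf_le_right : U y ⊓ U z ≤ U z)) (m z i) :=
    ⟨fun i y z => coef (hm z i) ((f i).preimage_mono inf_le_right)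
        (res (L i) ((f i).preimage_mono inf_le_left) (m y i)),
      fun i y z => (coef_spec (hm z i) _ _).symm⟩
  have hhu : ∀ i y z, IsUnit (h i y z) := by
    intro i y z
    have h1 := (hm y i).mono ((f i).preimage_mono (inf_le_left : U y ⊓ U z ≤ U y))
    have h2 := (hm z i).mono ((f i).preimage_mono (inf_le_right : U y ⊓ U z ≤ U z))
    rw [hh i y z] at h1
    exact (isGen_smul_iff h2 (h i y z)).1 h1
  have hhc : ∀ i x y z,
      resf ((f i).preimage_mono (inf_le_inf_right (U z) inf_le_left : U x ⊓ U y ⊓ U z ≤ U x ⊓ U z)) (h i x z) =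
        resf ((f i).preimage_mono (inf_le_left : U x ⊓ U y ⊓ U z ≤ U x ⊓ U y)) (h i x y) *
          resf ((f i).preimage_mono (inf_le_inf_right (U z) inf_le_right : U x ⊓ U y ⊓ U z ≤ U y ⊓ U z))
            (h i y z) := by
    intro i x y z
    have hk := (hm z i) (f i ⁻¹ᵁ (U x ⊓ U y ⊓ U z)) ((f i).preimage_mono inf_le_right)
    apply hk.1
    change resf _ (h i x z) • res (L i) _ (m z i) = (resf _ (h i x y) * resf _ (h i y z)) • res (L i) _ (m z i)
    have e1 := congrArg (res (L i) ((f i).preimage_mono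
      (inf_le_inf_right (U z) inf_le_left : U x ⊓ U y ⊓ U z ≤ U x ⊓ U z))) (hh i x z)
    have e2 := congrArg (res (L i) ((f i).preimage_mono (inf_le_left : U x ⊓ U y ⊓ U z ≤ U x ⊓ U y))) (hh i x y)
    have e3 := congrArg (res (L i) ((f i).preimage_mono
      (inf_le_inf_right (U z) inf_le_right : U x ⊓ U y ⊓ U z ≤ U y ⊓ U z))) (hh i y z)
    rw [res_smul, res_res, res_res] at e1 e2 e3
    rw [mul_smul, ← e3, ← e2, ← e1]
  have hh1 : ∀ i y, h i y y = 1 := by
    intro i y
    have hk := (hm y i) (f i ⁻¹ᵁ (U y ⊓ U y)) ((f i).preimage_mono inf_le_right)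
    apply hk.1
    change h i y y • res (L i) _ (m y i) = (1 : Γ(Z i, f i ⁻¹ᵁ (U y ⊓ U y))) • res (L i) _ (m y i)
    rw [one_smul]
    exact (hh i y y).symm
  -- descend the transition units
  have h4 : ∀ y z, y ≠ z → ∃ a : Γ(X, U y ⊓ U z), ∀ i, (f i).app (U y ⊓ U z) a = h i y z := fun y z hyz => by
    obtain ⟨a, ha⟩ := (hbij (U y ⊓ U z) (hle y z hyz)).2 (fun i => h i y z)
    exact ⟨a, fun i => congrFun ha i⟩
  let c : ∀ y z, Γ(X, U y ⊓ U z) := fun y z => if hyz : y = z then 1 else Classical.choose (h4 y z hyz)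
  have hc : ∀ i y z, (f i).app (U y ⊓ U z) (c y z) = h i y z := by
    intro i y z
    by_cases hyz : y = z
    · subst hyz
      have : c y y = 1 := dif_pos rfl
      rw [this, map_one, hh1]
    · have : c y z = Classical.choose (h4 y z hyz) := dif_neg hyz
      rw [this]
      exact Classical.choose_spec (h4 y z hyz) i
  have hcu : ∀ y z, IsUnit (c y z) := by
    intro y z
    by_cases hyz : y = z
    · subst hyz
      have : c y y = 1 := dif_pos rfl
      rw [this]
      exact isUnit_one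
    · have hb := hbij (U y ⊓ U z) (hle y z hyz)
      have hb' : ∀ i, ∃ b : Γ(Z i, f i ⁻¹ᵁ (U y ⊓ U z)), h i y z * b = 1 := fun i => (hhu i y z).exists_right_inv
      choose b hb' using hb'
      obtain ⟨d, hd⟩ := hb.2 b
      refine IsUnit.of_mul_eq_one d (hb.1 ?_)
      funext i
      change (f i).app (U y ⊓ U z) (c y z * d) = (f i).app (U y ⊓ U z) 1
      have hdi : (f i).app (U y ⊓ U z) d = b i := congrFun hd i
      rw [map_mul, map_one, hc, hdi, hb']
  let η : ∀ y z, (Γ(X, U y ⊓ U z))ˣ := fun y z => (hcu y z).unit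
  have hηc : ∀ y z, ((η y z : (Γ(X, U y ⊓ U z))ˣ) : Γ(X, U y ⊓ U z)) = c y z := fun y z =>
    IsUnit.unit_spec _
  have hUtop : iSup U = ⊤ := by
    rw [eq_top_iff]
    intro x _
    exact Opens.mem_iSup.2 ⟨x, hyU x⟩
  have hcoc : ∀ x y z,
      resf (inf_le_inf_right (U z) inf_le_left : U x ⊓ U y ⊓ U z ≤ U x ⊓ U z) (c x z) =
        resf (inf_le_left : U x ⊓ U y ⊓ U z ≤ U x ⊓ U y) (c x y) *
          resf (inf_le_inf_right (U z) inf_le_right : U x ⊓ U y ⊓ U z ≤ U y ⊓ U z) (c y z) := by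
    intro x y z
    have key : U x ⊓ U y ⊓ U z ≤ V →
        resf (inf_le_inf_right (U z) inf_le_left : U x ⊓ U y ⊓ U z ≤ U x ⊓ U z) (c x z) =
        resf (inf_le_left : U x ⊓ U y ⊓ U z ≤ U x ⊓ U y) (c x y) *
          resf (inf_le_inf_right (U z) inf_le_right : U x ⊓ U y ⊓ U z ≤ U y ⊓ U z) (c y z) := by
      intro hT
      apply (hbij _ hT).1
      funext i
      change (f i).app _ (resf _ (c x z)) = (f i).app _ (resf _ (c x y) * resf _ (c y z))
      rw [map_mul, app_resf₀, app_resf₀, app_resf₀, hc, hc, hc]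
      exact hhc i x y z
    by_cases hxy : x = y
    · by_cases hyz : y = z
      · subst hxy
        subst hyz
        have : c x x = 1 := dif_pos rfl
        rw [this]
        simp [resf]
      · exact key ((inf_le_inf_right (U z) inf_le_right).trans (hle y z hyz))
    · exact key (inf_le_left.trans (hle x y hxy))
  obtain ⟨N, s, hNinv, hs, hst⟩ := Groth.Agent.S10963.result X U hUtop η (by
    intro x y z
    rw [hηc, hηc, hηc]
    exact hcoc x y z)
  haveI : N.IsQuasicoherent := isQuasicoherent_of_isInvertible N hNinv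
  have hsgen : ∀ y, IsGen N (U y) (s y) := hs
  refine ⟨N, hNinv, fun i => ?_⟩
  have hcovP : ∀ x : Z i, ∃ y, x ∈ f i ⁻¹ᵁ U y := fun x => ⟨f i x, hyU (f i x)⟩
  obtain ⟨Φ, -⟩ := exists_iso_of_frames (L i) ((Scheme.Modules.pullback (f i)).obj N)
    (fun y => f i ⁻¹ᵁ U y) hcovP (fun y => m y i) (fun y => unitSec (f i) N le_rfl (s y))
    (fun y => hm y i) (fun y => isGen_unitSec (f i) N (hUaff y) (s y) (hsgen y))
    (fun y z => by
      refine cocycle_of_transition (hm z i) (h i y z : Γ(Z i, f i ⁻¹ᵁ (U y ⊓ U z))) ?_ ?_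
      · exact hh i y z
      · have h2 := res_unitSec_of_transition (f i) N (s y) (s z) (η y z) (hst y z)
        have h3 : (f i).appLE (U y ⊓ U z) (f i ⁻¹ᵁ U y ⊓ f i ⁻¹ᵁ U z) (preimage_inf_le (f i) (U y) (U z))
            ((η y z : (Γ(X, U y ⊓ U z))ˣ) : Γ(X, U y ⊓ U z)) = h i y z := by
          have h5 : (f i).appLE (U y ⊓ U z) (f i ⁻¹ᵁ U y ⊓ f i ⁻¹ᵁ U z) (preimage_inf_le (f i) (U y) (U z)) =
              (f i).app (U y ⊓ U z) := Scheme.Hom.appLE_eq_app (f i)
          rw [h5, hηc]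
          exact hc i y z
        rw [h3] at h2
        exact h2)
  exact ⟨Φ.symm⟩

end core

section virtual
variable {X : Scheme.{u}}

/-- an invertible module with prescribed transition functions `τ x / τ y` -/
theorem exists_module_of_virtual_units (U₀ : X.Opens) (O : X → X.Opens) (hxO : ∀ x, x ∈ O x)
    (hle : ∀ x y, x ≠ y → O x ⊓ O y ≤ U₀) (τ : ∀ x, (Γ(X, O x ⊓ U₀))ˣ) :
    ∃ (N : X.Modules) (s : ∀ x, Γ(N, O x)), PicF.IsInvertible N ∧ (∀ x, IsGen N (O x) (s x)) ∧
      ∀ x y (T : X.Opens) (h1 : T ≤ O x ⊓ O y) (h2 : T ≤ U₀),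
        res N (h1.trans inf_le_left) (s x) =
          ((resu (le_inf (h1.trans inf_le_left) h2) (τ x) *
            (resu (le_inf (h1.trans inf_le_right) h2) (τ y))⁻¹ : (Γ(X, T))ˣ) : Γ(X, T)) •
              res N (h1.trans inf_le_right) (s y) := by
  classical
  let c : ∀ x y, (Γ(X, O x ⊓ O y))ˣ := fun x y =>
    if hxy : x = y then 1 else
      resu (le_inf inf_le_left (hle x y hxy)) (τ x) * (resu (le_inf inf_le_right (hle x y hxy)) (τ y))⁻¹
  have hc1 : ∀ x, c x x = 1 := fun x => dif_pos rfl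
  have hc2 : ∀ x y (hxy : x ≠ y), c x y =
      resu (le_inf inf_le_left (hle x y hxy)) (τ x) * (resu (le_inf inf_le_right (hle x y hxy)) (τ y))⁻¹ :=
    fun x y hxy => dif_neg hxy
  have key : ∀ x y (T : X.Opens) (h1 : T ≤ O x ⊓ O y) (h2 : T ≤ U₀),
      resu h1 (c x y) = resu (le_inf (h1.trans inf_le_left) h2) (τ x) *
        (resu (le_inf (h1.trans inf_le_right) h2) (τ y))⁻¹ := by
    intro x y T h1 h2
    by_cases hxy : x = y
    · subst hxy
      rw [hc1, map_one, mul_inv_cancel]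
    · rw [hc2 x y hxy, map_mul, map_inv, resu_resu, resu_resu]
  have hcoc : ∀ x y z, resu (inf_le_inf_right (O z) inf_le_left : O x ⊓ O y ⊓ O z ≤ O x ⊓ O z) (c x z) =
      resu (inf_le_left : O x ⊓ O y ⊓ O z ≤ O x ⊓ O y) (c x y) *
        resu (inf_le_inf_right (O z) inf_le_right : O x ⊓ O y ⊓ O z ≤ O y ⊓ O z) (c y z) := by
    intro x y z
    have key2 : O x ⊓ O y ⊓ O z ≤ U₀ →
        resu (inf_le_inf_right (O z) inf_le_left : O x ⊓ O y ⊓ O z ≤ O x ⊓ O z) (c x z) =
        resu (inf_le_left : O x ⊓ O y ⊓ O z ≤ O x ⊓ O y) (c x y) *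
          resu (inf_le_inf_right (O z) inf_le_right : O x ⊓ O y ⊓ O z ≤ O y ⊓ O z) (c y z) := by
      intro hT
      rw [key x z _ _ hT, key x y _ _ hT, key y z _ _ hT]
      rw [mul_assoc, inv_mul_cancel_left]
    by_cases hxy : x = y
    · by_cases hyz : y = z
      · subst hxy
        subst hyz
        simp only [hc1, map_one, mul_one]
      · exact key2 ((inf_le_inf_right (O z) inf_le_right).trans (hle y z hyz))
    · exact key2 (inf_le_left.trans (hle x y hxy))
  have hOtop : iSup O = ⊤ := by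
    rw [eq_top_iff]
    intro x _
    exact Opens.mem_iSup.2 ⟨x, hxO x⟩
  obtain ⟨N, s, hNinv, hs, hst⟩ := Groth.Agent.S10963.result X O hOtop c (by
    intro x y z
    have := congrArg (fun t : (Γ(X, O x ⊓ O y ⊓ O z))ˣ => (t : Γ(X, O x ⊓ O y ⊓ O z))) (hcoc x y z)
    exact this)
  refine ⟨N, s, hNinv, hs, fun x y T h1 h2 => ?_⟩
  have e1 := congrArg (res N h1) (hst x y)
  rw [res_res, res_smul, res_res] at e1
  rw [e1, ← key x y T h1 h2]
  rfl

end virtual

end Groth.Agent.Lib.Helper23.FamPic
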