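import Mathlib
import Groth.Prelude
import Groth.Agent.Lib.Helper23FamPic3
import Groth.Agent.Lib.Helper23SecTw7
set_option backward.isDefEq.respectTransparency.types false

set_option autoImplicit false
universe u
open CategoryTheory Limits AlgebraicGeometry TopologicalSpace Opposite

namespace Groth.Agent.Lib.Helper11.CurveAmple
open Groth.Agent.Lib.Helper23.SecTw Groth.Agent.Lib.Helper6 Groth.Agent.Lib.Helper23.PB
  Groth.Agent.Helper13PullbackUnit Groth.Agent.Lib.Helper23.GenLocus Groth.Agent.Lib.Helper23.Extend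
  Groth.Agent.Lib.Helper23.GenNear Groth.Agent.Lib.Helper23.FinPic Groth.Agent.Lib.Helper23.ClPic
  Groth.Agent.Lib.Helper23.TensorUnit Groth.Agent.Lib.Helper23.AmpleIso

variable {X : Scheme.{u}}

/-- an invertible module with prescribed transition functions `τ i / τ j`, for a cover indexed by
an arbitrary type (copy of helper23's `exists_module_of_virtual_units`) -/
theorem exists_module_of_virtual_units' {ι : Type u} (U₀ : X.Opens) (O : ι → X.Opens)
    (hcov : iSup O = ⊤)
    (hle : ∀ x y, x ≠ y → O x ⊓ O y ≤ U₀) (τ : ∀ x, (Γ(X, O x ⊓ U₀))ˣ) :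
    ∃ (N : X.Modules) (s : ∀ x, Γ(N, O x)), PicF.IsInvertible N ∧ (∀ x, IsGen N (O x) (s x)) ∧
      ∀ x y (T : X.Opens) (h1 : T ≤ O x ⊓ O y) (h2 : T ≤ U₀),
        res N (h1.trans inf_le_left) (s x) =
          ((resu (le_inf (h1.trans inf_le_left) h2) (τ x) *
            (resu (le_inf (h1.trans inf_le_right) h2) (τ y))⁻¹ : (Γ(X, T))ˣ) : Γ(X, T)) •
              res N (h1.trans inf_le_right) (s y) := by
  classical
  let c : ∀ x y, (Γ(X, O x ⊓ O y))ˣ := fun x y =>
    if hxy : x = y then 1 else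
      resu (le_inf inf_le_left (hle x y hxy)) (τ x) * (resu (le_inf inf_le_right (hle x y hxy)) (τ y))⁻¹
  have hc1 : ∀ x, c x x = 1 := fun x => dif_pos rfl
  have hc2 : ∀ x y (hxy : x ≠ y), c x y =
      resu (le_inf inf_le_left (hle x y hxy)) (τ x) * (resu (le_inf inf_le_right (hle x y hxy)) (τ y))⁻¹ :=
    fun x y hxy => dif_neg hxy
  have key : ∀ x y (T : X.Opens) (h1 : T ≤ O x ⊓ O y) (h2 : T ≤ U₀),
      resu h1 (c x y) = resu (le_inf (h1.trans inf_le_left) h2) (τ x) *
        (resu (le_inf (h1.trans inf_le_right) h2) (τ y))⁻¹ := by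
    intro x y T h1 h2
    by_cases hxy : x = y
    · subst hxy
      rw [hc1, map_one, mul_inv_cancel]
    · rw [hc2 x y hxy, map_mul, map_inv, resu_resu, resu_resu]
  have hcoc : ∀ x y z, resu (inf_le_inf_right (O z) inf_le_left : O x ⊓ O y ⊓ O z ≤ O x ⊓ O z) (c x z) =
      resu (inf_le_left : O x ⊓ O y ⊓ O z ≤ O x ⊓ O y) (c x y) *
        resu (inf_le_inf_right (O z) inf_le_right : O x ⊓ O y ⊓ O z ≤ O y ⊓ O z) (c y z) := by
    intro x y z
    have key2 : O x ⊓ O y ⊓ O z ≤ U₀ →
        resu (inf_le_inf_right (O z) inf_le_left : O x ⊓ O y ⊓ O z ≤ O x ⊓ O z) (c x z) =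
        resu (inf_le_left : O x ⊓ O y ⊓ O z ≤ O x ⊓ O y) (c x y) *
          resu (inf_le_inf_right (O z) inf_le_right : O x ⊓ O y ⊓ O z ≤ O y ⊓ O z) (c y z) := by
      intro hT
      rw [key x z _ _ hT, key x y _ _ hT, key y z _ _ hT]
      rw [mul_assoc, inv_mul_cancel_left]
    by_cases hxy : x = y
    · by_cases hyz : y = z
      · subst hxy
        subst hyz
        simp only [hc1, map_one, mul_one]
      · exact key2 ((inf_le_inf_right (O z) inf_le_right).trans (hle y z hyz))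
    · exact key2 (inf_le_left.trans (hle x y hxy))
  obtain ⟨N, s, hNinv, hs, hst⟩ := Groth.Agent.S10963.result X O hcov c (by
    intro x y z
    have := congrArg (fun t : (Γ(X, O x ⊓ O y ⊓ O z))ˣ => (t : Γ(X, O x ⊓ O y ⊓ O z))) (hcoc x y z)
    exact this)
  refine ⟨N, s, hNinv, hs, fun x y T h1 h2 => ?_⟩
  have e1 := congrArg (res N h1) (hst x y)
  rw [res_res, res_smul, res_res] at e1
  rw [e1, ← key x y T h1 h2]
  rfl

/-- ampleness from sections of `L` itself -/
theorem isAmple_of_sections [CompactSpace X] (L : X.Modules) (hL : PicF.IsInvertible L)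
    (h : ∀ x : X, ∃ s : Coh.structureModule X ⟶ L, x ∈ CohB1.genLocus L s ∧
      IsAffineOpen (CohB1.genLocus L s)) : CohB1.IsAmple L := by
  refine ⟨hL, inferInstance, fun x => ?_⟩
  obtain ⟨s, hxs, haff⟩ := h x
  have e : L ≅ CohB1.tensorPow L (0 + 1) := (unitTensorIso L).symm
  refine ⟨0, s ≫ e.hom, ?_, ?_⟩
  · rw [genLocus_comp_iso]; exact hxs
  · rw [genLocus_comp_iso]; exact haff

end Groth.Agent.Lib.Helper11.CurveAmple
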