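import Mathlib

set_option autoImplicit false
set_option linter.style.haveILetI false
universe u
open CategoryTheory AlgebraicGeometry TopologicalSpace Opposite Limits

/-!
# Points of dimension at most one in separated integral schemes (helper11)

Algebraic preliminaries for Stacks 09NZ: the subrings of the function field given by the local
rings at two distinct points of dimension `≤ 1` of a separated integral scheme generate the
function field.
-/

namespace Groth.Agent.Lib.Helper11.DimOne

section algebra

variable {K : Type*} [Field K]

/-- a nonzero prime of an overring of `A` inside `Frac A` contracts to a nonzero prime of `A` -/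
theorem comap_ne_bot_of_le (A C : Subring K) [IsFractionRing A K] (h : A ≤ C)
    (p : Ideal C) (hp : p ≠ ⊥) : p.comap (Subring.inclusion h) ≠ ⊥ := by
  obtain ⟨c, hc, hc0⟩ := Submodule.exists_mem_ne_zero_of_ne_bot hp
  obtain ⟨a, b, hb, hab⟩ := IsFractionRing.div_surjective A (c : K)
  have hb0 : (b : K) ≠ 0 := by
    intro h0
    have : b = 0 := Subtype.ext h0
    exact nonZeroDivisors.ne_zero hb this
  have hab' : (a : K) = (c : K) * (b : K) := by
    have : algebraMap A K a / algebraMap A K b = c := hab
    change (a : K) / (b : K) = c at this
    rw [← this, div_mul_cancel₀ _ hb0]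
  have hmem : Subring.inclusion h a ∈ p := by
    have : Subring.inclusion h a = c * Subring.inclusion h b := Subtype.ext hab'
    rw [this]
    exact p.mul_mem_right _ hc
  intro hbot
  have : a ∈ (⊥ : Ideal A) := by rw [← hbot]; exact hmem
  have ha0 : a = 0 := by simpa using this
  apply hc0
  apply Subtype.ext
  have h2 : (c : K) * (b : K) = 0 := by rw [← hab', ha0]; rfl
  rcases mul_eq_zero.1 h2 with h3 | h3
  · exact h3
  · exact absurd h3 hb0

/-- an overring of `A` inside `Frac A` which is a field is everything -/
theorem eq_top_of_isField (A C : Subring K) [IsFractionRing A K] (h : A ≤ C) (hC : IsField C) :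
    C = ⊤ := by
  rw [eq_top_iff]
  rintro z -
  obtain ⟨a, b, hb, rfl⟩ := IsFractionRing.div_surjective A z
  have hb0 : (b : K) ≠ 0 := by
    intro h0
    exact nonZeroDivisors.ne_zero hb (Subtype.ext h0)
  have hbC : (⟨b, h b.2⟩ : C) ≠ 0 := by
    intro h0
    exact hb0 (congrArg Subtype.val h0)
  obtain ⟨d, hd⟩ := hC.mul_inv_cancel hbC
  have hd' : (b : K) * (d : K) = 1 := congrArg Subtype.val hd
  have : algebraMap A K a / algebraMap A K b = (a : K) * (d : K) := by
    change (a : K) / (b : K) = _
    rw [div_eq_iff hb0, mul_assoc, mul_comm (d : K), hd', mul_one]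
  rw [this]
  exact C.mul_mem (h a.2) d.2

/-- in a local domain of dimension at most one every nonzero prime is the maximal ideal -/
theorem eq_maximalIdeal_of_ne_bot {R : Type*} [CommRing R] [IsDomain R] [IsLocalRing R]
    (hdim : ringKrullDim R ≤ 1) (q : Ideal R) [q.IsPrime] (hq : q ≠ ⊥) :
    q = IsLocalRing.maximalIdeal R := by
  have h1 : Ring.KrullDimLE 1 R := Ring.krullDimLE_iff.2 (by exact_mod_cast hdim)
  rcases Ring.krullDimLE_one_iff.1 h1 q inferInstance with h | h
  · exfalso
    rw [IsDomain.minimalPrimes_eq_singleton_bot] at h
    exact hq h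
  · exact IsLocalRing.eq_maximalIdeal h

end algebra

section scheme

variable {X : Scheme.{u}} [IsIntegral X]

/-- the local ring at `x` as a subring of the function field -/
noncomputable def stalkSubring (x : X) : Subring X.functionField :=
  (algebraMap (X.presheaf.stalk x) X.functionField).range

/-- the local ring at `x` is isomorphic to its image in the function field -/
noncomputable def stalkEquiv (x : X) : X.presheaf.stalk x ≃+* stalkSubring x :=
  RingEquiv.ofBijective (algebraMap (X.presheaf.stalk x) X.functionField).rangeRestrict
    ⟨by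
      intro a b h
      apply IsFractionRing.injective (X.presheaf.stalk x) X.functionField
      exact congrArg Subtype.val h,
     RingHom.rangeRestrict_surjective _⟩

theorem coe_stalkEquiv (x : X) (a : X.presheaf.stalk x) :
    ((stalkEquiv x a : stalkSubring x) : X.functionField) =
      algebraMap (X.presheaf.stalk x) X.functionField a := rfl

instance (x : X) : IsFractionRing (stalkSubring x) X.functionField := by
  refine (IsFractionRing.of_field (stalkSubring x) X.functionField ?_)
  intro z
  obtain ⟨a, b, hb, rfl⟩ := IsFractionRing.div_surjective (X.presheaf.stalk x) z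
  exact ⟨stalkEquiv x a, stalkEquiv x b, rfl⟩

/-- the canonical morphism from the spectrum of a subring of the function field containing the
local ring at `x` -/
noncomputable def toX (x : X) (C : Subring X.functionField) (h : stalkSubring x ≤ C) :
    Spec (CommRingCat.of C) ⟶ X :=
  Spec.map (CommRingCat.ofHom ((Subring.inclusion h).comp (stalkEquiv x).toRingHom)) ≫
    X.fromSpecStalk x

theorem SpecMap_subtype_toX (x : X) (C : Subring X.functionField) (h : stalkSubring x ≤ C) :
    Spec.map (CommRingCat.ofHom C.subtype) ≫ toX x C h =
      Spec.map (CommRingCat.ofHom (RingHom.id X.functionField)) ≫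
        X.fromSpecStalk (genericPoint X) := by
  have hsp : genericPoint X ⤳ x := (genericPoint_spec X).specializes trivial
  rw [← Scheme.SpecMap_stalkSpecializes_fromSpecStalk hsp]
  unfold toX
  rw [← Spec.map_comp_assoc, ← Spec.map_comp_assoc]
  congr 2

theorem toX_apply_of_ne_bot (x : X) (hx : ringKrullDim (X.presheaf.stalk x) ≤ 1)
    (C : Subring X.functionField) (h : stalkSubring x ≤ C)
    (p : PrimeSpectrum C) (hp : p.asIdeal ≠ ⊥) : toX x C h p = x := by
  unfold toX
  rw [Scheme.Hom.comp_apply]
  have hq : (Spec.map (CommRingCat.ofHom ((Subring.inclusion h).comp (stalkEquiv x).toRingHom))) p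
      = IsLocalRing.closedPoint (X.presheaf.stalk x) := by
    apply PrimeSpectrum.ext
    change (p.asIdeal.comap ((Subring.inclusion h).comp (stalkEquiv x).toRingHom)) =
      IsLocalRing.maximalIdeal _
    haveI : (p.asIdeal.comap ((Subring.inclusion h).comp (stalkEquiv x).toRingHom)).IsPrime :=
      Ideal.comap_isPrime _ _
    apply eq_maximalIdeal_of_ne_bot hx
    intro hbot
    apply comap_ne_bot_of_le (stalkSubring x) C h p.asIdeal hp
    rw [eq_bot_iff]
    intro a ha
    obtain ⟨a', rfl⟩ := (stalkEquiv x).surjective a
    have : a' ∈ (p.asIdeal.comap ((Subring.inclusion h).comp (stalkEquiv x).toRingHom)) := ha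
    rw [hbot] at this
    have ha0 : a' = 0 := by simpa using this
    rw [ha0, map_zero]
    exact Ideal.zero_mem _
  rw [hq]
  exact Scheme.fromSpecStalk_closedPoint

/-- **Key consequence of separatedness.** The local rings at two distinct points of dimension at
most one generate the function field. -/
theorem stalkSubring_sup_eq_top [X.IsSeparated] (x y : X) (hxy : x ≠ y)
    (hx : ringKrullDim (X.presheaf.stalk x) ≤ 1) (hy : ringKrullDim (X.presheaf.stalk y) ≤ 1) :
    stalkSubring x ⊔ stalkSubring y = ⊤ := by
  set C := stalkSubring x ⊔ stalkSubring y with hC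
  by_contra hne
  have hnf : ¬ IsField C := fun hf => hne (eq_top_of_isField (stalkSubring x) C le_sup_left hf)
  obtain ⟨p, hp0, hp⟩ := Ring.not_isField_iff_exists_prime.1 hnf
  have heq : toX x C le_sup_left = toX y C le_sup_right := by
    haveI : IsDominant (Spec.map (CommRingCat.ofHom C.subtype)) := by
      constructor
      change DenseRange (PrimeSpectrum.comap C.subtype)
      rw [PrimeSpectrum.denseRange_comap_iff_ker_le_nilRadical]
      intro a ha
      have : a = 0 := Subtype.ext ha
      rw [this]
      exact Ideal.zero_mem _
    refine ext_of_isDominant (Spec.map (CommRingCat.ofHom C.subtype)) ?_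
    rw [SpecMap_subtype_toX, SpecMap_subtype_toX]
  have h1 := toX_apply_of_ne_bot x hx C le_sup_left ⟨p, hp⟩ hp0
  have h2 := toX_apply_of_ne_bot y hy C le_sup_right ⟨p, hp⟩ hp0
  rw [heq] at h1
  exact hxy (h1.symm.trans h2)

end scheme

end Groth.Agent.Lib.Helper11.DimOne
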