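import Mathlib

/-!
# Krull–Akizuki (birational case), elementary proof

`isNoetherianRing_subalgebra`: if `R` is a noetherian domain such that `R ⧸ (a)` is artinian for
every `a ≠ 0` (e.g. `ringKrullDim R ≤ 1`), then every ring between `R` and `Frac R` is noetherian.
-/

namespace Groth.Agent.Lib.Helper4.KrullAkizuki


section stab

variable {R : Type*} [CommRing R]

/-- In a ring where `R ⧸ (a)` is artinian, antitone chains of ideals containing `a` stabilise. -/
lemma antitone_stabilizes_of_mem {a : R} [IsArtinian R (R ⧸ Ideal.span {a})] (f : ℕ → Ideal R)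
    (hf : Antitone f) (ha : ∀ n, a ∈ f n) : ∃ N, ∀ n, N ≤ n → f n = f N := by
  let q : R →ₗ[R] (R ⧸ Ideal.span {a}) := Submodule.mkQ (Ideal.span {a})
  let g : ℕ →o (Submodule R (R ⧸ Ideal.span {a}))ᵒᵈ :=
    ⟨fun n => OrderDual.toDual (Submodule.map q (f n)), fun m n h =>
      OrderDual.toDual_le_toDual.mpr (Submodule.map_mono (hf h))⟩
  obtain ⟨N, hN⟩ := IsArtinian.monotone_stabilizes g
  refine ⟨N, fun n hn => ?_⟩
  have h1 := hN n hn
  have h2 : ∀ n, Submodule.comap q (Submodule.map q (f n)) = f n := by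
    intro n
    rw [Submodule.comap_map_mkQ]
    exact sup_eq_right.mpr ((Ideal.span_singleton_le_iff_mem _).mpr (ha n))
  have h3 : Submodule.map q (f N) = Submodule.map q (f n) :=
    congrArg OrderDual.ofDual h1
  rw [← h2 n, ← h2 N, h3]

end stab

section core

variable {R : Type*} [CommRing R]
variable {K : Type*} [Field K] [Algebra R K]

/-- The ideal of `r : R` with `r ∈ a ^ n • S`. -/
def J (S : Subalgebra R K) (a : R) (n : ℕ) : Ideal R where
  carrier := {r | ∃ s ∈ S, algebraMap R K r = algebraMap R K a ^ n * s}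
  add_mem' := by
    rintro x y ⟨s, hs, h1⟩ ⟨t, ht, h2⟩
    exact ⟨s + t, S.add_mem hs ht, by rw [map_add, h1, h2, mul_add]⟩
  zero_mem' := ⟨0, S.zero_mem, by simp⟩
  smul_mem' := by
    rintro c x ⟨s, hs, h1⟩
    refine ⟨c • s, S.smul_mem hs c, ?_⟩
    rw [smul_eq_mul, map_mul, h1, Algebra.smul_def]; ring

lemma J_antitone (S : Subalgebra R K) (a : R) : Antitone (J S a) := by
  intro m n h r ⟨s, hs, h1⟩
  obtain ⟨k, rfl⟩ := Nat.exists_eq_add_of_le h
  refine ⟨algebraMap R K a ^ k * s, S.mul_mem (S.pow_mem (S.algebraMap_mem a) k) hs, ?_⟩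
  rw [h1, pow_add]; ring

variable [IsDomain R] [IsFractionRing R K]

theorem claimA (hR : ∀ a : R, a ≠ 0 → IsArtinian R (R ⧸ Ideal.span {a}))
    (S : Subalgebra R K) {a : R} (ha : a ≠ 0) (c : K) (hc : c ∈ S) :
    ∃ n : ℕ, ∃ s ∈ S, ∃ r : R,
      c = algebraMap R K a * s + algebraMap R K r / algebraMap R K a ^ n := by
  obtain ⟨p, q, hq, rfl⟩ := IsFractionRing.div_surjective (A := R) c
  have hq0 : q ≠ 0 := nonZeroDivisors.ne_zero hq
  have := hR q hq0
  obtain ⟨N, hN⟩ := antitone_stabilizes_of_mem (a := q)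
    (fun n => Ideal.span {a ^ n} ⊔ Ideal.span {q})
    (fun m n h => sup_le_sup_right (by
      rw [Ideal.span_singleton_le_span_singleton]
      exact pow_dvd_pow a h) _)
    (fun n => Ideal.mem_sup_right (Ideal.mem_span_singleton_self q))
  have h1 : a ^ N ∈ Ideal.span {a ^ (N + 1)} ⊔ Ideal.span {q} := by
    rw [hN (N + 1) (Nat.le_succ N)]
    exact Ideal.mem_sup_left (Ideal.mem_span_singleton_self _)
  obtain ⟨u, b, hb, hub⟩ := Ideal.mem_span_singleton_sup.mp h1
  obtain ⟨v, rfl⟩ := Ideal.mem_span_singleton'.mp hb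
  refine ⟨N, u • (algebraMap R K p / algebraMap R K q), S.smul_mem hc u, v * p, ?_⟩
  have hα : algebraMap R K a ≠ 0 := by
    simpa using (IsFractionRing.injective R K).ne ha
  have hq' : algebraMap R K q ≠ 0 := by
    simpa using (IsFractionRing.injective R K).ne hq0
  have h2 := congrArg (algebraMap R K) hub
  simp only [map_add, map_mul, map_pow] at h2
  rw [Algebra.smul_def, map_mul]
  field_simp
  rw [pow_succ] at h2
  linear_combination (-(algebraMap R K p)) * h2

/-- Uniform version: there is `N` such that every element of `S` is in `a S + a^{-N} R`. -/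
theorem exists_uniform (hR : ∀ a : R, a ≠ 0 → IsArtinian R (R ⧸ Ideal.span {a}))
    (S : Subalgebra R K) {a : R} (ha : a ≠ 0) :
    ∃ N : ℕ, ∀ c ∈ S, ∃ s ∈ S, ∃ r : R,
      c = algebraMap R K a * s + algebraMap R K r / algebraMap R K a ^ N := by
  have := hR a ha
  have hα : algebraMap R K a ≠ 0 := by
    simpa using (IsFractionRing.injective R K).ne ha
  obtain ⟨N, hN⟩ := antitone_stabilizes_of_mem (a := a)
    (fun n => J S a n ⊔ Ideal.span {a})
    (fun m n h => sup_le_sup_right (J_antitone S a h) _)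
    (fun n => Ideal.mem_sup_right (Ideal.mem_span_singleton_self a))
  refine ⟨N, ?_⟩
  -- Claim B
  have claimB : ∀ n, N ≤ n → ∀ c ∈ S, ∀ r : R, c = algebraMap R K r / algebraMap R K a ^ (n + 1) →
      ∃ s ∈ S, ∃ r' : R, c = algebraMap R K a * s + algebraMap R K r' / algebraMap R K a ^ n := by
    intro n hn c hc r hr
    have h1 : r ∈ J S a (n + 1) ⊔ Ideal.span {a} :=
      Ideal.mem_sup_left ⟨c, hc, by rw [hr]; field_simp⟩
    rw [hN (n + 1) (by omega), ← hN (n + 2) (by omega)] at h1
    obtain ⟨j, ⟨s', hs', hj⟩, b, hb, hjb⟩ := Submodule.mem_sup.mp h1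
    obtain ⟨t, rfl⟩ := Ideal.mem_span_singleton'.mp hb
    refine ⟨s', hs', t, ?_⟩
    have h2 := congrArg (algebraMap R K) hjb
    rw [map_add, hj, map_mul] at h2
    rw [hr, ← h2]
    field_simp
    ring
  -- Claim C by induction on the excess
  have claimC : ∀ k : ℕ, ∀ c ∈ S, ∀ s ∈ S, ∀ r : R,
      c = algebraMap R K a * s + algebraMap R K r / algebraMap R K a ^ (N + k) →
      ∃ s ∈ S, ∃ r : R, c = algebraMap R K a * s + algebraMap R K r / algebraMap R K a ^ N := by
    intro k
    induction k with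
    | zero => intro c _ s hs r hr; exact ⟨s, hs, r, hr⟩
    | succ k ih =>
      intro c hc s hs r hr
      have hc1 : algebraMap R K r / algebraMap R K a ^ (N + k + 1) ∈ S := by
        have : algebraMap R K r / algebraMap R K a ^ (N + k + 1) = c - algebraMap R K a * s := by
          rw [hr]; ring
        rw [this]
        exact S.sub_mem hc (S.mul_mem (S.algebraMap_mem a) hs)
      obtain ⟨s₁, hs₁, r₁, h₁⟩ := claimB (N + k) (by omega) _ hc1 r rfl
      refine ih c hc (s + s₁) (S.add_mem hs hs₁) r₁ ?_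
      rw [hr, ← add_assoc, h₁]; ring
  intro c hc
  obtain ⟨n, s, hs, r, hr⟩ := claimA hR S ha c hc
  by_cases hnN : n ≤ N
  · obtain ⟨k, rfl⟩ := Nat.exists_eq_add_of_le hnN
    refine ⟨s, hs, r * a ^ k, ?_⟩
    rw [hr, map_mul, map_pow, pow_add]
    field_simp
  · obtain ⟨k, rfl⟩ := Nat.exists_eq_add_of_le (not_le.mp hnN).le
    exact claimC k c hc s hs r hr

end core


section main


variable {R : Type*} [CommRing R]
variable {K : Type*} [Field K] [Algebra R K]
variable [IsDomain R] [IsFractionRing R K]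

open Classical in
/-- **Krull–Akizuki**, birational case: if `R` is a noetherian domain all of whose quotients by
nonzero principal ideals are artinian, then every ring between `R` and its fraction field is
noetherian. -/
theorem isNoetherianRing_subalgebra [IsNoetherianRing R]
    (hR : ∀ a : R, a ≠ 0 → IsArtinian R (R ⧸ Ideal.span {a}))
    (S : Subalgebra R K) : IsNoetherianRing S := by
  rw [isNoetherianRing_iff_ideal_fg]
  intro I
  by_cases hI : I = ⊥
  · rw [hI]; exact Submodule.fg_bot
  obtain ⟨b, hbI, hb0⟩ := Submodule.exists_mem_ne_zero_of_ne_bot hI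
  obtain ⟨p, q, hq, hpq⟩ := IsFractionRing.div_surjective (A := R) (b : K)
  have hq0 : q ≠ 0 := nonZeroDivisors.ne_zero hq
  have hq' : algebraMap R K q ≠ 0 := by
    simpa using (IsFractionRing.injective R K).ne hq0
  have hp0 : p ≠ 0 := by
    rintro rfl
    apply hb0
    ext
    rw [← hpq]; simp
  have hα : algebraMap R K p ≠ 0 := by
    simpa using (IsFractionRing.injective R K).ne hp0
  have hpI : algebraMap R S p ∈ I := by
    have : algebraMap R S p = algebraMap R S q * b := by
      ext
      simp only [Subalgebra.coe_algebraMap, MulMemClass.coe_mul]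
      rw [← hpq]; field_simp
    rw [this]; exact I.mul_mem_left _ hbI
  obtain ⟨N, hN⟩ := exists_uniform hR S hp0
  -- the noetherian `R`-module `M₀`
  let M₀ : Submodule R S := Submodule.comap S.val.toLinearMap
    (Submodule.span R {(algebraMap R K p ^ N)⁻¹})
  have hM₀ : IsNoetherian R M₀ := by
    have h1 : IsNoetherian R (Submodule.span R {(algebraMap R K p ^ N)⁻¹}) :=
      isNoetherian_of_fg_of_noetherian _ (Submodule.fg_span_singleton _)
    let φ : M₀ →ₗ[R] (Submodule.span R {(algebraMap R K p ^ N)⁻¹}) :=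
      (S.val.toLinearMap.restrict (p := M₀) (q := Submodule.span R {(algebraMap R K p ^ N)⁻¹})
        (fun x hx => hx))
    refine isNoetherian_of_injective φ ?_
    intro x y hxy
    have := congrArg Subtype.val hxy
    exact Subtype.ext (Subtype.ext this)
  have hI' : ((I.restrictScalars R) ⊓ M₀).FG :=
    (isNoetherian_submodule.mp hM₀) _ inf_le_right
  obtain ⟨G, hG⟩ := hI'
  refine ⟨insert (algebraMap R S p) G, ?_⟩
  apply le_antisymm
  · rw [Ideal.span_le]
    intro x hx
    rcases Finset.mem_insert.mp hx with rfl | hx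
    · exact hpI
    · have : x ∈ (I.restrictScalars R) ⊓ M₀ := hG ▸ Submodule.subset_span hx
      exact this.1
  · intro c hc
    obtain ⟨s, hs, r, hr⟩ := hN c.1 c.2
    let m : S := c - algebraMap R S p * ⟨s, hs⟩
    have hmI : m ∈ I := I.sub_mem hc (I.mul_mem_right _ hpI)
    have hmval : (m : K) = algebraMap R K r / algebraMap R K p ^ N := by
      simp only [m, AddSubgroupClass.coe_sub, MulMemClass.coe_mul, Subalgebra.coe_algebraMap]
      rw [hr]; ring
    have hmM : m ∈ M₀ := by
      change (m : K) ∈ Submodule.span R {(algebraMap R K p ^ N)⁻¹}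
      rw [hmval, Submodule.mem_span_singleton]
      exact ⟨r, by rw [Algebra.smul_def, div_eq_mul_inv]⟩
    have hm : m ∈ Submodule.span R (G : Set S) := by
      rw [hG]; exact ⟨hmI, hmM⟩
    have hm' : m ∈ Ideal.span ((insert (algebraMap R S p) G : Finset S) : Set S) := by
      have h1 : Submodule.span R (G : Set S) ≤
          (Ideal.span ((insert (algebraMap R S p) G : Finset S) : Set S)).restrictScalars R := by
        rw [Submodule.span_le]
        intro x hx
        exact Ideal.subset_span (Finset.mem_insert_of_mem hx)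
      exact h1 hm
    have : c = algebraMap R S p * ⟨s, hs⟩ + m := by simp [m]
    rw [this]
    exact Submodule.add_mem _ (Ideal.mul_mem_right _ _
      (Ideal.subset_span (Finset.mem_insert_self _ _))) hm'


end main


lemma withBot_le_zero_of_add_one_le_one (x : WithBot ℕ∞) (h : x + 1 ≤ 1) : x ≤ 0 := by
  induction x using WithBot.recBotCoe with
  | bot => exact bot_le
  | coe n =>
    have h1 : ((n + 1 : ℕ∞) : WithBot ℕ∞) ≤ ((1 : ℕ∞) : WithBot ℕ∞) := h
    rw [WithBot.coe_le_coe] at h1
    have h2 : n ≤ 0 := by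
      have : n + 1 ≤ 0 + 1 := by simpa using h1
      exact (ENat.add_le_add_iff_right (by simp)).mp this
    exact_mod_cast h2

lemma isArtinian_quotient_of_ringKrullDim_le_one {A : Type*} [CommRing A] [IsDomain A]
    [IsNoetherianRing A] (h : ringKrullDim A ≤ 1) {a : A} (ha : a ≠ 0) :
    IsArtinian A (A ⧸ Ideal.span {a}) := by
  have h1 : ringKrullDim (A ⧸ Ideal.span {a}) + 1 ≤ 1 :=
    (ringKrullDim_quotient_succ_le_of_nonZeroDivisor (mem_nonZeroDivisors_of_ne_zero ha)).trans h
  have h2 : ringKrullDim (A ⧸ Ideal.span {a}) ≤ 0 := withBot_le_zero_of_add_one_le_one _ h1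
  have h3 : Ring.KrullDimLE 0 (A ⧸ Ideal.span {a}) := by
    rwa [Ring.krullDimLE_iff]
  have h4 : IsArtinianRing (A ⧸ Ideal.span {a}) :=
    isArtinianRing_iff_krullDimLE_zero.mpr h3
  exact isArtinian_of_surjective_algebraMap (R := A ⧸ Ideal.span {a}) Ideal.Quotient.mk_surjective


end Groth.Agent.Lib.Helper4.KrullAkizuki
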