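import Mathlib
import Groth.Agent.Lib.Helper4KrullAkizuki

/-!
# Existence of discrete valuation rings dominating noetherian local domains (Stacks 00PH)

* `exists_dvr_of_noetherian_subring`: a noetherian subring `B` of a field `L` with `Frac B = L` and
  `0 ≠ ξ ∈ B` a nonunit is contained in a DVR of `L` in which `ξ` is a nonunit.
* `exists_dvr_dominating`: a noetherian local domain `R` (not a field), `L` a finitely generated
  field extension of `Frac R`: there is a DVR of `L` dominating `R`.
-/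

namespace Groth.Agent.Lib.Helper4.DVRDom


open IsLocalRing

variable {L : Type*} [Field L]

/-- A valuation subring containing a noetherian subring of dimension `≤ 1` with fraction field `L`
is noetherian (Krull–Akizuki). -/
theorem isNoetherianRing_valuationSubring (A : Subring L) [IsNoetherianRing A] [IsFractionRing A L]
    (hA : ringKrullDim A ≤ 1) (V : ValuationSubring L) (hAV : A ≤ V.toSubring) :
    IsNoetherianRing V := by
  let S : Subalgebra A L :=
    { V.toSubring.toSubsemiring with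
      algebraMap_mem' := fun r => hAV r.2 }
  have hS : IsNoetherianRing S :=
    KrullAkizuki.isNoetherianRing_subalgebra
      (fun a ha => KrullAkizuki.isArtinian_quotient_of_ringKrullDim_le_one hA ha) S
  let e : S ≃+* V :=
    { toFun := fun x => ⟨x.1, x.2⟩
      invFun := fun x => ⟨x.1, x.2⟩
      left_inv := fun _ => rfl
      right_inv := fun _ => rfl
      map_mul' := fun _ _ => rfl
      map_add' := fun _ _ => rfl }
  exact isNoetherianRing_of_ringEquiv S e

/-- A noetherian valuation subring with a nonzero nonunit is a discrete valuation ring. -/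
theorem isDiscreteValuationRing_of_isNoetherianRing (V : ValuationSubring L) [IsNoetherianRing V]
    {x : L} (hx : x ∈ V.nonunits) (hx0 : x ≠ 0) : IsDiscreteValuationRing V := by
  have h1 : IsPrincipalIdealRing V := inferInstance
  refine { not_a_field' := ?_ }
  obtain ⟨hxV, hxm⟩ := V.mem_nonunits_iff_exists_mem_maximalIdeal.mp hx
  intro h
  rw [h] at hxm
  exact hx0 (congrArg Subtype.val ((Submodule.mem_bot _).mp hxm))

lemma le_toLocalSubring_iff (A : LocalSubring L) (V : ValuationSubring L) :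
    A ≤ V.toLocalSubring ↔ A.toSubring ≤ V.toSubring ∧
      ∀ a : A.toSubring, a ∈ maximalIdeal A.toSubring → (a : L) ∈ V.nonunits := by
  constructor
  · rintro ⟨h, hloc⟩
    refine ⟨h, fun a ha => ?_⟩
    rw [V.mem_nonunits_iff_exists_mem_maximalIdeal]
    refine ⟨h a.2, ?_⟩
    rw [mem_maximalIdeal, mem_nonunits_iff] at ha ⊢
    intro hu
    exact ha (hloc.map_nonunit a hu)
  · rintro ⟨h, hm⟩
    refine ⟨h, ⟨fun a ha => ?_⟩⟩
    by_contra hna
    have h1 := hm a ((mem_maximalIdeal a).mpr hna)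
    rw [V.mem_nonunits_iff_exists_mem_maximalIdeal] at h1
    obtain ⟨h2, h3⟩ := h1
    exact (mem_maximalIdeal _).mp h3 ha




lemma isFractionRing_of_closure_eq_top (B : Subring L)
    (h : Subfield.closure (B : Set L) = ⊤) : IsFractionRing B L := by
  have : FaithfulSMul B L := (faithfulSMul_iff_algebraMap_injective B L).mpr Subtype.val_injective
  refine IsFractionRing.of_field (R := B) (K := L) fun z => ?_
  have hz : z ∈ Subfield.closure (B : Set L) := h ▸ Subfield.mem_top z
  rw [Subfield.mem_closure_iff] at hz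
  obtain ⟨y, hy, w, hw, rfl⟩ := hz
  rw [Subring.closure_eq] at hy hw
  exact ⟨⟨y, hy⟩, ⟨w, hw⟩, rfl⟩

lemma isFractionRing_of_le (B A : Subring L) [IsFractionRing B L] (h : B ≤ A) :
    IsFractionRing A L := by
  have : FaithfulSMul A L := (faithfulSMul_iff_algebraMap_injective A L).mpr Subtype.val_injective
  refine IsFractionRing.of_field (R := A) (K := L) fun z => ?_
  obtain ⟨x, y, hy, rfl⟩ := IsFractionRing.div_surjective (A := B) z
  exact ⟨⟨x.1, h x.2⟩, ⟨y.1, h y.2⟩, rfl⟩

/-- A noetherian subring `B` of a field `L` with fraction field `L` and a nonzero element `ξ`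
generating a proper ideal is contained in a discrete valuation ring of `L` in which `ξ` is a
nonunit. -/
theorem exists_dvr_of_noetherian_subring (B : Subring L) [IsNoetherianRing B] [IsFractionRing B L]
    (ξ : B) (hξ0 : ξ ≠ 0) (hξ : Ideal.span {ξ} ≠ ⊤) :
    ∃ V : ValuationSubring L, IsDiscreteValuationRing V ∧ B ≤ V.toSubring ∧
      (ξ : L) ∈ V.nonunits := by
  obtain ⟨⟨q, hq⟩⟩ := Ideal.nonempty_minimalPrimes hξ
  have hqp : q.IsPrime := hq.isPrime
  have hξq : ξ ∈ q := hq.1.2 (Ideal.mem_span_singleton_self ξ)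
  have hht : q.height ≤ 1 := Ideal.height_le_one_of_isPrincipal_of_mem_minimalPrimes _ q hq
  let R' := LocalSubring.ofPrime B q
  have hBR' : B ≤ R'.toSubring := LocalSubring.le_ofPrime B q
  have hN : IsNoetherianRing R'.toSubring :=
    IsLocalization.isNoetherianRing q.primeCompl R'.toSubring inferInstance
  have hF : IsFractionRing R'.toSubring L := isFractionRing_of_le B _ hBR'
  have hdim : ringKrullDim R'.toSubring ≤ 1 := by
    rw [IsLocalization.AtPrime.ringKrullDim_eq_height q R'.toSubring]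
    exact_mod_cast hht
  obtain ⟨V, hV⟩ := R'.exists_le_valuationSubring
  rw [le_toLocalSubring_iff] at hV
  have hVN : IsNoetherianRing V := isNoetherianRing_valuationSubring R'.toSubring hdim V hV.1
  have hξV : (ξ : L) ∈ V.nonunits := by
    have h1 : algebraMap B R'.toSubring ξ ∈ maximalIdeal R'.toSubring :=
      (IsLocalization.AtPrime.to_map_mem_maximal_iff R'.toSubring q ξ).mpr hξq
    exact hV.2 _ h1
  refine ⟨V, isDiscreteValuationRing_of_isNoetherianRing V hξV ?_, hBR'.trans hV.1, hξV⟩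
  intro h
  exact hξ0 (Subtype.ext h)




lemma mul_mem_nonunits (V : ValuationSubring L) {b x : L} (hb : b ∈ V) (hx : x ∈ V.nonunits) :
    b * x ∈ V.nonunits := by
  rw [ValuationSubring.mem_nonunits_iff] at hx ⊢
  rw [map_mul]
  have h3 : V.valuation b ≤ 1 := (V.valuation_le_one_iff _).mpr hb
  calc V.valuation b * V.valuation x ≤ 1 * V.valuation x := mul_le_mul_left h3 _
    _ = V.valuation x := one_mul _
    _ < 1 := hx

open Classical in
/-- **Existence of dominating discrete valuation rings.**  Let `R` be a noetherian local domain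
which is not a field, and `L` a field extension of `Frac R`, generated as a field by (the image of)
`R` and a finite set `T`. Then there is a discrete valuation ring of `L` dominating `R`. -/
theorem exists_dvr_dominating {R : Type*} [CommRing R] [IsDomain R] [IsNoetherianRing R]
    [IsLocalRing R] (hR : ¬ IsField R) [Algebra R L] [FaithfulSMul R L] (T : Finset L)
    (hT : Subfield.closure (Set.range (algebraMap R L) ∪ ↑T) = ⊤) :
    ∃ V : ValuationSubring L, IsDiscreteValuationRing V ∧
      (∀ r : R, algebraMap R L r ∈ V) ∧ ∀ r ∈ maximalIdeal R, algebraMap R L r ∈ V.nonunits := by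
  have hinj : Function.Injective (algebraMap R L) := FaithfulSMul.algebraMap_injective R L
  obtain ⟨V₀, hV₀⟩ := (LocalSubring.range (algebraMap R L)).exists_le_valuationSubring
  rw [le_toLocalSubring_iff] at hV₀
  have hV₀mem : ∀ r : R, algebraMap R L r ∈ V₀ := fun r => hV₀.1 ⟨r, rfl⟩
  have hV₀m : ∀ r ∈ maximalIdeal R, algebraMap R L r ∈ V₀.nonunits := by
    intro r hr
    apply hV₀.2 ⟨algebraMap R L r, ⟨r, rfl⟩⟩
    rw [mem_maximalIdeal, mem_nonunits_iff]
    intro hu
    obtain ⟨⟨_, r', rfl⟩, hr'⟩ := isUnit_iff_exists_inv.mp hu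
    have h1 : algebraMap R L (r * r') = algebraMap R L 1 := by
      rw [map_mul, map_one]; exact congrArg Subtype.val hr'
    have h2 : r * r' = 1 := hinj h1
    exact (mem_maximalIdeal r).mp hr (IsUnit.of_mul_eq_one _ h2)
  obtain ⟨G, hG⟩ := (isNoetherianRing_iff_ideal_fg R).mp inferInstance (maximalIdeal R)
  have hm : maximalIdeal R ≠ ⊥ := fun h => hR (IsLocalRing.isField_iff_maximalIdeal_eq.mpr h)
  have hG' : (G.filter (· ≠ 0)).Nonempty := by
    by_contra hne
    rw [Finset.not_nonempty_iff_eq_empty, Finset.filter_eq_empty_iff] at hne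
    apply hm
    rw [← hG, Submodule.span_eq_bot]
    intro x hx
    exact not_not.mp (hne hx)
  obtain ⟨x, hxG, hxmax⟩ :=
    Finset.exists_max_image _ (fun g => V₀.valuation (algebraMap R L g)) hG'
  have hx0 : x ≠ 0 := (Finset.mem_filter.mp hxG).2
  have hxm : x ∈ maximalIdeal R := hG ▸ Submodule.subset_span (Finset.mem_filter.mp hxG).1
  set ξ := algebraMap R L x with hξdef
  have hξ0 : ξ ≠ 0 := by
    rw [hξdef, ← map_zero (algebraMap R L)]; exact hinj.ne hx0
  have hdiv : ∀ g ∈ G, algebraMap R L g / ξ ∈ V₀ := by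
    intro g hg
    by_cases hg0 : g = 0
    · simp [hg0, V₀.zero_mem]
    · rw [← V₀.valuation_le_one_iff, map_div₀]
      have hpos : 0 < V₀.valuation ξ := zero_lt_iff.mpr ((map_ne_zero _).mpr hξ0)
      rw [div_le_one₀ hpos]
      exact hxmax g (Finset.mem_filter.mpr ⟨hg, hg0⟩)
  let Γ : Set L := (fun g => algebraMap R L g / ξ) '' (G : Set R) ∪
    (fun t => if t ∈ V₀ then t else t⁻¹) '' (T : Set L)
  have hΓfin : Γ.Finite := (G.finite_toSet.image _).union (T.finite_toSet.image _)
  have hΓV : Γ ⊆ V₀ := by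
    rintro z (⟨g, hg, rfl⟩ | ⟨t, ht, rfl⟩)
    · exact hdiv g hg
    · by_cases htV : t ∈ V₀
      · simp only [htV, if_true]; exact htV
      · simp only [htV, if_false]; exact (V₀.mem_or_inv_mem t).resolve_left htV
  let B₀ : Subalgebra R L := Algebra.adjoin R Γ
  have hB₀fg : B₀.FG := ⟨hΓfin.toFinset, by simp [B₀]⟩
  have hft : Algebra.FiniteType R B₀ := (Subalgebra.fg_iff_finiteType B₀).mp hB₀fg
  have hB₀N : IsNoetherianRing B₀ := Algebra.FiniteType.isNoetherianRing R B₀
  let V₀alg : Subalgebra R L :=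
    { V₀.toSubring.toSubsemiring with algebraMap_mem' := hV₀mem }
  have hB₀V : B₀ ≤ V₀alg := Algebra.adjoin_le hΓV
  let B : Subring L := B₀.toSubring
  have hBN : IsNoetherianRing B := hB₀N
  have hcl : Subfield.closure (B : Set L) = ⊤ := by
    rw [eq_top_iff, ← hT, Subfield.closure_le]
    rintro z (⟨r, rfl⟩ | hz)
    · exact Subfield.subset_closure (B₀.algebraMap_mem r)
    · by_cases hzV : z ∈ V₀
      · apply Subfield.subset_closure
        exact Algebra.subset_adjoin (Or.inr ⟨z, hz, if_pos hzV⟩)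
      · have h1 : z⁻¹ ∈ B := Algebra.subset_adjoin (Or.inr ⟨z, hz, if_neg hzV⟩)
        have h2 := (Subfield.closure (B : Set L)).inv_mem (Subfield.subset_closure h1)
        simpa using h2
  have hBF : IsFractionRing B L := isFractionRing_of_closure_eq_top B hcl
  let ξB : B := ⟨ξ, B₀.algebraMap_mem x⟩
  have hξB0 : ξB ≠ 0 := fun h => hξ0 (congrArg Subtype.val h)
  have hξB : Ideal.span {ξB} ≠ ⊤ := by
    intro h
    obtain ⟨b, hb⟩ := Ideal.mem_span_singleton'.mp
      (h ▸ Submodule.mem_top : (1 : B) ∈ Ideal.span {ξB})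
    have h1 : (b : L) * ξ = 1 := congrArg Subtype.val hb
    have h2 := mul_mem_nonunits V₀ (hB₀V b.2) (hV₀m x hxm)
    rw [h1, ValuationSubring.mem_nonunits_iff, map_one] at h2
    exact lt_irrefl _ h2
  obtain ⟨V, hVd, hBV, hξV⟩ := exists_dvr_of_noetherian_subring B ξB hξB0 hξB
  refine ⟨V, hVd, fun r => hBV (B₀.algebraMap_mem r), fun r hr => ?_⟩
  have key : ∃ b ∈ B, algebraMap R L r = b * ξ := by
    rw [← hG] at hr
    induction hr using Submodule.span_induction with
    | mem g hg =>
      refine ⟨algebraMap R L g / ξ, Algebra.subset_adjoin (Or.inl ⟨g, hg, rfl⟩), ?_⟩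
      field_simp
    | zero => exact ⟨0, B.zero_mem, by simp⟩
    | add a b _ _ ha hb =>
      obtain ⟨a', ha', h1⟩ := ha
      obtain ⟨b', hb', h2⟩ := hb
      exact ⟨a' + b', B.add_mem ha' hb', by rw [map_add, h1, h2, add_mul]⟩
    | smul c a _ ha =>
      obtain ⟨a', ha', h1⟩ := ha
      exact ⟨algebraMap R L c * a', B.mul_mem (B₀.algebraMap_mem c) ha', by
        rw [smul_eq_mul, map_mul, h1, mul_assoc]⟩
  obtain ⟨b, hb, hrb⟩ := key
  rw [hrb]
  exact mul_mem_nonunits V (hBV hb) hξV




lemma exists_finset_closure_eq_top_of_essFiniteType {R : Type*} [CommRing R] [Algebra R L]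
    [Algebra.EssFiniteType R L] :
    ∃ T : Finset L, Subfield.closure (Set.range (algebraMap R L) ∪ ↑T) = ⊤ := by
  obtain ⟨σ, hσ⟩ := (Algebra.essFiniteType_iff R L).mp inferInstance
  refine ⟨σ, ?_⟩
  rw [eq_top_iff]
  intro s _
  set F := Subfield.closure (Set.range (algebraMap R L) ∪ ↑σ) with hF
  have hle : ∀ z ∈ Algebra.adjoin R (σ : Set L), z ∈ F := by
    intro z hz
    induction hz using Algebra.adjoin_induction with
    | mem x hx => exact Subfield.subset_closure (Or.inr hx)
    | algebraMap r => exact Subfield.subset_closure (Or.inl ⟨r, rfl⟩)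
    | add x y _ _ hx hy => exact F.add_mem hx hy
    | mul x y _ _ hx hy => exact F.mul_mem hx hy
  obtain ⟨t, ht, htu, hst⟩ := hσ s
  have ht0 : t ≠ 0 := htu.ne_zero
  have : s = (s * t) / t := by field_simp
  rw [this]
  exact F.div_mem (hle _ hst) (hle _ ht)

/-- Variant of `exists_dvr_dominating` with `Algebra.EssFiniteType`. -/
theorem exists_dvr_dominating' {R : Type*} [CommRing R] [IsDomain R] [IsNoetherianRing R]
    [IsLocalRing R] (hR : ¬ IsField R) [Algebra R L] [FaithfulSMul R L]
    [Algebra.EssFiniteType R L] :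
    ∃ V : ValuationSubring L, IsDiscreteValuationRing V ∧
      (∀ r : R, algebraMap R L r ∈ V) ∧ ∀ r ∈ maximalIdeal R, algebraMap R L r ∈ V.nonunits := by
  obtain ⟨T, hT⟩ := exists_finset_closure_eq_top_of_essFiniteType (R := R) (L := L)
  exact exists_dvr_dominating hR T hT




lemma inv_mem_nonunits_of_notMem (V : ValuationSubring L) {x : L} (hx : x ∉ V) :
    x⁻¹ ∈ V.nonunits := by
  rw [ValuationSubring.mem_nonunits_iff, map_inv₀]
  have h1 : ¬ V.valuation x ≤ 1 := fun h => hx ((V.valuation_le_one_iff x).mp h)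
  have h2 : 1 < V.valuation x := not_le.mp h1
  exact inv_lt_one_of_one_lt₀ h2

open Classical in
/-- Given a valuation subring `V₀` of `L`, a noetherian ring `B₀` mapping into `V₀` with `L`
essentially of finite type over `B₀`, and finitely many nonunits `E` of `V₀` (not all zero),
there is a discrete valuation ring `V` of `L` containing the image of `B₀`, in which all elements
of `E` are nonunits, and such that elements of `B₀` which are nonunits in `V₀` are nonunits in
`V`. -/
theorem exists_dvr_of_valuationSubring (V₀ : ValuationSubring L)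
    {B₀ : Type*} [CommRing B₀] [IsNoetherianRing B₀] [Algebra B₀ L] [Algebra.EssFiniteType B₀ L]
    (hB₀ : ∀ b : B₀, algebraMap B₀ L b ∈ V₀) (E : Finset L) (hE : ∀ e ∈ E, e ∈ V₀.nonunits)
    (hne : ∃ e ∈ E, e ≠ 0) :
    ∃ V : ValuationSubring L, IsDiscreteValuationRing V ∧ (∀ b : B₀, algebraMap B₀ L b ∈ V) ∧
      (∀ e ∈ E, e ∈ V.nonunits) ∧
      ∀ b : B₀, algebraMap B₀ L b ∈ V₀.nonunits → algebraMap B₀ L b ∈ V.nonunits := by
  obtain ⟨T, hT⟩ := exists_finset_closure_eq_top_of_essFiniteType (R := B₀) (L := L)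
  let Γ : Set L := (E : Set L) ∪ (fun t => if t ∈ V₀ then t else t⁻¹) '' (T : Set L)
  have hΓfin : Γ.Finite := E.finite_toSet.union (T.finite_toSet.image _)
  have hEV₀ : ∀ e ∈ E, e ∈ V₀ := fun e he =>
    (V₀.mem_nonunits_iff_exists_mem_maximalIdeal.mp (hE e he)).1
  have hΓV : Γ ⊆ V₀ := by
    rintro z (hz | ⟨t, ht, rfl⟩)
    · exact hEV₀ z hz
    · by_cases htV : t ∈ V₀
      · simp only [htV, if_true]; exact htV
      · simp only [htV, if_false]; exact (V₀.mem_or_inv_mem t).resolve_left htV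
  let B₁ : Subalgebra B₀ L := Algebra.adjoin B₀ Γ
  have hB₁fg : B₁.FG := ⟨hΓfin.toFinset, by simp [B₁]⟩
  have hft : Algebra.FiniteType B₀ B₁ := (Subalgebra.fg_iff_finiteType B₁).mp hB₁fg
  have hB₁N : IsNoetherianRing B₁ := Algebra.FiniteType.isNoetherianRing B₀ B₁
  let V₀alg : Subalgebra B₀ L :=
    { V₀.toSubring.toSubsemiring with algebraMap_mem' := hB₀ }
  have hB₁V : B₁ ≤ V₀alg := Algebra.adjoin_le hΓV
  let B : Subring L := B₁.toSubring
  have hBN : IsNoetherianRing B := hB₁N
  have hBV₀ : B ≤ V₀.toSubring := fun x hx => hB₁V hx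
  have hcl : Subfield.closure (B : Set L) = ⊤ := by
    rw [eq_top_iff, ← hT, Subfield.closure_le]
    rintro z (⟨r, rfl⟩ | hz)
    · exact Subfield.subset_closure (B₁.algebraMap_mem r)
    · by_cases hzV : z ∈ V₀
      · apply Subfield.subset_closure
        exact Algebra.subset_adjoin (Or.inr ⟨z, hz, if_pos hzV⟩)
      · have h1 : z⁻¹ ∈ B := Algebra.subset_adjoin (Or.inr ⟨z, hz, if_neg hzV⟩)
        have h2 := (Subfield.closure (B : Set L)).inv_mem (Subfield.subset_closure h1)
        simpa using h2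
  have hBF : IsFractionRing B L := isFractionRing_of_closure_eq_top B hcl
  -- the prime `𝔫`
  let 𝔫 : Ideal B := (maximalIdeal V₀).comap (Subring.inclusion hBV₀)
  have h𝔫 : 𝔫.IsPrime := Ideal.comap_isPrime _ _
  have hmem𝔫 : ∀ b : B, b ∈ 𝔫 ↔ (b : L) ∈ V₀.nonunits := by
    intro b
    rw [V₀.mem_nonunits_iff_exists_mem_maximalIdeal]
    constructor
    · intro h; exact ⟨hBV₀ b.2, h⟩
    · rintro ⟨_, h⟩; exact h
  let R₁ := LocalSubring.ofPrime B 𝔫
  have hBR₁ : B ≤ R₁.toSubring := LocalSubring.le_ofPrime B 𝔫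
  have hN : IsNoetherianRing R₁.toSubring :=
    IsLocalization.isNoetherianRing 𝔫.primeCompl R₁.toSubring inferInstance
  have hF : IsFractionRing R₁.toSubring L := isFractionRing_of_le B _ hBR₁
  have hess : Algebra.EssFiniteType R₁.toSubring L :=
    Algebra.EssFiniteType.of_isLocalization L (nonZeroDivisors R₁.toSubring)
  have hfaith : FaithfulSMul R₁.toSubring L :=
    (faithfulSMul_iff_algebraMap_injective _ L).mpr Subtype.val_injective
  have hmax : ∀ b : B, b ∈ 𝔫 → algebraMap B R₁.toSubring b ∈ maximalIdeal R₁.toSubring :=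
    fun b hb => (IsLocalization.AtPrime.to_map_mem_maximal_iff R₁.toSubring 𝔫 b).mpr hb
  have hR₁ : ¬ IsField R₁.toSubring := by
    rw [IsLocalRing.isField_iff_maximalIdeal_eq]
    obtain ⟨e, he, he0⟩ := hne
    let eB : B := ⟨e, Algebra.subset_adjoin (Or.inl he)⟩
    have h1 := hmax eB ((hmem𝔫 eB).mpr (hE e he))
    intro hbot
    rw [hbot, Submodule.mem_bot] at h1
    exact he0 (congrArg Subtype.val h1)
  obtain ⟨V, hVd, hVmem, hVnon⟩ := exists_dvr_dominating' (R := R₁.toSubring) (L := L) hR₁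
  have hBV : ∀ b : B, (b : L) ∈ V := fun b => hVmem ⟨b, hBR₁ b.2⟩
  have h𝔫V : ∀ b : B, b ∈ 𝔫 → (b : L) ∈ V.nonunits := fun b hb => hVnon _ (hmax b hb)
  refine ⟨V, hVd, fun b => hBV ⟨_, B₁.algebraMap_mem b⟩, fun e he => ?_, fun b hb => ?_⟩
  · exact h𝔫V ⟨e, Algebra.subset_adjoin (Or.inl he)⟩ ((hmem𝔫 _).mpr (hE e he))
  · exact h𝔫V ⟨_, B₁.algebraMap_mem b⟩ ((hmem𝔫 _).mpr hb)


end Groth.Agent.Lib.Helper4.DVRDom
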