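import Mathlib
import Groth.Agent.Lib.Helper4KrullAkizuki
import Groth.Agent.Lib.Helper4DVRDom

/-!
# Glueing dimension one rings inside a field (helper5)

Stacks, Varieties, "Glueing dimension one rings".  For subrings `A, B` of a field `K` and
`R = A ⊓ B`: if `s, t ∈ R` with `t` a unit of `A`, `s` a unit of `B`, `s + t` a unit of `R`,
every element of `K` is multiplied into `A` by a power of `s` and into `B` by a power of `t`, then
`A = R[1/t]`, `B = R[1/s]`, `Spec A ∪ Spec B = Spec R` and `A ⊗_R B = K`.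
-/

set_option autoImplicit false
universe u

namespace Groth.Agent.Lib.Helper5.GlueDimOne

open AlgebraicGeometry CategoryTheory

/-- In a Noetherian domain of dimension `≤ 1`, a power of any element of the Jacobson radical lies in
any given nonzero principal ideal. -/
theorem exists_pow_mem_span {C : Type*} [CommRing C] [IsDomain C] [IsNoetherianRing C]
    (h : ringKrullDim C ≤ 1) {t c : C} (ht : t ∈ Ideal.jacobson (⊥ : Ideal C)) (hc : c ≠ 0) :
    ∃ n : ℕ, t ^ n ∈ Ideal.span {c} := by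
  have h1 : ringKrullDim (C ⧸ Ideal.span {c}) + 1 ≤ 1 :=
    (ringKrullDim_quotient_succ_le_of_nonZeroDivisor (mem_nonZeroDivisors_of_ne_zero hc)).trans h
  have h2 : ringKrullDim (C ⧸ Ideal.span {c}) ≤ 0 :=
    Groth.Agent.Lib.Helper4.KrullAkizuki.withBot_le_zero_of_add_one_le_one _ h1
  have h3 : Ring.KrullDimLE 0 (C ⧸ Ideal.span {c}) := by
    rwa [Ring.krullDimLE_iff]
  have h4 : IsArtinianRing (C ⧸ Ideal.span {c}) := isArtinianRing_iff_krullDimLE_zero.mpr h3
  obtain ⟨n, hn⟩ := IsArtinianRing.isNilpotent_jacobson_bot (R := C ⧸ Ideal.span {c})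
  have hmem : Ideal.Quotient.mk (Ideal.span {c}) t ∈
      Ideal.jacobson (⊥ : Ideal (C ⧸ Ideal.span {c})) := by
    rw [Ideal.mem_jacobson_bot]
    intro y
    obtain ⟨y, rfl⟩ := Ideal.Quotient.mk_surjective y
    rw [← map_mul, ← map_one (Ideal.Quotient.mk (Ideal.span {c})), ← map_add]
    exact (Ideal.mem_jacobson_bot.mp ht y).map _
  refine ⟨n, ?_⟩
  have h5 : (Ideal.Quotient.mk (Ideal.span {c}) t) ^ n ∈
      Ideal.jacobson (⊥ : Ideal (C ⧸ Ideal.span {c})) ^ n := Ideal.pow_mem_pow hmem n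
  rw [hn, Ideal.zero_eq_bot, Ideal.mem_bot, ← map_pow, Ideal.Quotient.eq_zero_iff_mem] at h5
  exact h5

variable {K : Type u} [Field K]

/-- For a one-dimensional Noetherian subring `C` of its fraction field `K` and `t ∈ rad C`, every
element of `K` is multiplied into `C` by a power of `t`. -/
theorem exists_pow_mul_mem (C : Subring K) [IsFractionRing C K] [IsNoetherianRing C]
    (h : ringKrullDim C ≤ 1) {t : C} (ht : t ∈ Ideal.jacobson (⊥ : Ideal C)) (x : K) :
    ∃ n : ℕ, (t : K) ^ n * x ∈ C := by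
  obtain ⟨a, b, hb, rfl⟩ := IsFractionRing.div_surjective (A := C) x
  have hb0 : b ≠ 0 := nonZeroDivisors.ne_zero hb
  obtain ⟨n, hn⟩ := exists_pow_mem_span h ht hb0
  rw [Ideal.mem_span_singleton'] at hn
  obtain ⟨c, hc⟩ := hn
  refine ⟨n, ?_⟩
  have hbK : (b : K) ≠ 0 := fun h0 => hb0 (Subtype.ext h0)
  have hcK : (c : K) * (b : K) = (t : K) ^ n := by
    have := congrArg (Subtype.val) hc
    simpa using this
  have : (t : K) ^ n * (algebraMap C K a / algebraMap C K b) = (c : K) * (a : K) := by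
    change (t : K) ^ n * ((a : K) / (b : K)) = (c : K) * (a : K)
    rw [← hcK]
    field_simp
  rw [this]
  exact C.mul_mem c.2 a.2

/-- `A = R[1/t]` inside a field. -/
theorem isLocalization_away_inclusion (R A : Subring K) (h : R ≤ A) (t : K) (ht0 : t ≠ 0)
    (htR : t ∈ R) (htinv : t⁻¹ ∈ A) (hpow : ∀ a ∈ A, ∃ n : ℕ, t ^ n * a ∈ R) :
    @IsLocalization.Away R _ (⟨t, htR⟩ : R) A _ (Subring.inclusion h).toAlgebra := by
  let _ : Algebra R A := (Subring.inclusion h).toAlgebra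
  have halg : ∀ r : R, algebraMap R A r = Subring.inclusion h r := fun _ => rfl
  rw [IsLocalization.Away, isLocalization_iff]
  refine ⟨?_, ?_, ?_⟩
  · rintro ⟨y, n, rfl⟩
    refine isUnit_iff_exists_inv.mpr ⟨⟨(t⁻¹) ^ n, A.pow_mem htinv n⟩, ?_⟩
    apply Subtype.ext
    simp only [halg, map_pow, Subring.coe_mul, Subring.coe_pow, Subring.coe_inclusion,
      Subring.coe_one]
    rw [← mul_pow, mul_inv_cancel₀ ht0, one_pow]
  · intro a
    obtain ⟨n, hn⟩ := hpow a a.2
    refine ⟨(⟨t ^ n * a, hn⟩, ⟨⟨t, htR⟩ ^ n, n, rfl⟩), ?_⟩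
    apply Subtype.ext
    simp only [halg, map_pow, Subring.coe_mul, Subring.coe_pow, Subring.coe_inclusion]
    rw [mul_comm]
  · intro x y hxy
    refine ⟨1, ?_⟩
    have : (x : K) = (y : K) := by
      have := congrArg Subtype.val hxy
      simpa [halg] using this
    rw [Subtype.ext this]

/-- `K = A[1/s]` inside a field. -/
theorem isLocalization_away_subtype (A : Subring K) (s : K) (hs0 : s ≠ 0) (hsA : s ∈ A)
    (hpow : ∀ x : K, ∃ n : ℕ, s ^ n * x ∈ A) :
    IsLocalization.Away (⟨s, hsA⟩ : A) K := by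
  have halg : ∀ r : A, algebraMap A K r = (r : K) := fun _ => rfl
  rw [IsLocalization.Away, isLocalization_iff]
  refine ⟨?_, ?_, ?_⟩
  · rintro ⟨y, n, rfl⟩
    rw [halg]
    simp only [Subring.coe_pow]
    exact (isUnit_iff_ne_zero.mpr hs0).pow n
  · intro x
    obtain ⟨n, hn⟩ := hpow x
    refine ⟨(⟨s ^ n * x, hn⟩, ⟨⟨s, hsA⟩ ^ n, n, rfl⟩), ?_⟩
    simp only [halg, Subring.coe_pow]
    rw [mul_comm]
  · intro x y hxy
    refine ⟨1, ?_⟩
    rw [halg, halg] at hxy
    rw [Subtype.ext hxy]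

theorem range_specMap_inclusion (R A : Subring K) (h : R ≤ A) (t : R)
    (hloc : @IsLocalization.Away R _ t A _ (Subring.inclusion h).toAlgebra) :
    Set.range (Spec.map (CommRingCat.ofHom (Subring.inclusion h))).base =
      (PrimeSpectrum.basicOpen t : Set (PrimeSpectrum R)) := by
  let _ : Algebra R A := (Subring.inclusion h).toAlgebra
  have := PrimeSpectrum.localization_away_comap_range A t
  rw [← this]
  rfl

theorem isOpenImmersion_specMap_inclusion (R A : Subring K) (h : R ≤ A) (t : R)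
    (hloc : @IsLocalization.Away R _ t A _ (Subring.inclusion h).toAlgebra) :
    IsOpenImmersion (Spec.map (CommRingCat.ofHom (Subring.inclusion h))) := by
  let _ : Algebra R A := (Subring.inclusion h).toAlgebra
  exact IsOpenImmersion.of_isLocalization t

/-- The two-chart glueing lemma. -/
theorem glue (A B : Subring K) (s t : K) (hs0 : s ≠ 0) (ht0 : t ≠ 0) (hst0 : s + t ≠ 0)
    (hsA : s ∈ A) (hsB : s ∈ B) (htA : t ∈ A) (htB : t ∈ B)
    (htinv : t⁻¹ ∈ A) (hsinv : s⁻¹ ∈ B)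
    (hstA : (s + t)⁻¹ ∈ A) (hstB : (s + t)⁻¹ ∈ B)
    (hpowA : ∀ x : K, ∃ n : ℕ, s ^ n * x ∈ A)
    (hpowB : ∀ x : K, ∃ n : ℕ, t ^ n * x ∈ B) :
    IsOpenImmersion (Spec.map (CommRingCat.ofHom
      (Subring.inclusion (inf_le_left : A ⊓ B ≤ A)))) ∧
    IsOpenImmersion (Spec.map (CommRingCat.ofHom
      (Subring.inclusion (inf_le_right : A ⊓ B ≤ B)))) ∧
    Set.range (Spec.map (CommRingCat.ofHom
        (Subring.inclusion (inf_le_left : A ⊓ B ≤ A)))).base ∪
      Set.range (Spec.map (CommRingCat.ofHom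
        (Subring.inclusion (inf_le_right : A ⊓ B ≤ B)))).base = Set.univ ∧
    IsPushout (CommRingCat.ofHom (Subring.inclusion (inf_le_left : A ⊓ B ≤ A)))
      (CommRingCat.ofHom (Subring.inclusion (inf_le_right : A ⊓ B ≤ B)))
      (CommRingCat.ofHom A.subtype) (CommRingCat.ofHom B.subtype) := by
  have tR : t ∈ A ⊓ B := Subring.mem_inf.mpr ⟨htA, htB⟩
  have sR : s ∈ A ⊓ B := Subring.mem_inf.mpr ⟨hsA, hsB⟩
  have locA := isLocalization_away_inclusion (A ⊓ B) A inf_le_left t ht0 tR htinv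
    (fun a ha => by
      obtain ⟨n, hn⟩ := hpowB a
      exact ⟨n, Subring.mem_inf.mpr ⟨A.mul_mem (A.pow_mem htA n) ha, hn⟩⟩)
  have locB := isLocalization_away_inclusion (A ⊓ B) B inf_le_right s hs0 sR hsinv
    (fun b hb => by
      obtain ⟨n, hn⟩ := hpowA b
      exact ⟨n, Subring.mem_inf.mpr ⟨hn, B.mul_mem (B.pow_mem hsB n) hb⟩⟩)
  refine ⟨isOpenImmersion_specMap_inclusion _ _ _ _ locA,
    isOpenImmersion_specMap_inclusion _ _ _ _ locB, ?_, ?_⟩
  · rw [range_specMap_inclusion _ _ _ _ locA, range_specMap_inclusion _ _ _ _ locB]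
    rw [Set.eq_univ_iff_forall]
    intro x
    by_contra hx
    have h1 : x ∉ (PrimeSpectrum.basicOpen (⟨t, tR⟩ : ↥(A ⊓ B)) : Set (PrimeSpectrum ↥(A ⊓ B))) :=
      fun h => hx (Or.inl h)
    have h2 : x ∉ (PrimeSpectrum.basicOpen (⟨s, sR⟩ : ↥(A ⊓ B)) : Set (PrimeSpectrum ↥(A ⊓ B))) :=
      fun h => hx (Or.inr h)
    have h1' : (⟨t, tR⟩ : ↥(A ⊓ B)) ∈ x.asIdeal := by
      by_contra h
      exact h1 h
    have h2' : (⟨s, sR⟩ : ↥(A ⊓ B)) ∈ x.asIdeal := by
      by_contra h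
      exact h2 h
    have h3 : (⟨s, sR⟩ + ⟨t, tR⟩ : ↥(A ⊓ B)) ∈ x.asIdeal := x.asIdeal.add_mem h2' h1'
    have h4 : (⟨(s + t)⁻¹, Subring.mem_inf.mpr ⟨hstA, hstB⟩⟩ : ↥(A ⊓ B)) *
        (⟨s, sR⟩ + ⟨t, tR⟩) ∈ x.asIdeal := x.asIdeal.mul_mem_left _ h3
    have h5 : (⟨(s + t)⁻¹, Subring.mem_inf.mpr ⟨hstA, hstB⟩⟩ : ↥(A ⊓ B)) *
        (⟨s, sR⟩ + ⟨t, tR⟩) = 1 := by
      apply Subtype.ext
      simp only [Subring.coe_mul, Subring.coe_add, Subring.coe_one]
      exact inv_mul_cancel₀ hst0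
    rw [h5] at h4
    exact x.isPrime.ne_top ((Ideal.eq_top_iff_one _).mpr h4)
  · let _ : Algebra ↥(A ⊓ B) B := (Subring.inclusion (inf_le_right : A ⊓ B ≤ B)).toAlgebra
    have hK : IsLocalization.Away (⟨s, hsA⟩ : A) K :=
      isLocalization_away_subtype A s hs0 hsA hpowA
    have hK' : IsLocalization ((Submonoid.powers (⟨s, sR⟩ : ↥(A ⊓ B))).map
        (Subring.inclusion (inf_le_left : A ⊓ B ≤ A))) K := by
      rw [Submonoid.map_powers]
      exact hK
    exact CommRingCat.isPushout_of_isLocalization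
      (Subring.inclusion (inf_le_left : A ⊓ B ≤ A)) B.subtype (RingHom.ext fun r => rfl)
      (Submonoid.powers (⟨s, sR⟩ : ↥(A ⊓ B)))

end Groth.Agent.Lib.Helper5.GlueDimOne
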