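import Mathlib
import Groth.Agent.Lib.Helper5GlueDimOne

/-!
# Glueing a semilocal one-dimensional ring and a DVR (helper5)

Stacks, Varieties, Lemma "glueing dimension one rings", the case where `B` is a DVR.
-/

set_option autoImplicit false
universe u

namespace Groth.Agent.Lib.Helper5.GlueDimOne

open AlgebraicGeometry CategoryTheory

variable {K : Type u} [Field K]

/-- General form of `exists_pow_mul_mem`. -/
theorem exists_pow_mul_eq_algebraMap {C : Type*} [CommRing C] [IsDomain C] [IsNoetherianRing C]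
    [Algebra C K] [IsFractionRing C K]
    (h : ringKrullDim C ≤ 1) {t : C} (ht : t ∈ Ideal.jacobson (⊥ : Ideal C)) (x : K) :
    ∃ (n : ℕ) (c : C), algebraMap C K t ^ n * x = algebraMap C K c := by
  obtain ⟨a, b, hb, rfl⟩ := IsFractionRing.div_surjective (A := C) x
  have hb0 : b ≠ 0 := nonZeroDivisors.ne_zero hb
  obtain ⟨n, hn⟩ := exists_pow_mem_span h ht hb0
  rw [Ideal.mem_span_singleton'] at hn
  obtain ⟨c, hc⟩ := hn
  refine ⟨n, c * a, ?_⟩
  have hbK : algebraMap C K b ≠ 0 := by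
    rw [Ne, FaithfulSMul.algebraMap_eq_zero_iff]
    exact hb0
  rw [← map_pow, ← hc, map_mul, map_mul]
  field_simp

/-- If `x ∈ rad C` then `1 + x` is invertible in `C`. -/
theorem exists_inv_one_add {C : Type*} [CommRing C] [Algebra C K]
    {x : C} (hx : x ∈ Ideal.jacobson (⊥ : Ideal C)) :
    ∃ w : C, (1 + algebraMap C K x)⁻¹ = algebraMap C K w := by
  have h1 : IsUnit (x * 1 + 1) := Ideal.mem_jacobson_bot.mp hx 1
  obtain ⟨w, hw⟩ := h1.exists_right_inv
  refine ⟨w, ?_⟩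
  have h2 : (algebraMap C K x + 1) * algebraMap C K w = 1 := by
    have h3 : algebraMap C K ((x * 1 + 1) * w) = 1 := by rw [hw, map_one]
    rw [mul_one, map_mul, map_add, map_one] at h3
    exact h3
  rw [add_comm]
  exact inv_eq_of_mul_eq_one_right h2

/-- A semilocal domain which is not a field has a nonzero element in its Jacobson radical. -/
theorem exists_ne_zero_mem_jacobson (A : Type*) [CommRing A] [IsDomain A]
    (hA : ¬ IsField A) [Finite (MaximalSpectrum A)] :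
    ∃ z : A, z ≠ 0 ∧ z ∈ Ideal.jacobson (⊥ : Ideal A) := by
  classical
  have := Fintype.ofFinite (MaximalSpectrum A)
  have hex : ∀ m : MaximalSpectrum A, ∃ z : A, z ∈ m.asIdeal ∧ z ≠ 0 := by
    intro m
    have hne : m.asIdeal ≠ ⊥ := Ring.ne_bot_of_isMaximal_of_not_isField m.isMaximal hA
    exact Submodule.exists_mem_ne_zero_of_ne_bot hne
  choose z hz hz0 using hex
  refine ⟨∏ m, z m, Finset.prod_ne_zero_iff.mpr fun m _ => hz0 m, ?_⟩
  rw [Ideal.jacobson, Ideal.mem_sInf]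
  rintro J ⟨-, hJ⟩
  obtain ⟨c, hc⟩ := Finset.dvd_prod_of_mem z (Finset.mem_univ (⟨J, hJ⟩ : MaximalSpectrum A))
  rw [hc]
  exact J.mul_mem_right c (hz ⟨J, hJ⟩)

/-- In a DVR, for `x ≠ 0` and a nonunit `y ≠ 0` there are `k ≥ 1`, `l` and a unit `ε` with
`x ^ k = ε * y ^ l`. -/
theorem exists_pow_eq_unit_mul_pow {D : Type*} [CommRing D] [IsDomain D]
    [IsDiscreteValuationRing D] {x y : D} (hx : x ≠ 0) (hy : y ≠ 0) (hyu : ¬ IsUnit y) :
    ∃ (k l : ℕ) (ε : Dˣ), 1 ≤ k ∧ x ^ k = ε * y ^ l := by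
  obtain ⟨ϖ, hϖ⟩ := IsDiscreteValuationRing.exists_irreducible D
  obtain ⟨a, u, rfl⟩ := IsDiscreteValuationRing.eq_unit_mul_pow_irreducible hx hϖ
  obtain ⟨b, v, rfl⟩ := IsDiscreteValuationRing.eq_unit_mul_pow_irreducible hy hϖ
  have hb : 1 ≤ b := by
    rcases Nat.eq_zero_or_pos b with h0 | h0
    · exfalso
      apply hyu
      rw [h0, pow_zero, mul_one]
      exact v.isUnit
    · exact h0
  refine ⟨b, a, u ^ b * (v ^ a)⁻¹, hb, ?_⟩
  rw [mul_pow, mul_pow, Units.val_mul, Units.val_pow_eq_pow_val, ← pow_mul, ← pow_mul,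
    mul_comm b a]
  have : ((v ^ a)⁻¹ : Dˣ) * (v : D) ^ a = 1 := by
    rw [← Units.val_pow_eq_pow_val, ← Units.val_mul, inv_mul_cancel, Units.val_one]
  calc (u : D) ^ b * ϖ ^ (a * b) = (u : D) ^ b * (((v ^ a)⁻¹ : Dˣ) * (v : D) ^ a) * ϖ ^ (a * b) := by
        rw [this, mul_one]
    _ = (u : D) ^ b * ((v ^ a)⁻¹ : Dˣ) * ((v : D) ^ a * ϖ ^ (a * b)) := by ring

section DVR

variable (B : ValuationSubring K) [IsDiscreteValuationRing B]

theorem ringKrullDim_dvr_le_one : ringKrullDim B ≤ 1 :=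
  Ring.krullDimLE_iff.mp inferInstance

/-- A power of a nonunit of a DVR multiplies any element of `K` into it. -/
theorem exists_pow_mul_mem_dvr {t : K} (ht : t ∈ B.nonunits) (x : K) :
    ∃ n : ℕ, t ^ n * x ∈ B := by
  obtain ⟨htB, htm⟩ := ValuationSubring.mem_nonunits_iff_exists_mem_maximalIdeal.mp ht
  have hjac : (⟨t, htB⟩ : B) ∈ Ideal.jacobson (⊥ : Ideal B) := by
    rw [IsLocalRing.jacobson_eq_maximalIdeal ⊥ bot_ne_top]
    exact htm
  obtain ⟨n, c, hc⟩ := exists_pow_mul_eq_algebraMap (K := K) (ringKrullDim_dvr_le_one B) hjac x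
  refine ⟨n, ?_⟩
  have : t ^ n * x = (c : K) := hc
  rw [this]
  exact c.2

theorem dvr_ne_top : B.toSubring ≠ ⊤ := by
  intro htop
  have hOtop : ∀ x : K, x ∈ B := fun x => by
    have : x ∈ B.toSubring := htop ▸ Subring.mem_top x
    exact this
  apply IsDiscreteValuationRing.not_isField B
  refine ⟨⟨0, 1, zero_ne_one⟩, mul_comm, ?_⟩
  intro a ha
  have ha' : (a : K) ≠ 0 := fun h => ha (Subtype.ext h)
  exact ⟨⟨(a : K)⁻¹, hOtop _⟩, Subtype.ext (mul_inv_cancel₀ ha')⟩

end DVR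

/-- Stacks, Varieties: glueing a semilocal one-dimensional Noetherian domain with a DVR. -/
theorem semilocal_inf_dvr (A : Subring K) [IsFractionRing A K] [IsNoetherianRing A]
    (hdim : ringKrullDim A = 1) (hsl : Finite (MaximalSpectrum A))
    (B : ValuationSubring K) [IsDiscreteValuationRing B] :
    ((∃ u : A, IsUnit u ∧ (u : K) ∉ B) →
      IsOpenImmersion (Spec.map (CommRingCat.ofHom (Subring.inclusion (inf_le_left : A ⊓ B.toSubring ≤ A)))) ∧
      IsOpenImmersion (Spec.map (CommRingCat.ofHom (Subring.inclusion (inf_le_right : A ⊓ B.toSubring ≤ B.toSubring)))) ∧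
      Set.range (Spec.map (CommRingCat.ofHom (Subring.inclusion (inf_le_left : A ⊓ B.toSubring ≤ A)))).base ∪
        Set.range (Spec.map (CommRingCat.ofHom (Subring.inclusion (inf_le_right : A ⊓ B.toSubring ≤ B.toSubring)))).base = Set.univ ∧
      IsPushout (CommRingCat.ofHom (Subring.inclusion (inf_le_left : A ⊓ B.toSubring ≤ A)))
        (CommRingCat.ofHom (Subring.inclusion (inf_le_right : A ⊓ B.toSubring ≤ B.toSubring)))
        (CommRingCat.ofHom A.subtype) (CommRingCat.ofHom B.toSubring.subtype)) ∧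
    ((∀ u : A, IsUnit u → (u : K) ∈ B) →
      (∃ h : A ≤ B.toSubring,
        (Ideal.comap (Subring.inclusion h) (IsLocalRing.maximalIdeal B)).IsMaximal) ∧ A ⊔ B.toSubring ≠ ⊤) := by
  classical
  have hAdom : IsDomain A := inferInstance
  have hAnf : ¬ IsField A := by
    intro hf
    have h0 := ringKrullDim_eq_zero_of_isField hf
    rw [hdim] at h0
    exact one_ne_zero h0
  have hdim' : ringKrullDim A ≤ 1 := le_of_eq hdim
  obtain ⟨z, hz0, hzj⟩ := exists_ne_zero_mem_jacobson A hAnf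
  refine ⟨?_, ?_⟩
  · rintro ⟨u, hu, huB⟩
    obtain ⟨w, hw⟩ := hu.exists_right_inv
    have huw : (u : K) * (w : K) = 1 := congrArg Subtype.val hw
    have hu0 : (u : K) ≠ 0 := left_ne_zero_of_mul_eq_one huw
    have hwinv : (u : K)⁻¹ = (w : K) := inv_eq_of_mul_eq_one_right huw
    -- `t = u⁻¹`
    obtain ⟨t, ht⟩ : ∃ t : K, t = (u : K)⁻¹ := ⟨_, rfl⟩
    have ht0 : t ≠ 0 := by rw [ht]; exact inv_ne_zero hu0
    have htA : t ∈ A := by rw [ht, hwinv]; exact w.2
    have htinv : t⁻¹ ∈ A := by rw [ht, inv_inv]; exact u.2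
    have htu : t * (u : K) = 1 := by rw [ht]; exact inv_mul_cancel₀ hu0
    have htnu : t ∈ B.nonunits := by
      rw [ht]
      exact Groth.Agent.Lib.Helper4.DVRDom.inv_mem_nonunits_of_notMem B huB
    obtain ⟨htB, htm⟩ := ValuationSubring.mem_nonunits_iff_exists_mem_maximalIdeal.mp htnu
    -- move `z` into `B`
    obtain ⟨N, hN⟩ := exists_pow_mul_mem_dvr B htnu (z : K)
    obtain ⟨z₁, hz₁⟩ : ∃ z₁ : K, z₁ = t ^ N * (z : K) := ⟨_, rfl⟩
    have hz₁B : z₁ ∈ B := by rw [hz₁]; exact hN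
    have hz₁0 : z₁ ≠ 0 := by
      rw [hz₁]
      exact mul_ne_zero (pow_ne_zero _ ht0) (fun h => hz0 (Subtype.ext h))
    have hz₁A : z₁ ∈ A := by rw [hz₁]; exact A.mul_mem (A.pow_mem htA N) z.2
    have hz₁j : (⟨z₁, hz₁A⟩ : A) ∈ Ideal.jacobson (⊥ : Ideal A) := by
      have : (⟨z₁, hz₁A⟩ : A) = (⟨t, htA⟩ : A) ^ N * z := by
        apply Subtype.ext
        simp [hz₁]
      rw [this]
      exact Ideal.mul_mem_left _ _ hzj
    -- the unit `s`
    have hz₁B0 : (⟨z₁, hz₁B⟩ : B) ≠ 0 := fun h => hz₁0 (congrArg Subtype.val h)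
    have htB0 : (⟨t, htB⟩ : B) ≠ 0 := fun h => ht0 (congrArg Subtype.val h)
    have htBnu : ¬ IsUnit (⟨t, htB⟩ : B) := (IsLocalRing.mem_maximalIdeal _).mp htm
    obtain ⟨k, l, ε, hk, hε⟩ := exists_pow_eq_unit_mul_pow hz₁B0 htB0 htBnu
    have hεK : z₁ ^ k = (ε : B) * t ^ l := by
      have := congrArg Subtype.val hε
      simpa using this
    obtain ⟨s, hs⟩ : ∃ s : K, s = z₁ ^ k * (u : K) ^ l := ⟨_, rfl⟩
    have hsε : s = ((ε : B) : K) := by
      rw [hs, hεK, mul_assoc, ← mul_pow, htu, one_pow, mul_one]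
    have hεinv : ((ε : B) : K) * (((ε⁻¹ : Bˣ) : B) : K) = 1 := by
      have : ((ε : B) * ((ε⁻¹ : Bˣ) : B) : B) = 1 := by
        rw [← Units.val_mul, mul_inv_cancel, Units.val_one]
      exact congrArg Subtype.val this
    have hs0 : s ≠ 0 := by rw [hsε]; exact left_ne_zero_of_mul_eq_one hεinv
    have hsB : s ∈ B := by rw [hsε]; exact (ε : B).2
    have hsinv : s⁻¹ ∈ B := by
      rw [hsε, inv_eq_of_mul_eq_one_right hεinv]
      exact ((ε⁻¹ : Bˣ) : B).2
    have hsA : s ∈ A := by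
      rw [hs]
      exact A.mul_mem (A.pow_mem hz₁A k) (A.pow_mem u.2 l)
    have hsj : (⟨s, hsA⟩ : A) ∈ Ideal.jacobson (⊥ : Ideal A) := by
      have : (⟨s, hsA⟩ : A) = (⟨z₁, hz₁A⟩ : A) * ((⟨z₁, hz₁A⟩ : A) ^ (k - 1) * u ^ l) := by
        apply Subtype.ext
        simp only [Subring.coe_mul, Subring.coe_pow]
        rw [hs, ← mul_assoc, ← pow_succ', Nat.sub_add_cancel hk]
      rw [this]
      exact Ideal.mul_mem_right _ _ hz₁j
    -- `s + t` is a unit on both sides
    have hsuj : (⟨s, hsA⟩ : A) * u ∈ Ideal.jacobson (⊥ : Ideal A) := Ideal.mul_mem_right _ _ hsj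
    obtain ⟨w₁, hw₁⟩ := exists_inv_one_add (K := K) hsuj
    have hw₁' : (1 + s * (u : K))⁻¹ = (w₁ : K) := hw₁
    have hone_su : (1 + s * (u : K)) ≠ 0 := by
      intro h0
      have h1 : IsUnit ((⟨s, hsA⟩ : A) * u * 1 + 1) := Ideal.mem_jacobson_bot.mp hsuj 1
      obtain ⟨w₂, hw₂⟩ := h1.exists_right_inv
      have := congrArg Subtype.val hw₂
      simp only [Subring.coe_mul, Subring.coe_add, Subring.coe_one, mul_one] at this
      rw [add_comm, h0, zero_mul] at this
      exact zero_ne_one this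
    have hst : s + t = t * (1 + s * (u : K)) := by
      rw [mul_add, mul_one, mul_comm s, ← mul_assoc, htu, one_mul, add_comm]
    have hst0 : s + t ≠ 0 := by rw [hst]; exact mul_ne_zero ht0 hone_su
    have hstA : (s + t)⁻¹ ∈ A := by
      rw [hst, mul_inv, hw₁']
      exact A.mul_mem htinv w₁.2
    have hsinvt : (⟨s⁻¹ * t, B.mul_mem _ _ hsinv htB⟩ : B) ∈ Ideal.jacobson (⊥ : Ideal B) := by
      rw [IsLocalRing.jacobson_eq_maximalIdeal ⊥ bot_ne_top]
      have : (⟨s⁻¹ * t, B.mul_mem _ _ hsinv htB⟩ : B) = (⟨s⁻¹, hsinv⟩ : B) * ⟨t, htB⟩ := rfl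
      rw [this]
      exact Ideal.mul_mem_left _ _ htm
    obtain ⟨w₃, hw₃⟩ := exists_inv_one_add (K := K) hsinvt
    have hw₃' : (1 + s⁻¹ * t)⁻¹ = (w₃ : K) := hw₃
    have hst' : s + t = s * (1 + s⁻¹ * t) := by
      rw [mul_add, mul_one, ← mul_assoc, mul_inv_cancel₀ hs0, one_mul]
    have hstB : (s + t)⁻¹ ∈ B := by
      rw [hst', mul_inv, hw₃']
      exact B.mul_mem _ _ hsinv w₃.2
    have hpowA : ∀ x : K, ∃ n : ℕ, s ^ n * x ∈ A := fun x =>
      exists_pow_mul_mem A hdim' hsj x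
    have hpowB : ∀ x : K, ∃ n : ℕ, t ^ n * x ∈ B.toSubring := fun x =>
      exists_pow_mul_mem_dvr B htnu x
    exact glue A B.toSubring s t hs0 ht0 hst0 hsA hsB htA htB htinv hsinv hstA hstB hpowA hpowB
  · intro hunits
    have hAB : A ≤ B.toSubring := by
      intro a ha
      by_contra haB
      have haB' : a ∉ B := haB
      have hanu : a⁻¹ ∈ B.nonunits :=
        Groth.Agent.Lib.Helper4.DVRDom.inv_mem_nonunits_of_notMem B haB'
      obtain ⟨htB, htm⟩ := ValuationSubring.mem_nonunits_iff_exists_mem_maximalIdeal.mp hanu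
      have ha0 : a ≠ 0 := by
        intro h0
        apply haB'
        rw [h0]
        exact B.zero_mem
      have hzan : ∀ n : ℕ, (z : K) * a ^ n ∈ B := by
        intro n
        have h1 : IsUnit (z * (⟨a, ha⟩ : A) ^ n + 1) := Ideal.mem_jacobson_bot.mp hzj _
        have h2 := hunits _ h1
        have h3 : (z : K) * a ^ n + 1 ∈ B := by simpa using h2
        have h4 := B.sub_mem h3 B.one_mem
        simpa using h4
      have hzB : (z : K) ∈ B := by simpa using hzan 0
      have hzB0 : (⟨(z : K), hzB⟩ : B) ≠ 0 := by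
        intro h
        have h' : (z : K) = 0 := congrArg Subtype.val h
        exact hz0 (Subtype.ext h')
      have hjac : (⟨a⁻¹, htB⟩ : B) ∈ Ideal.jacobson (⊥ : Ideal B) := by
        rw [IsLocalRing.jacobson_eq_maximalIdeal ⊥ bot_ne_top]
        exact htm
      obtain ⟨n, hn⟩ := exists_pow_mem_span (ringKrullDim_dvr_le_one B) hjac hzB0
      rw [Ideal.mem_span_singleton'] at hn
      obtain ⟨c, hc⟩ := hn
      have hcK : (c : K) * (z : K) = (a⁻¹) ^ n := by
        have := congrArg Subtype.val hc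
        simpa using this
      apply haB'
      have : a = (c : K) * ((z : K) * a ^ (n + 1)) := by
        rw [← mul_assoc, hcK, pow_succ, ← mul_assoc, ← mul_pow, inv_mul_cancel₀ ha0, one_pow, one_mul]
      rw [this]
      exact B.mul_mem _ _ c.2 (hzan (n + 1))
    refine ⟨⟨hAB, ?_⟩, ?_⟩
    · have hprime : (Ideal.comap (Subring.inclusion hAB) (IsLocalRing.maximalIdeal B)).IsPrime :=
        Ideal.IsPrime.comap _
      have hKD : Ring.KrullDimLE 1 A := Ring.krullDimLE_iff.mpr hdim'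
      refine hprime.isMaximal_of_ne_bot ?_
      intro hbot
      apply dvr_ne_top B
      rw [eq_top_iff]
      intro x _
      obtain ⟨a₁, a₂, ha₂, rfl⟩ := IsFractionRing.div_surjective (A := A) x
      have ha₂0 : a₂ ≠ 0 := nonZeroDivisors.ne_zero ha₂
      have hnm : a₂ ∉ Ideal.comap (Subring.inclusion hAB) (IsLocalRing.maximalIdeal B) := by
        rw [hbot, Ideal.mem_bot]
        exact ha₂0
      have hnm' : (⟨(a₂ : K), hAB a₂.2⟩ : B) ∉ IsLocalRing.maximalIdeal B := hnm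
      have hunit : IsUnit (⟨(a₂ : K), hAB a₂.2⟩ : B) := by
        by_contra h
        exact hnm' ((IsLocalRing.mem_maximalIdeal _).mpr h)
      obtain ⟨v, hv⟩ := hunit.exists_right_inv
      have hvK : (a₂ : K) * (v : K) = 1 := congrArg Subtype.val hv
      change (a₁ : K) / (a₂ : K) ∈ B.toSubring
      rw [div_eq_mul_inv, inv_eq_of_mul_eq_one_right hvK]
      exact B.mul_mem _ _ (hAB a₁.2) v.2
    · rw [sup_eq_right.mpr hAB]
      exact dvr_ne_top B

end Groth.Agent.Lib.Helper5.GlueDimOne
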