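import Mathlib
import Groth.Agent.Lib.Helper5GlueDVR

/-!
# Glueing semilocal one-dimensional rings inside a field (helper5)

Stacks, Varieties, "Glueing dimension one rings": for a subring `A` of a field `K` and a Noetherian
semilocal one-dimensional domain `B ⊆ K` with fraction field `K` such that `A` and `B` generate `K`,
there is `x ∈ A` with `x⁻¹ ∈ rad B`.  The proof goes through the integral closure of `B` in `K`,
which is a semilocal Dedekind domain by the Krull-Akizuki theorem, and an approximation argument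
for its finitely many discrete valuations.
-/

set_option autoImplicit false
universe u

namespace Groth.Agent.Lib.Helper5.GlueDimOne

open AlgebraicGeometry CategoryTheory WithZero IsDedekindDomain

theorem exists_one_lt_mul_pow (a b : ℤᵐ⁰) (ha : a ≠ 0) (hb : 1 < b) :
    ∃ M : ℕ, ∀ m, M ≤ m → 1 < a * b ^ m := by
  obtain ⟨n, hn⟩ := MulArchimedean.arch a⁻¹ hb
  refine ⟨n + 1, fun m hm => ?_⟩
  have h1 : a⁻¹ < b ^ m := lt_of_le_of_lt hn (pow_lt_pow_right₀ hb hm)
  have ha' : 0 < a := zero_lt_iff.mpr ha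
  calc 1 = a * a⁻¹ := (mul_inv_cancel₀ ha).symm
    _ < a * b ^ m := by gcongr

theorem exists_one_lt_mul_pow_finset {ι : Type*} (T : Finset ι) (a b : ι → ℤᵐ⁰)
    (ha : ∀ i ∈ T, a i ≠ 0) (hb : ∀ i ∈ T, 1 < b i) :
    ∃ M : ℕ, ∀ i ∈ T, 1 < a i * b i ^ M := by
  classical
  have : ∃ M : ℕ, ∀ i ∈ T, ∀ m, M ≤ m → 1 < a i * b i ^ m := by
    induction T using Finset.induction_on with
    | empty => exact ⟨0, by simp⟩
    | insert j T hj ih =>
      obtain ⟨M₁, hM₁⟩ := ih (fun i hi => ha i (Finset.mem_insert_of_mem hi))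
        (fun i hi => hb i (Finset.mem_insert_of_mem hi))
      obtain ⟨M₂, hM₂⟩ := exists_one_lt_mul_pow (a j) (b j) (ha j (Finset.mem_insert_self _ _))
        (hb j (Finset.mem_insert_self _ _))
      refine ⟨max M₁ M₂, fun i hi m hm => ?_⟩
      rcases Finset.mem_insert.mp hi with rfl | hi
      · exact hM₂ m (le_trans (le_max_right _ _) hm)
      · exact hM₁ i hi m (le_trans (le_max_left _ _) hm)
  obtain ⟨M, hM⟩ := this
  exact ⟨M, fun i hi => hM i hi M le_rfl⟩

/-- Approximation: if a subring `A` of the fraction field of a Dedekind domain has, for each of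
finitely many primes, an element with a pole there, then it has an element with poles at all of
them. -/
theorem exists_forall_one_lt_valuation {D : Type*} [CommRing D] [IsDedekindDomain D]
    {K : Type*} [Field K] [Algebra D K] [IsFractionRing D K] (A : Subring K)
    (T : Finset (HeightOneSpectrum D))
    (h : ∀ v ∈ T, ∃ y ∈ A, 1 < v.valuation K y) :
    ∃ x ∈ A, ∀ v ∈ T, 1 < v.valuation K x := by
  classical
  induction T using Finset.induction_on with
  | empty => exact ⟨1, A.one_mem, by simp⟩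
  | insert v₀ T hv₀ ih =>
    obtain ⟨x, hxA, hx⟩ := ih (fun v hv => h v (Finset.mem_insert_of_mem hv))
    obtain ⟨y, hyA, hy⟩ := h v₀ (Finset.mem_insert_self _ _)
    by_cases h1 : 1 < v₀.valuation K x
    · refine ⟨x, hxA, fun v hv => ?_⟩
      rcases Finset.mem_insert.mp hv with rfl | hv
      · exact h1
      · exact hx v hv
    · obtain ⟨x₁, hx₁A, hx₁v₀, hx₁⟩ : ∃ x₁ ∈ A, v₀.valuation K x₁ = 1 ∧
          ∀ v ∈ T, 1 < v.valuation K x₁ := by
        rcases lt_or_eq_of_le (not_lt.mp h1) with h2 | h2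
        · refine ⟨1 + x, A.add_mem A.one_mem hxA, ?_, fun v hv => ?_⟩
          · exact Valuation.map_one_add_of_lt _ h2
          · have h3 : (v.valuation K) 1 < v.valuation K x := by
              rw [Valuation.map_one]; exact hx v hv
            rw [Valuation.map_add_eq_of_lt_right _ h3]
            exact hx v hv
        · exact ⟨x, hxA, h2, hx⟩
      have hy0 : y ≠ 0 := by
        rintro rfl
        simp at hy
      obtain ⟨M, hM⟩ := exists_one_lt_mul_pow_finset T (fun v => v.valuation K y)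
        (fun v => v.valuation K x₁) (fun v _ => (Valuation.ne_zero_iff _).mpr hy0) hx₁
      refine ⟨y * x₁ ^ M, A.mul_mem hyA (A.pow_mem hx₁A M), fun v hv => ?_⟩
      rcases Finset.mem_insert.mp hv with rfl | hv
      · rw [map_mul, map_pow, hx₁v₀, one_pow, mul_one]
        exact hy
      · rw [map_mul, map_pow]
        exact hM v hv

theorem dimensionLEOne_of_ringKrullDim_le_one {C : Type*} [CommRing C] [IsDomain C]
    (h : ringKrullDim C ≤ 1) : Ring.DimensionLEOne C := by
  have : Ring.KrullDimLE 1 C := Ring.krullDimLE_iff.mpr h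
  exact ⟨fun hp hprime => hprime.isMaximal_of_ne_bot hp⟩

variable {K : Type u} [Field K]

section IntegralClosure

variable (B : Subring K) [IsFractionRing B K] [IsNoetherianRing B]

theorem isNoetherianRing_integralClosure (hdim : ringKrullDim B ≤ 1) :
    IsNoetherianRing (integralClosure B K) :=
  Groth.Agent.Lib.Helper4.KrullAkizuki.isNoetherianRing_subalgebra
    (fun _ ha => Groth.Agent.Lib.Helper4.KrullAkizuki.isArtinian_quotient_of_ringKrullDim_le_one
      hdim ha) _

omit [IsNoetherianRing B] in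
theorem isFractionRing_integralClosure : IsFractionRing (integralClosure B K) K :=
  Groth.Agent.Lib.Helper4.DVRDom.isFractionRing_of_le B (integralClosure B K).toSubring
    (fun b hb => (integralClosure B K).algebraMap_mem ⟨b, hb⟩)

theorem isDedekindDomain_integralClosure (hdim : ringKrullDim B ≤ 1) :
    IsDedekindDomain (integralClosure B K) := by
  have := isFractionRing_integralClosure B
  have := dimensionLEOne_of_ringKrullDim_le_one hdim
  rw [isDedekindDomain_iff (integralClosure B K) K]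
  refine ⟨inferInstance, isNoetherianRing_integralClosure B hdim, inferInstance, ?_⟩
  intro x hx
  have : IsIntegral B x := isIntegral_trans x hx
  exact ⟨⟨x, this⟩, rfl⟩

omit [IsFractionRing B K] [IsNoetherianRing B] in
theorem algebraMap_integralClosure_injective :
    Function.Injective (algebraMap B (integralClosure B K)) := by
  intro a b hab
  have := congrArg (fun z : integralClosure B K => (z : K)) hab
  exact Subtype.ext this

omit [IsNoetherianRing B] in
/-- A common denominator for the powers of an integral element. -/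
theorem exists_conductor_pow {y : K} (hy : IsIntegral B y) :
    ∃ c : B, c ≠ 0 ∧ ∀ j : ℕ, (c : K) * y ^ j ∈ B := by
  obtain ⟨c, hc, hcI⟩ := FractionalIdeal.isFractional_of_fg (S := nonZeroDivisors B)
    hy.fg_adjoin_singleton
  refine ⟨c, nonZeroDivisors.ne_zero hc, fun j => ?_⟩
  have hmem : y ^ j ∈ Subalgebra.toSubmodule (Algebra.adjoin B {y}) :=
    (Subalgebra.mem_toSubmodule _).mpr
      (Subalgebra.pow_mem _ (Algebra.subset_adjoin (Set.mem_singleton y)) j)
  obtain ⟨b, hb⟩ := hcI (y ^ j) hmem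
  rw [Algebra.smul_def] at hb
  have h1 : (c : K) * y ^ j = (b : K) := hb.symm
  rw [h1]
  exact b.2

omit [IsFractionRing B K] [IsNoetherianRing B] in
/-- If `z = τ c` with `τ` integral over `B` and `c z ^ j ∈ B` for all `j`, then a positive power of
`z` lies in `B`. -/
theorem exists_pow_mem_of_isIntegral_of_mul_eq {c : B} {z τ : K} (hτ : IsIntegral B τ)
    (hcz : ∀ j : ℕ, (c : K) * z ^ j ∈ B) (hτz : τ * (c : K) = z) :
    ∃ d : ℕ, 1 ≤ d ∧ z ^ d ∈ B := by
  obtain ⟨p, hpm, hp⟩ := hτ
  obtain ⟨d, hd⟩ : ∃ d : ℕ, d = p.natDegree := ⟨_, rfl⟩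
  have hd1 : 1 ≤ d := by
    rw [hd, Nat.one_le_iff_ne_zero]
    intro h0
    rw [Polynomial.Monic.natDegree_eq_zero hpm] at h0
    rw [h0, Polynomial.eval₂_one] at hp
    exact one_ne_zero hp
  have key : z ^ d = - ∑ i ∈ Finset.range d,
      ((p.coeff i : B) : K) * (c : K) ^ (d - 1 - i) * ((c : K) * z ^ i) := by
    have h1 := hp
    rw [Polynomial.eval₂_eq_sum_range, ← hd, Finset.sum_range_succ, hd, hpm.coeff_natDegree,
      map_one, one_mul, ← hd] at h1
    have h2 : z ^ d = τ ^ d * (c : K) ^ d := by rw [← hτz, mul_pow]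
    have h3 : (∑ i ∈ Finset.range d, ((p.coeff i : B) : K) * (c : K) ^ (d - 1 - i) *
        ((c : K) * z ^ i)) =
        (∑ i ∈ Finset.range d, algebraMap B K (p.coeff i) * τ ^ i) * (c : K) ^ d := by
      rw [Finset.sum_mul]
      refine Finset.sum_congr rfl fun i hi => ?_
      have hi' : i < d := Finset.mem_range.mp hi
      have hdi : d = (d - 1 - i) + 1 + i := by omega
      have h4 : (c : K) ^ d = (c : K) ^ (d - 1 - i) * (c : K) * (c : K) ^ i := by
        conv_lhs => rw [hdi]
        rw [pow_add, pow_succ]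
      rw [h4, ← hτz, mul_pow]
      change ((p.coeff i : B) : K) * _ * _ = ((p.coeff i : B) : K) * _ * _
      ring
    rw [h3, h2, eq_neg_iff_add_eq_zero, ← add_mul, add_comm, h1, zero_mul]
  refine ⟨d, hd1, ?_⟩
  rw [key]
  exact B.neg_mem (B.sum_mem fun i _ =>
    B.mul_mem (B.mul_mem (p.coeff i).2 (B.pow_mem c.2 _)) (hcz i))

/-- A positive power of an element of the Jacobson radical of the integral closure lies in `B`. -/
theorem exists_pow_mem_of_mem_jacobson_integralClosure (hdim : ringKrullDim B ≤ 1)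
    {σ : integralClosure B K} (hσj : σ ∈ Ideal.jacobson (⊥ : Ideal (integralClosure B K))) :
    ∃ m : ℕ, 1 ≤ m ∧ (σ : K) ^ m ∈ B := by
  have hSD : IsDedekindDomain (integralClosure B K) := isDedekindDomain_integralClosure B hdim
  have hSN : IsNoetherianRing (integralClosure B K) := isNoetherianRing_integralClosure B hdim
  have hinj := algebraMap_integralClosure_injective B (K := K)
  obtain ⟨c, hc0, hcpow⟩ := exists_conductor_pow B σ.2
  have hdimS : ringKrullDim (integralClosure B K) ≤ 1 := Ring.krullDimLE_iff.mp inferInstance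
  obtain ⟨cS, hcS⟩ : ∃ cS : integralClosure B K, cS = algebraMap B (integralClosure B K) c :=
    ⟨_, rfl⟩
  have hcS0 : cS ≠ 0 := by
    rw [hcS]
    exact fun h => hc0 (hinj (by rw [h, map_zero]))
  have hcSK : (cS : K) = (c : K) := by rw [hcS]; rfl
  obtain ⟨n₀, hn₀⟩ := exists_pow_mem_span hdimS hσj hcS0
  have hn : σ ^ (n₀ + 1) ∈ Ideal.span {cS} := by
    rw [pow_succ]
    exact Ideal.mul_mem_right _ _ hn₀
  rw [Ideal.mem_span_singleton'] at hn
  obtain ⟨τ, hτ⟩ := hn
  have hτK : (τ : K) * (c : K) = (σ : K) ^ (n₀ + 1) := by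
    have h1 := congrArg (fun z : integralClosure B K => (z : K)) hτ
    simp only [Subalgebra.coe_mul, Subalgebra.coe_pow] at h1
    rw [hcSK] at h1
    exact h1
  have hcz : ∀ j : ℕ, (c : K) * ((σ : K) ^ (n₀ + 1)) ^ j ∈ B := fun j => by
    rw [← pow_mul]
    exact hcpow _
  obtain ⟨d, hd1, hd⟩ := exists_pow_mem_of_isIntegral_of_mul_eq B τ.2 hcz hτK
  refine ⟨(n₀ + 1) * d, Nat.mul_pos (Nat.succ_pos _) hd1, ?_⟩
  rw [pow_mul]
  exact hd

omit [IsFractionRing B K] [IsNoetherianRing B] in
/-- An element of `B` which is a positive power of an element of the Jacobson radical of the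
integral closure lies in the Jacobson radical of `B`. -/
theorem mem_jacobson_of_eq_pow {σ : integralClosure B K}
    (hσ : ∀ J : Ideal (integralClosure B K), J.IsMaximal → σ ∈ J) {m : ℕ} (hm : 1 ≤ m)
    (β : B) (hβ : (β : K) = (σ : K) ^ m) : β ∈ Ideal.jacobson (⊥ : Ideal B) := by
  have hinj := algebraMap_integralClosure_injective B (K := K)
  rw [Ideal.jacobson, Ideal.mem_sInf]
  rintro J ⟨-, hJ⟩
  have hker : RingHom.ker (algebraMap B (integralClosure B K)) ≤ J := by
    rw [(RingHom.injective_iff_ker_eq_bot _).mp hinj]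
    exact bot_le
  obtain ⟨Q, hQmax, hQ⟩ := Ideal.exists_ideal_over_maximal_of_isIntegral
    (S := integralClosure B K) J hker
  rw [← hQ, Ideal.mem_comap]
  have h1 : algebraMap B (integralClosure B K) β = σ ^ m := by
    apply Subtype.ext
    change (β : K) = ((σ ^ m : integralClosure B K) : K)
    rw [Subalgebra.coe_pow, hβ]
  rw [h1]
  exact Ideal.pow_mem_of_mem Q (hσ Q hQmax) m hm

/-- Stacks, Varieties, Lemma 09N8 (one ring): if `A` and the semilocal one-dimensional Noetherian
domain `B` generate their common fraction field `K`, then some `x ∈ A` has `x⁻¹ ∈ rad B`. -/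
theorem exists_mem_inv_mem_jacobson (A : Subring K)
    (hdim : ringKrullDim B = 1) [Finite (MaximalSpectrum B)] (hgen : A ⊔ B = ⊤) :
    ∃ x : K, x ∈ A ∧ x ≠ 0 ∧ ∃ h : x⁻¹ ∈ B, (⟨x⁻¹, h⟩ : B) ∈ Ideal.jacobson (⊥ : Ideal B) := by
  classical
  have hdim' : ringKrullDim B ≤ 1 := le_of_eq hdim
  have hBnf : ¬ IsField B := by
    intro hf
    have h0 := ringKrullDim_eq_zero_of_isField hf
    rw [hdim] at h0
    exact one_ne_zero h0
  obtain ⟨u, hu0, huj⟩ := exists_ne_zero_mem_jacobson B hBnf
  have hSD : IsDedekindDomain (integralClosure B K) := isDedekindDomain_integralClosure B hdim'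
  have hSF : IsFractionRing (integralClosure B K) K := isFractionRing_integralClosure B
  have hinj := algebraMap_integralClosure_injective B (K := K)
  have hSnf : ¬ IsField (integralClosure B K) := fun hf =>
    hBnf (isField_of_isIntegral_of_isField hinj hf)
  -- every height one prime of the integral closure contains `u`
  obtain ⟨uS, huS⟩ : ∃ uS : integralClosure B K, uS = algebraMap B (integralClosure B K) u :=
    ⟨_, rfl⟩
  have huS0 : uS ≠ 0 := by
    rw [huS]
    exact fun h => hu0 (hinj (by rw [h, map_zero]))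
  have hall : ∀ v : HeightOneSpectrum (integralClosure B K), v.asIdeal ∣ Ideal.span {uS} := by
    intro v
    rw [Ideal.dvd_iff_le, Ideal.span_singleton_le_iff_mem]
    have hvmax : v.asIdeal.IsMaximal := v.isMaximal
    have hmax : (v.asIdeal.comap (algebraMap B (integralClosure B K))).IsMaximal :=
      Ideal.isMaximal_comap_of_isIntegral_of_isMaximal v.asIdeal
    have h1 : u ∈ v.asIdeal.comap (algebraMap B (integralClosure B K)) := by
      rw [Ideal.jacobson, Ideal.mem_sInf] at huj
      exact huj ⟨bot_le, hmax⟩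
    rw [huS]
    exact h1
  have hfin : (Set.univ : Set (HeightOneSpectrum (integralClosure B K))).Finite := by
    have h1 := Ideal.finite_factors (I := Ideal.span {uS}) (by simpa using huS0)
    exact h1.subset (fun v _ => hall v)
  -- poles
  have hpole : ∀ v : HeightOneSpectrum (integralClosure B K), ∃ y ∈ A, 1 < v.valuation K y := by
    intro v
    by_contra hcon
    push Not at hcon
    have hA : A ≤ (v.valuation K).valuationSubring.toSubring := fun a ha =>
      (Valuation.mem_valuationSubring_iff _ _).mpr (hcon a ha)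
    have hB : B ≤ (v.valuation K).valuationSubring.toSubring := fun b hb => by
      have h1 := v.valuation_le_one (K := K) (algebraMap B (integralClosure B K) ⟨b, hb⟩)
      exact (Valuation.mem_valuationSubring_iff _ _).mpr h1
    have htop : ∀ z : K, v.valuation K z ≤ 1 := fun z =>
      (Valuation.mem_valuationSubring_iff _ _).mp ((sup_le hA hB) (hgen ▸ Subring.mem_top z))
    obtain ⟨π, hπ, hπ0⟩ := Submodule.exists_mem_ne_zero_of_ne_bot v.ne_bot
    have h1 : v.valuation K (algebraMap (integralClosure B K) K π) < 1 :=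
      (v.valuation_lt_one_iff_mem (K := K) π).mpr hπ
    have hπK : algebraMap (integralClosure B K) K π ≠ 0 := by
      intro h
      exact hπ0 (Subtype.ext h)
    have h2 := htop (algebraMap (integralClosure B K) K π)⁻¹
    rw [map_inv₀] at h2
    have h3 : 1 < (v.valuation K (algebraMap (integralClosure B K) K π))⁻¹ :=
      (one_lt_inv₀ (zero_lt_iff.mpr ((Valuation.ne_zero_iff _).mpr hπK))).mpr h1
    exact absurd h2 (not_le.mpr h3)
  obtain ⟨x, hxA, hx⟩ := exists_forall_one_lt_valuation A hfin.toFinset (fun v _ => hpole v)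
  have hx' : ∀ v : HeightOneSpectrum (integralClosure B K), 1 < v.valuation K x := fun v =>
    hx v (by simp)
  obtain ⟨P, hP⟩ := Ideal.exists_maximal (integralClosure B K)
  have hPne : P ≠ ⊥ := Ring.ne_bot_of_isMaximal_of_not_isField hP hSnf
  have hx0 : x ≠ 0 := by
    rintro rfl
    have h1 := hx' ⟨P, hP.isPrime, hPne⟩
    simp at h1
  have hy : ∀ v : HeightOneSpectrum (integralClosure B K), v.valuation K x⁻¹ < 1 := by
    intro v
    rw [map_inv₀]
    exact inv_lt_one_of_one_lt₀ (hx' v)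
  obtain ⟨σ, hσ⟩ := HeightOneSpectrum.mem_integers_of_valuation_le_one K x⁻¹
    (fun v => (hy v).le)
  have hσK : (σ : K) = x⁻¹ := hσ
  have hσmem : ∀ v : HeightOneSpectrum (integralClosure B K), σ ∈ v.asIdeal := fun v =>
    (v.valuation_lt_one_iff_mem (K := K) σ).mp (by have h1 := hy v; rw [← hσ] at h1; exact h1)
  have hσmax : ∀ J : Ideal (integralClosure B K), J.IsMaximal → σ ∈ J := fun J hJ =>
    hσmem ⟨J, hJ.isPrime, Ring.ne_bot_of_isMaximal_of_not_isField hJ hSnf⟩
  have hσj : σ ∈ Ideal.jacobson (⊥ : Ideal (integralClosure B K)) := by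
    rw [Ideal.jacobson, Ideal.mem_sInf]
    rintro J ⟨-, hJ⟩
    exact hσmax J hJ
  obtain ⟨m, hm1, hmB⟩ := exists_pow_mem_of_mem_jacobson_integralClosure B hdim' hσj
  rw [hσK] at hmB
  have hmB' : (x ^ m)⁻¹ ∈ B := by rw [← inv_pow]; exact hmB
  refine ⟨x ^ m, A.pow_mem hxA m, pow_ne_zero m hx0, hmB', ?_⟩
  exact mem_jacobson_of_eq_pow B hσmax hm1 ⟨(x ^ m)⁻¹, hmB'⟩ (by rw [hσK, inv_pow])

end IntegralClosure

theorem one_add_algebraMap_ne_zero {C : Type*} [CommRing C] [Algebra C K]
    {x : C} (hx : x ∈ Ideal.jacobson (⊥ : Ideal C)) : 1 + algebraMap C K x ≠ 0 := by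
  have h1 : IsUnit (x * 1 + 1) := Ideal.mem_jacobson_bot.mp hx 1
  have h2 := (h1.map (algebraMap C K)).ne_zero
  rw [mul_one, map_add, map_one, add_comm] at h2
  exact h2

theorem one_notMem_jacobson_bot {C : Type*} [CommRing C] [Nontrivial C] :
    (1 : C) ∉ Ideal.jacobson (⊥ : Ideal C) := by
  intro h
  have h1 : IsUnit ((1 : C) * (-1) + 1) := Ideal.mem_jacobson_bot.mp h (-1)
  simp at h1

/-- Key claim: if the semilocal one-dimensional Noetherian domains `A` and `B` generate their common
fraction field, then `1 ∈ rad A + rad B`. -/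
theorem exists_jacobson_add_eq_one (A B : Subring K) [IsFractionRing A K] [IsFractionRing B K]
    [IsNoetherianRing A] [IsNoetherianRing B]
    (hdimA : ringKrullDim A = 1) (hdimB : ringKrullDim B = 1)
    [Finite (MaximalSpectrum A)] [Finite (MaximalSpectrum B)] (hgen : A ⊔ B = ⊤) :
    ∃ s t : K, s + t = 1 ∧ ∃ (hsA : s ∈ A) (htB : t ∈ B),
      (⟨s, hsA⟩ : A) ∈ Ideal.jacobson (⊥ : Ideal A) ∧
      (⟨t, htB⟩ : B) ∈ Ideal.jacobson (⊥ : Ideal B) := by
  obtain ⟨x, hxA, hx0, hb, hbj⟩ := exists_mem_inv_mem_jacobson B A hdimB hgen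
  obtain ⟨y, hyB, hy0, ha, haj⟩ := exists_mem_inv_mem_jacobson A B hdimA (sup_comm A B ▸ hgen)
  have haxj : (⟨y⁻¹, ha⟩ : A) * ⟨x, hxA⟩ ∈ Ideal.jacobson (⊥ : Ideal A) :=
    Ideal.mul_mem_right _ _ haj
  have hbyj : (⟨x⁻¹, hb⟩ : B) * ⟨y, hyB⟩ ∈ Ideal.jacobson (⊥ : Ideal B) :=
    Ideal.mul_mem_right _ _ hbj
  obtain ⟨w, hw⟩ := exists_inv_one_add (K := K) haxj
  obtain ⟨w', hw'⟩ := exists_inv_one_add (K := K) hbyj
  have h1 : 1 + y⁻¹ * x ≠ 0 := one_add_algebraMap_ne_zero (K := K) haxj
  have h2 : 1 + x⁻¹ * y ≠ 0 := one_add_algebraMap_ne_zero (K := K) hbyj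
  have hw1 : (1 + y⁻¹ * x)⁻¹ = (w : K) := hw
  have hw2 : (1 + x⁻¹ * y)⁻¹ = (w' : K) := hw'
  refine ⟨y⁻¹ * x * (1 + y⁻¹ * x)⁻¹, x⁻¹ * y * (1 + x⁻¹ * y)⁻¹, ?_, ?_, ?_, ?_, ?_⟩
  · have h3 : x + y ≠ 0 := by
      intro h
      apply h1
      have : 1 + y⁻¹ * x = y⁻¹ * (x + y) := by field_simp; ring
      rw [this, h, mul_zero]
    have e1 : 1 + y⁻¹ * x = (x + y) / y := by field_simp; ring
    have e2 : 1 + x⁻¹ * y = (x + y) / x := by field_simp
    rw [e1, e2, inv_div, inv_div]
    field_simp
  · rw [hw1]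
    exact A.mul_mem (A.mul_mem ha hxA) w.2
  · rw [hw2]
    exact B.mul_mem (B.mul_mem hb hyB) w'.2
  · have : (⟨y⁻¹ * x * (1 + y⁻¹ * x)⁻¹, by rw [hw1]; exact A.mul_mem (A.mul_mem ha hxA) w.2⟩ : A) =
        (⟨y⁻¹, ha⟩ : A) * ⟨x, hxA⟩ * w := by
      apply Subtype.ext
      simp only [Subring.coe_mul]
      rw [hw1]
    rw [this]
    exact Ideal.mul_mem_right _ _ haxj
  · have : (⟨x⁻¹ * y * (1 + x⁻¹ * y)⁻¹, by rw [hw2]; exact B.mul_mem (B.mul_mem hb hyB) w'.2⟩ : B) =
        (⟨x⁻¹, hb⟩ : B) * ⟨y, hyB⟩ * w' := by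
      apply Subtype.ext
      simp only [Subring.coe_mul]
      rw [hw2]
    rw [this]
    exact Ideal.mul_mem_right _ _ hbyj

/-- Stacks, Varieties, Lemma 09N9: glueing two semilocal one-dimensional Noetherian domains. -/
theorem glue_semilocal (A B : Subring K) [IsFractionRing A K] [IsFractionRing B K]
    [IsNoetherianRing A] [IsNoetherianRing B]
    (hdimA : ringKrullDim A = 1) (hdimB : ringKrullDim B = 1)
    [Finite (MaximalSpectrum A)] [Finite (MaximalSpectrum B)] (hgen : A ⊔ B = ⊤) :
    IsOpenImmersion (Spec.map (CommRingCat.ofHom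
      (Subring.inclusion (inf_le_left : A ⊓ B ≤ A)))) ∧
    IsOpenImmersion (Spec.map (CommRingCat.ofHom
      (Subring.inclusion (inf_le_right : A ⊓ B ≤ B)))) ∧
    Set.range (Spec.map (CommRingCat.ofHom
        (Subring.inclusion (inf_le_left : A ⊓ B ≤ A)))).base ∪
      Set.range (Spec.map (CommRingCat.ofHom
        (Subring.inclusion (inf_le_right : A ⊓ B ≤ B)))).base = Set.univ ∧
    IsPushout (CommRingCat.ofHom (Subring.inclusion (inf_le_left : A ⊓ B ≤ A)))
      (CommRingCat.ofHom (Subring.inclusion (inf_le_right : A ⊓ B ≤ B)))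
      (CommRingCat.ofHom A.subtype) (CommRingCat.ofHom B.subtype) := by
  obtain ⟨s, t, hst, hsA, htB, hsj, htj⟩ := exists_jacobson_add_eq_one A B hdimA hdimB hgen
  have hs0 : s ≠ 0 := by
    rintro rfl
    rw [zero_add] at hst
    subst hst
    exact one_notMem_jacobson_bot htj
  have ht0 : t ≠ 0 := by
    rintro rfl
    rw [add_zero] at hst
    subst hst
    exact one_notMem_jacobson_bot hsj
  have hsB : s ∈ B := by
    have : s = 1 - t := by rw [← hst]; ring
    rw [this]
    exact B.sub_mem B.one_mem htB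
  have htA : t ∈ A := by
    have : t = 1 - s := by rw [← hst]; ring
    rw [this]
    exact A.sub_mem A.one_mem hsA
  have htinv : t⁻¹ ∈ A := by
    obtain ⟨w, hw⟩ := exists_inv_one_add (K := K) (Ideal.neg_mem_iff _ |>.mpr hsj)
    have h1 : t = 1 + algebraMap A K (-⟨s, hsA⟩) := by
      change t = 1 + (-s)
      rw [← hst]; ring
    rw [h1, hw]
    exact w.2
  have hsinv : s⁻¹ ∈ B := by
    obtain ⟨w, hw⟩ := exists_inv_one_add (K := K) (Ideal.neg_mem_iff _ |>.mpr htj)
    have h1 : s = 1 + algebraMap B K (-⟨t, htB⟩) := by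
      change s = 1 + (-t)
      rw [← hst]; ring
    rw [h1, hw]
    exact w.2
  have hst0 : s + t ≠ 0 := by rw [hst]; exact one_ne_zero
  have hstA : (s + t)⁻¹ ∈ A := by rw [hst, inv_one]; exact A.one_mem
  have hstB : (s + t)⁻¹ ∈ B := by rw [hst, inv_one]; exact B.one_mem
  have hpowA : ∀ x : K, ∃ n : ℕ, s ^ n * x ∈ A := fun x =>
    exists_pow_mul_mem A (le_of_eq hdimA) hsj x
  have hpowB : ∀ x : K, ∃ n : ℕ, t ^ n * x ∈ B := fun x =>
    exists_pow_mul_mem B (le_of_eq hdimB) htj x
  exact glue A B s t hs0 ht0 hst0 hsA hsB htA htB htinv hsinv hstA hstB hpowA hpowB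


end Groth.Agent.Lib.Helper5.GlueDimOne
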