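import Mathlib
import Groth.Agent.Lib.Helper5GlueSemilocal
import Groth.Agent.S7663

/-!
# Glueing a finite family of semilocal one-dimensional rings inside a field (helper5)

Stacks, Varieties, Lemma 09NA: pairwise "generating" Noetherian semilocal one-dimensional subrings
`A i` of a field `K` glue to their intersection.
-/

set_option autoImplicit false
universe u

namespace Groth.Agent.Lib.Helper5.GlueDimOne

open AlgebraicGeometry CategoryTheory

variable {K : Type u} [Field K]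

/-- The glueing data of Stacks 09N9: `s ∈ rad A`, `t ∈ rad B`, `s + t = 1`. -/
theorem exists_glue_data (A B : Subring K) [IsFractionRing A K] [IsFractionRing B K]
    [IsNoetherianRing A] [IsNoetherianRing B]
    (hdimA : ringKrullDim A = 1) (hdimB : ringKrullDim B = 1)
    [Finite (MaximalSpectrum A)] [Finite (MaximalSpectrum B)] (hgen : A ⊔ B = ⊤) :
    ∃ s t : K, s + t = 1 ∧ s ≠ 0 ∧ t ≠ 0 ∧ s ∈ A ⊓ B ∧ t ∈ A ⊓ B ∧ t⁻¹ ∈ A ∧ s⁻¹ ∈ B ∧
      (∀ x : K, ∃ n : ℕ, s ^ n * x ∈ A) ∧ (∀ x : K, ∃ n : ℕ, t ^ n * x ∈ B) ∧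
      (∃ hsA : s ∈ A, (⟨s, hsA⟩ : A) ∈ Ideal.jacobson (⊥ : Ideal A)) ∧
      (∃ htB : t ∈ B, (⟨t, htB⟩ : B) ∈ Ideal.jacobson (⊥ : Ideal B)) := by
  obtain ⟨s, t, hst, hsA, htB, hsj, htj⟩ := exists_jacobson_add_eq_one A B hdimA hdimB hgen
  have hs0 : s ≠ 0 := by
    rintro rfl
    rw [zero_add] at hst
    subst hst
    exact one_notMem_jacobson_bot htj
  have ht0 : t ≠ 0 := by
    rintro rfl
    rw [add_zero] at hst
    subst hst
    exact one_notMem_jacobson_bot hsj
  have hsB : s ∈ B := by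
    have : s = 1 - t := by rw [← hst]; ring
    rw [this]
    exact B.sub_mem B.one_mem htB
  have htA : t ∈ A := by
    have : t = 1 - s := by rw [← hst]; ring
    rw [this]
    exact A.sub_mem A.one_mem hsA
  have htinv : t⁻¹ ∈ A := by
    obtain ⟨w, hw⟩ := exists_inv_one_add (K := K) (Ideal.neg_mem_iff _ |>.mpr hsj)
    have h1 : t = 1 + algebraMap A K (-⟨s, hsA⟩) := by
      change t = 1 + (-s)
      rw [← hst]; ring
    rw [h1, hw]
    exact w.2
  have hsinv : s⁻¹ ∈ B := by
    obtain ⟨w, hw⟩ := exists_inv_one_add (K := K) (Ideal.neg_mem_iff _ |>.mpr htj)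
    have h1 : s = 1 + algebraMap B K (-⟨t, htB⟩) := by
      change s = 1 + (-t)
      rw [← hst]; ring
    rw [h1, hw]
    exact w.2
  exact ⟨s, t, hst, hs0, ht0, ⟨hsA, hsB⟩, ⟨htA, htB⟩, htinv, hsinv,
    fun x => exists_pow_mul_mem A (le_of_eq hdimA) hsj x,
    fun x => exists_pow_mul_mem B (le_of_eq hdimB) htj x, ⟨hsA, hsj⟩, ⟨htB, htj⟩⟩

theorem eq_one_of_le_one_of_not_le_zero (d : WithBot ℕ∞) (h1 : d ≤ 1) (h0 : ¬ d ≤ 0) : d = 1 := by
  induction d using WithBot.recBotCoe with
  | bot => exact absurd bot_le h0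
  | coe n =>
    have h1' : n ≤ 1 := by exact_mod_cast h1
    have h0' : ¬ n ≤ 0 := by
      intro h
      apply h0
      exact_mod_cast h
    have h2 : n = 1 := le_antisymm h1' (ENat.one_le_iff_ne_zero.mpr (by simpa using h0'))
    rw [h2]
    rfl

/-- A domain of dimension at most one which is not a field has dimension one. -/
theorem ringKrullDim_eq_one_of_dimensionLEOne {C : Type*} [CommRing C] [IsDomain C]
    [Ring.DimensionLEOne C] (h : ¬ IsField C) : ringKrullDim C = 1 := by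
  refine eq_one_of_le_one_of_not_le_zero _ (Ring.krullDimLE_iff.mp inferInstance) ?_
  intro h0
  have : Ring.KrullDimLE 0 C := Ring.krullDimLE_iff.mpr h0
  exact h Ring.KrullDimLE.isField_of_isDomain

section Chart

variable (R A : Subring K) (h : R ≤ A) (t : R)
  (hloc : @IsLocalization.Away R _ t A _ (Subring.inclusion h).toAlgebra)

include hloc in
/-- In a chart of dimension at most one, there is no room between a nonzero prime and a prime
containing it. -/
theorem eq_of_le_of_notMem_of_away [Ring.DimensionLEOne A] {p q : Ideal R} (hp : p.IsPrime)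
    (hq : q.IsPrime) (hpq : p ≤ q) (hp0 : p ≠ ⊥) (htq : t ∉ q) : p = q := by
  let _ : Algebra R A := (Subring.inclusion h).toAlgebra
  have hinj : Function.Injective (algebraMap R A) := Subring.inclusion_injective h
  have htp : t ∉ p := fun h' => htq (hpq h')
  have hdp : Disjoint (Submonoid.powers t : Set R) p :=
    (Ideal.disjoint_powers_iff_notMem_of_isPrime t).mpr htp
  have hdq : Disjoint (Submonoid.powers t : Set R) q :=
    (Ideal.disjoint_powers_iff_notMem_of_isPrime t).mpr htq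
  have hP : (p.map (algebraMap R A)).IsPrime :=
    IsLocalization.isPrime_of_isPrime_disjoint (Submonoid.powers t) A p hp hdp
  have hQ : (q.map (algebraMap R A)).IsPrime :=
    IsLocalization.isPrime_of_isPrime_disjoint (Submonoid.powers t) A q hq hdq
  have hcp : (p.map (algebraMap R A)).comap (algebraMap R A) = p :=
    IsLocalization.under_map_of_isPrime_disjoint (Submonoid.powers t) A hp hdp
  have hcq : (q.map (algebraMap R A)).comap (algebraMap R A) = q :=
    IsLocalization.under_map_of_isPrime_disjoint (Submonoid.powers t) A hq hdq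
  have hPne : p.map (algebraMap R A) ≠ ⊥ := by
    intro h0
    apply hp0
    rw [← hcp, h0, Ideal.comap_bot_of_injective _ hinj]
  have hPmax : (p.map (algebraMap R A)).IsMaximal := hP.isMaximal hPne
  have h1 : p.map (algebraMap R A) = q.map (algebraMap R A) :=
    hPmax.eq_of_le hQ.ne_top (Ideal.map_mono hpq)
  rw [← hcp, h1, hcq]

include hloc in
/-- A maximal ideal of `R` not containing `t` is the contraction of a maximal ideal of the chart. -/
theorem exists_isMaximal_comap_eq_of_away {m : Ideal R} (hm : m.IsMaximal) (htm : t ∉ m) :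
    ∃ M : Ideal A, M.IsMaximal ∧ M.comap (Subring.inclusion h) = m := by
  let _ : Algebra R A := (Subring.inclusion h).toAlgebra
  have hdm : Disjoint (Submonoid.powers t : Set R) m :=
    (Ideal.disjoint_powers_iff_notMem_of_isPrime t).mpr htm
  have hM : (m.map (algebraMap R A)).IsPrime :=
    IsLocalization.isPrime_of_isPrime_disjoint (Submonoid.powers t) A m hm.isPrime hdm
  have hcm : (m.map (algebraMap R A)).comap (algebraMap R A) = m :=
    IsLocalization.under_map_of_isPrime_disjoint (Submonoid.powers t) A hm.isPrime hdm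
  refine ⟨m.map (algebraMap R A), ?_, hcm⟩
  rw [Ideal.isMaximal_def]
  refine ⟨hM.ne_top, fun J hJ => ?_⟩
  by_contra hJtop
  have h1 : m ≤ J.comap (algebraMap R A) := by
    rw [← hcm]
    exact Ideal.comap_mono hJ.le
  have h2 : J.comap (algebraMap R A) ≠ ⊤ := by
    intro h3
    apply hJtop
    rw [Ideal.eq_top_iff_one] at h3 ⊢
    have := Ideal.mem_comap.mp h3
    rwa [map_one] at this
  have h3 : m = J.comap (algebraMap R A) := hm.eq_of_le h2 h1
  have h4 : Ideal.map (algebraMap R A) (J.comap (algebraMap R A)) = J :=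
    IsLocalization.map_under (Submonoid.powers t) A J
  rw [← h3] at h4
  exact hJ.ne h4

include hloc in
theorem isNoetherianRing_localization_away_of_away [IsNoetherianRing A] :
    IsNoetherianRing (Localization.Away t) := by
  let _ : Algebra R A := (Subring.inclusion h).toAlgebra
  have e : Localization.Away t ≃ₐ[R] A :=
    IsLocalization.algEquiv (Submonoid.powers t) (Localization.Away t) A
  exact isNoetherianRing_of_ringEquiv A e.symm.toRingEquiv

end Chart


/-- Ring-theoretic properties of a ring covered by two charts. -/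
theorem two_charts (R A B : Subring K) (hA : R ≤ A) (hB : R ≤ B) (s t : R) (hst : s + t = 1)
    (hlocA : @IsLocalization.Away R _ t A _ (Subring.inclusion hA).toAlgebra)
    (hlocB : @IsLocalization.Away R _ s B _ (Subring.inclusion hB).toAlgebra)
    [IsNoetherianRing A] [IsNoetherianRing B] [Ring.DimensionLEOne A] [Ring.DimensionLEOne B]
    [Finite (MaximalSpectrum A)] [Finite (MaximalSpectrum B)] :
    IsNoetherianRing R ∧ Ring.DimensionLEOne R ∧ Finite (MaximalSpectrum R) := by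
  classical
  have hor : ∀ q : Ideal R, q ≠ ⊤ → s ∉ q ∨ t ∉ q := by
    intro q hq
    by_contra hcon
    push Not at hcon
    apply hq
    rw [Ideal.eq_top_iff_one, ← hst]
    exact Ideal.add_mem _ hcon.1 hcon.2
  refine ⟨?_, ?_, ?_⟩
  · refine isNoetherianRing_of_away ({s, t} : Finset R) ?_ ?_
    · rw [Ideal.eq_top_iff_one, ← hst]
      exact Ideal.add_mem _ (Ideal.subset_span (by simp)) (Ideal.subset_span (by simp))
    · rintro ⟨x, hx⟩
      rw [Finset.mem_insert, Finset.mem_singleton] at hx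
      rcases hx with rfl | rfl
      · exact isNoetherianRing_localization_away_of_away R B hB x hlocB
      · exact isNoetherianRing_localization_away_of_away R A hA x hlocA
  · refine ⟨fun {p} hp0 hp => ?_⟩
    obtain ⟨q, hq, hpq⟩ := Ideal.exists_le_maximal p hp.ne_top
    have hpq' : p = q := by
      rcases hor q hq.ne_top with hs | ht
      · exact eq_of_le_of_notMem_of_away R B hB s hlocB hp hq.isPrime hpq hp0 hs
      · exact eq_of_le_of_notMem_of_away R A hA t hlocA hp hq.isPrime hpq hp0 ht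
    rw [hpq']
    exact hq
  · let f : MaximalSpectrum A ⊕ MaximalSpectrum B → Ideal R :=
      Sum.elim (fun M => M.asIdeal.comap (Subring.inclusion hA))
        (fun M => M.asIdeal.comap (Subring.inclusion hB))
    have hsub : ∀ m : MaximalSpectrum R, m.asIdeal ∈ Set.range f := by
      intro m
      rcases hor m.asIdeal m.isMaximal.ne_top with hs | ht
      · obtain ⟨M, hM, hMm⟩ := exists_isMaximal_comap_eq_of_away R B hB s hlocB m.isMaximal hs
        exact ⟨Sum.inr ⟨M, hM⟩, hMm⟩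
      · obtain ⟨M, hM, hMm⟩ := exists_isMaximal_comap_eq_of_away R A hA t hlocA m.isMaximal ht
        exact ⟨Sum.inl ⟨M, hM⟩, hMm⟩
    have hfin : Finite (Set.range f) := (Set.finite_range f).to_subtype
    refine Finite.of_injective (fun m : MaximalSpectrum R => (⟨m.asIdeal, hsub m⟩ : Set.range f)) ?_
    intro m m' hmm
    exact MaximalSpectrum.ext (congrArg Subtype.val hmm)


/-- `R` is a semilocal one-dimensional Noetherian domain with fraction field `K`, covered by the
charts `A i = R[1/t i]`, `i ∈ S`. -/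
structure Good {ι : Type*} (R : Subring K) (S : Finset ι) (A : ι → Subring K) : Prop where
  noeth : IsNoetherianRing R
  dim : ringKrullDim R = 1
  semilocal : Finite (MaximalSpectrum R)
  frac : IsFractionRing R K
  charts : ∃ t c : ι → K,
    (∀ i ∈ S, t i ∈ R ∧ t i ≠ 0 ∧ (t i)⁻¹ ∈ A i ∧ R ≤ A i ∧ ∀ x ∈ A i, ∃ n : ℕ, t i ^ n * x ∈ R) ∧
    (∀ i ∈ S, c i ∈ R) ∧ ∑ i ∈ S, c i * t i = 1

theorem good_singleton {ι : Type*} (A : ι → Subring K) (i : ι) [IsNoetherianRing (A i)]
    [IsFractionRing (A i) K] (hdim : ringKrullDim (A i) = 1)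
    (hsl : Finite (MaximalSpectrum (A i))) : Good (A i) {i} A where
  noeth := inferInstance
  dim := hdim
  semilocal := hsl
  frac := inferInstance
  charts := by
    refine ⟨fun _ => 1, fun _ => 1, ?_, ?_, ?_⟩
    · intro k hk
      rw [Finset.mem_singleton] at hk
      subst hk
      refine ⟨(A k).one_mem, one_ne_zero, by rw [inv_one]; exact (A k).one_mem, le_rfl, ?_⟩
      intro x hx
      exact ⟨0, by simpa using hx⟩
    · intro k _
      exact (A i).one_mem
    · simp

/-- A valuation ring containing `R` contains one of the charts. -/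
theorem Good.exists_le_valuationSubring {ι : Type*} {R : Subring K} {S : Finset ι}
    {A : ι → Subring K} (hG : Good R S A) (O : ValuationSubring K) (hRO : R ≤ O.toSubring) :
    ∃ i ∈ S, A i ≤ O.toSubring := by
  obtain ⟨t, c, hch, hc, hsum⟩ := hG.charts
  by_contra hcon
  push Not at hcon
  have hlt : ∀ i ∈ S, O.valuation (c i * t i) < 1 := by
    intro i hi
    obtain ⟨htR, ht0, htinv, hle, hpow⟩ := hch i hi
    have htO : t i ∈ O := hRO htR
    have hcO : c i ∈ O := hRO (hc i hi)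
    have hnu : t i ∈ O.nonunits := by
      by_contra hnu
      apply hcon i hi
      have hv : O.valuation (t i) = 1 :=
        le_antisymm ((O.valuation_le_one_iff _).mpr htO)
          (not_lt.mp fun h => hnu ((O.mem_nonunits_iff).mpr h))
      have hinvO : (t i)⁻¹ ∈ O :=
        (O.valuation_le_one_iff _).mp (by rw [map_inv₀, hv, inv_one])
      intro x hx
      obtain ⟨n, hn⟩ := hpow x hx
      have h1 : x = (t i)⁻¹ ^ n * (t i ^ n * x) := by
        rw [← mul_assoc, ← mul_pow, inv_mul_cancel₀ ht0, one_pow, one_mul]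
      rw [h1]
      exact O.mul_mem _ _ (O.toSubring.pow_mem hinvO n) (hRO hn)
    exact (O.mem_nonunits_iff).mp
      (Groth.Agent.Lib.Helper4.DVRDom.mul_mem_nonunits O hcO hnu)
  have h1 := O.valuation.map_sum_lt (one_ne_zero) hlt
  rw [hsum, Valuation.map_one] at h1
  exact lt_irrefl _ h1

theorem exists_uniform_pow_mul_mem {ι : Type*} (B : Subring K) {s : K} (hs : s ∈ B)
    (S : Finset ι) (f : ι → K) (hf : ∀ i ∈ S, ∃ n : ℕ, s ^ n * f i ∈ B) :
    ∃ N : ℕ, ∀ i ∈ S, s ^ N * f i ∈ B := by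
  classical
  induction S using Finset.induction_on with
  | empty => exact ⟨0, by simp⟩
  | insert j S hj ih =>
    obtain ⟨N₁, hN₁⟩ := ih (fun i hi => hf i (Finset.mem_insert_of_mem hi))
    obtain ⟨n, hn⟩ := hf j (Finset.mem_insert_self _ _)
    refine ⟨N₁ + n, fun i hi => ?_⟩
    rcases Finset.mem_insert.mp hi with rfl | hi
    · rw [pow_add, mul_assoc]
      exact B.mul_mem (B.pow_mem hs _) hn
    · rw [pow_add, mul_comm (s ^ N₁), mul_assoc]
      exact B.mul_mem (B.pow_mem hs _) (hN₁ i hi)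


theorem isFractionRing_of_pow (R' R : Subring K) [IsFractionRing R K] {s : K} (hs0 : s ≠ 0)
    (hsR' : s ∈ R') (hpow : ∀ x ∈ R, ∃ n : ℕ, s ^ n * x ∈ R') : IsFractionRing R' K := by
  have : FaithfulSMul R' K := (faithfulSMul_iff_algebraMap_injective R' K).mpr Subtype.val_injective
  refine IsFractionRing.of_field (R := R') (K := K) fun z => ?_
  obtain ⟨a, b, hb, rfl⟩ := IsFractionRing.div_surjective (A := R) z
  obtain ⟨n₁, hn₁⟩ := hpow a a.2
  obtain ⟨n₂, hn₂⟩ := hpow b b.2
  have h1 : s ^ (n₁ + n₂) * (a : K) ∈ R' := by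
    rw [pow_add, mul_comm (s ^ n₁), mul_assoc]
    exact R'.mul_mem (R'.pow_mem hsR' _) hn₁
  have h2 : s ^ (n₁ + n₂) * (b : K) ∈ R' := by
    rw [pow_add, mul_assoc]
    exact R'.mul_mem (R'.pow_mem hsR' _) hn₂
  refine ⟨⟨_, h1⟩, ⟨_, h2⟩, ?_⟩
  change (a : K) / (b : K) = (s ^ (n₁ + n₂) * (a : K)) / (s ^ (n₁ + n₂) * (b : K))
  rw [mul_div_mul_left _ _ (pow_ne_zero _ hs0)]

theorem chart_comp (R' R Ai : Subring K) {s ti : K} (N : ℕ) (hsR' : s ∈ R')
    (hti : s ^ N * ti ∈ R') (hpowR : ∀ y ∈ R, ∃ m : ℕ, s ^ m * y ∈ R')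
    (hpowA : ∀ x ∈ Ai, ∃ n : ℕ, ti ^ n * x ∈ R) :
    ∀ x ∈ Ai, ∃ n : ℕ, (s ^ (N + 1) * ti) ^ n * x ∈ R' := by
  intro x hx
  obtain ⟨n, hn⟩ := hpowA x hx
  obtain ⟨m, hm⟩ := hpowR _ hn
  refine ⟨n + m, ?_⟩
  have h1 : (s ^ (N + 1) * ti) ^ (n + m) * x =
      (s ^ N * ti) ^ m * s ^ ((N + 1) * n) * (s ^ m * (ti ^ n * x)) := by
    ring
  rw [h1]
  exact R'.mul_mem (R'.mul_mem (R'.pow_mem hti _) (R'.pow_mem hsR' _)) hm


/-- Inductive step: adding one more ring to a glued family. -/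
theorem Good.insert {ι : Type*} [DecidableEq ι] {R : Subring K} {S : Finset ι}
    {A : ι → Subring K} (hG : Good R S A) (j : ι) (hj : j ∉ S) [IsNoetherianRing (A j)]
    [IsFractionRing (A j) K] (hdim : ringKrullDim (A j) = 1)
    [Finite (MaximalSpectrum (A j))] (hgen : ∀ i ∈ S, A i ⊔ A j = ⊤) :
    Good (A j ⊓ R) (insert j S) A := by
  have hN := hG.noeth
  have hdimR := hG.dim
  have hslR := hG.semilocal
  have hF := hG.frac
  obtain ⟨t, c, hch, hc, hsum⟩ := hG.charts
  -- `A j` and `R` generate `K`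
  have hsup : A j ⊔ R = ⊤ := by
    by_contra hne
    obtain ⟨O, hO, hjO, hRO⟩ := (Groth.Agent.S7663.result K (A j) R hdim).mp hne
    obtain ⟨i, hi, hiO⟩ := hG.exists_le_valuationSubring O hRO
    have h1 : A i ⊔ A j ≤ O.toSubring := sup_le hiO hjO
    rw [hgen i hi] at h1
    exact dvr_ne_top O (top_le_iff.mp h1)
  obtain ⟨s, t₀, hst, hs0, ht0, hsR', htR', htinv, hsinv, hpowB, hpowR, ⟨hsB, hsj⟩, -⟩ :=
    exists_glue_data (A j) R hdim hdimR hsup
  have hpowB' : ∀ x ∈ R, ∃ n : ℕ, s ^ n * x ∈ A j ⊓ R := fun x hx => by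
    obtain ⟨n, hn⟩ := hpowB x
    exact ⟨n, hn, R.mul_mem (R.pow_mem hsR'.2 n) hx⟩
  have hpowR' : ∀ x ∈ A j, ∃ n : ℕ, t₀ ^ n * x ∈ A j ⊓ R := fun x hx => by
    obtain ⟨n, hn⟩ := hpowR x
    exact ⟨n, (A j).mul_mem ((A j).pow_mem htR'.1 n) hx, hn⟩
  have hlocB := isLocalization_away_inclusion (A j ⊓ R) (A j) inf_le_left t₀ ht0 htR' htinv hpowR'
  have hlocR := isLocalization_away_inclusion (A j ⊓ R) R inf_le_right s hs0 hsR' hsinv hpowB'
  have hDB : Ring.DimensionLEOne (A j) := dimensionLEOne_of_ringKrullDim_le_one (le_of_eq hdim)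
  have hDR : Ring.DimensionLEOne R := dimensionLEOne_of_ringKrullDim_le_one (le_of_eq hdimR)
  have hst' : (⟨s, hsR'⟩ : ↥(A j ⊓ R)) + ⟨t₀, htR'⟩ = 1 := Subtype.ext hst
  obtain ⟨hN', hD', hsl'⟩ := two_charts (A j ⊓ R) (A j) R inf_le_left inf_le_right
    ⟨s, hsR'⟩ ⟨t₀, htR'⟩ hst' hlocB hlocR
  have hnf : ¬ IsField ↥(A j ⊓ R) := by
    intro hf
    have hs'0 : (⟨s, hsR'⟩ : ↥(A j ⊓ R)) ≠ 0 := fun h => hs0 (congrArg Subtype.val h)
    obtain ⟨w, hw⟩ := hf.mul_inv_cancel hs'0
    have hwK : s * (w : K) = 1 := congrArg Subtype.val hw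
    have h1 : (⟨s, hsB⟩ : A j) * ⟨w, w.2.1⟩ = 1 := Subtype.ext hwK
    have h2 : (1 : A j) ∈ Ideal.jacobson (⊥ : Ideal (A j)) := h1 ▸ Ideal.mul_mem_right _ _ hsj
    exact one_notMem_jacobson_bot h2
  have hdim' : ringKrullDim ↥(A j ⊓ R) = 1 := ringKrullDim_eq_one_of_dimensionLEOne hnf
  have hF' : IsFractionRing ↥(A j ⊓ R) K := isFractionRing_of_pow (A j ⊓ R) R hs0 hsR' hpowB'
  -- a uniform exponent
  obtain ⟨N₁, hN₁⟩ := exists_uniform_pow_mul_mem (A j) hsB S c (fun i _ => hpowB (c i))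
  obtain ⟨N₂, hN₂⟩ := exists_uniform_pow_mul_mem (A j) hsB S t (fun i _ => hpowB (t i))
  obtain ⟨N, hN⟩ : ∃ N : ℕ, N = N₁ + N₂ := ⟨_, rfl⟩
  have hNc : ∀ i ∈ S, s ^ N * c i ∈ A j ⊓ R := fun i hi => by
    refine ⟨?_, R.mul_mem (R.pow_mem hsR'.2 N) (hc i hi)⟩
    rw [hN, pow_add, mul_comm (s ^ N₁), mul_assoc]
    exact (A j).mul_mem ((A j).pow_mem hsB _) (hN₁ i hi)
  have hNt : ∀ i ∈ S, s ^ N * t i ∈ A j ⊓ R := fun i hi => by
    refine ⟨?_, R.mul_mem (R.pow_mem hsR'.2 N) (hch i hi).1⟩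
    rw [hN, pow_add, mul_assoc]
    exact (A j).mul_mem ((A j).pow_mem hsB _) (hN₂ i hi)
  refine ⟨hN', hdim', hsl', hF', fun i => if i = j then t₀ else s ^ (N + 1) * t i,
    fun i => if i = j then ∑ l ∈ Finset.range (2 * N + 1), s ^ l else s ^ N * c i, ?_, ?_, ?_⟩
  · intro i hi
    by_cases hij : i = j
    · subst hij
      simp only [if_true]
      exact ⟨htR', ht0, htinv, inf_le_left, hpowR'⟩
    · have hiS : i ∈ S := (Finset.mem_insert.mp hi).resolve_left hij
      obtain ⟨htiR, hti0, htiinv, hle, hpowi⟩ := hch i hiS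
      simp only [if_neg hij]
      refine ⟨?_, mul_ne_zero (pow_ne_zero _ hs0) hti0, ?_, inf_le_right.trans hle, ?_⟩
      · rw [pow_succ, mul_comm (s ^ N), mul_assoc]
        exact (A j ⊓ R).mul_mem hsR' (hNt i hiS)
      · rw [mul_inv, ← inv_pow]
        exact (A i).mul_mem ((A i).pow_mem (hle hsinv) _) htiinv
      · exact chart_comp (A j ⊓ R) R (A i) N hsR' (hNt i hiS) hpowB' hpowi
  · intro i hi
    by_cases hij : i = j
    · subst hij
      simp only [if_true]
      exact (A i ⊓ R).sum_mem fun l _ => (A i ⊓ R).pow_mem hsR' l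
    · have hiS : i ∈ S := (Finset.mem_insert.mp hi).resolve_left hij
      simp only [if_neg hij]
      exact hNc i hiS
  · rw [Finset.sum_insert hj]
    simp only [if_true]
    have h1 : ∑ i ∈ S, (if i = j then ∑ l ∈ Finset.range (2 * N + 1), s ^ l else s ^ N * c i) *
        (if i = j then t₀ else s ^ (N + 1) * t i) = s ^ (2 * N + 1) * ∑ i ∈ S, c i * t i := by
      rw [Finset.mul_sum]
      refine Finset.sum_congr rfl fun i hi => ?_
      have hij : i ≠ j := fun h => hj (h ▸ hi)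
      rw [if_neg hij, if_neg hij]
      ring
    rw [h1, hsum, mul_one]
    have ht₀ : t₀ = 1 - s := by rw [← hst]; ring
    rw [ht₀, geom_sum_mul_neg]
    ring


theorem good_iInf {ι : Type*} [DecidableEq ι] (A : ι → Subring K) [∀ i, IsNoetherianRing (A i)]
    [∀ i, IsFractionRing (A i) K] (hdim : ∀ i, ringKrullDim (A i) = 1)
    (hsl : ∀ i, Finite (MaximalSpectrum (A i))) (hgen : ∀ i j, i ≠ j → A i ⊔ A j = ⊤)
    (S : Finset ι) (hS : S.Nonempty) : Good (⨅ i ∈ S, A i) S A := by
  induction hS using Finset.Nonempty.cons_induction with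
  | singleton i =>
    have h1 : (⨅ k ∈ ({i} : Finset ι), A k) = A i := by simp
    rw [h1]
    exact good_singleton A i (hdim i) (hsl i)
  | cons j S hj hS ih =>
    rw [Finset.cons_eq_insert, Finset.iInf_insert]
    have := hsl j
    exact ih.insert j hj (hdim j) (fun i hi => hgen i j (fun h => hj (h ▸ hi)))

/-- The subring of elements multiplied into `R` by a power of `d`. -/
def powSubring (R : Subring K) (d : K) (hd : d ∈ R) : Subring K where
  carrier := {z | ∃ N : ℕ, d ^ N * z ∈ R}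
  mul_mem' := by
    rintro a b ⟨n, hn⟩ ⟨m, hm⟩
    refine ⟨n + m, ?_⟩
    have h1 : d ^ (n + m) * (a * b) = (d ^ n * a) * (d ^ m * b) := by ring
    rw [h1]
    exact R.mul_mem hn hm
  one_mem' := ⟨0, by simp [R.one_mem]⟩
  add_mem' := by
    rintro a b ⟨n, hn⟩ ⟨m, hm⟩
    refine ⟨n + m, ?_⟩
    have h1 : d ^ (n + m) * (a + b) = d ^ m * (d ^ n * a) + d ^ n * (d ^ m * b) := by ring
    rw [h1]
    exact R.add_mem (R.mul_mem (R.pow_mem hd m) hn) (R.mul_mem (R.pow_mem hd n) hm)
  zero_mem' := ⟨0, by simp [R.zero_mem]⟩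
  neg_mem' := by
    rintro a ⟨n, hn⟩
    exact ⟨n, by rw [mul_neg]; exact R.neg_mem hn⟩

theorem Good.conclusion {ι : Type*} [Fintype ι] {R : Subring K} {A : ι → Subring K}
    (hG : Good R Finset.univ A) (hle : ∀ i, R ≤ A i)
    (hgen : ∀ i j, i ≠ j → A i ⊔ A j = ⊤) :
    (∀ i, IsOpenImmersion (Spec.map (CommRingCat.ofHom (Subring.inclusion (hle i))))) ∧
    (⋃ i, Set.range (Spec.map (CommRingCat.ofHom (Subring.inclusion (hle i)))).base) =
      Set.univ ∧
    (∀ m : PrimeSpectrum R, m.asIdeal.IsMaximal →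
      ∃! i, m ∈ Set.range (Spec.map (CommRingCat.ofHom (Subring.inclusion (hle i)))).base) := by
  classical
  have hN := hG.noeth
  have hdimR := hG.dim
  have hF := hG.frac
  obtain ⟨t, c, hch, hc, hsum⟩ := hG.charts
  have htR : ∀ i, t i ∈ R := fun i => (hch i (Finset.mem_univ i)).1
  have hcR : ∀ i, c i ∈ R := fun i => hc i (Finset.mem_univ i)
  have hloc : ∀ i, @IsLocalization.Away R _ (⟨t i, htR i⟩ : R) (A i) _
      (Subring.inclusion (hle i)).toAlgebra := fun i => by
    obtain ⟨-, ht0, htinv, -, hpow⟩ := hch i (Finset.mem_univ i)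
    exact isLocalization_away_inclusion R (A i) (hle i) (t i) ht0 (htR i) htinv hpow
  have hrange : ∀ i, Set.range (Spec.map (CommRingCat.ofHom (Subring.inclusion (hle i)))).base =
      (PrimeSpectrum.basicOpen (⟨t i, htR i⟩ : R) : Set (PrimeSpectrum R)) := fun i =>
    range_specMap_inclusion R (A i) (hle i) ⟨t i, htR i⟩ (hloc i)
  have hsumR : ∑ i, (⟨c i, hcR i⟩ : R) * ⟨t i, htR i⟩ = 1 := by
    apply Subtype.ext
    rw [AddSubmonoidClass.coe_finset_sum]
    simpa using hsum
  have hex : ∀ p : PrimeSpectrum R, ∃ i, (⟨t i, htR i⟩ : R) ∉ p.asIdeal := by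
    intro p
    by_contra hcon
    push Not at hcon
    apply p.isPrime.ne_top
    rw [Ideal.eq_top_iff_one, ← hsumR]
    exact Ideal.sum_mem _ fun i _ => Ideal.mul_mem_left _ _ (hcon i)
  have hmem : ∀ (p : PrimeSpectrum R) (i : ι),
      p ∈ Set.range (Spec.map (CommRingCat.ofHom (Subring.inclusion (hle i)))).base ↔
        (⟨t i, htR i⟩ : R) ∉ p.asIdeal := fun p i => Set.ext_iff.mp (hrange i) p
  refine ⟨fun i => isOpenImmersion_specMap_inclusion R (A i) (hle i) ⟨t i, htR i⟩ (hloc i), ?_, ?_⟩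
  · rw [Set.eq_univ_iff_forall]
    intro p
    obtain ⟨i, hi⟩ := hex p
    rw [Set.mem_iUnion]
    exact ⟨i, (hmem p i).mpr hi⟩
  · intro m hm
    obtain ⟨i, hi⟩ := hex m
    refine ⟨i, (hmem m i).mpr hi, fun j hj => ?_⟩
    have hj' : (⟨t j, htR j⟩ : R) ∉ m.asIdeal := (hmem m j).mp hj
    by_contra hne
    have hRnf : ¬ IsField R := by
      intro hf
      have h0 := ringKrullDim_eq_zero_of_isField hf
      rw [hdimR] at h0
      exact one_ne_zero h0
    have hmne : m.asIdeal ≠ ⊥ := Ring.ne_bot_of_isMaximal_of_not_isField hm hRnf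
    obtain ⟨u, hum, hu0⟩ := Submodule.exists_mem_ne_zero_of_ne_bot hmne
    have huK : (u : K) ≠ 0 := fun h => hu0 (Subtype.ext h)
    have hdR : t j * t i ∈ R := R.mul_mem (htR j) (htR i)
    have hAj : A j ≤ powSubring R (t j * t i) hdR := by
      intro z hz
      obtain ⟨n, hn⟩ := (hch j (Finset.mem_univ j)).2.2.2.2 z hz
      refine ⟨n, ?_⟩
      have h1 : (t j * t i) ^ n * z = t i ^ n * (t j ^ n * z) := by ring
      rw [h1]
      exact R.mul_mem (R.pow_mem (htR i) n) hn
    have hAi : A i ≤ powSubring R (t j * t i) hdR := by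
      intro z hz
      obtain ⟨n, hn⟩ := (hch i (Finset.mem_univ i)).2.2.2.2 z hz
      refine ⟨n, ?_⟩
      have h1 : (t j * t i) ^ n * z = t j ^ n * (t i ^ n * z) := by ring
      rw [h1]
      exact R.mul_mem (R.pow_mem (htR j) n) hn
    have htop : (u : K)⁻¹ ∈ powSubring R (t j * t i) hdR :=
      (sup_le hAj hAi) (hgen j i hne ▸ Subring.mem_top _)
    obtain ⟨n, hn⟩ := htop
    have h1 : ((⟨t j, htR j⟩ : R) * ⟨t i, htR i⟩) ^ n = ⟨_, hn⟩ * u := by
      apply Subtype.ext
      simp only [Subring.coe_mul, Subring.coe_pow]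
      rw [mul_assoc, inv_mul_cancel₀ huK, mul_one]
    have h2 : ((⟨t j, htR j⟩ : R) * ⟨t i, htR i⟩) ^ n ∈ m.asIdeal := by
      rw [h1]
      exact Ideal.mul_mem_left _ _ hum
    have h3 := m.isPrime.mem_of_pow_mem n h2
    rcases m.isPrime.mem_or_mem h3 with h4 | h4
    · exact hj' h4
    · exact hi h4

/-- Stacks, Varieties, Lemma 09NA. -/
theorem glue_family {ι : Type*} [Finite ι] [Nonempty ι] (A : ι → Subring K)
    [∀ i, IsNoetherianRing (A i)] [∀ i, IsFractionRing (A i) K]
    (hdim : ∀ i, ringKrullDim (A i) = 1) (hsl : ∀ i, Finite (MaximalSpectrum (A i)))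
    (hgen : ∀ i j, i ≠ j → A i ⊔ A j = ⊤) :
    IsNoetherianRing ↥(⨅ i, A i) ∧ ringKrullDim ↥(⨅ i, A i) = 1 ∧
      Finite (MaximalSpectrum ↥(⨅ i, A i)) ∧ IsFractionRing ↥(⨅ i, A i) K ∧
      (∀ i, IsOpenImmersion (Spec.map (CommRingCat.ofHom (Subring.inclusion (iInf_le A i))))) ∧
      (⋃ i, Set.range (Spec.map (CommRingCat.ofHom (Subring.inclusion (iInf_le A i)))).base) =
        Set.univ ∧
      (∀ m : PrimeSpectrum ↥(⨅ i, A i), m.asIdeal.IsMaximal →
        ∃! i, m ∈ Set.range (Spec.map (CommRingCat.ofHom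
          (Subring.inclusion (iInf_le A i)))).base) := by
  classical
  have := Fintype.ofFinite ι
  have hG : Good (⨅ i, A i) Finset.univ A := by
    have h1 := good_iInf A hdim hsl hgen Finset.univ Finset.univ_nonempty
    have h2 : (⨅ i ∈ (Finset.univ : Finset ι), A i) = ⨅ i, A i := by simp
    rw [h2] at h1
    exact h1
  obtain ⟨h1, h2, h3⟩ := hG.conclusion (fun i => iInf_le A i) hgen
  exact ⟨hG.noeth, hG.dim, hG.semilocal, hG.frac, h1, h2, h3⟩


end Groth.Agent.Lib.Helper5.GlueDimOne
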