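import Mathlib
import Groth.Agent.Lib.Helper11DimOneA
import Groth.Agent.Lib.Helper11AffImgC
import Groth.Agent.S7665

set_option autoImplicit false
set_option linter.style.haveILetI false
universe u
open CategoryTheory AlgebraicGeometry TopologicalSpace Opposite Limits

/-!
# Stacks 09NZ, the integral case (helper11)
-/

namespace Groth.Agent.Lib.Helper11.DimOne

/-- in a domain of dimension at most one every nonzero prime is maximal -/
theorem isMaximal_of_ne_bot {R : Type*} [CommRing R] [IsDomain R]
    (hdim : ringKrullDim R ≤ 1) (q : Ideal R) [q.IsPrime] (hq : q ≠ ⊥) : q.IsMaximal := by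
  have h1 : Ring.KrullDimLE 1 R := Ring.krullDimLE_iff.2 (by exact_mod_cast hdim)
  rcases Ring.krullDimLE_one_iff.1 h1 q inferInstance with h | h
  · exfalso
    rw [IsDomain.minimalPrimes_eq_singleton_bot] at h
    exact hq h
  · exact h

/-- gluing morphisms from the spectra of the `A i` to a morphism from the spectrum of their
intersection -/
theorem exists_glue {X : Scheme.{u}} [X.IsSeparated] {K : Type u} [Field K] {r : ℕ}
    (A : Fin r → Subring K)
    (hdimB : ringKrullDim ↥(⨅ i, A i) ≤ 1)
    (hopen : ∀ i, IsOpenImmersion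
      (Spec.map (CommRingCat.ofHom (Subring.inclusion (iInf_le A i)))))
    (hcov : (⋃ i, Set.range
      (Spec.map (CommRingCat.ofHom (Subring.inclusion (iInf_le A i)))).base) = Set.univ)
    (huniq : ∀ m : PrimeSpectrum ↥(⨅ i, A i), m.asIdeal.IsMaximal →
        ∃! i, m ∈ Set.range (Spec.map (CommRingCat.ofHom (Subring.inclusion (iInf_le A i)))).base)
    (g : ∀ i, Spec (CommRingCat.of (A i)) ⟶ X) (γ : Spec (CommRingCat.of K) ⟶ X)
    (hg : ∀ i, Spec.map (CommRingCat.ofHom (A i).subtype) ≫ g i = γ) :
    ∃ gl : Spec (CommRingCat.of ↥(⨅ i, A i)) ⟶ X,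
      ∀ i, Spec.map (CommRingCat.ofHom (Subring.inclusion (iInf_le A i))) ≫ gl = g i := by
  let o : ∀ i, Spec (CommRingCat.of (A i)) ⟶ Spec (CommRingCat.of ↥(⨅ i, A i)) := fun i =>
    Spec.map (CommRingCat.ofHom (Subring.inclusion (iInf_le A i)))
  haveI : ∀ i, IsOpenImmersion (o i) := hopen
  let 𝒰 : Scheme.OpenCover.{0} (Spec (CommRingCat.of ↥(⨅ i, A i))) :=
    Scheme.Cover.mkOfCovers (Fin r) (fun i => Spec (CommRingCat.of (A i))) o
      (fun m => by
        have : m ∈ ⋃ i, Set.range (o i).base := by rw [hcov]; trivial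
        obtain ⟨i, y, hy⟩ := Set.mem_iUnion.1 this
        exact ⟨i, y, hy⟩) hopen
  have hη : ∀ i, Spec.map (CommRingCat.ofHom (A i).subtype) ≫ o i =
      Spec.map (CommRingCat.ofHom (⨅ i, A i).subtype) := by
    intro i
    rw [← Spec.map_comp]
    rfl
  have hbot : ∀ (i j : Fin r), i ≠ j → ∀ m : PrimeSpectrum ↥(⨅ i, A i),
      m ∈ Set.range (o i).base → m ∈ Set.range (o j).base → m.asIdeal = ⊥ := by
    intro i j hij m hi hj
    by_contra hne
    haveI := m.2
    have hmax := isMaximal_of_ne_bot hdimB m.asIdeal hne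
    obtain ⟨k, -, hk⟩ := huniq m hmax
    exact hij ((hk i hi).trans (hk j hj).symm)
  have compat : ∀ i j : Fin r, pullback.fst (o i) (o j) ≫ g i = pullback.snd (o i) (o j) ≫ g j := by
    intro i j
    by_cases hij : i = j
    · subst hij
      have : pullback.fst (o i) (o i) = pullback.snd (o i) (o i) := by
        rw [← cancel_mono (o i)]
        exact pullback.condition
      rw [this]
    · let ℓ : Spec (CommRingCat.of K) ⟶ pullback (o i) (o j) :=
        pullback.lift (Spec.map (CommRingCat.ofHom (A i).subtype))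
          (Spec.map (CommRingCat.ofHom (A j).subtype)) ((hη i).trans (hη j).symm)
      have hsub : Subsingleton ↥(pullback (o i) (o j)) := by
        constructor
        intro p p'
        apply (pullback.fst (o i) (o j)).isOpenEmbedding.injective
        apply (o i).isOpenEmbedding.injective
        have h1 : ∀ p : ↥(pullback (o i) (o j)),
            ((o i) ((pullback.fst (o i) (o j)) p) : PrimeSpectrum ↥(⨅ i, A i)).asIdeal = ⊥ := by
          intro p
          apply hbot i j hij
          · exact ⟨_, rfl⟩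
          · refine ⟨(pullback.snd (o i) (o j)) p, ?_⟩
            change (pullback.snd (o i) (o j) ≫ o j) p = (pullback.fst (o i) (o j) ≫ o i) p
            rw [pullback.condition]
        exact PrimeSpectrum.ext ((h1 p).trans (h1 p').symm)
      haveI : IsDominant ℓ := by
        constructor
        apply Function.Surjective.denseRange
        intro p
        exact ⟨⟨⊥, Ideal.isPrime_bot⟩, Subsingleton.elim _ _⟩
      haveI : IsReduced (pullback (o i) (o j)) :=
        isReduced_of_isOpenImmersion (pullback.fst (o i) (o j))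
      refine ext_of_isDominant ℓ ?_
      rw [pullback.lift_fst_assoc, pullback.lift_snd_assoc, hg, hg]
  refine ⟨𝒰.glueMorphisms g compat, fun i => ?_⟩
  exact 𝒰.ι_glueMorphisms g compat i


variable {X : Scheme.{u}} [IsIntegral X]

theorem eq_genericPoint_of_ringKrullDim_le_zero (x : X)
    (hx : ringKrullDim (X.presheaf.stalk x) ≤ 0) : x = genericPoint X := by
  have h0 : Ring.KrullDimLE 0 (X.presheaf.stalk x) := Ring.krullDimLE_iff.2 (by exact_mod_cast hx)
  have hsp : genericPoint X ⤳ x := (genericPoint_spec X).specializes trivial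
  have hmem : genericPoint X ∈ Set.range (X.fromSpecStalk x) := by
    rw [Scheme.range_fromSpecStalk]; exact hsp
  obtain ⟨p, hp⟩ := hmem
  have hbot : (⊥ : Ideal (X.presheaf.stalk x)).IsMaximal := by
    haveI : (⊥ : Ideal (X.presheaf.stalk x)).IsPrime := Ideal.isPrime_bot
    exact Ideal.isMaximal_of_isPrime _
  have hp' : p = IsLocalRing.closedPoint (X.presheaf.stalk x) := by
    apply PrimeSpectrum.ext
    change p.asIdeal = IsLocalRing.maximalIdeal _
    have h1 : IsLocalRing.maximalIdeal (X.presheaf.stalk x) = ⊥ :=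
      (IsLocalRing.eq_maximalIdeal hbot).symm
    rw [h1, eq_bot_iff, ← h1]
    exact IsLocalRing.le_maximalIdeal p.2.ne_top
  rw [← hp, hp']
  exact Scheme.fromSpecStalk_closedPoint.symm

theorem ringKrullDim_stalk_eq_one (x : X) (hx : ringKrullDim (X.presheaf.stalk x) ≤ 1)
    (hne : x ≠ genericPoint X) : ringKrullDim (X.presheaf.stalk x) = 1 := by
  by_contra h
  apply hne
  apply eq_genericPoint_of_ringKrullDim_le_zero
  have hlt : ringKrullDim (X.presheaf.stalk x) < 1 := lt_of_le_of_ne hx h
  generalize ringKrullDim (X.presheaf.stalk x) = d at hlt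
  induction d using WithBot.recBotCoe with
  | bot => exact bot_le
  | coe n =>
    have : n < 1 := by exact_mod_cast hlt
    have hn : n = 0 := Order.lt_one_iff.1 this
    rw [hn]
    rfl

open Groth.Agent.Lib.Helper11.GenPt

omit [IsIntegral X] in
/-- in an irreducible sober space the only point without proper generizations is the generic
point -/
theorem isGen_iff_eq_genericPoint {α : Type*} [TopologicalSpace α] [QuasiSober α]
    [IrreducibleSpace α] [T0Space α] (a : α) : IsGen a ↔ a = genericPoint α := by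
  constructor
  · intro h
    exact (h _ ((genericPoint_spec α).specializes trivial)).symm
  · rintro rfl y hy
    exact (hy.antisymm ((genericPoint_spec α).specializes trivial)).eq

/-- the value of `toX` at the generic point -/
theorem toX_generic (x : X) (C : Subring X.functionField) (h : stalkSubring x ≤ C)
    (q : PrimeSpectrum C) (hq : q.asIdeal = ⊥) : toX x C h q = genericPoint X := by
  let ptK : Spec (CommRingCat.of X.functionField) := ⟨⊥, Ideal.isPrime_bot⟩
  have h1 : (Spec.map (CommRingCat.ofHom C.subtype)) ptK = q := by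
    apply PrimeSpectrum.ext
    rw [hq]
    change Ideal.comap C.subtype ⊥ = ⊥
    rw [eq_bot_iff]
    intro a ha
    have : C.subtype a = 0 := ha
    have ha0 : a = 0 := Subtype.ext this
    rw [ha0]
    exact Ideal.zero_mem _
  rw [← h1, ← Scheme.Hom.comp_apply, SpecMap_subtype_toX, Scheme.Hom.comp_apply]
  have h2 : (Spec.map (CommRingCat.ofHom (RingHom.id X.functionField))) ptK =
      IsLocalRing.closedPoint (X.presheaf.stalk (genericPoint X)) :=
    Subsingleton.elim _ _
  rw [h2]
  exact Scheme.fromSpecStalk_closedPoint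

/-- the map on local rings of `toX x (stalkSubring x)` at the closed point is an isomorphism -/
theorem isIso_stalkMap_toX (x : X) [IsLocalRing (stalkSubring x)] :
    IsIso ((toX x (stalkSubring x) le_rfl).stalkMap
      (IsLocalRing.closedPoint (stalkSubring x))) := by
  let R : CommRingCat.{u} := CommRingCat.of (stalkSubring x)
  haveI : IsLocalRing R := ‹IsLocalRing (stalkSubring x)›
  let φ : X.presheaf.stalk x ⟶ R :=
    CommRingCat.ofHom ((Subring.inclusion (le_refl (stalkSubring x))).comp
      (stalkEquiv x).toRingHom)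
  have hφbij : Function.Bijective φ.hom := by
    constructor
    · intro a b hab
      apply (stalkEquiv x).injective
      exact Subtype.ext (congrArg Subtype.val hab)
    · intro c
      obtain ⟨a, ha⟩ := (stalkEquiv x).surjective c
      exact ⟨a, Subtype.ext (congrArg Subtype.val ha)⟩
  haveI : IsIso φ := (ConcreteCategory.isIso_iff_bijective φ).2 hφbij
  haveI : IsLocalHom φ.hom := isLocalHom_of_isIso φ
  have key := (SpecToEquivOfLocalRing X R).right_inv ⟨x, φ, inferInstance⟩
  obtain ⟨h₁, h₂⟩ := SpecToEquivOfLocalRing_eq_iff.1 key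
  have h3 : Scheme.stalkClosedPointTo (toX x (stalkSubring x) le_rfl) =
      (X.presheaf.stalkCongr (Inseparable.of_eq h₁)).hom ≫ φ := h₂
  unfold Scheme.stalkClosedPointTo at h3
  haveI : IsIso ((toX x (stalkSubring x) le_rfl).stalkMap (IsLocalRing.closedPoint R) ≫
      (stalkClosedPointIso R).hom) := by
    rw [h3]
    exact IsIso.comp_isIso' (Iso.isIso_hom _) ‹IsIso φ›
  exact IsIso.of_isIso_comp_right _ (stalkClosedPointIso R).hom

theorem exists_affine_of_integral_aux [X.IsSeparated] [IsLocallyNoetherian X] (r : ℕ) (hr : 1 ≤ r)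
    (x : Fin r → X) (hinj : Function.Injective x)
    (hx : ∀ i, ringKrullDim (X.presheaf.stalk (x i)) ≤ 1)
    (hne : ∀ i, x i ≠ genericPoint X) :
    ∃ U : X.Opens, IsAffineOpen U ∧ ∀ i, x i ∈ U := by
  let K := X.functionField
  let A : Fin r → Subring K := fun i => stalkSubring (x i)
  haveI hloc : ∀ i, IsLocalRing (A i) := fun i => (stalkEquiv (x i)).isLocalRing
  haveI : ∀ i, IsNoetherianRing (A i) := fun i =>
    isNoetherianRing_of_ringEquiv (X.presheaf.stalk (x i)) (stalkEquiv (x i))
  haveI : ∀ i, IsFractionRing (A i) K := fun i => inferInstance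
  have hdim : ∀ i, ringKrullDim (A i) = 1 := fun i => by
    rw [← ringKrullDim_eq_of_ringEquiv (stalkEquiv (x i))]
    exact ringKrullDim_stalk_eq_one (x i) (hx i) (hne i)
  have hsl : ∀ i, Finite (MaximalSpectrum (A i)) := fun i => inferInstance
  have hgen : ∀ i j, i ≠ j → A i ⊔ A j = ⊤ := fun i j hij =>
    stalkSubring_sup_eq_top (x i) (x j) (fun h => hij (hinj h)) (hx i) (hx j)
  obtain ⟨hN, hdimB, hslB, hfrB, hopen, hcov, huniq⟩ :=
    Groth.Agent.S7665.result K r hr A hdim hsl hgen
  let g : ∀ i, Spec (CommRingCat.of (A i)) ⟶ X := fun i => toX (x i) (A i) le_rfl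
  obtain ⟨gl, hgl⟩ := exists_glue A hdimB.le hopen hcov huniq g
    (Spec.map (CommRingCat.ofHom (RingHom.id X.functionField)) ≫
        X.fromSpecStalk (genericPoint X))
    (fun i => SpecMap_subtype_toX (x i) (A i) le_rfl)
  let o : ∀ i, Spec (CommRingCat.of (A i)) ⟶ Spec (CommRingCat.of ↥(⨅ i, A i)) := fun i =>
    Spec.map (CommRingCat.ofHom (Subring.inclusion (iInf_le A i)))
  haveI : ∀ i, IsOpenImmersion (o i) := hopen
  have hgl' : ∀ i, o i ≫ gl = g i := hgl
  -- generic points of `Spec B`
  have hgenB : ∀ η : Spec (CommRingCat.of ↥(⨅ i, A i)), IsGen η →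
      (η : PrimeSpectrum ↥(⨅ i, A i)).asIdeal = ⊥ := by
    intro η hη
    have h1 : (⟨⊥, Ideal.isPrime_bot⟩ : PrimeSpectrum ↥(⨅ i, A i)) ⤳ η := by
      rw [← PrimeSpectrum.le_iff_specializes]
      exact bot_le (a := (η : PrimeSpectrum ↥(⨅ i, A i)).asIdeal)
    have := hη _ h1
    rw [← this]
  have hXfin : {ξ : X | IsGen ξ}.Finite := by
    have : {ξ : X | IsGen ξ} = {genericPoint X} := by
      ext ξ
      exact isGen_iff_eq_genericPoint ξ
    rw [this]
    exact Set.finite_singleton _
  have hgenmap : ∀ η : Spec (CommRingCat.of ↥(⨅ i, A i)), IsGen η → IsGen (gl η) := by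
    intro η hη
    have : η ∈ ⋃ i, Set.range (o i).base := by rw [hcov]; trivial
    obtain ⟨i, q, hq⟩ := Set.mem_iUnion.1 this
    have hq' : (o i) q = η := hq
    have hqgen : IsGen q := by
      rw [← isGen_iff_of_isOpenEmbedding (o i).isOpenEmbedding, hq']
      exact hη
    have hqbot : (q : PrimeSpectrum (A i)).asIdeal = ⊥ := by
      have h1 : (⟨⊥, Ideal.isPrime_bot⟩ : PrimeSpectrum (A i)) ⤳ q := by
        rw [← PrimeSpectrum.le_iff_specializes]
        exact bot_le (a := (q : PrimeSpectrum (A i)).asIdeal)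
      have := hqgen _ h1
      rw [← this]
    rw [isGen_iff_eq_genericPoint, ← hq', ← Scheme.Hom.comp_apply, hgl']
    exact toX_generic (x i) (A i) le_rfl q hqbot
  have hinjgen : ∀ η η' : Spec (CommRingCat.of ↥(⨅ i, A i)), IsGen η → IsGen η' →
      gl η = gl η' → η = η' := by
    intro η η' h h' _
    exact PrimeSpectrum.ext ((hgenB η h).trans (hgenB η' h').symm)
  let c : ∀ i, Spec (CommRingCat.of (A i)) := fun i => IsLocalRing.closedPoint (A i)
  classical
  let s : Finset (Spec (CommRingCat.of ↥(⨅ i, A i))) := Finset.univ.image (fun i => (o i) (c i))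
  have hs : ∀ t ∈ s, IsIso (gl.stalkMap t) := by
    intro t ht
    obtain ⟨i, -, rfl⟩ := Finset.mem_image.1 ht
    have h1 : IsIso ((g i).stalkMap (c i)) := isIso_stalkMap_toX (x i)
    have h2 : IsIso ((o i ≫ gl).stalkMap (c i)) := by
      rw [Scheme.Hom.stalkMap_congr_hom _ _ (hgl' i)]
      exact IsIso.comp_isIso' (Iso.isIso_hom _) h1
    rw [Scheme.Hom.stalkMap_comp] at h2
    exact @IsIso.of_isIso_comp_right _ _ _ _ _ _ ((o i).stalkMap (c i)) inferInstance h2
  obtain ⟨U, hU, hUs⟩ := AffImg.main gl hXfin hgenmap hinjgen s hs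
  refine ⟨U, hU, fun i => ?_⟩
  have h1 := hUs ((o i) (c i)) (Finset.mem_image.2 ⟨i, Finset.mem_univ _, rfl⟩)
  rw [← Scheme.Hom.comp_apply, hgl'] at h1
  have h2 : (g i) (c i) = x i := by
    apply toX_apply_of_ne_bot (x i) (hx i) (A i) le_rfl
    change IsLocalRing.maximalIdeal (A i) ≠ ⊥
    intro h0
    have hf : IsField (A i) := IsLocalRing.isField_iff_maximalIdeal_eq.2 h0
    have := ringKrullDim_eq_zero_of_isField hf
    rw [hdim i] at this
    exact one_ne_zero this
  rw [h2] at h1
  exact h1

/-- **Stacks 09NZ, integral case.** In a separated locally Noetherian integral scheme every finite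
set of points of dimension at most one is contained in an affine open. -/
theorem exists_affine_of_integral [X.IsSeparated] [IsLocallyNoetherian X] (T : Finset X)
    (hT : ∀ t ∈ T, ringKrullDim (X.presheaf.stalk t) ≤ 1) :
    ∃ U : X.Opens, IsAffineOpen U ∧ ∀ t ∈ T, t ∈ U := by
  classical
  let T₁ : Finset X := T.filter (fun t => t ≠ genericPoint X)
  by_cases hT₁ : T₁.Nonempty
  · have hr : 1 ≤ T₁.card := Finset.card_pos.2 hT₁
    let e : Fin T₁.card ≃ T₁ := T₁.equivFin.symm
    obtain ⟨U, hU, hUx⟩ := exists_affine_of_integral_aux T₁.card hr (fun i => (e i).1)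
      (fun i j hij => e.injective (Subtype.ext hij))
      (fun i => hT _ (Finset.mem_filter.1 (e i).2).1)
      (fun i => (Finset.mem_filter.1 (e i).2).2)
    refine ⟨U, hU, fun t ht => ?_⟩
    by_cases htg : t = genericPoint X
    · rw [htg]
      obtain ⟨t₀, ht₀⟩ := hT₁
      have h0 := hUx (e.symm ⟨t₀, ht₀⟩)
      exact ((genericPoint_spec X).specializes trivial).mem_open U.2 h0
    · have ht₁ : t ∈ T₁ := Finset.mem_filter.2 ⟨ht, htg⟩
      have h0 := hUx (e.symm ⟨t, ht₁⟩)
      simpa using h0
  · obtain ⟨U, hU, hgU, -⟩ := exists_isAffineOpen_mem_and_subset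
      (x := genericPoint X) (U := ⊤) trivial
    refine ⟨U, hU, fun t ht => ?_⟩
    by_cases htg : t = genericPoint X
    · rw [htg]; exact hgU
    · exact absurd ⟨t, Finset.mem_filter.2 ⟨ht, htg⟩⟩ hT₁

end Groth.Agent.Lib.Helper11.DimOne
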