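import Mathlib

/-!
Helper library (helper11): freeness over a field and jointly injective families.
If `P = A ⊗[k] B` with `B` free over `k`, `P' c = C c ⊗[k] B`, and `A → C c` is a jointly
injective family of ring maps, then `P → P' c` is jointly injective.
-/

set_option autoImplicit false
universe u
open CategoryTheory CategoryTheory.Limits

namespace Groth.Agent.Lib.Helper11FixAlg

theorem eq_zero_of_forall_map_eq_zero
    {k B A P : Type u} [CommRing k] [CommRing B] [CommRing A] [CommRing P]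
    [Algebra k B] [Algebra k A] [Algebra B P] [Algebra A P] [Algebra k P]
    [IsScalarTower k B P] [IsScalarTower k A P] [Module.Free k B]
    [Algebra.IsPushout k A B P]
    {ι : Type*} {C P' : ι → Type u} [∀ c, CommRing (C c)] [∀ c, CommRing (P' c)]
    [∀ c, Algebra k (C c)] [∀ c, Algebra B (P' c)] [∀ c, Algebra (C c) (P' c)]
    [∀ c, Algebra k (P' c)]
    [∀ c, IsScalarTower k B (P' c)] [∀ c, IsScalarTower k (C c) (P' c)]
    [∀ c, Algebra.IsPushout k (C c) B (P' c)]
    (g : ∀ c, A →+* C c) (G : ∀ c, P →+* P' c)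
    (hG₁ : ∀ c (b : B), G c (algebraMap B P b) = algebraMap B (P' c) b)
    (hG₂ : ∀ c (a : A), G c (algebraMap A P a) = algebraMap (C c) (P' c) (g c a))
    (hinj : ∀ a : A, (∀ c, g c a = 0) → a = 0) (z : P) (hz : ∀ c, G c z = 0) : z = 0 := by
  classical
  let b := Module.Free.chooseBasis k B
  let β : Module.Basis _ A P := (Algebra.IsPushout.out (R := k) (S := A) (R' := B) (S' := P)).basis b
  let β' : ∀ c, Module.Basis _ (C c) (P' c) := fun c =>
    (Algebra.IsPushout.out (R := k) (S := C c) (R' := B) (S' := P' c)).basis b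
  have hβ : ∀ i, β i = algebraMap B P (b i) := fun i => IsBaseChange.basis_apply _ _ i
  have hβ' : ∀ c i, β' c i = algebraMap B (P' c) (b i) := fun c i => IsBaseChange.basis_apply _ _ i
  -- the key formula
  have key : ∀ c (y : P), (β' c).repr (G c y) = Finsupp.mapRange (g c) (map_zero _) (β.repr y) := by
    intro c y
    have hy : y = (β.repr y).sum fun i a => a • β i := by
      conv_lhs => rw [← β.linearCombination_repr y, Finsupp.linearCombination_apply]
    have h1 : G c y = (β.repr y).sum fun i a => g c a • β' c i := by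
      conv_lhs => rw [hy]
      rw [map_finsuppSum]
      refine Finsupp.sum_congr fun i _ => ?_
      rw [Algebra.smul_def, map_mul, hG₂, hβ, hG₁, ← hβ', ← Algebra.smul_def]
    rw [h1]
    ext i
    rw [map_finsuppSum, Finsupp.sum_apply, Finsupp.mapRange_apply]
    rw [Finsupp.sum_eq_single i]
    · simp
    · intro j _ hji
      simp [Finsupp.single_eq_of_ne hji.symm]
    · intro _; simp
  apply β.repr.injective
  rw [map_zero]
  ext i
  apply hinj
  intro c
  have := congrArg (fun f => f i) (key c z)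
  simp only [Finsupp.mapRange_apply] at this
  rw [← this, hz c, map_zero]
  rfl

/-- `CommRingCat` pushout-square version of `eq_zero_of_forall_map_eq_zero`. -/
theorem eq_zero_of_isPushout
    {k B A P : CommRingCat.{u}} {i₁ : k ⟶ B} {i₂ : k ⟶ A} {j₁ : B ⟶ P} {j₂ : A ⟶ P}
    (hP : IsPushout i₂ i₁ j₂ j₁)
    (hfree : letI := i₁.hom.toAlgebra; Module.Free k B)
    {ι : Type*} {C P' : ι → CommRingCat.{u}} (i₂' : ∀ c, k ⟶ C c) (j₁' : ∀ c, B ⟶ P' c)
    (j₂' : ∀ c, C c ⟶ P' c) (hP' : ∀ c, IsPushout (i₂' c) i₁ (j₂' c) (j₁' c))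
    (g : ∀ c, A ⟶ C c) (G : ∀ c, P ⟶ P' c)
    (hG₁ : ∀ c, j₁ ≫ G c = j₁' c) (hG₂ : ∀ c, j₂ ≫ G c = g c ≫ j₂' c)
    (hinj : ∀ a : A, (∀ c, g c a = 0) → a = 0) (z : P) (hz : ∀ c, G c z = 0) : z = 0 := by
  let _ : Algebra k B := i₁.hom.toAlgebra
  let _ : Algebra k A := i₂.hom.toAlgebra
  let _ : Algebra B P := j₁.hom.toAlgebra
  let _ : Algebra A P := j₂.hom.toAlgebra
  let _ : Algebra k P := (i₁ ≫ j₁).hom.toAlgebra
  have : IsScalarTower k B P := .of_algebraMap_eq' rfl
  have : IsScalarTower k A P := .of_algebraMap_eq' (congrArg CommRingCat.Hom.hom hP.w.symm)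
  have : Module.Free k B := hfree
  let _ : ∀ c, Algebra k (C c) := fun c => (i₂' c).hom.toAlgebra
  let _ : ∀ c, Algebra B (P' c) := fun c => (j₁' c).hom.toAlgebra
  let _ : ∀ c, Algebra (C c) (P' c) := fun c => (j₂' c).hom.toAlgebra
  let _ : ∀ c, Algebra k (P' c) := fun c => (i₁ ≫ j₁' c).hom.toAlgebra
  have : ∀ c, IsScalarTower k B (P' c) := fun c => .of_algebraMap_eq' rfl
  have : ∀ c, IsScalarTower k (C c) (P' c) := fun c =>
    .of_algebraMap_eq' (congrArg CommRingCat.Hom.hom (hP' c).w.symm)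
  have : Algebra.IsPushout k A B P := CommRingCat.isPushout_iff_isPushout.mp hP
  have : ∀ c, Algebra.IsPushout k (C c) B (P' c) := fun c =>
    CommRingCat.isPushout_iff_isPushout.mp (hP' c)
  exact eq_zero_of_forall_map_eq_zero (k := k) (B := B) (A := A) (P := P) (C := fun c => C c)
    (P' := fun c => P' c) (fun c => (g c).hom) (fun c => (G c).hom)
    (fun c b => congr($(hG₁ c) b)) (fun c a => congr($(hG₂ c) a)) hinj z hz

end Groth.Agent.Lib.Helper11FixAlg
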