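import Mathlib
import Groth.Agent.Lib.Helper11FixAlg

/-!
Helper library (helper11): the "coincidence locus" functor over a field.
For `α β : Y ×[K] X ⟶ W` and a `K`-morphism `ξ : T ⟶ X`, `Fix` says that `α` and `β` agree after
base change along `ξ`.
-/

set_option autoImplicit false
universe u
open CategoryTheory CategoryTheory.Limits AlgebraicGeometry

namespace Groth.Agent.Lib.Helper11FixSch

variable {K Y X W : Scheme.{u}} (y : Y ⟶ K) (x₀ : X ⟶ K) (α β : pullback y x₀ ⟶ W)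

/-- the base change `Y ×[K] T ⟶ Y ×[K] X` of `ξ : T ⟶ X` -/
noncomputable abbrev pm {T : Scheme.{u}} (t : T ⟶ K) (ξ : T ⟶ X) (h : ξ ≫ x₀ = t) :
    pullback y t ⟶ pullback y x₀ :=
  pullback.map y t y x₀ (𝟙 Y) ξ (𝟙 K) (by simp) (by simp [h])

/-- `α` and `β` agree after base change along `ξ` -/
def Fix {T : Scheme.{u}} (t : T ⟶ K) (ξ : T ⟶ X) (h : ξ ≫ x₀ = t) : Prop :=
  pm y x₀ t ξ h ≫ α = pm y x₀ t ξ h ≫ β

variable {y x₀ α β}

theorem pm_comp {T T' : Scheme.{u}} (t : T ⟶ K) (ξ : T ⟶ X) (h : ξ ≫ x₀ = t) (τ : T' ⟶ T)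
    (t' : T' ⟶ K) (h' : τ ≫ t = t') :
    pm y x₀ t' (τ ≫ ξ) (by rw [Category.assoc, h, h']) =
      pullback.map y t' y t (𝟙 Y) τ (𝟙 K) (by simp) (by simp [h']) ≫ pm y x₀ t ξ h := by
  apply pullback.hom_ext
  · simp [pm, pullback.lift_fst]
  · simp [pm, pullback.lift_snd, pullback.lift_snd_assoc]

theorem Fix.precomp {T T' : Scheme.{u}} {t : T ⟶ K} {ξ : T ⟶ X} {h : ξ ≫ x₀ = t}
    (hf : Fix y x₀ α β t ξ h) (τ : T' ⟶ T) (t' : T' ⟶ K) (h' : τ ≫ t = t') :
    Fix y x₀ α β t' (τ ≫ ξ) (by rw [Category.assoc, h, h']) := by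
  unfold Fix at hf ⊢
  rw [pm_comp t ξ h τ t' h', Category.assoc, Category.assoc, hf]

/-- `Fix` only depends on the morphisms `t`, `ξ` up to equality -/
theorem Fix.of_eq {T : Scheme.{u}} {t t' : T ⟶ K} {ξ ξ' : T ⟶ X} {h : ξ ≫ x₀ = t}
    (hf : Fix y x₀ α β t ξ h) (et : t = t') (eξ : ξ = ξ') :
    Fix y x₀ α β t' ξ' (by rw [← eξ, ← et]; exact h) := by
  subst et eξ; exact hf

/-- `Fix` is local on `T` for the Zariski topology -/
theorem Fix.of_openCover {T : Scheme.{u}} (t : T ⟶ K) (ξ : T ⟶ X) (h : ξ ≫ x₀ = t)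
    (𝒰 : T.OpenCover)
    (H : ∀ i, Fix y x₀ α β (𝒰.f i ≫ t) (𝒰.f i ≫ ξ) (by rw [Category.assoc, h])) :
    Fix y x₀ α β t ξ h := by
  unfold Fix
  refine (Scheme.Pullback.openCoverOfRight 𝒰 y t).hom_ext _ _ fun i => ?_
  have := H i
  unfold Fix at this
  rw [pm_comp t ξ h (𝒰.f i) (𝒰.f i ≫ t) rfl] at this
  have this' : pullback.map y (𝒰.f i ≫ t) y t (𝟙 Y) (𝒰.f i) (𝟙 K) (by simp) (by simp) ≫
      pm y x₀ t ξ h ≫ α = pullback.map y (𝒰.f i ≫ t) y t (𝟙 Y) (𝒰.f i) (𝟙 K) (by simp) (by simp) ≫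
      pm y x₀ t ξ h ≫ β := by simpa only [Category.assoc] using this
  exact this'

/-- the equalizer of two morphisms into a separated `K`-scheme is a closed subscheme -/
theorem exists_equalizer_closedImmersion {P : Scheme.{u}} (w : W ⟶ K) [IsSeparated w]
    (a b : P ⟶ W) (hab : a ≫ w = b ≫ w) :
    ∃ (E : Scheme.{u}) (ι : E ⟶ P), IsClosedImmersion ι ∧ ι ≫ a = ι ≫ b ∧
      ∀ {M : Scheme.{u}} (m : M ⟶ P), m ≫ a = m ≫ b → ∃ l : M ⟶ E, l ≫ ι = m := by
  let d : P ⟶ pullback w w := pullback.lift a b hab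
  refine ⟨pullback d (pullback.diagonal w), pullback.fst d (pullback.diagonal w),
    inferInstance, ?_, ?_⟩
  · have h1 := pullback.condition (f := d) (g := pullback.diagonal w)
    have ha : pullback.fst d (pullback.diagonal w) ≫ a =
        pullback.snd d (pullback.diagonal w) := by
      have := congr($h1 ≫ pullback.fst w w)
      simpa [d, pullback.lift_fst] using this
    have hb : pullback.fst d (pullback.diagonal w) ≫ b =
        pullback.snd d (pullback.diagonal w) := by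
      have := congr($h1 ≫ pullback.snd w w)
      simpa [d, pullback.lift_snd] using this
    rw [ha, hb]
  · intro M m hm
    refine ⟨pullback.lift m (m ≫ a) ?_, pullback.lift_fst _ _ _⟩
    apply pullback.hom_ext
    · simp [d, pullback.lift_fst]
    · simp [d, pullback.lift_snd, hm]

theorem appLE_eq_of_eq {A B : Scheme.{u}} {g h : A ⟶ B} (e : g = h) (U : B.Opens) (V : A.Opens)
    (e₁ : V ≤ g ⁻¹ᵁ U) : g.appLE U V e₁ = h.appLE U V (e ▸ e₁) := by
  subst e; rfl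

/-- the affine open `Y_b ×[K] T` of `Y ×[K] T` -/
noncomputable abbrev boxOpen {T : Scheme.{u}} (t : T ⟶ K) (V : Y.Opens) : (pullback y t).Opens :=
  pullback.fst y t ⁻¹ᵁ V ⊓ pullback.snd y t ⁻¹ᵁ ⊤

theorem isAffineOpen_boxOpen [IsAffine K] {T : Scheme.{u}} [IsAffine T] (t : T ⟶ K)
    (V : Y.affineOpens) : IsAffineOpen (boxOpen (y := y) t V.1) := by
  have H : IsPullback (pullback.fst y t) (pullback.snd y t) y t := IsPullback.of_hasPullback _ _
  have hUST : (⊤ : T.Opens) ≤ t ⁻¹ᵁ ⊤ := le_rfl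
  have hUSX : V.1 ≤ y ⁻¹ᵁ ⊤ := le_top
  have : IsAffine (⊤ : K.Opens) := isAffineOpen_top K
  have : IsAffine (⊤ : T.Opens) := isAffineOpen_top T
  have : IsAffine V.1 := V.2
  exact .of_isIso (Scheme.Hom.isPullback_resLE H hUST hUSX rfl).isoPullback.hom

theorem isPushout_boxOpen [IsAffine K] {T : Scheme.{u}} [IsAffine T] (t : T ⟶ K)
    (V : Y.affineOpens) :
    IsPushout (t.appLE ⊤ ⊤ le_rfl) (y.appLE ⊤ V.1 le_top)
      ((pullback.snd y t).appLE ⊤ (boxOpen (y := y) t V.1) inf_le_right)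
      ((pullback.fst y t).appLE V.1 (boxOpen (y := y) t V.1) inf_le_left) := by
  have H : IsPullback (pullback.fst y t) (pullback.snd y t) y t := IsPullback.of_hasPullback _ _
  have hUST : (⊤ : T.Opens) ≤ t ⁻¹ᵁ ⊤ := le_rfl
  have hUSX : V.1 ≤ y ⁻¹ᵁ ⊤ := le_top
  have hiso := isIso_pushoutSection_of_isAffineOpen H hUST hUSX
    (UY := boxOpen (y := y) t V.1) rfl (isAffineOpen_top K) (isAffineOpen_top T) V.2
  exact ((isIso_pushoutSection_iff H hUST hUSX rfl).mp hiso).flip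

/-- **Dominant descent.** If `T` is affine and `T' c ⟶ T` is a family of morphisms from affine schemes which is
jointly injective on global sections, and all affine coordinate rings of `Y` are free over
`Γ(K, ⊤)`, then `Fix` descends from the family to `T`. -/
theorem Fix.of_family [IsAffine K] (w : W ⟶ K) [IsSeparated w] (hαβ : α ≫ w = β ≫ w)
    (hfree : ∀ V : Y.affineOpens,
      letI := (y.appLE ⊤ V.1 le_top).hom.toAlgebra; Module.Free Γ(K, ⊤) Γ(Y, V.1))
    {T : Scheme.{u}} [IsAffine T] (t : T ⟶ K) (ξ : T ⟶ X) (h : ξ ≫ x₀ = t)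
    {ι : Type*} (T' : ι → Scheme.{u}) [∀ c, IsAffine (T' c)] (τ : ∀ c, T' c ⟶ T)
    (hinj : ∀ a : Γ(T, ⊤), (∀ c, (τ c).appLE ⊤ ⊤ le_top a = 0) → a = 0)
    (H : ∀ c, Fix y x₀ α β (τ c ≫ t) (τ c ≫ ξ) (by rw [Category.assoc, h])) :
    Fix y x₀ α β t ξ h := by
  unfold Fix
  have hab : (pm y x₀ t ξ h ≫ α) ≫ w = (pm y x₀ t ξ h ≫ β) ≫ w := by
    rw [Category.assoc, Category.assoc, hαβ]
  obtain ⟨E, e, he, hea, hlift⟩ := exists_equalizer_closedImmersion w _ _ hab
  -- the base change maps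
  let m : ∀ c, pullback y (τ c ≫ t) ⟶ pullback y t := fun c =>
    pullback.map y (τ c ≫ t) y t (𝟙 Y) (τ c) (𝟙 K) (by simp) (by simp)
  have hm : ∀ c, m c ≫ (pm y x₀ t ξ h ≫ α) = m c ≫ (pm y x₀ t ξ h ≫ β) := by
    intro c
    have := H c
    unfold Fix at this
    rw [pm_comp t ξ h (τ c) (τ c ≫ t) rfl] at this
    simpa only [Category.assoc] using this
  choose l hl using fun c => hlift (m c) (hm c)
  have hm1 : ∀ c, m c ≫ pullback.fst y t = pullback.fst y (τ c ≫ t) := fun c => by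
    simp [m, pullback.lift_fst]
  have hm2 : ∀ c, m c ≫ pullback.snd y t = pullback.snd y (τ c ≫ t) ≫ τ c := fun c => by
    simp [m, pullback.lift_snd]
  suffices hiso : IsIso e by
    rw [← cancel_epi e]; exact hea
  rw [IsClosedImmersion.isIso_iff_ker_eq_bot, ← le_bot_iff]
  refine Scheme.IdealSheafData.le_of_iSup_eq_top
    (fun V : Y.affineOpens => (⟨boxOpen (y := y) t V.1, isAffineOpen_boxOpen t V⟩ :
      (pullback y t).affineOpens)) ?_ ?_
  · rw [eq_top_iff]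
    intro p _
    obtain ⟨_, ⟨V, hV, rfl⟩, hpV, -⟩ := Y.isBasis_affineOpens.exists_subset_of_mem_open
      (Set.mem_univ ((pullback.fst y t) p)) isOpen_univ
    exact TopologicalSpace.Opens.mem_iSup.mpr ⟨⟨V, hV⟩, ⟨hpV, trivial⟩⟩
  · intro V s hs
    rw [Scheme.Hom.ker_apply, RingHom.mem_ker] at hs
    change s = 0
    have hle : ∀ c, boxOpen (y := y) (τ c ≫ t) V.1 ≤ m c ⁻¹ᵁ boxOpen (y := y) t V.1 := by
      intro c p hp
      refine ⟨?_, trivial⟩
      show (pullback.fst y t) ((m c) p) ∈ V.1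
      rw [← Scheme.Hom.comp_apply, hm1 c]
      exact hp.1
    refine Groth.Agent.Lib.Helper11FixAlg.eq_zero_of_isPushout (isPushout_boxOpen t V) (hfree V)
      (fun c => (τ c ≫ t).appLE ⊤ ⊤ le_rfl)
      (fun c => (pullback.fst y (τ c ≫ t)).appLE V.1 (boxOpen (y := y) (τ c ≫ t) V.1) inf_le_left)
      (fun c => (pullback.snd y (τ c ≫ t)).appLE ⊤ (boxOpen (y := y) (τ c ≫ t) V.1) inf_le_right)
      (fun c => isPushout_boxOpen (τ c ≫ t) V)
      (fun c => (τ c).appLE ⊤ ⊤ le_top)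
      (fun c => (m c).appLE (boxOpen (y := y) t V.1) (boxOpen (y := y) (τ c ≫ t) V.1) (hle c))
      ?_ ?_ hinj s ?_
    · intro c
      rw [Scheme.Hom.appLE_comp_appLE]
      exact appLE_eq_of_eq (hm1 c) _ _ _
    · intro c
      rw [Scheme.Hom.appLE_comp_appLE, Scheme.Hom.appLE_comp_appLE]
      exact appLE_eq_of_eq (hm2 c) _ _ _
    · intro c
      have h1 : (m c).appLE (boxOpen (y := y) t V.1) (boxOpen (y := y) (τ c ≫ t) V.1) (hle c) =
          (l c ≫ e).appLE (boxOpen (y := y) t V.1) (boxOpen (y := y) (τ c ≫ t) V.1)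
            ((hl c).symm ▸ hle c) := appLE_eq_of_eq (hl c).symm _ _ _
      rw [h1, Scheme.Hom.comp_appLE, CommRingCat.comp_apply, hs, map_zero]

end Groth.Agent.Lib.Helper11FixSch
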