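import Mathlib
import Groth.Agent.Lib.Helper11FixSch

/-!
Helper library (helper11): representability of the coincidence locus by a closed subscheme
(over a field; SGA3 VIII 6 style).
-/

set_option autoImplicit false
universe u
open CategoryTheory CategoryTheory.Limits AlgebraicGeometry

namespace Groth.Agent.Lib.Helper11FixRep

open Groth.Agent.Lib.Helper11FixSch

variable {K Y X W : Scheme.{u}} {y : Y ⟶ K} {x₀ : X ⟶ K} {α β : pullback y x₀ ⟶ W}

/-- `Fix.of_family` for spectra -/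
theorem Fix.of_family_Spec [IsAffine K] (w : W ⟶ K) [IsSeparated w] (hαβ : α ≫ w = β ≫ w)
    (hfree : ∀ V : Y.affineOpens,
      letI := (y.appLE ⊤ V.1 le_top).hom.toAlgebra; Module.Free Γ(K, ⊤) Γ(Y, V.1))
    {R : CommRingCat.{u}} (ξ : Spec R ⟶ X)
    {ι : Type*} (R' : ι → CommRingCat.{u}) (φ : ∀ c, R ⟶ R' c)
    (hinj : ∀ r : R, (∀ c, φ c r = 0) → r = 0)
    (H : ∀ c, Fix y x₀ α β ((Spec.map (φ c) ≫ ξ) ≫ x₀) (Spec.map (φ c) ≫ ξ) rfl) :
    Fix y x₀ α β (ξ ≫ x₀) ξ rfl := by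
  refine Fix.of_family w hαβ hfree (ξ ≫ x₀) ξ rfl (fun c => Spec (R' c))
    (fun c => Spec.map (φ c)) ?_ ?_
  · intro a ha
    obtain ⟨r, rfl⟩ : ∃ r, (Scheme.ΓSpecIso R).inv r = a :=
      ⟨(Scheme.ΓSpecIso R).hom a, by simp⟩
    have hr : r = 0 := by
      apply hinj
      intro c
      have h1 := congr($(Scheme.ΓSpecIso_inv_naturality (φ c)) r)
      rw [CommRingCat.comp_apply, CommRingCat.comp_apply] at h1
      have h2 : (Spec.map (φ c)).appTop ((Scheme.ΓSpecIso R).inv r) = 0 := ha c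
      rw [h2] at h1
      have := congrArg (Scheme.ΓSpecIso (R' c)).hom h1
      simpa using this
    rw [hr, map_zero]
  · intro c
    exact Fix.of_eq (H c) (Category.assoc _ _ _) rfl

/-- the closed subscheme `Spec (Γ(X, U) ⧸ I)` of the affine open `U`, mapping to `X` -/
noncomputable def ξI (U : X.affineOpens) (I : Ideal Γ(X, U)) :
    Spec (.of (Γ(X, U) ⧸ I)) ⟶ X :=
  Spec.map (CommRingCat.ofHom (Ideal.Quotient.mk I)) ≫ U.2.fromSpec

variable (y x₀ α β) in
/-- the ideal `I` of `Γ(X, U)` cuts out a subscheme on which `α`, `β` agree -/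
def FixI (U : X.affineOpens) (I : Ideal Γ(X, U)) : Prop :=
  Fix y x₀ α β (ξI U I ≫ x₀) (ξI U I) rfl

variable (y x₀ α β) in
/-- the smallest ideal of `Γ(X, U)` cutting out a subscheme on which `α`, `β` agree -/
noncomputable def J (U : X.affineOpens) : Ideal Γ(X, U) := sInf {I | FixI y x₀ α β U I}

theorem ξI_factor (U : X.affineOpens) {I I' : Ideal Γ(X, U)} (hle : I ≤ I') :
    Spec.map (CommRingCat.ofHom (Ideal.Quotient.factor hle)) ≫ ξI U I = ξI U I' := by
  unfold ξI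
  rw [← Category.assoc, ← Spec.map_comp]
  rfl

theorem ξI_quotientMap (U : X.affineOpens) (f : Γ(X, U)) (I : Ideal Γ(X, U))
    (I' : Ideal Γ(X, X.basicOpen f))
    (hle : I ≤ I'.comap (X.presheaf.map (homOfLE <| X.basicOpen_le f).op).hom) :
    Spec.map (CommRingCat.ofHom (Ideal.quotientMap I'
      (X.presheaf.map (homOfLE <| X.basicOpen_le f).op).hom hle)) ≫ ξI U I =
      ξI (X.affineBasicOpen f) I' := by
  unfold ξI
  rw [← Category.assoc, ← Spec.map_comp,
    ← IsAffineOpen.map_fromSpec U.2 (X.affineBasicOpen f).2 (homOfLE <| X.basicOpen_le f).op,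
    ← Category.assoc, ← Spec.map_comp]
  rfl

section main

variable [IsAffine K] (w : W ⟶ K) [IsSeparated w] (hαβ : α ≫ w = β ≫ w)
    (hfree : ∀ V : Y.affineOpens,
      letI := (y.appLE ⊤ V.1 le_top).hom.toAlgebra; Module.Free Γ(K, ⊤) Γ(Y, V.1))
include hαβ hfree

theorem fixI_sInf (U : X.affineOpens) (S : Set (Ideal Γ(X, U)))
    (hS : ∀ I ∈ S, FixI y x₀ α β U I) : FixI y x₀ α β U (sInf S) := by
  unfold FixI
  refine Fix.of_family_Spec w hαβ hfree (ξI U (sInf S))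
    (fun I : S => CommRingCat.of (Γ(X, U) ⧸ I.1))
    (fun I => CommRingCat.ofHom (Ideal.Quotient.factor (sInf_le I.2))) ?_ ?_
  · intro r hr
    obtain ⟨a, rfl⟩ := Ideal.Quotient.mk_surjective r
    rw [Ideal.Quotient.eq_zero_iff_mem, Submodule.mem_sInf]
    intro I hI
    have := hr ⟨I, hI⟩
    change Ideal.Quotient.factor (sInf_le hI) (Ideal.Quotient.mk (sInf S) a) = 0 at this
    rw [Ideal.Quotient.factor_mk, Ideal.Quotient.eq_zero_iff_mem] at this
    exact this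
  · intro I
    exact Fix.of_eq (hS I.1 I.2) (by rw [ξI_factor]) (ξI_factor U _).symm

theorem fixI_J (U : X.affineOpens) : FixI y x₀ α β U (J y x₀ α β U) :=
  fixI_sInf w hαβ hfree U _ (fun _ hI => hI)

theorem J_le_ker_appLE {T : Scheme.{u}} (t : T ⟶ K) (ξ : T ⟶ X) (h : ξ ≫ x₀ = t)
    (hf : Fix y x₀ α β t ξ h) (U : X.affineOpens) (V : T.affineOpens) (hV : V.1 ≤ ξ ⁻¹ᵁ U.1) :
    J y x₀ α β U ≤ RingHom.ker (ξ.appLE U.1 V.1 hV).hom := by
  apply sInf_le
  change FixI y x₀ α β U _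
  unfold FixI
  obtain ⟨φ, hφ⟩ : ∃ φ, φ = (ξ.appLE U.1 V.1 hV).hom := ⟨_, rfl⟩
  rw [← hφ]
  refine Fix.of_family_Spec w hαβ hfree (ξI U (RingHom.ker φ)) (fun _ : Unit => Γ(T, V.1))
    (fun _ => CommRingCat.ofHom (RingHom.kerLift φ)) ?_ ?_
  · intro r hr
    exact RingHom.kerLift_injective φ (by rw [map_zero]; exact hr ())
  · intro _
    have e : Spec.map (CommRingCat.ofHom (RingHom.kerLift φ)) ≫ ξI U (RingHom.ker φ) =
        V.2.fromSpec ≫ ξ := by
      unfold ξI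
      rw [← Category.assoc, ← Spec.map_comp, ← IsAffineOpen.SpecMap_appLE_fromSpec ξ U.2 V.2 hV]
      congr 2
      ext a
      rw [hφ]
      rfl
    exact Fix.of_eq (hf.precomp V.2.fromSpec (V.2.fromSpec ≫ t) rfl) (by rw [e, Category.assoc, h])
      e.symm

theorem J_le_ker_app {T : Scheme.{u}} (t : T ⟶ K) (ξ : T ⟶ X) (h : ξ ≫ x₀ = t)
    (hf : Fix y x₀ α β t ξ h) (U : X.affineOpens) :
    J y x₀ α β U ≤ RingHom.ker (ξ.app U.1).hom := by
  intro a ha
  rw [RingHom.mem_ker]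
  refine T.IsSheaf.section_ext fun x hx => ?_
  obtain ⟨_, ⟨V, hV, rfl⟩, hxV, hVU⟩ := T.isBasis_affineOpens.exists_subset_of_mem_open
    (show x ∈ (ξ ⁻¹ᵁ U.1 : Set T) from hx) (ξ ⁻¹ᵁ U.1).2
  refine ⟨V, hVU, hxV, ?_⟩
  rw [map_zero]
  exact J_le_ker_appLE w hαβ hfree t ξ h hf U ⟨V, hV⟩ hVU ha

theorem map_J_basicOpen (U : X.affineOpens) (f : Γ(X, U)) :
    (J y x₀ α β U).map (X.presheaf.map (homOfLE <| X.basicOpen_le f).op).hom =
      J y x₀ α β (X.affineBasicOpen f) := by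
  apply le_antisymm
  · rw [Ideal.map_le_iff_le_comap]
    apply sInf_le
    change FixI y x₀ α β U _
    unfold FixI
    refine Fix.of_family_Spec w hαβ hfree (ξI U _)
      (fun _ : Unit => CommRingCat.of (Γ(X, X.basicOpen f) ⧸ J y x₀ α β (X.affineBasicOpen f)))
      (fun _ => CommRingCat.ofHom (Ideal.quotientMap (J y x₀ α β (X.affineBasicOpen f))
        (X.presheaf.map (homOfLE <| X.basicOpen_le f).op).hom le_rfl)) ?_ ?_
    · intro r hr
      exact Ideal.quotientMap_injective (by rw [map_zero]; exact hr ())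
    · intro _
      have e := ξI_quotientMap U f (Ideal.comap (X.presheaf.map (homOfLE <| X.basicOpen_le f).op).hom
        (J y x₀ α β (X.affineBasicOpen f))) (J y x₀ α β (X.affineBasicOpen f)) le_rfl
      exact Fix.of_eq (fixI_J w hαβ hfree (X.affineBasicOpen f))
        (congrArg (· ≫ x₀) e.symm) e.symm
  · apply sInf_le
    change FixI y x₀ α β (X.affineBasicOpen f) _
    unfold FixI
    have e := ξI_quotientMap U f (J y x₀ α β U)
      (Ideal.map (X.presheaf.map (homOfLE <| X.basicOpen_le f).op).hom (J y x₀ α β U))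
      Ideal.le_comap_map
    have h1 := (fixI_J w hαβ hfree U)
    unfold FixI at h1
    exact Fix.of_eq (h1.precomp _ _ rfl)
      (by rw [← Category.assoc]; exact congrArg (· ≫ x₀) e) e

/-- the ideal sheaf of the coincidence locus -/
noncomputable def fixIdeal : X.IdealSheafData where
  ideal U := J y x₀ α β U
  map_ideal_basicOpen U f := map_J_basicOpen w hαβ hfree U f

/-- **Main theorem (scheme form).** The coincidence locus of `α`, `β` is represented by a closed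
subscheme of `X`. -/
theorem exists_closedImmersion_fix :
    ∃ (Z : Scheme.{u}) (j : Z ⟶ X), IsClosedImmersion j ∧ Fix y x₀ α β (j ≫ x₀) j rfl ∧
      ∀ {T : Scheme.{u}} (t : T ⟶ K) (ξ : T ⟶ X) (h : ξ ≫ x₀ = t), Fix y x₀ α β t ξ h →
        ∃ z : T ⟶ Z, z ≫ j = ξ := by
  obtain ⟨𝓙, h𝓙⟩ : ∃ 𝓙 : X.IdealSheafData, 𝓙 = fixIdeal w hαβ hfree := ⟨_, rfl⟩
  refine ⟨𝓙.subscheme, 𝓙.subschemeι, inferInstance, ?_, ?_⟩
  · refine Fix.of_openCover _ _ rfl 𝓙.subschemeCover.openCover fun U => ?_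
    have e : 𝓙.subschemeCover.openCover.f U ≫ 𝓙.subschemeι = ξI U (𝓙.ideal U) := by
      change 𝓙.subschemeCover.f U ≫ 𝓙.subschemeι = _
      rw [Scheme.IdealSheafData.subschemeCover_map_subschemeι,
        Scheme.IdealSheafData.glueDataObjι_ι]
      rfl
    have h1 : FixI y x₀ α β U (𝓙.ideal U) := by
      rw [h𝓙]; exact fixI_J w hαβ hfree U
    exact Fix.of_eq h1 (by rw [← Category.assoc]; exact congrArg (· ≫ x₀) e.symm) e.symm
  · intro T t ξ h hf
    refine ⟨IsClosedImmersion.lift 𝓙.subschemeι ξ ?_, IsClosedImmersion.lift_fac _ _ _⟩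
    rw [Scheme.IdealSheafData.ker_subschemeι]
    change 𝓙 ≤ Scheme.IdealSheafData.ofIdeals _
    rw [Scheme.IdealSheafData.le_ofIdeals_iff]
    intro U
    rw [h𝓙]
    exact J_le_ker_app w hαβ hfree t ξ h hf U

end main

end Groth.Agent.Lib.Helper11FixRep
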