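import Mathlib
import Groth.Agent.Lib.Helper11FixRep

/-!
Helper library (helper11): representability of coincidence loci by closed subschemes, in the
cartesian monoidal category `Over (Spec k)`, `k` a field.
-/

set_option autoImplicit false
universe u
open CategoryTheory CategoryTheory.Limits AlgebraicGeometry MonoidalCategory CartesianMonoidalCategory

namespace Groth.Agent.Lib.Helper11FixOver

open Groth.Agent.Lib.Helper11FixSch Groth.Agent.Lib.Helper11FixRep

theorem free_of_isField (A M : Type*) [CommRing A] [AddCommGroup M] [Module A M] (hA : IsField A) :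
    Module.Free A M := by
  let _ := hA.toField
  exact Module.Free.of_divisionRing A M

theorem isField_Γ_Spec (k : Type u) [Field k] : IsField Γ(Spec (CommRingCat.of k), ⊤) :=
  MulEquiv.isField (Field.toIsField k)
    (Scheme.ΓSpecIso (CommRingCat.of k)).commRingCatIsoToRingEquiv.toMulEquiv

variable (k : Type u) [Field k]

theorem fix_iff {Y X W T : Over (Spec (CommRingCat.of k))} (α β : Y ⊗ X ⟶ W) (x : T ⟶ X) :
    (Y ◁ x) ≫ α = (Y ◁ x) ≫ β ↔
      Fix Y.hom X.hom α.left β.left T.hom x.left (Over.w x) := by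
  constructor
  · intro h
    exact congrArg (fun f => f.left) h
  · intro h
    ext1
    exact h

/-- **Main theorem (`Over (Spec k)` form).** -/
theorem exists_closedImmersion_fix_over (Y X W : Over (Spec (CommRingCat.of k)))
    [IsSeparated W.hom] (α β : Y ⊗ X ⟶ W) :
    ∃ (Z : Over (Spec (CommRingCat.of k))) (j : Z ⟶ X), IsClosedImmersion j.left ∧
      (Y ◁ j) ≫ α = (Y ◁ j) ≫ β ∧
      ∀ (T : Over (Spec (CommRingCat.of k))) (x : T ⟶ X),
        (Y ◁ x) ≫ α = (Y ◁ x) ≫ β → ∃ z : T ⟶ Z, z ≫ j = x := by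
  have hαβ : α.left ≫ W.hom = β.left ≫ W.hom := by rw [Over.w α, Over.w β]
  have hfree : ∀ V : Y.left.affineOpens,
      letI := (Y.hom.appLE ⊤ V.1 le_top).hom.toAlgebra
      Module.Free Γ(Spec (CommRingCat.of k), ⊤) Γ(Y.left, V.1) := fun V =>
    letI := (Y.hom.appLE ⊤ V.1 le_top).hom.toAlgebra
    free_of_isField _ _ (isField_Γ_Spec k)
  obtain ⟨Z, j, hj, hfix, huniv⟩ := exists_closedImmersion_fix (y := Y.hom) (x₀ := X.hom)
    (α := α.left) (β := β.left) W.hom hαβ hfree
  refine ⟨Over.mk (j ≫ X.hom), Over.homMk j rfl, hj, ?_, ?_⟩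
  · rw [fix_iff]
    exact hfix
  · intro T x hx
    rw [fix_iff] at hx
    obtain ⟨z, hz⟩ := huniv T.hom x.left (Over.w x) hx
    refine ⟨Over.homMk z ?_, ?_⟩
    · change z ≫ j ≫ X.hom = T.hom
      rw [← Category.assoc, hz, Over.w x]
    · ext1
      exact hz

end Groth.Agent.Lib.Helper11FixOver
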