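import Mathlib
import Groth.Agent.Lib.Helper11FixAlg
import Groth.Agent.Lib.Helper11FixOver

/-!
Helper library (helper11): the reduced induced closed subscheme `(vanishingIdeal Z).subscheme` on a
closed subset (reducedness, universal properties), and geometric reducedness of a reduced scheme over
a field with a dense set of rational points.
-/

set_option autoImplicit false
universe u
open CategoryTheory CategoryTheory.Limits AlgebraicGeometry TopologicalSpace

namespace Groth.Agent.Lib.Helper11RedCl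

open Scheme.IdealSheafData in
theorem ker_eq_of_isReduced {Z X : Scheme.{u}} (i : Z ⟶ X) [IsReduced Z] :
    i.ker = Scheme.IdealSheafData.vanishingIdeal (.closure (Set.range i)) := by
  rw [← Scheme.IdealSheafData.map_bot, ← Scheme.nilradical_eq_bot,
    ← Scheme.IdealSheafData.vanishingIdeal_top, Scheme.IdealSheafData.map_vanishingIdeal]
  congr 2
  simp

instance isReduced_subscheme_vanishingIdeal {X : Scheme.{u}} (Z : Closeds X) :
    IsReduced (Scheme.IdealSheafData.vanishingIdeal Z).subscheme := by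
  have : ∀ U, IsReduced ((Scheme.IdealSheafData.vanishingIdeal Z).subschemeCover.openCover.X U) := by
    intro U
    change IsReduced (Spec (.of (Γ(X, U.1) ⧸ (Scheme.IdealSheafData.vanishingIdeal Z).ideal U)))
    have : _root_.IsReduced (Γ(X, U.1) ⧸ (Scheme.IdealSheafData.vanishingIdeal Z).ideal U) := by
      rw [← Ideal.isRadical_iff_quotient_reduced, Scheme.IdealSheafData.vanishingIdeal_ideal]
      exact PrimeSpectrum.isRadical_vanishingIdeal _
    infer_instance
  exact IsReduced.of_openCover _ (Scheme.IdealSheafData.vanishingIdeal Z).subschemeCover.openCover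

theorem range_subschemeι_vanishingIdeal {X : Scheme.{u}} (Z : Closeds X) :
    Set.range (Scheme.IdealSheafData.vanishingIdeal Z).subschemeι = (Z : Set X) := by
  rw [Scheme.IdealSheafData.range_subschemeι, Scheme.IdealSheafData.coe_support_vanishingIdeal]

theorem exists_lift_of_range_subset {T X : Scheme.{u}} [IsReduced T] (x : T ⟶ X) (Z : Closeds X)
    (h : Set.range x ⊆ (Z : Set X)) :
    ∃ l : T ⟶ (Scheme.IdealSheafData.vanishingIdeal Z).subscheme,
      l ≫ (Scheme.IdealSheafData.vanishingIdeal Z).subschemeι = x := by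
  have hker : (Scheme.IdealSheafData.vanishingIdeal Z).subschemeι.ker ≤ x.ker := by
    rw [Scheme.IdealSheafData.ker_subschemeι, ker_eq_of_isReduced x]
    apply Scheme.IdealSheafData.vanishingIdeal_antimono
    rw [Closeds.closure_le]
    exact h
  exact ⟨IsClosedImmersion.lift _ x hker, IsClosedImmersion.lift_fac _ x hker⟩

theorem exists_lift_of_subset_range {W X : Scheme.{u}} (j : W ⟶ X) [IsClosedImmersion j]
    (Z : Closeds X) (h : (Z : Set X) ⊆ Set.range j) :
    ∃ l : (Scheme.IdealSheafData.vanishingIdeal Z).subscheme ⟶ W,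
      l ≫ j = (Scheme.IdealSheafData.vanishingIdeal Z).subschemeι := by
  have hker : j.ker ≤ (Scheme.IdealSheafData.vanishingIdeal Z).subschemeι.ker := by
    rw [Scheme.IdealSheafData.ker_subschemeι, ← Scheme.IdealSheafData.le_support_iff_le_vanishingIdeal,
      ← SetLike.coe_subset_coe, Scheme.Hom.support_ker]
    exact h.trans subset_closure
  exact ⟨IsClosedImmersion.lift j _ hker, IsClosedImmersion.lift_fac j _ hker⟩

theorem top_le_preimage_of_mem {k : Type u} [Field k] {X : Scheme.{u}}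
    (p : Spec (CommRingCat.of k) ⟶ X) (U : X.Opens)
    (h : p.base (IsLocalRing.closedPoint k) ∈ U) : (⊤ : (Spec (CommRingCat.of k)).Opens) ≤ p ⁻¹ᵁ U := by
  intro x _
  have hx : x = IsLocalRing.closedPoint k := Subsingleton.elim _ _
  change p.base x ∈ U
  rw [hx]
  exact h

/-- A reduced scheme over a field with a dense set of rational points is geometrically reduced. -/
theorem geometricallyReduced_of_dense_points {k : Type u} [Field k] {X : Scheme.{u}} [IsReduced X]
    (f : X ⟶ Spec (CommRingCat.of k)) (P : Set (Spec (CommRingCat.of k) ⟶ X))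
    (hP : ∀ p ∈ P, p ≫ f = 𝟙 _)
    (hd : Dense ((fun p : Spec (CommRingCat.of k) ⟶ X => p.base (IsLocalRing.closedPoint k)) '' P)) :
    GeometricallyReduced f := by
  constructor
  intro K' _ y Y fst snd h
  have key : ∀ U : X.affineOpens, _root_.IsReduced Γ(Y, fst ⁻¹ᵁ U.1 ⊓ snd ⁻¹ᵁ ⊤) := by
    intro U
    have hUST : (⊤ : (Spec (CommRingCat.of K')).Opens) ≤ y ⁻¹ᵁ ⊤ := le_rfl
    have hUSX : U.1 ≤ f ⁻¹ᵁ ⊤ := le_top
    have hiso := isIso_pushoutSection_of_isAffineOpen h hUST hUSX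
      (UY := fst ⁻¹ᵁ U.1 ⊓ snd ⁻¹ᵁ ⊤) rfl (isAffineOpen_top _) (isAffineOpen_top _) U.2
    have hpo := (isIso_pushoutSection_iff h hUST hUSX rfl).mp hiso
    have hfree : letI := (y.appLE ⊤ ⊤ hUST).hom.toAlgebra
        Module.Free Γ(Spec (CommRingCat.of k), ⊤) Γ(Spec (CommRingCat.of K'), ⊤) :=
      letI := (y.appLE ⊤ ⊤ hUST).hom.toAlgebra
      Groth.Agent.Lib.Helper11FixOver.free_of_isField _ _
        (Groth.Agent.Lib.Helper11FixOver.isField_Γ_Spec k)
    have hfld : IsField Γ(Spec (CommRingCat.of K'), ⊤) :=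
      Groth.Agent.Lib.Helper11FixOver.isField_Γ_Spec K'
    constructor
    intro z hz
    have hlift : ∀ p ∈ P, (y ≫ p) ≫ f = 𝟙 _ ≫ y := by
      intro p hp
      rw [Category.assoc, hP p hp, Category.comp_id, Category.id_comp]
    refine Groth.Agent.Lib.Helper11FixAlg.eq_zero_of_isPushout hpo hfree
      (ι := {p : Spec (CommRingCat.of k) ⟶ X // p ∈ P ∧ p.base (IsLocalRing.closedPoint k) ∈ U.1})
      (C := fun _ => Γ(Spec (CommRingCat.of k), ⊤)) (P' := fun _ => Γ(Spec (CommRingCat.of K'), ⊤))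
      (fun _ => 𝟙 _) (fun _ => 𝟙 _) (fun _ => y.appLE ⊤ ⊤ hUST) (fun _ => IsPushout.id_horiz _)
      (fun c => c.1.appLE U.1 ⊤ (top_le_preimage_of_mem c.1 U.1 c.2.2))
      (fun c => (h.lift (y ≫ c.1) (𝟙 _) (hlift c.1 c.2.1)).appLE (fst ⁻¹ᵁ U.1 ⊓ snd ⁻¹ᵁ ⊤) ⊤ ?_)
      ?_ ?_ ?_ z ?_
    · intro x _
      refine ⟨?_, trivial⟩
      change fst.base ((h.lift (y ≫ c.1) (𝟙 _) (hlift c.1 c.2.1)).base x) ∈ U.1
      rw [← Scheme.Hom.comp_apply, h.lift_fst]
      exact (top_le_preimage_of_mem c.1 U.1 c.2.2) (show y.base x ∈ (⊤ : (Spec (CommRingCat.of k)).Opens) from trivial)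
    · intro c
      rw [Scheme.Hom.appLE_comp_appLE]
      simp only [h.lift_snd]
      simp [Scheme.Hom.appLE]
    · intro c
      rw [Scheme.Hom.appLE_comp_appLE, Scheme.Hom.appLE_comp_appLE]
      simp only [h.lift_fst]
    · intro a ha
      rw [← basicOpen_eq_bot_iff]
      by_contra hne
      have hne' : ((X.basicOpen a : X.Opens) : Set X).Nonempty := by
        rw [Set.nonempty_iff_ne_empty]
        intro h0
        apply hne
        ext1
        simpa using h0
      obtain ⟨x, hx1, hx2⟩ := hd.inter_open_nonempty _ (X.basicOpen a).isOpen hne'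
      obtain ⟨p, hp, rfl⟩ := hx2
      have hpU : p.base (IsLocalRing.closedPoint k) ∈ U.1 := X.basicOpen_le a hx1
      have h1 := Scheme.basicOpen_appLE p ⊤ U.1 (top_le_preimage_of_mem p U.1 hpU) a
      rw [ha ⟨p, hp, hpU⟩, Scheme.basicOpen_zero] at h1
      have h2 : IsLocalRing.closedPoint k ∈ (⊤ ⊓ p ⁻¹ᵁ X.basicOpen a : (Spec (CommRingCat.of k)).Opens) :=
        ⟨trivial, hx1⟩
      rw [← h1] at h2
      exact h2
    · intro c
      have : IsDomain Γ(Spec (CommRingCat.of K'), ⊤) := hfld.isDomain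
      exact (hz.map _).eq_zero
  have haff : ∀ U : X.affineOpens, IsAffineOpen (fst ⁻¹ᵁ U.1 ⊓ snd ⁻¹ᵁ ⊤) := by
    intro U
    have hUST : (⊤ : (Spec (CommRingCat.of K')).Opens) ≤ y ⁻¹ᵁ ⊤ := le_rfl
    have hUSX : U.1 ≤ f ⁻¹ᵁ ⊤ := le_top
    have : IsAffine (⊤ : (Spec (CommRingCat.of k)).Opens) := isAffineOpen_top _
    have : IsAffine (⊤ : (Spec (CommRingCat.of K')).Opens) := isAffineOpen_top _
    have : IsAffine U.1 := U.2
    exact .of_isIso (Scheme.Hom.isPullback_resLE h hUST hUSX rfl).isoPullback.hom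
  have hcov : TopologicalSpace.IsOpenCover (fun U : X.affineOpens => fst ⁻¹ᵁ U.1 ⊓ snd ⁻¹ᵁ ⊤) := by
    rw [TopologicalSpace.IsOpenCover, eq_top_iff]
    intro x _
    rw [Opens.mem_iSup]
    have hx : fst.base x ∈ (⨆ i : X.affineOpens, (i : X.Opens)) := by
      rw [iSup_affineOpens_eq_top]; trivial
    rw [Opens.mem_iSup] at hx
    obtain ⟨U, hU⟩ := hx
    exact ⟨U, hU, trivial⟩
  have hred : ∀ U, IsReduced ((Y.openCoverOfIsOpenCover _ hcov).X U) := by
    intro U
    change IsReduced ((fst ⁻¹ᵁ U.1 ⊓ snd ⁻¹ᵁ ⊤ : Y.Opens) : Scheme)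
    have : IsAffine ((fst ⁻¹ᵁ U.1 ⊓ snd ⁻¹ᵁ ⊤ : Y.Opens) : Scheme) := haff U
    have hr := key U
    have : _root_.IsReduced Γ(((fst ⁻¹ᵁ U.1 ⊓ snd ⁻¹ᵁ ⊤ : Y.Opens) : Scheme), ⊤) :=
      isReduced_of_injective (Scheme.Opens.topIso _).hom.hom
        ((ConcreteCategory.bijective_of_isIso (Scheme.Opens.topIso _).hom).1)
    exact isReduced_of_isAffine_isReduced _
  exact IsReduced.of_openCover _ (Y.openCoverOfIsOpenCover _ hcov)

end Groth.Agent.Lib.Helper11RedCl
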