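import Mathlib.AlgebraicGeometry.Geometrically.Reduced
import Mathlib.RingTheory.Nilpotent.GeometricallyReduced
import Mathlib.RingTheory.FiniteType

/-!
Helper library (helper12): over a field, (geometrically reduced) × (reduced) is reduced,
without Noetherian hypotheses.
-/
set_option autoImplicit false
open CategoryTheory AlgebraicGeometry Limits TensorProduct
universe u

namespace Groth.Agent.Lib.Helper12.GR

/-- algebra version: `B ⊗[k] A` is reduced if it is for all finitely generated reduced `A'`. -/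
lemma isReduced_tensor_of_fg {k : Type u} [Field k] (B A : Type u) [CommRing B] [CommRing A]
    [Algebra k B] [Algebra k A] [IsReduced A]
    (h : ∀ (A' : Type u) [CommRing A'] [Algebra k A'] [Algebra.FiniteType k A'] [IsReduced A'],
      IsReduced (B ⊗[k] A')) : IsReduced (B ⊗[k] A) := by
  apply IsReduced.tensorProduct_of_flat_of_forall_fg
  intro A' hA'
  have : Algebra.FiniteType k A' := (Subalgebra.fg_iff_finiteType A').mp hA'
  have : IsReduced A' := isReduced_of_injective A'.val Subtype.val_injective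
  exact h A'

lemma isReduced_pullback_Spec_of_finiteType {k : Type u} [Field k] {X : Scheme.{u}}
    (f : X ⟶ Spec (CommRingCat.of k)) [GeometricallyReduced f] (A' : Type u) [CommRing A']
    [Algebra k A'] [Algebra.FiniteType k A'] [IsReduced A'] :
    AlgebraicGeometry.IsReduced (pullback f (Spec.map (CommRingCat.ofHom (algebraMap k A')))) := by
  have : IsNoetherianRing A' := Algebra.FiniteType.isNoetherianRing k A'
  have : IsLocallyNoetherian (Spec (CommRingCat.of A')) := inferInstance
  have : AlgebraicGeometry.IsReduced (Spec (CommRingCat.of A')) := inferInstance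
  infer_instance

/-- transport of reducedness of pullbacks along isomorphisms of the factors -/
lemma isReduced_pullback_of_iso {W W' T T' Z : Scheme.{u}} (a : W ⟶ Z) (b : T ⟶ Z) (a' : W' ⟶ Z)
    (b' : T' ⟶ Z) (e₁ : W ≅ W') (e₂ : T ≅ T') (h₁ : e₁.hom ≫ a' = a) (h₂ : e₂.hom ≫ b' = b)
    [AlgebraicGeometry.IsReduced (pullback a' b')] : AlgebraicGeometry.IsReduced (pullback a b) := by
  let m : pullback a b ⟶ pullback a' b' :=
    pullback.map a b a' b' e₁.hom e₂.hom (𝟙 Z) (by simp [h₁]) (by simp [h₂])
  have : IsIso m := by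
    dsimp only [m]
    infer_instance
  exact isReduced_of_isOpenImmersion m

lemma isReduced_pullback_affine {k : Type u} [Field k] {W T : Scheme.{u}} [IsAffine W] [IsAffine T]
    (a : W ⟶ Spec (CommRingCat.of k)) (b : T ⟶ Spec (CommRingCat.of k))
    [AlgebraicGeometry.IsReduced T]
    (hW : ∀ (A' : Type u) [CommRing A'] [Algebra k A'] [Algebra.FiniteType k A'] [IsReduced A'],
      AlgebraicGeometry.IsReduced (pullback a (Spec.map (CommRingCat.ofHom (algebraMap k A'))))) :
    AlgebraicGeometry.IsReduced (pullback a b) := by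
  let φ : CommRingCat.of k ⟶ Γ(W, ⊤) := Spec.preimage (W.isoSpec.inv ≫ a)
  let ψ : CommRingCat.of k ⟶ Γ(T, ⊤) := Spec.preimage (T.isoSpec.inv ≫ b)
  have hφ : Spec.map φ = W.isoSpec.inv ≫ a := Spec.map_preimage _
  have hψ : Spec.map ψ = T.isoSpec.inv ≫ b := Spec.map_preimage _
  algebraize [φ.hom, ψ.hom]
  have hφ' : Spec.map (CommRingCat.ofHom (algebraMap k Γ(W, ⊤))) = W.isoSpec.inv ≫ a := hφ
  have hψ' : Spec.map (CommRingCat.ofHom (algebraMap k Γ(T, ⊤))) = T.isoSpec.inv ≫ b := hψ
  have hred : IsReduced (Γ(W, ⊤) ⊗[k] Γ(T, ⊤)) := by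
    apply isReduced_tensor_of_fg
    intro A' _ _ _ _
    have h1 := hW A'
    have h2 : AlgebraicGeometry.IsReduced (pullback
        (Spec.map (CommRingCat.ofHom (algebraMap k Γ(W, ⊤))))
        (Spec.map (CommRingCat.ofHom (algebraMap k A')))) :=
      isReduced_pullback_of_iso _ _ a (Spec.map (CommRingCat.ofHom (algebraMap k A')))
        W.isoSpec.symm (Iso.refl _) (by simp [hφ']) (by simp)
    have h3 : AlgebraicGeometry.IsReduced (Spec (CommRingCat.of (Γ(W, ⊤) ⊗[k] A'))) :=
      isReduced_of_isOpenImmersion (pullbackSpecIso k Γ(W, ⊤) A').inv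
    exact (affine_isReduced_iff _).mp h3
  have h4 : AlgebraicGeometry.IsReduced (Spec (CommRingCat.of (Γ(W, ⊤) ⊗[k] Γ(T, ⊤)))) :=
    (affine_isReduced_iff _).mpr hred
  have h5 : AlgebraicGeometry.IsReduced (pullback
      (Spec.map (CommRingCat.ofHom (algebraMap k Γ(W, ⊤))))
      (Spec.map (CommRingCat.ofHom (algebraMap k Γ(T, ⊤))))) :=
    isReduced_of_isOpenImmersion (pullbackSpecIso k Γ(W, ⊤) Γ(T, ⊤)).hom
  exact isReduced_pullback_of_iso a b (Spec.map (CommRingCat.ofHom (algebraMap k Γ(W, ⊤))))
    (Spec.map (CommRingCat.ofHom (algebraMap k Γ(T, ⊤)))) W.isoSpec T.isoSpec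
    (by rw [hφ', Iso.hom_inv_id_assoc]) (by rw [hψ', Iso.hom_inv_id_assoc])

theorem isReduced_pullback {k : Type u} [Field k] {X S : Scheme.{u}}
    (f : X ⟶ Spec (CommRingCat.of k)) (g : S ⟶ Spec (CommRingCat.of k)) [GeometricallyReduced f]
    [AlgebraicGeometry.IsReduced S] : AlgebraicGeometry.IsReduced (pullback f g) := by
  apply +allowSynthFailures @IsReduced.of_openCover
    (𝒰 := Scheme.Pullback.openCoverOfLeftRight X.affineCover S.affineCover f g)
  rintro ⟨i, j⟩
  change AlgebraicGeometry.IsReduced (pullback (X.affineCover.f i ≫ f) (S.affineCover.f j ≫ g))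
  have : AlgebraicGeometry.IsReduced (S.affineCover.X j) :=
    isReduced_of_isOpenImmersion (S.affineCover.f j)
  apply isReduced_pullback_affine
  intro A' _ _ _ _
  have h1 := isReduced_pullback_Spec_of_finiteType f A'
  -- open immersion into the reduced scheme
  let m : pullback (X.affineCover.f i ≫ f) (Spec.map (CommRingCat.ofHom (algebraMap k A'))) ⟶
      pullback f (Spec.map (CommRingCat.ofHom (algebraMap k A'))) :=
    pullback.map _ _ _ _ (X.affineCover.f i) (𝟙 _) (𝟙 _) (by simp) (by simp)
  have : IsOpenImmersion m := by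
    dsimp only [m]
    infer_instance
  exact isReduced_of_isOpenImmersion m

end Groth.Agent.Lib.Helper12.GR
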