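import Mathlib

universe u
open TensorProduct

/-! Helper14: for `E/k` normal algebraic, `Aut_k(E)` acts transitively on the primes of
`E ⊗[k] K` (`K/k` a field extension). -/

set_option autoImplicit false

namespace Groth.Agent.Lib.Helper14.GalPrimes

attribute [local instance] Algebra.TensorProduct.rightAlgebra

variable {k K E : Type u} [Field k] [Field K] [Algebra k K] [Field E] [Algebra k E]

lemma isIntegral_tensor [Algebra.IsIntegral k E] : Algebra.IsIntegral K (E ⊗[k] K) := by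
  refine ⟨fun p => ?_⟩
  induction p using TensorProduct.induction_on with
  | zero => exact isIntegral_zero
  | tmul a c =>
    have h1 : IsIntegral k (a ⊗ₜ[k] (1 : K)) :=
      (Algebra.IsIntegral.isIntegral (R := k) a).map
        (Algebra.TensorProduct.includeLeft : E →ₐ[k] E ⊗[k] K)
    have h2 : IsIntegral K (a ⊗ₜ[k] (1 : K)) := h1.tower_top
    have h3 : a ⊗ₜ[k] c = ((1 : E) ⊗ₜ[k] c) * (a ⊗ₜ[k] (1 : K)) := by
      rw [Algebra.TensorProduct.tmul_mul_tmul, one_mul, mul_one]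
    have h4 : IsIntegral K ((1 : E) ⊗ₜ[k] c) :=
      isIntegral_algebraMap (R := K) (A := E ⊗[k] K) (x := c)
    rw [h3]
    exact @IsIntegral.mul K (E ⊗[k] K) _ _ _ _ _ h4 h2
  | add x y hx hy => exact @IsIntegral.add K (E ⊗[k] K) _ _ _ x y hx hy

lemma exists_algClosure_of_prime [Algebra.IsIntegral k E] (P : Ideal (E ⊗[k] K)) [P.IsPrime] :
    ∃ (Ω : Type u) (_ : Field Ω) (_ : Algebra K Ω) (_ : IsAlgClosure K Ω)
      (π : E ⊗[k] K →+* Ω), (∀ x, π x = 0 ↔ x ∈ P) ∧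
        ∀ c : K, π (1 ⊗ₜ c) = algebraMap K Ω c := by
  haveI := isIntegral_tensor (k := k) (K := K) (E := E)
  haveI : Algebra.IsIntegral K ((E ⊗[k] K) ⧸ P) :=
    Algebra.IsIntegral.of_surjective (Ideal.Quotient.mkₐ K P) (Ideal.Quotient.mkₐ_surjective K P)
  have hfield : IsField ((E ⊗[k] K) ⧸ P) :=
    isField_of_isIntegral_of_isField' (R := K) (Field.toIsField K)
  haveI : P.IsMaximal := Ideal.Quotient.maximal_of_isField P hfield
  letI := Ideal.Quotient.field P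
  haveI : Algebra.IsAlgebraic K ((E ⊗[k] K) ⧸ P) := inferInstance
  haveI : Algebra.IsAlgebraic K (AlgebraicClosure ((E ⊗[k] K) ⧸ P)) :=
    Algebra.IsAlgebraic.trans K ((E ⊗[k] K) ⧸ P) _
  refine ⟨AlgebraicClosure ((E ⊗[k] K) ⧸ P), inferInstance, inferInstance,
    ⟨inferInstance, inferInstance⟩,
    (algebraMap ((E ⊗[k] K) ⧸ P) _).comp (Ideal.Quotient.mk P), ?_, ?_⟩
  · intro x
    rw [RingHom.comp_apply]
    constructor
    · intro h
      have := (map_eq_zero_iff (algebraMap ((E ⊗[k] K) ⧸ P)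
        (AlgebraicClosure ((E ⊗[k] K) ⧸ P))) (RingHom.injective _)).mp h
      exact Ideal.Quotient.eq_zero_iff_mem.mp this
    · intro h
      rw [Ideal.Quotient.eq_zero_iff_mem.mpr h, map_zero]
  · intro c
    rfl

theorem exists_algEquiv_comap_eq [Algebra.IsAlgebraic k E] [Normal k E]
    (P Q : Ideal (E ⊗[k] K)) [P.IsPrime] [Q.IsPrime] :
    ∃ σ : E ≃ₐ[k] E,
      Q = P.comap (Algebra.TensorProduct.map (σ : E →ₐ[k] E) (AlgHom.id k K)) := by
  haveI : Algebra.IsIntegral k E := inferInstance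
  obtain ⟨Ω₁, _, _, hΩ₁, π₁, hπ₁, hπ₁K⟩ := exists_algClosure_of_prime (k := k) P
  obtain ⟨Ω₂, _, _, hΩ₂, π₂, hπ₂, hπ₂K⟩ := exists_algClosure_of_prime (k := k) Q
  let θ : Ω₂ ≃ₐ[K] Ω₁ := IsAlgClosure.equiv K Ω₂ Ω₁
  let ιE : E →+* E ⊗[k] K := (Algebra.TensorProduct.includeLeft : E →ₐ[k] E ⊗[k] K).toRingHom
  have hιE : ∀ r : k, ιE (algebraMap k E r) = (1 : E) ⊗ₜ[k] (algebraMap k K r) := by
    intro r
    show (algebraMap k E r) ⊗ₜ[k] (1 : K) = _
    rw [Algebra.algebraMap_eq_smul_one, Algebra.algebraMap_eq_smul_one, TensorProduct.tmul_smul,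
      TensorProduct.smul_tmul']
  let φ : E →+* Ω₁ := π₁.comp ιE
  let ψ' : E →+* Ω₁ := (θ : Ω₂ →+* Ω₁).comp (π₂.comp ιE)
  letI : Algebra k Ω₁ := ((algebraMap K Ω₁).comp (algebraMap k K)).toAlgebra
  haveI : IsScalarTower k K Ω₁ := IsScalarTower.of_algebraMap_eq (fun _ => rfl)
  letI : Algebra E Ω₁ := φ.toAlgebra
  haveI : IsScalarTower k E Ω₁ := IsScalarTower.of_algebraMap_eq (fun r => by
    show algebraMap K Ω₁ (algebraMap k K r) = π₁ (ιE (algebraMap k E r))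
    rw [hιE, hπ₁K])
  let ψa : E →ₐ[k] Ω₁ :=
    { ψ' with
      commutes' := fun r => by
        show θ (π₂ (ιE (algebraMap k E r))) = algebraMap K Ω₁ (algebraMap k K r)
        rw [hιE, hπ₂K, AlgEquiv.commutes] }
  let σ₀ : E →ₐ[k] E := ψa.restrictNormal E
  have hσ₀ : ∀ x : E, φ (σ₀ x) = ψ' x := fun x => ψa.restrictNormal_commutes E x
  let σ : E ≃ₐ[k] E := AlgEquiv.ofBijective σ₀ (Algebra.IsAlgebraic.algHom_bijective σ₀)
  have key : ∀ x : E ⊗[k] K,
      π₁ (Algebra.TensorProduct.map (σ : E →ₐ[k] E) (AlgHom.id k K) x) = θ (π₂ x) := by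
    intro x
    induction x using TensorProduct.induction_on with
    | zero => simp
    | tmul a c =>
      have e1 : Algebra.TensorProduct.map (σ : E →ₐ[k] E) (AlgHom.id k K) (a ⊗ₜ c) =
          ιE (σ₀ a) * ((1 : E) ⊗ₜ[k] c) := by
        show (σ₀ a) ⊗ₜ[k] c = ((σ₀ a) ⊗ₜ[k] (1 : K)) * ((1 : E) ⊗ₜ[k] c)
        rw [Algebra.TensorProduct.tmul_mul_tmul, mul_one, one_mul]
      have e2 : a ⊗ₜ[k] c = ιE a * ((1 : E) ⊗ₜ[k] c) := by
        show a ⊗ₜ[k] c = (a ⊗ₜ[k] (1 : K)) * ((1 : E) ⊗ₜ[k] c)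
        rw [Algebra.TensorProduct.tmul_mul_tmul, mul_one, one_mul]
      rw [e1, map_mul, hπ₁K, e2, map_mul, map_mul, hπ₂K, AlgEquiv.commutes]
      congr 1
      exact hσ₀ a
    | add x y hx hy => rw [map_add, map_add, map_add, map_add, hx, hy]
  refine ⟨σ, Ideal.ext fun x => ?_⟩
  rw [Ideal.mem_comap, ← hπ₁, key, ← hπ₂]
  exact (map_eq_zero_iff _ θ.injective).symm

end Groth.Agent.Lib.Helper14.GalPrimes
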