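import Mathlib
import Groth.Agent.Lib.Helper14GeomRed
import Groth.Agent.Lib.Helper14GalPrimes

/-! Helper14: geometric reducedness and separable algebraic change of the base field. -/

set_option autoImplicit false

universe u
open TensorProduct Polynomial

namespace Groth.Agent.Lib.Helper14.GeomRed

open Groth.Agent.Lib.Helper14.GeomIrr Groth.Agent.Lib.Helper14.GalPrimes

attribute [local instance] Algebra.TensorProduct.rightAlgebra

section Pure

/-- In a reduced zero-dimensional ring every prime ideal is pure. -/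
theorem exists_mul_eq_self_of_mem_prime {B : Type*} [CommRing B] [IsReduced B]
    (hB : ∀ P : Ideal B, P.IsPrime → P.IsMaximal) (q : Ideal B) [q.IsPrime] {b : B}
    (hb : b ∈ q) : ∃ e ∈ q, e * b = b := by
  haveI : Ring.KrullDimLE 0 B := .mk₀ hB
  have hmin : q ∈ minimalPrimes B := Ideal.mem_minimalPrimes_of_krullDimLE_zero q
  haveI : Ring.KrullDimLE 0 (Localization.AtPrime q) :=
    Ring.KrullDimLE.of_isLocalization q hmin _
  have hF : IsField (Localization.AtPrime q) := Ring.KrullDimLE.isField_of_isReduced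
  have hmax := (IsLocalRing.isField_iff_maximalIdeal_eq).mp hF
  have h0 : algebraMap B (Localization.AtPrime q) b = 0 := by
    have : algebraMap B (Localization.AtPrime q) b ∈
        IsLocalRing.maximalIdeal (Localization.AtPrime q) :=
      (IsLocalization.AtPrime.to_map_mem_maximal_iff _ q b).mpr hb
    rw [hmax] at this
    exact this
  obtain ⟨⟨s, hs⟩, hsb⟩ := (IsLocalization.map_eq_zero_iff q.primeCompl _ b).mp h0
  have hqmax : q.IsMaximal := hB q inferInstance
  obtain ⟨y, i, hi, hy⟩ := hqmax.exists_inv hs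
  refine ⟨i, hi, ?_⟩
  have hi' : i = 1 - y * s := by rw [← hy]; ring
  have hsb' : s * b = 0 := hsb
  rw [hi', sub_mul, one_mul, mul_assoc, hsb', mul_zero, sub_zero]

theorem exists_mul_eq_self_of_mem_map {B N : Type*} [CommRing B] [CommRing N] (ι : B →+* N)
    (q : Ideal B) (hq : ∀ b ∈ q, ∃ e ∈ q, e * b = b) {z : N} (hz : z ∈ q.map ι) :
    ∃ e ∈ q, ι e * z = z := by
  unfold Ideal.map at hz
  induction hz using Submodule.span_induction with
  | mem x hx =>
    obtain ⟨b, hb, rfl⟩ := hx
    obtain ⟨e, he, heb⟩ := hq b hb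
    exact ⟨e, he, by rw [← map_mul, heb]⟩
  | zero => exact ⟨0, q.zero_mem, by simp⟩
  | add x y _ _ hx hy =>
    obtain ⟨e₁, he₁, h1⟩ := hx
    obtain ⟨e₂, he₂, h2⟩ := hy
    refine ⟨e₁ + e₂ - e₁ * e₂, ?_, ?_⟩
    · exact q.sub_mem (q.add_mem he₁ he₂) (q.mul_mem_left _ he₂)
    · simp only [map_sub, map_add, map_mul]
      linear_combination (1 - ι e₂) * h1 + (1 - ι e₁) * h2
  | smul a x _ hx =>
    obtain ⟨e, he, h⟩ := hx
    exact ⟨e, he, by rw [smul_eq_mul, mul_left_comm, h]⟩

theorem isReduced_of_surjective_of_ker_pure {N N' : Type*} [CommRing N] [CommRing N']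
    [IsReduced N] (ψ : N →+* N') (hψ : Function.Surjective ψ)
    (H : ∀ z, ψ z = 0 → ∃ e, ψ e = 0 ∧ e * z = z) : IsReduced N' := by
  refine ⟨fun x hx => ?_⟩
  obtain ⟨y, rfl⟩ := hψ x
  obtain ⟨n, hn⟩ := hx
  have hn' : ψ (y ^ (n + 1)) = 0 := by rw [map_pow, pow_succ, hn, zero_mul]
  obtain ⟨e, he, hez⟩ := H _ hn'
  have h1 : ((1 - e) * y) ^ (n + 1) = 0 := by
    rw [mul_pow, pow_succ (1 - e), mul_assoc, sub_mul 1 e, one_mul, hez, sub_self, mul_zero]
  have h2 : (1 - e) * y = 0 := IsReduced.eq_zero _ ⟨n + 1, h1⟩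
  have h3 : y = e * y := by linear_combination h2
  rw [h3, map_mul, he, zero_mul]

end Pure

section Tower

variable {k k' A : Type u} [Field k] [Field k'] [Algebra k k'] [Algebra.IsSeparable k k']
  [CommRing A] [Algebra k' A] [Algebra k A] [IsScalarTower k k' A]

/-- (⇒): if `A ⊗[k] K` is reduced then so is `A ⊗[k'] K` (a localization of it). -/
theorem isReduced_tensor_of_tower (K : Type u) [Field K] [Algebra k' K] [Algebra k K]
    [IsScalarTower k k' K] (H : IsReduced (A ⊗[k] K)) : IsReduced (A ⊗[k'] K) := by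
  let μ : k' ⊗[k] K →ₐ[k'] K :=
    Algebra.TensorProduct.productLeftAlgHom (Algebra.ofId k' K) (AlgHom.id k K)
  have hμ : Function.Surjective μ := fun x => ⟨1 ⊗ₜ x, by simp [μ]⟩
  let ψ : A ⊗[k'] (k' ⊗[k] K) →ₐ[k'] A ⊗[k'] K := Algebra.TensorProduct.map (AlgHom.id k' A) μ
  have hψ : Function.Surjective ψ := LinearMap.lTensor_surjective A hμ
  have hker := Algebra.TensorProduct.lTensor_ker (A := A) μ hμ
  haveI : IsReduced (k' ⊗[k] K) := isReduced_tensor_of_isSeparable
  haveI : Algebra.IsIntegral K (k' ⊗[k] K) := isIntegral_tensor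
  have hdim : ∀ P : Ideal (k' ⊗[k] K), P.IsPrime → P.IsMaximal := by
    intro P hP
    apply Ideal.isMaximal_of_isIntegral_of_isMaximal_comap (R := K) P
    haveI : (P.comap (algebraMap K (k' ⊗[k] K))).IsPrime := Ideal.IsPrime.comap _
    rw [Ideal.eq_bot_of_prime (P.comap (algebraMap K (k' ⊗[k] K)))]
    exact Ideal.bot_isMaximal
  let e := Algebra.TensorProduct.cancelBaseChange k k' k' A K
  haveI : IsReduced (A ⊗[k'] (k' ⊗[k] K)) := isReduced_of_injective e e.injective
  haveI : (RingHom.ker μ).IsPrime := RingHom.ker_isPrime μ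
  apply isReduced_of_surjective_of_ker_pure ψ.toRingHom hψ
  intro z hz
  have hz' : z ∈ (RingHom.ker μ).map
      (Algebra.TensorProduct.includeRight : k' ⊗[k] K →ₐ[k'] A ⊗[k'] (k' ⊗[k] K)) := by
    rw [← hker]; exact hz
  obtain ⟨e, he, hez⟩ := exists_mul_eq_self_of_mem_map _ (RingHom.ker μ)
    (fun b hb => exists_mul_eq_self_of_mem_prime hdim (RingHom.ker μ) hb) hz'
  refine ⟨Algebra.TensorProduct.includeRight e, ?_, hez⟩
  change ψ (1 ⊗ₜ e) = 0
  simp only [ψ, Algebra.TensorProduct.map_tmul]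
  rw [show μ e = 0 from he, tmul_zero]

/-- (⇐) for purely inseparable test fields. -/
theorem isReduced_tensor_of_tower_purelyInseparable (K : Type u) [Field K] [Algebra k K]
    [IsPurelyInseparable k K]
    (H : ∀ (L : Type u) [Field L] [Algebra k' L], IsReduced (L ⊗[k'] A)) :
    IsReduced (K ⊗[k] A) := by
  haveI : IsReduced (k' ⊗[k] K) := isReduced_tensor_of_isSeparable
  have hprime : (nilradical (k' ⊗[k] K)).IsPrime := by
    apply isPrime_nilradical_of_ringEquiv (Algebra.TensorProduct.comm k k' K).toRingEquiv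
    apply isPrime_nilradical_tensor_of_purelyInseparable
    rw [nilradical_eq_zero]
    exact Ideal.isPrime_bot
  haveI : IsDomain (k' ⊗[k] K) := by
    rw [nilradical_eq_zero] at hprime
    haveI : (⊥ : Ideal (k' ⊗[k] K)).IsPrime := hprime
    exact IsDomain.of_bot_isPrime _
  let L := FractionRing (k' ⊗[k] K)
  have hL : IsReduced (L ⊗[k'] A) := H L
  let f : k' ⊗[k] K →ₐ[k'] L := IsScalarTower.toAlgHom k' (k' ⊗[k] K) L
  have hf : Function.Injective f := IsFractionRing.injective (k' ⊗[k] K) L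
  let g : A ⊗[k'] (k' ⊗[k] K) →ₐ[k'] A ⊗[k'] L := Algebra.TensorProduct.map (AlgHom.id k' A) f
  have hg : Function.Injective g :=
    Module.Flat.lTensor_preserves_injective_linearMap (M := A) f.toLinearMap hf
  let e := Algebra.TensorProduct.cancelBaseChange k k' k' A K
  let c := Algebra.TensorProduct.comm k' A L
  let c' := Algebra.TensorProduct.comm k K A
  let φ : K ⊗[k] A →+* L ⊗[k'] A :=
    (c.toRingEquiv.toRingHom.comp g.toRingHom).comp
      (e.symm.toRingEquiv.toRingHom.comp c'.toRingEquiv.toRingHom)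
  have hφ : Function.Injective φ :=
    (c.injective.comp hg).comp (e.symm.injective.comp c'.injective)
  exact isReduced_of_injective φ hφ

end Tower

end Groth.Agent.Lib.Helper14.GeomRed
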