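import Mathlib
import Groth.Agent.Lib.Helper14GeomRedB

/-! Helper14: `K ⊗ P` is Artinian (`P` a perfect closure of `k`) iff some finite purely inseparable
`k'/k` makes the reduction of `k' ⊗ K` geometrically reduced over `k'`. -/

set_option autoImplicit false
universe u
open TensorProduct

namespace Groth.Agent.Lib.Helper14.PerfArt

open Groth.Agent.Lib.Helper14.GeomIrr Groth.Agent.Lib.Helper14.GeomRed
  Groth.Agent.Lib.Helper14.GalPrimes

section L2

/-- reducedness after base change to a perfect field containing `k'` implies geometric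
reducedness -/
theorem isGeometricallyReduced_of_isReduced_tensor_perfect (p : ℕ) [Fact p.Prime]
    {k' P S : Type u} [Field k'] [CharP k' p] [Field P] [Algebra k' P]
    [PerfectRing P p] [CommRing S] [Algebra k' S] (h : IsReduced (P ⊗[k'] S)) :
    Algebra.IsGeometricallyReduced k' S := by
  haveI : ExpChar k' p := ExpChar.prime Fact.out
  haveI : CharP P p := charP_of_injective_algebraMap (algebraMap k' P).injective p
  haveI : ExpChar P p := ExpChar.prime Fact.out
  apply isGeometricallyReduced_of_forall_finite_purelyInseparable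
  intro k'' _ _ _ _
  haveI : CharP k'' p := charP_of_injective_algebraMap (algebraMap k' k'').injective p
  haveI : ExpChar k'' p := ExpChar.prime Fact.out
  let j : k'' →+* P := PerfectRing.lift (algebraMap k' k'') (algebraMap k' P) p
  let j' : k'' →ₐ[k'] P :=
    { j with
      commutes' := fun x => (PerfectRing.lift_comp_apply (algebraMap k' k'') (algebraMap k' P) p x) }
  have hj : Function.Injective j' := j'.toRingHom.injective
  exact isReduced_of_injective (Algebra.TensorProduct.map j' (AlgHom.id k' S)).toRingHom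
    (map_left_injective j' hj)

end L2

section L1

variable {k' P B : Type u} [Field k'] [Field P] [Algebra k' P] [CommRing B] [Algebra k' B]

/-- the quotient map `P ⊗ B → P ⊗ (B / nil B)` -/
noncomputable def qmap : P ⊗[k'] B →ₐ[k'] P ⊗[k'] (B ⧸ nilradical B) :=
  Algebra.TensorProduct.map (AlgHom.id k' P) (Ideal.Quotient.mkₐ k' (nilradical B))

lemma qmap_surjective : Function.Surjective (qmap (k' := k') (P := P) (B := B)) :=
  LinearMap.lTensor_surjective P (Ideal.Quotient.mkₐ_surjective k' (nilradical B))

lemma ker_qmap : RingHom.ker (qmap (k' := k') (P := P) (B := B)) =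
    (nilradical B).map (Algebra.TensorProduct.includeRight : B →ₐ[k'] P ⊗[k'] B) := by
  have h := Algebra.TensorProduct.lTensor_ker (A := P) (Ideal.Quotient.mkₐ k' (nilradical B))
    (Ideal.Quotient.mkₐ_surjective k' (nilradical B))
  have h2 : RingHom.ker (Ideal.Quotient.mkₐ k' (nilradical B)) = nilradical B := by
    ext x
    rw [RingHom.mem_ker, Ideal.Quotient.mkₐ_eq_mk, Ideal.Quotient.eq_zero_iff_mem]
  rw [h2] at h
  exact h

lemma ker_qmap_le_nilradical :
    RingHom.ker (qmap (k' := k') (P := P) (B := B)) ≤ nilradical (P ⊗[k'] B) := by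
  rw [ker_qmap, Ideal.map_le_iff_le_comap]
  intro b hb
  rw [Ideal.mem_comap, mem_nilradical]
  exact (mem_nilradical.mp hb).map _

theorem isReduced_quot_iff :
    IsReduced (P ⊗[k'] (B ⧸ nilradical B)) ↔
      nilradical (P ⊗[k'] B) ≤
        (nilradical B).map (Algebra.TensorProduct.includeRight : B →ₐ[k'] P ⊗[k'] B) := by
  rw [← ker_qmap]
  constructor
  · intro h w hw
    rw [RingHom.mem_ker]
    exact IsReduced.eq_zero _ ((mem_nilradical.mp hw).map qmap)
  · intro h
    refine ⟨fun z hz => ?_⟩
    obtain ⟨w, rfl⟩ := qmap_surjective z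
    obtain ⟨n, hn⟩ := hz
    rw [← map_pow] at hn
    have h1 : w ^ n ∈ nilradical (P ⊗[k'] B) := ker_qmap_le_nilradical hn
    have h2 : w ∈ nilradical (P ⊗[k'] B) := by
      rw [mem_nilradical] at h1 ⊢
      exact IsNilpotent.of_pow h1
    exact h h2

end L1


section Finset
variable {k : Type u} [Field k] {S : Type u} [CommRing S] [Algebra k S]
variable {L : Type u} [Field L] [Algebra k L]

lemma exists_finite_intermediateField_finset [Algebra.IsAlgebraic k L] (s : Finset (L ⊗[k] S)) :
    ∃ E : IntermediateField k L, FiniteDimensional k E ∧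
      ∀ x ∈ s, x ∈ Set.range (Algebra.TensorProduct.map E.val (AlgHom.id k S)) := by
  classical
  induction s using Finset.induction_on with
  | empty => exact ⟨⊥, inferInstance, by simp⟩
  | insert a s _ ih =>
    obtain ⟨E₁, h1, hs⟩ := ih
    obtain ⟨E₂, h2, ha⟩ := exists_finite_intermediateField (k := k) a
    refine ⟨E₁ ⊔ E₂, IntermediateField.finiteDimensional_sup E₁ E₂, ?_⟩
    intro x hx
    rcases Finset.mem_insert.mp hx with rfl | hx
    · exact range_map_val_mono' le_sup_right ha
    · exact range_map_val_mono' le_sup_left (hs x hx)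

lemma exists_finite_subfield [Algebra.IsAlgebraic k L] (s : Finset (L ⊗[k] S)) :
    ∃ (k' : Type u) (_ : Field k') (_ : Algebra k k') (_ : Algebra k' L)
      (_ : IsScalarTower k k' L), Module.Finite k k' ∧
      ∀ x ∈ s, x ∈ Set.range (Algebra.TensorProduct.map (IsScalarTower.toAlgHom k k' L)
        (AlgHom.id k S)) := by
  obtain ⟨E, hE, hs⟩ := exists_finite_intermediateField_finset (k := k) s
  exact ⟨E, inferInstance, inferInstance, inferInstance, inferInstance, hE, hs⟩

end Finset

section Main

theorem exists_of_isArtinianRing (p : ℕ) [Fact p.Prime] (k K : Type u) [Field k] [CharP k p]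
    [Field K] [Algebra k K] (P : Type u) [Field P] [Algebra k P] [PerfectRing P p]
    [IsPRadical (algebraMap k P) p] (hA : IsArtinianRing (K ⊗[k] P)) :
    ∃ (k' : Type u) (_ : Field k') (_ : Algebra k k'), Module.Finite k k' ∧
      IsPurelyInseparable k k' ∧
        Algebra.IsGeometricallyReduced k' ((k' ⊗[k] K) ⧸ nilradical (k' ⊗[k] K)) := by
  haveI : ExpChar k p := ExpChar.prime Fact.out
  haveI hpi : IsPurelyInseparable k P := IsPRadical.isPurelyInseparable k P p
  haveI : Algebra.IsAlgebraic k P := inferInstance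
  haveI : IsNoetherianRing (K ⊗[k] P) := inferInstance
  haveI hN : IsNoetherianRing (P ⊗[k] K) :=
    isNoetherianRing_of_ringEquiv (K ⊗[k] P) (Algebra.TensorProduct.comm k K P).toRingEquiv
  obtain ⟨s, hs⟩ := (isNoetherianRing_iff_ideal_fg _).mp hN (nilradical (P ⊗[k] K))
  obtain ⟨k', _, _, _, _, hE, hsE⟩ := exists_finite_subfield (k := k) (L := P) (S := K) s
  haveI : IsPurelyInseparable k k' := IsPurelyInseparable.tower_bot k k' P
  refine ⟨k', inferInstance, inferInstance, hE, inferInstance, ?_⟩
  haveI : CharP k' p := charP_of_injective_algebraMap (algebraMap k k').injective p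
  apply isGeometricallyReduced_of_isReduced_tensor_perfect p (P := P)
  rw [isReduced_quot_iff]
  let e := Algebra.TensorProduct.cancelBaseChange k k' k' P K
  have he : ∀ y : k' ⊗[k] K, e (1 ⊗ₜ y) =
      Algebra.TensorProduct.map (IsScalarTower.toAlgHom k k' P) (AlgHom.id k K) y := by
    intro y
    induction y using TensorProduct.induction_on with
    | zero => simp
    | tmul a c =>
      simp only [e, Algebra.TensorProduct.cancelBaseChange_tmul, Algebra.TensorProduct.map_tmul,
        AlgHom.coe_id, id_eq]
      congr 1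
      rw [Algebra.smul_def, mul_one]
      rfl
    | add y z hy hz => rw [tmul_add, map_add, map_add, hy, hz]
  have hinj : Function.Injective (Algebra.TensorProduct.map (IsScalarTower.toAlgHom k k' P)
      (AlgHom.id k K)) :=
    map_left_injective (S := K) (IsScalarTower.toAlgHom k k' P)
      (IsScalarTower.toAlgHom k k' P).toRingHom.injective
  have key : ∀ x ∈ Ideal.span (s : Set (P ⊗[k] K)), e.symm x ∈
      (nilradical (k' ⊗[k] K)).map
        (Algebra.TensorProduct.includeRight : k' ⊗[k] K →ₐ[k'] P ⊗[k'] (k' ⊗[k] K)) := by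
    intro x hx
    induction hx using Submodule.span_induction with
    | mem x hx =>
      obtain ⟨y, rfl⟩ := hsE x hx
      rw [← he, AlgEquiv.symm_apply_apply]
      apply Ideal.mem_map_of_mem
      rw [mem_nilradical]
      have hnil : IsNilpotent (Algebra.TensorProduct.map (IsScalarTower.toAlgHom k k' P)
          (AlgHom.id k K) y) := by
        rw [← mem_nilradical, ← hs]; exact Ideal.subset_span hx
      exact (IsNilpotent.map_iff hinj).mp hnil
    | zero => simp
    | add x y _ _ hx hy => rw [map_add]; exact Ideal.add_mem _ hx hy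
    | smul a x _ hx => rw [smul_eq_mul, map_mul]; exact Ideal.mul_mem_left _ _ hx
  intro w hw
  have hw' : e w ∈ nilradical (P ⊗[k] K) := by
    rw [mem_nilradical] at hw ⊢; exact hw.map e
  rw [← hs] at hw'
  have := key _ hw'
  rwa [AlgEquiv.symm_apply_apply] at this

attribute [local instance] Algebra.TensorProduct.rightAlgebra in
theorem isArtinianRing_of_exists (p : ℕ) [Fact p.Prime] (k K : Type u) [Field k] [CharP k p]
    [Field K] [Algebra k K] (P : Type u) [Field P] [Algebra k P] [PerfectRing P p]
    [IsPRadical (algebraMap k P) p] (k' : Type u) [Field k'] [Algebra k k'] [Module.Finite k k']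
    [IsPurelyInseparable k k']
    (hgr : Algebra.IsGeometricallyReduced k' ((k' ⊗[k] K) ⧸ nilradical (k' ⊗[k] K))) :
    IsArtinianRing (K ⊗[k] P) := by
  haveI : ExpChar k p := ExpChar.prime Fact.out
  haveI : CharP k' p := charP_of_injective_algebraMap (algebraMap k k').injective p
  haveI : ExpChar k' p := ExpChar.prime Fact.out
  haveI : CharP P p := charP_of_injective_algebraMap (algebraMap k P).injective p
  haveI : ExpChar P p := ExpChar.prime Fact.out
  haveI hpi : IsPurelyInseparable k P := IsPRadical.isPurelyInseparable k P p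
  let j : k' →+* P := PerfectRing.lift (algebraMap k k') (algebraMap k P) p
  letI : Algebra k' P := j.toAlgebra
  haveI : IsScalarTower k k' P := IsScalarTower.of_algebraMap_eq fun x =>
    (PerfectRing.lift_comp_apply (algebraMap k k') (algebraMap k P) p x).symm
  haveI hred : IsReduced (P ⊗[k'] ((k' ⊗[k] K) ⧸ nilradical (k' ⊗[k] K))) :=
    isReduced_tensor_of_isGeometricallyReduced P
  have hle := isReduced_quot_iff.mp hred
  haveI : IsNoetherianRing (K ⊗[k] k') := IsNoetherianRing.of_finite K (K ⊗[k] k')
  haveI hNB : IsNoetherianRing (k' ⊗[k] K) :=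
    isNoetherianRing_of_ringEquiv (K ⊗[k] k') (Algebra.TensorProduct.comm k K k').toRingEquiv
  have hfgB : (nilradical (k' ⊗[k] K)).FG := (isNoetherianRing_iff_ideal_fg _).mp hNB _
  have hfg1 : ((nilradical (k' ⊗[k] K)).map
      (Algebra.TensorProduct.includeRight : k' ⊗[k] K →ₐ[k'] P ⊗[k'] (k' ⊗[k] K))).FG :=
    hfgB.map _
  have heq : nilradical (P ⊗[k'] (k' ⊗[k] K)) = (nilradical (k' ⊗[k] K)).map
      (Algebra.TensorProduct.includeRight : k' ⊗[k] K →ₐ[k'] P ⊗[k'] (k' ⊗[k] K)) :=
    le_antisymm hle (ker_qmap (k' := k') (P := P) (B := k' ⊗[k] K) ▸ ker_qmap_le_nilradical)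
  have hfg2 : (nilradical (P ⊗[k'] (k' ⊗[k] K))).FG := heq ▸ hfg1
  let e := Algebra.TensorProduct.cancelBaseChange k k' k' P K
  have hfg3 : (nilradical (P ⊗[k] K)).FG := by
    let er : P ⊗[k'] (k' ⊗[k] K) →+* P ⊗[k] K := e.toRingEquiv.toRingHom
    have h3 : nilradical (P ⊗[k] K) = (nilradical (P ⊗[k'] (k' ⊗[k] K))).map er := by
      ext x
      rw [Ideal.mem_map_iff_of_surjective er e.surjective]
      constructor
      · intro hx
        refine ⟨e.symm x, ?_, e.apply_symm_apply x⟩
        rw [mem_nilradical] at hx ⊢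
        exact hx.map e.symm
      · rintro ⟨y, hy, rfl⟩
        rw [mem_nilradical] at hy ⊢
        exact hy.map e
    rw [h3]
    exact hfg2.map _
  have hprime : (nilradical (P ⊗[k] K)).IsPrime :=
    isPrime_nilradical_tensor_of_purelyInseparable P
      (by rw [nilradical_eq_zero]; exact Ideal.isPrime_bot)
  haveI : Algebra.IsIntegral K (P ⊗[k] K) := isIntegral_tensor
  have hmax : ∀ I : Ideal (P ⊗[k] K), I.IsPrime → I.IsMaximal := by
    intro I hI
    apply Ideal.isMaximal_of_isIntegral_of_isMaximal_comap (R := K) I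
    haveI : (I.comap (algebraMap K (P ⊗[k] K))).IsPrime := Ideal.IsPrime.comap _
    rw [Ideal.eq_bot_of_prime (I.comap (algebraMap K (P ⊗[k] K)))]
    exact Ideal.bot_isMaximal
  have hall : ∀ I : Ideal (P ⊗[k] K), I.IsPrime → I = nilradical (P ⊗[k] K) := by
    intro I hI
    have hm := hmax _ hprime
    exact (hm.eq_of_le hI.ne_top (nilradical_le_prime I)).symm
  haveI : IsNoetherianRing (P ⊗[k] K) :=
    IsNoetherianRing.of_prime fun I hI => (hall I hI) ▸ hfg3
  haveI : Ring.KrullDimLE 0 (P ⊗[k] K) := .mk₀ hmax
  haveI : IsArtinianRing (P ⊗[k] K) :=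
    isArtinianRing_iff_isNoetherianRing_krullDimLE_zero.mpr ⟨inferInstance, inferInstance⟩
  exact (Algebra.TensorProduct.comm k P K).toRingEquiv.isArtinianRing

end Main

end Groth.Agent.Lib.Helper14.PerfArt
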