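import Mathlib

set_option autoImplicit false
universe u
open TensorProduct

namespace Groth.Agent.Lib.Helper6.BcAlg

/-- a predicate on rings which is invariant under isomorphism -/
structure RingProp where
  P : ∀ (T : Type u) [CommRing T], Prop
  equiv : ∀ (T T' : Type u) [CommRing T] [CommRing T'], (T ≃+* T') → P T → P T'

/-- localisation of a localisation at a prime, for an abstract localisation -/
noncomputable def locLocEquiv {A S : Type u} [CommRing A] [CommRing S] [Algebra A S]
    (M : Submonoid A) [IsLocalization M S] (q : Ideal S) [q.IsPrime] :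
    Localization.AtPrime (q.comap (algebraMap A S)) ≃+* Localization.AtPrime q := by
  haveI : IsLocalization.AtPrime (Localization.AtPrime q) (q.comap (algebraMap A S)) :=
    IsLocalization.isLocalization_isLocalization_atPrime_isLocalization M
      (Localization.AtPrime q) q
  exact (IsLocalization.algEquiv (q.comap (algebraMap A S)).primeCompl
    (Localization.AtPrime (q.comap (algebraMap A S))) (Localization.AtPrime q)).toRingEquiv

section Gen

variable (PP : RingProp.{u})

theorem RingProp.congr_ideal {T : Type u} [CommRing T] {q1 q2 : Ideal T} [q1.IsPrime] [q2.IsPrime]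
    (h : q1 = q2) (h1 : PP.P (Localization.AtPrime q1)) : PP.P (Localization.AtPrime q2) := by
  subst h; exact h1

/-- a property that localises holds at all primes once it holds at the maximal ideals -/
theorem forall_prime_of_forall_maximal
    (hloc : ∀ (T : Type u) [CommRing T], PP.P T → ∀ (q : Ideal T) [q.IsPrime],
      PP.P (Localization.AtPrime q))
    (T : Type u) [CommRing T]
    (h : ∀ (M : Ideal T) [M.IsMaximal], PP.P (Localization.AtPrime M))
    (Q : Ideal T) [Q.IsPrime] : PP.P (Localization.AtPrime Q) := by
  obtain ⟨M, hM, hQM⟩ := Ideal.exists_le_maximal Q (Ideal.IsPrime.ne_top inferInstance)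
  have hdisj : Disjoint (M.primeCompl : Set T) (Q : Set T) := by
    rw [Set.disjoint_left]
    intro a ha haQ
    exact ha (hQM haQ)
  haveI : (Q.map (algebraMap T (Localization.AtPrime M))).IsPrime :=
    IsLocalization.isPrime_of_isPrime_disjoint M.primeCompl _ Q inferInstance hdisj
  have h1 := hloc _ (h M) (Q.map (algebraMap T (Localization.AtPrime M)))
  have h2 := PP.equiv _ _ (IsLocalization.localizationLocalizationAtPrimeIsoLocalization
    M.primeCompl (Q.map (algebraMap T (Localization.AtPrime M)))).toRingEquiv.symm h1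
  exact PP.congr_ideal (IsLocalization.comap_map_of_isPrime_disjoint M.primeCompl _
    inferInstance hdisj) h2

end Gen

section A1

variable (k R K : Type u) [Field k] [CommRing R] [Algebra k R] [CommRing K] [Algebra k K]
  (p : Ideal R) [p.IsPrime]

/-- `R ⊗ K → R_p ⊗ K`. -/
noncomputable def locMap : R ⊗[k] K →ₐ[k] Localization.AtPrime p ⊗[k] K :=
  Algebra.TensorProduct.map (IsScalarTower.toAlgHom k R (Localization.AtPrime p)) (AlgHom.id k K)

noncomputable abbrev algTP : Algebra (R ⊗[k] K) (Localization.AtPrime p ⊗[k] K) :=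
  (locMap k R K p).toRingHom.toAlgebra

attribute [local instance] algTP

instance : IsScalarTower R (R ⊗[k] K) (Localization.AtPrime p ⊗[k] K) :=
  IsScalarTower.of_algebraMap_eq fun r => by
    change _ = locMap k R K p (r ⊗ₜ 1)
    simp [locMap]

theorem isLocalization_tensor :
    IsLocalization (Algebra.algebraMapSubmonoid (R ⊗[k] K) p.primeCompl)
      (Localization.AtPrime p ⊗[k] K) := by
  rw [Algebra.isLocalization_iff_isPushout p.primeCompl (Localization.AtPrime p)]
  refine (Algebra.IsPushout.tensorProduct_tensorProduct k K R (Localization.AtPrime p) ?_).symm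
  ext x
  change locMap k R K p (1 ⊗ₜ x) = _
  simp [locMap]

variable (PP : RingProp.{u})

/-- primes of `R ⊗ K` over primes `⊆ p` come from `R_p ⊗ K` -/
theorem prop_of_le (h : ∀ (Q' : Ideal (Localization.AtPrime p ⊗[k] K)) [Q'.IsPrime],
      PP.P (Localization.AtPrime Q'))
    (Q : Ideal (R ⊗[k] K)) [Q.IsPrime]
    (hQ : Q.comap (Algebra.TensorProduct.includeLeftRingHom) ≤ p) :
    PP.P (Localization.AtPrime Q) := by
  haveI := isLocalization_tensor k R K p
  have hdisj : Disjoint (Algebra.algebraMapSubmonoid (R ⊗[k] K) p.primeCompl : Set (R ⊗[k] K))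
      (Q : Set (R ⊗[k] K)) := by
    rw [Set.disjoint_left]
    rintro _ ⟨s, hs, rfl⟩ hsQ
    exact hs (hQ hsQ)
  haveI : (Q.map (algebraMap (R ⊗[k] K) (Localization.AtPrime p ⊗[k] K))).IsPrime :=
    IsLocalization.isPrime_of_isPrime_disjoint _ _ Q inferInstance hdisj
  have h1 := h (Q.map (algebraMap (R ⊗[k] K) (Localization.AtPrime p ⊗[k] K)))
  have h2 := PP.equiv _ _ (locLocEquiv
    (Algebra.algebraMapSubmonoid (R ⊗[k] K) p.primeCompl)
    (Q.map (algebraMap (R ⊗[k] K) (Localization.AtPrime p ⊗[k] K)))).symm h1
  exact PP.congr_ideal (IsLocalization.comap_map_of_isPrime_disjoint _ _ inferInstance hdisj) h2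

/-- maximal ideals of `R_p ⊗ K` (for `K/k` integral) come from primes of `R ⊗ K` over `p` -/
theorem prop_maximal_of_over [Algebra.IsIntegral k K]
    (h : ∀ (Q : Ideal (R ⊗[k] K)) [Q.IsPrime],
      Q.comap (Algebra.TensorProduct.includeLeftRingHom) = p → PP.P (Localization.AtPrime Q))
    (M : Ideal (Localization.AtPrime p ⊗[k] K)) [M.IsMaximal] :
    PP.P (Localization.AtPrime M) := by
  haveI := isLocalization_tensor k R K p
  have h1 := h (M.comap (algebraMap (R ⊗[k] K) (Localization.AtPrime p ⊗[k] K))) ?_
  · exact PP.equiv _ _ (locLocEquiv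
      (Algebra.algebraMapSubmonoid (R ⊗[k] K) p.primeCompl) M) h1
  · haveI : Algebra.IsIntegral (Localization.AtPrime p) (Localization.AtPrime p ⊗[k] K) :=
      inferInstance
    have hmax : (M.comap (algebraMap (Localization.AtPrime p)
        (Localization.AtPrime p ⊗[k] K))).IsMaximal :=
      Ideal.isMaximal_comap_of_isIntegral_of_isMaximal M
    have hloc := IsLocalRing.eq_maximalIdeal hmax
    rw [Ideal.comap_comap]
    have hcomp : (algebraMap (R ⊗[k] K) (Localization.AtPrime p ⊗[k] K)).comp
        (Algebra.TensorProduct.includeLeftRingHom) =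
        (algebraMap (Localization.AtPrime p) (Localization.AtPrime p ⊗[k] K)).comp
          (algebraMap R (Localization.AtPrime p)) := by
      ext r
      change locMap k R K p (r ⊗ₜ 1) = _
      simp [locMap]
    rw [hcomp, ← Ideal.comap_comap, hloc]
    exact Localization.AtPrime.comap_maximalIdeal

end A1

end Groth.Agent.Lib.Helper6.BcAlg
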