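import Mathlib
import Groth.Prelude.Def_Curv2

set_option autoImplicit false
universe u
open CategoryTheory CategoryTheory.Limits AlgebraicGeometry TensorProduct

namespace Groth.Agent.Lib.Helper6.BcBridge

/-- stalk iso for an open immersion followed by the stalk of `Spec` -/
noncomputable def stalkEquivSpec {S : Type u} [CommRing S] {Y : Scheme.{u}}
    (j : Spec (CommRingCat.of S) ⟶ Y) [IsOpenImmersion j] (Q : PrimeSpectrum S) :
    Y.presheaf.stalk (j Q) ≃+* Localization.AtPrime Q.asIdeal :=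
  (asIso (j.stalkMap Q) ≪≫ Spec.stalkIso (CommRingCat.of S) Q).commRingCatIsoToRingEquiv

theorem exists_stalkEquiv_of_mem_range {S : Type u} [CommRing S] {Y : Scheme.{u}}
    (j : Spec (CommRingCat.of S) ⟶ Y) [IsOpenImmersion j] (y : Y) (hy : y ∈ Set.range j) :
    ∃ Q : PrimeSpectrum S, j Q = y ∧
      Nonempty (Y.presheaf.stalk y ≃+* Localization.AtPrime Q.asIdeal) := by
  obtain ⟨Q, rfl⟩ := hy
  exact ⟨Q, rfl, ⟨stalkEquivSpec j Q⟩⟩

section Chart

variable (k : Type u) [Field k] (X : Scheme.{u}) [X.Over (Spec (CommRingCat.of k))]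
  (K : Type u) [Field K] [Algebra k K]
  {R : Type u} [CommRing R] [Algebra k R] (ι : Spec (CommRingCat.of R) ⟶ X) [IsOpenImmersion ι]
  (hι : ι ≫ (X ↘ Spec (CommRingCat.of k)) = Spec.map (CommRingCat.ofHom (algebraMap k R)))

/-- the chart of `X_K` over an affine chart of `X` -/
noncomputable def chartMap : Spec (CommRingCat.of (R ⊗[k] K)) ⟶ Curv2.bc k X K :=
  (pullbackSpecIso k R K).inv ≫
    pullback.map (Spec.map (CommRingCat.ofHom (algebraMap k R)))
      (Spec.map (CommRingCat.ofHom (algebraMap k K)))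
      (X ↘ Spec (CommRingCat.of k)) (Spec.map (CommRingCat.ofHom (algebraMap k K)))
      ι (𝟙 _) (𝟙 _) (by rw [Category.comp_id, hι]) (by simp)

instance : IsOpenImmersion (chartMap k X K ι hι) := by
  unfold chartMap
  infer_instance

omit [IsOpenImmersion ι] in
theorem chartMap_fst :
    chartMap k X K ι hι ≫ Curv2.bcFst k X K =
      Spec.map (CommRingCat.ofHom (Algebra.TensorProduct.includeLeftRingHom)) ≫ ι := by
  unfold chartMap
  rw [Category.assoc, pullback.lift_fst, ← Category.assoc, pullbackSpecIso_inv_fst]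

omit [IsOpenImmersion ι] in
theorem range_chartMap :
    Set.range (chartMap k X K ι hι) = (Curv2.bcFst k X K) ⁻¹' Set.range ι := by
  unfold chartMap
  rw [Scheme.Hom.comp_base, TopCat.coe_comp, Set.range_comp, Set.range_eq_univ.mpr, Set.image_univ,
    Scheme.Pullback.range_map]
  · simp
  · exact (pullbackSpecIso k R K).inv.surjective

/-- the chart of `X_K`, with the tensor product written as `K ⊗[k] R` -/
noncomputable def chartMap' : Spec (CommRingCat.of (K ⊗[k] R)) ⟶ Curv2.bc k X K :=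
  Spec.map (RingEquiv.toCommRingCatIso (Algebra.TensorProduct.comm k R K).toRingEquiv).hom ≫
    chartMap k X K ι hι

instance : IsOpenImmersion (chartMap' k X K ι hι) := by
  unfold chartMap'
  infer_instance

omit [IsOpenImmersion ι] in
theorem chartMap'_fst :
    chartMap' k X K ι hι ≫ Curv2.bcFst k X K =
      Spec.map (CommRingCat.ofHom
        (Algebra.TensorProduct.includeRight : R →ₐ[k] K ⊗[k] R).toRingHom) ≫ ι := by
  unfold chartMap'
  rw [Category.assoc, chartMap_fst, ← Category.assoc, ← Spec.map_comp]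
  congr 2

omit [IsOpenImmersion ι] in
theorem range_chartMap' :
    Set.range (chartMap' k X K ι hι) = (Curv2.bcFst k X K) ⁻¹' Set.range ι := by
  unfold chartMap'
  rw [Scheme.Hom.comp_base, TopCat.coe_comp, Set.range_comp, Set.range_eq_univ.mpr, Set.image_univ,
    range_chartMap]
  exact (Spec.map (RingEquiv.toCommRingCatIso
    (Algebra.TensorProduct.comm k R K).toRingEquiv).hom).surjective

omit [IsOpenImmersion ι] in
theorem bcFst_chartMap' (Q : PrimeSpectrum (K ⊗[k] R)) :
    Curv2.bcFst k X K (chartMap' k X K ι hι Q) =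
      ι (PrimeSpectrum.comap
        (Algebra.TensorProduct.includeRight : R →ₐ[k] K ⊗[k] R).toRingHom Q) := by
  rw [← Scheme.Hom.comp_apply, chartMap'_fst]
  rfl

include hι in
/-- **T2**: every prime of `K ⊗ R` is a point of `X_K` with the expected local ring. -/
theorem exists_point_of_prime (Q : PrimeSpectrum (K ⊗[k] R)) :
    ∃ x' : Curv2.bc k X K, Curv2.bcFst k X K x' = ι (PrimeSpectrum.comap
        (Algebra.TensorProduct.includeRight : R →ₐ[k] K ⊗[k] R).toRingHom Q) ∧
      Nonempty ((Curv2.bc k X K).presheaf.stalk x' ≃+* Localization.AtPrime Q.asIdeal) :=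
  ⟨chartMap' k X K ι hι Q, bcFst_chartMap' k X K ι hι Q, ⟨stalkEquivSpec _ Q⟩⟩

include hι in
/-- **T1**: every point of `X_K` over the chart is a prime of `K ⊗ R`. -/
theorem exists_prime_of_point (x' : Curv2.bc k X K) (z : PrimeSpectrum R)
    (hz : ι z = Curv2.bcFst k X K x') :
    ∃ Q : PrimeSpectrum (K ⊗[k] R), PrimeSpectrum.comap
        (Algebra.TensorProduct.includeRight : R →ₐ[k] K ⊗[k] R).toRingHom Q = z ∧
      Nonempty ((Curv2.bc k X K).presheaf.stalk x' ≃+* Localization.AtPrime Q.asIdeal) := by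
  have hx' : x' ∈ Set.range (chartMap' k X K ι hι) := by
    rw [range_chartMap']
    exact ⟨z, hz⟩
  obtain ⟨Q, hQ, e⟩ := exists_stalkEquiv_of_mem_range _ x' hx'
  refine ⟨Q, ?_, e⟩
  have h1 := bcFst_chartMap' k X K ι hι Q
  rw [hQ, ← hz] at h1
  exact (ι.isOpenEmbedding.injective h1).symm

omit [IsOpenImmersion ι] in
theorem bcFst_chartMap (Q : PrimeSpectrum (R ⊗[k] K)) :
    Curv2.bcFst k X K (chartMap k X K ι hι Q) =
      ι (PrimeSpectrum.comap (Algebra.TensorProduct.includeLeftRingHom) Q) := by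
  rw [← Scheme.Hom.comp_apply, chartMap_fst]
  rfl

include hι in
/-- **T2** (for `R ⊗ K`): every prime of `R ⊗ K` is a point of `X_K` with the expected local
ring. -/
theorem exists_point_of_prime_left (Q : PrimeSpectrum (R ⊗[k] K)) :
    ∃ x' : Curv2.bc k X K, Curv2.bcFst k X K x' =
        ι (PrimeSpectrum.comap (Algebra.TensorProduct.includeLeftRingHom) Q) ∧
      Nonempty ((Curv2.bc k X K).presheaf.stalk x' ≃+* Localization.AtPrime Q.asIdeal) :=
  ⟨chartMap k X K ι hι Q, bcFst_chartMap k X K ι hι Q, ⟨stalkEquivSpec _ Q⟩⟩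

include hι in
/-- **T1** (for `R ⊗ K`): every point of `X_K` over the chart is a prime of `R ⊗ K`. -/
theorem exists_prime_of_point_left (x' : Curv2.bc k X K) (z : PrimeSpectrum R)
    (hz : ι z = Curv2.bcFst k X K x') :
    ∃ Q : PrimeSpectrum (R ⊗[k] K),
      PrimeSpectrum.comap (Algebra.TensorProduct.includeLeftRingHom) Q = z ∧
      Nonempty ((Curv2.bc k X K).presheaf.stalk x' ≃+* Localization.AtPrime Q.asIdeal) := by
  have hx' : x' ∈ Set.range (chartMap k X K ι hι) := by
    rw [range_chartMap]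
    exact ⟨z, hz⟩
  obtain ⟨Q, hQ, e⟩ := exists_stalkEquiv_of_mem_range _ x' hx'
  refine ⟨Q, ?_, e⟩
  have h1 := bcFst_chartMap k X K ι hι Q
  rw [hQ, ← hz] at h1
  exact (ι.isOpenEmbedding.injective h1).symm

attribute [local instance] Curv2.stalkAlgebra

omit [IsOpenImmersion ι] in
include hι in
theorem stalkMap_chart_hom (z : PrimeSpectrum R) :
    CommRingCat.ofHom (Curv2.stalkMap k X (ι z)) ≫ ι.stalkMap z ≫
      (Spec.stalkIso (CommRingCat.of R) z).hom =
      CommRingCat.ofHom (algebraMap k (Localization.AtPrime z.asIdeal)) := by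
  have h1 : CommRingCat.ofHom (Curv2.stalkMap k X (ι z)) =
      (Scheme.ΓSpecIso (CommRingCat.of k)).inv ≫ (X ↘ Spec (CommRingCat.of k)).appTop ≫
        X.presheaf.germ ⊤ (ι z) trivial := by
    ext c
    rfl
  rw [h1]
  simp only [Category.assoc]
  rw [Scheme.Hom.germ_stalkMap_assoc]
  change (Scheme.ΓSpecIso (CommRingCat.of k)).inv ≫ (X ↘ Spec (CommRingCat.of k)).appTop ≫
    ι.appTop ≫ (Spec (CommRingCat.of R)).presheaf.germ ⊤ z trivial ≫
      (Spec.stalkIso (CommRingCat.of R) z).hom = _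
  rw [← Scheme.Hom.comp_appTop_assoc, hι, Spec.germ_stalkMapIso_hom,
    ← Scheme.ΓSpecIso_inv_naturality_assoc,
    Iso.inv_hom_id_assoc, ← CommRingCat.ofHom_comp, ← IsScalarTower.algebraMap_eq]

/-- **T3**: `O_{X, ι z} ≃ₐ[k] R_z`. -/
noncomputable def stalkAlgEquiv (z : PrimeSpectrum R) :
    X.presheaf.stalk (ι z) ≃ₐ[k] Localization.AtPrime z.asIdeal :=
  { (asIso (ι.stalkMap z) ≪≫ Spec.stalkIso (CommRingCat.of R) z).commRingCatIsoToRingEquiv with
    commutes' := fun c => by
      have := congrArg (fun f => f.hom c) (stalkMap_chart_hom k X ι hι z)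
      exact this }

end Chart

section Exists

variable (k : Type u) [Field k] (X : Scheme.{u}) [X.Over (Spec (CommRingCat.of k))]

/-- every point lies in an affine chart -/
theorem exists_chart (x : X) :
    ∃ (R : Type u) (_ : CommRing R) (_ : Algebra k R) (ι : Spec (CommRingCat.of R) ⟶ X)
      (_ : IsOpenImmersion ι)
      (_ : ι ≫ (X ↘ Spec (CommRingCat.of k)) = Spec.map (CommRingCat.ofHom (algebraMap k R)))
      (z : PrimeSpectrum R), ι z = x := by
  let 𝒜 := X.affineOpenCover
  obtain ⟨z, hz⟩ := 𝒜.covers x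
  let R : Type u := 𝒜.X (𝒜.idx x)
  let ι : Spec (CommRingCat.of R) ⟶ X := 𝒜.f (𝒜.idx x)
  let φ : CommRingCat.of k ⟶ CommRingCat.of R := Spec.preimage (ι ≫ (X ↘ Spec (CommRingCat.of k)))
  letI : Algebra k R := φ.hom.toAlgebra
  refine ⟨R, inferInstance, inferInstance, ι, inferInstanceAs (IsOpenImmersion (𝒜.f (𝒜.idx x))), ?_, z, hz⟩
  exact (Spec.map_preimage _).symm

end Exists

end Groth.Agent.Lib.Helper6.BcBridge
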