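import Mathlib
import Groth.Prelude.Def_Curv2
import Groth.Prelude.Def_EGA4b
import Groth.Prelude.Def_Found
import Groth.Agent.Lib.Helper6BcBridge
import Groth.Agent.Lib.Helper6BcAlg
import Groth.Agent.Lib.Helper6GeomBC
import Groth.Agent.Lib.Helper6SepBC
import Groth.Agent.Lib.Helper6SepNorm

set_option autoImplicit false
universe u
open CategoryTheory CategoryTheory.Limits AlgebraicGeometry TensorProduct

namespace Groth.Agent.Lib.Helper6.BcGeom

open Groth.Agent.Lib.Helper6.BcBridge Groth.Agent.Lib.Helper6.BcAlg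

/-- "integrally closed domain" as a ring property -/
def normalProp : RingProp.{u} where
  P T _ := IsDomain T ∧ IsIntegrallyClosed T
  equiv T T' _ _ e h := by
    obtain ⟨h1, h2⟩ := h
    exact ⟨e.symm.toMulEquiv.isDomain, IsIntegrallyClosed.of_equiv e⟩

theorem normalProp_loc (T : Type u) [CommRing T] (h : normalProp.P T) (q : Ideal T) [q.IsPrime] :
    normalProp.P (Localization.AtPrime q) := by
  obtain ⟨h1, h2⟩ := h
  exact Groth.Agent.Lib.Helper6.SepBC.isNormalRing_of_normal T q

/-- "regular local ring" as a ring property -/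
def regularProp : RingProp.{u} where
  P T _ := IsRegularLocalRing T
  equiv T T' _ _ e h := by
    haveI := h
    exact IsRegularLocalRing.of_ringEquiv e

theorem regularProp_loc (T : Type u) [CommRing T] (h : regularProp.P T) (q : Ideal T)
    [q.IsPrime] : regularProp.P (Localization.AtPrime q) := by
  haveI : IsRegularLocalRing T := h
  exact Groth.Agent.Lib.Helper28.isRegularLocalRing_localization_of_isRegularLocalRing T q

section Ring

variable (k R K : Type u) [Field k] [CommRing R] [Algebra k R] [Field K] [Algebra k K]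
  (p : Ideal R) [p.IsPrime]

theorem isNormalRing_tensor_of_over [Algebra.IsIntegral k K]
    (h : ∀ (Q : Ideal (R ⊗[k] K)) [Q.IsPrime],
      Q.comap (Algebra.TensorProduct.includeLeftRingHom) = p →
        IsDomain (Localization.AtPrime Q) ∧ IsIntegrallyClosed (Localization.AtPrime Q)) :
    EGA4.IsNormalRing (Localization.AtPrime p ⊗[k] K) := fun Q' _ =>
  forall_prime_of_forall_maximal normalProp normalProp_loc _
    (fun M _ => prop_maximal_of_over k R K p normalProp h M) Q'

theorem normal_of_isNormalRing_tensor (h : EGA4.IsNormalRing (Localization.AtPrime p ⊗[k] K))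
    (Q : Ideal (R ⊗[k] K)) [Q.IsPrime]
    (hQ : Q.comap (Algebra.TensorProduct.includeLeftRingHom) ≤ p) :
    IsDomain (Localization.AtPrime Q) ∧ IsIntegrallyClosed (Localization.AtPrime Q) :=
  prop_of_le k R K p normalProp (fun Q' _ => h Q') Q hQ

theorem isRegularRing_tensor_of_over [Module.Finite k K]
    [IsNoetherianRing (Localization.AtPrime p)]
    (h : ∀ (Q : Ideal (R ⊗[k] K)) [Q.IsPrime],
      Q.comap (Algebra.TensorProduct.includeLeftRingHom) = p →
        IsRegularLocalRing (Localization.AtPrime Q)) :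
    IsRegularRing (Localization.AtPrime p ⊗[k] K) := by
  haveI : Module.Finite (Localization.AtPrime p) (Localization.AtPrime p ⊗[k] K) := inferInstance
  haveI : IsNoetherianRing (Localization.AtPrime p ⊗[k] K) :=
    IsNoetherianRing.of_finite (Localization.AtPrime p) _
  refine isRegularRing_iff.mpr fun Q' _ => ?_
  exact forall_prime_of_forall_maximal regularProp regularProp_loc _
    (fun M _ => prop_maximal_of_over k R K p regularProp h M) Q'

theorem regular_of_isRegularRing_tensor (h : IsRegularRing (Localization.AtPrime p ⊗[k] K))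
    (Q : Ideal (R ⊗[k] K)) [Q.IsPrime]
    (hQ : Q.comap (Algebra.TensorProduct.includeLeftRingHom) ≤ p) :
    IsRegularLocalRing (Localization.AtPrime Q) :=
  prop_of_le k R K p regularProp
    (fun Q' _ => (inferInstance : IsRegularLocalRing (Localization.AtPrime Q'))) Q hQ

end Ring

section Scheme

attribute [local instance] Curv2.stalkAlgebra

variable (k : Type u) [Field k] (X : Scheme.{u}) [X.Over (Spec (CommRingCat.of k))]

/-- `K ⊗ O_{X, ι z} ≃ R_z ⊗ K` -/
noncomputable def tensorStalkEquiv (K : Type u) [Field K] [Algebra k K]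
    {R : Type u} [CommRing R] [Algebra k R] (ι : Spec (CommRingCat.of R) ⟶ X) [IsOpenImmersion ι]
    (hι : ι ≫ (X ↘ Spec (CommRingCat.of k)) = Spec.map (CommRingCat.ofHom (algebraMap k R)))
    (z : PrimeSpectrum R) :
    K ⊗[k] X.presheaf.stalk (ι z) ≃+* Localization.AtPrime z.asIdeal ⊗[k] K :=
  ((Algebra.TensorProduct.congr (AlgEquiv.refl : K ≃ₐ[k] K) (stalkAlgEquiv k X ι hι z)).trans
    (Algebra.TensorProduct.comm k K (Localization.AtPrime z.asIdeal))).toRingEquiv

/-- (3) ⇒ (1) for normality -/
theorem normal_stalk_of_isNormalRing_tensor (K : Type u) [Field K] [Algebra k K]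
    (x' : Curv2.bc k X K) (x : X) (hx : Curv2.bcFst k X K x' = x)
    (h3 : EGA4.IsNormalRing (K ⊗[k] X.presheaf.stalk x)) :
    IsDomain ((Curv2.bc k X K).presheaf.stalk x') ∧
      IsIntegrallyClosed ((Curv2.bc k X K).presheaf.stalk x') := by
  obtain ⟨R, _, _, ι, _, hι, z, rfl⟩ := exists_chart k X x
  obtain ⟨Q, hQ, ⟨e⟩⟩ := exists_prime_of_point_left k X K ι hι x' z hx.symm
  have h3' : EGA4.IsNormalRing (Localization.AtPrime z.asIdeal ⊗[k] K) :=
    Groth.Agent.Lib.Helper6.SepNorm.isNormalRing_of_ringEquiv (tensorStalkEquiv k X K ι hι z) h3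
  have hle : Q.asIdeal.comap (Algebra.TensorProduct.includeLeftRingHom) ≤ z.asIdeal :=
    le_of_eq (congrArg PrimeSpectrum.asIdeal hQ)
  exact normalProp.equiv _ _ e.symm
    (normal_of_isNormalRing_tensor k R K z.asIdeal h3' Q.asIdeal hle)

/-- (2) ⇒ (3) for normality -/
theorem isNormalRing_tensor_stalk_of_purelyInseparable (x : X)
    (h2 : ∀ (k' : Type u) [Field k'] [Algebra k k'] [FiniteDimensional k k']
      [IsPurelyInseparable k k'] (x' : Curv2.bc k X k'), Curv2.bcFst k X k' x' = x →
        IsDomain ((Curv2.bc k X k').presheaf.stalk x') ∧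
          IsIntegrallyClosed ((Curv2.bc k X k').presheaf.stalk x'))
    (K : Type u) [Field K] [Algebra k K] : EGA4.IsNormalRing (K ⊗[k] X.presheaf.stalk x) := by
  obtain ⟨R, _, _, ι, _, hι, z, rfl⟩ := exists_chart k X x
  refine Groth.Agent.Lib.Helper6.SepNorm.isNormalRing_of_ringEquiv
    (tensorStalkEquiv k X K ι hι z).symm ?_
  refine Groth.Agent.Lib.Helper6.SepNorm.isNormalRing_of_ringEquiv
    (Algebra.TensorProduct.comm k K (Localization.AtPrime z.asIdeal)).toRingEquiv ?_
  refine Groth.Agent.Lib.Helper6.GeomBC.normal_of_purelyInseparable_field k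
    (Localization.AtPrime z.asIdeal) K fun k' _ _ hfin hpi => ?_
  haveI := hfin
  haveI := hpi
  refine Groth.Agent.Lib.Helper6.SepNorm.isNormalRing_of_ringEquiv
    (Algebra.TensorProduct.comm k (Localization.AtPrime z.asIdeal) k').toRingEquiv ?_
  refine isNormalRing_tensor_of_over k R k' z.asIdeal fun Q _ hQ => ?_
  obtain ⟨x', hx', ⟨e⟩⟩ := exists_point_of_prime_left k X k' ι hι ⟨Q, inferInstance⟩
  have hz : PrimeSpectrum.comap (Algebra.TensorProduct.includeLeftRingHom)
      (⟨Q, inferInstance⟩ : PrimeSpectrum (R ⊗[k] k')) = z := PrimeSpectrum.ext hQ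
  rw [hz] at hx'
  exact normalProp.equiv _ _ e (h2 k' x' hx')

end Scheme

section SchemeReg

attribute [local instance] Curv2.stalkAlgebra

variable (k : Type u) [Field k] (X : Scheme.{u}) [X.Over (Spec (CommRingCat.of k))]

/-- (3) ⇒ (1) for regularity -/
theorem regular_stalk_of_isRegularRing_tensor (K : Type u) [Field K] [Algebra k K]
    (x' : Curv2.bc k X K) (x : X) (hx : Curv2.bcFst k X K x' = x)
    (h3 : IsRegularRing (K ⊗[k] X.presheaf.stalk x)) :
    IsRegularLocalRing ((Curv2.bc k X K).presheaf.stalk x') := by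
  obtain ⟨R, _, _, ι, _, hι, z, rfl⟩ := exists_chart k X x
  obtain ⟨Q, hQ, ⟨e⟩⟩ := exists_prime_of_point_left k X K ι hι x' z hx.symm
  have h3' : IsRegularRing (Localization.AtPrime z.asIdeal ⊗[k] K) :=
    IsRegularRing.of_ringEquiv (tensorStalkEquiv k X K ι hι z)
  have hle : Q.asIdeal.comap (Algebra.TensorProduct.includeLeftRingHom) ≤ z.asIdeal :=
    le_of_eq (congrArg PrimeSpectrum.asIdeal hQ)
  exact regularProp.equiv _ _ e.symm
    (regular_of_isRegularRing_tensor k R K z.asIdeal h3' Q.asIdeal hle)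

/-- (2) ⇒ (3) for regularity -/
theorem isGeometricallyRegular_stalk_of_purelyInseparable [IsLocallyNoetherian X] (x : X)
    (h2 : ∀ (k' : Type u) [Field k'] [Algebra k k'] [FiniteDimensional k k']
      [IsPurelyInseparable k k'] (x' : Curv2.bc k X k'), Curv2.bcFst k X k' x' = x →
        IsRegularLocalRing ((Curv2.bc k X k').presheaf.stalk x')) :
    CAlg.IsGeometricallyRegular k (X.presheaf.stalk x) := by
  obtain ⟨R, _, _, ι, _, hι, z, rfl⟩ := exists_chart k X x
  haveI : IsNoetherianRing (Localization.AtPrime z.asIdeal) :=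
    isNoetherianRing_of_ringEquiv _ (stalkAlgEquiv k X ι hι z).toRingEquiv
  refine (Groth.Agent.Lib.Helper6.GeomBC.main2672 k (X.presheaf.stalk (ι z))).1.mpr
    fun k' _ _ hfin hpi => ?_
  haveI := hfin
  haveI := hpi
  haveI : IsRegularRing (Localization.AtPrime z.asIdeal ⊗[k] k') := by
    refine isRegularRing_tensor_of_over k R k' z.asIdeal fun Q _ hQ => ?_
    obtain ⟨x', hx', ⟨e⟩⟩ := exists_point_of_prime_left k X k' ι hι ⟨Q, inferInstance⟩
    have hz : PrimeSpectrum.comap (Algebra.TensorProduct.includeLeftRingHom)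
        (⟨Q, inferInstance⟩ : PrimeSpectrum (R ⊗[k] k')) = z := PrimeSpectrum.ext hQ
    rw [hz] at hx'
    exact regularProp.equiv _ _ e (h2 k' x' hx')
  exact IsRegularRing.of_ringEquiv (tensorStalkEquiv k X k' ι hι z).symm

/-- (2) ⇒ (1) for regularity -/
theorem isGeomRegularAt_of_purelyInseparable [IsLocallyNoetherian X] (x : X)
    (h2 : ∀ (k' : Type u) [Field k'] [Algebra k k'] [FiniteDimensional k k']
      [IsPurelyInseparable k k'] (x' : Curv2.bc k X k'), Curv2.bcFst k X k' x' = x →
        IsRegularLocalRing ((Curv2.bc k X k').presheaf.stalk x')) :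
    Curv2.IsGeomRegularAt k X x := by
  intro K _ _ hfg x' hx'
  have h3 := isGeometricallyRegular_stalk_of_purelyInseparable k X x h2
  haveI : Algebra.EssFiniteType k K :=
    (Algebra.EssFiniteType.iff_of_algEquiv (IntermediateField.topEquiv (F := k) (E := K))).mp
      (IntermediateField.essFiniteType_iff.mpr hfg)
  exact regular_stalk_of_isRegularRing_tensor k X K x' x hx'
    ((Groth.Agent.Lib.Helper6.GeomBC.main2672 k (X.presheaf.stalk x)).2.mp h3 K inferInstance)

end SchemeReg

end Groth.Agent.Lib.Helper6.BcGeom
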