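import Mathlib
import Groth.Prelude.Def_Curv2
import Groth.Prelude.Def_FDesc
import Groth.Agent.Lib.Helper6BcBridge
import Groth.Agent.Lib.Helper6BcAlg
import Groth.Agent.Lib.Helper6BcGeom
import Groth.Agent.Lib.Helper14GeomRed
import Groth.Agent.Lib.Helper14PerfArt

set_option autoImplicit false
universe u
open CategoryTheory CategoryTheory.Limits AlgebraicGeometry TensorProduct

namespace Groth.Agent.Lib.Helper6.BcRed

open Groth.Agent.Lib.Helper6.BcBridge Groth.Agent.Lib.Helper6.BcAlg Groth.Agent.Lib.Helper6.BcGeom

/-- "reduced" as a ring property -/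
def reducedProp : RingProp.{u} where
  P T _ := IsReduced T
  equiv T T' _ _ e h := by
    haveI := h
    exact isReduced_of_injective e.symm.toRingHom e.symm.injective

theorem reducedProp_loc (T : Type u) [CommRing T] (h : reducedProp.P T) (q : Ideal T)
    [q.IsPrime] : reducedProp.P (Localization.AtPrime q) := by
  haveI : IsReduced T := h
  exact (inferInstance : IsReduced (Localization.AtPrime q))

section Ring

variable (k R K : Type u) [Field k] [CommRing R] [Algebra k R] [Field K] [Algebra k K]
  (p : Ideal R) [p.IsPrime]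

attribute [local instance] algTP

/-- primes of `R_p ⊗ K` give primes of `R ⊗ K` over primes `⊆ p` -/
theorem prop_of_forall_le (PP : RingProp.{u})
    (h : ∀ (Q : Ideal (R ⊗[k] K)) [Q.IsPrime],
      Q.comap (Algebra.TensorProduct.includeLeftRingHom) ≤ p → PP.P (Localization.AtPrime Q))
    (Q' : Ideal (Localization.AtPrime p ⊗[k] K)) [Q'.IsPrime] :
    PP.P (Localization.AtPrime Q') := by
  haveI := isLocalization_tensor k R K p
  have h1 := h (Q'.comap (algebraMap (R ⊗[k] K) (Localization.AtPrime p ⊗[k] K))) ?_
  · exact PP.equiv _ _ (locLocEquiv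
      (Algebra.algebraMapSubmonoid (R ⊗[k] K) p.primeCompl) Q') h1
  · rw [Ideal.comap_comap]
    have hcomp : (algebraMap (R ⊗[k] K) (Localization.AtPrime p ⊗[k] K)).comp
        (Algebra.TensorProduct.includeLeftRingHom) =
        (algebraMap (Localization.AtPrime p) (Localization.AtPrime p ⊗[k] K)).comp
          (algebraMap R (Localization.AtPrime p)) := by
      ext r
      change locMap k R K p (r ⊗ₜ 1) = _
      simp [locMap]
    rw [hcomp, ← Ideal.comap_comap]
    intro r hr
    by_contra hrp
    have hu : IsUnit (algebraMap R (Localization.AtPrime p) r) :=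
      IsLocalization.map_units (Localization.AtPrime p) (⟨r, hrp⟩ : p.primeCompl)
    have hprime : (Q'.comap (algebraMap (Localization.AtPrime p)
        (Localization.AtPrime p ⊗[k] K))).IsPrime := inferInstance
    exact hprime.ne_top (Ideal.eq_top_of_isUnit_mem _ hr hu)

theorem isReduced_tensor_of_over [Algebra.IsIntegral k K]
    (h : ∀ (Q : Ideal (R ⊗[k] K)) [Q.IsPrime],
      Q.comap (Algebra.TensorProduct.includeLeftRingHom) = p →
        IsReduced (Localization.AtPrime Q)) :
    IsReduced (Localization.AtPrime p ⊗[k] K) := by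
  apply isReduced_ofLocalizationMaximal
  intro M hM
  exact prop_maximal_of_over k R K p reducedProp h M

theorem isReduced_tensor_of_le
    (h : ∀ (Q : Ideal (R ⊗[k] K)) [Q.IsPrime],
      Q.comap (Algebra.TensorProduct.includeLeftRingHom) ≤ p →
        IsReduced (Localization.AtPrime Q)) :
    IsReduced (Localization.AtPrime p ⊗[k] K) := by
  apply isReduced_ofLocalizationMaximal
  intro M hM
  exact prop_of_forall_le k R K p reducedProp h M

theorem reduced_of_isReduced_tensor (h : IsReduced (Localization.AtPrime p ⊗[k] K))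
    (Q : Ideal (R ⊗[k] K)) [Q.IsPrime]
    (hQ : Q.comap (Algebra.TensorProduct.includeLeftRingHom) ≤ p) :
    IsReduced (Localization.AtPrime Q) :=
  prop_of_le k R K p reducedProp
    (fun Q' _ => (inferInstance : IsReduced (Localization.AtPrime Q'))) Q hQ

end Ring

section Scheme

attribute [local instance] Curv2.stalkAlgebra

variable (k : Type u) [Field k] (X : Scheme.{u}) [X.Over (Spec (CommRingCat.of k))]

theorem reduced_stalk_of_isReduced_tensor (K : Type u) [Field K] [Algebra k K]
    (x' : Curv2.bc k X K) (x : X) (hx : Curv2.bcFst k X K x' = x)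
    (h3 : IsReduced (K ⊗[k] X.presheaf.stalk x)) :
    IsReduced ((Curv2.bc k X K).presheaf.stalk x') := by
  obtain ⟨R, _, _, ι, _, hι, z, rfl⟩ := exists_chart k X x
  obtain ⟨Q, hQ, ⟨e⟩⟩ := exists_prime_of_point_left k X K ι hι x' z hx.symm
  have h3' : IsReduced (Localization.AtPrime z.asIdeal ⊗[k] K) :=
    reducedProp.equiv _ _ (tensorStalkEquiv k X K ι hι z) h3
  have hle : Q.asIdeal.comap (Algebra.TensorProduct.includeLeftRingHom) ≤ z.asIdeal :=
    le_of_eq (congrArg PrimeSpectrum.asIdeal hQ)
  exact reducedProp.equiv _ _ e.symm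
    (reduced_of_isReduced_tensor k R K z.asIdeal h3' Q.asIdeal hle)

/-- if all local rings of `X_K` are reduced then `K ⊗ O_{X,x}` is reduced -/
theorem isReduced_tensor_stalk_of_forall (K : Type u) [Field K] [Algebra k K] (x : X)
    (h : ∀ x' : Curv2.bc k X K, IsReduced ((Curv2.bc k X K).presheaf.stalk x')) :
    IsReduced (K ⊗[k] X.presheaf.stalk x) := by
  obtain ⟨R, _, _, ι, _, hι, z, rfl⟩ := exists_chart k X x
  refine reducedProp.equiv _ _ (tensorStalkEquiv k X K ι hι z).symm ?_
  refine isReduced_tensor_of_le k R K z.asIdeal fun Q _ _ => ?_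
  obtain ⟨x', -, ⟨e⟩⟩ := exists_point_of_prime_left k X K ι hι ⟨Q, inferInstance⟩
  exact reducedProp.equiv _ _ e (h x')

/-- for `K/k` algebraic, if the local rings of `X_K` at points over `x` are reduced then
`K ⊗ O_{X,x}` is reduced -/
theorem isReduced_tensor_stalk_of_over (K : Type u) [Field K] [Algebra k K]
    [Algebra.IsIntegral k K] (x : X)
    (h : ∀ x' : Curv2.bc k X K, Curv2.bcFst k X K x' = x →
      IsReduced ((Curv2.bc k X K).presheaf.stalk x')) :
    IsReduced (K ⊗[k] X.presheaf.stalk x) := by
  obtain ⟨R, _, _, ι, _, hι, z, rfl⟩ := exists_chart k X x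
  refine reducedProp.equiv _ _ (tensorStalkEquiv k X K ι hι z).symm ?_
  refine isReduced_tensor_of_over k R K z.asIdeal fun Q _ hQ => ?_
  obtain ⟨x', hx', ⟨e⟩⟩ := exists_point_of_prime_left k X K ι hι ⟨Q, inferInstance⟩
  have hz : PrimeSpectrum.comap (Algebra.TensorProduct.includeLeftRingHom)
      (⟨Q, inferInstance⟩ : PrimeSpectrum (R ⊗[k] K)) = z := PrimeSpectrum.ext hQ
  rw [hz] at hx'
  exact reducedProp.equiv _ _ e (h x' hx')

theorem isGeometricallyReduced_stalk_of_purelyInseparable (x : X)
    (h2 : ∀ (k' : Type u) [Field k'] [Algebra k k'] [FiniteDimensional k k']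
      [IsPurelyInseparable k k'] (x' : Curv2.bc k X k'), Curv2.bcFst k X k' x' = x →
        IsReduced ((Curv2.bc k X k').presheaf.stalk x')) :
    Algebra.IsGeometricallyReduced k (X.presheaf.stalk x) :=
  Groth.Agent.Lib.Helper14.GeomRed.isGeometricallyReduced_of_forall_finite_purelyInseparable
    fun k' _ _ _ _ => isReduced_tensor_stalk_of_over k X k' x (h2 k')

theorem isGeomReducedAt_of_isGeometricallyReduced_stalk (x : X)
    [Algebra.IsGeometricallyReduced k (X.presheaf.stalk x)] : Curv2.IsGeomReducedAt k X x :=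
  fun K _ _ x' hx' => reduced_stalk_of_isReduced_tensor k X K x' x hx'
    (Groth.Agent.Lib.Helper14.GeomRed.isReduced_tensor_of_isGeometricallyReduced K)

theorem isGeomReducedAt_iff (x : X) :
    Curv2.IsGeomReducedAt k X x ↔ Algebra.IsGeometricallyReduced k (X.presheaf.stalk x) :=
  ⟨fun h => isGeometricallyReduced_stalk_of_purelyInseparable k X x
    (fun k' _ _ _ _ x' hx' => h k' x' hx'),
   fun h => isGeomReducedAt_of_isGeometricallyReduced_stalk k X x⟩

/-- `X_K` is reduced for all `K` as soon as it is for finite purely inseparable `K` -/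
theorem isReduced_bc_of_purelyInseparable
    (h : ∀ (k' : Type u) [Field k'] [Algebra k k'] [FiniteDimensional k k']
      [IsPurelyInseparable k k'], AlgebraicGeometry.IsReduced (Curv2.bc k X k'))
    (K : Type u) [Field K] [Algebra k K] : AlgebraicGeometry.IsReduced (Curv2.bc k X K) := by
  haveI : ∀ y : Curv2.bc k X K, IsReduced ((Curv2.bc k X K).presheaf.stalk y) := fun y => by
    haveI := isGeometricallyReduced_stalk_of_purelyInseparable k X (Curv2.bcFst k X K y)
      (fun k' _ _ _ _ x' _ => by
        haveI := h k'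
        infer_instance)
    exact reduced_stalk_of_isReduced_tensor k X K y _ rfl
      (Groth.Agent.Lib.Helper14.GeomRed.isReduced_tensor_of_isGeometricallyReduced K)
  exact isReduced_of_isReduced_stalk _

theorem geometricallyReduced_of_purelyInseparable
    (h : ∀ (k' : Type u) [Field k'] [Algebra k k'] [FiniteDimensional k k']
      [IsPurelyInseparable k k'], AlgebraicGeometry.IsReduced (Curv2.bc k X k')) :
    GeometricallyReduced (X ↘ (Spec (CommRingCat.of k))) := by
  rw [geometricallyReduced_iff, geometrically_iff_of_commRing_of_isClosedUnderIsomorphisms]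
  intro K _ _
  exact isReduced_bc_of_purelyInseparable k X h K

end Scheme

end Groth.Agent.Lib.Helper6.BcRed
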