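import Mathlib
import Groth.Prelude.Def_Curv2
import Groth.Prelude.Def_FDesc
import Groth.Prelude.Def_Pi1
import Groth.Agent.Lib.Helper6BcRed
import Groth.Agent.Lib.Helper6SepNorm

set_option autoImplicit false
universe u
open CategoryTheory CategoryTheory.Limits AlgebraicGeometry TensorProduct

namespace Groth.Agent.Lib.Helper6.BcRed

open Groth.Agent.Lib.Helper6.BcBridge Groth.Agent.Lib.Helper6.BcAlg Groth.Agent.Lib.Helper6.BcGeom

theorem isGeometricallyReduced_of_isReduced_tensor_perfectField {k Ω S : Type u} [Field k]
    [Field Ω] [Algebra k Ω] [PerfectField Ω] [CommRing S] [Algebra k S]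
    (h : IsReduced (Ω ⊗[k] S)) : Algebra.IsGeometricallyReduced k S := by
  obtain ⟨p, hp⟩ := CharP.exists k
  rcases CharP.char_is_prime_or_zero k p with hprime | h0
  · haveI : Fact p.Prime := ⟨hprime⟩
    haveI : CharP Ω p := charP_of_injective_algebraMap (algebraMap k Ω).injective p
    haveI : ExpChar Ω p := ExpChar.prime hprime
    haveI : PerfectRing Ω p := PerfectField.toPerfectRing p
    exact Groth.Agent.Lib.Helper14.PerfArt.isGeometricallyReduced_of_isReduced_tensor_perfect p h
  · subst h0
    haveI : CharZero k := CharP.charP_to_charZero k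
    apply Groth.Agent.Lib.Helper14.GeomRed.isGeometricallyReduced_of_forall_finite_purelyInseparable
    intro k' _ _ _ _
    have hsurj : Function.Surjective (algebraMap k k') :=
      IsPurelyInseparable.surjective_algebraMap_of_isSeparable k k'
    have hbij : Function.Bijective (Algebra.ofId k k') := ⟨(algebraMap k k').injective, hsurj⟩
    haveI : IsReduced S := isReduced_of_injective
      (Algebra.TensorProduct.includeRight : S →ₐ[k] Ω ⊗[k] S)
      (Algebra.TensorProduct.includeRight_injective (algebraMap k Ω).injective)
    let e : k' ⊗[k] S ≃ₐ[k] S :=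
      (Algebra.TensorProduct.congr (AlgEquiv.ofBijective (Algebra.ofId k k') hbij).symm
        AlgEquiv.refl).trans (Algebra.TensorProduct.lid k S)
    exact isReduced_of_injective e e.injective

section LemmaR

variable (k K : Type u) [Field k] [Field K] [Algebra k K] [Algebra.IsGeometricallyReduced k K]

/-- Noetherian case -/
theorem isReduced_tensor_of_isNoetherianRing (B : Type u) [CommRing B] [Algebra k B]
    [IsNoetherianRing B] [IsReduced B] : IsReduced (K ⊗[k] B) := by
  classical
  have hfin : (minimalPrimes B).Finite := minimalPrimes.finite_of_isNoetherianRing B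
  haveI : Fintype (minimalPrimes B) := hfin.fintype
  haveI hprime : ∀ p : minimalPrimes B, p.1.IsPrime := fun p => p.2.1.1
  let F : minimalPrimes B → Type u := fun p => FractionRing (B ⧸ p.1)
  let φ : B →ₐ[k] (∀ p : minimalPrimes B, F p) :=
    AlgHom.pi fun p => (IsScalarTower.toAlgHom k (B ⧸ p.1) (F p)).comp
      (Ideal.Quotient.mkₐ k p.1)
  have hφ : Function.Injective φ := by
    rw [injective_iff_map_eq_zero]
    intro x hx
    have hmem : ∀ p : minimalPrimes B, x ∈ p.1 := fun p => by
      have h1 : algebraMap (B ⧸ p.1) (F p) (Ideal.Quotient.mk p.1 x) = 0 := congrFun hx p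
      have h2 := (IsFractionRing.injective (B ⧸ p.1) (F p)) (h1.trans (map_zero _).symm)
      exact Ideal.Quotient.eq_zero_iff_mem.mp h2
    have hnil : x ∈ nilradical B := by
      have h3 : x ∈ sInf (⊥ : Ideal B).minimalPrimes :=
        Submodule.mem_sInf.mpr fun p hp => hmem ⟨p, hp⟩
      rwa [Ideal.sInf_minimalPrimes] at h3
    exact (nilradical_eq_zero B ▸ hnil : x ∈ (0 : Ideal B))
  have hinj : Function.Injective (Algebra.TensorProduct.map (AlgHom.id K K) φ) :=
    Module.Flat.lTensor_preserves_injective_linearMap (M := K) φ.toLinearMap hφ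
  haveI : ∀ p : minimalPrimes B, IsReduced (K ⊗[k] F p) := fun p => by
    haveI : IsReduced (F p ⊗[k] K) :=
      Groth.Agent.Lib.Helper14.GeomRed.isReduced_tensor_of_isGeometricallyReduced (F p)
    exact isReduced_of_injective (Algebra.TensorProduct.comm k K (F p))
      (Algebra.TensorProduct.comm k K (F p)).injective
  haveI : IsReduced (K ⊗[k] (∀ p : minimalPrimes B, F p)) :=
    isReduced_of_injective (Algebra.TensorProduct.piRight k K K F)
      (Algebra.TensorProduct.piRight k K K F).injective
  exact isReduced_of_injective _ hinj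

/-- **Lemma R**: a reduced algebra stays reduced after a separable field extension. -/
theorem isReduced_tensor_of_isReduced (A : Type u) [CommRing A] [Algebra k A] [IsReduced A] :
    IsReduced (K ⊗[k] A) := by
  apply IsReduced.tensorProduct_of_flat_of_forall_fg
  intro B hB
  haveI : Algebra.FiniteType k B := ⟨B.fg_top.mpr hB⟩
  haveI : IsNoetherianRing B := Algebra.FiniteType.isNoetherianRing k B
  haveI : IsReduced B := isReduced_of_injective B.val Subtype.val_injective
  exact isReduced_tensor_of_isNoetherianRing k K B

end LemmaR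

section Scheme2

attribute [local instance] Curv2.stalkAlgebra

variable (k : Type u) [Field k] (X : Scheme.{u}) [X.Over (Spec (CommRingCat.of k))]

theorem isReduced_bc_of_separable (K : Type u) [Field K] [Algebra k K]
    [Algebra.IsGeometricallyReduced k K] [AlgebraicGeometry.IsReduced X] :
    AlgebraicGeometry.IsReduced (Curv2.bc k X K) := by
  haveI : ∀ y : Curv2.bc k X K, IsReduced ((Curv2.bc k X K).presheaf.stalk y) := fun y =>
    reduced_stalk_of_isReduced_tensor k X K y _ rfl
      (isReduced_tensor_of_isReduced k K (X.presheaf.stalk (Curv2.bcFst k X K y)))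
  exact isReduced_of_isReduced_stalk _

theorem geometricallyReduced_of_isReduced_bc_perfect (Ω : Type u) [Field Ω] [Algebra k Ω]
    [PerfectField Ω] [AlgebraicGeometry.IsReduced (Curv2.bc k X Ω)] :
    GeometricallyReduced (X ↘ (Spec (CommRingCat.of k))) := by
  rw [geometricallyReduced_iff, geometrically_iff_of_commRing_of_isClosedUnderIsomorphisms]
  intro K _ _
  haveI : ∀ y : Curv2.bc k X K, IsReduced ((Curv2.bc k X K).presheaf.stalk y) := fun y => by
    haveI := isGeometricallyReduced_of_isReduced_tensor_perfectField
      (isReduced_tensor_stalk_of_forall k X Ω (Curv2.bcFst k X K y) (fun x' => inferInstance))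
    exact reduced_stalk_of_isReduced_tensor k X K y _ rfl
      (Groth.Agent.Lib.Helper14.GeomRed.isReduced_tensor_of_isGeometricallyReduced K)
  exact isReduced_of_isReduced_stalk _

theorem isNormalScheme_bc_of_separable (hX : Pi1.IsNormalScheme X) (K : Type u) [Field K]
    [Algebra k K] [Algebra.IsGeometricallyReduced k K] :
    Pi1.IsNormalScheme (Curv2.bc k X K) := fun y => by
  obtain ⟨hd, hic⟩ := hX (Curv2.bcFst k X K y)
  exact normal_stalk_of_isNormalRing_tensor k X K y _ rfl
    (Groth.Agent.Lib.Helper6.SepNorm.main2690 k _ K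
      (Groth.Agent.Lib.Helper6.SepBC.isNormalRing_of_normal _))

end Scheme2

theorem isGeometricallyReduced_of_geometricallyReduced_specMap (k K : Type u) [Field k]
    [Field K] [Algebra k K]
    [hf : GeometricallyReduced (Spec.map (CommRingCat.ofHom (algebraMap k K)))] :
    Algebra.IsGeometricallyReduced k K := by
  have h1 : AlgebraicGeometry.IsReduced (pullback (Spec.map (CommRingCat.ofHom (algebraMap k K)))
      (Spec.map (CommRingCat.ofHom (algebraMap k (AlgebraicClosure k))))) :=
    pullback_of_geometrically hf.1 (AlgebraicClosure k) _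
  haveI : AlgebraicGeometry.IsReduced (Spec (CommRingCat.of (K ⊗[k] AlgebraicClosure k))) :=
    isReduced_of_isOpenImmersion (pullbackSpecIso k K (AlgebraicClosure k)).inv
  have h2 : IsReduced (K ⊗[k] AlgebraicClosure k) :=
    (affine_isReduced_iff (CommRingCat.of (K ⊗[k] AlgebraicClosure k))).mp inferInstance
  rw [Algebra.isGeometricallyReduced_field_iff]
  exact isReduced_of_injective (Algebra.TensorProduct.comm k (AlgebraicClosure k) K)
    (Algebra.TensorProduct.comm k (AlgebraicClosure k) K).injective

end Groth.Agent.Lib.Helper6.BcRed
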