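import Mathlib
import Groth.Prelude.Def_Curv2
import Groth.Agent.Lib.Helper6SepCl
import Groth.Agent.Lib.Helper6BcRed2

set_option autoImplicit false
universe u
open CategoryTheory CategoryTheory.Limits AlgebraicGeometry TensorProduct

namespace Groth.Agent.Lib.Helper6.SepCl

section Topology

/-- for an open continuous surjection with connected fibres, preimages of connected sets are
connected -/
theorem isConnected_preimage_of_isOpenMap {A B : Type*} [TopologicalSpace A] [TopologicalSpace B]
    {f : A → B} (hfc : Continuous f) (hfo : IsOpenMap f)
    (hfib : ∀ b : B, IsConnected (f ⁻¹' {b})) {Z : Set B} (hZ : IsConnected Z) :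
    IsConnected (f ⁻¹' Z) := by
  have hsurj : Function.Surjective f := fun b => by
    obtain ⟨a, ha⟩ := (hfib b).nonempty
    exact ⟨a, ha⟩
  let g : f ⁻¹' Z → Z := Z.restrictPreimage f
  have hgc : Continuous g := hfc.restrictPreimage
  have hgo : IsOpenMap g := hfo.restrictPreimage Z
  have hgs : Function.Surjective g := hsurj.restrictPreimage Z
  have hco : Topology.IsCoinducing g := (hgo.isQuotientMap hgc hgs).isCoinducing
  have hfibg : ∀ z : Z, IsConnected (g ⁻¹' {z}) := by
    intro z
    have himg : Subtype.val '' (g ⁻¹' {z}) = f ⁻¹' {z.1} := by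
      ext a
      constructor
      · rintro ⟨⟨a', ha'⟩, h1, rfl⟩
        exact congrArg Subtype.val h1
      · intro ha
        have ha' : a ∈ f ⁻¹' Z := by
          change f a ∈ Z
          rw [show f a = z.1 from ha]
          exact z.2
        exact ⟨⟨a, ha'⟩, Subtype.ext ha, rfl⟩
    have h2 : IsConnected (Subtype.val '' (g ⁻¹' {z})) := himg ▸ hfib z.1
    exact ⟨Set.image_nonempty.mp h2.1,
      (Topology.IsInducing.subtypeVal.isPreconnected_image).mp h2.2⟩
  haveI : ConnectedSpace Z := isConnected_iff_connectedSpace.mp hZ
  have huniv : IsConnected (g ⁻¹' Set.univ) :=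
    hco.isConnected_preimage_of_isClosed hfibg isClosed_univ isConnected_univ
  rw [Set.preimage_univ] at huniv
  haveI : ConnectedSpace (f ⁻¹' Z) := connectedSpace_iff_univ.mpr huniv
  exact isConnected_iff_connectedSpace.mpr inferInstance

end Topology

section Scheme

variable (k : Type u) [Field k] (X : Scheme.{u}) [X.Over (Spec (CommRingCat.of k))]

theorem isIrreducible_preimage_bcFst [IsSepClosed k] (K : Type u) [Field K] [Algebra k K]
    {Z : Set X} (hZ : IsIrreducible Z) : IsIrreducible ((Curv2.bcFst k X K) ⁻¹' Z) := by
  haveI := geometricallyIrreducible_bcFst k X K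
  exact (Curv2.bcFst k X K).isIrreducible_preimage (isOpenMap_bcFst k X K) hZ

theorem isConnected_preimage_bcFst [IsSepClosed k] (K : Type u) [Field K] [Algebra k K]
    {Z : Set X} (hZ : _root_.IsConnected Z) :
    _root_.IsConnected ((Curv2.bcFst k X K) ⁻¹' Z) := by
  haveI := geometricallyIrreducible_bcFst k X K
  haveI := geometricallyConnected_of_geometricallyIrreducible (Curv2.bcFst k X K)
  exact isConnected_preimage_of_isOpenMap (Curv2.bcFst k X K).continuous
    (isOpenMap_bcFst k X K) (Curv2.bcFst k X K).isConnected_preimage_singleton hZ

/-- irreducible over a separably closed field is geometrically irreducible -/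
theorem geometricallyIrreducible_of_isSepClosed [IsSepClosed k] [IrreducibleSpace X] :
    GeometricallyIrreducible (X ↘ (Spec (CommRingCat.of k))) := by
  rw [geometricallyIrreducible_iff, geometrically_iff_of_commRing_of_isClosedUnderIsomorphisms]
  intro K _ _
  haveI := geometricallyIrreducible_bcFst k X K
  exact GeometricallyIrreducible.irreducibleSpace (Curv2.bcFst k X K) (isOpenMap_bcFst k X K)

/-- connected over a separably closed field is geometrically connected -/
theorem geometricallyConnected_of_isSepClosed [IsSepClosed k] [ConnectedSpace X] :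
    GeometricallyConnected (X ↘ (Spec (CommRingCat.of k))) := by
  rw [geometricallyConnected_iff, geometrically_iff_of_commRing_of_isClosedUnderIsomorphisms]
  intro K _ _
  haveI := geometricallyIrreducible_bcFst k X K
  haveI := geometricallyConnected_of_geometricallyIrreducible (Curv2.bcFst k X K)
  exact GeometricallyConnected.connectedSpace (Curv2.bcFst k X K) (isOpenMap_bcFst k X K)

attribute [local instance] Curv2.stalkAlgebra in
/-- reduced over a perfect field is geometrically reduced -/
theorem geometricallyReduced_of_perfectField [PerfectField k] [AlgebraicGeometry.IsReduced X] :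
    GeometricallyReduced (X ↘ (Spec (CommRingCat.of k))) := by
  rw [geometricallyReduced_iff, geometrically_iff_of_commRing_of_isClosedUnderIsomorphisms]
  intro K _ _
  haveI : ∀ y : Curv2.bc k X K, IsReduced ((Curv2.bc k X K).presheaf.stalk y) := fun y => by
    have hred : IsReduced (X.presheaf.stalk (Curv2.bcFst k X K y)) := inferInstance
    have hten : IsReduced (k ⊗[k] (X.presheaf.stalk (Curv2.bcFst k X K y))) :=
      Groth.Agent.Lib.Helper6.BcRed.reducedProp.equiv _ _
        (Algebra.TensorProduct.lid k (X.presheaf.stalk (Curv2.bcFst k X K y))).symm.toRingEquiv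
        hred
    haveI : Algebra.IsGeometricallyReduced k (X.presheaf.stalk (Curv2.bcFst k X K y)) :=
      Groth.Agent.Lib.Helper6.BcRed.isGeometricallyReduced_of_isReduced_tensor_perfectField
        (k := k) (Ω := k) hten
    exact Groth.Agent.Lib.Helper6.BcRed.isGeomReducedAt_of_isGeometricallyReduced_stalk k X _
      K y rfl
  exact isReduced_of_isReduced_stalk _

/-- integral over an algebraically closed field is geometrically integral -/
theorem geometricallyIntegral_of_isAlgClosed [IsAlgClosed k] [IsIntegral X] :
    GeometricallyIntegral (X ↘ (Spec (CommRingCat.of k))) := by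
  haveI := geometricallyIrreducible_of_isSepClosed k X
  haveI := geometricallyReduced_of_perfectField k X
  exact GeometricallyIntegral.of_geometricallyReduced_of_geometricallyIrreducible _

end Scheme

theorem isIntegral_pullback_of_isAlgClosed (k : Type u) [Field k] [IsAlgClosed k] (X Y : Scheme.{u})
    (f : X ⟶ Spec (CommRingCat.of k)) (g : Y ⟶ Spec (CommRingCat.of k))
    [IsIntegral X] [IsIntegral Y] [LocallyOfFiniteType g] :
    IsIntegral (pullback f g) := by
  letI : X.Over (Spec (CommRingCat.of k)) := ⟨f⟩
  haveI : GeometricallyIntegral f := geometricallyIntegral_of_isAlgClosed k X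
  haveI : IsLocallyNoetherian Y := LocallyOfFiniteType.isLocallyNoetherian g
  infer_instance

end Groth.Agent.Lib.Helper6.SepCl
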