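import Mathlib
import Groth.Prelude
import Groth.Agent.Lib.Helper11RedCl
import Groth.Agent.Lib.Helper6SepCl2
import Groth.Agent.Lib.Helper12GeomReduced

/-!
# Dominant morphisms, fibre products over a point, reduced closures (helper11)
-/

set_option autoImplicit false
set_option linter.style.haveILetI false
set_option linter.unusedSectionVars false
universe u

open CategoryTheory CategoryTheory.Limits AlgebraicGeometry TopologicalSpace

namespace Groth.Agent.Lib.Helper11.RedGrpd

/-- base change of a dominant morphism along a universally open morphism is dominant. -/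
theorem isDominant_of_isPullback {P A B B' : Scheme.{u}} {fst : P ⟶ A} {snd : P ⟶ B'} {π : A ⟶ B}
    {g : B' ⟶ B} (h : IsPullback fst snd π g) [IsDominant π] [UniversallyOpen g] :
    IsDominant snd := by
  have e : snd = h.isoPullback.hom ≫ pullback.snd π g := (h.isoPullback_hom_snd).symm
  have : IsDominant (pullback.snd π g) := by
    constructor
    rw [DenseRange, Scheme.Pullback.range_snd]
    exact π.denseRange.preimage g.isOpenMap
  rw [e]
  infer_instance

variable {A₁ A₂ B₁ B₂ V : Scheme.{u}} (π₁ : A₁ ⟶ B₁) (π₂ : A₂ ⟶ B₂) (b₁ : B₁ ⟶ V) (b₂ : B₂ ⟶ V)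

/-- the fibre product of two dominant morphisms over a base over which everything is universally
open is dominant. -/
theorem dominant_pullback_map [UniversallyOpen b₁] [UniversallyOpen (π₂ ≫ b₂)]
    [IsDominant π₁] [IsDominant π₂] :
    IsDominant
      (pullback.map (π₁ ≫ b₁) (π₂ ≫ b₂) b₁ b₂ π₁ π₂ (𝟙 V) (by simp) (by simp)) := by
  let m₁ : pullback (π₁ ≫ b₁) (π₂ ≫ b₂) ⟶ pullback b₁ (π₂ ≫ b₂) :=
    pullback.map (π₁ ≫ b₁) (π₂ ≫ b₂) b₁ (π₂ ≫ b₂) π₁ (𝟙 A₂) (𝟙 V) (by simp) (by simp)
  let m₂ : pullback b₁ (π₂ ≫ b₂) ⟶ pullback b₁ b₂ :=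
    pullback.map b₁ (π₂ ≫ b₂) b₁ b₂ (𝟙 B₁) π₂ (𝟙 V) (by simp) (by simp)
  have hm : pullback.map (π₁ ≫ b₁) (π₂ ≫ b₂) b₁ b₂ π₁ π₂ (𝟙 V) (by simp) (by simp) = m₁ ≫ m₂ := by
    apply pullback.hom_ext
    · rw [pullback.lift_fst, Category.assoc, pullback.lift_fst, pullback.lift_fst_assoc,
        Category.comp_id]
    · rw [pullback.lift_snd, Category.assoc, pullback.lift_snd, pullback.lift_snd_assoc,
        Category.comp_id]
  have h1 : IsDominant m₁ := by
    have s : IsPullback (m₁ ≫ pullback.snd b₁ (π₂ ≫ b₂)) (pullback.fst (π₁ ≫ b₁) (π₂ ≫ b₂))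
        (π₂ ≫ b₂) (π₁ ≫ b₁) := by
      have : m₁ ≫ pullback.snd b₁ (π₂ ≫ b₂) = pullback.snd (π₁ ≫ b₁) (π₂ ≫ b₂) := by
        rw [pullback.lift_snd, Category.comp_id]
      rw [this]
      exact (IsPullback.of_hasPullback (π₁ ≫ b₁) (π₂ ≫ b₂)).flip
    have t : IsPullback (pullback.snd b₁ (π₂ ≫ b₂)) (pullback.fst b₁ (π₂ ≫ b₂)) (π₂ ≫ b₂) b₁ :=
      (IsPullback.of_hasPullback b₁ (π₂ ≫ b₂)).flip
    have l := IsPullback.of_right s (pullback.lift_fst _ _ _) t
    exact isDominant_of_isPullback l.flip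
  have h2 : IsDominant m₂ := by
    have s : IsPullback (m₂ ≫ pullback.fst b₁ b₂) (pullback.snd b₁ (π₂ ≫ b₂)) b₁ (π₂ ≫ b₂) := by
      have : m₂ ≫ pullback.fst b₁ b₂ = pullback.fst b₁ (π₂ ≫ b₂) := by
        rw [pullback.lift_fst, Category.comp_id]
      rw [this]
      exact IsPullback.of_hasPullback b₁ (π₂ ≫ b₂)
    have t : IsPullback (pullback.fst b₁ b₂) (pullback.snd b₁ b₂) b₁ b₂ :=
      IsPullback.of_hasPullback b₁ b₂
    have l := IsPullback.of_right s (pullback.lift_snd _ _ _) t
    exact isDominant_of_isPullback l.flip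
  rw [hm]
  infer_instance

/-- the fibre product of two reduced schemes over (a scheme isomorphic to) the spectrum of a perfect
field is reduced. -/
theorem isReduced_pullback_perfect {X Y U : Scheme.{u}} (f : X ⟶ U) (g : Y ⟶ U) (k : Type u)
    [Field k] [PerfectField k] (eU : U ≅ Spec (CommRingCat.of k)) [IsReduced X] [IsReduced Y] :
    IsReduced (pullback f g) := by
  letI : X.Over (Spec (CommRingCat.of k)) := ⟨f ≫ eU.hom⟩
  haveI : GeometricallyReduced (f ≫ eU.hom) :=
    Groth.Agent.Lib.Helper6.SepCl.geometricallyReduced_of_perfectField k X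
  haveI := Groth.Agent.Lib.Helper12.GR.isReduced_pullback (f ≫ eU.hom) (g ≫ eU.hom)
  have hp : IsPullback (pullback.fst f g) (pullback.snd f g ≫ 𝟙 Y) (f ≫ eU.hom) (g ≫ eU.hom) :=
    (IsPullback.of_hasPullback f g).paste_vert
      (IsPullback.of_vert_isIso ⟨by rw [Category.id_comp]⟩)
  exact isReduced_of_isOpenImmersion hp.isoPullback.hom

/-- a morphism from a reduced scheme sending a dense subset into the closure of `W` factors through
the reduced closed subscheme on the closure of `W`. -/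
theorem exists_lift_of_dense {B X : Scheme.{u}} [IsReduced B] (h : B ⟶ X) (W : Set X)
    (D : Set B) (hD : Dense D) (hDW : ∀ d ∈ D, h d ∈ closure W) :
    ∃ l : B ⟶ (Scheme.IdealSheafData.vanishingIdeal ⟨closure W, isClosed_closure⟩).subscheme,
      l ≫ (Scheme.IdealSheafData.vanishingIdeal ⟨closure W, isClosed_closure⟩).subschemeι = h := by
  apply Groth.Agent.Lib.Helper11RedCl.exists_lift_of_range_subset
  rintro _ ⟨b, rfl⟩
  change h b ∈ closure W
  have hb : b ∈ closure D := hD b
  have h1 : h b ∈ closure (h '' D) :=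
    image_closure_subset_closure_image h.continuous (Set.mem_image_of_mem _ hb)
  have h2 : closure (h '' D) ⊆ closure W := by
    apply closure_minimal _ isClosed_closure
    rintro _ ⟨d, hd, rfl⟩
    exact hDW d hd
  exact h2 h1

end Groth.Agent.Lib.Helper11.RedGrpd
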