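import Mathlib
import Groth.Prelude.Def_Grpd
import Groth.Agent.Lib.Helper2Grpd
import Groth.Agent.Lib.Helper11AlgClAut
import Groth.Agent.Lib.Helper11RedGrpd
import Groth.Agent.Lib.Helper6SepCl2

/-!
# Restriction of a groupoid scheme on a field to a big algebraically closed field (helper11)

The arrow scheme `R' = (U' ×_{g,U,t} R) ×_{s,U,g} U'` of the restriction along `g : U' ⟶ U`, its
`T`-points, rational lifts of points over an algebraically closed field and the "translation" map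
used to compare irreducible components through a rational point.
-/

set_option autoImplicit false
set_option linter.style.haveILetI false
set_option linter.unusedSectionVars false
universe u

open CategoryTheory CategoryTheory.Limits AlgebraicGeometry

namespace Groth.Agent.Lib.Helper11.GrpdRat

open Groth.Agent.Lib.Helper2.Grpd

variable {S : Scheme.{u}} (G : Grpd.GroupoidScheme S) {U' : Scheme.{u}} (g : U' ⟶ G.U)

/-- the arrow scheme of the restriction. -/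
noncomputable abbrev R' : Scheme.{u} := pullback (pullback.snd g G.t ≫ G.s) g

/-- target. -/
noncomputable def α : R' G g ⟶ U' :=
  pullback.fst (pullback.snd g G.t ≫ G.s) g ≫ pullback.fst g G.t

/-- the underlying arrow. -/
noncomputable def ρ : R' G g ⟶ G.R :=
  pullback.fst (pullback.snd g G.t ≫ G.s) g ≫ pullback.snd g G.t

/-- source. -/
noncomputable def β : R' G g ⟶ U' := pullback.snd (pullback.snd g G.t ≫ G.s) g

@[reassoc]
theorem α_g : α G g ≫ g = ρ G g ≫ G.t := by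
  unfold α ρ
  rw [Category.assoc, pullback.condition, Category.assoc]

@[reassoc]
theorem ρ_s : ρ G g ≫ G.s = β G g ≫ g := by
  unfold ρ β
  rw [Category.assoc, pullback.condition]

variable {G g}

theorem hom_ext' {T : Scheme.{u}} (a b : T ⟶ R' G g) (h1 : a ≫ α G g = b ≫ α G g)
    (h2 : a ≫ ρ G g = b ≫ ρ G g) (h3 : a ≫ β G g = b ≫ β G g) : a = b := by
  unfold α at h1
  unfold ρ at h2
  unfold β at h3
  apply pullback.hom_ext
  · apply pullback.hom_ext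
    · simpa only [Category.assoc] using h1
    · simpa only [Category.assoc] using h2
  · exact h3

/-- a `T`-point of the restriction. -/
noncomputable def mk {T : Scheme.{u}} (a : T ⟶ U') (r : T ⟶ G.R) (b : T ⟶ U')
    (h1 : a ≫ g = r ≫ G.t) (h2 : r ≫ G.s = b ≫ g) : T ⟶ R' G g :=
  pullback.lift (pullback.lift a r h1) b (by rw [pullback.lift_snd_assoc, h2])

@[reassoc (attr := simp)]
theorem mk_α {T : Scheme.{u}} (a : T ⟶ U') (r : T ⟶ G.R) (b : T ⟶ U')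
    (h1 : a ≫ g = r ≫ G.t) (h2 : r ≫ G.s = b ≫ g) : mk a r b h1 h2 ≫ α G g = a := by
  unfold mk α
  rw [pullback.lift_fst_assoc, pullback.lift_fst]

@[reassoc (attr := simp)]
theorem mk_ρ {T : Scheme.{u}} (a : T ⟶ U') (r : T ⟶ G.R) (b : T ⟶ U')
    (h1 : a ≫ g = r ≫ G.t) (h2 : r ≫ G.s = b ≫ g) : mk a r b h1 h2 ≫ ρ G g = r := by
  unfold mk ρ
  rw [pullback.lift_fst_assoc, pullback.lift_snd]

@[reassoc (attr := simp)]
theorem mk_β {T : Scheme.{u}} (a : T ⟶ U') (r : T ⟶ G.R) (b : T ⟶ U')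
    (h1 : a ≫ g = r ≫ G.t) (h2 : r ≫ G.s = b ≫ g) : mk a r b h1 h2 ≫ β G g = b := by
  unfold mk β
  rw [pullback.lift_snd]

section Transl

variable (x₀ : U' ⟶ R' G g) (hα : x₀ ≫ α G g = 𝟙 U') (b : U' ≅ U') (hβ : x₀ ≫ β G g = b.hom)
  {X Y : Scheme.{u}} (ιX : X ⟶ R' G g) (ιY : Y ⟶ R' G g)

/-- the fibre product on which the translated product is defined. -/
noncomputable abbrev Q : Scheme.{u} := pullback (ιX ≫ β G g ≫ b.inv) (ιY ≫ α G g)

/-- first arrow. -/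
noncomputable def p₁ : Q b ιX ιY ⟶ R' G g := pullback.fst (ιX ≫ β G g ≫ b.inv) (ιY ≫ α G g) ≫ ιX
/-- second arrow. -/
noncomputable def p₂ : Q b ιX ιY ⟶ R' G g := pullback.snd (ιX ≫ β G g ≫ b.inv) (ιY ≫ α G g) ≫ ιY
/-- the middle object. -/
noncomputable def um : Q b ιX ιY ⟶ U' := p₂ b ιX ιY ≫ α G g

theorem um_eq : um b ιX ιY = p₁ b ιX ιY ≫ β G g ≫ b.inv := by
  have := pullback.condition (f := ιX ≫ β G g ≫ b.inv) (g := ιY ≫ α G g)
  unfold um p₁ p₂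
  simp only [Category.assoc] at this ⊢
  exact this.symm

/-- the arrow of the rational point. -/
noncomputable def ρ₀ : U' ⟶ G.R := x₀ ≫ ρ G g

include hα in
@[reassoc]
theorem ρ₀_t : ρ₀ x₀ ≫ G.t = g := by
  unfold ρ₀
  rw [Category.assoc, ← α_g, ← Category.assoc, hα, Category.id_comp]

include hβ in
@[reassoc]
theorem ρ₀_s : ρ₀ x₀ ≫ G.s = b.hom ≫ g := by
  unfold ρ₀
  rw [Category.assoc, ρ_s, ← Category.assoc, hβ]

include hβ in
theorem h12 : (p₁ b ιX ιY ≫ ρ G g) ≫ G.s = ((um b ιX ιY ≫ ρ₀ x₀) ≫ G.i) ≫ G.t := by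
  have e1 : ((um b ιX ιY ≫ ρ₀ x₀) ≫ G.i) ≫ G.t = um b ιX ιY ≫ ρ₀ x₀ ≫ G.s := by
    simp only [Category.assoc, G.i_t]
  rw [e1, ρ₀_s x₀ b hβ, um_eq]
  simp only [Category.assoc, Iso.inv_hom_id_assoc, ρ_s]

include hα in
theorem h23 (h : (p₁ b ιX ιY ≫ ρ G g) ≫ G.s = ((um b ιX ιY ≫ ρ₀ x₀) ≫ G.i) ≫ G.t) :
    comp G (p₁ b ιX ιY ≫ ρ G g) ((um b ιX ιY ≫ ρ₀ x₀) ≫ G.i) h ≫ G.s =
      (p₂ b ιX ιY ≫ ρ G g) ≫ G.t := by
  rw [comp_s]
  have e1 : ((um b ιX ιY ≫ ρ₀ x₀) ≫ G.i) ≫ G.s = um b ιX ιY ≫ ρ₀ x₀ ≫ G.t := by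
    simp only [Category.assoc, G.i_s]
  rw [e1, ρ₀_t x₀ hα]
  unfold um
  simp only [Category.assoc, α_g]

/-- the arrow `ρ₁ · ρ₀⁻¹ · ρ₂`. -/
noncomputable def m : Q b ιX ιY ⟶ G.R :=
  comp G (comp G (p₁ b ιX ιY ≫ ρ G g) ((um b ιX ιY ≫ ρ₀ x₀) ≫ G.i) (h12 x₀ b hβ ιX ιY))
    (p₂ b ιX ιY ≫ ρ G g) (h23 x₀ hα b ιX ιY _)

theorem m_t : m x₀ hα b hβ ιX ιY ≫ G.t = (p₁ b ιX ιY ≫ α G g) ≫ g := by
  unfold m
  rw [comp_t, comp_t]
  simp only [Category.assoc, α_g]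

theorem m_s : m x₀ hα b hβ ιX ιY ≫ G.s = (p₂ b ιX ιY ≫ β G g) ≫ g := by
  unfold m
  rw [comp_s]
  simp only [Category.assoc, ρ_s]

/-- the translated product `(x, y) ↦ x · x₀⁻¹ · y`. -/
noncomputable def μ : Q b ιX ιY ⟶ R' G g :=
  mk (p₁ b ιX ιY ≫ α G g) (m x₀ hα b hβ ιX ιY) (p₂ b ιX ιY ≫ β G g)
    (m_t x₀ hα b hβ ιX ιY).symm (m_s x₀ hα b hβ ιX ιY)

theorem pre_m {T : Scheme.{u}} (q : T ⟶ Q b ιX ιY) (a₁ a₂ : T ⟶ G.R) (v : T ⟶ U')
    (h1 : q ≫ p₁ b ιX ιY ≫ ρ G g = a₁) (h2 : q ≫ um b ιX ιY = v)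
    (h3 : q ≫ p₂ b ιX ιY ≫ ρ G g = a₂)
    (c12 : a₁ ≫ G.s = ((v ≫ ρ₀ x₀) ≫ G.i) ≫ G.t)
    (c23 : comp G a₁ ((v ≫ ρ₀ x₀) ≫ G.i) c12 ≫ G.s = a₂ ≫ G.t) :
    q ≫ m x₀ hα b hβ ιX ιY = comp G (comp G a₁ ((v ≫ ρ₀ x₀) ≫ G.i) c12) a₂ c23 := by
  subst h1 h2 h3
  unfold m
  refine (precomp_comp G q _ _ _).trans ?_
  refine comp_congr G _ ?_ rfl
  refine (precomp_comp G q _ _ _).trans ?_
  refine comp_congr G _ rfl ?_
  simp only [Category.assoc]

include hα hβ in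
/-- `x · x₀⁻¹ · x₀ = x`. -/
theorem exists_sectX (y₀ : U' ⟶ Y) (hy₀ : y₀ ≫ ιY = x₀) :
    ∃ σ : X ⟶ Q b ιX ιY, σ ≫ μ x₀ hα b hβ ιX ιY = ιX := by
  have hc : 𝟙 X ≫ ιX ≫ β G g ≫ b.inv = (ιX ≫ β G g ≫ b.inv ≫ y₀) ≫ ιY ≫ α G g := by
    rw [Category.id_comp]
    simp only [Category.assoc]
    rw [reassoc_of% hy₀, hα, Category.comp_id]
  refine ⟨pullback.lift (𝟙 X) (ιX ≫ β G g ≫ b.inv ≫ y₀) hc, ?_⟩
  have e1 : pullback.lift (𝟙 X) (ιX ≫ β G g ≫ b.inv ≫ y₀) hc ≫ p₁ b ιX ιY = ιX := by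
    unfold p₁
    rw [pullback.lift_fst_assoc, Category.id_comp]
  have e2 : pullback.lift (𝟙 X) (ιX ≫ β G g ≫ b.inv ≫ y₀) hc ≫ p₂ b ιX ιY =
      (ιX ≫ β G g ≫ b.inv) ≫ x₀ := by
    unfold p₂
    rw [pullback.lift_snd_assoc]
    simp only [Category.assoc, hy₀]
  have e3 : pullback.lift (𝟙 X) (ιX ≫ β G g ≫ b.inv ≫ y₀) hc ≫ um b ιX ιY =
      ιX ≫ β G g ≫ b.inv := by
    unfold um
    rw [reassoc_of% e2]
    simp only [hα, Category.comp_id]
  have c12 : (ιX ≫ ρ G g) ≫ G.s = (((ιX ≫ β G g ≫ b.inv) ≫ ρ₀ x₀) ≫ G.i) ≫ G.t := by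
    have : (((ιX ≫ β G g ≫ b.inv) ≫ ρ₀ x₀) ≫ G.i) ≫ G.t =
        (ιX ≫ β G g ≫ b.inv) ≫ ρ₀ x₀ ≫ G.s := by
      simp only [Category.assoc, G.i_t]
    rw [this, ρ₀_s x₀ b hβ]
    simp only [Category.assoc, Iso.inv_hom_id_assoc, ρ_s]
  have c23 : comp G (ιX ≫ ρ G g) (((ιX ≫ β G g ≫ b.inv) ≫ ρ₀ x₀) ≫ G.i) c12 ≫ G.s =
      ((ιX ≫ β G g ≫ b.inv) ≫ ρ₀ x₀) ≫ G.t := by
    rw [comp_s]
    simp only [Category.assoc, G.i_s]
  have em := pre_m x₀ hα b hβ ιX ιY (pullback.lift (𝟙 X) (ιX ≫ β G g ≫ b.inv ≫ y₀) hc)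
    (ιX ≫ ρ G g) ((ιX ≫ β G g ≫ b.inv) ≫ ρ₀ x₀) (ιX ≫ β G g ≫ b.inv)
    (by rw [reassoc_of% e1]) e3 (by rw [reassoc_of% e2]; unfold ρ₀; simp only [Category.assoc])
    c12 c23
  rw [comp_i_comp'] at em
  apply hom_ext'
  · unfold μ
    rw [Category.assoc, mk_α, reassoc_of% e1]
  · unfold μ
    rw [Category.assoc, mk_ρ, em]
  · unfold μ
    rw [Category.assoc, mk_β, reassoc_of% e2]
    simp only [hβ, Iso.inv_hom_id, Category.comp_id]

include hα hβ in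
/-- `x₀ · x₀⁻¹ · y = y`. -/
theorem exists_sectY (z₀ : U' ⟶ X) (hz₀ : z₀ ≫ ιX = x₀) :
    ∃ σ : Y ⟶ Q b ιX ιY, σ ≫ μ x₀ hα b hβ ιX ιY = ιY := by
  have hc : (ιY ≫ α G g ≫ z₀) ≫ ιX ≫ β G g ≫ b.inv = 𝟙 Y ≫ ιY ≫ α G g := by
    rw [Category.id_comp]
    simp only [Category.assoc]
    rw [reassoc_of% hz₀, reassoc_of% hβ, Iso.hom_inv_id, Category.comp_id]
  refine ⟨pullback.lift (ιY ≫ α G g ≫ z₀) (𝟙 Y) hc, ?_⟩
  have e1 : pullback.lift (ιY ≫ α G g ≫ z₀) (𝟙 Y) hc ≫ p₁ b ιX ιY = (ιY ≫ α G g) ≫ x₀ := by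
    unfold p₁
    rw [pullback.lift_fst_assoc]
    simp only [Category.assoc, hz₀]
  have e2 : pullback.lift (ιY ≫ α G g ≫ z₀) (𝟙 Y) hc ≫ p₂ b ιX ιY = ιY := by
    unfold p₂
    rw [pullback.lift_snd_assoc, Category.id_comp]
  have e3 : pullback.lift (ιY ≫ α G g ≫ z₀) (𝟙 Y) hc ≫ um b ιX ιY = ιY ≫ α G g := by
    unfold um
    rw [reassoc_of% e2]
  have c12 : ((ιY ≫ α G g) ≫ ρ₀ x₀) ≫ G.s = (((ιY ≫ α G g) ≫ ρ₀ x₀) ≫ G.i) ≫ G.t := by
    simp only [Category.assoc, G.i_t]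
  have c23 : comp G ((ιY ≫ α G g) ≫ ρ₀ x₀) (((ιY ≫ α G g) ≫ ρ₀ x₀) ≫ G.i) c12 ≫ G.s =
      (ιY ≫ ρ G g) ≫ G.t := by
    rw [comp_s]
    have : (((ιY ≫ α G g) ≫ ρ₀ x₀) ≫ G.i) ≫ G.s = (ιY ≫ α G g) ≫ ρ₀ x₀ ≫ G.t := by
      simp only [Category.assoc, G.i_s]
    rw [this, ρ₀_t x₀ hα]
    simp only [Category.assoc, α_g]
  have em := pre_m x₀ hα b hβ ιX ιY (pullback.lift (ιY ≫ α G g ≫ z₀) (𝟙 Y) hc)
    ((ιY ≫ α G g) ≫ ρ₀ x₀) (ιY ≫ ρ G g) (ιY ≫ α G g)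
    (by rw [reassoc_of% e1]; unfold ρ₀; simp only [Category.assoc]) e3
    (by rw [reassoc_of% e2]) c12 c23
  have em2 : comp G (comp G ((ιY ≫ α G g) ≫ ρ₀ x₀) (((ιY ≫ α G g) ≫ ρ₀ x₀) ≫ G.i) c12)
      (ιY ≫ ρ G g) c23 = ιY ≫ ρ G g := by
    have hci := comp_i G ((ιY ≫ α G g) ≫ ρ₀ x₀) c12
    refine (comp_congr G c23 hci rfl).trans ?_
    apply e_comp
    have : ((ιY ≫ α G g) ≫ ρ₀ x₀) ≫ G.t = (ιY ≫ ρ G g) ≫ G.t := by
      rw [Category.assoc, ρ₀_t x₀ hα]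
      simp only [Category.assoc, α_g]
    simp only [Category.assoc] at this ⊢
    rw [reassoc_of% this]
  apply hom_ext'
  · unfold μ
    rw [Category.assoc, mk_α, reassoc_of% e1]
    simp only [hα, Category.comp_id]
  · unfold μ
    rw [Category.assoc, mk_ρ, em, em2]
  · unfold μ
    rw [Category.assoc, mk_β, reassoc_of% e2]

end Transl

section Rational

variable (G)

/-- every point of `R` lifts to a rational point of the restriction to a big algebraically closed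
field. -/
theorem exists_rational_lift (k : Type u) [Field k] (eU : G.U ≅ Spec (CommRingCat.of k)) (r : G.R) :
    ∃ (k' : Type u) (_ : Field k') (_ : IsAlgClosed k') (φ : k →+* k'),
      ∃ (x₀ : Spec (CommRingCat.of k') ⟶ R' G (Spec.map (CommRingCat.ofHom φ) ≫ eU.inv))
        (b : Spec (CommRingCat.of k') ≅ Spec (CommRingCat.of k')),
        x₀ ≫ α G (Spec.map (CommRingCat.ofHom φ) ≫ eU.inv) = 𝟙 _ ∧
        x₀ ≫ β G (Spec.map (CommRingCat.ofHom φ) ≫ eU.inv) = b.hom ∧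
        (x₀ ≫ ρ G (Spec.map (CommRingCat.ofHom φ) ≫ eU.inv)) (IsLocalRing.closedPoint k') = r := by
  classical
  obtain ⟨k', hF, hA, j, hT⟩ := AlgClAut.exists_big (G.R.residueField r)
  let φ₁ : k →+* G.R.residueField r :=
    (Spec.preimage (G.R.fromSpecResidueField r ≫ G.t ≫ eU.hom)).hom
  let φ₂ : k →+* G.R.residueField r :=
    (Spec.preimage (G.R.fromSpecResidueField r ≫ G.s ≫ eU.hom)).hom
  have hφ₁ : Spec.map (CommRingCat.ofHom φ₁) = G.R.fromSpecResidueField r ≫ G.t ≫ eU.hom :=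
    Spec.map_preimage _
  have hφ₂ : Spec.map (CommRingCat.ofHom φ₂) = G.R.fromSpecResidueField r ≫ G.s ≫ eU.hom :=
    Spec.map_preimage _
  obtain ⟨β', hβ'⟩ := AlgClAut.exists_aut j φ₁ φ₂ hT
  refine ⟨k', hF, hA, j.comp φ₁, ?_⟩
  let ρ' : Spec (CommRingCat.of k') ⟶ G.R :=
    Spec.map (CommRingCat.ofHom j) ≫ G.R.fromSpecResidueField r
  have hg : Spec.map (CommRingCat.ofHom (j.comp φ₁)) ≫ eU.inv = ρ' ≫ G.t := by
    have e1 : CommRingCat.ofHom (j.comp φ₁) = CommRingCat.ofHom φ₁ ≫ CommRingCat.ofHom j := rfl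
    rw [e1, Spec.map_comp, hφ₁]
    simp only [ρ', Category.assoc, Iso.hom_inv_id, Category.comp_id]
  have h1 : 𝟙 (Spec (CommRingCat.of k')) ≫ (Spec.map (CommRingCat.ofHom (j.comp φ₁)) ≫ eU.inv)
      = ρ' ≫ G.t := by
    rw [Category.id_comp, hg]
  let bI : Spec (CommRingCat.of k') ≅ Spec (CommRingCat.of k') :=
    Scheme.Spec.mapIso β'.toCommRingCatIso.op
  have h2 : ρ' ≫ G.s = bI.hom ≫ (Spec.map (CommRingCat.ofHom (j.comp φ₁)) ≫ eU.inv) := by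
    have e2 : bI.hom ≫ Spec.map (CommRingCat.ofHom (j.comp φ₁)) =
        Spec.map (CommRingCat.ofHom φ₂ ≫ CommRingCat.ofHom j) := by
      change Spec.map β'.toCommRingCatIso.hom ≫ _ = _
      rw [← Spec.map_comp]
      congr 1
      ext x
      exact hβ' x
    rw [← Category.assoc, e2, Spec.map_comp, hφ₂]
    simp only [ρ', Category.assoc, Iso.hom_inv_id, Category.comp_id]
  refine ⟨mk (𝟙 _) ρ' bI.hom h1 h2, bI, mk_α _ _ _ _ _, mk_β _ _ _ _ _, ?_⟩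
  rw [mk_ρ]
  have e3 : ρ' (IsLocalRing.closedPoint k') = (G.R.fromSpecResidueField r)
      ((Spec.map (CommRingCat.ofHom j)) (IsLocalRing.closedPoint k')) :=
    Scheme.Hom.comp_apply _ _ _
  rw [e3, Scheme.fromSpecResidueField_apply]

theorem irreducibleSpace_subscheme {X : Scheme.{u}} (Z : TopologicalSpace.Closeds X)
    (h : IsIrreducible (Z : Set X)) :
    IrreducibleSpace (Scheme.IdealSheafData.vanishingIdeal Z).subscheme := by
  have hemb : Topology.IsEmbedding (Scheme.IdealSheafData.vanishingIdeal Z).subschemeι :=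
    (Scheme.IdealSheafData.vanishingIdeal Z).subschemeι.isEmbedding
  haveI : IrreducibleSpace (Set.range (Scheme.IdealSheafData.vanishingIdeal Z).subschemeι) := by
    apply Subtype.irreducibleSpace
    rw [Groth.Agent.Lib.Helper11RedCl.range_subschemeι_vanishingIdeal]
    exact h
  exact hemb.toHomeomorph.irreducibleSpace_iff.mpr inferInstance

/-- over an algebraically closed field, at most one irreducible component of the restriction
passes through a rational point. -/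
theorem components_eq_of_rational (k' : Type u) [Field k'] [IsAlgClosed k']
    (g : Spec (CommRingCat.of k') ⟶ G.U) (x₀ : Spec (CommRingCat.of k') ⟶ R' G g)
    (hα : x₀ ≫ α G g = 𝟙 _) (b : Spec (CommRingCat.of k') ≅ Spec (CommRingCat.of k'))
    (hβ : x₀ ≫ β G g = b.hom)
    (Z₁ : Set (R' G g)) (h₁ : Z₁ ∈ irreducibleComponents (R' G g)) (Z₂ : Set (R' G g))
    (h₂ : Z₂ ∈ irreducibleComponents (R' G g))
    (hx₁ : x₀ (IsLocalRing.closedPoint k') ∈ Z₁) (hx₂ : x₀ (IsLocalRing.closedPoint k') ∈ Z₂) :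
    Z₁ = Z₂ := by
  haveI hsub : Subsingleton (Spec (CommRingCat.of k')) :=
    inferInstanceAs (Subsingleton (PrimeSpectrum k'))
  let C₁ : TopologicalSpace.Closeds (R' G g) := ⟨Z₁, isClosed_of_mem_irreducibleComponents Z₁ h₁⟩
  let C₂ : TopologicalSpace.Closeds (R' G g) := ⟨Z₂, isClosed_of_mem_irreducibleComponents Z₂ h₂⟩
  haveI : IrreducibleSpace (Scheme.IdealSheafData.vanishingIdeal C₁).subscheme :=
    irreducibleSpace_subscheme C₁ h₁.1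
  haveI : IrreducibleSpace (Scheme.IdealSheafData.vanishingIdeal C₂).subscheme :=
    irreducibleSpace_subscheme C₂ h₂.1
  have hr₁ : Set.range x₀ ⊆ (C₁ : Set (R' G g)) := by
    rintro _ ⟨d, rfl⟩
    rw [Subsingleton.elim d (IsLocalRing.closedPoint k')]
    exact hx₁
  have hr₂ : Set.range x₀ ⊆ (C₂ : Set (R' G g)) := by
    rintro _ ⟨d, rfl⟩
    rw [Subsingleton.elim d (IsLocalRing.closedPoint k')]
    exact hx₂
  obtain ⟨z₀, hz₀⟩ := Groth.Agent.Lib.Helper11RedCl.exists_lift_of_range_subset x₀ C₁ hr₁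
  obtain ⟨y₀, hy₀⟩ := Groth.Agent.Lib.Helper11RedCl.exists_lift_of_range_subset x₀ C₂ hr₂
  let ιX := (Scheme.IdealSheafData.vanishingIdeal C₁).subschemeι
  let ιY := (Scheme.IdealSheafData.vanishingIdeal C₂).subschemeι
  obtain ⟨σX, hσX⟩ := exists_sectX x₀ hα b hβ ιX ιY y₀ hy₀
  obtain ⟨σY, hσY⟩ := exists_sectY x₀ hα b hβ ιX ιY z₀ hz₀
  -- irreducibility of the fibre product
  haveI : IrreducibleSpace (Q b ιX ιY) := by
    letI : (Scheme.IdealSheafData.vanishingIdeal C₁).subscheme.Over (Spec (CommRingCat.of k')) :=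
      ⟨ιX ≫ β G g ≫ b.inv⟩
    haveI : GeometricallyIrreducible (ιX ≫ β G g ≫ b.inv) :=
      Groth.Agent.Lib.Helper6.SepCl.geometricallyIrreducible_of_isSepClosed k'
        (Scheme.IdealSheafData.vanishingIdeal C₁).subscheme
    haveI : UniversallyOpen (ιX ≫ β G g ≫ b.inv) := inferInstance
    infer_instance
  have hirr : IsIrreducible (closure (Set.range (μ x₀ hα b hβ ιX ιY))) := by
    apply IsIrreducible.closure
    rw [← Set.image_univ]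
    exact (IrreducibleSpace.isIrreducible_univ _).image _ (μ x₀ hα b hβ ιX ιY).continuous.continuousOn
  have hs₁ : Z₁ ⊆ closure (Set.range (μ x₀ hα b hβ ιX ιY)) := by
    refine subset_trans ?_ subset_closure
    intro z hz
    have : z ∈ Set.range ιX := by
      rw [Groth.Agent.Lib.Helper11RedCl.range_subschemeι_vanishingIdeal]
      exact hz
    obtain ⟨w, rfl⟩ := this
    refine ⟨σX w, ?_⟩
    rw [← Scheme.Hom.comp_apply, hσX]
  have hs₂ : Z₂ ⊆ closure (Set.range (μ x₀ hα b hβ ιX ιY)) := by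
    refine subset_trans ?_ subset_closure
    intro z hz
    have : z ∈ Set.range ιY := by
      rw [Groth.Agent.Lib.Helper11RedCl.range_subschemeι_vanishingIdeal]
      exact hz
    obtain ⟨w, rfl⟩ := this
    refine ⟨σY w, ?_⟩
    rw [← Scheme.Hom.comp_apply, hσY]
  exact (Set.Subset.antisymm hs₁ (h₁.2 hirr hs₁)).trans
    (Set.Subset.antisymm hs₂ (h₂.2 hirr hs₂)).symm

end Rational

end Groth.Agent.Lib.Helper11.GrpdRat
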