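import Mathlib
import Groth.Agent.Lib.Helper11DimOneB
import Groth.Agent.Lib.Helper11AffGlue
import Groth.Agent.Lib.Helper11GrpdRat

set_option autoImplicit false
set_option linter.style.haveILetI false
universe u
open CategoryTheory AlgebraicGeometry TopologicalSpace Opposite Limits

/-!
# Stacks 09NZ (helper11)

In a separated locally Noetherian scheme every finite set of points of dimension at most one is
contained in an affine open.
-/

namespace Groth.Agent.Lib.Helper11.DimOne

open Scheme.IdealSheafData in
theorem exists_affine_of_noetherian {X : Scheme.{u}} [X.IsSeparated] [IsNoetherian X]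
    (T : Finset X) (hT : ∀ t ∈ T, ringKrullDim (X.presheaf.stalk t) ≤ 1) :
    ∃ U : X.Opens, IsAffineOpen U ∧ ∀ t ∈ T, t ∈ U := by
  classical
  apply AffGlue.exists_affine_of_per_component
    (finite_irreducibleComponents_of_isNoetherian (X := X)) T
  intro Z hZ
  set Zc : Closeds X := ⟨Z, isClosed_of_mem_irreducibleComponents Z hZ⟩ with hZc
  set I := vanishingIdeal Zc with hI
  haveI : IrreducibleSpace I.subscheme :=
    GrpdRat.irreducibleSpace_subscheme Zc hZ.1
  haveI : IsIntegral I.subscheme := isIntegral_of_irreducibleSpace_of_isReduced _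
  haveI : I.subscheme.IsSeparated := by
    constructor
    have : terminal.from I.subscheme = I.subschemeι ≫ terminal.from X := by
      apply Subsingleton.elim
    rw [this]
    infer_instance
  haveI : IsLocallyNoetherian I.subscheme :=
    LocallyOfFiniteType.isLocallyNoetherian I.subschemeι
  have hinj : Function.Injective I.subschemeι := I.subschemeι.isClosedEmbedding.injective
  let T' : Finset I.subscheme := T.preimage I.subschemeι hinj.injOn
  obtain ⟨V, hV, hTV⟩ := exists_affine_of_integral T' (fun y hy => by
    have h1 := hT _ (Finset.mem_preimage.1 hy)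
    exact (ringKrullDim_le_of_surjective _ (I.subschemeι.stalkMap_surjective y)).trans h1)
  refine ⟨V, hV, fun t ht htZ => ?_⟩
  obtain ⟨y, rfl⟩ := AffGlue.exists_subschemeι_eq I (x := t)
    ((AffGlue.mem_support_vanishingIdeal _ _).2 htZ)
  exact ⟨y, hTV y (Finset.mem_preimage.2 ht), rfl⟩

/-- **Stacks 09NZ.** In a separated locally Noetherian scheme every finite set of points whose
local rings have dimension at most one is contained in an affine open. -/
theorem exists_affine_of_dim_le_one {X : Scheme.{u}} [X.IsSeparated] [IsLocallyNoetherian X]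
    (T : Finset X) (hT : ∀ t ∈ T, ringKrullDim (X.presheaf.stalk t) ≤ 1) :
    ∃ U : X.Opens, IsAffineOpen U ∧ ∀ t ∈ T, t ∈ U := by
  classical
  obtain ⟨V, hVc, hTV⟩ := AffImg.exists_compact_open_of_compact (X := X) (T : Set X)
    T.finite_toSet.isCompact
  haveI : CompactSpace V := isCompact_iff_compactSpace.1 hVc
  haveI : IsNoetherian V.toScheme := { }
  haveI : V.toScheme.IsSeparated := by
    constructor
    have : terminal.from V.toScheme = V.ι ≫ terminal.from X := by
      apply Subsingleton.elim
    rw [this]
    infer_instance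
  have hinj : Function.Injective V.ι := V.ι.isOpenEmbedding.injective
  let T' : Finset V.toScheme := T.preimage V.ι hinj.injOn
  obtain ⟨U, hU, hTU⟩ := exists_affine_of_noetherian T' (fun y hy => by
    have h1 := hT _ (Finset.mem_preimage.1 hy)
    have e : X.presheaf.stalk (V.ι y) ≅ V.toScheme.presheaf.stalk y := asIso (V.ι.stalkMap y)
    rw [← ringKrullDim_eq_of_ringEquiv e.commRingCatIsoToRingEquiv]
    exact h1)
  refine ⟨V.ι ''ᵁ U, hU.image_of_isOpenImmersion V.ι, fun t ht => ?_⟩
  have htV : t ∈ V := hTV ht
  refine ⟨⟨t, htV⟩, hTU _ (Finset.mem_preimage.2 ?_), rfl⟩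
  exact ht

end Groth.Agent.Lib.Helper11.DimOne
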