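import Mathlib

set_option autoImplicit false
universe u

namespace Groth.Agent.Lib.Helper11.KL

open Polynomial

/-- **Claim F.**  `S = R_b`, `J` an ideal with `J ^ n ≤ (b)`; `z ∈ S` such that modulo every minimal
prime of `S` the element `z` is inverse to (the image of) an element of `J`.  Then some power
`z ^ M`, `M ≥ 1`, is inverse in `S` to (the image of) an element of `J`. -/
theorem exists_pow_mul_eq_one {R : Type*} [CommRing R] (J : Ideal R) (b : R) (n : ℕ)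
    (hn : J ^ n ≤ Ideal.span {b}) {S : Type*} [CommRing S] [Algebra R S] [IsLocalization.Away b S]
    (hfin : (minimalPrimes S).Finite) (z : S)
    (hz : ∀ 𝔓 ∈ minimalPrimes S, ∃ r ∈ J, z * algebraMap R S r - 1 ∈ 𝔓) :
    ∃ M : ℕ, 1 ≤ M ∧ ∃ a ∈ J, z ^ M * algebraMap R S a = 1 := by
  classical
  rcases subsingleton_or_nontrivial S with hS | hS
  · exact ⟨1, le_rfl, 0, J.zero_mem, Subsingleton.elim _ _⟩
  -- choose the `r`
  have hz' : ∀ 𝔓 : Ideal S, ∃ r ∈ J, 𝔓 ∈ minimalPrimes S → z * algebraMap R S r - 1 ∈ 𝔓 := by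
    intro 𝔓
    by_cases h : 𝔓 ∈ minimalPrimes S
    · obtain ⟨r, hr, h1⟩ := hz 𝔓 h
      exact ⟨r, hr, fun _ => h1⟩
    · exact ⟨0, J.zero_mem, fun h' => absurd h' h⟩
  choose r hrJ hr using hz'
  set P : Finset (Ideal S) := hfin.toFinset with hP
  have hPmem : ∀ 𝔓, 𝔓 ∈ P ↔ 𝔓 ∈ minimalPrimes S := fun 𝔓 => hfin.mem_toFinset
  -- `P` is nonempty
  have hPne : P.Nonempty := by
    obtain ⟨𝔪, h𝔪⟩ := Ideal.exists_maximal S
    haveI := h𝔪.isPrime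
    obtain ⟨𝔓, h𝔓, -⟩ := Ideal.exists_minimalPrimes_le (bot_le : (⊥ : Ideal S) ≤ 𝔪)
    exact ⟨𝔓, (hPmem 𝔓).2 h𝔓⟩
  -- `z` is a unit
  have hzu : IsUnit z := by
    by_contra hzn
    obtain ⟨𝔪, h𝔪, hle⟩ := Ideal.exists_le_maximal (Ideal.span {z})
      (fun h => hzn (Ideal.span_singleton_eq_top.1 h))
    haveI := h𝔪.isPrime
    obtain ⟨𝔓, h𝔓, h𝔓le⟩ := Ideal.exists_minimalPrimes_le (bot_le : (⊥ : Ideal S) ≤ 𝔪)
    have h1 : z * algebraMap R S (r 𝔓) - 1 ∈ 𝔪 := h𝔓le (hr 𝔓 h𝔓)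
    have h2 : z * algebraMap R S (r 𝔓) ∈ 𝔪 :=
      𝔪.mul_mem_right _ (hle (Ideal.subset_span rfl))
    have h3 : (1 : S) ∈ 𝔪 := by
      have := 𝔪.sub_mem h2 h1
      simpa using this
    exact h𝔪.ne_top ((Ideal.eq_top_iff_one _).2 h3)
  obtain ⟨zu, rfl⟩ := hzu
  set w : S := ((zu⁻¹ : Sˣ) : S) with hw
  have hzw : (zu : S) * w = 1 := zu.mul_inv
  -- the product is nilpotent
  set p : S := ∏ 𝔓 ∈ P, ((zu : S) * algebraMap R S (r 𝔓) - 1) with hp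
  have hpnil : IsNilpotent p := by
    rw [← mem_nilradical, nilradical_eq_sInf, Ideal.mem_sInf]
    intro 𝔮 h𝔮
    haveI : 𝔮.IsPrime := h𝔮
    obtain ⟨𝔓, h𝔓, h𝔓le⟩ := Ideal.exists_minimalPrimes_le (bot_le : (⊥ : Ideal S) ≤ 𝔮)
    apply h𝔓le
    exact Ideal.mem_of_dvd _ (Finset.dvd_prod_of_mem _ ((hPmem 𝔓).2 h𝔓)) (hr 𝔓 h𝔓)
  obtain ⟨e, he⟩ := hpnil
  -- the equation for `w`
  have hweq : (∏ 𝔓 ∈ P, (w - algebraMap R S (r 𝔓))) ^ (e + 1) = 0 := by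
    have h1 : ∀ 𝔓, w - algebraMap R S (r 𝔓) = (-w) * ((zu : S) * algebraMap R S (r 𝔓) - 1) := by
      intro 𝔓
      have : (-w) * ((zu : S) * algebraMap R S (r 𝔓) - 1) =
          w - ((zu : S) * w) * algebraMap R S (r 𝔓) := by ring
      rw [this, hzw, one_mul]
    simp_rw [h1]
    rw [Finset.prod_mul_distrib, mul_pow, ← hp, pow_succ p, he, zero_mul, mul_zero]
  -- `w` is integral
  have hwint : IsIntegral R w := by
    refine ⟨(∏ 𝔓 ∈ P, (X - C (r 𝔓))) ^ (e + 1), ?_, ?_⟩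
    · exact (monic_prod_of_monic _ _ (fun 𝔓 _ => monic_X_sub_C (r 𝔓))).pow _
    · rw [← aeval_def, map_pow, map_prod]
      simp only [map_sub, aeval_X, aeval_C]
      exact hweq
  set R₁ : Subalgebra R S := Algebra.adjoin R {w} with hR₁
  have hwR₁ : w ∈ R₁ := Algebra.subset_adjoin rfl
  have hfg : R₁.toSubmodule.FG := hwint.fg_adjoin_singleton
  obtain ⟨G, hG⟩ := hfg
  obtain ⟨⟨_, m, rfl⟩, hbm⟩ := IsLocalization.exist_integer_multiples_of_finset (Submonoid.powers b) G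
  -- H0 : `b^m • R₁ ⊆ R`
  have H0' : ∀ y ∈ Submodule.span R (G : Set S), ∃ t : R,
      algebraMap R S t = algebraMap R S (b ^ m) * y := by
    intro y hy'
    induction hy' using Submodule.span_induction with
    | mem g hg =>
      obtain ⟨t, ht⟩ := hbm g hg
      exact ⟨t, by rw [ht, Algebra.smul_def]⟩
    | zero => exact ⟨0, by simp⟩
    | add y₁ y₂ _ _ h₁ h₂ =>
      obtain ⟨t₁, ht₁⟩ := h₁
      obtain ⟨t₂, ht₂⟩ := h₂
      exact ⟨t₁ + t₂, by rw [map_add, ht₁, ht₂, mul_add]⟩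
    | smul c y _ h₁ =>
      obtain ⟨t₁, ht₁⟩ := h₁
      exact ⟨c * t₁, by rw [map_mul, ht₁, Algebra.smul_def]; ring⟩
  have H0 : ∀ y ∈ R₁, ∃ t : R, algebraMap R S t = algebraMap R S (b ^ m) * y := by
    intro y hy
    exact H0' y (by rw [hG]; exact hy)
  -- H1 : `J^(n*m) • R₁ ⊆ R`
  have hJnm : J ^ (n * m) ≤ Ideal.span {b ^ m} := by
    rw [pow_mul, ← Ideal.span_singleton_pow]
    exact Ideal.pow_right_mono hn m
  have H1 : ∀ y ∈ R₁, ∀ j ∈ J ^ (n * m), ∃ t : R, algebraMap R S t = algebraMap R S j * y := by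
    intro y hy j hj
    obtain ⟨c, rfl⟩ := Ideal.mem_span_singleton'.1 (hJnm hj)
    obtain ⟨t, ht⟩ := H0 y hy
    exact ⟨c * t, by rw [map_mul, map_mul, ht, mul_assoc]⟩
  -- the ideal `𝔠` of `R₁`
  let 𝔠 : Ideal R₁ :=
    { carrier := {v | ∀ y : R₁, ∃ a ∈ J, algebraMap R S a = (y : S) * (v : S)}
      add_mem' := by
        intro v₁ v₂ h₁ h₂ y
        obtain ⟨a₁, ha₁, e₁⟩ := h₁ y
        obtain ⟨a₂, ha₂, e₂⟩ := h₂ y
        exact ⟨a₁ + a₂, J.add_mem ha₁ ha₂, by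
          rw [map_add, e₁, e₂]; push_cast; ring⟩
      zero_mem' := fun y => ⟨0, J.zero_mem, by simp⟩
      smul_mem' := by
        intro c v hv y
        obtain ⟨a, ha, e₁⟩ := hv (y * c)
        exact ⟨a, ha, by rw [e₁]; simp only [smul_eq_mul]; push_cast; ring⟩ }
  have h𝔠 : Ideal.map (algebraMap R R₁) (J ^ (n * m + 1)) ≤ 𝔠 := by
    rw [Ideal.map_le_iff_le_comap]
    intro j hj
    rw [pow_succ] at hj
    change algebraMap R R₁ j ∈ 𝔠
    refine Submodule.mul_induction_on hj ?_ ?_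
    · intro j₁ hj₁ j₂ hj₂ y
      obtain ⟨t, ht⟩ := H1 (y : S) y.2 j₁ hj₁
      refine ⟨j₂ * t, J.mul_mem_right _ hj₂, ?_⟩
      have : ((algebraMap R R₁ (j₁ * j₂) : R₁) : S) = algebraMap R S (j₁ * j₂) := rfl
      rw [this, map_mul, map_mul, ht]
      ring
    · intro j₁ j₂ h₁ h₂
      rw [map_add]
      exact 𝔠.add_mem h₁ h₂
  -- `w^d ∈ J R₁`
  set w₁ : R₁ := ⟨w, hwR₁⟩ with hw₁
  set d : ℕ := P.card * (e + 1) with hd
  have hwd : w₁ ^ d ∈ Ideal.map (algebraMap R R₁) J := by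
    rw [← Ideal.Quotient.eq_zero_iff_mem]
    have h0 : (∏ 𝔓 ∈ P, (w₁ - algebraMap R R₁ (r 𝔓))) ^ (e + 1) = 0 := by
      apply Subtype.ext
      have := hweq
      push_cast
      simpa using this
    have h1 := congrArg (Ideal.Quotient.mk (Ideal.map (algebraMap R R₁) J)) h0
    rw [map_pow, map_prod, map_zero] at h1
    have h2 : ∀ 𝔓 ∈ P, Ideal.Quotient.mk (Ideal.map (algebraMap R R₁) J) (w₁ - algebraMap R R₁ (r 𝔓)) =
        Ideal.Quotient.mk (Ideal.map (algebraMap R R₁) J) w₁ := by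
      intro 𝔓 _
      rw [map_sub, Ideal.Quotient.eq_zero_iff_mem.2 (Ideal.mem_map_of_mem _ (hrJ 𝔓)), sub_zero]
    rw [Finset.prod_congr rfl h2, Finset.prod_const, ← pow_mul] at h1
    rw [map_pow]
    exact h1
  have hwM : w₁ ^ (d * (n * m + 1)) ∈ 𝔠 := by
    apply h𝔠
    rw [Ideal.map_pow, pow_mul]
    exact Ideal.pow_mem_pow hwd _
  obtain ⟨a, haJ, hae⟩ := hwM 1
  refine ⟨d * (n * m + 1), ?_, a, haJ, ?_⟩
  · have hd1 : 1 ≤ d := Nat.succ_le_of_lt (Nat.mul_pos (Finset.card_pos.2 hPne) (Nat.succ_pos e))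
    exact Nat.succ_le_of_lt (Nat.mul_pos hd1 (Nat.succ_pos _))
  · rw [hae]
    have : ((1 : R₁) : S) * ((w₁ ^ (d * (n * m + 1)) : R₁) : S) = w ^ (d * (n * m + 1)) := by
      push_cast
      rw [one_mul]
    rw [this, ← mul_pow, hzw, one_pow]

end Groth.Agent.Lib.Helper11.KL
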