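import Mathlib

set_option autoImplicit false
universe u

namespace Groth.Agent.Lib.Helper11.KL

section place

variable {R : Type*} [CommRing R] [IsLocalRing R] {K : Type*} [Field K] (ρ : R →+* K)

theorem ker_le_maximalIdeal : RingHom.ker ρ ≤ IsLocalRing.maximalIdeal R :=
  IsLocalRing.le_maximalIdeal (RingHom.ker_ne_top ρ)

instance isLocalRing_range : IsLocalRing ρ.range :=
  IsLocalRing.of_surjective' ρ.rangeRestrict ρ.rangeRestrict_surjective

theorem not_isUnit_range {r : R} (hr : r ∈ IsLocalRing.maximalIdeal R) :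
    ¬ IsUnit (⟨ρ r, r, rfl⟩ : ρ.range) := by
  rintro ⟨u, hu⟩
  obtain ⟨r', hr'⟩ := (u⁻¹ : (ρ.range)ˣ).1.2
  have h1 : ρ r * ρ r' = 1 := by
    have := congrArg (Subtype.val) (u.mul_inv)
    rw [hu] at this
    simpa [hr'] using this
  have h2 : r * r' - 1 ∈ RingHom.ker ρ := by
    rw [RingHom.mem_ker, map_sub, map_mul, h1, map_one, sub_self]
  have h3 := ker_le_maximalIdeal ρ h2
  have h4 : r * r' ∈ IsLocalRing.maximalIdeal R := Ideal.mul_mem_right _ _ hr
  have h5 : (1 : R) ∈ IsLocalRing.maximalIdeal R := by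
    have := Ideal.sub_mem _ h4 h3
    simp at this
  exact (IsLocalRing.maximalIdeal.isMaximal R).ne_top ((Ideal.eq_top_iff_one _).2 h5)

theorem mem_jacobson_range {r : R} (hr : r ∈ IsLocalRing.maximalIdeal R) :
    (⟨ρ r, r, rfl⟩ : ρ.range) ∈ Ideal.jacobson (⊥ : Ideal ρ.range) := by
  rw [IsLocalRing.jacobson_eq_maximalIdeal ⊥ bot_ne_top]
  exact (IsLocalRing.mem_maximalIdeal _).2 (not_isUnit_range ρ hr)

theorem mem_maximalIdeal_of_mem_jacobson_range {r : R}
    (hr : (⟨ρ r, r, rfl⟩ : ρ.range) ∈ Ideal.jacobson (⊥ : Ideal ρ.range)) :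
    r ∈ IsLocalRing.maximalIdeal R := by
  rw [IsLocalRing.jacobson_eq_maximalIdeal ⊥ bot_ne_top] at hr
  by_contra hnr
  have hu : IsUnit r := by
    by_contra h
    exact hnr ((IsLocalRing.mem_maximalIdeal _).2 h)
  have : IsUnit (ρ.rangeRestrict r) := hu.map ρ.rangeRestrict
  exact (IsLocalRing.mem_maximalIdeal _).1 hr this

omit [IsLocalRing R] in
theorem isFractionRing_range (hK : ∀ z : K, ∃ x y : R, z = ρ x / ρ y) :
    IsFractionRing ρ.range K := by
  refine IsFractionRing.of_field (R := ρ.range) (K := K) fun z => ?_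
  obtain ⟨x, y, rfl⟩ := hK z
  exact ⟨⟨ρ x, x, rfl⟩, ⟨ρ y, y, rfl⟩, rfl⟩

theorem ringKrullDim_range_eq_one (hdim : ringKrullDim R ≤ 1) {t : R}
    (ht : t ∈ IsLocalRing.maximalIdeal R) (ht0 : ρ t ≠ 0) : ringKrullDim ρ.range = 1 := by
  have hle : ringKrullDim ρ.range ≤ 1 :=
    (ringKrullDim_le_of_surjective ρ.rangeRestrict ρ.rangeRestrict_surjective).trans hdim
  have hnf : ¬ IsField ρ.range := by
    intro hf
    have hne : (⟨ρ t, t, rfl⟩ : ρ.range) ≠ 0 := by
      intro h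
      exact ht0 (congrArg Subtype.val h)
    obtain ⟨c, hc⟩ := hf.mul_inv_cancel hne
    exact not_isUnit_range ρ ht (IsUnit.of_mul_eq_one _ hc)
  have : ¬ ringKrullDim ρ.range ≤ 0 := fun h => by
    have : Ring.KrullDimLE 0 ρ.range := Ring.krullDimLE_iff.mpr h
    exact hnf Ring.KrullDimLE.isField_of_isDomain
  exact le_antisymm hle (Order.succ_le_of_lt (lt_of_not_ge this))

end place

end Groth.Agent.Lib.Helper11.KL
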