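import Mathlib
import Groth.Agent.Lib.Helper11KLA
import Groth.Agent.Lib.Helper11KLB
import Groth.Agent.Lib.Helper5GlueDimOne

set_option autoImplicit false
universe u

namespace Groth.Agent.Lib.Helper11.KL

open IsLocalRing

section placeK

variable {R : Type u} [CommRing R] {S' : Type u} [CommRing S'] [Algebra R S']

/-- the field at a prime of `S'` -/
abbrev PlaceK (p : PrimeSpectrum S') : Type u := FractionRing (S' ⧸ p.asIdeal)

/-- `S' → K_p` -/
noncomputable def kap (p : PrimeSpectrum S') : S' →+* PlaceK p :=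
  (algebraMap (S' ⧸ p.asIdeal) (PlaceK p)).comp (Ideal.Quotient.mk p.asIdeal)

/-- `R → K_p` -/
noncomputable def rho (p : PrimeSpectrum S') : R →+* PlaceK p := (kap p).comp (algebraMap R S')

theorem kap_eq_zero_iff (p : PrimeSpectrum S') (s : S') : kap p s = 0 ↔ s ∈ p.asIdeal := by
  unfold kap
  rw [RingHom.comp_apply, map_eq_zero_iff _ (IsFractionRing.injective (S' ⧸ p.asIdeal) (PlaceK p)),
    Ideal.Quotient.eq_zero_iff_mem]

theorem kap_ne_zero_of_isUnit (p : PrimeSpectrum S') {s : S'} (hs : IsUnit s) : kap p s ≠ 0 :=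
  (hs.map (kap p)).ne_zero

theorem exists_div (t : R) [IsLocalization.Away t S'] (p : PrimeSpectrum S') (z : PlaceK p) :
    ∃ x y : R, z = rho (R := R) p x / rho (R := R) p y := by
  obtain ⟨a, c, -, rfl⟩ := IsFractionRing.div_surjective (A := S' ⧸ p.asIdeal) z
  obtain ⟨s₁, rfl⟩ := Ideal.Quotient.mk_surjective a
  obtain ⟨s₂, rfl⟩ := Ideal.Quotient.mk_surjective c
  obtain ⟨⟨r₁, ⟨_, k₁, rfl⟩⟩, h₁⟩ := IsLocalization.surj (Submonoid.powers t) s₁
  obtain ⟨⟨r₂, ⟨_, k₂, rfl⟩⟩, h₂⟩ := IsLocalization.surj (Submonoid.powers t) s₂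
  have hu : kap p (algebraMap R S' t) ≠ 0 :=
    kap_ne_zero_of_isUnit p (IsLocalization.Away.algebraMap_isUnit t)
  have e₁ : kap p s₁ * kap p (algebraMap R S' t) ^ k₁ = rho (R := R) p r₁ := by
    have := congrArg (kap p) h₁
    simpa [rho, map_mul, map_pow] using this
  have e₂ : kap p s₂ * kap p (algebraMap R S' t) ^ k₂ = rho (R := R) p r₂ := by
    have := congrArg (kap p) h₂
    simpa [rho, map_mul, map_pow] using this
  refine ⟨r₁ * t ^ k₂, r₂ * t ^ k₁, ?_⟩
  change kap p s₁ / kap p s₂ = _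
  have ht : rho (R := R) p t = kap p (algebraMap R S' t) := rfl
  rw [map_mul, map_mul, map_pow, map_pow, ← e₁, ← e₂, ht]
  by_cases h0 : kap p s₂ = 0
  · rw [h0]; simp
  · field_simp

end placeK

section local_

variable {R : Type u} [CommRing R] [IsLocalRing R] [IsNoetherianRing R]
  {S' : Type u} [CommRing S'] [Algebra R S']

omit [IsLocalRing R] [IsNoetherianRing R] in
theorem isFractionRing_place (t : R) [IsLocalization.Away t S'] (p : PrimeSpectrum S') :
    IsFractionRing (rho (R := R) p).range (PlaceK p) :=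
  isFractionRing_range _ (exists_div t p)

omit [IsNoetherianRing R] in
theorem ringKrullDim_place (hdim : ringKrullDim R ≤ 1) (t : R) (ht : t ∈ maximalIdeal R)
    [IsLocalization.Away t S'] (p : PrimeSpectrum S') :
    ringKrullDim (rho (R := R) p).range = 1 :=
  ringKrullDim_range_eq_one _ hdim ht
    (kap_ne_zero_of_isUnit p (IsLocalization.Away.algebraMap_isUnit t))

theorem range_sup_range_eq_top (hdim : ringKrullDim R ≤ 1) (t : R) (ht : t ∈ maximalIdeal R)
    [IsLocalization.Away t S'] {C : Type*} [CommRing C] (θ₀ : C →+* S')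
    (hgen' : (algebraMap R S').range ⊔ θ₀.range = ⊤) (p : PrimeSpectrum S') :
    ((kap p).comp θ₀).range ⊔ (rho (R := R) p).range = ⊤ := by
  haveI := isFractionRing_place (R := R) t p
  have hκ : (kap p).range ≤ ((kap p).comp θ₀).range ⊔ (rho (R := R) p).range := by
    have h1 : (kap p).range = (⊤ : Subring S').map (kap p) := by
      rw [← RingHom.range_eq_map]
    rw [h1, ← hgen', Subring.map_sup, RingHom.map_range, RingHom.map_range, sup_comm]
    exact le_rfl
  rw [eq_top_iff]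
  intro z _
  have hjac := mem_jacobson_range (rho (R := R) p) ht
  obtain ⟨k, hk⟩ := Groth.Agent.Lib.Helper5.GlueDimOne.exists_pow_mul_mem (rho (R := R) p).range
    (ringKrullDim_place hdim t ht p).le hjac z
  have hu : kap p (algebraMap R S' t) ≠ 0 :=
    kap_ne_zero_of_isUnit p (IsLocalization.Away.algebraMap_isUnit t)
  obtain ⟨ti, hti⟩ := (IsLocalization.Away.algebraMap_isUnit (S := S') t).exists_right_inv
  have h2 : kap p ti ∈ ((kap p).comp θ₀).range ⊔ (rho (R := R) p).range := hκ ⟨ti, rfl⟩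
  have h3 : z = kap p ti ^ k * (rho (R := R) p t ^ k * z) := by
    have : rho (R := R) p t * kap p ti = 1 := by
      change kap p (algebraMap R S' t) * kap p ti = 1
      rw [← map_mul, hti, map_one]
    rw [← mul_assoc, ← mul_pow, mul_comm (kap p ti), this, one_pow, one_mul]
  rw [h3]
  exact Subring.mul_mem _ (Subring.pow_mem _ h2 _) ((le_sup_right : (rho (R := R) p).range ≤ _) hk)

/-- **the local statement.** -/
theorem exists_pow_mul_eq_one_of_places (t : R)
    (htp : ∀ 𝔭 : Ideal R, 𝔭.IsPrime → t ∈ 𝔭 → 𝔭 = maximalIdeal R) [IsLocalization.Away t S']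
    (z : S')
    (hz : ∀ p : PrimeSpectrum S', p.asIdeal ∈ minimalPrimes S' →
      kap p z ≠ 0 ∧ ∃ h : (kap p z)⁻¹ ∈ (rho (R := R) p).range,
        (⟨_, h⟩ : (rho (R := R) p).range) ∈ Ideal.jacobson (⊥ : Ideal (rho (R := R) p).range)) :
    ∃ M : ℕ, 1 ≤ M ∧ ∃ a ∈ maximalIdeal R, z ^ M * algebraMap R S' a = 1 := by
  haveI : IsNoetherianRing S' := IsLocalization.isNoetherianRing (Submonoid.powers t) S' inferInstance
  have hfin : (minimalPrimes S').Finite := minimalPrimes.finite_of_isNoetherianRing S'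
  have hrad : maximalIdeal R ≤ (Ideal.span {t}).radical := by
    rw [Ideal.radical_eq_sInf]
    refine le_sInf ?_
    rintro 𝔭 ⟨h1, h2⟩
    rw [htp 𝔭 h2 (h1 (Ideal.subset_span rfl))]
  obtain ⟨n, hn⟩ := Ideal.exists_pow_le_of_le_radical_of_fg hrad
    ((isNoetherianRing_iff_ideal_fg R).1 inferInstance _)
  refine exists_pow_mul_eq_one (maximalIdeal R) t n hn hfin z ?_
  intro 𝔓 h𝔓
  obtain ⟨p, rfl⟩ : ∃ p : PrimeSpectrum S', p.asIdeal = 𝔓 := ⟨⟨𝔓, h𝔓.1.1⟩, rfl⟩
  obtain ⟨hne, ⟨r, hr⟩, hjac⟩ := hz p h𝔓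
  refine ⟨r, ?_, ?_⟩
  · apply mem_maximalIdeal_of_mem_jacobson_range (rho (R := R) p)
    convert hjac using 1
    exact Subtype.ext hr
  · rw [← kap_eq_zero_iff p, map_sub, map_mul, map_one]
    have : kap p (algebraMap R S' r) = (kap p z)⁻¹ := hr
    rw [this, mul_inv_cancel₀ hne, sub_self]

end local_

end Groth.Agent.Lib.Helper11.KL
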