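import Mathlib
import Groth.Agent.Lib.Helper11KLC

set_option autoImplicit false
universe u

namespace Groth.Agent.Lib.Helper11.KL

open IsLocalRing

section global

variable {Q : Type u} [CommRing Q]

theorem isMaximal_of_mem (hdim : ringKrullDim Q ≤ 1) (b : Q)
    (hb : ∀ 𝔓 ∈ minimalPrimes Q, b ∉ 𝔓) (𝔪 : Ideal Q) [h𝔪 : 𝔪.IsPrime] (h : b ∈ 𝔪) :
    𝔪.IsMaximal := by
  haveI : Ring.KrullDimLE 1 Q := Ring.krullDimLE_iff.mpr hdim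
  rcases Ring.krullDimLE_one_iff.1 inferInstance 𝔪 h𝔪 with h1 | h1
  · exact absurd h (hb 𝔪 h1)
  · exact h1

theorem finite_primes_mem [IsNoetherianRing Q] (hdim : ringKrullDim Q ≤ 1) (b : Q)
    (hb : ∀ 𝔓 ∈ minimalPrimes Q, b ∉ 𝔓) :
    {𝔪 : PrimeSpectrum Q | b ∈ 𝔪.asIdeal}.Finite := by
  have hfin : ((Ideal.span {b}).minimalPrimes).Finite :=
    Ideal.finite_minimalPrimes_of_isNoetherianRing Q _
  refine Set.Finite.subset (hfin.preimage (f := PrimeSpectrum.asIdeal) ?_) ?_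
  · intro p _ q _ hpq
    exact PrimeSpectrum.ext hpq
  · intro 𝔪 h𝔪
    change 𝔪.asIdeal ∈ (Ideal.span {b}).minimalPrimes
    refine ⟨⟨𝔪.isPrime, (Ideal.span_singleton_le_iff_mem _).2 h𝔪⟩, ?_⟩
    rintro 𝔮 ⟨h𝔮, h𝔮b⟩ hle
    haveI := h𝔮
    have hmax := isMaximal_of_mem hdim b hb 𝔮 ((Ideal.span_singleton_le_iff_mem _).1 h𝔮b)
    exact (hmax.eq_of_le 𝔪.isPrime.ne_top hle).ge

/-- the local ring at a prime -/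
abbrev Rm (𝔪 : PrimeSpectrum Q) : Type u := Localization.AtPrime 𝔪.asIdeal

theorem ringKrullDim_Rm_le (hdim : ringKrullDim Q ≤ 1) (𝔪 : PrimeSpectrum Q) :
    ringKrullDim (Rm 𝔪) ≤ 1 := by
  rw [IsLocalization.AtPrime.ringKrullDim_eq_height 𝔪.asIdeal (Rm 𝔪)]
  exact Ideal.height_le_ringKrullDim_of_isPrime.trans hdim

theorem algebraMap_mem_maximalIdeal (b : Q) (𝔪 : PrimeSpectrum Q) (h : b ∈ 𝔪.asIdeal) :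
    algebraMap Q (Rm 𝔪) b ∈ maximalIdeal (Rm 𝔪) :=
  (IsLocalization.AtPrime.to_map_mem_maximal_iff (Rm 𝔪) 𝔪.asIdeal b).2 h

theorem eq_maximalIdeal_of_mem (hdim : ringKrullDim Q ≤ 1) (b : Q)
    (hb : ∀ 𝔓 ∈ minimalPrimes Q, b ∉ 𝔓) (𝔪 : PrimeSpectrum Q)
    (𝔭 : Ideal (Rm 𝔪)) (h𝔭 : 𝔭.IsPrime) (hb𝔭 : algebraMap Q (Rm 𝔪) b ∈ 𝔭) :
    𝔭 = maximalIdeal (Rm 𝔪) := by
  haveI := h𝔭
  have h1 : b ∈ 𝔭.comap (algebraMap Q (Rm 𝔪)) := hb𝔭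
  haveI : (𝔭.comap (algebraMap Q (Rm 𝔪))).IsPrime := Ideal.comap_isPrime _ _
  have hmax := isMaximal_of_mem hdim b hb _ h1
  have hle : 𝔭.comap (algebraMap Q (Rm 𝔪)) ≤ 𝔪.asIdeal := by
    have h2 := Ideal.comap_mono (f := algebraMap Q (Rm 𝔪)) (IsLocalRing.le_maximalIdeal h𝔭.ne_top)
    have h3 : (maximalIdeal (Rm 𝔪)).comap (algebraMap Q (Rm 𝔪)) = 𝔪.asIdeal :=
      IsLocalization.AtPrime.under_maximalIdeal (Rm 𝔪) 𝔪.asIdeal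
    rwa [h3] at h2
  have heq : 𝔭.comap (algebraMap Q (Rm 𝔪)) = 𝔪.asIdeal := hmax.eq_of_le 𝔪.isPrime.ne_top hle
  have h4 : Ideal.map (algebraMap Q (Rm 𝔪)) (𝔭.comap (algebraMap Q (Rm 𝔪))) = 𝔭 :=
    IsLocalization.map_under 𝔪.asIdeal.primeCompl (Rm 𝔪) 𝔭
  rw [heq, Localization.AtPrime.map_eq_maximalIdeal] at h4
  exact h4.symm

variable {S : Type u} [CommRing S] [Algebra Q S]

/-- the localisation of `S` at a prime of `Q` -/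
abbrev Sm (S : Type u) [CommRing S] [Algebra Q S] (𝔪 : PrimeSpectrum Q) : Type u :=
  Localization (Algebra.algebraMapSubmonoid S 𝔪.asIdeal.primeCompl)

theorem isLocalization_away_Sm (b : Q) [IsLocalization.Away b S] (𝔪 : PrimeSpectrum Q) :
    IsLocalization.Away (algebraMap Q (Rm 𝔪) b) (Sm S 𝔪) := by
  have h := IsLocalization.commutes (R := Q) (Rm 𝔪) S (Sm S 𝔪) 𝔪.asIdeal.primeCompl
    (Submonoid.powers b)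
  rw [Algebra.algebraMapSubmonoid_powers] at h
  exact h

theorem range_sup_range_Sm {C : Type*} [CommRing C] (ψ : C →+* S)
    (hgen : (algebraMap Q S).range ⊔ ψ.range = ⊤) (𝔪 : PrimeSpectrum Q) :
    (algebraMap (Rm 𝔪) (Sm S 𝔪)).range ⊔ ((algebraMap S (Sm S 𝔪)).comp ψ).range = ⊤ := by
  have h1 : (algebraMap S (Sm S 𝔪)).range ≤
      (algebraMap (Rm 𝔪) (Sm S 𝔪)).range ⊔ ((algebraMap S (Sm S 𝔪)).comp ψ).range := by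
    have h2 : (algebraMap S (Sm S 𝔪)).range = (⊤ : Subring S).map (algebraMap S (Sm S 𝔪)) := by
      rw [← RingHom.range_eq_map]
    rw [h2, ← hgen, Subring.map_sup, RingHom.map_range, RingHom.map_range]
    refine sup_le_sup_right ?_ _
    rintro _ ⟨q, rfl⟩
    refine ⟨algebraMap Q (Rm 𝔪) q, ?_⟩
    rw [RingHom.comp_apply, ← IsScalarTower.algebraMap_apply, ← IsScalarTower.algebraMap_apply]
  rw [eq_top_iff]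
  intro s' _
  obtain ⟨⟨s, ⟨_, m, hm, rfl⟩⟩, hs⟩ :=
    IsLocalization.surj (Algebra.algebraMapSubmonoid S 𝔪.asIdeal.primeCompl) s'
  have hu : IsUnit (algebraMap Q (Rm 𝔪) m) := IsLocalization.map_units (Rm 𝔪) ⟨m, hm⟩
  obtain ⟨v, hv⟩ := hu.exists_right_inv
  have h3 : algebraMap S (Sm S 𝔪) (algebraMap Q S m) = algebraMap (Rm 𝔪) (Sm S 𝔪) (algebraMap Q (Rm 𝔪) m) := by
    rw [← IsScalarTower.algebraMap_apply, ← IsScalarTower.algebraMap_apply]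
  have h4 : s' = algebraMap S (Sm S 𝔪) s * algebraMap (Rm 𝔪) (Sm S 𝔪) v := by
    have h5 : s' * algebraMap S (Sm S 𝔪) (algebraMap Q S m) = algebraMap S (Sm S 𝔪) s := hs
    rw [← h5, h3, mul_assoc, ← map_mul, hv, map_one, mul_one]
  rw [h4]
  exact Subring.mul_mem _ (h1 ⟨s, rfl⟩) ((le_sup_left : (algebraMap (Rm 𝔪) (Sm S 𝔪)).range ≤ _) ⟨v, rfl⟩)

/-- descending the local relation to `S` -/
theorem exists_of_local {C : Type*} [CommRing C] (ψ : C →+* S) (𝔪 : PrimeSpectrum Q) (x : C) (M : ℕ)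
    (a : Rm 𝔪) (ha : a ∈ maximalIdeal (Rm 𝔪))
    (h : (algebraMap S (Sm S 𝔪) (ψ x)) ^ M * algebraMap (Rm 𝔪) (Sm S 𝔪) a = 1) :
    ∃ q u : Q, q ∈ 𝔪.asIdeal ∧ u ∉ 𝔪.asIdeal ∧ algebraMap Q S q * ψ x ^ M = algebraMap Q S u := by
  obtain ⟨q₀, u₀, rfl⟩ := IsLocalization.exists_mk'_eq 𝔪.asIdeal.primeCompl a
  have hq₀ : q₀ ∈ 𝔪.asIdeal := (IsLocalization.AtPrime.mk'_mem_maximal_iff (Rm 𝔪) 𝔪.asIdeal q₀ u₀).1 ha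
  have h1 : IsLocalization.mk' (Rm 𝔪) q₀ u₀ * algebraMap Q (Rm 𝔪) u₀ = algebraMap Q (Rm 𝔪) q₀ :=
    IsLocalization.mk'_spec _ _ _
  have h2 : algebraMap S (Sm S 𝔪) (algebraMap Q S q₀ * ψ x ^ M) =
      algebraMap S (Sm S 𝔪) (algebraMap Q S (u₀ : Q)) := by
    have e1 : algebraMap S (Sm S 𝔪) (algebraMap Q S q₀) =
        algebraMap (Rm 𝔪) (Sm S 𝔪) (algebraMap Q (Rm 𝔪) q₀) := by
      rw [← IsScalarTower.algebraMap_apply, ← IsScalarTower.algebraMap_apply]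
    have e2 : algebraMap S (Sm S 𝔪) (algebraMap Q S (u₀ : Q)) =
        algebraMap (Rm 𝔪) (Sm S 𝔪) (algebraMap Q (Rm 𝔪) (u₀ : Q)) := by
      rw [← IsScalarTower.algebraMap_apply, ← IsScalarTower.algebraMap_apply]
    rw [map_mul, map_pow, e1, e2, ← h1, map_mul]
    calc algebraMap (Rm 𝔪) (Sm S 𝔪) (IsLocalization.mk' (Rm 𝔪) q₀ u₀) *
          algebraMap (Rm 𝔪) (Sm S 𝔪) (algebraMap Q (Rm 𝔪) (u₀ : Q)) * algebraMap S (Sm S 𝔪) (ψ x) ^ M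
        = (algebraMap S (Sm S 𝔪) (ψ x) ^ M * algebraMap (Rm 𝔪) (Sm S 𝔪) (IsLocalization.mk' (Rm 𝔪) q₀ u₀)) *
          algebraMap (Rm 𝔪) (Sm S 𝔪) (algebraMap Q (Rm 𝔪) (u₀ : Q)) := by ring
      _ = algebraMap (Rm 𝔪) (Sm S 𝔪) (algebraMap Q (Rm 𝔪) (u₀ : Q)) := by rw [h, one_mul]
  obtain ⟨⟨_, m, hm, rfl⟩, hc⟩ :=
    IsLocalization.exists_of_eq (M := Algebra.algebraMapSubmonoid S 𝔪.asIdeal.primeCompl) h2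
  refine ⟨m * q₀, m * u₀, 𝔪.asIdeal.mul_mem_left _ hq₀, ?_, ?_⟩
  · intro hmem
    rcases 𝔪.isPrime.mem_or_mem hmem with h3 | h3
    · exact hm h3
    · exact u₀.2 h3
  · rw [map_mul, map_mul, mul_assoc]
    exact hc

end global

section combine

theorem exists_combine {Q S : Type*} [CommRing Q] [CommRing S] [Algebra Q S] (D : Finset (Ideal Q))
    (hD : ∀ 𝔪 ∈ D, 𝔪.IsMaximal) (z : S)
    (h : ∀ 𝔪 ∈ D, ∃ M : ℕ, 1 ≤ M ∧ ∃ q u : Q, q ∈ 𝔪 ∧ u ∉ 𝔪 ∧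
      algebraMap Q S q * z ^ M = algebraMap Q S u) :
    ∃ M : ℕ, 1 ≤ M ∧ ∃ q u : Q, (∀ 𝔪 ∈ D, q ∈ 𝔪 ∧ u ∉ 𝔪) ∧
      algebraMap Q S q * z ^ M = algebraMap Q S u := by
  classical
  choose! M hM q u hq hu heq using h
  -- the idempotent-like elements
  have he : ∀ 𝔪 ∈ D, ∃ e : Q, e ∉ 𝔪 ∧ ∀ 𝔫 ∈ D, 𝔫 ≠ 𝔪 → e ∈ 𝔫 := by
    intro 𝔪 h𝔪
    haveI := (hD 𝔪 h𝔪).isPrime
    have hnle : ¬ (D.erase 𝔪).inf id ≤ 𝔪 := by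
      intro hle
      obtain ⟨𝔫, h𝔫, h𝔫le⟩ := (Ideal.IsPrime.inf_le' (hD 𝔪 h𝔪).isPrime).1 hle
      have h𝔫D := Finset.mem_of_mem_erase h𝔫
      have := (hD 𝔫 h𝔫D).eq_of_le (hD 𝔪 h𝔪).ne_top h𝔫le
      exact (Finset.ne_of_mem_erase h𝔫) this
    obtain ⟨e, he1, he2⟩ := SetLike.not_le_iff_exists.1 hnle
    refine ⟨e, he2, fun 𝔫 h𝔫 hne => ?_⟩
    have : (D.erase 𝔪).inf id ≤ 𝔫 := Finset.inf_le (f := id) (Finset.mem_erase.2 ⟨hne, h𝔫⟩)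
    exact this he1
  choose! e he1 he2 using he
  set N : ℕ := ∏ 𝔪 ∈ D, M 𝔪 with hN
  set k : Ideal Q → ℕ := fun 𝔪 => ∏ 𝔫 ∈ D.erase 𝔪, M 𝔫 with hk
  have hNk : ∀ 𝔪 ∈ D, N = M 𝔪 * k 𝔪 := fun 𝔪 h𝔪 => (Finset.mul_prod_erase D M h𝔪).symm
  have hk1 : ∀ 𝔪 ∈ D, 1 ≤ k 𝔪 := fun 𝔪 _ =>
    Nat.succ_le_of_lt (Finset.prod_pos (fun 𝔫 h𝔫 => hM 𝔫 (Finset.mem_of_mem_erase h𝔫)))
  have hN1 : 1 ≤ N := Nat.succ_le_of_lt (Finset.prod_pos (fun 𝔫 h𝔫 => hM 𝔫 h𝔫))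
  have heq' : ∀ 𝔪 ∈ D, algebraMap Q S (q 𝔪 ^ k 𝔪) * z ^ N = algebraMap Q S (u 𝔪 ^ k 𝔪) := by
    intro 𝔪 h𝔪
    rw [hNk 𝔪 h𝔪, map_pow, map_pow, pow_mul, ← mul_pow, heq 𝔪 h𝔪]
  refine ⟨N, hN1, ∑ 𝔪 ∈ D, e 𝔪 * q 𝔪 ^ k 𝔪, ∑ 𝔪 ∈ D, e 𝔪 * u 𝔪 ^ k 𝔪, ?_, ?_⟩
  · intro 𝔫 h𝔫
    haveI := (hD 𝔫 h𝔫).isPrime
    constructor
    · refine Ideal.sum_mem _ (fun 𝔪 h𝔪 => ?_)
      by_cases h : 𝔪 = 𝔫
      · subst h
        exact Ideal.mul_mem_left _ _ (Ideal.pow_mem_of_mem _ (hq 𝔪 h𝔪) _ (hk1 𝔪 h𝔪))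
      · exact Ideal.mul_mem_right _ _ (he2 𝔪 h𝔪 𝔫 h𝔫 (Ne.symm h))
    · intro hmem
      rw [← Finset.add_sum_erase D _ h𝔫] at hmem
      have h2 : ∑ 𝔪 ∈ D.erase 𝔫, e 𝔪 * u 𝔪 ^ k 𝔪 ∈ 𝔫 := by
        refine Ideal.sum_mem _ (fun 𝔪 h𝔪 => ?_)
        exact Ideal.mul_mem_right _ _ (he2 𝔪 (Finset.mem_of_mem_erase h𝔪) 𝔫 h𝔫
          (Ne.symm (Finset.ne_of_mem_erase h𝔪)))
      have h3 : e 𝔫 * u 𝔫 ^ k 𝔫 ∈ 𝔫 := (Ideal.add_mem_iff_left _ h2).1 hmem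
      rcases (hD 𝔫 h𝔫).isPrime.mem_or_mem h3 with h4 | h4
      · exact he1 𝔫 h𝔫 h4
      · exact hu 𝔫 h𝔫 ((hD 𝔫 h𝔫).isPrime.mem_of_pow_mem _ h4)
  · rw [map_sum, map_sum, Finset.sum_mul]
    refine Finset.sum_congr rfl (fun 𝔪 h𝔪 => ?_)
    rw [map_mul, map_mul, mul_assoc, heq' 𝔪 h𝔪]

end combine

end Groth.Agent.Lib.Helper11.KL
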