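import Mathlib
import Groth.Agent.Lib.Helper5GlueSemilocal

set_option autoImplicit false
universe u

namespace Groth.Agent.Lib.Helper11.Places

open WithZero IsDedekindDomain Groth.Agent.Lib.Helper5.GlueDimOne

/-- **simultaneous poles**: finitely many `ℤᵐ⁰`-valued valuations on a ring, each of which takes a
value `> 1` somewhere, take a value `> 1` at a common element. -/
theorem exists_forall_one_lt {C : Type*} [CommRing C] {ι : Type*} (T : Finset ι)
    (v : ι → Valuation C ℤᵐ⁰) (h : ∀ i ∈ T, ∃ y : C, 1 < v i y) :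
    ∃ x : C, ∀ i ∈ T, 1 < v i x := by
  classical
  induction T using Finset.induction_on with
  | empty => exact ⟨1, by simp⟩
  | insert i₀ T hi₀ ih =>
    obtain ⟨x, hx⟩ := ih (fun i hi => h i (Finset.mem_insert_of_mem hi))
    obtain ⟨y, hy⟩ := h i₀ (Finset.mem_insert_self _ _)
    by_cases h1 : 1 < v i₀ x
    · refine ⟨x, fun i hi => ?_⟩
      rcases Finset.mem_insert.mp hi with rfl | hi
      · exact h1
      · exact hx i hi
    · obtain ⟨x₁, hx₁i₀, hx₁⟩ : ∃ x₁ : C, v i₀ x₁ = 1 ∧ ∀ i ∈ T, 1 < v i x₁ := by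
        rcases lt_or_eq_of_le (not_lt.mp h1) with h2 | h2
        · refine ⟨1 + x, ?_, fun i hi => ?_⟩
          · exact Valuation.map_one_add_of_lt _ h2
          · have h3 : (v i) 1 < v i x := by
              rw [Valuation.map_one]; exact hx i hi
            rw [Valuation.map_add_eq_of_lt_right _ h3]
            exact hx i hi
        · exact ⟨x, h2, hx⟩
      -- a large power of `x₁` dominates `y` at the places of `T`
      have hM : ∃ M : ℕ, 1 ≤ M ∧ ∀ i ∈ T, v i y < v i x₁ ^ M := by
        have : ∃ M : ℕ, ∀ i ∈ T, ∀ m, M ≤ m → v i y < v i x₁ ^ m := by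
          clear ih hx hi₀ h
          induction T using Finset.induction_on with
          | empty => exact ⟨0, by simp⟩
          | insert j T hj ih' =>
            obtain ⟨M₁, hM₁⟩ := ih' (fun i hi => hx₁ i (Finset.mem_insert_of_mem hi))
            have hb : 1 < v j x₁ := hx₁ j (Finset.mem_insert_self _ _)
            obtain ⟨M₂, hM₂⟩ : ∃ M₂ : ℕ, ∀ m, M₂ ≤ m → v j y < v j x₁ ^ m := by
              by_cases hy0 : v j y = 0
              · refine ⟨0, fun m _ => ?_⟩
                rw [hy0]
                exact pow_pos (lt_trans zero_lt_one hb) m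
              · obtain ⟨M, hM⟩ := exists_one_lt_mul_pow (v j y)⁻¹ (v j x₁) (inv_ne_zero hy0) hb
                refine ⟨M, fun m hm => ?_⟩
                have h4 := hM m hm
                have hpos : 0 < v j y := zero_lt_iff.mpr hy0
                calc v j y = v j y * 1 := (mul_one _).symm
                  _ < v j y * ((v j y)⁻¹ * v j x₁ ^ m) := by gcongr
                  _ = v j x₁ ^ m := by rw [← mul_assoc, mul_inv_cancel₀ hy0, one_mul]
            refine ⟨max M₁ M₂, fun i hi m hm => ?_⟩
            rcases Finset.mem_insert.mp hi with rfl | hi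
            · exact hM₂ m (le_trans (le_max_right _ _) hm)
            · exact hM₁ i hi m (le_trans (le_max_left _ _) hm)
        obtain ⟨M, hM⟩ := this
        exact ⟨M + 1, Nat.succ_pos M, fun i hi => hM i hi (M + 1) (Nat.le_succ M)⟩
      obtain ⟨M, hM1, hM⟩ := hM
      refine ⟨y + x₁ ^ M, fun i hi => ?_⟩
      rcases Finset.mem_insert.mp hi with rfl | hi
      · have h5 : v i (x₁ ^ M) < v i y := by
          rw [map_pow, hx₁i₀, one_pow]; exact hy
        rw [Valuation.map_add_eq_of_lt_left _ h5]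
        exact hy
      · have h5 : v i y < v i (x₁ ^ M) := by
          rw [map_pow]; exact hM i hi
        rw [Valuation.map_add_eq_of_lt_right _ h5, map_pow]
        exact one_lt_pow₀ (hx₁ i hi) (Nat.one_le_iff_ne_zero.1 hM1)

/-- simultaneous poles inside an ideal not contained in the support of any of the valuations. -/
theorem exists_mem_forall_one_lt {C : Type*} [CommRing C] {ι : Type*} (T : Finset ι)
    (v : ι → Valuation C ℤᵐ⁰) (h : ∀ i ∈ T, ∃ y : C, 1 < v i y) (I : Ideal C)
    (hI : ∀ i ∈ T, ∃ y ∈ I, v i y ≠ 0) : ∃ x ∈ I, ∀ i ∈ T, 1 < v i x := by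
  classical
  obtain ⟨x₀, hx₀⟩ := exists_forall_one_lt T v h
  by_cases hT : T.Nonempty
  · obtain ⟨i₁, hi₁⟩ := hT
    have havoid : ¬ ((I : Set C) ⊆ ⋃ i ∈ (↑T : Set ι), ((v i).supp : Set C)) := by
      intro hsub
      obtain ⟨i, hi, hle⟩ := (Ideal.subset_union_prime (f := fun i => (v i).supp) i₁ i₁
        (fun i _ _ _ => inferInstance)).1 hsub
      obtain ⟨y, hyI, hy⟩ := hI i hi
      exact hy ((Valuation.mem_supp_iff _ _).1 (hle hyI))
    rw [Set.not_subset] at havoid
    obtain ⟨h₀, hh₀I, hh₀⟩ := havoid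
    have hh₀' : ∀ i ∈ T, v i h₀ ≠ 0 := by
      intro i hi h0
      apply hh₀
      simp only [Set.mem_iUnion]
      exact ⟨i, hi, (Valuation.mem_supp_iff _ _).2 h0⟩
    obtain ⟨M, hM⟩ := exists_one_lt_mul_pow_finset T (fun i => v i h₀) (fun i => v i x₀) hh₀' hx₀
    refine ⟨h₀ * x₀ ^ M, I.mul_mem_right _ hh₀I, fun i hi => ?_⟩
    rw [map_mul, map_pow]
    exact hM i hi
  · rw [Finset.not_nonempty_iff_eq_empty] at hT
    subst hT
    exact ⟨0, I.zero_mem, by simp⟩

end Groth.Agent.Lib.Helper11.Places
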