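import Mathlib
import Groth.Agent.Lib.Helper5GlueSemilocal
import Groth.Agent.Lib.Helper11PlacesA

set_option autoImplicit false
universe u

namespace Groth.Agent.Lib.Helper11.Places

open WithZero IsDedekindDomain Groth.Agent.Lib.Helper5.GlueDimOne

variable {K : Type u} [Field K] (B : Subring K) [IsFractionRing B K] [IsNoetherianRing B]

/-- the integral closure of a semilocal one-dimensional Noetherian domain has finitely many
height one primes (extracted from helper5's `exists_mem_inv_mem_jacobson`). -/
theorem finite_heightOneSpectrum (hdim : ringKrullDim B = 1) [Finite (MaximalSpectrum B)] :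
    Finite (HeightOneSpectrum (integralClosure B K)) := by
  classical
  have hdim' : ringKrullDim B ≤ 1 := le_of_eq hdim
  have hBnf : ¬ IsField B := by
    intro hf
    have h0 := ringKrullDim_eq_zero_of_isField hf
    rw [hdim] at h0
    exact one_ne_zero h0
  obtain ⟨u, hu0, huj⟩ := exists_ne_zero_mem_jacobson B hBnf
  have hSD : IsDedekindDomain (integralClosure B K) := isDedekindDomain_integralClosure B hdim'
  have hinj := algebraMap_integralClosure_injective B (K := K)
  obtain ⟨uS, huS⟩ : ∃ uS : integralClosure B K, uS = algebraMap B (integralClosure B K) u :=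
    ⟨_, rfl⟩
  have huS0 : uS ≠ 0 := by
    rw [huS]
    exact fun h => hu0 (hinj (by rw [h, map_zero]))
  have hall : ∀ v : HeightOneSpectrum (integralClosure B K), v.asIdeal ∣ Ideal.span {uS} := by
    intro v
    rw [Ideal.dvd_iff_le, Ideal.span_singleton_le_iff_mem]
    have hvmax : v.asIdeal.IsMaximal := v.isMaximal
    have hmax : (v.asIdeal.comap (algebraMap B (integralClosure B K))).IsMaximal :=
      Ideal.isMaximal_comap_of_isIntegral_of_isMaximal v.asIdeal
    have h1 : u ∈ v.asIdeal.comap (algebraMap B (integralClosure B K)) := by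
      rw [Ideal.jacobson, Ideal.mem_sInf] at huj
      exact huj ⟨bot_le, hmax⟩
    rw [huS]
    exact h1
  have hfin : (Set.univ : Set (HeightOneSpectrum (integralClosure B K))).Finite := by
    have h1 := Ideal.finite_factors (I := Ideal.span {uS}) (by simpa using huS0)
    exact h1.subset (fun v _ => hall v)
  exact Set.finite_univ_iff.1 hfin

variable [IsDedekindDomain (integralClosure B K)] [IsFractionRing (integralClosure B K) K]

omit [IsFractionRing B K] [IsNoetherianRing B] in
/-- every discrete valuation of the integral closure of `B` has a pole on `A` when `A` and `B`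
generate `K`. -/
theorem exists_pole (A : Subring K) (hgen : A ⊔ B = ⊤)
    (v : HeightOneSpectrum (integralClosure B K)) : ∃ y ∈ A, 1 < v.valuation K y := by
  by_contra hcon
  push Not at hcon
  have hA : A ≤ (v.valuation K).valuationSubring.toSubring := fun a ha =>
    (Valuation.mem_valuationSubring_iff _ _).mpr (hcon a ha)
  have hB : B ≤ (v.valuation K).valuationSubring.toSubring := fun b hb => by
    have h1 := v.valuation_le_one (K := K) (algebraMap B (integralClosure B K) ⟨b, hb⟩)
    exact (Valuation.mem_valuationSubring_iff _ _).mpr h1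
  have htop : ∀ z : K, v.valuation K z ≤ 1 := fun z =>
    (Valuation.mem_valuationSubring_iff _ _).mp ((sup_le hA hB) (hgen ▸ Subring.mem_top z))
  obtain ⟨π, hπ, hπ0⟩ := Submodule.exists_mem_ne_zero_of_ne_bot v.ne_bot
  have h1 : v.valuation K (algebraMap (integralClosure B K) K π) < 1 :=
    (v.valuation_lt_one_iff_mem (K := K) π).mpr hπ
  have hπK : algebraMap (integralClosure B K) K π ≠ 0 := by
    intro h
    exact hπ0 (Subtype.ext h)
  have h2 := htop (algebraMap (integralClosure B K) K π)⁻¹
  rw [map_inv₀] at h2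
  have h3 : 1 < (v.valuation K (algebraMap (integralClosure B K) K π))⁻¹ :=
    (one_lt_inv₀ (zero_lt_iff.mpr ((Valuation.ne_zero_iff _).mpr hπK))).mpr h1
  exact absurd h2 (not_le.mpr h3)

/-- an element with a pole at every discrete valuation of the integral closure of `B` has a power
whose inverse lies in the Jacobson radical of `B`. -/
theorem exists_pow_inv_mem_jacobson (hdim : ringKrullDim B = 1) (x : K)
    (hx : ∀ v : HeightOneSpectrum (integralClosure B K), 1 < v.valuation K x) :
    ∃ m : ℕ, 1 ≤ m ∧ ∃ h : (x ^ m)⁻¹ ∈ B, (⟨(x ^ m)⁻¹, h⟩ : B) ∈ Ideal.jacobson (⊥ : Ideal B) := by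
  classical
  have hdim' : ringKrullDim B ≤ 1 := le_of_eq hdim
  have hBnf : ¬ IsField B := by
    intro hf
    have h0 := ringKrullDim_eq_zero_of_isField hf
    rw [hdim] at h0
    exact one_ne_zero h0
  have hinj := algebraMap_integralClosure_injective B (K := K)
  have hSnf : ¬ IsField (integralClosure B K) := fun hf =>
    hBnf (isField_of_isIntegral_of_isField hinj hf)
  have hy : ∀ v : HeightOneSpectrum (integralClosure B K), v.valuation K x⁻¹ < 1 := by
    intro v
    rw [map_inv₀]
    exact inv_lt_one_of_one_lt₀ (hx v)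
  obtain ⟨σ, hσ⟩ := HeightOneSpectrum.mem_integers_of_valuation_le_one K x⁻¹
    (fun v => (hy v).le)
  have hσK : (σ : K) = x⁻¹ := hσ
  have hσmem : ∀ v : HeightOneSpectrum (integralClosure B K), σ ∈ v.asIdeal := fun v =>
    (v.valuation_lt_one_iff_mem (K := K) σ).mp (by have h1 := hy v; rw [← hσ] at h1; exact h1)
  have hσmax : ∀ J : Ideal (integralClosure B K), J.IsMaximal → σ ∈ J := fun J hJ =>
    hσmem ⟨J, hJ.isPrime, Ring.ne_bot_of_isMaximal_of_not_isField hJ hSnf⟩
  have hσj : σ ∈ Ideal.jacobson (⊥ : Ideal (integralClosure B K)) := by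
    rw [Ideal.jacobson, Ideal.mem_sInf]
    rintro J ⟨-, hJ⟩
    exact hσmax J hJ
  obtain ⟨m, hm1, hmB⟩ := exists_pow_mem_of_mem_jacobson_integralClosure B hdim' hσj
  rw [hσK] at hmB
  have hmB' : (x ^ m)⁻¹ ∈ B := by rw [← inv_pow]; exact hmB
  refine ⟨m, hm1, hmB', ?_⟩
  exact mem_jacobson_of_eq_pow B hσmax hm1 ⟨(x ^ m)⁻¹, hmB'⟩ (by rw [hσK, inv_pow])

end Groth.Agent.Lib.Helper11.Places
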