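import Mathlib
import Groth.Agent.Lib.Helper11PlacesB

set_option autoImplicit false
universe u

namespace Groth.Agent.Lib.Helper11.Places

open WithZero IsDedekindDomain Groth.Agent.Lib.Helper5.GlueDimOne

/-- **the places lemma.**  Let `C` be a ring mapping to finitely many fields `K j`, each the
fraction field of a semilocal one-dimensional Noetherian domain `B j ⊆ K j` which together with
the image of `C` generates `K j`.  Then inside any ideal `I` of `C` with non-zero image in every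
`K j` there is an element `x` whose image in every `K j` is invertible with inverse in the
Jacobson radical of `B j`. -/
theorem exists_mem_inv_mem_jacobson {C : Type*} [CommRing C] {J : Type*} [Finite J]
    (K : J → Type u) [∀ j, Field (K j)] (B : ∀ j, Subring (K j))
    [∀ j, IsFractionRing (B j) (K j)] [∀ j, IsNoetherianRing (B j)]
    (hdim : ∀ j, ringKrullDim (B j) = 1) [∀ j, Finite (MaximalSpectrum (B j))]
    (θ : ∀ j, C →+* K j) (hgen : ∀ j, (θ j).range ⊔ B j = ⊤)
    (I : Ideal C) (hI : ∀ j, ∃ y ∈ I, θ j y ≠ 0) :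
    ∃ x ∈ I, ∀ j, θ j x ≠ 0 ∧
      ∃ h : (θ j x)⁻¹ ∈ B j, (⟨(θ j x)⁻¹, h⟩ : B j) ∈ Ideal.jacobson (⊥ : Ideal (B j)) := by
  classical
  haveI := Fintype.ofFinite J
  haveI hSD : ∀ j, IsDedekindDomain (integralClosure (B j) (K j)) := fun j =>
    isDedekindDomain_integralClosure (B j) (hdim j).le
  haveI hSF : ∀ j, IsFractionRing (integralClosure (B j) (K j)) (K j) := fun j =>
    isFractionRing_integralClosure (B j)
  haveI hfin : ∀ j, Finite (HeightOneSpectrum (integralClosure (B j) (K j))) := fun j =>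
    finite_heightOneSpectrum (B j) (hdim j)
  let ι := Σ j : J, HeightOneSpectrum (integralClosure (B j) (K j))
  haveI : Finite ι := inferInstance
  haveI := Fintype.ofFinite ι
  let v : ι → Valuation C ℤᵐ⁰ := fun p => (p.2.valuation (K p.1)).comap (θ p.1)
  have hv : ∀ (p : ι) (c : C), v p c = p.2.valuation (K p.1) (θ p.1 c) := fun p c => rfl
  have hpole : ∀ p ∈ (Finset.univ : Finset ι), ∃ y : C, 1 < v p y := by
    rintro ⟨j, w⟩ -
    obtain ⟨y, ⟨c, rfl⟩, hy⟩ := exists_pole (B j) (θ j).range (hgen j) w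
    exact ⟨c, hy⟩
  have hI' : ∀ p ∈ (Finset.univ : Finset ι), ∃ y ∈ I, v p y ≠ 0 := by
    rintro ⟨j, w⟩ -
    obtain ⟨y, hyI, hy⟩ := hI j
    refine ⟨y, hyI, ?_⟩
    rw [hv]
    exact (Valuation.ne_zero_iff _).mpr hy
  obtain ⟨x, hxI, hx⟩ := exists_mem_forall_one_lt Finset.univ v hpole I hI'
  have hxj : ∀ j, ∀ w : HeightOneSpectrum (integralClosure (B j) (K j)),
      1 < w.valuation (K j) (θ j x) := fun j w => hx ⟨j, w⟩ (Finset.mem_univ _)
  have hm : ∀ j, ∃ m : ℕ, 1 ≤ m ∧ ∃ h : ((θ j x) ^ m)⁻¹ ∈ B j,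
      (⟨((θ j x) ^ m)⁻¹, h⟩ : B j) ∈ Ideal.jacobson (⊥ : Ideal (B j)) := fun j =>
    exists_pow_inv_mem_jacobson (B j) (hdim j) (θ j x) (hxj j)
  choose m hm1 hmB hmj using hm
  have hx0 : ∀ j, θ j x ≠ 0 := by
    intro j h0
    have h1 := hmB j
    have h2 := hmj j
    have hz : (⟨((θ j x) ^ m j)⁻¹, hmB j⟩ : B j) = 0 := by
      apply Subtype.ext
      change ((θ j x) ^ m j)⁻¹ = 0
      rw [h0, zero_pow (Nat.one_le_iff_ne_zero.1 (hm1 j)), inv_zero]
    -- then `1 < v(0)`, impossible; use a valuation: there is at least one since `B j` is not a field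
    have hBnf : ¬ IsField (B j) := by
      intro hf
      have h3 := ringKrullDim_eq_zero_of_isField hf
      rw [hdim j] at h3
      exact one_ne_zero h3
    have hinj := algebraMap_integralClosure_injective (B j) (K := K j)
    have hSnf : ¬ IsField (integralClosure (B j) (K j)) := fun hf =>
      hBnf (isField_of_isIntegral_of_isField hinj hf)
    obtain ⟨P, hP⟩ := Ideal.exists_maximal (integralClosure (B j) (K j))
    have hPne : P ≠ ⊥ := Ring.ne_bot_of_isMaximal_of_not_isField hP hSnf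
    have h4 := hxj j ⟨P, hP.isPrime, hPne⟩
    rw [h0, map_zero] at h4
    exact absurd h4 (by simp)
  have hprodpos : 0 < ∏ j, m j := Finset.prod_pos (fun j _ => hm1 j)
  refine ⟨x ^ (∏ j, m j), I.pow_mem_of_mem hxI _ hprodpos, fun j => ?_⟩
  have hsplit : (∏ i, m i) = m j * ∏ i ∈ Finset.univ.erase j, m i :=
    (Finset.mul_prod_erase Finset.univ m (Finset.mem_univ j)).symm
  have hk1 : 1 ≤ ∏ i ∈ Finset.univ.erase j, m i :=
    Nat.succ_le_of_lt (Finset.prod_pos (fun i _ => hm1 i))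
  have heq : (θ j (x ^ (∏ i, m i)))⁻¹ =
      (((θ j x) ^ m j)⁻¹) ^ (∏ i ∈ Finset.univ.erase j, m i) := by
    rw [map_pow, hsplit, pow_mul, inv_pow]
  refine ⟨?_, ?_, ?_⟩
  · rw [map_pow]
    exact pow_ne_zero _ (hx0 j)
  · rw [heq]
    exact (B j).pow_mem (hmB j) _
  · have h5 : (⟨((θ j x) ^ m j)⁻¹, hmB j⟩ : B j) ^ (∏ i ∈ Finset.univ.erase j, m i) ∈
        Ideal.jacobson (⊥ : Ideal (B j)) :=
      Ideal.pow_mem_of_mem _ (hmj j) _ hk1
    convert h5 using 1
    apply Subtype.ext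
    change (θ j (x ^ (∏ i, m i)))⁻¹ = _
    rw [heq]
    rfl

end Groth.Agent.Lib.Helper11.Places
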