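import Mathlib
import Groth.Agent.Lib.Helper11KLD
import Groth.Agent.Lib.Helper11PlacesC

set_option autoImplicit false
universe u

namespace Groth.Agent.Lib.Helper11.KL

open IsLocalRing

theorem finite_maximalSpectrum_range {R : Type*} [CommRing R] [IsLocalRing R] {K : Type*} [Field K]
    (ρ : R →+* K) : Finite (MaximalSpectrum ρ.range) := by
  haveI : IsLocalRing ρ.range := isLocalRing_range ρ
  exact Finite.of_subsingleton

/-- **the ring-theoretic core of the existence of ample invertible modules on curves.** -/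
theorem kl_ring {Q S : Type u} [CommRing Q] [CommRing S] [Algebra Q S] [IsNoetherianRing Q]
    (hdim : ringKrullDim Q ≤ 1) (b : Q) [IsLocalization.Away b S]
    (hb : ∀ 𝔓 ∈ minimalPrimes Q, b ∉ 𝔓)
    {C : Type*} [CommRing C] (ψ : C →+* S) (hgen : (algebraMap Q S).range ⊔ ψ.range = ⊤)
    (I : Ideal C) (hI : ∀ 𝔓' : Ideal S, 𝔓'.IsPrime → ∃ y ∈ I, ψ y ∉ 𝔓') :
    ∃ x ∈ I, ∃ q u : Q, (∀ 𝔪 : Ideal Q, 𝔪.IsPrime → b ∈ 𝔪 → q ∈ 𝔪 ∧ u ∉ 𝔪) ∧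
      algebraMap Q S q * ψ x = algebraMap Q S u := by
  classical
  have hDfin := finite_primes_mem hdim b hb
  let ι₁ : Type u := {𝔪 : PrimeSpectrum Q // b ∈ 𝔪.asIdeal}
  haveI : Finite ι₁ := hDfin.to_subtype
  haveI hNR : ∀ 𝔪 : ι₁, IsNoetherianRing (Rm 𝔪.1) := fun 𝔪 =>
    IsLocalization.isNoetherianRing 𝔪.1.asIdeal.primeCompl _ inferInstance
  haveI haw : ∀ 𝔪 : ι₁, IsLocalization.Away (algebraMap Q (Rm 𝔪.1) b) (Sm S 𝔪.1) := fun 𝔪 =>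
    isLocalization_away_Sm b 𝔪.1
  haveI hNS : ∀ 𝔪 : ι₁, IsNoetherianRing (Sm S 𝔪.1) := fun 𝔪 =>
    IsLocalization.isNoetherianRing (Submonoid.powers (algebraMap Q (Rm 𝔪.1) b)) _ inferInstance
  let ι₂ : ι₁ → Type u := fun 𝔪 =>
    {p : PrimeSpectrum (Sm S 𝔪.1) // p.asIdeal ∈ minimalPrimes (Sm S 𝔪.1)}
  haveI : ∀ 𝔪, Finite (ι₂ 𝔪) := fun 𝔪 => by
    have hfin : (minimalPrimes (Sm S 𝔪.1)).Finite := minimalPrimes.finite_of_isNoetherianRing _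
    have : {p : PrimeSpectrum (Sm S 𝔪.1) | p.asIdeal ∈ minimalPrimes (Sm S 𝔪.1)}.Finite := by
      refine hfin.preimage (f := PrimeSpectrum.asIdeal) ?_
      intro p _ q _ hpq
      exact PrimeSpectrum.ext hpq
    exact this.to_subtype
  let J : Type u := Σ 𝔪 : ι₁, ι₂ 𝔪
  haveI : Finite J := inferInstance
  let K : J → Type u := fun j => PlaceK j.2.1
  let B : ∀ j : J, Subring (K j) := fun j => (rho (R := Rm j.1.1) j.2.1).range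
  let θ₀ : ∀ 𝔪 : ι₁, C →+* Sm S 𝔪.1 := fun 𝔪 => (algebraMap S (Sm S 𝔪.1)).comp ψ
  let θ : ∀ j : J, C →+* K j := fun j => (kap j.2.1).comp (θ₀ j.1)
  have htm : ∀ 𝔪 : ι₁, algebraMap Q (Rm 𝔪.1) b ∈ maximalIdeal (Rm 𝔪.1) := fun 𝔪 =>
    algebraMap_mem_maximalIdeal b 𝔪.1 𝔪.2
  haveI hBF : ∀ j : J, IsFractionRing (B j) (K j) := fun j =>
    isFractionRing_place (algebraMap Q (Rm j.1.1) b) j.2.1
  haveI hBN : ∀ j : J, IsNoetherianRing (B j) := fun j => by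
    change IsNoetherianRing (rho (R := Rm j.1.1) j.2.1).range
    infer_instance
  have hBdim : ∀ j : J, ringKrullDim (B j) = 1 := fun j =>
    ringKrullDim_place (ringKrullDim_Rm_le hdim j.1.1) (algebraMap Q (Rm j.1.1) b) (htm j.1) j.2.1
  haveI hBfin : ∀ j : J, Finite (MaximalSpectrum (B j)) := fun j => by
    exact finite_maximalSpectrum_range (rho (R := Rm j.1.1) j.2.1)
  have hBgen : ∀ j : J, (θ j).range ⊔ B j = ⊤ := fun j =>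
    range_sup_range_eq_top (ringKrullDim_Rm_le hdim j.1.1) (algebraMap Q (Rm j.1.1) b) (htm j.1)
      (θ₀ j.1) (range_sup_range_Sm ψ hgen j.1.1) j.2.1
  have hBI : ∀ j : J, ∃ y ∈ I, θ j y ≠ 0 := fun j => by
    have hprime : (RingHom.ker ((kap j.2.1).comp (algebraMap S (Sm S j.1.1)))).IsPrime :=
      RingHom.ker_isPrime _
    obtain ⟨y, hy, hy'⟩ := hI _ hprime
    exact ⟨y, hy, hy'⟩
  obtain ⟨x, hxI, hx⟩ := Groth.Agent.Lib.Helper11.Places.exists_mem_inv_mem_jacobson K B hBdim θ hBgen I hBI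
  -- the local relations
  have hloc : ∀ 𝔪 : ι₁, ∃ M : ℕ, 1 ≤ M ∧ ∃ q u : Q, q ∈ 𝔪.1.asIdeal ∧ u ∉ 𝔪.1.asIdeal ∧
      algebraMap Q S q * ψ x ^ M = algebraMap Q S u := by
    intro 𝔪
    obtain ⟨M, hM, a, ha, h⟩ := exists_pow_mul_eq_one_of_places (R := Rm 𝔪.1) (S' := Sm S 𝔪.1)
      (algebraMap Q (Rm 𝔪.1) b) (eq_maximalIdeal_of_mem hdim b hb 𝔪.1)
      (algebraMap S (Sm S 𝔪.1) (ψ x)) (fun p hp => hx ⟨𝔪, ⟨p, hp⟩⟩)
    obtain ⟨q, u, hq, hu, he⟩ := exists_of_local ψ 𝔪.1 x M a ha h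
    exact ⟨M, hM, q, u, hq, hu, he⟩
  obtain ⟨M, hM, q, u, hqu, he⟩ := exists_combine (hDfin.toFinset.image PrimeSpectrum.asIdeal)
    (by
      intro 𝔪 h𝔪
      obtain ⟨p, hp, rfl⟩ := Finset.mem_image.1 h𝔪
      exact isMaximal_of_mem hdim b hb p.asIdeal (hDfin.mem_toFinset.1 hp)) (ψ x)
    (by
      intro 𝔪 h𝔪
      obtain ⟨p, hp, rfl⟩ := Finset.mem_image.1 h𝔪
      exact hloc ⟨p, hDfin.mem_toFinset.1 hp⟩)
  refine ⟨x ^ M, I.pow_mem_of_mem hxI M (Nat.lt_of_lt_of_le Nat.zero_lt_one hM), q, u, ?_, ?_⟩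
  · intro 𝔪 h𝔪 hb𝔪
    exact hqu 𝔪 (Finset.mem_image.2 ⟨⟨𝔪, h𝔪⟩, hDfin.mem_toFinset.2 hb𝔪, rfl⟩)
  · rw [map_pow]
    exact he

end Groth.Agent.Lib.Helper11.KL
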