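import Mathlib
import Groth.Prelude
import Groth.Agent.Lib.Helper23ClPic
set_option backward.isDefEq.respectTransparency.types false

/-!
# Pic is surjective along closed immersions into Noetherian spaces of dimension ≤ 1 (helper23)

Namespace `Groth.Agent.Lib.Helper23.ClPic`.
-/

set_option autoImplicit false
universe u
open CategoryTheory Limits AlgebraicGeometry TopologicalSpace Opposite

namespace Groth.Agent.Lib.Helper23.ClPic
open Groth.Agent.Lib.Helper23.SecTw Groth.Agent.Lib.Helper6 Groth.Agent.Lib.Helper23.PB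
  Groth.Agent.Helper13PullbackUnit Groth.Agent.Lib.Helper23.GenLocus Groth.Agent.Lib.Helper23.Extend
  Groth.Agent.Lib.Helper23.GenNear Groth.Agent.Lib.Helper23.FinPic

section topology
variable {X : Type*} [TopologicalSpace X]

/-- in a `T₀` space of Krull dimension `≤ 1` there is no chain of two proper specializations -/
theorem no_chain [T0Space X] (hdim : topologicalKrullDim X ≤ 1) {a b c : X} (hab : a ⤳ b) (hbc : b ⤳ c)
    (h1 : a ≠ b) (h2 : b ≠ c) : False := by
  let A : IrreducibleCloseds X := ⟨closure {a}, isIrreducible_singleton.closure, isClosed_closure⟩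
  let B : IrreducibleCloseds X := ⟨closure {b}, isIrreducible_singleton.closure, isClosed_closure⟩
  let C : IrreducibleCloseds X := ⟨closure {c}, isIrreducible_singleton.closure, isClosed_closure⟩
  have hBA : B < A := by
    refine lt_of_le_of_ne ?_ ?_
    · change closure {b} ⊆ closure {a}
      exact specializes_iff_closure_subset.1 hab
    · intro h
      have h3 : closure {b} = closure {a} := congrArg (fun t : IrreducibleCloseds X => (t : Set X)) h
      have h4 : b ⤳ a := specializes_iff_closure_subset.2 h3.ge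
      exact h1 (hab.antisymm h4).eq
  have hCB : C < B := by
    refine lt_of_le_of_ne ?_ ?_
    · change closure {c} ⊆ closure {b}
      exact specializes_iff_closure_subset.1 hbc
    · intro h
      have h3 : closure {c} = closure {b} := congrArg (fun t : IrreducibleCloseds X => (t : Set X)) h
      have h4 : c ⤳ b := specializes_iff_closure_subset.2 h3.ge
      exact h2 (hbc.antisymm h4).eq
  rcases (Order.krullDim_le_one_iff.1 hdim) B with h | h
  · exact (h hCB.le).not_gt hCB
  · exact (h hBA.le).not_gt hBA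

/-- in a Noetherian quasi-sober space, an open set containing all proper generizations of a closed point `p`
contains a punctured neighbourhood of `p` -/
theorem exists_punctured_nhd [NoetherianSpace X] [QuasiSober X] {p : X} (hp : IsClosed ({p} : Set X))
    (D : Set X) (hD : IsOpen D) (hgen : ∀ ξ, ξ ⤳ p → ξ ≠ p → ξ ∈ D) :
    ∃ A : Set X, IsOpen A ∧ p ∈ A ∧ ∀ w ∈ A, w ≠ p → w ∈ D := by
  classical
  obtain ⟨S, hSf, hSc, hSi, hSU⟩ := NoetherianSpace.exists_finite_set_isClosed_irreducible hD.isClosed_compl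
  let S' : Set (Set X) := {t ∈ S | p ∉ t}
  have hS'f : S'.Finite := hSf.subset (fun t ht => ht.1)
  have hC' : IsClosed (⋃₀ S') := by
    rw [Set.sUnion_eq_biUnion]
    exact hS'f.isClosed_biUnion (fun t ht => hSc t ht.1)
  refine ⟨(⋃₀ S')ᶜ, hC'.isOpen_compl, ?_, ?_⟩
  · rintro ⟨t, ht, hpt⟩
    exact ht.2 hpt
  · intro w hw hwp
    by_contra hwD
    have hwC : w ∈ Dᶜ := hwD
    rw [hSU] at hwC
    obtain ⟨t, ht, hwt⟩ := hwC
    have hpt : p ∈ t := by
      by_contra hpt
      exact hw ⟨t, ⟨ht, hpt⟩, hwt⟩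
    obtain ⟨c, hc⟩ := QuasiSober.sober (hSi t ht) (hSc t ht)
    have hct : c ∈ t := hc.mem
    have hcp : c ⤳ p := by
      rw [specializes_iff_mem_closure, hc.def]
      exact hpt
    by_cases hcp' : c = p
    · have h1 : t = {p} := by
        rw [← hc.def, hcp', hp.closure_eq]
      rw [h1] at hwt
      exact hwp hwt
    · have h1 : c ∈ D := hgen c hcp hcp'
      have h2 : c ∈ Dᶜ := by
        rw [hSU]
        exact ⟨t, ht, hct⟩
      exact h2 h1

/-- every point lies in the closure of a generic point of an irreducible component -/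
theorem exists_genericPoints_specializes [QuasiSober X] (w : X) : ∃ η ∈ genericPoints X, η ⤳ w := by
  let η := genericPoints.ofComponent ⟨irreducibleComponent w, irreducibleComponent_mem_irreducibleComponents w⟩
  refine ⟨η.1, η.2, ?_⟩
  have h := genericPoints.isGenericPoint_ofComponent
    ⟨irreducibleComponent w, irreducibleComponent_mem_irreducibleComponents w⟩
  rw [specializes_iff_mem_closure, h.def]
  exact mem_irreducibleComponent

theorem eq_of_specializes_genericPoints [T0Space X] {η η' : X} (hη : η ∈ genericPoints X)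
    (h : η' ⤳ η) : η' = η := by
  have h1 : closure {η} ⊆ closure {η'} := specializes_iff_closure_subset.1 h
  have h2 : closure {η'} ⊆ closure {η} := hη.2 isIrreducible_singleton.closure h1
  exact ((specializes_iff_closure_subset.2 h2).antisymm h).eq.symm

/-- a point outside the generic points is closed, in dimension `≤ 1` -/
theorem isClosed_singleton_of_notMem_genericPoints [T0Space X] [QuasiSober X] (hdim : topologicalKrullDim X ≤ 1)
    {p : X} (hp : p ∉ genericPoints X) : IsClosed ({p} : Set X) := by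
  obtain ⟨η, hη, hηp⟩ := exists_genericPoints_specializes p
  have hne : η ≠ p := fun h => hp (h ▸ hη)
  rw [← closure_subset_iff_isClosed]
  intro y hy
  have hpy : p ⤳ y := specializes_iff_mem_closure.2 hy
  by_contra hyp
  exact no_chain hdim hηp hpy hne (fun h => hyp h.symm)

/-- proper generizations of a non-generic point are generic points, in dimension `≤ 1` -/
theorem mem_genericPoints_of_specializes [T0Space X] [QuasiSober X] (hdim : topologicalKrullDim X ≤ 1)
    {p ξ : X} (h : ξ ⤳ p) (hne : ξ ≠ p) : ξ ∈ genericPoints X := by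
  obtain ⟨η, hη, hηξ⟩ := exists_genericPoints_specializes ξ
  by_cases h1 : η = ξ
  · exact h1 ▸ hη
  · exact (no_chain hdim hηξ h h1 hne).elim

end topology

section geometry
variable {Z X : Scheme.{u}} (i : Z ⟶ X) [IsClosedImmersion i] (L : Z.Modules)

theorem eq_of_le_bot {T : Z.Opens} (hT : T ≤ ⊥) (a b : Γ(L, T)) : a = b := by
  rw [eq_zero_of_le_bot L hT a, eq_zero_of_le_bot L hT b]

/-- pairwise disjoint affine neighbourhoods of the generic points carrying frames of `L` -/
theorem exists_generic_frames [NoetherianSpace X] (hL : PicF.IsInvertible L) :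
    ∃ (W : genericPoints X → X.Opens) (n : ∀ η, Γ(L, i ⁻¹ᵁ W η)), (∀ η, η.1 ∈ W η) ∧
      (∀ η, IsAffineOpen (W η)) ∧ (∀ η, IsGen L (i ⁻¹ᵁ W η) (n η)) ∧
      (∀ η η', η ≠ η' → W η ⊓ W η' = ⊥) ∧ (∀ η : genericPoints X, η.1 ∉ Set.range i → i ⁻¹ᵁ W η = ⊥) := by
  classical
  have hfin : (genericPoints X).Finite := genericPoints.finite NoetherianSpace.finite_irreducibleComponents
  have h0 : ∀ η : genericPoints X, ∃ O : X.Opens, η.1 ∈ O ∧
      (∀ η' : genericPoints X, η' ≠ η → ∀ w ∈ O, ¬ η'.1 ⤳ w) ∧ (η.1 ∉ Set.range i → ∀ w ∈ O, w ∉ Set.range i) := by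
    intro η
    have hC1 : IsClosed (⋃ η' ∈ {η' : X | η' ∈ genericPoints X ∧ η' ≠ η.1}, closure ({η'} : Set X)) :=
      (hfin.subset (fun η' h => h.1)).isClosed_biUnion (fun η' _ => isClosed_closure)
    have hC2 : IsClosed (Set.range i) := i.isClosedEmbedding.isClosed_range
    by_cases hη : η.1 ∈ Set.range i
    · refine ⟨⟨_, hC1.isOpen_compl⟩, ?_, ?_, fun h => absurd hη h⟩
      · intro h
        simp only [Set.mem_iUnion] at h
        obtain ⟨η', ⟨hη', hne⟩, h1⟩ := h
        exact hne (eq_of_specializes_genericPoints η.2 (specializes_iff_mem_closure.2 h1))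
      · intro η' hne w hw hsp
        apply hw
        simp only [Set.mem_iUnion]
        exact ⟨η'.1, ⟨η'.2, fun h => hne (Subtype.ext h)⟩, specializes_iff_mem_closure.1 hsp⟩
    · refine ⟨⟨_, hC1.isOpen_compl⟩ ⊓ ⟨_, hC2.isOpen_compl⟩, ⟨?_, hη⟩, ?_, fun _ w hw => hw.2⟩
      · intro h
        simp only [Set.mem_iUnion] at h
        obtain ⟨η', ⟨hη', hne⟩, h1⟩ := h
        exact hne (eq_of_specializes_genericPoints η.2 (specializes_iff_mem_closure.2 h1))
      · intro η' hne w hw hsp
        apply hw.1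
        simp only [Set.mem_iUnion]
        exact ⟨η'.1, ⟨η'.2, fun h => hne (Subtype.ext h)⟩, specializes_iff_mem_closure.1 hsp⟩
  choose O hηO hO1 hO2 using h0
  have h1 : ∀ η : genericPoints X, ∃ (W : X.Opens) (e : Γ(L, i ⁻¹ᵁ W)), η.1 ∈ W ∧ W ≤ O η ∧ IsAffineOpen W ∧
      IsGen L (i ⁻¹ᵁ W) e := fun η => exists_frames_over_of_isInvertible i L hL η.1 (O η) (hηO η)
  choose W n hηW hWO hWaff hn using h1
  refine ⟨W, n, hηW, hWaff, hn, ?_, ?_⟩
  · intro η η' hne
    rw [eq_bot_iff]
    intro w hw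
    obtain ⟨η'', hη'', hsp⟩ := exists_genericPoints_specializes w
    have e1 : (⟨η'', hη''⟩ : genericPoints X) = η := by
      by_contra h
      exact hO1 η ⟨η'', hη''⟩ h w (hWO η hw.1) hsp
    have e2 : (⟨η'', hη''⟩ : genericPoints X) = η' := by
      by_contra h
      exact hO1 η' ⟨η'', hη''⟩ h w (hWO η' hw.2) hsp
    exact hne (e1.symm.trans e2)
  · intro η hη
    rw [eq_bot_iff]
    intro z hz
    exact hO2 η hη (i z) (hWO η hz) ⟨z, rfl⟩

/-- lifting the transition unit near a generic point -/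
theorem exists_lift_unit {A₁ : X.Opens} (hA₁ : IsAffineOpen A₁) (m : Γ(L, i ⁻¹ᵁ A₁)) (hm : IsGen L (i ⁻¹ᵁ A₁) m)
    {W : X.Opens} (n : Γ(L, i ⁻¹ᵁ W)) (hn : IsGen L (i ⁻¹ᵁ W) n) (η : X) (hηW : η ∈ W)
    (hZ : η ∉ Set.range i → i ⁻¹ᵁ W = ⊥) :
    ∃ (D : X.Opens) (u : (Γ(X, D))ˣ) (hDA : D ≤ A₁) (hDW : D ≤ W), (η ∈ A₁ → η ∈ D) ∧
      res L (i.preimage_mono hDA) m = i.app D (u : Γ(X, D)) • res L (i.preimage_mono hDW) n := by
  by_cases hηA : η ∈ A₁
  · obtain ⟨g, hgle, hηg⟩ := hA₁.exists_basicOpen_le (V := A₁ ⊓ W) ⟨η, hηA, hηW⟩ hηA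
    have hB : IsAffineOpen (X.basicOpen g) := hA₁.basicOpen g
    have hBA : X.basicOpen g ≤ A₁ := hgle.trans inf_le_left
    have hBW : X.basicOpen g ≤ W := hgle.trans inf_le_right
    by_cases hηZ : η ∈ Set.range i
    · obtain ⟨z, hz⟩ := hηZ
      have hmB := hm.mono (i.preimage_mono hBA)
      have hnB := hn.mono (i.preimage_mono hBW)
      have hcu := isUnit_coef_of_isGen hnB hmB
      have hcs := coef_spec hnB le_rfl (res L (i.preimage_mono hBA) m)
      rw [res_self] at hcs
      obtain ⟨u₀, hu₀⟩ := i.app_surjective (X.basicOpen g) hB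
        (coef hnB le_rfl (res L (i.preimage_mono hBA) m))
      have hDB : X.basicOpen u₀ ≤ X.basicOpen g := X.basicOpen_le u₀
      have hηD : η ∈ X.basicOpen u₀ := by
        have h1 : z ∈ i ⁻¹ᵁ (X.basicOpen u₀) := by
          rw [Scheme.preimage_basicOpen, hu₀, Scheme.basicOpen_of_isUnit _ hcu]
          change i z ∈ X.basicOpen g
          rw [hz]
          exact hηg
        exact hz ▸ h1
      have hu : IsUnit (resf hDB u₀) := X.toRingedSpace.isUnit_res_basicOpen u₀
      refine ⟨X.basicOpen u₀, hu.unit, hDB.trans hBA, hDB.trans hBW, fun _ => hηD, ?_⟩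
      rw [IsUnit.unit_spec, app_resf₀, hu₀]
      have h2 := congrArg (res L (i.preimage_mono hDB)) hcs
      rw [res_smul, res_res, res_res] at h2
      exact h2.symm
    · have hbot : i ⁻¹ᵁ (X.basicOpen g) ≤ ⊥ := (i.preimage_mono hBW).trans (hZ hηZ).le
      exact ⟨X.basicOpen g, 1, hBA, hBW, fun _ => hηg, eq_of_le_bot L hbot _ _⟩
  · exact ⟨⊥, 1, bot_le, bot_le, fun h => absurd h hηA, eq_of_le_bot L (fun z hz => hz) _ _⟩

/-- **`Pic X → Pic Z` is surjective** for a closed immersion `Z → X` into a scheme whose space is Noetherian of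
dimension `≤ 1` -/
theorem exists_pullback_iso_of_isClosedImmersion [NoetherianSpace X] (hdim : topologicalKrullDim X ≤ 1)
    (hL : PicF.IsInvertible L) :
    ∃ N : X.Modules, PicF.IsInvertible N ∧ Nonempty ((Scheme.Modules.pullback i).obj N ≅ L) := by
  classical
  obtain ⟨W, n, hηW, hWaff, hn, hdisj, hZ⟩ := exists_generic_frames i L hL
  refine exists_pullback_iso_of_virtual_frame i L W n (fun x => ?_)
  by_cases hx : x ∈ iSup W
  · obtain ⟨η, hxη⟩ := Opens.mem_iSup.1 hx
    refine ⟨W η, n η, 1, hxη, hWaff η, fun w hw _ => Opens.mem_iSup.2 ⟨η, hw⟩, hn η, fun η' => ?_⟩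
    by_cases hηη' : η = η'
    · subst hηη'
      have e0 : resf (inf_le_inf_left (W η) (le_iSup W η)) (1 : Γ(X, W η ⊓ iSup W)) = 1 := map_one _
      rw [Units.val_one, e0, map_one, one_smul]
    · exact eq_of_le_bot L ((i.preimage_mono (hdisj η η' hηη').le).trans (fun z hz => hz)) _ _
  · have hxG : x ∉ genericPoints X := fun h => hx (Opens.mem_iSup.2 ⟨⟨x, h⟩, hηW ⟨x, h⟩⟩)
    have hxcl : IsClosed ({x} : Set X) := isClosed_singleton_of_notMem_genericPoints hdim hxG
    obtain ⟨A₁, m₁, hxA₁, -, hA₁, hm₁⟩ := exists_frames_over_of_isInvertible i L hL x ⊤ trivial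
    have h3 : ∀ η : genericPoints X, ∃ (D : X.Opens) (u : (Γ(X, D))ˣ) (hDA : D ≤ A₁) (hDW : D ≤ W η),
        (η.1 ∈ A₁ → η.1 ∈ D) ∧
        res L (i.preimage_mono hDA) m₁ = i.app D (u : Γ(X, D)) • res L (i.preimage_mono hDW) (n η) :=
      fun η => exists_lift_unit i L hA₁ m₁ hm₁ (n η) (hn η) η.1 (hηW η) (hZ η)
    choose D u hDA hDW hηD hrel using h3
    obtain ⟨A', hA'o, hxA', hA'D⟩ := exists_punctured_nhd hxcl ((⨆ η, D η : X.Opens) : Set X)
      (⨆ η, D η : X.Opens).isOpen (by
        intro ξ hξ hne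
        have hξG : ξ ∈ genericPoints X := mem_genericPoints_of_specializes hdim hξ hne
        have hξA : ξ ∈ A₁ := hξ.mem_open A₁.isOpen hxA₁
        exact Opens.mem_iSup.2 ⟨⟨ξ, hξG⟩, hηD ⟨ξ, hξG⟩ hξA⟩)
    obtain ⟨_, ⟨A, hA, rfl⟩, hxA, hAle⟩ := X.isBasis_affineOpens.exists_subset_of_mem_open
      (show x ∈ ((⟨A', hA'o⟩ : X.Opens) ⊓ A₁ : X.Opens) from ⟨hxA', hxA₁⟩) ((⟨A', hA'o⟩ : X.Opens) ⊓ A₁).isOpen
    have hAA₁ : A ≤ A₁ := fun w hw => (hAle hw).2
    have hAW : ∀ η, A ⊓ W η ≤ D η := by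
      intro η w hw
      have hwx : w ≠ x := fun h => hx (Opens.mem_iSup.2 ⟨η, h ▸ hw.2⟩)
      have h1 : w ∈ (⨆ η, D η : X.Opens) := hA'D w (hAle hw.1).1 hwx
      obtain ⟨η', hη'⟩ := Opens.mem_iSup.1 h1
      by_cases hηη' : η = η'
      · exact hηη' ▸ hη'
      · have : w ∈ (⊥ : X.Opens) := (hdisj η η' hηη') ▸ (⟨hw.2, hDW η' hη'⟩ : w ∈ W η ⊓ W η')
        exact this.elim
    obtain ⟨τ, hτ⟩ := exists_glue_units (fun η => A ⊓ W η) (A ⊓ iSup W)
      (fun η => inf_le_inf_left A (le_iSup W η))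
      (by
        intro w hw
        obtain ⟨η, hη⟩ := Opens.mem_iSup.1 hw.2
        exact Opens.mem_iSup.2 ⟨η, hw.1, hη⟩)
      (by
        intro η η' hne
        rw [eq_bot_iff]
        exact (inf_le_inf inf_le_right inf_le_right).trans (hdisj η η' hne).le)
      (fun η => resu (hAW η) (u η))
    refine ⟨A, res L (i.preimage_mono hAA₁) m₁, τ, hxA, hA, ?_, hm₁.mono (i.preimage_mono hAA₁), fun η => ?_⟩
    · intro w hw hwx
      have h1 : w ∈ (⨆ η, D η : X.Opens) := hA'D w (hAle hw).1 hwx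
      obtain ⟨η', hη'⟩ := Opens.mem_iSup.1 h1
      exact Opens.mem_iSup.2 ⟨η', hDW η' hη'⟩
    · have e1 := congrArg (res L (i.preimage_mono (hAW η))) (hrel η)
      rw [res_res, res_smul, res_res, ← app_resf₀] at e1
      have e2 := congrArg (fun t : (Γ(X, A ⊓ W η))ˣ => (t : Γ(X, A ⊓ W η))) (hτ η)
      simp only [coe_resu] at e2
      rw [res_res, e2]
      exact e1

end geometry

end Groth.Agent.Lib.Helper23.ClPic
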