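import Mathlib
import Groth.Prelude
import Groth.Agent.Lib.Helper23ClPic2
set_option backward.isDefEq.respectTransparency.types false

/-!
# Pic is surjective along finite morphisms which are closed immersions over a dense open, in dimension ≤ 1 (helper23)

Namespace `Groth.Agent.Lib.Helper23.ClPic`.
-/

set_option autoImplicit false
universe u
open CategoryTheory Limits AlgebraicGeometry TopologicalSpace Opposite

namespace Groth.Agent.Lib.Helper23.ClPic
open Groth.Agent.Lib.Helper23.SecTw Groth.Agent.Lib.Helper6 Groth.Agent.Lib.Helper23.PB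
  Groth.Agent.Helper13PullbackUnit Groth.Agent.Lib.Helper23.GenLocus Groth.Agent.Lib.Helper23.Extend
  Groth.Agent.Lib.Helper23.GenNear Groth.Agent.Lib.Helper23.FinPic

section topology
variable {X : Type*} [TopologicalSpace X]

/-- a dense open contains all generic points -/
theorem genericPoints_subset_of_dense [NoetherianSpace X] {V : Set X} (hVo : IsOpen V) (hVd : Dense V) :
    genericPoints X ⊆ V := by
  intro η hη
  obtain ⟨o, ho, hne, hoη⟩ := NoetherianSpace.exists_isOpen_nonempty_subset_irreducibleComponent _ hη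
  obtain ⟨w, hwo, hwV⟩ := hVd.inter_open_nonempty o ho hne
  have hsp : η ⤳ w := specializes_iff_mem_closure.2 (hoη hwo)
  exact hsp.mem_open hVo hwV

/-- the complement of a dense open in a Noetherian sober space of dimension `≤ 1` is discrete -/
theorem discreteTopology_compl_of_dense [NoetherianSpace X] [QuasiSober X] [T0Space X]
    (hdim : topologicalKrullDim X ≤ 1) {V : Set X} (hVo : IsOpen V) (hVd : Dense V) :
    DiscreteTopology ↥(Vᶜ) := by
  rw [discreteTopology_iff_isOpen_singleton]
  rintro ⟨p, hp⟩
  have hG := genericPoints_subset_of_dense hVo hVd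
  have hpG : p ∉ genericPoints X := fun h => hp (hG h)
  have hcl := isClosed_singleton_of_notMem_genericPoints hdim hpG
  obtain ⟨A, hAo, hpA, hA⟩ := exists_punctured_nhd hcl V hVo
    (fun ξ hξ hne => hG (mem_genericPoints_of_specializes hdim hξ hne))
  have : ({⟨p, hp⟩} : Set ↥(Vᶜ)) = Subtype.val ⁻¹' A := by
    ext ⟨w, hw⟩
    simp only [Set.mem_singleton_iff, Subtype.mk.injEq, Set.mem_preimage]
    constructor
    · rintro rfl
      exact hpA
    · intro hwA
      by_contra hne
      exact hw (hA w hwA hne)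
  rw [this]
  exact hAo.preimage continuous_subtype_val

end topology

section geometry
variable {X Y : Scheme.{u}} (f : X ⟶ Y)

theorem toImage_app_injective' [QuasiCompact f] (W : f.image.Opens) : Function.Injective (f.toImage.app W) :=
  TopCat.Presheaf.app_injective_of_stalkFunctor_map_injective (F := f.image.sheaf) f.toImage.c W
    (fun x _ => f.stalkFunctor_toImage_injective x)

theorem isIso_toImage_restrict [QuasiCompact f] (V : Y.Opens) (hfV : IsClosedImmersion (f ∣_ V)) :
    IsIso (f.toImage ∣_ (f.imageι ⁻¹ᵁ V)) := by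
  have h1 : IsClosedImmersion ((f.toImage ≫ f.imageι) ∣_ V) := by
    rw [f.toImage_imageι]
    exact hfV
  rw [morphismRestrict_comp] at h1
  haveI : IsClosedImmersion (f.toImage ∣_ (f.imageι ⁻¹ᵁ V)) :=
    @IsClosedImmersion.of_comp_isClosedImmersion _ _ _ (f.toImage ∣_ (f.imageι ⁻¹ᵁ V)) (f.imageι ∣_ V)
      inferInstance h1
  rw [IsClosedImmersion.isIso_iff_ker_eq_bot]
  apply Scheme.IdealSheafData.ext
  funext W
  rw [Scheme.ker_morphismRestrict_ideal, Scheme.Hom.ker_apply, Scheme.IdealSheafData.ideal_bot]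
  exact (RingHom.injective_iff_ker_eq_bot _).1 (toImage_app_injective' f _)

/-- **`Pic Y → Pic X` is surjective** for `f : X ⟶ Y` finite, a closed immersion over a dense open of `Y`, with `Y`
Noetherian of dimension `≤ 1` -/
theorem exists_pullback_iso_of_finite_of_dense [IsFinite f] [IsNoetherian Y] (hdim : topologicalKrullDim Y ≤ 1)
    (V : Y.Opens) (hV : Dense (V : Set Y)) (hfV : IsClosedImmersion (f ∣_ V))
    (L : X.Modules) (hL : PicF.IsInvertible L) :
    ∃ N : Y.Modules, PicF.IsInvertible N ∧ Nonempty ((Scheme.Modules.pullback f).obj N ≅ L) := by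
  haveI : IsFinite (f.toImage ≫ f.imageι) := by
    rw [f.toImage_imageι]
    infer_instance
  haveI : IsFinite f.toImage := IsFinite.of_comp f.toImage f.imageι
  have hiso := isIso_toImage_restrict f V hfV
  haveI : DiscreteTopology ↥((V : Set Y)ᶜ) := discreteTopology_compl_of_dense hdim V.isOpen hV
  have hdisc : DiscreteTopology ↥(((f.imageι ⁻¹ᵁ V : f.image.Opens) : Set f.image)ᶜ) :=
    DiscreteTopology.preimage_of_continuous_injective ((V : Set Y)ᶜ) f.imageι.continuous
      f.imageι.isClosedEmbedding.injective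
  obtain ⟨N₁, hN₁, ⟨e₁⟩⟩ := exists_pullback_iso f.toImage (f.imageι ⁻¹ᵁ V) hiso hdisc L hL
  obtain ⟨N, hN, ⟨e₂⟩⟩ := exists_pullback_iso_of_isClosedImmersion f.imageι N₁ hdim hN₁
  have key : ∃ N : Y.Modules, PicF.IsInvertible N ∧
      Nonempty ((Scheme.Modules.pullback (f.toImage ≫ f.imageι)).obj N ≅ L) :=
    ⟨N, hN, ⟨((Scheme.Modules.pullbackComp f.toImage f.imageι).app N).symm ≪≫
      (Scheme.Modules.pullback f.toImage).mapIso e₂ ≪≫ e₁⟩⟩
  rw [f.toImage_imageι] at key
  exact key

end geometry

end Groth.Agent.Lib.Helper23.ClPic
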