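import Mathlib
import Groth.Prelude
import Groth.Agent.Lib.Helper11CurveAmpleA
import Groth.Agent.Lib.Helper11CurveAmpleB
import Groth.Agent.Lib.Helper11DimOneC
import Groth.Agent.Lib.Helper23ClPic3
import Groth.Agent.Lib.Helper4FibDimL
import Groth.Agent.Lib.Helper11KLE

set_option autoImplicit false
universe u
open CategoryTheory Limits AlgebraicGeometry TopologicalSpace Opposite

namespace Groth.Agent.Lib.Helper11.CurveAmple

open Groth.Agent.Lib.Helper23.ClPic in
/-- the geometric set-up: a dense affine open `W`, an affine open `V` containing the complement of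
`W`, and an equation `b` on `V` of that complement, lying in no minimal prime -/
theorem exists_setup (X : Scheme.{u}) [IsNoetherian X] [X.IsSeparated]
    (hdim : topologicalKrullDim X ≤ 1) :
    ∃ (W V : X.Opens) (b : Γ(X, V)), IsAffineOpen W ∧ IsAffineOpen V ∧ V ⊔ W = ⊤ ∧
      X.basicOpen b = V ⊓ W ∧ (∀ 𝔓 ∈ minimalPrimes Γ(X, V), b ∉ 𝔓) := by
  classical
  have hstalk : ∀ x : X, ringKrullDim (X.presheaf.stalk x) ≤ 1 := fun x =>
    (Groth.Agent.Lib.Helper4.FibDim.ringKrullDim_stalk_le_topologicalKrullDim X x).trans hdim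
  have hGfin : (genericPoints X).Finite :=
    genericPoints.finite NoetherianSpace.finite_irreducibleComponents
  obtain ⟨W, hW, hGW⟩ := Groth.Agent.Lib.Helper11.DimOne.exists_affine_of_dim_le_one
    hGfin.toFinset (fun t _ => hstalk t)
  have hGW' : genericPoints X ⊆ (W : Set X) := fun η hη => hGW η (hGfin.mem_toFinset.2 hη)
  have hWd : Dense (W : Set X) := by
    intro x
    obtain ⟨η, hη, hsp⟩ := exists_genericPoints_specializes x
    exact closure_mono (Set.singleton_subset_iff.2 (hGW' hη)) (specializes_iff_mem_closure.1 hsp)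
  have hdisc := discreteTopology_compl_of_dense hdim W.2 hWd
  have hDfin : ((W : Set X)ᶜ).Finite :=
    (W.2.isClosed_compl.isCompact).finite (isDiscrete_iff_discreteTopology.2 hdisc)
  obtain ⟨V₁, hV₁, hDV₁⟩ := Groth.Agent.Lib.Helper11.DimOne.exists_affine_of_dim_le_one
    hDfin.toFinset (fun t _ => hstalk t)
  obtain ⟨t, g, hg1, hg2, hg3⟩ := exists_affine_cut_finset hdim hV₁ hDfin.toFinset hDV₁ (by
    intro s hs
    have hsW : s ∉ W := hDfin.mem_toFinset.1 hs
    obtain ⟨η, hη, hsp⟩ := exists_genericPoints_specializes s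
    exact ⟨η, hsp, fun e => hsW (e ▸ hGW' hη)⟩)
  refine ⟨W, X.basicOpen g, X.presheaf.map (homOfLE (X.basicOpen_le g)).op t, hW,
    hV₁.basicOpen g, ?_, ?_, ?_⟩
  · rw [eq_top_iff]
    intro p _
    by_cases hp : p ∈ W
    · exact Or.inr hp
    · exact Or.inl (hg1 p (hDfin.mem_toFinset.2 hp))
  · rw [Scheme.basicOpen_res]
    ext p
    constructor
    · rintro ⟨hp1, hp2⟩
      refine ⟨hp1, ?_⟩
      by_contra hpW
      exact ((hg2 p hp1).1 hp2) (hDfin.mem_toFinset.2 hpW)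
    · rintro ⟨hp1, hp2⟩
      exact ⟨hp1, (hg2 p hp1).2 (fun h => (hDfin.mem_toFinset.1 h) hp2)⟩
  · intro 𝔓 h𝔓
    haveI := hV₁.isLocalization_basicOpen g
    have h1 := IsLocalization.minimalPrimes_map (Submonoid.powers g) Γ(X, X.basicOpen g)
      (⊥ : Ideal Γ(X, V₁))
    rw [Ideal.map_bot] at h1
    have h2 : 𝔓 ∈ (⊥ : Ideal Γ(X, X.basicOpen g)).minimalPrimes := h𝔓
    rw [h1] at h2
    exact fun hmem => hg3 _ h2 hmem

theorem range_sup_range_eq_top_of_isSeparated' {X : Scheme.{u}} [X.IsSeparated] {V W A : X.Opens}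
    (hV : IsAffineOpen V) (hW : IsAffineOpen W) (hA : A = V ⊓ W) (hAV : A ≤ V) (hAW : A ≤ W) :
    (X.presheaf.map (homOfLE hAV).op).hom.range ⊔ (X.presheaf.map (homOfLE hAW).op).hom.range = ⊤ := by
  subst hA
  exact range_sup_range_eq_top_of_isSeparated hV hW

theorem ringKrullDim_sections_le' {X : Scheme.{u}} (U : X.Opens) (hU : IsAffineOpen U) :
    ringKrullDim Γ(X, U) ≤ topologicalKrullDim X := by
  rw [← PrimeSpectrum.topologicalKrullDim_eq_ringKrullDim]
  have h1 : topologicalKrullDim U = topologicalKrullDim (PrimeSpectrum Γ(X, U)) :=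
    IsHomeomorph.topologicalKrullDim_eq _ (Scheme.homeoOfIso hU.isoSpec).isHomeomorph
  rw [← h1]
  exact topologicalKrullDim_subspace_le X U

/-- the ideal of functions on `W` whose non-vanishing locus lies in `V` -/
def idealLE {X : Scheme.{u}} (W V : X.Opens) : Ideal Γ(X, W) where
  carrier := {y | X.basicOpen y ≤ V}
  add_mem' := by
    intro a c ha hc
    exact (X.basicOpen_add_le a c).trans (sup_le ha hc)
  zero_mem' := by
    change X.basicOpen (0 : Γ(X, W)) ≤ V
    rw [Scheme.basicOpen_zero]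
    exact bot_le
  smul_mem' := by
    intro c a ha
    change X.basicOpen (c * a) ≤ V
    rw [Scheme.basicOpen_mul]
    exact inf_le_right.trans ha

/-- the Kleiman-type data on a separated Noetherian scheme of dimension `≤ 1` -/
theorem exists_kl_data (X : Scheme.{u}) [IsNoetherian X] [X.IsSeparated]
    (hdim : topologicalKrullDim X ≤ 1)
    {W V : X.Opens} (hW : IsAffineOpen W) (hV : IsAffineOpen V) (b : Γ(X, V))
    (hbU : X.basicOpen b = V ⊓ W) (hb : ∀ 𝔓 ∈ minimalPrimes Γ(X, V), b ∉ 𝔓) :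
    ∃ (x : Γ(X, W)) (q u : Γ(X, V)), X.basicOpen x ≤ V ∧
      (∀ p ∈ V, p ∉ W → p ∈ X.basicOpen u ∧ p ∉ X.basicOpen q) ∧
      X.presheaf.map (homOfLE (X.basicOpen_le b)).op q *
        X.presheaf.map (homOfLE (hbU.le.trans inf_le_right)).op x =
          X.presheaf.map (homOfLE (X.basicOpen_le b)).op u := by
  haveI : IsNoetherianRing Γ(X, V) := IsLocallyNoetherian.component_noetherian ⟨V, hV⟩
  have hdimQ : ringKrullDim Γ(X, V) ≤ 1 := (ringKrullDim_sections_le' V hV).trans hdim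
  haveI := hV.isLocalization_basicOpen b
  have hU : IsAffineOpen (X.basicOpen b) := hV.basicOpen b
  let ψ : Γ(X, W) →+* Γ(X, X.basicOpen b) :=
    (X.presheaf.map (homOfLE (hbU.le.trans inf_le_right)).op).hom
  have hgen : (algebraMap Γ(X, V) Γ(X, X.basicOpen b)).range ⊔ ψ.range = ⊤ :=
    range_sup_range_eq_top_of_isSeparated' hV hW hbU (X.basicOpen_le b) (hbU.le.trans inf_le_right)
  have hbo : ∀ {A : X.Opens} (hA : IsAffineOpen A) (y : Γ(X, A)) (q : PrimeSpectrum Γ(X, A)),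
      hA.fromSpec q ∈ X.basicOpen y ↔ y ∉ q.asIdeal := by
    intro A hA y q
    have h1 : hA.fromSpec q ∈ X.basicOpen y ↔ q ∈ hA.fromSpec ⁻¹ᵁ X.basicOpen y := Iff.rfl
    rw [h1, hA.fromSpec_preimage_basicOpen y]
    exact Iff.rfl
  have hr : ∀ {A : X.Opens} (hA : IsAffineOpen A) (w : X), w ∈ A →
      ∃ q : PrimeSpectrum Γ(X, A), hA.fromSpec q = w := by
    intro A hA w hw
    have : w ∈ Set.range hA.fromSpec := by rw [hA.range_fromSpec]; exact hw
    exact this
  have hI : ∀ 𝔓' : Ideal Γ(X, X.basicOpen b), 𝔓'.IsPrime →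
      ∃ y ∈ idealLE W V, ψ y ∉ 𝔓' := by
    intro 𝔓' h𝔓'
    set p : X := hU.fromSpec ⟨𝔓', h𝔓'⟩ with hp
    have hpU : p ∈ X.basicOpen b := by
      have : p ∈ Set.range hU.fromSpec := ⟨_, rfl⟩
      rw [hU.range_fromSpec] at this
      exact this
    have hpW : p ∈ W := (hbU.le.trans inf_le_right) hpU
    obtain ⟨y, hy1, hy2⟩ := hW.exists_basicOpen_le (V := X.basicOpen b) ⟨p, hpU⟩ hpW
    refine ⟨y, hy1.trans (X.basicOpen_le b), ?_⟩
    have h2 : p ∈ X.basicOpen (ψ y) := by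
      change p ∈ X.basicOpen (X.presheaf.map (homOfLE (hbU.le.trans inf_le_right)).op y)
      rw [Scheme.basicOpen_res]
      exact ⟨hpU, hy2⟩
    exact (hbo hU (ψ y) ⟨𝔓', h𝔓'⟩).1 h2
  obtain ⟨x, hxI, q, u, hqu, he⟩ := Groth.Agent.Lib.Helper11.KL.kl_ring hdimQ b hb ψ hgen
    (idealLE W V) hI
  refine ⟨x, q, u, hxI, ?_, he⟩
  intro p hpV hpW
  obtain ⟨𝔪, rfl⟩ := hr hV p hpV
  have hb𝔪 : b ∈ 𝔪.asIdeal := by
    by_contra hnb
    have : hV.fromSpec 𝔪 ∈ X.basicOpen b := (hbo hV b 𝔪).2 hnb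
    rw [hbU] at this
    exact hpW this.2
  obtain ⟨h1, h2⟩ := hqu 𝔪.asIdeal 𝔪.isPrime hb𝔪
  exact ⟨(hbo hV u 𝔪).2 h2, fun h => (hbo hV q 𝔪).1 h h1⟩

end Groth.Agent.Lib.Helper11.CurveAmple
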