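import Mathlib
import Groth.Prelude
import Groth.Agent.Lib.Helper11CurveAmpleC
set_option backward.isDefEq.respectTransparency.types false

set_option autoImplicit false
universe u
open CategoryTheory Limits AlgebraicGeometry TopologicalSpace Opposite

namespace Groth.Agent.Lib.Helper11.CurveAmple
open Groth.Agent.Lib.Helper23.SecTw Groth.Agent.Lib.Helper6 Groth.Agent.Lib.Helper23.PB
  Groth.Agent.Helper13PullbackUnit Groth.Agent.Lib.Helper23.GenLocus Groth.Agent.Lib.Helper23.Extend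
  Groth.Agent.Lib.Helper23.GenNear Groth.Agent.Lib.Helper23.FinPic Groth.Agent.Lib.Helper23.ClPic
  Groth.Agent.Lib.Helper23.TensorUnit Groth.Agent.Lib.Helper23.AmpleIso

variable {X : Scheme.{u}}

theorem resf_one₁ {U V : X.Opens} (h : V ≤ U) : resf h (1 : Γ(X, U)) = 1 :=
  map_one (X.presheaf.map (homOfLE h).op).hom

/-- the two-element cover -/
@[reducible] def twoCover (W V' : X.Opens) : ULift.{u} Bool → X.Opens := fun i => cond i.down W V'

theorem iSup_twoCover (W V' : X.Opens) (hcov : V' ⊔ W = ⊤) : iSup (twoCover W V') = ⊤ := by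
  rw [eq_top_iff, ← hcov]
  exact sup_le (le_iSup (twoCover W V') ⟨false⟩) (le_iSup (twoCover W V') ⟨true⟩)

/-- gluing two sections -/
theorem exists_glue_two (N : X.Modules) (W V' : X.Opens) (hcov : V' ⊔ W = ⊤)
    (m₁ : Γ(N, W)) (m₂ : Γ(N, V'))
    (h : res N (inf_le_left : W ⊓ V' ≤ W) m₁ = res N (inf_le_right : W ⊓ V' ≤ V') m₂) :
    ∃ m : Γ(N, ⊤), res N (le_top : W ≤ ⊤) m = m₁ ∧ res N (le_top : V' ≤ ⊤) m = m₂ := by
  let σ : ∀ i : ULift.{u} Bool, Γ(N, twoCover W V' i) := fun i =>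
    match i with
    | ⟨true⟩ => m₁
    | ⟨false⟩ => m₂
  have hcompat : TopCat.Presheaf.IsCompatible (modSheaf N).1 (twoCover W V') σ := by
    rintro ⟨i⟩ ⟨j⟩
    cases i <;> cases j
    · rfl
    · change res N (inf_le_left : V' ⊓ W ≤ V') m₂ = res N (inf_le_right : V' ⊓ W ≤ W) m₁
      have e1 := congrArg (res N (le_inf inf_le_right inf_le_left : V' ⊓ W ≤ W ⊓ V')) h
      rw [res_res, res_res] at e1
      exact e1.symm
    · exact h
    · rfl
  have hcov' : (⊤ : X.Opens) ≤ iSup (twoCover W V') := (iSup_twoCover W V' hcov).ge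
  obtain ⟨m, hm, -⟩ := (modSheaf N).existsUnique_gluing' (twoCover W V') ⊤ (fun i => homOfLE le_top)
    hcov' σ hcompat
  exact ⟨m, hm ⟨true⟩, hm ⟨false⟩⟩

/-- the invertible module glued from the trivial modules on `W` and `V'` along the unit `a = x⁻¹` -/
theorem exists_two_open_module (W V' : X.Opens) (hcov : V' ⊔ W = ⊤) (a : Γ(X, V')) (x : Γ(X, W))
    (hax : ∀ (T : X.Opens) (h1 : T ≤ V') (h2 : T ≤ W), resf h1 a * resf h2 x = 1) :
    ∃ (N : X.Modules) (sW : Γ(N, W)) (sV : Γ(N, V')), PicF.IsInvertible N ∧ IsGen N W sW ∧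
      IsGen N V' sV ∧
      (∀ (T : X.Opens) (h1 : T ≤ W) (h2 : T ≤ V'), res N h1 sW = resf h2 a • res N h2 sV) ∧
      (∀ (T : X.Opens) (h1 : T ≤ W) (h2 : T ≤ V'), res N h2 sV = resf h1 x • res N h1 sW) := by
  let τf : (Γ(X, V' ⊓ W))ˣ :=
    ⟨resf inf_le_right x, resf inf_le_left a, by rw [mul_comm]; exact hax _ _ _, hax _ _ _⟩
  let τ : ∀ i : ULift.{u} Bool, (Γ(X, twoCover W V' i ⊓ W))ˣ := fun i =>
    match i with
    | ⟨true⟩ => (1 : (Γ(X, W ⊓ W))ˣ)
    | ⟨false⟩ => τf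
  have hle : ∀ i j : ULift.{u} Bool, i ≠ j → twoCover W V' i ⊓ twoCover W V' j ≤ W := by
    rintro ⟨i⟩ ⟨j⟩ hij
    cases i <;> cases j
    · exact absurd rfl hij
    · exact inf_le_right
    · exact inf_le_left
    · exact absurd rfl hij
  obtain ⟨N, s, hN, hs, htr⟩ := exists_module_of_virtual_units' W (twoCover W V')
    (iSup_twoCover W V' hcov) hle τ
  refine ⟨N, s ⟨true⟩, s ⟨false⟩, hN, hs ⟨true⟩, hs ⟨false⟩, ?_, ?_⟩
  · intro T h1 h2
    have e := htr ⟨true⟩ ⟨false⟩ T (le_inf h1 h2) h1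
    rw [e]
    congr 1
    change resf _ (1 : Γ(X, W ⊓ W)) * resf _ (resf inf_le_left a) = resf h2 a
    rw [resf_one₁, one_mul, resf_resf]
  · intro T h1 h2
    have e := htr ⟨false⟩ ⟨true⟩ T (le_inf h2 h1) h1
    rw [e]
    congr 1
    change resf _ (resf inf_le_right x) * (((resu _ (1 : (Γ(X, W ⊓ W))ˣ))⁻¹ : (Γ(X, T))ˣ) : Γ(X, T)) =
      resf h1 x
    rw [map_one, inv_one, Units.val_one, mul_one, resf_resf]

end Groth.Agent.Lib.Helper11.CurveAmple
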