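import Mathlib
import Groth.Prelude
import Groth.Agent.Lib.Helper11CurveAmpleD
import Groth.Agent.Lib.Helper11CurveAmpleE
set_option backward.isDefEq.respectTransparency.types false

set_option autoImplicit false
universe u
open CategoryTheory Limits AlgebraicGeometry TopologicalSpace Opposite

namespace Groth.Agent.Lib.Helper11.CurveAmple
open Groth.Agent.Lib.Helper23.SecTw Groth.Agent.Lib.Helper6 Groth.Agent.Lib.Helper23.PB
  Groth.Agent.Helper13PullbackUnit Groth.Agent.Lib.Helper23.GenLocus Groth.Agent.Lib.Helper23.Extend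
  Groth.Agent.Lib.Helper23.GenNear Groth.Agent.Lib.Helper23.FinPic Groth.Agent.Lib.Helper23.ClPic
  Groth.Agent.Lib.Helper23.TensorUnit Groth.Agent.Lib.Helper23.AmpleIso

/-- **Stacks 09NZ.** A separated Noetherian scheme of dimension at most one has an ample invertible
module. -/
theorem exists_isAmple_of_dim_le_one (X : Scheme.{u}) [IsNoetherian X] [X.IsSeparated]
    (hdim : topologicalKrullDim X ≤ 1) : ∃ L : X.Modules, CohB1.IsAmple L := by
  obtain ⟨W, V, b, hW, hV, hVW, hbU, hb⟩ := exists_setup X hdim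
  obtain ⟨x, q, u, hxV, hqu, he⟩ := exists_kl_data X hdim hW hV b hbU hb
  set V' : X.Opens := X.basicOpen u with hV'def
  have hV'V : V' ≤ V := X.basicOpen_le u
  have hV' : IsAffineOpen V' := hV.basicOpen u
  have hcov : V' ⊔ W = ⊤ := by
    rw [eq_top_iff]
    intro p _
    by_cases hp : p ∈ W
    · exact Or.inr hp
    · have hpV : p ∈ V := by
        have : p ∈ V ⊔ W := by rw [hVW]; trivial
        rcases this with h | h
        · exact h
        · exact absurd h hp
      exact Or.inl (hqu p hpV hp).1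
  have hu : IsUnit (resf hV'V u) := X.toRingedSpace.isUnit_res_basicOpen u
  obtain ⟨ui, hui⟩ := hu.exists_right_inv
  set a : Γ(X, V') := resf hV'V q * ui with ha
  have hau : a * resf hV'V u = resf hV'V q := by
    rw [ha, mul_assoc, mul_comm ui, hui, mul_one]
  have hax : ∀ (T : X.Opens) (h1 : T ≤ V') (h2 : T ≤ W), resf h1 a * resf h2 x = 1 := by
    intro T h1 h2
    have hTU : T ≤ X.basicOpen b := by rw [hbU]; exact le_inf (h1.trans hV'V) h2
    have e1 := congrArg (resf hTU) he
    have e2 : resf (h1.trans hV'V) q * resf h2 x = resf (h1.trans hV'V) u := by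
      rw [resf_mul] at e1
      erw [resf_resf, resf_resf, resf_resf] at e1
      exact e1
    have hunit : IsUnit (resf h1 (resf hV'V u)) := hu.map (X.presheaf.map (homOfLE h1).op).hom
    have e3 : (resf h1 a * resf h2 x) * resf h1 (resf hV'V u) = 1 * resf h1 (resf hV'V u) := by
      have : resf h1 a * resf h1 (resf hV'V u) = resf h1 (resf hV'V q) := by rw [← resf_mul, hau]
      calc (resf h1 a * resf h2 x) * resf h1 (resf hV'V u)
          = (resf h1 a * resf h1 (resf hV'V u)) * resf h2 x := by ring
        _ = resf h1 (resf hV'V q) * resf h2 x := by rw [this]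
        _ = resf (h1.trans hV'V) q * resf h2 x := by rw [resf_resf]
        _ = resf (h1.trans hV'V) u := e2
        _ = 1 * resf h1 (resf hV'V u) := by rw [one_mul, resf_resf]
    exact hunit.mul_right_cancel e3
  have haW : X.basicOpen a ≤ W := by
    intro p hp
    by_contra hpW
    have hpV' : p ∈ V' := X.basicOpen_le a hp
    have h1 : p ∈ X.basicOpen (resf hV'V q) := by
      have : X.basicOpen a ≤ X.basicOpen (resf hV'V q) := by
        rw [ha, Scheme.basicOpen_mul]
        exact inf_le_left
      exact this hp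
    have h2 : p ∈ X.basicOpen q := by
      change p ∈ X.basicOpen (X.presheaf.map (homOfLE hV'V).op q) at h1
      rw [Scheme.basicOpen_res] at h1
      exact h1.2
    exact (hqu p (hV'V hpV') hpW).2 h2
  obtain ⟨N, sW, sV, hN, hgW, hgV, htr1, htr2⟩ := exists_two_open_module W V' hcov a x hax
  obtain ⟨m₁, hm₁W, hm₁V⟩ := exists_glue_two N W V' hcov sW (a • sV) (by
    rw [res_smul]
    exact htr1 _ _ _)
  obtain ⟨m₂, hm₂W, hm₂V⟩ := exists_glue_two N W V' hcov (x • sW) sV (by
    rw [res_smul, htr1 (W ⊓ V') inf_le_left inf_le_right, ← mul_smul, mul_comm, hax, one_smul])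
  have g1W : CohB1.genLocus N (secHom N m₁) ⊓ W = X.basicOpen (1 : Γ(X, W)) :=
    genLocus_inf_eq_of_isGen N _ W sW 1 hgW (by rw [sv_secHom, hm₁W, one_smul])
  have g1V : CohB1.genLocus N (secHom N m₁) ⊓ V' = X.basicOpen a :=
    genLocus_inf_eq_of_isGen N _ V' sV a hgV (by rw [sv_secHom, hm₁V])
  have g2W : CohB1.genLocus N (secHom N m₂) ⊓ W = X.basicOpen x :=
    genLocus_inf_eq_of_isGen N _ W sW x hgW (by rw [sv_secHom, hm₂W])
  have g2V : CohB1.genLocus N (secHom N m₂) ⊓ V' = X.basicOpen (1 : Γ(X, V')) :=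
    genLocus_inf_eq_of_isGen N _ V' sV 1 hgV (by rw [sv_secHom, hm₂V, one_smul])
  rw [Scheme.basicOpen_of_isUnit _ isUnit_one] at g1W g2V
  have hcases : ∀ p : X, p ∈ W ∨ p ∈ V' := by
    intro p
    have : p ∈ V' ⊔ W := by rw [hcov]; trivial
    rcases this with h | h
    · exact Or.inr h
    · exact Or.inl h
  have hG1 : CohB1.genLocus N (secHom N m₁) = W := by
    ext p
    constructor
    · intro hp
      rcases hcases p with h | h
      · exact h
      · have : p ∈ CohB1.genLocus N (secHom N m₁) ⊓ V' := ⟨hp, h⟩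
        rw [g1V] at this
        exact haW this
    · intro hp
      have : p ∈ CohB1.genLocus N (secHom N m₁) ⊓ W := by rw [g1W]; exact hp
      exact this.1
  have hG2le : CohB1.genLocus N (secHom N m₂) ≤ V := by
    intro p hp
    rcases hcases p with h | h
    · have : p ∈ CohB1.genLocus N (secHom N m₂) ⊓ W := ⟨hp, h⟩
      rw [g2W] at this
      exact hxV this
    · exact hV'V h
  have hG2ge : V' ≤ CohB1.genLocus N (secHom N m₂) := by
    intro p hp
    have : p ∈ CohB1.genLocus N (secHom N m₂) ⊓ V' := by rw [g2V]; exact hp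
    exact this.1
  have hG2aff : IsAffineOpen (CohB1.genLocus N (secHom N m₂)) := by
    have := isAffineOpen_inf_genLocus N hN (secHom N m₂) V hV
    rwa [inf_eq_right.2 hG2le] at this
  refine ⟨N, isAmple_of_sections N hN (fun p => ?_)⟩
  rcases hcases p with h | h
  · exact ⟨secHom N m₁, by rw [hG1]; exact h, by rw [hG1]; exact hW⟩
  · exact ⟨secHom N m₂, hG2ge h, hG2aff⟩

end Groth.Agent.Lib.Helper11.CurveAmple
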