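import Mathlib
import Groth.Prelude.Def_W4c3irrattreebunCvg

set_option autoImplicit false
universe u

namespace Groth.Agent.Helper11Cvg

open W4c3irrattreebun

variable (k K : Type u) [Field k] [Field K] [Algebra k K]

/-- restriction of scalars from the field of constants to `k` -/
noncomputable def down {e : ℕ} (D : CovDiag (algebraicClosure k K) K e) : CovDiag k K e :=
  letI algkC : Algebra k D.KC := ((algebraMap K D.KC).comp (algebraMap k K)).toAlgebra
  letI algkB : Algebra k D.KB :=
    ((@algebraMap (algebraicClosure k K) D.KB _ _ D.algkB).comp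
      (algebraMap k (algebraicClosure k K))).toAlgebra
  { KC := D.KC
    KB := D.KB
    algkC := algkC
    algkB := algkB
    towerK := @IsScalarTower.of_algebraMap_eq k K D.KC _ _ _ _ D.algKC algkC (fun _ => rfl)
    towerB := @IsScalarTower.of_algebraMap_eq k D.KB D.KC _ _ _ algkB D.algBC algkC (fun x => by
      change algebraMap K D.KC (algebraMap k K x) =
        algebraMap D.KB D.KC (@algebraMap (algebraicClosure k K) D.KB _ _ D.algkB
          (algebraMap k (algebraicClosure k K) x))
      have h1 := @IsScalarTower.algebraMap_apply (algebraicClosure k K) D.KB D.KC _ _ _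
        D.algkB D.algBC D.algkC D.towerB (algebraMap k (algebraicClosure k K) x)
      have h2 := @IsScalarTower.algebraMap_apply (algebraicClosure k K) K D.KC _ _ _ _
        D.algKC D.algkC D.towerK (algebraMap k (algebraicClosure k K) x)
      rw [← h1, h2]
      rfl)
    t := D.t
    transc := D.transc
    finrank_eq := D.finrank_eq }

theorem down_KC {e : ℕ} (D : CovDiag (algebraicClosure k K) K e) :
    Algebra.IsSeparable K D.KC → Algebra.IsSeparable K (down k K D).KC := id

theorem up {e : ℕ} (D : CovDiag k K e) :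
    ∃ e' : ℕ, e' ≤ e ∧ ∃ D' : CovDiag (algebraicClosure k K) K e',
      (Algebra.IsSeparable K D.KC → Algebra.IsSeparable K D'.KC) := by
  classical
  -- the map k' → KC
  let φ : (algebraicClosure k K) →+* D.KC := (algebraMap K D.KC).comp (algebraMap (algebraicClosure k K) K)
  let KB' : IntermediateField D.KB D.KC := IntermediateField.adjoin D.KB (Set.range φ)
  have hφmem : ∀ x, φ x ∈ KB' := fun x => IntermediateField.subset_adjoin _ _ ⟨x, rfl⟩
  let algkC : Algebra (algebraicClosure k K) D.KC := φ.toAlgebra
  let algkB : Algebra (algebraicClosure k K) KB' := (φ.codRestrict KB' hφmem).toAlgebra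
  -- algebraicity
  have halg : ∀ y ∈ Set.range φ, IsIntegral D.KB y := by
    rintro _ ⟨x, rfl⟩
    have hx : IsAlgebraic k (x : K) := (mem_algebraicClosure_iff (F := k) (E := K)).mp x.2
    have h1 : IsAlgebraic k (algebraMap K D.KC (x : K)) := hx.algebraMap
    have h2 : IsAlgebraic D.KB (algebraMap K D.KC (x : K)) := h1.tower_top D.KB
    exact h2.isIntegral
  have hKB'alg : Algebra.IsAlgebraic D.KB KB' := IntermediateField.isAlgebraic_adjoin halg
  have htr : Transcendental KB' D.t := by
    intro h
    exact D.transc (h.restrictScalars D.KB)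
  -- degrees
  have hle : IntermediateField.adjoin D.KB ({D.t} : Set D.KC) ≤
      (IntermediateField.adjoin KB' ({D.t} : Set D.KC)).restrictScalars D.KB := by
    rw [IntermediateField.adjoin_le_iff]
    rintro _ rfl
    exact IntermediateField.subset_adjoin KB' _ rfl
  have hfin1 : Module.Finite (IntermediateField.adjoin D.KB ({D.t} : Set D.KC)) D.KC := D.finiteT
  have hfinR : Module.Finite
      ((IntermediateField.adjoin KB' ({D.t} : Set D.KC)).restrictScalars D.KB) D.KC := by
    let _ := (IntermediateField.inclusion hle).toRingHom.toAlgebra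
    have : IsScalarTower (IntermediateField.adjoin D.KB ({D.t} : Set D.KC))
      ((IntermediateField.adjoin KB' ({D.t} : Set D.KC)).restrictScalars D.KB) D.KC :=
      IsScalarTower.of_algebraMap_eq fun x ↦ rfl
    exact Module.Finite.of_restrictScalars_finite
      (IntermediateField.adjoin D.KB ({D.t} : Set D.KC)) _ D.KC
  have hfin2 : Module.Finite (IntermediateField.adjoin KB' ({D.t} : Set D.KC)) D.KC := hfinR
  have hdeg : Module.finrank (IntermediateField.adjoin KB' ({D.t} : Set D.KC)) D.KC ≤ e := by
    have h1 := IntermediateField.finrank_le_of_le_left hle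
    rw [D.finrank_eq] at h1
    exact h1
  refine ⟨_, hdeg, ⟨{
    KC := D.KC
    KB := KB'
    algkC := algkC
    algkB := algkB
    towerK := @IsScalarTower.of_algebraMap_eq (algebraicClosure k K) K D.KC _ _ _ _ D.algKC algkC
      (fun _ => rfl)
    towerB := @IsScalarTower.of_algebraMap_eq (algebraicClosure k K) KB' D.KC _ _ _ algkB _ algkC
      (fun _ => rfl)
    t := D.t
    transc := htr
    finiteT := hfin2
    finrank_eq := rfl }, id⟩⟩

theorem sInf_eq_of {S S' : Set ℕ} (h1 : S' ⊆ S) (h2 : ∀ e ∈ S, ∃ e' ∈ S', e' ≤ e) :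
    sInf S = sInf S' := by
  rcases S.eq_empty_or_nonempty with hS | hS
  · have hS' : S' = ∅ := Set.subset_eq_empty (hS ▸ h1) rfl
    rw [hS, hS']
  · have hS' : S'.Nonempty := by
      obtain ⟨e, he⟩ := hS
      obtain ⟨e', he', _⟩ := h2 e he
      exact ⟨e', he'⟩
    apply le_antisymm
    · exact Nat.sInf_le (h1 (Nat.sInf_mem hS'))
    · obtain ⟨e', he', hle⟩ := h2 _ (Nat.sInf_mem hS)
      exact le_trans (Nat.sInf_le he') hle

theorem cvg_eq : cvg k K = cvg (algebraicClosure k K) K := by
  unfold cvg
  apply sInf_eq_of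
  · rintro e ⟨D⟩
    exact ⟨down k K D⟩
  · rintro e ⟨D⟩
    obtain ⟨e', he', D', _⟩ := up k K D
    exact ⟨e', ⟨D'⟩, he'⟩

theorem scvg_eq : scvg k K = scvg (algebraicClosure k K) K := by
  unfold scvg
  apply sInf_eq_of
  · rintro e ⟨D, hD⟩
    exact ⟨down k K D, down_KC k K D hD⟩
  · rintro e ⟨D, hD⟩
    obtain ⟨e', he', D', hD'⟩ := up k K D
    exact ⟨e', ⟨D', hD' hD⟩, he'⟩

end Groth.Agent.Helper11Cvg
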