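import Mathlib

universe u v
open Filter

namespace Groth.Agent.Lib.Helper22.UP

variable {α : Type u} (𝒰 : Ultrafilter α) (R : α → Type v) [∀ i, CommRing (R i)]

/-- the ideal of families vanishing `𝒰`-almost everywhere -/
def germIdeal : Ideal (∀ i, R i) where
  carrier := {r | ∀ᶠ i in (𝒰 : Filter α), r i = 0}
  add_mem' := fun {a b} ha hb => by
    filter_upwards [ha, hb] with i h1 h2
    simp [h1, h2]
  zero_mem' := Eventually.of_forall fun _ => rfl
  smul_mem' := fun c {a} ha => by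
    filter_upwards [ha] with i h1
    simp [h1]

theorem mem_germIdeal {r : ∀ i, R i} : r ∈ germIdeal 𝒰 R ↔ ∀ᶠ i in (𝒰 : Filter α), r i = 0 :=
  Iff.rfl

/-- the ultraproduct ring -/
abbrev UProd : Type (max u v) := (∀ i, R i) ⧸ germIdeal 𝒰 R

/-- the class of a family -/
def mk : (∀ i, R i) →+* UProd 𝒰 R := Ideal.Quotient.mk _

theorem mk_surjective : Function.Surjective (mk 𝒰 R) := Ideal.Quotient.mk_surjective

variable {𝒰 R}

theorem mk_eq_zero_iff {r : ∀ i, R i} : mk 𝒰 R r = 0 ↔ ∀ᶠ i in (𝒰 : Filter α), r i = 0 :=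
  Ideal.Quotient.eq_zero_iff_mem

theorem mk_eq_mk_iff {r s : ∀ i, R i} :
    mk 𝒰 R r = mk 𝒰 R s ↔ ∀ᶠ i in (𝒰 : Filter α), r i = s i := by
  rw [← sub_eq_zero, ← map_sub, mk_eq_zero_iff]
  refine eventually_congr (Eventually.of_forall fun i => ?_)
  simp [sub_eq_zero]

theorem mk_ne_zero_iff {r : ∀ i, R i} : mk 𝒰 R r ≠ 0 ↔ ∀ᶠ i in (𝒰 : Filter α), r i ≠ 0 := by
  rw [ne_eq, mk_eq_zero_iff, ← Ultrafilter.eventually_not]

theorem isUnit_mk_iff {r : ∀ i, R i} :
    IsUnit (mk 𝒰 R r) ↔ ∀ᶠ i in (𝒰 : Filter α), IsUnit (r i) := by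
  classical
  constructor
  · intro h
    obtain ⟨s, hs⟩ := h.exists_right_inv
    obtain ⟨s, rfl⟩ := mk_surjective 𝒰 R s
    rw [← map_mul, ← map_one (mk 𝒰 R), mk_eq_mk_iff] at hs
    filter_upwards [hs] with i hi
    exact IsUnit.of_mul_eq_one _ hi
  · intro h
    choose! s hs using fun i (hi : IsUnit (r i)) => hi.exists_right_inv
    refine IsUnit.of_mul_eq_one (mk 𝒰 R s) ?_
    rw [← map_mul, ← map_one (mk 𝒰 R), mk_eq_mk_iff]
    filter_upwards [h] with i hi
    exact hs i hi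

instance [∀ i, Nontrivial (R i)] : Nontrivial (UProd 𝒰 R) := by
  refine ⟨⟨0, 1, fun h => ?_⟩⟩
  have h1 : mk 𝒰 R (1 : ∀ i, R i) = 0 := by rw [map_one]; exact h.symm
  rw [mk_eq_zero_iff] at h1
  obtain ⟨i, hi⟩ := h1.exists
  exact one_ne_zero hi

instance [∀ i, IsDomain (R i)] : IsDomain (UProd 𝒰 R) := by
  have : NoZeroDivisors (UProd 𝒰 R) := by
    refine ⟨fun {a b} hab => ?_⟩
    obtain ⟨a, rfl⟩ := mk_surjective 𝒰 R a
    obtain ⟨b, rfl⟩ := mk_surjective 𝒰 R b
    rw [← map_mul, mk_eq_zero_iff] at hab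
    have : ∀ᶠ i in (𝒰 : Filter α), a i = 0 ∨ b i = 0 := by
      filter_upwards [hab] with i hi
      exact mul_eq_zero.mp hi
    rw [Ultrafilter.eventually_or] at this
    exact this.imp mk_eq_zero_iff.mpr mk_eq_zero_iff.mpr
  exact NoZeroDivisors.to_isDomain _

theorem isField_of_forall_isField (h : ∀ i, IsField (R i)) : IsField (UProd 𝒰 R) := by
  have : ∀ i, Nontrivial (R i) := fun i => (h i).nontrivial
  refine ⟨exists_pair_ne _, mul_comm, fun {a} ha => ?_⟩
  obtain ⟨a, rfl⟩ := mk_surjective 𝒰 R a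
  rw [mk_ne_zero_iff] at ha
  have hu : IsUnit (mk 𝒰 R a) := by
    rw [isUnit_mk_iff]
    filter_upwards [ha] with i hi
    let _ := (h i).toField
    exact hi.isUnit
  exact hu.exists_right_inv

instance valuationRing [∀ i, IsDomain (R i)] [∀ i, ValuationRing (R i)] :
    ValuationRing (UProd 𝒰 R) := by
  rw [ValuationRing.iff_dvd_total]
  refine ⟨fun a b => ?_⟩
  obtain ⟨a, rfl⟩ := mk_surjective 𝒰 R a
  obtain ⟨b, rfl⟩ := mk_surjective 𝒰 R b
  have h : ∀ᶠ i in (𝒰 : Filter α), a i ∣ b i ∨ b i ∣ a i :=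
    Eventually.of_forall fun i => ValuationRing.dvd_total _ _
  rw [Ultrafilter.eventually_or] at h
  classical
  rcases h with h | h
  · left
    choose! c hc using fun i (hi : a i ∣ b i) => hi
    refine ⟨mk 𝒰 R c, ?_⟩
    rw [← map_mul, mk_eq_mk_iff]
    filter_upwards [h] with i hi
    exact hc i hi
  · right
    choose! c hc using fun i (hi : b i ∣ a i) => hi
    refine ⟨mk 𝒰 R c, ?_⟩
    rw [← map_mul, mk_eq_mk_iff]
    filter_upwards [h] with i hi
    exact hc i hi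

section map

variable {K : α → Type v} [∀ i, CommRing (K i)] (φ : ∀ i, R i →+* K i)

/-- functoriality of the ultraproduct -/
def map : UProd 𝒰 R →+* UProd 𝒰 K :=
  Ideal.Quotient.lift _ ((mk 𝒰 K).comp (RingHom.pi fun i => (φ i).comp (Pi.evalRingHom R i)))
    (fun r hr => by
      rw [RingHom.comp_apply, mk_eq_zero_iff]
      filter_upwards [hr] with i hi
      change φ i (r i) = 0
      rw [hi, map_zero])

@[simp]
theorem map_mk (r : ∀ i, R i) : map φ (mk 𝒰 R r) = mk 𝒰 K (fun i => φ i (r i)) := rfl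

theorem map_injective (h : ∀ i, Function.Injective (φ i)) : Function.Injective (map (𝒰 := 𝒰) φ) := by
  rw [injective_iff_map_eq_zero]
  intro a ha
  obtain ⟨a, rfl⟩ := mk_surjective 𝒰 R a
  rw [map_mk, mk_eq_zero_iff] at ha
  rw [mk_eq_zero_iff]
  filter_upwards [ha] with i hi
  exact (injective_iff_map_eq_zero (φ i)).mp (h i) _ hi

end map

section frac

variable (𝒰) (R) (K : α → Type v) [∀ i, Field (K i)] [∀ i, Algebra (R i) (K i)]

/-- the field structure on an ultraproduct of fields -/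
@[instance_reducible]
noncomputable def field : Field (UProd 𝒰 K) :=
  (isField_of_forall_isField fun i => Field.toIsField (K i)).toField

/-- the algebra structure -/
@[instance_reducible]
noncomputable def algebra : Algebra (UProd 𝒰 R) (UProd 𝒰 K) :=
  (map fun i => algebraMap (R i) (K i)).toAlgebra

theorem isFractionRing [∀ i, IsDomain (R i)] [∀ i, IsFractionRing (R i) (K i)] :
    letI := field 𝒰 K
    letI := algebra 𝒰 R K
    IsFractionRing (UProd 𝒰 R) (UProd 𝒰 K) := by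
  letI := field 𝒰 K
  letI := algebra 𝒰 R K
  have hinj : Function.Injective (algebraMap (UProd 𝒰 R) (UProd 𝒰 K)) :=
    map_injective _ fun i => IsFractionRing.injective (R i) (K i)
  have : FaithfulSMul (UProd 𝒰 R) (UProd 𝒰 K) := (faithfulSMul_iff_algebraMap_injective _ _).mpr hinj
  refine IsFractionRing.of_field _ _ fun z => ?_
  obtain ⟨z, rfl⟩ := mk_surjective 𝒰 K z
  choose x y hy hxy using fun i => IsFractionRing.div_surjective (A := R i) (z i)
  refine ⟨mk 𝒰 R x, mk 𝒰 R y, ?_⟩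
  have hy' : algebraMap (UProd 𝒰 R) (UProd 𝒰 K) (mk 𝒰 R y) ≠ 0 := by
    rw [ne_eq, map_eq_zero_iff _ hinj, mk_eq_zero_iff]
    intro h
    obtain ⟨i, hi⟩ := h.exists
    exact nonZeroDivisors.ne_zero (hy i) hi
  rw [eq_div_iff hy']
  change mk 𝒰 K z * mk 𝒰 K (fun i => algebraMap (R i) (K i) (y i)) =
    mk 𝒰 K (fun i => algebraMap (R i) (K i) (x i))
  rw [← map_mul, mk_eq_mk_iff]
  refine Eventually.of_forall fun i => ?_
  change z i * algebraMap (R i) (K i) (y i) = algebraMap (R i) (K i) (x i)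
  rw [← hxy i, div_mul_cancel₀]
  exact (map_ne_zero_iff _ (IsFractionRing.injective (R i) (K i))).mpr
    (nonZeroDivisors.ne_zero (hy i))

end frac

section lift

open Classical in
/-- an eventually defined family of ring homomorphisms induces a ring homomorphism to the
ultraproduct -/
noncomputable def lift {A : Type*} [CommRing A] (T : Set α) (hT : T ∈ (𝒰 : Filter α))
    (ψ : ∀ i, i ∈ T → (A →+* R i)) : A →+* UProd 𝒰 R where
  toFun a := mk 𝒰 R fun i => if h : i ∈ T then ψ i h a else 0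
  map_one' := by
    rw [← map_one (mk 𝒰 R), mk_eq_mk_iff]
    filter_upwards [hT] with i hi
    simp [hi]
  map_mul' a b := by
    rw [← map_mul, mk_eq_mk_iff]
    filter_upwards [hT] with i hi
    simp [hi]
  map_zero' := by
    rw [← map_zero (mk 𝒰 R), mk_eq_mk_iff]
    filter_upwards [hT] with i hi
    simp [hi]
  map_add' a b := by
    rw [← map_add, mk_eq_mk_iff]
    filter_upwards [hT] with i hi
    simp [hi]

theorem lift_eq_mk {A : Type*} [CommRing A] (T : Set α) (hT : T ∈ (𝒰 : Filter α))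
    (ψ : ∀ i, i ∈ T → (A →+* R i)) (a : A) (r : ∀ i, R i)
    (h : ∀ᶠ i in (𝒰 : Filter α), ∀ hi : i ∈ T, ψ i hi a = r i) :
    lift T hT ψ a = mk 𝒰 R r := by
  classical
  change mk 𝒰 R _ = _
  rw [mk_eq_mk_iff]
  filter_upwards [h, hT] with i hi hiT
  simp [hiT, hi hiT]

theorem lift_eq_zero_iff {A : Type*} [CommRing A] (T : Set α) (hT : T ∈ (𝒰 : Filter α))
    (ψ : ∀ i, i ∈ T → (A →+* R i)) (a : A) :
    lift T hT ψ a = 0 ↔ ∀ᶠ i in (𝒰 : Filter α), ∀ hi : i ∈ T, ψ i hi a = 0 := by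
  classical
  change mk 𝒰 R _ = 0 ↔ _
  rw [mk_eq_zero_iff]
  constructor
  · intro h
    filter_upwards [h] with i hi hiT
    simpa [hiT] using hi
  · intro h
    filter_upwards [h, hT] with i hi hiT
    simp [hiT, hi hiT]

theorem lift_eq_lift_iff {A A' : Type*} [CommRing A] [CommRing A'] (T T' : Set α)
    (hT : T ∈ (𝒰 : Filter α)) (hT' : T' ∈ (𝒰 : Filter α))
    (ψ : ∀ i, i ∈ T → (A →+* R i)) (ψ' : ∀ i, i ∈ T' → (A' →+* R i)) (a : A) (a' : A') :
    lift T hT ψ a = lift T' hT' ψ' a' ↔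
      ∀ᶠ i in (𝒰 : Filter α), ∀ (hi : i ∈ T) (hi' : i ∈ T'), ψ i hi a = ψ' i hi' a' := by
  classical
  change mk 𝒰 R _ = mk 𝒰 R _ ↔ _
  rw [mk_eq_mk_iff]
  constructor
  · intro h
    filter_upwards [h] with i hi hiT hiT'
    simpa [hiT, hiT'] using hi
  · intro h
    filter_upwards [h, hT, hT'] with i hi hiT hiT'
    simp [hiT, hiT', hi hiT hiT']

theorem isUnit_lift_iff {A : Type*} [CommRing A] (T : Set α) (hT : T ∈ (𝒰 : Filter α))
    (ψ : ∀ i, i ∈ T → (A →+* R i)) (a : A) :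
    IsUnit (lift T hT ψ a) ↔ ∀ᶠ i in (𝒰 : Filter α), ∀ hi : i ∈ T, IsUnit (ψ i hi a) := by
  classical
  change IsUnit (mk 𝒰 R _) ↔ _
  rw [isUnit_mk_iff]
  constructor
  · intro h
    filter_upwards [h] with i hi hiT
    simpa [hiT] using hi
  · intro h
    filter_upwards [h, hT] with i hi hiT
    simpa [hiT] using hi hiT

end lift

end Groth.Agent.Lib.Helper22.UP
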