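import Mathlib
import Groth.Agent.Lib.Helper22UP1

universe u v
open Filter

namespace Groth.Agent.Lib.Helper22.UP

variable {α : Type u} {𝒰 : Ultrafilter α} {R : α → Type v} [∀ i, CommRing (R i)]

/-- **Łoś for finitely presented algebras**: an algebra map from a finitely presented algebra
to an ultraproduct comes from algebra maps to almost all factors. -/
theorem exists_lift_of_finitePresentation {A B : Type*} [CommRing A] [CommRing B] [Algebra A B]
    [Algebra.FinitePresentation A B] (T : Set α) (hT : T ∈ (𝒰 : Filter α))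
    (β : ∀ i, i ∈ T → (A →+* R i)) (l : B →+* UProd 𝒰 R)
    (hl : l.comp (algebraMap A B) = lift T hT β) :
    ∃ (T' : Set α) (hT' : T' ∈ (𝒰 : Filter α)) (hsub : T' ⊆ T) (l' : ∀ i, i ∈ T' → (B →+* R i)),
      (∀ i (hi : i ∈ T'), (l' i hi).comp (algebraMap A B) = β i (hsub hi)) ∧
        l = lift T' hT' l' := by
  classical
  obtain ⟨n, f, hf, hker⟩ := Algebra.FinitePresentation.out (R := A) (A := B)
  obtain ⟨s, hs⟩ := hker
  choose r hr using fun k : Fin n => mk_surjective 𝒰 R (l (f (MvPolynomial.X k)))
  let e : ∀ i, i ∈ T → (MvPolynomial (Fin n) A →+* R i) := fun i hi =>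
    MvPolynomial.eval₂Hom (β i hi) (fun k => r k i)
  have key : l.comp f.toRingHom = lift T hT e := by
    refine MvPolynomial.ringHom_ext (fun a => ?_) (fun k => ?_)
    · have h1 : f.toRingHom (MvPolynomial.C a) = algebraMap A B a := by
        change f (MvPolynomial.C a) = _
        rw [← MvPolynomial.algebraMap_eq, f.commutes]
      rw [RingHom.comp_apply, h1, ← RingHom.comp_apply, hl, lift_eq_lift_iff]
      refine Eventually.of_forall fun i hi hi' => ?_
      simp [e]
    · rw [RingHom.comp_apply]
      change l (f (MvPolynomial.X k)) = _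
      rw [← hr k]
      symm
      apply lift_eq_mk
      refine Eventually.of_forall fun i hi => ?_
      simp [e]
  have hev : ∀ᶠ i in (𝒰 : Filter α), ∀ g ∈ s, ∀ hi : i ∈ T, e i hi g = 0 := by
    rw [Filter.eventually_all_finset]
    intro g hg
    have h0 : f g = 0 := by
      have : g ∈ RingHom.ker f.toRingHom := by
        rw [← hs]; exact Ideal.subset_span hg
      exact this
    have h1 : lift T hT e g = 0 := by
      rw [← key, RingHom.comp_apply]
      change l (f g) = 0
      rw [h0, map_zero]
    exact (lift_eq_zero_iff T hT e g).mp h1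
  let T' : Set α := {i | ∃ hi : i ∈ T, ∀ g ∈ s, e i hi g = 0}
  have hT' : T' ∈ (𝒰 : Filter α) := by
    filter_upwards [hev, hT] with i hi hiT
    exact ⟨hiT, fun g hg => hi g hg hiT⟩
  have hsub : T' ⊆ T := fun i hi => hi.1
  have hkerle : ∀ i (hi : i ∈ T'),
      RingHom.ker f.toRingHom ≤ RingHom.ker (e i (hsub hi)) := by
    intro i hi
    rw [← hs, Ideal.span_le]
    intro g hg
    exact hi.2 g hg
  have hfs : Function.Surjective f.toRingHom := hf
  let l' : ∀ i, i ∈ T' → (B →+* R i) := fun i hi =>
    RingHom.liftOfSurjective f.toRingHom hfs ⟨e i (hsub hi), hkerle i hi⟩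
  have hl' : ∀ i (hi : i ∈ T') (g : MvPolynomial (Fin n) A), l' i hi (f g) = e i (hsub hi) g :=
    fun i hi g => RingHom.liftOfRightInverse_comp_apply _ _ _ ⟨e i (hsub hi), hkerle i hi⟩ g
  refine ⟨T', hT', hsub, l', fun i hi => ?_, ?_⟩
  · ext a
    have h1 : f (MvPolynomial.C a) = algebraMap A B a := by
      rw [← MvPolynomial.algebraMap_eq, f.commutes]
    rw [RingHom.comp_apply, ← h1, hl' i hi]
    simp [e]
  · ext b
    obtain ⟨g, rfl⟩ := hf b
    have h1 : l (f g) = lift T hT e g := by
      rw [← key]; rfl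
    rw [h1, lift_eq_lift_iff]
    refine Eventually.of_forall fun i hi hi' => ?_
    rw [hl' i hi']

end Groth.Agent.Lib.Helper22.UP
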