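import Mathlib
import Groth.Agent.Lib.Helper22UP1

universe u v
open Filter

namespace Groth.Agent.Lib.Helper22.UP

variable {α : Type u} {𝒰 : Ultrafilter α} {R : α → Type v} [∀ i, CommRing (R i)]

theorem lift_apply_eq_iff {A : Type*} [CommRing A] (T T' : Set α)
    (hT : T ∈ (𝒰 : Filter α)) (hT' : T' ∈ (𝒰 : Filter α))
    (ψ : ∀ i, i ∈ T → (A →+* R i)) (ψ' : ∀ i, i ∈ T' → (A →+* R i)) (a : A) :
    lift T hT ψ a = lift T' hT' ψ' a ↔
      ∀ᶠ i in (𝒰 : Filter α), ∀ (hi : i ∈ T) (hi' : i ∈ T'), ψ i hi a = ψ' i hi' a :=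
  lift_eq_lift_iff T T' hT hT' ψ ψ' a a

/-- the lift only depends on the germ of the family -/
theorem lift_congr {A : Type*} [CommRing A] (T T' : Set α)
    (hT : T ∈ (𝒰 : Filter α)) (hT' : T' ∈ (𝒰 : Filter α))
    (ψ : ∀ i, i ∈ T → (A →+* R i)) (ψ' : ∀ i, i ∈ T' → (A →+* R i))
    (h : ∀ᶠ i in (𝒰 : Filter α), ∀ (hi : i ∈ T) (hi' : i ∈ T'), ψ i hi = ψ' i hi') :
    lift T hT ψ = lift T' hT' ψ' := by
  ext a
  rw [lift_apply_eq_iff]
  filter_upwards [h] with i hi h1 h2
  rw [hi h1 h2]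

/-- precomposition -/
theorem lift_comp {A A' : Type*} [CommRing A] [CommRing A'] (T : Set α)
    (hT : T ∈ (𝒰 : Filter α)) (ψ : ∀ i, i ∈ T → (A →+* R i)) (θ : A' →+* A) :
    (lift T hT ψ).comp θ = lift T hT (fun i hi => (ψ i hi).comp θ) := by
  ext a
  rw [RingHom.comp_apply, lift_eq_lift_iff]
  exact Eventually.of_forall fun i hi hi' => rfl

/-- postcomposition with a family of maps -/
theorem map_comp_lift {K : α → Type v} [∀ i, CommRing (K i)] (φ : ∀ i, R i →+* K i)
    {A : Type*} [CommRing A] (T : Set α)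
    (hT : T ∈ (𝒰 : Filter α)) (ψ : ∀ i, i ∈ T → (A →+* R i)) :
    (map φ).comp (lift T hT ψ) = lift T hT (fun i hi => (φ i).comp (ψ i hi)) := by
  classical
  ext a
  rw [RingHom.comp_apply]
  change map φ (mk 𝒰 R _) = _
  rw [map_mk]
  symm
  apply lift_eq_mk
  filter_upwards [hT] with i hi hi'
  simp [hi]

/-- **Łoś for finitely generated algebras**: two eventually defined families of algebra maps
out of a finitely generated algebra with the same ultralimit agree almost everywhere. -/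
theorem eventually_eq_of_lift_eq {C A : Type*} [CommRing C] [CommRing A] (θ : C →+* A)
    (hθ : θ.FiniteType) (T : Set α) (hT : T ∈ (𝒰 : Filter α))
    (a a' : ∀ i, i ∈ T → (A →+* R i))
    (hc : ∀ i (hi : i ∈ T), (a i hi).comp θ = (a' i hi).comp θ)
    (h : lift T hT a = lift T hT a') :
    ∀ᶠ i in (𝒰 : Filter α), ∀ hi : i ∈ T, a i hi = a' i hi := by
  classical
  algebraize [θ]
  obtain ⟨s, hs⟩ := (Algebra.FiniteType.out : (⊤ : Subalgebra C A).FG)
  have h1 : ∀ g ∈ s, ∀ᶠ i in (𝒰 : Filter α), ∀ hi : i ∈ T, a i hi g = a' i hi g := by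
    intro g _
    have := (lift_apply_eq_iff T T hT hT a a' g).mp (by rw [h])
    filter_upwards [this] with i hi h1
    exact hi h1 h1
  have h2 : ∀ᶠ i in (𝒰 : Filter α), ∀ g ∈ s, ∀ hi : i ∈ T, a i hi g = a' i hi g :=
    (Filter.eventually_all_finset s).mpr h1
  filter_upwards [h2] with i hi hiT
  -- the equalizer is a subalgebra containing the generators
  let E : Subalgebra C A :=
    { (RingHom.eqLocus (a i hiT) (a' i hiT)).toSubsemiring with
      algebraMap_mem' := fun c => by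
        change (a i hiT) (θ c) = (a' i hiT) (θ c)
        rw [← RingHom.comp_apply, hc i hiT, RingHom.comp_apply] }
  have hE : Algebra.adjoin C (s : Set A) ≤ E := Algebra.adjoin_le fun g hg => hi g hg hiT
  rw [hs] at hE
  ext x
  exact hE (Algebra.mem_top : x ∈ (⊤ : Subalgebra C A))

instance isLocalRing [∀ i, IsLocalRing (R i)] : IsLocalRing (UProd 𝒰 R) := by
  refine IsLocalRing.of_isUnit_or_isUnit_one_sub_self fun a => ?_
  obtain ⟨r, rfl⟩ := mk_surjective 𝒰 R a
  have h : ∀ᶠ i in (𝒰 : Filter α), IsUnit (r i) ∨ IsUnit ((1 - r) i) :=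
    Eventually.of_forall fun i => IsLocalRing.isUnit_or_isUnit_one_sub_self (r i)
  rw [Ultrafilter.eventually_or] at h
  rcases h with h | h
  · exact Or.inl (isUnit_mk_iff.mpr h)
  · right
    rw [← map_one (mk 𝒰 R), ← map_sub]
    exact isUnit_mk_iff.mpr h

end Groth.Agent.Lib.Helper22.UP
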