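import Mathlib
import Groth.Agent.Lib.Helper22UP1

universe u
open Filter AlgebraicGeometry CategoryTheory

namespace Groth.Agent.Lib.Helper22.UP

variable {Z : Scheme.{u}} {U : Z.Opens}

/-- the `R`-point of `Z` given by a ring map out of the sections over an affine open -/
noncomputable def pt (hU : IsAffineOpen U) {R : Type u} [CommRing R] (ψ : Γ(Z, U) →+* R) :
    Spec (.of R) ⟶ Z :=
  Spec.map (CommRingCat.ofHom ψ) ≫ hU.fromSpec

/-- the chart of an `R`-point landing in `U` -/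
noncomputable def chartHom {R : Type u} [CommRing R] (z : Spec (.of R) ⟶ Z) (U : Z.Opens)
    (h : z ⁻¹ᵁ U = ⊤) : Γ(Z, U) →+* R :=
  (z.appLE U ⊤ (by rw [h]) ≫ (Scheme.ΓSpecIso (.of R)).hom).hom

theorem pt_chartHom (hU : IsAffineOpen U) {R : Type u} [CommRing R] (z : Spec (.of R) ⟶ Z)
    (h : z ⁻¹ᵁ U = ⊤) : pt hU (chartHom z U h) = z := by
  unfold pt chartHom
  rw [CommRingCat.ofHom_hom, Spec.map_comp, Category.assoc,
    IsAffineOpen.SpecMap_appLE_fromSpec z hU (isAffineOpen_top _), IsAffineOpen.fromSpec_top,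
    Scheme.isoSpec_Spec_inv, ← Spec.map_comp_assoc, Iso.inv_hom_id, Spec.map_id, Category.id_comp]

theorem pt_injective (hU : IsAffineOpen U) {R : Type u} [CommRing R] {ψ ψ' : Γ(Z, U) →+* R}
    (h : pt hU ψ = pt hU ψ') : ψ = ψ' := by
  unfold pt at h
  rw [cancel_mono] at h
  have := Spec.map_injective h
  exact congrArg CommRingCat.Hom.hom this

theorem pt_comp (hU : IsAffineOpen U) {R : Type u} [CommRing R] (ψ : Γ(Z, U) →+* R)
    {Z' : Scheme.{u}} (g : Z ⟶ Z') {U' : Z'.Opens} (hU' : IsAffineOpen U') (e : U ≤ g ⁻¹ᵁ U') :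
    pt hU ψ ≫ g = pt hU' (ψ.comp (g.appLE U' U e).hom) := by
  unfold pt
  rw [Category.assoc, ← IsAffineOpen.SpecMap_appLE_fromSpec g hU' hU e, ← Spec.map_comp_assoc]
  rfl

theorem pt_precomp (hU : IsAffineOpen U) {R R' : Type u} [CommRing R] [CommRing R']
    (ψ : Γ(Z, U) →+* R) (θ : R →+* R') :
    Spec.map (CommRingCat.ofHom θ) ≫ pt hU ψ = pt hU (θ.comp ψ) := by
  unfold pt
  rw [← Spec.map_comp_assoc]
  rfl

theorem pt_preimage (hU : IsAffineOpen U) {R : Type u} [CommRing R] (ψ : Γ(Z, U) →+* R) :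
    (pt hU ψ) ⁻¹ᵁ U = ⊤ := by
  unfold pt
  rw [Scheme.Hom.comp_preimage, IsAffineOpen.fromSpec_preimage_self]
  rfl

theorem chartHom_pt (hU : IsAffineOpen U) {R : Type u} [CommRing R] (ψ : Γ(Z, U) →+* R) :
    chartHom (pt hU ψ) U (pt_preimage hU ψ) = ψ :=
  pt_injective hU (pt_chartHom hU _ _)

/-- the closed point of `pt hU ψ` lies in a basic open iff the function maps to a unit -/
theorem pt_closedPoint_mem_basicOpen (hU : IsAffineOpen U) {R : Type u} [CommRing R]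
    [IsLocalRing R] (ψ : Γ(Z, U) →+* R) (h : Γ(Z, U)) :
    (pt hU ψ) (IsLocalRing.closedPoint R) ∈ Z.basicOpen h ↔ IsUnit (ψ h) := by
  unfold pt
  change (IsLocalRing.closedPoint R) ∈ (Spec.map (CommRingCat.ofHom ψ) ≫ hU.fromSpec) ⁻¹ᵁ
    (Z.basicOpen h) ↔ _
  rw [Scheme.Hom.comp_preimage, hU.fromSpec_preimage_basicOpen]
  change (PrimeSpectrum.comap ψ (IsLocalRing.closedPoint R)) ∈ PrimeSpectrum.basicOpen h ↔ _
  rw [PrimeSpectrum.mem_basicOpen]
  change ψ h ∉ IsLocalRing.maximalIdeal R ↔ _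
  rw [IsLocalRing.mem_maximalIdeal, mem_nonunits_iff, not_not]

/-- a point of a local ring lands in an open as soon as the closed point does -/
theorem preimage_eq_top_of_closedPoint_mem {R : Type u} [CommRing R] [IsLocalRing R]
    (z : Spec (.of R) ⟶ Z) (O : Z.Opens) (h : z (IsLocalRing.closedPoint R) ∈ O) :
    z ⁻¹ᵁ O = ⊤ :=
  (IsLocalRing.closedPoint_mem_iff (R := R) (U := z ⁻¹ᵁ O)).mp h

end Groth.Agent.Lib.Helper22.UP
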