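import Mathlib
import Groth.Agent.Lib.Helper22UP1
import Groth.Agent.Lib.Helper22UP3
import Groth.Agent.Lib.Helper22UP4

universe u
open Filter AlgebraicGeometry CategoryTheory

namespace Groth.Agent.Lib.Helper22.UP

section single

variable {Z : Scheme.{u}} {U : Z.Opens}

theorem chartHom_comp (hU : IsAffineOpen U) {R : Type u} [CommRing R] (z : Spec (.of R) ⟶ Z)
    (h : z ⁻¹ᵁ U = ⊤) {Z' : Scheme.{u}} (g : Z ⟶ Z') {U' : Z'.Opens} (hU' : IsAffineOpen U')
    (e : U ≤ g ⁻¹ᵁ U') (h' : (z ≫ g) ⁻¹ᵁ U' = ⊤) :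
    chartHom (z ≫ g) U' h' = (chartHom z U h).comp (g.appLE U' U e).hom := by
  apply pt_injective hU'
  rw [pt_chartHom, ← pt_comp hU _ g hU' e, pt_chartHom]

theorem chartHom_precomp (hU : IsAffineOpen U) {R R' : Type u} [CommRing R] [CommRing R']
    (z : Spec (.of R) ⟶ Z) (h : z ⁻¹ᵁ U = ⊤) (θ : R →+* R')
    (h' : (Spec.map (CommRingCat.ofHom θ) ≫ z) ⁻¹ᵁ U = ⊤) :
    chartHom (Spec.map (CommRingCat.ofHom θ) ≫ z) U h' = θ.comp (chartHom z U h) := by
  apply pt_injective hU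
  rw [pt_chartHom, ← pt_precomp hU, pt_chartHom]

theorem comp_preimage_eq_top {R : Type u} [CommRing R] (z : Spec (.of R) ⟶ Z)
    (h : z ⁻¹ᵁ U = ⊤) {Z' : Scheme.{u}} (g : Z ⟶ Z') {U' : Z'.Opens}
    (e : U ≤ g ⁻¹ᵁ U') : (z ≫ g) ⁻¹ᵁ U' = ⊤ := by
  rw [Scheme.Hom.comp_preimage, eq_top_iff, ← h]
  exact Scheme.Hom.preimage_mono z e

theorem precomp_preimage_eq_top {R R' : Type u} [CommRing R] [CommRing R']
    (z : Spec (.of R) ⟶ Z) (h : z ⁻¹ᵁ U = ⊤) (θ : R →+* R') :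
    (Spec.map (CommRingCat.ofHom θ) ≫ z) ⁻¹ᵁ U = ⊤ := by
  rw [Scheme.Hom.comp_preimage, h]
  rfl

end single

variable {α : Type u} {𝒰 : Ultrafilter α} {R : α → Type u} [∀ i, CommRing (R i)]
variable {Z : Scheme.{u}} {U : Z.Opens}

/-- the ultralimit of an eventually defined family of points landing in a common affine open -/
noncomputable def uptOf (hU : IsAffineOpen U) (T : Set α) (hT : T ∈ (𝒰 : Filter α))
    (z : ∀ i, i ∈ T → (Spec (.of (R i)) ⟶ Z)) (hz : ∀ i hi, (z i hi) ⁻¹ᵁ U = ⊤) :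
    Spec (.of (UProd 𝒰 R)) ⟶ Z :=
  pt hU (lift T hT fun i hi => chartHom (z i hi) U (hz i hi))

theorem uptOf_comp (hU : IsAffineOpen U) (T : Set α) (hT : T ∈ (𝒰 : Filter α))
    (z : ∀ i, i ∈ T → (Spec (.of (R i)) ⟶ Z)) (hz : ∀ i hi, (z i hi) ⁻¹ᵁ U = ⊤)
    {Z' : Scheme.{u}} (g : Z ⟶ Z') {U' : Z'.Opens} (hU' : IsAffineOpen U') (e : U ≤ g ⁻¹ᵁ U') :
    uptOf hU T hT z hz ≫ g = uptOf hU' T hT (fun i hi => z i hi ≫ g)
      (fun i hi => comp_preimage_eq_top _ (hz i hi) g e) := by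
  unfold uptOf
  rw [pt_comp hU _ g hU' e, lift_comp]
  congr 2
  funext i hi
  rw [chartHom_comp hU _ (hz i hi) g hU' e]

theorem uptOf_precomp {K : α → Type u} [∀ i, CommRing (K i)] (φ : ∀ i, R i →+* K i)
    (hU : IsAffineOpen U) (T : Set α) (hT : T ∈ (𝒰 : Filter α))
    (z : ∀ i, i ∈ T → (Spec (.of (R i)) ⟶ Z)) (hz : ∀ i hi, (z i hi) ⁻¹ᵁ U = ⊤) :
    Spec.map (CommRingCat.ofHom (map (𝒰 := 𝒰) φ)) ≫ uptOf hU T hT z hz =
      uptOf hU T hT (fun i hi => Spec.map (CommRingCat.ofHom (φ i)) ≫ z i hi)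
        (fun i hi => precomp_preimage_eq_top _ (hz i hi) (φ i)) := by
  unfold uptOf
  rw [pt_precomp, map_comp_lift]
  congr 2
  funext i hi
  rw [chartHom_precomp hU _ (hz i hi)]

theorem uptOf_congr (hU : IsAffineOpen U) (T T' : Set α) (hT : T ∈ (𝒰 : Filter α))
    (hT' : T' ∈ (𝒰 : Filter α))
    (z : ∀ i, i ∈ T → (Spec (.of (R i)) ⟶ Z)) (hz : ∀ i hi, (z i hi) ⁻¹ᵁ U = ⊤)
    (z' : ∀ i, i ∈ T' → (Spec (.of (R i)) ⟶ Z)) (hz' : ∀ i hi, (z' i hi) ⁻¹ᵁ U = ⊤)
    (h : ∀ᶠ i in (𝒰 : Filter α), ∀ (hi : i ∈ T) (hi' : i ∈ T'), z i hi = z' i hi') :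
    uptOf hU T hT z hz = uptOf hU T' hT' z' hz' := by
  unfold uptOf
  congr 1
  apply lift_congr
  filter_upwards [h] with i hi h1 h2
  have := hi h1 h2
  congr 1

theorem uptOf_pt (hU : IsAffineOpen U) (T : Set α) (hT : T ∈ (𝒰 : Filter α))
    (ψ : ∀ i, i ∈ T → (Γ(Z, U) →+* R i)) :
    uptOf hU T hT (fun i hi => pt hU (ψ i hi)) (fun _ _ => pt_preimage hU _) =
      pt hU (lift T hT ψ) := by
  unfold uptOf
  congr 2
  funext i hi
  rw [chartHom_pt]

/-- the ultralimit point does not depend on the chart (smaller chart) -/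
theorem uptOf_of_le {O : Z.Opens} (hO : IsAffineOpen O) (hU : IsAffineOpen U) (hle : O ≤ U)
    (T : Set α) (hT : T ∈ (𝒰 : Filter α))
    (z : ∀ i, i ∈ T → (Spec (.of (R i)) ⟶ Z)) (hz : ∀ i hi, (z i hi) ⁻¹ᵁ O = ⊤) :
    uptOf hO T hT z hz = uptOf hU T hT z
      (fun i hi => top_le_iff.mp ((hz i hi).symm.le.trans (Scheme.Hom.preimage_mono _ hle))) := by
  have h1 := uptOf_comp hO T hT z hz (𝟙 Z) hU (by simpa using hle)
  rw [Category.comp_id] at h1
  rw [h1]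
  apply uptOf_congr
  exact Eventually.of_forall fun i hi hi' => Category.comp_id _

/-- selection of an affine chart along an ultrafilter -/
theorem exists_affine_mem_of_isCompact (Ω : Z.Opens) (hΩ : IsCompact (Ω : Set Z)) (z : α → Z)
    (h : ∀ᶠ i in (𝒰 : Filter α), z i ∈ Ω) :
    ∃ W : Z.Opens, IsAffineOpen W ∧ W ≤ Ω ∧ ∀ᶠ i in (𝒰 : Filter α), z i ∈ W := by
  obtain ⟨s, hs, e⟩ := isCompact_iff_finite_and_eq_biUnion_affineOpens.mp hΩ
  have h1 : ∀ᶠ i in (𝒰 : Filter α), ∃ W ∈ s, z i ∈ (W : Z.Opens) := by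
    filter_upwards [h] with i hi
    rw [e] at hi
    simpa using hi
  obtain ⟨W, hW, h2⟩ := (Ultrafilter.eventually_exists_mem_iff hs).mp h1
  refine ⟨W, W.2, ?_, h2⟩
  rw [e]
  exact le_iSup₂ (f := fun (i : Z.affineOpens) (_ : i ∈ s) => (i : Z.Opens)) W hW

/-- **closed immersion + domain**: a point of a domain whose generic point factors through a closed
immersion factors through it -/
theorem exists_lift_of_isClosedImmersion {X Q : Scheme.{u}} (c : X ⟶ Q) [IsClosedImmersion c]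
    {R K : Type u} [CommRing R] [CommRing K] (ι : R →+* K) (hι : Function.Injective ι)
    (q : Spec (.of R) ⟶ Q) (x : Spec (.of K) ⟶ X)
    (h : Spec.map (CommRingCat.ofHom ι) ≫ q = x ≫ c) :
    ∃ l : Spec (.of R) ⟶ X, l ≫ c = q ∧ Spec.map (CommRingCat.ofHom ι) ≫ l = x := by
  have hiso : IsIso (Limits.pullback.snd c q) := by
    apply IsClosedImmersion.isIso_of_injective_of_isAffine
    let s : Spec (.of K) ⟶ Limits.pullback c q :=
      Limits.pullback.lift x (Spec.map (CommRingCat.ofHom ι)) h.symm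
    have hs : s ≫ Limits.pullback.snd c q = Spec.map (CommRingCat.ofHom ι) :=
      Limits.pullback.lift_snd _ _ _
    have h1 : Function.Injective (Spec.map (CommRingCat.ofHom ι)).appTop := by
      have := Scheme.ΓSpecIso_inv_naturality (CommRingCat.ofHom ι)
      have h2 : (Spec.map (CommRingCat.ofHom ι)).appTop =
          (Scheme.ΓSpecIso _).hom ≫ CommRingCat.ofHom ι ≫ (Scheme.ΓSpecIso _).inv := by
        rw [this, Iso.hom_inv_id_assoc]
      rw [h2]
      intro a b hab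
      have h3 : Function.Injective (Scheme.ΓSpecIso (CommRingCat.of K)).inv :=
        (ConcreteCategory.bijective_of_isIso (Scheme.ΓSpecIso (CommRingCat.of K)).inv).1
      have h4 : Function.Injective (Scheme.ΓSpecIso (CommRingCat.of R)).hom :=
        (ConcreteCategory.bijective_of_isIso (Scheme.ΓSpecIso (CommRingCat.of R)).hom).1
      exact h4 (hι (h3 hab))
    rw [← hs, Scheme.Hom.comp_appTop] at h1
    exact Function.Injective.of_comp (f := s.appTop) h1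
  refine ⟨inv (Limits.pullback.snd c q) ≫ Limits.pullback.fst c q, ?_, ?_⟩
  · rw [Category.assoc, Limits.pullback.condition, IsIso.inv_hom_id_assoc]
  · rw [← cancel_mono c, Category.assoc, Category.assoc, Limits.pullback.condition,
      IsIso.inv_hom_id_assoc, h]

end Groth.Agent.Lib.Helper22.UP
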