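import Mathlib
import Groth.Agent.Lib.Helper22UP1
import Groth.Agent.Lib.Helper22UP2
import Groth.Agent.Lib.Helper22UP3
import Groth.Agent.Lib.Helper22UP4
import Groth.Agent.Lib.Helper22UP5

universe u
open Filter AlgebraicGeometry CategoryTheory

namespace Groth.Agent.Lib.Helper22.UP

/-- **Łoś for lifting against a morphism of finite presentation.** -/
theorem eventually_exists_lift {P B : Scheme.{u}} (p : P ⟶ B) [LocallyOfFinitePresentation p]
    {α : Type u} (𝒰 : Ultrafilter α) (R K : α → Type u) [∀ i, CommRing (R i)]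
    [∀ i, CommRing (K i)] [∀ i, IsLocalRing (R i)] [∀ i, IsLocalRing (K i)]
    (ι : ∀ i, R i →+* K i)
    {V : B.Opens} (hV : IsAffineOpen V) {W : P.Opens} (hW : IsAffineOpen W)
    (T : Set α) (hT : T ∈ (𝒰 : Filter α))
    (b : ∀ i, i ∈ T → (Spec (.of (R i)) ⟶ B)) (hb : ∀ i hi, (b i hi) ⁻¹ᵁ V = ⊤)
    (x : ∀ i, i ∈ T → (Spec (.of (K i)) ⟶ P)) (hx : ∀ i hi, (x i hi) ⁻¹ᵁ W = ⊤)
    (hxb : ∀ i hi, x i hi ≫ p = Spec.map (CommRingCat.ofHom (ι i)) ≫ b i hi)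
    (l : Spec (.of (UProd 𝒰 R)) ⟶ P)
    (hl1 : l ≫ p = uptOf hV T hT b hb)
    (hl2 : Spec.map (CommRingCat.ofHom (map (𝒰 := 𝒰) ι)) ≫ l = uptOf hW T hT x hx) :
    ∀ᶠ i in (𝒰 : Filter α), ∀ hi : i ∈ T, ∃ li : Spec (.of (R i)) ⟶ P,
      li ≫ p = b i hi ∧ Spec.map (CommRingCat.ofHom (ι i)) ≫ li = x i hi := by
  -- step 1: a chart around the closed point of `l`
  have hm : l (IsLocalRing.closedPoint (UProd 𝒰 R)) ∈ p ⁻¹ᵁ V := by
    change (IsLocalRing.closedPoint (UProd 𝒰 R)) ∈ (l ≫ p) ⁻¹ᵁ V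
    rw [hl1]
    unfold uptOf
    rw [pt_preimage]
    trivial
  obtain ⟨_, ⟨W', hW', rfl⟩, hmW', hW'V⟩ :=
    P.isBasis_affineOpens.exists_subset_of_mem_open hm (p ⁻¹ᵁ V).2
  replace hW' : IsAffineOpen W' := hW'
  replace hW'V : W' ≤ p ⁻¹ᵁ V := hW'V
  have hlW' : l ⁻¹ᵁ W' = ⊤ := preimage_eq_top_of_closedPoint_mem l W' hmW'
  set lam : Γ(P, W') →+* UProd 𝒰 R := chartHom l W' hlW' with hlam
  have hl : l = pt hW' lam := (pt_chartHom hW' l hlW').symm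
  -- step 2
  set β : ∀ i, i ∈ T → (Γ(B, V) →+* R i) := fun i hi => chartHom (b i hi) V (hb i hi) with hβ
  have h2 : lam.comp (p.appLE V W' hW'V).hom = lift T hT β := by
    apply pt_injective hV
    rw [← pt_comp hW' lam p hV hW'V, ← hl, hl1]
    rfl
  -- step 3
  algebraize [(p.appLE V W' hW'V).hom]
  have hfp : Algebra.FinitePresentation Γ(B, V) Γ(P, W') :=
    Scheme.Hom.finitePresentation_appLE p hV hW' hW'V
  obtain ⟨T', hT', hsub, lam', hlam'1, hlam'2⟩ :=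
    exists_lift_of_finitePresentation (A := Γ(B, V)) (B := Γ(P, W')) T hT β lam h2
  -- step 4
  have h4 : ∀ i (hi : i ∈ T'), pt hW' (lam' i hi) ≫ p = b i (hsub hi) := by
    intro i hi
    rw [pt_comp hW' _ p hV hW'V]
    have := hlam'1 i hi
    change (lam' i hi).comp (p.appLE V W' hW'V).hom = _ at this
    rw [this]
    exact pt_chartHom hV _ _
  -- step 5
  set x' : ∀ i, i ∈ T' → (Spec (.of (K i)) ⟶ P) :=
    fun i hi => Spec.map (CommRingCat.ofHom (ι i)) ≫ pt hW' (lam' i hi) with hx'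
  have hx'W' : ∀ i hi, (x' i hi) ⁻¹ᵁ W' = ⊤ := fun i hi =>
    precomp_preimage_eq_top _ (pt_preimage hW' _) _
  have h5 : Spec.map (CommRingCat.ofHom (map (𝒰 := 𝒰) ι)) ≫ l = uptOf hW' T' hT' x' hx'W' := by
    rw [hl, hlam'2, ← uptOf_pt hW' T' hT' lam', uptOf_precomp]
  let m := IsLocalRing.closedPoint (UProd 𝒰 K)
  let x₀ : P := (Spec.map (CommRingCat.ofHom (map (𝒰 := 𝒰) ι)) ≫ l) m
  have hx₀W : x₀ ∈ W := by
    change m ∈ (Spec.map (CommRingCat.ofHom (map (𝒰 := 𝒰) ι)) ≫ l) ⁻¹ᵁ W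
    rw [hl2]
    unfold uptOf
    rw [pt_preimage]
    trivial
  have hx₀W' : x₀ ∈ W' := by
    change m ∈ (Spec.map (CommRingCat.ofHom (map (𝒰 := 𝒰) ι)) ≫ l) ⁻¹ᵁ W'
    rw [h5]
    unfold uptOf
    rw [pt_preimage]
    trivial
  obtain ⟨h, h', hhh', hx₀O⟩ := exists_basicOpen_le_affine_inter hW hW' x₀ ⟨hx₀W, hx₀W'⟩
  have hOaff : IsAffineOpen (P.basicOpen h) := hW.basicOpen h
  have hOW : P.basicOpen h ≤ W := P.basicOpen_le h
  have hOW' : P.basicOpen h ≤ W' := by rw [hhh']; exact P.basicOpen_le h'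
  have hOV : P.basicOpen h ≤ p ⁻¹ᵁ V := hOW'.trans hW'V
  -- eventually the points lie in `O`
  have h6 : ∀ᶠ i in (𝒰 : Filter α), ∀ hi : i ∈ T, (x i hi) ⁻¹ᵁ (P.basicOpen h) = ⊤ := by
    have h61 : x₀ ∈ P.basicOpen h := hx₀O
    change (Spec.map (CommRingCat.ofHom (map (𝒰 := 𝒰) ι)) ≫ l) m ∈ P.basicOpen h at h61
    rw [hl2] at h61
    unfold uptOf at h61
    rw [pt_closedPoint_mem_basicOpen, isUnit_lift_iff] at h61
    filter_upwards [h61] with i hi hiT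
    apply preimage_eq_top_of_closedPoint_mem
    rw [← pt_chartHom hW (x i hiT) (hx i hiT), pt_closedPoint_mem_basicOpen]
    exact hi hiT
  have h7 : ∀ᶠ i in (𝒰 : Filter α), ∀ hi : i ∈ T', (x' i hi) ⁻¹ᵁ (P.basicOpen h) = ⊤ := by
    have h61 : x₀ ∈ P.basicOpen h' := hhh' ▸ hx₀O
    change (Spec.map (CommRingCat.ofHom (map (𝒰 := 𝒰) ι)) ≫ l) m ∈ P.basicOpen h' at h61
    rw [h5] at h61
    unfold uptOf at h61
    rw [pt_closedPoint_mem_basicOpen, isUnit_lift_iff] at h61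
    filter_upwards [h61] with i hi hiT
    apply preimage_eq_top_of_closedPoint_mem
    rw [← pt_chartHom hW' (x' i hiT) (hx'W' i hiT), hhh', pt_closedPoint_mem_basicOpen]
    exact hi hiT
  -- the set where everything is defined
  let T'' : Set α := (T' ∩ {i | ∀ hi : i ∈ T, (x i hi) ⁻¹ᵁ (P.basicOpen h) = ⊤}) ∩
    {i | ∀ hi : i ∈ T', (x' i hi) ⁻¹ᵁ (P.basicOpen h) = ⊤}
  have hT'' : T'' ∈ (𝒰 : Filter α) := by
    filter_upwards [h6, h7, hT'] with i h1 h2 h3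
    exact ⟨⟨h3, h1⟩, h2⟩
  let a : ∀ i, i ∈ T'' → (Γ(P, P.basicOpen h) →+* K i) := fun i hi =>
    chartHom (x i (hsub hi.1.1)) (P.basicOpen h) (hi.1.2 _)
  let a' : ∀ i, i ∈ T'' → (Γ(P, P.basicOpen h) →+* K i) := fun i hi =>
    chartHom (x' i hi.1.1) (P.basicOpen h) (hi.2 _)
  have hθ : (p.appLE V (P.basicOpen h) hOV).hom.FiniteType :=
    .of_finitePresentation (Scheme.Hom.finitePresentation_appLE p hV hOaff hOV)
  have hc : ∀ i (hi : i ∈ T''), (a i hi).comp (p.appLE V (P.basicOpen h) hOV).hom =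
      (a' i hi).comp (p.appLE V (P.basicOpen h) hOV).hom := by
    intro i hi
    rw [← chartHom_comp hOaff _ _ p hV hOV (comp_preimage_eq_top _ (hi.1.2 _) p hOV),
      ← chartHom_comp hOaff _ _ p hV hOV (comp_preimage_eq_top _ (hi.2 _) p hOV)]
    have e1 : x i (hsub hi.1.1) ≫ p = x' i hi.1.1 ≫ p := by
      rw [hxb]
      change _ = (Spec.map (CommRingCat.ofHom (ι i)) ≫ pt hW' (lam' i hi.1.1)) ≫ p
      rw [Category.assoc, h4]
    congr 1
  have hlift : lift T'' hT'' a = lift T'' hT'' a' := by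
    apply pt_injective hOaff
    have e1 : pt hOaff (lift T'' hT'' a) =
        uptOf hOaff T'' hT'' (fun i hi => x i (hsub hi.1.1)) (fun i hi => hi.1.2 _) := rfl
    have e2 : pt hOaff (lift T'' hT'' a') =
        uptOf hOaff T'' hT'' (fun i hi => x' i hi.1.1) (fun i hi => hi.2 _) := rfl
    rw [e1, e2, uptOf_of_le hOaff hW hOW, uptOf_of_le hOaff hW' hOW']
    rw [uptOf_congr hW T'' T hT'' hT _ _ x hx (Eventually.of_forall fun i hi hi' => rfl), ← hl2,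
      uptOf_congr hW' T'' T' hT'' hT' _ _ x' hx'W' (Eventually.of_forall fun i hi hi' => rfl),
      ← h5]
  have h8 := eventually_eq_of_lift_eq _ hθ T'' hT'' a a' hc hlift
  filter_upwards [h8, hT''] with i h1 hiT'' hiT
  refine ⟨pt hW' (lam' i hiT''.1.1), h4 _ _, ?_⟩
  change x' i hiT''.1.1 = x i hiT
  rw [← pt_chartHom hOaff (x' i hiT''.1.1) (hiT''.2 _), ← pt_chartHom hOaff (x i hiT) (hiT''.1.2 _)]
  exact congrArg _ (h1 hiT'').symm

end Groth.Agent.Lib.Helper22.UP
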