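import Mathlib
import Groth.Agent.Lib.Helper22UP1
import Groth.Agent.Lib.Helper22UP2
import Groth.Agent.Lib.Helper22UP3
import Groth.Agent.Lib.Helper22UP4
import Groth.Agent.Lib.Helper22UP5
import Groth.Agent.Lib.Helper22UP6

universe u
open Filter AlgebraicGeometry CategoryTheory Opposite Limits

namespace Groth.Agent.Lib.Helper22.UP

section system

variable {α : Type u} [PartialOrder α]
  {D : αᵒᵖ ⥤ Scheme.{u}} {Z : Scheme.{u}} (t : D ⟶ (Functor.const _).obj Z)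

theorem nat_const {a b : αᵒᵖ} (w : a ⟶ b) : D.map w ≫ t.app b = t.app a := by
  simpa using t.naturality w

variable [∀ i, IsAffineHom (t.app i)]
  (𝒰 : Ultrafilter α) (h𝒰 : ∀ j, Set.Ici j ∈ (𝒰 : Filter α))
  {R : α → Type u} [∀ i, CommRing (R i)]
  {U : Z.Opens} (hU : IsAffineOpen U) (T : Set α) (hT : T ∈ (𝒰 : Filter α))
  (z : ∀ i, Spec (.of (R i)) ⟶ D.obj (op i))
  (hz : ∀ i, i ∈ T → (z i ≫ t.app (op i)) ⁻¹ᵁ U = ⊤)

omit [∀ i, IsAffineHom (t.app i)] in
include hz in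
theorem sysPt_aux (j : α) (i : α) (hi : i ∈ T ∩ Set.Ici j) :
    (z i ≫ D.map (homOfLE hi.2).op) ⁻¹ᵁ ((t.app (op j)) ⁻¹ᵁ U) = ⊤ := by
  rw [← Scheme.Hom.comp_preimage, Category.assoc, nat_const]
  exact hz i hi.1

/-- the components of the ultralimit point of an inverse system -/
noncomputable def sysPt (j : α) : Spec (.of (UProd 𝒰 R)) ⟶ D.obj (op j) :=
  uptOf (hU.preimage (t.app (op j))) (T ∩ Set.Ici j) (inter_mem hT (h𝒰 j))
    (fun i hi => z i ≫ D.map (homOfLE hi.2).op) (sysPt_aux t T z hz j)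

theorem sysPt_map (j j' : α) (h : j ≤ j') :
    sysPt t 𝒰 h𝒰 hU T hT z hz j' ≫ D.map (homOfLE h).op = sysPt t 𝒰 h𝒰 hU T hT z hz j := by
  unfold sysPt
  rw [uptOf_comp _ _ _ _ _ (D.map (homOfLE h).op) (hU.preimage (t.app (op j)))
    (le_of_eq (by rw [← Scheme.Hom.comp_preimage, nat_const]))]
  apply uptOf_congr
  refine Eventually.of_forall fun i hi hi' => ?_
  rw [Category.assoc, ← D.map_comp]
  rfl

theorem sysPt_t (j : α) :
    sysPt t 𝒰 h𝒰 hU T hT z hz j ≫ t.app (op j) =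
      uptOf hU T hT (fun i _ => z i ≫ t.app (op i)) hz := by
  unfold sysPt
  rw [uptOf_comp _ _ _ _ _ (t.app (op j)) hU le_rfl]
  apply uptOf_congr
  refine Eventually.of_forall fun i hi hi' => ?_
  rw [Category.assoc, nat_const]

/-- the cone of the ultralimit point -/
noncomputable def sysCone : Cone D where
  pt := Spec (.of (UProd 𝒰 R))
  π :=
    { app := fun j => sysPt t 𝒰 h𝒰 hU T hT z hz j.unop
      naturality := fun j j' w => by
        have h : j'.unop ≤ j.unop := leOfHom w.unop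
        have := sysPt_map t 𝒰 h𝒰 hU T hT z hz j'.unop j.unop h
        simp only [Functor.const_obj_obj, Functor.const_obj_map, Category.id_comp]
        rw [← this]
        rfl }

end system

section two

variable {α : Type u} [PartialOrder α]
  {DX DS : αᵒᵖ ⥤ Scheme.{u}} (φ : DX ⟶ DS)
  {B P : Scheme.{u}} (t : DS ⟶ (Functor.const _).obj B) (p : P ⟶ B)
  (e : DX ⟶ (Functor.const _).obj P)
  (he : ∀ i, e.app i ≫ p = φ.app i ≫ t.app i)
  [∀ i, IsAffineHom (t.app i)] [∀ i, IsAffineHom (e.app i)]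
  (𝒰 : Ultrafilter α) (h𝒰 : ∀ j, Set.Ici j ∈ (𝒰 : Filter α))
  {R K : α → Type u} [∀ i, CommRing (R i)] [∀ i, CommRing (K i)] (ι : ∀ i, R i →+* K i)
  (i₁ : ∀ i, Spec (.of (K i)) ⟶ DX.obj (op i)) (i₂ : ∀ i, Spec (.of (R i)) ⟶ DS.obj (op i))
  (hsq : ∀ i, i₁ i ≫ φ.app (op i) = Spec.map (CommRingCat.ofHom (ι i)) ≫ i₂ i)
  {V : B.Opens} (hV : IsAffineOpen V) {W : P.Opens} (hW : IsAffineOpen W) (hWV : W ≤ p ⁻¹ᵁ V)
  (T : Set α) (hT : T ∈ (𝒰 : Filter α))
  (hb : ∀ i, i ∈ T → (i₂ i ≫ t.app (op i)) ⁻¹ᵁ V = ⊤)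
  (hp : ∀ i, i ∈ T → (i₁ i ≫ e.app (op i)) ⁻¹ᵁ W = ⊤)

include he hWV in
theorem chart_le (j : αᵒᵖ) : (e.app j) ⁻¹ᵁ W ≤ (φ.app j) ⁻¹ᵁ ((t.app j) ⁻¹ᵁ V) := by
  rw [← Scheme.Hom.comp_preimage, ← he, Scheme.Hom.comp_preimage]
  exact Scheme.Hom.preimage_mono _ hWV

include he hWV hsq in
theorem sysPt_φ (j : α) :
    sysPt e 𝒰 h𝒰 hW T hT i₁ hp j ≫ φ.app (op j) =
      Spec.map (CommRingCat.ofHom (map (𝒰 := 𝒰) ι)) ≫ sysPt t 𝒰 h𝒰 hV T hT i₂ hb j := by
  unfold sysPt
  rw [uptOf_comp _ _ _ _ _ (φ.app (op j)) (hV.preimage (t.app (op j)))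
    (chart_le φ t p e he hWV (op j)), uptOf_precomp]
  apply uptOf_congr
  refine Eventually.of_forall fun i hi hi' => ?_
  rw [Category.assoc, φ.naturality, ← Category.assoc, hsq, Category.assoc]

end two

set_option maxHeartbeats 1600000 in
/-- **core**: for a family of valuative squares over the stages of an inverse system whose limit
satisfies the existence part of the valuative criterion, some square has a lift. -/
theorem exists_lift_core {α : Type u} [PartialOrder α] [Nonempty α]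
    {DX DS : αᵒᵖ ⥤ Scheme.{u}} (φ : DX ⟶ DS) {cX : Cone DX} {cS : Cone DS}
    (hX : IsLimit cX) (hS : IsLimit cS)
    (f : cX.pt ⟶ cS.pt) (hf : ∀ i, f ≫ cS.π.app i = cX.π.app i ≫ φ.app i)
    {B P : Scheme.{u}} (t : DS ⟶ (Functor.const _).obj B) (p : P ⟶ B)
    (e : DX ⟶ (Functor.const _).obj P)
    (he : ∀ i, e.app i ≫ p = φ.app i ≫ t.app i)
    [CompactSpace B] [QuasiCompact p] [LocallyOfFinitePresentation p]
    [∀ i, IsAffineHom (t.app i)] [∀ i, IsAffineHom (e.app i)]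
    (hcl : ∀ i, IsClosedImmersion (pullback.lift (e.app i) (φ.app i) (he i)))
    (hval : ValuativeCriterion.Existence f)
    (𝒰 : Ultrafilter α) (h𝒰 : ∀ j, Set.Ici j ∈ (𝒰 : Filter α))
    (R K : α → Type u) [∀ i, CommRing (R i)] [∀ i, IsDomain (R i)] [∀ i, ValuationRing (R i)]
    [∀ i, Field (K i)] [∀ i, Algebra (R i) (K i)] [∀ i, IsFractionRing (R i) (K i)]
    (i₁ : ∀ i, Spec (.of (K i)) ⟶ DX.obj (op i)) (i₂ : ∀ i, Spec (.of (R i)) ⟶ DS.obj (op i))
    (hsq : ∀ i, i₁ i ≫ φ.app (op i) =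
      Spec.map (CommRingCat.ofHom (algebraMap (R i) (K i))) ≫ i₂ i) :
    ∃ i, ∃ l : Spec (.of (R i)) ⟶ DX.obj (op i),
      Spec.map (CommRingCat.ofHom (algebraMap (R i) (K i))) ≫ l = i₁ i ∧
        l ≫ φ.app (op i) = i₂ i := by
  classical
  let ι : ∀ i, R i →+* K i := fun i => algebraMap (R i) (K i)
  -- choose `V`
  obtain ⟨V, hV, -, hVmem⟩ := exists_affine_mem_of_isCompact (𝒰 := 𝒰) (⊤ : B.Opens)
    (by simpa using isCompact_univ)
    (fun i => (i₂ i ≫ t.app (op i)) (IsLocalRing.closedPoint (R i)))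
    (Eventually.of_forall fun _ => trivial)
  have hb' : ∀ᶠ i in (𝒰 : Filter α), (i₂ i ≫ t.app (op i)) ⁻¹ᵁ V = ⊤ := by
    filter_upwards [hVmem] with i hi
    exact preimage_eq_top_of_closedPoint_mem _ V hi
  -- choose `W`
  have hΩ : IsCompact ((p ⁻¹ᵁ V : P.Opens) : Set P) :=
    QuasiCompact.isCompact_preimage (f := p) _ V.2 hV.isCompact
  obtain ⟨W, hW, hWV, hWmem⟩ := exists_affine_mem_of_isCompact (𝒰 := 𝒰) (p ⁻¹ᵁ V) hΩ
    (fun i => (i₁ i ≫ e.app (op i)) (IsLocalRing.closedPoint (K i))) (by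
      filter_upwards [hb'] with i hi
      change IsLocalRing.closedPoint (K i) ∈ (i₁ i ≫ e.app (op i)) ⁻¹ᵁ (p ⁻¹ᵁ V)
      rw [← Scheme.Hom.comp_preimage, Category.assoc, he, ← Category.assoc, hsq, Category.assoc,
        precomp_preimage_eq_top _ hi]
      trivial)
  have hp' : ∀ᶠ i in (𝒰 : Filter α), (i₁ i ≫ e.app (op i)) ⁻¹ᵁ W = ⊤ := by
    filter_upwards [hWmem] with i hi
    exact preimage_eq_top_of_closedPoint_mem _ W hi
  let T : Set α := {i | (i₂ i ≫ t.app (op i)) ⁻¹ᵁ V = ⊤} ∩ {i | (i₁ i ≫ e.app (op i)) ⁻¹ᵁ W = ⊤}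
  have hT : T ∈ (𝒰 : Filter α) := inter_mem hb' hp'
  have hb : ∀ i, i ∈ T → (i₂ i ≫ t.app (op i)) ⁻¹ᵁ V = ⊤ := fun i hi => hi.1
  have hp : ∀ i, i ∈ T → (i₁ i ≫ e.app (op i)) ⁻¹ᵁ W = ⊤ := fun i hi => hi.2
  -- limit points
  let yC := sysCone t 𝒰 h𝒰 hV T hT i₂ hb
  let xC := sysCone e 𝒰 h𝒰 hW T hT i₁ hp
  let y : Spec (.of (UProd 𝒰 R)) ⟶ cS.pt := hS.lift yC
  let x : Spec (.of (UProd 𝒰 K)) ⟶ cX.pt := hX.lift xC
  have hy : ∀ j : α, y ≫ cS.π.app (op j) = sysPt t 𝒰 h𝒰 hV T hT i₂ hb j := fun j =>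
    hS.fac yC (op j)
  have hx : ∀ j : α, x ≫ cX.π.app (op j) = sysPt e 𝒰 h𝒰 hW T hT i₁ hp j := fun j =>
    hX.fac xC (op j)
  have hxy : x ≫ f = Spec.map (CommRingCat.ofHom (map (𝒰 := 𝒰) ι)) ≫ y := by
    refine hS.hom_ext fun j => ?_
    obtain ⟨j⟩ := j
    rw [Category.assoc, hf, ← Category.assoc, hx j, Category.assoc, hy j]
    exact sysPt_φ φ t p e he 𝒰 h𝒰 ι i₁ i₂ hsq hV hW hWV T hT hb hp j
  -- the valuative square
  letI := field 𝒰 K
  letI := algebra 𝒰 R K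
  haveI := isFractionRing 𝒰 R K
  let Sq : ValuativeCommSq f :=
    { R := UProd 𝒰 R, K := UProd 𝒰 K, i₁ := x, i₂ := y, commSq := ⟨hxy⟩ }
  obtain ⟨⟨l, hl1, hl2⟩⟩ := (hval Sq).exists_lift
  change Spec.map (CommRingCat.ofHom (map (𝒰 := 𝒰) ι)) ≫ l = x at hl1
  change l ≫ f = y at hl2
  let j₀ : α := Classical.arbitrary α
  let lP : Spec (.of (UProd 𝒰 R)) ⟶ P := l ≫ cX.π.app (op j₀) ≫ e.app (op j₀)
  have hlP1 : lP ≫ p = uptOf hV T hT (fun i _ => i₂ i ≫ t.app (op i)) hb := by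
    change (l ≫ cX.π.app (op j₀) ≫ e.app (op j₀)) ≫ p = _
    rw [Category.assoc, Category.assoc, he, ← Category.assoc (cX.π.app (op j₀)), ← hf,
      Category.assoc, ← Category.assoc l, hl2, ← Category.assoc, hy j₀]
    exact sysPt_t t 𝒰 h𝒰 hV T hT i₂ hb j₀
  have hlP2 : Spec.map (CommRingCat.ofHom (map (𝒰 := 𝒰) ι)) ≫ lP =
      uptOf hW T hT (fun i _ => i₁ i ≫ e.app (op i)) hp := by
    change _ ≫ (l ≫ cX.π.app (op j₀) ≫ e.app (op j₀)) = _
    rw [← Category.assoc, hl1, ← Category.assoc, hx j₀]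
    exact sysPt_t e 𝒰 h𝒰 hW T hT i₁ hp j₀
  have key := eventually_exists_lift p 𝒰 R K ι hV hW T hT (fun i _ => i₂ i ≫ t.app (op i)) hb
    (fun i _ => i₁ i ≫ e.app (op i)) hp (fun i _ => by
      rw [Category.assoc, he, ← Category.assoc, hsq, Category.assoc]) lP hlP1 hlP2
  obtain ⟨i, hi, hiT⟩ := (key.and hT).exists
  obtain ⟨li, h1, h2⟩ := hi hiT
  haveI := hcl (op i)
  let q : Spec (.of (R i)) ⟶ pullback p (t.app (op i)) := pullback.lift li (i₂ i) h1
  have hq : Spec.map (CommRingCat.ofHom (ι i)) ≫ q =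
      i₁ i ≫ pullback.lift (e.app (op i)) (φ.app (op i)) (he (op i)) := by
    apply pullback.hom_ext
    · rw [Category.assoc, pullback.lift_fst, Category.assoc, pullback.lift_fst, h2]
    · rw [Category.assoc, pullback.lift_snd, Category.assoc, pullback.lift_snd, hsq]
  obtain ⟨ℓ, hℓ1, hℓ2⟩ := exists_lift_of_isClosedImmersion
    (pullback.lift (e.app (op i)) (φ.app (op i)) (he (op i))) (ι i)
    (IsFractionRing.injective (R i) (K i)) q (i₁ i) hq
  refine ⟨i, ℓ, hℓ2, ?_⟩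
  have := congrArg (· ≫ pullback.snd p (t.app (op i))) hℓ1
  rw [Category.assoc, pullback.lift_snd] at this
  rw [this]
  exact pullback.lift_snd _ _ _

set_option backward.isDefEq.respectTransparency.types false in
/-- **eventual universal closedness, directed poset version** -/
theorem exists_universallyClosed_poset {α : Type u} [PartialOrder α] [IsDirected α (· ≤ ·)]
    [Nonempty α]
    {DX DS : αᵒᵖ ⥤ Scheme.{u}} (φ : DX ⟶ DS) {cX : Cone DX} {cS : Cone DS}
    (hX : IsLimit cX) (hS : IsLimit cS)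
    (f : cX.pt ⟶ cS.pt) (hf : ∀ i, f ≫ cS.π.app i = cX.π.app i ≫ φ.app i)
    {B P : Scheme.{u}} (t : DS ⟶ (Functor.const _).obj B) (p : P ⟶ B)
    (e : DX ⟶ (Functor.const _).obj P)
    (he : ∀ i, e.app i ≫ p = φ.app i ≫ t.app i)
    [CompactSpace B] [QuasiCompact p] [LocallyOfFinitePresentation p]
    [∀ i, IsAffineHom (t.app i)]
    (hcl : ∀ i, IsClosedImmersion (pullback.lift (e.app i) (φ.app i) (he i)))
    [UniversallyClosed f] : ∃ i, UniversallyClosed (φ.app i) := by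
  have haff : ∀ i, IsAffineHom (e.app i) := fun i => by
    have := hcl i
    have h1 : IsAffineHom (pullback.fst p (t.app i)) :=
      MorphismProperty.pullback_fst (P := @IsAffineHom) _ _ inferInstance
    have : e.app i = pullback.lift (e.app i) (φ.app i) (he i) ≫ pullback.fst p (t.app i) :=
      (pullback.lift_fst _ _ _).symm
    rw [this]
    infer_instance
  have hqc : ∀ i, QuasiCompact (φ.app i) := fun i => by
    have := hcl i
    have h1 : QuasiCompact (pullback.snd p (t.app i)) :=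
      MorphismProperty.pullback_snd (P := @QuasiCompact) _ _ inferInstance
    have : φ.app i = pullback.lift (e.app i) (φ.app i) (he i) ≫ pullback.snd p (t.app i) :=
      (pullback.lift_snd _ _ _).symm
    rw [this]
    infer_instance
  by_contra! H
  have H' : ∀ j : α, ∃ Sq : ValuativeCommSq (φ.app (op j)), ¬ Sq.commSq.HasLift := by
    intro j
    by_contra! h
    exact H (op j) (UniversallyClosed.of_valuativeCriterion _ h)
  choose Sq hSq using H'
  let 𝒰 : Ultrafilter α := Ultrafilter.of atTop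
  have h𝒰 : ∀ j, Set.Ici j ∈ (𝒰 : Filter α) := fun j =>
    Ultrafilter.of_le atTop (Filter.mem_atTop j)
  have hval : ValuativeCriterion.Existence f := by
    have h1 : UniversallyClosed f := inferInstance
    rw [UniversallyClosed.eq_valuativeCriterion] at h1
    exact h1.1
  obtain ⟨i, l, h1, h2⟩ := exists_lift_core φ hX hS f hf t p e he hcl hval 𝒰 h𝒰
    (fun i => (Sq i).R) (fun i => (Sq i).K) (fun i => (Sq i).i₁) (fun i => (Sq i).i₂)
    (fun i => (Sq i).commSq.w)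
  exact hSq i ⟨⟨⟨l, h1, h2⟩⟩⟩

/-- **eventual universal closedness**: if the limit of an inverse system of morphisms
`X_i → S_i`, each a closed subscheme of a base change of a fixed finitely presented `P → B`
along affine maps `S_i → B`, is universally closed, then some `X_i → S_i` is universally closed. -/
theorem exists_universallyClosed {I : Type u} [SmallCategory I] [IsCofiltered I]
    {DX DS : I ⥤ Scheme.{u}} (φ : DX ⟶ DS) {cX : Cone DX} {cS : Cone DS}
    (hX : IsLimit cX) (hS : IsLimit cS)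
    (f : cX.pt ⟶ cS.pt) (hf : ∀ i, f ≫ cS.π.app i = cX.π.app i ≫ φ.app i)
    {B P : Scheme.{u}} (t : DS ⟶ (Functor.const _).obj B) (p : P ⟶ B)
    (e : DX ⟶ (Functor.const _).obj P)
    (he : ∀ i, e.app i ≫ p = φ.app i ≫ t.app i)
    [CompactSpace B] [QuasiCompact p] [LocallyOfFinitePresentation p]
    [∀ i, IsAffineHom (t.app i)]
    (hcl : ∀ i, IsClosedImmersion (pullback.lift (e.app i) (φ.app i) (he i)))
    [UniversallyClosed f] : ∃ i, UniversallyClosed (φ.app i) := by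
  obtain ⟨α, _, _, _, F, hF⟩ := IsFiltered.exists_directed Iᵒᵖ
  let G : αᵒᵖ ⥤ I := F.leftOp
  have hG : G.Initial := inferInstance
  let t' : G ⋙ DS ⟶ (Functor.const _).obj B :=
    { app := fun i => t.app (G.obj i)
      naturality := fun i j w => by simpa using t.naturality (G.map w) }
  let e' : G ⋙ DX ⟶ (Functor.const _).obj P :=
    { app := fun i => e.app (G.obj i)
      naturality := fun i j w => by simpa using e.naturality (G.map w) }
  have : ∀ i, IsAffineHom (t'.app i) := fun i => inferInstanceAs (IsAffineHom (t.app (G.obj i)))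
  obtain ⟨i, hi⟩ := exists_universallyClosed_poset (Functor.whiskerLeft G φ)
    ((Functor.Initial.isLimitWhiskerEquiv G cX).symm hX)
    ((Functor.Initial.isLimitWhiskerEquiv G cS).symm hS) f (fun i => hf (G.obj i)) t' p e'
    (fun i => he (G.obj i)) (fun i => hcl (G.obj i))
  exact ⟨G.obj i, hi⟩

end Groth.Agent.Lib.Helper22.UP
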