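import Mathlib
import Groth.Agent.Lib.Helper22NA14
import Groth.Agent.Lib.Helper22LimClosed

universe u
open CategoryTheory Limits AlgebraicGeometry Opposite

namespace Groth.Agent.Lib.Helper22.NA15

open Groth.Agent.Lib.Helper22

section diag

variable {C : Type*} [Category C] [HasPullbacks C] {E' E S : C} (m : E' ⟶ E) (t : E ⟶ S)

/-- the map `E' ×_S E' → E ×_S E` induced by `m` -/
noncomputable def mm : pullback (m ≫ t) (m ≫ t) ⟶ pullback t t :=
  pullback.map (m ≫ t) (m ≫ t) t t m m (𝟙 S) (Category.comp_id _) (Category.comp_id _)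

@[reassoc (attr := simp)]
theorem mm_fst : mm m t ≫ pullback.fst t t = pullback.fst _ _ ≫ m := pullback.lift_fst _ _ _

@[reassoc (attr := simp)]
theorem mm_snd : mm m t ≫ pullback.snd t t = pullback.snd _ _ ≫ m := pullback.lift_snd _ _ _

theorem diagonal_mm : pullback.diagonal (m ≫ t) ≫ mm m t = m ≫ pullback.diagonal t := by
  apply pullback.hom_ext <;> simp

/-- for a monomorphism `m`, the diagonal of `E'` is the pullback of the diagonal of `E`. -/
theorem isPullback_diagonal_mono [Mono m] :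
    IsPullback m (pullback.diagonal (m ≫ t)) (pullback.diagonal t) (mm m t) := by
  refine ⟨⟨(diagonal_mm m t).symm⟩, ⟨PullbackCone.IsLimit.mk _
    (fun s => s.snd ≫ pullback.fst _ _) (fun s => ?_) (fun s => ?_) (fun s l h1 h2 => ?_)⟩⟩
  · have h := s.condition
    have h1 := congr($h ≫ pullback.fst t t)
    simp only [Category.assoc, pullback.diagonal_fst, Category.comp_id, mm_fst] at h1
    rw [Category.assoc]
    exact h1.symm
  · have h := s.condition
    have h1 := congr($h ≫ pullback.fst t t)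
    have h2 := congr($h ≫ pullback.snd t t)
    simp only [Category.assoc, pullback.diagonal_fst, pullback.diagonal_snd, Category.comp_id,
      mm_fst, mm_snd] at h1 h2
    have h3 : s.snd ≫ pullback.fst (m ≫ t) (m ≫ t) = s.snd ≫ pullback.snd (m ≫ t) (m ≫ t) := by
      rw [← cancel_mono m, Category.assoc, Category.assoc, ← h1, ← h2]
    apply pullback.hom_ext
    · simp
    · simp only [Category.assoc, pullback.diagonal_snd, Category.comp_id]
      exact h3
  · have := congr($h2 ≫ pullback.fst _ _)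
    simp only [Category.assoc, pullback.diagonal_fst, Category.comp_id] at this
    exact this

/-- variant with a propositional equation `m ≫ t = t'` -/
theorem isPullback_diagonal_mono' [Mono m] {t' : E' ⟶ S} (h : m ≫ t = t') :
    IsPullback m (pullback.diagonal t') (pullback.diagonal t)
      (pullback.map t' t' t t m m (𝟙 S) (by rw [Category.comp_id, h])
        (by rw [Category.comp_id, h])) := by
  subst h
  exact isPullback_diagonal_mono m t

end diag

section prodsys

/-- the map `A ×_S A → B ×_S B` induced by an `S`-morphism `m : A → B` -/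
noncomputable def pm {A B S : Scheme.{u}} (tA : A ⟶ S) (tB : B ⟶ S) (m : A ⟶ B)
    (h : m ≫ tB = tA) : pullback tA tA ⟶ pullback tB tB :=
  pullback.map tA tA tB tB m m (𝟙 S) (by rw [Category.comp_id, h]) (by rw [Category.comp_id, h])

@[reassoc (attr := simp)]
theorem pm_fst {A B S : Scheme.{u}} (tA : A ⟶ S) (tB : B ⟶ S) (m : A ⟶ B) (h : m ≫ tB = tA) :
    pm tA tB m h ≫ pullback.fst tB tB = pullback.fst tA tA ≫ m := pullback.lift_fst _ _ _

@[reassoc (attr := simp)]
theorem pm_snd {A B S : Scheme.{u}} (tA : A ⟶ S) (tB : B ⟶ S) (m : A ⟶ B) (h : m ≫ tB = tA) :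
    pm tA tB m h ≫ pullback.snd tB tB = pullback.snd tA tA ≫ m := pullback.lift_snd _ _ _

theorem isPullback_pm {A B S : Scheme.{u}} (tA : A ⟶ S) (tB : B ⟶ S) (m : A ⟶ B) [Mono m]
    (h : m ≫ tB = tA) :
    IsPullback m (pullback.diagonal tA) (pullback.diagonal tB) (pm tA tB m h) :=
  isPullback_diagonal_mono' m tB h

theorem range_diagonal_eq {A B S : Scheme.{u}} (tA : A ⟶ S) (tB : B ⟶ S) (m : A ⟶ B) [Mono m]
    (h : m ≫ tB = tA) :
    Set.range (pullback.diagonal tA) = (pm tA tB m h) ⁻¹' Set.range (pullback.diagonal tB) := by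
  have := Scheme.image_preimage_eq_of_isPullback (isPullback_pm tA tB m h) Set.univ
  rw [Set.preimage_univ, Set.image_univ, Set.image_univ] at this
  exact this

set_option backward.isDefEq.respectTransparency.types false in
theorem isAffineHom_pm {A B S : Scheme.{u}} (tA : A ⟶ S) (tB : B ⟶ S) (m : A ⟶ B)
    [IsAffineHom m] (h : m ≫ tB = tA) : IsAffineHom (pm tA tB m h) :=
  MorphismProperty.pullbackMap (P := @IsAffineHom) ‹_› ‹_› h.symm h.symm

variable {𝒦 : Type u} [SmallCategory 𝒦] (E : 𝒦 ⥤ Scheme.{u}) (cE : Cone E)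
  {S : Scheme.{u}} (t : ∀ x, E.obj x ⟶ S) (ht : ∀ {x y : 𝒦} (a : x ⟶ y), E.map a ≫ t y = t x)
  (f : cE.pt ⟶ S) (hf : ∀ x, cE.π.app x ≫ t x = f)

/-- the system `E_x ×_S E_x` -/
noncomputable def F : 𝒦 ⥤ Scheme.{u} where
  obj x := pullback (t x) (t x)
  map {x y} a := pm (t x) (t y) (E.map a) (ht a)
  map_id x := by
    apply pullback.hom_ext <;> simp
  map_comp a b := by
    apply pullback.hom_ext <;> simp

/-- the cone `X ×_S X` -/
noncomputable def cF : Cone (F E t ht) where
  pt := pullback f f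
  π :=
    { app := fun x => pm f (t x) (cE.π.app x) (hf x)
      naturality := fun x y a => by
        change 𝟙 _ ≫ pm f (t y) (cE.π.app y) (hf y) =
          pm f (t x) (cE.π.app x) (hf x) ≫ pm (t x) (t y) (E.map a) (ht a)
        apply pullback.hom_ext <;> simp }

/-- first projection -/
noncomputable def Ffst (x : 𝒦) : (F E t ht).obj x ⟶ E.obj x := pullback.fst (t x) (t x)

/-- second projection -/
noncomputable def Fsnd (x : 𝒦) : (F E t ht).obj x ⟶ E.obj x := pullback.snd (t x) (t x)

theorem F_cond (x : 𝒦) : Ffst E t ht x ≫ t x = Fsnd E t ht x ≫ t x := pullback.condition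

theorem F_ext {T : Scheme.{u}} {x : 𝒦} (a b : T ⟶ (F E t ht).obj x)
    (h1 : a ≫ Ffst E t ht x = b ≫ Ffst E t ht x) (h2 : a ≫ Fsnd E t ht x = b ≫ Fsnd E t ht x) :
    a = b := pullback.hom_ext h1 h2

@[reassoc]
theorem F_map_fst {x y : 𝒦} (a : x ⟶ y) :
    (F E t ht).map a ≫ Ffst E t ht y = Ffst E t ht x ≫ E.map a := pm_fst _ _ _ (ht a)

@[reassoc]
theorem F_map_snd {x y : 𝒦} (a : x ⟶ y) :
    (F E t ht).map a ≫ Fsnd E t ht y = Fsnd E t ht x ≫ E.map a := pm_snd _ _ _ (ht a)

/-- first projection of the cone point -/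
noncomputable def cFfst : (cF E cE t ht f hf).pt ⟶ cE.pt := pullback.fst f f

/-- second projection of the cone point -/
noncomputable def cFsnd : (cF E cE t ht f hf).pt ⟶ cE.pt := pullback.snd f f

theorem cF_ext {T : Scheme.{u}} (a b : T ⟶ (cF E cE t ht f hf).pt)
    (h1 : a ≫ cFfst E cE t ht f hf = b ≫ cFfst E cE t ht f hf)
    (h2 : a ≫ cFsnd E cE t ht f hf = b ≫ cFsnd E cE t ht f hf) : a = b :=
  pullback.hom_ext h1 h2

@[reassoc]
theorem cF_π_fst (x : 𝒦) : (cF E cE t ht f hf).π.app x ≫ Ffst E t ht x =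
    cFfst E cE t ht f hf ≫ cE.π.app x := pm_fst _ _ _ (hf x)

@[reassoc]
theorem cF_π_snd (x : 𝒦) : (cF E cE t ht f hf).π.app x ≫ Fsnd E t ht x =
    cFsnd E cE t ht f hf ≫ cE.π.app x := pm_snd _ _ _ (hf x)

/-- projections of a cone over `F` to cones over `E` -/
noncomputable def coneFst (s : Cone (F E t ht)) : Cone E where
  pt := s.pt
  π :=
    { app := fun x => s.π.app x ≫ Ffst E t ht x
      naturality := fun x y a => by
        have h := s.w a
        change 𝟙 _ ≫ s.π.app y ≫ Ffst E t ht y = (s.π.app x ≫ Ffst E t ht x) ≫ E.map a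
        rw [Category.id_comp, ← h, Category.assoc, F_map_fst, Category.assoc] }

noncomputable def coneSnd (s : Cone (F E t ht)) : Cone E where
  pt := s.pt
  π :=
    { app := fun x => s.π.app x ≫ Fsnd E t ht x
      naturality := fun x y a => by
        have h := s.w a
        change 𝟙 _ ≫ s.π.app y ≫ Fsnd E t ht y = (s.π.app x ≫ Fsnd E t ht x) ≫ E.map a
        rw [Category.id_comp, ← h, Category.assoc, F_map_snd, Category.assoc] }

variable (hE : IsLimit cE)

/-- first component of the lift -/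
noncomputable def l1 (s : Cone (F E t ht)) : s.pt ⟶ cE.pt := hE.lift (coneFst E t ht s)

/-- second component of the lift -/
noncomputable def l2 (s : Cone (F E t ht)) : s.pt ⟶ cE.pt := hE.lift (coneSnd E t ht s)

@[reassoc]
theorem l1_π (s : Cone (F E t ht)) (x : 𝒦) :
    l1 E cE t ht hE s ≫ cE.π.app x = s.π.app x ≫ Ffst E t ht x := hE.fac (coneFst E t ht s) x

@[reassoc]
theorem l2_π (s : Cone (F E t ht)) (x : 𝒦) :
    l2 E cE t ht hE s ≫ cE.π.app x = s.π.app x ≫ Fsnd E t ht x := hE.fac (coneSnd E t ht s) x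

include hf in
theorem l_cond [Nonempty 𝒦] (s : Cone (F E t ht)) :
    l1 E cE t ht hE s ≫ f = l2 E cE t ht hE s ≫ f := by
  obtain ⟨x₀⟩ := ‹Nonempty 𝒦›
  rw [← hf x₀, l1_π_assoc, l2_π_assoc, F_cond]

/-- the lift -/
noncomputable def lF [Nonempty 𝒦] (s : Cone (F E t ht)) : s.pt ⟶ (cF E cE t ht f hf).pt :=
  pullback.lift _ _ (l_cond E cE t ht f hf hE s)

@[reassoc]
theorem lF_fst [Nonempty 𝒦] (s : Cone (F E t ht)) :
    lF E cE t ht f hf hE s ≫ cFfst E cE t ht f hf = l1 E cE t ht hE s := pullback.lift_fst _ _ _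

@[reassoc]
theorem lF_snd [Nonempty 𝒦] (s : Cone (F E t ht)) :
    lF E cE t ht f hf hE s ≫ cFsnd E cE t ht f hf = l2 E cE t ht hE s := pullback.lift_snd _ _ _

include hE in
theorem isLimit_cF [Nonempty 𝒦] : Nonempty (IsLimit (cF E cE t ht f hf)) := by
  refine ⟨{ lift := fun s => lF E cE t ht f hf hE s
            fac := fun s x => ?_
            uniq := fun s m hm => ?_ }⟩
  · apply F_ext
    · rw [Category.assoc, cF_π_fst, lF_fst_assoc, l1_π]
    · rw [Category.assoc, cF_π_snd, lF_snd_assoc, l2_π]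
  · apply cF_ext
    · rw [lF_fst]
      refine hE.uniq (coneFst E t ht s) (m ≫ cFfst E cE t ht f hf) fun x => ?_
      change (m ≫ cFfst E cE t ht f hf) ≫ cE.π.app x = s.π.app x ≫ Ffst E t ht x
      rw [← hm x, Category.assoc, Category.assoc, cF_π_fst]
    · rw [lF_snd]
      refine hE.uniq (coneSnd E t ht s) (m ≫ cFsnd E cE t ht f hf) fun x => ?_
      change (m ≫ cFsnd E cE t ht f hf) ≫ cE.π.app x = s.π.app x ≫ Fsnd E t ht x
      rw [← hm x, Category.assoc, Category.assoc, cF_π_snd]

/-- the diagonal, typed into `F` -/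
noncomputable def Fdiag (x : 𝒦) : E.obj x ⟶ (F E t ht).obj x := pullback.diagonal (t x)

theorem isImmersion_Fdiag (x : 𝒦) : IsImmersion (Fdiag E t ht x) :=
  inferInstanceAs (IsImmersion (pullback.diagonal (t x)))

theorem range_Fdiag_eq {x y : 𝒦} (a : x ⟶ y) [Mono (E.map a)] :
    Set.range (Fdiag E t ht x) = ((F E t ht).map a) ⁻¹' Set.range (Fdiag E t ht y) :=
  range_diagonal_eq (t x) (t y) (E.map a) (ht a)

theorem range_cFdiag_eq (x : 𝒦) [Mono (cE.π.app x)] :
    Set.range (pullback.diagonal f) =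
      ((cF E cE t ht f hf).π.app x) ⁻¹' Set.range (Fdiag E t ht x) :=
  range_diagonal_eq f (t x) (cE.π.app x) (hf x)

set_option backward.isDefEq.respectTransparency.types false in
include hE ht hf in
/-- **Separated at a finite stage**. -/
theorem exists_isSeparated_stage [IsCofiltered 𝒦]
    [∀ {x y : 𝒦} (a : x ⟶ y), IsClosedImmersion (E.map a)] (hmono : ∀ x, Mono (cE.π.app x))
    [∀ x, CompactSpace (E.obj x)] [∀ x, QuasiSeparatedSpace (E.obj x)] [QuasiSeparatedSpace S]
    [IsSeparated f] : ∃ x, IsSeparated (t x) := by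
  obtain ⟨x₀⟩ := IsCofiltered.nonempty (C := 𝒦)
  have : Nonempty 𝒦 := ⟨x₀⟩
  have haffF : ∀ (x y : 𝒦) (a : x ⟶ y), IsAffineHom ((F E t ht).map a) := fun x y a =>
    isAffineHom_pm (t x) (t y) (E.map a) (ht a)
  obtain ⟨hF⟩ := isLimit_cF E cE t ht f hf hE
  have hqct : QuasiCompact (t x₀) := inferInstance
  have hqst : QuasiSeparated (t x₀) := inferInstance
  have hqcf : QuasiCompact (Ffst E t ht x₀) :=
    MorphismProperty.pullback_fst (P := @QuasiCompact) _ _ hqct
  have hcpt : CompactSpace ((F E t ht).obj x₀) :=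
    QuasiCompact.compactSpace_of_compactSpace (Ffst E t ht x₀)
  have hqc : QuasiCompact (Fdiag E t ht x₀) := hqst.quasiCompact_diagonal
  have hpre := isImmersion_Fdiag E t ht x₀
  have hT₀ : IsClosed (closure (Set.range (Fdiag E t ht x₀)) \
      Set.range (Fdiag E t ht x₀)) := by
    have := isLocallyClosed_iff_isOpen_coborder.mp
      (Fdiag E t ht x₀).isLocallyClosed_range
    exact isOpen_compl_iff.mp this
  have hmono₀ := hmono x₀
  have hE' : IsClosed (((cF E cE t ht f hf).π.app x₀) ⁻¹' Set.range (Fdiag E t ht x₀)) := by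
    rw [← range_cFdiag_eq E cE t ht f hf x₀]
    exact (pullback.diagonal f).isClosedEmbedding.isClosed_range
  obtain ⟨k, ψ, hk⟩ := LimClosed.exists_isClosed_preimage_range (F E t ht) (cF E cE t ht f hf) hF
    x₀ (Fdiag E t ht x₀) hT₀ hE'
  refine ⟨k, ?_⟩
  have hcl : IsClosed (Set.range (Fdiag E t ht k)) := by
    rw [range_Fdiag_eq E t ht ψ]
    exact hk
  have hprek := isImmersion_Fdiag E t ht k
  exact ⟨IsClosedImmersion.of_isPreimmersion (Fdiag E t ht k) hcl⟩

end prodsys

section closed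

open FTIdeal FTLimit

variable {X Y S : Scheme.{u}} [CompactSpace Y] [QuasiSeparatedSpace Y]
  (ι : X ⟶ Y) [IsClosedImmersion ι] (f' : Y ⟶ S)

/-- if `X → S` is separated then so is a finitely presented closed subscheme `X ⊆ V(J) ⊆ Y`. -/
theorem exists_separated_stage_closed [QuasiSeparatedSpace S]
    [IsSeparated (ι ≫ f')] : ∃ J₀ : Idx ι.ker, IsSeparated (J₀.1.subschemeι ≫ f') := by
  let E : (Idx ι.ker)ᵒᵖ ⥤ Scheme.{u} := FTLimit.diag ι.ker ⋙ Over.forget Y
  let cE : Cone E := (Over.forget Y).mapCone (cone ι.ker)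
  let t : ∀ x : (Idx ι.ker)ᵒᵖ, E.obj x ⟶ S := fun x => x.unop.1.subschemeι ≫ f'
  have hconn : IsConnected (Idx ι.ker)ᵒᵖ := IsCofiltered.isConnected _
  have hE : IsLimit cE := isLimitOfPreserves (Over.forget Y) (coneIsLimit ι.ker)
  have hcpt : ∀ x, CompactSpace (E.obj x) := fun x =>
    (quasiCompact_iff_compactSpace x.unop.1.subschemeι).mp inferInstance
  have hqs : ∀ x, QuasiSeparatedSpace (E.obj x) := fun x => by
    have h := quasiSeparatedSpace_of_quasiSeparated x.unop.1.subschemeι
    exact h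
  let f0 : cE.pt ⟶ S := ι.ker.subschemeι ≫ f'
  have hsep : IsSeparated f0 := by
    have h1 : ι.toImage ≫ ι.ker.subschemeι = ι := ι.toImage_imageι
    have h2 : ι.ker.subschemeι ≫ f' = inv ι.toImage ≫ ι ≫ f' := by
      rw [← reassoc_of% h1, IsIso.inv_hom_id_assoc]
    have h3 : IsSeparated (ι.ker.subschemeι ≫ f') := by rw [h2]; infer_instance
    exact h3
  have hcl : ∀ {x y : (Idx ι.ker)ᵒᵖ} (a : x ⟶ y), IsClosedImmersion (E.map a) := fun a => by
    change IsClosedImmersion ((FTLimit.diag ι.ker).map a).left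
    rw [FTLimit.diag_map_left]
    exact NA14.isClosedImmersion_inclusion _
  have ht : ∀ {x y : (Idx ι.ker)ᵒᵖ} (a : x ⟶ y), E.map a ≫ t y = t x := fun {x y} a => by
    have h := Scheme.IdealSheafData.inclusion_subschemeι (show y.unop.1 ≤ x.unop.1 from a.unop.le)
    exact (Category.assoc _ _ _).symm.trans (congrArg (· ≫ f') h)
  have hf : ∀ x, cE.π.app x ≫ t x = f0 := fun x => by
    have h := Scheme.IdealSheafData.inclusion_subschemeι (show x.unop.1 ≤ ι.ker from x.unop.2.1)
    exact (Category.assoc _ _ _).symm.trans (congrArg (· ≫ f') h)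
  have hmono : ∀ x, Mono (cE.π.app x) := fun x => by
    have h : IsClosedImmersion (cE.π.app x) := by
      change IsClosedImmersion (Scheme.IdealSheafData.inclusion
        (show x.unop.1 ≤ ι.ker from x.unop.2.1))
      exact NA14.isClosedImmersion_inclusion _
    infer_instance
  obtain ⟨x, hx⟩ := exists_isSeparated_stage E cE t ht f0 hf hE hmono
  exact ⟨x.unop, hx⟩

end closed

section final

open FTIdeal FTLimit

/-- Stacks 09ZQ-like: a separated morphism of finite type to a qcqs scheme factors as a closed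
immersion into a separated morphism of finite presentation. -/
theorem exists_separated_fp_closedImmersion {X S : Scheme.{u}} (f : X ⟶ S) [IsSeparated f]
    [LocallyOfFiniteType f] [QuasiCompact f] [CompactSpace S] [QuasiSeparatedSpace S] :
    ∃ (X' : Scheme.{u}) (f' : X' ⟶ S) (j : X ⟶ X'), IsSeparated f' ∧
      LocallyOfFinitePresentation f' ∧ QuasiCompact f' ∧ IsClosedImmersion j ∧ j ≫ f' = f := by
  have : CompactSpace X := (quasiCompact_iff_compactSpace f).mp inferInstance
  have : QuasiSeparatedSpace X := quasiSeparatedSpace_of_quasiSeparated f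
  obtain ⟨Y, g, ι, h1, h2, h3, h4, h5, h6, h7⟩ := NA13.exists_closedImmersion_fp f
  have : IsSeparated (ι ≫ g) := by rw [h7]; infer_instance
  obtain ⟨J₀, hJ₀⟩ := exists_separated_stage_closed ι g
  have h8 : LocallyOfFinitePresentation J₀.1.subschemeι :=
    locallyOfFinitePresentation_subschemeι _ J₀.2.2
  have h9 := NA14.isClosedImmersion_inclusion J₀.2.1
  refine ⟨J₀.1.subscheme, J₀.1.subschemeι ≫ g,
    ι.toImage ≫ Scheme.IdealSheafData.inclusion J₀.2.1, hJ₀, inferInstance, inferInstance,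
    inferInstance, ?_⟩
  rw [Category.assoc, Scheme.IdealSheafData.inclusion_subschemeι_assoc,
    Scheme.Hom.toImage_imageι_assoc, h7]

end final

end Groth.Agent.Lib.Helper22.NA15
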