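import Mathlib
import Groth.Prelude.Def_BlowUp2
import Groth.Prelude.Def_W4c6modpairsegaMP
import Groth.Agent.Lib.Helper2AdmFrac
import Groth.Agent.Lib.Helper11Cpct
import Groth.Agent.S18732
import Groth.Agent.S0591
import Groth.Agent.S2074
import Groth.Agent.S2079
import Groth.Agent.Lib.Helper22LimBC

/-!
# Descending abstract admissible blow-ups along cofiltered limits (helper11)

Namespace `Groth.Agent.Lib.Helper11.DescAdm`.

* `exists_iso_image_of_ker_eq`, `ker_eq_ker_ι`: a closed subscheme in which the preimage of an open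
  `O` is scheme-theoretically dense and maps isomorphically to `O` is the closure of `O`.
* `image_section_isAdmBlowup`: the closure of a section over the interior of a proper morphism is
  an abstract admissible blow-up.
* `exists_iso_mprod`: identification of an admissible blow-up of the limit with the ambient product.
* `exists_proper_model`: proper + finite presentation descends to a stage (S0591 + S2074).
* `exists_section_descend`: sections over quasi-compact opens descend to a stage.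
-/

set_option autoImplicit false
set_option linter.style.haveILetI false
universe u
open CategoryTheory CategoryTheory.Limits AlgebraicGeometry TopologicalSpace

namespace Groth.Agent.Lib.Helper11.DescAdm

open Groth.Agent.Lib.Helper2.AdmFrac Groth.Agent.Lib.Helper2.StrictTr Groth.Agent.Lib.Helper11.CpctLib

/-- closed subschemes with the same ideal are isomorphic -/
theorem exists_iso_image_of_ker_eq {Y P Z : Scheme.{u}} (m : Y ⟶ P) [IsClosedImmersion m]
    (f : Z ⟶ P) (h : m.ker = f.ker) : ∃ e : Y ≅ f.image, e.hom ≫ f.imageι = m := by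
  obtain ⟨e', he'⟩ : ∃ e' : m.ker.subscheme ≅ f.ker.subscheme,
      e'.hom ≫ f.ker.subschemeι = m.ker.subschemeι := by
    rw [h]
    exact ⟨Iso.refl _, Category.id_comp _⟩
  refine ⟨asIso m.toImage ≪≫ e', ?_⟩
  change (m.toImage ≫ e'.hom) ≫ f.ker.subschemeι = m
  rw [Category.assoc, he']
  exact m.toImage_imageι

/-- a closed subscheme in which the preimage of an open `O` is scheme-theoretically dense and maps
isomorphically onto `O` is the scheme-theoretic closure of `O`. -/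
theorem ker_eq_ker_ι {Y P : Scheme.{u}} (m : Y ⟶ P) (O : P.Opens) [IsIso (m ∣_ O)]
    (hd : (m ⁻¹ᵁ O).ι.ker = ⊥) : m.ker = O.ι.ker := by
  have h1 : ((m ⁻¹ᵁ O).ι ≫ m).ker = m.ker := by
    rw [Scheme.Hom.ker_comp, hd, Scheme.IdealSheafData.map_bot]
  have h2 : ((m ∣_ O) ≫ O.ι).ker = O.ι.ker := Scheme.Hom.ker_comp_of_isIso _ _
  rw [← h1, ← morphismRestrict_ι, h2]

theorem isIso_resLE_of_eq {X Y : Scheme.{u}} (f : X ⟶ Y) (U : Y.Opens) {V V' : X.Opens}
    (hV : V = V') (h : V ≤ f ⁻¹ᵁ U) (h' : V' ≤ f ⁻¹ᵁ U) [IsIso (f.resLE U V h)] :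
    IsIso (f.resLE U V' h') := by
  subst hV
  infer_instance

section Main
variable {X Xi Y Y' Yi : Scheme.{u}} (π : X ⟶ Xi) (Ji : Xi.IdealSheafData)
  (hJi : BlowUp.IsEffCartierIdeal Ji) (IX : X.IdealSheafData) (hIX : IX = Ji.comap π)
  (s : Y ⟶ X) (hY : BlowUp.IsEffCartierIdeal (IX.comap s)) [IsProper s]
  (k : Y ⟶ Y') [IsClosedImmersion k] (p' : Y' ⟶ X) (hk : k ≫ p' = s)
  (pi : Yi ⟶ Xi) [IsProper pi] (g : Y' ⟶ Yi) (hpb : IsPullback g p' pi π)

include hJi in
/-- the scheme-theoretic closure of a section over the interior of a proper morphism is an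
abstract admissible blow-up. -/
theorem image_section_isAdmBlowup (τi : (ModPair.interior Ji).toScheme ⟶ Yi)
    (hτi : τi ≫ pi = (ModPair.interior Ji).ι) :
    ∃ (_ : QuasiCompact τi), BlowUp.IsEffCartierIdeal (Ji.comap (τi.imageι ≫ pi)) ∧
      ModPair.IsAdmBlowup (Ji.comap (τi.imageι ≫ pi)) Ji (τi.imageι ≫ pi) := by
  haveI : IsAffineHom (ModPair.interior Ji).ι := isAffineHom_ι_compl hJi _ rfl
  haveI : QuasiCompact (τi ≫ pi) := by rw [hτi]; infer_instance
  haveI hqc : QuasiCompact τi := QuasiCompact.of_comp τi pi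
  refine ⟨hqc, ?_⟩
  let UP : Yi.Opens := pi ⁻¹ᵁ ModPair.interior Ji
  have hrj : Set.range τi ⊆ Set.range UP.ι := by
    rintro _ ⟨x, rfl⟩
    rw [Scheme.Opens.range_ι]
    change pi (τi x) ∈ ModPair.interior Ji
    rw [← Scheme.Hom.comp_apply, hτi]
    exact x.2
  let j' : (ModPair.interior Ji).toScheme ⟶ UP.toScheme := IsOpenImmersion.lift UP.ι τi hrj
  have hj' : j' ≫ UP.ι = τi := IsOpenImmersion.lift_fac _ _ _
  have hj'1 : j' ≫ (pi ∣_ ModPair.interior Ji) = 𝟙 _ := by
    rw [← cancel_mono (ModPair.interior Ji).ι, Category.assoc, morphismRestrict_ι,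
      reassoc_of% hj', hτi, Category.id_comp]
  haveI : IsClosedImmersion (j' ≫ (pi ∣_ ModPair.interior Ji)) := by
    rw [hj'1]
    infer_instance
  haveI : IsClosedImmersion j' := IsClosedImmersion.of_comp j' (pi ∣_ ModPair.interior Ji)
  let W : τi.image.Opens := (τi.imageι ≫ pi) ⁻¹ᵁ ModPair.interior Ji
  have hrσ : Set.range τi.toImage ⊆ Set.range W.ι := by
    rintro _ ⟨x, rfl⟩
    rw [Scheme.Opens.range_ι]
    change (τi.imageι ≫ pi) (τi.toImage x) ∈ ModPair.interior Ji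
    rw [← Scheme.Hom.comp_apply, Scheme.Hom.toImage_imageι_assoc, hτi]
    exact x.2
  let σ : (ModPair.interior Ji).toScheme ⟶ W.toScheme := IsOpenImmersion.lift W.ι τi.toImage hrσ
  have hσ : σ ≫ W.ι = τi.toImage := IsOpenImmersion.lift_fac _ _ _
  haveI hσiso : IsIso σ := isIso_lift_toImage τi UP j' hj' σ hσ
  have hσs : σ ≫ ((τi.imageι ≫ pi) ∣_ ModPair.interior Ji) = 𝟙 _ := by
    rw [← cancel_mono (ModPair.interior Ji).ι, Category.assoc, morphismRestrict_ι]
    rw [reassoc_of% hσ, Scheme.Hom.toImage_imageι_assoc, hτi, Category.id_comp]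
  haveI : IsIso (σ ≫ ((τi.imageι ≫ pi) ∣_ ModPair.interior Ji)) := by
    rw [hσs]
    infer_instance
  have hiso : IsIso ((τi.imageι ≫ pi) ∣_ ModPair.interior Ji) :=
    IsIso.of_isIso_comp_left σ _
  have hWker : W.ι.ker = ⊥ := by
    rw [eq_bot_iff]
    calc W.ι.ker ≤ (σ ≫ W.ι).ker := Scheme.Hom.le_ker_comp _ _
      _ = ⊥ := by rw [hσ, ker_toImage_eq_bot]
  haveI : IsSchemeTheoreticallyDominant ((τi.imageι ≫ pi) ⁻¹ᵁ ModPair.interior Ji).ι := ⟨hWker⟩
  exact ⟨(Groth.Agent.S18732.result Ji hJi (τi.imageι ≫ pi)).2, rfl, inferInstance, hiso⟩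

omit [IsProper s] in
include hIX hY hk hpb in
theorem exists_iso_mprod (U : X.Opens) (hU : U = ModPair.interior IX) [IsIso (s ∣_ U)]
    (τi : (ModPair.interior Ji).toScheme ⟶ Yi) [QuasiCompact τi]
    (hiso : IsIso ((τi.imageι ≫ pi) ∣_ ModPair.interior Ji))
    (hle : U ≤ π ⁻¹ᵁ ModPair.interior Ji)
    (hcompat : inv (s ∣_ U) ≫ (s ⁻¹ᵁ U).ι ≫ k ≫ g =
      π.resLE (ModPair.interior Ji) U hle ≫ τi) :
    ∃ e : Y ≅ ModPair.mprod π (τi.imageι ≫ pi) IX (Ji.comap (τi.imageι ≫ pi)),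
      e.hom ≫ ModPair.mprodι π (τi.imageι ≫ pi) IX (Ji.comap (τi.imageι ≫ pi)) ≫
        pullback.fst π (τi.imageι ≫ pi) = s := by
  subst hU
  set si : τi.image ⟶ Xi := τi.imageι ≫ pi with hsi
  -- the open `V = s⁻¹(interior)` is scheme-theoretically dense in `Y`
  have hVker : (s ⁻¹ᵁ ModPair.interior IX).ι.ker = ⊥ := by
    rw [preimage_interior_eq s rfl]
    exact ker_ι_compl hY _ rfl
  -- the lift `r : Y ⟶ Yi'`
  have hVι : (s ⁻¹ᵁ ModPair.interior IX).ι ≫ k ≫ g =
      ((s ∣_ ModPair.interior IX) ≫ π.resLE (ModPair.interior Ji) (ModPair.interior IX) hle) ≫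
        τi := by
    rw [Category.assoc, ← hcompat, IsIso.hom_inv_id_assoc]
  have H : τi.imageι.ker ≤ (k ≫ g).ker := by
    have h1 : ((s ⁻¹ᵁ ModPair.interior IX).ι ≫ k ≫ g).ker = (k ≫ g).ker := by
      rw [Scheme.Hom.ker_comp, hVker, Scheme.IdealSheafData.map_bot]
    rw [← h1, hVι]
    change τi.ker.subschemeι.ker ≤ _
    rw [Scheme.IdealSheafData.ker_subschemeι]
    exact Scheme.Hom.le_ker_comp _ _
  let r : Y ⟶ τi.image := IsClosedImmersion.lift τi.imageι (k ≫ g) H
  have hr : r ≫ τi.imageι = k ≫ g := IsClosedImmersion.lift_fac _ _ _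
  have hm : s ≫ π = r ≫ si := by
    rw [hsi, reassoc_of% hr, hpb.w, reassoc_of% hk]
  let m : Y ⟶ pullback π si := pullback.lift s r hm
  have hm1 : m ≫ pullback.fst π si = s := pullback.lift_fst _ _ _
  have hm2 : m ≫ pullback.snd π si = r := pullback.lift_snd _ _ _
  -- `m` is a closed immersion
  let q : pullback π si ⟶ Y' := hpb.lift (pullback.snd π si ≫ τi.imageι) (pullback.fst π si) (by
    rw [Category.assoc, ← pullback.condition])
  have hq1 : q ≫ g = pullback.snd π si ≫ τi.imageι := hpb.lift_fst _ _ _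
  have hq2 : q ≫ p' = pullback.fst π si := hpb.lift_snd _ _ _
  have hmq : m ≫ q = k := by
    apply hpb.hom_ext
    · rw [Category.assoc, hq1, reassoc_of% hm2, hr]
    · rw [Category.assoc, hq2, hm1, hk]
  haveI : IsProper si := inferInstance
  haveI : IsSeparated (q ≫ p') := by rw [hq2]; infer_instance
  haveI : IsSeparated q := IsSeparated.of_comp q p'
  haveI : IsClosedImmersion (m ≫ q) := by rw [hmq]; infer_instance
  haveI : IsClosedImmersion m := IsClosedImmersion.of_comp m q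
  -- the product interior is `fst⁻¹(interior IX)`
  have hint : π ⁻¹ᵁ ModPair.interior Ji = ModPair.interior IX := preimage_interior_eq π hIX
  have hsnd : pullback.snd π si ⁻¹ᵁ (si ⁻¹ᵁ ModPair.interior Ji) =
      pullback.fst π si ⁻¹ᵁ ModPair.interior IX := by
    rw [← Scheme.Hom.comp_preimage, ← pullback.condition, Scheme.Hom.comp_preimage, hint]
  have hO : pullback.fst π si ⁻¹ᵁ ModPair.interior IX ⊓
      pullback.snd π si ⁻¹ᵁ (si ⁻¹ᵁ ModPair.interior Ji) =
      pullback.fst π si ⁻¹ᵁ ModPair.interior IX := by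
    rw [hsnd, inf_idem]
  have hPI : ModPair.prodInterior π si IX (Ji.comap si) =
      pullback.fst π si ⁻¹ᵁ ModPair.interior IX := by
    unfold ModPair.prodInterior
    rw [← preimage_interior_eq si (rfl : Ji.comap si = Ji.comap si), hO]
  -- `fst` is an isomorphism over the interior
  haveI : IsIso (si.resLE (ModPair.interior Ji) (si ⁻¹ᵁ ModPair.interior Ji) le_rfl) := by
    rw [Scheme.Hom.resLE_eq_morphismRestrict]
    exact hiso
  haveI h10 := isIso_fst_resLE π si (ModPair.interior Ji) (ModPair.interior IX)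
    (si ⁻¹ᵁ ModPair.interior Ji) hle le_rfl
  haveI : IsIso ((pullback.fst π si).resLE (ModPair.interior IX)
      (pullback.fst π si ⁻¹ᵁ ModPair.interior IX) le_rfl) :=
    isIso_resLE_of_eq _ _ hO _ _
  haveI hfst : IsIso (pullback.fst π si ∣_ ModPair.interior IX) := by
    rw [← Scheme.Hom.resLE_eq_morphismRestrict]
    infer_instance
  -- hence so is `m`
  have hmf : IsIso ((m ≫ pullback.fst π si) ∣_ ModPair.interior IX) := by
    rw [hm1]
    infer_instance
  rw [morphismRestrict_comp] at hmf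
  haveI hmO : IsIso (m ∣_ (pullback.fst π si ⁻¹ᵁ ModPair.interior IX)) :=
    @IsIso.of_isIso_comp_right _ _ _ _ _ _ (pullback.fst π si ∣_ ModPair.interior IX) hfst hmf
  have hpre : m ⁻¹ᵁ (pullback.fst π si ⁻¹ᵁ ModPair.interior IX) =
      ModPair.interior (IX.comap s) := by
    rw [← Scheme.Hom.comp_preimage, hm1, preimage_interior_eq s rfl]
  have hd : (m ⁻¹ᵁ (pullback.fst π si ⁻¹ᵁ ModPair.interior IX)).ι.ker = ⊥ :=
    ker_ι_compl hY _ (by rw [hpre]; rfl)
  have hker : m.ker = (ModPair.prodInterior π si IX (Ji.comap si)).ι.ker := by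
    rw [hPI]
    exact ker_eq_ker_ι m _ hd
  obtain ⟨e, he⟩ := exists_iso_image_of_ker_eq m (ModPair.prodInterior π si IX (Ji.comap si)).ι hker
  refine ⟨e, ?_⟩
  change e.hom ≫ (ModPair.prodInterior π si IX (Ji.comap si)).ι.imageι ≫ pullback.fst π si = s
  rw [reassoc_of% he, hm1]

end Main

section Limit
variable {I : Type u} [SmallCategory I] [IsCofiltered I] (D : I ⥤ Scheme.{u}) (c : Cone D)
  (hc : IsLimit c) [∀ (i j : I) (f : i ⟶ j), IsAffineHom (D.map f)]
  [∀ i, CompactSpace (D.obj i)] [∀ i, QuasiSeparatedSpace (D.obj i)]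

include hc in
/-- a proper morphism of finite presentation to the limit descends to a proper morphism of finite
presentation to a stage. -/
theorem exists_proper_model {Y' : Scheme.{u}} (p' : Y' ⟶ c.pt) [IsProper p']
    [LocallyOfFinitePresentation p'] :
    ∃ (i : I) (Yi : Scheme.{u}) (pi : Yi ⟶ D.obj i) (g : Y' ⟶ Yi), IsProper pi ∧
      LocallyOfFinitePresentation pi ∧ IsPullback g p' pi (c.π.app i) := by
  obtain ⟨i₁, Y₁, p₁, g₁, hlfp, hqc, hqs, hpb₁⟩ := Groth.Agent.S0591.result D c hc Y' p'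
  haveI : CompactSpace Y₁ := QuasiCompact.compactSpace_of_compactSpace p₁
  haveI : QuasiSeparatedSpace Y₁ := quasiSeparatedSpace_of_quasiSeparated p₁
  have hY : IsPullback (c.π.app i₁) (𝟙 c.pt) (𝟙 (D.obj i₁)) (c.π.app i₁) :=
    IsPullback.id_vert (c.π.app i₁)
  obtain ⟨i, φ, Xi, Yi, fi, gi, pY, pX, h1, h2, hprop⟩ :=
    Groth.Agent.S2074.result D c hc i₁ p₁ (𝟙 _) p' (𝟙 _) (c.π.app i₁) g₁ hY hpb₁
  haveI : IsIso gi := h1.isIso_snd_of_isIso
  have h3 : IsPullback pX (fi ≫ gi) (p₁ ≫ 𝟙 _) (D.map φ) := h2.paste_vert h1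
  rw [Category.comp_id] at h3
  have hw : g₁ ≫ p₁ = (p' ≫ c.π.app i) ≫ D.map φ := by
    rw [hpb₁.w, Category.assoc, c.w]
  refine ⟨i, Xi, fi ≫ gi, h3.lift g₁ (p' ≫ c.π.app i) hw, inferInstance,
    MorphismProperty.of_isPullback (P := @LocallyOfFinitePresentation) h3 hlfp, ?_⟩
  refine IsPullback.of_right ?_ (h3.lift_snd _ _ _) h3
  rw [h3.lift_fst, c.w]
  exact hpb₁

omit [∀ i, CompactSpace (D.obj i)] in
include hc in
/-- a section over the preimage of a quasi-compact open `Ui` of a stage descends to a later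
stage. -/
theorem exists_section_descend (i : I) (Ui : (D.obj i).Opens) (hUi : IsCompact (Ui : Set (D.obj i)))
    {Yi : Scheme.{u}} (pi : Yi ⟶ D.obj i) [LocallyOfFinitePresentation pi]
    (τ : (c.π.app i ⁻¹ᵁ Ui).toScheme ⟶ Yi)
    (hτ : τ ≫ pi = (c.π.app i ⁻¹ᵁ Ui).ι ≫ c.π.app i) :
    ∃ (j : Over i) (τj : (D.map j.hom ⁻¹ᵁ Ui).toScheme ⟶ Yi),
      τj ≫ pi = (D.map j.hom ⁻¹ᵁ Ui).ι ≫ D.map j.hom ∧
      (c.π.app j.left).resLE (D.map j.hom ⁻¹ᵁ Ui) (c.π.app i ⁻¹ᵁ Ui)
        (by rw [← Scheme.Hom.comp_preimage, c.w]) ≫ τj = τ := by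
  haveI : ∀ {i j : I} (f : i ⟶ j), IsAffineHom (D.map f) := fun f => inferInstance
  haveI : ∀ j : Over i, CompactSpace ((opensDiagram D i Ui).obj j) := fun j =>
    isCompact_iff_compactSpace.mp ((D.map j.hom).isCompact_preimage hUi)
  haveI : ∀ j : Over i, QuasiSeparatedSpace ((opensDiagram D i Ui).obj j) := fun j =>
    @quasiSeparatedSpace_of_quasiSeparated _ _ ((opensDiagramι D i Ui).app j)
      (inferInstanceAs (QuasiSeparatedSpace (D.obj j.left))) inferInstance
  let t : opensDiagram D i Ui ⟶ (Functor.const _).obj (D.obj i) :=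
    { app := fun j => (D.map j.hom ⁻¹ᵁ Ui).ι ≫ D.map j.hom
      naturality := fun j k f => by
        change (D.map f.left).resLE _ _ _ ≫ (D.map k.hom ⁻¹ᵁ Ui).ι ≫ D.map k.hom =
          ((D.map j.hom ⁻¹ᵁ Ui).ι ≫ D.map j.hom) ≫ 𝟙 _
        rw [Scheme.Hom.resLE_comp_ι_assoc, Category.comp_id, ← D.map_comp, Over.w] }
  have ha : (opensCone D c i Ui).π ≫ t = (Functor.const _).map (τ ≫ pi) := by
    ext j : 2
    change (c.π.app j.left).resLE _ _ _ ≫ (D.map j.hom ⁻¹ᵁ Ui).ι ≫ D.map j.hom = τ ≫ pi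
    rw [Scheme.Hom.resLE_comp_ι_assoc, c.w, hτ]
  obtain ⟨j, τj, h1, h2⟩ := Scheme.exists_π_app_comp_eq_of_locallyOfFinitePresentation
    (opensDiagram D i Ui) t pi (opensCone D c i Ui) (isLimitOpensCone D c hc i Ui) τ ha
  exact ⟨j, τj, h2, h1⟩

end Limit

end Groth.Agent.Lib.Helper11.DescAdm
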