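import Mathlib

/-!
# Helper11 DetCx A: determinants of endomorphisms of contractible complexes (linear algebra)
-/

set_option autoImplicit false

namespace Groth.Agent.Lib.Helper11.DetCx

variable {Λ : Type*} [CommRing Λ]

section sylvester
variable {M N : Type*} [AddCommGroup M] [Module Λ M] [Module.Free Λ M] [Module.Finite Λ M]
  [AddCommGroup N] [Module Λ N] [Module.Free Λ N] [Module.Finite Λ N]

/-- Sylvester's determinant identity for linear maps between finite free modules. -/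
theorem det_one_add_comp_comm (X : N →ₗ[Λ] M) (Y : M →ₗ[Λ] N) :
    LinearMap.det (LinearMap.id + X ∘ₗ Y) = LinearMap.det (LinearMap.id + Y ∘ₗ X) := by
  classical
  let bM := Module.Free.chooseBasis Λ M
  let bN := Module.Free.chooseBasis Λ N
  rw [← LinearMap.det_toMatrix bM, ← LinearMap.det_toMatrix bN, map_add, map_add,
    LinearMap.toMatrix_comp bM bN bM, LinearMap.toMatrix_comp bN bM bN, LinearMap.toMatrix_id,
    LinearMap.toMatrix_id]
  exact Matrix.det_one_add_mul_comm _ _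

end sylvester

section core
variable {M : Type*} [AddCommGroup M] [Module Λ M] [Module.Free Λ M] [Module.Finite Λ M]

theorem det_one_add_mul_comm' (X Y : Module.End Λ M) :
    LinearMap.det (1 + X * Y) = LinearMap.det (1 + Y * X) :=
  det_one_add_comp_comm X Y

/-- the block-triangular determinant formula, in projector form -/
theorem det_eq_mul_of_projector (P Q w : Module.End Λ M) (hPP : P * P = P) (hQ : P + Q = 1)
    (hQwP : Q * w * P = 0) :
    LinearMap.det w = LinearMap.det (1 + P * (w - 1)) * LinearMap.det (1 + Q * (w - 1)) := by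
  have hQ' : Q = 1 - P := by rw [← hQ]; abel
  have hPQ : P * Q = 0 := by rw [hQ', mul_sub, mul_one, hPP, sub_self]
  have hQP : Q * P = 0 := by rw [hQ', sub_mul, one_mul, hPP, sub_self]
  have hQQ : Q * Q = Q := by rw [hQ', mul_sub, mul_one, sub_mul, one_mul, hPP, sub_self, sub_zero]
  obtain ⟨a, ha⟩ : ∃ a : Module.End Λ M, a = 1 + P * ((w - 1) * P) := ⟨_, rfl⟩
  obtain ⟨b, hb⟩ : ∃ b : Module.End Λ M, b = 1 + Q * ((w - 1) * Q) := ⟨_, rfl⟩
  obtain ⟨n, hn⟩ : ∃ n : Module.End Λ M, n = P * (w * Q) := ⟨_, rfl⟩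
  have ha' : a = Q + P * w * P := by
    rw [ha, hQ', sub_mul, one_mul, mul_sub, hPP]; noncomm_ring
  have hb' : b = P + Q * w * Q := by
    rw [hb, sub_mul, one_mul, mul_sub, hQQ]
    have : P = 1 - Q := by rw [← hQ]; abel
    rw [this]; noncomm_ring
  have h1 : (1 + n) * a = Q + P * w := by
    rw [ha', hn, add_mul, one_mul, mul_add]
    have e1 : P * (w * Q) * Q = P * w * Q := by rw [mul_assoc, mul_assoc, hQQ, ← mul_assoc]
    have e2 : P * (w * Q) * (P * w * P) = 0 := by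
      rw [mul_assoc P (w * Q), mul_assoc w Q, ← mul_assoc Q, ← mul_assoc Q, hQP, zero_mul, zero_mul,
        mul_zero, mul_zero]
    rw [e1, e2, add_zero, add_assoc, ← mul_add, hQ, mul_one]
  have e4 : Q * w = Q * w * Q := by
    calc Q * w = Q * w * (P + Q) := by rw [hQ, mul_one]
      _ = Q * w * P + Q * w * Q := mul_add _ _ _
      _ = Q * w * Q := by rw [hQwP, zero_add]
  have h2 : b * ((1 + n) * a) = w := by
    rw [h1, hb', add_mul, mul_add, mul_add, hPQ, ← mul_assoc P P, hPP, zero_add]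
    have e1 : Q * w * Q * Q = Q * w * Q := by rw [mul_assoc, hQQ]
    have e2 : Q * w * Q * (P * w) = 0 := by
      rw [mul_assoc (Q * w), ← mul_assoc Q P, hQP, zero_mul, mul_zero]
    rw [e1, e2, add_zero, ← e4, ← add_mul, hQ, one_mul]
  have hdn : LinearMap.det (1 + n) = 1 := by
    rw [hn, det_one_add_mul_comm', mul_assoc, hQP, mul_zero, add_zero]
    exact LinearMap.det_id
  have hda : LinearMap.det a = LinearMap.det (1 + P * (w - 1)) := by
    rw [ha, det_one_add_mul_comm', mul_assoc, hPP, det_one_add_mul_comm']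
  have hdb : LinearMap.det b = LinearMap.det (1 + Q * (w - 1)) := by
    rw [hb, det_one_add_mul_comm', mul_assoc, hQQ, det_one_add_mul_comm']
  calc LinearMap.det w = LinearMap.det (b * ((1 + n) * a)) := by rw [h2]
    _ = LinearMap.det b * (LinearMap.det (1 + n) * LinearMap.det a) := by
      rw [map_mul, map_mul]
    _ = LinearMap.det (1 + P * (w - 1)) * LinearMap.det (1 + Q * (w - 1)) := by
      rw [hdn, hda, hdb, one_mul, mul_comm]

end core

section deg
variable {Mm M Mp : Type*}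
  [AddCommGroup Mm] [Module Λ Mm] [Module.Free Λ Mm] [Module.Finite Λ Mm]
  [AddCommGroup M] [Module Λ M] [Module.Free Λ M] [Module.Finite Λ M]
  [AddCommGroup Mp] [Module Λ Mp] [Module.Free Λ Mp] [Module.Finite Λ Mp]

/-- the per-degree formula `det v_i = α_i α_{i+1}` for a chain endomorphism of a contractible
complex -/
theorem det_eq_mul_of_contraction
    (dm : Mm →ₗ[Λ] M) (d : M →ₗ[Λ] Mp) (s : M →ₗ[Λ] Mm) (sp : Mp →ₗ[Λ] M)
    (v : M →ₗ[Λ] M) (vp : Mp →ₗ[Λ] Mp)
    (h1 : d ∘ₗ dm = 0) (h2 : dm ∘ₗ s + sp ∘ₗ d = LinearMap.id)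
    (h3 : dm ∘ₗ s ∘ₗ dm = dm) (h4 : d ∘ₗ v = vp ∘ₗ d) :
    LinearMap.det v =
      LinearMap.det (LinearMap.id + (dm ∘ₗ s) ∘ₗ (v - LinearMap.id)) *
      LinearMap.det (LinearMap.id + (d ∘ₗ sp) ∘ₗ (vp - LinearMap.id)) := by
  have h1' : ∀ x, d (dm x) = 0 := fun x => LinearMap.congr_fun h1 x
  have h3' : ∀ x, dm (s (dm x)) = dm x := fun x => LinearMap.congr_fun h3 x
  have h4' : ∀ x, d (v x) = vp (d x) := fun x => LinearMap.congr_fun h4 x
  have hPP : (dm ∘ₗ s : Module.End Λ M) * (dm ∘ₗ s) = dm ∘ₗ s := by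
    refine LinearMap.ext fun x => ?_
    show dm (s (dm (s x))) = dm (s x)
    exact h3' (s x)
  have hQwP : (sp ∘ₗ d : Module.End Λ M) * v * (dm ∘ₗ s) = 0 := by
    refine LinearMap.ext fun x => ?_
    show sp (d (v (dm (s x)))) = 0
    rw [h4', h1', map_zero, map_zero]
  have key := det_eq_mul_of_projector (dm ∘ₗ s : Module.End Λ M) (sp ∘ₗ d) v hPP h2 hQwP
  rw [key]
  congr 1
  -- second factor
  have e1 : (1 : Module.End Λ M) + (sp ∘ₗ d : Module.End Λ M) * (v - 1) =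
      LinearMap.id + sp ∘ₗ (d ∘ₗ (v - LinearMap.id)) := rfl
  have e2 : d ∘ₗ (v - LinearMap.id) = (vp - LinearMap.id) ∘ₗ d := by
    refine LinearMap.ext fun x => ?_
    show d (v x - x) = vp (d x) - d x
    rw [map_sub, h4']
  rw [e1, det_one_add_comp_comm, e2, LinearMap.comp_assoc, det_one_add_comp_comm]

end deg

section ses
variable {M' M M'' : Type*}
  [AddCommGroup M'] [Module Λ M'] [Module.Free Λ M'] [Module.Finite Λ M']
  [AddCommGroup M] [Module Λ M] [Module.Free Λ M] [Module.Finite Λ M]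
  [AddCommGroup M''] [Module Λ M''] [Module.Free Λ M''] [Module.Finite Λ M'']

/-- multiplicativity of the determinant in a split short exact sequence -/
theorem det_eq_mul_of_split
    (ι : M' →ₗ[Λ] M) (π : M →ₗ[Λ] M'') (ρ : M →ₗ[Λ] M') (σ : M'' →ₗ[Λ] M)
    (hρι : ρ ∘ₗ ι = LinearMap.id) (hπσ : π ∘ₗ σ = LinearMap.id)
    (hsum : ι ∘ₗ ρ + σ ∘ₗ π = LinearMap.id) (hπι : π ∘ₗ ι = 0)
    (w' : M' →ₗ[Λ] M') (w : M →ₗ[Λ] M) (w'' : M'' →ₗ[Λ] M'')
    (hw' : w ∘ₗ ι = ι ∘ₗ w') (hw'' : π ∘ₗ w = w'' ∘ₗ π) :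
    LinearMap.det w = LinearMap.det w' * LinearMap.det w'' := by
  have hρι' : ∀ x, ρ (ι x) = x := fun x => LinearMap.congr_fun hρι x
  have hπσ' : ∀ x, π (σ x) = x := fun x => LinearMap.congr_fun hπσ x
  have hπι' : ∀ x, π (ι x) = 0 := fun x => LinearMap.congr_fun hπι x
  have hw1 : ∀ x, w (ι x) = ι (w' x) := fun x => LinearMap.congr_fun hw' x
  have hw2 : ∀ x, π (w x) = w'' (π x) := fun x => LinearMap.congr_fun hw'' x
  have hPP : (ι ∘ₗ ρ : Module.End Λ M) * (ι ∘ₗ ρ) = ι ∘ₗ ρ := by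
    refine LinearMap.ext fun x => ?_
    show ι (ρ (ι (ρ x))) = ι (ρ x)
    rw [hρι']
  have hQwP : (σ ∘ₗ π : Module.End Λ M) * w * (ι ∘ₗ ρ) = 0 := by
    refine LinearMap.ext fun x => ?_
    show σ (π (w (ι (ρ x)))) = 0
    rw [hw1, hπι', map_zero]
  have key := det_eq_mul_of_projector (ι ∘ₗ ρ : Module.End Λ M) (σ ∘ₗ π) w hPP hsum hQwP
  rw [key]
  congr 1
  · have e1 : (1 : Module.End Λ M) + (ι ∘ₗ ρ : Module.End Λ M) * (w - 1) =
        LinearMap.id + ι ∘ₗ (ρ ∘ₗ (w - LinearMap.id)) := rfl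
    have e2 : (ρ ∘ₗ (w - LinearMap.id)) ∘ₗ ι = w' - LinearMap.id := by
      refine LinearMap.ext fun x => ?_
      show ρ (w (ι x) - ι x) = w' x - x
      rw [hw1, map_sub, hρι', hρι']
    rw [e1, det_one_add_comp_comm, e2, add_sub_cancel]
  · have e1 : (1 : Module.End Λ M) + (σ ∘ₗ π : Module.End Λ M) * (w - 1) =
        LinearMap.id + σ ∘ₗ (π ∘ₗ (w - LinearMap.id)) := rfl
    have e2 : (π ∘ₗ (w - LinearMap.id)) ∘ₗ σ = w'' - LinearMap.id := by
      refine LinearMap.ext fun x => ?_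
      show π (w (σ x) - σ x) = w'' x - x
      rw [map_sub, hw2, hπσ']
    rw [e1, det_one_add_comp_comm, e2, add_sub_cancel]

end ses

end Groth.Agent.Lib.Helper11.DetCx
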