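import Mathlib
import Groth.Prelude.Def_SGA4hB
import Groth.Agent.Lib.Helper11DetCxA

/-!
# Helper11 DetCx B: the characteristic series of a chain endomorphism of a contractible complex
-/

set_option autoImplicit false
universe u

open CategoryTheory TensorProduct Polynomial

namespace Groth.Agent.Lib.Helper11.DetCx

variable {A : Type u} [CommRing A]

section bc
variable {M N P : ModuleCat.{u} A}

/-- base change to `A[X]` of a morphism of `A`-modules -/
noncomputable def bc (g : M ⟶ N) : A[X] ⊗[A] M →ₗ[A[X]] A[X] ⊗[A] N := g.hom.baseChange A[X]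

theorem bc_comp (g : M ⟶ N) (h : N ⟶ P) : bc (g ≫ h) = bc h ∘ₗ bc g := by
  rw [bc, bc, bc, ModuleCat.hom_comp, LinearMap.baseChange_comp]

theorem bc_id : bc (𝟙 M) = LinearMap.id := by
  rw [bc, ModuleCat.hom_id, LinearMap.baseChange_id]

theorem bc_zero : bc (0 : M ⟶ N) = 0 := by
  rw [bc, ModuleCat.hom_zero, LinearMap.baseChange_zero]

theorem bc_add (g h : M ⟶ N) : bc (g + h) = bc g + bc h := by
  rw [bc, bc, bc, ModuleCat.hom_add, LinearMap.baseChange_add]

/-- `1 - t w` on `A[X] ⊗ M` -/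
noncomputable def vOf (w : M ⟶ M) : A[X] ⊗[A] M →ₗ[A[X]] A[X] ⊗[A] M :=
  LinearMap.id - (X : A[X]) • bc w

theorem detOneSub_eq (w : M ⟶ M) : SGA4h.detOneSub M w = LinearMap.det (vOf w) := rfl

theorem bc_comp_vOf (g : M ⟶ N) (w : M ⟶ M) (w' : N ⟶ N) (h : w ≫ g = g ≫ w') :
    bc g ∘ₗ vOf w = vOf w' ∘ₗ bc g := by
  rw [vOf, vOf, LinearMap.comp_sub, LinearMap.sub_comp, LinearMap.comp_id, LinearMap.id_comp,
    LinearMap.comp_smul, LinearMap.smul_comp, ← bc_comp, ← bc_comp, h]

end bc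

section contractible
variable (C : CochainComplex (ModuleCat.{u} A) ℤ) (W : C ⟶ C) (hs : Homotopy (𝟙 C) 0)

/-- the factors `α` -/
noncomputable def alpha (j i : ℤ) : A[X] :=
  LinearMap.det (LinearMap.id + (bc (C.d j i) ∘ₗ bc (hs.hom i j)) ∘ₗ (vOf (W.f i) - LinearMap.id))

include hs in
theorem homotopy_rel' (k j i : ℤ) (hkj : k + 1 = j) (hji : j + 1 = i) :
    𝟙 (C.X j) = C.d j i ≫ hs.hom i j + hs.hom j k ≫ C.d k j := by
  subst hkj
  subst hji
  have h := hs.comm (k + 1)
  rw [dNext_eq hs.hom (show (ComplexShape.up ℤ).Rel (k + 1) (k + 1 + 1) from rfl),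
    prevD_eq hs.hom (show (ComplexShape.up ℤ).Rel k (k + 1) from rfl)] at h
  simpa using h

include hs in
theorem homotopy_rel (i : ℤ) :
    𝟙 (C.X i) = C.d i (i + 1) ≫ hs.hom (i + 1) i + hs.hom i (i - 1) ≫ C.d (i - 1) i :=
  homotopy_rel' C hs (i - 1) i (i + 1) (by ring) rfl

theorem detOneSub_eq_alpha_mul [∀ i, Module.Free A (C.X i)] [∀ i, Module.Finite A (C.X i)]
    (i : ℤ) :
    SGA4h.detOneSub (C.X i) (W.f i) = alpha C W hs (i - 1) i * alpha C W hs i (i + 1) := by
  rw [detOneSub_eq, alpha, alpha]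
  refine det_eq_mul_of_contraction (bc (C.d (i - 1) i)) (bc (C.d i (i + 1))) (bc (hs.hom i (i - 1)))
    (bc (hs.hom (i + 1) i)) (vOf (W.f i)) (vOf (W.f (i + 1))) ?_ ?_ ?_ ?_
  · rw [← bc_comp, C.d_comp_d, bc_zero]
  · rw [← bc_comp, ← bc_comp, ← bc_add, add_comm, ← homotopy_rel C hs i, bc_id]
  · rw [← bc_comp, ← bc_comp]
    congr 1
    have h := homotopy_rel' C hs (i - 1 - 1) (i - 1) i (by ring) (by ring)
    have h2 : C.d (i - 1) i = (𝟙 (C.X (i - 1))) ≫ C.d (i - 1) i := (Category.id_comp _).symm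
    conv_rhs => rw [h2, h]
    rw [Preadditive.add_comp, Category.assoc, Category.assoc, C.d_comp_d,
      Limits.comp_zero, add_zero]
  · exact bc_comp_vOf _ _ _ (W.comm i (i + 1))

end contractible

section finprod

theorem finprod_even_shift {R : Type*} [CommMonoid R] (a : ℤ → R) :
    ∏ᶠ i : {i : ℤ // Even i}, a (i.1 + 1) = ∏ᶠ j : {j : ℤ // Odd j}, a j.1 := by
  refine finprod_eq_of_bijective (fun i : {i : ℤ // Even i} => (⟨i.1 + 1, i.2.add_one⟩ : {j : ℤ // Odd j}))
    ⟨fun x y h => ?_, fun y => ?_⟩ (fun _ => rfl)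
  · have := congrArg Subtype.val h
    simp only [add_left_inj] at this
    exact Subtype.ext this
  · refine ⟨⟨y.1 - 1, ?_⟩, Subtype.ext (by simp)⟩
    obtain ⟨k, hk⟩ := y.2
    exact ⟨k, by omega⟩

theorem finprod_odd_shift {R : Type*} [CommMonoid R] (a : ℤ → R) :
    ∏ᶠ i : {i : ℤ // Odd i}, a (i.1 + 1) = ∏ᶠ j : {j : ℤ // Even j}, a j.1 := by
  refine finprod_eq_of_bijective (fun i : {i : ℤ // Odd i} => (⟨i.1 + 1, i.2.add_one⟩ : {j : ℤ // Even j}))
    ⟨fun x y h => ?_, fun y => ?_⟩ (fun _ => rfl)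
  · have := congrArg Subtype.val h
    simp only [add_left_inj] at this
    exact Subtype.ext this
  · refine ⟨⟨y.1 - 1, ?_⟩, Subtype.ext (by simp)⟩
    obtain ⟨k, hk⟩ := y.2
    exact ⟨k - 1, by omega⟩

theorem hasFiniteMulSupport_subtype {R : Type*} [CommMonoid R] (a : ℤ → R) (p : ℤ → Prop)
    (h : (Function.mulSupport a).Finite) (c : ℤ) :
    Function.HasFiniteMulSupport (fun i : {i : ℤ // p i} => a (i.1 + c)) := by
  have h2 : Function.mulSupport (fun i : {i : ℤ // p i} => a (i.1 + c)) ⊆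
      (fun i : {i : ℤ // p i} => i.1 + c) ⁻¹' (Function.mulSupport a) := fun i hi => hi
  refine Set.Finite.subset (Set.Finite.preimage ?_ h) h2
  intro x _ y _ hxy
  simp only [add_left_inj] at hxy
  exact Subtype.ext hxy

/-- telescoping: the even and odd products of `a i * a (i+1)` agree -/
theorem finprod_even_eq_odd {R : Type*} [CommMonoid R] (a : ℤ → R)
    (h : (Function.mulSupport a).Finite) :
    ∏ᶠ i : {i : ℤ // Even i}, a i.1 * a (i.1 + 1) = ∏ᶠ i : {i : ℤ // Odd i}, a i.1 * a (i.1 + 1) := by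
  have h0 := fun p => hasFiniteMulSupport_subtype a p h 0
  have h1 := fun p => hasFiniteMulSupport_subtype a p h 1
  simp only [add_zero] at h0
  rw [finprod_mul_distrib (h0 _) (h1 _), finprod_mul_distrib (h0 _) (h1 _), finprod_even_shift,
    finprod_odd_shift, mul_comm]

end finprod

section contractible2
variable (C : CochainComplex (ModuleCat.{u} A) ℤ) (W : C ⟶ C) (hs : Homotopy (𝟙 C) 0)

include hs in
/-- the characteristic series of a chain endomorphism of a bounded contractible complex of finite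
free modules is trivial -/
theorem detEven_eq_detOdd_of_contractible [∀ i, Module.Free A (C.X i)]
    [∀ i, Module.Finite A (C.X i)]
    (hbd : ∃ a b : ℤ, ∀ i : ℤ, i < a ∨ b < i → Subsingleton (C.X i)) :
    SGA4h.detEven C W = SGA4h.detOdd C W := by
  obtain ⟨a, b, hab⟩ := hbd
  have hsupp : (Function.mulSupport (fun i : ℤ => alpha C W hs (i - 1) i)).Finite := by
    refine Set.Finite.subset (Set.finite_Icc a b) fun i hi => ?_
    by_contra hcon
    rw [Set.mem_Icc, not_and_or, not_le, not_le] at hcon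
    haveI := hab i hcon
    exact hi (LinearMap.det_eq_one_of_subsingleton _)
  have key := finprod_even_eq_odd (fun i : ℤ => alpha C W hs (i - 1) i) hsupp
  have e : ∀ i : ℤ, alpha C W hs (i + 1 - 1) (i + 1) = alpha C W hs i (i + 1) := by
    intro i; rw [add_sub_cancel_right]
  simp only [e] at key
  rw [SGA4h.detEven, SGA4h.detOdd]
  simp only [detOneSub_eq_alpha_mul C W hs]
  exact key

end contractible2

end Groth.Agent.Lib.Helper11.DetCx
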