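import Mathlib
import Groth.Prelude.Def_SGA4hB
import Groth.Agent.Lib.Helper11DetCxB

/-!
# Helper11 DetCx C: the characteristic series of the mapping cone
-/

set_option autoImplicit false
universe u

open CategoryTheory TensorProduct Polynomial CochainComplex HomComplex

namespace Groth.Agent.Lib.Helper11.DetCx

variable {A : Type u} [CommRing A]

section cone
variable {K K' : CochainComplex (ModuleCat.{u} A) ℤ} (f : K ⟶ K')

/-- the four structure maps of the cone in degree `i`, as morphisms of modules -/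
noncomputable def cFst (i : ℤ) : (mappingCone f).X i ⟶ K.X (i + 1) :=
  (mappingCone.fst f).1.v i (i + 1) rfl
noncomputable def cSnd (i : ℤ) : (mappingCone f).X i ⟶ K'.X i :=
  (mappingCone.snd f).v i i (add_zero i)
noncomputable def cInl (i : ℤ) : K.X (i + 1) ⟶ (mappingCone f).X i :=
  (mappingCone.inl f).v (i + 1) i (by omega)
noncomputable def cInr (i : ℤ) : K'.X i ⟶ (mappingCone f).X i :=
  (mappingCone.inr f).f i

theorem cInl_cFst (i : ℤ) : cInl f i ≫ cFst f i = 𝟙 _ := mappingCone.inl_v_fst_v f (i + 1) i rfl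
theorem cInl_cSnd (i : ℤ) : cInl f i ≫ cSnd f i = 0 := mappingCone.inl_v_snd_v f (i + 1) i (by omega)
theorem cInr_cFst (i : ℤ) : cInr f i ≫ cFst f i = 0 := mappingCone.inr_f_fst_v f i (i + 1) rfl
theorem cInr_cSnd (i : ℤ) : cInr f i ≫ cSnd f i = 𝟙 _ := mappingCone.inr_f_snd_v f i
theorem cone_id (i : ℤ) : cFst f i ≫ cInl f i + cSnd f i ≫ cInr f i = 𝟙 _ :=
  mappingCone.id_X f i (i + 1) rfl

/-- the terms of the mapping cone as products -/
noncomputable def coneEquiv (i : ℤ) :
    (mappingCone f).X i ≃ₗ[A] (K.X (i + 1) × K'.X i) :=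
  LinearEquiv.ofLinear
    (LinearMap.prod (cFst f i).hom (cSnd f i).hom)
    (LinearMap.coprod (cInl f i).hom (cInr f i).hom)
    (by
      refine LinearMap.ext fun x => ?_
      obtain ⟨x1, x2⟩ := x
      have h1 : (cFst f i).hom ((cInl f i).hom x1) = x1 := by
        rw [← LinearMap.comp_apply, ← ModuleCat.hom_comp, cInl_cFst]; rfl
      have h2 : (cSnd f i).hom ((cInl f i).hom x1) = 0 := by
        rw [← LinearMap.comp_apply, ← ModuleCat.hom_comp, cInl_cSnd]; rfl
      have h3 : (cFst f i).hom ((cInr f i).hom x2) = 0 := by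
        rw [← LinearMap.comp_apply, ← ModuleCat.hom_comp, cInr_cFst]; rfl
      have h4 : (cSnd f i).hom ((cInr f i).hom x2) = x2 := by
        rw [← LinearMap.comp_apply, ← ModuleCat.hom_comp, cInr_cSnd]; rfl
      show ((cFst f i).hom ((cInl f i).hom x1 + (cInr f i).hom x2),
        (cSnd f i).hom ((cInl f i).hom x1 + (cInr f i).hom x2)) = (x1, x2)
      rw [map_add, map_add, h1, h2, h3, h4, add_zero, zero_add])
    (by
      refine LinearMap.ext fun x => ?_
      have h : (cInl f i).hom ((cFst f i).hom x) + (cInr f i).hom ((cSnd f i).hom x) = x := by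
        rw [← LinearMap.comp_apply, ← LinearMap.comp_apply, ← ModuleCat.hom_comp,
          ← ModuleCat.hom_comp, ← LinearMap.add_apply, ← ModuleCat.hom_add, cone_id]
        rfl
      exact h)

end cone

section coneEndo
variable {K K' : CochainComplex (ModuleCat.{u} A) ℤ} (f : K ⟶ K')
  (u : K ⟶ K) (u' : K' ⟶ K') (H : Homotopy (f ≫ u') (u ≫ f))

/-- the endomorphism of the cone induced by a homotopy commutative square -/
noncomputable def coneEndo : mappingCone f ⟶ mappingCone f := mappingCone.mapOfHomotopy H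

theorem cInr_coneEndo (i : ℤ) :
    cInr f i ≫ (coneEndo f u u' H).f i = u'.f i ≫ cInr f i := by
  have h := congrArg (fun φ => HomologicalComplex.Hom.f φ i)
    (mappingCone.triangleMapOfHomotopy_comm₂ H)
  simpa [cInr, coneEndo] using h

theorem coneEndo_cFst (i : ℤ) :
    (coneEndo f u u' H).f i ≫ cFst f i = cFst f i ≫ u.f (i + 1) := by
  rw [mappingCone.ext_from_iff f (i + 1) i rfl]
  constructor
  · simp [coneEndo, cFst, mappingCone.mapOfHomotopy]
  · simp [coneEndo, cFst, mappingCone.mapOfHomotopy]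

instance coneFree [∀ i, Module.Free A (K.X i)] [∀ i, Module.Free A (K'.X i)] (i : ℤ) :
    Module.Free A ((mappingCone f).X i) := Module.Free.of_equiv (coneEquiv f i).symm

instance coneFinite [∀ i, Module.Finite A (K.X i)] [∀ i, Module.Finite A (K'.X i)] (i : ℤ) :
    Module.Finite A ((mappingCone f).X i) := Module.Finite.equiv (coneEquiv f i).symm

theorem detOneSub_cone [∀ i, Module.Free A (K.X i)] [∀ i, Module.Free A (K'.X i)]
    [∀ i, Module.Finite A (K.X i)] [∀ i, Module.Finite A (K'.X i)] (i : ℤ) :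
    SGA4h.detOneSub ((mappingCone f).X i) ((coneEndo f u u' H).f i) =
      SGA4h.detOneSub (K'.X i) (u'.f i) * SGA4h.detOneSub (K.X (i + 1)) (u.f (i + 1)) := by
  rw [detOneSub_eq, detOneSub_eq, detOneSub_eq]
  refine det_eq_mul_of_split (bc (cInr f i)) (bc (cFst f i)) (bc (cSnd f i)) (bc (cInl f i))
    ?_ ?_ ?_ ?_ _ _ _ ?_ ?_
  · rw [← bc_comp, cInr_cSnd, bc_id]
  · rw [← bc_comp, cInl_cFst, bc_id]
  · rw [← bc_comp, ← bc_comp, ← bc_add, add_comm, cone_id, bc_id]
  · rw [← bc_comp, cInr_cFst, bc_zero]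
  · exact (bc_comp_vOf _ _ _ (cInr_coneEndo f u u' H i).symm).symm
  · exact bc_comp_vOf _ _ _ (coneEndo_cFst f u u' H i)

end coneEndo

section coneDet
variable {K K' : CochainComplex (ModuleCat.{u} A) ℤ} (f : K ⟶ K')
  (u : K ⟶ K) (u' : K' ⟶ K') (H : Homotopy (f ≫ u') (u ≫ f))

theorem hasFiniteMulSupport_subtype0 {R : Type*} [CommMonoid R] (a : ℤ → R) (p : ℤ → Prop)
    (h : (Function.mulSupport a).Finite) :
    Function.HasFiniteMulSupport (fun i : {i : ℤ // p i} => a i.1) := by
  have h2 : Function.mulSupport (fun i : {i : ℤ // p i} => a i.1) ⊆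
      (fun i : {i : ℤ // p i} => i.1) ⁻¹' (Function.mulSupport a) := fun i hi => hi
  exact Set.Finite.subset (Set.Finite.preimage Subtype.val_injective.injOn h) h2

theorem mulSupport_detOneSub_finite (L : CochainComplex (ModuleCat.{u} A) ℤ) (w : L ⟶ L) (a b : ℤ)
    (hbd : ∀ i : ℤ, i < a ∨ b < i → Subsingleton (L.X i)) :
    (Function.mulSupport fun i : ℤ => SGA4h.detOneSub (L.X i) (w.f i)).Finite := by
  refine Set.Finite.subset (Set.finite_Icc a b) fun i hi => ?_
  by_contra hcon
  rw [Set.mem_Icc, not_and_or, not_le, not_le] at hcon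
  haveI := hbd i hcon
  exact hi (LinearMap.det_eq_one_of_subsingleton _)

theorem detEven_cone [∀ i, Module.Free A (K.X i)] [∀ i, Module.Free A (K'.X i)]
    [∀ i, Module.Finite A (K.X i)] [∀ i, Module.Finite A (K'.X i)] (a b : ℤ)
    (hK : ∀ i : ℤ, i < a ∨ b < i → Subsingleton (K.X i))
    (hK' : ∀ i : ℤ, i < a ∨ b < i → Subsingleton (K'.X i)) :
    SGA4h.detEven (mappingCone f) (coneEndo f u u' H) = SGA4h.detEven K' u' * SGA4h.detOdd K u := by
  have h1 := hasFiniteMulSupport_subtype0 _ (fun i : ℤ => Even i)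
    (mulSupport_detOneSub_finite K' u' a b hK')
  have h2 := hasFiniteMulSupport_subtype _ (fun i : ℤ => Even i)
    (mulSupport_detOneSub_finite K u a b hK) 1
  rw [SGA4h.detEven, SGA4h.detEven, SGA4h.detOdd]
  simp only [detOneSub_cone f u u' H]
  rw [finprod_mul_distrib h1 h2,
    finprod_even_shift (fun j : ℤ => SGA4h.detOneSub (K.X j) (u.f j))]

theorem detOdd_cone [∀ i, Module.Free A (K.X i)] [∀ i, Module.Free A (K'.X i)]
    [∀ i, Module.Finite A (K.X i)] [∀ i, Module.Finite A (K'.X i)] (a b : ℤ)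
    (hK : ∀ i : ℤ, i < a ∨ b < i → Subsingleton (K.X i))
    (hK' : ∀ i : ℤ, i < a ∨ b < i → Subsingleton (K'.X i)) :
    SGA4h.detOdd (mappingCone f) (coneEndo f u u' H) = SGA4h.detOdd K' u' * SGA4h.detEven K u := by
  have h1 := hasFiniteMulSupport_subtype0 _ (fun i : ℤ => Odd i)
    (mulSupport_detOneSub_finite K' u' a b hK')
  have h2 := hasFiniteMulSupport_subtype _ (fun i : ℤ => Odd i)
    (mulSupport_detOneSub_finite K u a b hK) 1
  rw [SGA4h.detOdd, SGA4h.detOdd, SGA4h.detEven]
  simp only [detOneSub_cone f u u' H]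
  rw [finprod_mul_distrib h1 h2,
    finprod_odd_shift (fun j : ℤ => SGA4h.detOneSub (K.X j) (u.f j))]

include H in
/-- the characteristic series is invariant under homotopy equivalences compatible with the
endomorphisms up to homotopy, provided the cone is contractible -/
theorem det_invariant_of_cone_contractible [∀ i, Module.Free A (K.X i)]
    [∀ i, Module.Free A (K'.X i)] [∀ i, Module.Finite A (K.X i)] [∀ i, Module.Finite A (K'.X i)]
    (a b : ℤ) (hK : ∀ i : ℤ, i < a ∨ b < i → Subsingleton (K.X i))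
    (hK' : ∀ i : ℤ, i < a ∨ b < i → Subsingleton (K'.X i))
    (hs : Homotopy (𝟙 (mappingCone f)) 0) :
    SGA4h.detEven K u * SGA4h.detOdd K' u' = SGA4h.detOdd K u * SGA4h.detEven K' u' := by
  have hbd : ∃ a' b' : ℤ, ∀ i : ℤ, i < a' ∨ b' < i → Subsingleton ((mappingCone f).X i) := by
    refine ⟨a - 1, b, fun i hi => ?_⟩
    haveI : Subsingleton (K.X (i + 1)) := hK (i + 1) (by omega)
    haveI : Subsingleton (K'.X i) := hK' i (by omega)
    exact (coneEquiv f i).toEquiv.subsingleton
  have key := detEven_eq_detOdd_of_contractible (mappingCone f) (coneEndo f u u' H) hs hbd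
  rw [detEven_cone f u u' H a b hK hK', detOdd_cone f u u' H a b hK hK'] at key
  rw [mul_comm (SGA4h.detOdd K u), mul_comm (SGA4h.detEven K u), key]

end coneDet

end Groth.Agent.Lib.Helper11.DetCx
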