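import Mathlib
import Groth.Prelude.Def_SGA4hB
import Groth.Agent.Lib.Helper11DetCxC

/-!
# Helper11 DetCx D: invariance of the characteristic series under isomorphisms in `D(A)`
-/

set_option autoImplicit false
universe u

open CategoryTheory TensorProduct Polynomial CochainComplex HomComplex

attribute [local instance] HasDerivedCategory.standard

namespace Groth.Agent.Lib.Helper11.DetCx

variable {A : Type u} [CommRing A]

section derived
variable {K K' : CochainComplex (ModuleCat.{u} A) ℤ}

/-- equality in the derived category of maps out of a K-projective complex gives a homotopy -/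
theorem nonempty_homotopy_of_Q_map_eq [K.IsKProjective] (g₁ g₂ : K ⟶ K')
    (h : DerivedCategory.Q.map g₁ = DerivedCategory.Q.map g₂) : Nonempty (Homotopy g₁ g₂) := by
  have nat := fun g : K ⟶ K' => (DerivedCategory.quotientCompQhIso (ModuleCat.{u} A)).hom.naturality g
  have h2 : DerivedCategory.Qh.map ((HomotopyCategory.quotient _ _).map g₁) =
      DerivedCategory.Qh.map ((HomotopyCategory.quotient _ _).map g₂) := by
    have e1 := nat g₁
    have e2 := nat g₂
    simp only [Functor.comp_map] at e1 e2
    rw [h, ← e2] at e1
    exact (cancel_mono _).mp e1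
  have h3 := (CochainComplex.IsKProjective.Qh_map_bijective K _).injective h2
  exact ⟨HomotopyCategory.homotopyOfEq _ _ h3⟩

/-- a morphism in the derived category out of a K-projective complex is `Q` of a chain map -/
theorem exists_Q_map_eq [K.IsKProjective] (ψ : DerivedCategory.Q.obj K ⟶ DerivedCategory.Q.obj K') :
    ∃ f : K ⟶ K', DerivedCategory.Q.map f = ψ := by
  let e := DerivedCategory.quotientCompQhIso (ModuleCat.{u} A)
  obtain ⟨g, hg⟩ := (CochainComplex.IsKProjective.Qh_map_bijective K
    ((HomotopyCategory.quotient _ _).obj K')).surjective (e.hom.app K ≫ ψ ≫ e.inv.app K')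
  obtain ⟨f, hf⟩ := (HomotopyCategory.quotient _ _).map_surjective g
  refine ⟨f, ?_⟩
  have nat := e.hom.naturality f
  simp only [Functor.comp_map] at nat
  rw [hf, hg] at nat
  have : e.hom.app K ≫ DerivedCategory.Q.map f = e.hom.app K ≫ ψ := by
    rw [← nat]; simp
  exact (cancel_epi _).mp this

/-- a quasi-isomorphism between K-projective complexes has a contractible cone -/
theorem nonempty_contraction_of_isIso_Q_map [K.IsKProjective] [K'.IsKProjective] (f : K ⟶ K')
    (hf : IsIso (DerivedCategory.Q.map f)) : Nonempty (Homotopy (𝟙 (mappingCone f)) 0) := by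
  have hq : QuasiIso f := (DerivedCategory.isIso_Q_map_iff_quasiIso (φ := f)).mp hf
  have he := (CochainComplex.IsKProjective.quasiIso_iff f).mp hq
  obtain ⟨e, he⟩ := he
  have hiso : IsIso ((HomotopyCategory.quotient (ModuleCat.{u} A) (ComplexShape.up ℤ)).map f) := by
    rw [← he]
    exact (HomotopyCategory.isoOfHomotopyEquiv e).isIso_hom
  have hz := Pretriangulated.Triangle.isZero₃_of_isIso₁ _
    (HomotopyCategory.mappingCone_triangleh_distinguished f) hiso
  have h0 : (HomotopyCategory.quotient (ModuleCat.{u} A) (ComplexShape.up ℤ)).map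
      (𝟙 (mappingCone f)) = (HomotopyCategory.quotient _ _).map 0 := hz.eq_of_src _ _
  exact ⟨HomotopyCategory.homotopyOfEq _ _ h0⟩

end derived

end Groth.Agent.Lib.Helper11.DetCx
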