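import Mathlib

set_option autoImplicit false
universe u

namespace Groth.Agent.Lib.Helper11Devissage

open DirectSum

variable {R : Type u} [CommRing R] {M : Type u} [AddCommGroup M] [Module R M]
  {S : Type u} [LinearOrder S]

/-- index type of successor steps -/
abbrev Step (S : Type u) [LinearOrder S] := {p : S × S // p.1 ⋖ p.2}

section
variable (Mf : S → Submodule R M) (hmono : Monotone Mf)
  (hlim : ∀ s : S, Order.IsSuccPrelimit s → Mf s = ⨆ t : {t : S // t < s}, Mf t.1)
  (C : Step S → Submodule R M)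
  (hC1 : ∀ p : Step S, Mf p.1.1 ⊓ C p = ⊥) (hC2 : ∀ p : Step S, Mf p.1.1 ⊔ C p = Mf p.1.2)

include hlim hC2 in
lemma le_iSup_compl [WellFoundedLT S] (t : S) : Mf t ≤ ⨆ p, C p := by
  induction t using WellFoundedLT.induction with
  | ind t ih =>
    by_cases ht : Order.IsSuccPrelimit t
    · rw [hlim t ht]
      exact iSup_le fun t' => ih t'.1 t'.2
    · rw [Order.not_isSuccPrelimit_iff] at ht
      obtain ⟨s, hs⟩ := ht
      rw [← hC2 ⟨(s, t), hs⟩]
      exact sup_le (ih s hs.lt) (le_iSup C ⟨(s, t), hs⟩)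

include hC2 in
lemma compl_le (p : Step S) : C p ≤ Mf p.1.2 := by
  rw [← hC2 p]; exact le_sup_right

include hmono hC1 hC2 in
lemma iSupIndep_compl : iSupIndep C := by
  classical
  rw [iSupIndep_iff_finsetSum_eq_zero_imp_eq_zero]
  intro s v hv hsum
  by_contra hne
  push Not at hne
  obtain ⟨i₀, hi₀, hvi₀⟩ := hne
  have hsupp : (s.filter fun i => v i ≠ 0).Nonempty := ⟨i₀, Finset.mem_filter.mpr ⟨hi₀, hvi₀⟩⟩
  obtain ⟨p, hp, hmax⟩ := Finset.exists_max_image _ (fun q : Step S => q.1.2) hsupp
  have hsum' : ∑ i ∈ s.filter (fun i => v i ≠ 0), v i = 0 := by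
    rw [Finset.sum_filter_ne_zero, hsum]
  rw [← Finset.add_sum_erase _ _ hp] at hsum'
  have hrest : ∑ q ∈ (s.filter fun i => v i ≠ 0).erase p, v q ∈ Mf p.1.1 := by
    refine Submodule.sum_mem _ fun q hq => ?_
    rw [Finset.mem_erase] at hq
    have hle : q.1.2 ≤ p.1.2 := hmax q hq.2
    have hlt : q.1.2 < p.1.2 := by
      refine lt_of_le_of_ne hle fun heq => hq.1 ?_
      have h1 : q.1.1 = p.1.1 := by
        have := q.2
        rw [heq] at this
        exact this.unique_left p.2
      exact Subtype.ext (Prod.ext h1 heq)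
    have : q.1.2 ≤ p.1.1 := p.2.le_of_lt hlt
    exact hmono this (compl_le Mf C hC2 q (hv q (Finset.mem_filter.mp hq.2).1))
  have hcp : v p ∈ Mf p.1.1 := by
    have : v p = - ∑ q ∈ (s.filter fun i => v i ≠ 0).erase p, v q :=
      eq_neg_of_add_eq_zero_left hsum'
    rw [this]
    exact Submodule.neg_mem _ hrest
  have : v p ∈ Mf p.1.1 ⊓ C p := ⟨hcp, hv p (Finset.mem_filter.mp hp).1⟩
  rw [hC1 p, Submodule.mem_bot] at this
  exact (Finset.mem_filter.mp hp).2 this

include hmono hlim hC1 hC2 in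
lemma isInternal [WellFoundedLT S] [DecidableEq (Step S)] (htop : (⨆ s, Mf s) = ⊤) :
    DirectSum.IsInternal C := by
  refine DirectSum.isInternal_submodule_of_iSupIndep_of_iSup_eq_top
    (iSupIndep_compl Mf hmono C hC1 hC2) ?_
  rw [eq_top_iff, ← htop]
  exact iSup_le fun t => le_iSup_compl Mf hlim C hC2 t

/-- the complement is isomorphic to the quotient -/
noncomputable def complEquiv (p : Step S) :
    C p ≃ₗ[R] (↥(Mf p.1.2) ⧸ Submodule.comap (Mf p.1.2).subtype (Mf p.1.1)) :=
  LinearEquiv.ofBijective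
    ((Submodule.mkQ _).comp (Submodule.inclusion (compl_le Mf C hC2 p)))
    (by
      constructor
      · rw [injective_iff_map_eq_zero]
        intro c hc
        simp only [LinearMap.coe_comp, Function.comp_apply, Submodule.mkQ_apply,
          Submodule.Quotient.mk_eq_zero, Submodule.mem_comap, Submodule.subtype_apply,
          Submodule.coe_inclusion] at hc
        have : (c : M) ∈ Mf p.1.1 ⊓ C p := ⟨hc, c.2⟩
        rw [hC1 p, Submodule.mem_bot] at this
        exact Subtype.ext this
      · intro y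
        obtain ⟨⟨x, hx⟩, rfl⟩ := Submodule.mkQ_surjective _ y
        have hx' := hx
        rw [← hC2 p, Submodule.mem_sup] at hx'
        obtain ⟨a, ha, c, hc, rfl⟩ := hx'
        refine ⟨⟨c, hc⟩, ?_⟩
        simp only [LinearMap.coe_comp, Function.comp_apply, Submodule.mkQ_apply]
        rw [Submodule.Quotient.eq]
        simp only [Submodule.mem_comap, Submodule.subtype_apply, AddSubgroupClass.coe_sub,
          Submodule.coe_inclusion]
        rw [show c - (a + c) = -a by abel]
        exact Submodule.neg_mem _ ha)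

include hmono hlim hC1 hC2 in
theorem main [WellFoundedLT S] (htop : (⨆ s, Mf s) = ⊤) :
    Nonempty (M ≃ₗ[R] DirectSum (Step S)
        fun p => ↥(Mf p.1.2) ⧸ Submodule.comap (Mf p.1.2).subtype (Mf p.1.1)) := by
  classical
  have hint := isInternal Mf hmono hlim C hC1 hC2 htop
  let e1 : (⨁ p, C p) ≃ₗ[R] M := LinearEquiv.ofBijective (DirectSum.coeLinearMap C) hint
  let e2 : (⨁ p, C p) ≃ₗ[R] DirectSum (Step S)
        fun p => ↥(Mf p.1.2) ⧸ Submodule.comap (Mf p.1.2).subtype (Mf p.1.1) :=
    DFinsupp.mapRange.linearEquiv (fun p => complEquiv Mf C hC1 hC2 p)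
  exact ⟨e1.symm.trans e2⟩

end

end Groth.Agent.Lib.Helper11Devissage
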