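import Mathlib

set_option autoImplicit false
universe u

namespace Groth.Agent.Lib.Helper11

variable {A : Type u} [CommRing A]

/-- In a local ring of Krull dimension one, a prime which is not minimal is the maximal ideal. -/
theorem eq_maximalIdeal_of_not_mem_minimalPrimes [IsLocalRing A] (hdim : ringKrullDim A = 1)
    (q : Ideal A) [hq : q.IsPrime] (hmin : q ∉ minimalPrimes A) :
    q = IsLocalRing.maximalIdeal A := by
  by_contra hne
  have hle : q ≤ IsLocalRing.maximalIdeal A := IsLocalRing.le_maximalIdeal hq.ne_top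
  have hlt : q < IsLocalRing.maximalIdeal A := lt_of_le_of_ne hle hne
  have h1 := Ideal.height_add_one_le_of_lt_of_isPrime hlt
  have h2 : ((IsLocalRing.maximalIdeal A).height : WithBot ℕ∞) = 1 := by
    rw [IsLocalRing.maximalIdeal_height_eq_ringKrullDim, hdim]
  have h3 : (IsLocalRing.maximalIdeal A).height = 1 := by
    exact_mod_cast h2
  rw [h3] at h1
  have h4 : q.height = 0 := by
    by_contra h0
    have h5 : (1 : ℕ∞) ≤ q.height := Order.one_le_iff_ne_zero.mpr h0
    have h6 : (1 : ℕ∞) + 1 ≤ 1 := (add_le_add_left h5 1).trans h1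
    exact absurd h6 (by decide)
  exact hmin (Ideal.height_eq_zero_iff.mp h4)

/-- the ideal of elements vanishing in the localization at every minimal prime -/
def minLocKer (A : Type u) [CommRing A] : Ideal A where
  carrier := {x | ∀ p ∈ minimalPrimes A, ∃ s : A, s ∉ p ∧ s * x = 0}
  zero_mem' := by
    intro p hp
    have : p.IsPrime := hp.1.1
    exact ⟨1, fun h => this.ne_top ((Ideal.eq_top_iff_one p).mpr h), by simp⟩
  add_mem' := by
    intro x y hx hy p hp
    have hprime : p.IsPrime := hp.1.1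
    obtain ⟨s₁, hs₁, h₁⟩ := hx p hp
    obtain ⟨s₂, hs₂, h₂⟩ := hy p hp
    refine ⟨s₁ * s₂, fun h => (hprime.mem_or_mem h).elim hs₁ hs₂, ?_⟩
    have : s₁ * s₂ * (x + y) = s₂ * (s₁ * x) + s₁ * (s₂ * y) := by ring
    rw [this, h₁, h₂]; simp
  smul_mem' := by
    intro c x hx p hp
    obtain ⟨s, hs, h⟩ := hx p hp
    refine ⟨s, hs, ?_⟩
    have : s * (c • x) = c * (s * x) := by rw [smul_eq_mul]; ring
    rw [this, h]; simp

theorem mem_minLocKer_iff (x : A) :
    x ∈ minLocKer A ↔ ∀ p ∈ minimalPrimes A, ∃ s : A, s ∉ p ∧ s * x = 0 := Iff.rfl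

theorem mem_minLocKer_of_algebraMap_eq_zero (x : A)
    (h : ∀ p : {p : PrimeSpectrum A // p.asIdeal ∈ minimalPrimes A},
      algebraMap A (Localization.AtPrime p.1.asIdeal) x = 0) : x ∈ minLocKer A := by
  intro p hp
  have hprime : p.IsPrime := hp.1.1
  have h1 := h ⟨⟨p, hprime⟩, hp⟩
  obtain ⟨s, hs⟩ := (IsLocalization.map_eq_zero_iff p.primeCompl (Localization.AtPrime p) x).mp h1
  exact ⟨s.1, s.2, hs⟩

/-- In a one-dimensional Noetherian local ring a power of the maximal ideal kills `minLocKer`. -/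
theorem exists_pow_maximalIdeal_mul_minLocKer [IsLocalRing A] [IsNoetherianRing A]
    (hdim : ringKrullDim A = 1) :
    ∃ N : ℕ, ∀ y ∈ (IsLocalRing.maximalIdeal A) ^ N, ∀ x ∈ minLocKer A, y * x = 0 := by
  classical
  set K := minLocKer A with hK
  set J : Ideal A := Submodule.annihilator K with hJ
  have hclaim : ∀ p ∈ minimalPrimes A, ¬ J ≤ p := by
    intro p hp hJp
    have hprime : p.IsPrime := hp.1.1
    obtain ⟨G, hG⟩ := (IsNoetherian.noetherian K : K.FG)
    have hsf : ∀ x : A, ∃ s : A, x ∈ K → (s ∉ p ∧ s * x = 0) := by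
      intro x
      by_cases hx : x ∈ K
      · obtain ⟨s, hs, h⟩ := hx p hp
        exact ⟨s, fun _ => ⟨hs, h⟩⟩
      · exact ⟨0, fun h => absurd h hx⟩
    choose sf hsf using hsf
    have hGK : ∀ x ∈ G, x ∈ K := fun x hx => hG ▸ Submodule.subset_span hx
    have ht : (∏ x ∈ G, sf x) ∉ p := by
      rw [Ideal.IsPrime.prod_mem_iff]
      rintro ⟨x, hx, hmem⟩
      exact (hsf x (hGK x hx)).1 hmem
    apply ht
    apply hJp
    rw [hJ, ← hG, Submodule.mem_annihilator_span]
    rintro ⟨n, hn⟩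
    have hn' : n ∈ G := hn
    rw [smul_eq_mul, ← Finset.mul_prod_erase G sf hn']
    show (sf n * ∏ x ∈ G.erase n, sf x) * n = 0
    have : (sf n * ∏ x ∈ G.erase n, sf x) * n = (∏ x ∈ G.erase n, sf x) * (sf n * n) := by ring
    rw [this, (hsf n (hGK n hn')).2, mul_zero]
  have hrad : IsLocalRing.maximalIdeal A ≤ J.radical := by
    rw [Ideal.radical_eq_sInf]
    refine le_sInf ?_
    rintro q ⟨hJq, hq⟩
    have hnot : q ∉ minimalPrimes A := fun h => hclaim q h hJq
    rw [eq_maximalIdeal_of_not_mem_minimalPrimes hdim q hnot]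
  obtain ⟨N, hN⟩ := Ideal.exists_pow_le_of_le_radical_of_fg hrad
    (IsNoetherian.noetherian (IsLocalRing.maximalIdeal A))
  refine ⟨N, fun y hy x hx => ?_⟩
  have := hN hy
  rw [hJ, Submodule.mem_annihilator] at this
  exact this x hx

end Groth.Agent.Lib.Helper11
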