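import Mathlib

namespace Groth.Agent.Lib.Helper11Dual3

universe u v

variable {R : Type u} [CommRing R] {L : Type v} [LieRing L] [LieAlgebra R L]
  (bs : Module.Basis (Fin 3) R L)

/-- the vector with given coordinates -/
noncomputable def V (α β γ : R) : L := α • bs 0 + β • bs 1 + γ • bs 2

theorem b0 : bs 0 = V bs 1 0 0 := by simp [V]
theorem b1 : bs 1 = V bs 0 1 0 := by simp [V]
theorem b2 : bs 2 = V bs 0 0 1 := by simp [V]

theorem eq_V (w : L) : w = V bs (bs.repr w 0) (bs.repr w 1) (bs.repr w 2) := by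
  have h := bs.sum_repr w
  rw [Fin.sum_univ_three] at h
  rw [V, h]

theorem repr_V (α β γ : R) :
    bs.repr (V bs α β γ) 0 = α ∧ bs.repr (V bs α β γ) 1 = β ∧ bs.repr (V bs α β γ) 2 = γ := by
  refine ⟨?_, ?_, ?_⟩ <;> simp [V]

theorem V_inj {α β γ α' β' γ' : R} (h : V bs α β γ = V bs α' β' γ') :
    α = α' ∧ β = β' ∧ γ = γ' := by
  obtain ⟨h0, h1, h2⟩ := repr_V bs α β γ
  obtain ⟨h0', h1', h2'⟩ := repr_V bs α' β' γ'
  rw [h] at h0 h1 h2
  exact ⟨h0.symm.trans h0', h1.symm.trans h1', h2.symm.trans h2'⟩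

theorem V_congr {α β γ α' β' γ' : R} (h0 : α = α') (h1 : β = β') (h2 : γ = γ') :
    V bs α β γ = V bs α' β' γ' := by rw [h0, h1, h2]

theorem V_zero : V bs 0 0 0 = (0 : L) := by simp [V]

theorem V_eq_zero {α β γ : R} (h : V bs α β γ = 0) : α = 0 ∧ β = 0 ∧ γ = 0 := by
  rw [← V_zero bs] at h
  exact V_inj bs h

theorem smul_V (c α β γ : R) : c • V bs α β γ = V bs (c * α) (c * β) (c * γ) := by
  simp [V, smul_add, smul_smul]

theorem V_add (α β γ α' β' γ' : R) :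
    V bs α β γ + V bs α' β' γ' = V bs (α + α') (β + β') (γ + γ') := by
  simp only [V]; module

theorem bracket_V {A0 A1 A2 B0 B1 B2 C0 C1 C2 : R}
    (hxy : ⁅bs 0, bs 1⁆ = V bs A0 A1 A2) (hxz : ⁅bs 0, bs 2⁆ = V bs B0 B1 B2)
    (hyz : ⁅bs 1, bs 2⁆ = V bs C0 C1 C2) (α β γ α' β' γ' : R) :
    ⁅V bs α β γ, V bs α' β' γ'⁆ =
      V bs ((α * β' - β * α') * A0 + (α * γ' - γ * α') * B0 + (β * γ' - γ * β') * C0)
        ((α * β' - β * α') * A1 + (α * γ' - γ * α') * B1 + (β * γ' - γ * β') * C1)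
        ((α * β' - β * α') * A2 + (α * γ' - γ * α') * B2 + (β * γ' - γ * β') * C2) := by
  have hyx : ⁅bs 1, bs 0⁆ = -V bs A0 A1 A2 := by rw [← hxy, lie_skew]
  have hzx : ⁅bs 2, bs 0⁆ = -V bs B0 B1 B2 := by rw [← hxz, lie_skew]
  have hzy : ⁅bs 2, bs 1⁆ = -V bs C0 C1 C2 := by rw [← hyz, lie_skew]
  conv_lhs => rw [V, V]
  simp only [add_lie, lie_add, smul_lie, lie_smul, lie_self, hxy, hxz, hyz, hyx, hzx, hzy]
  simp only [V]
  module

/-- linear maps agreeing on the three basis vectors are equal -/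
theorem end_ext {f g : Module.End R L} (h0 : f (bs 0) = g (bs 0)) (h1 : f (bs 1) = g (bs 1))
    (h2 : f (bs 2) = g (bs 2)) : f = g := by
  apply bs.ext
  intro i
  fin_cases i
  · exact h0
  · exact h1
  · exact h2

theorem ad_pow_succ_apply (x v : L) (n : ℕ) :
    (LieAlgebra.ad R L x ^ (n + 1)) v = ⁅x, (LieAlgebra.ad R L x ^ n) v⁆ := by
  rw [pow_succ', Module.End.mul_apply, LieAlgebra.ad_apply]

theorem ad_pow_zero_apply (x v : L) : (LieAlgebra.ad R L x ^ 0) v = v := by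
  simp

/-- if `(ad x)^m = 0` then `(ad x)^n = 0` for `n ≥ m` -/
theorem ad_pow_eq_zero_of_le (x : L) {m n : ℕ} (hmn : m ≤ n)
    (h : LieAlgebra.ad R L x ^ m = 0) : LieAlgebra.ad R L x ^ n = 0 := by
  obtain ⟨k, rfl⟩ := Nat.exists_eq_add_of_le hmn
  rw [pow_add, h, zero_mul]

end Groth.Agent.Lib.Helper11Dual3
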