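import Groth.Agent.Lib.Helper11LP

/-!
Genus one classification: configurations with two special features joined by a path.
-/

namespace Groth.Agent.Lib.Helper11

open Finset Models

variable {n : ℕ} {T : Models.NumericalType n}

/-- the seven families -/
def ResFam (T : Models.NumericalType n) : Prop :=
  ∃ (k : ℕ) (u : Fin k ↪ Fin n) (m w : ℤ), k = n ∧
    (Clause1 T k u m w ∨ Clause2 T k u m w ∨ Clause3 T k u m w ∨ Clause4 T k u m w ∨
     Clause5 T k u m w ∨ Clause6 T k u m w ∨ (6 ≤ k ∧ Clause7 T k u m w))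

/-- a multiple edge -/
def DblE (T : Models.NumericalType n) (i j : Fin n) : Prop := 2 ≤ kk T i j ∨ 2 ≤ kk T j i

theorem DblE.symm {i j : Fin n} (h : DblE T i j) : DblE T j i := Or.symm h

theorem resFam_of_cyc (h2 : ∀ i, T.IsMinusTwo i) (h : HasCyc T) : ResFam T := by
  obtain ⟨k, u, hk, hB⟩ := h
  obtain ⟨hkn, m, w, hc⟩ := fam_cycle T u (fun j => h2 _) hk hB
  exact ⟨k, u, m, w, hkn, Or.inl hc⟩

/-- a path with multiple edges at both ends -/
theorem resFam_of_chain (h2 : ∀ i, T.IsMinusTwo i) {k : ℕ} (u : Fin k ↪ Fin n) (hk : 3 ≤ k)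
    (hpath : IsPath T u) (p0 p1 pd pe : Fin k) (hp0 : p0.val = 0) (hp1 : p1.val = 1)
    (hpd : pd.val + 2 = k) (hpe : pe.val + 1 = k)
    (h01 : DblE T (u p0) (u p1)) (hde : DblE T (u pd) (u pe)) : ResFam T := by
  have e01 := K_pos T u (p := p0) (q := p1) (fin_ne (by omega)) (hpath p0 p1 (by omega))
  have e10 := K_pos' T u (p := p0) (q := p1) (fin_ne (by omega)) (hpath p0 p1 (by omega))
  have ede := K_pos T u (p := pd) (q := pe) (fin_ne (by omega)) (hpath pd pe (by omega))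
  have eed := K_pos' T u (p := pd) (q := pe) (fin_ne (by omega)) (hpath pd pe (by omega))
  have r0 : ∀ j : Fin k, j.val = 0 → j = p0 := fun j hj => Fin.ext (by omega)
  have r1 : ∀ j : Fin k, j.val = 1 → j = p1 := fun j hj => Fin.ext (by omega)
  have rd : ∀ j : Fin k, j.val + 2 = k → j = pd := fun j hj => Fin.ext (by omega)
  have re : ∀ j : Fin k, j.val + 1 = k → j = pe := fun j hj => Fin.ext (by omega)
  by_cases hA : 2 ≤ kk T (u p0) (u p1) <;> by_cases hBb : 2 ≤ kk T (u pe) (u pd)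
  · obtain ⟨hkn, m, w, hc⟩ := fam3 T u (fun j => h2 _) hk (hB_chain u hpath (Or.inr rfl) (Or.inr rfl)
      (by intro j j' hj hj'; rw [r0 j hj, r1 j' hj']; exact ⟨hA, by omega⟩)
      (by intro j j' hj hj'; rw [rd j hj, re j' hj']; exact ⟨by omega, hBb⟩))
    exact ⟨k, u, m, w, hkn, Or.inr (Or.inr (Or.inl hc))⟩
  · have h' : 2 ≤ kk T (u pd) (u pe) := by rcases hde with h | h <;> omega
    obtain ⟨hkn, m, w, hc⟩ := fam2 T u (fun j => h2 _) hk (hB_chain u hpath (Or.inr rfl) (Or.inl rfl)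
      (by intro j j' hj hj'; rw [r0 j hj, r1 j' hj']; exact ⟨hA, by omega⟩)
      (by intro j j' hj hj'; rw [rd j hj, re j' hj']; exact ⟨by omega, by omega⟩))
    exact ⟨k, u, m, w, hkn, Or.inr (Or.inl hc)⟩
  · have h' : 2 ≤ kk T (u p1) (u p0) := by rcases h01 with h | h <;> omega
    obtain ⟨hkn, m, w, hc⟩ := fam2 T (revEmb u) (fun j => h2 _) hk
      (hB_chain (revEmb u) hpath.rev (Or.inr rfl) (Or.inl rfl)
      (by
        intro j j' hj hj'
        rw [revEmb_eq u j pe (by omega), revEmb_eq u j' pd (by omega)]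
        exact ⟨hBb, by omega⟩)
      (by
        intro j j' hj hj'
        rw [revEmb_eq u j p1 (by omega), revEmb_eq u j' p0 (by omega)]
        exact ⟨by omega, by omega⟩))
    exact ⟨k, revEmb u, m, w, hkn, Or.inr (Or.inl hc)⟩
  · have h' : 2 ≤ kk T (u p1) (u p0) := by rcases h01 with h | h <;> omega
    have h'' : 2 ≤ kk T (u pd) (u pe) := by rcases hde with h | h <;> omega
    obtain ⟨hkn, m, w, hc⟩ := fam4 T u (fun j => h2 _) hk (hB_chain u hpath (Or.inl rfl) (Or.inl rfl)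
      (by intro j j' hj hj'; rw [r0 j hj, r1 j' hj']; exact ⟨by omega, by omega⟩)
      (by intro j j' hj hj'; rw [rd j hj, re j' hj']; exact ⟨by omega, by omega⟩))
    exact ⟨k, u, m, w, hkn, Or.inr (Or.inr (Or.inr (Or.inl hc)))⟩

/-- two multiple edges on a path -/
theorem resFam_of_two_dbl (h2 : ∀ i, T.IsMinusTwo i) {t : ℕ} {v : Fin t ↪ Fin n}
    (hv : IsPath T v) (j j1 j' j1' : Fin t) (hj : j1.val = j.val + 1) (hj' : j1'.val = j'.val + 1)
    (hjj : j.val < j'.val) (hd : DblE T (v j) (v j1)) (hd' : DblE T (v j') (v j1')) :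
    ResFam T := by
  have hlt := j1'.isLt
  have hL : j.val + (j'.val - j.val + 2) ≤ t := by omega
  refine resFam_of_chain h2 (segEmb v j.val (j'.val - j.val + 2) hL) (by omega) (hv.seg _ _ _)
    ⟨0, by omega⟩ ⟨1, by omega⟩ ⟨j'.val - j.val, by omega⟩ ⟨j'.val - j.val + 1, by omega⟩ rfl rfl
    (by simp only []) (by simp only []) ?_ ?_
  · rw [segEmb_eq v _ _ _ _ j (by simp only []; omega), segEmb_eq v _ _ _ _ j1 (by simp only []; omega)]
    exact hd
  · rw [segEmb_eq v _ _ _ _ j' (by simp only []; omega),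
      segEmb_eq v _ _ _ _ j1' (by simp only []; omega)]
    exact hd'

/-- a multiple edge followed by a branch vertex -/
theorem resFam_of_dbl_br (h2 : ∀ i, T.IsMinusTwo i) {t : ℕ} {v : Fin t ↪ Fin n}
    (hv : IsPath T v) (j j1 kb : Fin t) (hj : j1.val = j.val + 1) (hjk : j1.val ≤ kb.val)
    (hkb : kb.val + 1 < t) (hd : DblE T (v j) (v j1)) (x : Fin n) (hx : ∀ i, v i ≠ x)
    (hbx : T.a (v kb) x ≠ 0) : ResFam T := by
  have hL : j.val + (kb.val - j.val + 2) ≤ t := by omega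
  have hx' : ∀ i, segEmb v j.val (kb.val - j.val + 2) hL i ≠ x := fun i => by
    rw [segEmb_apply]; exact hx _
  have hw := hv.seg j.val (kb.val - j.val + 2) hL
  have e01 := kk_pos T (fun h => by have := v.injective h; rw [this] at hj; omega)
    (hv j j1 hj)
  have e10 := kk_pos' T (fun h => by have := v.injective h; rw [this] at hj; omega)
    (hv j j1 hj)
  have hpath : ∀ p q : Fin (kb.val - j.val + 2 + 1), q.val = p.val + 1 →
      q.val + 2 ≤ kb.val - j.val + 2 + 1 →
      T.a (snocEmb (segEmb v j.val (kb.val - j.val + 2) hL) x hx' p)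
        (snocEmb (segEmb v j.val (kb.val - j.val + 2) hL) x hx' q) ≠ 0 := by
    intro p q hpq hq
    rw [snocEmb_lt _ x hx' p ⟨p.val, by omega⟩ rfl, snocEmb_lt _ x hx' q ⟨q.val, by omega⟩ rfl]
    exact hw _ _ hpq
  have hbr : ∀ p q : Fin (kb.val - j.val + 2 + 1), p.val + 3 = kb.val - j.val + 2 + 1 →
      q.val + 1 = kb.val - j.val + 2 + 1 →
      T.a (snocEmb (segEmb v j.val (kb.val - j.val + 2) hL) x hx' p)
        (snocEmb (segEmb v j.val (kb.val - j.val + 2) hL) x hx' q) ≠ 0 := by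
    intro p q hp hq
    rw [snocEmb_lt _ x hx' p ⟨p.val, by omega⟩ rfl, snocEmb_last _ x hx' q (by omega),
      segEmb_eq v _ _ _ _ kb (by simp only []; omega)]
    exact hbx
  have hu0 : ∀ p : Fin (kb.val - j.val + 2 + 1), p.val = 0 →
      snocEmb (segEmb v j.val (kb.val - j.val + 2) hL) x hx' p = v j := by
    intro p hp
    rw [snocEmb_lt _ x hx' p ⟨0, by omega⟩ (by simp only []; omega),
      segEmb_eq v _ _ _ _ j (by simp only []; omega)]
  have hu1 : ∀ p : Fin (kb.val - j.val + 2 + 1), p.val = 1 →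
      snocEmb (segEmb v j.val (kb.val - j.val + 2) hL) x hx' p = v j1 := by
    intro p hp
    rw [snocEmb_lt _ x hx' p ⟨1, by omega⟩ (by simp only []; omega),
      segEmb_eq v _ _ _ _ j1 (by simp only []; omega)]
  by_cases hA : 2 ≤ kk T (v j) (v j1)
  · obtain ⟨hkn, m, w, hc⟩ := fam6 T (snocEmb (segEmb v j.val (kb.val - j.val + 2) hL) x hx')
      (fun j => h2 _) (by omega) (hB_bt _ (Or.inr rfl) hpath hbr (by
        intro p q hp hq
        rw [hu0 p hp, hu1 q hq]
        exact ⟨hA, by omega⟩))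
    exact ⟨_, _, m, w, hkn, Or.inr (Or.inr (Or.inr (Or.inr (Or.inr (Or.inl hc)))))⟩
  · have h' : 2 ≤ kk T (v j1) (v j) := by rcases hd with h | h <;> omega
    obtain ⟨hkn, m, w, hc⟩ := fam5 T (snocEmb (segEmb v j.val (kb.val - j.val + 2) hL) x hx')
      (fun j => h2 _) (by omega) (hB_bt _ (Or.inl rfl) hpath hbr (by
        intro p q hp hq
        rw [hu0 p hp, hu1 q hq]
        exact ⟨by omega, by omega⟩))
    exact ⟨_, _, m, w, hkn, Or.inr (Or.inr (Or.inr (Or.inr (Or.inl hc))))⟩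

/-- two branch vertices on a path -/
theorem resFam_of_two_br (h2 : ∀ i, T.IsMinusTwo i) {t : ℕ} {v : Fin t ↪ Fin n}
    (hv : IsPath T v) (ka kb : Fin t) (hka : 1 ≤ ka.val) (hab : ka.val < kb.val)
    (hkb : kb.val + 1 < t) (x x' : Fin n) (hx : ∀ i, v i ≠ x) (hx' : ∀ i, v i ≠ x')
    (hxx : x ≠ x') (hax : T.a (v ka) x ≠ 0) (hbx : T.a (v kb) x' ≠ 0) : ResFam T := by
  have hL : (ka.val - 1) + (kb.val - ka.val + 3) ≤ t := by omega
  have hw := hv.seg (ka.val - 1) (kb.val - ka.val + 3) hL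
  have hs' : ∀ i, segEmb v (ka.val - 1) (kb.val - ka.val + 3) hL i ≠ x' := fun i => by
    rw [segEmb_apply]; exact hx' _
  have hs : ∀ i, snocEmb (segEmb v (ka.val - 1) (kb.val - ka.val + 3) hL) x' hs' i ≠ x := by
    intro i
    by_cases hi : i.val < kb.val - ka.val + 3
    · rw [snocEmb_lt _ x' hs' i ⟨i.val, hi⟩ rfl, segEmb_apply]; exact hx _
    · rw [snocEmb_last _ x' hs' i (by have := i.isLt; omega)]; exact hxx.symm
  -- the enumeration: x, v (ka-1), ..., v (kb+1), x'
  have hB := hB_dd (T := T)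
    (consEmb (snocEmb (segEmb v (ka.val - 1) (kb.val - ka.val + 3) hL) x' hs') x hs) ?_ ?_ ?_ ?_
  · obtain ⟨hkn, m, w, hc⟩ := fam7 T
      (consEmb (snocEmb (segEmb v (ka.val - 1) (kb.val - ka.val + 3) hL) x' hs') x hs)
      (fun j => h2 _) (by omega) hB
    exact ⟨_, _, m, w, hkn, Or.inr (Or.inr (Or.inr (Or.inr (Or.inr (Or.inr ⟨by omega, hc⟩)))))⟩
  · intro p q hp hq
    rw [consEmb_zero _ x hs p hp, consEmb_succ _ x hs q ⟨1, by omega⟩ (by simp only []; omega),
      snocEmb_lt _ x' hs' _ ⟨1, by omega⟩ (by simp only []),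
      segEmb_eq v _ _ _ _ ka (by simp only []; omega), a_symm]
    exact hax
  · intro p q hp hq
    rw [consEmb_succ _ x hs p ⟨0, by omega⟩ (by simp only []; omega),
      consEmb_succ _ x hs q ⟨1, by omega⟩ (by simp only []; omega),
      snocEmb_lt _ x' hs' _ ⟨0, by omega⟩ (by simp only []),
      snocEmb_lt _ x' hs' _ ⟨1, by omega⟩ (by simp only [])]
    exact hw _ _ (by simp only [])
  · intro p q hpq hp hq
    rw [consEmb_succ _ x hs p ⟨p.val - 1, by omega⟩ (by simp only []; omega),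
      consEmb_succ _ x hs q ⟨q.val - 1, by omega⟩ (by simp only []; omega),
      snocEmb_lt _ x' hs' _ ⟨p.val - 1, by omega⟩ (by simp only []),
      snocEmb_lt _ x' hs' _ ⟨q.val - 1, by omega⟩ (by simp only [])]
    exact hw _ _ (by simp only []; omega)
  · intro p q hp hq
    rw [consEmb_succ _ x hs p ⟨p.val - 1, by omega⟩ (by simp only []; omega),
      consEmb_succ _ x hs q ⟨q.val - 1, by omega⟩ (by simp only []; omega),
      snocEmb_lt _ x' hs' _ ⟨p.val - 1, by omega⟩ (by simp only []),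
      snocEmb_last _ x' hs' _ (by simp only []; omega),
      segEmb_eq v _ _ _ _ kb (by simp only []; omega)]
    exact hbx

end Groth.Agent.Lib.Helper11
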