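import Groth.Agent.Lib.Helper20InvGen
import Groth.Agent.Lib.Helper20StalkExact
import Groth.Prelude.Def_ClSub2
import Groth.Prelude.Def_BlowUp2

/-!
# Sections of the ideal module `ClSub.idealMod I` (helper20)

`ι_injective`, `ι_toSubscheme`, `exists_eq_ι`: the sections of `idealMod I` over `V` are the functions on `V` killed by
`O_X → i_* O_Z`.
-/
set_option autoImplicit false
universe u
open CategoryTheory CategoryTheory.Limits AlgebraicGeometry TopologicalSpace Opposite

namespace Groth.Agent.Lib.Helper20.IdealModSec

set_option linter.style.haveILetI false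
open Groth.Agent.Lib.Helper2.QCoh Groth.Agent.Lib.Helper20.InvGen Groth.Agent.Lib.Helper20.StalkExact

variable {X : Scheme.{u}} (I : X.IdealSheafData)

instance : Mono (ClSub.idealModι I) := by
  unfold ClSub.idealModι
  exact equalizer.ι_mono

theorem ι_injective (V : X.Opens) : Function.Injective ((ClSub.idealModι I).app V) :=
  injective_app_of_mono _ V

theorem ι_toSubscheme (V : X.Opens) (j : Γ(ClSub.idealMod I, V)) :
    (ClSub.toSubscheme I).app V ((ClSub.idealModι I).app V j) = 0 := by
  have h : ClSub.idealModι I ≫ ClSub.toSubscheme I = 0 := kernel.condition _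
  have h2 : (ClSub.idealModι I ≫ ClSub.toSubscheme I).app V = 0 := by rw [h]; rfl
  exact ConcreteCategory.congr_hom h2 j

theorem exists_eq_ι (V : X.Opens) (a : Γ(Coh.structureModule X, V))
    (ha : (ClSub.toSubscheme I).app V a = 0) :
    ∃ j : Γ(ClSub.idealMod I, V), (ClSub.idealModι I).app V j = a := by
  let E : ShortComplex X.Modules :=
    ShortComplex.mk (ClSub.idealModι I) (ClSub.toSubscheme I) (kernel.condition _)
  have hE : E.Exact := ShortComplex.exact_of_f_is_kernel E (kernelIsKernel (ClSub.toSubscheme I))
  haveI : Mono E.f := inferInstanceAs (Mono (ClSub.idealModι I))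
  haveI : (secF (X := X) V).PreservesZeroMorphisms := ⟨fun _ _ => rfl⟩
  have h1 : (E.map (secF V)).Exact :=
    hE.map_of_mono_of_preservesKernel (secF V) inferInstance inferInstance
  rw [ShortComplex.ab_exact_iff] at h1
  exact h1 a ha

theorem toSubscheme_app (V : X.Opens) (a : Γ(X, V)) :
    (ClSub.toSubscheme I).app V (a : Γ(Coh.structureModule X, V)) = (I.subschemeι.app V).hom a := rfl

end Groth.Agent.Lib.Helper20.IdealModSec
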