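import Groth.Agent.Lib.Helper20RegMeroP
import Groth.Agent.Lib.Helper23TensorUnit
import Groth.Agent.Lib.Helper23FinTypeLocal
import Groth.Agent.S8867
import Groth.Agent.S8871

/-!
# Weakly associated points of the structure sheaf and regular meromorphic sections (helper20)

`WA x`: `x` is a weakly associated point of `O_X`.  Sections over affine opens are detected at weakly associated
points; on a locally Noetherian scheme these separate the local rings (`sep_wa`) and there are finitely many in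
each affine open.  Invertible modules are quasi-coherent; a section over an affine open generating an invertible
module at finitely many points (`exists_section_isGen`); if all weakly associated points lie in an affine open,
every invertible module has a regular meromorphic section (`hasRegularMero_of_wa_subset_affine`).
-/
set_option autoImplicit false
universe u
open CategoryTheory CategoryTheory.Limits AlgebraicGeometry TopologicalSpace

namespace Groth.Agent.Lib.Helper20.WeakAss

set_option linter.style.haveILetI false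
open Groth.Agent.Lib.Helper20.Kmod Groth.Agent.Lib.Helper2.QCoh Groth.Agent.Lib.Helper20.InvGen
open Groth.Agent.Lib.Helper20.RegMero Groth.Agent.Lib.Helper20.RegMeroP

variable {X : Scheme.{u}}

/-- weakly associated points of the structure sheaf. -/
def WA (x : X) : Prop := Curv2.IsWeakAssPoint (Coh.structureModule X) x

/-- a section over an affine open vanishing at all weakly associated points vanishes. -/
theorem eq_zero_of_germ_eq_zero {U : X.Opens} (hU : IsAffineOpen U) (c : Γ(X, U))
    (hc : ∀ (η : X) (hη : η ∈ U), WA η → X.presheaf.germ U η hη c = 0) : c = 0 := by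
  by_contra hc0
  obtain ⟨ξ, hξ, hw, hne⟩ := exists_isWeakAssPoint_germ_ne_zero hU c hc0
  exact hne (hc ξ hξ hw)

/-- a section which is a unit at all weakly associated points is regular. -/
theorem mem_regSub_of_isUnit_germ {U : X.Opens} (hU : IsAffineOpen U) (s : Γ(X, U))
    (hs : ∀ (η : X) (hη : η ∈ U), WA η → IsUnit (X.presheaf.germ U η hη s)) :
    s ∈ Mero.regSub X U := by
  have hnzd : s ∈ nonZeroDivisors Γ(X, U) := by
    rw [mem_nonZeroDivisors_iff_right]
    intro y hy
    apply eq_zero_of_germ_eq_zero hU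
    intro η hη hmax
    have h1 : X.presheaf.germ U η hη y * X.presheaf.germ U η hη s = 0 := by
      rw [← map_mul, hy, map_zero]
    exact ((hs η hη hmax).mul_left_eq_zero).1 h1
  intro x
  exact Groth.Agent.S8898.germ_mem_nonZeroDivisors hU s hnzd x

/-- a weakly associated point of the structure sheaf: the maximal ideal is an associated prime of the local ring. -/
theorem isAssociatedPrime_of_wa (x : X) (h : WA x) :
    IsAssociatedPrime (IsLocalRing.maximalIdeal (X.presheaf.stalk x)) (X.presheaf.stalk x) := by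
  obtain ⟨m, hm⟩ := h
  obtain ⟨g, hg⟩ := exists_isGen (Coh.structureModule X)
    (Groth.Agent.Lib.Helper23.TensorUnit.isInvertible_structureModule X) x
  obtain ⟨c, hc⟩ := hg.2 m
  have hc' : c • g = m := hc
  refine ⟨(IsLocalRing.maximalIdeal.isMaximal _).isPrime, c, ?_⟩
  rw [← hm]
  congr 1
  ext a
  rw [LinearMap.mem_ker, LinearMap.toSpanSingleton_apply, Submodule.mem_colon_singleton,
    Submodule.mem_bot, ← hc', smul_smul]
  constructor
  · intro h0
    have : (a * c) • g = (0 : X.presheaf.stalk x) • g := by rw [h0, zero_smul]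
    exact hg.1 this
  · intro h0
    have h0' : a * c = 0 := h0
    rw [h0', zero_smul]

/-- finiteness of the set of weakly associated points in a Noetherian affine open. -/
theorem finite_wa {U : X.Opens} (hU : IsAffineOpen U) [IsNoetherianRing Γ(X, U)] :
    {z : U | WA z.1}.Finite := by
  haveI : (Coh.structureModule X).IsQuasicoherent :=
    Groth.Agent.Lib.Helper20.OmegaAff.isQuasicoherent_structureModule
  have hfin : (associatedPrimes Γ(X, U) Γ(Coh.structureModule X, U)).Finite := by
    have : (associatedPrimes Γ(X, U) Γ(X, U)).Finite := associatedPrimes.finite _ _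
    exact this
  refine Set.Finite.of_finite_image (f := fun z : U => (hU.primeIdealOf z).asIdeal)
    (hfin.subset ?_) ?_
  · rintro _ ⟨z, hz, rfl⟩
    exact (Groth.Agent.S8871.isAssPoint_iff hU (Coh.structureModule X) z.1 z.2).1
      (Groth.Agent.S8867.isAssPoint_of_isWeakAssPoint _ z.1 hz)
  · intro z _ z' _ h
    have h' : hU.primeIdealOf z = hU.primeIdealOf z' := PrimeSpectrum.ext h
    have := congrArg hU.fromSpec h'
    rw [hU.fromSpec_primeIdealOf, hU.fromSpec_primeIdealOf] at this
    exact Subtype.ext this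

/-- on a locally Noetherian scheme, the weakly associated points separate the elements of the local rings. -/
theorem sep_wa [IsLocallyNoetherian X] : Sep (WA (X := X)) := by
  intro y c hc
  by_contra hc0
  obtain ⟨V₀, hyV₀, c₀, rfl⟩ := X.presheaf.exists_germ_eq c
  obtain ⟨_, ⟨V, hV, rfl⟩, hyV, hVV₀⟩ :=
    X.isBasis_affineOpens.exists_subset_of_mem_open hyV₀ V₀.isOpen
  have hle : V ≤ V₀ := hVV₀
  haveI : IsNoetherianRing Γ(X, V) := IsLocallyNoetherian.component_noetherian ⟨V, hV⟩
  have hfin := finite_wa hV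
  let Z : Set X := ⋃ z ∈ {z : V | WA z.1 ∧ ¬ z.1 ⤳ y}, closure {z.1}
  have hZc : IsClosed Z :=
    (hfin.subset (fun z hz => hz.1)).isClosed_biUnion (fun _ _ => isClosed_closure)
  have hyZ : y ∉ Z := by
    intro h
    obtain ⟨z, ⟨_, hz⟩, hyz⟩ := Set.mem_iUnion₂.1 h
    exact hz (specializes_iff_mem_closure.2 hyz)
  obtain ⟨_, ⟨V', hV', rfl⟩, hyV', hV'sub⟩ :=
    X.isBasis_affineOpens.exists_subset_of_mem_open (show y ∈ (V : Set X) ∩ Zᶜ from ⟨hyV, hyZ⟩)
      (V.isOpen.inter hZc.isOpen_compl)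
  have hle' : V' ≤ V₀ := fun x hx => hle (hV'sub hx).1
  set c₁ := X.presheaf.map (homOfLE hle').op c₀ with hc₁def
  have hgerm : ∀ (z : X) (hz : z ∈ V'),
      X.presheaf.germ V' z hz c₁ = X.presheaf.germ V₀ z (hle' hz) c₀ :=
    fun z hz => TopCat.Presheaf.germ_res_apply X.presheaf (homOfLE hle') z hz c₀
  have hc₁ : c₁ ≠ 0 := by
    intro h0
    apply hc0
    rw [← hgerm y hyV', h0, map_zero]
  obtain ⟨ξ, hξ, hw, hne⟩ := exists_isWeakAssPoint_germ_ne_zero hV' c₁ hc₁
  have hξV : ξ ∈ V := (hV'sub hξ).1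
  have hξy : ξ ⤳ y := by
    by_contra hns
    exact (hV'sub hξ).2 (Set.mem_iUnion₂.2 ⟨⟨ξ, hξV⟩, ⟨hw, hns⟩, subset_closure rfl⟩)
  apply hne
  rw [hgerm ξ hξ, ← hc ξ hξy hw]
  exact (ConcreteCategory.congr_hom
    (TopCat.Presheaf.germ_stalkSpecializes X.presheaf hyV₀ hξy) c₀).symm

/-- invertible modules are quasi-coherent. -/
theorem isQuasicoherent_of_isInvertible (L : X.Modules) (hL : PicF.IsInvertible L) :
    L.IsQuasicoherent := by
  choose U hyU hiso using hL
  refine Groth.Agent.Lib.Helper23.FinType.isQuasicoherent_of_open_cover L U ?_ ?_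
  · rw [IsOpenCover, eq_top_iff]
    intro x _
    exact Opens.mem_iSup.2 ⟨x, hyU x⟩
  · intro y
    obtain ⟨e⟩ := hiso y
    haveI : (Coh.structureModule (U y : Scheme.{u})).IsQuasicoherent :=
      Groth.Agent.Lib.Helper20.OmegaAff.isQuasicoherent_structureModule
    exact (SheafOfModules.isQuasicoherent (U y : Scheme.{u}).ringCatSheaf).prop_of_iso e.symm inferInstance

/-- an invertible module has, locally, a section which freely generates all stalks and all modules of sections
over smaller opens. -/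
theorem exists_local_generator' (L : X.Modules) (hL : PicF.IsInvertible L) (x₀ : X) :
    ∃ (W : X.Opens) (t : Γ(L, W)), x₀ ∈ W ∧
      (∀ (y : X) (hy : y ∈ W), IsGen L y (L.presheaf.germ W y hy t)) ∧
      ∀ (W' : X.Opens) (h : W' ≤ W),
        Function.Bijective (fun r : Γ(X, W') => r • L.presheaf.map (homOfLE h).op t) := by
  obtain ⟨U, hxU, ⟨e⟩⟩ := hL x₀
  refine ⟨U.ι ''ᵁ ⊤, gen L U e.inv ⊤, ?_, fun y hy => bijective_smul_germ L U e.inv y hy, ?_⟩
  · rw [Scheme.Hom.image_top_eq_opensRange, Scheme.Opens.opensRange_ι]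
    exact hxU
  · intro W' h
    obtain ⟨V, rfl⟩ := exists_eq_image U W' h
    have := gen_res L U e.inv (le_top : V ≤ ⊤)
    rw [show L.presheaf.map (homOfLE h).op (gen L U e.inv ⊤) = gen L U e.inv V from this]
    exact bijective_smul_of_iso L U e.inv V

/-- a unit multiple of a generator is a generator. -/
theorem isGen_smul {L : X.Modules} {x : X} {g : L.presheaf.stalk x} (hg : IsGen L x g)
    (u : X.presheaf.stalk x) (hu : IsUnit u) : IsGen L x (u • g) := by
  obtain ⟨v, rfl⟩ := hu
  constructor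
  · intro c c' h
    have h' : (c * v) • g = (c' * v) • g := by
      rw [mul_smul, mul_smul]; exact h
    have h2 : c * v = c' * v := hg.1 h'
    exact v.isUnit.mul_left_injective h2
  · intro m
    obtain ⟨c, hc⟩ := hg.2 m
    have hc' : c • g = m := hc
    refine ⟨c * ↑v⁻¹, ?_⟩
    change (c * ↑v⁻¹) • ((v : X.presheaf.stalk x) • g) = m
    rw [smul_smul, mul_assoc, Units.inv_mul, mul_one]
    exact hc'

/-- being a generator is stable under generization. -/
theorem isGen_of_specializes (L : X.Modules) (hL : PicF.IsInvertible L) {W : X.Opens} (m : Γ(L, W))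
    {y η : X} (hy : y ∈ W) (h : η ⤳ y) (hm : IsGen L y (L.presheaf.germ W y hy m)) :
    IsGen L η (L.presheaf.germ W η (h.mem_open W.isOpen hy) m) := by
  obtain ⟨V, t, hyV, ht⟩ := exists_local_generator L hL y
  have hηV : η ∈ V := h.mem_open V.isOpen hyV
  obtain ⟨φ, hφ⟩ := (ht y hyV).2 (L.presheaf.germ W y hy m)
  have hφ' : φ • L.presheaf.germ V y hyV t = L.presheaf.germ W y hy m := hφ
  have hφu : IsUnit φ := isUnit_of_isGen hm φ hφ'
  have e1 : (L.presheaf.stalkSpecializes h) (L.presheaf.germ V y hyV t) =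
      L.presheaf.germ V η hηV t :=
    ConcreteCategory.congr_hom (TopCat.Presheaf.germ_stalkSpecializes L.presheaf hyV h) t
  have e2 : (L.presheaf.stalkSpecializes h) (L.presheaf.germ W y hy m) =
      L.presheaf.germ W η (h.mem_open W.isOpen hy) m :=
    ConcreteCategory.congr_hom (TopCat.Presheaf.germ_stalkSpecializes L.presheaf hy h) m
  have h3 : X.presheaf.stalkSpecializes h φ • L.presheaf.germ V η hηV t =
      L.presheaf.germ W η (h.mem_open W.isOpen hy) m := by
    rw [← e1, ← stalkSpecializes_smul, hφ', e2]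
  rw [← h3]
  exact isGen_smul (ht η hηV) _ (hφu.map (X.presheaf.stalkSpecializes h).hom)

/-- a section of an invertible module over an affine open generating the stalks at finitely many given points. -/
theorem exists_section_isGen (L : X.Modules) (hL : PicF.IsInvertible L) {W : X.Opens}
    (hW : IsAffineOpen W) (S : Set ↥W) (hS : S.Finite) :
    ∃ m : Γ(L, W), ∀ z ∈ S, IsGen L z.1 (L.presheaf.germ W z.1 z.2 m) := by
  classical
  haveI := isQuasicoherent_of_isInvertible L hL
  let I : W → Ideal Γ(X, W) := fun z => (hW.primeIdealOf z).asIdeal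
  have hIinj : Function.Injective I := by
    intro z z' h
    have h' : hW.primeIdealOf z = hW.primeIdealOf z' := PrimeSpectrum.ext h
    have := congrArg hW.fromSpec h'
    rw [hW.fromSpec_primeIdealOf, hW.fromSpec_primeIdealOf] at this
    exact Subtype.ext this
  -- local generating sections
  have hloc : ∀ z : W, ∃ m : Γ(L, W), IsGen L z.1 (L.presheaf.germ W z.1 z.2 m) := by
    intro z
    obtain ⟨g, hg⟩ := exists_isGen L hL z.1
    obtain ⟨s, m, hzs, hsm⟩ := exists_smul_eq_germ hW L z.1 z.2 g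
    refine ⟨m, ?_⟩
    rw [← hsm]
    exact isGen_smul hg _ ((Scheme.mem_basicOpen _ _ _ z.2).1 hzs)
  choose μ hμ using hloc
  -- maximal points
  let T : Finset ↥W := hS.toFinset.filter (fun z => ∀ z' ∈ S, I z ≤ I z' → I z' ≤ I z)
  have hTmax : ∀ z ∈ S, ∃ z' ∈ T, I z ≤ I z' := by
    intro z hz
    obtain ⟨J, hzJ, hJ⟩ := (hS.image I).exists_le_maximal (Set.mem_image_of_mem I hz)
    obtain ⟨⟨z', hz', rfl⟩, hmax⟩ := hJ
    refine ⟨z', ?_, hzJ⟩
    rw [Finset.mem_filter, Set.Finite.mem_toFinset]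
    exact ⟨hz', fun z'' hz'' hle => hmax (Set.mem_image_of_mem I hz'') hle⟩
  have hTne : ∀ z ∈ T, ∀ z' ∈ T, z ≠ z' → ¬ I z' ≤ I z := by
    intro z hz z' hz' hne hle
    rw [Finset.mem_filter, Set.Finite.mem_toFinset] at hz hz'
    have := hz'.2 z hz.1 hle
    exact hne (hIinj (le_antisymm this hle))
  -- separating elements
  have hx : ∀ z z' : W, ∃ x : Γ(X, W), (z ∈ T → z' ∈ T → z ≠ z' → x ∈ I z' ∧ x ∉ I z) := by
    intro z z'
    by_cases h : z ∈ T ∧ z' ∈ T ∧ z ≠ z'
    · obtain ⟨x, hx1, hx2⟩ := Set.not_subset.1 (hTne z h.1 z' h.2.1 h.2.2)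
      exact ⟨x, fun _ _ _ => ⟨hx1, hx2⟩⟩
    · exact ⟨0, fun h1 h2 h3 => absurd ⟨h1, h2, h3⟩ h⟩
  choose x hx using hx
  let e : W → Γ(X, W) := fun z => ∏ z' ∈ T.erase z, x z z'
  have he1 : ∀ z ∈ T, e z ∉ I z := by
    intro z hz he
    have hprime : (I z).IsPrime := (hW.primeIdealOf z).isPrime
    obtain ⟨z', hz', hmem⟩ := (hprime.prod_mem_iff).1 he
    rw [Finset.mem_erase] at hz'
    exact (hx z z' hz hz'.2 hz'.1.symm).2 hmem
  have he2 : ∀ z ∈ T, ∀ z' ∈ T, z ≠ z' → e z ∈ I z' := by
    intro z hz z' hz' hne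
    have hz'' : z' ∈ T.erase z := Finset.mem_erase.2 ⟨hne.symm, hz'⟩
    exact Ideal.prod_mem (I z') hz'' (hx z z' hz hz' hne).1
  refine ⟨∑ z ∈ T, e z • μ z, ?_⟩
  -- generator at points of T
  have hT : ∀ z ∈ T, IsGen L z.1 (L.presheaf.germ W z.1 z.2 (∑ z' ∈ T, e z' • μ z')) := by
    intro z hz
    have hc : ∀ z' : W, ∃ c : X.presheaf.stalk z.1,
        c • L.presheaf.germ W z.1 z.2 (μ z) = L.presheaf.germ W z.1 z.2 (μ z') :=
      fun z' => (hμ z).2 _
    choose c hc using hc
    have hsum : L.presheaf.germ W z.1 z.2 (∑ z' ∈ T, e z' • μ z') =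
        (∑ z' ∈ T, X.presheaf.germ W z.1 z.2 (e z') * c z') •
          L.presheaf.germ W z.1 z.2 (μ z) := by
      rw [map_sum, Finset.sum_smul]
      refine Finset.sum_congr rfl fun z' _ => ?_
      rw [germ_smul, mul_smul, hc]
    rw [hsum]
    refine isGen_smul (hμ z) _ ?_
    rw [← Finset.add_sum_erase T _ hz]
    have h1 : IsUnit (X.presheaf.germ W z.1 z.2 (e z) * c z) := by
      have hcz : c z = 1 := by
        apply (hμ z).1
        change c z • L.presheaf.germ W z.1 z.2 (μ z) =
          (1 : X.presheaf.stalk z.1) • L.presheaf.germ W z.1 z.2 (μ z)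
        rw [hc z, one_smul]
      rw [hcz, mul_one]
      have : X.presheaf.germ W z.1 z.2 (e z) ∉ IsLocalRing.maximalIdeal (X.presheaf.stalk z.1) := by
        rw [germ_mem_maximalIdeal_iff hW z.1 z.2]
        exact he1 z hz
      exact (IsLocalRing.notMem_maximalIdeal).1 this
    have h2 : ∑ z' ∈ T.erase z, X.presheaf.germ W z.1 z.2 (e z') * c z' ∈
        IsLocalRing.maximalIdeal (X.presheaf.stalk z.1) := by
      refine Ideal.sum_mem _ fun z' hz' => Ideal.mul_mem_right _ _ ?_
      rw [germ_mem_maximalIdeal_iff hW z.1 z.2]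
      exact he2 z' (Finset.mem_of_mem_erase hz') z hz (Finset.ne_of_mem_erase hz')
    by_contra hnu
    have h3 := (IsLocalRing.mem_maximalIdeal _).2 hnu
    have h4 : X.presheaf.germ W z.1 z.2 (e z) * c z ∈
        IsLocalRing.maximalIdeal (X.presheaf.stalk z.1) := by
      have := Ideal.sub_mem _ h3 h2
      rwa [add_sub_cancel_right] at this
    exact (IsLocalRing.mem_maximalIdeal _).1 h4 h1
  intro z hz
  obtain ⟨z', hz'T, hle⟩ := hTmax z hz
  have hsp : z.1 ⤳ z'.1 := by
    have := fromSpec_specializes hW (hW.primeIdealOf z) z'.1 z'.2 hle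
    rwa [hW.fromSpec_primeIdealOf z] at this
  exact isGen_of_specializes L hL _ z'.2 hsp (hT z' hz'T)

/-- local data from a section over an open containing all weakly associated points. -/
theorem exists_datum_wa [IsLocallyNoetherian X] (L : X.Modules) (hL : PicF.IsInvertible L)
    {W : X.Opens} (hWA : ∀ x : X, WA x → x ∈ W) (s₀ : Γ(L, W))
    (hs₀ : ∀ (x : X) (hx : WA x), IsGen L x (L.presheaf.germ W x (hWA x hx) s₀))
    (g : ∀ x : X, L.presheaf.stalk x)
    (hg : ∀ (x : X) (hx : x ∈ W), g x = L.presheaf.germ W x hx s₀) (z : X) :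
    ∃ D : Datum WA L g, z ∈ D.U := by
  classical
  obtain ⟨W₀, t₀, hzW₀, ht₀, hbij⟩ := exists_local_generator' L hL z
  obtain ⟨_, ⟨U, hU, rfl⟩, hzU, hUW₀⟩ :=
    X.isBasis_affineOpens.exists_subset_of_mem_open hzW₀ W₀.isOpen
  have hUW₀' : U ≤ W₀ := hUW₀
  haveI : IsNoetherianRing Γ(X, U) := IsLocallyNoetherian.component_noetherian ⟨U, hU⟩
  set t := L.presheaf.map (homOfLE hUW₀').op t₀ with ht
  have htgen : ∀ (y : X) (hy : y ∈ U), IsGen L y (L.presheaf.germ U y hy t) :=
    generator_res L hUW₀' t₀ ht₀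
  have hfin := finite_wa hU
  -- the element `b`
  let Z : Set (PrimeSpectrum Γ(X, U)) := {q | hU.fromSpec q ∉ W}
  have hZc : IsClosed Z := by
    have : Z = (hU.fromSpec) ⁻¹' ((W : Set X)ᶜ) := rfl
    rw [this]
    exact W.isOpen.isClosed_compl.preimage hU.fromSpec.continuous
  let I := PrimeSpectrum.vanishingIdeal Z
  have hnot : ¬ ((I : Set Γ(X, U)) ⊆
      ⋃ i ∈ (hfin.toFinset : Set ↥U), ((hU.primeIdealOf i).asIdeal : Set Γ(X, U))) := by
    intro hsub
    obtain ⟨i, hi, hle⟩ := (Ideal.subset_union_prime (f := fun i : ↥U => (hU.primeIdealOf i).asIdeal)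
      (⟨z, hzU⟩ : ↥U) ⟨z, hzU⟩ (fun i _ _ _ => (hU.primeIdealOf i).isPrime)).1 hsub
    have h1 : hU.primeIdealOf i ∈ PrimeSpectrum.zeroLocus (I : Set Γ(X, U)) := hle
    rw [PrimeSpectrum.zeroLocus_vanishingIdeal_eq_closure, hZc.closure_eq] at h1
    have h2 : hU.fromSpec (hU.primeIdealOf i) ∉ W := h1
    rw [hU.fromSpec_primeIdealOf] at h2
    exact h2 (hWA i.1 ((Set.Finite.mem_toFinset hfin).1 hi))
  obtain ⟨b, hbI, hbn⟩ := Set.not_subset.1 hnot
  have hbη : ∀ (η : X) (hη : η ∈ U), WA η → b ∉ (hU.primeIdealOf ⟨η, hη⟩).asIdeal := by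
    intro η hη hw hmem
    exact hbn (Set.mem_iUnion₂.2 ⟨⟨η, hη⟩, (Set.Finite.mem_toFinset hfin).2 hw, hmem⟩)
  have hDU : X.basicOpen b ≤ U := X.basicOpen_le b
  have hDW : X.basicOpen b ≤ W := by
    intro x hx
    have hxU : x ∈ U := hDU hx
    have hx' := (Groth.Agent.Lib.Helper2.mem_basicOpen_iff_notMem_primeIdealOf hU x hxU b).1 hx
    by_contra hxW
    apply hx'
    have hmemZ : hU.primeIdealOf ⟨x, hxU⟩ ∈ Z := by
      change hU.fromSpec (hU.primeIdealOf ⟨x, hxU⟩) ∉ W
      rw [hU.fromSpec_primeIdealOf]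
      exact hxW
    exact (PrimeSpectrum.mem_vanishingIdeal _ _).1 hbI _ hmemZ
  have hDW₀ : X.basicOpen b ≤ W₀ := hDU.trans hUW₀'
  have hηD : ∀ (η : X) (hη : η ∈ U), WA η → η ∈ X.basicOpen b := fun η hη hw =>
    (Groth.Agent.Lib.Helper2.mem_basicOpen_iff_notMem_primeIdealOf hU η hη b).2 (hbη η hη hw)
  -- the coefficient
  obtain ⟨f, hf⟩ := (hbij (X.basicOpen b) hDW₀).2 (L.presheaf.map (homOfLE hDW).op s₀)
  have hf' : f • L.presheaf.map (homOfLE hDW₀).op t₀ = L.presheaf.map (homOfLE hDW).op s₀ := hf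
  haveI : IsLocalization.Away b Γ(X, X.basicOpen b) := hU.isLocalization_basicOpen b
  have halg : ∀ r : Γ(X, U), algebraMap Γ(X, U) Γ(X, X.basicOpen b) r =
      X.presheaf.map (homOfLE hDU).op r := fun r => rfl
  obtain ⟨⟨a, ⟨_, k, rfl⟩⟩, hak⟩ := IsLocalization.surj (Submonoid.powers b) f
  simp only [halg] at hak
  have hgerm : ∀ (η : X) (hη : η ∈ X.basicOpen b),
      X.presheaf.germ U η (hDU hη) a • L.presheaf.germ U η (hDU hη) t =
        X.presheaf.germ U η (hDU hη) (b ^ k) • L.presheaf.germ W η (hDW hη) s₀ := by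
    intro η hη
    have h1 := congrArg (X.presheaf.germ (X.basicOpen b) η hη) hak
    rw [map_mul, TopCat.Presheaf.germ_res_apply, TopCat.Presheaf.germ_res_apply] at h1
    have h2 := congrArg (L.presheaf.germ (X.basicOpen b) η hη) hf'
    rw [germ_smul, TopCat.Presheaf.germ_res_apply, TopCat.Presheaf.germ_res_apply] at h2
    have h3 : L.presheaf.germ U η (hDU hη) t = L.presheaf.germ W₀ η (hDW₀ hη) t₀ :=
      TopCat.Presheaf.germ_res_apply L.presheaf (homOfLE hUW₀') η (hDU hη) t₀
    rw [← h1, h3, mul_comm, mul_smul, h2]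
  have hbu : ∀ (η : X) (hη : η ∈ U), WA η → IsUnit (X.presheaf.germ U η hη (b ^ k)) := by
    intro η hη hw
    rw [map_pow]
    exact ((Scheme.mem_basicOpen _ _ _ hη).1 (hηD η hη hw)).pow k
  refine ⟨⟨U, t, htgen, a, b ^ k, ?_, ?_, ?_⟩, hzU⟩
  · apply mem_regSub_of_isUnit_germ hU
    intro η hη hw
    have hgen : IsGen L η (X.presheaf.germ U η hη (b ^ k) • L.presheaf.germ W η (hWA η hw) s₀) :=
      isGen_smul (hs₀ η hw) _ (hbu η hη hw)
    exact isUnit_of_isGen hgen _ (hgerm η (hηD η hη hw))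
  · exact mem_regSub_of_isUnit_germ hU _ hbu
  · intro η hη hw
    rw [hg η (hWA η hw)]
    exact hgerm η (hηD η hη hw)

/-- on a locally Noetherian scheme whose weakly associated points lie in an affine open, every invertible module
has a regular meromorphic section. -/
theorem hasRegularMero_of_wa_subset_affine [IsLocallyNoetherian X] (L : X.Modules)
    (hL : PicF.IsInvertible L) {W : X.Opens} (hW : IsAffineOpen W) (hWA : ∀ x : X, WA x → x ∈ W) :
    Mero.HasRegularMero L := by
  classical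
  haveI : IsNoetherianRing Γ(X, W) := IsLocallyNoetherian.component_noetherian ⟨W, hW⟩
  obtain ⟨s₀, hs₀⟩ := exists_section_isGen L hL hW {z : ↥W | WA z.1} (finite_wa hW)
  let g : ∀ x : X, L.presheaf.stalk x := fun x =>
    if hx : x ∈ W then L.presheaf.germ W x hx s₀ else 0
  have hg : ∀ (x : X) (hx : x ∈ W), g x = L.presheaf.germ W x hx s₀ := fun x hx => dif_pos hx
  exact hasRegularMero_of_datum sep_wa g
    (exists_datum_wa L hL hWA s₀ (fun x hx => hs₀ ⟨x, hWA x hx⟩ hx) g hg)

end Groth.Agent.Lib.Helper20.WeakAss
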