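import Groth.Agent.Lib.Helper20RegMero
import Groth.Agent.Lib.Helper23FinType2

/-!
# Openness of the locus where a section generates (helper20)

`isOpen_setOf_isGen`: for a coherent module `F` on a locally Noetherian scheme and a global section `m₀`, the set of points
`y` where `c ↦ c • (m₀)_y` is a bijection `O_{X,y} → F_y` is open.
-/
set_option autoImplicit false
universe u
open CategoryTheory CategoryTheory.Limits AlgebraicGeometry TopologicalSpace

namespace Groth.Agent.Lib.Helper20.GenOpen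

set_option linter.style.haveILetI false
open Groth.Agent.Lib.Helper2.QCoh Groth.Agent.Lib.Helper20.RegMero

variable {X : Scheme.{u}}

/-- a section over an affine open of the structure sheaf whose germ at `x` vanishes is killed by a function not
vanishing at `x`. -/
theorem exists_mul_eq_zero_of_germ_eq_zero {U : X.Opens} (hU : IsAffineOpen U) (x : X) (hx : x ∈ U)
    (k : Γ(X, U)) (hk : X.presheaf.germ U x hx k = 0) :
    ∃ e : Γ(X, U), IsUnit (X.presheaf.germ U x hx e) ∧ e * k = 0 := by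
  letI : Algebra Γ(X, U) (X.presheaf.stalk x) :=
    TopCat.Presheaf.algebra_section_stalk X.presheaf (⟨x, hx⟩ : U)
  haveI : IsLocalization.AtPrime (X.presheaf.stalk x) (hU.primeIdealOf ⟨x, hx⟩).asIdeal :=
    hU.isLocalization_stalk ⟨x, hx⟩
  obtain ⟨e, he⟩ := (IsLocalization.map_eq_zero_iff (hU.primeIdealOf ⟨x, hx⟩).asIdeal.primeCompl
    (X.presheaf.stalk x) k).1 hk
  exact ⟨e.1, IsLocalization.map_units (X.presheaf.stalk x) e, he⟩

/-- the locus where a global section of a coherent module on a locally Noetherian scheme freely generates the stalk is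
open. -/
theorem isOpen_setOf_isGen [IsLocallyNoetherian X] (F : X.Modules) [F.IsQuasicoherent]
    [SheafOfModules.IsFiniteType (R := X.ringCatSheaf) F] (m₀ : Γ(F, ⊤)) :
    IsOpen {y : X | IsGen F y (F.presheaf.germ ⊤ y trivial m₀)} := by
  classical
  rw [isOpen_iff_forall_mem_open]
  intro x hx
  obtain ⟨_, ⟨U, hU, rfl⟩, hxU, -⟩ :=
    X.isBasis_affineOpens.exists_subset_of_mem_open (Set.mem_univ x) isOpen_univ
  haveI : IsNoetherianRing Γ(X, U) := IsLocallyNoetherian.component_noetherian ⟨U, hU⟩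
  haveI : Module.Finite Γ(X, U) Γ(F, U) := Groth.Agent.Lib.Helper23.FinType.finite_of_isFiniteType F hU
  set m : Γ(F, U) := F.presheaf.map (homOfLE (le_top : U ≤ ⊤)).op m₀ with hm
  have hgm : ∀ (y : X) (hy : y ∈ U), F.presheaf.germ U y hy m = F.presheaf.germ ⊤ y trivial m₀ :=
    fun y hy => TopCat.Presheaf.germ_res_apply F.presheaf (homOfLE (le_top : U ≤ ⊤)) y hy m₀
  have hx' : IsGen F x (F.presheaf.germ U x hxU m) := by rw [hgm]; exact hx
  -- surjectivity part
  have hS1 : ∀ n : Γ(F, U), ∃ g a : Γ(X, U), IsUnit (X.presheaf.germ U x hxU g) ∧ g • n = a • m := by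
    intro n
    obtain ⟨c, hc⟩ := hx'.2 (F.presheaf.germ U x hxU n)
    have hc' : c • F.presheaf.germ U x hxU m = F.presheaf.germ U x hxU n := hc
    obtain ⟨a, d, hdu, had⟩ := exists_frac hU x hxU c
    have h0 : F.presheaf.germ U x hxU (d • n - a • m) = 0 := by
      rw [map_sub, germ_smul, germ_smul, ← hc', ← had, smul_smul, mul_comm, sub_self]
    obtain ⟨e, hxe, he⟩ := exists_smul_eq_zero_of_germ_eq_zero hU F x hxU _ h0
    refine ⟨e * d, e * a, ?_, ?_⟩
    · rw [map_mul]
      exact ((Scheme.mem_basicOpen _ _ _ hxU).1 hxe).mul hdu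
    · rw [smul_sub, sub_eq_zero] at he
      rw [mul_smul, mul_smul, he]
  obtain ⟨S, hS⟩ := (Module.Finite.fg_top : (⊤ : Submodule Γ(X, U) Γ(F, U)).FG)
  choose g₁ a₁ hg₁u hg₁ using hS1
  set g : Γ(X, U) := ∏ n ∈ S, g₁ n with hg
  have hgu : IsUnit (X.presheaf.germ U x hxU g) := by
    rw [hg, map_prod]
    exact IsUnit.prod_iff.2 fun n _ => hg₁u n
  have hgM : ∀ n : Γ(F, U), ∃ a : Γ(X, U), g • n = a • m := by
    intro n
    have hn : n ∈ Submodule.span Γ(X, U) (S : Set Γ(F, U)) := by rw [hS]; trivial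
    induction hn using Submodule.span_induction with
    | mem n hn =>
      obtain ⟨r, hr⟩ := Finset.dvd_prod_of_mem g₁ hn
      refine ⟨r * a₁ n, ?_⟩
      rw [hg, hr, mul_comm, mul_smul, hg₁, mul_smul]
    | zero => exact ⟨0, by rw [smul_zero, zero_smul]⟩
    | add n n' _ _ h h' =>
      obtain ⟨a, ha⟩ := h
      obtain ⟨a', ha'⟩ := h'
      exact ⟨a + a', by rw [smul_add, ha, ha', add_smul]⟩
    | smul r n _ h =>
      obtain ⟨a, ha⟩ := h
      exact ⟨r * a, by rw [smul_comm, ha, mul_smul]⟩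
  -- injectivity part
  let K : Ideal Γ(X, U) := LinearMap.ker (LinearMap.toSpanSingleton Γ(X, U) Γ(F, U) m)
  have hKmem : ∀ k : Γ(X, U), k ∈ K ↔ k • m = 0 := fun k => by
    rw [LinearMap.mem_ker, LinearMap.toSpanSingleton_apply]
  have hK1 : ∀ k : Γ(X, U), ∃ e : Γ(X, U), IsUnit (X.presheaf.germ U x hxU e) ∧ (k ∈ K → e * k = 0) := by
    intro k
    by_cases hk : k ∈ K
    · have h0 : X.presheaf.germ U x hxU k = 0 := by
        apply hx'.1
        change X.presheaf.germ U x hxU k • F.presheaf.germ U x hxU m =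
          (0 : X.presheaf.stalk x) • F.presheaf.germ U x hxU m
        rw [← germ_smul, (hKmem k).1 hk, map_zero, zero_smul]
      obtain ⟨e, heu, he⟩ := exists_mul_eq_zero_of_germ_eq_zero hU x hxU k h0
      exact ⟨e, heu, fun _ => he⟩
    · exact ⟨1, by rw [map_one]; exact isUnit_one, fun h => absurd h hk⟩
  obtain ⟨T, hT⟩ := (isNoetherianRing_iff_ideal_fg Γ(X, U)).1 inferInstance K
  choose e₁ he₁u he₁ using hK1
  set g' : Γ(X, U) := ∏ k ∈ T, e₁ k with hg'
  have hg'u : IsUnit (X.presheaf.germ U x hxU g') := by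
    rw [hg', map_prod]
    exact IsUnit.prod_iff.2 fun k _ => he₁u k
  have hg'K : ∀ k ∈ K, g' * k = 0 := by
    intro k hk
    rw [← hT] at hk
    induction hk using Submodule.span_induction with
    | mem k hk =>
      obtain ⟨r, hr⟩ := Finset.dvd_prod_of_mem e₁ hk
      have hkK : k ∈ K := by rw [← hT]; exact Submodule.subset_span hk
      rw [hg', hr, mul_comm (e₁ k), mul_assoc, he₁ k hkK, mul_zero]
    | zero => exact mul_zero _
    | add k k' _ _ h h' => rw [mul_add, h, h', add_zero]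
    | smul r k _ h => rw [smul_eq_mul, mul_left_comm, h, mul_zero]
  -- the open neighbourhood
  refine ⟨X.basicOpen (g * g'), ?_, (X.basicOpen (g * g')).isOpen, ?_⟩
  swap
  · rw [SetLike.mem_coe, Scheme.mem_basicOpen _ _ _ hxU, map_mul]
    exact hgu.mul hg'u
  intro y hy
  have hyU : y ∈ U := X.basicOpen_le _ hy
  have hyu : IsUnit (X.presheaf.germ U y hyU (g * g')) := (Scheme.mem_basicOpen _ _ _ hyU).1 hy
  rw [map_mul] at hyu
  have hgy : IsUnit (X.presheaf.germ U y hyU g) := isUnit_of_mul_isUnit_left hyu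
  have hg'y : IsUnit (X.presheaf.germ U y hyU g') := isUnit_of_mul_isUnit_right hyu
  change IsGen F y (F.presheaf.germ ⊤ y trivial m₀)
  rw [← hgm y hyU]
  constructor
  · -- injective
    have hinj : ∀ c : X.presheaf.stalk y, c • F.presheaf.germ U y hyU m = 0 → c = 0 := by
      intro c hc
      obtain ⟨a, d, hdu, had⟩ := exists_frac hU y hyU c
      have h0 : F.presheaf.germ U y hyU (a • m) = 0 := by
        rw [germ_smul, ← had, mul_comm, mul_smul, hc, smul_zero]
      obtain ⟨e, hye, he⟩ := exists_smul_eq_zero_of_germ_eq_zero hU F y hyU _ h0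
      have heK : e * a ∈ K := by rw [hKmem, mul_smul]; exact he
      have h1 := hg'K _ heK
      have h2 : X.presheaf.germ U y hyU g' * (X.presheaf.germ U y hyU e *
          X.presheaf.germ U y hyU a) = 0 := by
        rw [← map_mul, ← map_mul, h1, map_zero]
      have h3 : X.presheaf.germ U y hyU a = 0 :=
        (((Scheme.mem_basicOpen _ _ _ hyU).1 hye).mul_right_eq_zero).1 ((hg'y.mul_right_eq_zero).1 h2)
      rw [h3] at had
      exact (hdu.mul_left_eq_zero).1 had
    intro c c' h
    have : (c - c') • F.presheaf.germ U y hyU m = 0 := by rw [sub_smul]; exact sub_eq_zero.2 h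
    exact sub_eq_zero.1 (hinj _ this)
  · -- surjective
    intro z
    obtain ⟨d, n, hyd, hdn⟩ := exists_smul_eq_germ hU F y hyU z
    obtain ⟨a, ha⟩ := hgM n
    have hdu : IsUnit (X.presheaf.germ U y hyU d) := (Scheme.mem_basicOpen _ _ _ hyU).1 hyd
    obtain ⟨vg, hvg⟩ := hgy
    obtain ⟨vd, hvd⟩ := hdu
    refine ⟨↑vd⁻¹ * (↑vg⁻¹ * X.presheaf.germ U y hyU a), ?_⟩
    change (↑vd⁻¹ * (↑vg⁻¹ * X.presheaf.germ U y hyU a)) • F.presheaf.germ U y hyU m = z
    rw [mul_smul, mul_smul, ← germ_smul, ← ha, germ_smul, ← hdn, ← hvg, ← hvd, smul_smul _ (vg : X.presheaf.stalk y),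
      Units.inv_mul, one_smul, smul_smul, Units.inv_mul, one_smul]

end Groth.Agent.Lib.Helper20.GenOpen
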