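import Mathlib
import Groth.Prelude.Def_FDesc
import Groth.Agent.Lib.Helper2Ass
import Groth.Agent.Lib.Helper2QCoh

/-! Stalk-level facts about (weakly) associated points of quasi-coherent modules. -/

set_option autoImplicit false
open CategoryTheory AlgebraicGeometry
universe u

namespace Groth.Agent.Lib.Helper23.AssStalk

open Groth.Agent.Lib.Helper2.Ass Groth.Agent.Lib.Helper2.QCoh Opposite

/-- A point with nonzero stalk is a specialization of a weakly associated point. -/
theorem exists_isWeakAssPoint_specializes {X : Scheme.{u}} (F : X.Modules) [F.IsQuasicoherent] (y : X)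
    (hy : Nontrivial ↑(F.presheaf.stalk y)) : ∃ z : X, Curv2.IsWeakAssPoint F z ∧ z ⤳ y := by
  obtain ⟨m, hm⟩ := exists_ne (0 : F.presheaf.stalk y)
  obtain ⟨W, hyW, s, rfl⟩ := F.presheaf.exists_germ_eq m
  obtain ⟨_, ⟨V, hV : IsAffineOpen V, rfl⟩, hyV, hVW⟩ :=
    X.isBasis_affineOpens.exists_subset_of_mem_open hyW W.2
  have hVW' : V ≤ W := hVW
  set s' : Γ(F, V) := F.presheaf.map (homOfLE hVW').op s with hs'
  have hgs : F.presheaf.germ V y hyV s' = F.presheaf.germ W y hyW s :=
    TopCat.Presheaf.germ_res_apply F.presheaf (homOfLE hVW') y hyV s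
  have hle : ann F s' ≤ (hV.primeIdealOf ⟨y, hyV⟩).asIdeal := by
    intro a ha
    by_contra hna
    have hu : IsUnit (X.presheaf.germ V y hyV a) := by
      rw [← Scheme.mem_basicOpen, Groth.Agent.Lib.Helper2.mem_basicOpen_iff_notMem_primeIdealOf hV y hyV]
      exact hna
    have h0 : X.presheaf.germ V y hyV a • F.presheaf.germ V y hyV s' = 0 := by
      rw [← germ_smul, mem_ann.1 ha, map_zero]
    apply hm
    rw [← hgs]
    exact germ_smul_eq_zero_of_isUnit hu h0
  obtain ⟨q, hqmin, hqle⟩ := Ideal.exists_minimalPrimes_le hle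
  let Q : PrimeSpectrum Γ(X, V) := ⟨q, hqmin.1.1⟩
  exact ⟨hV.fromSpec Q, isWeakAssPoint_fromSpec_of_minimalPrimes hV F s' Q hqmin,
    fromSpec_specializes hV Q y hyV hqle⟩

/-- The stalk at an associated point is nonzero. -/
theorem nontrivial_stalk_of_isAssPoint {X : Scheme.{u}} [IsLocallyNoetherian X] (F : X.Modules) (x : X)
    (hx : Curv2.IsAssPoint F x) : Nontrivial ↑(F.presheaf.stalk x) := by
  obtain ⟨hprime, m, hm⟩ := (isAssociatedPrime_iff).1 hx
  refine ⟨⟨m, 0, ?_⟩⟩
  intro hm0
  have : (1 : X.presheaf.stalk x) ∈ IsLocalRing.maximalIdeal (X.presheaf.stalk x) := by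
    rw [hm, Submodule.mem_colon_singleton, Submodule.mem_bot, hm0, smul_zero]
  exact (IsLocalRing.maximalIdeal.isMaximal _).ne_top ((Ideal.eq_top_iff_one _).2 this)

end Groth.Agent.Lib.Helper23.AssStalk
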