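import Mathlib
import Groth.Prelude.Def_ZClos
import Groth.Agent.S0484
import Groth.Agent.S1575
import Groth.Agent.S5084
import Groth.Agent.Lib.Helper20StalkExact

set_option autoImplicit false
set_option linter.style.haveILetI false
universe u
open CategoryTheory CategoryTheory.Limits AlgebraicGeometry TopologicalSpace Opposite

namespace Groth.Agent.Lib.Helper20.ZClosLib

variable {X : Scheme.{u}}

/-- the stalk functor on `O_X`-modules (to abelian groups). -/
noncomputable abbrev stalkF (x : X) : X.Modules ⥤ Ab.{u} :=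
  Scheme.Modules.toPresheaf X ⋙ TopCat.Presheaf.stalkFunctor Ab.{u} x

noncomputable instance preservesColimitsOfShape_stalkF (K : Type u) [SmallCategory K] (x : X) :
    PreservesColimitsOfShape K (stalkF x) := by
  have h1 : PreservesColimitsOfShape K (SheafOfModules.toSheaf.{u} X.ringCatSheaf) :=
    Groth.Agent.S0484.preservesColimitsOfShape_toSheaf (Opens.grothendieckTopology X)
      X.ringCatSheaf K
  have h2 : PreservesColimitsOfShape K
      (TopCat.Sheaf.forget Ab.{u} X.toTopCat ⋙ TopCat.Presheaf.stalkFunctor Ab.{u} x) :=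
    inferInstance
  exact @comp_preservesColimitsOfShape _ _ _ _ _ _ _ _ (SheafOfModules.toSheaf.{u} X.ringCatSheaf)
    (TopCat.Sheaf.forget Ab.{u} X.toTopCat ⋙ TopCat.Presheaf.stalkFunctor Ab.{u} x) h1 h2

section General

theorem stalkF_map_germ {M N : X.Modules} (φ : M ⟶ N) {U : X.Opens} (x : X) (hx : x ∈ U)
    (m : Γ(M, U)) :
    (stalkF x).map φ (M.presheaf.germ U x hx m) = N.presheaf.germ U x hx (φ.app U m) :=
  Groth.Agent.S8890.ψ_germ φ x hx m

theorem mono_iff_stalk_injective {M N : X.Modules} (f : M ⟶ N) :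
    Mono f ↔ ∀ x : X, Function.Injective ((stalkF x).map f) := by
  constructor
  · intro h x
    exact TopCat.Presheaf.stalkFunctor_map_injective_of_app_injective
      (f := f.mapPresheaf)
      (fun U => Groth.Agent.Lib.Helper20.StalkExact.injective_app_of_mono f U) x
  · intro h
    refine Groth.Agent.S5084.mono_of_injective_app f fun V => ?_
    let M' : TopCat.Sheaf Ab.{u} X.toTopCat := ⟨M.presheaf, M.isSheaf⟩
    exact TopCat.Presheaf.app_injective_of_stalkFunctor_map_injective (F := M')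
      f.mapPresheaf V fun x _ => h x

theorem isIso_iff_stalk_bijective {M N : X.Modules} (f : M ⟶ N) :
    IsIso f ↔ ∀ x : X, Function.Bijective ((stalkF x).map f) := by
  constructor
  · intro h x
    exact ConcreteCategory.bijective_of_isIso ((stalkF x).map f)
  · intro h
    exact Groth.Agent.S8890.isIso_of_stalk_bijective f h

theorem injective_map_iff_of_eq (F : X.Modules) {A B V : X.Opens} (e : A = B) (i : A ≤ V)
    (i' : B ≤ V) : Function.Injective (F.presheaf.map (homOfLE i).op) ↔
      Function.Injective (F.presheaf.map (homOfLE i').op) := by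
  subst e; rfl

theorem surjective_map_iff_of_eq (F : X.Modules) {A B V : X.Opens} (e : A = B) (i : A ≤ V)
    (i' : B ≤ V) : Function.Surjective (F.presheaf.map (homOfLE i).op) ↔
      Function.Surjective (F.presheaf.map (homOfLE i').op) := by
  subst e; rfl

theorem bijective_map_iff_of_eq (F : X.Modules) {A B V : X.Opens} (e : A = B) (i : A ≤ V)
    (i' : B ≤ V) : Function.Bijective (F.presheaf.map (homOfLE i).op) ↔
      Function.Bijective (F.presheaf.map (homOfLE i').op) := by
  subst e; rfl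

end General

section Rep

variable (Z : Set X) (F : X.Modules)

/-- the inductive system whose colimit is `H⁰_{X/Z}(F)`. -/
noncomputable abbrev D : ZClos.Cl Z ⥤ X.Modules := (ZClos.diagram Z).obj F

/-- the map on stalks at `x` induced by the colimit injection at `T`. -/
noncomputable abbrev ιx (x : X) (T : ZClos.Cl Z) :
    (stalkF x).obj ((D Z F).obj T) ⟶ (stalkF x).obj ((ZClos.H0 Z).obj F) :=
  (stalkF x).map (colimit.ι (D Z F) T)

/-- the map on stalks at `x` induced by the transition map. -/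
noncomputable abbrev τx (x : X) {T T' : ZClos.Cl Z} (h : T ≤ T') :
    (stalkF x).obj ((D Z F).obj T) ⟶ (stalkF x).obj ((D Z F).obj T') :=
  (stalkF x).map ((D Z F).map (homOfLE h))

/-- the map on stalks at `x` induced by the unit `F ⟶ j_*(F|_{X∖T})`. -/
noncomputable abbrev υx (x : X) (T : ZClos.Cl Z) :
    (stalkF x).obj F ⟶ (stalkF x).obj ((D Z F).obj T) :=
  (stalkF x).map (ZClos.toDiagram Z F T)

noncomputable def isColimitStalk (x : X) :
    IsColimit ((stalkF x).mapCocone (colimit.cocone (D Z F))) :=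
  isColimitOfPreserves (stalkF x) (colimit.isColimit (D Z F))

theorem exists_rep (x : X) (z : (stalkF x).obj ((ZClos.H0 Z).obj F)) :
    ∃ (T : ZClos.Cl Z) (w : (stalkF x).obj ((D Z F).obj T)), ιx Z F x T w = z :=
  Concrete.isColimit_exists_rep (D Z F ⋙ stalkF x) (isColimitStalk Z F x) z

theorem rep_eq_iff (x : X) {T T' : ZClos.Cl Z} (w : (stalkF x).obj ((D Z F).obj T))
    (w' : (stalkF x).obj ((D Z F).obj T')) :
    ιx Z F x T w = ιx Z F x T' w' ↔
      ∃ (T'' : ZClos.Cl Z) (h : T ≤ T'') (h' : T' ≤ T''), τx Z F x h w = τx Z F x h' w' := by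
  rw [show (ιx Z F x T w = ιx Z F x T' w') ↔
    (((stalkF x).mapCocone (colimit.cocone (D Z F))).ι.app T w =
      ((stalkF x).mapCocone (colimit.cocone (D Z F))).ι.app T' w') from Iff.rfl,
    Concrete.isColimit_rep_eq_iff_exists (D Z F ⋙ stalkF x) (isColimitStalk Z F x)]
  constructor
  · rintro ⟨T'', f, g, h⟩
    exact ⟨T'', leOfHom f, leOfHom g, h⟩
  · rintro ⟨T'', h, h', e⟩
    exact ⟨T'', homOfLE h, homOfLE h', e⟩

theorem rhoStalk_eq (x : X) (T : ZClos.Cl Z) (z : (stalkF x).obj F) :
    ZClos.rhoStalk Z F x z = ιx Z F x T (υx Z F x T z) := by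
  have h : (stalkF x).map (ZClos.rhoApp Z F) = υx Z F x T ≫ ιx Z F x T := by
    refine Eq.trans ?_ ((stalkF x).map_comp (ZClos.toDiagram Z F T) (colimit.ι (D Z F) T))
    exact congrArg _ (ZClos.rhoApp_eq Z F T)
  change (stalkF x).map (ZClos.rhoApp Z F) z = _
  rw [h]
  rfl

theorem τx_υx (x : X) {T T' : ZClos.Cl Z} (h : T ≤ T') (z : (stalkF x).obj F) :
    τx Z F x h (υx Z F x T z) = υx Z F x T' z := by
  change ((stalkF x).map (ZClos.toDiagram Z F T) ≫ (stalkF x).map ((D Z F).map (homOfLE h))) z = _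
  rw [← Functor.map_comp, ZClos.toDiagram_map]

theorem ιx_τx (x : X) {T T' : ZClos.Cl Z} (h : T ≤ T') (w : (stalkF x).obj ((D Z F).obj T)) :
    ιx Z F x T' (τx Z F x h w) = ιx Z F x T w := by
  change ((stalkF x).map ((D Z F).map (homOfLE h)) ≫ (stalkF x).map (colimit.ι (D Z F) T')) w = _
  rw [← Functor.map_comp, colimit.w]
  rfl

theorem rhoStalk_eq_zero_iff (x : X) (z : (stalkF x).obj F) :
    ZClos.rhoStalk Z F x z = 0 ↔ ∃ T : ZClos.Cl Z, υx Z F x T z = 0 := by
  constructor
  · intro h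
    have h' : ιx Z F x ⊥ (υx Z F x ⊥ z) = ιx Z F x ⊥ 0 :=
      ((rhoStalk_eq Z F x ⊥ z).symm.trans h).trans (map_zero (ιx Z F x ⊥).hom).symm
    obtain ⟨T'', h1, h2, e⟩ := (rep_eq_iff Z F x _ _).mp h'
    refine ⟨T'', ?_⟩
    rw [τx_υx, map_zero] at e
    exact e
  · rintro ⟨T, h⟩
    refine (rhoStalk_eq Z F x T z).trans ?_
    rw [h]
    exact map_zero (ιx Z F x T).hom

theorem isZPureAt_iff (x : X) :
    ZClos.IsZPureAt Z F x ↔ ∀ T : ZClos.Cl Z, Function.Injective (υx Z F x T) := by
  constructor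
  · intro h T
    rw [injective_iff_map_eq_zero]
    intro z hz
    exact (injective_iff_map_eq_zero (ZClos.rhoStalk Z F x).hom).mp h z
      ((rhoStalk_eq_zero_iff Z F x z).mpr ⟨T, hz⟩)
  · intro h
    refine (injective_iff_map_eq_zero (ZClos.rhoStalk Z F x).hom).mpr fun z hz => ?_
    obtain ⟨T, hT⟩ := (rhoStalk_eq_zero_iff Z F x z).mp hz
    exact (injective_iff_map_eq_zero (υx Z F x T).hom).mp (h T) z hT

theorem isZClosedAt_of_forall_bijective (x : X)
    (h : ∀ T : ZClos.Cl Z, Function.Bijective (υx Z F x T)) : ZClos.IsZClosedAt Z F x := by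
  refine ⟨(isZPureAt_iff Z F x).mpr fun T => (h T).1, fun z => ?_⟩
  obtain ⟨T, w, rfl⟩ := exists_rep Z F x z
  obtain ⟨z', rfl⟩ := (h T).2 w
  exact ⟨z', rhoStalk_eq Z F x T z'⟩

theorem image_preimage_eq (T : ZClos.Cl Z) (V : X.Opens) :
    T.U.ι ''ᵁ T.U.ι ⁻¹ᵁ V = V ⊓ T.U := by
  rw [ZClos.ι_image_preimage, inf_comm]

theorem toDiagram_app_injective_iff (T : ZClos.Cl Z) (V : X.Opens) :
    Function.Injective ((ZClos.toDiagram Z F T).app V) ↔
      Function.Injective (F.presheaf.map (homOfLE (inf_le_left : V ⊓ T.U ≤ V)).op) :=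
  injective_map_iff_of_eq F (image_preimage_eq Z T V) (T.U.ι.image_preimage_le V) inf_le_left

theorem toDiagram_app_surjective_iff (T : ZClos.Cl Z) (V : X.Opens) :
    Function.Surjective ((ZClos.toDiagram Z F T).app V) ↔
      Function.Surjective (F.presheaf.map (homOfLE (inf_le_left : V ⊓ T.U ≤ V)).op) :=
  surjective_map_iff_of_eq F (image_preimage_eq Z T V) (T.U.ι.image_preimage_le V) inf_le_left

theorem toDiagram_app_bijective_iff (T : ZClos.Cl Z) (V : X.Opens) :
    Function.Bijective ((ZClos.toDiagram Z F T).app V) ↔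
      Function.Bijective (F.presheaf.map (homOfLE (inf_le_left : V ⊓ T.U ≤ V)).op) :=
  bijective_map_iff_of_eq F (image_preimage_eq Z T V) (T.U.ι.image_preimage_le V) inf_le_left

/-- at a point of `X ∖ T` the unit `F ⟶ j_*(F|_{X∖T})` is bijective on stalks. -/
theorem υx_bijective_of_mem (x : X) (T : ZClos.Cl Z) (hx : x ∈ T.U) :
    Function.Bijective (υx Z F x T) :=
  Groth.Agent.S1575.bijective_stalk F T.U ⟨x, hx⟩

theorem mem_U_of_notMem (x : X) (hx : x ∉ Z) (T : ZClos.Cl Z) : x ∈ T.U :=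
  fun h => hx (T.2 h)

/-- S5849: at a point outside `Z` the map `ρ` is bijective on stalks. -/
theorem isZClosedAt_of_notMem (x : X) (hx : x ∉ Z) : ZClos.IsZClosedAt Z F x :=
  isZClosedAt_of_forall_bijective Z F x fun T =>
    υx_bijective_of_mem Z F x T (mem_U_of_notMem Z x hx T)

/-- S5842. -/
theorem isZPure_iff_forall_mono : ZClos.IsZPure Z F ↔ ∀ T : ZClos.Cl Z, Mono (ZClos.toDiagram Z F T) := by
  constructor
  · intro h T
    haveI : Mono (ZClos.toDiagram Z F T ≫ colimit.ι (D Z F) T) := by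
      have := ZClos.rhoApp_eq Z F T
      rw [← this]
      exact h
    exact mono_of_mono (ZClos.toDiagram Z F T) (colimit.ι (D Z F) T)
  · intro h
    refine (mono_iff_stalk_injective _).mpr fun x => ?_
    exact (isZPureAt_iff Z F x).mpr fun T => (mono_iff_stalk_injective _).mp (h T) x

end Rep

end Groth.Agent.Lib.Helper20.ZClosLib
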