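import Mathlib
import Groth.Agent.Lib.Helper20ZClos
import Groth.Agent.Lib.Helper13AffBC

set_option autoImplicit false
set_option linter.style.haveILetI false
universe u
open CategoryTheory CategoryTheory.Limits AlgebraicGeometry TopologicalSpace Opposite

namespace Groth.Agent.Lib.Helper20.ZClosLib

variable {X : Scheme.{u}}

/-- injectivity of restriction to `V ∩ U` for compact `V` implies it for all `V`. -/
theorem injective_res_of_compact (F : X.Modules) (U : X.Opens)
    (h : ∀ V : X.Opens, IsCompact (V : Set X) →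
      Function.Injective (F.presheaf.map (homOfLE (inf_le_left : V ⊓ U ≤ V)).op)) (V : X.Opens) :
    Function.Injective (F.presheaf.map (homOfLE (inf_le_left : V ⊓ U ≤ V)).op) := by
  intro s t hst
  refine F.isSheaf.section_ext (U := op V) fun x hx => ?_
  obtain ⟨_, ⟨W, hW, rfl⟩, hxW, hWV⟩ :=
    X.isBasis_affineOpens.exists_subset_of_mem_open hx V.isOpen
  have hWV' : W ≤ V := hWV
  refine ⟨W, hWV', hxW, ?_⟩
  apply h W hW.isCompact
  have hle : W ⊓ U ≤ V ⊓ U := inf_le_inf_right U hWV'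
  have e2 : F.presheaf.map (homOfLE hWV').op ≫
      F.presheaf.map (homOfLE (inf_le_left : W ⊓ U ≤ W)).op =
      F.presheaf.map (homOfLE (inf_le_left : V ⊓ U ≤ V)).op ≫ F.presheaf.map (homOfLE hle).op := by
    rw [← Functor.map_comp, ← Functor.map_comp]
    rfl
  have key : ∀ r : Γ(F, V), F.presheaf.map (homOfLE (inf_le_left : W ⊓ U ≤ W)).op
      (F.presheaf.map (homOfLE hWV').op r) =
      F.presheaf.map (homOfLE hle).op (F.presheaf.map (homOfLE (inf_le_left : V ⊓ U ≤ V)).op r) :=
    fun r => ConcreteCategory.congr_hom e2 r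
  exact (key s).trans ((congrArg _ hst).trans (key t).symm)

variable (Z : Set X) (F : X.Modules)

theorem mono_toDiagram_iff (T : ZClos.Cl Z) :
    Mono (ZClos.toDiagram Z F T) ↔ ∀ V : X.Opens,
      Function.Injective (F.presheaf.map (homOfLE (inf_le_left : V ⊓ T.U ≤ V)).op) := by
  constructor
  · intro h V
    rw [← toDiagram_app_injective_iff]
    exact Groth.Agent.Lib.Helper20.StalkExact.injective_app_of_mono _ V
  · intro h
    refine Groth.Agent.S5084.mono_of_injective_app _ fun V => ?_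
    rw [toDiagram_app_injective_iff]
    exact h V

/-- S5844. -/
theorem isZPure_iff_injective_res :
    ZClos.IsZPure Z F ↔ ∀ (T : ZClos.Cl Z) (V : X.Opens), IsCompact (V : Set X) →
      Function.Injective (F.presheaf.map (homOfLE (inf_le_left : V ⊓ T.U ≤ V)).op) := by
  rw [isZPure_iff_forall_mono]
  constructor
  · intro h T V _
    exact (mono_toDiagram_iff Z F T).mp (h T) V
  · intro h T
    exact (mono_toDiagram_iff Z F T).mpr (injective_res_of_compact F T.U (h T))

open Groth.Agent.Lib.Helper2.ModExact in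
/-- a section of `j_*(F|_{X∖T})` over a compact open that dies in `H⁰_{X/Z}(F)` dies at a finite stage. -/
theorem exists_le_map_eq_zero (T : ZClos.Cl Z) (V : X.Opens) (hV : IsCompact (V : Set X))
    (d : Γ((D Z F).obj T, V)) (hd : (colimit.ι (D Z F) T).app V d = 0) :
    ∃ (T' : ZClos.Cl Z) (h : T ≤ T'), ((D Z F).map (homOfLE h)).app V d = 0 := by
  have hloc : ∀ x : V, ∃ (Tx : ZClos.Cl Z) (h : T ≤ Tx) (Vx : X.Opens) (_ : x.1 ∈ Vx) (hVx : Vx ≤ V),
      ((D Z F).obj Tx).presheaf.map (homOfLE hVx).op (((D Z F).map (homOfLE h)).app V d) = 0 := by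
    rintro ⟨x, hx⟩
    have h0 : ιx Z F x T (((D Z F).obj T).presheaf.germ V x hx d) = ιx Z F x T 0 := by
      refine (stalkF_map_germ (colimit.ι (D Z F) T) x hx d).trans ?_
      rw [hd, map_zero]
      exact (map_zero (ιx Z F x T).hom).symm
    obtain ⟨Tx, h1, h2, e⟩ := (rep_eq_iff Z F x _ _).mp h0
    have e' : ((D Z F).obj Tx).presheaf.germ V x hx (((D Z F).map (homOfLE h1)).app V d) =
        ((D Z F).obj Tx).presheaf.germ V x hx 0 :=
      ((stalkF_map_germ ((D Z F).map (homOfLE h1)) x hx d).symm.trans e).trans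
        ((map_zero (τx Z F x h2).hom).trans (map_zero _).symm)
    obtain ⟨W, hxW, i₁, i₂, heq⟩ := TopCat.Presheaf.germ_eq _ x hx hx _ _ e'
    refine ⟨Tx, h1, W, hxW, leOfHom i₁, ?_⟩
    rw [map_zero] at heq
    exact heq
  choose Tx hTx Vx hxVx hVxV hzero using hloc
  obtain ⟨t, ht⟩ := hV.elim_finite_subcover (fun x : V => (Vx x : Set X)) (fun x => (Vx x).isOpen)
    (fun y hy => Set.mem_iUnion.mpr ⟨⟨y, hy⟩, hxVx ⟨y, hy⟩⟩)
  refine ⟨T ⊔ t.sup Tx, le_sup_left, ?_⟩
  refine ((D Z F).obj (T ⊔ t.sup Tx)).isSheaf.section_ext (U := op V) fun y hy => ?_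
  obtain ⟨x, hxt, hyx⟩ : ∃ x ∈ t, y ∈ Vx x := by
    have := ht hy
    simpa using this
  refine ⟨Vx x, hVxV x, hyx, ?_⟩
  have hle : Tx x ≤ T ⊔ t.sup Tx := le_sup_of_le_right (Finset.le_sup hxt)
  have hcomp : (D Z F).map (homOfLE (le_sup_left : T ≤ T ⊔ t.sup Tx)) =
      (D Z F).map (homOfLE (hTx x)) ≫ (D Z F).map (homOfLE hle) := by
    rw [← Functor.map_comp]
    rfl
  rw [hcomp, Scheme.Modules.Hom.comp_app]
  change ((D Z F).obj (T ⊔ t.sup Tx)).presheaf.map (homOfLE (hVxV x)).op
    (((D Z F).map (homOfLE hle)).app V (((D Z F).map (homOfLE (hTx x))).app V d)) =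
    ((D Z F).obj (T ⊔ t.sup Tx)).presheaf.map (homOfLE (hVxV x)).op 0
  rw [← app_map, hzero x, map_zero, map_zero]

theorem D_map_app {T T' : ZClos.Cl Z} (h : T ≤ T') (V : X.Opens) :
    ((D Z F).map (homOfLE h)).app V = F.presheaf.map (ZClos.trIncl (ZClos.Cl.U_anti h) V).op :=
  ZClos.resPushMapApp_app _ F V

theorem isZPure_of_isZClosed (h : ZClos.IsZClosed Z F) : ZClos.IsZPure Z F := by
  haveI : IsIso (ZClos.rhoApp Z F) := h
  exact (inferInstance : Mono (ZClos.rhoApp Z F))

/-- for a `Z`-closed module the restriction maps `F(V) → F(V ∖ T)` are surjective for compact `V`. -/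
theorem toDiagram_app_surjective_of_isZClosed (h : ZClos.IsZClosed Z F) (T : ZClos.Cl Z)
    (V : X.Opens) (hV : IsCompact (V : Set X)) :
    Function.Surjective ((ZClos.toDiagram Z F T).app V) := by
  intro w
  haveI : IsIso (ZClos.rhoApp Z F) := h
  obtain ⟨z, hz⟩ := (ConcreteCategory.bijective_of_isIso ((ZClos.rhoApp Z F).app V)).2
    ((colimit.ι (D Z F) T).app V w)
  refine ⟨z, ?_⟩
  have hρ : (ZClos.rhoApp Z F).app V z =
      (colimit.ι (D Z F) T).app V ((ZClos.toDiagram Z F T).app V z) := by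
    rw [ZClos.rhoApp_eq Z F T]
    rfl
  have hd : (colimit.ι (D Z F) T).app V (w - (ZClos.toDiagram Z F T).app V z) = 0 := by
    rw [map_sub, ← hρ, hz, sub_self]
  obtain ⟨T', hTT', h0⟩ := exists_le_map_eq_zero Z F T V hV _ hd
  rw [D_map_app] at h0
  have hpure : Mono (ZClos.toDiagram Z F T') :=
    (isZPure_iff_forall_mono Z F).mp (isZPure_of_isZClosed Z F h) T'
  have hU : T'.U ≤ T.U := ZClos.Cl.U_anti hTT'
  have e : T'.U.ι ''ᵁ T'.U.ι ⁻¹ᵁ V = (T.U.ι ''ᵁ T.U.ι ⁻¹ᵁ V) ⊓ T'.U := by
    rw [ZClos.ι_image_preimage, ZClos.ι_image_preimage]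
    apply le_antisymm
    · exact le_inf (le_inf (inf_le_left.trans hU) inf_le_right) inf_le_left
    · exact le_inf inf_le_right (inf_le_left.trans inf_le_right)
  have hinj := (injective_map_iff_of_eq F e (ZClos.resPush_le hU V) inf_le_left).mpr
    ((mono_toDiagram_iff Z F T').mp hpure (T.U.ι ''ᵁ T.U.ι ⁻¹ᵁ V))
  have h1 := hinj (h0.trans (map_zero _).symm)
  exact (sub_eq_zero.mp h1).symm

theorem isIso_of_bijective_on_affines {M N : X.Modules} (φ : M ⟶ N)
    (h : ∀ V : X.Opens, IsAffineOpen V → Function.Bijective (φ.app V)) : IsIso φ := by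
  refine Groth.Agent.Helper13AffBC.isIso_of_bijective_on_basis φ
    (fun U : X.affineOpens => (U.1 : X.Opens)) ?_ fun U => h U.1 U.2
  have := X.isBasis_affineOpens
  rwa [← Subtype.range_coe (s := X.affineOpens)] at this

theorem isZClosed_of_forall_isIso (h : ∀ T : ZClos.Cl Z, IsIso (ZClos.toDiagram Z F T)) :
    ZClos.IsZClosed Z F := by
  refine Groth.Agent.S8890.isIso_of_stalk_bijective (ZClos.rhoApp Z F) fun x => ?_
  exact isZClosedAt_of_forall_bijective Z F x fun T =>
    ConcreteCategory.bijective_of_isIso ((stalkF x).map (ZClos.toDiagram Z F T))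

theorem toDiagram_app_bijective_of_isZClosed (h : ZClos.IsZClosed Z F) (T : ZClos.Cl Z)
    (V : X.Opens) (hV : IsCompact (V : Set X)) :
    Function.Bijective ((ZClos.toDiagram Z F T).app V) := by
  haveI : Mono (ZClos.toDiagram Z F T) :=
    (isZPure_iff_forall_mono Z F).mp (isZPure_of_isZClosed Z F h) T
  exact ⟨Groth.Agent.Lib.Helper20.StalkExact.injective_app_of_mono _ V,
    toDiagram_app_surjective_of_isZClosed Z F h T V hV⟩

/-- S5843. -/
theorem isZClosed_iff_forall_isIso :
    ZClos.IsZClosed Z F ↔ ∀ T : ZClos.Cl Z, IsIso (ZClos.toDiagram Z F T) := by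
  constructor
  · intro h T
    exact isIso_of_bijective_on_affines _ fun V hV =>
      toDiagram_app_bijective_of_isZClosed Z F h T V hV.isCompact
  · exact isZClosed_of_forall_isIso Z F

/-- S5845. -/
theorem isZClosed_iff_bijective_res :
    ZClos.IsZClosed Z F ↔ ∀ (T : ZClos.Cl Z) (V : X.Opens), IsCompact (V : Set X) →
      Function.Bijective (F.presheaf.map (homOfLE (inf_le_left : V ⊓ T.U ≤ V)).op) := by
  constructor
  · intro h T V hV
    rw [← toDiagram_app_bijective_iff]
    exact toDiagram_app_bijective_of_isZClosed Z F h T V hV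
  · intro h
    refine isZClosed_of_forall_isIso Z F fun T => ?_
    refine isIso_of_bijective_on_affines _ fun V hV => ?_
    rw [toDiagram_app_bijective_iff]
    exact h T V hV.isCompact

end Groth.Agent.Lib.Helper20.ZClosLib
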