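import Mathlib
import Groth.Agent.Lib.Helper20ZClos2

set_option autoImplicit false
set_option linter.style.haveILetI false
universe u
open CategoryTheory CategoryTheory.Limits AlgebraicGeometry TopologicalSpace Opposite

namespace Groth.Agent.Lib.Helper20.ZClosLib

variable {X : Scheme.{u}}

section Mono

variable (Z Z' : Set X) (F : X.Modules)

/-- a closed subset inside `Z'` viewed inside `Z`. -/
def Cl.incl (h : Z' ⊆ Z) (T : ZClos.Cl Z') : ZClos.Cl Z := ⟨T.1, T.2.trans h⟩

theorem toDiagram_incl (h : Z' ⊆ Z) (T : ZClos.Cl Z') :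
    ZClos.toDiagram Z' F T = ZClos.toDiagram Z F (Cl.incl Z Z' h T) := rfl

/-- S5848. -/
theorem isZPure_isZClosed_mono_set (h : Z' ⊆ Z) :
    (ZClos.IsZPure Z F → ZClos.IsZPure Z' F) ∧ (ZClos.IsZClosed Z F → ZClos.IsZClosed Z' F) := by
  constructor
  · intro hp
    rw [isZPure_iff_forall_mono] at hp ⊢
    intro T
    rw [toDiagram_incl Z Z' F h T]
    exact hp _
  · intro hc
    rw [isZClosed_iff_forall_isIso] at hc ⊢
    intro T
    rw [toDiagram_incl Z Z' F h T]
    exact hc _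

end Mono

section Univ

variable (Z : Set X) (F F' : X.Modules)

/-- the colimit injection, with target displayed as `H⁰_{X/Z}(F)`. -/
noncomputable def ιH (T : ZClos.Cl Z) : (D Z F).obj T ⟶ (ZClos.H0 Z).obj F :=
  colimit.ι (D Z F) T

theorem rhoApp_eq' (T : ZClos.Cl Z) : ZClos.rhoApp Z F = ZClos.toDiagram Z F T ≫ ιH Z F T :=
  ZClos.rhoApp_eq Z F T

theorem hom_ext_H0 {G : X.Modules} (v v' : (ZClos.H0 Z).obj F ⟶ G)
    (h : ∀ T, ιH Z F T ≫ v = ιH Z F T ≫ v') : v = v' :=
  colimit.hom_ext h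

/-- maps out of `j_*(F|_U)` into a module `F'` with `F' ≅ j_*(F'|_U)` are determined by their composite with
the unit. -/
theorem hom_ext_of_unit_comp (U : X.Opens) [IsIso ((ZClos.resPushUnit U).app F')]
    (w w' : (ZClos.resPush U).obj F ⟶ F')
    (hw : (ZClos.resPushUnit U).app F ≫ w = (ZClos.resPushUnit U).app F ≫ w') : w = w' := by
  haveI : IsIso ((ZClos.resPush U).map ((ZClos.resPushUnit U).app F)) := by
    haveI := Groth.Agent.S1575.isIso_restrict_η F U
    change IsIso ((Scheme.Modules.pushforward U.ι).map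
      ((Scheme.Modules.restrictFunctor U.ι).map ((ZClos.resPushUnit U).app F)))
    infer_instance
  have h1 : (ZClos.resPush U).map w = (ZClos.resPush U).map w' := by
    rw [← cancel_epi ((ZClos.resPush U).map ((ZClos.resPushUnit U).app F)), ← Functor.map_comp,
      ← Functor.map_comp, hw]
  have n1 := (ZClos.resPushUnit U).naturality w
  have n2 := (ZClos.resPushUnit U).naturality w'
  simp only [Functor.id_obj, Functor.id_map] at n1 n2
  rw [← cancel_mono ((ZClos.resPushUnit U).app F'), n1, n2, h1]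

theorem rho_naturality (u : F ⟶ F') :
    ZClos.rhoApp Z F ≫ (ZClos.H0 Z).map u = u ≫ ZClos.rhoApp Z F' :=
  ((ZClos.rho Z).naturality u).symm

theorem rhoApp_comp_eq_of_eq (hF' : ZClos.IsZClosed Z F') (v v' : (ZClos.H0 Z).obj F ⟶ F')
    (h : ZClos.rhoApp Z F ≫ v = ZClos.rhoApp Z F ≫ v') : v = v' := by
  refine hom_ext_H0 Z F v v' fun T => ?_
  haveI : IsIso ((ZClos.resPushUnit T.U).app F') := (isZClosed_iff_forall_isIso Z F').mp hF' T
  refine hom_ext_of_unit_comp F F' T.U _ _ ?_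
  have e : ∀ v'' : (ZClos.H0 Z).obj F ⟶ F',
      (ZClos.resPushUnit T.U).app F ≫ (ιH Z F T ≫ v'') = ZClos.rhoApp Z F ≫ v'' := by
    intro v''
    have h1 := congrArg (fun t => t ≫ v'') (rhoApp_eq' Z F T)
    exact ((Category.assoc (ZClos.toDiagram Z F T) (ιH Z F T) v'').symm).trans h1.symm
  exact (e v).trans (h.trans (e v').symm)

/-- S5851. -/
theorem existsUnique_fac (hF' : ZClos.IsZClosed Z F') (u : F ⟶ F') :
    ∃! v : (ZClos.H0 Z).obj F ⟶ F', ZClos.rhoApp Z F ≫ v = u := by
  haveI : IsIso (ZClos.rhoApp Z F') := hF'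
  have hex : ZClos.rhoApp Z F ≫ ((ZClos.H0 Z).map u ≫ inv (ZClos.rhoApp Z F')) = u := by
    rw [← Category.assoc, rho_naturality, Category.assoc, IsIso.hom_inv_id, Category.comp_id]
  exact ⟨_, hex, fun v hv => rhoApp_comp_eq_of_eq Z F F' hF' _ _ (hv.trans hex.symm)⟩

end Univ

end Groth.Agent.Lib.Helper20.ZClosLib
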