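import Mathlib
import Groth.Agent.Lib.Helper20ZClos2

set_option autoImplicit false
set_option linter.style.haveILetI false
universe u
open CategoryTheory CategoryTheory.Limits AlgebraicGeometry TopologicalSpace Opposite

namespace Groth.Agent.Lib.Helper20.ZClosLib

/-- in a space with a Noetherian quasi-sober open `V`, a subset of `V` that is locally closed and contained in a
specialization-stable set `Z` has its closure contained in `Z`. -/
theorem closure_subset_of_stableUnderSpecialization {α : Type*} [TopologicalSpace α] {Z : Set α}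
    (hZ : StableUnderSpecialization Z) (V : Opens α) [NoetherianSpace V] [QuasiSober V]
    (U : Opens α) (K : Set α) (hK : IsClosed K) (hCZ : K ∩ V ∩ U ⊆ Z) :
    closure (K ∩ V ∩ U) ⊆ Z := by
  have hKV : IsClosed ((Subtype.val : V → α) ⁻¹' K) := hK.preimage continuous_subtype_val
  obtain ⟨S, hSf, hSc, hSi, hSU⟩ := NoetherianSpace.exists_finite_set_isClosed_irreducible hKV
  have hsub : K ∩ V ∩ U ⊆ ⋃ t ∈ S, ((Subtype.val : V → α) '' t ∩ U) := by
    rintro y ⟨⟨hyK, hyV⟩, hyU⟩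
    have : (⟨y, hyV⟩ : V) ∈ (Subtype.val : V → α) ⁻¹' K := hyK
    rw [hSU] at this
    obtain ⟨t, htS, hyt⟩ := this
    exact Set.mem_biUnion htS ⟨⟨⟨y, hyV⟩, hyt, rfl⟩, hyU⟩
  intro y hy
  have hy' := closure_mono hsub hy
  rw [hSf.closure_biUnion] at hy'
  obtain ⟨t, htS, hyt⟩ := Set.mem_iUnion₂.mp hy'
  obtain ⟨η, hη⟩ := QuasiSober.sober (hSi t htS) (hSc t htS)
  have hne : ((Subtype.val : V → α) '' t ∩ U).Nonempty := by
    by_contra h
    rw [Set.not_nonempty_iff_eq_empty] at h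
    rw [h, closure_empty] at hyt
    exact hyt
  have hηU : η.1 ∈ U := by
    have hopen : IsOpen ((Subtype.val : V → α) ⁻¹' (U : Set α)) := U.isOpen.preimage continuous_subtype_val
    have := (hη.mem_open_set_iff hopen).mpr (by
      obtain ⟨_, ⟨v, hvt, rfl⟩, hvU⟩ := hne
      exact ⟨v, hvt, hvU⟩)
    exact this
  have hηK : η.1 ∈ K := by
    have : η ∈ (Subtype.val : V → α) ⁻¹' K := by
      rw [hSU]
      exact ⟨t, htS, hη.mem⟩
    exact this
  have hηZ : η.1 ∈ Z := hCZ ⟨⟨hηK, η.2⟩, hηU⟩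
  have hsub2 : (Subtype.val : V → α) '' t ∩ U ⊆ closure {η.1} := by
    rintro _ ⟨⟨v, hvt, rfl⟩, -⟩
    have h1 : η ⤳ v := hη.specializes hvt
    have h2 : η.1 ⤳ v.1 := h1.map continuous_subtype_val
    exact h2.mem_closure
  have hy2 : y ∈ closure {η.1} := closure_minimal hsub2 isClosed_closure hyt
  exact hZ (specializes_iff_mem_closure.mpr hy2) hηZ

section Kill

variable {X : Scheme.{u}} [IsLocallyNoetherian X] (Z : Set X) (F : X.Modules)

omit [IsLocallyNoetherian X] in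
/-- sections are determined by their germs. -/
theorem eq_zero_of_germ_eq_zero (M : X.Modules) {A : X.Opens} (s : Γ(M, A))
    (h : ∀ (y : X) (hy : y ∈ A), M.presheaf.germ A y hy s = 0) : s = 0 := by
  let M' : TopCat.Sheaf Ab.{u} X.toTopCat := ⟨M.presheaf, M.isSheaf⟩
  refine TopCat.Presheaf.section_ext M' A s 0 fun y hy => ?_
  exact (h y hy).trans (map_zero _).symm

omit [IsLocallyNoetherian X] in
/-- the vanishing locus of a section is open. -/
theorem isOpen_germ_eq_zero (M : X.Modules) {A : X.Opens} (s : Γ(M, A)) :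
    IsOpen {y : X | ∃ hy : y ∈ A, M.presheaf.germ A y hy s = 0} := by
  rw [isOpen_iff_forall_mem_open]
  rintro y ⟨hy, h0⟩
  have h0' : M.presheaf.germ A y hy s = M.presheaf.germ A y hy 0 := h0.trans (map_zero _).symm
  obtain ⟨W, hyW, i₁, i₂, heq⟩ := TopCat.Presheaf.germ_eq _ y hy hy _ _ h0'
  refine ⟨W, ?_, W.isOpen, hyW⟩
  intro y' hy'
  refine ⟨leOfHom i₁ hy', ?_⟩
  rw [← TopCat.Presheaf.germ_res_apply M.presheaf i₁ y' hy' s, heq, map_zero, map_zero]

/-- a section of `j_*(F|_{X∖T})` over an affine open whose germs vanish outside `Z` dies at a finite stage. -/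
theorem exists_le_map_eq_zero_of_germ (hZ : StableUnderSpecialization Z) (T : ZClos.Cl Z)
    (V : X.Opens) (hV : IsAffineOpen V) (s : Γ((D Z F).obj T, V))
    (hs : ∀ (y : X) (hy : y ∈ T.U.ι ''ᵁ T.U.ι ⁻¹ᵁ V), y ∉ Z →
      F.presheaf.germ (T.U.ι ''ᵁ T.U.ι ⁻¹ᵁ V) y hy s = 0) :
    ∃ (T' : ZClos.Cl Z) (h : T ≤ T'), ((D Z F).map (homOfLE h)).app V s = 0 := by
  haveI : IsNoetherianRing Γ(X, V) := IsLocallyNoetherian.component_noetherian ⟨V, hV⟩
  haveI : NoetherianSpace V := noetherianSpace_of_isAffineOpen V hV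
  haveI : QuasiSober V := V.isOpen.isOpenEmbedding_subtypeVal.quasiSober
  set A : X.Opens := T.U.ι ''ᵁ T.U.ι ⁻¹ᵁ V with hA
  have hAeq : A = T.U ⊓ V := ZClos.ι_image_preimage T.U V
  let s' : Γ(F, A) := s
  let O : Set X := {y : X | ∃ hy : y ∈ A, F.presheaf.germ A y hy s' = 0}
  have hO : IsOpen O := isOpen_germ_eq_zero F s' 
  have hK : IsClosed Oᶜ := hO.isClosed_compl
  have hCZ : Oᶜ ∩ V ∩ T.U ⊆ Z := by
    rintro y ⟨⟨hyO, hyV⟩, hyU⟩
    by_contra hyZ
    have hyA : y ∈ A := by rw [hAeq]; exact ⟨hyU, hyV⟩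
    exact hyO ⟨hyA, hs y hyA hyZ⟩
  have hcl := @closure_subset_of_stableUnderSpecialization _ _ _ hZ V ‹_› ‹_› T.U Oᶜ hK hCZ
  let T'' : ZClos.Cl Z := ⟨⟨closure (Oᶜ ∩ V ∩ T.U), isClosed_closure⟩, hcl⟩
  refine ⟨T ⊔ T'', le_sup_left, ?_⟩
  rw [D_map_app]
  refine eq_zero_of_germ_eq_zero F (A := (T ⊔ T'').U.ι ''ᵁ (T ⊔ T'').U.ι ⁻¹ᵁ V)
    (F.presheaf.map (ZClos.trIncl (ZClos.Cl.U_anti (le_sup_left : T ≤ T ⊔ T'')) V).op s') fun y hy => ?_
  rw [TopCat.Presheaf.germ_res_apply]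
  have hy2 : y ∈ (T ⊔ T'').U ⊓ V := by
    rw [← ZClos.ι_image_preimage]; exact hy
  have hyT' : y ∉ ((T ⊔ T'' : ZClos.Cl Z).1 : Set X) := hy2.1
  have hyV : y ∈ V := hy2.2
  have hyT : y ∈ T.U := fun h => hyT' (by
    change y ∈ ((T.1 ⊔ T''.1 : Closeds X) : Set X)
    rw [Closeds.coe_sup]; exact Or.inl h)
  have hyC : y ∉ closure (Oᶜ ∩ V ∩ T.U) := fun h => hyT' (by
    change y ∈ ((T.1 ⊔ T''.1 : Closeds X) : Set X)
    rw [Closeds.coe_sup]; exact Or.inr h)
  have hyO : y ∈ O := by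
    by_contra h
    exact hyC (subset_closure ⟨⟨h, hyV⟩, hyT⟩)
  obtain ⟨hyA, h0⟩ := hyO
  exact h0

omit [IsLocallyNoetherian X] in
theorem isZero_of_stalk_subsingleton (M : X.Modules)
    (h : ∀ x : X, Subsingleton (M.presheaf.stalk x)) : IsZero M := by
  rw [IsZero.iff_id_eq_zero]
  apply Scheme.Modules.hom_ext
  intro U
  ext m
  have h0 : m = 0 := eq_zero_of_germ_eq_zero M m fun y hy =>
    (h y).elim _ _
  rw [h0, map_zero, map_zero]

omit [IsLocallyNoetherian X] in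
theorem stalk_subsingleton_of_isZero (M : X.Modules) (h : IsZero M) (x : X) :
    Subsingleton (M.presheaf.stalk x) := by
  refine ⟨fun a b => ?_⟩
  have key : ∀ c : M.presheaf.stalk x, c = 0 := by
    intro c
    obtain ⟨U, hxU, m, rfl⟩ := M.presheaf.exists_germ_eq c
    have h1 : (𝟙 M : M ⟶ M) = 0 := (IsZero.iff_id_eq_zero M).mp h
    have h2 : m = (𝟙 M : M ⟶ M).app U m := rfl
    rw [h2, h1]
    exact map_zero _
  rw [key a, key b]

/-- S5870. -/
theorem isZero_H0_iff (hZ : StableUnderSpecialization Z) :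
    IsZero ((ZClos.H0 Z).obj F) ↔ ∀ x : X, x ∉ Z → Subsingleton (F.presheaf.stalk x) := by
  constructor
  · intro h x hx
    haveI := stalk_subsingleton_of_isZero _ h x
    refine ⟨fun a b => ?_⟩
    exact (isZClosedAt_of_notMem Z F x hx).1 (Subsingleton.elim _ _)
  · intro h
    refine isZero_of_stalk_subsingleton _ fun x => ⟨fun a b => ?_⟩
    have key : ∀ c : (stalkF x).obj ((ZClos.H0 Z).obj F), c = 0 := by
      intro c
      obtain ⟨T, w, rfl⟩ := exists_rep Z F x c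
      obtain ⟨V₀, hxV₀, s₀, rfl⟩ := ((D Z F).obj T).presheaf.exists_germ_eq w
      obtain ⟨_, ⟨V, hV, rfl⟩, hxV, hVV₀⟩ :=
        X.isBasis_affineOpens.exists_subset_of_mem_open hxV₀ V₀.isOpen
      have hVV₀' : V ≤ V₀ := hVV₀
      set s := ((D Z F).obj T).presheaf.map (homOfLE hVV₀').op s₀ with hs
      have hgerm : ((D Z F).obj T).presheaf.germ V₀ x hxV₀ s₀ =
          ((D Z F).obj T).presheaf.germ V x hxV s := by
        rw [hs, TopCat.Presheaf.germ_res_apply]
      rw [hgerm]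
      obtain ⟨T', hTT', h0⟩ := exists_le_map_eq_zero_of_germ Z F hZ T V hV s
        (fun y hy hyZ => (h y hyZ).elim _ _)
      have h1 := ιx_τx Z F x hTT' (((D Z F).obj T).presheaf.germ V x hxV s)
      rw [← h1]
      have h2 : τx Z F x hTT' (((D Z F).obj T).presheaf.germ V x hxV s) = 0 :=
        (stalkF_map_germ ((D Z F).map (homOfLE hTT')) x hxV s).trans (by rw [h0]; exact map_zero _)
      rw [h2]
      exact map_zero (ιx Z F x T').hom
    exact (key a).trans (key b).symm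

end Kill

end Groth.Agent.Lib.Helper20.ZClosLib
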