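import Mathlib
import Groth.Agent.Lib.Helper20ZClos3
import Groth.Agent.Lib.Helper20ZClos4

set_option autoImplicit false
set_option linter.style.haveILetI false
universe u
open CategoryTheory CategoryTheory.Limits AlgebraicGeometry TopologicalSpace Opposite

namespace Groth.Agent.Lib.Helper20.ZClosLib

open Groth.Agent.Lib.Helper2.ModExact

variable {X : Scheme.{u}} (Z : Set X) (F : X.Modules)

theorem ιH_D_map {T T' : ZClos.Cl Z} (h : T ≤ T') :
    (D Z F).map (homOfLE h) ≫ ιH Z F T' = ιH Z F T :=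
  colimit.w (D Z F) (homOfLE h)

theorem ιH_D_map_app {T T' : ZClos.Cl Z} (h : T ≤ T') (V : X.Opens) (s : Γ((D Z F).obj T, V)) :
    (ιH Z F T').app V (((D Z F).map (homOfLE h)).app V s) = (ιH Z F T).app V s := by
  rw [← ιH_D_map Z F h]
  rfl

theorem D_map_comp_app {T T' T'' : ZClos.Cl Z} (h : T ≤ T') (h' : T' ≤ T'') (V : X.Opens)
    (s : Γ((D Z F).obj T, V)) :
    ((D Z F).map (homOfLE h')).app V (((D Z F).map (homOfLE h)).app V s) =
      ((D Z F).map (homOfLE (h.trans h'))).app V s := by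
  have : (D Z F).map (homOfLE (h.trans h')) = (D Z F).map (homOfLE h) ≫ (D Z F).map (homOfLE h') := by
    rw [← Functor.map_comp]
    rfl
  rw [this]
  rfl

/-- local representability of sections of `H⁰_{X/Z}(F)`. -/
theorem exists_local_rep (W : X.Opens) (g : Γ((ZClos.H0 Z).obj F, W)) (y : X) (hy : y ∈ W) :
    ∃ (T : ZClos.Cl Z) (Wy : X.Opens) (_ : y ∈ Wy) (hWy : Wy ≤ W) (s : Γ((D Z F).obj T, Wy)),
      (ιH Z F T).app Wy s = ((ZClos.H0 Z).obj F).presheaf.map (homOfLE hWy).op g := by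
  obtain ⟨T, w, hw⟩ := exists_rep Z F y (((ZClos.H0 Z).obj F).presheaf.germ W y hy g)
  obtain ⟨W₁, hyW₁, s₁, rfl⟩ := ((D Z F).obj T).presheaf.exists_germ_eq w
  have h1 : ((ZClos.H0 Z).obj F).presheaf.germ W₁ y hyW₁ ((ιH Z F T).app W₁ s₁) =
      ((ZClos.H0 Z).obj F).presheaf.germ W y hy g :=
    (stalkF_map_germ (ιH Z F T) y hyW₁ s₁).symm.trans hw
  obtain ⟨W₂, hyW₂, i₁, i₂, heq⟩ := TopCat.Presheaf.germ_eq _ y hyW₁ hy _ _ h1
  refine ⟨T, W₂, hyW₂, leOfHom i₂, ((D Z F).obj T).presheaf.map i₁.op s₁, ?_⟩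
  rw [app_map]
  exact heq

/-- over an open all of whose open subsets are compact, sections of `H⁰_{X/Z}(F)` come from a finite stage. -/
theorem exists_rep_sections (W : X.Opens) (hW : ∀ W' : X.Opens, W' ≤ W → IsCompact (W' : Set X))
    (g : Γ((ZClos.H0 Z).obj F, W)) :
    ∃ (T : ZClos.Cl Z) (s : Γ((D Z F).obj T, W)), (ιH Z F T).app W s = g := by
  classical
  choose Ty Wy hyWy hWyW sy hsy using fun y : W => exists_local_rep Z F W g y.1 y.2
  obtain ⟨t, ht⟩ := (hW W le_rfl).elim_finite_subcover (fun y : W => (Wy y : Set X))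
    (fun y => (Wy y).isOpen) (fun y hy => Set.mem_iUnion.mpr ⟨⟨y, hy⟩, hyWy ⟨y, hy⟩⟩)
  let T₀ : ZClos.Cl Z := t.sup Ty
  have hT₀ : ∀ y ∈ t, Ty y ≤ T₀ := fun y hy => Finset.le_sup hy
  let s0 : ∀ y : {y // y ∈ t}, Γ((D Z F).obj T₀, Wy y.1) := fun y =>
    ((D Z F).map (homOfLE (hT₀ y.1 y.2))).app (Wy y.1) (sy y.1)
  have hs0 : ∀ y : {y // y ∈ t}, (ιH Z F T₀).app (Wy y.1) (s0 y) =
      ((ZClos.H0 Z).obj F).presheaf.map (homOfLE (hWyW y.1)).op g := fun y =>
    (ιH_D_map_app Z F _ _ _).trans (hsy y.1)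
  have hpair : ∀ p : {y // y ∈ t} × {y // y ∈ t}, ∃ (T' : ZClos.Cl Z) (h : T₀ ≤ T'),
      ((D Z F).map (homOfLE h)).app (Wy p.1.1 ⊓ Wy p.2.1)
        (((D Z F).obj T₀).presheaf.map (homOfLE (inf_le_left : Wy p.1.1 ⊓ Wy p.2.1 ≤ Wy p.1.1)).op (s0 p.1) -
          ((D Z F).obj T₀).presheaf.map
            (homOfLE (inf_le_right : Wy p.1.1 ⊓ Wy p.2.1 ≤ Wy p.2.1)).op (s0 p.2)) = 0 := by
    intro p
    apply exists_le_map_eq_zero Z F T₀ _ (hW _ (inf_le_left.trans (hWyW p.1.1)))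
    change (ιH Z F T₀).app _ _ = 0
    rw [map_sub, app_map, app_map, hs0, hs0, ← ConcreteCategory.comp_apply, ← Functor.map_comp,
      ← ConcreteCategory.comp_apply, ← Functor.map_comp]
    exact sub_self _
  choose Tp hTp hzero using hpair
  let T₁ : ZClos.Cl Z := T₀ ⊔ (Finset.univ : Finset ({y // y ∈ t} × {y // y ∈ t})).sup Tp
  have hT₁ : T₀ ≤ T₁ := le_sup_left
  have hTp₁ : ∀ p, Tp p ≤ T₁ := fun p => le_sup_of_le_right (Finset.le_sup (Finset.mem_univ p))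
  let s1 : ∀ y : {y // y ∈ t}, Γ((D Z F).obj T₁, Wy y.1) := fun y =>
    ((D Z F).map (homOfLE hT₁)).app _ (s0 y)
  let M₁ : TopCat.Sheaf Ab.{u} X.toTopCat :=
    ⟨((D Z F).obj T₁).presheaf, ((D Z F).obj T₁).isSheaf⟩
  have hcompat : TopCat.Presheaf.IsCompatible M₁.1 (fun y : {y // y ∈ t} => Wy y.1) s1 := by
    intro y y'
    have h0 := hzero (y, y')
    have h1 := congrArg (((D Z F).map (homOfLE (hTp₁ (y, y')))).app (Wy y.1 ⊓ Wy y'.1)) h0
    rw [D_map_comp_app, map_zero, map_sub, app_map, app_map, sub_eq_zero] at h1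
    exact h1
  obtain ⟨s, hs, -⟩ := M₁.existsUnique_gluing' (fun y : {y // y ∈ t} => Wy y.1) W
    (fun y => homOfLE (hWyW y.1)) (fun x hx => by
      have := ht hx
      simp only [Set.mem_iUnion, exists_prop] at this
      obtain ⟨y, hyt, hxy⟩ := this
      exact Opens.mem_iSup.mpr ⟨⟨y, hyt⟩, hxy⟩) s1 hcompat
  refine ⟨T₁, s, ?_⟩
  refine ((ZClos.H0 Z).obj F).isSheaf.section_ext (U := op W) fun x hx => ?_
  have := ht hx
  simp only [Set.mem_iUnion, exists_prop] at this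
  obtain ⟨y, hyt, hxy⟩ := this
  refine ⟨Wy y, hWyW y, hxy, ?_⟩
  change ((ZClos.H0 Z).obj F).presheaf.map (homOfLE (hWyW y)).op ((ιH Z F T₁).app W s) =
    ((ZClos.H0 Z).obj F).presheaf.map (homOfLE (hWyW y)).op g
  rw [← app_map]
  have h2 : ((D Z F).obj T₁).presheaf.map (homOfLE (hWyW y)).op s = s1 ⟨y, hyt⟩ := hs ⟨y, hyt⟩
  rw [h2]
  exact (ιH_D_map_app Z F hT₁ _ _).trans (hs0 ⟨y, hyt⟩)

theorem exists_rep_sections_ge (T : ZClos.Cl Z) (W : X.Opens)
    (hW : ∀ W' : X.Opens, W' ≤ W → IsCompact (W' : Set X))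
    (g : Γ((ZClos.H0 Z).obj F, W)) :
    ∃ (T₁ : ZClos.Cl Z) (_ : T ≤ T₁) (s : Γ((D Z F).obj T₁, W)), (ιH Z F T₁).app W s = g := by
  obtain ⟨T₁, s, hs⟩ := exists_rep_sections Z F W hW g
  exact ⟨T₁ ⊔ T, le_sup_right, ((D Z F).map (homOfLE (le_sup_left : T₁ ≤ T₁ ⊔ T))).app W s,
    (ιH_D_map_app Z F _ _ _).trans hs⟩

theorem bijective_map_of_eq (M : X.Modules) {A B : X.Opens} (e : A = B) (i : A ⟶ B) :
    Function.Bijective (M.presheaf.map i.op) := by
  subst e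
  have : i = 𝟙 A := Subsingleton.elim _ _
  rw [this, op_id, M.presheaf.map_id]
  exact Function.bijective_id

/-- for `T ≤ T₂` the restriction of `j₂_*(F|_{X∖T₂})` from `V` to `V ∖ T` is bijective. -/
theorem bijective_D_obj_map {T T₂ : ZClos.Cl Z} (h : T ≤ T₂) (V : X.Opens) :
    Function.Bijective (((D Z F).obj T₂).presheaf.map
      (homOfLE (T.U.ι.image_preimage_le V)).op) :=
  by
  have h1 := ZClos.resPush_presheaf_map T₂.U F (homOfLE (T.U.ι.image_preimage_le V))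
  have h2 : Function.Bijective (F.presheaf.map (T₂.U.ι.opensFunctor.map
      ((Opens.map T₂.U.ι.base).map (homOfLE (T.U.ι.image_preimage_le V)))).op) :=
    bijective_map_of_eq F (ZClos.resPush_image_eq (ZClos.Cl.U_anti h) V) _
  rw [← h1] at h2
  exact h2

theorem isCompact_of_le_affine [IsLocallyNoetherian X] {V : X.Opens} (hV : IsAffineOpen V)
    (W' : X.Opens) (hW' : W' ≤ V) : IsCompact (W' : Set X) := by
  haveI : IsNoetherianRing Γ(X, V) := IsLocallyNoetherian.component_noetherian ⟨V, hV⟩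
  have hN : NoetherianSpace ((V : Set X) : Type u) := noetherianSpace_of_isAffineOpen V hV
  have h1 : IsCompact ((Subtype.val : ((V : Set X) : Type u) → X) ⁻¹' (W' : Set X)) :=
    @NoetherianSpace.isCompact _ _ hN _
  have h2 := h1.image continuous_subtype_val
  rwa [Subtype.image_preimage_coe, Set.inter_eq_right.mpr hW'] at h2

/-- S5850: `H⁰_{X/Z}(F)` is `Z`-closed. -/
theorem isZClosed_H0 [IsLocallyNoetherian X] : ZClos.IsZClosed Z ((ZClos.H0 Z).obj F) := by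
  refine isZClosed_of_forall_isIso Z _ fun T => ?_
  refine isIso_of_bijective_on_affines _ fun V hV => ?_
  set A : X.Opens := T.U.ι ''ᵁ T.U.ι ⁻¹ᵁ V with hA
  have hAV : A ≤ V := T.U.ι.image_preimage_le V
  have hcV : ∀ W' : X.Opens, W' ≤ V → IsCompact (W' : Set X) := isCompact_of_le_affine hV
  have hcA : ∀ W' : X.Opens, W' ≤ A → IsCompact (W' : Set X) := fun W' h => hcV W' (h.trans hAV)
  constructor
  · rw [injective_iff_map_eq_zero]
    intro g hg
    obtain ⟨T₁, hT₁, s, rfl⟩ := exists_rep_sections_ge Z F T V hcV g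
    have hg' : (ιH Z F T₁).app A (((D Z F).obj T₁).presheaf.map (homOfLE hAV).op s) = 0 := by
      rw [app_map]
      exact hg
    obtain ⟨T₂, hT₂, h0⟩ := exists_le_map_eq_zero Z F T₁ A (hcA A le_rfl) _ hg'
    rw [app_map] at h0
    have h1 : ((D Z F).map (homOfLE hT₂)).app V s = 0 :=
      (bijective_D_obj_map Z F (hT₁.trans hT₂) V).1 (h0.trans (map_zero _).symm)
    rw [← ιH_D_map_app Z F hT₂, h1, map_zero]
  · intro h
    obtain ⟨T₁, hT₁, s, rfl⟩ := exists_rep_sections_ge Z F T A hcA h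
    obtain ⟨s', rfl⟩ := (bijective_D_obj_map Z F hT₁ V).2 s
    refine ⟨(ιH Z F T₁).app V s', ?_⟩
    exact (app_map (ιH Z F T₁) (homOfLE hAV) s').symm

end Groth.Agent.Lib.Helper20.ZClosLib
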