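import Mathlib
import Groth.Agent.Lib.Helper20ZClos5
import Groth.Agent.Lib.Helper23QCohLocal

set_option autoImplicit false
set_option linter.style.haveILetI false
universe u
open CategoryTheory CategoryTheory.Limits AlgebraicGeometry TopologicalSpace Opposite

namespace Groth.Agent.Lib.Helper20.ZClosLib

open Groth.Agent.Lib.Helper2.ModExact Groth.Agent.Lib.Helper2.Push

variable {X : Scheme.{u}} [IsLocallyNoetherian X] (Z : Set X) (F : X.Modules)

instance isQuasicoherent_D_obj [F.IsQuasicoherent] (T : ZClos.Cl Z) :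
    ((D Z F).obj T).IsQuasicoherent :=
  Groth.Agent.Lib.Helper23.QCohLocal.isQuasicoherent_pushforward T.U.ι (F.restrict T.U.ι)

/-- S5841: the `Z`-closure of a quasi-coherent module is quasi-coherent. -/
theorem isQuasicoherent_H0 [F.IsQuasicoherent] : ((ZClos.H0 Z).obj F).IsQuasicoherent := by
  refine Groth.Agent.Lib.Helper23.QCohLocal.isQuasicoherent_of_isLocOn _ fun V hV => ?_
  have hcV : ∀ W' : X.Opens, W' ≤ V → IsCompact (W' : Set X) := isCompact_of_le_affine hV
  constructor
  · intro f s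
    obtain ⟨T, sT, rfl⟩ := exists_rep_sections Z F (X.basicOpen f)
      (fun W' h => hcV W' (h.trans (X.basicOpen_le f))) s
    obtain ⟨n, tT, htT⟩ := (IsLocOn.of_isQuasicoherent hV ((D Z F).obj T)).exists_extension f sT
    refine ⟨n, (ιH Z F T).app V tT, ?_⟩
    rw [← app_map, htT, app_smul]
  · intro f t ht
    obtain ⟨T, tT, rfl⟩ := exists_rep_sections Z F V hcV t
    rw [← app_map] at ht
    obtain ⟨T', hTT', h0⟩ := exists_le_map_eq_zero Z F T (X.basicOpen f)
      (hcV _ (X.basicOpen_le f)) _ ht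
    rw [app_map] at h0
    obtain ⟨n, hn⟩ := (IsLocOn.of_isQuasicoherent hV ((D Z F).obj T')).exists_pow_smul_eq_zero f _ h0
    refine ⟨n, ?_⟩
    rw [← ιH_D_map_app Z F hTT', ← app_smul, hn, map_zero]

end Groth.Agent.Lib.Helper20.ZClosLib
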