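import Mathlib
import Groth.Agent.Lib.Helper20ZClos7
import Groth.Agent.Lib.Helper28DepthLoc

set_option autoImplicit false
set_option linter.style.haveILetI false
universe u
open CategoryTheory CategoryTheory.Limits AlgebraicGeometry TopologicalSpace Opposite

namespace Groth.Agent.Lib.Helper20.ZClosLib

open Groth.Agent.Lib.Helper2.ModExact Groth.Agent.Lib.Helper2.QCoh

variable {X : Scheme.{u}} [IsLocallyNoetherian X] (Z : Set X) (F : X.Modules)

/-- the closure of a point of a specialization-stable set, as a member of the index. -/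
def clPt (hZ : StableUnderSpecialization Z) (x' : X) (hx' : x' ∈ Z) : ZClos.Cl Z :=
  ⟨⟨closure {x'}, isClosed_closure⟩, fun _ hy => hZ (specializes_iff_mem_closure.mpr hy) hx'⟩

theorem depth_eq_zero_iff_isAssPoint [F.IsQuasicoherent]
    [SheafOfModules.IsFiniteType (R := X.ringCatSheaf) F] (x' : X) :
    LocCoh.depth (X.presheaf.stalk x') (F.presheaf.stalk x') = 0 ↔ Curv2.IsAssPoint F x' := by
  haveI := Groth.Agent.Lib.Helper2.FibreCrit.finite_stalk F x'
  exact Groth.Agent.Lib.Helper28.depth_eq_zero_iff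

theorem not_one_le_iff (d : ℕ∞) : ¬ (1 : ℕ∞) ≤ d ↔ d = 0 := by
  rw [Order.one_le_iff_pos, not_lt, nonpos_iff_eq_zero]

/-- a section over an affine open `W` annihilated by the prime of `x'` restricts to zero off the closure of `x'`. -/
theorem toDiagram_app_eq_zero_of_ann [F.IsQuasicoherent] (hZ : StableUnderSpecialization Z)
    {W : X.Opens} (hW : IsAffineOpen W) (x' : X) (hx'W : x' ∈ W) (hx'Z : x' ∈ Z) (m : Γ(F, W))
    (hm : ∀ r ∈ (hW.primeIdealOf ⟨x', hx'W⟩).asIdeal, r • m = 0) :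
    (ZClos.toDiagram Z F (clPt Z hZ x' hx'Z)).app W m = 0 := by
  set T := clPt Z hZ x' hx'Z
  apply Groth.Agent.S1575.eq_zero_of_pushforward T.U.ι (F.restrict T.U.ι) W
  intro y' hy'
  have hnle : ¬ (hW.primeIdealOf ⟨x', hx'W⟩).asIdeal ≤ (hW.primeIdealOf ⟨T.U.ι y', hy'⟩).asIdeal := by
    intro hle
    have h1 := fromSpec_specializes hW (hW.primeIdealOf ⟨x', hx'W⟩) (T.U.ι y') hy' hle
    rw [hW.fromSpec_primeIdealOf ⟨x', hx'W⟩] at h1
    exact y'.2 (specializes_iff_mem_closure.mp h1)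
  obtain ⟨r, hrp, hry⟩ := Set.not_subset.mp hnle
  refine ⟨r, ?_, (Groth.Agent.Lib.Helper2.mem_basicOpen_iff_notMem_primeIdealOf hW _ hy' r).mpr hry⟩
  change r • (ZClos.toDiagram Z F T).app W m = 0
  rw [← app_smul, hm r hrp, map_zero]

theorem exists_affine_mem (x : X) : ∃ W : X.Opens, IsAffineOpen W ∧ x ∈ W := by
  obtain ⟨_, ⟨W, hW, rfl⟩, hxW, -⟩ :=
    X.isBasis_affineOpens.exists_subset_of_mem_open (Set.mem_univ x) isOpen_univ
  exact ⟨W, hW, hxW⟩

/-- S5855 (⟹). -/
theorem depth_ge_one_of_isZPureAt [F.IsQuasicoherent]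
    [SheafOfModules.IsFiniteType (R := X.ringCatSheaf) F] (hZ : StableUnderSpecialization Z)
    (x : X) (h : ZClos.IsZPureAt Z F x) (x' : X) (hx' : x' ⤳ x) (hx'Z : x' ∈ Z) :
    (1 : ℕ∞) ≤ LocCoh.depth (X.presheaf.stalk x') (F.presheaf.stalk x') := by
  by_contra hlt
  rw [not_one_le_iff, depth_eq_zero_iff_isAssPoint] at hlt
  obtain ⟨W, hW, hxW⟩ := exists_affine_mem x
  have hx'W : x' ∈ W := hx'.mem_open W.isOpen hxW
  haveI : IsNoetherianRing Γ(X, W) := IsLocallyNoetherian.component_noetherian ⟨W, hW⟩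
  have hass := (Groth.Agent.S8871.isAssPoint_iff hW F x' hx'W).mp hlt
  obtain ⟨hp, m, hm⟩ := isAssociatedPrime_iff.mp hass
  have hann : ∀ r ∈ (hW.primeIdealOf ⟨x', hx'W⟩).asIdeal, r • m = 0 := by
    intro r hr
    rw [hm, Submodule.mem_colon_singleton, Submodule.mem_bot] at hr
    exact hr
  have h1 := toDiagram_app_eq_zero_of_ann Z F hZ hW x' hx'W hx'Z m hann
  have h2 : υx Z F x (clPt Z hZ x' hx'Z) (F.presheaf.germ W x hxW m) = 0 :=
    (stalkF_map_germ _ x hxW m).trans (by rw [h1]; exact map_zero _)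
  have h3 : F.presheaf.germ W x hxW m = 0 :=
    (isZPureAt_iff Z F x).mp h _ (h2.trans (map_zero (υx Z F x (clPt Z hZ x' hx'Z)).hom).symm)
  obtain ⟨e, he, hem⟩ := exists_smul_eq_zero_of_germ_eq_zero hW F x hxW m h3
  rw [Groth.Agent.Lib.Helper2.mem_basicOpen_iff_notMem_primeIdealOf hW x hxW] at he
  apply he
  apply primeIdealOf_le_of_specializes hW x x' hxW hx'W hx'
  rw [hm, Submodule.mem_colon_singleton, Submodule.mem_bot]
  exact hem

/-- a nonzero germ at `x` of a section `m` over an affine open gives an associated point `x'` of `F` specializing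
to `x` with `Ann(m)` contained in the prime of `x'`. -/
theorem exists_assPoint_of_germ_ne_zero [F.IsQuasicoherent]
    [SheafOfModules.IsFiniteType (R := X.ringCatSheaf) F] {W : X.Opens} (hW : IsAffineOpen W)
    (x : X) (hxW : x ∈ W) (m : Γ(F, W)) (hne : F.presheaf.germ W x hxW m ≠ 0) :
    ∃ (x' : X) (hx'W : x' ∈ W), x' ⤳ x ∧ Curv2.IsAssPoint F x' ∧
      ∀ r : Γ(X, W), r • m = 0 → r ∈ (hW.primeIdealOf ⟨x', hx'W⟩).asIdeal := by
  haveI : IsNoetherianRing Γ(X, W) := IsLocallyNoetherian.component_noetherian ⟨W, hW⟩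
  haveI : Module.Finite Γ(X, W) Γ(F, W) :=
    Groth.Agent.Lib.Helper23.FinType.finite_of_isFiniteType F hW
  let f : Γ(X, W) →ₗ[Γ(X, W)] Γ(F, W) := LinearMap.toSpanSingleton Γ(X, W) Γ(F, W) m
  let I : Ideal Γ(X, W) := LinearMap.ker f
  have hI : ∀ r : Γ(X, W), r ∈ I ↔ r • m = 0 := fun r => by
    change f r = 0 ↔ _
    rw [LinearMap.toSpanSingleton_apply]
  have hIle : I ≤ (hW.primeIdealOf ⟨x, hxW⟩).asIdeal := by
    intro r hr
    by_contra hrx
    apply hne
    have hu : IsUnit (X.presheaf.germ W x hxW r) := by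
      rw [← Scheme.mem_basicOpen, Groth.Agent.Lib.Helper2.mem_basicOpen_iff_notMem_primeIdealOf hW x hxW]
      exact hrx
    apply germ_smul_eq_zero_of_isUnit hu
    rw [← germ_smul, (hI r).mp hr, map_zero]
  obtain ⟨p', hp'min, hp'le⟩ := Ideal.exists_minimalPrimes_le hIle
  haveI hp'prime : p'.IsPrime := hp'min.1.1
  have hass : p' ∈ associatedPrimes Γ(X, W) Γ(F, W) := by
    have h1 : p' ∈ associatedPrimes Γ(X, W) (Γ(X, W) ⧸ I) := by
      apply Module.associatedPrimes.minimalPrimes_annihilator_subset_associatedPrimes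
      rw [Ideal.annihilator_quotient]
      exact hp'min
    have hinj : Function.Injective (I.liftQ f le_rfl) := by
      rw [← LinearMap.ker_eq_bot]
      exact Submodule.ker_liftQ_eq_bot _ _ _ le_rfl
    exact associatedPrimes.subset_of_injective hinj h1
  let q : PrimeSpectrum Γ(X, W) := ⟨p', hp'prime⟩
  refine ⟨hW.fromSpec q, fromSpec_mem hW q, ?_, ?_, ?_⟩
  · exact fromSpec_specializes hW q x hxW hp'le
  · rw [Groth.Agent.S8871.isAssPoint_iff hW F _ (fromSpec_mem hW q), primeIdealOf_fromSpec]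
    exact hass
  · intro r hr
    rw [primeIdealOf_fromSpec]
    exact hp'min.1.2 ((hI r).mpr hr)

theorem υx_smul (x : X) (T : ZClos.Cl Z) (c : X.presheaf.stalk x) (z : F.presheaf.stalk x) :
    υx Z F x T (c • z) =
      (c • (show ((D Z F).obj T).presheaf.stalk x from υx Z F x T z) :
        ((D Z F).obj T).presheaf.stalk x) :=
  Groth.Agent.S8890.ψ_smul (ZClos.toDiagram Z F T) x c z

/-- S5855 (⟸). -/
theorem isZPureAt_of_depth_ge_one [F.IsQuasicoherent]
    [SheafOfModules.IsFiniteType (R := X.ringCatSheaf) F] (x : X)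
    (h : ∀ x' : X, x' ⤳ x → x' ∈ Z →
      (1 : ℕ∞) ≤ LocCoh.depth (X.presheaf.stalk x') (F.presheaf.stalk x')) :
    ZClos.IsZPureAt Z F x := by
  rw [isZPureAt_iff]
  intro T
  rw [injective_iff_map_eq_zero]
  intro z hz
  obtain ⟨W, hW, hxW⟩ := exists_affine_mem x
  obtain ⟨s, m, hs, hsm⟩ := exists_smul_eq_germ hW F x hxW z
  have hsu : IsUnit (X.presheaf.germ W x hxW s) := (Scheme.mem_basicOpen X s x hxW).mp hs
  have h1 : υx Z F x T (F.presheaf.germ W x hxW m) = 0 := by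
    rw [← hsm]
    refine (υx_smul Z F x T _ z).trans ?_
    have hz' : (show ((D Z F).obj T).presheaf.stalk x from υx Z F x T z) = 0 := hz
    rw [hz']
    exact smul_zero (M := X.presheaf.stalk x) (A := ((D Z F).obj T).presheaf.stalk x) _
  have h2 : ((D Z F).obj T).presheaf.germ W x hxW ((ZClos.toDiagram Z F T).app W m) = 0 :=
    (stalkF_map_germ (ZClos.toDiagram Z F T) x hxW m).symm.trans h1
  obtain ⟨e, he, hem⟩ := exists_smul_eq_zero_of_germ_eq_zero hW ((D Z F).obj T) x hxW _ h2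
  rw [← app_smul] at hem
  have heu : IsUnit (X.presheaf.germ W x hxW e) := (Scheme.mem_basicOpen X e x hxW).mp he
  by_contra hz0
  have hne : F.presheaf.germ W x hxW (e • m) ≠ 0 := by
    intro h0
    apply hz0
    rw [germ_smul] at h0
    have h3 := germ_smul_eq_zero_of_isUnit heu h0
    exact germ_smul_eq_zero_of_isUnit hsu (hsm.trans h3)
  obtain ⟨x', hx'W, hspec, hass, hann⟩ := exists_assPoint_of_germ_ne_zero F hW x hxW (e • m) hne
  have hx'T : x' ∈ (T.1 : Set X) := by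
    by_contra hnot
    have hx'A : x' ∈ T.U.ι ''ᵁ T.U.ι ⁻¹ᵁ W := by
      rw [ZClos.ι_image_preimage]; exact ⟨hnot, hx'W⟩
    have h3 : F.presheaf.germ W x' hx'W (e • m) = 0 := by
      rw [← TopCat.Presheaf.germ_res_apply F.presheaf (homOfLE (T.U.ι.image_preimage_le W)) x' hx'A]
      have h4 : F.presheaf.map (homOfLE (T.U.ι.image_preimage_le W)).op (e • m) = 0 := hem
      rw [h4, map_zero]
    obtain ⟨e', he', he'm⟩ := exists_smul_eq_zero_of_germ_eq_zero hW F x' hx'W _ h3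
    exact ((Groth.Agent.Lib.Helper2.mem_basicOpen_iff_notMem_primeIdealOf hW x' hx'W e').mp he')
      (hann e' he'm)
  have hdepth := h x' hspec (T.2 hx'T)
  rw [(depth_eq_zero_iff_isAssPoint F x').mpr hass] at hdepth
  exact absurd hdepth (by norm_num)

/-- S5855. -/
theorem isZPureAt_iff_depth_ge_one [F.IsQuasicoherent]
    [SheafOfModules.IsFiniteType (R := X.ringCatSheaf) F] (hZ : StableUnderSpecialization Z) (x : X) :
    ZClos.IsZPureAt Z F x ↔ ∀ x' : X, x' ⤳ x → x' ∈ Z →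
      (1 : ℕ∞) ≤ LocCoh.depth (X.presheaf.stalk x') (F.presheaf.stalk x') :=
  ⟨fun h x' hx' hx'Z => depth_ge_one_of_isZPureAt Z F hZ x h x' hx' hx'Z,
    isZPureAt_of_depth_ge_one Z F x⟩

end Groth.Agent.Lib.Helper20.ZClosLib
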