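import Mathlib
import Groth.Agent.Lib.Helper20ZClos8

/-!
# Z-closure, part 9 (helper20): Z-closed at a point and depth ≥ 2, the easy direction; auxiliary results

* `υx_bijective_of_isZClosedAt` : if `F` is `Z`-closed at `x` all the maps `F_x → (j_*(F|_{X∖T}))_x` are bijective.
* `bijective_ψ_of_specializes` : bijectivity of stalk maps of quasi-coherent modules generizes.
* `bijective_ψ_local` : local form of S8890.
* `isZClosedAt_of_depth_ge_two` : S5856 (⟸).
-/

set_option autoImplicit false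
set_option linter.style.haveILetI false
set_option linter.unusedSectionVars false
universe u
open CategoryTheory CategoryTheory.Limits AlgebraicGeometry TopologicalSpace Opposite

namespace Groth.Agent.Lib.Helper20.ZClosLib

open Groth.Agent.Lib.Helper2.ModExact Groth.Agent.Lib.Helper2.QCoh
open Groth.Agent.S8890 (ψ ψ_germ ψ_smul inj_at surj_at bij_at)

variable {X : Scheme.{u}} [IsLocallyNoetherian X] (Z : Set X) (F : X.Modules)

/-- quasi-coherent version of `exists_assPoint_of_germ_ne_zero`. -/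
theorem exists_assPoint_of_germ_ne_zero' [F.IsQuasicoherent]
    {W : X.Opens} (hW : IsAffineOpen W)
    (x : X) (hxW : x ∈ W) (m : Γ(F, W)) (hne : F.presheaf.germ W x hxW m ≠ 0) :
    ∃ (x' : X) (hx'W : x' ∈ W), x' ⤳ x ∧ Curv2.IsAssPoint F x' ∧
      ∀ r : Γ(X, W), r • m = 0 → r ∈ (hW.primeIdealOf ⟨x', hx'W⟩).asIdeal := by
  haveI : IsNoetherianRing Γ(X, W) := IsLocallyNoetherian.component_noetherian ⟨W, hW⟩
  let f : Γ(X, W) →ₗ[Γ(X, W)] Γ(F, W) := LinearMap.toSpanSingleton Γ(X, W) Γ(F, W) m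
  let I : Ideal Γ(X, W) := LinearMap.ker f
  have hI : ∀ r : Γ(X, W), r ∈ I ↔ r • m = 0 := fun r => by
    change f r = 0 ↔ _
    rw [LinearMap.toSpanSingleton_apply]
  have hIle : I ≤ (hW.primeIdealOf ⟨x, hxW⟩).asIdeal := by
    intro r hr
    by_contra hrx
    apply hne
    have hu : IsUnit (X.presheaf.germ W x hxW r) := by
      rw [← Scheme.mem_basicOpen, Groth.Agent.Lib.Helper2.mem_basicOpen_iff_notMem_primeIdealOf hW x hxW]
      exact hrx
    apply germ_smul_eq_zero_of_isUnit hu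
    rw [← germ_smul, (hI r).mp hr, map_zero]
  obtain ⟨p', hp'min, hp'le⟩ := Ideal.exists_minimalPrimes_le hIle
  haveI hp'prime : p'.IsPrime := hp'min.1.1
  have hass : p' ∈ associatedPrimes Γ(X, W) Γ(F, W) := by
    have h1 : p' ∈ associatedPrimes Γ(X, W) (Γ(X, W) ⧸ I) := by
      apply Module.associatedPrimes.minimalPrimes_annihilator_subset_associatedPrimes
      rw [Ideal.annihilator_quotient]
      exact hp'min
    have hinj : Function.Injective (I.liftQ f le_rfl) := by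
      rw [← LinearMap.ker_eq_bot]
      exact Submodule.ker_liftQ_eq_bot _ _ _ le_rfl
    exact associatedPrimes.subset_of_injective hinj h1
  let q : PrimeSpectrum Γ(X, W) := ⟨p', hp'prime⟩
  refine ⟨hW.fromSpec q, fromSpec_mem hW q, ?_, ?_, ?_⟩
  · exact fromSpec_specializes hW q x hxW hp'le
  · rw [Groth.Agent.S8871.isAssPoint_iff hW F _ (fromSpec_mem hW q), primeIdealOf_fromSpec]
    exact hass
  · intro r hr
    rw [primeIdealOf_fromSpec]
    exact hp'min.1.2 ((hI r).mpr hr)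

/-- an associated point of `F` specializing to a point where `F` is `Z`-pure is not in `Z`. -/
theorem notMem_of_isAssPoint_of_isZPureAt [F.IsQuasicoherent] (hZ : StableUnderSpecialization Z)
    (x : X) (h : ZClos.IsZPureAt Z F x) (x' : X) (hx' : x' ⤳ x) (hass : Curv2.IsAssPoint F x') :
    x' ∉ Z := by
  intro hx'Z
  obtain ⟨W, hW, hxW⟩ := exists_affine_mem x
  have hx'W : x' ∈ W := hx'.mem_open W.isOpen hxW
  haveI : IsNoetherianRing Γ(X, W) := IsLocallyNoetherian.component_noetherian ⟨W, hW⟩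
  have hass := (Groth.Agent.S8871.isAssPoint_iff hW F x' hx'W).mp hass
  obtain ⟨hp, m, hm⟩ := isAssociatedPrime_iff.mp hass
  have hann : ∀ r ∈ (hW.primeIdealOf ⟨x', hx'W⟩).asIdeal, r • m = 0 := by
    intro r hr
    rw [hm, Submodule.mem_colon_singleton, Submodule.mem_bot] at hr
    exact hr
  have h1 := toDiagram_app_eq_zero_of_ann Z F hZ hW x' hx'W hx'Z m hann
  have h2 : υx Z F x (clPt Z hZ x' hx'Z) (F.presheaf.germ W x hxW m) = 0 :=
    (stalkF_map_germ _ x hxW m).trans (by rw [h1]; exact map_zero _)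
  have h3 : F.presheaf.germ W x hxW m = 0 :=
    (isZPureAt_iff Z F x).mp h _ (h2.trans (map_zero (υx Z F x (clPt Z hZ x' hx'Z)).hom).symm)
  obtain ⟨e, he, hem⟩ := exists_smul_eq_zero_of_germ_eq_zero hW F x hxW m h3
  rw [Groth.Agent.Lib.Helper2.mem_basicOpen_iff_notMem_primeIdealOf hW x hxW] at he
  apply he
  apply primeIdealOf_le_of_specializes hW x x' hxW hx'W hx'
  rw [hm, Submodule.mem_colon_singleton, Submodule.mem_bot]
  exact hem


theorem isAssPoint_iff_of_bijective {F G : X.Modules} (φ : F ⟶ G) (x : X)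
    (h : Function.Bijective (Groth.Agent.S8890.ψ φ x)) :
    Curv2.IsAssPoint F x ↔ Curv2.IsAssPoint G x :=
  LinearEquiv.isAssociatedPrime_iff (LinearEquiv.ofBijective (Groth.Agent.S8890.ψₗ φ x) h)

theorem τx_smul (x : X) {T T' : ZClos.Cl Z} (h : T ≤ T') (c : X.presheaf.stalk x)
    (z : ((D Z F).obj T).presheaf.stalk x) :
    τx Z F x h (c • z) =
      (c • (show ((D Z F).obj T').presheaf.stalk x from τx Z F x h z) :
        ((D Z F).obj T').presheaf.stalk x) :=
  Groth.Agent.S8890.ψ_smul ((D Z F).map (homOfLE h)) x c z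


/-- a section of `j_*(F|_{X∖T})` over `W` killed by the transition map to `T'` has zero germ at points off `T'`. -/
theorem germ_eq_zero_of_D_map_eq_zero {T T' : ZClos.Cl Z} (h : T ≤ T') (W : X.Opens)
    (n : Γ((D Z F).obj T, W)) (hn : ((D Z F).map (homOfLE h)).app W n = 0)
    (y : X) (hyW : y ∈ W) (hyT' : y ∈ T'.U) :
    ((D Z F).obj T).presheaf.germ W y hyW n = 0 := by
  have hyW' : y ∈ W ⊓ T'.U := ⟨hyW, hyT'⟩
  rw [← TopCat.Presheaf.germ_res_apply ((D Z F).obj T).presheaf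
    (homOfLE (inf_le_left : W ⊓ T'.U ≤ W)) y hyW' n]
  have h0 : ((D Z F).obj T).presheaf.map (homOfLE (inf_le_left : W ⊓ T'.U ≤ W)).op n = 0 := by
    rw [D_map_app] at hn
    have hle : T.U.ι ''ᵁ T.U.ι ⁻¹ᵁ (W ⊓ T'.U) ≤ T'.U.ι ''ᵁ T'.U.ι ⁻¹ᵁ W := by
      rw [ZClos.ι_image_preimage, ZClos.ι_image_preimage]
      exact fun z hz => ⟨hz.2.2, hz.2.1⟩
    let n' : F.presheaf.obj (op (T.U.ι ''ᵁ T.U.ι ⁻¹ᵁ W)) := n
    have h1 : ((D Z F).obj T).presheaf.map (homOfLE (inf_le_left : W ⊓ T'.U ≤ W)).op n =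
        F.presheaf.map (homOfLE hle).op
          (F.presheaf.map (ZClos.trIncl (ZClos.Cl.U_anti h) W).op n') := by
      change F.presheaf.map (T.U.ι.opensFunctor.map ((Opens.map T.U.ι.base).map
          (homOfLE (inf_le_left : W ⊓ T'.U ≤ W)))).op n' =
        (F.presheaf.map (ZClos.trIncl (ZClos.Cl.U_anti h) W).op ≫
          F.presheaf.map (homOfLE hle).op) n'
      rw [← Functor.map_comp]
      rfl
    have hn' : F.presheaf.map (ZClos.trIncl (ZClos.Cl.U_anti h) W).op n' = 0 := hn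
    exact h1.trans ((congrArg _ hn').trans (map_zero (F.presheaf.map (homOfLE hle).op).hom))
  rw [h0, map_zero]


theorem τx_injective_of_isZPureAt [F.IsQuasicoherent] (hZ : StableUnderSpecialization Z) (x : X)
    (hp : ZClos.IsZPureAt Z F x) {T T' : ZClos.Cl Z} (h : T ≤ T') :
    Function.Injective (τx Z F x h) := by
  rw [injective_iff_map_eq_zero]
  intro δ hδ
  by_contra hδ0
  obtain ⟨W, hW, hxW⟩ := exists_affine_mem x
  obtain ⟨s, n, hs, hsn⟩ := exists_smul_eq_germ hW ((D Z F).obj T) x hxW δ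
  have hsu : IsUnit (X.presheaf.germ W x hxW s) := (Scheme.mem_basicOpen X s x hxW).mp hs
  have h1 : τx Z F x h (((D Z F).obj T).presheaf.germ W x hxW n) = 0 := by
    rw [← hsn]
    refine (τx_smul Z F x h _ δ).trans ?_
    have hz' : (show ((D Z F).obj T').presheaf.stalk x from τx Z F x h δ) = 0 := hδ
    rw [hz']
    exact smul_zero (M := X.presheaf.stalk x) (A := ((D Z F).obj T').presheaf.stalk x) _
  have h2 : ((D Z F).obj T').presheaf.germ W x hxW (((D Z F).map (homOfLE h)).app W n) = 0 :=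
    (stalkF_map_germ ((D Z F).map (homOfLE h)) x hxW n).symm.trans h1
  obtain ⟨e, he, hem⟩ := exists_smul_eq_zero_of_germ_eq_zero hW ((D Z F).obj T') x hxW _ h2
  rw [← app_smul] at hem
  have heu : IsUnit (X.presheaf.germ W x hxW e) := (Scheme.mem_basicOpen X e x hxW).mp he
  have hne : ((D Z F).obj T).presheaf.germ W x hxW (e • n) ≠ 0 := by
    intro h0
    apply hδ0
    rw [germ_smul] at h0
    have h3 := germ_smul_eq_zero_of_isUnit heu h0
    exact germ_smul_eq_zero_of_isUnit hsu (hsn.trans h3)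
  obtain ⟨x', hx'W, hspec, hass, hann⟩ :=
    exists_assPoint_of_germ_ne_zero' ((D Z F).obj T) hW x hxW (e • n) hne
  have hx'T : x' ∈ T.U := by
    by_contra hnot
    exact Groth.Agent.S1575.not_isAssPoint F T.U x' hnot hass
  have hassF : Curv2.IsAssPoint F x' :=
    (isAssPoint_iff_of_bijective (ZClos.toDiagram Z F T) x'
      (υx_bijective_of_mem Z F x' T hx'T)).mpr hass
  have hx'Z : x' ∉ Z := notMem_of_isAssPoint_of_isZPureAt Z F hZ x hp x' hspec hassF
  have hx'T' : x' ∈ T'.U := mem_U_of_notMem Z x' hx'Z T'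
  have h3 := germ_eq_zero_of_D_map_eq_zero Z F h W (e • n) hem x' hx'W hx'T'
  obtain ⟨e', he', he'm⟩ := exists_smul_eq_zero_of_germ_eq_zero hW ((D Z F).obj T) x' hx'W _ h3
  exact ((Groth.Agent.Lib.Helper2.mem_basicOpen_iff_notMem_primeIdealOf hW x' hx'W e').mp he')
      (hann e' he'm)

/-- if `F` is `Z`-closed at `x` then all the maps `F_x → (j_*(F|_{X∖T}))_x` are bijective. -/
theorem υx_bijective_of_isZClosedAt [F.IsQuasicoherent] (hZ : StableUnderSpecialization Z) (x : X)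
    (hc : ZClos.IsZClosedAt Z F x) (T : ZClos.Cl Z) : Function.Bijective (υx Z F x T) := by
  have hp : ZClos.IsZPureAt Z F x := hc.1
  refine ⟨(isZPureAt_iff Z F x).mp hp T, fun δ => ?_⟩
  obtain ⟨f, hf⟩ := hc.2 (ιx Z F x T δ)
  refine ⟨f, ?_⟩
  have h1 : ιx Z F x T (υx Z F x T f) = ιx Z F x T δ := (rhoStalk_eq Z F x T f).symm.trans hf
  obtain ⟨T'', h, h', h2⟩ := (rep_eq_iff Z F x _ _).mp h1
  have h3 : τx Z F x h (υx Z F x T f) = τx Z F x h δ := h2
  exact τx_injective_of_isZPureAt Z F hZ x hp h h3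


/-- bijectivity of a stalk map of quasi-coherent modules passes to generizations. -/
theorem bijective_ψ_of_specializes {F G : X.Modules} (φ : F ⟶ G) [F.IsQuasicoherent]
    [G.IsQuasicoherent] (x x' : X) (hx' : x' ⤳ x) (hb : Function.Bijective (ψ φ x)) :
    Function.Bijective (ψ φ x') := by
  obtain ⟨W, hW, hxW⟩ := exists_affine_mem x
  have hx'W : x' ∈ W := hx'.mem_open W.isOpen hxW
  have hle := primeIdealOf_le_of_specializes hW x x' hxW hx'W hx'
  have hmem : ∀ e : Γ(X, W), e ∉ (hW.primeIdealOf ⟨x, hxW⟩).asIdeal →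
      IsUnit (X.presheaf.germ W x' hx'W e) := by
    intro e he
    rw [← Scheme.mem_basicOpen, Groth.Agent.Lib.Helper2.mem_basicOpen_iff_notMem_primeIdealOf hW x' hx'W]
    exact fun h => he (hle h)
  constructor
  · rw [injective_iff_map_eq_zero]
    intro f hf
    obtain ⟨s, m, hs, hsm⟩ := exists_smul_eq_germ hW F x' hx'W f
    have hsu : IsUnit (X.presheaf.germ W x' hx'W s) := (Scheme.mem_basicOpen X s x' hx'W).mp hs
    have h1 : G.presheaf.germ W x' hx'W (φ.app W m) = 0 := by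
      rw [← ψ_germ, ← hsm, ψ_smul, hf, smul_zero]
    obtain ⟨e, he, hem⟩ := exists_smul_eq_zero_of_germ_eq_zero hW G x' hx'W _ h1
    have heu : IsUnit (X.presheaf.germ W x' hx'W e) := (Scheme.mem_basicOpen X e x' hx'W).mp he
    have hφ : φ.app W (e • m) = 0 := by rw [app_smul, hem]
    obtain ⟨e', he', he'm⟩ := inj_at φ hW x hxW hb.1 (e • m) hφ
    have h2 : F.presheaf.germ W x' hx'W (e' • e • m) = 0 := by rw [he'm, map_zero]
    rw [germ_smul, germ_smul] at h2
    have h3 := germ_smul_eq_zero_of_isUnit heu (germ_smul_eq_zero_of_isUnit (hmem e' he') h2)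
    exact germ_smul_eq_zero_of_isUnit hsu (hsm.trans h3)
  · intro g
    obtain ⟨s, n, hs, hsn⟩ := exists_smul_eq_germ hW G x' hx'W g
    have hsu : IsUnit (X.presheaf.germ W x' hx'W s) := (Scheme.mem_basicOpen X s x' hx'W).mp hs
    obtain ⟨e, m, he, hem⟩ := surj_at φ hW x hxW hb.2 n
    have heu := hmem e he
    obtain ⟨v, hv⟩ := (heu.mul hsu).exists_left_inv
    refine ⟨v • F.presheaf.germ W x' hx'W m, ?_⟩
    rw [ψ_smul, ψ_germ, hem, germ_smul, ← hsn, smul_smul, smul_smul, mul_assoc, hv, one_smul]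


/-- local form of S8890. -/
theorem bijective_ψ_local {F G : X.Modules} (φ : F ⟶ G) [F.IsQuasicoherent] [G.IsQuasicoherent]
    [SheafOfModules.IsFiniteType (R := X.ringCatSheaf) F] (x : X)
    (h : ∀ x' : X, x' ⤳ x → Function.Bijective (ψ φ x') ∨
      ((2 : ℕ∞) ≤ LocCoh.depth (X.presheaf.stalk x') (F.presheaf.stalk x') ∧
        ¬ Curv2.IsAssPoint G x')) :
    Function.Bijective (ψ φ x) := by
  by_contra hx₀
  obtain ⟨U, hU, hxU⟩ := exists_affine_mem x
  haveI : IsNoetherianRing Γ(X, U) := IsLocallyNoetherian.component_noetherian ⟨U, hU⟩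
  let S : Set (PrimeSpectrum Γ(X, U)) :=
    {q | q.asIdeal ≤ (hU.primeIdealOf ⟨x, hxU⟩).asIdeal ∧ ¬ Function.Bijective (ψ φ (hU.fromSpec q))}
  have hne : S.Nonempty := by
    refine ⟨hU.primeIdealOf ⟨x, hxU⟩, le_rfl, ?_⟩
    change ¬ Function.Bijective (ψ φ (hU.fromSpec (hU.primeIdealOf ⟨x, hxU⟩)))
    rw [hU.fromSpec_primeIdealOf ⟨x, hxU⟩]
    exact hx₀
  obtain ⟨q₀, hq₀S, hmin⟩ := WellFounded.has_min
    (InvImage.wf (fun q : PrimeSpectrum Γ(X, U) => q.asIdeal.height) wellFounded_lt) S hne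
  apply hq₀S.2
  have hmem := fromSpec_mem hU q₀
  have hprime := primeIdealOf_fromSpec hU q₀
  have hspec : hU.fromSpec q₀ ⤳ x := fromSpec_specializes hU q₀ x hxU hq₀S.1
  rcases h (hU.fromSpec q₀) hspec with hb | ⟨hdepth, hass⟩
  · exact hb
  · refine bij_at φ hU (hU.fromSpec q₀) hmem ?_ hdepth hass
    intro q hlt
    rw [hprime] at hlt
    by_contra hq
    apply hmin q ⟨hlt.le.trans hq₀S.1, hq⟩
    change q.asIdeal.height < q₀.asIdeal.height
    exact Ideal.height_strict_mono_of_isPrime hlt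

/-- S5856 (⟸). -/
theorem isZClosedAt_of_depth_ge_two [F.IsQuasicoherent]
    [SheafOfModules.IsFiniteType (R := X.ringCatSheaf) F] (x : X)
    (h : ∀ x' : X, x' ⤳ x → x' ∈ Z →
      (2 : ℕ∞) ≤ LocCoh.depth (X.presheaf.stalk x') (F.presheaf.stalk x')) :
    ZClos.IsZClosedAt Z F x := by
  apply isZClosedAt_of_forall_bijective
  intro T
  apply bijective_ψ_local (ZClos.toDiagram Z F T) x
  intro x' hx'
  by_cases hx'T : x' ∈ T.U
  · exact Or.inl (υx_bijective_of_mem Z F x' T hx'T)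
  · exact Or.inr ⟨h x' hx' (T.2 (not_not.mp hx'T)),
      Groth.Agent.S1575.not_isAssPoint F T.U x' hx'T⟩


end Groth.Agent.Lib.Helper20.ZClosLib
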