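import Mathlib
import Groth.Agent.Lib.Helper20ZClos9
import Groth.Agent.Lib.Helper28Depth

/-!
# Z-closure, part 10 (helper20): Z-closed at a point iff depth ≥ 2 at the generizations in `Z` (S5856)

* `exists_of_depth_eq_one` : depth exactly one gives `a` regular and `μ ∉ a M'` with `𝔪 μ ⊆ a M'`.
* `exists_good_data` : clearing denominators over a Noetherian ring.
* `exists_glue_div` : gluing the local quotients `n i / r i` to a section `σ` with `a σ = m`.
* `depth_ge_two_of_υx_bijective` and `isZClosedAt_iff_depth_ge_two` (S5856).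
-/

set_option autoImplicit false
set_option linter.style.haveILetI false
set_option linter.unusedSectionVars false
universe u v
open CategoryTheory CategoryTheory.Limits AlgebraicGeometry TopologicalSpace Opposite

namespace Groth.Agent.Lib.Helper20.ZClosLib

open Groth.Agent.Lib.Helper2.ModExact Groth.Agent.Lib.Helper2.QCoh
open Groth.Agent.Lib.Helper28
open scoped Pointwise

/-- depth exactly one: a regular element `a` and an element `μ ∉ a M'` with `𝔪 μ ⊆ a M'`. -/
theorem exists_of_depth_eq_one {O : Type u} [CommRing O] [IsLocalRing O] [IsNoetherianRing O]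
    {M' : Type u} [AddCommGroup M'] [Module O M'] [Module.Finite O M']
    (h1 : (1 : ℕ∞) ≤ LocCoh.depth O M') (h2 : ¬ (2 : ℕ∞) ≤ LocCoh.depth O M') :
    ∃ a ∈ IsLocalRing.maximalIdeal O, IsSMulRegular M' a ∧ ∃ μ : M', (∀ f : M', a • f ≠ μ) ∧
      ∀ c ∈ IsLocalRing.maximalIdeal O, ∃ f : M', c • μ = a • f := by
  set I := IsLocalRing.maximalIdeal O with hI
  by_cases hIM : I • (⊤ : Submodule O M') = ⊤
  · exfalso
    apply h2
    unfold LocCoh.depth
    rw [idealDepth_eq_top_of_smul_top_eq_top I M' hIM]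
    exact le_top
  obtain ⟨f, hfI, hf⟩ := (one_le_idealDepth_iff hIM).mp h1
  have hadd := idealDepth_quotSMulTop_add_one I M' hIM f hfI hf
  have hIM' := smul_top_quotSMulTop_ne_top hfI hIM
  have h0 : LocCoh.idealDepth I (QuotSMulTop f M') = 0 := by
    by_contra hne
    apply h2
    have h3 : 1 ≤ LocCoh.idealDepth I (QuotSMulTop f M') :=
      Order.one_le_iff_pos.mpr (pos_iff_ne_zero.mpr hne)
    calc (2 : ℕ∞) = 1 + 1 := by norm_num
      _ ≤ LocCoh.idealDepth I (QuotSMulTop f M') + 1 := add_le_add_left h3 1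
      _ = _ := hadd
  obtain ⟨p, hp, hIp⟩ := (idealDepth_eq_zero_iff hIM').mp h0
  rw [AssociatedPrimes.mem_iff, isAssociatedPrime_iff] at hp
  obtain ⟨hpp, mbar, rfl⟩ := hp
  obtain ⟨m, rfl⟩ := Submodule.Quotient.mk_surjective _ mbar
  refine ⟨f, hfI, hf, m, ?_, ?_⟩
  · intro n hn
    apply hpp.ne_top
    have hm0 : (Submodule.Quotient.mk m : QuotSMulTop f M') = 0 := by
      rw [Submodule.Quotient.mk_eq_zero, Submodule.mem_smul_pointwise_iff_exists]
      exact ⟨n, trivial, hn⟩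
    rw [hm0]
    simp
  · intro c hc
    have h2 := hIp hc
    rw [Submodule.mem_colon_singleton, Submodule.mem_bot, ← Submodule.Quotient.mk_smul,
      Submodule.Quotient.mk_eq_zero, Submodule.mem_smul_pointwise_iff_exists] at h2
    obtain ⟨n, -, hn⟩ := h2
    exact ⟨n, hn.symm⟩

theorem exists_notMem_forall_mem {A : Type u} [CommRing A] (p : Ideal A) [hp : p.IsPrime]
    {ι : Type v} (S : Finset ι) (f : ι → Ideal A)
    (h : ∀ i ∈ S, ∃ t ∈ f i, t ∉ p) : ∃ e, e ∉ p ∧ ∀ i ∈ S, e ∈ f i := by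
  have hnot : ¬ S.inf f ≤ p := by
    rw [Ideal.IsPrime.inf_le' hp]
    rintro ⟨i, hi, hle⟩
    obtain ⟨t, ht, htp⟩ := h i hi
    exact htp (hle ht)
  obtain ⟨e, he, hep⟩ := SetLike.not_le_iff_exists.mp hnot
  exact ⟨e, hep, fun i hi => (Finset.inf_le hi : S.inf f ≤ f i) he⟩

theorem exists_good_data {A : Type u} [CommRing A] [IsNoetherianRing A] {M : Type v}
    [AddCommGroup M] [Module A M] [Module.Finite A M]
    (p : Ideal A) [hp : p.IsPrime] (a : A) (m : M)
    (hdiv : ∀ r ∈ p, ∃ t, t ∉ p ∧ ∃ n : M, t • r • m = a • n)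
    (hreg : ∀ k : M, a • k = 0 → ∃ t, t ∉ p ∧ t • k = 0) :
    ∃ e, e ∉ p ∧ ∃ n : p → M, (∀ r : p, (r : A) • e • m = a • n r) ∧
      ∀ r r' : p, (r' : A) • n r = (r : A) • n r' := by
  classical
  let N : Submodule A M := LinearMap.range (LinearMap.lsmul A M a)
  have hN : ∀ z : M, z ∈ N ↔ ∃ n : M, a • n = z := fun z => by
    change z ∈ LinearMap.range (LinearMap.lsmul A M a) ↔ _
    rw [LinearMap.mem_range]
    rfl
  -- step a
  obtain ⟨S, hS⟩ := (IsNoetherian.noetherian p : p.FG)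
  have hSp : ∀ r ∈ S, r ∈ p := fun r hr => hS ▸ Submodule.subset_span hr
  obtain ⟨e₁, he₁, he₁S⟩ := exists_notMem_forall_mem p S (fun r => N.colon {r • m}) (by
    intro r hr
    obtain ⟨t, htp, n, hn⟩ := hdiv r (hSp r hr)
    refine ⟨t, ?_, htp⟩
    rw [Submodule.mem_colon_singleton, hN]
    exact ⟨n, hn.symm⟩)
  have hp₁ : p ≤ N.colon {e₁ • m} := by
    rw [← hS]
    apply Submodule.span_le.mpr
    intro r hr
    have := he₁S r hr
    rw [Submodule.mem_colon_singleton] at this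
    change r ∈ N.colon {e₁ • m}
    rw [Submodule.mem_colon_singleton, smul_comm]
    exact this
  have hex : ∀ r : p, ∃ n : M, (r : A) • e₁ • m = a • n := by
    intro r
    have := hp₁ r.2
    rw [Submodule.mem_colon_singleton, hN] at this
    obtain ⟨n, hn⟩ := this
    exact ⟨n, hn.symm⟩
  choose n₁ hn₁ using hex
  -- step b
  let K : Submodule A M := LinearMap.ker (LinearMap.lsmul A M a)
  have hK : ∀ k : M, k ∈ K ↔ a • k = 0 := fun k => by
    change k ∈ LinearMap.ker (LinearMap.lsmul A M a) ↔ _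
    rw [LinearMap.mem_ker]
    rfl
  obtain ⟨SK, hSK⟩ := (IsNoetherian.noetherian K : K.FG)
  have hSKK : ∀ k ∈ SK, k ∈ K := fun k hk => hSK ▸ Submodule.subset_span hk
  obtain ⟨e₂, he₂, he₂S⟩ := exists_notMem_forall_mem p SK
    (fun k => (⊥ : Submodule A M).colon {k}) (by
    intro k hk
    obtain ⟨t, htp, ht⟩ := hreg k ((hK k).mp (hSKK k hk))
    refine ⟨t, ?_, htp⟩
    rw [Submodule.mem_colon_singleton, Submodule.mem_bot]
    exact ht)
  have hK₂ : ∀ k ∈ K, e₂ • k = 0 := by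
    have : K ≤ LinearMap.ker (LinearMap.lsmul A M e₂) := by
      rw [← hSK]
      apply Submodule.span_le.mpr
      intro k hk
      have := he₂S k hk
      rw [Submodule.mem_colon_singleton, Submodule.mem_bot] at this
      change k ∈ LinearMap.ker (LinearMap.lsmul A M e₂)
      rw [LinearMap.mem_ker]
      exact this
    intro k hk
    have := this hk
    rw [LinearMap.mem_ker] at this
    exact this
  refine ⟨e₂ * e₁, fun h => ?_, fun r => e₂ • n₁ r, ?_, ?_⟩
  · rcases hp.mem_or_mem h with h | h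
    · exact he₂ h
    · exact he₁ h
  · intro r
    rw [mul_smul, smul_comm (r : A) e₂, hn₁, smul_comm]
  · intro r r'
    have hk : (r' : A) • n₁ r - (r : A) • n₁ r' ∈ K := by
      rw [hK, smul_sub, smul_comm a, ← hn₁, smul_comm a, ← hn₁, smul_comm, sub_self]
    have := hK₂ _ hk
    rw [smul_sub, sub_eq_zero] at this
    rw [smul_comm, this, smul_comm]

variable {X : Scheme.{u}}

/-- gluing local quotients: if `r i • m = a • n i` and the `n i / r i` are compatible, there is a section `σ`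
over `V` (covered by the `D(r i)`) with `a • σ = m`. -/
theorem exists_glue_div (F : X.Modules) {V W : X.Opens} (hVW : V ≤ W)
    (a : Γ(X, W)) (m : Γ(F, W)) {ι : Type*} (r : ι → Γ(X, W)) (n : ι → Γ(F, W))
    (h1 : ∀ i, r i • m = a • n i) (h2 : ∀ i j, r j • n i = r i • n j)
    (hV : ∀ i, X.basicOpen (r i) ≤ V) (hcov : V ≤ ⨆ i, X.basicOpen (r i)) :
    ∃ σ : Γ(F, V), X.presheaf.map (homOfLE hVW).op a • σ = F.presheaf.map (homOfLE hVW).op m := by
  let Dr : ι → X.Opens := fun i => X.basicOpen (r i)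
  have hDW : ∀ i, Dr i ≤ W := fun i => X.basicOpen_le (r i)
  have hu : ∀ i, IsUnit (X.presheaf.map (homOfLE (hDW i)).op (r i)) := fun i =>
    X.toRingedSpace.isUnit_res_basicOpen (r i)
  -- restriction of units
  have hu' : ∀ (i : ι) (E : X.Opens) (hE : E ≤ Dr i),
      IsUnit (X.presheaf.map (homOfLE (hE.trans (hDW i))).op (r i)) := by
    intro i E hE
    have : X.presheaf.map (homOfLE (hE.trans (hDW i))).op (r i) =
        X.presheaf.map (homOfLE hE).op (X.presheaf.map (homOfLE (hDW i)).op (r i)) := by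
      rw [← ConcreteCategory.comp_apply, ← Functor.map_comp]
      rfl
    rw [this]
    exact (hu i).map _
  let sf : ∀ i, Γ(F, Dr i) := fun i =>
    ((hu i).unit⁻¹ : (Γ(X, Dr i))ˣ) • F.presheaf.map (homOfLE (hDW i)).op (n i)
  have hsf : ∀ i, X.presheaf.map (homOfLE (hDW i)).op (r i) • sf i =
      F.presheaf.map (homOfLE (hDW i)).op (n i) := by
    intro i
    change X.presheaf.map (homOfLE (hDW i)).op (r i) •
      (((hu i).unit⁻¹ : (Γ(X, Dr i))ˣ) • F.presheaf.map (homOfLE (hDW i)).op (n i)) = _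
    rw [Units.smul_def, smul_smul, IsUnit.mul_val_inv, one_smul]
  -- key: restriction of sf i to E ≤ Dr i satisfies r|E • (sf i)|E = n i |E
  have hsfE : ∀ (i : ι) (E : X.Opens) (hE : E ≤ Dr i),
      X.presheaf.map (homOfLE (hE.trans (hDW i))).op (r i) • F.presheaf.map (homOfLE hE).op (sf i) =
        F.presheaf.map (homOfLE (hE.trans (hDW i))).op (n i) := by
    intro i E hE
    have e1 : X.presheaf.map (homOfLE (hE.trans (hDW i))).op (r i) =
        X.presheaf.map (homOfLE hE).op (X.presheaf.map (homOfLE (hDW i)).op (r i)) := by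
      rw [← ConcreteCategory.comp_apply, ← Functor.map_comp]
      rfl
    have e2 : F.presheaf.map (homOfLE (hE.trans (hDW i))).op (n i) =
        F.presheaf.map (homOfLE hE).op (F.presheaf.map (homOfLE (hDW i)).op (n i)) := by
      rw [← ConcreteCategory.comp_apply, ← Functor.map_comp]
      rfl
    rw [e1, e2, ← Scheme.Modules.map_smul, hsf]
  let F₁ : TopCat.Sheaf Ab.{u} X.toTopCat := ⟨F.presheaf, F.isSheaf⟩
  have hcompat : TopCat.Presheaf.IsCompatible F₁.1 Dr sf := by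
    intro i j
    have hEi : Dr i ⊓ Dr j ≤ Dr i := inf_le_left
    have hEj : Dr i ⊓ Dr j ≤ Dr j := inf_le_right
    change F.presheaf.map (homOfLE hEi).op (sf i) = F.presheaf.map (homOfLE hEj).op (sf j)
    have hi := hsfE i _ hEi
    have hj := hsfE j _ hEj
    have hui := hu' i _ hEi
    have huj := hu' j _ hEj
    apply hui.smul_left_cancel.mp
    apply huj.smul_left_cancel.mp
    rw [hi, smul_comm, hj]
    have hW' : Dr i ⊓ Dr j ≤ W := hEi.trans (hDW i)
    have := congrArg (F.presheaf.map (homOfLE hW').op) (h2 i j)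
    rw [Scheme.Modules.map_smul, Scheme.Modules.map_smul] at this
    exact this
  obtain ⟨σ, hσ, -⟩ : ∃! s : Γ(F, V), ∀ i, F.presheaf.map (homOfLE (hV i)).op s = sf i :=
    F₁.existsUnique_gluing' Dr V (fun i => homOfLE (hV i)) hcov sf hcompat
  refine ⟨σ, ?_⟩
  refine F₁.eq_of_locally_eq' Dr V (fun i => homOfLE (hV i)) hcov
    (X.presheaf.map (homOfLE hVW).op a • σ : Γ(F, V)) (F.presheaf.map (homOfLE hVW).op m) ?_
  intro i
  change F.presheaf.map (homOfLE (hV i)).op (X.presheaf.map (homOfLE hVW).op a • σ) =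
    F.presheaf.map (homOfLE (hV i)).op (F.presheaf.map (homOfLE hVW).op m)
  have hσi : F.presheaf.map (homOfLE (hV i)).op σ = sf i := hσ i
  rw [Scheme.Modules.map_smul, hσi]
  apply (hu i).smul_left_cancel.mp
  rw [smul_comm, hsf]
  have e1 : X.presheaf.map (homOfLE (hV i)).op (X.presheaf.map (homOfLE hVW).op a) =
      X.presheaf.map (homOfLE (hDW i)).op a := by
    rw [← ConcreteCategory.comp_apply, ← Functor.map_comp]
    rfl
  have e2 : F.presheaf.map (homOfLE (hV i)).op (F.presheaf.map (homOfLE hVW).op m) =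
      F.presheaf.map (homOfLE (hDW i)).op m := by
    rw [← ConcreteCategory.comp_apply, ← Functor.map_comp]
    rfl
  rw [e1, e2, ← Scheme.Modules.map_smul, ← Scheme.Modules.map_smul, h1]

theorem exists_mul_germ_eq {W : X.Opens} (hW : IsAffineOpen W) (x : X) (hxW : x ∈ W)
    (c : X.presheaf.stalk x) :
    ∃ (a s : Γ(X, W)), x ∈ X.basicOpen s ∧
      c * X.presheaf.germ W x hxW s = X.presheaf.germ W x hxW a := by
  letI : Algebra Γ(X, W) (X.presheaf.stalk x) :=
    TopCat.Presheaf.algebra_section_stalk X.presheaf (⟨x, hxW⟩ : W)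
  haveI : IsLocalization.AtPrime (X.presheaf.stalk x) (hW.primeIdealOf ⟨x, hxW⟩).asIdeal :=
    hW.isLocalization_stalk ⟨x, hxW⟩
  obtain ⟨⟨a, s⟩, has⟩ := IsLocalization.surj (hW.primeIdealOf ⟨x, hxW⟩).asIdeal.primeCompl c
  refine ⟨a, s.1, ?_, has⟩
  rw [Groth.Agent.Lib.Helper2.mem_basicOpen_iff_notMem_primeIdealOf hW x hxW]
  exact s.2

variable [IsLocallyNoetherian X] (Z : Set X) (F : X.Modules)

/-- if `x ∈ Z`, `depth F_x ≥ 1` and `F_x → (j_*(F|_{X ∖ closure x}))_x` is bijective, then `depth F_x ≥ 2`. -/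
theorem depth_ge_two_of_υx_bijective [F.IsQuasicoherent]
    [SheafOfModules.IsFiniteType (R := X.ringCatSheaf) F]
    (hZ : StableUnderSpecialization Z) (x : X) (hxZ : x ∈ Z)
    (h1 : (1 : ℕ∞) ≤ LocCoh.depth (X.presheaf.stalk x) (F.presheaf.stalk x))
    (hb : Function.Bijective (υx Z F x (clPt Z hZ x hxZ))) :
    (2 : ℕ∞) ≤ LocCoh.depth (X.presheaf.stalk x) (F.presheaf.stalk x) := by
  by_contra h2
  haveI : Module.Finite (X.presheaf.stalk x) (F.presheaf.stalk x) :=
    Groth.Agent.Lib.Helper2.FibreCrit.finite_stalk F x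
  obtain ⟨a₀, -, ha₀reg, μ₀, hμ₀, hmμ₀⟩ := exists_of_depth_eq_one h1 h2
  obtain ⟨W, hW, hxW⟩ := exists_affine_mem x
  haveI : IsNoetherianRing Γ(X, W) := IsLocallyNoetherian.component_noetherian ⟨W, hW⟩
  haveI : Module.Finite Γ(X, W) Γ(F, W) :=
    Groth.Agent.Lib.Helper23.FinType.finite_of_isFiniteType F hW
  have hunit : ∀ s : Γ(X, W), x ∈ X.basicOpen s → IsUnit (X.presheaf.germ W x hxW s) :=
    fun s hs => (Scheme.mem_basicOpen _ _ _ hxW).1 hs
  have hmemp : ∀ s : Γ(X, W), x ∈ X.basicOpen s ↔ s ∉ (hW.primeIdealOf ⟨x, hxW⟩).asIdeal :=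
    Groth.Agent.Lib.Helper2.mem_basicOpen_iff_notMem_primeIdealOf hW x hxW
  obtain ⟨a, s, hs, has⟩ := exists_mul_germ_eq hW x hxW a₀
  obtain ⟨s', m, hs', hsm⟩ := exists_smul_eq_germ hW F x hxW μ₀
  have hsu := hunit s hs
  have hs'u := hunit s' hs'
  have hareg : IsSMulRegular (F.presheaf.stalk x) (X.presheaf.germ W x hxW a) := by
    rw [← has]
    exact ha₀reg.mul (hsu.isSMulRegular _)
  have hi : ∀ f : F.presheaf.stalk x,
      X.presheaf.germ W x hxW a • f ≠ F.presheaf.germ W x hxW m := by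
    intro f hf
    obtain ⟨v, hv⟩ := hs'u.exists_left_inv
    apply hμ₀ (v • X.presheaf.germ W x hxW s • f)
    rw [smul_comm a₀ v, ← mul_smul a₀, has, hf, ← hsm, smul_smul, hv, one_smul]
  have hii : ∀ c ∈ IsLocalRing.maximalIdeal (X.presheaf.stalk x), ∃ f : F.presheaf.stalk x,
      c • F.presheaf.germ W x hxW m = X.presheaf.germ W x hxW a • f := by
    intro c hc
    obtain ⟨f₀, hf₀⟩ := hmμ₀ c hc
    obtain ⟨w, hw⟩ := hsu.exists_left_inv
    refine ⟨X.presheaf.germ W x hxW s' • w • f₀, ?_⟩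
    rw [← hsm, ← has, smul_comm c, hf₀, smul_smul, smul_smul, smul_smul]
    congr 1
    rw [show a₀ * X.presheaf.germ W x hxW s * X.presheaf.germ W x hxW s' * w =
      X.presheaf.germ W x hxW s' * a₀ * (w * X.presheaf.germ W x hxW s) by ring, hw, mul_one]
  have hdiv : ∀ r ∈ (hW.primeIdealOf ⟨x, hxW⟩).asIdeal, ∃ t,
      t ∉ (hW.primeIdealOf ⟨x, hxW⟩).asIdeal ∧ ∃ n : Γ(F, W), t • r • m = a • n := by
    intro r hr
    have hrm := (germ_mem_maximalIdeal_iff hW x hxW r).mpr hr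
    obtain ⟨f, hf⟩ := hii _ hrm
    obtain ⟨s₁, n', hs₁, hs₁n⟩ := exists_smul_eq_germ hW F x hxW f
    have h0 : F.presheaf.germ W x hxW (s₁ • r • m - a • n') = 0 := by
      rw [map_sub, germ_smul, germ_smul, germ_smul, hf, ← hs₁n, smul_comm, sub_self]
    obtain ⟨e', he', he'0⟩ := exists_smul_eq_zero_of_germ_eq_zero hW F x hxW _ h0
    refine ⟨e' * s₁, fun h => ?_, e' • n', ?_⟩
    · rcases (hW.primeIdealOf ⟨x, hxW⟩).isPrime.mem_or_mem h with h | h
      · exact (hmemp e').mp he' h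
      · exact (hmemp s₁).mp hs₁ h
    · rw [smul_sub, sub_eq_zero] at he'0
      rw [mul_smul, he'0, smul_comm]
  have hreg : ∀ k : Γ(F, W), a • k = 0 → ∃ t,
      t ∉ (hW.primeIdealOf ⟨x, hxW⟩).asIdeal ∧ t • k = 0 := by
    intro k hk
    have h0 : F.presheaf.germ W x hxW k = 0 := by
      apply hareg.right_eq_zero_of_smul
      rw [← germ_smul, hk, map_zero]
    obtain ⟨t, ht, htk⟩ := exists_smul_eq_zero_of_germ_eq_zero hW F x hxW k h0
    exact ⟨t, (hmemp t).mp ht, htk⟩
  obtain ⟨e, he, n, hn1, hn2⟩ :=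
    exists_good_data (hW.primeIdealOf ⟨x, hxW⟩).asIdeal a m hdiv hreg
  have heu : IsUnit (X.presheaf.germ W x hxW e) := hunit e ((hmemp e).mpr he)
  -- gluing in `G = j_*(F|_{X ∖ closure x})`
  set T := clPt Z hZ x hxZ with hT
  have hVW : T.U.ι ''ᵁ T.U.ι ⁻¹ᵁ W ≤ W := T.U.ι.image_preimage_le W
  have hVeq : T.U.ι ''ᵁ T.U.ι ⁻¹ᵁ W = T.U ⊓ W := ZClos.ι_image_preimage T.U W
  have hDV : ∀ r : (hW.primeIdealOf ⟨x, hxW⟩).asIdeal,
      X.basicOpen (r : Γ(X, W)) ≤ T.U.ι ''ᵁ T.U.ι ⁻¹ᵁ W := by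
    intro r y hy
    rw [hVeq]
    refine ⟨?_, X.basicOpen_le _ hy⟩
    intro hyT
    have hspec : x ⤳ y := specializes_iff_mem_closure.mpr hyT
    have hxr : x ∈ X.basicOpen (r : Γ(X, W)) := hspec.mem_open (X.basicOpen _).isOpen hy
    exact (hmemp r).mp hxr r.2
  have hcov : T.U.ι ''ᵁ T.U.ι ⁻¹ᵁ W ≤
      ⨆ r : (hW.primeIdealOf ⟨x, hxW⟩).asIdeal, X.basicOpen (r : Γ(X, W)) := by
    intro y hy
    rw [hVeq] at hy
    obtain ⟨f, hfle, hyf⟩ := hW.exists_basicOpen_le ⟨y, hy.1⟩ hy.2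
    have hfp : f ∈ (hW.primeIdealOf ⟨x, hxW⟩).asIdeal := by
      by_contra hfp
      have hxf : x ∈ X.basicOpen f := (hmemp f).mpr hfp
      exact hfle hxf (subset_closure rfl)
    exact Opens.mem_iSup.mpr ⟨⟨f, hfp⟩, hyf⟩
  obtain ⟨σG, hσG⟩ := exists_glue_div ((D Z F).obj T) hVW a
    ((ZClos.toDiagram Z F T).app W (e • m))
    (fun r : (hW.primeIdealOf ⟨x, hxW⟩).asIdeal => (r : Γ(X, W)))
    (fun r => (ZClos.toDiagram Z F T).app W (n r))
    (fun r => by rw [← app_smul, ← app_smul, hn1])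
    (fun r r' => by rw [← app_smul, ← app_smul, hn2]) hDV hcov
  have hbij := bijective_D_obj_map Z F (le_refl T) W
  obtain ⟨σ', hσ'⟩ := hbij.2 σG
  have hσ'' : a • σ' = (ZClos.toDiagram Z F T).app W (e • m) := by
    apply hbij.1
    rw [Scheme.Modules.map_smul, hσ']
    exact hσG
  obtain ⟨f, hf⟩ : ∃ f : F.presheaf.stalk x,
      υx Z F x T f = ((D Z F).obj T).presheaf.germ W x hxW σ' :=
    hb.2 (((D Z F).obj T).presheaf.germ W x hxW σ')
  have h3 : υx Z F x T (X.presheaf.germ W x hxW a • f) =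
      υx Z F x T (F.presheaf.germ W x hxW (e • m)) := by
    refine (υx_smul Z F x T _ f).trans ?_
    have hf' : (show ((D Z F).obj T).presheaf.stalk x from υx Z F x T f) =
      ((D Z F).obj T).presheaf.germ W x hxW σ' := hf
    rw [hf', ← germ_smul, hσ'']
    exact (stalkF_map_germ (ZClos.toDiagram Z F T) x hxW (e • m)).symm
  have h4 := hb.1 h3
  rw [germ_smul] at h4
  obtain ⟨v, hv⟩ := heu.exists_left_inv
  apply hi (v • f)
  rw [smul_comm, h4, smul_smul, hv, one_smul]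


/-- S5856. -/
theorem isZClosedAt_iff_depth_ge_two [F.IsQuasicoherent]
    [SheafOfModules.IsFiniteType (R := X.ringCatSheaf) F] (hZ : StableUnderSpecialization Z) (x : X) :
    ZClos.IsZClosedAt Z F x ↔ ∀ x' : X, x' ⤳ x → x' ∈ Z →
      (2 : ℕ∞) ≤ LocCoh.depth (X.presheaf.stalk x') (F.presheaf.stalk x') := by
  constructor
  · intro hc x' hx' hx'Z
    have h1 := depth_ge_one_of_isZPureAt Z F hZ x hc.1 x' hx' hx'Z
    have hb : Function.Bijective (υx Z F x' (clPt Z hZ x' hx'Z)) :=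
      bijective_ψ_of_specializes (ZClos.toDiagram Z F _) x x' hx'
        (υx_bijective_of_isZClosedAt Z F hZ x hc _)
    exact depth_ge_two_of_υx_bijective Z F hZ x' hx'Z h1 hb
  · exact isZClosedAt_of_depth_ge_two Z F x

end Groth.Agent.Lib.Helper20.ZClosLib
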