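import Mathlib
import Groth.Agent.Lib.Helper20ZClos10
import Groth.Agent.Lib.Helper23FinType

/-!
# Z-closure, part 11 (helper20): coherence of `j_*(F|_{X∖T})` from coherence of `H⁰_{X/Z}(F)` (S5867)
-/

set_option autoImplicit false
set_option linter.style.haveILetI false
set_option linter.unusedSectionVars false
universe u v
open CategoryTheory CategoryTheory.Limits AlgebraicGeometry TopologicalSpace Opposite

namespace Groth.Agent.Lib.Helper20.ZClosLib

open Groth.Agent.Lib.Helper2.ModExact Groth.Agent.Lib.Helper2.QCoh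

variable {X : Scheme.{u}} [IsLocallyNoetherian X] (Z : Set X) (F : X.Modules)

/-- if no associated point of the coherent module `F` lies in `Z`, then `F` is `Z`-pure at every point. -/
theorem isZPureAt_of_ass_disjoint [F.IsQuasicoherent]
    [SheafOfModules.IsFiniteType (R := X.ringCatSheaf) F]
    (hass : ∀ x ∈ AssSch.Ass F, x ∉ Z) (x : X) : ZClos.IsZPureAt Z F x := by
  apply isZPureAt_of_depth_ge_one
  intro x' _ hx'Z
  by_contra hlt
  rw [not_one_le_iff, depth_eq_zero_iff_isAssPoint] at hlt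
  exact hass x' hlt hx'Z

/-- if `F` is `Z`-pure at every point, the colimit injections `j_*(F|_{X∖T}) ⟶ H⁰_{X/Z}(F)` are monomorphisms. -/
theorem mono_ιH_of_isZPureAt [F.IsQuasicoherent] (hZ : StableUnderSpecialization Z)
    (hp : ∀ x, ZClos.IsZPureAt Z F x) (T : ZClos.Cl Z) : Mono (ιH Z F T) := by
  rw [mono_iff_stalk_injective]
  intro x w w' h
  have h' : ιx Z F x T w = ιx Z F x T w' := h
  obtain ⟨T'', h1, h2, h3⟩ := (rep_eq_iff Z F x w w').mp h'
  exact τx_injective_of_isZPureAt Z F hZ x (hp x) h1 h3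

/-- S5867. -/
theorem isFiniteType_D_obj_of_isCoh_H0 [F.IsQuasicoherent]
    [SheafOfModules.IsFiniteType (R := X.ringCatSheaf) F] (hZ : StableUnderSpecialization Z)
    (hass : ∀ x ∈ AssSch.Ass F, x ∉ Z)
    [((ZClos.H0 Z).obj F).IsQuasicoherent]
    [SheafOfModules.IsFiniteType (R := X.ringCatSheaf) ((ZClos.H0 Z).obj F)] (T : ZClos.Cl Z) :
    SheafOfModules.IsFiniteType (R := X.ringCatSheaf) ((D Z F).obj T) := by
  haveI := mono_ιH_of_isZPureAt Z F hZ (isZPureAt_of_ass_disjoint Z F hass) T
  exact Groth.Agent.Lib.Helper23.FinType.isFiniteType_of_mono (ιH Z F T)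

end Groth.Agent.Lib.Helper20.ZClosLib
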