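import Mathlib
import Groth.Agent.Lib.Helper20ZClos11

/-!
# Z-closure, part 12 (helper20): `Z^(n)` is stable under specialization; `(S_2)` for `H⁰_{X/Z^(2)}(F)` (S5860)
-/

set_option autoImplicit false
set_option linter.style.haveILetI false
set_option linter.unusedSectionVars false
universe u v
open CategoryTheory CategoryTheory.Limits AlgebraicGeometry TopologicalSpace Opposite

namespace Groth.Agent.Lib.Helper20.ZClosLib

open Groth.Agent.Lib.Helper2.ModExact Groth.Agent.Lib.Helper2.QCoh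

variable {X : Scheme.{u}}

theorem stableUnderSpecialization_dimGe (n : ℕ) : StableUnderSpecialization (ZClos.dimGe X n) := by
  intro x y hxy hx
  change (n : WithBot ℕ∞) ≤ ringKrullDim (X.presheaf.stalk y)
  have hx' : (n : WithBot ℕ∞) ≤ ringKrullDim (X.presheaf.stalk x) := hx
  rw [ringKrullDim_stalk_eq_coheight] at hx' ⊢
  have hle : y ≤ x := Scheme.le_iff_specializes.mpr hxy
  exact hx'.trans (WithBot.coe_le_coe.mpr (Order.coheight_anti hle))

theorem le_one_of_not_two_le (d : WithBot ℕ∞) (h : ¬ (2 : WithBot ℕ∞) ≤ d) : d ≤ 1 := by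
  induction d with
  | bot => exact bot_le
  | coe c =>
    induction c with
    | top => exact absurd le_top h
    | coe k =>
      have : ¬ (2 : ℕ) ≤ k := fun hk =>
        h (WithBot.coe_le_coe.2 (by exact_mod_cast hk : (2 : ℕ∞) ≤ (k : ℕ∞)))
      have hk : k ≤ 1 := by omega
      exact WithBot.coe_le_coe.2 (by exact_mod_cast hk : (k : ℕ∞) ≤ 1)

theorem le_zero_of_not_two_le_of_ne_one (d : WithBot ℕ∞) (h : ¬ (2 : WithBot ℕ∞) ≤ d) (h1 : d ≠ 1) :
    d ≤ 0 := by
  induction d with
  | bot => exact bot_le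
  | coe c =>
    induction c with
    | top => exact absurd le_top h
    | coe k =>
      have : ¬ (2 : ℕ) ≤ k := fun hk =>
        h (WithBot.coe_le_coe.2 (by exact_mod_cast hk : (2 : ℕ∞) ≤ (k : ℕ∞)))
      have h1' : k ≠ 1 := fun hk => h1 (by subst hk; rfl)
      have hk : k ≤ 0 := by omega
      exact WithBot.coe_le_coe.2 (by exact_mod_cast hk : (k : ℕ∞) ≤ 0)

variable [IsLocallyNoetherian X] (Z : Set X) (F : X.Modules)

/-- at a point outside `Z`, `ρ` gives a linear equivalence on stalks. -/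
noncomputable def rhoEquivOfNotMem (x : X) (hx : x ∉ Z) :
    F.presheaf.stalk x ≃ₗ[X.presheaf.stalk x] ((ZClos.H0 Z).obj F).presheaf.stalk x :=
  LinearEquiv.ofBijective (Groth.Agent.S8890.ψₗ (ZClos.rhoApp Z F) x) (isZClosedAt_of_notMem Z F x hx)

/-- S5860, in terms of a general `Z ⊆ Z^(2)`-type hypothesis. -/
theorem s2_H0_dimGe [F.IsQuasicoherent] [SheafOfModules.IsFiniteType (R := X.ringCatSheaf) F]
    (hass : ∀ x ∈ AssSch.Ass F, ringKrullDim (X.presheaf.stalk x) ≠ 1)
    [((ZClos.H0 (ZClos.dimGe X 2)).obj F).IsQuasicoherent]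
    [SheafOfModules.IsFiniteType (R := X.ringCatSheaf) ((ZClos.H0 (ZClos.dimGe X 2)).obj F)] (x : X) :
    min (2 : WithBot ℕ∞) (Module.supportDim (X.presheaf.stalk x)
        (((ZClos.H0 (ZClos.dimGe X 2)).obj F).presheaf.stalk x)) ≤
      ((LocCoh.depth (X.presheaf.stalk x)
        (((ZClos.H0 (ZClos.dimGe X 2)).obj F).presheaf.stalk x) : ℕ∞) : WithBot ℕ∞) := by
  have hZ := stableUnderSpecialization_dimGe (X := X) 2
  by_cases hx : x ∈ ZClos.dimGe X 2
  · have hcl : ZClos.IsZClosed (ZClos.dimGe X 2) ((ZClos.H0 (ZClos.dimGe X 2)).obj F) :=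
      isZClosed_H0 _ F
    have hclx : ZClos.IsZClosedAt (ZClos.dimGe X 2) ((ZClos.H0 (ZClos.dimGe X 2)).obj F) x := by
      haveI : IsIso (ZClos.rhoApp (ZClos.dimGe X 2) ((ZClos.H0 (ZClos.dimGe X 2)).obj F)) := hcl
      exact ConcreteCategory.bijective_of_isIso
        ((stalkF x).map (ZClos.rhoApp (ZClos.dimGe X 2) ((ZClos.H0 (ZClos.dimGe X 2)).obj F)))
    have h2 := (isZClosedAt_iff_depth_ge_two _ _ hZ x).mp hclx x specializes_rfl hx
    exact (min_le_left _ _).trans (WithBot.coe_le_coe.2 h2)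
  · have e := rhoEquivOfNotMem (ZClos.dimGe X 2) F x hx
    have hd : LocCoh.depth (X.presheaf.stalk x)
        (((ZClos.H0 (ZClos.dimGe X 2)).obj F).presheaf.stalk x) =
        LocCoh.depth (X.presheaf.stalk x) (F.presheaf.stalk x) :=
      (Groth.Agent.Lib.Helper28.idealDepth_congr e _).symm
    rw [hd, ← Module.supportDim_eq_of_equiv e]
    have hdim : ¬ (2 : WithBot ℕ∞) ≤ ringKrullDim (X.presheaf.stalk x) := hx
    have hsd := Module.supportDim_le_ringKrullDim (R := X.presheaf.stalk x) (M := F.presheaf.stalk x)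
    by_cases hassx : Curv2.IsAssPoint F x
    · have h0 := le_zero_of_not_two_le_of_ne_one _ hdim (hass x hassx)
      exact (min_le_right _ _).trans ((hsd.trans h0).trans (WithBot.coe_le_coe.2 zero_le))
    · have h1 : (1 : ℕ∞) ≤ LocCoh.depth (X.presheaf.stalk x) (F.presheaf.stalk x) := by
        by_contra hlt
        rw [not_one_le_iff, depth_eq_zero_iff_isAssPoint] at hlt
        exact hassx hlt
      have h1' := le_one_of_not_two_le _ hdim
      exact (min_le_right _ _).trans ((hsd.trans h1').trans (WithBot.coe_le_coe.2 h1))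

end Groth.Agent.Lib.Helper20.ZClosLib
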