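import Mathlib
import Groth.Agent.Lib.Helper20ZClos12
import Groth.Agent.Lib.Helper28DepthAss

/-!
# Z-closure, part 13 (helper20): codimension of points of `Z` in closures of associated points (S5858)
-/

set_option autoImplicit false
set_option linter.style.haveILetI false
set_option linter.unusedSectionVars false
universe u v
open CategoryTheory CategoryTheory.Limits AlgebraicGeometry TopologicalSpace Opposite

namespace Groth.Agent.Lib.Helper20.ZClosLib

open Groth.Agent.Lib.Helper2.ModExact Groth.Agent.Lib.Helper2.QCoh Groth.Agent.Lib.Helper2.FlatOver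

variable {X : Scheme.{u}} [IsLocallyNoetherian X]

/-- the prime of `O_{X,y}` of a generization `x` which is an associated point of `H` is an associated prime of `H_y`. -/
theorem comap_stalkSpecializes_mem_associatedPrimes (H : X.Modules) [H.IsQuasicoherent] {x y : X}
    (h : x ⤳ y) (hass : Curv2.IsAssPoint H x) :
    (IsLocalRing.maximalIdeal (X.presheaf.stalk x)).comap (X.presheaf.stalkSpecializes h).hom ∈
      associatedPrimes (X.presheaf.stalk y) (H.presheaf.stalk y) := by
  obtain ⟨U, hU, hz⟩ := exists_affine_mem y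
  have hxU : x ∈ U := h.mem_open U.isOpen hz
  haveI : IsNoetherianRing Γ(X, U) := IsLocallyNoetherian.component_noetherian ⟨U, hU⟩
  letI : Algebra Γ(X, U) (X.presheaf.stalk y) :=
    TopCat.Presheaf.algebra_section_stalk X.presheaf (⟨y, hz⟩ : U)
  haveI : IsLocalization.AtPrime (X.presheaf.stalk y) (hU.primeIdealOf ⟨y, hz⟩).asIdeal :=
    hU.isLocalization_stalk ⟨y, hz⟩
  letI := moduleStalkSections H U y hz
  haveI : IsScalarTower Γ(X, U) (X.presheaf.stalk y) (H.presheaf.stalk y) :=
    ⟨fun a r z => by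
      change (X.presheaf.germ U y hz a * r) • z = X.presheaf.germ U y hz a • (r • z)
      rw [mul_smul]⟩
  haveI := isLocalizedModule_germ hU H y hz
  have hloc := Module.associatedPrimes.preimage_comap_associatedPrimes_eq_associatedPrimes_of_isLocalizedModule
    (hU.primeIdealOf ⟨y, hz⟩).asIdeal.primeCompl (X.presheaf.stalk y) (germₗ H U y hz)
  rw [← hloc, Set.mem_preimage]
  have hc : Ideal.comap (algebraMap Γ(X, U) (X.presheaf.stalk y))
      ((IsLocalRing.maximalIdeal (X.presheaf.stalk x)).comap (X.presheaf.stalkSpecializes h).hom) =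
      (hU.primeIdealOf ⟨x, hxU⟩).asIdeal := by
    ext b
    rw [Ideal.mem_comap, Ideal.mem_comap, ← germ_mem_maximalIdeal_iff hU x hxU b]
    have : (X.presheaf.stalkSpecializes h).hom (algebraMap Γ(X, U) (X.presheaf.stalk y) b) =
        X.presheaf.germ U x hxU b := by
      change (X.presheaf.germ U y hz ≫ X.presheaf.stalkSpecializes h) b = _
      rw [TopCat.Presheaf.germ_stalkSpecializes]
    rw [this]
  rw [hc]
  exact (Groth.Agent.S8871.isAssPoint_iff hU H x hxU).mp hass

end Groth.Agent.Lib.Helper20.ZClosLib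

namespace Groth.Agent.Lib.Helper20.ZClosLib

variable {X : Scheme.{u}} [IsLocallyNoetherian X] (Z : Set X) (F : X.Modules)

/-- coherent `H⁰_{X/Z}(F)` has depth `≥ 2` at points of `Z` (S5857). -/
theorem depth_H0_ge_two [F.IsQuasicoherent]
    (hZ : StableUnderSpecialization Z)
    [((ZClos.H0 Z).obj F).IsQuasicoherent]
    [SheafOfModules.IsFiniteType (R := X.ringCatSheaf) ((ZClos.H0 Z).obj F)] (y : X) (hy : y ∈ Z) :
    (2 : ℕ∞) ≤ LocCoh.depth (X.presheaf.stalk y) (((ZClos.H0 Z).obj F).presheaf.stalk y) := by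
  have hcl : ZClos.IsZClosed Z ((ZClos.H0 Z).obj F) := isZClosed_H0 Z F
  have hclx : ZClos.IsZClosedAt Z ((ZClos.H0 Z).obj F) y := by
    haveI : IsIso (ZClos.rhoApp Z ((ZClos.H0 Z).obj F)) := hcl
    exact ConcreteCategory.bijective_of_isIso
      ((stalkF y).map (ZClos.rhoApp Z ((ZClos.H0 Z).obj F)))
  exact (isZClosedAt_iff_depth_ge_two Z _ hZ y).mp hclx y specializes_rfl hy

/-- S5858. -/
theorem two_le_ringKrullDim_quotient_of_isAssPoint [F.IsQuasicoherent]
    (hZ : StableUnderSpecialization Z)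
    [((ZClos.H0 Z).obj F).IsQuasicoherent]
    [SheafOfModules.IsFiniteType (R := X.ringCatSheaf) ((ZClos.H0 Z).obj F)]
    (x : X) (hx : Curv2.IsAssPoint F x) (hxZ : x ∉ Z) (y : X) (hy : y ∈ Z) (h : x ⤳ y) :
    (2 : WithBot ℕ∞) ≤ ringKrullDim (X.presheaf.stalk y ⧸
      (IsLocalRing.maximalIdeal (X.presheaf.stalk x)).comap (X.presheaf.stalkSpecializes h).hom) := by
  have hassH : Curv2.IsAssPoint ((ZClos.H0 Z).obj F) x :=
    (LinearEquiv.isAssociatedPrime_iff (rhoEquivOfNotMem Z F x hxZ)).mp hx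
  have hmem := comap_stalkSpecializes_mem_associatedPrimes ((ZClos.H0 Z).obj F) h hassH
  have hdepth := depth_H0_ge_two Z F hZ y hy
  haveI : Module.Finite (X.presheaf.stalk y) (((ZClos.H0 Z).obj F).presheaf.stalk y) :=
    Groth.Agent.Lib.Helper2.FibreCrit.finite_stalk _ y
  exact Groth.Agent.Lib.Helper28.natCast_le_ringKrullDim_quotient_of_le_depth 2 _ hdepth _ hmem

end Groth.Agent.Lib.Helper20.ZClosLib
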