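import Groth.Agent.Lib.Helper4TildeCompl3
import Groth.Agent.Lib.Helper28DepthSk

/-!
# Serre's conditions `(S_1)`, `(S_2)` for modules with full support vs purity/closedness (helper4)
-/

set_option autoImplicit false
universe u

namespace Groth.Agent.Lib.Helper4.TC

open EGA4
open Groth.Agent.Lib.Helper28

theorem supportDim_eq_ringKrullDim_of_support_eq_univ {R : Type*} [CommRing R] {M : Type*}
    [AddCommGroup M] [Module R M] (h : Module.support R M = Set.univ) :
    Module.supportDim R M = ringKrullDim R := by
  unfold Module.supportDim ringKrullDim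
  rw [h]
  exact Order.krullDim_eq_of_orderIso OrderIso.Set.univ

variable {A : Type u} [CommRing A] {M : Type u} [AddCommGroup M] [Module A M]

theorem supportDim_localization_eq_height_of_support_eq_univ
    (hsupp : Module.support A M = Set.univ) (p : Ideal A) [p.IsPrime] :
    Module.supportDim (Localization.AtPrime p) (LocalizedModule p.primeCompl M) =
      ((p.height : ℕ∞) : WithBot ℕ∞) := by
  rw [supportDim_eq_ringKrullDim_of_support_eq_univ,
    IsLocalization.AtPrime.ringKrullDim_eq_height p (Localization.AtPrime p)]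
  rw [Set.eq_univ_iff_forall]
  intro q'
  rw [mem_support_isLocalizedModule_iff p.primeCompl (Localization.AtPrime p)
    (LocalizedModule.mkLinearMap p.primeCompl M), hsupp]
  trivial

theorem hasSk_iff_of_support_eq_univ (hsupp : Module.support A M = Set.univ) (k : ℕ) :
    LocCoh.HasSk k A M ↔ ∀ p : PrimeSpectrum A,
      min (k : ℕ∞) p.asIdeal.height ≤
        LocCoh.depth (Localization.AtPrime p.asIdeal) (LocalizedModule p.asIdeal.primeCompl M) := by
  unfold LocCoh.HasSk
  constructor
  · intro H p
    have := H p.asIdeal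
    rw [supportDim_localization_eq_height_of_support_eq_univ hsupp] at this
    exact_mod_cast this
  · intro H p hp
    have := H ⟨p, hp⟩
    rw [supportDim_localization_eq_height_of_support_eq_univ hsupp]
    exact_mod_cast this

theorem stableUnderSpecialization_Zge (n : ℕ) : StableUnderSpecialization (Zge A n) := by
  intro x y hxy hx
  rw [← PrimeSpectrum.le_iff_specializes] at hxy
  exact le_trans hx (Ideal.height_mono hxy)

theorem min_one_le_iff (h d : ℕ∞) : min 1 h ≤ d ↔ (1 ≤ h → 1 ≤ d) := by
  by_cases h1 : 1 ≤ h
  · rw [min_eq_left h1]; tauto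
  · have : h = 0 := Order.lt_one_iff.mp (not_le.mp h1)
    subst this
    simp

theorem min_two_le_iff (h d : ℕ∞) : min 2 h ≤ d ↔ (2 ≤ h → 2 ≤ d) ∧ (1 ≤ h → 1 ≤ d) := by
  by_cases h2 : 2 ≤ h
  · rw [min_eq_left h2]
    constructor
    · intro H
      exact ⟨fun _ => H, fun _ => le_trans (by norm_num) H⟩
    · intro H; exact H.1 h2
  · have hlt : h < 2 := not_le.mp h2
    rw [min_eq_right hlt.le]
    have hle : h ≤ 1 := by
      rw [← one_add_one_eq_two, ENat.lt_add_one_iff (by simp)] at hlt
      exact hlt
    by_cases h1 : 1 ≤ h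
    · have : h = 1 := le_antisymm hle h1
      subst this
      simp [h2]
    · have : h = 0 := Order.lt_one_iff.mp (not_le.mp h1)
      subst this
      simp

variable [IsNoetherianRing A] [Module.Finite A M]

theorem hasSk_one_iff_isPureAlong (hsupp : Module.support A M = Set.univ) :
    LocCoh.HasSk 1 A M ↔ IsPureAlong (Zge A 1) M := by
  rw [hasSk_iff_of_support_eq_univ hsupp, isPureAlong_iff_depth (stableUnderSpecialization_Zge 1)]
  refine forall_congr' fun p => ?_
  rw [Nat.cast_one, min_one_le_iff]
  rfl

theorem hasSk_two_iff_isClosedAlong_and_isPureAlong (hsupp : Module.support A M = Set.univ) :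
    LocCoh.HasSk 2 A M ↔ (IsClosedAlong (Zge A 2) M ∧ IsPureAlong (Zge A 1) M) := by
  rw [hasSk_iff_of_support_eq_univ hsupp, isPureAlong_iff_depth (stableUnderSpecialization_Zge 1),
    isClosedAlong_iff_depth (stableUnderSpecialization_Zge 2), ← forall_and]
  refine forall_congr' fun p => ?_
  rw [Nat.cast_ofNat, min_two_le_iff]
  rfl

end Groth.Agent.Lib.Helper4.TC
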