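import Mathlib
import Groth.Agent.Lib.Helper20ZClos13
import Groth.Agent.Lib.Helper20FittSheaf
import Groth.Agent.Lib.Helper4TildeCompl4

/-!
# Z-closure, part 14 (helper20): openness of the bijectivity locus of a map of coherent modules; the `(S_2)` locus (S5861)
-/

set_option autoImplicit false
set_option linter.style.haveILetI false
set_option linter.unusedSectionVars false
universe u v
open CategoryTheory CategoryTheory.Limits AlgebraicGeometry TopologicalSpace Opposite

namespace Groth.Agent.Lib.Helper20.ZClosLib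

open Groth.Agent.Lib.Helper2.ModExact Groth.Agent.Lib.Helper2.QCoh Groth.Agent.Lib.Helper2.FlatOver
open Groth.Agent.S8890 (ψ ψ_germ ψ_smul inj_at surj_at bij_at)

variable {X : Scheme.{u}} [IsLocallyNoetherian X]

/-- the locus where a morphism of coherent modules is bijective on stalks is open. -/
theorem isOpen_setOf_bijective_ψ {F G : X.Modules} (φ : F ⟶ G) [F.IsQuasicoherent]
    [G.IsQuasicoherent] [SheafOfModules.IsFiniteType (R := X.ringCatSheaf) F]
    [SheafOfModules.IsFiniteType (R := X.ringCatSheaf) G] :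
    IsOpen {x : X | Function.Bijective (ψ φ x)} := by
  classical
  rw [isOpen_iff_forall_mem_open]
  intro x hx
  obtain ⟨W, hW, hxW⟩ := exists_affine_mem x
  haveI : IsNoetherianRing Γ(X, W) := IsLocallyNoetherian.component_noetherian ⟨W, hW⟩
  haveI : Module.Finite Γ(X, W) Γ(F, W) :=
    Groth.Agent.Lib.Helper23.FinType.finite_of_isFiniteType F hW
  haveI : Module.Finite Γ(X, W) Γ(G, W) :=
    Groth.Agent.Lib.Helper23.FinType.finite_of_isFiniteType G hW
  let φₗ : Γ(F, W) →ₗ[Γ(X, W)] Γ(G, W) :=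
    { toFun := φ.app W
      map_add' := map_add _
      map_smul' := fun r m => app_smul φ W r m }
  have hφₗ : ∀ m, φₗ m = φ.app W m := fun _ => rfl
  -- kernel
  obtain ⟨SK, hSK⟩ := (IsNoetherian.noetherian (LinearMap.ker φₗ) : (LinearMap.ker φₗ).FG)
  obtain ⟨e₁, he₁, he₁S⟩ := exists_notMem_forall_mem (hW.primeIdealOf ⟨x, hxW⟩).asIdeal SK
    (fun k => (⊥ : Submodule Γ(X, W) Γ(F, W)).colon {k}) (by
    intro k hk
    have hkK : k ∈ LinearMap.ker φₗ := hSK ▸ Submodule.subset_span hk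
    have hk0 : φₗ k = 0 := LinearMap.mem_ker.mp hkK
    obtain ⟨t, htp, ht⟩ := inj_at φ hW x hxW hx.1 k hk0
    refine ⟨t, ?_, htp⟩
    rw [Submodule.mem_colon_singleton, Submodule.mem_bot]
    exact ht)
  have hK₁ : ∀ k : Γ(F, W), φ.app W k = 0 → e₁ • k = 0 := by
    have hle : LinearMap.ker φₗ ≤ LinearMap.ker (LinearMap.lsmul Γ(X, W) Γ(F, W) e₁) := by
      rw [← hSK]
      apply Submodule.span_le.mpr
      intro k hk
      have := he₁S k hk
      rw [Submodule.mem_colon_singleton, Submodule.mem_bot] at this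
      change k ∈ LinearMap.ker (LinearMap.lsmul Γ(X, W) Γ(F, W) e₁)
      rw [LinearMap.mem_ker]
      exact this
    intro k hk
    have hk' : φₗ k = 0 := hk
    have := hle (LinearMap.mem_ker.mpr hk' : k ∈ LinearMap.ker φₗ)
    rw [LinearMap.mem_ker] at this
    exact this
  -- cokernel
  obtain ⟨SN, hSN⟩ := (Module.Finite.fg_top : (⊤ : Submodule Γ(X, W) Γ(G, W)).FG)
  obtain ⟨e₂, he₂, he₂S⟩ := exists_notMem_forall_mem (hW.primeIdealOf ⟨x, hxW⟩).asIdeal SN
    (fun n => (LinearMap.range φₗ).colon {n}) (by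
    intro n _
    obtain ⟨t, m, htp, ht⟩ := surj_at φ hW x hxW hx.2 n
    refine ⟨t, ?_, htp⟩
    rw [Submodule.mem_colon_singleton]
    exact ⟨m, ht⟩)
  have hN₂ : ∀ n : Γ(G, W), ∃ m : Γ(F, W), φ.app W m = e₂ • n := by
    have hle : (⊤ : Submodule Γ(X, W) Γ(G, W)) ≤
        (LinearMap.range φₗ).comap (LinearMap.lsmul Γ(X, W) Γ(G, W) e₂) := by
      rw [← hSN]
      apply Submodule.span_le.mpr
      intro n hn
      have := he₂S n hn
      rw [Submodule.mem_colon_singleton] at this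
      exact this
    intro n
    obtain ⟨m, hm⟩ := hle (Submodule.mem_top : n ∈ ⊤)
    exact ⟨m, hm⟩
  have hmemp : ∀ s : Γ(X, W), x ∈ X.basicOpen s ↔ s ∉ (hW.primeIdealOf ⟨x, hxW⟩).asIdeal :=
    Groth.Agent.Lib.Helper2.mem_basicOpen_iff_notMem_primeIdealOf hW x hxW
  refine ⟨X.basicOpen (e₁ * e₂), ?_, (X.basicOpen _).isOpen, ?_⟩
  swap
  · rw [Scheme.basicOpen_mul]
    exact ⟨(hmemp e₁).mpr he₁, (hmemp e₂).mpr he₂⟩
  intro y hy
  have hyW : y ∈ W := X.basicOpen_le _ hy
  rw [Scheme.basicOpen_mul] at hy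
  have hu₁ : IsUnit (X.presheaf.germ W y hyW e₁) := (Scheme.mem_basicOpen X e₁ y hyW).mp hy.1
  have hu₂ : IsUnit (X.presheaf.germ W y hyW e₂) := (Scheme.mem_basicOpen X e₂ y hyW).mp hy.2
  constructor
  · rw [injective_iff_map_eq_zero]
    intro f hf
    obtain ⟨s, m, hs, hsm⟩ := exists_smul_eq_germ hW F y hyW f
    have hsu : IsUnit (X.presheaf.germ W y hyW s) := (Scheme.mem_basicOpen X s y hyW).mp hs
    have h1 : G.presheaf.germ W y hyW (φ.app W m) = 0 := by
      rw [← ψ_germ, ← hsm, ψ_smul, hf, smul_zero]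
    obtain ⟨t, ht, htm⟩ := exists_smul_eq_zero_of_germ_eq_zero hW G y hyW _ h1
    have htu : IsUnit (X.presheaf.germ W y hyW t) := (Scheme.mem_basicOpen X t y hyW).mp ht
    have h2 : e₁ • t • m = 0 := hK₁ _ (by rw [app_smul, htm])
    have h3 : F.presheaf.germ W y hyW (e₁ • t • m) = 0 := by rw [h2, map_zero]
    rw [germ_smul, germ_smul] at h3
    have h4 := germ_smul_eq_zero_of_isUnit htu (germ_smul_eq_zero_of_isUnit hu₁ h3)
    exact germ_smul_eq_zero_of_isUnit hsu (hsm.trans h4)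
  · intro g
    obtain ⟨s, n, hs, hsn⟩ := exists_smul_eq_germ hW G y hyW g
    have hsu : IsUnit (X.presheaf.germ W y hyW s) := (Scheme.mem_basicOpen X s y hyW).mp hs
    obtain ⟨m, hm⟩ := hN₂ n
    obtain ⟨v, hv⟩ := (hu₂.mul hsu).exists_left_inv
    refine ⟨v • F.presheaf.germ W y hyW m, ?_⟩
    rw [ψ_smul, ψ_germ, hm, germ_smul, ← hsn, smul_smul, smul_smul, mul_assoc, hv, one_smul]

/-- if all stalks of the coherent module `F` are nonzero, the support of every stalk is everything. -/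
theorem support_stalk_eq_univ (F : X.Modules) [F.IsQuasicoherent]
    [SheafOfModules.IsFiniteType (R := X.ringCatSheaf) F]
    (hsupp : ∀ x : X, Nontrivial (F.presheaf.stalk x)) (z : X) :
    Module.support (X.presheaf.stalk z) (F.presheaf.stalk z) = Set.univ := by
  obtain ⟨U, hU, hz⟩ := exists_affine_mem z
  haveI : Module.Finite Γ(X, U) Γ(F, U) :=
    Groth.Agent.Lib.Helper23.FinType.finite_of_isFiniteType F hU
  rw [Set.eq_univ_iff_forall]
  intro q'
  rw [Groth.Agent.S8871.mem_support_stalk_iff hU F z hz]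
  set q := PrimeSpectrum.comap (X.presheaf.germ U z hz).hom q' with hq
  by_contra hnot
  have h1 := (Groth.Agent.Lib.Helper20.FittSheaf.subsingleton_stalk_iff_notMem_support F hU
    (hU.fromSpec q) (fromSpec_mem hU q)).mpr (by rw [primeIdealOf_fromSpec]; exact hnot)
  exact not_subsingleton_iff_nontrivial.mpr (hsupp (hU.fromSpec q)) h1

variable (F : X.Modules)

/-- S5861: the `(S_2)`-locus is the locus where `ρ` is bijective. -/
theorem s2_locus_eq [F.IsQuasicoherent] [SheafOfModules.IsFiniteType (R := X.ringCatSheaf) F]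
    (hsupp : ∀ x : X, Nontrivial (F.presheaf.stalk x))
    (hass : ∀ x ∈ AssSch.Ass F, ringKrullDim (X.presheaf.stalk x) ≠ 1)
    [((ZClos.H0 (ZClos.dimGe X 2)).obj F).IsQuasicoherent]
    [SheafOfModules.IsFiniteType (R := X.ringCatSheaf) ((ZClos.H0 (ZClos.dimGe X 2)).obj F)] :
    {x : X | ∀ x' : X, x' ⤳ x →
        min (2 : WithBot ℕ∞) (Module.supportDim (X.presheaf.stalk x') (F.presheaf.stalk x')) ≤
          ((LocCoh.depth (X.presheaf.stalk x') (F.presheaf.stalk x') : ℕ∞) : WithBot ℕ∞)} =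
      {x : X | Function.Bijective (ψ (ZClos.rhoApp (ZClos.dimGe X 2) F) x)} := by
  have hZ := stableUnderSpecialization_dimGe (X := X) 2
  ext x
  constructor
  · intro hx
    apply isZClosedAt_of_depth_ge_two
    intro x' hx' hx'Z
    have h1 := hx x' hx'
    rw [Groth.Agent.Lib.Helper4.TC.supportDim_eq_ringKrullDim_of_support_eq_univ
      (support_stalk_eq_univ F hsupp x')] at h1
    have h2 : (2 : WithBot ℕ∞) ≤ ringKrullDim (X.presheaf.stalk x') := hx'Z
    rw [min_eq_left h2] at h1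
    exact WithBot.coe_le_coe.mp h1
  · intro hx x' hx'
    have hb := bijective_ψ_of_specializes (ZClos.rhoApp (ZClos.dimGe X 2) F) x x' hx' hx
    let e : F.presheaf.stalk x' ≃ₗ[X.presheaf.stalk x']
        ((ZClos.H0 (ZClos.dimGe X 2)).obj F).presheaf.stalk x' :=
      LinearEquiv.ofBijective (Groth.Agent.S8890.ψₗ (ZClos.rhoApp (ZClos.dimGe X 2) F) x') hb
    have hd : LocCoh.depth (X.presheaf.stalk x') (F.presheaf.stalk x') =
        LocCoh.depth (X.presheaf.stalk x')
          (((ZClos.H0 (ZClos.dimGe X 2)).obj F).presheaf.stalk x') :=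
      Groth.Agent.Lib.Helper28.idealDepth_congr e _
    rw [hd, Module.supportDim_eq_of_equiv e]
    exact s2_H0_dimGe F hass x'

/-- S5861. -/
theorem s2_locus_isOpen_and_codim [F.IsQuasicoherent]
    [SheafOfModules.IsFiniteType (R := X.ringCatSheaf) F]
    (hsupp : ∀ x : X, Nontrivial (F.presheaf.stalk x))
    (hass : ∀ x ∈ AssSch.Ass F, ringKrullDim (X.presheaf.stalk x) ≠ 1)
    [((ZClos.H0 (ZClos.dimGe X 2)).obj F).IsQuasicoherent]
    [SheafOfModules.IsFiniteType (R := X.ringCatSheaf) ((ZClos.H0 (ZClos.dimGe X 2)).obj F)] :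
    IsOpen {x : X | ∀ x' : X, x' ⤳ x →
        min (2 : WithBot ℕ∞) (Module.supportDim (X.presheaf.stalk x') (F.presheaf.stalk x')) ≤
          ((LocCoh.depth (X.presheaf.stalk x') (F.presheaf.stalk x') : ℕ∞) : WithBot ℕ∞)} ∧
      ∀ x : X, (¬ ∀ x' : X, x' ⤳ x →
        min (2 : WithBot ℕ∞) (Module.supportDim (X.presheaf.stalk x') (F.presheaf.stalk x')) ≤
          ((LocCoh.depth (X.presheaf.stalk x') (F.presheaf.stalk x') : ℕ∞) : WithBot ℕ∞)) →
        (2 : WithBot ℕ∞) ≤ ringKrullDim (X.presheaf.stalk x) := by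
  have heq := s2_locus_eq F hsupp hass
  refine ⟨?_, fun x hx => ?_⟩
  · rw [heq]
    exact isOpen_setOf_bijective_ψ _
  · by_contra hxZ
    have hmem : x ∈ {x : X | Function.Bijective (ψ (ZClos.rhoApp (ZClos.dimGe X 2) F) x)} :=
      isZClosedAt_of_notMem (ZClos.dimGe X 2) F x hxZ
    rw [← heq] at hmem
    exact hx hmem

end Groth.Agent.Lib.Helper20.ZClosLib
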