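import Mathlib
import Groth.Agent.Lib.Helper20ZClos14

/-!
# Z-closure, part 15 (helper20): Z-pure / Z-closed are local for open covers (S5846, S5847)

`ClosedOn Z F W` : all restrictions `F(W) → F(O)`, `O ≤ W` open with `W ∖ O ⊆ Z`, are bijective.  On a locally
Noetherian scheme `F` is `Z`-closed iff it is `ClosedOn` a basis of affine opens; this notion is intrinsic to `W`,
hence transfers to open subschemes.
-/

set_option autoImplicit false
set_option linter.style.haveILetI false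
set_option linter.unusedSectionVars false
universe u v
open CategoryTheory CategoryTheory.Limits AlgebraicGeometry TopologicalSpace Opposite

namespace Groth.Agent.Lib.Helper20.ZClosLib

variable {X : Scheme.{u}} (Z : Set X) (F : X.Modules)

theorem bijective_map_congr (M : X.Modules) {A A' B B' : X.Opens} (hA : A = A') (hB : B = B')
    (i : A ≤ B) (i' : A' ≤ B') :
    Function.Bijective (M.presheaf.map (homOfLE i).op) ↔
      Function.Bijective (M.presheaf.map (homOfLE i').op) := by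
  subst hA hB; rfl

theorem injective_map_congr (M : X.Modules) {A A' B B' : X.Opens} (hA : A = A') (hB : B = B')
    (i : A ≤ B) (i' : A' ≤ B') :
    Function.Injective (M.presheaf.map (homOfLE i).op) ↔
      Function.Injective (M.presheaf.map (homOfLE i').op) := by
  subst hA hB; rfl

/-- the restriction maps `F(W) → F(O)` are bijective for all opens `O ≤ W` with `W ∖ O ⊆ Z`. -/
def ClosedOn (W : X.Opens) : Prop :=
  ∀ (O : X.Opens) (h : O ≤ W), ((W : Set X) \ (O : Set X) ⊆ Z) →
    Function.Bijective (F.presheaf.map (homOfLE h).op)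

/-- the restriction maps `F(W) → F(O)` are injective for all opens `O ≤ W` with `W ∖ O ⊆ Z`. -/
def PureOn (W : X.Opens) : Prop :=
  ∀ (O : X.Opens) (h : O ≤ W), ((W : Set X) \ (O : Set X) ⊆ Z) →
    Function.Injective (F.presheaf.map (homOfLE h).op)

/-- over an affine open `W` of a locally Noetherian scheme, every open `O ≤ W` with `W ∖ O ⊆ Z` is of the form
`W ∖ T` for a closed `T ⊆ Z`. -/
theorem exists_cl_inf_eq [IsLocallyNoetherian X] (hZ : StableUnderSpecialization Z) {W : X.Opens}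
    (hW : IsAffineOpen W) (O : X.Opens) (hO : O ≤ W) (h : (W : Set X) \ (O : Set X) ⊆ Z) :
    ∃ T : ZClos.Cl Z, W ⊓ T.U = O := by
  haveI : IsNoetherianRing Γ(X, W) := IsLocallyNoetherian.component_noetherian ⟨W, hW⟩
  have hN : NoetherianSpace ((W : Set X) : Type u) := noetherianSpace_of_isAffineOpen W hW
  have hQ : QuasiSober ((W : Set X) : Type u) := W.isOpen.isOpenEmbedding_subtypeVal.quasiSober
  have hK : IsClosed ((O : Set X)ᶜ) := O.isOpen.isClosed_compl
  have hS : (O : Set X)ᶜ ∩ (W : Set X) ∩ ((⊤ : Opens X) : Set X) ⊆ Z := by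
    rintro y ⟨⟨hyO, hyW⟩, -⟩
    exact h ⟨hyW, hyO⟩
  have hcl := @closure_subset_of_stableUnderSpecialization _ _ _ hZ W hN hQ ⊤ _ hK hS
  refine ⟨⟨⟨closure ((O : Set X)ᶜ ∩ (W : Set X) ∩ ((⊤ : Opens X) : Set X)), isClosed_closure⟩,
    hcl⟩, ?_⟩
  ext y
  constructor
  · rintro ⟨hyW, hyT⟩
    by_contra hyO
    exact hyT (subset_closure ⟨⟨hyO, hyW⟩, trivial⟩)
  · intro hyO
    refine ⟨hO hyO, ?_⟩
    intro hyT
    have hyT' : y ∈ closure ((O : Set X)ᶜ ∩ (W : Set X) ∩ ((⊤ : Opens X) : Set X)) := hyT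
    rw [mem_closure_iff] at hyT'
    obtain ⟨z, hzO, ⟨⟨hzO', -⟩, -⟩⟩ := hyT' O O.isOpen hyO
    exact hzO' hzO

theorem isZClosed_of_closedOn {ι : Type u} (B : ι → X.Opens) (hB : Opens.IsBasis (Set.range B))
    (h : ∀ i, ClosedOn Z F (B i)) : ZClos.IsZClosed Z F := by
  apply isZClosed_of_forall_isIso
  intro T
  refine Groth.Agent.Helper13AffBC.isIso_of_bijective_on_basis _ B hB fun i => ?_
  rw [toDiagram_app_bijective_iff]
  refine h i _ inf_le_left ?_
  rintro y ⟨hyW, hyO⟩
  apply T.2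
  by_contra hyT
  exact hyO ⟨hyW, hyT⟩

theorem isZPure_of_pureOn {ι : Type u} (B : ι → X.Opens) (hB : Opens.IsBasis (Set.range B))
    (h : ∀ i, PureOn Z F (B i)) : ZClos.IsZPure Z F := by
  rw [isZPure_iff_forall_mono]
  intro T
  rw [mono_iff_stalk_injective]
  intro x
  refine TopCat.Presheaf.stalkFunctor_map_injective_of_isBasis hB ?_ x
  rintro _ ⟨i, rfl⟩
  change Function.Injective ((ZClos.toDiagram Z F T).app (B i))
  rw [toDiagram_app_injective_iff]
  refine h i _ inf_le_left ?_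
  rintro y ⟨hyW, hyO⟩
  apply T.2
  by_contra hyT
  exact hyO ⟨hyW, hyT⟩

theorem closedOn_of_isZClosed [IsLocallyNoetherian X] (hZ : StableUnderSpecialization Z)
    (h : ZClos.IsZClosed Z F) {W : X.Opens} (hW : IsAffineOpen W) : ClosedOn Z F W := by
  intro O hO hOZ
  obtain ⟨T, hT⟩ := exists_cl_inf_eq Z hZ hW O hO hOZ
  have := (isZClosed_iff_bijective_res Z F).mp h T W hW.isCompact
  exact (bijective_map_congr F hT rfl _ _).mp this

theorem pureOn_of_isZPure [IsLocallyNoetherian X] (hZ : StableUnderSpecialization Z)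
    (h : ZClos.IsZPure Z F) {W : X.Opens} (hW : IsAffineOpen W) : PureOn Z F W := by
  intro O hO hOZ
  obtain ⟨T, hT⟩ := exists_cl_inf_eq Z hZ hW O hO hOZ
  have := (isZPure_iff_injective_res Z F).mp h T W hW.isCompact
  exact (injective_map_congr F hT rfl _ _).mp this

section Restrict

variable {Y : Scheme.{u}} (j : Y ⟶ X) [IsOpenImmersion j]

theorem image_diff_subset {W' O' : Y.Opens}
    (h : (W' : Set Y) \ (O' : Set Y) ⊆ j.base ⁻¹' Z) :
    ((j ''ᵁ W' : X.Opens) : Set X) \ ((j ''ᵁ O' : X.Opens) : Set X) ⊆ Z := by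
  rintro y ⟨⟨w, hw, rfl⟩, hyO⟩
  apply h
  refine ⟨hw, fun hwO => hyO ⟨w, hwO, rfl⟩⟩

theorem closedOn_restrict_iff (W' : Y.Opens) :
    ClosedOn (j.base ⁻¹' Z) ((Scheme.Modules.restrictFunctor j).obj F) W' ↔
      ClosedOn Z F (j ''ᵁ W') := by
  constructor
  · intro h O hO hOZ
    have hO' : j ⁻¹ᵁ O ≤ W' := by
      intro y hy
      obtain ⟨w, hw, hwy⟩ := hO hy
      rwa [← j.isOpenEmbedding.injective hwy]
    have hZ' : (W' : Set Y) \ ((j ⁻¹ᵁ O : Y.Opens) : Set Y) ⊆ j.base ⁻¹' Z := by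
      rintro w ⟨hw, hwO⟩
      exact hOZ ⟨⟨w, hw, rfl⟩, hwO⟩
    have h1 := h (j ⁻¹ᵁ O) hO' hZ'
    have h2 : Function.Bijective (F.presheaf.map (homOfLE (j.image_mono hO')).op) := h1
    have heq : j ''ᵁ j ⁻¹ᵁ O = O := by
      rw [Scheme.Hom.image_preimage_eq_opensRange_inf]
      exact inf_eq_right.mpr (hO.trans (j.image_le_opensRange W'))
    exact (bijective_map_congr F heq rfl _ _).mp h2
  · intro h O' hO' hZ'
    exact h (j ''ᵁ O') (j.image_mono hO') (image_diff_subset Z j hZ')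

theorem pureOn_restrict_iff (W' : Y.Opens) :
    PureOn (j.base ⁻¹' Z) ((Scheme.Modules.restrictFunctor j).obj F) W' ↔
      PureOn Z F (j ''ᵁ W') := by
  constructor
  · intro h O hO hOZ
    have hO' : j ⁻¹ᵁ O ≤ W' := by
      intro y hy
      obtain ⟨w, hw, hwy⟩ := hO hy
      rwa [← j.isOpenEmbedding.injective hwy]
    have hZ' : (W' : Set Y) \ ((j ⁻¹ᵁ O : Y.Opens) : Set Y) ⊆ j.base ⁻¹' Z := by
      rintro w ⟨hw, hwO⟩
      exact hOZ ⟨⟨w, hw, rfl⟩, hwO⟩
    have h1 := h (j ⁻¹ᵁ O) hO' hZ'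
    have h2 : Function.Injective (F.presheaf.map (homOfLE (j.image_mono hO')).op) := h1
    have heq : j ''ᵁ j ⁻¹ᵁ O = O := by
      rw [Scheme.Hom.image_preimage_eq_opensRange_inf]
      exact inf_eq_right.mpr (hO.trans (j.image_le_opensRange W'))
    exact (injective_map_congr F heq rfl _ _).mp h2
  · intro h O' hO' hZ'
    exact h (j ''ᵁ O') (j.image_mono hO') (image_diff_subset Z j hZ')

end Restrict

section Cover

variable {ι : Type u} (V : ι → X.Opens) (hV : iSup V = ⊤)

include hV in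
/-- images of affine opens of the members of an open cover form a basis. -/
theorem isBasis_image_affineOpens :
    Opens.IsBasis (Set.range fun p : Σ i, (V i).toScheme.affineOpens => (V p.1).ι ''ᵁ p.2.1) := by
  rw [Opens.isBasis_iff_nbhd]
  intro U x hxU
  have hx : x ∈ (iSup V : X.Opens) := by rw [hV]; trivial
  obtain ⟨i, hxi⟩ := Opens.mem_iSup.mp hx
  obtain ⟨_, ⟨W', hW', rfl⟩, hxW', hW'U⟩ :=
    (V i).toScheme.isBasis_affineOpens.exists_subset_of_mem_open
      (show (⟨x, hxi⟩ : (V i).toScheme) ∈ ((V i).ι ⁻¹ᵁ U : (V i).toScheme.Opens) from hxU)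
      ((V i).ι ⁻¹ᵁ U).isOpen
  refine ⟨(V i).ι ''ᵁ W', ⟨⟨i, ⟨W', hW'⟩⟩, rfl⟩, ⟨⟨x, hxi⟩, hxW', rfl⟩, ?_⟩
  rintro _ ⟨w, hw, rfl⟩
  exact hW'U hw

include hV in
/-- S5847. -/
theorem isZClosed_iff_restrict [IsLocallyNoetherian X] (hZ : StableUnderSpecialization Z) :
    ZClos.IsZClosed Z F ↔
      ∀ i, ZClos.IsZClosed ((V i).ι.base ⁻¹' Z) ((Scheme.Modules.restrictFunctor (V i).ι).obj F) := by
  constructor
  · intro h i
    refine isZClosed_of_closedOn _ _ (fun W' : (V i).toScheme.affineOpens => (W'.1 : (V i).toScheme.Opens))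
      ?_ fun W' => ?_
    · have := (V i).toScheme.isBasis_affineOpens
      rwa [← Subtype.range_coe (s := (V i).toScheme.affineOpens)] at this
    · rw [closedOn_restrict_iff]
      exact closedOn_of_isZClosed Z F hZ h (W'.2.image_of_isOpenImmersion (V i).ι)
  · intro h
    refine isZClosed_of_closedOn Z F _ (isBasis_image_affineOpens V hV) fun p => ?_
    rw [← closedOn_restrict_iff]
    exact closedOn_of_isZClosed _ _ (hZ.preimage (V p.1).ι.continuous) (h p.1) p.2.2

include hV in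
/-- S5846. -/
theorem isZPure_iff_restrict [IsLocallyNoetherian X] (hZ : StableUnderSpecialization Z) :
    ZClos.IsZPure Z F ↔
      ∀ i, ZClos.IsZPure ((V i).ι.base ⁻¹' Z) ((Scheme.Modules.restrictFunctor (V i).ι).obj F) := by
  constructor
  · intro h i
    refine isZPure_of_pureOn _ _ (fun W' : (V i).toScheme.affineOpens => (W'.1 : (V i).toScheme.Opens))
      ?_ fun W' => ?_
    · have := (V i).toScheme.isBasis_affineOpens
      rwa [← Subtype.range_coe (s := (V i).toScheme.affineOpens)] at this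
    · rw [pureOn_restrict_iff]
      exact pureOn_of_isZPure Z F hZ h (W'.2.image_of_isOpenImmersion (V i).ι)
  · intro h
    refine isZPure_of_pureOn Z F _ (isBasis_image_affineOpens V hV) fun p => ?_
    rw [← pureOn_restrict_iff]
    exact pureOn_of_isZPure _ _ (hZ.preimage (V p.1).ι.continuous) (h p.1) p.2.2

end Cover

end Groth.Agent.Lib.Helper20.ZClosLib
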