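import Mathlib
import Groth.Agent.Lib.Helper20ZClos15

/-!
# Z-closure, part 16 (helper20): the largest open on which a coherent module is Z-closed (S5859)
-/

set_option autoImplicit false
set_option linter.style.haveILetI false
set_option linter.unusedSectionVars false
universe u v
open CategoryTheory CategoryTheory.Limits AlgebraicGeometry TopologicalSpace Opposite

namespace Groth.Agent.Lib.Helper20.ZClosLib

open Groth.Agent.Lib.Helper2.ModExact Groth.Agent.Lib.Helper2.QCoh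
open Groth.Agent.S8890 (ψ ψ_germ ψ_smul)

variable {X : Scheme.{u}} (Z : Set X) (F : X.Modules)

/-- if `F` is `Z`-closed at every point of the affine open `W`, it is `ClosedOn` `W`. -/
theorem closedOn_of_forall_isZClosedAt [IsLocallyNoetherian X] [F.IsQuasicoherent]
    (hZ : StableUnderSpecialization Z) {W : X.Opens} (hW : IsAffineOpen W)
    (h : ∀ x ∈ W, ZClos.IsZClosedAt Z F x) : ClosedOn Z F W := by
  intro O hO hOZ
  obtain ⟨T, hT⟩ := exists_cl_inf_eq Z hZ hW O hO hOZ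
  have h1 : Function.Bijective ((ZClos.toDiagram Z F T).app W) := by
    let F' : TopCat.Sheaf AddCommGrpCat.{u} X.carrier := ⟨F.presheaf, F.isSheaf⟩
    let G' : TopCat.Sheaf AddCommGrpCat.{u} X.carrier :=
      ⟨((D Z F).obj T).presheaf, ((D Z F).obj T).isSheaf⟩
    let f' : F' ⟶ G' := ⟨Scheme.Modules.Hom.mapPresheaf (ZClos.toDiagram Z F T)⟩
    exact TopCat.Presheaf.app_bijective_of_stalkFunctor_map_bijective f' W
      (fun x hx => υx_bijective_of_isZClosedAt Z F hZ x (h x hx) T)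
  rw [toDiagram_app_bijective_iff] at h1
  exact (bijective_map_congr F hT rfl _ _).mp h1

/-- if `F` is `ClosedOn` arbitrarily small neighbourhoods of `x`, then `F` is `Z`-closed at `x`. -/
theorem isZClosedAt_of_closedOn_nhds (x : X)
    (hx : ∀ W₀ : X.Opens, x ∈ W₀ → ∃ W : X.Opens, W ≤ W₀ ∧ x ∈ W ∧ ClosedOn Z F W) :
    ZClos.IsZClosedAt Z F x := by
  apply isZClosedAt_of_forall_bijective
  intro T
  have hbij : ∀ W : X.Opens, ClosedOn Z F W →
      Function.Bijective ((ZClos.toDiagram Z F T).app W) := by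
    intro W hW
    rw [toDiagram_app_bijective_iff]
    refine hW _ inf_le_left ?_
    rintro y ⟨hyW, hyO⟩
    apply T.2
    by_contra hyT
    exact hyO ⟨hyW, hyT⟩
  constructor
  · rw [injective_iff_map_eq_zero]
    intro f hf
    obtain ⟨W₀, hxW₀, s, rfl⟩ := F.presheaf.exists_germ_eq f
    have h1 : ((D Z F).obj T).presheaf.germ W₀ x hxW₀ ((ZClos.toDiagram Z F T).app W₀ s) =
        ((D Z F).obj T).presheaf.germ W₀ x hxW₀ 0 :=
      ((stalkF_map_germ (ZClos.toDiagram Z F T) x hxW₀ s).symm.trans hf).trans (map_zero _).symm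
    obtain ⟨W₁, hxW₁, i₁, i₂, heq⟩ := TopCat.Presheaf.germ_eq _ x hxW₀ hxW₀ _ _ h1
    obtain ⟨W, hWW₁, hxW, hW⟩ := hx W₁ hxW₁
    have hle : W ≤ W₀ := hWW₁.trans (leOfHom i₁)
    have h2 : (ZClos.toDiagram Z F T).app W (F.presheaf.map (homOfLE hle).op s) = 0 := by
      rw [app_map]
      have h3 := congrArg (((D Z F).obj T).presheaf.map (homOfLE hWW₁).op) heq
      rw [map_zero, map_zero] at h3
      rw [← h3]
      change _ = (((D Z F).obj T).presheaf.map i₁.op ≫
        ((D Z F).obj T).presheaf.map (homOfLE hWW₁).op) _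
      rw [← Functor.map_comp]
      rfl
    have h4 : F.presheaf.map (homOfLE hle).op s = 0 :=
      (hbij W hW).1 (h2.trans (map_zero _).symm)
    exact (TopCat.Presheaf.germ_res_apply F.presheaf (homOfLE hle) x hxW s).symm.trans
      ((congrArg (F.presheaf.germ W x hxW) h4).trans (map_zero _))
  · intro g
    obtain ⟨W₀, hxW₀, t, rfl⟩ := ((D Z F).obj T).presheaf.exists_germ_eq g
    obtain ⟨W, hWW₀, hxW, hW⟩ := hx W₀ hxW₀
    obtain ⟨s, hs⟩ := (hbij W hW).2 (((D Z F).obj T).presheaf.map (homOfLE hWW₀).op t)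
    refine ⟨F.presheaf.germ W x hxW s, ?_⟩
    refine (stalkF_map_germ (ZClos.toDiagram Z F T) x hxW s).trans ?_
    rw [hs]
    exact TopCat.Presheaf.germ_res_apply ((D Z F).obj T).presheaf (homOfLE hWW₀) x hxW t

/-- S5859. -/
theorem exists_largest_closed_open [IsLocallyNoetherian X] [F.IsQuasicoherent]
    [SheafOfModules.IsFiniteType (R := X.ringCatSheaf) F] (hZ : StableUnderSpecialization Z)
    [((ZClos.H0 Z).obj F).IsQuasicoherent]
    [SheafOfModules.IsFiniteType (R := X.ringCatSheaf) ((ZClos.H0 Z).obj F)] :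
    ∃ U : X.Opens, (U : Set X) = {x | ∀ x' : X, x' ⤳ x → x' ∈ Z →
        (2 : ℕ∞) ≤ LocCoh.depth (X.presheaf.stalk x') (F.presheaf.stalk x')} ∧
      (U : Set X)ᶜ ⊆ Z ∧
      ZClos.IsZClosed (U.ι.base ⁻¹' Z) ((Scheme.Modules.restrictFunctor U.ι).obj F) ∧
      ∀ V : X.Opens, ZClos.IsZClosed (V.ι.base ⁻¹' Z) ((Scheme.Modules.restrictFunctor V.ι).obj F) →
        V ≤ U := by
  have hset : {x : X | ∀ x' : X, x' ⤳ x → x' ∈ Z →
        (2 : ℕ∞) ≤ LocCoh.depth (X.presheaf.stalk x') (F.presheaf.stalk x')} =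
      {x : X | Function.Bijective (ψ (ZClos.rhoApp Z F) x)} := by
    ext x
    exact (isZClosedAt_iff_depth_ge_two Z F hZ x).symm
  have hopen : IsOpen {x : X | Function.Bijective (ψ (ZClos.rhoApp Z F) x)} :=
    isOpen_setOf_bijective_ψ _
  let U : X.Opens := ⟨{x : X | Function.Bijective (ψ (ZClos.rhoApp Z F) x)}, hopen⟩
  have hU : ∀ x, x ∈ U ↔ ZClos.IsZClosedAt Z F x := fun x => Iff.rfl
  refine ⟨U, hset.symm, ?_, ?_, ?_⟩
  · intro x hx
    by_contra hxZ
    exact hx (isZClosedAt_of_notMem Z F x hxZ)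
  · refine isZClosed_of_closedOn _ _
      (fun W' : U.toScheme.affineOpens => (W'.1 : U.toScheme.Opens)) ?_ fun W' => ?_
    · have := U.toScheme.isBasis_affineOpens
      rwa [← Subtype.range_coe (s := U.toScheme.affineOpens)] at this
    · rw [closedOn_restrict_iff]
      refine closedOn_of_forall_isZClosedAt Z F hZ (W'.2.image_of_isOpenImmersion U.ι) ?_
      rintro _ ⟨w, -, rfl⟩
      exact (hU _).mp w.2
  · intro V hV x hxV
    rw [hU]
    apply isZClosedAt_of_closedOn_nhds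
    intro W₀ hxW₀
    obtain ⟨_, ⟨W', hW', rfl⟩, hxW', hW'W₀⟩ :=
      V.toScheme.isBasis_affineOpens.exists_subset_of_mem_open
        (show (⟨x, hxV⟩ : V.toScheme) ∈ (V.ι ⁻¹ᵁ W₀ : V.toScheme.Opens) from hxW₀)
        (V.ι ⁻¹ᵁ W₀).isOpen
    refine ⟨V.ι ''ᵁ W', ?_, ⟨⟨x, hxV⟩, hxW', rfl⟩, ?_⟩
    · rintro _ ⟨w, hw, rfl⟩
      exact hW'W₀ hw
    · rw [← closedOn_restrict_iff]
      exact closedOn_of_isZClosed _ _ (hZ.preimage V.ι.continuous) hV hW'

end Groth.Agent.Lib.Helper20.ZClosLib
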