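import Mathlib
import Groth.Agent.Lib.Helper20ZClos16

/-!
# Z-closure, part 17 (helper20): `F → j_*(F|_U)` for `U = X ∖ K`: depth `≥ 2` along `K` and universal property (S12226)
-/

set_option autoImplicit false
set_option linter.style.haveILetI false
set_option linter.unusedSectionVars false
universe u v
open CategoryTheory CategoryTheory.Limits AlgebraicGeometry TopologicalSpace Opposite

namespace Groth.Agent.Lib.Helper20.ZClosLib

variable {X : Scheme.{u}} [IsLocallyNoetherian X] (K : Closeds X) (F : X.Modules)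

/-- the closed set `K` as the largest member of the index for `Z = K`. -/
def topCl : ZClos.Cl (K : Set X) := ⟨K, le_rfl⟩

theorem topCl_U : (topCl K).U = K.compl := rfl

theorem stable_closeds : StableUnderSpecialization (K : Set X) :=
  K.isClosed.stableUnderSpecialization

/-- `j_*(F|_{X∖K})` is `K`-closed. -/
theorem isZClosed_push_restrict :
    ZClos.IsZClosed (K : Set X) ((ZClos.resPush K.compl).obj F) := by
  apply isZClosed_of_forall_isIso
  intro T'
  have hle : T' ≤ topCl K := T'.2
  exact ZClos.isIso_unit_resPush (ZClos.Cl.U_anti hle) F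

theorem isZClosedAt_of_isZClosed (Z : Set X) (G : X.Modules) (h : ZClos.IsZClosed Z G) (x : X) :
    ZClos.IsZClosedAt Z G x := by
  haveI : IsIso (ZClos.rhoApp Z G) := h
  exact ConcreteCategory.bijective_of_isIso ((stalkF x).map (ZClos.rhoApp Z G))

theorem isZClosed_of_forall_isZClosedAt (Z : Set X) (G : X.Modules)
    (h : ∀ x, ZClos.IsZClosedAt Z G x) : ZClos.IsZClosed Z G :=
  Groth.Agent.S8890.isIso_of_stalk_bijective (ZClos.rhoApp Z G) h

/-- S12226 (a). -/
theorem depth_push_restrict_ge_two
    [((ZClos.resPush K.compl).obj F).IsQuasicoherent]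
    [SheafOfModules.IsFiniteType (R := X.ringCatSheaf) ((ZClos.resPush K.compl).obj F)]
    (x : X) (hx : x ∈ (K : Set X)) :
    (2 : ℕ∞) ≤ LocCoh.depth (X.presheaf.stalk x)
      (((ZClos.resPush K.compl).obj F).presheaf.stalk x) :=
  (isZClosedAt_iff_depth_ge_two (K : Set X) _ (stable_closeds K) x).mp
    (isZClosedAt_of_isZClosed _ _ (isZClosed_push_restrict K F) x) x specializes_rfl hx

/-- a coherent module with depth `≥ 2` along `K` is `K`-closed; hence its unit to `j_*j^*` is an isomorphism. -/
theorem isIso_unit_of_depth_ge_two (G : X.Modules) [G.IsQuasicoherent]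
    [SheafOfModules.IsFiniteType (R := X.ringCatSheaf) G]
    (hG : ∀ x : X, x ∈ (K : Set X) →
      (2 : ℕ∞) ≤ LocCoh.depth (X.presheaf.stalk x) (G.presheaf.stalk x)) :
    IsIso ((ZClos.resPushUnit K.compl).app G) := by
  have hcl : ZClos.IsZClosed (K : Set X) G :=
    isZClosed_of_forall_isZClosedAt _ _ fun x =>
      isZClosedAt_of_depth_ge_two (K : Set X) G x fun x' _ hx' => hG x' hx'
  exact (isZClosed_iff_forall_isIso (K : Set X) G).mp hcl (topCl K)

omit [IsLocallyNoetherian X] in
/-- the universal property of `F → j_*(F|_U)` among maps `φ : F → G` which are isomorphisms over `U` and whose target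
has an invertible unit `G → j_*(G|_U)`. -/
theorem push_restrict_universal (U : X.Opens) {F G : X.Modules} (φ : F ⟶ G)
    (hφ : IsIso ((Scheme.Modules.restrictFunctor U.ι).map φ))
    (hG : IsIso ((Scheme.Modules.restrictAdjunction U.ι).unit.app G)) :
    (∃! ψ : G ⟶ (Scheme.Modules.pushforward U.ι).obj (F.restrict U.ι),
        φ ≫ ψ = (Scheme.Modules.restrictAdjunction U.ι).unit.app F) ∧
      ∀ ψ : G ⟶ (Scheme.Modules.pushforward U.ι).obj (F.restrict U.ι),
        φ ≫ ψ = (Scheme.Modules.restrictAdjunction U.ι).unit.app F → IsIso ψ := by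
  let adj := Scheme.Modules.restrictAdjunction U.ι
  let ψ₀ : G ⟶ (Scheme.Modules.pushforward U.ι).obj (F.restrict U.ι) :=
    adj.unit.app G ≫ (Scheme.Modules.pushforward U.ι).map (inv ((Scheme.Modules.restrictFunctor U.ι).map φ))
  have hψ₀ : φ ≫ ψ₀ = adj.unit.app F := by
    have hnat : φ ≫ adj.unit.app G = adj.unit.app F ≫
        (Scheme.Modules.pushforward U.ι).map ((Scheme.Modules.restrictFunctor U.ι).map φ) :=
      adj.unit.naturality φ
    change φ ≫ adj.unit.app G ≫ _ = _
    rw [← Category.assoc, hnat, Category.assoc, ← Functor.map_comp, IsIso.hom_inv_id,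
      CategoryTheory.Functor.map_id]
    exact Category.comp_id _
  have huniq : ∀ ψ : G ⟶ (Scheme.Modules.pushforward U.ι).obj (F.restrict U.ι),
      φ ≫ ψ = adj.unit.app F → ψ = ψ₀ := by
    intro ψ hψ
    have h1 : (Scheme.Modules.restrictFunctor U.ι).map φ ≫
        (adj.homEquiv G (F.restrict U.ι)).symm ψ = 𝟙 _ := by
      rw [Adjunction.homEquiv_counit, ← Category.assoc, ← Functor.map_comp, hψ]
      exact adj.left_triangle_components F
    have h2 : (adj.homEquiv G (F.restrict U.ι)).symm ψ =
        inv ((Scheme.Modules.restrictFunctor U.ι).map φ) := by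
      rw [← cancel_epi ((Scheme.Modules.restrictFunctor U.ι).map φ), h1, IsIso.hom_inv_id]
    have h3 : ψ = adj.homEquiv G (F.restrict U.ι)
        (inv ((Scheme.Modules.restrictFunctor U.ι).map φ)) := by
      rw [← h2, Equiv.apply_symm_apply]
    rw [h3, Adjunction.homEquiv_unit]
  have hiso : IsIso ψ₀ := by
    haveI := hG
    change IsIso (adj.unit.app G ≫ _)
    infer_instance
  refine ⟨⟨ψ₀, hψ₀, fun ψ hψ => huniq ψ hψ⟩, fun ψ hψ => ?_⟩
  rw [huniq ψ hψ]
  exact hiso

end Groth.Agent.Lib.Helper20.ZClosLib
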