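import Mathlib
import Groth.Agent.Lib.Helper20ZClos17
import Groth.Agent.Lib.Helper23FinTypeLocal

/-!
# Z-closure, part 18 (helper20): depth `≥ 2` along a closed set iff all restrictions `Γ(V,M) → Γ(V∖K,M)` are bijective (S6039)
-/

set_option autoImplicit false
set_option linter.style.haveILetI false
set_option linter.unusedSectionVars false
universe u v
open CategoryTheory CategoryTheory.Limits AlgebraicGeometry TopologicalSpace Opposite

namespace Groth.Agent.Lib.Helper20.ZClosLib

variable {X : Scheme.{u}} [IsLocallyNoetherian X] (K : Closeds X) (M : X.Modules)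

/-- S6039 for `U = K.compl`. -/
theorem depth_ge_two_iff_bijective_res [M.IsQuasicoherent]
    [SheafOfModules.IsFiniteType (R := X.ringCatSheaf) M] :
    (∀ x : X, x ∈ (K : Set X) →
        (2 : ℕ∞) ≤ LocCoh.depth (X.presheaf.stalk x) (M.presheaf.stalk x)) ↔
      ∀ V : X.Opens, Function.Bijective
        (M.presheaf.map (homOfLE (inf_le_left : V ⊓ K.compl ≤ V)).op) := by
  constructor
  · intro h V
    haveI := isIso_unit_of_depth_ge_two K M h
    have h1 : Function.Bijective ((ZClos.toDiagram (K : Set X) M (topCl K)).app V) :=
      ConcreteCategory.bijective_of_isIso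
        (((ZClos.resPushUnit K.compl).app M).app V)
    exact (toDiagram_app_bijective_iff (K : Set X) M (topCl K) V).mp h1
  · intro h x hx
    have hiso : IsIso ((ZClos.resPushUnit K.compl).app M) := by
      refine isIso_of_bijective_on_affines _ fun V _ => ?_
      exact (toDiagram_app_bijective_iff (K : Set X) M (topCl K) V).mpr (h V)
    let e : M ≅ (ZClos.resPush K.compl).obj M := asIso ((ZClos.resPushUnit K.compl).app M)
    haveI : ((ZClos.resPush K.compl).obj M).IsQuasicoherent :=
      isQuasicoherent_D_obj (K : Set X) M (topCl K)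
    haveI : SheafOfModules.IsFiniteType (R := X.ringCatSheaf) ((ZClos.resPush K.compl).obj M) :=
      Groth.Agent.Lib.Helper23.FinType.isFiniteType_of_iso e
    have h2 := depth_push_restrict_ge_two K M x hx
    have hb : Function.Bijective (Groth.Agent.S8890.ψ ((ZClos.resPushUnit K.compl).app M) x) :=
      ConcreteCategory.bijective_of_isIso ((stalkF x).map ((ZClos.resPushUnit K.compl).app M))
    let el := LinearEquiv.ofBijective (Groth.Agent.S8890.ψₗ ((ZClos.resPushUnit K.compl).app M) x) hb
    have hd : LocCoh.depth (X.presheaf.stalk x) (M.presheaf.stalk x) =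
        LocCoh.depth (X.presheaf.stalk x) (((ZClos.resPush K.compl).obj M).presheaf.stalk x) :=
      Groth.Agent.Lib.Helper28.idealDepth_congr el _
    rw [hd]
    exact h2

end Groth.Agent.Lib.Helper20.ZClosLib
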