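import Mathlib
import Groth.Agent.Lib.Helper20ZClos18
import Groth.Agent.Lib.Helper23UnitStalk
import Groth.Agent.Lib.Helper18FinFlat1
import Groth.Agent.Lib.Helper23Serre

/-!
# Z-closure, part 19 (helper20): Hartogs for the structure sheaf and extension of morphisms to affine targets
-/

set_option autoImplicit false
set_option linter.style.haveILetI false
set_option linter.unusedSectionVars false
universe u v
open CategoryTheory CategoryTheory.Limits AlgebraicGeometry TopologicalSpace Opposite

namespace Groth.Agent.Lib.Helper20.ZClosLib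

/-- a morphism to an affine scheme with prescribed map on global sections. -/
theorem exists_hom_appTop (X Y : Scheme.{u}) [IsAffine Y] (ψ : Γ(Y, ⊤) ⟶ Γ(X, ⊤)) :
    ∃ g : X ⟶ Y, g.appTop = ψ := by
  refine ⟨X.toSpecΓ ≫ Spec.map ψ ≫ Y.isoSpec.inv, ?_⟩
  have h1 : Y.isoSpec.inv.appTop ≫ (Scheme.ΓSpecIso Γ(Y, ⊤)).hom = 𝟙 _ := by
    have : (Scheme.ΓSpecIso Γ(Y, ⊤)).hom = Y.isoSpec.hom.appTop := by
      rw [Scheme.isoSpec]
      simp
    rw [this, ← Scheme.Hom.comp_appTop, Iso.hom_inv_id]
    rfl
  rw [Scheme.Hom.comp_appTop, Scheme.Hom.comp_appTop, Category.assoc, Scheme.toSpecΓ_appTop,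
    Scheme.ΓSpecIso_naturality, ← Category.assoc, h1, Category.id_comp]

variable {X : Scheme.{u}} [IsLocallyNoetherian X] (K : Closeds X)

/-- Hartogs: if `depth O_{X,x} ≥ 2` for all `x ∈ K`, then `Γ(V, O_X) → Γ(V ∖ K, O_X)` is bijective. -/
theorem bijective_res_structureSheaf
    (hK : ∀ x : X, x ∈ (K : Set X) →
      (2 : ℕ∞) ≤ LocCoh.depth (X.presheaf.stalk x) (X.presheaf.stalk x)) (V : X.Opens) :
    Function.Bijective (X.presheaf.map (homOfLE (inf_le_left : V ⊓ K.compl ≤ V)).op) := by
  haveI : (Coh.structureModule X).IsQuasicoherent :=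
    Groth.Agent.Lib.Helper23.Serre.isQuasicoherent_structureModule' X
  haveI : SheafOfModules.IsFinitePresentation (R := X.ringCatSheaf) (Coh.structureModule X) :=
    Groth.Agent.Helper18FinFlat.isFinitePresentation_structureModule X
  haveI : SheafOfModules.IsFiniteType (R := X.ringCatSheaf) (Coh.structureModule X) :=
    inferInstance
  have h := (depth_ge_two_iff_bijective_res K (Coh.structureModule X)).mp ?_ V
  · exact h
  · intro x hx
    have hd : LocCoh.depth (X.presheaf.stalk x) (X.presheaf.stalk x) =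
        LocCoh.depth (X.presheaf.stalk x) ((Coh.structureModule X).presheaf.stalk x) :=
      Groth.Agent.Lib.Helper28.idealDepth_congr
        (Groth.Agent.Lib.Helper23.UnitStalk.unitStalkEquiv x) _
    rw [← hd]
    exact hK x hx

end Groth.Agent.Lib.Helper20.ZClosLib
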