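import Groth.Agent.Lib.Helper28DepthFlat
import Mathlib.RingTheory.Ideal.GoingDown
import Mathlib.RingTheory.Ideal.KrullsHeightTheorem
import Mathlib.RingTheory.Ideal.MinimalPrime.Localization

/-!
# Depth library, part 13 (helper28): consequences of the depth formula for flat local
homomorphisms: depth of finite-length modules, `depth S = depth R + depth (S / m_R S)`,
height formula, closed fibre of dimension zero.
-/

set_option autoImplicit false
universe u u' v w
open RingTheory.Sequence TensorProduct
open scoped Pointwise

namespace Groth.Agent.Lib.Helper28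

section FiniteLengthDepth

variable {B : Type u} [CommRing B] [IsLocalRing B] [IsNoetherianRing B]
  {F : Type v} [AddCommGroup F] [Module B F]

theorem maximalIdeal_mem_associatedPrimes_of_isArtinian [Nontrivial F] [IsArtinian B F] :
    IsLocalRing.maximalIdeal B ∈ associatedPrimes B F := by
  obtain ⟨K, hK⟩ := IsAtomic.exists_atom (Submodule B F)
  have hsimple : IsSimpleModule B K := isSimpleModule_iff_isAtom.mpr hK
  have hnt : Nontrivial K := IsSimpleModule.nontrivial B K
  obtain ⟨x, hx⟩ := exists_ne (0 : K)
  have hmax := IsSimpleModule.ker_toSpanSingleton_isMaximal B hx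
  have hker : LinearMap.ker (LinearMap.toSpanSingleton B K x) = IsLocalRing.maximalIdeal B :=
    IsLocalRing.eq_maximalIdeal hmax
  rw [AssociatedPrimes.mem_iff, isAssociatedPrime_iff]
  refine ⟨inferInstance, (x : F), ?_⟩
  rw [← hker]
  ext b
  rw [LinearMap.mem_ker, LinearMap.toSpanSingleton_apply, Submodule.mem_colon_singleton,
    Submodule.mem_bot, ← Submodule.coe_smul, Submodule.coe_eq_zero]

theorem depth_eq_zero_of_isFiniteLength [Nontrivial F] (h : IsFiniteLength B F) :
    LocCoh.depth B F = 0 := by
  obtain ⟨hN, hA⟩ := isFiniteLength_iff_isNoetherian_isArtinian.mp h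
  rw [depth_eq_zero_iff]
  exact maximalIdeal_mem_associatedPrimes_of_isArtinian

end FiniteLengthDepth

section FlatLocalRing

variable {R S : Type u} [CommRing R] [CommRing S] [IsLocalRing R] [IsLocalRing S]
  [IsNoetherianRing R] [IsNoetherianRing S] [Algebra R S] [IsLocalHom (algebraMap R S)]

/-- `depth S = depth R + depth (S / m_R S)` for a flat local homomorphism. -/
theorem depth_eq_depth_add_depth_fibre [Module.Flat R S] :
    LocCoh.depth S S = LocCoh.depth R R + LocCoh.depth S
      (S ⧸ ((IsLocalRing.maximalIdeal R).map (algebraMap R S) • ⊤ : Submodule S S)) := by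
  rw [← depth_tensor_of_flat (R := R) (S := S) R S]
  exact (idealDepth_congr (TensorProduct.AlgebraTensorModule.rid R S S) _).symm

/-- `dim S = dim R + dim (S / m_R S)` in terms of heights, for a flat local homomorphism. -/
theorem height_maximalIdeal_eq_add [Module.Flat R S] :
    (IsLocalRing.maximalIdeal S).height = (IsLocalRing.maximalIdeal R).height +
      ((IsLocalRing.maximalIdeal S).map (Ideal.Quotient.mk
        ((IsLocalRing.maximalIdeal R).map (algebraMap R S)))).height := by
  have hlies : (IsLocalRing.maximalIdeal S).LiesOver (IsLocalRing.maximalIdeal R) :=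
    ⟨(IsLocalRing.maximalIdeal_comap (algebraMap R S)).symm⟩
  exact Ideal.height_eq_height_add_of_liesOver_of_hasGoingDown
    (IsLocalRing.maximalIdeal R) (IsLocalRing.maximalIdeal S)

omit [IsNoetherianRing R] [IsNoetherianRing S] in
theorem height_map_mk_eq_zero_iff (J : Ideal S) (hJ : J ≤ IsLocalRing.maximalIdeal S) :
    ((IsLocalRing.maximalIdeal S).map (Ideal.Quotient.mk J)).height = 0 ↔
      IsLocalRing.maximalIdeal S ∈ J.minimalPrimes := by
  have hprime : ((IsLocalRing.maximalIdeal S).map (Ideal.Quotient.mk J)).IsPrime :=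
    Ideal.map_isPrime_of_surjective Ideal.Quotient.mk_surjective (by rwa [Ideal.mk_ker])
  have hcm : ((IsLocalRing.maximalIdeal S).map (Ideal.Quotient.mk J)).comap
      (Ideal.Quotient.mk J) = IsLocalRing.maximalIdeal S := by
    rw [Ideal.comap_map_of_surjective _ Ideal.Quotient.mk_surjective, ← RingHom.ker_eq_comap_bot,
      Ideal.mk_ker, sup_eq_left.mpr hJ]
  rw [Ideal.height_eq_zero_iff, Ideal.minimalPrimes_eq_comap]
  constructor
  · intro h
    exact ⟨_, h, hcm⟩
  · rintro ⟨q, hq, hqm⟩
    rw [← hqm, Ideal.map_comap_of_surjective _ Ideal.Quotient.mk_surjective]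
    exact hq

omit [IsNoetherianRing R] in
/-- If `m_S` is minimal over `J`, then `depth_S (S / J) = 0`. -/
theorem depth_quotient_eq_zero_of_mem_minimalPrimes (J : Ideal S)
    (h : IsLocalRing.maximalIdeal S ∈ J.minimalPrimes) :
    LocCoh.depth S (S ⧸ (J • ⊤ : Submodule S S)) = 0 := by
  rw [depth_eq_zero_iff]
  apply Module.associatedPrimes.minimalPrimes_annihilator_subset_associatedPrimes
  have : Module.annihilator S (S ⧸ (J • ⊤ : Submodule S S)) = J := by
    have h1 : (J • ⊤ : Submodule S S) = J := by
      rw [smul_eq_mul, Ideal.mul_top]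
    rw [h1]
    exact Ideal.annihilator_quotient
  rw [this]
  exact h

end FlatLocalRing

end Groth.Agent.Lib.Helper28
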