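import Mathlib
import Groth.Agent.Lib.Helper20ZClos19
import Groth.Agent.Lib.Helper20WeakAss
import Groth.Agent.Lib.Helper28DepthFlat2

/-!
# Z-closure, part 20 (helper20): invertible modules, flat morphisms and depth; schematic density
-/

set_option autoImplicit false
set_option linter.style.haveILetI false
set_option linter.unusedSectionVars false
universe u v
open CategoryTheory CategoryTheory.Limits AlgebraicGeometry TopologicalSpace Opposite

namespace Groth.Agent.Lib.Helper20.ZClosLib

/-- invertible modules are of finite type. -/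
theorem isFiniteType_of_isInvertible {X : Scheme.{u}} (L : X.Modules) (hL : PicF.IsInvertible L) :
    SheafOfModules.IsFiniteType (R := X.ringCatSheaf) L := by
  haveI := Groth.Agent.Lib.Helper20.WeakAss.isQuasicoherent_of_isInvertible L hL
  choose U hyU hiso using hL
  refine Groth.Agent.Lib.Helper23.FinType.isFiniteType_of_open_cover L U ?_ ?_
  · rw [IsOpenCover, eq_top_iff]
    intro x _
    exact Opens.mem_iSup.2 ⟨x, hyU x⟩
  · intro y
    obtain ⟨e⟩ := hiso y
    haveI : SheafOfModules.IsFinitePresentation (R := (U y : Scheme.{u}).ringCatSheaf)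
        (Coh.structureModule (U y : Scheme.{u})) :=
      Groth.Agent.Helper18FinFlat.isFinitePresentation_structureModule _
    haveI : SheafOfModules.IsFiniteType (R := (U y : Scheme.{u}).ringCatSheaf)
        (Coh.structureModule (U y : Scheme.{u})) := inferInstance
    exact Groth.Agent.Lib.Helper23.FinType.isFiniteType_of_iso e.symm

/-- the stalk of an invertible module has the depth of the local ring. -/
theorem depth_stalk_of_isInvertible {X : Scheme.{u}} (L : X.Modules) (hL : PicF.IsInvertible L)
    (x : X) :
    LocCoh.depth (X.presheaf.stalk x) (L.presheaf.stalk x) =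
      LocCoh.depth (X.presheaf.stalk x) (X.presheaf.stalk x) := by
  obtain ⟨g, hg⟩ := Groth.Agent.Lib.Helper20.RegMero.exists_isGen L hL x
  let e : X.presheaf.stalk x ≃ₗ[X.presheaf.stalk x] L.presheaf.stalk x :=
    LinearEquiv.ofBijective (LinearMap.toSpanSingleton _ _ g) hg
  exact (Groth.Agent.Lib.Helper28.idealDepth_congr e _).symm

/-- depth of local rings does not drop along a flat morphism. -/
theorem depth_le_depth_of_flat {A S : Scheme.{u}} [IsLocallyNoetherian A] [IsLocallyNoetherian S]
    (f : A ⟶ S) [Flat f] (x : A) :
    LocCoh.depth (S.presheaf.stalk (f x)) (S.presheaf.stalk (f x)) ≤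
      LocCoh.depth (A.presheaf.stalk x) (A.presheaf.stalk x) := by
  letI : Algebra (S.presheaf.stalk (f x)) (A.presheaf.stalk x) := (f.stalkMap x).hom.toAlgebra
  haveI : IsLocalHom (algebraMap (S.presheaf.stalk (f x)) (A.presheaf.stalk x)) := by
    change IsLocalHom (f.stalkMap x).hom
    infer_instance
  haveI : Module.Flat (S.presheaf.stalk (f x)) (A.presheaf.stalk x) := Flat.stalkMap f x
  rw [Groth.Agent.Lib.Helper28.depth_eq_depth_add_depth_fibre (R := S.presheaf.stalk (f x))
    (S := A.presheaf.stalk x)]
  exact le_self_add

variable {X : Scheme.{u}} [IsLocallyNoetherian X]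

/-- a schematically dense open contains all points of depth zero. -/
theorem one_le_depth_of_isSchematicallyDense (V : X.Opens) (hV : CInt.IsSchematicallyDense V)
    (x : X) (hx : x ∉ V) :
    (1 : ℕ∞) ≤ LocCoh.depth (X.presheaf.stalk x) (X.presheaf.stalk x) := by
  haveI : (Coh.structureModule X).IsQuasicoherent :=
    Groth.Agent.Lib.Helper23.Serre.isQuasicoherent_structureModule' X
  haveI : SheafOfModules.IsFinitePresentation (R := X.ringCatSheaf) (Coh.structureModule X) :=
    Groth.Agent.Helper18FinFlat.isFinitePresentation_structureModule X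
  haveI : SheafOfModules.IsFiniteType (R := X.ringCatSheaf) (Coh.structureModule X) :=
    inferInstance
  let K : Closeds X := V.compl
  have hKV : K.compl = V := V.compl_compl
  have hpure : ZClos.IsZPure (K : Set X) (Coh.structureModule X) := by
    rw [isZPure_iff_forall_mono]
    intro T
    rw [mono_toDiagram_iff]
    intro W
    have hle : K.compl ≤ T.U := ZClos.Cl.U_anti (show T ≤ topCl K from T.2)
    have hle' : W ⊓ V ≤ W ⊓ T.U := inf_le_inf_left W (hKV ▸ hle)
    have h1 := hV W
    have h2 : X.presheaf.map (homOfLE (inf_le_left : W ⊓ V ≤ W)).op =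
        X.presheaf.map (homOfLE (inf_le_left : W ⊓ T.U ≤ W)).op ≫
          X.presheaf.map (homOfLE hle').op := by
      rw [← Functor.map_comp]; rfl
    rw [h2] at h1
    have h3 : Function.Injective
        ((X.presheaf.map (homOfLE hle').op).hom ∘
          (X.presheaf.map (homOfLE (inf_le_left : W ⊓ T.U ≤ W)).op).hom) := by
      intro a b hab
      exact h1 hab
    exact h3.of_comp
  have hat : ZClos.IsZPureAt (K : Set X) (Coh.structureModule X) x :=
    (mono_iff_stalk_injective (ZClos.rhoApp (K : Set X) (Coh.structureModule X))).mp hpure x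
  have hd := depth_ge_one_of_isZPureAt (K : Set X) (Coh.structureModule X) (stable_closeds K) x hat
    x specializes_rfl hx
  have hd' : LocCoh.depth (X.presheaf.stalk x) (X.presheaf.stalk x) =
      LocCoh.depth (X.presheaf.stalk x) ((Coh.structureModule X).presheaf.stalk x) :=
    Groth.Agent.Lib.Helper28.idealDepth_congr
      (Groth.Agent.Lib.Helper23.UnitStalk.unitStalkEquiv x) _
  rw [hd']
  exact hd

end Groth.Agent.Lib.Helper20.ZClosLib
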