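import Groth.Agent.Lib.Helper23SecTw6
import Groth.Agent.Lib.Helper23Restr
import Groth.Prelude.Def_PicF2

/-!
# The zero scheme of a section of an invertible module, on trivializing charts (helper27)

`le_zeroScheme`: an ideal sheaf `J` that on trivializing charts is locally contained in the ideal
generated by the local equation `c_j` of `s` (a non-zero-divisor) is contained in `Z(s)`.
`zeroScheme_le`: conversely if the local equations lie in `J` on an affine trivializing cover.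
-/

set_option autoImplicit false
universe u
open CategoryTheory Limits AlgebraicGeometry TopologicalSpace Opposite

namespace Groth.Agent.Lib.Helper27ZeroScheme
open Groth.Agent.Lib.Helper23.SecTw Groth.Agent.Lib.Helper23.GenLocus
  Groth.Agent.Lib.Helper23.Extend Groth.Agent.Lib.Helper6

variable {X : Scheme.{u}} (L : X.Modules) (s : Coh.structureModule X ⟶ L)

theorem mem_zeroIdealOn_iff (U : X.Opens) (a : Γ(X, U)) :
    a ∈ PicF2.zeroIdealOn L s U ↔ ∀ m : Γ(L, U), ∃ b : Γ(X, U), a • m = b • sv s U := Iff.rfl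

variable {ι : Type*} (W : ι → X.Opens) (e : ∀ j, Γ(L, W j)) (he : ∀ j, IsGen L (W j) (e j))
  (c : ∀ j, Γ(X, W j)) (hc : ∀ j, sv s (W j) = c j • e j)

include he hc in
theorem sv_eq {j : ι} {N : X.Opens} (hN : N ≤ W j) :
    sv s N = resf hN (c j) • res L hN (e j) := by
  rw [← res_sv s hN, hc, res_smul]

include he hc in
theorem le_zeroScheme (J : X.IdealSheafData) (hcov : ∀ x : X, ∃ j, x ∈ W j)
    (hnzd : ∀ (j : ι) (W' : X.Opens) (h : W' ≤ W j) (b : Γ(X, W')),
      b * resf h (c j) = 0 → b = 0)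
    (hloc : ∀ (V : X.affineOpens) (a : Γ(X, V.1)), a ∈ J.ideal V → ∀ (j : ι) (x : X),
      x ∈ V.1 → x ∈ W j → ∃ (N : X.Opens) (hNV : N ≤ V.1) (hNW : N ≤ W j), x ∈ N ∧
        ∃ b : Γ(X, N), resf hNV a = b * resf hNW (c j)) :
    J ≤ PicF2.zeroScheme L s := by
  rw [PicF2.zeroScheme, Scheme.IdealSheafData.le_ofIdeals_iff]
  intro V a ha
  change a ∈ PicF2.zeroIdealOn L s V.1
  rw [mem_zeroIdealOn_iff]
  intro m
  have hx : ∀ x : V.1, ∃ (j : ι) (N : X.Opens) (hNV : N ≤ V.1) (hNW : N ≤ W j), x.1 ∈ N ∧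
      ∃ b : Γ(X, N), resf hNV a = b * resf hNW (c j) := by
    rintro ⟨x, hxV⟩
    obtain ⟨j, hj⟩ := hcov x
    obtain ⟨N, hNV, hNW, hxN, b, hb⟩ := hloc V a ha j x hxV hj
    exact ⟨j, N, hNV, hNW, hxN, b, hb⟩
  choose j N hNV hNW hxN β hβ using hx
  let bx : ∀ x : V.1, Γ(X, N x) := fun x =>
    β x * coef (he (j x)) (hNW x) (res L (hNV x) m)
  have hbx : ∀ x, resf (hNV x) a • res L (hNV x) m = bx x • sv s (N x) := by
    intro x
    rw [sv_eq L s W e he c hc (hNW x), hβ x]
    conv_lhs => rw [← coef_spec (he (j x)) (hNW x) (res L (hNV x) m)]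
    simp only [bx]
    rw [← mul_smul, ← mul_smul]
    congr 1
    ring
  have hcov' : V.1 ≤ ⨆ x : V.1, N x := fun x hx => Opens.mem_iSup.mpr ⟨⟨x, hx⟩, hxN ⟨x, hx⟩⟩
  have hcompat : TopCat.Presheaf.IsCompatible (modSheaf (Coh.structureModule X)).1
      (fun x : V.1 => N x) (fun x => toS _ (bx x)) := by
    intro x y
    change toS _ (resf inf_le_left (bx x)) = toS _ (resf inf_le_right (bx y))
    congr 1
    have h1 := congrArg (res L (inf_le_left : N x ⊓ N y ≤ N x)) (hbx x)
    have h2 := congrArg (res L (inf_le_right : N x ⊓ N y ≤ N y)) (hbx y)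
    rw [res_smul, res_smul, res_res, resf_resf, res_sv] at h1 h2
    have h3 : resf inf_le_left (bx x) • sv s (N x ⊓ N y) =
        resf inf_le_right (bx y) • sv s (N x ⊓ N y) := h1.symm.trans h2
    have hle : N x ⊓ N y ≤ W (j x) := inf_le_left.trans (hNW x)
    rw [sv_eq L s W e he c hc hle, ← mul_smul, ← mul_smul] at h3
    have h5 := (he (j x) _ hle).1 h3
    have h6 : (resf inf_le_left (bx x) - resf inf_le_right (bx y)) * resf hle (c (j x)) = 0 := by
      rw [sub_mul, h5, sub_self]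
    exact sub_eq_zero.mp (hnzd (j x) _ hle _ h6)
  obtain ⟨b₀, hb₀, -⟩ := (modSheaf (Coh.structureModule X)).existsUnique_gluing'
    (fun x : V.1 => N x) V.1 (fun x => homOfLE (hNV x)) hcov' _ hcompat
  refine ⟨ofS V.1 b₀, ?_⟩
  refine (modSheaf L).eq_of_locally_eq' (fun x : V.1 => N x) V.1
    (fun x => homOfLE (hNV x)) hcov' _ _ (fun x => ?_)
  change res L (hNV x) (a • m) = res L (hNV x) (ofS V.1 b₀ • sv s V.1)
  rw [res_smul, res_smul, res_sv, hbx x]
  congr 1
  exact (hb₀ x).symm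

include he hc in
theorem zeroScheme_le (J : X.IdealSheafData) (hW : ∀ j, IsAffineOpen (W j))
    (hcov : ⨆ j, W j = ⊤) (hmem : ∀ j, c j ∈ J.ideal ⟨W j, hW j⟩) :
    PicF2.zeroScheme L s ≤ J := by
  refine Scheme.IdealSheafData.le_of_iSup_eq_top (fun j => (⟨W j, hW j⟩ : X.affineOpens)) hcov
    (fun j => ?_)
  refine (Scheme.IdealSheafData.ideal_ofIdeals_le _ _).trans ?_
  intro a ha
  obtain ⟨b, hb⟩ := (mem_zeroIdealOn_iff L s (W j) a).mp ha (e j)
  rw [hc j, ← mul_smul] at hb
  have h1 : a = b * c j := by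
    apply (he j (W j) le_rfl).1
    change a • res L le_rfl (e j) = (b * c j) • res L le_rfl (e j)
    rw [res_self]
    exact hb
  rw [h1]
  exact Ideal.mul_mem_left _ _ (hmem j)

end Groth.Agent.Lib.Helper27ZeroScheme
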