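import Mathlib
import Groth.Agent.Lib.Helper27ZeroScheme
import Groth.Agent.Lib.Helper2QCoh
import Groth.Agent.Lib.Helper20ZClos20
import Groth.Agent.Lib.Helper23FinType2

set_option autoImplicit false
set_option linter.unusedSectionVars false
set_option linter.style.haveILetI false

universe u
open CategoryTheory CategoryTheory.Limits AlgebraicGeometry TopologicalSpace Opposite

namespace Groth.Agent.Lib.Helper20.ZeroIdeal

open Groth.Agent.Lib.Helper23.SecTw Groth.Agent.Lib.Helper23.GenLocus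
  Groth.Agent.Lib.Helper23.Extend Groth.Agent.Lib.Helper6 Groth.Agent.Lib.Helper27ZeroScheme
  Groth.Agent.Lib.Helper2.QCoh

variable {X : Scheme.{u}} (L : X.Modules) (s : Coh.structureModule X ⟶ L)

/-- `PicF2.zeroIdealOn` as an ideal of `Γ(X, U)`. -/
def zI (U : X.Opens) : Ideal Γ(X, U) := PicF2.zeroIdealOn L s U

theorem mem_zI (U : X.Opens) (a : Γ(X, U)) :
    a ∈ zI L s U ↔ ∀ m : Γ(L, U), ∃ b : Γ(X, U), a • m = b • sv s U := Iff.rfl

variable [L.IsQuasicoherent]

theorem map_zI_le {U : X.Opens} (hU : IsAffineOpen U) (g : Γ(X, U)) :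
    (zI L s U).map (X.presheaf.map (homOfLE (X.basicOpen_le g)).op).hom ≤
      zI L s (X.basicOpen g) := by
  rw [Ideal.map_le_iff_le_comap]
  intro a ha
  rw [Ideal.mem_comap, mem_zI]
  intro m'
  obtain ⟨n, t, ht⟩ := exists_extension hU L g m'
  obtain ⟨b, hb⟩ := (mem_zI L s U a).mp ha t
  have h1 := congrArg (res L (X.basicOpen_le g)) hb
  rw [res_smul, res_smul, res_sv] at h1
  change resf (X.basicOpen_le g) a • res L (X.basicOpen_le g) t = _ at h1
  have ht' : res L (X.basicOpen_le g) t = resf (X.basicOpen_le g) g ^ n • m' := ht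
  rw [ht'] at h1
  have hu : IsUnit (resf (X.basicOpen_le g) g) := RingedSpace.isUnit_res_basicOpen _ g
  obtain ⟨u, hu⟩ := hu
  refine ⟨(↑(u⁻¹ ^ n) : Γ(X, X.basicOpen g)) * resf (X.basicOpen_le g) b, ?_⟩
  change resf (X.basicOpen_le g) a • m' = _
  rw [mul_smul, ← h1, ← hu, smul_comm (resf (X.basicOpen_le g) a), smul_smul, ← Units.val_pow_eq_pow_val,
    ← Units.val_mul, inv_pow, inv_mul_cancel, Units.val_one, one_smul]


theorem le_map_zI {U : X.Opens} (hU : IsAffineOpen U) [Module.Finite Γ(X, U) Γ(L, U)]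
    (g : Γ(X, U)) :
    zI L s (X.basicOpen g) ≤
      (zI L s U).map (X.presheaf.map (homOfLE (X.basicOpen_le g)).op).hom := by
  classical
  intro a' ha'
  haveI := hU.isLocalization_basicOpen g
  obtain ⟨S, hS⟩ := (Module.Finite.fg_top : (⊤ : Submodule Γ(X, U) Γ(L, U)).FG)
  have hρ : ∀ r : Γ(X, U), algebraMap Γ(X, U) Γ(X, X.basicOpen g) r = resf (X.basicOpen_le g) r :=
    fun r => rfl
  -- coefficients
  have hb' : ∀ m : Γ(L, U), ∃ b' : Γ(X, X.basicOpen g),
      a' • res L (X.basicOpen_le g) m = b' • sv s (X.basicOpen g) :=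
    fun m => (mem_zI L s _ a').mp ha' _
  choose b' hb' using hb'
  obtain ⟨d, hd⟩ := IsLocalization.exist_integer_multiples_of_finset (Submonoid.powers g)
    (insert a' (S.image b'))
  obtain ⟨K, hK⟩ := d.2
  obtain ⟨a₀, ha₀⟩ := hd a' (Finset.mem_insert_self _ _)
  have hbm : ∀ m ∈ S, ∃ b₀ : Γ(X, U), resf (X.basicOpen_le g) b₀ = resf (X.basicOpen_le g) d.1 * b' m := by
    intro m hm
    obtain ⟨b₀, hb₀⟩ := hd (b' m) (Finset.mem_insert_of_mem (Finset.mem_image_of_mem _ hm))
    exact ⟨b₀, by rw [← hρ, hb₀, Algebra.smul_def, hρ]⟩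
  have ha₀' : resf (X.basicOpen_le g) a₀ = resf (X.basicOpen_le g) d.1 * a' := by
    rw [← hρ, ha₀, Algebra.smul_def, hρ]
  -- for each generator a power of `g` kills the difference
  have hN : ∀ m ∈ S, ∃ (N : ℕ) (b₀ : Γ(X, U)), g ^ N • (a₀ • m - b₀ • sv s U) = 0 := by
    intro m hm
    obtain ⟨b₀, hb₀⟩ := hbm m hm
    have h0 : L.presheaf.map (homOfLE (X.basicOpen_le g)).op (a₀ • m - b₀ • sv s U) = 0 := by
      change res L (X.basicOpen_le g) (a₀ • m - b₀ • sv s U) = 0
      rw [res_sub, res_smul, res_smul, res_sv, ha₀', hb₀, mul_smul, mul_smul, hb' m, sub_self]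
    obtain ⟨N, hN⟩ := exists_pow_smul_eq_zero hU L g _ h0
    exact ⟨N, b₀, hN⟩
  choose! N b₀ hNb using hN
  let N₀ := S.sup N
  have hmem : g ^ N₀ * a₀ ∈ zI L s U := by
    rw [mem_zI]
    have hsub : ∀ m ∈ (⊤ : Submodule Γ(X, U) Γ(L, U)),
        ∃ b : Γ(X, U), (g ^ N₀ * a₀) • m = b • sv s U := by
      rw [← hS]
      intro m hm
      induction hm using Submodule.span_induction with
      | mem m hm =>
        have hle : N m ≤ N₀ := Finset.le_sup (f := N) hm
        refine ⟨g ^ N₀ * b₀ m, ?_⟩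
        have h1 := hNb m hm
        rw [smul_sub, sub_eq_zero] at h1
        have h2 : g ^ N₀ = g ^ (N₀ - N m) * g ^ N m := by rw [← pow_add, Nat.sub_add_cancel hle]
        rw [mul_smul, mul_smul, h2, mul_smul, h1, mul_smul]
      | zero => exact ⟨0, by rw [smul_zero, zero_smul]⟩
      | add m m' _ _ hm hm' =>
        obtain ⟨b, hb⟩ := hm
        obtain ⟨c, hc⟩ := hm'
        exact ⟨b + c, by rw [smul_add, hb, hc, add_smul]⟩
      | smul r m _ hm =>
        obtain ⟨b, hb⟩ := hm
        exact ⟨r * b, by rw [smul_comm, hb, mul_smul]⟩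
    exact fun m => hsub m trivial
  have hu : IsUnit (resf (X.basicOpen_le g) g) := RingedSpace.isUnit_res_basicOpen _ g
  have hu2 : IsUnit (resf (X.basicOpen_le g) (g ^ N₀ * d.1)) := by
    rw [← hK, ← pow_add, resf_pow]
    exact hu.pow _
  obtain ⟨v, hv⟩ := hu2
  have h3 : a' = (↑v⁻¹ : Γ(X, X.basicOpen g)) * resf (X.basicOpen_le g) (g ^ N₀ * a₀) := by
    rw [resf_mul, ha₀', ← mul_assoc, ← mul_assoc, mul_assoc (↑v⁻¹ : Γ(X, X.basicOpen g)), ← resf_mul, ← hv,
      Units.inv_mul, one_mul]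
  rw [h3]
  exact Ideal.mul_mem_left _ _ (Ideal.mem_map_of_mem _ hmem)

theorem map_zI {U : X.Opens} (hU : IsAffineOpen U) [Module.Finite Γ(X, U) Γ(L, U)]
    (g : Γ(X, U)) :
    (zI L s U).map (X.presheaf.map (homOfLE (X.basicOpen_le g)).op).hom =
      zI L s (X.basicOpen g) :=
  le_antisymm (map_zI_le L s hU g) (le_map_zI L s hU g)


/-- the quasi-coherent ideal sheaf with values `zI`. -/
noncomputable def zSheaf (hfin : ∀ U : X.affineOpens, Module.Finite Γ(X, U.1) Γ(L, U.1)) :
    X.IdealSheafData where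
  ideal U := zI L s U.1
  map_ideal_basicOpen U g := by
    haveI := hfin U
    exact map_zI L s U.2 g

theorem zeroScheme_eq_zSheaf (hfin : ∀ U : X.affineOpens, Module.Finite Γ(X, U.1) Γ(L, U.1)) :
    PicF2.zeroScheme L s = zSheaf L s hfin :=
  Scheme.IdealSheafData.ofIdeals_ideal (zSheaf L s hfin)

/-- the ideal of the zero scheme on every affine open is `zeroIdealOn`. -/
theorem zeroScheme_ideal (hfin : ∀ U : X.affineOpens, Module.Finite Γ(X, U.1) Γ(L, U.1))
    (U : X.affineOpens) : (PicF2.zeroScheme L s).ideal U = zI L s U.1 := by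
  rw [zeroScheme_eq_zSheaf L s hfin]
  rfl

omit [L.IsQuasicoherent] in
/-- on a frame the ideal `zI` is generated by the local equation. -/
theorem zI_eq_span_of_isGen {W : X.Opens} {e : Γ(L, W)} (he : IsGen L W e) {c : Γ(X, W)}
    (hc : sv s W = c • e) : zI L s W = Ideal.span {c} := by
  ext a
  rw [mem_zI, Ideal.mem_span_singleton']
  constructor
  · intro h
    obtain ⟨b, hb⟩ := h e
    refine ⟨b, ?_⟩
    apply (he W le_rfl).1
    change (b * c) • res L le_rfl e = a • res L le_rfl e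
    rw [res_self, mul_smul, ← hc, hb]
  · rintro ⟨b, rfl⟩ m
    refine ⟨b * coef he le_rfl m, ?_⟩
    conv_lhs => rw [← coef_spec he le_rfl m]
    rw [res_self, hc, ← mul_smul, ← mul_smul]
    congr 1
    ring


omit [L.IsQuasicoherent] in
theorem finite_sections_of_isInvertible (hL : PicF.IsInvertible L) (U : X.affineOpens) :
    Module.Finite Γ(X, U.1) Γ(L, U.1) := by
  haveI := Groth.Agent.Lib.Helper23.SecTw.isQuasicoherent_of_isInvertible L hL
  haveI := Groth.Agent.Lib.Helper20.ZClosLib.isFiniteType_of_isInvertible L hL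
  exact Groth.Agent.Lib.Helper23.FinType.finite_of_isFiniteType L U.2

omit [L.IsQuasicoherent] in
/-- **local equation of the zero scheme**: for `L` invertible, on an affine frame `(W, e)` with
`s = c • e`, the ideal of `Z(s)` on `W` is generated by `c`. -/
theorem zeroScheme_ideal_eq_span (hL : PicF.IsInvertible L) {W : X.Opens} (hW : IsAffineOpen W)
    {e : Γ(L, W)} (he : IsGen L W e) {c : Γ(X, W)} (hc : sv s W = c • e) :
    (PicF2.zeroScheme L s).ideal ⟨W, hW⟩ = Ideal.span {c} := by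
  haveI := Groth.Agent.Lib.Helper23.SecTw.isQuasicoherent_of_isInvertible L hL
  rw [zeroScheme_ideal L s (finite_sections_of_isInvertible L hL) ⟨W, hW⟩]
  exact zI_eq_span_of_isGen L s he hc

end Groth.Agent.Lib.Helper20.ZeroIdeal
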