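import Mathlib
import Groth.Agent.Lib.Helper11BlanchardA

/-!
# Surjective scheme-theoretically dominant quasi-compact morphisms are epimorphisms (helper11)

Also: a pair of ring maps `C → R₁`, `C → R₂` which is jointly injective, with `Spec R₁ → Spec C`
surjective, gives a jointly epimorphic pair of morphisms of schemes.
-/

set_option autoImplicit false
universe u

open CategoryTheory Limits AlgebraicGeometry

namespace Groth.Agent.Lib.Helper11.Epi

/-- surjective + scheme-theoretically dominant + quasi-compact ⇒ epi in schemes -/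
theorem eq_of_comp_eq {P Q Z : Scheme.{u}} (F : P ⟶ Q) [IsSchemeTheoreticallyDominant F]
    [QuasiCompact F] [Surjective F] (a b : Q ⟶ Z) (h : F ≫ a = F ≫ b) : a = b := by
  have hbase : ∀ q : Q, a q = b q := by
    intro q
    obtain ⟨p, rfl⟩ := F.surjective q
    rw [← Scheme.Hom.comp_apply, ← Scheme.Hom.comp_apply, h]
  apply Scheme.hom_ext_of_forall
  intro q
  obtain ⟨V, hV, hqV⟩ : ∃ V : Z.Opens, IsAffineOpen V ∧ a q ∈ V := by
    obtain ⟨_, ⟨V, hV, rfl⟩, hqV, -⟩ :=
      Z.isBasis_affineOpens.exists_subset_of_mem_open (Set.mem_univ (a q)) isOpen_univ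
    exact ⟨V, hV, hqV⟩
  have hV' : IsAffine (V : Scheme.{u}) := hV
  let W : Q.Opens := a ⁻¹ᵁ V
  have hWb : W = b ⁻¹ᵁ V := by
    ext x
    show a x ∈ V ↔ b x ∈ V
    rw [hbase x]
  refine ⟨W, hqV, ?_⟩
  have hra : Set.range (W.ι ≫ a).base ⊆ Set.range V.ι.base := by
    rw [Scheme.Opens.range_ι]
    rintro _ ⟨x, rfl⟩
    exact x.2
  have hrb : Set.range (W.ι ≫ b).base ⊆ Set.range V.ι.base := by
    rw [Scheme.Opens.range_ι]
    rintro _ ⟨x, rfl⟩
    show b x.1 ∈ V
    rw [← hbase x.1]
    exact x.2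
  let a' : (W : Scheme.{u}) ⟶ (V : Scheme.{u}) := IsOpenImmersion.lift V.ι (W.ι ≫ a) hra
  let b' : (W : Scheme.{u}) ⟶ (V : Scheme.{u}) := IsOpenImmersion.lift V.ι (W.ι ≫ b) hrb
  have ha' : a' ≫ V.ι = W.ι ≫ a := IsOpenImmersion.lift_fac _ _ _
  have hb' : b' ≫ V.ι = W.ι ≫ b := IsOpenImmersion.lift_fac _ _ _
  have hinj : Function.Injective (F ∣_ W).appTop := by
    rw [morphismRestrict_appTop]
    have h1 := F.app_injective (W.ι ''ᵁ ⊤)
    intro x y hxy
    apply h1
    have h2 : Function.Injective (P.presheaf.map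
        (eqToHom (image_morphismRestrict_preimage F W ⊤)).op) :=
      (ConcreteCategory.bijective_of_isIso _).1
    apply h2
    exact hxy
  have hab : a' = b' := by
    apply Groth.Agent.Lib.Helper11Blanchard.eq_of_comp_eq_of_isAffine (F ∣_ W) hinj
    rw [← cancel_mono V.ι, Category.assoc, Category.assoc, ha', hb', ← Category.assoc,
      ← Category.assoc, morphismRestrict_ι, Category.assoc, Category.assoc, h]
  rw [← ha', ← hb', hab]

section Pair

variable {C R₁ R₂ : Type u} [CommRing C] [CommRing R₁] [CommRing R₂]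

lemma injective_appTop_SpecMap {A A' : Type u} [CommRing A] [CommRing A'] (φ : A →+* A')
    (hφ : Function.Injective φ) :
    Function.Injective (Spec.map (CommRingCat.ofHom φ)).appTop := by
  have h := Scheme.ΓSpecIso_inv_naturality (CommRingCat.ofHom φ)
  have h2 : (Spec.map (CommRingCat.ofHom φ)).appTop =
      (Scheme.ΓSpecIso (CommRingCat.of A)).hom ≫ CommRingCat.ofHom φ ≫
        (Scheme.ΓSpecIso (CommRingCat.of A')).inv := by
    rw [h, Iso.hom_inv_id_assoc]
  rw [h2]
  intro x y hxy
  have e1 : Function.Injective (Scheme.ΓSpecIso (CommRingCat.of A)).hom :=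
    (ConcreteCategory.bijective_of_isIso _).1
  have e2 : Function.Injective (Scheme.ΓSpecIso (CommRingCat.of A')).inv :=
    (ConcreteCategory.bijective_of_isIso _).1
  apply e1
  apply hφ
  apply e2
  exact hxy

/-- a jointly injective pair of ring maps out of `C`, the first surjective on spectra, gives a
jointly epimorphic pair of morphisms to `Spec C` -/
theorem eq_of_pair {Z : Scheme.{u}} (p₁ : C →+* R₁) (p₂ : C →+* R₂)
    (hinj : Function.Injective (p₁.prod p₂))
    (hsurj : Function.Surjective (Spec.map (CommRingCat.ofHom p₁)))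
    (a b : Spec (CommRingCat.of C) ⟶ Z)
    (h₁ : Spec.map (CommRingCat.ofHom p₁) ≫ a = Spec.map (CommRingCat.ofHom p₁) ≫ b)
    (h₂ : Spec.map (CommRingCat.ofHom p₂) ≫ a = Spec.map (CommRingCat.ofHom p₂) ≫ b) : a = b := by
  let F : Spec (CommRingCat.of (R₁ × R₂)) ⟶ Spec (CommRingCat.of C) :=
    Spec.map (CommRingCat.ofHom (p₁.prod p₂))
  have hF1 : Spec.map (CommRingCat.ofHom (RingHom.fst R₁ R₂)) ≫ F =
      Spec.map (CommRingCat.ofHom p₁) := by
    rw [← Spec.map_comp, ← CommRingCat.ofHom_comp, RingHom.fst_comp_prod]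
  have hF2 : Spec.map (CommRingCat.ofHom (RingHom.snd R₁ R₂)) ≫ F =
      Spec.map (CommRingCat.ofHom p₂) := by
    rw [← Spec.map_comp, ← CommRingCat.ofHom_comp, RingHom.snd_comp_prod]
  have hqc : QuasiCompact F := inferInstance
  have hsurjF : Surjective F := by
    constructor
    intro q
    obtain ⟨x, hx⟩ := hsurj q
    refine ⟨Spec.map (CommRingCat.ofHom (RingHom.fst R₁ R₂)) x, ?_⟩
    rw [← Scheme.Hom.comp_apply, hF1, hx]
  have hdom : IsSchemeTheoreticallyDominant F := by
    rw [isSchemeTheoreticallyDominant_iff]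
    apply Scheme.IdealSheafData.ext_of_isAffine
    rw [Scheme.Hom.ker_apply, Scheme.IdealSheafData.ideal_bot]
    exact (RingHom.injective_iff_ker_eq_bot _).mp (injective_appTop_SpecMap _ hinj)
  apply eq_of_comp_eq F
  rw [← cancel_epi (coprodSpec R₁ R₂)]
  apply coprod.hom_ext
  · rw [← Category.assoc, ← Category.assoc, coprodSpec_inl, ← Category.assoc, ← Category.assoc,
      hF1, h₁, coprodSpec_inl, hF1]
  · rw [← Category.assoc, ← Category.assoc, coprodSpec_inr, ← Category.assoc, ← Category.assoc,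
      hF2, h₂, coprodSpec_inr, hF2]

end Pair

end Groth.Agent.Lib.Helper11.Epi
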