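import Groth.Agent.Lib.Helper11Classify

/-!
Genus one classification: the exceptional configurations are everything.
-/

namespace Groth.Agent.Lib.Helper11

open Finset Models

variable {n : ℕ} {T : Models.NumericalType n}

theorem hB_sp {t : ℕ} (u : Fin (t + 1) ↪ Fin n) (k : ℕ)
    (hpath : ∀ j j' : Fin (t + 1), j'.val = j.val + 1 → j'.val < t → T.a (u j) (u j') ≠ 0)
    (hpend : ∀ j j' : Fin (t + 1), j.val = k → j'.val = t → T.a (u j) (u j') ≠ 0) :
    ∀ p q, p ≠ q → Bsp t k p q ≤ kk T (u p) (u q) := by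
  intro p q hpq
  unfold Bsp
  split_ifs with h
  · rcases h with h | h | h | h
    · exact K_pos T u hpq (hpath p q h.1 h.2)
    · exact K_pos' T u hpq.symm (hpath q p h.1 h.2)
    · exact K_pos T u hpq (hpend p q h.1 h.2)
    · exact K_pos' T u hpq.symm (hpend q p h.1 h.2)
  · exact K_nonneg T u hpq

/-- null vector of the completed `E7` -/
def cE7 : Fin 8 → ℤ := ![1, 2, 3, 4, 3, 2, 1, 2]

/-- null vector of the completed `E8` -/
def cE8 : Fin 9 → ℤ := ![1, 2, 3, 4, 5, 6, 4, 2, 3]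

theorem excE7 (h2 : ∀ i, T.IsMinusTwo i) (u : Fin 8 ↪ Fin n) (h : IsE7cfg T u) :
    8 = n ∧ (∀ p q, p ≠ q → kk T (u p) (u q) = Bsp 7 3 p q) ∧
      (∀ p q, cE7 p * T.m (u q) = cE7 q * T.m (u p)) := by
  obtain ⟨hkn, -, hK, hprop⟩ := affine_master T u (fun j => h2 _) cE7 (by decide) (by omega)
    (Bsp 7 3) (hB_sp u 3 (fun j j' hj hj' => h.1 j j' hj (by omega))
      (fun j j' hj hj' => by
        rw [show j = 3 from Fin.ext hj, show j' = 7 from Fin.ext hj']; exact h.2)) (by decide)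
  exact ⟨hkn, hK, hprop⟩

theorem excE8 (h2 : ∀ i, T.IsMinusTwo i) (u : Fin 9 ↪ Fin n) (h : IsE8cfg T u) :
    9 = n ∧ (∀ p q, p ≠ q → kk T (u p) (u q) = Bsp 8 5 p q) ∧
      (∀ p q, cE8 p * T.m (u q) = cE8 q * T.m (u p)) := by
  obtain ⟨hkn, -, hK, hprop⟩ := affine_master T u (fun j => h2 _) cE8 (by decide) (by omega)
    (Bsp 8 5) (hB_sp u 5 (fun j j' hj hj' => h.1 j j' hj (by omega))
      (fun j j' hj hj' => by
        rw [show j = 5 from Fin.ext hj, show j' = 8 from Fin.ext hj']; exact h.2)) (by decide)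
  exact ⟨hkn, hK, hprop⟩

/-- Cartan integers of the completed `D4` -/
def BD4 (p q : Fin 5) : ℤ := if p.val = 0 ∨ q.val = 0 then 1 else 0

/-- null vector of the completed `D4` -/
def cD4 : Fin 5 → ℤ := ![2, 1, 1, 1, 1]

theorem excD4 (h2 : ∀ i, T.IsMinusTwo i) (u : Fin 5 ↪ Fin n) (h : IsD4cfg T u) :
    5 = n ∧ (∀ p q, p ≠ q → kk T (u p) (u q) = BD4 p q) ∧
      (∀ p q, cD4 p * T.m (u q) = cD4 q * T.m (u p)) := by
  obtain ⟨hkn, -, hK, hprop⟩ := affine_master T u (fun j => h2 _) cD4 (by decide) (by omega)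
    BD4 (by
      intro p q hpq
      unfold BD4
      split_ifs with h'
      · rcases h' with h' | h'
        · have hp : p = 0 := Fin.ext h'
          subst hp
          exact K_pos T u hpq (h q hpq.symm)
        · have hq : q = 0 := Fin.ext h'
          subst hq
          exact K_pos' T u hpq.symm (h p hpq)
      · exact K_nonneg T u hpq) (by decide)
  exact ⟨hkn, hK, hprop⟩

/-- Cartan integers of the completed `E6` -/
def BE6 (p q : Fin 7) : ℤ :=
  if (p.val = 0 ∧ q.val = 1) ∨ (p.val = 1 ∧ q.val = 2) ∨ (p.val = 2 ∧ q.val = 4) ∨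
    (p.val = 2 ∧ q.val = 6) ∨ (p.val = 3 ∧ q.val = 4) ∨ (p.val = 5 ∧ q.val = 6) ∨
    (q.val = 0 ∧ p.val = 1) ∨ (q.val = 1 ∧ p.val = 2) ∨ (q.val = 2 ∧ p.val = 4) ∨
    (q.val = 2 ∧ p.val = 6) ∨ (q.val = 3 ∧ p.val = 4) ∨ (q.val = 5 ∧ p.val = 6) then 1 else 0

/-- null vector of the completed `E6` -/
def cE6 : Fin 7 → ℤ := ![1, 2, 3, 1, 2, 1, 2]

theorem excE6 (h2 : ∀ i, T.IsMinusTwo i) (u : Fin 7 ↪ Fin n) (h : IsE6cfg T u) :
    7 = n ∧ (∀ p q, p ≠ q → kk T (u p) (u q) = BE6 p q) ∧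
      (∀ p q, cE6 p * T.m (u q) = cE6 q * T.m (u p)) := by
  obtain ⟨e01, e12, e24, e26, e34, e56⟩ := h
  obtain ⟨hkn, -, hK, hprop⟩ := affine_master T u (fun j => h2 _) cE6 (by decide) (by omega)
    BE6 (by
      intro p q hpq
      unfold BE6
      split_ifs with h'
      · rcases h' with h' | h' | h' | h' | h' | h' | h' | h' | h' | h' | h' | h'
        · rw [show p = 0 from Fin.ext h'.1, show q = 1 from Fin.ext h'.2]
          exact K_pos T u (by decide) e01
        · rw [show p = 1 from Fin.ext h'.1, show q = 2 from Fin.ext h'.2]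
          exact K_pos T u (by decide) e12
        · rw [show p = 2 from Fin.ext h'.1, show q = 4 from Fin.ext h'.2]
          exact K_pos T u (by decide) e24
        · rw [show p = 2 from Fin.ext h'.1, show q = 6 from Fin.ext h'.2]
          exact K_pos T u (by decide) e26
        · rw [show p = 3 from Fin.ext h'.1, show q = 4 from Fin.ext h'.2]
          exact K_pos T u (by decide) e34
        · rw [show p = 5 from Fin.ext h'.1, show q = 6 from Fin.ext h'.2]
          exact K_pos T u (by decide) e56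
        · rw [show q = 0 from Fin.ext h'.1, show p = 1 from Fin.ext h'.2]
          exact K_pos' T u (by decide) e01
        · rw [show q = 1 from Fin.ext h'.1, show p = 2 from Fin.ext h'.2]
          exact K_pos' T u (by decide) e12
        · rw [show q = 2 from Fin.ext h'.1, show p = 4 from Fin.ext h'.2]
          exact K_pos' T u (by decide) e24
        · rw [show q = 2 from Fin.ext h'.1, show p = 6 from Fin.ext h'.2]
          exact K_pos' T u (by decide) e26
        · rw [show q = 3 from Fin.ext h'.1, show p = 4 from Fin.ext h'.2]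
          exact K_pos' T u (by decide) e34
        · rw [show q = 5 from Fin.ext h'.1, show p = 6 from Fin.ext h'.2]
          exact K_pos' T u (by decide) e56
      · exact K_nonneg T u hpq) (by decide)
  exact ⟨hkn, hK, hprop⟩

/-- Cartan integers of the chain of five vertices with third edge of type `(a, a')` -/
def BF (a a' : ℤ) (p q : Fin 5) : ℤ :=
  if q.val = p.val + 1 then (if p.val = 2 then a else 1)
  else if p.val = q.val + 1 then (if q.val = 2 then a' else 1)
  else 0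

/-- null vector of the completed `F4` -/
def cF4 : Fin 5 → ℤ := ![1, 2, 3, 2, 1]

/-- null vector of the twisted `E6` -/
def cE62 : Fin 5 → ℤ := ![1, 2, 3, 4, 2]

theorem hB_F (u : Fin 5 ↪ Fin n) (hpath : IsPath T u) {a a' : ℤ}
    (ha : a ≤ kk T (u 2) (u 3)) (ha' : a' ≤ kk T (u 3) (u 2)) :
    ∀ p q, p ≠ q → BF a a' p q ≤ kk T (u p) (u q) := by
  intro p q hpq
  unfold BF
  split_ifs with h1 h2 h3 h4
  · rw [show p = 2 from Fin.ext h2, show q = 3 from Fin.ext (by omega)]
    exact ha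
  · exact K_pos T u hpq (hpath p q h1)
  · rw [show q = 2 from Fin.ext h4, show p = 3 from Fin.ext (by omega)]
    exact ha'
  · exact K_pos' T u hpq.symm (hpath q p h3)
  · exact K_nonneg T u hpq

theorem excF4 (h2 : ∀ i, T.IsMinusTwo i) (u : Fin 5 ↪ Fin n) (h : IsF4cfg T u) :
    5 = n ∧ (∀ p q, p ≠ q → kk T (u p) (u q) = BF 2 1 p q) ∧
      (∀ p q, cF4 p * T.m (u q) = cF4 q * T.m (u p)) := by
  obtain ⟨hkn, -, hK, hprop⟩ := affine_master T u (fun j => h2 _) cF4 (by decide) (by omega)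
    (BF 2 1) (hB_F u h.1 h.2 (K_pos' T u (by decide) (h.1 2 3 rfl))) (by decide)
  exact ⟨hkn, hK, hprop⟩

theorem excE62 (h2 : ∀ i, T.IsMinusTwo i) (u : Fin 5 ↪ Fin n) (h : IsE62cfg T u) :
    5 = n ∧ (∀ p q, p ≠ q → kk T (u p) (u q) = BF 1 2 p q) ∧
      (∀ p q, cE62 p * T.m (u q) = cE62 q * T.m (u p)) := by
  obtain ⟨hkn, -, hK, hprop⟩ := affine_master T u (fun j => h2 _) cE62 (by decide) (by omega)
    (BF 1 2) (hB_F u h.1 (K_pos T u (by decide) (h.1 2 3 rfl)) h.2) (by decide)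
  exact ⟨hkn, hK, hprop⟩

end Groth.Agent.Lib.Helper11
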