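import Mathlib

set_option autoImplicit false

namespace Groth.Agent.Lib.Helper11LT

open MvPowerSeries

variable {R : Type*} [CommRing R] {σ : Type*}

/-- the substitution vector `X_i ↦ c X_i + X_i^q`. -/
noncomputable def av (c : R) (q : ℕ) : σ → MvPowerSeries σ R := fun i => c • X i + X i ^ q

lemma av_eq (c : R) (q : ℕ) (hq : 1 ≤ q) (i : σ) :
    av c q i = X i * (C c + X i ^ (q - 1)) := by
  unfold av
  rw [mul_add, ← pow_succ', Nat.sub_add_cancel hq, smul_eq_C_mul, mul_comm]

lemma constantCoeff_av (c : R) (q : ℕ) (hq : 1 ≤ q) (i : σ) :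
    constantCoeff (av c q i : MvPowerSeries σ R) = 0 := by
  rw [av_eq c q hq]; simp

lemma hasSubst_av [Finite σ] (c : R) (q : ℕ) (hq : 1 ≤ q) :
    HasSubst (av c q : σ → MvPowerSeries σ R) :=
  hasSubst_of_constantCoeff_zero (constantCoeff_av c q hq)

/-- The operator `H ↦ H ∘ (c X + X^q)`. -/
noncomputable def Phi (c : R) (q : ℕ) (H : MvPowerSeries σ R) : MvPowerSeries σ R :=
  subst (av c q) H

lemma av_pow_eq (c : R) (q : ℕ) (hq : 1 ≤ q) (d : σ →₀ ℕ) :
    (d.prod fun s e => (av c q s : MvPowerSeries σ R) ^ e) =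
      monomial d 1 * d.prod fun s e => (C c + X s ^ (q - 1)) ^ e := by
  rw [monomial_eq', map_one, one_mul, ← Finsupp.prod_mul]
  apply Finsupp.prod_congr
  intro s _
  rw [av_eq c q hq, mul_pow]

lemma constantCoeff_vprod (c : R) (q : ℕ) (hq : 2 ≤ q) (d : σ →₀ ℕ) :
    constantCoeff (d.prod fun s e => ((C c + X s ^ (q - 1)) ^ e : MvPowerSeries σ R)) =
      c ^ d.degree := by
  rw [map_finsuppProd]
  have h1 : q - 1 ≠ 0 := by omega
  simp only [map_pow, map_add, constantCoeff_C, constantCoeff_X, ne_eq, h1, not_false_eq_true,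
    zero_pow, add_zero]
  rw [Finsupp.prod, Finset.prod_pow_eq_pow_sum, Finsupp.degree_apply]

lemma order_le_of_phi [Finite σ] (c : R) (q : ℕ) (hq : 1 ≤ q) (D : MvPowerSeries σ R) :
    D.order ≤ (Phi c q D).order := by
  unfold Phi
  refine le_trans ?_ (le_order_subst (hasSubst_av c q hq) D)
  have h1 : (1 : ℕ∞) ≤ ⨅ i, (av c q i : MvPowerSeries σ R).order := by
    refine le_iInf fun i => ?_
    rw [one_le_order_iff_constCoeff_eq_zero]
    exact constantCoeff_av c q hq i
  calc D.order = 1 * D.order := (one_mul _).symm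
    _ ≤ _ := mul_le_mul_left h1 _

lemma coeff_phi [Finite σ] (c : R) (q : ℕ) (hq : 2 ≤ q) (D : MvPowerSeries σ R) (r : ℕ)
    (hD : (r : ℕ∞) ≤ D.order) (e : σ →₀ ℕ) (he : e.degree = r) :
    coeff e (Phi c q D) = c ^ r * coeff e D := by
  classical
  unfold Phi
  rw [coeff_subst (hasSubst_av c q (by omega))]
  rw [finsum_eq_single _ e]
  · rw [av_pow_eq c q (by omega), coeff_monomial_mul, if_pos le_rfl, one_mul, tsub_self,
      coeff_zero_eq_constantCoeff_apply, constantCoeff_vprod c q hq, he, smul_eq_mul, mul_comm]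
  · intro d hd
    by_cases h0 : coeff d D = 0
    · rw [h0, zero_smul]
    · have h1 : (r : ℕ∞) ≤ d.degree := le_trans hD (order_le h0)
      have h1' : r ≤ d.degree := by exact_mod_cast h1
      rw [av_pow_eq c q (by omega), coeff_monomial_mul]
      rw [if_neg, smul_zero]
      intro hle
      apply hd
      have h2 : e = d + (e - d) := (add_tsub_cancel_of_le hle).symm
      have h3 : e.degree = d.degree + (e - d).degree := by
        conv_lhs => rw [h2]
        rw [map_add]
      have h4 : (e - d).degree = 0 := by omega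
      rw [Finsupp.degree_eq_zero_iff] at h4
      rw [h2, h4, add_zero]


/-! ### order calculus -/

lemma order_sub_ge {A B : MvPowerSeries σ R} {n : ℕ∞} (hA : n ≤ A.order) (hB : n ≤ B.order) :
    n ≤ (A - B).order := by
  rw [sub_eq_add_neg]
  refine le_trans ?_ min_order_le_add
  rw [order_neg]
  exact le_min hA hB

lemma order_add_ge {A B : MvPowerSeries σ R} {n : ℕ∞} (hA : n ≤ A.order) (hB : n ≤ B.order) :
    n ≤ (A + B).order :=
  le_trans (le_min hA hB) min_order_le_add

lemma order_smul_ge {A : MvPowerSeries σ R} {n : ℕ∞} (a : R) (hA : n ≤ A.order) :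
    n ≤ (a • A).order :=
  le_trans hA le_order_smul

lemma order_mul_ge {A B : MvPowerSeries σ R} {n m : ℕ∞} (hA : n ≤ A.order) (hB : m ≤ B.order) :
    n + m ≤ (A * B).order :=
  le_trans (add_le_add hA hB) le_order_mul

/-- `H^q - H'^q` gains one order over `H - H'` when `q ≥ 2` and `H, H'` have no constant term. -/
lemma order_pow_sub_pow (q : ℕ) (hq : 2 ≤ q) (H H' : MvPowerSeries σ R)
    (h1 : 1 ≤ H.order) (h2 : 1 ≤ H'.order) (r : ℕ) (hr : (r : ℕ∞) ≤ (H - H').order) :
    ((r + 1 : ℕ) : ℕ∞) ≤ (H ^ q - H' ^ q).order := by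
  rw [← geom_sum₂_mul, mul_comm]
  push_cast
  refine order_mul_ge hr ?_
  rw [one_le_order_iff_constCoeff_eq_zero] at h1 h2 ⊢
  rw [map_sum]
  apply Finset.sum_eq_zero
  intro i hi
  rw [Finset.mem_range] at hi
  rw [map_mul, map_pow, map_pow, h1, h2]
  by_cases hi0 : i = 0
  · have : q - 1 - i ≠ 0 := by omega
    rw [zero_pow this, mul_zero]
  · rw [zero_pow hi0, zero_mul]

/-- Core uniqueness: a series `D` of order `≥ 2` with `Phi D - c D` always one order better
than `D` vanishes. -/
lemma eq_zero_of_phi [Finite σ] [IsDomain R] (c : R) (q : ℕ) (hq : 2 ≤ q) (hc : c ≠ 0)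
    (hc1 : ∀ r : ℕ, 1 ≤ r → c ^ r ≠ 1) (D : MvPowerSeries σ R) (hD2 : 2 ≤ D.order)
    (hstep : ∀ r : ℕ, 2 ≤ r → (r : ℕ∞) ≤ D.order →
      ((r + 1 : ℕ) : ℕ∞) ≤ (Phi c q D - c • D).order) : D = 0 := by
  have key : ∀ r : ℕ, ((r + 2 : ℕ) : ℕ∞) ≤ D.order := by
    intro r
    induction r with
    | zero => simpa using hD2
    | succ r ih =>
      have h1 := hstep (r + 2) (by omega) ih
      refine le_order fun d hd => ?_
      have hd' : d.degree < r + 1 + 2 := by exact_mod_cast hd
      by_cases hlt : d.degree < r + 2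
      · exact coeff_of_lt_order (lt_of_lt_of_le (by exact_mod_cast hlt) ih)
      · have hdeg : d.degree = r + 2 := by omega
        have h2 : coeff d (Phi c q D - c • D) = 0 :=
          coeff_of_lt_order (lt_of_lt_of_le (by rw [hdeg]; exact_mod_cast Nat.lt_succ_self _) h1)
        rw [map_sub, coeff_phi c q hq D (r + 2) ih d hdeg, coeff_smul, ← sub_mul] at h2
        rcases mul_eq_zero.mp h2 with h3 | h3
        · exfalso
          have h4 : c * (c ^ (r + 1) - 1) = 0 := by rw [← h3]; ring
          rcases mul_eq_zero.mp h4 with h5 | h5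
          · exact hc h5
          · exact hc1 (r + 1) (by omega) (sub_eq_zero.mp h5)
        · exact h3
  rw [← order_eq_top_iff, ENat.eq_top_iff_forall_ge]
  intro m
  exact le_trans (by exact_mod_cast (by omega : m ≤ m + 2)) (key m)


/-! ### existence -/

lemma order_phi_sub_smul [Finite σ] (c : R) (q : ℕ) (hq : 2 ≤ q) (D : MvPowerSeries σ R) (r : ℕ)
    (hD : (r : ℕ∞) ≤ D.order) :
    ((r + 1 : ℕ) : ℕ∞) ≤ (Phi c q D - c ^ r • D).order := by
  refine le_order fun d hd => ?_
  have hd' : d.degree < r + 1 := by exact_mod_cast hd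
  by_cases hlt : d.degree < r
  · have h1 : (r : ℕ∞) ≤ (Phi c q D - c ^ r • D).order :=
      order_sub_ge (le_trans hD (order_le_of_phi c q (by omega) D)) (order_smul_ge _ hD)
    exact coeff_of_lt_order (lt_of_lt_of_le (by exact_mod_cast hlt) h1)
  · have hdeg : d.degree = r := by omega
    rw [map_sub, coeff_phi c q hq D r hD d hdeg, coeff_smul, sub_self]

lemma phi_add [Finite σ] (c : R) (q : ℕ) (hq : 1 ≤ q) (A B : MvPowerSeries σ R) :
    Phi c q (A + B) = Phi c q A + Phi c q B := by
  unfold Phi
  exact subst_add (hasSubst_av c q hq) A B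

lemma phi_sub [Finite σ] (c : R) (q : ℕ) (hq : 1 ≤ q) (A B : MvPowerSeries σ R) :
    Phi c q (A - B) = Phi c q A - Phi c q B := by
  unfold Phi
  exact subst_sub (hasSubst_av c q hq) A B

lemma phi_smul [Finite σ] (c : R) (q : ℕ) (hq : 1 ≤ q) (a : R) (A : MvPowerSeries σ R) :
    Phi c q (a • A) = a • Phi c q A := by
  unfold Phi
  exact subst_smul (hasSubst_av c q hq) a A

section Exist

variable [Finite σ] (c : R) (q : ℕ) (N : MvPowerSeries σ R → MvPowerSeries σ R)

/-- The defect of the functional equation `Phi H = c H + N H`. -/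
noncomputable def defect (H : MvPowerSeries σ R) : MvPowerSeries σ R :=
  Phi c q H - c • H - N H

open Classical in
/-- a chosen quotient `x / m` when it exists. -/
noncomputable def quo (x m : R) : R :=
  if h : ∃ y, m * y = x then Classical.choose h else 0

lemma quo_spec {x m : R} (h : ∃ y, m * y = x) : m * quo x m = x := by
  unfold quo
  rw [dif_pos h]
  exact Classical.choose_spec h

/-- The homogeneous correction term of degree `s`. -/
noncomputable def corr (H : MvPowerSeries σ R) (s : ℕ) : MvPowerSeries σ R :=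
  fun e => if e.degree = s then quo (coeff e (defect c q N H)) (c - c ^ s) else 0

lemma coeff_corr (H : MvPowerSeries σ R) (s : ℕ) (e : σ →₀ ℕ) :
    coeff e (corr c q N H s) =
      if e.degree = s then quo (coeff e (defect c q N H)) (c - c ^ s) else 0 := rfl

lemma order_corr (H : MvPowerSeries σ R) (s : ℕ) : (s : ℕ∞) ≤ (corr c q N H s).order := by
  refine le_order fun d hd => ?_
  have hd' : d.degree < s := by exact_mod_cast hd
  rw [coeff_corr, if_neg (by omega)]

/-- The sequence of successive approximations. -/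
noncomputable def seq (L : MvPowerSeries σ R) : ℕ → MvPowerSeries σ R
  | 0 => L
  | (r + 1) => seq L r + corr c q N (seq L r) (r + 2)

/-- The limit of the approximations. -/
noncomputable def lim (L : MvPowerSeries σ R) : MvPowerSeries σ R :=
  fun e => coeff e (seq c q N L e.degree)

lemma coeff_lim (L : MvPowerSeries σ R) (e : σ →₀ ℕ) :
    coeff e (lim c q N L) = coeff e (seq c q N L e.degree) := rfl

lemma seq_stable (L : MvPowerSeries σ R) (e : σ →₀ ℕ) (r : ℕ) (hr : e.degree ≤ r) :
    coeff e (seq c q N L r) = coeff e (seq c q N L e.degree) := by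
  induction r, hr using Nat.le_induction with
  | base => rfl
  | succ r hr ih =>
    rw [seq, map_add, ih, coeff_corr, if_neg (by omega), add_zero]

lemma order_lim_sub_seq (L : MvPowerSeries σ R) (r : ℕ) :
    ((r + 1 : ℕ) : ℕ∞) ≤ (lim c q N L - seq c q N L r).order := by
  refine le_order fun d hd => ?_
  have hd' : d.degree < r + 1 := by exact_mod_cast hd
  rw [map_sub, coeff_lim, seq_stable c q N L d r (by omega), sub_self]

variable (hq : 2 ≤ q)
  (hN1 : ∀ (H H' : MvPowerSeries σ R) (r : ℕ), 1 ≤ H.order → 1 ≤ H'.order →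
    (r : ℕ∞) ≤ (H - H').order → ((r + 1 : ℕ) : ℕ∞) ≤ (N H - N H').order)
  (hN0 : ∀ H : MvPowerSeries σ R, 1 ≤ H.order → 2 ≤ (N H).order)
  (hdiv : ∀ (H : MvPowerSeries σ R) (e : σ →₀ ℕ), 1 ≤ H.order → 2 ≤ e.degree →
    ∃ y, (c - c ^ e.degree) * y = coeff e (defect c q N H))

include hq hN1 hN0 hdiv

lemma defect_sub (H H' : MvPowerSeries σ R) (r : ℕ) (h1 : 1 ≤ H.order) (h2 : 1 ≤ H'.order)
    (hr : ((r + 1 : ℕ) : ℕ∞) ≤ (H - H').order) :
    ((r + 1 : ℕ) : ℕ∞) ≤ (defect c q N H - defect c q N H').order := by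
  have e1 : defect c q N H - defect c q N H' =
      Phi c q (H - H') - c • (H - H') - (N H - N H') := by
    unfold defect
    rw [phi_sub c q (by omega), smul_sub]
    abel
  rw [e1]
  refine order_sub_ge (order_sub_ge (le_trans hr (order_le_of_phi c q (by omega) _))
    (order_smul_ge _ hr)) ?_
  refine le_trans ?_ (hN1 H H' (r + 1) h1 h2 hr)
  exact_mod_cast Nat.le_succ _

lemma seq_inv (L : MvPowerSeries σ R) (hL : 1 ≤ L.order) (r : ℕ) :
    1 ≤ (seq c q N L r).order ∧ ((r + 2 : ℕ) : ℕ∞) ≤ (defect c q N (seq c q N L r)).order := by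
  induction r with
  | zero =>
    refine ⟨hL, ?_⟩
    unfold defect
    show _ ≤ (Phi c q L - c • L - N L).order
    refine order_sub_ge ?_ (by simpa using hN0 L hL)
    have := order_phi_sub_smul c q hq L 1 (by simpa using hL)
    simpa using this
  | succ r ih =>
    obtain ⟨ih1, ih2⟩ := ih
    set H := seq c q N L r with hH
    set E := corr c q N H (r + 2) with hE
    have hEo : ((r + 2 : ℕ) : ℕ∞) ≤ E.order := order_corr c q N H (r + 2)
    have hE1 : 1 ≤ E.order := le_trans (by exact_mod_cast (by omega : 1 ≤ r + 2)) hEo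
    have hHE : 1 ≤ (H + E).order := order_add_ge ih1 hE1
    refine ⟨hHE, ?_⟩
    show _ ≤ (defect c q N (H + E)).order
    have e1 : defect c q N (H + E) =
        (defect c q N H + (c ^ (r + 2) - c) • E) + (Phi c q E - c ^ (r + 2) • E)
          - (N (H + E) - N H) := by
      unfold defect
      rw [phi_add c q (by omega), smul_add, sub_smul]
      abel
    rw [e1]
    refine order_sub_ge (order_add_ge ?_ ?_) ?_
    · refine le_order fun d hd => ?_
      have hd' : d.degree < r + 1 + 2 := by exact_mod_cast hd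
      by_cases hlt : d.degree < r + 2
      · rw [map_add, coeff_smul, coeff_of_lt_order (lt_of_lt_of_le (by exact_mod_cast hlt) ih2),
          coeff_of_lt_order (lt_of_lt_of_le (by exact_mod_cast hlt) hEo), mul_zero, add_zero]
      · have hdeg : d.degree = r + 2 := by omega
        rw [map_add, coeff_smul, hE, coeff_corr, if_pos hdeg]
        have h3 := quo_spec (hdiv H d ih1 (by omega))
        rw [hdeg] at h3
        have : (c ^ (r + 2) - c) * quo (coeff d (defect c q N H)) (c - c ^ (r + 2)) =
            - coeff d (defect c q N H) := by linear_combination (-1 : R) * h3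
        rw [this, add_neg_cancel]
    · exact order_phi_sub_smul c q hq E (r + 2) hEo
    · refine hN1 (H + E) H (r + 2) hHE ih1 ?_
      rw [add_sub_cancel_left]
      exact hEo

theorem exists_sol (L : MvPowerSeries σ R) (hL : 1 ≤ L.order) :
    ∃ H : MvPowerSeries σ R, 2 ≤ (H - L).order ∧ Phi c q H = c • H + N H := by
  refine ⟨lim c q N L, ?_, ?_⟩
  · have h1 := order_lim_sub_seq c q N L 1
    have h2 : lim c q N L - L = (lim c q N L - seq c q N L 1) + corr c q N L 2 := by
      show _ = _ + corr c q N (seq c q N L 0) (0 + 2)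
      rw [seq]
      show _ = lim c q N L - (seq c q N L 0 + corr c q N (seq c q N L 0) (0 + 2)) +
        corr c q N (seq c q N L 0) (0 + 2)
      rw [seq]
      abel
    rw [h2]
    exact order_add_ge (by simpa using h1) (by simpa using order_corr c q N L 2)
  · have hlim1 : 1 ≤ (lim c q N L).order := by
      rw [one_le_order_iff_constCoeff_eq_zero, ← coeff_zero_eq_constantCoeff_apply, coeff_lim]
      have : (0 : σ →₀ ℕ).degree = 0 := map_zero _
      rw [this]
      show coeff 0 L = 0
      rw [coeff_zero_eq_constantCoeff_apply, ← one_le_order_iff_constCoeff_eq_zero]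
      exact hL
    have hd : defect c q N (lim c q N L) = 0 := by
      rw [← order_eq_top_iff, ENat.eq_top_iff_forall_ge]
      intro m
      obtain ⟨i1, i2⟩ := seq_inv c q N hq hN1 hN0 hdiv L hL m
      have h1 := defect_sub c q N hq hN1 hN0 hdiv (lim c q N L) (seq c q N L m) m hlim1 i1
        (order_lim_sub_seq c q N L m)
      have h2 : defect c q N (lim c q N L) =
          (defect c q N (lim c q N L) - defect c q N (seq c q N L m)) +
            defect c q N (seq c q N L m) := by abel
      rw [h2]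
      refine order_add_ge (le_trans (by exact_mod_cast Nat.le_succ m) h1)
        (le_trans (by exact_mod_cast (by omega : m ≤ m + 2)) i2)
    unfold defect at hd
    rw [sub_sub, sub_eq_zero] at hd
    exact hd

end Exist

end Groth.Agent.Lib.Helper11LT
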