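import Mathlib
import Groth.Agent.Lib.Helper11LTA

set_option autoImplicit false

namespace Groth.Agent.Lib.Helper11LT

open MvPowerSeries

variable {R : Type*} [CommRing R] {σ : Type*}

/-- Frobenius on power series over a finite field: `G^q = G(X^q)`. -/
lemma pow_card_eq_subst (k : Type*) [Field k] [Finite k] (G : MvPowerSeries σ k) :
    G ^ Nat.card k = subst (fun i => (X i : MvPowerSeries σ k) ^ Nat.card k) G := by
  classical
  have : Fintype k := Fintype.ofFinite k
  obtain ⟨p, hp, n, hpp, hcard⟩ := FiniteField.card' k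
  have := hp
  have : ExpChar k p := ExpChar.prime hpp
  rw [Nat.card_eq_fintype_card, hcard]
  have hp0 : p ≠ 0 := hpp.ne_zero
  have h1 := map_iterateFrobenius_expand p hp0 G (n : ℕ)
  have h2 : iterateFrobenius k p n = RingHom.id k := by
    ext x
    rw [iterateFrobenius_def, ← hcard, FiniteField.pow_card]
    rfl
  rw [h2, map_id] at h1
  rw [← h1, RingHom.id_apply, expand, substAlgHom_apply]


section DVR

variable (O : Type*) [CommRing O] [IsDomain O] [IsDiscreteValuationRing O]
  [Finite (IsLocalRing.ResidueField O)] (π : O) (hπ : Irreducible π)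

lemma two_le_card : 2 ≤ Nat.card (IsLocalRing.ResidueField O) :=
  Finite.one_lt_card

include hπ

lemma residue_pi : IsLocalRing.residue O π = 0 := by
  rw [IsLocalRing.residue_eq_zero_iff, hπ.maximalIdeal_eq]
  exact Ideal.mem_span_singleton_self π

lemma dvd_of_residue_eq_zero (x : O) (hx : IsLocalRing.residue O x = 0) : π ∣ x := by
  rw [IsLocalRing.residue_eq_zero_iff, hπ.maximalIdeal_eq, Ideal.mem_span_singleton] at hx
  exact hx

/-- Frobenius divisibility of the Lubin–Tate defect. -/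
lemma dvd_coeff_defect [Finite σ] (H : MvPowerSeries σ O) (e : σ →₀ ℕ) :
    π ∣ coeff e (defect π (Nat.card (IsLocalRing.ResidueField O))
      (fun H => H ^ Nat.card (IsLocalRing.ResidueField O)) H) := by
  apply dvd_of_residue_eq_zero O π hπ
  set q := Nat.card (IsLocalRing.ResidueField O) with hq
  have hq2 : 2 ≤ q := two_le_card O
  have h1 : (fun i => map (IsLocalRing.residue O) (av π q i : MvPowerSeries σ O)) =
      fun i => (X i : MvPowerSeries σ (IsLocalRing.ResidueField O)) ^ q := by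
    funext i
    unfold av
    rw [map_add, map_pow, map_X, smul_eq_C_mul, map_mul, map_C, residue_pi O π hπ, map_zero,
      zero_mul, zero_add]
  have h2 : map (IsLocalRing.residue O) (defect π q (fun H => H ^ q) H) = 0 := by
    unfold defect Phi
    rw [map_sub, map_sub, map_subst (hasSubst_av π q (by omega)), h1, map_pow, smul_eq_C_mul,
      map_mul, map_C, residue_pi O π hπ, map_zero, zero_mul, sub_zero, hq, ← pow_card_eq_subst,
      sub_self]
  rw [← coeff_map, h2, map_zero]

lemma isUnit_one_sub_pow (r : ℕ) (hr : 1 ≤ r) : IsUnit (1 - π ^ r) := by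
  have h1 : π ^ r ∈ IsLocalRing.maximalIdeal O := by
    refine Ideal.pow_mem_of_mem _ ?_ r (by omega)
    rw [hπ.maximalIdeal_eq]
    exact Ideal.mem_span_singleton_self π
  by_contra h
  have h2 : (1 - π ^ r) ∈ IsLocalRing.maximalIdeal O := (IsLocalRing.mem_maximalIdeal _).mpr h
  have h3 : (1 : O) ∈ IsLocalRing.maximalIdeal O := by
    have := Ideal.add_mem _ h2 h1
    simpa using this
  exact (Ideal.ne_top_iff_one _).mp (IsLocalRing.maximalIdeal.isMaximal O).ne_top h3

lemma pow_ne_one (r : ℕ) (hr : 1 ≤ r) : π ^ r ≠ 1 := by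
  intro h
  have := isUnit_one_sub_pow O π hπ r hr
  rw [h, sub_self] at this
  exact not_isUnit_zero this

/-- **Lubin–Tate lemma, existence.** -/
theorem lt_exists [Finite σ] (L : MvPowerSeries σ O) (hL : 1 ≤ L.order) :
    ∃ H : MvPowerSeries σ O, 2 ≤ (H - L).order ∧
      Phi π (Nat.card (IsLocalRing.ResidueField O)) H =
        π • H + H ^ Nat.card (IsLocalRing.ResidueField O) := by
  set q := Nat.card (IsLocalRing.ResidueField O) with hq
  have hq2 : 2 ≤ q := two_le_card O
  refine exists_sol π q (fun H => H ^ q) hq2 ?_ ?_ ?_ L hL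
  · intro H H' r h1 h2 hr
    exact order_pow_sub_pow q hq2 H H' h1 h2 r hr
  · intro H h1
    rw [one_le_order_iff_constCoeff_eq_zero] at h1
    refine le_trans ?_ (le_order_pow_of_constantCoeff_eq_zero q h1)
    exact_mod_cast hq2
  · intro H e _ he
    obtain ⟨z, hz⟩ := dvd_coeff_defect O π hπ H e
    obtain ⟨u, hu⟩ := isUnit_one_sub_pow O π hπ (e.degree - 1) (by omega)
    refine ⟨z * ((u⁻¹ : Oˣ) : O), ?_⟩
    rw [hq] 
    rw [hz]
    have e1 : π - π ^ e.degree = π * (u : O) := by
      rw [hu, mul_sub, mul_one, ← pow_succ']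
      congr 2
      omega
    rw [e1]
    calc π * (u : O) * (z * ((u⁻¹ : Oˣ) : O)) = π * z * ((u : O) * ((u⁻¹ : Oˣ) : O)) := by ring
      _ = π * z := by rw [Units.mul_inv, mul_one]

/-- **Lubin–Tate lemma, uniqueness.** -/
theorem lt_unique [Finite σ] (H₁ H₂ : MvPowerSeries σ O) (h1 : 1 ≤ H₁.order) (h2 : 1 ≤ H₂.order)
    (e1 : Phi π (Nat.card (IsLocalRing.ResidueField O)) H₁ =
        π • H₁ + H₁ ^ Nat.card (IsLocalRing.ResidueField O))
    (e2 : Phi π (Nat.card (IsLocalRing.ResidueField O)) H₂ =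
        π • H₂ + H₂ ^ Nat.card (IsLocalRing.ResidueField O))
    (h12 : 2 ≤ (H₁ - H₂).order) : H₁ = H₂ := by
  set q := Nat.card (IsLocalRing.ResidueField O) with hq
  have hq2 : 2 ≤ q := two_le_card O
  rw [← sub_eq_zero]
  refine eq_zero_of_phi π q hq2 hπ.ne_zero (pow_ne_one O π hπ) _ h12 ?_
  intro r _ hr
  have e3 : Phi π q (H₁ - H₂) - π • (H₁ - H₂) = H₁ ^ q - H₂ ^ q := by
    rw [phi_sub π q (by omega), e1, e2, smul_sub]
    abel
  rw [e3]
  exact order_pow_sub_pow q hq2 H₁ H₂ h1 h2 r hr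

end DVR

section Fld

variable (K : Type*) [Field K] (c : K) (q : ℕ) (hq : 2 ≤ q) (hc : c ≠ 0)
  (hc1 : ∀ r : ℕ, 1 ≤ r → c ^ r ≠ 1)

include hq hc hc1

/-- linear version, existence -/
theorem lin_exists [Finite σ] (L : MvPowerSeries σ K) (hL : 1 ≤ L.order) :
    ∃ H : MvPowerSeries σ K, 2 ≤ (H - L).order ∧ Phi c q H = c • H := by
  have hN1 : ∀ (H H' : MvPowerSeries σ K) (r : ℕ), 1 ≤ H.order → 1 ≤ H'.order →
      (r : ℕ∞) ≤ (H - H').order → ((r + 1 : ℕ) : ℕ∞) ≤
        ((fun _ => (0 : MvPowerSeries σ K)) H - (fun _ => (0 : MvPowerSeries σ K)) H').order := by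
    intro H H' r _ _ _
    simp
  have hN0 : ∀ H : MvPowerSeries σ K, 1 ≤ H.order →
      2 ≤ ((fun _ => (0 : MvPowerSeries σ K)) H).order := by
    intro H _
    simp
  have hdiv : ∀ (H : MvPowerSeries σ K) (e : σ →₀ ℕ), 1 ≤ H.order → 2 ≤ e.degree →
      ∃ y, (c - c ^ e.degree) * y =
        coeff e (defect c q (fun _ => (0 : MvPowerSeries σ K)) H) := by
    intro H e _ he
    have hne : c - c ^ e.degree ≠ 0 := by
      intro h
      have h3 : c * (1 - c ^ (e.degree - 1)) = 0 := by
        rw [mul_sub, mul_one, ← pow_succ', Nat.sub_add_cancel (by omega)]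
        exact h
      rcases mul_eq_zero.mp h3 with h4 | h4
      · exact hc h4
      · exact hc1 (e.degree - 1) (by omega) (sub_eq_zero.mp h4).symm
    exact ⟨(c - c ^ e.degree)⁻¹ * _, mul_inv_cancel_left₀ hne _⟩
  obtain ⟨H, h1, h2⟩ := exists_sol c q (fun _ => (0 : MvPowerSeries σ K)) hq hN1 hN0 hdiv L hL
  exact ⟨H, h1, by rw [h2, add_zero]⟩

/-- linear version, uniqueness -/
theorem lin_unique [Finite σ] (D : MvPowerSeries σ K) (hD : 2 ≤ D.order)
    (e1 : Phi c q D = c • D) : D = 0 := by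
  refine eq_zero_of_phi c q hq hc hc1 D hD ?_
  intro r _ _
  rw [e1, sub_self, order_zero]
  exact le_top

end Fld

end Groth.Agent.Lib.Helper11LT
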