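import Mathlib
import Groth.Agent.Lib.Helper11LTB

set_option autoImplicit false

namespace Groth.Agent.Lib.Helper11LT

open MvPowerSeries

variable {R : Type*} [CommRing R] {σ τ : Type*}

lemma exists_single_of_degree_eq_one (d : σ →₀ ℕ) (hd : d.degree = 1) :
    ∃ i, d = Finsupp.single i 1 := by
  classical
  have hne : d ≠ 0 := by
    intro h
    rw [h, map_zero] at hd
    exact zero_ne_one hd
  obtain ⟨i, hi⟩ := Finsupp.support_nonempty_iff.mpr hne
  rw [Finsupp.mem_support_iff] at hi
  have hle : Finsupp.single i 1 ≤ d := by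
    rw [Finsupp.single_le_iff]
    omega
  have h2 : d = Finsupp.single i 1 + (d - Finsupp.single i 1) := (add_tsub_cancel_of_le hle).symm
  have h3 : d.degree = 1 + (d - Finsupp.single i 1).degree := by
    conv_lhs => rw [h2]
    rw [map_add, Finsupp.degree_single]
  have h4 : (d - Finsupp.single i 1).degree = 0 := by omega
  rw [Finsupp.degree_eq_zero_iff] at h4
  refine ⟨i, ?_⟩
  rw [h2, h4, add_zero]

lemma two_le_order_iff (A : MvPowerSeries σ R) :
    2 ≤ A.order ↔ constantCoeff A = 0 ∧ ∀ i, coeff (Finsupp.single i 1) A = 0 := by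
  constructor
  · intro h
    refine ⟨?_, fun i => ?_⟩
    · rw [← one_le_order_iff_constCoeff_eq_zero]
      exact le_trans (by norm_num) h
    · refine coeff_of_lt_order (lt_of_lt_of_le ?_ h)
      rw [Finsupp.degree_single]
      norm_num
  · rintro ⟨h0, h1⟩
    refine le_order fun d hd => ?_
    have hd' : d.degree < 2 := by exact_mod_cast hd
    by_cases hd0 : d.degree = 0
    · rw [Finsupp.degree_eq_zero_iff] at hd0
      rw [hd0, coeff_zero_eq_constantCoeff_apply, h0]
    · obtain ⟨i, rfl⟩ := exists_single_of_degree_eq_one d (by omega)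
      exact h1 i

lemma cong_subst [Finite σ] (a : σ → MvPowerSeries τ R) (ha : ∀ i, constantCoeff (a i) = 0)
    (A B : MvPowerSeries σ R) (n : ℕ∞) (h : n ≤ (A - B).order) :
    n ≤ (subst a A - subst a B).order := by
  have hs := hasSubst_of_constantCoeff_zero ha
  rw [← subst_sub hs]
  refine le_trans ?_ (le_order_subst hs (A - B))
  have h1 : (1 : ℕ∞) ≤ ⨅ i, (a i).order := by
    refine le_iInf fun i => ?_
    rw [one_le_order_iff_constCoeff_eq_zero]
    exact ha i
  calc n ≤ (A - B).order := h
    _ = 1 * (A - B).order := (one_mul _).symm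
    _ ≤ _ := mul_le_mul_left h1 _

lemma ps_subst_eq (c : R) (q : ℕ) (a : MvPowerSeries τ R) (ha : constantCoeff a = 0) :
    PowerSeries.subst a (c • PowerSeries.X + PowerSeries.X ^ q : PowerSeries R) =
      c • a + a ^ q := by
  have hs : PowerSeries.HasSubst a := PowerSeries.HasSubst.of_constantCoeff_zero ha
  rw [PowerSeries.subst_add hs, PowerSeries.subst_smul hs, PowerSeries.subst_pow hs,
    PowerSeries.subst_X hs]

lemma av_eq_ps_subst (c : R) (q : ℕ) :
    (fun i : σ => PowerSeries.subst (X i : MvPowerSeries σ R)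
      (c • PowerSeries.X + PowerSeries.X ^ q : PowerSeries R)) = av c q := by
  funext i
  rw [ps_subst_eq c q _ (constantCoeff_X i)]
  rfl

end Groth.Agent.Lib.Helper11LT
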