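import Mathlib
import Groth.Agent.Lib.Helper11LTC

set_option autoImplicit false

namespace Groth.Agent.Lib.Helper11LT

open MvPowerSeries

variable {R : Type*} [CommRing R] {σ τ : Type*}

/-- `Phi` commutes with substitution by vectors of solutions of the Lubin–Tate equation. -/
lemma phi_subst [Finite σ] [Finite τ] (c : R) (q : ℕ) (hq : 1 ≤ q)
    (a : σ → MvPowerSeries τ R) (ha0 : ∀ s, constantCoeff (a s) = 0)
    (ha : ∀ s, Phi c q (a s) = c • a s + a s ^ q) (G : MvPowerSeries σ R) :
    Phi c q (subst a G) = subst a (Phi c q G) := by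
  have hs : HasSubst a := hasSubst_of_constantCoeff_zero ha0
  unfold Phi
  rw [subst_comp_subst_apply hs (hasSubst_av c q hq),
    subst_comp_subst_apply (hasSubst_av c q hq) hs]
  congr 1
  funext s
  have h1 := ha s
  unfold Phi at h1
  rw [h1]
  unfold av
  rw [subst_add hs, subst_smul hs, subst_pow hs, subst_X hs]

/-- closure of solutions of the LT equation under substitution -/
lemma lt_subst [Finite σ] [Finite τ] (c : R) (q : ℕ) (hq : 1 ≤ q)
    (a : σ → MvPowerSeries τ R) (ha0 : ∀ s, constantCoeff (a s) = 0)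
    (ha : ∀ s, Phi c q (a s) = c • a s + a s ^ q) (G : MvPowerSeries σ R)
    (hG : Phi c q G = c • G + G ^ q) :
    Phi c q (subst a G) = c • subst a G + subst a G ^ q := by
  have hs : HasSubst a := hasSubst_of_constantCoeff_zero ha0
  rw [phi_subst c q hq a ha0 ha, hG, subst_add hs, subst_smul hs, subst_pow hs]

/-- linear version -/
lemma lin_subst [Finite σ] [Finite τ] (c : R) (q : ℕ) (hq : 1 ≤ q)
    (a : σ → MvPowerSeries τ R) (ha0 : ∀ s, constantCoeff (a s) = 0)
    (ha : ∀ s, Phi c q (a s) = c • a s + a s ^ q) (G : MvPowerSeries σ R)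
    (hG : Phi c q G = c • G) :
    Phi c q (subst a G) = c • subst a G := by
  have hs : HasSubst a := hasSubst_of_constantCoeff_zero ha0
  rw [phi_subst c q hq a ha0 ha, hG, subst_smul hs]

lemma phi_X [Finite σ] (c : R) (q : ℕ) (hq : 1 ≤ q) (i : σ) :
    Phi c q (X i : MvPowerSeries σ R) = c • X i + X i ^ q := by
  unfold Phi
  rw [subst_X (hasSubst_av c q hq)]
  rfl

lemma constantCoeff_subst_zero [Finite σ] (a : σ → MvPowerSeries τ R)
    (ha0 : ∀ s, constantCoeff (a s) = 0) (G : MvPowerSeries σ R) (hG : constantCoeff G = 0) :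
    constantCoeff (subst a G) = 0 :=
  constantCoeff_subst_eq_zero (hasSubst_of_constantCoeff_zero ha0) ha0 hG

/-! ### congruences -/

lemma cong_trans {A B C : MvPowerSeries σ R} {n : ℕ∞} (h1 : n ≤ (A - B).order)
    (h2 : n ≤ (B - C).order) : n ≤ (A - C).order := by
  have : A - C = (A - B) + (B - C) := by abel
  rw [this]
  exact order_add_ge h1 h2

lemma cong_symm {A B : MvPowerSeries σ R} {n : ℕ∞} (h1 : n ≤ (A - B).order) :
    n ≤ (B - A).order := by
  rw [← neg_sub, order_neg]
  exact h1

lemma cong_add {A B C D : MvPowerSeries σ R} {n : ℕ∞} (h1 : n ≤ (A - B).order)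
    (h2 : n ≤ (C - D).order) : n ≤ ((A + C) - (B + D)).order := by
  have : (A + C) - (B + D) = (A - B) + (C - D) := by abel
  rw [this]
  exact order_add_ge h1 h2

lemma cong_smul {A B : MvPowerSeries σ R} {n : ℕ∞} (a : R) (h1 : n ≤ (A - B).order) :
    n ≤ (a • A - a • B).order := by
  rw [← smul_sub]
  exact order_smul_ge a h1

/-- a formal-group-like series is `X₀ + X₁` modulo degree 2 -/
lemma cong_fg (F : MvPowerSeries (Fin 2) R) (h0 : constantCoeff F = 0)
    (h1 : coeff (Finsupp.single 0 1) F = 1) (h2 : coeff (Finsupp.single 1 1) F = 1) :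
    2 ≤ (F - (X 0 + X 1)).order := by
  rw [two_le_order_iff]
  refine ⟨by simp [h0], fun i => ?_⟩
  fin_cases i
  · simp [h1, coeff_index_single_X]
  · simp [h2, coeff_index_single_X]

/-- a univariate series without constant term is `g₁ X` modulo degree 2 -/
lemma cong_ps (g : PowerSeries R) (h0 : PowerSeries.constantCoeff g = 0) :
    2 ≤ MvPowerSeries.order (g - PowerSeries.coeff 1 g • (PowerSeries.X : PowerSeries R)) := by
  rw [two_le_order_iff]
  refine ⟨?_, fun i => ?_⟩
  · show PowerSeries.constantCoeff (g - PowerSeries.coeff 1 g • (PowerSeries.X : PowerSeries R)) = 0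
    simp [h0]
  · show PowerSeries.coeff 1 (g - PowerSeries.coeff 1 g • (PowerSeries.X : PowerSeries R)) = 0
    simp

/-- `F(a₀, a₁) ≡ a₀ + a₁` -/
lemma cong_fg_subst (F : MvPowerSeries (Fin 2) R) (h0 : constantCoeff F = 0)
    (h1 : coeff (Finsupp.single 0 1) F = 1) (h2 : coeff (Finsupp.single 1 1) F = 1)
    (a : Fin 2 → MvPowerSeries τ R) (ha0 : ∀ s, constantCoeff (a s) = 0) :
    2 ≤ (subst a F - (a 0 + a 1)).order := by
  have hs : HasSubst a := hasSubst_of_constantCoeff_zero ha0
  have := cong_subst a ha0 _ _ 2 (cong_fg F h0 h1 h2)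
  rwa [subst_add hs, subst_X hs, subst_X hs] at this

/-- `g(a) ≡ g₁ a` -/
lemma cong_ps_subst (g : PowerSeries R) (h0 : PowerSeries.constantCoeff g = 0)
    (a : MvPowerSeries τ R) (ha0 : constantCoeff a = 0) :
    2 ≤ (PowerSeries.subst a g - PowerSeries.coeff 1 g • a).order := by
  have hs : HasSubst (fun _ : Unit => a) := hasSubst_of_constantCoeff_zero (fun _ => ha0)
  have := cong_subst (fun _ : Unit => a) (fun _ => ha0) _ _ 2 (cong_ps g h0)
  rw [subst_smul hs] at this
  have h3 : subst (fun _ : Unit => a) (PowerSeries.X : PowerSeries R) = a := subst_X hs ()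
  rw [h3] at this
  exact this

end Groth.Agent.Lib.Helper11LT
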