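import Mathlib
import Groth.Agent.Lib.Helper11LTD

set_option autoImplicit false

namespace Groth.Agent.Lib.Helper11FGI

open MvPowerSeries Groth.Agent.Lib.Helper11LT

variable {R : Type*} [CommRing R] {σ : Type*}

lemma order_sum_ge {ι : Type*} (s : Finset ι) (f : ι → MvPowerSeries σ R) (n : ℕ∞)
    (h : ∀ i ∈ s, n ≤ (f i).order) : n ≤ (∑ i ∈ s, f i).order := by
  classical
  induction s using Finset.induction_on with
  | empty => simp
  | insert a s ha ih =>
    rw [Finset.sum_insert ha]
    exact order_add_ge (h a (Finset.mem_insert_self a s))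
      (ih fun i hi => h i (Finset.mem_insert_of_mem hi))

lemma order_pow_sub_pow' (j : ℕ) (hj : 1 ≤ j) (H H' : MvPowerSeries σ R)
    (h1 : 1 ≤ H.order) (h2 : 1 ≤ H'.order) (r : ℕ) (hr : (r : ℕ∞) ≤ (H - H').order) :
    ((r + (j - 1) : ℕ) : ℕ∞) ≤ (H ^ j - H' ^ j).order := by
  rw [← geom_sum₂_mul, mul_comm]
  push_cast
  refine order_mul_ge hr ?_
  refine order_sum_ge _ _ _ fun i hi => ?_
  rw [Finset.mem_range] at hi
  rw [one_le_order_iff_constCoeff_eq_zero] at h1 h2
  have e1 := le_order_pow_of_constantCoeff_eq_zero i h1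
  have e2 := le_order_pow_of_constantCoeff_eq_zero (j - 1 - i) h2
  have e3 := order_mul_ge e1 e2
  refine le_trans ?_ e3
  have : j - 1 = i + (j - 1 - i) := by omega
  exact_mod_cast this.le


section Inv

variable (F : MvPowerSeries (Fin 2) R)

/-- `Psi g = F(X, g)` -/
noncomputable def Psi (g : PowerSeries R) : PowerSeries R :=
  subst (![PowerSeries.X, g] : Fin 2 → PowerSeries R) F

lemma cc_vec (g : PowerSeries R) (hg : PowerSeries.constantCoeff g = 0) (s : Fin 2) :
    constantCoeff ((![PowerSeries.X, g] : Fin 2 → PowerSeries R) s) = 0 := by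
  fin_cases s
  · exact PowerSeries.constantCoeff_X
  · exact hg

lemma hasSubst_vec (g : PowerSeries R) (hg : PowerSeries.constantCoeff g = 0) :
    HasSubst (![PowerSeries.X, g] : Fin 2 → PowerSeries R) :=
  hasSubst_of_constantCoeff_zero (cc_vec g hg)

lemma prod_vec (g : PowerSeries R) (d : Fin 2 →₀ ℕ) :
    (d.prod fun s k => ((![PowerSeries.X, g] : Fin 2 → PowerSeries R) s) ^ k) =
      (PowerSeries.X : PowerSeries R) ^ d 0 * g ^ d 1 := by
  rw [Finsupp.prod_fintype _ _ (fun i => pow_zero _), Fin.prod_univ_two]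
  rfl

lemma eq_single_one (d : Fin 2 →₀ ℕ) (h0 : d 0 = 0) (h1 : d 1 = 1) :
    d = Finsupp.single 1 1 := by
  ext i
  fin_cases i
  · simpa using h0
  · simpa using h1

lemma claimA (h1 : coeff (Finsupp.single 1 1) F = 1) (g g' : PowerSeries R)
    (hg : PowerSeries.constantCoeff g = 0) (hg' : PowerSeries.constantCoeff g' = 0)
    (n : ℕ) (hn : 1 ≤ n) (h : (n : ℕ∞) ≤ MvPowerSeries.order (g - g')) :
    ((n + 1 : ℕ) : ℕ∞) ≤ MvPowerSeries.order (Psi F g - Psi F g' - (g - g')) := by
  refine le_order fun e he => ?_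
  have he' : e.degree < n + 1 := by exact_mod_cast he
  have hgo : 1 ≤ MvPowerSeries.order g := by
    rw [one_le_order_iff_constCoeff_eq_zero]; exact hg
  have hgo' : 1 ≤ MvPowerSeries.order g' := by
    rw [one_le_order_iff_constCoeff_eq_zero]; exact hg'
  rw [map_sub, map_sub]
  unfold Psi
  rw [coeff_subst (hasSubst_vec g hg), coeff_subst (hasSubst_vec g' hg'),
    ← finsum_sub_distrib (coeff_subst_finite (hasSubst_vec g hg) F e)
      (coeff_subst_finite (hasSubst_vec g' hg') F e)]
  rw [finsum_eq_single _ (Finsupp.single 1 1)]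
  · rw [h1, prod_vec, prod_vec]
    simp
  · intro d hd
    rw [prod_vec, prod_vec, ← smul_sub, ← map_sub, ← mul_sub]
    by_cases hd1 : d 1 = 0
    · rw [hd1, pow_zero, pow_zero, sub_self, mul_zero, map_zero, smul_zero]
    · have hX : ((d 0 : ℕ) : ℕ∞) ≤ MvPowerSeries.order ((PowerSeries.X : PowerSeries R) ^ d 0) :=
        le_order_pow_of_constantCoeff_eq_zero (d 0) PowerSeries.constantCoeff_X
      have hP := order_pow_sub_pow' (d 1) (by omega) g g' hgo hgo' n h
      have hM := order_mul_ge hX hP
      have hlt : e.degree < d 0 + (n + (d 1 - 1)) := by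
        by_contra hcon
        have : d 0 = 0 ∧ d 1 = 1 := by omega
        exact hd (eq_single_one d this.1 this.2)
      rw [coeff_of_lt_order (lt_of_lt_of_le (by exact_mod_cast hlt) hM), smul_zero]


/-- coefficients of the right inverse, by strong recursion -/
noncomputable def cf : ℕ → R
  | 0 => 0
  | (n + 1) => - PowerSeries.coeff (n + 1)
      (Psi F (PowerSeries.mk fun m => if h : m < n + 1 then cf m else 0))
decreasing_by exact h

/-- the right inverse -/
noncomputable def rinv : PowerSeries R := PowerSeries.mk (cf F)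

/-- truncation of the right inverse -/
noncomputable def rtr (n : ℕ) : PowerSeries R :=
  PowerSeries.mk fun m => if m < n then cf F m else 0

lemma cf_succ (n : ℕ) : cf F (n + 1) = - PowerSeries.coeff (n + 1) (Psi F (rtr F (n + 1))) := by
  rw [cf]
  rfl

lemma cc_rinv : PowerSeries.constantCoeff (rinv F) = 0 := by
  rw [← PowerSeries.coeff_zero_eq_constantCoeff_apply, rinv, PowerSeries.coeff_mk, cf]

lemma cc_rtr (n : ℕ) : PowerSeries.constantCoeff (rtr F n) = 0 := by
  rw [← PowerSeries.coeff_zero_eq_constantCoeff_apply, rtr, PowerSeries.coeff_mk]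
  split_ifs
  · rw [cf]
  · rfl

lemma ps_order_ge (A : PowerSeries R) (n : ℕ) (h : ∀ m < n, PowerSeries.coeff m A = 0) :
    (n : ℕ∞) ≤ MvPowerSeries.order A := by
  refine le_order fun d hd => ?_
  have hd' : d.degree < n := by exact_mod_cast hd
  have e1 : d = Finsupp.single () (d ()) := by
    ext; simp
  have e2 : d.degree = d () := by
    rw [e1, Finsupp.degree_single]; simp
  have := h (d ()) (by omega)
  rw [PowerSeries.coeff] at this
  rw [e1]
  exact this

lemma ps_coeff_of_order (A : PowerSeries R) (n m : ℕ) (h : (n : ℕ∞) ≤ MvPowerSeries.order A)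
    (hm : m < n) : PowerSeries.coeff m A = 0 := by
  rw [PowerSeries.coeff]
  refine coeff_of_lt_order (lt_of_lt_of_le ?_ h)
  rw [Finsupp.degree_single]
  exact_mod_cast hm

lemma order_rinv_sub_rtr (n : ℕ) :
    (n : ℕ∞) ≤ MvPowerSeries.order (rinv F - rtr F n) := by
  refine ps_order_ge _ n fun m hm => ?_
  rw [map_sub, rinv, rtr, PowerSeries.coeff_mk, PowerSeries.coeff_mk, if_pos hm, sub_self]

theorem psi_rinv (h0 : constantCoeff F = 0) (h1 : coeff (Finsupp.single 1 1) F = 1) :
    Psi F (rinv F) = 0 := by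
  ext n
  rw [map_zero]
  rcases n with _ | n
  · rw [PowerSeries.coeff_zero_eq_constantCoeff_apply]
    exact constantCoeff_subst_zero _ (cc_vec _ (cc_rinv F)) F h0
  · have hA := claimA F h1 (rinv F) (rtr F (n + 1)) (cc_rinv F) (cc_rtr F _) (n + 1) (by omega)
      (order_rinv_sub_rtr F (n + 1))
    have h2 := ps_coeff_of_order _ (n + 1 + 1) (n + 1) hA (by omega)
    rw [map_sub, map_sub, map_sub] at h2
    have h3 : PowerSeries.coeff (n + 1) (rinv F) = cf F (n + 1) := by
      rw [rinv, PowerSeries.coeff_mk]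
    have h4 : PowerSeries.coeff (n + 1) (rtr F (n + 1)) = 0 := by
      rw [rtr, PowerSeries.coeff_mk, if_neg (by omega)]
    rw [h3, h4, cf_succ] at h2
    linear_combination h2

theorem rinv_unique (h1 : coeff (Finsupp.single 1 1) F = 1) (k g : PowerSeries R)
    (hk0 : PowerSeries.constantCoeff k = 0) (hg0 : PowerSeries.constantCoeff g = 0)
    (hk : Psi F k = 0) (hg : Psi F g = 0) : k = g := by
  have key : ∀ n : ℕ, ((n + 1 : ℕ) : ℕ∞) ≤ MvPowerSeries.order (k - g) := by
    intro n
    induction n with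
    | zero =>
      refine ps_order_ge _ _ fun m hm => ?_
      have : m = 0 := by omega
      subst this
      rw [PowerSeries.coeff_zero_eq_constantCoeff_apply, map_sub, hk0, hg0, sub_zero]
    | succ n ih =>
      have hA := claimA F h1 k g hk0 hg0 (n + 1) (by omega) ih
      rw [hk, hg, sub_zero, zero_sub, order_neg] at hA
      exact hA
  rw [← sub_eq_zero]
  have : MvPowerSeries.order (k - g) = ⊤ := by
    rw [ENat.eq_top_iff_forall_ge]
    intro m
    exact le_trans (by exact_mod_cast Nat.le_succ m) (key m)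
  exact order_eq_top_iff.mp this

end Inv

end Groth.Agent.Lib.Helper11FGI
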