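import Groth.Agent.Lib.Helper11Aff
import Groth.Agent.Lib.Helper11Clauses

/-!
Genus one classification, the cycle family.
-/

namespace Groth.Agent.Lib.Helper11

open Finset Models

variable {n : ℕ} (T : Models.NumericalType n)

theorem a_eq_K_emb {k : ℕ} (u : Fin k ↪ Fin n) (p q : Fin k) :
    T.a (u p) (u q) = kk T (u p) (u q) * T.w (u p) := a_eq_kk T _ _

/-- Cartan integers of the cycle -/
def Bcyc (k : ℕ) (p q : Fin k) : ℤ :=
  if q.val = p.val + 1 ∨ p.val = q.val + 1 ∨ (p.val = 0 ∧ q.val + 1 = k) ∨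
    (q.val = 0 ∧ p.val + 1 = k) then 1 else 0

theorem Bcyc_nonneg (k : ℕ) (p q : Fin k) : 0 ≤ Bcyc k p q := by
  unfold Bcyc; split_ifs <;> norm_num

theorem fam_cycle {k : ℕ} (u : Fin k ↪ Fin n) (hv : ∀ j, T.IsMinusTwo (u j)) (hk : 3 ≤ k)
    (hB : ∀ p q, p ≠ q → Bcyc k p q ≤ kk T (u p) (u q)) :
    k = n ∧ ∃ m w : ℤ, Clause1 T k u m w := by
  obtain ⟨hkn, -, hK, hprop⟩ := affine_master T u hv (fun _ => 1) (fun _ => by norm_num)
    (by omega) (Bcyc k) hB (by
      intro p
      have hp := p.isLt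
      have hf : ∀ q, q ≠ p → 0 ≤ Bcyc k p q * 1 := fun q _ => by
        have := Bcyc_nonneg k p q; omega
      by_cases h0 : p.val = 0
      · obtain ⟨q1, hq1⟩ := exists_fin (t := k) 1 (by omega)
        obtain ⟨q2, hq2⟩ := exists_fin (t := k) (k - 1) (by omega)
        have := sum_erase_ge_two (fun q => Bcyc k p q * 1) p q1 q2 (fin_ne (by omega))
          (fin_ne (by omega)) (fin_ne (by omega)) hf
        have e1 : Bcyc k p q1 = 1 := if_pos (by omega)
        have e2 : Bcyc k p q2 = 1 := if_pos (by omega)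
        simp only [e1, e2] at this
        omega
      by_cases h1 : p.val + 1 = k
      · obtain ⟨q1, hq1⟩ := exists_fin (t := k) (k - 2) (by omega)
        obtain ⟨q2, hq2⟩ := exists_fin (t := k) 0 (by omega)
        have := sum_erase_ge_two (fun q => Bcyc k p q * 1) p q1 q2 (fin_ne (by omega))
          (fin_ne (by omega)) (fin_ne (by omega)) hf
        have e1 : Bcyc k p q1 = 1 := if_pos (by omega)
        have e2 : Bcyc k p q2 = 1 := if_pos (by omega)
        simp only [e1, e2] at this
        omega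
      · obtain ⟨q1, hq1⟩ := exists_fin (t := k) (p.val - 1) (by omega)
        obtain ⟨q2, hq2⟩ := exists_fin (t := k) (p.val + 1) (by omega)
        have := sum_erase_ge_two (fun q => Bcyc k p q * 1) p q1 q2 (fin_ne (by omega))
          (fin_ne (by omega)) (fin_ne (by omega)) hf
        have e1 : Bcyc k p q1 = 1 := if_pos (by omega)
        have e2 : Bcyc k p q2 = 1 := if_pos (by omega)
        simp only [e1, e2] at this
        omega)
  refine ⟨hkn, ?_⟩
  obtain ⟨p0, hp0⟩ := exists_fin (t := k) 0 (by omega)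
  have hw : ∀ q : Fin k, T.w (u q) = T.w (u p0) := by
    intro q
    refine IsChainOn.W_eq (T := T) (v := u) (lo := 0) (hi := k) ?_ p0 q (by omega) (by omega)
      (by have := q.isLt; omega)
    intro j j' _ _ hjj
    have hne : j ≠ j' := fin_ne (by omega)
    rw [hK j j' hne, hK j' j hne.symm]
    exact ⟨if_pos (by omega), if_pos (by omega)⟩
  refine ⟨T.m (u p0), T.w (u p0), ?_, hw, ?_, ?_, ?_⟩
  · intro i
    have := hprop i p0
    linarith
  · intro i j hij hc
    rw [a_eq_K_emb, hK i j (fin_ne (by omega)), hw i]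
    have : Bcyc k i j = 1 := if_pos (by omega)
    rw [this, one_mul]
  · intro i j hij hc
    rw [a_eq_K_emb, hK i j (fin_ne (by omega)), hw i]
    have : Bcyc k i j = 1 := if_pos (by omega)
    rw [this, one_mul]
  · intro i j hij hc1 hc2
    rw [a_eq_K_emb, hK i j (fin_ne (by omega))]
    have : Bcyc k i j = 0 := if_neg (by omega)
    rw [this, zero_mul]

end Groth.Agent.Lib.Helper11
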