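import Groth.Agent.Lib.Helper11Fam1

/-!
Genus one classification, the three chain families.
-/

namespace Groth.Agent.Lib.Helper11

open Finset Models

variable {n : ℕ} (T : Models.NumericalType n)

/-- Cartan integers of the chain with ends of types `a`, `b` -/
def Bch (a b : ℤ) (k : ℕ) (p q : Fin k) : ℤ :=
  if q.val = p.val + 1 then (if p.val = 0 then a else if q.val + 1 = k then 3 - b else 1)
  else if p.val = q.val + 1 then (if q.val = 0 then 3 - a else if p.val + 1 = k then b else 1)
  else 0

/-- the null vector of the chain with ends of types `a`, `b` -/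
def cch (a b : ℤ) (k : ℕ) (p : Fin k) : ℤ :=
  if p.val = 0 then a else if p.val + 1 = k then b else 2

theorem Bch_nonneg {a b : ℤ} (ha : a = 1 ∨ a = 2) (hb : b = 1 ∨ b = 2) (k : ℕ) (p q : Fin k) :
    0 ≤ Bch a b k p q := by
  unfold Bch; split_ifs <;> omega

theorem cch_pos {a b : ℤ} (ha : a = 1 ∨ a = 2) (hb : b = 1 ∨ b = 2) (k : ℕ) (p : Fin k) :
    0 < cch a b k p := by
  unfold cch; split_ifs <;> omega

theorem fam_chain {k : ℕ} (u : Fin k ↪ Fin n) (hv : ∀ j, T.IsMinusTwo (u j)) (hk : 3 ≤ k)
    {a b : ℤ} (ha : a = 1 ∨ a = 2) (hb : b = 1 ∨ b = 2)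
    (hB : ∀ p q, p ≠ q → Bch a b k p q ≤ kk T (u p) (u q)) :
    k = n ∧ (∀ p q, p ≠ q → kk T (u p) (u q) = Bch a b k p q) ∧
      (∀ p q, cch a b k p * T.m (u q) = cch a b k q * T.m (u p)) := by
  obtain ⟨hkn, -, hK, hprop⟩ := affine_master T u hv (cch a b k) (cch_pos ha hb k)
    (by omega) (Bch a b k) hB (by
      intro p
      have hp := p.isLt
      have hf : ∀ q, q ≠ p → 0 ≤ Bch a b k p q * cch a b k q := fun q _ =>
        mul_nonneg (Bch_nonneg ha hb k p q) (cch_pos ha hb k q).le
      by_cases h0 : p.val = 0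
      · obtain ⟨q1, hq1⟩ := exists_fin (t := k) 1 (by omega)
        have := sum_erase_ge_one (fun q => Bch a b k p q * cch a b k q) p q1 (fin_ne (by omega)) hf
        refine le_trans ?_ this
        unfold Bch cch
        rcases ha with rfl | rfl <;> rcases hb with rfl | rfl <;> split_ifs <;> omega
      by_cases h1 : p.val + 1 = k
      · obtain ⟨q1, hq1⟩ := exists_fin (t := k) (k - 2) (by omega)
        have := sum_erase_ge_one (fun q => Bch a b k p q * cch a b k q) p q1 (fin_ne (by omega)) hf
        refine le_trans ?_ this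
        unfold Bch cch
        rcases ha with rfl | rfl <;> rcases hb with rfl | rfl <;> split_ifs <;> omega
      · obtain ⟨q1, hq1⟩ := exists_fin (t := k) (p.val - 1) (by omega)
        obtain ⟨q2, hq2⟩ := exists_fin (t := k) (p.val + 1) (by omega)
        have := sum_erase_ge_two (fun q => Bch a b k p q * cch a b k q) p q1 q2 (fin_ne (by omega))
          (fin_ne (by omega)) (fin_ne (by omega)) hf
        refine le_trans ?_ this
        unfold Bch cch
        rcases ha with rfl | rfl <;> rcases hb with rfl | rfl <;> split_ifs <;> omega)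
  exact ⟨hkn, hK, hprop⟩

theorem fam2 {k : ℕ} (u : Fin k ↪ Fin n) (hv : ∀ j, T.IsMinusTwo (u j)) (hk : 3 ≤ k)
    (hB : ∀ p q, p ≠ q → Bch 2 1 k p q ≤ kk T (u p) (u q)) :
    k = n ∧ ∃ m w : ℤ, Clause2 T k u m w := by
  obtain ⟨hkn, hK, hprop⟩ := fam_chain T u hv hk (Or.inr rfl) (Or.inl rfl) hB
  refine ⟨hkn, ?_⟩
  obtain ⟨p0, hp0⟩ := exists_fin (t := k) 0 (by omega)
  obtain ⟨p1, hp1⟩ := exists_fin (t := k) 1 (by omega)
  obtain ⟨pe, hpe⟩ := exists_fin (t := k) (k - 1) (by omega)
  obtain ⟨pd, hpd⟩ := exists_fin (t := k) (k - 2) (by omega)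
  have e01 := K_mul T (u p0) (u p1)
  rw [hK p0 p1 (fin_ne (by omega)), hK p1 p0 (fin_ne (by omega))] at e01
  have ede := K_mul T (u pd) (u pe)
  rw [hK pd pe (fin_ne (by omega)), hK pe pd (fin_ne (by omega))] at ede
  have hwi : ∀ q : Fin k, 1 ≤ q.val → q.val + 2 ≤ k → T.w (u q) = T.w (u p1) := by
    intro q h1 h2
    refine IsChainOn.W_eq (T := T) (v := u) (lo := 1) (hi := k - 2) ?_ p1 q (by omega) (by omega)
      (by omega)
    intro j j' hj hj' hjj
    have hne : j ≠ j' := fin_ne (by omega)
    rw [hK j j' hne, hK j' j hne.symm]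
    constructor <;> (unfold Bch; split_ifs <;> omega)
  have hwd := hwi pd (by omega) (by omega)
  unfold Bch at e01 ede
  have hw1 : 2 * T.w (u p0) = T.w (u p1) := by split_ifs at e01 <;> omega
  have hwe : T.w (u pe) = 2 * T.w (u pd) := by split_ifs at ede <;> omega
  have hm : ∀ i : Fin k, 1 * T.m (u i) = cch 2 1 k i * T.m (u pe) := by
    intro i
    have := hprop i pe
    have e : cch 2 1 k pe = 1 := by unfold cch; split_ifs <;> omega
    rw [e] at this
    linarith
  have hwall : ∀ i : Fin k, T.w (u i) = (if i.val = 0 then T.w (u p0) else if i.val + 1 = k then T.w (u pe) else T.w (u p1)) := by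
    intro i
    have hi := i.isLt
    split_ifs with h1 h2
    · rw [show i = p0 from Fin.ext (by omega)]
    · rw [show i = pe from Fin.ext (by omega)]
    · exact hwi i (by omega) (by omega)
  have ha : ∀ i j : Fin k, i.val < j.val → T.a (u i) (u j) = Bch 2 1 k i j * T.w (u i) := by
    intro i j hij
    rw [a_eq_K_emb, hK i j (fin_ne (by omega))]
  refine ⟨T.m (u pe), T.w (u p0), ?_⟩
  unfold Clause2
  refine ⟨?_, ?_, ?_, ?_, ?_, ?_, ?_, ?_⟩
  · intro i hi
    have hil := i.isLt
    have := hm i
    unfold cch at this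
    split_ifs at this <;> omega
  · intro i hi
    have hil := i.isLt
    have := hm i
    unfold cch at this
    split_ifs at this <;> omega
  · intro i hi
    have hil := i.isLt
    rw [hwall i]
    split_ifs <;> omega
  · intro i hi
    have hil := i.isLt
    rw [hwall i]
    split_ifs <;> omega
  · intro i hi
    have hil := i.isLt
    rw [hwall i]
    split_ifs <;> omega
  · intro i j hij hc0
    have hil := i.isLt
    have hjl := j.isLt
    rw [ha i j hij, hwall i]
    unfold Bch
    split_ifs <;> omega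
  · intro i j hij hc0
    have hil := i.isLt
    have hjl := j.isLt
    rw [ha i j hij, hwall i]
    unfold Bch
    split_ifs <;> omega
  · intro i j hij hc0 hc1
    have hil := i.isLt
    have hjl := j.isLt
    rw [ha i j hij, hwall i]
    unfold Bch
    split_ifs <;> omega


theorem fam3 {k : ℕ} (u : Fin k ↪ Fin n) (hv : ∀ j, T.IsMinusTwo (u j)) (hk : 3 ≤ k)
    (hB : ∀ p q, p ≠ q → Bch 2 2 k p q ≤ kk T (u p) (u q)) :
    k = n ∧ ∃ m w : ℤ, Clause3 T k u m w := by
  obtain ⟨hkn, hK, hprop⟩ := fam_chain T u hv hk (Or.inr rfl) (Or.inr rfl) hB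
  refine ⟨hkn, ?_⟩
  obtain ⟨p0, hp0⟩ := exists_fin (t := k) 0 (by omega)
  obtain ⟨p1, hp1⟩ := exists_fin (t := k) 1 (by omega)
  obtain ⟨pe, hpe⟩ := exists_fin (t := k) (k - 1) (by omega)
  obtain ⟨pd, hpd⟩ := exists_fin (t := k) (k - 2) (by omega)
  have e01 := K_mul T (u p0) (u p1)
  rw [hK p0 p1 (fin_ne (by omega)), hK p1 p0 (fin_ne (by omega))] at e01
  have ede := K_mul T (u pd) (u pe)
  rw [hK pd pe (fin_ne (by omega)), hK pe pd (fin_ne (by omega))] at ede
  have hwi : ∀ q : Fin k, 1 ≤ q.val → q.val + 2 ≤ k → T.w (u q) = T.w (u p1) := by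
    intro q h1 h2
    refine IsChainOn.W_eq (T := T) (v := u) (lo := 1) (hi := k - 2) ?_ p1 q (by omega) (by omega)
      (by omega)
    intro j j' hj hj' hjj
    have hne : j ≠ j' := fin_ne (by omega)
    rw [hK j j' hne, hK j' j hne.symm]
    constructor <;> (unfold Bch; split_ifs <;> omega)
  have hwd := hwi pd (by omega) (by omega)
  unfold Bch at e01 ede
  have hw1 : 2 * T.w (u p0) = T.w (u p1) := by split_ifs at e01 <;> omega
  have hwe : 2 * T.w (u pe) = T.w (u pd) := by split_ifs at ede <;> omega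
  have hm : ∀ i : Fin k, 2 * T.m (u i) = cch 2 2 k i * T.m (u pe) := by
    intro i
    have := hprop i pe
    have e : cch 2 2 k pe = 2 := by unfold cch; split_ifs <;> omega
    rw [e] at this
    linarith
  have hwall : ∀ i : Fin k, T.w (u i) = (if i.val = 0 then T.w (u p0) else if i.val + 1 = k then T.w (u pe) else T.w (u p1)) := by
    intro i
    have hi := i.isLt
    split_ifs with h1 h2
    · rw [show i = p0 from Fin.ext (by omega)]
    · rw [show i = pe from Fin.ext (by omega)]
    · exact hwi i (by omega) (by omega)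
  have ha : ∀ i j : Fin k, i.val < j.val → T.a (u i) (u j) = Bch 2 2 k i j * T.w (u i) := by
    intro i j hij
    rw [a_eq_K_emb, hK i j (fin_ne (by omega))]
  refine ⟨T.m (u pe), T.w (u p0), ?_⟩
  unfold Clause3
  refine ⟨?_, ?_, ?_, ?_, ?_, ?_⟩
  · intro i
    have hil := i.isLt
    have := hm i
    unfold cch at this
    split_ifs at this <;> omega
  · intro i hi
    have hil := i.isLt
    rw [hwall i]
    split_ifs <;> omega
  · intro i hi
    have hil := i.isLt
    rw [hwall i]
    split_ifs <;> omega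
  · intro i hi
    have hil := i.isLt
    rw [hwall i]
    split_ifs <;> omega
  · intro i j hij hc0
    have hil := i.isLt
    have hjl := j.isLt
    rw [ha i j hij, hwall i]
    unfold Bch
    split_ifs <;> omega
  · intro i j hij hc0
    have hil := i.isLt
    have hjl := j.isLt
    rw [ha i j hij, hwall i]
    unfold Bch
    split_ifs <;> omega


theorem fam4 {k : ℕ} (u : Fin k ↪ Fin n) (hv : ∀ j, T.IsMinusTwo (u j)) (hk : 3 ≤ k)
    (hB : ∀ p q, p ≠ q → Bch 1 1 k p q ≤ kk T (u p) (u q)) :
    k = n ∧ ∃ m w : ℤ, Clause4 T k u m w := by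
  obtain ⟨hkn, hK, hprop⟩ := fam_chain T u hv hk (Or.inl rfl) (Or.inl rfl) hB
  refine ⟨hkn, ?_⟩
  obtain ⟨p0, hp0⟩ := exists_fin (t := k) 0 (by omega)
  obtain ⟨p1, hp1⟩ := exists_fin (t := k) 1 (by omega)
  obtain ⟨pe, hpe⟩ := exists_fin (t := k) (k - 1) (by omega)
  obtain ⟨pd, hpd⟩ := exists_fin (t := k) (k - 2) (by omega)
  have e01 := K_mul T (u p0) (u p1)
  rw [hK p0 p1 (fin_ne (by omega)), hK p1 p0 (fin_ne (by omega))] at e01
  have ede := K_mul T (u pd) (u pe)
  rw [hK pd pe (fin_ne (by omega)), hK pe pd (fin_ne (by omega))] at ede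
  have hwi : ∀ q : Fin k, 1 ≤ q.val → q.val + 2 ≤ k → T.w (u q) = T.w (u p1) := by
    intro q h1 h2
    refine IsChainOn.W_eq (T := T) (v := u) (lo := 1) (hi := k - 2) ?_ p1 q (by omega) (by omega)
      (by omega)
    intro j j' hj hj' hjj
    have hne : j ≠ j' := fin_ne (by omega)
    rw [hK j j' hne, hK j' j hne.symm]
    constructor <;> (unfold Bch; split_ifs <;> omega)
  have hwd := hwi pd (by omega) (by omega)
  unfold Bch at e01 ede
  have hw1 : T.w (u p0) = 2 * T.w (u p1) := by split_ifs at e01 <;> omega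
  have hwe : T.w (u pe) = 2 * T.w (u pd) := by split_ifs at ede <;> omega
  have hm : ∀ i : Fin k, 1 * T.m (u i) = cch 1 1 k i * T.m (u pe) := by
    intro i
    have := hprop i pe
    have e : cch 1 1 k pe = 1 := by unfold cch; split_ifs <;> omega
    rw [e] at this
    linarith
  have hwall : ∀ i : Fin k, T.w (u i) = (if i.val = 0 then T.w (u p0) else if i.val + 1 = k then T.w (u pe) else T.w (u p1)) := by
    intro i
    have hi := i.isLt
    split_ifs with h1 h2
    · rw [show i = p0 from Fin.ext (by omega)]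
    · rw [show i = pe from Fin.ext (by omega)]
    · exact hwi i (by omega) (by omega)
  have ha : ∀ i j : Fin k, i.val < j.val → T.a (u i) (u j) = Bch 1 1 k i j * T.w (u i) := by
    intro i j hij
    rw [a_eq_K_emb, hK i j (fin_ne (by omega))]
  refine ⟨T.m (u pe), T.w (u p1), ?_⟩
  unfold Clause4
  refine ⟨?_, ?_, ?_, ?_, ?_, ?_, ?_, ?_, ?_, ?_⟩
  · intro i hi
    have hil := i.isLt
    have := hm i
    unfold cch at this
    split_ifs at this <;> omega
  · intro i hi
    have hil := i.isLt
    have := hm i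
    unfold cch at this
    split_ifs at this <;> omega
  · intro i hi
    have hil := i.isLt
    have := hm i
    unfold cch at this
    split_ifs at this <;> omega
  · intro i hi
    have hil := i.isLt
    rw [hwall i]
    split_ifs <;> omega
  · intro i hi
    have hil := i.isLt
    rw [hwall i]
    split_ifs <;> omega
  · intro i hi
    have hil := i.isLt
    rw [hwall i]
    split_ifs <;> omega
  · intro i j hij hc0
    have hil := i.isLt
    have hjl := j.isLt
    rw [ha i j hij, hwall i]
    unfold Bch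
    split_ifs <;> omega
  · intro i j hij hc0
    have hil := i.isLt
    have hjl := j.isLt
    rw [ha i j hij, hwall i]
    unfold Bch
    split_ifs <;> omega
  · intro i j hij hc0
    have hil := i.isLt
    have hjl := j.isLt
    rw [ha i j hij, hwall i]
    unfold Bch
    split_ifs <;> omega
  · intro i j hij hc0 hc1 hc2
    have hil := i.isLt
    have hjl := j.isLt
    rw [ha i j hij, hwall i]
    unfold Bch
    split_ifs <;> omega


end Groth.Agent.Lib.Helper11
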