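import Groth.Agent.Lib.Helper11Fam2

/-!
Genus one classification, the two `D`-type families with a double end.
-/

namespace Groth.Agent.Lib.Helper11

open Finset Models

variable {n : ℕ} (T : Models.NumericalType n)

/-- Cartan integers of the `D`-type graph with a double end of type `a` -/
def Bbt (a : ℤ) (k : ℕ) (p q : Fin k) : ℤ :=
  if q.val = p.val + 1 ∧ q.val + 2 ≤ k then (if p.val = 0 then a else 1)
  else if p.val = q.val + 1 ∧ p.val + 2 ≤ k then (if q.val = 0 then 3 - a else 1)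
  else if (p.val + 3 = k ∧ q.val + 1 = k) ∨ (q.val + 3 = k ∧ p.val + 1 = k) then 1
  else 0

/-- the null vector of the `D`-type graph with a double end of type `a` -/
def cbt (a : ℤ) (k : ℕ) (p : Fin k) : ℤ :=
  if p.val = 0 then a else if k ≤ p.val + 2 then 1 else 2

theorem Bbt_nonneg {a : ℤ} (ha : a = 1 ∨ a = 2) (k : ℕ) (p q : Fin k) :
    0 ≤ Bbt a k p q := by
  unfold Bbt; split_ifs <;> omega

theorem cbt_pos {a : ℤ} (ha : a = 1 ∨ a = 2) (k : ℕ) (p : Fin k) :
    0 < cbt a k p := by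
  unfold cbt; split_ifs <;> omega

theorem Bbt_fwd0 (a : ℤ) {k : ℕ} {p q : Fin k} (h : q.val = p.val + 1) (h2 : q.val + 2 ≤ k)
    (h0 : p.val = 0) : Bbt a k p q = a := by
  unfold Bbt; rw [if_pos ⟨h, h2⟩, if_pos h0]

theorem Bbt_fwd1 (a : ℤ) {k : ℕ} {p q : Fin k} (h : q.val = p.val + 1) (h2 : q.val + 2 ≤ k)
    (h0 : p.val ≠ 0) : Bbt a k p q = 1 := by
  unfold Bbt; rw [if_pos ⟨h, h2⟩, if_neg h0]

theorem Bbt_bwd0 (a : ℤ) {k : ℕ} {p q : Fin k} (h : p.val = q.val + 1) (h2 : p.val + 2 ≤ k)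
    (h0 : q.val = 0) : Bbt a k p q = 3 - a := by
  unfold Bbt; rw [if_neg (by omega), if_pos ⟨h, h2⟩, if_pos h0]

theorem Bbt_bwd1 (a : ℤ) {k : ℕ} {p q : Fin k} (h : p.val = q.val + 1) (h2 : p.val + 2 ≤ k)
    (h0 : q.val ≠ 0) : Bbt a k p q = 1 := by
  unfold Bbt; rw [if_neg (by omega), if_pos ⟨h, h2⟩, if_neg h0]

theorem Bbt_br (a : ℤ) {k : ℕ} {p q : Fin k}
    (h : (p.val + 3 = k ∧ q.val + 1 = k) ∨ (q.val + 3 = k ∧ p.val + 1 = k)) :
    Bbt a k p q = 1 := by
  unfold Bbt; rw [if_neg (by omega), if_neg (by omega), if_pos h]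

theorem Bbt_zero (a : ℤ) {k : ℕ} {p q : Fin k} (h1 : ¬ (q.val = p.val + 1 ∧ q.val + 2 ≤ k))
    (h2 : ¬ (p.val = q.val + 1 ∧ p.val + 2 ≤ k))
    (h3 : ¬ ((p.val + 3 = k ∧ q.val + 1 = k) ∨ (q.val + 3 = k ∧ p.val + 1 = k))) :
    Bbt a k p q = 0 := by
  unfold Bbt; rw [if_neg h1, if_neg h2, if_neg h3]

theorem cbt_zero (a : ℤ) {k : ℕ} {p : Fin k} (h : p.val = 0) : cbt a k p = a := by
  unfold cbt; rw [if_pos h]

theorem cbt_end (a : ℤ) {k : ℕ} {p : Fin k} (h : p.val ≠ 0) (h2 : k ≤ p.val + 2) :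
    cbt a k p = 1 := by
  unfold cbt; rw [if_neg h, if_pos h2]

theorem cbt_mid (a : ℤ) {k : ℕ} {p : Fin k} (h : p.val ≠ 0) (h2 : ¬ k ≤ p.val + 2) :
    cbt a k p = 2 := by
  unfold cbt; rw [if_neg h, if_neg h2]

theorem fam_bt {k : ℕ} (u : Fin k ↪ Fin n) (hv : ∀ j, T.IsMinusTwo (u j)) (hk : 4 ≤ k)
    {a : ℤ} (ha : a = 1 ∨ a = 2)
    (hB : ∀ p q, p ≠ q → Bbt a k p q ≤ kk T (u p) (u q)) :
    k = n ∧ (∀ p q, p ≠ q → kk T (u p) (u q) = Bbt a k p q) ∧
      (∀ p q, cbt a k p * T.m (u q) = cbt a k q * T.m (u p)) := by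
  obtain ⟨hkn, -, hK, hprop⟩ := affine_master T u hv (cbt a k) (cbt_pos ha k)
    (by omega) (Bbt a k) hB (by
      intro p
      have hp := p.isLt
      have hf : ∀ q, q ≠ p → 0 ≤ Bbt a k p q * cbt a k q := fun q _ =>
        mul_nonneg (Bbt_nonneg ha k p q) (cbt_pos ha k q).le
      by_cases h0 : p.val = 0
      · obtain ⟨q1, hq1⟩ := exists_fin (t := k) 1 (by omega)
        have := sum_erase_ge_one (fun q => Bbt a k p q * cbt a k q) p q1 (fin_ne (by omega)) hf
        refine le_trans ?_ this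
        rw [cbt_zero a h0, Bbt_fwd0 a (by omega) (by omega) h0, cbt_mid a (by omega) (by omega)]
        omega
      by_cases h1 : k ≤ p.val + 2
      · obtain ⟨q1, hq1⟩ := exists_fin (t := k) (k - 3) (by omega)
        have := sum_erase_ge_one (fun q => Bbt a k p q * cbt a k q) p q1 (fin_ne (by omega)) hf
        refine le_trans ?_ this
        rw [cbt_end a h0 h1, cbt_mid a (by omega) (by omega)]
        by_cases h3 : p.val + 1 = k
        · rw [Bbt_br a (Or.inr ⟨by omega, h3⟩)]; omega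
        · rw [Bbt_bwd1 a (by omega) (by omega) (by omega)]; omega
      by_cases h2 : p.val + 3 = k
      · obtain ⟨q1, hq1⟩ := exists_fin (t := k) (k - 4) (by omega)
        obtain ⟨q2, hq2⟩ := exists_fin (t := k) (k - 2) (by omega)
        obtain ⟨q3, hq3⟩ := exists_fin (t := k) (k - 1) (by omega)
        have := sum_erase_ge_three (fun q => Bbt a k p q * cbt a k q) p q1 q2 q3
          (fin_ne (by omega)) (fin_ne (by omega)) (fin_ne (by omega)) (fin_ne (by omega))
          (fin_ne (by omega)) (fin_ne (by omega)) hf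
        refine le_trans ?_ this
        rw [cbt_mid a h0 h1, Bbt_fwd1 a (q := q2) (by omega) (by omega) h0,
          cbt_end a (p := q2) (by omega) (by omega), Bbt_br a (q := q3) (Or.inl ⟨h2, by omega⟩),
          cbt_end a (p := q3) (by omega) (by omega)]
        by_cases h4 : q1.val = 0
        · rw [Bbt_bwd0 a (by omega) (by omega) h4, cbt_zero a h4]
          rcases ha with rfl | rfl <;> norm_num
        · rw [Bbt_bwd1 a (by omega) (by omega) h4, cbt_mid a h4 (by omega)]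
          norm_num
      · obtain ⟨q1, hq1⟩ := exists_fin (t := k) (p.val - 1) (by omega)
        obtain ⟨q2, hq2⟩ := exists_fin (t := k) (p.val + 1) (by omega)
        have := sum_erase_ge_two (fun q => Bbt a k p q * cbt a k q) p q1 q2 (fin_ne (by omega))
          (fin_ne (by omega)) (fin_ne (by omega)) hf
        refine le_trans ?_ this
        rw [cbt_mid a h0 h1, Bbt_fwd1 a (q := q2) (by omega) (by omega) h0,
          cbt_mid a (p := q2) (by omega) (by omega)]
        by_cases h4 : q1.val = 0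
        · rw [Bbt_bwd0 a (by omega) (by omega) h4, cbt_zero a h4]
          rcases ha with rfl | rfl <;> norm_num
        · rw [Bbt_bwd1 a (by omega) (by omega) h4, cbt_mid a h4 (by omega)]
          norm_num)
  exact ⟨hkn, hK, hprop⟩

theorem fam5 {k : ℕ} (u : Fin k ↪ Fin n) (hv : ∀ j, T.IsMinusTwo (u j)) (hk : 4 ≤ k)
    (hB : ∀ p q, p ≠ q → Bbt 1 k p q ≤ kk T (u p) (u q)) :
    k = n ∧ ∃ m w : ℤ, Clause5 T k u m w := by
  obtain ⟨hkn, hK, hprop⟩ := fam_bt T u hv hk (Or.inl rfl) hB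
  refine ⟨hkn, ?_⟩
  obtain ⟨p0, hp0⟩ := exists_fin (t := k) 0 (by omega)
  obtain ⟨p1, hp1⟩ := exists_fin (t := k) 1 (by omega)
  obtain ⟨pe, hpe⟩ := exists_fin (t := k) (k - 1) (by omega)
  obtain ⟨pb, hpb⟩ := exists_fin (t := k) (k - 3) (by omega)
  have e01 := K_mul T (u p0) (u p1)
  rw [hK p0 p1 (fin_ne (by omega)), hK p1 p0 (fin_ne (by omega)),
    Bbt_fwd0 _ (by omega) (by omega) hp0, Bbt_bwd0 _ (by omega) (by omega) hp0] at e01
  have hwi : ∀ q : Fin k, 1 ≤ q.val → q.val + 2 ≤ k → T.w (u q) = T.w (u p1) := by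
    intro q h1 h2
    refine IsChainOn.W_eq (T := T) (v := u) (lo := 1) (hi := k - 2) ?_ p1 q (by omega) (by omega)
      (by omega)
    intro j j' hj hj' hjj
    have hne : j ≠ j' := fin_ne (by omega)
    rw [hK j j' hne, hK j' j hne.symm]
    exact ⟨Bbt_fwd1 _ (by omega) (by omega) (by omega), Bbt_bwd1 _ (by omega) (by omega) (by omega)⟩
  have hwb := hwi pb (by omega) (by omega)
  have hwe : T.w (u pe) = T.w (u pb) := by
    refine W_eq_of_K_one T ?_ ?_
    · rw [hK pb pe (fin_ne (by omega))]; exact Bbt_br _ (Or.inl ⟨by omega, by omega⟩)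
    · rw [hK pe pb (fin_ne (by omega))]; exact Bbt_br _ (Or.inr ⟨by omega, by omega⟩)
  have hw1 : T.w (u p0) = 2 * T.w (u p1) := by omega
  have hm : ∀ i : Fin k, T.m (u i) = cbt 1 k i * T.m (u pe) := by
    intro i
    have := hprop i pe
    rw [cbt_end _ (p := pe) (by omega) (by omega)] at this
    linarith
  have hw0 : ∀ i : Fin k, i.val = 0 → T.w (u i) = T.w (u p0) := by
    intro i hi
    rw [show i = p0 from Fin.ext (by omega)]
  have hwp : ∀ i : Fin k, i.val ≠ 0 → T.w (u i) = T.w (u p1) := by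
    intro i hi
    have hil := i.isLt
    by_cases h2 : i.val + 1 = k
    · rw [show i = pe from Fin.ext (by omega), hwe, hwb]
    · exact hwi i (by omega) (by omega)
  have ha : ∀ i j : Fin k, i.val < j.val → T.a (u i) (u j) = Bbt 1 k i j * T.w (u i) := by
    intro i j hij
    rw [a_eq_K_emb, hK i j (fin_ne (by omega))]
  refine ⟨T.m (u pe), T.w (u p1), ?_⟩
  unfold Clause5
  refine ⟨?_, ?_, ?_, ?_, ?_, ?_, ?_, ?_, ?_⟩
  · intro i hi
    rw [hm i, cbt_zero _ hi, one_mul]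
  · intro i hi
    rw [hm i, cbt_mid _ (by omega) (by omega)]
  · intro i hi
    have hil := i.isLt
    rw [hm i, cbt_end _ (by omega) (by omega), one_mul]
  · intro i hi
    rw [hw0 i hi]; omega
  · intro i hi
    rw [hwp i (by omega)]
  · intro i j hij hc
    rw [ha i j hij, Bbt_fwd0 _ (by omega) (by omega) hc.1, hw0 i hc.1]; omega
  · intro i j hij hc
    rw [ha i j hij, Bbt_fwd1 _ (by omega) (by omega) (by omega), hwp i (by omega), one_mul]
  · intro i j hij hc
    rw [ha i j hij, Bbt_br _ (Or.inl hc), hwp i (by omega), one_mul]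
  · intro i j hij hc0 hc1 hc2
    have hjl := j.isLt
    rw [ha i j hij, Bbt_zero _ (by omega) (by omega) (by omega), zero_mul]


theorem fam6 {k : ℕ} (u : Fin k ↪ Fin n) (hv : ∀ j, T.IsMinusTwo (u j)) (hk : 4 ≤ k)
    (hB : ∀ p q, p ≠ q → Bbt 2 k p q ≤ kk T (u p) (u q)) :
    k = n ∧ ∃ m w : ℤ, Clause6 T k u m w := by
  obtain ⟨hkn, hK, hprop⟩ := fam_bt T u hv hk (Or.inr rfl) hB
  refine ⟨hkn, ?_⟩
  obtain ⟨p0, hp0⟩ := exists_fin (t := k) 0 (by omega)
  obtain ⟨p1, hp1⟩ := exists_fin (t := k) 1 (by omega)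
  obtain ⟨pe, hpe⟩ := exists_fin (t := k) (k - 1) (by omega)
  obtain ⟨pb, hpb⟩ := exists_fin (t := k) (k - 3) (by omega)
  have e01 := K_mul T (u p0) (u p1)
  rw [hK p0 p1 (fin_ne (by omega)), hK p1 p0 (fin_ne (by omega)),
    Bbt_fwd0 _ (by omega) (by omega) hp0, Bbt_bwd0 _ (by omega) (by omega) hp0] at e01
  have hwi : ∀ q : Fin k, 1 ≤ q.val → q.val + 2 ≤ k → T.w (u q) = T.w (u p1) := by
    intro q h1 h2
    refine IsChainOn.W_eq (T := T) (v := u) (lo := 1) (hi := k - 2) ?_ p1 q (by omega) (by omega)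
      (by omega)
    intro j j' hj hj' hjj
    have hne : j ≠ j' := fin_ne (by omega)
    rw [hK j j' hne, hK j' j hne.symm]
    exact ⟨Bbt_fwd1 _ (by omega) (by omega) (by omega), Bbt_bwd1 _ (by omega) (by omega) (by omega)⟩
  have hwb := hwi pb (by omega) (by omega)
  have hwe : T.w (u pe) = T.w (u pb) := by
    refine W_eq_of_K_one T ?_ ?_
    · rw [hK pb pe (fin_ne (by omega))]; exact Bbt_br _ (Or.inl ⟨by omega, by omega⟩)
    · rw [hK pe pb (fin_ne (by omega))]; exact Bbt_br _ (Or.inr ⟨by omega, by omega⟩)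
  have hw1 : 2 * T.w (u p0) = T.w (u p1) := by omega
  have hm : ∀ i : Fin k, T.m (u i) = cbt 2 k i * T.m (u pe) := by
    intro i
    have := hprop i pe
    rw [cbt_end _ (p := pe) (by omega) (by omega)] at this
    linarith
  have hw0 : ∀ i : Fin k, i.val = 0 → T.w (u i) = T.w (u p0) := by
    intro i hi
    rw [show i = p0 from Fin.ext (by omega)]
  have hwp : ∀ i : Fin k, i.val ≠ 0 → T.w (u i) = T.w (u p1) := by
    intro i hi
    have hil := i.isLt
    by_cases h2 : i.val + 1 = k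
    · rw [show i = pe from Fin.ext (by omega), hwe, hwb]
    · exact hwi i (by omega) (by omega)
  have ha : ∀ i j : Fin k, i.val < j.val → T.a (u i) (u j) = Bbt 2 k i j * T.w (u i) := by
    intro i j hij
    rw [a_eq_K_emb, hK i j (fin_ne (by omega))]
  refine ⟨T.m (u pe), T.w (u p0), ?_⟩
  unfold Clause6
  refine ⟨?_, ?_, ?_, ?_, ?_, ?_, ?_⟩
  · intro i hi
    rw [hm i]
    by_cases h0 : i.val = 0
    · rw [cbt_zero _ h0]
    · rw [cbt_mid _ h0 (by omega)]
  · intro i hi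
    have hil := i.isLt
    rw [hm i, cbt_end _ (by omega) (by omega), one_mul]
  · intro i hi
    rw [hw0 i hi]
  · intro i hi
    rw [hwp i (by omega)]; omega
  · intro i j hij hc
    rw [ha i j hij]
    by_cases h0 : i.val = 0
    · rw [Bbt_fwd0 _ (by omega) (by omega) h0, hw0 i h0]
    · rw [Bbt_fwd1 _ (by omega) (by omega) h0, hwp i h0]; omega
  · intro i j hij hc
    rw [ha i j hij, Bbt_br _ (Or.inl hc), hwp i (by omega)]; omega
  · intro i j hij hc0 hc1
    have hjl := j.isLt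
    rw [ha i j hij, Bbt_zero _ (by omega) (by omega) (by omega), zero_mul]


end Groth.Agent.Lib.Helper11
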