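import Groth.Agent.Lib.Helper11Fam3

/-!
Genus one classification, the double fork family.
-/

namespace Groth.Agent.Lib.Helper11

open Finset Models

variable {n : ℕ} (T : Models.NumericalType n)

/-- Cartan integers of the double fork -/
def Bdd (k : ℕ) (p q : Fin k) : ℤ :=
  if ((p.val = 0 ∧ q.val = 2) ∨ (p.val = 1 ∧ q.val = 2) ∨
      (q.val = p.val + 1 ∧ 2 ≤ p.val ∧ q.val + 2 ≤ k) ∨ (p.val + 3 = k ∧ q.val + 1 = k)) ∨
     ((q.val = 0 ∧ p.val = 2) ∨ (q.val = 1 ∧ p.val = 2) ∨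
      (p.val = q.val + 1 ∧ 2 ≤ q.val ∧ p.val + 2 ≤ k) ∨ (q.val + 3 = k ∧ p.val + 1 = k))
  then 1 else 0

/-- the null vector of the double fork -/
def cdd (k : ℕ) (p : Fin k) : ℤ := if p.val ≤ 1 ∨ k ≤ p.val + 2 then 1 else 2

theorem Bdd_nonneg (k : ℕ) (p q : Fin k) : 0 ≤ Bdd k p q := by
  unfold Bdd; split_ifs <;> norm_num

theorem cdd_pos (k : ℕ) (p : Fin k) : 0 < cdd k p := by
  unfold cdd; split_ifs <;> norm_num

theorem Bdd_one {k : ℕ} {p q : Fin k}
    (h : ((p.val = 0 ∧ q.val = 2) ∨ (p.val = 1 ∧ q.val = 2) ∨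
      (q.val = p.val + 1 ∧ 2 ≤ p.val ∧ q.val + 2 ≤ k) ∨ (p.val + 3 = k ∧ q.val + 1 = k)) ∨
     ((q.val = 0 ∧ p.val = 2) ∨ (q.val = 1 ∧ p.val = 2) ∨
      (p.val = q.val + 1 ∧ 2 ≤ q.val ∧ p.val + 2 ≤ k) ∨ (q.val + 3 = k ∧ p.val + 1 = k))) :
    Bdd k p q = 1 := if_pos h

theorem Bdd_zero {k : ℕ} {p q : Fin k}
    (h : ¬ (((p.val = 0 ∧ q.val = 2) ∨ (p.val = 1 ∧ q.val = 2) ∨
      (q.val = p.val + 1 ∧ 2 ≤ p.val ∧ q.val + 2 ≤ k) ∨ (p.val + 3 = k ∧ q.val + 1 = k)) ∨
     ((q.val = 0 ∧ p.val = 2) ∨ (q.val = 1 ∧ p.val = 2) ∨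
      (p.val = q.val + 1 ∧ 2 ≤ q.val ∧ p.val + 2 ≤ k) ∨ (q.val + 3 = k ∧ p.val + 1 = k)))) :
    Bdd k p q = 0 := if_neg h

theorem cdd_one {k : ℕ} {p : Fin k} (h : p.val ≤ 1 ∨ k ≤ p.val + 2) : cdd k p = 1 := if_pos h

theorem cdd_two {k : ℕ} {p : Fin k} (h : ¬ (p.val ≤ 1 ∨ k ≤ p.val + 2)) : cdd k p = 2 := if_neg h

theorem fam7 {k : ℕ} (u : Fin k ↪ Fin n) (hv : ∀ j, T.IsMinusTwo (u j)) (hk : 6 ≤ k)
    (hB : ∀ p q, p ≠ q → Bdd k p q ≤ kk T (u p) (u q)) :
    k = n ∧ ∃ m w : ℤ, Clause7 T k u m w := by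
  obtain ⟨hkn, -, hK, hprop⟩ := affine_master T u hv (cdd k) (cdd_pos k)
    (by omega) (Bdd k) hB (by
      intro p
      have hp := p.isLt
      have hf : ∀ q, q ≠ p → 0 ≤ Bdd k p q * cdd k q := fun q _ =>
        mul_nonneg (Bdd_nonneg k p q) (cdd_pos k q).le
      by_cases h0 : p.val ≤ 1
      · obtain ⟨q1, hq1⟩ := exists_fin (t := k) 2 (by omega)
        have := sum_erase_ge_one (fun q => Bdd k p q * cdd k q) p q1 (fin_ne (by omega)) hf
        refine le_trans ?_ this
        rw [cdd_one (Or.inl h0), Bdd_one (by omega), cdd_two (by omega)]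
        norm_num
      by_cases h1 : k ≤ p.val + 2
      · obtain ⟨q1, hq1⟩ := exists_fin (t := k) (k - 3) (by omega)
        have := sum_erase_ge_one (fun q => Bdd k p q * cdd k q) p q1 (fin_ne (by omega)) hf
        refine le_trans ?_ this
        rw [cdd_one (Or.inr h1), Bdd_one (by omega), cdd_two (by omega)]
        norm_num
      by_cases h2 : p.val = 2
      · obtain ⟨q1, hq1⟩ := exists_fin (t := k) 0 (by omega)
        obtain ⟨q2, hq2⟩ := exists_fin (t := k) 1 (by omega)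
        obtain ⟨q3, hq3⟩ := exists_fin (t := k) 3 (by omega)
        have := sum_erase_ge_three (fun q => Bdd k p q * cdd k q) p q1 q2 q3
          (fin_ne (by omega)) (fin_ne (by omega)) (fin_ne (by omega)) (fin_ne (by omega))
          (fin_ne (by omega)) (fin_ne (by omega)) hf
        refine le_trans ?_ this
        rw [cdd_two (by omega), Bdd_one (q := q1) (by omega), Bdd_one (q := q2) (by omega),
          Bdd_one (q := q3) (by omega), cdd_one (p := q1) (by omega), cdd_one (p := q2) (by omega),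
          cdd_two (p := q3) (by omega)]
        norm_num
      by_cases h3 : p.val + 3 = k
      · obtain ⟨q1, hq1⟩ := exists_fin (t := k) (k - 4) (by omega)
        obtain ⟨q2, hq2⟩ := exists_fin (t := k) (k - 2) (by omega)
        obtain ⟨q3, hq3⟩ := exists_fin (t := k) (k - 1) (by omega)
        have := sum_erase_ge_three (fun q => Bdd k p q * cdd k q) p q1 q2 q3
          (fin_ne (by omega)) (fin_ne (by omega)) (fin_ne (by omega)) (fin_ne (by omega))
          (fin_ne (by omega)) (fin_ne (by omega)) hf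
        refine le_trans ?_ this
        rw [cdd_two (by omega), Bdd_one (q := q1) (by omega), Bdd_one (q := q2) (by omega),
          Bdd_one (q := q3) (by omega), cdd_two (p := q1) (by omega), cdd_one (p := q2) (by omega),
          cdd_one (p := q3) (by omega)]
        norm_num
      · obtain ⟨q1, hq1⟩ := exists_fin (t := k) (p.val - 1) (by omega)
        obtain ⟨q2, hq2⟩ := exists_fin (t := k) (p.val + 1) (by omega)
        have := sum_erase_ge_two (fun q => Bdd k p q * cdd k q) p q1 q2 (fin_ne (by omega))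
          (fin_ne (by omega)) (fin_ne (by omega)) hf
        refine le_trans ?_ this
        rw [cdd_two (by omega), Bdd_one (q := q1) (by omega), Bdd_one (q := q2) (by omega),
          cdd_two (p := q1) (by omega), cdd_two (p := q2) (by omega)]
        norm_num)
  refine ⟨hkn, ?_⟩
  obtain ⟨p0, hp0⟩ := exists_fin (t := k) 0 (by omega)
  obtain ⟨p1, hp1⟩ := exists_fin (t := k) 1 (by omega)
  obtain ⟨p2, hp2⟩ := exists_fin (t := k) 2 (by omega)
  obtain ⟨pe, hpe⟩ := exists_fin (t := k) (k - 1) (by omega)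
  obtain ⟨pb, hpb⟩ := exists_fin (t := k) (k - 3) (by omega)
  have hwi : ∀ q : Fin k, 2 ≤ q.val → q.val + 2 ≤ k → T.w (u q) = T.w (u p2) := by
    intro q h1 h2
    refine IsChainOn.W_eq (T := T) (v := u) (lo := 2) (hi := k - 2) ?_ p2 q (by omega) (by omega)
      (by omega)
    intro j j' hj hj' hjj
    have hne : j ≠ j' := fin_ne (by omega)
    rw [hK j j' hne, hK j' j hne.symm]
    exact ⟨Bdd_one (by omega), Bdd_one (by omega)⟩
  have hwb := hwi pb (by omega) (by omega)
  have hwe : T.w (u pe) = T.w (u pb) := by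
    refine W_eq_of_K_one T ?_ ?_
    · rw [hK pb pe (fin_ne (by omega))]; exact Bdd_one (by omega)
    · rw [hK pe pb (fin_ne (by omega))]; exact Bdd_one (by omega)
  have hw0 : T.w (u p0) = T.w (u p2) := by
    refine W_eq_of_K_one T ?_ ?_
    · rw [hK p2 p0 (fin_ne (by omega))]; exact Bdd_one (by omega)
    · rw [hK p0 p2 (fin_ne (by omega))]; exact Bdd_one (by omega)
  have hw1 : T.w (u p1) = T.w (u p2) := by
    refine W_eq_of_K_one T ?_ ?_
    · rw [hK p2 p1 (fin_ne (by omega))]; exact Bdd_one (by omega)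
    · rw [hK p1 p2 (fin_ne (by omega))]; exact Bdd_one (by omega)
  have hwall : ∀ i : Fin k, T.w (u i) = T.w (u p2) := by
    intro i
    have hil := i.isLt
    by_cases h0 : i.val = 0
    · rw [show i = p0 from Fin.ext (by omega), hw0]
    by_cases h1 : i.val = 1
    · rw [show i = p1 from Fin.ext (by omega), hw1]
    by_cases h2 : i.val + 1 = k
    · rw [show i = pe from Fin.ext (by omega), hwe, hwb]
    · exact hwi i (by omega) (by omega)
  have hm : ∀ i : Fin k, T.m (u i) = cdd k i * T.m (u p0) := by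
    intro i
    have := hprop i p0
    rw [cdd_one (p := p0) (by omega)] at this
    linarith
  have ha : ∀ i j : Fin k, i.val < j.val → T.a (u i) (u j) = Bdd k i j * T.w (u p2) := by
    intro i j hij
    rw [a_eq_K_emb, hK i j (fin_ne (by omega)), hwall i]
  refine ⟨T.m (u p0), T.w (u p2), ?_⟩
  unfold Clause7
  refine ⟨?_, ?_, ?_, ?_, ?_, ?_, ?_, ?_, ?_⟩
  · intro i hi
    rw [hm i, cdd_one (Or.inl hi), one_mul]
  · intro i hi
    rw [hm i, cdd_two (by omega)]
  · intro i hi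
    rw [hm i, cdd_one (Or.inr hi), one_mul]
  · exact hwall
  · intro i j hij hc
    rw [ha i j hij, Bdd_one (by omega), one_mul]
  · intro i j hij hc
    rw [ha i j hij, Bdd_one (by omega), one_mul]
  · intro i j hij hc
    rw [ha i j hij, Bdd_one (by omega), one_mul]
  · intro i j hij hc
    rw [ha i j hij, Bdd_one (by omega), one_mul]
  · intro i j hij hc0 hc1 hc2 hc3
    rw [ha i j hij, Bdd_zero (by omega), zero_mul]

end Groth.Agent.Lib.Helper11
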