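import Mathlib

/-!
# Characteristic polynomial of an endomorphism of a finite projective module via a retract (helper2)

For a finite projective `R`-module `S`, choose `S ⊕ Q ≅ R^n` (`Ret R S n`: `i : S → R^n`, `p : R^n → S`,
`p ∘ i = id`).  `Ret.cp r m` is the characteristic polynomial of `i ∘ m ∘ p` (i.e. `m ⊕ 0_Q`); it is monic
of degree `n`, independent of the retract for fixed `n` (`Ret.cp_eq`), kills `m` (`Ret.aeval_cp`),
and commutes with base change (`Ret.bc`, `Ret.bc_cp`).  `IsRCP R S n b χ` packages this for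
multiplication by `b` in an `R`-algebra `S`; `isRCP_cat` is the `CommRingCat`-pushout version.
-/

set_option autoImplicit false
set_option linter.style.haveILetI false
set_option linter.unusedSectionVars false
universe u

open CategoryTheory CategoryTheory.Limits TensorProduct Polynomial

namespace Groth.Agent.Lib.Helper2.RetCharpoly

/-- `S` is a retract of `R^n` as an `R`-module. -/
structure Ret (R S : Type*) [CommRing R] [AddCommGroup S] [Module R S] (n : ℕ) where
  i : S →ₗ[R] (Fin n → R)
  p : (Fin n → R) →ₗ[R] S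
  hpi : p ∘ₗ i = LinearMap.id

namespace Ret
variable {R S : Type*} [CommRing R] [AddCommGroup S] [Module R S] {n : ℕ}

/-- the endomorphism `i ∘ m ∘ p` of `R^n` -/
def endo (r : Ret R S n) (m : S →ₗ[R] S) : (Fin n → R) →ₗ[R] (Fin n → R) := r.i ∘ₗ m ∘ₗ r.p

/-- its characteristic polynomial -/
noncomputable def cp (r : Ret R S n) (m : S →ₗ[R] S) : R[X] := (LinearMap.toMatrix' (r.endo m)).charpoly

theorem pi_apply (r : Ret R S n) (x : S) : r.p (r.i x) = x := by
  have := LinearMap.congr_fun r.hpi x
  simpa using this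

theorem cp_monic (r : Ret R S n) (m : S →ₗ[R] S) : (r.cp m).Monic := Matrix.charpoly_monic _

theorem cp_eq (r1 r2 : Ret R S n) (m : S →ₗ[R] S) : r1.cp m = r2.cp m := by
  let X : (Fin n → R) →ₗ[R] (Fin n → R) := r1.i ∘ₗ m ∘ₗ r2.p
  let Y : (Fin n → R) →ₗ[R] (Fin n → R) := r2.i ∘ₗ r1.p
  have h1 : X ∘ₗ Y = r1.endo m := by
    ext v j
    simp [X, Y, endo, pi_apply]
  have h2 : Y ∘ₗ X = r2.endo m := by
    ext v j
    simp [X, Y, endo, pi_apply]
  unfold cp
  rw [← h1, ← h2, LinearMap.toMatrix'_comp, LinearMap.toMatrix'_comp]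
  exact Matrix.charpoly_mul_comm _ _

theorem p_pow_i (r : Ret R S n) (m : S →ₗ[R] S) (k : ℕ) :
    r.p ∘ₗ ((r.endo m) ^ k) ∘ₗ r.i = m ^ k := by
  induction k with
  | zero =>
    simp only [pow_zero]
    ext x
    simp [pi_apply, Module.End.one_apply]
  | succ k ih =>
    rw [pow_succ, pow_succ]
    ext x
    have := LinearMap.congr_fun ih (m x)
    simp only [LinearMap.comp_apply, Module.End.mul_apply] at this ⊢
    rw [← this]
    simp [endo, pi_apply]

theorem p_aeval_i (r : Ret R S n) (m : S →ₗ[R] S) (q : R[X]) :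
    r.p ∘ₗ (aeval (r.endo m) q) ∘ₗ r.i = aeval m q := by
  induction q using Polynomial.induction_on with
  | C a =>
    ext x
    simp [pi_apply, Module.algebraMap_end_apply]
  | add p q hp hq =>
    rw [map_add, map_add, ← hp, ← hq]
    ext x
    simp
  | monomial k a ih =>
    ext x
    have := LinearMap.congr_fun (r.p_pow_i m (k + 1)) x
    simp only [LinearMap.comp_apply] at this
    simp [this]

theorem aeval_cp (r : Ret R S n) (m : S →ₗ[R] S) : aeval m (r.cp m) = 0 := by
  rw [← r.p_aeval_i m]
  have h : aeval (r.endo m) (r.cp m) = 0 := by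
    have h1 : r.cp m = (r.endo m).charpoly := by
      unfold cp
      rw [← LinearMap.toMatrix_eq_toMatrix', LinearMap.charpoly_toMatrix]
    rw [h1]
    exact LinearMap.aeval_self_charpoly _
  rw [h]
  simp


end Ret

theorem exists_ret (R S : Type*) [CommRing R] [AddCommGroup S] [Module R S] [Module.Finite R S]
    [Module.Projective R S] : ∃ n, Nonempty (Ret R S n) := by
  obtain ⟨n, p, hp⟩ := Module.Finite.exists_fin' R S
  obtain ⟨i, hi⟩ := Module.projective_lifting_property p LinearMap.id hp
  exact ⟨n, ⟨⟨i, p, hi⟩⟩⟩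

section BC
variable {R S T P : Type*} [CommRing R] [CommRing S] [CommRing T] [CommRing P]
  [Algebra R S] [Algebra R T] [Algebra S P] [Algebra T P] [Algebra R P]
  [IsScalarTower R S P] [IsScalarTower R T P] [Algebra.IsPushout R T S P] {n : ℕ}

theorem lift_algebraMap {Q : Type*} [AddCommGroup Q] [Module R Q] [Module T Q] [IsScalarTower R T Q]
    (g : S →ₗ[R] Q) (x : S) :
    (Algebra.IsPushout.out (R := R) (S := T) (R' := S) (S' := P)).lift g (algebraMap S P x) = g x :=
  (Algebra.IsPushout.out (R := R) (S := T) (R' := S) (S' := P)).lift_eq g x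

/-- base change of retract data -/
noncomputable def Ret.bc (r : Ret R S n) : Ret T P n where
  i := (Algebra.IsPushout.out (R := R) (S := T) (R' := S) (S' := P)).lift
    (((Algebra.linearMap R T).compLeft (Fin n)) ∘ₗ r.i)
  p := Fintype.linearCombination T (fun k => algebraMap S P (r.p (Pi.single k 1)))
  hpi := by
    apply (Algebra.IsPushout.out (R := R) (S := T) (R' := S) (S' := P)).algHom_ext
    intro s
    show Fintype.linearCombination T (fun k => algebraMap S P (r.p (Pi.single k 1)))
      ((Algebra.IsPushout.out (R := R) (S := T) (R' := S) (S' := P)).lift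
        (((Algebra.linearMap R T).compLeft (Fin n)) ∘ₗ r.i) (algebraMap S P s)) = algebraMap S P s
    rw [lift_algebraMap, Fintype.linearCombination_apply]
    simp only [LinearMap.comp_apply, LinearMap.compLeft_apply, Function.comp_apply,
      Algebra.linearMap_apply]
    have h1 : ∀ k, (algebraMap R T (r.i s k)) • algebraMap S P (r.p (Pi.single k 1)) =
        algebraMap S P ((r.i s k) • r.p (Pi.single k 1)) := by
      intro k
      rw [Algebra.smul_def, ← IsScalarTower.algebraMap_apply R T P, IsScalarTower.algebraMap_apply R S P,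
        ← map_mul, ← Algebra.smul_def]
    simp only [h1]
    rw [← map_sum]
    have h2 : r.i s = ∑ k, (r.i s k) • (Pi.single k 1 : Fin n → R) := by
      ext j
      simp [Finset.sum_apply, Pi.single_apply]
    have h3 : ∑ k, (r.i s k) • r.p (Pi.single k 1) = s := by
      conv_rhs => rw [← r.pi_apply s, h2, map_sum]
      refine Finset.sum_congr rfl fun k _ => ?_
      rw [map_smul]
    rw [h3]

theorem Ret.bc_cp (r : Ret R S n) (b : S) :
    (r.bc (T := T) (P := P)).cp (Algebra.lmul T P (algebraMap S P b)) =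
      (r.cp (Algebra.lmul R S b)).map (algebraMap R T) := by
  unfold Ret.cp
  rw [← Matrix.charpoly_map]
  congr 1
  ext j k
  rw [Matrix.map_apply, LinearMap.toMatrix'_apply, LinearMap.toMatrix'_apply]
  simp only [Ret.endo, LinearMap.comp_apply, Ret.bc]
  rw [Fintype.linearCombination_apply]
  have h1 : (∑ i, (Pi.single k (1 : T) : Fin n → T) i • algebraMap S P (r.p (Pi.single i 1))) =
      algebraMap S P (r.p (Pi.single k 1)) := by
    rw [Finset.sum_eq_single k]
    · simp
    · intro i _ hik
      simp [hik]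
    · intro hk
      exact (hk (Finset.mem_univ k)).elim
  rw [h1]
  simp only [Algebra.lmul_algebraMap, Algebra.coe_lmul_eq_mul, LinearMap.mul_apply']
  rw [← map_mul, lift_algebraMap]
  simp

end BC

/-- `χ` is the characteristic polynomial of multiplication by `b` on `S ⊕ Q ≅ R^n` (extended by zero
on a complement `Q`). -/
def IsRCP (R S : Type*) [CommRing R] [CommRing S] [Algebra R S] (n : ℕ) (b : S) (χ : R[X]) : Prop :=
  ∃ r : Ret R S n, χ = r.cp (Algebra.lmul R S b)

namespace IsRCP
variable {R S : Type*} [CommRing R] [CommRing S] [Algebra R S] {n : ℕ} {b : S} {χ χ' : R[X]}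

theorem unique (h1 : IsRCP R S n b χ) (h2 : IsRCP R S n b χ') : χ = χ' := by
  obtain ⟨r1, rfl⟩ := h1
  obtain ⟨r2, rfl⟩ := h2
  exact Ret.cp_eq r1 r2 _

theorem monic (h : IsRCP R S n b χ) : χ.Monic := by
  obtain ⟨r, rfl⟩ := h
  exact r.cp_monic _

theorem aeval_eq_zero (h : IsRCP R S n b χ) : aeval b χ = 0 := by
  obtain ⟨r, rfl⟩ := h
  have h1 := r.aeval_cp (Algebra.lmul R S b)
  rw [Polynomial.aeval_algHom_apply] at h1
  have h2 := LinearMap.congr_fun h1 1
  simpa using h2

theorem bc {T P : Type*} [CommRing T] [CommRing P] [Algebra R T] [Algebra S P] [Algebra T P]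
    [Algebra R P] [IsScalarTower R S P] [IsScalarTower R T P] [Algebra.IsPushout R T S P]
    (h : IsRCP R S n b χ) : IsRCP T P n (algebraMap S P b) (χ.map (algebraMap R T)) := by
  obtain ⟨r, rfl⟩ := h
  exact ⟨r.bc, (r.bc_cp b).symm⟩

end IsRCP

theorem exists_isRCP (R S : Type*) [CommRing R] [CommRing S] [Algebra R S] [Module.Finite R S]
    [Module.Projective R S] : ∃ n, ∀ b : S, ∃ χ, IsRCP R S n b χ := by
  obtain ⟨n, ⟨r⟩⟩ := exists_ret R S
  exact ⟨n, fun b => ⟨_, r, rfl⟩⟩

theorem isRCP_cat {R S T P : CommRingCat.{u}} {f : R ⟶ S} {g : R ⟶ T} {inl : S ⟶ P} {inr : T ⟶ P}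
    (h : IsPushout f g inl inr) (n : ℕ) (b : S) (χ : (R : Type u)[X])
    (hχ : letI := f.hom.toAlgebra; IsRCP R S n b χ) :
    letI := inr.hom.toAlgebra; IsRCP T P n (inl.hom b) (χ.map g.hom) := by
  algebraize [f.hom, g.hom, inl.hom, inr.hom, inl.hom.comp f.hom]
  have : IsScalarTower R T P := .of_algebraMap_eq' <| congr($(h.1.1).hom)
  have h1 : Algebra.IsPushout R S T P := CommRingCat.isPushout_iff_isPushout.mp h
  have h2 : Algebra.IsPushout R T S P := h1.symm
  exact IsRCP.bc hχ

end Groth.Agent.Lib.Helper2.RetCharpoly
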