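import Mathlib
import Groth.Agent.Lib.Helper2RetCharpoly

/-!
# Norm for finite projective algebras via a retract (helper11)

On top of helper2's `Ret R S n` (`S` a retract of `R^n`): `Ret.mat r b` is the matrix of
`i ∘ (b·) ∘ p` (multiplication by `b` extended by `0`), `Ret.gdet r φ lam b` the "generalised norm"
`det (1 - φ(E) + ∑ lam j • φ(mat (b j)))`, `Ret.nm r b = det (1 - E + mat b)` the norm (multiplication by
`b` extended by `1`).  Independence of the retract (Weinstein–Aronszajn), base change,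
multiplicativity, `b ∣ nm b` and the prime criterion.
-/

set_option autoImplicit false
set_option linter.style.haveILetI false
set_option linter.unusedSectionVars false
universe u

open TensorProduct Polynomial

namespace Groth.Agent.Lib.Helper11.Ffg

open Groth.Agent.Lib.Helper2.RetCharpoly

section Basic
variable {R S : Type*} [CommRing R] [CommRing S] [Algebra R S] {n : ℕ}

/-- matrix of `i ∘ (b·) ∘ p` -/
noncomputable def mat (r : Ret R S n) (b : S) : Matrix (Fin n) (Fin n) R :=
  LinearMap.toMatrix' (r.i ∘ₗ (Algebra.lmul R S b) ∘ₗ r.p)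

theorem mat_add (r : Ret R S n) (b b' : S) : mat r (b + b') = mat r b + mat r b' := by
  unfold mat
  rw [← map_add]
  congr 1
  ext v j
  simp

theorem mat_zero (r : Ret R S n) : mat r 0 = 0 := by
  unfold mat
  rw [map_zero]
  simp

theorem mat_smul (r : Ret R S n) (a : R) (b : S) : mat r (a • b) = a • mat r b := by
  unfold mat
  rw [← map_smul]
  congr 1
  ext v j
  simp

theorem mat_sum (r : Ret R S n) {ι : Type*} (s : Finset ι) (b : ι → S) :
    mat r (∑ j ∈ s, b j) = ∑ j ∈ s, mat r (b j) := by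
  classical
  induction s using Finset.induction_on with
  | empty => simp [mat_zero]
  | insert a s ha ih => rw [Finset.sum_insert ha, Finset.sum_insert ha, mat_add, ih]

theorem mat_mul (r : Ret R S n) (b b' : S) : mat r (b * b') = mat r b * mat r b' := by
  unfold mat
  rw [← LinearMap.toMatrix'_comp]
  congr 1
  ext v j
  simp [Ret.pi_apply, mul_assoc]

theorem mat_one_mul (r : Ret R S n) (b : S) : mat r 1 * mat r b = mat r b := by
  rw [← mat_mul, one_mul]

theorem mat_mul_one (r : Ret R S n) (b : S) : mat r b * mat r 1 = mat r b := by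
  rw [← mat_mul, mul_one]

/-- generalised norm: `det (1 - φ E + ∑ lam j • φ (mat (b j)))` -/
noncomputable def gdet (r : Ret R S n) {L : Type*} [CommRing L] (φ : R →+* L) {ι : Type*}
    [Fintype ι] (lam : ι → L) (b : ι → S) : L :=
  (1 - (mat r 1).map φ + ∑ j, lam j • (mat r (b j)).map φ).det

/-- the norm -/
noncomputable def nm (r : Ret R S n) (b : S) : R := (1 - mat r 1 + mat r b).det

theorem nm_one (r : Ret R S n) : nm r 1 = 1 := by
  simp [nm]

theorem nm_mul (r : Ret R S n) (b b' : S) : nm r (b * b') = nm r b * nm r b' := by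
  unfold nm
  rw [← Matrix.det_mul]
  congr 1
  rw [mat_mul]
  have h1 := mat_one_mul r b'
  have h2 := mat_mul_one r b
  have h3 := mat_one_mul r 1
  simp only [add_mul, mul_add, sub_mul, mul_sub, one_mul, mul_one, h1, h2, h3]
  abel

theorem gdet_eq_nm (r : Ret R S n) {ι : Type*} [Fintype ι] (lam : ι → R) (b : ι → S) :
    gdet r (RingHom.id R) lam b = nm r (∑ j, lam j • b j) := by
  unfold gdet nm
  congr 1
  rw [mat_sum]
  simp only [mat_smul]
  simp

theorem map_gdet (r : Ret R S n) {L L' : Type*} [CommRing L] [CommRing L'] (φ : R →+* L)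
    (ψ : L →+* L') {ι : Type*} [Fintype ι] (lam : ι → L) (b : ι → S) :
    ψ (gdet r φ lam b) = gdet r (ψ.comp φ) (fun j => ψ (lam j)) b := by
  unfold gdet
  rw [RingHom.map_det]
  congr 1
  ext i j
  simp [Matrix.sum_apply, Matrix.one_apply, Matrix.add_apply, Matrix.sub_apply]

/-- mixed matrix `i₁ ∘ (b·) ∘ p₂` -/
noncomputable def xmat (r1 r2 : Ret R S n) (b : S) : Matrix (Fin n) (Fin n) R :=
  LinearMap.toMatrix' (r1.i ∘ₗ (Algebra.lmul R S b) ∘ₗ r2.p)

theorem xmat_mul (r1 r2 : Ret R S n) (b : S) : xmat r1 r2 b * xmat r2 r1 1 = mat r1 b := by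
  unfold xmat mat
  rw [← LinearMap.toMatrix'_comp]
  congr 1
  ext v j
  simp [Ret.pi_apply]

theorem mul_xmat (r1 r2 : Ret R S n) (b : S) : xmat r2 r1 1 * xmat r1 r2 b = mat r2 b := by
  unfold xmat mat
  rw [← LinearMap.toMatrix'_comp]
  congr 1
  ext v j
  simp [Ret.pi_apply]

/-- independence of the retract (Weinstein–Aronszajn identity). -/
theorem gdet_eq (r1 r2 : Ret R S n) {L : Type*} [CommRing L] (φ : R →+* L) {ι : Type*}
    [Fintype ι] (lam : ι → L) (b : ι → S) : gdet r1 φ lam b = gdet r2 φ lam b := by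
  unfold gdet
  let X : Matrix (Fin n) (Fin n) L :=
    ∑ j, lam j • (xmat r1 r2 (b j)).map φ - (xmat r1 r2 1).map φ
  let Y : Matrix (Fin n) (Fin n) L := (xmat r2 r1 1).map φ
  have h1 : 1 - (mat r1 1).map φ + ∑ j, lam j • (mat r1 (b j)).map φ = 1 + X * Y := by
    simp only [X, Y, sub_mul, Finset.sum_mul, Matrix.smul_mul]
    rw [← Matrix.map_mul, xmat_mul]
    have : ∀ j, (xmat r1 r2 (b j)).map φ * (xmat r2 r1 1).map φ = (mat r1 (b j)).map φ := by
      intro j
      rw [← Matrix.map_mul, xmat_mul]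
    simp only [this]
    abel
  have h2 : 1 - (mat r2 1).map φ + ∑ j, lam j • (mat r2 (b j)).map φ = 1 + Y * X := by
    simp only [X, Y, mul_sub, Finset.mul_sum, Matrix.mul_smul]
    rw [← Matrix.map_mul, mul_xmat]
    have : ∀ j, (xmat r2 r1 1).map φ * (xmat r1 r2 (b j)).map φ = (mat r2 (b j)).map φ := by
      intro j
      rw [← Matrix.map_mul, mul_xmat]
    simp only [this]
    abel
  rw [h1, h2, Matrix.det_one_add_mul_comm]

theorem nm_eq_gdet (r : Ret R S n) (b : S) :
    nm r b = gdet r (RingHom.id R) (fun _ : Unit => (1 : R)) (fun _ => b) := by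
  rw [gdet_eq_nm]
  simp

theorem nm_eq (r1 r2 : Ret R S n) (b : S) : nm r1 b = nm r2 b := by
  rw [nm_eq_gdet, nm_eq_gdet, gdet_eq r1 r2]

/-- `b` divides (the image of) its norm. -/
theorem dvd_nm (r : Ret R S n) (b : S) : b ∣ algebraMap R S (nm r b) := by
  have h1 : nm r b = (r.cp (Algebra.lmul R S (1 - b))).eval 1 := by
    unfold nm Ret.cp
    rw [Matrix.eval_charpoly]
    congr 1
    have : LinearMap.toMatrix' (r.endo (Algebra.lmul R S (1 - b))) = mat r (1 - b) := rfl
    rw [this, sub_eq_add_neg 1 b, mat_add]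
    have h2 : mat r (-b) = - mat r b := by
      have := mat_smul r (-1 : R) b
      simpa using this
    rw [h2]
    simp only [map_one]
    abel
  have h2 : (Polynomial.aeval (1 - b)) (r.cp (Algebra.lmul R S (1 - b))) = 0 :=
    IsRCP.aeval_eq_zero ⟨r, rfl⟩
  set χ := r.cp (Algebra.lmul R S (1 - b)) with hχ
  obtain ⟨q, hq⟩ := Polynomial.X_sub_C_dvd_sub_C_eval (a := (1 : R)) (p := χ)
  have h3 := congrArg (Polynomial.aeval (1 - b)) hq
  rw [map_sub, h2, Polynomial.aeval_C, map_mul, map_sub, Polynomial.aeval_X, Polynomial.aeval_C,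
    map_one] at h3
  refine ⟨Polynomial.aeval (1 - b) q, ?_⟩
  rw [h1]
  have h4 : (1 - b - 1 : S) = -b := by ring
  rw [h4] at h3
  have h5 : algebraMap R S (Polynomial.eval 1 χ) = b * Polynomial.aeval (1 - b) q := by
    have := congrArg Neg.neg h3
    simpa using this
  exact h5

end Basic

section BC
variable {R S T P : Type*} [CommRing R] [CommRing S] [CommRing T] [CommRing P]
  [Algebra R S] [Algebra R T] [Algebra S P] [Algebra T P] [Algebra R P]
  [IsScalarTower R S P] [IsScalarTower R T P] [Algebra.IsPushout R T S P] {n : ℕ}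

theorem bc_mat (r : Ret R S n) (b : S) :
    mat (r.bc (T := T) (P := P)) (algebraMap S P b) = (mat r b).map (algebraMap R T) := by
  ext j k
  unfold mat
  rw [Matrix.map_apply, LinearMap.toMatrix'_apply, LinearMap.toMatrix'_apply]
  simp only [LinearMap.comp_apply, Ret.bc]
  rw [Fintype.linearCombination_apply]
  have h1 : (∑ i, (Pi.single k (1 : T) : Fin n → T) i • algebraMap S P (r.p (Pi.single i 1))) =
      algebraMap S P (r.p (Pi.single k 1)) := by
    rw [Finset.sum_eq_single k]
    · simp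
    · intro i _ hik
      simp [hik]
    · intro hk
      exact (hk (Finset.mem_univ k)).elim
  rw [h1]
  simp only [Algebra.coe_lmul_eq_mul, LinearMap.mul_apply']
  rw [← map_mul, lift_algebraMap (R := R) (S := S) (T := T) (P := P)]
  simp

theorem bc_gdet (r : Ret R S n) {L : Type*} [CommRing L] (ψ : T →+* L) {ι : Type*}
    [Fintype ι] (lam : ι → L) (b : ι → S) :
    gdet (r.bc (T := T) (P := P)) ψ lam (fun j => algebraMap S P (b j)) =
      gdet r (ψ.comp (algebraMap R T)) lam b := by
  unfold gdet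
  have h0 : mat (r.bc (T := T) (P := P)) 1 = (mat r 1).map (algebraMap R T) := by
    rw [← bc_mat (T := T) (P := P), map_one]
  simp only [bc_mat, h0, Matrix.map_map]
  rfl

theorem bc_nm (r : Ret R S n) (b : S) :
    nm (r.bc (T := T) (P := P)) (algebraMap S P b) = algebraMap R T (nm r b) := by
  rw [nm_eq_gdet, bc_gdet, nm_eq_gdet, map_gdet]
  simp

end BC

section Prime
variable {R S : Type*} [CommRing R] [CommRing S] [Algebra R S] {n : ℕ}

attribute [local instance] Algebra.TensorProduct.rightAlgebra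

theorem isUnit_nm_of_isUnit (r : Ret R S n) {b : S} (hb : IsUnit b) : IsUnit (nm r b) := by
  obtain ⟨c, hc⟩ := hb.exists_right_inv
  have := nm_mul r b c
  rw [hc, nm_one] at this
  exact IsUnit.of_mul_eq_one _ this.symm

/-- the prime criterion: `nm b ∈ p` iff `b` lies in some prime over `p`. -/
theorem nm_mem_iff (r : Ret R S n) (b : S) (p : Ideal R) [p.IsPrime] :
    nm r b ∈ p ↔ ∃ q : Ideal S, q.IsPrime ∧ q.comap (algebraMap R S) = p ∧ b ∈ q := by
  constructor
  · intro h
    let k := p.ResidueField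
    let P := k ⊗[R] S
    have h0 : algebraMap R k (nm r b) = 0 := Ideal.algebraMap_residueField_eq_zero.mpr h
    have h1 : nm (r.bc (T := k) (P := P)) (algebraMap S P b) = 0 := by
      rw [bc_nm, h0]
    have h2 : ¬ IsUnit (algebraMap S P b) := by
      intro hu
      have := isUnit_nm_of_isUnit (r.bc (T := k) (P := P)) hu
      rw [h1] at this
      exact not_isUnit_zero this
    obtain ⟨m, hm, hbm⟩ := exists_max_ideal_of_mem_nonunits h2
    refine ⟨m.comap (algebraMap S P), Ideal.comap_isPrime _ _, ?_, hbm⟩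
    rw [Ideal.comap_comap, ← IsScalarTower.algebraMap_eq, IsScalarTower.algebraMap_eq R k P,
      ← Ideal.comap_comap]
    have h3 : m.comap (algebraMap k P) = ⊥ := by
      have hne : m.comap (algebraMap k P) ≠ ⊤ := (Ideal.comap_isPrime _ _).ne_top
      rcases Ideal.eq_bot_or_top (m.comap (algebraMap k P)) with h | h
      · exact h
      · exact (hne h).elim
    rw [h3]
    exact Ideal.ker_algebraMap_residueField p
  · rintro ⟨q, hq, hqp, hb⟩
    rw [← hqp, Ideal.mem_comap]
    obtain ⟨c, hc⟩ := dvd_nm r b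
    rw [hc]
    exact Ideal.mul_mem_right _ _ hb

end Prime

section Cat
open CategoryTheory CategoryTheory.Limits

theorem gdet_of_mat {R S T P : Type*} [CommRing R] [CommRing S] [CommRing T] [CommRing P]
    [Algebra R S] [Algebra T P] {n : ℕ} (r : Ret R S n) (r' : Ret T P n) (g : R →+* T)
    (inl : S →+* P) (hm : ∀ b : S, mat r' (inl b) = (mat r b).map g)
    {L : Type*} [CommRing L] (ψ : T →+* L) {ι : Type*} [Fintype ι] (lam : ι → L) (b : ι → S) :
    gdet r' ψ lam (fun j => inl (b j)) = gdet r (ψ.comp g) lam b := by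
  unfold gdet
  have h0 : mat r' 1 = (mat r 1).map g := by
    rw [← hm, map_one]
  simp only [hm, h0, Matrix.map_map]
  rfl

/-- base change of a retract along a pushout square of commutative rings. -/
theorem exists_ret_cat {R S T P : CommRingCat.{u}} {f : R ⟶ S} {g : R ⟶ T} {inl : S ⟶ P}
    {inr : T ⟶ P} (h : IsPushout f g inl inr) {n : ℕ}
    (r : letI := f.hom.toAlgebra; Ret R S n) :
    letI := inr.hom.toAlgebra
    ∃ r' : Ret T P n, ∀ b : S,
      mat r' (inl.hom b) = (letI := f.hom.toAlgebra; mat r b).map g.hom := by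
  algebraize [f.hom, g.hom, inl.hom, inr.hom, inl.hom.comp f.hom]
  have : IsScalarTower R T P := .of_algebraMap_eq' <| congr($(h.1.1).hom)
  have h1 : Algebra.IsPushout R S T P := CommRingCat.isPushout_iff_isPushout.mp h
  have h2 : Algebra.IsPushout R T S P := h1.symm
  exact ⟨r.bc, fun b => bc_mat r b⟩

/-- **Universal invariance**: for an affine groupoid `(σ, τ : A ⇉ B, p0, p1, γ : B → D)` (two
pushout squares and `γ τ = p0 τ`), the generalised norm of a combination of elements `τ a_j` takes the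
same value through `σ` and through `τ`. -/
theorem gdet_invariant {A B D : CommRingCat.{u}} {σ τ : A ⟶ B} {p0 p1 γ : B ⟶ D}
    (h1 : IsPushout σ τ p0 p1) (h2 : IsPushout σ σ γ p1)
    (hγ : ∀ a, γ.hom (τ.hom a) = p0.hom (τ.hom a)) {n : ℕ}
    (r : letI := σ.hom.toAlgebra; Ret A B n)
    {L : Type*} [CommRing L] (ψ : B →+* L) {ι : Type*} [Fintype ι] (lam : ι → L) (a : ι → A) :
    letI := σ.hom.toAlgebra
    gdet r (ψ.comp σ.hom) lam (fun j => τ.hom (a j)) =
      gdet r (ψ.comp τ.hom) lam (fun j => τ.hom (a j)) := by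
  obtain ⟨r1, hr1⟩ := exists_ret_cat h1 r
  obtain ⟨r2, hr2⟩ := exists_ret_cat h2 r
  letI := σ.hom.toAlgebra
  letI := p1.hom.toAlgebra
  have e1 := gdet_of_mat r r1 τ.hom p0.hom hr1 ψ lam (fun j => τ.hom (a j))
  have e2 := gdet_of_mat r r2 σ.hom γ.hom hr2 ψ lam (fun j => τ.hom (a j))
  rw [← e1, ← e2]
  simp only [hγ]
  exact gdet_eq r2 r1 ψ lam _

end Cat

end Groth.Agent.Lib.Helper11.Ffg
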