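import Mathlib
import Groth.Agent.Lib.Helper11FfgNorm

/-!
# Algebra of affine finite locally free groupoids (helper11)

Setting: `A → B` (the source map `σ = algebraMap A B`), `τ : A → B`, `ε : B → A`, a retract `r` of
`B` over `A`, and the invariance property `HInv τ r` of generalised norms (which holds for an affine
groupoid scheme by `gdet_invariant`).  We derive: the norm of `τ f` is invariant, universal
polynomials with invariant coefficients, the orbit lemma (`exists_prime_of_comap_eq`), and the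
base-changed versions.
-/

set_option autoImplicit false
set_option linter.style.haveILetI false
set_option linter.unusedSectionVars false
universe u

open TensorProduct

namespace Groth.Agent.Lib.Helper11.Ffg

open Groth.Agent.Lib.Helper2.RetCharpoly

section Alg
variable {A B : Type u} [CommRing A] [CommRing B] [Algebra A B] (τ : A →+* B) {n : ℕ}
  (r : Ret A B n)

/-- the invariance property of generalised norms. -/
def HInv : Prop :=
  ∀ (L : Type u) [CommRing L] (ψ : B →+* L) (ι : Type u) [Fintype ι] (lam : ι → L) (a : ι → A),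
    gdet r (ψ.comp (algebraMap A B)) lam (fun j => τ (a j)) =
      gdet r (ψ.comp τ) lam (fun j => τ (a j))

/-- the universal polynomial `det (1 - E + ∑ X_j mat (τ a_j))`. -/
noncomputable def upoly {ι : Type u} [Fintype ι] (a : ι → A) : MvPolynomial ι A :=
  gdet r (MvPolynomial.C : A →+* MvPolynomial ι A) MvPolynomial.X (fun j => τ (a j))

theorem gdet_eq_eval₂ {L : Type*} [CommRing L] (φ : A →+* L) {ι : Type u} [Fintype ι]
    (lam : ι → L) (a : ι → A) :
    gdet r φ lam (fun j => τ (a j)) = (upoly τ r a).eval₂ φ lam := by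
  unfold upoly
  have := map_gdet r (MvPolynomial.C : A →+* MvPolynomial ι A) (MvPolynomial.eval₂Hom φ lam)
    MvPolynomial.X (fun j => τ (a j))
  rw [MvPolynomial.coe_eval₂Hom] at this
  rw [this]
  congr 1
  · ext x
    simp
  · ext j
    simp

variable {τ r}

theorem upoly_map (h : HInv τ r) {ι : Type u} [Fintype ι] (a : ι → A) :
    MvPolynomial.map (algebraMap A B) (upoly τ r a) = MvPolynomial.map τ (upoly τ r a) := by
  unfold upoly
  rw [map_gdet, map_gdet]
  have e1 : (MvPolynomial.map (algebraMap A B)).comp (MvPolynomial.C : A →+* MvPolynomial ι A) =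
      (MvPolynomial.C : B →+* MvPolynomial ι B).comp (algebraMap A B) := by
    ext x
    simp
  have e2 : (MvPolynomial.map τ).comp (MvPolynomial.C : A →+* MvPolynomial ι A) =
      (MvPolynomial.C : B →+* MvPolynomial ι B).comp τ := by
    ext x
    simp
  rw [e1, e2]
  simp only [MvPolynomial.map_X]
  exact h (MvPolynomial ι B) MvPolynomial.C ι MvPolynomial.X a

theorem upoly_coeff (h : HInv τ r) {ι : Type u} [Fintype ι] (a : ι → A) (d : ι →₀ ℕ) :
    algebraMap A B ((upoly τ r a).coeff d) = τ ((upoly τ r a).coeff d) := by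
  have := congrArg (fun q => MvPolynomial.coeff d q) (upoly_map h a)
  simpa [MvPolynomial.coeff_map] using this

/-- the norm of `τ f` is invariant. -/
theorem nm_tau_invariant (h : HInv τ r) (f : A) :
    algebraMap A B (nm r (τ f)) = τ (nm r (τ f)) := by
  have e : nm r (τ f) = gdet r (RingHom.id A) (fun _ : PUnit.{u+1} => (1 : A)) (fun _ => τ f) := by
    rw [gdet_eq_nm]
    simp
  rw [e, map_gdet, map_gdet]
  have := h B (RingHom.id B) PUnit.{u+1} (fun _ => (1 : B)) (fun _ => f)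
  simpa using this

/-- **Orbit lemma**: two primes of `A` with the same contraction to a subring `C₁` of invariants
(containing all norms `nm (τ f)`, `A` integral over it) are the `τ`- and `σ`-contractions of one prime
of `B`. -/
theorem exists_prime_of_comap_eq [Module.Finite A B] (ε : B →+* A)
    (hεσ : ∀ a, ε (algebraMap A B a) = a) (hετ : ∀ a, ε (τ a) = a)
    (C₁ : Subring A) (hC₁ : ∀ c ∈ C₁, algebraMap A B c = τ c) (hN : ∀ f, nm r (τ f) ∈ C₁)
    [Algebra.IsIntegral C₁ A] (p₀ p₁ : Ideal A) [p₀.IsPrime] [p₁.IsPrime]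
    (hp : ∀ c ∈ C₁, c ∈ p₀ ↔ c ∈ p₁) :
    ∃ q : Ideal B, q.IsPrime ∧ q.comap τ = p₀ ∧ q.comap (algebraMap A B) = p₁ := by
  classical
  by_contra hcon
  push Not at hcon
  have hfin : (p₁.primesOver B).Finite := Algebra.QuasiFinite.finite_primesOver p₁
  let F : Finset (Ideal B) := hfin.toFinset
  have hF : ∀ q, q ∈ F ↔ q.IsPrime ∧ q.comap (algebraMap A B) = p₁ := by
    intro q
    simp only [F, Set.Finite.mem_toFinset, Ideal.primesOver, Set.mem_ofPred_eq]
    constructor
    · rintro ⟨h1, h2⟩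
      exact ⟨h1, h2.over.symm⟩
    · rintro ⟨h1, h2⟩
      exact ⟨h1, ⟨h2.symm⟩⟩
  -- contraction of `q.comap τ` to `C₁`
  have hcontr : ∀ q ∈ F, ∀ c ∈ C₁, c ∈ q.comap τ ↔ c ∈ p₁ := by
    intro q hq c hc
    rw [Ideal.mem_comap, ← hC₁ c hc, ← Ideal.mem_comap, ((hF q).mp hq).2]
  have hnot : ¬ ((p₀ : Set A) ⊆ ⋃ q ∈ (↑F : Set (Ideal B)), ((q.comap τ : Ideal A) : Set A)) := by
    intro hsub
    rw [Ideal.subset_union_prime (f := fun q : Ideal B => q.comap τ) ⊥ ⊥
      (fun q hq _ _ => by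
        haveI := ((hF q).mp hq).1
        exact Ideal.comap_isPrime τ q)] at hsub
    obtain ⟨q, hq, hle⟩ := hsub
    haveI := ((hF q).mp hq).1
    have heq : p₀ = q.comap τ := by
      by_contra hne
      have hlt0 : p₀ < q.comap τ := lt_of_le_of_ne hle hne
      obtain ⟨x, hx1, hx2⟩ := Set.exists_of_ssubset (SetLike.coe_ssubset_coe.mpr hlt0)
      have hlt := Ideal.comap_lt_comap_of_integral_mem_sdiff (R := C₁) hle ⟨hx1, hx2⟩
        (Algebra.IsIntegral.isIntegral x)
      obtain ⟨c, hc1, hc2⟩ := Set.exists_of_ssubset hlt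
      rw [SetLike.mem_coe, Ideal.mem_comap] at hc1 hc2
      have h1 := (hcontr q hq c c.2).mp hc1
      exact hc2 ((hp c c.2).mpr h1)
    exact hcon q ((hF q).mp hq).1 heq.symm ((hF q).mp hq).2
  obtain ⟨f, hf0, hfn⟩ := Set.not_subset.mp hnot
  simp only [Set.mem_iUnion, not_exists] at hfn
  have hNmem : nm r (τ f) ∈ p₀ := by
    rw [nm_mem_iff]
    refine ⟨p₀.comap ε, Ideal.comap_isPrime ε p₀, ?_, ?_⟩
    · ext a
      simp [Ideal.mem_comap, hεσ]
    · rw [Ideal.mem_comap, hετ]
      exact hf0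
  have hNnot : nm r (τ f) ∉ p₁ := by
    intro hmem
    rw [nm_mem_iff] at hmem
    obtain ⟨q, hq1, hq2, hq3⟩ := hmem
    exact hfn q ((hF q).mpr ⟨hq1, hq2⟩) hq3
  exact hNnot ((hp _ (hN f)).mp hNmem)

end Alg

section BaseChange
variable {C₀ A B : Type u} [CommRing C₀] [CommRing A] [CommRing B] [Algebra C₀ A] [Algebra A B]
  [Algebra C₀ B] [IsScalarTower C₀ A B] (τ : A →ₐ[C₀] B) (ε : B →ₐ[C₀] A)
  (C' : Type u) [CommRing C'] [Algebra C₀ C'] {n : ℕ} (r : Ret A B n)

/-- base change of the source map `σ`. -/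
noncomputable def sigB : A ⊗[C₀] C' →ₐ[C₀] B ⊗[C₀] C' :=
  Algebra.TensorProduct.map (IsScalarTower.toAlgHom C₀ A B) (AlgHom.id C₀ C')

/-- base change of the target map `τ`. -/
noncomputable def tauB : A ⊗[C₀] C' →ₐ[C₀] B ⊗[C₀] C' :=
  Algebra.TensorProduct.map τ (AlgHom.id C₀ C')

/-- base change of the unit map `ε`. -/
noncomputable def epsB : B ⊗[C₀] C' →ₐ[C₀] A ⊗[C₀] C' :=
  Algebra.TensorProduct.map ε (AlgHom.id C₀ C')

@[simp] theorem sigB_tmul (a : A) (c : C') :
    sigB (A := A) (B := B) C' (a ⊗ₜ[C₀] c) = algebraMap A B a ⊗ₜ c := by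
  simp [sigB]

@[simp] theorem tauB_tmul (a : A) (c : C') : tauB τ C' (a ⊗ₜ[C₀] c) = τ a ⊗ₜ c := by
  simp [tauB]

@[simp] theorem epsB_tmul (b : B) (c : C') : epsB ε C' (b ⊗ₜ[C₀] c) = ε b ⊗ₜ c := by
  simp [epsB]

/-- `B ⊗ C'` as an algebra over `A ⊗ C'` through the base-changed source map. -/
@[instance_reducible] noncomputable def algB : Algebra (A ⊗[C₀] C') (B ⊗[C₀] C') :=
  (sigB (A := A) (B := B) C').toRingHom.toAlgebra

attribute [local instance] algB

theorem algebraMap_algB (x : A ⊗[C₀] C') :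
    algebraMap (A ⊗[C₀] C') (B ⊗[C₀] C') x = sigB (A := A) (B := B) C' x := rfl

instance isScalarTower_algB : IsScalarTower A (A ⊗[C₀] C') (B ⊗[C₀] C') := by
  refine IsScalarTower.of_algebraMap_eq fun a => ?_
  rw [algebraMap_algB]
  simp [Algebra.TensorProduct.algebraMap_apply]

instance isPushout_algB : Algebra.IsPushout A (A ⊗[C₀] C') B (B ⊗[C₀] C') := by
  refine (Algebra.IsPushout.tensorProduct_tensorProduct C₀ C' A B ?_).symm
  ext c
  simp [algebraMap_algB]

/-- the base-changed retract. -/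
noncomputable def retB : Ret (A ⊗[C₀] C') (B ⊗[C₀] C') n :=
  r.bc (T := A ⊗[C₀] C') (P := B ⊗[C₀] C')

theorem exists_upoly₀ {τ} {r : Ret A B n} (h : HInv (τ : A →+* B) r)
    (hC₀ : ∀ x : A, algebraMap A B x = τ x → x ∈ Set.range (algebraMap C₀ A))
    {ι : Type u} [Fintype ι] (a : ι → A) :
    ∃ P₀ : MvPolynomial ι C₀, MvPolynomial.map (algebraMap C₀ A) P₀ = upoly (τ : A →+* B) r a := by
  have : upoly (τ : A →+* B) r a ∈ Set.range (MvPolynomial.map (algebraMap C₀ A)) := by
    rw [MvPolynomial.mem_range_map_iff_coeffs_subset]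
    intro x hx
    rw [Finset.mem_coe, MvPolynomial.mem_coeffs_iff] at hx
    obtain ⟨d, -, rfl⟩ := hx
    exact hC₀ _ (upoly_coeff h a d)
  exact this

/-- **BC1**: after any base change `C₀ → C'`, the norm of `τ' g` comes from `C'`. -/
theorem nm_tauB {τ : A →ₐ[C₀] B} {r : Ret A B n} (h : HInv (τ : A →+* B) r)
    (hC₀ : ∀ x : A, algebraMap A B x = τ x → x ∈ Set.range (algebraMap C₀ A))
    (g : A ⊗[C₀] C') :
    ∃ c : C', nm (retB C' r) (tauB τ C' g) = 1 ⊗ₜ[C₀] c := by
  classical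
  obtain ⟨S, hS⟩ := TensorProduct.exists_finset g
  let a : S → A := fun j => j.1.1
  let c : S → C' := fun j => j.1.2
  obtain ⟨P₀, hP₀⟩ := exists_upoly₀ h hC₀ a
  refine ⟨P₀.eval₂ (algebraMap C₀ C') c, ?_⟩
  have h1 : tauB τ C' g = ∑ j : S, ((1 : A) ⊗ₜ[C₀] c j : A ⊗[C₀] C') •
      algebraMap B (B ⊗[C₀] C') (τ (a j)) := by
    rw [hS, map_sum, ← Finset.sum_coe_sort S]
    refine Finset.sum_congr rfl fun j _ => ?_
    rw [tauB_tmul, Algebra.smul_def, algebraMap_algB, sigB_tmul,
      Algebra.TensorProduct.algebraMap_apply, Algebra.TensorProduct.tmul_mul_tmul]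
    simp [a, c]
  rw [h1, ← gdet_eq_nm, retB, bc_gdet, RingHom.id_comp]
  have h2 := gdet_eq_eval₂ (τ : A →+* B) r (algebraMap A (A ⊗[C₀] C'))
    (fun j : S => ((1 : A) ⊗ₜ[C₀] c j : A ⊗[C₀] C')) a
  rw [show (gdet r (algebraMap A (A ⊗[C₀] C')) (fun j : S => ((1 : A) ⊗ₜ[C₀] c j : A ⊗[C₀] C'))
    fun j => τ (a j)) = _ from h2, ← hP₀, MvPolynomial.eval₂_map]
  have h3 := MvPolynomial.eval₂_comp_left
    (Algebra.TensorProduct.includeRight (R := C₀) (A := A) (B := C')).toRingHom
    (algebraMap C₀ C') c P₀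
  have h4 : (1 : A) ⊗ₜ[C₀] (MvPolynomial.eval₂ (algebraMap C₀ C') c P₀) =
      (Algebra.TensorProduct.includeRight (R := C₀) (A := A) (B := C')).toRingHom
        (MvPolynomial.eval₂ (algebraMap C₀ C') c P₀) := rfl
  rw [h4, h3]
  congr 1
  ext x
  simp [Algebra.algebraMap_eq_smul_one]

theorem finite_of_ret {R S : Type*} [CommRing R] [CommRing S] [Algebra R S] {n : ℕ}
    (r : Ret R S n) : Module.Finite R S := by
  refine Module.Finite.of_surjective r.p fun x => ⟨r.i x, r.pi_apply x⟩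

theorem epsB_sigB {ε : B →ₐ[C₀] A} (hεσ : ∀ a, ε (algebraMap A B a) = a) (x : A ⊗[C₀] C') :
    epsB ε C' (sigB (A := A) (B := B) C' x) = x := by
  induction x using TensorProduct.induction_on with
  | zero => simp
  | tmul a c => simp [hεσ]
  | add x y hx hy => simp [hx, hy]

theorem epsB_tauB {τ : A →ₐ[C₀] B} {ε : B →ₐ[C₀] A} (hετ : ∀ a, ε (τ a) = a)
    (x : A ⊗[C₀] C') : epsB ε C' (tauB τ C' x) = x := by
  induction x using TensorProduct.induction_on with
  | zero => simp
  | tmul a c => simp [hετ]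
  | add x y hx hy => simp [hx, hy]

/-- the image of `C'` in `A ⊗ C'`, as a subring. -/
noncomputable def rangeR : Subring (A ⊗[C₀] C') :=
  (Algebra.TensorProduct.includeRight (R := C₀) (A := A) (B := C')).toRingHom.range

theorem mem_rangeR {x : A ⊗[C₀] C'} : x ∈ rangeR (C₀ := C₀) (A := A) C' ↔ ∃ c : C', (1 : A) ⊗ₜ[C₀] c = x := by
  unfold rangeR
  rw [RingHom.mem_range]
  rfl

/-- `A ⊗ C'` is integral over the image of `C'`. -/
theorem isIntegral_rangeR [Algebra.IsIntegral C₀ A] :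
    Algebra.IsIntegral (rangeR (C₀ := C₀) (A := A) C') (A ⊗[C₀] C') := by
  constructor
  intro x
  induction x using TensorProduct.induction_on with
  | zero => exact isIntegral_zero
  | tmul a c =>
    have e : a ⊗ₜ[C₀] c = (a ⊗ₜ[C₀] (1 : C')) * ((1 : A) ⊗ₜ[C₀] c) := by
      simp [Algebra.TensorProduct.tmul_mul_tmul]
    rw [e]
    refine IsIntegral.mul ?_ ?_
    · have ha : IsIntegral C₀ a := Algebra.IsIntegral.isIntegral a
      let φ : C₀ →+* rangeR (C₀ := C₀) (A := A) C' :=
        ((Algebra.TensorProduct.includeRight (R := C₀) (A := A) (B := C')).toRingHom.rangeRestrict).comp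
          (algebraMap C₀ C')
      refine ha.map_of_comp_eq φ
        (Algebra.TensorProduct.includeLeft (R := C₀) (S := C₀) (A := A) (B := C')).toRingHom ?_
      ext x
      show ((φ x : rangeR (C₀ := C₀) (A := A) C') : A ⊗[C₀] C') = algebraMap C₀ A x ⊗ₜ[C₀] (1 : C')
      show (1 : A) ⊗ₜ[C₀] (algebraMap C₀ C' x) = algebraMap C₀ A x ⊗ₜ[C₀] (1 : C')
      rw [Algebra.algebraMap_eq_smul_one, Algebra.algebraMap_eq_smul_one, smul_tmul]
    · exact isIntegral_algebraMap
        (x := (⟨(1 : A) ⊗ₜ[C₀] c, (mem_rangeR C').mpr ⟨c, rfl⟩⟩ : rangeR (C₀ := C₀) (A := A) C'))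
  | add x y hx hy => exact hx.add hy

/-- `C' → A ⊗ C'` is an integral ring map when `A` is integral over `C₀`. -/
theorem includeRight_isIntegral [Algebra.IsIntegral C₀ A] :
    (Algebra.TensorProduct.includeRight (R := C₀) (A := A) (B := C')).toRingHom.IsIntegral := by
  intro x
  induction x using TensorProduct.induction_on with
  | zero => exact RingHom.isIntegralElem_zero _
  | tmul a c =>
    have e : a ⊗ₜ[C₀] c = (a ⊗ₜ[C₀] (1 : C')) * ((1 : A) ⊗ₜ[C₀] c) := by
      simp [Algebra.TensorProduct.tmul_mul_tmul]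
    rw [e]
    refine RingHom.IsIntegralElem.mul _ ?_ ?_
    · obtain ⟨P, hP1, hP2⟩ := Algebra.IsIntegral.isIntegral (R := C₀) a
      refine ⟨P.map (algebraMap C₀ C'), hP1.map _, ?_⟩
      rw [Polynomial.eval₂_map]
      have h1 : (Algebra.TensorProduct.includeRight (R := C₀) (A := A) (B := C')).toRingHom.comp
          (algebraMap C₀ C') =
          (Algebra.TensorProduct.includeLeft (R := C₀) (S := C₀) (A := A) (B := C')).toRingHom.comp
            (algebraMap C₀ A) := by
        ext x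
        show (1 : A) ⊗ₜ[C₀] (algebraMap C₀ C' x) = algebraMap C₀ A x ⊗ₜ[C₀] (1 : C')
        rw [Algebra.algebraMap_eq_smul_one, Algebra.algebraMap_eq_smul_one, smul_tmul]
      rw [h1]
      have h2 := Polynomial.hom_eval₂ P (algebraMap C₀ A)
        (Algebra.TensorProduct.includeLeft (R := C₀) (S := C₀) (A := A) (B := C')).toRingHom a
      have h3 : (Algebra.TensorProduct.includeLeft (R := C₀) (S := C₀) (A := A) (B := C')).toRingHom a
          = a ⊗ₜ[C₀] (1 : C') := rfl
      rw [h3] at h2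
      rw [← h2]
      have : Polynomial.eval₂ (algebraMap C₀ A) a P = 0 := hP2
      rw [this, map_zero]
    · exact RingHom.isIntegralElem_map _
  | add x y hx hy => exact RingHom.IsIntegralElem.add _ hx hy

/-- **Transitivity over a field**: for a field `k` over `C₀`, any two primes of `A ⊗ k` are the
`τ`- and `σ`-contractions of one prime of `B ⊗ k`. -/
theorem exists_prime_of_field {τ : A →ₐ[C₀] B} {ε : B →ₐ[C₀] A} {r : Ret A B n}
    (k : Type u) [Field k] [Algebra C₀ k] [Algebra.IsIntegral C₀ A]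
    (h : HInv (τ : A →+* B) r)
    (hC₀ : ∀ x : A, algebraMap A B x = τ x → x ∈ Set.range (algebraMap C₀ A))
    (hεσ : ∀ a, ε (algebraMap A B a) = a) (hετ : ∀ a, ε (τ a) = a)
    (p₀ p₁ : Ideal (A ⊗[C₀] k)) [p₀.IsPrime] [p₁.IsPrime] :
    ∃ q : Ideal (B ⊗[C₀] k), q.IsPrime ∧ q.comap (tauB τ k) = p₀ ∧
      q.comap (sigB (A := A) (B := B) k) = p₁ := by
  haveI : Module.Finite (A ⊗[C₀] k) (B ⊗[C₀] k) := finite_of_ret (retB k r)
  haveI := isIntegral_rangeR (C₀ := C₀) (A := A) k
  have key := exists_prime_of_comap_eq (τ := (tauB τ k).toRingHom) (r := retB k r)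
    (epsB ε k).toRingHom (fun x => epsB_sigB k hεσ x) (fun x => epsB_tauB k hετ x)
    (rangeR (C₀ := C₀) (A := A) k)
    (by
      intro x hx
      obtain ⟨c, rfl⟩ := (mem_rangeR k).mp hx
      rw [algebraMap_algB]
      simp)
    (by
      intro f
      obtain ⟨c, hc⟩ := nm_tauB k h hC₀ f
      exact (mem_rangeR k).mpr ⟨c, hc.symm⟩)
    p₀ p₁
    (by
      intro x hx
      obtain ⟨c, rfl⟩ := (mem_rangeR k).mp hx
      by_cases hc : c = 0
      · subst hc
        simp
      · have hu : IsUnit ((Algebra.TensorProduct.includeRight (R := C₀) (A := A) (B := k)) c) :=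
          (IsUnit.mk0 c hc).map _
        constructor
        · intro hm
          exact ((Ideal.IsPrime.ne_top inferInstance) (Ideal.eq_top_of_isUnit_mem _ hm hu)).elim
        · intro hm
          exact ((Ideal.IsPrime.ne_top inferInstance) (Ideal.eq_top_of_isUnit_mem _ hm hu)).elim)
  exact key

end BaseChange

section FieldPoints
variable {C₀ A B : Type u} [CommRing C₀] [CommRing A] [CommRing B] [Algebra C₀ A] [Algebra A B]
  [Algebra C₀ B] [IsScalarTower C₀ A B] {n : ℕ}

/-- **Transitivity on field-valued points**: two `k`-points `x₀, x₁` of `A` agreeing on the invariants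
become, after a field extension `K/k`, the `τ`- and `σ`-restrictions of one `K`-point of `B`. -/
theorem exists_fieldPoint {τ : A →ₐ[C₀] B} {ε : B →ₐ[C₀] A} {r : Ret A B n}
    [Algebra.IsIntegral C₀ A] (h : HInv (τ : A →+* B) r)
    (hC₀ : ∀ x : A, algebraMap A B x = τ x → x ∈ Set.range (algebraMap C₀ A))
    (hεσ : ∀ a, ε (algebraMap A B a) = a) (hετ : ∀ a, ε (τ a) = a)
    (k : Type u) [Field k] (x₀ x₁ : A →+* k)
    (hx : x₀.comp (algebraMap C₀ A) = x₁.comp (algebraMap C₀ A)) :
    ∃ (K : Type u) (_ : Field K) (i : k →+* K) (ρ : B →+* K),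
      ρ.comp (τ : A →+* B) = i.comp x₀ ∧ ρ.comp (algebraMap A B) = i.comp x₁ ∧ i.IsIntegral := by
  letI : Algebra C₀ k := (x₀.comp (algebraMap C₀ A)).toAlgebra
  let x₀a : A →ₐ[C₀] k := { x₀ with commutes' := fun c => rfl }
  let x₁a : A →ₐ[C₀] k := { x₁ with commutes' := fun c => (RingHom.congr_fun hx c).symm }
  let X₀ : A ⊗[C₀] k →ₐ[C₀] k :=
    Algebra.TensorProduct.lift x₀a (AlgHom.id C₀ k) (fun _ _ => Commute.all _ _)
  let X₁ : A ⊗[C₀] k →ₐ[C₀] k :=
    Algebra.TensorProduct.lift x₁a (AlgHom.id C₀ k) (fun _ _ => Commute.all _ _)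
  haveI : (RingHom.ker X₀.toRingHom).IsPrime := RingHom.ker_isPrime _
  haveI : (RingHom.ker X₁.toRingHom).IsPrime := RingHom.ker_isPrime _
  obtain ⟨q, hq, hq0, hq1⟩ := exists_prime_of_field (τ := τ) (ε := ε) (r := r) k h hC₀ hεσ hετ
    (RingHom.ker X₀.toRingHom) (RingHom.ker X₁.toRingHom)
  refine ⟨q.ResidueField, inferInstance,
    (algebraMap (B ⊗[C₀] k) q.ResidueField).comp
      (Algebra.TensorProduct.includeRight (R := C₀) (A := B) (B := k)).toRingHom,
    (algebraMap (B ⊗[C₀] k) q.ResidueField).comp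
      (Algebra.TensorProduct.includeLeft (R := C₀) (S := C₀) (A := B) (B := k)).toRingHom, ?_, ?_, ?_⟩
  rotate_left 2
  · -- integrality of the residue field over `k`
    haveI : Module.Finite A B := finite_of_ret r
    haveI : Algebra.IsIntegral C₀ B := Algebra.IsIntegral.trans (A := A)
    have hintk := includeRight_isIntegral (C₀ := C₀) (A := B) k
    haveI hmax : q.IsMaximal := by
      refine Ideal.isMaximal_of_isIntegral_of_isMaximal_comap' _ hintk q ?_
      have hne : q.comap (Algebra.TensorProduct.includeRight (R := C₀) (A := B) (B := k)).toRingHom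
          ≠ ⊤ := (Ideal.comap_isPrime _ _).ne_top
      rcases Ideal.eq_bot_or_top
        (q.comap (Algebra.TensorProduct.includeRight (R := C₀) (A := B) (B := k)).toRingHom)
        with h' | h'
      · rw [h']
        exact Ideal.bot_isMaximal
      · exact (hne h').elim
    intro z
    obtain ⟨y, rfl⟩ := Ideal.algebraMap_residueField_surjective q z
    obtain ⟨P, hP1, hP2⟩ := hintk y
    refine ⟨P, hP1, ?_⟩
    have := congrArg (algebraMap (B ⊗[C₀] k) q.ResidueField) hP2
    rw [Polynomial.hom_eval₂, map_zero] at this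
    exact this
  · ext a
    have hmem : a ⊗ₜ[C₀] (1 : k) - (1 : A) ⊗ₜ[C₀] (x₀ a) ∈ RingHom.ker X₀.toRingHom := by
      rw [RingHom.mem_ker]
      simp [X₀, x₀a]
    rw [← hq0, Ideal.mem_comap, map_sub, tauB_tmul, tauB_tmul, map_one] at hmem
    have := Ideal.algebraMap_residueField_eq_zero.mpr hmem
    rw [map_sub, sub_eq_zero] at this
    simpa using this
  · ext a
    have hmem : a ⊗ₜ[C₀] (1 : k) - (1 : A) ⊗ₜ[C₀] (x₁ a) ∈ RingHom.ker X₁.toRingHom := by
      rw [RingHom.mem_ker]
      simp [X₁, x₁a]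
    rw [← hq1, Ideal.mem_comap, map_sub, sigB_tmul, sigB_tmul, map_one] at hmem
    have := Ideal.algebraMap_residueField_eq_zero.mpr hmem
    rw [map_sub, sub_eq_zero] at this
    simpa using this

/-- for an algebraically closed field no extension is needed. -/
theorem exists_point_of_isAlgClosed {τ : A →ₐ[C₀] B} {ε : B →ₐ[C₀] A} {r : Ret A B n}
    [Algebra.IsIntegral C₀ A] (h : HInv (τ : A →+* B) r)
    (hC₀ : ∀ x : A, algebraMap A B x = τ x → x ∈ Set.range (algebraMap C₀ A))
    (hεσ : ∀ a, ε (algebraMap A B a) = a) (hετ : ∀ a, ε (τ a) = a)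
    (k : Type u) [Field k] [IsAlgClosed k] (x₀ x₁ : A →+* k)
    (hx : x₀.comp (algebraMap C₀ A) = x₁.comp (algebraMap C₀ A)) :
    ∃ ρ : B →+* k, ρ.comp (τ : A →+* B) = x₀ ∧ ρ.comp (algebraMap A B) = x₁ := by
  obtain ⟨K, _, i, ρ, h0, h1, hi⟩ := exists_fieldPoint h hC₀ hεσ hετ k x₀ x₁ hx
  letI : Algebra k K := i.toAlgebra
  haveI : Algebra.IsIntegral k K := ⟨hi⟩
  have hbij : Function.Bijective i := IsAlgClosed.algebraMap_bijective_of_isIntegral (k := k) (K := K)
  let e : k ≃+* K := RingEquiv.ofBijective i hbij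
  refine ⟨(e.symm : K →+* k).comp ρ, ?_, ?_⟩
  · rw [RingHom.comp_assoc, h0, ← RingHom.comp_assoc]
    ext a
    exact e.symm_apply_apply (x₀ a)
  · rw [RingHom.comp_assoc, h1, ← RingHom.comp_assoc]
    ext a
    exact e.symm_apply_apply (x₁ a)

end FieldPoints

end Groth.Agent.Lib.Helper11.Ffg
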