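import Mathlib
import Groth.Agent.Lib.Helper11FfgAlg

/-!
# Flat base change of invariants (helper11)
-/

set_option autoImplicit false
set_option linter.style.haveILetI false
set_option linter.unusedSectionVars false
universe u

open TensorProduct Polynomial

namespace Groth.Agent.Lib.Helper11.Ffg

open Groth.Agent.Lib.Helper2.RetCharpoly

section BC2

variable {C₀ A B : Type u} [CommRing C₀] [CommRing A] [CommRing B] [Algebra C₀ A] [Algebra A B]
  [Algebra C₀ B] [IsScalarTower C₀ A B] (τ : A →ₐ[C₀] B)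
  (C' : Type u) [CommRing C'] [Algebra C₀ C']

/-- **Flat base change of invariants**. -/
theorem eqLocus_baseChange_flat [Module.Flat C₀ C']
    (hinj : Function.Injective (algebraMap C₀ A))
    (hC₀ : ∀ x : A, algebraMap A B x = τ x → x ∈ Set.range (algebraMap C₀ A)) :
    Function.Injective (Algebra.TensorProduct.includeRight : C' →ₐ[C₀] A ⊗[C₀] C') ∧
      ∀ x : A ⊗[C₀] C', sigB (A := A) (B := B) C' x = tauB τ C' x →
        x ∈ Set.range (Algebra.TensorProduct.includeRight : C' →ₐ[C₀] A ⊗[C₀] C') := by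
  let f : C₀ →ₗ[C₀] A := Algebra.linearMap C₀ A
  let g : A →ₗ[C₀] B := (IsScalarTower.toAlgHom C₀ A B).toLinearMap - τ.toLinearMap
  have hex : Function.Exact f g := by
    intro a
    constructor
    · intro ha
      have h1 : algebraMap A B a = τ a := by
        have : algebraMap A B a - τ a = 0 := ha
        exact sub_eq_zero.mp this
      obtain ⟨c, hc⟩ := hC₀ a h1
      exact ⟨c, hc⟩
    · rintro ⟨c, rfl⟩
      change algebraMap A B (algebraMap C₀ A c) - τ (algebraMap C₀ A c) = 0
      rw [τ.commutes, ← IsScalarTower.algebraMap_apply, sub_self]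
  have hex' := Module.Flat.rTensor_exact C' hex
  have hinj' : Function.Injective (f.rTensor C') :=
    Module.Flat.rTensor_preserves_injective_linearMap f hinj
  have hf : ∀ c : C', (Algebra.TensorProduct.includeRight : C' →ₐ[C₀] A ⊗[C₀] C') c =
      f.rTensor C' ((1 : C₀) ⊗ₜ[C₀] c) := by
    intro c
    simp [f]
  have hg : ∀ x : A ⊗[C₀] C', g.rTensor C' x = sigB (A := A) (B := B) C' x - tauB τ C' x := by
    intro x
    induction x using TensorProduct.induction_on with
    | zero => simp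
    | tmul a c => simp [g, TensorProduct.sub_tmul]
    | add x y hx hy => simp only [map_add, hx, hy]; abel
  refine ⟨?_, ?_⟩
  · intro c c' h
    rw [hf, hf] at h
    have h2 := hinj' h
    have h3 := congrArg (TensorProduct.lid C₀ C') h2
    simpa using h3
  · intro x hx
    have hgx : g.rTensor C' x = 0 := by rw [hg, hx, sub_self]
    obtain ⟨y, hy⟩ := (hex' x).mp hgx
    refine ⟨TensorProduct.lid C₀ C' y, ?_⟩
    rw [hf, ← hy]
    congr 1
    exact (TensorProduct.lid C₀ C').symm_apply_apply y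

variable {τ} {ε : B →ₐ[C₀] A} {n : ℕ} {r : Ret A B n}

attribute [local instance] algB

/-- a maximal ideal of `A ⊗ C'` contracts to the maximal ideal of the local ring `C'`. -/
theorem tmul_mem_maximal_iff [IsLocalRing C'] [Algebra.IsIntegral C₀ A] (P : Ideal (A ⊗[C₀] C'))
    [P.IsMaximal] (c : C') :
    ((1 : A) ⊗ₜ[C₀] c) ∈ P ↔ c ∈ IsLocalRing.maximalIdeal C' := by
  have hmax : (P.comap (Algebra.TensorProduct.includeRight (R := C₀) (A := A)
      (B := C')).toRingHom).IsMaximal :=
    Ideal.isMaximal_comap_of_isIntegral_of_isMaximal' _ (includeRight_isIntegral C') P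
  have heq := IsLocalRing.eq_maximalIdeal hmax
  rw [← heq, Ideal.mem_comap]
  rfl

/-- **Semi-locality**: after base change to a local ring, `A ⊗ C'` has finitely many maximal
ideals. -/
theorem finite_maximalSpectrum_baseChange [IsLocalRing C'] [Algebra.IsIntegral C₀ A]
    (h : HInv (τ : A →+* B) r)
    (hC₀ : ∀ x : A, algebraMap A B x = τ x → x ∈ Set.range (algebraMap C₀ A))
    (hεσ : ∀ a, ε (algebraMap A B a) = a) (hετ : ∀ a, ε (τ a) = a) :
    Finite (MaximalSpectrum (A ⊗[C₀] C')) := by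
  classical
  haveI : Module.Finite (A ⊗[C₀] C') (B ⊗[C₀] C') := finite_of_ret (retB C' r)
  haveI := isIntegral_rangeR (C₀ := C₀) (A := A) C'
  by_cases hne : Nonempty (MaximalSpectrum (A ⊗[C₀] C'))
  swap
  · haveI : IsEmpty (MaximalSpectrum (A ⊗[C₀] C')) := not_nonempty_iff.mp hne
    infer_instance
  obtain ⟨P₁⟩ := hne
  have hfin : (P₁.asIdeal.primesOver (B ⊗[C₀] C')).Finite :=
    Algebra.QuasiFinite.finite_primesOver P₁.asIdeal
  have key : ∀ P₀ : MaximalSpectrum (A ⊗[C₀] C'), ∃ q : Ideal (B ⊗[C₀] C'), q.IsPrime ∧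
      q.comap (tauB τ C').toRingHom = P₀.asIdeal ∧
      q.comap (algebraMap (A ⊗[C₀] C') (B ⊗[C₀] C')) = P₁.asIdeal := by
    intro P₀
    haveI := P₀.isMaximal
    haveI := P₁.isMaximal
    refine exists_prime_of_comap_eq (τ := (tauB τ C').toRingHom) (r := retB C' r)
      (epsB ε C').toRingHom (fun x => epsB_sigB C' hεσ x) (fun x => epsB_tauB C' hετ x)
      (rangeR (C₀ := C₀) (A := A) C') ?_ ?_ P₀.asIdeal P₁.asIdeal ?_
    · intro x hx
      obtain ⟨c, rfl⟩ := (mem_rangeR C').mp hx
      rw [algebraMap_algB]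
      simp
    · intro f
      obtain ⟨c, hc⟩ := nm_tauB C' h hC₀ f
      exact (mem_rangeR C').mpr ⟨c, hc.symm⟩
    · intro x hx
      obtain ⟨c, rfl⟩ := (mem_rangeR C').mp hx
      rw [tmul_mem_maximal_iff C' P₀.asIdeal c, tmul_mem_maximal_iff C' P₁.asIdeal c]
  choose q hq1 hq2 hq3 using key
  have hqmem : ∀ P₀, q P₀ ∈ P₁.asIdeal.primesOver (B ⊗[C₀] C') := by
    intro P₀
    refine ⟨hq1 P₀, ⟨?_⟩⟩
    exact (hq3 P₀).symm
  let F : MaximalSpectrum (A ⊗[C₀] C') → ↥(P₁.asIdeal.primesOver (B ⊗[C₀] C')) :=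
    fun P₀ => ⟨q P₀, hqmem P₀⟩
  have hF : Function.Injective F := by
    intro P₀ P₀' hPP
    have h1 : q P₀ = q P₀' := congrArg Subtype.val hPP
    apply MaximalSpectrum.ext
    rw [← hq2 P₀, ← hq2 P₀', h1]
  haveI : Finite ↥(P₁.asIdeal.primesOver (B ⊗[C₀] C')) := hfin
  exact Finite.of_injective F hF

end BC2

end Groth.Agent.Lib.Helper11.Ffg
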