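import Mathlib
import Groth.Prelude.Def_Grpd
import Groth.Agent.Lib.Helper11FfgAlg
import Groth.Agent.S1879

/-!
# Affine finite locally free groupoid schemes: the algebraic package (helper11)
-/

set_option autoImplicit false
set_option linter.style.haveILetI false
set_option linter.unusedSectionVars false
universe u

open CategoryTheory CategoryTheory.Limits AlgebraicGeometry TensorProduct

namespace Groth.Agent.Lib.Helper11.Ffg

open Groth.Agent.Lib.Helper2.RetCharpoly

/-- extension of a homomorphism to an algebraically closed field along an integral extension. -/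
theorem exists_extension {C A k : Type u} [CommRing C] [CommRing A] [Algebra C A]
    [Algebra.IsIntegral C A] (hinj : Function.Injective (algebraMap C A))
    [Field k] [IsAlgClosed k] (y : C →+* k) :
    ∃ x : A →+* k, x.comp (algebraMap C A) = y := by
  haveI : (RingHom.ker y).IsPrime := RingHom.ker_isPrime y
  obtain ⟨P, -, hP, hP2⟩ := Ideal.exists_ideal_over_prime_of_isIntegral
    (R := C) (S := A) (RingHom.ker y) (⊥ : Ideal A) (by
      intro x hx
      rw [Ideal.mem_comap, Ideal.mem_bot] at hx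
      have : x = 0 := hinj (by rw [hx, map_zero])
      rw [this]
      exact Ideal.zero_mem _)
  let R := C ⧸ P.comap (algebraMap C A)
  let S := A ⧸ P
  haveI : (P.comap (algebraMap C A)).IsPrime := Ideal.comap_isPrime _ _
  let y' : R →+* k := Ideal.Quotient.lift (P.comap (algebraMap C A)) y (by
    intro a ha
    rw [hP2] at ha
    exact ha)
  letI : Algebra R k := y'.toAlgebra
  have hy'inj : Function.Injective y' := by
    rw [injective_iff_map_eq_zero]
    intro z hz
    obtain ⟨c, rfl⟩ := Ideal.Quotient.mk_surjective z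
    rw [Ideal.Quotient.eq_zero_iff_mem, hP2]
    exact hz
  haveI : IsDomain R := Ideal.Quotient.isDomain _
  haveI : IsDomain S := Ideal.Quotient.isDomain _
  haveI : Module.IsTorsionFree R k := Module.isTorsionFree_iff_algebraMap_injective.mpr hy'inj
  haveI : Module.IsTorsionFree R S :=
    Module.isTorsionFree_iff_algebraMap_injective.mpr Ideal.algebraMap_quotient_injective
  haveI : Algebra.IsIntegral R S := inferInstance
  let f : S →ₐ[R] k := IsAlgClosed.lift
  refine ⟨f.toRingHom.comp (Ideal.Quotient.mk P), ?_⟩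
  ext c
  have := f.commutes (Ideal.Quotient.mk _ c)
  have h2 : algebraMap R k (Ideal.Quotient.mk _ c) = y c := by
    show y' (Ideal.Quotient.mk _ c) = y c
    exact Ideal.Quotient.lift_mk _ _ _
  rw [h2] at this
  rw [← this]
  rfl

variable {S : Scheme.{u}} (G : Grpd.GroupoidScheme S)

theorem e_sigma (a : Γ(G.U, ⊤)) : G.e.appTop.hom (G.s.appTop.hom a) = a := by
  have := congrArg (fun φ : G.U ⟶ G.U => φ.appTop.hom a) G.e_s
  simpa [Scheme.Hom.comp_appTop] using this

theorem e_tau (a : Γ(G.U, ⊤)) : G.e.appTop.hom (G.t.appTop.hom a) = a := by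
  have := congrArg (fun φ : G.U ⟶ G.U => φ.appTop.hom a) G.e_t
  simpa [Scheme.Hom.comp_appTop] using this

theorem mem_invariants_iff (a : Γ(G.U, ⊤)) :
    a ∈ G.invariants ↔ G.s.appTop.hom a = G.t.appTop.hom a := Iff.rfl

/-- the retract and the invariance property for an affine groupoid with `s` finite locally free. -/
theorem exists_ret_hinv [IsAffine G.U] [IsAffine G.R] [IsFinite G.s] [Flat G.s]
    [LocallyOfFinitePresentation G.s] :
    letI := G.s.appTop.hom.toAlgebra
    ∃ (n : ℕ) (r : Ret Γ(G.U, ⊤) Γ(G.R, ⊤) n), HInv G.t.appTop.hom r := by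
  letI := G.s.appTop.hom.toAlgebra
  have hfin : Module.Finite Γ(G.U, ⊤) Γ(G.R, ⊤) := G.s.finite_appTop
  have hflat : Module.Flat Γ(G.U, ⊤) Γ(G.R, ⊤) := G.s.flat_appTop
  have hfp : Algebra.FinitePresentation Γ(G.U, ⊤) Γ(G.R, ⊤) := G.s.finitePresentation_appTop
  have : Module.FinitePresentation Γ(G.U, ⊤) Γ(G.R, ⊤) :=
    Module.FinitePresentation.of_finite_of_finitePresentation _ _
  have hproj : Module.Projective Γ(G.U, ⊤) Γ(G.R, ⊤) :=
    Module.Flat.projective_of_finitePresentation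
  obtain ⟨n, ⟨r⟩⟩ := exists_ret Γ(G.U, ⊤) Γ(G.R, ⊤)
  refine ⟨n, r, ?_⟩
  intro L _ ψ ι _ lam a
  have hP1 := isPushout_appTop_of_isPullback (IsPullback.of_hasPullback G.s G.t)
  have hP2 := isPushout_appTop_of_isPullback (Groth.Agent.S1880.isPullback_c G)
  have hcτ : ∀ a, G.c.appTop.hom (G.t.appTop.hom a) =
      (pullback.fst G.s G.t).appTop.hom (G.t.appTop.hom a) := by
    intro a
    have := congrArg (fun φ : pullback G.s G.t ⟶ G.U => φ.appTop.hom a) (Groth.Agent.S1880.c_t G)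
    simpa [Scheme.Hom.comp_appTop] using this
  exact gdet_invariant hP1 hP2 hcτ r ψ lam a

/-- the prime ideal of global sections attached to a point. -/
noncomputable def pr (X : Scheme.{u}) (x : X) : Ideal Γ(X, ⊤) := (X.toSpecΓ x).asIdeal

instance (X : Scheme.{u}) (x : X) : (pr X x).IsPrime := (X.toSpecΓ x).isPrime

theorem pr_map {X Y : Scheme.{u}} (f : X ⟶ Y) (x : X) :
    pr Y (f x) = (pr X x).comap f.appTop.hom := by
  unfold pr
  have h := Scheme.toSpecΓ_naturality f
  have h2 : Y.toSpecΓ (f x) = (Spec.map f.appTop) (X.toSpecΓ x) := by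
    rw [← Scheme.Hom.comp_apply, ← Scheme.Hom.comp_apply, h]
  rw [h2]
  rfl

theorem pr_injective (X : Scheme.{u}) [IsAffine X] : Function.Injective (pr X) := by
  intro x y h
  have : X.toSpecΓ x = X.toSpecΓ y := PrimeSpectrum.ext h
  exact (X.isoSpec.hom.homeomorph).injective this

theorem exists_pr (X : Scheme.{u}) [IsAffine X] (p : Ideal Γ(X, ⊤)) [p.IsPrime] :
    ∃ x : X, pr X x = p := by
  have hs : Function.Surjective X.toSpecΓ := (X.isoSpec.hom.homeomorph).surjective
  obtain ⟨x, hx⟩ := hs ⟨p, inferInstance⟩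
  exact ⟨x, by unfold pr; rw [hx]⟩

theorem toQuot_asIdeal (u : G.U) :
    (G.toQuot u).asIdeal = (pr G.U u).comap G.invariants.subtype := by
  unfold Grpd.GroupoidScheme.toQuot pr
  rw [Scheme.Hom.comp_apply]
  rfl

theorem t_toQuot : G.t ≫ G.toQuot = G.s ≫ G.toQuot := by
  unfold Grpd.GroupoidScheme.toQuot
  rw [← Category.assoc, ← Category.assoc, Scheme.toSpecΓ_naturality, Scheme.toSpecΓ_naturality,
    Category.assoc, Category.assoc, ← Spec.map_comp, ← Spec.map_comp]
  congr 2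
  ext x
  exact x.2.symm

theorem toQuot_eq_iff_ideal (u₀ u₁ : G.U) :
    G.toQuot u₀ = G.toQuot u₁ ↔ ∀ c ∈ G.invariants, c ∈ pr G.U u₀ ↔ c ∈ pr G.U u₁ := by
  constructor
  · intro h c hc
    have := congrArg PrimeSpectrum.asIdeal h
    rw [toQuot_asIdeal, toQuot_asIdeal] at this
    have h2 := SetLike.ext_iff.mp this ⟨c, hc⟩
    simpa [Ideal.mem_comap] using h2
  · intro h
    apply PrimeSpectrum.ext
    rw [toQuot_asIdeal, toQuot_asIdeal]
    ext ⟨c, hc⟩
    simpa [Ideal.mem_comap] using h c hc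

/-- **Fibres of `U → Spec C` are the orbits** (Stacks 03BK (1)). -/
theorem toQuot_eq_iff [IsAffine G.U] [IsAffine G.R] [IsFinite G.s] [Flat G.s]
    [LocallyOfFinitePresentation G.s] (u₀ u₁ : G.U) :
    G.toQuot u₀ = G.toQuot u₁ ↔ ∃ r : G.R, G.t r = u₀ ∧ G.s r = u₁ := by
  constructor
  · intro h
    letI := G.s.appTop.hom.toAlgebra
    obtain ⟨n, r, hinv⟩ := exists_ret_hinv G
    haveI : Module.Finite Γ(G.U, ⊤) Γ(G.R, ⊤) := G.s.finite_appTop
    haveI : Algebra.IsIntegral G.invariants Γ(G.U, ⊤) := Groth.Agent.S1879.main S G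
    obtain ⟨q, hq, hq0, hq1⟩ := exists_prime_of_comap_eq (τ := G.t.appTop.hom) (r := r)
      G.e.appTop.hom (e_sigma G) (e_tau G) G.invariants (fun c hc => hc)
      (fun f => nm_tau_invariant hinv f) (pr G.U u₀) (pr G.U u₁)
      ((toQuot_eq_iff_ideal G u₀ u₁).mp h)
    obtain ⟨x, hx⟩ := exists_pr G.R q
    refine ⟨x, ?_, ?_⟩
    · apply pr_injective
      rw [pr_map, hx]
      exact hq0
    · apply pr_injective
      rw [pr_map, hx]
      exact hq1
  · rintro ⟨r, rfl, rfl⟩
    rw [← Scheme.Hom.comp_apply, ← Scheme.Hom.comp_apply, t_toQuot]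

theorem toQuot_surjective [IsAffine G.U] [IsAffine G.R] [IsFinite G.s] [Flat G.s]
    [LocallyOfFinitePresentation G.s] : Function.Surjective G.toQuot := by
  intro m
  haveI : Algebra.IsIntegral G.invariants Γ(G.U, ⊤) := Groth.Agent.S1879.main S G
  obtain ⟨Q, -, hQ, hQ2⟩ := Ideal.exists_ideal_over_prime_of_isIntegral
    (R := G.invariants) (S := Γ(G.U, ⊤)) m.asIdeal (⊥ : Ideal Γ(G.U, ⊤)) (by
      intro x hx
      rw [Ideal.mem_comap, Ideal.mem_bot] at hx
      have : x = 0 := Subtype.ext hx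
      rw [this]
      exact Ideal.zero_mem _)
  obtain ⟨u, hu⟩ := exists_pr G.U Q
  refine ⟨u, ?_⟩
  apply PrimeSpectrum.ext
  rw [toQuot_asIdeal, hu]
  exact hQ2

section FieldPts
variable [IsAffine G.U] [IsAffine G.R] [IsFinite G.s] [Flat G.s] [LocallyOfFinitePresentation G.s]

/-- transitivity on field-valued points, ring-hom form. -/
theorem exists_fieldPoint_grpd (k : Type u) [Field k] (x₀ x₁ : Γ(G.U, ⊤) →+* k)
    (hx : x₀.comp G.invariants.subtype = x₁.comp G.invariants.subtype) :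
    ∃ (K : Type u) (_ : Field K) (i : k →+* K) (ρ : Γ(G.R, ⊤) →+* K),
      ρ.comp G.t.appTop.hom = i.comp x₀ ∧ ρ.comp G.s.appTop.hom = i.comp x₁ ∧ i.IsIntegral := by
  letI := G.s.appTop.hom.toAlgebra
  letI : Algebra G.invariants Γ(G.R, ⊤) := (G.s.appTop.hom.comp G.invariants.subtype).toAlgebra
  haveI : IsScalarTower G.invariants Γ(G.U, ⊤) Γ(G.R, ⊤) := .of_algebraMap_eq (fun _ => rfl)
  obtain ⟨n, r, hinv⟩ := exists_ret_hinv G
  haveI : Algebra.IsIntegral G.invariants Γ(G.U, ⊤) := Groth.Agent.S1879.main S G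
  let τ : Γ(G.U, ⊤) →ₐ[G.invariants] Γ(G.R, ⊤) :=
    { G.t.appTop.hom with commutes' := fun c => (c.2).symm }
  let ε : Γ(G.R, ⊤) →ₐ[G.invariants] Γ(G.U, ⊤) :=
    { G.e.appTop.hom with commutes' := fun c => e_sigma G c }
  exact exists_fieldPoint (τ := τ) (ε := ε) (r := r) hinv
    (fun x hx => ⟨⟨x, hx⟩, rfl⟩) (e_sigma G) (e_tau G) k x₀ x₁ hx

theorem exists_point_of_isAlgClosed_grpd (k : Type u) [Field k] [IsAlgClosed k]
    (x₀ x₁ : Γ(G.U, ⊤) →+* k)
    (hx : x₀.comp G.invariants.subtype = x₁.comp G.invariants.subtype) :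
    ∃ ρ : Γ(G.R, ⊤) →+* k, ρ.comp G.t.appTop.hom = x₀ ∧ ρ.comp G.s.appTop.hom = x₁ := by
  letI := G.s.appTop.hom.toAlgebra
  letI : Algebra G.invariants Γ(G.R, ⊤) := (G.s.appTop.hom.comp G.invariants.subtype).toAlgebra
  haveI : IsScalarTower G.invariants Γ(G.U, ⊤) Γ(G.R, ⊤) := .of_algebraMap_eq (fun _ => rfl)
  obtain ⟨n, r, hinv⟩ := exists_ret_hinv G
  haveI : Algebra.IsIntegral G.invariants Γ(G.U, ⊤) := Groth.Agent.S1879.main S G
  let τ : Γ(G.U, ⊤) →ₐ[G.invariants] Γ(G.R, ⊤) :=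
    { G.t.appTop.hom with commutes' := fun c => (c.2).symm }
  let ε : Γ(G.R, ⊤) →ₐ[G.invariants] Γ(G.U, ⊤) :=
    { G.e.appTop.hom with commutes' := fun c => e_sigma G c }
  exact exists_point_of_isAlgClosed (τ := τ) (ε := ε) (r := r) hinv
    (fun x hx => ⟨⟨x, hx⟩, rfl⟩) (e_sigma G) (e_tau G) k x₀ x₁ hx

end FieldPts

section Points

/-- the ring homomorphism attached to a `Spec K`-valued point. -/
noncomputable def rh {X : Scheme.{u}} {K : CommRingCat.{u}} (x : Spec K ⟶ X) : Γ(X, ⊤) ⟶ K :=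
  Spec.preimage (x ≫ X.toSpecΓ)

theorem map_rh {X : Scheme.{u}} {K : CommRingCat.{u}} (x : Spec K ⟶ X) :
    Spec.map (rh x) = x ≫ X.toSpecΓ := Spec.map_preimage _

theorem rh_comp {X Y : Scheme.{u}} {K : CommRingCat.{u}} (x : Spec K ⟶ X) (f : X ⟶ Y) :
    rh (x ≫ f) = f.appTop ≫ rh x := by
  apply Spec.map_injective
  rw [map_rh, Spec.map_comp, map_rh, Category.assoc, Category.assoc, Scheme.toSpecΓ_naturality]

theorem rh_injective {X : Scheme.{u}} [IsAffine X] {K : CommRingCat.{u}} {x y : Spec K ⟶ X}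
    (h : rh x = rh y) : x = y := by
  have := congrArg Spec.map h
  rw [map_rh, map_rh] at this
  exact (cancel_mono X.toSpecΓ).mp this

/-- the point attached to a ring homomorphism. -/
noncomputable def ofRh {X : Scheme.{u}} [IsAffine X] {K : CommRingCat.{u}} (φ : Γ(X, ⊤) ⟶ K) :
    Spec K ⟶ X := Spec.map φ ≫ X.isoSpec.inv

theorem rh_ofRh {X : Scheme.{u}} [IsAffine X] {K : CommRingCat.{u}} (φ : Γ(X, ⊤) ⟶ K) :
    rh (ofRh φ) = φ := by
  apply Spec.map_injective
  rw [map_rh, ofRh, Category.assoc]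
  have : X.isoSpec.inv ≫ X.toSpecΓ = 𝟙 _ := X.isoSpec.inv_hom_id
  rw [this, Category.comp_id]

theorem comp_toQuot {K : CommRingCat.{u}} (x : Spec K ⟶ G.U) :
    x ≫ G.toQuot = Spec.map (CommRingCat.ofHom G.invariants.subtype ≫ rh x) := by
  unfold Grpd.GroupoidScheme.toQuot
  rw [← Category.assoc, ← map_rh, ← Spec.map_comp]

end Points

end Groth.Agent.Lib.Helper11.Ffg
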