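import Mathlib
import Groth.Prelude.Def_Grpd
import Groth.Agent.Lib.Helper11FfgSch

/-!
# Norm cut for finite locally free morphisms of affine schemes; invariant opens (helper11)
-/

set_option autoImplicit false
set_option linter.style.haveILetI false
set_option linter.unusedSectionVars false
universe u

open CategoryTheory CategoryTheory.Limits AlgebraicGeometry TensorProduct

namespace Groth.Agent.Lib.Helper11.Ffg

open Groth.Agent.Lib.Helper2.RetCharpoly

theorem mem_basicOpen_iff_notMem_pr {X : Scheme.{u}} (g : Γ(X, ⊤)) (x : X) :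
    x ∈ X.basicOpen g ↔ g ∉ pr X x := by
  rw [← Scheme.toSpecΓ_preimage_basicOpen]
  rfl

/-- **Norm cut**: for a finite locally free morphism `s' : Y ⟶ X` of affine schemes and a function
`b` on `Y` there is a function `g` on `X` whose non-vanishing locus is the set of points all of whose
fibre lies in the non-vanishing locus of `b`. -/
theorem exists_norm_basicOpen {X Y : Scheme.{u}} [IsAffine X] [IsAffine Y] (s' : Y ⟶ X)
    [IsFinite s'] [Flat s'] [LocallyOfFinitePresentation s'] (b : Γ(Y, ⊤)) :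
    ∃ g : Γ(X, ⊤), ∀ x : X, x ∈ X.basicOpen g ↔ ∀ y : Y, s' y = x → y ∈ Y.basicOpen b := by
  letI := s'.appTop.hom.toAlgebra
  have hfin : Module.Finite Γ(X, ⊤) Γ(Y, ⊤) := s'.finite_appTop
  have hflat : Module.Flat Γ(X, ⊤) Γ(Y, ⊤) := s'.flat_appTop
  have hfp : Algebra.FinitePresentation Γ(X, ⊤) Γ(Y, ⊤) := s'.finitePresentation_appTop
  have : Module.FinitePresentation Γ(X, ⊤) Γ(Y, ⊤) :=
    Module.FinitePresentation.of_finite_of_finitePresentation _ _
  have hproj : Module.Projective Γ(X, ⊤) Γ(Y, ⊤) :=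
    Module.Flat.projective_of_finitePresentation
  obtain ⟨n, ⟨r⟩⟩ := exists_ret Γ(X, ⊤) Γ(Y, ⊤)
  refine ⟨nm r b, fun x => ?_⟩
  rw [mem_basicOpen_iff_notMem_pr, nm_mem_iff]
  constructor
  · intro h y hy
    rw [mem_basicOpen_iff_notMem_pr]
    intro hyb
    apply h
    refine ⟨pr Y y, inferInstance, ?_, hyb⟩
    rw [← hy, pr_map]
    rfl
  · intro h
    rintro ⟨q, hq, hqx, hbq⟩
    obtain ⟨y, hy⟩ := exists_pr Y q
    have hyx : s' y = x := by
      apply pr_injective
      rw [pr_map, hy]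
      exact hqx
    have := h y hyx
    rw [mem_basicOpen_iff_notMem_pr, hy] at this
    exact this hbq

/-- prime avoidance on an affine scheme: a finite set of points inside an open set lies in a basic
open contained in the open set. -/
theorem exists_basicOpen_le_of_finite {X : Scheme.{u}} [IsAffine X] (V' : X.Opens) (O : Set X)
    (hO : O.Finite) (hOV : O ⊆ V') :
    ∃ f : Γ(X, ⊤), X.basicOpen f ≤ V' ∧ O ⊆ X.basicOpen f := by
  classical
  let I : Ideal Γ(X, ⊤) :=
    { carrier := {f | X.basicOpen f ≤ V'}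
      add_mem' := by
        intro a b ha hb x hx
        have : x ∈ X.basicOpen a ∨ x ∈ X.basicOpen b := by
          rw [mem_basicOpen_iff_notMem_pr] at hx
          by_contra hc
          push Not at hc
          rw [mem_basicOpen_iff_notMem_pr, mem_basicOpen_iff_notMem_pr, not_not, not_not] at hc
          exact hx (Ideal.add_mem _ hc.1 hc.2)
        rcases this with h | h
        · exact ha h
        · exact hb h
      zero_mem' := by
        intro x hx
        rw [mem_basicOpen_iff_notMem_pr] at hx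
        exact (hx (Ideal.zero_mem _)).elim
      smul_mem' := by
        intro c a ha x hx
        apply ha
        rw [mem_basicOpen_iff_notMem_pr] at hx ⊢
        intro h
        exact hx (Ideal.mul_mem_left _ c h) }
  have hI : ∀ f, f ∈ I ↔ X.basicOpen f ≤ V' := fun f => Iff.rfl
  rcases O.eq_empty_or_nonempty with hOe | ⟨x₁, hx₁⟩
  · refine ⟨0, ?_, by rw [hOe]; exact Set.empty_subset _⟩
    intro x hx
    rw [mem_basicOpen_iff_notMem_pr] at hx
    exact (hx (Ideal.zero_mem _)).elim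
  have hnot : ¬ ((I : Set Γ(X, ⊤)) ⊆ ⋃ x ∈ (↑hO.toFinset : Set X), ((pr X x : Ideal Γ(X, ⊤)) : Set _)) := by
    intro hsub
    rw [Ideal.subset_union_prime (f := fun x : X => pr X x) x₁ x₁
      (fun x _ _ _ => inferInstance)] at hsub
    obtain ⟨x₀, hx₀, hle⟩ := hsub
    have hx₀O : x₀ ∈ O := by simpa using hx₀
    obtain ⟨_, ⟨_, ⟨f, rfl⟩, rfl⟩, hxf, hfV⟩ := (isBasis_basicOpen X).exists_subset_of_mem_open
      (hOV hx₀O) V'.isOpen
    have : f ∈ pr X x₀ := hle ((hI f).mpr hfV)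
    exact ((mem_basicOpen_iff_notMem_pr f x₀).mp hxf) this
  · obtain ⟨f, hfI, hfn⟩ := Set.not_subset.mp hnot
    refine ⟨f, (hI f).mp hfI, fun x hx => ?_⟩
    rw [SetLike.mem_coe, mem_basicOpen_iff_notMem_pr]
    intro hmem
    apply hfn
    simp only [Set.mem_iUnion]
    exact ⟨x, by simpa using hx, hmem⟩

section Pts
variable {S : Scheme.{u}} (G : Grpd.GroupoidScheme S)

theorem s_i_pt (x : G.R) : G.s (G.i x) = G.t x := by
  have : G.s (G.i x) = (G.i ≫ G.s) x := rfl
  rw [this, G.i_s]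

theorem t_i_pt (x : G.R) : G.t (G.i x) = G.s x := by
  have : G.t (G.i x) = (G.i ≫ G.t) x := rfl
  rw [this, G.i_t]

theorem s_e_pt (x : G.U) : G.s (G.e x) = x := by
  have : G.s (G.e x) = (G.e ≫ G.s) x := rfl
  rw [this, G.e_s]
  rfl

theorem t_e_pt (x : G.U) : G.t (G.e x) = x := by
  have : G.t (G.e x) = (G.e ≫ G.t) x := rfl
  rw [this, G.e_t]
  rfl

/-- composition on points. -/
theorem exists_comp_pt (x r : G.R) (h : G.s x = G.t r) :
    ∃ y : G.R, G.t y = G.t x ∧ G.s y = G.s r := by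
  obtain ⟨w, hw1, hw2⟩ := Scheme.Pullback.exists_preimage_pullback (f := G.s) (g := G.t) x r h
  refine ⟨G.c w, ?_, ?_⟩
  · have : G.t (G.c w) = (G.c ≫ G.t) w := rfl
    rw [this, Groth.Agent.S1880.c_t]
    show G.t (pullback.fst G.s G.t w) = _
    rw [hw1]
  · have : G.s (G.c w) = (G.c ≫ G.s) w := rfl
    rw [this, Groth.Agent.S1880.c_s]
    show G.s (pullback.snd G.s G.t w) = _
    rw [hw2]

/-- the points all of whose orbit lies in `V`. -/
def orbIn (V : Set G.U) : Set G.U := {w | ∀ r : G.R, G.s r = w → G.t r ∈ V}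

theorem mem_orbIn {V : Set G.U} {w : G.U} :
    w ∈ orbIn G V ↔ ∀ r : G.R, G.s r = w → G.t r ∈ V := Iff.rfl

theorem mem_orbIn' {V : Set G.U} {w : G.U} :
    w ∈ orbIn G V ↔ ∀ r : G.R, G.t r = w → G.s r ∈ V := by
  constructor
  · intro h r hr
    have := h (G.i r) (by rw [s_i_pt, hr])
    rwa [t_i_pt] at this
  · intro h r hr
    have := h (G.i r) (by rw [t_i_pt, hr])
    rwa [s_i_pt] at this

theorem orbIn_subset (V : Set G.U) : orbIn G V ⊆ V := by
  intro w hw
  have := hw (G.e w) (s_e_pt G w)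
  rwa [t_e_pt] at this

theorem orbIn_eq_compl (V : Set G.U) : orbIn G V = (G.s '' (G.t ⁻¹' Vᶜ))ᶜ := by
  ext w
  simp only [orbIn, Set.mem_ofPred_eq, Set.mem_compl_iff, Set.mem_image, Set.mem_preimage,
    not_exists, not_and]
  constructor
  · intro h r hr hw
    exact hr (h r hw)
  · intro h r hr
    by_contra hc
    exact h r hc hr

/-- `orbIn V` is invariant. -/
theorem orbIn_invariant (V : Set G.U) : G.s ⁻¹' (orbIn G V) = G.t ⁻¹' (orbIn G V) := by
  ext x
  simp only [Set.mem_preimage]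
  constructor
  · intro h
    rw [mem_orbIn]
    intro r hr
    obtain ⟨z, hz1, hz2⟩ := exists_comp_pt G r x hr
    have h2 := (mem_orbIn G).mp h z hz2
    rwa [hz1] at h2
  · intro h
    rw [mem_orbIn]
    intro r hr
    -- s r = s x; compose r with i x : t = t r, s = s (i x) = t x
    obtain ⟨z, hz1, hz2⟩ := exists_comp_pt G r (G.i x) (by rw [t_i_pt, hr])
    have h2 := (mem_orbIn G).mp h z (by rw [hz2, s_i_pt])
    rwa [hz1] at h2

/-- the open set of points all of whose orbit lies in the open `V` (`s` closed). -/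
def orbInOpen [UniversallyClosed G.s] (V : G.U.Opens) : G.U.Opens :=
  ⟨orbIn G (V : Set G.U), by
    rw [orbIn_eq_compl, isOpen_compl_iff]
    exact G.s.isClosedMap _ (V.isOpen.isClosed_compl.preimage G.t.continuous)⟩

theorem mem_orbInOpen [UniversallyClosed G.s] {V : G.U.Opens} {w : G.U} :
    w ∈ orbInOpen G V ↔ ∀ r : G.R, G.s r = w → G.t r ∈ V := Iff.rfl

theorem orbInOpen_le [UniversallyClosed G.s] (V : G.U.Opens) : orbInOpen G V ≤ V :=
  orbIn_subset G _

theorem orbInOpen_invariant [UniversallyClosed G.s] (V : G.U.Opens) :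
    G.s ⁻¹ᵁ (orbInOpen G V) = G.t ⁻¹ᵁ (orbInOpen G V) := by
  ext x
  exact Set.ext_iff.mp (orbIn_invariant G (V : Set G.U)) x

/-- **Invariant affine neighbourhoods** (SGA3 V 4.1 / Stacks 03JG): if `s` is finite locally free and
the orbit of `u` lies in an affine open `V`, then `u` has an invariant affine open neighbourhood
inside `V`, of the form `orbIn W₀` for an affine open `W₀ ≤ V`. -/
theorem exists_invariant_affine_open [IsFinite G.s] [Flat G.s] [LocallyOfFinitePresentation G.s]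
    (u : G.U) (V : G.U.Opens) (hV : IsAffineOpen V) (huV : ∀ r : G.R, G.s r = u → G.t r ∈ V) :
    ∃ W : G.U.Opens, IsAffineOpen W ∧ u ∈ W ∧ G.s ⁻¹ᵁ W = G.t ⁻¹ᵁ W ∧ W ≤ V := by
  classical
  -- Step 1: the invariant open `V'`
  let V' : G.U.Opens := orbInOpen G V
  have hV'V : V' ≤ V := orbInOpen_le G V
  have huV' : u ∈ V' := huV
  have hV'inv := orbInOpen_invariant G V
  let O : Set G.U := G.t '' (G.s ⁻¹' {u})
  have hOfin : O.Finite := (G.s.finite_preimage_singleton u).image _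
  have hOV' : O ⊆ V' := by
    rintro _ ⟨r, hr, rfl⟩
    have h1 : r ∈ G.s ⁻¹ᵁ V' := by
      show G.s r ∈ V'
      rw [hr]
      exact huV'
    rw [hV'inv] at h1
    exact h1
  -- Step 2: a basic open of `V` inside `V'` containing the orbit
  haveI : IsAffine V.toScheme := hV
  obtain ⟨f, hfV', hOf⟩ := exists_basicOpen_le_of_finite (X := V.toScheme) (V.ι ⁻¹ᵁ V')
    (V.ι ⁻¹' O) (hOfin.preimage V.ι.isOpenEmbedding.injective.injOn)
    (fun x hx => hOV' hx)
  let W₀ : G.U.Opens := V.ι ''ᵁ (V.toScheme.basicOpen f)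
  have hW₀aff : IsAffineOpen W₀ :=
    ((isAffineOpen_top V.toScheme).basicOpen f).image_of_isOpenImmersion V.ι
  have hW₀V' : W₀ ≤ V' := by
    rintro _ ⟨x, hx, rfl⟩
    exact hfV' hx
  have hOW₀ : O ⊆ W₀ := by
    intro x hx
    have hxV : x ∈ V := hV'V (hOV' hx)
    exact ⟨⟨x, hxV⟩, hOf (show V.ι ⟨x, hxV⟩ ∈ O from hx), rfl⟩
  -- Step 3: the affine pieces and the function `b`
  haveI : IsAffine W₀.toScheme := hW₀aff
  have hYaff : IsAffineOpen (G.s ⁻¹ᵁ W₀) := hW₀aff.preimage G.s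
  haveI : IsAffine (G.s ⁻¹ᵁ W₀).toScheme := hYaff
  have hrange : Set.range ((G.s ⁻¹ᵁ W₀).ι ≫ G.t) ⊆ Set.range V.ι := by
    rintro _ ⟨y, rfl⟩
    have h1 : (G.s ⁻¹ᵁ W₀).ι y ∈ G.s ⁻¹ᵁ V' := hW₀V' y.2
    rw [hV'inv] at h1
    rw [Scheme.Opens.range_ι]
    exact hV'V h1
  let t'' : (G.s ⁻¹ᵁ W₀).toScheme ⟶ V.toScheme :=
    IsOpenImmersion.lift V.ι ((G.s ⁻¹ᵁ W₀).ι ≫ G.t) hrange
  have ht'' : t'' ≫ V.ι = (G.s ⁻¹ᵁ W₀).ι ≫ G.t := IsOpenImmersion.lift_fac _ _ _
  let b : Γ((G.s ⁻¹ᵁ W₀).toScheme, ⊤) := t''.appTop.hom f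
  have hb : ∀ y : (G.s ⁻¹ᵁ W₀).toScheme,
      y ∈ (G.s ⁻¹ᵁ W₀).toScheme.basicOpen b ↔ G.t ((G.s ⁻¹ᵁ W₀).ι y) ∈ W₀ := by
    intro y
    have h1 : (G.s ⁻¹ᵁ W₀).toScheme.basicOpen b = t'' ⁻¹ᵁ (V.toScheme.basicOpen f) := by
      rw [Scheme.preimage_basicOpen]
      rfl
    rw [h1]
    have h2 : G.t ((G.s ⁻¹ᵁ W₀).ι y) = V.ι (t'' y) := by
      rw [← Scheme.Hom.comp_apply, ← Scheme.Hom.comp_apply, ht'']
    rw [h2]
    constructor
    · intro h
      exact ⟨t'' y, h, rfl⟩
    · rintro ⟨x, hx, hxy⟩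
      have := V.ι.isOpenEmbedding.injective hxy
      show t'' y ∈ V.toScheme.basicOpen f
      rw [← this]
      exact hx
  -- Step 4: the norm cut
  obtain ⟨g, hg⟩ := exists_norm_basicOpen (G.s ∣_ W₀) b
  let W : G.U.Opens := W₀.ι ''ᵁ (W₀.toScheme.basicOpen g)
  have hWaff : IsAffineOpen W :=
    ((isAffineOpen_top W₀.toScheme).basicOpen g).image_of_isOpenImmersion W₀.ι
  have hWset : (W : Set G.U) = orbIn G (W₀ : Set G.U) := by
    ext w
    constructor
    · rintro ⟨x, hx, rfl⟩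
      rw [mem_orbIn]
      intro r hr
      have hrW₀ : r ∈ G.s ⁻¹ᵁ W₀ := by
        show G.s r ∈ W₀
        rw [hr]
        exact x.2
      have h3 := (hg x).mp hx ⟨r, hrW₀⟩ (by
        apply W₀.ι.isOpenEmbedding.injective
        rw [← Scheme.Hom.comp_apply, morphismRestrict_ι, Scheme.Hom.comp_apply]
        exact hr)
      exact (hb _).mp h3
    · intro hw
      have hwW₀ : w ∈ W₀ := orbIn_subset G _ hw
      refine ⟨⟨w, hwW₀⟩, ?_, rfl⟩
      rw [SetLike.mem_coe, hg]
      intro y hy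
      rw [hb]
      apply (mem_orbIn G).mp hw
      have := congrArg W₀.ι hy
      rw [← Scheme.Hom.comp_apply, morphismRestrict_ι, Scheme.Hom.comp_apply] at this
      exact this
  refine ⟨W, hWaff, ?_, ?_, ?_⟩
  · show u ∈ (W : Set G.U)
    rw [hWset, mem_orbIn]
    intro r hr
    exact hOW₀ ⟨r, hr, rfl⟩
  · ext x
    have := Set.ext_iff.mp (orbIn_invariant G (W₀ : Set G.U)) x
    simp only [Set.mem_preimage] at this
    show G.s x ∈ (W : Set G.U) ↔ G.t x ∈ (W : Set G.U)
    rw [hWset]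
    exact this
  · intro w hw
    have : w ∈ (W : Set G.U) := hw
    rw [hWset] at this
    exact hV'V (hW₀V' (orbIn_subset G _ this))

end Pts

end Groth.Agent.Lib.Helper11.Ffg
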