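import Groth.Prelude.Def_SGA1
import Mathlib.RingTheory.Invariant.Basic
import Mathlib.AlgebraicGeometry.Morphisms.Integral

/-!
# Helper20: the action of `G` on sections over `p⁻¹U` for a `G`-invariant morphism `p : X ⟶ Y`

For `ρ : G →* Aut X` and `p : X ⟶ Y` with `(ρ g).hom ≫ p = p`, the group `G` acts on
`Γ(X, p ⁻¹ᵁ U)` by ring automorphisms; for a quotient in the sense of `SGA1.IsQuot`, the
`Γ(Y, U)`-algebra `Γ(X, p ⁻¹ᵁ U)` is `Algebra.IsInvariant`.
-/

set_option autoImplicit false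
universe u
open CategoryTheory AlgebraicGeometry

namespace Groth.Agent.Lib.Helper20

open SGA1

section

variable {X Y : Scheme.{u}} {G : Type u} [Group G] (ρ : G →* Aut X) (p : X ⟶ Y)
  (hinv : ∀ g : G, (ρ g).hom ≫ p = p)

/-- the (right) action map on sections over `p⁻¹U` -/
noncomputable def actHom (g : G) (U : Y.Opens) : Γ(X, p ⁻¹ᵁ U) →+* Γ(X, p ⁻¹ᵁ U) :=
  ((ρ g).hom.appLE (p ⁻¹ᵁ U) (p ⁻¹ᵁ U) (preimage_le_of_inv ρ p hinv g U)).hom

theorem appLE_congr_hom {X Y : Scheme.{u}} {f g : X ⟶ Y} (h : f = g) (U : Y.Opens) (V : X.Opens)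
    (e : V ≤ f ⁻¹ᵁ U) : f.appLE U V e = g.appLE U V (h ▸ e) := by
  subst h; rfl

theorem id_appLE {X : Scheme.{u}} (U : X.Opens) (e : U ≤ (𝟙 X) ⁻¹ᵁ U) :
    (𝟙 X : X ⟶ X).appLE U U e = 𝟙 _ := by
  simp only [Scheme.Hom.appLE, Scheme.Hom.id_app, Category.id_comp]
  exact X.presheaf.map_id _

theorem actHom_one (U : Y.Opens) : actHom ρ p hinv 1 U = RingHom.id _ := by
  have h1 : (ρ 1).hom = 𝟙 X := by rw [map_one]; rfl
  unfold actHom
  rw [appLE_congr_hom h1, id_appLE]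
  rfl

theorem actHom_mul (g h : G) (U : Y.Opens) :
    actHom ρ p hinv (g * h) U = (actHom ρ p hinv h U).comp (actHom ρ p hinv g U) := by
  have h1 : (ρ (g * h)).hom = (ρ h).hom ≫ (ρ g).hom := by rw [map_mul]; rfl
  unfold actHom
  rw [appLE_congr_hom h1, ← CommRingCat.hom_comp, Scheme.Hom.appLE_comp_appLE]

theorem actHom_inv_apply (g : G) (U : Y.Opens) (s : Γ(X, p ⁻¹ᵁ U)) :
    actHom ρ p hinv g⁻¹ U (actHom ρ p hinv g U s) = s := by
  have := actHom_mul ρ p hinv g g⁻¹ U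
  rw [mul_inv_cancel, actHom_one] at this
  exact (congrArg (fun f => f s) this).symm

theorem actHom_apply_inv (g : G) (U : Y.Opens) (s : Γ(X, p ⁻¹ᵁ U)) :
    actHom ρ p hinv g U (actHom ρ p hinv g⁻¹ U s) = s := by
  have := actHom_inv_apply ρ p hinv g⁻¹ U s
  rwa [inv_inv] at this

/-- `g ↦ (s ↦ g⁻¹-pullback of s)` as a monoid hom to ring automorphisms (a left action). -/
noncomputable def actAut (U : Y.Opens) : G →* RingAut Γ(X, p ⁻¹ᵁ U) where
  toFun g := RingEquiv.ofRingHom (actHom ρ p hinv g⁻¹ U) (actHom ρ p hinv g U)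
    (RingHom.ext fun s => actHom_inv_apply ρ p hinv g U s)
    (RingHom.ext fun s => actHom_apply_inv ρ p hinv g U s)
  map_one' := by
    ext s
    change actHom ρ p hinv 1⁻¹ U s = s
    rw [inv_one, actHom_one]; rfl
  map_mul' g h := by
    ext s
    change actHom ρ p hinv (g * h)⁻¹ U s = actHom ρ p hinv g⁻¹ U (actHom ρ p hinv h⁻¹ U s)
    rw [mul_inv_rev, actHom_mul]; rfl

/-- The action of `G` on `Γ(X, p⁻¹U)`: `g • s = (ρ g⁻¹)^* s`. -/
@[instance_reducible]
noncomputable def sectionAction (U : Y.Opens) : MulSemiringAction G Γ(X, p ⁻¹ᵁ U) :=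
  MulSemiringAction.compHom _ (actAut ρ p hinv U)

theorem sectionAction_smul (U : Y.Opens) (g : G) (s : Γ(X, p ⁻¹ᵁ U)) :
    (letI := sectionAction ρ p hinv U; g • s) = actHom ρ p hinv g⁻¹ U s := rfl

end

section

variable {X Y : Scheme.{u}} {G : Type u} [Group G] {ρ : G →* Aut X} {p : X ⟶ Y}

theorem isInvariant (hp : IsQuot ρ p) (U : Y.Opens) :
    letI := (p.app U).hom.toAlgebra
    letI := sectionAction ρ p hp.inv U
    Algebra.IsInvariant Γ(Y, U) Γ(X, p ⁻¹ᵁ U) G := by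
  letI := (p.app U).hom.toAlgebra
  letI := sectionAction ρ p hp.inv U
  refine ⟨fun b hb => ?_⟩
  have : b ∈ Set.range (p.app U).hom := by
    rw [hp.range_iff]
    intro g
    have := hb g⁻¹
    rw [sectionAction_smul, inv_inv] at this
    exact this
  exact this

theorem smulCommClass (hp : IsQuot ρ p) (U : Y.Opens) :
    letI := (p.app U).hom.toAlgebra
    letI := sectionAction ρ p hp.inv U
    SMulCommClass G Γ(Y, U) Γ(X, p ⁻¹ᵁ U) := by
  letI := (p.app U).hom.toAlgebra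
  letI := sectionAction ρ p hp.inv U
  refine ⟨fun g a b => ?_⟩
  rw [Algebra.smul_def, Algebra.smul_def, smul_mul']
  congr 1
  have h : (algebraMap Γ(Y, U) Γ(X, p ⁻¹ᵁ U) a) ∈ Set.range (p.app U).hom := ⟨a, rfl⟩
  rw [hp.range_iff] at h
  exact h g⁻¹

theorem isIntegral_app [Finite G] (hp : IsQuot ρ p) (U : Y.Opens) :
    (p.app U).hom.IsIntegral := by
  letI := (p.app U).hom.toAlgebra
  letI := sectionAction ρ p hp.inv U
  have := isInvariant hp U
  have h := Algebra.IsInvariant.isIntegral Γ(Y, U) Γ(X, p ⁻¹ᵁ U) G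
  intro x
  exact h.isIntegral x

end

end Groth.Agent.Lib.Helper20
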