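import Groth.Agent.Lib.Helper20QuotAff
import Groth.Agent.S13606

/-!
# Helper20: restriction of a quotient by a finite group to opens of the base
-/

set_option autoImplicit false
universe u
open CategoryTheory AlgebraicGeometry TopologicalSpace

namespace Groth.Agent.Lib.Helper20

open SGA1

section

variable {X Y : Scheme.{u}} {G : Type u} [Group G]

theorem rho_mul_hom (ρ : G →* Aut X) (g h : G) : (ρ (g * h)).hom = (ρ h).hom ≫ (ρ g).hom := by
  rw [map_mul]; rfl

theorem rho_one_hom (ρ : G →* Aut X) : (ρ 1).hom = 𝟙 X := by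
  rw [map_one]; rfl

/-- restriction of the action to a stable open -/
noncomputable def restrictAction (ρ : G →* Aut X) (T : X.Opens)
    (hT : ∀ g, T ≤ (ρ g).hom ⁻¹ᵁ T) : G →* Aut T.toScheme where
  toFun g :=
    { hom := (ρ g).hom.resLE T T (hT g)
      inv := (ρ g⁻¹).hom.resLE T T (hT g⁻¹)
      hom_inv_id := by
        rw [← cancel_mono T.ι, Category.assoc, Scheme.Hom.resLE_comp_ι,
          Scheme.Hom.resLE_comp_ι_assoc, ← rho_mul_hom, inv_mul_cancel, rho_one_hom]
        simp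
      inv_hom_id := by
        rw [← cancel_mono T.ι, Category.assoc, Scheme.Hom.resLE_comp_ι,
          Scheme.Hom.resLE_comp_ι_assoc, ← rho_mul_hom, mul_inv_cancel, rho_one_hom]
        simp }
  map_one' := by
    apply Iso.ext
    change (ρ 1).hom.resLE T T (hT 1) = 𝟙 _
    rw [← cancel_mono T.ι, Scheme.Hom.resLE_comp_ι, rho_one_hom]
    simp
  map_mul' g h := by
    apply Iso.ext
    change (ρ (g * h)).hom.resLE T T (hT (g * h)) =
      (ρ h).hom.resLE T T (hT h) ≫ (ρ g).hom.resLE T T (hT g)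
    rw [← cancel_mono T.ι, Scheme.Hom.resLE_comp_ι, Category.assoc, Scheme.Hom.resLE_comp_ι,
      Scheme.Hom.resLE_comp_ι_assoc, rho_mul_hom]

theorem restrictAction_ι (ρ : G →* Aut X) (T : X.Opens) (hT : ∀ g, T ≤ (ρ g).hom ⁻¹ᵁ T) (g : G) :
    (restrictAction ρ T hT g).hom ≫ T.ι = T.ι ≫ (ρ g).hom :=
  Scheme.Hom.resLE_comp_ι _ _

variable [Finite G] {ρ : G →* Aut X} {p : X ⟶ Y}

theorem isQuot_restrict (hp : IsQuot ρ p) (U : Y.Opens) :
    IsQuot (restrictAction ρ (p ⁻¹ᵁ U) (fun g => preimage_le_of_inv ρ p hp.inv g U)) (p ∣_ U) :=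
  Groth.Agent.S13606.result ρ p hp U _ (restrictAction_ι ρ _ _)

theorem isAffineOpen_of_isQuot (hp : IsQuot ρ p) (U : Y.Opens) (hU : IsAffineOpen (p ⁻¹ᵁ U)) :
    IsAffineOpen U := by
  have : IsAffine (p ⁻¹ᵁ U).toScheme := hU
  exact isAffine_of_isQuot (isQuot_restrict hp U)

end

end Groth.Agent.Lib.Helper20
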