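import Groth.Agent.Lib.Helper20QuotBC
import Groth.Agent.Lib.Helper20QuotRestrict
import Mathlib

set_option autoImplicit false
universe u
open CategoryTheory CategoryTheory.Limits AlgebraicGeometry TopologicalSpace

namespace Groth.Agent.Lib.Helper20.QuotCoset

open SGA1 Groth.Agent.Lib.Helper20

variable {X XG : Scheme.{u}} {G : Type u} [Group G] (ρ : G →* Aut X) (p : X ⟶ XG)

/-- helper: evaluate an equality of ring maps in `CommRingCat` at an element -/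
theorem hom_apply_eq {A B : CommRingCat.{u}} {f g : A ⟶ B} (h : f = g) (a : A) : f.hom a = g.hom a := by
  rw [h]

theorem core (hP : IsQuot ρ p) (H : Subgroup G) (Y : X.Opens)
    (hcov : ∀ x : X, ∃ g : G, (ρ g).hom x ∈ Y)
    (hdisj : ∀ (g g' : G) (x : X), (ρ g).hom x ∈ Y → (ρ g').hom x ∈ Y → g' * g⁻¹ ∈ H)
    (U : XG.Opens)
    (e : Y ⊓ p ⁻¹ᵁ U ≤ p ⁻¹ᵁ U) (eH : ∀ h ∈ H, Y ⊓ p ⁻¹ᵁ U ≤ (ρ h).hom ⁻¹ᵁ (Y ⊓ p ⁻¹ᵁ U)) :
    Function.Injective (p.appLE U (Y ⊓ p ⁻¹ᵁ U) e).hom ∧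
      ∀ t : Γ(X, Y ⊓ p ⁻¹ᵁ U),
        (∀ (h : G) (hh : h ∈ H), ((ρ h).hom.appLE (Y ⊓ p ⁻¹ᵁ U) (Y ⊓ p ⁻¹ᵁ U) (eH h hh)).hom t = t) →
        t ∈ Set.range (p.appLE U (Y ⊓ p ⁻¹ᵁ U) e).hom := by
  set T : X.Opens := p ⁻¹ᵁ U with hT
  have eT : ∀ g : G, T ≤ (ρ g).hom ⁻¹ᵁ T := fun g => preimage_le_of_inv ρ p hP.inv g U
  let Yg : G → X.Opens := fun g => (ρ g).hom ⁻¹ᵁ Y
  have le1 : ∀ g : G, Yg g ⊓ T ≤ (ρ g).hom ⁻¹ᵁ (Y ⊓ T) := fun g x hx => ⟨hx.1, eT g hx.2⟩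
  -- the cover
  have hcover : T ≤ ⨆ g : G, Yg g ⊓ T := by
    intro x hx
    obtain ⟨g, hg⟩ := hcov x
    exact Opens.mem_iSup.mpr ⟨g, hg, hx⟩
  -- (F1)
  have F1 : ∀ (g : G) (s : Γ(X, T)), ((ρ g).hom.appLE T T (eT g)).hom s = s →
      (X.presheaf.map (homOfLE (inf_le_right : Yg g ⊓ T ≤ T)).op).hom s =
        ((ρ g).hom.appLE (Y ⊓ T) (Yg g ⊓ T) (le1 g)).hom
          ((X.presheaf.map (homOfLE (inf_le_right : Y ⊓ T ≤ T)).op).hom s) := by
    intro g s hs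
    have h1 : (ρ g).hom.appLE T T (eT g) ≫ X.presheaf.map (homOfLE (inf_le_right : Yg g ⊓ T ≤ T)).op =
        X.presheaf.map (homOfLE (inf_le_right : Y ⊓ T ≤ T)).op ≫
          (ρ g).hom.appLE (Y ⊓ T) (Yg g ⊓ T) (le1 g) := by
      rw [Scheme.Hom.appLE_map, Scheme.Hom.map_appLE]
    have h2 := hom_apply_eq h1 s
    simp only [CommRingCat.hom_comp, RingHom.comp_apply] at h2
    rw [hs] at h2
    exact h2
  have hres : ∀ a : Γ(XG, U), (p.appLE U (Y ⊓ T) e).hom a =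
      (X.presheaf.map (homOfLE (inf_le_right : Y ⊓ T ≤ T)).op).hom ((p.app U).hom a) := by
    intro a
    rfl
  have hinvs : ∀ (a : Γ(XG, U)) (g : G),
      ((ρ g).hom.appLE T T (eT g)).hom ((p.app U).hom a) = (p.app U).hom a := by
    intro a g
    exact (hP.range_iff U _).mp ⟨a, rfl⟩ g
  refine ⟨?_, ?_⟩
  · -- injectivity
    intro a a' haa'
    apply hP.injective U
    fapply X.sheaf.eq_of_locally_eq' (fun g : G => Yg g ⊓ T) T (fun g => homOfLE inf_le_right) hcover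
    intro g
    change (X.presheaf.map (homOfLE (inf_le_right : Yg g ⊓ T ≤ T)).op).hom ((p.app U).hom a) =
      (X.presheaf.map (homOfLE (inf_le_right : Yg g ⊓ T ≤ T)).op).hom ((p.app U).hom a')
    rw [F1 g _ (hinvs a g), F1 g _ (hinvs a' g), ← hres, ← hres, haa']
  · intro t ht
    -- the family
    let sf : ∀ g : G, Γ(X, Yg g ⊓ T) := fun g => ((ρ g).hom.appLE (Y ⊓ T) (Yg g ⊓ T) (le1 g)).hom t
    have hcompat : TopCat.Presheaf.IsCompatible X.presheaf (fun g : G => Yg g ⊓ T) sf := by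
      intro g g'
      by_cases hI : (Yg g ⊓ T) ⊓ (Yg g' ⊓ T) = ⊥
      · haveI : Subsingleton Γ(X, (Yg g ⊓ T) ⊓ (Yg g' ⊓ T)) := by rw [hI]; infer_instance
        exact Subsingleton.elim _ _
      · obtain ⟨x, hx⟩ : ∃ x, x ∈ (Yg g ⊓ T) ⊓ (Yg g' ⊓ T) := by
          by_contra hne
          push Not at hne
          exact hI (Opens.ext (Set.eq_empty_of_forall_notMem hne))
        have hh : g' * g⁻¹ ∈ H := hdisj g g' x hx.1.1 hx.2.1
        have hg' : (ρ g').hom = (ρ g).hom ≫ (ρ (g' * g⁻¹)).hom := by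
          rw [← rho_mul_hom, inv_mul_cancel_right]
        change (X.presheaf.map (homOfLE inf_le_left).op).hom (sf g) =
          (X.presheaf.map (homOfLE inf_le_right).op).hom (sf g')
        have h1 : (ρ g).hom.appLE (Y ⊓ T) (Yg g ⊓ T) (le1 g) ≫
            X.presheaf.map (homOfLE (inf_le_left : (Yg g ⊓ T) ⊓ (Yg g' ⊓ T) ≤ Yg g ⊓ T)).op =
            (ρ g).hom.appLE (Y ⊓ T) ((Yg g ⊓ T) ⊓ (Yg g' ⊓ T)) (inf_le_left.trans (le1 g)) := by
          rw [Scheme.Hom.appLE_map]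
        have h2 : (ρ g').hom.appLE (Y ⊓ T) (Yg g' ⊓ T) (le1 g') ≫
            X.presheaf.map (homOfLE (inf_le_right : (Yg g ⊓ T) ⊓ (Yg g' ⊓ T) ≤ Yg g' ⊓ T)).op =
            (ρ (g' * g⁻¹)).hom.appLE (Y ⊓ T) (Y ⊓ T) (eH _ hh) ≫
              (ρ g).hom.appLE (Y ⊓ T) ((Yg g ⊓ T) ⊓ (Yg g' ⊓ T)) (inf_le_left.trans (le1 g)) := by
          rw [Scheme.Hom.appLE_map, Scheme.Hom.appLE_comp_appLE]
          exact appLE_congr_hom hg' _ _ _
        have e1 := hom_apply_eq h1 t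
        have e2 := hom_apply_eq h2 t
        simp only [CommRingCat.hom_comp, RingHom.comp_apply] at e1 e2
        change (X.presheaf.map (homOfLE inf_le_left).op).hom
            (((ρ g).hom.appLE (Y ⊓ T) (Yg g ⊓ T) (le1 g)).hom t) =
          (X.presheaf.map (homOfLE inf_le_right).op).hom
            (((ρ g').hom.appLE (Y ⊓ T) (Yg g' ⊓ T) (le1 g')).hom t)
        rw [e1, e2, ht _ hh]
    obtain ⟨s, hs, -⟩ := X.sheaf.existsUnique_gluing' (fun g : G => Yg g ⊓ T) T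
      (fun g => homOfLE inf_le_right) hcover sf hcompat
    have hs' : ∀ g : G, (X.presheaf.map (homOfLE (inf_le_right : Yg g ⊓ T ≤ T)).op).hom s = sf g :=
      fun g => hs g
    -- invariance of `s`
    have hsinv : ∀ a : G, ((ρ a).hom.appLE T T (eT a)).hom s = s := by
      intro a
      fapply X.sheaf.eq_of_locally_eq' (fun g : G => Yg g ⊓ T) T (fun g => homOfLE inf_le_right) hcover
      intro g
      change (X.presheaf.map (homOfLE (inf_le_right : Yg g ⊓ T ≤ T)).op).hom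
          (((ρ a).hom.appLE T T (eT a)).hom s) =
        (X.presheaf.map (homOfLE (inf_le_right : Yg g ⊓ T ≤ T)).op).hom s
      have hga : (ρ a).hom ≫ (ρ (g * a⁻¹)).hom = (ρ g).hom := by
        rw [← rho_mul_hom, inv_mul_cancel_right]
      have le2 : Yg g ⊓ T ≤ (ρ a).hom ⁻¹ᵁ (Yg (g * a⁻¹) ⊓ T) := by
        intro x hx
        refine ⟨?_, eT a hx.2⟩
        change (ρ (g * a⁻¹)).hom ((ρ a).hom x) ∈ Y
        rw [← Scheme.Hom.comp_apply, hga]
        exact hx.1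
      have h1 : (ρ a).hom.appLE T T (eT a) ≫
          X.presheaf.map (homOfLE (inf_le_right : Yg g ⊓ T ≤ T)).op =
          X.presheaf.map (homOfLE (inf_le_right : Yg (g * a⁻¹) ⊓ T ≤ T)).op ≫
            (ρ a).hom.appLE (Yg (g * a⁻¹) ⊓ T) (Yg g ⊓ T) le2 := by
        rw [Scheme.Hom.appLE_map, Scheme.Hom.map_appLE]
      have h2 : (ρ (g * a⁻¹)).hom.appLE (Y ⊓ T) (Yg (g * a⁻¹) ⊓ T) (le1 _) ≫
          (ρ a).hom.appLE (Yg (g * a⁻¹) ⊓ T) (Yg g ⊓ T) le2 =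
          (ρ g).hom.appLE (Y ⊓ T) (Yg g ⊓ T) (le1 g) := by
        rw [Scheme.Hom.appLE_comp_appLE]
        exact appLE_congr_hom hga _ _ _
      have e1 := hom_apply_eq h1 s
      have e2 := hom_apply_eq h2 t
      simp only [CommRingCat.hom_comp, RingHom.comp_apply] at e1 e2
      rw [e1, hs' (g * a⁻¹), hs' g]
      exact e2
    obtain ⟨a, ha⟩ := (hP.range_iff U s).mpr hsinv
    refine ⟨a, ?_⟩
    rw [hres, ha]
    -- restriction of `s` to `Y ⊓ T`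
    have le3 : Y ⊓ T ≤ Yg 1 ⊓ T := by
      intro x hx
      refine ⟨?_, hx.2⟩
      change (ρ 1).hom x ∈ Y
      rw [rho_one_hom]
      exact hx.1
    have h1 : X.presheaf.map (homOfLE (inf_le_right : Y ⊓ T ≤ T)).op =
        X.presheaf.map (homOfLE (inf_le_right : Yg 1 ⊓ T ≤ T)).op ≫
          X.presheaf.map (homOfLE le3).op := by
      rw [← Functor.map_comp]
      rfl
    have h2 : (ρ 1).hom.appLE (Y ⊓ T) (Yg 1 ⊓ T) (le1 1) ≫ X.presheaf.map (homOfLE le3).op =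
        𝟙 _ := by
      rw [Scheme.Hom.appLE_map, appLE_congr_hom (rho_one_hom ρ), id_appLE]
    have e2 := hom_apply_eq h2 t
    simp only [CommRingCat.hom_comp, RingHom.comp_apply] at e2
    rw [h1]
    simp only [CommRingCat.hom_comp, RingHom.comp_apply]
    rw [hs' 1]
    exact e2

/-- sections of an open immersion: `appLE` onto the preimage of an open contained in the range is
bijective -/
theorem bijective_appLE_of_isOpenImmersion {Z X : Scheme.{u}} (f : Z ⟶ X) [IsOpenImmersion f]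
    (W : X.Opens) (V : Z.Opens) (hW : f ''ᵁ V = W) (e : V ≤ f ⁻¹ᵁ W) :
    Function.Bijective (f.appLE W V e).hom := by
  subst hW
  have : f.appLE (f ''ᵁ V) V e = (f.appIso V).hom := (f.appIso_hom' V).symm
  rw [this]
  exact ConcreteCategory.bijective_of_isIso _

theorem isQuot_of_coset [Finite G] (hP : IsQuot ρ p) (H : Subgroup G) (Y : X.Opens)
    (hcov : ∀ x : X, ∃ g : G, (ρ g).hom x ∈ Y)
    (hdisj : ∀ (g g' : G) (x : X), (ρ g).hom x ∈ Y → (ρ g').hom x ∈ Y → g' * g⁻¹ ∈ H)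
    (ρY : H →* Aut (Y : Scheme.{u})) (hρY : ∀ h : H, (ρY h).hom ≫ Y.ι = Y.ι ≫ (ρ (h : G)).hom) :
    IsQuot ρY (Y.ι ≫ p) := by
  -- `H` preserves `Y`
  have hHY : ∀ (h : G) (hh : h ∈ H) (x : X), x ∈ Y → (ρ h).hom x ∈ Y := by
    intro h hh x hx
    obtain ⟨y, rfl⟩ : x ∈ Set.range Y.ι := by rw [Scheme.Opens.range_ι]; exact hx
    have := congrArg (fun φ => φ y) (hρY ⟨h, hh⟩)
    simp only [Scheme.Hom.comp_apply] at this
    rw [← this]
    exact ((ρY ⟨h, hh⟩).hom y).2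
  have hYclosed : IsClosed (Y : Set X) := by
    have hc : (Y : Set X)ᶜ = ⋃ g : {g : G // g ∉ H}, (((ρ g.1).hom ⁻¹ᵁ Y : X.Opens) : Set X) := by
      ext x
      simp only [Set.mem_compl_iff, SetLike.mem_coe, Set.mem_iUnion]
      constructor
      · intro hx
        obtain ⟨g, hg⟩ := hcov x
        refine ⟨⟨g, fun hgH => hx ?_⟩, hg⟩
        have h1 := hHY g⁻¹ (H.inv_mem hgH) _ hg
        rw [← Scheme.Hom.comp_apply, ← rho_mul_hom, inv_mul_cancel, rho_one_hom] at h1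
        exact h1
      · rintro ⟨⟨g, hg⟩, hx⟩ hxY
        apply hg
        have h1 : (ρ 1).hom x ∈ Y := by rw [rho_one_hom]; exact hxY
        have := hdisj 1 g x h1 hx
        simpa using this
    rw [← isOpen_compl_iff, hc]
    exact isOpen_iUnion fun g => ((ρ g.1).hom ⁻¹ᵁ Y).isOpen
  haveI : IsClosedImmersion Y.ι :=
    IsClosedImmersion.of_isPreimmersion _ (by rw [Scheme.Opens.range_ι]; exact hYclosed)
  haveI := hP.affine
  have haff : IsAffineHom (Y.ι ≫ p) := inferInstance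
  have hinv : ∀ h : H, (ρY h).hom ≫ Y.ι ≫ p = Y.ι ≫ p := by
    intro h
    rw [← Category.assoc, hρY, Category.assoc, hP.inv]
  refine isQuot_of_quotAt ρY haff hinv (fun U => ?_)
  set T : X.Opens := p ⁻¹ᵁ U with hT
  set V : (Y : Scheme.{u}).Opens := (Y.ι ≫ p) ⁻¹ᵁ U with hV
  have eV : V ≤ Y.ι ⁻¹ᵁ (Y ⊓ T) := fun y hy => ⟨y.2, hy⟩
  have hβ : Function.Bijective (Y.ι.appLE (Y ⊓ T) V eV).hom := by
    apply bijective_appLE_of_isOpenImmersion
    apply Opens.ext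
    ext x
    simp only [Scheme.Hom.coe_image, Set.mem_image, SetLike.mem_coe, Opens.coe_inf, Set.mem_inter_iff]
    constructor
    · rintro ⟨y, hy, rfl⟩
      exact ⟨y.2, hy⟩
    · rintro ⟨hxY, hxT⟩
      exact ⟨⟨x, hxY⟩, hxT, rfl⟩
  have e : Y ⊓ T ≤ p ⁻¹ᵁ U := inf_le_right
  have eH : ∀ h ∈ H, Y ⊓ T ≤ (ρ h).hom ⁻¹ᵁ (Y ⊓ T) := fun h hh x hx =>
    ⟨hHY h hh x hx.1, preimage_le_of_inv ρ p hP.inv h U hx.2⟩
  obtain ⟨hinj, hrange⟩ := core ρ p hP H Y hcov hdisj U e eH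
  have eσ : ∀ h : H, V ≤ (ρY h).hom ⁻¹ᵁ V := fun h => preimage_le_of_inv ρY (Y.ι ≫ p) hinv h U
  have hfac : (Y.ι ≫ p).appLE U V le_rfl = p.appLE U (Y ⊓ T) e ≫ Y.ι.appLE (Y ⊓ T) V eV := by
    rw [Scheme.Hom.appLE_comp_appLE]
  have hβσ : ∀ h : H, Y.ι.appLE (Y ⊓ T) V eV ≫ (ρY h).hom.appLE V V (eσ h) =
      (ρ (h : G)).hom.appLE (Y ⊓ T) (Y ⊓ T) (eH h h.2) ≫ Y.ι.appLE (Y ⊓ T) V eV := by
    intro h
    rw [Scheme.Hom.appLE_comp_appLE, Scheme.Hom.appLE_comp_appLE]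
    exact appLE_congr_hom (hρY h) _ _ _
  refine ⟨le_rfl, eσ, ?_, ?_⟩
  · rw [hfac, CommRingCat.hom_comp]
    exact hβ.1.comp hinj
  · intro s' hs'
    obtain ⟨t, rfl⟩ := hβ.2 s'
    have ht : ∀ (h : G) (hh : h ∈ H),
        ((ρ h).hom.appLE (Y ⊓ T) (Y ⊓ T) (eH h hh)).hom t = t := by
      intro h hh
      apply hβ.1
      have e1 := hom_apply_eq (hβσ ⟨h, hh⟩) t
      simp only [CommRingCat.hom_comp, RingHom.comp_apply] at e1
      rw [← e1]
      exact hs' ⟨h, hh⟩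
    obtain ⟨a, ha⟩ := hrange t ht
    refine ⟨a, ?_⟩
    rw [hfac, CommRingCat.hom_comp, RingHom.comp_apply, ha]

end Groth.Agent.Lib.Helper20.QuotCoset
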