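import Mathlib
import Groth.Agent.Lib.Helper20QuotCoset

/-!
# Quotients by a parallel pair of morphisms: sheaf conditions (helper11)

For `a b : R ⟶ U` and `p : U ⟶ Y`, `QAt a b p V T T'` says that `Γ(Y, V) → Γ(U, T)` is injective
and that every section `x` of `Γ(U, T)` with `a^♯ x = b^♯ x` in `Γ(R, T')` comes from `Γ(Y, V)`.
-/

set_option autoImplicit false
set_option linter.unusedSectionVars false
universe u

open CategoryTheory CategoryTheory.Limits AlgebraicGeometry TopologicalSpace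

namespace Groth.Agent.Lib.Helper11.GQ

/-- equalizers commute with localization at an element of the equalizer (elementwise form). -/
theorem away_eq {C A B Cf Af Bf : Type*} [CommRing C] [CommRing A] [CommRing B] [CommRing Cf]
    [CommRing Af] [CommRing Bf] [Algebra C Cf] [Algebra A Af] [Algebra B Bf]
    (f : C) (φ : C →+* A) (σ τ : A →+* B) [IsLocalization.Away f Cf]
    [IsLocalization.Away (φ f) Af] [IsLocalization.Away (σ (φ f)) Bf]
    (hστ : ∀ c, σ (φ c) = τ (φ c))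
    (hinj : Function.Injective φ) (hrange : ∀ x, σ x = τ x → x ∈ Set.range φ)
    (φf : Cf →+* Af) (hφf : ∀ c, φf (algebraMap C Cf c) = algebraMap A Af (φ c))
    (σf τf : Af →+* Bf) (hσf : ∀ x, σf (algebraMap A Af x) = algebraMap B Bf (σ x))
    (hτf : ∀ x, τf (algebraMap A Af x) = algebraMap B Bf (τ x)) :
    Function.Injective φf ∧ ∀ t, σf t = τf t → t ∈ Set.range φf := by
  have huC : IsUnit (algebraMap C Cf f) := IsLocalization.Away.algebraMap_isUnit f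
  have huA : IsUnit (algebraMap A Af (φ f)) := IsLocalization.Away.algebraMap_isUnit (φ f)
  have huB : IsUnit (algebraMap B Bf (σ (φ f))) :=
    IsLocalization.Away.algebraMap_isUnit (σ (φ f))
  constructor
  · rw [injective_iff_map_eq_zero]
    intro s hs
    obtain ⟨n, a, hsa⟩ := IsLocalization.Away.surj f s
    have h1 : algebraMap A Af (φ a) = 0 := by
      rw [← hφf, ← hsa, map_mul, hs, zero_mul]
    obtain ⟨⟨_, k, rfl⟩, hk⟩ := (IsLocalization.map_eq_zero_iff (Submonoid.powers (φ f)) Af _).mp h1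
    have h2 : f ^ k * a = 0 := by
      apply hinj
      rw [map_mul, map_pow, map_zero]
      exact hk
    have h3 : algebraMap C Cf a = 0 :=
      (IsLocalization.map_eq_zero_iff (Submonoid.powers f) Cf _).mpr ⟨⟨_, k, rfl⟩, h2⟩
    rw [h3] at hsa
    exact (huC.pow n).mul_left_eq_zero.mp hsa
  · intro t ht
    obtain ⟨n, b, htb⟩ := IsLocalization.Away.surj (φ f) t
    -- `t * (φ f)^n = b`
    have h1 : algebraMap B Bf (σ b - τ b) = 0 := by
      rw [map_sub, ← hσf, ← hτf, ← htb, map_mul, map_mul, ht, map_pow, map_pow, hσf, hτf, hστ,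
        sub_self]
    obtain ⟨⟨_, k, rfl⟩, hk⟩ :=
      (IsLocalization.map_eq_zero_iff (Submonoid.powers (σ (φ f))) Bf _).mp h1
    have h4 : σ (φ f ^ k * b) = τ (φ f ^ k * b) := by
      rw [map_mul, map_mul, map_pow, map_pow, ← hστ, ← sub_eq_zero, ← mul_sub]
      exact hk
    obtain ⟨c, hc⟩ := hrange _ h4
    obtain ⟨u, hu⟩ := huC
    refine ⟨algebraMap C Cf c * ((u⁻¹ : Cfˣ) : Cf) ^ (n + k), ?_⟩
    have h6 : algebraMap A Af (φ f) = φf (u : Cf) := by rw [hu, hφf]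
    have h7 : φf (algebraMap C Cf c * ((u⁻¹ : Cfˣ) : Cf) ^ (n + k)) *
        algebraMap A Af (φ f) ^ (n + k) = algebraMap A Af (φ c) := by
      rw [h6, ← map_pow, ← map_mul, mul_assoc, ← mul_pow, Units.inv_mul, one_pow, mul_one, hφf]
    have h5 : φf (algebraMap C Cf c * ((u⁻¹ : Cfˣ) : Cf) ^ (n + k)) *
        algebraMap A Af (φ f) ^ (n + k) = t * algebraMap A Af (φ f) ^ (n + k) := by
      rw [h7, hc, map_mul, map_pow, pow_add, ← mul_assoc, htb, mul_comm]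
    exact (huA.pow (n + k)).mul_left_injective h5

section QAt

variable {R U Y : Scheme.{u}} (a b : R ⟶ U) (p : U ⟶ Y)

/-- the sheaf-quotient conditions over `V`, with sections over `T ⊆ U` and `T' ⊆ R`. -/
def QAt (V : Y.Opens) (T : U.Opens) (T' : R.Opens) : Prop :=
  ∃ (e : T ≤ p ⁻¹ᵁ V) (ea : T' ≤ a ⁻¹ᵁ T) (eb : T' ≤ b ⁻¹ᵁ T),
    Function.Injective (p.appLE V T e).hom ∧
    ∀ x : Γ(U, T), (a.appLE T T' ea).hom x = (b.appLE T T' eb).hom x →
      x ∈ Set.range (p.appLE V T e).hom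

variable {a b p}

theorem eb_of_w (w : a ≫ p = b ≫ p) (V : Y.Opens) : a ⁻¹ᵁ p ⁻¹ᵁ V ≤ b ⁻¹ᵁ p ⁻¹ᵁ V := by
  rw [← Scheme.Hom.comp_preimage, ← Scheme.Hom.comp_preimage, w]

theorem appLE_inv (w : a ≫ p = b ≫ p) (V : Y.Opens) (T : U.Opens) (T' : R.Opens)
    (e : T ≤ p ⁻¹ᵁ V) (ea : T' ≤ a ⁻¹ᵁ T) (eb : T' ≤ b ⁻¹ᵁ T) (y : Γ(Y, V)) :
    (a.appLE T T' ea).hom ((p.appLE V T e).hom y) = (b.appLE T T' eb).hom ((p.appLE V T e).hom y) := by
  have h1 : p.appLE V T e ≫ a.appLE T T' ea = p.appLE V T e ≫ b.appLE T T' eb := by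
    rw [Scheme.Hom.appLE_comp_appLE, Scheme.Hom.appLE_comp_appLE]
    exact Groth.Agent.Lib.Helper20.appLE_congr_hom w _ _ _
  exact congrArg (fun f => f.hom y) h1

/-- The quotient conditions on a basis of opens of the base imply them on all opens. -/
theorem qAt_of_isBasis (w : a ≫ p = b ≫ p) (B : Set Y.Opens) (hB : Opens.IsBasis B)
    (hbasic : ∀ W ∈ B, QAt a b p W (p ⁻¹ᵁ W) (a ⁻¹ᵁ p ⁻¹ᵁ W)) (V : Y.Opens) :
    QAt a b p V (p ⁻¹ᵁ V) (a ⁻¹ᵁ p ⁻¹ᵁ V) := by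
  have eb : ∀ W : Y.Opens, a ⁻¹ᵁ p ⁻¹ᵁ W ≤ b ⁻¹ᵁ p ⁻¹ᵁ W := eb_of_w w
  -- restriction compatibilities
  have hres : ∀ (W W' : Y.Opens) (hWW' : W' ≤ W) (y : Γ(Y, W)),
      (p.app W').hom ((Y.presheaf.map (homOfLE hWW').op).hom y) =
        (U.presheaf.map (homOfLE (p.preimage_mono hWW')).op).hom ((p.app W).hom y) := by
    intro W W' hWW' y
    exact congrArg (fun f => f.hom y) (p.naturality (homOfLE hWW').op)
  have hresa : ∀ (W W' : Y.Opens) (hWW' : W' ≤ W) (t : Γ(U, p ⁻¹ᵁ W)),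
      (a.appLE _ _ (le_refl (a ⁻¹ᵁ p ⁻¹ᵁ W'))).hom
          ((U.presheaf.map (homOfLE (p.preimage_mono hWW')).op).hom t) =
        (R.presheaf.map (homOfLE (a.preimage_mono (p.preimage_mono hWW'))).op).hom
          ((a.appLE _ _ (le_refl (a ⁻¹ᵁ p ⁻¹ᵁ W))).hom t) := by
    intro W W' hWW' t
    have h1 : U.presheaf.map (homOfLE (p.preimage_mono hWW')).op ≫
        a.appLE _ _ (le_refl (a ⁻¹ᵁ p ⁻¹ᵁ W')) =
        a.appLE _ _ (le_refl (a ⁻¹ᵁ p ⁻¹ᵁ W)) ≫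
          R.presheaf.map (homOfLE (a.preimage_mono (p.preimage_mono hWW'))).op := by
      rw [Scheme.Hom.map_appLE, Scheme.Hom.appLE_map]
    exact congrArg (fun f => f.hom t) h1
  have hresb : ∀ (W W' : Y.Opens) (hWW' : W' ≤ W) (t : Γ(U, p ⁻¹ᵁ W)),
      (b.appLE _ _ (eb W')).hom
          ((U.presheaf.map (homOfLE (p.preimage_mono hWW')).op).hom t) =
        (R.presheaf.map (homOfLE (a.preimage_mono (p.preimage_mono hWW'))).op).hom
          ((b.appLE _ _ (eb W)).hom t) := by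
    intro W W' hWW' t
    have h1 : U.presheaf.map (homOfLE (p.preimage_mono hWW')).op ≫
        b.appLE _ _ (eb W') =
        b.appLE _ _ (eb W) ≫
          R.presheaf.map (homOfLE (a.preimage_mono (p.preimage_mono hWW'))).op := by
      rw [Scheme.Hom.map_appLE, Scheme.Hom.appLE_map]
    exact congrArg (fun f => f.hom t) h1
  have happ : ∀ (W : Y.Opens) (hW : QAt a b p W (p ⁻¹ᵁ W) (a ⁻¹ᵁ p ⁻¹ᵁ W)),
      Function.Injective (p.app W).hom ∧ ∀ x : Γ(U, p ⁻¹ᵁ W),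
        (a.appLE _ _ (le_refl (a ⁻¹ᵁ p ⁻¹ᵁ W))).hom x = (b.appLE _ _ (eb W)).hom x →
          x ∈ Set.range (p.app W).hom := by
    rintro W ⟨e, ea', eb', hinj, hrange⟩
    rw [Scheme.Hom.app_eq_appLE]
    exact ⟨hinj, hrange⟩
  -- the cover of an open by members of the basis
  have hcoverB : ∀ V : Y.Opens, V ≤ iSup (fun j : {W : Y.Opens // W ∈ B ∧ W ≤ V} => j.1) := by
    intro V y hy
    obtain ⟨W, hWB, hyW, hWV⟩ := Opens.isBasis_iff_nbhd.mp hB hy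
    exact Opens.mem_iSup.mpr ⟨⟨W, hWB, hWV⟩, hyW⟩
  -- injectivity on all opens
  have hinjAll : ∀ V : Y.Opens, Function.Injective (p.app V).hom := by
    intro V
    rw [injective_iff_map_eq_zero]
    intro s hs
    fapply Y.sheaf.eq_of_locally_eq' (fun j : {W : Y.Opens // W ∈ B ∧ W ≤ V} => j.1) V
      (fun j => homOfLE j.2.2) (hcoverB V)
    intro j
    change (Y.presheaf.map (homOfLE j.2.2).op).hom s = (Y.presheaf.map (homOfLE j.2.2).op).hom 0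
    rw [map_zero]
    apply (happ _ (hbasic j.1 j.2.1)).1
    rw [map_zero, hres V j.1 j.2.2 s, hs, map_zero]
  let J := {W : Y.Opens // W ∈ B ∧ W ≤ V}
  let Vj : J → Y.Opens := fun j => j.1
  have hcover : V ≤ iSup Vj := hcoverB V
  have hcover' : p ⁻¹ᵁ V ≤ iSup (fun j : J => p ⁻¹ᵁ Vj j) := by
    intro x hx
    obtain ⟨j, hj⟩ := Opens.mem_iSup.mp (hcover (show p.base x ∈ V from hx))
    exact Opens.mem_iSup.mpr ⟨j, hj⟩
  refine ⟨le_rfl, le_rfl, eb V, ?_, ?_⟩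
  · rw [Scheme.Hom.appLE_eq_app]
    exact hinjAll V
  · intro t ht
    rw [Scheme.Hom.appLE_eq_app]
    have h1 : ∀ j : J, ∃ s : Γ(Y, Vj j), (p.app (Vj j)).hom s =
        (U.presheaf.map (homOfLE (p.preimage_mono j.2.2)).op).hom t := by
      intro j
      apply (happ _ (hbasic j.1 j.2.1)).2
      rw [hresa V (Vj j) j.2.2 t, hresb V (Vj j) j.2.2 t, ht]
    choose sf hsf using h1
    have hcompat : TopCat.Presheaf.IsCompatible Y.presheaf Vj sf := by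
      intro j k
      apply hinjAll (Vj j ⊓ Vj k)
      change (p.app (Vj j ⊓ Vj k)).hom ((Y.presheaf.map (homOfLE inf_le_left).op).hom (sf j)) =
        (p.app (Vj j ⊓ Vj k)).hom ((Y.presheaf.map (homOfLE inf_le_right).op).hom (sf k))
      rw [hres (Vj j) (Vj j ⊓ Vj k) inf_le_left, hres (Vj k) (Vj j ⊓ Vj k) inf_le_right, hsf, hsf]
      change (U.presheaf.map _ ≫ U.presheaf.map _).hom t = (U.presheaf.map _ ≫ U.presheaf.map _).hom t
      rw [← U.presheaf.map_comp, ← U.presheaf.map_comp]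
      rfl
    obtain ⟨s, hs, -⟩ := Y.sheaf.existsUnique_gluing' Vj V (fun j => homOfLE j.2.2) hcover sf hcompat
    refine ⟨s, ?_⟩
    fapply U.sheaf.eq_of_locally_eq' (fun j : J => p ⁻¹ᵁ Vj j) (p ⁻¹ᵁ V)
      (fun j => homOfLE (p.preimage_mono j.2.2)) hcover'
    intro j
    change (U.presheaf.map (homOfLE (p.preimage_mono j.2.2)).op).hom ((p.app V).hom s) =
      (U.presheaf.map (homOfLE (p.preimage_mono j.2.2)).op).hom t
    rw [← hres V (Vj j) j.2.2 s, ← hsf j]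
    congr 1
    exact hs j

theorem qAt_basicOpen [IsAffine R] [IsAffine U] [IsAffine Y] (w : a ≫ p = b ≫ p)
    (htop : QAt a b p ⊤ ⊤ ⊤) (f : Γ(Y, ⊤)) :
    QAt a b p (Y.basicOpen f) (p ⁻¹ᵁ Y.basicOpen f) (a ⁻¹ᵁ p ⁻¹ᵁ Y.basicOpen f) := by
  obtain ⟨e, ea, eb, hinj, hrange⟩ := htop
  have hT : U.basicOpen ((p.appLE ⊤ ⊤ e).hom f) = p ⁻¹ᵁ Y.basicOpen f := by
    rw [Scheme.basicOpen_appLE, top_inf_eq]
  have hT' : R.basicOpen ((a.appLE ⊤ ⊤ ea).hom ((p.appLE ⊤ ⊤ e).hom f)) =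
      a ⁻¹ᵁ p ⁻¹ᵁ Y.basicOpen f := by
    rw [Scheme.basicOpen_appLE, top_inf_eq, hT]
  rw [← hT', ← hT]
  have e' : U.basicOpen ((p.appLE ⊤ ⊤ e).hom f) ≤ p ⁻¹ᵁ Y.basicOpen f := hT.le
  have ea' : R.basicOpen ((a.appLE ⊤ ⊤ ea).hom ((p.appLE ⊤ ⊤ e).hom f)) ≤
      a ⁻¹ᵁ U.basicOpen ((p.appLE ⊤ ⊤ e).hom f) := by
    rw [Scheme.basicOpen_appLE, top_inf_eq]
  have eb' : R.basicOpen ((a.appLE ⊤ ⊤ ea).hom ((p.appLE ⊤ ⊤ e).hom f)) ≤
      b ⁻¹ᵁ U.basicOpen ((p.appLE ⊤ ⊤ e).hom f) := by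
    rw [appLE_inv w ⊤ ⊤ ⊤ e ea eb f, Scheme.basicOpen_appLE, top_inf_eq]
  refine ⟨e', ea', eb', ?_⟩
  have key := away_eq (Cf := Γ(Y, Y.basicOpen f))
    (Af := Γ(U, U.basicOpen ((p.appLE ⊤ ⊤ e).hom f)))
    (Bf := Γ(R, R.basicOpen ((a.appLE ⊤ ⊤ ea).hom ((p.appLE ⊤ ⊤ e).hom f))))
    f (p.appLE ⊤ ⊤ e).hom (a.appLE ⊤ ⊤ ea).hom (b.appLE ⊤ ⊤ eb).hom
    (fun c => appLE_inv w ⊤ ⊤ ⊤ e ea eb c) hinj hrange
    (p.appLE (Y.basicOpen f) (U.basicOpen ((p.appLE ⊤ ⊤ e).hom f)) e').hom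
    (fun c => by
      change (Y.presheaf.map _ ≫ p.appLE _ _ e').hom c = (p.appLE ⊤ ⊤ e ≫ U.presheaf.map _).hom c
      rw [Scheme.Hom.map_appLE, Scheme.Hom.appLE_map])
    (a.appLE _ _ ea').hom (b.appLE _ _ eb').hom
    (fun x => by
      change (U.presheaf.map _ ≫ a.appLE _ _ ea').hom x = (a.appLE ⊤ ⊤ ea ≫ R.presheaf.map _).hom x
      rw [Scheme.Hom.map_appLE, Scheme.Hom.appLE_map])
    (fun x => by
      change (U.presheaf.map _ ≫ b.appLE _ _ eb').hom x = (b.appLE ⊤ ⊤ eb ≫ R.presheaf.map _).hom x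
      rw [Scheme.Hom.map_appLE, Scheme.Hom.appLE_map])
  exact key

/-- the affine case: the conditions on global sections give them on all opens. -/
theorem qAt_of_isAffine [IsAffine R] [IsAffine U] [IsAffine Y] (w : a ≫ p = b ≫ p)
    (htop : QAt a b p ⊤ ⊤ ⊤) (V : Y.Opens) :
    QAt a b p V (p ⁻¹ᵁ V) (a ⁻¹ᵁ p ⁻¹ᵁ V) := by
  refine qAt_of_isBasis w (Set.range Y.basicOpen) (isBasis_basicOpen Y) ?_ V
  rintro _ ⟨f, rfl⟩
  exact qAt_basicOpen w htop f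

end QAt

end Groth.Agent.Lib.Helper11.GQ
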