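import Mathlib
import Groth.Agent.Lib.Helper20QuotCoset
import Groth.Agent.Lib.Helper11GQ1

/-!
# Quotients by a parallel pair: base change along open immersions (helper11)
-/

set_option autoImplicit false
set_option linter.unusedSectionVars false
universe u

open CategoryTheory CategoryTheory.Limits AlgebraicGeometry TopologicalSpace

namespace Groth.Agent.Lib.Helper11.GQ

open Groth.Agent.Lib.Helper20 Groth.Agent.Lib.Helper20.QuotCoset

/-- transport of the quotient conditions along a commutative diagram of ring maps with bijective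
vertical maps. -/
theorem q_transport {C A B C' A' B' : Type*} [CommRing C] [CommRing A] [CommRing B] [CommRing C']
    [CommRing A'] [CommRing B'] (φ : C →+* A) (σ τ : A →+* B) (φ' : C' →+* A') (σ' τ' : A' →+* B')
    (γ : C →+* C') (α : A →+* A') (β : B →+* B')
    (h1 : ∀ c, α (φ c) = φ' (γ c)) (h2 : ∀ x, β (σ x) = σ' (α x)) (h3 : ∀ x, β (τ x) = τ' (α x))
    (hγ : Function.Bijective γ) (hα : Function.Bijective α) (hβ : Function.Injective β) :
    (Function.Injective φ ∧ ∀ x, σ x = τ x → x ∈ Set.range φ) ↔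
      (Function.Injective φ' ∧ ∀ x, σ' x = τ' x → x ∈ Set.range φ') := by
  constructor
  · rintro ⟨hi, hr⟩
    refine ⟨fun c₁ c₂ h => ?_, fun x' hx' => ?_⟩
    · obtain ⟨c₁, rfl⟩ := hγ.2 c₁
      obtain ⟨c₂, rfl⟩ := hγ.2 c₂
      rw [← h1, ← h1] at h
      rw [hi (hα.1 h)]
    · obtain ⟨x, rfl⟩ := hα.2 x'
      rw [← h2, ← h3] at hx'
      obtain ⟨c, rfl⟩ := hr x (hβ hx')
      exact ⟨γ c, (h1 c).symm⟩
  · rintro ⟨hi, hr⟩
    refine ⟨fun c₁ c₂ h => ?_, fun x hx => ?_⟩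
    · apply hγ.1
      apply hi
      rw [← h1, ← h1, h]
    · obtain ⟨c', hc'⟩ := hr (α x) (by rw [← h2, ← h3, hx])
      obtain ⟨c, rfl⟩ := hγ.2 c'
      exact ⟨c, hα.1 (by rw [h1, hc'])⟩

section sq

variable {R U Y R' U' Y' : Scheme.{u}} {a b : R ⟶ U} {p : U ⟶ Y} {a' b' : R' ⟶ U'} {p' : U' ⟶ Y'}
  {jR : R' ⟶ R} {j : U' ⟶ U} {k : Y' ⟶ Y}

theorem w'_of_w (H : IsPullback p' j k p) [Mono k] (ha : a' ≫ j = jR ≫ a) (hb : b' ≫ j = jR ≫ b)
    (w : a ≫ p = b ≫ p) : a' ≫ p' = b' ≫ p' := by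
  rw [← cancel_mono k, Category.assoc, Category.assoc, H.w, ← Category.assoc, ← Category.assoc,
    ha, hb, Category.assoc, Category.assoc, w]

theorem isPullback_a [IsOpenImmersion j] [IsOpenImmersion jR] (ha : a' ≫ j = jR ≫ a)
    (hR : jR.opensRange = a ⁻¹ᵁ j.opensRange) : IsPullback a' jR j a :=
  IsOpenImmersion.isPullback _ _ _ _ ha.symm hR.symm

theorem qAt_iff_of_isPullback (H : IsPullback p' j k p) [IsOpenImmersion j] [IsOpenImmersion k]
    [IsOpenImmersion jR] (ha : a' ≫ j = jR ≫ a) (hb : b' ≫ j = jR ≫ b)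
    (hR : jR.opensRange = a ⁻¹ᵁ j.opensRange) (w : a ≫ p = b ≫ p) (V' : Y'.Opens) :
    QAt a b p (k ''ᵁ V') (p ⁻¹ᵁ (k ''ᵁ V')) (a ⁻¹ᵁ p ⁻¹ᵁ (k ''ᵁ V')) ↔
      QAt a' b' p' V' (p' ⁻¹ᵁ V') (a' ⁻¹ᵁ p' ⁻¹ᵁ V') := by
  have w' : a' ≫ p' = b' ≫ p' := w'_of_w H ha hb w
  set V : Y.Opens := k ''ᵁ V' with hV
  set T : U.Opens := p ⁻¹ᵁ V with hT
  set T' : U'.Opens := p' ⁻¹ᵁ V' with hT'
  set Q : R.Opens := a ⁻¹ᵁ T with hQ
  set Q' : R'.Opens := a' ⁻¹ᵁ T' with hQ'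
  have hjT : j ''ᵁ T' = T := IsOpenImmersion.image_preimage_eq_preimage_image_of_isPullback H V'
  have hjQ : jR ''ᵁ Q' = Q := by
    rw [hQ, ← hjT]
    exact IsOpenImmersion.image_preimage_eq_preimage_image_of_isPullback (isPullback_a ha hR) T'
  have eV : V' ≤ k ⁻¹ᵁ V := fun y hy => ⟨y, hy, rfl⟩
  have eT : T' ≤ j ⁻¹ᵁ T := fun x hx => by
    change j x ∈ T
    rw [← hjT]
    exact ⟨x, hx, rfl⟩
  have eQ : Q' ≤ jR ⁻¹ᵁ Q := fun x hx => by
    change jR x ∈ Q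
    rw [← hjQ]
    exact ⟨x, hx, rfl⟩
  have hγ : Function.Bijective (k.appLE V V' eV).hom :=
    bijective_appLE_of_isOpenImmersion k V V' rfl eV
  have hα : Function.Bijective (j.appLE T T' eT).hom :=
    bijective_appLE_of_isOpenImmersion j T T' hjT eT
  have hβ : Function.Bijective (jR.appLE Q Q' eQ).hom :=
    bijective_appLE_of_isOpenImmersion jR Q Q' hjQ eQ
  have eb : Q ≤ b ⁻¹ᵁ T := eb_of_w w V
  have eb' : Q' ≤ b' ⁻¹ᵁ T' := eb_of_w w' V'
  have hsq : p.appLE V T le_rfl ≫ j.appLE T T' eT = k.appLE V V' eV ≫ p'.appLE V' T' le_rfl := by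
    rw [Scheme.Hom.appLE_comp_appLE, Scheme.Hom.appLE_comp_appLE]
    exact appLE_congr_hom H.w.symm _ _ _
  have hsa : a.appLE T Q le_rfl ≫ jR.appLE Q Q' eQ = j.appLE T T' eT ≫ a'.appLE T' Q' le_rfl := by
    rw [Scheme.Hom.appLE_comp_appLE, Scheme.Hom.appLE_comp_appLE]
    exact appLE_congr_hom ha.symm _ _ _
  have hsb : b.appLE T Q eb ≫ jR.appLE Q Q' eQ = j.appLE T T' eT ≫ b'.appLE T' Q' eb' := by
    rw [Scheme.Hom.appLE_comp_appLE, Scheme.Hom.appLE_comp_appLE]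
    exact appLE_congr_hom hb.symm _ _ _
  have key := q_transport (p.appLE V T le_rfl).hom (a.appLE T Q le_rfl).hom (b.appLE T Q eb).hom
    (p'.appLE V' T' le_rfl).hom (a'.appLE T' Q' le_rfl).hom (b'.appLE T' Q' eb').hom
    (k.appLE V V' eV).hom (j.appLE T T' eT).hom (jR.appLE Q Q' eQ).hom
    (fun c => by
      have := hom_apply_eq hsq c
      simpa only [CommRingCat.hom_comp, RingHom.comp_apply] using this)
    (fun x => by
      have := hom_apply_eq hsa x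
      simpa only [CommRingCat.hom_comp, RingHom.comp_apply] using this)
    (fun x => by
      have := hom_apply_eq hsb x
      simpa only [CommRingCat.hom_comp, RingHom.comp_apply] using this)
    hγ hα hβ.1
  constructor
  · rintro ⟨e, ea₀, eb₀, h1, h2⟩
    exact ⟨le_rfl, le_rfl, eb', key.mp ⟨h1, h2⟩⟩
  · rintro ⟨e, ea₀, eb₀, h1, h2⟩
    exact ⟨le_rfl, le_rfl, eb, key.mpr ⟨h1, h2⟩⟩

end sq

end Groth.Agent.Lib.Helper11.GQ
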