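import Mathlib
import Groth.Agent.Lib.Helper10GeomQuot
import Groth.Agent.Lib.Helper11GQ2

/-!
# Quotients by a parallel pair: the structure `IsGQ` and the categorical quotient (helper11)
-/

set_option autoImplicit false
set_option linter.unusedSectionVars false
universe u

open CategoryTheory CategoryTheory.Limits AlgebraicGeometry TopologicalSpace

namespace Groth.Agent.Lib.Helper11.GQ

open Groth.Agent.Lib.Helper20 Groth.Agent.Lib.Helper20.QuotCoset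

/-- `p : U ⟶ Y` is a (geometric) quotient of `U` by the pair `a b : R ⟶ U`: `p` is surjective and
open, its fibres are the `R`-orbits, and `𝒪_Y` is the equalizer of `p_* 𝒪_U ⇉ (a ≫ p)_* 𝒪_R`. -/
structure IsGQ {R U Y : Scheme.{u}} (a b : R ⟶ U) (p : U ⟶ Y) : Prop where
  w : a ≫ p = b ≫ p
  surj : Function.Surjective p.base
  isOpenMap : IsOpenMap p.base
  fibre : ∀ x y : U, p.base x = p.base y → ∃ r : R, a.base r = x ∧ b.base r = y
  qAt : ∀ V : Y.Opens, QAt a b p V (p ⁻¹ᵁ V) (a ⁻¹ᵁ p ⁻¹ᵁ V)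

namespace IsGQ

variable {R U Y Z : Scheme.{u}} {a b : R ⟶ U} {p : U ⟶ Y} (hp : IsGQ a b p)

include hp in
theorem injective (V : Y.Opens) : Function.Injective (p.app V).hom := by
  obtain ⟨e, ea, eb, hinj, -⟩ := hp.qAt V
  rw [Scheme.Hom.appLE_eq_app] at hinj
  exact hinj

include hp in
theorem range (V : Y.Opens) (x : Γ(U, p ⁻¹ᵁ V))
    (hx : (a.appLE (p ⁻¹ᵁ V) (a ⁻¹ᵁ p ⁻¹ᵁ V) le_rfl).hom x =
      (b.appLE (p ⁻¹ᵁ V) (a ⁻¹ᵁ p ⁻¹ᵁ V) (eb_of_w hp.w V)).hom x) :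
    x ∈ Set.range (p.app V).hom := by
  obtain ⟨e, ea, eb, -, hr⟩ := hp.qAt V
  have := hr x hx
  rwa [Scheme.Hom.appLE_eq_app] at this

include hp in
theorem map_eq (r : R) : p.base (a.base r) = p.base (b.base r) := by
  have := congrArg (fun f : R ⟶ Y => f.base r) hp.w
  simpa using this

include hp in
theorem epi : Epi p :=
  Groth.Agent.Lib.Helper10.GeomQuot.epi_of_surjective_of_app_injective p hp.surj
    (fun V => hp.injective V)

variable (ψ : U ⟶ Z) (hψ : a ≫ ψ = b ≫ ψ)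

include hp hψ in
theorem saturated (W : Z.Opens) :
    p.base ⁻¹' (p.base '' (ψ ⁻¹ᵁ W : Set U)) = (ψ ⁻¹ᵁ W : Set U) := by
  apply Set.Subset.antisymm
  · rintro x ⟨x', hx', hxx'⟩
    obtain ⟨r, rfl, rfl⟩ := hp.fibre x' x hxx'
    change ψ.base (b.base r) ∈ W
    have := congrArg (fun f : R ⟶ Z => f.base r) hψ
    simp only [Scheme.Hom.comp_base, TopCat.hom_comp, ContinuousMap.comp_apply] at this
    rw [← this]
    exact hx'
  · exact Set.subset_preimage_image _ _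

/-- the open `p(ψ⁻¹W)` of `Y`. -/
def imageOpen (W : Z.Opens) : Y.Opens :=
  ⟨p.base '' (ψ ⁻¹ᵁ W : Set U), hp.isOpenMap _ (ψ ⁻¹ᵁ W).isOpen⟩

include hψ in
theorem preimage_imageOpen (W : Z.Opens) : p ⁻¹ᵁ (imageOpen hp ψ W) = ψ ⁻¹ᵁ W :=
  Opens.ext (saturated hp ψ hψ W)

include hp hψ in
theorem exists_desc : ∃ χ : Y ⟶ Z, p ≫ χ = ψ := by
  refine Groth.Agent.Lib.Helper10.GeomQuot.exists_desc_of_cover p ψ hp.surj
    (fun V => hp.injective V) (fun W : Z.affineOpens => imageOpen hp ψ W.1) ?_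
    (fun W => W.1) (fun W => W.2) (fun W => (preimage_imageOpen hp ψ hψ W.1).le) ?_
  · rw [TopologicalSpace.IsOpenCover, eq_top_iff]
    intro y _
    obtain ⟨x, rfl⟩ := hp.surj y
    obtain ⟨W, hW, hxW⟩ := exists_affine_nhd Z (ψ.base x)
    exact Opens.mem_iSup.mpr ⟨⟨W, hW⟩, x, hxW, rfl⟩
  · intro W h
    set N := imageOpen hp ψ W.1 with hN
    have hle : p ⁻¹ᵁ N ≤ ψ ⁻¹ᵁ W.1 := (preimage_imageOpen hp ψ hψ W.1).le
    apply hp.range N
    have h1 : ψ.appLE W.1 (p ⁻¹ᵁ N) hle ≫ a.appLE (p ⁻¹ᵁ N) (a ⁻¹ᵁ p ⁻¹ᵁ N) le_rfl =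
        ψ.appLE W.1 (p ⁻¹ᵁ N) hle ≫ b.appLE (p ⁻¹ᵁ N) (a ⁻¹ᵁ p ⁻¹ᵁ N) (eb_of_w hp.w N) := by
      rw [Scheme.Hom.appLE_comp_appLE, Scheme.Hom.appLE_comp_appLE]
      exact appLE_congr_hom hψ _ _ _
    exact congrArg (fun f => f.hom h) h1

/-- a geometric quotient is a coequalizer in the category of schemes. -/
noncomputable def isColimit : IsColimit (Cofork.ofπ p hp.w) :=
  Cofork.IsColimit.mk' _ (fun s => by
    have h := exists_desc hp s.π s.condition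
    haveI := hp.epi
    exact ⟨h.choose, h.choose_spec, fun {m} hm => by
      rw [← cancel_epi p]
      exact hm.trans h.choose_spec.symm⟩)

end IsGQ

/-- two geometric quotients of the same pair are uniquely isomorphic. -/
theorem exists_iso_of_isGQ {R U Y Y' : Scheme.{u}} {a b : R ⟶ U} {p : U ⟶ Y} {p' : U ⟶ Y'}
    (hp : IsGQ a b p) (hp' : IsGQ a b p') : ∃ e : Y ≅ Y', p ≫ e.hom = p' := by
  haveI := hp.epi
  haveI := hp'.epi
  obtain ⟨f, hf⟩ := hp.exists_desc p' hp'.w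
  obtain ⟨g, hg⟩ := hp'.exists_desc p hp.w
  refine ⟨⟨f, g, ?_, ?_⟩, hf⟩
  · rw [← cancel_epi p, ← Category.assoc, hf, hg, Category.comp_id]
  · rw [← cancel_epi p', ← Category.assoc, hg, hf, Category.comp_id]

end Groth.Agent.Lib.Helper11.GQ
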