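import Mathlib
import Groth.Agent.Lib.Helper11GQ3

/-!
# Quotients by a parallel pair: locality on the base and open immersions (helper11)
-/

set_option autoImplicit false
set_option linter.unusedSectionVars false
universe u

open CategoryTheory CategoryTheory.Limits AlgebraicGeometry TopologicalSpace

namespace Groth.Agent.Lib.Helper11.GQ

open Groth.Agent.Lib.Helper20 Groth.Agent.Lib.Helper20.QuotCoset

section sq

variable {R U Y R' U' Y' : Scheme.{u}} {a b : R ⟶ U} {p : U ⟶ Y} {a' b' : R' ⟶ U'} {p' : U' ⟶ Y'}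
  {jR : R' ⟶ R} {j : U' ⟶ U} {k : Y' ⟶ Y}

theorem range_j_eq (H : IsPullback p' j k p) [IsOpenImmersion k] [IsOpenImmersion j] :
    j.opensRange = p ⁻¹ᵁ k.opensRange := by
  have := IsOpenImmersion.image_preimage_eq_preimage_image_of_isPullback H ⊤
  rw [Scheme.Hom.image_top_eq_opensRange] at this
  rw [← this]
  simp

theorem apply_comm {X₁ X₂ X₃ X₄ : Scheme.{u}} {f : X₁ ⟶ X₂} {g : X₂ ⟶ X₄} {f' : X₁ ⟶ X₃}
    {g' : X₃ ⟶ X₄} (h : f ≫ g = f' ≫ g') (x : X₁) : g.base (f.base x) = g'.base (f'.base x) := by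
  have := congrArg (fun φ : X₁ ⟶ X₄ => φ.base x) h
  simpa using this

/-- base change of a quotient along an open immersion. -/
theorem IsGQ.of_isPullback (hp : IsGQ a b p) (H : IsPullback p' j k p) [IsOpenImmersion k]
    [IsOpenImmersion j] [IsOpenImmersion jR] (ha : a' ≫ j = jR ≫ a) (hb : b' ≫ j = jR ≫ b)
    (hR : jR.opensRange = a ⁻¹ᵁ j.opensRange) : IsGQ a' b' p' := by
  have w' : a' ≫ p' = b' ≫ p' := w'_of_w H ha hb hp.w
  have hrj := range_j_eq H
  have hjmem : ∀ x : U, p.base x ∈ Set.range k.base → x ∈ Set.range j.base := by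
    intro x hx
    have : x ∈ p ⁻¹ᵁ k.opensRange := hx
    rw [← hrj] at this
    exact this
  have hkinj : Function.Injective k.base := k.isOpenEmbedding.injective
  have hjinj : Function.Injective j.base := j.isOpenEmbedding.injective
  refine ⟨w', ?_, ?_, ?_, ?_⟩
  · intro y'
    obtain ⟨x, hx⟩ := hp.surj (k.base y')
    obtain ⟨x', rfl⟩ := hjmem x ⟨y', hx.symm⟩
    refine ⟨x', hkinj ?_⟩
    rw [apply_comm H.w x', hx]
  · intro O hO
    have h1 : p'.base '' O = k.base ⁻¹' (p.base '' (j.base '' O)) := by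
      ext y'
      constructor
      · rintro ⟨x', hx', rfl⟩
        exact ⟨j.base x', ⟨x', hx', rfl⟩, (apply_comm H.w x').symm⟩
      · rintro ⟨_, ⟨x', hx', rfl⟩, h⟩
        refine ⟨x', hx', hkinj ?_⟩
        rw [apply_comm H.w x', h]
    rw [h1]
    exact (hp.isOpenMap _ (j.isOpenEmbedding.isOpenMap _ hO)).preimage k.base.hom.continuous
  · intro x' y' h
    have h2 : p.base (j.base x') = p.base (j.base y') := by
      rw [← apply_comm H.w x', ← apply_comm H.w y', h]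
    obtain ⟨r, hr1, hr2⟩ := hp.fibre _ _ h2
    have hr : r ∈ jR.opensRange := by
      rw [hR]
      change a.base r ∈ Set.range j.base
      rw [hr1]
      exact ⟨x', rfl⟩
    obtain ⟨r', rfl⟩ := hr
    refine ⟨r', hjinj ?_, hjinj ?_⟩
    · rw [apply_comm ha r', hr1]
    · rw [apply_comm hb r', hr2]
  · intro V'
    exact (qAt_iff_of_isPullback H ha hb hR hp.w V').mp (hp.qAt _)

/-- being a quotient is local on the target. -/
theorem isGQ_of_cover (w : a ≫ p = b ≫ p) {I : Type*} (Ri Ui Yi : I → Scheme.{u})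
    (ki : ∀ i, Yi i ⟶ Y) [∀ i, IsOpenImmersion (ki i)]
    (ji : ∀ i, Ui i ⟶ U) [∀ i, IsOpenImmersion (ji i)]
    (jRi : ∀ i, Ri i ⟶ R) [∀ i, IsOpenImmersion (jRi i)]
    (pi : ∀ i, Ui i ⟶ Yi i) (ai bi : ∀ i, Ri i ⟶ Ui i)
    (H : ∀ i, IsPullback (pi i) (ji i) (ki i) p)
    (ha : ∀ i, ai i ≫ ji i = jRi i ≫ a) (hb : ∀ i, bi i ≫ ji i = jRi i ≫ b)
    (hR : ∀ i, (jRi i).opensRange = a ⁻¹ᵁ (ji i).opensRange)
    (hq : ∀ i, IsGQ (ai i) (bi i) (pi i)) (hcov : ∀ y : Y, ∃ i, y ∈ (ki i).opensRange) :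
    IsGQ a b p := by
  have hjmem : ∀ i (x : U), p.base x ∈ Set.range (ki i).base → x ∈ Set.range (ji i).base := by
    intro i x hx
    have : x ∈ p ⁻¹ᵁ (ki i).opensRange := hx
    rw [← range_j_eq (H i)] at this
    exact this
  have hkinj : ∀ i, Function.Injective (ki i).base := fun i => (ki i).isOpenEmbedding.injective
  refine ⟨w, ?_, ?_, ?_, ?_⟩
  · intro y
    obtain ⟨i, y', rfl⟩ := hcov y
    obtain ⟨x', rfl⟩ := (hq i).surj y'
    exact ⟨(ji i).base x', (apply_comm (H i).w x').symm⟩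
  · intro O hO
    rw [isOpen_iff_forall_mem_open]
    rintro _ ⟨x, hxO, rfl⟩
    obtain ⟨i, hi⟩ := hcov (p.base x)
    obtain ⟨x', rfl⟩ := hjmem i x hi
    refine ⟨(ki i).base '' ((pi i).base '' ((ji i).base ⁻¹' O)), ?_, ?_, ?_⟩
    · rintro _ ⟨_, ⟨z, hz, rfl⟩, rfl⟩
      exact ⟨(ji i).base z, hz, (apply_comm (H i).w z).symm⟩
    · exact (ki i).isOpenEmbedding.isOpenMap _
        ((hq i).isOpenMap _ (hO.preimage (ji i).base.hom.continuous))
    · exact ⟨(pi i).base x', ⟨x', hxO, rfl⟩, apply_comm (H i).w x'⟩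
  · intro x y h
    obtain ⟨i, hi⟩ := hcov (p.base x)
    obtain ⟨x', rfl⟩ := hjmem i x hi
    obtain ⟨y', rfl⟩ := hjmem i y (h ▸ hi)
    have h2 : (pi i).base x' = (pi i).base y' := by
      apply hkinj i
      rw [apply_comm (H i).w x', apply_comm (H i).w y', h]
    obtain ⟨r', rfl, rfl⟩ := (hq i).fibre _ _ h2
    exact ⟨(jRi i).base r', (apply_comm (ha i) r').symm, (apply_comm (hb i) r').symm⟩
  · intro V
    refine qAt_of_isBasis w {W | ∃ i V', W = ki i ''ᵁ V'} ?_ ?_ V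
    · rw [Opens.isBasis_iff_nbhd]
      intro W y hy
      obtain ⟨i, y', rfl⟩ := hcov y
      refine ⟨ki i ''ᵁ (ki i ⁻¹ᵁ W), ⟨i, _, rfl⟩, ⟨y', hy, rfl⟩, ?_⟩
      rintro _ ⟨z, hz, rfl⟩
      exact hz
    · rintro _ ⟨i, V', rfl⟩
      exact (qAt_iff_of_isPullback (H i) (ha i) (hb i) (hR i) w V').mpr ((hq i).qAt _)

end sq

section C

variable {R U Y R₁ U₁ Y₁ : Scheme.{u}} {a b : R ⟶ U} {p : U ⟶ Y} {a₁ b₁ : R₁ ⟶ U₁} {p₁ : U₁ ⟶ Y₁}

/-- the map induced on quotients by an equivariant open immersion is an open immersion. -/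
theorem isOpenImmersion_of_isGQ (hp : IsGQ a b p) (hp₁ : IsGQ a₁ b₁ p₁) (j : U₁ ⟶ U)
    [IsOpenImmersion j] (jR : R₁ ⟶ R) [IsOpenImmersion jR] (ha : a₁ ≫ j = jR ≫ a)
    (hb : b₁ ≫ j = jR ≫ b) (hR : jR.opensRange = a ⁻¹ᵁ j.opensRange) (φ : Y₁ ⟶ Y)
    (sq : p₁ ≫ φ = j ≫ p) : IsOpenImmersion φ := by
  have hsat : p.base ⁻¹' (p.base '' (Set.range j.base)) = Set.range j.base := by
    apply Set.Subset.antisymm
    · rintro x ⟨_, ⟨x₁, rfl⟩, hxx'⟩
      obtain ⟨r, hr1, hr2⟩ := hp.fibre _ _ hxx'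
      have hr : r ∈ jR.opensRange := by
        rw [hR]
        change a.base r ∈ Set.range j.base
        rw [hr1]
        exact ⟨x₁, rfl⟩
      obtain ⟨r₁, rfl⟩ := hr
      exact ⟨b₁.base r₁, (apply_comm hb r₁).trans hr2⟩
    · exact Set.subset_preimage_image _ _
  let N : Y.Opens := ⟨p.base '' (Set.range j.base), hp.isOpenMap _ j.isOpenEmbedding.isOpen_range⟩
  have hN : p ⁻¹ᵁ N = j.opensRange := Opens.ext hsat
  let q : U₁ ⟶ N.toScheme := IsOpenImmersion.lift N.ι (j ≫ p) (by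
    rw [Scheme.Opens.range_ι]
    rintro _ ⟨x₁, rfl⟩
    exact ⟨j.base x₁, ⟨x₁, rfl⟩, rfl⟩)
  have hq : q ≫ N.ι = j ≫ p := IsOpenImmersion.lift_fac _ _ _
  have H : IsPullback q j N.ι p := IsOpenImmersion.isPullback q j N.ι p hq.symm (by
    rw [Scheme.Opens.opensRange_ι, hN])
  have hquot : IsGQ a₁ b₁ q := hp.of_isPullback H ha hb hR
  obtain ⟨e, he⟩ := exists_iso_of_isGQ hp₁ hquot
  haveI := hp₁.epi
  have hφ : φ = e.hom ≫ N.ι := by
    rw [← cancel_epi p₁, sq, ← Category.assoc, he, hq]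
  rw [hφ]
  infer_instance

end C

end Groth.Agent.Lib.Helper11.GQ
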