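import Mathlib
import Groth.Prelude.Def_Grpd
import Groth.Agent.S7461
import Groth.Agent.Lib.Helper11FfgOpen
import Groth.Agent.Lib.Helper11GQ4

/-!
# The quotient of an affine groupoid with finite locally free source map (helper11)
-/

set_option autoImplicit false
set_option linter.style.haveILetI false
set_option linter.unusedSectionVars false
universe u

open CategoryTheory CategoryTheory.Limits AlgebraicGeometry TopologicalSpace

namespace Groth.Agent.Lib.Helper11.Ffg

open Groth.Agent.Lib.Helper11.GQ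

variable {S : Scheme.{u}} (G : Grpd.GroupoidScheme S)

theorem isIso_i : IsIso G.i := ⟨G.i, Groth.Agent.S7461.i_i G, Groth.Agent.S7461.i_i G⟩

theorem flat_t [Flat G.s] : Flat G.t := by
  haveI := isIso_i G
  rw [← G.i_s]
  infer_instance

theorem lfp_t [LocallyOfFinitePresentation G.s] : LocallyOfFinitePresentation G.t := by
  haveI := isIso_i G
  rw [← G.i_s]
  infer_instance

theorem isFinite_t [IsFinite G.s] : IsFinite G.t := by
  haveI := isIso_i G
  rw [← G.i_s]
  infer_instance

theorem isOpenMap_t [Flat G.s] [LocallyOfFinitePresentation G.s] : IsOpenMap G.t.base := by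
  haveI := flat_t G
  haveI := lfp_t G
  exact G.t.isOpenMap

theorem toQuot_appTop :
    G.toQuot.appTop = (Scheme.ΓSpecIso _).hom ≫ CommRingCat.ofHom G.invariants.subtype := by
  unfold Grpd.GroupoidScheme.toQuot
  rw [Scheme.Hom.comp_appTop, Scheme.toSpecΓ_appTop]
  have := Scheme.ΓSpecIso_naturality (CommRingCat.ofHom G.invariants.subtype)
  rw [← this]
  rfl

section affine

variable [IsAffine G.U] [IsAffine G.R] [IsFinite G.s] [Flat G.s] [LocallyOfFinitePresentation G.s]

theorem isIntegralHom_toQuot : IsIntegralHom G.toQuot := by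
  unfold Grpd.GroupoidScheme.toQuot
  haveI : Algebra.IsIntegral G.invariants Γ(G.U, ⊤) := Groth.Agent.S1879.main S G
  haveI : IsIntegralHom (Spec.map (CommRingCat.ofHom G.invariants.subtype)) := by
    rw [IsIntegralHom.SpecMap_iff]
    intro x
    exact Algebra.IsIntegral.isIntegral (R := G.invariants) x
  infer_instance

theorem isOpenMap_toQuot : IsOpenMap G.toQuot.base := by
  haveI := isIntegralHom_toQuot G
  have hcl : IsClosedMap G.toQuot.base := G.toQuot.isClosedMap
  have hq : Topology.IsQuotientMap G.toQuot.base :=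
    hcl.isQuotientMap G.toQuot.base.hom.continuous (toQuot_surjective G)
  intro V hV
  rw [← hq.isOpen_preimage]
  have : G.toQuot.base ⁻¹' (G.toQuot.base '' V) = G.t.base '' (G.s.base ⁻¹' V) := by
    ext x
    constructor
    · rintro ⟨y, hy, hxy⟩
      obtain ⟨r, hr1, hr2⟩ := (toQuot_eq_iff G x y).mp hxy.symm
      exact ⟨r, by rw [Set.mem_preimage]; exact hr2 ▸ hy, hr1⟩
    · rintro ⟨r, hr, rfl⟩
      exact ⟨G.s.base r, hr, ((toQuot_eq_iff G _ _).mpr ⟨r, rfl, rfl⟩).symm⟩
  rw [this]
  exact isOpenMap_t G _ (hV.preimage G.s.base.hom.continuous)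

theorem qAt_top_toQuot : QAt G.t G.s G.toQuot ⊤ ⊤ ⊤ := by
  refine ⟨le_top, le_top, le_top, ?_, ?_⟩
  · rw [Groth.Agent.Lib.Helper20.appLE_top_top, toQuot_appTop, CommRingCat.hom_comp,
      RingHom.coe_comp]
    exact (Subtype.val_injective).comp
      (ConcreteCategory.bijective_of_isIso (Scheme.ΓSpecIso _).hom).injective
  · intro x hx
    rw [Groth.Agent.Lib.Helper20.appLE_top_top, Groth.Agent.Lib.Helper20.appLE_top_top] at hx
    rw [Groth.Agent.Lib.Helper20.appLE_top_top, toQuot_appTop]
    have hx' : x ∈ G.invariants := hx.symm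
    refine ⟨(Scheme.ΓSpecIso _).inv.hom ⟨x, hx'⟩, ?_⟩
    change ((Scheme.ΓSpecIso _).inv ≫ (Scheme.ΓSpecIso _).hom ≫
      CommRingCat.ofHom G.invariants.subtype).hom ⟨x, hx'⟩ = x
    rw [Iso.inv_hom_id_assoc]
    rfl

theorem isGQ_toQuot : IsGQ G.t G.s G.toQuot where
  w := t_toQuot G
  surj := toQuot_surjective G
  isOpenMap := isOpenMap_toQuot G
  fibre x y h := (toQuot_eq_iff G x y).mp h
  qAt V := qAt_of_isAffine (t_toQuot G) (qAt_top_toQuot G) V

end affine

end Groth.Agent.Lib.Helper11.Ffg
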