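import Mathlib
import Groth.Agent.Lib.Helper11FfgBC

/-!
# Constant rank after base change to a local ring (helper11)
-/

set_option autoImplicit false
set_option linter.style.haveILetI false
set_option linter.unusedSectionVars false
universe u

open TensorProduct Polynomial

namespace Groth.Agent.Lib.Helper11.Ffg

open Groth.Agent.Lib.Helper2.RetCharpoly

section LA

variable {k : Type*} [Field k] {V : Type*} [AddCommGroup V] [Module k V] [FiniteDimensional k V]

/-- the determinant of `1 - e + x e` for an idempotent `e` is `x ^ rank e`. -/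
theorem det_idem (e : V →ₗ[k] V) (he : IsIdempotentElem e) (x : k) :
    LinearMap.det (LinearMap.id - e + x • e) = x ^ Module.finrank k (LinearMap.range e) := by
  have hc : IsCompl (LinearMap.range e) (LinearMap.ker e) := LinearMap.IsIdempotentElem.isCompl he
  let Φ := Submodule.prodEquivOfIsCompl (LinearMap.range e) (LinearMap.ker e) hc
  have he' : ∀ v, e (e v) = e v := fun v => by
    have := LinearMap.congr_fun he.eq v
    simpa [Module.End.mul_apply] using this
  have hconj : (Φ.toLinearMap) ∘ₗ (LinearMap.prodMap (x • LinearMap.id) LinearMap.id) ∘ₗ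
      (Φ.symm.toLinearMap) = LinearMap.id - e + x • e := by
    apply LinearMap.ext
    intro v
    obtain ⟨⟨u, w⟩, rfl⟩ := Φ.surjective v
    simp only [LinearMap.comp_apply, LinearEquiv.coe_coe, LinearEquiv.symm_apply_apply,
      LinearMap.prodMap_apply, LinearMap.smul_apply, LinearMap.id_apply, LinearMap.add_apply,
      LinearMap.sub_apply]
    have hΦ : ∀ (a : LinearMap.range e) (b : LinearMap.ker e), Φ (a, b) = (a : V) + (b : V) :=
      fun a b => Submodule.coe_prodEquivOfIsCompl' _ _ hc (a, b)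
    rw [hΦ, hΦ]
    obtain ⟨u₀, hu₀⟩ := u.2
    have hu : e (u : V) = u := by rw [← hu₀, he']
    have hw : e (w : V) = 0 := w.2
    rw [map_add, hu, hw]
    simp only [Submodule.coe_smul, add_zero]
    abel
  rw [← hconj, LinearMap.det_conj, LinearMap.det_prodMap, LinearMap.det_smul, LinearMap.det_id,
    LinearMap.det_id, mul_one, mul_one]

end LA

section Field

variable {k P : Type*} [Field k] [CommRing P] [Algebra k P] {n : ℕ}

/-- for a retract over a field, the norm of a scalar is its power to the dimension. -/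
theorem nm_algebraMap_field (r : Ret k P n) (x : k) :
    nm r (algebraMap k P x) = x ^ Module.finrank k P := by
  let e : (Fin n → k) →ₗ[k] (Fin n → k) := r.i ∘ₗ r.p
  have he : IsIdempotentElem e := by
    apply LinearMap.ext
    intro v
    simp [e, Module.End.mul_apply, Ret.pi_apply]
  have hmat1 : mat r 1 = LinearMap.toMatrix' e := by
    unfold mat
    congr 1
    ext v j
    simp [e]
  have hmatx : mat r (algebraMap k P x) = x • LinearMap.toMatrix' e := by
    rw [Algebra.algebraMap_eq_smul_one, mat_smul, hmat1]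
  have hrange : LinearMap.range e = LinearMap.range r.i := by
    apply LinearMap.range_comp_of_range_eq_top
    rw [LinearMap.range_eq_top]
    intro s
    exact ⟨r.i s, r.pi_apply s⟩
  have hinj : Function.Injective r.i := by
    intro s s' h
    have := congrArg r.p h
    rwa [r.pi_apply, r.pi_apply] at this
  have hfr : Module.finrank k (LinearMap.range e) = Module.finrank k P := by
    rw [hrange]
    exact LinearMap.finrank_range_of_inj hinj
  unfold nm
  rw [hmat1, hmatx, ← hfr, ← det_idem e he x, ← LinearMap.det_toMatrix']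
  congr 1
  simp [map_sub, map_add]

end Field

section Rank

variable {C₀ A B : Type u} [CommRing C₀] [CommRing A] [CommRing B] [Algebra C₀ A] [Algebra A B]
  [Algebra C₀ B] [IsScalarTower C₀ A B] {τ : A →ₐ[C₀] B} {ε : B →ₐ[C₀] A}
  (C' : Type u) [CommRing C'] [Algebra C₀ C'] {n : ℕ} {r : Ret A B n}

attribute [local instance] algB
attribute [local instance] Algebra.TensorProduct.rightAlgebra

theorem pow_finrank_sub_mem [IsLocalRing C'] [Algebra.IsIntegral C₀ A]
    (P : Ideal (A ⊗[C₀] C')) [P.IsMaximal] (c c'' : C')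
    (hc : nm (retB C' r) ((1 : B) ⊗ₜ[C₀] c : B ⊗[C₀] C') = (1 : A) ⊗ₜ[C₀] c'') :
    c ^ Module.finrank ((A ⊗[C₀] C') ⧸ P) (((A ⊗[C₀] C') ⧸ P) ⊗[A ⊗[C₀] C'] (B ⊗[C₀] C')) - c'' ∈
      IsLocalRing.maximalIdeal C' := by
  letI : Field ((A ⊗[C₀] C') ⧸ P) := Ideal.Quotient.field P
  let k := (A ⊗[C₀] C') ⧸ P
  let Pk := k ⊗[A ⊗[C₀] C'] (B ⊗[C₀] C')
  let rk : Ret k Pk n := (retB (C₀ := C₀) C' r).bc (T := k) (P := Pk)
  have h1 : nm rk (algebraMap (B ⊗[C₀] C') Pk ((1 : B) ⊗ₜ[C₀] c)) =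
      algebraMap (A ⊗[C₀] C') k ((1 : A) ⊗ₜ[C₀] c'') := by
    rw [bc_nm, hc]
  have h2 : algebraMap (B ⊗[C₀] C') Pk ((1 : B) ⊗ₜ[C₀] c) =
      algebraMap k Pk (algebraMap (A ⊗[C₀] C') k ((1 : A) ⊗ₜ[C₀] c)) := by
    have e1 : ((1 : B) ⊗ₜ[C₀] c : B ⊗[C₀] C') =
        algebraMap (A ⊗[C₀] C') (B ⊗[C₀] C') ((1 : A) ⊗ₜ[C₀] c) := by
      rw [algebraMap_algB, sigB_tmul, map_one]
    rw [e1, ← IsScalarTower.algebraMap_apply, ← IsScalarTower.algebraMap_apply]
  rw [h2, nm_algebraMap_field] at h1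
  rw [← tmul_mem_maximal_iff C' P, ← Ideal.Quotient.eq_zero_iff_mem]
  have h3 : ((1 : A) ⊗ₜ[C₀] (c ^ Module.finrank k Pk - c'') : A ⊗[C₀] C') =
      ((1 : A) ⊗ₜ[C₀] c) ^ Module.finrank k Pk - (1 : A) ⊗ₜ[C₀] c'' := by
    rw [TensorProduct.tmul_sub, Algebra.TensorProduct.tmul_pow, one_pow]
  rw [h3, map_sub, map_pow]
  exact sub_eq_zero.mpr h1

theorem finrank_eq_of_isMaximal [IsLocalRing C'] [Infinite (IsLocalRing.ResidueField C')]
    [Algebra.IsIntegral C₀ A] (h : HInv (τ : A →+* B) r)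
    (hC₀ : ∀ x : A, algebraMap A B x = τ x → x ∈ Set.range (algebraMap C₀ A))
    (P Q : Ideal (A ⊗[C₀] C')) [P.IsMaximal] [Q.IsMaximal] :
    Module.finrank ((A ⊗[C₀] C') ⧸ P) (((A ⊗[C₀] C') ⧸ P) ⊗[A ⊗[C₀] C'] (B ⊗[C₀] C')) =
      Module.finrank ((A ⊗[C₀] C') ⧸ Q) (((A ⊗[C₀] C') ⧸ Q) ⊗[A ⊗[C₀] C'] (B ⊗[C₀] C')) := by
  set dP := Module.finrank ((A ⊗[C₀] C') ⧸ P)
    (((A ⊗[C₀] C') ⧸ P) ⊗[A ⊗[C₀] C'] (B ⊗[C₀] C')) with hdP
  set dQ := Module.finrank ((A ⊗[C₀] C') ⧸ Q)
    (((A ⊗[C₀] C') ⧸ Q) ⊗[A ⊗[C₀] C'] (B ⊗[C₀] C')) with hdQ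
  have hpt : ∀ x : IsLocalRing.ResidueField C', x ^ dP = x ^ dQ := by
    intro x
    obtain ⟨c, rfl⟩ := IsLocalRing.residue_surjective x
    obtain ⟨c'', hc''⟩ := nm_tauB C' h hC₀ ((1 : A) ⊗ₜ[C₀] c)
    rw [tauB_tmul, map_one] at hc''
    have h1 := pow_finrank_sub_mem C' P c c'' hc''
    have h2 := pow_finrank_sub_mem C' Q c c'' hc''
    rw [← IsLocalRing.residue_eq_zero_iff, map_sub, map_pow, sub_eq_zero] at h1 h2
    rw [h1, h2]
  have hpoly : (X ^ dP : (IsLocalRing.ResidueField C')[X]) = X ^ dQ := by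
    apply Polynomial.funext
    intro x
    simp [hpt x]
  have := congrArg Polynomial.natDegree hpoly
  simpa using this

/-- **Freeness after base change**: over a local ring `C'` with infinite residue field, `B ⊗ C'` is
free over `A ⊗ C'`. -/
theorem free_baseChange [IsLocalRing C'] [Infinite (IsLocalRing.ResidueField C')]
    [Algebra.IsIntegral C₀ A] (h : HInv (τ : A →+* B) r)
    (hC₀ : ∀ x : A, algebraMap A B x = τ x → x ∈ Set.range (algebraMap C₀ A))
    (hεσ : ∀ a, ε (algebraMap A B a) = a) (hετ : ∀ a, ε (τ a) = a) :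
    Module.Free (A ⊗[C₀] C') (B ⊗[C₀] C') := by
  haveI : Finite (MaximalSpectrum (A ⊗[C₀] C')) :=
    finite_maximalSpectrum_baseChange C' h hC₀ hεσ hετ
  haveI : Module.Finite (A ⊗[C₀] C') (B ⊗[C₀] C') := finite_of_ret (retB (C₀ := C₀) C' r)
  haveI : Module.Projective (A ⊗[C₀] C') (B ⊗[C₀] C') :=
    Module.Projective.of_split (retB (C₀ := C₀) C' r).i (retB (C₀ := C₀) C' r).p
      (retB (C₀ := C₀) C' r).hpi
  by_cases hne : Nonempty (MaximalSpectrum (A ⊗[C₀] C'))
  · obtain ⟨P₁⟩ := hne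
    haveI := P₁.isMaximal
    refine Module.free_of_flat_of_finrank_eq (A ⊗[C₀] C') (B ⊗[C₀] C')
      (Module.finrank ((A ⊗[C₀] C') ⧸ P₁.asIdeal)
        (((A ⊗[C₀] C') ⧸ P₁.asIdeal) ⊗[A ⊗[C₀] C'] (B ⊗[C₀] C'))) ?_
    intro P
    haveI := P.isMaximal
    exact finrank_eq_of_isMaximal C' h hC₀ P.asIdeal P₁.asIdeal
  · refine Module.free_of_flat_of_finrank_eq (A ⊗[C₀] C') (B ⊗[C₀] C') 0 ?_
    intro P
    exact (hne ⟨P⟩).elim

end Rank

end Groth.Agent.Lib.Helper11.Ffg
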