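import Mathlib

/-!
# Selecting a basis of a free module over a semi-local ring from a generating submodule
(over a local ring with infinite residue field)
-/

set_option autoImplicit false
universe u

namespace Groth.Agent.Lib.Helper27SemiLocalBasis

open Polynomial

section Multilinear

variable {A M : Type*} [CommRing A] [AddCommGroup M] [Module A M]
  {ι : Type*} [Fintype ι] [DecidableEq ι]

/-- If a multilinear map takes values in an ideal on all tuples from a spanning set, it takes
values in that ideal everywhere. -/
theorem multilinear_mem_of_span (D : MultilinearMap A (fun _ : ι => M) A) (I : Ideal A)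
    (N : Set M) (hN : Submodule.span A N = ⊤)
    (h : ∀ y : ι → M, (∀ i, y i ∈ N) → D y ∈ I) : ∀ z : ι → M, D z ∈ I := by
  have key : ∀ s : Finset ι, ∀ z : ι → M, (∀ i, i ∉ s → z i ∈ N) → D z ∈ I := by
    intro s
    induction s using Finset.induction_on with
    | empty =>
      intro z hz
      exact h z (fun i => hz i (Finset.notMem_empty i))
    | insert j s hj ih =>
      intro z hz
      have hzj : z j ∈ Submodule.span A N := by rw [hN]; trivial
      have hQ : ∀ w ∈ Submodule.span A N, D (Function.update z j w) ∈ I := by
        intro w hw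
        induction hw using Submodule.span_induction with
        | mem w hw =>
          apply ih
          intro i hi
          by_cases hij : i = j
          · subst hij
            rw [Function.update_self]
            exact hw
          · rw [Function.update_of_ne hij]
            exact hz i (by
              intro hmem
              rcases Finset.mem_insert.mp hmem with h1 | h1
              · exact hij h1
              · exact hi h1)
        | zero =>
          rw [D.map_update_zero]
          exact I.zero_mem
        | add w₁ w₂ _ _ h₁ h₂ =>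
          rw [D.map_update_add]
          exact I.add_mem h₁ h₂
        | smul a w _ h₁ =>
          rw [D.map_update_smul]
          exact I.mul_mem_left a h₁
      have := hQ (z j) hzj
      rwa [Function.update_eq_self] at this
  intro z
  exact key Finset.univ z (fun i hi => absurd (Finset.mem_univ i) hi)

end Multilinear

section Step1

variable {A M : Type*} [CommRing A] [AddCommGroup M] [Module A M]
  {ι : Type*} [Fintype ι] [DecidableEq ι]

theorem exists_det_notMem (b₀ : Module.Basis ι A M)
    (N : Set M) (hN : Submodule.span A N = ⊤) (m : Ideal A) (hm : m ≠ ⊤) :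
    ∃ y : ι → M, (∀ i, y i ∈ N) ∧ b₀.det y ∉ m := by
  by_contra hcon
  push Not at hcon
  have h1 := multilinear_mem_of_span b₀.det.toMultilinearMap m N hN (fun y hy => hcon y hy) b₀
  have h2 : b₀.det.toMultilinearMap b₀ = 1 := b₀.det_self
  rw [h2] at h1
  exact hm (m.eq_top_iff_one.mpr h1)

/-- The polynomial `det (X • Y + X₀)`. -/
noncomputable def detPoly (b₀ : Module.Basis ι A M) (x y : ι → M) : A[X] :=
  Matrix.det ((X : A[X]) • (b₀.toMatrix y).map C + (b₀.toMatrix x).map C)

theorem detPoly_coeff_zero (b₀ : Module.Basis ι A M) (x y : ι → M) :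
    (detPoly b₀ x y).coeff 0 = b₀.det x := by
  rw [detPoly, Polynomial.coeff_det_X_add_C_zero, Module.Basis.det_apply]

theorem detPoly_coeff_card (b₀ : Module.Basis ι A M) (x y : ι → M) :
    (detPoly b₀ x y).coeff (Fintype.card ι) = b₀.det y := by
  rw [detPoly, Polynomial.coeff_det_X_add_C_card, Module.Basis.det_apply]

theorem detPoly_eval (b₀ : Module.Basis ι A M) (x y : ι → M) (a : A) :
    (detPoly b₀ x y).eval a = b₀.det (fun i => x i + a • y i) := by
  rw [detPoly, Module.Basis.det_apply]
  have h1 := RingHom.map_det (Polynomial.evalRingHom a)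
    ((X : A[X]) • (b₀.toMatrix y).map C + (b₀.toMatrix x).map C)
  rw [Polynomial.coe_evalRingHom] at h1
  rw [h1]
  congr 1
  ext i j
  simp [Module.Basis.toMatrix_apply, add_comm]
  exact mul_comm _ _

end Step1

section BadSet

variable {B A : Type*} [CommRing B] [CommRing A] [IsLocalRing B] [Algebra B A]

/-- For a maximal ideal `m` of `A` containing the image of the maximal ideal of `B` and a polynomial
`p` over `A` nonzero mod `m`, the set of residues of `t : B` with `p(φ t) ∈ m` is finite. -/
theorem bad_finite (m : Ideal A) [hm : m.IsMaximal]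
    (hle : (IsLocalRing.maximalIdeal B).map (algebraMap B A) ≤ m) (p : A[X])
    (hp : p.map (Ideal.Quotient.mk m) ≠ 0) :
    {c : IsLocalRing.ResidueField B |
      ∃ t : B, IsLocalRing.residue B t = c ∧ p.eval (algebraMap B A t) ∈ m}.Finite := by
  have hker : ∀ a ∈ IsLocalRing.maximalIdeal B,
      ((Ideal.Quotient.mk m).comp (algebraMap B A)) a = 0 := by
    intro a ha
    rw [RingHom.comp_apply, Ideal.Quotient.eq_zero_iff_mem]
    exact hle (Ideal.mem_map_of_mem _ ha)
  let ψ : IsLocalRing.ResidueField B →+* A ⧸ m :=
    Ideal.Quotient.lift (IsLocalRing.maximalIdeal B)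
      ((Ideal.Quotient.mk m).comp (algebraMap B A)) hker
  have hψ : ∀ t : B, ψ (IsLocalRing.residue B t) = Ideal.Quotient.mk m (algebraMap B A t) := by
    intro t
    exact Ideal.Quotient.lift_mk _ _ _
  have hinj : Function.Injective ψ := ψ.injective
  have hfin := (Polynomial.finite_setOfPred_isRoot hp).preimage (Set.injOn_of_injective hinj)
  refine hfin.subset ?_
  rintro c ⟨t, rfl, ht⟩
  simp only [Set.mem_preimage, Set.mem_ofPred_eq, Polynomial.IsRoot.def]
  rw [hψ, Polynomial.eval_map_apply, Ideal.Quotient.eq_zero_iff_mem]
  exact ht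

end BadSet

section Main

variable {B A M : Type*} [CommRing B] [CommRing A] [IsLocalRing B]
  [Infinite (IsLocalRing.ResidueField B)] [Algebra B A]
  [AddCommGroup M] [Module A M] [Module B M] [IsScalarTower B A M]
  {ι : Type*} [Fintype ι] [DecidableEq ι]

theorem exists_tuple (hBA : (IsLocalRing.maximalIdeal B).map (algebraMap B A) ≤
      (⊥ : Ideal A).jacobson)
    (b₀ : Module.Basis ι A M) (N : Submodule B M) (hN : Submodule.span A (N : Set M) = ⊤)
    (F : Finset (MaximalSpectrum A)) :
    ∃ x : ι → M, (∀ i, x i ∈ N) ∧ ∀ m ∈ F, b₀.det x ∉ m.asIdeal := by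
  classical
  induction F using Finset.induction_on with
  | empty =>
    exact ⟨fun _ => 0, fun _ => N.zero_mem, fun m hm => absurd hm (Finset.notMem_empty m)⟩
  | insert m₀ F hm₀ ih =>
    obtain ⟨x, hxN, hxF⟩ := ih
    obtain ⟨y, hyN, hy⟩ := exists_det_notMem b₀ (N : Set M) hN m₀.asIdeal m₀.isMaximal.ne_top
    set p := detPoly b₀ x y with hp
    have hle : ∀ m : MaximalSpectrum A,
        (IsLocalRing.maximalIdeal B).map (algebraMap B A) ≤ m.asIdeal := by
      intro m
      refine hBA.trans ?_
      exact sInf_le ⟨bot_le, m.isMaximal⟩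
    have hpne : ∀ m ∈ insert m₀ F, p.map (Ideal.Quotient.mk m.asIdeal) ≠ 0 := by
      intro m hm hzero
      rcases Finset.mem_insert.mp hm with rfl | hmF
      · have := congrArg (fun q => q.coeff (Fintype.card ι)) hzero
        simp only [Polynomial.coeff_map, Polynomial.coeff_zero] at this
        rw [hp, detPoly_coeff_card, Ideal.Quotient.eq_zero_iff_mem] at this
        exact hy this
      · have := congrArg (fun q => q.coeff 0) hzero
        simp only [Polynomial.coeff_map, Polynomial.coeff_zero] at this
        rw [hp, detPoly_coeff_zero, Ideal.Quotient.eq_zero_iff_mem] at this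
        exact hxF m hmF this
    have hfin : (⋃ m ∈ (insert m₀ F : Finset (MaximalSpectrum A)),
        {c : IsLocalRing.ResidueField B |
          ∃ t : B, IsLocalRing.residue B t = c ∧
            p.eval (algebraMap B A t) ∈ m.asIdeal}).Finite := by
      refine Set.Finite.biUnion (Finset.finite_toSet _) ?_
      intro m hm
      have := m.isMaximal
      exact bad_finite m.asIdeal (hle m) p (hpne m hm)
    obtain ⟨c, hc⟩ := hfin.exists_notMem
    obtain ⟨t, rfl⟩ := IsLocalRing.residue_surjective c
    refine ⟨fun i => x i + t • y i, fun i => N.add_mem (hxN i) (N.smul_mem t (hyN i)), ?_⟩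
    intro m hm hmem
    apply hc
    simp only [Set.mem_iUnion, Set.mem_ofPred_eq]
    refine ⟨m, hm, t, rfl, ?_⟩
    rw [hp, detPoly_eval]
    simpa only [algebraMap_smul] using hmem

theorem main_aux [Finite (MaximalSpectrum A)]
    (hBA : (IsLocalRing.maximalIdeal B).map (algebraMap B A) ≤ (⊥ : Ideal A).jacobson)
    (b₀ : Module.Basis ι A M) (N : Submodule B M) (hN : Submodule.span A (N : Set M) = ⊤) :
    ∃ b : Module.Basis ι A M, ∀ i, b i ∈ N := by
  classical
  let _ : Fintype (MaximalSpectrum A) := Fintype.ofFinite _
  obtain ⟨x, hxN, hx⟩ := exists_tuple hBA b₀ N hN (Finset.univ : Finset (MaximalSpectrum A))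
  have hunit : IsUnit (b₀.det x) := by
    by_contra hnu
    obtain ⟨m, hm, hmem⟩ := exists_max_ideal_of_mem_nonunits hnu
    exact hx ⟨m, hm⟩ (Finset.mem_univ _) hmem
  obtain ⟨hli, hspan⟩ := (Module.Basis.is_basis_iff_det b₀).mpr hunit
  refine ⟨Module.Basis.mk hli hspan.ge, fun i => ?_⟩
  rw [Module.Basis.mk_apply]
  exact hxN i

end Main

section Final

theorem main {B A M : Type u} [CommRing B] [CommRing A]
    [IsLocalRing B] [Infinite (IsLocalRing.ResidueField B)] [Algebra B A]
    [Finite (MaximalSpectrum A)]
    (hBA : (IsLocalRing.maximalIdeal B).map (algebraMap B A) ≤ (⊥ : Ideal A).jacobson)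
    [AddCommGroup M] [Module A M] [Module B M] [IsScalarTower B A M]
    [Module.Free A M] [Module.Finite A M]
    (N : Submodule B M) (hN : Submodule.span A (N : Set M) = ⊤) :
    ∃ b : Module.Basis (Fin (Module.finrank A M)) A M, ∀ i, b i ∈ N := by
  rcases subsingleton_or_nontrivial A with hA | hA
  · have : Subsingleton M := Module.subsingleton A M
    refine ⟨Module.Basis.ofRepr (LinearEquiv.ofSubsingleton M _), fun i => ?_⟩
    have h0 : ∀ z : M, z ∈ N := fun z => by
      rw [Subsingleton.elim z 0]
      exact N.zero_mem
    exact h0 _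
  · exact main_aux hBA (Module.finBasis A M) N hN

end Final

end Groth.Agent.Lib.Helper27SemiLocalBasis
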