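import Mathlib
import Groth.Agent.Lib.Helper27SemiLocalBasis
import Groth.Agent.Lib.Helper11FfgRank

/-!
# The local structure of a finite locally free equivalence relation (helper11)

After base change to a local ring `C'` with infinite residue field, `B ⊗ C'` has a basis over
`A ⊗ C'` of the form `τ'(x_i)`.
-/

set_option autoImplicit false
set_option linter.style.haveILetI false
set_option linter.unusedSectionVars false
universe u

open TensorProduct Polynomial

namespace Groth.Agent.Lib.Helper11.Ffg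

open Groth.Agent.Lib.Helper2.RetCharpoly

section Basis

variable {C₀ A B : Type u} [CommRing C₀] [CommRing A] [CommRing B] [Algebra C₀ A] [Algebra A B]
  [Algebra C₀ B] [IsScalarTower C₀ A B] {τ : A →ₐ[C₀] B} {ε : B →ₐ[C₀] A}
  (C' : Type u) [CommRing C'] [Algebra C₀ C'] {n : ℕ} {r : Ret A B n}

attribute [local instance] algB
attribute [local instance] Algebra.TensorProduct.rightAlgebra

instance isScalarTower_right_algB : IsScalarTower C' (A ⊗[C₀] C') (B ⊗[C₀] C') := by
  refine IsScalarTower.of_algebraMap_eq fun c => ?_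
  rw [algebraMap_algB]
  change (1 : B) ⊗ₜ[C₀] c = sigB (A := A) (B := B) C' ((1 : A) ⊗ₜ[C₀] c)
  rw [sigB_tmul, map_one]

theorem smul_def_algB (x : A ⊗[C₀] C') (y : B ⊗[C₀] C') :
    x • y = sigB (A := A) (B := B) C' x * y := rfl

/-- the image of `τ'`, as a `C'`-submodule of `B ⊗ C'`. -/
noncomputable def tauRange (τ : A →ₐ[C₀] B) : Submodule C' (B ⊗[C₀] C') where
  carrier := Set.range (tauB τ C')
  add_mem' := by
    rintro _ _ ⟨x, rfl⟩ ⟨y, rfl⟩
    exact ⟨x + y, map_add _ _ _⟩
  zero_mem' := ⟨0, map_zero _⟩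
  smul_mem' := by
    rintro c _ ⟨x, rfl⟩
    refine ⟨((1 : A) ⊗ₜ[C₀] c) * x, ?_⟩
    rw [map_mul, tauB_tmul, map_one, Algebra.smul_def]
    rfl

theorem span_tauRange (hψ : ∀ b : B, b ∈ Submodule.span A (Set.range τ)) :
    Submodule.span (A ⊗[C₀] C') (tauRange C' τ : Set (B ⊗[C₀] C')) = ⊤ := by
  rw [eq_top_iff]
  rintro y -
  induction y using TensorProduct.induction_on with
  | zero => exact Submodule.zero_mem _
  | add y z hy hz => exact Submodule.add_mem _ hy hz
  | tmul b c =>
    have key : ∀ b : B, b ∈ Submodule.span A (Set.range τ) → ∀ c : C',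
        (b ⊗ₜ[C₀] c : B ⊗[C₀] C') ∈
          Submodule.span (A ⊗[C₀] C') (tauRange C' τ : Set (B ⊗[C₀] C')) := by
      intro b hb
      induction hb using Submodule.span_induction with
      | mem b hb =>
        obtain ⟨a, rfl⟩ := hb
        intro c
        exact Submodule.subset_span ⟨a ⊗ₜ[C₀] c, tauB_tmul τ C' a c⟩
      | zero =>
        intro c
        rw [TensorProduct.zero_tmul]
        exact Submodule.zero_mem _
      | add b b' _ _ hb hb' =>
        intro c
        rw [TensorProduct.add_tmul]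
        exact Submodule.add_mem _ (hb c) (hb' c)
      | smul a b _ hb =>
        intro c
        have : ((a • b) ⊗ₜ[C₀] c : B ⊗[C₀] C') = (a ⊗ₜ[C₀] (1 : C') : A ⊗[C₀] C') • (b ⊗ₜ[C₀] c) := by
          rw [smul_def_algB, sigB_tmul, Algebra.TensorProduct.tmul_mul_tmul, one_mul,
            Algebra.smul_def]
        rw [this]
        exact Submodule.smul_mem _ _ (hb c)
    exact key b (hψ b) c

theorem map_maximalIdeal_le_jacobson [IsLocalRing C'] [Algebra.IsIntegral C₀ A] :
    (IsLocalRing.maximalIdeal C').map (algebraMap C' (A ⊗[C₀] C')) ≤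
      (⊥ : Ideal (A ⊗[C₀] C')).jacobson := by
  rw [Ideal.map_le_iff_le_comap]
  intro c hc
  rw [Ideal.mem_comap, Ideal.jacobson, Ideal.mem_sInf]
  rintro P ⟨-, hP⟩
  haveI := hP
  exact (tmul_mem_maximal_iff C' P c).mpr hc

/-- **Simultaneous basis**: over a local ring `C'` with infinite residue field, `B ⊗ C'` has a
basis over `A ⊗ C'` consisting of elements `τ'(x_i)`. -/
theorem exists_basis_tau [IsLocalRing C'] [Infinite (IsLocalRing.ResidueField C')]
    [Algebra.IsIntegral C₀ A] (h : HInv (τ : A →+* B) r)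
    (hC₀ : ∀ x : A, algebraMap A B x = τ x → x ∈ Set.range (algebraMap C₀ A))
    (hεσ : ∀ a, ε (algebraMap A B a) = a) (hετ : ∀ a, ε (τ a) = a)
    (hψ : ∀ b : B, b ∈ Submodule.span A (Set.range τ)) :
    ∃ (d : ℕ) (x : Fin d → A ⊗[C₀] C') (b : Module.Basis (Fin d) (A ⊗[C₀] C') (B ⊗[C₀] C')),
      ∀ i, b i = tauB τ C' (x i) := by
  haveI : Finite (MaximalSpectrum (A ⊗[C₀] C')) :=
    finite_maximalSpectrum_baseChange C' h hC₀ hεσ hετ
  haveI : Module.Finite (A ⊗[C₀] C') (B ⊗[C₀] C') := finite_of_ret (retB (C₀ := C₀) C' r)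
  haveI : Module.Free (A ⊗[C₀] C') (B ⊗[C₀] C') := free_baseChange C' h hC₀ hεσ hετ
  obtain ⟨b, hb⟩ := Groth.Agent.Lib.Helper27SemiLocalBasis.main (B := C') (A := A ⊗[C₀] C')
    (M := B ⊗[C₀] C') (map_maximalIdeal_le_jacobson C') (tauRange C' τ) (span_tauRange C' hψ)
  choose x hx using hb
  exact ⟨_, x, b, fun i => (hx i).symm⟩

end Basis

end Groth.Agent.Lib.Helper11.Ffg
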