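import Mathlib
import Groth.Agent.S7486
import Groth.Agent.Lib.Helper11FfgLocal

/-!
# Base change of the pushout square of a groupoid (helper11)
-/

set_option autoImplicit false
set_option linter.style.haveILetI false
set_option linter.unusedSectionVars false
universe u

open TensorProduct Polynomial CategoryTheory CategoryTheory.Limits

namespace Groth.Agent.Lib.Helper11.Ffg

open Groth.Agent.Lib.Helper2.RetCharpoly

section Sq

variable {C₀ : Type u} [CommRing C₀] (C' : Type u) [CommRing C'] [Algebra C₀ C']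

/-- base change along `C₀ → C'` of a `C₀`-algebra map, as a ring map. -/
noncomputable abbrev bcHom {A B : Type u} [CommRing A] [CommRing B] [Algebra C₀ A] [Algebra C₀ B]
    (φ : A →ₐ[C₀] B) : A ⊗[C₀] C' →+* B ⊗[C₀] C' :=
  (Algebra.TensorProduct.map φ (AlgHom.id C₀ C')).toRingHom

/-- the canonical map `A → A ⊗ C'`. -/
noncomputable abbrev jHom (A : Type u) [CommRing A] [Algebra C₀ A] : A →+* A ⊗[C₀] C' :=
  (Algebra.TensorProduct.includeLeft (R := C₀) (S := C₀) (A := A) (B := C')).toRingHom

theorem bcHom_tmul {A B : Type u} [CommRing A] [CommRing B] [Algebra C₀ A] [Algebra C₀ B]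
    (φ : A →ₐ[C₀] B) (a : A) (c : C') : bcHom C' φ (a ⊗ₜ[C₀] c) = φ a ⊗ₜ[C₀] c := by
  simp [bcHom]

theorem jHom_bcHom {A B : Type u} [CommRing A] [CommRing B] [Algebra C₀ A] [Algebra C₀ B]
    (φ : A →ₐ[C₀] B) :
    CommRingCat.ofHom (jHom C' A) ≫ CommRingCat.ofHom (bcHom C' φ) =
      CommRingCat.ofHom φ.toRingHom ≫ CommRingCat.ofHom (jHom C' B) := by
  ext a
  simp [bcHom, jHom]

/-- the base change square of an algebra map is a pushout. -/
theorem isPushout_bcHom {A B : Type u} [CommRing A] [CommRing B] [Algebra C₀ A] [Algebra C₀ B]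
    (φ : A →ₐ[C₀] B) :
    IsPushout (CommRingCat.ofHom (jHom C' A)) (CommRingCat.ofHom φ.toRingHom)
      (CommRingCat.ofHom (bcHom C' φ)) (CommRingCat.ofHom (jHom C' B)) := by
  letI : Algebra A B := φ.toRingHom.toAlgebra
  haveI : IsScalarTower C₀ A B := IsScalarTower.of_algebraMap_eq fun c => (φ.commutes c).symm
  letI := algB (C₀ := C₀) (A := A) (B := B) C'
  have h := CommRingCat.isPushout_iff_isPushout.mpr (isPushout_algB (C₀ := C₀) (A := A) (B := B) C')
  have e1 : (algebraMap (A ⊗[C₀] C') (B ⊗[C₀] C')) = bcHom C' φ := by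
    apply RingHom.ext
    intro x
    rw [algebraMap_algB]
    induction x using TensorProduct.induction_on with
    | zero => simp
    | tmul a c => rw [sigB_tmul, bcHom_tmul]; rfl
    | add x y hx hy => rw [map_add, map_add, hx, hy]
  rw [e1] at h
  exact h

end Sq

section Sq4

variable {C₀ A B D : Type u} [CommRing C₀] [CommRing A] [CommRing B] [CommRing D] [Algebra C₀ A]
  [Algebra C₀ B] [Algebra C₀ D] (σ τ : A →ₐ[C₀] B) (p0 p1 : B →ₐ[C₀] D)
  (C' : Type u) [CommRing C'] [Algebra C₀ C']

/-- the base change of the pushout square `D = B ⊗_A B` is a pushout. -/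
theorem isPushout_baseChange
    (hD : IsPushout (CommRingCat.ofHom σ.toRingHom) (CommRingCat.ofHom τ.toRingHom)
      (CommRingCat.ofHom p0.toRingHom) (CommRingCat.ofHom p1.toRingHom)) :
    IsPushout (CommRingCat.ofHom (bcHom C' σ)) (CommRingCat.ofHom (bcHom C' τ))
      (CommRingCat.ofHom (bcHom C' p0)) (CommRingCat.ofHom (bcHom C' p1)) := by
  have s2 : IsPushout (CommRingCat.ofHom (jHom C' B)) (CommRingCat.ofHom p0.toRingHom)
      (CommRingCat.ofHom (bcHom C' p0)) (CommRingCat.ofHom (jHom C' D)) := isPushout_bcHom C' p0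
  have s12 := hD.paste_horiz s2
  have s3 : IsPushout (CommRingCat.ofHom (jHom C' A)) (CommRingCat.ofHom τ.toRingHom)
      (CommRingCat.ofHom (bcHom C' τ)) (CommRingCat.ofHom (jHom C' B)) := isPushout_bcHom C' τ
  have e1 : CommRingCat.ofHom σ.toRingHom ≫ CommRingCat.ofHom (jHom C' B) =
      CommRingCat.ofHom (jHom C' A) ≫ CommRingCat.ofHom (bcHom C' σ) := (jHom_bcHom C' σ).symm
  have e2 : CommRingCat.ofHom p1.toRingHom ≫ CommRingCat.ofHom (jHom C' D) =
      CommRingCat.ofHom (jHom C' B) ≫ CommRingCat.ofHom (bcHom C' p1) := (jHom_bcHom C' p1).symm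
  rw [e1, e2] at s12
  have comm : CommRingCat.ofHom (bcHom C' σ) ≫ CommRingCat.ofHom (bcHom C' p0) =
      CommRingCat.ofHom (bcHom C' τ) ≫ CommRingCat.ofHom (bcHom C' p1) := by
    have hw := hD.w
    apply CommRingCat.hom_ext
    apply RingHom.ext
    intro x
    induction x using TensorProduct.induction_on with
    | zero => simp
    | tmul a c =>
      have := congrArg (fun f => f.hom a) hw
      simp only [CommRingCat.hom_comp, CommRingCat.hom_ofHom, RingHom.comp_apply] at this ⊢
      rw [bcHom_tmul, bcHom_tmul, bcHom_tmul, bcHom_tmul]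
      congr 1
    | add x y hx hy => simp only [map_add, hx, hy]
  exact IsPushout.of_left s12 comm s3

end Sq4

end Groth.Agent.Lib.Helper11.Ffg
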