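import Mathlib
import Groth.Agent.S7486
import Groth.Agent.Lib.Helper11FfgLocal
import Groth.Agent.Lib.Helper11FfgLocal2

/-!
# The local structure theorem for a finite locally free equivalence relation (helper11)
-/

set_option autoImplicit false
set_option linter.style.haveILetI false
set_option linter.unusedSectionVars false
universe u

open TensorProduct Polynomial CategoryTheory CategoryTheory.Limits

namespace Groth.Agent.Lib.Helper11.Ffg

open Groth.Agent.Lib.Helper2.RetCharpoly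

section Abs

/-- abstract injectivity lemma: a ring `T` generated by two copies of `A'` which agree on the
invariants maps injectively to `B'`. -/
theorem injective_of_core {A' B' T : Type u} [CommRing A'] [CommRing B'] [CommRing T]
    (σ' τ' : A' →+* B') (ι₁ ι₂ : A' →+* T) (Φ : T →+* B')
    (h1 : ∀ a, Φ (ι₁ a) = τ' a) (h2 : ∀ a, Φ (ι₂ a) = σ' a)
    (hE : ∀ a, σ' a = τ' a → ι₁ a = ι₂ a)
    (hgen : ∀ t : T, t ∈ AddSubmonoid.closure {t | ∃ a b, t = ι₁ a * ι₂ b})
    (hbij : ∀ φ : A' ⊗[RingHom.eqLocus σ' τ'] A' →+ B',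
      (∀ a a', φ (a ⊗ₜ a') = τ' a * σ' a') → Function.Bijective φ) :
    Function.Injective Φ := by
  let f : A' →+ A' →+ T :=
    ((AddMonoidHom.mul : T →+ T →+ T).comp ι₁.toAddMonoidHom).compl₂ ι₂.toAddMonoidHom
  have hf : ∀ a b, f a b = ι₁ a * ι₂ b := fun a b => rfl
  let θ : A' ⊗[RingHom.eqLocus σ' τ'] A' →+ T := TensorProduct.liftAddHom f (by
    intro r a b
    rw [hf, hf]
    have hr : ι₁ (r : A') = ι₂ (r : A') := hE _ r.2
    have e1 : r • a = (r : A') * a := rfl
    have e2 : r • b = (r : A') * b := rfl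
    rw [e1, e2, map_mul, map_mul, hr]
    ring)
  have hθ : ∀ a b, θ (a ⊗ₜ b) = ι₁ a * ι₂ b := fun a b => rfl
  have hsurj : Function.Surjective θ := by
    intro t
    have := hgen t
    induction this using AddSubmonoid.closure_induction with
    | mem t ht =>
      obtain ⟨a, b, rfl⟩ := ht
      exact ⟨a ⊗ₜ b, hθ a b⟩
    | zero => exact ⟨0, map_zero _⟩
    | add t t' _ _ ht ht' =>
      obtain ⟨z, rfl⟩ := ht
      obtain ⟨z', rfl⟩ := ht'
      exact ⟨z + z', map_add _ _ _⟩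
  have hφ := hbij (Φ.toAddMonoidHom.comp θ) (by
    intro a a'
    change Φ (θ (a ⊗ₜ a')) = _
    rw [hθ, map_mul, h1, h2])
  intro t t' htt
  obtain ⟨z, rfl⟩ := hsurj t
  obtain ⟨z', rfl⟩ := hsurj t'
  have : z = z' := hφ.1 htt
  rw [this]

end Abs

section ALT

variable {C₀ A B D : Type u} [CommRing C₀] [CommRing A] [CommRing B] [CommRing D] [Algebra C₀ A]
  [Algebra A B] [Algebra C₀ B] [IsScalarTower C₀ A B] [Algebra C₀ D]
  {τ : A →ₐ[C₀] B} {ε : B →ₐ[C₀] A} {p0 p1 c : B →ₐ[C₀] D}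
  (C' : Type u) [CommRing C'] [Algebra C₀ C'] {n : ℕ} {r : Ret A B n}

attribute [local instance] algB
attribute [local instance] Algebra.TensorProduct.rightAlgebra

theorem bcHom_comp_apply {X Y Z : Type u} [CommRing X] [CommRing Y] [CommRing Z] [Algebra C₀ X]
    [Algebra C₀ Y] [Algebra C₀ Z] (φ : X →ₐ[C₀] Y) (ψ ψ' : Y →ₐ[C₀] Z)
    (hφ : ∀ x, ψ (φ x) = ψ' (φ x)) (x : X ⊗[C₀] C') :
    bcHom C' ψ (bcHom C' φ x) = bcHom C' ψ' (bcHom C' φ x) := by
  induction x using TensorProduct.induction_on with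
  | zero => simp
  | tmul a c => rw [bcHom_tmul, bcHom_tmul, bcHom_tmul, hφ]
  | add x y hx hy => simp only [map_add, hx, hy]

theorem bcHom_comp_apply' {X Y Y' Z : Type u} [CommRing X] [CommRing Y] [CommRing Y'] [CommRing Z]
    [Algebra C₀ X] [Algebra C₀ Y] [Algebra C₀ Y'] [Algebra C₀ Z] (φ : X →ₐ[C₀] Y)
    (φ' : X →ₐ[C₀] Y') (ψ : Y →ₐ[C₀] Z) (ψ' : Y' →ₐ[C₀] Z)
    (hφ : ∀ x, ψ (φ x) = ψ' (φ' x)) (x : X ⊗[C₀] C') :
    bcHom C' ψ (bcHom C' φ x) = bcHom C' ψ' (bcHom C' φ' x) := by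
  induction x using TensorProduct.induction_on with
  | zero => simp
  | tmul a c => rw [bcHom_tmul, bcHom_tmul, bcHom_tmul, bcHom_tmul, hφ]
  | add x y hx hy => simp only [map_add, hx, hy]

theorem bcHom_comp_eq {X Y Z : Type u} [CommRing X] [CommRing Y] [CommRing Z]
    [Algebra C₀ X] [Algebra C₀ Y] [Algebra C₀ Z] (φ : X →ₐ[C₀] Y)
    (ψ : Y →ₐ[C₀] Z) (χ : X →ₐ[C₀] Z)
    (hφ : ∀ x, ψ (φ x) = χ x) (x : X ⊗[C₀] C') :
    bcHom C' ψ (bcHom C' φ x) = bcHom C' χ x := by
  induction x using TensorProduct.induction_on with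
  | zero => simp
  | tmul a c => rw [bcHom_tmul, bcHom_tmul, bcHom_tmul, hφ]
  | add x y hx hy => simp only [map_add, hx, hy]

/-- **Local structure theorem**: after base change to a flat local `C₀`-algebra `C'` with infinite
residue field, `A ⊗ C'` is flat over `C₀` (indeed free over `C'`) and the base change of
`A ⊗ A → B` is injective. -/
theorem local_main [IsLocalRing C'] [Infinite (IsLocalRing.ResidueField C')] [Module.Flat C₀ C']
    [Algebra.IsIntegral C₀ A] (h : HInv (τ : A →+* B) r)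
    (hinj : Function.Injective (algebraMap C₀ A))
    (hC₀ : ∀ x : A, algebraMap A B x = τ x → x ∈ Set.range (algebraMap C₀ A))
    (hεσ : ∀ a, ε (algebraMap A B a) = a) (hετ : ∀ a, ε (τ a) = a)
    (hψ : ∀ b : B, b ∈ Submodule.span A (Set.range τ))
    (hcτ : ∀ a, c (τ a) = p0 (τ a)) (hcσ : ∀ a, c (algebraMap A B a) = p1 (algebraMap A B a))
    (hp : ∀ a, p0 (algebraMap A B a) = p1 (τ a))
    (hD : IsPushout (CommRingCat.ofHom (IsScalarTower.toAlgHom C₀ A B).toRingHom)
      (CommRingCat.ofHom τ.toRingHom) (CommRingCat.ofHom p0.toRingHom)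
      (CommRingCat.ofHom p1.toRingHom)) :
    Module.Flat C₀ (A ⊗[C₀] C') ∧
      Function.Injective (bcHom C'
        (Algebra.TensorProduct.productMap (IsScalarTower.toAlgHom C₀ A B) τ)) := by
  obtain ⟨d, x₀, b₀, hb₀⟩ := exists_basis_tau (τ := τ) (ε := ε) (r := r) C' h hC₀ hεσ hετ hψ
  -- reindex to universe `u`
  let I : Type u := ULift.{u} (Fin d)
  let x : I → A ⊗[C₀] C' := fun i => x₀ i.down
  let b : Module.Basis I (A ⊗[C₀] C') (B ⊗[C₀] C') := b₀.reindex Equiv.ulift.symm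
  have hb : ∀ i, b i = tauB τ C' (x i) := by
    intro i
    simp only [b, Module.Basis.reindex_apply, x]
    exact hb₀ _
  let σ₀ : A →ₐ[C₀] B := IsScalarTower.toAlgHom C₀ A B
  let σ' : A ⊗[C₀] C' →+* B ⊗[C₀] C' := bcHom C' σ₀
  let τ' : A ⊗[C₀] C' →+* B ⊗[C₀] C' := bcHom C' τ
  let ε' : B ⊗[C₀] C' →+* A ⊗[C₀] C' := bcHom C' ε
  let p0' : B ⊗[C₀] C' →+* D ⊗[C₀] C' := bcHom C' p0
  let p1' : B ⊗[C₀] C' →+* D ⊗[C₀] C' := bcHom C' p1
  let c' : B ⊗[C₀] C' →+* D ⊗[C₀] C' := bcHom C' c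
  have hσ' : ∀ a, σ' a = sigB (A := A) (B := B) C' a := fun a => rfl
  have hτ' : ∀ a, τ' a = tauB τ C' a := fun a => rfl
  have hεσ' : ∀ a, ε' (σ' a) = a := fun a => epsB_sigB C' hεσ a
  have hετ' : ∀ a, ε' (τ' a) = a := fun a => epsB_tauB C' hετ a
  have hcτ' : ∀ a, c' (τ' a) = p0' (τ' a) := fun a => bcHom_comp_apply C' τ c p0 hcτ a
  have hcσ' : ∀ a, c' (σ' a) = p1' (σ' a) := fun a => bcHom_comp_apply C' σ₀ c p1 hcσ a
  have hp' : ∀ a, p0' (σ' a) = p1' (τ' a) := fun a => bcHom_comp_apply' C' σ₀ τ p0 p1 hp a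
  have hP' : IsPushout (CommRingCat.ofHom σ') (CommRingCat.ofHom τ') (CommRingCat.ofHom p0')
      (CommRingCat.ofHom p1') := isPushout_baseChange σ₀ τ p0 p1 C' hD
  have hlc : ∀ f : I →₀ A ⊗[C₀] C', Finsupp.linearCombination (A ⊗[C₀] C') b f =
      f.sum fun i a => σ' a * τ' (x i) := by
    intro f
    rw [Finsupp.linearCombination_apply]
    refine Finsupp.sum_congr fun i _ => ?_
    rw [hb, smul_def_algB]
    rfl
  have LI_B : ∀ f g : I →₀ A ⊗[C₀] C', (f.sum fun i a => σ' a * τ' (x i)) =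
      (g.sum fun i a => σ' a * τ' (x i)) → f = g := by
    intro f g hfg
    rw [← hlc, ← hlc] at hfg
    have := congrArg b.repr hfg
    simpa using this
  have SP_B : ∀ β : B ⊗[C₀] C', ∃ f : I →₀ A ⊗[C₀] C', β = f.sum fun i a => σ' a * τ' (x i) := by
    intro β
    refine ⟨b.repr β, ?_⟩
    rw [← hlc, Module.Basis.linearCombination_repr]
  have LI_D : ∀ f g : I →₀ B ⊗[C₀] C', (f.sum fun i β => p1' β * p0' (τ' (x i))) =
      (g.sum fun i β => p1' β * p0' (τ' (x i))) → f = g := by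
    intro f g hfg
    exact Groth.Agent.S7486.li_of_isPushout hP' (fun i => τ' (x i)) ⟨b, hb⟩ f g hfg
  have hli := Groth.Agent.S7486.linearIndependent_x σ' τ' ε' hεσ' x LI_B
  have hsp := Groth.Agent.S7486.span_x σ' τ' ε' p0' p1' c' hεσ' hετ' hcτ' hcσ' hp' x SP_B LI_D
  have hbij := Groth.Agent.S7486.bijective_phi σ' τ' ε' p0' p1' c' hεσ' hετ' hcτ' hcσ' hp' x
    LI_B SP_B LI_D
  obtain ⟨hR1, hR2⟩ := eqLocus_baseChange_flat τ C' hinj hC₀
  refine ⟨?_, ?_⟩
  · let E' := RingHom.eqLocus σ' τ'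
    let g : C' →+* E' :=
      (Algebra.TensorProduct.includeRight : C' →ₐ[C₀] A ⊗[C₀] C').toRingHom.codRestrict E'
        (fun c => by
          show σ' (1 ⊗ₜ c) = τ' (1 ⊗ₜ c)
          rw [bcHom_tmul, bcHom_tmul, map_one, map_one])
    have hg : Function.Bijective g := by
      constructor
      · intro c c' hcc
        exact hR1 (congrArg Subtype.val hcc)
      · intro e
        obtain ⟨c, hc⟩ := hR2 e.1 e.2
        exact ⟨c, Subtype.ext hc⟩
    let f : E' ≃+* C' := (RingEquiv.ofBijective g hg).symm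
    let bE : Module.Basis I E' (A ⊗[C₀] C') := Module.Basis.mk hli hsp
    let bC : Module.Basis I C' (A ⊗[C₀] C') := bE.mapCoeffs f (by
      intro e a
      obtain ⟨c, rfl⟩ := hg.2 e
      have : f (g c) = c := (RingEquiv.ofBijective g hg).symm_apply_apply c
      rw [this, Algebra.smul_def]
      rfl)
    haveI : Module.Free C' (A ⊗[C₀] C') := Module.Free.of_basis bC
    exact Module.Flat.trans C₀ C' (A ⊗[C₀] C')
  · let iL : A →ₐ[C₀] A ⊗[C₀] A :=
      Algebra.TensorProduct.includeLeft (R := C₀) (S := C₀) (A := A) (B := A)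
    let iR : A →ₐ[C₀] A ⊗[C₀] A := Algebra.TensorProduct.includeRight
    refine injective_of_core σ' τ' (bcHom C' iR) (bcHom C' iL) _ ?_ ?_ ?_ ?_ hbij
    · intro a
      refine bcHom_comp_eq C' iR _ τ ?_ a
      intro a
      simp [iR]
    · intro a
      refine bcHom_comp_eq C' iL _ σ₀ ?_ a
      intro a
      simp [iL]
      rfl
    · intro a ha
      obtain ⟨c, rfl⟩ := hR2 a ha
      show bcHom C' iR (1 ⊗ₜ c) = bcHom C' iL (1 ⊗ₜ c)
      rw [bcHom_tmul, bcHom_tmul, map_one, map_one]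
    · intro t
      induction t using TensorProduct.induction_on with
      | zero => exact zero_mem _
      | add t t' ht ht' => exact add_mem ht ht'
      | tmul z c =>
        induction z using TensorProduct.induction_on with
        | zero =>
          rw [TensorProduct.zero_tmul]
          exact zero_mem _
        | add z z' hz hz' =>
          rw [TensorProduct.add_tmul]
          exact add_mem hz hz'
        | tmul a a' =>
          refine AddSubmonoid.subset_closure ⟨a' ⊗ₜ c, a ⊗ₜ 1, ?_⟩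
          rw [bcHom_tmul, bcHom_tmul, Algebra.TensorProduct.tmul_mul_tmul, mul_one]
          congr 1
          simp [iL, iR]

end ALT

end Groth.Agent.Lib.Helper11.Ffg
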