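import Mathlib

/-!
# A family of flat local algebras with infinite residue fields detecting zero (helper11)

For a prime `𝔭` of `C`, `Cloc 𝔭` is the localization of `C[X]` at the prime `𝔭[X]`: a flat local
`C`-algebra with infinite residue field whose maximal ideal contracts to `𝔭`.
-/

set_option autoImplicit false
set_option linter.unusedSectionVars false
universe u

open TensorProduct Polynomial

namespace Groth.Agent.Lib.Helper11.LocFlat

variable {C : Type u} [CommRing C]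

instance (𝔭 : Ideal C) [𝔭.IsPrime] : (𝔭.map (Polynomial.C : C →+* C[X])).IsPrime :=
  (Ideal.isPrime_map_C_iff_isPrime 𝔭).mpr ‹_›

/-- the localization of `C[X]` at `𝔭[X]`. -/
abbrev Cloc (𝔭 : Ideal C) [𝔭.IsPrime] : Type u :=
  Localization.AtPrime (𝔭.map (Polynomial.C : C →+* C[X]))

variable (𝔭 : Ideal C) [𝔭.IsPrime]

instance : Module.Flat C (Cloc 𝔭) := Module.Flat.trans C C[X] (Cloc 𝔭)

theorem algebraMap_Cloc (a : C) :
    algebraMap C (Cloc 𝔭) a = algebraMap C[X] (Cloc 𝔭) (Polynomial.C a) := by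
  rw [IsScalarTower.algebraMap_apply C C[X] (Cloc 𝔭)]
  rfl

theorem comap_maximalIdeal :
    (IsLocalRing.maximalIdeal (Cloc 𝔭)).comap (algebraMap C (Cloc 𝔭)) = 𝔭 := by
  ext a
  rw [Ideal.mem_comap, algebraMap_Cloc,
    IsLocalization.AtPrime.to_map_mem_maximal_iff (Cloc 𝔭) (𝔭.map (Polynomial.C : C →+* C[X])),
    Ideal.mem_map_C_iff]
  constructor
  · intro h
    have := h 0
    simpa using this
  · intro h n
    rw [Polynomial.coeff_C]
    split_ifs
    · exact h
    · exact 𝔭.zero_mem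

theorem X_pow_sub_notMem {n m : ℕ} (hnm : n ≠ m) :
    (X ^ n - X ^ m : C[X]) ∉ 𝔭.map (Polynomial.C : C →+* C[X]) := by
  intro h
  rw [Ideal.mem_map_C_iff] at h
  have := h n
  rw [Polynomial.coeff_sub, Polynomial.coeff_X_pow, Polynomial.coeff_X_pow, if_pos rfl,
    if_neg hnm] at this
  simp only [sub_zero] at this
  exact (Ideal.ne_top_iff_one 𝔭).mp (Ideal.IsPrime.ne_top ‹_›) this

instance : Infinite (IsLocalRing.ResidueField (Cloc 𝔭)) := by
  let x : IsLocalRing.ResidueField (Cloc 𝔭) :=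
    IsLocalRing.residue (Cloc 𝔭) (algebraMap C[X] (Cloc 𝔭) X)
  refine Infinite.of_injective (fun n : ℕ => x ^ n) ?_
  intro n m h
  by_contra hnm
  have h1 : IsLocalRing.residue (Cloc 𝔭) (algebraMap C[X] (Cloc 𝔭) (X ^ n - X ^ m)) = 0 := by
    rw [map_sub, map_sub, map_pow, map_pow, map_pow, map_pow]
    exact sub_eq_zero.mpr h
  rw [IsLocalRing.residue_eq_zero_iff,
    IsLocalization.AtPrime.to_map_mem_maximal_iff (Cloc 𝔭)
      (𝔭.map (Polynomial.C : C →+* C[X]))] at h1
  exact X_pow_sub_notMem 𝔭 hnm h1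

/-- **Joint faithful flatness**: an element of a `C`-module that dies in `M ⊗ Cloc 𝔭` for every
maximal ideal `𝔭` is zero. -/
theorem eq_zero_of_forall_tmul_eq_zero {M : Type*} [AddCommGroup M] [Module C M] (z : M)
    (h : ∀ (𝔭 : Ideal C) [𝔭.IsMaximal], z ⊗ₜ[C] (1 : Cloc 𝔭) = 0) : z = 0 := by
  by_contra hz
  let I : Ideal C := LinearMap.ker (LinearMap.toSpanSingleton C M z)
  have hI : I ≠ ⊤ := by
    intro hI
    have : (1 : C) ∈ I := hI ▸ Submodule.mem_top
    rw [LinearMap.mem_ker, LinearMap.toSpanSingleton_apply, one_smul] at this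
    exact hz this
  obtain ⟨𝔭, h𝔭, hI𝔭⟩ := Ideal.exists_le_maximal I hI
  haveI := h𝔭
  let K := IsLocalRing.ResidueField (Cloc 𝔭)
  let f : (C ⧸ I) →ₗ[C] M := Submodule.liftQ I (LinearMap.toSpanSingleton C M z) le_rfl
  have hf : Function.Injective f := by
    rw [← LinearMap.ker_eq_bot]
    exact Submodule.ker_liftQ_eq_bot _ _ _ le_rfl
  have hf' : Function.Injective (f.rTensor (Cloc 𝔭)) :=
    Module.Flat.rTensor_preserves_injective_linearMap f hf
  have h1 : f.rTensor (Cloc 𝔭) ((Submodule.Quotient.mk (1 : C) : C ⧸ I) ⊗ₜ[C] (1 : Cloc 𝔭)) = 0 := by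
    rw [LinearMap.rTensor_tmul]
    have : f (Submodule.Quotient.mk (1 : C)) = z := by
      change Submodule.liftQ I (LinearMap.toSpanSingleton C M z) le_rfl (Submodule.Quotient.mk 1) = z
      rw [Submodule.liftQ_apply, LinearMap.toSpanSingleton_apply, one_smul]
    rw [this]
    exact h 𝔭
  have h2 : ((Submodule.Quotient.mk (1 : C) : C ⧸ I) ⊗ₜ[C] (1 : Cloc 𝔭)) = 0 :=
    hf' (h1.trans (map_zero _).symm)
  -- map to the residue field
  have hIK : I ≤ LinearMap.ker (Algebra.linearMap C K) := by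
    intro a ha
    rw [LinearMap.mem_ker, Algebra.linearMap_apply,
      IsScalarTower.algebraMap_apply C (Cloc 𝔭) K]
    change IsLocalRing.residue (Cloc 𝔭) (algebraMap C (Cloc 𝔭) a) = 0
    rw [IsLocalRing.residue_eq_zero_iff, ← Ideal.mem_comap, comap_maximalIdeal]
    exact hI𝔭 ha
  let g₁ : (C ⧸ I) →ₗ[C] K := Submodule.liftQ I (Algebra.linearMap C K) hIK
  let g₂ : Cloc 𝔭 →ₗ[C] K := (IsScalarTower.toAlgHom C (Cloc 𝔭) K).toLinearMap
  have h3 := congrArg (LinearMap.mul' C K ∘ₗ TensorProduct.map g₁ g₂) h2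
  rw [map_zero, LinearMap.comp_apply, TensorProduct.map_tmul, LinearMap.mul'_apply] at h3
  have h4 : g₁ (Submodule.Quotient.mk (1 : C)) = 1 := by
    change Submodule.liftQ I (Algebra.linearMap C K) hIK (Submodule.Quotient.mk 1) = 1
    rw [Submodule.liftQ_apply, Algebra.linearMap_apply, map_one]
  have h5 : g₂ 1 = 1 := map_one (IsScalarTower.toAlgHom C (Cloc 𝔭) K)
  rw [h4, h5, one_mul] at h3
  exact one_ne_zero h3

end Groth.Agent.Lib.Helper11.LocFlat
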