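import Mathlib
import Groth.Agent.Lib.Helper11LocFlat
import Groth.Agent.Lib.Helper11FfgLocal3

/-!
# The ring-theoretic quotient theorem for finite locally free equivalence relations (helper11)
-/

set_option autoImplicit false
set_option linter.style.haveILetI false
set_option linter.unusedSectionVars false
universe u

open TensorProduct Polynomial CategoryTheory CategoryTheory.Limits

namespace Groth.Agent.Lib.Helper11.LocFlat

/-- flatness can be checked after base change to the family `Cloc 𝔭`. -/
theorem flat_of_forall_flat_tensor {C : Type u} [CommRing C] {M : Type u} [AddCommGroup M]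
    [Module C M]
    (h : ∀ (𝔭 : Ideal C) [𝔭.IsMaximal], Module.Flat C (M ⊗[C] Cloc 𝔭)) : Module.Flat C M := by
  rw [Module.Flat.iff_rTensor_injective']
  intro I
  rw [injective_iff_map_eq_zero]
  intro z hz
  refine eq_zero_of_forall_tmul_eq_zero (C := C) z ?_
  intro 𝔭 _
  let j : M →ₗ[C] M ⊗[C] Cloc 𝔭 := (TensorProduct.mk C M (Cloc 𝔭)).flip 1
  have h1 : (LinearMap.rTensor (M ⊗[C] Cloc 𝔭) I.subtype) (LinearMap.lTensor I j z) =
      LinearMap.lTensor C j (LinearMap.rTensor M I.subtype z) := by
    rw [← LinearMap.comp_apply, ← LinearMap.comp_apply, LinearMap.rTensor_comp_lTensor,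
      LinearMap.lTensor_comp_rTensor]
  rw [hz, map_zero] at h1
  have h2 : LinearMap.lTensor I j z = 0 := by
    haveI := h 𝔭
    have := (Module.Flat.iff_rTensor_injective' (R := C) (M := M ⊗[C] Cloc 𝔭)).mp inferInstance I
    exact this (h1.trans (map_zero _).symm)
  have h3 : ∀ z : I ⊗[C] M, z ⊗ₜ[C] (1 : Cloc 𝔭) =
      (TensorProduct.assoc C I M (Cloc 𝔭)).symm (LinearMap.lTensor I j z) := by
    intro z
    induction z using TensorProduct.induction_on with
    | zero => simp
    | tmul a m => simp [j]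
    | add z w hz hw => rw [TensorProduct.add_tmul, hz, hw, map_add, map_add]
  rw [h3, h2, map_zero]

end Groth.Agent.Lib.Helper11.LocFlat

namespace Groth.Agent.Lib.Helper11.Ffg

open Groth.Agent.Lib.Helper2.RetCharpoly Groth.Agent.Lib.Helper11.LocFlat

section Global

variable {C₀ A B D : Type u} [CommRing C₀] [CommRing A] [CommRing B] [CommRing D] [Algebra C₀ A]
  [Algebra A B] [Algebra C₀ B] [IsScalarTower C₀ A B] [Algebra C₀ D]
  {τ : A →ₐ[C₀] B} {ε : B →ₐ[C₀] A} {p0 p1 c : B →ₐ[C₀] D} {n : ℕ} {r : Ret A B n}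

/-- **The ring-theoretic quotient theorem**: for an affine finite locally free equivalence
relation, `A` is finite locally free over the invariants `C₀` and `A ⊗_{C₀} A ≅ B`. -/
theorem global_main [Algebra.IsIntegral C₀ A] [Algebra.FinitePresentation A B]
    (h : HInv (τ : A →+* B) r)
    (hinj : Function.Injective (algebraMap C₀ A))
    (hC₀ : ∀ x : A, algebraMap A B x = τ x → x ∈ Set.range (algebraMap C₀ A))
    (hεσ : ∀ a, ε (algebraMap A B a) = a) (hετ : ∀ a, ε (τ a) = a)
    (hψ : ∀ b : B, b ∈ Submodule.span A (Set.range τ))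
    (hcτ : ∀ a, c (τ a) = p0 (τ a)) (hcσ : ∀ a, c (algebraMap A B a) = p1 (algebraMap A B a))
    (hp : ∀ a, p0 (algebraMap A B a) = p1 (τ a))
    (hD : IsPushout (CommRingCat.ofHom (IsScalarTower.toAlgHom C₀ A B).toRingHom)
      (CommRingCat.ofHom τ.toRingHom) (CommRingCat.ofHom p0.toRingHom)
      (CommRingCat.ofHom p1.toRingHom)) :
    Function.Bijective (Algebra.TensorProduct.productMap (IsScalarTower.toAlgHom C₀ A B) τ) ∧
      Module.Flat C₀ A ∧ Module.Finite C₀ A ∧ Algebra.FinitePresentation C₀ A := by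
  have hloc := fun (𝔭 : Ideal C₀) (_ : 𝔭.IsMaximal) =>
    local_main (τ := τ) (ε := ε) (p0 := p0) (p1 := p1) (c := c) (r := r) (Cloc 𝔭) h hinj hC₀
      hεσ hετ hψ hcτ hcσ hp hD
  set ψ := Algebra.TensorProduct.productMap (IsScalarTower.toAlgHom C₀ A B) τ with hψdef
  have hflat : Module.Flat C₀ A := flat_of_forall_flat_tensor fun 𝔭 _ => (hloc 𝔭 ‹_›).1
  have hbij : Function.Bijective ψ := by
    constructor
    · rw [injective_iff_map_eq_zero]
      intro z hz
      refine eq_zero_of_forall_tmul_eq_zero (C := C₀) z ?_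
      intro 𝔭 _
      apply (hloc 𝔭 ‹_›).2
      rw [bcHom_tmul, hz, map_zero, TensorProduct.zero_tmul]
    · intro b
      have := hψ b
      induction this using Submodule.span_induction with
      | mem b hb =>
        obtain ⟨a, rfl⟩ := hb
        exact ⟨1 ⊗ₜ a, by simp [ψ]⟩
      | zero => exact ⟨0, map_zero _⟩
      | add b b' _ _ hb hb' =>
        obtain ⟨z, rfl⟩ := hb
        obtain ⟨z', rfl⟩ := hb'
        exact ⟨z + z', map_add _ _ _⟩
      | smul a b _ hb =>
        obtain ⟨z, rfl⟩ := hb
        refine ⟨(a ⊗ₜ 1) * z, ?_⟩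
        rw [map_mul, Algebra.smul_def]
        congr 1
        simp [ψ]
  haveI := hflat
  haveI : FaithfulSMul C₀ A := (faithfulSMul_iff_algebraMap_injective C₀ A).mpr hinj
  haveI : Module.FaithfullyFlat C₀ A :=
    Module.FaithfullyFlat.of_comap_surjective (Algebra.IsIntegral.comap_surjective C₀ A)
  let ψA : A ⊗[C₀] A →ₐ[A] B := Algebra.TensorProduct.productLeftAlgHom (Algebra.ofId A B) τ
  have hψA : ∀ z, ψA z = ψ z := by
    intro z
    induction z using TensorProduct.induction_on with
    | zero => simp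
    | tmul a a' => simp [ψA, ψ]
    | add z w hz hw => rw [map_add, map_add, hz, hw]
  have hbijA : Function.Bijective ψA := by
    have : (ψA : A ⊗[C₀] A → B) = ψ := funext hψA
    rw [this]
    exact hbij
  let e : A ⊗[C₀] A ≃ₐ[A] B := AlgEquiv.ofBijective ψA hbijA
  haveI : Module.Finite A B := finite_of_ret r
  haveI : Module.Finite A (A ⊗[C₀] A) := Module.Finite.equiv e.symm.toLinearEquiv
  haveI : Algebra.FinitePresentation A (A ⊗[C₀] A) := Algebra.FinitePresentation.equiv e.symm
  refine ⟨hbij, hflat, ?_, ?_⟩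
  · exact Module.Finite.of_finite_tensorProduct_of_faithfullyFlat A
  · exact Algebra.FinitePresentation.of_finitePresentation_tensorProduct_of_faithfullyFlat A

end Global

end Groth.Agent.Lib.Helper11.Ffg
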