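import Mathlib
import Groth.Prelude
import Groth.Agent.Lib.Helper11FfgGlobal
import Groth.Agent.Lib.Helper11FfgChart

/-!
# Scheme-level assembly: affine finite locally free equivalence relations (helper11)
-/

set_option autoImplicit false
set_option linter.style.haveILetI false
set_option linter.unusedSectionVars false
universe u

open TensorProduct CategoryTheory CategoryTheory.Limits AlgebraicGeometry

namespace Groth.Agent.Lib.Helper11.Ffg

open Groth.Agent.Lib.Helper2.RetCharpoly

/-- converse of `isPushout_appTop_of_isPullback`. -/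
theorem isPullback_of_isPushout_appTop {P X Y Z : Scheme.{u}} [IsAffine P] [IsAffine X]
    [IsAffine Y] [IsAffine Z] {fst : P ⟶ X} {snd : P ⟶ Y} {f : X ⟶ Z} {g : Y ⟶ Z}
    (h : IsPushout f.appTop g.appTop fst.appTop snd.appTop) : IsPullback fst snd f g := by
  have h1 : IsPullback (AffineScheme.Γ.rightOp.map (AffineScheme.ofHom fst))
      (AffineScheme.Γ.rightOp.map (AffineScheme.ofHom snd))
      (AffineScheme.Γ.rightOp.map (AffineScheme.ofHom f))
      (AffineScheme.Γ.rightOp.map (AffineScheme.ofHom g)) := h.op.flip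
  have h2 : IsPullback (AffineScheme.ofHom fst) (AffineScheme.ofHom snd) (AffineScheme.ofHom f)
      (AffineScheme.ofHom g) := IsPullback.of_map_of_faithful AffineScheme.Γ.rightOp h1
  exact IsPullback.map AffineScheme.forgetToScheme h2

theorem mem_closure_of_isPushout {R S T P : CommRingCat.{u}} {f : R ⟶ S} {g : R ⟶ T}
    {inl : S ⟶ P} {inr : T ⟶ P} (h : IsPushout f g inl inr) (z : P) :
    z ∈ AddSubmonoid.closure {z : P | ∃ s t, z = inl.hom s * inr.hom t} := by
  algebraize [f.hom, g.hom, inl.hom, inr.hom, inl.hom.comp f.hom]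
  have : IsScalarTower R T P := .of_algebraMap_eq' <| congr($(h.1.1).hom)
  have h1 : Algebra.IsPushout R S T P := CommRingCat.isPushout_iff_isPushout.mp h
  let e : S ⊗[R] T ≃ₐ[S] P := Algebra.IsPushout.equiv R S T P
  obtain ⟨w, rfl⟩ := e.surjective z
  induction w using TensorProduct.induction_on with
  | zero =>
    rw [map_zero]
    exact zero_mem _
  | tmul s t =>
    exact AddSubmonoid.subset_closure ⟨s, t, Algebra.IsPushout.equiv_tmul ..⟩
  | add w w' hw hw' =>
    rw [map_add]
    exact add_mem hw hw'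

variable {S : Scheme.{u}} (G : Grpd.GroupoidScheme S)

/-- the comparison map `R → U ×_M U`. -/
noncomputable def hMap : G.R ⟶ pullback G.toQuot G.toQuot :=
  pullback.lift G.t G.s (t_toQuot G)

@[reassoc (attr := simp)]
theorem hMap_fst : hMap G ≫ pullback.fst _ _ = G.t := pullback.lift_fst _ _ _

@[reassoc (attr := simp)]
theorem hMap_snd : hMap G ≫ pullback.snd _ _ = G.s := pullback.lift_snd _ _ _

instance mono_hMap [Mono G.j] : Mono (hMap G) := by
  refine ⟨fun {Z} a b hab => ?_⟩
  have h1 : a ≫ G.t = b ≫ G.t := by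
    have := congrArg (· ≫ pullback.fst _ _) hab
    simpa using this
  have h2 : a ≫ G.s = b ≫ G.s := by
    have := congrArg (· ≫ pullback.snd _ _) hab
    simpa using this
  rw [← cancel_mono G.j]
  unfold Grpd.GroupoidScheme.j
  apply pullback.hom_ext
  · rw [Category.assoc, Category.assoc, pullback.lift_fst]
    exact h1
  · rw [Category.assoc, Category.assoc, pullback.lift_snd]
    exact h2

instance isFinite_hMap [IsAffine G.U] [IsFinite G.s] : IsFinite (hMap G) := by
  haveI : IsFinite (hMap G ≫ pullback.snd G.toQuot G.toQuot) := by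
    rw [hMap_snd]
    infer_instance
  exact IsFinite.of_comp (hMap G) (pullback.snd G.toQuot G.toQuot)

instance isClosedImmersion_hMap [IsAffine G.U] [IsFinite G.s] [Mono G.j] :
    IsClosedImmersion (hMap G) :=
  (IsClosedImmersion.iff_isFinite_and_mono _).mpr ⟨inferInstance, inferInstance⟩

/-- for an equivalence relation, `Γ(R)` is spanned over `Γ(U)` (through `s`) by the image of
`t`. -/
theorem span_tau [IsAffine G.U] [IsAffine G.R] [IsFinite G.s] [Mono G.j] (b : Γ(G.R, ⊤)) :
    letI := G.s.appTop.hom.toAlgebra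
    b ∈ Submodule.span Γ(G.U, ⊤) (Set.range G.t.appTop.hom) := by
  letI := G.s.appTop.hom.toAlgebra
  obtain ⟨-, hsurj⟩ := IsClosedImmersion.isAffine_surjective_of_isAffine (hMap G)
  obtain ⟨z, rfl⟩ := hsurj b
  have hP := isPushout_appTop_of_isPullback (IsPullback.of_hasPullback G.toQuot G.toQuot)
  have hz := mem_closure_of_isPushout hP z
  induction hz using AddSubmonoid.closure_induction with
  | mem z hz =>
    obtain ⟨a, a', rfl⟩ := hz
    have e1 : (hMap G).appTop.hom ((pullback.fst G.toQuot G.toQuot).appTop.hom a) =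
        G.t.appTop.hom a := by
      have h := Scheme.Hom.comp_appTop (hMap G) (pullback.fst G.toQuot G.toQuot)
      rw [hMap_fst] at h
      rw [h]
      rfl
    have e2 : (hMap G).appTop.hom ((pullback.snd G.toQuot G.toQuot).appTop.hom a') =
        G.s.appTop.hom a' := by
      have h := Scheme.Hom.comp_appTop (hMap G) (pullback.snd G.toQuot G.toQuot)
      rw [hMap_snd] at h
      rw [h]
      rfl
    have e3 : (hMap G).appTop.hom ((pullback.fst G.toQuot G.toQuot).appTop.hom a *
        (pullback.snd G.toQuot G.toQuot).appTop.hom a') = a' • G.t.appTop.hom a := by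
      rw [map_mul, e1, e2, Algebra.smul_def, mul_comm]
      rfl
    change (hMap G).appTop.hom _ ∈ _
    rw [e3]
    exact Submodule.smul_mem _ _ (Submodule.subset_span ⟨a, rfl⟩)
  | zero =>
    change (hMap G).appTop.hom 0 ∈ _
    rw [map_zero]
    exact Submodule.zero_mem _
  | add z z' _ _ hz hz' =>
    change (hMap G).appTop.hom (z + z') ∈ _
    rw [map_add]
    exact Submodule.add_mem _ hz hz'

/-- **Quotient by an affine finite locally free equivalence relation** (Stacks 03BM). -/
theorem main_eq [IsAffine G.U] [IsAffine G.R] [IsFinite G.s] [Flat G.s]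
    [LocallyOfFinitePresentation G.s] [Mono G.j] :
    (IsFinite G.toQuot ∧ Flat G.toQuot ∧ LocallyOfFinitePresentation G.toQuot) ∧
      IsPullback G.t G.s G.toQuot G.toQuot := by
  letI := G.s.appTop.hom.toAlgebra
  letI : Algebra G.invariants Γ(G.R, ⊤) := (G.s.appTop.hom.comp G.invariants.subtype).toAlgebra
  haveI : IsScalarTower G.invariants Γ(G.U, ⊤) Γ(G.R, ⊤) := .of_algebraMap_eq (fun _ => rfl)
  obtain ⟨n, r, hinv⟩ := exists_ret_hinv G
  haveI : Algebra.IsIntegral G.invariants Γ(G.U, ⊤) := Groth.Agent.S1879.main S G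
  haveI : Algebra.FinitePresentation Γ(G.U, ⊤) Γ(G.R, ⊤) := G.s.finitePresentation_appTop
  let p0r := (pullback.fst G.s G.t).appTop.hom
  let p1r := (pullback.snd G.s G.t).appTop.hom
  let cr := G.c.appTop.hom
  have hcτ : ∀ a, cr (G.t.appTop.hom a) = p0r (G.t.appTop.hom a) := by
    intro a
    have := congrArg (fun φ : pullback G.s G.t ⟶ G.U => φ.appTop.hom a) (Groth.Agent.S1880.c_t G)
    simpa [Scheme.Hom.comp_appTop] using this
  have hcσ : ∀ a, cr (G.s.appTop.hom a) = p1r (G.s.appTop.hom a) := by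
    intro a
    have := congrArg (fun φ : pullback G.s G.t ⟶ G.U => φ.appTop.hom a) (Groth.Agent.S1880.c_s G)
    simpa [Scheme.Hom.comp_appTop] using this
  have hp : ∀ a, p0r (G.s.appTop.hom a) = p1r (G.t.appTop.hom a) := by
    intro a
    have := congrArg (fun φ : pullback G.s G.t ⟶ G.U => φ.appTop.hom a)
      (pullback.condition (f := G.s) (g := G.t))
    simpa [Scheme.Hom.comp_appTop] using this
  letI : Algebra G.invariants Γ(pullback G.s G.t, ⊤) :=
    ((p1r.comp G.s.appTop.hom).comp G.invariants.subtype).toAlgebra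
  let τ : Γ(G.U, ⊤) →ₐ[G.invariants] Γ(G.R, ⊤) :=
    { G.t.appTop.hom with commutes' := fun c => (c.2).symm }
  let ε : Γ(G.R, ⊤) →ₐ[G.invariants] Γ(G.U, ⊤) :=
    { G.e.appTop.hom with commutes' := fun c => e_sigma G c }
  let p1 : Γ(G.R, ⊤) →ₐ[G.invariants] Γ(pullback G.s G.t, ⊤) :=
    { p1r with commutes' := fun c => rfl }
  have hp0c : ∀ c : G.invariants, p0r (G.s.appTop.hom c) = p1r (G.s.appTop.hom c) := by
    intro c
    rw [hp]
    congr 1
    exact c.2.symm
  let p0 : Γ(G.R, ⊤) →ₐ[G.invariants] Γ(pullback G.s G.t, ⊤) :=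
    { p0r with commutes' := fun c => hp0c c }
  let c : Γ(G.R, ⊤) →ₐ[G.invariants] Γ(pullback G.s G.t, ⊤) :=
    { cr with commutes' := fun c => hcσ c }
  have hD : IsPushout (CommRingCat.ofHom
      (IsScalarTower.toAlgHom G.invariants Γ(G.U, ⊤) Γ(G.R, ⊤)).toRingHom)
      (CommRingCat.ofHom τ.toRingHom) (CommRingCat.ofHom p0.toRingHom)
      (CommRingCat.ofHom p1.toRingHom) :=
    isPushout_appTop_of_isPullback (IsPullback.of_hasPullback G.s G.t)
  obtain ⟨hbij, hflat, hfin, hfp⟩ := global_main (τ := τ) (ε := ε) (p0 := p0) (p1 := p1) (c := c)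
    (r := r) hinv Subtype.val_injective (fun x hx => ⟨⟨x, hx⟩, rfl⟩) (e_sigma G) (e_tau G)
    (span_tau G) hcτ hcσ hp hD
  refine ⟨?_, ?_⟩
  · unfold Grpd.GroupoidScheme.toQuot
    have h1 : IsFinite (Spec.map (CommRingCat.ofHom G.invariants.subtype)) := by
      rw [IsFinite.SpecMap_iff]
      exact hfin
    have h2 : Flat (Spec.map (CommRingCat.ofHom G.invariants.subtype)) := by
      rw [Flat.SpecMap_iff]
      exact hflat
    have h3 : LocallyOfFinitePresentation (Spec.map (CommRingCat.ofHom G.invariants.subtype)) := by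
      rw [LocallyOfFinitePresentation.SpecMap_iff]
      exact hfp
    exact ⟨inferInstance, inferInstance, inferInstance⟩
  · apply isPullback_of_isPushout_appTop
    have h0 := CommRingCat.isPushout_tensorProduct G.invariants Γ(G.U, ⊤) Γ(G.U, ⊤)
    let e₄ : CommRingCat.of (Γ(G.U, ⊤) ⊗[G.invariants] Γ(G.U, ⊤)) ≅ Γ(G.R, ⊤) :=
      (RingEquiv.ofBijective _ hbij).toCommRingCatIso
    have h1 : IsPushout G.toQuot.appTop G.toQuot.appTop G.s.appTop G.t.appTop := by
      refine h0.of_iso (Scheme.ΓSpecIso (CommRingCat.of G.invariants)).symm (Iso.refl _)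
        (Iso.refl _) e₄ ?_ ?_ ?_ ?_
      · rw [toQuot_appTop, Iso.symm_hom, Iso.inv_hom_id_assoc]
        rfl
      · rw [toQuot_appTop, Iso.symm_hom, Iso.inv_hom_id_assoc]
        rfl
      · ext a
        simp [e₄]
        rfl
      · ext a
        simp [e₄]
        rfl
    exact h1.flip

end Groth.Agent.Lib.Helper11.Ffg
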