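import Mathlib
import Groth.Prelude.Def_Grpd
import Groth.Agent.Lib.Helper2Grpd
import Groth.Agent.Lib.Helper11FfgOpen

/-!
# Restriction of a groupoid scheme to an invariant open (helper11)
-/

set_option autoImplicit false
set_option linter.style.haveILetI false
set_option linter.unusedSectionVars false
universe u

open CategoryTheory CategoryTheory.Limits AlgebraicGeometry

namespace Groth.Agent.Lib.Helper11.Ffg

open Groth.Agent.Lib.Helper2.Grpd

variable {S : Scheme.{u}} (G : Grpd.GroupoidScheme S) (W : G.U.Opens)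
  (hW : G.s ⁻¹ᵁ W = G.t ⁻¹ᵁ W)

namespace Res

/-- the inclusion of the arrows over `W`. -/
noncomputable abbrev ιR : (G.s ⁻¹ᵁ W).toScheme ⟶ G.R := (G.s ⁻¹ᵁ W).ι

include hW in
theorem range_t : Set.range ((G.s ⁻¹ᵁ W).ι ≫ G.t) ⊆ Set.range W.ι := by
  rintro _ ⟨y, rfl⟩
  have h1 : (G.s ⁻¹ᵁ W).ι y ∈ G.s ⁻¹ᵁ W := y.2
  have h2 : (G.s ⁻¹ᵁ W).ι y ∈ G.t ⁻¹ᵁ W := (SetLike.ext_iff.mp hW _).mp h1
  rw [Scheme.Opens.range_ι]
  exact h2

/-- restricted target map. -/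
noncomputable def t' : (G.s ⁻¹ᵁ W).toScheme ⟶ W.toScheme :=
  IsOpenImmersion.lift W.ι ((G.s ⁻¹ᵁ W).ι ≫ G.t) (range_t G W hW)

theorem t'_ι : t' G W hW ≫ W.ι = (G.s ⁻¹ᵁ W).ι ≫ G.t := IsOpenImmersion.lift_fac _ _ _

theorem s'_ι : (G.s ∣_ W) ≫ W.ι = (G.s ⁻¹ᵁ W).ι ≫ G.s := morphismRestrict_ι _ _

theorem range_e : Set.range (W.ι ≫ G.e) ⊆ Set.range (G.s ⁻¹ᵁ W).ι := by
  rintro _ ⟨y, rfl⟩
  rw [Scheme.Opens.range_ι]
  show G.s ((W.ι ≫ G.e) y) ∈ W
  rw [Scheme.Hom.comp_apply, s_e_pt]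
  exact y.2

/-- restricted identity. -/
noncomputable def e' : W.toScheme ⟶ (G.s ⁻¹ᵁ W).toScheme :=
  IsOpenImmersion.lift (G.s ⁻¹ᵁ W).ι (W.ι ≫ G.e) (range_e G W)

theorem e'_ι : e' G W ≫ (G.s ⁻¹ᵁ W).ι = W.ι ≫ G.e := IsOpenImmersion.lift_fac _ _ _

include hW in
theorem range_i : Set.range ((G.s ⁻¹ᵁ W).ι ≫ G.i) ⊆ Set.range (G.s ⁻¹ᵁ W).ι := by
  rintro _ ⟨y, rfl⟩
  rw [Scheme.Opens.range_ι]
  show G.s (((G.s ⁻¹ᵁ W).ι ≫ G.i) y) ∈ W
  rw [Scheme.Hom.comp_apply, s_i_pt]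
  have h1 : (G.s ⁻¹ᵁ W).ι y ∈ G.s ⁻¹ᵁ W := y.2
  exact (SetLike.ext_iff.mp hW _).mp h1

/-- restricted inverse. -/
noncomputable def i' : (G.s ⁻¹ᵁ W).toScheme ⟶ (G.s ⁻¹ᵁ W).toScheme :=
  IsOpenImmersion.lift (G.s ⁻¹ᵁ W).ι ((G.s ⁻¹ᵁ W).ι ≫ G.i) (range_i G W hW)

theorem i'_ι : i' G W hW ≫ (G.s ⁻¹ᵁ W).ι = (G.s ⁻¹ᵁ W).ι ≫ G.i := IsOpenImmersion.lift_fac _ _ _

/-- the map on composable pairs. -/
noncomputable def pm : pullback (G.s ∣_ W) (t' G W hW) ⟶ pullback G.s G.t :=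
  pullback.map _ _ _ _ (G.s ⁻¹ᵁ W).ι (G.s ⁻¹ᵁ W).ι W.ι (s'_ι G W) (t'_ι G W hW)

theorem range_c : Set.range (pm G W hW ≫ G.c) ⊆ Set.range (G.s ⁻¹ᵁ W).ι := by
  rintro _ ⟨y, rfl⟩
  rw [Scheme.Opens.range_ι]
  show G.s ((pm G W hW ≫ G.c) y) ∈ W
  have : G.s ((pm G W hW ≫ G.c) y) = ((pm G W hW ≫ G.c) ≫ G.s) y := rfl
  rw [this, Category.assoc, Groth.Agent.S1880.c_s, pm, pullback.map]
  rw [← Category.assoc, pullback.lift_snd, Category.assoc, Scheme.Hom.comp_apply,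
    Scheme.Hom.comp_apply]
  exact (pullback.snd (G.s ∣_ W) (t' G W hW) y).2

/-- restricted composition. -/
noncomputable def c' : pullback (G.s ∣_ W) (t' G W hW) ⟶ (G.s ⁻¹ᵁ W).toScheme :=
  IsOpenImmersion.lift (G.s ⁻¹ᵁ W).ι (pm G W hW ≫ G.c) (range_c G W hW)

theorem c'_ι : c' G W hW ≫ (G.s ⁻¹ᵁ W).ι = pm G W hW ≫ G.c := IsOpenImmersion.lift_fac _ _ _

variable {T : Scheme.{u}}

theorem compat (α β : T ⟶ (G.s ⁻¹ᵁ W).toScheme) (h : α ≫ (G.s ∣_ W) = β ≫ t' G W hW) :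
    (α ≫ (G.s ⁻¹ᵁ W).ι) ≫ G.s = (β ≫ (G.s ⁻¹ᵁ W).ι) ≫ G.t := by
  rw [Category.assoc, ← s'_ι, ← Category.assoc, h, Category.assoc, t'_ι, Category.assoc]

theorem lift_c' (α β : T ⟶ (G.s ⁻¹ᵁ W).toScheme) (h : α ≫ (G.s ∣_ W) = β ≫ t' G W hW) :
    (pullback.lift α β h ≫ c' G W hW) ≫ (G.s ⁻¹ᵁ W).ι =
      comp G (α ≫ (G.s ⁻¹ᵁ W).ι) (β ≫ (G.s ⁻¹ᵁ W).ι) (compat G W hW α β h) := by
  rw [Category.assoc, c'_ι, ← Category.assoc]
  unfold comp
  congr 1
  apply pullback.hom_ext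
  · rw [pullback.lift_fst, pm, Category.assoc, pullback.lift_fst, ← Category.assoc,
      pullback.lift_fst]
  · rw [pullback.lift_snd, pm, Category.assoc, pullback.lift_snd, ← Category.assoc,
      pullback.lift_snd]

theorem s'_ι_assoc' (α : T ⟶ (G.s ⁻¹ᵁ W).toScheme) :
    (α ≫ (G.s ∣_ W)) ≫ W.ι = (α ≫ (G.s ⁻¹ᵁ W).ι) ≫ G.s := by
  rw [Category.assoc, s'_ι, Category.assoc]

theorem t'_ι_assoc' (α : T ⟶ (G.s ⁻¹ᵁ W).toScheme) :
    (α ≫ t' G W hW) ≫ W.ι = (α ≫ (G.s ⁻¹ᵁ W).ι) ≫ G.t := by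
  rw [Category.assoc, t'_ι, Category.assoc]

end Res

open Res in
/-- the restriction of a groupoid scheme to an invariant open. -/
noncomputable def restrict : Grpd.GroupoidScheme S where
  U := W.toScheme
  R := (G.s ⁻¹ᵁ W).toScheme
  pU := W.ι ≫ G.pU
  pR := (G.s ⁻¹ᵁ W).ι ≫ G.pR
  s := G.s ∣_ W
  t := t' G W hW
  e := e' G W
  i := i' G W hW
  c := c' G W hW
  s_over := by rw [← Category.assoc, s'_ι, Category.assoc, G.s_over]
  t_over := by rw [← Category.assoc, t'_ι, Category.assoc, G.t_over]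
  comp_s := fun α β h => by
    rw [← cancel_mono W.ι, s'_ι_assoc', lift_c', comp_s, s'_ι_assoc']
  comp_t := fun α β h => by
    rw [← cancel_mono W.ι, t'_ι_assoc', lift_c', comp_t, t'_ι_assoc']
  assoc := fun α β γ h₁ h₂ => by
    rw [← cancel_mono (G.s ⁻¹ᵁ W).ι]
    refine (lift_c' G W hW _ _ _).trans ?_
    refine Eq.trans ?_ (lift_c' G W hW _ _ _).symm
    refine (comp_congr G _ (lift_c' G W hW α β h₁) rfl).trans ?_
    refine Eq.trans ?_ (comp_congr G _ rfl (lift_c' G W hW β γ h₂)).symm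
    exact comp_assoc G _ _ _ (compat G W hW α β h₁) (compat G W hW β γ h₂)
  e_s := by
    rw [← cancel_mono W.ι, Category.assoc, s'_ι, ← Category.assoc, e'_ι, Category.assoc, G.e_s,
      Category.comp_id, Category.id_comp]
  e_t := by
    rw [← cancel_mono W.ι, Category.assoc, t'_ι, ← Category.assoc, e'_ι, Category.assoc, G.e_t,
      Category.comp_id, Category.id_comp]
  comp_e := fun α => by
    rw [← cancel_mono (G.s ⁻¹ᵁ W).ι, lift_c']
    refine comp_e G _ _ ?_ _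
    rw [Category.assoc, Category.assoc, e'_ι, ← Category.assoc, ← Category.assoc,
      s'_ι_assoc', Category.assoc, Category.assoc]
  e_comp := fun α => by
    rw [← cancel_mono (G.s ⁻¹ᵁ W).ι, lift_c']
    refine e_comp G _ _ ?_ _
    rw [Category.assoc, Category.assoc, e'_ι, ← Category.assoc, ← Category.assoc,
      t'_ι_assoc', Category.assoc, Category.assoc]
  i_s := by
    rw [← cancel_mono W.ι, Category.assoc, s'_ι, ← Category.assoc, i'_ι, Category.assoc, G.i_s,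
      t'_ι]
  i_t := by
    rw [← cancel_mono W.ι, Category.assoc, t'_ι, ← Category.assoc, i'_ι, Category.assoc, G.i_t,
      s'_ι]
  comp_i := fun α => by
    rw [← cancel_mono (G.s ⁻¹ᵁ W).ι, lift_c']
    have h1 : (α ≫ i' G W hW) ≫ (G.s ⁻¹ᵁ W).ι = (α ≫ (G.s ⁻¹ᵁ W).ι) ≫ G.i := by
      rw [Category.assoc, i'_ι, Category.assoc]
    rw [comp_congr G _ rfl h1, comp_i]
    simp only [Category.assoc, e'_ι]
    rw [← Category.assoc (t' G W hW), t'_ι, Category.assoc]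
  i_comp := fun α => by
    rw [← cancel_mono (G.s ⁻¹ᵁ W).ι, lift_c']
    have h1 : (α ≫ i' G W hW) ≫ (G.s ⁻¹ᵁ W).ι = (α ≫ (G.s ⁻¹ᵁ W).ι) ≫ G.i := by
      rw [Category.assoc, i'_ι, Category.assoc]
    rw [comp_congr G _ h1 rfl, i_comp]
    simp only [Category.assoc, e'_ι]
    rw [← Category.assoc (G.s ∣_ W), s'_ι, Category.assoc]

section hom

variable {G} {G₁ G₂ : Grpd.GroupoidScheme S} (fU : G₁.U ⟶ G₂.U) (fR : G₁.R ⟶ G₂.R)
  (hs : fR ≫ G₂.s = G₁.s ≫ fU) (ht : fR ≫ G₂.t = G₁.t ≫ fU)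

include hs ht in
theorem mem_invariants_of_hom (x : Γ(G₂.U, ⊤)) (hx : x ∈ G₂.invariants) :
    fU.appTop.hom x ∈ G₁.invariants := by
  change G₁.s.appTop.hom (fU.appTop.hom x) = G₁.t.appTop.hom (fU.appTop.hom x)
  have h1 : G₁.s.appTop.hom (fU.appTop.hom x) = fR.appTop.hom (G₂.s.appTop.hom x) := by
    have := congrArg (fun φ : G₁.R ⟶ G₂.U => φ.appTop.hom x) hs
    simpa [Scheme.Hom.comp_appTop] using this.symm
  have h2 : G₁.t.appTop.hom (fU.appTop.hom x) = fR.appTop.hom (G₂.t.appTop.hom x) := by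
    have := congrArg (fun φ : G₁.R ⟶ G₂.U => φ.appTop.hom x) ht
    simpa [Scheme.Hom.comp_appTop] using this.symm
  rw [h1, h2]
  exact congrArg _ hx

/-- the map on invariants induced by a morphism of groupoids. -/
noncomputable def invMap : G₂.invariants →+* G₁.invariants :=
  (fU.appTop.hom.comp G₂.invariants.subtype).codRestrict G₁.invariants
    (fun x => mem_invariants_of_hom fU fR hs ht x.1 x.2)

theorem invMap_coe (x : G₂.invariants) :
    ((invMap fU fR hs ht x : G₁.invariants) : Γ(G₁.U, ⊤)) = fU.appTop.hom x.1 := rfl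

theorem toQuot_naturality :
    fU ≫ G₂.toQuot = G₁.toQuot ≫ Spec.map (CommRingCat.ofHom (invMap fU fR hs ht)) := by
  unfold Grpd.GroupoidScheme.toQuot
  rw [← Category.assoc, Scheme.toSpecΓ_naturality, Category.assoc, Category.assoc,
    ← Spec.map_comp, ← Spec.map_comp]
  rfl

end hom

section le

variable {W} {W' : G.U.Opens} (hW' : G.s ⁻¹ᵁ W' = G.t ⁻¹ᵁ W') (h : W ≤ W')

/-- the inclusion of restricted groupoids, on objects. -/
noncomputable def resU : (restrict G W hW).U ⟶ (restrict G W' hW').U := G.U.homOfLE h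

/-- the inclusion of restricted groupoids, on arrows. -/
noncomputable def resR : (restrict G W hW).R ⟶ (restrict G W' hW').R :=
  G.R.homOfLE (G.s.preimage_mono h)

instance : IsOpenImmersion (resU G hW hW' h) := inferInstanceAs (IsOpenImmersion (G.U.homOfLE h))

instance : IsOpenImmersion (resR G hW hW' h) :=
  inferInstanceAs (IsOpenImmersion (G.R.homOfLE (G.s.preimage_mono h)))

theorem resR_s : resR G hW hW' h ≫ (restrict G W' hW').s = (restrict G W hW).s ≫ resU G hW hW' h := by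
  change G.R.homOfLE _ ≫ (G.s ∣_ W') = (G.s ∣_ W) ≫ G.U.homOfLE h
  rw [← cancel_mono W'.ι, Category.assoc, Res.s'_ι, ← Category.assoc, Scheme.homOfLE_ι, Category.assoc,
    Scheme.homOfLE_ι, Res.s'_ι]

theorem resR_t : resR G hW hW' h ≫ (restrict G W' hW').t = (restrict G W hW).t ≫ resU G hW hW' h := by
  change G.R.homOfLE _ ≫ Res.t' G W' hW' = Res.t' G W hW ≫ G.U.homOfLE h
  rw [← cancel_mono W'.ι, Category.assoc, Res.t'_ι, ← Category.assoc, Scheme.homOfLE_ι, Category.assoc,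
    Scheme.homOfLE_ι, Res.t'_ι]

/-- restriction of invariant functions. -/
noncomputable def resInv : (restrict G W' hW').invariants →+* (restrict G W hW).invariants :=
  invMap (resU G hW hW' h) (resR G hW hW' h) (resR_s G hW hW' h) (resR_t G hW hW' h)

theorem resInv_coe (x : (restrict G W' hW').invariants) :
    (resInv G hW hW' h x).1 = (G.U.homOfLE h).appTop.hom x.1 := rfl

theorem toQuot_res :
    G.U.homOfLE h ≫ (restrict G W' hW').toQuot =
      (restrict G W hW).toQuot ≫ Spec.map (CommRingCat.ofHom (resInv G hW hW' h)) :=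
  toQuot_naturality (resU G hW hW' h) (resR G hW hW' h) (resR_s G hW hW' h) (resR_t G hW hW' h)

end le

end Groth.Agent.Lib.Helper11.Ffg
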