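import Mathlib
import Groth.Prelude.Def_Grpd
import Groth.Agent.Lib.Helper11FfgRes
import Groth.Agent.Lib.Helper11FfgChart

/-!
# Gluing the quotients of the invariant affine opens (helper11)
-/

set_option autoImplicit false
set_option linter.style.haveILetI false
set_option linter.unusedSectionVars false
universe u

open CategoryTheory CategoryTheory.Limits AlgebraicGeometry TopologicalSpace

namespace Groth.Agent.Lib.Helper11.Ffg

open Groth.Agent.Lib.Helper11.GQ

theorem exists_affine_le_of_finite {X : Scheme.{u}} (V : X.Opens) (hV : IsAffineOpen V)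
    (O : X.Opens) (F : Set X) (hF : F.Finite) (hFV : F ⊆ V) (hFO : F ⊆ O) :
    ∃ V' : X.Opens, IsAffineOpen V' ∧ V' ≤ V ⊓ O ∧ F ⊆ V' := by
  haveI : IsAffine V.toScheme := hV
  have hinj : Function.Injective V.ι.base := V.ι.isOpenEmbedding.injective
  obtain ⟨f, hf1, hf2⟩ := exists_basicOpen_le_of_finite (X := V.toScheme) (V.ι ⁻¹ᵁ O)
    (V.ι.base ⁻¹' F) (hF.preimage hinj.injOn) (fun y hy => hFO hy)
  refine ⟨V.ι ''ᵁ (V.toScheme.basicOpen f), ?_, ?_, ?_⟩
  · exact ((isAffineOpen_top V.toScheme).basicOpen f).image_of_isOpenImmersion V.ι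
  · rintro _ ⟨y, hy, rfl⟩
    exact ⟨y.2, hf1 hy⟩
  · intro x hx
    exact ⟨⟨x, hFV hx⟩, hf2 (show V.ι.base ⟨x, hFV hx⟩ ∈ F from hx), rfl⟩

variable {S : Scheme.{u}} (G : Grpd.GroupoidScheme S)

section inv

variable [IsFinite G.s] [Flat G.s] [LocallyOfFinitePresentation G.s]

theorem exists_invAffine_le
    (hb : ∀ x : G.U, ∃ V : G.U.Opens, IsAffineOpen V ∧
      G.t.base '' (G.s.base ⁻¹' {x}) ⊆ (V : Set G.U))
    (O : G.U.Opens) (hO : G.s ⁻¹ᵁ O = G.t ⁻¹ᵁ O) (x : G.U) (hx : x ∈ O) :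
    ∃ W : G.U.Opens, IsAffineOpen W ∧ G.s ⁻¹ᵁ W = G.t ⁻¹ᵁ W ∧ x ∈ W ∧ W ≤ O := by
  obtain ⟨V, hV, hxV⟩ := hb x
  have hfin : (G.t.base '' (G.s.base ⁻¹' {x})).Finite :=
    (G.s.finite_preimage_singleton x).image _
  have hFO : G.t.base '' (G.s.base ⁻¹' {x}) ⊆ (O : Set G.U) := by
    rintro _ ⟨r, hr, rfl⟩
    have h1 : r ∈ G.s ⁻¹ᵁ O := by
      change G.s.base r ∈ O
      rw [hr]
      exact hx
    rw [hO] at h1
    exact h1
  obtain ⟨V', hV', hV'le, hFV'⟩ := exists_affine_le_of_finite V hV O _ hfin hxV hFO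
  obtain ⟨W, hW, hxW, hWinv, hWV'⟩ := exists_invariant_affine_open G x V' hV'
    (fun r hr => hFV' ⟨r, hr, rfl⟩)
  exact ⟨W, hW, hWinv, hxW, hWV'.trans (hV'le.trans inf_le_right)⟩

end inv

/-- the index type: invariant affine opens. -/
abbrev InvAffine : Type u := {W : G.U.Opens // IsAffineOpen W ∧ G.s ⁻¹ᵁ W = G.t ⁻¹ᵁ W}

/-- the restricted groupoid. -/
noncomputable abbrev GW (W : InvAffine G) : Grpd.GroupoidScheme S := restrict G W.1 W.2.2

instance (W : InvAffine G) : IsAffine (GW G W).U := W.2.1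

section fin

variable [IsFinite G.s] [Flat G.s] [LocallyOfFinitePresentation G.s]

instance (W : InvAffine G) : IsFinite (GW G W).s := inferInstanceAs (IsFinite (G.s ∣_ W.1))

instance (W : InvAffine G) : Flat (GW G W).s := inferInstanceAs (Flat (G.s ∣_ W.1))

instance (W : InvAffine G) : LocallyOfFinitePresentation (GW G W).s :=
  inferInstanceAs (LocallyOfFinitePresentation (G.s ∣_ W.1))

instance (W : InvAffine G) : IsAffine (GW G W).R :=
  isAffine_of_isAffineHom (GW G W).s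

theorem homOfLE_appTop_rfl (W : G.U.Opens) (x : Γ(W.toScheme, ⊤)) :
    (G.U.homOfLE (le_refl W)).appTop.hom x = x := by
  have : G.U.homOfLE (le_refl W) = 𝟙 _ := G.U.homOfLE_rfl W
  rw [this]
  rfl

theorem homOfLE_appTop_trans {W₁ W₂ W₃ : G.U.Opens} (h₁ : W₁ ≤ W₂) (h₂ : W₂ ≤ W₃)
    (x : Γ(W₃.toScheme, ⊤)) :
    (G.U.homOfLE (h₁.trans h₂)).appTop.hom x =
      (G.U.homOfLE h₁).appTop.hom ((G.U.homOfLE h₂).appTop.hom x) := by
  have : G.U.homOfLE (h₁.trans h₂) = G.U.homOfLE h₁ ≫ G.U.homOfLE h₂ :=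
    (G.U.homOfLE_homOfLE h₁ h₂).symm
  rw [this, Scheme.Hom.comp_appTop]
  rfl

/-- the diagram of charts. -/
noncomputable def chartFunctor : InvAffine G ⥤ Scheme.{u} where
  obj W := Spec (CommRingCat.of (GW G W).invariants)
  map {W W'} f := Spec.map (CommRingCat.ofHom (resInv G W.2.2 W'.2.2 (leOfHom f)))
  map_id W := by
    rw [← Spec.map_id]
    congr 1
    ext x
    exact homOfLE_appTop_rfl G W.1 x.1
  map_comp {W₁ W₂ W₃} f g := by
    rw [← Spec.map_comp]
    congr 1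
    ext x
    exact homOfLE_appTop_trans G (leOfHom f) (leOfHom g) x.1

/-- the quotient map of a chart. -/
noncomputable def chartMap (W : InvAffine G) : W.1.toScheme ⟶ (chartFunctor G).obj W :=
  (GW G W).toQuot

theorem isGQ_chartMap (W : InvAffine G) : IsGQ (GW G W).t (GW G W).s (chartMap G W) :=
  isGQ_toQuot (GW G W)

theorem chartMap_naturality {W W' : InvAffine G} (f : W ⟶ W') :
    G.U.homOfLE (leOfHom f) ≫ chartMap G W' = chartMap G W ≫ (chartFunctor G).map f :=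
  toQuot_res G W.2.2 W'.2.2 (leOfHom f)

theorem opensRange_resR {W W' : InvAffine G} (h : W.1 ≤ W'.1) :
    (resR G W.2.2 W'.2.2 h).opensRange = (GW G W').t ⁻¹ᵁ (resU G W.2.2 W'.2.2 h).opensRange := by
  change (G.R.homOfLE _).opensRange = (Res.t' G W'.1 W'.2.2) ⁻¹ᵁ (G.U.homOfLE h).opensRange
  rw [Scheme.opensRange_homOfLE, Scheme.opensRange_homOfLE,
    ← Scheme.Hom.comp_preimage (Res.t' G W'.1 W'.2.2),
    Res.t'_ι, Scheme.Hom.comp_preimage, W.2.2]

instance chartFunctor_isOpenImmersion {W W' : InvAffine G} (f : W ⟶ W') :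
    IsOpenImmersion ((chartFunctor G).map f) :=
  isOpenImmersion_of_isGQ (isGQ_chartMap G W') (isGQ_chartMap G W)
    (resU G W.2.2 W'.2.2 (leOfHom f)) (resR G W.2.2 W'.2.2 (leOfHom f))
    (resR_t G W.2.2 W'.2.2 (leOfHom f)).symm (resR_s G W.2.2 W'.2.2 (leOfHom f)).symm
    (opensRange_resR G (leOfHom f)) _ (chartMap_naturality G f).symm

theorem t'_apply (W : InvAffine G) (r : (G.s ⁻¹ᵁ W.1).toScheme) :
    ((GW G W).t.base r).1 = G.t.base r.1 := by
  have := congrArg (fun f : (G.s ⁻¹ᵁ W.1).toScheme ⟶ G.U => f.base r) (Res.t'_ι G W.1 W.2.2)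
  simp only [Scheme.Hom.comp_base, TopCat.hom_comp, ContinuousMap.comp_apply] at this
  exact this

theorem s'_apply (W : InvAffine G) (r : (G.s ⁻¹ᵁ W.1).toScheme) :
    ((GW G W).s.base r).1 = G.s.base r.1 := by
  have := congrArg (fun f : (G.s ⁻¹ᵁ W.1).toScheme ⟶ G.U => f.base r) (Res.s'_ι G W.1)
  simp only [Scheme.Hom.comp_base, TopCat.hom_comp, ContinuousMap.comp_apply] at this
  exact this

theorem chartFunctor_map_chartMap {W W' : InvAffine G} (f : W ⟶ W') (y : W.1.toScheme) :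
    ((chartFunctor G).map f).base ((chartMap G W).base y) =
      (chartMap G W').base ((G.U.homOfLE (leOfHom f)).base y) := by
  have := congrArg (fun φ : W.1.toScheme ⟶ (chartFunctor G).obj W' => φ.base y) (chartMap_naturality G f)
  simp only [Scheme.Hom.comp_base, TopCat.hom_comp, ContinuousMap.comp_apply] at this
  exact this.symm

theorem chartMap_surjective (W : InvAffine G) : Function.Surjective (chartMap G W).base :=
  (isGQ_chartMap G W).surj

theorem chartMap_eq_iff (W : InvAffine G) (y y' : W.1.toScheme) :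
    (chartMap G W).base y = (chartMap G W).base y' ↔
      ∃ r : G.R, G.t.base r = y.1 ∧ G.s.base r = y'.1 := by
  constructor
  · intro h
    obtain ⟨r, hr1, hr2⟩ := (isGQ_chartMap G W).fibre y y' h
    refine ⟨r.1, ?_, ?_⟩
    · rw [← t'_apply, hr1]
    · rw [← s'_apply, hr2]
  · rintro ⟨r, hr1, hr2⟩
    have hr : r ∈ G.s ⁻¹ᵁ W.1 := by
      change G.s.base r ∈ W.1
      rw [hr2]
      exact y'.2
    have h1 : (GW G W).t.base ⟨r, hr⟩ = y := Subtype.ext ((t'_apply G W ⟨r, hr⟩).trans hr1)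
    have h2 : (GW G W).s.base ⟨r, hr⟩ = y' := Subtype.ext ((s'_apply G W ⟨r, hr⟩).trans hr2)
    rw [← h1, ← h2]
    exact (isGQ_chartMap G W).map_eq ⟨r, hr⟩

theorem inf_invariant (W W' : InvAffine G) : G.s ⁻¹ᵁ (W.1 ⊓ W'.1) = G.t ⁻¹ᵁ (W.1 ⊓ W'.1) := by
  rw [Scheme.Hom.preimage_inf, Scheme.Hom.preimage_inf, W.2.2, W'.2.2]

/-- the hypothesis that orbits lie in affine opens. -/
abbrev OrbitsAffine : Prop :=
  ∀ x : G.U, ∃ V : G.U.Opens, IsAffineOpen V ∧ G.t.base '' (G.s.base ⁻¹' {x}) ⊆ (V : Set G.U)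

theorem exists_invAffine_le' (hb : OrbitsAffine G) (O : G.U.Opens) (hO : G.s ⁻¹ᵁ O = G.t ⁻¹ᵁ O)
    (x : G.U) (hx : x ∈ O) : ∃ W : InvAffine G, x ∈ W.1 ∧ W.1 ≤ O := by
  obtain ⟨W, hW, hWinv, hxW, hWO⟩ := exists_invAffine_le G hb O hO x hx
  exact ⟨⟨W, hW, hWinv⟩, hxW, hWO⟩

instance chartFunctor_isLocallyDirected [Fact (OrbitsAffine G)] :
    (chartFunctor G ⋙ Scheme.forget).IsLocallyDirected where
  cond {i j k} fi fj xi xj heq := by
    have hb : OrbitsAffine G := Fact.out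
    simp only [Functor.comp_obj, Scheme.forget_obj, Functor.comp_map, Scheme.forget_map,
      ConcreteCategory.hom_ofHom, TypeCat.Fun.coe_mk] at heq
    obtain ⟨ai, rfl⟩ := chartMap_surjective G i xi
    obtain ⟨aj, rfl⟩ := chartMap_surjective G j xj
    have h1 : (chartMap G k).base ((G.U.homOfLE (leOfHom fi)).base ai) =
        (chartMap G k).base ((G.U.homOfLE (leOfHom fj)).base aj) := by
      rw [← chartFunctor_map_chartMap, ← chartFunctor_map_chartMap]
      exact heq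
    obtain ⟨r, hr1, hr2⟩ := (chartMap_eq_iff G k _ _).mp h1
    rw [Scheme.homOfLE_apply] at hr1 hr2
    -- the point `aj` lies in `W_i ⊓ W_j`
    have hai : aj.1 ∈ i.1 := by
      have h2 : r ∈ G.t ⁻¹ᵁ i.1 := by
        change G.t.base r ∈ i.1
        rw [hr1]
        exact ai.2
      rw [← i.2.2] at h2
      rw [← hr2]
      exact h2
    obtain ⟨l, hal, hlW⟩ := exists_invAffine_le' G hb (i.1 ⊓ j.1) (inf_invariant G i j) aj.1
      ⟨hai, aj.2⟩
    have hli : l ≤ i := fun x hx => (hlW hx).1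
    have hlj : l ≤ j := fun x hx => (hlW hx).2
    refine ⟨l, homOfLE hli, homOfLE hlj, (chartMap G l).base ⟨aj.1, hal⟩, ?_, ?_⟩
    · simp only [Functor.comp_obj, Scheme.forget_obj, Functor.comp_map, Scheme.forget_map,
        ConcreteCategory.hom_ofHom, TypeCat.Fun.coe_mk]
      change ((chartFunctor G).map (homOfLE hli)).base ((chartMap G l).base ⟨aj.1, hal⟩) = _
      rw [chartFunctor_map_chartMap]
      refine ((chartMap_eq_iff G i _ _).mpr ⟨r, hr1, ?_⟩).symm
      rw [hr2, Scheme.homOfLE_apply]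
    · simp only [Functor.comp_obj, Scheme.forget_obj, Functor.comp_map, Scheme.forget_map,
        ConcreteCategory.hom_ofHom, TypeCat.Fun.coe_mk]
      change ((chartFunctor G).map (homOfLE hlj)).base ((chartMap G l).base ⟨aj.1, hal⟩) = _
      rw [chartFunctor_map_chartMap]
      congr 1
      exact Subtype.ext (Scheme.homOfLE_apply _ _)

end fin

end Groth.Agent.Lib.Helper11.Ffg
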