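import Mathlib
import Groth.Prelude.Def_Grpd
import Groth.Agent.Lib.Helper11FfgGlue

/-!
# The quotient scheme of a groupoid with finite locally free source map (helper11)
-/

set_option autoImplicit false
set_option linter.style.haveILetI false
set_option linter.unusedSectionVars false
universe u

open CategoryTheory CategoryTheory.Limits AlgebraicGeometry TopologicalSpace

namespace Groth.Agent.Lib.Helper11.Ffg

open Groth.Agent.Lib.Helper11.GQ

variable {S : Scheme.{u}} (G : Grpd.GroupoidScheme S)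
  [IsFinite G.s] [Flat G.s] [LocallyOfFinitePresentation G.s] (hb : OrbitsAffine G)

theorem top_invariant : G.s ⁻¹ᵁ (⊤ : G.U.Opens) = G.t ⁻¹ᵁ ⊤ := rfl

/-- the cover of `U` by the invariant affine opens. -/
@[simps I₀ X f] noncomputable abbrev invCover : G.U.OpenCover where
  I₀ := InvAffine G
  X W := W.1.toScheme
  f W := W.1.ι
  mem₀ := by
    rw [Scheme.presieve₀_mem_precoverage_iff]
    refine ⟨fun x => ?_, inferInstance⟩
    obtain ⟨W, hxW, -⟩ := exists_invAffine_le' G hb ⊤ (top_invariant G) x trivial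
    exact ⟨W, ⟨x, hxW⟩, rfl⟩

instance : Preorder (invCover G hb).I₀ := inferInstanceAs (Preorder (InvAffine G))

set_option backward.isDefEq.respectTransparency false in
noncomputable instance : (invCover G hb).LocallyDirected where
  trans f := G.U.homOfLE (leOfHom f)
  w f := G.U.homOfLE_ι (leOfHom f)
  directed {U V} x := by
    let a := (Limits.pullback.fst _ _ ≫ U.1.ι) x
    have haU : a ∈ U.1 := (Limits.pullback.fst U.1.ι V.1.ι x).2
    have haV : a ∈ V.1 := by
      unfold a
      rw [Limits.pullback.condition]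
      exact (Limits.pullback.snd U.1.ι V.1.ι x).2
    obtain ⟨l, hal, hlW⟩ := exists_invAffine_le' G hb (U.1 ⊓ V.1) (inf_invariant G U V) a ⟨haU, haV⟩
    have hlU : l ≤ U := fun z hz => (hlW hz).1
    have hlV : l ≤ V := fun z hz => (hlW hz).2
    refine ⟨l, homOfLE hlU, homOfLE hlV, ⟨a, hal⟩, ?_⟩
    apply (Limits.pullback.fst _ _ ≫ U.1.ι).isOpenEmbedding.injective
    dsimp
    change (Limits.pullback.lift _ _ _ ≫ Limits.pullback.fst _ _ ≫ U.1.ι) _ = _
    simp only [Limits.pullback.lift_fst_assoc, Scheme.homOfLE_ι, Scheme.Opens.ι_apply]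
    rfl

variable [Fact (OrbitsAffine G)]

/-- the quotient scheme. -/
noncomputable abbrev quotScheme : Scheme.{u} := colimit (chartFunctor G)

theorem quotMap_compat {i j : (invCover G hb).I₀} (hij : i ⟶ j) :
    (invCover G hb).trans hij ≫ chartMap G j ≫ colimit.ι (chartFunctor G) j =
      chartMap G i ≫ colimit.ι (chartFunctor G) i := by
  change G.U.homOfLE (leOfHom hij) ≫ chartMap G j ≫ colimit.ι (chartFunctor G) j = _
  rw [← Category.assoc, chartMap_naturality G hij, Category.assoc]
  congr 1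
  exact colimit.w (chartFunctor G) hij

/-- the quotient map. -/
noncomputable def quotMap : G.U ⟶ quotScheme G :=
  (invCover G hb).glueMorphismsOfLocallyDirected
    (fun W => chartMap G W ≫ colimit.ι (chartFunctor G) W)
    (fun hij => quotMap_compat G hb hij)

theorem ι_quotMap (W : InvAffine G) :
    W.1.ι ≫ quotMap G hb = chartMap G W ≫ colimit.ι (chartFunctor G) W :=
  (invCover G hb).map_glueMorphismsOfLocallyDirected
    (fun W => chartMap G W ≫ colimit.ι (chartFunctor G) W)
    (fun hij => quotMap_compat G hb hij) W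

theorem quotMap_apply (W : InvAffine G) (x : G.U) (hx : x ∈ W.1) :
    (quotMap G hb).base x =
      (colimit.ι (chartFunctor G) W).base ((chartMap G W).base ⟨x, hx⟩) := by
  exact congrArg (fun φ : W.1.toScheme ⟶ quotScheme G => φ.base ⟨x, hx⟩) (ι_quotMap G hb W)

theorem quotMap_preimage (W : InvAffine G) :
    quotMap G hb ⁻¹ᵁ (colimit.ι (chartFunctor G) W).opensRange = W.1 := by
  apply le_antisymm
  · intro x hx
    obtain ⟨y, hy⟩ := hx
    obtain ⟨W₂, hxW₂, -⟩ := exists_invAffine_le' G hb ⊤ (top_invariant G) x trivial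
    have hy' : (colimit.ι (chartFunctor G) W).base y =
        (colimit.ι (chartFunctor G) W₂).base ((chartMap G W₂).base ⟨x, hxW₂⟩) :=
      hy.trans (quotMap_apply G hb W₂ x hxW₂)
    obtain ⟨k, fi, fj, z, hz1, hz2⟩ := (Scheme.IsLocallyDirected.ι_eq_ι_iff _).mp hy'
    obtain ⟨x', rfl⟩ := chartMap_surjective G k z
    have hz2' : ((chartFunctor G).map fj).base ((chartMap G k).base x') =
        (chartMap G W₂).base ⟨x, hxW₂⟩ := hz2
    rw [chartFunctor_map_chartMap] at hz2'
    obtain ⟨r, hr1, hr2⟩ := (chartMap_eq_iff G W₂ _ _).mp hz2'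
    rw [Scheme.homOfLE_apply] at hr1
    change G.s.base r = x at hr2
    have h2 : r ∈ G.t ⁻¹ᵁ W.1 := by
      change G.t.base r ∈ W.1
      rw [hr1]
      exact leOfHom fi x'.2
    rw [← W.2.2] at h2
    rw [← hr2]
    exact h2
  · intro x hx
    exact ⟨(chartMap G W).base ⟨x, hx⟩, (quotMap_apply G hb W x hx).symm⟩

theorem isPullback_chart (W : InvAffine G) :
    IsPullback (chartMap G W) W.1.ι (colimit.ι (chartFunctor G) W) (quotMap G hb) :=
  IsOpenImmersion.isPullback _ _ _ _ (ι_quotMap G hb W) (by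
    rw [quotMap_preimage, Scheme.Opens.opensRange_ι])

theorem quotMap_w : G.t ≫ quotMap G hb = G.s ≫ quotMap G hb := by
  apply Scheme.hom_ext_of_forall
  intro r
  obtain ⟨W, hxW, -⟩ := exists_invAffine_le' G hb ⊤ (top_invariant G) (G.s.base r) trivial
  refine ⟨G.s ⁻¹ᵁ W.1, hxW, ?_⟩
  rw [← Category.assoc, ← Res.t'_ι G W.1 W.2.2, ← Category.assoc, ← Res.s'_ι G W.1,
    Category.assoc, Category.assoc, ι_quotMap, ← Category.assoc, ← Category.assoc]
  congr 1
  exact (isGQ_chartMap G W).w

theorem isGQ_quotMap : IsGQ G.t G.s (quotMap G hb) := by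
  refine isGQ_of_cover (quotMap_w G hb) (fun W : InvAffine G => (G.s ⁻¹ᵁ W.1).toScheme)
    (fun W => W.1.toScheme) (fun W => (chartFunctor G).obj W) (fun W => colimit.ι (chartFunctor G) W)
    (fun W => W.1.ι) (fun W => (G.s ⁻¹ᵁ W.1).ι) (fun W => chartMap G W)
    (fun W => (GW G W).t) (fun W => (GW G W).s) (fun W => isPullback_chart G hb W)
    (fun W => Res.t'_ι G W.1 W.2.2) (fun W => Res.s'_ι G W.1) (fun W => ?_)
    (fun W => isGQ_chartMap G W) ?_
  · rw [Scheme.Opens.opensRange_ι, Scheme.Opens.opensRange_ι, W.2.2]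
  · intro y
    obtain ⟨W, z, rfl⟩ := Scheme.IsLocallyDirected.ι_jointly_surjective (chartFunctor G) y
    exact ⟨W, z, rfl⟩

end Groth.Agent.Lib.Helper11.Ffg
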