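import Mathlib
import Groth.Prelude.Def_Grpd
import Groth.Prelude.Def_Mor2
import Groth.Agent.Lib.Helper11FfgGlue2

/-!
# The quotient of a groupoid with finite locally free source map: main properties (helper11)
-/

set_option autoImplicit false
set_option linter.style.haveILetI false
set_option linter.unusedSectionVars false
universe u

open CategoryTheory CategoryTheory.Limits AlgebraicGeometry TopologicalSpace

namespace Groth.Agent.Lib.Helper11.Ffg

open Groth.Agent.Lib.Helper11.GQ

theorem rh_SpecMap_comp {X : Scheme.{u}} {K L : CommRingCat.{u}} (i : K ⟶ L) (x : Spec K ⟶ X) :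
    rh (Spec.map i ≫ x) = rh x ≫ i := by
  apply Spec.map_injective
  rw [map_rh, Spec.map_comp, map_rh, Category.assoc]

section affine

variable {S : Scheme.{u}} (G : Grpd.GroupoidScheme S) [IsAffine G.U] [IsAffine G.R] [IsFinite G.s]
  [Flat G.s] [LocallyOfFinitePresentation G.s]

/-- field-valued points of `U` with the same image in the quotient are, after a field extension,
the target and source of a point of `R`. -/
theorem exists_fieldPoint_sch (k : Type u) [Field k] (x₀ x₁ : Spec (CommRingCat.of k) ⟶ G.U)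
    (h : x₀ ≫ G.toQuot = x₁ ≫ G.toQuot) :
    ∃ (K : Type u) (_ : Field K) (i : k →+* K) (r : Spec (CommRingCat.of K) ⟶ G.R),
      r ≫ G.t = Spec.map (CommRingCat.ofHom i) ≫ x₀ ∧
      r ≫ G.s = Spec.map (CommRingCat.ofHom i) ≫ x₁ := by
  rw [comp_toQuot, comp_toQuot] at h
  have h2 := Spec.map_injective h
  obtain ⟨K, hK, i, ρ, hρ0, hρ1, -⟩ := exists_fieldPoint_grpd G k (rh x₀).hom (rh x₁).hom (by
    have := congrArg CommRingCat.Hom.hom h2
    exact this)
  refine ⟨K, hK, i, ofRh (CommRingCat.ofHom ρ), ?_, ?_⟩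
  · apply rh_injective
    rw [rh_comp, rh_ofRh, rh_SpecMap_comp]
    ext a
    exact RingHom.congr_fun hρ0 a
  · apply rh_injective
    rw [rh_comp, rh_ofRh, rh_SpecMap_comp]
    ext a
    exact RingHom.congr_fun hρ1 a

end affine

section glob

variable {S : Scheme.{u}} (G : Grpd.GroupoidScheme S) [IsFinite G.s] [Flat G.s]
  [LocallyOfFinitePresentation G.s] (hb : OrbitsAffine G) [Fact (OrbitsAffine G)]

instance (W : InvAffine G) : IsIntegralHom (chartMap G W) := isIntegralHom_toQuot (GW G W)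

theorem isIntegralHom_quotMap : IsIntegralHom (quotMap G hb) := by
  apply IsZariskiLocalAtTarget.of_openCover (P := @IsIntegralHom)
    (Scheme.IsLocallyDirected.openCover (chartFunctor G))
  intro W
  have H := (isPullback_chart G hb W).flip
  change IsIntegralHom (pullback.snd (quotMap G hb) (colimit.ι (chartFunctor G) W))
  rw [← H.isoPullback_inv_snd]
  exact (MorphismProperty.cancel_left_of_respectsIso @IsIntegralHom H.isoPullback.inv
    (chartMap G W)).mpr inferInstance

include hb in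
theorem exists_invAffine_mem (x : G.U) : ∃ W : InvAffine G, x ∈ W.1 := by
  obtain ⟨W, hxW, -⟩ := exists_invAffine_le' G hb ⊤ (top_invariant G) x trivial
  exact ⟨W, hxW⟩

theorem mem_of_quotMap_eq (W : InvAffine G) (x y : G.U) (hx : x ∈ W.1)
    (h : (quotMap G hb).base x = (quotMap G hb).base y) : y ∈ W.1 := by
  have h1 : (quotMap G hb).base x ∈ (colimit.ι (chartFunctor G) W).opensRange :=
    ⟨_, (quotMap_apply G hb W x hx).symm⟩
  have h2 : y ∈ quotMap G hb ⁻¹ᵁ (colimit.ι (chartFunctor G) W).opensRange := by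
    show (quotMap G hb).base y ∈ (colimit.ι (chartFunctor G) W).opensRange
    rw [← h]
    exact h1
  rwa [quotMap_preimage] at h2

theorem surjective_lift :
    Function.Surjective (pullback.lift G.t G.s (quotMap_w G hb)).base := by
  intro z
  let ζ : Spec ((pullback (quotMap G hb) (quotMap G hb)).residueField z) ⟶
      pullback (quotMap G hb) (quotMap G hb) :=
    (pullback (quotMap G hb) (quotMap G hb)).fromSpecResidueField z
  have hζ : ∀ y, ζ.base y = z := fun y =>
    (pullback (quotMap G hb) (quotMap G hb)).fromSpecResidueField_apply z y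
  obtain ⟨W, hW⟩ := exists_invAffine_mem G hb
    ((pullback.fst (quotMap G hb) (quotMap G hb)).base z)
  have hW' : (pullback.snd (quotMap G hb) (quotMap G hb)).base z ∈ W.1 := by
    refine mem_of_quotMap_eq G hb W _ _ hW ?_
    have := congrArg (fun f : pullback (quotMap G hb) (quotMap G hb) ⟶ quotScheme G => f.base z)
      (pullback.condition (f := quotMap G hb) (g := quotMap G hb))
    simpa using this
  have hr0 : Set.range (ζ ≫ pullback.fst (quotMap G hb) (quotMap G hb)).base ⊆
      Set.range W.1.ι.base := by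
    rintro _ ⟨y, rfl⟩
    rw [Scheme.Opens.range_ι]
    change (pullback.fst (quotMap G hb) (quotMap G hb)).base (ζ.base y) ∈ W.1
    rw [hζ y]
    exact hW
  have hr1 : Set.range (ζ ≫ pullback.snd (quotMap G hb) (quotMap G hb)).base ⊆
      Set.range W.1.ι.base := by
    rintro _ ⟨y, rfl⟩
    rw [Scheme.Opens.range_ι]
    change (pullback.snd (quotMap G hb) (quotMap G hb)).base (ζ.base y) ∈ W.1
    rw [hζ y]
    exact hW'
  let ξ₀ : Spec ((pullback (quotMap G hb) (quotMap G hb)).residueField z) ⟶ W.1.toScheme :=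
    IsOpenImmersion.lift W.1.ι _ hr0
  let ξ₁ : Spec ((pullback (quotMap G hb) (quotMap G hb)).residueField z) ⟶ W.1.toScheme :=
    IsOpenImmersion.lift W.1.ι _ hr1
  have hξ₀ : ξ₀ ≫ W.1.ι = ζ ≫ pullback.fst (quotMap G hb) (quotMap G hb) :=
    IsOpenImmersion.lift_fac _ _ _
  have hξ₁ : ξ₁ ≫ W.1.ι = ζ ≫ pullback.snd (quotMap G hb) (quotMap G hb) :=
    IsOpenImmersion.lift_fac _ _ _
  have hξ : ξ₀ ≫ (GW G W).toQuot = ξ₁ ≫ (GW G W).toQuot := by
    change ξ₀ ≫ chartMap G W = ξ₁ ≫ chartMap G W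
    rw [← cancel_mono (colimit.ι (chartFunctor G) W), Category.assoc, Category.assoc,
      ← ι_quotMap G hb W, ← Category.assoc, ← Category.assoc, hξ₀, hξ₁, Category.assoc,
      Category.assoc, pullback.condition]
  obtain ⟨K, hK, i, r₀, hr0₀, hr1₀⟩ := exists_fieldPoint_sch (GW G W)
    ((pullback (quotMap G hb) (quotMap G hb)).residueField z) ξ₀ ξ₁ hξ
  let r : Spec (CommRingCat.of K) ⟶ (G.s ⁻¹ᵁ W.1).toScheme := r₀
  let j : Spec (CommRingCat.of K) ⟶
      Spec ((pullback (quotMap G hb) (quotMap G hb)).residueField z) :=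
    Spec.map (CommRingCat.ofHom i)
  have hr0' : r ≫ Res.t' G W.1 W.2.2 = j ≫ ξ₀ := hr0₀
  have hr1' : r ≫ (G.s ∣_ W.1) = j ≫ ξ₁ := hr1₀
  let ρ : Spec (CommRingCat.of K) ⟶ G.R := r ≫ (G.s ⁻¹ᵁ W.1).ι
  have e0 : ρ ≫ G.t = (j ≫ ζ) ≫ pullback.fst (quotMap G hb) (quotMap G hb) := by
    change (r ≫ (G.s ⁻¹ᵁ W.1).ι) ≫ G.t = _
    rw [Category.assoc, ← Res.t'_ι G W.1 W.2.2, ← Category.assoc, hr0', Category.assoc, hξ₀,
      Category.assoc]
  have e1 : ρ ≫ G.s = (j ≫ ζ) ≫ pullback.snd (quotMap G hb) (quotMap G hb) := by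
    change (r ≫ (G.s ⁻¹ᵁ W.1).ι) ≫ G.s = _
    rw [Category.assoc, ← Res.s'_ι G W.1, ← Category.assoc, hr1', Category.assoc, hξ₁,
      Category.assoc]
  have hρ : ρ ≫ pullback.lift G.t G.s (quotMap_w G hb) = j ≫ ζ := by
    apply pullback.hom_ext
    · rw [Category.assoc, pullback.lift_fst, e0]
    · rw [Category.assoc, pullback.lift_snd, e1]
  obtain ⟨pt⟩ : Nonempty (Spec (CommRingCat.of K)) := inferInstance
  refine ⟨ρ.base pt, ?_⟩
  have := congrArg (fun f : Spec (CommRingCat.of K) ⟶ pullback (quotMap G hb) (quotMap G hb) =>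
    f.base pt) hρ
  simp only [Scheme.Hom.comp_base, TopCat.hom_comp, ContinuousMap.comp_apply] at this
  rw [this]
  exact hζ _

include hb in
theorem isAffine_quotScheme [IsAffine G.U] : IsAffine (quotScheme G) := by
  let W : InvAffine G := ⟨⊤, isAffineOpen_top G.U, top_invariant G⟩
  have hsurj : Function.Surjective (colimit.ι (chartFunctor G) W).base := by
    intro y
    obtain ⟨x, rfl⟩ := (isGQ_quotMap G hb).surj y
    exact ⟨_, (quotMap_apply G hb W x trivial).symm⟩
  haveI : Epi (colimit.ι (chartFunctor G) W).base := (TopCat.epi_iff_surjective _).mpr hsurj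
  haveI : IsIso (colimit.ι (chartFunctor G) W) :=
    (isIso_iff_isOpenImmersion_and_epi_base _).mpr ⟨inferInstance, inferInstance⟩
  haveI : IsAffine ((chartFunctor G).obj W) :=
    inferInstanceAs (IsAffine (Spec (CommRingCat.of (GW G W).invariants)))
  exact IsAffine.of_isIso (inv (colimit.ι (chartFunctor G) W))

end glob

/-- **Existence of the quotient** of a groupoid scheme whose source map is finite locally free and
whose orbits lie in affine opens. -/
theorem main (S : Scheme.{u}) (G : Grpd.GroupoidScheme S)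
    (ha : Mor2.IsFinLocFree G.s)
    (hb : ∀ x : G.U, ∃ V : G.U.Opens, IsAffineOpen V ∧
      G.t.base '' (G.s.base ⁻¹' {x}) ⊆ (V : Set G.U)) :
    ∃ (Y : Scheme.{u}) (p : G.U ⟶ Y) (w : G.t ≫ p = G.s ≫ p),
      Nonempty (IsColimit (Cofork.ofπ p w)) ∧ IsIntegralHom p ∧ Surjective p ∧ IsOpenMap p.base ∧
      (∀ x y : G.U, p.base x = p.base y ↔ ∃ r : G.R, G.t.base r = x ∧ G.s.base r = y) ∧
      Function.Surjective (pullback.lift G.t G.s w).base ∧ (IsAffine G.U → IsAffine Y) := by
  obtain ⟨h1, h2, h3⟩ := ha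
  haveI := h1
  haveI := h2
  haveI := h3
  haveI : Fact (OrbitsAffine G) := ⟨hb⟩
  have hq := isGQ_quotMap G hb
  refine ⟨quotScheme G, quotMap G hb, quotMap_w G hb, ⟨hq.isColimit⟩, isIntegralHom_quotMap G hb,
    ⟨hq.surj⟩, hq.isOpenMap, fun x y => ⟨hq.fibre x y, ?_⟩, surjective_lift G hb, fun hU => ?_⟩
  · rintro ⟨r, rfl, rfl⟩
    exact hq.map_eq r
  · exact isAffine_quotScheme G hb

end Groth.Agent.Lib.Helper11.Ffg
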