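import Mathlib
import Groth.Prelude
import Groth.Agent.Lib.Helper11FfgEq
import Groth.Agent.Lib.Helper11FfgMain

/-!
# Quotients by finite locally free equivalence relations: the general case (helper11)
-/

set_option autoImplicit false
set_option linter.style.haveILetI false
set_option linter.unusedSectionVars false
universe u

open CategoryTheory CategoryTheory.Limits AlgebraicGeometry TopologicalSpace

namespace Groth.Agent.Lib.Helper11.Ffg

open Groth.Agent.Lib.Helper11.GQ

variable {S : Scheme.{u}} (G : Grpd.GroupoidScheme S)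

theorem jm_of_mono [Mono G.j] {Z : Scheme.{u}} (a b : Z ⟶ G.R) (h1 : a ≫ G.t = b ≫ G.t)
    (h2 : a ≫ G.s = b ≫ G.s) : a = b := by
  rw [← cancel_mono G.j]
  unfold Grpd.GroupoidScheme.j
  apply pullback.hom_ext
  · rw [Category.assoc, Category.assoc, pullback.lift_fst]
    exact h1
  · rw [Category.assoc, Category.assoc, pullback.lift_snd]
    exact h2

theorem mono_j_of_jm (h : ∀ {Z : Scheme.{u}} (a b : Z ⟶ G.R), a ≫ G.t = b ≫ G.t →
    a ≫ G.s = b ≫ G.s → a = b) : Mono G.j := by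
  refine ⟨fun {Z} a b hab => h a b ?_ ?_⟩
  · have := congrArg (· ≫ pullback.fst _ _) hab
    unfold Grpd.GroupoidScheme.j at this
    simp only [Category.assoc] at this
    rw [pullback.lift_fst] at this
    exact this
  · have := congrArg (· ≫ pullback.snd _ _) hab
    unfold Grpd.GroupoidScheme.j at this
    simp only [Category.assoc] at this
    rw [pullback.lift_snd] at this
    exact this

instance mono_j_GW [Mono G.j] (W : InvAffine G) : Mono (GW G W).j := by
  apply mono_j_of_jm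
  intro Z a b h1 h2
  change Z ⟶ (G.s ⁻¹ᵁ W.1).toScheme at a b
  refine (cancel_mono (G.s ⁻¹ᵁ W.1).ι).mp ?_
  apply jm_of_mono G
  · have e : (GW G W).t ≫ W.1.ι = (G.s ⁻¹ᵁ W.1).ι ≫ G.t := Res.t'_ι G W.1 W.2.2
    have := congrArg (· ≫ W.1.ι) h1
    exact (Category.assoc a _ G.t).trans ((congrArg (a ≫ ·) e.symm).trans
      ((Category.assoc a _ _).symm.trans (this.trans ((Category.assoc b _ _).trans
        ((congrArg (b ≫ ·) e).trans (Category.assoc b _ G.t).symm)))))
  · have e : (GW G W).s ≫ W.1.ι = (G.s ⁻¹ᵁ W.1).ι ≫ G.s := Res.s'_ι G W.1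
    have := congrArg (· ≫ W.1.ι) h2
    exact (Category.assoc a _ G.s).trans ((congrArg (a ≫ ·) e.symm).trans
      ((Category.assoc a _ _).symm.trans (this.trans ((Category.assoc b _ _).trans
        ((congrArg (b ≫ ·) e).trans (Category.assoc b _ G.s).symm)))))

/-- existence of lifts through a jointly monic pair is local on the source. -/
theorem exists_lift_of_openCover {T R U : Scheme.{u}} (t s : R ⟶ U)
    (hmono : ∀ {Z : Scheme.{u}} (a b : Z ⟶ R), a ≫ t = b ≫ t → a ≫ s = b ≫ s → a = b)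
    (a b : T ⟶ U) (𝒰 : T.OpenCover)
    (h : ∀ i, ∃ r : 𝒰.X i ⟶ R, r ≫ t = 𝒰.f i ≫ a ∧ r ≫ s = 𝒰.f i ≫ b) :
    ∃ r : T ⟶ R, r ≫ t = a ∧ r ≫ s = b := by
  choose r hr1 hr2 using h
  have hcompat : ∀ x y, pullback.fst (𝒰.f x) (𝒰.f y) ≫ r x = pullback.snd _ _ ≫ r y := by
    intro x y
    apply hmono
    · rw [Category.assoc, Category.assoc, hr1, hr1, pullback.condition_assoc]
    · rw [Category.assoc, Category.assoc, hr2, hr2, pullback.condition_assoc]
  refine ⟨𝒰.glueMorphisms r hcompat, ?_, ?_⟩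
  · apply 𝒰.hom_ext
    intro i
    rw [← Category.assoc, 𝒰.ι_glueMorphisms, hr1]
  · apply 𝒰.hom_ext
    intro i
    rw [← Category.assoc, 𝒰.ι_glueMorphisms, hr2]

variable [IsFinite G.s] [Flat G.s] [LocallyOfFinitePresentation G.s] (hb : OrbitsAffine G)
  [Fact (OrbitsAffine G)]

theorem isPullback_chartMap [Mono G.j] (W : InvAffine G) :
    IsPullback (GW G W).t (GW G W).s (chartMap G W) (chartMap G W) := (main_eq (GW G W)).2

theorem isFinLocFree_chartMap [Mono G.j] (W : InvAffine G) :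
    IsFinite (chartMap G W) ∧ Flat (chartMap G W) ∧ LocallyOfFinitePresentation (chartMap G W) :=
  (main_eq (GW G W)).1

theorem exists_lift_quotMap [Mono G.j] {T : Scheme.{u}} (a b : T ⟶ G.U)
    (hab : a ≫ quotMap G hb = b ≫ quotMap G hb) :
    ∃ r : T ⟶ G.R, r ≫ G.t = a ∧ r ≫ G.s = b := by
  let V : InvAffine G → T.Opens := fun W =>
    (a ≫ quotMap G hb) ⁻¹ᵁ (colimit.ι (chartFunctor G) W).opensRange
  have hV : IsOpenCover V := by
    rw [IsOpenCover, eq_top_iff]
    intro x _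
    obtain ⟨W, z, hz⟩ := Scheme.IsLocallyDirected.ι_jointly_surjective (chartFunctor G)
      ((a ≫ quotMap G hb) x)
    rw [Opens.mem_iSup]
    exact ⟨W, z, hz⟩
  refine exists_lift_of_openCover G.t G.s (jm_of_mono G) a b (T.openCoverOfIsOpenCover V hV) ?_
  intro W
  change ∃ r : (V W).toScheme ⟶ G.R, r ≫ G.t = (V W).ι ≫ a ∧ r ≫ G.s = (V W).ι ≫ b
  have haW : Set.range ((V W).ι ≫ a) ⊆ Set.range W.1.ι := by
    rintro _ ⟨y, rfl⟩
    rw [Scheme.Opens.range_ι]
    have h1 : ((V W).ι ≫ a) y ∈ quotMap G hb ⁻¹ᵁ (colimit.ι (chartFunctor G) W).opensRange := by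
      exact y.2
    rw [quotMap_preimage] at h1
    exact h1
  have hbW : Set.range ((V W).ι ≫ b) ⊆ Set.range W.1.ι := by
    rintro _ ⟨y, rfl⟩
    rw [Scheme.Opens.range_ι]
    have h1 : ((V W).ι ≫ b) y ∈ quotMap G hb ⁻¹ᵁ (colimit.ι (chartFunctor G) W).opensRange := by
      have hV' : V W = (b ≫ quotMap G hb) ⁻¹ᵁ (colimit.ι (chartFunctor G) W).opensRange := by
        simp only [V, hab]
      have : y.1 ∈ (b ≫ quotMap G hb) ⁻¹ᵁ (colimit.ι (chartFunctor G) W).opensRange :=
        hV' ▸ y.2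
      exact this
    rw [quotMap_preimage] at h1
    exact h1
  let aW := IsOpenImmersion.lift W.1.ι ((V W).ι ≫ a) haW
  let bW := IsOpenImmersion.lift W.1.ι ((V W).ι ≫ b) hbW
  have haW' : aW ≫ W.1.ι = (V W).ι ≫ a := IsOpenImmersion.lift_fac _ _ _
  have hbW' : bW ≫ W.1.ι = (V W).ι ≫ b := IsOpenImmersion.lift_fac _ _ _
  have heq : aW ≫ chartMap G W = bW ≫ chartMap G W := by
    rw [← cancel_mono (colimit.ι (chartFunctor G) W), Category.assoc, Category.assoc,
      ← ι_quotMap G hb W, ← Category.assoc, ← Category.assoc, haW', hbW', Category.assoc,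
      Category.assoc, hab]
  have hpb := isPullback_chartMap G W
  let rW : (V W).toScheme ⟶ (G.s ⁻¹ᵁ W.1).toScheme := hpb.lift aW bW heq
  have h1 : rW ≫ (GW G W).t = aW := hpb.lift_fst _ _ _
  have h2 : rW ≫ (GW G W).s = bW := hpb.lift_snd _ _ _
  have e1 : (GW G W).t ≫ W.1.ι = (G.s ⁻¹ᵁ W.1).ι ≫ G.t := Res.t'_ι G W.1 W.2.2
  have e2 : (GW G W).s ≫ W.1.ι = (G.s ⁻¹ᵁ W.1).ι ≫ G.s := Res.s'_ι G W.1
  refine ⟨rW ≫ (G.s ⁻¹ᵁ W.1).ι, ?_, ?_⟩
  · exact (Category.assoc rW _ G.t).trans ((congrArg (rW ≫ ·) e1.symm).trans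
      ((Category.assoc rW _ _).symm.trans ((congrArg (· ≫ W.1.ι) h1).trans haW')))
  · exact (Category.assoc rW _ G.s).trans ((congrArg (rW ≫ ·) e2.symm).trans
      ((Category.assoc rW _ _).symm.trans ((congrArg (· ≫ W.1.ι) h2).trans hbW')))

theorem isPullback_quotMap [Mono G.j] :
    IsPullback G.t G.s (quotMap G hb) (quotMap G hb) := by
  have key : ∀ c : PullbackCone (quotMap G hb) (quotMap G hb),
      ∃ r : c.pt ⟶ G.R, r ≫ G.t = c.fst ∧ r ≫ G.s = c.snd :=
    fun c => exists_lift_quotMap G hb c.fst c.snd c.condition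
  choose l hl1 hl2 using key
  refine ⟨⟨quotMap_w G hb⟩, ⟨PullbackCone.IsLimit.mk _ l hl1 hl2 ?_⟩⟩
  intro c m hm1 hm2
  exact jm_of_mono G _ _ (hm1.trans (hl1 c).symm) (hm2.trans (hl2 c).symm)

theorem isFinLocFree_quotMap [Mono G.j] :
    IsFinite (quotMap G hb) ∧ Flat (quotMap G hb) ∧
      LocallyOfFinitePresentation (quotMap G hb) := by
  let 𝒰 := Scheme.IsLocallyDirected.openCover (chartFunctor G)
  have hiso : ∀ W : InvAffine G, ∃ e : W.1.toScheme ≅ pullback (quotMap G hb) (𝒰.f W),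
      e.hom ≫ pullback.snd _ _ = chartMap G W := by
    intro W
    have h := (isPullback_chart G hb W).flip
    exact ⟨h.isoPullback, h.isoPullback_hom_snd⟩
  obtain ⟨h1, h2, h3⟩ : (∀ W, IsFinite (chartMap G W)) ∧ (∀ W, Flat (chartMap G W)) ∧
      (∀ W, LocallyOfFinitePresentation (chartMap G W)) :=
    ⟨fun W => (isFinLocFree_chartMap G W).1, fun W => (isFinLocFree_chartMap G W).2.1,
      fun W => (isFinLocFree_chartMap G W).2.2⟩
  refine ⟨?_, ?_, ?_⟩
  · rw [IsZariskiLocalAtTarget.iff_of_openCover (P := @IsFinite) 𝒰]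
    intro W
    obtain ⟨e, he⟩ := hiso W
    have := h1 W
    rw [← he] at this
    exact (MorphismProperty.cancel_left_of_respectsIso @IsFinite e.hom _).mp this
  · rw [IsZariskiLocalAtTarget.iff_of_openCover (P := @Flat) 𝒰]
    intro W
    obtain ⟨e, he⟩ := hiso W
    have := h2 W
    rw [← he] at this
    exact (MorphismProperty.cancel_left_of_respectsIso @Flat e.hom _).mp this
  · rw [IsZariskiLocalAtTarget.iff_of_openCover (P := @LocallyOfFinitePresentation) 𝒰]
    intro W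
    obtain ⟨e, he⟩ := hiso W
    have := h3 W
    rw [← he] at this
    exact (MorphismProperty.cancel_left_of_respectsIso @LocallyOfFinitePresentation e.hom _).mp this

omit [IsFinite G.s] [Flat G.s] [LocallyOfFinitePresentation G.s] [Fact (OrbitsAffine G)] in
/-- **Quotient by a finite locally free equivalence relation**: any coequalizer is an effective
quotient and is finite locally free. -/
theorem main_eq2 (ha : Mor2.IsFinLocFree G.s)
    (hb : ∀ x : G.U, ∃ V : G.U.Opens, IsAffineOpen V ∧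
      G.t.base '' (G.s.base ⁻¹' {x}) ⊆ (V : Set G.U))
    [Mono G.j] (Y : Scheme.{u}) (p : G.U ⟶ Y) (w : G.t ≫ p = G.s ≫ p)
    (hc : IsColimit (Cofork.ofπ p w)) :
    IsPullback G.t G.s p p ∧ Mor2.IsFinLocFree p := by
  obtain ⟨h1, h2, h3⟩ := ha
  haveI := h1
  haveI := h2
  haveI := h3
  haveI : Fact (OrbitsAffine G) := ⟨hb⟩
  have hq := isGQ_quotMap G hb
  let e : quotScheme G ≅ Y := hq.isColimit.coconePointUniqueUpToIso hc
  have he : quotMap G hb ≫ e.hom = p :=
    hq.isColimit.comp_coconePointUniqueUpToIso_hom hc WalkingParallelPair.one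
  obtain ⟨f1, f2, f3⟩ := isFinLocFree_quotMap G hb
  refine ⟨?_, ?_, ?_, ?_⟩
  · refine (isPullback_quotMap G hb).of_iso (Iso.refl _) (Iso.refl _) (Iso.refl _) e ?_ ?_ ?_ ?_
    · simp
    · simp
    · simpa using he
    · simpa using he
  · rw [← he]
    infer_instance
  · rw [← he]
    infer_instance
  · rw [← he]
    infer_instance

end Groth.Agent.Lib.Helper11.Ffg
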