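import Groth.Agent.Lib.Helper12AffineDescent
import Mathlib.AlgebraicGeometry.Morphisms.Descent
import Mathlib.AlgebraicGeometry.Morphisms.AffineAnd
import Mathlib.AlgebraicGeometry.Morphisms.Finite
import Mathlib.AlgebraicGeometry.Morphisms.Integral
import Mathlib.AlgebraicGeometry.Morphisms.ClosedImmersion
import Mathlib.AlgebraicGeometry.Morphisms.Proper
import Mathlib.AlgebraicGeometry.Morphisms.LocalFlatDescent
import Mathlib.RingTheory.Finiteness.Descent
import Mathlib.RingTheory.IntegralClosure.IsIntegralClosure.Basic
import Mathlib.RingTheory.RingHom.Integral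
import Mathlib.RingTheory.Flat.FaithfullyFlat.Descent

/-!
Helper library (helper12): fpqc descent of further properties of morphisms of schemes, built on
affine descent (`Helper12AffineDescent`): properties of the form `affineAnd Q` (finite, integral,
closed immersion), quasi-compact, quasi-separated, separated, proper.
-/

set_option autoImplicit false
universe u
open CategoryTheory Limits MorphismProperty AlgebraicGeometry TensorProduct

namespace Groth.Agent.Lib.Helper12

lemma isIntegral_of_tensorProduct_of_faithfullyFlat {R S T : Type u} [CommRing R] [CommRing S]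
    [CommRing T] [Algebra R S] [Algebra R T] [Module.FaithfullyFlat R S]
    [Algebra.IsIntegral S (S ⊗[R] T)] : Algebra.IsIntegral R T := by
  constructor
  intro t
  let A : Subalgebra R T := Algebra.adjoin R {t}
  have hfg : A.FG := by
    have := Subalgebra.fg_adjoin_finset (R := R) ({t} : Finset T)
    simpa using this
  have hft : Algebra.FiniteType R A := (Subalgebra.fg_iff_finiteType A).mp hfg
  let j : S ⊗[R] A →ₐ[S] S ⊗[R] T := Algebra.TensorProduct.map (AlgHom.id S S) A.val
  have hj : Function.Injective j :=
    Module.Flat.lTensor_preserves_injective_linearMap (M := S) A.val.toLinearMap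
      Subtype.val_injective
  have hint : Algebra.IsIntegral S (S ⊗[R] A) := Algebra.IsIntegral.of_injective j hj
  have hfin : Module.Finite S (S ⊗[R] A) := Algebra.IsIntegral.finite
  have hfinA : Module.Finite R A := Module.Finite.of_finite_tensorProduct_of_faithfullyFlat S
  have hintA : Algebra.IsIntegral R A := Algebra.IsIntegral.of_finite R A
  have h1 : IsIntegral R (⟨t, Algebra.self_mem_adjoin_singleton R t⟩ : A) := hintA.isIntegral _
  exact h1.map A.val

lemma isIntegral_codescendsAlong_faithfullyFlat :
    RingHom.CodescendsAlong RingHom.IsIntegral RingHom.FaithfullyFlat := by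
  refine .mk _ RingHom.isIntegral_respectsIso fun R S T _ _ _ _ _ h h' ↦ ?_
  rw [RingHom.faithfullyFlat_algebraMap_iff] at h
  have : Algebra.IsIntegral S (S ⊗[R] T) := algebraMap_isIntegral_iff.mp h'
  exact algebraMap_isIntegral_iff.mpr
    (isIntegral_of_tensorProduct_of_faithfullyFlat (S := S))

set_option backward.isDefEq.respectTransparency.types false in
lemma descendsAlong_of_affineAnd {P : MorphismProperty Scheme.{u}} [P.IsStableUnderBaseChange]
    {Q : ∀ {R S : Type u} [CommRing R] [CommRing S], (R →+* S) → Prop}
    (hP : HasAffineProperty P (affineAnd Q)) (hQ : RingHom.RespectsIso Q)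
    (hQQ' : RingHom.CodescendsAlong Q RingHom.FaithfullyFlat) :
    P.DescendsAlong (@Surjective ⊓ @Flat ⊓ @QuasiCompact) := by
  apply IsZariskiLocalAtTarget.descendsAlong_inf_quasiCompact
  · rw [inf_comm]
    exact inf_le_inf le_rfl (IsLocalIso.le_of_isZariskiLocalAtSource _)
  intro R S Y φ g h hf
  have hg : IsAffineHom g :=
    (descendsAlong_isAffineHom).of_isPullback (IsPullback.of_hasPullback (Spec.map φ) g)
      ⟨h, inferInstance⟩
      (AlgebraicGeometry.HasAffineProperty.affineAnd_le_isAffineHom P inferInstance _ hf)
  have : IsAffine Y := isAffine_of_isAffineHom g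
  wlog hY : ∃ S, Y = Spec S generalizing Y
  · rw [← P.cancel_left_of_respectsIso Y.isoSpec.inv]
    have heq : pullback.fst (Spec.map φ) (Y.isoSpec.inv ≫ g) =
        pullback.map _ _ _ _ (𝟙 _) (Y.isoSpec.inv) (𝟙 _) (by simp) (by simp) ≫
          pullback.fst (Spec.map φ) g := (pullback.lift_fst _ _ _).symm
    refine this _ ?_ inferInstance inferInstance ⟨_, rfl⟩
    rwa [heq, P.cancel_left_of_respectsIso]
  obtain ⟨Y, rfl⟩ := hY
  apply of_pullback_fst_Spec_of_codescendsAlong (P := P) (P' := @Surjective ⊓ @Flat)
    (Q' := RingHom.FaithfullyFlat) hQQ' ?_ ?_ h hf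
  · intro R S f ⟨hf₁, hf₂⟩
    rw [RingHom.FaithfullyFlat.iff_flat_and_comap_surjective]
    refine ⟨?_, (Spec.map f).surjective⟩
    rwa [HasRingHomProperty.Spec_iff (P := @Flat)] at hf₂
  · intro R S f
    exact HasAffineProperty.SpecMap_iff_of_affineAnd hP hQ f

set_option backward.isDefEq.respectTransparency.types false in
theorem descendsAlong_isFinite :
    DescendsAlong @IsFinite
      (@Surjective ⊓ @Flat ⊓ @QuasiCompact : MorphismProperty Scheme.{u}) :=
  descendsAlong_of_affineAnd (Q := RingHom.Finite)
    (inferInstance : HasAffineProperty @IsFinite _) RingHom.finite_respectsIso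
    RingHom.Finite.codescendsAlong_faithfullyFlat

set_option backward.isDefEq.respectTransparency.types false in
theorem descendsAlong_isClosedImmersion :
    DescendsAlong @IsClosedImmersion
      (@Surjective ⊓ @Flat ⊓ @QuasiCompact : MorphismProperty Scheme.{u}) :=
  descendsAlong_of_affineAnd (Q := fun f ↦ Function.Surjective f)
    IsClosedImmersion.hasAffineProperty RingHom.surjective_respectsIso
    RingHom.FaithfullyFlat.codescendsAlong_surjective


set_option backward.isDefEq.respectTransparency.types false in
theorem descendsAlong_isIntegralHom :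
    DescendsAlong @IsIntegralHom
      (@Surjective ⊓ @Flat ⊓ @QuasiCompact : MorphismProperty Scheme.{u}) :=
  descendsAlong_of_affineAnd (Q := RingHom.IsIntegral)
    IsIntegralHom.hasAffineProperty RingHom.isIntegral_respectsIso
    isIntegral_codescendsAlong_faithfullyFlat

set_option backward.isDefEq.respectTransparency.types false in
theorem descendsAlong_quasiCompact :
    DescendsAlong @QuasiCompact
      (@Surjective ⊓ @Flat ⊓ @QuasiCompact : MorphismProperty Scheme.{u}) := by
  apply IsZariskiLocalAtTarget.descendsAlong_inf_quasiCompact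
  · rw [inf_comm]
    exact inf_le_inf le_rfl (IsLocalIso.le_of_isZariskiLocalAtSource _)
  intro R S Y φ g h hfst
  have hfst' : QuasiCompact (pullback.fst (Spec.map φ) g) := hfst
  have : Surjective (Spec.map φ) := h.1
  have h1 : CompactSpace ↥(pullback (Spec.map φ) g) :=
    (quasiCompact_iff_compactSpace (pullback.fst (Spec.map φ) g)).mp hfst'
  have h2 : CompactSpace Y := compactSpace_of_surjective (pullback.snd (Spec.map φ) g)
  exact (quasiCompact_iff_compactSpace g).mpr h2

set_option backward.isDefEq.respectTransparency.types false in
theorem descendsAlong_quasiSeparated :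
    DescendsAlong @QuasiSeparated
      (@Surjective ⊓ @Flat ⊓ @QuasiCompact : MorphismProperty Scheme.{u}) := by
  rw [quasiSeparated_eq_diagonal_is_quasiCompact]
  have := descendsAlong_quasiCompact.{u}
  infer_instance


set_option backward.isDefEq.respectTransparency.types false in
theorem descendsAlong_isSeparated :
    DescendsAlong @IsSeparated
      (@Surjective ⊓ @Flat ⊓ @QuasiCompact : MorphismProperty Scheme.{u}) := by
  rw [IsSeparated.isSeparated_eq_diagonal_isClosedImmersion]
  have := descendsAlong_isClosedImmersion.{u}
  infer_instance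

set_option backward.isDefEq.respectTransparency.types false in
theorem descendsAlong_isProper :
    DescendsAlong @IsProper
      (@Surjective ⊓ @Flat ⊓ @QuasiCompact : MorphismProperty Scheme.{u}) := by
  rw [isProper_eq]
  have := descendsAlong_isSeparated.{u}
  infer_instance

end Groth.Agent.Lib.Helper12
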