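import Mathlib.AlgebraicGeometry.Morphisms.Flat
import Mathlib.RingTheory.Flat.FaithfullyFlat.Algebra

set_option autoImplicit false
universe u

namespace Groth.Agent.Lib.Helper12

open TensorProduct

/-- If `S → T` is faithfully flat and `R → T` is flat then `R → S` is flat. -/
lemma flat_of_faithfullyFlat_of_flat_comp (R S T : Type u) [CommRing R] [CommRing S] [CommRing T]
    [Algebra R S] [Algebra S T] [Algebra R T] [IsScalarTower R S T]
    [Module.FaithfullyFlat S T] [Module.Flat R T] : Module.Flat R S := by
  rw [Module.Flat.iff_lTensor_preserves_injective_linearMap]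
  intro N P _ _ _ _ f hf
  let g : S ⊗[R] N →ₗ[S] S ⊗[R] P := TensorProduct.AlgebraTensorModule.lTensor S S f
  have hg : ⇑g = ⇑(f.lTensor S) := rfl
  rw [← hg, ← Module.FaithfullyFlat.lTensor_injective_iff_injective S T]
  have key := TensorProduct.AlgebraTensorModule.lTensor_comp_cancelBaseChange
    (R := R) (A := S) (B := T) (M := T) f
  have h1 : Function.Injective (TensorProduct.AlgebraTensorModule.lTensor T T f) :=
    Module.Flat.lTensor_preserves_injective_linearMap (M := T) f hf
  have h2 : Function.Injective
      ((TensorProduct.AlgebraTensorModule.lTensor T T f) ∘ₗ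
        (TensorProduct.AlgebraTensorModule.cancelBaseChange R S T T N).toLinearMap) :=
    h1.comp (LinearEquiv.injective _)
  rw [key] at h2
  have h3 : Function.Injective
      (⇑(TensorProduct.AlgebraTensorModule.cancelBaseChange R S T T P) ∘
        ⇑(LinearMap.lTensor T g)) := h2
  exact Function.Injective.of_comp h3

open AlgebraicGeometry CategoryTheory

/-- If `f` is flat and surjective and `f ≫ g` is flat, then `g` is flat. -/
lemma flat_of_comp_of_flat_of_surjective {X Y Z : Scheme.{u}} (f : X ⟶ Y) (g : Y ⟶ Z)
    [Flat f] [Surjective f] [Flat (f ≫ g)] : Flat g := by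
  rw [Flat.iff_flat_stalkMap]
  intro y
  obtain ⟨x, rfl⟩ := f.surjective y
  have h2 : (f.stalkMap x).hom.Flat := Flat.stalkMap f x
  set φ := (g.stalkMap (f x)).hom with hφ
  set ψ := (f.stalkMap x).hom with hψ
  have h1 : (ψ.comp φ).Flat := by
    have := Flat.stalkMap (f ≫ g) x
    rw [Scheme.Hom.stalkMap_comp] at this
    exact this
  have hloc : IsLocalHom ψ := inferInstance
  algebraize [φ, ψ, ψ.comp φ]
  have : IsLocalHom (algebraMap (Y.presheaf.stalk (f x)) (X.presheaf.stalk x)) := hloc
  have : Module.FaithfullyFlat (Y.presheaf.stalk (f x)) (X.presheaf.stalk x) :=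
    Module.FaithfullyFlat.of_flat_of_isLocalHom
  exact flat_of_faithfullyFlat_of_flat_comp _ (Y.presheaf.stalk (f x)) (X.presheaf.stalk x)

end Groth.Agent.Lib.Helper12
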