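import Mathlib.AlgebraicGeometry.Sites.Fpqc
import Mathlib.AlgebraicGeometry.Morphisms.Descent
import Mathlib.AlgebraicGeometry.Morphisms.Basic
import Mathlib.AlgebraicGeometry.Morphisms.FlatDescent

/-!
Helper library (helper12): a property of morphisms of schemes which is Zariski-local on the target
and descends along single fpqc morphisms can be checked on an fpqc covering family
(`of_fpqcCover`).
-/

set_option autoImplicit false
set_option linter.unusedSectionVars false
universe u
open CategoryTheory Limits MorphismProperty AlgebraicGeometry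

namespace Groth.Agent.Lib.Helper12

variable {P : MorphismProperty Scheme.{u}} [IsZariskiLocalAtTarget P]

/-- base change of `f` along `w ≫ u` with `w` an open immersion, from base change along `u`. -/
lemma of_pullback_snd_comp_openImmersion {X Y U W : Scheme.{u}} (f : X ⟶ Y) (u : U ⟶ Y) (w : W ⟶ U)
    [IsOpenImmersion w] (H : P (pullback.snd f u)) : P (pullback.snd f (w ≫ u)) := by
  let q : pullback f (w ≫ u) ⟶ pullback f u :=
    pullback.lift (pullback.fst _ _) (pullback.snd _ _ ≫ w)
      (by rw [pullback.condition, Category.assoc])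
  have hq1 : q ≫ pullback.fst f u = pullback.fst f (w ≫ u) := pullback.lift_fst _ _ _
  have hq2 : q ≫ pullback.snd f u = pullback.snd f (w ≫ u) ≫ w := pullback.lift_snd _ _ _
  have hbig : IsPullback (pullback.snd f (w ≫ u)) (q ≫ pullback.fst f u) (w ≫ u) f := by
    rw [hq1]
    exact (IsPullback.of_hasPullback f (w ≫ u)).flip
  have htop : IsPullback (pullback.snd f (w ≫ u)) q w (pullback.snd f u) :=
    IsPullback.of_bot hbig hq2.symm (IsPullback.of_hasPullback f u).flip
  exact IsZariskiLocalAtTarget.of_isPullback htop.flip H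


lemma pullback_snd_congr {X Y U : Scheme.{u}} (f : X ⟶ Y) {g g' : U ⟶ Y} (e : g = g')
    (H : P (pullback.snd f g)) : P (pullback.snd f g') := by
  subst e; exact H

lemma pullback_snd_pullback_snd {X Y U W : Scheme.{u}} (f : X ⟶ Y) (g : U ⟶ Y) (g' : W ⟶ U)
    (H : P (pullback.snd f (g' ≫ g))) : P (pullback.snd (pullback.snd f g) g') := by
  rw [← pullbackLeftPullbackSndIso_hom_snd, P.cancel_left_of_respectsIso]
  exact H

set_option backward.isDefEq.respectTransparency.types false in
/-- An fpqc-local-on-the-target property can be checked on an fpqc covering family. -/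
theorem of_fpqcCover (hP : P.DescendsAlong
      (@Surjective ⊓ @Flat ⊓ @QuasiCompact : MorphismProperty Scheme.{u}))
    {X Y : Scheme.{u}} (f : X ⟶ Y) (𝒰 : Scheme.Cover Scheme.fpqcPrecoverage Y)
    (h : ∀ i : 𝒰.I₀, P (pullback.snd f (𝒰.f i))) : P f := by
  let 𝒰' : Scheme.Cover (Scheme.propQCPrecoverage @Flat) Y := 𝒰
  have hflat : ∀ i, Flat (𝒰.f i) := fun i => 𝒰'.forgetQc.map_prop i
  have hqc : QuasiCompactCover 𝒰.toPreZeroHypercover :=
    inferInstanceAs (QuasiCompactCover 𝒰'.toPreZeroHypercover)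
  rw [IsZariskiLocalAtTarget.iff_of_openCover (P := P) Y.affineCover]
  intro j
  set ι := Y.affineCover.f j with hι
  change P (pullback.snd f ι)
  have hV : IsAffineOpen ι.opensRange := isAffineOpen_opensRange ι
  obtain ⟨n, a, W, hW, hU⟩ :=
    QuasiCompactCover.exists_isAffineOpen_of_isCompact 𝒰.toPreZeroHypercover hV.isCompact
  have hWaff : ∀ k, IsAffine (W k : Scheme.{u}) := hW
  -- the maps W k ⟶ V_j
  have hrange : ∀ k, Set.range ((W k).ι ≫ 𝒰.f (a k)).base ⊆ Set.range ι.base := by
    intro k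
    rintro _ ⟨w, rfl⟩
    have : (𝒰.f (a k)) w.1 ∈ (ι.opensRange : Set Y) := by
      rw [← hU]
      exact Set.mem_iUnion.mpr ⟨k, w.1, w.2, rfl⟩
    obtain ⟨y, hy⟩ := this
    exact ⟨y, hy⟩
  let t : ∀ k, (W k : Scheme.{u}) ⟶ Y.affineCover.X j := fun k =>
    IsOpenImmersion.lift ι ((W k).ι ≫ 𝒰.f (a k)) (hrange k)
  have ht : ∀ k, t k ≫ ι = (W k).ι ≫ 𝒰.f (a k) := fun k => IsOpenImmersion.lift_fac _ _ _
  let p : (∐ fun k => (W k : Scheme.{u})) ⟶ Y.affineCover.X j := Sigma.desc t
  have hp : ∀ k, Sigma.ι (fun k => (W k : Scheme.{u})) k ≫ p = t k := fun k => Sigma.ι_desc _ _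
  have htflat : ∀ k, Flat (t k) := by
    intro k
    have h1 : Flat (t k ≫ ι) := by rw [ht]; have := hflat (a k); infer_instance
    exact MorphismProperty.of_postcomp (W := @Flat) (W' := @IsOpenImmersion) (t k) ι
      inferInstance h1
  have hpflat : Flat p := by
    rw [IsZariskiLocalAtSource.iff_of_openCover (P := @Flat) (sigmaOpenCover _)]
    intro k
    change Flat (Sigma.ι (fun k => (W k : Scheme.{u})) k ≫ p)
    rw [hp]
    exact htflat k
  have hpsurj : Surjective p := by
    constructor
    intro y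
    have hy : ι y ∈ (ι.opensRange : Set Y) := ⟨y, rfl⟩
    rw [← hU] at hy
    obtain ⟨k, w, hw, hwy⟩ := Set.mem_iUnion.mp hy
    refine ⟨Sigma.ι (fun k => (W k : Scheme.{u})) k ⟨w, hw⟩, ?_⟩
    apply ι.injective
    have e : Sigma.ι (fun k => (W k : Scheme.{u})) k ≫ p ≫ ι = (W k).ι ≫ 𝒰.f (a k) := by
      rw [← Category.assoc, hp, ht]
    calc ι (p (Sigma.ι (fun k => (W k : Scheme.{u})) k ⟨w, hw⟩))
        = (Sigma.ι (fun k => (W k : Scheme.{u})) k ≫ p ≫ ι) ⟨w, hw⟩ := by simp
      _ = ((W k).ι ≫ 𝒰.f (a k)) ⟨w, hw⟩ := by rw [e]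
      _ = 𝒰.f (a k) w := rfl
      _ = ι y := hwy
  have hpqc : QuasiCompact p := inferInstance
  -- the base change of `f` along `p` has `P`
  have hbc : P (pullback.snd (pullback.snd f ι) p) := by
    rw [IsZariskiLocalAtTarget.iff_of_openCover (P := P) (sigmaOpenCover _)]
    intro k
    change P (pullback.snd (pullback.snd (pullback.snd f ι) p)
      (Sigma.ι (fun k => (W k : Scheme.{u})) k))
    apply pullback_snd_pullback_snd
    apply pullback_snd_congr _ (hp k).symm
    apply pullback_snd_pullback_snd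
    apply pullback_snd_congr _ (ht k).symm
    exact of_pullback_snd_comp_openImmersion f (𝒰.f (a k)) (W k).ι (h (a k))
  exact hP.of_isPullback (IsPullback.of_hasPullback (pullback.snd f ι) p).flip
    ⟨⟨hpsurj, hpflat⟩, hpqc⟩ hbc

end Groth.Agent.Lib.Helper12
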