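import Groth.Prelude.Def_NonAbH2
import Groth.Agent.Lib.Helper12Act
import Groth.Agent.Lib.Helper12Flat
import Groth.Agent.Lib.Helper12FpqcCover
import Groth.Agent.Lib.Helper12Descent

/-!
Helper library (helper12): trivialisation of pseudo-torsors along sections, fpqc-local properties
of torsors, flat descent.
-/

set_option autoImplicit false
set_option linter.style.haveILetI false
universe u

open CategoryTheory MonoidalCategory CartesianMonoidalCategory MonObj AlgebraicGeometry

namespace Groth.Agent.Lib.Helper12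

variable {S : Scheme.{u}} {G X : Over S} [GrpObj G] (a : AlgGrp.Action G X)

/-- trivialization of a pseudo-torsor along a section `s : T ⟶ X`. -/
lemma exists_iso_of_section (h : NonAbH1.IsPseudoTorsorSch a) {T : Over S} (s : T ⟶ X) :
    ∃ e : G ⊗ T ≅ X ⊗ T, e.hom ≫ snd X T = snd G T := by
  haveI : IsIso (lift a.act (snd G X)) := h
  set Φ := lift a.act (snd G X) with hΦ
  have hΦ1 : Φ ≫ fst X X = a.act := by simp [Φ]
  have hΦ2 : Φ ≫ snd X X = snd G X := by simp [Φ]
  have h2 : inv Φ ≫ snd G X = snd X X := by rw [IsIso.inv_comp_eq, hΦ2]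
  have h3 : inv Φ ≫ a.act = fst X X := by rw [IsIso.inv_comp_eq, hΦ1]
  let φ : G ⊗ T ⟶ X ⊗ T := lift ((G ◁ s) ≫ a.act) (snd G T)
  let ψ : X ⊗ T ⟶ G ⊗ T := lift ((X ◁ s) ≫ inv Φ ≫ fst G X) (snd X T)
  have key1 : φ ≫ (X ◁ s) = (G ◁ s) ≫ Φ := by
    apply CartesianMonoidalCategory.hom_ext
    · simp [φ, hΦ1]
    · simp [φ, hΦ2]
  have key2 : ψ ≫ (G ◁ s) = (X ◁ s) ≫ inv Φ := by
    apply CartesianMonoidalCategory.hom_ext
    · simp [ψ]
    · simp [ψ, h2]
  refine ⟨⟨φ, ψ, ?_, ?_⟩, by simp [φ]⟩
  · apply CartesianMonoidalCategory.hom_ext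
    · simp only [ψ, Category.assoc, lift_fst, Category.id_comp]
      rw [reassoc_of% key1]
      simp
    · simp [φ, ψ]
  · apply CartesianMonoidalCategory.hom_ext
    · simp only [φ, Category.assoc, lift_fst, Category.id_comp]
      rw [reassoc_of% key2, h3]
      simp
    · simp [φ, ψ]


open Limits in
/-- For a pseudo-torsor `X` under `G`, the base change of `X ⟶ S` along a morphism `f` over which
`X` has a section is isomorphic to the base change of `G ⟶ S`. -/
lemma pullback_snd_of_hasSectionOver {P : MorphismProperty Scheme.{u}} [P.RespectsIso]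
    [P.IsStableUnderBaseChange] (h : NonAbH1.IsPseudoTorsorSch a) (hG : P G.hom)
    {S' : Scheme.{u}} (f : S' ⟶ S) (hs : NonAbH1.HasSectionOver X f) :
    P (pullback.snd X.hom f) := by
  obtain ⟨s, hs⟩ := hs
  let T : Over S := Over.mk f
  let s' : T ⟶ X := Over.homMk s hs
  obtain ⟨e, he⟩ := exists_iso_of_section a h s'
  have h1 : (snd X T).left = e.inv.left ≫ (snd G T).left := by
    rw [← Over.comp_left, ← he, Iso.inv_hom_id_assoc]
  have hiso : IsIso e.inv.left := inferInstanceAs (IsIso ((Over.forget S).map e.inv))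
  let j : pullback X.hom f ⟶ pullback G.hom f := e.inv.left
  have hj : IsIso j := hiso
  have h2 : pullback.snd X.hom f = j ≫ pullback.snd G.hom f := h1
  rw [h2, P.cancel_left_of_respectsIso]
  exact P.pullback_snd _ _ hG


open Limits MorphismProperty in
/-- flatness descends along fpqc morphisms. -/
theorem descendsAlong_flat :
    DescendsAlong @Flat
      (@Surjective ⊓ @Flat ⊓ @QuasiCompact : MorphismProperty Scheme.{u}) := by
  constructor
  intro A X Y Z fst snd f g h hf hfst
  obtain ⟨⟨hf1, hf2⟩, hf3⟩ := hf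
  have hf1 : Surjective f := hf1
  have hf2 : Flat f := hf2
  have hfst : Flat fst := hfst
  have h1 : Flat snd := MorphismProperty.of_isPullback (P := @Flat) h hf2
  have h2 : Surjective snd := MorphismProperty.of_isPullback (P := @Surjective) h hf1
  have h3 : Flat (snd ≫ g) := by rw [← h.w]; infer_instance
  exact flat_of_comp_of_flat_of_surjective snd g

open Limits MorphismProperty in
/-- An fpqc-local-on-the-target property can be checked on a covering presieve of the fpqc
precoverage. -/
theorem of_mem_fpqcPrecoverage {P : MorphismProperty Scheme.{u}} [IsZariskiLocalAtTarget P]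
    (hP : P.DescendsAlong (@Surjective ⊓ @Flat ⊓ @QuasiCompact : MorphismProperty Scheme.{u}))
    {X Y : Scheme.{u}} (g : X ⟶ Y) (R : Presieve Y) (hR : R ∈ Scheme.fpqcPrecoverage Y)
    (h : ∀ ⦃Y' : Scheme.{u}⦄ (f : Y' ⟶ Y), R f → P (pullback.snd g f)) : P g := by
  obtain ⟨I, Z, f, rfl⟩ := Presieve.exists_eq_ofArrows R
  let 𝒰 : Scheme.Cover Scheme.fpqcPrecoverage Y := ⟨⟨I, Z, f⟩, hR⟩
  exact of_fpqcCover hP g 𝒰 (fun i => h (f i) ⟨i⟩)

end Groth.Agent.Lib.Helper12
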