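import Groth.Prelude.Def_QuotSh
import Groth.Agent.Lib.Helper9QuotSh
import Groth.Agent.Lib.Helper12Torsor
import Mathlib

/-!
# Quotient sheaves of equivalence relations of schemes: from sheaf quotient back to schemes
-/

set_option autoImplicit false
universe u

open CategoryTheory Limits AlgebraicGeometry Opposite

namespace Groth.Agent.Lib.Helper12.QuotShLib

open Groth.Agent.Lib.Helper9

variable (K : Precoverage Scheme.{u}) {S : Scheme.{u}}

/-- An epimorphism `h_G ⟶ h_H` of sheaves for the topology generated by `K` admits local lifts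
over a `K`-covering of `H`. -/
lemma exists_cover_of_epi [K.IsStableUnderComposition] [K.IsStableUnderBaseChange] [K.HasIsos]
    {G H : Over S} (f : G ⟶ H) (h : Epi (QuotSh.repMap K f)) :
    ∃ R ∈ K H.left, ∀ ⦃V : Scheme.{u}⦄ (g : V ⟶ H.left), R g →
      ∃ l : Over.mk (g ≫ H.hom) ⟶ G, l.left ≫ f.left = g := by
  have h1 : Sheaf.IsLocallySurjective (QuotSh.repMap K f) :=
    (Sheaf.isLocallySurjective_iff_epi _).mpr h
  have h2 : Presheaf.IsLocallySurjective (QuotSh.J K S)
      (Functor.whiskerRight (yoneda.map f) uliftFunctor.{u+1, u}) :=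
    (Presheaf.isLocallySurjective_presheafToSheaf_map_iff _ _).1 h1
  have h3 := h2.imageSieve_mem (U := H) (ULift.up (𝟙 H))
  rw [GrothendieckTopology.mem_over_iff,
    Precoverage.mem_toGrothendieck_iff_of_isStableUnderComposition] at h3
  obtain ⟨R, hR, hle⟩ := h3
  refine ⟨R, hR, fun V g hg => ?_⟩
  have h4 := hle _ _ hg
  rw [Sieve.overEquiv_iff] at h4
  obtain ⟨t, ht⟩ := h4
  refine ⟨t.down, ?_⟩
  have h5 := congrArg ULift.down ht
  have h6 : t.down ≫ f = Over.homMk g rfl ≫ 𝟙 H := h5
  have h7 := congrArg CommaMorphism.left h6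
  simpa using h7

lemma generate_singleton_mem_J {Z T : Over S} (p : Z ⟶ T)
    (hp : Presieve.singleton p.left ∈ K T.left) :
    Sieve.generate (Presieve.singleton p) ∈ QuotSh.J K S T := by
  rw [GrothendieckTopology.mem_over_iff]
  refine GrothendieckTopology.superset_covering _ ?_
    (Precoverage.generate_mem_toGrothendieck hp)
  rintro W g ⟨W', a, b, ⟨⟩, rfl⟩
  rw [Sieve.overEquiv_iff]
  refine ⟨Z, Over.homMk a (by simp), p, ⟨⟩, ?_⟩
  apply Over.OverMorphism.ext
  simp

lemma epi_repMap_of_singleton_mem {Z T : Over S} (p : Z ⟶ T)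
    (hp : Presieve.singleton p.left ∈ K T.left) : Epi (QuotSh.repMap K p) :=
  epi_repMap_of_generate_mem K p (generate_singleton_mem_J K p hp)

/-- If `(a, b)` is the kernel pair of `q`, then the base change of `q` along `l ≫ q` is a base
change of `b`. -/
lemma snd_of_lift (P : MorphismProperty Scheme.{u}) [P.IsStableUnderBaseChange]
    {A U Y V : Scheme.{u}} {a b : A ⟶ U} {q : U ⟶ Y} (B : IsPullback a b q q) (hb : P b)
    (l : V ⟶ U) : P (pullback.snd q (l ≫ q)) := by
  have A' := IsPullback.of_hasPullback q (l ≫ q)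
  have hc : pullback.fst q (l ≫ q) ≫ q = (pullback.snd q (l ≫ q) ≫ l) ≫ q := by
    rw [Category.assoc, pullback.condition]
  have s : IsPullback (B.lift _ _ hc ≫ a) (pullback.snd q (l ≫ q)) q (l ≫ q) := by
    rw [B.lift_fst]; exact A'
  have key := IsPullback.of_right s (B.lift_snd _ _ hc) B
  exact MorphismProperty.of_isPullback (P := P) key hb

/-- kernel pair + covering quotient map gives the quotient sheaf. -/
lemma isQuotient_of_isKernelPair {R U Y : Over S} (s t : R ⟶ U) (q : U ⟶ Y)
    (hk : IsKernelPair q s t) (hq : Presieve.singleton q.left ∈ K Y.left) :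
    QuotSh.IsQuotient K s t q := by
  have w : s ≫ q = t ≫ q := hk.w
  have hk' := Functor.map_isPullback (Over.forget S) hk
  simp only [Over.forget_obj, Over.forget_map] at hk'
  have w' : t.left ≫ q.left = s.left ≫ q.left := hk'.w.symm
  refine isQuotient_of_epi_repMap K s t q w w' (epi_repMap_of_singleton_mem K q hq) ?_
  have hiso : IsIso (pullback.lift t.left s.left w') := by
    have : pullback.lift t.left s.left w' = hk'.flip.isoPullback.hom := by
      apply pullback.hom_ext
      · rw [pullback.lift_fst, IsPullback.isoPullback_hom_fst]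
      · rw [pullback.lift_snd, IsPullback.isoPullback_hom_snd]
    rw [this]; infer_instance
  set φ : R ⟶ Over.mk (pullback.fst q.left q.left ≫ U.hom) :=
    Over.homMk (pullback.lift t.left s.left w')
      (((Category.assoc _ _ _).symm.trans (congrArg (fun k => k ≫ U.hom)
        (pullback.lift_fst t.left s.left w'))).trans (Over.w t)) with hφ
  have h1 : IsIso ((Over.forget S).map φ) := hiso
  have h2 : IsIso φ := isIso_of_reflects_iso φ (Over.forget S)
  have h3 : IsIso (QuotSh.repMap K φ) := (repFunctor K S).map_isIso φ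
  infer_instance

section Subcanonical

variable [(QuotSh.J K S).Subcanonical]

/-- For a subcanonical topology, `rep` is the (universe lifted) Yoneda embedding into sheaves. -/
noncomputable def repFunctorIso :
    repFunctor K S ≅ (QuotSh.J K S).uliftYoneda.{u + 1} :=
  (Functor.isoWhiskerRight ((QuotSh.J K S).uliftYonedaCompSheafToPresheaf.{u + 1}).symm
      (presheafToSheaf (QuotSh.J K S) (Type (u + 1)))) ≪≫
    Functor.associator _ _ _ ≪≫
    Functor.isoWhiskerLeft _ (asIso (sheafificationAdjunction (QuotSh.J K S) (Type (u + 1))).counit) ≪≫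
    Functor.rightUnitor _

noncomputable def repFunctorFullyFaithful : (repFunctor K S).FullyFaithful :=
  ((QuotSh.J K S).fullyFaithfulUliftYoneda.{u + 1}).ofIso (repFunctorIso K).symm

instance : (repFunctor K S).Full := (repFunctorFullyFaithful K).full
instance : (repFunctor K S).Faithful := (repFunctorFullyFaithful K).faithful

/-- If `q` exhibits `h_Y` as the quotient sheaf of the equivalence relation `s, t`, then
`s, t` is the kernel pair of `q`. -/
lemma isKernelPair_of_isQuotient {R U Y : Over S} (s t : R ⟶ U) [IsEquivalenceRelation s t]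
    (q : U ⟶ Y) (hq : QuotSh.IsQuotient K s t q) : IsKernelPair q s t := by
  obtain ⟨w, hiso⟩ := hq
  obtain ⟨e⟩ := IsEquivalenceRelation.nonempty_equivalenceRelation (p₁ := s) (p₂ := t)
  have : JointlyMono₂ s t := e.toReflexiveRelation.toJointlyMono₂
  have : JointlyMono₂ ((repFunctor K S).map s) ((repFunctor K S).map t) :=
    jointlyMono₂_map (repFunctor K S) s t
  have e' : EquivalenceRelation (QuotSh.repMap K s) (QuotSh.repMap K t) :=
    equivalenceRelationMap (repFunctor K S) s t e
  have hk : IsKernelPair (QuotSh.quotπ K s t) (QuotSh.repMap K s) (QuotSh.repMap K t) :=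
    sheaf_isKernelPair_of_isColimit (QuotSh.J K S) e' (QuotSh.quotπ K s t)
      (QuotSh.quot_condition K s t) (coequalizerIsCoequalizer _ _)
  have hk2 : IsKernelPair (QuotSh.quotπ K s t ≫ QuotSh.quotDesc K q w)
      (QuotSh.repMap K s) (QuotSh.repMap K t) := hk.comp_of_mono
  have hπ : QuotSh.quotπ K s t ≫ QuotSh.quotDesc K q w = QuotSh.repMap K q :=
    coequalizer.π_desc _ _
  rw [hπ] at hk2
  exact IsPullback.of_map (repFunctor K S) (by rw [w]) hk2

/-- Properties of `q` from `q` being the sheaf quotient. -/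
theorem props_of_isQuotient (hK : K ≤ Scheme.fpqcPrecoverage) [K.IsStableUnderComposition]
    [K.IsStableUnderBaseChange] [K.HasIsos] [Scheme.JointlySurjective K]
    {R U Y : Over S} (s t : R ⟶ U) [IsEquivalenceRelation s t]
    (q : U ⟶ Y) (hq : QuotSh.IsQuotient K s t q) :
    IsKernelPair q s t ∧ Surjective q.left ∧
      ∀ (P : MorphismProperty Scheme.{u}) [IsZariskiLocalAtTarget P] [P.IsStableUnderBaseChange],
        P.DescendsAlong (@Surjective ⊓ @Flat ⊓ @QuasiCompact : MorphismProperty Scheme.{u}) →
        P s.left → P q.left := by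
  have hk := isKernelPair_of_isQuotient K s t q hq
  have hk' := Functor.map_isPullback (Over.forget S) hk
  simp only [Over.forget_obj, Over.forget_map] at hk'
  obtain ⟨w, hiso⟩ := hq
  have hepi : Epi (QuotSh.repMap K q) := by
    have hπ : QuotSh.quotπ K s t ≫ QuotSh.quotDesc K q w = QuotSh.repMap K q :=
      coequalizer.π_desc _ _
    rw [← hπ]
    have : Epi (QuotSh.quotπ K s t) := coequalizer.π_epi
    infer_instance
  obtain ⟨R', hR', hlift⟩ := exists_cover_of_epi K q hepi
  refine ⟨hk, ?_, ?_⟩
  · obtain ⟨I, Z, φ, rfl⟩ := Presieve.exists_eq_ofArrows R'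
    let 𝒰 : Scheme.Cover K Y.left := ⟨⟨I, Z, φ⟩, hR'⟩
    refine ⟨fun x => ?_⟩
    obtain ⟨j, y, hy⟩ := 𝒰.exists_eq x
    obtain ⟨l, hl⟩ := hlift (φ j) ⟨j⟩
    refine ⟨l.left y, ?_⟩
    rw [← Scheme.Hom.comp_apply, hl]
    exact hy
  · intro P _ _ hP hs
    refine Groth.Agent.Lib.Helper12.of_mem_fpqcPrecoverage hP q.left R' (hK _ hR')
      (fun V g hg => ?_)
    obtain ⟨l, hl⟩ := hlift g hg
    rw [← hl]
    exact snd_of_lift P hk'.flip hs l.left

end Subcanonical

section Instances

instance hasIsos_fppf : Precoverage.HasIsos Scheme.fppfPrecoverage.{u} := by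
  unfold Scheme.fppfPrecoverage
  have : (@Flat ⊓ @LocallyOfFinitePresentation : MorphismProperty Scheme.{u}).ContainsIdentities :=
    ⟨fun X => ⟨inferInstanceAs (Flat (𝟙 X)), inferInstanceAs (LocallyOfFinitePresentation (𝟙 X))⟩⟩
  infer_instance

instance jointlySurjective_fppf : Scheme.JointlySurjective Scheme.fppfPrecoverage.{u} := by
  unfold Scheme.fppfPrecoverage
  infer_instance

instance hasIsos_etale : Precoverage.HasIsos Scheme.etalePrecoverage.{u} := by
  unfold Scheme.etalePrecoverage
  infer_instance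

instance jointlySurjective_etale : Scheme.JointlySurjective Scheme.etalePrecoverage.{u} := by
  unfold Scheme.etalePrecoverage
  infer_instance

instance isStableUnderComposition_etale :
    Precoverage.IsStableUnderComposition Scheme.etalePrecoverage.{u} := by
  unfold Scheme.etalePrecoverage
  infer_instance

instance isStableUnderBaseChange_etale :
    Precoverage.IsStableUnderBaseChange Scheme.etalePrecoverage.{u} := by
  unfold Scheme.etalePrecoverage
  infer_instance

lemma etalePrecoverage_le_fppfPrecoverage :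
    Scheme.etalePrecoverage.{u} ≤ Scheme.fppfPrecoverage := by
  unfold Scheme.etalePrecoverage Scheme.fppfPrecoverage
  exact Scheme.precoverage_mono fun _ _ _ _ ↦ ⟨inferInstance, inferInstance⟩

lemma etalePrecoverage_le_fpqcPrecoverage :
    Scheme.etalePrecoverage.{u} ≤ Scheme.fpqcPrecoverage :=
  etalePrecoverage_le_fppfPrecoverage.trans Scheme.fppfPrecoverage_le_fpqcPrecoverage

instance subcanonical_etale : (Scheme.etalePrecoverage.{u}.toGrothendieck).Subcanonical :=
  .of_le (Precoverage.toGrothendieck_mono etalePrecoverage_le_fpqcPrecoverage)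

lemma singleton_mem_etalePrecoverage {X Y : Scheme.{u}} (f : X ⟶ Y) [Etale f] [Surjective f] :
    Presieve.singleton f ∈ Scheme.etalePrecoverage Y := by
  rw [← Presieve.ofArrows_pUnit.{0}]
  exact (f.cover (P := @Etale) ‹_›).mem₀

end Instances

end Groth.Agent.Lib.Helper12.QuotShLib
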