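import Mathlib
import Groth.Prelude
import Groth.Agent.Lib.Helper11FfgEq2
import Groth.Agent.Lib.Helper12QuotSh

/-!
# Quotients by finite locally free equivalence relations: fppf quotient sheaf (helper11)
-/

set_option autoImplicit false
set_option linter.style.haveILetI false
set_option linter.unusedSectionVars false
universe u

open CategoryTheory CategoryTheory.Limits AlgebraicGeometry TopologicalSpace

namespace Groth.Agent.Lib.Helper11.Ffg

open Groth.Agent.Lib.Helper11.GQ

variable {S : Scheme.{u}} (G : Grpd.GroupoidScheme S)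

/-- orbits lie in affine opens as soon as every nonempty closed subset contains a point whose orbit
does. -/
theorem orbitsAffine_of_closed [IsFinite G.s] [Flat G.s] [LocallyOfFinitePresentation G.s]
    (h3 : ∀ Z : Set G.U, IsClosed Z → Z.Nonempty →
      ∃ u ∈ Z, ∃ W : G.U.Opens, IsAffineOpen W ∧ ∀ r : G.R, G.s r = u → G.t r ∈ W) :
    OrbitsAffine G := by
  let Good : Set G.U := {x | ∃ V : G.U.Opens, IsAffineOpen V ∧ ∀ r : G.R, G.s r = x → G.t r ∈ V}
  have hopen : IsOpen Good := by
    rw [isOpen_iff_forall_mem_open]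
    rintro x ⟨V, hV, hxV⟩
    obtain ⟨W, hW, hxW, hWinv, -⟩ := exists_invariant_affine_open G x V hV hxV
    refine ⟨W, ?_, W.2, hxW⟩
    intro y hy
    refine ⟨W, hW, fun r hr => ?_⟩
    have h1 : r ∈ G.s ⁻¹ᵁ W := by
      change G.s r ∈ W
      rw [hr]
      exact hy
    rw [hWinv] at h1
    exact h1
  have hall : Good = Set.univ := by
    by_contra hne
    have hne' : (Goodᶜ).Nonempty := by
      rw [Set.nonempty_compl]
      exact hne
    obtain ⟨u, hu, W, hW, huW⟩ := h3 Goodᶜ hopen.isClosed_compl hne'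
    exact hu ⟨W, hW, huW⟩
  intro x
  have hx : x ∈ Good := hall ▸ Set.mem_univ x
  obtain ⟨V, hV, hxV⟩ := hx
  refine ⟨V, hV, ?_⟩
  rintro _ ⟨r, hr, rfl⟩
  exact hxV r hr

/-- the quotient of a finite locally free equivalence relation with affine orbits, as an fppf
quotient sheaf over `S`. -/
theorem exists_fppf_quotient [IsFinite G.s] [Flat G.s] [LocallyOfFinitePresentation G.s]
    [Mono G.j] (hb : OrbitsAffine G) :
    ∃ (M : Over S) (m : Over.mk G.pU ⟶ M), Mor2.IsFinLocFree m.left ∧
      IsPullback G.t G.s m.left m.left ∧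
      QuotSh.IsQuotient Scheme.fppfPrecoverage
        (Over.homMk G.s G.s_over : Over.mk G.pR ⟶ Over.mk G.pU)
        (Over.homMk G.t G.t_over : Over.mk G.pR ⟶ Over.mk G.pU) m := by
  haveI : Fact (OrbitsAffine G) := ⟨hb⟩
  have hq := isGQ_quotMap G hb
  have hw : G.t ≫ G.pU = G.s ≫ G.pU := G.t_over.trans G.s_over.symm
  obtain ⟨pY, hpY⟩ := hq.exists_desc G.pU hw
  obtain ⟨f1, f2, f3⟩ := isFinLocFree_quotMap G hb
  have hpb := isPullback_quotMap G hb
  refine ⟨Over.mk pY, Over.homMk (quotMap G hb) hpY, ⟨f1, f2, f3⟩, hpb, ?_⟩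
  haveI : Surjective (quotMap G hb) := ⟨hq.surj⟩
  apply Groth.Agent.Lib.Helper12.QuotShLib.isQuotient_of_isKernelPair
  · refine IsPullback.of_map (Over.forget S) ?_ hpb.flip
    apply Over.OverMorphism.ext
    simp only [Over.comp_left, Over.homMk_left]
    exact hpb.w.symm
  · exact (quotMap G hb).singleton_mem_fppfPrecoverage

end Groth.Agent.Lib.Helper11.Ffg
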