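import Mathlib

/-!
# The rank polynomial of an idempotent matrix (helper11)

For an idempotent matrix `E` over a commutative ring `A`, `rho E = det (1 + (X - 1) • E) ∈ A[X]` is
multiplicative, and its coefficients form a complete system of orthogonal idempotents (the
idempotents of the rank decomposition of the image of `E`).
-/

set_option autoImplicit false
set_option linter.unusedSectionVars false
universe u

open Polynomial

namespace Groth.Agent.Lib.Helper11.RankPoly

variable {A : Type*} [CommRing A] {n : ℕ} (E : Matrix (Fin n) (Fin n) A)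

/-- the rank polynomial `det (1 + (X - 1) • E)`. -/
noncomputable def rho : A[X] :=
  ((1 : Matrix (Fin n) (Fin n) A[X]) + (X - 1 : A[X]) • E.map (C : A →+* A[X])).det

theorem eval₂_rho {L : Type*} [CommRing L] (φ : A →+* L) (a : L) :
    (rho E).eval₂ φ a = ((1 : Matrix (Fin n) (Fin n) L) + (a - 1) • E.map φ).det := by
  unfold rho
  have h := RingHom.map_det (Polynomial.eval₂RingHom φ a)
    ((1 : Matrix (Fin n) (Fin n) A[X]) + (X - 1 : A[X]) • E.map (C : A →+* A[X]))
  rw [Polynomial.coe_eval₂RingHom] at h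
  rw [h]
  congr 1
  ext i j
  simp [Matrix.one_apply, apply_ite]

variable {E}

theorem one_add_smul_mul (hE : E * E = E) {L : Type*} [CommRing L] (φ : A →+* L) (a b : L) :
    ((1 : Matrix (Fin n) (Fin n) L) + (a - 1) • E.map φ) * (1 + (b - 1) • E.map φ) =
      1 + (a * b - 1) • E.map φ := by
  have hE' : E.map φ * E.map φ = E.map φ := by
    rw [← Matrix.map_mul, hE]
  rw [add_mul, mul_add, mul_add, one_mul, mul_one, one_mul, Matrix.smul_mul, Matrix.mul_smul, hE',
    smul_smul, add_assoc, ← add_smul, ← add_smul]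
  congr 2
  ring

theorem eval₂_rho_mul (hE : E * E = E) {L : Type*} [CommRing L] (φ : A →+* L) (a b : L) :
    (rho E).eval₂ φ (a * b) = (rho E).eval₂ φ a * (rho E).eval₂ φ b := by
  rw [eval₂_rho, eval₂_rho, eval₂_rho, ← Matrix.det_mul, one_add_smul_mul hE]

theorem eval₂_rho_one {L : Type*} [CommRing L] (φ : A →+* L) : (rho E).eval₂ φ 1 = 1 := by
  rw [eval₂_rho]
  simp

section Biv

variable {R : Type*} [CommRing R]

/-- the "diagonal" substitution `X ↦ XY`. -/
theorem coeff_eval₂_diag (p : R[X]) (j : ℕ) :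
    (p.eval₂ ((C : R[X] →+* R[X][X]).comp (C : R →+* R[X])) (C X * X)).coeff j =
      monomial j (p.coeff j) := by
  induction p using Polynomial.induction_on' with
  | add p q hp hq => rw [eval₂_add, coeff_add, hp, hq, coeff_add, map_add]
  | monomial d a =>
    rw [eval₂_monomial, mul_pow, ← C_pow, RingHom.comp_apply, ← mul_assoc, ← C_mul,
      coeff_C_mul_X_pow, coeff_monomial]
    by_cases h : j = d
    · subst h
      rw [if_pos rfl, if_pos rfl, C_mul_X_pow_eq_monomial]
    · rw [if_neg h, if_neg (Ne.symm h), map_zero]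

theorem eval₂_CC_CX (p : R[X]) :
    p.eval₂ ((C : R[X] →+* R[X][X]).comp (C : R →+* R[X])) (C X) = C p := by
  rw [← Polynomial.hom_eval₂, eval₂_C_X]

theorem eval₂_CC_X (p : R[X]) :
    p.eval₂ ((C : R[X] →+* R[X][X]).comp (C : R →+* R[X])) X = p.map C := by
  rw [← Polynomial.eval₂_map, eval₂_C_X]

end Biv

/-- the coefficients of the rank polynomial are orthogonal idempotents. -/
theorem coeff_mul_coeff (hE : E * E = E) (i j : ℕ) :
    (rho E).coeff i * (rho E).coeff j = if j = i then (rho E).coeff j else 0 := by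
  have h := eval₂_rho_mul hE ((C : A[X] →+* A[X][X]).comp (C : A →+* A[X])) (C X) X
  rw [eval₂_CC_CX, eval₂_CC_X] at h
  have h1 : ((eval₂ ((C : A[X] →+* A[X][X]).comp (C : A →+* A[X])) (C X * X) (rho E)).coeff j).coeff i =
      ((C (rho E) * (rho E).map C : A[X][X]).coeff j).coeff i := by rw [h]
  rw [coeff_eval₂_diag, coeff_C_mul, coeff_map, coeff_mul_C, coeff_monomial] at h1
  exact h1.symm

theorem sum_coeff : ((rho E).support.sum fun d => (rho E).coeff d) = 1 := by
  have h := eval₂_rho_one (E := E) (RingHom.id A)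
  rw [Polynomial.eval₂_eq_sum, Polynomial.sum_def] at h
  simpa using h

theorem coeff_zero_rho : (rho E).coeff 0 = (1 - E).det := by
  rw [Polynomial.coeff_zero_eq_eval_zero, ← Polynomial.eval₂_id, eval₂_rho]
  congr 1
  ext i j
  simp [sub_eq_add_neg]

theorem coeff_mul_eval₂ (hE : E * E = E) {L : Type*} [CommRing L] (φ : A →+* L) (g : L) (d : ℕ) :
    φ ((rho E).coeff d) * (rho E).eval₂ φ g = φ ((rho E).coeff d) * g ^ d := by
  rw [Polynomial.eval₂_eq_sum, Polynomial.sum_def, Finset.mul_sum]
  by_cases hd : d ∈ (rho E).support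
  · rw [Finset.sum_eq_single d]
    · rw [← mul_assoc, ← map_mul, coeff_mul_coeff hE, if_pos rfl]
    · intro k _ hk
      rw [← mul_assoc, ← map_mul, coeff_mul_coeff hE, if_neg hk, map_zero, zero_mul]
    · intro h
      exact absurd hd h
  · have : (rho E).coeff d = 0 := Polynomial.notMem_support_iff.mp hd
    simp [this]

theorem prod_support_pos : 0 < ∏ d ∈ (rho E).support.erase 0, d :=
  Finset.prod_pos fun k hk => Nat.pos_of_ne_zero (Finset.mem_erase.mp hk).1

/-- **Uniform power**: if the rank-zero idempotent vanishes, a uniform power `g ^ N` is a polynomial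
expression in the `e_d` and `ρ(g) = ∑ e_d g ^ d`. -/
theorem pow_eq_sum (hE : E * E = E) (h0 : (rho E).coeff 0 = 0) {L : Type*} [CommRing L]
    (φ : A →+* L) (g : L) :
    g ^ (∏ d ∈ (rho E).support.erase 0, d) =
      ∑ d ∈ (rho E).support.erase 0,
        (φ ((rho E).coeff d) * (rho E).eval₂ φ g) ^ ((∏ d ∈ (rho E).support.erase 0, d) / d) := by
  set N := ∏ d ∈ (rho E).support.erase 0, d with hN
  have hterm : ∀ d ∈ (rho E).support.erase 0,
      (φ ((rho E).coeff d) * (rho E).eval₂ φ g) ^ (N / d) = φ ((rho E).coeff d) * g ^ N := by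
    intro d hd
    have hd0 : d ≠ 0 := (Finset.mem_erase.mp hd).1
    have hdN : d ∣ N := Finset.dvd_prod_of_mem _ hd
    have hNpos : 0 < N := Finset.prod_pos fun k hk => Nat.pos_of_ne_zero (Finset.mem_erase.mp hk).1
    have hq : 0 < N / d := Nat.div_pos (Nat.le_of_dvd hNpos hdN) (Nat.pos_of_ne_zero hd0)
    have hidem : IsIdempotentElem (φ ((rho E).coeff d)) := by
      unfold IsIdempotentElem
      rw [← map_mul, coeff_mul_coeff hE, if_pos rfl]
    have hpow : φ ((rho E).coeff d) ^ (N / d) = φ ((rho E).coeff d) := by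
      have := hidem.pow_succ_eq (N / d - 1)
      rwa [Nat.sub_add_cancel hq] at this
    rw [coeff_mul_eval₂ hE, mul_pow, hpow, ← pow_mul, Nat.mul_div_cancel' hdN]
  rw [Finset.sum_congr rfl hterm, ← Finset.sum_mul, ← map_sum]
  have hsum : ∑ d ∈ (rho E).support.erase 0, (rho E).coeff d = 1 := by
    have h1 : 0 ∉ (rho E).support := by
      rw [Polynomial.notMem_support_iff]
      exact h0
    rw [Finset.erase_eq_of_notMem h1]
    exact sum_coeff
  rw [hsum, map_one, one_mul]

end Groth.Agent.Lib.Helper11.RankPoly
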