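import Mathlib
import Groth.Agent.Lib.Helper11RankPoly
import Groth.Agent.Lib.Helper11FfgBC
import Groth.Agent.Lib.Helper11FfgSch

/-!
# Invariants after an arbitrary base change (helper11)

For an affine groupoid with finite locally free source map, an invariant `f` of the base change
`A ⊗ C'` has a power `(X - f)^N` with coefficients coming from `C'`.
-/

set_option autoImplicit false
set_option linter.style.haveILetI false
set_option linter.unusedSectionVars false
universe u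

open TensorProduct Polynomial

namespace Groth.Agent.Lib.Helper11.Ffg

open Groth.Agent.Lib.Helper2.RetCharpoly Groth.Agent.Lib.Helper11.RankPoly

section Scalar

variable {A B : Type u} [CommRing A] [CommRing B] [Algebra A B] {n : ℕ} (r : Ret A B n)

theorem mat_one_idem : mat r 1 * mat r 1 = mat r 1 := mat_one_mul r 1

theorem mat_algebraMap (a : A) : mat r (algebraMap A B a) = a • mat r 1 := by
  rw [Algebra.algebraMap_eq_smul_one, mat_smul]

/-- the generalised norm of scalars is given by the rank polynomial. -/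
theorem gdet_scalar {L : Type*} [CommRing L] (φ : A →+* L) {ι : Type*} [Fintype ι]
    (lam : ι → L) (a : ι → A) :
    gdet r φ lam (fun j => algebraMap A B (a j)) =
      (rho (mat r 1)).eval₂ φ (∑ j, lam j * φ (a j)) := by
  rw [eval₂_rho]
  unfold gdet
  congr 1
  simp only [mat_algebraMap]
  rw [sub_smul, one_smul, Finset.sum_smul]
  have : ∀ j, lam j • (a j • mat r 1).map φ = (lam j * φ (a j)) • (mat r 1).map φ := by
    intro j
    ext k l
    simp [mul_assoc]
  simp only [this]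
  abel

theorem rho_coeff_zero (ε : B →+* A) (hεσ : ∀ a, ε (algebraMap A B a) = a) :
    (rho (mat r 1)).coeff 0 = 0 := by
  rw [coeff_zero_rho]
  have h1 : nm r 0 = (1 - mat r 1).det := by
    unfold nm
    rw [mat_zero, add_zero]
  have h2 := dvd_nm r 0
  rw [zero_dvd_iff] at h2
  rw [← h1, ← hεσ (nm r 0), h2, map_zero]

end Scalar

section Inv

variable {A B : Type u} [CommRing A] [CommRing B] [Algebra A B] {n : ℕ} {r : Ret A B n}
  {τ : A →+* B}

/-- the rank idempotents are invariant. -/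
theorem rho_coeff_invariant (h : HInv τ r) (d : ℕ) :
    algebraMap A B ((rho (mat r 1)).coeff d) = τ ((rho (mat r 1)).coeff d) := by
  have h1 := h B[X] (C : B →+* B[X]) PUnit.{u + 1} (fun _ => X) (fun _ => 1)
  have e1 : (fun _ : PUnit.{u + 1} => τ 1) = fun _ => algebraMap A B 1 := by
    funext _
    rw [map_one, map_one]
  rw [e1, gdet_scalar, gdet_scalar] at h1
  simp only [Finset.univ_unique, Finset.sum_singleton, map_one, mul_one] at h1
  rw [← Polynomial.eval₂_map, ← Polynomial.eval₂_map, eval₂_C_X, eval₂_C_X] at h1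
  have h2 := congrArg (fun p : B[X] => p.coeff d) h1
  simpa [Polynomial.coeff_map] using h2

end Inv

section BC

variable {C₀ A B : Type u} [CommRing C₀] [CommRing A] [CommRing B] [Algebra C₀ A] [Algebra A B]
  [Algebra C₀ B] [IsScalarTower C₀ A B] {τ : A →ₐ[C₀] B} {ε : B →ₐ[C₀] A}
  (C' : Type u) [CommRing C'] [Algebra C₀ C'] {n : ℕ} {r : Ret A B n}

/-- the matrix entries of an invariant element. -/
theorem key_entry (f : A ⊗[C₀] C') (hf : sigB (A := A) (B := B) C' f = tauB τ C' f)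
    (S : Finset (A × C')) (hS : f = ∑ j ∈ S, j.1 ⊗ₜ[C₀] j.2) (k l : Fin n) :
    ∑ j ∈ S, (mat r (τ j.1)) k l ⊗ₜ[C₀] j.2 = f * ((mat r 1) k l ⊗ₜ[C₀] (1 : C')) := by
  let ℓ : B →ₗ[C₀] A :=
    { toFun := fun b => mat r b k l
      map_add' := fun b b' => by rw [mat_add, Matrix.add_apply]
      map_smul' := fun c b => by
        rw [← algebraMap_smul A c b, mat_smul, Matrix.smul_apply, RingHom.id_apply, smul_eq_mul,
          Algebra.smul_def] }
  have hℓ : ∀ b, ℓ b = mat r b k l := fun b => rfl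
  have h1 : ℓ.rTensor C' (tauB τ C' f) = ∑ j ∈ S, (mat r (τ j.1)) k l ⊗ₜ[C₀] j.2 := by
    rw [hS, map_sum, map_sum]
    refine Finset.sum_congr rfl fun j _ => ?_
    rw [tauB_tmul, LinearMap.rTensor_tmul, hℓ]
  have h2 : ℓ.rTensor C' (sigB (A := A) (B := B) C' f) =
      f * ((mat r 1) k l ⊗ₜ[C₀] (1 : C')) := by
    conv_lhs => rw [hS]
    conv_rhs => rw [hS]
    rw [map_sum, map_sum, Finset.sum_mul]
    refine Finset.sum_congr rfl fun j _ => ?_
    rw [sigB_tmul, LinearMap.rTensor_tmul, hℓ, mat_algebraMap, Matrix.smul_apply, smul_eq_mul,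
      Algebra.TensorProduct.tmul_mul_tmul, mul_one]
  rw [← h1, ← hf, h2]

theorem aux_neg_C (c : C') (m : A) :
    (-C ((1 : A) ⊗ₜ[C₀] c) : (A ⊗[C₀] C')[X]) * C (m ⊗ₜ[C₀] (1 : C')) = - C (m ⊗ₜ[C₀] c) := by
  have h : (C ((1 : A) ⊗ₜ[C₀] c) : (A ⊗[C₀] C')[X]) * C (m ⊗ₜ[C₀] (1 : C')) = C (m ⊗ₜ[C₀] c) := by
    rw [← C_mul, Algebra.TensorProduct.tmul_mul_tmul, one_mul, mul_one]
  rw [← h]
  ring

/-- `ρ(X - f)` has coefficients coming from `C'` when `f` is invariant. -/
theorem exists_poly_rho (h : HInv (τ : A →+* B) r)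
    (hC₀ : ∀ x : A, algebraMap A B x = τ x → x ∈ Set.range (algebraMap C₀ A))
    (f : A ⊗[C₀] C') (hf : sigB (A := A) (B := B) C' f = tauB τ C' f) :
    ∃ P₁ : C'[X],
      P₁.map (Algebra.TensorProduct.includeRight : C' →ₐ[C₀] A ⊗[C₀] C').toRingHom =
        (rho (mat r 1)).eval₂ ((C : A ⊗[C₀] C' →+* (A ⊗[C₀] C')[X]).comp
          (Algebra.TensorProduct.includeLeftRingHom : A →+* A ⊗[C₀] C')) (X - C f) := by
  classical
  obtain ⟨S, hS⟩ := TensorProduct.exists_finset f
  let a : Option S → A := fun o => o.elim 1 (fun j => j.1.1)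
  obtain ⟨P₀, hP₀⟩ := exists_upoly₀ h hC₀ a
  let inclR : C' →+* A ⊗[C₀] C' :=
    (Algebra.TensorProduct.includeRight : C' →ₐ[C₀] A ⊗[C₀] C').toRingHom
  let inclL : A →+* A ⊗[C₀] C' := Algebra.TensorProduct.includeLeftRingHom
  let φ : A →+* (A ⊗[C₀] C')[X] := (C : A ⊗[C₀] C' →+* (A ⊗[C₀] C')[X]).comp inclL
  let lam₀ : Option S → C'[X] := fun o => o.elim X (fun j => - C j.1.2)
  let lam : Option S → (A ⊗[C₀] C')[X] := fun o => (lam₀ o).map inclR
  refine ⟨P₀.eval₂ ((C : C' →+* C'[X]).comp (algebraMap C₀ C')) lam₀, ?_⟩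
  have h3 := MvPolynomial.eval₂_comp_left (Polynomial.mapRingHom inclR)
    ((C : C' →+* C'[X]).comp (algebraMap C₀ C')) lam₀ P₀
  rw [Polynomial.coe_mapRingHom] at h3
  rw [h3]
  have h2 := gdet_eq_eval₂ (τ : A →+* B) r φ lam a
  rw [← hP₀, MvPolynomial.eval₂_map] at h2
  have e1 : (Polynomial.mapRingHom inclR).comp ((C : C' →+* C'[X]).comp (algebraMap C₀ C')) =
      φ.comp (algebraMap C₀ A) := by
    ext c
    simp [φ, inclR, inclL, Algebra.algebraMap_eq_smul_one, TensorProduct.smul_tmul']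
  have e2 : (Polynomial.map inclR ∘ lam₀) = lam := rfl
  rw [e1, e2, ← h2, eval₂_rho]
  unfold gdet
  congr 1
  refine Matrix.ext fun k l => ?_
  have hk := key_entry (τ := τ) (r := r) C' f hf S hS k l
  have hsum : ∑ j : S, lam (some j) * φ (mat r (τ j.1.1) k l) = - (C f * φ (mat r 1 k l)) := by
    have : ∀ j : S, lam (some j) * φ (mat r (τ j.1.1) k l) =
        - C ((mat r (τ j.1.1) k l) ⊗ₜ[C₀] j.1.2) := by
      intro j
      have e : lam (some j) = - C ((1 : A) ⊗ₜ[C₀] j.1.2) := by simp [lam, lam₀, inclR]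
      exact (congrArg (· * φ (mat r (τ j.1.1) k l)) e).trans (aux_neg_C C' j.1.2 _)
    rw [Finset.sum_congr rfl (fun j _ => this j), Finset.sum_neg_distrib, ← map_sum,
      Finset.sum_coe_sort S (fun j => (mat r (τ j.1) k l) ⊗ₜ[C₀] j.2), hk, map_mul]
    rfl
  have hnone : lam none = X := by simp [lam, lam₀]
  have hanone : (τ : A →+* B) (a none) = 1 := by simp [a]
  have hsome : ∀ j : S, (τ : A →+* B) (a (some j)) = τ j.1.1 := fun j => rfl
  rw [Matrix.add_apply, Matrix.sub_apply, Matrix.sum_apply, Matrix.add_apply, Fintype.sum_option]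
  simp only [Matrix.smul_apply, Matrix.map_apply, smul_eq_mul, hnone, hanone, hsome]
  rw [hsum]
  change _ = _ + (X - C f - 1) * φ (mat r 1 k l)
  ring

/-- **Invariants are "purely inseparable-like" over `C'`**: a power of `X - f` has coefficients
coming from `C'`. -/
theorem exists_pow_poly (h : HInv (τ : A →+* B) r)
    (hC₀ : ∀ x : A, algebraMap A B x = τ x → x ∈ Set.range (algebraMap C₀ A))
    (hεσ : ∀ a, ε (algebraMap A B a) = a)
    (f : A ⊗[C₀] C') (hf : sigB (A := A) (B := B) C' f = tauB τ C' f) :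
    ∃ (N : ℕ) (P : C'[X]), 0 < N ∧
      P.map (Algebra.TensorProduct.includeRight : C' →ₐ[C₀] A ⊗[C₀] C').toRingHom =
        (X - C f) ^ N := by
  have hE := mat_one_idem r
  have h0 := rho_coeff_zero r (ε : B →+* A) hεσ
  have hinv : ∀ d, ∃ c : C₀, algebraMap C₀ A c = (rho (mat r 1)).coeff d :=
    fun d => hC₀ _ (rho_coeff_invariant h d)
  choose cc hcc using hinv
  obtain ⟨P₁, hP₁⟩ := exists_poly_rho C' h hC₀ f hf
  set inclR : C' →+* A ⊗[C₀] C' :=
    (Algebra.TensorProduct.includeRight : C' →ₐ[C₀] A ⊗[C₀] C').toRingHom with hinclR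
  set φ : A →+* (A ⊗[C₀] C')[X] := (C : A ⊗[C₀] C' →+* (A ⊗[C₀] C')[X]).comp
    (Algebra.TensorProduct.includeLeftRingHom : A →+* A ⊗[C₀] C') with hφ
  refine ⟨∏ d ∈ (rho (mat r 1)).support.erase 0, d,
    ∑ d ∈ (rho (mat r 1)).support.erase 0, (C (algebraMap C₀ C' (cc d)) * P₁) ^
      ((∏ d ∈ (rho (mat r 1)).support.erase 0, d) / d), prod_support_pos, ?_⟩
  rw [pow_eq_sum hE h0 φ (X - C f), Polynomial.map_sum]
  refine Finset.sum_congr rfl fun d _ => ?_
  rw [Polynomial.map_pow, Polynomial.map_mul, Polynomial.map_C, hP₁]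
  congr 2
  rw [hφ, RingHom.comp_apply, ← hcc d]
  congr 1
  simp [inclR, Algebra.algebraMap_eq_smul_one, TensorProduct.smul_tmul']

/-- the kernel of `C' → A ⊗ C'` is a nil ideal (the base change of `Spec A → Spec C₀` is
surjective). -/
theorem isNilpotent_of_includeRight_eq_zero [Algebra.IsIntegral C₀ A]
    (hinj : Function.Injective (algebraMap C₀ A)) (c : C')
    (hc : (Algebra.TensorProduct.includeRight : C' →ₐ[C₀] A ⊗[C₀] C') c = 0) : IsNilpotent c := by
  rw [nilpotent_iff_mem_prime]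
  intro 𝔮 h𝔮
  haveI := h𝔮
  let K := FractionRing (C' ⧸ 𝔮)
  let k := AlgebraicClosure K
  let y' : C' →+* k := (algebraMap K k).comp ((algebraMap (C' ⧸ 𝔮) K).comp (Ideal.Quotient.mk 𝔮))
  let y : C₀ →+* k := y'.comp (algebraMap C₀ C')
  obtain ⟨x, hx⟩ := exists_extension hinj y
  letI : Algebra C₀ k := y.toAlgebra
  let xA : A →ₐ[C₀] k := { x with commutes' := fun c₀ => congrArg (fun g : C₀ →+* k => g c₀) hx }
  let yA : C' →ₐ[C₀] k := { y' with commutes' := fun c₀ => rfl }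
  let Φ := Algebra.TensorProduct.productMap xA yA
  have h1 : Φ ((1 : A) ⊗ₜ[C₀] c) = y' c := by
    rw [Algebra.TensorProduct.productMap_apply_tmul, map_one, one_mul]
    rfl
  have h2 : Φ ((1 : A) ⊗ₜ[C₀] c) = 0 := by
    have : ((1 : A) ⊗ₜ[C₀] c : A ⊗[C₀] C') = 0 := hc
    rw [this, map_zero]
  rw [h1] at h2
  have h3 : (algebraMap (C' ⧸ 𝔮) K) (Ideal.Quotient.mk 𝔮 c) = 0 :=
    (algebraMap K k).injective (h2.trans (map_zero _).symm)
  have h4 : Ideal.Quotient.mk 𝔮 c = 0 :=
    IsFractionRing.injective (C' ⧸ 𝔮) K (h3.trans (map_zero _).symm)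
  exact Ideal.Quotient.eq_zero_iff_mem.mp h4

end BC

end Groth.Agent.Lib.Helper11.Ffg
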