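import Mathlib

/-!
# Generalized elements of subobjects in an abelian category (helper11)

`S.Factors x` plays the role of `x ∈ S`; images are described "up to refinements".
-/

set_option autoImplicit false
open CategoryTheory CategoryTheory.Limits

namespace Groth.Agent.Lib.Helper11.SubElt

universe v u

variable {C : Type u} [Category.{v} C] [Abelian C]

/-- If `π ≫ y` factors through `S` with `π` epi, then `y` factors through `S`. -/
theorem factors_of_epi_comp {T' T X : C} (π : T' ⟶ T) [Epi π] (y : T ⟶ X) (S : Subobject X)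
    (h : S.Factors (π ≫ y)) : S.Factors y := by
  have hker : IsLimit (KernelFork.ofι S.arrow (cokernel.condition S.arrow)) :=
    Abelian.monoIsKernelOfCokernel _ (colimit.isColimit _)
  have h0 : (π ≫ y) ≫ cokernel.π S.arrow = 0 := by
    rw [← Subobject.factorThru_arrow _ _ h, Category.assoc, cokernel.condition, comp_zero]
  have h1 : y ≫ cokernel.π S.arrow = 0 := by
    rw [← cancel_epi π, comp_zero, ← Category.assoc]; exact h0
  rw [Subobject.factors_iff]
  exact ⟨hker.lift (KernelFork.ofι y h1), hker.fac (KernelFork.ofι y h1) WalkingParallelPair.zero⟩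

theorem factors_imageSubobject_iff {X Y T : C} (f : X ⟶ Y) (y : T ⟶ Y) :
    (imageSubobject f).Factors y ↔
      ∃ (T' : C) (π : T' ⟶ T) (_ : Epi π) (x : T' ⟶ X), π ≫ y = x ≫ f := by
  constructor
  · intro h
    obtain ⟨T', π, hπ, x, hx⟩ := surjective_up_to_refinements_of_epi (factorThruImageSubobject f)
      ((imageSubobject f).factorThru y h)
    refine ⟨T', π, hπ, x, ?_⟩
    rw [← Subobject.factorThru_arrow _ y h, ← Category.assoc, hx, Category.assoc,
      imageSubobject_arrow_comp]
  · rintro ⟨T', π, hπ, x, hx⟩
    refine factors_of_epi_comp π y _ ?_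
    rw [hx]
    exact imageSubobject_factors_comp_self (f := f) x

theorem factors_biprod_desc {X Y T : C} (S : Subobject T) (u : X ⟶ T) (v : Y ⟶ T)
    (hu : S.Factors u) (hv : S.Factors v) : S.Factors (biprod.desc u v) := by
  rw [biprod.desc_eq]
  exact Subobject.factors_add _ _ (Subobject.factors_of_factors_right _ hu)
    (Subobject.factors_of_factors_right _ hv)

theorem imageSubobject_le_of_factors {X Y : C} (f : X ⟶ Y) (S : Subobject Y) (h : S.Factors f) :
    imageSubobject f ≤ S :=
  imageSubobject_le f (S.factorThru f h) (Subobject.factorThru_arrow _ _ h)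

theorem factors_arrow_comp_of_le_pullback {X Y : C} (f : X ⟶ Y) (S : Subobject X) (S' : Subobject Y)
    (h : S ≤ (Subobject.pullback f).obj S') : S'.Factors (S.arrow ≫ f) :=
  (pullback_factors_iff f S' S.arrow).mp (Subobject.factors_of_le _ h (Subobject.factors_self S))

theorem le_pullback_of_factors_arrow_comp {X Y : C} (f : X ⟶ Y) (S : Subobject X) (S' : Subobject Y)
    (h : S'.Factors (S.arrow ≫ f)) : S ≤ (Subobject.pullback f).obj S' :=
  Subobject.le_of_factors ((pullback_factors_iff f S' S.arrow).mpr h)

theorem factors_comp_of_le_pullback {T X Y : C} (f : X ⟶ Y) (S : Subobject X) (S' : Subobject Y)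
    (h : S ≤ (Subobject.pullback f).obj S') (x : T ⟶ X) (hx : S.Factors x) : S'.Factors (x ≫ f) :=
  (pullback_factors_iff f S' x).mp (Subobject.factors_of_le _ h hx)

end Groth.Agent.Lib.Helper11.SubElt
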