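import Mathlib
import Groth.Prelude.Def_SpSeq
import Groth.Agent.Lib.Helper11SubElt

/-!
# Generalized elements of filtered complexes (helper11)
-/

set_option autoImplicit false
open CategoryTheory CategoryTheory.Limits
open SpSeq SpSeq.FilObj

namespace Groth.Agent.Lib.Helper11.FilCxElt

open Groth.Agent.Lib.Helper11.SubElt

universe v u

variable {A : Type u} [Category.{v} A] [Abelian A] (K : SpSeq.FilCx A)

/-- membership in `F^p K^n` -/
lemma factors_filX_iff {T : A} (p n : ℤ) (x : T ⟶ K.obj.X n) :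
    (K.filX p n).Factors x ↔ ∃ x' : T ⟶ (K.fil p : CochainComplex A ℤ).X n,
      x' ≫ (K.fil p).arrow.f n = x := by
  unfold SpSeq.FilCx.filX
  exact Subobject.mk_factors_iff _ _

lemma factors_filX_of_le {T : A} {p q : ℤ} (h : p ≤ q) (n : ℤ) (x : T ⟶ K.obj.X n)
    (hx : (K.filX q n).Factors x) : (K.filX p n).Factors x :=
  Subobject.factors_of_le _ (K.filX_anti n h) hx

/-- `F^p K` is a subcomplex -/
lemma factors_filX_comp_d {T : A} (p i j : ℤ) (x : T ⟶ K.obj.X i)
    (hx : (K.filX p i).Factors x) : (K.filX p j).Factors (x ≫ K.obj.d i j) := by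
  obtain ⟨x', rfl⟩ := (factors_filX_iff K p i x).mp hx
  refine (factors_filX_iff K p j _).mpr ⟨x' ≫ (K.fil p : CochainComplex A ℤ).d i j, ?_⟩
  rw [Category.assoc, Category.assoc, HomologicalComplex.Hom.comm]

lemma cocycle_of_comp {T : A} (p i j : ℤ) (x' : T ⟶ (K.fil p : CochainComplex A ℤ).X i)
    (h : (x' ≫ (K.fil p).arrow.f i) ≫ K.obj.d i j = 0) :
    x' ≫ (K.fil p : CochainComplex A ℤ).d i j = 0 := by
  rw [← cancel_mono ((K.fil p).arrow.f j), zero_comp, Category.assoc,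
    ← HomologicalComplex.Hom.comm, ← Category.assoc]
  exact h

/-- vanishing of `H^j(F^q K)`: cocycles in `F^q` are coboundaries from `F^q`. -/
lemma exists_of_isZero_homology (q i j k : ℤ) (hij : i + 1 = j) (hjk : j + 1 = k)
    (hz : IsZero ((K.fil q : CochainComplex A ℤ).homology j))
    {T : A} (x : T ⟶ K.obj.X j) (hx : (K.filX q j).Factors x) (hd : x ≫ K.obj.d j k = 0) :
    ∃ (T' : A) (π : T' ⟶ T) (_ : Epi π) (z : T' ⟶ K.obj.X i),
      (K.filX q i).Factors z ∧ π ≫ x = z ≫ K.obj.d i j := by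
  obtain ⟨x', rfl⟩ := (factors_filX_iff K q j x).mp hx
  have hx' := cocycle_of_comp K q j k x' hd
  have hex : (K.fil q : CochainComplex A ℤ).ExactAt j := by
    rw [HomologicalComplex.exactAt_iff_isZero_homology]
    exact hz
  rw [HomologicalComplex.exactAt_iff_exact_up_to_refinements _ i j k
    (by simp [← hij]) (by simp [← hjk])] at hex
  obtain ⟨T', π, hπ, z', hz'⟩ := hex x' hx'
  refine ⟨T', π, hπ, z' ≫ (K.fil q).arrow.f i,
    (factors_filX_iff K q i _).mpr ⟨z', rfl⟩, ?_⟩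
  rw [← Category.assoc, hz', Category.assoc, Category.assoc, HomologicalComplex.Hom.comm]

/-- injectivity of `H^j(F^q K) → H^j(K)`. -/
lemma exists_of_mono_homologyMap (q i j k : ℤ) (hij : i + 1 = j) (hjk : j + 1 = k)
    (hm : Mono (HomologicalComplex.homologyMap (K.fil q).arrow j))
    {T : A} (x : T ⟶ K.obj.X j) (hx : (K.filX q j).Factors x) (y : T ⟶ K.obj.X i)
    (hxy : x = y ≫ K.obj.d i j) :
    ∃ (T' : A) (π : T' ⟶ T) (_ : Epi π) (z : T' ⟶ K.obj.X i),
      (K.filX q i).Factors z ∧ π ≫ x = z ≫ K.obj.d i j := by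
  obtain ⟨x', rfl⟩ := (factors_filX_iff K q j x).mp hx
  have hd : (x' ≫ (K.fil q).arrow.f j) ≫ K.obj.d j k = 0 := by
    rw [hxy, Category.assoc, HomologicalComplex.d_comp_d, comp_zero]
  have hx' := cocycle_of_comp K q j k x' hd
  rw [HomologicalComplex.mono_homologyMap_iff_up_to_refinements _ i j k
    (by simp [← hij]) (by simp [← hjk])] at hm
  obtain ⟨T', π, hπ, z', hz'⟩ := hm x' hx' y hxy
  refine ⟨T', π, hπ, z' ≫ (K.fil q).arrow.f i,
    (factors_filX_iff K q i _).mpr ⟨z', rfl⟩, ?_⟩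
  rw [← Category.assoc, hz', Category.assoc, Category.assoc, HomologicalComplex.Hom.comm]

/-- surjectivity of `H^j(F^q K) → H^j(K)`. -/
lemma exists_of_epi_homologyMap (q i j k : ℤ) (hij : i + 1 = j) (hjk : j + 1 = k)
    (he : Epi (HomologicalComplex.homologyMap (K.fil q).arrow j))
    {T : A} (y : T ⟶ K.obj.X j) (hy : y ≫ K.obj.d j k = 0) :
    ∃ (T' : A) (π : T' ⟶ T) (_ : Epi π) (w : T' ⟶ K.obj.X j) (v : T' ⟶ K.obj.X i),
      (K.filX q j).Factors w ∧ w ≫ K.obj.d j k = 0 ∧ π ≫ y = w + v ≫ K.obj.d i j := by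
  rw [HomologicalComplex.epi_homologyMap_iff_up_to_refinements _ i j k
    (by simp [← hij]) (by simp [← hjk])] at he
  obtain ⟨T', π, hπ, x', hx', v, hv⟩ := he y hy
  refine ⟨T', π, hπ, x' ≫ (K.fil q).arrow.f j, v,
    (factors_filX_iff K q j _).mpr ⟨x', rfl⟩, ?_, hv⟩
  rw [Category.assoc, HomologicalComplex.Hom.comm, ← Category.assoc, hx', zero_comp]

lemma factors_neg {X T : A} (S : Subobject X) (x : T ⟶ X) (h : S.Factors x) : S.Factors (-x) := by
  have : -x = (-𝟙 T) ≫ x := by simp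
  rw [this]
  exact Subobject.factors_of_factors_right _ h

lemma factors_sub {X T : A} (S : Subobject X) (x y : T ⟶ X) (hx : S.Factors x)
    (hy : S.Factors y) : S.Factors (x - y) := by
  rw [sub_eq_add_neg]
  exact Subobject.factors_add _ _ hx (factors_neg S y hy)

/-- If `H^{n+1}(F^{p+r} K) = 0` and `r ≥ 1`, then `Z_r^{p,n} ≤ Z_∞^{p,n}`. -/
lemma ZSub_le_ZTop (r : ℕ) (p n : ℤ) (hr : 1 ≤ r)
    (hz : IsZero ((K.fil (p + r) : CochainComplex A ℤ).homology (n + 1))) :
    K.ZSub r p n ≤ K.ZTop p n := by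
  unfold SpSeq.FilCx.ZSub SpSeq.FilCx.ZTop
  refine sup_le ?_ le_sup_right
  refine Subobject.le_of_factors ?_
  generalize hS : K.filX p n ⊓
    (Subobject.pullback (K.obj.d n (n + 1))).obj (K.filX (p + r) (n + 1)) = S
  have h1 : (K.filX p n).Factors S.arrow := by
    rw [← hS]; exact Subobject.inf_arrow_factors_left _ _
  have h2 : (K.filX (p + r) (n + 1)).Factors (S.arrow ≫ K.obj.d n (n + 1)) := by
    rw [← hS]
    exact (pullback_factors_iff _ _ _).mp (Subobject.inf_arrow_factors_right _ _)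
  obtain ⟨T', π, hπ, z, hz1, hz2⟩ := exists_of_isZero_homology K (p + r) n (n + 1) (n + 1 + 1)
    rfl rfl hz (S.arrow ≫ K.obj.d n (n + 1)) h2 (by simp)
  refine factors_of_epi_comp π _ _ ?_
  have : π ≫ S.arrow = (π ≫ S.arrow - z) + z := by abel
  rw [this]
  refine Subobject.factors_add _ _ (Subobject.sup_factors_of_factors_left ?_)
    (Subobject.sup_factors_of_factors_right ?_)
  · refine (Subobject.inf_factors _).mpr ⟨?_, ?_⟩
    · refine factors_sub _ _ _ (Subobject.factors_of_factors_right _ h1) ?_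
      exact factors_filX_of_le K (by omega) n z hz1
    · refine kernelSubobject_factors _ _ ?_
      rw [Preadditive.sub_comp, Category.assoc, hz2, sub_self]
  · have hr' : (1 : ℤ) ≤ (r : ℤ) := by exact_mod_cast hr
    exact factors_filX_of_le K (by omega) n z hz1

lemma ZTop_le_ZSub (r : ℕ) (p n : ℤ) : K.ZTop p n ≤ K.ZSub r p n := by
  unfold SpSeq.FilCx.ZSub SpSeq.FilCx.ZTop
  exact sup_le_sup_right (inf_le_inf_left _ (SpSeq.FilCx.kernelSubobject_le_pullback _ _)) _

/-- If `H^n(F^{p-r+1} K) → H^n(K)` is injective and `r ≥ 1`, then `B_∞^{p,n} ≤ B_r^{p,n}`. -/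
lemma BBot_le_BSub (r : ℕ) (p n : ℤ) (hr : 1 ≤ r)
    (hm : Mono (HomologicalComplex.homologyMap (K.fil (p - r + 1)).arrow n)) :
    K.BBot p n ≤ K.BSub r p n := by
  unfold SpSeq.FilCx.BBot SpSeq.FilCx.BSub
  refine sup_le ?_ le_sup_right
  refine Subobject.le_of_factors ?_
  generalize hS : K.filX p n ⊓ imageSubobject (K.obj.d (n - 1) n) = S
  have h1 : (K.filX p n).Factors S.arrow := by
    rw [← hS]; exact Subobject.inf_arrow_factors_left _ _
  have h2 : (imageSubobject (K.obj.d (n - 1) n)).Factors S.arrow := by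
    rw [← hS]; exact Subobject.inf_arrow_factors_right _ _
  obtain ⟨T1, π1, hπ1, y, hy⟩ := (factors_imageSubobject_iff _ _).mp h2
  have hr' : (1 : ℤ) ≤ (r : ℤ) := by exact_mod_cast hr
  have h1' : (K.filX (p - r + 1) n).Factors (π1 ≫ S.arrow) :=
    factors_filX_of_le K (by omega) n _ (Subobject.factors_of_factors_right _ h1)
  obtain ⟨T2, π2, hπ2, z, hz1, hz2⟩ := exists_of_mono_homologyMap K (p - r + 1) (n - 1) n (n + 1)
    (by ring) rfl hm (π1 ≫ S.arrow) h1' y hy
  refine factors_of_epi_comp (π2 ≫ π1) _ _ ?_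
  rw [Category.assoc]
  refine Subobject.sup_factors_of_factors_left ((Subobject.inf_factors _).mpr ⟨?_, ?_⟩)
  · exact Subobject.factors_of_factors_right _ (Subobject.factors_of_factors_right _ h1)
  · rw [hz2, ← Subobject.factorThru_arrow _ _ hz1, Category.assoc]
    exact imageSubobject_factors_comp_self
      (f := (K.filX (p - r + 1) (n - 1)).arrow ≫ K.obj.d (n - 1) n) _

lemma BSub_le_BBot (r : ℕ) (p n : ℤ) : K.BSub r p n ≤ K.BBot p n := by
  unfold SpSeq.FilCx.BBot SpSeq.FilCx.BSub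
  exact sup_le_sup_right (inf_le_inf_left _ (imageSubobject_comp_le _ _)) _

/-- membership in `B_1^{p,n}` -/
lemma factors_BSub_one (p n : ℤ) {T : A} (x : T ⟶ K.obj.X n) (z : T ⟶ K.obj.X (n - 1))
    (y : T ⟶ K.obj.X n) (hz : (K.filX p (n - 1)).Factors z) (hy : (K.filX (p + 1) n).Factors y)
    (h : x = z ≫ K.obj.d (n - 1) n + y) : (K.BSub 1 p n).Factors x := by
  unfold SpSeq.FilCx.BSub
  have key : ∀ q : ℤ, q = p → ((K.filX p n ⊓
      imageSubobject ((K.filX q (n - 1)).arrow ≫ K.obj.d (n - 1) n)) ⊔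
        K.filX (p + 1) n).Factors x := by
    rintro q rfl
    rw [h]
    refine Subobject.factors_add _ _ (Subobject.sup_factors_of_factors_left ?_)
      (Subobject.sup_factors_of_factors_right hy)
    refine (Subobject.inf_factors _).mpr ⟨factors_filX_comp_d K q _ _ z hz, ?_⟩
    rw [← Subobject.factorThru_arrow _ _ hz, Category.assoc]
    exact imageSubobject_factors_comp_self
      (f := (K.filX q (n - 1)).arrow ≫ K.obj.d (n - 1) n) _
  exact key _ (by simp)

/-- elements of the first part of `Z_1^{p,n}` -/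
lemma ZSub_one_le (p n : ℤ) (S' : Subobject (K.obj.X n))
    (h : ∀ (T : A) (x : T ⟶ K.obj.X n), (K.filX p n).Factors x →
      (K.filX (p + 1) (n + 1)).Factors (x ≫ K.obj.d n (n + 1)) → S'.Factors x)
    (h' : K.filX (p + 1) n ≤ S') : K.ZSub 1 p n ≤ S' := by
  unfold SpSeq.FilCx.ZSub
  refine sup_le ?_ h'
  refine Subobject.le_of_factors ?_
  refine h _ _ (Subobject.inf_arrow_factors_left _ _) ?_
  have := (pullback_factors_iff _ _ _).mp (Subobject.inf_arrow_factors_right (K.filX p n)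
    ((Subobject.pullback (K.obj.d n (n + 1))).obj (K.filX (p + ((1 : ℕ) : ℤ)) (n + 1))))
  have key : ∀ q : ℤ, q = p + 1 → ∀ {T : A} (x : T ⟶ K.obj.X (n + 1)),
      (K.filX q (n + 1)).Factors x → (K.filX (p + 1) (n + 1)).Factors x := by
    rintro q rfl T x hx
    exact hx
  exact key _ (by simp) _ this

lemma BSub_one_filX_le (p n : ℤ) : K.filX (p + 1) n ≤ K.BSub 1 p n := by
  unfold SpSeq.FilCx.BSub
  exact le_sup_right

/-- `E_1^{p,n} = 0` when `H^{n+1}(F^{p+1}K) = 0` and `H^n(F^p K) = 0`. -/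
lemma ZSub_one_le_BSub_one_of_isZero (p n : ℤ)
    (hz1 : IsZero ((K.fil (p + 1) : CochainComplex A ℤ).homology (n + 1)))
    (hz0 : IsZero ((K.fil p : CochainComplex A ℤ).homology n)) :
    K.ZSub 1 p n ≤ K.BSub 1 p n := by
  refine ZSub_one_le K p n _ ?_ (BSub_one_filX_le K p n)
  intro T x hx hxd
  obtain ⟨T1, π1, hπ1, y, hy1, hy2⟩ := exists_of_isZero_homology K (p + 1) n (n + 1) (n + 1 + 1)
    rfl rfl hz1 (x ≫ K.obj.d n (n + 1)) hxd (by simp)
  have hu : (K.filX p n).Factors (π1 ≫ x - y) :=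
    factors_sub _ _ _ (Subobject.factors_of_factors_right _ hx)
      (factors_filX_of_le K (by omega) n y hy1)
  have hud : (π1 ≫ x - y) ≫ K.obj.d n (n + 1) = 0 := by
    rw [Preadditive.sub_comp, Category.assoc, hy2, sub_self]
  obtain ⟨T2, π2, hπ2, z, hz1', hz2⟩ := exists_of_isZero_homology K p (n - 1) n (n + 1)
    (by ring) rfl hz0 (π1 ≫ x - y) hu hud
  refine factors_of_epi_comp (π2 ≫ π1) _ _ ?_
  refine factors_BSub_one K p n _ z (π2 ≫ y) hz1'
    (Subobject.factors_of_factors_right _ hy1) ?_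
  rw [← hz2, Preadditive.comp_sub, Category.assoc]
  abel

/-- `E_1^{p,n} = 0` when `H^*(F^{p+1}K) → H^*(K)` and `H^n(F^p K) → H^n(K)` are isomorphisms. -/
lemma ZSub_one_le_BSub_one_of_iso (p n : ℤ)
    (hm1 : Mono (HomologicalComplex.homologyMap (K.fil (p + 1)).arrow (n + 1)))
    (he1 : Epi (HomologicalComplex.homologyMap (K.fil (p + 1)).arrow n))
    (hm0 : Mono (HomologicalComplex.homologyMap (K.fil p).arrow n)) :
    K.ZSub 1 p n ≤ K.BSub 1 p n := by
  refine ZSub_one_le K p n _ ?_ (BSub_one_filX_le K p n)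
  intro T x hx hxd
  obtain ⟨T1, π1, hπ1, y, hy1, hy2⟩ := exists_of_mono_homologyMap K (p + 1) n (n + 1) (n + 1 + 1)
    rfl rfl hm1 (x ≫ K.obj.d n (n + 1)) hxd x rfl
  have hu : (K.filX p n).Factors (π1 ≫ x - y) :=
    factors_sub _ _ _ (Subobject.factors_of_factors_right _ hx)
      (factors_filX_of_le K (by omega) n y hy1)
  have hud : (π1 ≫ x - y) ≫ K.obj.d n (n + 1) = 0 := by
    rw [Preadditive.sub_comp, Category.assoc, hy2, sub_self]
  obtain ⟨T2, π2, hπ2, w, v, hw1, hw2, hwv⟩ := exists_of_epi_homologyMap K (p + 1) (n - 1) n (n + 1)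
    (by ring) rfl he1 (π1 ≫ x - y) hud
  have hu' : (K.filX p n).Factors (π2 ≫ (π1 ≫ x - y) - w) :=
    factors_sub _ _ _ (Subobject.factors_of_factors_right _ hu)
      (factors_filX_of_le K (by omega) n w hw1)
  obtain ⟨T3, π3, hπ3, z, hz1, hz2⟩ := exists_of_mono_homologyMap K p (n - 1) n (n + 1)
    (by ring) rfl hm0 (π2 ≫ (π1 ≫ x - y) - w) hu' v (by rw [hwv]; abel)
  refine factors_of_epi_comp (π3 ≫ π2 ≫ π1) _ _ ?_
  refine factors_BSub_one K p n _ z (π3 ≫ π2 ≫ y + π3 ≫ w) hz1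
    (Subobject.factors_add _ _
      (Subobject.factors_of_factors_right _ (Subobject.factors_of_factors_right _ hy1))
      (Subobject.factors_of_factors_right _ hw1)) ?_
  rw [← hz2]
  simp only [Preadditive.comp_sub, Category.assoc]
  abel

end Groth.Agent.Lib.Helper11.FilCxElt
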