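import Mathlib
import Groth.Prelude.Def_SpSeq
import Groth.Agent.Lib.Helper11SubElt

/-!
# Pullbacks of filtered objects (helper11)
-/

set_option autoImplicit false
open CategoryTheory CategoryTheory.Limits
open SpSeq SpSeq.FilObj

namespace Groth.Agent.Lib.Helper11.FilPB

open Groth.Agent.Lib.Helper11.SubElt

universe v u

variable {A : Type u} [Category.{v} A] [Abelian A]

/-- The discrete filtration (all steps are zero). -/
noncomputable def disc (Y : A) : FilObj A := ⟨Y, fun _ => ⊥, fun _ _ _ => le_rfl⟩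

/-- Any morphism from `Y` is a filtered morphism from `disc Y`. -/
noncomputable def fromDisc {L : FilObj A} {Y : A} (u : Y ⟶ L.obj) : disc Y ⟶ L :=
  ⟨u, fun _ => bot_le⟩

@[simp] lemma fromDisc_hom {L : FilObj A} {Y : A} (u : Y ⟶ L.obj) : (fromDisc u).hom = u := rfl

lemma comp_hom {K L M : FilObj A} (f : K ⟶ L) (g : L ⟶ M) : (f ≫ g).hom = f.hom ≫ g.hom := rfl

lemma id_hom (K : FilObj A) : (𝟙 K : K ⟶ K).hom = 𝟙 K.obj := rfl

/-- The forgetful functor preserves pullback squares. -/
theorem isPullback_hom {K L M P : FilObj A} {f : L ⟶ K} {g : M ⟶ K} {g' : P ⟶ L} {f' : P ⟶ M}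
    (h : IsPullback g' f' f g) : IsPullback g'.hom f'.hom f.hom g.hom := by
  refine ⟨⟨?_⟩, ⟨PullbackCone.IsLimit.mk _
    (fun s => (h.lift (fromDisc s.fst) (fromDisc s.snd) (FilObj.Hom.ext s.condition)).hom) ?_ ?_ ?_⟩⟩
  · have := congrArg FilObj.Hom.hom h.w
    exact this
  · intro s
    have := congrArg FilObj.Hom.hom
      (h.lift_fst (fromDisc s.fst) (fromDisc s.snd) (FilObj.Hom.ext s.condition))
    exact this
  · intro s
    have := congrArg FilObj.Hom.hom
      (h.lift_snd (fromDisc s.fst) (fromDisc s.snd) (FilObj.Hom.ext s.condition))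
    exact this
  · intro s m hm1 hm2
    have e : fromDisc m = h.lift (fromDisc s.fst) (fromDisc s.snd) (FilObj.Hom.ext s.condition) := by
      apply h.hom_ext
      · rw [h.lift_fst]; exact FilObj.Hom.ext hm1
      · rw [h.lift_snd]; exact FilObj.Hom.ext hm2
    have := congrArg FilObj.Hom.hom e
    exact this

section

variable {L M : FilObj A} {X : A} (a : X ⟶ L.obj) (b : X ⟶ M.obj)

/-- The filtration on a pullback: the intersection of the inverse images. -/
noncomputable def pbFil (p : ℤ) : Subobject X :=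
  (Subobject.pullback a).obj (L.fil p) ⊓ (Subobject.pullback b).obj (M.fil p)

lemma pbFil_anti : Antitone (pbFil a b) := by
  intro p q h
  exact inf_le_inf ((Subobject.pullback a).monotone (L.anti h))
    ((Subobject.pullback b).monotone (M.anti h))

/-- The filtered object on `X` with the pullback filtration. -/
noncomputable def pbObj : FilObj A := ⟨X, pbFil a b, pbFil_anti a b⟩

/-- The first projection as a filtered morphism. -/
noncomputable def pbFst : pbObj a b ⟶ L := ⟨a, fun _ => inf_le_left⟩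

/-- The second projection as a filtered morphism. -/
noncomputable def pbSnd : pbObj a b ⟶ M := ⟨b, fun _ => inf_le_right⟩

@[simp] lemma pbFst_hom : (pbFst a b).hom = a := rfl
@[simp] lemma pbSnd_hom : (pbSnd a b).hom = b := rfl

lemma le_pullback_pbFil {Q : FilObj A} (h : Q.obj ⟶ X)
    (ha : ∀ p, Q.fil p ≤ (Subobject.pullback (h ≫ a)).obj (L.fil p))
    (hb : ∀ p, Q.fil p ≤ (Subobject.pullback (h ≫ b)).obj (M.fil p)) (p : ℤ) :
    Q.fil p ≤ (Subobject.pullback h).obj (pbFil a b p) := by
  unfold pbFil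
  rw [Subobject.inf_pullback, ← Subobject.pullback_comp, ← Subobject.pullback_comp]
  exact le_inf (ha p) (hb p)

/-- Lifting a morphism to the pullback-filtered object. -/
noncomputable def pbLift {Q : FilObj A} (h : Q.obj ⟶ X) (u : Q ⟶ L) (v : Q ⟶ M)
    (hu : h ≫ a = u.hom) (hv : h ≫ b = v.hom) : Q ⟶ pbObj a b :=
  ⟨h, le_pullback_pbFil a b h (fun p => by rw [hu]; exact u.compat p)
    (fun p => by rw [hv]; exact v.compat p)⟩

end

/-- A pullback square of the underlying objects gives a pullback square of filtered objects. -/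
theorem isPullback_pbObj {K L M : FilObj A} (f : L ⟶ K) (g : M ⟶ K) {X : A} {a : X ⟶ L.obj}
    {b : X ⟶ M.obj} (hsq : IsPullback a b f.hom g.hom) :
    IsPullback (pbFst a b) (pbSnd a b) f g := by
  refine ⟨⟨FilObj.Hom.ext hsq.w⟩, ⟨PullbackCone.IsLimit.mk _
    (fun s => pbLift a b (hsq.lift s.fst.hom s.snd.hom (congrArg FilObj.Hom.hom s.condition))
      s.fst s.snd (hsq.lift_fst _ _ _) (hsq.lift_snd _ _ _)) ?_ ?_ ?_⟩⟩
  · intro s
    exact FilObj.Hom.ext (hsq.lift_fst _ _ _)
  · intro s
    exact FilObj.Hom.ext (hsq.lift_snd _ _ _)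
  · intro s m hm1 hm2
    refine FilObj.Hom.ext ?_
    apply hsq.hom_ext
    · exact (congrArg FilObj.Hom.hom hm1).trans (hsq.lift_fst _ _ _).symm
    · exact (congrArg FilObj.Hom.hom hm2).trans (hsq.lift_snd _ _ _).symm

theorem hasPullback {K L M : FilObj A} (f : L ⟶ K) (g : M ⟶ K) : HasPullback f g :=
  (isPullback_pbObj f g (IsPullback.of_hasPullback f.hom g.hom)).hasPullback

lemma le_of_le_pullback_id {X : A} {F G : Subobject X}
    (h : F ≤ (Subobject.pullback (𝟙 X)).obj G) : F ≤ G := by
  rwa [Subobject.pullback_id] at h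

/-- In a pullback square of filtered objects, the filtration of the pullback is the
inverse-image filtration. -/
theorem fil_eq_pbFil {K L M P : FilObj A} {f : L ⟶ K} {g : M ⟶ K} {g' : P ⟶ L} {f' : P ⟶ M}
    (h : IsPullback g' f' f g) (p : ℤ) : P.fil p = pbFil g'.hom f'.hom p := by
  let ι : P ⟶ pbObj g'.hom f'.hom := pbLift g'.hom f'.hom (𝟙 _) g' f' (Category.id_comp _)
    (Category.id_comp _)
  have hw : pbFst g'.hom f'.hom ≫ f = pbSnd g'.hom f'.hom ≫ g :=
    FilObj.Hom.ext (by have := congrArg FilObj.Hom.hom h.w; exact this)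
  let u : pbObj g'.hom f'.hom ⟶ P := h.lift (pbFst g'.hom f'.hom) (pbSnd g'.hom f'.hom) hw
  have hu : ι ≫ u = 𝟙 P := by
    apply h.hom_ext
    · rw [Category.assoc, h.lift_fst]
      exact FilObj.Hom.ext (by change 𝟙 _ ≫ g'.hom = 𝟙 _ ≫ g'.hom; rfl)
    · rw [Category.assoc, h.lift_snd]
      exact FilObj.Hom.ext (by change 𝟙 _ ≫ f'.hom = 𝟙 _ ≫ f'.hom; rfl)
  have hu' : u.hom = 𝟙 P.obj := by
    have := congrArg FilObj.Hom.hom hu
    rw [comp_hom, id_hom] at this
    rw [← this]
    exact (Category.id_comp _).symm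
  apply le_antisymm
  · have := ι.compat p
    exact le_of_le_pullback_id (X := P.obj) this
  · have := u.compat p
    rw [hu'] at this
    exact le_of_le_pullback_id (X := P.obj) this

/-- The base change of a strict morphism is strict. -/
theorem isStrict_of_isPullback {K L M P : FilObj A} {f : L ⟶ K} {g : M ⟶ K} {g' : P ⟶ L}
    {f' : P ⟶ M} (h : IsPullback g' f' f g) (hf : IsStrict f) : IsStrict f' := by
  intro p
  have hA := isPullback_hom h
  apply le_antisymm
  · refine le_inf ?_ ?_
    · exact imageSubobject_comp_le _ _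
    · exact imageSubobject_le_of_factors _ _
        (factors_arrow_comp_of_le_pullback _ _ _ (f'.compat p))
  · refine Subobject.le_of_factors ?_
    set S := imageSubobject f'.hom ⊓ M.fil p with hS
    have h1 : (imageSubobject f'.hom).Factors S.arrow := Subobject.inf_arrow_factors_left _ _
    have h2 : (M.fil p).Factors S.arrow := Subobject.inf_arrow_factors_right _ _
    obtain ⟨T1, π1, hπ1, y, hy⟩ := (factors_imageSubobject_iff _ _).mp h1
    -- the element `l = g'(y)` of `L`
    have e0 : (y ≫ g'.hom) ≫ f.hom = π1 ≫ S.arrow ≫ g.hom := by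
      rw [Category.assoc, hA.w, ← Category.assoc, ← hy, Category.assoc]
    have hlf : (imageSubobject ((L.fil p).arrow ≫ f.hom)).Factors ((y ≫ g'.hom) ≫ f.hom) := by
      rw [hf p]
      refine (Subobject.inf_factors _).mpr
        ⟨imageSubobject_factors_comp_self (f := f.hom) (y ≫ g'.hom), ?_⟩
      rw [e0]
      refine Subobject.factors_of_factors_right _ ?_
      exact factors_comp_of_le_pullback _ _ _ (g.compat p) _ h2
    obtain ⟨T2, π2, hπ2, lp, hlp⟩ := (factors_imageSubobject_iff _ _).mp hlf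
    have e1 : (lp ≫ (L.fil p).arrow) ≫ f.hom = (π2 ≫ π1 ≫ S.arrow) ≫ g.hom := by
      rw [Category.assoc, ← hlp, e0]
      simp only [Category.assoc]
    have hy'1 : (L.fil p).Factors (hA.lift _ _ e1 ≫ g'.hom) := by
      rw [hA.lift_fst]
      exact Subobject.factors_comp_arrow _
    have hy'2 : (M.fil p).Factors (hA.lift _ _ e1 ≫ f'.hom) := by
      rw [hA.lift_snd]
      exact Subobject.factors_of_factors_right _ (Subobject.factors_of_factors_right _ h2)
    have hy' : (P.fil p).Factors (hA.lift _ _ e1) := by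
      rw [fil_eq_pbFil h p]
      exact (Subobject.inf_factors _).mpr
        ⟨(pullback_factors_iff _ _ _).mpr hy'1, (pullback_factors_iff _ _ _).mpr hy'2⟩
    refine (factors_imageSubobject_iff _ _).mpr
      ⟨T2, π2 ≫ π1, inferInstance, (P.fil p).factorThru _ hy', ?_⟩
    rw [Subobject.factorThru_arrow_assoc, hA.lift_snd, Category.assoc]

end Groth.Agent.Lib.Helper11.FilPB
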