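import Mathlib
import Groth.Prelude.Def_SpSeq
import Groth.Agent.Lib.Helper11SubElt

/-!
# Pushouts of filtered objects (helper11)
-/

set_option autoImplicit false
open CategoryTheory CategoryTheory.Limits
open SpSeq SpSeq.FilObj

namespace Groth.Agent.Lib.Helper11.FilPO

open Groth.Agent.Lib.Helper11.SubElt

universe v u

variable {A : Type u} [Category.{v} A] [Abelian A]

/-- The trivial filtration (all steps are everything). -/
noncomputable def triv (Y : A) : FilObj A := ⟨Y, fun _ => ⊤, fun _ _ _ => le_rfl⟩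

/-- Any morphism to `Y` is a filtered morphism to `triv Y`. -/
noncomputable def toTriv {L : FilObj A} {Y : A} (u : L.obj ⟶ Y) : L ⟶ triv Y :=
  ⟨u, fun p => by
    change L.fil p ≤ (Subobject.pullback u).obj ⊤
    rw [Subobject.pullback_top]; exact le_top⟩

@[simp] lemma toTriv_hom {L : FilObj A} {Y : A} (u : L.obj ⟶ Y) : (toTriv u).hom = u := rfl

lemma comp_hom {K L M : FilObj A} (f : K ⟶ L) (g : L ⟶ M) : (f ≫ g).hom = f.hom ≫ g.hom := rfl

lemma id_hom (K : FilObj A) : (𝟙 K : K ⟶ K).hom = 𝟙 K.obj := rfl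

/-- The forgetful functor preserves pushout squares. -/
theorem isPushout_hom {K L M P : FilObj A} {f : K ⟶ L} {g : K ⟶ M} {g' : L ⟶ P} {f' : M ⟶ P}
    (h : IsPushout f g g' f') : IsPushout f.hom g.hom g'.hom f'.hom := by
  refine ⟨⟨?_⟩, ⟨PushoutCocone.IsColimit.mk _
    (fun s => (h.desc (toTriv s.inl) (toTriv s.inr) (FilObj.Hom.ext s.condition)).hom) ?_ ?_ ?_⟩⟩
  · have := congrArg FilObj.Hom.hom h.w
    exact this
  · intro s
    have := congrArg FilObj.Hom.hom
      (h.inl_desc (toTriv s.inl) (toTriv s.inr) (FilObj.Hom.ext s.condition))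
    exact this
  · intro s
    have := congrArg FilObj.Hom.hom
      (h.inr_desc (toTriv s.inl) (toTriv s.inr) (FilObj.Hom.ext s.condition))
    exact this
  · intro s m hm1 hm2
    have e : toTriv m = h.desc (toTriv s.inl) (toTriv s.inr) (FilObj.Hom.ext s.condition) := by
      apply h.hom_ext
      · rw [h.inl_desc]; exact FilObj.Hom.ext hm1
      · rw [h.inr_desc]; exact FilObj.Hom.ext hm2
    have := congrArg FilObj.Hom.hom e
    exact this

section

variable {L M : FilObj A} {X : A} (a : L.obj ⟶ X) (b : M.obj ⟶ X)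

/-- The filtration on a pushout: the image of `F^p L ⊞ F^p M`. -/
noncomputable def poFil (p : ℤ) : Subobject X :=
  imageSubobject (biprod.desc ((L.fil p).arrow ≫ a) ((M.fil p).arrow ≫ b))

lemma poFil_anti : Antitone (poFil a b) := by
  intro p q h
  refine SpSeq.FilCx.imageSubobject_le_of_fac (biprod.map (L.stepLE h) (M.stepLE h)) ?_
  apply biprod.hom_ext' <;> simp [Subobject.ofLE_arrow_assoc]

/-- The filtered object on `X` with the pushout filtration. -/
noncomputable def poObj : FilObj A := ⟨X, poFil a b, poFil_anti a b⟩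

lemma factors_poFil_left (p : ℤ) : (poFil a b p).Factors ((L.fil p).arrow ≫ a) := by
  have : (L.fil p).arrow ≫ a =
      biprod.inl ≫ biprod.desc ((L.fil p).arrow ≫ a) ((M.fil p).arrow ≫ b) := by simp
  rw [this]
  exact imageSubobject_factors_comp_self
    (f := biprod.desc ((L.fil p).arrow ≫ a) ((M.fil p).arrow ≫ b)) biprod.inl

lemma factors_poFil_right (p : ℤ) : (poFil a b p).Factors ((M.fil p).arrow ≫ b) := by
  have : (M.fil p).arrow ≫ b =
      biprod.inr ≫ biprod.desc ((L.fil p).arrow ≫ a) ((M.fil p).arrow ≫ b) := by simp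
  rw [this]
  exact imageSubobject_factors_comp_self
    (f := biprod.desc ((L.fil p).arrow ≫ a) ((M.fil p).arrow ≫ b)) biprod.inr

/-- The left inclusion as a filtered morphism. -/
noncomputable def poInl : L ⟶ poObj a b :=
  ⟨a, fun p => le_pullback_of_factors_arrow_comp _ _ _ (factors_poFil_left a b p)⟩

/-- The right inclusion as a filtered morphism. -/
noncomputable def poInr : M ⟶ poObj a b :=
  ⟨b, fun p => le_pullback_of_factors_arrow_comp _ _ _ (factors_poFil_right a b p)⟩

@[simp] lemma poInl_hom : (poInl a b).hom = a := rfl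
@[simp] lemma poInr_hom : (poInr a b).hom = b := rfl

lemma poFil_le_pullback {Q : FilObj A} (h : X ⟶ Q.obj)
    (ha : ∀ p, L.fil p ≤ (Subobject.pullback (a ≫ h)).obj (Q.fil p))
    (hb : ∀ p, M.fil p ≤ (Subobject.pullback (b ≫ h)).obj (Q.fil p)) (p : ℤ) :
    poFil a b p ≤ (Subobject.pullback h).obj (Q.fil p) := by
  refine imageSubobject_le_of_factors _ _ ((pullback_factors_iff _ _ _).mpr ?_)
  rw [biprod.desc_eq, Preadditive.add_comp]
  refine Subobject.factors_add _ _ ?_ ?_
  · simp only [Category.assoc]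
    refine Subobject.factors_of_factors_right _ ?_
    exact factors_arrow_comp_of_le_pullback _ _ _ (ha p)
  · simp only [Category.assoc]
    refine Subobject.factors_of_factors_right _ ?_
    exact factors_arrow_comp_of_le_pullback _ _ _ (hb p)

/-- Descent of a morphism from the pushout-filtered object. -/
noncomputable def poDesc {Q : FilObj A} (h : X ⟶ Q.obj) (u : L ⟶ Q) (v : M ⟶ Q)
    (hu : a ≫ h = u.hom) (hv : b ≫ h = v.hom) : poObj a b ⟶ Q :=
  ⟨h, poFil_le_pullback a b h (fun p => by rw [hu]; exact u.compat p)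
    (fun p => by rw [hv]; exact v.compat p)⟩

end

/-- A pushout square of the underlying objects gives a pushout square of filtered objects. -/
theorem isPushout_poObj {K L M : FilObj A} (f : K ⟶ L) (g : K ⟶ M) {X : A} {a : L.obj ⟶ X}
    {b : M.obj ⟶ X} (hsq : IsPushout f.hom g.hom a b) :
    IsPushout f g (poInl a b) (poInr a b) := by
  refine ⟨⟨FilObj.Hom.ext hsq.w⟩, ⟨PushoutCocone.IsColimit.mk _
    (fun s => poDesc a b (hsq.desc s.inl.hom s.inr.hom (congrArg FilObj.Hom.hom s.condition))
      s.inl s.inr (hsq.inl_desc _ _ _) (hsq.inr_desc _ _ _)) ?_ ?_ ?_⟩⟩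
  · intro s
    exact FilObj.Hom.ext (hsq.inl_desc _ _ _)
  · intro s
    exact FilObj.Hom.ext (hsq.inr_desc _ _ _)
  · intro s m hm1 hm2
    refine FilObj.Hom.ext ?_
    apply hsq.hom_ext
    · exact (congrArg FilObj.Hom.hom hm1).trans (hsq.inl_desc _ _ _).symm
    · exact (congrArg FilObj.Hom.hom hm2).trans (hsq.inr_desc _ _ _).symm

theorem hasPushout {K L M : FilObj A} (f : K ⟶ L) (g : K ⟶ M) : HasPushout f g :=
  (isPushout_poObj f g (IsPushout.of_hasPushout f.hom g.hom)).hasPushout

lemma le_of_le_pullback_id {X : A} {F G : Subobject X}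
    (h : F ≤ (Subobject.pullback (𝟙 X)).obj G) : F ≤ G := by
  rwa [Subobject.pullback_id] at h

/-- In a pushout square of filtered objects, the filtration of the pushout is the image
filtration. -/
theorem fil_eq_poFil {K L M P : FilObj A} {f : K ⟶ L} {g : K ⟶ M} {g' : L ⟶ P} {f' : M ⟶ P}
    (h : IsPushout f g g' f') (p : ℤ) : P.fil p = poFil g'.hom f'.hom p := by
  -- the comparison map `P' ⟶ P`
  let ι : poObj g'.hom f'.hom ⟶ P := poDesc g'.hom f'.hom (𝟙 _) g' f' (Category.comp_id _)
    (Category.comp_id _)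
  have hw : f ≫ poInl g'.hom f'.hom = g ≫ poInr g'.hom f'.hom :=
    FilObj.Hom.ext (by have := congrArg FilObj.Hom.hom h.w; exact this)
  let u : P ⟶ poObj g'.hom f'.hom := h.desc (poInl g'.hom f'.hom) (poInr g'.hom f'.hom) hw
  have hu : u ≫ ι = 𝟙 P := by
    apply h.hom_ext
    · rw [← Category.assoc, h.inl_desc]
      exact FilObj.Hom.ext (by change g'.hom ≫ 𝟙 _ = g'.hom ≫ 𝟙 _; rfl)
    · rw [← Category.assoc, h.inr_desc]
      exact FilObj.Hom.ext (by change f'.hom ≫ 𝟙 _ = f'.hom ≫ 𝟙 _; rfl)
  have hu' : u.hom = 𝟙 P.obj := by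
    have := congrArg FilObj.Hom.hom hu
    rw [comp_hom, id_hom] at this
    rw [← this]
    exact (Category.comp_id _).symm
  apply le_antisymm
  · have := u.compat p
    rw [hu'] at this
    exact le_of_le_pullback_id (X := P.obj) this
  · have := ι.compat p
    exact le_of_le_pullback_id (X := P.obj) this

/-- The pushout of a strict morphism is strict. -/
theorem isStrict_of_isPushout {K L M P : FilObj A} {f : K ⟶ L} {g : K ⟶ M} {g' : L ⟶ P}
    {f' : M ⟶ P} (h : IsPushout f g g' f') (hf : IsStrict f) : IsStrict f' := by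
  intro p
  have hA := isPushout_hom h
  apply le_antisymm
  · refine le_inf ?_ ?_
    · exact imageSubobject_comp_le _ _
    · exact imageSubobject_le_of_factors _ _
        (factors_arrow_comp_of_le_pullback _ _ _ (f'.compat p))
  · refine Subobject.le_of_factors ?_
    set S := imageSubobject f'.hom ⊓ P.fil p with hS
    have h1 : (imageSubobject f'.hom).Factors S.arrow := Subobject.inf_arrow_factors_left _ _
    have h2 : (P.fil p).Factors S.arrow := Subobject.inf_arrow_factors_right _ _
    rw [fil_eq_poFil h p] at h2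
    obtain ⟨T1, π1, hπ1, m, hm⟩ := (factors_imageSubobject_iff _ _).mp h1
    have h2' : (poFil g'.hom f'.hom p).Factors (π1 ≫ S.arrow) :=
      Subobject.factors_of_factors_right _ h2
    obtain ⟨T2, π2, hπ2, z, hz⟩ := (factors_imageSubobject_iff _ _).mp h2'
    -- components
    obtain ⟨lp, hlp⟩ : ∃ lp : T2 ⟶ L.obj, lp = z ≫ biprod.fst ≫ (L.fil p).arrow := ⟨_, rfl⟩
    obtain ⟨mp, hmp⟩ : ∃ mp : T2 ⟶ M.obj, mp = z ≫ biprod.snd ≫ (M.fil p).arrow := ⟨_, rfl⟩
    have hz' : π2 ≫ π1 ≫ S.arrow = lp ≫ g'.hom + mp ≫ f'.hom := by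
      rw [hz, biprod.desc_eq, Preadditive.comp_add]
      simp only [hlp, hmp, Category.assoc]
    -- exactness
    have hw : biprod.lift (-lp) (π2 ≫ m - mp) ≫ hA.shortComplex.g = 0 := by
      change biprod.lift (-lp) (π2 ≫ m - mp) ≫ biprod.desc g'.hom f'.hom = 0
      rw [biprod.lift_desc, Preadditive.neg_comp, Preadditive.sub_comp, Category.assoc, ← hm, hz']
      abel
    obtain ⟨T3, π3, hπ3, k, hk⟩ := hA.exact_shortComplex.exact_up_to_refinements _ hw
    have hk1 : π3 ≫ (-lp) = k ≫ f.hom := by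
      have := congrArg (fun t => t ≫ biprod.fst) hk
      change (π3 ≫ biprod.lift (-lp) (π2 ≫ m - mp)) ≫ biprod.fst =
        (k ≫ biprod.lift f.hom (-g.hom)) ≫ biprod.fst at this
      rw [Category.assoc, Category.assoc, biprod.lift_fst, biprod.lift_fst] at this
      exact this
    -- strictness of f
    have hkf : (imageSubobject ((K.fil p).arrow ≫ f.hom)).Factors (k ≫ f.hom) := by
      rw [hf p]
      refine (Subobject.inf_factors _).mpr ⟨imageSubobject_factors_comp_self (f := f.hom) k, ?_⟩
      rw [← hk1, Preadditive.comp_neg, hlp]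
      have : -(π3 ≫ z ≫ biprod.fst ≫ (L.fil p).arrow) =
          (-(π3 ≫ z ≫ biprod.fst)) ≫ (L.fil p).arrow := by
        simp
      rw [this]
      exact Subobject.factors_comp_arrow _
    obtain ⟨T4, π4, hπ4, kp, hkp⟩ := (factors_imageSubobject_iff _ _).mp hkf
    -- the element of `F^p M`
    refine (factors_imageSubobject_iff _ _).mpr
      ⟨T4, π4 ≫ π3 ≫ π2 ≫ π1, inferInstance,
        π4 ≫ π3 ≫ z ≫ biprod.snd - (M.fil p).factorThru (kp ≫ (K.fil p).arrow ≫ g.hom)
          (Subobject.factors_of_factors_right _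
            (factors_arrow_comp_of_le_pullback _ _ _ (g.compat p))), ?_⟩
    rw [Preadditive.sub_comp]
    simp only [Category.assoc]
    rw [Subobject.factorThru_arrow_assoc]
    have e1 : π3 ≫ lp ≫ g'.hom = -(k ≫ f.hom ≫ g'.hom) := by
      rw [← Category.assoc k, ← hk1]
      simp
    have e2 : f.hom ≫ g'.hom = g.hom ≫ f'.hom := hA.w
    rw [hz', Preadditive.comp_add, Preadditive.comp_add, e1, Preadditive.comp_neg,
      ← Category.assoc π4, ← Category.assoc (π4 ≫ k), Category.assoc π4, hkp]
    simp only [Category.assoc, hmp, e2]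
    abel

end Groth.Agent.Lib.Helper11.FilPO
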