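import Groth.Agent.Lib.Helper11Dumb

/-!
Genus one classification: exclusion of the configurations of finite type
(simple chains, chains with a double end, `D`-type graphs).
-/

namespace Groth.Agent.Lib.Helper11

open Finset Models

variable {n : ℕ} {T : Models.NumericalType n}

/-- The dual master theorem: a family which is everything, whose Cartan integers are dominated
by a matrix `B` having a nonnegative vector `c` with `B c ≤ 2 c`, strictly somewhere,
does not exist. -/
theorem finite_master {k : ℕ} (u : Fin k ↪ Fin n) (hs : Function.Surjective u)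
    (hv : ∀ j, T.IsMinusTwo (u j)) (c : Fin k → ℤ) (hc : ∀ p, 0 ≤ c p)
    (B : Fin k → Fin k → ℤ) (hB : ∀ p q, p ≠ q → kk T (u p) (u q) ≤ B p q)
    (hsum : ∀ p, ∑ q ∈ univ.erase p, B p q * c q ≤ 2 * c p)
    (p0 : Fin k) (hlt : ∑ q ∈ univ.erase p0, B p0 q * c q < 2 * c p0) : False := by
  have hle : ∀ p, ∑ q ∈ univ.erase p, kk T (u p) (u q) * c q ≤ ∑ q ∈ univ.erase p, B p q * c q := by
    intro p
    refine Finset.sum_le_sum fun q hq => ?_
    have hqp : p ≠ q := fun h => (Finset.mem_erase.mp hq).1 h.symm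
    exact mul_le_mul_of_nonneg_right (hB p q hqp) (hc q)
  refine no_superharmonic T u hs c ?_ p0 ?_
  · intro p
    rw [row_split T u hv]
    have := hle p
    have := hsum p
    omega
  · rw [row_split T u hv]
    have := hle p0
    omega

section
variable {k : ℕ}

theorem sum_erase_eq_one (f : Fin k → ℤ) (p q1 : Fin k) (h1 : q1 ≠ p)
    (hz : ∀ q, q ≠ p → q ≠ q1 → f q = 0) : ∑ q ∈ univ.erase p, f q = f q1 := by
  have hsub : ({q1} : Finset (Fin k)) ⊆ univ.erase p := by
    intro q hq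
    rw [Finset.mem_singleton] at hq
    subst hq
    exact Finset.mem_erase.mpr ⟨h1, Finset.mem_univ _⟩
  rw [← Finset.sum_subset hsub (fun q hq hq' => hz q (Finset.mem_erase.mp hq).1
    (by simpa using hq')), Finset.sum_singleton]

theorem sum_erase_eq_two (f : Fin k → ℤ) (p q1 q2 : Fin k) (h1 : q1 ≠ p) (h2 : q2 ≠ p)
    (h12 : q1 ≠ q2) (hz : ∀ q, q ≠ p → q ≠ q1 → q ≠ q2 → f q = 0) :
    ∑ q ∈ univ.erase p, f q = f q1 + f q2 := by
  have hsub : ({q1, q2} : Finset (Fin k)) ⊆ univ.erase p := by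
    intro q hq
    rw [Finset.mem_insert, Finset.mem_singleton] at hq
    rcases hq with rfl | rfl
    · exact Finset.mem_erase.mpr ⟨h1, Finset.mem_univ _⟩
    · exact Finset.mem_erase.mpr ⟨h2, Finset.mem_univ _⟩
  rw [← Finset.sum_subset hsub (fun q hq hq' => by
    rw [Finset.mem_insert, Finset.mem_singleton] at hq'
    push Not at hq'
    exact hz q (Finset.mem_erase.mp hq).1 hq'.1 hq'.2), Finset.sum_pair h12]

theorem sum_erase_eq_three (f : Fin k → ℤ) (p q1 q2 q3 : Fin k) (h1 : q1 ≠ p) (h2 : q2 ≠ p)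
    (h3 : q3 ≠ p) (h12 : q1 ≠ q2) (h13 : q1 ≠ q3) (h23 : q2 ≠ q3)
    (hz : ∀ q, q ≠ p → q ≠ q1 → q ≠ q2 → q ≠ q3 → f q = 0) :
    ∑ q ∈ univ.erase p, f q = f q1 + f q2 + f q3 := by
  have hsub : ({q1, q2, q3} : Finset (Fin k)) ⊆ univ.erase p := by
    intro q hq
    rw [Finset.mem_insert, Finset.mem_insert, Finset.mem_singleton] at hq
    rcases hq with rfl | rfl | rfl
    · exact Finset.mem_erase.mpr ⟨h1, Finset.mem_univ _⟩
    · exact Finset.mem_erase.mpr ⟨h2, Finset.mem_univ _⟩
    · exact Finset.mem_erase.mpr ⟨h3, Finset.mem_univ _⟩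
  rw [← Finset.sum_subset hsub (fun q hq hq' => by
    rw [Finset.mem_insert, Finset.mem_insert, Finset.mem_singleton] at hq'
    push Not at hq'
    exact hz q (Finset.mem_erase.mp hq).1 hq'.1 hq'.2.1 hq'.2.2),
    Finset.sum_insert (by simp [h12, h13]), Finset.sum_pair h23]
  ring

end

/-- upper bounds of a chain whose first edge is bounded by `(a, a')` -/
def Bfc (a a' : ℤ) (k : ℕ) (p q : Fin k) : ℤ :=
  if q.val = p.val + 1 then (if p.val = 0 then a else 1)
  else if p.val = q.val + 1 then (if q.val = 0 then a' else 1)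
  else 0

theorem Bfc_fwd0 (a a' : ℤ) {k : ℕ} {p q : Fin k} (h : q.val = p.val + 1) (h0 : p.val = 0) :
    Bfc a a' k p q = a := by
  unfold Bfc; rw [if_pos h, if_pos h0]

theorem Bfc_fwd1 (a a' : ℤ) {k : ℕ} {p q : Fin k} (h : q.val = p.val + 1) (h0 : p.val ≠ 0) :
    Bfc a a' k p q = 1 := by
  unfold Bfc; rw [if_pos h, if_neg h0]

theorem Bfc_bwd0 (a a' : ℤ) {k : ℕ} {p q : Fin k} (h : p.val = q.val + 1) (h0 : q.val = 0) :
    Bfc a a' k p q = a' := by
  unfold Bfc; rw [if_neg (by omega), if_pos h, if_pos h0]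

theorem Bfc_bwd1 (a a' : ℤ) {k : ℕ} {p q : Fin k} (h : p.val = q.val + 1) (h0 : q.val ≠ 0) :
    Bfc a a' k p q = 1 := by
  unfold Bfc; rw [if_neg (by omega), if_pos h, if_neg h0]

theorem Bfc_zero (a a' : ℤ) {k : ℕ} {p q : Fin k} (h1 : q.val ≠ p.val + 1)
    (h2 : p.val ≠ q.val + 1) : Bfc a a' k p q = 0 := by
  unfold Bfc; rw [if_neg h1, if_neg h2]

/-- the test vector of a chain whose first edge is bounded by `(a, a')` -/
def cfc (a' : ℤ) (k : ℕ) (p : Fin k) : ℤ := if p.val = 0 then 1 else a'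

theorem cfc_zero (a' : ℤ) {k : ℕ} {p : Fin k} (h : p.val = 0) : cfc a' k p = 1 := if_pos h

theorem cfc_pos (a' : ℤ) {k : ℕ} {p : Fin k} (h : p.val ≠ 0) : cfc a' k p = a' := if_neg h

/-- A chain which is everything, with simple edges except possibly the first one,
whose Cartan integers `(a, a')` satisfy `a a' ≤ 2`, does not exist. -/
theorem no_finite_chain {k : ℕ} (u : Fin k ↪ Fin n) (hs : Function.Surjective u)
    (hv : ∀ j, T.IsMinusTwo (u j)) (hk : 3 ≤ k) {a a' : ℤ} (ha : 1 ≤ a) (ha' : 1 ≤ a')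
    (haa : a * a' ≤ 2) (hB : ∀ p q, p ≠ q → kk T (u p) (u q) ≤ Bfc a a' k p q) : False := by
  obtain ⟨pe, hpe⟩ := exists_fin (t := k) (k - 1) (by omega)
  have hsum : ∀ p : Fin k, ∑ q ∈ univ.erase p, Bfc a a' k p q * cfc a' k q ≤
      2 * cfc a' k p ∧ (p.val + 1 = k →
      ∑ q ∈ univ.erase p, Bfc a a' k p q * cfc a' k q < 2 * cfc a' k p) := by
    intro p
    have hp := p.isLt
    by_cases h0 : p.val = 0
    · obtain ⟨q1, hq1⟩ := exists_fin (t := k) 1 (by omega)
      rw [sum_erase_eq_one _ p q1 (fin_ne (by omega)) (by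
        intro q hqp hq1'
        have : q.val ≠ p.val := fun h => hqp (Fin.ext h)
        have : q.val ≠ q1.val := fun h => hq1' (Fin.ext h)
        rw [Bfc_zero a a' (by omega) (by omega), zero_mul])]
      rw [Bfc_fwd0 a a' (by omega) h0, cfc_pos a' (p := q1) (by omega), cfc_zero a' h0]
      constructor
      · omega
      · intro h; omega
    by_cases h1 : p.val + 1 = k
    · obtain ⟨q1, hq1⟩ := exists_fin (t := k) (k - 2) (by omega)
      rw [sum_erase_eq_one _ p q1 (fin_ne (by omega)) (by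
        intro q hqp hq1'
        have : q.val ≠ p.val := fun h => hqp (Fin.ext h)
        have : q.val ≠ q1.val := fun h => hq1' (Fin.ext h)
        have := q.isLt
        rw [Bfc_zero a a' (by omega) (by omega), zero_mul])]
      rw [Bfc_bwd1 a a' (by omega) (by omega), cfc_pos a' (p := q1) (by omega), cfc_pos a' h0]
      constructor
      · omega
      · intro _; omega
    · obtain ⟨q1, hq1⟩ := exists_fin (t := k) (p.val - 1) (by omega)
      obtain ⟨q2, hq2⟩ := exists_fin (t := k) (p.val + 1) (by omega)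
      rw [sum_erase_eq_two _ p q1 q2 (fin_ne (by omega)) (fin_ne (by omega)) (fin_ne (by omega)) (by
        intro q hqp hq1' hq2'
        have : q.val ≠ p.val := fun h => hqp (Fin.ext h)
        have : q.val ≠ q1.val := fun h => hq1' (Fin.ext h)
        have : q.val ≠ q2.val := fun h => hq2' (Fin.ext h)
        rw [Bfc_zero a a' (by omega) (by omega), zero_mul])]
      refine ⟨?_, fun h => absurd h h1⟩
      rw [Bfc_fwd1 a a' (q := q2) (by omega) h0, cfc_pos a' (p := q2) (by omega), cfc_pos a' h0]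
      by_cases h2 : q1.val = 0
      · rw [Bfc_bwd0 a a' (by omega) h2, cfc_zero a' h2]; omega
      · rw [Bfc_bwd1 a a' (by omega) h2, cfc_pos a' h2]; omega
  refine finite_master u hs hv (cfc a' k) ?_ (Bfc a a' k) hB
    (fun p => (hsum p).1) pe ((hsum pe).2 (by omega))
  intro p
  unfold cfc
  split_ifs <;> omega

end Groth.Agent.Lib.Helper11
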