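import Groth.Agent.Lib.Helper11Exc

/-!
Genus one classification: exclusion of the graphs `E6`, `E7`, `E8`.
-/

namespace Groth.Agent.Lib.Helper11

open Finset Models

variable {n : ℕ} {T : Models.NumericalType n}

theorem Spider.no_E {t : ℕ} {v : Fin t ↪ Fin n} {x : Fin n} {kb : Fin t}
    (S : Spider T v x kb) (h2 : ∀ i, T.IsMinusTwo i) (hkb : kb.val = 2) (ht : 5 ≤ t)
    (ht' : t ≤ 7) : False := by
  have hup := S.upper
  rw [hkb] at hup
  obtain rfl | rfl | rfl : t = 5 ∨ t = 6 ∨ t = 7 := by omega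
  · exact finite_master (snocEmb v x S.hx) S.snoc_surj (fun j => h2 _) ![1, 2, 3, 2, 1, 2]
      (by decide) (Bsp 5 2) hup (by decide) 5 (by decide)
  · exact finite_master (snocEmb v x S.hx) S.snoc_surj (fun j => h2 _) ![2, 3, 4, 3, 2, 1, 2]
      (by decide) (Bsp 6 2) hup (by decide) 0 (by decide)
  · exact finite_master (snocEmb v x S.hx) S.snoc_surj (fun j => h2 _) ![2, 4, 6, 5, 4, 3, 2, 3]
      (by decide) (Bsp 7 2) hup (by decide) 6 (by decide)

end Groth.Agent.Lib.Helper11
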