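import Mathlib
import Groth.Agent.Lib.Helper11FixOver

/-!
Helper library (helper11): Weil restriction of a closed subscheme (over a field; SGA3 VIII 6 style).
For a closed immersion `ε : E ⟶ Y ×[K] X` and a `K`-morphism `ξ : T ⟶ X`, `FixE` says that the base
change `Y ×[K] T ⟶ Y ×[K] X` of `ξ` factors through `ε`.  When all affine coordinate rings of `Y`
are free over `Γ(K, ⊤)`, this functor is represented by a closed subscheme of `X`.
-/

set_option autoImplicit false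
universe u
open CategoryTheory CategoryTheory.Limits AlgebraicGeometry

namespace Groth.Agent.Lib.Helper11FixGen

open Groth.Agent.Lib.Helper11FixSch Groth.Agent.Lib.Helper11FixRep

variable {K Y X E : Scheme.{u}} (y : Y ⟶ K) (x₀ : X ⟶ K) (ε : E ⟶ pullback y x₀)

/-- the base change of `ξ` along `Y ⟶ K` factors through `ε` -/
def FixE {T : Scheme.{u}} (t : T ⟶ K) (ξ : T ⟶ X) (h : ξ ≫ x₀ = t) : Prop :=
  ∃ l : pullback y t ⟶ E, l ≫ ε = pm y x₀ t ξ h

variable {y x₀ ε}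

theorem FixE.precomp {T T' : Scheme.{u}} {t : T ⟶ K} {ξ : T ⟶ X} {h : ξ ≫ x₀ = t}
    (hf : FixE y x₀ ε t ξ h) (τ : T' ⟶ T) (t' : T' ⟶ K) (h' : τ ≫ t = t') :
    FixE y x₀ ε t' (τ ≫ ξ) (by rw [Category.assoc, h, h']) := by
  obtain ⟨l, hl⟩ := hf
  exact ⟨pullback.map y t' y t (𝟙 Y) τ (𝟙 K) (by simp) (by simp [h']) ≫ l, by
    rw [Category.assoc, hl, pm_comp t ξ h τ t' h']⟩

/-- `FixE` only depends on the morphisms `t`, `ξ` up to equality -/
theorem FixE.of_eq {T : Scheme.{u}} {t t' : T ⟶ K} {ξ ξ' : T ⟶ X} {h : ξ ≫ x₀ = t}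
    (hf : FixE y x₀ ε t ξ h) (et : t = t') (eξ : ξ = ξ') :
    FixE y x₀ ε t' ξ' (by rw [← eξ, ← et]; exact h) := by
  subst et eξ; exact hf

/-- `FixE` is local on `T` for the Zariski topology -/
theorem FixE.of_openCover [Mono ε] {T : Scheme.{u}} (t : T ⟶ K) (ξ : T ⟶ X) (h : ξ ≫ x₀ = t)
    (𝒰 : T.OpenCover)
    (H : ∀ i, FixE y x₀ ε (𝒰.f i ≫ t) (𝒰.f i ≫ ξ) (by rw [Category.assoc, h])) :
    FixE y x₀ ε t ξ h := by
  have H' : ∀ i : (Scheme.Pullback.openCoverOfRight 𝒰 y t).I₀,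
      ∃ l : (Scheme.Pullback.openCoverOfRight 𝒰 y t).X i ⟶ E,
        l ≫ ε = (Scheme.Pullback.openCoverOfRight 𝒰 y t).f i ≫ pm y x₀ t ξ h := by
    intro i
    obtain ⟨l, hl⟩ := H i
    exact ⟨l, hl.trans (pm_comp t ξ h (𝒰.f i) (𝒰.f i ≫ t) rfl)⟩
  choose l hl' using H'
  refine ⟨(Scheme.Pullback.openCoverOfRight 𝒰 y t).glueMorphisms l ?_, ?_⟩
  · intro i j
    rw [← cancel_mono ε, Category.assoc, Category.assoc, hl', hl', pullback.condition_assoc]
  · refine (Scheme.Pullback.openCoverOfRight 𝒰 y t).hom_ext _ _ fun i => ?_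
    rw [← Category.assoc, Scheme.Cover.ι_glueMorphisms, hl']

/-- **Dominant descent.** If `T` is affine and `T' c ⟶ T` is a family of morphisms from affine schemes which is
jointly injective on global sections, and all affine coordinate rings of `Y` are free over
`Γ(K, ⊤)`, then `FixE` descends from the family to `T`. -/
theorem FixE.of_family [IsAffine K] [IsClosedImmersion ε]
    (hfree : ∀ V : Y.affineOpens,
      letI := (y.appLE ⊤ V.1 le_top).hom.toAlgebra; Module.Free Γ(K, ⊤) Γ(Y, V.1))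
    {T : Scheme.{u}} [IsAffine T] (t : T ⟶ K) (ξ : T ⟶ X) (h : ξ ≫ x₀ = t)
    {ι : Type*} (T' : ι → Scheme.{u}) [∀ c, IsAffine (T' c)] (τ : ∀ c, T' c ⟶ T)
    (hinj : ∀ a : Γ(T, ⊤), (∀ c, (τ c).appLE ⊤ ⊤ le_top a = 0) → a = 0)
    (H : ∀ c, FixE y x₀ ε (τ c ≫ t) (τ c ≫ ξ) (by rw [Category.assoc, h])) :
    FixE y x₀ ε t ξ h := by
  -- the pulled back closed subscheme
  obtain ⟨e, he0⟩ : ∃ e, e = pullback.fst (pm y x₀ t ξ h) ε := ⟨_, rfl⟩
  have he : IsClosedImmersion e := by rw [he0]; infer_instance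
  -- the base change maps
  let m : ∀ c, pullback y (τ c ≫ t) ⟶ pullback y t := fun c =>
    pullback.map y (τ c ≫ t) y t (𝟙 Y) (τ c) (𝟙 K) (by simp) (by simp)
  have hm : ∀ c, ∃ l, l ≫ e = m c := by
    intro c
    obtain ⟨l, hl⟩ := H c
    rw [pm_comp t ξ h (τ c) (τ c ≫ t) rfl] at hl
    refine ⟨pullback.lift (m c) l hl.symm, ?_⟩
    rw [he0, pullback.lift_fst]
  choose l hl using hm
  have hm1 : ∀ c, m c ≫ pullback.fst y t = pullback.fst y (τ c ≫ t) := fun c => by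
    simp [m, pullback.lift_fst]
  have hm2 : ∀ c, m c ≫ pullback.snd y t = pullback.snd y (τ c ≫ t) ≫ τ c := fun c => by
    simp [m, pullback.lift_snd]
  suffices hiso : IsIso e by
    subst he0
    refine ⟨inv (pullback.fst (pm y x₀ t ξ h) ε) ≫ pullback.snd (pm y x₀ t ξ h) ε, ?_⟩
    rw [Category.assoc, ← pullback.condition, IsIso.inv_hom_id_assoc]
  rw [IsClosedImmersion.isIso_iff_ker_eq_bot, ← le_bot_iff]
  refine Scheme.IdealSheafData.le_of_iSup_eq_top
    (fun V : Y.affineOpens => (⟨boxOpen (y := y) t V.1, isAffineOpen_boxOpen t V⟩ :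
      (pullback y t).affineOpens)) ?_ ?_
  · rw [eq_top_iff]
    intro p _
    obtain ⟨_, ⟨V, hV, rfl⟩, hpV, -⟩ := Y.isBasis_affineOpens.exists_subset_of_mem_open
      (Set.mem_univ ((pullback.fst y t) p)) isOpen_univ
    exact TopologicalSpace.Opens.mem_iSup.mpr ⟨⟨V, hV⟩, ⟨hpV, trivial⟩⟩
  · intro V s hs
    rw [Scheme.Hom.ker_apply, RingHom.mem_ker] at hs
    change s = 0
    have hle : ∀ c, boxOpen (y := y) (τ c ≫ t) V.1 ≤ m c ⁻¹ᵁ boxOpen (y := y) t V.1 := by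
      intro c p hp
      refine ⟨?_, trivial⟩
      show (pullback.fst y t) ((m c) p) ∈ V.1
      rw [← Scheme.Hom.comp_apply, hm1 c]
      exact hp.1
    refine Groth.Agent.Lib.Helper11FixAlg.eq_zero_of_isPushout (isPushout_boxOpen t V) (hfree V)
      (fun c => (τ c ≫ t).appLE ⊤ ⊤ le_rfl)
      (fun c => (pullback.fst y (τ c ≫ t)).appLE V.1 (boxOpen (y := y) (τ c ≫ t) V.1) inf_le_left)
      (fun c => (pullback.snd y (τ c ≫ t)).appLE ⊤ (boxOpen (y := y) (τ c ≫ t) V.1) inf_le_right)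
      (fun c => isPushout_boxOpen (τ c ≫ t) V)
      (fun c => (τ c).appLE ⊤ ⊤ le_top)
      (fun c => (m c).appLE (boxOpen (y := y) t V.1) (boxOpen (y := y) (τ c ≫ t) V.1) (hle c))
      ?_ ?_ hinj s ?_
    · intro c
      rw [Scheme.Hom.appLE_comp_appLE]
      exact appLE_eq_of_eq (hm1 c) _ _ _
    · intro c
      rw [Scheme.Hom.appLE_comp_appLE, Scheme.Hom.appLE_comp_appLE]
      exact appLE_eq_of_eq (hm2 c) _ _ _
    · intro c
      have h1 : (m c).appLE (boxOpen (y := y) t V.1) (boxOpen (y := y) (τ c ≫ t) V.1) (hle c) =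
          (l c ≫ e).appLE (boxOpen (y := y) t V.1) (boxOpen (y := y) (τ c ≫ t) V.1)
            ((hl c).symm ▸ hle c) := appLE_eq_of_eq (hl c).symm _ _ _
      rw [h1, Scheme.Hom.comp_appLE, CommRingCat.comp_apply, hs, map_zero]

/-- `Fix.of_family` for spectra -/
theorem FixE.of_family_Spec [IsAffine K] [IsClosedImmersion ε]
    (hfree : ∀ V : Y.affineOpens,
      letI := (y.appLE ⊤ V.1 le_top).hom.toAlgebra; Module.Free Γ(K, ⊤) Γ(Y, V.1))
    {R : CommRingCat.{u}} (ξ : Spec R ⟶ X)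
    {ι : Type*} (R' : ι → CommRingCat.{u}) (φ : ∀ c, R ⟶ R' c)
    (hinj : ∀ r : R, (∀ c, φ c r = 0) → r = 0)
    (H : ∀ c, FixE y x₀ ε ((Spec.map (φ c) ≫ ξ) ≫ x₀) (Spec.map (φ c) ≫ ξ) rfl) :
    FixE y x₀ ε (ξ ≫ x₀) ξ rfl := by
  refine FixE.of_family hfree (ξ ≫ x₀) ξ rfl (fun c => Spec (R' c))
    (fun c => Spec.map (φ c)) ?_ ?_
  · intro a ha
    obtain ⟨r, rfl⟩ : ∃ r, (Scheme.ΓSpecIso R).inv r = a :=
      ⟨(Scheme.ΓSpecIso R).hom a, by simp⟩
    have hr : r = 0 := by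
      apply hinj
      intro c
      have h1 := congr($(Scheme.ΓSpecIso_inv_naturality (φ c)) r)
      rw [CommRingCat.comp_apply, CommRingCat.comp_apply] at h1
      have h2 : (Spec.map (φ c)).appTop ((Scheme.ΓSpecIso R).inv r) = 0 := ha c
      rw [h2] at h1
      have := congrArg (Scheme.ΓSpecIso (R' c)).hom h1
      simpa using this
    rw [hr, map_zero]
  · intro c
    exact FixE.of_eq (H c) (Category.assoc _ _ _) rfl

variable (y x₀ ε) in
/-- the ideal `I` of `Γ(X, U)` cuts out a subscheme on which `α`, `β` agree -/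
def FixEI (U : X.affineOpens) (I : Ideal Γ(X, U)) : Prop :=
  FixE y x₀ ε (ξI U I ≫ x₀) (ξI U I) rfl

variable (y x₀ ε) in
/-- the smallest ideal of `Γ(X, U)` cutting out a subscheme on which `α`, `β` agree -/
noncomputable def JE (U : X.affineOpens) : Ideal Γ(X, U) := sInf {I | FixEI y x₀ ε U I}

section main

variable [IsAffine K] [IsClosedImmersion ε]
    (hfree : ∀ V : Y.affineOpens,
      letI := (y.appLE ⊤ V.1 le_top).hom.toAlgebra; Module.Free Γ(K, ⊤) Γ(Y, V.1))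
include hfree

theorem fixEI_sInf (U : X.affineOpens) (S : Set (Ideal Γ(X, U)))
    (hS : ∀ I ∈ S, FixEI y x₀ ε U I) : FixEI y x₀ ε U (sInf S) := by
  unfold FixEI
  refine FixE.of_family_Spec hfree (ξI U (sInf S))
    (fun I : S => CommRingCat.of (Γ(X, U) ⧸ I.1))
    (fun I => CommRingCat.ofHom (Ideal.Quotient.factor (sInf_le I.2))) ?_ ?_
  · intro r hr
    obtain ⟨a, rfl⟩ := Ideal.Quotient.mk_surjective r
    rw [Ideal.Quotient.eq_zero_iff_mem, Submodule.mem_sInf]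
    intro I hI
    have := hr ⟨I, hI⟩
    change Ideal.Quotient.factor (sInf_le hI) (Ideal.Quotient.mk (sInf S) a) = 0 at this
    rw [Ideal.Quotient.factor_mk, Ideal.Quotient.eq_zero_iff_mem] at this
    exact this
  · intro I
    exact FixE.of_eq (hS I.1 I.2) (by rw [ξI_factor]) (ξI_factor U _).symm

theorem fixEI_JE (U : X.affineOpens) : FixEI y x₀ ε U (JE y x₀ ε U) :=
  fixEI_sInf hfree U _ (fun _ hI => hI)

theorem JE_le_ker_appLE {T : Scheme.{u}} (t : T ⟶ K) (ξ : T ⟶ X) (h : ξ ≫ x₀ = t)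
    (hf : FixE y x₀ ε t ξ h) (U : X.affineOpens) (V : T.affineOpens) (hV : V.1 ≤ ξ ⁻¹ᵁ U.1) :
    JE y x₀ ε U ≤ RingHom.ker (ξ.appLE U.1 V.1 hV).hom := by
  apply sInf_le
  change FixEI y x₀ ε U _
  unfold FixEI
  obtain ⟨φ, hφ⟩ : ∃ φ, φ = (ξ.appLE U.1 V.1 hV).hom := ⟨_, rfl⟩
  rw [← hφ]
  refine FixE.of_family_Spec hfree (ξI U (RingHom.ker φ)) (fun _ : Unit => Γ(T, V.1))
    (fun _ => CommRingCat.ofHom (RingHom.kerLift φ)) ?_ ?_
  · intro r hr
    exact RingHom.kerLift_injective φ (by rw [map_zero]; exact hr ())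
  · intro _
    have e : Spec.map (CommRingCat.ofHom (RingHom.kerLift φ)) ≫ ξI U (RingHom.ker φ) =
        V.2.fromSpec ≫ ξ := by
      unfold ξI
      rw [← Category.assoc, ← Spec.map_comp, ← IsAffineOpen.SpecMap_appLE_fromSpec ξ U.2 V.2 hV]
      congr 2
      ext a
      rw [hφ]
      rfl
    exact FixE.of_eq (hf.precomp V.2.fromSpec (V.2.fromSpec ≫ t) rfl) (by rw [e, Category.assoc, h])
      e.symm

theorem JE_le_ker_app {T : Scheme.{u}} (t : T ⟶ K) (ξ : T ⟶ X) (h : ξ ≫ x₀ = t)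
    (hf : FixE y x₀ ε t ξ h) (U : X.affineOpens) :
    JE y x₀ ε U ≤ RingHom.ker (ξ.app U.1).hom := by
  intro a ha
  rw [RingHom.mem_ker]
  refine T.IsSheaf.section_ext fun x hx => ?_
  obtain ⟨_, ⟨V, hV, rfl⟩, hxV, hVU⟩ := T.isBasis_affineOpens.exists_subset_of_mem_open
    (show x ∈ (ξ ⁻¹ᵁ U.1 : Set T) from hx) (ξ ⁻¹ᵁ U.1).2
  refine ⟨V, hVU, hxV, ?_⟩
  rw [map_zero]
  exact JE_le_ker_appLE hfree t ξ h hf U ⟨V, hV⟩ hVU ha

theorem map_JE_basicOpen (U : X.affineOpens) (f : Γ(X, U)) :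
    (JE y x₀ ε U).map (X.presheaf.map (homOfLE <| X.basicOpen_le f).op).hom =
      JE y x₀ ε (X.affineBasicOpen f) := by
  apply le_antisymm
  · rw [Ideal.map_le_iff_le_comap]
    apply sInf_le
    change FixEI y x₀ ε U _
    unfold FixEI
    refine FixE.of_family_Spec hfree (ξI U _)
      (fun _ : Unit => CommRingCat.of (Γ(X, X.basicOpen f) ⧸ JE y x₀ ε (X.affineBasicOpen f)))
      (fun _ => CommRingCat.ofHom (Ideal.quotientMap (JE y x₀ ε (X.affineBasicOpen f))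
        (X.presheaf.map (homOfLE <| X.basicOpen_le f).op).hom le_rfl)) ?_ ?_
    · intro r hr
      exact Ideal.quotientMap_injective (by rw [map_zero]; exact hr ())
    · intro _
      have e := ξI_quotientMap U f (Ideal.comap (X.presheaf.map (homOfLE <| X.basicOpen_le f).op).hom
        (JE y x₀ ε (X.affineBasicOpen f))) (JE y x₀ ε (X.affineBasicOpen f)) le_rfl
      exact FixE.of_eq (fixEI_JE hfree (X.affineBasicOpen f))
        (congrArg (· ≫ x₀) e.symm) e.symm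
  · apply sInf_le
    change FixEI y x₀ ε (X.affineBasicOpen f) _
    unfold FixEI
    have e := ξI_quotientMap U f (JE y x₀ ε U)
      (Ideal.map (X.presheaf.map (homOfLE <| X.basicOpen_le f).op).hom (JE y x₀ ε U))
      Ideal.le_comap_map
    have h1 := (fixEI_JE (ε := ε) hfree U)
    unfold FixEI at h1
    exact FixE.of_eq (h1.precomp _ _ rfl)
      (by rw [← Category.assoc]; exact congrArg (· ≫ x₀) e) e

/-- the ideal sheaf of the coincidence locus -/
noncomputable def fixEIdeal : X.IdealSheafData where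
  ideal U := JE y x₀ ε U
  map_ideal_basicOpen U f := map_JE_basicOpen hfree U f

/-- **Main theorem (scheme form).** The coincidence locus of `α`, `β` is represented by a closed
subscheme of `X`. -/
theorem exists_closedImmersion_fixE :
    ∃ (Z : Scheme.{u}) (j : Z ⟶ X), IsClosedImmersion j ∧ FixE y x₀ ε (j ≫ x₀) j rfl ∧
      ∀ {T : Scheme.{u}} (t : T ⟶ K) (ξ : T ⟶ X) (h : ξ ≫ x₀ = t), FixE y x₀ ε t ξ h →
        ∃ z : T ⟶ Z, z ≫ j = ξ := by
  obtain ⟨𝓙, h𝓙⟩ : ∃ 𝓙 : X.IdealSheafData, 𝓙 = fixEIdeal (y := y) (x₀ := x₀) (ε := ε) hfree := ⟨_, rfl⟩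
  refine ⟨𝓙.subscheme, 𝓙.subschemeι, inferInstance, ?_, ?_⟩
  · refine FixE.of_openCover _ _ rfl 𝓙.subschemeCover.openCover fun U => ?_
    have e : 𝓙.subschemeCover.openCover.f U ≫ 𝓙.subschemeι = ξI U (𝓙.ideal U) := by
      change 𝓙.subschemeCover.f U ≫ 𝓙.subschemeι = _
      rw [Scheme.IdealSheafData.subschemeCover_map_subschemeι,
        Scheme.IdealSheafData.glueDataObjι_ι]
      rfl
    have h1 : FixEI y x₀ ε U (𝓙.ideal U) := by
      rw [h𝓙]; exact fixEI_JE hfree U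
    exact FixE.of_eq h1 (by rw [← Category.assoc]; exact congrArg (· ≫ x₀) e.symm) e.symm
  · intro T t ξ h hf
    refine ⟨IsClosedImmersion.lift 𝓙.subschemeι ξ ?_, IsClosedImmersion.lift_fac _ _ _⟩
    rw [Scheme.IdealSheafData.ker_subschemeι]
    change 𝓙 ≤ Scheme.IdealSheafData.ofIdeals _
    rw [Scheme.IdealSheafData.le_ofIdeals_iff]
    intro U
    rw [h𝓙]
    exact JE_le_ker_app hfree t ξ h hf U

end main

/-- If every open of `X` is stable under `a` relative to `s`, then the equalizer of `a` and `s` is a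
closed subscheme (no separatedness of `X` needed). -/
theorem isClosedImmersion_equalizer_of_stable {P X : Scheme.{u}} (a s : P ⟶ X)
    (hstab : ∀ U : X.Opens, s ⁻¹ᵁ U ≤ a ⁻¹ᵁ U) : IsClosedImmersion (equalizer.ι a s) := by
  rw [IsZariskiLocalAtTarget.iff_of_iSup_eq_top (P := @IsClosedImmersion)
    (fun U : X.affineOpens => s ⁻¹ᵁ U.1)
    (by rw [← Scheme.Hom.preimage_iSup, iSup_affineOpens_eq_top, Scheme.Hom.preimage_top])]
  intro U
  have : IsAffine U.1.toScheme := U.2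
  obtain ⟨V, hV⟩ : ∃ V : P.Opens, V = s ⁻¹ᵁ U.1 := ⟨_, rfl⟩
  obtain ⟨ε, hε⟩ : ∃ ε, ε = equalizer.ι a s := ⟨_, rfl⟩
  have hεc : ε ≫ a = ε ≫ s := by rw [hε]; exact equalizer.condition a s
  have : Mono ε := by rw [hε]; infer_instance
  rw [← hV, ← hε]
  obtain ⟨a', ha'⟩ : ∃ a' : V.toScheme ⟶ U.1.toScheme, a' ≫ U.1.ι = V.ι ≫ a :=
    ⟨a.resLE U.1 V (hV ▸ hstab U.1), Scheme.Hom.resLE_comp_ι _ _⟩
  obtain ⟨s', hs'⟩ : ∃ s' : V.toScheme ⟶ U.1.toScheme, s' ≫ U.1.ι = V.ι ≫ s :=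
    ⟨s.resLE U.1 V (hV ▸ le_rfl), Scheme.Hom.resLE_comp_ι _ _⟩
  obtain ⟨e', he'⟩ : ∃ e', e' = equalizer.ι a' s' := ⟨_, rfl⟩
  have he'c : e' ≫ a' = e' ≫ s' := by rw [he']; exact equalizer.condition a' s'
  have he'cl : IsClosedImmersion e' := by rw [he']; infer_instance
  have h1 : (ε ∣_ V) ≫ a' = (ε ∣_ V) ≫ s' := by
    rw [← cancel_mono U.1.ι, Category.assoc, Category.assoc, ha', hs', ← Category.assoc,
      ← Category.assoc, morphismRestrict_ι, Category.assoc, Category.assoc, hεc]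
  obtain ⟨φ, hφ⟩ : ∃ φ, φ ≫ e' = ε ∣_ V :=
    ⟨equalizer.lift (ε ∣_ V) h1, by rw [he']; exact equalizer.lift_ι _ _⟩
  have h2 : (e' ≫ V.ι) ≫ a = (e' ≫ V.ι) ≫ s := by
    rw [Category.assoc, Category.assoc, ← ha', ← hs', ← Category.assoc, ← Category.assoc, he'c]
  obtain ⟨l, hl⟩ : ∃ l, l ≫ ε = e' ≫ V.ι :=
    ⟨equalizer.lift (e' ≫ V.ι) h2, by rw [hε]; exact equalizer.lift_ι _ _⟩
  obtain ⟨ψ, hψ⟩ : ∃ ψ, ψ ≫ (ε ⁻¹ᵁ V).ι = l :=
    ⟨IsOpenImmersion.lift (ε ⁻¹ᵁ V).ι l (by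
      rw [Scheme.Opens.range_ι]
      rintro _ ⟨p, rfl⟩
      show ε (l p) ∈ V
      rw [← Scheme.Hom.comp_apply, hl, Scheme.Hom.comp_apply]
      exact (e' p).2), IsOpenImmersion.lift_fac _ _ _⟩
  have hmono : Mono (ε ∣_ V) := by
    have : Mono ((ε ∣_ V) ≫ V.ι) := by rw [morphismRestrict_ι]; infer_instance
    exact mono_of_mono (ε ∣_ V) V.ι
  have : Mono φ := by
    have : Mono (φ ≫ e') := by rw [hφ]; exact hmono
    exact mono_of_mono φ e'
  have : IsSplitEpi φ := IsSplitEpi.mk' ⟨ψ, by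
    rw [← cancel_mono (e' ≫ V.ι), Category.assoc, ← Category.assoc φ, hφ, morphismRestrict_ι,
      ← Category.assoc, hψ, hl, Category.id_comp]⟩
  have : IsIso φ := isIso_of_mono_of_isSplitEpi φ
  rw [← hφ]
  infer_instance


/-- **Scheme form, equalizer version.** If the equalizer of `α`, `β` is a closed subscheme of
`Y ×[K] X`, the coincidence locus of `α`, `β` is represented by a closed subscheme of `X`. -/
theorem exists_closedImmersion_fix_of_isClosedImmersion [IsAffine K] {W : Scheme.{u}}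
    {α β : pullback y x₀ ⟶ W} (hcl : IsClosedImmersion (equalizer.ι α β))
    (hfree : ∀ V : Y.affineOpens,
      letI := (y.appLE ⊤ V.1 le_top).hom.toAlgebra; Module.Free Γ(K, ⊤) Γ(Y, V.1)) :
    ∃ (Z : Scheme.{u}) (j : Z ⟶ X), IsClosedImmersion j ∧ Fix y x₀ α β (j ≫ x₀) j rfl ∧
      ∀ {T : Scheme.{u}} (t : T ⟶ K) (ξ : T ⟶ X) (h : ξ ≫ x₀ = t), Fix y x₀ α β t ξ h →
        ∃ z : T ⟶ Z, z ≫ j = ξ := by
  obtain ⟨Z, j, hj, hfix, huniv⟩ := exists_closedImmersion_fixE (ε := equalizer.ι α β) hfree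
  refine ⟨Z, j, hj, ?_, ?_⟩
  · obtain ⟨l, hl⟩ := hfix
    unfold Helper11FixSch.Fix
    rw [← hl, Category.assoc, Category.assoc, equalizer.condition]
  · intro T t ξ h hf
    exact huniv t ξ h ⟨equalizer.lift _ hf, equalizer.lift_ι _ _⟩

section overSpec

open MonoidalCategory CartesianMonoidalCategory Groth.Agent.Lib.Helper11FixOver

variable (k : Type u) [Field k]

/-- **`Over (Spec k)` form, equalizer version** (no separatedness: the equalizer is assumed closed). -/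
theorem exists_closedImmersion_fix_over_of_isClosedImmersion (Y X W : Over (Spec (CommRingCat.of k)))
    (α β : Y ⊗ X ⟶ W) (hcl : IsClosedImmersion (equalizer.ι α.left β.left)) :
    ∃ (Z : Over (Spec (CommRingCat.of k))) (j : Z ⟶ X), IsClosedImmersion j.left ∧
      (Y ◁ j) ≫ α = (Y ◁ j) ≫ β ∧
      ∀ (T : Over (Spec (CommRingCat.of k))) (x : T ⟶ X),
        (Y ◁ x) ≫ α = (Y ◁ x) ≫ β → ∃ z : T ⟶ Z, z ≫ j = x := by
  have hfree : ∀ V : Y.left.affineOpens,
      letI := (Y.hom.appLE ⊤ V.1 le_top).hom.toAlgebra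
      Module.Free Γ(Spec (CommRingCat.of k), ⊤) Γ(Y.left, V.1) := fun V =>
    letI := (Y.hom.appLE ⊤ V.1 le_top).hom.toAlgebra
    free_of_isField _ _ (isField_Γ_Spec k)
  obtain ⟨Z, j, hj, hfix, huniv⟩ := exists_closedImmersion_fix_of_isClosedImmersion
    (y := Y.hom) (x₀ := X.hom) (α := α.left) (β := β.left) hcl hfree
  refine ⟨Over.mk (j ≫ X.hom), Over.homMk j rfl, hj, ?_, ?_⟩
  · rw [fix_iff]
    exact hfix
  · intro T x hx
    rw [fix_iff] at hx
    obtain ⟨z, hz⟩ := huniv T.hom x.left (Over.w x) hx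
    refine ⟨Over.homMk z ?_, ?_⟩
    · change z ≫ j ≫ X.hom = T.hom
      rw [← Category.assoc, hz, Over.w x]
    · ext1
      exact hz

end overSpec

end Groth.Agent.Lib.Helper11FixGen
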