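import Mathlib

/-!
# Reducedness of the Frobenius twist implies geometric reducedness (helper11)
-/

set_option autoImplicit false
universe u
open TensorProduct

namespace Groth.Agent.Lib.Helper11FrobRed

/-- `k` as an algebra over itself through the Frobenius map. -/
def FrobAlg (k : Type u) (_p : ℕ) : Type u := k

instance (k : Type u) [Field k] (p : ℕ) : Field (FrobAlg k p) := inferInstanceAs (Field k)

noncomputable instance (k : Type u) [Field k] (p : ℕ) [Fact p.Prime] [CharP k p] :
    Algebra k (FrobAlg k p) := (frobenius k p).toAlgebra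

theorem algebraMap_frobAlg (k : Type u) [Field k] (p : ℕ) [Fact p.Prime] [CharP k p] :
    algebraMap k (FrobAlg k p) = frobenius k p := rfl

/-- the identity ring isomorphism `k ≃ FrobAlg k p` -/
def FrobAlg.of (k : Type u) [Field k] (p : ℕ) : k ≃+* FrobAlg k p := RingEquiv.refl k

theorem FrobAlg.of_pow (k : Type u) [Field k] (p : ℕ) [Fact p.Prime] [CharP k p] (x : k) :
    (FrobAlg.of k p x) ^ p = x • (1 : FrobAlg k p) := by
  rw [Algebra.smul_def, mul_one]
  rfl

theorem sum_pow_char' {R : Type*} [CommRing R] (p : ℕ) [Fact p.Prime] (hp : (p : R) = 0)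
    {ι : Type*} (s : Finset ι) (f : ι → R) :
    (∑ i ∈ s, f i) ^ p = ∑ i ∈ s, f i ^ p := by
  rcases subsingleton_or_nontrivial R with h | h
  · exact Subsingleton.elim _ _
  · have : CharP R p := (CharP.charP_iff_prime_eq_zero Fact.out).2 hp
    exact sum_pow_char p s f

section

variable {k : Type u} [Field k] (p : ℕ) [Fact p.Prime] [CharP k p]
variable {A : Type u} [CommRing A] [Algebra k A]

/-- If the `p`-th powers of some basis of `A/k` are linearly independent, `A/k` is geometrically
reduced. (helper7's MacLane lemma, for algebras) -/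
theorem isGeometricallyReduced_of_basis_pow {ι' : Type*} (b : Module.Basis ι' k A)
    (hb : LinearIndependent k (fun i => b i ^ p)) : Algebra.IsGeometricallyReduced k A := by
  classical
  rw [Algebra.isGeometricallyReduced_field_iff]
  have hp : p.Prime := Fact.out
  rw [isReduced_iff_pow_one_lt p hp.one_lt]
  intro z hz
  let L := AlgebraicClosure k
  let T := L ⊗[k] A
  have hpT : (p : T) = 0 := by
    have h1 : algebraMap k T (p : k) = 0 := by rw [CharP.cast_eq_zero k p, map_zero]
    rwa [map_natCast] at h1
  let B := Algebra.TensorProduct.basis L b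
  have hzrepr : z = ∑ i ∈ (B.repr z).support, (B.repr z i) ⊗ₜ[k] b i := by
    conv_lhs => rw [← B.linearCombination_repr z]
    rw [Finsupp.linearCombination_apply, Finsupp.sum]
    refine Finset.sum_congr rfl fun i _ => ?_
    rw [Algebra.TensorProduct.basis_repr_symm_apply']
  rw [hzrepr, sum_pow_char' p hpT] at hz
  have h2 : ∀ i ∈ (B.repr z).support, ((B.repr z i) ⊗ₜ[k] b i : T) ^ p =
      (B.repr z i ^ p) • ((1 : L) ⊗ₜ[k] (b i ^ p)) := by
    intro i _
    rw [Algebra.TensorProduct.tmul_pow, TensorProduct.smul_tmul', smul_eq_mul, mul_one]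
  rw [Finset.sum_congr rfl h2] at hz
  have hli : LinearIndependent L (fun i => (1 : L) ⊗ₜ[k] (b i ^ p)) :=
    Module.Flat.linearIndependent_one_tmul hb
  have h3 := linearIndependent_iff'.1 hli _ _ hz
  have h4 : B.repr z = 0 := by
    ext i
    by_cases hi : i ∈ (B.repr z).support
    · exact (pow_eq_zero_iff hp.ne_zero).1 (h3 i hi)
    · simpa using hi
  exact B.repr.map_eq_zero_iff.1 h4

/-- If the Frobenius twist `A ⊗_{k,F} k` is reduced, then `A` is geometrically reduced. -/
theorem isGeometricallyReduced_of_isReduced_frobAlg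
    (h : IsReduced (FrobAlg k p ⊗[k] A)) : Algebra.IsGeometricallyReduced k A := by
  classical
  have hp : p.Prime := Fact.out
  let b := Module.Basis.ofVectorSpace k A
  apply isGeometricallyReduced_of_basis_pow p b
  rw [linearIndependent_iff']
  intro s g hg i hi
  let F := FrobAlg k p
  let T := F ⊗[k] A
  have hpT : (p : T) = 0 := by
    have h1 : algebraMap k T (p : k) = 0 := by rw [CharP.cast_eq_zero k p, map_zero]
    rwa [map_natCast] at h1
  let y : T := ∑ j ∈ s, (FrobAlg.of k p (g j)) ⊗ₜ[k] (b j : A)
  have hy : y ^ p = 0 := by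
    rw [sum_pow_char' p hpT]
    have h2 : ∀ j ∈ s, ((FrobAlg.of k p (g j)) ⊗ₜ[k] (b j : A) : T) ^ p =
        (1 : F) ⊗ₜ[k] (g j • b j ^ p) := by
      intro j _
      rw [Algebra.TensorProduct.tmul_pow, FrobAlg.of_pow, TensorProduct.smul_tmul]
    rw [Finset.sum_congr rfl h2, ← TensorProduct.tmul_sum, hg, TensorProduct.tmul_zero]
  have hy0 : y = 0 := (isReduced_iff_pow_one_lt p hp.one_lt).1 h y hy
  let B := Algebra.TensorProduct.basis F b
  have h5 : ∑ j ∈ s, (FrobAlg.of k p (g j)) • B j = 0 := by
    rw [← hy0]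
    refine Finset.sum_congr rfl fun j _ => ?_
    rw [Algebra.TensorProduct.basis_apply, TensorProduct.smul_tmul', smul_eq_mul, mul_one]
  have h6 := linearIndependent_iff'.1 B.linearIndependent s (fun j => FrobAlg.of k p (g j)) h5 i hi
  exact (FrobAlg.of k p).injective (h6.trans (map_zero _).symm)

end

end Groth.Agent.Lib.Helper11FrobRed
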