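import Mathlib

namespace Groth.Agent.Lib.Helper11GaSplit

open MvPolynomial

variable {R : Type*} [CommRing R]

/-- unit map of a ring hom -/
noncomputable def um {A B : Type*} [CommRing A] [CommRing B] (φ : A →+* B) : Aˣ →* Bˣ :=
  Units.map (φ : A →* B)

@[simp] theorem um_val {A B : Type*} [CommRing A] [CommRing B] (φ : A →+* B) (u : Aˣ) :
    ((um φ u : Bˣ) : B) = φ u := rfl

theorem um_comp {A B C : Type*} [CommRing A] [CommRing B] [CommRing C] (φ : A →+* B)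
    (ψ : B →+* C) (u : Aˣ) : um ψ (um φ u) = um (ψ.comp φ) u := rfl

/-- substitution `(X₀,X₁) ↦ (a,b)` as a ring hom -/
noncomputable def sb {n : ℕ} (a b : MvPolynomial (Fin n) R) :
    MvPolynomial (Fin 2) R →+* MvPolynomial (Fin n) R :=
  (aeval ![a, b] : MvPolynomial (Fin 2) R →ₐ[R] MvPolynomial (Fin n) R).toRingHom

theorem sb_apply {n : ℕ} (a b : MvPolynomial (Fin n) R) (F : MvPolynomial (Fin 2) R) :
    sb a b F = aeval ![a, b] F := rfl

/-- evaluation of a one-variable polynomial at `x` as a ring hom -/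
noncomputable def pa {n : ℕ} (x : MvPolynomial (Fin n) R) :
    Polynomial R →+* MvPolynomial (Fin n) R :=
  (Polynomial.aeval x : Polynomial R →ₐ[R] MvPolynomial (Fin n) R).toRingHom

theorem pa_apply {n : ℕ} (x : MvPolynomial (Fin n) R) (f : Polynomial R) :
    pa x f = Polynomial.aeval x f := rfl

theorem sb_pa {n : ℕ} (a b : MvPolynomial (Fin n) R) (x : MvPolynomial (Fin 2) R) :
    (sb a b).comp (pa x) = pa (sb a b x) := by
  ext f
  · simp [sb, pa]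
  · simp [sb, pa]

/-- the cocycle subgroup -/
noncomputable def Zg (R : Type*) [CommRing R] : Subgroup (MvPolynomial (Fin 2) R)ˣ where
  carrier := {u | um (sb (X 0 : MvPolynomial (Fin 2) R) 0) u = 1 ∧ um (sb (X 1) (X 0)) u = u ∧
    um (sb (X 1 : MvPolynomial (Fin 3) R) (X 2)) u * um (sb (X 0) (X 1 + X 2)) u =
      um (sb (X 0 + X 1) (X 2)) u * um (sb (X 0) (X 1)) u}
  mul_mem' := by
    rintro a b ⟨ha1, ha2, ha3⟩ ⟨hb1, hb2, hb3⟩
    refine ⟨by rw [map_mul, ha1, hb1, one_mul], by rw [map_mul, ha2, hb2], ?_⟩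
    simp only [map_mul]
    rw [mul_mul_mul_comm, ha3, hb3, mul_mul_mul_comm]
  one_mem' := by
    refine ⟨map_one _, map_one _, ?_⟩
    simp only [map_one]
  inv_mem' := by
    rintro a ⟨ha1, ha2, ha3⟩
    refine ⟨by rw [map_inv, ha1, inv_one], by rw [map_inv, ha2], ?_⟩
    simp only [map_inv]
    rw [← mul_inv, ← mul_inv, ha3]

theorem mem_Zg_iff (u : (MvPolynomial (Fin 2) R)ˣ) :
    u ∈ Zg R ↔ (aeval ![(X 0 : MvPolynomial (Fin 2) R), 0] (u : MvPolynomial (Fin 2) R) = 1 ∧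
      aeval ![(X 1 : MvPolynomial (Fin 2) R), X 0] (u : MvPolynomial (Fin 2) R) = u ∧
      aeval ![(X 1 : MvPolynomial (Fin 3) R), X 2] (u : MvPolynomial (Fin 2) R) *
        aeval ![(X 0 : MvPolynomial (Fin 3) R), X 1 + X 2] (u : MvPolynomial (Fin 2) R) =
      aeval ![(X 0 + X 1 : MvPolynomial (Fin 3) R), X 2] (u : MvPolynomial (Fin 2) R) *
        aeval ![(X 0 : MvPolynomial (Fin 3) R), X 1] (u : MvPolynomial (Fin 2) R)) := by
  change (um (sb (X 0 : MvPolynomial (Fin 2) R) 0) u = 1 ∧ um (sb (X 1) (X 0)) u = u ∧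
    um (sb (X 1 : MvPolynomial (Fin 3) R) (X 2)) u * um (sb (X 0) (X 1 + X 2)) u =
      um (sb (X 0 + X 1) (X 2)) u * um (sb (X 0) (X 1)) u) ↔ _
  simp only [Units.ext_iff, Units.val_mul, um_val, sb_apply, Units.val_one]

/-- multiplicative coboundary -/
noncomputable def dl (R : Type*) [CommRing R] : (Polynomial R)ˣ →* (MvPolynomial (Fin 2) R)ˣ :=
  um (pa (X 0 + X 1)) * (um (pa (X 0)))⁻¹ * (um (pa (X 1)))⁻¹

theorem dl_apply (f : (Polynomial R)ˣ) :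
    dl R f = um (pa (X 0 + X 1)) f * (um (pa (X 0)) f)⁻¹ * (um (pa (X 1)) f)⁻¹ := rfl

theorem um_sb_dl {n : ℕ} (a b : MvPolynomial (Fin n) R) (f : (Polynomial R)ˣ) :
    um (sb a b) (dl R f) = um (pa (a + b)) f * (um (pa a) f)⁻¹ * (um (pa b) f)⁻¹ := by
  rw [dl_apply, map_mul, map_mul, map_inv, map_inv, um_comp, um_comp, um_comp, sb_pa, sb_pa, sb_pa]
  simp [sb_apply]

/-- polynomials with constant term one -/
noncomputable def N1 (R : Type*) [CommRing R] : Subgroup (Polynomial R)ˣ :=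
  (um (Polynomial.evalRingHom (0 : R))).ker

theorem mem_N1_iff (f : (Polynomial R)ˣ) : f ∈ N1 R ↔ (f : Polynomial R).eval 0 = 1 := by
  unfold N1
  rw [MonoidHom.mem_ker, Units.ext_iff]
  simp

/-- the coboundary subgroup -/
noncomputable def Bg (R : Type*) [CommRing R] : Subgroup (MvPolynomial (Fin 2) R)ˣ :=
  (N1 R).map (dl R)

theorem um_pa_zero {n : ℕ} (f : (Polynomial R)ˣ) (hf : f ∈ N1 R) :
    um (pa (0 : MvPolynomial (Fin n) R)) f = 1 := by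
  rw [mem_N1_iff] at hf
  ext1
  rw [um_val, pa_apply, Units.val_one, ← Polynomial.coeff_zero_eq_aeval_zero',
    Polynomial.coeff_zero_eq_eval_zero, hf, map_one]

theorem comm_group_aux {G : Type*} [CommGroup G] (A B Xx Y Z W : G) :
    (A * Y⁻¹ * Z⁻¹) * (W * Xx⁻¹ * A⁻¹) = (W * B⁻¹ * Z⁻¹) * (B * Xx⁻¹ * Y⁻¹) := by
  have h1 : (A * Y⁻¹ * Z⁻¹) * (W * Xx⁻¹ * A⁻¹) = (A * A⁻¹) * (W * Xx⁻¹ * Y⁻¹ * Z⁻¹) := by ac_rfl
  have h2 : (W * B⁻¹ * Z⁻¹) * (B * Xx⁻¹ * Y⁻¹) = (B * B⁻¹) * (W * Xx⁻¹ * Y⁻¹ * Z⁻¹) := by ac_rfl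
  rw [h1, h2, mul_inv_cancel, mul_inv_cancel]

theorem Bg_le_Zg : Bg R ≤ Zg R := by
  rintro _ ⟨f, hf, rfl⟩
  refine ⟨?_, ?_, ?_⟩
  · rw [um_sb_dl, add_zero, um_pa_zero f hf, mul_inv_cancel, inv_one, mul_one]
  · rw [um_sb_dl, dl_apply, add_comm (X 1 : MvPolynomial (Fin 2) R) (X 0)]
    rw [mul_assoc, mul_assoc, mul_comm (um (pa (X 1)) f)⁻¹]
  · rw [um_sb_dl, um_sb_dl, um_sb_dl, um_sb_dl, ← add_assoc]
    exact comm_group_aux _ _ _ _ _ _

end Groth.Agent.Lib.Helper11GaSplit
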