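import Mathlib

namespace Groth.Agent.Lib.Helper11Lazard

open Finset

variable {R : Type*} [CommRing R]

/-- Abstract symmetric 2-cocycle coefficient data. -/
structure IsCoc (c : ℕ → ℕ → R) : Prop where
  symm : ∀ a b, c a b = c b a
  coc : ∀ i j l, c i (j + l) * ((j + l).choose j : R) + (if i = 0 then c j l else 0)
        = c (i + j) l * ((i + j).choose i : R) + (if l = 0 then c i j else 0)

theorem IsCoc.zero_left {c : ℕ → ℕ → R} (h : IsCoc c) {l : ℕ} (hl : 1 ≤ l) : c 0 l = 0 := by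
  have := h.coc 0 0 l
  have hl0 : l ≠ 0 := by omega
  simpa [hl0] using this

theorem IsCoc.zero_right {c : ℕ → ℕ → R} (h : IsCoc c) {l : ℕ} (hl : 1 ≤ l) : c l 0 = 0 := by
  rw [h.symm]; exact h.zero_left hl

theorem IsCoc.main {c : ℕ → ℕ → R} (h : IsCoc c) {i l : ℕ} (j : ℕ) (hi : 1 ≤ i) (hl : 1 ≤ l) :
    c i (j + l) * ((j + l).choose j : R) = c (i + j) l * ((i + j).choose i : R) := by
  have := h.coc i j l
  have hl0 : l ≠ 0 := by omega
  have hi0 : i ≠ 0 := by omega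
  simpa [hl0, hi0] using this

theorem IsCoc.factA {c : ℕ → ℕ → R} (h : IsCoc c) {a l : ℕ} (ha : 1 ≤ a) (hl : 1 ≤ l) :
    (a : R) * c a l = c 1 (a - 1 + l) * ((a - 1 + l).choose (a - 1) : R) := by
  have := h.main (i := 1) (l := l) (a - 1) le_rfl hl
  rw [this]
  have e : 1 + (a - 1) = a := by omega
  rw [e, Nat.choose_one_right]; ring

/-- coefficients of `(X+Y)^n - X^n - Y^n` -/
def cB (n a b : ℕ) : R := if 0 < a ∧ 0 < b ∧ a + b = n then ((n.choose a : ℕ) : R) else 0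

/-- coefficients of `S(X^q, Y^q)`, `S = ((X+Y)^p - X^p - Y^p)/p`. -/
def cS (p q a b : ℕ) : R :=
  if q ∣ a ∧ 0 < a / q ∧ a / q < p ∧ b = (p - a / q) * q then
    (((p.choose (a / q)) / p : ℕ) : R) else 0

variable (p : ℕ) [hp : Fact p.Prime] [CharP R p]

theorem cast_eq_of_modEq {a b : ℕ} (h : a ≡ b [MOD p]) : (a : R) = (b : R) :=
  (CharP.natCast_eq_natCast R p).mpr h

theorem isUnit_cast_of_not_dvd {a : ℕ} (h : ¬ p ∣ a) : IsUnit (a : R) := by
  rw [CharP.isUnit_natCast_iff (p := p) hp.out]; exact h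

theorem cast_eq_zero_of_dvd {a : ℕ} (h : p ∣ a) : (a : R) = 0 :=
  (CharP.cast_eq_zero_iff R p a).mpr h

theorem cB_mul (n a b : ℕ) : (cB (p * n) (p * a) (p * b) : R) = cB n a b := by
  have hp0 : 0 < p := hp.out.pos
  unfold cB
  have e1 : (0 < p * a ∧ 0 < p * b ∧ p * a + p * b = p * n) ↔ (0 < a ∧ 0 < b ∧ a + b = n) := by
    rw [← Nat.mul_add, Nat.mul_right_inj hp0.ne']
    constructor
    · rintro ⟨h1, h2, h3⟩
      exact ⟨Nat.pos_of_mul_pos_left h1 |> fun _ => by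
        rcases Nat.eq_zero_or_pos a with h | h
        · simp [h] at h1
        · exact h, by
        rcases Nat.eq_zero_or_pos b with h | h
        · simp [h] at h2
        · exact h, h3⟩
    · rintro ⟨h1, h2, h3⟩
      exact ⟨Nat.mul_pos hp0 h1, Nat.mul_pos hp0 h2, h3⟩
  rw [if_congr e1 rfl rfl]
  split_ifs
  · exact cast_eq_of_modEq p Choose.choose_mul_mul_modEq_choose_nat
  · rfl

theorem cS_mul (j a b : ℕ) : (cS p (p ^ (j + 1)) (p * a) (p * b) : R) = cS p (p ^ j) a b := by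
  have hp0 : 0 < p := hp.out.pos
  unfold cS
  have hq : p ^ (j + 1) = p * p ^ j := pow_succ' p j
  have e0 : p * a / p ^ (j + 1) = a / p ^ j := by
    rw [hq, Nat.mul_div_mul_left _ _ hp0]
  have e1 : (p ^ (j + 1) ∣ p * a) ↔ (p ^ j ∣ a) := by
    rw [hq, Nat.mul_dvd_mul_iff_left hp0]
  have e2 : (p * b = (p - a / p ^ j) * p ^ (j + 1)) ↔ (b = (p - a / p ^ j) * p ^ j) := by
    rw [hq]
    constructor
    · intro h
      have : p * b = p * ((p - a / p ^ j) * p ^ j) := by rw [h]; ring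
      exact Nat.eq_of_mul_eq_mul_left hp0 this
    · intro h; rw [h]; ring
  rw [e0]
  rw [if_congr (and_congr e1 (and_congr Iff.rfl (and_congr Iff.rfl e2))) rfl rfl]

end Groth.Agent.Lib.Helper11Lazard
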