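import Mathlib
import Groth.Agent.Lib.Helper11LazardA

namespace Groth.Agent.Lib.Helper11Lazard

open Finset

variable {R : Type*} [CommRing R]
variable (p : ℕ) [hp : Fact p.Prime] [CharP R p]

theorem IsCoc.scale {c : ℕ → ℕ → R} (h : IsCoc c) : IsCoc (fun a b => c (p * a) (p * b)) := by
  have hp0 : 0 < p := hp.out.pos
  constructor
  · intro a b; exact h.symm _ _
  · intro i j l
    have := h.coc (p * i) (p * j) (p * l)
    have e1 : ((p * j + p * l).choose (p * j) : R) = ((j + l).choose j : ℕ) := by
      rw [← Nat.mul_add]
      exact cast_eq_of_modEq p Choose.choose_mul_mul_modEq_choose_nat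
    have e2 : ((p * i + p * j).choose (p * i) : R) = ((i + j).choose i : ℕ) := by
      rw [← Nat.mul_add]
      exact cast_eq_of_modEq p Choose.choose_mul_mul_modEq_choose_nat
    have e3 : (p * i = 0) ↔ i = 0 := by
      constructor
      · intro h; rcases Nat.mul_eq_zero.mp h with h | h
        · omega
        · exact h
      · intro h; simp [h]
    have e4 : (p * l = 0) ↔ l = 0 := by
      constructor
      · intro h; rcases Nat.mul_eq_zero.mp h with h | h
        · omega
        · exact h
      · intro h; simp [h]
    rw [e1, e2, if_congr e3 rfl rfl, if_congr e4 rfl rfl, ← Nat.mul_add, ← Nat.mul_add] at this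
    exact this

theorem choose_pred_mul (n a : ℕ) (ha : 1 ≤ a) (han : a ≤ n) :
    a * n.choose a = n * (n - 1).choose (a - 1) := by
  obtain ⟨a, rfl⟩ : ∃ a', a = a' + 1 := ⟨a - 1, by omega⟩
  obtain ⟨n, rfl⟩ : ∃ n', n = n' + 1 := ⟨n - 1, by omega⟩
  simp only [Nat.add_sub_cancel]
  have := Nat.add_one_mul_choose_eq n a
  linarith

theorem cls (J : Ideal R) : ∀ (n : ℕ), 1 ≤ n → ∀ (c : ℕ → ℕ → R), IsCoc c → (∀ a b, c a b ∈ J) →
    ∃ g ∈ J, ∃ r ∈ J, ∃ j < n, (r = 0 ∨ n = p ^ (j + 1)) ∧ ∀ a b, a + b = n →
      c a b = g * cB n a b + r * cS p (p ^ j) a b := by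
  have hp0 : 0 < p := hp.out.pos
  have hp2 : 2 ≤ p := hp.out.two_le
  intro n
  induction n using Nat.strong_induction_on with
  | _ n ih =>
  intro hn c hc hJ
  rcases Nat.lt_or_ge n 2 with hn2 | hn2
  · -- n = 1
    have hn1 : n = 1 := by omega
    subst hn1
    refine ⟨0, J.zero_mem, 0, J.zero_mem, 0, by omega, Or.inl rfl, ?_⟩
    intro a b hab
    have : (a = 0 ∧ b = 1) ∨ (a = 1 ∧ b = 0) := by omega
    rcases this with ⟨rfl, rfl⟩ | ⟨rfl, rfl⟩
    · simp [hc.zero_left le_rfl]
    · simp [hc.zero_right le_rfl]
  set γ : R := c 1 (n - 1) with hγ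
  have factA : ∀ a l, 1 ≤ a → 1 ≤ l → a + l = n →
      (a : R) * c a l = γ * (((n - 1).choose (a - 1) : ℕ) : R) := by
    intro a l ha hl hal
    have := hc.factA ha hl
    have e : a - 1 + l = n - 1 := by omega
    rw [e] at this
    exact this
  by_cases hpn : p ∣ n
  · by_cases hnp : n = p
    · -- n = p
      subst hnp
      refine ⟨0, J.zero_mem, γ, hJ _ _, 0, by omega, Or.inr (by simp), ?_⟩
      intro a b hab
      rw [zero_mul, zero_add, pow_zero]
      unfold cS
      simp only [one_dvd, Nat.div_one, mul_one, true_and]
      rcases Nat.eq_zero_or_pos a with ha | ha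
      · subst ha
        have hb : b = n := by omega
        subst hb
        simp [hc.zero_left hn]
      rcases Nat.eq_zero_or_pos b with hb | hb
      · subst hb
        have ha' : a = n := by omega
        subst ha'
        simp [hc.zero_right hn]
      have hcond : 0 < a ∧ a < n ∧ b = n - a := ⟨ha, by omega, by omega⟩
      rw [if_pos hcond]
      have hA := factA a b ha hb hab
      have hau : IsUnit (a : R) := isUnit_cast_of_not_dvd n (fun h => by
        have := Nat.le_of_dvd ha h; omega)
      have hdiv : n ∣ n.choose a := hp.out.dvd_choose_self (by omega) (by omega)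
      have hnat : (n - 1).choose (a - 1) = a * (n.choose a / n) := by
        have h1 := choose_pred_mul n a ha (by omega)
        obtain ⟨q, hq⟩ := hdiv
        rw [hq, Nat.mul_div_cancel_left _ hp0]
        rw [hq] at h1
        have : n * (a * q) = n * (n - 1).choose (a - 1) := by rw [← h1]; ring
        exact (Nat.eq_of_mul_eq_mul_left hp0 this).symm
      rw [hnat, Nat.cast_mul] at hA
      apply hau.mul_left_cancel
      rw [hA]; ring
    · -- n = p * n', n' ≥ 2
      obtain ⟨n', rfl⟩ := hpn
      have hn' : 2 ≤ n' := by
        rcases Nat.lt_or_ge n' 2 with h | h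
        · interval_cases n'
          · omega
          · exact absurd (mul_one p) hnp
        · exact h
      have hγ0 : γ = 0 := by
        have hl : 1 ≤ p * n' - p := by
          have : p * 2 ≤ p * n' := Nat.mul_le_mul_left p hn'
          omega
        have hA := factA p (p * n' - p) (by omega) hl (by
          have : p * 2 ≤ p * n' := Nat.mul_le_mul_left p hn'
          omega)
        rw [cast_eq_zero_of_dvd p (dvd_refl p), zero_mul] at hA
        have hL : (p * n' - 1).choose (p - 1) ≡ 1 [MOD p] := by
          have h := @Choose.choose_modEq_choose_mod_mul_choose_div_nat (p * n' - 1) (p - 1) p _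
          have e1 : (p * n' - 1) % p = p - 1 := by
            have : p * n' - 1 = (p - 1) + p * (n' - 1) := by
              have : p * n' = p * (n' - 1) + p := by
                rw [← Nat.mul_succ]; congr 1; omega
              omega
            rw [this, Nat.add_mul_mod_self_left, Nat.mod_eq_of_lt (by omega)]
          have e2 : (p - 1) % p = p - 1 := Nat.mod_eq_of_lt (by omega)
          have e3 : (p - 1) / p = 0 := Nat.div_eq_of_lt (by omega)
          rw [e1, e2, e3, Nat.choose_self, Nat.choose_zero_right] at h
          simpa using h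
        have := cast_eq_of_modEq (R := R) p hL
        rw [this, Nat.cast_one, mul_one] at hA
        exact hA.symm
      have hzero : ∀ a l, a + l = p * n' → ¬ p ∣ a → c a l = 0 := by
        intro a l hal hna
        have ha : 1 ≤ a := by
          rcases Nat.eq_zero_or_pos a with h | h
          · subst h; exact absurd (dvd_zero p) hna
          · exact h
        have hl : 1 ≤ l := by
          rcases Nat.eq_zero_or_pos l with h | h
          · subst h; exfalso; apply hna; rw [Nat.add_zero] at hal; rw [hal]; exact dvd_mul_right _ _
          · exact h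
        have hA := factA a l ha hl hal
        rw [hγ0, zero_mul] at hA
        exact (isUnit_cast_of_not_dvd p hna).mul_left_cancel (by rw [hA, mul_zero])
      have hlt : n' < p * n' := by nlinarith
      obtain ⟨g, hg, r, hr, j, hj, hrj, hcl⟩ := ih n' hlt (by omega) (fun a b => c (p * a) (p * b))
        (hc.scale p) (fun a b => hJ _ _)
      refine ⟨g, hg, r, hr, j + 1, by omega, ?_, ?_⟩
      · rcases hrj with h | h
        · exact Or.inl h
        · right; rw [h]; ring
      intro a b hab
      by_cases hpa : p ∣ a
      · obtain ⟨a', rfl⟩ := hpa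
        have hpb : p ∣ b := by
          have : p ∣ p * a' + b := by rw [hab]; exact dvd_mul_right _ _
          exact (Nat.dvd_add_right (dvd_mul_right _ _)).mp this
        obtain ⟨b', rfl⟩ := hpb
        have hab' : a' + b' = n' := by
          rw [← Nat.mul_add] at hab
          exact Nat.eq_of_mul_eq_mul_left hp0 hab
        have := hcl a' b' hab'
        rw [this, cB_mul, cS_mul]
      · rw [hzero a b hab hpa]
        have hB : (cB (p * n') a b : R) = 0 := by
          unfold cB
          split_ifs with hcond
          · have h1 := choose_pred_mul (p * n') a hcond.1 (by omega)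
            have h2 : ((a : ℕ) : R) * (((p * n').choose a : ℕ) : R) = 0 := by
              rw [← Nat.cast_mul, h1, Nat.cast_mul, cast_eq_zero_of_dvd p (dvd_mul_right p n'), zero_mul]
            exact (isUnit_cast_of_not_dvd p hpa).mul_left_cancel (by rw [h2, mul_zero])
          · rfl
        have hS : (cS p (p ^ (j + 1)) a b : R) = 0 := by
          unfold cS
          rw [if_neg]
          rintro ⟨h1, -⟩
          exact hpa (dvd_trans (dvd_pow_self p (by omega)) h1)
        rw [hB, hS]; ring
  · -- p ∤ n
    obtain ⟨u, hu⟩ := (isUnit_cast_of_not_dvd (R := R) p hpn).exists_right_inv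
    refine ⟨γ * u, J.mul_mem_right _ (hJ _ _), 0, J.zero_mem, 0, by omega, Or.inl rfl, ?_⟩
    intro a b hab
    rw [zero_mul, add_zero]
    have key : ∀ a b, 1 ≤ a → 1 ≤ b → a + b = n → ¬ p ∣ a →
        c a b = γ * u * ((n.choose a : ℕ) : R) := by
      intro a b ha hb hab hna
      have hA := factA a b ha hb hab
      have h1 := choose_pred_mul n a ha (by omega)
      apply (isUnit_cast_of_not_dvd p hna).mul_left_cancel
      rw [hA]
      have : (a : R) * (γ * u * ((n.choose a : ℕ) : R)) = γ * u * ((a * n.choose a : ℕ) : R) := by
        rw [Nat.cast_mul]; ring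
      rw [this, h1, Nat.cast_mul]
      calc γ * (((n - 1).choose (a - 1) : ℕ) : R)
          = γ * ((n : R) * u) * (((n - 1).choose (a - 1) : ℕ) : R) := by rw [hu, mul_one]
        _ = _ := by ring
    unfold cB
    rcases Nat.eq_zero_or_pos a with ha | ha
    · subst ha
      have hb : b = n := by omega
      subst hb
      simp [hc.zero_left hn]
    rcases Nat.eq_zero_or_pos b with hb | hb
    · subst hb
      have ha' : a = n := by omega
      subst ha'
      simp [hc.zero_right hn]
    rw [if_pos ⟨ha, hb, hab⟩]
    by_cases hpa : p ∣ a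
    · have hpb : ¬ p ∣ b := by
        intro h
        apply hpn
        rw [← hab]; exact dvd_add hpa h
      rw [hc.symm a b, key b a hb ha (by omega) hpb]
      congr 2
      exact Nat.choose_symm_of_eq_add (by omega)
    · exact key a b ha hb hab hpa

end Groth.Agent.Lib.Helper11Lazard
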