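import Mathlib
import Groth.Agent.Lib.Helper11LazardB

namespace Groth.Agent.Lib.Helper11Lazard

open Finset MvPolynomial

variable {R : Type*} [CommRing R]

/-- exponent vector `(a,b)` -/
noncomputable def e2 (a b : ℕ) : Fin 2 →₀ ℕ := Finsupp.single 0 a + Finsupp.single 1 b
/-- exponent vector `(a,b,c)` -/
noncomputable def e3 (a b c : ℕ) : Fin 3 →₀ ℕ :=
  Finsupp.single 0 a + Finsupp.single 1 b + Finsupp.single 2 c

@[simp] theorem e2_zero (a b : ℕ) : e2 a b 0 = a := by simp [e2]
@[simp] theorem e2_one (a b : ℕ) : e2 a b 1 = b := by simp [e2]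
@[simp] theorem e3_zero (a b c : ℕ) : e3 a b c 0 = a := by simp [e3]
@[simp] theorem e3_one (a b c : ℕ) : e3 a b c 1 = b := by simp [e3]
@[simp] theorem e3_two (a b c : ℕ) : e3 a b c 2 = c := by simp [e3]

theorem e2_eta (m : Fin 2 →₀ ℕ) : m = e2 (m 0) (m 1) := by
  ext i; fin_cases i <;> simp

theorem e3_eta (m : Fin 3 →₀ ℕ) : m = e3 (m 0) (m 1) (m 2) := by
  ext i; fin_cases i <;> simp

theorem e2_inj {a b a' b' : ℕ} : e2 a b = e2 a' b' ↔ a = a' ∧ b = b' := by
  constructor
  · intro h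
    have h0 := DFunLike.congr_fun h 0
    have h1 := DFunLike.congr_fun h 1
    simp at h0 h1
    exact ⟨h0, h1⟩
  · rintro ⟨rfl, rfl⟩; rfl

theorem e3_inj {a b c a' b' c' : ℕ} : e3 a b c = e3 a' b' c' ↔ a = a' ∧ b = b' ∧ c = c' := by
  constructor
  · intro h
    have h0 := DFunLike.congr_fun h 0
    have h1 := DFunLike.congr_fun h 1
    have h2 := DFunLike.congr_fun h 2
    simp at h0 h1 h2
    exact ⟨h0, h1, h2⟩
  · rintro ⟨rfl, rfl, rfl⟩; rfl

/-- coefficient function of a polynomial in two variables -/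
noncomputable def cf (F : MvPolynomial (Fin 2) R) (a b : ℕ) : R := coeff (e2 a b) F

theorem mon2 (a b : ℕ) (r : R) :
    (monomial (e2 a b) r : MvPolynomial (Fin 2) R) = C r * X 0 ^ a * X 1 ^ b := by
  rw [X_pow_eq_monomial, X_pow_eq_monomial, C_apply, monomial_mul, monomial_mul]
  simp [e2]

theorem mon3 (a b c : ℕ) (r : R) :
    (monomial (e3 a b c) r : MvPolynomial (Fin 3) R) = C r * X 0 ^ a * X 1 ^ b * X 2 ^ c := by
  rw [X_pow_eq_monomial, X_pow_eq_monomial, X_pow_eq_monomial, C_apply, monomial_mul,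
    monomial_mul, monomial_mul]
  simp [e3]

theorem aeval_mon2 {A : Type*} [CommRing A] [Algebra R A] (v : Fin 2 → A) (a b : ℕ) (r : R) :
    aeval v (monomial (e2 a b) r) = algebraMap R A r * v 0 ^ a * v 1 ^ b := by
  rw [mon2]; simp

theorem sum_ite_and' (s : Finset ℕ) (i : ℕ) (Q : Prop) [Decidable Q] (f : ℕ → R) :
    (∑ t ∈ s, if t = i ∧ Q then f t else 0) = if Q ∧ i ∈ s then f i else 0 := by
  by_cases hQ : Q
  · simp only [hQ, and_true, true_and]
    rw [Finset.sum_ite_eq' s i f]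
  · simp [hQ]

/-- binomial expansion into monomials -/
theorem add_pow_mon {σ : Type*} [DecidableEq σ] (u w : σ) (n : ℕ) :
    ((X u + X w : MvPolynomial σ R)) ^ n =
      ∑ t ∈ range (n + 1),
        monomial (Finsupp.single u t + Finsupp.single w (n - t)) ((n.choose t : ℕ) : R) := by
  rw [add_pow]
  apply Finset.sum_congr rfl
  intro t _
  rw [X_pow_eq_monomial, X_pow_eq_monomial, monomial_mul]
  have : ((n.choose t : ℕ) : MvPolynomial σ R) = monomial 0 ((n.choose t : ℕ) : R) := by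
    rw [← C_apply]; simp
  rw [this, monomial_mul]; simp

/-- the coefficient transfer principle for `aeval` of a two-variable polynomial -/
theorem coeff_aeval_of_mon {σ : Type*} (v : Fin 2 → MvPolynomial σ R) (m' : σ →₀ ℕ)
    (a0 b0 : ℕ) (k : R)
    (h : ∀ a b, coeff m' (v 0 ^ a * v 1 ^ b) = if a = a0 ∧ b = b0 then k else 0)
    (F : MvPolynomial (Fin 2) R) :
    coeff m' (aeval v F) = cf F a0 b0 * k := by
  induction F using MvPolynomial.induction_on' with
  | monomial u r =>
    rw [e2_eta u, aeval_mon2, mul_assoc, algebraMap_eq, coeff_C_mul, h]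
    unfold cf
    classical
    rw [coeff_monomial]
    simp only [e2_inj]
    split_ifs <;> simp
  | add p q hp hq =>
    unfold cf at *
    rw [map_add, coeff_add, hp, hq, coeff_add, add_mul]

theorem coeff_aeval_of_mon_zero {σ : Type*} (v : Fin 2 → MvPolynomial σ R) (m' : σ →₀ ℕ)
    (h : ∀ a b, coeff m' (v 0 ^ a * v 1 ^ b) = 0)
    (F : MvPolynomial (Fin 2) R) :
    coeff m' (aeval v F) = 0 := by
  have := coeff_aeval_of_mon v m' 0 0 (0 : R) (by intro a b; rw [h]; simp) F
  rw [this, mul_zero]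

end Groth.Agent.Lib.Helper11Lazard
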