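import Mathlib
import Groth.Agent.Lib.Helper11LazardC

namespace Groth.Agent.Lib.Helper11Lazard

open Finset MvPolynomial

variable {R : Type*} [CommRing R]

theorem coeff_e2_mon (a b x y : ℕ) :
    coeff (e2 a b) ((X 0 : MvPolynomial (Fin 2) R) ^ x * X 1 ^ y) =
      if x = a ∧ y = b then 1 else 0 := by
  have : (X 0 : MvPolynomial (Fin 2) R) ^ x * X 1 ^ y = monomial (e2 x y) 1 := by
    rw [mon2]; simp
  classical
  rw [this, coeff_monomial]
  simp only [e2_inj]

theorem coeff_e2_mon' (a b x y : ℕ) :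
    coeff (e2 a b) ((X 1 : MvPolynomial (Fin 2) R) ^ x * X 0 ^ y) =
      if x = b ∧ y = a then 1 else 0 := by
  rw [mul_comm, coeff_e2_mon]
  simp only [and_comm]

theorem coeff_e3_mon (i j l x y z : ℕ) :
    coeff (e3 i j l) ((X 0 : MvPolynomial (Fin 3) R) ^ x * X 1 ^ y * X 2 ^ z) =
      if x = i ∧ y = j ∧ z = l then 1 else 0 := by
  have : (X 0 : MvPolynomial (Fin 3) R) ^ x * X 1 ^ y * X 2 ^ z = monomial (e3 x y z) 1 := by
    rw [mon3]; simp
  classical
  rw [this, coeff_monomial]
  simp only [e3_inj]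

/-- coefficient of `(X₀+X₁)^n` -/
theorem coeff_e2_add_pow (a b n : ℕ) :
    coeff (e2 a b) ((X 0 + X 1 : MvPolynomial (Fin 2) R) ^ n) =
      if n = a + b then ((n.choose a : ℕ) : R) else 0 := by
  classical
  rw [add_pow_mon, coeff_sum]
  have : ∀ t ∈ range (n + 1),
      coeff (e2 a b) (monomial (Finsupp.single (0 : Fin 2) t + Finsupp.single 1 (n - t))
        ((n.choose t : ℕ) : R)) = if t = a ∧ n = a + b then ((n.choose t : ℕ) : R) else 0 := by
    intro t ht
    rw [coeff_monomial]
    have : (Finsupp.single (0 : Fin 2) t + Finsupp.single 1 (n - t)) = e2 t (n - t) := rfl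
    rw [this]
    simp only [e2_inj]
    have ht' : t ≤ n := by simp at ht; omega
    apply if_congr _ rfl rfl
    constructor
    · rintro ⟨rfl, h⟩; exact ⟨rfl, by omega⟩
    · rintro ⟨rfl, h⟩; exact ⟨rfl, by omega⟩
  rw [Finset.sum_congr rfl this, sum_ite_and']
  apply if_congr _ rfl rfl
  constructor
  · rintro ⟨h, _⟩; exact h
  · intro h; exact ⟨h, by simp; omega⟩

/-- coefficient of `(X₀+X₁)^x X₂^y` -/
theorem coeff_e3_add01 (i j l x y : ℕ) :
    coeff (e3 i j l) ((X 0 + X 1 : MvPolynomial (Fin 3) R) ^ x * X 2 ^ y) =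
      if x = i + j ∧ y = l then (((i + j).choose i : ℕ) : R) else 0 := by
  classical
  rw [add_pow_mon, Finset.sum_mul, coeff_sum]
  have : ∀ t ∈ range (x + 1),
      coeff (e3 i j l) (monomial (Finsupp.single (0 : Fin 3) t + Finsupp.single 1 (x - t))
        ((x.choose t : ℕ) : R) * X 2 ^ y) =
        if t = i ∧ (x = i + j ∧ y = l) then ((x.choose t : ℕ) : R) else 0 := by
    intro t ht
    rw [X_pow_eq_monomial, monomial_mul, coeff_monomial, mul_one]
    have : (Finsupp.single (0 : Fin 3) t + Finsupp.single 1 (x - t) + Finsupp.single 2 y)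
        = e3 t (x - t) y := rfl
    rw [this]
    simp only [e3_inj]
    have ht' : t ≤ x := by simp at ht; omega
    apply if_congr _ rfl rfl
    constructor
    · rintro ⟨rfl, h, h'⟩; exact ⟨rfl, by omega, h'⟩
    · rintro ⟨rfl, h, h'⟩; exact ⟨rfl, by omega, h'⟩
  rw [Finset.sum_congr rfl this, sum_ite_and']
  by_cases h : x = i + j ∧ y = l
  · rw [if_pos h, if_pos ⟨h, by simp; omega⟩, h.1]
  · rw [if_neg h, if_neg (fun h' => h h'.1)]

/-- coefficient of `X₀^x (X₁+X₂)^y` -/
theorem coeff_e3_add12 (i j l x y : ℕ) :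
    coeff (e3 i j l) ((X 0 : MvPolynomial (Fin 3) R) ^ x * (X 1 + X 2) ^ y) =
      if x = i ∧ y = j + l then (((j + l).choose j : ℕ) : R) else 0 := by
  classical
  rw [add_pow_mon, Finset.mul_sum, coeff_sum]
  have : ∀ t ∈ range (y + 1),
      coeff (e3 i j l) ((X 0 : MvPolynomial (Fin 3) R) ^ x *
        monomial (Finsupp.single (1 : Fin 3) t + Finsupp.single 2 (y - t))
        ((y.choose t : ℕ) : R)) =
        if t = j ∧ (x = i ∧ y = j + l) then ((y.choose t : ℕ) : R) else 0 := by
    intro t ht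
    rw [X_pow_eq_monomial, monomial_mul, coeff_monomial, one_mul]
    have : (Finsupp.single (0 : Fin 3) x + (Finsupp.single 1 t + Finsupp.single 2 (y - t)))
        = e3 x t (y - t) := by
      unfold e3; rw [add_assoc]
    rw [this]
    simp only [e3_inj]
    have ht' : t ≤ y := by simp at ht; omega
    apply if_congr _ rfl rfl
    constructor
    · rintro ⟨rfl, rfl, h'⟩; exact ⟨rfl, rfl, by omega⟩
    · rintro ⟨rfl, rfl, h'⟩; exact ⟨rfl, rfl, by omega⟩
  rw [Finset.sum_congr rfl this, sum_ite_and']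
  by_cases h : x = i ∧ y = j + l
  · rw [if_pos h, if_pos ⟨h, by simp; omega⟩, h.2]
  · rw [if_neg h, if_neg (fun h' => h h'.1)]

theorem coeff_e3_12 (i j l x y : ℕ) :
    coeff (e3 i j l) ((X 1 : MvPolynomial (Fin 3) R) ^ x * X 2 ^ y) =
      if x = j ∧ y = l then (if i = 0 then 1 else 0) else 0 := by
  have := coeff_e3_mon (R := R) i j l 0 x y
  rw [pow_zero, one_mul] at this
  rw [this]
  by_cases hi : i = 0
  · subst hi; simp
  · have : ¬ (0 = i ∧ x = j ∧ y = l) := fun h => hi h.1.symm
    rw [if_neg this, if_neg hi]; simp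

theorem coeff_e3_01 (i j l x y : ℕ) :
    coeff (e3 i j l) ((X 0 : MvPolynomial (Fin 3) R) ^ x * X 1 ^ y) =
      if x = i ∧ y = j then (if l = 0 then 1 else 0) else 0 := by
  have := coeff_e3_mon (R := R) i j l x y 0
  rw [pow_zero, mul_one] at this
  rw [this]
  by_cases hl : l = 0
  · subst hl; simp
  · have : ¬ (x = i ∧ y = j ∧ 0 = l) := fun h => hl h.2.2.symm
    rw [if_neg this, if_neg hl]; simp

/-- the four terms of the cocycle identity, coefficientwise -/
theorem coeff_T1 (F : MvPolynomial (Fin 2) R) (i j l : ℕ) :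
    coeff (e3 i j l) (aeval ![(X 0 : MvPolynomial (Fin 3) R), X 1 + X 2] F) =
      cf F i (j + l) * (((j + l).choose j : ℕ) : R) := by
  apply coeff_aeval_of_mon
  intro a b
  simpa using coeff_e3_add12 (R := R) i j l a b

theorem coeff_T3 (F : MvPolynomial (Fin 2) R) (i j l : ℕ) :
    coeff (e3 i j l) (aeval ![(X 0 + X 1 : MvPolynomial (Fin 3) R), X 2] F) =
      cf F (i + j) l * (((i + j).choose i : ℕ) : R) := by
  apply coeff_aeval_of_mon
  intro a b
  simpa using coeff_e3_add01 (R := R) i j l a b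

theorem coeff_T2 (F : MvPolynomial (Fin 2) R) (i j l : ℕ) :
    coeff (e3 i j l) (aeval ![(X 1 : MvPolynomial (Fin 3) R), X 2] F) =
      if i = 0 then cf F j l else 0 := by
  by_cases hi : i = 0
  · rw [if_pos hi, ← mul_one (cf F j l)]
    apply coeff_aeval_of_mon
    intro a b
    simpa [hi] using coeff_e3_12 (R := R) i j l a b
  · rw [if_neg hi]
    apply coeff_aeval_of_mon_zero
    intro a b
    simpa [hi] using coeff_e3_12 (R := R) i j l a b

theorem coeff_T4 (F : MvPolynomial (Fin 2) R) (i j l : ℕ) :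
    coeff (e3 i j l) (aeval ![(X 0 : MvPolynomial (Fin 3) R), X 1] F) =
      if l = 0 then cf F i j else 0 := by
  by_cases hl : l = 0
  · rw [if_pos hl, ← mul_one (cf F i j)]
    apply coeff_aeval_of_mon
    intro a b
    simpa [hl] using coeff_e3_01 (R := R) i j l a b
  · rw [if_neg hl]
    apply coeff_aeval_of_mon_zero
    intro a b
    simpa [hl] using coeff_e3_01 (R := R) i j l a b

theorem coeff_swap (F : MvPolynomial (Fin 2) R) (a b : ℕ) :
    coeff (e2 a b) (aeval ![(X 1 : MvPolynomial (Fin 2) R), X 0] F) = cf F b a := by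
  rw [← mul_one (cf F b a)]
  apply coeff_aeval_of_mon
  intro x y
  simpa using coeff_e2_mon' (R := R) a b x y

/-- a symmetric 2-cocycle polynomial has cocycle coefficient data -/
theorem isCoc_of_poly (F : MvPolynomial (Fin 2) R)
    (hsym : aeval ![(X 1 : MvPolynomial (Fin 2) R), X 0] F = F)
    (hcoc : aeval ![(X 0 : MvPolynomial (Fin 3) R), X 1 + X 2] F
          + aeval ![(X 1 : MvPolynomial (Fin 3) R), X 2] F
          - aeval ![(X 0 + X 1 : MvPolynomial (Fin 3) R), X 2] F
          - aeval ![(X 0 : MvPolynomial (Fin 3) R), X 1] F = 0) :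
    IsCoc (cf F) := by
  constructor
  · intro a b
    have := coeff_swap F b a
    rw [hsym] at this
    exact this.symm
  · intro i j l
    have := congrArg (coeff (e3 i j l)) hcoc
    rw [coeff_sub, coeff_sub, coeff_add, coeff_T1, coeff_T2, coeff_T3, coeff_T4, coeff_zero] at this
    linear_combination this

end Groth.Agent.Lib.Helper11Lazard
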