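import Mathlib
import Groth.Agent.Lib.Helper11LazardD

namespace Groth.Agent.Lib.Helper11Lazard

open Finset MvPolynomial

variable {R : Type*} [CommRing R]

/-- the polynomial `S = ((X+Y)^p − X^p − Y^p)/p` -/
noncomputable def Sp (p : ℕ) (R : Type*) [CommRing R] : MvPolynomial (Fin 2) R :=
  ∑ j ∈ Finset.Ioo 0 p, C (((p.choose j / p : ℕ) : ℕ) : R) * X 0 ^ j * X 1 ^ (p - j)

/-- additive coboundary -/
noncomputable def dplus (G : Polynomial R) : MvPolynomial (Fin 2) R :=
  Polynomial.aeval (X 0 + X 1 : MvPolynomial (Fin 2) R) G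
    - Polynomial.aeval (X 0 : MvPolynomial (Fin 2) R) G
    - Polynomial.aeval (X 1 : MvPolynomial (Fin 2) R) G

theorem coeff_aeval_add (G : Polynomial R) (a b : ℕ) :
    coeff (e2 a b) (Polynomial.aeval (X 0 + X 1 : MvPolynomial (Fin 2) R) G) =
      G.coeff (a + b) * (((a + b).choose a : ℕ) : R) := by
  induction G using Polynomial.induction_on' with
  | add p q hp hq => rw [map_add, coeff_add, hp, hq, Polynomial.coeff_add, add_mul]
  | monomial n r =>
    rw [Polynomial.aeval_monomial, algebraMap_eq, coeff_C_mul, coeff_e2_add_pow,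
      Polynomial.coeff_monomial]
    by_cases h : n = a + b
    · rw [if_pos h, if_pos h, h]
    · rw [if_neg h, if_neg h]; simp

theorem coeff_aeval_X0 (G : Polynomial R) (a b : ℕ) :
    coeff (e2 a b) (Polynomial.aeval (X 0 : MvPolynomial (Fin 2) R) G) =
      if b = 0 then G.coeff a else 0 := by
  induction G using Polynomial.induction_on' with
  | add p q hp hq =>
    rw [map_add, coeff_add, hp, hq, Polynomial.coeff_add]
    split_ifs <;> simp
  | monomial n r =>
    have := coeff_e2_mon (R := R) a b n 0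
    rw [pow_zero, mul_one] at this
    rw [Polynomial.aeval_monomial, algebraMap_eq, coeff_C_mul, this, Polynomial.coeff_monomial]
    by_cases hb : b = 0
    · subst hb
      by_cases h : n = a
      · simp [h]
      · simp [h]
    · have : ¬ (n = a ∧ 0 = b) := fun h => hb h.2.symm
      rw [if_neg this, if_neg hb, mul_zero]

theorem coeff_aeval_X1 (G : Polynomial R) (a b : ℕ) :
    coeff (e2 a b) (Polynomial.aeval (X 1 : MvPolynomial (Fin 2) R) G) =
      if a = 0 then G.coeff b else 0 := by
  induction G using Polynomial.induction_on' with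
  | add p q hp hq =>
    rw [map_add, coeff_add, hp, hq, Polynomial.coeff_add]
    split_ifs <;> simp
  | monomial n r =>
    have := coeff_e2_mon (R := R) a b 0 n
    rw [pow_zero, one_mul] at this
    rw [Polynomial.aeval_monomial, algebraMap_eq, coeff_C_mul, this, Polynomial.coeff_monomial]
    by_cases ha : a = 0
    · subst ha
      by_cases h : n = b
      · simp [h]
      · simp [h]
    · have : ¬ (0 = a ∧ n = b) := fun h => ha h.1.symm
      rw [if_neg this, if_neg ha, mul_zero]

theorem coeff_dplus (G : Polynomial R) (a b : ℕ) :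
    coeff (e2 a b) (dplus G) =
      G.coeff (a + b) * (((a + b).choose a : ℕ) : R) - (if b = 0 then G.coeff a else 0)
        - (if a = 0 then G.coeff b else 0) := by
  unfold dplus
  rw [coeff_sub, coeff_sub, coeff_aeval_add, coeff_aeval_X0, coeff_aeval_X1]

theorem aeval_Sp (p q : ℕ) :
    aeval ![(X 0 : MvPolynomial (Fin 2) R) ^ q, X 1 ^ q] (Sp p R) =
      ∑ j ∈ Finset.Ioo 0 p, C (((p.choose j / p : ℕ) : ℕ) : R) * X 0 ^ (j * q) * X 1 ^ ((p - j) * q) := by
  unfold Sp
  rw [map_sum]
  apply Finset.sum_congr rfl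
  intro j _
  simp only [map_mul, map_pow, aeval_X, algHom_C, algebraMap_eq, Matrix.cons_val_zero,
    Matrix.cons_val_one]
  rw [pow_mul', pow_mul']

theorem coeff_aeval_Sp (p q : ℕ) (hq : 0 < q) (a b : ℕ) :
    coeff (e2 a b) (aeval ![(X 0 : MvPolynomial (Fin 2) R) ^ q, X 1 ^ q] (Sp p R)) =
      cS p q a b := by
  rw [aeval_Sp, coeff_sum]
  have : ∀ j ∈ Finset.Ioo 0 p,
      coeff (e2 a b) (C (((p.choose j / p : ℕ) : ℕ) : R) * X 0 ^ (j * q) * X 1 ^ ((p - j) * q)) =
        if j = a / q ∧ (q ∣ a ∧ b = (p - a / q) * q) then (((p.choose j / p : ℕ) : ℕ) : R) else 0 := by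
    intro j _
    rw [mul_assoc, coeff_C_mul, coeff_e2_mon]
    have : (j * q = a ∧ (p - j) * q = b) ↔ (j = a / q ∧ (q ∣ a ∧ b = (p - a / q) * q)) := by
      constructor
      · rintro ⟨rfl, rfl⟩
        rw [Nat.mul_div_cancel _ hq]
        exact ⟨rfl, dvd_mul_left _ _, rfl⟩
      · rintro ⟨rfl, h1, rfl⟩
        exact ⟨Nat.div_mul_cancel h1, rfl⟩
    rw [if_congr this rfl rfl]
    split_ifs <;> simp
  rw [Finset.sum_congr rfl this, sum_ite_and']
  unfold cS
  apply if_congr _ rfl rfl
  simp only [Finset.mem_Ioo]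
  tauto

theorem cS_eq_zero_of_add_ne (p q a b : ℕ) (h : a + b ≠ p * q) : (cS p q a b : R) = 0 := by
  unfold cS
  rw [if_neg]
  rintro ⟨h1, h2, h3, h4⟩
  apply h
  obtain ⟨t, rfl⟩ := h1
  rcases Nat.eq_zero_or_pos q with hq | hq
  · subst hq; simp at h2
  rw [Nat.mul_div_cancel_left _ hq] at h2 h3 h4
  rw [h4]
  have : p = t + (p - t) := by omega
  calc q * t + (p - t) * q = (t + (p - t)) * q := by ring
    _ = p * q := by rw [← this]

end Groth.Agent.Lib.Helper11Lazard
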