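import Mathlib
import Groth.Agent.Lib.Helper11LazardE

namespace Groth.Agent.Lib.Helper11Lazard

open Finset MvPolynomial

variable {R : Type*} [CommRing R]

theorem e2_degree (a b : ℕ) : ((e2 a b).sum fun _ e => e) = a + b := by
  unfold e2
  rw [Finsupp.sum_add_index' (by simp) (by simp)]
  simp

theorem cf_eq_zero_of_deg (F : MvPolynomial (Fin 2) R) (a b : ℕ) (h : F.totalDegree < a + b) :
    cf F a b = 0 := by
  unfold cf
  by_contra hne
  have hm : e2 a b ∈ F.support := by rw [mem_support_iff]; exact hne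
  have := le_totalDegree hm
  rw [e2_degree] at this
  omega

theorem cS_zero_zero (p q : ℕ) : (cS p q 0 0 : R) = 0 := by
  unfold cS
  rw [if_neg]
  rintro ⟨_, h, _⟩
  simp at h

theorem cB_pos {n a b : ℕ} (ha : 0 < a) (hb : 0 < b) (h : a + b = n) :
    (cB n a b : R) = ((n.choose a : ℕ) : R) := by
  unfold cB; rw [if_pos ⟨ha, hb, h⟩]

theorem cB_zero_right (n a : ℕ) : (cB n a 0 : R) = 0 := by
  unfold cB; rw [if_neg]; rintro ⟨_, h, _⟩; exact absurd h (lt_irrefl 0)

theorem cB_zero_left (n b : ℕ) : (cB n 0 b : R) = 0 := by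
  unfold cB; rw [if_neg]; rintro ⟨h, _, _⟩; exact absurd h (lt_irrefl 0)

variable (p : ℕ) [hp : Fact p.Prime] [CharP R p]

theorem lazard (J : Ideal R) (F : MvPolynomial (Fin 2) R)
    (hsym : aeval ![(X 1 : MvPolynomial (Fin 2) R), X 0] F = F)
    (hcoc : aeval ![(X 0 : MvPolynomial (Fin 3) R), X 1 + X 2] F
          + aeval ![(X 1 : MvPolynomial (Fin 3) R), X 2] F
          - aeval ![(X 0 + X 1 : MvPolynomial (Fin 3) R), X 2] F
          - aeval ![(X 0 : MvPolynomial (Fin 3) R), X 1] F = 0)
    (hJ : ∀ m, coeff m F ∈ J) :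
    ∃ (G : Polynomial R) (N : ℕ) (r : ℕ → R), (∀ i, G.coeff i ∈ J) ∧ (∀ i, r i ∈ J) ∧
      F = dplus G + ∑ i ∈ range N, C (r i) *
        aeval ![(X 0 : MvPolynomial (Fin 2) R) ^ p ^ i, X 1 ^ p ^ i] (Sp p R) := by
  classical
  have hp0 : 0 < p := hp.out.pos
  set c := cf F with hcdef
  have hc : IsCoc c := isCoc_of_poly F hsym hcoc
  have hcJ : ∀ a b, c a b ∈ J := fun a b => hJ _
  set D := F.totalDegree with hD
  have hdeg : ∀ a b, D < a + b → c a b = 0 := fun a b h => cf_eq_zero_of_deg F a b h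
  have H : ∀ n, ∃ (g r : R) (j : ℕ), g ∈ J ∧ r ∈ J ∧ (1 ≤ n → j < n) ∧
      (1 ≤ n → (r = 0 ∨ n = p ^ (j + 1))) ∧
      (1 ≤ n → ∀ a b, a + b = n → c a b = g * cB n a b + r * cS p (p ^ j) a b) := by
    intro n
    rcases Nat.eq_zero_or_pos n with hn | hn
    · subst hn
      exact ⟨0, 0, 0, J.zero_mem, J.zero_mem, by omega, by omega, by omega⟩
    · obtain ⟨g, hg, r, hr, j, hj, hrj, hcl⟩ := cls p J n hn c hc hcJ
      exact ⟨g, r, j, hg, hr, fun _ => hj, fun _ => hrj, fun _ => hcl⟩
  choose g r' j hg hr hj hrj hcl using H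
  let G : Polynomial R := Polynomial.C (-c 0 0) + ∑ n ∈ Icc 1 D, Polynomial.monomial n (g n)
  have hGc : ∀ k, G.coeff k = (if k = 0 then -c 0 0 else 0) + (if k ∈ Icc 1 D then g k else 0) := by
    intro k
    simp only [G, Polynomial.coeff_add, Polynomial.coeff_C, Polynomial.finsetSum_coeff,
      Polynomial.coeff_monomial]
    rw [Finset.sum_ite_eq' (Icc 1 D) k]
  let r : ℕ → R := fun i => ∑ n ∈ Icc 1 D, if j n = i then r' n else 0
  refine ⟨G, D + 1, r, ?_, ?_, ?_⟩
  · intro k
    rw [hGc]
    apply J.add_mem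
    · split_ifs
      · exact J.neg_mem (hcJ _ _)
      · exact J.zero_mem
    · split_ifs
      · exact hg _
      · exact J.zero_mem
  · intro i
    apply J.sum_mem
    intro n _
    split_ifs
    · exact hr _
    · exact J.zero_mem
  · ext m
    rw [e2_eta m]
    set a := m 0
    set b := m 1
    have hS : coeff (e2 a b) (∑ i ∈ range (D + 1), C (r i) *
        aeval ![(X 0 : MvPolynomial (Fin 2) R) ^ p ^ i, X 1 ^ p ^ i] (Sp p R)) =
        if a + b ∈ Icc 1 D then r' (a + b) * cS p (p ^ j (a + b)) a b else 0 := by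
      rw [coeff_sum]
      have h1 : ∀ i ∈ range (D + 1), coeff (e2 a b) (C (r i) *
          aeval ![(X 0 : MvPolynomial (Fin 2) R) ^ p ^ i, X 1 ^ p ^ i] (Sp p R)) =
          ∑ n ∈ Icc 1 D, if j n = i then r' n * cS p (p ^ i) a b else 0 := by
        intro i _
        rw [coeff_C_mul, coeff_aeval_Sp p (p ^ i) (pow_pos hp0 i), Finset.sum_mul]
        apply Finset.sum_congr rfl
        intro n _
        split_ifs <;> simp
      rw [Finset.sum_congr rfl h1, Finset.sum_comm]
      have h2 : ∀ n ∈ Icc 1 D, (∑ i ∈ range (D + 1), if j n = i then r' n * cS p (p ^ i) a b else 0)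
          = if n = a + b then r' n * cS p (p ^ j n) a b else 0 := by
        intro n hn
        rw [Finset.mem_Icc] at hn
        rw [Finset.sum_ite_eq (range (D + 1)) (j n) (fun i => r' n * cS p (p ^ i) a b)]
        have hjn : j n ∈ range (D + 1) := by
          rw [Finset.mem_range]; have := hj n hn.1; omega
        rw [if_pos hjn]
        by_cases hnab : n = a + b
        · rw [if_pos hnab]
        · rw [if_neg hnab]
          rcases hrj n hn.1 with h | h
          · rw [h, zero_mul]
          · rw [cS_eq_zero_of_add_ne, mul_zero]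
            intro h'
            apply hnab
            rw [h, h']; ring
      rw [Finset.sum_congr rfl h2, Finset.sum_ite_eq' (Icc 1 D) (a + b)]
    rw [coeff_add, hS, coeff_dplus, hGc, hGc, hGc]
    change c a b = _
    rcases Nat.eq_zero_or_pos (a + b) with h0 | hpos
    · have ha : a = 0 := by omega
      have hb : b = 0 := by omega
      rw [ha, hb]
      simp
    by_cases hD' : a + b ≤ D
    · have hmem : a + b ∈ Icc 1 D := Finset.mem_Icc.mpr ⟨hpos, hD'⟩
      have hne : a + b ≠ 0 := by omega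
      rw [if_pos hmem, if_neg hne, if_pos hmem, zero_add, hcl (a + b) hpos a b rfl]
      rcases Nat.eq_zero_or_pos a with ha | ha
      · have hb : 0 < b := by omega
        have hbm : b ∈ Icc 1 D := by rw [ha, zero_add] at hmem; exact hmem
        rw [if_neg (by omega : ¬ b = 0), if_pos ha, if_neg (by omega : ¬ b = 0), if_pos hbm]
        rw [ha, cB_zero_left]
        simp
      rcases Nat.eq_zero_or_pos b with hb | hb
      · have ham : a ∈ Icc 1 D := by rw [hb, add_zero] at hmem; exact hmem
        rw [if_pos hb, if_neg (by omega : ¬ a = 0), if_neg (by omega : ¬ a = 0), if_pos ham]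
        rw [hb, cB_zero_right]
        simp
      · rw [if_neg (by omega : ¬ b = 0), if_neg (by omega : ¬ a = 0), cB_pos ha hb rfl]
        ring
    · have hmem : a + b ∉ Icc 1 D := by rw [Finset.mem_Icc]; omega
      have hne : a + b ≠ 0 := by omega
      rw [if_neg hmem, if_neg hne, if_neg hmem, hdeg a b (by omega)]
      rcases Nat.eq_zero_or_pos a with ha | ha
      · have hbm : b ∉ Icc 1 D := by rw [ha, zero_add] at hmem; exact hmem
        rw [if_neg (by omega : ¬ b = 0), if_pos ha, if_neg (by omega : ¬ b = 0), if_neg hbm]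
        simp
      rcases Nat.eq_zero_or_pos b with hb | hb
      · have ham : a ∉ Icc 1 D := by rw [hb, add_zero] at hmem; exact hmem
        rw [if_pos hb, if_neg (by omega : ¬ a = 0), if_neg (by omega : ¬ a = 0), if_neg ham]
        simp
      · rw [if_neg (by omega : ¬ b = 0), if_neg (by omega : ¬ a = 0)]
        simp

end Groth.Agent.Lib.Helper11Lazard
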