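import Mathlib
import Groth.Agent.Lib.Helper11LazardF

namespace Groth.Agent.Lib.Helper11Lazard

open Finset MvPolynomial

variable {R : Type*} [CommRing R]

/-- symmetry defect -/
noncomputable def symOp (F : MvPolynomial (Fin 2) R) : MvPolynomial (Fin 2) R :=
  aeval ![(X 1 : MvPolynomial (Fin 2) R), X 0] F - F

/-- cocycle defect -/
noncomputable def cocOp (F : MvPolynomial (Fin 2) R) : MvPolynomial (Fin 3) R :=
  aeval ![(X 0 : MvPolynomial (Fin 3) R), X 1 + X 2] F
    + aeval ![(X 1 : MvPolynomial (Fin 3) R), X 2] F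
    - aeval ![(X 0 + X 1 : MvPolynomial (Fin 3) R), X 2] F
    - aeval ![(X 0 : MvPolynomial (Fin 3) R), X 1] F

theorem symOp_add (F G : MvPolynomial (Fin 2) R) : symOp (F + G) = symOp F + symOp G := by
  unfold symOp; rw [map_add]; ring

theorem cocOp_add (F G : MvPolynomial (Fin 2) R) : cocOp (F + G) = cocOp F + cocOp G := by
  unfold cocOp; simp only [map_add]; ring

theorem symOp_C_mul (r : R) (F : MvPolynomial (Fin 2) R) : symOp (C r * F) = C r * symOp F := by
  unfold symOp; rw [map_mul, algHom_C, algebraMap_eq]; ring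

theorem cocOp_C_mul (r : R) (F : MvPolynomial (Fin 2) R) : cocOp (C r * F) = C r * cocOp F := by
  unfold cocOp; simp only [map_mul, algHom_C, algebraMap_eq]; ring

theorem symOp_zero : symOp (0 : MvPolynomial (Fin 2) R) = 0 := by unfold symOp; simp
theorem cocOp_zero : cocOp (0 : MvPolynomial (Fin 2) R) = 0 := by unfold cocOp; simp

theorem symOp_sum {ι : Type*} (s : Finset ι) (f : ι → MvPolynomial (Fin 2) R) :
    symOp (∑ i ∈ s, f i) = ∑ i ∈ s, symOp (f i) := by
  classical
  induction s using Finset.induction_on with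
  | empty => simp [symOp_zero]
  | insert a s ha ih => rw [Finset.sum_insert ha, Finset.sum_insert ha, symOp_add, ih]

theorem cocOp_sum {ι : Type*} (s : Finset ι) (f : ι → MvPolynomial (Fin 2) R) :
    cocOp (∑ i ∈ s, f i) = ∑ i ∈ s, cocOp (f i) := by
  classical
  induction s using Finset.induction_on with
  | empty => simp [cocOp_zero]
  | insert a s ha ih => rw [Finset.sum_insert ha, Finset.sum_insert ha, cocOp_add, ih]

theorem symOp_dplus (G : Polynomial R) : symOp (dplus G) = 0 := by
  unfold symOp dplus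
  simp only [map_sub, ← Polynomial.aeval_algHom_apply, map_add, aeval_X, Matrix.cons_val_zero,
    Matrix.cons_val_one]
  rw [add_comm (X 1 : MvPolynomial (Fin 2) R) (X 0)]
  ring

theorem cocOp_dplus (G : Polynomial R) : cocOp (dplus G) = 0 := by
  unfold cocOp dplus
  simp only [map_sub, ← Polynomial.aeval_algHom_apply, map_add, aeval_X, Matrix.cons_val_zero,
    Matrix.cons_val_one]
  rw [add_assoc (X 0 : MvPolynomial (Fin 3) R) (X 1) (X 2)]
  ring

/-- `p • S = (X+Y)^p − X^p − Y^p` over any ring. -/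
theorem p_smul_Sp (p : ℕ) [hp : Fact p.Prime] :
    (p : MvPolynomial (Fin 2) R) * Sp p R = (X 0 + X 1) ^ p - X 0 ^ p - X 1 ^ p := by
  have hp0 : 0 < p := hp.out.pos
  unfold Sp
  rw [add_pow, Finset.mul_sum]
  have hsplit : range (p + 1) = insert 0 (insert p (Finset.Ioo 0 p)) := by
    ext t; simp only [Finset.mem_range, Finset.mem_insert, Finset.mem_Ioo]; omega
  rw [hsplit, Finset.sum_insert (by simp; omega), Finset.sum_insert (by simp)]
  simp only [pow_zero, Nat.sub_zero, Nat.choose_zero_right, Nat.cast_one, mul_one, one_mul,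
    Nat.choose_self, Nat.sub_self]
  have : ∀ j ∈ Finset.Ioo 0 p,
      (p : MvPolynomial (Fin 2) R) * (C (((p.choose j / p : ℕ) : ℕ) : R) * X 0 ^ j * X 1 ^ (p - j)) =
        X 0 ^ j * X 1 ^ (p - j) * ((p.choose j : ℕ) : MvPolynomial (Fin 2) R) := by
    intro j hj
    rw [Finset.mem_Ioo] at hj
    have hdiv : p ∣ p.choose j := hp.out.dvd_choose_self (by omega) hj.2
    have : ((p.choose j : ℕ) : MvPolynomial (Fin 2) R) =
        (p : MvPolynomial (Fin 2) R) * C (((p.choose j / p : ℕ) : ℕ) : R) := by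
      conv_lhs => rw [← Nat.mul_div_cancel' hdiv]
      rw [Nat.cast_mul]
      simp
    rw [this]; ring
  rw [Finset.sum_congr rfl this]
  ring

theorem map_Sp (p : ℕ) : MvPolynomial.map (Int.castRingHom R) (Sp p ℤ) = Sp p R := by
  unfold Sp
  rw [map_sum]
  apply Finset.sum_congr rfl
  intro j _
  simp only [map_mul, map_pow, map_X, map_C, map_natCast]

theorem symOp_Sp_int (p : ℕ) [hp : Fact p.Prime] : symOp (Sp p ℤ) = 0 := by
  have hp0 : (p : MvPolynomial (Fin 2) ℤ) ≠ 0 := by
    have : (p : MvPolynomial (Fin 2) ℤ) = C (p : ℤ) := by simp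
    rw [this, Ne, C_eq_zero]
    exact_mod_cast hp.out.ne_zero
  have h : (p : MvPolynomial (Fin 2) ℤ) * symOp (Sp p ℤ) = 0 := by
    unfold symOp
    have e := p_smul_Sp (R := ℤ) p
    have e' := congrArg (aeval ![(X 1 : MvPolynomial (Fin 2) ℤ), X 0]) e
    simp only [map_mul, map_natCast, map_sub, map_pow, map_add, aeval_X, Matrix.cons_val_zero,
      Matrix.cons_val_one] at e'
    rw [mul_sub, e', e]; ring
  exact (mul_eq_zero.mp h).resolve_left hp0

theorem cocOp_Sp_int (p : ℕ) [hp : Fact p.Prime] : cocOp (Sp p ℤ) = 0 := by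
  have hp0 : (p : MvPolynomial (Fin 3) ℤ) ≠ 0 := by
    have : (p : MvPolynomial (Fin 3) ℤ) = C (p : ℤ) := by simp
    rw [this, Ne, C_eq_zero]
    exact_mod_cast hp.out.ne_zero
  have h : (p : MvPolynomial (Fin 3) ℤ) * cocOp (Sp p ℤ) = 0 := by
    unfold cocOp
    have e := p_smul_Sp (R := ℤ) p
    have key : ∀ v : Fin 2 → MvPolynomial (Fin 3) ℤ,
        (p : MvPolynomial (Fin 3) ℤ) * aeval v (Sp p ℤ) = (v 0 + v 1) ^ p - v 0 ^ p - v 1 ^ p := by
      intro v
      have e' := congrArg (aeval v) e
      simpa only [map_mul, map_natCast, map_sub, map_pow, map_add, aeval_X] using e'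
    rw [mul_sub, mul_sub, mul_add, key, key, key, key]
    simp only [Matrix.cons_val_zero, Matrix.cons_val_one]
    ring
  exact (mul_eq_zero.mp h).resolve_left hp0

theorem map_aeval_comm {n : ℕ} (v' : Fin 2 → MvPolynomial (Fin n) ℤ)
    (P : MvPolynomial (Fin 2) ℤ) :
    MvPolynomial.map (Int.castRingHom R) (aeval v' P) =
      aeval (fun i => MvPolynomial.map (Int.castRingHom R) (v' i))
        (MvPolynomial.map (Int.castRingHom R) P) := by
  induction P using MvPolynomial.induction_on with
  | C a => simp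
  | add p q hp hq => simp only [map_add, hp, hq]
  | mul_X p i hp => simp only [map_mul, hp, aeval_X, map_X]

theorem map_vec2 {n : ℕ} (a b : MvPolynomial (Fin n) ℤ) :
    (fun i => MvPolynomial.map (Int.castRingHom R) (![a, b] i)) =
      ![MvPolynomial.map (Int.castRingHom R) a, MvPolynomial.map (Int.castRingHom R) b] := by
  funext i; fin_cases i <;> rfl

theorem symOp_Sp (p : ℕ) [hp : Fact p.Prime] : symOp (Sp p R) = 0 := by
  have h := congrArg (MvPolynomial.map (Int.castRingHom R)) (symOp_Sp_int p)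
  unfold symOp at h ⊢
  rw [map_sub, map_aeval_comm, map_Sp, map_zero, map_vec2] at h
  simpa only [map_X] using h

theorem cocOp_Sp (p : ℕ) [hp : Fact p.Prime] : cocOp (Sp p R) = 0 := by
  have h := congrArg (MvPolynomial.map (Int.castRingHom R)) (cocOp_Sp_int p)
  unfold cocOp at h ⊢
  simp only [map_sub, map_add, map_aeval_comm, map_Sp, map_zero, map_vec2] at h
  simpa only [map_X, map_add] using h

end Groth.Agent.Lib.Helper11Lazard
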