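import Mathlib
import Groth.Agent.Lib.Helper11LazardG

namespace Groth.Agent.Lib.Helper11Lazard

open Finset MvPolynomial

variable {R : Type*} [CommRing R]

/-- substitution `X_i ↦ X_i^q` -/
noncomputable def frobSub (n q : ℕ) : MvPolynomial (Fin n) R →ₐ[R] MvPolynomial (Fin n) R :=
  aeval (fun i : Fin n => (X i : MvPolynomial (Fin n) R) ^ q)

theorem frobSub_two (q : ℕ) (F : MvPolynomial (Fin 2) R) :
    aeval ![(X 0 : MvPolynomial (Fin 2) R) ^ q, X 1 ^ q] F = frobSub 2 q F := by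
  unfold frobSub
  congr 2
  funext i; fin_cases i <;> rfl

theorem frobSub_X (n q : ℕ) (i : Fin n) : frobSub (R := R) n q (X i) = X i ^ q := by
  unfold frobSub; rw [aeval_X]

theorem frob_comm {n : ℕ} (q : ℕ) (v : Fin 2 → MvPolynomial (Fin n) R)
    (hv : ∀ i, frobSub n q (v i) = (v i) ^ q) (F : MvPolynomial (Fin 2) R) :
    aeval v (frobSub 2 q F) = frobSub n q (aeval v F) := by
  induction F using MvPolynomial.induction_on with
  | C a => simp [frobSub]
  | add p q hp hq => simp only [map_add, hp, hq]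
  | mul_X p i hp => simp only [map_mul, hp, aeval_X, frobSub_X, map_pow, hv]

variable (p : ℕ) [hp : Fact p.Prime] [CharP R p]

theorem frobSub_add {n : ℕ} (k : ℕ) (a b : Fin n) :
    frobSub (R := R) n (p ^ k) (X a + X b) = (X a + X b) ^ p ^ k := by
  rw [map_add, frobSub_X, frobSub_X, add_pow_char_pow]

theorem symOp_frobSub (k : ℕ) (F : MvPolynomial (Fin 2) R) :
    symOp (frobSub 2 (p ^ k) F) = frobSub 2 (p ^ k) (symOp F) := by
  unfold symOp
  rw [map_sub, frob_comm]
  intro i; fin_cases i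
  · exact frobSub_X _ _ _
  · exact frobSub_X _ _ _

theorem cocOp_frobSub (k : ℕ) (F : MvPolynomial (Fin 2) R) :
    cocOp (frobSub 2 (p ^ k) F) = frobSub 3 (p ^ k) (cocOp F) := by
  unfold cocOp
  simp only [map_sub, map_add]
  rw [frob_comm, frob_comm, frob_comm, frob_comm]
  · intro i; fin_cases i
    · exact frobSub_X _ _ _
    · exact frobSub_X _ _ _
  · intro i; fin_cases i
    · exact frobSub_add p k 0 1
    · exact frobSub_X _ _ _
  · intro i; fin_cases i
    · exact frobSub_X _ _ _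
    · exact frobSub_X _ _ _
  · intro i; fin_cases i
    · exact frobSub_X _ _ _
    · exact frobSub_add p k 1 2

/-- the twisted `S`-terms are symmetric cocycles -/
theorem symOp_Sq (k : ℕ) :
    symOp (aeval ![(X 0 : MvPolynomial (Fin 2) R) ^ p ^ k, X 1 ^ p ^ k] (Sp p R)) = 0 := by
  rw [frobSub_two, symOp_frobSub, symOp_Sp, map_zero]

theorem cocOp_Sq (k : ℕ) :
    cocOp (aeval ![(X 0 : MvPolynomial (Fin 2) R) ^ p ^ k, X 1 ^ p ^ k] (Sp p R)) = 0 := by
  rw [frobSub_two, cocOp_frobSub, cocOp_Sp, map_zero]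

theorem symOp_form (G : Polynomial R) (N : ℕ) (r : ℕ → R) :
    symOp (dplus G + ∑ i ∈ range N, C (r i) *
        aeval ![(X 0 : MvPolynomial (Fin 2) R) ^ p ^ i, X 1 ^ p ^ i] (Sp p R)) = 0 := by
  rw [symOp_add, symOp_dplus, symOp_sum, zero_add]
  apply Finset.sum_eq_zero
  intro i _
  rw [symOp_C_mul, symOp_Sq, mul_zero]

theorem cocOp_form (G : Polynomial R) (N : ℕ) (r : ℕ → R) :
    cocOp (dplus G + ∑ i ∈ range N, C (r i) *
        aeval ![(X 0 : MvPolynomial (Fin 2) R) ^ p ^ i, X 1 ^ p ^ i] (Sp p R)) = 0 := by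
  rw [cocOp_add, cocOp_dplus, cocOp_sum, zero_add]
  apply Finset.sum_eq_zero
  intro i _
  rw [cocOp_C_mul, cocOp_Sq, mul_zero]

/-- Lazard's symmetric 2-cocycle lemma in characteristic `p`. -/
theorem lazard_iff (F : MvPolynomial (Fin 2) R) :
    (aeval ![(X 1 : MvPolynomial (Fin 2) R), X 0] F = F ∧
      aeval ![(X 0 : MvPolynomial (Fin 3) R), X 1 + X 2] F
          + aeval ![(X 1 : MvPolynomial (Fin 3) R), X 2] F
          - aeval ![(X 0 + X 1 : MvPolynomial (Fin 3) R), X 2] F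
          - aeval ![(X 0 : MvPolynomial (Fin 3) R), X 1] F = 0) ↔
    ∃ (G : Polynomial R) (N : ℕ) (r : ℕ → R),
      F = dplus G + ∑ i ∈ range N, C (r i) *
        aeval ![(X 0 : MvPolynomial (Fin 2) R) ^ p ^ i, X 1 ^ p ^ i] (Sp p R) := by
  constructor
  · rintro ⟨h1, h2⟩
    obtain ⟨G, N, r, -, -, h⟩ := lazard p ⊤ F h1 h2 (fun _ => Submodule.mem_top)
    exact ⟨G, N, r, h⟩
  · rintro ⟨G, N, r, rfl⟩
    refine ⟨?_, ?_⟩
    · have := symOp_form p G N r
      unfold symOp at this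
      exact sub_eq_zero.mp this
    · exact cocOp_form p G N r

end Groth.Agent.Lib.Helper11Lazard
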