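import Mathlib
import Groth.Agent.Lib.Helper11GaSplitA
import Groth.Agent.Lib.Helper11LazardH

namespace Groth.Agent.Lib.Helper11GaSplit

open MvPolynomial Groth.Agent.Lib.Helper11Lazard

variable {R : Type*} [CommRing R]

/-- the ideal `J[X₁..Xₙ]` -/
noncomputable def JJ (n : ℕ) (J : Ideal R) : Ideal (MvPolynomial (Fin n) R) :=
  Ideal.map (C : R →+* MvPolynomial (Fin n) R) J

theorem mem_JJ_iff {n : ℕ} {J : Ideal R} {F : MvPolynomial (Fin n) R} :
    F ∈ JJ n J ↔ ∀ m, coeff m F ∈ J := MvPolynomial.mem_map_C_iff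

theorem JJ_mono {n : ℕ} {J J' : Ideal R} (h : J ≤ J') : JJ n J ≤ JJ n J' := Ideal.map_mono h

theorem aeval_mem_JJ {n m : ℕ} {J : Ideal R} (v : Fin n → MvPolynomial (Fin m) R)
    {F : MvPolynomial (Fin n) R} (hF : F ∈ JJ n J) : aeval v F ∈ JJ m J := by
  have h1 : (aeval v : MvPolynomial (Fin n) R →ₐ[R] _).toRingHom F ∈
      Ideal.map (aeval v : MvPolynomial (Fin n) R →ₐ[R] MvPolynomial (Fin m) R).toRingHom (JJ n J) :=
    Ideal.mem_map_of_mem _ hF
  unfold JJ at h1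
  rw [Ideal.map_map] at h1
  have h2 : ((aeval v : MvPolynomial (Fin n) R →ₐ[R] MvPolynomial (Fin m) R).toRingHom.comp
      (C : R →+* MvPolynomial (Fin n) R)) = (C : R →+* MvPolynomial (Fin m) R) := by
    ext a; simp
  rw [h2] at h1
  exact h1

theorem paeval_mem_JJ {n : ℕ} {J : Ideal R} (x : MvPolynomial (Fin n) R) {G : Polynomial R}
    (hG : ∀ i, G.coeff i ∈ J) : Polynomial.aeval x G ∈ JJ n J := by
  rw [Polynomial.aeval_eq_sum_range]
  apply Ideal.sum_mem
  intro i _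
  rw [Algebra.smul_def]
  exact Ideal.mul_mem_right _ _ (Ideal.mem_map_of_mem _ (hG i))

/-- square-zero ideals -/
def SqZero (J : Ideal R) : Prop := ∀ a ∈ J, ∀ b ∈ J, a * b = 0

theorem SqZero.mulJJ {J : Ideal R} (hJ : SqZero J) (n : ℕ) :
    ∀ a ∈ JJ n J, ∀ b ∈ JJ n J, a * b = 0 := by
  intro a ha b hb
  have h1 : a * b ∈ JJ n J * JJ n J := Ideal.mul_mem_mul ha hb
  unfold JJ at h1
  rw [← Ideal.map_mul] at h1
  have h2 : J * J = ⊥ := by
    rw [eq_bot_iff, Ideal.mul_le]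
    intro r hr s hs
    rw [Ideal.mem_bot]; exact hJ r hr s hs
  rw [h2, Ideal.map_bot] at h1
  exact h1

/-- units congruent to one modulo `J` -/
noncomputable def Ug (J : Ideal R) : Subgroup (MvPolynomial (Fin 2) R)ˣ :=
  (um (Ideal.Quotient.mk (JJ 2 J))).ker

theorem mem_Ug_iff {J : Ideal R} {u : (MvPolynomial (Fin 2) R)ˣ} :
    u ∈ Ug J ↔ (u : MvPolynomial (Fin 2) R) - 1 ∈ JJ 2 J := by
  unfold Ug
  rw [MonoidHom.mem_ker, Units.ext_iff, um_val, Units.val_one, ← map_one (Ideal.Quotient.mk _),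
    Ideal.Quotient.eq]

theorem mem_Ug_bot {u : (MvPolynomial (Fin 2) R)ˣ} (h : u ∈ Ug (⊥ : Ideal R)) : u = 1 := by
  rw [mem_Ug_iff] at h
  unfold JJ at h
  rw [Ideal.map_bot, Ideal.mem_bot, sub_eq_zero] at h
  exact Units.ext h

theorem constantCoeff_aeval_X0_zero (F : MvPolynomial (Fin 2) R) :
    constantCoeff (aeval ![(X 0 : MvPolynomial (Fin 2) R), 0] F) = constantCoeff F := by
  induction F using MvPolynomial.induction_on with
  | C a => simp
  | add p q hp hq => simp only [map_add, hp, hq]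
  | mul_X p i hp =>
    simp only [map_mul, hp, aeval_X, constantCoeff_X, mul_zero]
    fin_cases i <;> simp

/-- additive cocycle extracted from a multiplicative one modulo a square-zero ideal -/
theorem additive_of_mem {J : Ideal R} (hJ : SqZero J) {u : (MvPolynomial (Fin 2) R)ˣ}
    (hZ : u ∈ Zg R) (hU : u ∈ Ug J) :
    symOp ((u : MvPolynomial (Fin 2) R) - 1) = 0 ∧ cocOp ((u : MvPolynomial (Fin 2) R) - 1) = 0 ∧
      (∀ m, coeff m ((u : MvPolynomial (Fin 2) R) - 1) ∈ J) ∧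
      coeff (e2 0 0) ((u : MvPolynomial (Fin 2) R) - 1) = 0 := by
  rw [mem_Zg_iff] at hZ
  rw [mem_Ug_iff] at hU
  obtain ⟨h0, hs, hc⟩ := hZ
  set k := (u : MvPolynomial (Fin 2) R) - 1 with hk
  have hu : (u : MvPolynomial (Fin 2) R) = 1 + k := by rw [hk]; ring
  refine ⟨?_, ?_, mem_JJ_iff.mp hU, ?_⟩
  · unfold symOp
    rw [hu, map_add, map_one] at hs
    rw [sub_eq_zero]
    exact add_left_cancel hs
  · unfold cocOp
    rw [hu] at hc
    simp only [map_add, map_one] at hc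
    have m1 := aeval_mem_JJ ![(X 1 : MvPolynomial (Fin 3) R), X 2] hU
    have m2 := aeval_mem_JJ ![(X 0 : MvPolynomial (Fin 3) R), X 1 + X 2] hU
    have m3 := aeval_mem_JJ ![(X 0 + X 1 : MvPolynomial (Fin 3) R), X 2] hU
    have m4 := aeval_mem_JJ ![(X 0 : MvPolynomial (Fin 3) R), X 1] hU
    have z12 := hJ.mulJJ 3 _ m1 _ m2
    have z34 := hJ.mulJJ 3 _ m3 _ m4
    linear_combination hc - z12 + z34
  · have h1 : constantCoeff (u : MvPolynomial (Fin 2) R) = 1 := by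
      rw [← constantCoeff_aeval_X0_zero, h0, map_one]
    have h2 : e2 0 0 = 0 := by unfold e2; simp
    rw [h2, coeff_sub, coeff_zero_one]
    rw [← constantCoeff_eq, h1, sub_self]

end Groth.Agent.Lib.Helper11GaSplit
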