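import Mathlib
import Groth.Agent.Lib.Helper11GaSplitB

namespace Groth.Agent.Lib.Helper11GaSplit

open MvPolynomial Finset Groth.Agent.Lib.Helper11Lazard

variable {R : Type*} [CommRing R]

/-- the twisted `S`-polynomial `S(X^(p^i), Y^(p^i))` -/
noncomputable def Sq (p : ℕ) (R : Type*) [CommRing R] (i : ℕ) : MvPolynomial (Fin 2) R :=
  aeval ![(X 0 : MvPolynomial (Fin 2) R) ^ p ^ i, X 1 ^ p ^ i] (Sp p R)

theorem Sq_X0_zero (p : ℕ) [hp : Fact p.Prime] (i : ℕ) :
    aeval ![(X 0 : MvPolynomial (Fin 2) R), 0] (Sq p R i) = 0 := by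
  unfold Sq
  rw [aeval_Sp, map_sum]
  apply Finset.sum_eq_zero
  intro j hj
  rw [Finset.mem_Ioo] at hj
  have hpos : (p - j) * p ^ i ≠ 0 := by
    have : 0 < p - j := by omega
    have h2 : 0 < p ^ i := pow_pos hp.out.pos i
    exact (Nat.mul_pos this h2).ne'
  simp only [map_mul, map_pow, aeval_X, Matrix.cons_val_one, Matrix.cons_val_zero]
  rw [zero_pow hpos, mul_zero]

section

variable (p : ℕ) [hp : Fact p.Prime] [CharP R p]

/-- decomposition of a multiplicative cocycle congruent to one modulo a square-zero ideal -/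
theorem decomp {J : Ideal R} (hJ : SqZero J) {u : (MvPolynomial (Fin 2) R)ˣ}
    (hZ : u ∈ Zg R) (hU : u ∈ Ug J) :
    ∃ (G : Polynomial R) (N : ℕ) (r : ℕ → R), (∀ i, G.coeff i ∈ J) ∧ G.coeff 0 = 0 ∧
      (∀ i, r i ∈ J) ∧
      (u : MvPolynomial (Fin 2) R) = 1 + dplus G + ∑ i ∈ range N, C (r i) * Sq p R i := by
  obtain ⟨hs, hc, hm, h00⟩ := additive_of_mem hJ hZ hU
  unfold symOp at hs
  unfold cocOp at hc
  obtain ⟨G, N, r, hG, hr, hk⟩ := lazard p J _ (sub_eq_zero.mp hs) hc hm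
  refine ⟨G, N, r, hG, ?_, hr, ?_⟩
  · have := congrArg (coeff (e2 0 0)) hk
    rw [h00, coeff_add, coeff_dplus, coeff_sum] at this
    have hz : ∀ i ∈ range N, coeff (e2 0 0) (C (r i) *
        aeval ![(X 0 : MvPolynomial (Fin 2) R) ^ p ^ i, X 1 ^ p ^ i] (Sp p R)) = 0 := by
      intro i _
      rw [coeff_C_mul, coeff_aeval_Sp p (p ^ i) (pow_pos hp.out.pos i), cS_zero_zero, mul_zero]
    rw [Finset.sum_eq_zero hz] at this
    simp at this
    exact this
  · unfold Sq
    rw [add_assoc, ← hk]; ring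

end

/-- `1 + G(X+Y) = (1+G(X))(1+G(Y))(1 + δ⁺G)` modulo a square-zero ideal -/
theorem one_add_dplus {J : Ideal R} (hJ : SqZero J) (G : Polynomial R) (hG : ∀ i, G.coeff i ∈ J) :
    1 + Polynomial.aeval (X 0 + X 1 : MvPolynomial (Fin 2) R) G =
      (1 + Polynomial.aeval (X 0 : MvPolynomial (Fin 2) R) G) *
      (1 + Polynomial.aeval (X 1 : MvPolynomial (Fin 2) R) G) * (1 + dplus G) := by
  unfold dplus
  set a := Polynomial.aeval (X 0 : MvPolynomial (Fin 2) R) G
  set b := Polynomial.aeval (X 1 : MvPolynomial (Fin 2) R) G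
  set c := Polynomial.aeval (X 0 + X 1 : MvPolynomial (Fin 2) R) G
  have ha : a ∈ JJ 2 J := paeval_mem_JJ _ hG
  have hb : b ∈ JJ 2 J := paeval_mem_JJ _ hG
  have hc : c ∈ JJ 2 J := paeval_mem_JJ _ hG
  have hab := hJ.mulJJ 2 a ha b hb
  have hac := hJ.mulJJ 2 a ha c hc
  have haa := hJ.mulJJ 2 a ha a ha
  have hbc := hJ.mulJJ 2 b hb c hc
  have hbb := hJ.mulJJ 2 b hb b hb
  linear_combination -hac + haa - hbc + hab + hbb - c * hab + b * haa + b * hab

theorem prod_one_add {ι : Type*} {A : Type*} [CommRing A] (s : Finset ι) (a : ι → A)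
    (h : ∀ i ∈ s, ∀ j ∈ s, a i * a j = 0) : ∏ i ∈ s, (1 + a i) = 1 + ∑ i ∈ s, a i := by
  classical
  induction s using Finset.induction_on with
  | empty => simp
  | insert x s hx ih =>
    rw [Finset.prod_insert hx, Finset.sum_insert hx, ih (fun i hi j hj =>
      h i (Finset.mem_insert_of_mem hi) j (Finset.mem_insert_of_mem hj))]
    have : a x * ∑ i ∈ s, a i = 0 := by
      rw [Finset.mul_sum]
      apply Finset.sum_eq_zero
      intro i hi
      exact h x (Finset.mem_insert_self _ _) i (Finset.mem_insert_of_mem hi)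
    linear_combination this

/-- the unit `1 + r S_i` for `r² = 0` -/
noncomputable def uS (p : ℕ) (r : R) (hr : r * r = 0) (i : ℕ) : (MvPolynomial (Fin 2) R)ˣ where
  val := 1 + C r * Sq p R i
  inv := 1 - C r * Sq p R i
  val_inv := by
    have : C r * C r = (0 : MvPolynomial (Fin 2) R) := by rw [← C_mul, hr, C_0]
    linear_combination (-(Sq p R i) * Sq p R i) * this
  inv_val := by
    have : C r * C r = (0 : MvPolynomial (Fin 2) R) := by rw [← C_mul, hr, C_0]
    linear_combination (-(Sq p R i) * Sq p R i) * this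

theorem uS_mem_Zg (p : ℕ) [hp : Fact p.Prime] [CharP R p] (r : R) (hr : r * r = 0) (i : ℕ) :
    uS p r hr i ∈ Zg R := by
  rw [mem_Zg_iff]
  change aeval _ (1 + C r * Sq p R i) = 1 ∧ aeval _ (1 + C r * Sq p R i) = 1 + C r * Sq p R i ∧
    aeval _ (1 + C r * Sq p R i) * aeval _ (1 + C r * Sq p R i) =
      aeval _ (1 + C r * Sq p R i) * aeval _ (1 + C r * Sq p R i)
  have hs := symOp_Sq (R := R) p i
  have hc := cocOp_Sq (R := R) p i
  unfold symOp at hs
  unfold cocOp at hc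
  refine ⟨?_, ?_, ?_⟩
  · rw [map_add, map_one, map_mul, Sq_X0_zero, mul_zero, add_zero]
  · rw [map_add, map_one, map_mul, algHom_C, algebraMap_eq]
    unfold Sq
    rw [sub_eq_zero.mp hs]
  · simp only [map_add, map_one, map_mul, algHom_C, algebraMap_eq]
    have h2 : C r * C r = (0 : MvPolynomial (Fin 3) R) := by rw [← C_mul, hr, C_0]
    unfold Sq
    linear_combination (C r) * hc +
      (aeval ![(X 1 : MvPolynomial (Fin 3) R), X 2]
          (aeval ![(X 0 : MvPolynomial (Fin 2) R) ^ p ^ i, X 1 ^ p ^ i] (Sp p R)) *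
        aeval ![(X 0 : MvPolynomial (Fin 3) R), X 1 + X 2]
          (aeval ![(X 0 : MvPolynomial (Fin 2) R) ^ p ^ i, X 1 ^ p ^ i] (Sp p R)) -
       aeval ![(X 0 + X 1 : MvPolynomial (Fin 3) R), X 2]
          (aeval ![(X 0 : MvPolynomial (Fin 2) R) ^ p ^ i, X 1 ^ p ^ i] (Sp p R)) *
        aeval ![(X 0 : MvPolynomial (Fin 3) R), X 1]
          (aeval ![(X 0 : MvPolynomial (Fin 2) R) ^ p ^ i, X 1 ^ p ^ i] (Sp p R))) * h2

theorem uS_mem_Ug (p : ℕ) (r : R) (hr : r * r = 0) (i : ℕ) {J : Ideal R} (hrJ : r ∈ J) :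
    uS p r hr i ∈ Ug J := by
  rw [mem_Ug_iff]
  change 1 + C r * Sq p R i - 1 ∈ JJ 2 J
  rw [add_sub_cancel_left]
  exact Ideal.mul_mem_right _ _ (Ideal.mem_map_of_mem _ hrJ)

end Groth.Agent.Lib.Helper11GaSplit
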