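import Mathlib

namespace Groth.Agent.Lib.Helper11GaSplit

open Finset

section General

variable {A : Type*} [CommRing A]

/-- truncated exponential with inverse-factorial weights `w` -/
def T (p : ℕ) (w : ℕ → A) (s : A) : A := ∑ m ∈ range p, w m * s ^ m

theorem w_mul (p : ℕ) (w : ℕ → A) (hw : ∀ j, j < p → (j.factorial : A) * w j = 1)
    {m k : ℕ} (hm : m < p) (hkm : k ≤ m) : w k * w (m - k) = (m.choose k : A) * w m := by
  have e1 := hw k (by omega)
  have e2 := hw (m - k) (by omega)
  have e3 := hw m hm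
  have e4 : ((m.choose k : ℕ) : A) * (k.factorial : A) * ((m - k).factorial : A) =
      (m.factorial : A) := by
    exact_mod_cast congrArg (Nat.cast (R := A)) (Nat.choose_mul_factorial_mul_factorial hkm)
  calc w k * w (m - k) = w k * w (m - k) * ((m.factorial : A) * w m) := by rw [e3, mul_one]
    _ = ((k.factorial : A) * w k) * (((m - k).factorial : A) * w (m - k)) *
          ((m.choose k : A) * w m) := by rw [← e4]; ring
    _ = (m.choose k : A) * w m := by rw [e1, e2, one_mul, one_mul]

theorem texp_split (p : ℕ) (w : ℕ → A) (hw : ∀ j, j < p → (j.factorial : A) * w j = 1)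
    (s t : A) :
    T p w s * T p w t = T p w (s + t) +
      ∑ j ∈ range p, ∑ l ∈ Ico (p - j) p, w j * s ^ j * (w l * t ^ l) := by
  unfold T
  rw [Finset.sum_mul_sum]
  have h1 : ∀ j ∈ range p, ∑ l ∈ range p, w j * s ^ j * (w l * t ^ l) =
      ∑ l ∈ range (p - j), w j * s ^ j * (w l * t ^ l) +
        ∑ l ∈ Ico (p - j) p, w j * s ^ j * (w l * t ^ l) := by
    intro j _
    exact (Finset.sum_range_add_sum_Ico _ (Nat.sub_le p j)).symm
  rw [Finset.sum_congr rfl h1, Finset.sum_add_distrib]
  congr 1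
  rw [← Finset.sum_range_diag_flip p (fun j l => w j * s ^ j * (w l * t ^ l))]
  apply Finset.sum_congr rfl
  intro m hm
  simp only [mem_range] at hm
  rw [add_pow, Finset.mul_sum]
  apply Finset.sum_congr rfl
  intro k hk
  simp only [mem_range] at hk
  have hkm : k ≤ m := by omega
  have key := w_mul p w hw hm hkm
  calc w k * s ^ k * (w (m - k) * t ^ (m - k))
      = (w k * w (m - k)) * (s ^ k * t ^ (m - k)) := by ring
    _ = w m * (s ^ k * t ^ (m - k) * (m.choose k : A)) := by rw [key]; ring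

/-- the remainder is `b^p S'(x,y)` modulo `b^(p+1)` -/
theorem rest_mem (p : ℕ) (w : ℕ → A) (b x y : A) :
    (∑ j ∈ range p, ∑ l ∈ Ico (p - j) p, w j * (b * x) ^ j * (w l * (b * y) ^ l)) -
      b ^ p * ∑ j ∈ Ioo 0 p, w j * w (p - j) * x ^ j * y ^ (p - j) ∈
      Ideal.span ({b ^ (p + 1)} : Set A) := by
  have hterm : ∀ j l, p + 1 ≤ j + l →
      w j * (b * x) ^ j * (w l * (b * y) ^ l) ∈ Ideal.span ({b ^ (p + 1)} : Set A) := by
    intro j l h
    rw [Ideal.mem_span_singleton]
    refine ⟨b ^ (j + l - (p + 1)) * (w j * x ^ j * (w l * y ^ l)), ?_⟩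
    have : b ^ (j + l) = b ^ (p + 1) * b ^ (j + l - (p + 1)) := by
      rw [← pow_add]; congr 1; omega
    rw [mul_pow, mul_pow]
    calc w j * (b ^ j * x ^ j) * (w l * (b ^ l * y ^ l))
        = b ^ (j + l) * (w j * x ^ j * (w l * y ^ l)) := by rw [pow_add]; ring
      _ = _ := by rw [this]; ring
  have hsum : b ^ p * ∑ j ∈ Ioo 0 p, w j * w (p - j) * x ^ j * y ^ (p - j) =
      ∑ j ∈ range p, if 0 < j then b ^ p * (w j * w (p - j) * x ^ j * y ^ (p - j)) else 0 := by
    rw [Finset.mul_sum, ← Finset.sum_filter]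
    apply Finset.sum_congr
    · ext j; simp only [mem_Ioo, mem_filter, mem_range]; tauto
    · intro _ _; rfl
  rw [hsum, ← Finset.sum_sub_distrib]
  apply Ideal.sum_mem
  intro j hj
  simp only [mem_range] at hj
  rcases Nat.eq_zero_or_pos j with h0 | hpos
  · subst h0
    simp
  · rw [if_pos hpos]
    have hsplit : Ico (p - j) p = insert (p - j) (Ico (p - j + 1) p) := by
      ext l; simp only [mem_Ico, mem_insert]; omega
    rw [hsplit, Finset.sum_insert (by simp)]
    have e : w j * (b * x) ^ j * (w (p - j) * (b * y) ^ (p - j)) =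
        b ^ p * (w j * w (p - j) * x ^ j * y ^ (p - j)) := by
      have : b ^ p = b ^ j * b ^ (p - j) := by rw [← pow_add]; congr 1; omega
      rw [mul_pow, mul_pow, this]; ring
    rw [e, add_sub_cancel_left]
    apply Ideal.sum_mem
    intro l hl
    simp only [mem_Ico] at hl
    exact hterm j l (by omega)

theorem T_sub_one_mem (p : ℕ) (hp : 0 < p) (w : ℕ → A) (hw0 : w 0 = 1) (b x : A) :
    T p w (b * x) - 1 ∈ Ideal.span ({b} : Set A) := by
  unfold T
  rw [Finset.sum_range_eq_add_Ico _ hp, pow_zero, hw0, mul_one, add_sub_cancel_left]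
  apply Ideal.sum_mem
  intro m hm
  simp only [mem_Ico] at hm
  rw [Ideal.mem_span_singleton]
  refine ⟨b ^ (m - 1) * (w m * x ^ m), ?_⟩
  have : b ^ m = b * b ^ (m - 1) := by rw [← pow_succ']; congr 1; omega
  rw [mul_pow, this]; ring

end General

section CharP

variable {A : Type*} [CommRing A] (p : ℕ) [hp : Fact p.Prime] [CharP A p]

theorem wilson_cast : (((p - 1).factorial : ℕ) : A) = -1 := by
  have h := ZMod.wilsons_lemma (p := p)
  have h2 : ((((p - 1).factorial + 1 : ℕ)) : ZMod p) = 0 := by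
    rw [Nat.cast_add, Nat.cast_one, h]; ring
  have h3 : p ∣ (p - 1).factorial + 1 := (ZMod.natCast_eq_zero_iff _ _).mp h2
  have h4 : ((((p - 1).factorial + 1 : ℕ)) : A) = 0 := (CharP.cast_eq_zero_iff A p _).mpr h3
  rw [Nat.cast_add, Nat.cast_one] at h4
  exact eq_neg_of_add_eq_zero_left h4

theorem w_mul_compl (w : ℕ → A) (hw : ∀ j, j < p → (j.factorial : A) * w j = 1)
    {j : ℕ} (hj0 : 0 < j) (hjp : j < p) :
    w j * w (p - j) = -(((p.choose j / p : ℕ) : ℕ) : A) := by
  have hp0 : 0 < p := hp.out.pos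
  have hdiv : p ∣ p.choose j := hp.out.dvd_choose_self (by omega) hjp
  have hnat : (p.choose j / p) * j.factorial * (p - j).factorial = (p - 1).factorial := by
    have h1 := Nat.choose_mul_factorial_mul_factorial (le_of_lt hjp)
    obtain ⟨q, hq⟩ := hdiv
    rw [hq, Nat.mul_div_cancel_left _ hp0]
    rw [hq] at h1
    have h2 : p.factorial = p * (p - 1).factorial := by
      conv_lhs => rw [show p = (p - 1) + 1 by omega]
      rw [Nat.factorial_succ]
      congr 1
      omega
    rw [h2] at h1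
    have : p * (q * j.factorial * (p - j).factorial) = p * (p - 1).factorial := by
      rw [← h1]; ring
    exact Nat.eq_of_mul_eq_mul_left hp0 this
  have hcast := congrArg (Nat.cast (R := A)) hnat
  rw [Nat.cast_mul, Nat.cast_mul, wilson_cast] at hcast
  have e1 := hw j hjp
  have e2 := hw (p - j) (by omega)
  calc w j * w (p - j)
      = -((((p.choose j / p : ℕ) : ℕ) : A) * (j.factorial : A) * ((p - j).factorial : A)) *
          (w j * w (p - j)) := by rw [hcast]; ring
    _ = -(((p.choose j / p : ℕ) : ℕ) : A) * ((j.factorial : A) * w j) *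
          (((p - j).factorial : A) * w (p - j)) := by ring
    _ = _ := by rw [e1, e2, mul_one, mul_one]

/-- the truncated exponential congruence -/
theorem texp_congr (w : ℕ → A) (hw : ∀ j, j < p → (j.factorial : A) * w j = 1) (b x y : A) :
    T p w (b * x + b * y) -
      T p w (b * x) * T p w (b * y) *
        (1 + b ^ p * ∑ j ∈ Ioo 0 p, (((p.choose j / p : ℕ) : ℕ) : A) * x ^ j * y ^ (p - j)) ∈
      Ideal.span ({b ^ (p + 1)} : Set A) := by
  have hp0 : 0 < p := hp.out.pos
  set K := Ideal.span ({b ^ (p + 1)} : Set A) with hK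
  set Sxy := ∑ j ∈ Ioo 0 p, (((p.choose j / p : ℕ) : ℕ) : A) * x ^ j * y ^ (p - j) with hS
  set Rest := ∑ j ∈ range p, ∑ l ∈ Ico (p - j) p, w j * (b * x) ^ j * (w l * (b * y) ^ l)
  have hsplit : T p w (b * x) * T p w (b * y) = T p w (b * x + b * y) + Rest :=
    texp_split p w hw _ _
  have hrest := rest_mem p w b x y
  have hS' : ∑ j ∈ Ioo 0 p, w j * w (p - j) * x ^ j * y ^ (p - j) = -Sxy := by
    rw [hS, ← Finset.sum_neg_distrib]
    apply Finset.sum_congr rfl
    intro j hj
    rw [mem_Ioo] at hj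
    rw [w_mul_compl p w hw hj.1 hj.2]; ring
  rw [hS'] at hrest
  have hw0 : w 0 = 1 := by
    have := hw 0 hp0
    simpa using this
  have h1 : T p w (b * x) * T p w (b * y) - 1 ∈ Ideal.span ({b} : Set A) := by
    have ha := T_sub_one_mem p hp0 w hw0 b x
    have hb := T_sub_one_mem p hp0 w hw0 b y
    have : T p w (b * x) * T p w (b * y) - 1 =
        (T p w (b * x) - 1) * T p w (b * y) + (T p w (b * y) - 1) := by ring
    rw [this]
    exact Ideal.add_mem _ (Ideal.mul_mem_right _ _ ha) hb
  have h2 : (T p w (b * x) * T p w (b * y) - 1) * (b ^ p * Sxy) ∈ K := by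
    rw [Ideal.mem_span_singleton] at h1
    obtain ⟨c, hc⟩ := h1
    rw [hc, hK, Ideal.mem_span_singleton]
    exact ⟨c * Sxy, by rw [pow_succ]; ring⟩
  have : T p w (b * x + b * y) - T p w (b * x) * T p w (b * y) * (1 + b ^ p * Sxy) =
      -(Rest - b ^ p * -Sxy) - (T p w (b * x) * T p w (b * y) - 1) * (b ^ p * Sxy) := by
    rw [hsplit]; ring
  rw [this]
  exact Ideal.sub_mem _ (neg_mem hrest) h2

end CharP

end Groth.Agent.Lib.Helper11GaSplit
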