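import Mathlib
import Groth.Agent.Lib.Helper11GaSplitC
import Groth.Agent.Lib.Helper11GaSplitD

namespace Groth.Agent.Lib.Helper11GaSplit

open MvPolynomial Finset Groth.Agent.Lib.Helper11Lazard

variable {R : Type*} [CommRing R]

/-- inverse factorials -/
noncomputable def winv (R : Type*) [CommRing R] (m : ℕ) : R :=
  Ring.inverse (((m.factorial : ℕ) : R))

/-- the truncated exponential polynomial `Σ_{m<p} β^m X^(mq) / m!` -/
noncomputable def Epoly (p : ℕ) (β : R) (q : ℕ) : Polynomial R :=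
  ∑ m ∈ range p, Polynomial.C (winv R m * β ^ m) * Polynomial.X ^ (m * q)

theorem aeval_Epoly {n : ℕ} (p : ℕ) (β : R) (q : ℕ) (z : MvPolynomial (Fin n) R) :
    Polynomial.aeval z (Epoly p β q) = T p (fun m => C (winv R m)) (C β * z ^ q) := by
  unfold Epoly T
  rw [map_sum]
  apply Finset.sum_congr rfl
  intro m _
  rw [map_mul, Polynomial.aeval_C, map_pow, Polynomial.aeval_X, algebraMap_eq, C_mul, C_pow,
    mul_pow, ← pow_mul, mul_comm q m]
  ring

theorem winv_zero : winv R 0 = 1 := by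
  unfold winv; simp

theorem Epoly_eq (p : ℕ) (hp : 0 < p) (β : R) (q : ℕ) :
    Epoly p β q = 1 + Polynomial.C β *
      ∑ m ∈ Ico 1 p, Polynomial.C (winv R m * β ^ (m - 1)) * Polynomial.X ^ (m * q) := by
  unfold Epoly
  rw [Finset.sum_range_eq_add_Ico _ hp, winv_zero, Finset.mul_sum]
  congr 1
  · simp
  · apply Finset.sum_congr rfl
    intro m hm
    rw [mem_Ico] at hm
    have : β ^ m = β * β ^ (m - 1) := by rw [← pow_succ']; congr 1; omega
    rw [this, ← mul_assoc (Polynomial.C β), ← Polynomial.C_mul]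
    congr 2; ring

theorem Epoly_isUnit (p : ℕ) (hp : 0 < p) (β : R) (hβ : IsNilpotent β) (q : ℕ) :
    IsUnit (Epoly p β q) := by
  rw [Epoly_eq p hp]
  apply IsNilpotent.isUnit_one_add
  obtain ⟨n, hn⟩ := hβ
  exact ⟨n, by rw [mul_pow, ← Polynomial.C_pow, hn, Polynomial.C_0, zero_mul]⟩

theorem Epoly_eval_zero (p : ℕ) (hp : 0 < p) (β : R) (q : ℕ) (hq : 0 < q) :
    (Epoly p β q).eval 0 = 1 := by
  rw [Epoly_eq p hp, Polynomial.eval_add, Polynomial.eval_one, Polynomial.eval_mul,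
    Polynomial.eval_finsetSum]
  have : ∀ m ∈ Ico 1 p, (Polynomial.C (winv R m * β ^ (m - 1)) * Polynomial.X ^ (m * q)).eval 0
      = 0 := by
    intro m hm
    rw [mem_Ico] at hm
    have : m * q ≠ 0 := (Nat.mul_pos (by omega) hq).ne'
    simp [this]
  rw [Finset.sum_eq_zero this, mul_zero, add_zero]

section CharP

variable (p : ℕ) [hp : Fact p.Prime] [CharP R p]

theorem winv_spec {j : ℕ} (hj : j < p) : (((j.factorial : ℕ) : R)) * winv R j = 1 := by
  unfold winv
  apply Ring.mul_inverse_cancel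
  apply isUnit_cast_of_not_dvd p
  intro h
  exact absurd ((hp.out.dvd_factorial).mp h) (by omega)

theorem winvC_spec {n : ℕ} {j : ℕ} (hj : j < p) :
    ((j.factorial : ℕ) : MvPolynomial (Fin n) R) * C (winv R j) = 1 := by
  have : ((j.factorial : ℕ) : MvPolynomial (Fin n) R) = C (((j.factorial : ℕ) : R)) := by simp
  rw [this, ← C_mul, winv_spec p hj, C_1]

/-- the congruence for the truncated exponential polynomial -/
theorem Epoly_congr (β : R) (i : ℕ) {J' : Ideal R} (hβ : β ^ (p + 1) ∈ J') :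
    Polynomial.aeval (X 0 + X 1 : MvPolynomial (Fin 2) R) (Epoly p β (p ^ i)) -
      Polynomial.aeval (X 0 : MvPolynomial (Fin 2) R) (Epoly p β (p ^ i)) *
      Polynomial.aeval (X 1 : MvPolynomial (Fin 2) R) (Epoly p β (p ^ i)) *
        (1 + C (β ^ p) * Sq p R i) ∈ JJ 2 J' := by
  rw [aeval_Epoly, aeval_Epoly, aeval_Epoly]
  have key := texp_congr (A := MvPolynomial (Fin 2) R) p (fun m => C (winv R m))
    (fun j hj => winvC_spec p hj) (C β) (X 0 ^ p ^ i) (X 1 ^ p ^ i)
  have e1 : (C β : MvPolynomial (Fin 2) R) * (X 0 + X 1) ^ p ^ i =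
      C β * X 0 ^ p ^ i + C β * X 1 ^ p ^ i := by
    rw [add_pow_char_pow, mul_add]
  have e2 : ∑ j ∈ Ioo 0 p, (((p.choose j / p : ℕ) : ℕ) : MvPolynomial (Fin 2) R) *
      ((X 0 : MvPolynomial (Fin 2) R) ^ p ^ i) ^ j * (X 1 ^ p ^ i) ^ (p - j) = Sq p R i := by
    unfold Sq
    rw [aeval_Sp]
    apply Finset.sum_congr rfl
    intro j _
    rw [← pow_mul, ← pow_mul, mul_comm (p ^ i) j, mul_comm (p ^ i) (p - j)]
    simp
  have e3 : (C β : MvPolynomial (Fin 2) R) ^ p = C (β ^ p) := (C_pow _ _).symm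
  rw [e2, e3] at key
  rw [e1]
  have hle : Ideal.span ({(C β : MvPolynomial (Fin 2) R) ^ (p + 1)} : Set _) ≤ JJ 2 J' := by
    rw [Ideal.span_singleton_le_iff_mem, ← C_pow]
    exact Ideal.mem_map_of_mem _ hβ
  exact hle key

end CharP

end Groth.Agent.Lib.Helper11GaSplit
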