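import Mathlib
import Groth.Agent.Lib.Helper11GaSplitE

namespace Groth.Agent.Lib.Helper11GaSplit

open MvPolynomial Finset Groth.Agent.Lib.Helper11Lazard

variable {R : Type*} [CommRing R]

theorem one_add_G_isUnit {J : Ideal R} (hJ : SqZero J) (G : Polynomial R)
    (hG : ∀ i, G.coeff i ∈ J) (hG0 : G.coeff 0 = 0) : IsUnit (1 + G) := by
  apply Polynomial.isUnit_of_coeff_isUnit_isNilpotent
  · rw [Polynomial.coeff_add, hG0, add_zero, Polynomial.coeff_one_zero]; exact isUnit_one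
  · intro i hi
    rw [Polynomial.coeff_add, Polynomial.coeff_one, if_neg hi, zero_add]
    exact ⟨2, by rw [sq]; exact hJ _ (hG i) _ (hG i)⟩

theorem dplus_mem_JJ {J : Ideal R} (G : Polynomial R) (hG : ∀ i, G.coeff i ∈ J) :
    dplus G ∈ JJ 2 J := by
  unfold dplus
  exact Ideal.sub_mem _ (Ideal.sub_mem _ (paeval_mem_JJ _ hG) (paeval_mem_JJ _ hG))
    (paeval_mem_JJ _ hG)

theorem CrSq_mem_JJ {J : Ideal R} (p : ℕ) {r : R} (hr : r ∈ J) (i : ℕ) :
    C r * Sq p R i ∈ JJ 2 J :=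
  Ideal.mul_mem_right _ _ (Ideal.mem_map_of_mem _ hr)

/-- exact product form of the decomposition -/
theorem decomp_prod {J : Ideal R} (hJ : SqZero J) (p : ℕ) (G : Polynomial R)
    (hG : ∀ i, G.coeff i ∈ J) (N : ℕ) (r : ℕ → R) (hr : ∀ i, r i ∈ J) :
    (1 + dplus G + ∑ i ∈ range N, C (r i) * Sq p R i : MvPolynomial (Fin 2) R) =
      (1 + dplus G) * ∏ i ∈ range N, (1 + C (r i) * Sq p R i) := by
  rw [prod_one_add (range N) (fun i => C (r i) * Sq p R i)
    (fun i _ j _ => hJ.mulJJ 2 _ (CrSq_mem_JJ p (hr i) i) _ (CrSq_mem_JJ p (hr j) j))]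
  have : dplus G * ∑ i ∈ range N, C (r i) * Sq p R i = 0 := by
    rw [Finset.mul_sum]
    apply Finset.sum_eq_zero
    intro i _
    exact hJ.mulJJ 2 _ (dplus_mem_JJ G hG) _ (CrSq_mem_JJ p (hr i) i)
  linear_combination -this

section CharP

variable (p : ℕ) [hp : Fact p.Prime] [CharP R p]

/-- one step of the approximation: split modulo a smaller ideal -/
theorem iter_step {J J' : Ideal R} (hJ : SqZero J) (G : Polynomial R)
    (hG : ∀ i, G.coeff i ∈ J) (hG0 : G.coeff 0 = 0) (N : ℕ) (r β : ℕ → R)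
    (hr : ∀ i, r i ∈ J) (hβ : ∀ i, β i ^ p = r i) (hβJ : ∀ i, β i ^ (p + 1) ∈ J')
    (u : (MvPolynomial (Fin 2) R)ˣ)
    (hu : (u : MvPolynomial (Fin 2) R) = 1 + dplus G + ∑ i ∈ range N, C (r i) * Sq p R i) :
    ∃ f : (Polynomial R)ˣ, f ∈ N1 R ∧ u * (dl R f)⁻¹ ∈ Ug J' := by
  have hp0 : 0 < p := hp.out.pos
  have hnil : ∀ i, IsNilpotent (β i) := by
    intro i
    refine ⟨p * 2, ?_⟩
    rw [pow_mul, hβ, sq]
    exact hJ _ (hr i) _ (hr i)
  let fG : (Polynomial R)ˣ := (one_add_G_isUnit hJ G hG hG0).unit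
  let fE : ℕ → (Polynomial R)ˣ := fun i => (Epoly_isUnit p hp0 (β i) (hnil i) (p ^ i)).unit
  let f : (Polynomial R)ˣ := fG * ∏ i ∈ range N, fE i
  have hfG : (fG : Polynomial R) = 1 + G := rfl
  have hfE : ∀ i, (fE i : Polynomial R) = Epoly p (β i) (p ^ i) := fun i => rfl
  have hfval : (f : Polynomial R) = (1 + G) * ∏ i ∈ range N, Epoly p (β i) (p ^ i) := by
    change ((fG * ∏ i ∈ range N, fE i : (Polynomial R)ˣ) : Polynomial R) = _
    rw [Units.val_mul, Units.coe_prod, hfG]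
    rfl
  have hfN : f ∈ N1 R := by
    apply (N1 R).mul_mem
    · rw [mem_N1_iff, hfG, Polynomial.eval_add, Polynomial.eval_one,
        ← Polynomial.coeff_zero_eq_eval_zero, hG0, add_zero]
    · apply (N1 R).prod_mem
      intro i _
      rw [mem_N1_iff, hfE]
      exact Epoly_eval_zero p hp0 _ _ (pow_pos hp0 i)
  refine ⟨f, hfN, ?_⟩
  -- the key congruence
  have hclaim : Polynomial.aeval (X 0 + X 1 : MvPolynomial (Fin 2) R) (f : Polynomial R) -
      Polynomial.aeval (X 0 : MvPolynomial (Fin 2) R) (f : Polynomial R) *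
      Polynomial.aeval (X 1 : MvPolynomial (Fin 2) R) (f : Polynomial R) *
        (u : MvPolynomial (Fin 2) R) ∈ JJ 2 J' := by
    rw [← Ideal.Quotient.eq, hfval, hu, decomp_prod hJ p G hG N r hr]
    simp only [map_mul, map_prod]
    have hG' := one_add_dplus hJ G hG
    have hG'' : (1 : MvPolynomial (Fin 2) R) + Polynomial.aeval (X 0 + X 1) G =
        Polynomial.aeval (X 0 + X 1 : MvPolynomial (Fin 2) R) (1 + G) := by
      rw [map_add, map_one]
    have hG0' : Polynomial.aeval (X 0 : MvPolynomial (Fin 2) R) (1 + G) =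
        1 + Polynomial.aeval (X 0) G := by rw [map_add, map_one]
    have hG1' : Polynomial.aeval (X 1 : MvPolynomial (Fin 2) R) (1 + G) =
        1 + Polynomial.aeval (X 1) G := by rw [map_add, map_one]
    rw [← hG'', hG', hG0', hG1']
    have hE : ∀ i ∈ range N,
        Ideal.Quotient.mk (JJ 2 J') (Polynomial.aeval (X 0 + X 1 : MvPolynomial (Fin 2) R)
          (Epoly p (β i) (p ^ i))) =
        Ideal.Quotient.mk (JJ 2 J') (Polynomial.aeval (X 0 : MvPolynomial (Fin 2) R)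
          (Epoly p (β i) (p ^ i))) *
        Ideal.Quotient.mk (JJ 2 J') (Polynomial.aeval (X 1 : MvPolynomial (Fin 2) R)
          (Epoly p (β i) (p ^ i))) *
        Ideal.Quotient.mk (JJ 2 J') (1 + C (r i) * Sq p R i) := by
      intro i _
      have := Epoly_congr p (β i) i (hβJ i)
      rw [hβ i, ← Ideal.Quotient.eq] at this
      rw [this, map_mul, map_mul]
    rw [Finset.prod_congr rfl hE, Finset.prod_mul_distrib, Finset.prod_mul_distrib]
    simp only [map_mul]
    ring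
  rw [mem_Ug_iff]
  have hinv : (dl R f)⁻¹ = (um (pa (X 0 + X 1)) f)⁻¹ * um (pa (X 0)) f * um (pa (X 1)) f := by
    rw [dl_apply, mul_inv, mul_inv, inv_inv, inv_inv]
  have hW : (((um (pa (X 0 + X 1 : MvPolynomial (Fin 2) R)) f)⁻¹ :
      (MvPolynomial (Fin 2) R)ˣ) : MvPolynomial (Fin 2) R) *
      Polynomial.aeval (X 0 + X 1 : MvPolynomial (Fin 2) R) (f : Polynomial R) = 1 := by
    have := Units.inv_mul (um (pa (X 0 + X 1 : MvPolynomial (Fin 2) R)) f)
    rwa [um_val, pa_apply] at this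
  rw [hinv, Units.val_mul, Units.val_mul, Units.val_mul, um_val, um_val, pa_apply, pa_apply]
  set W := (((um (pa (X 0 + X 1 : MvPolynomial (Fin 2) R)) f)⁻¹ :
      (MvPolynomial (Fin 2) R)ˣ) : MvPolynomial (Fin 2) R)
  have : (u : MvPolynomial (Fin 2) R) * (W * Polynomial.aeval (X 0) (f : Polynomial R) *
      Polynomial.aeval (X 1) (f : Polynomial R)) - 1 =
      -W * (Polynomial.aeval (X 0 + X 1 : MvPolynomial (Fin 2) R) (f : Polynomial R) -
      Polynomial.aeval (X 0 : MvPolynomial (Fin 2) R) (f : Polynomial R) *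
      Polynomial.aeval (X 1 : MvPolynomial (Fin 2) R) (f : Polynomial R) *
        (u : MvPolynomial (Fin 2) R)) := by
    linear_combination hW
  rw [this]
  exact Ideal.mul_mem_left _ _ hclaim

end CharP

end Groth.Agent.Lib.Helper11GaSplit
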