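import Mathlib
import Groth.Agent.Lib.Helper11GaSplitF

namespace Groth.Agent.Lib.Helper11GaSplit

open MvPolynomial Finset Groth.Agent.Lib.Helper11Lazard

variable {R : Type*} [CommRing R]

theorem bernoulli_aux (p : ℕ) : ∀ n : ℕ, p ^ n * (p + n) ≤ (p + 1) ^ n * p := by
  intro n
  induction n with
  | zero => simp
  | succ n ih =>
    calc p ^ (n + 1) * (p + (n + 1)) ≤ (p + 1) * (p ^ n * (p + n)) := by
          rw [pow_succ]; nlinarith [Nat.zero_le (p ^ n)]
      _ ≤ (p + 1) * ((p + 1) ^ n * p) := Nat.mul_le_mul_left _ ih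
      _ = (p + 1) ^ (n + 1) * p := by rw [pow_succ]; ring

theorem bernoulli_nat (p : ℕ) (hp : 0 < p) : p ^ p * 2 ≤ (p + 1) ^ p * 1 := by
  have h := bernoulli_aux p p
  have h2 : p ^ p * (p + p) = (p ^ p * 2) * p := by ring
  rw [h2] at h
  rw [mul_one]
  exact Nat.le_of_mul_le_mul_right h hp

section CharP

variable (p : ℕ) [hp : Fact p.Prime] [CharP R p]

theorem iter (hF : ∀ x : R, ∃ y, y ^ p = x) : ∀ (s : ℕ) (t : R) (e E : ℕ), t ^ E = 0 →
    E ≤ 2 * e → p ^ s * E ≤ (p + 1) ^ s * e → ∀ u : (MvPolynomial (Fin 2) R)ˣ, u ∈ Zg R →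
    u ∈ Ug (Ideal.span ({t ^ e} : Set R)) → u ∈ Bg R := by
  have hp0 : 0 < p := hp.out.pos
  intro s
  induction s with
  | zero =>
    intro t e E htE _ hle u _ hU
    simp only [pow_zero, one_mul] at hle
    have hte : t ^ e = 0 := by
      have : t ^ e = t ^ E * t ^ (e - E) := by rw [← pow_add]; congr 1; omega
      rw [this, htE, zero_mul]
    rw [hte, Ideal.span_singleton_eq_bot.mpr rfl] at hU
    rw [mem_Ug_bot hU]
    exact (Bg R).one_mem
  | succ s ih =>
    intro t e E htE hE2 hle u hZ hU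
    have ht2e : t ^ e * t ^ e = 0 := by
      have : t ^ e * t ^ e = t ^ E * t ^ (2 * e - E) := by
        rw [← pow_add, ← pow_add]; congr 1; omega
      rw [this, htE, zero_mul]
    have hJ : SqZero (Ideal.span ({t ^ e} : Set R)) := by
      intro a ha b hb
      rw [Ideal.mem_span_singleton'] at ha hb
      obtain ⟨x, rfl⟩ := ha
      obtain ⟨y, rfl⟩ := hb
      calc x * t ^ e * (y * t ^ e) = x * y * (t ^ e * t ^ e) := by ring
        _ = 0 := by rw [ht2e, mul_zero]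
    obtain ⟨G, N, r, hG, hG0, hr, hu⟩ := decomp p hJ hZ hU
    have hρ : ∀ i, ∃ ρ, ρ * t ^ e = r i := fun i => Ideal.mem_span_singleton'.mp (hr i)
    choose ρ hρ using hρ
    obtain ⟨τ, hτ⟩ := hF t
    have hσ : ∀ i, ∃ σ, σ ^ p = ρ i := fun i => hF (ρ i)
    choose σ hσ using hσ
    have hβ : ∀ i, (σ i * τ ^ e) ^ p = r i := by
      intro i
      rw [mul_pow, hσ, ← pow_mul, mul_comm e p, pow_mul, hτ, hρ]
    have hβJ : ∀ i, (σ i * τ ^ e) ^ (p + 1) ∈ Ideal.span ({τ ^ ((p + 1) * e)} : Set R) := by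
      intro i
      rw [Ideal.mem_span_singleton']
      exact ⟨σ i ^ (p + 1), by rw [mul_pow, ← pow_mul, mul_comm e (p + 1)]⟩
    obtain ⟨f, hfN, hU'⟩ := iter_step p hJ G hG hG0 N r (fun i => σ i * τ ^ e) hr hβ hβJ u hu
    have hdl : dl R f ∈ Bg R := Subgroup.mem_map_of_mem _ hfN
    have hZ' : u * (dl R f)⁻¹ ∈ Zg R := (Zg R).mul_mem hZ ((Zg R).inv_mem (Bg_le_Zg hdl))
    have hB' : u * (dl R f)⁻¹ ∈ Bg R := by
      apply ih τ ((p + 1) * e) (p * E) _ _ _ _ hZ' hU'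
      · rw [pow_mul, hτ, htE]
      · nlinarith
      · calc p ^ s * (p * E) = p ^ (s + 1) * E := by rw [pow_succ]; ring
          _ ≤ (p + 1) ^ (s + 1) * e := hle
          _ = (p + 1) ^ s * ((p + 1) * e) := by rw [pow_succ]; ring
    have : u = u * (dl R f)⁻¹ * dl R f := by rw [inv_mul_cancel_right]
    rw [this]
    exact (Bg R).mul_mem hB' hdl

/-- the elementary cocycles `1 + r S_i` split -/
theorem heart (hF : ∀ x : R, ∃ y, y ^ p = x) (r : R) (hr : r * r = 0) (i : ℕ) :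
    uS p r hr i ∈ Bg R := by
  apply iter p hF p r 1 2 (by rw [sq]; exact hr) (le_refl _) (bernoulli_nat p hp.out.pos) _
    (uS_mem_Zg p r hr i)
  apply uS_mem_Ug
  rw [pow_one]
  exact Ideal.subset_span rfl

/-- the square-zero case -/
theorem basecase (hF : ∀ x : R, ∃ y, y ^ p = x) {J : Ideal R} (hJ : SqZero J)
    (u : (MvPolynomial (Fin 2) R)ˣ) (hZ : u ∈ Zg R) (hU : u ∈ Ug J) : u ∈ Bg R := by
  obtain ⟨G, N, r, hG, hG0, hr, hu⟩ := decomp p hJ hZ hU
  let fG : (Polynomial R)ˣ := (one_add_G_isUnit hJ G hG hG0).unit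
  have hfG : (fG : Polynomial R) = 1 + G := rfl
  have hfN : fG ∈ N1 R := by
    rw [mem_N1_iff, hfG, Polynomial.eval_add, Polynomial.eval_one,
      ← Polynomial.coeff_zero_eq_eval_zero, hG0, add_zero]
  have hrr : ∀ i, r i * r i = 0 := fun i => hJ _ (hr i) _ (hr i)
  have hclaim : u = dl R fG * ∏ i ∈ range N, uS p (r i) (hrr i) i := by
    ext1
    rw [Units.val_mul, Units.coe_prod, hu, decomp_prod hJ p G hG N r hr]
    congr 1
    rw [dl_apply, Units.val_mul, Units.val_mul, um_val, pa_apply, hfG]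
    have h0 := Units.inv_mul (um (pa (X 0 : MvPolynomial (Fin 2) R)) fG)
    have h1 := Units.inv_mul (um (pa (X 1 : MvPolynomial (Fin 2) R)) fG)
    rw [um_val, pa_apply, hfG, map_add, map_one] at h0 h1
    have hG' := one_add_dplus hJ G hG
    rw [map_add, map_one, hG']
    set V0 := (((um (pa (X 0 : MvPolynomial (Fin 2) R)) fG)⁻¹ : (MvPolynomial (Fin 2) R)ˣ) :
      MvPolynomial (Fin 2) R)
    set V1 := (((um (pa (X 1 : MvPolynomial (Fin 2) R)) fG)⁻¹ : (MvPolynomial (Fin 2) R)ˣ) :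
      MvPolynomial (Fin 2) R)
    linear_combination (-(1 + dplus G) * (V1 * (1 + Polynomial.aeval (X 1) G))) * h0 -
      (1 + dplus G) * h1
  rw [hclaim]
  apply (Bg R).mul_mem (Subgroup.mem_map_of_mem _ hfN)
  apply (Bg R).prod_mem
  intro i _
  exact heart p hF (r i) (hrr i) i

end CharP

end Groth.Agent.Lib.Helper11GaSplit
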