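import Mathlib
import Groth.Agent.Lib.Helper11GaSplitG

namespace Groth.Agent.Lib.Helper11GaSplit

open MvPolynomial Finset Groth.Agent.Lib.Helper11Lazard

variable {R : Type*} [CommRing R] {S : Type*} [CommRing S]

/-- base change of polynomials in `n` variables -/
noncomputable def mpn (n : ℕ) (π : R →+* S) : MvPolynomial (Fin n) R →+* MvPolynomial (Fin n) S :=
  MvPolynomial.map π

/-- base change of one-variable polynomials -/
noncomputable def mp1 (π : R →+* S) : Polynomial R →+* Polynomial S := Polynomial.mapRingHom π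

theorem sb_map {n : ℕ} (π : R →+* S) (a b : MvPolynomial (Fin n) R) :
    (sb (mpn n π a) (mpn n π b)).comp (mpn 2 π) = (mpn n π).comp (sb a b) := by
  apply MvPolynomial.ringHom_ext
  · intro r
    simp [sb, mpn]
  · intro i
    fin_cases i <;> simp [sb, mpn]

theorem pa_map {n : ℕ} (π : R →+* S) (x : MvPolynomial (Fin n) R) :
    (pa (mpn n π x)).comp (mp1 π) = (mpn n π).comp (pa x) := by
  apply Polynomial.ringHom_ext
  · intro r
    simp [pa, mpn, mp1]
  · simp [pa, mpn, mp1]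

theorem um_mpn_sb {n : ℕ} (π : R →+* S) (a b : MvPolynomial (Fin n) R)
    (u : (MvPolynomial (Fin 2) R)ˣ) :
    um (sb (mpn n π a) (mpn n π b)) (um (mpn 2 π) u) = um (mpn n π) (um (sb a b) u) := by
  rw [um_comp, um_comp, sb_map]

theorem mpn_X {n : ℕ} (π : R →+* S) (i : Fin n) : mpn n π (X i) = X i := by simp [mpn]

theorem Zg_map (π : R →+* S) {u : (MvPolynomial (Fin 2) R)ˣ} (hu : u ∈ Zg R) :
    um (mpn 2 π) u ∈ Zg S := by
  obtain ⟨h1, h2, h3⟩ := hu
  refine ⟨?_, ?_, ?_⟩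
  · have := um_mpn_sb π (X 0 : MvPolynomial (Fin 2) R) 0 u
    rw [mpn_X, map_zero] at this
    rw [this, h1, map_one]
  · have := um_mpn_sb π (X 1 : MvPolynomial (Fin 2) R) (X 0) u
    rw [mpn_X, mpn_X] at this
    rw [this, h2]
  · have e1 := um_mpn_sb π (X 1 : MvPolynomial (Fin 3) R) (X 2) u
    have e2 := um_mpn_sb π (X 0 : MvPolynomial (Fin 3) R) (X 1 + X 2) u
    have e3 := um_mpn_sb π (X 0 + X 1 : MvPolynomial (Fin 3) R) (X 2) u
    have e4 := um_mpn_sb π (X 0 : MvPolynomial (Fin 3) R) (X 1) u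
    simp only [map_add, mpn_X] at e1 e2 e3 e4
    rw [e1, e2, e3, e4, ← map_mul, ← map_mul, h3]

theorem um_mpn_dl (π : R →+* S) (f : (Polynomial R)ˣ) :
    um (mpn 2 π) (dl R f) = dl S (um (mp1 π) f) := by
  rw [dl_apply, dl_apply, map_mul, map_mul, map_inv, map_inv]
  have e : ∀ x : MvPolynomial (Fin 2) R,
      um (mpn 2 π) (um (pa x) f) = um (pa (mpn 2 π x)) (um (mp1 π) f) := by
    intro x
    rw [um_comp, um_comp, pa_map]
  rw [e, e, e, map_add, mpn_X, mpn_X]

theorem N1_map (π : R →+* S) {f : (Polynomial R)ˣ} (hf : f ∈ N1 R) : um (mp1 π) f ∈ N1 S := by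
  rw [mem_N1_iff] at hf ⊢
  rw [um_val]
  change (Polynomial.map π (f : Polynomial R)).eval 0 = 1
  rw [← Polynomial.coeff_zero_eq_eval_zero, Polynomial.coeff_map,
    Polynomial.coeff_zero_eq_eval_zero, hf, map_one]

theorem Ug_map (π : R →+* S) {J : Ideal R} {u : (MvPolynomial (Fin 2) R)ˣ} (hu : u ∈ Ug J) :
    um (mpn 2 π) u ∈ Ug (J.map π) := by
  rw [mem_Ug_iff, mem_JJ_iff] at hu ⊢
  intro m
  rw [um_val]
  have : mpn 2 π (u : MvPolynomial (Fin 2) R) - 1 = mpn 2 π ((u : MvPolynomial (Fin 2) R) - 1) := by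
    rw [map_sub, map_one]
  rw [this]
  change coeff m (MvPolynomial.map π _) ∈ _
  rw [coeff_map]
  exact Ideal.mem_map_of_mem _ (hu m)

theorem Ug_of_map_eq_one (π : R →+* S) {u : (MvPolynomial (Fin 2) R)ˣ}
    (hu : um (mpn 2 π) u = 1) : u ∈ Ug (RingHom.ker π) := by
  rw [mem_Ug_iff, mem_JJ_iff]
  intro m
  rw [RingHom.mem_ker, ← coeff_map]
  have h := congrArg (fun v : (MvPolynomial (Fin 2) S)ˣ => (v : MvPolynomial (Fin 2) S)) hu
  simp only [um_val, Units.val_one] at h
  change mpn 2 π (u : MvPolynomial (Fin 2) R) = 1 at h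
  have : MvPolynomial.map π ((u : MvPolynomial (Fin 2) R) - 1) = 0 := by
    rw [map_sub, map_one]
    change mpn 2 π (u : MvPolynomial (Fin 2) R) - 1 = 0
    rw [h, sub_self]
  rw [this, coeff_zero]

/-- lifting normalized unit polynomials along a surjection with nil kernel -/
theorem lift_N1 (π : R →+* S) (hπ : Function.Surjective π)
    (hker : ∀ x, π x = 0 → IsNilpotent x) (g : (Polynomial S)ˣ) (hg : g ∈ N1 S) :
    ∃ f : (Polynomial R)ˣ, f ∈ N1 R ∧ um (mp1 π) f = g := by
  obtain ⟨g0, hg0⟩ := Polynomial.map_surjective π hπ (g : Polynomial S)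
  rw [mem_N1_iff, ← Polynomial.coeff_zero_eq_eval_zero] at hg
  set f0 : Polynomial R := g0 - Polynomial.C (g0.coeff 0) + 1 with hf0
  have hmap : Polynomial.map π f0 = (g : Polynomial S) := by
    rw [hf0, Polynomial.map_add, Polynomial.map_sub, Polynomial.map_C, Polynomial.map_one, hg0]
    have : π (g0.coeff 0) = 1 := by rw [← Polynomial.coeff_map, hg0, hg]
    rw [this, Polynomial.C_1]; ring
  have hc0 : f0.coeff 0 = 1 := by
    rw [hf0]; simp
  have hci : ∀ i, i ≠ 0 → f0.coeff i = g0.coeff i := by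
    intro i hi
    rw [hf0]
    simp [Polynomial.coeff_C, hi, Polynomial.coeff_one]
  have hunit : IsUnit f0 := by
    apply Polynomial.isUnit_of_coeff_isUnit_isNilpotent
    · rw [hc0]; exact isUnit_one
    · intro i hi
      rw [hci i hi]
      have hgi : IsNilpotent ((g : Polynomial S).coeff i) :=
        (Polynomial.isUnit_iff_coeff_isUnit_isNilpotent.mp g.isUnit).2 i hi
      rw [← hg0, Polynomial.coeff_map] at hgi
      obtain ⟨n, hn⟩ := hgi
      rw [← map_pow] at hn
      obtain ⟨k, hk⟩ := hker _ hn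
      exact ⟨n * k, by rw [pow_mul, hk]⟩
  refine ⟨hunit.unit, ?_, ?_⟩
  · rw [mem_N1_iff, ← Polynomial.coeff_zero_eq_eval_zero]
    exact hc0
  · ext1
    rw [um_val]
    exact hmap

end Groth.Agent.Lib.Helper11GaSplit
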