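import Mathlib
import Groth.Agent.Lib.Helper11GaSplitH

namespace Groth.Agent.Lib.Helper11GaSplit

open MvPolynomial Finset Groth.Agent.Lib.Helper11Lazard

universe u

variable {R : Type u} [CommRing R]

section CharP

variable (p : ℕ) [hp : Fact p.Prime] [CharP R p]

theorem charP_quotient (𝔞 : Ideal R) (h𝔞 : 𝔞 ≠ ⊤) : CharP (R ⧸ 𝔞) p := by
  apply CharP.quotient' p 𝔞
  intro x hx
  by_cases hpx : p ∣ x
  · exact (CharP.cast_eq_zero_iff R p x).mpr hpx
  · exfalso
    apply h𝔞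
    exact Ideal.eq_top_of_isUnit_mem _ hx (isUnit_cast_of_not_dvd p hpx)

/-- the main induction: successive approximation along powers of a nilpotent ideal -/
theorem approx (hF : ∀ x : R, ∃ y, y ^ p = x) (I : Ideal R) (N : ℕ) (hN : I ^ N = ⊥)
    (u : (MvPolynomial (Fin 2) R)ˣ) (hZ : u ∈ Zg R) (hU : u ∈ Ug I) :
    ∀ k : ℕ, 1 ≤ k → ∃ f : (Polynomial R)ˣ, f ∈ N1 R ∧ u * (dl R f)⁻¹ ∈ Ug (I ^ k) := by
  have : Nontrivial R := CharP.nontrivial_of_char_ne_one (v := p) hp.out.ne_one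
  have hItop : I ≠ ⊤ := by
    intro h
    rw [h, Ideal.top_pow] at hN
    exact top_ne_bot hN
  intro k hk
  induction k, hk using Nat.le_induction with
  | base =>
    refine ⟨1, (N1 R).one_mem, ?_⟩
    rw [map_one, inv_one, mul_one, pow_one]
    exact hU
  | succ k hk ih =>
    obtain ⟨f, hfN, hUk⟩ := ih
    set uk := u * (dl R f)⁻¹ with huk
    have hZk : uk ∈ Zg R :=
      (Zg R).mul_mem hZ ((Zg R).inv_mem (Bg_le_Zg (Subgroup.mem_map_of_mem _ hfN)))
    set 𝔞 : Ideal R := I ^ (k + 1) with h𝔞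
    have h𝔞top : 𝔞 ≠ ⊤ := by
      intro h
      apply hItop
      rw [eq_top_iff, ← h]
      exact Ideal.pow_le_self (by omega)
    have : CharP (R ⧸ 𝔞) p := charP_quotient p 𝔞 h𝔞top
    set π : R →+* R ⧸ 𝔞 := Ideal.Quotient.mk 𝔞 with hπ
    have hπs : Function.Surjective π := Ideal.Quotient.mk_surjective
    have hFq : ∀ x : R ⧸ 𝔞, ∃ y, y ^ p = x := by
      intro x
      obtain ⟨x0, rfl⟩ := hπs x
      obtain ⟨y0, hy0⟩ := hF x0
      exact ⟨π y0, by rw [← map_pow, hy0]⟩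
    have hsq : SqZero ((I ^ k).map π) := by
      intro a ha b hb
      rw [Ideal.mem_map_iff_of_surjective π hπs] at ha hb
      obtain ⟨a0, ha0, rfl⟩ := ha
      obtain ⟨b0, hb0, rfl⟩ := hb
      rw [← map_mul, hπ, Ideal.Quotient.eq_zero_iff_mem, h𝔞]
      have h1 : a0 * b0 ∈ I ^ k * I ^ k := Ideal.mul_mem_mul ha0 hb0
      rw [← pow_add] at h1
      exact Ideal.pow_le_pow_right (by omega) h1
    have hB := basecase p hFq hsq (um (mpn 2 π) uk) (Zg_map π hZk) (Ug_map π hUk)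
    obtain ⟨g, hgN, hg⟩ := hB
    have hker : ∀ x, π x = 0 → IsNilpotent x := by
      intro x hx
      rw [hπ, Ideal.Quotient.eq_zero_iff_mem, h𝔞] at hx
      have hxI : x ∈ I := Ideal.pow_le_self (by omega) hx
      refine ⟨N, ?_⟩
      have : x ^ N ∈ I ^ N := Ideal.pow_mem_pow hxI N
      rw [hN, Ideal.mem_bot] at this
      exact this
    obtain ⟨f', hf'N, hf'⟩ := lift_N1 π hπs hker g hgN
    refine ⟨f * f', (N1 R).mul_mem hfN hf'N, ?_⟩
    have hker' : RingHom.ker π = 𝔞 := by rw [hπ, Ideal.mk_ker]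
    change u * (dl R (f * f'))⁻¹ ∈ Ug 𝔞
    rw [← hker']
    apply Ug_of_map_eq_one
    have : u * (dl R (f * f'))⁻¹ = uk * (dl R f')⁻¹ := by
      rw [huk, map_mul, mul_inv, mul_assoc]
    rw [this, map_mul, map_inv, um_mpn_dl, hf', hg, mul_inv_cancel]

/-- the splitting theorem in the unit group -/
theorem mem_Bg (hF : ∀ x : R, ∃ y, y ^ p = x) (I : Ideal R) (N : ℕ) (hN : I ^ N = ⊥)
    (u : (MvPolynomial (Fin 2) R)ˣ) (hZ : u ∈ Zg R) (hU : u ∈ Ug I) : u ∈ Bg R := by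
  have : Nontrivial R := CharP.nontrivial_of_char_ne_one (v := p) hp.out.ne_one
  have hN1 : 1 ≤ N := by
    rcases Nat.eq_zero_or_pos N with h | h
    · subst h
      rw [pow_zero, Ideal.one_eq_top] at hN
      exact absurd hN top_ne_bot
    · exact h
  obtain ⟨f, hfN, hUf⟩ := approx p hF I N hN u hZ hU N hN1
  rw [hN] at hUf
  have h1 := mem_Ug_bot hUf
  have : u = dl R f := by
    rw [mul_inv_eq_one] at h1
    exact h1
  rw [this]
  exact Subgroup.mem_map_of_mem _ hfN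

end CharP

end Groth.Agent.Lib.Helper11GaSplit
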