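import Groth.Agent.Lib.Helper11Cfg

/-!
Tools for configurations of arbitrary size: lower bounds for the rows of the
criterion `no_subharmonic`, and window embeddings.
-/

namespace Groth.Agent.Lib.Helper11

open Finset Models

variable {n : ℕ} (T : Models.NumericalType n)

section
variable {k : ℕ} (v : Fin k ↪ Fin n)

theorem row_sub_le (c : Fin k → ℤ) (hc : ∀ q, 0 ≤ c q) (p : Fin k) (s : Finset (Fin k))
    (hp : p ∈ s) :
    ∑ q ∈ s, kk T (v p) (v q) * c q ≤ ∑ q, kk T (v p) (v q) * c q := by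
  refine Finset.sum_le_sum_of_subset_of_nonneg (Finset.subset_univ _) ?_
  intro q _ hq
  have hne : p ≠ q := fun h => hq (h ▸ hp)
  exact mul_nonneg (K_nonneg T v hne) (hc q)

theorem row_ge_one (hv : ∀ j, T.IsMinusTwo (v j)) (c : Fin k → ℤ) (hc : ∀ q, 0 ≤ c q)
    (p q1 : Fin k) (h1 : p ≠ q1) :
    -2 * c p + kk T (v p) (v q1) * c q1 ≤ ∑ q, kk T (v p) (v q) * c q := by
  have h := row_sub_le T v c hc p {p, q1} (by simp)
  rw [Finset.sum_pair h1, kk_minusTwo T (hv p)] at h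
  exact h

theorem row_ge_two (hv : ∀ j, T.IsMinusTwo (v j)) (c : Fin k → ℤ) (hc : ∀ q, 0 ≤ c q)
    (p q1 q2 : Fin k) (h1 : p ≠ q1) (h2 : p ≠ q2) (h12 : q1 ≠ q2) :
    -2 * c p + kk T (v p) (v q1) * c q1 + kk T (v p) (v q2) * c q2
      ≤ ∑ q, kk T (v p) (v q) * c q := by
  have h := row_sub_le T v c hc p {p, q1, q2} (by simp)
  rw [Finset.sum_insert (by simp [h1, h2]), Finset.sum_pair h12, kk_minusTwo T (hv p)] at h
  linarith

theorem row_ge_three (hv : ∀ j, T.IsMinusTwo (v j)) (c : Fin k → ℤ) (hc : ∀ q, 0 ≤ c q)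
    (p q1 q2 q3 : Fin k) (h1 : p ≠ q1) (h2 : p ≠ q2) (h3 : p ≠ q3)
    (h12 : q1 ≠ q2) (h13 : q1 ≠ q3) (h23 : q2 ≠ q3) :
    -2 * c p + kk T (v p) (v q1) * c q1 + kk T (v p) (v q2) * c q2 + kk T (v p) (v q3) * c q3
      ≤ ∑ q, kk T (v p) (v q) * c q := by
  have h := row_sub_le T v c hc p {p, q1, q2, q3} (by simp)
  rw [Finset.sum_insert (by simp [h1, h2, h3]), Finset.sum_insert (by simp [h12, h13]),
    Finset.sum_pair h23, kk_minusTwo T (hv p)] at h
  linarith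

end

/-- the window `j, j+1, …, j+k-1` inside `Fin t` -/
def shiftEmb (k j t : ℕ) (h : j + k ≤ t) : Fin k ↪ Fin t :=
  ⟨fun i => ⟨j + i.val, by omega⟩, fun a b hab => by
    simp only [Fin.mk.injEq] at hab
    exact Fin.ext (by omega)⟩

@[simp] theorem shiftEmb_apply (k j t : ℕ) (h : j + k ≤ t) (i : Fin k) :
    shiftEmb k j t h i = ⟨j + i.val, by omega⟩ := rfl


/-- the embedding of three distinct elements -/
def emb3 {α : Type*} (a b c : α) (hab : a ≠ b) (hac : a ≠ c) (hbc : b ≠ c) : Fin 3 ↪ α :=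
  ⟨![a, b, c], by
    intro i j hij
    fin_cases i <;> fin_cases j <;> simp_all⟩

/-- the embedding of four distinct elements -/
def emb4 {α : Type*} (a b c d : α) (hab : a ≠ b) (hac : a ≠ c) (had : a ≠ d) (hbc : b ≠ c)
    (hbd : b ≠ d) (hcd : c ≠ d) : Fin 4 ↪ α :=
  ⟨![a, b, c, d], by
    intro i j hij
    fin_cases i <;> fin_cases j <;> simp_all⟩

end Groth.Agent.Lib.Helper11
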