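import Mathlib
import Groth.Agent.Lib.Helper2GenFree

/-!
Helper library (helper11): generic flatness for morphisms of finite type, in stalk form.
-/

set_option autoImplicit false
universe u
open CategoryTheory CategoryTheory.Limits AlgebraicGeometry TopologicalSpace

namespace Groth.Agent.Lib.Helper11GenFlat

open Groth.Agent.Lib.Helper2.GenFree

/-- (after helper2) a module free away from `f` has flat localization at the powers of `f` -/
theorem flat_of_freeAway {R : Type*} [CommRing R] {M : Type*} [AddCommGroup M] [Module R M] {f : R}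
    (h : FreeAway R f M) {M' : Type*} [AddCommGroup M'] [Module R M'] (g : M →ₗ[R] M')
    [IsLocalizedModule (Submonoid.powers f) g] : Module.Flat R M' := by
  let _ : Module (Localization.Away f) M' :=
    (IsLocalizedModule.iso (Submonoid.powers f) g).symm.toAddEquiv.module (Localization.Away f)
  have : IsScalarTower R (Localization.Away f) M' :=
    (IsLocalizedModule.iso (Submonoid.powers f) g).symm.isScalarTower (Localization.Away f)
  have : Module.Free (Localization.Away f) M' := h.free (Localization.Away f) g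
  have : Module.Flat R (Localization.Away f) := IsLocalization.flat _ (Submonoid.powers f)
  exact Module.Flat.trans R (Localization.Away f) M'

theorem flat_of_freeAway_of_isLocalization {R S S' : Type u} [CommRing R] [CommRing S]
    [CommRing S'] [Algebra R S] [Algebra S S'] [Algebra R S'] [IsScalarTower R S S'] (a : R)
    (h : FreeAway R a S) [hloc : IsLocalization.Away (algebraMap R S a) S'] : Module.Flat R S' := by
  have : IsLocalization (Algebra.algebraMapSubmonoid S (Submonoid.powers a)) S' := by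
    rw [Algebra.algebraMapSubmonoid_powers]
    exact hloc
  exact flat_of_freeAway h (IsScalarTower.toAlgHom R S S').toLinearMap

/-- flatness of `f` at the points of an affine open `U` from flatness of the ring map `appLE` -/
theorem flat_stalkMap_of_flat_appLE {X Y : Scheme.{u}} (f : X ⟶ Y) {V : Y.Opens}
    (hV : IsAffineOpen V) {U : X.Opens} (hU : IsAffineOpen U) (e : U ≤ f ⁻¹ᵁ V)
    (h : (f.appLE V U e).hom.Flat) (x : X) (hx : x ∈ U) : (f.stalkMap x).hom.Flat := by
  have hres : Flat (f.resLE V U e) := by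
    have : IsAffine V.toScheme := hV
    have : IsAffine U.toScheme := hU
    rw [HasRingHomProperty.iff_of_isAffine (P := @Flat)]
    exact (RingHom.Flat.respectsIso.arrow_mk_iso_iff (arrowResLEAppIso f V U e)).mpr h
  have hcomp : Flat (U.ι ≫ f) := by
    rw [← Scheme.Hom.resLE_comp_ι f e]
    infer_instance
  have h1 := Flat.stalkMap (U.ι ≫ f) ⟨x, hx⟩
  rw [Scheme.Hom.stalkMap_comp] at h1
  exact (RingHom.Flat.respectsIso.cancel_right_isIso _ (U.ι.stalkMap ⟨x, hx⟩)).mp h1

/-- **Generic flatness** (stalk form): for a quasi-compact morphism locally of finite type `u : X ⟶ Y`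
and an affine open `V` of the reduced scheme `Y` whose ring of sections is a domain, there is a
nonzero section `A` over `V` such that `u` is flat at all points over `D(A)`. -/
theorem exists_flat_stalkMap {X Y : Scheme.{u}} (u : X ⟶ Y) [LocallyOfFiniteType u]
    [QuasiCompact u] (V : Y.Opens) (hV : IsAffineOpen V) [IsDomain Γ(Y, V)] :
    ∃ A : Γ(Y, V), A ≠ 0 ∧ ∀ x : X, u.base x ∈ Y.basicOpen A → (u.stalkMap x).hom.Flat := by
  classical
  have hc : IsCompact ((u ⁻¹ᵁ V : X.Opens) : Set X) := u.isCompact_preimage hV.isCompact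
  obtain ⟨s, hs, hsU⟩ := isCompact_iff_finite_and_eq_biUnion_affineOpens.1 hc
  have hle : ∀ W ∈ s, (W : X.Opens) ≤ u ⁻¹ᵁ V := by
    intro W hW
    rw [hsU]
    exact le_iSup₂ (f := fun (i : X.affineOpens) (_ : i ∈ s) => (i : X.Opens)) W hW
  have key : ∀ W : X.affineOpens, ∀ hW : W ∈ s, ∃ a : Γ(Y, V), a ≠ 0 ∧
      @FreeAway Γ(Y, V) _ a Γ(X, W.1) _ (u.appLE V W.1 (hle W hW)).hom.toAlgebra.toModule := by
    intro W hW
    let _ : Algebra Γ(Y, V) Γ(X, W.1) := (u.appLE V W.1 (hle W hW)).hom.toAlgebra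
    have : Algebra.FiniteType Γ(Y, V) Γ(X, W.1) :=
      (HasRingHomProperty.iff_appLE (P := @LocallyOfFiniteType)).1 inferInstance ⟨V, hV⟩ W
        (hle W hW)
    obtain ⟨a, ha0, hS, -, -, -⟩ := exists_freeAway Γ(Y, V) Γ(X, W.1) Γ(X, W.1)
    exact ⟨a, ha0, hS⟩
  let a : X.affineOpens → Γ(Y, V) := fun W => if hW : W ∈ s then (key W hW).choose else 1
  have ha0 : ∀ W, a W ≠ 0 := by
    intro W
    by_cases hW : W ∈ s
    · simp only [a, dif_pos hW]; exact (key W hW).choose_spec.1
    · simp only [a, dif_neg hW]; exact one_ne_zero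
  have haF : ∀ W, ∀ hW : W ∈ s,
      @FreeAway Γ(Y, V) _ (a W) Γ(X, W.1) _
        (u.appLE V W.1 (hle W hW)).hom.toAlgebra.toModule := by
    intro W hW
    simp only [a, dif_pos hW]; exact (key W hW).choose_spec.2
  let A : Γ(Y, V) := ∏ W ∈ hs.toFinset, a W
  have hA0 : A ≠ 0 := Finset.prod_ne_zero_iff.2 fun W _ => ha0 W
  refine ⟨A, hA0, fun x hx => ?_⟩
  have hxV : x ∈ u ⁻¹ᵁ V := Y.basicOpen_le A hx
  rw [hsU] at hxV
  obtain ⟨W, hxW⟩ := Opens.mem_iSup.1 hxV
  obtain ⟨hW, hxW⟩ := Opens.mem_iSup.1 hxW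
  have e := hle W hW
  obtain ⟨A', hA'⟩ : ∃ A', A' = (u.appLE V W.1 e).hom A := ⟨_, rfl⟩
  have hU' : IsAffineOpen (X.basicOpen A') := W.2.basicOpen A'
  have e' : X.basicOpen A' ≤ u ⁻¹ᵁ V := (X.basicOpen_le A').trans e
  have hxU' : x ∈ X.basicOpen A' := by
    rw [hA', Scheme.basicOpen_appLE]
    exact ⟨hxW, hx⟩
  refine flat_stalkMap_of_flat_appLE u hV hU' e' ?_ x hxU'
  let _ : Algebra Γ(Y, V) Γ(X, W.1) := (u.appLE V W.1 e).hom.toAlgebra
  let _ : Algebra Γ(Y, V) Γ(X, X.basicOpen A') := (u.appLE V (X.basicOpen A') e').hom.toAlgebra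
  have htower : IsScalarTower Γ(Y, V) Γ(X, W.1) Γ(X, X.basicOpen A') := by
    apply IsScalarTower.of_algebraMap_eq'
    rw [RingHom.algebraMap_toAlgebra, RingHom.algebraMap_toAlgebra, RingHom.algebraMap_toAlgebra,
      ← CommRingCat.hom_comp, Scheme.Hom.appLE_map]
  have hFA : FreeAway Γ(Y, V) A Γ(X, W.1) := by
    have h1 := haF W hW
    have h2 : A = a W * ∏ W' ∈ hs.toFinset.erase W, a W' :=
      (Finset.mul_prod_erase _ _ (hs.mem_toFinset.2 hW)).symm
    rw [h2]
    exact h1.mul_right _
  have hloc : IsLocalization.Away (algebraMap Γ(Y, V) Γ(X, W.1) A) Γ(X, X.basicOpen A') := by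
    subst hA'
    exact W.2.isLocalization_basicOpen _
  have hflat : Module.Flat Γ(Y, V) Γ(X, X.basicOpen A') :=
    flat_of_freeAway_of_isLocalization A hFA
  exact hflat

/-- a nonempty reduced scheme with Noetherian underlying space has a nonempty affine open whose
ring of sections is a domain -/
theorem exists_affineOpen_isDomain (Y : Scheme.{u}) [IsReduced Y] [Nonempty Y] [NoetherianSpace Y] :
    ∃ V : Y.Opens, IsAffineOpen V ∧ (V : Set Y).Nonempty ∧ IsDomain Γ(Y, V) := by
  obtain ⟨x⟩ := (inferInstance : Nonempty Y)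
  let U : Y.Opens :=
    ⟨(⋃₀ (irreducibleComponents Y \ {irreducibleComponent x}))ᶜ, by
      rw [Set.sUnion_eq_biUnion, isOpen_compl_iff]
      exact TopologicalSpace.NoetherianSpace.finite_irreducibleComponents.sdiff.isClosed_biUnion
        fun W hW ↦ isClosed_of_mem_irreducibleComponents W hW.1⟩
  have hU : closure (U : Set Y) = irreducibleComponent x :=
    closure_sUnion_irreducibleComponents_sdiff_singleton
      TopologicalSpace.NoetherianSpace.finite_irreducibleComponents
      _ (irreducibleComponent_mem_irreducibleComponents x)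
  have hirr : IrreducibleSpace U := isIrreducible_iff_irreducibleSpace.mp
    (isIrreducible_iff_closure.mp (hU ▸ isIrreducible_irreducibleComponent))
  have hint : AlgebraicGeometry.IsIntegral U := isIntegral_of_irreducibleSpace_of_isReduced _
  obtain ⟨z⟩ := (inferInstance : Nonempty U)
  obtain ⟨_, ⟨V', hV', rfl⟩, hzV', -⟩ :=
    U.toScheme.isBasis_affineOpens.exists_subset_of_mem_open (Set.mem_univ z) isOpen_univ
  have hne : Nonempty V' := ⟨⟨z, hzV'⟩⟩
  have hdom : IsDomain Γ(U, V') := inferInstance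
  refine ⟨U.ι ''ᵁ V', hV'.image_of_isOpenImmersion U.ι, ⟨U.ι z, z, hzV', rfl⟩, ?_⟩
  exact MulEquiv.isDomain Γ(U, V') (U.ι.appIso V').commRingCatIsoToRingEquiv.toMulEquiv

/-- **Generic flatness**: a quasi-compact morphism locally of finite type to a nonempty reduced
scheme with Noetherian underlying space is flat over a nonempty open subset of the target. -/
theorem exists_open_flat {X Y : Scheme.{u}} (u : X ⟶ Y) [LocallyOfFiniteType u] [QuasiCompact u]
    [IsReduced Y] [Nonempty Y] [NoetherianSpace Y] :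
    ∃ V' : Y.Opens, (V' : Set Y).Nonempty ∧ Flat ((u ⁻¹ᵁ V').ι ≫ u) := by
  obtain ⟨V, hV, -, hdom⟩ := exists_affineOpen_isDomain Y
  obtain ⟨A, hA0, hA⟩ := exists_flat_stalkMap u V hV
  refine ⟨Y.basicOpen A, ?_, ?_⟩
  · by_contra hne
    have hbot : Y.basicOpen A = ⊥ := by
      ext z
      simp only [Opens.coe_bot, Set.mem_empty_iff_false, iff_false]
      exact fun hz => hne ⟨z, hz⟩
    exact hA0 ((AlgebraicGeometry.basicOpen_eq_bot_iff A).1 hbot)
  · rw [Flat.iff_flat_stalkMap]
    intro z
    rw [Scheme.Hom.stalkMap_comp]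
    exact (RingHom.Flat.respectsIso.cancel_right_isIso _
      ((u ⁻¹ᵁ Y.basicOpen A).ι.stalkMap z)).mpr (hA _ z.2)

end Groth.Agent.Lib.Helper11GenFlat
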