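import Mathlib
import Groth.Prelude.Def_Grpd
import Groth.Agent.Lib.Helper2Grpd
import Groth.Agent.Lib.Helper11GrpdRat
import Groth.Agent.Lib.Helper11CompMin
import Groth.Agent.Lib.Helper6SepCl2

/-!
# The component of a groupoid on a field through the identity is geometrically irreducible
(helper11)
-/

set_option autoImplicit false
set_option linter.style.haveILetI false
set_option linter.unusedSectionVars false
universe u

open CategoryTheory CategoryTheory.Limits AlgebraicGeometry

namespace Groth.Agent.Lib.Helper11.GeomIrrPt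

section Top

variable {X' X : Type*} [TopologicalSpace X'] [TopologicalSpace X] [QuasiSober X'] [QuasiSober X]

/-- the preimage of the unique component through `x₀` under a closed generizing map whose fibre
over `x₀` is a single point through which only one component passes. -/
theorem isIrreducible_preimage_of_unique_component
    (p : X' → X) (hc : Continuous p) (hcl : IsClosedMap p) (hg : GeneralizingMap p)
    (Z : Set X) (hZ : Z ∈ irreducibleComponents X) (x₀ : X)
    (hi : ∀ Z' ∈ irreducibleComponents X, x₀ ∈ Z' → Z' = Z)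
    (w : X') (hw : p w = x₀) (hw' : ∀ w', p w' = x₀ → w' = w)
    (hii : ∀ C₁ ∈ irreducibleComponents X', ∀ C₂ ∈ irreducibleComponents X',
      w ∈ C₁ → w ∈ C₂ → C₁ = C₂) :
    IsIrreducible (p ⁻¹' Z) := by
  have hZc : IsClosed Z := isClosed_of_mem_irreducibleComponents Z hZ
  have hx₀ : x₀ ∈ Z := by
    have := hi (irreducibleComponent x₀) (irreducibleComponent_mem_irreducibleComponents x₀)
      mem_irreducibleComponent
    rw [← this]
    exact mem_irreducibleComponent
  have key : p ⁻¹' Z = irreducibleComponent w := by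
    apply Set.Subset.antisymm
    · intro x hx
      obtain ⟨η, hη⟩ := QuasiSober.sober hZ.1 hZc
      have hηx : η ⤳ p x := hη.specializes hx
      obtain ⟨x', hx'x, hx'η⟩ := hg hηx
      -- the component through x'
      set C' := irreducibleComponent x' with hC'
      have hC'm : C' ∈ irreducibleComponents X' := irreducibleComponent_mem_irreducibleComponents x'
      have hC'c : IsClosed C' := isClosed_irreducibleComponent
      have hxC' : x ∈ C' := hx'x.mem_closed hC'c mem_irreducibleComponent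
      obtain ⟨ξ, hξ⟩ := QuasiSober.sober hC'm.1 hC'c
      have hξx' : ξ ⤳ x' := hξ.specializes mem_irreducibleComponent
      have hpξ : p ξ ⤳ η := by
        rw [← hx'η]
        exact hξx'.map hc
      -- closure {p ξ} = Z
      have hsub : Z ⊆ closure {p ξ} := by
        rw [← hη.def]
        exact closure_minimal (Set.singleton_subset_iff.mpr (specializes_iff_mem_closure.mp hpξ))
          isClosed_closure
      have hirr : IsIrreducible (closure {p ξ}) := isIrreducible_singleton.closure
      have heq : closure {p ξ} = Z := Set.Subset.antisymm (hZ.2 hirr hsub) hsub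
      -- p '' C' = Z
      have himg : p '' C' = Z := by
        rw [← hξ.def, ← hcl.closure_image_eq_of_continuous hc, Set.image_singleton, heq]
      have : x₀ ∈ p '' C' := by rw [himg]; exact hx₀
      obtain ⟨c, hc', hcx⟩ := this
      have hcw : c = w := hw' c hcx
      rw [hcw] at hc'
      have := hii C' hC'm (irreducibleComponent w)
        (irreducibleComponent_mem_irreducibleComponents w) hc' mem_irreducibleComponent
      rw [← this]
      exact hxC'
    · -- the image of the component is irreducible and contains x₀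
      have hirr : IsIrreducible (p '' irreducibleComponent w) :=
        isIrreducible_irreducibleComponent.image p hc.continuousOn
      obtain ⟨Z', hZ', hsub, hmax⟩ := exists_preirreducible _ hirr.2
      have hx₀Z' : x₀ ∈ Z' := hsub ⟨w, mem_irreducibleComponent, hw⟩
      have hZ'm : Z' ∈ irreducibleComponents X :=
        ⟨⟨⟨x₀, hx₀Z'⟩, hZ'⟩, fun T hT hZT => (hmax T hT.2 hZT).le⟩
      have hZ'Z : Z' = Z := hi Z' hZ'm hx₀Z'
      intro x hx
      exact hZ'Z ▸ hsub ⟨x, hx, rfl⟩
  rw [key]
  exact isIrreducible_irreducibleComponent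

end Top

section Inv

open Groth.Agent.Lib.Helper2.Grpd

variable {S : Scheme.{u}} (G : Grpd.GroupoidScheme S)

theorem i_i : G.i ≫ G.i = 𝟙 G.R := by
  have h1 : ((𝟙 G.R ≫ G.i) ≫ G.i) ≫ G.s = (𝟙 G.R ≫ G.i) ≫ G.t := by
    simp only [Category.assoc, G.i_s]
  have h2 : (𝟙 G.R ≫ G.i) ≫ G.s = 𝟙 G.R ≫ G.t := by
    simp only [Category.assoc, G.i_s]
  have h3 : ((𝟙 G.R ≫ G.i) ≫ G.i) ≫ G.s = comp G (𝟙 G.R ≫ G.i) (𝟙 G.R) h2 ≫ G.t := by
    rw [comp_t]; exact h1
  have e1 := i_comp_comp G (𝟙 G.R ≫ G.i) (𝟙 G.R) h2 h3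
  have e2 := i_comp G (𝟙 G.R) h2
  have e3 := comp_congr G h3 rfl e2
  rw [e3] at e1
  have hs : ((𝟙 G.R ≫ G.i) ≫ G.i) ≫ G.s = 𝟙 G.R ≫ G.s := by
    simp only [Category.assoc, G.i_s, G.i_t]
  have e4 := comp_e G ((𝟙 G.R ≫ G.i) ≫ G.i) (𝟙 G.R ≫ G.s ≫ G.e)
    (by simp only [Category.assoc, Category.id_comp, reassoc_of% G.i_s, reassoc_of% G.i_t])
    (by simp only [Category.assoc, G.e_t, Category.comp_id, G.i_s, G.i_t])
  rw [e4] at e1
  simpa only [Category.id_comp] using e1

theorem e_i : G.e ≫ G.i = G.e := by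
  have h2 : (G.e ≫ G.i) ≫ G.s = G.e ≫ G.t := by
    simp only [Category.assoc, G.i_s]
  have e2 := i_comp G G.e h2
  have hs : (G.e ≫ G.i) ≫ G.s = 𝟙 _ := by
    simp only [Category.assoc, G.i_s, G.e_t]
  have e4 := comp_e G (G.e ≫ G.i) G.e
    (by simp only [Category.assoc, reassoc_of% G.i_s, reassoc_of% G.e_t])
    (by simp only [Category.assoc, G.e_t, G.i_s])
  rw [e4] at e2
  rw [e2, reassoc_of% G.e_s]

instance : IsIso G.i := ⟨G.i, i_i G, i_i G⟩

end Inv

section Rational

open Groth.Agent.Lib.Helper2.Grpd GrpdRat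

variable {S : Scheme.{u}} (G : Grpd.GroupoidScheme S)

/-- over a separably closed field, at most one irreducible component of the restriction
passes through a rational point. -/
theorem components_eq_of_rational_sepClosed (k' : Type u) [Field k'] [IsSepClosed k']
    (g : Spec (CommRingCat.of k') ⟶ G.U) (x₀ : Spec (CommRingCat.of k') ⟶ R' G g)
    (hα : x₀ ≫ α G g = 𝟙 _) (b : Spec (CommRingCat.of k') ≅ Spec (CommRingCat.of k'))
    (hβ : x₀ ≫ β G g = b.hom)
    (Z₁ : Set (R' G g)) (h₁ : Z₁ ∈ irreducibleComponents (R' G g)) (Z₂ : Set (R' G g))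
    (h₂ : Z₂ ∈ irreducibleComponents (R' G g))
    (hx₁ : x₀ (IsLocalRing.closedPoint k') ∈ Z₁) (hx₂ : x₀ (IsLocalRing.closedPoint k') ∈ Z₂) :
    Z₁ = Z₂ := by
  haveI hsub : Subsingleton (Spec (CommRingCat.of k')) :=
    inferInstanceAs (Subsingleton (PrimeSpectrum k'))
  let C₁ : TopologicalSpace.Closeds (R' G g) := ⟨Z₁, isClosed_of_mem_irreducibleComponents Z₁ h₁⟩
  let C₂ : TopologicalSpace.Closeds (R' G g) := ⟨Z₂, isClosed_of_mem_irreducibleComponents Z₂ h₂⟩
  haveI : IrreducibleSpace (Scheme.IdealSheafData.vanishingIdeal C₁).subscheme :=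
    GrpdRat.irreducibleSpace_subscheme C₁ h₁.1
  haveI : IrreducibleSpace (Scheme.IdealSheafData.vanishingIdeal C₂).subscheme :=
    GrpdRat.irreducibleSpace_subscheme C₂ h₂.1
  have hr₁ : Set.range x₀ ⊆ (C₁ : Set (R' G g)) := by
    rintro _ ⟨d, rfl⟩
    rw [Subsingleton.elim d (IsLocalRing.closedPoint k')]
    exact hx₁
  have hr₂ : Set.range x₀ ⊆ (C₂ : Set (R' G g)) := by
    rintro _ ⟨d, rfl⟩
    rw [Subsingleton.elim d (IsLocalRing.closedPoint k')]
    exact hx₂
  obtain ⟨z₀, hz₀⟩ := Groth.Agent.Lib.Helper11RedCl.exists_lift_of_range_subset x₀ C₁ hr₁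
  obtain ⟨y₀, hy₀⟩ := Groth.Agent.Lib.Helper11RedCl.exists_lift_of_range_subset x₀ C₂ hr₂
  let ιX := (Scheme.IdealSheafData.vanishingIdeal C₁).subschemeι
  let ιY := (Scheme.IdealSheafData.vanishingIdeal C₂).subschemeι
  obtain ⟨σX, hσX⟩ := exists_sectX x₀ hα b hβ ιX ιY y₀ hy₀
  obtain ⟨σY, hσY⟩ := exists_sectY x₀ hα b hβ ιX ιY z₀ hz₀
  -- irreducibility of the fibre product
  haveI : IrreducibleSpace (Q b ιX ιY) := by
    letI : (Scheme.IdealSheafData.vanishingIdeal C₁).subscheme.Over (Spec (CommRingCat.of k')) :=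
      ⟨ιX ≫ β G g ≫ b.inv⟩
    haveI : GeometricallyIrreducible (ιX ≫ β G g ≫ b.inv) :=
      Groth.Agent.Lib.Helper6.SepCl.geometricallyIrreducible_of_isSepClosed k'
        (Scheme.IdealSheafData.vanishingIdeal C₁).subscheme
    haveI : UniversallyOpen (ιX ≫ β G g ≫ b.inv) := inferInstance
    infer_instance
  have hirr : IsIrreducible (closure (Set.range (μ x₀ hα b hβ ιX ιY))) := by
    apply IsIrreducible.closure
    rw [← Set.image_univ]
    exact (IrreducibleSpace.isIrreducible_univ _).image _ (μ x₀ hα b hβ ιX ιY).continuous.continuousOn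
  have hs₁ : Z₁ ⊆ closure (Set.range (μ x₀ hα b hβ ιX ιY)) := by
    refine subset_trans ?_ subset_closure
    intro z hz
    have : z ∈ Set.range ιX := by
      rw [Groth.Agent.Lib.Helper11RedCl.range_subschemeι_vanishingIdeal]
      exact hz
    obtain ⟨w, rfl⟩ := this
    refine ⟨σX w, ?_⟩
    rw [← Scheme.Hom.comp_apply, hσX]
  have hs₂ : Z₂ ⊆ closure (Set.range (μ x₀ hα b hβ ιX ιY)) := by
    refine subset_trans ?_ subset_closure
    intro z hz
    have : z ∈ Set.range ιY := by
      rw [Groth.Agent.Lib.Helper11RedCl.range_subschemeι_vanishingIdeal]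
      exact hz
    obtain ⟨w, rfl⟩ := this
    refine ⟨σY w, ?_⟩
    rw [← Scheme.Hom.comp_apply, hσY]
  exact (Set.Subset.antisymm hs₁ (h₁.2 hirr hs₁)).trans
    (Set.Subset.antisymm hs₂ (h₂.2 hirr hs₂)).symm

end Rational

section Main

open Groth.Agent.Lib.Helper2.Grpd GrpdRat

variable {S : Scheme.{u}} (G : Grpd.GroupoidScheme S) (k : Type u) [Field k]
  (eU : G.U ≅ Spec (CommRingCat.of k)) (K : Type u) [Field K] [Algebra k K]

/-- the structure map of the big field to `U`. -/
noncomputable def g' : Spec (CommRingCat.of K) ⟶ G.U :=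
  Spec.map (CommRingCat.ofHom (algebraMap k K)) ≫ eU.inv

/-- the identity section of `Spec K ×_U R`. -/
noncomputable def σ : Spec (CommRingCat.of K) ⟶ pullback (g' G k eU K) G.t :=
  pullback.lift (𝟙 _) (g' G k eU K ≫ G.e) (by rw [Category.id_comp, Category.assoc, G.e_t, Category.comp_id])

/-- the identity point of the restriction. -/
noncomputable def x₀ : Spec (CommRingCat.of K) ⟶ R' G (g' G k eU K) :=
  mk (𝟙 _) (g' G k eU K ≫ G.e) (𝟙 _)
    (by rw [Category.id_comp, Category.assoc, G.e_t, Category.comp_id])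
    (by rw [Category.id_comp, Category.assoc, G.e_s, Category.comp_id])

theorem x₀_fst : x₀ G k eU K ≫ pullback.fst _ _ = σ G k eU K := by
  unfold x₀ σ mk
  rw [pullback.lift_fst]

theorem subsingleton_fibre :
    Subsingleton ↥(pullback (pullback.snd (g' G k eU K) G.t) (eU.inv ≫ G.e)) := by
  haveI : IsIso ((eU.inv ≫ G.e) ≫ G.t) := by
    rw [Category.assoc, G.e_t, Category.comp_id]; infer_instance
  haveI hsub : Subsingleton (Spec (CommRingCat.of K)) :=
    inferInstanceAs (Subsingleton (PrimeSpectrum K))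
  let e1 := pullbackLeftPullbackSndIso (g' G k eU K) G.t (eU.inv ≫ G.e)
  let e2 := asIso (pullback.fst (g' G k eU K) ((eU.inv ≫ G.e) ≫ G.t))
  exact ((e1 ≪≫ e2).hom.homeomorph).subsingleton

theorem σ_snd_apply : (pullback.snd (g' G k eU K) G.t) (σ G k eU K (IsLocalRing.closedPoint K)) =
    G.e (eU.inv (IsLocalRing.closedPoint k)) := by
  haveI hsub : Subsingleton (Spec (CommRingCat.of k)) :=
    inferInstanceAs (Subsingleton (PrimeSpectrum k))
  rw [← Scheme.Hom.comp_apply]
  unfold σ
  rw [pullback.lift_snd]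
  unfold g'
  rw [Scheme.Hom.comp_apply, Scheme.Hom.comp_apply]
  congr 2
  exact Subsingleton.elim _ _

theorem fibre_unique (w' : ↥(pullback (g' G k eU K) G.t))
    (h : (pullback.snd (g' G k eU K) G.t) w' = G.e (eU.inv (IsLocalRing.closedPoint k))) :
    w' = σ G k eU K (IsLocalRing.closedPoint K) := by
  haveI := subsingleton_fibre G k eU K
  have h1 : (pullback.snd (g' G k eU K) G.t) w' = (eU.inv ≫ G.e) (IsLocalRing.closedPoint k) := by
    rw [h, Scheme.Hom.comp_apply]
  have h2 : (pullback.snd (g' G k eU K) G.t) (σ G k eU K (IsLocalRing.closedPoint K)) =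
      (eU.inv ≫ G.e) (IsLocalRing.closedPoint k) := by
    rw [σ_snd_apply, Scheme.Hom.comp_apply]
  obtain ⟨z, hz, -⟩ := Scheme.Pullback.exists_preimage_pullback _ _ h1
  obtain ⟨z', hz', -⟩ := Scheme.Pullback.exists_preimage_pullback _ _ h2
  rw [← hz, ← hz', Subsingleton.elim z z']

theorem components_unique_at_σ [IsSepClosed K]
    (C₁ : Set ↥(pullback (g' G k eU K) G.t))
    (h₁ : C₁ ∈ irreducibleComponents ↥(pullback (g' G k eU K) G.t))
    (C₂ : Set ↥(pullback (g' G k eU K) G.t))
    (h₂ : C₂ ∈ irreducibleComponents ↥(pullback (g' G k eU K) G.t))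
    (hw₁ : σ G k eU K (IsLocalRing.closedPoint K) ∈ C₁)
    (hw₂ : σ G k eU K (IsLocalRing.closedPoint K) ∈ C₂) : C₁ = C₂ := by
  have hα : x₀ G k eU K ≫ α G (g' G k eU K) = 𝟙 _ := by
    unfold x₀; exact mk_α _ _ _ _ _
  have hβ : x₀ G k eU K ≫ β G (g' G k eU K) = (Iso.refl _).hom := by
    unfold x₀; exact mk_β _ _ _ _ _
  have hcomp := components_eq_of_rational_sepClosed G K (g' G k eU K) (x₀ G k eU K) hα
    (Iso.refl _) hβ
  have hmin := CompMin.minimalPrimes_subsingleton_of_components
    (x₀ G k eU K (IsLocalRing.closedPoint K))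
    (fun Z₁ h₁ Z₂ h₂ hx₁ hx₂ => hcomp Z₁ h₁ Z₂ h₂ hx₁ hx₂)
  haveI : Flat (g' G k eU K) := by
    unfold g'; infer_instance
  have hfl := CompMin.minimalPrimes_subsingleton_of_flat_hom
    (pullback.fst (pullback.snd (g' G k eU K) G.t ≫ G.s) (g' G k eU K))
    (x₀ G k eU K (IsLocalRing.closedPoint K)) hmin
  have e : (pullback.fst (pullback.snd (g' G k eU K) G.t ≫ G.s) (g' G k eU K))
      (x₀ G k eU K (IsLocalRing.closedPoint K)) = σ G k eU K (IsLocalRing.closedPoint K) := by
    rw [← Scheme.Hom.comp_apply, x₀_fst]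
  rw [e] at hfl
  exact CompMin.components_unique_of_minimalPrimes_subsingleton _ hfl C₁ h₁ C₂ h₂ hw₁ hw₂

theorem isIrreducible_preimage [IsSepClosed K] [Algebra.IsAlgebraic k K]
    (h1 : ∀ r : G.R, (minimalPrimes (G.R.presheaf.stalk r)).Subsingleton)
    (Zs : Set G.R) (hZ : Zs ∈ irreducibleComponents G.R)
    (he : G.e (eU.inv (IsLocalRing.closedPoint k)) ∈ Zs) :
    IsIrreducible ((pullback.snd (g' G k eU K) G.t) ⁻¹' Zs) := by
  haveI : Flat (g' G k eU K) := by
    unfold g'; infer_instance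
  haveI : IsIntegralHom (g' G k eU K) := by
    unfold g'
    haveI : IsIntegralHom (Spec.map (CommRingCat.ofHom (algebraMap k K))) := by
      rw [IsIntegralHom.SpecMap_iff]
      exact algebraMap_isIntegral_iff.mpr inferInstance
    infer_instance
  refine isIrreducible_preimage_of_unique_component (pullback.snd (g' G k eU K) G.t)
    (pullback.snd (g' G k eU K) G.t).continuous (pullback.snd (g' G k eU K) G.t).isClosedMap
    (Flat.generalizingMap _) Zs hZ (G.e (eU.inv (IsLocalRing.closedPoint k))) ?_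
    (σ G k eU K (IsLocalRing.closedPoint K)) (σ_snd_apply G k eU K) (fibre_unique G k eU K)
    (components_unique_at_σ G k eU K)
  intro Z' hZ' hx
  exact CompMin.components_unique_of_minimalPrimes_subsingleton _ (h1 _) Z' hZ' Zs hZ hx he

theorem irreducibleSpace_of_isClosedImmersion {A B : Scheme.{u}} (f : A ⟶ B) [IsClosedImmersion f]
    (h : IsIrreducible (Set.range f)) : IrreducibleSpace A := by
  have hemb : Topology.IsEmbedding f := f.isEmbedding
  haveI : IrreducibleSpace (Set.range f) := Subtype.irreducibleSpace h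
  exact hemb.toHomeomorph.irreducibleSpace_iff.mpr inferInstance

theorem isPullback_bc {Z : Scheme.{u}} (ι : Z ⟶ G.R) :
    IsPullback (pullback.fst (ι ≫ G.t ≫ eU.hom) (Spec.map (CommRingCat.ofHom (algebraMap k K))))
      (pullback.lift (pullback.snd (ι ≫ G.t ≫ eU.hom) (Spec.map (CommRingCat.ofHom (algebraMap k K))))
        (pullback.fst (ι ≫ G.t ≫ eU.hom) (Spec.map (CommRingCat.ofHom (algebraMap k K))) ≫ ι)
        (by
          unfold g'
          rw [← pullback.condition_assoc]
          simp only [Category.assoc, Iso.hom_inv_id, Category.comp_id]))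
      ι (pullback.snd (g' G k eU K) G.t) := by
  have hbig : IsPullback
      (pullback.fst (ι ≫ G.t ≫ eU.hom) (Spec.map (CommRingCat.ofHom (algebraMap k K))))
      (pullback.snd (ι ≫ G.t ≫ eU.hom) (Spec.map (CommRingCat.ofHom (algebraMap k K))))
      (ι ≫ G.t) (g' G k eU K) := by
    refine (IsPullback.of_hasPullback (ι ≫ G.t ≫ eU.hom)
      (Spec.map (CommRingCat.ofHom (algebraMap k K)))).of_iso (Iso.refl _) (Iso.refl _) (Iso.refl _)
      eU.symm ?_ ?_ ?_ ?_
    · simp
    · simp
    · simp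
    · simp [g']
  refine IsPullback.of_bot ?_ ?_ (IsPullback.of_hasPullback (g' G k eU K) G.t).flip
  · rw [pullback.lift_fst]
    exact hbig
  · rw [pullback.lift_snd]

theorem irreducibleSpace_bc [IsSepClosed K] [Algebra.IsAlgebraic k K]
    (h1 : ∀ r : G.R, (minimalPrimes (G.R.presheaf.stalk r)).Subsingleton)
    {Z : Scheme.{u}} (ι : Z ⟶ G.R) [IsClosedImmersion ι]
    (hZ : Set.range ι ∈ irreducibleComponents G.R)
    (he : G.e (eU.inv (IsLocalRing.closedPoint k)) ∈ Set.range ι) :
    IrreducibleSpace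
      ↥(pullback (ι ≫ G.t ≫ eU.hom) (Spec.map (CommRingCat.ofHom (algebraMap k K)))) := by
  have hpb := isPullback_bc G k eU K ι
  have hirr := isIrreducible_preimage G k eU K h1 (Set.range ι) hZ he
  set j := (pullback.lift (pullback.snd (ι ≫ G.t ≫ eU.hom) (Spec.map (CommRingCat.ofHom (algebraMap k K))))
        (pullback.fst (ι ≫ G.t ≫ eU.hom) (Spec.map (CommRingCat.ofHom (algebraMap k K))) ≫ ι)
        (by
          unfold g'
          rw [← pullback.condition_assoc]
          simp only [Category.assoc, Iso.hom_inv_id, Category.comp_id]) :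
      pullback (ι ≫ G.t ≫ eU.hom) (Spec.map (CommRingCat.ofHom (algebraMap k K))) ⟶
        pullback (g' G k eU K) G.t) with hj
  haveI : IsClosedImmersion j := MorphismProperty.of_isPullback (P := @IsClosedImmersion) hpb
    inferInstance
  have hr : Set.range j = (pullback.snd (g' G k eU K) G.t) ⁻¹' Set.range ι := by
    apply Set.Subset.antisymm
    · rintro _ ⟨z, rfl⟩
      exact ⟨(pullback.fst (ι ≫ G.t ≫ eU.hom) (Spec.map (CommRingCat.ofHom (algebraMap k K)))) z,
        by rw [← Scheme.Hom.comp_apply, ← Scheme.Hom.comp_apply, hpb.w]⟩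
    · rintro x ⟨z, hz⟩
      obtain ⟨y, -, hy2⟩ := Scheme.Pullback.exists_preimage_pullback z x hz
      refine ⟨hpb.isoPullback.inv y, ?_⟩
      rw [← Scheme.Hom.comp_apply, hpb.isoPullback_inv_snd]
      exact hy2
  exact irreducibleSpace_of_isClosedImmersion j (hr ▸ hirr)

end Main

end Groth.Agent.Lib.Helper11.GeomIrrPt
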