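import Mathlib
import Groth.Prelude
import Groth.Agent.Lib.Helper12Act
import Groth.Agent.Lib.Helper12QuotSh

/-!
# The orbit presheaf of a group action and local relatedness in the quotient sheaf (helper11)
-/

set_option autoImplicit false
set_option linter.style.haveILetI false
set_option linter.unusedSectionVars false
universe u

open CategoryTheory CategoryTheory.Limits MonoidalCategory CartesianMonoidalCategory MonObj
  AlgebraicGeometry Opposite

namespace Groth.Agent.Lib.Helper11.OrbitSh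

open Groth.Agent.Lib.Helper12

variable {S : Scheme.{u}} {G X : Over S} [GrpObj G] (a : AlgGrp.Action G X)

/-- the orbit relation on `T`-points. -/
def orbRel (T : Over S) (x y : ULift.{u + 1} (T ⟶ X)) : Prop :=
  ∃ g : T ⟶ G, x.down = lift g y.down ≫ a.act

theorem orbRel_equiv (T : Over S) : Equivalence (orbRel a T) where
  refl x := ⟨1, (act_one a _).symm⟩
  symm := by
    rintro x y ⟨g, h⟩
    refine ⟨g⁻¹, ?_⟩
    rw [h, ← act_mul, inv_mul_cancel, act_one]
  trans := by
    rintro x y z ⟨g, h⟩ ⟨g', h'⟩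
    exact ⟨g * g', by rw [h, h', act_mul]⟩

/-- the orbit setoid. -/
def orbSetoid (T : Over S) : Setoid (ULift.{u + 1} (T ⟶ X)) := ⟨orbRel a T, orbRel_equiv a T⟩

/-- restriction of orbits. -/
def orbMap {T T' : Over S} (f : T' ⟶ T) :
    Quotient (orbSetoid a T) → Quotient (orbSetoid a T') :=
  Quotient.map (fun x : ULift.{u + 1} (T ⟶ X) => (ULift.up (f ≫ x.down) : ULift.{u + 1} (T' ⟶ X)))
    (by
      rintro x y ⟨g, h⟩
      refine ⟨f ≫ g, ?_⟩
      change f ≫ x.down = _
      rw [h, comp_lift_act])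

theorem orbMap_mk {T T' : Over S} (f : T' ⟶ T) (x : ULift.{u + 1} (T ⟶ X)) :
    orbMap a f (Quotient.mk _ x) = Quotient.mk _ (ULift.up (f ≫ x.down)) := rfl

/-- the presheaf of orbits. -/
def orbPresheaf : (Over S)ᵒᵖ ⥤ Type (u + 1) where
  obj T := Quotient (orbSetoid a T.unop)
  map {T T'} f := TypeCat.ofHom (orbMap a f.unop)
  map_id T := by
    ext x
    induction x using Quotient.inductionOn with
    | h x =>
      change orbMap a (𝟙 _) (Quotient.mk _ x) = Quotient.mk _ x
      rw [orbMap_mk, Category.id_comp]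
  map_comp f g := by
    ext x
    induction x using Quotient.inductionOn with
    | h x =>
      change orbMap a (g.unop ≫ f.unop) (Quotient.mk _ x) =
        orbMap a g.unop (orbMap a f.unop (Quotient.mk _ x))
      rw [orbMap_mk, orbMap_mk, orbMap_mk, Category.assoc]

/-- the quotient map to the presheaf of orbits. -/
def orbπ : yoneda.obj X ⋙ uliftFunctor.{u + 1, u} ⟶ orbPresheaf a where
  app T := TypeCat.ofHom (fun x => Quotient.mk (orbSetoid a T.unop) x)
  naturality T T' f := by
    ext x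
    rfl

variable (K : Precoverage Scheme.{u})

/-- the sheafified orbit presheaf. -/
noncomputable abbrev orbSheaf : QuotSh.Sh K S :=
  (presheafToSheaf (QuotSh.J K S) (Type (u + 1))).obj (orbPresheaf a)

/-- the map of sheaves `h_X ⟶ (orbits)^#`. -/
noncomputable def orbSh : QuotSh.rep K X ⟶ orbSheaf a K :=
  (presheafToSheaf (QuotSh.J K S) (Type (u + 1))).map (orbπ a)

theorem orbπ_coeq :
    Functor.whiskerRight (yoneda.map a.act) uliftFunctor.{u + 1, u} ≫ orbπ a =
      Functor.whiskerRight (yoneda.map (snd G X)) uliftFunctor.{u + 1, u} ≫ orbπ a := by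
  ext T x
  apply Quotient.sound
  refine ⟨x.down ≫ fst G X, ?_⟩
  change x.down ≫ a.act = lift (x.down ≫ fst G X) (x.down ≫ snd G X) ≫ a.act
  congr 1
  apply CartesianMonoidalCategory.hom_ext <;> simp

theorem orbSh_coeq :
    QuotSh.repMap K a.act ≫ orbSh a K = QuotSh.repMap K (snd G X) ≫ orbSh a K := by
  unfold orbSh QuotSh.repMap
  rw [← Functor.map_comp, ← Functor.map_comp, orbπ_coeq]

/-- two points of `X` with the same image in the quotient are locally in the same orbit. -/
theorem locally_related {Y : Over S} (q : X ⟶ Y)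
    (hq : QuotSh.IsQuotient K a.act (snd G X) q) {T : Over S} (x₁ x₂ : T ⟶ X)
    (h : x₁ ≫ q = x₂ ≫ q) :
    ∃ R ∈ QuotSh.J K S T, ∀ ⦃T' : Over S⦄ (f : T' ⟶ T), R f →
      ∃ g : T' ⟶ G, f ≫ x₁ = lift g (f ≫ x₂) ≫ a.act := by
  obtain ⟨w, hiso⟩ := hq
  let d : QuotSh.quot K a.act (snd G X) ⟶ orbSheaf a K :=
    coequalizer.desc (orbSh a K) (orbSh_coeq a K)
  have hd : QuotSh.quotπ K a.act (snd G X) ≫ d = orbSh a K := coequalizer.π_desc _ _
  have hπ : QuotSh.quotπ K a.act (snd G X) ≫ QuotSh.quotDesc K q w = QuotSh.repMap K q :=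
    coequalizer.π_desc _ _
  let e : QuotSh.rep K Y ⟶ orbSheaf a K := inv (QuotSh.quotDesc K q w) ≫ d
  have he : QuotSh.repMap K q ≫ e = orbSh a K := by
    rw [← hπ, Category.assoc, IsIso.hom_inv_id_assoc, hd]
  let J := QuotSh.J K S
  let yX := yoneda.obj X ⋙ uliftFunctor.{u + 1, u}
  let yY := yoneda.obj Y ⋙ uliftFunctor.{u + 1, u}
  let P := orbPresheaf a
  have n1 : orbπ a ≫ toSheafify J P = toSheafify J yX ≫ (orbSh a K).hom :=
    toSheafify_naturality J (orbπ a)
  have n2 : Functor.whiskerRight (yoneda.map q) uliftFunctor.{u + 1, u} ≫ toSheafify J yY =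
      toSheafify J yX ≫ (QuotSh.repMap K q).hom :=
    toSheafify_naturality J _
  have he' : (QuotSh.repMap K q).hom ≫ e.hom = (orbSh a K).hom := by
    rw [← he]; rfl
  have key : ∀ x : T ⟶ X, (toSheafify J P).app (op T) ((orbπ a).app (op T) (ULift.up x)) =
      e.hom.app (op T) ((toSheafify J yY).app (op T) (ULift.up (x ≫ q))) := by
    intro x
    have h1 := congrArg (fun φ => φ.app (op T) (ULift.up x)) n1
    have h2 := congrArg (fun φ => e.hom.app (op T) (φ.app (op T) (ULift.up x))) n2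
    have h3 := congrArg (fun φ => φ.app (op T) ((toSheafify J yX).app (op T) (ULift.up x))) he'
    simp only [NatTrans.comp_app, ConcreteCategory.comp_apply] at h1 h2 h3
    rw [h1, ← h3, ← h2]
    rfl
  have heq : (toSheafify J P).app (op T) ((orbπ a).app (op T) (ULift.up x₁)) =
      (toSheafify J P).app (op T) ((orbπ a).app (op T) (ULift.up x₂)) := by
    rw [key, key, h]
  have hmem := Presheaf.equalizerSieve_mem J (toSheafify J P) _ _ heq
  refine ⟨_, hmem, fun T' f hf => ?_⟩
  have hf' : P.map f.op ((orbπ a).app (op T) (ULift.up x₁)) =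
      P.map f.op ((orbπ a).app (op T) (ULift.up x₂)) := hf
  have hf'' : (Quotient.mk (orbSetoid a T') (ULift.up (f ≫ x₁)) : Quotient (orbSetoid a T')) =
      Quotient.mk (orbSetoid a T') (ULift.up (f ≫ x₂)) := hf'
  exact Quotient.exact hf''

/-- version with a `K`-covering of the underlying scheme. -/
theorem locally_related' [K.IsStableUnderComposition] [K.IsStableUnderBaseChange] [K.HasIsos]
    {Y : Over S} (q : X ⟶ Y)
    (hq : QuotSh.IsQuotient K a.act (snd G X) q) {T : Over S} (x₁ x₂ : T ⟶ X)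
    (h : x₁ ≫ q = x₂ ≫ q) :
    ∃ R ∈ K T.left, ∀ ⦃V : Scheme.{u}⦄ (p : V ⟶ T.left), R p →
      ∃ g : Over.mk (p ≫ T.hom) ⟶ G,
        (Over.homMk p rfl : Over.mk (p ≫ T.hom) ⟶ T) ≫ x₁ =
          lift g ((Over.homMk p rfl : Over.mk (p ≫ T.hom) ⟶ T) ≫ x₂) ≫ a.act := by
  obtain ⟨R₀, hR₀, hrel⟩ := locally_related a K q hq x₁ x₂ h
  rw [GrothendieckTopology.mem_over_iff,
    Precoverage.mem_toGrothendieck_iff_of_isStableUnderComposition] at hR₀
  obtain ⟨R, hR, hle⟩ := hR₀
  refine ⟨R, hR, fun V p hp => ?_⟩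
  have h4 := hle _ _ hp
  rw [Sieve.overEquiv_iff] at h4
  exact hrel _ h4

end Groth.Agent.Lib.Helper11.OrbitSh
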