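import Mathlib.AlgebraicGeometry.Morphisms.FlatDescent
import Mathlib.AlgebraicGeometry.Morphisms.Flat
import Mathlib.AlgebraicGeometry.Morphisms.QuasiSeparated
import Mathlib.AlgebraicGeometry.Morphisms.Affine

/-!
Helper library (helper12): fpqc descent of affine morphisms.
-/

set_option autoImplicit false
universe u

open CategoryTheory Limits MorphismProperty AlgebraicGeometry

namespace Groth.Agent.Lib.Helper12

/-- If `p : P ⟶ Y` is a surjective affine morphism from an affine scheme, `Y` is quasi-compact. -/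
lemma compactSpace_of_surjective {P Y : Scheme.{u}} (p : P ⟶ Y) [Surjective p] [CompactSpace P] :
    CompactSpace Y :=
  p.surjective.compactSpace p.continuous

/-- If `p : P ⟶ Y` is a surjective affine morphism from an affine scheme, `Y` is quasi-separated. -/
lemma quasiSeparatedSpace_of_surjective_of_isAffineHom {P Y : Scheme.{u}} (p : P ⟶ Y) [Surjective p]
    [IsAffineHom p] [IsAffine P] : QuasiSeparatedSpace Y := by
  rw [quasiSeparatedSpace_iff_forall_affineOpens]
  intro U V
  have hU : IsAffineOpen (p ⁻¹ᵁ U.1) := U.2.preimage p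
  have hV : IsAffineOpen (p ⁻¹ᵁ V.1) := V.2.preimage p
  have hc : IsCompact ((p ⁻¹ᵁ U.1 : Set P) ∩ (p ⁻¹ᵁ V.1 : Set P)) :=
    QuasiSeparatedSpace.inter_isCompact _ _ (p ⁻¹ᵁ U.1).2 hU.isCompact (p ⁻¹ᵁ V.1).2 hV.isCompact
  have himg : p.base '' ((p ⁻¹ᵁ U.1 : Set P) ∩ (p ⁻¹ᵁ V.1 : Set P)) = (U ∩ V : Set Y) := by
    ext y
    constructor
    · rintro ⟨x, ⟨hx1, hx2⟩, rfl⟩
      exact ⟨hx1, hx2⟩
    · rintro ⟨hy1, hy2⟩
      obtain ⟨x, rfl⟩ := p.surjective y
      exact ⟨x, ⟨hy1, hy2⟩, rfl⟩
  rw [← himg]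
  exact hc.image p.continuous

lemma appLE_top_top {X Y : Scheme.{u}} (f : X ⟶ Y) (e : (⊤ : X.Opens) ≤ f ⁻¹ᵁ ⊤) :
    f.appLE ⊤ ⊤ e = f.appTop := by
  rw [Scheme.Hom.appLE]
  have : (homOfLE e).op = 𝟙 (Opposite.op (⊤ : X.Opens)) := Subsingleton.elim _ _
  rw [this]
  erw [X.presheaf.map_id, Category.comp_id]


/-- flat base change of global sections, in `appTop` form. -/
lemma isPushout_appTop {X Y S T : Scheme.{u}} {f : T ⟶ S} {g : Y ⟶ X} {iX : X ⟶ S} {iY : Y ⟶ T}
    (H : IsPullback g iY iX f) [Flat f] [IsAffine S] [IsAffine T] [CompactSpace X]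
    [QuasiSeparatedSpace X] :
    IsPushout iX.appTop f.appTop g.appTop iY.appTop := by
  have hUY : (⊤ : Y.Opens) = g ⁻¹ᵁ ⊤ ⊓ iY ⁻¹ᵁ ⊤ := by simp
  have hiso := isIso_pushoutSection_of_isQuasiSeparated_of_flat_right H (US := ⊤) (UT := ⊤)
    (UX := ⊤) le_top le_top hUY (isAffineOpen_top S) (isAffineOpen_top T)
    isCompact_univ isQuasiSeparated_univ
  have := (isIso_pushoutSection_iff H _ _ hUY).mp hiso
  rw [appLE_top_top g, appLE_top_top iY] at this
  have h1 : Scheme.Hom.appLE iX ⊤ ⊤ le_top = iX.appTop := appLE_top_top iX _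
  have h2 : Scheme.Hom.appLE f ⊤ ⊤ le_top = f.appTop := appLE_top_top f _
  rw [h1, h2] at this
  exact this

lemma isAffine_of_isPullback {X Y S T : Scheme.{u}} {f : T ⟶ S} {g : Y ⟶ X} {iX : X ⟶ S}
    {iY : Y ⟶ T} (H : IsPullback g iY iX f) [Flat f] [Surjective f] [IsAffine S] [IsAffine T]
    [IsAffine Y] : IsAffine X := by
  have hgaff : IsAffineHom g := MorphismProperty.of_isPullback (P := @IsAffineHom) H.flip
    (inferInstance : IsAffineHom f)
  have hgsurj : Surjective g := MorphismProperty.of_isPullback (P := @Surjective) H.flip ‹_›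
  have hcpt : CompactSpace X := compactSpace_of_surjective g
  have hqs : QuasiSeparatedSpace X := quasiSeparatedSpace_of_surjective_of_isAffineHom g
  have hpo := isPushout_appTop H
  have bottom : IsPullback (Spec.map g.appTop) (Spec.map iY.appTop) (Spec.map iX.appTop)
      (Spec.map f.appTop) := (hpo.op.map Scheme.Spec).flip
  have big : IsPullback g (Y.toSpecΓ ≫ Spec.map iY.appTop) (X.toSpecΓ ≫ Spec.map iX.appTop)
      (Spec.map f.appTop) := by
    rw [← Scheme.toSpecΓ_naturality, ← Scheme.toSpecΓ_naturality]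
    exact IsPullback.of_iso H (Iso.refl _) (Iso.refl _) (asIso T.toSpecΓ) (asIso S.toSpecΓ)
      (by simp) (by simp) (by simp) (by simp [Scheme.toSpecΓ_naturality])
  have top : IsPullback g Y.toSpecΓ X.toSpecΓ (Spec.map g.appTop) :=
    IsPullback.of_bot big (Scheme.toSpecΓ_naturality g) bottom
  have hQ : (@Surjective ⊓ @Flat ⊓ @QuasiCompact : MorphismProperty Scheme.{u})
      (Spec.map g.appTop) := by
    have hf' : (@Surjective ⊓ @Flat ⊓ @QuasiCompact : MorphismProperty Scheme.{u})
        (Spec.map f.appTop) := by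
      have e : Spec.map f.appTop = inv T.toSpecΓ ≫ f ≫ S.toSpecΓ := by
        rw [Scheme.toSpecΓ_naturality, IsIso.inv_hom_id_assoc]
      rw [e]
      refine ⟨⟨inferInstance, inferInstance⟩, inferInstance⟩
    obtain ⟨⟨h1, h2⟩, h3⟩ := hf'
    exact ⟨⟨MorphismProperty.of_isPullback (P := @Surjective) bottom.flip h1,
      MorphismProperty.of_isPullback (P := @Flat) bottom.flip h2⟩,
      MorphismProperty.of_isPullback (P := @QuasiCompact) bottom.flip h3⟩
  constructor
  exact MorphismProperty.of_isPullback_of_descendsAlong (P := isomorphisms Scheme.{u})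
    (Q := @Surjective ⊓ @Flat ⊓ @QuasiCompact) top.flip hQ (inferInstanceAs (IsIso Y.toSpecΓ))

set_option backward.isDefEq.respectTransparency.types false in
/-- Being an affine morphism satisfies fpqc descent. -/
theorem descendsAlong_isAffineHom :
    DescendsAlong @IsAffineHom
      (@Surjective ⊓ @Flat ⊓ @QuasiCompact : MorphismProperty Scheme.{u}) := by
  apply IsZariskiLocalAtTarget.descendsAlong_inf_quasiCompact
  · rw [inf_comm]
    exact inf_le_inf le_rfl (IsLocalIso.le_of_isZariskiLocalAtSource _)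
  intro R S Y φ g h hfst
  have hfst' : IsAffineHom (pullback.fst (Spec.map φ) g) := hfst
  have : IsAffine (pullback (Spec.map φ) g) := isAffine_of_isAffineHom (pullback.fst _ _)
  have : Flat (Spec.map φ) := h.2
  have : Surjective (Spec.map φ) := h.1
  have : IsAffine Y := isAffine_of_isPullback (IsPullback.of_hasPullback (Spec.map φ) g).flip
  change IsAffineHom g
  infer_instance

end Groth.Agent.Lib.Helper12
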