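import Groth.Agent.Lib.Helper12Submersive
import Mathlib.AlgebraicGeometry.Morphisms.Flat

/-!
Helper library (helper12): more on universally submersive morphisms: composition, fpqc and
universally closed surjective morphisms are universally submersive, cancellation.
-/

set_option autoImplicit false
universe u
open CategoryTheory Limits MorphismProperty AlgebraicGeometry

namespace Groth.Agent.Lib.Helper12.Submersive

instance : (topologically fun {α β} [TopologicalSpace α] [TopologicalSpace β] (f : α → β) =>
    Topology.IsQuotientMap f : MorphismProperty Scheme.{u}).IsStableUnderComposition where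
  comp_mem f g hf hg := Topology.IsQuotientMap.comp (f := f.base) (g := g.base) hg hf

instance : (US.{u}).IsStableUnderComposition := by
  unfold US; infer_instance

/-- a flat quasi-compact surjective morphism is universally submersive -/
lemma us_of_flat {X Y : Scheme.{u}} (f : X ⟶ Y) [Flat f] [QuasiCompact f] [Surjective f] :
    US f := by
  intro X' Y' i₁ i₂ f' sq
  have h1 : Flat f' := MorphismProperty.of_isPullback sq.flip inferInstance
  have h2 : QuasiCompact f' := MorphismProperty.of_isPullback sq.flip inferInstance
  have h3 : Surjective f' := MorphismProperty.of_isPullback sq.flip inferInstance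
  exact Flat.isQuotientMap_of_surjective f'

/-- a universally closed surjective morphism is universally submersive -/
lemma us_of_universallyClosed {X Y : Scheme.{u}} (f : X ⟶ Y) [UniversallyClosed f]
    [Surjective f] : US f := by
  intro X' Y' i₁ i₂ f' sq
  have h1 : UniversallyClosed f' := MorphismProperty.of_isPullback sq.flip inferInstance
  have h3 : Surjective f' := MorphismProperty.of_isPullback sq.flip inferInstance
  exact f'.isClosedMap.isQuotientMap f'.continuous f'.surjective

/-- if a composite is universally submersive, so is the second morphism -/
lemma us_of_comp {X Y Z : Scheme.{u}} (a : X ⟶ Y) (b : Y ⟶ Z) (h : US (a ≫ b)) : US b := by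
  intro Y' Z' i₁ i₂ b' sq
  have sq1 : IsPullback (pullback.snd a i₁) (pullback.fst a i₁) i₁ a :=
    (IsPullback.of_hasPullback a i₁).flip
  have sq2 := sq1.paste_horiz sq
  have h1 : Topology.IsQuotientMap (pullback.snd a i₁ ≫ b').base := h _ _ _ sq2
  rw [Scheme.Hom.comp_base, TopCat.coe_comp] at h1
  exact Topology.IsQuotientMap.of_comp (pullback.snd a i₁).continuous b'.continuous h1

end Groth.Agent.Lib.Helper12.Submersive
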