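import Mathlib
import Groth.Prelude
import Groth.Agent.Lib.Helper11OrbitSh
import Groth.Agent.S18975

/-!
# An fppf quotient by a group action is a geometric quotient (helper11)
-/

set_option autoImplicit false
set_option linter.style.haveILetI false
set_option linter.unusedSectionVars false
universe u

open CategoryTheory CategoryTheory.Limits MonoidalCategory CartesianMonoidalCategory MonObj
  AlgebraicGeometry Opposite

namespace Groth.Agent.Lib.Helper11.GQF

open Groth.Agent.S18975 (tildeO tildeO_injective tildeO_surjective resLE_tildeO generate_resLE_mem)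
open Groth.Agent.S18859 (A1)

/-- sections of the quotient are the invariant sections, for a pre-relation `(a, s)` which
locally generates the kernel pair of `φ`. -/
theorem sections_of_cover' {X Y Q : Scheme.{u}} (φ : X ⟶ Y) (a s : Q ⟶ X) (hw : a ≫ φ = s ≫ φ)
    (hloc : ∀ {Z : Scheme.{u}} (p₁ p₂ : Z ⟶ X), p₁ ≫ φ = p₂ ≫ φ →
       ∃ R ∈ Scheme.fpqcPrecoverage Z, ∀ ⦃V : Scheme.{u}⦄ (f : V ⟶ Z), R f →
         ∃ t : V ⟶ Q, t ≫ a = f ≫ p₁ ∧ t ≫ s = f ≫ p₂)
    (R : Presieve Y) (hR : R ∈ Scheme.fpqcPrecoverage Y)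
    (hsec : ∀ ⦃S' : Scheme.{u}⦄ (g : S' ⟶ Y), R g → ∃ t : S' ⟶ X, t ≫ φ = g) (U : Y.Opens) :
    Function.Injective (φ.app U).hom ∧
      ∀ f : Γ(X, φ ⁻¹ᵁ U), f ∈ Set.range (φ.app U).hom ↔
        (a.appLE (φ ⁻¹ᵁ U) (a ⁻¹ᵁ (φ ⁻¹ᵁ U) ⊓ s ⁻¹ᵁ (φ ⁻¹ᵁ U)) inf_le_left).hom f =
          (s.appLE (φ ⁻¹ᵁ U) (a ⁻¹ᵁ (φ ⁻¹ᵁ U) ⊓ s ⁻¹ᵁ (φ ⁻¹ᵁ U)) inf_le_right).hom f := by
  set V := φ ⁻¹ᵁ U with hV
  set W := a ⁻¹ᵁ V ⊓ s ⁻¹ᵁ V with hW
  set ψ := φ.resLE U V le_rfl with hψ
  have hcov := generate_resLE_mem φ R hR hsec U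
  have hsh : Presieve.IsSheaf Scheme.fpqcTopology (yoneda.obj A1.{u}) :=
    GrothendieckTopology.Subcanonical.isSheaf_of_isRepresentable _
  have hshf := hsh _ hcov
  rw [← Presieve.isSheafFor_iff_generate] at hshf
  have hsep := hshf.isSeparatedFor
  rw [Presieve.isSeparatedFor_singleton] at hsep
  rw [Presieve.isSheafFor_singleton] at hshf
  have happ : ∀ r : Γ(Y, U), ψ ≫ tildeO U r = tildeO V ((φ.app U).hom r) := by
    intro r
    rw [hψ, resLE_tildeO, Scheme.Hom.appLE_eq_app]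
  constructor
  · intro r₁ r₂ h
    apply tildeO_injective U
    apply hsep
    change ψ ≫ tildeO U r₁ = ψ ≫ tildeO U r₂
    rw [happ, happ, h]
  · intro f
    rw [← (tildeO_injective W).eq_iff, ← resLE_tildeO, ← resLE_tildeO]
    constructor
    · rintro ⟨r, rfl⟩
      rw [← happ, ← Category.assoc, ← Category.assoc]
      congr 1
      rw [← cancel_mono U.ι]
      simp only [Category.assoc, hψ, Scheme.Hom.resLE_comp_ι]
      have h1 : a.resLE V W inf_le_left ≫ V.ι ≫ φ = W.ι ≫ a ≫ φ :=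
        Scheme.Hom.resLE_comp_ι_assoc a _ φ
      have h2 : s.resLE V W inf_le_right ≫ V.ι ≫ φ = W.ι ≫ s ≫ φ :=
        Scheme.Hom.resLE_comp_ι_assoc s _ φ
      rw [hw] at h1
      exact h1.trans h2.symm
    · intro hs
      obtain ⟨r', hr', -⟩ := hshf (tildeO V f) (by
        intro Z p₁ p₂ hp
        change p₁ ≫ tildeO V f = p₂ ≫ tildeO V f
        have hq : (p₁ ≫ V.ι) ≫ φ = (p₂ ≫ V.ι) ≫ φ := by
          have := congrArg (fun k => k ≫ U.ι) hp
          simpa [hψ] using this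
        obtain ⟨RZ, hRZ, hrel⟩ := hloc (p₁ ≫ V.ι) (p₂ ≫ V.ι) hq
        have hcovZ : Sieve.generate RZ ∈ Scheme.fpqcTopology Z :=
          Precoverage.generate_mem_toGrothendieck hRZ
        refine ((hsh _ hcovZ).isSeparatedFor).ext ?_
        rintro V' k ⟨V'', k', f', hf', rfl⟩
        change (k' ≫ f') ≫ p₁ ≫ tildeO V f = (k' ≫ f') ≫ p₂ ≫ tildeO V f
        obtain ⟨t, ht1, ht2⟩ := hrel f' hf'
        have hrange : Set.range t.base ⊆ Set.range W.ι.base := by
          rintro _ ⟨z, rfl⟩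
          rw [Scheme.Opens.range_ι]
          constructor
          · change a (t z) ∈ V
            rw [← Scheme.Hom.comp_apply, ht1, ← Category.assoc, Scheme.Hom.comp_apply]
            exact ((f' ≫ p₁) z).2
          · change s (t z) ∈ V
            rw [← Scheme.Hom.comp_apply, ht2, ← Category.assoc, Scheme.Hom.comp_apply]
            exact ((f' ≫ p₂) z).2
        let g' := IsOpenImmersion.lift W.ι t hrange
        have e1 : f' ≫ p₁ = g' ≫ a.resLE V W inf_le_left := by
          rw [← cancel_mono V.ι, Category.assoc, Category.assoc, Scheme.Hom.resLE_comp_ι,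
            IsOpenImmersion.lift_fac_assoc, ht1]
        have e2 : f' ≫ p₂ = g' ≫ s.resLE V W inf_le_right := by
          rw [← cancel_mono V.ι, Category.assoc, Category.assoc, Scheme.Hom.resLE_comp_ι,
            IsOpenImmersion.lift_fac_assoc, ht2]
        rw [Category.assoc, Category.assoc, ← Category.assoc f', ← Category.assoc f', e1, e2,
          Category.assoc, Category.assoc, hs])
      obtain ⟨r, rfl⟩ := tildeO_surjective U r'
      refine ⟨r, ?_⟩
      apply tildeO_injective V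
      rw [← happ]
      exact hr'

section Main

open Groth.Agent.Lib.Helper12 Groth.Agent.Lib.Helper12.QuotShLib Groth.Agent.Lib.Helper11.OrbitSh

variable {S : Scheme.{u}} {G X Y : Over S} [GrpObj G] (a : AlgGrp.Action G X) (q : X ⟶ Y)

/-- the quotient map is an epimorphism of sheaves. -/
theorem epi_repMap_of_isQuotient (K : Precoverage Scheme.{u})
    (hq : QuotSh.IsQuotient K a.act (snd G X) q) : Epi (QuotSh.repMap K q) := by
  obtain ⟨w, hiso⟩ := hq
  have hπ : QuotSh.quotπ K a.act (snd G X) ≫ QuotSh.quotDesc K q w = QuotSh.repMap K q :=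
    coequalizer.π_desc _ _
  rw [← hπ]
  have : Epi (QuotSh.quotπ K a.act (snd G X)) := coequalizer.π_epi
  infer_instance

/-- local sections of the quotient map. -/
theorem exists_sections (hq : QuotSh.IsQuotient Scheme.fppfPrecoverage a.act (snd G X) q) :
    ∃ R ∈ Scheme.fppfPrecoverage Y.left, ∀ ⦃V : Scheme.{u}⦄ (g : V ⟶ Y.left), R g →
      ∃ t : V ⟶ X.left, t ≫ q.left = g := by
  obtain ⟨R, hR, hl⟩ := exists_cover_of_epi Scheme.fppfPrecoverage q
    (epi_repMap_of_isQuotient a q _ hq)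
  refine ⟨R, hR, fun V g hg => ?_⟩
  obtain ⟨l, hl'⟩ := hl g hg
  exact ⟨l.left, hl'⟩

/-- points with the same image are locally in the same orbit, scheme version. -/
theorem hloc_scheme (hq : QuotSh.IsQuotient Scheme.fppfPrecoverage a.act (snd G X) q)
    {Z : Scheme.{u}} (p₁ p₂ : Z ⟶ X.left) (h : p₁ ≫ q.left = p₂ ≫ q.left) :
    ∃ R ∈ Scheme.fppfPrecoverage Z, ∀ ⦃V : Scheme.{u}⦄ (f : V ⟶ Z), R f →
      ∃ t : V ⟶ (G ⊗ X).left, t ≫ a.act.left = f ≫ p₁ ∧ t ≫ (snd G X).left = f ≫ p₂ := by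
  have hX : X.hom = q.left ≫ Y.hom := (Over.w q).symm
  have h2 : p₂ ≫ X.hom = p₁ ≫ X.hom := by
    rw [hX, ← Category.assoc, ← Category.assoc, h]
  let T : Over S := Over.mk (p₁ ≫ X.hom)
  let x₁ : T ⟶ X := Over.homMk p₁ rfl
  let x₂ : T ⟶ X := Over.homMk p₂ h2
  have hx : x₁ ≫ q = x₂ ≫ q := by
    apply Over.OverMorphism.ext
    exact h
  obtain ⟨R, hR, hrel⟩ := locally_related' a Scheme.fppfPrecoverage q hq x₁ x₂ hx
  refine ⟨R, hR, fun V f hf => ?_⟩
  obtain ⟨g, hg⟩ := hrel f hf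
  refine ⟨(lift g ((Over.homMk f rfl : Over.mk (f ≫ T.hom) ⟶ T) ≫ x₂)).left, ?_, ?_⟩
  · rw [← Over.comp_left, ← hg]
    rfl
  · rw [← Over.comp_left, lift_snd]
    rfl

/-- a morphism with fppf-local sections is universally submersive. -/
theorem univSubmersive_of_sections {X Y : Scheme.{u}} (φ : X ⟶ Y) (R : Presieve Y)
    (hR : R ∈ Scheme.fppfPrecoverage Y)
    (hsec : ∀ ⦃V : Scheme.{u}⦄ (g : V ⟶ Y), R g → ∃ t : V ⟶ X, t ≫ φ = g) :
    GIT.IsUnivSubmersive φ := by
  intro X' Y' i₁ i₂ f' sq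
  have hP : ∀ ⦃Z : Scheme.{u}⦄ (g : Z ⟶ Y), R g → Flat g ∧ LocallyOfFinitePresentation g :=
    fun Z g hg => hR.2 hg
  -- local data at a point of `Y'`
  have key : ∀ y' : Y', ∃ (Z' : Scheme.{u}) (pr : Z' ⟶ Y') (l' : Z' ⟶ X') (z' : Z'),
      IsOpenMap pr.base ∧ l' ≫ f' = pr ∧ pr z' = y' := by
    intro y'
    obtain ⟨Z, p, hp, z, hz⟩ := Scheme.JointlySurjective.exists_eq R hR (i₂ y')
    obtain ⟨l, hl⟩ := hsec p hp
    obtain ⟨hflat, hlfp⟩ := hP p hp
    obtain ⟨z', hz1, hz2⟩ := Scheme.Pullback.exists_preimage_pullback (f := p) (g := i₂) z y' hz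
    have hc : pullback.snd p i₂ ≫ i₂ = (pullback.fst p i₂ ≫ l) ≫ φ := by
      rw [Category.assoc, hl, pullback.condition]
    refine ⟨pullback p i₂, pullback.snd p i₂, sq.lift _ _ hc, z', ?_, sq.lift_fst _ _ _, hz2⟩
    haveI : Flat (pullback.snd p i₂) := inferInstance
    haveI : LocallyOfFinitePresentation (pullback.snd p i₂) := inferInstance
    exact (pullback.snd p i₂).isOpenMap
  change Topology.IsQuotientMap f'.base
  rw [Topology.isQuotientMap_iff, Topology.isCoinducing_iff]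
  refine ⟨fun s => ⟨fun hs => ?_, fun hs => hs.preimage f'.continuous⟩, fun y' => ?_⟩
  rotate_left
  · obtain ⟨Z', pr, l', z', -, h1, h2⟩ := key y'
    refine ⟨l' z', ?_⟩
    rw [← h2, ← h1]
    rfl
  · rw [isOpen_iff_forall_mem_open]
    intro y' hy'
    obtain ⟨Z', pr, l', z', hopen, h1, h2⟩ := key y'
    refine ⟨pr.base '' (pr.base ⁻¹' s), Set.image_preimage_subset _ _, ?_, ⟨z', ?_, h2⟩⟩
    · apply hopen
      have : pr.base ⁻¹' s = l'.base ⁻¹' (f'.base ⁻¹' s) := by
        rw [← Set.preimage_comp, ← h1]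
        rfl
      rw [this]
      exact hs.preimage l'.continuous
    · change pr z' ∈ s
      rw [h2]; exact hy'

/-- an fppf quotient by a group action is a geometric quotient. -/
theorem isGeomQuot_of_isQuotient_fppf
    (hq : QuotSh.IsQuotient Scheme.fppfPrecoverage a.act (snd G X) q) :
    GIT.IsGeomQuot a q := by
  have hinv : GIT.IsInvariant a q := hq.1
  obtain ⟨R, hR, hsec⟩ := exists_sections a q hq
  refine ⟨hinv, ?_, ?_, univSubmersive_of_sections q.left R hR hsec, ?_⟩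
  · -- surjectivity
    intro y
    obtain ⟨Z, p, hp, z, hz⟩ := Scheme.JointlySurjective.exists_eq R hR y
    obtain ⟨l, hl⟩ := hsec p hp
    refine ⟨l z, ?_⟩
    rw [← Scheme.Hom.comp_apply, hl]
    exact hz
  · -- orbits
    intro z
    let jz := (pullback q.left q.left).fromSpecResidueField z
    have hc : (jz ≫ pullback.fst q.left q.left) ≫ q.left =
        (jz ≫ pullback.snd q.left q.left) ≫ q.left := by
      rw [Category.assoc, Category.assoc, pullback.condition]
    obtain ⟨RZ, hRZ, hrel⟩ := hloc_scheme a q hq _ _ hc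
    obtain ⟨V, f, hf, v, -⟩ := Scheme.JointlySurjective.exists_eq RZ hRZ
      (Classical.arbitrary (Spec ((pullback q.left q.left).residueField z)))
    obtain ⟨t, ht1, ht2⟩ := hrel f hf
    refine ⟨t v, ?_⟩
    have h1 : t ≫ GIT.PsiY a q hinv = f ≫ jz := by
      apply pullback.hom_ext
      · rw [Category.assoc, GIT.PsiY, pullback.lift_fst, ht1, Category.assoc]
      · rw [Category.assoc, GIT.PsiY, pullback.lift_snd, ht2, Category.assoc]
    change (GIT.PsiY a q hinv) (t v) = z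
    rw [← Scheme.Hom.comp_apply, h1, Scheme.Hom.comp_apply]
    exact Scheme.fromSpecResidueField_apply z (f v)
  · -- sections
    intro U
    obtain ⟨h1, h2⟩ := sections_of_cover' q.left a.act.left (snd G X).left hinv.left
      (fun {Z} p₁ p₂ h => by
        obtain ⟨RZ, hRZ, hrel⟩ := hloc_scheme a q hq p₁ p₂ h
        exact ⟨RZ, Scheme.fppfPrecoverage_le_fpqcPrecoverage _ hRZ, hrel⟩)
      R (Scheme.fppfPrecoverage_le_fpqcPrecoverage _ hR) hsec U
    refine ⟨h1, ?_⟩
    ext f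
    exact h2 f

end Main

end Groth.Agent.Lib.Helper11.GQF
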