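import Groth.Agent.Lib.Helper11Models
import Mathlib.Combinatorics.SimpleGraph.Acyclic
import Mathlib.Combinatorics.SimpleGraph.DegreeSum

/-!
The dual graph of a numerical type.
-/

namespace Groth.Agent.Lib.Helper11

open Finset Models

variable {n : ℕ} (T : Models.NumericalType n)

/-- the dual graph -/
def dualGraph : SimpleGraph (Fin n) where
  Adj i j := i ≠ j ∧ T.a i j ≠ 0
  symm := ⟨fun i j ⟨h1, h2⟩ => ⟨h1.symm, by rwa [a_symm T j i]⟩⟩
  loopless := ⟨fun i h => h.1 rfl⟩

theorem dualGraph_adj (i j : Fin n) : (dualGraph T).Adj i j ↔ i ≠ j ∧ T.a i j ≠ 0 := Iff.rfl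

instance : DecidableRel (dualGraph T).Adj := fun i j => by
  unfold dualGraph
  exact inferInstanceAs (Decidable (i ≠ j ∧ T.a i j ≠ 0))

theorem dualGraph_connected : (dualGraph T).Connected := by
  classical
  have hn := T.pos
  rw [SimpleGraph.connected_iff_exists_forall_reachable]
  refine ⟨⟨0, hn⟩, ?_⟩
  by_contra hcon
  push Not at hcon
  let I : Finset (Fin n) := univ.filter fun j => (dualGraph T).Reachable ⟨0, hn⟩ j
  have hI1 : I.Nonempty := ⟨⟨0, hn⟩, by simp [I]⟩
  have hI2 : I ≠ univ := by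
    obtain ⟨w, hw⟩ := hcon
    intro h
    have : w ∈ I := h ▸ mem_univ w
    simp only [I, mem_filter, mem_univ, true_and] at this
    exact hw this
  obtain ⟨i, hi, j, hj, hij⟩ := T.connected I hI1 hI2
  simp only [I, mem_filter, mem_univ, true_and] at hi hj
  apply hj
  have hne : i ≠ j := by
    rintro rfl
    exact hj hi
  exact hi.trans (SimpleGraph.Adj.reachable ⟨hne, hij⟩)

theorem card_edgeFinset_dualGraph : #(dualGraph T).edgeFinset = T.edgeCount := by
  have h := (dualGraph T).two_mul_card_edgeFinset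
  unfold NumericalType.edgeCount
  have hsplit : (univ.filter fun p : Fin n × Fin n => (dualGraph T).Adj p.1 p.2) =
      (univ.filter fun p : Fin n × Fin n => p.1 < p.2 ∧ 0 < T.a p.1 p.2) ∪
      (univ.filter fun p : Fin n × Fin n => p.2 < p.1 ∧ 0 < T.a p.1 p.2) := by
    ext ⟨x, y⟩
    simp only [mem_filter, mem_univ, true_and, mem_union, dualGraph_adj]
    constructor
    · rintro ⟨hne, ha⟩
      have hpos : 0 < T.a x y := lt_of_le_of_ne (T.offDiag_nonneg x y hne) (Ne.symm ha)
      rcases lt_or_gt_of_ne hne with h | h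
      · exact Or.inl ⟨h, hpos⟩
      · exact Or.inr ⟨h, hpos⟩
    · rintro (⟨h, hpos⟩ | ⟨h, hpos⟩)
      · exact ⟨h.ne, hpos.ne'⟩
      · exact ⟨h.ne', hpos.ne'⟩
  have hdisj : Disjoint (univ.filter fun p : Fin n × Fin n => p.1 < p.2 ∧ 0 < T.a p.1 p.2)
      (univ.filter fun p : Fin n × Fin n => p.2 < p.1 ∧ 0 < T.a p.1 p.2) := by
    rw [Finset.disjoint_left]
    rintro ⟨x, y⟩ h1 h2
    simp only [mem_filter, mem_univ, true_and] at h1 h2
    exact lt_asymm h1.1 h2.1
  have hswap : #(univ.filter fun p : Fin n × Fin n => p.2 < p.1 ∧ 0 < T.a p.1 p.2) =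
      #(univ.filter fun p : Fin n × Fin n => p.1 < p.2 ∧ 0 < T.a p.1 p.2) := by
    refine Finset.card_bij (fun p _ => (p.2, p.1)) ?_ ?_ ?_
    · rintro ⟨x, y⟩ hp
      simp only [mem_filter, mem_univ, true_and] at hp ⊢
      exact ⟨hp.1, by rw [a_symm T y x]; exact hp.2⟩
    · rintro ⟨x, y⟩ _ ⟨x', y'⟩ _ h
      simp only [Prod.mk.injEq] at h ⊢
      exact ⟨h.2, h.1⟩
    · rintro ⟨x, y⟩ hp
      simp only [mem_filter, mem_univ, true_and] at hp
      refine ⟨(y, x), ?_, rfl⟩
      simp only [mem_filter, mem_univ, true_and]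
      exact ⟨hp.1, by rw [a_symm T y x]; exact hp.2⟩
  have hcard : #(univ.filter fun p : Fin n × Fin n => (dualGraph T).Adj p.1 p.2) =
      2 * #(univ.filter fun p : Fin n × Fin n => p.1 < p.2 ∧ 0 < T.a p.1 p.2) := by
    rw [hsplit, Finset.card_union_of_disjoint hdisj, hswap]
    ring
  have h' : 2 * #(dualGraph T).edgeFinset =
      2 * #(univ.filter fun p : Fin n × Fin n => p.1 < p.2 ∧ 0 < T.a p.1 p.2) := by
    rw [← hcard]
    convert h using 2
  omega

/-- S7318 -/
theorem topGenus_nonneg : 0 ≤ T.topGenus := by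
  have h := (dualGraph_connected T).card_vert_le_card_edgeSet_add_one
  rw [Nat.card_eq_fintype_card, Fintype.card_fin, Nat.card_eq_fintype_card,
    ← SimpleGraph.edgeFinset_card, card_edgeFinset_dualGraph] at h
  unfold NumericalType.topGenus
  omega

end Groth.Agent.Lib.Helper11
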