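import Mathlib
import Groth.Agent.Lib.Helper27GaGm

set_option autoImplicit false
universe u

namespace Groth.Agent.Lib.Helper11GrpLaw

open Polynomial

/-- the key algebraic fact: a polynomial automorphism `x ↦ P(x, y)` of the affine line over `k[y]`
with `P(x, e) = x` and `P(e, y) = y` is `x + y - e`. -/
theorem poly_key {k : Type u} [Field k] (e : k) (P Q : Polynomial (Polynomial k))
    (hQP : Q.comp P = X)
    (h1 : P.map (evalRingHom e) = X)
    (h2 : P.eval (C e) = X) :
    P = X + C (X - C e) := by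
  have hdeg : Q.natDegree * P.natDegree = 1 := by
    rw [← natDegree_comp, hQP, natDegree_X]
  have hP1 : P.natDegree = 1 := Nat.eq_one_of_mul_eq_one_left hdeg
  have hQ1 : Q.natDegree = 1 := Nat.eq_one_of_mul_eq_one_right hdeg
  obtain ⟨u, v, hP⟩ := exists_eq_X_add_C_of_natDegree_le_one (le_of_eq hP1)
  have hlc : Q.leadingCoeff * P.leadingCoeff ^ Q.natDegree = 1 := by
    rw [← leadingCoeff_comp (by rw [hP1]; exact one_ne_zero), hQP, leadingCoeff_X]
  rw [hQ1, pow_one] at hlc
  have hu : P.leadingCoeff = u := by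
    rw [leadingCoeff, hP1, hP]
    simp
  have huunit : IsUnit u := by
    rw [← hu]
    exact IsUnit.of_mul_eq_one _ (by rw [mul_comm]; exact hlc)
  obtain ⟨c, hc, rfl⟩ := Polynomial.isUnit_iff.mp huunit
  rw [hP] at h1 h2
  simp only [Polynomial.map_add, Polynomial.map_mul, map_C, map_X, coe_evalRingHom, eval_C] at h1
  have hc1 : c = 1 := by
    have := congrArg (fun p => p.coeff 1) h1
    simpa using this
  have hv0 : v.eval e = 0 := by
    have := congrArg (fun p => p.coeff 0) h1
    simpa using this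
  subst hc1
  simp only [eval_add, eval_mul, eval_C, eval_X, map_one, one_mul] at h2
  rw [hP]
  have hv : v = X - C e := by rw [← h2]; ring
  rw [hv]
  simp

section Plumbing

open CategoryTheory MonoidalCategory CartesianMonoidalCategory MonObj GrpObj AlgebraicGeometry
  CategoryTheory.Limits Groth.Agent.Lib.Helper27.GaGm

variable {k : Type u} [Field k]

/-- an affine `k`-scheme as an object over `Spec k`. -/
noncomputable def XR (k : Type u) [Field k] (R : Type u) [CommRing R] [Algebra k R] :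
    Over (Spec (CommRingCat.of k)) :=
  Over.mk (Spec.map (CommRingCat.ofHom (algebraMap k R)))

/-- the morphism of affine `k`-schemes attached to a `k`-algebra map. -/
noncomputable def Xmap {R R' : Type u} [CommRing R] [Algebra k R] [CommRing R'] [Algebra k R']
    (φ : R →ₐ[k] R') : XR k R' ⟶ XR k R :=
  Over.homMk (Spec.map (CommRingCat.ofHom φ.toRingHom)) (by
    change Spec.map _ ≫ Spec.map _ = Spec.map _
    rw [← Spec.map_comp, ← CommRingCat.ofHom_comp]
    congr 2
    exact φ.comp_algebraMap)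

/-- coordinates on an object `G` over `Spec k` whose functor of points is `X ↦ Γ(X, O_X)`. -/
structure Coord (G : Over (Spec (CommRingCat.of k))) where
  /-- the bijection -/
  E : ∀ X : Over (Spec (CommRingCat.of k)), (X ⟶ G) ≃ Γ(X.left, ⊤)
  nat : ∀ {X X' : Over (Spec (CommRingCat.of k))} (g : X' ⟶ X) (x : X ⟶ G),
    E X' (g ≫ x) = g.left.appTop (E X x)

variable {G : Over (Spec (CommRingCat.of k))} (c : Coord G)

/-- `R`-points of `G` are elements of `R`. -/
noncomputable def Coord.ER (R : Type u) [CommRing R] [Algebra k R] : (XR k R ⟶ G) ≃ R :=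
  (c.E (XR k R)).trans (Scheme.ΓSpecIso (CommRingCat.of R)).commRingCatIsoToRingEquiv.toEquiv

lemma Coord.ER_apply (R : Type u) [CommRing R] [Algebra k R] (x : XR k R ⟶ G) :
    c.ER R x = (Scheme.ΓSpecIso (CommRingCat.of R)).hom (c.E (XR k R) x) := rfl

lemma Coord.ER_nat {R R' : Type u} [CommRing R] [Algebra k R] [CommRing R'] [Algebra k R']
    (φ : R →ₐ[k] R') (x : XR k R ⟶ G) : c.ER R' (Xmap φ ≫ x) = φ (c.ER R x) := by
  rw [c.ER_apply, c.ER_apply, c.nat]
  have h := Scheme.ΓSpecIso_naturality (CommRingCat.ofHom φ.toRingHom)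
  have h2 := congrArg (fun m => m.hom (c.E (XR k R) x)) h
  simp only [CommRingCat.hom_comp, RingHom.comp_apply, CommRingCat.hom_ofHom] at h2
  exact h2

section Main

variable [GrpObj G]

local notation "R₀" => Polynomial k
local notation "RR" => Polynomial (Polynomial k)

lemma Coord.symm_nat {R R' : Type u} [CommRing R] [Algebra k R] [CommRing R'] [Algebra k R']
    (φ : R →ₐ[k] R') (r : R) : Xmap φ ≫ (c.ER R).symm r = (c.ER R').symm (φ r) := by
  apply (c.ER R').injective
  rw [c.ER_nat, Equiv.apply_symm_apply, Equiv.apply_symm_apply]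

lemma Coord.ER_one (R : Type u) [CommRing R] [Algebra k R] :
    c.ER R (1 : XR k R ⟶ G) = algebraMap k R (c.ER k (1 : XR k k ⟶ G)) := by
  have h1 : Xmap (Algebra.ofId k R) ≫ (1 : XR k k ⟶ G) = 1 := MonObj.comp_one _
  rw [← h1, c.ER_nat]
  rfl

/-- the unit of the group law as an element of `k`. -/
noncomputable def Coord.e : k := c.ER k (1 : XR k k ⟶ G)

/-- substitution `x ↦ a`. -/
noncomputable def subst (a : RR) : RR →ₐ[k] RR :=
  (Polynomial.aeval a : RR →ₐ[R₀] RR).restrictScalars k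

lemma subst_apply (a p : RR) : subst a p = p.comp a := rfl

lemma Coord.ER_mul_py (a : RR) :
    c.ER RR ((c.ER RR).symm a * (c.ER RR).symm (C X)) =
      (c.ER RR ((c.ER RR).symm X * (c.ER RR).symm (C X))).comp a := by
  rw [← subst_apply, ← c.ER_nat, MonObj.comp_mul, c.symm_nat, c.symm_nat, subst_apply,
    subst_apply, X_comp, C_comp]

lemma Coord.ER_mul_py_inv (a : RR) :
    c.ER RR ((c.ER RR).symm a * ((c.ER RR).symm (C X))⁻¹) =
      (c.ER RR ((c.ER RR).symm X * ((c.ER RR).symm (C X))⁻¹)).comp a := by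
  rw [← subst_apply, ← c.ER_nat, MonObj.comp_mul, GrpObj.comp_inv, c.symm_nat, c.symm_nat,
    subst_apply, subst_apply, X_comp, C_comp]

theorem Coord.P_eq :
    c.ER RR ((c.ER RR).symm X * (c.ER RR).symm (C X)) = X + C (X - C c.e) := by
  apply poly_key c.e _ (c.ER RR ((c.ER RR).symm X * ((c.ER RR).symm (C X))⁻¹))
  · rw [← c.ER_mul_py_inv, Equiv.symm_apply_apply, mul_inv_cancel_right, Equiv.apply_symm_apply]
  · -- y ↦ e
    have h := c.ER_nat (Polynomial.mapAlgHom (Polynomial.aeval c.e : R₀ →ₐ[k] k))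
      ((c.ER RR).symm X * (c.ER RR).symm (C X))
    rw [MonObj.comp_mul, c.symm_nat, c.symm_nat] at h
    have h3 : (Polynomial.mapAlgHom (Polynomial.aeval c.e : R₀ →ₐ[k] k)) (X : RR) = X := by
      simp
    have h4 : (Polynomial.mapAlgHom (Polynomial.aeval c.e : R₀ →ₐ[k] k)) (C X : RR) = C c.e := by
      simp
    rw [h3, h4] at h
    have h5 : (c.ER R₀).symm (C c.e) = 1 := by
      apply (c.ER R₀).injective
      rw [Equiv.apply_symm_apply, c.ER_one]
      rfl
    rw [h5, _root_.mul_one, Equiv.apply_symm_apply] at h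
    refine Eq.trans ?_ h.symm
    rw [Polynomial.coe_mapAlgHom, Polynomial.coe_aeval_eq_evalRingHom]
  · -- x ↦ e
    have h := c.ER_nat ((Polynomial.aeval (C c.e : R₀) : RR →ₐ[R₀] R₀).restrictScalars k)
      ((c.ER RR).symm X * (c.ER RR).symm (C X))
    rw [MonObj.comp_mul, c.symm_nat, c.symm_nat] at h
    have h3 : ((Polynomial.aeval (C c.e : R₀) : RR →ₐ[R₀] R₀).restrictScalars k) (X : RR) =
        C c.e := by
      simp
    have h4 : ((Polynomial.aeval (C c.e : R₀) : RR →ₐ[R₀] R₀).restrictScalars k) (C X : RR) =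
        X := by
      simp
    rw [h3, h4] at h
    have h5 : (c.ER R₀).symm (C c.e) = 1 := by
      apply (c.ER R₀).injective
      rw [Equiv.apply_symm_apply, c.ER_one]
      rfl
    rw [h5, _root_.one_mul, Equiv.apply_symm_apply] at h
    refine Eq.trans ?_ h.symm
    rw [AlgHom.restrictScalars_apply, Polynomial.coe_aeval_eq_eval]

/-- the classifying morphism of a pair of functions. -/
lemma Coord.exists_classifying (Y : Over (Spec (CommRingCat.of k))) (a b : Γ(Y.left, ⊤)) :
    ∃ (g : Y ⟶ XR k RR) (θ : RR →+* Γ(Y.left, ⊤)),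
      θ X = a ∧ θ (C X) = b ∧ (∀ r : k, θ (C (C r)) = fn Y.hom r) ∧
      ∀ x : XR k RR ⟶ G, c.E Y (g ≫ x) = θ (c.ER RR x) := by
  obtain ⟨θ, hθ⟩ : ∃ θ : RR →+* Γ(Y.left, ⊤), θ =
      Polynomial.eval₂RingHom (Polynomial.eval₂RingHom (fnHom Y.hom) b) a := ⟨_, rfl⟩
  have hθX : θ X = a := by rw [hθ]; simp
  have hθY : θ (C X) = b := by rw [hθ]; simp
  have hθC : ∀ r : k, θ (C (C r)) = fn Y.hom r := by
    intro r; rw [hθ, fn_eq]; simp
  obtain ⟨g₀, hg₀⟩ := fn_surj θ
  have hw : g₀ ≫ Spec.map (CommRingCat.ofHom (algebraMap k RR)) = Y.hom := by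
    apply fn_ext
    intro r
    rw [fn_specMap, hg₀]
    exact hθC r
  refine ⟨Over.homMk g₀ hw, θ, hθX, hθY, hθC, ?_⟩
  intro x
  rw [c.nat, c.ER_apply]
  have h1 : (Over.homMk g₀ hw : Y ⟶ XR k RR).left = g₀ := rfl
  rw [h1, ← hg₀]
  unfold fn
  congr 1
  exact (congrArg (fun m => m.hom (c.E (XR k RR) x))
    (Scheme.ΓSpecIso (CommRingCat.of RR)).hom_inv_id).symm

theorem Coord.mul_formula (Y : Over (Spec (CommRingCat.of k))) (a b : Y ⟶ G) :
    c.E Y (a * b) = c.E Y a + c.E Y b - c.E Y 1 := by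
  obtain ⟨g, θ, hθX, hθY, hθC, hg⟩ := c.exists_classifying Y (c.E Y a) (c.E Y b)
  have ha : g ≫ (c.ER RR).symm X = a := by
    apply (c.E Y).injective
    rw [hg, Equiv.apply_symm_apply, hθX]
  have hb : g ≫ (c.ER RR).symm (C X) = b := by
    apply (c.E Y).injective
    rw [hg, Equiv.apply_symm_apply, hθY]
  have h1 : g ≫ (1 : XR k RR ⟶ G) = 1 := MonObj.comp_one _
  rw [← ha, ← hb, ← MonObj.comp_mul, ← h1, hg, hg, hg, hg, c.P_eq, c.ER_one, Equiv.apply_symm_apply,
    Equiv.apply_symm_apply]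
  have : algebraMap k RR (c.ER k (1 : XR k k ⟶ G)) = C (C c.e) := rfl
  rw [this, map_add]
  have h2 : (C (X - C c.e) : RR) = C X - C (C c.e) := by rw [map_sub]
  rw [h2, map_sub]
  ring

end Main

end Plumbing

end Groth.Agent.Lib.Helper11GrpLaw
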