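import Mathlib
import Groth.Agent.Lib.Helper11GrpLaw

set_option autoImplicit false
universe u

namespace Groth.Agent.Lib.Helper11GrpLawM

open LaurentPolynomial

section Laurent

/-- units of a Laurent polynomial ring over a domain are monomials. -/
theorem exists_eq_C_mul_T {A : Type u} [CommRing A] [IsDomain A] (w : A[T;T⁻¹]) (hw : IsUnit w) :
    ∃ (c : A) (n : ℤ), IsUnit c ∧ w = C c * T n := by
  obtain ⟨v, hv⟩ := hw.exists_right_inv
  obtain ⟨a, p, hp⟩ := exists_T_pow w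
  obtain ⟨b, q, hq⟩ := exists_T_pow v
  have hpq : p * q = Polynomial.X ^ (a + b) := by
    apply Polynomial.toLaurent_injective
    rw [map_mul, hp, hq, Polynomial.toLaurent_X_pow]
    have : w * T a * (v * T b) = (w * v) * (T a * T b) := by ring
    rw [this, hv, one_mul, ← T_add]
    norm_cast
  have hdvd : p ∣ Polynomial.X ^ (a + b) := ⟨q, hpq.symm⟩
  obtain ⟨i, -, hi⟩ := (dvd_prime_pow Polynomial.prime_X _).mp hdvd
  obtain ⟨z, hz⟩ := hi.symm
  obtain ⟨c, hc, hcz⟩ := Polynomial.isUnit_iff.mp z.isUnit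
  refine ⟨c, (i : ℤ) - a, hc, ?_⟩
  have h1 : w * T a = T i * C c := by
    rw [← hp, ← hz, ← hcz, map_mul, Polynomial.toLaurent_X_pow, Polynomial.toLaurent_C]
  have h2 : w = w * T a * T (-a) := by
    rw [mul_T_assoc, add_neg_cancel, T_zero, mul_one]
  rw [h2, h1, sub_eq_add_neg, T_add]
  ring

theorem C_mul_T_inj {A : Type u} [CommRing A] (c c' : A) (n n' : ℤ) (hc : c ≠ 0)
    (h : (C c * T n : A[T;T⁻¹]) = C c' * T n') : n = n' ∧ c = c' := by
  rw [← single_eq_C_mul_T, ← single_eq_C_mul_T] at h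
  have h2 := congrArg (fun p => p.coeff) h
  simp only [AddMonoidAlgebra.coeff_single] at h2
  rcases (Finsupp.single_eq_single_iff _ _ _ _).mp h2 with ⟨h3, h4⟩ | ⟨h3, -⟩
  · exact ⟨h3, h4⟩
  · exact (hc h3).elim

variable {k : Type u} [Field k]

/-- `k`-algebra maps out of `k[y, y⁻¹]`. -/
noncomputable def evalAlg₀ {S : Type u} [CommRing S] [Algebra k S] (x : Sˣ) : k[T;T⁻¹] →ₐ[k] S :=
  { LaurentPolynomial.eval₂ (algebraMap k S) x with
    commutes' := fun r => by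
      change LaurentPolynomial.eval₂ (algebraMap k S) x (C r) = _
      rw [eval₂_C] }

@[simp] lemma evalAlg₀_T {S : Type u} [CommRing S] [Algebra k S] (x : Sˣ) (n : ℤ) :
    evalAlg₀ (k := k) x (T n) = ((x ^ n : Sˣ) : S) := eval₂_T _ _ _

@[simp] lemma evalAlg₀_C {S : Type u} [CommRing S] [Algebra k S] (x : Sˣ) (r : k) :
    evalAlg₀ (k := k) x (C r) = algebraMap k S r := eval₂_C _ _ _

/-- `k`-algebra maps out of `k[y, y⁻¹][x, x⁻¹]`. -/
noncomputable def evalAlg {S : Type u} [CommRing S] [Algebra k S] (f : k[T;T⁻¹] →ₐ[k] S) (x : Sˣ) :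
    (k[T;T⁻¹])[T;T⁻¹] →ₐ[k] S :=
  { LaurentPolynomial.eval₂ f.toRingHom x with
    commutes' := fun r => by
      change LaurentPolynomial.eval₂ f.toRingHom x (C (algebraMap k k[T;T⁻¹] r)) = _
      rw [eval₂_C]
      exact f.commutes r }

@[simp] lemma evalAlg_T {S : Type u} [CommRing S] [Algebra k S] (f : k[T;T⁻¹] →ₐ[k] S) (x : Sˣ)
    (n : ℤ) : evalAlg f x (T n) = ((x ^ n : Sˣ) : S) := eval₂_T _ _ _

@[simp] lemma evalAlg_C {S : Type u} [CommRing S] [Algebra k S] (f : k[T;T⁻¹] →ₐ[k] S) (x : Sˣ)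
    (r : k[T;T⁻¹]) : evalAlg f x (C r) = f r := eval₂_C _ _ _

end Laurent

section Plumbing

open CategoryTheory MonoidalCategory CartesianMonoidalCategory MonObj GrpObj AlgebraicGeometry
  CategoryTheory.Limits Groth.Agent.Lib.Helper27.GaGm Groth.Agent.Lib.Helper11GrpLaw

variable {k : Type u} [Field k]

/-- coordinates on an object `G` over `Spec k` whose functor of points is `X ↦ Γ(X, O_X)ˣ`. -/
structure CoordU (G : Over (Spec (CommRingCat.of k))) where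
  /-- the bijection -/
  E : ∀ X : Over (Spec (CommRingCat.of k)), (X ⟶ G) ≃ Γ(X.left, ⊤)ˣ
  nat : ∀ {X X' : Over (Spec (CommRingCat.of k))} (g : X' ⟶ X) (x : X ⟶ G),
    ((E X' (g ≫ x) : Γ(X'.left, ⊤)ˣ) : Γ(X'.left, ⊤)) = g.left.appTop (E X x : Γ(X.left, ⊤)ˣ)

variable {G : Over (Spec (CommRingCat.of k))} (c : CoordU G)

/-- `R`-points of `G` are units of `R`. -/
noncomputable def CoordU.ER (R : Type u) [CommRing R] [Algebra k R] : (XR k R ⟶ G) ≃ Rˣ :=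
  (c.E (XR k R)).trans
    (Units.mapEquiv (Scheme.ΓSpecIso (CommRingCat.of R)).commRingCatIsoToRingEquiv.toMulEquiv).toEquiv

lemma CoordU.ER_val (R : Type u) [CommRing R] [Algebra k R] (x : XR k R ⟶ G) :
    ((c.ER R x : Rˣ) : R) =
      (Scheme.ΓSpecIso (CommRingCat.of R)).hom ((c.E (XR k R) x : Γ((XR k R).left, ⊤)ˣ) :
        Γ((XR k R).left, ⊤)) := rfl

lemma CoordU.ER_nat {R R' : Type u} [CommRing R] [Algebra k R] [CommRing R'] [Algebra k R']
    (φ : R →ₐ[k] R') (x : XR k R ⟶ G) :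
    c.ER R' (Xmap φ ≫ x) = Units.map (φ : R →* R') (c.ER R x) := by
  apply Units.ext
  rw [c.ER_val, Units.coe_map, c.ER_val, c.nat]
  have h := Scheme.ΓSpecIso_naturality (CommRingCat.ofHom φ.toRingHom)
  have h2 := congrArg (fun m => m.hom ((c.E (XR k R) x : Γ((XR k R).left, ⊤)ˣ) :
    Γ((XR k R).left, ⊤))) h
  simp only [CommRingCat.hom_comp, RingHom.comp_apply, CommRingCat.hom_ofHom] at h2
  exact h2

section Main

variable [GrpObj G]

local notation "R₀" => LaurentPolynomial k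
local notation "RR" => LaurentPolynomial (LaurentPolynomial k)

lemma CoordU.symm_nat {R R' : Type u} [CommRing R] [Algebra k R] [CommRing R'] [Algebra k R']
    (φ : R →ₐ[k] R') (r : Rˣ) :
    Xmap φ ≫ (c.ER R).symm r = (c.ER R').symm (Units.map (φ : R →* R') r) := by
  apply (c.ER R').injective
  rw [c.ER_nat, Equiv.apply_symm_apply, Equiv.apply_symm_apply]

/-- the unit of the group law as a unit of `k`. -/
noncomputable def CoordU.e : kˣ := c.ER k (1 : XR k k ⟶ G)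

lemma CoordU.ER_one (R : Type u) [CommRing R] [Algebra k R] :
    c.ER R (1 : XR k R ⟶ G) = Units.map (algebraMap k R : k →* R) c.e := by
  have h1 : Xmap (Algebra.ofId k R) ≫ (1 : XR k k ⟶ G) = 1 := MonObj.comp_one _
  rw [← h1, c.ER_nat]
  rfl

/-- the variable as a unit. -/
noncomputable def tU (A : Type u) [CommRing A] : (A[T;T⁻¹])ˣ := (isUnit_T 1).unit

@[simp] lemma tU_val (A : Type u) [CommRing A] : ((tU A : (A[T;T⁻¹])ˣ) : A[T;T⁻¹]) = T 1 := rfl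

lemma tU_zpow (A : Type u) [CommRing A] (n : ℤ) :
    (((tU A) ^ n : (A[T;T⁻¹])ˣ) : A[T;T⁻¹]) = T n := by
  have hnat : ∀ m : ℕ, (((tU A) ^ m : (A[T;T⁻¹])ˣ) : A[T;T⁻¹]) = T m := by
    intro m
    rw [Units.val_pow_eq_pow_val, tU_val, T_pow, _root_.mul_one]
  obtain ⟨m, rfl | rfl⟩ := n.eq_nat_or_neg
  · rw [zpow_natCast]; exact hnat m
  · rw [zpow_neg, zpow_natCast]
    have h1 : (((tU A) ^ m : (A[T;T⁻¹])ˣ) : A[T;T⁻¹]) * T (-(m : ℤ)) = 1 := by
      rw [hnat, ← T_add, add_neg_cancel, T_zero]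
    exact (Units.inv_eq_of_mul_eq_one_right h1)

lemma units_map_C_zpow (e : kˣ) (n : ℤ) :
    (((Units.map ((C : k →+* R₀) : k →* R₀) e) ^ n : R₀ˣ) : R₀) = C ((e ^ n : kˣ) : k) := by
  rw [← map_zpow, Units.coe_map]
  rfl

/-- the constant unit `e` in `k[y, y⁻¹]`. -/
noncomputable def CoordU.eU : R₀ˣ := Units.map ((C : k →+* R₀) : k →* R₀) c.e

lemma CoordU.symm_eU : (c.ER R₀).symm c.eU = 1 := by
  apply (c.ER R₀).injective
  rw [Equiv.apply_symm_apply, c.ER_one]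
  rfl

theorem CoordU.P_eq :
    ((c.ER RR ((c.ER RR).symm (tU R₀) *
      (c.ER RR).symm (Units.map ((C : R₀ →+* RR) : R₀ →* RR) (tU k))) : RRˣ) : RR) =
      C (C ((c.e⁻¹ : kˣ) : k) * T 1) * T 1 := by
  obtain ⟨P, hPdef⟩ : ∃ P : RRˣ, P = c.ER RR ((c.ER RR).symm (tU R₀) *
      (c.ER RR).symm (Units.map ((C : R₀ →+* RR) : R₀ →* RR) (tU k))) := ⟨_, rfl⟩
  rw [← hPdef]
  obtain ⟨cc, n, hcc, hP⟩ := exists_eq_C_mul_T (P : RR) P.isUnit
  obtain ⟨gg, m, hgg, hc⟩ := exists_eq_C_mul_T cc hcc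
  -- y ↦ e
  have hA : (T 1 : R₀) = C (gg * ((c.e ^ m : kˣ) : k)) * T n := by
    have h := c.ER_nat (evalAlg (evalAlg₀ c.eU) (tU k))
      ((c.ER RR).symm (tU R₀) * (c.ER RR).symm (Units.map ((C : R₀ →+* RR) : R₀ →* RR) (tU k)))
    rw [MonObj.comp_mul, c.symm_nat, c.symm_nat, ← hPdef] at h
    have h3 : Units.map ((evalAlg (evalAlg₀ c.eU) (tU k) : RR →ₐ[k] R₀) : RR →* R₀) (tU R₀) =
        tU k := by
      apply Units.ext
      rw [Units.coe_map]
      change evalAlg (evalAlg₀ c.eU) (tU k) (T 1) = _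
      rw [evalAlg_T, zpow_one]
    have h4 : Units.map ((evalAlg (evalAlg₀ c.eU) (tU k) : RR →ₐ[k] R₀) : RR →* R₀)
        (Units.map ((C : R₀ →+* RR) : R₀ →* RR) (tU k)) = c.eU := by
      apply Units.ext
      rw [Units.coe_map, Units.coe_map]
      change evalAlg (evalAlg₀ c.eU) (tU k) (C (T 1)) = _
      rw [evalAlg_C, evalAlg₀_T, zpow_one]
    rw [h3, h4, c.symm_eU, _root_.mul_one, Equiv.apply_symm_apply] at h
    have h5 := congrArg (fun w : R₀ˣ => (w : R₀)) h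
    simp only [tU_val, Units.coe_map] at h5
    rw [h5]
    change evalAlg (evalAlg₀ c.eU) (tU k) (P : RR) = _
    rw [hP, map_mul, evalAlg_C, evalAlg_T, tU_zpow, hc, map_mul, evalAlg₀_C, evalAlg₀_T]
    change C gg * ((c.eU ^ m : R₀ˣ) : R₀) * T n = _
    rw [CoordU.eU, units_map_C_zpow, ← map_mul]
  -- x ↦ e
  have hB : (T 1 : R₀) = C (gg * ((c.e ^ n : kˣ) : k)) * T m := by
    have h := c.ER_nat (evalAlg (AlgHom.id k R₀) c.eU)
      ((c.ER RR).symm (tU R₀) * (c.ER RR).symm (Units.map ((C : R₀ →+* RR) : R₀ →* RR) (tU k)))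
    rw [MonObj.comp_mul, c.symm_nat, c.symm_nat, ← hPdef] at h
    have h3 : Units.map ((evalAlg (AlgHom.id k R₀) c.eU : RR →ₐ[k] R₀) : RR →* R₀) (tU R₀) =
        c.eU := by
      apply Units.ext
      rw [Units.coe_map]
      change evalAlg (AlgHom.id k R₀) c.eU (T 1) = _
      rw [evalAlg_T, zpow_one]
    have h4 : Units.map ((evalAlg (AlgHom.id k R₀) c.eU : RR →ₐ[k] R₀) : RR →* R₀)
        (Units.map ((C : R₀ →+* RR) : R₀ →* RR) (tU k)) = tU k := by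
      apply Units.ext
      rw [Units.coe_map, Units.coe_map]
      change evalAlg (AlgHom.id k R₀) c.eU (C (T 1)) = _
      rw [evalAlg_C]
      rfl
    rw [h3, h4, c.symm_eU, _root_.one_mul, Equiv.apply_symm_apply] at h
    have h5 := congrArg (fun w : R₀ˣ => (w : R₀)) h
    simp only [tU_val, Units.coe_map] at h5
    rw [h5]
    change evalAlg (AlgHom.id k R₀) c.eU (P : RR) = _
    rw [hP, map_mul, evalAlg_C, evalAlg_T, hc]
    change C gg * T m * ((c.eU ^ n : R₀ˣ) : R₀) = _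
    rw [CoordU.eU, units_map_C_zpow, map_mul]
    ring
  have hgg0 : gg ≠ 0 := hgg.ne_zero
  have hne1 : gg * ((c.e ^ m : kˣ) : k) ≠ 0 := mul_ne_zero hgg0 (Units.ne_zero _)
  have hne2 : gg * ((c.e ^ n : kˣ) : k) ≠ 0 := mul_ne_zero hgg0 (Units.ne_zero _)
  have hA' : C (gg * ((c.e ^ m : kˣ) : k)) * T n = (C 1 * T 1 : R₀) := by
    rw [← hA, map_one, _root_.one_mul]
  have hB' : C (gg * ((c.e ^ n : kˣ) : k)) * T m = (C 1 * T 1 : R₀) := by
    rw [← hB, map_one, _root_.one_mul]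
  obtain ⟨hn, -⟩ := C_mul_T_inj _ _ _ _ hne1 hA'
  obtain ⟨hm, hgge⟩ := C_mul_T_inj _ _ _ _ hne2 hB'
  subst hn hm
  rw [zpow_one] at hgge
  have hgg' : gg = ((c.e⁻¹ : kˣ) : k) := by
    rw [Units.val_inv_eq_inv_val]
    exact eq_inv_of_mul_eq_one_left hgge
  rw [hP, hc, hgg']

/-- the classifying morphism of a pair of invertible functions. -/
lemma CoordU.exists_classifying (Y : Over (Spec (CommRingCat.of k))) (a b : Γ(Y.left, ⊤)ˣ) :
    ∃ (g : Y ⟶ XR k RR) (θ : RR →+* Γ(Y.left, ⊤)),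
      θ (T 1) = a ∧ θ (C (T 1)) = b ∧ (∀ r : k, θ (C (C r)) = fn Y.hom r) ∧
      ∀ x : XR k RR ⟶ G, ((c.E Y (g ≫ x) : Γ(Y.left, ⊤)ˣ) : Γ(Y.left, ⊤)) =
        θ ((c.ER RR x : RRˣ) : RR) := by
  obtain ⟨θ, hθ⟩ : ∃ θ : RR →+* Γ(Y.left, ⊤), θ =
      LaurentPolynomial.eval₂ (LaurentPolynomial.eval₂ (fnHom Y.hom) b) a := ⟨_, rfl⟩
  have hθX : θ (T 1) = a := by rw [hθ, eval₂_T, zpow_one]
  have hθY : θ (C (T 1)) = b := by rw [hθ, eval₂_C, eval₂_T, zpow_one]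
  have hθC : ∀ r : k, θ (C (C r)) = fn Y.hom r := by
    intro r; rw [hθ, fn_eq, eval₂_C, eval₂_C]
  obtain ⟨g₀, hg₀⟩ := fn_surj θ
  have hw : g₀ ≫ Spec.map (CommRingCat.ofHom (algebraMap k RR)) = Y.hom := by
    apply fn_ext
    intro r
    rw [fn_specMap, hg₀]
    exact hθC r
  refine ⟨Over.homMk g₀ hw, θ, hθX, hθY, hθC, ?_⟩
  intro x
  rw [c.nat, c.ER_val]
  have h1 : (Over.homMk g₀ hw : Y ⟶ XR k RR).left = g₀ := rfl
  rw [h1, ← hg₀]
  unfold fn
  congr 1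
  exact (congrArg (fun m => m.hom ((c.E (XR k RR) x : Γ((XR k RR).left, ⊤)ˣ) :
    Γ((XR k RR).left, ⊤))) (Scheme.ΓSpecIso (CommRingCat.of RR)).hom_inv_id).symm

theorem CoordU.mul_formula (Y : Over (Spec (CommRingCat.of k))) (a b : Y ⟶ G) :
    c.E Y (a * b) = c.E Y a * c.E Y b * (c.E Y 1)⁻¹ := by
  obtain ⟨g, θ, hθX, hθY, hθC, hg⟩ := c.exists_classifying Y (c.E Y a) (c.E Y b)
  have ha : g ≫ (c.ER RR).symm (tU R₀) = a := by
    apply (c.E Y).injective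
    apply Units.ext
    rw [hg, Equiv.apply_symm_apply, tU_val, hθX]
  have hb : g ≫ (c.ER RR).symm (Units.map ((C : R₀ →+* RR) : R₀ →* RR) (tU k)) = b := by
    apply (c.E Y).injective
    apply Units.ext
    rw [hg, Equiv.apply_symm_apply, Units.coe_map]
    exact hθY
  have h1 : g ≫ (1 : XR k RR ⟶ G) = 1 := MonObj.comp_one _
  rw [eq_mul_inv_iff_mul_eq]
  apply Units.ext
  rw [Units.val_mul, Units.val_mul]
  conv_lhs => rw [← ha, ← hb, ← MonObj.comp_mul, ← h1, hg, hg, c.P_eq, c.ER_one]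
  rw [Units.coe_map]
  have h2 : ((algebraMap k RR : k →* RR) (c.e : k)) = C (C (c.e : k)) := rfl
  have h3 : (C (C ((c.e⁻¹ : kˣ) : k) * T 1) * T 1 : RR) * C (C (c.e : k)) = T 1 * C (T 1) := by
    have : (C (C ((c.e⁻¹ : kˣ) : k)) * C (C (c.e : k)) : RR) = 1 := by
      rw [← map_mul, ← map_mul, Units.inv_mul, map_one, map_one]
    calc (C (C ((c.e⁻¹ : kˣ) : k) * T 1) * T 1 : RR) * C (C (c.e : k))
        = (C (C ((c.e⁻¹ : kˣ) : k)) * C (C (c.e : k))) * (T 1 * C (T 1)) := by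
          rw [map_mul]; ring
      _ = T 1 * C (T 1) := by rw [this, _root_.one_mul]
  rw [h2, ← map_mul θ, h3, map_mul, hθX, hθY]

end Main

end Plumbing

end Groth.Agent.Lib.Helper11GrpLawM
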