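import Mathlib
import Groth.Prelude.Def_Grpd
import Groth.Agent.Lib.Helper2Grpd
import Groth.Agent.Lib.Helper3DimCons
import Groth.Agent.Lib.Helper3LocDimBC
import Groth.Agent.Lib.Helper22FibDimLim
import Groth.Agent.Lib.Helper7TopDim
import Groth.Agent.Lib.Helper3ConsOfLocus
import Groth.Agent.Lib.Helper11GrpdRat

/-!
# Dimension of a groupoid scheme on a field (helper11)
-/

set_option autoImplicit false
set_option linter.style.haveILetI false
set_option linter.unusedSectionVars false
universe u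

open CategoryTheory CategoryTheory.Limits AlgebraicGeometry

namespace Groth.Agent.Lib.Helper11.GrpdDim

section Alg

open Polynomial

/-- a nonzero polynomial over a field misses a root of unity: some `X ^ n - 1` has a prime factor
not dividing `h`. -/
theorem exists_prime_pow_sub_one_mem {k : Type*} [Field k] (h : k[X]) (hh : h ≠ 0) :
    ∃ (n : ℕ) (P : Ideal k[X]), 0 < n ∧ P.IsPrime ∧ (X ^ n - 1 : k[X]) ∈ P ∧ h ∉ P := by
  classical
  obtain ⟨n, hn, hnk⟩ : ∃ n : ℕ, h.natDegree < n ∧ (n : k) ≠ 0 := by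
    rcases CharP.exists k with ⟨p, hp⟩
    rcases Nat.eq_zero_or_pos p with rfl | hpos
    · haveI : CharZero k := CharP.charP_to_charZero k
      exact ⟨h.natDegree + 1, Nat.lt_succ_self _, Nat.cast_ne_zero.mpr (Nat.succ_ne_zero _)⟩
    · refine ⟨p * (h.natDegree + 1) + 1, ?_, ?_⟩
      · nlinarith
      · push_cast
        rw [CharP.cast_eq_zero k p, zero_mul, zero_add]
        exact one_ne_zero
  have hnpos : 0 < n := lt_of_le_of_lt (Nat.zero_le _) hn
  have hsep : (X ^ n - C (1 : k) : k[X]).Separable := separable_X_pow_sub_C 1 hnk one_ne_zero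
  rw [map_one] at hsep
  have hsq : Squarefree (X ^ n - 1 : k[X]) := hsep.squarefree
  have hnot : h ∉ (Ideal.span {(X ^ n - 1 : k[X])}).radical := by
    intro hmem
    obtain ⟨N, hN⟩ := hmem
    rw [Ideal.mem_span_singleton] at hN
    have hN0 : N ≠ 0 := by
      rintro rfl
      rw [pow_zero] at hN
      have hu : IsUnit (X ^ n - 1 : k[X]) := isUnit_of_dvd_one hN
      have := natDegree_eq_zero_of_isUnit hu
      rw [show (X ^ n - 1 : k[X]) = X ^ n - C 1 by rw [map_one], natDegree_X_pow_sub_C] at this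
      omega
    have hdvd : (X ^ n - 1 : k[X]) ∣ h := (hsq.dvd_pow_iff_dvd hN0).mp hN
    have := natDegree_le_of_dvd hdvd hh
    rw [show (X ^ n - 1 : k[X]) = X ^ n - C 1 by rw [map_one], natDegree_X_pow_sub_C] at this
    omega
  rw [Ideal.radical_eq_sInf, Ideal.mem_sInf] at hnot
  push Not at hnot
  obtain ⟨P, ⟨hle, hP⟩, hhP⟩ := hnot
  exact ⟨n, P, hnpos, hP, hle (Ideal.subset_span rfl), hhP⟩

/-- in a finite type domain over a field, a transcendental element `y` has some `y ^ n - 1`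
non-invertible. -/
theorem exists_not_isUnit_pow_sub_one {k A : Type*} [Field k] [CommRing A] [IsDomain A]
    [Algebra k A] [Algebra.FiniteType k A] (y : A) (hy : Transcendental k y) :
    ∃ n : ℕ, 0 < n ∧ ¬ IsUnit (y ^ n - 1) := by
  classical
  let φ : k[X] →ₐ[k] A := aeval y
  have hinj : Function.Injective φ := transcendental_iff_injective.mp hy
  have hft : (φ : k[X] →+* A).FiniteType := by
    have h1 : ((φ : k[X] →+* A).comp (algebraMap k k[X])).FiniteType := by
      have : (φ : k[X] →+* A).comp (algebraMap k k[X]) = algebraMap k A := by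
        ext c; simp [φ]
      rw [this]
      exact (RingHom.finiteType_algebraMap).mpr inferInstance
    exact RingHom.FiniteType.of_comp_finiteType h1
  have hfp : (φ : k[X] →+* A).FinitePresentation :=
    (RingHom.FinitePresentation.of_finiteType).mp hft
  have hC := PrimeSpectrum.isConstructible_range_comap hfp
  set η : PrimeSpectrum k[X] := ⟨⊥, Ideal.isPrime_bot⟩ with hη
  have hηU : ∀ U : Set (PrimeSpectrum k[X]), IsOpen U → U.Nonempty → η ∈ U := by
    intro U hU ⟨p, hp⟩
    have : η ⤳ p := (PrimeSpectrum.le_iff_specializes η p).mp bot_le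
    exact this.mem_open hU hp
  have hηC : η ∈ Set.range (PrimeSpectrum.comap (φ : k[X] →+* A)) := by
    refine ⟨⟨⊥, Ideal.isPrime_bot⟩, ?_⟩
    ext x
    simp only [PrimeSpectrum.comap_asIdeal, Ideal.mem_comap, hη, Ideal.mem_bot]
    exact ⟨fun h => hinj (by rw [map_zero]; exact h), fun h => by rw [h, map_zero]⟩
  have hint : η ∈ interior (Set.range (PrimeSpectrum.comap (φ : k[X] →+* A))) := by
    rcases Groth.Agent.Lib.Helper3.ConsOfLocus.interior_nonempty_or_of_isConstructible hC with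
      h1 | h1
    · exact hηU _ isOpen_interior h1
    · exact absurd hηC (interior_subset (hηU _ isOpen_interior h1))
  obtain ⟨_, ⟨_, ⟨h, rfl⟩, rfl⟩, hηh, hsub⟩ :=
    PrimeSpectrum.isBasis_basic_opens.exists_subset_of_mem_open hint isOpen_interior
  have hh : h ≠ 0 := by
    rintro rfl
    simp at hηh
  obtain ⟨n, P, hn, hP, hnP, hhP⟩ := exists_prime_pow_sub_one_mem h hh
  refine ⟨n, hn, ?_⟩
  have hPmem : (⟨P, hP⟩ : PrimeSpectrum k[X]) ∈
      Set.range (PrimeSpectrum.comap (φ : k[X] →+* A)) := by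
    apply interior_subset
    apply hsub
    exact hhP
  obtain ⟨Q, hQ⟩ := hPmem
  have : (φ : k[X] →+* A) (X ^ n - 1) ∈ Q.asIdeal := by
    have : (X ^ n - 1 : k[X]) ∈ (PrimeSpectrum.comap (φ : k[X] →+* A) Q).asIdeal := by
      rw [hQ]; exact hnP
    exact this
  have e : (φ : k[X] →+* A) (X ^ n - 1) = y ^ n - 1 := by
    simp [φ]
  rw [e] at this
  intro hu
  exact Q.isPrime.ne_top (Ideal.eq_top_of_isUnit_mem _ this hu)

/-- two ring homomorphisms from a field to a domain with a common retraction agree, as soon as the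
domain embeds in a domain of finite type over the first one. -/
theorem ringHom_eq_of_retraction {k B A : Type*} [Field k] [CommRing B] [IsDomain B] [CommRing A]
    [IsDomain A] (α β : k →+* B) (ε : B →+* k) (hα : ∀ c, ε (α c) = c) (hβ : ∀ c, ε (β c) = c)
    (ρ : B →+* A) (hρ : Function.Injective ρ) (hft : (ρ.comp α).FiniteType) : α = β := by
  classical
  letI : Algebra k B := α.toAlgebra
  letI : Algebra k A := (ρ.comp α).toAlgebra
  haveI : Algebra.FiniteType k A := hft
  let ρ' : B →ₐ[k] A := { ρ with commutes' := fun r => rfl }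
  let ε' : B →ₐ[k] k := { ε with commutes' := fun r => hα r }
  ext c
  -- β c is algebraic
  have halg : IsAlgebraic k (β c) := by
    rw [← isAlgebraic_algHom_iff ρ' hρ]
    by_contra htr
    obtain ⟨n, hn, hnu⟩ := exists_not_isUnit_pow_sub_one (k := k) (ρ' (β c)) htr
    apply hnu
    have e : ρ' (β c) ^ n - 1 = ρ (β (c ^ n - 1)) := by
      simp [ρ']
    rw [e]
    apply IsUnit.map
    apply IsUnit.map
    rw [isUnit_iff_ne_zero]
    intro h0
    apply htr
    refine ⟨X ^ n - 1, ?_, ?_⟩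
    · intro h
      have := congrArg natDegree h
      rw [show (X ^ n - 1 : k[X]) = X ^ n - C 1 by rw [map_one], natDegree_X_pow_sub_C] at this
      simp at this
      omega
    · simp only [map_sub, map_pow, aeval_X, map_one]
      rw [e, h0, map_zero, map_zero]
  have hb : IsAlgebraic k (β c - algebraMap k B c) := halg.sub (isAlgebraic_algebraMap c)
  have hint : IsIntegral k (β c - algebraMap k B c) := hb.isIntegral
  have hroot : aeval (0 : k) (minpoly k (β c - algebraMap k B c)) = 0 := by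
    have h1 : ε' (β c - algebraMap k B c) = 0 := by
      change ε (β c - α c) = 0
      rw [map_sub, hα, hβ, sub_self]
    have h2 := aeval_algHom_apply ε' (β c - algebraMap k B c)
      (minpoly k (β c - algebraMap k B c))
    rw [minpoly.aeval, map_zero, h1] at h2
    exact h2
  have hdvd : (X : k[X]) ∣ minpoly k (β c - algebraMap k B c) := by
    have h3 : (X - C (0 : k) : k[X]) ∣ minpoly k (β c - algebraMap k B c) := by
      rw [dvd_iff_isRoot]
      simpa [IsRoot, coe_aeval_eq_eval] using hroot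
    simpa using h3
  have hassoc : Associated (X : k[X]) (minpoly k (β c - algebraMap k B c)) :=
    (irreducible_X).associated_of_dvd (minpoly.irreducible hint) hdvd
  obtain ⟨u, hu⟩ := hassoc
  have h0 : aeval (β c - algebraMap k B c) ((X : k[X]) * (u : k[X])) = 0 := by
    rw [hu, minpoly.aeval]
  rw [map_mul, aeval_X] at h0
  have hunit : IsUnit (aeval (β c - algebraMap k B c) (u : k[X])) := u.isUnit.map _
  have : β c - algebraMap k B c = 0 := by
    rcases mul_eq_zero.mp h0 with h | h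
    · exact h
    · exact absurd h hunit.ne_zero
  exact (sub_eq_zero.mp this).symm

end Alg

section Sch

/-- two structure morphisms of an integral scheme to the spectrum of a field with a common section
agree, when one of them is locally of finite type. -/
theorem hom_eq_of_section {Z : Scheme.{u}} [IsIntegral Z] (k : Type u) [Field k]
    (a b : Z ⟶ Spec (CommRingCat.of k)) [LocallyOfFiniteType a]
    (ε : Spec (CommRingCat.of k) ⟶ Z) (ha : ε ≫ a = 𝟙 _) (hb : ε ≫ b = 𝟙 _) : a = b := by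
  apply ext_of_isAffine
  obtain ⟨x⟩ : Nonempty Z := inferInstance
  obtain ⟨_, ⟨V, hV, rfl⟩, hxV, -⟩ :=
    Z.isBasis_affineOpens.exists_subset_of_mem_open (Set.mem_univ x) isOpen_univ
  haveI : Nonempty V := ⟨⟨x, hxV⟩⟩
  haveI : Nonempty (⊤ : Z.Opens) := ⟨⟨x, trivial⟩⟩
  let ρ : Γ(Z, ⊤) →+* Γ(Z, V) := (Z.presheaf.map (homOfLE (le_top : V ≤ ⊤)).op).hom
  have hρ : Function.Injective ρ := map_injective_of_isIntegral Z (homOfLE (le_top : V ≤ ⊤))
  let α : k →+* Γ(Z, ⊤) := a.appTop.hom.comp (Scheme.ΓSpecIso (CommRingCat.of k)).inv.hom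
  let β : k →+* Γ(Z, ⊤) := b.appTop.hom.comp (Scheme.ΓSpecIso (CommRingCat.of k)).inv.hom
  let ε' : Γ(Z, ⊤) →+* k := (Scheme.ΓSpecIso (CommRingCat.of k)).hom.hom.comp ε.appTop.hom
  have hα : ∀ c, ε' (α c) = c := by
    intro c
    have h1 : a.appTop ≫ ε.appTop = 𝟙 _ := by
      rw [← Scheme.Hom.comp_appTop, ha]; rfl
    change (Scheme.ΓSpecIso (CommRingCat.of k)).hom.hom
      ((a.appTop ≫ ε.appTop).hom ((Scheme.ΓSpecIso (CommRingCat.of k)).inv.hom c)) = c
    rw [h1]
    exact congrArg (fun φ => φ.hom c) (Scheme.ΓSpecIso (CommRingCat.of k)).inv_hom_id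
  have hβ : ∀ c, ε' (β c) = c := by
    intro c
    have h1 : b.appTop ≫ ε.appTop = 𝟙 _ := by
      rw [← Scheme.Hom.comp_appTop, hb]; rfl
    change (Scheme.ΓSpecIso (CommRingCat.of k)).hom.hom
      ((b.appTop ≫ ε.appTop).hom ((Scheme.ΓSpecIso (CommRingCat.of k)).inv.hom c)) = c
    rw [h1]
    exact congrArg (fun φ => φ.hom c) (Scheme.ΓSpecIso (CommRingCat.of k)).inv_hom_id
  have hft : (ρ.comp α).FiniteType := by
    have h1 := LocallyOfFiniteType.finiteType_appLE a (isAffineOpen_top _) hV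
      (le_top : V ≤ a ⁻¹ᵁ ⊤)
    have h2 : ρ.comp α = (a.appLE ⊤ V le_top).hom.comp
        (Scheme.ΓSpecIso (CommRingCat.of k)).inv.hom := by
      rfl
    rw [h2]
    refine RingHom.FiniteType.comp h1 ?_
    exact RingHom.FiniteType.of_surjective _
      ((ConcreteCategory.bijective_of_isIso (Scheme.ΓSpecIso (CommRingCat.of k)).inv).2)
  have key := ringHom_eq_of_retraction α β ε' hα hβ ρ hρ hft
  rw [← cancel_epi (Scheme.ΓSpecIso (CommRingCat.of k)).inv]
  ext c
  exact congrArg (fun φ => φ c) key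

end Sch

section Transl

open Groth.Agent.Lib.Helper2.Grpd

variable {S : Scheme.{u}} (G : Grpd.GroupoidScheme S) {T : Scheme.{u}} (ρ : T ⟶ G.R)

/-- arrows with the same target as `ρ`. -/
noncomputable abbrev Yτ : Scheme.{u} := pullback (ρ ≫ G.t) G.t
/-- arrows with target the source of `ρ`. -/
noncomputable abbrev Yσ : Scheme.{u} := pullback (ρ ≫ G.s) G.t

theorem hΦ : ((pullback.fst (ρ ≫ G.t) G.t ≫ ρ) ≫ G.i) ≫ G.s = pullback.snd (ρ ≫ G.t) G.t ≫ G.t := by
  rw [← pullback.condition]
  simp only [Category.assoc, G.i_s]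

theorem hΨ : (pullback.fst (ρ ≫ G.s) G.t ≫ ρ) ≫ G.s = pullback.snd (ρ ≫ G.s) G.t ≫ G.t := by
  rw [← pullback.condition]
  simp only [Category.assoc]

/-- left translation by `ρ⁻¹`. -/
noncomputable def Φ : Yτ G ρ ⟶ Yσ G ρ :=
  pullback.lift (pullback.fst (ρ ≫ G.t) G.t)
    (comp G ((pullback.fst (ρ ≫ G.t) G.t ≫ ρ) ≫ G.i) (pullback.snd (ρ ≫ G.t) G.t) (hΦ G ρ))
    (by rw [comp_t]; simp only [Category.assoc, G.i_t])

/-- left translation by `ρ`. -/
noncomputable def Ψ : Yσ G ρ ⟶ Yτ G ρ :=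
  pullback.lift (pullback.fst (ρ ≫ G.s) G.t)
    (comp G (pullback.fst (ρ ≫ G.s) G.t ≫ ρ) (pullback.snd (ρ ≫ G.s) G.t) (hΨ G ρ))
    (by rw [comp_t]; simp only [Category.assoc])

@[reassoc (attr := simp)]
theorem Φ_fst : Φ G ρ ≫ pullback.fst (ρ ≫ G.s) G.t = pullback.fst (ρ ≫ G.t) G.t := by
  unfold Φ; rw [pullback.lift_fst]

@[reassoc (attr := simp)]
theorem Ψ_fst : Ψ G ρ ≫ pullback.fst (ρ ≫ G.t) G.t = pullback.fst (ρ ≫ G.s) G.t := by
  unfold Ψ; rw [pullback.lift_fst]

@[reassoc]
theorem Φ_snd : Φ G ρ ≫ pullback.snd (ρ ≫ G.s) G.t =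
    comp G ((pullback.fst (ρ ≫ G.t) G.t ≫ ρ) ≫ G.i) (pullback.snd (ρ ≫ G.t) G.t) (hΦ G ρ) := by
  unfold Φ; rw [pullback.lift_snd]

@[reassoc]
theorem Ψ_snd : Ψ G ρ ≫ pullback.snd (ρ ≫ G.t) G.t =
    comp G (pullback.fst (ρ ≫ G.s) G.t ≫ ρ) (pullback.snd (ρ ≫ G.s) G.t) (hΨ G ρ) := by
  unfold Ψ; rw [pullback.lift_snd]

theorem Φ_Ψ : Φ G ρ ≫ Ψ G ρ = 𝟙 _ := by
  apply pullback.hom_ext
  · rw [Category.assoc, Ψ_fst, Φ_fst, Category.id_comp]
  · rw [Category.assoc, Ψ_snd, Category.id_comp]
    refine (precomp_comp G (Φ G ρ) _ _ _).trans ?_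
    have e1 : Φ G ρ ≫ pullback.fst (ρ ≫ G.s) G.t ≫ ρ = pullback.fst (ρ ≫ G.t) G.t ≫ ρ := by
      rw [Φ_fst_assoc]
    refine (comp_congr G _ e1 (Φ_snd G ρ)).trans ?_
    exact comp_i_comp G _ _ _ _

theorem Ψ_Φ : Ψ G ρ ≫ Φ G ρ = 𝟙 _ := by
  apply pullback.hom_ext
  · rw [Category.assoc, Φ_fst, Ψ_fst, Category.id_comp]
  · rw [Category.assoc, Φ_snd, Category.id_comp]
    refine (precomp_comp G (Ψ G ρ) _ _ _).trans ?_
    have e1 : Ψ G ρ ≫ (pullback.fst (ρ ≫ G.t) G.t ≫ ρ) ≫ G.i =
        (pullback.fst (ρ ≫ G.s) G.t ≫ ρ) ≫ G.i := by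
      simp only [Category.assoc, Ψ_fst_assoc]
    refine (comp_congr G _ e1 (Ψ_snd G ρ)).trans ?_
    exact i_comp_comp G _ _ _ _

/-- the translation isomorphism. -/
noncomputable def ΦIso : Yτ G ρ ≅ Yσ G ρ := ⟨Φ G ρ, Ψ G ρ, Φ_Ψ G ρ, Ψ_Φ G ρ⟩

/-- the tautological point. -/
noncomputable def yt : T ⟶ Yτ G ρ := pullback.lift (𝟙 T) ρ (by rw [Category.id_comp])

theorem yt_Φ_snd : yt G ρ ≫ Φ G ρ ≫ pullback.snd (ρ ≫ G.s) G.t = ρ ≫ G.s ≫ G.e := by
  rw [Φ_snd]
  refine (precomp_comp G (yt G ρ) _ _ _).trans ?_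
  have e1 : yt G ρ ≫ (pullback.fst (ρ ≫ G.t) G.t ≫ ρ) ≫ G.i = ρ ≫ G.i := by
    unfold yt
    simp only [Category.assoc, pullback.lift_fst_assoc, Category.id_comp]
  have e2 : yt G ρ ≫ pullback.snd (ρ ≫ G.t) G.t = ρ := by
    unfold yt
    rw [pullback.lift_snd]
  refine (comp_congr G _ e1 e2).trans ?_
  exact i_comp G ρ _

end Transl

section LocDim

open Groth.Agent.Lib.Helper2.Grpd

variable {S : Scheme.{u}} (G : Grpd.GroupoidScheme S)

/-- homogeneity: the local dimension of `R` at any point equals the local dimension at an identity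
point. -/
theorem localDim_eq_localDim_e [IsIntegral G.U] [Subsingleton G.U] [LocallyOfFiniteType G.t]
    (r : G.R) : FlatMor.localDim G.R r = FlatMor.localDim G.R (G.e (G.s r)) := by
  let K := G.R.residueField r
  let ρ : Spec K ⟶ G.R := G.R.fromSpecResidueField r
  haveI hsub : Subsingleton (Spec K) :=
    inferInstanceAs (Subsingleton (PrimeSpectrum (G.R.residueField r)))
  let pt : Spec K := IsLocalRing.closedPoint (G.R.residueField r)
  have h1 := Groth.Agent.Lib.Helper3.LocDimBC.localDim_eq_of_isPullback_onePoint G.t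
    (pullback.fst (ρ ≫ G.t) G.t) (pullback.snd (ρ ≫ G.t) G.t) (ρ ≫ G.t)
    (IsPullback.of_hasPullback (ρ ≫ G.t) G.t).flip (yt G ρ pt)
  have h2 := Groth.Agent.Lib.Helper3.LocDimBC.localDim_eq_of_isPullback_onePoint G.t
    (pullback.fst (ρ ≫ G.s) G.t) (pullback.snd (ρ ≫ G.s) G.t) (ρ ≫ G.s)
    (IsPullback.of_hasPullback (ρ ≫ G.s) G.t).flip (Φ G ρ (yt G ρ pt))
  have h3 := Groth.Agent.Lib.Helper22.FibDimLim.localDim_eq_of_isHomeomorph (Φ G ρ)
    (ΦIso G ρ).hom.homeomorph.isHomeomorph (yt G ρ pt)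
  have e1 : (pullback.snd (ρ ≫ G.t) G.t) (yt G ρ pt) = r := by
    rw [← Scheme.Hom.comp_apply]
    have : yt G ρ ≫ pullback.snd (ρ ≫ G.t) G.t = ρ := by
      unfold yt; rw [pullback.lift_snd]
    rw [this]
    exact Scheme.fromSpecResidueField_apply _ _
  have e2 : (pullback.snd (ρ ≫ G.s) G.t) (Φ G ρ (yt G ρ pt)) = G.e (G.s r) := by
    rw [← Scheme.Hom.comp_apply, ← Scheme.Hom.comp_apply, yt_Φ_snd, Scheme.Hom.comp_apply,
      Scheme.Hom.comp_apply]
    congr 2
    exact Scheme.fromSpecResidueField_apply _ _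
  rw [e1] at h1
  rw [e2] at h2
  rw [← h1, h3, h2]

end LocDim

section Main

open Groth.Agent.Lib.Helper2.Grpd Groth.Agent.Lib.Helper7.TopDim

variable {S : Scheme.{u}} (G : Grpd.GroupoidScheme S)

/-- the stabilizer maps to `R` by an immersion. -/
theorem isEmbedding_stabilizer : Topology.IsEmbedding (pullback.fst G.j G.diag) := by
  haveI : IsImmersion G.diag := by
    unfold Grpd.GroupoidScheme.diag
    exact inferInstanceAs (IsImmersion (pullback.diagonal G.pU))
  exact (pullback.fst G.j G.diag).isEmbedding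

theorem dim_stabilizer_le : topologicalKrullDim G.stabilizer ≤ topologicalKrullDim G.R :=
  (isEmbedding_stabilizer G).isInducing.topologicalKrullDim_le

/-- an open subset of `R` contained in the image of the stabilizer has dimension at most that of the
stabilizer. -/
theorem dim_le_dim_stabilizer_of_subset (o : TopologicalSpace.Opens G.R)
    (ho : (o : Set G.R) ⊆ Set.range (pullback.fst G.j G.diag)) :
    topologicalKrullDim (o : Set G.R) ≤ topologicalKrullDim G.stabilizer := by
  classical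
  let g : ↥(o : Set ↥G.R) → ↥G.stabilizer := fun y => Classical.choose (ho y.2)
  have hg : ∀ y, (pullback.fst G.j G.diag) (g y) = y.1 := fun y => Classical.choose_spec (ho y.2)
  have hcomp : (fun y => (pullback.fst G.j G.diag) (g y)) = Subtype.val := funext hg
  have hind : Topology.IsInducing g := by
    refine ((isEmbedding_stabilizer G).isInducing.of_comp_iff (f := g)).mp ?_
    change Topology.IsInducing (fun y => (pullback.fst G.j G.diag) (g y))
    rw [hcomp]
    exact Topology.IsInducing.subtypeVal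
  exact hind.topologicalKrullDim_le

/-- **dimension of a groupoid on a field**: `dim R = dim` of the stabilizer, given that only one
irreducible component of `R` passes through the identity point. -/
theorem dim_eq_dim_stabilizer (k : Type u) [Field k] (eU : G.U ≅ Spec (CommRingCat.of k))
    [LocallyOfFiniteType G.s] [LocallyOfFiniteType G.t]
    (huniq : ∀ Z₁ ∈ irreducibleComponents G.R, ∀ Z₂ ∈ irreducibleComponents G.R,
      G.e (eU.inv (IsLocalRing.closedPoint k)) ∈ Z₁ →
      G.e (eU.inv (IsLocalRing.closedPoint k)) ∈ Z₂ → Z₁ = Z₂) :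
    topologicalKrullDim G.R = topologicalKrullDim G.stabilizer := by
  classical
  haveI hUn : Nonempty G.U := ⟨eU.inv (IsLocalRing.closedPoint k)⟩
  haveI hUi : AlgebraicGeometry.IsIntegral G.U := isIntegral_of_isOpenImmersion eU.hom
  haveI hUs : Subsingleton G.U := eU.hom.homeomorph.subsingleton
  haveI hsubk : Subsingleton (Spec (CommRingCat.of k)) :=
    inferInstanceAs (Subsingleton (PrimeSpectrum k))
  set u₀ : G.U := eU.inv (IsLocalRing.closedPoint k) with hu₀
  set x₀ : G.R := G.e u₀ with hx₀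
  have hloc : ∀ r : G.R, FlatMor.localDim G.R r = FlatMor.localDim G.R x₀ := by
    intro r
    rw [localDim_eq_localDim_e G r, Subsingleton.elim (G.s r) u₀]
  -- the component through x₀ as an integral scheme
  let Zc : TopologicalSpace.Closeds G.R := ⟨irreducibleComponent x₀, isClosed_irreducibleComponent⟩
  haveI : IrreducibleSpace (Scheme.IdealSheafData.vanishingIdeal Zc).subscheme :=
    GrpdRat.irreducibleSpace_subscheme Zc isIrreducible_irreducibleComponent
  haveI : AlgebraicGeometry.IsIntegral (Scheme.IdealSheafData.vanishingIdeal Zc).subscheme :=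
    isIntegral_of_irreducibleSpace_of_isReduced _
  let ι := (Scheme.IdealSheafData.vanishingIdeal Zc).subschemeι
  have hrange : Set.range (eU.inv ≫ G.e) ⊆ (Zc : Set G.R) := by
    rintro _ ⟨d, rfl⟩
    rw [Subsingleton.elim d (IsLocalRing.closedPoint k), Scheme.Hom.comp_apply]
    exact mem_irreducibleComponent
  obtain ⟨ε, hε⟩ := Groth.Agent.Lib.Helper11RedCl.exists_lift_of_range_subset (eU.inv ≫ G.e) Zc hrange
  have hab : ι ≫ G.s ≫ eU.hom = ι ≫ G.t ≫ eU.hom := by
    apply hom_eq_of_section k (ι ≫ G.s ≫ eU.hom) (ι ≫ G.t ≫ eU.hom) ε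
    · rw [reassoc_of% hε]
      simp only [reassoc_of% G.e_s, Iso.inv_hom_id]
    · rw [reassoc_of% hε]
      simp only [reassoc_of% G.e_t, Iso.inv_hom_id]
  have hst : ι ≫ G.s = ι ≫ G.t := by
    rw [← cancel_mono eU.hom]
    simpa only [Category.assoc] using hab
  have hlift : ι ≫ G.j = (ι ≫ G.t) ≫ G.diag := by
    unfold Grpd.GroupoidScheme.j Grpd.GroupoidScheme.diag
    apply pullback.hom_ext
    · simp only [Category.assoc, pullback.lift_fst, Category.comp_id]
    · simp only [Category.assoc, pullback.lift_snd, Category.comp_id]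
      exact hst
  have hZsub : (irreducibleComponent x₀ : Set G.R) ⊆ Set.range (pullback.fst G.j G.diag) := by
    intro z hz
    have : z ∈ Set.range ι := by
      rw [Groth.Agent.Lib.Helper11RedCl.range_subschemeι_vanishingIdeal]
      exact hz
    obtain ⟨w, rfl⟩ := this
    refine ⟨(pullback.lift ι (ι ≫ G.t) hlift) w, ?_⟩
    rw [← Scheme.Hom.comp_apply, pullback.lift_fst]
  -- a noetherian affine neighbourhood
  haveI : IsLocallyNoetherian G.U := isLocallyNoetherian_of_isOpenImmersion eU.hom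
  haveI : IsLocallyNoetherian G.R := LocallyOfFiniteType.isLocallyNoetherian G.t
  obtain ⟨_, ⟨W, hW, rfl⟩, hxW, -⟩ :=
    G.R.isBasis_affineOpens.exists_subset_of_mem_open (Set.mem_univ x₀) isOpen_univ
  haveI : IsNoetherianRing Γ(G.R, W) := IsLocallyNoetherian.component_noetherian ⟨W, hW⟩
  haveI : TopologicalSpace.NoetherianSpace ↥(W : Set ↥G.R) := noetherianSpace_of_isAffineOpen W hW
  let xW : ↥(W : Set ↥G.R) := ⟨x₀, hxW⟩
  obtain ⟨o, ho, ⟨r', hr'⟩, hoZ⟩ :=
    TopologicalSpace.NoetherianSpace.exists_isOpen_nonempty_subset_irreducibleComponent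
      (irreducibleComponent xW) (irreducibleComponent_mem_irreducibleComponents xW)
  let o' : TopologicalSpace.Opens G.R := ⟨Subtype.val '' o, W.isOpen.isOpenMap_subtype_val _ ho⟩
  have hsubZ : (Subtype.val '' (irreducibleComponent xW) : Set G.R) ⊆ irreducibleComponent x₀ := by
    have hirr : IsIrreducible (Subtype.val '' (irreducibleComponent xW) : Set G.R) :=
      isIrreducible_irreducibleComponent.image _ continuous_subtype_val.continuousOn
    obtain ⟨Z', hZ', hsub, hmax⟩ := exists_preirreducible _ hirr.2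
    have hxZ' : x₀ ∈ Z' := hsub ⟨xW, mem_irreducibleComponent, rfl⟩
    have hZ'm : Z' ∈ irreducibleComponents G.R :=
      ⟨⟨⟨x₀, hxZ'⟩, hZ'⟩, fun T hT hZT => (hmax T hT.2 hZT).le⟩
    have := huniq Z' hZ'm _ (irreducibleComponent_mem_irreducibleComponents x₀) hxZ'
      mem_irreducibleComponent
    rw [← this]
    exact hsub
  have ho' : (o' : Set G.R) ⊆ Set.range (pullback.fst G.j G.diag) := by
    rintro _ ⟨y, hy, rfl⟩
    exact hZsub (hsubZ ⟨y, hoZ hy, rfl⟩)
  apply le_antisymm _ (dim_stabilizer_le G)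
  rw [topologicalKrullDim_eq_iSup_localDim]
  refine iSup_le fun r => ?_
  rw [hloc r, ← hloc r'.1]
  exact (localDim_le r'.1 o' ⟨r', hr', rfl⟩).trans (dim_le_dim_stabilizer_of_subset G o' ho')

end Main

end Groth.Agent.Lib.Helper11.GrpdDim
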