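import Mathlib
import Groth.Prelude.Def_Grpd
/-! Helper2GrpdOrbit: orbits of groupoid schemes with finite source/target (S7464). -/
set_option autoImplicit false
universe u
open CategoryTheory CategoryTheory.Limits AlgebraicGeometry TopologicalSpace Opposite

namespace Groth.Agent.Lib.Helper2.GrpdOrbit

variable {S : Scheme.{u}} (G : Grpd.GroupoidScheme S)

/-- `a` and `b` are joined by an arrow -/
def Rel (a b : G.U) : Prop := ∃ ρ : G.R, G.s ρ = a ∧ G.t ρ = b

theorem rel_trans {a b c : G.U} (h1 : Rel G a b) (h2 : Rel G b c) : Rel G a c := by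
  obtain ⟨ρ1, hs1, ht1⟩ := h1
  obtain ⟨ρ2, hs2, ht2⟩ := h2
  obtain ⟨p, hp1, hp2⟩ := Scheme.Pullback.exists_preimage_pullback (f := G.s) (g := G.t) ρ2 ρ1
    (by rw [hs2, ht1])
  refine ⟨G.c p, ?_, ?_⟩
  · have := G.comp_s (pullback.fst G.s G.t) (pullback.snd G.s G.t) pullback.condition
    have e : pullback.lift (pullback.fst G.s G.t) (pullback.snd G.s G.t) pullback.condition = 𝟙 _ := by
      apply pullback.hom_ext <;> simp
    rw [e, Category.id_comp] at this
    have h3 := congrArg (fun f => f.base p) this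
    simp only [Scheme.Hom.comp_base, TopCat.hom_comp, ContinuousMap.comp_apply] at h3
    rw [h3, hp2, hs1]
  · have := G.comp_t (pullback.fst G.s G.t) (pullback.snd G.s G.t) pullback.condition
    have e : pullback.lift (pullback.fst G.s G.t) (pullback.snd G.s G.t) pullback.condition = 𝟙 _ := by
      apply pullback.hom_ext <;> simp
    rw [e, Category.id_comp] at this
    have h3 := congrArg (fun f => f.base p) this
    simp only [Scheme.Hom.comp_base, TopCat.hom_comp, ContinuousMap.comp_apply] at h3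
    rw [h3, hp1, ht2]


theorem eq_of_specializes_fibre {X Y : Scheme.{u}} (f : X ⟶ Y) [LocallyQuasiFinite f] {x x' : X}
    (h : x ⤳ x') (he : f x = f x') : x = x' := by
  have hd := f.isDiscrete_preimage_singleton (f x')
  haveI : DiscreteTopology (f ⁻¹' {f x'}) := hd.to_subtype
  let a : (f ⁻¹' {f x'}) := ⟨x, he⟩
  let b : (f ⁻¹' {f x'}) := ⟨x', rfl⟩
  have hab : a ⤳ b := by
    exact (Topology.IsInducing.subtypeVal.specializes_iff (x := a) (y := b)).mp h
  have := hab.eq
  exact congrArg Subtype.val this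

theorem step [IsFinite G.s] [IsFinite G.t] {a b : G.U} (hr : Rel G a b) (hsp : a ⤳ b) (hne : a ≠ b) :
    ∃ b', Rel G b b' ∧ b ⤳ b' ∧ b ≠ b' := by
  obtain ⟨ρ, hs, ht⟩ := hr
  have hcl : IsClosedMap G.s := G.s.isClosedMap
  have hsm := hcl.specializingMap
  have h1 : G.s ρ ⤳ b := hs ▸ hsp
  obtain ⟨ρ', hρ, hs'⟩ := hsm h1
  have hρ' : ρ ⤳ ρ' := hρ
  refine ⟨G.t ρ', ⟨ρ', hs', rfl⟩, ?_, ?_⟩
  · rw [← ht]
    exact hρ'.map G.t.continuous
  · intro e
    rw [← ht] at e
    have := eq_of_specializes_fibre G.t hρ' e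
    apply hne
    rw [← hs, ← hs', this]

theorem main [IsFinite G.s] [IsFinite G.t] (r : G.R) (hne : G.s r ≠ G.t r) :
    ¬ (G.s r ⤳ G.t r) := by
  intro hsp
  -- the sequence
  let P : G.U × G.U → Prop := fun q => Rel G q.1 q.2 ∧ q.1 ⤳ q.2 ∧ q.1 ≠ q.2
  have hstep : ∀ q : {q : G.U × G.U // P q}, ∃ q' : {q : G.U × G.U // P q}, q'.1.1 = q.1.2 := by
    rintro ⟨⟨a, b⟩, hr, hs, hn⟩
    obtain ⟨b', h1, h2, h3⟩ := step G hr hs hn
    exact ⟨⟨(b, b'), h1, h2, h3⟩, rfl⟩
  choose nxt hnxt using hstep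
  let q0 : {q : G.U × G.U // P q} := ⟨(G.s r, G.t r), ⟨r, rfl, rfl⟩, hsp, hne⟩
  let sq : ℕ → {q : G.U × G.U // P q} := fun n => nxt^[n] q0
  let v : ℕ → G.U := fun n => (sq n).1.2
  have hsq : ∀ n, (sq (n+1)).1.1 = (sq n).1.2 := by
    intro n
    change (nxt^[n+1] q0).1.1 = _
    rw [Function.iterate_succ_apply']
    exact hnxt _
  have hv_rel : ∀ n, Rel G (v n) (v (n+1)) := by
    intro n
    have := (sq (n+1)).2.1
    rw [hsq n] at this
    exact this
  have hv_sp : ∀ n, v n ⤳ v (n+1) := by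
    intro n
    have := (sq (n+1)).2.2.1
    rw [hsq n] at this
    exact this
  have hv_ne : ∀ n, v n ≠ v (n+1) := by
    intro n
    have := (sq (n+1)).2.2.2
    rw [hsq n] at this
    exact this
  -- all v n are in the orbit of s r
  have hv0 : Rel G (G.s r) (v 0) := ⟨r, rfl, rfl⟩
  have hvn : ∀ n, Rel G (G.s r) (v n) := by
    intro n
    induction n with
    | zero => exact hv0
    | succ n ih => exact rel_trans G ih (hv_rel n)
  have hfin : (G.t '' (G.s ⁻¹' {G.s r})).Finite :=
    (G.s.finite_preimage_singleton (G.s r)).image _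
  -- v is strictly specializing hence injective
  have hv_sp' : ∀ m n, m ≤ n → v m ⤳ v n := by
    intro m n hmn
    induction n, hmn using Nat.le_induction with
    | base => exact specializes_rfl
    | succ n _ ih => exact ih.trans (hv_sp n)
  have hinj : Function.Injective v := by
    intro m n hmn
    by_contra hne'
    wlog hlt : m < n generalizing m n
    · exact this hmn.symm (Ne.symm hne') (lt_of_le_of_ne (not_lt.mp hlt) (Ne.symm hne'))
    have h1 : v m ⤳ v (m+1) := hv_sp m
    have h2 : v (m+1) ⤳ v n := hv_sp' (m+1) n hlt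
    rw [← hmn] at h2
    exact hv_ne m (h1.antisymm h2).eq
  have hmem : ∀ n, v n ∈ G.t '' (G.s ⁻¹' {G.s r}) := by
    intro n
    obtain ⟨ρ, h1, h2⟩ := hvn n
    exact ⟨ρ, h1, h2⟩
  exact Set.infinite_of_injective_forall_mem hinj hmem hfin

end Groth.Agent.Lib.Helper2.GrpdOrbit
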