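import Mathlib
import Groth.Prelude.Def_Grpd
import Groth.Agent.Lib.Helper2Grpd
import Groth.Agent.Lib.Helper11GrpdRat
import Groth.Agent.Lib.Helper2GrpdOrbit

/-!
# Restriction (pullback) of a groupoid scheme along a morphism `g : U' ⟶ U` (helper11)

`pb G g` is the groupoid scheme `(U', R' = U' ×_U R ×_U U')`.
-/

set_option autoImplicit false
set_option linter.style.haveILetI false
universe u

open CategoryTheory CategoryTheory.Limits AlgebraicGeometry

namespace Groth.Agent.Lib.Helper11.GrpdPb

open Groth.Agent.Lib.Helper2.Grpd Groth.Agent.Lib.Helper11.GrpdRat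

variable {S : Scheme.{u}} (G : Grpd.GroupoidScheme S) {U' : Scheme.{u}} (g : U' ⟶ G.U)

section ops

/-- identity -/
noncomputable def e' : U' ⟶ R' G g :=
  mk (𝟙 U') (g ≫ G.e) (𝟙 U') (by rw [Category.id_comp, Category.assoc, G.e_t, Category.comp_id])
    (by rw [Category.id_comp, Category.assoc, G.e_s, Category.comp_id])

/-- inverse -/
noncomputable def i' : R' G g ⟶ R' G g :=
  mk (β G g) (ρ G g ≫ G.i) (α G g) (by rw [Category.assoc, G.i_t, ρ_s])
    (by rw [Category.assoc, G.i_s, α_g])

theorem hc (T : Scheme.{u}) (a b : T ⟶ R' G g) (h : a ≫ β G g = b ≫ α G g) :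
    (a ≫ ρ G g) ≫ G.s = (b ≫ ρ G g) ≫ G.t := by
  rw [Category.assoc, ρ_s, ← Category.assoc, h, Category.assoc, α_g, Category.assoc]

/-- composition -/
noncomputable def c' : pullback (β G g) (α G g) ⟶ R' G g :=
  mk (pullback.fst _ _ ≫ α G g)
    (comp G (pullback.fst _ _ ≫ ρ G g) (pullback.snd _ _ ≫ ρ G g)
      (hc G g _ _ _ pullback.condition))
    (pullback.snd _ _ ≫ β G g)
    (by rw [comp_t, Category.assoc, Category.assoc, α_g])
    (by rw [comp_s, Category.assoc, Category.assoc, ρ_s])

variable {T : Scheme.{u}}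

theorem lift_c'_α (a b : T ⟶ R' G g) (h : a ≫ β G g = b ≫ α G g) :
    (pullback.lift a b h ≫ c' G g) ≫ α G g = a ≫ α G g := by
  unfold c'
  rw [Category.assoc, mk_α, pullback.lift_fst_assoc]

theorem lift_c'_β (a b : T ⟶ R' G g) (h : a ≫ β G g = b ≫ α G g) :
    (pullback.lift a b h ≫ c' G g) ≫ β G g = b ≫ β G g := by
  unfold c'
  rw [Category.assoc, mk_β, pullback.lift_snd_assoc]

theorem lift_c'_ρ (a b : T ⟶ R' G g) (h : a ≫ β G g = b ≫ α G g) :
    (pullback.lift a b h ≫ c' G g) ≫ ρ G g = comp G (a ≫ ρ G g) (b ≫ ρ G g) (hc G g T a b h) := by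
  unfold c'
  rw [Category.assoc, mk_ρ, precomp_comp]
  apply comp_congr
  · rw [pullback.lift_fst_assoc]
  · rw [pullback.lift_snd_assoc]

end ops

section grpd

variable {T : Scheme.{u}}

@[reassoc (attr := simp)]
theorem e'_α : e' G g ≫ α G g = 𝟙 U' := by unfold e'; rw [mk_α]

@[reassoc (attr := simp)]
theorem e'_β : e' G g ≫ β G g = 𝟙 U' := by unfold e'; rw [mk_β]

@[reassoc (attr := simp)]
theorem e'_ρ : e' G g ≫ ρ G g = g ≫ G.e := by unfold e'; rw [mk_ρ]

@[reassoc (attr := simp)]
theorem i'_α : i' G g ≫ α G g = β G g := by unfold i'; rw [mk_α]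

@[reassoc (attr := simp)]
theorem i'_β : i' G g ≫ β G g = α G g := by unfold i'; rw [mk_β]

@[reassoc (attr := simp)]
theorem i'_ρ : i' G g ≫ ρ G g = ρ G g ≫ G.i := by unfold i'; rw [mk_ρ]

/-- the restriction of the groupoid `G` along `g : U' ⟶ U` -/
noncomputable def pb : Grpd.GroupoidScheme S where
  U := U'
  R := R' G g
  pU := g ≫ G.pU
  pR := ρ G g ≫ G.pR
  s := β G g
  t := α G g
  e := e' G g
  i := i' G g
  c := c' G g
  s_over := by rw [← Category.assoc, ← ρ_s, Category.assoc, G.s_over]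
  t_over := by rw [← Category.assoc, α_g, Category.assoc, G.t_over]
  comp_s := fun a b h => lift_c'_β G g a b h
  comp_t := fun a b h => lift_c'_α G g a b h
  assoc := fun a b c h₁ h₂ => by
    apply hom_ext'
    · rw [lift_c'_α, lift_c'_α, lift_c'_α]
    · refine (lift_c'_ρ G g _ _ _).trans ?_
      refine Eq.trans ?_ (lift_c'_ρ G g _ _ _).symm
      refine (comp_congr G _ (lift_c'_ρ G g a b h₁) rfl).trans ?_
      refine Eq.trans ?_ (comp_congr G _ rfl (lift_c'_ρ G g b c h₂)).symm
      exact comp_assoc G (a ≫ ρ G g) (b ≫ ρ G g) (c ≫ ρ G g) _ _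
    · rw [lift_c'_β, lift_c'_β, lift_c'_β]
  e_s := e'_β G g
  e_t := e'_α G g
  comp_e := fun a => by
    apply hom_ext'
    · rw [lift_c'_α]
    · rw [lift_c'_ρ]
      refine comp_e G (a ≫ ρ G g) _ ?_ _
      simp only [Category.assoc, e'_ρ, ρ_s_assoc]
    · rw [lift_c'_β]
      simp only [Category.assoc, e'_β, Category.comp_id]
  e_comp := fun a => by
    apply hom_ext'
    · rw [lift_c'_α]
      simp only [Category.assoc, e'_α, Category.comp_id]
    · rw [lift_c'_ρ]
      refine e_comp G (a ≫ ρ G g) _ ?_ _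
      simp only [Category.assoc, e'_ρ, α_g_assoc]
    · rw [lift_c'_β]
  i_s := i'_β G g
  i_t := i'_α G g
  comp_i := fun a => by
    apply hom_ext'
    · rw [lift_c'_α]
      simp only [Category.assoc, e'_α, Category.comp_id]
    · rw [lift_c'_ρ]
      have h1 : (a ≫ i' G g) ≫ ρ G g = (a ≫ ρ G g) ≫ G.i := by
        simp only [Category.assoc, i'_ρ]
      refine (comp_congr G _ rfl h1).trans ?_
      refine (comp_i G (a ≫ ρ G g) _).trans ?_
      simp only [Category.assoc, e'_ρ, α_g_assoc]
    · rw [lift_c'_β]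
      simp only [Category.assoc, i'_β, e'_β, Category.comp_id]
  i_comp := fun a => by
    apply hom_ext'
    · rw [lift_c'_α]
      simp only [Category.assoc, i'_α, e'_α, Category.comp_id]
    · rw [lift_c'_ρ]
      have h1 : (a ≫ i' G g) ≫ ρ G g = (a ≫ ρ G g) ≫ G.i := by
        simp only [Category.assoc, i'_ρ]
      refine (comp_congr G _ h1 rfl).trans ?_
      refine (i_comp G (a ≫ ρ G g) _).trans ?_
      simp only [Category.assoc, e'_ρ, ρ_s_assoc]
    · rw [lift_c'_β]
      simp only [Category.assoc, e'_β, Category.comp_id]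

@[simp] theorem pb_U : (pb G g).U = U' := rfl
@[simp] theorem pb_R : (pb G g).R = R' G g := rfl
@[simp] theorem pb_s : (pb G g).s = β G g := rfl
@[simp] theorem pb_t : (pb G g).t = α G g := rfl

end grpd

section points

open Groth.Agent.Lib.Helper2.GrpdOrbit

theorem β_apply_g (x : R' G g) : g (β G g x) = G.s (ρ G g x) := by
  rw [← Scheme.Hom.comp_apply, ← Scheme.Hom.comp_apply, ρ_s]

theorem α_apply_g (x : R' G g) : g (α G g x) = G.t (ρ G g x) := by
  rw [← Scheme.Hom.comp_apply, ← Scheme.Hom.comp_apply, α_g]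

/-- points of the restricted arrow scheme -/
theorem exists_point (a b : U') (r : G.R) (hs : G.s r = g a) (ht : G.t r = g b) :
    ∃ x : R' G g, β G g x = a ∧ α G g x = b ∧ ρ G g x = r := by
  obtain ⟨p, hp1, hp2⟩ := Scheme.Pullback.exists_preimage_pullback (f := g) (g := G.t) b r ht.symm
  obtain ⟨x, hx1, hx2⟩ := Scheme.Pullback.exists_preimage_pullback
    (f := pullback.snd g G.t ≫ G.s) (g := g) p a (by rw [Scheme.Hom.comp_apply, hp2, hs])
  refine ⟨x, hx2, ?_, ?_⟩
  · unfold α
    rw [Scheme.Hom.comp_apply, hx1, hp1]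
  · unfold ρ
    rw [Scheme.Hom.comp_apply, hx1, hp2]

theorem rel_pb_iff (a b : U') : Rel (pb G g) a b ↔ Rel G (g a) (g b) := by
  constructor
  · rintro ⟨x, rfl, rfl⟩
    exact ⟨ρ G g x, (β_apply_g G g x).symm, (α_apply_g G g x).symm⟩
  · rintro ⟨r, hs, ht⟩
    obtain ⟨x, h1, h2, -⟩ := exists_point G g a b r hs ht
    exact ⟨x, h1, h2⟩

end points

section finite

instance [IsClosedImmersion g] [IsFinite G.s] : IsFinite (pb G g).s :=
  inferInstanceAs (IsFinite (pullback.snd (pullback.snd g G.t ≫ G.s) g))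

instance [IsClosedImmersion g] [IsFinite G.t] : IsFinite (pb G g).t :=
  inferInstanceAs (IsFinite (pullback.fst (pullback.snd g G.t ≫ G.s) g ≫ pullback.fst g G.t))

end finite

section immersion

variable [IsImmersion g] (hinv : ∀ r : G.R, G.s r ∈ Set.range g ↔ G.t r ∈ Set.range g)

/-- the arrows of the restriction as a subscheme of `s⁻¹(U')` -/
noncomputable def πs : R' G g ⟶ pullback G.s g := pullback.lift (ρ G g) (β G g) (ρ_s G g)

/-- the arrows of the restriction as a subscheme of `t⁻¹(U')` -/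
noncomputable def πt : R' G g ⟶ pullback g G.t := pullback.fst (pullback.snd g G.t ≫ G.s) g

instance : IsImmersion (ρ G g) := by unfold ρ; infer_instance

instance : IsImmersion (πs G g) := by
  haveI : IsImmersion (πs G g ≫ pullback.fst G.s g) := by
    unfold πs
    rw [pullback.lift_fst]
    infer_instance
  exact IsImmersion.of_comp (πs G g) (pullback.fst G.s g)

instance : IsImmersion (πt G g) := by unfold πt; infer_instance

include hinv in
theorem πs_surjective : Function.Surjective (πs G g) := by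
  intro q
  have h1 : G.s (pullback.fst G.s g q) = g (pullback.snd G.s g q) := by
    rw [← Scheme.Hom.comp_apply, ← Scheme.Hom.comp_apply, pullback.condition]
  obtain ⟨b, hb⟩ := (hinv (pullback.fst G.s g q)).1 ⟨_, h1.symm⟩
  obtain ⟨x, -, -, hx⟩ := exists_point G g _ b _ h1 hb.symm
  refine ⟨x, ?_⟩
  apply (pullback.fst G.s g).isEmbedding.injective
  rw [← Scheme.Hom.comp_apply]
  unfold πs
  rw [pullback.lift_fst]
  exact hx

include hinv in
theorem πt_surjective : Function.Surjective (πt G g) := by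
  intro q
  have h1 : g (pullback.fst g G.t q) = G.t (pullback.snd g G.t q) := by
    rw [← Scheme.Hom.comp_apply, ← Scheme.Hom.comp_apply, pullback.condition]
  obtain ⟨a, ha⟩ := (hinv (pullback.snd g G.t q)).2 ⟨_, h1⟩
  obtain ⟨x, -, -, hx⟩ := exists_point G g a _ _ ha.symm h1.symm
  refine ⟨x, ?_⟩
  apply (pullback.snd g G.t).isEmbedding.injective
  rw [← Scheme.Hom.comp_apply]
  exact hx

include hinv in
theorem isFinite_pb_s [IsFinite G.s] : IsFinite (pb G g).s := by
  haveI : IsClosedImmersion (πs G g) := IsClosedImmersion.of_isPreimmersion _ (by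
    rw [(πs_surjective G g hinv).range_eq]; exact isClosed_univ)
  have : (pb G g).s = πs G g ≫ pullback.snd G.s g := by
    unfold πs
    rw [pullback.lift_snd]
    rfl
  have h : IsFinite (πs G g ≫ pullback.snd G.s g) := inferInstance
  rw [this]
  exact h

include hinv in
theorem isFinite_pb_t [IsFinite G.t] : IsFinite (pb G g).t := by
  haveI : IsClosedImmersion (πt G g) := IsClosedImmersion.of_isPreimmersion _ (by
    rw [(πt_surjective G g hinv).range_eq]; exact isClosed_univ)
  have : (pb G g).t = πt G g ≫ pullback.fst g G.t := rfl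
  have h : IsFinite (πt G g ≫ pullback.fst g G.t) := inferInstance
  rw [this]
  exact h

end immersion

end Groth.Agent.Lib.Helper11.GrpdPb
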