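import Groth.Agent.Lib.Helper20EtSection

/-!
# Étale lifting of idempotents along integral maps (helper20)
-/

set_option autoImplicit false
universe u

open TensorProduct Polynomial

namespace Groth.Agent.Lib.Helper20.EtIdem

/-- Step 1: a monic polynomial killing `b₀` that reduces to `X^(d+1) (X-1)^(d+1)`. -/
theorem exists_monic_aeval_eq_zero {A B : Type u} [CommRing A] [CommRing B] [Algebra A B]
    [Algebra.IsIntegral A B] (I : Ideal A) (b₀ : B)
    (hb₀ : b₀ * b₀ - b₀ ∈ I.map (algebraMap A B)) :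
    ∃ (f : A[X]) (d : ℕ), f.Monic ∧ aeval b₀ f = 0 ∧
      f.map (Ideal.Quotient.mk I) = X ^ (d + 1) * (X - 1) ^ (d + 1) := by
  rcases subsingleton_or_nontrivial A with hA | hA
  · have : Subsingleton B := Module.subsingleton A B
    exact ⟨1, 0, monic_one, Subsingleton.elim _ _, Subsingleton.elim _ _⟩
  obtain ⟨p, hp, hpz, hpI⟩ := Polynomial.exists_monic_aeval_eq_zero_forall_mem_of_mem_map hb₀
  have hpmap : p.map (Ideal.Quotient.mk I) = X ^ p.natDegree := by
    ext i
    rw [coeff_map, coeff_X_pow]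
    split_ifs with hi
    · rw [hi, hp.coeff_natDegree, map_one]
    · exact Ideal.Quotient.eq_zero_iff_mem.mpr (hpI i hi)
  refine ⟨(p * X).comp (X * (X - C 1)), p.natDegree, ?_, ?_, ?_⟩
  · refine (hp.mul monic_X).comp (monic_X.mul (monic_X_sub_C 1)) ?_
    rw [monic_X.natDegree_mul (monic_X_sub_C 1)]
    simp
  · rw [aeval_comp]
    simp only [map_sub, aeval_X, map_mul, aeval_C, map_one]
    have : b₀ * (b₀ - 1) = b₀ * b₀ - b₀ := by ring
    rw [this, hpz, zero_mul]
  · rw [Polynomial.map_comp, Polynomial.map_mul, hpmap, Polynomial.map_X, Polynomial.map_mul,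
      Polynomial.map_sub, Polynomial.map_X, Polynomial.map_C, map_one]
    simp only [mul_comp, pow_comp, X_comp, C_1]
    rw [mul_pow]
    ring

/-- Étale lifting of idempotents along integral ring maps (Stacks 15.9). -/
theorem exists_etale_lift_idempotent {A B : Type u} [CommRing A] [CommRing B] [Algebra A B]
    [Algebra.IsIntegral A B] (I : Ideal A) (e : B ⧸ I.map (algebraMap A B))
    (he : IsIdempotentElem e) :
    ∃ (A' : Type u) (_ : CommRing A') (_ : Algebra A A'), Algebra.Etale A A' ∧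
      Function.Bijective (algebraMap (A ⧸ I) (A' ⧸ I.map (algebraMap A A'))) ∧
      ∃ e' : A' ⊗[A] B, IsIdempotentElem e' ∧
        ∀ b : B, Ideal.Quotient.mk (I.map (algebraMap A B)) b = e →
          e' - 1 ⊗ₜ b ∈ I.map (algebraMap A (A' ⊗[A] B)) := by
  obtain ⟨b₀, rfl⟩ := Ideal.Quotient.mk_surjective e
  have hb₀ : b₀ * b₀ - b₀ ∈ I.map (algebraMap A B) := by
    rw [← Ideal.Quotient.eq_zero_iff_mem, map_sub, map_mul, he.eq, sub_self]
  obtain ⟨f, d, hf, hfb, hfmap⟩ := exists_monic_aeval_eq_zero I b₀ hb₀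
  have hcop : IsCoprime (X ^ (d + 1) : (A ⧸ I)[X]) ((X - 1) ^ (d + 1)) := by
    apply IsCoprime.pow
    exact ⟨1, -1, by ring⟩
  have hm : ((X : (A ⧸ I)[X]) - 1).Monic := by simpa using monic_X_sub_C (1 : A ⧸ I)
  obtain ⟨A', _, _, hét, hbij, g', h', hg', hh', hfgh, ⟨u, v, huv⟩, hg'map, hh'map⟩ :=
    EtSection.exists_etale_lift_factorization I f hf (X ^ (d + 1)) ((X - 1) ^ (d + 1))
      (monic_X_pow _) (hm.pow _) hcop hfmap
  refine ⟨A', _, _, hét, hbij, ?_⟩
  set β : A' ⊗[A] B := 1 ⊗ₜ b₀ with hβ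
  set K : Ideal (A' ⊗[A] B) := I.map (algebraMap A (A' ⊗[A] B)) with hK
  set J' : Ideal A' := I.map (algebraMap A A') with hJ'
  -- (a)
  have hβf : aeval β (f.map (algebraMap A A')) = 0 := by
    rw [Polynomial.aeval_map_algebraMap]
    have : β = (Algebra.TensorProduct.includeRight : B →ₐ[A] A' ⊗[A] B) b₀ := rfl
    rw [this, Polynomial.aeval_algHom_apply, hfb, map_zero]
  -- (b)
  have hgh : aeval β g' * aeval β h' = 0 := by rw [← map_mul, ← hfgh, hβf]
  -- (c)
  have h1 : aeval β (u * g') + aeval β (v * h') = 1 := by rw [← map_add, huv, map_one]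
  have hidem : IsIdempotentElem (aeval β (u * g')) := by
    have h2 : aeval β (u * g') * aeval β (v * h') = 0 := by
      rw [map_mul, map_mul]
      calc aeval β u * aeval β g' * (aeval β v * aeval β h')
          = aeval β u * aeval β v * (aeval β g' * aeval β h') := by ring
        _ = 0 := by rw [hgh, mul_zero]
    have h3 : aeval β (u * g') = 1 - aeval β (v * h') := eq_sub_of_add_eq h1
    show aeval β (u * g') * aeval β (u * g') = aeval β (u * g')
    nth_rewrite 2 [h3]
    rw [mul_sub, mul_one, h2, sub_zero]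
  refine ⟨aeval β (u * g'), hidem, ?_⟩
  -- membership of `includeRight (IB)` in `K`
  have hinc : ∀ y ∈ I.map (algebraMap A B), (1 : A') ⊗ₜ[A] y ∈ K := by
    intro y hy
    have : K = (I.map (algebraMap A B)).map
        (Algebra.TensorProduct.includeRight : B →ₐ[A] A' ⊗[A] B).toRingHom := by
      rw [hK, Ideal.map_map]
      congr 1
      ext a
      simp [Algebra.TensorProduct.algebraMap_apply, Algebra.algebraMap_eq_smul_one (A := B),
        TensorProduct.tmul_smul, TensorProduct.smul_tmul']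
    rw [this]
    exact Ideal.mem_map_of_mem _ hy
  -- (d)
  have hβ2 : Ideal.Quotient.mk K β * Ideal.Quotient.mk K β = Ideal.Quotient.mk K β := by
    rw [← map_mul, Ideal.Quotient.mk_eq_mk_iff_sub_mem]
    have : β * β - β = (1 : A') ⊗ₜ[A] (b₀ * b₀ - b₀) := by
      rw [hβ, Algebra.TensorProduct.tmul_mul_tmul, mul_one, ← TensorProduct.tmul_sub]
    rw [this]
    exact hinc _ hb₀
  -- (e)
  have hJ'K : ∀ a ∈ J', (Ideal.Quotient.mk K).comp (algebraMap A' (A' ⊗[A] B)) a = 0 := by
    intro a ha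
    have h2 : J' ≤ K.comap (algebraMap A' (A' ⊗[A] B)) := by
      rw [hJ', Ideal.map_le_iff_le_comap]
      intro i hi
      rw [Ideal.mem_comap, Ideal.mem_comap, ← IsScalarTower.algebraMap_apply]
      exact Ideal.mem_map_of_mem _ hi
    rw [RingHom.comp_apply, Ideal.Quotient.eq_zero_iff_mem]
    exact h2 ha
  let φ : A' ⧸ J' →+* (A' ⊗[A] B) ⧸ K := Ideal.Quotient.lift J' _ hJ'K
  have hφ : φ.comp (Ideal.Quotient.mk J') =
      (Ideal.Quotient.mk K).comp (algebraMap A' (A' ⊗[A] B)) := by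
    ext a; simp [φ]
  -- (f)
  have hred : ∀ r : A'[X], Ideal.Quotient.mk K (aeval β r) =
      eval₂ φ (Ideal.Quotient.mk K β) (r.map (Ideal.Quotient.mk J')) := by
    intro r
    rw [Polynomial.eval₂_map, hφ, Polynomial.aeval_def, Polynomial.hom_eval₂]
  have hg'β : Ideal.Quotient.mk K (aeval β g') = Ideal.Quotient.mk K β := by
    rw [hred, hg'map, Polynomial.map_pow, Polynomial.map_X, eval₂_X_pow]
    exact IsIdempotentElem.pow_succ_eq d hβ2
  have hh'β : Ideal.Quotient.mk K (aeval β h') * Ideal.Quotient.mk K β = 0 := by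
    rw [hred, hh'map, Polynomial.map_pow, Polynomial.map_sub, Polynomial.map_X,
      Polynomial.map_one, eval₂_pow, eval₂_sub, eval₂_X, eval₂_one, pow_succ, mul_assoc]
    have : (Ideal.Quotient.mk K β - 1) * Ideal.Quotient.mk K β = 0 := by
      rw [sub_mul, hβ2, one_mul, sub_self]
    rw [this, mul_zero]
  -- (g)
  have hkey : Ideal.Quotient.mk K (aeval β (u * g')) = Ideal.Quotient.mk K β := by
    set x := Ideal.Quotient.mk K (aeval β (u * g')) with hx
    set y := Ideal.Quotient.mk K β with hy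
    have hx1 : x = x * y := by
      rw [hx, map_mul, map_mul, hg'β, mul_assoc, hβ2]
    have hx2 : (1 - x) * y = 0 := by
      have : 1 - x = Ideal.Quotient.mk K (aeval β (v * h')) := by
        rw [hx, ← map_one (Ideal.Quotient.mk K), ← h1, map_add, add_sub_cancel_left]
      rw [this, map_mul, map_mul, mul_assoc, hh'β, mul_zero]
    rw [sub_mul, one_mul, sub_eq_zero] at hx2
    rw [hx1, ← hx2]
  -- (h)
  intro b hb
  have h4 : (1 : A') ⊗ₜ[A] b - β ∈ K := by
    rw [hβ, ← TensorProduct.tmul_sub]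
    apply hinc
    rwa [← Ideal.Quotient.mk_eq_mk_iff_sub_mem]
  have h5 : aeval β (u * g') - β ∈ K := by
    rwa [← Ideal.Quotient.mk_eq_mk_iff_sub_mem]
  have : aeval β (u * g') - 1 ⊗ₜ b = (aeval β (u * g') - β) - ((1 : A') ⊗ₜ[A] b - β) := by ring
  rw [this]
  exact K.sub_mem h5 h4

end Groth.Agent.Lib.Helper20.EtIdem
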