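import Mathlib

/-!
# Sections of étale algebras modulo an ideal (helper20)

If `B` is an unramified `A`-algebra of finite type and `σ : B →ₐ[A] A ⧸ I`, then there is `b : B`
with `σ b = 1` such that `A ⧸ I → B_b ⧸ I B_b` is bijective.
-/

set_option autoImplicit false
universe u

open TensorProduct

namespace Groth.Agent.Lib.Helper20.EtSection

variable {A : Type u} [CommRing A] (I : Ideal A) {B : Type u} [CommRing B] [Algebra A B]

/-- The key element: `ε : B` with `σ ε = 0`, `ε² - ε ∈ IB`, and `ker σ ⊆ (ε) + IB`. -/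
theorem exists_eps [Algebra.FormallyUnramified A B] [Algebra.EssFiniteType A B]
    (σ : B →ₐ[A] A ⧸ I) :
    ∃ ε : B, σ ε = 0 ∧ ε * ε - ε ∈ I.map (algebraMap A B) ∧
      ∀ y : B, σ y = 0 → y ∈ Ideal.span {ε} ⊔ I.map (algebraMap A B) := by
  obtain ⟨e, he, hsp⟩ : ∃ e, IsIdempotentElem e ∧ KaehlerDifferential.ideal A B = B ⊗[A] B ∙ e :=
    (Ideal.isIdempotentElem_iff_of_fg _ (KaehlerDifferential.ideal_fg A B)).mp <|
      (Ideal.cotangent_subsingleton_iff _).mp <| inferInstanceAs <| Subsingleton Ω[B⁄A]
  let IB := I.map (algebraMap A B)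
  let f : B →ₐ[A] B ⧸ IB := (IsScalarTower.toAlgHom A (A ⧸ I) (B ⧸ IB)).comp σ
  let g : B →ₐ[A] B ⧸ IB := Ideal.Quotient.mkₐ A IB
  let τ : B ⊗[A] B →ₐ[A] B ⧸ IB := Algebra.TensorProduct.productMap f g
  let σ' : B ⧸ IB →+* A ⧸ I := Ideal.Quotient.lift IB σ.toRingHom (by
    intro x hx
    have : IB ≤ RingHom.ker σ.toRingHom := by
      rw [Ideal.map_le_iff_le_comap]
      intro a ha
      simp only [Ideal.mem_comap, RingHom.mem_ker, AlgHom.toRingHom_eq_coe, RingHom.coe_coe,
        AlgHom.commutes]
      exact Ideal.Quotient.eq_zero_iff_mem.mpr ha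
    exact this hx)
  have hσ'τ : ∀ z, σ' (τ z) = σ (Algebra.TensorProduct.lmul' A z) := by
    intro z
    induction z using TensorProduct.induction_on with
    | zero => simp
    | tmul x y =>
      simp only [τ, Algebra.TensorProduct.productMap_apply_tmul, map_mul, f, g,
        AlgHom.comp_apply, Algebra.TensorProduct.lmul'_apply_tmul]
      congr 1
      obtain ⟨a, ha⟩ := Ideal.Quotient.mk_surjective (σ x)
      rw [← ha]
      show σ' (Ideal.Quotient.mk IB (algebraMap A B a)) = _
      rw [Ideal.Quotient.lift_mk]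
      simp
    | add x y hx hy => simp only [map_add, hx, hy]
  obtain ⟨ε, hε⟩ := Ideal.Quotient.mk_surjective (τ e)
  refine ⟨ε, ?_, ?_, ?_⟩
  · have h1 : σ ε = σ' (Ideal.Quotient.mk IB ε) := by simp [σ']
    rw [h1, hε, hσ'τ]
    have : e ∈ KaehlerDifferential.ideal A B := by
      rw [hsp]; exact Ideal.mem_span_singleton_self e
    rw [RingHom.mem_ker] at this
    erw [this]
    exact map_zero σ
  · rw [← Ideal.Quotient.eq_zero_iff_mem, map_sub, map_mul, hε, ← map_mul, he.eq, sub_self]
  · intro y hy
    have hmem : (1 : B) ⊗ₜ[A] y - y ⊗ₜ[A] (1 : B) ∈ KaehlerDifferential.ideal A B :=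
      KaehlerDifferential.one_smul_sub_smul_one_mem_ideal A y
    rw [hsp, Ideal.mem_span_singleton'] at hmem
    obtain ⟨z, hz⟩ := hmem
    have h1 : τ ((1 : B) ⊗ₜ[A] y - y ⊗ₜ[A] (1 : B)) = Ideal.Quotient.mk IB y := by
      simp only [map_sub, τ, Algebra.TensorProduct.productMap_apply_tmul, map_one, one_mul,
        mul_one, f, g, AlgHom.comp_apply, hy, map_zero, sub_zero]
      rfl
    obtain ⟨w, hw⟩ := Ideal.Quotient.mk_surjective (τ z)
    rw [← hz, map_mul, ← hε, ← hw, ← map_mul, eq_comm, Ideal.Quotient.mk_eq_mk_iff_sub_mem] at h1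
    have : y = w * ε + (y - w * ε) := by ring
    rw [this]
    exact Submodule.add_mem_sup (Ideal.mem_span_singleton'.mpr ⟨w, rfl⟩) h1


/-- **Key lemma**: a section modulo `I` of an unramified algebra of finite type is cut out by a
principal localization. -/
theorem exists_localization [Algebra.FormallyUnramified A B] [Algebra.EssFiniteType A B]
    (σ : B →ₐ[A] A ⧸ I) :
    ∃ b : B, σ b = 1 ∧
      Function.Bijective (algebraMap (A ⧸ I)
        (Localization.Away b ⧸ I.map (algebraMap A (Localization.Away b)))) ∧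
      ∀ x : B, algebraMap (A ⧸ I)
        (Localization.Away b ⧸ I.map (algebraMap A (Localization.Away b))) (σ x) =
          Ideal.Quotient.mk _ (algebraMap B (Localization.Away b) x) := by
  obtain ⟨ε, hσε, hε2, hker⟩ := exists_eps I σ
  refine ⟨1 - ε, by simp [hσε], ?_⟩
  set b : B := 1 - ε with hb
  set A' := Localization.Away b with hA'
  set J' := I.map (algebraMap A A') with hJ'
  have hJ'eq : J' = (I.map (algebraMap A B)).map (algebraMap B A') := by
    rw [hJ', Ideal.map_map, ← IsScalarTower.algebraMap_eq]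
  have hIB : ∀ y ∈ I.map (algebraMap A B), algebraMap B A' y ∈ J' := by
    intro y hy
    rw [hJ'eq]
    exact Ideal.mem_map_of_mem _ hy
  have hβ : IsUnit (algebraMap B A' b) := IsLocalization.Away.algebraMap_isUnit b
  have hε' : algebraMap B A' ε ∈ J' := by
    rw [← Ideal.mul_unit_mem_iff_mem _ hβ, ← map_mul]
    have : ε * b = -(ε * ε - ε) := by rw [hb]; ring
    rw [this, map_neg]
    exact J'.neg_mem (hIB _ hε2)
  have hkerJ : ∀ y, σ y = 0 → algebraMap B A' y ∈ J' := by
    intro y hy
    obtain ⟨u, hu, v, hv, rfl⟩ := Submodule.mem_sup.mp (hker y hy)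
    obtain ⟨w, rfl⟩ := Ideal.mem_span_singleton'.mp hu
    rw [map_add, map_mul]
    exact J'.add_mem (J'.mul_mem_left _ hε') (hIB _ hv)
  have hcompat : ∀ x : B, algebraMap (A ⧸ I) (A' ⧸ J') (σ x) =
      Ideal.Quotient.mk _ (algebraMap B A' x) := by
    intro x
    obtain ⟨a, ha⟩ := Ideal.Quotient.mk_surjective (σ x)
    rw [← ha, Ideal.Quotient.algebraMap_quotient_map_quotient, Ideal.Quotient.mk_eq_mk_iff_sub_mem,
      IsScalarTower.algebraMap_apply A B A', ← map_sub, ← J'.neg_mem_iff, ← map_neg]
    apply hkerJ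
    rw [map_neg, map_sub, AlgHom.commutes, ← ha]
    simp
  have hβ1 : Ideal.Quotient.mk J' (algebraMap B A' b) = 1 := by
    rw [← map_one (Ideal.Quotient.mk J'), Ideal.Quotient.mk_eq_mk_iff_sub_mem, ← J'.neg_mem_iff]
    have h2 : algebraMap B A' b = algebraMap B A' (1 - ε) := congrArg _ hb
    have : -(algebraMap B A' b - 1) = algebraMap B A' ε := by
      rw [h2, map_sub, map_one]; ring
    rw [this]
    exact hε'
  refine ⟨⟨?_, ?_⟩, hcompat⟩
  · -- injectivity
    have hσb : IsUnit (σ.toRingHom b) := by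
      have : σ.toRingHom b = 1 := by simp [hb, hσε]
      rw [this]; exact isUnit_one
    let σb : A' →+* A ⧸ I := IsLocalization.Away.lift b hσb
    have hσb_alg : ∀ y : B, σb (algebraMap B A' y) = σ y := fun y =>
      IsLocalization.Away.lift_eq b hσb y
    have hJ'ker : J' ≤ RingHom.ker σb := by
      rw [hJ', Ideal.map_le_iff_le_comap]
      intro a ha
      rw [Ideal.mem_comap, RingHom.mem_ker, IsScalarTower.algebraMap_apply A B A', hσb_alg,
        AlgHom.commutes]
      exact Ideal.Quotient.eq_zero_iff_mem.mpr ha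
    rw [injective_iff_map_eq_zero]
    intro z hz
    obtain ⟨a, rfl⟩ := Ideal.Quotient.mk_surjective z
    rw [Ideal.Quotient.algebraMap_quotient_map_quotient, Ideal.Quotient.eq_zero_iff_mem] at hz
    have := hJ'ker hz
    rw [RingHom.mem_ker, IsScalarTower.algebraMap_apply A B A', hσb_alg, AlgHom.commutes] at this
    exact this
  · -- surjectivity
    intro z
    obtain ⟨z', rfl⟩ := Ideal.Quotient.mk_surjective z
    obtain ⟨n, x, hx⟩ := IsLocalization.Away.surj b z'
    refine ⟨σ x, ?_⟩
    rw [hcompat, ← hx, map_mul, map_pow, hβ1, one_pow, mul_one]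

section Fact

open Polynomial

variable {R : Type u} [CommRing R] {S : Type u} [CommRing S] [Algebra R S]
variable {n : ℕ} (m k : ℕ) (hn : n = m + k) (p : Polynomial.MonicDegreeEq R n)

open UniversalCoprimeFactorizationRing in
set_option backward.isDefEq.respectTransparency.types false in
lemma homEquiv_fst (σ : UniversalCoprimeFactorizationRing m k hn p →ₐ[R] S) :
    (homEquiv S m k hn p σ).1.1.1 = (factor₁ m k hn p).1.map σ.toRingHom := by
  simp [homEquiv, UniversalFactorizationRing.homEquiv, factor₁, MonicDegreeEq.map,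
    Polynomial.map_map]
  rfl

open UniversalCoprimeFactorizationRing in
set_option backward.isDefEq.respectTransparency.types false in
lemma homEquiv_snd (σ : UniversalCoprimeFactorizationRing m k hn p →ₐ[R] S) :
    (homEquiv S m k hn p σ).1.2.1 = (factor₂ m k hn p).1.map σ.toRingHom := by
  simp [homEquiv, UniversalFactorizationRing.homEquiv, factor₂, MonicDegreeEq.map,
    Polynomial.map_map]
  rfl


end Fact

section Factorization

open Polynomial

/-- Étale lifting of a coprime monic factorization modulo an ideal (with coprimality of the lifted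
factors). -/
theorem exists_etale_lift_factorization {A : Type u} [CommRing A] (I : Ideal A) (f : A[X])
    (hf : f.Monic) (g h : (A ⧸ I)[X]) (hg : g.Monic) (hh : h.Monic) (hcop : IsCoprime g h)
    (hfgh : f.map (Ideal.Quotient.mk I) = g * h) :
    ∃ (A' : Type u) (_ : CommRing A') (_ : Algebra A A'), Algebra.Etale A A' ∧
      Function.Bijective (algebraMap (A ⧸ I) (A' ⧸ I.map (algebraMap A A'))) ∧
      ∃ g' h' : A'[X], g'.Monic ∧ h'.Monic ∧ f.map (algebraMap A A') = g' * h' ∧
        IsCoprime g' h' ∧
        g'.map (Ideal.Quotient.mk (I.map (algebraMap A A'))) =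
          g.map (algebraMap (A ⧸ I) (A' ⧸ I.map (algebraMap A A'))) ∧
        h'.map (Ideal.Quotient.mk (I.map (algebraMap A A'))) =
          h.map (algebraMap (A ⧸ I) (A' ⧸ I.map (algebraMap A A'))) := by
  classical
  rcases subsingleton_or_nontrivial (A ⧸ I) with hsub | hnt
  · -- trivial case `I = ⊤`
    have hItop : I = ⊤ := Ideal.Quotient.subsingleton_iff.mp hsub
    have hsub' : Subsingleton (A ⧸ I.map (algebraMap A A)) := by
      rw [Ideal.Quotient.subsingleton_iff, hItop, Ideal.map_top]
    refine ⟨A, inferInstance, inferInstance, inferInstance, ⟨fun x y _ => Subsingleton.elim x y,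
      fun z => ⟨0, Subsingleton.elim _ _⟩⟩, f, 1, ?_, monic_one, by simp, isCoprime_one_right,
      Subsingleton.elim _ _, Subsingleton.elim _ _⟩
    simpa using hf
  · -- main case
    set n := f.natDegree with hn'
    set m := g.natDegree with hm
    set k := h.natDegree with hk
    have hn : n = m + k := by
      have h1 : (f.map (Ideal.Quotient.mk I)).natDegree = n := hf.natDegree_map _
      rw [← h1, hfgh, hg.natDegree_mul hh]
    let p : Polynomial.MonicDegreeEq A n := .mk f hf rfl
    let q₁ : Polynomial.MonicDegreeEq (A ⧸ I) m := .mk g hg rfl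
    let q₂ : Polynomial.MonicDegreeEq (A ⧸ I) k := .mk h hh rfl
    let 𝓡' := Polynomial.UniversalCoprimeFactorizationRing m k hn p
    let σ : 𝓡' →ₐ[A] A ⧸ I :=
      (Polynomial.UniversalCoprimeFactorizationRing.homEquiv (A ⧸ I) m k hn p).symm
        ⟨(q₁, q₂), hfgh.symm, hcop⟩
    have hσ : Polynomial.UniversalCoprimeFactorizationRing.homEquiv (A ⧸ I) m k hn p σ =
        ⟨(q₁, q₂), hfgh.symm, hcop⟩ := Equiv.apply_symm_apply _ _
    have hσ1 : (Polynomial.UniversalCoprimeFactorizationRing.factor₁ m k hn p).1.map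
        σ.toRingHom = g := by
      rw [← homEquiv_fst, hσ]
      rfl
    have hσ2 : (Polynomial.UniversalCoprimeFactorizationRing.factor₂ m k hn p).1.map
        σ.toRingHom = h := by
      rw [← homEquiv_snd, hσ]
      rfl
    obtain ⟨b, -, hbij, hcompat⟩ := exists_localization I σ
    have hcomp : (Ideal.Quotient.mk (I.map (algebraMap A (Localization.Away b)))).comp
        (algebraMap 𝓡' (Localization.Away b)) =
        (algebraMap (A ⧸ I) (Localization.Away b ⧸ I.map (algebraMap A (Localization.Away b)))).comp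
          σ.toRingHom := by
      ext x
      exact (hcompat x).symm
    have : Algebra.Etale A (Localization.Away b) := Algebra.Etale.comp A 𝓡' _
    refine ⟨Localization.Away b, inferInstance, inferInstance, inferInstance, hbij,
      (Polynomial.UniversalCoprimeFactorizationRing.factor₁ m k hn p).1.map (algebraMap 𝓡' _),
      (Polynomial.UniversalCoprimeFactorizationRing.factor₂ m k hn p).1.map (algebraMap 𝓡' _),
      (Polynomial.MonicDegreeEq.monic _).map _, (Polynomial.MonicDegreeEq.monic _).map _, ?_,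
      ?_, ?_, ?_⟩
    · rw [← Polynomial.map_mul,
        Polynomial.UniversalCoprimeFactorizationRing.factor₁_mul_factor₂,
        Polynomial.MonicDegreeEq.map_coe, Polynomial.map_map, ← IsScalarTower.algebraMap_eq]
      rfl
    · obtain ⟨u, v, huv⟩ :=
        Polynomial.UniversalCoprimeFactorizationRing.isCoprime_factor₁_factor₂ m k hn p
      refine ⟨u.map (algebraMap 𝓡' _), v.map (algebraMap 𝓡' _), ?_⟩
      rw [← Polynomial.map_mul, ← Polynomial.map_mul, ← Polynomial.map_add, huv,
        Polynomial.map_one]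
    · rw [Polynomial.map_map, hcomp, ← Polynomial.map_map, hσ1]
    · rw [Polynomial.map_map, hcomp, ← Polynomial.map_map, hσ2]

end Factorization

end Groth.Agent.Lib.Helper20.EtSection
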