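import Mathlib
import Groth.Agent.Lib.Helper20EtSection

set_option autoImplicit false
universe u

open Polynomial

namespace Groth.Agent.Lib.Helper26.HenselEtale

section Good

variable {A E : Type*} [CommRing A] [CommRing E] [Algebra A E]

/-- ZMT-good elements: integral `r` such that every `x` becomes integral after multiplying by a
power of `r`. -/
def Good (A : Type*) {E : Type*} [CommRing A] [CommRing E] [Algebra A E] (r : E) : Prop :=
  IsIntegral A r ∧ ∀ x : E, ∃ m : ℕ, IsIntegral A (r ^ m * x)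

theorem good_zero : Good A (0 : E) :=
  ⟨isIntegral_zero, fun x => ⟨1, by simpa using isIntegral_zero⟩⟩

theorem Good.mono {r : E} (hr : Good A r) (x : E) {m n : ℕ} (hmn : m ≤ n)
    (h : IsIntegral A (r ^ m * x)) : IsIntegral A (r ^ n * x) := by
  obtain ⟨k, rfl⟩ := Nat.exists_eq_add_of_le hmn
  rw [pow_add, mul_comm (r ^ m), mul_assoc]
  exact (hr.1.pow k).mul h

theorem Good.mul_left {r : E} (c : E) (hc : IsIntegral A c) (hr : Good A r) : Good A (c * r) := by
  refine ⟨hc.mul hr.1, fun x => ?_⟩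
  obtain ⟨m, hm⟩ := hr.2 x
  refine ⟨m, ?_⟩
  rw [mul_pow, mul_assoc]
  exact (hc.pow m).mul hm

theorem Good.add {r s : E} (hr : Good A r) (hs : Good A s) : Good A (r + s) := by
  refine ⟨hr.1.add hs.1, fun x => ?_⟩
  obtain ⟨m, hm⟩ := hr.2 x
  obtain ⟨n, hn⟩ := hs.2 x
  refine ⟨m + n, ?_⟩
  rw [add_pow, Finset.sum_mul]
  refine IsIntegral.sum _ fun k hk => ?_
  have hk' : k ≤ m + n := Nat.lt_succ_iff.mp (Finset.mem_range.mp hk)
  by_cases hkm : m ≤ k
  · have h1 : r ^ k * s ^ (m + n - k) * ((m + n).choose k : E) * x =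
        (s ^ (m + n - k) * ((m + n).choose k : E)) * (r ^ k * x) := by ring
    rw [h1]
    exact ((hs.1.pow _).mul (isIntegral_natCast _)).mul (hr.mono x hkm hm)
  · have hkn : n ≤ m + n - k := by omega
    have h1 : r ^ k * s ^ (m + n - k) * ((m + n).choose k : E) * x =
        (r ^ k * ((m + n).choose k : E)) * (s ^ (m + n - k) * x) := by ring
    rw [h1]
    exact ((hr.1.pow _).mul (isIntegral_natCast _)).mul (hs.mono x hkn hn)

end Good

section ZMT

variable {A E : Type u} [CommRing A] [CommRing E] [Algebra A E]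

theorem span_good_eq_top [Algebra.FiniteType A E] [Algebra.QuasiFinite A E] :
    Ideal.span {r : E | Good A r} = ⊤ := by
  by_contra hne
  obtain ⟨m, hm, hle⟩ := Ideal.exists_le_maximal _ hne
  haveI : m.IsPrime := hm.isPrime
  obtain ⟨r, hrm, hr1, hr2⟩ := Algebra.zariskisMainProperty_iff.mp
    (Algebra.ZariskisMainProperty.of_finiteType (R := A) m)
  exact hrm (hle (Ideal.subset_span ⟨hr1, hr2⟩))

/-- a good element congruent to `1` modulo `IE`. -/
theorem exists_good (I : Ideal A) [Algebra.FiniteType A E] [Algebra.QuasiFinite A E]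
    (hsurj : ∀ x : E, ∃ a : A, x - algebraMap A E a ∈ I.map (algebraMap A E)) :
    ∃ r : E, Good A r ∧ 1 - r ∈ I.map (algebraMap A E) := by
  have key : ∀ y ∈ Ideal.span {r : E | Good A r},
      ∃ r : E, Good A r ∧ y - r ∈ I.map (algebraMap A E) := by
    intro y hy
    induction hy using Submodule.span_induction with
    | mem y hy => exact ⟨y, hy, by simp⟩
    | zero => exact ⟨0, good_zero, by simp⟩
    | add y z _ _ hy hz =>
      obtain ⟨r, hr, hr'⟩ := hy
      obtain ⟨s, hs, hs'⟩ := hz
      refine ⟨r + s, hr.add hs, ?_⟩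
      have : y + z - (r + s) = (y - r) + (z - s) := by ring
      rw [this]
      exact Ideal.add_mem _ hr' hs'
    | smul c y _ hy =>
      obtain ⟨r, hr, hr'⟩ := hy
      obtain ⟨a, ha⟩ := hsurj c
      refine ⟨algebraMap A E a * r, hr.mul_left _ isIntegral_algebraMap, ?_⟩
      have : c • y - algebraMap A E a * r = c * (y - r) + (c - algebraMap A E a) * r := by
        rw [smul_eq_mul]; ring
      rw [this]
      exact Ideal.add_mem _ (Ideal.mul_mem_left _ _ hr') (Ideal.mul_mem_right _ _ ha)
  have h1 : (1 : E) ∈ Ideal.span {r : E | Good A r} := by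
    rw [span_good_eq_top]; trivial
  exact key 1 h1

/-- The finite subalgebra. -/
theorem exists_finite_subalgebra [Algebra.FiniteType A E] (r : E) (hr : Good A r) :
    ∃ B : Subalgebra A E, B.toSubmodule.FG ∧ r ∈ B ∧ ∀ x : E, ∃ m : ℕ, r ^ m * x ∈ B := by
  classical
  obtain ⟨s, hs⟩ := Algebra.FiniteType.out (R := A) (A := E)
  choose m hm using hr.2
  let t : Set E := insert r ((fun x => r ^ m x * x) '' (s : Set E))
  have htfin : t.Finite := (s.finite_toSet.image _).insert r
  have htint : ∀ x ∈ t, IsIntegral A x := by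
    rintro x (rfl | ⟨y, -, rfl⟩)
    · exact hr.1
    · exact hm y
  refine ⟨Algebra.adjoin A t, fg_adjoin_of_finite htfin htint,
    Algebra.subset_adjoin (Set.mem_insert _ _), ?_⟩
  have hrB : r ∈ Algebra.adjoin A t := Algebra.subset_adjoin (Set.mem_insert _ _)
  intro x
  have hx : x ∈ Algebra.adjoin A (s : Set E) := by rw [hs]; trivial
  induction hx using Algebra.adjoin_induction with
  | mem x hx =>
    exact ⟨m x, Algebra.subset_adjoin (Set.mem_insert_of_mem _ ⟨x, hx, rfl⟩)⟩
  | algebraMap a => exact ⟨0, by simpa using Subalgebra.algebraMap_mem _ a⟩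
  | add x y _ _ hx hy =>
    obtain ⟨k, hk⟩ := hx
    obtain ⟨l, hl⟩ := hy
    refine ⟨k + l, ?_⟩
    have : r ^ (k + l) * (x + y) = r ^ l * (r ^ k * x) + r ^ k * (r ^ l * y) := by ring
    rw [this]
    exact add_mem (mul_mem (pow_mem hrB _) hk) (mul_mem (pow_mem hrB _) hl)
  | mul x y _ _ hx hy =>
    obtain ⟨k, hk⟩ := hx
    obtain ⟨l, hl⟩ := hy
    refine ⟨k + l, ?_⟩
    have : r ^ (k + l) * (x * y) = (r ^ k * x) * (r ^ l * y) := by ring
    rw [this]
    exact mul_mem hk hl

end ZMT

section Charpoly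

variable {A : Type*} [CommRing A]

/-- charpoly of a matrix whose only nonzero row is the first, with `(0,0)` entry `1`. -/
theorem charpoly_firstRow {R : Type*} [CommRing R] (n : ℕ) (a : Fin (n + 1) → R) (ha : a 0 = 1) :
    (Matrix.of fun i j : Fin (n + 1) => if i = 0 then a j else 0).charpoly = (X - 1) * X ^ n := by
  classical
  set M : Matrix (Fin (n + 1)) (Fin (n + 1)) R :=
    Matrix.of fun i j : Fin (n + 1) => if i = 0 then a j else 0 with hM
  have htri : (Matrix.charmatrix M).BlockTriangular id := by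
    intro i j hji
    have hi : i ≠ 0 := by
      rintro rfl
      exact absurd hji (Fin.not_lt_zero _)
    have hij : i ≠ j := fun h => by subst h; exact lt_irrefl _ hji
    rw [Matrix.charmatrix_apply_ne _ _ _ hij]
    simp [hM, hi]
  rw [Matrix.charpoly, Matrix.det_of_upperTriangular htri, Fin.prod_univ_succ]
  congr 1
  · rw [Matrix.charmatrix_apply_eq]
    simp [hM, ha]
  · rw [Finset.prod_eq_pow_card (b := X)]
    · simp
    · intro i _
      rw [Matrix.charmatrix_apply_eq]
      simp [hM, Fin.succ_ne_zero]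

end Charpoly

section Gabber

variable {A : Type*} [CommRing A] (I : Ideal A) {B : Type*} [CommRing B] [Algebra A B]

/-- **Gabber polynomial**: if `b B ⊆ A b + I B` and `b² - b ∈ I B` in a finite `A`-algebra `B`,
then `b` is a root of a monic polynomial congruent to `(X - 1) X ^ n` modulo `I`. -/
theorem exists_gabber_poly [Module.Finite A B] (b : B)
    (h1 : ∀ x : B, ∃ a : A, b * x - a • b ∈ I • (⊤ : Submodule A B))
    (h2 : b * b - b ∈ I • (⊤ : Submodule A B)) :
    ∃ (f : A[X]) (n : ℕ), f.Monic ∧ f.map (Ideal.Quotient.mk I) = (X - 1) * X ^ n ∧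
      aeval b f = 0 := by
  classical
  obtain ⟨n, x, hx⟩ := Module.Finite.exists_fin (R := A) (M := B)
  let x' : Fin (n + 1) → B := Fin.cons b x
  have hx' : Submodule.span A (Set.range x') = ⊤ := by
    rw [eq_top_iff, ← hx]
    apply Submodule.span_mono
    rintro _ ⟨i, rfl⟩
    exact ⟨i.succ, by simp [x']⟩
  choose a₀ ha₀ using h1
  let a : Fin (n + 1) → A := fun j => if j = 0 then 1 else a₀ (x' j)
  have ha : ∀ j, b * x' j - a j • x' 0 ∈ I • (⊤ : Submodule A B) := by
    intro j
    by_cases hj : j = 0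
    · subst hj
      simpa [a, x'] using h2
    · simpa [a, hj, x'] using ha₀ (x' j)
  have hc : ∀ j, ∃ c : Fin (n + 1) →₀ A, (∀ i, c i ∈ I) ∧
      (c.sum fun i r => r • x' i) = b * x' j - a j • x' 0 := by
    intro j
    have := ha j
    rw [← hx'] at this
    obtain ⟨c, hc1, hc2⟩ := (Submodule.mem_ideal_smul_span_iff_exists_sum I x' _).mp this
    exact ⟨c, hc1, hc2⟩
  choose c hcI hcsum using hc
  let M₀ : Matrix (Fin (n + 1)) (Fin (n + 1)) A :=
    Matrix.of fun i j : Fin (n + 1) => if i = 0 then a j else 0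
  let M₁ : Matrix (Fin (n + 1)) (Fin (n + 1)) A := Matrix.of fun i j => c j i
  let M := M₀ + M₁
  have hrep : M.Represents x' (Algebra.lmul A B b) := by
    rw [Matrix.represents_iff']
    intro j
    have h3 : (c j).sum (fun i r => r • x' i) = ∑ i, c j i • x' i :=
      Finsupp.sum_fintype _ _ (by simp)
    have h4 : ∑ i, M₀ i j • x' i = a j • x' 0 := by
      rw [Finset.sum_eq_single 0]
      · simp [M₀]
      · intro i _ hi; simp [M₀, hi]
      · simp
    simp only [M, Matrix.add_apply, add_smul, Finset.sum_add_distrib, h4]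
    have h5 : ∑ i, M₁ i j • x' i = b * x' j - a j • x' 0 := by
      rw [← hcsum j, h3]
      rfl
    rw [h5]
    simp
  refine ⟨M.charpoly, n, M.charpoly_monic, ?_, ?_⟩
  · rw [← Matrix.charpoly_map]
    have : M.map (Ideal.Quotient.mk I) =
        Matrix.of fun i j : Fin (n + 1) =>
          if i = 0 then (Ideal.Quotient.mk I) (a j) else 0 := by
      ext i j
      have : Ideal.Quotient.mk I (c j i) = 0 := Ideal.Quotient.eq_zero_iff_mem.mpr (hcI j i)
      by_cases hi : i = 0
      · subst hi; simp [M, M₀, M₁, this]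
      · simp [M, M₀, M₁, hi, this]
    rw [this]
    exact charpoly_firstRow n _ (by simp [a])
  · let MM : Matrix.isRepresentation A x' := ⟨M, _, hrep⟩
    have h6 : Matrix.isRepresentation.toEnd A x' hx' MM = Algebra.lmul A B b :=
      Matrix.isRepresentation.eq_toEnd_of_represents A x' hx' MM hrep
    have h7 : aeval (Algebra.lmul A B b) M.charpoly = 0 := by
      rw [← h6, Polynomial.aeval_algHom_apply,
        ← map_zero (Matrix.isRepresentation.toEnd A x' hx')]
      congr 1
      ext1
      rw [Polynomial.aeval_subalgebra_coe, Matrix.aeval_self_charpoly, Subalgebra.coe_zero]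
    rw [Polynomial.aeval_algHom_apply] at h7
    have h8 := congrArg (fun φ : Module.End A B => φ 1) h7
    simpa using h8

end Gabber

section Root

variable {A : Type*} [CommRing A] (I : Ideal A)

theorem isUnit_of_sub_one_mem {A : Type*} [CommRing A] (I : Ideal A) (hI : I ≤ Ideal.jacobson ⊥)
    (a : A) (ha : a - 1 ∈ I) : IsUnit a := by
  have := (Ideal.mem_jacobson_bot.mp (hI ha)) 1
  simpa using this

theorem eq_zero_of_idem_mem_jacobson {A : Type*} [CommRing A] (e : A) (he : IsIdempotentElem e)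
    (hj : e ∈ Ideal.jacobson (⊥ : Ideal A)) : e = 0 := by
  have h1 : IsUnit (e * (-1) + 1) := Ideal.mem_jacobson_bot.mp hj (-1)
  have h2 : (e * (-1) + 1) * e = 0 := by
    have := he.eq
    linear_combination -this
  exact (h1.mul_right_eq_zero).mp h2

/-- Root of a Gabber polynomial over a Henselian pair, with the attached division data. -/
theorem exists_root_data [HenselianRing A I] (f : A[X]) (hf : f.Monic) (n : ℕ)
    (hfn : f.map (Ideal.Quotient.mk I) = (X - 1) * X ^ n) :
    ∃ (α u : A) (q q₁ : A[X]), α - 1 ∈ I ∧ u * q.eval α = 1 ∧ f = (X - C α) * q ∧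
      q = C (q.eval α) + (X - C α) * q₁ := by
  have h0 : f.eval 1 ∈ I := by
    rw [← Ideal.Quotient.eq_zero_iff_mem, ← Polynomial.eval_map_apply, hfn]
    simp
  have h1 : IsUnit (Ideal.Quotient.mk I (f.derivative.eval 1)) := by
    rw [← Polynomial.eval_map_apply, ← Polynomial.derivative_map, hfn]
    simp
  obtain ⟨α, hroot, hα⟩ := HenselianRing.is_henselian f hf 1 h0 h1
  set q := f /ₘ (X - C α) with hq
  have hfq : f = (X - C α) * q := (mul_divByMonic_eq_iff_isRoot.mpr hroot).symm
  obtain ⟨q₁, hq₁⟩ := Polynomial.X_sub_C_dvd_sub_C_eval (a := α) (p := q)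
  have hmkα : Ideal.Quotient.mk I α = 1 := by
    rw [← map_one (Ideal.Quotient.mk I), Ideal.Quotient.mk_eq_mk_iff_sub_mem]
    exact hα
  have hqmap : q.map (Ideal.Quotient.mk I) = X ^ n := by
    have h2 := congrArg (Polynomial.map (Ideal.Quotient.mk I)) hfq
    rw [hfn, Polynomial.map_mul, Polynomial.map_sub, Polynomial.map_X, Polynomial.map_C, hmkα,
      map_one] at h2
    have hmon : (X - 1 : (A ⧸ I)[X]).Monic := by
      simpa using (monic_X_sub_C (1 : A ⧸ I))
    exact (hmon.isRegular.left h2).symm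
  have hqα : q.eval α - 1 ∈ I := by
    rw [← Ideal.Quotient.mk_eq_mk_iff_sub_mem, map_one, ← Polynomial.eval_map_apply, hqmap, hmkα]
    simp
  obtain ⟨u, hu⟩ := (isUnit_of_sub_one_mem I HenselianRing.jac _ hqα).exists_left_inv
  refine ⟨α, u, q, q₁, hα, hu, hfq, ?_⟩
  rw [← hq₁]; ring

end Root

section Idem

variable {A : Type*} [CommRing A] {E : Type*} [CommRing E] [Algebra A E]

/-- The idempotent attached to a root `α` of `f` and an element `b` with `f(b) = 0`. -/
theorem idem_data (f q q₁ : A[X]) (α u : A) (hu : u * q.eval α = 1) (hfq : f = (X - C α) * q)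
    (hq₁ : q = C (q.eval α) + (X - C α) * q₁) (b : E) (hb : aeval b f = 0) :
    ∃ e w : E, e = 1 + (b - algebraMap A E α) * w ∧ (b - algebraMap A E α) * e = 0 ∧
      IsIdempotentElem e ∧ e = u • aeval b q := by
  have h1 := congrArg (aeval b) hq₁
  simp only [map_add, map_mul, map_sub, aeval_C, aeval_X] at h1
  have h2 := congrArg (aeval b) hfq
  simp only [map_mul, map_sub, aeval_C, aeval_X] at h2
  rw [hb] at h2
  have h3 : u • aeval b q = 1 + (b - algebraMap A E α) * (u • aeval b q₁) := by
    rw [h1, smul_add, Algebra.smul_def u (algebraMap A E (eval α q)), ← map_mul, hu, map_one,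
      mul_smul_comm]
  have h4 : (b - algebraMap A E α) * (u • aeval b q) = 0 := by
    rw [mul_smul_comm, ← h2, smul_zero]
  refine ⟨u • aeval b q, u • aeval b q₁, h3, h4, ?_, rfl⟩
  unfold IsIdempotentElem
  nth_rewrite 2 [h3]
  rw [mul_add, mul_one, ← mul_assoc, mul_comm (u • aeval b q) (b - _), h4, zero_mul, add_zero]

end Idem

section Main

variable {A E : Type u} [CommRing A] [CommRing E] [Algebra A E]

theorem mem_smul_top_subalgebra_iff (I : Ideal A) (B : Subalgebra A E) (z : B) :
    z ∈ I • (⊤ : Submodule A B) ↔ (z : E) ∈ I • B.toSubmodule := by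
  have hmap : (I • (⊤ : Submodule A B)).map B.val.toLinearMap = I • B.toSubmodule := by
    rw [Submodule.map_smul'', Submodule.map_top]
    congr 1
    ext x
    simp
  constructor
  · intro hz
    rw [← hmap]
    exact Submodule.mem_map_of_mem hz
  · intro hz
    rw [← hmap] at hz
    obtain ⟨z', hz', hzz'⟩ := hz
    have : z' = z := Subtype.ext hzz'
    rwa [← this]

/-- **Sections of étale neighbourhoods**: if `(A, I)` is a Henselian pair and `E` is an étale
`A`-algebra with `A/I = E/IE`, then `E` has an `A`-algebra section. -/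
theorem nonempty_section (I : Ideal A) [HenselianRing A I] [Algebra.Etale A E]
    (hsurj : ∀ x : E, ∃ a : A, x - algebraMap A E a ∈ I.map (algebraMap A E))
    (hinj : ∀ a : A, algebraMap A E a ∈ I.map (algebraMap A E) → a ∈ I) :
    Nonempty (E →ₐ[A] A) := by
  classical
  have hjac : I ≤ Ideal.jacobson ⊥ := HenselianRing.jac
  set IE := I.map (algebraMap A E) with hIE
  obtain ⟨r, hr, hr1⟩ := exists_good I hsurj
  obtain ⟨B, hBfg, hrB, hstar⟩ := exists_finite_subalgebra r hr
  set N : Submodule A E := I • B.toSubmodule with hN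
  have hNmul : ∀ c ∈ B, ∀ z ∈ N, c * z ∈ N := by
    intro c hc z hz
    refine Submodule.smul_induction_on hz (fun i hi x hx => ?_) (fun x y hx hy => ?_)
    · rw [mul_smul_comm]
      exact Submodule.smul_mem_smul hi (B.mul_mem hc hx)
    · rw [mul_add]; exact add_mem hx hy
  have hNmono : ∀ (y : E) (m k : ℕ), r ^ m * y ∈ N → r ^ (m + k) * y ∈ N := by
    intro y m k h
    rw [pow_add, mul_comm (r ^ m), mul_assoc]
    exact hNmul _ (pow_mem hrB k) _ h
  have hNmono' : ∀ (y : E) (m k : ℕ), m ≤ k → r ^ m * y ∈ N → r ^ k * y ∈ N := by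
    intro y m k hmk h
    obtain ⟨l, rfl⟩ := Nat.exists_eq_add_of_le hmk
    exact hNmono y m l h
  have h2a : ∀ y ∈ IE, ∃ M, r ^ M * y ∈ N := by
    intro y hy
    have hy' : y ∈ I • (⊤ : Submodule A E) := by
      rw [Ideal.smul_top_eq_map]; exact hy
    refine Submodule.smul_induction_on hy' (fun i hi x _ => ?_) (fun x y hx hy => ?_)
    · obtain ⟨m, hm⟩ := hstar x
      exact ⟨m, by rw [mul_smul_comm]; exact Submodule.smul_mem_smul hi hm⟩
    · obtain ⟨k, hk⟩ := hx
      obtain ⟨l, hl⟩ := hy
      refine ⟨k + l, ?_⟩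
      rw [mul_add]
      exact add_mem (hNmono' _ k _ (Nat.le_add_right _ _) hk)
        (hNmono' _ l _ (Nat.le_add_left _ _) hl)
  obtain ⟨S, hS⟩ := hBfg
  choose a ha using hsurj
  choose Mf hMf using h2a
  have hr1' : r - 1 ∈ IE := by
    have := IE.neg_mem hr1
    simpa using this
  set M : ℕ := (∑ s ∈ S, Mf _ (ha s)) + Mf _ hr1' + 1 with hM
  set b : E := r ^ M with hb
  have hbB : b ∈ B := pow_mem hrB M
  -- (2c)
  have h2c' : ∀ x ∈ Submodule.span A (S : Set E), ∃ a' : A, b * x - a' • b ∈ N := by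
    intro x hx'
    induction hx' using Submodule.span_induction with
    | mem s hs =>
      refine ⟨a s, ?_⟩
      have h1 : b * s - a s • b = r ^ M * (s - algebraMap A E (a s)) := by
        rw [Algebra.smul_def, hb]; ring
      rw [h1]
      refine hNmono' _ _ _ ?_ (hMf _ (ha s))
      have : Mf _ (ha s) ≤ ∑ s ∈ S, Mf _ (ha s) :=
        Finset.single_le_sum (f := fun s => Mf _ (ha s)) (fun _ _ => Nat.zero_le _) hs
      omega
    | zero => exact ⟨0, by simp⟩
    | add x y _ _ hx hy =>
      obtain ⟨a₁, h₁⟩ := hx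
      obtain ⟨a₂, h₂⟩ := hy
      refine ⟨a₁ + a₂, ?_⟩
      have : b * (x + y) - (a₁ + a₂) • b = (b * x - a₁ • b) + (b * y - a₂ • b) := by
        rw [add_smul]; ring
      rw [this]
      exact add_mem h₁ h₂
    | smul c x _ hx =>
      obtain ⟨a₁, h₁⟩ := hx
      refine ⟨c * a₁, ?_⟩
      have : b * (c • x) - (c * a₁) • b = c • (b * x - a₁ • b) := by
        rw [smul_sub, mul_smul_comm, mul_smul]
      rw [this]
      exact N.smul_mem c h₁
  have h2c : ∀ x ∈ B, ∃ a' : A, b * x - a' • b ∈ N := by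
    intro x hx
    exact h2c' x (by rw [hS]; exact hx)
  -- (2d)
  have h2d : b * b - b ∈ N := by
    have h1 : b * b - b = (∑ i ∈ Finset.range M, r ^ i) * (r ^ M * (r - 1)) := by
      have := geom_sum_mul r M
      rw [hb]
      linear_combination (-(r ^ M)) * this
    rw [h1]
    refine hNmul _ (sum_mem fun i _ => pow_mem hrB i) _ ?_
    exact hNmono' _ _ _ (by omega) (hMf _ hr1')
  -- the Gabber polynomial
  haveI : Module.Finite A B := ⟨(Submodule.fg_top _).mpr ⟨S, hS⟩⟩
  obtain ⟨f, n, hf, hfn, hroot'⟩ := exists_gabber_poly I (B := B) ⟨b, hbB⟩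
    (by
      intro x
      obtain ⟨a', ha'⟩ := h2c x.1 x.2
      refine ⟨a', ?_⟩
      rw [mem_smul_top_subalgebra_iff]
      simpa using ha')
    (by
      rw [mem_smul_top_subalgebra_iff]
      simpa using h2d)
  have hroot : aeval b f = 0 := by
    have := congrArg B.val hroot'
    rwa [← Polynomial.aeval_algHom_apply, map_zero] at this
  obtain ⟨α, u, q, q₁, hα, hu, hfq, hq₁⟩ := exists_root_data I f hf n hfn
  obtain ⟨e, w, he1, he2, he3, he4⟩ := idem_data f q q₁ α u hu hfq hq₁ b hroot
  obtain ⟨α', hα'⟩ := (isUnit_of_sub_one_mem I hjac α hα).exists_left_inv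
  -- the quotient
  let J : Ideal E := Ideal.span {1 - e}
  let mkW : E →ₐ[A] E ⧸ J := Ideal.Quotient.mkₐ A J
  haveI : IsLocalization.Away e (E ⧸ J) := IsLocalization.Away.quotient_of_isIdempotentElem he3
  haveI : Algebra.Etale E (E ⧸ J) := Algebra.Etale.of_isLocalizationAway e
  haveI : Algebra.Etale A (E ⧸ J) := Algebra.Etale.comp A E (E ⧸ J)
  have hbα : mkW b = algebraMap A (E ⧸ J) α := by
    have h1 : b - algebraMap A E α ∈ J := by
      have : b - algebraMap A E α = (b - algebraMap A E α) * (1 - e) := by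
        rw [mul_sub, he2]; ring
      rw [this]
      exact Ideal.mul_mem_left _ _ (Ideal.subset_span rfl)
    have h2 : mkW (b - algebraMap A E α) = 0 := Ideal.Quotient.eq_zero_iff_mem.mpr h1
    rw [map_sub, sub_eq_zero, AlgHom.commutes] at h2
    exact h2
  let Bt : Submodule A (E ⧸ J) := B.toSubmodule.map mkW.toLinearMap
  have hBtfg : Bt.FG := Submodule.FG.map _ ⟨S, hS⟩
  have hαinv : ∀ z : E ⧸ J, α' • (α • z) = z := by
    intro z; rw [smul_smul, hα', one_smul]
  have hBttop : Bt = ⊤ := by
    rw [eq_top_iff]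
    rintro z -
    obtain ⟨x, rfl⟩ := Ideal.Quotient.mk_surjective z
    obtain ⟨m, hm⟩ := hstar x
    have h1 : b ^ m * x ∈ B := by
      have : b ^ m * x = r ^ (M * m - m) * (r ^ m * x) := by
        rw [hb, ← pow_mul, ← mul_assoc, ← pow_add]
        congr 2
        have : m ≤ M * m := Nat.le_mul_of_pos_left m (by omega)
        omega
      rw [this]
      exact B.mul_mem (pow_mem hrB _) hm
    have h2 : mkW (b ^ m * x) ∈ Bt := Submodule.mem_map_of_mem h1
    rw [map_mul, map_pow, hbα, ← map_pow, ← Algebra.smul_def] at h2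
    have h3 : (α' ^ m) • ((α ^ m) • mkW x) ∈ Bt := Bt.smul_mem _ h2
    rw [smul_smul, ← mul_pow, hα', one_pow, one_smul] at h3
    exact h3
  have hsurjW : Function.Surjective (algebraMap A (E ⧸ J)) := by
    have hle : Bt ≤ Submodule.span A {(1 : E ⧸ J)} ⊔ I • Bt := by
      rintro z ⟨y, hy, rfl⟩
      obtain ⟨a', ha'⟩ := h2c y hy
      have h1 : mkW.toLinearMap (b * y - a' • b) ∈ I • Bt := by
        rw [← Submodule.map_smul'']
        exact Submodule.mem_map_of_mem ha'
      simp only [AlgHom.toLinearMap_apply, map_sub, map_mul, map_smul, hbα] at h1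
      have h2 : α' • (algebraMap A (E ⧸ J) α * mkW y - a' • algebraMap A (E ⧸ J) α) ∈ I • Bt :=
        (I • Bt).smul_mem _ h1
      have h3 : α' • (algebraMap A (E ⧸ J) α * mkW y - a' • algebraMap A (E ⧸ J) α) =
          mkW y - a' • 1 := by
        rw [smul_sub, ← Algebra.smul_def, smul_smul, hα', one_smul, smul_comm,
          Algebra.smul_def α', ← map_mul, hα', map_one]
      rw [h3] at h2
      have h4 : mkW.toLinearMap y = a' • 1 + (mkW y - a' • 1) := by
        simp
      rw [h4]
      exact Submodule.add_mem_sup (Submodule.smul_mem _ _ (Submodule.mem_span_singleton_self _)) h2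
    have := Submodule.le_of_le_smul_of_le_jacobson_bot hBtfg hjac hle
    intro z
    have hz : z ∈ Bt := by rw [hBttop]; trivial
    obtain ⟨c, hc⟩ := Submodule.mem_span_singleton.mp (this hz)
    exact ⟨c, by rw [← hc, Algebra.smul_def, mul_one]⟩
  -- the kernel vanishes
  have hbIE : b - 1 ∈ IE := by
    have := geom_sum_mul r M
    rw [hb, ← this]
    exact Ideal.mul_mem_left _ _ hr1'
  have hαIE : algebraMap A E α - 1 ∈ IE := by
    have : algebraMap A E α - 1 = algebraMap A E (α - 1) := by simp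
    rw [this]
    exact Ideal.mem_map_of_mem _ hα
  have heIE : 1 - e ∈ IE := by
    have : 1 - e = -(((b - 1) - (algebraMap A E α - 1)) * w) := by
      rw [he1]; ring
    rw [this]
    exact IE.neg_mem (Ideal.mul_mem_right _ _ (IE.sub_mem hbIE hαIE))
  have hKI : RingHom.ker (algebraMap A (E ⧸ J)) ≤ I := by
    intro a' ha'
    rw [RingHom.mem_ker, IsScalarTower.algebraMap_apply A E (E ⧸ J),
      Ideal.Quotient.algebraMap_eq, Ideal.Quotient.eq_zero_iff_mem] at ha'
    apply hinj
    have hJIE : J ≤ IE := by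
      rw [Ideal.span_le, Set.singleton_subset_iff]
      exact heIE
    exact hJIE ha'
  have hKidem : IsIdempotentElem (RingHom.ker (algebraMap A (E ⧸ J))) :=
    (Algebra.FormallyEtale.iff_of_surjective hsurjW).mp inferInstance
  have hKfg : (RingHom.ker (algebraMap A (E ⧸ J))).FG :=
    Algebra.FinitePresentation.ker_fG_of_surjective (Algebra.ofId A (E ⧸ J)) hsurjW
  obtain ⟨ε, hε, hKε⟩ := (Ideal.isIdempotentElem_iff_of_fg _ hKfg).mp hKidem
  have hε0 : ε = 0 := by
    apply eq_zero_of_idem_mem_jacobson ε hε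
    apply hjac
    apply hKI
    rw [hKε]
    exact Ideal.mem_span_singleton_self ε
  have hinjW : Function.Injective (algebraMap A (E ⧸ J)) := by
    rw [RingHom.injective_iff_ker_eq_bot, hKε, hε0]
    simp
  let eqv : A ≃ₐ[A] (E ⧸ J) := AlgEquiv.ofBijective (Algebra.ofId A (E ⧸ J)) ⟨hinjW, hsurjW⟩
  exact ⟨eqv.symm.toAlgHom.comp mkW⟩

end Main

section Lift

variable {A E : Type u} [CommRing A] [CommRing E] [Algebra A E]

theorem algHom_map_mem (I : Ideal A) (τ : E →ₐ[A] A) {z : E}
    (hz : z ∈ I.map (algebraMap A E)) : τ z ∈ I := by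
  have hle : I.map (algebraMap A E) ≤ I.comap τ.toRingHom := by
    rw [Ideal.map_le_iff_le_comap]
    intro a ha
    simpa using ha
  exact hle hz

/-- A section of an étale neighbourhood is a retraction modulo `I`. -/
theorem sub_algebraMap_mem (I : Ideal A) (τ : E →ₐ[A] A)
    (hsurj : ∀ x : E, ∃ a : A, x - algebraMap A E a ∈ I.map (algebraMap A E)) (x : E) :
    x - algebraMap A E (τ x) ∈ I.map (algebraMap A E) := by
  obtain ⟨a, ha⟩ := hsurj x
  have h1 : τ (x - algebraMap A E a) ∈ I := algHom_map_mem I τ ha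
  rw [map_sub, AlgHom.commutes] at h1
  have h2 : x - algebraMap A E (τ x) =
      (x - algebraMap A E a) - algebraMap A E (τ x - a) := by
    rw [map_sub]; ring
  rw [h2]
  exact Ideal.sub_mem _ ha (Ideal.mem_map_of_mem _ h1)

theorem hsurj_of_bijective (I : Ideal A)
    (hbij : Function.Bijective (algebraMap (A ⧸ I) (E ⧸ I.map (algebraMap A E)))) :
    ∀ x : E, ∃ a : A, x - algebraMap A E a ∈ I.map (algebraMap A E) := by
  intro x
  obtain ⟨z, hz⟩ := hbij.2 (Ideal.Quotient.mk _ x)
  obtain ⟨a, rfl⟩ := Ideal.Quotient.mk_surjective z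
  refine ⟨a, ?_⟩
  rw [Ideal.Quotient.algebraMap_quotient_map_quotient, Ideal.Quotient.mk_eq_mk_iff_sub_mem] at hz
  have := Ideal.neg_mem_iff _ |>.mpr hz
  simpa using this

theorem hinj_of_bijective (I : Ideal A)
    (hbij : Function.Bijective (algebraMap (A ⧸ I) (E ⧸ I.map (algebraMap A E)))) :
    ∀ a : A, algebraMap A E a ∈ I.map (algebraMap A E) → a ∈ I := by
  intro a ha
  have h1 : algebraMap (A ⧸ I) (E ⧸ I.map (algebraMap A E)) (Ideal.Quotient.mk I a) = 0 := by
    rw [Ideal.Quotient.algebraMap_quotient_map_quotient, Ideal.Quotient.eq_zero_iff_mem]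
    exact ha
  have h2 := hbij.1 (h1.trans (map_zero _).symm)
  exact Ideal.Quotient.eq_zero_iff_mem.mp h2

/-- Sections of étale neighbourhoods `E` of a Henselian pair with `A/I ≃ E/IE`. -/
theorem exists_section_of_bijective (I : Ideal A) [HenselianRing A I] [Algebra.Etale A E]
    (hbij : Function.Bijective (algebraMap (A ⧸ I) (E ⧸ I.map (algebraMap A E)))) :
    ∃ τ : E →ₐ[A] A, ∀ x : E, x - algebraMap A E (τ x) ∈ I.map (algebraMap A E) := by
  obtain ⟨τ⟩ := nonempty_section I (hsurj_of_bijective I hbij) (hinj_of_bijective I hbij)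
  exact ⟨τ, sub_algebraMap_mem I τ (hsurj_of_bijective I hbij)⟩

end Lift

section EtaleLift

/-- **Étale lifting for Henselian pairs** (Stacks 09XI, (5) ⇒ (2)). -/
theorem etale_lift (A : Type u) [CommRing A] (I : Ideal A) [HenselianRing A I]
    (A' : Type u) [CommRing A'] [Algebra A A'] [Algebra.Etale A A'] (σ : A' →ₐ[A] A ⧸ I) :
    ∃ τ : A' →ₐ[A] A, (Ideal.Quotient.mkₐ A I).comp τ = σ := by
  obtain ⟨b, -, hbij, hcompat⟩ := Groth.Agent.Lib.Helper20.EtSection.exists_localization I σ
  obtain ⟨τ, hτ⟩ := exists_section_of_bijective (E := Localization.Away b) I hbij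
  refine ⟨τ.comp (IsScalarTower.toAlgHom A A' (Localization.Away b)), ?_⟩
  ext x
  simp only [AlgHom.coe_comp, Function.comp_apply, IsScalarTower.coe_toAlgHom',
    Ideal.Quotient.mkₐ_eq_mk]
  apply hbij.1
  rw [hcompat x, Ideal.Quotient.algebraMap_quotient_map_quotient,
    Ideal.Quotient.mk_eq_mk_iff_sub_mem]
  have := hτ (algebraMap A' (Localization.Away b) x)
  have h2 := Ideal.neg_mem_iff _ |>.mpr this
  simpa using h2

end EtaleLift

end Groth.Agent.Lib.Helper26.HenselEtale
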