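import Mathlib

set_option autoImplicit false
set_option linter.unusedVariables false

universe u
open Polynomial

namespace Groth.Agent.Lib.Helper18Gabber

variable {A : Type u} [CommRing A] {I : Ideal A}

lemma isUnit_of_sub_one_mem (hI : I ≤ Ideal.jacobson ⊥) {x : A} (h : x - 1 ∈ I) : IsUnit x := by
  have := (Ideal.mem_jacobson_bot.1 (hI h)) 1
  simpa using this

lemma isUnit_of_isUnit_mk (hI : I ≤ Ideal.jacobson ⊥) {x : A}
    (h : IsUnit (Ideal.Quotient.mk I x)) : IsUnit x := by
  obtain ⟨w', hw'⟩ := h.exists_right_inv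
  obtain ⟨w, rfl⟩ := Ideal.Quotient.mk_surjective w'
  have h1 : x * w - 1 ∈ I := by
    rw [← Ideal.Quotient.eq_zero_iff_mem, map_sub, map_mul, hw', map_one, sub_self]
  exact isUnit_of_mul_isUnit_left (isUnit_of_sub_one_mem hI h1)

lemma eval_mem_of_coeff_mem (p : A[X]) (hp : ∀ i, p.coeff i ∈ I) (x : A) : p.eval x ∈ I := by
  rw [Polynomial.eval_eq_sum_range]
  exact Ideal.sum_mem _ fun i _ => Ideal.mul_mem_right _ _ (hp i)

/-- the key computation: root of a monic polynomial of degree `m+2` from a Gabber root -/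
lemma key (hI : I ≤ Ideal.jacobson ⊥)
    (hG : ∀ (n : ℕ), 0 < n → ∀ p : A[X], p.natDegree ≤ n → (∀ i, p.coeff i ∈ I) →
        ∃ α : A, α - 1 ∈ I ∧ IsRoot (X ^ n * (X - 1) + p) α)
    (g : A[X]) (m : ℕ) (hdeg : g.natDegree = m + 2) (c₀ : g.coeff 0 ∈ I) (u : A)
    (hu : g.coeff 1 * u = 1) : ∃ y ∈ I, g.eval y = 0 := by
  set c := g.coeff with hc
  let t : A := -(c 0) * u
  let d : ℕ → A := fun j => c (j + 2) * (-u) ^ (j + 2) * (c 0) ^ (j + 1)
  have hd : ∀ j, d j ∈ I := fun j =>
    Ideal.mul_mem_left _ _ (Ideal.pow_mem_of_mem I c₀ (j + 1) (Nat.succ_pos j))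
  let p : A[X] := ∑ j ∈ Finset.range (m + 1), C (d j) * X ^ (m - j)
  have hp_deg : p.natDegree ≤ m + 1 := by
    apply Polynomial.natDegree_sum_le_of_forall_le
    intro j _
    exact (natDegree_C_mul_X_pow_le _ _).trans (by omega)
  have hp_coeff : ∀ i, p.coeff i ∈ I := by
    intro i
    simp only [p, finsetSum_coeff, coeff_C_mul, coeff_X_pow]
    exact Ideal.sum_mem _ fun j _ => Ideal.mul_mem_right _ _ (hd j)
  obtain ⟨α, hα1, hαroot⟩ := hG (m + 1) (Nat.succ_pos m) p hp_deg hp_coeff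
  have hαu : IsUnit α := isUnit_of_sub_one_mem hI hα1
  obtain ⟨β, hβ⟩ := hαu.exists_right_inv
  have hroot : α ^ (m + 1) * (α - 1) + ∑ j ∈ Finset.range (m + 1), d j * α ^ (m - j) = 0 := by
    have := hαroot
    simp only [IsRoot.def, eval_add, eval_mul, eval_pow, eval_X, eval_sub, eval_one, p,
      eval_finsetSum, eval_C] at this
    exact this
  refine ⟨t * β, Ideal.mul_mem_right _ _ (Ideal.mul_mem_right _ _ (I.neg_mem c₀)), ?_⟩
  have hsum : α ^ (m + 2) * g.eval (t * β) = c 0 * (α ^ (m + 1) * (α - 1) +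
      ∑ j ∈ Finset.range (m + 1), d j * α ^ (m - j)) := by
    rw [Polynomial.eval_eq_sum_range, hdeg, Finset.mul_sum]
    have hterm : ∀ i ∈ Finset.range (m + 2 + 1),
        α ^ (m + 2) * (g.coeff i * (t * β) ^ i) = c i * t ^ i * α ^ (m + 2 - i) := by
      intro i hi
      have hi' : i ≤ m + 2 := by
        have := Finset.mem_range.1 hi; omega
      have h1 : α ^ (m + 2) = α ^ i * α ^ (m + 2 - i) := by
        rw [← pow_add]; congr 1; omega
      rw [h1, mul_pow]
      calc α ^ i * α ^ (m + 2 - i) * (g.coeff i * (t ^ i * β ^ i))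
          = c i * t ^ i * α ^ (m + 2 - i) * (α * β) ^ i := by rw [mul_pow]; ring
        _ = c i * t ^ i * α ^ (m + 2 - i) := by rw [hβ, one_pow, mul_one]
    rw [Finset.sum_congr rfl hterm, Finset.sum_range_succ', Finset.sum_range_succ']
    have h0 : c 0 * t ^ 0 * α ^ (m + 2 - 0) = c 0 * α ^ (m + 2) := by simp
    have h1 : c (0 + 1) * t ^ (0 + 1) * α ^ (m + 2 - (0 + 1)) = -(c 0) * α ^ (m + 1) := by
      have : c 1 * t = -(c 0) := by
        simp only [t]
        calc c 1 * (-(c 0) * u) = -(c 0) * (c 1 * u) := by ring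
          _ = -(c 0) := by rw [hu, mul_one]
      simp only [zero_add, pow_one]
      rw [this]
      congr 1
    have h2 : ∀ j ∈ Finset.range (m + 1),
        c (j + 1 + 1) * t ^ (j + 1 + 1) * α ^ (m + 2 - (j + 1 + 1)) = c 0 * (d j * α ^ (m - j)) := by
      intro j _
      have e1 : m + 2 - (j + 1 + 1) = m - j := by omega
      rw [e1]
      simp only [d, t]
      ring
    rw [Finset.sum_congr rfl h2, h0, h1, ← Finset.mul_sum]
    ring
  rw [hroot, mul_zero] at hsum
  have : β ^ (m + 2) * (α ^ (m + 2) * g.eval (t * β)) = g.eval (t * β) := by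
    rw [← mul_assoc, ← mul_pow, mul_comm β α, hβ, one_pow, one_mul]
  rw [← this, hsum, mul_zero]


theorem henselian_of_gabber (hI : I ≤ Ideal.jacobson ⊥)
    (hG : ∀ (n : ℕ), 0 < n → ∀ p : A[X], p.natDegree ≤ n → (∀ i, p.coeff i ∈ I) →
        ∃ α : A, α - 1 ∈ I ∧ IsRoot (X ^ n * (X - 1) + p) α) : HenselianRing A I := by
  refine ⟨hI, ?_⟩
  intro f hf a₀ h₁ h₂
  cases subsingleton_or_nontrivial A with
  | inl hs => exact ⟨a₀, Subsingleton.elim _ _, by simp⟩
  | inr hnt =>
  set g := taylor a₀ f with hg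
  have hgm : g.Monic := by
    rw [Monic, leadingCoeff_taylor]; exact hf
  have hc₀ : g.coeff 0 ∈ I := by rw [hg, taylor_coeff_zero]; exact h₁
  have hc₁ : IsUnit (g.coeff 1) := by
    rw [hg, taylor_coeff_one]; exact isUnit_of_isUnit_mk hI h₂
  obtain ⟨u, hu⟩ := hc₁.exists_right_inv
  have hfin : ∃ y ∈ I, g.eval y = 0 := by
    rcases Nat.lt_or_ge g.natDegree 2 with hlt | hge
    · interval_cases hdeg : g.natDegree
      · -- degree 0: g = 1, so 1 ∈ I, contradiction
        exfalso
        have h1 : g = 1 := by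
          rw [eq_one_of_monic_natDegree_zero hgm hdeg]
        rw [h1, coeff_one_zero] at hc₀
        have : (1 : A) ∈ Ideal.jacobson (⊥ : Ideal A) := hI hc₀
        have h2 := (Ideal.mem_jacobson_bot.1 this) (-1)
        simp at h2
      · -- degree 1
        refine ⟨-(g.coeff 0), I.neg_mem hc₀, ?_⟩
        have hlead : g.coeff 1 = 1 := by
          have := hgm.coeff_natDegree; rwa [hdeg] at this
        rw [Polynomial.eval_eq_sum_range, hdeg, Finset.sum_range_succ, Finset.sum_range_one, hlead]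
        ring
    · obtain ⟨m, hm⟩ : ∃ m, g.natDegree = m + 2 := ⟨g.natDegree - 2, by omega⟩
      exact key hI hG g m hm hc₀ u hu
  obtain ⟨y, hyI, hy⟩ := hfin
  refine ⟨y + a₀, ?_, by simpa using hyI⟩
  rw [IsRoot.def, ← taylor_eval]
  exact hy

theorem gabber_of_henselian [h : HenselianRing A I] (n : ℕ) (hn : 0 < n) (p : A[X])
    (hp : p.natDegree ≤ n) (hpI : ∀ i, p.coeff i ∈ I) :
    ∃! α : A, α - 1 ∈ I ∧ IsRoot (X ^ n * (X - 1) + p) α := by
  have hI : I ≤ Ideal.jacobson ⊥ := h.jac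
  set f : A[X] := X ^ n * (X - 1) + p with hf
  cases subsingleton_or_nontrivial A with
  | inl hs =>
    exact ⟨0, ⟨by rw [Subsingleton.elim (0 - 1 : A) 0]; exact I.zero_mem, Subsingleton.elim _ _⟩,
      fun _ _ => Subsingleton.elim _ _⟩
  | inr hnt =>
  have hfm : f.Monic := by
    have h1 : (X ^ n * (X - 1) : A[X]).Monic := (monic_X_pow n).mul (monic_X_sub_C 1)
    have h2 : (X ^ n * (X - 1) : A[X]).natDegree = n + 1 := by
      have e1 : (X - 1 : A[X]) = X - C 1 := by simp
      rw [e1, ((monic_X_pow n).natDegree_mul (monic_X_sub_C (1 : A))), natDegree_X_pow,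
        natDegree_X_sub_C]
    apply h1.add_of_left
    rw [degree_eq_natDegree h1.ne_zero, h2]
    exact lt_of_le_of_lt degree_le_natDegree (by exact_mod_cast Nat.lt_succ_of_le hp)
  have hder : ∀ x : A, x - 1 ∈ I → f.derivative.eval x - 1 ∈ I := by
    intro x hx
    have hpd : p.derivative.eval x ∈ I := by
      apply eval_mem_of_coeff_mem
      intro i
      rw [coeff_derivative]
      exact Ideal.mul_mem_right _ _ (hpI _)
    have : f.derivative.eval x - 1 =
        (n : A) * x ^ (n - 1) * (x - 1) + (x ^ n - 1) + p.derivative.eval x := by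
      simp only [hf, derivative_add, derivative_mul, derivative_X_pow, derivative_sub,
        derivative_X, derivative_one, eval_add, eval_mul, eval_pow, eval_X, eval_sub, eval_one,
        eval_natCast, map_natCast, eval_zero]
      ring
    rw [this]
    refine I.add_mem (I.add_mem (Ideal.mul_mem_left _ _ hx) ?_) hpd
    have : x ^ n - 1 = (x - 1) * ∑ i ∈ Finset.range n, x ^ i := by
      rw [mul_comm]; exact (geom_sum_mul x n).symm
    rw [this]; exact Ideal.mul_mem_right _ _ hx
  have h1 : f.eval 1 ∈ I := by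
    simp only [hf, eval_add, eval_mul, eval_pow, eval_X, eval_sub, eval_one, sub_self, mul_zero,
      zero_add]
    exact eval_mem_of_coeff_mem p hpI 1
  have h2 : IsUnit (Ideal.Quotient.mk I (f.derivative.eval 1)) := by
    have := hder 1 (by simp)
    rw [← Ideal.Quotient.eq_zero_iff_mem, map_sub, map_one, sub_eq_zero] at this
    rw [this]; exact isUnit_one
  obtain ⟨α, hα, hα1⟩ := h.is_henselian f hfm 1 h1 h2
  refine ⟨α, ⟨hα1, hα⟩, ?_⟩
  rintro β ⟨hβ1, hβ⟩
  obtain ⟨k, hk⟩ := f.binomExpansion α (β - α)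
  rw [add_sub_cancel, hα.eq_zero, hβ.eq_zero, zero_add] at hk
  have hy : β - α ∈ I := by
    have : β - α = (β - 1) - (α - 1) := by ring
    rw [this]; exact I.sub_mem hβ1 hα1
  have hunit : IsUnit (f.derivative.eval α + k * (β - α)) := by
    apply isUnit_of_sub_one_mem hI
    have : f.derivative.eval α + k * (β - α) - 1 = (f.derivative.eval α - 1) + k * (β - α) := by ring
    rw [this]
    exact I.add_mem (hder α hα1) (Ideal.mul_mem_left _ _ hy)
  have h0 : (f.derivative.eval α + k * (β - α)) * (β - α) = 0 := by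
    rw [hk]; ring
  have := (hunit.mul_right_eq_zero).1 h0
  exact sub_eq_zero.1 this

theorem main (A : Type u) [CommRing A] (I : Ideal A) :
    HenselianRing A I ↔ (I ≤ Ideal.jacobson ⊥ ∧
      ∀ (n : ℕ), 0 < n → ∀ p : Polynomial A, p.natDegree ≤ n → (∀ i, p.coeff i ∈ I) →
        ∃! α : A, α - 1 ∈ I ∧
          Polynomial.IsRoot (Polynomial.X ^ n * (Polynomial.X - 1) + p) α) := by
  constructor
  · intro h
    exact ⟨h.jac, fun n hn p hp hpI => gabber_of_henselian n hn p hp hpI⟩
  · rintro ⟨hI, hG⟩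
    exact henselian_of_gabber hI fun n hn p hp hpI => (hG n hn p hp hpI).exists

end Groth.Agent.Lib.Helper18Gabber
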