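import Mathlib
import Groth.Agent.Lib.Helper26HenselEtale
import Groth.Agent.Lib.Helper20EtIdem
import Groth.Agent.S17968

/-!
# Idempotent lifting for Henselian pairs (helper26)

`(A, I)` Henselian (Mathlib's `HenselianRing`), `B` integral over `A`: idempotents of `B/IB` lift
uniquely to `B`. Conversely, unique lifting for finite algebras implies Henselian.
-/

set_option autoImplicit false
universe u

open TensorProduct

namespace Groth.Agent.Lib.Helper26.HenselIdem

open Groth.Agent.Lib.Helper26.HenselEtale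

/-- For an integral extension, `I ≤ Jac(A)` implies `IB ≤ Jac(B)`. -/
theorem map_le_jacobson_of_isIntegral {A B : Type*} [CommRing A] [CommRing B] [Algebra A B]
    [Algebra.IsIntegral A B] (I : Ideal A) (hI : I ≤ Ideal.jacobson ⊥) :
    I.map (algebraMap A B) ≤ Ideal.jacobson ⊥ := by
  rw [Ideal.jacobson]
  refine le_sInf ?_
  rintro m ⟨-, hm⟩
  rw [Ideal.map_le_iff_le_comap]
  haveI := hm
  have hmax : (m.comap (algebraMap A B)).IsMaximal :=
    Ideal.isMaximal_comap_of_isIntegral_of_isMaximal (R := A) m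
  refine hI.trans ?_
  rw [Ideal.jacobson]
  exact sInf_le ⟨bot_le, hmax⟩

/-- Idempotents congruent modulo an ideal inside the Jacobson radical are equal. -/
theorem idem_eq_of_sub_mem_jacobson {B : Type*} [CommRing B] (J : Ideal B)
    (hJ : J ≤ Ideal.jacobson ⊥) {e₁ e₂ : B} (h₁ : IsIdempotentElem e₁) (h₂ : IsIdempotentElem e₂)
    (h : e₁ - e₂ ∈ J) : e₁ = e₂ := by
  set x := e₁ - e₂ with hx
  have h3 : x * (x * (-x) + 1) = 0 := by
    have e1 := h₁.eq
    have e2 := h₂.eq
    rw [hx]
    linear_combination (-e₁ + 3 * e₂ - 1) * e1 + (1 + e₂ - 3 * e₁) * e2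
  have hu : IsUnit (x * (-x) + 1) := Ideal.mem_jacobson_bot.mp (hJ h) (-x)
  have : x = 0 := (hu.mul_left_eq_zero).mp h3
  exact sub_eq_zero.mp this

theorem idem_injOn (A : Type u) [CommRing A] (I : Ideal A) (hI : I ≤ Ideal.jacobson ⊥)
    (B : Type u) [CommRing B] [Algebra A B] [Algebra.IsIntegral A B] :
    Set.InjOn (Ideal.Quotient.mk (Ideal.map (algebraMap A B) I)) {e : B | IsIdempotentElem e} := by
  intro e₁ h₁ e₂ h₂ h
  exact idem_eq_of_sub_mem_jacobson _ (map_le_jacobson_of_isIntegral I hI) h₁ h₂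
    (Ideal.Quotient.eq.mp h)

theorem idem_surjOn (A : Type u) [CommRing A] (I : Ideal A) [HenselianRing A I]
    (B : Type u) [CommRing B] [Algebra A B] [Algebra.IsIntegral A B] :
    Set.SurjOn (Ideal.Quotient.mk (Ideal.map (algebraMap A B) I))
      {e : B | IsIdempotentElem e} {e | IsIdempotentElem e} := by
  intro eb heb
  obtain ⟨A', _, _, hét, hbij, e', he', hlift⟩ :=
    Groth.Agent.Lib.Helper20.EtIdem.exists_etale_lift_idempotent I eb heb
  obtain ⟨τ, -⟩ := exists_section_of_bijective (E := A') I hbij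
  let φ : A' ⊗[A] B →ₐ[A] B :=
    Algebra.TensorProduct.productMap ((Algebra.ofId A B).comp τ) (AlgHom.id A B)
  obtain ⟨b, hb⟩ := Ideal.Quotient.mk_surjective eb
  refine ⟨φ e', he'.map φ, ?_⟩
  rw [← hb, Ideal.Quotient.mk_eq_mk_iff_sub_mem]
  have h1 := hlift b hb
  have hle : I.map (algebraMap A (A' ⊗[A] B)) ≤ (I.map (algebraMap A B)).comap φ.toRingHom := by
    rw [Ideal.map_le_iff_le_comap]
    intro a ha
    rw [Ideal.mem_comap, Ideal.mem_comap]
    simp only [AlgHom.toRingHom_eq_coe, RingHom.coe_coe, AlgHom.commutes]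
    exact Ideal.mem_map_of_mem _ ha
  have h2 := hle h1
  rw [Ideal.mem_comap] at h2
  simpa [φ] using h2

/-- **Idempotents lift uniquely along integral algebras over a Henselian pair.** -/
theorem idem_bijOn (A : Type u) [CommRing A] (I : Ideal A) [HenselianRing A I]
    (B : Type u) [CommRing B] [Algebra A B] [Algebra.IsIntegral A B] :
    Set.BijOn (Ideal.Quotient.mk (Ideal.map (algebraMap A B) I))
      {e : B | IsIdempotentElem e} {e | IsIdempotentElem e} :=
  ⟨fun _ he => he.map _, idem_injOn A I HenselianRing.jac B, idem_surjOn A I B⟩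

/-- Unique lifting of idempotents for finite algebras forces `I ≤ Jac(A)`. -/
theorem le_jacobson_of_injOn (A : Type u) [CommRing A] (I : Ideal A)
    (h : ∀ (B : Type u) [CommRing B] [Algebra A B], Module.Finite A B →
      Set.InjOn (Ideal.Quotient.mk (Ideal.map (algebraMap A B) I)) {e : B | IsIdempotentElem e}) :
    I ≤ Ideal.jacobson ⊥ := by
  rw [Ideal.jacobson]
  refine le_sInf ?_
  rintro m ⟨-, hm⟩
  by_contra hIm
  obtain ⟨i, hiI, him⟩ := Set.not_subset.mp hIm
  haveI := hm
  obtain ⟨y, c, hc, hyc⟩ := hm.exists_inv him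
  let B := A ⧸ (I ⊓ m)
  let e : B := Ideal.Quotient.mk _ (y * i)
  have hyi : y * i ∈ I := I.mul_mem_left y hiI
  have he : IsIdempotentElem e := by
    change e * e = e
    rw [← sub_eq_zero, ← map_mul, ← map_sub, Ideal.Quotient.eq_zero_iff_mem]
    have : y * i * (y * i) - y * i = -(y * i * c) := by
      have : y * i = 1 - c := by rw [← hyc]; ring
      rw [this]; ring
    rw [this]
    refine neg_mem (⟨I.mul_mem_right c hyi, m.mul_mem_left _ hc⟩ : y * i * c ∈ I ⊓ m)
  have he0 : Ideal.Quotient.mk (Ideal.map (algebraMap A B) I) e =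
      Ideal.Quotient.mk (Ideal.map (algebraMap A B) I) 0 := by
    rw [map_zero, Ideal.Quotient.eq_zero_iff_mem]
    exact Ideal.mem_map_of_mem _ hyi
  have h0 : e = 0 := h B inferInstance he (IsIdempotentElem.zero) he0
  have h1 : y * i ∈ I ⊓ m := Ideal.Quotient.eq_zero_iff_mem.mp h0
  have h2 : (1 : A) ∈ m := by
    rw [← hyc]
    exact m.add_mem h1.2 hc
  exact hm.ne_top ((Ideal.eq_top_iff_one _).mpr h2)

/-- Unique lifting of idempotents for finite algebras implies Henselian. -/
theorem henselian_of_finite_bijOn (A : Type u) [CommRing A] (I : Ideal A)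
    (h : ∀ (B : Type u) [CommRing B] [Algebra A B], Module.Finite A B →
      Set.BijOn (Ideal.Quotient.mk (Ideal.map (algebraMap A B) I))
        {e : B | IsIdempotentElem e} {e | IsIdempotentElem e}) :
    HenselianRing A I := by
  have hjac : I ≤ Ideal.jacobson ⊥ :=
    le_jacobson_of_injOn A I (fun B _ _ hB => (h B hB).injOn)
  refine Groth.Agent.S17968.aux A I hjac ?_
  intro m p hp _
  haveI : Module.Finite A (AdjoinRoot p) := hp.finite_adjoinRoot
  exact (h (AdjoinRoot p) inferInstance).surjOn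

end Groth.Agent.Lib.Helper26.HenselIdem
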