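import Mathlib
import Groth.Agent.S0526
import Groth.Agent.Lib.Helper2HenselRad

/-!
# Helper11 HensIdemA: lifting approximate idempotents over a Henselian pair `(A, t)`

If `e₀` is an element of a (possibly noncommutative) `A`-algebra `S` such that `δ = e₀² - e₀`
is a root of a monic polynomial `q` over `A` whose lower coefficients are divisible by `t`,
then there is an idempotent `e₁ = e₀ + p(e₀) δ` with `p ∈ A[X]` of degree `≤ 2 deg q`.
-/

set_option autoImplicit false
universe u

open Polynomial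

namespace Groth.Agent.Lib.Helper11.HensIdem

section Comm
variable {A : Type u} [CommRing A] (t : A)
variable (q : A[X]) (hq : q.Monic) (hqt : ∀ i < q.natDegree, t ∣ q.coeff i)

/-- the polynomial `q(X² - X)` -/
noncomputable def QQ : A[X] := q.comp (X ^ 2 - X)

lemma natDegree_sq_sub_le : (X ^ 2 - X : A[X]).natDegree ≤ 2 := by
  refine (natDegree_sub_le _ _).trans ?_
  rw [max_le_iff]
  exact ⟨natDegree_X_pow_le 2, natDegree_X_le.trans (by norm_num)⟩

include hq in
lemma QQ_monic : (QQ q).Monic := by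
  nontriviality A
  have h1 : (X ^ 2 - X : A[X]).natDegree = 2 := by
    rw [natDegree_sub_eq_left_of_natDegree_lt (by rw [natDegree_X_pow, natDegree_X]; norm_num),
      natDegree_X_pow]
  refine hq.comp ?_ ?_
  · exact (monic_X_pow 2).sub_of_left (by rw [degree_X_pow, degree_X]; norm_num)
  · rw [h1]; norm_num

lemma QQ_natDegree_le : (QQ q).natDegree ≤ q.natDegree * 2 :=
  natDegree_comp_le.trans (Nat.mul_le_mul_left _ natDegree_sq_sub_le)

/-- the element `d = x² - x` of `A[X]/(Q)` -/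
noncomputable def dd : AdjoinRoot (QQ q) := AdjoinRoot.root (QQ q) ^ 2 - AdjoinRoot.root (QQ q)

lemma aeval_dd : aeval (dd q) q = 0 := by
  have h1 : dd q = aeval (AdjoinRoot.root (QQ q)) (X ^ 2 - X : A[X]) := by
    rw [dd, map_sub, map_pow, aeval_X]
  rw [h1, ← aeval_comp, AdjoinRoot.aeval_eq]
  exact AdjoinRoot.mk_self

include hq hqt in
lemma dd_pow_mem :
    (dd q) ^ q.natDegree ∈ (Ideal.span {t}).map (algebraMap A (AdjoinRoot (QQ q))) := by
  have hsum := hq.as_sum
  have h0 := aeval_dd q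
  have e : (dd q) ^ q.natDegree =
      - ∑ i ∈ Finset.range q.natDegree,
        algebraMap A (AdjoinRoot (QQ q)) (q.coeff i) * (dd q) ^ i := by
    rw [eq_neg_iff_add_eq_zero]
    have h2 := congrArg (aeval (dd q)) hsum
    rw [h0] at h2
    rw [h2]
    simp only [map_add, map_pow, map_sum, map_mul, aeval_X, aeval_C]
  rw [e]
  refine neg_mem (Ideal.sum_mem _ fun i hi => ?_)
  refine Ideal.mul_mem_right _ _ (Ideal.mem_map_of_mem _ ?_)
  exact Ideal.mem_span_singleton.mpr (hqt i (Finset.mem_range.mp hi))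

variable [hH : HenselianRing A (Ideal.span {t})]

include hq hqt hH in
theorem henselianRing_span_dd : HenselianRing (AdjoinRoot (QQ q)) (Ideal.span {dd q}) := by
  haveI : Module.Finite A (AdjoinRoot (QQ q)) := (QQ_monic q hq).finite_adjoinRoot
  haveI : Algebra.IsIntegral A (AdjoinRoot (QQ q)) := inferInstance
  have h1 : HenselianRing (AdjoinRoot (QQ q))
      ((Ideal.span {t}).map (algebraMap A (AdjoinRoot (QQ q)))) :=
    Groth.Agent.S0526.result A (Ideal.span {t}) (AdjoinRoot (QQ q))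
  have h2 : HenselianRing (AdjoinRoot (QQ q))
      ((Ideal.span {t}).map (algebraMap A (AdjoinRoot (QQ q))) ⊔ Ideal.span {dd q}) := by
    apply Groth.Agent.Lib.Helper2.henselianRing_of_le_radical _ _ h1 le_sup_left
    rw [sup_le_iff]
    refine ⟨Ideal.le_radical, ?_⟩
    rw [Ideal.span_le]
    intro x hx
    rw [Set.mem_singleton_iff] at hx
    rw [hx]
    exact ⟨q.natDegree, dd_pow_mem t q hq hqt⟩
  exact Groth.Agent.Lib.Helper2.henselianRing_of_le _ _ h2 le_sup_right

include hq hqt hH in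
/-- the idempotent in `A[X]/(Q)` close to the root -/
theorem exists_idem_adjoinRoot :
    ∃ y c : AdjoinRoot (QQ q), y * y = y ∧ y = AdjoinRoot.root (QQ q) + c * dd q := by
  have hHd := henselianRing_span_dd t q hq hqt
  set x := AdjoinRoot.root (QQ q) with hx
  let f : (AdjoinRoot (QQ q))[X] := X ^ 2 - X
  have hf : f.Monic := by
    nontriviality (AdjoinRoot (QQ q))
    exact (monic_X_pow 2).sub_of_left (by rw [degree_X_pow, degree_X]; norm_num)
  have hfx : f.eval x = dd q := by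
    simp only [f, eval_sub, eval_pow, eval_X]
    rfl
  have hder : f.derivative.eval x = 2 * x - 1 := by
    simp only [f, derivative_sub, derivative_X_pow, derivative_X, eval_sub, eval_mul, eval_pow,
      eval_X, eval_one]
    simp
  have hunit : IsUnit (Ideal.Quotient.mk (Ideal.span {dd q}) (f.derivative.eval x)) := by
    rw [hder]
    have h1 : (2 * x - 1) * (2 * x - 1) = 1 + 4 * dd q := by
      rw [dd, ← hx]; ring
    have h2 : Ideal.Quotient.mk (Ideal.span {dd q}) ((2 * x - 1) * (2 * x - 1)) = 1 := by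
      rw [h1, map_add, map_one, map_mul,
        Ideal.Quotient.eq_zero_iff_mem.mpr (Ideal.mem_span_singleton_self (dd q)), mul_zero,
        add_zero]
    rw [map_mul] at h2
    exact IsUnit.of_mul_eq_one _ h2
  obtain ⟨y, hy, hyx⟩ := hHd.is_henselian f hf x (by rw [hfx]; exact Ideal.mem_span_singleton_self _)
    hunit
  obtain ⟨c, hc⟩ := Ideal.mem_span_singleton'.mp hyx
  refine ⟨y, c, ?_, ?_⟩
  · have : f.eval y = 0 := hy
    simp only [f, eval_sub, eval_pow, eval_X] at this
    have h3 : y ^ 2 = y := sub_eq_zero.mp this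
    rw [← pow_two, h3]
  · rw [hc]; ring

include hq hqt hH in
/-- transfer to a (possibly noncommutative) `A`-algebra -/
theorem exists_idem_of_aeval_eq_zero {S : Type*} [Ring S] [Algebra A S] (e₀ : S)
    (haev : aeval (e₀ * e₀ - e₀) q = 0) :
    ∃ p : A[X], p.natDegree ≤ q.natDegree * 2 ∧
      (e₀ + aeval e₀ p * (e₀ * e₀ - e₀)) * (e₀ + aeval e₀ p * (e₀ * e₀ - e₀)) =
        e₀ + aeval e₀ p * (e₀ * e₀ - e₀) := by
  have hQ : aeval e₀ (QQ q) = 0 := by
    rw [QQ, aeval_comp]
    have : aeval e₀ (X ^ 2 - X : A[X]) = e₀ * e₀ - e₀ := by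
      rw [map_sub, map_pow, aeval_X, pow_two]
    rw [this, haev]
  have hker : ∀ a ∈ Ideal.span {QQ q}, (aeval e₀ : A[X] →ₐ[A] S) a = 0 := by
    intro a ha
    obtain ⟨b, rfl⟩ := Ideal.mem_span_singleton'.mp ha
    rw [map_mul, hQ, mul_zero]
  let φ : AdjoinRoot (QQ q) →ₐ[A] S := Ideal.Quotient.liftₐ (Ideal.span {QQ q}) (aeval e₀) hker
  have hφmk : ∀ g : A[X], φ (AdjoinRoot.mk (QQ q) g) = aeval e₀ g := fun g =>
    Ideal.Quotient.lift_mk _ _ _
  have hφroot : φ (AdjoinRoot.root (QQ q)) = e₀ := by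
    rw [← AdjoinRoot.mk_X, hφmk, aeval_X]
  have hφdd : φ (dd q) = e₀ * e₀ - e₀ := by
    rw [dd, map_sub, map_pow, hφroot, pow_two]
  obtain ⟨y, c, hyy, hyc⟩ := exists_idem_adjoinRoot t q hq hqt
  obtain ⟨p₀, hp₀⟩ := AdjoinRoot.mk_surjective c
  have hQm := QQ_monic q hq
  have hp : AdjoinRoot.mk (QQ q) (p₀ %ₘ QQ q) = c := by
    rw [← hp₀, AdjoinRoot.mk_eq_mk]
    refine ⟨-(p₀ /ₘ QQ q), ?_⟩
    have := modByMonic_add_div p₀ (QQ q)
    linear_combination this
  refine ⟨p₀ %ₘ QQ q, (natDegree_modByMonic_le p₀ hQm).trans (QQ_natDegree_le q), ?_⟩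
  have hφy : φ y = e₀ + aeval e₀ (p₀ %ₘ QQ q) * (e₀ * e₀ - e₀) := by
    rw [hyc, map_add, map_mul, hφroot, hφdd, ← hp, hφmk]
  rw [← hφy, ← map_mul, hyy]

end Comm

end Groth.Agent.Lib.Helper11.HensIdem
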