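import Mathlib

/-!
# Helper11 Horrocks E: base change of maps to and from finite free modules
-/

set_option autoImplicit false
universe u v w

namespace Groth.Agent.Lib.Helper11.Horrocks

open TensorProduct

section bc
variable {B : Type u} [CommRing B] (L : Type v) [CommRing L] [Algebra B L]
variable {N : Type w} [AddCommGroup N] [Module B N] {r : ℕ}

/-- base change of a map out of a finite free module -/
noncomputable def bcUp (φ : (Fin r → B) →ₗ[B] N) : (Fin r → L) →ₗ[L] (L ⊗[B] N) :=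
  Fintype.linearCombination L (fun i => (1 : L) ⊗ₜ[B] φ (Pi.single i 1))

theorem bcUp_apply (φ : (Fin r → B) →ₗ[B] N) (v : Fin r → L) :
    bcUp L φ v = ∑ i, v i • ((1 : L) ⊗ₜ[B] φ (Pi.single i 1)) := by
  rw [bcUp, Fintype.linearCombination_apply]

/-- the coordinatewise inclusion `B^r → L^r` -/
noncomputable def incl (r : ℕ) : (Fin r → B) →ₗ[B] (Fin r → L) :=
  (Algebra.linearMap B L).compLeft (Fin r)

theorem incl_apply (v : Fin r → B) (i : Fin r) : incl L r v i = algebraMap B L (v i) := rfl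

/-- base change of a map into a finite free module -/
noncomputable def bcDown (φ' : N →ₗ[B] (Fin r → B)) : (L ⊗[B] N) →ₗ[L] (Fin r → L) :=
  LinearMap.liftBaseChange L (incl L r ∘ₗ φ')

theorem bcDown_tmul (φ' : N →ₗ[B] (Fin r → B)) (l : L) (x : N) :
    bcDown L φ' (l ⊗ₜ[B] x) = l • incl L r (φ' x) := by
  rw [bcDown, LinearMap.liftBaseChange_tmul]
  rfl

theorem bcDown_bcUp {n : ℕ} (φ : (Fin n → B) →ₗ[B] N)
    (φ' : N →ₗ[B] (Fin r → B)) (v : Fin n → L) :
    bcDown L φ' (bcUp L φ v) =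
      ((LinearMap.toMatrix' (φ' ∘ₗ φ)).map (algebraMap B L)).mulVec v := by
  rw [bcUp_apply, map_sum]
  funext j
  rw [Finset.sum_apply, Matrix.mulVec, dotProduct]
  refine Finset.sum_congr rfl fun i _ => ?_
  rw [map_smul, bcDown_tmul, one_smul, Pi.smul_apply, incl_apply, Matrix.map_apply,
    LinearMap.toMatrix'_apply, smul_eq_mul, mul_comm]
  rfl

theorem bcUp_bcDown (φ : (Fin r → B) →ₗ[B] N) (φ' : N →ₗ[B] (Fin r → B)) (z : L ⊗[B] N) :
    bcUp L φ (bcDown L φ' z) = (φ ∘ₗ φ').baseChange L z := by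
  induction z using TensorProduct.induction_on with
  | zero => simp
  | add x y hx hy => rw [map_add, map_add, map_add, hx, hy]
  | tmul l x =>
    rw [bcDown_tmul, map_smul, bcUp_apply, LinearMap.baseChange_tmul]
    have h1 : ∀ i, incl L r (φ' x) i • ((1 : L) ⊗ₜ[B] φ (Pi.single i 1)) =
        (1 : L) ⊗ₜ[B] (φ' x i • φ (Pi.single i 1)) := by
      intro i
      rw [incl_apply, TensorProduct.smul_tmul', smul_eq_mul, mul_one, Algebra.algebraMap_eq_smul_one,
        TensorProduct.smul_tmul]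
    rw [Finset.sum_congr rfl fun i _ => h1 i, ← TensorProduct.tmul_sum]
    have h2 : ∑ i, φ' x i • φ (Pi.single i 1) = φ (φ' x) := by
      rw [LinearMap.pi_apply_eq_sum_univ φ (φ' x)]
      refine Finset.sum_congr rfl fun i _ => ?_
      congr 2
      funext j
      simp [Pi.single_apply, eq_comm]
    rw [h2, TensorProduct.smul_tmul', smul_eq_mul, mul_one]
    rfl

end bc

section isog
variable {B : Type u} [CommRing B] (N : Type u) [AddCommGroup N] [Module B N] [Module.Finite B N]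
  [Module.Projective B N]

/-- A finite projective module is isogenous to a free module away from any given prime. -/
theorem exists_isogeny_free (𝔭 : Ideal B) [𝔭.IsPrime] :
    ∃ (r : ℕ) (φ : (Fin r → B) →ₗ[B] N) (φ' : N →ₗ[B] (Fin r → B)) (s : B), s ∉ 𝔭 ∧
      φ ∘ₗ φ' = s • LinearMap.id ∧ φ' ∘ₗ φ = s • LinearMap.id := by
  classical
  let S := 𝔭.primeCompl
  let Bp := Localization.AtPrime 𝔭
  let N' := LocalizedModule S N
  haveI : Module.FinitePresentation B N := Module.finitePresentation_of_projective B N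
  haveI : Module.Free Bp N' := Module.free_of_flat_of_isLocalRing
  let b := Module.finBasis Bp N'
  obtain ⟨r, hr⟩ : ∃ r, r = Module.finrank Bp N' := ⟨_, rfl⟩
  let l : (Fin (Module.finrank Bp N') → Bp) ≃ₗ[B] N' := (b.equivFun.symm).restrictScalars B
  let f₁ : (Fin (Module.finrank Bp N') → B) →ₗ[B] (Fin (Module.finrank Bp N') → Bp) :=
    LinearMap.pi fun i => (Algebra.linearMap B Bp) ∘ₗ LinearMap.proj i
  let g₁ : N →ₗ[B] N' := LocalizedModule.mkLinearMap S N
  obtain ⟨φ, s₁, hφ⟩ := Module.FinitePresentation.exists_lift_of_isLocalizedModule S g₁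
    (l.toLinearMap ∘ₗ f₁)
  obtain ⟨φ'₀, s₂, hφ'₀⟩ := Module.FinitePresentation.exists_lift_of_isLocalizedModule S f₁
    (l.symm.toLinearMap ∘ₗ g₁)
  have h1 : g₁ ∘ₗ (φ ∘ₗ φ'₀) = g₁ ∘ₗ (((s₁ : B) * (s₂ : B)) • LinearMap.id) := by
    rw [← LinearMap.comp_assoc, hφ]
    refine LinearMap.ext fun x => ?_
    have := LinearMap.congr_fun hφ'₀ x
    simp only [LinearMap.comp_apply, LinearMap.smul_apply, Submonoid.smul_def] at this ⊢
    rw [this, map_smul, LinearEquiv.coe_coe, LinearEquiv.coe_coe, LinearEquiv.apply_symm_apply,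
      LinearMap.id_apply, map_smul, mul_smul]
  have h2 : f₁ ∘ₗ (φ'₀ ∘ₗ φ) = f₁ ∘ₗ (((s₁ : B) * (s₂ : B)) • LinearMap.id) := by
    rw [← LinearMap.comp_assoc, hφ'₀]
    refine LinearMap.ext fun x => ?_
    have := LinearMap.congr_fun hφ x
    simp only [LinearMap.comp_apply, LinearMap.smul_apply, Submonoid.smul_def] at this ⊢
    rw [this, map_smul, LinearEquiv.coe_coe, LinearEquiv.coe_coe, LinearEquiv.symm_apply_apply,
      LinearMap.id_apply, map_smul, mul_smul, smul_comm]
  obtain ⟨s₃, hs₃⟩ := Module.Finite.exists_smul_of_comp_eq_of_isLocalizedModule S g₁ _ _ h1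
  obtain ⟨s₄, hs₄⟩ := Module.Finite.exists_smul_of_comp_eq_of_isLocalizedModule S f₁ _ _ h2
  refine ⟨_, φ, ((s₃ : B) * (s₄ : B)) • φ'₀, (s₃ : B) * (s₄ : B) * ((s₁ : B) * (s₂ : B)),
    ?_, ?_, ?_⟩
  · exact (S.mul_mem (S.mul_mem s₃.2 s₄.2) (S.mul_mem s₁.2 s₂.2))
  · simp only [Submonoid.smul_def] at hs₃
    rw [LinearMap.comp_smul, mul_comm (s₃ : B) (s₄ : B), mul_smul, hs₃, smul_smul, smul_smul]
  · simp only [Submonoid.smul_def] at hs₄
    rw [LinearMap.smul_comp, mul_smul, hs₄, smul_smul, smul_smul]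

end isog

end Groth.Agent.Lib.Helper11.Horrocks
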