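import Mathlib

/-!
# Helper11 Horrocks D: Quillen patching for idempotent matrices over `A[X]`
-/

set_option autoImplicit false
universe u v

namespace Groth.Agent.Lib.Helper11.Horrocks

open Polynomial

section eqv
variable {S : Type*} [Semiring S]

/-- (Murray–von Neumann) equivalence of idempotents. -/
def Eqv (e e' : S) : Prop := ∃ x y : S, x * y = e ∧ y * x = e'

theorem Eqv.rfl' (e : S) : Eqv e e := ⟨e, 1, mul_one e, one_mul e⟩

theorem Eqv.symm {e e' : S} (h : Eqv e e') : Eqv e' e := by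
  obtain ⟨x, y, h1, h2⟩ := h
  exact ⟨y, x, h2, h1⟩

theorem Eqv.trans {e e' e'' : S} (he : e * e = e) (he'' : e'' * e'' = e'') (h : Eqv e e')
    (h' : Eqv e' e'') : Eqv e e'' := by
  obtain ⟨x, y, h1, h2⟩ := h
  obtain ⟨x', y', h1', h2'⟩ := h'
  refine ⟨x * x', y' * y, ?_, ?_⟩
  · calc x * x' * (y' * y) = x * (x' * y') * y := by simp only [mul_assoc]
      _ = x * (y * x) * y := by rw [h1', h2]
      _ = (x * y) * (x * y) := by simp only [mul_assoc]
      _ = e := by rw [h1, he]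
  · calc y' * y * (x * x') = y' * (y * x) * x' := by simp only [mul_assoc]
      _ = y' * (x' * y') * x' := by rw [h2, h1']
      _ = (y' * x') * (y' * x') := by simp only [mul_assoc]
      _ = e'' := by rw [h2', he'']

theorem Eqv.map {S' : Type*} [Semiring S'] (φ : S →+* S') {e e' : S} (h : Eqv e e') :
    Eqv (φ e) (φ e') := by
  obtain ⟨x, y, h1, h2⟩ := h
  exact ⟨φ x, φ y, by rw [← map_mul, h1], by rw [← map_mul, h2]⟩

theorem Eqv.corner {e e' : S} (he : e * e = e) (he' : e' * e' = e') (h : Eqv e e') :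
    ∃ x y : S, x * y = e ∧ y * x = e' ∧ e * x = x ∧ x * e' = x ∧ e' * y = y ∧ y * e = y := by
  obtain ⟨x, y, h1, h2⟩ := h
  refine ⟨e * x * e', e' * y * e, ?_, ?_, ?_, ?_, ?_, ?_⟩
  · calc e * x * e' * (e' * y * e) = e * x * (e' * e') * y * e := by simp only [mul_assoc]
      _ = e * x * (y * x) * y * e := by rw [he', h2]
      _ = e * (x * y) * (x * y) * e := by simp only [mul_assoc]
      _ = e := by rw [h1, he, he, he]
  · calc e' * y * e * (e * x * e') = e' * y * (e * e) * x * e' := by simp only [mul_assoc]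
      _ = e' * y * (x * y) * x * e' := by rw [he, h1]
      _ = e' * (y * x) * (y * x) * e' := by simp only [mul_assoc]
      _ = e' := by rw [h2, he', he', he']
  · rw [← mul_assoc, ← mul_assoc, he]
  · rw [mul_assoc, he']
  · rw [← mul_assoc, ← mul_assoc, he']
  · rw [mul_assoc, he]

end eqv

section homs
variable {K : Type u} [CommRing K]

/-- `X ↦ X + a Y` -/
noncomputable def sig (a : K) : K[X] →+* K[X][X] :=
  eval₂RingHom ((C : K[X] →+* K[X][X]).comp C) (C X + C (C a) * X)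

@[simp] theorem sig_C (a k : K) : sig a (C k) = C (C k) := by simp [sig]
@[simp] theorem sig_X (a : K) : sig a X = C X + C (C a) * X := by simp [sig]

/-- `X ↦ X + b Y, Y ↦ Y` -/
noncomputable def tau (b : K) : K[X][X] →+* K[X][X] := eval₂RingHom (sig b) X

@[simp] theorem tau_C (b : K) (f : K[X]) : tau b (C f) = sig b f := by simp [tau]
@[simp] theorem tau_X (b : K) : tau b (X : K[X][X]) = X := by simp [tau]

/-- `Y ↦ c Y` -/
noncomputable def mu (c : K) : K[X][X] →+* K[X][X] := eval₂RingHom C (C (C c) * X)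

@[simp] theorem mu_C (c : K) (f : K[X]) : mu c (C f) = C f := by simp [mu]
@[simp] theorem mu_X (c : K) : mu c (X : K[X][X]) = C (C c) * X := by simp [mu]

/-- `X ↦ 0, Y ↦ X` -/
noncomputable def evl : K[X][X] →+* K[X] := eval₂RingHom (C.comp (evalRingHom 0)) X

@[simp] theorem evl_C (f : K[X]) : evl (C f) = C (f.eval 0) := by simp [evl]
@[simp] theorem evl_X : evl (X : K[X][X]) = X := by simp [evl]

theorem sig_zero : sig (0 : K) = C := by
  refine ringHom_ext (fun k => by simp) (by simp)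

theorem sig_comp_C (a : K) : (sig a).comp C = (C : K[X] →+* K[X][X]).comp C :=
  RingHom.ext fun k => by simp

theorem tau_comp_sig (a b : K) : (tau b).comp (sig a) = sig (a + b) := by
  refine ringHom_ext (fun k => by simp) ?_
  simp only [RingHom.comp_apply, sig_X, map_add, map_mul, tau_C, tau_X, sig_C]
  ring

theorem tau_comp_C (b : K) : (tau b).comp C = sig b := RingHom.ext fun f => by simp

theorem mu_comp_sig (a c : K) : (mu c).comp (sig a) = sig (a * c) := by
  refine ringHom_ext (fun k => by simp) ?_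
  simp only [RingHom.comp_apply, sig_X, map_add, map_mul, mu_C, mu_X]
  ring

theorem mu_comp_C (c : K) : (mu c).comp C = C := RingHom.ext fun f => by simp

theorem mu_comp_mu (c c' : K) : (mu c).comp (mu c') = mu (c' * c) := by
  refine ringHom_ext (fun f => by simp) ?_
  simp only [RingHom.comp_apply, mu_X, map_mul, mu_C]
  ring

theorem evl_comp_C : (evl (K := K)).comp C = C.comp (evalRingHom 0) := RingHom.ext fun f => by simp

theorem evl_comp_sig_one : (evl (K := K)).comp (sig 1) = RingHom.id _ := by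
  refine ringHom_ext (fun k => by simp) (by simp)

theorem mu_zero_apply (f : K[X][X]) : mu (0 : K) f = C (f.coeff 0) := by
  simp [mu, eval₂_at_zero]

variable {K' : Type v} [CommRing K'] (φ : K →+* K')

theorem map_comp_sig (a : K) :
    (mapRingHom (mapRingHom φ)).comp (sig a) = (sig (φ a)).comp (mapRingHom φ) := by
  refine ringHom_ext (fun k => by simp) (by simp)

theorem map_comp_mu (c : K) :
    (mapRingHom (mapRingHom φ)).comp (mu c) = (mu (φ c)).comp (mapRingHom (mapRingHom φ)) := by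
  refine ringHom_ext (fun f => by simp) (by simp)

theorem map_comp_C2 : (mapRingHom (mapRingHom φ)).comp C = C.comp (mapRingHom φ) :=
  RingHom.ext fun f => by simp

theorem map_comp_C_eval :
    (mapRingHom φ).comp (C.comp (evalRingHom 0)) = (C.comp (evalRingHom 0)).comp (mapRingHom φ) := by
  refine RingHom.ext fun f => ?_
  simp only [RingHom.comp_apply, coe_mapRingHom, map_C, coe_evalRingHom]
  rw [← coeff_zero_eq_eval_zero, ← coeff_zero_eq_eval_zero, coeff_map]

end homs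

section mat

theorem mm_comp {α β γ : Type*} [NonAssocSemiring α] [NonAssocSemiring β] [NonAssocSemiring γ]
    {m : Type*} [Fintype m] [DecidableEq m] (f : β →+* γ) (g : α →+* β) (M : Matrix m m α) :
    f.mapMatrix (g.mapMatrix M) = (f.comp g).mapMatrix M := by
  ext i j
  simp

theorem mm_smul {α β : Type*} [Semiring α] [Semiring β]
    {m : Type*} [Fintype m] [DecidableEq m] (f : α →+* β) (c : α) (M : Matrix m m α) :
    f.mapMatrix (c • M) = f c • f.mapMatrix M := by
  ext i j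
  simp

end mat

section loc

theorem matrix_clear₂ {A B : Type*} [CommRing A] [CommRing B] [Algebra A B] (T : Submonoid A)
    [IsLocalization T B] {ι κ : Type*} [Finite ι] [Finite κ] (Z Z' : Matrix ι κ B) :
    ∃ t ∈ T, ∃ W W' : Matrix ι κ A, W.map (algebraMap A B) = algebraMap A B t • Z ∧
      W'.map (algebraMap A B) = algebraMap A B t • Z' := by
  obtain ⟨b, hb⟩ := IsLocalization.exist_integer_multiples_of_finite T
    (fun x : (ι × κ) ⊕ (ι × κ) => Sum.elim (fun ij => Z ij.1 ij.2) (fun ij => Z' ij.1 ij.2) x)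
  choose w hw using hb
  refine ⟨b, b.2, Matrix.of fun i j => w (Sum.inl (i, j)), Matrix.of fun i j => w (Sum.inr (i, j)),
    ?_, ?_⟩
  · refine Matrix.ext fun i j => ?_
    have := hw (Sum.inl (i, j))
    simp only [Sum.elim_inl] at this
    simp [this, Algebra.smul_def]
  · refine Matrix.ext fun i j => ?_
    have := hw (Sum.inr (i, j))
    simp only [Sum.elim_inr] at this
    simp [this, Algebra.smul_def]

theorem matrix_kill₂ {A B : Type*} [CommRing A] [CommRing B] [Algebra A B] (T : Submonoid A)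
    [IsLocalization T B] {ι κ : Type*} [Finite ι] [Finite κ] (W W' : Matrix ι κ A)
    (hW : W.map (algebraMap A B) = 0) (hW' : W'.map (algebraMap A B) = 0) :
    ∃ t ∈ T, t • W = 0 ∧ t • W' = 0 := by
  classical
  cases nonempty_fintype ι
  cases nonempty_fintype κ
  have h1 : ∀ x : (ι × κ) ⊕ (ι × κ), ∃ m : T,
      (m : A) * Sum.elim (fun ij => W ij.1 ij.2) (fun ij => W' ij.1 ij.2) x = 0 := by
    intro x
    refine (IsLocalization.map_eq_zero_iff T B _).1 ?_
    rcases x with ⟨i, j⟩ | ⟨i, j⟩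
    · have := congrFun (congrFun hW i) j
      simpa using this
    · have := congrFun (congrFun hW' i) j
      simpa using this
  choose m hm using h1
  refine ⟨∏ x, (m x : A), Submonoid.prod_mem _ fun x _ => (m x).2, ?_, ?_⟩
  · refine Matrix.ext fun i j => ?_
    have := hm (Sum.inl (i, j))
    simp only [Sum.elim_inl] at this
    rw [Matrix.smul_apply, smul_eq_mul, Matrix.zero_apply,
      ← Finset.prod_erase_mul _ _ (Finset.mem_univ (Sum.inl (i, j))), mul_assoc, this, mul_zero]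
  · refine Matrix.ext fun i j => ?_
    have := hm (Sum.inr (i, j))
    simp only [Sum.elim_inr] at this
    rw [Matrix.smul_apply, smul_eq_mul, Matrix.zero_apply,
      ← Finset.prod_erase_mul _ _ (Finset.mem_univ (Sum.inr (i, j))), mul_assoc, this, mul_zero]

variable {K K' : Type u} [CommRing K] [CommRing K'] [Algebra K K'] (S : Submonoid K)
  [IsLocalization S K']

theorem poly2_clear {ι κ : Type*} [Finite ι] [Finite κ] (Z Z' : Matrix ι κ K'[X][X]) :
    ∃ s ∈ S, ∃ W W' : Matrix ι κ K[X][X],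
      W.map (mapRingHom (mapRingHom (algebraMap K K'))) =
        (C (C (algebraMap K K' s)) : K'[X][X]) • Z ∧
      W'.map (mapRingHom (mapRingHom (algebraMap K K'))) =
        (C (C (algebraMap K K' s)) : K'[X][X]) • Z' := by
  letI a1 : Algebra K[X] K'[X] := Polynomial.algebra K K'
  haveI l1 : IsLocalization (S.map (C : K →+* K[X])) K'[X] := Polynomial.isLocalization S K'
  letI a2 : Algebra K[X][X] K'[X][X] := Polynomial.algebra K[X] K'[X]
  haveI l2 : IsLocalization ((S.map (C : K →+* K[X])).map (C : K[X] →+* K[X][X])) K'[X][X] :=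
    Polynomial.isLocalization (S.map (C : K →+* K[X])) K'[X]
  obtain ⟨t, ht, W, W', hW, hW'⟩ :=
    matrix_clear₂ ((S.map (C : K →+* K[X])).map (C : K[X] →+* K[X][X])) Z Z'
  obtain ⟨t', ⟨s, hs, rfl⟩, rfl⟩ := ht
  refine ⟨s, hs, W, W', ?_, ?_⟩
  · simpa using hW
  · simpa using hW'

theorem poly2_kill {ι κ : Type*} [Finite ι] [Finite κ] (W W' : Matrix ι κ K[X][X])
    (hW : W.map (mapRingHom (mapRingHom (algebraMap K K'))) = 0)
    (hW' : W'.map (mapRingHom (mapRingHom (algebraMap K K'))) = 0) :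
    ∃ t ∈ S, (C (C t) : K[X][X]) • W = 0 ∧ (C (C t) : K[X][X]) • W' = 0 := by
  letI a1 : Algebra K[X] K'[X] := Polynomial.algebra K K'
  haveI l1 : IsLocalization (S.map (C : K →+* K[X])) K'[X] := Polynomial.isLocalization S K'
  letI a2 : Algebra K[X][X] K'[X][X] := Polynomial.algebra K[X] K'[X]
  haveI l2 : IsLocalization ((S.map (C : K →+* K[X])).map (C : K[X] →+* K[X][X])) K'[X][X] :=
    Polynomial.isLocalization (S.map (C : K →+* K[X])) K'[X]
  obtain ⟨t, ht, h1, h2⟩ :=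
    matrix_kill₂ ((S.map (C : K →+* K[X])).map (C : K[X] →+* K[X][X])) (B := K'[X][X]) W W' hW hW'
  obtain ⟨t', ⟨s, hs, rfl⟩, rfl⟩ := ht
  exact ⟨s, hs, h1, h2⟩

end loc

section patch

theorem eq_X_smul_of_mu_zero {K : Type u} [CommRing K] {n : ℕ}
    (Z : Matrix (Fin n) (Fin n) K[X][X]) (hZ : (mu (0 : K)).mapMatrix Z = 0) :
    Z = (X : K[X][X]) • Z.map divX := by
  refine Matrix.ext fun i j => ?_
  have h0 := congrFun (congrFun hZ i) j
  simp only [RingHom.mapMatrix_apply, Matrix.map_apply, Matrix.zero_apply, mu_zero_apply] at h0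
  rw [Matrix.smul_apply, Matrix.map_apply, smul_eq_mul]
  conv_lhs => rw [← X_mul_divX_add (Z i j), h0, add_zero]

theorem mu_apply_eq_zero {K : Type u} [CommRing K] (t : K) (f : K[X][X]) (h0 : f.coeff 0 = 0)
    (ht : (C (C t) : K[X][X]) * f = 0) : mu t f = 0 := by
  have hc : ∀ i, f.coeff i * C t = 0 := by
    intro i
    have := congrArg (fun q => q.coeff i) ht
    simp only [coeff_C_mul, coeff_zero] at this
    rw [mul_comm]; exact this
  show eval₂ C (C (C t) * X) f = 0
  rw [eval₂_eq_sum]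
  refine Finset.sum_eq_zero fun i _ => ?_
  rcases Nat.eq_zero_or_pos i with hi | hi
  · rw [hi, h0]; simp
  · obtain ⟨i', rfl⟩ : ∃ i', i = i' + 1 := ⟨i - 1, by omega⟩
    show C (f.coeff (i' + 1)) * (C (C t) * X) ^ (i' + 1) = 0
    have h1 : C (f.coeff (i' + 1)) * (C (C t) * X) ^ (i' + 1) =
        C (f.coeff (i' + 1) * C t) * (X * (C (C t) * X) ^ i') := by
      rw [pow_succ, C_mul]; ring
    rw [h1, hc, C_0, zero_mul]

theorem mu_mapMatrix_eq_zero {K : Type u} [CommRing K] {n : ℕ} (t : K)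
    (D : Matrix (Fin n) (Fin n) K[X][X]) (h0 : (mu (0 : K)).mapMatrix D = 0)
    (ht : (C (C t) : K[X][X]) • D = 0) : (mu t).mapMatrix D = 0 := by
  refine Matrix.ext fun i j => ?_
  have h0' := congrFun (congrFun h0 i) j
  simp only [RingHom.mapMatrix_apply, Matrix.map_apply, Matrix.zero_apply, mu_zero_apply] at h0'
  have ht' := congrFun (congrFun ht i) j
  simp only [Matrix.smul_apply, smul_eq_mul, Matrix.zero_apply] at ht'
  simp only [RingHom.mapMatrix_apply, Matrix.map_apply, Matrix.zero_apply]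
  refine mu_apply_eq_zero t _ ?_ ht'
  have := congrArg (fun q => q.coeff 0) h0'
  simpa using this

end patch

section localstep
variable {K K' : Type u} [CommRing K] [CommRing K'] [Algebra K K'] (S : Submonoid K)
  [IsLocalization S K']

theorem local_step (n : ℕ) (p : Matrix (Fin n) (Fin n) K[X]) (hp : p * p = p)
    (h : Eqv ((mapRingHom (algebraMap K K')).mapMatrix p)
      ((mapRingHom (algebraMap K K')).mapMatrix ((C.comp (evalRingHom 0)).mapMatrix p))) :
    ∃ a ∈ S, Eqv ((C : K[X] →+* K[X][X]).mapMatrix p) ((sig a).mapMatrix p) := by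
  obtain ⟨φ, hφ⟩ : ∃ φ : K →+* K', φ = algebraMap K K' := ⟨_, rfl⟩
  rw [← hφ] at h
  obtain ⟨p', hp'def⟩ : ∃ p', p' = (mapRingHom φ).mapMatrix p := ⟨_, rfl⟩
  have hp' : p' * p' = p' := by rw [hp'def, ← map_mul, hp]
  rw [mm_comp, map_comp_C_eval, ← mm_comp, ← hp'def] at h
  obtain ⟨P, hP⟩ : ∃ P, P = (C : K'[X] →+* K'[X][X]).mapMatrix p' := ⟨_, rfl⟩
  obtain ⟨P', hP'⟩ : ∃ P', P' = (sig (1 : K')).mapMatrix p' := ⟨_, rfl⟩
  have hPid : P * P = P := by rw [hP, ← map_mul, hp']
  have hP'id : P' * P' = P' := by rw [hP', ← map_mul, hp']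
  have hPP' : Eqv P P' := by
    have e1 := h.map (C : K'[X] →+* K'[X][X]).mapMatrix
    have e2 := h.map (sig (1 : K')).mapMatrix
    rw [mm_comp (sig 1) _, ← RingHom.comp_assoc, sig_comp_C, RingHom.comp_assoc, ← mm_comp] at e2
    rw [← hP] at e1
    rw [← hP'] at e2
    exact Eqv.trans hPid hP'id e1 e2.symm
  obtain ⟨x, y, hxy, hyx, hPx, hxP', hP'y, hyP⟩ := hPP'.corner hPid hP'id
  obtain ⟨ρ, hρ⟩ : ∃ ρ : Matrix (Fin n) (Fin n) K'[X][X] →+* Matrix (Fin n) (Fin n) K'[X][X],
    ρ = (mu (0 : K')).mapMatrix := ⟨_, rfl⟩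
  have hρP : ρ P = P := by rw [hρ, hP, mm_comp, mu_comp_C]
  have hρP' : ρ P' = P := by rw [hρ, hP', hP, mm_comp, mu_comp_sig, one_mul, sig_zero]
  have hρρ : ∀ z, ρ (ρ z) = ρ z := by
    intro z; rw [hρ, mm_comp, mu_comp_mu, mul_zero]
  have hx₀y₀ : ρ x * ρ y = P := by rw [← map_mul, hxy, hρP]
  have hy₀x₀ : ρ y * ρ x = P := by rw [← map_mul, hyx, hρP']
  have hPx₀ : P * ρ x = ρ x := by
    conv_lhs => rw [← hρP]
    rw [← map_mul, hPx]
  have hy₀P : ρ y * P = ρ y := by
    conv_lhs => rw [← hρP]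
    rw [← map_mul, hyP]
  obtain ⟨x', hx'⟩ : ∃ x', x' = ρ y * x := ⟨_, rfl⟩
  obtain ⟨y', hy'⟩ : ∃ y', y' = y * ρ x := ⟨_, rfl⟩
  have hx'y' : x' * y' = P := by
    calc x' * y' = ρ y * (x * y) * ρ x := by rw [hx', hy']; simp only [mul_assoc]
      _ = P := by rw [hxy, mul_assoc, hPx₀, hy₀x₀]
  have hy'x' : y' * x' = P' := by
    calc y' * x' = y * (ρ x * ρ y) * x := by rw [hx', hy']; simp only [mul_assoc]
      _ = P' := by rw [hx₀y₀, hyP, hyx]
  have hρx' : ρ x' = P := by rw [hx', map_mul, hρρ, hy₀x₀]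
  have hρy' : ρ y' = P := by rw [hy', map_mul, hρρ, hy₀x₀]
  -- decompose
  have hx1 : x' = P + (X : K'[X][X]) • (x' - P).map divX := by
    have := eq_X_smul_of_mu_zero (x' - P) (by rw [← hρ, map_sub, hρx', hρP, sub_self])
    rw [← this]; abel
  have hy1 : y' = P + (X : K'[X][X]) • (y' - P).map divX := by
    have := eq_X_smul_of_mu_zero (y' - P) (by rw [← hρ, map_sub, hρy', hρP, sub_self])
    rw [← this]; abel
  obtain ⟨s, hs, X₁, Y₁, hX₁, hY₁⟩ := poly2_clear S ((x' - P).map divX) ((y' - P).map divX)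
  rw [← hφ] at hX₁ hY₁
  obtain ⟨Λ, hΛ⟩ : ∃ Λ : K[X][X] →+* K'[X][X], Λ = mapRingHom (mapRingHom φ) := ⟨_, rfl⟩
  have hX₁' : Λ.mapMatrix X₁ = (C (C (φ s)) : K'[X][X]) • (x' - P).map divX := by
    rw [hΛ]; exact hX₁
  have hY₁' : Λ.mapMatrix Y₁ = (C (C (φ s)) : K'[X][X]) • (y' - P).map divX := by
    rw [hΛ]; exact hY₁
  obtain ⟨Φ, hΦ⟩ : ∃ Φ, Φ = (C : K[X] →+* K[X][X]).mapMatrix p +
    (X : K[X][X]) • (mu s).mapMatrix X₁ := ⟨_, rfl⟩
  obtain ⟨Φ', hΦ'⟩ : ∃ Φ', Φ' = (C : K[X] →+* K[X][X]).mapMatrix p +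
    (X : K[X][X]) • (mu s).mapMatrix Y₁ := ⟨_, rfl⟩
  have hΛC : Λ.mapMatrix ((C : K[X] →+* K[X][X]).mapMatrix p) = P := by
    rw [hΛ, mm_comp, map_comp_C2, ← mm_comp, ← hp'def, hP]
  have hΛX : Λ (X : K[X][X]) = X := by rw [hΛ]; simp
  have hmuP : (mu (φ s)).mapMatrix P = P := by rw [hP, mm_comp, mu_comp_C]
  have hΛΦ : Λ.mapMatrix Φ = (mu (φ s)).mapMatrix x' := by
    conv_rhs => rw [hx1]
    rw [hΦ, map_add, map_add, hΛC, hmuP, mm_smul, mm_smul, hΛX, mu_X, mm_comp, hΛ, map_comp_mu,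
      ← mm_comp, ← hΛ, hX₁', mm_smul, mu_C, smul_smul, mul_comm X]
  have hΛΦ' : Λ.mapMatrix Φ' = (mu (φ s)).mapMatrix y' := by
    conv_rhs => rw [hy1]
    rw [hΦ', map_add, map_add, hΛC, hmuP, mm_smul, mm_smul, hΛX, mu_X, mm_comp, hΛ, map_comp_mu,
      ← mm_comp, ← hΛ, hY₁', mm_smul, mu_C, smul_smul, mul_comm X]
  have hΛsig : Λ.mapMatrix ((sig s).mapMatrix p) = (mu (φ s)).mapMatrix P' := by
    rw [hΛ, mm_comp, map_comp_sig, ← mm_comp, ← hp'def, hP', mm_comp, mu_comp_sig, one_mul]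
  have hD₁ : Λ.mapMatrix (Φ * Φ' - (C : K[X] →+* K[X][X]).mapMatrix p) = 0 := by
    rw [map_sub, map_mul, hΛΦ, hΛΦ', ← map_mul, hx'y', hΛC, hmuP, sub_self]
  have hD₂ : Λ.mapMatrix (Φ' * Φ - (sig s).mapMatrix p) = 0 := by
    rw [map_sub, map_mul, hΛΦ, hΛΦ', ← map_mul, hy'x', hΛsig, sub_self]
  obtain ⟨t, ht, ht₁, ht₂⟩ := poly2_kill (K' := K') S _ _
    (by rw [← hφ, ← hΛ]; exact hD₁) (by rw [← hφ, ← hΛ]; exact hD₂)
  -- vanishing at Y = 0
  have hρΦ : (mu (0 : K)).mapMatrix Φ = (C : K[X] →+* K[X][X]).mapMatrix p := by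
    rw [hΦ, map_add, mm_smul, mu_X, mm_comp, mu_comp_C]
    simp
  have hρΦ' : (mu (0 : K)).mapMatrix Φ' = (C : K[X] →+* K[X][X]).mapMatrix p := by
    rw [hΦ', map_add, mm_smul, mu_X, mm_comp, mu_comp_C]
    simp
  have hCp : (C : K[X] →+* K[X][X]).mapMatrix p * (C : K[X] →+* K[X][X]).mapMatrix p =
      (C : K[X] →+* K[X][X]).mapMatrix p := by rw [← map_mul, hp]
  have h0D₁ : (mu (0 : K)).mapMatrix (Φ * Φ' - (C : K[X] →+* K[X][X]).mapMatrix p) = 0 := by
    rw [map_sub, map_mul, hρΦ, hρΦ', hCp, mm_comp, mu_comp_C, sub_self]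
  have h0D₂ : (mu (0 : K)).mapMatrix (Φ' * Φ - (sig s).mapMatrix p) = 0 := by
    rw [map_sub, map_mul, hρΦ, hρΦ', hCp, mm_comp, mu_comp_sig, mul_zero, sig_zero, sub_self]
  have hk₁ := mu_mapMatrix_eq_zero t _ h0D₁ ht₁
  have hk₂ := mu_mapMatrix_eq_zero t _ h0D₂ ht₂
  rw [map_sub, map_mul, sub_eq_zero, mm_comp, mu_comp_C] at hk₁
  rw [map_sub, map_mul, sub_eq_zero, mm_comp, mu_comp_sig] at hk₂
  exact ⟨s * t, S.mul_mem hs ht, (mu t).mapMatrix Φ, (mu t).mapMatrix Φ', hk₁, hk₂⟩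

end localstep

section main
variable {A : Type u} [CommRing A]

/-- **Quillen patching**, for idempotent matrices. -/
theorem quillen_patching (n : ℕ) (p : Matrix (Fin n) (Fin n) A[X]) (hp : p * p = p)
    (hloc : ∀ (m : Ideal A) [m.IsMaximal],
      Eqv ((mapRingHom (algebraMap A (Localization.AtPrime m))).mapMatrix p)
        ((mapRingHom (algebraMap A (Localization.AtPrime m))).mapMatrix
          ((C.comp (evalRingHom 0)).mapMatrix p))) :
    Eqv p ((C.comp (evalRingHom 0)).mapMatrix p) := by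
  have hCp : (C : A[X] →+* A[X][X]).mapMatrix p * (C : A[X] →+* A[X][X]).mapMatrix p =
      (C : A[X] →+* A[X][X]).mapMatrix p := by rw [← map_mul, hp]
  have hsp : ∀ a : A, (sig a).mapMatrix p * (sig a).mapMatrix p = (sig a).mapMatrix p := by
    intro a; rw [← map_mul, hp]
  let Q : Ideal A :=
    { carrier := {a | Eqv ((C : A[X] →+* A[X][X]).mapMatrix p) ((sig a).mapMatrix p)}
      zero_mem' := by
        show Eqv _ _
        rw [sig_zero]
        exact Eqv.rfl' _
      add_mem' := by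
        intro a b ha hb
        have ha' : Eqv _ _ := ha
        have hb' : Eqv _ _ := hb
        show Eqv _ _
        have h1 := ha'.map (tau b).mapMatrix
        rw [mm_comp, mm_comp, tau_comp_C, tau_comp_sig] at h1
        exact Eqv.trans hCp (hsp _) hb' h1
      smul_mem' := by
        intro c a ha
        have ha' : Eqv _ _ := ha
        show Eqv _ _
        have h1 := ha'.map (mu c).mapMatrix
        rw [mm_comp, mm_comp, mu_comp_C, mu_comp_sig] at h1
        rw [smul_eq_mul, mul_comm]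
        exact h1 }
  by_cases hQ : Q = ⊤
  · have h1 : (1 : A) ∈ Q := by rw [hQ]; trivial
    have h1' : Eqv ((C : A[X] →+* A[X][X]).mapMatrix p) ((sig 1).mapMatrix p) := h1
    have h2 := h1'.map (evl (K := A)).mapMatrix
    rw [mm_comp, mm_comp, evl_comp_C, evl_comp_sig_one] at h2
    have h3 : (RingHom.id A[X]).mapMatrix p = p := by
      ext i j; simp
    rw [h3] at h2
    exact h2.symm
  · obtain ⟨m, hm, hQm⟩ := Ideal.exists_le_maximal Q hQ
    obtain ⟨a, ha, haQ⟩ := local_step (K' := Localization.AtPrime m) m.primeCompl n p hp (hloc m)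
    exact absurd (hQm haQ) ha

end main

end Groth.Agent.Lib.Helper11.Horrocks
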