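import Mathlib

/-!
# Helper11 Horrocks A: Hermite normal form for full lattices over `k[X]`

`exists_hnf`: a submodule `L` of `k[X]^r` containing `h • k[X]^r` for a monic `h` has a basis `g j`
with monic diagonal entries of degrees `δ j`, off-diagonal entries of row `i` of degree `< δ i`, and every
vector is congruent modulo `L` to a vector whose `i`-th entry has degree `< δ i`.
-/

set_option autoImplicit false
universe u

namespace Groth.Agent.Lib.Helper11.Horrocks

open Polynomial

section hnf
variable {k : Type u} [Field k]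

/-- append a zero last coordinate -/
noncomputable def snocLin (r : ℕ) : (Fin r → k[X]) →ₗ[k[X]] (Fin (r + 1) → k[X]) where
  toFun w := Fin.snoc (α := fun _ => k[X]) w 0
  map_add' w w' := by
    funext i
    refine Fin.lastCases ?_ (fun i => ?_) i <;> simp
  map_smul' c w := by
    funext i
    refine Fin.lastCases ?_ (fun i => ?_) i <;> simp

@[simp] theorem snocLin_last (r : ℕ) (w : Fin r → k[X]) : snocLin r w (Fin.last r) = 0 := by
  simp [snocLin]

@[simp] theorem snocLin_castSucc (r : ℕ) (w : Fin r → k[X]) (i : Fin r) :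
    snocLin r w i.castSucc = w i := by
  simp [snocLin]

theorem eq_snocLin_of_last_eq_zero (r : ℕ) (v : Fin (r + 1) → k[X]) (hv : v (Fin.last r) = 0) :
    v = snocLin r (Fin.init v) := by
  funext i
  refine Fin.lastCases ?_ (fun i => ?_) i
  · rw [hv, snocLin_last]
  · rw [snocLin_castSucc]
    rfl

/-- The Hermite normal form property. -/
def IsHNF {r : ℕ} (L : Submodule k[X] (Fin r → k[X])) (δ : Fin r → ℕ)
    (g : Fin r → (Fin r → k[X])) : Prop :=
  (∀ j, g j ∈ L) ∧ Submodule.span k[X] (Set.range g) = L ∧
    (∀ j, (g j j).Monic ∧ (g j j).natDegree = δ j) ∧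
    (∀ i j, i ≠ j → (g j i).degree < δ i) ∧
    (∀ v : Fin r → k[X], ∃ s : Fin r → k[X], (∀ i, (s i).degree < δ i) ∧ v - s ∈ L)

theorem exists_hnf : ∀ (r : ℕ) (L : Submodule k[X] (Fin r → k[X])) (h : k[X]), h.Monic →
    (∀ v : Fin r → k[X], h • v ∈ L) → ∃ δ g, IsHNF L δ g := by
  intro r
  induction r with
  | zero =>
    intro L h _ _
    refine ⟨fun i => i.elim0, fun i => i.elim0, fun j => j.elim0, ?_, fun j => j.elim0,
      fun i => i.elim0, fun v => ⟨v, fun i => i.elim0, ?_⟩⟩
    · apply le_antisymm
      · rw [Submodule.span_le]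
        rintro _ ⟨j, _⟩
        exact j.elim0
      · intro x _
        have : x = 0 := Subsingleton.elim _ _
        rw [this]
        exact Submodule.zero_mem _
    · rw [sub_self]
      exact L.zero_mem
  | succ r ih =>
    intro L h hh hL
    -- the sublattice with zero last coordinate
    let L' : Submodule k[X] (Fin r → k[X]) := L.comap (snocLin r)
    have hL' : ∀ w, h • w ∈ L' := by
      intro w
      show snocLin r (h • w) ∈ L
      rw [map_smul]
      exact hL _
    obtain ⟨δ', g', hmem', hspan', hmon', hlt', hred'⟩ := ih L' h hh hL'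
    -- the ideal of last coordinates
    let J : Ideal k[X] := L.map (LinearMap.proj (Fin.last r))
    have hhJ : h ∈ J := by
      refine ⟨h • Pi.single (Fin.last r) 1, hL _, ?_⟩
      simp
    let d₀ : k[X] := Submodule.IsPrincipal.generator J
    have hJ₀ : Ideal.span {d₀} = J := Ideal.span_singleton_generator J
    have hd₀ : d₀ ≠ 0 := by
      intro h0
      have : J = ⊥ := by rw [← hJ₀, h0]; simp
      rw [this] at hhJ
      exact hh.ne_zero ((Submodule.mem_bot _).1 hhJ)
    let d : k[X] := d₀ * C d₀.leadingCoeff⁻¹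
    have hdmon : d.Monic := Polynomial.monic_mul_leadingCoeff_inv hd₀
    have hJ : Ideal.span {d} = J := by
      rw [← hJ₀]
      refine Ideal.span_singleton_mul_right_unit ?_ d₀
      exact Polynomial.isUnit_C.2 (IsUnit.mk0 _ (inv_ne_zero (leadingCoeff_ne_zero.2 hd₀)))
    have hdJ : d ∈ J := by rw [← hJ]; exact Ideal.subset_span rfl
    obtain ⟨v₀, hv₀L, hv₀d⟩ := hdJ
    have hv₀d' : v₀ (Fin.last r) = d := hv₀d
    obtain ⟨s₀, hs₀, hs₀L⟩ := hred' (Fin.init v₀)
    let gl : Fin (r + 1) → k[X] := Fin.snoc (α := fun _ => k[X]) s₀ d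
    have hgl_last : gl (Fin.last r) = d := by simp [gl]
    have hgl_cast : ∀ i : Fin r, gl i.castSucc = s₀ i := by intro i; simp [gl]
    have hglL : gl ∈ L := by
      have : gl = v₀ - snocLin r (Fin.init v₀ - s₀) := by
        funext i
        refine Fin.lastCases ?_ (fun i => ?_) i
        · rw [hgl_last, Pi.sub_apply, snocLin_last, hv₀d', sub_zero]
        · rw [hgl_cast, Pi.sub_apply, snocLin_castSucc, Pi.sub_apply]
          show s₀ i = v₀ i.castSucc - (v₀ i.castSucc - s₀ i)
          ring
      rw [this]
      exact L.sub_mem hv₀L hs₀L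
    let δ : Fin (r + 1) → ℕ := Fin.snoc (α := fun _ => ℕ) δ' d.natDegree
    let g : Fin (r + 1) → (Fin (r + 1) → k[X]) :=
      Fin.snoc (α := fun _ => (Fin (r + 1) → k[X])) (fun j => snocLin r (g' j)) gl
    have hδ_last : δ (Fin.last r) = d.natDegree := by simp [δ]
    have hδ_cast : ∀ i : Fin r, δ i.castSucc = δ' i := by intro i; simp [δ]
    have hg_last : g (Fin.last r) = gl := by simp [g]
    have hg_cast : ∀ j : Fin r, g j.castSucc = snocLin r (g' j) := by intro j; simp [g]
    have hgmem : ∀ j, g j ∈ L := by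
      intro j
      refine Fin.lastCases ?_ (fun j => ?_) j
      · rw [hg_last]; exact hglL
      · rw [hg_cast]; exact hmem' j
    -- reduction of the last coordinate
    have hlastred : ∀ w ∈ L, ∃ q : k[X], (w - q • gl) (Fin.last r) = 0 := by
      intro w hw
      have : w (Fin.last r) ∈ J := ⟨w, hw, rfl⟩
      rw [← hJ, Ideal.mem_span_singleton] at this
      obtain ⟨q, hq⟩ := this
      refine ⟨q, ?_⟩
      rw [Pi.sub_apply, Pi.smul_apply, hgl_last, hq, smul_eq_mul]
      ring
    refine ⟨δ, g, hgmem, ?_, ?_, ?_, ?_⟩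
    · -- span
      apply le_antisymm
      · rw [Submodule.span_le]
        rintro _ ⟨j, rfl⟩
        exact hgmem j
      · intro w hw
        obtain ⟨q, hq⟩ := hlastred w hw
        have hw' : w - q • gl ∈ L := L.sub_mem hw (L.smul_mem q hglL)
        have h1 : w - q • gl = snocLin r (Fin.init (w - q • gl)) :=
          eq_snocLin_of_last_eq_zero r _ hq
        have h2 : Fin.init (w - q • gl) ∈ L' := by
          show snocLin r (Fin.init (w - q • gl)) ∈ L
          rw [← h1]; exact hw'
        rw [← hspan'] at h2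
        have h3 : snocLin r (Fin.init (w - q • gl)) ∈ Submodule.span k[X] (Set.range g) := by
          have := Submodule.mem_map_of_mem (f := snocLin r) h2
          rw [Submodule.map_span] at this
          refine Submodule.span_mono ?_ this
          rintro _ ⟨_, ⟨j, rfl⟩, rfl⟩
          exact ⟨j.castSucc, hg_cast j⟩
        have h4 : w = (w - q • gl) + q • gl := by abel
        rw [h4, h1]
        refine Submodule.add_mem _ h3 (Submodule.smul_mem _ q (Submodule.subset_span ?_))
        exact ⟨Fin.last r, hg_last⟩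
    · -- monic diagonal
      intro j
      refine Fin.lastCases ?_ (fun j => ?_) j
      · rw [hg_last, hgl_last, hδ_last]
        exact ⟨hdmon, rfl⟩
      · rw [hg_cast, snocLin_castSucc, hδ_cast]
        exact hmon' j
    · -- off-diagonal degrees
      intro i j
      refine Fin.lastCases ?_ (fun j => ?_) j
      · refine Fin.lastCases ?_ (fun i => ?_) i
        · intro hij; exact absurd rfl hij
        · intro _
          rw [hg_last, hgl_cast, hδ_cast]
          exact hs₀ i
      · refine Fin.lastCases ?_ (fun i => ?_) i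
        · intro _
          rw [hg_cast, snocLin_last, degree_zero]
          exact WithBot.bot_lt_coe _
        · intro hij
          rw [hg_cast, snocLin_castSucc, hδ_cast]
          exact hlt' i j (fun h => hij (by rw [h]))
    · -- reduction
      intro v
      let q := v (Fin.last r) /ₘ d
      let ρ := v (Fin.last r) %ₘ d
      have hρ : ρ.degree < d.natDegree := by
        have := degree_modByMonic_lt (v (Fin.last r)) hdmon
        rwa [degree_eq_natDegree hdmon.ne_zero] at this
      have hqρ : ρ + d * q = v (Fin.last r) := modByMonic_add_div (v (Fin.last r)) d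
      let w := v - q • gl
      obtain ⟨s', hs', hs'L⟩ := hred' (Fin.init w)
      refine ⟨Fin.snoc (α := fun _ => k[X]) s' ρ, ?_, ?_⟩
      · intro i
        refine Fin.lastCases ?_ (fun i => ?_) i
        · rw [Fin.snoc_last, hδ_last]; exact hρ
        · rw [Fin.snoc_castSucc, hδ_cast]; exact hs' i
      · have h1 : v - Fin.snoc (α := fun _ => k[X]) s' ρ =
            q • gl + snocLin r (Fin.init w - s') := by
          funext i
          refine Fin.lastCases ?_ (fun i => ?_) i
          · rw [Pi.sub_apply, Fin.snoc_last, Pi.add_apply, Pi.smul_apply, hgl_last, snocLin_last,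
              smul_eq_mul, ← hqρ]
            ring
          · rw [Pi.sub_apply, Fin.snoc_castSucc, Pi.add_apply, Pi.smul_apply, snocLin_castSucc,
              Pi.sub_apply]
            show v i.castSucc - s' i = q • gl i.castSucc + ((v - q • gl) i.castSucc - s' i)
            rw [Pi.sub_apply, Pi.smul_apply]
            ring
        rw [h1]
        exact L.add_mem (L.smul_mem q hglL) hs'L

/-- In a lattice with a Hermite normal form, a vector with all entries of degree `< δ i` is zero. -/
theorem IsHNF.eq_zero_of_degree_lt {r : ℕ} {L : Submodule k[X] (Fin r → k[X])} {δ : Fin r → ℕ}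
    {g : Fin r → (Fin r → k[X])} (H : IsHNF L δ g) (x : Fin r → k[X]) (hx : x ∈ L)
    (hdeg : ∀ i, (x i).degree < δ i) : x = 0 := by
  obtain ⟨_, hspan, hmon, hlt, _⟩ := H
  rw [← hspan] at hx
  obtain ⟨q, rfl⟩ := (Submodule.mem_span_range_iff_exists_fun _).1 hx
  classical
  by_contra hne
  have hq : ∃ j, q j ≠ 0 := by
    by_contra h
    push Not at h
    apply hne
    simp [h]
  obtain ⟨j₀, hj₀mem, hj₀max⟩ := Finset.exists_max_image (Finset.univ.filter fun j => q j ≠ 0)
    (fun j => (q j).natDegree) (by obtain ⟨j, hj⟩ := hq; exact ⟨j, by simp [hj]⟩)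
  have hj₀ : q j₀ ≠ 0 := (Finset.mem_filter.1 hj₀mem).2
  have hcoord : (∑ j, q j • g j) j₀ =
      q j₀ * g j₀ j₀ + ∑ j ∈ Finset.univ.erase j₀, q j * g j j₀ := by
    rw [Finset.sum_apply, ← Finset.add_sum_erase _ _ (Finset.mem_univ j₀)]
    simp
  have hmain : (q j₀ * g j₀ j₀).degree = ((q j₀).natDegree + δ j₀ : ℕ) := by
    rw [degree_mul, degree_eq_natDegree hj₀, degree_eq_natDegree (hmon j₀).1.ne_zero, (hmon j₀).2]
    rfl
  have hrest : (∑ j ∈ Finset.univ.erase j₀, q j * g j j₀).degree <
      ((q j₀).natDegree + δ j₀ : ℕ) := by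
    rw [← mem_degreeLT (R := k)]
    refine Submodule.sum_mem _ fun j hj => ?_
    rw [mem_degreeLT]
    by_cases hqj : q j = 0
    · rw [hqj, zero_mul, degree_zero]
      exact WithBot.bot_lt_coe _
    · have h1 : (q j).degree ≤ ((q j₀).natDegree : ℕ) := by
        refine degree_le_of_natDegree_le ?_
        exact hj₀max j (Finset.mem_filter.2 ⟨Finset.mem_univ _, hqj⟩)
      have h2 : (g j j₀).degree < (δ j₀ : ℕ) := hlt j₀ j (Finset.ne_of_mem_erase hj).symm
      have h3 : (q j).degree ≠ ⊥ := by
        rw [Ne, degree_eq_bot]; exact hqj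
      calc (q j * g j j₀).degree ≤ (q j).degree + (g j j₀).degree := degree_mul_le _ _
        _ < ((q j₀).natDegree : ℕ) + (δ j₀ : ℕ) := WithBot.add_lt_add_of_le_of_lt h3 h1 h2
        _ = ((q j₀).natDegree + δ j₀ : ℕ) := by rw [Nat.cast_add]
  have hdeg₀ := hdeg j₀
  rw [hcoord, degree_add_eq_left_of_degree_lt (by rw [hmain]; exact hrest), hmain] at hdeg₀
  have := Nat.cast_lt.1 hdeg₀
  omega

/-- Uniqueness of the Hermite normal form vectors: a vector of the lattice of the same shape as
`g j` equals `g j`. -/
theorem IsHNF.eq_of_shape {r : ℕ} {L : Submodule k[X] (Fin r → k[X])} {δ : Fin r → ℕ}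
    {g : Fin r → (Fin r → k[X])} (H : IsHNF L δ g) (j : Fin r) (y : Fin r → k[X]) (hy : y ∈ L)
    (hyj : (y j).Monic ∧ (y j).natDegree = δ j) (hyi : ∀ i, i ≠ j → (y i).degree < δ i) :
    y = g j := by
  have h0 : y - g j = 0 := by
    refine H.eq_zero_of_degree_lt _ (L.sub_mem hy (H.1 j)) fun i => ?_
    rw [Pi.sub_apply]
    by_cases hij : i = j
    · subst hij
      have hm := (H.2.2.1 i)
      have h1 : (y i).degree = (g i i).degree := by
        rw [degree_eq_natDegree hyj.1.ne_zero, degree_eq_natDegree hm.1.ne_zero, hyj.2, hm.2]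
      have := degree_sub_lt_left h1 hyj.1.ne_zero (by rw [hyj.1.leadingCoeff, hm.1.leadingCoeff])
      rwa [degree_eq_natDegree hyj.1.ne_zero, hyj.2] at this
    · exact lt_of_le_of_lt (degree_sub_le _ _) (max_lt (hyi i hij) (H.2.2.2.1 i j hij))
  exact sub_eq_zero.1 h0

end hnf

end Groth.Agent.Lib.Helper11.Horrocks
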