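import Mathlib
import Groth.Agent.Lib.Helper11HorrA

/-!
# Helper11 Horrocks B: helper lemmas for the lattice lemma
-/

set_option autoImplicit false
universe u v

namespace Groth.Agent.Lib.Helper11.Horrocks

open Polynomial

section helpers
variable {R : Type u} [CommRing R]

theorem eq_sum_monomial_of_degree_lt (ρ : R[X]) (d : ℕ) (hρ : ρ.degree < d) :
    ρ = ∑ a ∈ Finset.range d, monomial a (ρ.coeff a) := by
  ext n
  rw [finsetSum_coeff]
  simp only [coeff_monomial]
  rw [Finset.sum_ite_eq']
  split_ifs with hn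
  · rfl
  · rw [Finset.mem_range, not_lt] at hn
    exact coeff_eq_zero_of_degree_lt (lt_of_lt_of_le hρ (by exact_mod_cast hn))

/-- A finitely generated `R[X]`-submodule killed by a monic polynomial is finitely generated
over `R`. -/
theorem fg_restrictScalars_of_monic {W : Type v} [AddCommGroup W] [Module R[X] W] [Module R W]
    [IsScalarTower R R[X] W] (N : Submodule R[X] W) (hN : N.FG) (h : R[X]) (hh : h.Monic)
    (hkill : ∀ x ∈ N, h • x = 0) : (N.restrictScalars R).FG := by
  classical
  obtain ⟨t, ht⟩ := hN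
  refine ⟨(Finset.range h.natDegree ×ˢ t).image (fun ay => (X ^ ay.1 : R[X]) • ay.2), ?_⟩
  apply le_antisymm
  · rw [Submodule.span_le]
    intro x hx
    rw [Finset.coe_image] at hx
    obtain ⟨⟨a, y⟩, hay, rfl⟩ := hx
    have hy : y ∈ t := (Finset.mem_product.1 hay).2
    show (X ^ a : R[X]) • y ∈ N
    refine N.smul_mem _ ?_
    rw [← ht]
    exact Submodule.subset_span hy
  · intro x hx
    have hx' : x ∈ N := hx
    rw [← ht] at hx'
    obtain ⟨c, hc, rfl⟩ := (Submodule.mem_span_finset (s := t)).1 hx'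
    refine Submodule.sum_mem _ fun y hy => ?_
    have hyN : y ∈ N := by rw [← ht]; exact Submodule.subset_span hy
    have h1 : c y • y = (c y %ₘ h) • y := by
      conv_lhs => rw [← modByMonic_add_div (c y) h]
      rw [add_smul, mul_comm, mul_smul, hkill y hyN, smul_zero, add_zero]
    have hdeg : (c y %ₘ h).degree < (h.natDegree : ℕ) := by
      rcases subsingleton_or_nontrivial R with hs | hs
      · have : c y %ₘ h = 0 := Subsingleton.elim _ _
        rw [this, degree_zero]; exact WithBot.bot_lt_coe _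
      · have := degree_modByMonic_lt (c y) hh
        rwa [degree_eq_natDegree hh.ne_zero] at this
    rw [h1, eq_sum_monomial_of_degree_lt _ _ hdeg, Finset.sum_smul]
    refine Submodule.sum_mem _ fun a ha => ?_
    rw [← smul_X_eq_monomial, smul_assoc]
    refine Submodule.smul_mem _ _ (Submodule.subset_span ?_)
    rw [Finset.coe_image]
    exact ⟨(a, y), Finset.mem_product.2 ⟨ha, hy⟩, rfl⟩

/-- A vector of polynomials with all coefficients in an ideal is mapped by any `R`-linear map `F`
into `I • N`, as soon as `N` contains the images of all `X ^ a` at all coordinates. -/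
theorem map_mem_smul_of_coeff_mem {r : ℕ} (I : Ideal R) {W : Type v} [AddCommGroup W] [Module R W]
    (F : (Fin r → R[X]) →ₗ[R] W) (N : Submodule R W)
    (hN : ∀ i a, F (Pi.single i (X ^ a : R[X])) ∈ N)
    (x : Fin r → R[X]) (hx : ∀ i a, (x i).coeff a ∈ I) : F x ∈ I • N := by
  classical
  have hdec : x = ∑ i, ∑ a ∈ (x i).support, (x i).coeff a • Pi.single i (X ^ a : R[X]) := by
    funext l
    rw [Finset.sum_apply]
    simp only [Finset.sum_apply, Pi.smul_apply, Pi.single_apply]
    have : ∀ i, (∑ a ∈ (x i).support, (x i).coeff a • (if l = i then (X ^ a : R[X]) else 0)) =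
        if l = i then x i else 0 := by
      intro i
      split_ifs with hli
      · conv_rhs => rw [as_sum_support (x i)]
        refine Finset.sum_congr rfl fun a _ => ?_
        rw [smul_X_eq_monomial]
      · simp
    rw [Finset.sum_congr rfl fun i _ => this i]
    simp
  rw [hdec, map_sum]
  refine Submodule.sum_mem _ fun i _ => ?_
  rw [map_sum]
  refine Submodule.sum_mem _ fun a _ => ?_
  rw [map_smul]
  exact Submodule.smul_mem_smul (hx i a) (hN i a)

end helpers

section det
variable {R : Type u} [CommRing R]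

/-- A square matrix of polynomials whose diagonal entries are monic of degrees `δ i` and whose other
entries in column `i` have degree `< δ i` has monic determinant. -/
theorem det_monic_of_shape {r : ℕ} (g : Fin r → Fin r → R[X]) (δ : Fin r → ℕ)
    (hdiag : ∀ j, (g j j).Monic ∧ (g j j).natDegree = δ j)
    (hoff : ∀ i j, i ≠ j → (g j i).degree < δ i) : (Matrix.of g).det.Monic := by
  classical
  rcases subsingleton_or_nontrivial R with hs | hs
  · exact Subsingleton.elim _ _
  rw [Matrix.det_apply, ← Finset.add_sum_erase _ _ (Finset.mem_univ (1 : Equiv.Perm (Fin r)))]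
  have hmain : (∏ i, g i i).Monic := monic_prod_of_monic _ _ fun i _ => (hdiag i).1
  have hmaindeg : (∏ i, g i i).natDegree = ∑ i, δ i := by
    rw [natDegree_prod_of_monic _ _ fun i _ => (hdiag i).1]
    exact Finset.sum_congr rfl fun i _ => (hdiag i).2
  have h1 : Equiv.Perm.sign (1 : Equiv.Perm (Fin r)) • ∏ i, Matrix.of g ((1 : Equiv.Perm (Fin r)) i) i
      = ∏ i, g i i := by
    simp
  rw [h1]
  refine hmain.add_of_left ?_
  rw [degree_eq_natDegree hmain.ne_zero, hmaindeg, ← mem_degreeLT (R := R)]
  refine Submodule.sum_mem _ fun σ hσ => ?_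
  have hσ1 : σ ≠ 1 := Finset.ne_of_mem_erase hσ
  rw [mem_degreeLT]
  have hprod : (∏ i, g (σ i) i).degree < ((∑ i, δ i : ℕ) : WithBot ℕ) := by
    by_cases h0 : ∏ i, g (σ i) i = 0
    · rw [h0, degree_zero]; exact WithBot.bot_lt_coe _
    · have hne : ∀ i, g (σ i) i ≠ 0 := by
        intro i hi
        exact h0 (Finset.prod_eq_zero (Finset.mem_univ i) hi)
      have hle : ∀ i, (g (σ i) i).natDegree ≤ δ i := by
        intro i
        by_cases hi : σ i = i
        · rw [hi, (hdiag i).2]
        · exact le_of_lt ((natDegree_lt_iff_degree_lt (hne i)).2 (hoff i (σ i) (Ne.symm hi)))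
      obtain ⟨i₀, hi₀⟩ : ∃ i₀, σ i₀ ≠ i₀ := by
        by_contra hall
        push Not at hall
        exact hσ1 (Equiv.ext hall)
      have hlt : (g (σ i₀) i₀).natDegree < δ i₀ :=
        (natDegree_lt_iff_degree_lt (hne i₀)).2 (hoff i₀ (σ i₀) (Ne.symm hi₀))
      rw [degree_eq_natDegree h0]
      refine Nat.cast_lt.2 (lt_of_le_of_lt (natDegree_prod_le _ _) ?_)
      exact Finset.sum_lt_sum (fun i _ => hle i) ⟨i₀, Finset.mem_univ _, hlt⟩
  have hterm : Equiv.Perm.sign σ • ∏ i, Matrix.of g (σ i) i = ∏ i, g (σ i) i ∨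
      Equiv.Perm.sign σ • ∏ i, Matrix.of g (σ i) i = -∏ i, g (σ i) i := by
    rcases Int.units_eq_one_or (Equiv.Perm.sign σ) with h | h
    · left; rw [h]; simp
    · right; rw [h]; simp
  rcases hterm with h | h
  · rw [h]; exact hprod
  · rw [h, degree_neg]; exact hprod

/-- `det • x` lies in the span of the rows. -/
theorem det_smul_mem_span_rows {r : ℕ} (g : Fin r → Fin r → R[X]) (x : Fin r → R[X]) :
    (Matrix.of g).det • x ∈ Submodule.span R[X] (Set.range g) := by
  have h1 : (Matrix.of g).det • x = Matrix.vecMul (Matrix.vecMul x (Matrix.adjugate (Matrix.of g)))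
      (Matrix.of g) := by
    rw [Matrix.vecMul_vecMul, Matrix.adjugate_mul, Matrix.vecMul_smul, Matrix.vecMul_one]
  rw [h1, Matrix.vecMul_eq_sum]
  refine Submodule.sum_mem _ fun j _ => Submodule.smul_mem _ _ (Submodule.subset_span ⟨j, rfl⟩)

end det

section lattice
variable {R : Type u} [CommRing R] [IsLocalRing R]

open IsLocalRing

/-- coefficientwise reduction modulo the maximal ideal -/
noncomputable def red (r : ℕ) (v : Fin r → R[X]) : Fin r → (ResidueField R)[X] :=
  fun i => (v i).map (residue R)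

theorem red_apply (r : ℕ) (v : Fin r → R[X]) (i : Fin r) : red r v i = (v i).map (residue R) := rfl

theorem red_zero (r : ℕ) : red r (0 : Fin r → R[X]) = 0 := by
  funext i; simp [red]

theorem red_add (r : ℕ) (v w : Fin r → R[X]) : red r (v + w) = red r v + red r w := by
  funext i; simp [red]

theorem red_sub (r : ℕ) (v w : Fin r → R[X]) : red r (v - w) = red r v - red r w := by
  funext i; simp [red]

theorem red_smul (r : ℕ) (b : R[X]) (v : Fin r → R[X]) :
    red r (b • v) = b.map (residue R) • red r v := by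
  funext i; simp [red]

theorem red_sum (r : ℕ) {ι : Type*} (s : Finset ι) (f : ι → (Fin r → R[X])) :
    red r (∑ j ∈ s, f j) = ∑ j ∈ s, red r (f j) := by
  classical
  induction s using Finset.induction_on with
  | empty => simp [red_zero]
  | insert a s ha ih => rw [Finset.sum_insert ha, Finset.sum_insert ha, red_add, ih]

theorem red_surjective (r : ℕ) : Function.Surjective (red (R := R) r) := by
  intro v
  have : ∀ i, ∃ q : R[X], q.map (residue R) = v i :=
    fun i => map_surjective _ residue_surjective _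
  choose w hw using this
  exact ⟨w, funext hw⟩

theorem red_eq_zero_iff (r : ℕ) (v : Fin r → R[X]) :
    red r v = 0 ↔ ∀ i a, (v i).coeff a ∈ maximalIdeal R := by
  constructor
  · intro h i a
    have := congrFun h i
    rw [red_apply, Pi.zero_apply] at this
    have h2 := congrArg (fun f => f.coeff a) this
    simp only [coeff_map, coeff_zero] at h2
    exact (residue_eq_zero_iff _).1 h2
  · intro h
    funext i
    rw [red_apply, Pi.zero_apply]
    ext a
    rw [coeff_map, coeff_zero]
    exact (residue_eq_zero_iff _).2 (h i a)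

/-- **The lattice lemma.** -/
theorem lattice_lemma (r : ℕ) (M₁ : Submodule R[X] (Fin r → R[X])) (hfg : M₁.FG) (h : R[X])
    (hh : h.Monic) (hM₁ : ∀ v : Fin r → R[X], h • v ∈ M₁)
    (hpure : ∀ x ∈ M₁, (∀ i a, (x i).coeff a ∈ maximalIdeal R) →
      x ∈ (maximalIdeal R) • (M₁.restrictScalars R)) :
    ∃ g : Fin r → (Fin r → R[X]), (∀ j, g j ∈ M₁) ∧
      M₁ ≤ Submodule.span R[X] (Set.range g) ∧ (Matrix.of g).det.Monic := by
  classical
  -- the reduced lattice
  let Lbar : Submodule (ResidueField R)[X] (Fin r → (ResidueField R)[X]) :=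
    { carrier := {y | ∃ x ∈ M₁, red r x = y}
      add_mem' := by
        rintro _ _ ⟨x, hx, rfl⟩ ⟨y, hy, rfl⟩
        exact ⟨x + y, M₁.add_mem hx hy, red_add _ _ _⟩
      zero_mem' := ⟨0, M₁.zero_mem, red_zero _⟩
      smul_mem' := by
        rintro c _ ⟨x, hx, rfl⟩
        obtain ⟨c', rfl⟩ := map_surjective _ residue_surjective c
        exact ⟨c' • x, M₁.smul_mem _ hx, red_smul _ _ _⟩ }
  have hLbar_mem : ∀ y, y ∈ Lbar ↔ ∃ x ∈ M₁, red r x = y := fun y => Iff.rfl
  have hLbar : ∀ v, (h.map (residue R)) • v ∈ Lbar := by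
    intro v
    obtain ⟨v', rfl⟩ := red_surjective r v
    exact ⟨h • v', hM₁ v', red_smul _ _ _⟩
  obtain ⟨δ, gbar, hHNF⟩ := exists_hnf r Lbar (h.map (residue R)) (hh.map _) hLbar
  -- the staircase
  let S : Submodule R (Fin r → R[X]) := Submodule.pi Set.univ fun i => degreeLT R (δ i)
  have hS : ∀ s, s ∈ S ↔ ∀ i, (s i).degree < δ i := by
    intro s
    simp [S, Submodule.mem_pi, mem_degreeLT]
  -- step 1: everything is in S + M₁
  have hstep1 : ∀ v : Fin r → R[X], ∃ s ∈ S, v - s ∈ M₁ := by
    let mk : (Fin r → R[X]) →ₗ[R] ((Fin r → R[X]) ⧸ M₁) := M₁.mkQ.restrictScalars R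
    have hTfg : (⊤ : Submodule R ((Fin r → R[X]) ⧸ M₁)).FG := by
      have h1 : ((⊤ : Submodule R[X] ((Fin r → R[X]) ⧸ M₁)).restrictScalars R).FG :=
        fg_restrictScalars_of_monic ⊤ Module.Finite.fg_top h hh (fun x _ => by
          obtain ⟨v, rfl⟩ := M₁.mkQ_surjective x
          rw [← map_smul]
          exact (Submodule.Quotient.mk_eq_zero _).2 (hM₁ v))
      rwa [Submodule.restrictScalars_top] at h1
    have hnak : (⊤ : Submodule R ((Fin r → R[X]) ⧸ M₁)) ≤ S.map mk := by
      refine Submodule.le_of_le_smul_of_le_jacobson_bot hTfg (maximalIdeal_le_jacobson _) ?_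
      intro t _
      obtain ⟨v, rfl⟩ := M₁.mkQ_surjective t
      obtain ⟨sbar, hsbar, hsL⟩ := hHNF.2.2.2.2 (red r v)
      have : ∀ i, ∃ q : R[X], q.map (residue R) = sbar i ∧ q.degree = (sbar i).degree :=
        fun i => exists_degree_eq_of_mem_lifts
          ((mem_lifts _).2 (map_surjective _ residue_surjective _))
      choose s hs1 hs2 using this
      obtain ⟨l, hl, hl'⟩ := hsL
      have hsred : red r s = sbar := funext hs1
      have hw : red r (v - s - l) = 0 := by
        rw [red_sub, red_sub, hl', hsred, sub_self]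
      have hwm := (red_eq_zero_iff _ _).1 hw
      have h3 : mk (v - s - l) ∈ (maximalIdeal R) • (⊤ : Submodule R ((Fin r → R[X]) ⧸ M₁)) :=
        map_mem_smul_of_coeff_mem (maximalIdeal R) mk ⊤ (fun _ _ => Submodule.mem_top) _ hwm
      have hl0 : mk l = 0 := (Submodule.Quotient.mk_eq_zero _).2 hl
      have h4 : M₁.mkQ v = mk s + mk (v - s - l) := by
        have : v = s + (v - s - l) + l := by abel
        conv_lhs => rw [this]
        show mk (s + (v - s - l) + l) = _
        rw [map_add, map_add, hl0, add_zero]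
      rw [h4]
      refine Submodule.add_mem_sup (Submodule.mem_map_of_mem ((hS s).2 fun i => ?_)) h3
      rw [hs2]
      exact hsbar i
    intro v
    obtain ⟨s, hs, hsv⟩ := hnak (Submodule.mem_top : mk v ∈ ⊤)
    refine ⟨s, hs, ?_⟩
    exact (Submodule.Quotient.eq _).1 hsv.symm
  -- step 2: the vectors
  have : ∀ j, ∃ c ∈ S, Pi.single j (X ^ δ j : R[X]) - c ∈ M₁ := fun j => hstep1 _
  choose c hcS hcM using this
  let g : Fin r → Fin r → R[X] := fun j => Pi.single j (X ^ δ j : R[X]) - c j
  have hgdiag : ∀ j, (g j j).Monic ∧ (g j j).natDegree = δ j := by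
    intro j
    have hc : (c j j).degree < (X ^ δ j : R[X]).degree := by
      rw [degree_X_pow]
      exact (hS _).1 (hcS j) j
    have hgjj : g j j = X ^ δ j - c j j := by simp [g]
    rw [hgjj]
    refine ⟨(monic_X_pow _).sub_of_left hc, ?_⟩
    have := degree_sub_eq_left_of_degree_lt hc
    rw [degree_X_pow] at this
    exact natDegree_eq_of_degree_eq_some this
  have hgoff : ∀ i j, i ≠ j → (g j i).degree < δ i := by
    intro i j hij
    have hgji : g j i = - c j i := by simp [g, hij]
    rw [hgji, degree_neg]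
    exact (hS _).1 (hcS j) i
  -- step 3: the reductions are the Hermite vectors
  have hred : ∀ j, red r (g j) = gbar j := by
    intro j
    refine hHNF.eq_of_shape j _ ⟨g j, hcM j, rfl⟩ ?_ ?_
    · rw [red_apply]
      exact ⟨(hgdiag j).1.map _, by rw [(hgdiag j).1.natDegree_map, (hgdiag j).2]⟩
    · intro i hij
      rw [red_apply]
      exact lt_of_le_of_lt degree_map_le (hgoff i j hij)
  have hdet := det_monic_of_shape g δ hgdiag hgoff
  refine ⟨g, hcM, ?_, hdet⟩
  -- step 4: generation
  let mk' : (Fin r → R[X]) →ₗ[R] ((Fin r → R[X]) ⧸ Submodule.span R[X] (Set.range g)) :=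
    (Submodule.span R[X] (Set.range g)).mkQ.restrictScalars R
  let N₂ : Submodule R[X] ((Fin r → R[X]) ⧸ Submodule.span R[X] (Set.range g)) :=
    M₁.map (Submodule.span R[X] (Set.range g)).mkQ
  have hN₂fg : (N₂.restrictScalars R).FG :=
    fg_restrictScalars_of_monic N₂ (hfg.map _) _ hdet (by
      rintro _ ⟨x, _, rfl⟩
      rw [← map_smul]
      exact (Submodule.Quotient.mk_eq_zero _).2 (det_smul_mem_span_rows g x))
  have hN₂ : N₂.restrictScalars R = ⊥ := by
    refine Submodule.eq_bot_of_le_smul_of_le_jacobson_bot (maximalIdeal R) _ hN₂fg ?_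
      (maximalIdeal_le_jacobson _)
    rintro _ ⟨x, hx, rfl⟩
    have hxL : red r x ∈ Lbar := ⟨x, hx, rfl⟩
    rw [← hHNF.2.1] at hxL
    obtain ⟨qbar, hq⟩ := (Submodule.mem_span_range_iff_exists_fun _).1 hxL
    have : ∀ j, ∃ q : R[X], q.map (residue R) = qbar j :=
      fun j => map_surjective _ residue_surjective _
    choose q hq' using this
    have hyM : x - ∑ j, q j • g j ∈ M₁ :=
      M₁.sub_mem hx (M₁.sum_mem fun j _ => M₁.smul_mem _ (hcM j))
    have hyred : red r (x - ∑ j, q j • g j) = 0 := by
      rw [red_sub, red_sum, ← hq, sub_eq_zero]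
      refine Finset.sum_congr rfl fun j _ => ?_
      rw [red_smul, hq', hred]
    have hy := hpure _ hyM ((red_eq_zero_iff _ _).1 hyred)
    have hmk : (Submodule.span R[X] (Set.range g)).mkQ x = mk' (x - ∑ j, q j • g j) := by
      show _ = (Submodule.span R[X] (Set.range g)).mkQ (x - ∑ j, q j • g j)
      rw [map_sub, sub_eq_self.2]
      refine (Submodule.Quotient.mk_eq_zero _).2 ?_
      exact Submodule.sum_mem _ fun j _ => Submodule.smul_mem _ _ (Submodule.subset_span ⟨j, rfl⟩)
    rw [hmk]
    have h5 := Submodule.mem_map_of_mem (f := mk') hy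
    rw [Submodule.map_smul''] at h5
    refine Submodule.smul_mono le_rfl ?_ h5
    rintro _ ⟨z, hz, rfl⟩
    exact ⟨z, hz, rfl⟩
  intro x hx
  have hxN : (Submodule.span R[X] (Set.range g)).mkQ x ∈ N₂.restrictScalars R := ⟨x, hx, rfl⟩
  rw [hN₂] at hxN
  exact (Submodule.Quotient.mk_eq_zero _).1 hxN

end lattice

end Groth.Agent.Lib.Helper11.Horrocks
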