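import Mathlib
import Groth.Agent.Lib.Helper11HorrB

/-!
# Helper11 Horrocks C: local Horrocks in matrix form
-/

set_option autoImplicit false
universe u v

namespace Groth.Agent.Lib.Helper11.Horrocks

open Polynomial

section
variable {R : Type u} [CommRing R]

theorem mem_map_C_of_monic_mul {I : Ideal R} {h y : R[X]} (hh : h.Monic)
    (hy : h * y ∈ I.map (C : R →+* R[X])) : y ∈ I.map (C : R →+* R[X]) := by
  have key : ∀ f : R[X], f ∈ I.map (C : R →+* R[X]) ↔ f.map (Ideal.Quotient.mk I) = 0 := by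
    intro f
    rw [Ideal.mem_map_C_iff]
    constructor
    · intro hf
      ext a
      rw [coeff_map, coeff_zero]
      exact Ideal.Quotient.eq_zero_iff_mem.2 (hf a)
    · intro hf a
      have := congrArg (fun q => q.coeff a) hf
      simp only [coeff_map, coeff_zero] at this
      exact Ideal.Quotient.eq_zero_iff_mem.1 this
  rw [key] at hy ⊢
  rw [Polynomial.map_mul] at hy
  have hreg := (hh.map (Ideal.Quotient.mk I)).isRegular.left
  exact hreg (by show _ * _ = _ * _; rw [hy, mul_zero])

theorem matrix_smul_left_cancel {q : R[X]} (hq : q.Monic) {a b : Type*}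
    (Z₁ Z₂ : Matrix a b R[X]) (hZ : q • Z₁ = q • Z₂) : Z₁ = Z₂ := by
  refine Matrix.ext fun i j => ?_
  have := congrFun (congrFun hZ i) j
  simp only [Matrix.smul_apply, smul_eq_mul] at this
  exact hq.isRegular.left this

end

section
variable {R : Type u} [CommRing R] [IsLocalRing R]
open IsLocalRing

/-- **Local Horrocks, matrix form.** -/
theorem local_horrocks_matrix (n r : ℕ)
    (p : Matrix (Fin n) (Fin n) R[X]) (hp : p * p = p)
    (I : Matrix (Fin r) (Fin n) R[X]) (Ψ : Matrix (Fin n) (Fin r) R[X]) (h : R[X]) (hh : h.Monic)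
    (h1 : Ψ * I = h • p) (h2 : I * Ψ = h • (1 : Matrix (Fin r) (Fin r) R[X])) :
    ∃ (u : Matrix (Fin n) (Fin r) R[X]) (v : Matrix (Fin r) (Fin n) R[X]),
      u * v = p ∧ v * u = 1 := by
  classical
  have hpΨ : p * Ψ = Ψ := by
    apply matrix_smul_left_cancel hh
    rw [← Matrix.smul_mul, ← h1, Matrix.mul_assoc, h2, Matrix.mul_smul, Matrix.mul_one]
  obtain ⟨I', hI'⟩ : ∃ I', I' = I * p := ⟨_, rfl⟩
  have h1' : Ψ * I' = h • p := by rw [hI', ← Matrix.mul_assoc, h1, Matrix.smul_mul, hp]
  have h2' : I' * Ψ = h • (1 : Matrix (Fin r) (Fin r) R[X]) := by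
    rw [hI', Matrix.mul_assoc, hpΨ, h2]
  have hI'p : I' * p = I' := by rw [hI', Matrix.mul_assoc, hp]
  let M₁ : Submodule R[X] (Fin r → R[X]) := LinearMap.range (Matrix.mulVecLin I')
  have hfg : M₁.FG := by
    show (LinearMap.range (Matrix.mulVecLin I')).FG
    rw [LinearMap.range_eq_map]
    exact Module.Finite.fg_top.map _
  have hM₁ : ∀ v : Fin r → R[X], h • v ∈ M₁ := by
    intro v
    refine ⟨Ψ.mulVec v, ?_⟩
    rw [Matrix.mulVecLin_apply, Matrix.mulVec_mulVec, h2', Matrix.smul_mulVec, Matrix.one_mulVec]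
  have hpure : ∀ x ∈ M₁, (∀ i a, (x i).coeff a ∈ maximalIdeal R) →
      x ∈ (maximalIdeal R) • (M₁.restrictScalars R) := by
    rintro x ⟨w, rfl⟩ hx
    rw [Matrix.mulVecLin_apply] at hx ⊢
    have hJ : ∀ i, (Ψ.mulVec (I'.mulVec w)) i ∈ (maximalIdeal R).map (C : R →+* R[X]) := by
      intro i
      rw [Matrix.mulVec, dotProduct]
      exact Ideal.sum_mem _ fun j _ => Ideal.mul_mem_left _ _ (Ideal.mem_map_C_iff.2 (hx j))
    have hy : ∀ i a, ((p.mulVec w) i).coeff a ∈ maximalIdeal R := by
      intro i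
      refine Ideal.mem_map_C_iff.1 (mem_map_C_of_monic_mul hh ?_)
      have := hJ i
      rw [Matrix.mulVec_mulVec, h1', Matrix.smul_mulVec] at this
      simpa using this
    have hxy : I'.mulVec w = ((Matrix.mulVecLin I').restrictScalars R) (p.mulVec w) := by
      show _ = I'.mulVec (p.mulVec w)
      rw [Matrix.mulVec_mulVec, hI'p]
    rw [hxy]
    refine map_mem_smul_of_coeff_mem _ _ _ (fun i a => ?_) _ hy
    exact ⟨Pi.single i (X ^ a), rfl⟩
  obtain ⟨g, hgM, hspan, hdet⟩ := lattice_lemma r M₁ hfg h hh hM₁ hpure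
  choose w hw using hgM
  let W : Matrix (Fin n) (Fin r) R[X] := Matrix.of fun l j => w j l
  let G : Matrix (Fin r) (Fin r) R[X] := (Matrix.of g).transpose
  have hIW : I' * W = G := by
    refine Matrix.ext fun i j => ?_
    have := congrFun (hw j) i
    rw [Matrix.mulVecLin_apply] at this
    rw [Matrix.mul_apply]
    simpa [Matrix.mulVec, dotProduct, W, G] using this
  have hcols : ∀ l, ∃ c : Fin r → R[X], ∑ j, c j • g j = I'.mulVec (Pi.single l 1) := fun l =>
    (Submodule.mem_span_range_iff_exists_fun _).1 (hspan ⟨Pi.single l 1, rfl⟩)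
  choose c hc using hcols
  let V : Matrix (Fin r) (Fin n) R[X] := Matrix.of fun j l => c l j
  have hGV : G * V = I' := by
    refine Matrix.ext fun i l => ?_
    have := congrFun (hc l) i
    rw [Matrix.mul_apply]
    simp only [Finset.sum_apply, Pi.smul_apply, smul_eq_mul, Matrix.mulVec_single_one,
      Matrix.col_apply] at this
    rw [← this]
    refine Finset.sum_congr rfl fun j _ => ?_
    simp [G, V, mul_comm]
  obtain ⟨u, hu⟩ : ∃ u, u = p * W := ⟨_, rfl⟩
  have hpu : p * u = u := by rw [hu, ← Matrix.mul_assoc, hp]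
  have hI'u : I' * u = G := by rw [hu, ← Matrix.mul_assoc, hI'p, hIW]
  have huV : u * V = p := by
    apply matrix_smul_left_cancel hh
    calc h • (u * V) = (h • p) * (u * V) := by rw [Matrix.smul_mul, ← Matrix.mul_assoc, hpu]
      _ = Ψ * ((I' * u) * V) := by rw [← h1', Matrix.mul_assoc, Matrix.mul_assoc]
      _ = h • p := by rw [hI'u, hGV, h1']
  have hVu : V * u = 1 := by
    have h3 : G * (V * u) = G * 1 := by rw [← Matrix.mul_assoc, hGV, hI'u, Matrix.mul_one]
    have hdetG : G.det.Monic := by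
      rw [Matrix.det_transpose]; exact hdet
    apply matrix_smul_left_cancel hdetG
    have := congrArg (fun Z => Matrix.adjugate G * Z) h3
    simp only [← Matrix.mul_assoc, Matrix.adjugate_mul] at this
    simpa [Matrix.smul_mul] using this
  exact ⟨u, V, huV, hVu⟩

end

end Groth.Agent.Lib.Helper11.Horrocks
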