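import Mathlib
import Groth.Agent.Lib.Helper11HorrC
import Groth.Agent.Lib.Helper11HorrD

/-!
# Helper11 Horrocks G: clearing denominators and localizing at a maximal ideal
-/

set_option autoImplicit false
universe u

namespace Groth.Agent.Lib.Helper11.Horrocks

open Polynomial LaurentPolynomial

section clear
variable {A : Type u} [CommRing A]

theorem map_algebraMap_laurent_injective {ι κ : Type*} (Z Z' : Matrix ι κ A[X])
    (h : Z.map (algebraMap A[X] A[T;T⁻¹]) = Z'.map (algebraMap A[X] A[T;T⁻¹])) : Z = Z' := by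
  refine Matrix.ext fun i j => ?_
  have := congrFun (congrFun h i) j
  simp only [Matrix.map_apply, algebraMap_eq_toLaurent] at this
  exact toLaurent_injective this

theorem exists_polynomial_matrices {n r : ℕ} (p : Matrix (Fin n) (Fin n) A[X]) (s : A[X])
    (IM : Matrix (Fin r) (Fin n) A[T;T⁻¹]) (ΨM : Matrix (Fin n) (Fin r) A[T;T⁻¹])
    (h1 : ΨM * IM = invert (toLaurent s) • p.map (algebraMap A[X] A[T;T⁻¹]))
    (h2 : IM * ΨM = invert (toLaurent s) • (1 : Matrix (Fin r) (Fin r) A[T;T⁻¹])) :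
    ∃ (I₀ : Matrix (Fin r) (Fin n) A[X]) (Ψ₀ : Matrix (Fin n) (Fin r) A[X]) (j : ℕ),
      Ψ₀ * I₀ = (X ^ j * s.reverse) • p ∧
      I₀ * Ψ₀ = (X ^ j * s.reverse) • (1 : Matrix (Fin r) (Fin r) A[X]) := by
  obtain ⟨t₁, ht₁, W₁, _, hW₁, _⟩ :=
    matrix_clear₂ (Submonoid.powers (X : A[X])) (B := A[T;T⁻¹]) IM IM
  obtain ⟨j₁, rfl⟩ := ht₁
  obtain ⟨t₂, ht₂, W₂, _, hW₂, _⟩ :=
    matrix_clear₂ (Submonoid.powers (X : A[X])) (B := A[T;T⁻¹]) ΨM ΨM
  obtain ⟨j₂, rfl⟩ := ht₂
  have hrev : algebraMap A[X] A[T;T⁻¹] s.reverse =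
      invert (toLaurent s) * algebraMap A[X] A[T;T⁻¹] (X ^ s.natDegree) := by
    rw [algebraMap_eq_toLaurent, algebraMap_eq_toLaurent, toLaurent_reverse, toLaurent_X_pow]
  have hsmulmap : ∀ {ι κ : Type} (c : A[X]) (Z : Matrix ι κ A[X]),
      (c • Z).map (algebraMap A[X] A[T;T⁻¹]) =
        algebraMap A[X] A[T;T⁻¹] c • Z.map (algebraMap A[X] A[T;T⁻¹]) := by
    intro ι κ c Z
    refine Matrix.ext fun i j => ?_
    simp
  refine ⟨W₁, (X ^ s.natDegree : A[X]) • W₂, j₂ + j₁, ?_, ?_⟩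
  · apply map_algebraMap_laurent_injective
    rw [Matrix.map_mul, hsmulmap, hsmulmap, hW₁, hW₂, Matrix.smul_mul, Matrix.smul_mul,
      Matrix.mul_smul, h1, smul_smul, smul_smul, smul_smul]
    simp only [map_mul, map_pow, hrev, pow_add]
    congr 1
    ring
  · apply map_algebraMap_laurent_injective
    rw [Matrix.map_mul, hsmulmap, hsmulmap, hW₁, hW₂, Matrix.mul_smul, Matrix.mul_smul,
      Matrix.smul_mul, h2, smul_smul, smul_smul, smul_smul]
    simp only [map_mul, map_pow, hrev, pow_add]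
    congr 1
    · ring
    · refine Matrix.ext fun i j => ?_
      simp [Matrix.one_apply]

end clear

section localize
variable {A : Type u} [CommRing A]

theorem eqv_localization_of_lattice (m : Ideal A) [m.IsMaximal] {n r : ℕ}
    (p : Matrix (Fin n) (Fin n) A[X]) (hp : p * p = p)
    (I₀ : Matrix (Fin r) (Fin n) A[X]) (Ψ₀ : Matrix (Fin n) (Fin r) A[X]) (h₀ : A[X]) (d : ℕ)
    (hdeg : h₀.natDegree ≤ d) (hlead : h₀.coeff d ∉ m)
    (h1 : Ψ₀ * I₀ = h₀ • p) (h2 : I₀ * Ψ₀ = h₀ • (1 : Matrix (Fin r) (Fin r) A[X])) :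
    Eqv ((mapRingHom (algebraMap A (Localization.AtPrime m))).mapMatrix p)
      ((mapRingHom (algebraMap A (Localization.AtPrime m))).mapMatrix
        ((Polynomial.C.comp (evalRingHom 0)).mapMatrix p)) := by
  obtain ⟨lam, hlam⟩ : ∃ lam : A[X] →+* (Localization.AtPrime m)[X],
    lam = mapRingHom (algebraMap A (Localization.AtPrime m)) := ⟨_, rfl⟩
  rw [← hlam]
  have hu : IsUnit (algebraMap A (Localization.AtPrime m) (h₀.coeff d)) :=
    IsLocalization.map_units (Localization.AtPrime m) (⟨h₀.coeff d, hlead⟩ : m.primeCompl)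
  obtain ⟨ui, hui⟩ : ∃ ui : Localization.AtPrime m,
      ui * algebraMap A (Localization.AtPrime m) (h₀.coeff d) = 1 :=
    ⟨↑(hu.unit⁻¹), hu.val_inv_mul⟩
  obtain ⟨h, hh⟩ : ∃ h : (Localization.AtPrime m)[X], h = Polynomial.C ui * lam h₀ := ⟨_, rfl⟩
  have hmonic : h.Monic := by
    refine monic_of_natDegree_le_of_coeff_eq_one d ?_ ?_
    · rw [hh]
      refine (natDegree_C_mul_le _ _).trans ?_
      rw [hlam]
      exact (natDegree_map_le).trans hdeg
    · rw [hh, coeff_C_mul, hlam, coe_mapRingHom, coeff_map, hui]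
  obtain ⟨pm, hpm⟩ : ∃ pm, pm = lam.mapMatrix p := ⟨_, rfl⟩
  have hpmid : pm * pm = pm := by rw [hpm, ← map_mul, hp]
  have hpm' : pm = p.map lam := by rw [hpm]; rfl
  have hsmulmap : ∀ {ι κ : Type} (c : A[X]) (Z : Matrix ι κ A[X]),
      (c • Z).map lam = lam c • Z.map lam := by
    intro ι κ c Z
    refine Matrix.ext fun i j => ?_
    simp
  have e1 : (Polynomial.C ui • Ψ₀.map lam) * I₀.map lam = h • pm := by
    rw [Matrix.smul_mul, ← Matrix.map_mul, h1, hsmulmap, smul_smul, ← hh, hpm']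
  have e2 : I₀.map lam * (Polynomial.C ui • Ψ₀.map lam) =
      h • (1 : Matrix (Fin r) (Fin r) (Localization.AtPrime m)[X]) := by
    rw [Matrix.mul_smul, ← Matrix.map_mul, h2, hsmulmap, smul_smul, ← hh]
    congr 1
    refine Matrix.ext fun i j => ?_
    simp [Matrix.one_apply]
  obtain ⟨u', v', huv, hvu⟩ := local_horrocks_matrix n r pm hpmid _ _ h hmonic e1 e2
  rw [mm_comp, hlam, map_comp_C_eval, ← hlam, ← mm_comp, ← hpm]
  obtain ⟨ev, hev⟩ : ∃ ev : (Localization.AtPrime m)[X] →+* (Localization.AtPrime m)[X],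
    ev = Polynomial.C.comp (evalRingHom 0) := ⟨_, rfl⟩
  rw [← hev]
  have hone : (1 : Matrix (Fin r) (Fin r) (Localization.AtPrime m)[X]).map ev = 1 := by
    refine Matrix.ext fun i j => ?_
    simp [Matrix.one_apply]
  refine ⟨u' * v'.map ev, u'.map ev * v', ?_, ?_⟩
  · calc u' * v'.map ev * (u'.map ev * v') = u' * (v'.map ev * u'.map ev) * v' := by
          simp only [Matrix.mul_assoc]
      _ = pm := by rw [← Matrix.map_mul, hvu, hone, Matrix.mul_one, huv]
  · calc u'.map ev * v' * (u' * v'.map ev) = u'.map ev * (v' * u') * v'.map ev := by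
          simp only [Matrix.mul_assoc]
      _ = ev.mapMatrix pm := by
          rw [hvu, Matrix.mul_one, ← Matrix.map_mul, huv]
          rfl

end localize

end Groth.Agent.Lib.Helper11.Horrocks
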