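import Mathlib
import Groth.Agent.Lib.Helper11HorrD
import Groth.Agent.Lib.Helper11HorrG

/-!
# Helper11 Horrocks I: general index wrapper and reflected matrices
-/

set_option autoImplicit false
universe u

namespace Groth.Agent.Lib.Helper11.Horrocks

open Polynomial

section wrapper
variable {A : Type u} [CommRing A]

/-- Quillen patching + local Horrocks, for an arbitrary finite index type. -/
theorem eqv_of_lattice_data {ι : Type} [Fintype ι] [DecidableEq ι]
    (p : Matrix ι ι A[X]) (hp : p * p = p)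
    (H : ∀ (m : Ideal A) [m.IsMaximal], ∃ (r : ℕ) (I₀ : Matrix (Fin r) ι A[X])
      (Ψ₀ : Matrix ι (Fin r) A[X]) (h₀ : A[X]) (d : ℕ),
        h₀.natDegree ≤ d ∧ h₀.coeff d ∉ m ∧ Ψ₀ * I₀ = h₀ • p ∧
          I₀ * Ψ₀ = h₀ • (1 : Matrix (Fin r) (Fin r) A[X])) :
    Eqv p ((C.comp (evalRingHom 0)).mapMatrix p) := by
  classical
  let e : ι ≃ Fin (Fintype.card ι) := Fintype.equivFin ι
  obtain ⟨ph, hph⟩ : ∃ ph : Matrix (Fin (Fintype.card ι)) (Fin (Fintype.card ι)) A[X],
    ph = p.submatrix e.symm e.symm := ⟨_, rfl⟩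
  have hphid : ph * ph = ph := by
    rw [hph, Matrix.submatrix_mul_equiv, hp]
  have hback : ph.submatrix e e = p := by
    rw [hph, Matrix.submatrix_submatrix]
    refine Matrix.ext fun i j => ?_
    simp
  have key : Eqv ph ((C.comp (evalRingHom 0)).mapMatrix ph) := by
    refine quillen_patching _ ph hphid ?_
    intro m hm
    obtain ⟨r, I₀, Ψ₀, h₀, d, hd, hlead, h1, h2⟩ := H m
    refine eqv_localization_of_lattice m ph hphid (I₀.submatrix (Equiv.refl (Fin r)) e.symm)
      (Ψ₀.submatrix e.symm (Equiv.refl (Fin r))) h₀ d hd hlead ?_ ?_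
    · rw [Matrix.submatrix_mul_equiv, h1, hph]
      rfl
    · rw [Matrix.submatrix_mul_equiv, h2]
      refine Matrix.ext fun i j => ?_
      simp [Matrix.one_apply]
  obtain ⟨x, y, hxy, hyx⟩ := key
  refine ⟨x.submatrix e e, y.submatrix e e, ?_, ?_⟩
  · rw [Matrix.submatrix_mul_equiv, hxy, hback]
  · rw [Matrix.submatrix_mul_equiv, hyx]
    refine Matrix.ext fun i j => ?_
    rw [hph]
    simp

end wrapper

section reflectM
variable {A : Type u} [CommRing A]

theorem reflect_sum' {ι : Type*} (N : ℕ) (s : Finset ι) (f : ι → A[X]) :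
    reflect N (∑ i ∈ s, f i) = ∑ i ∈ s, reflect N (f i) := by
  classical
  induction s using Finset.induction_on with
  | empty => simp
  | insert a s ha ih => rw [Finset.sum_insert ha, Finset.sum_insert ha, reflect_add, ih]

/-- entrywise reflection -/
noncomputable def rflM (N : ℕ) {ι κ : Type*} (Z : Matrix ι κ A[X]) : Matrix ι κ A[X] :=
  Z.map (reflect N)

theorem rflM_mul {ι κ μ : Type*} [Fintype κ] {a b : ℕ} (Z₁ : Matrix ι κ A[X])
    (Z₂ : Matrix κ μ A[X]) (h₁ : ∀ i k, (Z₁ i k).natDegree ≤ a)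
    (h₂ : ∀ k j, (Z₂ k j).natDegree ≤ b) :
    rflM a Z₁ * rflM b Z₂ = rflM (a + b) (Z₁ * Z₂) := by
  refine Matrix.ext fun i j => ?_
  simp only [rflM, Matrix.mul_apply, Matrix.map_apply]
  rw [reflect_sum']
  refine Finset.sum_congr rfl fun k _ => ?_
  rw [reflect_mul _ _ (h₁ i k) (h₂ k j)]

theorem rflM_C_mul {ι κ μ : Type*} [Fintype κ] (N : ℕ) (Q : Matrix ι κ A)
    (Z : Matrix κ μ A[X]) : Q.map C * rflM N Z = rflM N (Q.map C * Z) := by
  refine Matrix.ext fun i j => ?_
  simp only [rflM, Matrix.mul_apply, Matrix.map_apply]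
  rw [reflect_sum']
  refine Finset.sum_congr rfl fun k _ => ?_
  rw [reflect_C_mul]

theorem rflM_mul_C {ι κ μ : Type*} [Fintype κ] (N : ℕ) (Z : Matrix ι κ A[X])
    (Q : Matrix κ μ A) : rflM N Z * Q.map C = rflM N (Z * Q.map C) := by
  refine Matrix.ext fun i j => ?_
  simp only [rflM, Matrix.mul_apply, Matrix.map_apply]
  rw [reflect_sum']
  refine Finset.sum_congr rfl fun k _ => ?_
  rw [mul_comm, mul_comm (Z i k), reflect_C_mul]

theorem rflM_smul_C {ι κ : Type*} (f : A[X]) (e : ℕ) (Q : Matrix ι κ A) :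
    rflM (f.natDegree + e) (f • Q.map C) = (X ^ e * f.reverse) • Q.map C := by
  refine Matrix.ext fun i j => ?_
  simp only [rflM, Matrix.map_apply, Matrix.smul_apply, smul_eq_mul]
  rw [reflect_mul f (C (Q i j)) le_rfl (by rw [natDegree_C]; exact Nat.zero_le _), reflect_C]
  show f.reverse * _ = _
  ring

end reflectM

end Groth.Agent.Lib.Helper11.Horrocks
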