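import Mathlib
import Groth.Agent.Lib.Helper11HorrI
import Groth.Agent.Lib.Helper11HorrE

/-!
# Helper11 Horrocks J: isogenous extended modules (with monic isogeny) are isomorphic
-/

set_option autoImplicit false
universe u

namespace Groth.Agent.Lib.Helper11.Horrocks

open Polynomial Matrix

section J1
variable {A : Type u} [CommRing A]

theorem smul_fromCols' {R : Type*} [CommRing R] {m n₁ n₂ : Type*} (c : R) (M₁ : Matrix m n₁ R)
    (M₂ : Matrix m n₂ R) : c • fromCols M₁ M₂ = fromCols (c • M₁) (c • M₂) := by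
  ext i (j | j) <;> simp

theorem smul_fromRows' {R : Type*} [CommRing R] {m₁ m₂ n : Type*} (c : R) (M₁ : Matrix m₁ n R)
    (M₂ : Matrix m₂ n R) : c • fromRows M₁ M₂ = fromRows (c • M₁) (c • M₂) := by
  ext (i | i) j <;> simp

theorem eqv_of_isogeny {n n' : ℕ}
    (q : Matrix (Fin n) (Fin n) A) (q' : Matrix (Fin n') (Fin n') A)
    (hq : q * q = q) (hq' : q' * q' = q')
    (hfree : ∀ (m : Ideal A) [m.IsMaximal], ∃ (r : ℕ) (K : Matrix (Fin n) (Fin r) A)
      (K' : Matrix (Fin r) (Fin n) A) (a : A), a ∉ m ∧ K * K' = a • q ∧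
        K' * K = a • (1 : Matrix (Fin r) (Fin r) A) ∧ q * K = K)
    (αt : Matrix (Fin n') (Fin n) A[X]) (βt : Matrix (Fin n) (Fin n') A[X]) (g : A[X]) (e : ℕ)
    (he : 1 ≤ e) (hg : g.coeff 0 = 1)
    (h1 : αt * βt = (X ^ e * g) • q'.map C) (h2 : βt * αt = (X ^ e * g) • q.map C)
    (c1 : q'.map C * αt = αt) (c2 : αt * q.map C = αt) (c3 : q.map C * βt = βt)
    (c4 : βt * q'.map C = βt) :
    ∃ (x : Matrix (Fin n') (Fin n) A) (y : Matrix (Fin n) (Fin n') A), x * y = q' ∧ y * x = q := by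
  classical
  -- partition of unity
  obtain ⟨c₁, c₂, hc⟩ : ∃ c₁ c₂ : A[X], c₁ * X ^ e + c₂ * g = 1 := by
    have hcop : IsCoprime (X : A[X]) g := by
      refine ⟨-divX g, 1, ?_⟩
      have := divX_mul_X_add g
      rw [hg, C_1] at this
      linear_combination (-1 : A[X]) * this
    exact hcop.pow_left
  obtain ⟨Q, hQdef⟩ : ∃ Q : Matrix (Fin n) (Fin n) A[X], Q = q.map C := ⟨_, rfl⟩
  obtain ⟨Q', hQ'def⟩ : ∃ Q' : Matrix (Fin n') (Fin n') A[X], Q' = q'.map C := ⟨_, rfl⟩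
  rw [← hQdef] at h2 c2 c3
  rw [← hQ'def] at h1 c1 c4
  have hQ : Q * Q = Q := by rw [hQdef, ← Matrix.map_mul, hq]
  have hQ' : Q' * Q' = Q' := by rw [hQ'def, ← Matrix.map_mul, hq']
  obtain ⟨ρ, hρ⟩ : ∃ ρ : Matrix (Fin n') (Fin n ⊕ Fin n') A[X], ρ = fromCols αt (g • Q') :=
    ⟨_, rfl⟩
  obtain ⟨ρ', hρ'⟩ : ∃ ρ' : Matrix (Fin n) (Fin n ⊕ Fin n') A[X],
    ρ' = fromCols ((X ^ e : A[X]) • Q) βt := ⟨_, rfl⟩
  have ha : βt * ρ = g • ρ' := by
    rw [hρ, hρ', Matrix.mul_fromCols, h2, Matrix.mul_smul, c4, smul_fromCols', smul_smul,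
      mul_comm g]
  have hb : αt * ρ' = (X ^ e : A[X]) • ρ := by
    rw [hρ, hρ', Matrix.mul_fromCols, h1, Matrix.mul_smul, c2, smul_fromCols', smul_smul]
  have hcQ : Q * ρ' = ρ' := by
    rw [hρ', Matrix.mul_fromCols, Matrix.mul_smul, hQ, c3]
  have hcQ' : Q' * ρ = ρ := by
    rw [hρ, Matrix.mul_fromCols, Matrix.mul_smul, hQ', c1]
  obtain ⟨ε, hε⟩ : ∃ ε : Matrix (Fin n ⊕ Fin n') (Fin n ⊕ Fin n') A[X],
    ε = fromRows (c₁ • ρ') (c₂ • ρ) := ⟨_, rfl⟩
  have hρε : ρ * ε = ρ := by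
    conv_lhs => rw [hε, hρ, Matrix.fromCols_mul_fromRows, ← hρ]
    rw [Matrix.mul_smul, hb, Matrix.smul_mul, Matrix.mul_smul, hcQ', smul_smul, smul_smul,
      ← add_smul, mul_comm g, hc, one_smul]
  have hρ'ε : ρ' * ε = ρ' := by
    conv_lhs => rw [hε, hρ', Matrix.fromCols_mul_fromRows, ← hρ']
    rw [Matrix.smul_mul, Matrix.mul_smul, hcQ, Matrix.mul_smul, ha, smul_smul, smul_smul,
      ← add_smul, mul_comm _ c₁, hc, one_smul]
  have hεε : ε * ε = ε := by
    conv_lhs => rw [hε, Matrix.fromRows_mul, ← hε]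
    rw [Matrix.smul_mul, Matrix.smul_mul, hρε, hρ'ε, ← hε]
  -- lattice data
  have hlat : ∀ (m : Ideal A) [m.IsMaximal], ∃ (r : ℕ) (I₀ : Matrix (Fin r) (Fin n ⊕ Fin n') A[X])
      (Ψ₀ : Matrix (Fin n ⊕ Fin n') (Fin r) A[X]) (h₀ : A[X]) (d : ℕ),
        h₀.natDegree ≤ d ∧ h₀.coeff d ∉ m ∧ Ψ₀ * I₀ = h₀ • ε ∧
          I₀ * Ψ₀ = h₀ • (1 : Matrix (Fin r) (Fin r) A[X]) := by
    intro m hm
    obtain ⟨r, K, K', a, ham, hKK', hK'K, hqK⟩ := hfree m
    have hKK'C : K.map C * K'.map C = (C a : A[X]) • Q := by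
      rw [← Matrix.map_mul, hKK', hQdef]
      refine Matrix.ext fun i j => ?_
      simp
    have hK'KC : K'.map C * K.map C = (C a : A[X]) • (1 : Matrix (Fin r) (Fin r) A[X]) := by
      rw [← Matrix.map_mul, hK'K]
      refine Matrix.ext fun i j => ?_
      simp only [Matrix.map_apply, Matrix.smul_apply, Matrix.one_apply, smul_eq_mul]
      split_ifs <;> simp
    have hQK : Q * K.map C = K.map (C : A →+* A[X]) := by
      rw [hQdef, ← Matrix.map_mul, hqK]
    obtain ⟨τ, hτ⟩ : ∃ τ : Matrix (Fin n ⊕ Fin n') (Fin n) A[X],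
      τ = fromRows ((c₁ * X ^ e) • Q) (c₂ • αt) := ⟨_, rfl⟩
    have hρ'τ : ρ' * τ = (X ^ e : A[X]) • Q := by
      rw [hρ', hτ, Matrix.fromCols_mul_fromRows, Matrix.smul_mul, Matrix.mul_smul, hQ,
        Matrix.mul_smul, h2, smul_smul, smul_smul, ← add_smul]
      congr 1
      linear_combination (X ^ e : A[X]) * hc
    have hτρ' : τ * ρ' = (X ^ e : A[X]) • ε := by
      rw [hτ, Matrix.fromRows_mul, Matrix.smul_mul, hcQ, Matrix.smul_mul, hb, hε, smul_fromRows',
        smul_smul, smul_smul, smul_smul, mul_comm c₁, mul_comm c₂]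
    refine ⟨r, K'.map C * ρ', τ * K.map C, C a * X ^ e, e, ?_, ?_, ?_, ?_⟩
    · exact natDegree_C_mul_X_pow_le a e
    · rw [coeff_C_mul_X_pow, if_pos rfl]
      exact ham
    · calc τ * K.map C * (K'.map C * ρ') = τ * (K.map C * K'.map C) * ρ' := by
            simp only [Matrix.mul_assoc]
        _ = (C a * X ^ e) • ε := by
            rw [hKK'C, Matrix.mul_smul, Matrix.smul_mul, Matrix.mul_assoc, hcQ, hτρ', smul_smul]
    · calc K'.map C * ρ' * (τ * K.map C) = K'.map C * (ρ' * τ) * K.map C := by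
            simp only [Matrix.mul_assoc]
        _ = (C a * X ^ e) • (1 : Matrix (Fin r) (Fin r) A[X]) := by
            rw [hρ'τ, Matrix.mul_smul, Matrix.smul_mul, Matrix.mul_assoc, hQK, hK'KC, smul_smul,
              mul_comm]
  obtain ⟨XX, YY, hXY, hYX⟩ := eqv_of_lattice_data ε hεε hlat
  -- evaluation
  have hmap_smul : ∀ (χ : A[X] →+* A) {ι κ : Type} (c : A[X]) (M : Matrix ι κ A[X]),
      (c • M).map χ = χ c • M.map χ := by
    intro χ ι κ c M
    refine Matrix.ext fun i j => ?_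
    simp
  have hQχ : ∀ z : A, Q.map (evalRingHom z) = q := by
    intro z
    rw [hQdef]
    refine Matrix.ext fun i j => ?_
    simp
  have hQ'χ : ∀ z : A, Q'.map (evalRingHom z) = q' := by
    intro z
    rw [hQ'def]
    refine Matrix.ext fun i j => ?_
    simp
  -- general mapped relations
  have hρχ : ∀ z : A, ρ.map (evalRingHom z) =
      fromCols (αt.map (evalRingHom z)) (evalRingHom z g • q') := by
    intro z
    rw [hρ, Matrix.fromCols_map, hmap_smul, hQ'χ]
  have hρ'χ : ∀ z : A, ρ'.map (evalRingHom z) =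
      fromCols (evalRingHom z (X ^ e) • q) (βt.map (evalRingHom z)) := by
    intro z
    rw [hρ', Matrix.fromCols_map, hmap_smul, hQχ]
  have hεχ : ∀ z : A, ε.map (evalRingHom z) =
      fromRows (evalRingHom z c₁ • ρ'.map (evalRingHom z))
        (evalRingHom z c₂ • ρ.map (evalRingHom z)) := by
    intro z
    rw [hε, Matrix.fromRows_map, hmap_smul, hmap_smul]
  have haχ : ∀ z : A, βt.map (evalRingHom z) * ρ.map (evalRingHom z) =
      evalRingHom z g • ρ'.map (evalRingHom z) := by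
    intro z
    rw [← Matrix.map_mul, ha, hmap_smul]
  have hbχ : ∀ z : A, αt.map (evalRingHom z) * ρ'.map (evalRingHom z) =
      evalRingHom z (X ^ e) • ρ.map (evalRingHom z) := by
    intro z
    rw [← Matrix.map_mul, hb, hmap_smul]
  have hcQχ : ∀ z : A, q * ρ'.map (evalRingHom z) = ρ'.map (evalRingHom z) := by
    intro z
    conv_lhs => rw [← hQχ z, ← Matrix.map_mul, hcQ]
  have hcQ'χ : ∀ z : A, q' * ρ.map (evalRingHom z) = ρ.map (evalRingHom z) := by
    intro z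
    conv_lhs => rw [← hQ'χ z, ← Matrix.map_mul, hcQ']
  have h1χ : ∀ z : A, αt.map (evalRingHom z) * βt.map (evalRingHom z) =
      evalRingHom z (X ^ e * g) • q' := by
    intro z
    rw [← Matrix.map_mul, h1, hmap_smul, hQ'χ]
  have h2χ : ∀ z : A, βt.map (evalRingHom z) * αt.map (evalRingHom z) =
      evalRingHom z (X ^ e * g) • q := by
    intro z
    rw [← Matrix.map_mul, h2, hmap_smul, hQχ]
  have hcχ : ∀ z : A, evalRingHom z c₁ * evalRingHom z (X ^ e) +
      evalRingHom z c₂ * evalRingHom z g = 1 := by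
    intro z
    rw [← map_mul, ← map_mul, ← map_add, hc, map_one]
  -- the two evaluated idempotents
  have hX1 : XX.map (evalRingHom (1 : A)) * YY.map (evalRingHom (1 : A)) =
      ε.map (evalRingHom (1 : A)) := by
    rw [← Matrix.map_mul, hXY]
  have hY1 : YY.map (evalRingHom (1 : A)) * XX.map (evalRingHom (1 : A)) =
      ε.map (evalRingHom (0 : A)) := by
    rw [← Matrix.map_mul, hYX]
    refine Matrix.ext fun i j => ?_
    simp
  -- point 0
  have hg0 : evalRingHom (0 : A) g = 1 := by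
    rw [coe_evalRingHom, ← coeff_zero_eq_eval_zero, hg]
  have hX0 : evalRingHom (0 : A) (X ^ e) = 0 := by
    rw [coe_evalRingHom, eval_pow, eval_X, zero_pow (by omega)]
  have hc20 : evalRingHom (0 : A) c₂ = 1 := by
    have := hcχ 0
    rwa [hX0, hg0, mul_zero, zero_add, mul_one] at this
  obtain ⟨τ₀, hτ₀⟩ : ∃ τ₀ : Matrix (Fin n ⊕ Fin n') (Fin n') A,
    τ₀ = fromRows (evalRingHom (0 : A) c₁ • βt.map (evalRingHom (0 : A))) q' := ⟨_, rfl⟩
  have hε0 : ε.map (evalRingHom (0 : A)) = τ₀ * ρ.map (evalRingHom (0 : A)) := by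
    rw [hεχ, hτ₀, Matrix.fromRows_mul, Matrix.smul_mul, haχ, hg0, one_smul, hcQ'χ, hc20, one_smul]
  have hρτ0 : ρ.map (evalRingHom (0 : A)) * τ₀ = q' := by
    rw [hρχ, hτ₀, Matrix.fromCols_mul_fromRows, Matrix.mul_smul, h1χ, map_mul, hX0, zero_mul,
      zero_smul, smul_zero, zero_add, hg0, one_smul, hq']
  -- point 1
  have hX1' : evalRingHom (1 : A) (X ^ e) = 1 := by
    rw [coe_evalRingHom, eval_pow, eval_X, one_pow]
  obtain ⟨τ₁, hτ₁⟩ : ∃ τ₁ : Matrix (Fin n ⊕ Fin n') (Fin n) A,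
    τ₁ = fromRows (evalRingHom (1 : A) c₁ • q)
      (evalRingHom (1 : A) c₂ • αt.map (evalRingHom (1 : A))) := ⟨_, rfl⟩
  have hε1 : ε.map (evalRingHom (1 : A)) = τ₁ * ρ'.map (evalRingHom (1 : A)) := by
    rw [hεχ, hτ₁, Matrix.fromRows_mul, Matrix.smul_mul, hcQχ, Matrix.smul_mul, hbχ, hX1', one_smul]
  have hρτ1 : ρ'.map (evalRingHom (1 : A)) * τ₁ = q := by
    rw [hρ'χ, hτ₁, Matrix.fromCols_mul_fromRows, hX1', one_smul, Matrix.mul_smul, hq,
      Matrix.mul_smul, h2χ, map_mul, hX1', one_mul, smul_smul, ← add_smul]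
    have := hcχ 1
    rw [hX1', mul_one] at this
    rw [this, one_smul]
  refine ⟨ρ.map (evalRingHom (0 : A)) * YY.map (evalRingHom (1 : A)) * τ₁,
    ρ'.map (evalRingHom (1 : A)) * XX.map (evalRingHom (1 : A)) * τ₀, ?_, ?_⟩
  · calc ρ.map (evalRingHom (0 : A)) * YY.map (evalRingHom (1 : A)) * τ₁ *
          (ρ'.map (evalRingHom (1 : A)) * XX.map (evalRingHom (1 : A)) * τ₀)
        = ρ.map (evalRingHom (0 : A)) * (YY.map (evalRingHom (1 : A)) *
            (τ₁ * ρ'.map (evalRingHom (1 : A))) * XX.map (evalRingHom (1 : A))) * τ₀ := by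
          simp only [Matrix.mul_assoc]
      _ = ρ.map (evalRingHom (0 : A)) * ((YY.map (evalRingHom (1 : A)) *
            XX.map (evalRingHom (1 : A))) * (YY.map (evalRingHom (1 : A)) *
            XX.map (evalRingHom (1 : A)))) * τ₀ := by
          rw [← hε1, ← hX1]
          simp only [Matrix.mul_assoc]
      _ = (ρ.map (evalRingHom (0 : A)) * τ₀) * (ρ.map (evalRingHom (0 : A)) * τ₀) *
            (ρ.map (evalRingHom (0 : A)) * τ₀) := by
          rw [hY1, hε0]
          simp only [Matrix.mul_assoc]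
      _ = q' := by rw [hρτ0, hq', hq']
  · calc ρ'.map (evalRingHom (1 : A)) * XX.map (evalRingHom (1 : A)) * τ₀ *
          (ρ.map (evalRingHom (0 : A)) * YY.map (evalRingHom (1 : A)) * τ₁)
        = ρ'.map (evalRingHom (1 : A)) * (XX.map (evalRingHom (1 : A)) *
            (τ₀ * ρ.map (evalRingHom (0 : A))) * YY.map (evalRingHom (1 : A))) * τ₁ := by
          simp only [Matrix.mul_assoc]
      _ = ρ'.map (evalRingHom (1 : A)) * ((XX.map (evalRingHom (1 : A)) *
            YY.map (evalRingHom (1 : A))) * (XX.map (evalRingHom (1 : A)) *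
            YY.map (evalRingHom (1 : A)))) * τ₁ := by
          rw [← hε0, ← hY1]
          simp only [Matrix.mul_assoc]
      _ = (ρ'.map (evalRingHom (1 : A)) * τ₁) * (ρ'.map (evalRingHom (1 : A)) * τ₁) *
            (ρ'.map (evalRingHom (1 : A)) * τ₁) := by
          rw [hX1, hε1]
          simp only [Matrix.mul_assoc]
      _ = q := by rw [hρτ1, hq, hq]

end J1

section J2
open TensorProduct
variable {A : Type u} [CommRing A]

theorem iso_of_monicLocalization_iso (Mon : Submonoid A[X]) (hM : ∀ f : A[X], f ∈ Mon ↔ f.Monic)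
    (At : Type u) [CommRing At] [Algebra A[X] At] [IsLocalization Mon At]
    [Algebra A At] [IsScalarTower A A[X] At]
    (P P' : Type u) [AddCommGroup P] [Module A P] [Module.Finite A P] [Module.Projective A P]
    [AddCommGroup P'] [Module A P'] [Module.Finite A P'] [Module.Projective A P']
    (Θ : (At ⊗[A] P) ≃ₗ[At] (At ⊗[A] P')) : Nonempty (P ≃ₗ[A] P') := by
  classical
  obtain ⟨n, π, σ, -, -, hπσ⟩ := Module.Finite.exists_comp_eq_id_of_projective A P
  obtain ⟨n', π', σ', -, -, hπσ'⟩ := Module.Finite.exists_comp_eq_id_of_projective A P'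
  obtain ⟨q, hqdef⟩ : ∃ q, q = LinearMap.toMatrix' (σ ∘ₗ π) := ⟨_, rfl⟩
  obtain ⟨q', hq'def⟩ : ∃ q', q' = LinearMap.toMatrix' (σ' ∘ₗ π') := ⟨_, rfl⟩
  have hq : q * q = q := by
    rw [hqdef, ← LinearMap.toMatrix'_comp]
    congr 1
    rw [LinearMap.comp_assoc, ← LinearMap.comp_assoc π σ π, hπσ, LinearMap.id_comp]
  have hq' : q' * q' = q' := by
    rw [hq'def, ← LinearMap.toMatrix'_comp]
    congr 1
    rw [LinearMap.comp_assoc, ← LinearMap.comp_assoc π' σ' π', hπσ', LinearMap.id_comp]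
  -- matrices over `At`
  obtain ⟨uL, huL⟩ : ∃ uL : (Fin n → At) →ₗ[At] (Fin n' → At),
    uL = bcDown At σ' ∘ₗ Θ.toLinearMap ∘ₗ bcUp At π := ⟨_, rfl⟩
  obtain ⟨vL, hvL⟩ : ∃ vL : (Fin n' → At) →ₗ[At] (Fin n → At),
    vL = bcDown At σ ∘ₗ Θ.symm.toLinearMap ∘ₗ bcUp At π' := ⟨_, rfl⟩
  have hvu : vL ∘ₗ uL = Matrix.toLin' (q.map (algebraMap A At)) := by
    refine LinearMap.ext fun w => ?_
    rw [huL, hvL]
    simp only [LinearMap.comp_apply, LinearEquiv.coe_coe]
    rw [bcUp_bcDown, hπσ', LinearMap.baseChange_id, LinearMap.id_apply,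
      LinearEquiv.symm_apply_apply, bcDown_bcUp, Matrix.toLin'_apply, hqdef]
  have huv : uL ∘ₗ vL = Matrix.toLin' (q'.map (algebraMap A At)) := by
    refine LinearMap.ext fun w => ?_
    rw [huL, hvL]
    simp only [LinearMap.comp_apply, LinearEquiv.coe_coe]
    rw [bcUp_bcDown, hπσ, LinearMap.baseChange_id, LinearMap.id_apply,
      LinearEquiv.apply_symm_apply, bcDown_bcUp, Matrix.toLin'_apply, hq'def]
  have hvu' : LinearMap.toMatrix' vL * LinearMap.toMatrix' uL = q.map (algebraMap A At) := by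
    rw [← LinearMap.toMatrix'_comp, hvu, LinearMap.toMatrix'_toLin']
  have huv' : LinearMap.toMatrix' uL * LinearMap.toMatrix' vL = q'.map (algebraMap A At) := by
    rw [← LinearMap.toMatrix'_comp, huv, LinearMap.toMatrix'_toLin']
  -- clear denominators
  obtain ⟨f₁, hf₁, U, -, hU, -⟩ :=
    matrix_clear₂ Mon (B := At) (LinearMap.toMatrix' uL) (LinearMap.toMatrix' uL)
  obtain ⟨f₂, hf₂, V, -, hV, -⟩ :=
    matrix_clear₂ Mon (B := At) (LinearMap.toMatrix' vL) (LinearMap.toMatrix' vL)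
  have hfm : (f₁ * f₂).Monic := ((hM f₁).1 hf₁).mul ((hM f₂).1 hf₂)
  obtain ⟨f, hfdef⟩ : ∃ f, f = f₁ * f₂ := ⟨_, rfl⟩
  rw [← hfdef] at hfm
  have hmapC : ∀ {ι κ : Type} (Z : Matrix ι κ A),
      (Z.map (C : A →+* A[X])).map (algebraMap A[X] At) = Z.map (algebraMap A At) := by
    intro ι κ Z
    refine Matrix.ext fun i j => ?_
    simp only [Matrix.map_apply]
    rw [IsScalarTower.algebraMap_apply A A[X] At, Polynomial.algebraMap_eq]
  have hsmulmap : ∀ {ι κ : Type} (c : A[X]) (Z : Matrix ι κ A[X]),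
      (c • Z).map (algebraMap A[X] At) = algebraMap A[X] At c • Z.map (algebraMap A[X] At) := by
    intro ι κ c Z
    refine Matrix.ext fun i j => ?_
    simp
  have hkill : ∀ {ι : Type} [Fintype ι] (W : Matrix ι ι A[X]),
      W.map (algebraMap A[X] At) = 0 → W = 0 := by
    intro ι _ W hW
    obtain ⟨t, ht, h0, -⟩ := matrix_kill₂ Mon (B := At) W W hW hW
    exact matrix_smul_left_cancel ((hM t).1 ht) W 0 (by rw [h0, smul_zero])
  have hVU : V * U = f • q.map C := by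
    rw [← sub_eq_zero]
    apply hkill
    rw [Matrix.map_sub, Matrix.map_mul, hU, hV, hsmulmap, hmapC, Matrix.smul_mul, Matrix.mul_smul,
      hvu', smul_smul, hfdef, map_mul, mul_comm, sub_self]
    exact fun a₁ a₂ => map_sub _ a₁ a₂
  have hUV : U * V = f • q'.map C := by
    rw [← sub_eq_zero]
    apply hkill
    rw [Matrix.map_sub, Matrix.map_mul, hU, hV, hsmulmap, hmapC, Matrix.smul_mul, Matrix.mul_smul,
      huv', smul_smul, hfdef, map_mul, sub_self]
    exact fun a₁ a₂ => map_sub _ a₁ a₂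
  obtain ⟨Q, hQdef⟩ : ∃ Q : Matrix (Fin n) (Fin n) A[X], Q = q.map C := ⟨_, rfl⟩
  obtain ⟨Q', hQ'def⟩ : ∃ Q' : Matrix (Fin n') (Fin n') A[X], Q' = q'.map C := ⟨_, rfl⟩
  rw [← hQdef] at hVU
  rw [← hQ'def] at hUV
  have hQ : Q * Q = Q := by rw [hQdef, ← Matrix.map_mul, hq]
  have hQ' : Q' * Q' = Q' := by rw [hQ'def, ← Matrix.map_mul, hq']
  -- corner versions
  have hVQ'U : V * Q' * U = f • Q := by
    apply matrix_smul_left_cancel hfm
    calc f • (V * Q' * U) = V * (f • Q') * U := by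
          rw [Matrix.mul_smul, Matrix.smul_mul]
      _ = (V * U) * (V * U) := by rw [← hUV]; simp only [Matrix.mul_assoc]
      _ = f • (f • Q) := by
          rw [hVU, Matrix.smul_mul, Matrix.mul_smul, hQ]
  have hUQV : U * Q * V = f • Q' := by
    apply matrix_smul_left_cancel hfm
    calc f • (U * Q * V) = U * (f • Q) * V := by
          rw [Matrix.mul_smul, Matrix.smul_mul]
      _ = (U * V) * (U * V) := by rw [← hVU]; simp only [Matrix.mul_assoc]
      _ = f • (f • Q') := by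
          rw [hUV, Matrix.smul_mul, Matrix.mul_smul, hQ']
  obtain ⟨α', hα'⟩ : ∃ α', α' = Q' * U * Q := ⟨_, rfl⟩
  obtain ⟨β', hβ'⟩ : ∃ β', β' = Q * V * Q' := ⟨_, rfl⟩
  have hβα : β' * α' = f • Q := by
    calc β' * α' = Q * (V * (Q' * Q') * U) * Q := by
          rw [hα', hβ']; simp only [Matrix.mul_assoc]
      _ = f • Q := by
          rw [hQ', hVQ'U, Matrix.mul_smul, Matrix.smul_mul, hQ, hQ]
  have hαβ : α' * β' = f • Q' := by
    calc α' * β' = Q' * (U * (Q * Q) * V) * Q' := by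
          rw [hα', hβ']; simp only [Matrix.mul_assoc]
      _ = f • Q' := by
          rw [hQ, hUQV, Matrix.mul_smul, Matrix.smul_mul, hQ', hQ']
  have hQ'α : Q' * α' = α' := by
    rw [hα', ← Matrix.mul_assoc, ← Matrix.mul_assoc, hQ']
  have hαQ : α' * Q = α' := by
    rw [hα', Matrix.mul_assoc, hQ]
  have hQβ : Q * β' = β' := by
    rw [hβ', ← Matrix.mul_assoc, ← Matrix.mul_assoc, hQ]
  have hβQ' : β' * Q' = β' := by
    rw [hβ', Matrix.mul_assoc, hQ']
  -- reversal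
  obtain ⟨b, hb⟩ : ∃ b : ℕ, b = ∑ k, ∑ j, (β' k j).natDegree := ⟨_, rfl⟩
  obtain ⟨a, ha⟩ : ∃ a : ℕ, a = (∑ i, ∑ k, (α' i k).natDegree) + f.natDegree + 1 := ⟨_, rfl⟩
  have hadeg : ∀ i k, (α' i k).natDegree ≤ a := by
    intro i k
    have h1 : (α' i k).natDegree ≤ ∑ k, (α' i k).natDegree :=
      Finset.single_le_sum (f := fun k => (α' i k).natDegree) (fun _ _ => Nat.zero_le _)
        (Finset.mem_univ k)
    have h2 : (∑ k, (α' i k).natDegree) ≤ ∑ i, ∑ k, (α' i k).natDegree :=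
      Finset.single_le_sum (f := fun i => ∑ k, (α' i k).natDegree) (fun _ _ => Nat.zero_le _)
        (Finset.mem_univ i)
    omega
  have hbdeg : ∀ k j, (β' k j).natDegree ≤ b := by
    intro k j
    have h1 : (β' k j).natDegree ≤ ∑ j, (β' k j).natDegree :=
      Finset.single_le_sum (f := fun j => (β' k j).natDegree) (fun _ _ => Nat.zero_le _)
        (Finset.mem_univ j)
    have h2 : (∑ j, (β' k j).natDegree) ≤ ∑ k, ∑ j, (β' k j).natDegree :=
      Finset.single_le_sum (f := fun k => ∑ j, (β' k j).natDegree) (fun _ _ => Nat.zero_le _)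
        (Finset.mem_univ k)
    omega
  obtain ⟨e, he⟩ : ∃ e : ℕ, e = a + b - f.natDegree := ⟨_, rfl⟩
  have he1 : 1 ≤ e := by omega
  have hab : a + b = f.natDegree + e := by omega
  have hba : b + a = f.natDegree + e := by omega
  have hfree : ∀ (m : Ideal A) [m.IsMaximal], ∃ (r : ℕ) (K : Matrix (Fin n) (Fin r) A)
      (K' : Matrix (Fin r) (Fin n) A) (a : A), a ∉ m ∧ K * K' = a • q ∧
        K' * K = a • (1 : Matrix (Fin r) (Fin r) A) ∧ q * K = K := by
    intro m hm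
    obtain ⟨r, κ, κ', a, ham, h1, h2⟩ := exists_isogeny_free P m
    refine ⟨r, LinearMap.toMatrix' (σ ∘ₗ κ), LinearMap.toMatrix' (κ' ∘ₗ π), a, ham, ?_, ?_, ?_⟩
    · rw [← LinearMap.toMatrix'_comp, hqdef, ← map_smul]
      congr 1
      rw [LinearMap.comp_assoc, ← LinearMap.comp_assoc π κ' κ, h1, LinearMap.smul_comp,
        LinearMap.id_comp, LinearMap.comp_smul]
    · rw [← LinearMap.toMatrix'_comp, ← LinearMap.toMatrix'_id, ← map_smul]
      congr 1
      rw [LinearMap.comp_assoc, ← LinearMap.comp_assoc κ σ π, hπσ, LinearMap.id_comp, h2]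
    · rw [hqdef, ← LinearMap.toMatrix'_comp]
      congr 1
      rw [LinearMap.comp_assoc, ← LinearMap.comp_assoc κ σ π, hπσ, LinearMap.id_comp]
  obtain ⟨x, y, hxy, hyx⟩ := eqv_of_isogeny q q' hq hq' hfree (rflM a α') (rflM b β') f.reverse e
    he1 (by rw [coeff_zero_reverse, hfm.leadingCoeff])
    (by rw [rflM_mul _ _ hadeg hbdeg, hαβ, hab, hQ'def, rflM_smul_C])
    (by rw [rflM_mul _ _ hbdeg hadeg, hβα, hba, hQdef, rflM_smul_C])
    (by rw [rflM_C_mul, ← hQ'def, hQ'α])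
    (by rw [rflM_mul_C, ← hQdef, hαQ])
    (by rw [rflM_C_mul, ← hQdef, hQβ])
    (by rw [rflM_mul_C, ← hQ'def, hβQ'])
  -- the isomorphism
  have hq_lin : ∀ w, q.mulVec w = σ (π w) := by
    intro w
    rw [hqdef, ← Matrix.toLin'_apply, Matrix.toLin'_toMatrix']
    rfl
  have hq'_lin : ∀ w, q'.mulVec w = σ' (π' w) := by
    intro w
    rw [hq'def, ← Matrix.toLin'_apply, Matrix.toLin'_toMatrix']
    rfl
  have hπσa : ∀ z, π (σ z) = z := fun z => LinearMap.congr_fun hπσ z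
  have hπσa' : ∀ z, π' (σ' z) = z := fun z => LinearMap.congr_fun hπσ' z
  refine ⟨LinearEquiv.ofLinearMap (π' ∘ₗ Matrix.toLin' x ∘ₗ σ) (π ∘ₗ Matrix.toLin' y ∘ₗ σ') ?_ ?_⟩
  · refine LinearMap.ext fun z => ?_
    simp only [LinearMap.comp_apply, LinearMap.id_apply, Matrix.toLin'_apply]
    rw [← hq_lin, Matrix.mulVec_mulVec, Matrix.mulVec_mulVec]
    have h1 : x * q * y = q' := by
      calc x * q * y = (x * y) * (x * y) := by rw [← hyx]; simp only [Matrix.mul_assoc]
        _ = q' := by rw [hxy, hq']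
    rw [h1, hq'_lin, hπσa', hπσa']
  · refine LinearMap.ext fun z => ?_
    simp only [LinearMap.comp_apply, LinearMap.id_apply, Matrix.toLin'_apply]
    rw [← hq'_lin, Matrix.mulVec_mulVec, Matrix.mulVec_mulVec]
    have h1 : y * q' * x = q := by
      calc y * q' * x = (y * x) * (y * x) := by rw [← hxy]; simp only [Matrix.mul_assoc]
        _ = q := by rw [hyx, hq]
    rw [h1, hq_lin, hπσa, hπσa]

end J2

end Groth.Agent.Lib.Helper11.Horrocks
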