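import Mathlib
import Groth.Agent.Lib.Helper11HorrJ

/-!
# Helper11 Horrocks L: finite projective modules isomorphic over Laurent series are isomorphic
-/

set_option autoImplicit false
universe u

namespace Groth.Agent.Lib.Helper11.Horrocks

open TensorProduct

section generalities
variable {A : Type u} [CommRing A]

/-- matrices of a base-changed isomorphism -/
theorem exists_matrices_of_baseChange_iso (L : Type u) [CommRing L] [Algebra A L]
    {P P' : Type u} [AddCommGroup P] [Module A P] [AddCommGroup P'] [Module A P']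
    (Θ : (L ⊗[A] P) ≃ₗ[L] (L ⊗[A] P')) {n n' : ℕ}
    (π : (Fin n → A) →ₗ[A] P) (σ : P →ₗ[A] (Fin n → A)) (hπσ : π ∘ₗ σ = LinearMap.id)
    (π' : (Fin n' → A) →ₗ[A] P') (σ' : P' →ₗ[A] (Fin n' → A)) (hπσ' : π' ∘ₗ σ' = LinearMap.id) :
    ∃ (u : Matrix (Fin n') (Fin n) L) (v : Matrix (Fin n) (Fin n') L),
      v * u = (LinearMap.toMatrix' (σ ∘ₗ π)).map (algebraMap A L) ∧
      u * v = (LinearMap.toMatrix' (σ' ∘ₗ π')).map (algebraMap A L) := by
  classical
  obtain ⟨uL, huL⟩ : ∃ uL : (Fin n → L) →ₗ[L] (Fin n' → L),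
    uL = bcDown L σ' ∘ₗ Θ.toLinearMap ∘ₗ bcUp L π := ⟨_, rfl⟩
  obtain ⟨vL, hvL⟩ : ∃ vL : (Fin n' → L) →ₗ[L] (Fin n → L),
    vL = bcDown L σ ∘ₗ Θ.symm.toLinearMap ∘ₗ bcUp L π' := ⟨_, rfl⟩
  have hvu : vL ∘ₗ uL = Matrix.toLin' ((LinearMap.toMatrix' (σ ∘ₗ π)).map (algebraMap A L)) := by
    refine LinearMap.ext fun w => ?_
    rw [huL, hvL]
    simp only [LinearMap.comp_apply, LinearEquiv.coe_coe]
    rw [bcUp_bcDown, hπσ', LinearMap.baseChange_id, LinearMap.id_apply,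
      LinearEquiv.symm_apply_apply, bcDown_bcUp, Matrix.toLin'_apply]
  have huv : uL ∘ₗ vL = Matrix.toLin' ((LinearMap.toMatrix' (σ' ∘ₗ π')).map (algebraMap A L)) := by
    refine LinearMap.ext fun w => ?_
    rw [huL, hvL]
    simp only [LinearMap.comp_apply, LinearEquiv.coe_coe]
    rw [bcUp_bcDown, hπσ, LinearMap.baseChange_id, LinearMap.id_apply,
      LinearEquiv.apply_symm_apply, bcDown_bcUp, Matrix.toLin'_apply]
  refine ⟨LinearMap.toMatrix' uL, LinearMap.toMatrix' vL, ?_, ?_⟩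
  · rw [← LinearMap.toMatrix'_comp, hvu, LinearMap.toMatrix'_toLin']
  · rw [← LinearMap.toMatrix'_comp, huv, LinearMap.toMatrix'_toLin']

theorem idem_toMatrix' {P : Type u} [AddCommGroup P] [Module A P] {n : ℕ}
    (π : (Fin n → A) →ₗ[A] P) (σ : P →ₗ[A] (Fin n → A)) (hπσ : π ∘ₗ σ = LinearMap.id) :
    LinearMap.toMatrix' (σ ∘ₗ π) * LinearMap.toMatrix' (σ ∘ₗ π) = LinearMap.toMatrix' (σ ∘ₗ π) := by
  rw [← LinearMap.toMatrix'_comp]
  congr 1
  rw [LinearMap.comp_assoc, ← LinearMap.comp_assoc π σ π, hπσ, LinearMap.id_comp]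

/-- local isogeny with a free module, in matrix form -/
theorem hfree_of_projective (P : Type u) [AddCommGroup P] [Module A P] [Module.Finite A P]
    [Module.Projective A P] {n : ℕ}
    (π : (Fin n → A) →ₗ[A] P) (σ : P →ₗ[A] (Fin n → A)) (hπσ : π ∘ₗ σ = LinearMap.id) :
    ∀ (m : Ideal A) [m.IsMaximal], ∃ (r : ℕ) (K : Matrix (Fin n) (Fin r) A)
      (K' : Matrix (Fin r) (Fin n) A) (a : A), a ∉ m ∧
        K * K' = a • LinearMap.toMatrix' (σ ∘ₗ π) ∧
        K' * K = a • (1 : Matrix (Fin r) (Fin r) A) ∧ LinearMap.toMatrix' (σ ∘ₗ π) * K = K := by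
  classical
  intro m hm
  obtain ⟨r, κ, κ', a, ham, h1, h2⟩ := exists_isogeny_free P m
  refine ⟨r, LinearMap.toMatrix' (σ ∘ₗ κ), LinearMap.toMatrix' (κ' ∘ₗ π), a, ham, ?_, ?_, ?_⟩
  · rw [← LinearMap.toMatrix'_comp, ← map_smul]
    congr 1
    rw [LinearMap.comp_assoc, ← LinearMap.comp_assoc π κ' κ, h1, LinearMap.smul_comp,
      LinearMap.id_comp, LinearMap.comp_smul]
  · rw [← LinearMap.toMatrix'_comp, ← LinearMap.toMatrix'_id, ← map_smul]
    congr 1
    rw [LinearMap.comp_assoc, ← LinearMap.comp_assoc κ σ π, hπσ, LinearMap.id_comp, h2]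
  · rw [← LinearMap.toMatrix'_comp]
    congr 1
    rw [LinearMap.comp_assoc, ← LinearMap.comp_assoc κ σ π, hπσ, LinearMap.id_comp]

/-- a rectangular equivalence of the idempotents gives an isomorphism of the modules -/
theorem iso_of_rect_eqv {P P' : Type u} [AddCommGroup P] [Module A P] [AddCommGroup P']
    [Module A P'] {n n' : ℕ}
    (π : (Fin n → A) →ₗ[A] P) (σ : P →ₗ[A] (Fin n → A)) (hπσ : π ∘ₗ σ = LinearMap.id)
    (π' : (Fin n' → A) →ₗ[A] P') (σ' : P' →ₗ[A] (Fin n' → A)) (hπσ' : π' ∘ₗ σ' = LinearMap.id)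
    (x : Matrix (Fin n') (Fin n) A) (y : Matrix (Fin n) (Fin n') A)
    (hxy : x * y = LinearMap.toMatrix' (σ' ∘ₗ π')) (hyx : y * x = LinearMap.toMatrix' (σ ∘ₗ π)) :
    Nonempty (P ≃ₗ[A] P') := by
  classical
  have hq := idem_toMatrix' π σ hπσ
  have hq' := idem_toMatrix' π' σ' hπσ'
  have hq_lin : ∀ w, (LinearMap.toMatrix' (σ ∘ₗ π)).mulVec w = σ (π w) := by
    intro w
    rw [← Matrix.toLin'_apply, Matrix.toLin'_toMatrix']
    rfl
  have hq'_lin : ∀ w, (LinearMap.toMatrix' (σ' ∘ₗ π')).mulVec w = σ' (π' w) := by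
    intro w
    rw [← Matrix.toLin'_apply, Matrix.toLin'_toMatrix']
    rfl
  have hπσa : ∀ z, π (σ z) = z := fun z => LinearMap.congr_fun hπσ z
  have hπσa' : ∀ z, π' (σ' z) = z := fun z => LinearMap.congr_fun hπσ' z
  refine ⟨LinearEquiv.ofLinearMap (π' ∘ₗ Matrix.toLin' x ∘ₗ σ) (π ∘ₗ Matrix.toLin' y ∘ₗ σ') ?_ ?_⟩
  · refine LinearMap.ext fun z => ?_
    simp only [LinearMap.comp_apply, LinearMap.id_apply, Matrix.toLin'_apply]
    rw [← hq_lin, Matrix.mulVec_mulVec, Matrix.mulVec_mulVec]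
    have h1 : x * LinearMap.toMatrix' (σ ∘ₗ π) * y = LinearMap.toMatrix' (σ' ∘ₗ π') := by
      calc x * LinearMap.toMatrix' (σ ∘ₗ π) * y = (x * y) * (x * y) := by
            rw [← hyx]; simp only [Matrix.mul_assoc]
        _ = LinearMap.toMatrix' (σ' ∘ₗ π') := by rw [hxy, hq']
    rw [h1, hq'_lin, hπσa', hπσa']
  · refine LinearMap.ext fun z => ?_
    simp only [LinearMap.comp_apply, LinearMap.id_apply, Matrix.toLin'_apply]
    rw [← hq'_lin, Matrix.mulVec_mulVec, Matrix.mulVec_mulVec]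
    have h1 : y * LinearMap.toMatrix' (σ' ∘ₗ π') * x = LinearMap.toMatrix' (σ ∘ₗ π) := by
      calc y * LinearMap.toMatrix' (σ' ∘ₗ π') * x = (y * x) * (y * x) := by
            rw [← hxy]; simp only [Matrix.mul_assoc]
        _ = LinearMap.toMatrix' (σ ∘ₗ π) := by rw [hyx, hq]
    rw [h1, hq_lin, hπσa, hπσa]

end generalities

open Polynomial

section ps
variable {A : Type u} [CommRing A]

theorem map_C_mul_map_trunc {ι κ ι' : Type*} [Fintype κ] (N : ℕ) (Q : Matrix ι κ A)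
    (u : Matrix κ ι' (PowerSeries A)) :
    Q.map Polynomial.C * u.map (PowerSeries.trunc N) =
      (Q.map (PowerSeries.C (R := A)) * u).map (PowerSeries.trunc N) := by
  refine Matrix.ext fun i j => ?_
  simp only [Matrix.mul_apply, Matrix.map_apply, map_sum, PowerSeries.trunc_C_mul]

theorem map_trunc_mul_map_C {ι κ ι' : Type*} [Fintype κ] (N : ℕ)
    (u : Matrix ι κ (PowerSeries A)) (Q : Matrix κ ι' A) :
    u.map (PowerSeries.trunc N) * Q.map Polynomial.C =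
      (u * Q.map (PowerSeries.C (R := A))).map (PowerSeries.trunc N) := by
  refine Matrix.ext fun i j => ?_
  simp only [Matrix.mul_apply, Matrix.map_apply, map_sum, PowerSeries.trunc_mul_C]

theorem trunc_mul_trunc_eq {ι κ ι' : Type*} [Fintype κ] (N : ℕ)
    (v : Matrix ι κ (PowerSeries A)) (u : Matrix κ ι' (PowerSeries A)) (T : Matrix ι ι' A[X])
    (h : v * u = T.map (fun p : A[X] => (p : PowerSeries A))) :
    ∃ w₀ : Matrix ι ι' A[X],
      v.map (PowerSeries.trunc N) * u.map (PowerSeries.trunc N) = T + (X : A[X]) ^ N • w₀ := by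
  have key : ∀ i j, (X : A[X]) ^ N ∣
      (v.map (PowerSeries.trunc N) * u.map (PowerSeries.trunc N)) i j - T i j := by
    intro i j
    rw [Polynomial.X_pow_dvd_iff]
    intro d hd
    have h1 : PowerSeries.coeff d ((v * u) i j) = (T i j).coeff d := by
      rw [h, Matrix.map_apply, Polynomial.coeff_coe]
    rw [Polynomial.coeff_sub, ← h1, Matrix.mul_apply, Matrix.mul_apply, Polynomial.finsetSum_coeff,
      map_sum, sub_eq_zero]
    refine Finset.sum_congr rfl fun k _ => ?_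
    rw [Matrix.map_apply, Matrix.map_apply, PowerSeries.coeff_mul_eq_coeff_trunc_mul_trunc _ _ hd,
      ← Polynomial.coe_mul, Polynomial.coeff_coe]
  choose w₀ hw₀ using key
  refine ⟨Matrix.of w₀, Matrix.ext fun i j => ?_⟩
  rw [Matrix.add_apply, Matrix.smul_apply, Matrix.of_apply, smul_eq_mul, ← hw₀ i j]
  ring

theorem eq_zero_of_X_pow_mul_mul (g : A[X]) (hg : g.coeff 0 = 1) (e : ℕ) (f : A[X])
    (h : X ^ e * g * f = 0) : f = 0 := by
  have h1 : ((X ^ e * g * f : A[X]) : PowerSeries A) = 0 := by rw [h, Polynomial.coe_zero]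
  rw [Polynomial.coe_mul, Polynomial.coe_mul, Polynomial.coe_pow, Polynomial.coe_X, mul_assoc] at h1
  have h2 : (g : PowerSeries A) * (f : PowerSeries A) = 0 := by
    refine PowerSeries.ext fun d => ?_
    rw [← PowerSeries.coeff_X_pow_mul _ e d, h1, map_zero, map_zero]
  have hu : IsUnit (g : PowerSeries A) := by
    rw [PowerSeries.isUnit_iff_constantCoeff, Polynomial.constantCoeff_coe, hg]
    exact isUnit_one
  have h3 : (f : PowerSeries A) = 0 := (hu.mul_right_eq_zero).mp h2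
  exact Polynomial.coe_injective A (by rw [h3, Polynomial.coe_zero])

theorem det_one_add_X_smul_coeff_zero {n : ℕ} (w : Matrix (Fin n) (Fin n) A[X]) :
    ((1 + (X : A[X]) • w).det).coeff 0 = 1 := by
  rw [Polynomial.coeff_zero_eq_eval_zero, ← Polynomial.coe_evalRingHom, RingHom.map_det]
  have : (evalRingHom (0 : A)).mapMatrix (1 + (X : A[X]) • w) = 1 := by
    refine Matrix.ext fun i j => ?_
    simp [Matrix.add_apply, Matrix.one_apply]
    split_ifs <;> simp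
  rw [this, Matrix.det_one]

theorem eqv_of_powerSeries_isogeny {n n' : ℕ}
    (q : Matrix (Fin n) (Fin n) A) (q' : Matrix (Fin n') (Fin n') A)
    (hq : q * q = q) (hq' : q' * q' = q')
    (hfree : ∀ (m : Ideal A) [m.IsMaximal], ∃ (r : ℕ) (K : Matrix (Fin n) (Fin r) A)
      (K' : Matrix (Fin r) (Fin n) A) (a : A), a ∉ m ∧ K * K' = a • q ∧
        K' * K = a • (1 : Matrix (Fin r) (Fin r) A) ∧ q * K = K)
    (ut : Matrix (Fin n') (Fin n) (PowerSeries A)) (vt : Matrix (Fin n) (Fin n') (PowerSeries A))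
    (e : ℕ) (he : 1 ≤ e)
    (h1 : ut * vt = (PowerSeries.X ^ e : PowerSeries A) • q'.map (PowerSeries.C (R := A)))
    (h2 : vt * ut = (PowerSeries.X ^ e : PowerSeries A) • q.map (PowerSeries.C (R := A)))
    (c1 : q'.map (PowerSeries.C (R := A)) * ut = ut)
    (c2 : ut * q.map (PowerSeries.C (R := A)) = ut)
    (c3 : q.map (PowerSeries.C (R := A)) * vt = vt)
    (c4 : vt * q'.map (PowerSeries.C (R := A)) = vt) :
    ∃ (x : Matrix (Fin n') (Fin n) A) (y : Matrix (Fin n) (Fin n') A), x * y = q' ∧ y * x = q := by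
  classical
  obtain ⟨N, hN⟩ : ∃ N : ℕ, N = e + 1 := ⟨_, rfl⟩
  obtain ⟨α, hα⟩ : ∃ α : Matrix (Fin n') (Fin n) A[X], α = ut.map (PowerSeries.trunc N) := ⟨_, rfl⟩
  obtain ⟨β, hβ⟩ : ∃ β : Matrix (Fin n) (Fin n') A[X], β = vt.map (PowerSeries.trunc N) := ⟨_, rfl⟩
  obtain ⟨Q, hQ⟩ : ∃ Q : Matrix (Fin n) (Fin n) A[X], Q = q.map C := ⟨_, rfl⟩
  obtain ⟨Q', hQ'⟩ : ∃ Q' : Matrix (Fin n') (Fin n') A[X], Q' = q'.map C := ⟨_, rfl⟩
  have hQQ : Q * Q = Q := by rw [hQ, ← Matrix.map_mul, hq]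
  have hQQ' : Q' * Q' = Q' := by rw [hQ', ← Matrix.map_mul, hq']
  have c1' : Q' * α = α := by rw [hQ', hα, map_C_mul_map_trunc, c1]
  have c2' : α * Q = α := by rw [hQ, hα, map_trunc_mul_map_C, c2]
  have c3' : Q * β = β := by rw [hQ, hβ, map_C_mul_map_trunc, c3]
  have c4' : β * Q' = β := by rw [hQ', hβ, map_trunc_mul_map_C, c4]
  have hcoeT : ∀ {m : ℕ} (p : Matrix (Fin m) (Fin m) A),
      ((X : A[X]) ^ e • p.map C).map (fun f : A[X] => (f : PowerSeries A)) =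
        (PowerSeries.X ^ e : PowerSeries A) • p.map (PowerSeries.C (R := A)) := by
    intro m p
    refine Matrix.ext fun i j => ?_
    simp [Matrix.map_apply, Matrix.smul_apply]
    exact mul_comm _ _
  obtain ⟨w₀, hw₀⟩ : ∃ w₀ : Matrix (Fin n) (Fin n) A[X], β * α = (X : A[X]) ^ e • Q + (X : A[X]) ^ N • w₀ := by
    rw [hβ, hα, hQ]
    exact trunc_mul_trunc_eq N vt ut _ (by rw [h2, hcoeT])
  obtain ⟨w₀', hw₀'⟩ : ∃ w₀' : Matrix (Fin n') (Fin n') A[X],
      α * β = (X : A[X]) ^ e • Q' + (X : A[X]) ^ N • w₀' := by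
    rw [hβ, hα, hQ']
    exact trunc_mul_trunc_eq N ut vt _ (by rw [h1, hcoeT])
  -- corner
  obtain ⟨w, hwdef⟩ : ∃ w : Matrix (Fin n) (Fin n) A[X], w = Q * w₀ * Q := ⟨_, rfl⟩
  obtain ⟨w', hwdef'⟩ : ∃ w' : Matrix (Fin n') (Fin n') A[X], w' = Q' * w₀' * Q' := ⟨_, rfl⟩
  have hQw : Q * w = w := by rw [hwdef, ← Matrix.mul_assoc, ← Matrix.mul_assoc, hQQ]
  have hwQ : w * Q = w := by rw [hwdef, Matrix.mul_assoc, hQQ]
  have hQw' : Q' * w' = w' := by rw [hwdef', ← Matrix.mul_assoc, ← Matrix.mul_assoc, hQQ']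
  have hwQ' : w' * Q' = w' := by rw [hwdef', Matrix.mul_assoc, hQQ']
  have hw : β * α = (X : A[X]) ^ e • Q + (X : A[X]) ^ N • w := by
    calc β * α = Q * (β * α) * Q := by rw [← Matrix.mul_assoc Q, c3', Matrix.mul_assoc, c2']
      _ = Q * ((X : A[X]) ^ e • Q + (X : A[X]) ^ N • w₀) * Q := by rw [hw₀]
      _ = (X : A[X]) ^ e • Q + (X : A[X]) ^ N • w := by
        rw [Matrix.mul_add, Matrix.add_mul, Matrix.mul_smul, Matrix.smul_mul, hQQ, hQQ,
          Matrix.mul_smul, Matrix.smul_mul, hwdef]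
  have hw' : α * β = (X : A[X]) ^ e • Q' + (X : A[X]) ^ N • w' := by
    calc α * β = Q' * (α * β) * Q' := by rw [← Matrix.mul_assoc Q', c1', Matrix.mul_assoc, c4']
      _ = Q' * ((X : A[X]) ^ e • Q' + (X : A[X]) ^ N • w₀') * Q' := by rw [hw₀']
      _ = (X : A[X]) ^ e • Q' + (X : A[X]) ^ N • w' := by
        rw [Matrix.mul_add, Matrix.add_mul, Matrix.mul_smul, Matrix.smul_mul, hQQ', hQQ',
          Matrix.mul_smul, Matrix.smul_mul, hwdef']
  obtain ⟨Y, hY⟩ : ∃ Y : Matrix (Fin n) (Fin n) A[X], Y = 1 + (X : A[X]) • w := ⟨_, rfl⟩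
  obtain ⟨Y', hY'⟩ : ∃ Y' : Matrix (Fin n') (Fin n') A[X], Y' = 1 + (X : A[X]) • w' := ⟨_, rfl⟩
  have hβα : β * α = (X : A[X]) ^ e • (Y * Q) := by
    rw [hw, hY, Matrix.add_mul, Matrix.one_mul, Matrix.smul_mul, hwQ, smul_add, smul_smul, hN,
      pow_succ]
  have hαβ : α * β = (X : A[X]) ^ e • (Q' * Y') := by
    rw [hw', hY', Matrix.mul_add, Matrix.mul_one, Matrix.mul_smul, hQw', smul_add, smul_smul, hN,
      pow_succ]
  obtain ⟨g, hg⟩ : ∃ g : A[X], g = Y.det := ⟨_, rfl⟩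
  obtain ⟨g', hg'⟩ : ∃ g' : A[X], g' = Y'.det := ⟨_, rfl⟩
  have hg0 : g.coeff 0 = 1 := by rw [hg, hY]; exact det_one_add_X_smul_coeff_zero w
  have hg0' : g'.coeff 0 = 1 := by rw [hg', hY']; exact det_one_add_X_smul_coeff_zero w'
  obtain ⟨β₃, hβ₃⟩ : ∃ β₃ : Matrix (Fin n) (Fin n') A[X], β₃ = Q * Y.adjugate * β := ⟨_, rfl⟩
  have h2' : β₃ * α = ((X : A[X]) ^ e * g) • Q := by
    rw [hβ₃, Matrix.mul_assoc, hβα, Matrix.mul_smul, Matrix.mul_assoc, ← Matrix.mul_assoc _ Y Q,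
      Matrix.adjugate_mul, Matrix.smul_mul, Matrix.one_mul, Matrix.mul_smul, hQQ, smul_smul, ← hg]
  have c3'' : Q * β₃ = β₃ := by
    rw [hβ₃, ← Matrix.mul_assoc, ← Matrix.mul_assoc, hQQ]
  have c4'' : β₃ * Q' = β₃ := by
    rw [hβ₃, Matrix.mul_assoc, c4']
  obtain ⟨Z, hZ⟩ : ∃ Z : Matrix (Fin n') (Fin n') A[X], Z = α * β₃ - ((X : A[X]) ^ e * g) • Q' := ⟨_, rfl⟩
  have hZα : Z * α = 0 := by
    rw [hZ, Matrix.sub_mul, Matrix.mul_assoc, h2', Matrix.mul_smul, c2', Matrix.smul_mul, c1',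
      sub_self]
  have hZQ' : Z * Q' = Z := by
    rw [hZ, Matrix.sub_mul, Matrix.mul_assoc, c4'', Matrix.smul_mul, hQQ']
  have hZ0 : ((X : A[X]) ^ e * g') • Z = 0 := by
    have h3 : Z * (α * β) = 0 := by rw [← Matrix.mul_assoc, hZα, Matrix.zero_mul]
    rw [hαβ, Matrix.mul_smul, ← Matrix.mul_assoc, hZQ'] at h3
    have h4 : ((X : A[X]) ^ e • (Z * Y')) * Y'.adjugate = 0 := by rw [h3, Matrix.zero_mul]
    rw [Matrix.smul_mul, Matrix.mul_assoc, Matrix.mul_adjugate, Matrix.mul_smul, Matrix.mul_one,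
      smul_smul, ← hg'] at h4
    exact h4
  have hZ00 : Z = 0 := by
    refine Matrix.ext fun i j => ?_
    have := congrFun (congrFun hZ0 i) j
    rw [Matrix.smul_apply, smul_eq_mul, Matrix.zero_apply] at this
    rw [Matrix.zero_apply]
    exact eq_zero_of_X_pow_mul_mul g' hg0' e _ this
  have h1' : α * β₃ = ((X : A[X]) ^ e * g) • Q' := by
    rw [hZ] at hZ00
    exact sub_eq_zero.mp hZ00
  rw [hQ'] at h1' c1' c4''
  rw [hQ] at h2' c2' c3''
  exact eqv_of_isogeny q q' hq hq' hfree α β₃ g e he hg0 h1' h2' c1' c2' c3'' c4''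

end ps

section laurent
variable {A : Type u} [CommRing A]

theorem map_smul_rect {α β : Type*} [Mul α] [Mul β] {m n : Type*} (f : α → β)
    (hf : ∀ a b, f (a * b) = f a * f b) (c : α) (M : Matrix m n α) :
    (c • M).map f = f c • M.map f := Matrix.ext fun _ _ => hf _ _

theorem algebraMap_laurent_eq (q : A) :
    algebraMap A (LaurentSeries A) q =
      algebraMap (PowerSeries A) (LaurentSeries A) (PowerSeries.C q) := rfl

theorem exists_powerSeries_isogeny {n n' : ℕ}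
    (q : Matrix (Fin n) (Fin n) A) (q' : Matrix (Fin n') (Fin n') A)
    (hq : q * q = q) (hq' : q' * q' = q')
    (u : Matrix (Fin n') (Fin n) (LaurentSeries A)) (v : Matrix (Fin n) (Fin n') (LaurentSeries A))
    (hvu : v * u = q.map (algebraMap A (LaurentSeries A)))
    (huv : u * v = q'.map (algebraMap A (LaurentSeries A))) :
    ∃ (ut : Matrix (Fin n') (Fin n) (PowerSeries A)) (vt : Matrix (Fin n) (Fin n') (PowerSeries A))
      (e : ℕ), 1 ≤ e ∧
      ut * vt = (PowerSeries.X ^ e : PowerSeries A) • q'.map (PowerSeries.C (R := A)) ∧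
      vt * ut = (PowerSeries.X ^ e : PowerSeries A) • q.map (PowerSeries.C (R := A)) ∧
      q'.map (PowerSeries.C (R := A)) * ut = ut ∧ ut * q.map (PowerSeries.C (R := A)) = ut ∧
      q.map (PowerSeries.C (R := A)) * vt = vt ∧ vt * q'.map (PowerSeries.C (R := A)) = vt := by
  classical
  obtain ⟨φ, hφ⟩ : ∃ φ : PowerSeries A →+* LaurentSeries A,
    φ = algebraMap (PowerSeries A) (LaurentSeries A) := ⟨_, rfl⟩
  have hφinj : Function.Injective φ := by
    rw [hφ, LaurentSeries.coe_algebraMap]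
    exact HahnSeries.ofPowerSeries_injective
  have hminj : ∀ {ι κ : Type} (M M' : Matrix ι κ (PowerSeries A)), M.map φ = M'.map φ → M = M' := by
    intro ι κ M M' h
    refine Matrix.ext fun i j => hφinj ?_
    have := congrFun (congrFun h i) j
    simpa [Matrix.map_apply] using this
  obtain ⟨QL, hQL⟩ : ∃ QL : Matrix (Fin n) (Fin n) (LaurentSeries A),
    QL = (q.map (PowerSeries.C (R := A))).map φ := ⟨_, rfl⟩
  obtain ⟨QL', hQL'⟩ : ∃ QL' : Matrix (Fin n') (Fin n') (LaurentSeries A),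
    QL' = (q'.map (PowerSeries.C (R := A))).map φ := ⟨_, rfl⟩
  have hQLq : q.map (algebraMap A (LaurentSeries A)) = QL := by
    rw [hQL, hφ]; rfl
  have hQLq' : q'.map (algebraMap A (LaurentSeries A)) = QL' := by
    rw [hQL', hφ]; rfl
  rw [hQLq] at hvu
  rw [hQLq'] at huv
  have hQQ : QL * QL = QL := by rw [hQL, ← Matrix.map_mul, ← Matrix.map_mul, hq]
  have hQQ' : QL' * QL' = QL' := by rw [hQL', ← Matrix.map_mul, ← Matrix.map_mul, hq']
  -- corner over the Laurent series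
  obtain ⟨u', hu'⟩ : ∃ u' : Matrix (Fin n') (Fin n) (LaurentSeries A), u' = QL' * u * QL := ⟨_, rfl⟩
  obtain ⟨v', hv'⟩ : ∃ v' : Matrix (Fin n) (Fin n') (LaurentSeries A), v' = QL * v * QL' := ⟨_, rfl⟩
  have hv'u' : v' * u' = QL := by
    calc v' * u' = QL * (v * (QL' * QL') * u) * QL := by
          rw [hv', hu']; simp only [Matrix.mul_assoc]
      _ = QL * ((v * u) * (v * u)) * QL := by
          rw [hQQ', ← huv]; simp only [Matrix.mul_assoc]
      _ = QL := by rw [hvu, hQQ, hQQ, hQQ]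
  have hu'v' : u' * v' = QL' := by
    calc u' * v' = QL' * (u * (QL * QL) * v) * QL' := by
          rw [hv', hu']; simp only [Matrix.mul_assoc]
      _ = QL' * ((u * v) * (u * v)) * QL' := by
          rw [hQQ, ← hvu]; simp only [Matrix.mul_assoc]
      _ = QL' := by rw [huv, hQQ', hQQ', hQQ']
  have d1 : QL' * u' = u' := by
    rw [hu', ← Matrix.mul_assoc, ← Matrix.mul_assoc, hQQ']
  have d2 : u' * QL = u' := by rw [hu', Matrix.mul_assoc, hQQ]
  have d3 : QL * v' = v' := by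
    rw [hv', ← Matrix.mul_assoc, ← Matrix.mul_assoc, hQQ]
  have d4 : v' * QL' = v' := by rw [hv', Matrix.mul_assoc, hQQ']
  -- clear denominators
  obtain ⟨t₁, ht₁, U, -, hU, -⟩ :=
    matrix_clear₂ (Submonoid.powers (PowerSeries.X : PowerSeries A)) (B := LaurentSeries A) u' u'
  obtain ⟨t₂, ht₂, V, -, hV, -⟩ :=
    matrix_clear₂ (Submonoid.powers (PowerSeries.X : PowerSeries A)) (B := LaurentSeries A) v' v'
  obtain ⟨a, rfl⟩ := ht₁
  obtain ⟨b, rfl⟩ := ht₂
  rw [← hφ] at hU hV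
  obtain ⟨U₁, hU₁⟩ : ∃ U₁ : Matrix (Fin n') (Fin n) (PowerSeries A),
    U₁ = (PowerSeries.X : PowerSeries A) • U := ⟨_, rfl⟩
  have hU₁' : U₁.map φ = φ (PowerSeries.X ^ (a + 1)) • u' := by
    rw [hU₁, map_smul_rect φ (map_mul φ), hU, smul_smul, ← map_mul, ← pow_succ']
  refine ⟨U₁, V, (a + 1) + b, by omega, hminj _ _ ?_, hminj _ _ ?_, hminj _ _ ?_, hminj _ _ ?_,
    hminj _ _ ?_, hminj _ _ ?_⟩
  · rw [Matrix.map_mul, hU₁', hV, map_smul_rect φ (map_mul φ), ← hQL', Matrix.smul_mul, Matrix.mul_smul, smul_smul,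
      hu'v', ← map_mul, ← pow_add]
  · rw [Matrix.map_mul, hU₁', hV, map_smul_rect φ (map_mul φ), ← hQL, Matrix.smul_mul, Matrix.mul_smul, smul_smul,
      hv'u', ← map_mul, ← pow_add, add_comm]
  · rw [Matrix.map_mul, hU₁', ← hQL', Matrix.mul_smul, d1]
  · rw [Matrix.map_mul, hU₁', ← hQL, Matrix.smul_mul, d2]
  · rw [Matrix.map_mul, hV, ← hQL, Matrix.mul_smul, d3]
  · rw [Matrix.map_mul, hV, ← hQL', Matrix.smul_mul, d4]

end laurent


section final
open TensorProduct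

/-- Finite projective modules that become isomorphic over the ring of Laurent series are
isomorphic. -/
theorem nonempty_linearEquiv_of_laurentSeries (R : Type u) [CommRing R]
    (L : Type u) [CommRing L] [Algebra R L] (eL : L ≃ₐ[R] LaurentSeries R)
    (M N : Type u) [AddCommGroup M] [Module R M] [Module.Finite R M] [Module.Projective R M]
    [AddCommGroup N] [Module R N] [Module.Finite R N] [Module.Projective R N]
    (e : L ⊗[R] M ≃ₗ[L] L ⊗[R] N) :
    Nonempty (M ≃ₗ[R] N) := by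
  classical
  obtain ⟨n, π, σ, -, -, hπσ⟩ := Module.Finite.exists_comp_eq_id_of_projective R M
  obtain ⟨n', π', σ', -, -, hπσ'⟩ := Module.Finite.exists_comp_eq_id_of_projective R N
  obtain ⟨u, v, hvu, huv⟩ := exists_matrices_of_baseChange_iso L e π σ hπσ π' σ' hπσ'
  obtain ⟨q, hqdef⟩ : ∃ q : Matrix (Fin n) (Fin n) R, q = LinearMap.toMatrix' (σ ∘ₗ π) := ⟨_, rfl⟩
  obtain ⟨q', hqdef'⟩ : ∃ q' : Matrix (Fin n') (Fin n') R, q' = LinearMap.toMatrix' (σ' ∘ₗ π') :=
    ⟨_, rfl⟩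
  rw [← hqdef] at hvu
  rw [← hqdef'] at huv
  have hq : q * q = q := by rw [hqdef]; exact idem_toMatrix' π σ hπσ
  have hq' : q' * q' = q' := by rw [hqdef']; exact idem_toMatrix' π' σ' hπσ'
  have hmapq : ∀ {m : ℕ} (p : Matrix (Fin m) (Fin m) R),
      (p.map (algebraMap R L)).map (eL : L →+* LaurentSeries R) =
        p.map (algebraMap R (LaurentSeries R)) := by
    intro m p
    refine Matrix.ext fun i j => ?_
    simp only [Matrix.map_apply]
    exact eL.commutes _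
  have hvu₂ : v.map (eL : L →+* LaurentSeries R) * u.map (eL : L →+* LaurentSeries R) =
      q.map (algebraMap R (LaurentSeries R)) := by
    rw [← Matrix.map_mul, hvu, hmapq]
  have huv₂ : u.map (eL : L →+* LaurentSeries R) * v.map (eL : L →+* LaurentSeries R) =
      q'.map (algebraMap R (LaurentSeries R)) := by
    rw [← Matrix.map_mul, huv, hmapq]
  obtain ⟨ut, vt, e₀, he₀, h1, h2, c1, c2, c3, c4⟩ :=
    exists_powerSeries_isogeny q q' hq hq' _ _ hvu₂ huv₂
  have hfree := hfree_of_projective M π σ hπσ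
  rw [← hqdef] at hfree
  obtain ⟨x, y, hxy, hyx⟩ :=
    eqv_of_powerSeries_isogeny q q' hq hq' hfree ut vt e₀ he₀ h1 h2 c1 c2 c3 c4
  rw [hqdef'] at hxy
  rw [hqdef] at hyx
  exact iso_of_rect_eqv π σ hπσ π' σ' hπσ' x y hxy hyx

end final

end Groth.Agent.Lib.Helper11.Horrocks
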