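import Mathlib
import Groth.Agent.Lib.Helper11HorrL

/-!
# Helper11 Horrocks M: approximation arguments for projective modules along `B → B'`
(abstract form of `A[1/t] → Â[1/t]`)
-/

set_option autoImplicit false
universe u

namespace Groth.Agent.Lib.Helper11.Horrocks

open Polynomial

/-- data making an approximation argument work for a ring map `B → B'`:
a subring `O` of "integral" elements of `B'` and an element `t`. -/
structure ApproxData (B B' : Type u) [CommRing B] [CommRing B'] [Algebra B B'] where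
  O : Subring B'
  t : B'
  t_mem : t ∈ O
  denom : ∀ x : B', ∃ k : ℕ, t ^ k * x ∈ O
  dense : ∀ (x : B') (N : ℕ), ∃ b : B, ∃ o ∈ O, x = algebraMap B B' b + t ^ N * o
  unit : ∀ b : B, (∃ o ∈ O, algebraMap B B' b = 1 + t * o) → IsUnit b
  unit' : ∀ o ∈ O, IsUnit (1 + t * o)

section general

theorem exists_det_one_add_smul {S : Type*} [CommRing S] {n : ℕ} (s : S)
    (w : Matrix (Fin n) (Fin n) S) : ∃ c : S, (1 + s • w).det = 1 + s * c := by
  obtain ⟨f, hf⟩ : ∃ f : S[X], f = (1 + (X : S[X]) • w.map C).det := ⟨_, rfl⟩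
  have h0 : f.coeff 0 = 1 := by rw [hf]; exact det_one_add_X_smul_coeff_zero _
  have h1 : f.eval s = (1 + s • w).det := by
    rw [hf, ← Polynomial.coe_evalRingHom, RingHom.map_det]
    congr 1
    refine Matrix.ext fun i j => ?_
    simp [Matrix.add_apply, Matrix.one_apply]
    split_ifs <;> simp [mul_comm]
  refine ⟨(divX f).eval s, ?_⟩
  rw [← h1]
  conv_lhs => rw [← divX_mul_X_add f, h0]
  simp
  ring

end general

section approx
variable {B B' : Type u} [CommRing B] [CommRing B'] [Algebra B B'] (D : ApproxData B B')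

/-- a matrix with integral entries -/
def IsInt {ι κ : Type*} (M : Matrix ι κ B') : Prop := ∀ i j, M i j ∈ D.O

variable {D}

theorem IsInt.mul {ι κ μ : Type*} [Fintype κ] {M : Matrix ι κ B'} {M' : Matrix κ μ B'}
    (h : IsInt D M) (h' : IsInt D M') : IsInt D (M * M') := by
  intro i j
  rw [Matrix.mul_apply]
  exact Subring.sum_mem _ fun k _ => Subring.mul_mem _ (h i k) (h' k j)

theorem IsInt.add {ι κ : Type*} {M M' : Matrix ι κ B'} (h : IsInt D M) (h' : IsInt D M') :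
    IsInt D (M + M') := fun i j => Subring.add_mem _ (h i j) (h' i j)

theorem IsInt.neg {ι κ : Type*} {M : Matrix ι κ B'} (h : IsInt D M) : IsInt D (-M) :=
  fun i j => Subring.neg_mem _ (h i j)

theorem IsInt.smul {ι κ : Type*} {M : Matrix ι κ B'} {c : B'} (hc : c ∈ D.O) (h : IsInt D M) :
    IsInt D (c • M) := fun i j => Subring.mul_mem _ hc (h i j)

theorem pow_t_mem (k : ℕ) : D.t ^ k ∈ D.O := Subring.pow_mem _ D.t_mem k

theorem exists_pow_smul_isInt {ι κ : Type*} [Finite ι] [Finite κ] (M : Matrix ι κ B') :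
    ∃ k : ℕ, ∀ k' : ℕ, k ≤ k' → IsInt D (D.t ^ k' • M) := by
  classical
  cases nonempty_fintype ι
  cases nonempty_fintype κ
  choose k hk using fun i j => D.denom (M i j)
  refine ⟨Finset.univ.sup (fun ij : ι × κ => k ij.1 ij.2), fun k' hk' i j => ?_⟩
  have h1 : k i j ≤ k' :=
    le_trans (Finset.le_sup (f := fun ij : ι × κ => k ij.1 ij.2) (Finset.mem_univ (i, j))) hk'
  rw [Matrix.smul_apply, smul_eq_mul, ← Nat.sub_add_cancel h1, pow_add, mul_assoc]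
  exact Subring.mul_mem _ (pow_t_mem _) (hk i j)

theorem exists_approx {ι κ : Type*} (M : Matrix ι κ B') (N : ℕ) :
    ∃ (M₀ : Matrix ι κ B) (Mt : Matrix ι κ B'), IsInt D Mt ∧
      M = M₀.map (algebraMap B B') + D.t ^ N • Mt := by
  choose b o ho h using fun i j => D.dense (M i j) N
  refine ⟨Matrix.of b, Matrix.of o, fun i j => ho i j, Matrix.ext fun i j => ?_⟩
  rw [Matrix.add_apply, Matrix.smul_apply, Matrix.map_apply, Matrix.of_apply, Matrix.of_apply,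
    smul_eq_mul]
  exact h i j

theorem exists_det_eq {n : ℕ} {w : Matrix (Fin n) (Fin n) B'} (hw : IsInt D w) :
    ∃ o ∈ D.O, (1 + D.t • w).det = 1 + D.t * o := by
  obtain ⟨w', hw'⟩ : ∃ w' : Matrix (Fin n) (Fin n) D.O, w'.map D.O.subtype = w :=
    ⟨Matrix.of fun i j => ⟨w i j, hw i j⟩, Matrix.ext fun i j => rfl⟩
  obtain ⟨c, hc⟩ := exists_det_one_add_smul (⟨D.t, D.t_mem⟩ : D.O) w'
  refine ⟨c, c.2, ?_⟩
  have h1 : (1 + D.t • w) = D.O.subtype.mapMatrix (1 + (⟨D.t, D.t_mem⟩ : D.O) • w') := by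
    rw [← hw']
    refine Matrix.ext fun i j => ?_
    simp [Matrix.add_apply, Matrix.one_apply]
    split_ifs <;> simp
  rw [h1, ← RingHom.map_det, hc]
  simp

theorem isUnit_of_map_eq {n : ℕ} (g : Matrix (Fin n) (Fin n) B) {w : Matrix (Fin n) (Fin n) B'}
    (hw : IsInt D w) (h : g.map (algebraMap B B') = 1 + D.t • w) : IsUnit g := by
  rw [Matrix.isUnit_iff_isUnit_det]
  obtain ⟨o, ho, hdet⟩ := exists_det_eq hw
  refine D.unit _ ⟨o, ho, ?_⟩
  rw [← hdet, ← h]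
  exact RingHom.map_det (algebraMap B B') g

theorem isUnit_one_add_smul {n : ℕ} {w : Matrix (Fin n) (Fin n) B'} (hw : IsInt D w) :
    IsUnit (1 + D.t • w) := by
  rw [Matrix.isUnit_iff_isUnit_det]
  obtain ⟨o, ho, hdet⟩ := exists_det_eq hw
  rw [hdet]
  exact D.unit' o ho

end approx

section main
variable {B B' : Type u} [CommRing B] [CommRing B'] [Algebra B B'] (D : ApproxData B B')

include D in
/-- (b), matrix form: idempotents over `B` that are equivalent over `B'` are equivalent. -/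
theorem eqv_of_approx {n n' : ℕ}
    (p : Matrix (Fin n) (Fin n) B) (p' : Matrix (Fin n') (Fin n') B)
    (hp : p * p = p) (hp' : p' * p' = p')
    (u₀ : Matrix (Fin n') (Fin n) B') (v₀ : Matrix (Fin n) (Fin n') B')
    (hvu₀ : v₀ * u₀ = p.map (algebraMap B B')) (huv₀ : u₀ * v₀ = p'.map (algebraMap B B')) :
    ∃ (x : Matrix (Fin n') (Fin n) B) (y : Matrix (Fin n) (Fin n') B), x * y = p' ∧ y * x = p := by
  classical
  obtain ⟨χ, hχ⟩ : ∃ χ : B →+* B', χ = algebraMap B B' := ⟨_, rfl⟩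
  rw [← hχ] at hvu₀ huv₀
  obtain ⟨P, hP⟩ : ∃ P : Matrix (Fin n) (Fin n) B', P = p.map χ := ⟨_, rfl⟩
  obtain ⟨P', hP'⟩ : ∃ P' : Matrix (Fin n') (Fin n') B', P' = p'.map χ := ⟨_, rfl⟩
  rw [← hP] at hvu₀
  rw [← hP'] at huv₀
  have hPP : P * P = P := by rw [hP, ← Matrix.map_mul, hp]
  have hPP' : P' * P' = P' := by rw [hP', ← Matrix.map_mul, hp']
  -- corner
  obtain ⟨u, hu⟩ : ∃ u : Matrix (Fin n') (Fin n) B', u = P' * u₀ * P := ⟨_, rfl⟩
  obtain ⟨v, hv⟩ : ∃ v : Matrix (Fin n) (Fin n') B', v = P * v₀ * P' := ⟨_, rfl⟩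
  have hvu : v * u = P := by
    calc v * u = P * (v₀ * (P' * P') * u₀) * P := by
          rw [hv, hu]; simp only [Matrix.mul_assoc]
      _ = P * ((v₀ * u₀) * (v₀ * u₀)) * P := by
          rw [hPP', ← huv₀]; simp only [Matrix.mul_assoc]
      _ = P := by rw [hvu₀, hPP, hPP, hPP]
  have huv : u * v = P' := by
    calc u * v = P' * (u₀ * (P * P) * v₀) * P' := by
          rw [hv, hu]; simp only [Matrix.mul_assoc]
      _ = P' * ((u₀ * v₀) * (u₀ * v₀)) * P' := by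
          rw [hPP, ← hvu₀]; simp only [Matrix.mul_assoc]
      _ = P' := by rw [huv₀, hPP', hPP', hPP']
  -- denominators
  obtain ⟨k₁, hk₁⟩ := exists_pow_smul_isInt (D := D) P
  obtain ⟨k₂, hk₂⟩ := exists_pow_smul_isInt (D := D) P'
  obtain ⟨k₃, hk₃⟩ := exists_pow_smul_isInt (D := D) u
  obtain ⟨k₄, hk₄⟩ := exists_pow_smul_isInt (D := D) v
  obtain ⟨k, hk⟩ : ∃ k : ℕ, k = max (max k₁ k₂) (max k₃ k₄) := ⟨_, rfl⟩
  have hkP : IsInt D (D.t ^ k • P) := hk₁ k (by omega)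
  have hkP' : IsInt D (D.t ^ k • P') := hk₂ k (by omega)
  have hku : IsInt D (D.t ^ k • u) := hk₃ k (by omega)
  have hkv : IsInt D (D.t ^ k • v) := hk₄ k (by omega)
  -- approximations
  obtain ⟨ua, ut, hut, hua⟩ := exists_approx (D := D) u (3 * k + 1)
  obtain ⟨va, vt, hvt, hva⟩ := exists_approx (D := D) v (3 * k + 1)
  rw [← hχ] at hua hva
  obtain ⟨u₁, hu₁⟩ : ∃ u₁ : Matrix (Fin n') (Fin n) B, u₁ = p' * ua * p := ⟨_, rfl⟩
  obtain ⟨v₁, hv₁⟩ : ∃ v₁ : Matrix (Fin n) (Fin n') B, v₁ = p * va * p' := ⟨_, rfl⟩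
  obtain ⟨ut₁, hut₁⟩ : ∃ ut₁ : Matrix (Fin n') (Fin n) B',
    ut₁ = (D.t ^ k • P') * ut * (D.t ^ k • P) := ⟨_, rfl⟩
  obtain ⟨vt₁, hvt₁⟩ : ∃ vt₁ : Matrix (Fin n) (Fin n') B',
    vt₁ = (D.t ^ k • P) * vt * (D.t ^ k • P') := ⟨_, rfl⟩
  have hut₁i : IsInt D ut₁ := by rw [hut₁]; exact (hkP'.mul hut).mul hkP
  have hvt₁i : IsInt D vt₁ := by rw [hvt₁]; exact (hkP.mul hvt).mul hkP'
  have hPuP : P' * u * P = u := by
    rw [hu]; simp only [Matrix.mul_assoc]; rw [hPP, ← Matrix.mul_assoc P', hPP']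
  have hPvP : P * v * P' = v := by
    rw [hv]; simp only [Matrix.mul_assoc]; rw [hPP', ← Matrix.mul_assoc P, hPP]
  have hχu₁ : u₁.map χ = u - D.t ^ (k + 1) • ut₁ := by
    have h1 : ua.map χ = u - D.t ^ (3 * k + 1) • ut := by rw [hua]; abel
    rw [hu₁, Matrix.map_mul, Matrix.map_mul, ← hP, ← hP', h1, Matrix.mul_sub, Matrix.sub_mul, hPuP,
      hut₁]
    congr 1
    simp only [Matrix.mul_smul, Matrix.smul_mul, smul_smul]
    congr 1
    ring
  have hχv₁ : v₁.map χ = v - D.t ^ (k + 1) • vt₁ := by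
    have h1 : va.map χ = v - D.t ^ (3 * k + 1) • vt := by rw [hva]; abel
    rw [hv₁, Matrix.map_mul, Matrix.map_mul, ← hP, ← hP', h1, Matrix.mul_sub, Matrix.sub_mul, hPvP,
      hvt₁]
    congr 1
    simp only [Matrix.mul_smul, Matrix.smul_mul, smul_smul]
    congr 1
    ring
  -- the products
  obtain ⟨ω, hω⟩ : ∃ ω : Matrix (Fin n) (Fin n) B',
    ω = -(vt₁ * (D.t ^ k • u) + (D.t ^ k • v) * ut₁) + D.t ^ (2 * k + 1) • (vt₁ * ut₁) := ⟨_, rfl⟩
  have hωi : IsInt D ω := by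
    rw [hω]
    exact ((hvt₁i.mul hku).add (hkv.mul hut₁i)).neg.add (IsInt.smul (pow_t_mem _) (hvt₁i.mul hut₁i))
  obtain ⟨ω', hω'⟩ : ∃ ω' : Matrix (Fin n') (Fin n') B',
    ω' = -(ut₁ * (D.t ^ k • v) + (D.t ^ k • u) * vt₁) + D.t ^ (2 * k + 1) • (ut₁ * vt₁) := ⟨_, rfl⟩
  have hωi' : IsInt D ω' := by
    rw [hω']
    exact ((hut₁i.mul hkv).add (hku.mul hvt₁i)).neg.add (IsInt.smul (pow_t_mem _) (hut₁i.mul hvt₁i))
  have hχvu : (v₁ * u₁).map χ = P + D.t • ω := by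
    rw [Matrix.map_mul, hχu₁, hχv₁, hω, Matrix.sub_mul, Matrix.mul_sub, Matrix.mul_sub, hvu]
    simp only [Matrix.mul_smul, Matrix.smul_mul, smul_smul, smul_add, smul_neg]
    rw [show D.t * D.t ^ k = D.t ^ (k + 1) by ring,
      show D.t * D.t ^ (2 * k + 1) = D.t ^ (k + 1) * D.t ^ (k + 1) by ring]
    abel
  have hχuv : (u₁ * v₁).map χ = P' + D.t • ω' := by
    rw [Matrix.map_mul, hχu₁, hχv₁, hω', Matrix.sub_mul, Matrix.mul_sub, Matrix.mul_sub, huv]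
    simp only [Matrix.mul_smul, Matrix.smul_mul, smul_smul, smul_add, smul_neg]
    rw [show D.t * D.t ^ k = D.t ^ (k + 1) by ring,
      show D.t * D.t ^ (2 * k + 1) = D.t ^ (k + 1) * D.t ^ (k + 1) by ring]
    abel
  obtain ⟨y, hy⟩ : ∃ y : Matrix (Fin n) (Fin n) B, y = 1 + (v₁ * u₁ - p) := ⟨_, rfl⟩
  obtain ⟨y', hy'⟩ : ∃ y' : Matrix (Fin n') (Fin n') B, y' = 1 + (u₁ * v₁ - p') := ⟨_, rfl⟩
  have hyu : IsUnit y := by
    refine isUnit_of_map_eq (D := D) y hωi ?_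
    rw [← hχ, hy, Matrix.map_add _ (map_add χ), Matrix.map_sub _ (map_sub χ), hχvu, ← hP,
      Matrix.map_one _ (map_zero χ) (map_one χ)]
    abel
  have hyu' : IsUnit y' := by
    refine isUnit_of_map_eq (D := D) y' hωi' ?_
    rw [← hχ, hy', Matrix.map_add _ (map_add χ), Matrix.map_sub _ (map_sub χ), hχuv, ← hP',
      Matrix.map_one _ (map_zero χ) (map_one χ)]
    abel
  obtain ⟨yu, hyu⟩ := hyu
  obtain ⟨yu', hyu'⟩ := hyu'
  obtain ⟨yi, hyi⟩ : ∃ yi : Matrix (Fin n) (Fin n) B, yi = ((yu⁻¹ : (Matrix (Fin n) (Fin n) B)ˣ) :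
    Matrix (Fin n) (Fin n) B) := ⟨_, rfl⟩
  obtain ⟨yi', hyi'⟩ : ∃ yi' : Matrix (Fin n') (Fin n') B,
    yi' = ((yu'⁻¹ : (Matrix (Fin n') (Fin n') B)ˣ) : Matrix (Fin n') (Fin n') B) := ⟨_, rfl⟩
  have hyiy : yi * y = 1 := by rw [hyi, ← hyu]; exact yu.inv_mul
  have hyyi' : y' * yi' = 1 := by rw [hyi', ← hyu']; exact yu'.mul_inv
  have hpv₁ : p * v₁ = v₁ := by
    rw [hv₁, ← Matrix.mul_assoc, ← Matrix.mul_assoc, hp]
  have hv₁p' : v₁ * p' = v₁ := by rw [hv₁, Matrix.mul_assoc, hp']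
  have hp'u₁ : p' * u₁ = u₁ := by
    rw [hu₁, ← Matrix.mul_assoc, ← Matrix.mul_assoc, hp']
  have hu₁p : u₁ * p = u₁ := by rw [hu₁, Matrix.mul_assoc, hp]
  have hyp : y * p = v₁ * u₁ := by
    rw [hy, Matrix.add_mul, Matrix.sub_mul, Matrix.one_mul, hp, Matrix.mul_assoc, hu₁p]
    abel
  have hp'y' : p' * y' = u₁ * v₁ := by
    rw [hy', Matrix.mul_add, Matrix.mul_sub, Matrix.mul_one, hp', ← Matrix.mul_assoc, hp'u₁]
    abel
  obtain ⟨β, hβ⟩ : ∃ β : Matrix (Fin n) (Fin n') B, β = yi * v₁ := ⟨_, rfl⟩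
  have hβu : β * u₁ = p := by
    rw [hβ, Matrix.mul_assoc, ← hyp, ← Matrix.mul_assoc, hyiy, Matrix.one_mul]
  have hβp' : β * p' = β := by rw [hβ, Matrix.mul_assoc, hv₁p']
  obtain ⟨Z, hZ⟩ : ∃ Z : Matrix (Fin n') (Fin n') B, Z = u₁ * β - p' := ⟨_, rfl⟩
  have hZu : Z * u₁ = 0 := by
    rw [hZ, Matrix.sub_mul, Matrix.mul_assoc, hβu, hu₁p, hp'u₁, sub_self]
  have hZp' : Z * p' = Z := by
    rw [hZ, Matrix.sub_mul, Matrix.mul_assoc, hβp', hp']
  have hZy' : Z * y' = 0 := by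
    calc Z * y' = Z * (p' * y') := by rw [← Matrix.mul_assoc, hZp']
      _ = (Z * u₁) * v₁ := by rw [hp'y', Matrix.mul_assoc]
      _ = 0 := by rw [hZu, Matrix.zero_mul]
  have hZ0 : Z = 0 := by
    calc Z = Z * (y' * yi') := by rw [hyyi', Matrix.mul_one]
      _ = 0 := by rw [← Matrix.mul_assoc, hZy', Matrix.zero_mul]
  refine ⟨u₁, β, ?_, hβu⟩
  rw [hZ] at hZ0
  exact sub_eq_zero.mp hZ0

include D in
/-- (c), matrix form: a split surjection `B'^m → B'^n` can be approximated by one over `B`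
with equivalent kernel projector. -/
theorem stablyFree_approx {n m : ℕ}
    (G : Matrix (Fin n) (Fin m) B') (H : Matrix (Fin m) (Fin n) B') (hGH : G * H = 1) :
    ∃ (G₀ : Matrix (Fin n) (Fin m) B) (H₁ : Matrix (Fin m) (Fin n) B), G₀ * H₁ = 1 ∧
      ∃ (x y : Matrix (Fin m) (Fin m) B'), x * y = 1 - H * G ∧
        y * x = (1 - H₁ * G₀).map (algebraMap B B') := by
  classical
  obtain ⟨χ, hχ⟩ : ∃ χ : B →+* B', χ = algebraMap B B' := ⟨_, rfl⟩
  obtain ⟨k₁, hk₁⟩ := exists_pow_smul_isInt (D := D) G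
  obtain ⟨k₂, hk₂⟩ := exists_pow_smul_isInt (D := D) H
  obtain ⟨k, hk⟩ : ∃ k : ℕ, k = max k₁ k₂ := ⟨_, rfl⟩
  have hkG : IsInt D (D.t ^ k • G) := hk₁ k (by omega)
  have hkH : IsInt D (D.t ^ k • H) := hk₂ k (by omega)
  obtain ⟨G₀, Gt, hGt, hG₀⟩ := exists_approx (D := D) G (k + 1)
  obtain ⟨H₀, Ht, hHt, hH₀⟩ := exists_approx (D := D) H (k + 1)
  rw [← hχ] at hG₀ hH₀ ⊢
  have hG₀' : G₀.map χ = G - D.t ^ (k + 1) • Gt := by rw [hG₀]; abel
  have hH₀' : H₀.map χ = H - D.t ^ (k + 1) • Ht := by rw [hH₀]; abel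
  obtain ⟨ω, hω⟩ : ∃ ω : Matrix (Fin n) (Fin n) B',
    ω = -(Gt * (D.t ^ k • H) + (D.t ^ k • G) * Ht) + D.t ^ (2 * k + 1) • (Gt * Ht) := ⟨_, rfl⟩
  have hωi : IsInt D ω := by
    rw [hω]
    exact ((hGt.mul hkH).add (hkG.mul hHt)).neg.add (IsInt.smul (pow_t_mem _) (hGt.mul hHt))
  have hχGH : (G₀ * H₀).map χ = 1 + D.t • ω := by
    rw [Matrix.map_mul, hG₀', hH₀', hω, Matrix.sub_mul, Matrix.mul_sub, Matrix.mul_sub, hGH]
    simp only [Matrix.mul_smul, Matrix.smul_mul, smul_smul, smul_add, smul_neg]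
    rw [show D.t * D.t ^ k = D.t ^ (k + 1) by ring,
      show D.t * D.t ^ (2 * k + 1) = D.t ^ (k + 1) * D.t ^ (k + 1) by ring]
    abel
  have hyu : IsUnit (G₀ * H₀) := isUnit_of_map_eq (D := D) _ hωi (by rw [← hχ]; exact hχGH)
  obtain ⟨yu, hyu⟩ := hyu
  obtain ⟨yi, hyi⟩ : ∃ yi : Matrix (Fin n) (Fin n) B, yi = ((yu⁻¹ : (Matrix (Fin n) (Fin n) B)ˣ) :
    Matrix (Fin n) (Fin n) B) := ⟨_, rfl⟩
  have hyyi : (G₀ * H₀) * yi = 1 := by rw [hyi, ← hyu]; exact yu.mul_inv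
  obtain ⟨H₁, hH₁⟩ : ∃ H₁ : Matrix (Fin m) (Fin n) B, H₁ = H₀ * yi := ⟨_, rfl⟩
  have hG₀H₁ : G₀ * H₁ = 1 := by rw [hH₁, ← Matrix.mul_assoc, hyyi]
  -- the comparison automorphism
  obtain ⟨ω₂, hω₂⟩ : ∃ ω₂ : Matrix (Fin m) (Fin m) B', ω₂ = -((D.t ^ k • H) * Gt) := ⟨_, rfl⟩
  have hω₂i : IsInt D ω₂ := by rw [hω₂]; exact (hkH.mul hGt).neg
  obtain ⟨z, hz⟩ : ∃ z : Matrix (Fin m) (Fin m) B', z = 1 + H * (G₀.map χ - G) := ⟨_, rfl⟩
  have hz' : z = 1 + D.t • ω₂ := by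
    rw [hz, hG₀', hω₂]
    simp only [Matrix.mul_smul, Matrix.smul_mul, smul_smul, smul_neg, sub_sub_cancel_left,
      Matrix.mul_neg]
    rw [show D.t * D.t ^ k = D.t ^ (k + 1) by ring]
  have hzu : IsUnit z := by rw [hz']; exact isUnit_one_add_smul hω₂i
  obtain ⟨zu, hzu⟩ := hzu
  obtain ⟨zi, hzi⟩ : ∃ zi : Matrix (Fin m) (Fin m) B', zi = ((zu⁻¹ : (Matrix (Fin m) (Fin m) B')ˣ) :
    Matrix (Fin m) (Fin m) B') := ⟨_, rfl⟩
  have hzzi : z * zi = 1 := by rw [hzi, ← hzu]; exact zu.mul_inv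
  have hziz : zi * z = 1 := by rw [hzi, ← hzu]; exact zu.inv_mul
  have hGz : G * z = G₀.map χ := by
    rw [hz, Matrix.mul_add, Matrix.mul_one, ← Matrix.mul_assoc, hGH, Matrix.one_mul]
    abel
  obtain ⟨P₀, hP₀⟩ : ∃ P₀ : Matrix (Fin m) (Fin m) B', P₀ = (1 - H₁ * G₀).map χ := ⟨_, rfl⟩
  have hP₀' : P₀ = 1 - H₁.map χ * G₀.map χ := by
    rw [hP₀, Matrix.map_sub _ (map_sub χ), Matrix.map_one _ (map_zero χ) (map_one χ),
      Matrix.map_mul]
  have hG₀P₀ : G₀.map χ * P₀ = 0 := by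
    rw [hP₀', Matrix.mul_sub, Matrix.mul_one, ← Matrix.mul_assoc, ← Matrix.map_mul, hG₀H₁,
      Matrix.map_one _ (map_zero χ) (map_one χ), Matrix.one_mul, sub_self]
  obtain ⟨P, hP⟩ : ∃ P : Matrix (Fin m) (Fin m) B', P = 1 - H * G := ⟨_, rfl⟩
  have hGP : G * P = 0 := by
    rw [hP, Matrix.mul_sub, Matrix.mul_one, ← Matrix.mul_assoc, hGH, Matrix.one_mul, sub_self]
  have hG₀zi : G₀.map χ * zi = G := by
    rw [← hGz, Matrix.mul_assoc, hzzi, Matrix.mul_one]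
  refine ⟨G₀, H₁, hG₀H₁, z * P₀, zi * P, ?_, ?_⟩
  · -- x * y = P
    have h1 : P₀ * (zi * P) = zi * P := by
      rw [hP₀', Matrix.sub_mul, Matrix.one_mul, Matrix.mul_assoc, ← Matrix.mul_assoc (G₀.map χ),
        hG₀zi, hGP, Matrix.mul_zero, sub_zero]
    rw [Matrix.mul_assoc, h1, ← Matrix.mul_assoc, hzzi, Matrix.one_mul, hP]
  · -- y * x = P₀
    have h1 : P * (z * P₀) = z * P₀ := by
      rw [hP, Matrix.sub_mul, Matrix.one_mul, Matrix.mul_assoc, ← Matrix.mul_assoc G, hGz, hG₀P₀,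
        Matrix.mul_zero, sub_zero]
    rw [Matrix.mul_assoc, h1, ← Matrix.mul_assoc, hziz, Matrix.one_mul, hP₀]

end main

section modules
open TensorProduct
variable {B B' : Type u} [CommRing B] [CommRing B'] [Algebra B B'] (D : ApproxData B B')

include D in
/-- (b): finite projective `B`-modules that become isomorphic over `B'` are isomorphic. -/
theorem nonempty_linearEquiv_of_approx
    (M N : Type u) [AddCommGroup M] [Module B M] [Module.Finite B M] [Module.Projective B M]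
    [AddCommGroup N] [Module B N] [Module.Finite B N] [Module.Projective B N]
    (Θ : B' ⊗[B] M ≃ₗ[B'] B' ⊗[B] N) : Nonempty (M ≃ₗ[B] N) := by
  classical
  obtain ⟨n, π, σ, -, -, hπσ⟩ := Module.Finite.exists_comp_eq_id_of_projective B M
  obtain ⟨n', π', σ', -, -, hπσ'⟩ := Module.Finite.exists_comp_eq_id_of_projective B N
  obtain ⟨u, v, hvu, huv⟩ := exists_matrices_of_baseChange_iso B' Θ π σ hπσ π' σ' hπσ'
  obtain ⟨x, y, hxy, hyx⟩ := eqv_of_approx D _ _ (idem_toMatrix' π σ hπσ)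
    (idem_toMatrix' π' σ' hπσ') u v hvu huv
  exact iso_of_rect_eqv π σ hπσ π' σ' hπσ' x y hxy hyx

include D in
/-- (c): a stably free `B'`-module is the base change of a stably free `B`-module. -/
theorem exists_stablyFree_descent (M' : Type u) [AddCommGroup M'] [Module B' M'] (n m : ℕ)
    (e : (M' × (Fin n → B')) ≃ₗ[B'] (Fin m → B')) :
    ∃ (M : Type u) (_ : AddCommGroup M) (_ : Module B M), Module.Finite B M ∧
      (∃ n m : ℕ, Nonempty ((M × (Fin n → B)) ≃ₗ[B] (Fin m → B))) ∧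
      Nonempty (B' ⊗[B] M ≃ₗ[B'] M') := by
  classical
  obtain ⟨Gl, hGl⟩ : ∃ Gl : (Fin m → B') →ₗ[B'] (Fin n → B'),
    Gl = LinearMap.snd B' M' (Fin n → B') ∘ₗ e.symm.toLinearMap := ⟨_, rfl⟩
  obtain ⟨Hl, hHl⟩ : ∃ Hl : (Fin n → B') →ₗ[B'] (Fin m → B'),
    Hl = e.toLinearMap ∘ₗ LinearMap.inr B' M' (Fin n → B') := ⟨_, rfl⟩
  obtain ⟨π', hπ'⟩ : ∃ π' : (Fin m → B') →ₗ[B'] M',
    π' = LinearMap.fst B' M' (Fin n → B') ∘ₗ e.symm.toLinearMap := ⟨_, rfl⟩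
  obtain ⟨σ', hσ'⟩ : ∃ σ' : M' →ₗ[B'] (Fin m → B'),
    σ' = e.toLinearMap ∘ₗ LinearMap.inl B' M' (Fin n → B') := ⟨_, rfl⟩
  have hπσ' : π' ∘ₗ σ' = LinearMap.id := by
    refine LinearMap.ext fun z => ?_
    rw [hπ', hσ']
    simp
  have hGH : Gl ∘ₗ Hl = LinearMap.id := by
    refine LinearMap.ext fun z => ?_
    rw [hGl, hHl]
    simp
  have hsum : σ' ∘ₗ π' + Hl ∘ₗ Gl = LinearMap.id := by
    refine LinearMap.ext fun w => ?_
    rw [hGl, hHl, hπ', hσ']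
    simp only [LinearMap.add_apply, LinearMap.comp_apply, LinearEquiv.coe_coe, LinearMap.fst_apply,
      LinearMap.snd_apply, LinearMap.inl_apply, LinearMap.inr_apply, LinearMap.id_apply]
    rw [← map_add, Prod.mk_add_mk, add_zero, zero_add, Prod.mk.eta, LinearEquiv.apply_symm_apply]
  obtain ⟨G, hG⟩ : ∃ G : Matrix (Fin n) (Fin m) B', G = LinearMap.toMatrix' Gl := ⟨_, rfl⟩
  obtain ⟨H, hH⟩ : ∃ H : Matrix (Fin m) (Fin n) B', H = LinearMap.toMatrix' Hl := ⟨_, rfl⟩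
  have hGHm : G * H = 1 := by
    rw [hG, hH, ← LinearMap.toMatrix'_comp, hGH, LinearMap.toMatrix'_id]
  have hq' : LinearMap.toMatrix' (σ' ∘ₗ π') = 1 - H * G := by
    rw [hG, hH, ← LinearMap.toMatrix'_comp, ← LinearMap.toMatrix'_id, ← hsum, map_add]
    abel
  obtain ⟨G₀, H₁, hG₀H₁, x, y, hxy, hyx⟩ := stablyFree_approx D G H hGHm
  -- the module over `B`
  obtain ⟨K, hK⟩ : ∃ K : Submodule B (Fin m → B), K = LinearMap.ker (Matrix.toLin' G₀) := ⟨_, rfl⟩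
  have hmemK : ∀ w, w ∈ K ↔ G₀.mulVec w = 0 := by
    intro w; rw [hK, LinearMap.mem_ker, Matrix.toLin'_apply]
  have hPK : ∀ w, Matrix.toLin' (1 - H₁ * G₀) w ∈ K := by
    intro w
    rw [hmemK, Matrix.toLin'_apply, Matrix.mulVec_mulVec, Matrix.mul_sub, Matrix.mul_one,
      ← Matrix.mul_assoc, hG₀H₁, Matrix.one_mul, sub_self, Matrix.zero_mulVec]
  obtain ⟨π, hπ⟩ : ∃ π : (Fin m → B) →ₗ[B] K,
    π = (Matrix.toLin' (1 - H₁ * G₀)).codRestrict K hPK := ⟨_, rfl⟩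
  obtain ⟨σ, hσ⟩ : ∃ σ : K →ₗ[B] (Fin m → B), σ = K.subtype := ⟨_, rfl⟩
  have hσπ : σ ∘ₗ π = Matrix.toLin' (1 - H₁ * G₀) := by
    rw [hσ, hπ, LinearMap.subtype_comp_codRestrict]
  have hπσ : π ∘ₗ σ = LinearMap.id := by
    refine LinearMap.ext fun κ => Subtype.ext ?_
    have hκ : G₀.mulVec (κ : Fin m → B) = 0 := (hmemK _).mp κ.2
    rw [hσ, hπ]
    simp only [LinearMap.comp_apply, LinearMap.codRestrict_apply, Submodule.subtype_apply,
      LinearMap.id_apply, Matrix.toLin'_apply]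
    rw [Matrix.sub_mulVec, Matrix.one_mulVec, ← Matrix.mulVec_mulVec, hκ, Matrix.mulVec_zero,
      sub_zero]
  have hq : LinearMap.toMatrix' (σ ∘ₗ π) = 1 - H₁ * G₀ := by
    rw [hσπ, LinearMap.toMatrix'_toLin']
  have hfin : Module.Finite B K := by
    refine Module.Finite.of_surjective π ?_
    intro κ
    exact ⟨σ κ, LinearMap.congr_fun hπσ κ⟩
  refine ⟨K, inferInstance, inferInstance, hfin, ⟨n, m, ?_⟩, ?_⟩
  · refine ⟨LinearEquiv.ofLinear (LinearMap.coprod σ (Matrix.toLin' H₁))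
      (LinearMap.prod π (Matrix.toLin' G₀)) ?_ ?_⟩
    · refine LinearMap.ext fun w => ?_
      show σ (π w) + Matrix.toLin' H₁ (Matrix.toLin' G₀ w) = w
      rw [← LinearMap.comp_apply, hσπ, Matrix.toLin'_apply, Matrix.toLin'_apply,
        Matrix.toLin'_apply, Matrix.mulVec_mulVec, ← Matrix.add_mulVec, sub_add_cancel,
        Matrix.one_mulVec]
    · refine LinearMap.ext fun κc => ?_
      obtain ⟨κ, c⟩ := κc
      have hκ : G₀.mulVec (κ : Fin m → B) = 0 := (hmemK _).mp κ.2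
      have h1 : G₀.mulVec ((κ : Fin m → B) + H₁.mulVec c) = c := by
        rw [Matrix.mulVec_add, hκ, zero_add, Matrix.mulVec_mulVec, hG₀H₁, Matrix.one_mulVec]
      show (π (σ κ + Matrix.toLin' H₁ c), Matrix.toLin' G₀ (σ κ + Matrix.toLin' H₁ c)) = (κ, c)
      have hσκ : σ κ = (κ : Fin m → B) := by rw [hσ]; rfl
      rw [hσκ, Matrix.toLin'_apply, Matrix.toLin'_apply, h1]
      refine Prod.ext (Subtype.ext ?_) rfl
      rw [hπ]
      simp only [LinearMap.codRestrict_apply, Matrix.toLin'_apply]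
      rw [Matrix.sub_mulVec, Matrix.one_mulVec, ← Matrix.mulVec_mulVec, h1]
      abel
  · -- the base change
    have hbc : bcUp B' π ∘ₗ bcDown B' σ = LinearMap.id := by
      refine LinearMap.ext fun z => ?_
      rw [LinearMap.comp_apply, bcUp_bcDown, hπσ, LinearMap.baseChange_id]
    have hqbc : LinearMap.toMatrix' (bcDown B' σ ∘ₗ bcUp B' π) =
        (1 - H₁ * G₀).map (algebraMap B B') := by
      rw [← hq, ← LinearMap.toMatrix'_toLin' ((LinearMap.toMatrix' (σ ∘ₗ π)).map (algebraMap B B'))]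
      congr 1
      refine LinearMap.ext fun w => ?_
      rw [LinearMap.comp_apply, bcDown_bcUp, Matrix.toLin'_apply]
    exact iso_of_rect_eqv (bcUp B' π) (bcDown B' σ) hbc π' σ' hπσ' x y (by rw [hq', hxy])
      (by rw [hqbc, hyx])

end modules

end Groth.Agent.Lib.Helper11.Horrocks
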