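import Mathlib
import Groth.Agent.Lib.Helper11HensIdemA
import Groth.Agent.Lib.Helper11HorrM

/-!
# Helper11 HensIdemB: idempotent matrices over `B'` are equivalent to idempotent matrices over `B`
(for approximation data over a Henselian pair)
-/

set_option autoImplicit false
universe u

open Polynomial

namespace Groth.Agent.Lib.Helper11.HensIdem

open Groth.Agent.Lib.Helper11.Horrocks

section HensCore
variable {A : Type u} [CommRing A] (t : A)
variable {B B' : Type u} [CommRing B] [CommRing B'] [Algebra A B] [Algebra B B']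
  (D : ApproxData B B')

variable {D} in
theorem isInt_one {n : ℕ} : IsInt D (1 : Matrix (Fin n) (Fin n) B') := by
  intro i j
  rw [Matrix.one_apply]
  split_ifs
  · exact Subring.one_mem _
  · exact Subring.zero_mem _

variable {D} in
theorem isInt_sum {ι κ α : Type*} (s : Finset α) (M : α → Matrix ι κ B')
    (h : ∀ a ∈ s, IsInt D (M a)) : IsInt D (∑ a ∈ s, M a) := by
  intro i j
  rw [Matrix.sum_apply]
  exact Subring.sum_mem _ fun a ha => h a ha i j

variable {D} in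
/-- powers of a matrix with bounded denominators -/
theorem isInt_pow {n : ℕ} (Y : Matrix (Fin n) (Fin n) B') (k : ℕ) (hY : IsInt D (D.t ^ k • Y))
    (i : ℕ) : IsInt D (D.t ^ (k * i) • Y ^ i) := by
  induction i with
  | zero =>
    rw [Nat.mul_zero, pow_zero, pow_zero, one_smul]
    exact isInt_one
  | succ i ih =>
    have e : D.t ^ (k * (i + 1)) • Y ^ (i + 1) = (D.t ^ (k * i) • Y ^ i) * (D.t ^ k • Y) := by
      rw [Matrix.smul_mul, Matrix.mul_smul, smul_smul, ← pow_add, pow_succ, Nat.mul_succ]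
    rw [e]
    exact ih.mul hY

variable (hOA : ∀ a : A, algebraMap B B' (algebraMap A B a) ∈ D.O)

include hOA in
/-- polynomial expressions of a matrix with bounded denominators -/
theorem isInt_aeval {n : ℕ} (e₀ : Matrix (Fin n) (Fin n) B) (k : ℕ)
    (hY : IsInt D (D.t ^ k • e₀.map (algebraMap B B'))) (p : A[X]) (r : ℕ) (hp : p.natDegree ≤ r) :
    IsInt D (D.t ^ (k * r) • (aeval e₀ p).map (algebraMap B B')) := by
  rw [aeval_eq_sum_range' (Nat.lt_succ_of_le hp)]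
  have hmap : (∑ i ∈ Finset.range (r + 1), p.coeff i • e₀ ^ i).map (algebraMap B B') =
      ∑ i ∈ Finset.range (r + 1),
        (algebraMap B B' (algebraMap A B (p.coeff i))) • (e₀.map (algebraMap B B')) ^ i := by
    have h1 : ∀ M : Matrix (Fin n) (Fin n) B, M.map (algebraMap B B') =
        (algebraMap B B').mapMatrix M := fun M => rfl
    rw [h1, map_sum]
    refine Finset.sum_congr rfl fun i _ => ?_
    rw [h1, ← map_pow]
    refine Matrix.ext fun a b => ?_
    simp only [RingHom.mapMatrix_apply, Matrix.map_apply, Matrix.smul_apply]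
    rw [Algebra.smul_def, map_mul, smul_eq_mul]
  rw [hmap, Finset.smul_sum]
  refine isInt_sum _ _ fun i hi => ?_
  have hir : i ≤ r := Nat.lt_succ_iff.mp (Finset.mem_range.mp hi)
  have e : D.t ^ (k * r) • (algebraMap B B' (algebraMap A B (p.coeff i))) •
      (e₀.map (algebraMap B B')) ^ i =
      (algebraMap B B' (algebraMap A B (p.coeff i)) * D.t ^ (k * (r - i))) •
        (D.t ^ (k * i) • (e₀.map (algebraMap B B')) ^ i) := by
    rw [smul_smul, smul_smul]
    congr 1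
    have : k * r = k * (r - i) + k * i := by rw [← Nat.mul_add, Nat.sub_add_cancel hir]
    rw [this, pow_add]
    ring
  rw [e]
  exact IsInt.smul (Subring.mul_mem _ (hOA _) (pow_t_mem _)) (isInt_pow _ k hY i)

variable (hP : ∀ (b : B) (m : ℕ) (o : B'), o ∈ D.O → algebraMap B B' b = D.t ^ m * o →
  ∃ a : A, b = algebraMap A B (t ^ m * a))

include hP in
/-- pulling back integrality to `A` -/
theorem exists_matrix_of_isInt {ι κ : Type*} (M₀ : Matrix ι κ B) (m : ℕ) (w : Matrix ι κ B')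
    (hw : IsInt D w) (h : M₀.map (algebraMap B B') = D.t ^ m • w) :
    ∃ Δ : Matrix ι κ A, M₀ = (algebraMap A B (t ^ m)) • Δ.map (algebraMap A B) := by
  have h1 : ∀ i j, ∃ a : A, M₀ i j = algebraMap A B (t ^ m * a) := by
    intro i j
    refine hP (M₀ i j) m (w i j) (hw i j) ?_
    have := congrFun (congrFun h i) j
    rw [Matrix.map_apply, Matrix.smul_apply, smul_eq_mul] at this
    exact this
  choose a ha using h1
  refine ⟨Matrix.of a, Matrix.ext fun i j => ?_⟩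
  rw [Matrix.smul_apply, Matrix.map_apply, Matrix.of_apply, smul_eq_mul, ha, map_mul]

variable [hH : HenselianRing A (Ideal.span {t})]

include hOA hP hH in
/-- every idempotent matrix over `B'` is equivalent to the image of an idempotent matrix over `B` -/
theorem exists_idem_approx {n : ℕ} (e : Matrix (Fin n) (Fin n) B') (he : e * e = e) :
    ∃ (e₁ : Matrix (Fin n) (Fin n) B) (x y : Matrix (Fin n) (Fin n) B'),
      e₁ * e₁ = e₁ ∧ x * y = e ∧ y * x = e₁.map (algebraMap B B') := by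
  classical
  obtain ⟨χ, hχ⟩ : ∃ χ : B →+* B', χ = algebraMap B B' := ⟨_, rfl⟩
  obtain ⟨k, hk⟩ := exists_pow_smul_isInt (D := D) e
  have hke : IsInt D (D.t ^ k • e) := hk k le_rfl
  obtain ⟨r, hr⟩ : ∃ r : ℕ, r = n * 2 := ⟨_, rfl⟩
  obtain ⟨m, hm⟩ : ∃ m : ℕ, m = k * r + k + 1 := ⟨_, rfl⟩
  obtain ⟨N, hN⟩ : ∃ N : ℕ, N = m + k := ⟨_, rfl⟩
  obtain ⟨e₀, ε, hε, he₀⟩ := exists_approx (D := D) e N
  rw [← hχ] at he₀
  obtain ⟨Y, hY⟩ : ∃ Y : Matrix (Fin n) (Fin n) B', Y = e₀.map χ := ⟨_, rfl⟩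
  have hYe : Y = e - D.t ^ N • ε := by rw [hY, he₀]; abel
  have hkY : IsInt D (D.t ^ k • Y) := by
    rw [hYe, smul_sub, smul_smul, ← pow_add]
    exact hke.add (IsInt.smul (pow_t_mem _) hε).neg |> fun h => by rwa [← sub_eq_add_neg] at h
  -- the defect
  obtain ⟨δ, hδ⟩ : ∃ δ : Matrix (Fin n) (Fin n) B, δ = e₀ * e₀ - e₀ := ⟨_, rfl⟩
  obtain ⟨ω, hω⟩ : ∃ ω : Matrix (Fin n) (Fin n) B',
    ω = -((D.t ^ k • e) * ε + ε * (D.t ^ k • e)) + D.t ^ (N + k) • (ε * ε) + D.t ^ k • ε := ⟨_, rfl⟩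
  have hωi : IsInt D ω := by
    rw [hω]
    exact (((hke.mul hε).add (hε.mul hke)).neg.add (IsInt.smul (pow_t_mem _) (hε.mul hε))).add
      (IsInt.smul (pow_t_mem _) hε)
  have hδmap : δ.map χ = D.t ^ m • ω := by
    rw [hδ, Matrix.map_sub _ (map_sub χ), Matrix.map_mul, ← hY, hYe, hω]
    simp only [Matrix.sub_mul, Matrix.mul_sub, Matrix.smul_mul, Matrix.mul_smul, smul_add,
      smul_neg, smul_smul, he]
    rw [show D.t ^ m * D.t ^ (N + k) = D.t ^ N * D.t ^ N by
        rw [← pow_add, ← pow_add, hN]; congr 1; ring,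
      show D.t ^ m * D.t ^ k = D.t ^ N by rw [← pow_add, hN]]
    simp only [smul_sub, smul_smul]
    abel
  obtain ⟨Δ, hΔ⟩ := exists_matrix_of_isInt t D hP δ m ω hωi (by rw [← hχ]; exact hδmap)
  -- the monic equation of δ
  let μ : Matrix (Fin n) (Fin n) A →ₐ[A] Matrix (Fin n) (Fin n) B :=
    AlgHom.mapMatrix (Algebra.ofId A B)
  have hμΔ : μ Δ = Δ.map (algebraMap A B) := rfl
  have hδ' : δ = algebraMap A (Matrix (Fin n) (Fin n) B) (t ^ m) * μ Δ := by
    rw [hΔ, hμΔ, ← Algebra.smul_def, algebraMap_smul]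
  obtain ⟨q, hq⟩ : ∃ q : A[X], q = scaleRoots Δ.charpoly (t ^ m) := ⟨_, rfl⟩
  have hqm : q.Monic := by rw [hq, monic_scaleRoots_iff]; exact Δ.charpoly_monic
  have hqdeg : q.natDegree ≤ n := by
    rw [hq, natDegree_scaleRoots]
    rcases subsingleton_or_nontrivial A with h | h
    · rw [natDegree_of_subsingleton]; exact Nat.zero_le _
    · rw [Matrix.charpoly_natDegree_eq_dim, Fintype.card_fin]
  have hqt : ∀ i < q.natDegree, t ∣ q.coeff i := by
    intro i hi
    rw [hq, coeff_scaleRoots]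
    rw [hq, natDegree_scaleRoots] at hi
    have h1 : Δ.charpoly.natDegree - i ≠ 0 := by omega
    have h2 : m ≠ 0 := by omega
    exact Dvd.dvd.mul_left ((dvd_pow_self t h2).trans (dvd_pow_self _ h1)) _
  have haev : aeval (e₀ * e₀ - e₀) q = 0 := by
    rw [← hδ, hδ', hq]
    apply scaleRoots_aeval_eq_zero
    rw [aeval_algHom_apply, Matrix.aeval_self_charpoly, map_zero]
  obtain ⟨p, hpdeg, hidem⟩ := exists_idem_of_aeval_eq_zero t q hqm hqt e₀ haev
  rw [← hδ] at hidem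
  have hpr : p.natDegree ≤ r := by
    rw [hr]; exact hpdeg.trans (Nat.mul_le_mul_right 2 hqdeg)
  obtain ⟨e₁, he₁⟩ : ∃ e₁ : Matrix (Fin n) (Fin n) B, e₁ = e₀ + aeval e₀ p * δ := ⟨_, rfl⟩
  rw [← he₁] at hidem
  obtain ⟨w, hw⟩ : ∃ w : Matrix (Fin n) (Fin n) B', w = (aeval e₀ p).map χ := ⟨_, rfl⟩
  have hwi : IsInt D (D.t ^ (k * r) • w) := by
    rw [hw, hχ]
    exact isInt_aeval D hOA e₀ k (by rw [← hχ, ← hY]; exact hkY) p r hpr
  obtain ⟨E₁, hE₁⟩ : ∃ E₁ : Matrix (Fin n) (Fin n) B', E₁ = e₁.map χ := ⟨_, rfl⟩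
  have hE₁def : E₁ = e₁.map χ := hE₁
  have hE₁idem : E₁ * E₁ = E₁ := by rw [hE₁, ← Matrix.map_mul, hidem]
  have hE₁ : E₁ = Y + w * (D.t ^ m • ω) := by
    rw [hE₁, he₁, Matrix.map_add _ (map_add χ), Matrix.map_mul, ← hY, ← hw, hδmap]
  -- the comparison unit
  obtain ⟨Z, hZ⟩ : ∃ Z : Matrix (Fin n) (Fin n) B',
    Z = -(D.t ^ (k * r + k) • ε) + (D.t ^ (k * r) • w) * ω := ⟨_, rfl⟩
  have hZi : IsInt D Z := by
    rw [hZ]; exact (IsInt.smul (pow_t_mem _) hε).neg.add (hwi.mul hωi)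
  have hE₁e : E₁ - e = D.t ^ (k + 1) • Z := by
    rw [hE₁, hYe, hZ]
    simp only [Matrix.smul_mul, Matrix.mul_smul, smul_add, smul_neg, smul_smul]
    rw [show D.t ^ (k + 1) * D.t ^ (k * r + k) = D.t ^ N by rw [← pow_add, hN, hm]; ring_nf,
      show D.t ^ (k + 1) * D.t ^ (k * r) = D.t ^ m by rw [← pow_add, hm]; ring_nf]
    abel
  obtain ⟨F, hF⟩ : ∃ F : Matrix (Fin n) (Fin n) B', F = D.t ^ k • (1 - (e + e)) := ⟨_, rfl⟩
  have hFi : IsInt D F := by
    rw [hF, smul_sub, smul_add]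
    exact (IsInt.smul (pow_t_mem _) isInt_one).add (hke.add hke).neg |>
      fun h => by rwa [← sub_eq_add_neg] at h
  obtain ⟨u, hu⟩ : ∃ u : Matrix (Fin n) (Fin n) B', u = 1 - (E₁ - e) * (1 - (e + e)) := ⟨_, rfl⟩
  have hu' : u = 1 + D.t • (-(Z * F)) := by
    rw [hu, hE₁e, hF]
    simp only [Matrix.smul_mul, Matrix.mul_smul, smul_neg, smul_smul]
    rw [show D.t * D.t ^ k = D.t ^ (k + 1) by ring, sub_eq_add_neg]
  have huu : IsUnit u := by rw [hu']; exact isUnit_one_add_smul (hZi.mul hFi).neg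
  obtain ⟨uu, huu⟩ := huu
  obtain ⟨ui, hui⟩ : ∃ ui : Matrix (Fin n) (Fin n) B',
    ui = ((uu⁻¹ : (Matrix (Fin n) (Fin n) B')ˣ) : Matrix (Fin n) (Fin n) B') := ⟨_, rfl⟩
  have huui : u * ui = 1 := by rw [hui, ← huu]; exact uu.mul_inv
  have huiu : ui * u = 1 := by rw [hui, ← huu]; exact uu.inv_mul
  have hcomm : u * e = E₁ * u := by
    have h1 : u = 1 - E₁ + (E₁ * e + E₁ * e) - e := by
      rw [hu]
      simp only [Matrix.sub_mul, Matrix.mul_sub, Matrix.mul_add, Matrix.mul_one, he]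
      abel
    have h2 : u * e = E₁ * e := by
      rw [h1]
      simp only [Matrix.sub_mul, Matrix.add_mul, Matrix.one_mul, Matrix.mul_assoc, he]
      abel
    have h3 : E₁ * u = E₁ * e := by
      rw [h1]
      simp only [Matrix.mul_sub, Matrix.mul_add, Matrix.mul_one, ← Matrix.mul_assoc, hE₁idem]
      abel
    rw [h2, h3]
  refine ⟨e₁, e * ui, u * e, hidem, ?_, ?_⟩
  · rw [Matrix.mul_assoc, ← Matrix.mul_assoc ui, huiu, Matrix.one_mul, he]
  · rw [← hχ, ← hE₁def]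
    calc u * e * (e * ui) = u * (e * e) * ui := by simp only [Matrix.mul_assoc]
      _ = E₁ * (u * ui) := by rw [he, hcomm, Matrix.mul_assoc]
      _ = E₁ := by rw [huui, Matrix.mul_one]

end HensCore

end Groth.Agent.Lib.Helper11.HensIdem
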