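import Mathlib
import Groth.Agent.Lib.Helper11HorrM

/-!
# Helper11 Horrocks O: the approximation data for `A[1/t] → Â[1/t]`
-/

set_option autoImplicit false
universe u

namespace Groth.Agent.Lib.Helper11.Horrocks

section away
variable {A Ah : Type u} [CommRing A] [CommRing Ah] [Algebra A Ah] (t : A)
variable (B : Type u) [CommRing B] [Algebra A B] [IsLocalization.Away t B]
variable (B' : Type u) [CommRing B'] [Algebra Ah B'] [IsLocalization.Away (algebraMap A Ah t) B']
variable [Algebra B B']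

/-- approximation data for `A[1/t] → Â[1/t]` from abstract properties of `A → Â` -/
noncomputable def approxDataAway
    (hcomp : ∀ a : A, algebraMap B B' (algebraMap A B a) = algebraMap Ah B' (algebraMap A Ah a))
    (ht : t ∈ (⊥ : Ideal A).jacobson)
    (C1 : ∀ (n : ℕ) (x : Ah), ∃ (a : A) (z : Ah), x = algebraMap A Ah a + algebraMap A Ah t ^ n * z)
    (C2 : ∀ (n : ℕ) (a : A), (∃ z : Ah, algebraMap A Ah a = algebraMap A Ah t ^ n * z) →
      ∃ c : A, a = t ^ n * c)
    (C3 : ∀ z : Ah, IsUnit (1 + algebraMap A Ah t * z))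
    (C4 : ∀ x : Ah, (∃ j : ℕ, algebraMap A Ah t ^ j * x = 0) →
      ∃ τ : A, (∃ j : ℕ, t ^ j * τ = 0) ∧ x = algebraMap A Ah τ) : ApproxData B B' := by
  classical
  let th : Ah := algebraMap A Ah t
  have htB : IsUnit (algebraMap A B t) := IsLocalization.Away.algebraMap_isUnit t
  have htB' : IsUnit (algebraMap Ah B' th) := IsLocalization.Away.algebraMap_isUnit th
  have hχt : algebraMap B B' (algebraMap A B t) = algebraMap Ah B' th := hcomp t
  refine
    { O := (algebraMap Ah B').range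
      t := algebraMap Ah B' th
      t_mem := ⟨th, rfl⟩
      denom := ?_
      dense := ?_
      unit := ?_
      unit' := ?_ }
  · intro x
    obtain ⟨k, a, hka⟩ := IsLocalization.Away.surj th x
    exact ⟨k, a, by rw [← hka, mul_comm]⟩
  · intro x N
    obtain ⟨k, ah, hka⟩ := IsLocalization.Away.surj th x
    obtain ⟨a, z, haz⟩ := C1 (N + k) ah
    obtain ⟨tu, htu⟩ := htB
    refine ⟨algebraMap A B a * ((tu⁻¹ : Bˣ) : B) ^ k, algebraMap Ah B' z, ⟨z, rfl⟩, ?_⟩
    have hunit : IsUnit (algebraMap Ah B' th ^ k) := htB'.pow k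
    apply hunit.mul_right_cancel
    rw [hka, add_mul, haz, map_add, map_mul, map_pow]
    have h1 : algebraMap B B' (algebraMap A B a * ((tu⁻¹ : Bˣ) : B) ^ k) * algebraMap Ah B' th ^ k =
        algebraMap Ah B' (algebraMap A Ah a) := by
      rw [← hχt, ← htu, ← map_pow, ← map_mul, ← hcomp]
      congr 1
      rw [mul_assoc, ← mul_pow, Units.inv_mul, one_pow, mul_one]
    rw [h1]
    ring
  · rintro b ⟨o, ⟨z, rfl⟩, hb⟩
    obtain ⟨k, a₀, hka⟩ := IsLocalization.Away.surj t b
    -- compare in `B'`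
    have h1 : algebraMap Ah B' (algebraMap A Ah a₀) =
        algebraMap Ah B' (th ^ k * (1 + th * z)) := by
      rw [← hcomp, ← hka, map_mul, map_pow, hχt, hb]
      simp only [map_mul, map_add, map_one, map_pow]
      ring
    obtain ⟨⟨c, m, hm⟩, hc⟩ := IsLocalization.exists_of_eq (M := Submonoid.powers th) h1
    have hm' : th ^ m = c := hm
    simp only at hc
    rw [← hm'] at hc
    -- descend
    obtain ⟨a₁, ha₁⟩ := C2 (m + k) (t ^ m * a₀) ⟨1 + th * z, by
      rw [map_mul, map_pow, hc]; ring⟩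
    have hb₁ : b = algebraMap A B a₁ := by
      have hunit : IsUnit (algebraMap A B t ^ (m + k)) := htB.pow _
      apply hunit.mul_right_cancel
      have e1 : b * algebraMap A B t ^ (m + k) = algebraMap A B (t ^ m * a₀) := by
        rw [map_mul, map_pow, ← hka]; ring
      rw [e1, ha₁, map_mul, map_pow]
      ring
    have htors : th ^ (m + k) * (algebraMap A Ah a₁ - (1 + th * z)) = 0 := by
      have : algebraMap A Ah (t ^ m * a₀) = algebraMap A Ah (t ^ (m + k) * a₁) := by rw [ha₁]
      rw [map_mul, map_pow, hc, map_mul, map_pow] at this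
      rw [mul_sub, ← this]
      ring
    obtain ⟨τ, ⟨j, hj⟩, hτ⟩ := C4 _ ⟨m + k, htors⟩
    have hτB : algebraMap A B τ = 0 := by
      have hunit : IsUnit (algebraMap A B t ^ j) := htB.pow _
      apply hunit.mul_left_cancel
      rw [← map_pow, ← map_mul, hj, map_zero, mul_zero]
    obtain ⟨c', hc'⟩ := C2 1 (a₁ - τ - 1) ⟨z, by
      rw [map_sub, map_sub, map_one, ← hτ]; ring⟩
    have ha₂ : a₁ - τ = t * c' + 1 := by rw [pow_one] at hc'; rw [← hc']; ring
    have hu : IsUnit (a₁ - τ) := by rw [ha₂]; exact Ideal.mem_jacobson_bot.mp ht c'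
    have : b = algebraMap A B (a₁ - τ) := by rw [map_sub, hτB, sub_zero, hb₁]
    rw [this]
    exact hu.map _
  · rintro o ⟨z, rfl⟩
    have : (1 : B') + algebraMap Ah B' th * algebraMap Ah B' z = algebraMap Ah B' (1 + th * z) := by
      simp
    rw [this]
    exact (C3 z).map _

end away

section torsion
variable {A Ah : Type u} [CommRing A] [CommRing Ah] [Algebra A Ah] (t : A)

/-- torsion comparison from density, injectivity mod powers, separatedness and bounded torsion -/
theorem torsion_comparison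
    (C1 : ∀ (n : ℕ) (x : Ah), ∃ (a : A) (z : Ah), x = algebraMap A Ah a + algebraMap A Ah t ^ n * z)
    (C2 : ∀ (n : ℕ) (a : A), (∃ z : Ah, algebraMap A Ah a = algebraMap A Ah t ^ n * z) →
      ∃ c : A, a = t ^ n * c)
    (H : ∀ x : Ah, (∀ n : ℕ, ∃ z : Ah, x = algebraMap A Ah t ^ n * z) → x = 0)
    (hbd : ∃ N : ℕ, ∀ a : A, (∃ m : ℕ, t ^ m * a = 0) → t ^ N * a = 0)
    (x : Ah) (hx : ∃ j : ℕ, algebraMap A Ah t ^ j * x = 0) :
    ∃ τ : A, (∃ j : ℕ, t ^ j * τ = 0) ∧ x = algebraMap A Ah τ := by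
  obtain ⟨N, hN⟩ := hbd
  obtain ⟨j, hj⟩ := hx
  obtain ⟨th, hth⟩ : ∃ th : Ah, th = algebraMap A Ah t := ⟨_, rfl⟩
  rw [← hth] at C1 C2 H hj
  have stepA : ∀ n : ℕ, ∃ τ : A, t ^ j * τ = 0 ∧ ∃ w : Ah, x = algebraMap A Ah τ + th ^ n * w := by
    intro n
    obtain ⟨a, z, haz⟩ := C1 n x
    have h1 : algebraMap A Ah (t ^ j * a) = th ^ (n + j) * (-z) := by
      have : th ^ j * x = 0 := hj
      rw [haz, mul_add] at this
      rw [map_mul, map_pow, ← hth]
      rw [hth] at this ⊢
      linear_combination this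
    obtain ⟨c, hc⟩ := C2 (n + j) (t ^ j * a) ⟨-z, h1⟩
    refine ⟨a - t ^ n * c, ?_, algebraMap A Ah c + z, ?_⟩
    · rw [mul_sub, hc]; ring
    · rw [haz, map_sub, map_mul, map_pow, ← hth]; ring
  choose τ hτ w hw using stepA
  have stepB : ∀ n : ℕ, N ≤ n → τ n = τ N := by
    intro n hn
    have h1 : algebraMap A Ah (τ n - τ N) = th ^ N * (w N - th ^ (n - N) * w n) := by
      have e1 := hw n
      have e2 := hw N
      have e3 : th ^ n = th ^ N * th ^ (n - N) := by rw [← pow_add, Nat.add_sub_cancel' hn]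
      rw [map_sub]
      rw [e3] at e1
      linear_combination e2 - e1
    obtain ⟨c, hc⟩ := C2 N (τ n - τ N) ⟨_, h1⟩
    have h2 : t ^ N * c = 0 := by
      refine hN c ⟨j + N, ?_⟩
      rw [pow_add, mul_assoc, ← hc, mul_sub, hτ n, hτ N, sub_zero]
    rw [h2] at hc
    exact sub_eq_zero.mp hc
  refine ⟨τ N, ⟨j, hτ N⟩, ?_⟩
  have h3 : x - algebraMap A Ah (τ N) = 0 := by
    refine H _ fun n => ?_
    by_cases hn : N ≤ n
    · refine ⟨w n, ?_⟩
      have e1 := hw n
      rw [stepB n hn] at e1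
      linear_combination e1
    · refine ⟨th ^ (N - n) * w N, ?_⟩
      have e2 := hw N
      have e3 : th ^ N = th ^ n * th ^ (N - n) := by
        rw [← pow_add, Nat.add_sub_cancel' (by omega)]
      rw [e3] at e2
      linear_combination e2
  exact sub_eq_zero.mp h3

end torsion

section adic
variable (A : Type u) [CommRing A] (t : A)


theorem mem_pow_smul_top_iff {M : Type*} [AddCommGroup M] [Module A M] (n : ℕ) (x : M) :
    x ∈ ((Ideal.span {t} : Ideal A) ^ n • ⊤ : Submodule A M) ↔ ∃ z : M, x = t ^ n • z := by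
  rw [Ideal.span_singleton_pow, Submodule.ideal_span_singleton_smul,
    Submodule.mem_smul_pointwise_iff_exists]
  constructor
  · rintro ⟨z, -, hz⟩
    exact ⟨z, hz.symm⟩
  · rintro ⟨z, hz⟩
    exact ⟨z, Submodule.mem_top, hz.symm⟩

theorem adic_C1 (n : ℕ) (x : (AdicCompletion (Ideal.span ({t} : Set A)) A)) :
    ∃ (a : A) (z : (AdicCompletion (Ideal.span ({t} : Set A)) A)), x = algebraMap A (AdicCompletion (Ideal.span ({t} : Set A)) A) a + algebraMap A (AdicCompletion (Ideal.span ({t} : Set A)) A) t ^ n * z := by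
  have hfg : (Ideal.span {t} : Ideal A).FG := ⟨{t}, by simp⟩
  obtain ⟨a, ha⟩ := Submodule.mkQ_surjective _ (AdicCompletion.eval (Ideal.span ({t} : Set A)) A n x)
  have h1 : x - AdicCompletion.of (Ideal.span ({t} : Set A)) A a ∈ LinearMap.ker (AdicCompletion.eval (Ideal.span ({t} : Set A)) A n) := by
    rw [LinearMap.mem_ker, map_sub, AdicCompletion.eval_of, ha, sub_self]
  rw [← AdicCompletion.pow_smul_top_eq_ker_eval hfg, mem_pow_smul_top_iff] at h1
  obtain ⟨z, hz⟩ := h1
  refine ⟨a, z, ?_⟩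
  rw [← map_pow, ← Algebra.smul_def, ← hz, AdicCompletion.algebraMap_apply]
  simp

theorem adic_C2 (n : ℕ) (a : A) (h : ∃ z : (AdicCompletion (Ideal.span ({t} : Set A)) A), algebraMap A (AdicCompletion (Ideal.span ({t} : Set A)) A) a = algebraMap A (AdicCompletion (Ideal.span ({t} : Set A)) A) t ^ n * z) :
    ∃ c : A, a = t ^ n * c := by
  obtain ⟨z, hz⟩ := h
  have h1 : AdicCompletion.of (Ideal.span ({t} : Set A)) A a ∈ ((Ideal.span {t} : Ideal A) ^ n • ⊤ : Submodule A (AdicCompletion (Ideal.span ({t} : Set A)) A)) := by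
    rw [mem_pow_smul_top_iff]
    refine ⟨z, ?_⟩
    rw [Algebra.smul_def, map_pow, ← hz, AdicCompletion.algebraMap_apply]
    simp
  have h2 := AdicCompletion.pow_smul_top_le_ker_eval (I := Ideal.span ({t} : Set A)) (M := A) n h1
  rw [LinearMap.mem_ker, AdicCompletion.eval_of, Submodule.mkQ_apply,
    Submodule.Quotient.mk_eq_zero, mem_pow_smul_top_iff] at h2
  obtain ⟨c, hc⟩ := h2
  exact ⟨c, by rw [hc, smul_eq_mul]⟩

theorem adic_C3 (z : (AdicCompletion (Ideal.span ({t} : Set A)) A)) : IsUnit (1 + algebraMap A (AdicCompletion (Ideal.span ({t} : Set A)) A) t * z) := by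
  have hfg : (Ideal.span {t} : Ideal A).FG := ⟨{t}, by simp⟩
  have hc : IsAdicComplete ((Ideal.span {t} : Ideal A).map (algebraMap A (AdicCompletion (Ideal.span ({t} : Set A)) A))) (AdicCompletion (Ideal.span ({t} : Set A)) A) :=
    (IsAdicComplete.map_algebraMap_iff (I := (Ideal.span ({t} : Set A))) (M := (AdicCompletion (Ideal.span ({t} : Set A)) A)) (S := (AdicCompletion (Ideal.span ({t} : Set A)) A))).mpr
      (AdicCompletion.isAdicComplete hfg)
  have h1 : algebraMap A (AdicCompletion (Ideal.span ({t} : Set A)) A) t ∈ (⊥ : Ideal (AdicCompletion (Ideal.span ({t} : Set A)) A)).jacobson :=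
    IsAdicComplete.le_jacobson_bot _ (Ideal.mem_map_of_mem _ (Ideal.mem_span_singleton_self t))
  rw [add_comm]
  exact Ideal.mem_jacobson_bot.mp h1 z

theorem adic_H (x : (AdicCompletion (Ideal.span ({t} : Set A)) A)) (h : ∀ n : ℕ, ∃ z : (AdicCompletion (Ideal.span ({t} : Set A)) A), x = algebraMap A (AdicCompletion (Ideal.span ({t} : Set A)) A) t ^ n * z) : x = 0 := by
  refine IsHausdorff.haus (inferInstance : IsHausdorff (Ideal.span ({t} : Set A)) (AdicCompletion (Ideal.span ({t} : Set A)) A)) x fun n => ?_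
  rw [SModEq.zero, mem_pow_smul_top_iff]
  obtain ⟨z, hz⟩ := h n
  exact ⟨z, by rw [hz, Algebra.smul_def, map_pow]⟩

end adic

section adicFinal

/-- the approximation data for `A[1/t] → Â[1/t]`, `Â` the `t`-adic completion -/
noncomputable def approxDataAdic (A : Type u) [CommRing A] (t : A)
    (ht : t ∈ (⊥ : Ideal A).jacobson)
    (hbd : ∃ N : ℕ, ∀ a : A, (∃ m : ℕ, t ^ m * a = 0) → t ^ N * a = 0)
    (B : Type u) [CommRing B] [Algebra A B] [IsLocalization.Away t B]
    (B' : Type u) [CommRing B'] [Algebra (AdicCompletion (Ideal.span ({t} : Set A)) A) B']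
    [IsLocalization.Away (algebraMap A (AdicCompletion (Ideal.span ({t} : Set A)) A) t) B']
    [Algebra B B']
    (hcomp : ∀ a : A, algebraMap B B' (algebraMap A B a) =
      algebraMap (AdicCompletion (Ideal.span ({t} : Set A)) A) B'
        (algebraMap A (AdicCompletion (Ideal.span ({t} : Set A)) A) a)) : ApproxData B B' :=
  approxDataAway t B B' hcomp ht (adic_C1 A t) (adic_C2 A t) (adic_C3 A t)
    (torsion_comparison t (adic_C1 A t) (adic_C2 A t) (adic_H A t) hbd)

end adicFinal

end Groth.Agent.Lib.Helper11.Horrocks
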