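import Mathlib
import Groth.Agent.Lib.Helper11HensIdemB
import Groth.Agent.Lib.Helper11HorrO

/-!
# Helper11 HensIdemC: finite projective modules over `Â[1/t]` descend to `A[1/t]`
for a Henselian pair `(A, tA)` with bounded `t`-torsion
-/

set_option autoImplicit false
universe u

open Polynomial TensorProduct

namespace Groth.Agent.Lib.Helper11.HensIdem

open Groth.Agent.Lib.Helper11.Horrocks

section modules
variable {A : Type u} [CommRing A] (t : A)
variable {B B' : Type u} [CommRing B] [CommRing B'] [Algebra A B] [Algebra B B']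
  (D : ApproxData B B')
variable (hOA : ∀ a : A, algebraMap B B' (algebraMap A B a) ∈ D.O)
variable (hP : ∀ (b : B) (m : ℕ) (o : B'), o ∈ D.O → algebraMap B B' b = D.t ^ m * o →
  ∃ a : A, b = algebraMap A B (t ^ m * a))
variable [hH : HenselianRing A (Ideal.span {t})]

include hOA hP hH in
/-- a finite projective `B'`-module is the base change of a finite projective `B`-module -/
theorem exists_projective_descent (M' : Type u) [AddCommGroup M'] [Module B' M']
    [Module.Finite B' M'] [Module.Projective B' M'] :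
    ∃ (M : Type u) (_ : AddCommGroup M) (_ : Module B M), Module.Finite B M ∧
      Module.Projective B M ∧ Nonempty (B' ⊗[B] M ≃ₗ[B'] M') := by
  classical
  obtain ⟨n, π', σ', -, -, hπσ'⟩ := Module.Finite.exists_comp_eq_id_of_projective B' M'
  obtain ⟨e₁, x, y, he₁, hxy, hyx⟩ := exists_idem_approx t D hOA hP _ (idem_toMatrix' π' σ' hπσ')
  obtain ⟨K, hK⟩ : ∃ K : Submodule B (Fin n → B), K = LinearMap.range (Matrix.toLin' e₁) :=
    ⟨_, rfl⟩
  have hmemK : ∀ w, w ∈ K ↔ ∃ v, Matrix.toLin' e₁ v = w := by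
    intro w; rw [hK]; exact LinearMap.mem_range
  have hPK : ∀ w, Matrix.toLin' e₁ w ∈ K := by
    intro w; rw [hK]; exact LinearMap.mem_range_self _ w
  obtain ⟨π, hπ⟩ : ∃ π : (Fin n → B) →ₗ[B] K,
    π = (Matrix.toLin' e₁).codRestrict K hPK := ⟨_, rfl⟩
  obtain ⟨σ, hσ⟩ : ∃ σ : K →ₗ[B] (Fin n → B), σ = K.subtype := ⟨_, rfl⟩
  have hσπ : σ ∘ₗ π = Matrix.toLin' e₁ := by
    rw [hσ, hπ, LinearMap.subtype_comp_codRestrict]
  have hπσ : π ∘ₗ σ = LinearMap.id := by
    refine LinearMap.ext fun κ => Subtype.ext ?_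
    obtain ⟨w, hw⟩ : ∃ w, Matrix.toLin' e₁ w = (κ : Fin n → B) := (hmemK _).mp κ.2
    rw [hσ, hπ]
    simp only [LinearMap.comp_apply, LinearMap.codRestrict_apply, Submodule.subtype_apply,
      LinearMap.id_apply]
    rw [← hw, Matrix.toLin'_apply, Matrix.toLin'_apply, Matrix.mulVec_mulVec, he₁]
  have hq : LinearMap.toMatrix' (σ ∘ₗ π) = e₁ := by
    rw [hσπ, LinearMap.toMatrix'_toLin']
  have hfin : Module.Finite B K := by
    refine Module.Finite.of_surjective π ?_
    intro κ
    exact ⟨σ κ, LinearMap.congr_fun hπσ κ⟩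
  have hproj : Module.Projective B K := Module.Projective.of_split σ π hπσ
  refine ⟨K, inferInstance, inferInstance, hfin, hproj, ?_⟩
  have hbc : bcUp B' π ∘ₗ bcDown B' σ = LinearMap.id := by
    refine LinearMap.ext fun z => ?_
    rw [LinearMap.comp_apply, bcUp_bcDown, hπσ, LinearMap.baseChange_id]
  have hqbc : LinearMap.toMatrix' (bcDown B' σ ∘ₗ bcUp B' π) = e₁.map (algebraMap B B') := by
    rw [← hq, ← LinearMap.toMatrix'_toLin' ((LinearMap.toMatrix' (σ ∘ₗ π)).map (algebraMap B B'))]
    congr 1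
    refine LinearMap.ext fun w => ?_
    rw [LinearMap.comp_apply, bcDown_bcUp, Matrix.toLin'_apply]
  exact iso_of_rect_eqv (bcUp B' π) (bcDown B' σ) hbc π' σ' hπσ' x y hxy (by rw [hqbc, hyx])

end modules

section adic

/-- descent of finite projective modules along `A[1/t] → Â[1/t]` for a Henselian pair `(A, tA)`
with bounded `t`-power torsion -/
theorem exists_projective_descent_adic (A : Type u) [CommRing A] (t : A)
    [hH : HenselianRing A (Ideal.span {t})]
    (hbd : ∃ N : ℕ, ∀ a : A, (∃ m : ℕ, t ^ m * a = 0) → t ^ N * a = 0)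
    (B : Type u) [CommRing B] [Algebra A B] [IsLocalization.Away t B]
    (B' : Type u) [CommRing B'] [Algebra (AdicCompletion (Ideal.span ({t} : Set A)) A) B']
    [IsLocalization.Away (algebraMap A (AdicCompletion (Ideal.span {t}) A) t) B']
    [Algebra B B']
    (hcomp : ∀ a : A, algebraMap B B' (algebraMap A B a) =
      algebraMap (AdicCompletion (Ideal.span ({t} : Set A)) A) B'
        (algebraMap A (AdicCompletion (Ideal.span ({t} : Set A)) A) a))
    (M' : Type u) [AddCommGroup M'] [Module B' M'] [Module.Finite B' M'] [Module.Projective B' M'] :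
    ∃ (M : Type u) (_ : AddCommGroup M) (_ : Module B M), Module.Finite B M ∧
      Module.Projective B M ∧ Nonempty (B' ⊗[B] M ≃ₗ[B'] M') := by
  have ht : t ∈ (⊥ : Ideal A).jacobson := hH.jac (Ideal.mem_span_singleton_self t)
  have htB : IsUnit (algebraMap A B t) := IsLocalization.Away.algebraMap_isUnit t
  have C2 := adic_C2 A t
  have C4 := torsion_comparison t (adic_C1 A t) (adic_C2 A t) (adic_H A t) hbd
  refine exists_projective_descent t (approxDataAdic A t ht hbd B B' hcomp) ?_ ?_ M'
  · intro a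
    exact ⟨algebraMap A _ a, (hcomp a).symm⟩
  · rintro b m o ⟨z, rfl⟩ hb
    change algebraMap B B' b = (algebraMap (AdicCompletion (Ideal.span ({t} : Set A)) A) B'
      (algebraMap A (AdicCompletion (Ideal.span ({t} : Set A)) A) t)) ^ m * _ at hb
    obtain ⟨k, a₀, hka⟩ := IsLocalization.Away.surj t b
    let th : AdicCompletion (Ideal.span ({t} : Set A)) A :=
      algebraMap A (AdicCompletion (Ideal.span ({t} : Set A)) A) t
    have h1 : algebraMap (AdicCompletion (Ideal.span ({t} : Set A)) A) B'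
        (algebraMap A (AdicCompletion (Ideal.span ({t} : Set A)) A) a₀) =
        algebraMap (AdicCompletion (Ideal.span ({t} : Set A)) A) B' (th ^ (m + k) * z) := by
      rw [← hcomp, ← hka, map_mul, map_pow, hcomp t, hb]
      simp only [map_mul, map_pow]
      ring
    obtain ⟨⟨c, l, hl⟩, hc⟩ := IsLocalization.exists_of_eq (M := Submonoid.powers th) h1
    have hl' : th ^ l = c := hl
    simp only at hc
    rw [← hl'] at hc
    obtain ⟨τ, ⟨j, hj⟩, hτ⟩ := C4 (algebraMap A (AdicCompletion (Ideal.span ({t} : Set A)) A) a₀ -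
      th ^ (m + k) * z) ⟨l, by rw [mul_sub, hc, sub_self]⟩
    obtain ⟨c', hc'⟩ := C2 (m + k) (a₀ - τ) ⟨z, by rw [map_sub, ← hτ]; ring⟩
    have hτB : algebraMap A B τ = 0 := by
      have hunit : IsUnit (algebraMap A B t ^ j) := htB.pow _
      apply hunit.mul_left_cancel
      rw [← map_pow, ← map_mul, hj, map_zero, mul_zero]
    refine ⟨c', ?_⟩
    have hunit : IsUnit (algebraMap A B t ^ k) := htB.pow _
    apply hunit.mul_right_cancel
    rw [hka]
    have h2 : a₀ = τ + t ^ (m + k) * c' := by rw [← hc']; ring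
    rw [h2, map_add, hτB, zero_add, ← map_pow, ← map_mul]
    congr 1
    ring

end adic

end Groth.Agent.Lib.Helper11.HensIdem
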