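import Mathlib
import Groth.Agent.Lib.Helper11HorrM

/-!
# Helper11 Horrocks N: the approximation data for `R(t) → R((t))`
-/

set_option autoImplicit false
universe u

namespace Groth.Agent.Lib.Helper11.Horrocks

open Polynomial

section ratLaurent
variable (R : Type u) [CommRing R]

/-- the monoid generated by `X` and the polynomials with constant coefficient one -/
noncomputable def monoidS : Submonoid R[X] := Submonoid.closure ({f : R[X] | f.coeff 0 = 1} ∪ {X})

variable {R}

theorem mem_monoidS_of_coeff {f : R[X]} (hf : f.coeff 0 = 1) : f ∈ monoidS R :=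
  Submonoid.subset_closure (Or.inl hf)

theorem X_mem_monoidS : (X : R[X]) ∈ monoidS R :=
  Submonoid.subset_closure (Or.inr rfl)

theorem X_pow_mul_mem_monoidS (k : ℕ) {f : R[X]} (hf : f.coeff 0 = 1) :
    X ^ k * f ∈ monoidS R :=
  Submonoid.mul_mem _ (Submonoid.pow_mem _ X_mem_monoidS k) (mem_monoidS_of_coeff hf)

theorem exists_of_mem_monoidS {s : R[X]} (hs : s ∈ monoidS R) :
    ∃ (k : ℕ) (s₁ : R[X]), s₁.coeff 0 = 1 ∧ s = X ^ k * s₁ := by
  induction hs using Submonoid.closure_induction with
  | mem x hx =>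
    rcases hx with hx | hx
    · exact ⟨0, x, hx, by simp⟩
    · refine ⟨1, 1, by simp, ?_⟩
      rw [Set.mem_singleton_iff] at hx
      rw [hx]; simp
  | one => exact ⟨0, 1, by simp, by simp⟩
  | mul x y _ _ hx hy =>
    obtain ⟨k, s₁, h1, rfl⟩ := hx
    obtain ⟨k', s₁', h1', rfl⟩ := hy
    refine ⟨k + k', s₁ * s₁', ?_, by ring⟩
    rw [Polynomial.mul_coeff_zero, h1, h1', one_mul]

variable (R)

/-- the approximation data for `L = R(t) → L' ≅ R((t))` -/
noncomputable def approxDataRatLaurent (L : Type u) [CommRing L] [Algebra R[X] L]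
    [IsLocalization (monoidS R) L]
    (L' : Type u) [CommRing L'] [Algebra L L'] (e : L' ≃+* LaurentSeries R)
    (he : ∀ p : R[X], e (algebraMap L L' (algebraMap R[X] L p)) =
      HahnSeries.ofPowerSeries ℤ R (p : PowerSeries R)) : ApproxData L L' := by
  classical
  let ι : PowerSeries R →+* LaurentSeries R := HahnSeries.ofPowerSeries ℤ R
  have hιinj : Function.Injective ι := HahnSeries.ofPowerSeries_injective
  let ψ : L →+* LaurentSeries R := (e : L' →+* LaurentSeries R).comp (algebraMap L L')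
  have hψ : ∀ p : R[X], ψ (algebraMap R[X] L p) = ι (p : PowerSeries R) := he
  have hXunit : IsUnit (algebraMap R[X] L X) :=
    IsLocalization.map_units L (⟨X, X_mem_monoidS⟩ : monoidS R)
  have hιX : IsUnit (ι PowerSeries.X) := by
    have := hXunit.map ψ
    rwa [hψ, Polynomial.coe_X] at this
  have hdenom : ∀ y : LaurentSeries R, ∃ (k : ℕ) (a : PowerSeries R), ι PowerSeries.X ^ k * y = ι a := by
    intro y
    obtain ⟨⟨a, s⟩, has⟩ := IsLocalization.surj (Submonoid.powers (PowerSeries.X : PowerSeries R)) y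
    obtain ⟨k, hk⟩ := s.2
    have hk' : PowerSeries.X ^ k = (s : PowerSeries R) := hk
    refine ⟨k, a, ?_⟩
    rw [LaurentSeries.coe_algebraMap] at has
    simp only at has
    rw [← map_pow, hk', mul_comm]
    exact has
  refine
    { O := (ι.range).comap (e : L' →+* LaurentSeries R)
      t := e.symm (ι PowerSeries.X)
      t_mem := ?_
      denom := ?_
      dense := ?_
      unit := ?_
      unit' := ?_ }
  · rw [Subring.mem_comap]
    exact ⟨PowerSeries.X, by simp⟩
  · intro x
    obtain ⟨k, a, hka⟩ := hdenom (e x)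
    refine ⟨k, ?_⟩
    rw [Subring.mem_comap]
    refine ⟨a, ?_⟩
    rw [← hka]
    simp
  · intro x N
    obtain ⟨k, a, hka⟩ := hdenom (e x)
    obtain ⟨p, hp⟩ : ∃ p : R[X], p = PowerSeries.trunc (N + k) a := ⟨_, rfl⟩
    obtain ⟨a₁, ha₁⟩ : ∃ a₁ : PowerSeries R,
      a₁ = PowerSeries.mk fun i => PowerSeries.coeff (i + (N + k)) a := ⟨_, rfl⟩
    have hsplit : a = PowerSeries.X ^ (N + k) * a₁ + (p : PowerSeries R) := by
      rw [ha₁, hp]; exact PowerSeries.eq_X_pow_mul_shift_add_trunc (N + k) a
    obtain ⟨Xu, hXu⟩ := hXunit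
    obtain ⟨bb, hbb⟩ : ∃ bb : L, bb = algebraMap R[X] L p * ((Xu⁻¹ : Lˣ) : L) ^ k := ⟨_, rfl⟩
    refine ⟨bb, e.symm (ι a₁), ?_, ?_⟩
    · rw [Subring.mem_comap]
      exact ⟨a₁, by simp⟩
    · apply e.injective
      have hunit : IsUnit (ι PowerSeries.X ^ k) := hιX.pow k
      apply hunit.mul_left_cancel
      have h1 : ι PowerSeries.X ^ k * ψ bb = ι (p : PowerSeries R) := by
        have h3 : ι PowerSeries.X = ψ (Xu : L) := by rw [hXu, hψ, Polynomial.coe_X]
        rw [h3, ← map_pow, ← map_mul, ← hψ, hbb]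
        congr 1
        rw [mul_comm, mul_assoc, ← mul_pow, Units.inv_mul, one_pow, mul_one]
      have hR : e (algebraMap L L' bb + e.symm (ι PowerSeries.X) ^ N * e.symm (ι a₁)) =
          ψ bb + ι PowerSeries.X ^ N * ι a₁ := by
        rw [map_add, map_mul, map_pow, RingEquiv.apply_symm_apply, RingEquiv.apply_symm_apply]
        rfl
      rw [hka, hR, mul_add, h1, hsplit, map_add, map_mul, map_pow]
      ring
  · rintro b ⟨o, ho, hb⟩
    rw [Subring.mem_comap] at ho
    obtain ⟨f, hf⟩ := ho
    have hψb : ψ b = ι (1 + PowerSeries.X * f) := by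
      show e (algebraMap L L' b) = _
      rw [hb, map_add, map_mul, map_one, RingEquiv.apply_symm_apply, map_add, map_one, map_mul]
      congr 2
      exact hf.symm
    obtain ⟨⟨p, s⟩, hps⟩ := IsLocalization.surj (monoidS R) b
    simp only at hps
    obtain ⟨k, s₁, hs₁, hs⟩ := exists_of_mem_monoidS s.2
    have h1 : (1 + PowerSeries.X * f) * (PowerSeries.X ^ k * (s₁ : PowerSeries R)) =
        (p : PowerSeries R) := by
      apply hιinj
      have := congrArg ψ hps
      rw [map_mul, hψ, hψ, hψb, hs, Polynomial.coe_mul, Polynomial.coe_pow, Polynomial.coe_X,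
        ← map_mul] at this
      exact this
    have hdvd : (X : R[X]) ^ k ∣ p := by
      rw [Polynomial.X_pow_dvd_iff]
      intro d hd
      rw [← Polynomial.coeff_coe, ← h1, mul_left_comm, PowerSeries.coeff_X_pow_mul', if_neg (by omega)]
    obtain ⟨p₁, hp₁⟩ := hdvd
    have h2 : (1 + PowerSeries.X * f) * (s₁ : PowerSeries R) = (p₁ : PowerSeries R) := by
      apply PowerSeries.X_pow_mul_cancel (k := k)
      rw [mul_left_comm, h1, hp₁, Polynomial.coe_mul, Polynomial.coe_pow, Polynomial.coe_X]
    have hp₁0 : p₁.coeff 0 = 1 := by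
      rw [← Polynomial.coeff_coe, ← h2]
      simp [hs₁]
    have hunit : IsUnit (algebraMap R[X] L p) := by
      rw [hp₁]
      exact IsLocalization.map_units L (⟨X ^ k * p₁, X_pow_mul_mem_monoidS k hp₁0⟩ : monoidS R)
    rw [← hps] at hunit
    exact (IsUnit.mul_iff.mp hunit).1
  · intro o ho
    rw [Subring.mem_comap] at ho
    obtain ⟨f, hf⟩ := ho
    have h1 : IsUnit (1 + PowerSeries.X * f) := by
      rw [PowerSeries.isUnit_iff_constantCoeff]
      simp
    have h2 : e (1 + e.symm (ι PowerSeries.X) * o) = ι (1 + PowerSeries.X * f) := by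
      rw [map_add, map_mul, map_one, RingEquiv.apply_symm_apply, map_add, map_one, map_mul]
      congr 2
      exact hf.symm
    have h3 : IsUnit (e (1 + e.symm (ι PowerSeries.X) * o)) := by rw [h2]; exact h1.map ι
    have := h3.map (e.symm : LaurentSeries R →+* L')
    simpa using this

end ratLaurent

end Groth.Agent.Lib.Helper11.Horrocks
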