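import Mathlib

set_option autoImplicit false
set_option linter.style.haveILetI false
set_option linter.unusedSectionVars false
universe u

namespace Groth.Agent.Lib.Helper18ColimSys
open TensorProduct

/-- A (not necessarily functorial) directed system of `R`-algebras `G i` with "colimit" `A`. -/
structure Sys (R : Type u) [CommRing R] {ι : Type u} (G : ι → Type u) [∀ i, CommRing (G i)]
    [∀ i, Algebra R (G i)] (A : Type u) [CommRing A] [Algebra R A] (g : ∀ i, G i →ₐ[R] A) :
    Prop where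
  nonempty : Nonempty ι
  surj : ∀ a : A, ∃ i, ∃ x : G i, g i x = a
  dir : ∀ i j, ∃ l, ∃ (φ : G i →ₐ[R] G l) (ψ : G j →ₐ[R] G l),
    (g l).comp φ = g i ∧ (g l).comp ψ = g j
  ker : ∀ i (x : G i), g i x = 0 → ∃ j, ∃ φ : G i →ₐ[R] G j, (g j).comp φ = g i ∧ φ x = 0

section
variable {R : Type u} [CommRing R] {ι : Type u} {G : ι → Type u} [∀ i, CommRing (G i)]
    [∀ i, Algebra R (G i)] {A : Type u} [CommRing A] [Algebra R A] {g : ∀ i, G i →ₐ[R] A}

theorem Sys.of_directed [Preorder ι] [IsDirected ι (· ≤ ·)] [Nonempty ι]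
    (f : ∀ i j, i ≤ j → (G i →ₐ[R] G j))
    (hg : ∀ i j (h : i ≤ j), (g j).comp (f i j h) = g i)
    (hsurj : ∀ a : A, ∃ i, ∃ x : G i, g i x = a)
    (hker : ∀ i (x : G i), g i x = 0 → ∃ j, ∃ h : i ≤ j, f i j h x = 0) : Sys R G A g where
  nonempty := inferInstance
  surj := hsurj
  dir i j := by
    obtain ⟨l, hil, hjl⟩ := exists_ge_ge i j
    exact ⟨l, f i l hil, f j l hjl, hg _ _ _, hg _ _ _⟩
  ker i x hx := by
    obtain ⟨j, h, hj⟩ := hker i x hx
    exact ⟨j, f i j h, hg _ _ _, hj⟩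

theorem Sys.kill (hS : Sys R G A g) (i : ι) (s : Finset (G i)) (hs : ∀ x ∈ s, g i x = 0) :
    ∃ j, ∃ φ : G i →ₐ[R] G j, (g j).comp φ = g i ∧ ∀ x ∈ s, φ x = 0 := by
  classical
  induction s using Finset.induction_on with
  | empty => exact ⟨i, AlgHom.id R _, by simp, by simp⟩
  | insert x s _ ih =>
    obtain ⟨j₁, φ₁, h₁, hk₁⟩ := ih (fun y hy => hs y (Finset.mem_insert_of_mem hy))
    have hx : g j₁ (φ₁ x) = 0 := by
      have := congr($h₁ x)
      simp only [AlgHom.comp_apply] at this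
      rw [this]
      exact hs x (Finset.mem_insert_self _ _)
    obtain ⟨j₂, φ₂, h₂, hk₂⟩ := hS.ker j₁ _ hx
    refine ⟨j₂, φ₂.comp φ₁, by rw [← AlgHom.comp_assoc, h₂, h₁], fun y hy => ?_⟩
    rcases Finset.mem_insert.mp hy with rfl | hy
    · exact hk₂
    · rw [AlgHom.comp_apply, hk₁ y hy, map_zero]

theorem Sys.lift (hS : Sys R G A g) (i₀ : ι) (s : Finset A) :
    ∃ j, ∃ φ : G i₀ →ₐ[R] G j, (g j).comp φ = g i₀ ∧ ∀ a ∈ s, ∃ x : G j, g j x = a := by
  classical
  induction s using Finset.induction_on with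
  | empty => exact ⟨i₀, AlgHom.id R _, by simp, by simp⟩
  | insert a s _ ih =>
    obtain ⟨j₁, φ₁, h₁, hk₁⟩ := ih
    obtain ⟨i', x', hx'⟩ := hS.surj a
    obtain ⟨l, φ, ψ, hφ, hψ⟩ := hS.dir j₁ i'
    refine ⟨l, φ.comp φ₁, by rw [← AlgHom.comp_assoc, hφ, h₁], fun b hb => ?_⟩
    rcases Finset.mem_insert.mp hb with rfl | hb
    · exact ⟨ψ x', by rw [← AlgHom.comp_apply, hψ, hx']⟩
    · obtain ⟨y, hy⟩ := hk₁ b hb
      exact ⟨φ y, by rw [← AlgHom.comp_apply, hφ, hy]⟩

theorem Sys.lift_fun (hS : Sys R G A g) (i₀ : ι) {κ : Type*} [Finite κ] (a : κ → A) :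
    ∃ j, ∃ φ : G i₀ →ₐ[R] G j, (g j).comp φ = g i₀ ∧ ∃ x : κ → G j, ∀ k, g j (x k) = a k := by
  classical
  haveI := Fintype.ofFinite κ
  obtain ⟨j, φ, h, hx⟩ := hS.lift i₀ (Finset.univ.image a)
  refine ⟨j, φ, h, ?_⟩
  choose x hx using fun k => hx (a k) (Finset.mem_image_of_mem _ (Finset.mem_univ k))
  exact ⟨x, hx⟩

end

/-- General equational criterion: a vanishing sum of pure tensors vanishes trivially after adding
finitely many extra terms `q i ⊗ 0`. -/
theorem exists_vanishesTrivially {R : Type*} [CommRing R] {M N : Type*} [AddCommGroup M]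
    [Module R M] [AddCommGroup N] [Module R N] {r : ℕ} (m : Fin r → M) (n : Fin r → N)
    (h : ∑ i, m i ⊗ₜ[R] n i = 0) :
    ∃ (s : ℕ) (q : Fin s → M),
      TensorProduct.VanishesTrivially R (Sum.elim m q) (Sum.elim n (fun _ => (0 : N))) := by
  classical
  let P : Submodule R M := Submodule.span R (Set.range m)
  have hP : P.FG := Submodule.fg_span (Set.finite_range m)
  have hmP : ∀ i, m i ∈ P := fun i => Submodule.subset_span ⟨i, rfl⟩
  let t : P ⊗[R] N := ∑ i, (⟨m i, hmP i⟩ : P) ⊗ₜ[R] n i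
  have ht : LinearMap.rTensor N P.subtype t = 0 := by
    simp only [t, map_sum, LinearMap.rTensor_tmul, Submodule.subtype_apply]
    exact h
  obtain ⟨Q, hPQ, hQ, hQt⟩ := TensorProduct.eq_zero_of_fg_of_subtype_eq_zero hP ht
  obtain ⟨s, q, hq⟩ := Submodule.fg_iff_exists_fin_generating_family.mp hQ
  have hqQ : ∀ i, q i ∈ Q := fun i => hq ▸ Submodule.subset_span ⟨i, rfl⟩
  let m' : Fin r ⊕ Fin s → Q := Sum.elim (fun i => ⟨m i, hPQ (hmP i)⟩) (fun i => ⟨q i, hqQ i⟩)
  let n' : Fin r ⊕ Fin s → N := Sum.elim n (fun _ => 0)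
  have hspan : Submodule.span R (Set.range m') = ⊤ := by
    apply Submodule.map_injective_of_injective Q.injective_subtype
    rw [Submodule.map_span, Submodule.map_top, Submodule.range_subtype, ← Set.range_comp]
    apply le_antisymm
    · rw [Submodule.span_le]
      rintro _ ⟨i | i, rfl⟩
      · exact hPQ (hmP i)
      · exact hqQ i
    · conv_lhs => rw [← hq]
      apply Submodule.span_mono
      rintro _ ⟨i, rfl⟩
      exact ⟨Sum.inr i, rfl⟩
  have hsum : ∑ i, m' i ⊗ₜ[R] n' i = 0 := by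
    rw [Fintype.sum_sum_type]
    simp only [m', n', Sum.elim_inl, Sum.elim_inr, tmul_zero, Finset.sum_const_zero, add_zero]
    simpa only [t, map_sum, LinearMap.rTensor_tmul, Submodule.inclusion_apply] using hQt
  obtain ⟨k, a, y, h₁, h₂⟩ := TensorProduct.vanishesTrivially_of_sum_tmul_eq_zero R hspan hsum
  refine ⟨s, q, k, a, y, h₁, fun j => ?_⟩
  have := congr(Q.subtype $(h₂ j))
  simp only [map_sum, map_smul, map_zero] at this
  rw [← this]
  refine Finset.sum_congr rfl fun i _ => ?_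
  rcases i with i | i <;> simp [m']


section
variable {R : Type u} [CommRing R] {ι : Type u} {G : ι → Type u} [∀ i, CommRing (G i)]
    [∀ i, Algebra R (G i)] {A : Type u} [CommRing A] [Algebra R A] {g : ∀ i, G i →ₐ[R] A}

theorem Sys.tensor_kill (hS : Sys R G A g) (M : Type*) [AddCommGroup M] [Module R M] (i : ι)
    (z : M ⊗[R] G i) (hz : (g i).toLinearMap.lTensor M z = 0) :
    ∃ j, ∃ φ : G i →ₐ[R] G j, (g j).comp φ = g i ∧ φ.toLinearMap.lTensor M z = 0 := by
  classical
  obtain ⟨r, m, x, rfl⟩ := TensorProduct.exists_sum_tmul_eq z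
  simp only [map_sum, LinearMap.lTensor_tmul, AlgHom.toLinearMap_apply] at hz
  obtain ⟨s, q, k, a, y, h₁, h₂⟩ := exists_vanishesTrivially m (fun i' => g i (x i')) hz
  obtain ⟨l, φ₁, hφ₁, y', hy'⟩ := hS.lift_fun i y
  let d : Fin r ⊕ Fin s → G l :=
    Sum.elim (fun i' => φ₁ (x i') - ∑ j, a (Sum.inl i') j • y' j)
      (fun i' => ∑ j, a (Sum.inr i') j • y' j)
  have hd : ∀ i', g l (d i') = 0 := by
    rintro (i' | i')
    · simp only [d, Sum.elim_inl, map_sub, map_sum, map_smul, hy']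
      rw [← AlgHom.comp_apply, hφ₁, ← h₁ (Sum.inl i')]
      simp
    · simp only [d, Sum.elim_inr, map_sum, map_smul, hy']
      rw [← h₁ (Sum.inr i')]
      simp
  obtain ⟨j, φ₂, hφ₂, hk⟩ := hS.kill l (Finset.univ.image d) (by
    intro x hx
    obtain ⟨i', -, rfl⟩ := Finset.mem_image.mp hx
    exact hd i')
  refine ⟨j, φ₂.comp φ₁, by rw [← AlgHom.comp_assoc, hφ₂, hφ₁], ?_⟩
  simp only [map_sum, LinearMap.lTensor_tmul, AlgHom.toLinearMap_apply, AlgHom.comp_apply]
  have key : TensorProduct.VanishesTrivially R (Sum.elim m q)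
      (Sum.elim (fun i' => φ₂ (φ₁ (x i'))) (fun _ => (0 : G j))) := by
    refine ⟨k, a, fun j' => φ₂ (y' j'), ?_, h₂⟩
    rintro (i' | i')
    · have := hk (d (Sum.inl i')) (Finset.mem_image_of_mem _ (Finset.mem_univ _))
      simp only [d, Sum.elim_inl, map_sub, map_sum, map_smul, sub_eq_zero] at this
      simpa using this
    · have := hk (d (Sum.inr i')) (Finset.mem_image_of_mem _ (Finset.mem_univ _))
      simp only [d, Sum.elim_inr, map_sum, map_smul] at this
      simpa using this.symm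
  have := TensorProduct.sum_tmul_eq_zero_of_vanishesTrivially R key
  rw [Fintype.sum_sum_type] at this
  simpa using this

theorem comm_rTensor {M N N' : Type*} [AddCommGroup M] [Module R M] [AddCommGroup N] [Module R N]
    [AddCommGroup N'] [Module R N'] (f : N →ₗ[R] N') (z : N ⊗[R] M) :
    TensorProduct.comm R N' M (f.rTensor M z) = f.lTensor M (TensorProduct.comm R N M z) := by
  induction z using TensorProduct.induction_on with
  | zero => simp
  | tmul x y => simp
  | add x y hx hy => simp only [map_add, hx, hy]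

theorem Sys.tensor_kill_left (hS : Sys R G A g) (M : Type*) [AddCommGroup M] [Module R M] (i : ι)
    (z : G i ⊗[R] M) (hz : (g i).toLinearMap.rTensor M z = 0) :
    ∃ j, ∃ φ : G i →ₐ[R] G j, (g j).comp φ = g i ∧ φ.toLinearMap.rTensor M z = 0 := by
  obtain ⟨j, φ, h, hφ⟩ := hS.tensor_kill M i (TensorProduct.comm R (G i) M z) (by
    rw [← comm_rTensor, hz, map_zero])
  refine ⟨j, φ, h, ?_⟩
  rw [← comm_rTensor] at hφ
  exact (TensorProduct.comm R (G j) M).injective (by rw [hφ, map_zero])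

theorem Sys.tensor_kill_left_finset (hS : Sys R G A g) (M : Type*) [AddCommGroup M] [Module R M]
    (i : ι) (s : Finset (G i ⊗[R] M)) (hs : ∀ z ∈ s, (g i).toLinearMap.rTensor M z = 0) :
    ∃ j, ∃ φ : G i →ₐ[R] G j, (g j).comp φ = g i ∧ ∀ z ∈ s, φ.toLinearMap.rTensor M z = 0 := by
  classical
  induction s using Finset.induction_on with
  | empty => exact ⟨i, AlgHom.id R _, by simp, by simp⟩
  | insert x s _ ih =>
    obtain ⟨j₁, φ₁, h₁, hk₁⟩ := ih (fun y hy => hs y (Finset.mem_insert_of_mem hy))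
    have hx : (g j₁).toLinearMap.rTensor M (φ₁.toLinearMap.rTensor M x) = 0 := by
      rw [← LinearMap.comp_apply, ← LinearMap.rTensor_comp, ← AlgHom.comp_toLinearMap, h₁]
      exact hs x (Finset.mem_insert_self _ _)
    obtain ⟨j₂, φ₂, h₂, hk₂⟩ := hS.tensor_kill_left M j₁ _ hx
    refine ⟨j₂, φ₂.comp φ₁, by rw [← AlgHom.comp_assoc, h₂, h₁], fun y hy => ?_⟩
    rw [AlgHom.comp_toLinearMap, LinearMap.rTensor_comp, LinearMap.comp_apply]
    rcases Finset.mem_insert.mp hy with rfl | hy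
    · exact hk₂
    · rw [hk₁ y hy, map_zero]

end


section
variable {R : Type u} [CommRing R] {ι : Type u} {G : ι → Type u} [∀ i, CommRing (G i)]
    [∀ i, Algebra R (G i)] {A : Type u} [CommRing A] [Algebra R A] {g : ∀ i, G i →ₐ[R] A}

theorem map_id_left_apply {B S S' : Type*} [CommRing B] [Algebra R B] [CommRing S] [Algebra R S]
    [CommRing S'] [Algebra R S'] (φ : S →ₐ[R] S') (z : B ⊗[R] S) :
    Algebra.TensorProduct.map (AlgHom.id B B) φ z = φ.toLinearMap.lTensor B z := by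
  induction z using TensorProduct.induction_on with
  | zero => simp
  | tmul x y => simp
  | add x y hx hy => simp only [map_add, hx, hy]

theorem map_id_right_apply {E S S' : Type*} [CommRing E] [Algebra R E] [CommRing S] [Algebra R S]
    [CommRing S'] [Algebra R S'] (φ : S →ₐ[R] S') (z : S ⊗[R] E) :
    Algebra.TensorProduct.map φ (AlgHom.id R E) z = φ.toLinearMap.rTensor E z := by
  induction z using TensorProduct.induction_on with
  | zero => simp
  | tmul x y => simp
  | add x y hx hy => simp only [map_add, hx, hy]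

theorem Sys.baseChange (hS : Sys R G A g) (B : Type u) [CommRing B] [Algebra R B] :
    Sys B (fun i => B ⊗[R] G i) (B ⊗[R] A)
      (fun i => Algebra.TensorProduct.map (AlgHom.id B B) (g i)) where
  nonempty := hS.nonempty
  surj a := by
    induction a using TensorProduct.induction_on with
    | zero =>
      obtain ⟨i⟩ := hS.nonempty
      exact ⟨i, 0, map_zero _⟩
    | tmul b a =>
      obtain ⟨i, x, rfl⟩ := hS.surj a
      exact ⟨i, b ⊗ₜ x, by simp⟩
    | add a₁ a₂ h₁ h₂ =>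
      obtain ⟨i₁, x₁, rfl⟩ := h₁
      obtain ⟨i₂, x₂, rfl⟩ := h₂
      obtain ⟨l, φ, ψ, hφ, hψ⟩ := hS.dir i₁ i₂
      refine ⟨l, Algebra.TensorProduct.map (AlgHom.id B B) φ x₁ +
        Algebra.TensorProduct.map (AlgHom.id B B) ψ x₂, ?_⟩
      simp only [map_add, ← AlgHom.comp_apply, ← Algebra.TensorProduct.map_comp, hφ, hψ,
        AlgHom.comp_id]
  dir i j := by
    obtain ⟨l, φ, ψ, hφ, hψ⟩ := hS.dir i j
    refine ⟨l, Algebra.TensorProduct.map (AlgHom.id B B) φ,
      Algebra.TensorProduct.map (AlgHom.id B B) ψ, ?_, ?_⟩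
    · simp only [← Algebra.TensorProduct.map_comp, hφ, AlgHom.comp_id]
    · simp only [← Algebra.TensorProduct.map_comp, hψ, AlgHom.comp_id]
  ker i x hx := by
    simp only [map_id_left_apply] at hx
    obtain ⟨j, φ, h, hφ⟩ := hS.tensor_kill B i x hx
    refine ⟨j, Algebra.TensorProduct.map (AlgHom.id B B) φ, ?_, ?_⟩
    · simp only [← Algebra.TensorProduct.map_comp, h, AlgHom.comp_id]
    · rw [map_id_left_apply, hφ]

theorem Sys.tensorRight (hS : Sys R G A g) (E : Type u) [CommRing E] [Algebra R E] :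
    Sys R (fun i => G i ⊗[R] E) (A ⊗[R] E)
      (fun i => Algebra.TensorProduct.map (g i) (AlgHom.id R E)) where
  nonempty := hS.nonempty
  surj a := by
    induction a using TensorProduct.induction_on with
    | zero =>
      obtain ⟨i⟩ := hS.nonempty
      exact ⟨i, 0, map_zero _⟩
    | tmul a e =>
      obtain ⟨i, x, rfl⟩ := hS.surj a
      exact ⟨i, x ⊗ₜ e, by simp⟩
    | add a₁ a₂ h₁ h₂ =>
      obtain ⟨i₁, x₁, rfl⟩ := h₁
      obtain ⟨i₂, x₂, rfl⟩ := h₂
      obtain ⟨l, φ, ψ, hφ, hψ⟩ := hS.dir i₁ i₂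
      refine ⟨l, Algebra.TensorProduct.map φ (AlgHom.id R E) x₁ +
        Algebra.TensorProduct.map ψ (AlgHom.id R E) x₂, ?_⟩
      simp only [map_add, ← AlgHom.comp_apply, ← Algebra.TensorProduct.map_comp, hφ, hψ,
        AlgHom.comp_id]
  dir i j := by
    obtain ⟨l, φ, ψ, hφ, hψ⟩ := hS.dir i j
    refine ⟨l, Algebra.TensorProduct.map φ (AlgHom.id R E),
      Algebra.TensorProduct.map ψ (AlgHom.id R E), ?_, ?_⟩
    · simp only [← Algebra.TensorProduct.map_comp, hφ, AlgHom.comp_id]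
    · simp only [← Algebra.TensorProduct.map_comp, hψ, AlgHom.comp_id]
  ker i x hx := by
    simp only [map_id_right_apply] at hx
    obtain ⟨j, φ, h, hφ⟩ := hS.tensor_kill_left E i x hx
    refine ⟨j, Algebra.TensorProduct.map φ (AlgHom.id R E), ?_, ?_⟩
    · simp only [← Algebra.TensorProduct.map_comp, h, AlgHom.comp_id]
    · rw [map_id_right_apply, hφ]

end


/-- descend an algebra map along a surjection -/
theorem exists_desc {A B' B D : Type*} [CommRing A] [CommRing B'] [CommRing B] [CommRing D]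
    [Algebra A B'] [Algebra A B] [Algebra A D] (π : B' →ₐ[A] B) (hπ : Function.Surjective π)
    (g : B' →ₐ[A] D) (hg : ∀ n, π n = 0 → g n = 0) : ∃ a : B →ₐ[A] D, a.comp π = g := by
  let e := Ideal.quotientKerAlgEquivOfSurjective hπ
  refine ⟨(Ideal.Quotient.liftₐ (RingHom.ker π) g (fun n hn => hg n hn)).comp e.symm.toAlgHom, ?_⟩
  apply AlgHom.ext
  intro b'
  have h1 : e.symm (π b') = Ideal.Quotient.mk _ b' := by
    rw [AlgEquiv.symm_apply_eq]
    rfl
  change (Ideal.Quotient.liftₐ (RingHom.ker π) g (fun n hn => hg n hn)) (e.symm (π b')) = g b'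
  rw [h1]
  rfl

section
variable {R : Type u} [CommRing R] {ι : Type u} {G : ι → Type u} [∀ i, CommRing (G i)]
    [∀ i, Algebra R (G i)] {A : Type u} [CommRing A] [Algebra R A] {g : ∀ i, G i →ₐ[R] A}

theorem Sys.alg_kill (hS : Sys R G A g) (C : Type*) [CommRing C] [Algebra R C]
    (i : ι) (s : Finset (G i ⊗[R] C))
    (hs : ∀ z ∈ s, Algebra.TensorProduct.map (g i) (AlgHom.id R C) z = 0) :
    ∃ j, ∃ φ : G i →ₐ[R] G j, (g j).comp φ = g i ∧
      ∀ z ∈ s, Algebra.TensorProduct.map φ (AlgHom.id R C) z = 0 := by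
  simp only [map_id_right_apply] at hs ⊢
  exact hS.tensor_kill_left_finset C i s hs

theorem Sys.lift_algHom (hS : Sys R G A g) (C : Type*) [CommRing C] [Algebra R C]
    [Algebra.FinitePresentation R C] (ρ : C →ₐ[R] A) :
    ∃ j, ∃ ρ' : C →ₐ[R] G j, (g j).comp ρ' = ρ := by
  classical
  obtain ⟨n, π, hπ, t, ht⟩ := Algebra.FinitePresentation.out (R := R) (A := C)
  obtain ⟨i₀⟩ := hS.nonempty
  obtain ⟨i, -, -, x, hx⟩ := hS.lift_fun i₀ (fun m : Fin n => ρ (π (MvPolynomial.X m)))
  let ev : MvPolynomial (Fin n) R →ₐ[R] G i := MvPolynomial.aeval x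
  have hev : (g i).comp ev = ρ.comp π := by
    apply MvPolynomial.algHom_ext
    intro m
    simp [ev, hx]
  obtain ⟨j, φ, hφ, hk⟩ := hS.kill i (t.image ev) (by
    intro y hy
    obtain ⟨p, hp, rfl⟩ := Finset.mem_image.mp hy
    rw [← AlgHom.comp_apply, hev, AlgHom.comp_apply]
    have : p ∈ RingHom.ker π.toRingHom := ht ▸ Ideal.subset_span hp
    have : π p = 0 := this
    rw [this, map_zero])
  have hker : ∀ p, π p = 0 → (φ.comp ev) p = 0 := by
    have : RingHom.ker π.toRingHom ≤ RingHom.ker (φ.comp ev).toRingHom := by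
      rw [← ht, Ideal.span_le]
      intro p hp
      exact hk _ (Finset.mem_image_of_mem _ hp)
    intro p hp
    exact this hp
  obtain ⟨ρ', hρ'⟩ := exists_desc π hπ (φ.comp ev) hker
  refine ⟨j, ρ', ?_⟩
  rw [← AlgHom.cancel_right hπ, AlgHom.comp_assoc, hρ', ← AlgHom.comp_assoc, hφ, hev]

end

theorem eq_top_of_includeRight_mem {R S C : Type*} [CommRing R] [CommRing S] [Algebra R S]
    [CommRing C] [Algebra R C] (s : Set C) (hs : Algebra.adjoin R s = ⊤)
    (Q : Subalgebra S (S ⊗[R] C)) (h : ∀ c ∈ s, (1 : S) ⊗ₜ[R] c ∈ Q) : Q = ⊤ := by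
  have h1 : ∀ c : C, (1 : S) ⊗ₜ[R] c ∈ Q := by
    intro c
    have hc : c ∈ Algebra.adjoin R s := hs ▸ Algebra.mem_top
    induction hc using Algebra.adjoin_induction with
    | mem x hx => exact h x hx
    | algebraMap r =>
      have : (1 : S) ⊗ₜ[R] algebraMap R C r = algebraMap S (S ⊗[R] C) (algebraMap R S r) := by
        rw [Algebra.TensorProduct.algebraMap_apply, Algebra.algebraMap_eq_smul_one,
          Algebra.algebraMap_eq_smul_one, TensorProduct.tmul_smul, TensorProduct.smul_tmul']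
        simp [Algebra.smul_def]
      rw [this]
      exact Q.algebraMap_mem _
    | add x y _ _ hx hy =>
      rw [TensorProduct.tmul_add]
      exact Q.add_mem hx hy
    | mul x y _ _ hx hy =>
      have : (1 : S) ⊗ₜ[R] (x * y) = (1 ⊗ₜ x) * (1 ⊗ₜ y) := by simp
      rw [this]
      exact Q.mul_mem hx hy
  rw [eq_top_iff]
  rintro z -
  induction z using TensorProduct.induction_on with
  | zero => exact Q.zero_mem
  | tmul x c =>
    have : x ⊗ₜ[R] c = x • ((1 : S) ⊗ₜ[R] c) := by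
      rw [TensorProduct.smul_tmul', smul_eq_mul, mul_one]
    rw [this]
    exact Q.smul_mem (h1 c) x
  | add x y hx hy => exact Q.add_mem hx hy

end Groth.Agent.Lib.Helper18ColimSys
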