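import Mathlib

/-!
# Localizing away from `g ≡ 1 (mod J)` does not change the quotient by `J` (helper26)
-/

set_option autoImplicit false
universe u

namespace Groth.Agent.Lib.Helper26.AwayQuot

variable {R : Type*} [CommRing R]

theorem pow_sub_one_mem (J : Ideal R) (g : R) (hg : 1 - g ∈ J) (n : ℕ) : 1 - g ^ n ∈ J := by
  have h := geom_sum_mul g n
  have : 1 - g ^ n = (∑ i ∈ Finset.range n, g ^ i) * (1 - g) := by
    linear_combination h
  rw [this]
  exact J.mul_mem_left _ hg

/-- If `g ≡ 1 (mod J)`, then `R/J → R_g / J R_g` is bijective. -/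
theorem quotientMap_away_bijective (J : Ideal R) (g : R) (hg : 1 - g ∈ J)
    (S : Type*) [CommRing S] [Algebra R S] [IsLocalization.Away g S] :
    Function.Bijective (Ideal.quotientMap (J.map (algebraMap R S)) (algebraMap R S)
      Ideal.le_comap_map) := by
  constructor
  · rw [injective_iff_map_eq_zero]
    intro z hz
    obtain ⟨x, rfl⟩ := Ideal.Quotient.mk_surjective z
    rw [Ideal.quotientMap_mk, Ideal.Quotient.eq_zero_iff_mem] at hz
    rw [Ideal.Quotient.eq_zero_iff_mem]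
    rw [IsLocalization.algebraMap_mem_map_algebraMap_iff (Submonoid.powers g)] at hz
    obtain ⟨m, ⟨n, rfl⟩, hm⟩ := hz
    have h1 : x = g ^ n * x + (1 - g ^ n) * x := by ring
    rw [h1]
    exact J.add_mem hm (J.mul_mem_right _ (pow_sub_one_mem J g hg n))
  · intro z
    obtain ⟨y, rfl⟩ := Ideal.Quotient.mk_surjective z
    obtain ⟨n, x, hx⟩ := IsLocalization.Away.surj g y
    refine ⟨Ideal.Quotient.mk J x, ?_⟩
    rw [Ideal.quotientMap_mk, ← hx, Ideal.Quotient.mk_eq_mk_iff_sub_mem]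
    have h2 : y * algebraMap R S g ^ n - y = -(y * algebraMap R S (1 - g ^ n)) := by
      rw [map_sub, map_one, map_pow]; ring
    rw [h2]
    exact Ideal.neg_mem_iff _ |>.mpr (Ideal.mul_mem_left _ _
      (Ideal.mem_map_of_mem _ (pow_sub_one_mem J g hg n)))

/-- An open set containing `V(J)` contains a basic open `D(g)` with `g ≡ 1 (mod J)`. -/
theorem exists_basicOpen_subset (J : Ideal R) (U : Set (PrimeSpectrum R)) (hU : IsOpen U)
    (hJU : PrimeSpectrum.zeroLocus (J : Set R) ⊆ U) :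
    ∃ g : R, 1 - g ∈ J ∧ (PrimeSpectrum.basicOpen g : Set (PrimeSpectrum R)) ⊆ U := by
  obtain ⟨s, hs⟩ := (PrimeSpectrum.isClosed_iff_zeroLocus _).mp hU.isClosed_compl
  have hs' : Uᶜ = PrimeSpectrum.zeroLocus (Ideal.span s : Set R) := by
    rw [hs, PrimeSpectrum.zeroLocus_span]
  have hdisj : PrimeSpectrum.zeroLocus ((Ideal.span s ⊔ J : Ideal R) : Set R) = ∅ := by
    rw [PrimeSpectrum.zeroLocus_sup, ← hs']
    rw [Set.eq_empty_iff_forall_notMem]
    rintro p ⟨hp1, hp2⟩
    exact hp1 (hJU hp2)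
  rw [PrimeSpectrum.zeroLocus_empty_iff_eq_top] at hdisj
  have h1 : (1 : R) ∈ Ideal.span s ⊔ J := by rw [hdisj]; trivial
  obtain ⟨g, hg, j, hj, hgj⟩ := Submodule.mem_sup.mp h1
  refine ⟨g, ?_, ?_⟩
  · have : 1 - g = j := by rw [← hgj]; ring
    rw [this]; exact hj
  · intro p hp
    by_contra hpU
    have hp' : p ∈ PrimeSpectrum.zeroLocus (Ideal.span s : Set R) := by
      rw [← hs']; exact hpU
    exact hp (hp' hg)

end Groth.Agent.Lib.Helper26.AwayQuot
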