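import Mathlib
import Groth.Agent.Lib.Helper26HenselEtale

/-!
# Uniqueness of sections of unramified algebras modulo an ideal in the Jacobson radical (helper26)
-/

set_option autoImplicit false
universe u

open TensorProduct

namespace Groth.Agent.Lib.Helper26.HenselUnique

open Groth.Agent.Lib.Helper26.HenselEtale

/-- Two `A`-algebra maps from an unramified algebra of (essentially) finite type that agree modulo
an ideal contained in the Jacobson radical are equal. -/
theorem algHom_eq_of_sub_mem_jacobson {A B C : Type*} [CommRing A] [CommRing B] [CommRing C]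
    [Algebra A B] [Algebra A C] [Algebra.FormallyUnramified A B] [Algebra.EssFiniteType A B]
    (J : Ideal C) (hJ : J ≤ Ideal.jacobson ⊥) (φ ψ : B →ₐ[A] C) (h : ∀ x, φ x - ψ x ∈ J) :
    φ = ψ := by
  obtain ⟨e, he, hsp⟩ : ∃ e, IsIdempotentElem e ∧ KaehlerDifferential.ideal A B = B ⊗[A] B ∙ e :=
    (Ideal.isIdempotentElem_iff_of_fg _ (KaehlerDifferential.ideal_fg A B)).mp <|
      (Ideal.cotangent_subsingleton_iff _).mp <| inferInstanceAs <| Subsingleton Ω[B⁄A]
  let Φ : B ⊗[A] B →ₐ[A] C := Algebra.TensorProduct.productMap φ ψ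
  have hΦ : ∀ z : B ⊗[A] B, Φ z - φ (Algebra.TensorProduct.lmul' A z) ∈ J := by
    intro z
    induction z using TensorProduct.induction_on with
    | zero => simp
    | tmul x y =>
      simp only [Φ, Algebra.TensorProduct.productMap_apply_tmul,
        Algebra.TensorProduct.lmul'_apply_tmul, map_mul]
      have : φ x * ψ y - φ x * φ y = -(φ x * (φ y - ψ y)) := by ring
      rw [this]
      exact J.neg_mem (J.mul_mem_left _ (h y))
    | add x y hx hy =>
      have : Φ (x + y) - φ (Algebra.TensorProduct.lmul' A (x + y)) =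
          (Φ x - φ (Algebra.TensorProduct.lmul' A x)) +
          (Φ y - φ (Algebra.TensorProduct.lmul' A y)) := by
        simp only [map_add]; ring
      rw [this]
      exact J.add_mem hx hy
  have heker : Algebra.TensorProduct.lmul' A e = 0 := by
    have : e ∈ KaehlerDifferential.ideal A B := by
      rw [hsp]; exact Ideal.mem_span_singleton_self e
    exact (RingHom.mem_ker).mp this
  have hεJ : Φ e ∈ J := by
    have := hΦ e
    rwa [heker, map_zero, sub_zero] at this
  have hε0 : Φ e = 0 := eq_zero_of_idem_mem_jacobson _ (he.map Φ) (hJ hεJ)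
  ext x
  have hmem : (1 : B) ⊗ₜ[A] x - x ⊗ₜ[A] (1 : B) ∈ KaehlerDifferential.ideal A B :=
    KaehlerDifferential.one_smul_sub_smul_one_mem_ideal A x
  rw [hsp, Ideal.mem_span_singleton'] at hmem
  obtain ⟨z, hz⟩ := hmem
  have h1 := congrArg Φ hz
  rw [map_mul, hε0, mul_zero] at h1
  simp only [Φ, map_sub, Algebra.TensorProduct.productMap_apply_tmul, map_one, one_mul,
    mul_one] at h1
  exact (sub_eq_zero.mp h1.symm).symm

end Groth.Agent.Lib.Helper26.HenselUnique
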