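import Mathlib
import Groth.Agent.Lib.Helper26HenselUnique

/-!
# Maps out of étale neighbourhoods into Henselian pairs (helper26)

`R → S` étale with `R/I ≃ S/IS`; `(C, J)` a Henselian pair and `f : R →+* C` with `f(I) ⊆ J`.
Then there is exactly one ring map `S →+* C` extending `f`.
-/

set_option autoImplicit false
universe u

open TensorProduct

namespace Groth.Agent.Lib.Helper26.HenselNbhd

open Groth.Agent.Lib.Helper26.HenselEtale Groth.Agent.Lib.Helper26.HenselUnique

variable {R S : Type u} [CommRing R] [CommRing S] [Algebra R S]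

theorem exists_sub_mem_of_quotientMap_surjective (I : Ideal R)
    (hq : Function.Surjective
      (Ideal.quotientMap (I.map (algebraMap R S)) (algebraMap R S) Ideal.le_comap_map)) (s : S) :
    ∃ r : R, s - algebraMap R S r ∈ I.map (algebraMap R S) := by
  obtain ⟨z, hz⟩ := hq (Ideal.Quotient.mk _ s)
  obtain ⟨r, rfl⟩ := Ideal.Quotient.mk_surjective z
  refine ⟨r, ?_⟩
  rw [Ideal.quotientMap_mk, Ideal.Quotient.mk_eq_mk_iff_sub_mem] at hz
  have := Ideal.neg_mem_iff _ |>.mpr hz
  simpa using this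

/-- Uniqueness of extensions to an étale neighbourhood. -/
theorem ringHom_ext_of_etale_nbhd [Algebra.Etale R S] (I : Ideal R)
    (hq : Function.Surjective
      (Ideal.quotientMap (I.map (algebraMap R S)) (algebraMap R S) Ideal.le_comap_map))
    {C : Type u} [CommRing C] (J : Ideal C) (hJ : J ≤ Ideal.jacobson ⊥) (f : R →+* C)
    (hIJ : I.map f ≤ J) (g₁ g₂ : S →+* C) (h₁ : g₁.comp (algebraMap R S) = f)
    (h₂ : g₂.comp (algebraMap R S) = f) : g₁ = g₂ := by
  letI : Algebra R C := f.toAlgebra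
  have c1 : ∀ r, g₁ (algebraMap R S r) = algebraMap R C r := fun r => by
    change g₁ (algebraMap R S r) = f r
    rw [← h₁]; rfl
  have c2 : ∀ r, g₂ (algebraMap R S r) = algebraMap R C r := fun r => by
    change g₂ (algebraMap R S r) = f r
    rw [← h₂]; rfl
  let φ₁ : S →ₐ[R] C := AlgHom.mk g₁ c1
  let φ₂ : S →ₐ[R] C := AlgHom.mk g₂ c2
  have hmem : ∀ (g : S →+* C), g.comp (algebraMap R S) = f →
      ∀ j ∈ I.map (algebraMap R S), g j ∈ J := by
    intro g hg j hj
    have hle : I.map (algebraMap R S) ≤ J.comap g := by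
      rw [Ideal.map_le_iff_le_comap]
      intro i hi
      rw [Ideal.mem_comap, Ideal.mem_comap]
      apply hIJ
      rw [← hg]
      exact Ideal.mem_map_of_mem _ hi
    exact hle hj
  have key : φ₁ = φ₂ := by
    apply algHom_eq_of_sub_mem_jacobson J hJ
    intro s
    obtain ⟨r, hr⟩ := exists_sub_mem_of_quotientMap_surjective I hq s
    have e1 : φ₁ s - φ₂ s = g₁ (s - algebraMap R S r) - g₂ (s - algebraMap R S r) := by
      change g₁ s - g₂ s = _
      rw [map_sub, map_sub]
      have a1 : g₁ (algebraMap R S r) = f r := by rw [← h₁]; rfl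
      have a2 : g₂ (algebraMap R S r) = f r := by rw [← h₂]; rfl
      rw [a1, a2]; ring
    rw [e1]
    exact J.sub_mem (hmem g₁ h₁ _ hr) (hmem g₂ h₂ _ hr)
  ext s
  exact congrArg (fun φ : S →ₐ[R] C => φ s) key

/-- Existence of extensions to an étale neighbourhood. -/
theorem exists_ringHom_of_etale_nbhd [Algebra.Etale R S] (I : Ideal R)
    (hq : Function.Bijective
      (Ideal.quotientMap (I.map (algebraMap R S)) (algebraMap R S) Ideal.le_comap_map))
    {C : Type u} [CommRing C] (J : Ideal C) [HenselianRing C J] (f : R →+* C)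
    (hIJ : I.map f ≤ J) : ∃ g : S →+* C, g.comp (algebraMap R S) = f := by
  letI : Algebra R C := f.toAlgebra
  have hIJ' : I ≤ J.comap f := Ideal.map_le_iff_le_comap.mp hIJ
  let eq : (R ⧸ I) ≃+* (S ⧸ I.map (algebraMap R S)) := RingEquiv.ofBijective _ hq
  let χ₀ : S →+* C ⧸ J :=
    (Ideal.quotientMap J f hIJ').comp (eq.symm.toRingHom.comp (Ideal.Quotient.mk _))
  have hχ₀ : ∀ r : R, χ₀ (algebraMap R S r) = Ideal.Quotient.mk J (f r) := by
    intro r
    have h1 : eq (Ideal.Quotient.mk I r) = Ideal.Quotient.mk _ (algebraMap R S r) := rfl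
    have h2 : eq.symm (Ideal.Quotient.mk _ (algebraMap R S r)) = Ideal.Quotient.mk I r := by
      rw [← h1, RingEquiv.symm_apply_apply]
    simp only [χ₀, RingHom.coe_comp, Function.comp_apply, RingEquiv.toRingHom_eq_coe,
      RingHom.coe_coe, h2, Ideal.quotientMap_mk]
  have cχ : ∀ r, χ₀ (algebraMap R S r) = algebraMap R (C ⧸ J) r := fun r => by
    rw [hχ₀]
    rfl
  let χ : S →ₐ[R] C ⧸ J := AlgHom.mk χ₀ cχ
  let σ : C ⊗[R] S →ₐ[C] C ⧸ J :=
    Algebra.TensorProduct.lift (Algebra.ofId C (C ⧸ J)) χ (fun _ _ => Commute.all _ _)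
  obtain ⟨τ, -⟩ := etale_lift C J (C ⊗[R] S) σ
  refine ⟨(τ.toRingHom).comp (Algebra.TensorProduct.includeRight (R := R) (A := C)
    (B := S)).toRingHom, ?_⟩
  ext r
  simp only [RingHom.coe_comp, Function.comp_apply, AlgHom.toRingHom_eq_coe, RingHom.coe_coe,
    Algebra.TensorProduct.includeRight_apply]
  have h3 : (1 : C) ⊗ₜ[R] (algebraMap R S r) = algebraMap C (C ⊗[R] S) (f r) := by
    rw [Algebra.algebraMap_eq_smul_one, ← TensorProduct.smul_tmul, Algebra.smul_def, mul_one,
      Algebra.TensorProduct.algebraMap_apply]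
    rfl
  rw [h3, AlgHom.commutes]
  rfl

end Groth.Agent.Lib.Helper26.HenselNbhd
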