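import Mathlib
import Groth.Agent.Lib.Helper26HenselNbhd
import Groth.Agent.Lib.Helper26AwayQuot
import Groth.Agent.Lib.Helper20EtSection

/-!
# Étale neighbourhoods of a pair `(A, I)` (helper26)

`IsNbhd I C`: `C` is an étale `A`-algebra with `A/I ≃ C/IC` (elementwise form).
Closure properties: self, iso-invariance, transitivity, principal localization at `g ≡ 1`,
base change, tensor products; finite presentations; the Zariski localization `Zar`.
-/

set_option autoImplicit false
universe u

open TensorProduct

namespace Groth.Agent.Lib.Helper26.PairHz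

open Groth.Agent.Lib.Helper26.HenselUnique Groth.Agent.Lib.Helper26.AwayQuot

section Basic

variable {A : Type u} [CommRing A] (I : Ideal A)

/-- `A`-algebra maps carry `IC` into `ID`. -/
theorem map_mem_map {C D : Type*} [CommRing C] [CommRing D] [Algebra A C] [Algebra A D]
    (φ : C →ₐ[A] D) {x : C} (hx : x ∈ I.map (algebraMap A C)) :
    φ x ∈ I.map (algebraMap A D) := by
  have h1 : (I.map (algebraMap A C)).map φ.toRingHom = I.map (algebraMap A D) := by
    rw [Ideal.map_map]
    congr 1
    ext a
    simp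
  rw [← h1]
  exact Ideal.mem_map_of_mem _ hx

/-- Tower version. -/
theorem map_map_tower {C D : Type*} [CommRing C] [CommRing D] [Algebra A C] [Algebra A D]
    [Algebra C D] [IsScalarTower A C D] :
    (I.map (algebraMap A C)).map (algebraMap C D) = I.map (algebraMap A D) := by
  rw [Ideal.map_map, ← IsScalarTower.algebraMap_eq]

/-- Étale neighbourhood of the pair `(A, I)`. -/
structure IsNbhd (C : Type u) [CommRing C] [Algebra A C] : Prop where
  etale : Algebra.Etale A C
  surj : ∀ c : C, ∃ a : A, c - algebraMap A C a ∈ I.map (algebraMap A C)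
  inj : ∀ a : A, algebraMap A C a ∈ I.map (algebraMap A C) → a ∈ I

variable {I}

theorem IsNbhd.self : IsNbhd I A where
  etale := inferInstance
  surj c := ⟨c, by simp⟩
  inj a ha := by
    rw [Algebra.algebraMap_self, Ideal.map_id] at ha
    exact ha

theorem IsNbhd.of_algEquiv {C D : Type u} [CommRing C] [CommRing D] [Algebra A C] [Algebra A D]
    (h : IsNbhd I C) (e : C ≃ₐ[A] D) : IsNbhd I D where
  etale := by
    haveI := h.etale
    exact Algebra.Etale.of_equiv e
  surj d := by
    obtain ⟨a, ha⟩ := h.surj (e.symm d)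
    refine ⟨a, ?_⟩
    have := map_mem_map I e.toAlgHom ha
    simpa using this
  inj a ha := by
    apply h.inj
    have := map_mem_map I e.symm.toAlgHom ha
    simpa using this

theorem IsNbhd.quotientMap_bijective {C : Type u} [CommRing C] [Algebra A C] (h : IsNbhd I C) :
    Function.Bijective
      (Ideal.quotientMap (I.map (algebraMap A C)) (algebraMap A C) Ideal.le_comap_map) := by
  constructor
  · rw [injective_iff_map_eq_zero]
    intro z hz
    obtain ⟨a, rfl⟩ := Ideal.Quotient.mk_surjective z
    rw [Ideal.quotientMap_mk, Ideal.Quotient.eq_zero_iff_mem] at hz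
    rw [Ideal.Quotient.eq_zero_iff_mem]
    exact h.inj a hz
  · intro z
    obtain ⟨c, rfl⟩ := Ideal.Quotient.mk_surjective z
    obtain ⟨a, ha⟩ := h.surj c
    refine ⟨Ideal.Quotient.mk I a, ?_⟩
    rw [Ideal.quotientMap_mk, Ideal.Quotient.mk_eq_mk_iff_sub_mem]
    have := Ideal.neg_mem_iff _ |>.mpr ha
    simpa using this

theorem IsNbhd.of_quotientMap_bijective {C : Type u} [CommRing C] [Algebra A C]
    [Algebra.Etale A C]
    (h : Function.Bijective
      (Ideal.quotientMap (I.map (algebraMap A C)) (algebraMap A C) Ideal.le_comap_map)) :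
    IsNbhd I C where
  etale := inferInstance
  surj c := Groth.Agent.Lib.Helper26.HenselNbhd.exists_sub_mem_of_quotientMap_surjective I h.2 c
  inj a ha := by
    have h1 : Ideal.quotientMap (I.map (algebraMap A C)) (algebraMap A C) Ideal.le_comap_map
        (Ideal.Quotient.mk I a) = 0 := by
      rw [Ideal.quotientMap_mk, Ideal.Quotient.eq_zero_iff_mem]
      exact ha
    have h2 := h.1 (h1.trans (map_zero _).symm)
    exact Ideal.Quotient.eq_zero_iff_mem.mp h2

theorem IsNbhd.bijective {C : Type u} [CommRing C] [Algebra A C] (h : IsNbhd I C) :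
    Function.Bijective (algebraMap (A ⧸ I) (C ⧸ I.map (algebraMap A C))) :=
  h.quotientMap_bijective

theorem IsNbhd.of_bijective {C : Type u} [CommRing C] [Algebra A C] [Algebra.Etale A C]
    (h : Function.Bijective (algebraMap (A ⧸ I) (C ⧸ I.map (algebraMap A C)))) : IsNbhd I C :=
  IsNbhd.of_quotientMap_bijective h

/-- The retraction `C → A/I` of a neighbourhood. -/
theorem IsNbhd.exists_sigma {C : Type u} [CommRing C] [Algebra A C] (h : IsNbhd I C) :
    ∃ σ : C →ₐ[A] A ⧸ I, ∀ (c : C) (a : A), c - algebraMap A C a ∈ I.map (algebraMap A C) →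
      σ c = Ideal.Quotient.mk I a := by
  let e : (A ⧸ I) ≃+* (C ⧸ I.map (algebraMap A C)) := RingEquiv.ofBijective _ h.quotientMap_bijective
  have he : ∀ a, e (Ideal.Quotient.mk I a) = Ideal.Quotient.mk _ (algebraMap A C a) := fun a => rfl
  let σ₀ : C →+* A ⧸ I := e.symm.toRingHom.comp (Ideal.Quotient.mk _)
  have c1 : ∀ a, σ₀ (algebraMap A C a) = algebraMap A (A ⧸ I) a := by
    intro a
    change e.symm (Ideal.Quotient.mk _ (algebraMap A C a)) = _
    rw [← he, RingEquiv.symm_apply_apply]
    rfl
  refine ⟨AlgHom.mk σ₀ c1, ?_⟩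
  intro c a hca
  change e.symm (Ideal.Quotient.mk _ c) = _
  rw [RingEquiv.symm_apply_eq, he, Ideal.Quotient.mk_eq_mk_iff_sub_mem]
  exact hca

theorem IsNbhd.trans {C D : Type u} [CommRing C] [CommRing D] [Algebra A C] [Algebra A D]
    [Algebra C D] [IsScalarTower A C D] (h : IsNbhd I C)
    (h' : IsNbhd (I.map (algebraMap A C)) D) : IsNbhd I D where
  etale := by
    haveI := h.etale
    haveI := h'.etale
    exact Algebra.Etale.comp A C D
  surj d := by
    obtain ⟨c, hc⟩ := h'.surj d
    obtain ⟨a, ha⟩ := h.surj c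
    refine ⟨a, ?_⟩
    rw [map_map_tower] at hc
    have h1 : algebraMap C D (c - algebraMap A C a) ∈ I.map (algebraMap A D) := by
      rw [← map_map_tower I (C := C) (D := D)]
      exact Ideal.mem_map_of_mem _ ha
    have h2 : d - algebraMap A D a = (d - algebraMap C D c) + algebraMap C D (c - algebraMap A C a) := by
      rw [map_sub, ← IsScalarTower.algebraMap_apply]; ring
    rw [h2]
    exact Ideal.add_mem _ hc h1
  inj a ha := by
    apply h.inj
    apply h'.inj
    rw [map_map_tower, ← IsScalarTower.algebraMap_apply]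
    exact ha

/-- Principal localization at `g ≡ 1 (mod J)`. -/
theorem IsNbhd.away {C : Type u} [CommRing C] (J : Ideal C) (g : C) (hg : 1 - g ∈ J)
    (S : Type u) [CommRing S] [Algebra C S] [IsLocalization.Away g S] : IsNbhd J S := by
  haveI : Algebra.Etale C S := Algebra.Etale.of_isLocalizationAway g
  exact IsNbhd.of_quotientMap_bijective (quotientMap_away_bijective J g hg S)

/-- Base change of a neighbourhood. -/
theorem IsNbhd.baseChange {C : Type u} [CommRing C] [Algebra A C] (h : IsNbhd I C)
    (D : Type u) [CommRing D] [Algebra A D] :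
    IsNbhd (I.map (algebraMap A D)) (D ⊗[A] C) := by
  haveI := h.etale
  have hID : (I.map (algebraMap A D)).map (algebraMap D (D ⊗[A] C)) =
      I.map (algebraMap A (D ⊗[A] C)) := map_map_tower I
  refine ⟨inferInstance, ?_, ?_⟩
  · intro z
    rw [hID]
    induction z using TensorProduct.induction_on with
    | zero => exact ⟨0, by simp⟩
    | tmul d c =>
      obtain ⟨a, ha⟩ := h.surj c
      refine ⟨algebraMap A D a * d, ?_⟩
      have h1 : d ⊗ₜ[A] c - algebraMap D (D ⊗[A] C) (algebraMap A D a * d) =
          d ⊗ₜ[A] (c - algebraMap A C a) := by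
        rw [Algebra.TensorProduct.algebraMap_apply, TensorProduct.tmul_sub,
          Algebra.algebraMap_eq_smul_one (A := C), ← TensorProduct.smul_tmul,
          Algebra.smul_def, Algebra.algebraMap_self, RingHom.id_apply]
      rw [h1]
      have h2 : d ⊗ₜ[A] (c - algebraMap A C a) =
          (d ⊗ₜ[A] (1 : C)) * (Algebra.TensorProduct.includeRight (R := A) (A := D) (B := C))
            (c - algebraMap A C a) := by
        simp
      rw [h2]
      exact Ideal.mul_mem_left _ _ (map_mem_map I _ ha)
    | add x y hx hy =>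
      obtain ⟨a, ha⟩ := hx
      obtain ⟨b, hb⟩ := hy
      refine ⟨a + b, ?_⟩
      have : x + y - algebraMap D (D ⊗[A] C) (a + b) =
          (x - algebraMap D (D ⊗[A] C) a) + (y - algebraMap D (D ⊗[A] C) b) := by
        rw [map_add]; ring
      rw [this]
      exact Ideal.add_mem _ ha hb
  · intro d hd
    rw [hID] at hd
    obtain ⟨σ, -⟩ := h.exists_sigma
    let q : (A ⧸ I) →ₐ[A] D ⧸ I.map (algebraMap A D) :=
      Ideal.quotientMapₐ (I.map (algebraMap A D)) (Algebra.ofId A D) Ideal.le_comap_map
    let Φ : D ⊗[A] C →ₐ[D] D ⧸ I.map (algebraMap A D) :=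
      Algebra.TensorProduct.lift (Algebra.ofId D _) (q.comp σ) (fun _ _ => Commute.all _ _)
    have h1 := map_mem_map I (Φ.restrictScalars A) hd
    have h2 : I.map (algebraMap A (D ⧸ I.map (algebraMap A D))) = ⊥ := by
      rw [IsScalarTower.algebraMap_eq A D (D ⧸ I.map (algebraMap A D)), ← Ideal.map_map,
        Ideal.Quotient.algebraMap_eq, Ideal.map_quotient_self]
    rw [h2, Ideal.mem_bot] at h1
    have h3 : (Φ.restrictScalars A) (algebraMap D (D ⊗[A] C) d) = Ideal.Quotient.mk _ d := by
      change Φ (algebraMap D (D ⊗[A] C) d) = _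
      rw [AlgHom.commutes]
      rfl
    rw [h3, Ideal.Quotient.eq_zero_iff_mem] at h1
    exact h1

theorem IsNbhd.tensor {C C' : Type u} [CommRing C] [CommRing C'] [Algebra A C] [Algebra A C']
    (h : IsNbhd I C) (h' : IsNbhd I C') : IsNbhd I (C ⊗[A] C') :=
  h.trans (h'.baseChange C)

theorem IsNbhd.exists_presentation {C : Type u} [CommRing C] [Algebra A C] (h : IsNbhd I C) :
    ∃ (n : ℕ) (J : Ideal (MvPolynomial (Fin n) A)),
      Nonempty (C ≃ₐ[A] MvPolynomial (Fin n) A ⧸ J) := by
  haveI := h.etale
  obtain ⟨n, f, hf⟩ := Algebra.FiniteType.iff_quotient_mvPolynomial''.mp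
    (inferInstance : Algebra.FiniteType A C)
  exact ⟨n, RingHom.ker f.toRingHom, ⟨(Ideal.quotientKerAlgEquivOfSurjective hf).symm⟩⟩

end Basic

end Groth.Agent.Lib.Helper26.PairHz
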