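import Mathlib
import Groth.Agent.Lib.Helper26PairHzNbhd

/-!
# The Zariski localization `Zar J = C_{1+J}` (helper26)
-/

set_option autoImplicit false
universe u

open TensorProduct

namespace Groth.Agent.Lib.Helper26.PairHz

open Groth.Agent.Lib.Helper26.HenselUnique Groth.Agent.Lib.Helper26.HenselEtale

section Zar

variable {C : Type u} [CommRing C] (J : Ideal C)

/-- The submonoid `1 + J`. -/
def oneAdd : Submonoid C where
  carrier := {c | c - 1 ∈ J}
  one_mem' := by simp
  mul_mem' := by
    intro x y hx hy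
    have : x * y - 1 = (x - 1) * y + (y - 1) := by ring
    change x * y - 1 ∈ J
    rw [this]
    exact J.add_mem (J.mul_mem_right _ hx) hy

theorem mem_oneAdd {c : C} : c ∈ oneAdd J ↔ c - 1 ∈ J := Iff.rfl

/-- The Zariski localization of `C` along `J`. -/
abbrev Zar : Type u := Localization (oneAdd J)

theorem map_le_jacobson : J.map (algebraMap C (Zar J)) ≤ Ideal.jacobson ⊥ := by
  intro x hx
  rw [IsLocalization.mem_map_algebraMap_iff (oneAdd J)] at hx
  obtain ⟨⟨j, s⟩, hjs⟩ := hx
  rw [Ideal.mem_jacobson_bot]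
  intro y
  obtain ⟨⟨c, s'⟩, hy⟩ := IsLocalization.surj (oneAdd J) y
  simp only at hjs hy
  have hmem : (j : C) * c + s * s' ∈ oneAdd J := by
    rw [mem_oneAdd]
    have : (j : C) * c + s * s' - 1 = (j : C) * c + ((s * s' : oneAdd J) : C) - 1 := by
      simp
    rw [this, add_sub_assoc]
    exact J.add_mem (J.mul_mem_right _ j.2) (s * s').2
  have h1 : (x * y + 1) * algebraMap C (Zar J) ((s * s' : oneAdd J) : C) =
      algebraMap C (Zar J) ((j : C) * c + s * s') := by
    rw [Submonoid.coe_mul, map_add, map_mul, map_mul, ← hjs, ← hy]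
    ring
  have h2 : IsUnit (algebraMap C (Zar J) ((j : C) * c + s * s')) :=
    IsLocalization.map_units (Zar J) (⟨_, hmem⟩ : oneAdd J)
  rw [← h1] at h2
  exact isUnit_of_mul_isUnit_left h2

/-- Every element of `Zar J` is congruent mod `J` to an element of `C`. -/
theorem exists_sub_mem_zar (x : Zar J) :
    ∃ c : C, x - algebraMap C (Zar J) c ∈ J.map (algebraMap C (Zar J)) := by
  obtain ⟨⟨c, s⟩, hx⟩ := IsLocalization.surj (oneAdd J) x
  simp only at hx
  refine ⟨c, ?_⟩
  have : x - algebraMap C (Zar J) c = -(x * algebraMap C (Zar J) ((s : C) - 1)) := by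
    rw [← hx, map_sub, map_one]; ring
  rw [this]
  exact Ideal.neg_mem_iff _ |>.mpr (Ideal.mul_mem_left _ _ (Ideal.mem_map_of_mem _ s.2))

/-- If an element of `C` becomes an element of `J · Zar`, it lies in `J`. -/
theorem mem_of_algebraMap_mem_zar (c : C)
    (hc : algebraMap C (Zar J) c ∈ J.map (algebraMap C (Zar J))) : c ∈ J := by
  rw [IsLocalization.algebraMap_mem_map_algebraMap_iff (oneAdd J)] at hc
  obtain ⟨m, hm, hmc⟩ := hc
  have : c = m * c - (m - 1) * c := by ring
  rw [this]
  exact J.sub_mem hmc (J.mul_mem_right _ hm)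

end Zar

section ZarAlg

variable {A : Type u} [CommRing A] (I : Ideal A) (C : Type u) [CommRing C] [Algebra A C]

/-- The Zariski localization of an `A`-algebra along `IC`. -/
abbrev ZarA : Type u := Zar (I.map (algebraMap A C))

theorem zarA_map_le_jacobson : I.map (algebraMap A (ZarA I C)) ≤ Ideal.jacobson ⊥ := by
  rw [← map_map_tower I (C := C) (D := ZarA I C)]
  exact map_le_jacobson _

variable {I C}

theorem IsNbhd.exists_sub_mem_zarA (h : IsNbhd I C) (x : ZarA I C) :
    ∃ a : A, x - algebraMap A (ZarA I C) a ∈ I.map (algebraMap A (ZarA I C)) := by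
  obtain ⟨c, hc⟩ := exists_sub_mem_zar (I.map (algebraMap A C)) x
  obtain ⟨a, ha⟩ := h.surj c
  refine ⟨a, ?_⟩
  rw [map_map_tower] at hc
  have h1 : algebraMap C (ZarA I C) (c - algebraMap A C a) ∈ I.map (algebraMap A (ZarA I C)) := by
    rw [← map_map_tower I (C := C) (D := ZarA I C)]
    exact Ideal.mem_map_of_mem _ ha
  have h2 : x - algebraMap A (ZarA I C) a =
      (x - algebraMap C (ZarA I C) c) + algebraMap C (ZarA I C) (c - algebraMap A C a) := by
    rw [map_sub, ← IsScalarTower.algebraMap_apply]; ring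
  rw [h2]
  exact Ideal.add_mem _ hc h1

instance zarA_formallyUnramified [Algebra.FormallyUnramified A C] :
    Algebra.FormallyUnramified A (ZarA I C) := by
  haveI : Algebra.FormallyUnramified C (ZarA I C) :=
    Algebra.FormallyUnramified.of_isLocalization (oneAdd (I.map (algebraMap A C)))
  exact Algebra.FormallyUnramified.comp A C (ZarA I C)

instance zarA_essFiniteType [Algebra.EssFiniteType A C] :
    Algebra.EssFiniteType A (ZarA I C) := by
  haveI : Algebra.EssFiniteType C (ZarA I C) :=
    Algebra.EssFiniteType.of_isLocalization _ (oneAdd (I.map (algebraMap A C)))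
  exact Algebra.EssFiniteType.comp A C (ZarA I C)

/-- Maps out of the Zariski localization of a neighbourhood into a Zariski pair are unique. -/
theorem IsNbhd.algHom_zarA_ext (h : IsNbhd I C) {D : Type*} [CommRing D] [Algebra A D]
    (hD : I.map (algebraMap A D) ≤ Ideal.jacobson ⊥) (φ ψ : ZarA I C →ₐ[A] D) : φ = ψ := by
  haveI := h.etale
  apply algHom_eq_of_sub_mem_jacobson _ hD
  intro x
  obtain ⟨a, ha⟩ := h.exists_sub_mem_zarA x
  have e1 : φ x - ψ x = φ (x - algebraMap A _ a) - ψ (x - algebraMap A _ a) := by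
    rw [map_sub, map_sub, AlgHom.commutes, AlgHom.commutes]; ring
  rw [e1]
  exact Ideal.sub_mem _ (map_mem_map I φ ha) (map_mem_map I ψ ha)

/-- Maps out of a neighbourhood into a Zariski pair are unique. -/
theorem IsNbhd.algHom_ext (h : IsNbhd I C) {D : Type*} [CommRing D] [Algebra A D]
    (hD : I.map (algebraMap A D) ≤ Ideal.jacobson ⊥) (φ ψ : C →ₐ[A] D) : φ = ψ := by
  haveI := h.etale
  apply algHom_eq_of_sub_mem_jacobson _ hD
  intro x
  obtain ⟨a, ha⟩ := h.surj x
  have e1 : φ x - ψ x = φ (x - algebraMap A _ a) - ψ (x - algebraMap A _ a) := by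
    rw [map_sub, map_sub, AlgHom.commutes, AlgHom.commutes]; ring
  rw [e1]
  exact Ideal.sub_mem _ (map_mem_map I φ ha) (map_mem_map I ψ ha)

/-- Extension of maps to the Zariski localization. -/
noncomputable def zarLift {D : Type*} [CommRing D] [Algebra A D]
    (hD : I.map (algebraMap A D) ≤ Ideal.jacobson ⊥) (φ : C →ₐ[A] D) : ZarA I C →ₐ[A] D :=
  IsLocalization.liftAlgHom (M := oneAdd (I.map (algebraMap A C))) (f := φ) (by
    intro y
    apply isUnit_of_sub_one_mem _ hD
    have := map_mem_map I φ y.2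
    rwa [map_sub, map_one] at this)

theorem zarLift_algebraMap {D : Type*} [CommRing D] [Algebra A D]
    (hD : I.map (algebraMap A D) ≤ Ideal.jacobson ⊥) (φ : C →ₐ[A] D) (c : C) :
    zarLift hD φ (algebraMap C (ZarA I C) c) = φ c := by
  rw [zarLift, IsLocalization.liftAlgHom_apply, IsLocalization.lift_eq]
  rfl

end ZarAlg

end Groth.Agent.Lib.Helper26.PairHz
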