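import Mathlib
import Groth.Agent.Lib.Helper26PairHzZar
import Groth.Agent.Lib.Helper18ColimSys

/-!
# The henselization of a pair as a direct limit (helper26), part 1: the directed system
-/

set_option autoImplicit false
universe u

open TensorProduct

namespace Groth.Agent.Lib.Helper26.PairHz

open Groth.Agent.Lib.Helper26.HenselUnique Groth.Agent.Lib.Helper26.HenselEtale
open Groth.Agent.Lib.Helper18ColimSys

variable (A : Type u) [CommRing A] (I : Ideal A)

/-- Index: a presented étale neighbourhood of `(A, I)`. -/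
structure Idx where
  n : ℕ
  J : Ideal (MvPolynomial (Fin n) A)
  nbhd : IsNbhd I (MvPolynomial (Fin n) A ⧸ J)

variable {A I}

namespace Idx

/-- the étale algebra of an index -/
def C (i : Idx A I) : Type u := MvPolynomial (Fin i.n) A ⧸ i.J

noncomputable instance (i : Idx A I) : CommRing i.C :=
  inferInstanceAs (CommRing (MvPolynomial (Fin i.n) A ⧸ i.J))
noncomputable instance (i : Idx A I) : Algebra A i.C :=
  inferInstanceAs (Algebra A (MvPolynomial (Fin i.n) A ⧸ i.J))

theorem isNbhd (i : Idx A I) : IsNbhd I i.C := i.nbhd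

instance (i : Idx A I) : Algebra.Etale A i.C := i.nbhd.etale

/-- the stage ring -/
abbrev L (i : Idx A I) : Type u := ZarA I i.C

end Idx

/-- Every neighbourhood is isomorphic to an indexed one. -/
theorem exists_idx {C : Type u} [CommRing C] [Algebra A C] (h : IsNbhd I C) :
    ∃ i : Idx A I, Nonempty (C ≃ₐ[A] i.C) := by
  obtain ⟨n, J, ⟨e⟩⟩ := h.exists_presentation
  exact ⟨⟨n, J, h.of_algEquiv e⟩, ⟨e⟩⟩

instance : Nonempty (Idx A I) := by
  obtain ⟨i, -⟩ := exists_idx (IsNbhd.self (I := I))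
  exact ⟨i⟩

instance : Preorder (Idx A I) where
  le i j := Nonempty (i.C →ₐ[A] j.C)
  le_refl i := ⟨AlgHom.id A _⟩
  le_trans i j k := fun ⟨f⟩ ⟨g⟩ => ⟨g.comp f⟩

instance : IsDirectedOrder (Idx A I) := by
  constructor
  intro i j
  obtain ⟨k, ⟨e⟩⟩ := exists_idx (i.isNbhd.tensor j.isNbhd)
  exact ⟨k, ⟨e.toAlgHom.comp Algebra.TensorProduct.includeLeft⟩,
    ⟨e.toAlgHom.comp Algebra.TensorProduct.includeRight⟩⟩

instance (i j : Idx A I) : Subsingleton (i.L →ₐ[A] j.L) :=
  ⟨fun φ ψ => i.isNbhd.algHom_zarA_ext (zarA_map_le_jacobson I j.C) φ ψ⟩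

/-- the map of stage rings induced by a map of neighbourhoods -/
noncomputable def stageMap {i j : Idx A I} (φ : i.C →ₐ[A] j.C) : i.L →ₐ[A] j.L :=
  zarLift (zarA_map_le_jacobson I j.C) ((IsScalarTower.toAlgHom A j.C j.L).comp φ)

theorem stageMap_algebraMap {i j : Idx A I} (φ : i.C →ₐ[A] j.C) (x : i.C) :
    stageMap φ (algebraMap i.C i.L x) = algebraMap j.C j.L (φ x) := by
  rw [stageMap, zarLift_algebraMap]
  rfl

/-- transition maps -/
noncomputable def fmap (i j : Idx A I) (h : i ≤ j) : i.L →ₐ[A] j.L := stageMap h.some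

theorem fmap_eq (i j : Idx A I) (h : i ≤ j) (φ : i.C →ₐ[A] j.C) : fmap i j h = stageMap φ :=
  Subsingleton.elim _ _

theorem fmap_algebraMap (i j : Idx A I) (h : i ≤ j) (φ : i.C →ₐ[A] j.C) (x : i.C) :
    fmap i j h (algebraMap i.C i.L x) = algebraMap j.C j.L (φ x) := by
  rw [fmap_eq i j h φ, stageMap_algebraMap]

/-- transition maps as ring homs -/
noncomputable def fmap' (i j : Idx A I) (h : i ≤ j) : i.L →+* j.L := (fmap i j h).toRingHom

instance : DirectedSystem (fun i : Idx A I => i.L) (fun _ _ h => fmap' _ _ h) where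
  map_self i x := by
    have : fmap i i le_rfl = AlgHom.id A _ := Subsingleton.elim _ _
    change fmap i i le_rfl x = x
    rw [this]; rfl
  map_map k j i hij hjk x := by
    have : (fmap j k hjk).comp (fmap i j hij) = fmap i k (hij.trans hjk) := Subsingleton.elim _ _
    change (fmap j k hjk) ((fmap i j hij) x) = fmap i k (hij.trans hjk) x
    rw [← this]; rfl

variable (A I) in
/-- The henselization of the pair `(A, I)` (as a ring). -/
abbrev Hz : Type u := Ring.DirectLimit (fun i : Idx A I => i.L) (fun _ _ h => fmap' _ _ h)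

/-- the canonical maps -/
noncomputable abbrev ofL (i : Idx A I) : i.L →+* Hz A I :=
  Ring.DirectLimit.of (fun i : Idx A I => i.L) (fun _ _ h => fmap' _ _ h) i

theorem ofL_fmap {i j : Idx A I} (h : i ≤ j) (x : i.L) : ofL j (fmap' i j h x) = ofL i x :=
  Ring.DirectLimit.of_f h x

theorem ofL_algebraMap (i j : Idx A I) (r : A) :
    ofL i (algebraMap A i.L r) = ofL j (algebraMap A j.L r) := by
  obtain ⟨k, hik, hjk⟩ := exists_ge_ge i j
  rw [← ofL_fmap hik, ← ofL_fmap hjk]
  congr 1
  exact ((fmap i k hik).commutes r).trans ((fmap j k hjk).commutes r).symm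

noncomputable instance : Algebra A (Hz A I) :=
  ((ofL (Classical.arbitrary (Idx A I))).comp (algebraMap A _)).toAlgebra

theorem algebraMap_eq (i : Idx A I) (r : A) :
    algebraMap A (Hz A I) r = ofL i (algebraMap A i.L r) :=
  ofL_algebraMap _ i r

/-- the canonical maps as algebra homs -/
noncomputable def ofLₐ (i : Idx A I) : i.L →ₐ[A] Hz A I :=
  AlgHom.mk (ofL i) (fun r => (algebraMap_eq i r).symm)

theorem ofLₐ_apply (i : Idx A I) (x : i.L) : ofLₐ i x = ofL i x := rfl

/-- the canonical maps from the neighbourhoods -/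
noncomputable def ofC (i : Idx A I) : i.C →ₐ[A] Hz A I :=
  (ofLₐ i).comp (IsScalarTower.toAlgHom A i.C i.L)

theorem ofC_apply (i : Idx A I) (x : i.C) : ofC i x = ofL i (algebraMap i.C i.L x) := rfl

theorem ofC_comp {i j : Idx A I} (φ : i.C →ₐ[A] j.C) : (ofC j).comp φ = ofC i := by
  ext x
  change ofL j (algebraMap j.C j.L (φ x)) = ofL i (algebraMap i.C i.L x)
  rw [← fmap_algebraMap i j ⟨φ⟩ φ x]
  exact ofL_fmap _ _

theorem exists_ofL (z : Hz A I) : ∃ i x, ofL i x = z := Ring.DirectLimit.exists_of z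

theorem exists_ofL₂ (z w : Hz A I) : ∃ i x y, ofL i x = z ∧ ofL i y = w := by
  obtain ⟨i, x, rfl⟩ := exists_ofL z
  obtain ⟨j, y, rfl⟩ := exists_ofL w
  obtain ⟨k, hik, hjk⟩ := exists_ge_ge i j
  exact ⟨k, fmap' i k hik x, fmap' j k hjk y, ofL_fmap hik x, ofL_fmap hjk y⟩

theorem ofL_eq_zero {i : Idx A I} {x : i.L} (h : ofL i x = 0) :
    ∃ (j : Idx A I) (hij : i ≤ j), fmap' i j hij x = 0 :=
  Ring.DirectLimit.of.zero_exact h

/-- Elements of `I · Hz` come from `I · L i`. -/
theorem exists_mem_of_mem_map (z : Hz A I) (hz : z ∈ I.map (algebraMap A (Hz A I))) :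
    ∃ (i : Idx A I) (x : i.L), x ∈ I.map (algebraMap A i.L) ∧ ofL i x = z := by
  rw [Ideal.map] at hz
  induction hz using Submodule.span_induction with
  | mem x hx =>
    obtain ⟨a, ha, rfl⟩ := hx
    let i := Classical.arbitrary (Idx A I)
    exact ⟨i, algebraMap A i.L a, Ideal.mem_map_of_mem _ ha, (algebraMap_eq i a).symm⟩
  | zero =>
    let i := Classical.arbitrary (Idx A I)
    exact ⟨i, 0, Ideal.zero_mem _, map_zero _⟩
  | add x y _ _ hx hy =>
    obtain ⟨i, x', hx', rfl⟩ := hx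
    obtain ⟨j, y', hy', rfl⟩ := hy
    obtain ⟨k, hik, hjk⟩ := exists_ge_ge i j
    refine ⟨k, fmap i k hik x' + fmap j k hjk y', Ideal.add_mem _ (map_mem_map I _ hx')
      (map_mem_map I _ hy'), ?_⟩
    rw [map_add]
    congr 1
    · exact ofL_fmap hik x'
    · exact ofL_fmap hjk y'
  | smul w x _ hx =>
    obtain ⟨i, x', hx', rfl⟩ := hx
    obtain ⟨j, w', rfl⟩ := exists_ofL w
    obtain ⟨k, hik, hjk⟩ := exists_ge_ge i j
    refine ⟨k, fmap j k hjk w' * fmap i k hik x', Ideal.mul_mem_left _ _ (map_mem_map I _ hx'), ?_⟩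
    rw [map_mul, smul_eq_mul]
    congr 1
    · exact ofL_fmap hjk w'
    · exact ofL_fmap hik x'

/-- `(Hz, I·Hz)` is a Zariski pair. -/
theorem map_le_jacobson_Hz : I.map (algebraMap A (Hz A I)) ≤ Ideal.jacobson ⊥ := by
  intro z hz
  rw [Ideal.mem_jacobson_bot]
  intro w
  obtain ⟨i, x, hx, rfl⟩ := exists_mem_of_mem_map z hz
  obtain ⟨j, y, rfl⟩ := exists_ofL w
  obtain ⟨k, hik, hjk⟩ := exists_ge_ge i j
  have h1 : IsUnit (fmap i k hik x * fmap j k hjk y + 1) :=
    Ideal.mem_jacobson_bot.mp (zarA_map_le_jacobson I k.C (map_mem_map I _ hx)) _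
  have h2 := h1.map (ofL k)
  rw [map_add, map_mul, map_one] at h2
  have e1 : ofL k (fmap i k hik x) = ofL i x := ofL_fmap hik x
  have e2 : ofL k (fmap j k hjk y) = ofL j y := ofL_fmap hjk y
  rwa [e1, e2] at h2

/-- Uniqueness of maps from neighbourhoods into `Hz`. -/
theorem algHom_Hz_ext {C : Type u} [CommRing C] [Algebra A C] (h : IsNbhd I C)
    (φ ψ : C →ₐ[A] Hz A I) : φ = ψ :=
  h.algHom_ext map_le_jacobson_Hz φ ψ

/-- Principal localization of an indexed neighbourhood, as an index. -/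
theorem exists_idx_away (i : Idx A I) (s : i.C) (hs : s - 1 ∈ I.map (algebraMap A i.C)) :
    ∃ (j : Idx A I) (φ : i.C →ₐ[A] j.C) (t : j.C), φ s * t = 1 ∧
      ∀ c : i.C, s * c = 0 → φ c = 0 := by
  have hs' : 1 - s ∈ I.map (algebraMap A i.C) := by
    have := Ideal.neg_mem_iff _ |>.mpr hs
    simpa using this
  have hN : IsNbhd I (Localization.Away s) :=
    i.isNbhd.trans (IsNbhd.away _ s hs' (Localization.Away s))
  obtain ⟨j, ⟨e⟩⟩ := exists_idx hN
  refine ⟨j, e.toAlgHom.comp (IsScalarTower.toAlgHom A i.C (Localization.Away s)),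
    e (IsLocalization.Away.invSelf s), ?_, ?_⟩
  · change e (algebraMap i.C (Localization.Away s) s) * e (IsLocalization.Away.invSelf s) = 1
    rw [← map_mul, IsLocalization.Away.mul_invSelf, map_one]
  · intro c hc
    change e (algebraMap i.C (Localization.Away s) c) = 0
    have : algebraMap i.C (Localization.Away s) c = 0 := by
      have hu : IsUnit (algebraMap i.C (Localization.Away s) s) :=
        IsLocalization.Away.algebraMap_isUnit s
      have h0 : algebraMap i.C (Localization.Away s) s * algebraMap i.C (Localization.Away s) c = 0 := by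
        rw [← map_mul, hc, map_zero]
      exact (hu.mul_right_eq_zero).mp h0
    rw [this, map_zero]

/-- The system of neighbourhoods with colimit `Hz`. -/
theorem sys : Sys A (fun i : Idx A I => i.C) (Hz A I) ofC where
  nonempty := inferInstance
  surj z := by
    obtain ⟨i, y, rfl⟩ := exists_ofL z
    obtain ⟨⟨c, s⟩, hy⟩ := IsLocalization.surj (oneAdd (I.map (algebraMap A i.C))) y
    simp only at hy
    obtain ⟨j, φ, t, hst, -⟩ := exists_idx_away i (s : i.C) s.2
    refine ⟨j, φ c * t, ?_⟩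
    have hij : i ≤ j := ⟨φ⟩
    have e1 : ofL i y = ofL j (fmap i j hij y) := (ofL_fmap hij y).symm
    rw [e1, ofC_apply]
    congr 1
    have h1 : fmap i j hij y * algebraMap j.C j.L (φ s) = algebraMap j.C j.L (φ c) := by
      rw [← fmap_algebraMap i j hij φ, ← fmap_algebraMap i j hij φ, ← map_mul, hy]
    have h2 : algebraMap j.C j.L (φ s) * algebraMap j.C j.L t = 1 := by
      rw [← map_mul, hst, map_one]
    calc algebraMap j.C j.L (φ c * t) = algebraMap j.C j.L (φ c) * algebraMap j.C j.L t := map_mul _ _ _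
      _ = fmap i j hij y * (algebraMap j.C j.L (φ s) * algebraMap j.C j.L t) := by rw [← h1]; ring
      _ = fmap i j hij y := by rw [h2, mul_one]
  dir i j := by
    obtain ⟨k, ⟨φ⟩, ⟨ψ⟩⟩ := exists_ge_ge i j
    exact ⟨k, φ, ψ, ofC_comp φ, ofC_comp ψ⟩
  ker i x hx := by
    rw [ofC_apply] at hx
    obtain ⟨j, hij, hj⟩ := ofL_eq_zero hx
    obtain ⟨φ⟩ := hij
    have h1 : algebraMap j.C j.L (φ x) = 0 := by
      rw [← fmap_algebraMap i j ⟨φ⟩ φ x]
      exact hj
    rw [IsLocalization.map_eq_zero_iff (oneAdd (I.map (algebraMap A j.C)))] at h1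
    obtain ⟨s, hs⟩ := h1
    obtain ⟨k, ψ, -, -, hk⟩ := exists_idx_away j (s : j.C) s.2
    exact ⟨k, ψ.comp φ, by rw [← AlgHom.comp_assoc, ofC_comp, ofC_comp], hk _ hs⟩

end Groth.Agent.Lib.Helper26.PairHz
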