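import Mathlib
import Groth.Agent.Lib.Helper26PairHzSys

/-!
# The henselization of a pair (helper26), part 2: root lemma at the level of neighbourhoods
-/

set_option autoImplicit false
universe u

open TensorProduct Polynomial

namespace Groth.Agent.Lib.Helper26.PairHz

open Groth.Agent.Lib.Helper26.HenselUnique Groth.Agent.Lib.Helper26.HenselEtale

theorem eval_map_hom' {X Y : Type*} [CommRing X] [CommRing Y] (h : X →+* Y) (g : X[X]) (x : X) :
    (g.map h).eval (h x) = h (g.eval x) := by
  rw [eval_map, eval₂_hom]

/-- **Root lemma**: a simple root modulo `J` of a monic polynomial becomes an honest root in an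
étale neighbourhood of `(R, J)`. -/
theorem exists_nbhd_root {R : Type u} [CommRing R] (J : Ideal R) (f : R[X]) (hf : f.Monic)
    (α ν : R) (h1 : f.eval α ∈ J) (h2 : f.derivative.eval α * ν - 1 ∈ J) :
    ∃ (R' : Type u) (_ : CommRing R') (_ : Algebra R R'), IsNbhd J R' ∧
      ∃ r : R', (f.map (algebraMap R R')).eval r = 0 ∧
        r - algebraMap R R' α ∈ J.map (algebraMap R R') := by
  let P : StandardEtalePair R := ⟨f, hf, f.derivative, ⟨1, 0, 1, by simp⟩⟩
  have hmap : P.HasMap (Ideal.Quotient.mk J α) := by
    constructor
    · change aeval (Ideal.Quotient.mk J α) f = 0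
      have : aeval (Ideal.Quotient.mk J α) f = Ideal.Quotient.mk J (f.eval α) := by
        rw [← Ideal.Quotient.algebraMap_eq, aeval_algebraMap_apply]
        rfl
      rw [this, Ideal.Quotient.eq_zero_iff_mem]
      exact h1
    · change IsUnit (aeval (Ideal.Quotient.mk J α) f.derivative)
      have : aeval (Ideal.Quotient.mk J α) f.derivative =
          Ideal.Quotient.mk J (f.derivative.eval α) := by
        rw [← Ideal.Quotient.algebraMap_eq, aeval_algebraMap_apply]
        rfl
      rw [this]
      refine IsUnit.of_mul_eq_one (Ideal.Quotient.mk J ν) ?_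
      rw [← map_mul, ← sub_eq_zero, ← map_one (Ideal.Quotient.mk J), ← map_sub,
        Ideal.Quotient.eq_zero_iff_mem]
      exact h2
  let σ : P.Ring →ₐ[R] R ⧸ J := P.lift _ hmap
  obtain ⟨b, -, hbij, hcompat⟩ := Groth.Agent.Lib.Helper20.EtSection.exists_localization J σ
  haveI : Algebra.Etale R (Localization.Away b) := by
    haveI : Algebra.Etale P.Ring (Localization.Away b) := Algebra.Etale.of_isLocalizationAway b
    exact Algebra.Etale.comp R P.Ring (Localization.Away b)
  refine ⟨Localization.Away b, inferInstance, inferInstance, IsNbhd.of_bijective hbij,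
    algebraMap P.Ring (Localization.Away b) P.X, ?_, ?_⟩
  · have h0 : aeval P.X f = 0 := (StandardEtalePair.hasMap_X (P := P)).1
    have e1 : (f.map (algebraMap R (Localization.Away b))).eval
        (algebraMap P.Ring (Localization.Away b) P.X) =
        algebraMap P.Ring (Localization.Away b) (aeval P.X f) := by
      rw [eval_map, ← aeval_def, ← aeval_algebraMap_apply]
    rw [e1, h0, map_zero]
  · have hc := hcompat (P.X - algebraMap R P.Ring α)
    have hσ : σ (P.X - algebraMap R P.Ring α) = 0 := by
      rw [map_sub, AlgHom.commutes]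
      change P.lift _ hmap P.X - _ = 0
      rw [StandardEtalePair.lift_X]
      exact sub_self _
    rw [hσ, map_zero] at hc
    have := Ideal.Quotient.eq_zero_iff_mem.mp hc.symm
    rwa [map_sub, ← IsScalarTower.algebraMap_apply] at this

end Groth.Agent.Lib.Helper26.PairHz
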