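import Mathlib
import Groth.Agent.Lib.Helper26PairHzRoot
import Groth.Prelude.Def_Hens2

/-!
# The henselization of a pair (helper26), part 3: `Hz A I` is a henselization of `(A, I)`
-/

set_option autoImplicit false
universe u

open TensorProduct Polynomial

namespace Groth.Agent.Lib.Helper26.PairHz

open Groth.Agent.Lib.Helper26.HenselUnique Groth.Agent.Lib.Helper26.HenselEtale
open Groth.Agent.Lib.Helper18ColimSys Groth.Agent.Lib.Helper26.HenselNbhd

variable {A : Type u} [CommRing A] {I : Ideal A}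

theorem eval_map_algHom {X Y : Type*} [CommRing X] [CommRing Y] [Algebra A X] [Algebra A Y]
    (φ : X →ₐ[A] Y) (g : X[X]) (x : X) :
    (g.map φ.toRingHom).eval (φ x) = φ (g.eval x) :=
  eval_map_hom' φ.toRingHom g x

theorem eval_map_comp {X Y Z : Type*} [CommRing X] [CommRing Y] [CommRing Z] (h : X →+* Y)
    (g : Y →+* Z) (p : X[X]) (y : Y) :
    (p.map (g.comp h)).eval (g y) = g ((p.map h).eval y) := by
  rw [← Polynomial.map_map, eval_map_hom']

/-- Elements of `I · Hz` come from `I · C i`. -/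
theorem exists_mem_C_of_mem_map (z : Hz A I) (hz : z ∈ I.map (algebraMap A (Hz A I))) :
    ∃ (i : Idx A I) (c : i.C), c ∈ I.map (algebraMap A i.C) ∧ ofC i c = z := by
  rw [Ideal.map] at hz
  induction hz using Submodule.span_induction with
  | mem x hx =>
    obtain ⟨a, ha, rfl⟩ := hx
    let i := Classical.arbitrary (Idx A I)
    exact ⟨i, algebraMap A i.C a, Ideal.mem_map_of_mem _ ha, (ofC i).commutes a⟩
  | zero =>
    let i := Classical.arbitrary (Idx A I)
    exact ⟨i, 0, Ideal.zero_mem _, map_zero _⟩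
  | add x y _ _ hx hy =>
    obtain ⟨i, x', hx', rfl⟩ := hx
    obtain ⟨j, y', hy', rfl⟩ := hy
    obtain ⟨k, φ, ψ, hφ, hψ⟩ := (sys (A := A) (I := I)).dir i j
    refine ⟨k, φ x' + ψ y', Ideal.add_mem _ (map_mem_map I _ hx') (map_mem_map I _ hy'), ?_⟩
    rw [map_add, ← hφ, ← hψ]
    rfl
  | smul w x _ hx =>
    obtain ⟨i, x', hx', rfl⟩ := hx
    obtain ⟨j, w', rfl⟩ := (sys (A := A) (I := I)).surj w
    obtain ⟨k, φ, ψ, hφ, hψ⟩ := (sys (A := A) (I := I)).dir i j
    refine ⟨k, ψ w' * φ x', Ideal.mul_mem_left _ _ (map_mem_map I _ hx'), ?_⟩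
    rw [map_mul, smul_eq_mul, ← hφ, ← hψ]
    rfl

/-- An element of a neighbourhood mapping into `I · Hz` lies in `I · C j` at a later stage. -/
theorem exists_map_mem (i : Idx A I) (c : i.C) (hc : ofC i c ∈ I.map (algebraMap A (Hz A I))) :
    ∃ (j : Idx A I) (φ : i.C →ₐ[A] j.C), φ c ∈ I.map (algebraMap A j.C) := by
  obtain ⟨i', c', hc', hcc'⟩ := exists_mem_C_of_mem_map _ hc
  obtain ⟨k, φ, ψ, hφ, hψ⟩ := (sys (A := A) (I := I)).dir i i'
  have h0 : ofC k (φ c - ψ c') = 0 := by
    rw [map_sub, sub_eq_zero]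
    have e1 : ofC k (φ c) = ofC i c := congrArg (fun g : i.C →ₐ[A] Hz A I => g c) hφ
    have e2 : ofC k (ψ c') = ofC i' c' := congrArg (fun g : i'.C →ₐ[A] Hz A I => g c') hψ
    rw [e1, e2, hcc']
  obtain ⟨l, χ, -, hχ⟩ := (sys (A := A) (I := I)).ker k _ h0
  refine ⟨l, χ.comp φ, ?_⟩
  rw [map_sub, sub_eq_zero] at hχ
  change χ (φ c) ∈ _
  rw [hχ]
  exact map_mem_map I _ (map_mem_map I _ hc')

/-- `Hz A I` is Henselian along `I · Hz`. -/
theorem henselianRing_Hz : HenselianRing (Hz A I) (I.map (algebraMap A (Hz A I))) := by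
  classical
  refine ⟨map_le_jacobson_Hz, ?_⟩
  intro F hF a₀ h₁ h₂
  obtain ⟨v, hv⟩ := h₂.exists_right_inv
  obtain ⟨v, rfl⟩ := Ideal.Quotient.mk_surjective v
  have hv' : F.derivative.eval a₀ * v - 1 ∈ I.map (algebraMap A (Hz A I)) := by
    rw [← Ideal.Quotient.eq_zero_iff_mem, map_sub, map_mul, hv, map_one, sub_self]
  set n := F.natDegree with hn
  -- descend the data to a neighbourhood
  let dat : Fin n ⊕ Fin 2 → Hz A I := Sum.elim (fun k => F.coeff k) ![a₀, v]
  obtain ⟨i, -, -, x, hx⟩ := (sys (A := A) (I := I)).lift_fun (Classical.arbitrary _) dat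
  set f : (i.C)[X] := X ^ n + ∑ k : Fin n, C (x (Sum.inl k)) * X ^ (k : ℕ) with hfdef
  have hfmonic : f.Monic := by
    apply monic_X_pow_add
    refine (degree_sum_le _ _).trans_lt ?_
    rw [Finset.sup_lt_iff (by exact WithBot.bot_lt_coe n)]
    intro k _
    exact (degree_C_mul_X_pow_le (k : ℕ) _).trans_lt (by exact_mod_cast k.2)
  have hfmap : f.map (ofC i).toRingHom = F := by
    rw [hfdef, Polynomial.map_add, Polynomial.map_pow, map_X, Polynomial.map_sum]
    conv_rhs => rw [hF.as_sum, ← hn, ← Fin.sum_univ_eq_sum_range (fun k => C (F.coeff k) * X ^ k) n]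
    congr 1
    apply Finset.sum_congr rfl
    intro k _
    rw [Polynomial.map_mul, map_C, Polynomial.map_pow, map_X]
    congr 2
    exact hx (Sum.inl k)
  set α : i.C := x (Sum.inr 0) with hα
  set ν : i.C := x (Sum.inr 1) with hν
  have hαa : ofC i α = a₀ := hx (Sum.inr 0)
  have hνv : ofC i ν = v := hx (Sum.inr 1)
  -- the relations hold at a later stage
  have hB : ofC i (f.eval α) ∈ I.map (algebraMap A (Hz A I)) := by
    have : ofC i (f.eval α) = F.eval a₀ := by
      rw [← hfmap, ← hαa]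
      exact (eval_map_algHom (ofC i) f α).symm
    rw [this]; exact h₁
  obtain ⟨j, φ, hφ⟩ := exists_map_mem i _ hB
  have hC : ofC j (φ (f.derivative.eval α * ν - 1)) ∈ I.map (algebraMap A (Hz A I)) := by
    have e0 : ofC j (φ (f.derivative.eval α * ν - 1)) = ofC i (f.derivative.eval α * ν - 1) :=
      congrArg (fun g : i.C →ₐ[A] Hz A I => g (f.derivative.eval α * ν - 1)) (ofC_comp φ)
    have : ofC i (f.derivative.eval α * ν - 1) = F.derivative.eval a₀ * v - 1 := by
      rw [map_sub, map_mul, map_one, hνv, ← hfmap, ← hαa, derivative_map]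
      congr 2
      exact (eval_map_algHom (ofC i) f.derivative α).symm
    rw [e0, this]; exact hv'
  obtain ⟨k, ψ, hψ⟩ := exists_map_mem j _ hC
  -- data at stage k
  let θ : i.C →ₐ[A] k.C := ψ.comp φ
  set fk : (k.C)[X] := f.map θ.toRingHom with hfk
  have hfkmonic : fk.Monic := hfmonic.map _
  have hfkmap : fk.map (ofC k).toRingHom = F := by
    rw [hfk, Polynomial.map_map, ← hfmap]
    congr 1
    have := ofC_comp θ
    ext y
    exact congrArg (fun g : i.C →ₐ[A] Hz A I => g y) this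
  have hk1 : fk.eval (θ α) ∈ I.map (algebraMap A k.C) := by
    have : fk.eval (θ α) = ψ (φ (f.eval α)) := by
      rw [hfk]
      exact eval_map_algHom θ f α
    rw [this]
    exact map_mem_map I ψ hφ
  have hk2 : fk.derivative.eval (θ α) * θ ν - 1 ∈ I.map (algebraMap A k.C) := by
    have : fk.derivative.eval (θ α) * θ ν - 1 = ψ (φ (f.derivative.eval α * ν - 1)) := by
      rw [hfk, derivative_map, eval_map_algHom θ f.derivative α]
      change θ _ * θ ν - 1 = θ _
      rw [map_sub, map_mul, map_one]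
    rw [this]
    exact hψ
  -- root lemma
  obtain ⟨R', _, _, hR', r, hr1, hr2⟩ :=
    exists_nbhd_root (I.map (algebraMap A k.C)) fk hfkmonic (θ α) (θ ν) hk1 hk2
  letI : Algebra A R' := ((algebraMap k.C R').comp (algebraMap A k.C)).toAlgebra
  haveI : IsScalarTower A k.C R' := IsScalarTower.of_algebraMap_eq (fun _ => rfl)
  have hN : IsNbhd I R' := k.isNbhd.trans hR'
  obtain ⟨l, ⟨e⟩⟩ := exists_idx hN
  let ξ : k.C →ₐ[A] l.C := e.toAlgHom.comp (IsScalarTower.toAlgHom A k.C R')
  have hξ : ∀ y, ξ y = e (algebraMap k.C R' y) := fun y => rfl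
  have hroot : (fk.map ξ.toRingHom).eval (e r) = 0 := by
    have e1 := eval_map_comp (algebraMap k.C R') e.toAlgHom.toRingHom fk r
    have e2 : (fk.map ξ.toRingHom).eval (e r) = e ((fk.map (algebraMap k.C R')).eval r) := e1
    rw [e2, hr1, map_zero]
  have hclose : e r - ξ (θ α) ∈ I.map (algebraMap A l.C) := by
    rw [map_map_tower] at hr2
    have := map_mem_map I e.toAlgHom hr2
    rw [map_sub] at this
    exact this
  refine ⟨ofC l (e r), ?_, ?_⟩
  · have hFl : (fk.map ξ.toRingHom).map (ofC l).toRingHom = F := by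
      rw [Polynomial.map_map, ← hfkmap]
      congr 1
      have := ofC_comp ξ
      ext y
      exact congrArg (fun g : k.C →ₐ[A] Hz A I => g y) this
    rw [IsRoot, ← hFl]
    rw [eval_map_algHom (ofC l) (fk.map ξ.toRingHom) (e r), hroot, map_zero]
  · have e1 : a₀ = ofC l (ξ (θ α)) := by
      rw [← hαa]
      have h1 := congrArg (fun g : k.C →ₐ[A] Hz A I => g (θ α)) (ofC_comp ξ)
      have h2 := congrArg (fun g : i.C →ₐ[A] Hz A I => g α) (ofC_comp θ)
      simp only [AlgHom.coe_comp, Function.comp_apply] at h1 h2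
      rw [h1, h2]
    rw [e1, ← map_sub]
    exact map_mem_map I (ofC l) hclose

/-- Flatness of the stage rings. -/
instance flat_L (i : Idx A I) : Module.Flat A i.L := by
  haveI : Module.Flat i.C i.L := IsLocalization.flat i.L (oneAdd (I.map (algebraMap A i.C)))
  exact Module.Flat.trans A i.C i.L

theorem ofL_smul (i : Idx A I) (r : A) (x : i.L) : ofL i (r • x) = r • ofL i x := by
  rw [Algebra.smul_def, Algebra.smul_def, map_mul, algebraMap_eq i]

theorem exists_ofL_fin {l : ℕ} (x : Fin l → Hz A I) :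
    ∃ (i : Idx A I) (x' : Fin l → i.L), ∀ k, ofL i (x' k) = x k := by
  classical
  have h : ∀ k, ∃ (i : Idx A I) (y : i.L), ofL i y = x k := fun k => exists_ofL (x k)
  choose idx y hy using h
  obtain ⟨M, hM⟩ := Finset.exists_le (Finset.univ.image idx)
  have hle : ∀ k, idx k ≤ M := fun k => hM _ (Finset.mem_image_of_mem _ (Finset.mem_univ k))
  exact ⟨M, fun k => fmap' (idx k) M (hle k) (y k), fun k => by rw [ofL_fmap, hy]⟩

instance flat_Hz : Module.Flat A (Hz A I) := by
  rw [Module.Flat.iff_forall_isTrivialRelation]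
  intro l f x hfx
  obtain ⟨i, x', hx'⟩ := exists_ofL_fin x
  have h0 : ofL i (∑ k, f k • x' k) = 0 := by
    rw [map_sum, ← hfx]
    exact Finset.sum_congr rfl (fun k _ => by rw [ofL_smul, hx'])
  obtain ⟨j, hij, hj⟩ := ofL_eq_zero h0
  have h1 : ∑ k, f k • fmap i j hij (x' k) = 0 := by
    have : fmap' i j hij (∑ k, f k • x' k) = ∑ k, f k • fmap i j hij (x' k) := by
      change fmap i j hij (∑ k, f k • x' k) = _
      rw [map_sum]
      exact Finset.sum_congr rfl (fun k _ => map_smul _ _ _)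
    rw [← this, hj]
  obtain ⟨m, a, y, hy1, hy2⟩ := Module.Flat.iff_forall_isTrivialRelation.mp (flat_L j) h1
  refine ⟨m, a, fun t => ofL j (y t), ?_, hy2⟩
  intro k
  rw [← hx' k, ← ofL_fmap hij]
  change ofL j (fmap i j hij (x' k)) = _
  have hy1k : fmap i j hij (x' k) = ∑ t, a k t • y t := hy1 k
  rw [hy1k, map_sum]
  exact Finset.sum_congr rfl (fun t _ => ofL_smul j _ _)

/-- The universal property. -/
theorem universal_Hz (D : Type u) [CommRing D] (K : Ideal D) (g : A →+* D)
    (hD : HenselianRing D K) (hIK : I.map g ≤ K) :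
    ∃! G : Hz A I →+* D, G.comp (algebraMap A (Hz A I)) = g := by
  letI : Algebra A D := g.toAlgebra
  have hJ : I.map (algebraMap A D) ≤ Ideal.jacobson ⊥ := hIK.trans hD.jac
  have hex : ∀ i : Idx A I, ∃ ψ : i.C →ₐ[A] D, True := by
    intro i
    haveI := hD
    obtain ⟨ψ₀, hψ₀⟩ := exists_ringHom_of_etale_nbhd I i.isNbhd.quotientMap_bijective K g hIK
    exact ⟨AlgHom.mk ψ₀ (fun a => congrArg (fun k : A →+* D => k a) hψ₀), trivial⟩
  choose ψ _ using hex
  let Ψ : ∀ i : Idx A I, i.L →ₐ[A] D := fun i => zarLift hJ (ψ i)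
  have hcompat : ∀ (i j : Idx A I) (hij : i ≤ j) (x : i.L),
      (Ψ j).toRingHom (fmap' i j hij x) = (Ψ i).toRingHom x := by
    intro i j hij x
    have : (Ψ j).comp (fmap i j hij) = Ψ i := i.isNbhd.algHom_zarA_ext hJ _ _
    exact congrArg (fun k : i.L →ₐ[A] D => k x) this
  let G : Hz A I →+* D := Ring.DirectLimit.lift _ _ D (fun i => (Ψ i).toRingHom) hcompat
  have hG : ∀ i (x : i.L), G (ofL i x) = Ψ i x := fun i x =>
    Ring.DirectLimit.lift_of _ _ _ _ _
  refine ⟨G, ?_, ?_⟩
  · ext a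
    let i := Classical.arbitrary (Idx A I)
    change G (algebraMap A (Hz A I) a) = g a
    rw [algebraMap_eq i, hG, AlgHom.commutes]
    rfl
  · intro G' hG'
    have cG' : ∀ a, G' (algebraMap A (Hz A I) a) = algebraMap A D a := fun a =>
      congrArg (fun k : A →+* D => k a) hG'
    let G'a : Hz A I →ₐ[A] D := AlgHom.mk G' cG'
    refine RingHom.ext (fun z => ?_)
    obtain ⟨i, x, rfl⟩ := exists_ofL z
    rw [hG]
    have : G'a.comp (ofLₐ i) = Ψ i := i.isNbhd.algHom_zarA_ext hJ _ _
    exact congrArg (fun k : i.L →ₐ[A] D => k x) this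

/-- `Hz A I` is a henselization of the pair `(A, I)`. -/
theorem isPairHenselization_Hz : Hens2.IsPairHenselization A I (Hz A I) :=
  ⟨henselianRing_Hz, fun D _ K g hD hIK => universal_Hz D K g hD hIK⟩

end Groth.Agent.Lib.Helper26.PairHz
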