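import Mathlib
import Groth.Agent.Lib.Helper2HenselRad

/-!
# Henselian pairs: quotients, sums, suprema (helper2)
-/

set_option autoImplicit false
universe u

open Polynomial

namespace Groth.Agent.Lib.Helper2

lemma henselianRing_bot (A : Type*) [CommRing A] : HenselianRing A (⊥ : Ideal A) where
  jac := bot_le
  is_henselian := by
    intro f _ a₀ h₁ _
    exact ⟨a₀, (Ideal.mem_bot.mp h₁), by rw [sub_self]; exact Ideal.zero_mem _⟩

/-- The image of a henselian pair under a surjection whose kernel lies in the Jacobson radical. -/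
theorem henselianRing_map_of_surjective {A A' : Type*} [CommRing A] [CommRing A'] (π : A →+* A')
    (hπ : Function.Surjective π) (hK : RingHom.ker π ≤ Ideal.jacobson ⊥) (J : Ideal A)
    (hJ : HenselianRing A J) : HenselianRing A' (J.map π) := by
  have hjac : J.map π ≤ Ideal.jacobson ⊥ := by
    intro x' hx'
    obtain ⟨x, hx, rfl⟩ := (Ideal.mem_map_iff_of_surjective π hπ).mp hx'
    rw [Ideal.mem_jacobson_bot]
    intro y'
    obtain ⟨y, rfl⟩ := hπ y'
    have := (Ideal.mem_jacobson_bot.mp (hJ.jac hx)) y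
    have h2 := this.map π
    rwa [map_add, map_mul, map_one] at h2
  refine ⟨hjac, ?_⟩
  intro f' hf' a₀' h₁ h₂
  obtain ⟨f, hff', hfdeg, hf⟩ := lifts_and_natDegree_eq_and_monic
    (mem_lifts_of_surjective hπ f') hf'
  obtain ⟨a₀, rfl⟩ := hπ a₀'
  have e1 : f'.eval (π a₀) = π (f.eval a₀) := by rw [← hff', eval_map, eval₂_at_apply]
  have e2 : f'.derivative.eval (π a₀) = π (f.derivative.eval a₀) := by
    rw [← hff', derivative_map, eval_map, eval₂_at_apply]
  -- the derivative is a unit in A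
  have hd' : IsUnit (π (f.derivative.eval a₀)) := by
    rw [← e2]
    exact isUnit_of_isUnit_mk_of_le_jacobson _ hjac _ h₂
  have hd : IsUnit (f.derivative.eval a₀) := by
    obtain ⟨z', hz'⟩ := hd'.exists_right_inv
    obtain ⟨z, rfl⟩ := hπ z'
    have h3 : f.derivative.eval a₀ * z - 1 ∈ RingHom.ker π := by
      rw [RingHom.mem_ker, map_sub, map_mul, hz', map_one, sub_self]
    have h4 : IsUnit (f.derivative.eval a₀ * z) :=
      Ideal.isUnit_of_sub_one_mem_jacobson_bot _ (hK h3)
    exact isUnit_of_mul_isUnit_left h4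
  -- decompose f(a₀) = j + k
  rw [e1] at h₁
  obtain ⟨j, hj, hjk⟩ := (Ideal.mem_map_iff_of_surjective π hπ).mp h₁
  set k := f.eval a₀ - j with hk
  have hkK : π k = 0 := by rw [hk, map_sub, hjk, sub_self]
  by_cases hdeg : f.natDegree = 0
  · -- f = 1, so A' is trivial
    have hf1 : f = 1 := eq_one_of_monic_natDegree_zero hf hdeg
    have h1 : (1 : A') ∈ J.map π := by
      have : f.eval a₀ = 1 := by rw [hf1, eval_one]
      rw [this, map_one] at h₁
      exact h₁
    have h2 : J.map π = ⊤ := (Ideal.eq_top_iff_one _).mpr h1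
    have h3 : Ideal.jacobson (⊥ : Ideal A') = ⊤ := top_le_iff.mp (h2 ▸ hjac)
    have h4 : (⊥ : Ideal A') = ⊤ := Ideal.jacobson_eq_top_iff.mp h3
    have h5 : Subsingleton A' := by
      refine ⟨fun x y => ?_⟩
      have hx : x ∈ (⊥ : Ideal A') := h4 ▸ Submodule.mem_top
      have hy : y ∈ (⊥ : Ideal A') := h4 ▸ Submodule.mem_top
      rw [Ideal.mem_bot.mp hx, Ideal.mem_bot.mp hy]
    exact ⟨π a₀, Subsingleton.elim _ _, by rw [sub_self]; exact Ideal.zero_mem _⟩
  · set g : A[X] := f - C k with hg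
    have hgm : g.Monic := by
      apply Monic.sub_of_left hf
      apply lt_of_le_of_lt degree_C_le
      rw [← natDegree_pos_iff_degree_pos]; omega
    have hg0 : g.eval a₀ = j := by rw [hg, eval_sub, eval_C, hk]; ring
    have hgd : g.derivative = f.derivative := by rw [hg, derivative_sub, derivative_C, sub_zero]
    obtain ⟨a, ha, ha'⟩ := hJ.is_henselian g hgm a₀ (by rw [hg0]; exact hj)
      (by rw [hgd]; exact hd.map _)
    refine ⟨π a, ?_, ?_⟩
    · show f'.eval (π a) = 0
      have : f'.eval (π a) = π (f.eval a) := by rw [← hff', eval_map, eval₂_at_apply]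
      rw [this]
      have h5 : g.eval a = 0 := ha
      rw [hg, eval_sub, eval_C, sub_eq_zero] at h5
      rw [h5, hkK]
    · rw [← map_sub]; exact Ideal.mem_map_of_mem π ha'

/-- If `A` is henselian along `I` and `A ⧸ I` is henselian along the image of `J ≥ I`, then `A` is
henselian along `J`. -/
theorem henselianRing_of_quotient {A : Type*} [CommRing A] (I J : Ideal A) (hIJ : I ≤ J)
    (hI : HenselianRing A I) (hJ : HenselianRing (A ⧸ I) (J.map (Ideal.Quotient.mk I))) :
    HenselianRing A J := by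
  have hmem : ∀ x : A, Ideal.Quotient.mk I x ∈ J.map (Ideal.Quotient.mk I) → x ∈ J := by
    intro x hx
    obtain ⟨y, hy, hxy⟩ := (Ideal.mem_map_iff_of_surjective _ Ideal.Quotient.mk_surjective).mp hx
    have h1 : y - x ∈ I := Ideal.Quotient.eq.mp hxy
    have : x = y - (y - x) := by ring
    rw [this]
    exact J.sub_mem hy (hIJ h1)
  have hjac : J ≤ Ideal.jacobson ⊥ := by
    intro x hx
    rw [Ideal.mem_jacobson_bot]
    intro y
    have h1 : Ideal.Quotient.mk I x ∈ Ideal.jacobson (⊥ : Ideal (A ⧸ I)) :=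
      hJ.jac (Ideal.mem_map_of_mem _ hx)
    have h2 := (Ideal.mem_jacobson_bot.mp h1) (Ideal.Quotient.mk I y)
    rw [← map_mul, ← map_one (Ideal.Quotient.mk I), ← map_add] at h2
    exact isUnit_of_isUnit_mk_of_le_jacobson I hI.jac _ h2
  refine ⟨hjac, ?_⟩
  intro f hf a₀ h₁ h₂
  have hd : IsUnit (f.derivative.eval a₀) := isUnit_of_isUnit_mk_of_le_jacobson J hjac _ h₂
  set π := Ideal.Quotient.mk I with hπ
  have e1 : (f.map π).eval (π a₀) = π (f.eval a₀) := by rw [eval_map, eval₂_at_apply]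
  have e2 : (f.map π).derivative.eval (π a₀) = π (f.derivative.eval a₀) := by
    rw [derivative_map, eval_map, eval₂_at_apply]
  obtain ⟨b', hb', hb''⟩ := hJ.is_henselian (f.map π) (hf.map π) (π a₀)
    (by rw [e1]; exact Ideal.mem_map_of_mem _ h₁) (by rw [e2]; exact (hd.map π).map _)
  obtain ⟨b, rfl⟩ := Ideal.Quotient.mk_surjective b'
  have hb0 : f.eval b ∈ I := by
    have : (f.map π).eval (π b) = π (f.eval b) := by rw [eval_map, eval₂_at_apply]
    have h3 : π (f.eval b) = 0 := this ▸ hb'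
    exact Ideal.Quotient.eq_zero_iff_mem.mp h3
  have hbJ : b - a₀ ∈ J := hmem _ (by rw [map_sub]; exact hb'')
  have hdb : IsUnit (f.derivative.eval b) := by
    obtain ⟨z, hz⟩ := f.derivative.evalSubFactor b a₀
    have : f.derivative.eval b = f.derivative.eval a₀ + z * (b - a₀) := by rw [← hz]; ring
    rw [this]
    exact isUnit_add_of_mem_jacobson _ _ hd (hjac (J.mul_mem_left _ hbJ))
  obtain ⟨a, ha, ha'⟩ := hI.is_henselian f hf b hb0 (hdb.map _)
  refine ⟨a, ha, ?_⟩
  have : a - a₀ = (a - b) + (b - a₀) := by ring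
  rw [this]
  exact J.add_mem (hIJ ha') hbJ

/-- The sum of two henselian ideals is henselian. -/
theorem henselianRing_sup {A : Type*} [CommRing A] (I₁ I₂ : Ideal A) (h₁ : HenselianRing A I₁)
    (h₂ : HenselianRing A I₂) : HenselianRing A (I₁ ⊔ I₂) := by
  apply henselianRing_of_quotient I₁ (I₁ ⊔ I₂) le_sup_left h₁
  have h3 : HenselianRing (A ⧸ I₁) (I₂.map (Ideal.Quotient.mk I₁)) :=
    henselianRing_map_of_surjective _ Ideal.Quotient.mk_surjective
      (by rw [Ideal.mk_ker]; exact h₁.jac) I₂ h₂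
  have h4 : (I₁ ⊔ I₂).map (Ideal.Quotient.mk I₁) = I₂.map (Ideal.Quotient.mk I₁) := by
    rw [Ideal.map_sup, Ideal.map_quotient_self, bot_sup_eq]
  rw [h4]; exact h3

/-- A directed union of henselian ideals is henselian. -/
theorem henselianRing_sSup_of_directed {A : Type*} [CommRing A] (S : Set (Ideal A))
    (hne : S.Nonempty) (hdir : DirectedOn (· ≤ ·) S) (hS : ∀ J ∈ S, HenselianRing A J) :
    HenselianRing A (sSup S) := by
  have hjac : sSup S ≤ Ideal.jacobson ⊥ := sSup_le fun J hJ => (hS J hJ).jac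
  refine ⟨hjac, ?_⟩
  intro f hf a₀ h₁ h₂
  obtain ⟨J, hJ, hJ₁⟩ := (Submodule.mem_sSup_of_directed hne hdir).mp h₁
  have hd : IsUnit (f.derivative.eval a₀) := isUnit_of_isUnit_mk_of_le_jacobson _ hjac _ h₂
  obtain ⟨a, ha, ha'⟩ := (hS J hJ).is_henselian f hf a₀ hJ₁ (hd.map _)
  exact ⟨a, ha, le_sSup hJ ha'⟩

/-- Every ring has a largest henselian ideal. -/
theorem exists_largest_henselian (A : Type*) [CommRing A] :
    ∃ I : Ideal A, HenselianRing A I ∧ ∀ J : Ideal A, HenselianRing A J → J ≤ I := by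
  let S : Set (Ideal A) := {J | HenselianRing A J}
  refine ⟨sSup S, ?_, fun J hJ => le_sSup hJ⟩
  apply henselianRing_sSup_of_directed S ⟨⊥, henselianRing_bot A⟩
  · intro I₁ h₁ I₂ h₂
    exact ⟨I₁ ⊔ I₂, henselianRing_sup I₁ I₂ h₁ h₂, le_sup_left, le_sup_right⟩
  · intro J hJ; exact hJ

end Groth.Agent.Lib.Helper2
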