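import Mathlib
import Groth.Agent.Lib.Helper26PairHzHens
import Groth.Agent.Lib.Helper2HenselRad
import Groth.Agent.Lib.Helper2HenselQuot
import Groth.Agent.S0526

/-!
# The henselization of a pair (helper26), part 4: uniqueness and transfer of structure
-/

set_option autoImplicit false
universe u

open TensorProduct Polynomial

namespace Groth.Agent.Lib.Helper26.PairHz

open Groth.Agent.Lib.Helper18ColimSys Groth.Agent.Lib.Helper2

variable {A : Type u} [CommRing A] {I : Ideal A}

/-- the henselian structure in the form `I.map (algebraMap A B)` (this is the definition). -/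
theorem henselianRing_of_isPairHenselization {B : Type u} [CommRing B] [Algebra A B]
    (hB : Hens2.IsPairHenselization A I B) : HenselianRing B (I.map (algebraMap A B)) := hB.1

/-- Maps out of a henselization as algebra maps. -/
theorem exists_algHom_of_isPairHenselization {B : Type u} [CommRing B] [Algebra A B]
    (hB : Hens2.IsPairHenselization A I B) (D : Type u) [CommRing D] [Algebra A D]
    (K : Ideal D) (hD : HenselianRing D K) (hIK : I.map (algebraMap A D) ≤ K) :
    ∃ g : B →ₐ[A] D, ∀ g' : B →ₐ[A] D, g' = g := by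
  obtain ⟨g, hg, hguniq⟩ := hB.2 D K (algebraMap A D) hD hIK
  refine ⟨AlgHom.mk g (fun a => congrArg (fun k : A →+* D => k a) hg), ?_⟩
  intro g'
  ext b
  have : g'.toRingHom = g := hguniq _ (by ext a; simp)
  exact congrArg (fun k : B →+* D => k b) this

/-- Any two henselizations of a pair are isomorphic. -/
theorem nonempty_algEquiv {B B' : Type u} [CommRing B] [CommRing B'] [Algebra A B] [Algebra A B']
    (hB : Hens2.IsPairHenselization A I B) (hB' : Hens2.IsPairHenselization A I B') :
    Nonempty (B ≃ₐ[A] B') := by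
  obtain ⟨g, -⟩ := exists_algHom_of_isPairHenselization hB B' _ hB'.1 le_rfl
  obtain ⟨g', -⟩ := exists_algHom_of_isPairHenselization hB' B _ hB.1 le_rfl
  obtain ⟨k, hk⟩ := exists_algHom_of_isPairHenselization hB B _ hB.1 le_rfl
  obtain ⟨k', hk'⟩ := exists_algHom_of_isPairHenselization hB' B' _ hB'.1 le_rfl
  exact ⟨AlgEquiv.ofAlgHom g g' ((hk' _).trans (hk' _).symm) ((hk _).trans (hk _).symm)⟩

theorem flat_of_isPairHenselization {B : Type u} [CommRing B] [Algebra A B]
    (hB : Hens2.IsPairHenselization A I B) : Module.Flat A B := by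
  obtain ⟨e⟩ := nonempty_algEquiv (isPairHenselization_Hz (A := A) (I := I)) hB
  exact Module.Flat.of_linearEquiv e.toLinearEquiv.symm

/-- Any henselization is the colimit of the system of indexed neighbourhoods. -/
theorem exists_sys_of_isPairHenselization {B : Type u} [CommRing B] [Algebra A B]
    (hB : Hens2.IsPairHenselization A I B) :
    ∃ ρ : ∀ i : Idx A I, i.C →ₐ[A] B, Sys A (fun i : Idx A I => i.C) B ρ := by
  obtain ⟨e⟩ := nonempty_algEquiv (isPairHenselization_Hz (A := A) (I := I)) hB
  refine ⟨fun i => e.toAlgHom.comp (ofC i), ?_⟩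
  have hS := sys (A := A) (I := I)
  refine ⟨hS.nonempty, ?_, ?_, ?_⟩
  · intro b
    obtain ⟨i, x, hx⟩ := hS.surj (e.symm b)
    refine ⟨i, x, ?_⟩
    change e (ofC i x) = b
    rw [hx, AlgEquiv.apply_symm_apply]
  · intro i j
    obtain ⟨l, φ, ψ, hφ, hψ⟩ := hS.dir i j
    refine ⟨l, φ, ψ, ?_, ?_⟩
    · rw [AlgHom.comp_assoc, hφ]
    · rw [AlgHom.comp_assoc, hψ]
  · intro i x hx
    have hx' : ofC i x = 0 := by
      have : e (ofC i x) = 0 := hx
      rwa [map_eq_zero_iff e e.injective] at this
    obtain ⟨j, φ, hφ, hφx⟩ := hS.ker i x hx'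
    exact ⟨j, φ, by rw [AlgHom.comp_assoc, hφ], hφx⟩

/-- Uniqueness of maps from neighbourhoods into a henselization. -/
theorem algHom_ext_of_isPairHenselization {B : Type u} [CommRing B] [Algebra A B]
    (hB : Hens2.IsPairHenselization A I B) {C : Type u} [CommRing C] [Algebra A C]
    (h : IsNbhd I C) (φ ψ : C →ₐ[A] B) : φ = ψ :=
  h.algHom_ext hB.1.jac φ ψ

/-- The map `A/I^n → B/I^n B` is bijective for a henselization `B`. -/
theorem quotientMap_pow_bijective {B : Type u} [CommRing B] [Algebra A B]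
    (hB : Hens2.IsPairHenselization A I B) (n : ℕ) :
    Function.Bijective
      (Ideal.quotientMap ((I ^ n).map (algebraMap A B)) (algebraMap A B) Ideal.le_comap_map) := by
  -- the pair (A/I^n, I/I^n) is Henselian
  have hK : HenselianRing (A ⧸ I ^ n) (I.map (algebraMap A (A ⧸ I ^ n))) := by
    apply henselianRing_of_le_radical ⊥ _ (henselianRing_bot _) bot_le
    intro x hx
    refine ⟨n, ?_⟩
    have h1 : x ^ n ∈ (I.map (algebraMap A (A ⧸ I ^ n))) ^ n := Ideal.pow_mem_pow hx n
    rw [← Ideal.map_pow, Ideal.Quotient.algebraMap_eq, Ideal.map_quotient_self] at h1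
    exact h1
  obtain ⟨g, -⟩ := exists_algHom_of_isPairHenselization hB (A ⧸ I ^ n) _ hK le_rfl
  have hgker : ∀ b ∈ (I ^ n).map (algebraMap A B), g b = 0 := by
    intro b hb
    have := map_mem_map (I ^ n) g hb
    rwa [Ideal.Quotient.algebraMap_eq, Ideal.map_quotient_self, Ideal.mem_bot] at this
  let gbar : (B ⧸ (I ^ n).map (algebraMap A B)) →+* A ⧸ I ^ n :=
    Ideal.Quotient.lift _ g.toRingHom hgker
  have hleft : ∀ z, gbar (Ideal.quotientMap ((I ^ n).map (algebraMap A B)) (algebraMap A B)
      Ideal.le_comap_map z) = z := by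
    intro z
    obtain ⟨a, rfl⟩ := Ideal.Quotient.mk_surjective z
    rw [Ideal.quotientMap_mk]
    change g (algebraMap A B a) = _
    rw [AlgHom.commutes]
    rfl
  refine ⟨Function.LeftInverse.injective hleft, ?_⟩
  -- surjectivity via uniqueness
  let Q := B ⧸ (I ^ n).map (algebraMap A B)
  haveI : Algebra.IsIntegral B Q :=
    Algebra.isIntegral_of_surjective Ideal.Quotient.mk_surjective
  haveI : HenselianRing B (I.map (algebraMap A B)) := hB.1
  have hQ : HenselianRing Q ((I.map (algebraMap A B)).map (algebraMap B Q)) :=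
    Groth.Agent.S0526.result B (I.map (algebraMap A B)) Q
  have hle : I.map (algebraMap A Q) ≤ (I.map (algebraMap A B)).map (algebraMap B Q) := by
    rw [map_map_tower]
  obtain ⟨k, hk⟩ := exists_algHom_of_isPairHenselization hB Q _ hQ hle
  let qm : (A ⧸ I ^ n) →ₐ[A] Q :=
    Ideal.quotientMapₐ ((I ^ n).map (algebraMap A B)) (Algebra.ofId A B) Ideal.le_comap_map
  have e1 := hk (qm.comp g)
  have e2 := hk (IsScalarTower.toAlgHom A B Q)
  intro z
  obtain ⟨b, rfl⟩ := Ideal.Quotient.mk_surjective z
  refine ⟨g b, ?_⟩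
  have := congrArg (fun k : B →ₐ[A] Q => k b) (e1.trans e2.symm)
  exact this

end Groth.Agent.Lib.Helper26.PairHz
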