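import Mathlib
import Groth.Prelude.Def_Hens2
import Groth.Agent.Lib.Helper11HensIdemC
import Groth.Agent.Lib.Helper11HorrN
import Groth.Agent.Lib.Helper26PairHzUnique

/-!
# Helper11 HensLaurent: approximation data for `R{t}[1/t] → R((t))`, and descent of
finite projective modules
-/

set_option autoImplicit false
universe u

open Polynomial TensorProduct

namespace Groth.Agent.Lib.Helper11.HensLaurent

open Groth.Agent.Lib.Helper11.Horrocks

section K2
variable {R : Type u} [CommRing R]
variable {B : Type u} [CommRing B] [Algebra R[X] B]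
  (hB : Hens2.IsPairHenselization R[X] (Ideal.span {(X : R[X])}) B)
  (ψ : B →ₐ[R[X]] PowerSeries R)

omit [Algebra R[X] B] in
theorem psi_algebraMap [Algebra R[X] B] (ψ : B →ₐ[R[X]] PowerSeries R) (p : R[X]) :
    ψ (algebraMap R[X] B p) = (p : PowerSeries R) := by
  rw [ψ.commutes]
  rfl

include hB in
/-- an element of `R{t}` whose power series is divisible by `t^k` is divisible by `t^k` -/
theorem exists_eq_pow_mul (β : B) (k : ℕ) (f : PowerSeries R)
    (h : ψ β = PowerSeries.X ^ k * f) :
    ∃ β' : B, β = algebraMap R[X] B X ^ k * β' ∧ ψ β' = f := by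
  have hbij := Groth.Agent.Lib.Helper26.PairHz.quotientMap_pow_bijective hB k
  obtain ⟨qq, hqq⟩ := hbij.2 (Ideal.Quotient.mk _ β)
  obtain ⟨q, rfl⟩ := Ideal.Quotient.mk_surjective qq
  rw [Ideal.quotientMap_mk, Ideal.Quotient.eq, Ideal.span_singleton_pow, Ideal.map_span,
    Set.image_singleton, Ideal.mem_span_singleton'] at hqq
  obtain ⟨β₁, hβ₁⟩ := hqq
  rw [map_pow] at hβ₁
  -- `q` is divisible by `X^k`
  have hq : ψ (algebraMap R[X] B q) = PowerSeries.X ^ k * (ψ β₁ + f) := by
    have := congrArg ψ hβ₁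
    rw [map_mul, map_pow, psi_algebraMap, Polynomial.coe_X, map_sub, h] at this
    linear_combination -this
  rw [psi_algebraMap] at hq
  have hdvd : (X : R[X]) ^ k ∣ q := by
    rw [Polynomial.X_pow_dvd_iff]
    intro d hd
    rw [← Polynomial.coeff_coe, hq, PowerSeries.coeff_X_pow_mul', if_neg (by omega)]
  obtain ⟨q₁, hq₁⟩ := hdvd
  refine ⟨algebraMap R[X] B q₁ - β₁, ?_, ?_⟩
  · rw [mul_sub, ← map_pow, ← map_mul, ← hq₁, map_pow, mul_comm _ β₁, hβ₁]
    ring
  · apply PowerSeries.X_pow_mul_cancel (k := k)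
    rw [map_sub, psi_algebraMap, mul_sub, ← Polynomial.coe_X, ← Polynomial.coe_pow,
      ← Polynomial.coe_mul, ← hq₁, hq]
    rw [Polynomial.coe_pow, Polynomial.coe_X]
    ring

end K2

section data
variable (R : Type u) [CommRing R]
variable (B : Type u) [CommRing B] [Algebra R[X] B]
  (hB : Hens2.IsPairHenselization R[X] (Ideal.span {(X : R[X])}) B)
  (ψ : B →ₐ[R[X]] PowerSeries R)
variable (L : Type u) [CommRing L] [Algebra B L] [IsLocalization.Away (algebraMap R[X] B X) L]
  (L' : Type u) [CommRing L'] [Algebra L L'] (e : L' ≃+* LaurentSeries R)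
  (he : ∀ b : B, e (algebraMap L L' (algebraMap B L b)) = HahnSeries.ofPowerSeries ℤ R (ψ b))

include hB in
theorem t_mem_jacobson : algebraMap R[X] B X ∈ (⊥ : Ideal B).jacobson := by
  apply hB.1.jac
  exact Ideal.mem_map_of_mem _ (Ideal.mem_span_singleton_self _)

include hB in
theorem henselianRing_span_t : HenselianRing B (Ideal.span {algebraMap R[X] B X}) := by
  have h := hB.1
  rwa [Ideal.map_span, Set.image_singleton] at h

include hB he in
/-- the key descent of divisibility: if the Laurent series of `b ∈ L` is `t^m · (power series)`,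
then `b` is `t^m` times an element of `R{t}` -/
theorem exists_eq_of_map_eq (b : L) (m : ℕ) (f : PowerSeries R)
    (hb : e (algebraMap L L' b) = HahnSeries.ofPowerSeries ℤ R (PowerSeries.X ^ m * f)) :
    ∃ a : B, b = algebraMap B L (algebraMap R[X] B X ^ m * a) ∧ ψ a = f := by
  have hιinj : Function.Injective (HahnSeries.ofPowerSeries ℤ R) :=
    HahnSeries.ofPowerSeries_injective
  have htL : IsUnit (algebraMap B L (algebraMap R[X] B X)) :=
    IsLocalization.Away.algebraMap_isUnit _
  obtain ⟨k, β, hkβ⟩ := IsLocalization.Away.surj (algebraMap R[X] B X) b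
  have h1 : ψ β = PowerSeries.X ^ (m + k) * f := by
    apply hιinj
    rw [← he, ← hkβ, map_mul, map_mul, hb, map_pow, map_pow, he, psi_algebraMap, Polynomial.coe_X,
      ← map_pow, ← map_mul]
    congr 1
    ring
  obtain ⟨a, ha, hψa⟩ := exists_eq_pow_mul hB ψ β (m + k) f h1
  refine ⟨a, ?_, hψa⟩
  have hunit : IsUnit (algebraMap B L (algebraMap R[X] B X) ^ k) := htL.pow _
  apply hunit.mul_right_cancel
  rw [hkβ, ha]
  simp only [map_mul, map_pow]
  ring

/-- the approximation data for `L = R{t}[1/t] → L' ≅ R((t))` -/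
noncomputable def approxDataHensLaurent : ApproxData L L' := by
  classical
  let ι : PowerSeries R →+* LaurentSeries R := HahnSeries.ofPowerSeries ℤ R
  have hιinj : Function.Injective ι := HahnSeries.ofPowerSeries_injective
  let ψL : L →+* LaurentSeries R := (e : L' →+* LaurentSeries R).comp (algebraMap L L')
  have hψ : ∀ p : R[X], ψL (algebraMap B L (algebraMap R[X] B p)) = ι (p : PowerSeries R) := by
    intro p
    show e (algebraMap L L' (algebraMap B L (algebraMap R[X] B p))) = _
    rw [he, psi_algebraMap]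
  have hXunit : IsUnit (algebraMap B L (algebraMap R[X] B X)) :=
    IsLocalization.Away.algebraMap_isUnit _
  have hιX : IsUnit (ι PowerSeries.X) := by
    have := hXunit.map ψL
    rwa [hψ, Polynomial.coe_X] at this
  have hdenom : ∀ y : LaurentSeries R, ∃ (k : ℕ) (a : PowerSeries R),
      ι PowerSeries.X ^ k * y = ι a := by
    intro y
    obtain ⟨⟨a, s⟩, has⟩ := IsLocalization.surj (Submonoid.powers (PowerSeries.X : PowerSeries R)) y
    obtain ⟨k, hk⟩ := s.2
    have hk' : PowerSeries.X ^ k = (s : PowerSeries R) := hk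
    refine ⟨k, a, ?_⟩
    rw [LaurentSeries.coe_algebraMap] at has
    simp only at has
    rw [← map_pow, hk', mul_comm]
    exact has
  refine
    { O := (ι.range).comap (e : L' →+* LaurentSeries R)
      t := e.symm (ι PowerSeries.X)
      t_mem := ?_
      denom := ?_
      dense := ?_
      unit := ?_
      unit' := ?_ }
  · rw [Subring.mem_comap]
    exact ⟨PowerSeries.X, by simp⟩
  · intro x
    obtain ⟨k, a, hka⟩ := hdenom (e x)
    refine ⟨k, ?_⟩
    rw [Subring.mem_comap]
    refine ⟨a, ?_⟩
    rw [← hka]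
    simp
  · intro x N
    obtain ⟨k, a, hka⟩ := hdenom (e x)
    obtain ⟨p, hp⟩ : ∃ p : R[X], p = PowerSeries.trunc (N + k) a := ⟨_, rfl⟩
    obtain ⟨a₁, ha₁⟩ : ∃ a₁ : PowerSeries R,
      a₁ = PowerSeries.mk fun i => PowerSeries.coeff (i + (N + k)) a := ⟨_, rfl⟩
    have hsplit : a = PowerSeries.X ^ (N + k) * a₁ + (p : PowerSeries R) := by
      rw [ha₁, hp]; exact PowerSeries.eq_X_pow_mul_shift_add_trunc (N + k) a
    obtain ⟨Xu, hXu⟩ := hXunit
    obtain ⟨bb, hbb⟩ : ∃ bb : L,
      bb = algebraMap B L (algebraMap R[X] B p) * ((Xu⁻¹ : Lˣ) : L) ^ k := ⟨_, rfl⟩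
    refine ⟨bb, e.symm (ι a₁), ?_, ?_⟩
    · rw [Subring.mem_comap]
      exact ⟨a₁, by simp⟩
    · apply e.injective
      have hunit : IsUnit (ι PowerSeries.X ^ k) := hιX.pow k
      apply hunit.mul_left_cancel
      have h1 : ι PowerSeries.X ^ k * ψL bb = ι (p : PowerSeries R) := by
        have h3 : ι PowerSeries.X = ψL (Xu : L) := by rw [hXu, hψ, Polynomial.coe_X]
        rw [h3, ← map_pow, ← map_mul, ← hψ, hbb]
        congr 1
        rw [mul_comm, mul_assoc, ← mul_pow, Units.inv_mul, one_pow, mul_one]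
      have hR : e (algebraMap L L' bb + e.symm (ι PowerSeries.X) ^ N * e.symm (ι a₁)) =
          ψL bb + ι PowerSeries.X ^ N * ι a₁ := by
        rw [map_add, map_mul, map_pow, RingEquiv.apply_symm_apply, RingEquiv.apply_symm_apply]
        rfl
      rw [hka, hR, mul_add, h1, hsplit, map_add, map_mul, map_pow]
      ring
  · rintro b ⟨o, ho, hb⟩
    rw [Subring.mem_comap] at ho
    obtain ⟨f, hf⟩ := ho
    have hψb : e (algebraMap L L' b) = ι (PowerSeries.X ^ 0 * (1 + PowerSeries.X * f)) := by
      rw [hb, map_add, map_mul, map_one, RingEquiv.apply_symm_apply, pow_zero, one_mul, map_add,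
        map_one, map_mul]
      congr 2
      exact hf.symm
    obtain ⟨a, ha, hψa⟩ := exists_eq_of_map_eq R B hB ψ L L' e he b 0 _ hψb
    rw [pow_zero, one_mul] at ha
    -- `a ∈ 1 + tB`
    obtain ⟨a', ha', -⟩ := exists_eq_pow_mul hB ψ (a - 1) 1 f (by
      rw [map_sub, map_one, hψa, pow_one]; ring)
    have hau : IsUnit a := by
      have h1 : a = algebraMap R[X] B X * a' + 1 := by
        rw [pow_one] at ha'
        rw [← ha']
        ring
      rw [h1]
      exact Ideal.mem_jacobson_bot.mp (t_mem_jacobson R B hB) a'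
    rw [ha]
    exact hau.map _
  · intro o ho
    rw [Subring.mem_comap] at ho
    obtain ⟨f, hf⟩ := ho
    have h1 : IsUnit (1 + PowerSeries.X * f) := by
      rw [PowerSeries.isUnit_iff_constantCoeff]
      simp
    have h2 : e (1 + e.symm (ι PowerSeries.X) * o) = ι (1 + PowerSeries.X * f) := by
      rw [map_add, map_mul, map_one, RingEquiv.apply_symm_apply, map_add, map_one, map_mul]
      congr 2
      exact hf.symm
    have h3 : IsUnit (e (1 + e.symm (ι PowerSeries.X) * o)) := by rw [h2]; exact h1.map ι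
    have := h3.map (e.symm : LaurentSeries R →+* L')
    simpa using this

end data

section final
variable (R : Type u) [CommRing R]
variable (B : Type u) [CommRing B] [Algebra R[X] B]
  (hB : Hens2.IsPairHenselization R[X] (Ideal.span {(X : R[X])}) B)
  (ψ : B →ₐ[R[X]] PowerSeries R)
variable (L : Type u) [CommRing L] [Algebra B L] [IsLocalization.Away (algebraMap R[X] B X) L]
  (L' : Type u) [CommRing L'] [Algebra L L'] (e : L' ≃+* LaurentSeries R)
  (he : ∀ b : B, e (algebraMap L L' (algebraMap B L b)) = HahnSeries.ofPowerSeries ℤ R (ψ b))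

include hB he in
/-- finite projective `R{t}[1/t]`-modules isomorphic over `R((t))` are isomorphic -/
theorem nonempty_linearEquiv_hensLaurent
    (M N : Type u) [AddCommGroup M] [Module L M] [Module.Finite L M] [Module.Projective L M]
    [AddCommGroup N] [Module L N] [Module.Finite L N] [Module.Projective L N]
    (Θ : L' ⊗[L] M ≃ₗ[L'] L' ⊗[L] N) : Nonempty (M ≃ₗ[L] N) :=
  nonempty_linearEquiv_of_approx (approxDataHensLaurent R B hB ψ L L' e he) M N Θ

include hB he in
/-- finite projective `R((t))`-modules descend to `R{t}[1/t]` -/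
theorem exists_projective_descent_hensLaurent
    (M' : Type u) [AddCommGroup M'] [Module L' M'] [Module.Finite L' M'] [Module.Projective L' M'] :
    ∃ (M : Type u) (_ : AddCommGroup M) (_ : Module L M), Module.Finite L M ∧
      Module.Projective L M ∧ Nonempty (L' ⊗[L] M ≃ₗ[L'] M') := by
  haveI := henselianRing_span_t R B hB
  refine HensIdem.exists_projective_descent (A := B) (algebraMap R[X] B X)
    (approxDataHensLaurent R B hB ψ L L' e he) ?_ ?_ M'
  · intro a
    show _ ∈ ((HahnSeries.ofPowerSeries ℤ R).range).comap (e : L' →+* LaurentSeries R)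
    rw [Subring.mem_comap]
    exact ⟨ψ a, (he a).symm⟩
  · intro b m o ho hb
    change o ∈ ((HahnSeries.ofPowerSeries ℤ R).range).comap (e : L' →+* LaurentSeries R) at ho
    change algebraMap L L' b = (e.symm (HahnSeries.ofPowerSeries ℤ R PowerSeries.X)) ^ m * o at hb
    rw [Subring.mem_comap] at ho
    obtain ⟨f, hf⟩ := ho
    have h1 : e (algebraMap L L' b) = HahnSeries.ofPowerSeries ℤ R (PowerSeries.X ^ m * f) := by
      rw [hb, map_mul, map_pow, RingEquiv.apply_symm_apply, map_mul, map_pow]
      congr 1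
      exact hf.symm
    obtain ⟨a, ha, -⟩ := exists_eq_of_map_eq R B hB ψ L L' e he b m f h1
    exact ⟨a, ha⟩

end final

end Groth.Agent.Lib.Helper11.HensLaurent
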