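import Mathlib
import Groth.Agent.Lib.Helper11FixGen

/-!
Helper library (helper11): subgroup objects from points, and transporters (Weil restriction of a closed
subscheme) in `Over (Spec k)`, `k` a field.
-/

set_option autoImplicit false
universe v u
open CategoryTheory CategoryTheory.Limits AlgebraicGeometry MonoidalCategory CartesianMonoidalCategory MonObj

namespace Groth.Agent.Lib.Helper11SubGrp

section grp

variable {C : Type u} [Category.{v} C] [CartesianMonoidalCategory C] {G N : C} [GrpObj G]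

/-- A monomorphism into a group object whose points form subgroups carries a group structure. -/
theorem exists_grpObj_of_points (n : N ⟶ G) [Mono n]
    (hone : ∃ z : 𝟙_ C ⟶ N, z ≫ n = 1)
    (hmul : ∀ {T : C} (a b : T ⟶ N), ∃ z : T ⟶ N, z ≫ n = (a ≫ n) * (b ≫ n))
    (hinv : ∀ {T : C} (a : T ⟶ N), ∃ z : T ⟶ N, z ≫ n = (a ≫ n)⁻¹) :
    ∃ (_ : GrpObj N), IsMonHom n := by
  obtain ⟨e, he⟩ := hone
  obtain ⟨m, hm⟩ := hmul (fst N N) (snd N N)
  obtain ⟨i, hi⟩ := hinv (𝟙 N)
  rw [Category.id_comp] at hi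
  let inst : GrpObj N :=
    { one := e
      mul := m
      one_mul := by
        rw [← cancel_mono n, Category.assoc, hm, MonObj.comp_mul, whiskerRight_fst_assoc,
          whiskerRight_snd_assoc, he, MonObj.comp_one, _root_.one_mul,
          leftUnitor_hom]
      mul_one := by
        rw [← cancel_mono n, Category.assoc, hm, MonObj.comp_mul, whiskerLeft_fst_assoc,
          whiskerLeft_snd_assoc, he, MonObj.comp_one, _root_.mul_one,
          rightUnitor_hom]
      mul_assoc := by
        rw [← cancel_mono n]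
        simp only [Category.assoc, hm, MonObj.comp_mul, whiskerRight_fst_assoc,
          whiskerRight_snd_assoc, whiskerLeft_fst_assoc, whiskerLeft_snd_assoc,
          associator_hom_fst_assoc, associator_hom_snd_fst_assoc, associator_hom_snd_snd_assoc,
          _root_.mul_assoc]
      inv := i
      left_inv := by
        rw [← cancel_mono n, Category.assoc, hm, MonObj.comp_mul, lift_fst_assoc, lift_snd_assoc,
          Category.id_comp, hi, inv_mul_cancel, Category.assoc, he, MonObj.comp_one]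
      right_inv := by
        rw [← cancel_mono n, Category.assoc, hm, MonObj.comp_mul, lift_fst_assoc, lift_snd_assoc,
          Category.id_comp, hi, mul_inv_cancel, Category.assoc, he, MonObj.comp_one] }
  refine ⟨inst, ?_⟩
  exact
    { one_hom := by
        change e ≫ n = η[G]
        rw [he, MonObj.one_eq_one]
      mul_hom := by
        change m ≫ n = (n ⊗ₘ n) ≫ μ[G]
        rw [hm, MonObj.mul_eq_mul, MonObj.comp_mul, tensorHom_fst, tensorHom_snd] }

/-- points version of `exists_grpObj_of_points` for a subfunctor cut out by a predicate -/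
theorem exists_grpObj_of_pred (n : N ⟶ G) [Mono n] (P : ∀ T : C, (T ⟶ G) → Prop)
    (hP : ∀ (T : C) (g : T ⟶ G), (∃ z : T ⟶ N, z ≫ n = g) ↔ P T g)
    (hone : P (𝟙_ C) 1)
    (hmul : ∀ (T : C) (a b : T ⟶ G), P T a → P T b → P T (a * b))
    (hinv : ∀ (T : C) (a : T ⟶ G), P T a → P T a⁻¹) :
    ∃ (_ : GrpObj N), IsMonHom n := by
  refine exists_grpObj_of_points n ((hP _ _).mpr hone) (fun {T} a b => (hP _ _).mpr ?_)
    (fun {T} a => (hP _ _).mpr ?_)
  · exact hmul T _ _ ((hP _ _).mp ⟨a, rfl⟩) ((hP _ _).mp ⟨b, rfl⟩)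
  · exact hinv T _ ((hP _ _).mp ⟨a, rfl⟩)

end grp

section transp

open Groth.Agent.Lib.Helper11FixSch Groth.Agent.Lib.Helper11FixGen Groth.Agent.Lib.Helper11FixOver

variable (k : Type u) [Field k]

/-- **Weil restriction of a closed subscheme**, `Over (Spec k)` form: for `c : Y ⊗ X ⟶ W` and a closed
subscheme `i : F ⟶ W`, the points `x` of `X` such that `(Y ◁ x) ≫ c` factors through `F` form a closed
subscheme of `X`. -/
theorem exists_closedImmersion_transp_over (Y X W F : Over (Spec (CommRingCat.of k)))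
    (c : Y ⊗ X ⟶ W) (i : F ⟶ W) [IsClosedImmersion i.left] :
    ∃ (Z : Over (Spec (CommRingCat.of k))) (j : Z ⟶ X), IsClosedImmersion j.left ∧
      ∀ (T : Over (Spec (CommRingCat.of k))) (x : T ⟶ X),
        (∃ z : T ⟶ Z, z ≫ j = x) ↔ ∃ l : Y ⊗ T ⟶ F, l ≫ i = (Y ◁ x) ≫ c := by
  have hfree : ∀ V : Y.left.affineOpens,
      letI := (Y.hom.appLE ⊤ V.1 le_top).hom.toAlgebra
      Module.Free Γ(Spec (CommRingCat.of k), ⊤) Γ(Y.left, V.1) := fun V =>
    letI := (Y.hom.appLE ⊤ V.1 le_top).hom.toAlgebra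
    free_of_isField _ _ (isField_Γ_Spec k)
  obtain ⟨ε, hε⟩ : ∃ ε : pullback c.left i.left ⟶ pullback Y.hom X.hom,
      ε = pullback.fst c.left i.left := ⟨_, rfl⟩
  have hεcl : IsClosedImmersion ε := by rw [hε]; infer_instance
  have key : ∀ {T : Over (Spec (CommRingCat.of k))} (x : T ⟶ X),
      FixE Y.hom X.hom ε T.hom x.left (Over.w x) ↔ ∃ l : Y ⊗ T ⟶ F, l ≫ i = (Y ◁ x) ≫ c := by
    intro T x
    constructor
    · rintro ⟨l₀, hl₀⟩
      have hl₀' : l₀ ≫ pullback.fst c.left i.left = (Y ◁ x).left := by rw [← hε]; exact hl₀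
      refine ⟨Over.homMk (l₀ ≫ pullback.snd c.left i.left) ?_, ?_⟩
      · rw [← Over.w i, Category.assoc, ← pullback.condition_assoc, ← Category.assoc, hl₀',
          Over.w c, Over.w (Y ◁ x)]
      · ext1
        change (l₀ ≫ pullback.snd c.left i.left) ≫ i.left = (Y ◁ x).left ≫ c.left
        rw [Category.assoc, ← pullback.condition, ← Category.assoc, hl₀']
    · rintro ⟨l, hl⟩
      have hl' : (Y ◁ x).left ≫ c.left = l.left ≫ i.left := (congrArg (fun f => f.left) hl).symm
      refine ⟨pullback.lift (Y ◁ x).left l.left hl', ?_⟩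
      rw [hε, pullback.lift_fst]
      rfl
  obtain ⟨Z, j, hj, hfix, huniv⟩ := exists_closedImmersion_fixE (y := Y.hom) (x₀ := X.hom)
    (ε := ε) hfree
  refine ⟨Over.mk (j ≫ X.hom), Over.homMk j rfl, hj, fun T x => ?_⟩
  rw [← key]
  constructor
  · rintro ⟨z, rfl⟩
    exact FixE.of_eq (hfix.precomp z.left T.hom (Over.w z)) rfl rfl
  · intro hx
    obtain ⟨z, hz⟩ := huniv T.hom x.left (Over.w x) hx
    refine ⟨Over.homMk z ?_, ?_⟩
    · change z ≫ j ≫ X.hom = T.hom
      rw [← Category.assoc, hz, Over.w x]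
    · ext1
      exact hz

/-- points form of `exists_closedImmersion_transp_over` -/
theorem exists_closedImmersion_transp_over_points (Y X W F : Over (Spec (CommRingCat.of k)))
    (c : Y ⊗ X ⟶ W) (i : F ⟶ W) [IsClosedImmersion i.left] :
    ∃ (Z : Over (Spec (CommRingCat.of k))) (j : Z ⟶ X), IsClosedImmersion j.left ∧
      ∀ (T : Over (Spec (CommRingCat.of k))) (x : T ⟶ X),
        (∃ z : T ⟶ Z, z ≫ j = x) ↔
          ∀ (T' : Over (Spec (CommRingCat.of k))) (t : T' ⟶ T) (y : T' ⟶ Y),
            ∃ f : T' ⟶ F, f ≫ i = lift y (t ≫ x) ≫ c := by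
  obtain ⟨Z, j, hj, h⟩ := exists_closedImmersion_transp_over k Y X W F c i
  refine ⟨Z, j, hj, fun T x => ?_⟩
  rw [h]
  constructor
  · rintro ⟨l, hl⟩ T' t y
    refine ⟨lift y t ≫ l, ?_⟩
    rw [Category.assoc, hl, ← Category.assoc]
    congr 1
    apply CartesianMonoidalCategory.hom_ext <;> simp
  · intro hx
    obtain ⟨f, hf⟩ := hx (Y ⊗ T) (snd Y T) (fst Y T)
    refine ⟨f, ?_⟩
    rw [hf]
    congr 1

end transp

end Groth.Agent.Lib.Helper11SubGrp
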