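import Mathlib
import Groth.Agent.Lib.Helper11SubGrp

set_option autoImplicit false
universe v u
open CategoryTheory CategoryTheory.Limits AlgebraicGeometry MonoidalCategory CartesianMonoidalCategory MonObj

namespace Groth.Agent.Lib.Helper11SchImage

section top

/-- a point with no proper generization -/
def IsMaxPt {X : Type*} [TopologicalSpace X] (ξ : X) : Prop := ∀ y : X, y ⤳ ξ → y = ξ

theorem exists_isMaxPt_specializes (X : Scheme.{u}) (x : X) : ∃ ξ : X, IsMaxPt ξ ∧ ξ ⤳ x := by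
  obtain ⟨ξ, hξ⟩ := QuasiSober.sober (isIrreducible_irreducibleComponent (x := x))
    isClosed_irreducibleComponent
  refine ⟨ξ, fun y hy => ?_, ?_⟩
  · have h1 : closure {ξ} ⊆ closure {y} := specializes_iff_closure_subset.mp hy
    have h2 : closure {y} = irreducibleComponent x := by
      apply eq_irreducibleComponent isIrreducible_singleton.closure.isPreirreducible
      rw [← hξ.def]
      exact h1
    have h3 : IsGenericPoint y (irreducibleComponent x) := h2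
    exact h3.eq hξ
  · rw [specializes_iff_mem_closure, hξ.def]
    exact mem_irreducibleComponent

instance flat_fromSpecStalk (X : Scheme.{u}) (x : X) : Flat (X.fromSpecStalk x) := by
  obtain ⟨_, ⟨U, hU, rfl⟩, hxU, -⟩ :=
    X.isBasis_affineOpens.exists_subset_of_mem_open (Set.mem_univ x) isOpen_univ
  rw [← hU.fromSpecStalk_eq_fromSpecStalk hxU]
  unfold IsAffineOpen.fromSpecStalk
  have : Flat (Spec.map (X.presheaf.germ U x hxU)) := by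
    rw [Flat.SpecMap_iff]
    let _ := TopCat.Presheaf.algebra_section_stalk X.presheaf (⟨x, hxU⟩ : U)
    have := hU.isLocalization_stalk ⟨x, hxU⟩
    exact IsLocalization.flat (X.presheaf.stalk x) (hU.primeIdealOf ⟨x, hxU⟩).asIdeal.primeCompl
  infer_instance

theorem mem_range_of_isMaxPt {H K : Scheme.{u}} (g : H ⟶ K) [QuasiCompact g]
    [IsSchemeTheoreticallyDominant g] (y₀ : K) (hy₀ : IsMaxPt y₀) : y₀ ∈ Set.range g := by
  have hdom : IsDominant (pullback.snd g (K.fromSpecStalk y₀)) := inferInstance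
  have hne : Nonempty ↥(Spec (K.presheaf.stalk y₀)) := inferInstance
  have hne' : Nonempty ↥(pullback g (K.fromSpecStalk y₀)) := by
    exact (pullback.snd g (K.fromSpecStalk y₀)).denseRange.nonempty
  obtain ⟨p⟩ := hne'
  refine ⟨pullback.fst g (K.fromSpecStalk y₀) p, ?_⟩
  have h1 : g (pullback.fst g (K.fromSpecStalk y₀) p)
      = K.fromSpecStalk y₀ (pullback.snd g (K.fromSpecStalk y₀) p) := by
    rw [← Scheme.Hom.comp_apply, pullback.condition, Scheme.Hom.comp_apply]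
  rw [h1]
  apply hy₀
  have : K.fromSpecStalk y₀ (pullback.snd g (K.fromSpecStalk y₀) p) ∈
      Set.range (K.fromSpecStalk y₀) := ⟨_, rfl⟩
  rw [Scheme.range_fromSpecStalk] at this
  exact this

theorem isMaxPt_map_of_flat {F K : Scheme.{u}} (p : F ⟶ K) [Flat p] (ξ : F) (hξ : IsMaxPt ξ) :
    IsMaxPt (p ξ) := by
  intro y hy
  obtain ⟨ξ', h1, h2⟩ := Flat.generalizingMap p hy
  rw [← h2, hξ ξ' h1]

end top

section prod

variable {S : Scheme.{u}}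

theorem exists_tensor_preimage {H₁ H₂ K₁ K₂ : Over S} (g₁ : H₁ ⟶ K₁) (g₂ : H₂ ⟶ K₂)
    (t : ↥(K₁ ⊗ K₂).left) (h₁ : ↥H₁.left) (h₂ : ↥H₂.left)
    (e₁ : g₁.left h₁ = (fst K₁ K₂).left t) (e₂ : g₂.left h₂ = (snd K₁ K₂).left t) :
    ∃ w : ↥(H₁ ⊗ H₂).left, (g₁ ⊗ₘ g₂).left w = t := by
  obtain ⟨p₁, hp₁a, hp₁b⟩ := Scheme.Pullback.exists_preimage_pullback h₁ t e₁
  obtain ⟨q₁, hq₁⟩ : ∃ q₁ : pullback g₁.left (fst K₁ K₂).left ⟶ (K₁ ⊗ K₂).left,
      q₁ = pullback.snd _ _ := ⟨_, rfl⟩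
  rw [← hq₁] at hp₁b
  have e₂' : g₂.left h₂ = (q₁ ≫ (snd K₁ K₂).left) p₁ := by
    rw [Scheme.Hom.comp_apply, hp₁b, e₂]
  obtain ⟨p₂, hp₂a, hp₂b⟩ := Scheme.Pullback.exists_preimage_pullback h₂ p₁ e₂'
  obtain ⟨q₂, hq₂⟩ : ∃ q₂ : pullback g₂.left (q₁ ≫ (snd K₁ K₂).left) ⟶
      pullback g₁.left (fst K₁ K₂).left, q₂ = pullback.snd _ _ := ⟨_, rfl⟩
  rw [← hq₂] at hp₂b
  -- the Over object
  obtain ⟨P, hP⟩ : ∃ P : Over S, P = Over.mk (q₂ ≫ q₁ ≫ (K₁ ⊗ K₂).hom) := ⟨_, rfl⟩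
  subst hP
  have c₁ : pullback.fst g₁.left (fst K₁ K₂).left ≫ g₁.left = q₁ ≫ (fst K₁ K₂).left := by
    rw [hq₁]; exact pullback.condition
  have c₂ : pullback.fst g₂.left (q₁ ≫ (snd K₁ K₂).left) ≫ g₂.left
      = q₂ ≫ q₁ ≫ (snd K₁ K₂).left := by
    rw [hq₂]; exact pullback.condition
  let a₁ : Over.mk (q₂ ≫ q₁ ≫ (K₁ ⊗ K₂).hom) ⟶ H₁ :=
    Over.homMk (q₂ ≫ pullback.fst g₁.left (fst K₁ K₂).left) (by
      change (q₂ ≫ pullback.fst g₁.left (fst K₁ K₂).left) ≫ H₁.hom = q₂ ≫ q₁ ≫ (K₁ ⊗ K₂).hom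
      rw [← Over.w g₁, Category.assoc, reassoc_of% c₁, Over.w (fst K₁ K₂)])
  let a₂ : Over.mk (q₂ ≫ q₁ ≫ (K₁ ⊗ K₂).hom) ⟶ H₂ :=
    Over.homMk (pullback.fst g₂.left (q₁ ≫ (snd K₁ K₂).left)) (by
      change pullback.fst g₂.left (q₁ ≫ (snd K₁ K₂).left) ≫ H₂.hom = q₂ ≫ q₁ ≫ (K₁ ⊗ K₂).hom
      rw [← Over.w g₂, reassoc_of% c₂, Over.w (snd K₁ K₂)])
  let b : Over.mk (q₂ ≫ q₁ ≫ (K₁ ⊗ K₂).hom) ⟶ K₁ ⊗ K₂ := Over.homMk (q₂ ≫ q₁) (by simp)
  have hb : lift a₁ a₂ ≫ (g₁ ⊗ₘ g₂) = b := by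
    apply CartesianMonoidalCategory.hom_ext
    · rw [Category.assoc, tensorHom_fst, lift_fst_assoc]
      ext1
      change (q₂ ≫ pullback.fst g₁.left (fst K₁ K₂).left) ≫ g₁.left = (q₂ ≫ q₁) ≫ (fst K₁ K₂).left
      rw [Category.assoc, c₁, Category.assoc]
    · rw [Category.assoc, tensorHom_snd, lift_snd_assoc]
      ext1
      change pullback.fst g₂.left (q₁ ≫ (snd K₁ K₂).left) ≫ g₂.left
        = (q₂ ≫ q₁) ≫ (snd K₁ K₂).left
      rw [c₂, Category.assoc]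
  refine ⟨(lift a₁ a₂).left p₂, ?_⟩
  have : (g₁ ⊗ₘ g₂).left ((lift a₁ a₂).left p₂) = b.left p₂ := by
    rw [← hb]; rfl
  rw [this]
  change (q₂ ≫ q₁) p₂ = t
  rw [Scheme.Hom.comp_apply, hp₂b, hp₁b]

end prod

end Groth.Agent.Lib.Helper11SchImage
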