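import Mathlib
import Groth.Agent.Lib.Helper11SchImageT
import Groth.Agent.Lib.Helper12Flat

set_option autoImplicit false
universe v u
open CategoryTheory CategoryTheory.Limits AlgebraicGeometry MonoidalCategory CartesianMonoidalCategory MonObj

namespace Groth.Agent.Lib.Helper11Homog

open Groth.Agent.Lib.Helper11SchImage

section

variable {S : Scheme.{u}}

theorem flat_whiskerLeft_left (G : Over S) {Y Y' : Over S} (q : Y ⟶ Y') [Flat q.left] :
    Flat (G ◁ q).left := by
  rw [Over.whiskerLeft_left]
  exact MorphismProperty.pullbackMap (P := @Flat) (inferInstance : Flat (𝟙 G.left))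
    (inferInstance : Flat q.left) (by simp) (by simp)

theorem flat_whiskerRight_left (G : Over S) {Y Y' : Over S} (q : Y ⟶ Y') [Flat q.left] :
    Flat (q ▷ G).left := by
  rw [Over.whiskerRight_left]
  exact MorphismProperty.pullbackMap (P := @Flat) (inferInstance : Flat q.left)
    (inferInstance : Flat (𝟙 G.left)) (by simp) (by simp)

/-- a map `G ⊗ X ⟶ X` which is the second component of an automorphism of `G ⊗ X` over `G` is flat
when `G` is flat over the base -/
theorem flat_of_shear {G X : Over S} [Flat G.hom] (a b : G ⊗ X ⟶ X)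
    (h1 : lift (fst G X) a ≫ b = snd G X) (h2 : lift (fst G X) b ≫ a = snd G X) :
    Flat a.left := by
  have e1 : lift (fst G X) a ≫ lift (fst G X) b = 𝟙 _ := by
    apply CartesianMonoidalCategory.hom_ext
    · rw [Category.assoc, lift_fst, lift_fst, Category.id_comp]
    · rw [Category.assoc, lift_snd, h1, Category.id_comp]
  have e2 : lift (fst G X) b ≫ lift (fst G X) a = 𝟙 _ := by
    apply CartesianMonoidalCategory.hom_ext
    · rw [Category.assoc, lift_fst, lift_fst, Category.id_comp]
    · rw [Category.assoc, lift_snd, h2, Category.id_comp]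
  have hiso : IsIso (lift (fst G X) a) := ⟨lift (fst G X) b, e1, e2⟩
  have hiso' : IsIso (lift (fst G X) a).left :=
    inferInstanceAs (IsIso ((Over.forget _).map (lift (fst G X) a)))
  have hsnd : Flat (snd G X).left := by
    rw [Over.snd_left]; infer_instance
  have : a = lift (fst G X) a ≫ snd G X := by rw [lift_snd]
  rw [this, Over.comp_left]
  infer_instance

theorem flat_mul_left (G : Over S) [GrpObj G] [Flat G.hom] : Flat μ[G].left := by
  rw [MonObj.mul_eq_mul]
  apply flat_of_shear (fst G G * snd G G) ((fst G G)⁻¹ * snd G G)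
  · rw [MonObj.comp_mul, GrpObj.comp_inv, lift_fst, lift_snd]
    group
  · rw [MonObj.comp_mul, lift_fst, lift_snd]
    group

end

end Groth.Agent.Lib.Helper11Homog
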