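import Mathlib
import Groth.Agent.Lib.Helper11SchImageT
import Groth.Agent.Lib.Helper12Flat
import Groth.Agent.Lib.Helper11HomogA

/-!
Helper library (helper11): homogeneity for flat group schemes over a one-point base: an equivariant
morphism `G ⟶ X` which is flat at one point is flat.
-/

set_option autoImplicit false
universe v u
open CategoryTheory CategoryTheory.Limits AlgebraicGeometry MonoidalCategory CartesianMonoidalCategory MonObj

namespace Groth.Agent.Lib.Helper11Homog

open Groth.Agent.Lib.Helper11SchImage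

section

variable {S : Scheme.{u}}

theorem flat_fromSpecStalk_comp {X Y : Scheme.{u}} (f : X ⟶ Y) (x : X)
    (h : (f.stalkMap x).hom.Flat) : Flat (X.fromSpecStalk x ≫ f) := by
  rw [← Scheme.SpecMap_stalkMap_fromSpecStalk]
  have : Flat (Spec.map (f.stalkMap x)) := Flat.SpecMap_iff.mpr h
  infer_instance

/-- **Homogeneity**: a morphism `φ : G ⟶ X` from a flat group scheme over a one-point base which is
equivariant for a flat "action" map `a : G ⊗ X ⟶ X` and flat at one point is flat. -/
theorem flat_of_stalkMap_flat (hS : ∀ s t : ↥S, s = t) (G X : Over S) [GrpObj G] [Flat G.hom]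
    (φ : G ⟶ X) (a : G ⊗ X ⟶ X) (ha : Flat a.left) (hφ : (G ◁ φ) ≫ a = μ[G] ≫ φ)
    (ξ : ↥G.left) (hξ : (φ.left.stalkMap ξ).hom.Flat) : Flat φ.left := by
  obtain ⟨c, hc⟩ : ∃ c : Over.mk (G.left.fromSpecStalk ξ ≫ G.hom) ⟶ G,
      c = Over.homMk (G.left.fromSpecStalk ξ) rfl := ⟨_, rfl⟩
  have hcl : c.left = G.left.fromSpecStalk ξ := by rw [hc]; rfl
  have hcflat : Flat c.left := by rw [hcl]; infer_instance
  have hcφflat : Flat (c ≫ φ).left := by
    rw [Over.comp_left, hcl]
    exact flat_fromSpecStalk_comp φ.left ξ hξ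
  obtain ⟨m', hm'⟩ : ∃ m' : G ⊗ Over.mk (G.left.fromSpecStalk ξ ≫ G.hom) ⟶ G,
      m' = (G ◁ c) ≫ μ[G] := ⟨_, rfl⟩
  have hμ : Flat μ[G].left := flat_mul_left G
  have hm'flat : Flat m'.left := by
    have := flat_whiskerLeft_left G c
    rw [hm', Over.comp_left]
    infer_instance
  have hcomp : m' ≫ φ = (G ◁ (c ≫ φ)) ≫ a := by
    rw [hm', Category.assoc, ← hφ, ← Category.assoc, ← MonoidalCategory.whiskerLeft_comp]
  have hcompflat : Flat (m'.left ≫ φ.left) := by
    rw [← Over.comp_left, hcomp, Over.comp_left]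
    have := flat_whiskerLeft_left G (c ≫ φ)
    infer_instance
  have hsurj : Surjective m'.left := by
    refine ⟨fun g₀ => ?_⟩
    obtain ⟨t, ht1, ht2⟩ := Scheme.Pullback.exists_preimage_pullback (f := G.hom) (g := G.hom)
      g₀ ξ (hS _ _)
    obtain ⟨ψ, hψ⟩ : ∃ ψ : G ⊗ G ⟶ G ⊗ G, ψ = lift (fst G G * (snd G G)⁻¹) (snd G G) := ⟨_, rfl⟩
    have e1 : (snd G G).left (ψ.left t) = ξ := by
      rw [← Scheme.Hom.comp_apply, ← Over.comp_left, hψ, lift_snd]
      exact ht2
    have e2 : μ[G].left (ψ.left t) = g₀ := by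
      rw [← Scheme.Hom.comp_apply, ← Over.comp_left, hψ, MonObj.mul_eq_mul, MonObj.comp_mul,
        lift_fst, lift_snd, inv_mul_cancel_right]
      exact ht1
    obtain ⟨w, hw⟩ := exists_tensor_preimage (𝟙 G) c (ψ.left t) ((fst G G).left (ψ.left t))
      (IsLocalRing.closedPoint _) rfl (by rw [hcl, Scheme.fromSpecStalk_closedPoint, e1])
    refine ⟨w, ?_⟩
    rw [hm', Over.comp_left, Scheme.Hom.comp_apply, ← id_tensorHom, hw, e2]
  exact Groth.Agent.Lib.Helper12.flat_of_comp_of_flat_of_surjective m'.left φ.left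

end

section pts

theorem spec_subsingleton_of_artinian_local (A : Type u) [CommRing A] [IsArtinianRing A]
    [IsLocalRing A] (s t : ↥(Spec (CommRingCat.of A))) : s = t := by
  have h : ∀ p : PrimeSpectrum A, p.asIdeal = IsLocalRing.maximalIdeal A := fun p =>
    IsLocalRing.eq_maximalIdeal (Ideal.IsPrime.isMaximal' p.2)
  exact PrimeSpectrum.ext ((h s).trans (h t).symm)

/-- the local ring of a reduced scheme at a maximal point is a field -/
theorem isField_stalk_of_isMaxPt (X : Scheme.{u}) [IsReduced X] (x : X) (hx : IsMaxPt x) :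
    IsField (X.presheaf.stalk x) := by
  rw [IsLocalRing.isField_iff_maximalIdeal_eq]
  have hprime : ∀ p : PrimeSpectrum (X.presheaf.stalk x), p = IsLocalRing.closedPoint _ := by
    intro p
    apply (X.fromSpecStalk x).isEmbedding.injective
    rw [Scheme.fromSpecStalk_closedPoint]
    apply hx
    have : X.fromSpecStalk x p ∈ Set.range (X.fromSpecStalk x) := ⟨p, rfl⟩
    rw [Scheme.range_fromSpecStalk] at this
    exact this
  rw [eq_bot_iff]
  intro a ha
  have hnil : IsNilpotent a := by
    rw [nilpotent_iff_mem_prime]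
    intro J hJ
    have := hprime ⟨J, hJ⟩
    have h2 : J = IsLocalRing.maximalIdeal _ := congrArg PrimeSpectrum.asIdeal this
    rw [h2]
    exact ha
  rw [Ideal.mem_bot]
  exact hnil.eq_zero

theorem flat_of_isField_source {R T : Type u} [CommRing R] [CommRing T] (f : R →+* T)
    (hR : IsField R) : f.Flat := by
  algebraize [f]
  let _ := hR.toField
  have : Module.Free R T := Module.Free.of_divisionRing R T
  exact Module.Flat.of_free

end pts

end Groth.Agent.Lib.Helper11Homog
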