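import Mathlib
import Groth.Agent.Lib.Helper11Homog
import Groth.Agent.Lib.Helper12Act

/-!
Helper library (helper11): flatness of orbit maps by homogeneity.
-/

set_option autoImplicit false
universe v u
open CategoryTheory CategoryTheory.Limits AlgebraicGeometry MonoidalCategory CartesianMonoidalCategory MonObj

namespace Groth.Agent.Lib.Helper11Orbit

open Groth.Agent.Lib.Helper11Homog Groth.Agent.Lib.Helper11SchImage Groth.Agent.Lib.Helper12

section

variable {S : Scheme.{u}}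

theorem flat_act_left {G X : Over S} [GrpObj G] [Flat G.hom] (a : AlgGrp.Action G X) :
    Flat a.act.left := by
  apply flat_of_shear a.act (lift (fst G X)⁻¹ (snd G X) ≫ a.act)
  · rw [← Category.assoc, comp_lift, GrpObj.comp_inv, lift_fst, lift_snd]
    exact lift_inv_act_act a
  · exact lift_act_inv_act a

theorem whiskerLeft_orbitMap_act {G X : Over S} [GrpObj G] (a : AlgGrp.Action G X)
    (s₀ : 𝟙_ (Over S) ⟶ X) : (G ◁ a.orbitMap s₀) ≫ a.act = μ[G] ≫ a.orbitMap s₀ := by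
  have e1 : G ◁ a.orbitMap s₀ = lift (fst G G) (snd G G ≫ a.orbitMap s₀) := by
    apply CartesianMonoidalCategory.hom_ext
    · rw [whiskerLeft_fst, lift_fst]
    · rw [whiskerLeft_snd, lift_snd]
  have e2 : snd G G ≫ a.orbitMap s₀ = lift (snd G G) (toUnit _ ≫ s₀) ≫ a.act := by
    unfold AlgGrp.Action.orbitMap
    rw [← Category.assoc, comp_lift, Category.comp_id, ← Category.assoc, comp_toUnit]
  have e3 : μ[G] ≫ a.orbitMap s₀ = lift (fst G G * snd G G) (toUnit _ ≫ s₀) ≫ a.act := by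
    unfold AlgGrp.Action.orbitMap
    rw [← Category.assoc, comp_lift, Category.comp_id, ← Category.assoc, comp_toUnit,
      MonObj.mul_eq_mul]
  rw [e1, e2, e3, act_mul]

/-- an orbit map of a flat group scheme over a one-point base which is flat at one point is flat -/
theorem flat_orbitMap_of_stalkMap_flat (hS : ∀ s t : ↥S, s = t) {G X : Over S} [GrpObj G]
    [Flat G.hom] (a : AlgGrp.Action G X) (s₀ : 𝟙_ (Over S) ⟶ X) (ξ : ↥G.left)
    (hξ : ((a.orbitMap s₀).left.stalkMap ξ).hom.Flat) : Flat (a.orbitMap s₀).left :=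
  flat_of_stalkMap_flat hS G X (a.orbitMap s₀) a.act (flat_act_left a)
    (whiskerLeft_orbitMap_act a s₀) ξ hξ

/-- a surjective orbit map onto a reduced scheme over a field is flat -/
theorem flat_orbitMap_of_surjective (k : Type u) [Field k] {G X : Over (Spec (CommRingCat.of k))}
    [GrpObj G] (a : AlgGrp.Action G X) (s₀ : 𝟙_ (Over (Spec (CommRingCat.of k))) ⟶ X)
    [IsReduced X.left] (hsurj : Surjective (a.orbitMap s₀).left) : Flat (a.orbitMap s₀).left := by
  have hne : Nonempty ↥(Spec (CommRingCat.of k)) := inferInstance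
  obtain ⟨y₀, hy₀, -⟩ := exists_isMaxPt_specializes X.left (s₀.left hne.some)
  obtain ⟨ξ, hξ⟩ := (a.orbitMap s₀).left.surjective y₀
  have hfld : IsField (X.left.presheaf.stalk ((a.orbitMap s₀).left ξ)) := by
    rw [hξ]
    exact isField_stalk_of_isMaxPt X.left y₀ hy₀
  have hGflat : Flat G.hom := inferInstance
  exact flat_orbitMap_of_stalkMap_flat (fun s t => Subsingleton.elim s t) a s₀ ξ
    (flat_of_isField_source _ hfld)

end

section fibre

variable {S : Scheme.{u}}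

theorem exists_of_isPullback {P X Y Z : Scheme.{u}} {fst : P ⟶ X} {snd : P ⟶ Y} {f : X ⟶ Z}
    {g : Y ⟶ Z} (h : IsPullback fst snd f g) (x : X) (y : Y) (e : f x = g y) :
    ∃ p : P, fst p = x ∧ snd p = y := by
  obtain ⟨z, hz1, hz2⟩ := Scheme.Pullback.exists_preimage_pullback x y e
  refine ⟨h.isoPullback.inv z, ?_, ?_⟩
  · rw [← Scheme.Hom.comp_apply, h.isoPullback_inv_fst, hz1]
  · rw [← Scheme.Hom.comp_apply, h.isoPullback_inv_snd, hz2]

/-- the points of `G` over the base point of an orbit lie in the image of the stabilizer -/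
theorem mem_range_stabilizer {G X H : Over S} [GrpObj G] (a : AlgGrp.Action G X)
    (x₀ : 𝟙_ (Over S) ⟶ X) (i : H ⟶ G)
    (hH : ∀ (T : Over S) (g : T ⟶ G),
      (∃ h : T ⟶ H, h ≫ i = g) ↔ g ≫ a.orbitMap x₀ = toUnit T ≫ x₀)
    (g : ↥G.left) (pt : ↥(𝟙_ (Over S)).left) (hg : (a.orbitMap x₀).left g = x₀.left pt) :
    g ∈ Set.range i.left := by
  have sq := IsPullback.of_hasPullback (a.orbitMap x₀) x₀
  have sq' : IsPullback (pullback.fst (a.orbitMap x₀) x₀).left
      (pullback.snd (a.orbitMap x₀) x₀).left (a.orbitMap x₀).left x₀.left :=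
    sq.map (Over.forget S)
  obtain ⟨h, hh⟩ := (hH _ (pullback.fst (a.orbitMap x₀) x₀)).mpr (by
    rw [pullback.condition]
    congr 1
    exact toUnit_unique _ _)
  obtain ⟨p, hp1, -⟩ := exists_of_isPullback sq' g pt hg
  refine ⟨h.left p, ?_⟩
  rw [← Scheme.Hom.comp_apply, ← Over.comp_left, hh, hp1]

/-- translate: points of `G` over the image of a section `g₀` of `G` lie in the image of `g₀ · H` -/
theorem mem_range_translate_stabilizer {G X H : Over S} [GrpObj G] (a : AlgGrp.Action G X)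
    (x₀ : 𝟙_ (Over S) ⟶ X) (i : H ⟶ G)
    (hH : ∀ (T : Over S) (g : T ⟶ G),
      (∃ h : T ⟶ H, h ≫ i = g) ↔ g ≫ a.orbitMap x₀ = toUnit T ≫ x₀)
    (g₀ : 𝟙_ (Over S) ⟶ G) (g : ↥G.left) (pt : ↥(𝟙_ (Over S)).left)
    (hg : (a.orbitMap x₀).left g = (g₀ ≫ a.orbitMap x₀).left pt) :
    g ∈ Set.range ((toUnit H ≫ g₀) * i).left := by
  obtain ⟨ρ, hρ⟩ : ∃ ρ : G ⟶ G, ρ = (toUnit G ≫ g₀⁻¹) * 𝟙 G := ⟨_, rfl⟩
  obtain ⟨ρ', hρ'⟩ : ∃ ρ' : G ⟶ G, ρ' = (toUnit G ≫ g₀) * 𝟙 G := ⟨_, rfl⟩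
  obtain ⟨τ, hτ⟩ : ∃ τ : X ⟶ X, τ = lift (toUnit X ≫ g₀⁻¹) (𝟙 X) ≫ a.act := ⟨_, rfl⟩
  have h1 : ρ ≫ ρ' = 𝟙 G := by
    rw [hρ', MonObj.comp_mul, ← Category.assoc, comp_toUnit, Category.comp_id, hρ,
      GrpObj.comp_inv]
    group
  -- `ρ ≫ φ = φ ≫ τ`
  have h2 : ρ ≫ a.orbitMap x₀ = a.orbitMap x₀ ≫ τ := by
    have e1 : ρ ≫ a.orbitMap x₀ = lift ρ (toUnit G ≫ x₀) ≫ a.act := by
      unfold AlgGrp.Action.orbitMap
      rw [← Category.assoc, comp_lift, Category.comp_id, ← Category.assoc, comp_toUnit]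
    have e2 : a.orbitMap x₀ ≫ τ = lift (toUnit G ≫ g₀⁻¹) (a.orbitMap x₀) ≫ a.act := by
      rw [hτ, ← Category.assoc, comp_lift, Category.comp_id, ← Category.assoc, comp_toUnit]
    rw [e1, e2, hρ, act_mul]
    rfl
  -- `g₀ ≫ ρ ≫ φ = x₀`
  have h3 : g₀ ≫ ρ = 1 := by
    rw [hρ, MonObj.comp_mul, ← Category.assoc, comp_toUnit, Category.comp_id,
      toUnit_unique (toUnit (𝟙_ (Over S))) (𝟙 _), Category.id_comp, inv_mul_cancel]
  have h4 : (1 : 𝟙_ (Over S) ⟶ G) ≫ a.orbitMap x₀ = x₀ := by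
    unfold AlgGrp.Action.orbitMap
    rw [← Category.assoc, comp_lift, Category.comp_id, ← Category.assoc, comp_toUnit,
      toUnit_unique (toUnit (𝟙_ (Over S))) (𝟙 _), Category.id_comp, act_one]
  have h5 : (a.orbitMap x₀).left (ρ.left g) = x₀.left pt := by
    rw [← Scheme.Hom.comp_apply, ← Over.comp_left, h2, Over.comp_left, Scheme.Hom.comp_apply, hg,
      ← Scheme.Hom.comp_apply, ← Over.comp_left, Category.assoc, ← h2, ← Category.assoc, h3, h4]
  obtain ⟨h, hh⟩ := mem_range_stabilizer a x₀ i hH (ρ.left g) pt h5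
  refine ⟨h, ?_⟩
  have h6 : (toUnit H ≫ g₀) * i = i ≫ ρ' := by
    rw [hρ', MonObj.comp_mul, ← Category.assoc, comp_toUnit, Category.comp_id]
  rw [h6, Over.comp_left, Scheme.Hom.comp_apply, hh, ← Scheme.Hom.comp_apply, ← Over.comp_left, h1]
  rfl

end fibre

end Groth.Agent.Lib.Helper11Orbit
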