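import Groth.Agent.Lib.Helper6SmReg
import Mathlib

set_option autoImplicit false
universe u
open CategoryTheory CategoryTheory.Limits AlgebraicGeometry

namespace Groth.Agent.Lib.Helper6.SmRegSch

open Groth.Agent.Lib.Helper6.SmReg

/-- Ring-level packaged form: a smooth ring map from a regular ring, localized at a prime. -/
theorem isRegularLocalRing_of_ringHom_smooth {R S : Type u} [CommRing R] [CommRing S]
    [IsRegularRing R] (φ : R →+* S) (hφ : φ.Smooth) (q : Ideal S) [q.IsPrime] :
    IsRegularLocalRing (Localization.AtPrime q) := by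
  algebraize [φ]
  exact isRegularLocalRing_of_isSmoothAt (R := R) q

theorem isRegularLocalRing_stalk_of_smooth_over_field (k : Type u) [Field k] (X : Scheme.{u})
    (f : X ⟶ Spec (CommRingCat.of k)) [Smooth f] (x : X) :
    IsRegularLocalRing (X.presheaf.stalk x) := by
  obtain ⟨V, hV, hxV, -⟩ := exists_isAffineOpen_mem_and_subset (X := X) (x := x)
    (U := ⊤) trivial
  have hsm := Smooth.smooth_appLE f (isAffineOpen_top (Spec (CommRingCat.of k))) hV
    (show V ≤ f ⁻¹ᵁ ⊤ from le_top)
  haveI : IsRegularRing Γ(Spec (CommRingCat.of k), ⊤) :=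
    IsRegularRing.of_ringEquiv (Scheme.ΓSpecIso (CommRingCat.of k)).commRingCatIsoToRingEquiv.symm
  have hreg := isRegularLocalRing_of_ringHom_smooth _ hsm (hV.primeIdealOf ⟨x, hxV⟩).asIdeal
  letI := X.presheaf.algebra_section_stalk ⟨x, hxV⟩
  haveI := hV.isLocalization_stalk ⟨x, hxV⟩
  exact IsRegularLocalRing.of_ringEquiv (IsLocalization.algEquiv
    (hV.primeIdealOf ⟨x, hxV⟩).asIdeal.primeCompl
    (Localization.AtPrime (hV.primeIdealOf ⟨x, hxV⟩).asIdeal) (X.presheaf.stalk x)).toRingEquiv

end Groth.Agent.Lib.Helper6.SmRegSch
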