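import Mathlib
import Groth.Agent.Lib.Helper6SmRegSch
import Groth.Agent.Lib.Helper5RLR
import Groth.Prelude.Def_Curv2

set_option autoImplicit false
universe u
open CategoryTheory CategoryTheory.Limits AlgebraicGeometry

namespace Groth.Agent.Lib.Helper6.SmGeom

/-- a scheme smooth over a field is reduced -/
theorem isReduced_of_smooth_over_field (K : Type u) [Field K] (Z : Scheme.{u})
    (g : Z ⟶ Spec (CommRingCat.of K)) [Smooth g] : IsReduced Z := by
  haveI : ∀ z : Z, _root_.IsReduced (Z.presheaf.stalk z) := by
    intro z
    haveI := Groth.Agent.Lib.Helper6.SmRegSch.isRegularLocalRing_stalk_of_smooth_over_field K Z g z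
    haveI : IsDomain (Z.presheaf.stalk z) :=
      Groth.Agent.Lib.Helper5.isDomain_of_isRegularLocalRing _
    infer_instance
  exact isReduced_of_isReduced_stalk Z

theorem main (k : Type u) [Field k] (X : Scheme.{u}) [X.Over (Spec (CommRingCat.of k))]
    [Smooth (X ↘ (Spec (CommRingCat.of k)))] :
    GeometricallyReduced (X ↘ (Spec (CommRingCat.of k))) ∧
      ∀ x : X, Curv2.IsGeomRegularAt k X x := by
  constructor
  · constructor
    intro K _ y Z fst snd h
    haveI : Smooth snd := MorphismProperty.of_isPullback h inferInstance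
    exact isReduced_of_smooth_over_field K Z snd
  · intro x k' _ _ _ x' _
    exact Groth.Agent.Lib.Helper6.SmRegSch.isRegularLocalRing_stalk_of_smooth_over_field k' _
      (Curv2.bcSnd k X k') x'

end Groth.Agent.Lib.Helper6.SmGeom
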