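import Mathlib
import Groth.Agent.Lib.Helper11Orbit
import Groth.Agent.Lib.Helper6SmGeom

/-!
Helper library (helper11): a homogeneous space of a group scheme over a field which is
geometrically reduced and locally of finite type is smooth.
-/

set_option autoImplicit false
universe u
open CategoryTheory CategoryTheory.Limits AlgebraicGeometry MonoidalCategory CartesianMonoidalCategory MonObj

namespace Groth.Agent.Lib.Helper11HomSm

open Groth.Agent.Lib.Helper12

/-- a reduced scheme locally of finite type over an algebraically closed field whose automorphism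
group acts transitively on closed points is smooth -/
theorem smooth_of_transitive_of_isAlgClosed {K : Type u} [Field K] [IsAlgClosed K] {Y : Scheme.{u}}
    (f : Y ⟶ Spec (CommRingCat.of K)) [LocallyOfFiniteType f] [IsReduced Y]
    (H : ∀ x y : Y, x ∈ closedPoints Y → y ∈ closedPoints Y →
      ∃ α : Y ⟶ Y, IsIso α ∧ α ≫ f = f ∧ α x = y) : Smooth f := by
  have := LocallyOfFiniteType.jacobsonSpace f
  rw [← Scheme.Hom.smoothLocus_eq_top_iff, ← TopologicalSpace.Opens.coe_eq_univ,
    ← not_ne_iff, ← Set.nonempty_compl]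
  intro H'
  obtain ⟨x, hx, hxc⟩ :=
    nonempty_inter_closedPoints H' f.smoothLocus.2.isClosed_compl.isLocallyClosed
  have : Nonempty Y := ⟨x⟩
  obtain ⟨y, hy, hyc⟩ := nonempty_inter_closedPoints
    f.dense_smoothLocus_of_perfectField.nonempty f.smoothLocus.2.isLocallyClosed
  obtain ⟨α, hiso, hαf, hαx⟩ := H x y hxc hyc
  have h1 : α ⁻¹ᵁ f.smoothLocus = (α ≫ f).smoothLocus := Scheme.Hom.preimage_smoothLocus_eq α f
  have h2 : x ∈ α ⁻¹ᵁ f.smoothLocus := by
    rw [Scheme.Hom.mem_preimage, hαx]
    exact hy
  rw [h1] at h2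
  have key : ∀ (g : Y ⟶ Spec (CommRingCat.of K)) [LocallyOfFinitePresentation g], g = f →
      x ∈ g.smoothLocus → x ∈ f.smoothLocus := by
    rintro g _ rfl h
    exact h
  exact hx (key (α ≫ f) hαf h2)

/-- points with values in an algebraically closed field lift along surjective morphisms locally of
finite type -/
theorem exists_lift_point {K : Type u} [Field K] [IsAlgClosed K] {G Y : Scheme.{u}} (π : G ⟶ Y)
    [LocallyOfFiniteType π] [Surjective π] (y : Spec (CommRingCat.of K) ⟶ Y) :
    ∃ g : Spec (CommRingCat.of K) ⟶ G, g ≫ π = y := by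
  have h1 : LocallyOfFiniteType (pullback.snd π y) := inferInstance
  have h2 : Surjective (pullback.snd π y) := inferInstance
  have := LocallyOfFiniteType.jacobsonSpace (pullback.snd π y)
  have hne : (Set.univ : Set ↥(pullback π y)).Nonempty := by
    obtain ⟨z, -⟩ := (pullback.snd π y).surjective (IsLocalRing.closedPoint K)
    exact ⟨z, trivial⟩
  obtain ⟨x, -, hxc⟩ := nonempty_inter_closedPoints hne isClosed_univ.isLocallyClosed
  refine ⟨pointOfClosedPoint (pullback.snd π y) x hxc ≫ pullback.fst π y, ?_⟩
  rw [Category.assoc, pullback.condition, pointOfClosedPoint_comp_assoc]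

/-- a flat surjective morphism is scheme theoretically dominant -/
theorem isSchemeTheoreticallyDominant_of_flat_of_surjective {X Y : Scheme.{u}} (f : X ⟶ Y) [Flat f]
    [Surjective f] : IsSchemeTheoreticallyDominant f := by
  have hst : ∀ x : X, Function.Injective (f.stalkMap x).hom := by
    intro x
    algebraize [(f.stalkMap x).hom]
    have : Module.FaithfullyFlat (Y.presheaf.stalk (f x)) (X.presheaf.stalk x) :=
      @Module.FaithfullyFlat.of_flat_of_isLocalHom _ _ _ _ _ _ _
        (Flat.stalkMap f x) (f.toLRSHom.prop x)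
    exact ‹RingHom.FaithfullyFlat _›.injective
  rw [isSchemeTheoreticallyDominant_iff, eq_bot_iff]
  intro U
  refine (f.ideal_ker_le U).trans ?_
  simp only [Scheme.IdealSheafData.ideal_bot, Pi.bot_apply]
  rw [le_bot_iff, ← RingHom.injective_iff_ker_eq_bot, injective_iff_map_eq_zero]
  intro s hs
  refine TopCat.Presheaf.section_ext Y.sheaf U.1 s 0 fun y hy ↦ ?_
  obtain ⟨x, rfl⟩ := f.surjective y
  apply hst x
  change f.stalkMap x (Y.presheaf.germ U.1 (f x) hy s) = f.stalkMap x (Y.presheaf.germ U.1 (f x) hy 0)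
  rw [Scheme.Hom.germ_stalkMap_apply, Scheme.Hom.germ_stalkMap_apply]
  change X.presheaf.germ (f ⁻¹ᵁ U.1) x hy ((f.app U.1).hom s) = _
  rw [hs, map_zero, map_zero, map_zero]

/-- the target of a quasi-compact scheme theoretically dominant morphism from a smooth scheme over a
field is geometrically reduced -/
theorem geometricallyReduced_of_dominant {k : Type u} [Field k] {G K : Scheme.{u}}
    (g : G ⟶ K) (q : K ⟶ Spec (CommRingCat.of k)) [QuasiCompact g] [IsSchemeTheoreticallyDominant g]
    [Smooth (g ≫ q)] : GeometricallyReduced q := by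
  constructor
  intro K' _ y Z fst snd h
  have hflaty : Flat y := inferInstance
  have hflat : Flat fst := MorphismProperty.of_isPullback (P := @Flat) h.flip hflaty
  have hdom : IsSchemeTheoreticallyDominant (pullback.snd g fst) := inferInstance
  have hqc : QuasiCompact (pullback.snd g fst) := inferInstance
  have hpb : IsPullback (pullback.fst g fst) (pullback.snd g fst ≫ snd) (g ≫ q) y :=
    (IsPullback.of_hasPullback g fst).paste_vert h
  have hsm : Smooth (pullback.snd g fst ≫ snd) :=
    MorphismProperty.of_isPullback (P := @Smooth) hpb inferInstance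
  have hred : IsReduced (pullback g fst) :=
    Groth.Agent.Lib.Helper6.SmGeom.isReduced_of_smooth_over_field K' _ (pullback.snd g fst ≫ snd)
  exact IsSchemeTheoreticallyDominant.isReduced (pullback.snd g fst)

section transl

variable {S : Scheme.{u}} {G Y T : Over S} [GrpObj G] (a : AlgGrp.Action G Y)

/-- translation by a `T`-point of `G` on `Y ⊗ T` -/
noncomputable def transl (g : T ⟶ G) : Y ⊗ T ⟶ Y ⊗ T :=
  lift (lift (snd Y T ≫ g) (fst Y T) ≫ a.act) (snd Y T)

theorem transl_snd (g : T ⟶ G) : transl a g ≫ snd Y T = snd Y T := by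
  unfold transl
  rw [lift_snd]

theorem transl_comp (g h : T ⟶ G) : transl a g ≫ transl a h = transl a (h * g) := by
  apply CartesianMonoidalCategory.hom_ext
  · conv_lhs => rw [transl, transl]
    rw [Category.assoc, lift_fst, ← Category.assoc, comp_lift, ← Category.assoc, lift_snd, lift_fst,
      ← act_mul, transl, lift_fst, MonObj.comp_mul]
  · rw [Category.assoc, transl_snd, transl_snd, transl_snd]

theorem transl_one : transl a (1 : T ⟶ G) = 𝟙 (Y ⊗ T) := by
  apply CartesianMonoidalCategory.hom_ext
  · rw [transl, lift_fst, MonObj.comp_one, act_one, Category.id_comp]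
  · rw [transl_snd, Category.id_comp]

theorem isIso_transl (g : T ⟶ G) : IsIso (transl a g) :=
  ⟨transl a g⁻¹, by rw [transl_comp, inv_mul_cancel, transl_one],
    by rw [transl_comp, mul_inv_cancel, transl_one]⟩

theorem lift_transl (g : T ⟶ G) (y : T ⟶ Y) :
    lift y (𝟙 T) ≫ transl a g = lift (lift g y ≫ a.act) (𝟙 T) := by
  apply CartesianMonoidalCategory.hom_ext
  · rw [transl, Category.assoc, lift_fst, ← Category.assoc, comp_lift, ← Category.assoc, lift_snd,
      lift_fst, lift_fst, Category.id_comp]
  · rw [Category.assoc, transl_snd, lift_snd, lift_snd]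

end transl

/-- a geometrically reduced scheme locally of finite type over a field `k`, with an action of a
`k`-group scheme which is transitive on points with values in the algebraic closure, is smooth -/
theorem smooth_of_transitive (k : Type u) [Field k] {G Y : Over (Spec (CommRingCat.of k))} [GrpObj G]
    (a : AlgGrp.Action G Y) [LocallyOfFiniteType Y.hom] [GeometricallyReduced Y.hom]
    (H : ∀ y₁ y₂ : Over.mk (Spec.map (CommRingCat.ofHom (algebraMap k (AlgebraicClosure k)))) ⟶ Y,
      ∃ g : Over.mk (Spec.map (CommRingCat.ofHom (algebraMap k (AlgebraicClosure k)))) ⟶ G,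
        lift g y₁ ≫ a.act = y₂) : Smooth Y.hom := by
  obtain ⟨g, hg⟩ : ∃ g : Spec (CommRingCat.of (AlgebraicClosure k)) ⟶ Spec (CommRingCat.of k),
    g = Spec.map (CommRingCat.ofHom (algebraMap k (AlgebraicClosure k))) := ⟨_, rfl⟩
  rw [← hg] at H
  have hgQ : (@Surjective ⊓ @Flat ⊓ @QuasiCompact : MorphismProperty Scheme.{u}) g := by
    rw [hg]
    exact ⟨⟨inferInstance, inferInstance⟩, inferInstance⟩
  apply MorphismProperty.of_pullback_snd_of_descendsAlong
    (Q := @Surjective ⊓ @Flat ⊓ @QuasiCompact) (g := g) hgQ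
  have hred : IsReduced (pullback Y.hom g) :=
    GeometricallyReduced.geometrically_isReduced _ _ _ (.of_hasPullback _ _)
  apply smooth_of_transitive_of_isAlgClosed
  intro x y hx hy
  obtain ⟨sx, hsx⟩ : ∃ s, s = pointOfClosedPoint (pullback.snd Y.hom g) x hx := ⟨_, rfl⟩
  obtain ⟨sy, hsy⟩ : ∃ s, s = pointOfClosedPoint (pullback.snd Y.hom g) y hy := ⟨_, rfl⟩
  have hsx1 : sx ≫ pullback.snd Y.hom g = 𝟙 _ := by rw [hsx, pointOfClosedPoint_comp]
  have hsy1 : sy ≫ pullback.snd Y.hom g = 𝟙 _ := by rw [hsy, pointOfClosedPoint_comp]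
  obtain ⟨y₁, hy₁⟩ : ∃ y₁ : Over.mk g ⟶ Y, y₁.left = sx ≫ pullback.fst Y.hom g :=
    ⟨Over.homMk (sx ≫ pullback.fst Y.hom g) (by
      change (sx ≫ pullback.fst Y.hom g) ≫ Y.hom = g
      rw [Category.assoc, pullback.condition, reassoc_of% hsx1]), rfl⟩
  obtain ⟨y₂, hy₂⟩ : ∃ y₂ : Over.mk g ⟶ Y, y₂.left = sy ≫ pullback.fst Y.hom g :=
    ⟨Over.homMk (sy ≫ pullback.fst Y.hom g) (by
      change (sy ≫ pullback.fst Y.hom g) ≫ Y.hom = g
      rw [Category.assoc, pullback.condition, reassoc_of% hsy1]), rfl⟩
  obtain ⟨c, hc⟩ := H y₁ y₂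
  have hl1 : (lift y₁ (𝟙 (Over.mk g))).left = sx := by
    apply pullback.hom_ext
    · have := congrArg (fun t => t.left) (lift_fst y₁ (𝟙 (Over.mk g)))
      simp only [Over.comp_left] at this
      rw [hy₁] at this
      exact this
    · have := congrArg (fun t => t.left) (lift_snd y₁ (𝟙 (Over.mk g)))
      simp only [Over.comp_left] at this
      exact this.trans hsx1.symm
  have hl2 : (lift y₂ (𝟙 (Over.mk g))).left = sy := by
    apply pullback.hom_ext
    · have := congrArg (fun t => t.left) (lift_fst y₂ (𝟙 (Over.mk g)))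
      simp only [Over.comp_left] at this
      rw [hy₂] at this
      exact this
    · have := congrArg (fun t => t.left) (lift_snd y₂ (𝟙 (Over.mk g)))
      simp only [Over.comp_left] at this
      exact this.trans hsy1.symm
  have hiso := isIso_transl a c
  refine ⟨(transl a c).left, ?_, ?_, ?_⟩
  · exact inferInstanceAs (IsIso ((Over.forget _).map (transl a c)))
  · have := congrArg (fun t => t.left) (transl_snd a c)
    simp only [Over.comp_left] at this
    exact this
  · have h1 := congrArg (fun t => t.left) (lift_transl a c y₁)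
    simp only [Over.comp_left] at h1
    rw [hc, hl1, hl2] at h1
    have hx' : sx (IsLocalRing.closedPoint _) = x := by rw [hsx, pointOfClosedPoint_apply]
    have hy' : sy (IsLocalRing.closedPoint _) = y := by rw [hsy, pointOfClosedPoint_apply]
    rw [← hx', ← hy', ← h1]
    rfl

/-- a geometrically reduced scheme locally of finite type over a field `k`, with an action of a
`k`-group scheme locally of finite type one of whose orbit maps is surjective, is smooth -/
theorem smooth_of_surjective_orbitMap (k : Type u) [Field k] {G Y : Over (Spec (CommRingCat.of k))}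
    [GrpObj G] (a : AlgGrp.Action G Y) (o : 𝟙_ (Over (Spec (CommRingCat.of k))) ⟶ Y)
    [LocallyOfFiniteType G.hom] [LocallyOfFiniteType Y.hom] [GeometricallyReduced Y.hom]
    [Surjective (a.orbitMap o).left] : Smooth Y.hom := by
  apply smooth_of_transitive k a
  have hlft : LocallyOfFiniteType ((a.orbitMap o).left ≫ Y.hom) := by
    rw [Over.w]; infer_instance
  have hlft' : LocallyOfFiniteType (a.orbitMap o).left :=
    locallyOfFiniteType_of_comp (a.orbitMap o).left Y.hom
  have key : ∀ y : Over.mk (Spec.map (CommRingCat.ofHom (algebraMap k (AlgebraicClosure k)))) ⟶ Y,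
      ∃ g : Over.mk (Spec.map (CommRingCat.ofHom (algebraMap k (AlgebraicClosure k)))) ⟶ G,
        lift g (toUnit _ ≫ o) ≫ a.act = y := by
    intro y
    obtain ⟨g, hg⟩ := exists_lift_point (a.orbitMap o).left y.left
    obtain ⟨g', hg'⟩ : ∃ g' : Over.mk (Spec.map (CommRingCat.ofHom
        (algebraMap k (AlgebraicClosure k)))) ⟶ G, g' ≫ a.orbitMap o = y := by
      refine ⟨Over.homMk g ?_, ?_⟩
      · rw [← Over.w (a.orbitMap o), reassoc_of% hg, Over.w y]
      · ext1
        exact hg
    refine ⟨g', ?_⟩
    rw [← hg']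
    unfold AlgGrp.Action.orbitMap
    rw [← Category.assoc, comp_lift, Category.comp_id, ← Category.assoc, comp_toUnit]
  intro y₁ y₂
  obtain ⟨g₁, hg₁⟩ := key y₁
  obtain ⟨g₂, hg₂⟩ := key y₂
  refine ⟨g₂ * g₁⁻¹, ?_⟩
  rw [← hg₁, ← act_mul, inv_mul_cancel_right, hg₂]

end Groth.Agent.Lib.Helper11HomSm
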