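import Mathlib.RingTheory.Derivation.Basic
import Mathlib.RingTheory.Nilpotent.Basic
import Mathlib.RingTheory.Noetherian.Basic
import Mathlib.RingTheory.Filtration
import Mathlib.RingTheory.Ideal.Operations
import Mathlib.LinearAlgebra.Dimension.Free
import Mathlib.LinearAlgebra.FiniteDimensional.Defs
import Mathlib.RingTheory.Nilpotent.Lemmas
import Mathlib.Algebra.TrivSqZeroExt.Basic
import Mathlib.AlgebraicGeometry.Group.Smooth
import Mathlib.AlgebraicGeometry.Noetherian
import Mathlib.CategoryTheory.Monoidal.Cartesian.Over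

/-!
# helper25 library: Cartier's theorem — group schemes in characteristic zero are smooth

* Ring level (`exists_annihilator_nilradical`): let `B` be a Noetherian algebra over a field `K` of
  characteristic zero with a `K`-point `e`, such that every tangent vector at `e` (an `e`-derivation
  `B → K`) is the value at `e` of a `K`-derivation `B → B`.  Then the nilradical of `B` is killed by
  some `s` with `e s = 1`.  Proof: the Euler operator `Σ xᵢ Dᵢ` attached to a basis of the cotangent
  space shows that the nilradical (stable under derivations in characteristic zero,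
  `derivation_mem_nilradical`) lies in all powers of the maximal ideal (`le_pow_of_stable`); then
  Krull's intersection theorem.
* Scheme level (`exists_derivation_of_grpObj`): for a group scheme `G` over `K` and an affine open
  neighbourhood `Spec B` of the identity, right translation by the dual-number point `e + ε ξ`
  of `G` gives a `K`-algebra map `B → B[ε]` lifting the identity, i.e. a derivation of `B` with
  value `ξ` at `e`.  This uses only the group structures on the sets `Hom(Spec R, G)`.
* `exists_reduced_nhd_one`, `isReduced_of_isAlgClosed` (homogeneity), `isReduced_of_charZero`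
  (descent from the algebraic closure), `geometricallyReduced_of_charZero`, and finally
  `smooth_of_charZero` via Mathlib's `AlgebraicGeometry.smooth_of_grpObj`.
-/

set_option autoImplicit false
universe u v w

namespace Groth.Agent.Lib.Helper25.Cart

section Cotangent

variable {K : Type u} [Field K] {B : Type v} [CommRing B] [Algebra K B] (e : B →ₐ[K] K)

/-- `e`-derivations `B → K` at the point `e`. -/
def IsPtDer (ξ : B →ₗ[K] K) : Prop :=
  ∀ a b : B, ξ (a * b) = e a * ξ b + ξ a * e b

/-- The `K`-submodule `K·1 + m²`. -/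
noncomputable def Nsq : Submodule K B :=
  Submodule.span K {(1 : B)} ⊔ ((RingHom.ker e) ^ 2).restrictScalars K

theorem sub_apply_mem_ker (a : B) : a - (e a) • (1 : B) ∈ RingHom.ker e := by
  rw [RingHom.mem_ker, map_sub, map_smul, map_one]
  simp

/-- The cotangent projection `B → B/(K + m²)`. -/
noncomputable def cotL : B →ₗ[K] (B ⧸ Nsq e) := (Nsq e).mkQ

theorem cotL_one : cotL e 1 = 0 := by
  rw [cotL, Submodule.mkQ_apply, Submodule.Quotient.mk_eq_zero]
  exact Submodule.mem_sup_left (Submodule.mem_span_singleton_self _)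

theorem cotL_sq {a : B} (ha : a ∈ RingHom.ker e ^ 2) : cotL e a = 0 := by
  rw [cotL, Submodule.mkQ_apply, Submodule.Quotient.mk_eq_zero]
  exact Submodule.mem_sup_right ha

theorem cotL_mul (a b : B) : cotL e (a * b) = e a • cotL e b + e b • cotL e a := by
  have h0 : a * b = (a - (e a) • (1 : B)) * (b - (e b) • (1 : B)) +
      (e a • b + e b • a - (e a * e b) • (1 : B)) := by
    simp only [Algebra.smul_def, mul_one, map_mul]
    ring
  have h1 : cotL e ((a - (e a) • (1 : B)) * (b - (e b) • (1 : B))) = 0 := by
    apply cotL_sq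
    rw [pow_two]
    exact Ideal.mul_mem_mul (sub_apply_mem_ker e a) (sub_apply_mem_ker e b)
  conv_lhs => rw [h0]
  rw [map_add, h1, zero_add, map_sub, map_add, map_smul, map_smul, map_smul, cotL_one, smul_zero,
    sub_zero]

theorem mem_sq_of_cotL_eq_zero {z : B} (hz : z ∈ RingHom.ker e) (h : cotL e z = 0) :
    z ∈ RingHom.ker e ^ 2 := by
  rw [cotL, Submodule.mkQ_apply, Submodule.Quotient.mk_eq_zero] at h
  obtain ⟨y, hy, w, hw, rfl⟩ := Submodule.mem_sup.mp h
  obtain ⟨c, rfl⟩ := Submodule.mem_span_singleton.mp hy
  have hw' : w ∈ RingHom.ker e ^ 2 := hw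
  have hw1 : w ∈ RingHom.ker e := Ideal.pow_le_self (by norm_num) hw'
  have hc : c = 0 := by
    have h2 := (RingHom.mem_ker).mp hz
    rw [map_add, map_smul, map_one, (RingHom.mem_ker).mp hw1] at h2
    simpa using h2
  rw [hc, zero_smul, zero_add]
  exact hw'

theorem cotL_finite [IsNoetherianRing B] : Module.Finite K (B ⧸ Nsq e) := by
  classical
  obtain ⟨S, hS⟩ := (IsNoetherian.noetherian (RingHom.ker e) : (RingHom.ker e).FG)
  have key : ∀ a ∈ RingHom.ker e, cotL e a ∈
      Submodule.span K ((cotL e) '' (S : Set B)) := by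
    intro a ha
    rw [← hS] at ha
    have hle : Ideal.span (S : Set B) ≤ RingHom.ker e := hS.le
    refine Submodule.span_induction (p := fun a _ => cotL e a ∈
      Submodule.span K ((cotL e) '' (S : Set B))) ?_ ?_ ?_ ?_ ha
    · intro s hs
      exact Submodule.subset_span ⟨s, hs, rfl⟩
    · rw [map_zero]; exact Submodule.zero_mem _
    · intro y z _ _ hy hz
      rw [map_add]; exact Submodule.add_mem _ hy hz
    · intro r y hy hy'
      rw [smul_eq_mul, cotL_mul, (RingHom.mem_ker).mp (hle hy), zero_smul, add_zero]
      exact Submodule.smul_mem _ _ hy'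
  refine ⟨⟨S.image (cotL e), ?_⟩⟩
  rw [Finset.coe_image, eq_top_iff]
  intro v _
  obtain ⟨a, rfl⟩ := Submodule.mkQ_surjective (Nsq e) v
  have h1 : cotL e a = cotL e (a - (e a) • (1 : B)) := by
    rw [map_sub, map_smul, cotL_one, smul_zero, sub_zero]
  change cotL e a ∈ _
  rw [h1]
  exact key _ (sub_apply_mem_ker e a)

theorem exists_dual_family [IsNoetherianRing B] :
    ∃ (n : ℕ) (x : Fin n → B) (ξ : Fin n → (B →ₗ[K] K)),
      (∀ i, x i ∈ RingHom.ker e) ∧ (∀ i, IsPtDer e (ξ i)) ∧
        ∀ b ∈ RingHom.ker e, b - ∑ i, ξ i b • x i ∈ RingHom.ker e ^ 2 := by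
  have := cotL_finite e
  let bs := Module.finBasis K (B ⧸ Nsq e)
  have hy : ∀ i, ∃ y : B, cotL e y = bs i := fun i =>
    Submodule.mkQ_surjective (Nsq e) (bs i)
  choose y hy using hy
  refine ⟨_, fun i => y i - (e (y i)) • (1 : B),
    fun i => bs.coord i ∘ₗ cotL e, fun i => sub_apply_mem_ker e _, ?_, ?_⟩
  · intro i a b
    rw [LinearMap.comp_apply, cotL_mul, map_add, map_smul, map_smul]
    simp only [LinearMap.comp_apply, smul_eq_mul]
    ring
  · intro b hb
    apply mem_sq_of_cotL_eq_zero
    · refine Ideal.sub_mem _ hb (Ideal.sum_mem _ (fun i _ => ?_))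
      exact Submodule.smul_of_tower_mem _ _ (sub_apply_mem_ker e _)
    · rw [map_sub, map_sum, sub_eq_zero]
      have h2 : ∀ i, cotL e ((bs.coord i ∘ₗ cotL e) b • (y i - (e (y i)) • (1 : B))) =
          bs.repr (cotL e b) i • bs i := by
        intro i
        rw [map_smul, map_sub, map_smul, cotL_one, smul_zero, sub_zero, hy]
        rfl
      rw [Finset.sum_congr rfl (fun i _ => h2 i)]
      exact (bs.sum_repr _).symm

end Cotangent

section Euler

variable {K : Type u} [Field K] {B : Type v} [CommRing B] [Algebra K B]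
variable (m : Ideal B) {n : ℕ} (x : Fin n → B) (D : Fin n → Derivation K B B)

/-- The Euler operator `Σ xᵢ Dᵢ`. -/
noncomputable def eulerOp (b : B) : B := ∑ i, x i * D i b

theorem eulerOp_add (a b : B) : eulerOp x D (a + b) = eulerOp x D a + eulerOp x D b := by
  simp only [eulerOp, map_add, mul_add, Finset.sum_add_distrib]

theorem eulerOp_mul (a b : B) :
    eulerOp x D (a * b) = a * eulerOp x D b + eulerOp x D a * b := by
  simp only [eulerOp]
  rw [Finset.mul_sum, Finset.sum_mul, ← Finset.sum_add_distrib]
  refine Finset.sum_congr rfl (fun i _ => ?_)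
  rw [Derivation.leibniz, smul_eq_mul, smul_eq_mul]
  ring

variable (hx : ∀ i, x i ∈ m) (H : ∀ b ∈ m, eulerOp x D b - b ∈ m ^ 2)

include hx in
theorem eulerOp_mem (b : B) : eulerOp x D b ∈ m :=
  Ideal.sum_mem _ (fun i _ => Ideal.mul_mem_right _ _ (hx i))

include hx H in
theorem euler (j : ℕ) (b : B) (hb : b ∈ m ^ j) :
    eulerOp x D b - j • b ∈ m ^ (j + 1) := by
  induction j generalizing b with
  | zero =>
    rw [zero_smul, sub_zero, zero_add, pow_one]
    exact eulerOp_mem m x D hx b
  | succ j ih =>
    rw [pow_succ] at hb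
    refine Submodule.mul_induction_on hb ?_ ?_
    · intro y hy z hz
      have e : eulerOp x D (y * z) - (j + 1) • (y * z) =
          y * (eulerOp x D z - z) + (eulerOp x D y - j • y) * z := by
        rw [eulerOp_mul, succ_nsmul]
        simp only [nsmul_eq_mul]
        ring
      rw [e]
      refine Ideal.add_mem _ ?_ ?_
      · have h1 := Ideal.mul_mem_mul hy (H z hz)
        rw [← pow_add] at h1
        exact h1
      · have h1 := Ideal.mul_mem_mul (ih y hy) hz
        rw [← pow_succ] at h1
        exact h1
    · intro y z hy hz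
      have e : eulerOp x D (y + z) - (j + 1) • (y + z) =
          (eulerOp x D y - (j + 1) • y) + (eulerOp x D z - (j + 1) • z) := by
        rw [eulerOp_add, smul_add]
        ring
      rw [e]
      exact Ideal.add_mem _ hy hz

include hx H in
/-- An ideal contained in `m` and stable under the derivations lies in all powers of `m`
(characteristic zero). -/
theorem le_pow_of_stable [CharZero K] (N : Ideal B) (hN : N ≤ m)
    (hDN : ∀ i, ∀ b ∈ N, D i b ∈ N) (j : ℕ) : N ≤ m ^ j := by
  induction j with
  | zero =>
    rw [pow_zero, Ideal.one_eq_top]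
    exact le_top
  | succ j ih =>
    intro b hb
    rcases Nat.eq_zero_or_pos j with hj | hj
    · subst hj
      rw [zero_add, pow_one]
      exact hN hb
    · have h1 : eulerOp x D b ∈ m ^ (j + 1) := by
        refine Ideal.sum_mem _ (fun i _ => ?_)
        rw [pow_succ']
        exact Ideal.mul_mem_mul (hx i) (ih (hDN i b hb))
      have h2 := euler m x D hx H j b (ih hb)
      have h3 : j • b ∈ m ^ (j + 1) := by
        have := Ideal.sub_mem _ h1 h2
        rwa [sub_sub_cancel] at this
      have hj0 : (j : K) ≠ 0 := Nat.cast_ne_zero.mpr (by omega)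
      have h4 : b = ((j : K)⁻¹) • (j • b) := by
        rw [← Nat.cast_smul_eq_nsmul K j b, smul_smul, inv_mul_cancel₀ hj0, one_smul]
      rw [h4]
      exact Submodule.smul_of_tower_mem _ _ h3

end Euler

section Nil

variable {K : Type u} [Field K] [CharZero K] {B : Type v} [CommRing B] [Algebra K B]

/-- In characteristic zero the nilradical is stable under derivations. -/
theorem derivation_mem_nilradical (D : Derivation K B B) {y : B} (hy : y ∈ nilradical B) :
    D y ∈ nilradical B := by
  obtain ⟨n, hn⟩ := (mem_nilradical.mp hy : IsNilpotent y)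
  -- invariant: y^a * (D y)^b = 0
  have key : ∀ t a : ℕ, a + t = n → ∃ b : ℕ, y ^ a * (D y) ^ b = 0 := by
    intro t
    induction t with
    | zero =>
      intro a ha
      have : a = n := by omega
      subst this
      exact ⟨0, by rw [hn, zero_mul]⟩
    | succ t ih =>
      intro a ha
      obtain ⟨b, hb⟩ := ih (a + 1) (by omega)
      refine ⟨2 * b + 1, ?_⟩
      have h1 := congrArg D hb
      have hp : D (y ^ (a + 1)) = (a + 1) • (y ^ a * D y) := by
        have := Derivation.leibniz_pow D y (a + 1)
        simpa [smul_eq_mul] using this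
      rw [map_zero, Derivation.leibniz, hp, smul_eq_mul, smul_eq_mul] at h1
      have h2 := congrArg (fun z => z * (D y) ^ b) h1
      simp only [zero_mul, add_mul] at h2
      have h3 : y ^ (a + 1) * D ((D y) ^ b) * (D y) ^ b = 0 := by
        calc y ^ (a + 1) * D ((D y) ^ b) * (D y) ^ b
            = D ((D y) ^ b) * (y ^ (a + 1) * (D y) ^ b) := by ring
          _ = 0 := by rw [hb, mul_zero]
      rw [h3, zero_add] at h2
      have h4 : (D y) ^ b * ((a + 1) • (y ^ a * D y)) * (D y) ^ b =
          (a + 1) • (y ^ a * (D y) ^ (2 * b + 1)) := by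
        rw [mul_smul_comm, smul_mul_assoc]
        congr 1
        ring
      rw [h4] at h2
      have hne : ((a + 1 : ℕ) : K) ≠ 0 := Nat.cast_ne_zero.mpr (Nat.succ_ne_zero a)
      have h5 : y ^ a * (D y) ^ (2 * b + 1) =
          (((a + 1 : ℕ) : K))⁻¹ • ((a + 1) • (y ^ a * (D y) ^ (2 * b + 1))) := by
        rw [← Nat.cast_smul_eq_nsmul K (a + 1), smul_smul, inv_mul_cancel₀ hne, one_smul]
      rw [h5, h2, smul_zero]
  obtain ⟨b, hb⟩ := key n 0 (Nat.zero_add n)
  rw [pow_zero, one_mul] at hb
  exact mem_nilradical.mpr ⟨b, hb⟩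

end Nil

section Main

variable {K : Type u} [Field K] [CharZero K] {B : Type v} [CommRing B] [Algebra K B]
variable [IsNoetherianRing B] (e : B →ₐ[K] K)

/-- Local form of Cartier's theorem: if every tangent vector at the point `e` extends to a vector
field, then the nilradical vanishes in a neighbourhood of `e`. -/
theorem exists_annihilator_nilradical
    (h : ∀ ξ : B →ₗ[K] K, IsPtDer e ξ → ∃ D : Derivation K B B, ∀ b, e (D b) = ξ b) :
    ∃ s : B, e s = 1 ∧ ∀ y ∈ nilradical B, s * y = 0 := by
  classical
  obtain ⟨n, x, ξ, hx, hξ, hdual⟩ := exists_dual_family e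
  choose D hD using fun i => h (ξ i) (hξ i)
  set m := RingHom.ker (e : B →+* K) with hm
  have hx' : ∀ i, x i ∈ m := hx
  have H : ∀ b ∈ m, eulerOp x D b - b ∈ m ^ 2 := by
    intro b hb
    have h1 : eulerOp x D b - b =
        ∑ i, x i * (D i b - ξ i b • (1 : B)) - (b - ∑ i, ξ i b • x i) := by
      simp only [eulerOp, mul_sub, Finset.sum_sub_distrib, mul_smul_comm, mul_one]
      ring
    rw [h1]
    refine Ideal.sub_mem _ (Ideal.sum_mem _ (fun i _ => ?_)) (hdual b hb)
    rw [pow_two]
    refine Ideal.mul_mem_mul (hx i) ?_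
    rw [hm, RingHom.mem_ker]
    change e (D i b - ξ i b • (1 : B)) = 0
    rw [map_sub, map_smul, map_one, hD]
    simp
  have hNm : nilradical B ≤ m := by
    intro y hy
    obtain ⟨k, hk⟩ := (mem_nilradical.mp hy : IsNilpotent y)
    rw [hm, RingHom.mem_ker]
    have : (e y) ^ k = 0 := by
      change (e : B →+* K) y ^ k = 0
      rw [← map_pow, hk, map_zero]
    exact pow_eq_zero_iff (n := k) (fun h0 => by subst h0; simp at this) |>.mp this
  have hle : ∀ j, nilradical B ≤ m ^ j :=
    le_pow_of_stable m x D hx' H (nilradical B) hNm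
      (fun i b hb => derivation_mem_nilradical (D i) hb)
  -- Krull intersection, elementwise
  have hkr : ∀ y ∈ nilradical B, ∃ r ∈ m, r * y = y := by
    intro y hy
    have h1 : y ∈ (⨅ i : ℕ, m ^ i • ⊤ : Submodule B B) := by
      rw [Submodule.mem_iInf]
      intro i
      rw [Ideal.smul_eq_mul, Ideal.mul_top]
      exact hle i hy
    obtain ⟨r, hr⟩ := (Ideal.mem_iInf_smul_pow_eq_bot_iff m (M := B) y).mp h1
    exact ⟨r, r.2, hr⟩
  obtain ⟨S, hS⟩ := (IsNoetherian.noetherian (nilradical B) : (nilradical B).FG)
  have hSn : ∀ y ∈ S, y ∈ nilradical B := fun y hy => hS ▸ Ideal.subset_span hy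
  choose! r hr using hkr
  refine ⟨∏ y ∈ S, (1 - r y), ?_, ?_⟩
  · rw [map_prod]
    apply Finset.prod_eq_one
    intro y hy
    have : e (r y) = 0 := (hr y (hSn y hy)).1
    rw [map_sub, map_one, this, sub_zero]
  · intro y hy
    rw [← hS] at hy
    refine Submodule.span_induction (p := fun y _ => (∏ y ∈ S, (1 - r y)) * y = 0) ?_ ?_ ?_ ?_ hy
    · intro z hz
      have hz' : z ∈ S := hz
      rw [← Finset.mul_prod_erase S _ hz', mul_comm (1 - r z), mul_assoc, sub_mul, one_mul,
        (hr z (hSn z hz')).2, sub_self, mul_zero]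
    · rw [mul_zero]
    · intro a b _ _ ha hb
      rw [mul_add, ha, hb, add_zero]
    · intro a b _ hb
      rw [smul_eq_mul, mul_left_comm, hb, mul_zero]

end Main

open TrivSqZeroExt

section Eps

variable {K : Type u} [CommRing K]
variable {R : Type v} [CommRing R] [Algebra K R] {R' : Type w} [CommRing R'] [Algebra K R']

/-- Dual numbers over `R`. -/
abbrev Eps (R : Type v) [CommRing R] := TrivSqZeroExt R R

/-- Functoriality of dual numbers. -/
def epsMap (f : R →ₐ[K] R') : Eps R →ₐ[K] Eps R' where
  toFun z := inl (f z.fst) + inr (f z.snd)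
  map_one' := by ext <;> simp
  map_mul' x y := by
    ext <;> simp [mul_comm]
  map_zero' := by ext <;> simp
  map_add' x y := by
    ext <;> simp
  commutes' r := by
    ext <;> simp [algebraMap_eq_inl']

@[simp] theorem fst_epsMap (f : R →ₐ[K] R') (z : Eps R) : (epsMap f z).fst = f z.fst := by
  simp [epsMap]

@[simp] theorem snd_epsMap (f : R →ₐ[K] R') (z : Eps R) : (epsMap f z).snd = f z.snd := by
  simp [epsMap]

end Eps

section Tau

variable {K : Type u} [Field K] {B : Type v} [CommRing B] [Algebra K B]

theorem IsPtDer.map_one' {e : B →ₐ[K] K} {ξ : B →ₗ[K] K} (hξ : IsPtDer e ξ) : ξ 1 = 0 := by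
  have := hξ 1 1
  rw [mul_one, _root_.map_one e, one_mul, mul_one] at this
  exact left_eq_add.mp this

/-- The dual-number point attached to a tangent vector. -/
def tauHom (e : B →ₐ[K] K) (ξ : B →ₗ[K] K) (hξ : IsPtDer e ξ) : B →ₐ[K] Eps K where
  toFun b := inl (e b) + inr (ξ b)
  map_one' := by
    have h1 : ξ 1 = 0 := hξ.map_one'
    ext <;> simp [h1]
  map_mul' x y := by
    ext
    · simp
    · simp [hξ x y, mul_comm]
  map_zero' := by ext <;> simp
  map_add' x y := by ext <;> simp
  commutes' r := by
    have h1 : ξ (algebraMap K B r) = 0 := by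
      have h2 : ξ 1 = 0 := hξ.map_one'
      rw [Algebra.algebraMap_eq_smul_one, map_smul, h2, smul_zero]
    ext <;> simp [algebraMap_eq_inl', h1]

@[simp] theorem fst_tauHom (e : B →ₐ[K] K) (ξ : B →ₗ[K] K) (hξ : IsPtDer e ξ) (b : B) :
    (tauHom e ξ hξ b).fst = e b := by simp [tauHom]

@[simp] theorem snd_tauHom (e : B →ₐ[K] K) (ξ : B →ₗ[K] K) (hξ : IsPtDer e ξ) (b : B) :
    (tauHom e ξ hξ b).snd = ξ b := by simp [tauHom]

/-- The derivation attached to an infinitesimal automorphism. -/
def derOfHom (φ : B →ₐ[K] Eps B) (hφ : ∀ b, (φ b).fst = b) : Derivation K B B :=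
  Derivation.mk' ((sndHom B B).restrictScalars K ∘ₗ φ.toLinearMap) (by
    intro a b
    simp only [LinearMap.coe_comp, LinearMap.coe_restrictScalars, Function.comp_apply,
      AlgHom.toLinearMap_apply, sndHom_apply, map_mul, snd_mul, hφ, smul_eq_mul,
      MulOpposite.smul_eq_mul_unop, MulOpposite.unop_op]
    ring)

@[simp] theorem derOfHom_apply (φ : B →ₐ[K] Eps B) (hφ : ∀ b, (φ b).fst = b) (b : B) :
    derOfHom φ hφ b = (φ b).snd := rfl

end Tau

open CategoryTheory MonoidalCategory CartesianMonoidalCategory MonObj AlgebraicGeometry Limits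
open TrivSqZeroExt

section Pts

variable (K : Type u) [Field K]

/-- `Spec R` as an object over `Spec K`. -/
noncomputable abbrev pt (R : Type u) [CommRing R] [Algebra K R] : Over (Spec (CommRingCat.of K)) :=
  Over.mk (Spec.map (CommRingCat.ofHom (algebraMap K R)))

variable {R R' R'' : Type u} [CommRing R] [CommRing R'] [CommRing R''] [Algebra K R]
  [Algebra K R'] [Algebra K R'']

/-- The map `Spec R' → Spec R` over `Spec K` induced by an algebra map `R → R'`. -/
noncomputable def ptMap (f : R →ₐ[K] R') : pt K R' ⟶ pt K R :=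
  Over.homMk (Spec.map (CommRingCat.ofHom (f : R →+* R'))) (by
    simp only [Over.mk_hom]
    rw [← Spec.map_comp, ← CommRingCat.ofHom_comp, AlgHom.comp_algebraMap])

@[simp] theorem ptMap_left (f : R →ₐ[K] R') :
    (ptMap K f).left = Spec.map (CommRingCat.ofHom (f : R →+* R')) := rfl

theorem ptMap_comp (f : R →ₐ[K] R') (g : R' →ₐ[K] R'') :
    ptMap K (g.comp f) = ptMap K g ≫ ptMap K f := by
  ext1
  simp only [ptMap_left, Over.comp_left]
  rw [← Spec.map_comp, ← CommRingCat.ofHom_comp]
  rfl

theorem ptMap_id : ptMap K (AlgHom.id K R) = 𝟙 (pt K R) := by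
  ext1
  simp only [ptMap_left, Over.id_left]
  exact Spec.map_id _

end Pts

open CategoryTheory MonoidalCategory CartesianMonoidalCategory MonObj AlgebraicGeometry Limits
open TrivSqZeroExt

section Main

variable {K : Type u} [Field K] (G : Over (Spec (CommRingCat.of K))) [GrpObj G]
variable {B : Type u} [CommRing B] [Algebra K B]
variable (i : Spec (CommRingCat.of B) ⟶ G.left) [IsOpenImmersion i]
variable (hi : i ≫ G.hom = Spec.map (CommRingCat.ofHom (algebraMap K B)))
variable (e : B →ₐ[K] K)
variable (he : Spec.map (CommRingCat.ofHom (e : B →+* K)) ≫ i = η[G].left)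

/-- The universal point of the affine open. -/
noncomputable def uPt : pt K B ⟶ G := Over.homMk i hi

include he in
theorem ptMap_e_uPt : ptMap K e ≫ uPt G i hi = toUnit _ ≫ η[G] := by
  ext1
  simp only [Over.comp_left, ptMap_left, uPt, Over.homMk_left, he, Over.toUnit_left,
    Over.mk_hom]
  rw [Algebra.algebraMap_self, CommRingCat.ofHom_id, Spec.map_id]
  exact (Category.id_comp _).symm

include he in
theorem ptMap_ofId_e_uPt {R : Type u} [CommRing R] [Algebra K R] :
    ptMap K ((Algebra.ofId K R).comp e) ≫ uPt G i hi = 1 := by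
  rw [ptMap_comp, Category.assoc, ptMap_e_uPt G i hi e he, Hom.one_def, ← Category.assoc]
  congr 1
  exact toUnit_unique _ _

theorem spec_fst_surjective :
    Function.Surjective (Spec.map (CommRingCat.ofHom ((fstHom K B B : Eps B →ₐ[K] B) :
      Eps B →+* B))).base := by
  intro z
  have hsurj : Function.Surjective ((fstHom K B B : Eps B →ₐ[K] B) : Eps B →+* B) := by
    intro b
    exact ⟨inl b, by simp⟩
  have hrange := range_comap_of_surjective B
    ((fstHom K B B : Eps B →ₐ[K] B) : Eps B →+* B) hsurj
  have huniv : PrimeSpectrum.zeroLocus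
      (RingHom.ker ((fstHom K B B : Eps B →ₐ[K] B) : Eps B →+* B) : Set (Eps B)) = Set.univ := by
    rw [PrimeSpectrum.zeroLocus_eq_univ_iff]
    intro x hx
    have hx0 : x.fst = 0 := by simpa using hx
    refine mem_nilradical.mpr ⟨2, ?_⟩
    ext <;> simp [pow_two, hx0]
  have hz : z ∈ Set.range (PrimeSpectrum.comap
      ((fstHom K B B : Eps B →ₐ[K] B) : Eps B →+* B)) := by
    rw [hrange, huniv]
    trivial
  obtain ⟨w, hw⟩ := hz
  exact ⟨w, hw⟩

include hi he in
/-- Tangent vectors at the identity of a group scheme extend to vector fields on an affine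
neighbourhood (right translation by the dual-number point). -/
theorem exists_derivation_of_grpObj (ξ : B →ₗ[K] K) (hξ : IsPtDer e ξ) :
    ∃ D : Derivation K B B, ∀ b, e (D b) = ξ b := by
  set u := uPt G i hi with hu
  set τ := tauHom e ξ hξ with hτ
  set t : pt K (Eps K) ⟶ G := ptMap K τ ≫ u with ht
  set inc : B →ₐ[K] Eps B := inlAlgHom K B B with hinc
  set jB : Eps K →ₐ[K] Eps B := epsMap (Algebra.ofId K B) with hjB
  set pr : Eps B →ₐ[K] B := fstHom K B B with hpr
  set v : pt K (Eps B) ⟶ G := (ptMap K inc ≫ u) * (ptMap K jB ≫ t) with hv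
  -- restriction of `v` along `ε ↦ 0` is `u`
  have hprv : ptMap K pr ≫ v = u := by
    rw [hv, MonObj.comp_mul, ← Category.assoc, ← ptMap_comp, ht, ← Category.assoc,
      ← Category.assoc, ← ptMap_comp, ← ptMap_comp]
    have h1 : pr.comp inc = AlgHom.id K B := by
      ext b
      simp [hpr, hinc]
    have h2 : (pr.comp jB).comp τ = (Algebra.ofId K B).comp e := by
      ext b
      simp [hpr, hjB, hτ, Algebra.ofId_apply]
    rw [h1, h2, ptMap_id, Category.id_comp, ptMap_ofId_e_uPt G i hi e he, _root_.mul_one]
  -- `v` factors through the open immersion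
  have hrange : Set.range v.left.base ⊆ Set.range i.base := by
    rintro _ ⟨z, rfl⟩
    obtain ⟨w, rfl⟩ := spec_fst_surjective (K := K) (B := B) z
    have h3 := congrArg (fun f : pt K B ⟶ G => f.left.base w) hprv
    simp only [Over.comp_left, ptMap_left] at h3
    exact ⟨w, h3.symm⟩
  have hul : u.left = i := rfl
  let lft := IsOpenImmersion.lift i v.left hrange
  have hlft : lft ≫ i = v.left := IsOpenImmersion.lift_fac _ _ _
  set φ₀ : CommRingCat.of B ⟶ CommRingCat.of (Eps B) := Spec.preimage lft with hφ₀
  have hφ₀' : Spec.map φ₀ = lft := Spec.map_preimage _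
  have halg : CommRingCat.ofHom (algebraMap K B) ≫ φ₀ =
      CommRingCat.ofHom (algebraMap K (Eps B)) := by
    apply Spec.map_injective
    rw [Spec.map_comp, hφ₀', ← hi, ← Category.assoc, hlft]
    exact Over.w v
  let φ : B →ₐ[K] Eps B :=
    { φ₀.hom with
      commutes' := fun r => by
        have := congrArg (fun f => f.hom r) halg
        simpa using this }
  have hφfst : ∀ b, (φ b).fst = b := by
    have h1 : φ₀ ≫ CommRingCat.ofHom (pr : Eps B →+* B) = 𝟙 _ := by
      apply Spec.map_injective
      rw [Spec.map_comp, hφ₀', Spec.map_id]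
      rw [← cancel_mono i, Category.assoc, hlft, Category.id_comp]
      have := congrArg (fun f : pt K B ⟶ G => f.left) hprv
      simp only [Over.comp_left, ptMap_left, hul] at this
      exact this
    intro b
    have := congrArg (fun f => f.hom b) h1
    simp only [CommRingCat.hom_comp, CommRingCat.hom_ofHom, RingHom.coe_comp, Function.comp_apply,
      CommRingCat.hom_id, RingHom.id_apply] at this
    exact this
  have hφe : ∀ b, epsMap e (φ b) = τ b := by
    have hev : ptMap K (epsMap e) ≫ v = t := by
      rw [hv, MonObj.comp_mul, ← Category.assoc, ← ptMap_comp, ← Category.assoc, ← ptMap_comp]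
      have h1 : (epsMap e).comp inc = (Algebra.ofId K (Eps K)).comp e := by
        ext b <;> simp [hinc, Algebra.ofId_apply, algebraMap_eq_inl']
      have h2 : (epsMap e).comp jB = AlgHom.id K (Eps K) := by
        ext <;> simp [hjB, Algebra.ofId_apply]
      rw [h1, h2, ptMap_id, Category.id_comp, ptMap_ofId_e_uPt G i hi e he, _root_.one_mul]
    have h3 : φ₀ ≫ CommRingCat.ofHom ((epsMap e : Eps B →ₐ[K] Eps K) : Eps B →+* Eps K) =
        CommRingCat.ofHom (τ : B →+* Eps K) := by
      apply Spec.map_injective
      rw [Spec.map_comp, hφ₀', ← cancel_mono i, Category.assoc, hlft]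
      have := congrArg (fun f : pt K (Eps K) ⟶ G => f.left) hev
      simp only [Over.comp_left, ptMap_left, ht, hul] at this
      exact this
    intro b
    have := congrArg (fun f => f.hom b) h3
    simp only [CommRingCat.hom_comp, CommRingCat.hom_ofHom, RingHom.coe_comp,
      Function.comp_apply] at this
    exact this
  refine ⟨derOfHom φ hφfst, fun b => ?_⟩
  rw [derOfHom_apply]
  have := congrArg TrivSqZeroExt.snd (hφe b)
  simpa [hτ] using this

end Main

section RingLemma

variable {B : Type u} [CommRing B]

/-- If `s` kills the nilradical then the localization away from `s` is reduced. -/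
theorem isReduced_away_of_annihilates (s : B) (hs : ∀ y ∈ nilradical B, s * y = 0) :
    IsReduced (Localization.Away s) := by
  constructor
  intro z hz
  obtain ⟨⟨b, t⟩, rfl⟩ := IsLocalization.mk'_surjective (Submonoid.powers s) z
  obtain ⟨n, hn⟩ := hz
  rw [← IsLocalization.mk'_pow, IsLocalization.mk'_eq_zero_iff] at hn
  obtain ⟨⟨_, j, rfl⟩, hj⟩ := hn
  simp only at hj
  -- s^j * b^n = 0, so s*b is nilpotent
  have hnil : s * b ∈ nilradical B := by
    refine mem_nilradical.mpr ⟨n + j, ?_⟩
    rw [mul_pow, pow_add, pow_add]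
    calc s ^ n * s ^ j * (b ^ n * b ^ j) = (s ^ j * b ^ n) * (s ^ n * b ^ j) := by ring
      _ = 0 := by rw [hj, zero_mul]
  have h2 := hs _ hnil
  rw [IsLocalization.mk'_eq_zero_iff]
  refine ⟨⟨s ^ 2, 2, rfl⟩, ?_⟩
  simp only
  rw [pow_two, _root_.mul_assoc]
  exact h2

end RingLemma

section Local

open CategoryTheory MonoidalCategory CartesianMonoidalCategory MonObj AlgebraicGeometry Limits

variable {K : Type u} [Field K] [CharZero K] (G : Over (Spec (CommRingCat.of K))) [GrpObj G]
variable [LocallyOfFiniteType G.hom]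

/-- A group scheme locally of finite type over a field of characteristic zero has a reduced open
neighbourhood of the identity. -/
theorem exists_reduced_nhd_one :
    ∃ (V : Scheme.{u}) (j : V ⟶ G.left), IsOpenImmersion j ∧ IsReduced V ∧
      η[G].left.base (IsLocalRing.closedPoint K) ∈ Set.range j.base := by
  set e₀ : G.left := η[G].left.base (IsLocalRing.closedPoint K) with he₀
  obtain ⟨_, ⟨U, hU, rfl⟩, heU, -⟩ :=
    G.left.isBasis_affineOpens.exists_subset_of_mem_open (Set.mem_univ e₀) isOpen_univ
  haveI : IsLocallyNoetherian G.left := LocallyOfFiniteType.isLocallyNoetherian G.hom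
  haveI : IsNoetherianRing Γ(G.left, U) := IsLocallyNoetherian.component_noetherian ⟨U, hU⟩
  -- the coordinate ring of `U`, as a type
  let B : Type u := Γ(G.left, U)
  let i : Spec (CommRingCat.of B) ⟶ G.left := hU.fromSpec
  haveI : IsOpenImmersion i := inferInstanceAs (IsOpenImmersion hU.fromSpec)
  let ψ : CommRingCat.of K ⟶ CommRingCat.of B := Spec.preimage (i ≫ G.hom)
  letI : Algebra K B := ψ.hom.toAlgebra
  have hi : i ≫ G.hom = Spec.map (CommRingCat.ofHom (algebraMap K B)) := by
    have : CommRingCat.ofHom (algebraMap K B) = ψ := rfl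
    rw [this]
    exact (Spec.map_preimage _).symm
  have hrange : Set.range η[G].left.base ⊆ Set.range i.base := by
    rintro _ ⟨x, rfl⟩
    have hx : x = IsLocalRing.closedPoint K :=
      Subsingleton.elim (α := PrimeSpectrum K) _ _
    rw [hx]
    have : Set.range i.base = U := hU.range_fromSpec
    rw [this]
    exact heU
  let l := IsOpenImmersion.lift i η[G].left hrange
  have hl : l ≫ i = η[G].left := IsOpenImmersion.lift_fac _ _ _
  let e₁ : CommRingCat.of B ⟶ CommRingCat.of K := Spec.preimage l
  have he₁ : Spec.map e₁ = l := Spec.map_preimage _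
  have hcomm : ψ ≫ e₁ = 𝟙 _ := by
    apply Spec.map_injective
    rw [Spec.map_comp, he₁, Spec.map_preimage, ← Category.assoc, hl, Spec.map_id]
    exact Over.w η[G]
  let e : B →ₐ[K] K :=
    { e₁.hom with
      commutes' := fun r => by
        have := congrArg (fun f => f.hom r) hcomm
        simp only [CommRingCat.hom_comp, RingHom.coe_comp, Function.comp_apply,
          CommRingCat.hom_id, RingHom.id_apply] at this
        exact this }
  have he : Spec.map (CommRingCat.ofHom (e : B →+* K)) ≫ i = η[G].left := by
    have : CommRingCat.ofHom (e : B →+* K) = e₁ := rfl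
    rw [this, he₁, hl]
  obtain ⟨s, hs1, hs⟩ := exists_annihilator_nilradical e
    (fun ξ hξ => exists_derivation_of_grpObj G i hi e he ξ hξ)
  have hred := isReduced_away_of_annihilates s hs
  refine ⟨Spec (CommRingCat.of (Localization.Away s)),
    Spec.map (CommRingCat.ofHom (algebraMap B (Localization.Away s))) ≫ i, inferInstance,
    inferInstance, ?_⟩
  have h1 : e₀ = i.base (l.base (IsLocalRing.closedPoint K)) := by
    rw [he₀, ← hl]
    rfl
  rw [h1]
  have h2 : l.base (IsLocalRing.closedPoint K) ∈
      Set.range (Spec.map (CommRingCat.ofHom (algebraMap B (Localization.Away s)))).base := by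
    have h3 : Set.range (Spec.map (CommRingCat.ofHom (algebraMap B (Localization.Away s)))).base =
        (PrimeSpectrum.basicOpen s : Set (PrimeSpectrum B)) :=
      PrimeSpectrum.localization_away_comap_range _ s
    rw [h3, ← he₁]
    change s ∉ (PrimeSpectrum.comap e₁.hom (IsLocalRing.closedPoint K)).asIdeal
    rw [PrimeSpectrum.comap_asIdeal, Ideal.mem_comap]
    change ¬ (e s ∈ (IsLocalRing.closedPoint K).asIdeal)
    rw [hs1]
    exact (IsLocalRing.closedPoint K).2.one_notMem
  obtain ⟨w, hw⟩ := h2
  refine ⟨w, ?_⟩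
  rw [← hw]
  rfl

end Local

section Homog

open CategoryTheory MonoidalCategory CartesianMonoidalCategory MonObj AlgebraicGeometry Limits

variable {K : Type u} [Field K] (G : Over (Spec (CommRingCat.of K))) [GrpObj G]

theorem one_comp_mulRight (x' : 𝟙_ (Over (Spec (CommRingCat.of K))) ⟶ G) :
    η[G] ≫ (GrpObj.mulRight x').hom = x' := by
  rw [GrpObj.mulRight_hom, ← Hom.mul_def, MonObj.comp_mul, Category.comp_id, ← Category.assoc,
    toUnit_unique (η[G] ≫ toUnit G) (𝟙 _), Category.id_comp, MonObj.one_eq_one, _root_.one_mul]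

variable [CharZero K] [LocallyOfFiniteType G.hom]

/-- A group scheme locally of finite type over an algebraically closed field of characteristic
zero is reduced. -/
theorem isReduced_of_isAlgClosed [IsAlgClosed K] : IsReduced G.left := by
  obtain ⟨V, j, hj, hV, w₀, hw₀⟩ := exists_reduced_nhd_one G
  have := LocallyOfFiniteType.jacobsonSpace G.hom
  have key : ∀ x : closedPoints G.left, ∃ α : G.left ≅ G.left,
      α.hom.base (η[G].left.base (IsLocalRing.closedPoint K)) = x.1 := by
    intro x
    let p := (pointEquivClosedPoint G.hom).symm x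
    let x' : 𝟙_ (Over (Spec (CommRingCat.of K))) ⟶ G := Over.homMk p.1 p.2
    refine ⟨(Over.forget _).mapIso (GrpObj.mulRight x'), ?_⟩
    have h1 := one_comp_mulRight G x'
    have h2 := congrArg (fun f : 𝟙_ (Over (Spec (CommRingCat.of K))) ⟶ G =>
      f.left.base (IsLocalRing.closedPoint K)) h1
    simp only [Over.comp_left] at h2
    have h3 : x'.left.base (IsLocalRing.closedPoint K) = x.1 := by
      have := (pointEquivClosedPoint G.hom).apply_symm_apply x
      exact congrArg Subtype.val this
    rw [← h3, ← h2]
    rfl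
  choose α hα using key
  have hcov : ∀ y : G.left, ∃ (x : closedPoints G.left) (v : V), (j ≫ (α x).hom).base v = y := by
    intro y
    by_contra hy
    push_neg at hy
    -- the union of the translates
    let W : Set G.left := ⋃ x : closedPoints G.left, Set.range (j ≫ (α x).hom).base
    have hWopen : IsOpen W := isOpen_iUnion (fun x => (j ≫ (α x).hom).isOpenEmbedding.isOpen_range)
    have hyW : y ∉ W := by
      intro h
      obtain ⟨x, v, hv⟩ := Set.mem_iUnion.mp h
      exact hy x v hv
    obtain ⟨z, hzW, hzc⟩ := nonempty_inter_closedPoints (X := G.left) (Z := Wᶜ) ⟨y, hyW⟩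
      hWopen.isClosed_compl.isLocallyClosed
    apply hzW
    refine Set.mem_iUnion.mpr ⟨⟨z, hzc⟩, w₀, ?_⟩
    rw [Scheme.Hom.comp_base, TopCat.comp_app, hw₀, hα]
  let 𝒰 : G.left.OpenCover := Scheme.Cover.mkOfCovers (closedPoints G.left) (fun _ => V)
    (fun x => j ≫ (α x).hom) hcov (fun x => inferInstance)
  haveI : ∀ i, IsReduced (𝒰.X i) := fun _ => hV
  exact IsReduced.of_openCover G.left 𝒰

end Homog

section Final

open CategoryTheory MonoidalCategory CartesianMonoidalCategory MonObj AlgebraicGeometry Limits

variable {K : Type u} [Field K] [CharZero K] (G : Over (Spec (CommRingCat.of K))) [GrpObj G]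
variable [LocallyOfFiniteType G.hom]

/-- A group scheme locally of finite type over a field of characteristic zero is reduced. -/
theorem isReduced_of_charZero : IsReduced G.left := by
  let Ω : Type u := AlgebraicClosure K
  let g : Spec (CommRingCat.of Ω) ⟶ Spec (CommRingCat.of K) :=
    Spec.map (CommRingCat.ofHom <| algebraMap K Ω)
  haveI : CharZero Ω := charZero_of_injective_algebraMap (algebraMap K Ω).injective
  letI : GrpObj (Over.mk G.hom) := ‹GrpObj G›
  letI : GrpObj (Over.mk (pullback.snd G.hom g)) := Over.grpObjMkPullbackSnd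
  haveI : LocallyOfFiniteType (Over.mk (pullback.snd G.hom g)).hom :=
    inferInstanceAs (LocallyOfFiniteType (pullback.snd G.hom g))
  have hred : IsReduced (pullback G.hom g) :=
    isReduced_of_isAlgClosed (K := Ω) (Over.mk (pullback.snd G.hom g))
  haveI : IsSchemeTheoreticallyDominant g := IsSchemeTheoreticallyDominant.of_isDominant g
  exact IsSchemeTheoreticallyDominant.isReduced (pullback.fst G.hom g)

/-- A group scheme locally of finite type over a field of characteristic zero is geometrically
reduced. -/
theorem geometricallyReduced_of_charZero : GeometricallyReduced G.hom := by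
  rw [geometricallyReduced_iff, geometrically_iff_of_commRing_of_isClosedUnderIsomorphisms]
  intro L _ _
  haveI : CharZero L := charZero_of_injective_algebraMap (algebraMap K L).injective
  let g : Spec (CommRingCat.of L) ⟶ Spec (CommRingCat.of K) :=
    Spec.map (CommRingCat.ofHom <| algebraMap K L)
  letI : GrpObj (Over.mk G.hom) := ‹GrpObj G›
  letI : GrpObj (Over.mk (pullback.snd G.hom g)) := Over.grpObjMkPullbackSnd
  haveI : LocallyOfFiniteType (Over.mk (pullback.snd G.hom g)).hom :=
    inferInstanceAs (LocallyOfFiniteType (pullback.snd G.hom g))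
  exact isReduced_of_charZero (K := L) (Over.mk (pullback.snd G.hom g))

/-- Cartier's theorem: a group scheme locally of finite type over a field of characteristic zero
is smooth. -/
theorem smooth_of_charZero : Smooth G.hom := by
  haveI := geometricallyReduced_of_charZero G
  letI : GrpObj (Over.mk G.hom) := ‹GrpObj G›
  exact smooth_of_grpObj G.hom

end Final

end Groth.Agent.Lib.Helper25.Cart
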