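import Mathlib.RingTheory.Jacobson.Ring
import Mathlib.FieldTheory.IsAlgClosed.Basic
import Mathlib.RingTheory.FiniteType

/-!
# Rational points of finitely generated algebras over an algebraically closed field (helper25)
-/

set_option autoImplicit false
universe u v

namespace Groth.Agent.Lib.Helper25

/-- Weak Nullstellensatz: a proper ideal of a finitely generated algebra over an algebraically
closed field is contained in the kernel of a `k`-point. -/
theorem exists_point_vanishing_on {k : Type u} [Field k] [IsAlgClosed k]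
    {R : Type v} [CommRing R] [Algebra k R] [Algebra.FiniteType k R] (Q : Ideal R) (hQ : Q ≠ ⊤) :
    ∃ x : R →ₐ[k] k, ∀ f ∈ Q, x f = 0 := by
  obtain ⟨M, hM, hQM⟩ := Ideal.exists_le_maximal Q hQ
  letI : Field (R ⧸ M) := Ideal.Quotient.field M
  haveI : Algebra.FiniteType k (R ⧸ M) :=
    Algebra.FiniteType.of_surjective (Ideal.Quotient.mkₐ k M) (Ideal.Quotient.mkₐ_surjective k M)
  haveI : Module.Finite k (R ⧸ M) := finite_of_finite_type_of_isJacobsonRing k (R ⧸ M)
  haveI : Algebra.IsIntegral k (R ⧸ M) := Algebra.IsIntegral.of_finite k (R ⧸ M)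
  have hbij : Function.Bijective (algebraMap k (R ⧸ M)) :=
    IsAlgClosed.algebraMap_bijective_of_isIntegral
  let e : k ≃ₐ[k] (R ⧸ M) := AlgEquiv.ofBijective (Algebra.ofId k (R ⧸ M)) hbij
  refine ⟨(e.symm : (R ⧸ M) →ₐ[k] k).comp (Ideal.Quotient.mkₐ k M), ?_⟩
  intro f hf
  have : Ideal.Quotient.mkₐ k M f = 0 := by
    rw [Ideal.Quotient.mkₐ_eq_mk, Ideal.Quotient.eq_zero_iff_mem]
    exact hQM hf
  rw [AlgHom.comp_apply, this, map_zero]

end Groth.Agent.Lib.Helper25
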