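import Groth.Agent.Lib.Helper25UnipLie
import Groth.Agent.Lib.Helper25Cartier
import Groth.Agent.Lib.Helper25Points
import Mathlib.RingTheory.HopfAlgebra.TensorProduct
import Mathlib.RingTheory.FiniteStability
import Mathlib.FieldTheory.IsAlgClosed.AlgebraicClosure
import Mathlib.RingTheory.Jacobson.Ring
import Mathlib.RingTheory.HopfAlgebra.Quotient

/-!
# helper25 library: Cartier's theorem for Hopf algebras

`isReduced_of_charZero_hopf`: a finitely generated commutative Hopf algebra over a field of
characteristic zero is reduced (universe-polymorphic Hopf-algebra version of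
`Cart.smooth_of_charZero`), via the ring-level lemma `Cart.exists_annihilator_nilradical` applied to
the invariant derivations `T ξ`, translation by points over the algebraic closure, and base
change.  Also `le_of_forall_point`: radical ideals of finitely generated algebras are determined by
their points in the algebraic closure.
-/

set_option autoImplicit false
universe u v

namespace Groth.Agent.Lib.Helper25.CartH

open TensorProduct HopfRep Groth.Agent.Lib.Helper25 Groth.Agent.Lib.Helper25.UL

section Local

variable {k : Type u} [Field k] [CharZero k] {A : Type v} [CommRing A] [Bialgebra k A]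

/-- The invariant derivation attached to an `ε`-derivation. -/
noncomputable def derT (ξ : A →ₗ[k] k) (hξ : IsEpsDer ξ) : Derivation k A A :=
  Derivation.mk' (T (V := A) ξ) (by
    intro a b
    rw [T_mul_of_isEpsDer hξ, smul_eq_mul, smul_eq_mul, mul_comm b]
    )

theorem exists_annihilator_nilradical_hopf [IsNoetherianRing A] :
    ∃ s : A, CoalgebraStruct.counit (R := k) s = 1 ∧ ∀ y ∈ nilradical A, s * y = 0 := by
  obtain ⟨s, hs1, hs⟩ := Cart.exists_annihilator_nilradical (K := k) (B := A)
    (Bialgebra.counitAlgHom k A) (fun ξ hξ => ⟨derT ξ hξ, fun b => by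
      change CoalgebraStruct.counit (R := k) (T (V := A) ξ b) = ξ b
      exact counit_T_regular' ξ b⟩)
  exact ⟨s, hs1, hs⟩

end Local

section AlgClosed

variable {k : Type u} [Field k] [CharZero k] {A : Type v} [CommRing A] [HopfAlgebra k A]

theorem convPt_antipode_right (g : A →ₐ[k] k) :
    convPt g (g.comp (HopfAlgebra.antipodeAlgHom k A)) =
      (Algebra.ofId k k).comp (Bialgebra.counitAlgHom k A) := by
  have h := mul_inv_cancel (WithConv.toConv g : WithConv (A →ₐ[k] k))
  exact congrArg WithConv.ofConv h

theorem isReduced_of_isAlgClosed_hopf [IsAlgClosed k] [Algebra.FiniteType k A] : IsReduced A := by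
  haveI : IsNoetherianRing A := Algebra.FiniteType.isNoetherianRing k A
  obtain ⟨s, hs1, hs⟩ := exists_annihilator_nilradical_hopf (k := k) (A := A)
  -- the annihilator of the nilradical
  let J : Ideal A := Submodule.annihilator (nilradical A)
  have hJ : J = ⊤ := by
    by_contra hne
    obtain ⟨g, hg⟩ := exists_point_vanishing_on (k := k) J hne
    set u : A →ₐ[k] k := g.comp (HopfAlgebra.antipodeAlgHom k A) with hu
    have hmem : rtrans u s ∈ J := by
      rw [Submodule.mem_annihilator]
      intro y hy
      have hy' : rtrans g y ∈ nilradical A := by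
        obtain ⟨n, hn⟩ := (mem_nilradical.mp hy : IsNilpotent y)
        exact mem_nilradical.mpr ⟨n, by rw [← map_pow, hn, map_zero]⟩
      have h1 : y = rtrans u (rtrans g y) := by
        rw [rtrans_rtrans, convPt_antipode', rtrans_counit]
      rw [smul_eq_mul, h1, ← map_mul, hs _ hy', map_zero]
    have h2 := hg _ hmem
    rw [apply_rtrans, convPt_antipode_right] at h2
    have h3 : ((Algebra.ofId k k).comp (Bialgebra.counitAlgHom k A)) s = 1 := by
      change Algebra.ofId k k (CoalgebraStruct.counit (R := k) s) = 1
      rw [hs1, map_one]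
    rw [h3] at h2
    exact one_ne_zero h2
  have h1 : (1 : A) ∈ J := by rw [hJ]; trivial
  rw [Submodule.mem_annihilator] at h1
  rw [isReduced_iff]
  intro y hy
  have := h1 y (mem_nilradical.mpr hy)
  simpa using this

end AlgClosed

section General

variable {k : Type u} [Field k] [CharZero k] {A : Type v} [CommRing A] [HopfAlgebra k A]

/-- Cartier's theorem for Hopf algebras: a finitely generated commutative Hopf algebra over a field
of characteristic zero is reduced. -/
theorem isReduced_of_charZero_hopf [Algebra.FiniteType k A] : IsReduced A := by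
  let Ω := AlgebraicClosure k
  haveI : CharZero Ω := charZero_of_injective_algebraMap (algebraMap k Ω).injective
  haveI : IsReduced (Ω ⊗[k] A) := isReduced_of_isAlgClosed_hopf (k := Ω) (A := Ω ⊗[k] A)
  exact isReduced_of_injective (Algebra.TensorProduct.includeRight : A →ₐ[k] Ω ⊗[k] A)
    (Algebra.TensorProduct.includeRight_injective (algebraMap k Ω).injective)

end General

section Points

variable {k : Type u} [Field k] {A : Type v} [CommRing A] [Algebra k A] [Algebra.FiniteType k A]

/-- Every maximal ideal of a finitely generated algebra is the kernel of a point with values in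
the algebraic closure. -/
theorem exists_algHom_ker_eq (m : Ideal A) [hm : m.IsMaximal] :
    ∃ g : A →ₐ[k] AlgebraicClosure k, RingHom.ker g = m := by
  letI : Field (A ⧸ m) := Ideal.Quotient.field m
  haveI : Algebra.FiniteType k (A ⧸ m) :=
    Algebra.FiniteType.of_surjective (Ideal.Quotient.mkₐ k m) (Ideal.Quotient.mkₐ_surjective k m)
  haveI : Module.Finite k (A ⧸ m) := finite_of_finite_type_of_isJacobsonRing k (A ⧸ m)
  haveI : Algebra.IsAlgebraic k (A ⧸ m) := Algebra.IsAlgebraic.of_finite k (A ⧸ m)
  let f : (A ⧸ m) →ₐ[k] AlgebraicClosure k := IsAlgClosed.lift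
  refine ⟨f.comp (Ideal.Quotient.mkₐ k m), ?_⟩
  ext a
  rw [RingHom.mem_ker]
  change f (Ideal.Quotient.mk m a) = 0 ↔ a ∈ m
  rw [map_eq_zero_iff f f.toRingHom.injective, Ideal.Quotient.eq_zero_iff_mem]

/-- A radical ideal is determined by its geometric points. -/
theorem le_of_forall_point {J J' : Ideal A} (hJ' : J'.IsRadical)
    (h : ∀ g : A →ₐ[k] AlgebraicClosure k, J' ≤ RingHom.ker g → J ≤ RingHom.ker g) : J ≤ J' := by
  haveI : IsJacobsonRing A := isJacobsonRing_of_finiteType (A := k) (B := A)
  have h1 : J'.jacobson = J' := (isJacobsonRing_iff.mp inferInstance) J' hJ'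
  rw [← h1, Ideal.jacobson]
  refine le_sInf ?_
  rintro m ⟨hJm, hm⟩
  haveI := hm
  obtain ⟨g, hg⟩ := exists_algHom_ker_eq (k := k) m
  have := h g (by rw [hg]; exact hJm)
  rwa [hg] at this

end Points

end Groth.Agent.Lib.Helper25.CartH
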