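import Groth.Agent.Lib.Helper25Reynolds
import Groth.Prelude.Def_GLin
import Mathlib.RingTheory.HopfAlgebra.Basic

/-!
# Comodule algebras: invariants, stable ideals, Reynolds operators (helper25)
-/

set_option autoImplicit false
universe u v w

namespace Groth.Agent.Lib.Helper25

open TensorProduct HopfRep

section MulLemmas

variable {k : Type u} [CommRing k] {A : Type v} [CommRing A] [Algebra k A]
variable {R : Type w} [CommRing R] [Algebra k R]

theorem tmul_one_mul (f : R) (x : R ⊗[k] A) :
    (f ⊗ₜ[k] (1 : A)) * x = (LinearMap.mulLeft k f).rTensor A x := by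
  induction x using TensorProduct.induction_on with
  | zero => simp
  | add x y hx hy => rw [mul_add, hx, hy, map_add]
  | tmul r a => simp [Algebra.TensorProduct.tmul_mul_tmul]

theorem mul_tmul_one (x : R ⊗[k] A) (f : R) :
    x * (f ⊗ₜ[k] (1 : A)) = (LinearMap.mulRight k f).rTensor A x := by
  induction x using TensorProduct.induction_on with
  | zero => simp
  | add x y hx hy => rw [add_mul, hx, hy, map_add]
  | tmul r a => simp [Algebra.TensorProduct.tmul_mul_tmul]

theorem mul_one_tmul (x : R ⊗[k] A) (s : A) :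
    x * ((1 : R) ⊗ₜ[k] s) = (LinearMap.mulRight k s).lTensor R x := by
  induction x using TensorProduct.induction_on with
  | zero => simp
  | add x y hx hy => rw [add_mul, hx, hy, map_add]
  | tmul r a => simp [Algebra.TensorProduct.tmul_mul_tmul]

theorem slice_mul_tmul_one (φ : A →ₗ[k] k) (x : R ⊗[k] A) (f : R) :
    slice R φ (x * (f ⊗ₜ[k] (1 : A))) = slice R φ x * f := by
  rw [mul_tmul_one, slice_rTensor]
  rfl

theorem slice_mul_one_tmul (φ : A →ₗ[k] k) (x : R ⊗[k] A) (s : A) :
    slice R φ (x * ((1 : R) ⊗ₜ[k] s)) = slice R (φ ∘ₗ LinearMap.mulRight k s) x := by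
  rw [mul_one_tmul, slice_lTensor]

end MulLemmas

section CoactAlg

variable {k : Type u} [Field k] {A : Type v} [CommRing A] [Bialgebra k A]
variable {R : Type w} [CommRing R] [Algebra k R] [Comod k A R] [GLin.IsCoactAlg k A R]

theorem coact_mul (x y : R) : Comod.coact (k := k) (A := A) (x * y) =
    Comod.coact (k := k) (A := A) x * Comod.coact (k := k) (A := A) y :=
  GLin.IsCoactAlg.coact_mul x y

theorem mem_fixedPts_iff_mem_invariants (f : R) :
    f ∈ fixedPts k A R ↔ f ∈ GLin.invariants k A R := Iff.rfl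

theorem isComodHom_mulLeft_of_mem_fixedPts {f : R} (hf : f ∈ fixedPts k A R) :
    Hoch.IsComodHom A (LinearMap.mulLeft k f) := by
  apply LinearMap.ext
  intro r
  change Comod.coact (k := k) (A := A) (f * r) = _
  rw [coact_mul, (mem_fixedPts_iff f).mp hf, tmul_one_mul]
  rfl

theorem T_mul_of_mem_fixedPts {f : R} (hf : f ∈ fixedPts k A R) (φ : A →ₗ[k] k) (r : R) :
    T φ (f * r) = f * T φ r :=
  (map_T_of_isComodHom (isComodHom_mulLeft_of_mem_fixedPts hf) φ r).symm

/-- The Reynolds operator is linear over the invariants. -/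
theorem reynolds_mul_of_mem_fixedPts (hss : IsSemisimpleComod k A R) {E : R →ₗ[k] R}
    (hE : Hoch.IsComodHom A E) (hEE : E ∘ₗ E = E) (hEx : ∀ x : R, E x = x ↔ x ∈ fixedPts k A R)
    {f : R} (hf : f ∈ fixedPts k A R) (r : R) : E (f * r) = f * E r :=
  LinearMap.congr_fun
    (reynolds_comm hss hE hEE hEx hE hEE hEx (isComodHom_mulLeft_of_mem_fixedPts hf)) r

/-- An ideal generated by invariants is a subcomodule. -/
theorem isSubcomod_span_of_fixedPts {S : Set R} (hS : ∀ f ∈ S, f ∈ fixedPts k A R) :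
    IsSubcomod (k := k) (A := A) ((Ideal.span S).restrictScalars k) := by
  rw [isSubcomod_iff]
  intro φ u hu
  rw [Submodule.restrictScalars_mem] at hu ⊢
  obtain ⟨c, hc, rfl⟩ := Submodule.mem_span_set.mp hu
  rw [Finsupp.sum, map_sum]
  refine Submodule.sum_mem _ (fun s hs => ?_)
  have hsS : s ∈ S := hc hs
  rw [smul_eq_mul, mul_comm, T_mul_of_mem_fixedPts (hS s hsS), mul_comm]
  exact Ideal.mul_mem_left _ _ (Ideal.subset_span hsS)

end CoactAlg

section Hopf

variable {k : Type u} [Field k] {A : Type v} [CommRing A] [HopfAlgebra k A]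
variable {R : Type w} [CommRing R] [Algebra k R] [Comod k A R] [GLin.IsCoactAlg k A R]

/-- `G (z ⊗ a) = z * (1 ⊗ S a)`. -/
noncomputable def mulAntipode (k : Type u) [Field k] (A : Type v) [CommRing A] [HopfAlgebra k A]
    (R : Type w) [CommRing R] [Algebra k R] : (R ⊗[k] A) ⊗[k] A →ₗ[k] R ⊗[k] A :=
  LinearMap.mul' k (R ⊗[k] A) ∘ₗ TensorProduct.map LinearMap.id
    ((Algebra.TensorProduct.includeRight : A →ₐ[k] R ⊗[k] A).toLinearMap ∘ₗ HopfAlgebra.antipode k)

omit [Comod k A R] [GLin.IsCoactAlg k A R] in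
@[simp] theorem mulAntipode_tmul (z : R ⊗[k] A) (a : A) :
    mulAntipode k A R (z ⊗ₜ[k] a) = z * ((1 : R) ⊗ₜ[k] HopfAlgebra.antipode k a) := by
  simp [mulAntipode]

omit [Comod k A R] [GLin.IsCoactAlg k A R] in
theorem mulAntipode_assoc_symm (w : R ⊗[k] (A ⊗[k] A)) :
    mulAntipode k A R ((TensorProduct.assoc k R A A).symm w) =
      (LinearMap.mul' k A ∘ₗ (HopfAlgebra.antipode k).lTensor A).lTensor R w := by
  induction w using TensorProduct.induction_on with
  | zero => simp
  | add x y hx hy => simp only [map_add, hx, hy]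
  | tmul r z =>
    induction z using TensorProduct.induction_on with
    | zero => simp
    | add x y hx hy => simp only [TensorProduct.tmul_add, map_add, hx, hy]
    | tmul a b =>
      simp [Algebra.TensorProduct.tmul_mul_tmul]

/-- `Σ ρ(y₀) (1 ⊗ S y₁) = y ⊗ 1`. -/
theorem mulAntipode_rTensor_coact (y : R) :
    mulAntipode k A R ((Comod.coact (k := k) (A := A)).rTensor A
      (Comod.coact (k := k) (A := A) y)) = y ⊗ₜ[k] (1 : A) := by
  rw [coassoc_apply, mulAntipode_assoc_symm, ← LinearMap.comp_apply, ← LinearMap.lTensor_comp,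
    LinearMap.comp_assoc, HopfAlgebra.mul_antipode_lTensor_comul, LinearMap.lTensor_comp,
    LinearMap.comp_apply, counit_apply, LinearMap.lTensor_tmul]
  simp [Algebra.algebraMap_eq_smul_one]

/-- `ρ(c) (y ⊗ 1) = Σ ρ(c y₀) (1 ⊗ S y₁)`. -/
theorem coact_mul_tmul_one (c y : R) :
    Comod.coact (k := k) (A := A) c * (y ⊗ₜ[k] (1 : A)) =
      mulAntipode k A R ((Comod.coact (k := k) (A := A) ∘ₗ LinearMap.mulLeft k c).rTensor A
        (Comod.coact (k := k) (A := A) y)) := by
  rw [← mulAntipode_rTensor_coact y]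
  generalize Comod.coact (k := k) (A := A) y = x
  induction x using TensorProduct.induction_on with
  | zero => simp
  | add x y hx hy => simp only [map_add, mul_add, hx, hy]
  | tmul r a =>
    simp only [LinearMap.rTensor_tmul, mulAntipode_tmul, LinearMap.coe_comp, Function.comp_apply,
      LinearMap.mulLeft_apply, coact_mul, mul_assoc]

/-- The colon ideal of two stable ideals is stable. -/
theorem isSubcomod_colon {I J : Ideal R}
    (hI : IsSubcomod (k := k) (A := A) (I.restrictScalars k))
    (hJ : IsSubcomod (k := k) (A := A) (J.restrictScalars k))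
    (K : Submodule k R) (hK : ∀ c : R, c ∈ K ↔ ∀ y ∈ I, c * y ∈ J) :
    IsSubcomod (k := k) (A := A) K := by
  rw [isSubcomod_iff]
  intro φ c hc
  rw [hK] at hc ⊢
  intro y hy
  rw [T_apply, ← slice_mul_tmul_one, coact_mul_tmul_one]
  obtain ⟨x, hx⟩ := hI y hy
  rw [← hx, ← LinearMap.rTensor_comp_apply]
  clear hx
  suffices h : ∀ ψ : A →ₗ[k] k, slice R ψ (mulAntipode k A R
      (((Comod.coact (k := k) (A := A) ∘ₗ LinearMap.mulLeft k c) ∘ₗ
        (I.restrictScalars k).subtype).rTensor A x)) ∈ J from h φ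
  intro ψ
  induction x using TensorProduct.induction_on generalizing ψ with
  | zero => simp
  | add x₁ x₂ h₁ h₂ => simp only [map_add]; exact Submodule.add_mem _ (h₁ ψ) (h₂ ψ)
  | tmul r a =>
    simp only [LinearMap.rTensor_tmul, mulAntipode_tmul, LinearMap.coe_comp, Function.comp_apply,
      LinearMap.mulLeft_apply, Submodule.coe_subtype]
    rw [slice_mul_one_tmul]
    have hcr : c * (r : R) ∈ J := hc _ r.2
    exact (mem_range_rTensor_iff (J.restrictScalars k) _).mp (hJ _ hcr) _

end Hopf

end Groth.Agent.Lib.Helper25
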