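import Groth.Agent.Lib.Helper25Mu
import Groth.Agent.Lib.Helper25Points
import Groth.Agent.Lib.Helper25CoactAlg
import Mathlib.RingTheory.HopfAlgebra.Convolution

/-!
# The group of points acting on points; closed orbits; surjectivity of the quotient map (helper25)
-/

set_option autoImplicit false
set_option linter.unusedSectionVars false
universe u v w
open TensorProduct HopfRep

namespace Groth.Agent.Lib.Helper25


section ActPt
variable {k : Type u} [CommRing k] {A : Type v} [CommRing A] [HopfAlgebra k A]
  {R : Type w} [CommRing R] [Algebra k R] [HopfRep.Comod k A R] [GLin.IsCoactAlg k A R]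

/-- Convolution of two points of the group. -/
noncomputable def convPt (g h : A →ₐ[k] k) : A →ₐ[k] k :=
  (Algebra.TensorProduct.lmul' k (S := k)).comp
    ((Algebra.TensorProduct.map g h).comp (Bialgebra.comulAlgHom k A))

theorem convPt_apply (g h : A →ₐ[k] k) (a : A) :
    convPt g h a = conv g.toLinearMap h.toLinearMap a := by
  unfold convPt conv
  simp only [AlgHom.comp_apply, LinearMap.comp_apply, Bialgebra.comulAlgHom_apply]
  generalize CoalgebraStruct.comul (R := k) a = z
  induction z using TensorProduct.induction_on with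
  | zero => simp
  | add x y hx hy => simp only [map_add, hx, hy]
  | tmul b c => simp

theorem actPt_apply (g : A →ₐ[k] k) (x : R →ₐ[k] k) (f : R) :
    GLin.actPt k g x f = g (GLin.orbitHom k A x f) := rfl

theorem actPt_eq_T (g : A →ₐ[k] k) (x : R →ₐ[k] k) (f : R) :
    GLin.actPt k g x f = x (T g.toLinearMap f) := by
  rw [actPt_apply, orbitHom_eq_coeffMap, coeffMap_apply, T_apply]
  exact apply_lslice x.toLinearMap g.toLinearMap _ |>.trans rfl

theorem actPt_actPt (g h : A →ₐ[k] k) (x : R →ₐ[k] k) :
    GLin.actPt k h (GLin.actPt k g x) = GLin.actPt k (convPt g h) x := by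
  apply AlgHom.ext
  intro f
  rw [actPt_eq_T, actPt_eq_T, actPt_eq_T, T_T]
  have : conv g.toLinearMap h.toLinearMap = (convPt g h).toLinearMap := by
    apply LinearMap.ext
    intro a
    exact (convPt_apply g h a).symm
  rw [this]

theorem convPt_antipode (g : A →ₐ[k] k) :
    convPt g (g.comp (HopfAlgebra.antipodeAlgHom k A)) =
      (Algebra.ofId k k).comp (Bialgebra.counitAlgHom k A) := by
  have h := mul_inv_cancel (WithConv.toConv g : WithConv (A →ₐ[k] k))
  exact congrArg WithConv.ofConv h

theorem actPt_counit (x : R →ₐ[k] k) :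
    GLin.actPt k ((Algebra.ofId k k).comp (Bialgebra.counitAlgHom k A)) x = x := by
  apply AlgHom.ext
  intro f
  rw [actPt_apply]
  change algebraMap k k (CoalgebraStruct.counit (R := k) (GLin.orbitHom k A x f)) = x f
  rw [counit_orbitHom]
  rfl

theorem actPt_inv_actPt (g : A →ₐ[k] k) (x : R →ₐ[k] k) :
    GLin.actPt k (g.comp (HopfAlgebra.antipodeAlgHom k A)) (GLin.actPt k g x) = x := by
  rw [actPt_actPt, convPt_antipode, actPt_counit]

end ActPt


section ClosedOrbit
variable {k : Type u} [Field k] [IsAlgClosed k] {A : Type v} [CommRing A] [Bialgebra k A]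
  [Algebra.FiniteType k A]
  {R : Type w} [CommRing R] [Algebra k R] [HopfRep.Comod k A R] [GLin.IsCoactAlg k A R]

/-- A `k`-point in the closure of a closed orbit is in the orbit. -/
theorem exists_actPt_eq_of_isClosedOrbit {x z : R →ₐ[k] k} (hcl : GLin.IsClosedOrbit k A x)
    (hz : GLin.InOrbitClosure k A x z) : ∃ g : A →ₐ[k] k, z = GLin.actPt k g x := by
  unfold GLin.IsClosedOrbit at hcl
  have hprime : (RingHom.ker (z : R →+* k)).IsPrime := RingHom.ker_isPrime _
  have hmem : (⟨RingHom.ker (z : R →+* k), hprime⟩ : PrimeSpectrum R) ∈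
      closure (Set.range (PrimeSpectrum.comap (GLin.orbitHom k A x).toRingHom)) := by
    rw [PrimeSpectrum.closure_range_comap, PrimeSpectrum.mem_zeroLocus]
    exact hz
  rw [hcl.closure_eq] at hmem
  obtain ⟨q, hq⟩ := hmem
  obtain ⟨g, hg⟩ := exists_point_vanishing_on (k := k) q.asIdeal q.isPrime.ne_top
  refine ⟨g, ?_⟩
  apply AlgHom.ext
  intro f
  have h1 : f - algebraMap k R (z f) ∈ RingHom.ker (z : R →+* k) := by
    rw [RingHom.mem_ker]
    simp
  have h2 : f - algebraMap k R (z f) ∈ (PrimeSpectrum.comap (GLin.orbitHom k A x).toRingHom q).asIdeal := by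
    rw [hq]
    exact h1
  have h3 : GLin.orbitHom k A x (f - algebraMap k R (z f)) ∈ q.asIdeal := h2
  have h4 := hg _ h3
  rw [map_sub, map_sub, AlgHom.commutes, AlgHom.commutes, sub_eq_zero] at h4
  change z f = g (GLin.orbitHom k A x f)
  rw [h4]
  rfl

end ClosedOrbit

section Surj
variable {k : Type u} [Field k] [IsAlgClosed k] {A : Type u} [CommRing A] [HopfAlgebra k A]
  {R : Type u} [CommRing R] [Algebra k R] [Algebra.FiniteType k R]
  [HopfRep.Comod k A R] [GLin.IsCoactAlg k A R]

/-- The quotient map is surjective on `k`-points. -/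
theorem exists_point_over_invariants (hG : IsLinearlyReductive k A)
    (y : GLin.invariants k A R →ₐ[k] k) :
    ∃ x : R →ₐ[k] k, x.comp (GLin.invariants k A R).val = y := by
  have hss : IsSemisimpleComod k A R := isSemisimpleComod_of_isLinearlyReductive hG R
  obtain ⟨E, hE, hEE, hEx⟩ := exists_reynolds hss
  have hEfix : ∀ x, E x ∈ GLin.invariants k A R :=
    fun x => (hEx _).mp (LinearMap.congr_fun hEE x)
  let Q : Ideal R := Ideal.map (algebraMap (GLin.invariants k A R) R) (RingHom.ker y)
  let E' : R →ₗ[k] GLin.invariants k A R :=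
    E.codRestrict (Subalgebra.toSubmodule (GLin.invariants k A R)) hEfix
  have hE'val : ∀ r, (E' r : R) = E r := fun r => rfl
  have hQ : Q ≠ ⊤ := by
    intro htop
    have h1 : (1 : R) ∈ Q := by rw [htop]; exact Submodule.mem_top
    have hQ0 : ∀ q ∈ Q, ∀ r : R, y (E' (r * q)) = 0 := by
      intro q hq
      refine Submodule.span_induction (p := fun q _ => ∀ r : R, y (E' (r * q)) = 0) ?_ ?_ ?_ ?_ hq
      · rintro _ ⟨a, ha, rfl⟩ r
        have : E' (r * algebraMap (GLin.invariants k A R) R a) = a * E' r := by
          apply Subtype.ext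
          rw [hE'val, mul_comm]
          exact reynolds_mul_of_mem_fixedPts hss hE hEE hEx a.2 r
        rw [this, map_mul, (RingHom.mem_ker).mp ha, zero_mul]
      · intro r
        rw [mul_zero, map_zero, map_zero]
      · intro a b _ _ ha hb r
        rw [mul_add, map_add, map_add, ha r, hb r, add_zero]
      · intro r' a _ ha r
        rw [smul_eq_mul, ← mul_assoc]
        exact ha (r * r')
    have h2 := hQ0 1 h1 1
    rw [mul_one] at h2
    have h3 : E' 1 = 1 := by
      apply Subtype.ext
      rw [hE'val]
      exact (hEx 1).mpr (GLin.invariants k A R).one_mem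
    rw [h3, map_one] at h2
    exact one_ne_zero h2
  obtain ⟨x, hx⟩ := exists_point_vanishing_on (k := k) Q hQ
  refine ⟨x, ?_⟩
  apply AlgHom.ext
  intro f
  have h1 : f - algebraMap k (GLin.invariants k A R) (y f) ∈ RingHom.ker y := by
    rw [RingHom.mem_ker]; simp
  have h2 : algebraMap (GLin.invariants k A R) R (f - algebraMap k (GLin.invariants k A R) (y f)) ∈ Q :=
    Ideal.mem_map_of_mem _ h1
  have h3 := hx _ h2
  rw [map_sub, map_sub, sub_eq_zero] at h3
  change x (f : R) = y f
  refine h3.trans ?_
  rw [← IsScalarTower.algebraMap_apply, AlgHom.commutes]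
  rfl

end Surj


end Groth.Agent.Lib.Helper25
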