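import Groth.Agent.Lib.Helper25Coeff
import Groth.Agent.Lib.Helper25ActPt
import Mathlib.LinearAlgebra.TensorProduct.RightExactness
import Mathlib.RingTheory.Filtration
import Mathlib.RingTheory.Ideal.IdempotentFG

/-!
# Helper25KrullGrp: Krull intersection for connected affine algebraic groups

For a finitely generated commutative Hopf algebra `A` over an algebraically closed field with no
nontrivial idempotents, the intersection `augInf` of the powers of the augmentation ideal is zero
(`augInf_eq_bot`).  Proof: distributions supported at the identity are closed under convolution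
(`conv_eq_zero_of_mem_augI_pow`), so `augInf` is stable under translation by the points of
`V(augInf)` (`T_mem_augInf`); by Krull's theorem and homogeneity it is locally zero at those
points (`exists_annihilator_not_mem`), hence idempotent, hence generated by an idempotent.
-/

set_option autoImplicit false
universe u v w w'

namespace Groth.Agent.Lib.Helper25

open TensorProduct HopfRep

section Dist

variable {k : Type u} [Field k] {A : Type v} [CommRing A] [Bialgebra k A]

/-- `(ψ ⊗ φ)` as a functional on `A ⊗ A`. -/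
noncomputable def pairFun (ψ φ : A →ₗ[k] k) : A ⊗[k] A →ₗ[k] k :=
  LinearMap.mul' k k ∘ₗ TensorProduct.map ψ φ

theorem pairFun_tmul (ψ φ : A →ₗ[k] k) (a b : A) : pairFun ψ φ (a ⊗ₜ[k] b) = ψ a * φ b := by
  simp [pairFun]

theorem conv_eq_pairFun (ψ φ : A →ₗ[k] k) (a : A) :
    conv ψ φ a = pairFun ψ φ (CoalgebraStruct.comul (R := k) a) := rfl

theorem apply_lslice_eq_pairFun (ψ φ : A →ₗ[k] k) (z : A ⊗[k] A) :
    φ (lslice ψ z) = pairFun ψ φ z := by
  induction z using TensorProduct.induction_on with
  | zero => simp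
  | add x y hx hy => simp only [map_add, hx, hy]
  | tmul a b => simp [pairFun_tmul]

theorem pairFun_eq_zero_of_mem_left (ψ φ : A →ₗ[k] k) (J : Ideal A) (hψ : ∀ a ∈ J, ψ a = 0)
    (z : A ⊗[k] A)
    (hz : z ∈ J.map (Algebra.TensorProduct.includeLeft : A →ₐ[k] A ⊗[k] A)) :
    pairFun ψ φ z = 0 := by
  have h1 : z ∈ (J.map (Algebra.TensorProduct.includeLeft : A →ₐ[k] A ⊗[k] A)).restrictScalars k :=
    hz
  rw [Ideal.map_includeLeft_eq] at h1
  obtain ⟨y, rfl⟩ := h1
  clear hz
  induction y using TensorProduct.induction_on with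
  | zero => simp
  | add x y hx hy => simp only [map_add, hx, hy, add_zero]
  | tmul a b =>
    rw [LinearMap.rTensor_tmul, pairFun_tmul]
    have : ψ ((Submodule.restrictScalars k J).subtype a) = 0 := hψ _ a.2
    rw [this, zero_mul]

theorem pairFun_eq_zero_of_mem_right (ψ φ : A →ₗ[k] k) (J : Ideal A) (hφ : ∀ a ∈ J, φ a = 0)
    (z : A ⊗[k] A)
    (hz : z ∈ J.map (Algebra.TensorProduct.includeRight : A →ₐ[k] A ⊗[k] A)) :
    pairFun ψ φ z = 0 := by
  have h1 : z ∈ (J.map (Algebra.TensorProduct.includeRight : A →ₐ[k] A ⊗[k] A)).restrictScalars k :=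
    hz
  rw [Ideal.map_includeRight_eq] at h1
  obtain ⟨y, rfl⟩ := h1
  clear hz
  induction y using TensorProduct.induction_on with
  | zero => simp
  | add x y hx hy => simp only [map_add, hx, hy, add_zero]
  | tmul a b =>
    rw [LinearMap.lTensor_tmul, pairFun_tmul]
    have : φ ((Submodule.restrictScalars k J).subtype b) = 0 := hφ _ b.2
    rw [this, mul_zero]

variable (k A) in
/-- The augmentation ideal. -/
noncomputable def augI : Ideal A := RingHom.ker (Bialgebra.counitAlgHom k A)

theorem comul_mem_sup_of_mem_augI (x : A) (hx : x ∈ augI k A) :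
    Bialgebra.comulAlgHom k A x ∈
      (augI k A).map (Algebra.TensorProduct.includeLeft : A →ₐ[k] A ⊗[k] A) ⊔
        (augI k A).map (Algebra.TensorProduct.includeRight : A →ₐ[k] A ⊗[k] A) := by
  have hsurj : Function.Surjective (Bialgebra.counitAlgHom k A) := fun c =>
    ⟨algebraMap k A c, by simp⟩
  unfold augI
  rw [← Algebra.TensorProduct.map_ker (Bialgebra.counitAlgHom k A) (Bialgebra.counitAlgHom k A)
    hsurj hsurj, RingHom.mem_ker]
  have h1 : Algebra.TensorProduct.map (Bialgebra.counitAlgHom k A) (Bialgebra.counitAlgHom k A)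
      (Bialgebra.comulAlgHom k A x) =
      (CoalgebraStruct.counit (R := k) (A := A)).lTensor k
        ((CoalgebraStruct.counit (R := k) (A := A)).rTensor A
          (CoalgebraStruct.comul (R := k) x)) := by
    rw [Bialgebra.comulAlgHom_apply]
    generalize CoalgebraStruct.comul (R := k) x = z
    induction z using TensorProduct.induction_on with
    | zero => simp
    | add x y hx hy => simp only [map_add, hx, hy]
    | tmul a b => simp
  rw [h1, Coalgebra.rTensor_counit_comul, LinearMap.lTensor_tmul]
  have : CoalgebraStruct.counit (R := k) x = 0 := hx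
  rw [this, TensorProduct.tmul_zero]

theorem comul_mem_of_mem_augI_pow (i j : ℕ) (x : A) (hx : x ∈ augI k A ^ (i + j)) :
    Bialgebra.comulAlgHom k A x ∈
      (augI k A ^ i).map (Algebra.TensorProduct.includeLeft : A →ₐ[k] A ⊗[k] A) ⊔
        (augI k A ^ j).map (Algebra.TensorProduct.includeRight : A →ₐ[k] A ⊗[k] A) := by
  have h1 : (augI k A).map (Bialgebra.comulAlgHom k A) ≤
      (augI k A).map (Algebra.TensorProduct.includeLeft : A →ₐ[k] A ⊗[k] A) ⊔
        (augI k A).map (Algebra.TensorProduct.includeRight : A →ₐ[k] A ⊗[k] A) := by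
    rw [Ideal.map_le_iff_le_comap]
    intro a ha
    exact comul_mem_sup_of_mem_augI a ha
  have h2 : Bialgebra.comulAlgHom k A x ∈ (augI k A ^ (i + j)).map (Bialgebra.comulAlgHom k A) :=
    Ideal.mem_map_of_mem _ hx
  rw [Ideal.map_pow] at h2
  have h3 := Ideal.pow_right_mono h1 (i + j) h2
  have h4 := Ideal.sup_pow_add_le_pow_sup_pow h3
  rwa [← Ideal.map_pow, ← Ideal.map_pow] at h4

/-- Distributions supported at the identity are closed under convolution. -/
theorem conv_eq_zero_of_mem_augI_pow (ψ φ : A →ₗ[k] k) (i j : ℕ)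
    (hψ : ∀ a ∈ augI k A ^ i, ψ a = 0) (hφ : ∀ a ∈ augI k A ^ j, φ a = 0)
    (x : A) (hx : x ∈ augI k A ^ (i + j)) : conv ψ φ x = 0 := by
  rw [conv_eq_pairFun]
  have h := comul_mem_of_mem_augI_pow i j x hx
  rw [Bialgebra.comulAlgHom_apply] at h
  obtain ⟨z₁, hz₁, z₂, hz₂, hz⟩ := Submodule.mem_sup.mp h
  rw [← hz, map_add, pairFun_eq_zero_of_mem_left ψ φ _ hψ z₁ hz₁,
    pairFun_eq_zero_of_mem_right ψ φ _ hφ z₂ hz₂, add_zero]

end Dist


section AugInf

variable (k : Type u) [Field k] (A : Type v) [CommRing A] [Bialgebra k A]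

/-- The intersection of the powers of the augmentation ideal. -/
noncomputable def augInf : Ideal A := ⨅ n : ℕ, augI k A ^ n

variable {k A}

theorem mem_augInf_iff (x : A) : x ∈ augInf k A ↔
    ∀ (i : ℕ) (φ : A →ₗ[k] k), (∀ a ∈ augI k A ^ i, φ a = 0) → φ x = 0 := by
  constructor
  · intro hx i φ hφ
    exact hφ x ((Ideal.mem_iInf.mp hx) i)
  · intro h
    rw [augInf, Ideal.mem_iInf]
    intro i
    by_contra hxi
    have hxi' : x ∉ (augI k A ^ i).restrictScalars k := hxi
    obtain ⟨φ, hφx, hφ0⟩ := Submodule.exists_le_ker_of_notMem hxi'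
    exact hφx (h i φ (fun a ha => hφ0 ha))

theorem augInf_le_augI : augInf k A ≤ augI k A := by
  intro x hx
  have := (Ideal.mem_iInf.mp hx) 1
  rwa [pow_one] at this

/-- `augInf` is stable under right translation by points vanishing on it. -/
theorem T_mem_augInf (h : A →ₐ[k] k) (hh : ∀ a ∈ augInf k A, h a = 0) (x : A)
    (hx : x ∈ augInf k A) : T (V := A) h.toLinearMap x ∈ augInf k A := by
  rw [mem_augInf_iff]
  intro j ψ hψ
  -- `ψ (T h x) = h (lslice ψ (Δ x))`
  have h1 : ψ (T (V := A) h.toLinearMap x) =
      h.toLinearMap (lslice ψ (CoalgebraStruct.comul (R := k) x)) := by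
    rw [apply_lslice]
    rfl
  rw [h1]
  apply hh
  rw [mem_augInf_iff]
  intro i φ hφ
  rw [apply_lslice_eq_pairFun, ← conv_eq_pairFun]
  refine conv_eq_zero_of_mem_augI_pow ψ φ j i hψ hφ x ?_
  exact (Ideal.mem_iInf.mp hx) (j + i)

end AugInf

section Transl

variable {k : Type u} [Field k] {A : Type v} [CommRing A] [HopfAlgebra k A]

/-- Right translation by a point, as an algebra map. -/
noncomputable def rtrans (u : A →ₐ[k] k) : A →ₐ[k] A :=
  (Algebra.TensorProduct.rid k k A).toAlgHom.comp
    ((Algebra.TensorProduct.map (AlgHom.id k A) u).comp (Bialgebra.comulAlgHom k A))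

theorem rtrans_apply (u : A →ₐ[k] k) (a : A) : rtrans u a = T (V := A) u.toLinearMap a := by
  unfold rtrans
  rw [T_apply]
  change (Algebra.TensorProduct.rid k k A)
    ((Algebra.TensorProduct.map (AlgHom.id k A) u) (CoalgebraStruct.comul (R := k) a)) =
    slice A u.toLinearMap (CoalgebraStruct.comul (R := k) a)
  generalize CoalgebraStruct.comul (R := k) a = z
  induction z using TensorProduct.induction_on with
  | zero => simp
  | add x y hx hy => simp only [map_add, hx, hy]
  | tmul b c => simp

theorem rtrans_rtrans (u v : A →ₐ[k] k) (a : A) :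
    rtrans u (rtrans v a) = rtrans (convPt u v) a := by
  have : conv u.toLinearMap v.toLinearMap = (convPt u v).toLinearMap := by
    apply LinearMap.ext
    intro b
    exact (convPt_apply u v b).symm
  rw [rtrans_apply, rtrans_apply, rtrans_apply, T_T, this]

theorem rtrans_counit (a : A) :
    rtrans ((Algebra.ofId k k).comp (Bialgebra.counitAlgHom k A)) a = a := by
  rw [rtrans_apply]
  exact T_counit a

theorem convPt_antipode' (g : A →ₐ[k] k) :
    convPt (g.comp (HopfAlgebra.antipodeAlgHom k A)) g =
      (Algebra.ofId k k).comp (Bialgebra.counitAlgHom k A) := by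
  have h := inv_mul_cancel (WithConv.toConv g : WithConv (A →ₐ[k] k))
  exact congrArg WithConv.ofConv h

theorem apply_rtrans (h u : A →ₐ[k] k) (a : A) : h (rtrans u a) = convPt h u a := by
  rw [rtrans_apply, convPt_apply]
  have := apply_lslice (A := A) (W := A) h.toLinearMap u.toLinearMap
    (CoalgebraStruct.comul (R := k) a)
  rw [T_apply]
  change h.toLinearMap (slice A u.toLinearMap (CoalgebraStruct.comul (R := k) a)) = _
  rw [← this, apply_lslice_eq_pairFun, conv_eq_pairFun]

end Transl


section Final

variable {k : Type u} [Field k] {A : Type v} [CommRing A] [HopfAlgebra k A]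

theorem exists_mul_eq_self_of_mem_augInf [IsNoetherianRing A] (x : A) (hx : x ∈ augInf k A) :
    ∃ r ∈ augI k A, r * x = x := by
  have h1 : x ∈ (⨅ i : ℕ, (augI k A) ^ i • ⊤ : Submodule A A) := by
    rw [Submodule.mem_iInf]
    intro i
    have := (Ideal.mem_iInf.mp hx) i
    rw [Ideal.smul_eq_mul, Ideal.mul_top]
    exact this
  obtain ⟨r, hr⟩ := (Ideal.mem_iInf_smul_pow_eq_bot_iff (augI k A) (M := A) x).mp h1
  exact ⟨r, r.2, hr⟩

/-- Elements of `augInf` vanish locally at every point of `V(augInf)`. -/
theorem exists_annihilator_not_mem [IsNoetherianRing A] (x : A) (hx : x ∈ augInf k A)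
    (h : A →ₐ[k] k) (hh : ∀ a ∈ augInf k A, h a = 0) : ∃ s : A, h s ≠ 0 ∧ s * x = 0 := by
  set g : A →ₐ[k] k := h.comp (HopfAlgebra.antipodeAlgHom k A) with hg
  set y : A := rtrans h x with hy
  have hyI : y ∈ augInf k A := by
    rw [hy, rtrans_apply]
    exact T_mem_augInf h hh x hx
  obtain ⟨r, hr, hry⟩ := exists_mul_eq_self_of_mem_augInf y hyI
  have hσy : rtrans g y = x := by
    rw [hy, rtrans_rtrans, hg, convPt_antipode', rtrans_counit]
  refine ⟨rtrans g (1 - r), ?_, ?_⟩
  · rw [apply_rtrans, hg, convPt_antipode]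
    have hr0 : CoalgebraStruct.counit (R := k) r = 0 := hr
    simp [hr0]
  · rw [← hσy, ← map_mul, sub_mul, one_mul, hry, sub_self, map_zero]

variable [IsAlgClosed k] [Algebra.FiniteType k A]

/-- Krull intersection for connected affine algebraic groups over an algebraically closed
field. -/
theorem augInf_eq_bot (hconn : ∀ e : A, IsIdempotentElem e → e = 0 ∨ e = 1) :
    augInf k A = ⊥ := by
  haveI : IsNoetherianRing A := Algebra.FiniteType.isNoetherianRing k A
  have hfg : (augInf k A).FG := IsNoetherian.noetherian _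
  have hidem : IsIdempotentElem (augInf k A) := by
    apply le_antisymm
    · exact Ideal.mul_le_right
    · intro x hx
      -- the annihilator of `x` together with `augInf` is the unit ideal
      have htop : (Submodule.span A {x}).annihilator ⊔ augInf k A = ⊤ := by
        by_contra hne
        obtain ⟨h, hh⟩ := exists_point_vanishing_on (k := k) _ hne
        obtain ⟨s, hs, hsx⟩ := exists_annihilator_not_mem x hx h
          (fun a ha => hh a (Ideal.mem_sup_right ha))
        apply hs
        apply hh
        apply Ideal.mem_sup_left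
        rw [Submodule.mem_annihilator_span_singleton]
        exact hsx
      have h1 : (1 : A) ∈ (Submodule.span A {x}).annihilator ⊔ augInf k A := by
        rw [htop]; exact Submodule.mem_top
      obtain ⟨a, ha, i, hi, hai⟩ := Submodule.mem_sup.mp h1
      rw [Submodule.mem_annihilator_span_singleton] at ha
      have hx' : x = i * x := by
        have : (a + i) * x = x := by rw [hai, one_mul]
        rw [add_mul] at this
        have ha' : a * x = 0 := ha
        rw [ha', zero_add] at this
        exact this.symm
      rw [hx']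
      exact Ideal.mul_mem_mul hi hx
  obtain ⟨e, he, heq⟩ := (Ideal.isIdempotentElem_iff_of_fg _ hfg).mp hidem
  rcases hconn e he with h0 | h1
  · rw [heq, h0]
    simp
  · exfalso
    have hmem : e ∈ augInf k A := by
      rw [heq]
      exact Submodule.mem_span_singleton_self e
    have := augInf_le_augI hmem
    rw [h1] at this
    have h2 : CoalgebraStruct.counit (R := k) (1 : A) = 0 := this
    rw [Bialgebra.counit_one] at h2
    exact one_ne_zero h2

end Final

end Groth.Agent.Lib.Helper25
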