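import Groth.Agent.Lib.Helper25Shear
import Mathlib.RingTheory.Nakayama
import Mathlib.LinearAlgebra.Dimension.Constructions
import Mathlib.LinearAlgebra.FiniteDimensional.Lemmas
import Mathlib.RingTheory.Derivation.Basic
import Mathlib.Algebra.CharP.Lemmas
import Mathlib.Algebra.Module.Projective
import Groth.Agent.Lib.Helper25CartierHopf
import Mathlib.FieldTheory.Perfect
import Mathlib.RingTheory.Flat.Basic
import Mathlib.RingTheory.HopfAlgebra.Convolution
import Mathlib.FieldTheory.Fixed
import Mathlib.RingTheory.Artinian.Ring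
import Groth.Agent.Lib.Helper25KrullGrp
import Mathlib.RingTheory.HopfAlgebra.TensorProduct
import Mathlib.FieldTheory.IsAlgClosed.AlgebraicClosure
import Mathlib.RingTheory.Spectrum.Prime.FreeLocus
import Mathlib.LinearAlgebra.Dual.Lemmas

/-!
# helper25 library: finite group schemes over a field are killed by their order

Main results (all for a finite-dimensional commutative Hopf algebra `A` over a field `k`):

* `finrank_eq_mul_of_coideal`: Lagrange's theorem `dim A = dim B · dim A/B⁺A` for a right coideal
  subalgebra `B` when the augmentation ideal is nil (via the shear map and Nakayama).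
* `finrank_eq_pow_of_derivations`, `finrank_eq_pow_of_height_one`: an infinitesimal group scheme of
  height at most one has order `p ^ d` (Taylor expansion along invariant derivations).
* `frobSub`, `frobIdeal`, `frobKer`: the image of Frobenius, the ideal of the Frobenius kernel and
  the kernel of Frobenius; the latter two are Hopf ideals over a perfect field.
* `finrank_eq_pow_of_nilpotent`: the order of an infinitesimal group scheme over a perfect field of
  characteristic `p` is a power of `p`.
* `convPow_id_finrank_of_nilpotent`: an infinitesimal group scheme is killed by its order.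
* `unitIdeal`, `finrank_eq_card_mul`: over an algebraically closed field the order is the number of
  points times the order of the unit component.
* `convPow_id_finrank`: **a finite group scheme over a field is killed by its order**
  (SGA 3 VII_A 8.5), by base change to the algebraic closure.
-/

set_option autoImplicit false
universe u v w

namespace Groth.Agent.Lib.Helper25.FinHopf

open TensorProduct WithConv Groth.Agent.Lib.Helper25 Groth.Agent.Lib.Helper25.UL

section Lagrange

variable {k : Type u} [Field k] {A : Type v} [CommRing A] [HopfAlgebra k A]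

/-- The right coaction of the quotient algebra `A ⧸ I` on `A`. -/
noncomputable def rho (I : Ideal A) : A →ₐ[k] A ⊗[k] (A ⧸ I) :=
  (Algebra.TensorProduct.map (AlgHom.id k A) (Ideal.Quotient.mkₐ k I)).comp
    (Bialgebra.comulAlgHom k A)

theorem rho_eq_lTensor (I : Ideal A) (x : A) :
    rho (k := k) I x =
      (Ideal.Quotient.mkₐ k I).toLinearMap.lTensor A (CoalgebraStruct.comul (R := k) x) := by
  unfold rho
  rw [AlgHom.comp_apply, Bialgebra.comulAlgHom_apply]
  generalize CoalgebraStruct.comul (R := k) x = z
  induction z using TensorProduct.induction_on with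
  | zero => simp
  | add x y hx hy => simp only [map_add, hx, hy]
  | tmul a b => simp

/-- Elements of a right coideal subalgebra `B` are coinvariant under `A ⧸ B⁺A`. -/
theorem rho_of_mem (B : Subalgebra k A)
    (hB : ∀ b ∈ B, CoalgebraStruct.comul (R := k) b ∈
      LinearMap.range (B.val.toLinearMap.lTensor A))
    (I : Ideal A)
    (hI : ∀ b ∈ B, CoalgebraStruct.counit (R := k) b = 0 → b ∈ I)
    (b : A) (hb : b ∈ B) : rho (k := k) I b = b ⊗ₜ[k] (1 : A ⧸ I) := by
  obtain ⟨z, hz⟩ := hB b hb
  rw [rho_eq_lTensor, ← hz]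
  -- on `B`, the projection is the counit
  have key : ∀ z : A ⊗[k] ↥B,
      (Ideal.Quotient.mkₐ k I).toLinearMap.lTensor A (B.val.toLinearMap.lTensor A z) =
      (Algebra.linearMap k (A ⧸ I)).lTensor A
        ((CoalgebraStruct.counit (R := k) (A := A)).lTensor A (B.val.toLinearMap.lTensor A z)) := by
    intro z
    induction z using TensorProduct.induction_on with
    | zero => simp
    | add x y hx hy => simp only [map_add, hx, hy]
    | tmul a b' =>
      simp only [LinearMap.lTensor_tmul, AlgHom.toLinearMap_apply, Subalgebra.coe_val,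
        Ideal.Quotient.mkₐ_eq_mk, Algebra.linearMap_apply]
      congr 1
      rw [← sub_eq_zero, ← Ideal.Quotient.mk_algebraMap, ← map_sub,
        Ideal.Quotient.eq_zero_iff_mem]
      apply hI
      · exact B.sub_mem b'.2 (B.algebraMap_mem _)
      · rw [map_sub, Bialgebra.counit_algebraMap]
        simp
  rw [key, hz, Coalgebra.lTensor_counit_comul]
  simp

/-- **Lagrange's theorem** for a right coideal subalgebra `B` of a finite-dimensional commutative
Hopf algebra `A` with nilpotent augmentation ideal: `dim A = dim B · dim A/B⁺A`. -/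
theorem finrank_eq_mul_of_coideal [Module.Finite k A]
    (hnil : ∀ x : A, CoalgebraStruct.counit (R := k) x = 0 → IsNilpotent x)
    (B : Subalgebra k A)
    (hB : ∀ b ∈ B, CoalgebraStruct.comul (R := k) b ∈
      LinearMap.range (B.val.toLinearMap.lTensor A))
    (I : Ideal A)
    (hI : I = Ideal.span {a : A | a ∈ B ∧ CoalgebraStruct.counit (R := k) a = 0}) :
    Module.finrank k A = Module.finrank k B * Module.finrank k (A ⧸ I) := by
  classical
  have hIB : ∀ b ∈ B, CoalgebraStruct.counit (R := k) b = 0 → b ∈ I := by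
    intro b hb h0
    rw [hI]
    exact Ideal.subset_span ⟨hb, h0⟩
  have hπs : Function.Surjective (Ideal.Quotient.mkₐ k I) := Ideal.Quotient.mkₐ_surjective k I
  haveI : Module.Finite k (A ⧸ I) :=
    Module.Finite.of_surjective (Ideal.Quotient.mkₐ k I).toLinearMap hπs
  let bC := Module.finBasis k (A ⧸ I)
  set c := Module.finrank k (A ⧸ I) with hc
  have ha : ∀ i, ∃ a : A, Ideal.Quotient.mkₐ k I a = bC i := fun i => hπs (bC i)
  choose a ha using ha
  -- Step 1: the `a i` generate `A` over `B`
  let φ : (Fin c → ↥B) →ₗ[↥B] A := Fintype.linearCombination ↥B a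
  have hφ_apply : ∀ b : Fin c → ↥B, φ b = ∑ i, (b i : A) * a i := by
    intro b
    simp only [φ, Fintype.linearCombination_apply]
    rfl
  have hsurj : Function.Surjective φ := by
    rw [← LinearMap.range_eq_top]
    let Bp : Ideal ↥B := RingHom.ker ((Bialgebra.counitAlgHom k A).comp B.val)
    have hBp : Bp ≤ Ideal.jacobson ⊥ := by
      intro x hx
      have hx0 : CoalgebraStruct.counit (R := k) (x : A) = 0 := hx
      obtain ⟨n, hn⟩ := hnil _ hx0
      have hxn : IsNilpotent x := ⟨n, Subtype.val_injective (by simpa using hn)⟩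
      rw [Ideal.jacobson_bot]
      exact (nilradical_le_jacobson ↥B) (mem_nilradical.mpr hxn)
    haveI : Module.Finite ↥B A := Module.Finite.of_restrictScalars_finite k ↥B A
    have hfg : (⊤ : Submodule ↥B A).FG := Module.Finite.fg_top
    apply eq_top_iff.mpr
    apply Submodule.le_of_le_smul_of_le_jacobson_bot hfg hBp
    intro x _
    -- `x ≡ Σ cᵢ aᵢ` modulo `I`
    have h1 : Ideal.Quotient.mkₐ k I (x - ∑ i, (bC.repr (Ideal.Quotient.mkₐ k I x) i) • a i) = 0 := by
      rw [map_sub, map_sum]
      simp only [map_smul, ha]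
      rw [bC.sum_repr, sub_self]
    have h2 : x - ∑ i, (bC.repr (Ideal.Quotient.mkₐ k I x) i) • a i ∈ I := by
      rwa [Ideal.Quotient.mkₐ_eq_mk, Ideal.Quotient.eq_zero_iff_mem] at h1
    have h3 : ∀ y ∈ I, y ∈ Bp • (⊤ : Submodule ↥B A) := by
      intro y hy
      rw [hI] at hy
      refine Submodule.span_induction (p := fun y _ => y ∈ Bp • (⊤ : Submodule ↥B A))
        ?_ ?_ ?_ ?_ hy
      · rintro s ⟨hsB, hs0⟩
        have : s = (⟨s, hsB⟩ : ↥B) • (1 : A) := by
          rw [Subalgebra.smul_def]; simp
        rw [this]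
        exact Submodule.smul_mem_smul (show (⟨s, hsB⟩ : ↥B) ∈ Bp from hs0) trivial
      · exact Submodule.zero_mem _
      · intro y z _ _ hy hz
        exact Submodule.add_mem _ hy hz
      · intro r y _ hy
        -- multiplication by `r ∈ A` preserves `Bp • ⊤`
        refine Submodule.smul_induction_on hy ?_ ?_
        · intro b hb n _
          have : r • (b • n) = b • (r * n) := by
            rw [Subalgebra.smul_def, Subalgebra.smul_def, smul_eq_mul]; ring
          rw [this]
          exact Submodule.smul_mem_smul hb trivial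
        · intro y z hy hz
          rw [smul_add]
          exact Submodule.add_mem _ hy hz
    have h4 : ∑ i, (bC.repr (Ideal.Quotient.mkₐ k I x) i) • a i ∈ LinearMap.range φ := by
      refine ⟨fun i => algebraMap k ↥B (bC.repr (Ideal.Quotient.mkₐ k I x) i), ?_⟩
      rw [hφ_apply]
      refine Finset.sum_congr rfl (fun i _ => ?_)
      rw [Algebra.smul_def]
      rfl
    have h5 : x = ∑ i, (bC.repr (Ideal.Quotient.mkₐ k I x) i) • a i +
        (x - ∑ i, (bC.repr (Ideal.Quotient.mkₐ k I x) i) • a i) := by ring
    rw [h5]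
    exact Submodule.add_mem_sup h4 (h3 _ h2)
  -- Step 2: the images `w i` of `a i` in `A ⊗ A/I`
  let w : Fin c → A ⊗[k] (A ⧸ I) := fun i => rho (k := k) I (a i)
  let Ψ : (Fin c → A) →ₗ[k] A ⊗[k] (A ⧸ I) :=
    ∑ i, (LinearMap.mulRight k (w i)) ∘ₗ
      (Algebra.TensorProduct.includeLeft : A →ₐ[k] A ⊗[k] (A ⧸ I)).toLinearMap ∘ₗ
        (LinearMap.proj i : (Fin c → A) →ₗ[k] A)
  have hΨ_apply : ∀ α : Fin c → A, Ψ α = ∑ i, (α i ⊗ₜ[k] (1 : A ⧸ I)) * w i := by
    intro α
    simp [Ψ]
  have hρφ : ∀ b : Fin c → ↥B, rho (k := k) I (φ b) = Ψ (fun i => (b i : A)) := by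
    intro b
    rw [hφ_apply, map_sum, hΨ_apply]
    refine Finset.sum_congr rfl (fun i _ => ?_)
    rw [map_mul, rho_of_mem B hB I hIB _ (b i).2]
  have hΨsurj : Function.Surjective Ψ := by
    intro y
    obtain ⟨y', rfl⟩ : ∃ y' : A ⊗[k] A,
        (Algebra.TensorProduct.map (AlgHom.id k A) (Ideal.Quotient.mkₐ k I)) y' = y := by
      have : Function.Surjective
          (Algebra.TensorProduct.map (AlgHom.id k A) (Ideal.Quotient.mkₐ k I)) :=
        Algebra.TensorProduct.map_surjective (f := AlgHom.id k A) (g := Ideal.Quotient.mkₐ k I)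
          Function.surjective_id hπs
      exact this y
    rw [← shear_shearInv (k := k) y']
    generalize shearInv (k := k) y' = z
    induction z using TensorProduct.induction_on with
    | zero => exact ⟨0, by simp⟩
    | add z₁ z₂ h₁ h₂ =>
      obtain ⟨α₁, hα₁⟩ := h₁
      obtain ⟨α₂, hα₂⟩ := h₂
      exact ⟨α₁ + α₂, by rw [map_add, hα₁, hα₂, map_add, map_add]⟩
    | tmul x y =>
      obtain ⟨b, hb⟩ := hsurj y
      refine ⟨fun i => x * (b i : A), ?_⟩
      rw [shear_tmul, map_mul, hΨ_apply]
      have e1 : (Algebra.TensorProduct.map (AlgHom.id k A) (Ideal.Quotient.mkₐ k I))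
          (CoalgebraStruct.comul (R := k) y) = rho (k := k) I y := rfl
      rw [e1, ← hb, hρφ, hΨ_apply, Finset.mul_sum]
      refine Finset.sum_congr rfl (fun i _ => ?_)
      rw [Algebra.TensorProduct.map_tmul, map_one, AlgHom.id_apply, ← mul_assoc,
        Algebra.TensorProduct.tmul_mul_tmul, mul_one]
  have hΨinj : Function.Injective Ψ := by
    have hdim : Module.finrank k (Fin c → A) = Module.finrank k (A ⊗[k] (A ⧸ I)) := by
      rw [Module.finrank_tensorProduct, Module.finrank_pi_fintype]
      simp [hc, mul_comm]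
    exact (LinearMap.injective_iff_surjective_of_finrank_eq_finrank hdim).mpr hΨsurj
  -- Step 3: `φ` is injective
  have hinj : Function.Injective φ := by
    rw [← LinearMap.ker_eq_bot, LinearMap.ker_eq_bot']
    intro b hb
    have h1 : Ψ (fun i => (b i : A)) = 0 := by rw [← hρφ, hb, map_zero]
    have h2 : (fun i => (b i : A)) = 0 := by
      apply hΨinj
      rw [h1, map_zero]
    funext i
    exact Subtype.val_injective (congrFun h2 i)
  -- conclusion
  let e : (Fin c → ↥B) ≃ₗ[k] A :=
    LinearEquiv.ofBijective (φ.restrictScalars k) ⟨hinj, hsurj⟩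
  rw [← e.finrank_eq, Module.finrank_pi_fintype]
  simp [hc, mul_comm]

end Lagrange

section Taylor

variable {k : Type u} [Field k] (p : ℕ) [hp : Fact p.Prime] [CharP k p]
variable {A : Type v} [CommRing A] [Algebra k A]

include hp in
/-- Taylor lemma: if a derivation `E` takes a unit value at `y`, then for `j < p` the annihilator
of `y ^ j` is contained in `(y)`. -/
theorem mem_span_of_mul_pow_eq_zero (y : A) (E : Derivation k A A) (hE : IsUnit (E y)) :
    ∀ j < p, ∀ a : A, a * y ^ j = 0 → a ∈ Ideal.span {y} := by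
  intro j
  induction j with
  | zero =>
    intro _ a ha
    rw [pow_zero, mul_one] at ha
    rw [ha]
    exact Ideal.zero_mem _
  | succ j ih =>
    intro hj a ha
    have h1 := congrArg E ha
    rw [map_zero, Derivation.leibniz, Derivation.leibniz_pow, Nat.add_sub_cancel] at h1
    -- `(a * (j+1) * E y + y * E a) * y ^ j = 0`
    have h2 : (a * ((j + 1 : ℕ) : A) * E y + y * E a) * y ^ j = 0 := by
      have : (a * ((j + 1 : ℕ) : A) * E y + y * E a) * y ^ j =
          a • (j + 1) • y ^ j • E y + y ^ (j + 1) • E a := by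
        simp only [smul_eq_mul, nsmul_eq_mul, pow_succ]
        push_cast
        ring
      rw [this, h1]
    have h3 := ih (Nat.lt_of_succ_lt hj) _ h2
    have h4 : a * ((j + 1 : ℕ) : A) * E y ∈ Ideal.span {y} := by
      have : y * E a ∈ Ideal.span {y} :=
        Ideal.mul_mem_right _ _ (Ideal.subset_span rfl)
      have h5 := Ideal.sub_mem _ h3 this
      rwa [add_sub_cancel_right] at h5
    -- `(j+1) * E y` is a unit
    have hju : IsUnit (((j + 1 : ℕ) : A) * E y) := by
      refine IsUnit.mul ?_ hE
      have hne : ((j + 1 : ℕ) : k) ≠ 0 := by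
        intro h0
        have := (CharP.cast_eq_zero_iff k p (j + 1)).mp h0
        exact absurd (Nat.le_of_dvd (Nat.succ_pos j) this) (not_le.mpr hj)
      have : ((j + 1 : ℕ) : A) = algebraMap k A ((j + 1 : ℕ) : k) := by simp
      rw [this]
      exact (IsUnit.mk0 _ hne).map (algebraMap k A)
    obtain ⟨v, hv⟩ := hju
    have h6 : a = (a * ((j + 1 : ℕ) : A) * E y) * ↑v⁻¹ := by
      rw [mul_assoc a, ← hv, mul_assoc, Units.mul_inv, mul_one]
    rw [h6]
    exact Ideal.mul_mem_right _ _ h4

end Taylor

section Decomp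

variable {k : Type u} [Field k] {A : Type v} [CommRing A] [Algebra k A]

/-- partial Taylor sums -/
noncomputable def tsum (y : A) (s : (A ⧸ Ideal.span {y}) →ₗ[k] A) (c : ℕ → A ⧸ Ideal.span {y})
    (n : ℕ) : A := ∑ j ∈ Finset.range n, s (c j) * y ^ j

theorem tsum_succ' (y : A) (s : (A ⧸ Ideal.span {y}) →ₗ[k] A) (c : ℕ → A ⧸ Ideal.span {y})
    (n : ℕ) : tsum y s c (n + 1) = s (c 0) + y * tsum y s (fun j => c (j + 1)) n := by
  unfold tsum
  rw [Finset.sum_range_succ', pow_zero, mul_one, add_comm, Finset.mul_sum]
  congr 1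
  refine Finset.sum_congr rfl (fun j _ => ?_)
  rw [pow_succ]; ring

theorem tsum_inj (y : A) (s : (A ⧸ Ideal.span {y}) →ₗ[k] A)
    (hs : ∀ q, Ideal.Quotient.mk (Ideal.span {y}) (s q) = q) (p : ℕ)
    (h : ∀ j < p, ∀ a : A, a * y ^ j = 0 → a ∈ Ideal.span {y}) :
    ∀ (n j : ℕ) (c : ℕ → A ⧸ Ideal.span {y}), n + j ≤ p → tsum y s c n * y ^ j = 0 →
      ∀ i < n, c i = 0 := by
  intro n
  induction n with
  | zero => intro j c _ _ i hi; exact absurd hi (Nat.not_lt_zero _)
  | succ n ih =>
    intro j c hnj h0 i hi
    rw [tsum_succ'] at h0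
    have hjp : j < p := by omega
    have h1 := h j hjp _ h0
    have h2 : s (c 0) ∈ Ideal.span {y} := by
      have : y * tsum y s (fun j => c (j + 1)) n ∈ Ideal.span {y} :=
        Ideal.mul_mem_right _ _ (Ideal.subset_span rfl)
      have h3 := Ideal.sub_mem _ h1 this
      rwa [add_sub_cancel_right] at h3
    have hc0 : c 0 = 0 := by
      rw [← hs (c 0)]
      exact Ideal.Quotient.eq_zero_iff_mem.mpr h2
    rcases Nat.eq_zero_or_pos i with rfl | hipos
    · exact hc0
    · rw [hc0, map_zero, zero_add] at h0
      have h4 : tsum y s (fun j => c (j + 1)) n * y ^ (j + 1) = 0 := by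
        rw [pow_succ, ← h0]; ring
      have := ih (j + 1) (fun j => c (j + 1)) (by omega) h4 (i - 1) (by omega)
      simpa [Nat.sub_add_cancel hipos] using this

theorem tsum_surj (y : A) (s : (A ⧸ Ideal.span {y}) →ₗ[k] A)
    (hs : ∀ q, Ideal.Quotient.mk (Ideal.span {y}) (s q) = q) :
    ∀ (n : ℕ) (a : A), ∃ (c : ℕ → A ⧸ Ideal.span {y}) (r : A),
      (∀ j, n ≤ j → c j = 0) ∧ a = tsum y s c n + r * y ^ n := by
  classical
  intro n
  induction n with
  | zero => intro a; exact ⟨fun _ => 0, a, fun _ _ => rfl, by simp [tsum]⟩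
  | succ n ih =>
    intro a
    obtain ⟨c, r, hc, ha⟩ := ih a
    have h1 : r - s (Ideal.Quotient.mk _ r) ∈ Ideal.span {y} := by
      rw [← Ideal.Quotient.eq_zero_iff_mem, map_sub, hs, sub_self]
    obtain ⟨t, ht⟩ := Ideal.mem_span_singleton'.mp h1
    refine ⟨Function.update c n (Ideal.Quotient.mk _ r), t, ?_, ?_⟩
    · intro j hj
      rw [Function.update_of_ne (by omega)]
      exact hc j (by omega)
    · unfold tsum
      rw [Finset.sum_range_succ, Function.update_self]
      have h2 : ∑ j ∈ Finset.range n, s (Function.update c n (Ideal.Quotient.mk _ r) j) * y ^ j =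
          tsum y s c n := by
        unfold tsum
        refine Finset.sum_congr rfl (fun j hj => ?_)
        rw [Function.update_of_ne (Finset.mem_range.mp hj).ne]
      rw [h2, ha, pow_succ]
      have : r = s (Ideal.Quotient.mk _ r) + t * y := by rw [ht]; ring
      conv_lhs => rw [this]
      ring

/-- If `y ^ p = 0` and the annihilators of `y ^ j`, `j < p`, lie in `(y)`, then
`dim A = p · dim A/(y)`. -/
theorem finrank_eq_mul_of_taylor [Module.Finite k A] (y : A) (p : ℕ) (hy : y ^ p = 0)
    (h : ∀ j < p, ∀ a : A, a * y ^ j = 0 → a ∈ Ideal.span {y}) :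
    Module.finrank k A = p * Module.finrank k (A ⧸ Ideal.span {y}) := by
  classical
  have hπs : Function.Surjective (Ideal.Quotient.mkₐ k (Ideal.span {y})) :=
    Ideal.Quotient.mkₐ_surjective k _
  obtain ⟨s, hs⟩ := (Ideal.Quotient.mkₐ k (Ideal.span {y})).toLinearMap.exists_rightInverse_of_surjective
    (LinearMap.range_eq_top.mpr hπs)
  have hs' : ∀ q, Ideal.Quotient.mk (Ideal.span {y}) (s q) = q := fun q =>
    congrArg (fun f => f q) hs
  let ext : (Fin p → A ⧸ Ideal.span {y}) → ℕ → A ⧸ Ideal.span {y} :=
    fun c j => if hj : j < p then c ⟨j, hj⟩ else 0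
  let Φ : (Fin p → A ⧸ Ideal.span {y}) →ₗ[k] A :=
    ∑ j : Fin p, (LinearMap.mulRight k (y ^ (j : ℕ))) ∘ₗ s ∘ₗ
      (LinearMap.proj j : (Fin p → A ⧸ Ideal.span {y}) →ₗ[k] _)
  have hΦ : ∀ c, Φ c = tsum y s (ext c) p := by
    intro c
    unfold tsum
    rw [← Fin.sum_univ_eq_sum_range (fun j => s (ext c j) * y ^ j) p]
    simp only [Φ, LinearMap.sum_apply, LinearMap.comp_apply, LinearMap.proj_apply,
      LinearMap.mulRight_apply]
    refine Finset.sum_congr rfl (fun j _ => ?_)
    simp [ext]
  have hinj : Function.Injective Φ := by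
    rw [← LinearMap.ker_eq_bot, LinearMap.ker_eq_bot']
    intro c hc
    rw [hΦ] at hc
    have := tsum_inj y s hs' p h p 0 (ext c) (by omega) (by rw [hc, zero_mul])
    funext i
    have h1 := this i i.2
    simpa [ext] using h1
  have hsurj : Function.Surjective Φ := by
    intro a
    obtain ⟨c, r, hc, ha⟩ := tsum_surj y s hs' p a
    refine ⟨fun j => c j, ?_⟩
    rw [hΦ, ha, hy, mul_zero, add_zero]
    unfold tsum
    refine Finset.sum_congr rfl (fun j hj => ?_)
    have hj' := Finset.mem_range.mp hj
    simp [ext, hj']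
  haveI : Module.Finite k (A ⧸ Ideal.span {y}) :=
    Module.Finite.of_surjective (Ideal.Quotient.mkₐ k (Ideal.span {y})).toLinearMap hπs
  let e : (Fin p → A ⧸ Ideal.span {y}) ≃ₗ[k] A := LinearEquiv.ofBijective Φ ⟨hinj, hsurj⟩
  rw [← e.finrank_eq, Module.finrank_pi_fintype]
  simp

end Decomp

section HeightOneRing

variable {k : Type u} [Field k]

/-- The derivation induced on a quotient by a derivation preserving the ideal. -/
noncomputable def derQuot {A : Type v} [CommRing A] [Algebra k A] (I : Ideal A)
    (D : Derivation k A A) (hD : ∀ a ∈ I, D a ∈ I) : Derivation k (A ⧸ I) (A ⧸ I) :=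
  Derivation.mk' (Submodule.mapQ (I.restrictScalars k) (I.restrictScalars k) D.toLinearMap hD) (by
    intro a b
    obtain ⟨a, rfl⟩ := Ideal.Quotient.mk_surjective a
    obtain ⟨b, rfl⟩ := Ideal.Quotient.mk_surjective b
    change Ideal.Quotient.mk I (D (a * b)) =
      Ideal.Quotient.mk I a • Ideal.Quotient.mk I (D b) +
        Ideal.Quotient.mk I b • Ideal.Quotient.mk I (D a)
    rw [Derivation.leibniz]
    simp only [smul_eq_mul, map_add, map_mul])

theorem derQuot_mk {A : Type v} [CommRing A] [Algebra k A] (I : Ideal A)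
    (D : Derivation k A A) (hD : ∀ a ∈ I, D a ∈ I) (a : A) :
    derQuot I D hD (Ideal.Quotient.mk I a) = Ideal.Quotient.mk I (D a) := rfl

variable (p : ℕ) [hp : Fact p.Prime] [CharP k p]

/-- Ring-level structure theorem in height one: a finite-dimensional augmented algebra whose
augmentation ideal is generated by `d` elements of `p`-th power zero, admitting derivations dual to
these generators, has dimension `p ^ d`. -/
theorem finrank_eq_pow_of_derivations :
    ∀ (d : ℕ) (A : Type v) [CommRing A] [Algebra k A] [Module.Finite k A] (m : Ideal A)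
      (_ : ∀ a : A, ∃ c : k, a - algebraMap k A c ∈ m) (_ : (1 : A) ∉ m)
      (x : Fin d → A) (_ : m = Ideal.span (Set.range x)) (_ : ∀ i, x i ^ p = 0)
      (D : Fin d → Derivation k A A)
      (_ : ∀ i j, D i (x j) - (if i = j then 1 else 0) ∈ m),
      Module.finrank k A = p ^ d := by
  classical
  intro d
  induction d with
  | zero =>
    intro A _ _ _ m hm h1 x hx _ _ _
    have hm0 : m = ⊥ := by
      rw [hx]
      simp
    have hsurj : Function.Surjective (Algebra.linearMap k A) := by
      intro a
      obtain ⟨c, hc⟩ := hm a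
      rw [hm0, Ideal.mem_bot, sub_eq_zero] at hc
      exact ⟨c, hc.symm⟩
    haveI : Nontrivial A := by
      refine ⟨⟨1, 0, fun h => h1 ?_⟩⟩
      rw [h]; exact Ideal.zero_mem _
    have hinj : Function.Injective (Algebra.linearMap k A) := (algebraMap k A).injective
    let e : k ≃ₗ[k] A := LinearEquiv.ofBijective (Algebra.linearMap k A) ⟨hinj, hsurj⟩
    rw [← e.finrank_eq, Module.finrank_self, pow_zero]
  | succ d ih =>
    intro A _ _ _ m hm h1 x hx hxp D hD
    set y := x (Fin.last d) with hy
    set E := D (Fin.last d) with hE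
    have hxm : ∀ i, x i ∈ m := fun i => by rw [hx]; exact Ideal.subset_span ⟨i, rfl⟩
    have hmnil : ∀ a ∈ m, IsNilpotent a := by
      intro a ha
      have : m ≤ nilradical A := by
        rw [hx, Ideal.span_le]
        rintro _ ⟨i, rfl⟩
        exact mem_nilradical.mpr ⟨p, hxp i⟩
      exact mem_nilradical.mp (this ha)
    have hEy : IsUnit (E y) := by
      have h2 := hD (Fin.last d) (Fin.last d)
      rw [if_pos rfl] at h2
      have : E y = 1 + (E y - 1) := by ring
      rw [this]
      exact (hmnil _ h2).isUnit_one_add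
    obtain ⟨u, hu⟩ := hEy
    have hT := mem_span_of_mul_pow_eq_zero (k := k) p y E (hu ▸ u.isUnit)
    have hfin := finrank_eq_mul_of_taylor (k := k) y p (hxp _) hT
    rw [hfin, pow_succ, mul_comm]
    congr 1
    -- the quotient
    set I : Ideal A := Ideal.span {y} with hI
    have hyI : y ∈ I := Ideal.subset_span rfl
    have hIm : I ≤ m := by
      rw [hI, Ideal.span_le]
      rintro _ rfl
      exact hxm _
    -- modified derivations
    let D' : Fin d → Derivation k A A := fun i =>
      D (Fin.castSucc i) - (D (Fin.castSucc i) y * ↑u⁻¹) • E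
    have hD'y : ∀ i, D' i y = 0 := by
      intro i
      simp only [D', Derivation.sub_apply, Derivation.smul_apply, smul_eq_mul]
      rw [← hu, mul_assoc, Units.inv_mul, mul_one, sub_self]
    have hD'I : ∀ i, ∀ a ∈ I, D' i a ∈ I := by
      intro i a ha
      obtain ⟨t, rfl⟩ := Ideal.mem_span_singleton'.mp ha
      rw [Derivation.leibniz, hD'y, smul_zero, zero_add, smul_eq_mul]
      exact Ideal.mul_mem_right _ _ hyI
    have hDym : ∀ i : Fin d, D (Fin.castSucc i) y ∈ m := by
      intro i
      have h2 := hD (Fin.castSucc i) (Fin.last d)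
      rw [if_neg (Fin.castSucc_lt_last i).ne, sub_zero] at h2
      exact h2
    refine ih (A ⧸ I) (m.map (Ideal.Quotient.mk I)) ?_ ?_
      (fun i => Ideal.Quotient.mk I (x (Fin.castSucc i))) ?_ ?_
      (fun i => derQuot I (D' i) (hD'I i)) ?_
    · intro a
      obtain ⟨a, rfl⟩ := Ideal.Quotient.mk_surjective a
      obtain ⟨c, hc⟩ := hm a
      refine ⟨c, ?_⟩
      have := Ideal.mem_map_of_mem (Ideal.Quotient.mk I) hc
      rwa [map_sub, Ideal.Quotient.mk_algebraMap] at this
    · intro h
      obtain ⟨a, ha, ha1⟩ := (Ideal.mem_map_iff_of_surjective _ Ideal.Quotient.mk_surjective).mp h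
      have h2 : a - 1 ∈ I := by
        rw [← Ideal.Quotient.eq_zero_iff_mem, map_sub, ha1, map_one, sub_self]
      have h3 : (1 : A) = a - (a - 1) := by ring
      apply h1
      rw [h3]
      exact Ideal.sub_mem _ ha (hIm h2)
    · rw [hx, Ideal.map_span]
      apply le_antisymm
      · rw [Ideal.span_le]
        rintro _ ⟨_, ⟨i, rfl⟩, rfl⟩
        rcases Fin.eq_castSucc_or_eq_last i with ⟨j, rfl⟩ | rfl
        · exact Ideal.subset_span ⟨j, rfl⟩
        · have : Ideal.Quotient.mk I (x (Fin.last d)) = 0 :=
            Ideal.Quotient.eq_zero_iff_mem.mpr hyI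
          rw [SetLike.mem_coe, this]
          exact Ideal.zero_mem _
      · rw [Ideal.span_le]
        rintro _ ⟨i, rfl⟩
        exact Ideal.subset_span ⟨_, ⟨Fin.castSucc i, rfl⟩, rfl⟩
    · intro i
      rw [← map_pow, hxp, map_zero]
    · intro i j
      rw [derQuot_mk]
      have h2 : D' i (x (Fin.castSucc j)) - (if i = j then 1 else 0) ∈ m := by
        simp only [D', Derivation.sub_apply, Derivation.smul_apply, smul_eq_mul]
        have h3 := hD (Fin.castSucc i) (Fin.castSucc j)
        have h4 : (if Fin.castSucc i = Fin.castSucc j then (1 : A) else 0) =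
            (if i = j then 1 else 0) := by
          simp only [Fin.castSucc_inj]
        rw [h4] at h3
        have h5 : D (Fin.castSucc i) y * ↑u⁻¹ * E (x (Fin.castSucc j)) ∈ m :=
          Ideal.mul_mem_right _ _ (Ideal.mul_mem_right _ _ (hDym i))
        have := Ideal.sub_mem _ h3 h5
        convert this using 1
        ring
      have := Ideal.mem_map_of_mem (Ideal.Quotient.mk I) h2
      rw [map_sub] at this
      convert this using 2
      split_ifs <;> simp

end HeightOneRing

section DualFamily

variable {K : Type u} [Field K] {B : Type v} [CommRing B] [Algebra K B] (e : B →ₐ[K] K)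

/-- A dual family for the cotangent space at `e`, with the duality relations. -/
theorem exists_dual_family' [IsNoetherianRing B] :
    ∃ (n : ℕ) (x : Fin n → B) (ξ : Fin n → (B →ₗ[K] K)),
      (∀ i, x i ∈ RingHom.ker e) ∧ (∀ i, Cart.IsPtDer e (ξ i)) ∧
      (∀ i j, ξ i (x j) = if i = j then 1 else 0) ∧
        ∀ b ∈ RingHom.ker e, b - ∑ i, ξ i b • x i ∈ RingHom.ker e ^ 2 := by
  classical
  have := Cart.cotL_finite e
  let bs := Module.finBasis K (B ⧸ Cart.Nsq e)
  have hy : ∀ i, ∃ y : B, Cart.cotL e y = bs i := fun i =>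
    Submodule.mkQ_surjective (Cart.Nsq e) (bs i)
  choose y hy using hy
  have hx : ∀ i, Cart.cotL e (y i - (e (y i)) • (1 : B)) = bs i := by
    intro i
    rw [map_sub, map_smul, Cart.cotL_one, smul_zero, sub_zero, hy]
  refine ⟨_, fun i => y i - (e (y i)) • (1 : B),
    fun i => bs.coord i ∘ₗ Cart.cotL e, fun i => Cart.sub_apply_mem_ker e _, ?_, ?_, ?_⟩
  · intro i a b
    rw [LinearMap.comp_apply, Cart.cotL_mul, map_add, map_smul, map_smul]
    simp only [LinearMap.comp_apply, smul_eq_mul]
    ring
  · intro i j
    rw [LinearMap.comp_apply, hx, Module.Basis.coord_apply, Module.Basis.repr_self,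
      Finsupp.single_apply]
    simp only [eq_comm]
  · intro b hb
    apply Cart.mem_sq_of_cotL_eq_zero
    · refine Ideal.sub_mem _ hb (Ideal.sum_mem _ (fun i _ => ?_))
      exact Submodule.smul_of_tower_mem _ _ (Cart.sub_apply_mem_ker e _)
    · rw [map_sub, map_sum, sub_eq_zero]
      have h2 : ∀ i, Cart.cotL e ((bs.coord i ∘ₗ Cart.cotL e) b • (y i - (e (y i)) • (1 : B))) =
          bs.repr (Cart.cotL e b) i • bs i := by
        intro i
        rw [map_smul, hx]
        rfl
      rw [Finset.sum_congr rfl (fun i _ => h2 i)]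
      exact (bs.sum_repr _).symm

end DualFamily

section HeightOneHopf

variable {k : Type u} [Field k] (p : ℕ) [hp : Fact p.Prime] [CharP k p]
variable {A : Type v} [CommRing A] [HopfAlgebra k A] [Module.Finite k A]

/-- A finite-dimensional commutative Hopf algebra of height at most one (`x ^ p = 0` for every `x`
in the augmentation ideal) has dimension a power of `p`. -/
theorem finrank_eq_pow_of_height_one
    (h : ∀ x : A, CoalgebraStruct.counit (R := k) x = 0 → x ^ p = 0) :
    ∃ d : ℕ, Module.finrank k A = p ^ d := by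
  classical
  haveI : IsNoetherianRing A := IsNoetherianRing.of_finite k A
  set e : A →ₐ[k] k := Bialgebra.counitAlgHom k A with he
  obtain ⟨n, x, ξ, hxm, hξ, hξx, hspan⟩ := exists_dual_family' e
  set m : Ideal A := RingHom.ker e with hm
  have hmem : ∀ a : A, a ∈ m ↔ CoalgebraStruct.counit (R := k) a = 0 := fun a => Iff.rfl
  have hmnil : m ≤ nilradical A := by
    intro a ha
    exact mem_nilradical.mpr ⟨p, h a ((hmem a).mp ha)⟩
  -- `m` is generated by the `x i`
  have hgen : m = Ideal.span (Set.range x) := by
    apply le_antisymm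
    · have hfg : (m : Submodule A A).FG := IsNoetherian.noetherian m
      have hjac : m ≤ Ideal.jacobson ⊥ := by
        rw [Ideal.jacobson_bot]
        exact hmnil.trans (nilradical_le_jacobson A)
      apply Submodule.le_of_le_smul_of_le_jacobson_bot hfg hjac
      intro b hb
      have h1 := hspan b hb
      have h2 : ∑ i, ξ i b • x i ∈ Ideal.span (Set.range x) := by
        refine Ideal.sum_mem _ (fun i _ => ?_)
        rw [Algebra.smul_def]
        exact Ideal.mul_mem_left _ _ (Ideal.subset_span ⟨i, rfl⟩)
      have h3 : b = ∑ i, ξ i b • x i + (b - ∑ i, ξ i b • x i) := by ring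
      rw [h3]
      refine Submodule.add_mem_sup h2 ?_
      rw [Ideal.smul_eq_mul, ← pow_two]
      exact h1
    · rw [Ideal.span_le]
      rintro _ ⟨i, rfl⟩
      exact hxm i
  have hξ' : ∀ i, IsEpsDer (ξ i) := fun i a b => hξ i a b
  refine ⟨n, finrank_eq_pow_of_derivations (k := k) p n A m ?_ ?_ x hgen ?_
    (fun i => CartH.derT (ξ i) (hξ' i)) ?_⟩
  · intro a
    refine ⟨e a, ?_⟩
    rw [hm, RingHom.mem_ker, map_sub, AlgHom.commutes]
    simp
  · rw [hm, RingHom.mem_ker, map_one]
    exact one_ne_zero
  · intro i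
    exact h _ ((hmem _).mp (hxm i))
  · intro i j
    rw [hmem, map_sub]
    have h1 : CoalgebraStruct.counit (R := k) (CartH.derT (ξ i) (hξ' i) (x j)) = ξ i (x j) :=
      counit_T_regular' (ξ i) (x j)
    rw [h1, hξx]
    split_ifs <;> simp

end HeightOneHopf

section CharPHelpers

variable {k : Type u} [Field k] (p : ℕ) [hp : Fact p.Prime] [CharP k p]

theorem charP_of_algHom {R : Type v} [CommRing R] [Algebra k R] (g : R →ₐ[k] k) : CharP R p := by
  haveI : Nontrivial R := g.toRingHom.domain_nontrivial
  exact charP_of_injective_algebraMap (algebraMap k R).injective p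

end CharPHelpers

theorem charP_hopf (k : Type u) [Field k] (p : ℕ) [Fact p.Prime] [CharP k p]
    (A : Type v) [CommRing A] [HopfAlgebra k A] : CharP A p :=
  charP_of_algHom p (Bialgebra.counitAlgHom k A)

theorem charP_hopf_tensor (k : Type u) [Field k] (p : ℕ) [Fact p.Prime] [CharP k p]
    (A : Type v) [CommRing A] [HopfAlgebra k A] : CharP (A ⊗[k] A) p :=
  charP_of_algHom p ((Algebra.TensorProduct.lmul' k (S := k)).comp
    (Algebra.TensorProduct.map (Bialgebra.counitAlgHom k A) (Bialgebra.counitAlgHom k A)))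


section Frobenius

variable {k : Type u} [Field k] (p : ℕ) [hp : Fact p.Prime] [CharP k p]
variable {A : Type v} [CommRing A] [HopfAlgebra k A]

/-- The image of Frobenius, a subalgebra when `k` is perfect. -/
noncomputable def frobSub (hperf : Function.Surjective (frobenius k p)) : Subalgebra k A where
  carrier := {b | ∃ a : A, a ^ p = b}
  mul_mem' := by
    rintro _ _ ⟨a, rfl⟩ ⟨b, rfl⟩
    exact ⟨a * b, mul_pow a b p⟩
  one_mem' := ⟨1, one_pow p⟩
  add_mem' := by
    rintro _ _ ⟨a, rfl⟩ ⟨b, rfl⟩
    haveI := charP_hopf k p A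
    exact ⟨a + b, add_pow_char a b p⟩
  zero_mem' := ⟨0, zero_pow hp.out.ne_zero⟩
  algebraMap_mem' := fun c => by
    obtain ⟨d, hd⟩ := hperf c
    refine ⟨algebraMap k A d, ?_⟩
    rw [← map_pow, ← hd]
    rfl

theorem mem_frobSub (hperf : Function.Surjective (frobenius k p)) {b : A} :
    b ∈ frobSub (A := A) p hperf ↔ ∃ a : A, a ^ p = b := Iff.rfl

theorem pow_mem_frobSub (hperf : Function.Surjective (frobenius k p)) (a : A) :
    a ^ p ∈ frobSub (A := A) p hperf := ⟨a, rfl⟩

/-- `frobSub` is a (right) coideal subalgebra. -/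
theorem comul_mem_of_mem_frobSub (hperf : Function.Surjective (frobenius k p)) :
    ∀ b ∈ frobSub (A := A) p hperf, CoalgebraStruct.comul (R := k) b ∈
      LinearMap.range ((frobSub (A := A) p hperf).val.toLinearMap.lTensor A) := by
  rintro _ ⟨a, rfl⟩
  haveI := charP_hopf_tensor k p A
  have h1 : CoalgebraStruct.comul (R := k) (a ^ p) = (CoalgebraStruct.comul (R := k) a) ^ p := by
    rw [← Bialgebra.comulAlgHom_apply, map_pow, Bialgebra.comulAlgHom_apply]
  rw [h1]
  generalize CoalgebraStruct.comul (R := k) a = z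
  induction z using TensorProduct.induction_on with
  | zero =>
    rw [zero_pow hp.out.ne_zero]
    exact Submodule.zero_mem _
  | add z₁ z₂ h₁ h₂ =>
    rw [add_pow_char]
    exact Submodule.add_mem _ h₁ h₂
  | tmul x y =>
    refine ⟨(x ^ p) ⊗ₜ[k] ⟨y ^ p, pow_mem_frobSub p hperf y⟩, ?_⟩
    rw [LinearMap.lTensor_tmul, Algebra.TensorProduct.tmul_pow]
    rfl

/-- The ideal of the Frobenius kernel: generated by the `p`-th powers of the augmentation ideal. -/
noncomputable def frobIdeal (hperf : Function.Surjective (frobenius k p)) : Ideal A :=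
  Ideal.span {a : A | a ∈ frobSub (A := A) p hperf ∧ CoalgebraStruct.counit (R := k) a = 0}

theorem pow_mem_frobIdeal (hperf : Function.Surjective (frobenius k p)) {a : A}
    (ha : CoalgebraStruct.counit (R := k) a = 0) : a ^ p ∈ frobIdeal (A := A) p hperf := by
  apply Ideal.subset_span
  refine ⟨pow_mem_frobSub p hperf a, ?_⟩
  rw [← Bialgebra.counitAlgHom_apply, map_pow, Bialgebra.counitAlgHom_apply, ha,
    zero_pow hp.out.ne_zero]

theorem frobIdeal_le_of_forall (hperf : Function.Surjective (frobenius k p)) (J : Ideal A)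
    (hJ : ∀ a : A, CoalgebraStruct.counit (R := k) a = 0 → a ^ p ∈ J) :
    frobIdeal (A := A) p hperf ≤ J := by
  unfold frobIdeal
  rw [Ideal.span_le]
  rintro _ ⟨⟨a, rfl⟩, h0⟩
  apply hJ
  rw [← Bialgebra.counitAlgHom_apply, map_pow, Bialgebra.counitAlgHom_apply] at h0
  exact pow_eq_zero_iff hp.out.ne_zero |>.mp h0

theorem frobIdeal_le_augI (hperf : Function.Surjective (frobenius k p)) :
    frobIdeal (A := A) p hperf ≤ augI k A := by
  apply frobIdeal_le_of_forall
  intro a ha
  change Bialgebra.counitAlgHom k A (a ^ p) = 0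
  rw [map_pow, Bialgebra.counitAlgHom_apply, ha, zero_pow hp.out.ne_zero]

instance isHopfIdeal_frobIdeal (hperf : Function.Surjective (frobenius k p)) :
    (frobIdeal (A := A) p hperf).IsHopfIdeal k where
  counit_eq_zero := by
    intro x hx
    exact frobIdeal_le_augI p hperf hx
  map_mkQ_comul_eq_zero := by
    set I := frobIdeal (A := A) p hperf with hI
    have key : ∀ x ∈ I, (Algebra.TensorProduct.map (Ideal.Quotient.mkₐ k I)
        (Ideal.Quotient.mkₐ k I)) (Bialgebra.comulAlgHom k A x) = 0 := by
      haveI := charP_hopf_tensor k p A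
      set ψ : A →ₐ[k] (A ⧸ I) ⊗[k] (A ⧸ I) :=
        (Algebra.TensorProduct.map (Ideal.Quotient.mkₐ k I) (Ideal.Quotient.mkₐ k I)).comp
          (Bialgebra.comulAlgHom k A) with hψ
      have hle : I ≤ RingHom.ker ψ := by
        apply frobIdeal_le_of_forall
        intro a ha
        rw [RingHom.mem_ker, hψ, AlgHom.comp_apply, map_pow]
        -- `Δ a` lies in `m ⊗ A + A ⊗ m`
        have h1 := comul_mem_sup_of_mem_augI a (show a ∈ augI k A from ha)
        set P := Algebra.TensorProduct.map (Ideal.Quotient.mkₐ k I) (Ideal.Quotient.mkₐ k I)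
          with hP
        have h2 : (augI k A).map (Algebra.TensorProduct.includeLeft : A →ₐ[k] A ⊗[k] A) ⊔
            (augI k A).map (Algebra.TensorProduct.includeRight : A →ₐ[k] A ⊗[k] A) ≤
            Ideal.comap (frobenius (A ⊗[k] A) p) (RingHom.ker P) := by
          rw [sup_le_iff, Ideal.map_le_iff_le_comap, Ideal.map_le_iff_le_comap]
          constructor
          · intro b hb
            rw [Ideal.mem_comap, Ideal.mem_comap, RingHom.mem_ker, frobenius_def]
            change P ((b ⊗ₜ[k] (1 : A)) ^ p) = 0
            rw [Algebra.TensorProduct.tmul_pow, hP, Algebra.TensorProduct.map_tmul]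
            have : Ideal.Quotient.mkₐ k I (b ^ p) = 0 := by
              rw [Ideal.Quotient.mkₐ_eq_mk, Ideal.Quotient.eq_zero_iff_mem]
              exact pow_mem_frobIdeal p hperf hb
            rw [this, TensorProduct.zero_tmul]
          · intro b hb
            rw [Ideal.mem_comap, Ideal.mem_comap, RingHom.mem_ker, frobenius_def]
            change P (((1 : A) ⊗ₜ[k] b) ^ p) = 0
            rw [Algebra.TensorProduct.tmul_pow, hP, Algebra.TensorProduct.map_tmul]
            have : Ideal.Quotient.mkₐ k I (b ^ p) = 0 := by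
              rw [Ideal.Quotient.mkₐ_eq_mk, Ideal.Quotient.eq_zero_iff_mem]
              exact pow_mem_frobIdeal p hperf hb
            rw [this, TensorProduct.tmul_zero]
        have h3 := h2 h1
        rwa [Ideal.mem_comap, RingHom.mem_ker, frobenius_def] at h3
      intro x hx
      exact hle hx
    intro x hx
    exact key x hx
  antipode_mem := by
    intro x hx
    have hle : frobIdeal (A := A) p hperf ≤
        Ideal.comap (HopfAlgebra.antipodeAlgHom k A) (frobIdeal (A := A) p hperf) := by
      apply frobIdeal_le_of_forall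
      intro a ha
      rw [Ideal.mem_comap, map_pow]
      apply pow_mem_frobIdeal
      change CoalgebraStruct.counit (R := k) (HopfAlgebra.antipode k a) = 0
      rw [HopfAlgebra.counit_antipode, ha]
    exact hle hx

end Frobenius

section FrobQuot

variable {k : Type u} [Field k] (p : ℕ) [hp : Fact p.Prime] [CharP k p]
variable {A : Type v} [CommRing A] [HopfAlgebra k A]

/-- The quotient by `frobIdeal` has height at most one. -/
theorem pow_eq_zero_of_counit_quot (hperf : Function.Surjective (frobenius k p))
    (x : A ⧸ frobIdeal (A := A) p hperf) (hx : CoalgebraStruct.counit (R := k) x = 0) :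
    x ^ p = 0 := by
  obtain ⟨a, rfl⟩ := Ideal.Quotient.mk_surjective x
  rw [Bialgebra.Quotient.counit_mk] at hx
  rw [← map_pow, Ideal.Quotient.eq_zero_iff_mem]
  exact pow_mem_frobIdeal p hperf hx

/-- Nilpotency of the augmentation ideal passes to Hopf quotients. -/
theorem isNilpotent_of_counit_quot (I : Ideal A) [I.IsHopfIdeal k]
    (hnil : ∀ x : A, CoalgebraStruct.counit (R := k) x = 0 → IsNilpotent x)
    (x : A ⧸ I) (hx : CoalgebraStruct.counit (R := k) x = 0) : IsNilpotent x := by
  obtain ⟨a, rfl⟩ := Ideal.Quotient.mk_surjective x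
  rw [Bialgebra.Quotient.counit_mk] at hx
  exact (hnil a hx).map (Ideal.Quotient.mk I)

/-- The kernel of Frobenius. -/
noncomputable def frobKer : Ideal A :=
  haveI := charP_hopf k p A
  RingHom.ker (frobenius A p)

theorem mem_frobKer {a : A} : a ∈ frobKer (k := k) (A := A) p ↔ a ^ p = 0 := Iff.rfl

end FrobQuot

section FrobKer

variable {k : Type u} [Field k] (p : ℕ) [hp : Fact p.Prime] [CharP k p]
variable {A : Type v} [CommRing A] [HopfAlgebra k A]

theorem smul_pow_char (c : k) (a : A) : (c • a) ^ p = (c ^ p) • a ^ p := by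
  rw [Algebra.smul_def, mul_pow, ← map_pow, ← Algebra.smul_def]

/-- Lifts of a basis of `A ⧸ frobKer` have linearly independent `p`-th powers. -/
theorem linearIndependent_pow_of_basis (hperf : Function.Surjective (frobenius k p))
    {r : ℕ} (bs : Module.Basis (Fin r) k (A ⧸ frobKer (k := k) (A := A) p)) (b : Fin r → A)
    (hb : ∀ i, Ideal.Quotient.mk _ (b i) = bs i) :
    LinearIndependent k (fun i => b i ^ p) := by
  haveI := charP_hopf k p A
  rw [Fintype.linearIndependent_iff]
  intro c hc
  have hd : ∀ i, ∃ d : k, d ^ p = c i := fun i => hperf (c i)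
  choose d hd using hd
  have h1 : (∑ i, d i • b i) ^ p = 0 := by
    rw [sum_pow_char, ← hc]
    refine Finset.sum_congr rfl (fun i _ => ?_)
    rw [smul_pow_char, hd]
  have h2 : ∑ i, d i • b i ∈ frobKer (k := k) (A := A) p := (mem_frobKer p).mpr h1
  have h3 : ∑ i, d i • bs i = 0 := by
    have := Ideal.Quotient.eq_zero_iff_mem.mpr h2
    rw [map_sum] at this
    rw [← this]
    refine Finset.sum_congr rfl (fun i _ => ?_)
    rw [← hb]
    rfl
  have h4 := Fintype.linearIndependent_iff.mp bs.linearIndependent d h3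
  intro i
  rw [← hd, h4 i, zero_pow hp.out.ne_zero]

/-- The image of Frobenius is spanned by the `p`-th powers of lifts of a basis of `A ⧸ frobKer`. -/
theorem frobSub_eq_span (hperf : Function.Surjective (frobenius k p))
    {r : ℕ} (bs : Module.Basis (Fin r) k (A ⧸ frobKer (k := k) (A := A) p)) (b : Fin r → A)
    (hb : ∀ i, Ideal.Quotient.mk _ (b i) = bs i) :
    Subalgebra.toSubmodule (frobSub (A := A) p hperf) =
      Submodule.span k (Set.range (fun i => b i ^ p)) := by
  haveI := charP_hopf k p A
  apply le_antisymm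
  · rintro _ ⟨a, rfl⟩
    set q := Ideal.Quotient.mk (frobKer (k := k) (A := A) p) a with hq
    have h1 : a - ∑ i, bs.repr q i • b i ∈ frobKer (k := k) (A := A) p := by
      rw [← Ideal.Quotient.eq_zero_iff_mem, map_sub, map_sum]
      have : ∑ i, Ideal.Quotient.mk (frobKer (k := k) (A := A) p) (bs.repr q i • b i) =
          ∑ i, bs.repr q i • bs i := by
        refine Finset.sum_congr rfl (fun i _ => ?_)
        rw [← hb]
        rfl
      rw [this, bs.sum_repr, sub_self]
    have h2 := (mem_frobKer p).mp h1
    rw [sub_pow_char, sub_eq_zero] at h2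
    rw [h2, sum_pow_char]
    refine Submodule.sum_mem _ (fun i _ => ?_)
    rw [smul_pow_char]
    exact Submodule.smul_mem _ _ (Submodule.subset_span ⟨i, rfl⟩)
  · rw [Submodule.span_le]
    rintro _ ⟨i, rfl⟩
    exact pow_mem_frobSub p hperf (b i)

theorem finrank_frobSub [Module.Finite k A] (hperf : Function.Surjective (frobenius k p)) :
    Module.finrank k (frobSub (A := A) p hperf) =
      Module.finrank k (A ⧸ frobKer (k := k) (A := A) p) := by
  classical
  let bs := Module.finBasis k (A ⧸ frobKer (k := k) (A := A) p)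
  have hb : ∀ i, ∃ a : A, Ideal.Quotient.mk _ a = bs i := fun i =>
    Ideal.Quotient.mk_surjective (bs i)
  choose b hb using hb
  have h1 := frobSub_eq_span p hperf bs b hb
  have h2 := finrank_span_eq_card (linearIndependent_pow_of_basis p hperf bs b hb)
  rw [← h1, Fintype.card_fin] at h2
  exact h2

end FrobKer

section FrobKerHopf

variable {k : Type u} [Field k] (p : ℕ) [hp : Fact p.Prime] [CharP k p]
variable {A : Type v} [CommRing A] [HopfAlgebra k A]

/-- Over a perfect field, an element of `A ⊗ A` with vanishing `p`-th power dies in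
`A/𝔣 ⊗ A/𝔣`, where `𝔣` is the kernel of Frobenius. -/
theorem map_mk_eq_zero_of_pow_eq_zero [Module.Finite k A]
    (hperf : Function.Surjective (frobenius k p)) (z : A ⊗[k] A) (hz : z ^ p = 0) :
    (Algebra.TensorProduct.map (Ideal.Quotient.mkₐ k (frobKer (k := k) (A := A) p))
      (Ideal.Quotient.mkₐ k (frobKer (k := k) (A := A) p))) z = 0 := by
  classical
  haveI := charP_hopf k p A
  haveI := charP_hopf_tensor k p A
  set 𝔣 := frobKer (k := k) (A := A) p with h𝔣
  set P := Algebra.TensorProduct.map (Ideal.Quotient.mkₐ k 𝔣) (Ideal.Quotient.mkₐ k 𝔣) with hP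
  let bs := Module.finBasis k (A ⧸ 𝔣)
  have hb : ∀ i, ∃ a : A, Ideal.Quotient.mk 𝔣 a = bs i := fun i =>
    Ideal.Quotient.mk_surjective (bs i)
  choose b hb using hb
  obtain ⟨c, hc⟩ := TensorProduct.eq_repr_basis_right bs (P z)
  have hx : ∀ i, ∃ a : A, Ideal.Quotient.mk 𝔣 a = c i := fun i =>
    Ideal.Quotient.mk_surjective (c i)
  choose x hx using hx
  set w : A ⊗[k] A := ∑ i, x i ⊗ₜ[k] b i with hw
  have hPw : P w = P z := by
    rw [hw, map_sum, ← hc, Finsupp.sum_fintype _ _ (fun i => by simp)]
    refine Finset.sum_congr rfl (fun i _ => ?_)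
    rw [hP, Algebra.TensorProduct.map_tmul]
    simp only [Ideal.Quotient.mkₐ_eq_mk, hx, hb]
  -- `z - w` lies in the kernel of `P`, whose elements have `p`-th power zero
  have hker : RingHom.ker P ≤ Ideal.comap (frobenius (A ⊗[k] A) p) ⊥ := by
    have hs : Function.Surjective (Ideal.Quotient.mkₐ k 𝔣) := Ideal.Quotient.mkₐ_surjective k 𝔣
    rw [hP, Algebra.TensorProduct.map_ker _ _ hs hs, sup_le_iff, Ideal.map_le_iff_le_comap,
      Ideal.map_le_iff_le_comap]
    have hk : ∀ a, a ∈ RingHom.ker (Ideal.Quotient.mkₐ k 𝔣) → a ^ p = 0 := by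
      intro a ha
      rw [RingHom.mem_ker, Ideal.Quotient.mkₐ_eq_mk, Ideal.Quotient.eq_zero_iff_mem] at ha
      exact (mem_frobKer (k := k) p).mp ha
    constructor
    · intro a ha
      rw [Ideal.mem_comap, Ideal.mem_comap, Ideal.mem_bot, frobenius_def]
      change (a ⊗ₜ[k] (1 : A)) ^ p = 0
      rw [Algebra.TensorProduct.tmul_pow, hk a ha, TensorProduct.zero_tmul]
    · intro a ha
      rw [Ideal.mem_comap, Ideal.mem_comap, Ideal.mem_bot, frobenius_def]
      change ((1 : A) ⊗ₜ[k] a) ^ p = 0
      rw [Algebra.TensorProduct.tmul_pow, hk a ha, TensorProduct.tmul_zero]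
  have h1 : (z - w) ^ p = 0 := by
    have : z - w ∈ RingHom.ker P := by rw [RingHom.mem_ker, map_sub, hPw, sub_self]
    have h2 := hker this
    rwa [Ideal.mem_comap, Ideal.mem_bot, frobenius_def] at h2
  have h2 : w ^ p = 0 := by
    rw [sub_pow_char, hz, zero_sub, neg_eq_zero] at h1
    exact h1
  have h3 : ∑ i, (x i ^ p) ⊗ₜ[k] (b i ^ p) = 0 := by
    rw [← h2, hw, sum_pow_char]
    refine Finset.sum_congr rfl (fun i _ => ?_)
    rw [Algebra.TensorProduct.tmul_pow]
  -- linear independence of the `b i ^ p`
  have hli := linearIndependent_pow_of_basis p hperf bs b hb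
  let W := Submodule.span k (Set.range (fun i => b i ^ p))
  let bW : Module.Basis _ k W := Module.Basis.span hli
  have hbW : ∀ i, (bW i : A) = b i ^ p := fun i => by
    exact Module.Basis.coe_span_apply hli i
  have h4 : ∑ i, (x i ^ p) ⊗ₜ[k] (bW i) = 0 := by
    have hinj : Function.Injective (W.subtype.lTensor A) :=
      Module.Flat.lTensor_preserves_injective_linearMap _ W.injective_subtype
    apply hinj
    rw [map_sum, map_zero, ← h3]
    refine Finset.sum_congr rfl (fun i _ => ?_)
    rw [LinearMap.lTensor_tmul, Submodule.subtype_apply, hbW]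
  have h5 : (Finsupp.equivFunOnFinite.symm (fun i => x i ^ p) : _ →₀ A) = 0 := by
    apply TensorProduct.sum_tmul_basis_right_eq_zero bW
    rw [Finsupp.sum_fintype _ _ (fun i => by simp)]
    simpa using h4
  have h6 : ∀ i, x i ^ p = 0 := by
    intro i
    have := congrArg (fun f : _ →₀ A => f i) h5
    simpa using this
  have h7 : ∀ i, c i = 0 := by
    intro i
    rw [← hx, Ideal.Quotient.eq_zero_iff_mem]
    exact (mem_frobKer (k := k) p).mpr (h6 i)
  rw [← hc, Finsupp.sum_fintype _ _ (fun i => by simp)]
  refine Finset.sum_eq_zero (fun i _ => ?_)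
  rw [h7, TensorProduct.zero_tmul]

theorem isHopfIdeal_frobKer [Module.Finite k A] (hperf : Function.Surjective (frobenius k p)) :
    (frobKer (k := k) (A := A) p).IsHopfIdeal k where
  counit_eq_zero := by
    intro x hx
    have h1 : x ^ p = 0 := (mem_frobKer (k := k) p).mp hx
    have h2 := congrArg (Bialgebra.counitAlgHom k A) h1
    rw [map_pow, map_zero] at h2
    exact pow_eq_zero_iff hp.out.ne_zero |>.mp h2
  map_mkQ_comul_eq_zero := by
    intro x hx
    have h1 : x ^ p = 0 := (mem_frobKer (k := k) p).mp hx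
    have h2 : (Bialgebra.comulAlgHom k A x) ^ p = 0 := by rw [← map_pow, h1, map_zero]
    exact map_mk_eq_zero_of_pow_eq_zero p hperf _ h2
  antipode_mem := by
    intro x hx
    have h1 : x ^ p = 0 := (mem_frobKer (k := k) p).mp hx
    apply (mem_frobKer (k := k) p).mpr
    have h2 := congrArg (HopfAlgebra.antipodeAlgHom k A) h1
    rw [map_pow, map_zero] at h2
    exact h2

end FrobKerHopf

section PPower

variable {k : Type u} [Field k] (p : ℕ) [hp : Fact p.Prime] [CharP k p]

theorem finrank_quot_lt {A : Type v} [CommRing A] [Algebra k A] [Module.Finite k A]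
    (I : Ideal A) (hI : I ≠ ⊥) : Module.finrank k (A ⧸ I) < Module.finrank k A := by
  have h1 := LinearMap.finrank_range_add_finrank_ker (Ideal.Quotient.mkₐ k I).toLinearMap
  have h2 : LinearMap.range (Ideal.Quotient.mkₐ k I).toLinearMap = ⊤ :=
    LinearMap.range_eq_top.mpr (Ideal.Quotient.mkₐ_surjective k I)
  rw [h2, finrank_top] at h1
  have h3 : 0 < Module.finrank k (LinearMap.ker (Ideal.Quotient.mkₐ k I).toLinearMap) := by
    rw [Module.finrank_pos_iff_exists_ne_zero]
    obtain ⟨x, hx, hx0⟩ := Submodule.exists_mem_ne_zero_of_ne_bot hI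
    refine ⟨⟨x, ?_⟩, ?_⟩
    · rw [LinearMap.mem_ker]
      exact Ideal.Quotient.eq_zero_iff_mem.mpr hx
    · intro h
      exact hx0 (congrArg Subtype.val h)
  omega

theorem finrank_eq_one_of_augI_eq_bot {A : Type v} [CommRing A] [HopfAlgebra k A]
    (h : ∀ x : A, CoalgebraStruct.counit (R := k) x = 0 → x = 0) : Module.finrank k A = 1 := by
  have hsurj : Function.Surjective (Algebra.linearMap k A) := by
    intro a
    refine ⟨CoalgebraStruct.counit (R := k) a, ?_⟩
    have := h (a - algebraMap k A (CoalgebraStruct.counit (R := k) a)) (by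
      rw [map_sub, Bialgebra.counit_algebraMap, sub_self])
    rw [sub_eq_zero] at this
    exact this.symm
  haveI : Nontrivial A := (Bialgebra.counitAlgHom k A).toRingHom.domain_nontrivial
  have hinj : Function.Injective (Algebra.linearMap k A) := (algebraMap k A).injective
  let e : k ≃ₗ[k] A := LinearEquiv.ofBijective (Algebra.linearMap k A) ⟨hinj, hsurj⟩
  rw [← e.finrank_eq, Module.finrank_self]

/-- The order of an infinitesimal group scheme over a perfect field of characteristic `p` is a
power of `p`. -/
theorem finrank_eq_pow_of_nilpotent (hperf : Function.Surjective (frobenius k p)) :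
    ∀ (n : ℕ) (A : Type v) [CommRing A] [HopfAlgebra k A] [Module.Finite k A],
      (∀ x : A, CoalgebraStruct.counit (R := k) x = 0 → IsNilpotent x) →
      Module.finrank k A = n → ∃ r : ℕ, n = p ^ r := by
  intro n
  induction n using Nat.strong_induction_on with
  | _ n ih =>
    intro A _ _ _ hnil hn
    -- Lagrange
    have hL := finrank_eq_mul_of_coideal (k := k) hnil (frobSub (A := A) p hperf)
      (comul_mem_of_mem_frobSub p hperf) (frobIdeal (A := A) p hperf) rfl
    haveI : Module.Finite k (A ⧸ frobIdeal (A := A) p hperf) :=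
      Module.Finite.of_surjective (Ideal.Quotient.mkₐ k _).toLinearMap
        (Ideal.Quotient.mkₐ_surjective k _)
    obtain ⟨d, hd⟩ := finrank_eq_pow_of_height_one (k := k) p
      (A := A ⧸ frobIdeal (A := A) p hperf) (pow_eq_zero_of_counit_quot p hperf)
    rw [hd, finrank_frobSub p hperf, hn] at hL
    by_cases hker : frobKer (k := k) (A := A) p = ⊥
    · -- Frobenius injective: the augmentation ideal vanishes
      have h0 : ∀ x : A, CoalgebraStruct.counit (R := k) x = 0 → x = 0 := by
        intro x hx
        obtain ⟨N, hN⟩ := hnil x hx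
        have key : ∀ j : ℕ, x ^ p ^ j = 0 → x = 0 := by
          intro j
          induction j with
          | zero => intro h; simpa using h
          | succ j ihj =>
            intro h
            apply ihj
            have : x ^ p ^ j ∈ frobKer (k := k) (A := A) p := by
              rw [mem_frobKer, ← pow_mul, ← pow_succ]
              exact h
            rw [hker] at this
            exact this
        apply key N
        have hle : N ≤ p ^ N := (Nat.lt_pow_self hp.out.one_lt).le
        rw [← Nat.sub_add_cancel hle, pow_add, hN, mul_zero]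
      refine ⟨0, ?_⟩
      rw [← hn, finrank_eq_one_of_augI_eq_bot h0, pow_zero]
    · haveI := isHopfIdeal_frobKer (k := k) (A := A) p hperf
      haveI : Module.Finite k (A ⧸ frobKer (k := k) (A := A) p) :=
        Module.Finite.of_surjective (Ideal.Quotient.mkₐ k _).toLinearMap
          (Ideal.Quotient.mkₐ_surjective k _)
      have hlt : Module.finrank k (A ⧸ frobKer (k := k) (A := A) p) < n := by
        rw [← hn]
        exact finrank_quot_lt _ hker
      obtain ⟨r, hr⟩ := ih _ hlt (A ⧸ frobKer (k := k) (A := A) p)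
        (isNilpotent_of_counit_quot _ hnil) rfl
      refine ⟨r + d, ?_⟩
      rw [hL, hr, pow_add]

end PPower

section NilpotentIdeal

variable {k : Type u} [Field k] {A : Type v} [CommRing A] [Algebra k A] [Module.Finite k A]

/-- In a finite-dimensional algebra, a nil ideal is nilpotent of index at most the dimension. -/
theorem pow_finrank_eq_bot_of_nil (m : Ideal A) (hm : ∀ x ∈ m, IsNilpotent x) :
    m ^ Module.finrank k A = ⊥ := by
  haveI : IsNoetherianRing A := IsNoetherianRing.of_finite k A
  have hjac : m ≤ Ideal.jacobson ⊥ := by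
    intro x hx
    rw [Ideal.jacobson_bot]
    exact (nilradical_le_jacobson A) (mem_nilradical.mpr (hm x hx))
  have key : ∀ i : ℕ, m ^ i = ⊥ ∨
      Module.finrank k ((m ^ i).restrictScalars k) + i ≤ Module.finrank k A := by
    intro i
    induction i with
    | zero =>
      right
      rw [pow_zero, Ideal.one_eq_top, Submodule.restrictScalars_top, finrank_top, add_zero]
    | succ i ih =>
      rcases ih with h0 | h1
      · left
        rw [pow_succ, h0, Ideal.bot_mul]
      · by_cases hz : m ^ i = ⊥
        · left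
          rw [pow_succ, hz, Ideal.bot_mul]
        · right
          have hle : m ^ (i + 1) ≤ m ^ i := Ideal.pow_le_pow_right (Nat.le_succ i)
          have hne : m ^ (i + 1) ≠ m ^ i := by
            intro heq
            apply hz
            apply Submodule.eq_bot_of_le_smul_of_le_jacobson_bot m (m ^ i)
              (IsNoetherian.noetherian _) _ hjac
            rw [Ideal.smul_eq_mul, mul_comm, ← pow_succ, heq]
          have hlt : (m ^ (i + 1)).restrictScalars k < (m ^ i).restrictScalars k := by
            refine lt_of_le_of_ne (fun x hx => hle hx) (fun heq => hne ?_)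
            exact Submodule.restrictScalars_injective k _ _ heq
          have := Submodule.finrank_lt_finrank_of_lt hlt
          omega
  rcases key (Module.finrank k A) with h | h
  · exact h
  · have h0 : Module.finrank k ((m ^ Module.finrank k A).restrictScalars k) = 0 := by omega
    have h1 := Submodule.finrank_eq_zero.mp h0
    exact Submodule.restrictScalars_injective k _ _ (by rw [h1]; rfl)

end NilpotentIdeal

section ConvImage

variable {k : Type u} [Field k] {A : Type v} [CommRing A] [Bialgebra k A]

theorem convMul_apply_mem (f g : WithConv (A →ₗ[k] A)) (J J' : Ideal A)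
    (hf : ∀ a, f a ∈ J) (hg : ∀ a, g a ∈ J') (a : A) : (f * g) a ∈ J * J' := by
  rw [LinearMap.convMul_apply]
  generalize CoalgebraStruct.comul (R := k) a = z
  induction z using TensorProduct.induction_on with
  | zero => simp
  | add x y hx hy =>
    rw [map_add, map_add]
    exact Ideal.add_mem _ hx hy
  | tmul x y =>
    rw [TensorProduct.map_tmul, LinearMap.mul'_apply]
    exact Ideal.mul_mem_mul (hf x) (hg y)

theorem convPow_apply_mem (f : WithConv (A →ₗ[k] A)) (J : Ideal A)
    (hf : ∀ a, f a ∈ J) (n : ℕ) (a : A) : (f ^ n) a ∈ J ^ n := by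
  induction n generalizing a with
  | zero => rw [pow_zero, Ideal.one_eq_top]; trivial
  | succ n ih =>
    rw [pow_succ, pow_succ]
    exact convMul_apply_mem (f ^ n) f (J ^ n) J ih hf a

end ConvImage

section LocalKilled

variable {k : Type u} [Field k] (p : ℕ) [hp : Fact p.Prime] [CharP k p]
variable {A : Type v} [CommRing A] [HopfAlgebra k A] [Module.Finite k A]

/-- If the augmentation ideal has vanishing `p ^ r`-th power, the `p ^ r`-th convolution power
of the identity is the unit. -/
theorem convPow_id_eq_one_of_pow_eq_bot (r : ℕ) (h : augI k A ^ p ^ r = ⊥) :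
    (toConv (AlgHom.id k A)) ^ p ^ r = 1 := by
  -- work in the convolution algebra of linear maps
  haveI : Nontrivial (WithConv (A →ₗ[k] A)) := by
    refine ⟨⟨1, 0, fun h0 => ?_⟩⟩
    have h1 := congrArg (fun f : WithConv (A →ₗ[k] A) => f 1) h0
    haveI : Nontrivial A := (Bialgebra.counitAlgHom k A).toRingHom.domain_nontrivial
    simp at h1
  haveI : CharP (WithConv (A →ₗ[k] A)) p :=
    charP_of_injective_algebraMap (algebraMap k (WithConv (A →ₗ[k] A))).injective p
  set idc : WithConv (A →ₗ[k] A) := toConv LinearMap.id with hidc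
  set u : WithConv (A →ₗ[k] A) := idc - 1 with hu
  have hu_mem : ∀ a, u a ∈ augI k A := by
    intro a
    change Bialgebra.counitAlgHom k A (a - algebraMap k A (CoalgebraStruct.counit (R := k) a)) = 0
    rw [map_sub, AlgHom.commutes, Bialgebra.counitAlgHom_apply]
    simp
  have hupow : u ^ p ^ r = 0 := by
    apply WithConv.ext
    apply LinearMap.ext
    intro a
    have := convPow_apply_mem u (augI k A) hu_mem (p ^ r) a
    rw [h] at this
    exact this
  have h1 : idc ^ p ^ r = 1 := by
    have : idc = 1 + u := by rw [hu]; abel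
    rw [this, add_pow_char_pow_of_commute _ _ (Commute.one_left u), one_pow, hupow, add_zero]
  apply toConv_injective.comp (AlgHom.toLinearMap_injective.comp ofConv_injective)
  change toConv ((toConv (AlgHom.id k A)) ^ p ^ r).ofConv.toLinearMap =
    toConv (1 : WithConv (A →ₐ[k] A)).ofConv.toLinearMap
  rw [AlgHom.toLinearMap_convPow, AlgHom.toLinearMap_convOne]
  exact h1

/-- An infinitesimal group scheme over a perfect field of characteristic `p` is killed by its
order. -/
theorem convPow_id_finrank_of_nilpotent (hperf : Function.Surjective (frobenius k p))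
    (hnil : ∀ x : A, CoalgebraStruct.counit (R := k) x = 0 → IsNilpotent x) :
    (toConv (AlgHom.id k A)) ^ Module.finrank k A = 1 := by
  obtain ⟨r, hr⟩ := finrank_eq_pow_of_nilpotent (k := k) p hperf _ A hnil rfl
  have h1 : augI k A ^ Module.finrank k A = ⊥ :=
    pow_finrank_eq_bot_of_nil (k := k) (augI k A) (fun x hx => hnil x hx)
  rw [hr] at h1 ⊢
  exact convPow_id_eq_one_of_pow_eq_bot p r h1

end LocalKilled

section Points

variable {k : Type u} [Field k] {A : Type v} [CommRing A] [Algebra k A] [Module.Finite k A]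

theorem finite_points : Finite (A →ₐ[k] k) :=
  (linearIndependent_toLinearMap k A k).finite_of_isNoetherian

variable (k A) in
/-- The intersection of the kernels of all rational points. -/
noncomputable def ptRad : Ideal A := ⨅ g : A →ₐ[k] k, RingHom.ker g

theorem mem_ptRad {x : A} : x ∈ ptRad k A ↔ ∀ g : A →ₐ[k] k, g x = 0 := by
  simp [ptRad, Ideal.mem_iInf, RingHom.mem_ker]

theorem isNilpotent_of_mem_ptRad [IsAlgClosed k] {x : A} (hx : x ∈ ptRad k A) :
    IsNilpotent x := by
  haveI : IsArtinianRing A := IsArtinianRing.of_finite k A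
  haveI : Algebra.FiniteType k A := Module.Finite.finiteType A
  have h1 : x ∈ Ideal.jacobson (⊥ : Ideal A) := by
    rw [Ideal.mem_jacobson_bot]
    intro y
    by_contra hu
    have hne : Ideal.span {x * y + 1} ≠ (⊤ : Ideal A) := by
      intro h
      exact hu (Ideal.span_singleton_eq_top.mp h)
    obtain ⟨g, hg⟩ := exists_point_vanishing_on (k := k) _ hne
    have h2 := hg _ (Ideal.subset_span rfl)
    rw [map_add, map_mul, (mem_ptRad.mp hx) g, zero_mul, zero_add, map_one] at h2
    exact one_ne_zero h2
  obtain ⟨N, hN⟩ := IsArtinianRing.isNilpotent_jacobson_bot (R := A)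
  refine ⟨N, ?_⟩
  have : x ^ N ∈ Ideal.jacobson (⊥ : Ideal A) ^ N := Ideal.pow_mem_pow h1 N
  rw [hN] at this
  exact this

theorem ptRad_pow_finrank [IsAlgClosed k] : ptRad k A ^ Module.finrank k A = ⊥ :=
  pow_finrank_eq_bot_of_nil (k := k) (ptRad k A) (fun _ hx => isNilpotent_of_mem_ptRad hx)

/-- A rational point is determined by its kernel. -/
theorem point_eq_of_ker_le {g h : A →ₐ[k] k} (hgh : RingHom.ker g ≤ RingHom.ker h) : g = h := by
  apply AlgHom.ext
  intro a
  have h1 : a - algebraMap k A (g a) ∈ RingHom.ker g := by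
    rw [RingHom.mem_ker, map_sub, AlgHom.commutes]
    simp
  have h2 := hgh h1
  rw [RingHom.mem_ker, map_sub, AlgHom.commutes, sub_eq_zero] at h2
  simpa using h2.symm

end Points

section Stabilize

variable {k : Type u} [Field k] {A : Type v} [CommRing A] [Algebra k A] [Module.Finite k A]

theorem pow_add_eq_of_pow_eq_succ (m : Ideal A) (i : ℕ) (h : m ^ i = m ^ (i + 1)) :
    ∀ j : ℕ, m ^ (i + j) = m ^ i := by
  intro j
  induction j with
  | zero => rfl
  | succ j ih => rw [← add_assoc, pow_succ, ih, ← pow_succ, ← h]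

theorem exists_pow_eq_pow_succ (m : Ideal A) :
    ∃ i ≤ Module.finrank k A, m ^ i = m ^ (i + 1) := by
  by_contra hcon
  push_neg at hcon
  have key : ∀ i ≤ Module.finrank k A + 1,
      Module.finrank k ((m ^ i).restrictScalars k) + i ≤ Module.finrank k A := by
    intro i
    induction i with
    | zero =>
      intro _
      rw [pow_zero, Ideal.one_eq_top, Submodule.restrictScalars_top, finrank_top, add_zero]
    | succ i ih =>
      intro hi
      have h1 := ih (by omega)
      have hle : m ^ (i + 1) ≤ m ^ i := Ideal.pow_le_pow_right (Nat.le_succ i)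
      have hne : m ^ i ≠ m ^ (i + 1) := hcon i (by omega)
      have hlt : (m ^ (i + 1)).restrictScalars k < (m ^ i).restrictScalars k := by
        refine lt_of_le_of_ne (fun x hx => hle hx) (fun heq => hne ?_)
        exact (Submodule.restrictScalars_injective k _ _ heq).symm
      have := Submodule.finrank_lt_finrank_of_lt hlt
      omega
  have := key (Module.finrank k A + 1) le_rfl
  omega

/-- The powers of an ideal of a finite-dimensional algebra stabilise at the dimension. -/
theorem pow_finrank_eq_pow_add (m : Ideal A) (j : ℕ) :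
    m ^ (Module.finrank k A + j) = m ^ Module.finrank k A := by
  obtain ⟨i, hi, h⟩ := exists_pow_eq_pow_succ (k := k) m
  have h1 := pow_add_eq_of_pow_eq_succ m i h
  obtain ⟨d, hd⟩ := Nat.exists_eq_add_of_le hi
  rw [hd, add_assoc, h1, h1]

end Stabilize

section UnitComponent

variable (k : Type u) [Field k] (A : Type v) [CommRing A] [HopfAlgebra k A] [Module.Finite k A]

/-- The ideal of the connected component of the identity: a stable power of the augmentation
ideal. -/
noncomputable def unitIdeal : Ideal A := augI k A ^ Module.finrank k A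

variable {k A}

theorem finrank_pos_hopf : 0 < Module.finrank k A := by
  haveI : Nontrivial A := (Bialgebra.counitAlgHom k A).toRingHom.domain_nontrivial
  exact Module.finrank_pos

theorem unitIdeal_le_augI : unitIdeal k A ≤ augI k A :=
  Ideal.pow_le_self (finrank_pos_hopf (k := k) (A := A)).ne'

instance isHopfIdeal_unitIdeal : (unitIdeal k A).IsHopfIdeal k where
  counit_eq_zero := by
    intro x hx
    exact unitIdeal_le_augI hx
  map_mkQ_comul_eq_zero := by
    set I := unitIdeal k A with hI
    have key : ∀ x ∈ I, (Algebra.TensorProduct.map (Ideal.Quotient.mkₐ k I)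
        (Ideal.Quotient.mkₐ k I)) (Bialgebra.comulAlgHom k A x) = 0 := by
      intro x hx
      have hx' : x ∈ augI k A ^ (Module.finrank k A + Module.finrank k A) := by
        rw [pow_finrank_eq_pow_add (k := k)]
        exact hx
      have h1 := comul_mem_of_mem_augI_pow _ _ x hx'
      set P := Algebra.TensorProduct.map (Ideal.Quotient.mkₐ k I) (Ideal.Quotient.mkₐ k I) with hP
      have h2 : (augI k A ^ Module.finrank k A).map
          (Algebra.TensorProduct.includeLeft : A →ₐ[k] A ⊗[k] A) ⊔
          (augI k A ^ Module.finrank k A).map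
            (Algebra.TensorProduct.includeRight : A →ₐ[k] A ⊗[k] A) ≤ RingHom.ker P := by
        rw [sup_le_iff, Ideal.map_le_iff_le_comap, Ideal.map_le_iff_le_comap]
        constructor
        · intro b hb
          rw [Ideal.mem_comap, RingHom.mem_ker]
          change P (b ⊗ₜ[k] (1 : A)) = 0
          rw [hP, Algebra.TensorProduct.map_tmul]
          have : Ideal.Quotient.mkₐ k I b = 0 := by
            rw [Ideal.Quotient.mkₐ_eq_mk, Ideal.Quotient.eq_zero_iff_mem]
            exact hb
          rw [this, TensorProduct.zero_tmul]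
        · intro b hb
          rw [Ideal.mem_comap, RingHom.mem_ker]
          change P ((1 : A) ⊗ₜ[k] b) = 0
          rw [hP, Algebra.TensorProduct.map_tmul]
          have : Ideal.Quotient.mkₐ k I b = 0 := by
            rw [Ideal.Quotient.mkₐ_eq_mk, Ideal.Quotient.eq_zero_iff_mem]
            exact hb
          rw [this, TensorProduct.tmul_zero]
      exact h2 h1
    intro x hx
    exact key x hx
  antipode_mem := by
    intro x hx
    have h1 : (augI k A).map (HopfAlgebra.antipodeAlgHom k A) ≤ augI k A := by
      rw [Ideal.map_le_iff_le_comap]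
      intro a ha
      rw [Ideal.mem_comap]
      change Bialgebra.counitAlgHom k A (HopfAlgebra.antipode k a) = 0
      rw [Bialgebra.counitAlgHom_apply, HopfAlgebra.counit_antipode]
      exact ha
    have h2 : HopfAlgebra.antipodeAlgHom k A x ∈
        (unitIdeal k A).map (HopfAlgebra.antipodeAlgHom k A) := Ideal.mem_map_of_mem _ hx
    unfold unitIdeal at h2 ⊢
    rw [Ideal.map_pow] at h2
    exact Ideal.pow_right_mono h1 _ h2

/-- The augmentation ideal of the unit component is nil. -/
theorem isNilpotent_of_counit_unitQuot (x : A ⧸ unitIdeal k A)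
    (hx : CoalgebraStruct.counit (R := k) x = 0) : IsNilpotent x := by
  obtain ⟨a, rfl⟩ := Ideal.Quotient.mk_surjective x
  rw [Bialgebra.Quotient.counit_mk] at hx
  refine ⟨Module.finrank k A, ?_⟩
  rw [← map_pow, Ideal.Quotient.eq_zero_iff_mem]
  exact Ideal.pow_mem_pow (show a ∈ augI k A from hx) _

end UnitComponent

section Transl

variable {k : Type u} [Field k] {A : Type v} [CommRing A] [HopfAlgebra k A]

theorem counit_rtrans (u : A →ₐ[k] k) (a : A) :
    CoalgebraStruct.counit (R := k) (rtrans u a) = u a := by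
  have h1 := apply_rtrans ((Algebra.ofId k k).comp (Bialgebra.counitAlgHom k A)) u a
  have h2 : convPt ((Algebra.ofId k k).comp (Bialgebra.counitAlgHom k A)) u = u := by
    have : (1 : WithConv (A →ₐ[k] k)) * toConv u = toConv u := one_mul _
    exact congrArg WithConv.ofConv this
  rw [h2] at h1
  rw [← h1]
  rfl

/-- Right translation by a point as an algebra automorphism. -/
noncomputable def rtransEquiv (u : A →ₐ[k] k) : A ≃ₐ[k] A :=
  AlgEquiv.ofAlgHom (rtrans u) (rtrans (u.comp (HopfAlgebra.antipodeAlgHom k A)))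
    (by
      apply AlgHom.ext
      intro a
      rw [AlgHom.comp_apply, rtrans_rtrans, convPt_antipode, rtrans_counit]
      rfl)
    (by
      apply AlgHom.ext
      intro a
      rw [AlgHom.comp_apply, rtrans_rtrans, convPt_antipode', rtrans_counit]
      rfl)

theorem rtransEquiv_apply (u : A →ₐ[k] k) (a : A) : rtransEquiv u a = rtrans u a := rfl

theorem map_rtransEquiv_ker (u : A →ₐ[k] k) :
    (RingHom.ker u).map ((rtransEquiv u : A ≃ₐ[k] A) : A →+* A) = augI k A := by
  apply le_antisymm
  · rw [Ideal.map_le_iff_le_comap]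
    intro a ha
    rw [Ideal.mem_comap]
    change Bialgebra.counitAlgHom k A (rtrans u a) = 0
    rw [Bialgebra.counitAlgHom_apply, counit_rtrans]
    exact ha
  · intro b hb
    have h1 : (rtransEquiv u).symm b ∈ RingHom.ker u := by
      rw [RingHom.mem_ker]
      change u (rtrans (u.comp (HopfAlgebra.antipodeAlgHom k A)) b) = 0
      rw [apply_rtrans, convPt_antipode]
      change Algebra.ofId k k (CoalgebraStruct.counit (R := k) b) = 0
      have : CoalgebraStruct.counit (R := k) b = 0 := hb
      rw [this, map_zero]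
    have h2 := Ideal.mem_map_of_mem ((rtransEquiv u : A ≃ₐ[k] A) : A →+* A) h1
    simpa using h2

theorem finrank_quot_ker_pow (u : A →ₐ[k] k) (n : ℕ) :
    Module.finrank k (A ⧸ (RingHom.ker u) ^ n) = Module.finrank k (A ⧸ (augI k A) ^ n) := by
  have e := Ideal.quotientEquivAlg ((RingHom.ker u) ^ n) ((augI k A) ^ n) (rtransEquiv u)
    (by rw [Ideal.map_pow, map_rtransEquiv_ker])
  exact e.toLinearEquiv.finrank_eq

end Transl

section Count

variable {k : Type u} [Field k] [IsAlgClosed k] {A : Type v} [CommRing A] [HopfAlgebra k A]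
  [Module.Finite k A]

open Function in
theorem pairwise_isCoprime_ker_pow (n : ℕ) :
    Pairwise (IsCoprime on fun g : A →ₐ[k] k => (RingHom.ker g) ^ n) := by
  intro g h hgh
  change IsCoprime ((RingHom.ker g) ^ n) ((RingHom.ker h) ^ n)
  apply IsCoprime.pow
  rw [Ideal.isCoprime_iff_sup_eq]
  have hg : (RingHom.ker g).IsMaximal :=
    RingHom.ker_isMaximal_of_surjective g (fun c => ⟨algebraMap k A c, by simp⟩)
  have hh : (RingHom.ker h).IsMaximal :=
    RingHom.ker_isMaximal_of_surjective h (fun c => ⟨algebraMap k A c, by simp⟩)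
  apply Ideal.IsMaximal.coprime_of_ne hg hh
  intro heq
  exact hgh (point_eq_of_ker_le heq.le)

theorem iInf_ker_pow_finrank :
    ⨅ g : A →ₐ[k] k, (RingHom.ker g) ^ Module.finrank k A = ⊥ := by
  classical
  haveI := finite_points (k := k) (A := A)
  letI := Fintype.ofFinite (A →ₐ[k] k)
  have h1 := Ideal.prod_eq_iInf_of_pairwise_isCoprime (s := (Finset.univ : Finset (A →ₐ[k] k)))
    (J := fun g : A →ₐ[k] k => (RingHom.ker g) ^ Module.finrank k A)
    (fun g _ h _ hgh => pairwise_isCoprime_ker_pow _ hgh)
  simp only [Finset.mem_univ, iInf_pos] at h1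
  rw [← h1, Finset.prod_pow, eq_bot_iff, ← ptRad_pow_finrank (k := k) (A := A)]
  apply Ideal.pow_right_mono
  refine Ideal.prod_le_inf.trans ?_
  rw [Finset.inf_univ_eq_iInf]
  exact le_rfl

/-- The order of a finite group scheme over an algebraically closed field is the number of points
times the order of the unit component. -/
theorem finrank_eq_card_mul :
    Module.finrank k A =
      Nat.card (A →ₐ[k] k) * Module.finrank k (A ⧸ unitIdeal k A) := by
  classical
  haveI := finite_points (k := k) (A := A)
  letI := Fintype.ofFinite (A →ₐ[k] k)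
  set n := Module.finrank k A with hn
  let I : (A →ₐ[k] k) → Ideal A := fun g => (RingHom.ker g) ^ n
  let Θ : A →ₗ[k] ∀ g, A ⧸ I g := LinearMap.pi (fun g => (Ideal.Quotient.mkₐ k (I g)).toLinearMap)
  have hinj : Function.Injective Θ := by
    rw [← LinearMap.ker_eq_bot, LinearMap.ker_eq_bot']
    intro a ha
    have h1 : a ∈ ⨅ g : A →ₐ[k] k, (RingHom.ker g) ^ n := by
      rw [Ideal.mem_iInf]
      intro g
      have := congrFun ha g
      exact Ideal.Quotient.eq_zero_iff_mem.mp this
    rw [iInf_ker_pow_finrank] at h1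
    exact h1
  have hsurj : Function.Surjective Θ := by
    intro x
    obtain ⟨r, hr⟩ := Ideal.pi_quotient_surjective (pairwise_isCoprime_ker_pow (k := k) (A := A) n) x
    exact ⟨r, funext hr⟩
  haveI : ∀ g : A →ₐ[k] k, Module.Finite k (A ⧸ I g) := fun g =>
    Module.Finite.of_surjective (Ideal.Quotient.mkₐ k (I g)).toLinearMap
      (Ideal.Quotient.mkₐ_surjective k _)
  let e : A ≃ₗ[k] ∀ g, A ⧸ I g := LinearEquiv.ofBijective Θ ⟨hinj, hsurj⟩
  rw [hn, e.finrank_eq, Module.finrank_pi_fintype]
  have h2 : ∀ g : A →ₐ[k] k, Module.finrank k (A ⧸ I g) =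
      Module.finrank k (A ⧸ unitIdeal k A) := fun g => finrank_quot_ker_pow g n
  rw [Finset.sum_congr rfl (fun g _ => h2 g), Finset.sum_const, Finset.card_univ,
    Nat.card_eq_fintype_card, smul_eq_mul]

end Count

section ConvPowLemmas

variable {k : Type u} [CommRing k] {C : Type v} [CommRing C] [Bialgebra k C]
  {A : Type w} [CommRing A] [Algebra k A]

theorem comp_convOne {B : Type*} [CommRing B] [Algebra k B] (h : A →ₐ[k] B) :
    h.comp (1 : WithConv (C →ₐ[k] A)).ofConv = (1 : WithConv (C →ₐ[k] B)).ofConv := by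
  apply AlgHom.ext
  intro c
  change h (algebraMap k A _) = algebraMap k B _
  rw [AlgHom.commutes]

theorem comp_convPow {B : Type*} [CommRing B] [Algebra k B] (h : A →ₐ[k] B)
    (g : WithConv (C →ₐ[k] A)) (n : ℕ) :
    h.comp (g ^ n).ofConv = ((toConv (h.comp g.ofConv)) ^ n).ofConv := by
  induction n with
  | zero => rw [pow_zero, pow_zero, comp_convOne]
  | succ n ih =>
    rw [pow_succ, pow_succ, AlgHom.comp_convMul_distrib, ih, toConv_ofConv]

theorem convOne_comp_bialgHom {D : Type*} [CommRing D] [Bialgebra k D] (π : D →ₐc[k] C) :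
    (1 : WithConv (C →ₐ[k] A)).ofConv.comp (π : D →ₐ[k] C) =
      (1 : WithConv (D →ₐ[k] A)).ofConv := by
  apply AlgHom.ext
  intro d
  change algebraMap k A (CoalgebraStruct.counit (R := k) (π d)) =
    algebraMap k A (CoalgebraStruct.counit (R := k) d)
  rw [CoalgHomClass.counit_comp_apply]

theorem convPow_comp_bialgHom {D : Type*} [CommRing D] [Bialgebra k D] (π : D →ₐc[k] C)
    (g : WithConv (C →ₐ[k] A)) (n : ℕ) :
    (g ^ n).ofConv.comp (π : D →ₐ[k] C) =
      ((toConv (g.ofConv.comp (π : D →ₐ[k] C))) ^ n).ofConv := by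
  induction n with
  | zero => rw [pow_zero, pow_zero, convOne_comp_bialgHom]
  | succ n ih =>
    rw [pow_succ, pow_succ, AlgHom.convMul_comp_bialgHom_distrib, ih, toConv_ofConv]

end ConvPowLemmas

section AlgClosed

variable {k : Type u} [Field k] [IsAlgClosed k] {A : Type v} [CommRing A] [HopfAlgebra k A]
  [Module.Finite k A]

/-- A finite group scheme with nilpotent augmentation ideal over an algebraically closed field is
killed by its order (both characteristics). -/
theorem convPow_id_finrank_of_nilpotent'
    (hnil : ∀ x : A, CoalgebraStruct.counit (R := k) x = 0 → IsNilpotent x) :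
    (toConv (AlgHom.id k A)) ^ Module.finrank k A = 1 := by
  obtain ⟨p, hp⟩ := CharP.exists k
  rcases CharP.char_is_prime_or_zero k p with hprime | h0
  · haveI := Fact.mk hprime
    exact convPow_id_finrank_of_nilpotent p (surjective_frobenius k p) hnil
  · subst h0
    haveI : CharZero k := CharP.charP_to_charZero k
    haveI : Algebra.FiniteType k A := Module.Finite.finiteType A
    haveI : IsReduced A := CartH.isReduced_of_charZero_hopf (k := k) (A := A)
    have h0 : ∀ x : A, CoalgebraStruct.counit (R := k) x = 0 → x = 0 :=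
      fun x hx => (hnil x hx).eq_zero
    rw [finrank_eq_one_of_augI_eq_bot h0, pow_one]
    apply WithConv.ext
    apply AlgHom.ext
    intro a
    change a = algebraMap k A (CoalgebraStruct.counit (R := k) a)
    have := h0 (a - algebraMap k A (CoalgebraStruct.counit (R := k) a)) (by
      rw [map_sub, Bialgebra.counit_algebraMap, sub_self])
    exact sub_eq_zero.mp this

/-- A finite group scheme over an algebraically closed field is killed by its order. -/
theorem convPow_id_finrank_of_isAlgClosed :
    (toConv (AlgHom.id k A)) ^ Module.finrank k A = 1 := by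
  classical
  haveI := finite_points (k := k) (A := A)
  set c := Nat.card (A →ₐ[k] k) with hc
  haveI : Module.Finite k (A ⧸ unitIdeal k A) :=
    Module.Finite.of_surjective (Ideal.Quotient.mkₐ k _).toLinearMap
      (Ideal.Quotient.mkₐ_surjective k _)
  set q := Module.finrank k (A ⧸ unitIdeal k A) with hq
  have hn : Module.finrank k A = c * q := finrank_eq_card_mul
  set f : WithConv (A →ₐ[k] A) := (toConv (AlgHom.id k A)) ^ c with hf
  -- evaluation of `f` at points
  have hpt : ∀ (g : A →ₐ[k] k) (a : A), g (f.ofConv a) = CoalgebraStruct.counit (R := k) a := by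
    intro g a
    have h1 := comp_convPow g (toConv (AlgHom.id k A)) c
    have h2 : (toConv g : WithConv (A →ₐ[k] k)) ^ c = 1 := by
      have : c = Nat.card (WithConv (A →ₐ[k] k)) :=
        (Nat.card_congr (WithConv.equiv (A →ₐ[k] k))).symm
      rw [this]
      exact pow_card_eq_one'
    rw [ofConv_toConv, AlgHom.comp_id, h2] at h1
    have := congrArg (fun φ : A →ₐ[k] k => φ a) h1
    simpa using this
  -- `f` kills the unit ideal
  have hfaug : (augI k A).map f.ofConv ≤ ptRad k A := by
    rw [Ideal.map_le_iff_le_comap]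
    intro a ha
    rw [Ideal.mem_comap, mem_ptRad]
    intro g
    rw [hpt]
    exact ha
  have hfI : ∀ a ∈ unitIdeal k A, f.ofConv a = 0 := by
    intro a ha
    have h1 : f.ofConv a ∈ (unitIdeal k A).map f.ofConv := Ideal.mem_map_of_mem _ ha
    unfold unitIdeal at h1
    rw [Ideal.map_pow] at h1
    have h2 := Ideal.pow_right_mono hfaug _ h1
    rw [ptRad_pow_finrank] at h2
    exact h2
  -- factor through the unit component
  let fbar : (A ⧸ unitIdeal k A) →ₐ[k] A := Ideal.Quotient.liftₐ (unitIdeal k A) f.ofConv hfI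
  let π : A →ₐc[k] (A ⧸ unitIdeal k A) := Bialgebra.Quotient.mkBialgHom (unitIdeal k A)
  have hfac : f = toConv (fbar.comp (π : A →ₐ[k] (A ⧸ unitIdeal k A))) := by
    apply WithConv.ext
    apply AlgHom.ext
    intro a
    rfl
  have hloc : (toConv (AlgHom.id k (A ⧸ unitIdeal k A))) ^ q = 1 :=
    convPow_id_finrank_of_nilpotent' isNilpotent_of_counit_unitQuot
  have h3 : (toConv fbar : WithConv ((A ⧸ unitIdeal k A) →ₐ[k] A)) ^ q = 1 := by
    have h4 := comp_convPow fbar (toConv (AlgHom.id k (A ⧸ unitIdeal k A))) q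
    rw [ofConv_toConv, AlgHom.comp_id, hloc, comp_convOne] at h4
    exact WithConv.ext h4.symm
  rw [hn, pow_mul, ← hf, hfac]
  have h5 := convPow_comp_bialgHom π (toConv fbar) q
  rw [ofConv_toConv, h3, convOne_comp_bialgHom] at h5
  exact WithConv.ext h5.symm

end AlgClosed

section BaseChange

variable {k : Type u} [CommRing k] {K : Type w} [CommRing K] [Algebra k K]
  {A : Type v} [CommRing A] [HopfAlgebra k A]

theorem convMul_baseChange (F G : WithConv (K ⊗[k] A →ₗ[K] K ⊗[k] A))
    (f g : WithConv (A →ₗ[k] A))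
    (hF : ∀ a : A, F ((1 : K) ⊗ₜ[k] a) = (1 : K) ⊗ₜ[k] f a)
    (hG : ∀ a : A, G ((1 : K) ⊗ₜ[k] a) = (1 : K) ⊗ₜ[k] g a) (a : A) :
    (F * G) ((1 : K) ⊗ₜ[k] a) = (1 : K) ⊗ₜ[k] (f * g) a := by
  rw [LinearMap.convMul_apply, LinearMap.convMul_apply, TensorProduct.comul_tmul,
    CommSemiring.comul_apply]
  generalize CoalgebraStruct.comul (R := k) a = z
  induction z using TensorProduct.induction_on with
  | zero => simp
  | add x y hx hy =>
    rw [TensorProduct.tmul_add, map_add, map_add, map_add, hx, hy, map_add, map_add,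
      TensorProduct.tmul_add]
  | tmul x y =>
    rw [TensorProduct.AlgebraTensorModule.tensorTensorTensorComm_tmul, TensorProduct.map_tmul,
      LinearMap.mul'_apply, TensorProduct.map_tmul, LinearMap.mul'_apply]
    change F ((1 : K) ⊗ₜ[k] x) * G ((1 : K) ⊗ₜ[k] y) = _
    rw [hF, hG, Algebra.TensorProduct.tmul_mul_tmul, mul_one]

theorem convPow_id_baseChange (n : ℕ) (a : A) :
    ((toConv (LinearMap.id : K ⊗[k] A →ₗ[K] K ⊗[k] A)) ^ n :
      WithConv (K ⊗[k] A →ₗ[K] K ⊗[k] A)) ((1 : K) ⊗ₜ[k] a) =
    (1 : K) ⊗ₜ[k] ((toConv (LinearMap.id : A →ₗ[k] A)) ^ n : WithConv (A →ₗ[k] A)) a := by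
  induction n generalizing a with
  | zero =>
    rw [pow_zero, pow_zero, LinearMap.convOne_apply, LinearMap.convOne_apply,
      TensorProduct.counit_tmul, CommSemiring.counit_apply, Algebra.TensorProduct.algebraMap_apply,
      Algebra.algebraMap_self, RingHom.id_apply, Algebra.algebraMap_eq_smul_one,
      TensorProduct.smul_tmul]
  | succ n ih =>
    rw [pow_succ, pow_succ]
    exact convMul_baseChange _ _ _ _ ih (fun a => rfl) a

end BaseChange

section Final

/-- **A finite group scheme over a field is killed by its order**: in the convolution monoid of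
algebra endomorphisms of a finite-dimensional commutative Hopf algebra, the `dim A`-th power of the
identity is the unit. -/
theorem convPow_id_finrank (k : Type u) [Field k] (A : Type v) [CommRing A] [HopfAlgebra k A]
    [Module.Finite k A] :
    (toConv (AlgHom.id k A)) ^ Module.finrank k A = 1 := by
  let K := AlgebraicClosure k
  have h1 : (toConv (AlgHom.id K (K ⊗[k] A))) ^ Module.finrank K (K ⊗[k] A) = 1 :=
    convPow_id_finrank_of_isAlgClosed
  rw [Module.finrank_baseChange] at h1
  -- pass to linear maps
  have h2 : (toConv (LinearMap.id : K ⊗[k] A →ₗ[K] K ⊗[k] A)) ^ Module.finrank k A = 1 := by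
    have := AlgHom.toLinearMap_convPow (toConv (AlgHom.id K (K ⊗[k] A))) (Module.finrank k A)
    rw [h1, AlgHom.toLinearMap_convOne] at this
    exact this.symm
  have h3 : (toConv (LinearMap.id : A →ₗ[k] A)) ^ Module.finrank k A = 1 := by
    apply WithConv.ext
    apply LinearMap.ext
    intro a
    have h4 := convPow_id_baseChange (k := k) (K := K) (Module.finrank k A) a
    rw [h2] at h4
    have h5 : (1 : WithConv (K ⊗[k] A →ₗ[K] K ⊗[k] A)) ((1 : K) ⊗ₜ[k] a) =
        (1 : K) ⊗ₜ[k] (1 : WithConv (A →ₗ[k] A)) a := by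
      have := convPow_id_baseChange (k := k) (K := K) 0 a
      simpa using this
    rw [h5] at h4
    exact (Algebra.TensorProduct.includeRight_injective (R := k) (A := K) (B := A)
      (algebraMap k K).injective h4).symm
  apply toConv_injective.comp (AlgHom.toLinearMap_injective.comp ofConv_injective)
  change toConv ((toConv (AlgHom.id k A)) ^ Module.finrank k A).ofConv.toLinearMap =
    toConv (1 : WithConv (A →ₐ[k] A)).ofConv.toLinearMap
  rw [AlgHom.toLinearMap_convPow, AlgHom.toLinearMap_convOne]
  exact h3

end Final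

section LocallyFree

variable {R₀ : Type u} {A : Type v} [CommRing R₀] [IsReduced R₀]
  [CommRing A] [HopfAlgebra R₀ A] [Module.Finite R₀ A] [Module.Projective R₀ A]

/-- An element of a projective module over a reduced ring vanishing in all fibres is zero. -/
theorem eq_zero_of_forall_fiber {M : Type v} [AddCommGroup M] [Module R₀ M] [Module.Projective R₀ M]
    (d : M)
    (h : ∀ p : PrimeSpectrum R₀, (1 : p.asIdeal.ResidueField) ⊗ₜ[R₀] d = 0) : d = 0 := by
  rw [← Module.forall_dual_apply_eq_zero_iff R₀]
  intro φ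
  have h1 : ∀ p : PrimeSpectrum R₀, φ d ∈ p.asIdeal := by
    intro p
    have h2 := congrArg ((TensorProduct.rid R₀ p.asIdeal.ResidueField).toLinearMap ∘ₗ
      (φ.lTensor p.asIdeal.ResidueField)) (h p)
    simp only [LinearMap.comp_apply, LinearMap.lTensor_tmul, map_zero,
      LinearEquiv.coe_coe, TensorProduct.rid_tmul] at h2
    rw [← Algebra.algebraMap_eq_smul_one, Ideal.algebraMap_residueField_eq_zero] at h2
    exact h2
  have h3 : φ d ∈ nilradical R₀ := by
    rw [nilradical_eq_sInf, Ideal.mem_sInf]
    intro J hJ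
    exact h1 ⟨J, hJ⟩
  rw [nilradical_eq_zero] at h3
  exact h3

/-- A finite locally free group scheme of constant order `n` over a reduced ring is killed by
`n` (universal point). -/
theorem convPow_id_of_rankAtStalk (n : ℕ)
    (hn : ∀ p : PrimeSpectrum R₀, Module.rankAtStalk (R := R₀) A p = n) :
    (toConv (AlgHom.id R₀ A)) ^ n = 1 := by
  have key : (toConv (LinearMap.id : A →ₗ[R₀] A)) ^ n = 1 := by
    apply WithConv.ext
    apply LinearMap.ext
    intro a
    rw [← sub_eq_zero]
    apply eq_zero_of_forall_fiber (R₀ := R₀)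
    intro p
    set κ := p.asIdeal.ResidueField with hκ
    have hfin : Module.finrank κ (κ ⊗[R₀] A) = n := by
      rw [← hn p, Module.rankAtStalk_eq]
    have h1 : (toConv (AlgHom.id κ (κ ⊗[R₀] A))) ^ Module.finrank κ (κ ⊗[R₀] A) = 1 :=
      convPow_id_finrank κ (κ ⊗[R₀] A)
    rw [hfin] at h1
    have h2 : (toConv (LinearMap.id : κ ⊗[R₀] A →ₗ[κ] κ ⊗[R₀] A)) ^ n = 1 := by
      have := AlgHom.toLinearMap_convPow (toConv (AlgHom.id κ (κ ⊗[R₀] A))) n
      rw [h1, AlgHom.toLinearMap_convOne] at this
      exact this.symm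
    have h4 := convPow_id_baseChange (k := R₀) (K := κ) n a
    rw [h2] at h4
    have h5 : (1 : WithConv (κ ⊗[R₀] A →ₗ[κ] κ ⊗[R₀] A)) ((1 : κ) ⊗ₜ[R₀] a) =
        (1 : κ) ⊗ₜ[R₀] (1 : WithConv (A →ₗ[R₀] A)) a := by
      have := convPow_id_baseChange (k := R₀) (K := κ) 0 a
      simpa using this
    rw [h5] at h4
    rw [TensorProduct.tmul_sub, ← h4, sub_self]
  apply toConv_injective.comp (AlgHom.toLinearMap_injective.comp ofConv_injective)
  change toConv ((toConv (AlgHom.id R₀ A)) ^ n).ofConv.toLinearMap =
    toConv (1 : WithConv (A →ₐ[R₀] A)).ofConv.toLinearMap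
  rw [AlgHom.toLinearMap_convPow, AlgHom.toLinearMap_convOne]
  exact key

/-- A finite locally free group scheme of constant order `n` over a reduced ring is killed by
`n`. -/
theorem convPow_of_rankAtStalk (n : ℕ)
    (hn : ∀ p : PrimeSpectrum R₀, Module.rankAtStalk (R := R₀) A p = n)
    {R : Type w} [CommRing R] [Algebra R₀ R] (g : A →ₐ[R₀] R) :
    toConv g ^ n = 1 := by
  have h1 := comp_convPow g (toConv (AlgHom.id R₀ A)) n
  rw [ofConv_toConv, AlgHom.comp_id, convPow_id_of_rankAtStalk n hn, comp_convOne] at h1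
  exact WithConv.ext h1.symm

end LocallyFree

end Groth.Agent.Lib.Helper25.FinHopf
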