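import Mathlib

set_option autoImplicit false

namespace Groth.Agent.Lib.Helper6.Deligne

open Coalgebra TensorProduct WithConv

universe u v

/-- abstract norm argument -/
lemma pow_eq_one_of_norm {E E' : Type*} [CommRing E] [CommRing E'] [Algebra E E']
    {ι : Type*} [Fintype ι] (b : Module.Basis ι E E') (σ : E' ≃ₐ[E] E') (x : E') (hx : IsUnit x)
    (w : E) (h : σ x = x * algebraMap E E' w) : w ^ Fintype.card ι = 1 := by
  have h1 : Algebra.norm E (σ x) = Algebra.norm E x := Algebra.norm_eq_of_algEquiv σ x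
  rw [h, map_mul, Algebra.norm_algebraMap_of_basis b] at h1
  have hu : IsUnit (Algebra.norm E x) := hx.map _
  exact hu.mul_left_cancel (by rw [h1, mul_one])

section Tau

variable {R : Type u} [CommRing R] {A : Type v} [CommRing A] [HopfAlgebra R A]

/-- inclusion of the right factor, as an element of the convolution group -/
noncomputable abbrev i₂ : A →ₐ[R] A ⊗[R] A := Algebra.TensorProduct.includeRight
noncomputable abbrev i₁ : A →ₐ[R] A ⊗[R] A := Algebra.TensorProduct.includeLeft

/-- translation by the point `w` on `A ⊗ A` -/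
noncomputable def tau (w : WithConv (A →ₐ[R] A)) : A ⊗[R] A →ₐ[R] A ⊗[R] A :=
  Algebra.TensorProduct.lift
    ((toConv (i₁ (R := R) (A := A)) * toConv ((i₂ (R := R) (A := A)).comp w.ofConv)).ofConv)
    i₂ (fun _ _ => Commute.all _ _)

lemma ext_i {C : Type*} [Semiring C] [Algebra R C] (f g : A ⊗[R] A →ₐ[R] C)
    (h1 : f.comp i₁ = g.comp i₁) (h2 : f.comp i₂ = g.comp i₂) : f = g := by
  apply Algebra.TensorProduct.ext'
  intro a b
  have e : a ⊗ₜ[R] b = i₁ (R := R) (A := A) a * i₂ (R := R) (A := A) b := by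
    simp [Algebra.TensorProduct.tmul_mul_tmul]
  rw [e, map_mul, map_mul]
  have h1' := congrArg (fun φ => φ a) h1
  have h2' := congrArg (fun φ => φ b) h2
  simp only [AlgHom.comp_apply] at h1' h2'
  rw [h1', h2']

lemma tau_comp_i₂ (w : WithConv (A →ₐ[R] A)) : (tau w).comp i₂ = i₂ :=
  Algebra.TensorProduct.lift_comp_includeRight' _ _ _

lemma tau_comp_i₁ (w : WithConv (A →ₐ[R] A)) :
    (tau w).comp i₁ = (toConv (i₁ (R := R) (A := A)) * toConv ((i₂ (R := R) (A := A)).comp w.ofConv)).ofConv :=
  Algebra.TensorProduct.lift_comp_includeLeft _ _ _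

lemma i₂_comp_mul (w w' : WithConv (A →ₐ[R] A)) :
    toConv ((i₂ (R := R) (A := A)).comp (w * w').ofConv) =
      toConv ((i₂ (R := R) (A := A)).comp w.ofConv) * toConv ((i₂ (R := R) (A := A)).comp w'.ofConv) := by
  rw [AlgHom.comp_convMul_distrib]

lemma i₂_comp_one :
    toConv ((i₂ (R := R) (A := A)).comp (1 : WithConv (A →ₐ[R] A)).ofConv) = 1 := by
  apply WithConv.ofConv_injective
  apply AlgHom.ext
  intro a
  simp [AlgHom.convOne_def]

lemma tau_comp_tau (w w' : WithConv (A →ₐ[R] A)) : (tau w).comp (tau w') = tau (w * w') := by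
  apply ext_i
  · rw [AlgHom.comp_assoc, tau_comp_i₁, tau_comp_i₁, AlgHom.comp_convMul_distrib]
    rw [← AlgHom.comp_assoc, tau_comp_i₂, tau_comp_i₁, i₂_comp_mul]
    simp only [toConv_ofConv]
    rw [mul_assoc]
  · rw [AlgHom.comp_assoc, tau_comp_i₂, tau_comp_i₂, tau_comp_i₂]

lemma tau_one : tau (1 : WithConv (A →ₐ[R] A)) = AlgHom.id R _ := by
  apply ext_i
  · rw [tau_comp_i₁, i₂_comp_one, mul_one]
    rfl
  · rw [tau_comp_i₂]
    rfl

end Tau

section ConvMap

variable {R : Type u} [CommRing R] {A : Type v} [CommRing A] [HopfAlgebra R A]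
  [Coalgebra.IsCocomm R A]
  {S T U : Type*} [CommRing S] [Algebra R S] [CommRing T] [Algebra R T] [CommRing U] [Algebra R U]

/-- post-composition with an algebra map, as a ring hom of convolution rings -/
noncomputable def convMap (h : S →ₐ[R] T) : WithConv (A →ₗ[R] S) →+* WithConv (A →ₗ[R] T) where
  toFun f := toConv (h.toLinearMap ∘ₗ f.ofConv)
  map_one' := by
    apply WithConv.ofConv_injective
    ext a
    simp [LinearMap.convOne_def]
  map_mul' f g := by
    apply WithConv.ofConv_injective
    rw [ofConv_toConv, LinearMap.algHom_comp_convMul_distrib]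
  map_zero' := by
    apply WithConv.ofConv_injective
    simp
  map_add' f g := by
    apply WithConv.ofConv_injective
    simp [LinearMap.comp_add]

lemma convMap_apply (h : S →ₐ[R] T) (f : WithConv (A →ₗ[R] S)) :
    convMap h f = toConv (h.toLinearMap ∘ₗ f.ofConv) := rfl

lemma convMap_comp (h : S →ₐ[R] T) (h' : T →ₐ[R] U) (f : WithConv (A →ₗ[R] S)) :
    convMap h' (convMap h f) = convMap (h'.comp h) f := rfl

lemma convMap_id (f : WithConv (A →ₗ[R] S)) : convMap (AlgHom.id R S) f = f := rfl

end ConvMap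

section Free

variable {R : Type u} [CommRing R] {A : Type v} [CommRing A] [HopfAlgebra R A]
  [Coalgebra.IsCocomm R A]

/-- `E' = Hom_R(A, A ⊗ A)` as an algebra over `E = Hom_R(A, A)` via the right factor. -/
@[reducible] noncomputable def algE : Algebra (WithConv (A →ₗ[R] A)) (WithConv (A →ₗ[R] A ⊗[R] A)) :=
  (convMap (i₂ (R := R) (A := A))).toAlgebra

attribute [local instance] algE

lemma algebraMap_E (f : WithConv (A →ₗ[R] A)) :
    algebraMap (WithConv (A →ₗ[R] A)) (WithConv (A →ₗ[R] A ⊗[R] A)) f =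
      convMap (i₂ (R := R) (A := A)) f := rfl

variable {ι : Type*} [Fintype ι] [DecidableEq ι] (b : Module.Basis ι R A)

/-- coordinate maps `A ⊗ A → A` w.r.t. the basis `b i ⊗ 1` over the right factor -/
noncomputable def coordR (i : ι) : A ⊗[R] A →ₗ[R] A :=
  (TensorProduct.lid R A).toLinearMap ∘ₗ ((b.coord i).rTensor A)

omit [Fintype ι] [DecidableEq ι] [IsCocomm R A] in
@[simp] lemma coordR_tmul (i : ι) (a s : A) : coordR b i (a ⊗ₜ[R] s) = b.repr a i • s := by
  simp [coordR]

omit [Fintype ι] [DecidableEq ι] [IsCocomm R A] in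
lemma coordR_mul (i : ι) (s : A) (z : A ⊗[R] A) :
    coordR b i (i₂ (R := R) (A := A) s * z) = s * coordR b i z := by
  induction z using TensorProduct.induction_on with
  | zero => simp
  | add x y hx hy => rw [mul_add, map_add, hx, hy, map_add, mul_add]
  | tmul a t =>
    simp only [i₂, Algebra.TensorProduct.includeRight_apply, Algebra.TensorProduct.tmul_mul_tmul,
      one_mul, coordR_tmul]
    rw [mul_smul_comm]

omit [DecidableEq ι] [IsCocomm R A] in
lemma sum_tmul_coordR (z : A ⊗[R] A) : ∑ i, b i ⊗ₜ[R] coordR b i z = z := by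
  induction z using TensorProduct.induction_on with
  | zero => simp
  | add x y hx hy => simp only [map_add, TensorProduct.tmul_add, Finset.sum_add_distrib, hx, hy]
  | tmul a t =>
    simp only [coordR_tmul, TensorProduct.tmul_smul, TensorProduct.smul_tmul']
    rw [← TensorProduct.sum_tmul, b.sum_repr]

/-- the coordinate isomorphism `E' ≃ E^ι` -/
noncomputable def coordE :
    WithConv (A →ₗ[R] A ⊗[R] A) ≃ₗ[WithConv (A →ₗ[R] A)] (ι → WithConv (A →ₗ[R] A)) where
  toFun g := fun i => toConv (coordR b i ∘ₗ g.ofConv)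
  map_add' g g' := by
    funext i
    apply WithConv.ofConv_injective
    simp [LinearMap.comp_add]
  map_smul' f g := by
    funext i
    apply WithConv.ofConv_injective
    rw [Algebra.smul_def, algebraMap_E, convMap_apply, RingHom.id_apply, Pi.smul_apply,
      smul_eq_mul, LinearMap.convMul_def, LinearMap.convMul_def]
    have key : coordR b i ∘ₗ LinearMap.mul' R (A ⊗[R] A) ∘ₗ
        TensorProduct.map ((i₂ (R := R) (A := A)).toLinearMap ∘ₗ f.ofConv) g.ofConv =
        LinearMap.mul' R A ∘ₗ TensorProduct.map f.ofConv (coordR b i ∘ₗ g.ofConv) := by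
      apply TensorProduct.ext'
      intro x y
      simp only [LinearMap.comp_apply, TensorProduct.map_tmul, LinearMap.mul'_apply,
        AlgHom.toLinearMap_apply]
      exact coordR_mul b i _ _
    change coordR b i ∘ₗ (LinearMap.mul' R (A ⊗[R] A) ∘ₗ
        TensorProduct.map ((i₂ (R := R) (A := A)).toLinearMap ∘ₗ f.ofConv) g.ofConv ∘ₗ comul) =
      LinearMap.mul' R A ∘ₗ TensorProduct.map f.ofConv (coordR b i ∘ₗ g.ofConv) ∘ₗ comul
    rw [← LinearMap.comp_assoc, ← LinearMap.comp_assoc, ← LinearMap.comp_assoc,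
      LinearMap.comp_assoc (f := TensorProduct.map ((i₂ (R := R) (A := A)).toLinearMap ∘ₗ f.ofConv)
        g.ofConv), key]
  invFun gs := toConv (∑ i, (TensorProduct.mk R A A (b i)) ∘ₗ (gs i).ofConv)
  left_inv g := by
    apply WithConv.ofConv_injective
    ext a
    simp only [LinearMap.sum_apply, LinearMap.comp_apply, TensorProduct.mk_apply]
    exact sum_tmul_coordR b _
  right_inv gs := by
    funext i
    apply WithConv.ofConv_injective
    ext a
    simp only [LinearMap.comp_apply, LinearMap.sum_apply, map_sum,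
      TensorProduct.mk_apply, coordR_tmul, Module.Basis.repr_self, Finsupp.single_apply]
    rw [Finset.sum_eq_single i]
    · simp
    · intro j _ hj
      simp [hj]
    · intro h; exact absurd (Finset.mem_univ i) h

end Free

section Sigma

variable {R : Type u} [CommRing R] {A : Type v} [CommRing A] [HopfAlgebra R A]
  [Coalgebra.IsCocomm R A]

attribute [local instance] algE

/-- algebra maps as linear maps, as a monoid hom of convolution monoids -/
noncomputable def toLin (S : Type*) [CommRing S] [Algebra R S] :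
    WithConv (A →ₐ[R] S) →* WithConv (A →ₗ[R] S) where
  toFun f := toConv f.ofConv.toLinearMap
  map_one' := AlgHom.toLinearMap_convOne
  map_mul' := AlgHom.toLinearMap_convMul

omit [IsCocomm R A] in
lemma toLin_injective (S : Type*) [CommRing S] [Algebra R S] :
    Function.Injective (toLin (R := R) (A := A) S) := by
  intro f g h
  apply WithConv.ofConv_injective
  apply AlgHom.toLinearMap_injective
  exact WithConv.toConv_injective h

lemma tau_mul_inv (w : WithConv (A →ₐ[R] A)) (f : WithConv (A →ₗ[R] A ⊗[R] A)) :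
    convMap (tau w) (convMap (tau w⁻¹) f) = f := by
  rw [convMap_comp, tau_comp_tau, mul_inv_cancel, tau_one, convMap_id]

lemma tau_inv_mul (w : WithConv (A →ₐ[R] A)) (f : WithConv (A →ₗ[R] A ⊗[R] A)) :
    convMap (tau w⁻¹) (convMap (tau w) f) = f := by
  rw [convMap_comp, tau_comp_tau, inv_mul_cancel, tau_one, convMap_id]

/-- the translation automorphism of `E'` over `E` -/
noncomputable def sigma (w : WithConv (A →ₐ[R] A)) :
    WithConv (A →ₗ[R] A ⊗[R] A) ≃ₐ[WithConv (A →ₗ[R] A)] WithConv (A →ₗ[R] A ⊗[R] A) :=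
  AlgEquiv.ofRingEquiv
    (f := RingEquiv.ofRingHom (convMap (tau w)) (convMap (tau w⁻¹))
      (RingHom.ext (tau_mul_inv w)) (RingHom.ext (tau_inv_mul w)))
    (fun f => by
      change convMap (tau w) (convMap i₂ f) = convMap i₂ f
      rw [convMap_comp, tau_comp_i₂])

lemma sigma_apply (w : WithConv (A →ₐ[R] A)) (f : WithConv (A →ₗ[R] A ⊗[R] A)) :
    sigma w f = convMap (tau w) f := rfl

theorem pow_card_eq_one {ι : Type*} [Fintype ι] [DecidableEq ι] (b : Module.Basis ι R A)
    (w : WithConv (A →ₐ[R] A)) : w ^ Fintype.card ι = 1 := by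
  apply toLin_injective
  rw [map_pow, map_one]
  have hunit : IsUnit (toLin (A ⊗[R] A) (toConv (i₁ (R := R) (A := A)))) := by
    apply IsUnit.of_mul_eq_one (toLin (A ⊗[R] A) (toConv (i₁ (R := R) (A := A)))⁻¹)
    rw [← map_mul]
    have : toConv (i₁ (R := R) (A := A)) * (toConv (i₁ (R := R) (A := A)))⁻¹ = 1 :=
      mul_inv_cancel (G := WithConv (A →ₐ[R] A ⊗[R] A)) (toConv (i₁ (R := R) (A := A)))
    rw [this, map_one]
  refine pow_eq_one_of_norm (Module.Basis.ofEquivFun (coordE b)) (sigma w)
    (toLin (A ⊗[R] A) (toConv (i₁ (R := R) (A := A)))) hunit (toLin A w) ?_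
  rw [sigma_apply, algebraMap_E]
  change toConv (((tau w).comp i₁).toLinearMap) = _
  rw [tau_comp_i₁]
  change toLin (A ⊗[R] A) (toConv (i₁ (R := R) (A := A)) * toConv ((i₂ (R := R) (A := A)).comp w.ofConv)) = _
  rw [map_mul]
  rfl

end Sigma

section BC

variable {R : Type u} [CommRing R] {A : Type v} [CommRing A] [HopfAlgebra R A]
  (T : Type*) [CommRing T] [Algebra R T]

/-- base change of the power maps -/
lemma pow_baseChange (n : ℕ) (t : T) (a : A) :
    ((toConv (AlgHom.id T (T ⊗[R] A))) ^ n).ofConv (t ⊗ₜ[R] a) =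
      t ⊗ₜ[R] ((toConv (AlgHom.id R A)) ^ n).ofConv a := by
  induction n generalizing t a with
  | zero =>
    rw [pow_zero, pow_zero]
    change algebraMap T (T ⊗[R] A) (counit (R := T) (t ⊗ₜ[R] a)) =
      t ⊗ₜ[R] algebraMap R A (counit (R := R) a)
    rw [TensorProduct.counit_tmul, Algebra.TensorProduct.algebraMap_apply,
      Algebra.algebraMap_eq_smul_one (counit (R := R) a), TensorProduct.tmul_smul]
    simp [CommSemiring.counit_apply, TensorProduct.smul_tmul']
  | succ n ih =>
    rw [pow_succ, pow_succ]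
    change ((toConv (AlgHom.id T (T ⊗[R] A)) ^ n) * toConv (AlgHom.id T (T ⊗[R] A))) (t ⊗ₜ[R] a) =
      t ⊗ₜ[R] ((toConv (AlgHom.id R A) ^ n) * toConv (AlgHom.id R A)) a
    rw [AlgHom.convMul_apply, AlgHom.convMul_apply, TensorProduct.comul_tmul,
      ← (ℛ R a).eq]
    simp only [CommSemiring.comul_apply, TensorProduct.tmul_sum, map_sum]
    refine Finset.sum_congr rfl (fun i _ => ?_)
    simp only [AlgebraTensorModule.tensorTensorTensorComm_tmul, Algebra.TensorProduct.lift_tmul,
      AlgHom.id_apply]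
    change (toConv (AlgHom.id T (T ⊗[R] A)) ^ n).ofConv ((1 : T) ⊗ₜ[R] (ℛ R a).left i) * _ = _
    rw [ih, Algebra.TensorProduct.tmul_mul_tmul, one_mul]

end BC

section Main

/-- **Deligne's theorem**: a commutative finite locally free group scheme of order `n` is killed
by `n`. -/
theorem deligne (R : Type u) [CommRing R] (A : Type v) [CommRing A] [HopfAlgebra R A]
    [Coalgebra.IsCocomm R A] [Module.Finite R A] [Module.Projective R A] (n : ℕ)
    (hn : ∀ p : PrimeSpectrum R, Module.rankAtStalk A p = n) :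
    (WithConv.toConv (AlgHom.id R A)) ^ n = 1 := by
  apply WithConv.ofConv_injective
  apply AlgHom.ext
  intro a
  apply Module.eq_of_localization_maximal
    (fun P _ => Localization.AtPrime P ⊗[R] A)
    (fun P _ => TensorProduct.mk R (Localization.AtPrime P) A 1)
  intro P hP
  change (1 : Localization.AtPrime P) ⊗ₜ[R] ((toConv (AlgHom.id R A)) ^ n).ofConv a =
    (1 : Localization.AtPrime P) ⊗ₜ[R] ((toConv (AlgHom.id R A)) ^ 0).ofConv a
  rw [← pow_baseChange, ← pow_baseChange]
  have hfree : Module.Free (Localization.AtPrime P) (Localization.AtPrime P ⊗[R] A) :=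
    Module.free_of_flat_of_isLocalRing
  have hr : Module.finrank (Localization.AtPrime P) (Localization.AtPrime P ⊗[R] A) = n := by
    rw [← Module.rankAtStalk_eq_finrank_tensorProduct ⟨P, hP.isPrime⟩]
    exact hn _
  let b := Module.finBasisOfFinrankEq (Localization.AtPrime P) (Localization.AtPrime P ⊗[R] A) hr
  have h1 := pow_card_eq_one b (toConv (AlgHom.id (Localization.AtPrime P)
    (Localization.AtPrime P ⊗[R] A)))
  rw [Fintype.card_fin] at h1
  rw [h1, pow_zero]

end Main

end Groth.Agent.Lib.Helper6.Deligne
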