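import Mathlib
import Groth.Prelude
import Groth.Agent.Lib.Helper25FinHopf
import Groth.Agent.Lib.Helper6Deligne

/-!
# Bridge: finite locally free group schemes and Hopf algebras (helper11)

A finite locally free group scheme of constant rank `n` over a reduced base, or a commutative one
over an arbitrary base, is killed by `n`.  The Hopf-algebra statements are
`Groth.Agent.Lib.Helper25.FinHopf.convPow_of_rankAtStalk` and
`Groth.Agent.Lib.Helper6.Deligne.deligne`; this file transports them to group objects of
`Over S`.
-/

set_option autoImplicit false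
set_option linter.style.haveILetI false
set_option linter.unusedSectionVars false
universe u v
set_option synthInstance.maxHeartbeats 400000

open CategoryTheory CategoryTheory.Limits MonoidalCategory CartesianMonoidalCategory MonObj GrpObj
  AlgebraicGeometry TensorProduct

namespace Groth.Agent.Lib.Helper11.HopfBr

section Affine

variable {R : Type u} [CommRing R]

/-- an affine group scheme over `Spec R` is the spectrum of a Hopf algebra, as a group. -/
theorem exists_hopf (H : Over (Spec (CommRingCat.of R))) [GrpObj H] [IsAffine H.left] :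
    ∃ (A : Type u) (_ : CommRing A) (_ : HopfAlgebra R A)
      (e : (Spec (CommRingCat.of A)).asOver (Spec (CommRingCat.of R)) ≅ H), IsMonHom e.hom := by
  have hH : (hopfSpec (CommRingCat.of R)).essImage (Grp.mk H) := by
    rw [essImage_hopfSpec]
    infer_instance
  obtain ⟨Y, ⟨e⟩⟩ := hH
  refine ⟨Y.unop, inferInstance, inferInstance, (Grp.forget _).mapIso e, ?_⟩
  exact e.hom.hom.isMonHom_hom

/-- the identity is the image of the identity algebra map. -/
theorem mapMulEquiv_id (A : Type u) [CommRing A] [Bialgebra R A] :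
    Spec.mapMulEquiv (R := R) (S := A) (T := A) (WithConv.toConv (AlgHom.id R A)) = 𝟙 _ := by
  apply Over.OverMorphism.ext
  change Spec.map (CommRingCat.ofHom (AlgHom.id R A).toRingHom) = 𝟙 _
  exact Spec.map_id _

/-- if the identity of a Hopf algebra is killed by `n` for convolution, the group scheme is killed
by `n`. -/
theorem pow_id_of_hopf (H : Over (Spec (CommRingCat.of R))) [GrpObj H]
    (A : Type u) [CommRing A] [HopfAlgebra R A]
    (e : (Spec (CommRingCat.of A)).asOver (Spec (CommRingCat.of R)) ≅ H) [IsMonHom e.hom] (n : ℕ)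
    (h : (WithConv.toConv (AlgHom.id R A)) ^ n = 1) : (𝟙 H : H ⟶ H) ^ n = 1 := by
  have h1 : (𝟙 ((Spec (CommRingCat.of A)).asOver (Spec (CommRingCat.of R))) :
      (Spec (CommRingCat.of A)).asOver (Spec (CommRingCat.of R)) ⟶ _) ^ n = 1 := by
    rw [← mapMulEquiv_id, ← map_pow, h, map_one]
  have h2 : e.hom ^ n = 1 := by
    have := congrArg (· ≫ e.hom) h1
    simp only [MonObj.pow_comp, MonObj.one_comp, Category.id_comp] at this
    exact this
  have h3 : (𝟙 H : H ⟶ H) = e.inv ≫ e.hom := by rw [Iso.inv_hom_id]
  rw [h3, ← MonObj.comp_pow, h2, MonObj.comp_one]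

/-- a finite locally free group scheme of constant rank over `Spec R` is the spectrum of a finite
projective Hopf algebra of that rank. -/
theorem exists_hopf_finite (H : Over (Spec (CommRingCat.of R))) [GrpObj H] [IsFinite H.hom]
    [Flat H.hom] [LocallyOfFinitePresentation H.hom] (n : ℕ)
    (hn : ∀ s, Scheme.Hom.finrank H.hom s = n) :
    ∃ (A : Type u) (_ : CommRing A) (_ : HopfAlgebra R A)
      (e : (Spec (CommRingCat.of A)).asOver (Spec (CommRingCat.of R)) ≅ H), IsMonHom e.hom ∧
        Module.Finite R A ∧ Module.Projective R A ∧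
        ∀ p : PrimeSpectrum R, Module.rankAtStalk (R := R) A p = n := by
  haveI : IsAffine H.left := isAffine_of_isAffineHom H.hom
  obtain ⟨A, _, _, e, he⟩ := exists_hopf H
  have hw : e.hom.left ≫ H.hom = Spec.map (CommRingCat.ofHom (algebraMap R A)) := Over.w e.hom
  haveI : IsIso e.hom.left := (Over.forget _).map_isIso e.hom
  have h1 : IsFinite (Spec.map (CommRingCat.ofHom (algebraMap R A))) := by
    rw [← hw]
    exact (MorphismProperty.cancel_left_of_respectsIso @IsFinite e.hom.left H.hom).mpr inferInstance
  have h2 : Flat (Spec.map (CommRingCat.ofHom (algebraMap R A))) := by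
    rw [← hw]
    exact (MorphismProperty.cancel_left_of_respectsIso @Flat e.hom.left H.hom).mpr inferInstance
  have h3 : LocallyOfFinitePresentation (Spec.map (CommRingCat.ofHom (algebraMap R A))) := by
    rw [← hw]
    exact (MorphismProperty.cancel_left_of_respectsIso @LocallyOfFinitePresentation
      e.hom.left H.hom).mpr inferInstance
  rw [IsFinite.SpecMap_iff] at h1
  rw [Flat.SpecMap_iff] at h2
  rw [LocallyOfFinitePresentation.SpecMap_iff] at h3
  have h1' : Module.Finite R A := RingHom.finite_algebraMap.mp h1
  have h2' : Module.Flat R A := (RingHom.flat_algebraMap_iff).mp h2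
  have h3' : Algebra.FinitePresentation R A := (RingHom.finitePresentation_algebraMap).mp h3
  have h4 : Module.FinitePresentation R A :=
    Module.FinitePresentation.of_finite_of_finitePresentation R A
  have h5 : Module.Projective R A := Module.Flat.projective_of_finitePresentation
  refine ⟨A, inferInstance, inferInstance, e, he, h1', h5, fun p => ?_⟩
  rw [← Scheme.Hom.finrank_SpecMap_algebraMap, ← hn p]
  have := Scheme.Hom.finrank_comp_left_of_isIso e.hom.left H.hom
  rw [hw] at this
  exact congrFun this p

/-- a commutative affine monoid scheme has a cocommutative bialgebra. -/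
theorem isCocomm_of_isCommMonObj (A : Type u) [CommRing A] [Bialgebra R A]
    [IsCommMonObj ((Spec (CommRingCat.of A)).asOver (Spec (CommRingCat.of R)))] :
    Coalgebra.IsCocomm R A := by
  constructor
  let f : WithConv (A →ₐ[R] A ⊗[R] A) := WithConv.toConv Algebra.TensorProduct.includeLeft
  let g : WithConv (A →ₐ[R] A ⊗[R] A) := WithConv.toConv Algebra.TensorProduct.includeRight
  have h : f * g = g * f := by
    apply (Spec.mapMulEquiv (R := R) (S := A) (T := A ⊗[R] A)).injective
    rw [map_mul, map_mul, mul_comm]
  ext c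
  have h2 : (f * g).ofConv c = (g * f).ofConv c := by rw [h]
  have e1 : (f * g).ofConv c = Coalgebra.comul (R := R) c := by
    change (f * g) c = _
    rw [AlgHom.convMul_apply]
    have : Algebra.TensorProduct.lift f.ofConv g.ofConv (fun _ _ ↦ .all ..) = AlgHom.id R _ := by
      ext <;> simp [f, g]
    rw [this]; rfl
  have e2 : (g * f).ofConv c = TensorProduct.comm R A A (Coalgebra.comul (R := R) c) := by
    change (g * f) c = _
    rw [AlgHom.convMul_apply]
    have : Algebra.TensorProduct.lift g.ofConv f.ofConv (fun _ _ ↦ .all ..) =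
        (Algebra.TensorProduct.comm R A A : A ⊗[R] A →ₐ[R] A ⊗[R] A) := by
      ext <;> simp [f, g]
    rw [this]; rfl
  rw [e1, e2] at h2
  simpa using h2.symm

end Affine

/-- commutativity of a monoid object transports along an isomorphism of monoid objects. -/
theorem isCommMonObj_of_iso {C : Type u} [Category.{v} C] [MonoidalCategory C] [BraidedCategory C]
    {X Y : C} [MonObj X] [MonObj Y] [IsCommMonObj Y] (e : X ≅ Y) [IsMonHom e.hom] :
    IsCommMonObj X := by
  constructor
  have h1 : μ[X] = (e.hom ⊗ₘ e.hom) ≫ μ[Y] ≫ e.inv := by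
    rw [← Category.assoc, ← IsMonHom.mul_hom, Category.assoc, Iso.hom_inv_id, Category.comp_id]
  rw [h1, ← Category.assoc, ← BraidedCategory.braiding_naturality, Category.assoc,
    IsCommMonObj.mul_comm_assoc]

section AffineMain

variable {R : Type u} [CommRing R]

/-- affine reduced base: a finite locally free group scheme of rank `n` is killed by `n`. -/
theorem pow_id_eq_one_affine_reduced [IsReduced R] (H : Over (Spec (CommRingCat.of R)))
    [GrpObj H] [IsFinite H.hom] [Flat H.hom] [LocallyOfFinitePresentation H.hom] (n : ℕ)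
    (hn : ∀ s, Scheme.Hom.finrank H.hom s = n) : (𝟙 H : H ⟶ H) ^ n = 1 := by
  obtain ⟨A, _, _, e, he, h1, h2, h3⟩ := exists_hopf_finite H n hn
  exact pow_id_of_hopf H A e n
    (Groth.Agent.Lib.Helper25.FinHopf.convPow_of_rankAtStalk n h3 (AlgHom.id R A))

/-- affine base, commutative group: Deligne's theorem. -/
theorem pow_id_eq_one_affine_comm (H : Over (Spec (CommRingCat.of R)))
    [GrpObj H] [IsCommMonObj H] [IsFinite H.hom] [Flat H.hom] [LocallyOfFinitePresentation H.hom]
    (n : ℕ) (hn : ∀ s, Scheme.Hom.finrank H.hom s = n) : (𝟙 H : H ⟶ H) ^ n = 1 := by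
  obtain ⟨A, _, _, e, he, h1, h2, h3⟩ := exists_hopf_finite H n hn
  haveI : IsCommMonObj ((Spec (CommRingCat.of A)).asOver (Spec (CommRingCat.of R))) :=
    isCommMonObj_of_iso e
  haveI : Coalgebra.IsCocomm R A := isCocomm_of_isCommMonObj A
  exact pow_id_of_hopf H A e n (Groth.Agent.Lib.Helper6.Deligne.deligne R A n h3)

end AffineMain

open scoped Obj

/-- killing by `n` can be checked on an open cover of the base. -/
theorem pow_id_eq_one_of_cover {S : Scheme.{u}} (G : Over S) [GrpObj G] (n : ℕ)
    (𝒰 : S.OpenCover)
    (h : ∀ i, (𝟙 ((Over.pullback (𝒰.f i)).obj G) : (Over.pullback (𝒰.f i)).obj G ⟶ _) ^ n = 1) :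
    (𝟙 G : G ⟶ G) ^ n = 1 := by
  apply Over.OverMorphism.ext
  apply Scheme.Cover.hom_ext (𝒰.pullback₁ G.hom)
  intro i
  have h1 : (Over.pullback (𝒰.f i)).map ((𝟙 G : G ⟶ G) ^ n) =
      (Over.pullback (𝒰.f i)).map (1 : G ⟶ G) := by
    rw [Functor.map_one]
    have := map_pow ((Over.pullback (𝒰.f i)).homMonoidHom (X := G) (M := G)) (𝟙 G) n
    simp only [Functor.homMonoidHom_apply] at this
    rw [this, CategoryTheory.Functor.map_id, h i]
  have h2 := congrArg (fun φ => φ.left ≫ pullback.fst G.hom (𝒰.f i)) h1
  simp only [Over.pullback_map_left, pullback.lift_fst] at h2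
  exact h2

end Groth.Agent.Lib.Helper11.HopfBr
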