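import Mathlib
import Groth.Prelude
import Groth.Agent.Lib.Helper11HopfBr

set_option autoImplicit false
set_option linter.style.haveILetI false
set_option linter.unusedSectionVars false
universe u v
set_option synthInstance.maxHeartbeats 400000

open CategoryTheory CategoryTheory.Limits MonoidalCategory CartesianMonoidalCategory MonObj GrpObj
  AlgebraicGeometry TensorProduct

namespace Groth.Agent.Lib.Helper11.HopfBr

open scoped Obj

/-- killing by `n` can be checked on affine opens of the base. -/
theorem pow_id_eq_one_of_affine_cover {S : Scheme.{u}} (G : Over S) [GrpObj G] (n : ℕ)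
    (h : ∀ (R : CommRingCat.{u}) (f : Spec R ⟶ S) [IsOpenImmersion f],
      (𝟙 ((Over.pullback f).obj G) : (Over.pullback f).obj G ⟶ _) ^ n = 1) :
    (𝟙 G : G ⟶ G) ^ n = 1 :=
  pow_id_eq_one_of_cover G n S.affineOpenCover.openCover
    (fun i => h (S.affineOpenCover.X i) (S.affineOpenCover.f i))

/-- `CommRingCat` version of the affine reduced case. -/
theorem pow_id_eq_one_affine_reduced' (R : CommRingCat.{u}) [IsReduced R] (H : Over (Spec R))
    [GrpObj H] [IsFinite H.hom] [Flat H.hom] [LocallyOfFinitePresentation H.hom] (n : ℕ)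
    (hn : ∀ s, Scheme.Hom.finrank H.hom s = n) : (𝟙 H : H ⟶ H) ^ n = 1 :=
  pow_id_eq_one_affine_reduced (R := R) H n hn

/-- `CommRingCat` version of the affine commutative case. -/
theorem pow_id_eq_one_affine_comm' (R : CommRingCat.{u}) (H : Over (Spec R))
    [GrpObj H] [IsCommMonObj H] [IsFinite H.hom] [Flat H.hom] [LocallyOfFinitePresentation H.hom]
    (n : ℕ) (hn : ∀ s, Scheme.Hom.finrank H.hom s = n) : (𝟙 H : H ⟶ H) ^ n = 1 :=
  pow_id_eq_one_affine_comm (R := R) H n hn

/-- a finite locally free group scheme of constant rank `n` over a reduced base is killed by `n`. -/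
theorem pow_id_eq_one_reduced {S : Scheme.{u}} [IsReduced S] (G : Over S) [GrpObj G]
    [IsFinite G.hom] [Flat G.hom] [LocallyOfFinitePresentation G.hom] (n : ℕ)
    (hn : ∀ s, Scheme.Hom.finrank G.hom s = n) : (𝟙 G : G ⟶ G) ^ n = 1 := by
  apply pow_id_eq_one_of_affine_cover G n
  intro R f _
  haveI : IsReduced (Spec R) := isReduced_of_isOpenImmersion f
  haveI : IsReduced R := (affine_isReduced_iff R).mp inferInstance
  haveI : IsFinite ((Over.pullback f).obj G).hom :=
    inferInstanceAs (IsFinite (pullback.snd G.hom f))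
  haveI : Flat ((Over.pullback f).obj G).hom :=
    inferInstanceAs (Flat (pullback.snd G.hom f))
  haveI : LocallyOfFinitePresentation ((Over.pullback f).obj G).hom :=
    inferInstanceAs (LocallyOfFinitePresentation (pullback.snd G.hom f))
  refine pow_id_eq_one_affine_reduced' R ((Over.pullback f).obj G) n (fun s => ?_)
  exact (Scheme.Hom.finrank_pullback_snd G.hom f s).trans (hn _)

/-- a commutative finite locally free group scheme of constant rank `n` is killed by `n`. -/
theorem pow_id_eq_one_comm {S : Scheme.{u}} (G : Over S) [GrpObj G] [IsCommMonObj G]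
    [IsFinite G.hom] [Flat G.hom] [LocallyOfFinitePresentation G.hom] (n : ℕ)
    (hn : ∀ s, Scheme.Hom.finrank G.hom s = n) : (𝟙 G : G ⟶ G) ^ n = 1 := by
  apply pow_id_eq_one_of_affine_cover G n
  intro R f _
  haveI : IsFinite ((Over.pullback f).obj G).hom :=
    inferInstanceAs (IsFinite (pullback.snd G.hom f))
  haveI : Flat ((Over.pullback f).obj G).hom :=
    inferInstanceAs (Flat (pullback.snd G.hom f))
  haveI : LocallyOfFinitePresentation ((Over.pullback f).obj G).hom :=
    inferInstanceAs (LocallyOfFinitePresentation (pullback.snd G.hom f))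
  haveI : IsCommMonObj ((Over.pullback f).obj G) := Functor.isCommMonObj_obj
  refine pow_id_eq_one_affine_comm' R ((Over.pullback f).obj G) n (fun s => ?_)
  exact (Scheme.Hom.finrank_pullback_snd G.hom f s).trans (hn _)

end Groth.Agent.Lib.Helper11.HopfBr
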