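import Mathlib
import Groth.Agent.Lib.Helper11HorrE

/-!
# Helper11 Horrocks F: transporting an isogeny through the gluing map of a bundle on `ℙ¹`
-/

set_option autoImplicit false
universe u

namespace Groth.Agent.Lib.Helper11.Horrocks

open Polynomial LaurentPolynomial TensorProduct

section transport
variable {A : Type u} [CommRing A] {M N : Type u} [AddCommGroup M] [Module A[X] M]
  [AddCommGroup N] [Module A[X] N]

theorem exists_laurent_matrices
    (e : (A[T;T⁻¹] ⊗[A[X]] M) →ₛₗ[(LaurentPolynomial.invert (R := A)).toRingEquiv.toRingHom]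
      (A[T;T⁻¹] ⊗[A[X]] N))
    (he : Function.Bijective e)
    {n r : ℕ} (π : (Fin n → A[X]) →ₗ[A[X]] M) (σ : M →ₗ[A[X]] (Fin n → A[X]))
    (hπσ : π ∘ₗ σ = LinearMap.id)
    (φ : (Fin r → A[X]) →ₗ[A[X]] N) (φ' : N →ₗ[A[X]] (Fin r → A[X])) (s : A[X])
    (h1 : φ ∘ₗ φ' = s • LinearMap.id) (h2 : φ' ∘ₗ φ = s • LinearMap.id) :
    ∃ (IM : Matrix (Fin r) (Fin n) A[T;T⁻¹]) (ΨM : Matrix (Fin n) (Fin r) A[T;T⁻¹]),
      ΨM * IM = (invert (toLaurent s)) •
        (LinearMap.toMatrix' (σ ∘ₗ π)).map (algebraMap A[X] A[T;T⁻¹]) ∧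
      IM * ΨM = (invert (toLaurent s)) • (1 : Matrix (Fin r) (Fin r) A[T;T⁻¹]) := by
  classical
  have hinv : ∀ l : A[T;T⁻¹], invert (invert l) = l := involutive_invert
  have hesmul : ∀ (c : A[T;T⁻¹]) x, e (c • x) = invert c • e x := fun c x => e.map_smulₛₗ c x
  let E := Equiv.ofBijective e he
  have hE1 : ∀ y, e (E.symm y) = y := fun y => Equiv.ofBijective_apply_symm_apply e he y
  have hE2 : ∀ x, E.symm (e x) = x := fun x => Equiv.ofBijective_symm_apply_apply e he x
  have hEadd : ∀ y y', E.symm (y + y') = E.symm y + E.symm y' := by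
    intro y y'
    apply he.injective
    rw [hE1, map_add e, hE1, hE1]
  have hEsmul : ∀ (c : A[T;T⁻¹]) y, E.symm (c • y) = invert c • E.symm y := by
    intro c y
    apply he.injective
    rw [hesmul, hinv, hE1, hE1]
  let IL : (Fin n → A[T;T⁻¹]) →ₗ[A[T;T⁻¹]] (Fin r → A[T;T⁻¹]) :=
    { toFun := fun v i => invert ((bcDown A[T;T⁻¹] φ' (e (bcUp A[T;T⁻¹] π v))) i)
      map_add' := by
        intro v w
        funext i
        simp only [map_add, Pi.add_apply]
      map_smul' := by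
        intro c v
        funext i
        simp only [map_smul, hesmul, Pi.smul_apply, smul_eq_mul, map_mul, hinv, RingHom.id_apply] }
  let ΨL : (Fin r → A[T;T⁻¹]) →ₗ[A[T;T⁻¹]] (Fin n → A[T;T⁻¹]) :=
    { toFun := fun w => bcDown A[T;T⁻¹] σ (E.symm (bcUp A[T;T⁻¹] φ (fun i => invert (w i))))
      map_add' := by
        intro v w
        have : (fun i => invert ((v + w) i)) =
            (fun i => invert (v i)) + (fun i => invert (w i)) := by
          funext i; simp
        rw [this, map_add, hEadd, map_add]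
      map_smul' := by
        intro c v
        have : (fun i => invert ((c • v) i)) = invert c • (fun i => invert (v i)) := by
          funext i; simp
        rw [this, map_smul, hEsmul, hinv, map_smul, RingHom.id_apply] }
  have hsbc : ∀ z : A[T;T⁻¹] ⊗[A[X]] N, (φ ∘ₗ φ').baseChange A[T;T⁻¹] z = toLaurent s • z := by
    intro z
    rw [h1, LinearMap.baseChange_smul, LinearMap.baseChange_id, LinearMap.smul_apply,
      LinearMap.id_apply, ← algebraMap_eq_toLaurent, algebraMap_smul]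
  have hidbc : ∀ z : A[T;T⁻¹] ⊗[A[X]] M, (π ∘ₗ σ).baseChange A[T;T⁻¹] z = z := by
    intro z
    rw [hπσ, LinearMap.baseChange_id, LinearMap.id_apply]
  have hΨI : ∀ v, ΨL (IL v) = invert (toLaurent s) •
      ((LinearMap.toMatrix' (σ ∘ₗ π)).map (algebraMap A[X] A[T;T⁻¹])).mulVec v := by
    intro v
    show bcDown A[T;T⁻¹] σ (E.symm (bcUp A[T;T⁻¹] φ
      (fun i => invert (invert ((bcDown A[T;T⁻¹] φ' (e (bcUp A[T;T⁻¹] π v))) i))))) = _
    have : (fun i => invert (invert ((bcDown A[T;T⁻¹] φ' (e (bcUp A[T;T⁻¹] π v))) i))) =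
        bcDown A[T;T⁻¹] φ' (e (bcUp A[T;T⁻¹] π v)) := by
      funext i; rw [hinv]
    rw [this, bcUp_bcDown, hsbc, hEsmul, hE2, map_smul, bcDown_bcUp]
  have hIΨ : ∀ w, IL (ΨL w) = invert (toLaurent s) • w := by
    intro w
    funext i
    show invert ((bcDown A[T;T⁻¹] φ' (e (bcUp A[T;T⁻¹] π (bcDown A[T;T⁻¹] σ
      (E.symm (bcUp A[T;T⁻¹] φ (fun i => invert (w i)))))))) i) = _
    rw [bcUp_bcDown, hidbc, hE1, bcDown_bcUp, h2]
    have hm : (LinearMap.toMatrix' (s • (LinearMap.id : (Fin r → A[X]) →ₗ[A[X]] _))).map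
        (algebraMap A[X] A[T;T⁻¹]) = toLaurent s • (1 : Matrix (Fin r) (Fin r) A[T;T⁻¹]) := by
      refine Matrix.ext fun a b => ?_
      rw [Matrix.map_apply, map_smul, LinearMap.toMatrix'_id, Matrix.smul_apply, Matrix.smul_apply,
        Matrix.one_apply, Matrix.one_apply, algebraMap_eq_toLaurent]
      split_ifs <;> simp
    rw [hm, Matrix.smul_mulVec, Matrix.one_mulVec, Pi.smul_apply, Pi.smul_apply, smul_eq_mul,
      smul_eq_mul, map_mul, hinv]
  refine ⟨LinearMap.toMatrix' IL, LinearMap.toMatrix' ΨL, ?_, ?_⟩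
  · rw [← LinearMap.toMatrix'_comp]
    have : ΨL ∘ₗ IL = invert (toLaurent s) • Matrix.toLin'
        ((LinearMap.toMatrix' (σ ∘ₗ π)).map (algebraMap A[X] A[T;T⁻¹])) := by
      refine LinearMap.ext fun v => ?_
      rw [LinearMap.comp_apply, hΨI, LinearMap.smul_apply, Matrix.toLin'_apply]
    rw [this, map_smul, LinearMap.toMatrix'_toLin']
  · rw [← LinearMap.toMatrix'_comp]
    have : IL ∘ₗ ΨL = invert (toLaurent s) • LinearMap.id := by
      refine LinearMap.ext fun v => ?_
      rw [LinearMap.comp_apply, hIΨ, LinearMap.smul_apply, LinearMap.id_apply]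
    rw [this, map_smul, LinearMap.toMatrix'_id]

end transport

end Groth.Agent.Lib.Helper11.Horrocks
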