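import Mathlib
import Groth.Agent.Lib.Helper11HorrH

/-!
# Helper11 Horrocks K: extended modules with finite projective fibre; local freeness on a cover
-/

set_option autoImplicit false
universe u

namespace Groth.Agent.Lib.Helper11.Horrocks

open Polynomial TensorProduct

section assemble'
variable {A : Type u} [CommRing A] {M : Type u} [AddCommGroup M] [Module A[X] M]

theorem extended_of_eqv' {n : ℕ}
    (π : (Fin n → A[X]) →ₗ[A[X]] M) (σ : M →ₗ[A[X]] (Fin n → A[X])) (hπσ : π ∘ₗ σ = LinearMap.id)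
    (h : Eqv (LinearMap.toMatrix' (σ ∘ₗ π))
      ((C.comp (evalRingHom 0)).mapMatrix (LinearMap.toMatrix' (σ ∘ₗ π)))) :
    ∃ (P : Type u) (_ : AddCommGroup P) (_ : Module A P), Module.Finite A P ∧
      Module.Projective A P ∧ Nonempty (M ≃ₗ[A[X]] (A[X] ⊗[A] P)) := by
  classical
  obtain ⟨p, hpdef⟩ : ∃ p, p = LinearMap.toMatrix' (σ ∘ₗ π) := ⟨_, rfl⟩
  rw [← hpdef] at h
  have hp : p * p = p := by
    rw [hpdef, ← LinearMap.toMatrix'_comp]
    congr 1
    rw [LinearMap.comp_assoc, ← LinearMap.comp_assoc π σ π, hπσ, LinearMap.id_comp]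
  have hplin : ∀ v, p.mulVec v = σ (π v) := by
    intro v
    rw [hpdef, ← Matrix.toLin'_apply, Matrix.toLin'_toMatrix']
    rfl
  obtain ⟨p₀, hp₀def⟩ : ∃ p₀ : Matrix (Fin n) (Fin n) A, p₀ = (evalRingHom 0).mapMatrix p :=
    ⟨_, rfl⟩
  have hp₀ : p₀ * p₀ = p₀ := by rw [hp₀def, ← map_mul, hp]
  obtain ⟨p₀', hp₀'def⟩ : ∃ p₀', p₀' = (C.comp (evalRingHom 0)).mapMatrix p := ⟨_, rfl⟩
  rw [← hp₀'def] at h
  have hp₀' : p₀' * p₀' = p₀' := by rw [hp₀'def, ← map_mul, hp]
  have hp₀'C : p₀' = p₀.map (algebraMap A A[X]) := by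
    rw [hp₀'def, hp₀def]
    refine Matrix.ext fun i j => ?_
    simp [Polynomial.algebraMap_eq]
  let P : Submodule A (Fin n → A) := LinearMap.range (Matrix.toLin' p₀)
  let π₀ : (Fin n → A) →ₗ[A] P := (Matrix.toLin' p₀).rangeRestrict
  let σ₀ : P →ₗ[A] (Fin n → A) := P.subtype
  have hπ₀σ₀ : π₀ ∘ₗ σ₀ = LinearMap.id := by
    refine LinearMap.ext fun y => ?_
    obtain ⟨y, v, rfl⟩ := y
    refine Subtype.ext ?_
    show Matrix.toLin' p₀ (Matrix.toLin' p₀ v) = Matrix.toLin' p₀ v
    rw [Matrix.toLin'_apply, Matrix.toLin'_apply, Matrix.mulVec_mulVec, hp₀]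
  have hσ₀π₀ : σ₀ ∘ₗ π₀ = Matrix.toLin' p₀ := by
    refine LinearMap.ext fun v => ?_
    rfl
  have hdu : ∀ v, bcDown A[X] σ₀ (bcUp A[X] π₀ v) = p₀'.mulVec v := by
    intro v
    rw [bcDown_bcUp, hσ₀π₀, LinearMap.toMatrix'_toLin', hp₀'C]
  have hud : ∀ z, bcUp A[X] π₀ (bcDown A[X] σ₀ z) = z := by
    intro z
    rw [bcUp_bcDown, hπ₀σ₀, LinearMap.baseChange_id, LinearMap.id_apply]
  obtain ⟨x, y, hxy, hyx⟩ := h
  have hπσ' : ∀ m, π (σ m) = m := fun m => LinearMap.congr_fun hπσ m
  have hfin : Module.Finite A P := Module.Finite.of_surjective π₀ (by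
    intro y
    obtain ⟨y, v, rfl⟩ := y
    exact ⟨v, rfl⟩)
  have hproj : Module.Projective A P := Module.Projective.of_split σ₀ π₀ hπ₀σ₀
  refine ⟨P, inferInstance, inferInstance, hfin, hproj, ⟨LinearEquiv.ofLinearMap
    (bcUp A[X] π₀ ∘ₗ Matrix.toLin' y ∘ₗ σ) (π ∘ₗ Matrix.toLin' x ∘ₗ bcDown A[X] σ₀) ?_ ?_⟩⟩
  · refine LinearMap.ext fun z => ?_
    simp only [LinearMap.comp_apply, LinearMap.id_apply, Matrix.toLin'_apply]
    rw [← hplin, Matrix.mulVec_mulVec, Matrix.mulVec_mulVec]
    have h1 : y * p * x = p₀' := by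
      calc y * p * x = (y * x) * (y * x) := by rw [← hxy]; simp only [Matrix.mul_assoc]
        _ = p₀' := by rw [hyx, hp₀']
    rw [h1, ← hdu, hud, hud]
  · refine LinearMap.ext fun m => ?_
    simp only [LinearMap.comp_apply, LinearMap.id_apply, Matrix.toLin'_apply]
    rw [hdu, Matrix.mulVec_mulVec, Matrix.mulVec_mulVec]
    have h1 : x * p₀' * y = p := by
      calc x * p₀' * y = (x * y) * (x * y) := by rw [← hyx]; simp only [Matrix.mul_assoc]
        _ = p := by rw [hxy, hp]
    rw [h1, hplin, hπσ', hπσ']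

end assemble'

section main'
open LaurentPolynomial
variable {A : Type u} [CommRing A]

/-- Quillen's affine Horrocks theorem, with a finite projective fibre. -/
theorem extended_of_extends' (M : Type u) [AddCommGroup M] [Module A[X] M]
    [Module.Finite A[X] M] [Module.Projective A[X] M]
    (N : Type u) [AddCommGroup N] [Module A[X] N] [Module.Finite A[X] N] [Module.Projective A[X] N]
    (e : (A[T;T⁻¹] ⊗[A[X]] M) →ₛₗ[(LaurentPolynomial.invert (R := A)).toRingEquiv.toRingHom]
      (A[T;T⁻¹] ⊗[A[X]] N))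
    (he : Function.Bijective e) :
    ∃ (P : Type u) (_ : AddCommGroup P) (_ : Module A P), Module.Finite A P ∧
      Module.Projective A P ∧ Nonempty (M ≃ₗ[A[X]] (A[X] ⊗[A] P)) := by
  classical
  obtain ⟨n, π, σ, -, -, hπσ⟩ := Module.Finite.exists_comp_eq_id_of_projective A[X] M
  refine extended_of_eqv' π σ hπσ ?_
  have hp : LinearMap.toMatrix' (σ ∘ₗ π) * LinearMap.toMatrix' (σ ∘ₗ π) =
      LinearMap.toMatrix' (σ ∘ₗ π) := by
    rw [← LinearMap.toMatrix'_comp]
    congr 1
    rw [LinearMap.comp_assoc, ← LinearMap.comp_assoc π σ π, hπσ, LinearMap.id_comp]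
  refine quillen_patching n _ hp ?_
  intro m hm
  haveI : (m.comap (evalRingHom (0 : A))).IsPrime := Ideal.comap_isPrime _ _
  obtain ⟨r, φ, φ', s, hs, h1, h2⟩ := exists_isogeny_free N (m.comap (evalRingHom (0 : A)))
  obtain ⟨IM, ΨM, hΨI, hIΨ⟩ := exists_laurent_matrices e he π σ hπσ φ φ' s h1 h2
  obtain ⟨I₀, Ψ₀, j, hΨI₀, hIΨ₀⟩ := exists_polynomial_matrices _ s IM ΨM hΨI hIΨ
  refine eqv_localization_of_lattice m _ hp I₀ Ψ₀ (Polynomial.X ^ j * s.reverse)
    (s.natDegree + j) ?_ ?_ hΨI₀ hIΨ₀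
  · refine natDegree_mul_le.trans ?_
    rw [add_comm]
    exact add_le_add (reverse_natDegree_le _) (natDegree_X_pow_le _)
  · rw [coeff_X_pow_mul, coeff_reverse, revAt_le le_rfl, Nat.sub_self]
    intro hmem
    apply hs
    rw [Ideal.mem_comap, coe_evalRingHom, ← coeff_zero_eq_eval_zero]
    exact hmem

end main'

section locfree
variable {B : Type u} [CommRing B]

theorem free_localizedModule_of_isogeny {M₁ M₂ : Type u} [AddCommGroup M₁] [Module B M₁]
    [AddCommGroup M₂] [Module B M₂] [Module.Free B M₁]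
    (φ : M₁ →ₗ[B] M₂) (φ' : M₂ →ₗ[B] M₁) (s : B)
    (h1 : φ ∘ₗ φ' = s • LinearMap.id) (h2 : φ' ∘ₗ φ = s • LinearMap.id) :
    Module.Free (Localization.Away s) (LocalizedModule (Submonoid.powers s) M₂) := by
  haveI : Module.Free (Localization.Away s) (LocalizedModule (Submonoid.powers s) M₁) :=
    Module.free_of_isLocalizedModule (Submonoid.powers s)
      (LocalizedModule.mkLinearMap (Submonoid.powers s) M₁)
  have hu : (algebraMap B (Localization.Away s) s) * (IsLocalization.Away.invSelf s : Localization.Away s) = 1 :=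
    IsLocalization.Away.mul_invSelf s
  let f := LocalizedModule.map (Submonoid.powers s) φ
  let f' := LocalizedModule.map (Submonoid.powers s) φ'
  have hff' : ∀ z, f (f' z) = algebraMap B (Localization.Away s) s • z := by
    intro z
    induction z using LocalizedModule.induction_on with
    | h m t =>
      show LocalizedModule.map _ φ (LocalizedModule.map _ φ' (LocalizedModule.mk m t)) = _
      rw [LocalizedModule.map_mk, LocalizedModule.map_mk]
      have := LinearMap.congr_fun h1 m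
      simp only [LinearMap.comp_apply, LinearMap.smul_apply, LinearMap.id_apply] at this
      rw [this, algebraMap_smul, LocalizedModule.smul'_mk]
  have hf'f : ∀ z, f' (f z) = algebraMap B (Localization.Away s) s • z := by
    intro z
    induction z using LocalizedModule.induction_on with
    | h m t =>
      show LocalizedModule.map _ φ' (LocalizedModule.map _ φ (LocalizedModule.mk m t)) = _
      rw [LocalizedModule.map_mk, LocalizedModule.map_mk]
      have := LinearMap.congr_fun h2 m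
      simp only [LinearMap.comp_apply, LinearMap.smul_apply, LinearMap.id_apply] at this
      rw [this, algebraMap_smul, LocalizedModule.smul'_mk]
  refine Module.Free.of_equiv (LinearEquiv.ofLinearMap f ((IsLocalization.Away.invSelf s : Localization.Away s) • f') ?_ ?_)
  · refine LinearMap.ext fun z => ?_
    rw [LinearMap.comp_apply, LinearMap.smul_apply, map_smul, hff', smul_smul, mul_comm, hu,
      one_smul, LinearMap.id_apply]
  · refine LinearMap.ext fun z => ?_
    rw [LinearMap.comp_apply, LinearMap.smul_apply, hf'f, smul_smul, mul_comm, hu, one_smul,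
      LinearMap.id_apply]

end locfree

end Groth.Agent.Lib.Helper11.Horrocks
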