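import Mathlib.AlgebraicGeometry.Morphisms.SchemeTheoreticallyDominant
import Mathlib.AlgebraicGeometry.Morphisms.ClosedImmersion
import Mathlib.AlgebraicGeometry.Morphisms.Flat
import Mathlib.AlgebraicGeometry.Morphisms.UniversallyOpen

/-!
Helper library (helper12): fpqc descent for quasi-coherent ideal sheaves / closed subschemes
(`Scheme.IdealSheafData`), via scheme-theoretic images and flat base change.
-/

set_option autoImplicit false
universe u
open CategoryTheory AlgebraicGeometry TopologicalSpace Limits

namespace Groth.Agent.Lib.Helper12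

variable {X Y Z : Scheme.{u}}

lemma ker_comp_of_dominant (f : X ⟶ Y) (g : Y ⟶ Z) [IsSchemeTheoreticallyDominant f] :
    (f ≫ g).ker = g.ker := by
  rw [Scheme.Hom.ker_comp, f.ker_eq_bot, Scheme.IdealSheafData.map_bot]

set_option backward.isDefEq.respectTransparency.types false in
/-- A flat surjective quasi-compact morphism is scheme-theoretically dominant. -/
lemma isSchemeTheoreticallyDominant_of_flat_of_surjective (f : X ⟶ Y) [Flat f] [Surjective f]
    [QuasiCompact f] : IsSchemeTheoreticallyDominant f := by
  rw [isSchemeTheoreticallyDominant_iff]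
  ext U : 2
  rw [f.ker_apply]
  simp only [Scheme.IdealSheafData.ideal_bot, Pi.bot_apply]
  rw [← RingHom.injective_iff_ker_eq_bot, injective_iff_map_eq_zero]
  intro s hs
  refine TopCat.Presheaf.section_ext Y.sheaf U.1 s 0 fun y hy ↦ ?_
  obtain ⟨x, rfl⟩ := f.surjective y
  have hinj : Function.Injective (f.stalkMap x).hom := by
    algebraize [(f.stalkMap x).hom]
    have : Module.FaithfullyFlat (Y.presheaf.stalk (f x)) (X.presheaf.stalk x) :=
      @Module.FaithfullyFlat.of_flat_of_isLocalHom _ _ _ _ _ _ _
        (Flat.stalkMap f x) (f.toLRSHom.prop x)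
    exact ‹RingHom.FaithfullyFlat _›.injective
  apply hinj
  change f.stalkMap x (Y.presheaf.germ _ (f x) hy s) = f.stalkMap x (Y.presheaf.germ _ (f x) hy 0)
  rw [Scheme.Hom.germ_stalkMap_apply, Scheme.Hom.germ_stalkMap_apply]
  have hs' : (ConcreteCategory.hom (Scheme.Hom.app f ↑U)) s = 0 := hs
  rw [hs', map_zero, map_zero]
  exact (map_zero _).symm

/-- The morphism to the scheme-theoretic image is scheme-theoretically dominant. -/
instance isSchemeTheoreticallyDominant_toImage (f : X ⟶ Y) [QuasiCompact f] :
    IsSchemeTheoreticallyDominant f.toImage := by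
  rw [isSchemeTheoreticallyDominant_iff]
  have hcov : ⨆ U : Y.affineOpens, (f.imageι ⁻¹ᵁ U.1) = ⊤ := by
    rw [← Scheme.Hom.preimage_iSup, iSup_affineOpens_eq_top]; rfl
  refine Scheme.IdealSheafData.ext_of_iSup_eq_top
    (fun U : Y.affineOpens ↦ ⟨f.imageι ⁻¹ᵁ U.1, U.2.preimage f.imageι⟩) hcov ?_
  intro U
  rw [f.toImage.ker_apply]
  simp only [Scheme.IdealSheafData.ideal_bot, Pi.bot_apply]
  rw [← RingHom.injective_iff_ker_eq_bot]
  exact f.toImage_app_injective U

open Scheme.IdealSheafData in
/-- For `g` flat surjective quasi-compact, `map g ∘ comap g = id` on ideal sheaves. -/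
lemma map_comap_eq (g : X ⟶ Y) [Flat g] [Surjective g] [QuasiCompact g]
    (J : Y.IdealSheafData) : (J.comap g).map g = J := by
  have : IsSchemeTheoreticallyDominant (pullback.snd g J.subschemeι) :=
    isSchemeTheoreticallyDominant_of_flat_of_surjective _
  rw [comap, Scheme.IdealSheafData.map_ker, pullback.condition, ker_comp_of_dominant,
    ker_subschemeι]

open Scheme.IdealSheafData in
/-- fpqc descent for quasi-coherent ideal sheaves (existence). -/
lemma comap_map_eq_of_stable (g : X ⟶ Y) [Flat g] [Surjective g] [QuasiCompact g]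
    (J' : X.IdealSheafData)
    (h : J'.comap (pullback.fst g g) = J'.comap (pullback.snd g g)) :
    (J'.map g).comap g = J' := by
  set i := J'.subschemeι with hi
  set hh := i ≫ g with hhh
  -- step 1
  have e1 : (J'.map g).comap g = (pullback.fst g hh).ker := by
    let m : pullback g hh ⟶ pullback g hh.imageι :=
      pullback.map g hh g hh.imageι (𝟙 _) hh.toImage (𝟙 _) (by simp) (by simp)
    have hm : IsPullback (pullback.snd g hh) m hh.toImage (pullback.snd g hh.imageι) := by
      have big : IsPullback (pullback.snd g hh) (pullback.fst g hh) (hh.toImage ≫ hh.imageι) g := by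
        rw [hh.toImage_imageι]
        exact (IsPullback.of_hasPullback g hh).flip
      refine IsPullback.of_bot ?_ ?_ (IsPullback.of_hasPullback g hh.imageι).flip
      · have : m ≫ pullback.fst g hh.imageι = pullback.fst g hh :=
          (pullback.lift_fst _ _ _).trans (Category.comp_id _)
        rw [this]; exact big
      · exact (pullback.lift_snd _ _ _).symm
    have : IsSchemeTheoreticallyDominant m := IsSchemeTheoreticallyDominant.of_isPullback hm
    have hm1 : m ≫ pullback.fst g hh.imageι = pullback.fst g hh :=
      (pullback.lift_fst _ _ _).trans (Category.comp_id _)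
    change (pullback.fst g hh.imageι).ker = _
    rw [← hm1, ker_comp_of_dominant]
  rw [e1]
  -- step 2
  have e2 : (pullback.fst g hh).ker = (J'.comap (pullback.snd g g)).map (pullback.fst g g) := by
    rw [comap, Scheme.IdealSheafData.map_ker, ← pullbackLeftPullbackSndIso_hom_fst,
      Scheme.Hom.ker_comp_of_isIso]
  rw [e2, ← h]
  have : IsSchemeTheoreticallyDominant (pullback.snd (pullback.fst g g) i) :=
    isSchemeTheoreticallyDominant_of_flat_of_surjective _
  rw [comap, Scheme.IdealSheafData.map_ker, pullback.condition, ker_comp_of_dominant,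
    ker_subschemeι]

end Groth.Agent.Lib.Helper12
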