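import Mathlib

set_option autoImplicit false
universe u

open Polynomial IntermediateField

namespace Groth.Agent.Lib.Helper20.EtResExt

/-- A finite separable extension of a fraction field `k = Frac D` is generated by an element whose
minimal polynomial has coefficients in `D`. -/
theorem exists_primitive_lifts (D k L : Type*) [CommRing D] [IsDomain D] [Field k] [Algebra D k]
    [IsFractionRing D k] [Field L] [Algebra k L] [FiniteDimensional k L]
    [Algebra.IsSeparable k L] :
    ∃ θ : L, k⟮θ⟯ = ⊤ ∧ minpoly k θ ∈ Polynomial.lifts (algebraMap D k) := by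
  classical
  obtain ⟨θ, hθ⟩ := Field.exists_primitive_element k L
  have hint : IsIntegral k θ := Algebra.IsIntegral.isIntegral θ
  set m := minpoly k θ with hm
  have hmon : m.Monic := minpoly.monic hint
  obtain ⟨⟨b, hb⟩, hbint⟩ := IsLocalization.exist_integer_multiples_of_finset
    (nonZeroDivisors D) (Finset.image m.coeff (Finset.range (m.natDegree + 1)))
  have hb0 : b ≠ 0 := nonZeroDivisors.ne_zero hb
  set a : k := algebraMap D k b with ha
  have ha0 : a ≠ 0 := by
    rw [ha, Ne, map_eq_zero_iff _ (IsFractionRing.injective D k)]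
    exact hb0
  have hcoeff : ∀ i, a * m.coeff i ∈ Set.range (algebraMap D k) := by
    intro i
    by_cases hi : i < m.natDegree + 1
    · have := hbint (m.coeff i) (Finset.mem_image.mpr ⟨i, Finset.mem_range.mpr hi, rfl⟩)
      obtain ⟨c, hc⟩ := this
      refine ⟨c, ?_⟩
      rw [hc, Algebra.smul_def]
    · rw [coeff_eq_zero_of_natDegree_lt (by omega), mul_zero]
      exact ⟨0, map_zero _⟩
  refine ⟨algebraMap k L a * θ, ?_, ?_⟩
  · rw [eq_top_iff, ← hθ, adjoin_simple_le_iff]
    have h1 : algebraMap k L a * θ ∈ k⟮algebraMap k L a * θ⟯ := mem_adjoin_simple_self k _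
    have h2 : algebraMap k L a⁻¹ ∈ k⟮algebraMap k L a * θ⟯ := IntermediateField.algebraMap_mem _ _
    have h3 := mul_mem h2 h1
    rwa [← mul_assoc, ← map_mul, inv_mul_cancel₀ ha0, map_one, one_mul] at h3
  · have hroot : aeval (algebraMap k L a * θ) (scaleRoots m a) = 0 :=
      scaleRoots_aeval_eq_zero (minpoly.aeval k θ)
    have hmon' : (scaleRoots m a).Monic := (monic_scaleRoots_iff a).mpr hmon
    have hint' : IsIntegral k (algebraMap k L a * θ) := Algebra.IsIntegral.isIntegral _
    have hdvd : minpoly k (algebraMap k L a * θ) ∣ scaleRoots m a := minpoly.dvd k _ hroot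
    have htop : k⟮algebraMap k L a * θ⟯ = ⊤ := by
      rw [eq_top_iff, ← hθ, adjoin_simple_le_iff]
      have h1 : algebraMap k L a * θ ∈ k⟮algebraMap k L a * θ⟯ := mem_adjoin_simple_self k _
      have h2 : algebraMap k L a⁻¹ ∈ k⟮algebraMap k L a * θ⟯ := IntermediateField.algebraMap_mem _ _
      have h3 := mul_mem h2 h1
      rwa [← mul_assoc, ← map_mul, inv_mul_cancel₀ ha0, map_one, one_mul] at h3
    have hdeg : (scaleRoots m a).natDegree ≤ (minpoly k (algebraMap k L a * θ)).natDegree := by
      rw [natDegree_scaleRoots, ← adjoin.finrank hint', ← adjoin.finrank hint, htop, hθ]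
    have heq := eq_of_monic_of_dvd_of_natDegree_le (minpoly.monic hint') hmon' hdvd hdeg
    rw [← heq, lifts_iff_coeff_lifts]
    intro i
    rw [coeff_scaleRoots]
    by_cases hi : i < m.natDegree
    · obtain ⟨c, hc⟩ := hcoeff i
      have : m.natDegree - i = (m.natDegree - i - 1) + 1 := by omega
      rw [this, pow_succ, ← mul_assoc, mul_comm (m.coeff i), mul_assoc, mul_comm (m.coeff i),
        ← hc, ha, ← map_pow, ← map_mul]
      exact ⟨_, rfl⟩
    · by_cases hi' : i = m.natDegree
      · rw [hi', Nat.sub_self, pow_zero, mul_one, coeff_natDegree, hmon.leadingCoeff]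
        exact ⟨1, map_one _⟩
      · rw [coeff_eq_zero_of_natDegree_lt (by omega), zero_mul]
        exact ⟨0, map_zero _⟩

/-- Realising a finite separable extension of a residue field by an étale algebra. -/
theorem exists_etale_residueField_equiv {A : Type u} [CommRing A] (p : Ideal A) [p.IsPrime]
    (L : Type u) [Field L] [Algebra p.ResidueField L] [FiniteDimensional p.ResidueField L]
    [Algebra.IsSeparable p.ResidueField L] :
    ∃ (A₁ : Type u) (_ : CommRing A₁) (_ : Algebra A A₁) (_ : Algebra.Etale A A₁) (p₁ : Ideal A₁)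
      (_ : p₁.IsPrime) (hp₁ : p = p₁.comap (algebraMap A A₁)) (e : p₁.ResidueField ≃+* L),
      (e : p₁.ResidueField →+* L).comp (Ideal.ResidueField.map p p₁ (algebraMap A A₁) hp₁) =
        algebraMap p.ResidueField L := by
  obtain ⟨θ, hθ, hlift⟩ := exists_primitive_lifts (A ⧸ p) p.ResidueField L
  have hint : IsIntegral p.ResidueField θ := Algebra.IsIntegral.isIntegral θ
  have hlift' : minpoly p.ResidueField θ ∈ Polynomial.lifts (algebraMap A p.ResidueField) := by
    rw [lifts_iff_coeff_lifts] at hlift ⊢
    intro n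
    obtain ⟨c, hc⟩ := hlift n
    obtain ⟨c', rfl⟩ := Ideal.Quotient.mk_surjective c
    exact ⟨c', by rw [← hc, Ideal.algebraMap_quotient_residueField_mk]⟩
  obtain ⟨h, hmap, -, hmonic⟩ := lifts_and_natDegree_eq_and_monic hlift' (minpoly.monic hint)
  let P : StandardEtalePair A := ⟨h, hmonic, derivative h, ⟨1, 0, 1, by simp⟩⟩
  let _ : Algebra A L := ((algebraMap p.ResidueField L).comp (algebraMap A p.ResidueField)).toAlgebra
  have : IsScalarTower A p.ResidueField L := .of_algebraMap_eq' rfl
  have hmapθ : P.HasMap θ := by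
    constructor
    · change aeval θ h = 0
      rw [← aeval_map_algebraMap p.ResidueField, hmap]
      exact minpoly.aeval _ _
    · change IsUnit (aeval θ (derivative h))
      rw [← aeval_map_algebraMap p.ResidueField, ← derivative_map, hmap, isUnit_iff_ne_zero]
      exact (Algebra.IsSeparable.isSeparable p.ResidueField θ).aeval_derivative_ne_zero
        (minpoly.aeval _ _)
  let ψ : P.Ring →ₐ[A] L := P.lift θ hmapθ
  have hψX : ψ P.X = θ := P.lift_X θ hmapθ
  let p₁ : Ideal P.Ring := RingHom.ker ψ.toRingHom
  have hp₁prime : p₁.IsPrime := RingHom.ker_isPrime _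
  have hp₁ : p = p₁.comap (algebraMap A P.Ring) := by
    ext x
    rw [Ideal.mem_comap, RingHom.mem_ker]
    change x ∈ p ↔ ψ (algebraMap A P.Ring x) = 0
    rw [ψ.commutes, IsScalarTower.algebraMap_apply A p.ResidueField L,
      map_eq_zero_iff _ (algebraMap p.ResidueField L).injective,
      Ideal.algebraMap_residueField_eq_zero]
  have hunits : p₁.primeCompl ≤ (IsUnit.submonoid L).comap ψ.toRingHom := by
    intro x hx
    change IsUnit (ψ x)
    rw [isUnit_iff_ne_zero]
    exact hx
  let e₀ : p₁.ResidueField →+* L := Ideal.ResidueField.lift p₁ ψ.toRingHom le_rfl hunits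
  have he₀ : e₀.comp (Ideal.ResidueField.map p p₁ (algebraMap A P.Ring) hp₁) =
      algebraMap p.ResidueField L := by
    apply Ideal.ResidueField.ringHom_ext
    ext x
    simp only [RingHom.coe_comp, Function.comp_apply, Ideal.ResidueField.map_algebraMap]
    change Ideal.ResidueField.lift p₁ ψ.toRingHom le_rfl hunits (algebraMap _ _ _) = _
    rw [Ideal.ResidueField.lift_algebraMap]
    change ψ (algebraMap A P.Ring x) = _
    rw [ψ.commutes]
    rfl
  have hsurj : Function.Surjective e₀ := by
    let F : IntermediateField p.ResidueField L :=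
      { e₀.fieldRange with
        algebraMap_mem' := fun r => ⟨Ideal.ResidueField.map p p₁ (algebraMap A P.Ring) hp₁ r, by
          change e₀.comp (Ideal.ResidueField.map p p₁ (algebraMap A P.Ring) hp₁) r = _
          rw [he₀]⟩ }
    have hθF : θ ∈ F := ⟨algebraMap P.Ring p₁.ResidueField P.X, by
      change Ideal.ResidueField.lift p₁ ψ.toRingHom le_rfl hunits (algebraMap _ _ _) = _
      rw [Ideal.ResidueField.lift_algebraMap]
      exact hψX⟩
    have hF : F = ⊤ := by
      rw [eq_top_iff, ← hθ, adjoin_simple_le_iff]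
      exact hθF
    intro y
    have : y ∈ F := by rw [hF]; trivial
    exact this
  exact ⟨P.Ring, inferInstance, inferInstance, inferInstance, p₁, hp₁prime, hp₁,
    RingEquiv.ofBijective e₀ ⟨e₀.injective, hsurj⟩, he₀⟩

end Groth.Agent.Lib.Helper20.EtResExt
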