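import Mathlib
import Groth.Agent.Lib.Helper20EtResExt

set_option autoImplicit false
universe u

open CategoryTheory CategoryTheory.Limits AlgebraicGeometry

namespace Groth.Agent.Lib.Helper20.SmoothSec

open Polynomial in
theorem infinite_of_isSepClosed (K : Type*) [Field K] [IsSepClosed K] : Infinite K := by
  by_contra hfin
  rw [not_infinite_iff_finite] at hfin
  have := Fintype.ofFinite K
  have hcard : 1 < Fintype.card K := Fintype.one_lt_card
  have hdeg : (X ^ Fintype.card K - X + C 1 : K[X]).degree ≠ 0 := by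
    have h1 : (X ^ Fintype.card K - X : K[X]).degree = (Fintype.card K : ℕ) := by
      rw [degree_eq_natDegree (FiniteField.X_pow_card_sub_X_ne_zero K hcard),
        FiniteField.X_pow_card_sub_X_natDegree_eq K hcard]
    have h2 : 0 < (X ^ Fintype.card K - X : K[X]).degree := by
      rw [h1]; exact_mod_cast (zero_lt_one.trans hcard)
    rw [degree_add_C h2, h1]
    exact_mod_cast (zero_lt_one.trans hcard).ne'
  have hsep : (X ^ Fintype.card K - X + C 1 : K[X]).Separable := by
    rw [separable_def]
    have : derivative (X ^ Fintype.card K - X + C 1 : K[X]) = -1 := by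
      simp [derivative_X_pow]
    rw [this]
    exact isCoprime_one_right.neg_right
  obtain ⟨a, ha⟩ := IsSepClosed.exists_root _ hdeg hsep
  simp [FiniteField.pow_card] at ha

theorem exists_separable_point (k : Type u) [Field k] (n : ℕ) (Q : MvPolynomial (Fin n) k)
    (hQ : Q ≠ 0) :
    ∃ (L : Type u) (_ : Field L) (_ : Algebra k L) (_ : FiniteDimensional k L)
      (_ : Algebra.IsSeparable k L) (a : Fin n → L), MvPolynomial.aeval a Q ≠ 0 := by
  have := infinite_of_isSepClosed (SeparableClosure k)
  have hQ' : MvPolynomial.map (algebraMap k (SeparableClosure k)) Q ≠ 0 := by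
    intro h
    apply hQ
    apply MvPolynomial.map_injective _ (algebraMap k (SeparableClosure k)).injective
    rw [h, map_zero]
  obtain ⟨a, ha⟩ : ∃ a : Fin n → SeparableClosure k,
      MvPolynomial.eval a (MvPolynomial.map (algebraMap k (SeparableClosure k)) Q) ≠ 0 := by
    by_contra hcon
    push Not at hcon
    apply hQ'
    apply MvPolynomial.funext
    intro x
    rw [hcon x, map_zero]
  let L := IntermediateField.adjoin k (Set.range a)
  have hfd : FiniteDimensional k L :=
    IntermediateField.finiteDimensional_adjoin (fun x _ => Algebra.IsIntegral.isIntegral x)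
  have hsep : Algebra.IsSeparable k L := inferInstance
  refine ⟨L, inferInstance, inferInstance, hfd, hsep,
    fun i => ⟨a i, IntermediateField.subset_adjoin k _ ⟨i, rfl⟩⟩, ?_⟩
  intro h
  apply ha
  have h2 := congrArg (algebraMap L (SeparableClosure k)) h
  rw [map_zero] at h2
  rw [← h2, MvPolynomial.eval_map, ← MvPolynomial.aeval_def]
  have : (algebraMap L (SeparableClosure k)) ((MvPolynomial.aeval fun i =>
      (⟨a i, IntermediateField.subset_adjoin k _ ⟨i, rfl⟩⟩ : L)) Q) =
      MvPolynomial.aeval (fun i => algebraMap L (SeparableClosure k)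
        (⟨a i, IntermediateField.subset_adjoin k _ ⟨i, rfl⟩⟩ : L)) Q := by
    rw [← MvPolynomial.aeval_algebraMap_apply]
    rfl
  rw [this]
  rfl

open Groth.Agent.Lib.Helper20.EtResExt in
theorem exists_etale_eval_notMem {R : Type u} [CommRing R] (p : Ideal R) [p.IsPrime] (n : ℕ)
    (P : MvPolynomial (Fin n) R)
    (hP : MvPolynomial.map (algebraMap R p.ResidueField) P ≠ 0) :
    ∃ (R' : Type u) (_ : CommRing R') (_ : Algebra R R') (_ : Algebra.Etale R R') (p' : Ideal R')
      (_ : p'.IsPrime) (_ : p = p'.comap (algebraMap R R')) (r : Fin n → R'),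
      MvPolynomial.aeval r P ∉ p' := by
  obtain ⟨L, _, _, _, _, a, ha⟩ := exists_separable_point p.ResidueField n _ hP
  obtain ⟨A₁, _, _, hA₁, p₁, _, hp₁, e, he⟩ := exists_etale_residueField_equiv p L
  obtain ⟨⟨d, hd⟩, hint⟩ := IsLocalization.exist_integer_multiples_of_finite
    (nonZeroDivisors (A₁ ⧸ p₁)) (fun i => e.symm (a i))
  choose m' hm' using hint
  obtain ⟨c, rfl⟩ := Ideal.Quotient.mk_surjective d
  have hm : ∀ i, ∃ m : A₁, Ideal.Quotient.mk p₁ m = m' i := fun i => Ideal.Quotient.mk_surjective _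
  choose m hm using hm
  have hd0 : algebraMap (A₁ ⧸ p₁) p₁.ResidueField (Ideal.Quotient.mk p₁ c) ≠ 0 := by
    rw [Ne, map_eq_zero_iff _ (IsFractionRing.injective (A₁ ⧸ p₁) p₁.ResidueField)]
    exact nonZeroDivisors.ne_zero hd
  let ψ₁ : A₁ →+* L := (e : p₁.ResidueField →+* L).comp (algebraMap A₁ p₁.ResidueField)
  have hψ₁c : ψ₁ c ≠ 0 := by
    change e (algebraMap A₁ p₁.ResidueField c) ≠ 0
    rw [Ne, map_eq_zero_iff _ e.injective, ← Ideal.algebraMap_quotient_residueField_mk]
    exact hd0
  have hunit : IsUnit (ψ₁ c) := hψ₁c.isUnit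
  let ψ : Localization.Away c →+* L := IsLocalization.Away.lift c hunit
  have hψ : ∀ y : A₁, ψ (algebraMap A₁ (Localization.Away c) y) = ψ₁ y :=
    fun y => IsLocalization.Away.lift_eq c hunit y
  have hψR : ψ.comp (algebraMap R (Localization.Away c)) =
      (algebraMap p.ResidueField L).comp (algebraMap R p.ResidueField) := by
    ext x
    rw [RingHom.comp_apply, RingHom.comp_apply,
      IsScalarTower.algebraMap_apply R A₁ (Localization.Away c), hψ]
    change e (algebraMap A₁ p₁.ResidueField (algebraMap R A₁ x)) = _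
    rw [← he, RingHom.comp_apply, Ideal.ResidueField.map_algebraMap]
    rfl
  refine ⟨Localization.Away c, inferInstance, inferInstance, inferInstance, RingHom.ker ψ,
    RingHom.ker_isPrime ψ, ?_, fun i => IsLocalization.mk' (Localization.Away c) (m i)
      (⟨c, Submonoid.mem_powers c⟩ : Submonoid.powers c), ?_⟩
  · ext x
    rw [Ideal.mem_comap, RingHom.mem_ker, ← RingHom.comp_apply, hψR, RingHom.comp_apply,
      map_eq_zero_iff _ (algebraMap p.ResidueField L).injective,
      Ideal.algebraMap_residueField_eq_zero]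
  · rw [RingHom.mem_ker]
    intro h0
    apply ha
    have hr : ∀ i, ψ (IsLocalization.mk' (Localization.Away c) (m i)
        (⟨c, Submonoid.mem_powers c⟩ : Submonoid.powers c)) = a i := by
      intro i
      have h1 : ψ (IsLocalization.mk' (Localization.Away c) (m i)
          (⟨c, Submonoid.mem_powers c⟩ : Submonoid.powers c)) * ψ₁ c = ψ₁ (m i) := by
        rw [← hψ c, ← map_mul, ← hψ (m i)]
        congr 1
        exact IsLocalization.mk'_spec _ _ _
      have h2 : ψ₁ (m i) = a i * ψ₁ c := by
        change e (algebraMap A₁ p₁.ResidueField (m i)) = a i * e (algebraMap A₁ p₁.ResidueField c)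
        rw [← Ideal.algebraMap_quotient_residueField_mk, ← Ideal.algebraMap_quotient_residueField_mk,
          hm i, hm' i, Algebra.smul_def, map_mul, RingEquiv.apply_symm_apply, mul_comm]
      rw [h2] at h1
      exact mul_right_cancel₀ hψ₁c h1
    rw [MvPolynomial.aeval_def, MvPolynomial.eval₂_map]
    rw [MvPolynomial.aeval_def] at h0
    rw [MvPolynomial.eval₂_comp_left ψ] at h0
    rw [← h0, hψR]
    congr 1
    ext i
    exact (hr i).symm

set_option backward.isDefEq.respectTransparency false in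
theorem exists_etale_section_of_smooth {X S : Scheme.{u}} (f : X ⟶ S) [Smooth f] (x : X) :
    ∃ (S' : Scheme.{u}) (g : S' ⟶ S) (s' : S'), Etale g ∧ g s' = f x ∧
      ∃ h : S' ⟶ X, h ≫ f = g := by
  obtain ⟨U, hU, V, hV, hxV, e, hsm⟩ := Smooth.exists_isStandardSmooth f x
  obtain ⟨n, g, hgC, hg⟩ := hsm.exists_etale_mvPolynomial
  -- points
  let q : PrimeSpectrum Γ(X, V) := hV.primeIdealOf ⟨x, hxV⟩
  have hq : hV.fromSpec q = x := hV.fromSpec_primeIdealOf ⟨x, hxV⟩
  let q₀ : PrimeSpectrum (MvPolynomial (Fin n) Γ(S, U)) := PrimeSpectrum.comap g q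
  let 𝔭 : PrimeSpectrum Γ(S, U) := PrimeSpectrum.comap MvPolynomial.C q₀
  -- the étale map to affine space is open
  have hgE : Etale (Spec.map (CommRingCat.ofHom g)) := by
    rw [HasRingHomProperty.Spec_iff (P := @Etale)]
    exact hg
  have hopen : IsOpen (Set.range (PrimeSpectrum.comap g)) := by
    have := (Spec.map (CommRingCat.ofHom g)).isOpenMap.isOpen_range
    exact this
  obtain ⟨_, ⟨P, rfl⟩, hq₀P, hPsub⟩ :=
    PrimeSpectrum.isTopologicalBasis_basic_opens.exists_subset_of_mem_open
      (⟨q, rfl⟩ : q₀ ∈ Set.range (PrimeSpectrum.comap g)) hopen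
  have hP : MvPolynomial.map (algebraMap Γ(S, U) 𝔭.asIdeal.ResidueField) P ≠ 0 := by
    intro h0
    apply hq₀P
    have h1 : P ∈ Ideal.map MvPolynomial.C 𝔭.asIdeal := by
      rw [MvPolynomial.mem_map_C_iff]
      intro m
      have := congrArg (MvPolynomial.coeff m) h0
      rw [MvPolynomial.coeff_map, MvPolynomial.coeff_zero,
        Ideal.algebraMap_residueField_eq_zero] at this
      exact this
    have h2 : Ideal.map MvPolynomial.C 𝔭.asIdeal ≤ q₀.asIdeal := by
      rw [Ideal.map_le_iff_le_comap]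
      exact le_rfl
    exact h2 h1
  obtain ⟨R', _, _, hR', p', hp'prime, hp', r, hr⟩ :=
    exists_etale_eval_notMem 𝔭.asIdeal n P hP
  let σ : MvPolynomial (Fin n) Γ(S, U) →+* R' := (MvPolynomial.aeval r).toRingHom
  have hσC : σ.comp MvPolynomial.C = algebraMap Γ(S, U) R' := by
    ext a
    change MvPolynomial.aeval r (MvPolynomial.C a) = _
    rw [MvPolynomial.aeval_C]
  let p'' : PrimeSpectrum R' := ⟨p', hp'prime⟩
  have hmem : PrimeSpectrum.comap σ p'' ∈ (PrimeSpectrum.basicOpen P : Set _) := by
    change P ∉ (PrimeSpectrum.comap σ p'').asIdeal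
    exact hr
  obtain ⟨q₁, hq₁⟩ := hPsub hmem
  -- the fibre product
  have hpt : (Spec.map (CommRingCat.ofHom g)) q₁ =
      (Spec.map (CommRingCat.ofHom σ)) p'' := hq₁
  obtain ⟨y, hy1, hy2⟩ := Scheme.Pullback.exists_preimage_pullback
    (f := Spec.map (CommRingCat.ofHom g)) (g := Spec.map (CommRingCat.ofHom σ)) q₁ p'' hpt
  have hE1 : Etale (Spec.map (CommRingCat.ofHom (algebraMap Γ(S, U) R'))) := by
    rw [HasRingHomProperty.Spec_iff (P := @Etale)]
    exact RingHom.etale_algebraMap.mpr hR'
  have hcomm : hV.fromSpec ≫ f =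
      Spec.map (CommRingCat.ofHom g) ≫ Spec.map (CommRingCat.ofHom MvPolynomial.C) ≫
        hU.fromSpec := by
    rw [← IsAffineOpen.SpecMap_appLE_fromSpec f hU hV e, ← Spec.map_comp_assoc]
    congr 2
    ext a
    exact (congr($hgC a)).symm
  refine ⟨pullback (Spec.map (CommRingCat.ofHom g)) (Spec.map (CommRingCat.ofHom σ)),
    pullback.snd _ _ ≫ Spec.map (CommRingCat.ofHom (algebraMap Γ(S, U) R')) ≫ hU.fromSpec,
    y, inferInstance, ?_, pullback.fst _ _ ≫ hV.fromSpec, ?_⟩
  · have hfx : f x = hU.fromSpec ((Spec.map (CommRingCat.ofHom MvPolynomial.C))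
        ((Spec.map (CommRingCat.ofHom g)) q)) := by
      rw [← hq, ← Scheme.Hom.comp_apply, hcomm, Scheme.Hom.comp_apply, Scheme.Hom.comp_apply]
      rfl
    rw [hfx, Scheme.Hom.comp_apply, Scheme.Hom.comp_apply, hy2]
    congr 1
    change PrimeSpectrum.comap (algebraMap Γ(S, U) R') p'' = 𝔭
    ext1
    exact hp'.symm
  · rw [Category.assoc, hcomm, pullback.condition_assoc, ← Spec.map_comp_assoc]
    congr 3
    ext a
    exact congr($hσC a)

end Groth.Agent.Lib.Helper20.SmoothSec
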