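import Mathlib
import Groth.Agent.S10194
import Groth.Agent.S10509
import Groth.Agent.S10177
import Groth.Agent.S9876
import Groth.Agent.Lib.Helper12QuotSh

set_option autoImplicit false
universe u
open CategoryTheory CategoryTheory.Limits AlgebraicGeometry Opposite
open AlgSp Groth.Agent.S13210

namespace Groth.Agent.Lib.Helper12.OpenSub

variable {S : Scheme.{u}}

lemma yEquiv_symm_map {X : AlgSp.Sp S} {T T' : Over S} (g : T' ⟶ T) (ξ : X.obj.obj (op T)) :
    (yEquiv T' X).symm (X.obj.map g.op ξ) = (AlgSp.yon S).map g ≫ (yEquiv T X).symm ξ :=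
  ((AlgSp.J S).uliftYonedaEquiv_symm_naturality_left g X ξ).symm

/-- the subfunctor of sections all of whose points lie in `W`. -/
def sub (X : AlgSp.Sp S) (W : Set (AlgSp.Points X)) : Subfunctor X.obj where
  obj T := {ξ | ∀ t : ↥T.unop.left, AlgSp.Points.ofPt ((yEquiv T.unop X).symm ξ) t ∈ W}
  map := by
    intro T T' g ξ hξ t'
    have h : X.obj.map g ξ = X.obj.map g.unop.op ξ := rfl
    show AlgSp.Points.ofPt ((yEquiv T'.unop X).symm (X.obj.map g ξ)) t' ∈ W
    rw [h, yEquiv_symm_map, Groth.Agent.S10509.ofPt_yon_map_comp]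
    exact hξ _

lemma mem_sub_iff {X : AlgSp.Sp S} (W : Set (AlgSp.Points X)) {T : Over S}
    (a : (AlgSp.yon S).obj T ⟶ X) :
    yEquiv T X a ∈ (sub X W).obj (op T) ↔ ∀ t : ↥T.left, AlgSp.Points.ofPt a t ∈ W := by
  show (∀ t : ↥T.left, AlgSp.Points.ofPt ((yEquiv T X).symm (yEquiv T X a)) t ∈ W) ↔ _
  rw [Equiv.symm_apply_apply]

lemma sub_isSheaf (X : AlgSp.Sp S) (W : Set (AlgSp.Points X)) :
    Presheaf.IsSheaf (AlgSp.J S) (sub X W).toFunctor := by
  have hsh : Presieve.IsSheaf (AlgSp.J S) X.obj := (isSheaf_iff_isSheaf_of_type _ _).1 X.property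
  rw [isSheaf_iff_isSheaf_of_type, Subfunctor.isSheaf_iff _ hsh]
  rintro ⟨T⟩ s hmem t
  rw [GrothendieckTopology.mem_over_iff,
    Precoverage.mem_toGrothendieck_iff_of_isStableUnderComposition] at hmem
  obtain ⟨R, hR, hle⟩ := hmem
  obtain ⟨Y, g, hg, t', rfl⟩ := Scheme.JointlySurjective.exists_eq R hR t
  have h1 := hle _ _ hg
  rw [Sieve.overEquiv_iff] at h1
  have h2 : X.obj.map (Over.homMk g : Over.mk (g ≫ T.hom) ⟶ T).op s ∈
      (sub X W).obj (op (Over.mk (g ≫ T.hom))) := h1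
  have h3 := h2 t'
  rw [yEquiv_symm_map, Groth.Agent.S10509.ofPt_yon_map_comp] at h3
  exact h3

/-- the open subsheaf. -/
noncomputable def obj (X : AlgSp.Sp S) (W : Set (AlgSp.Points X)) : AlgSp.Sp S :=
  ⟨(sub X W).toFunctor, sub_isSheaf X W⟩

/-- the inclusion. -/
noncomputable def incl (X : AlgSp.Sp S) (W : Set (AlgSp.Points X)) : obj X W ⟶ X :=
  ObjectProperty.homMk (sub X W).ι

instance (X : AlgSp.Sp S) (W : Set (AlgSp.Points X)) : Mono (incl X W) := by
  haveI : Mono (incl X W).hom := inferInstanceAs (Mono (sub X W).ι)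
  exact Sheaf.Hom.mono_of_presheaf_mono _ _ _

lemma factor_iff {X : AlgSp.Sp S} (W : Set (AlgSp.Points X)) {T : Over S}
    (a : (AlgSp.yon S).obj T ⟶ X) :
    (∃ a' : (AlgSp.yon S).obj T ⟶ obj X W, a' ≫ incl X W = a) ↔
      ∀ t : ↥T.left, AlgSp.Points.ofPt a t ∈ W := by
  rw [← mem_sub_iff]
  constructor
  · rintro ⟨a', rfl⟩
    rw [yEquiv_comp]
    exact (yEquiv T (obj X W) a').2
  · intro h
    refine ⟨(yEquiv T (obj X W)).symm ⟨yEquiv T X a, h⟩, ?_⟩
    rw [yEquiv_symm_comp]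
    apply (yEquiv T X).injective
    rw [Equiv.apply_symm_apply]
    rfl

theorem repWith_incl {X : AlgSp.Sp S} {W : Set (AlgSp.Points X)} (hW : IsOpen W) :
    AlgSp.RepWith @IsOpenImmersion (incl X W) := by
  apply MorphismProperty.relative.of_exists
  intro T g
  let V : T.left.Opens := ⟨AlgSp.Points.ofPt g ⁻¹' W, hW.preimage (AlgSp.Points.continuous_ofPt g)⟩
  let T' : Over S := Over.mk (V.ι ≫ T.hom)
  let ι : T' ⟶ T := Over.homMk V.ι rfl
  have hfac : ∀ t : ↥T'.left, AlgSp.Points.ofPt ((AlgSp.yon S).map ι ≫ g) t ∈ W := by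
    intro t
    rw [Groth.Agent.S10509.ofPt_yon_map_comp]
    have h3 : V.ι t ∈ V := by
      have h := V.range_ι
      have h2 : V.ι t ∈ Set.range V.ι := ⟨t, rfl⟩
      rw [h] at h2; exact h2
    exact h3
  obtain ⟨a', ha'⟩ := (factor_iff W _).2 hfac
  refine ⟨T', a', ι, ?_, ?_⟩
  · apply isPullback_of_yon ha'
    intro T'' b c hbc
    obtain ⟨c₀, rfl⟩ := (AlgSp.yon S).map_surjective c
    have hc : ∀ t : ↥T''.left, c₀.left t ∈ V := by
      intro t
      have h := (factor_iff W (b ≫ incl X W)).1 ⟨b, rfl⟩ t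
      rw [hbc, Groth.Agent.S10509.ofPt_yon_map_comp] at h
      exact h
    have hrange : Set.range c₀.left ⊆ Set.range V.ι := by
      rw [V.range_ι]; rintro _ ⟨t, rfl⟩; exact hc t
    let d₀ : T''.left ⟶ V.toScheme := IsOpenImmersion.lift V.ι c₀.left hrange
    have hd₀ : d₀ ≫ V.ι = c₀.left := IsOpenImmersion.lift_fac _ _ _
    let d : T'' ⟶ T' := Over.homMk d₀ (by
      show d₀ ≫ V.ι ≫ T.hom = T''.hom
      rw [← Category.assoc, hd₀]; exact Over.w c₀)
    have hdι : d ≫ ι = c₀ := by ext1; exact hd₀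
    refine ⟨(AlgSp.yon S).map d, ⟨?_, ?_⟩, ?_⟩
    · rw [← cancel_mono (incl X W), Category.assoc, ha', ← Category.assoc, ← Functor.map_comp,
        hdι, hbc]
    · rw [← Functor.map_comp, hdι]
    · rintro a ⟨-, ha2⟩
      obtain ⟨a₀, rfl⟩ := (AlgSp.yon S).map_surjective a
      rw [← Functor.map_comp] at ha2
      have h := (AlgSp.yon S).map_injective ha2
      congr 1
      ext1
      rw [← cancel_mono V.ι]
      have h4 : a₀.left ≫ V.ι = c₀.left := congrArg (fun m => m.left) h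
      rw [h4]; exact hd₀.symm
  · show IsOpenImmersion V.ι
    infer_instance

theorem isAlgSpace_obj {X : AlgSp.Sp S} (hX : AlgSp.IsAlgSpace X) {W : Set (AlgSp.Points X)}
    (hW : IsOpen W) : AlgSp.IsAlgSpace (obj X W) := by
  rw [← AlgSp.isAlgSpaceP_obj_iff]
  refine Groth.Agent.S9876.result S ⟨X, hX⟩ (obj X W).obj (incl X W).hom ?_
  intro U ξ
  obtain ⟨b, snd, fst, sq⟩ :=
    (repWith_incl hW).1 (ObjectProperty.homMk ξ : (AlgSp.yon S).obj U ⟶ X)
  exact ⟨b, snd, fst.hom, sq.map (sheafToPresheaf _ _)⟩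

theorem range_map_incl {X : AlgSp.Sp S} (W : Set (AlgSp.Points X)) :
    Set.range (AlgSp.Points.map (incl X W)) = W := by
  ext x
  constructor
  · rintro ⟨x', rfl⟩
    induction x' using AlgSp.Points.ind with | h q => ?_
    have h1 := Groth.Agent.S10177.ofPt_closedPoint q
    have h2 := (factor_iff W ((yEquiv q.pt (obj X W)).symm q.val ≫ incl X W)).1 ⟨_, rfl⟩
      (IsLocalRing.closedPoint q.K)
    rw [← AlgSp.Points.map_ofPt, h1] at h2
    exact h2
  · intro hx
    induction x using AlgSp.Points.ind with | h q => ?_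
    have h1 := Groth.Agent.S10177.ofPt_closedPoint q
    have h2 : ∀ t : ↥q.pt.left, AlgSp.Points.ofPt ((yEquiv q.pt X).symm q.val) t ∈ W := by
      intro t
      have ht : t = IsLocalRing.closedPoint q.K :=
        (PrimeSpectrum.instUnique (R := q.K)).uniq _ |>.trans
          ((PrimeSpectrum.instUnique (R := q.K)).uniq _).symm
      rw [ht, h1]
      exact hx
    obtain ⟨a', ha'⟩ := (factor_iff W _).2 h2
    refine ⟨AlgSp.Points.ofPt a' (IsLocalRing.closedPoint q.K), ?_⟩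
    rw [AlgSp.Points.map_ofPt, ha', h1]

end Groth.Agent.Lib.Helper12.OpenSub
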