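import Mathlib
import Groth.Prelude.Def_AlgSp
import Groth.Agent.S13210
import Groth.Agent.S9928
import Groth.Agent.Lib.Helper12OpenSub
import Groth.Agent.Lib.Helper12PullbackPts

/-!
# Zariski gluing of representability for fppf sheaves over `S` (helper12)

Adaptation of Mathlib's `AlgebraicGeometry.Scheme.LocalRepresentability` to the sheaves on
`Over S` of the prelude (valued in `Type (u+1)`).
-/

set_option autoImplicit false
universe u
open CategoryTheory CategoryTheory.Limits AlgebraicGeometry Opposite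
open AlgSp

namespace Groth.Agent.Lib.Helper12.ZarGlue

open Functor.relativelyRepresentable

variable {S : Scheme.{u}} {G : AlgSp.Sp S} {ι : Type u} {X : ι → Over S}
  {f : ∀ i, (AlgSp.yon S).obj (X i) ⟶ G} (hf : ∀ i, AlgSp.RepWith @IsOpenImmersion (f i))

lemma le_mono : (@IsOpenImmersion).inverseImage (Over.forget S) ≤
    MorphismProperty.monomorphisms (Over S) := by
  intro A B g hg
  haveI : IsOpenImmersion g.left := hg
  haveI : Mono g.left := inferInstance
  exact Over.mono_of_mono_left g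

include hf in
lemma mono_f (i : ι) : Mono (f i) :=
  Groth.Agent.S9928.mono_of_repWith @IsOpenImmersion
    (fun X Y g hg => by haveI : IsOpenImmersion g := hg; infer_instance) (f i) (hf i)

lemma fst'_self_eq_snd (i : ι) : (hf i).rep.fst' (f i) = (hf i).rep.snd (f i) := by
  haveI := mono_f hf i
  apply (AlgSp.yon S).map_injective
  rw [← cancel_mono (f i), ((hf i).rep.isPullback' (f i)).w]

lemma isIso_fst'_self (i : ι) : IsIso ((hf i).rep.fst' (f i)) := by
  haveI := mono_f hf i
  haveI := ((hf i).rep.isPullback' (f i)).isIso_fst_of_mono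
  exact isIso_of_fully_faithful (AlgSp.yon S) _

set_option backward.isDefEq.respectTransparency false in
/-- the gluing data in `Over S`. -/
noncomputable def glueDataOver : CategoryTheory.GlueData (Over S) where
  J := ι
  U := X
  V := fun (i, j) ↦ (hf i).rep.pullback (f j)
  f i j := (hf i).rep.fst' (f j)
  f_mono i j := by
    have := (hf j).property _ _ _ ((hf i).1.isPullback' (f j)).flip
    exact le_mono _ this
  f_id i := isIso_fst'_self hf i
  t i j := (hf i).rep.symmetry (hf j).rep
  t_id i := by apply (hf i).rep.hom_ext' <;>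
    simp [fst'_self_eq_snd hf i]
  t' i j k := lift₃ _ _ _ (pullback₃.p₂ _ _ _) (pullback₃.p₃ _ _ _) (pullback₃.p₁ _ _ _)
    (by simp) (by simp)
  t_fac i j k := (hf j).rep.hom_ext' (by simp) (by simp)
  cocycle i j k := pullback₃.hom_ext (by simp) (by simp) (by simp)

/-- the gluing data in schemes. -/
noncomputable def glueData : Scheme.GlueData where
  toGlueData := (glueDataOver hf).mapGlueData (Over.forget S)
  f_open i j := by
    show IsOpenImmersion ((hf i).rep.fst' (f j)).left
    exact (hf j).property _ _ _ ((hf i).1.isPullback' (f j)).flip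

/-- the structure morphism of the glued scheme. -/
noncomputable def gluedHom : (glueData hf).glued ⟶ S :=
  Multicoequalizer.desc _ _ (fun i => (X i).hom) (by
    rintro ⟨i, j⟩
    show ((hf i).rep.fst' (f j)).left ≫ (X i).hom =
      (((hf i).rep.symmetry (hf j).rep).left ≫ ((hf j).rep.fst' (f i)).left) ≫ (X j).hom
    rw [Over.w, Category.assoc, Over.w, Over.w])

/-- the glued scheme over `S`. -/
noncomputable def glued : Over S := Over.mk (gluedHom hf)

lemma ι_gluedHom (i : ι) : (glueData hf).ι i ≫ gluedHom hf = (X i).hom :=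
  Multicoequalizer.π_desc _ _ _ _ _

/-- the inclusions into the glued scheme, over `S`. -/
noncomputable def toGlued (i : ι) : X i ⟶ glued hf :=
  Over.homMk ((glueData hf).ι i) (ι_gluedHom hf i)

instance (i : ι) : IsOpenImmersion (toGlued hf i).left :=
  inferInstanceAs (IsOpenImmersion ((glueData hf).ι i))

open Groth.Agent.S13210 Groth.Agent.Lib.Helper12.OpenSub

lemma map_yEquiv {T T' : Over S} (g : T' ⟶ T) (a : (AlgSp.yon S).obj T ⟶ G) :
    G.obj.map g.op (yEquiv T G a) = yEquiv T' G ((AlgSp.yon S).map g ≫ a) := by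
  apply (yEquiv T' G).symm.injective
  rw [yEquiv_symm_map, Equiv.symm_apply_apply, Equiv.symm_apply_apply]

lemma fst'_toGlued (i j : ι) :
    (hf i).rep.fst' (f j) ≫ toGlued hf i = (hf i).rep.snd (f j) ≫ toGlued hf j := by
  apply Over.OverMorphism.ext
  have h1 := (glueData hf).glue_condition i j
  have h2 : (hf i).rep.symmetry (hf j).rep ≫ (hf j).rep.fst' (f i) = (hf i).rep.snd (f j) :=
    (hf i).rep.symmetry_fst (hf j).rep
  rw [Over.comp_left, Over.comp_left, ← h2, Over.comp_left, Category.assoc]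
  exact h1.symm

lemma comp_toGlued_eq {U : Over S} {i j : ι} (a : U ⟶ X i) (b : U ⟶ X j)
    (h : (AlgSp.yon S).map a ≫ f i = (AlgSp.yon S).map b ≫ f j) :
    a ≫ toGlued hf i = b ≫ toGlued hf j := by
  rw [← (hf i).rep.lift'_fst a b h, Category.assoc]
  conv_rhs => rw [← (hf i).rep.lift'_snd a b h, Category.assoc]
  rw [fst'_toGlued]

lemma eq_of_comp_toGlued_eq {U : Over S} {i j : ι} (a : U ⟶ X i) (b : U ⟶ X j)
    (h : a ≫ toGlued hf i = b ≫ toGlued hf j) :
    (AlgSp.yon S).map a ≫ f i = (AlgSp.yon S).map b ≫ f j := by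
  have h' : a.left ≫ (glueData hf).ι i = b.left ≫ (glueData hf).ι j :=
    congrArg (fun m => m.left) h
  let c : U.left ⟶ ((hf i).rep.pullback (f j)).left :=
    PullbackCone.IsLimit.lift ((glueData hf).vPullbackConeIsLimit i j) a.left b.left h'
  have hc1 : c ≫ ((hf i).rep.fst' (f j)).left = a.left :=
    PullbackCone.IsLimit.lift_fst ((glueData hf).vPullbackConeIsLimit i j) a.left b.left h'
  have hc2 : c ≫ (((hf i).rep.symmetry (hf j).rep).left ≫ ((hf j).rep.fst' (f i)).left) = b.left :=
    PullbackCone.IsLimit.lift_snd ((glueData hf).vPullbackConeIsLimit i j) a.left b.left h'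
  let c' : U ⟶ (hf i).rep.pullback (f j) := Over.homMk c (by
    rw [← Over.w ((hf i).rep.fst' (f j)), ← Category.assoc, hc1, Over.w])
  have e1 : c' ≫ (hf i).rep.fst' (f j) = a := Over.OverMorphism.ext hc1
  have e2 : c' ≫ (hf i).rep.snd (f j) = b := by
    apply Over.OverMorphism.ext
    rw [← (hf i).rep.symmetry_fst (hf j).rep]
    exact hc2
  rw [← e1, ← e2, Functor.map_comp, Functor.map_comp, Category.assoc, Category.assoc,
    ((hf i).rep.isPullback' (f j)).w]

lemma toGlued_mem : Sieve.ofArrows X (toGlued hf) ∈ AlgSp.J S (glued hf) := by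
  rw [GrothendieckTopology.mem_over_iff, Sieve.overEquiv_ofArrows]
  apply Precoverage.generate_mem_toGrothendieck
  rw [Scheme.fppfPrecoverage, Scheme.ofArrows_mem_precoverage_iff]
  refine ⟨fun x => ?_, fun i => ⟨inferInstance, inferInstance⟩⟩
  obtain ⟨i, y, hy⟩ := (glueData hf).ι_jointly_surjective x
  exact ⟨i, y, hy⟩

/-- the map from the glued scheme to the sheaf. -/
lemma exists_gluedToSheaf :
    ∃ γ : (AlgSp.yon S).obj (glued hf) ⟶ G, ∀ i, (AlgSp.yon S).map (toGlued hf i) ≫ γ = f i := by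
  have hsh : Presieve.IsSheaf (AlgSp.J S) G.obj := (isSheaf_iff_isSheaf_of_type _ _).1 G.property
  have h1 := hsh.isSheafFor _ (toGlued_mem hf)
  rw [Presieve.isSheafFor_arrows_iff] at h1
  obtain ⟨t, ht, -⟩ := h1 (fun i => yEquiv (X i) G (f i)) (by
    intro i j Z gi gj hg
    rw [map_yEquiv, map_yEquiv, eq_of_comp_toGlued_eq hf gi gj hg])
  refine ⟨(yEquiv _ G).symm t, fun i => ?_⟩
  apply (yEquiv _ G).injective
  rw [← map_yEquiv, Equiv.apply_symm_apply]
  exact ht i


lemma toGlued_jointly_surjective (x : (glued hf).left) :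
    ∃ (i : ι) (y : (X i).left), (toGlued hf i).left y = x :=
  (glueData hf).ι_jointly_surjective x

lemma toGlued_w (i : ι) : (toGlued hf i).left ≫ (glued hf).hom = (X i).hom := ι_gluedHom hf i

/-- any map from the glued scheme compatible with the `f i` is a monomorphism. -/
lemma mono_of_comp {γ : (AlgSp.yon S).obj (glued hf) ⟶ G}
    (hγ : ∀ i, (AlgSp.yon S).map (toGlued hf i) ≫ γ = f i) : Mono γ := by
  suffices H : ∀ {T : Over S} {a b : (AlgSp.yon S).obj T ⟶ (AlgSp.yon S).obj (glued hf)},
      a ≫ γ = b ≫ γ → a = b by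
    refine ⟨fun {Z} a b hab => Groth.Agent.S9928.sp_hom_ext a b fun T x => H ?_⟩
    simp only [Category.assoc, hab]
  intro T a b h
  obtain ⟨a', rfl⟩ := (AlgSp.yon S).map_surjective a
  obtain ⟨b', rfl⟩ := (AlgSp.yon S).map_surjective b
  congr 1
  apply Over.OverMorphism.ext
  refine Scheme.hom_ext_of_forall _ _ fun x => ?_
  obtain ⟨i, y, hy⟩ := toGlued_jointly_surjective hf (a'.left x)
  obtain ⟨j, z, hz⟩ := toGlued_jointly_surjective hf (b'.left x)
  let U : T.left.Opens := a'.left ⁻¹ᵁ (toGlued hf i).left.opensRange ⊓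
    b'.left ⁻¹ᵁ (toGlued hf j).left.opensRange
  refine ⟨U, ⟨⟨y, hy⟩, ⟨z, hz⟩⟩, ?_⟩
  have hUa : Set.range (U.ι ≫ a'.left) ⊆ Set.range (toGlued hf i).left := by
    rintro _ ⟨u, rfl⟩
    exact u.2.1
  have hUb : Set.range (U.ι ≫ b'.left) ⊆ Set.range (toGlued hf j).left := by
    rintro _ ⟨u, rfl⟩
    exact u.2.2
  let Uo : Over S := Over.mk (U.ι ≫ T.hom)
  let incl : Uo ⟶ T := Over.homMk U.ι rfl
  let αl : U.toScheme ⟶ (X i).left := IsOpenImmersion.lift (toGlued hf i).left (U.ι ≫ a'.left) hUa
  have hαl : αl ≫ (toGlued hf i).left = U.ι ≫ a'.left := IsOpenImmersion.lift_fac _ _ _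
  let βl : U.toScheme ⟶ (X j).left := IsOpenImmersion.lift (toGlued hf j).left (U.ι ≫ b'.left) hUb
  have hβl : βl ≫ (toGlued hf j).left = U.ι ≫ b'.left := IsOpenImmersion.lift_fac _ _ _
  let α : Uo ⟶ X i := Over.homMk αl (by
    show αl ≫ (X i).hom = U.ι ≫ T.hom
    rw [← toGlued_w hf i, ← Category.assoc, hαl, Category.assoc, Over.w])
  let β : Uo ⟶ X j := Over.homMk βl (by
    show βl ≫ (X j).hom = U.ι ≫ T.hom
    rw [← toGlued_w hf j, ← Category.assoc, hβl, Category.assoc, Over.w])
  have hα : α ≫ toGlued hf i = incl ≫ a' := Over.OverMorphism.ext hαl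
  have hβ : β ≫ toGlued hf j = incl ≫ b' := Over.OverMorphism.ext hβl
  have key : (AlgSp.yon S).map α ≫ f i = (AlgSp.yon S).map β ≫ f j := by
    rw [← hγ i, ← hγ j, ← Category.assoc, ← Category.assoc, ← Functor.map_comp, ← Functor.map_comp,
      hα, hβ, Functor.map_comp, Functor.map_comp, Category.assoc, Category.assoc, h]
  have := comp_toGlued_eq hf α β key
  rw [hα, hβ] at this
  exact congrArg (fun m => m.left) this

/-- joint surjectivity of the family `f`, tested on schemes. -/
def JointlySurjective : Prop :=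
  ∀ (T : Over S) (g : (AlgSp.yon S).obj T ⟶ G) (t : T.left),
    ∃ i, t ∈ Set.range ((hf i).rep.snd g).left

lemma snd_mem {T : Over S} (g : (AlgSp.yon S).obj T ⟶ G) (hs : JointlySurjective hf) :
    Sieve.ofArrows (fun i => (hf i).rep.pullback g) (fun i => (hf i).rep.snd g) ∈ AlgSp.J S T := by
  rw [GrothendieckTopology.mem_over_iff, Sieve.overEquiv_ofArrows]
  apply Precoverage.generate_mem_toGrothendieck
  refine (Scheme.ofArrows_mem_precoverage_iff
    (fun {A B : Scheme.{u}} (m : A ⟶ B) => Flat m ∧ LocallyOfFinitePresentation m)).2 ?_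
  refine ⟨fun x => ?_, fun i => ?_⟩
  · obtain ⟨i, y, hy⟩ := hs T g x
    exact ⟨i, y, hy⟩
  · haveI : IsOpenImmersion ((hf i).rep.snd g).left := (hf i).property_snd g
    exact ⟨inferInstance, inferInstance⟩

lemma epi_of_comp {γ : (AlgSp.yon S).obj (glued hf) ⟶ G}
    (hγ : ∀ i, (AlgSp.yon S).map (toGlued hf i) ≫ γ = f i) (hs : JointlySurjective hf) : Epi γ := by
  rw [← Sheaf.isLocallySurjective_iff_epi]
  constructor
  intro T s
  obtain ⟨x, hx⟩ : ∃ x : (AlgSp.yon S).obj T ⟶ G, yEquiv T G x = s :=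
    ⟨(yEquiv T G).symm s, Equiv.apply_symm_apply _ _⟩
  refine (AlgSp.J S).superset_covering ?_ (snd_mem hf x hs)
  rw [Sieve.ofArrows, Sieve.generate_le_iff]
  rintro _ _ ⟨i⟩
  refine ⟨yEquiv _ _ ((hf i).rep.fst x ≫ (AlgSp.yon S).map (toGlued hf i)), ?_⟩
  rw [← hx]
  have h1 := yEquiv_comp ((hf i).rep.fst x ≫ (AlgSp.yon S).map (toGlued hf i)) γ
  rw [Category.assoc, hγ i, ((hf i).rep.isPullback x).w] at h1
  rw [← h1]
  exact (map_yEquiv ((hf i).rep.snd x) x).symm

/-- **Zariski gluing of representability**: a sheaf covered by open subfunctors representable by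
schemes is representable. -/
theorem exists_iso (hs : JointlySurjective hf) :
    ∃ (W : Over S) (e : (AlgSp.yon S).obj W ≅ G) (k : ∀ i, X i ⟶ W),
      (∀ i, (AlgSp.yon S).map (k i) ≫ e.hom = f i) ∧ ∀ i, IsOpenImmersion (k i).left := by
  obtain ⟨γ, hγ⟩ := exists_gluedToSheaf hf
  haveI := mono_of_comp hf hγ
  haveI := epi_of_comp hf hγ hs
  haveI : IsIso γ := isIso_of_mono_of_epi γ
  exact ⟨glued hf, asIso γ, toGlued hf, hγ, fun i => inferInstance⟩


section Morphism

variable {S : Scheme.{u}} {F G : AlgSp.Sp S} (f : F ⟶ G) {T : Over S}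
  (g : (AlgSp.yon S).obj T ⟶ G) {ι : Type u} (Ti : ι → Over S) (j : ∀ i, Ti i ⟶ T)
  (W : ι → Over S) (w : ∀ i, W i ⟶ Ti i) (a : ∀ i, (AlgSp.yon S).obj (W i) ⟶ F)

/-- the map from the local pieces to the fibre product. -/
noncomputable def toPullback
    (sq : ∀ i, IsPullback (a i) ((AlgSp.yon S).map (w i)) f ((AlgSp.yon S).map (j i) ≫ g)) (i : ι) :
    (AlgSp.yon S).obj (W i) ⟶ pullback f g :=
  pullback.lift (a i) ((AlgSp.yon S).map (w i ≫ j i))
    (by rw [(sq i).w, Functor.map_comp, Category.assoc])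

variable (sq : ∀ i, IsPullback (a i) ((AlgSp.yon S).map (w i)) f ((AlgSp.yon S).map (j i) ≫ g))

lemma isPullback_toPullback (i : ι) :
    IsPullback (toPullback f g Ti j W w a sq i) ((AlgSp.yon S).map (w i)) (pullback.snd f g)
      ((AlgSp.yon S).map (j i)) := by
  refine IsPullback.of_right (h₁₂ := pullback.fst f g) (v₁₃ := f) (h₂₂ := g) ?_ ?_
    (IsPullback.of_hasPullback f g)
  · have : toPullback f g Ti j W w a sq i ≫ pullback.fst f g = a i := pullback.lift_fst _ _ _
    rw [this]
    exact sq i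
  · rw [toPullback, pullback.lift_snd, Functor.map_comp]

lemma repWith_toPullback [∀ i, IsOpenImmersion (j i).left] (i : ι) :
    AlgSp.RepWith @IsOpenImmersion (toPullback f g Ti j W w a sq i) :=
  MorphismProperty.of_isPullback (P := AlgSp.RepWith @IsOpenImmersion)
    (isPullback_toPullback f g Ti j W w a sq i).flip
    ((AlgSp.repWith_yon_map_iff @IsOpenImmersion (j i)).2 inferInstance)

lemma jointlySurjective_toPullback [∀ i, IsOpenImmersion (j i).left]
    (hj : ∀ t : T.left, ∃ i, t ∈ Set.range (j i).left) :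
    JointlySurjective (repWith_toPullback f g Ti j W w a sq) := by
  intro T' h t
  obtain ⟨k, hk⟩ := (AlgSp.yon S).map_surjective (h ≫ pullback.snd f g)
  obtain ⟨i, s, hs⟩ := hj (k.left t)
  refine ⟨i, ?_⟩
  have hφ := repWith_toPullback f g Ti j W w a sq i
  have h1 := (hφ.rep.isPullback' h).paste_horiz (isPullback_toPullback f g Ti j W w a sq i).flip
  rw [← hk, ← Functor.map_comp] at h1
  have h2 := (IsPullback.of_map (AlgSp.yon S) (by
    apply (AlgSp.yon S).map_injective
    rw [Functor.map_comp, Functor.map_comp]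
    exact h1.w) h1).map (Over.forget S)
  obtain ⟨p, -, hp⟩ := Groth.Agent.Lib.Helper12.exists_preimage_of_isPullback h2 s t hs
  exact ⟨p, hp⟩

include sq in
/-- **Zariski-local representability of a base change**: if the base change of `f` along `g`
restricted to the members of an open cover of `T` is representable, so is the base change along `g`,
compatibly. -/
theorem exists_rep_of_openCover [∀ i, IsOpenImmersion (j i).left]
    (hj : ∀ t : T.left, ∃ i, t ∈ Set.range (j i).left) :
    ∃ (W₀ : Over S) (w₀ : W₀ ⟶ T) (a₀ : (AlgSp.yon S).obj W₀ ⟶ F),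
      IsPullback a₀ ((AlgSp.yon S).map w₀) f g ∧
      ∀ i, ∃ k : W i ⟶ W₀, IsPullback k (w i) w₀ (j i) ∧ (AlgSp.yon S).map k ≫ a₀ = a i := by
  obtain ⟨W₀, e, k, hk, -⟩ := exists_iso (repWith_toPullback f g Ti j W w a sq)
    (jointlySurjective_toPullback f g Ti j W w a sq hj)
  obtain ⟨w₀, hw₀⟩ := (AlgSp.yon S).map_surjective (e.hom ≫ pullback.snd f g)
  have sq₀ : IsPullback (e.hom ≫ pullback.fst f g) ((AlgSp.yon S).map w₀) f g := by
    rw [hw₀]
    exact IsPullback.of_iso (IsPullback.of_hasPullback f g) e.symm (Iso.refl _) (Iso.refl _)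
      (Iso.refl _) (by simp) (by simp) (by simp) (by simp)
  refine ⟨W₀, w₀, e.hom ≫ pullback.fst f g, sq₀, fun i => ⟨k i, ?_, ?_⟩⟩
  · have h1 := isPullback_toPullback f g Ti j W w a sq i
    rw [← hk i] at h1
    have h2 : IsPullback ((AlgSp.yon S).map (k i)) ((AlgSp.yon S).map (w i))
        ((AlgSp.yon S).map w₀) ((AlgSp.yon S).map (j i)) := by
      rw [hw₀]
      refine IsPullback.of_iso h1 (Iso.refl _) e.symm (Iso.refl _) (Iso.refl _) ?_ ?_ ?_ ?_
      · simp
      · simp
      · simp
      · simp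
    exact IsPullback.of_map (AlgSp.yon S) (by
      apply (AlgSp.yon S).map_injective
      rw [Functor.map_comp, Functor.map_comp]
      exact h2.w) h2
  · rw [← Category.assoc, hk i]
    exact pullback.lift_fst _ _ _

end Morphism

/-- a property Zariski-local on the target can be checked on the members of a cartesian open
cover. -/
lemma property_of_openCover {S : Scheme.{u}} (P : MorphismProperty Scheme.{u})
    [IsZariskiLocalAtTarget P] {T W₀ : Over S} (w₀ : W₀ ⟶ T) {ι : Type u} (Ti : ι → Over S)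
    (j : ∀ i, Ti i ⟶ T) [∀ i, IsOpenImmersion (j i).left]
    (hj : ∀ t : T.left, ∃ i, t ∈ Set.range (j i).left)
    (W : ι → Over S) (w : ∀ i, W i ⟶ Ti i) (k : ∀ i, W i ⟶ W₀)
    (sq : ∀ i, IsPullback (k i) (w i) w₀ (j i)) (h : ∀ i, P (w i).left) : P w₀.left := by
  let 𝒰 : T.left.OpenCover := {
    I₀ := ι, X i := (Ti i).left, f i := (j i).left,
    mem₀ := by
      rw [Scheme.presieve₀_mem_precoverage_iff]
      exact ⟨fun x ↦ hj x, inferInstance⟩ }
  refine (IsZariskiLocalAtTarget.iff_of_openCover (P := P) 𝒰).2 fun i => ?_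
  have h2 : IsPullback (k i).left (w i).left w₀.left (j i).left := (sq i).map (Over.forget S)
  have e : h2.isoPullback.hom ≫ pullback.snd w₀.left (j i).left = (w i).left :=
    h2.isoPullback_hom_snd
  have := h i
  rw [← e, MorphismProperty.cancel_left_of_respectsIso P] at this
  exact this


/-- **affine-local criterion for `RepWith P`**, for `P` Zariski-local on the target: it suffices that
the base change to every affine scheme is representable with `P`. -/
theorem repWith_of_affine {S : Scheme.{u}} (P : MorphismProperty Scheme.{u})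
    [IsZariskiLocalAtTarget P] {F G : AlgSp.Sp S} (f : F ⟶ G)
    (h : ∀ (Z : Over S), IsAffine Z.left → ∀ (g : (AlgSp.yon S).obj Z ⟶ G),
      ∃ (W : Over S) (i : W ⟶ Z) (fst : (AlgSp.yon S).obj W ⟶ F),
        IsPullback fst ((AlgSp.yon S).map i) f g ∧ P i.left) :
    AlgSp.RepWith P f := by
  haveI : P.RespectsIso := inferInstance
  haveI : (P.inverseImage (Over.forget S)).RespectsIso :=
    MorphismProperty.RespectsIso.inverseImage P _
  refine MorphismProperty.relative.of_exists (fun T g => ?_)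
  let Ti : T.left.affineCover.I₀ → Over S := fun i => Over.mk (T.left.affineCover.f i ≫ T.hom)
  let j : ∀ i, Ti i ⟶ T := fun i => Over.homMk (T.left.affineCover.f i) rfl
  haveI : ∀ i, IsOpenImmersion (j i).left := fun i =>
    inferInstanceAs (IsOpenImmersion (T.left.affineCover.f i))
  have hj : ∀ t : T.left, ∃ i, t ∈ Set.range (j i).left := fun t => by
    obtain ⟨i, y, hy⟩ := T.left.affineCover.exists_eq t
    exact ⟨i, y, hy⟩
  have hZ : ∀ i, IsAffine (Ti i).left := fun i =>
    inferInstanceAs (IsAffine (T.left.affineCover.X i))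
  choose W w a sq hP using fun i => h (Ti i) (hZ i) ((AlgSp.yon S).map (j i) ≫ g)
  obtain ⟨W₀, w₀, a₀, sq₀, hk⟩ := exists_rep_of_openCover f g Ti j W w a sq hj
  choose k hk1 _ using hk
  exact ⟨W₀, a₀, w₀, sq₀, property_of_openCover P w₀ Ti j hj W w k hk1 hP⟩

end Groth.Agent.Lib.Helper12.ZarGlue
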