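import Mathlib
import Groth.Agent.S9927
import Groth.Agent.S9928
import Groth.Agent.Lib.Helper12IdealDescent
import Groth.Agent.Lib.Helper12ZarGlue

/-!
Helper library (helper12): effective descent of closed subschemes along etale covers, in the sheaf
language of `AlgSp.Sp S`.
-/

set_option autoImplicit false
universe u
open CategoryTheory CategoryTheory.Limits AlgebraicGeometry Opposite
open AlgSp

namespace Groth.Agent.Lib.Helper12.ClosedDescent

open Groth.Agent.Lib.Helper9

/-- epi-mono diagonal filler in a topos-like category. -/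
lemma exists_factor_of_epi {E : Type*} [Category* E] [ToposLike E] {Z F₁ F₂ X : E} (a : Z ⟶ F₁)
    [Epi a] (b : Z ⟶ F₂) (m₁ : F₁ ⟶ X) (m₂ : F₂ ⟶ X) [Mono m₂] (h : a ≫ m₁ = b ≫ m₂) :
    ∃ n : F₁ ⟶ F₂, n ≫ m₂ = m₁ ∧ a ≫ n = b := by
  obtain ⟨n, hn⟩ := ToposLike.exists_desc_of_epi a inferInstance b (fun W a₁ a₂ h12 => by
    rw [← cancel_mono m₂, Category.assoc, Category.assoc, ← h, ← Category.assoc, h12,
      Category.assoc])
  refine ⟨n, ?_, hn⟩
  rw [← cancel_epi a, ← Category.assoc, hn, h]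

/-- two subobjects with the same pullback along an epimorphism are isomorphic. -/
lemma exists_iso_of_isPullback_of_epi {E : Type*} [Category* E] [ToposLike E] {Z V F₁ F₂ X : E}
    {a₁ : Z ⟶ F₁} {a₂ : Z ⟶ F₂} {k : Z ⟶ V} {m₁ : F₁ ⟶ X} {m₂ : F₂ ⟶ X} {p : V ⟶ X} [Epi p]
    [Mono m₁] [Mono m₂] (sq₁ : IsPullback a₁ k m₁ p) (sq₂ : IsPullback a₂ k m₂ p) :
    ∃ e : F₁ ≅ F₂, e.hom ≫ m₂ = m₁ := by
  haveI : Epi a₁ := ToposLike.epi_of_isPullback sq₁ inferInstance
  haveI : Epi a₂ := ToposLike.epi_of_isPullback sq₂ inferInstance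
  obtain ⟨n, hn, -⟩ := exists_factor_of_epi a₁ a₂ m₁ m₂ (sq₁.w.trans sq₂.w.symm)
  obtain ⟨n', hn', -⟩ := exists_factor_of_epi a₂ a₁ m₂ m₁ (sq₂.w.trans sq₁.w.symm)
  refine ⟨⟨n, n', ?_, ?_⟩, hn⟩
  · rw [← cancel_mono m₁, Category.assoc, hn', hn, Category.id_comp]
  · rw [← cancel_mono m₂, Category.assoc, hn, hn', Category.id_comp]

variable {S : Scheme.{u}}

instance : ToposLike (AlgSp.Sp S) := inferInstance

/-- the two pullbacks to `T' ×_T T'` of a closed subscheme of `T'` which is pulled back from a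
subsheaf of `h_T` have the same ideal sheaf. -/
lemma comap_fst_eq_comap_snd {F : AlgSp.Sp S} {T T' Z' : Over S} (m : F ⟶ (AlgSp.yon S).obj T)
    (p : T' ⟶ T) (i' : Z' ⟶ T') [IsClosedImmersion i'.left] (fst : (AlgSp.yon S).obj Z' ⟶ F)
    (sq : IsPullback fst ((AlgSp.yon S).map i') m ((AlgSp.yon S).map p)) :
    i'.left.ker.comap (pullback.fst p.left p.left) =
      i'.left.ker.comap (pullback.snd p.left p.left) := by
  have hw2 : pullback.snd p.left p.left ≫ T'.hom = pullback.fst p.left p.left ≫ T'.hom := by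
    rw [← Over.w p, ← Category.assoc, ← Category.assoc, pullback.condition]
  obtain ⟨π1, hπ1⟩ : ∃ π1 : Over.mk (pullback.fst p.left p.left ≫ T'.hom) ⟶ T',
      π1 = Over.homMk (pullback.fst p.left p.left) rfl := ⟨_, rfl⟩
  obtain ⟨π2, hπ2⟩ : ∃ π2 : Over.mk (pullback.fst p.left p.left ≫ T'.hom) ⟶ T',
      π2 = Over.homMk (pullback.snd p.left p.left) hw2 := ⟨_, rfl⟩
  have hπ : π1 ≫ p = π2 ≫ p := by
    apply Over.OverMorphism.ext
    rw [hπ1, hπ2]
    exact pullback.condition
  -- a general construction of the pullback of `i'` along `π : T2 ⟶ T'`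
  have key : ∀ (π : Over.mk (pullback.fst p.left p.left ≫ T'.hom) ⟶ T'),
      ∃ (C : Over S) (c : C ⟶ Over.mk (pullback.fst p.left p.left ≫ T'.hom))
        (d : (AlgSp.yon S).obj C ⟶ F),
        IsPullback d ((AlgSp.yon S).map c) m ((AlgSp.yon S).map π ≫ (AlgSp.yon S).map p) ∧
        c.left.ker = i'.left.ker.comap π.left := by
    intro π
    have hd : pullback.snd π.left i'.left ≫ Z'.hom =
        pullback.fst π.left i'.left ≫ (pullback.fst p.left p.left ≫ T'.hom) := by
      rw [← Over.w i', ← Category.assoc, ← pullback.condition, Category.assoc, Over.w π]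
      rfl
    obtain ⟨c, hc⟩ : ∃ c : Over.mk (pullback.fst π.left i'.left ≫
        (pullback.fst p.left p.left ≫ T'.hom)) ⟶ Over.mk (pullback.fst p.left p.left ≫ T'.hom),
        c = Over.homMk (pullback.fst π.left i'.left) rfl := ⟨_, rfl⟩
    obtain ⟨d, hd'⟩ : ∃ d : Over.mk (pullback.fst π.left i'.left ≫
        (pullback.fst p.left p.left ≫ T'.hom)) ⟶ Z',
        d = Over.homMk (pullback.snd π.left i'.left) hd := ⟨_, rfl⟩
    have sqk : IsPullback c d π i' := by
      refine IsPullback.of_map (Over.forget S) ?_ ?_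
      · apply Over.OverMorphism.ext
        rw [hc, hd']
        exact pullback.condition
      · rw [hc, hd']
        exact IsPullback.of_hasPullback π.left i'.left
    refine ⟨_, c, (AlgSp.yon S).map d ≫ fst, (sqk.map (AlgSp.yon S)).flip.paste_horiz sq, ?_⟩
    rw [hc]
    exact Scheme.IdealSheafData.ker_fst_of_isClosedImmersion i'.left π.left
  obtain ⟨C1, c1, d1, sq1, h1⟩ := key π1
  obtain ⟨C2, c2, d2, sq2, h2⟩ := key π2
  rw [← Functor.map_comp, ← hπ, Functor.map_comp] at sq2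
  have hπ1l : π1.left = pullback.fst p.left p.left := by rw [hπ1]; rfl
  have hπ2l : π2.left = pullback.snd p.left p.left := by rw [hπ2]; rfl
  rw [← hπ1l, ← hπ2l, ← h1, ← h2]
  -- the isomorphism between the two pullbacks
  obtain ⟨ε, hε⟩ : ∃ ε : C1 ≅ C2, ε.hom ≫ c2 = c1 := by
    refine ⟨(AlgSp.yon S).preimageIso (sq1.isoIsPullback _ _ sq2), ?_⟩
    apply (AlgSp.yon S).map_injective
    rw [Functor.map_comp, Functor.preimageIso_hom, Functor.map_preimage]
    exact sq1.isoIsPullback_hom_snd _ _ sq2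
  have hl : c1.left = ε.hom.left ≫ c2.left := by rw [← Over.comp_left, hε]
  haveI : IsIso ε.hom.left := (Over.forget S).map_isIso ε.hom
  rw [hl, Scheme.Hom.ker_comp_of_isIso]

/-- **effective descent of closed subschemes along a quasi-compact etale cover.**  A subsheaf of
`h_T` whose pullback to a quasi-compact etale cover `T'` of `T` is a closed subscheme of `T'` is a
closed subscheme of `T`. -/
theorem exists_closed_of_cover {F : AlgSp.Sp S} {T T' Z' : Over S} (m : F ⟶ (AlgSp.yon S).obj T)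
    [Mono m] (p : T' ⟶ T) [Etale p.left] [Surjective p.left] [QuasiCompact p.left]
    (i' : Z' ⟶ T') [IsClosedImmersion i'.left] (fst : (AlgSp.yon S).obj Z' ⟶ F)
    (sq : IsPullback fst ((AlgSp.yon S).map i') m ((AlgSp.yon S).map p)) :
    ∃ (Z : Over S) (i : Z ⟶ T) (e : (AlgSp.yon S).obj Z ≅ F), IsClosedImmersion i.left ∧
      e.hom ≫ m = (AlgSp.yon S).map i := by
  have hst := comap_fst_eq_comap_snd m p i' fst sq
  have hJ := Groth.Agent.Lib.Helper12.comap_map_eq_of_stable p.left i'.left.ker hst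
  rw [Scheme.IdealSheafData.map_ker] at hJ
  obtain ⟨ι, hι⟩ : ∃ ι : (i'.left ≫ p.left).image ⟶ T.left, ι = (i'.left ≫ p.left).imageι :=
    ⟨_, rfl⟩
  obtain ⟨z, hz⟩ : ∃ z : Z'.left ⟶ (i'.left ≫ p.left).image, z = (i'.left ≫ p.left).toImage :=
    ⟨_, rfl⟩
  haveI : IsClosedImmersion ι := by rw [hι]; infer_instance
  have hzι : z ≫ ι = i'.left ≫ p.left := by rw [hz, hι]; exact Scheme.Hom.toImage_imageι _
  have hker : ι.ker = (i'.left ≫ p.left).ker := by
    rw [hι]; exact Scheme.IdealSheafData.ker_subschemeι _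
  have sqS : IsPullback i'.left z p.left ι :=
    isPullback_of_isClosedImmersion i'.left ι z p.left hzι.symm (by rw [hker]; exact hJ)
  have hzw : z ≫ (ι ≫ T.hom) = Z'.hom := by
    rw [← Category.assoc, hzι, Category.assoc, Over.w p, Over.w i']
  obtain ⟨i, hi⟩ : ∃ i : Over.mk (ι ≫ T.hom) ⟶ T, i = Over.homMk ι rfl := ⟨_, rfl⟩
  obtain ⟨zO, hzO⟩ : ∃ zO : Z' ⟶ Over.mk (ι ≫ T.hom), zO = Over.homMk z hzw := ⟨_, rfl⟩
  have sqO : IsPullback i' zO p i := by
    refine IsPullback.of_map (Over.forget S) ?_ ?_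
    · apply Over.OverMorphism.ext
      rw [hi, hzO]
      exact hzι.symm
    · rw [hi, hzO]
      exact sqS
  haveI : Epi ((AlgSp.yon S).map p) :=
    Groth.Agent.S9927.epi_of_repWith _ ((AlgSp.repWith_yon_map_iff _ _).2 inferInstance)
      ((AlgSp.repWith_yon_map_iff _ _).2 inferInstance)
  haveI : IsClosedImmersion i.left := by rw [hi]; exact ‹IsClosedImmersion ι›
  haveI : Mono ((AlgSp.yon S).map i) := by
    haveI : Mono i.left := inferInstance
    haveI : Mono i := Over.mono_of_mono_left i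
    infer_instance
  obtain ⟨e, he⟩ := exists_iso_of_isPullback_of_epi (sqO.map (AlgSp.yon S)).flip sq
  exact ⟨_, i, e, inferInstance, he⟩

/-- an etale surjective morphism onto a quasi-compact scheme is already surjective on a
quasi-compact open of the source. -/
lemma exists_compact_open_surjective {Z1 Z : Scheme.{u}} (c : Z1 ⟶ Z) [Etale c] [Surjective c]
    [CompactSpace ↥Z] : ∃ O : Z1.Opens, IsCompact (O : Set ↥Z1) ∧ Surjective (O.ι ≫ c) := by
  have hopen : IsOpenMap c := c.isOpenMap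
  have hcover : (Set.univ : Set ↥Z) ⊆ ⋃ U : Z1.affineOpens, c '' (U.1 : Set ↥Z1) := by
    intro z _
    obtain ⟨x, rfl⟩ := c.surjective z
    obtain ⟨V, hV, hxV, -⟩ := (Z1.isBasis_affineOpens).exists_subset_of_mem_open
      (Set.mem_univ x) isOpen_univ
    obtain ⟨V', hV', rfl⟩ := hV
    exact Set.mem_iUnion.2 ⟨⟨V', hV'⟩, x, hxV, rfl⟩
  obtain ⟨t, ht⟩ := isCompact_univ.elim_finite_subcover
    (fun U : Z1.affineOpens => c '' (U.1 : Set ↥Z1)) (fun U => hopen _ U.1.2) hcover
  refine ⟨⨆ U ∈ t, U.1, ?_, ⟨fun z => ?_⟩⟩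
  · have : ((⨆ U ∈ t, U.1 : Z1.Opens) : Set ↥Z1) = ⋃ U ∈ t, (U.1 : Set ↥Z1) := by
      simp
    rw [this]
    exact t.isCompact_biUnion (fun U _ => U.2.isCompact)
  · obtain ⟨U, hUt, x, hxU, rfl⟩ : ∃ U ∈ t, z ∈ c '' (U.1 : Set ↥Z1) := by
      simpa using ht (Set.mem_univ z)
    have hx : x ∈ (⨆ U ∈ t, U.1 : Z1.Opens) := by
      simp only [TopologicalSpace.Opens.mem_iSup]
      exact ⟨U, hUt, hxU⟩
    exact ⟨⟨x, hx⟩, rfl⟩

/-- **descent of closed immersions along an etale atlas.**  A morphism of sheaves whose base change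
along an etale surjective chart of the target is representable by closed immersions is itself
representable by closed immersions. -/
theorem repWith_isClosedImmersion_of_chart {F X : AlgSp.Sp S} (f : F ⟶ X) {V : Over S}
    (p : (AlgSp.yon S).obj V ⟶ X) (hpe : AlgSp.RepWith @Etale p)
    (hps : AlgSp.RepWith @Surjective p) {P₀ : AlgSp.Sp S} (fst : P₀ ⟶ F)
    (snd : P₀ ⟶ (AlgSp.yon S).obj V) (sq : IsPullback fst snd f p)
    (h : AlgSp.RepWith @IsClosedImmersion snd) : AlgSp.RepWith @IsClosedImmersion f := by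
  haveI : Epi p := Groth.Agent.S9927.epi_of_repWith p hpe hps
  haveI : Mono snd := Groth.Agent.S9928.mono_of_repWith @IsClosedImmersion
    (fun X Y g hg => by haveI : IsClosedImmersion g := hg; infer_instance) snd h
  haveI : Mono f := Groth.Agent.S9927.mono_of_isPullback_of_epi sq
  refine Groth.Agent.Lib.Helper12.ZarGlue.repWith_of_affine _ f (fun Z hZ g => ?_)
  haveI : IsAffine Z.left := hZ
  -- the etale cover of `Z`
  obtain ⟨Z1, c1, v', sqZ⟩ := hpe.1 g
  obtain ⟨v, rfl⟩ := (AlgSp.yon S).map_surjective v'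
  haveI : Etale c1.left := hpe.2 _ _ c1 sqZ
  haveI : Surjective c1.left := hps.2 _ _ c1 sqZ
  obtain ⟨O, hOc, hOs⟩ := exists_compact_open_surjective c1.left
  haveI : CompactSpace ↥O := isCompact_iff_compactSpace.mp hOc
  obtain ⟨r, hr⟩ : ∃ r : Over.mk (O.ι ≫ Z1.hom) ⟶ Z1, r = Over.homMk O.ι rfl := ⟨_, rfl⟩
  have hrl : (r ≫ c1).left = O.ι ≫ c1.left := by rw [Over.comp_left, hr]; rfl
  haveI : Etale (r ≫ c1).left := by rw [hrl]; infer_instance
  haveI : Surjective (r ≫ c1).left := by rw [hrl]; exact hOs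
  haveI : QuasiCompact (r ≫ c1).left := by
    rw [hrl]
    haveI : CompactSpace ↥(Over.mk (O.ι ≫ Z1.hom)).left := ‹CompactSpace ↥O›
    haveI : QuasiSeparatedSpace ↥Z.left := inferInstance
    exact quasiCompact_of_compactSpace _
  -- the pullback of `f` to `Z`
  have sqF := IsPullback.of_hasPullback f g
  haveI : Mono (pullback.snd f g) := inferInstance
  -- the pullback of `snd` to `T'`
  obtain ⟨W, i', a', sqW⟩ := h.1 ((AlgSp.yon S).map (r ≫ v))
  haveI : IsClosedImmersion i'.left := h.2 _ _ i' sqW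
  -- sqW : IsPullback a' (yon i') snd (yon (r ≫ v))
  have hw : (a' ≫ fst) ≫ f = ((AlgSp.yon S).map i' ≫ (AlgSp.yon S).map (r ≫ c1)) ≫ g := by
    rw [Category.assoc, sq.w, ← Category.assoc, sqW.w, Category.assoc, Category.assoc,
      Functor.map_comp, Functor.map_comp, Category.assoc, Category.assoc, sqZ.w]
  obtain ⟨b, hb1, hb2⟩ : ∃ b : (AlgSp.yon S).obj W ⟶ pullback f g,
      b ≫ pullback.fst f g = a' ≫ fst ∧
      b ≫ pullback.snd f g = (AlgSp.yon S).map i' ≫ (AlgSp.yon S).map (r ≫ c1) :=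
    ⟨pullback.lift _ _ hw, pullback.lift_fst _ _ _, pullback.lift_snd _ _ _⟩
  have sqb : IsPullback b ((AlgSp.yon S).map i') (pullback.snd f g)
      ((AlgSp.yon S).map (r ≫ c1)) := by
    -- big square: W = F ×_X T' via sqW pasted with sq
    have big : IsPullback (a' ≫ fst) ((AlgSp.yon S).map i') f ((AlgSp.yon S).map (r ≫ v) ≫ p) :=
      sqW.paste_horiz sq
    have hrv : (AlgSp.yon S).map (r ≫ v) ≫ p = (AlgSp.yon S).map (r ≫ c1) ≫ g := by
      rw [Functor.map_comp, Functor.map_comp, Category.assoc, Category.assoc, sqZ.w]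
    rw [hrv] at big
    refine IsPullback.of_right ?_ hb2 sqF
    rw [hb1]
    exact big
  obtain ⟨Z0, i, e, hi, he⟩ := exists_closed_of_cover (pullback.snd f g) (r ≫ c1) i' b sqb
  refine ⟨Z0, i, e.hom ≫ pullback.fst f g, ?_, hi⟩
  exact IsPullback.of_iso sqF e.symm (Iso.refl _) (Iso.refl _) (Iso.refl _) (by simp)
    (by rw [← he]; simp) (by simp) (by simp)

end Groth.Agent.Lib.Helper12.ClosedDescent
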