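import Mathlib
import Groth.Prelude.Def_AlgSpModX
import Groth.Agent.S13210
import Groth.Agent.S9927
import Groth.Agent.S9928
import Groth.Agent.Lib.Helper12ClosedDescent

/-!
# sheaves of ideals on the small étale site: dictionary with kernels of scheme morphisms (helper12)

* `ker_eq_idealOfRep`: the kernel ideal of `AlgSp.idealOfRep` may be computed on any represented
  pullback.
* `chartOfOpen`, `mem_idealOfRep_chartOfOpen_iff`: the values on the affine opens of an étale chart.
* `idealOfRep_le_of_factor`, `exists_factor_of_idealOfRep_le`: a representable morphism factors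
  through a closed subspace exactly when the ideal of the closed subspace is contained in its kernel
  family.
-/

set_option autoImplicit false
universe u
open CategoryTheory CategoryTheory.Limits AlgebraicGeometry Opposite

namespace Groth.Agent.Lib.Helper12.IdealEt

open AlgSp Groth.Agent.Lib.Helper9

variable {S : Scheme.{u}}

/-- the kernel ideal of `idealOfRep` may be computed on any represented pullback. -/
lemma ker_eq_idealOfRep {X Z : AlgSp.Sp S} {i : Z ⟶ X} (hi : AlgSp.Representable i)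
    (E : AlgSp.EtOver X) (hE : IsAffine E.obj.left.left)
    {W' : Over S} (π' : W' ⟶ E.obj.left) (fst' : (AlgSp.yon S).obj W' ⟶ Z)
    (sq : IsPullback fst' ((AlgSp.yon S).map π') i E.obj.hom) :
    RingHom.ker π'.left.appTop.hom = (AlgSp.idealOfRep hi).ideal E hE := by
  have sq0 := AlgSp.EtOver.isPullback_bcObj hi E
  obtain ⟨m, hm⟩ := (AlgSp.yon S).map_surjective (sq.isoIsPullback _ _ sq0).hom
  obtain ⟨m', hm'⟩ := (AlgSp.yon S).map_surjective (sq.isoIsPullback _ _ sq0).inv
  have h1 : m ≫ AlgSp.EtOver.bcπ hi E = π' := (AlgSp.yon S).map_injective (by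
    rw [Functor.map_comp, hm]
    exact sq.isoIsPullback_hom_snd _ _ sq0)
  have h2 : m' ≫ π' = AlgSp.EtOver.bcπ hi E := (AlgSp.yon S).map_injective (by
    rw [Functor.map_comp, hm']
    exact sq.isoIsPullback_inv_snd _ _ sq0)
  ext a
  change π'.left.appTop.hom a = 0 ↔ (AlgSp.EtOver.bcπ hi E).left.appTop.hom a = 0
  constructor
  · intro h
    rw [← h2, Over.comp_left, Scheme.Hom.comp_appTop, CommRingCat.hom_comp, RingHom.comp_apply, h,
      map_zero]
  · intro h
    rw [← h1, Over.comp_left, Scheme.Hom.comp_appTop, CommRingCat.hom_comp, RingHom.comp_apply, h,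
      map_zero]

/-- an open of an étale chart, as a scheme over `S`. -/
abbrev openOver (U : Over S) (W : U.left.Opens) : Over S := Over.mk (W.ι ≫ U.hom)

/-- the inclusion of an open of an étale chart. -/
abbrev openOverι (U : Over S) (W : U.left.Opens) : openOver U W ⟶ U := Over.homMk W.ι rfl

/-- an open of an étale chart, as an object of the small étale site. -/
noncomputable def chartOfOpen {X : AlgSp.Sp S} {U : Over S} (p : (AlgSp.yon S).obj U ⟶ X)
    (hpe : AlgSp.RepWith @Etale p) (W : U.left.Opens) : AlgSp.EtOver X :=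
  AlgSp.EtOver.mk ((AlgSp.yon S).map (openOverι U W) ≫ p)
    ((AlgSp.repWith_isMultiplicative (S := S) @Etale).comp_mem _ _
      ((AlgSp.repWith_yon_map_iff _ _).2 (show Etale W.ι from inferInstance)) hpe)

/-- the values of `idealOfRep` on the affine opens of an étale chart. -/
lemma mem_idealOfRep_chartOfOpen_iff {X Z : AlgSp.Sp S} {i : Z ⟶ X} (hi : AlgSp.Representable i)
    {U : Over S} (p : (AlgSp.yon S).obj U ⟶ X) (hpe : AlgSp.RepWith @Etale p)
    {P : Over S} (π : P ⟶ U) (fst : (AlgSp.yon S).obj P ⟶ Z)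
    (sq : IsPullback fst ((AlgSp.yon S).map π) i p) (W : U.left.Opens) (hW : IsAffineOpen W)
    (b : Γ(↑W, ⊤)) :
    b ∈ (AlgSp.idealOfRep hi).ideal (chartOfOpen p hpe W) hW ↔
      (π.left.app W).hom (W.topIso.hom.hom b) = 0 := by
  let PW : Over S := openOver P (π.left ⁻¹ᵁ W)
  let πW : PW ⟶ openOver U W := Over.homMk (π.left ∣_ W) (by
    change (π.left ∣_ W) ≫ W.ι ≫ U.hom = (π.left ⁻¹ᵁ W).ι ≫ P.hom
    rw [← Category.assoc, morphismRestrict_ι, Category.assoc, Over.w π])
  have sqS : IsPullback πW (openOverι P (π.left ⁻¹ᵁ W)) (openOverι U W) π :=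
    IsPullback.of_map (Over.forget S) (Over.OverMorphism.ext (morphismRestrict_ι π.left W))
      (isPullback_morphismRestrict π.left W)
  have sqY := sqS.map (AlgSp.yon S)
  have big := (sqY.paste_vert sq.flip).flip
  have h1 := ker_eq_idealOfRep hi (chartOfOpen p hpe W) hW πW _ big
  rw [← h1]
  change (π.left ∣_ W).appTop.hom b = 0 ↔ _
  have h2 : (π.left ∣_ W).appTop = W.topIso.hom ≫ π.left.app W ≫ (π.left ⁻¹ᵁ W).topIso.inv := by
    rw [← Scheme.Hom.resLE_eq_morphismRestrict, Scheme.Hom.appTop, Scheme.Hom.resLE_app_top,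
      Scheme.Hom.appLE_eq_app]
  rw [h2]
  simp only [CommRingCat.hom_comp, RingHom.comp_apply]
  constructor
  · intro h
    have hinj : Function.Injective (π.left ⁻¹ᵁ W).topIso.inv.hom :=
      (ConcreteCategory.bijective_of_isIso (π.left ⁻¹ᵁ W).topIso.inv).injective
    exact hinj (h.trans (map_zero _).symm)
  · intro h
    rw [h, map_zero]

/-- a morphism factoring through `i` has a larger kernel family. -/
lemma idealOfRep_le_of_factor {X Z F : AlgSp.Sp S} {i : Z ⟶ X} {h : F ⟶ X}
    (hi : AlgSp.Representable i) (hh : AlgSp.Representable h) (k : F ⟶ Z) (hk : k ≫ i = h) :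
    AlgSp.idealOfRep hi ≤ AlgSp.idealOfRep hh := by
  intro E hE
  have sqZ := AlgSp.EtOver.isPullback_bcObj hi E
  have sqF := AlgSp.EtOver.isPullback_bcObj hh E
  obtain ⟨l, hl1, hl2⟩ : ∃ l : (AlgSp.yon S).obj (AlgSp.EtOver.bcObj hh E).obj.left ⟶
      (AlgSp.yon S).obj (AlgSp.EtOver.bcObj hi E).obj.left,
      l ≫ (AlgSp.EtOver.bcObj hi E).obj.hom = (AlgSp.EtOver.bcObj hh E).obj.hom ≫ k ∧
      l ≫ (AlgSp.yon S).map (AlgSp.EtOver.bcπ hi E) = (AlgSp.yon S).map (AlgSp.EtOver.bcπ hh E) :=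
    ⟨sqZ.lift _ _ (by rw [Category.assoc, hk]; exact sqF.w), sqZ.lift_fst _ _ _,
      sqZ.lift_snd _ _ _⟩
  obtain ⟨m, rfl⟩ := (AlgSp.yon S).map_surjective l
  have hm : m ≫ AlgSp.EtOver.bcπ hi E = AlgSp.EtOver.bcπ hh E := (AlgSp.yon S).map_injective (by
    rw [Functor.map_comp]; exact hl2)
  intro a ha
  change (AlgSp.EtOver.bcπ hh E).left.appTop.hom a = 0
  change (AlgSp.EtOver.bcπ hi E).left.appTop.hom a = 0 at ha
  rw [← hm, Over.comp_left, Scheme.Hom.comp_appTop, CommRingCat.hom_comp, RingHom.comp_apply, ha,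
    map_zero]

/-- a representable morphism whose kernel family contains the ideal of a closed subspace factors
through the closed subspace. -/
lemma exists_factor_of_idealOfRep_le {X Z F : AlgSp.Sp S} (hX : AlgSp.IsAlgSpace X) {i : Z ⟶ X}
    {h : F ⟶ X} (hi : AlgSp.RepWith @IsClosedImmersion i) (hh : AlgSp.Representable h)
    (hle : AlgSp.idealOfRep hi.1 ≤ AlgSp.idealOfRep hh) : ∃ k : F ⟶ Z, k ≫ i = h := by
  obtain ⟨U, p, hpe, hps⟩ := hX.atlas
  obtain ⟨ZU, zU, fstZ, sqZ⟩ := hi.1 p
  obtain ⟨FU, πU, fstF, sqF⟩ := hh p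
  haveI : IsClosedImmersion zU.left := hi.2 p fstZ zU sqZ
  haveI : Epi p := Groth.Agent.S9927.epi_of_repWith p hpe hps
  haveI : Epi fstF := ToposLike.epi_of_isPullback sqF inferInstance
  haveI : Mono i := Groth.Agent.S9928.mono_of_repWith @IsClosedImmersion
    (fun X Y g hg => by haveI : IsClosedImmersion g := hg; infer_instance) i hi
  have hker : zU.left.ker ≤ πU.left.ker := by
    change zU.left.ker ≤ Scheme.IdealSheafData.ofIdeals _
    rw [Scheme.IdealSheafData.le_ofIdeals_iff]
    intro W a ha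
    rw [Scheme.Hom.ker_apply] at ha
    rw [RingHom.mem_ker] at ha ⊢
    have e1 : W.1.topIso.hom.hom (W.1.topIso.inv.hom a) = a := by
      rw [← RingHom.comp_apply, ← CommRingCat.hom_comp, Iso.inv_hom_id]
      rfl
    rw [← e1] at ha ⊢
    rw [← mem_idealOfRep_chartOfOpen_iff hi.1 p hpe zU fstZ sqZ W.1 W.2] at ha
    rw [← mem_idealOfRep_chartOfOpen_iff hh p hpe πU fstF sqF W.1 W.2]
    exact hle _ _ ha
  obtain ⟨b', hb'⟩ : ∃ b' : FU.left ⟶ ZU.left, b' ≫ zU.left = πU.left :=
    ⟨IsClosedImmersion.lift zU.left πU.left hker, IsClosedImmersion.lift_fac _ _ _⟩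
  let bO : FU ⟶ ZU := Over.homMk b' (by
    rw [← Over.w zU, ← Category.assoc, hb', Over.w πU])
  have hbO : bO ≫ zU = πU := Over.OverMorphism.ext hb'
  obtain ⟨n, hn, -⟩ := ClosedDescent.exists_factor_of_epi fstF ((AlgSp.yon S).map bO ≫ fstZ) h i (by
    rw [sqF.w, ← hbO, Functor.map_comp, Category.assoc, Category.assoc, sqZ.w])
  exact ⟨n, hn⟩

end Groth.Agent.Lib.Helper12.IdealEt
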