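import Mathlib
import Groth.Agent.Lib.Helper12IdealEt

/-!
# sheaves of ideals on the small étale site: further dictionary lemmas (helper12)
-/

set_option autoImplicit false
universe u
open CategoryTheory CategoryTheory.Limits AlgebraicGeometry Opposite

namespace Groth.Agent.Lib.Helper12.IdealEt

open AlgSp

variable {S : Scheme.{u}}

/-- the value of `idealOfRep` on an affine open of an étale chart is the kernel of the restriction
of any represented pullback. -/
lemma ker_morphismRestrict_eq {X Z : AlgSp.Sp S} {i : Z ⟶ X} (hi : AlgSp.Representable i)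
    {U : Over S} (p : (AlgSp.yon S).obj U ⟶ X) (hpe : AlgSp.RepWith @Etale p)
    {P : Over S} (π : P ⟶ U) (fst : (AlgSp.yon S).obj P ⟶ Z)
    (sq : IsPullback fst ((AlgSp.yon S).map π) i p) (W : U.left.Opens) (hW : IsAffineOpen W) :
    RingHom.ker (π.left ∣_ W).appTop.hom =
      (AlgSp.idealOfRep hi).ideal (chartOfOpen p hpe W) hW := by
  let PW : Over S := openOver P (π.left ⁻¹ᵁ W)
  let πW : PW ⟶ openOver U W := Over.homMk (π.left ∣_ W) (by
    change (π.left ∣_ W) ≫ W.ι ≫ U.hom = (π.left ⁻¹ᵁ W).ι ≫ P.hom
    rw [← Category.assoc, morphismRestrict_ι, Category.assoc, Over.w π])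
  have sqS : IsPullback πW (openOverι P (π.left ⁻¹ᵁ W)) (openOverι U W) π :=
    IsPullback.of_map (Over.forget S) (Over.OverMorphism.ext (morphismRestrict_ι π.left W))
      (isPullback_morphismRestrict π.left W)
  have sqY := sqS.map (AlgSp.yon S)
  have big := (sqY.paste_vert sq.flip).flip
  exact ker_eq_idealOfRep hi (chartOfOpen p hpe W) hW πW _ big

/-- a closed immersion into an affine scheme is locally of finite presentation exactly when its
kernel is finitely generated. -/
lemma locallyOfFinitePresentation_iff_ker_fg {P V : Scheme.{u}} (z : P ⟶ V) [IsAffine V]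
    [IsClosedImmersion z] :
    LocallyOfFinitePresentation z ↔ (RingHom.ker z.appTop.hom).FG := by
  obtain ⟨hP, hsurj⟩ := (HasAffineProperty.iff_of_isAffine (P := @IsClosedImmersion)).1
    (inferInstance : IsClosedImmersion z)
  haveI := hP
  rw [HasRingHomProperty.iff_of_isAffine (P := @LocallyOfFinitePresentation)]
  constructor
  · intro h
    algebraize [z.appTop.hom]
    have h1 := Algebra.FinitePresentation.ker_fG_of_surjective (Algebra.ofId Γ(V, ⊤) Γ(P, ⊤))
      hsurj
    exact h1
  · intro h
    exact RingHom.FinitePresentation.of_surjective _ hsurj h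

end Groth.Agent.Lib.Helper12.IdealEt
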