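import Mathlib
import Groth.Agent.Lib.Helper12IdealEt2
import Groth.Agent.Lib.Helper12IdealDescent

set_option autoImplicit false
universe u
open CategoryTheory CategoryTheory.Limits AlgebraicGeometry Opposite

namespace Groth.Agent.Lib.Helper12.IdealEt

open AlgSp

section Schemes

variable {X Y : Scheme.{u}}

/-- the restriction of an ideal sheaf to an affine open, on global sections. -/
lemma ideal_comap_ι_top (K : X.IdealSheafData) (O : X.affineOpens) :
    (K.comap O.1.ι).ideal ⟨⊤, isAffineOpen_top _⟩ = (K.ideal O).map O.1.topIso.inv.hom := by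
  rw [Scheme.IdealSheafData.ideal_comap_of_isOpenImmersion]
  have h1 : (O.1.ι.appIso ⊤).inv = 𝟙 _ := by rw [Scheme.Opens.ι_appIso]; rfl
  rw [h1]
  have h2 := K.map_ideal' (U := ⟨O.1.ι ''ᵁ ⊤, (isAffineOpen_top _).image_of_isOpenImmersion O.1.ι⟩)
    (V := O) (eqToHom (Scheme.Opens.ι_image_top O.1)).op
  rw [← h2]
  rfl

/-- the value of an ideal sheaf on an affine open, from its restriction to the open. -/
lemma ideal_eq_map_comap_ι_top (K : X.IdealSheafData) (O : X.affineOpens) :
    K.ideal O = ((K.comap O.1.ι).ideal ⟨⊤, isAffineOpen_top _⟩).map O.1.topIso.hom.hom := by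
  rw [ideal_comap_ι_top, Ideal.map_map, ← CommRingCat.hom_comp, Iso.inv_hom_id]
  exact (Ideal.map_id _).symm

/-- ideal sheaves with the same restrictions to the members of an affine open cover are equal. -/
lemma ext_of_comap_ι {K K' : X.IdealSheafData} {ι : Type*} (U : ι → X.affineOpens)
    (hU : ⨆ i, (U i).1 = ⊤) (H : ∀ i, K.comap (U i).1.ι = K'.comap (U i).1.ι) : K = K' := by
  refine Scheme.IdealSheafData.ext_of_iSup_eq_top U hU fun i => ?_
  rw [ideal_eq_map_comap_ι_top K, ideal_eq_map_comap_ι_top K', H i]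

/-- the pullback of an ideal sheaf along a morphism of affine schemes, on global sections. -/
lemma ideal_comap_top_of_isAffine [IsAffine X] [IsAffine Y] (γ : X ⟶ Y) (J : Y.IdealSheafData) :
    (J.comap γ).ideal ⟨⊤, isAffineOpen_top X⟩ =
      (J.ideal ⟨⊤, isAffineOpen_top Y⟩).map γ.appTop.hom := by
  apply le_antisymm
  · have h1 : J.comap γ ≤
        Scheme.IdealSheafData.ofIdealTop ((J.ideal ⟨⊤, isAffineOpen_top Y⟩).map γ.appTop.hom) := by
      rw [← Scheme.IdealSheafData.le_map_iff_comap_le]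
      apply Scheme.IdealSheafData.le_of_isAffine
      rw [Scheme.IdealSheafData.ideal_map _ γ ⟨⊤, isAffineOpen_top Y⟩ (isAffineOpen_top X)]
      have h2 : (Scheme.IdealSheafData.ofIdealTop
          ((J.ideal ⟨⊤, isAffineOpen_top Y⟩).map γ.appTop.hom)).ideal ⟨⊤, isAffineOpen_top X⟩ =
          (J.ideal ⟨⊤, isAffineOpen_top Y⟩).map γ.appTop.hom := by simp
      change _ ≤ Ideal.comap γ.appTop.hom
        ((Scheme.IdealSheafData.ofIdealTop _).ideal ⟨⊤, isAffineOpen_top X⟩)
      rw [h2]
      exact Ideal.le_comap_map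
    have h3 := h1 ⟨⊤, isAffineOpen_top X⟩
    have h2 : (Scheme.IdealSheafData.ofIdealTop
        ((J.ideal ⟨⊤, isAffineOpen_top Y⟩).map γ.appTop.hom)).ideal ⟨⊤, isAffineOpen_top X⟩ =
        (J.ideal ⟨⊤, isAffineOpen_top Y⟩).map γ.appTop.hom := by simp
    rwa [h2] at h3
  · rw [Ideal.map_le_iff_le_comap]
    have h1 := Scheme.IdealSheafData.le_map_comap J γ ⟨⊤, isAffineOpen_top Y⟩
    rw [Scheme.IdealSheafData.ideal_map _ γ ⟨⊤, isAffineOpen_top Y⟩ (isAffineOpen_top X)] at h1
    exact h1

/-- pullback of ideal sheaves along an etale surjective morphism onto a quasi-compact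
quasi-separated scheme is injective. -/
lemma eq_of_comap_eq_of_etale_surjective {V' V : Scheme.{u}} (a : V' ⟶ V) [Etale a] [Surjective a]
    [CompactSpace V] [QuasiSeparatedSpace V] (K K' : V.IdealSheafData)
    (h : K.comap a = K'.comap a) : K = K' := by
  obtain ⟨O, hO, hsurj⟩ := ClosedDescent.exists_compact_open_surjective a
  haveI : CompactSpace (O : Scheme.{u}) := isCompact_iff_compactSpace.1 hO
  haveI : Surjective (O.ι ≫ a) := hsurj
  haveI : QuasiCompact (O.ι ≫ a) := inferInstance
  haveI : Flat (O.ι ≫ a) := inferInstance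
  rw [← Groth.Agent.Lib.Helper12.map_comap_eq (O.ι ≫ a) K,
    ← Groth.Agent.Lib.Helper12.map_comap_eq (O.ι ≫ a) K', Scheme.IdealSheafData.comap_comp,
    Scheme.IdealSheafData.comap_comp, h]

end Schemes

end Groth.Agent.Lib.Helper12.IdealEt
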