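import Mathlib
import Groth.Agent.Lib.Helper12IdealEt3a
import Groth.Agent.Lib.Helper12IdealDescent

/-!
# Helper11 IdGlueA: Zariski gluing of quasi-coherent ideal sheaves (`Scheme.IdealSheafData`)
-/

set_option autoImplicit false
universe u

open CategoryTheory CategoryTheory.Limits AlgebraicGeometry

namespace Groth.Agent.Lib.Helper11.IdGlue

open Scheme.IdealSheafData

variable {Y : Scheme.{u}}

/-- (L1) ideal sheaves agreeing on the members of a jointly surjective family of open immersions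
are equal -/
theorem ext_of_comap_family {ι : Type*} {U : ι → Scheme.{u}} (f : ∀ i, U i ⟶ Y)
    [∀ i, IsOpenImmersion (f i)] (hf : ∀ y : Y, ∃ i, y ∈ Set.range (f i))
    {J J' : Y.IdealSheafData} (h : ∀ i, J.comap (f i) = J'.comap (f i)) : J = J' := by
  refine Scheme.IdealSheafData.ext_of_iSup_eq_top
    (fun p : Σ i, (U i).affineOpens =>
      ⟨f p.1 ''ᵁ p.2.1, p.2.2.image_of_isOpenImmersion (f p.1)⟩) ?_ ?_
  · rw [eq_top_iff]
    intro y _
    obtain ⟨i, x, rfl⟩ := hf y
    obtain ⟨_, ⟨V, hV, rfl⟩, hxV, -⟩ :=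
      (U i).isBasis_affineOpens.exists_subset_of_mem_open (Set.mem_univ x) isOpen_univ
    rw [TopologicalSpace.Opens.mem_iSup]
    exact ⟨⟨i, ⟨V, hV⟩⟩, ⟨x, hxV, rfl⟩⟩
  · rintro ⟨i, V⟩
    have h1 := congrArg (fun I => I.ideal V) (h i)
    simp only [Scheme.IdealSheafData.ideal_comap_of_isOpenImmersion] at h1
    refine Ideal.comap_injective_of_surjective _ ?_ h1
    exact (ConcreteCategory.bijective_of_isIso ((f i).appIso V.1).inv).2

/-- comap along an open immersion commutes with finite infima -/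
theorem comap_iInf_of_isOpenImmersion {ι : Type*} [Finite ι] {V : Scheme.{u}}
    (I : ι → Y.IdealSheafData) (g : V ⟶ Y) [IsOpenImmersion g] :
    (⨅ k, I k).comap g = ⨅ k, (I k).comap g := by
  ext W : 2
  rw [Scheme.IdealSheafData.ideal_comap_of_isOpenImmersion, Scheme.IdealSheafData.ideal_iInf,
    Scheme.IdealSheafData.ideal_iInf]
  simp only [iInf_apply, Ideal.comap_iInf, Scheme.IdealSheafData.ideal_comap_of_isOpenImmersion]

/-- (L2) base change of a pushforward along an open immersion -/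
theorem comap_map_eq_ker {U V : Scheme.{u}} (f : U ⟶ Y) [QuasiCompact f] (g : V ⟶ Y)
    [IsOpenImmersion g] (K : U.IdealSheafData) :
    (K.map f).comap g = (pullback.snd (K.subschemeι ≫ f) g).ker := by
  ext W : 2
  rw [Scheme.IdealSheafData.ideal_comap_of_isOpenImmersion,
    Scheme.ker_ideal_of_isPullback_of_isOpenImmersion (K.subschemeι ≫ f)
      (pullback.snd (K.subschemeι ≫ f) g) (pullback.fst (K.subschemeι ≫ f) g) g
      (IsPullback.of_hasPullback (K.subschemeι ≫ f) g).flip W]
  rfl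

theorem comap_subschemeι_self {U : Scheme.{u}} (K : U.IdealSheafData) :
    K.comap K.subschemeι = ⊥ := by
  rw [Scheme.IdealSheafData.comap]
  haveI : IsIso (pullback.fst K.subschemeι K.subschemeι) := inferInstance
  exact Scheme.Hom.ker_eq_bot_of_isIso _

/-- the compatibility condition for a family of ideal sheaves on the members of a family of
morphisms to `Y` -/
def Compat {ι : Type*} {U : ι → Scheme.{u}} (f : ∀ i, U i ⟶ Y)
    (K : ∀ i, (U i).IdealSheafData) : Prop :=
  ∀ (T : Scheme.{u}) (i j : ι) (a : T ⟶ U i) (b : T ⟶ U j), a ≫ f i = b ≫ f j →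
    (K i).comap a = (K j).comap b

/-- (L3) gluing for a finite family of quasi-compact open immersions -/
theorem comap_iInf_map_eq {ι : Type*} [Finite ι] {U : ι → Scheme.{u}} (f : ∀ i, U i ⟶ Y)
    [∀ i, IsOpenImmersion (f i)] [∀ i, QuasiCompact (f i)]
    (K : ∀ i, (U i).IdealSheafData) (hK : Compat f K) (l : ι) :
    (⨅ k, (K k).map (f k)).comap (f l) = K l := by
  rw [comap_iInf_of_isOpenImmersion]
  apply le_antisymm
  · exact (iInf_le _ l).trans (Scheme.IdealSheafData.comap_map_le _ _)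
  · refine le_iInf fun k => ?_
    rw [comap_map_eq_ker, ← Scheme.IdealSheafData.map_bot,
      Scheme.IdealSheafData.le_map_iff_comap_le, le_bot_iff,
      ← hK _ k l (pullback.fst ((K k).subschemeι ≫ f k) (f l) ≫ (K k).subschemeι)
        (pullback.snd ((K k).subschemeι ≫ f k) (f l))
        (by rw [Category.assoc]; exact pullback.condition),
      Scheme.IdealSheafData.comap_comp, comap_subschemeι_self,
      Scheme.IdealSheafData.comap_bot]

theorem Compat.precomp {ι κ : Type*} {U : ι → Scheme.{u}} {f : ∀ i, U i ⟶ Y}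
    {K : ∀ i, (U i).IdealSheafData} (hK : Compat f K) (α : κ → ι) {V : κ → Scheme.{u}}
    (g : ∀ k, V k ⟶ U (α k)) :
    Compat (fun k => g k ≫ f (α k)) (fun k => (K (α k)).comap (g k)) := by
  intro T k k' a b hab
  rw [← Scheme.IdealSheafData.comap_comp, ← Scheme.IdealSheafData.comap_comp]
  exact hK T (α k) (α k') (a ≫ g k) (b ≫ g k') (by simpa only [Category.assoc] using hab)

/-- (L4) gluing over an affine base -/
theorem exists_glue_of_isAffine [IsAffine Y] {ι : Type*} {U : ι → Scheme.{u}} (f : ∀ i, U i ⟶ Y)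
    [∀ i, IsOpenImmersion (f i)] (hf : ∀ y : Y, ∃ i, y ∈ Set.range (f i))
    (K : ∀ i, (U i).IdealSheafData) (hK : Compat f K) :
    ∃ J : Y.IdealSheafData, ∀ i, J.comap (f i) = K i := by
  classical
  -- choose affine charts
  choose i x hx using hf
  have hV : ∀ y : Y, ∃ V : (U (i y)).affineOpens, x y ∈ V.1 := by
    intro y
    obtain ⟨_, ⟨V, hV, rfl⟩, hxV, -⟩ :=
      (U (i y)).isBasis_affineOpens.exists_subset_of_mem_open (Set.mem_univ (x y)) isOpen_univ
    exact ⟨⟨V, hV⟩, hxV⟩
  choose V hxV using hV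
  obtain ⟨t, ht⟩ := isCompact_univ.elim_finite_subcover
    (fun y : Y => ((f (i y) ''ᵁ (V y).1 : Y.Opens) : Set Y))
    (fun y => (f (i y) ''ᵁ (V y).1).2) (by
      intro y _
      rw [Set.mem_iUnion]
      exact ⟨y, x y, hxV y, hx y⟩)
  -- the finite family
  let g : ∀ k : t, ((V k.1).1 : Scheme.{u}) ⟶ Y := fun k => (V k.1).1.ι ≫ f (i k.1)
  haveI : ∀ k : t, IsAffine ((V k.1).1 : Scheme.{u}) := fun k => (V k.1).2
  haveI : ∀ k : t, IsOpenImmersion (g k) := fun k => inferInstance
  haveI : ∀ k : t, QuasiCompact (g k) := fun k => inferInstance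
  have hK' : Compat g (fun k : t => (K (i k.1)).comap (V k.1).1.ι) :=
    hK.precomp (fun k : t => i k.1) (fun k : t => (V k.1).1.ι)
  refine ⟨⨅ k : t, ((K (i k.1)).comap (V k.1).1.ι).map (g k), fun j => ?_⟩
  have hJ := comap_iInf_map_eq g _ hK'
  set J := ⨅ k : t, ((K (i k.1)).comap (V k.1).1.ι).map (g k) with hJdef
  -- compare on the cover of `U j` by the pullbacks
  refine ext_of_comap_family (fun k : t => pullback.fst (f j) (g k)) ?_ fun k => ?_
  · intro z
    have hz : f j z ∈ ⋃ y ∈ t, ((f (i y) ''ᵁ (V y).1 : Y.Opens) : Set Y) := ht (Set.mem_univ _)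
    rw [Set.mem_iUnion₂] at hz
    obtain ⟨y, hyt, w, hwV, hw⟩ := hz
    have hw' : g ⟨y, hyt⟩ ⟨w, hwV⟩ = f j z := by
      rw [← hw]
      rfl
    obtain ⟨q, hq, -⟩ := Scheme.Pullback.exists_preimage_pullback (f := f j) (g := g ⟨y, hyt⟩)
      z ⟨w, hwV⟩ hw'.symm
    exact ⟨⟨y, hyt⟩, q, hq⟩
  · rw [← Scheme.IdealSheafData.comap_comp, pullback.condition, Scheme.IdealSheafData.comap_comp,
      hJ k, ← Scheme.IdealSheafData.comap_comp]
    exact (hK _ j (i k.1) (pullback.fst (f j) (g k)) (pullback.snd (f j) (g k) ≫ (V k.1).1.ι)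
      (by rw [Category.assoc]; exact pullback.condition)).symm

end Groth.Agent.Lib.Helper11.IdGlue
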