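import Mathlib
import Groth.Agent.Lib.Helper11IdGlueA

/-!
# Helper11 IdGlueB: Zariski gluing of quasi-coherent ideal sheaves over a general base
-/

set_option autoImplicit false
universe u

open CategoryTheory CategoryTheory.Limits AlgebraicGeometry

namespace Groth.Agent.Lib.Helper11.IdGlue

open Scheme.IdealSheafData

variable {Y : Scheme.{u}}

theorem Compat.baseChange {ι : Type*} {U : ι → Scheme.{u}} {f : ∀ i, U i ⟶ Y}
    {K : ∀ i, (U i).IdealSheafData} (hK : Compat f K) {Y' : Scheme.{u}} (h : Y' ⟶ Y)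
    {U' : ι → Scheme.{u}} (f' : ∀ i, U' i ⟶ Y') (p : ∀ i, U' i ⟶ U i)
    (w : ∀ i, f' i ≫ h = p i ≫ f i) : Compat f' (fun i => (K i).comap (p i)) := by
  intro T i j a b hab
  rw [← Scheme.IdealSheafData.comap_comp, ← Scheme.IdealSheafData.comap_comp]
  refine hK T i j (a ≫ p i) (b ≫ p j) ?_
  rw [Category.assoc, ← w i, Category.assoc, ← w j, ← Category.assoc, hab, Category.assoc]

section general
variable {ι : Type*} {U : ι → Scheme.{u}} (f : ∀ i, U i ⟶ Y) [∀ i, IsOpenImmersion (f i)]
  (hf : ∀ y : Y, ∃ i, y ∈ Set.range (f i)) (K : ∀ i, (U i).IdealSheafData) (hK : Compat f K)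

include hf in
omit [∀ i, IsOpenImmersion (f i)] in
theorem exists_mem_range_fst (W : Y.Opens) (z : (W : Scheme.{u})) :
    ∃ i, z ∈ Set.range (pullback.fst W.ι (f i)) := by
  obtain ⟨i, x, hx⟩ := hf (W.ι z)
  obtain ⟨q, hq, -⟩ := Scheme.Pullback.exists_preimage_pullback (f := W.ι) (g := f i) z x hx.symm
  exact ⟨i, q, hq⟩

include hf hK in
/-- local solutions on affine opens -/
theorem exists_local (W : Y.affineOpens) :
    ∃ J : (W.1 : Scheme.{u}).IdealSheafData,
      ∀ i, J.comap (pullback.fst W.1.ι (f i)) = (K i).comap (pullback.snd W.1.ι (f i)) := by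
  haveI : IsAffine (W.1 : Scheme.{u}) := W.2
  exact exists_glue_of_isAffine (fun i => pullback.fst W.1.ι (f i))
    (exists_mem_range_fst f hf W.1) _
    (hK.baseChange W.1.ι _ (fun i => pullback.snd W.1.ι (f i)) fun i => pullback.condition)

/-- the local solution -/
noncomputable def JW (W : Y.affineOpens) : (W.1 : Scheme.{u}).IdealSheafData :=
  (exists_local f hf K hK W).choose

theorem JW_spec (W : Y.affineOpens) (i : ι) :
    (JW f hf K hK W).comap (pullback.fst W.1.ι (f i)) = (K i).comap (pullback.snd W.1.ι (f i)) :=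
  (exists_local f hf K hK W).choose_spec i

theorem JW_comap_homOfLE {W' W : Y.affineOpens} (h : W'.1 ≤ W.1) :
    (JW f hf K hK W).comap (Y.homOfLE h) = JW f hf K hK W' := by
  refine ext_of_comap_family (fun i => pullback.fst W'.1.ι (f i))
    (exists_mem_range_fst f hf W'.1) fun i => ?_
  rw [JW_spec]
  have hm : (pullback.fst W'.1.ι (f i) ≫ Y.homOfLE h) ≫ W.1.ι = pullback.snd W'.1.ι (f i) ≫ f i := by
    rw [Category.assoc, Scheme.homOfLE_ι, pullback.condition]
  have e1 : pullback.fst W'.1.ι (f i) ≫ Y.homOfLE h =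
      pullback.lift _ _ hm ≫ pullback.fst W.1.ι (f i) := (pullback.lift_fst _ _ hm).symm
  have e2 : pullback.snd W'.1.ι (f i) =
      pullback.lift _ _ hm ≫ pullback.snd W.1.ι (f i) := (pullback.lift_snd _ _ hm).symm
  rw [← Scheme.IdealSheafData.comap_comp, e1, Scheme.IdealSheafData.comap_comp, JW_spec,
    ← Scheme.IdealSheafData.comap_comp, ← e2]

end general

section general2
variable {ι : Type*} {U : ι → Scheme.{u}} (f : ∀ i, U i ⟶ Y) [∀ i, IsOpenImmersion (f i)]
  (hf : ∀ y : Y, ∃ i, y ∈ Set.range (f i)) (K : ∀ i, (U i).IdealSheafData) (hK : Compat f K)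

/-- the ideals of the glued ideal sheaf -/
noncomputable def glueIdeal (W : Y.affineOpens) : Ideal Γ(Y, W.1) :=
  ((JW f hf K hK W).ideal ⟨⊤, isAffineOpen_top _⟩).map W.1.topIso.hom.hom

theorem glueIdeal_map {W' W : Y.affineOpens} (h : W'.1 ≤ W.1) :
    (glueIdeal f hf K hK W).map (Y.presheaf.map (homOfLE h).op).hom = glueIdeal f hf K hK W' := by
  haveI : IsAffine (W.1 : Scheme.{u}) := W.2
  haveI : IsAffine (W'.1 : Scheme.{u}) := W'.2
  rw [glueIdeal, glueIdeal, ← JW_comap_homOfLE f hf K hK h,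
    Groth.Agent.Lib.Helper12.IdealEt.ideal_comap_top_of_isAffine, Ideal.map_map, Ideal.map_map]
  congr 1
  rw [← CommRingCat.hom_comp, ← CommRingCat.hom_comp]
  congr 1
  rw [← Scheme.Hom.resLE_id, Scheme.Hom.appTop, Scheme.Hom.resLE_app_top, Category.assoc,
    Category.assoc, Iso.inv_hom_id, Category.comp_id, Scheme.Hom.appLE, Scheme.Hom.id_app]
  exact congrArg (W.1.topIso.hom ≫ ·) (Category.id_comp _).symm

/-- the glued ideal sheaf -/
noncomputable def glue : Y.IdealSheafData where
  ideal W := glueIdeal f hf K hK W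
  map_ideal_basicOpen W s := glueIdeal_map f hf K hK (W' := Y.affineBasicOpen s) (Y.basicOpen_le s)

theorem glue_comap_ι (W : Y.affineOpens) : (glue f hf K hK).comap W.1.ι = JW f hf K hK W := by
  haveI : IsAffine (W.1 : Scheme.{u}) := W.2
  apply Scheme.IdealSheafData.ext_of_isAffine
  rw [Groth.Agent.Lib.Helper12.IdealEt.ideal_comap_ι_top]
  change Ideal.map _ (glueIdeal f hf K hK W) = _
  rw [glueIdeal, Ideal.map_map, ← CommRingCat.hom_comp, Iso.hom_inv_id]
  exact Ideal.map_id _

theorem glue_comap (i : ι) : (glue f hf K hK).comap (f i) = K i := by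
  refine ext_of_comap_family (fun W : Y.affineOpens => pullback.snd W.1.ι (f i)) ?_ fun W => ?_
  · intro x
    obtain ⟨_, ⟨W, hW, rfl⟩, hxW, -⟩ :=
      Y.isBasis_affineOpens.exists_subset_of_mem_open (Set.mem_univ (f i x)) isOpen_univ
    obtain ⟨q, -, hq⟩ := Scheme.Pullback.exists_preimage_pullback
      (f := Scheme.Opens.ι W) (g := f i) (⟨f i x, hxW⟩ : (W : Y.Opens)) x rfl
    exact ⟨⟨W, hW⟩, q, hq⟩
  · rw [← Scheme.IdealSheafData.comap_comp, ← pullback.condition,
      Scheme.IdealSheafData.comap_comp, glue_comap_ι, JW_spec]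

include hf hK in
/-- **Zariski gluing of quasi-coherent ideal sheaves.** -/
theorem existsUnique_glue : ∃! J : Y.IdealSheafData, ∀ i, J.comap (f i) = K i := by
  refine ⟨glue f hf K hK, glue_comap f hf K hK, fun J' hJ' => ?_⟩
  exact ext_of_comap_family f hf fun i => by rw [hJ', glue_comap]

end general2

end Groth.Agent.Lib.Helper11.IdGlue
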