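import Mathlib
import Groth.Prelude.Def_W4c5stacksedinertiaGpd

set_option autoImplicit false

namespace Groth.Agent.Lib.Helper11Inertia

open W4c5stacksedinertia

/-- the tautological iso between the transported presentation and the group -/
noncomputable def ofEquiv (G : Type) [Group G] [Finite G] : (FinGrp.of G).carrier ≃* G :=
  letI := (Nat.equivFinOfCardPos (α := G) Nat.card_pos.ne').symm.group
  (Nat.equivFinOfCardPos (α := G) Nat.card_pos.ne').symm.mulEquiv

lemma rep_equiv (G : Type) [Group G] [Finite G] : Nonempty ((Idx.of G).rep ≃* G) := by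
  have h1 : Quotient.mk FinGrp.setoid (Quotient.out (s := FinGrp.setoid) (Idx.of G)) =
      Quotient.mk FinGrp.setoid (FinGrp.of G) := Quotient.out_eq _
  obtain ⟨e⟩ := Quotient.exact h1
  exact ⟨e.trans (ofEquiv G)⟩

lemma of_eq_of_equiv {G H : Type} [Group G] [Finite G] [Group H] [Finite H] (e : G ≃* H) :
    Idx.of G = Idx.of H := by
  apply Quotient.sound
  exact ⟨((ofEquiv G).trans e).trans (ofEquiv H).symm⟩

lemma of_rep (i : Idx) : Idx.of i.rep = i := by
  have h : Quotient.mk FinGrp.setoid (Quotient.out (s := FinGrp.setoid) i) = i := Quotient.out_eq _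
  conv_rhs => rw [← h]
  apply Quotient.sound
  exact ⟨ofEquiv _⟩

lemma cl_eq_of_equiv {G H : Type} [Group G] [Finite G] [Group H] [Finite H] (e : G ≃* H) :
    cl G = cl H := by
  unfold cl
  rw [of_eq_of_equiv e]

lemma card_center_eq_of_equiv {G H : Type} [Group G] [Group H] (e : G ≃* H) :
    Nat.card (Subgroup.center G) = Nat.card (Subgroup.center H) := by
  apply Nat.card_congr
  exact (Subsemigroup.centerCongr e).toEquiv

lemma centerCard_of (G : Type) [Group G] [Finite G] :
    (Idx.of G).centerCard = Nat.card (Subgroup.center G) := by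
  obtain ⟨e⟩ := rep_equiv G
  exact card_center_eq_of_equiv e

lemma card_of (G : Type) [Group G] [Finite G] : (Idx.of G).card = Nat.card G := by
  obtain ⟨e⟩ := rep_equiv G
  exact Nat.card_congr e.toEquiv


section action
variable (G : Type) [Group G] (r : ℕ)

instance instFiniteCommTuple [Finite G] : Finite (CommTuple G r) := by
  unfold CommTuple; infer_instance

/-- conjugating a commuting tuple -/
def conjT (g : G) (s : CommTuple G r) : CommTuple G r :=
  ⟨fun i => g * s.1 i * g⁻¹, by
    constructor
    · intro i j hij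
      apply s.2.1
      have h1 : g * s.1 i * g⁻¹ = g * s.1 j * g⁻¹ := hij
      exact mul_left_cancel (mul_right_cancel h1)
    · intro i j
      have h := s.2.2 i j
      show (g * s.1 i * g⁻¹) * (g * s.1 j * g⁻¹) = (g * s.1 j * g⁻¹) * (g * s.1 i * g⁻¹)
      have h' : s.1 i * s.1 j = s.1 j * s.1 i := h
      calc (g * s.1 i * g⁻¹) * (g * s.1 j * g⁻¹) = g * (s.1 i * s.1 j) * g⁻¹ := by group
        _ = g * (s.1 j * s.1 i) * g⁻¹ := by rw [h']
        _ = _ := by group⟩

instance instMulActionCommTuple : MulAction G (CommTuple G r) where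
  smul := conjT G r
  one_smul := by
    intro s
    apply Subtype.ext
    funext i
    show (1 : G) * s.1 i * (1 : G)⁻¹ = s.1 i
    group
  mul_smul := by
    intro g h s
    apply Subtype.ext
    funext i
    show (g * h) * s.1 i * (g * h)⁻¹ = g * (h * s.1 i * h⁻¹) * g⁻¹
    group

lemma smul_val (g : G) (s : CommTuple G r) (i : Fin r) : (g • s).1 i = g * s.1 i * g⁻¹ := rfl

/-- the common centralizer of a tuple -/
def cz (s : CommTuple G r) : Subgroup G := Subgroup.centralizer (Set.range s.1)

variable {G r}

lemma mem_cz (s : CommTuple G r) (g : G) : g ∈ cz G r s ↔ ∀ i, g * s.1 i = s.1 i * g := by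
  unfold cz
  rw [Subgroup.mem_centralizer_iff]
  constructor
  · intro h i
    exact (h (s.1 i) ⟨i, rfl⟩).symm
  · rintro h _ ⟨i, rfl⟩
    exact (h i).symm

lemma stabilizer_eq (s : CommTuple G r) : MulAction.stabilizer G s = cz G r s := by
  ext g
  rw [MulAction.mem_stabilizer_iff, mem_cz]
  constructor
  · intro h i
    have := congrArg (fun t : CommTuple G r => t.1 i) h
    simp only [smul_val] at this
    calc g * s.1 i = g * s.1 i * g⁻¹ * g := by group
      _ = s.1 i * g := by rw [this]
  · intro h
    apply Subtype.ext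
    funext i
    rw [smul_val, h i]
    group

lemma setoid_iff (s t : CommTuple G r) :
    (CommTuple.setoid G r).r s t ↔ t ∈ MulAction.orbit G s := by
  constructor
  · rintro ⟨g, hg⟩
    refine ⟨g, ?_⟩
    apply Subtype.ext
    funext i
    exact hg i
  · rintro ⟨g, hg⟩
    refine ⟨g, fun i => ?_⟩
    have := congrArg (fun t : CommTuple G r => t.1 i) hg
    exact this

lemma cz_smul (g : G) (s : CommTuple G r) :
    cz G r (g • s) = (cz G r s).map (MulAut.conj g).toMonoidHom := by
  ext x
  rw [mem_cz, Subgroup.mem_map]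
  constructor
  · intro h
    refine ⟨g⁻¹ * x * g, ?_, ?_⟩
    · rw [mem_cz]
      intro i
      have := h i
      rw [smul_val] at this
      calc g⁻¹ * x * g * s.1 i = g⁻¹ * (x * (g * s.1 i * g⁻¹)) * g := by group
        _ = g⁻¹ * (g * s.1 i * g⁻¹ * x) * g := by rw [this]
        _ = _ := by group
    · simp [MulAut.conj_apply]
      group
  · rintro ⟨y, hy, rfl⟩
    rw [mem_cz] at hy
    intro i
    rw [smul_val]
    simp only [MulEquiv.toMonoidHom_eq_coe, MonoidHom.coe_coe, MulAut.conj_apply]
    calc g * y * g⁻¹ * (g * s.1 i * g⁻¹) = g * (y * s.1 i) * g⁻¹ := by group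
      _ = g * (s.1 i * y) * g⁻¹ := by rw [hy i]
      _ = _ := by group

/-- centralizers of conjugate tuples are isomorphic -/
noncomputable def czSmulEquiv (g : G) (s : CommTuple G r) : cz G r s ≃* cz G r (g • s) :=
  ((cz G r s).equivMapOfInjective (MulAut.conj g).toMonoidHom (MulAut.conj g).injective).trans
    (MulEquiv.subgroupCongr (cz_smul g s).symm)

end action


section avg
variable (G : Type) [Group G] [Finite G] (r : ℕ)

/-- the weighted class of a subgroup -/
noncomputable def psi (L : Subgroup G) : K := (Nat.card L : ℚ) • cl L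

/-- total weight of all commuting tuples -/
noncomputable def w : K := ∑ᶠ s : CommTuple G r, psi G (cz G r s)

variable {G r}

lemma psi_smul (g : G) (s : CommTuple G r) : psi G (cz G r (g • s)) = psi G (cz G r s) := by
  unfold psi
  rw [cl_eq_of_equiv (czSmulEquiv g s), Nat.card_congr (czSmulEquiv g s).toEquiv]

lemma cl_cz_smul (g : G) (s : CommTuple G r) : cl (cz G r (g • s)) = cl (cz G r s) :=
  (cl_eq_of_equiv (czSmulEquiv g s)).symm

lemma ncard_orbit_mul (s : CommTuple G r) :
    (MulAction.orbit G s).ncard * Nat.card (cz G r s) = Nat.card G := by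
  rw [← MulAction.index_stabilizer, stabilizer_eq]
  exact Subgroup.index_mul_card _

variable (G r)

theorem inertiaROf_eq : inertiaROf r G = (Nat.card G : ℚ)⁻¹ • w G r := by
  classical
  letI : Fintype (CommTuple G r) := Fintype.ofFinite _
  letI : Fintype (Quotient (CommTuple.setoid G r)) := Fintype.ofFinite _
  have hG : (Nat.card G : ℚ) ≠ 0 := by
    exact_mod_cast (Nat.card_pos (α := G)).ne'
  unfold inertiaROf w
  change (∑ᶠ O : Quotient (CommTuple.setoid G r),
    cl (cz G r (Quotient.out (s := CommTuple.setoid G r) O))) = _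
  rw [finsum_eq_sum_of_fintype, finsum_eq_sum_of_fintype]
  have key : ∀ O : Quotient (CommTuple.setoid G r),
      (∑ s : {s : CommTuple G r // Quotient.mk (CommTuple.setoid G r) s = O}, psi G (cz G r s.1)) =
        (Nat.card G : ℚ) • cl (cz G r (Quotient.out (s := CommTuple.setoid G r) O)) := by
    intro O
    set s0 := Quotient.out (s := CommTuple.setoid G r) O with hs0
    have hO : Quotient.mk (CommTuple.setoid G r) s0 = O := Quotient.out_eq O
    have hmem : ∀ s : CommTuple G r, Quotient.mk (CommTuple.setoid G r) s = O ↔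
        s ∈ MulAction.orbit G s0 := by
      intro s
      rw [← hO, ← setoid_iff]
      constructor
      · intro h
        exact (CommTuple.setoid G r).symm (Quotient.exact h)
      · intro h
        exact Quotient.sound ((CommTuple.setoid G r).symm h)
    have hval : ∀ s : {s : CommTuple G r // Quotient.mk (CommTuple.setoid G r) s = O},
        psi G (cz G r s.1) = psi G (cz G r s0) := by
      rintro ⟨s, hs⟩
      obtain ⟨g, rfl⟩ := (hmem s).mp hs
      exact psi_smul g s0
    rw [Finset.sum_congr rfl (fun s _ => hval s), Finset.sum_const, Finset.card_univ]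
    have hcard : Fintype.card {s : CommTuple G r // Quotient.mk (CommTuple.setoid G r) s = O} =
        (MulAction.orbit G s0).ncard := by
      rw [← Nat.card_eq_fintype_card, ← Nat.card_coe_set_eq]
      apply Nat.card_congr
      exact Equiv.subtypeEquivRight hmem
    rw [hcard]
    unfold psi
    rw [← Nat.cast_smul_eq_nsmul ℚ, smul_smul, ← Nat.cast_mul, ncard_orbit_mul]
  have e1 : (∑ s : CommTuple G r, psi G (cz G r s)) =
      ∑ O : Quotient (CommTuple.setoid G r), (Nat.card G : ℚ) •
        cl (cz G r (Quotient.out (s := CommTuple.setoid G r) O)) := by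
    rw [← Fintype.sum_fiberwise (fun s : CommTuple G r => Quotient.mk (CommTuple.setoid G r) s)
      (fun s => psi G (cz G r s))]
    exact Finset.sum_congr rfl (fun O _ => key O)
  rw [e1, ← Finset.smul_sum, smul_smul, inv_mul_cancel₀ hG, one_smul]

end avg


section iso
variable {G H : Type} [Group G] [Group H]

/-- transport tuples along an isomorphism -/
def mapT (e : G ≃* H) (r : ℕ) (s : CommTuple G r) : CommTuple H r :=
  ⟨fun i => e (s.1 i), by
    constructor
    · intro i j hij
      exact s.2.1 (e.injective hij)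
    · intro i j
      have h : s.1 i * s.1 j = s.1 j * s.1 i := s.2.2 i j
      show e (s.1 i) * e (s.1 j) = e (s.1 j) * e (s.1 i)
      rw [← map_mul, ← map_mul, h]⟩

lemma mapT_val (e : G ≃* H) (r : ℕ) (s : CommTuple G r) (i : Fin r) :
    (mapT e r s).1 i = e (s.1 i) := rfl

/-- transport of tuples is a bijection -/
def mapTEquiv (e : G ≃* H) (r : ℕ) : CommTuple G r ≃ CommTuple H r where
  toFun := mapT e r
  invFun := mapT e.symm r
  left_inv := by
    intro s
    apply Subtype.ext
    funext i
    simp [mapT_val]
  right_inv := by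
    intro s
    apply Subtype.ext
    funext i
    simp [mapT_val]

lemma cz_mapT (e : G ≃* H) (r : ℕ) (s : CommTuple G r) :
    cz H r (mapT e r s) = (cz G r s).map e.toMonoidHom := by
  ext x
  rw [mem_cz, Subgroup.mem_map]
  constructor
  · intro h
    refine ⟨e.symm x, ?_, by simp⟩
    rw [mem_cz]
    intro i
    apply e.injective
    have := h i
    rw [mapT_val] at this
    rw [map_mul, map_mul, MulEquiv.apply_symm_apply]
    exact this
  · rintro ⟨y, hy, rfl⟩
    rw [mem_cz] at hy
    intro i
    rw [mapT_val]
    show e y * e (s.1 i) = e (s.1 i) * e y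
    rw [← map_mul, ← map_mul, hy i]

/-- centralizers correspond under an isomorphism -/
noncomputable def czMapEquiv (e : G ≃* H) (r : ℕ) (s : CommTuple G r) :
    cz G r s ≃* cz H r (mapT e r s) :=
  ((cz G r s).equivMapOfInjective e.toMonoidHom e.injective).trans
    (MulEquiv.subgroupCongr (cz_mapT e r s).symm)

variable [Finite G] [Finite H]

lemma psi_mapT (e : G ≃* H) (r : ℕ) (s : CommTuple G r) :
    psi H (cz H r (mapT e r s)) = psi G (cz G r s) := by
  unfold psi
  rw [cl_eq_of_equiv (czMapEquiv e r s), Nat.card_congr (czMapEquiv e r s).toEquiv]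

lemma w_congr (e : G ≃* H) (r : ℕ) : w G r = w H r := by
  unfold w
  rw [← finsum_comp_equiv (mapTEquiv e r)]
  apply finsum_congr
  intro s
  exact (psi_mapT e r s).symm

lemma inertiaROf_congr (e : G ≃* H) (r : ℕ) : inertiaROf r G = inertiaROf r H := by
  rw [inertiaROf_eq, inertiaROf_eq, w_congr e r, Nat.card_congr e.toEquiv]

lemma inertiaR_cl (G : Type) [Group G] [Finite G] (r : ℕ) : inertiaR r (cl G) = inertiaROf r G := by
  unfold inertiaR cl
  rw [Finsupp.linearCombination_single, one_smul]
  obtain ⟨e⟩ := rep_equiv G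
  exact inertiaROf_congr e r

lemma inertiaR_single (i : Idx) (r : ℕ) :
    inertiaR r (Finsupp.single i 1) = inertiaROf r i.rep := by
  unfold inertiaR
  rw [Finsupp.linearCombination_single, one_smul]

end iso

end Groth.Agent.Lib.Helper11Inertia
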