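import Mathlib
import Groth.Agent.Lib.Helper11InertiaA

set_option autoImplicit false

namespace Groth.Agent.Lib.Helper11Inertia

open W4c5stacksedinertia

section one
variable {G : Type} [Group G]

/-- singleton tuples -/
def singleT (L : Subgroup G) (t : L) : CommTuple L 1 :=
  ⟨fun _ => t, by
    constructor
    · intro i j _
      exact Subsingleton.elim i j
    · intro i j
      exact Commute.refl t⟩

/-- 1-tuples of a subgroup are its elements -/
def oneTEquiv (L : Subgroup G) : CommTuple L 1 ≃ L where
  toFun s := s.1 0
  invFun := singleT L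
  left_inv := by
    intro s
    apply Subtype.ext
    funext i
    have : i = 0 := Subsingleton.elim i 0
    subst this
    rfl
  right_inv := by
    intro t
    rfl

lemma cz_singleT_map (L : Subgroup G) (t : L) :
    (cz L 1 (singleT L t)).map L.subtype = L ⊓ Subgroup.centralizer {(t : G)} := by
  ext x
  rw [Subgroup.mem_map, Subgroup.mem_inf, Subgroup.mem_centralizer_iff]
  constructor
  · rintro ⟨y, hy, rfl⟩
    rw [mem_cz] at hy
    refine ⟨y.2, ?_⟩
    intro h hh
    rw [Set.mem_singleton_iff] at hh
    subst hh
    have := hy 0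
    have h2 : (y * t : L) = t * y := this
    have h3 := congrArg (Subtype.val) h2
    simp only [Subgroup.coe_mul] at h3
    exact h3.symm
  · rintro ⟨hx, hc⟩
    refine ⟨⟨x, hx⟩, ?_, rfl⟩
    rw [mem_cz]
    intro i
    apply Subtype.ext
    show x * (t : G) = (t : G) * x
    exact (hc (t : G) rfl).symm

/-- the centralizer of an element inside a subgroup, as a subgroup of the ambient group -/
noncomputable def czSingleEquiv (L : Subgroup G) (t : L) :
    cz L 1 (singleT L t) ≃* ↥(L ⊓ Subgroup.centralizer {(t : G)}) :=
  ((cz L 1 (singleT L t)).equivMapOfInjective L.subtype L.subtype_injective).trans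
    (MulEquiv.subgroupCongr (cz_singleT_map L t))

variable [Finite G]

lemma psi_singleT (L : Subgroup G) (t : L) :
    psi L (cz L 1 (singleT L t)) = psi G (L ⊓ Subgroup.centralizer {(t : G)}) := by
  unfold psi
  rw [cl_eq_of_equiv (czSingleEquiv L t), Nat.card_congr (czSingleEquiv L t).toEquiv]

lemma w_one (L : Subgroup G) :
    w L 1 = ∑ᶠ t : L, psi G (L ⊓ Subgroup.centralizer {(t : G)}) := by
  unfold w
  rw [← finsum_comp_equiv (oneTEquiv L).symm]
  apply finsum_congr
  intro t
  exact psi_singleT L t

end one


section snoc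
variable {G : Type} [Group G] {r : ℕ}

/-- forget the last entry -/
def initT (s : CommTuple G (r + 1)) : CommTuple G r :=
  ⟨fun i => s.1 i.castSucc, by
    constructor
    · intro i j hij
      exact Fin.castSucc_injective _ (s.2.1 hij)
    · intro i j
      exact s.2.2 _ _⟩

lemma initT_val (s : CommTuple G (r + 1)) (i : Fin r) : (initT s).1 i = s.1 i.castSucc := rfl

/-- append an entry -/
def snocT (s : CommTuple G r) (t : G) (h1 : t ∈ cz G r s) (h2 : t ∉ Set.range s.1) :
    CommTuple G (r + 1) :=
  ⟨Fin.snoc s.1 t, by
    rw [mem_cz] at h1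
    constructor
    · intro i j hij
      induction i using Fin.lastCases with
      | last =>
        induction j using Fin.lastCases with
        | last => rfl
        | cast j =>
          rw [Fin.snoc_last, Fin.snoc_castSucc] at hij
          exact absurd ⟨j, hij.symm⟩ h2
      | cast i =>
        induction j using Fin.lastCases with
        | last =>
          rw [Fin.snoc_last, Fin.snoc_castSucc] at hij
          exact absurd ⟨i, hij⟩ h2
        | cast j =>
          rw [Fin.snoc_castSucc, Fin.snoc_castSucc] at hij
          rw [s.2.1 hij]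
    · intro i j
      induction i using Fin.lastCases with
      | last =>
        induction j using Fin.lastCases with
        | last => exact Commute.refl _
        | cast j =>
          rw [Fin.snoc_last, Fin.snoc_castSucc]
          exact h1 j
      | cast i =>
        induction j using Fin.lastCases with
        | last =>
          rw [Fin.snoc_last, Fin.snoc_castSucc]
          exact (h1 i).symm
        | cast j =>
          rw [Fin.snoc_castSucc, Fin.snoc_castSucc]
          exact s.2.2 i j⟩

lemma initT_snocT (s : CommTuple G r) (t : G) (h1 : t ∈ cz G r s) (h2 : t ∉ Set.range s.1) :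
    initT (snocT s t h1 h2) = s := by
  apply Subtype.ext
  funext i
  rw [initT_val]
  show Fin.snoc (α := fun _ => G) s.1 t i.castSucc = s.1 i
  rw [Fin.snoc_castSucc]

lemma snocT_last (s : CommTuple G r) (t : G) (h1 : t ∈ cz G r s) (h2 : t ∉ Set.range s.1) :
    (snocT s t h1 h2).1 (Fin.last r) = t := by
  show Fin.snoc (α := fun _ => G) s.1 t (Fin.last r) = t
  rw [Fin.snoc_last]

lemma last_mem_cz (s : CommTuple G (r + 1)) : s.1 (Fin.last r) ∈ cz G r (initT s) := by
  rw [mem_cz]
  intro i
  exact s.2.2 _ _

lemma last_notMem_range (s : CommTuple G (r + 1)) : s.1 (Fin.last r) ∉ Set.range (initT s).1 := by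
  rintro ⟨i, hi⟩
  rw [initT_val] at hi
  have := s.2.1 hi
  exact (Fin.castSucc_lt_last i).ne this

lemma cz_succ (s : CommTuple G (r + 1)) :
    cz G (r + 1) s = cz G r (initT s) ⊓ Subgroup.centralizer {s.1 (Fin.last r)} := by
  ext x
  rw [Subgroup.mem_inf, mem_cz, mem_cz, Subgroup.mem_centralizer_iff, Fin.forall_fin_succ']
  constructor
  · rintro ⟨h1, h2⟩
    refine ⟨h1, ?_⟩
    intro h hh
    rw [Set.mem_singleton_iff] at hh
    subst hh
    exact h2.symm
  · rintro ⟨h1, h2⟩
    exact ⟨h1, (h2 _ rfl).symm⟩

lemma pair_injective :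
    Function.Injective (fun s : CommTuple G (r + 1) => (initT s, s.1 (Fin.last r))) := by
  intro s s' h
  have h1 : initT s = initT s' := congrArg Prod.fst h
  have h2 : s.1 (Fin.last r) = s'.1 (Fin.last r) := congrArg Prod.snd h
  apply Subtype.ext
  funext i
  induction i using Fin.lastCases with
  | last => exact h2
  | cast i =>
    have := congrArg (fun t : CommTuple G r => t.1 i) h1
    exact this

lemma mem_cz_of_mem_range (s : CommTuple G r) (t : G) (ht : t ∈ Set.range s.1) :
    t ∈ cz G r s := by
  obtain ⟨i, rfl⟩ := ht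
  rw [mem_cz]
  intro j
  exact s.2.2 i j

lemma cz_inf_of_mem_range (s : CommTuple G r) (t : G) (ht : t ∈ Set.range s.1) :
    cz G r s ⊓ Subgroup.centralizer {t} = cz G r s := by
  apply inf_eq_left.mpr
  intro x hx
  rw [Subgroup.mem_centralizer_iff]
  intro h hh
  rw [Set.mem_singleton_iff] at hh
  subst hh
  obtain ⟨i, rfl⟩ := ht
  rw [mem_cz] at hx
  exact (hx i).symm

end snoc


section B0
variable (G : Type) [Group G] [Finite G] (r : ℕ)

theorem sum_w_cz :
    ∑ᶠ s : CommTuple G r, w (cz G r s) 1 = w G (r + 1) + (r : ℚ) • w G r := by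
  classical
  letI : Fintype G := Fintype.ofFinite _
  letI : Fintype (CommTuple G r) := Fintype.ofFinite _
  letI : Fintype (CommTuple G (r + 1)) := Fintype.ofFinite _
  -- the three pieces
  let A : CommTuple G r → G → K := fun s t => if t ∈ Set.range s.1 then psi G (cz G r s) else 0
  let B : CommTuple G r × G → K := fun p =>
    if p.2 ∈ cz G r p.1 ∧ p.2 ∉ Set.range p.1.1 then
      psi G (cz G r p.1 ⊓ Subgroup.centralizer {p.2}) else 0
  have hw : ∀ s : CommTuple G r, w (cz G r s) 1 = ∑ t : G, (A s t + B (s, t)) := by
    intro s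
    rw [w_one]
    letI : Fintype (cz G r s) := Fintype.ofFinite _
    rw [finsum_eq_sum_of_fintype]
    rw [← Finset.sum_subtype (Finset.univ.filter (fun t : G => t ∈ cz G r s))
      (fun x => by simp) (fun t => psi G (cz G r s ⊓ Subgroup.centralizer {t}))]
    rw [Finset.sum_filter]
    apply Finset.sum_congr rfl
    intro t _
    by_cases ht : t ∈ Set.range s.1
    · have h1 : t ∈ cz G r s := mem_cz_of_mem_range s t ht
      simp only [A, B, ht, h1, if_true, not_true, and_false, if_false, add_zero]
      rw [cz_inf_of_mem_range s t ht]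
    · by_cases h1 : t ∈ cz G r s
      · simp only [A, B, ht, h1, if_true, if_false, not_false_iff, and_self, zero_add]
      · simp only [A, B, ht, h1, if_false, false_and, add_zero]
  have hA : ∀ s : CommTuple G r, ∑ t : G, A s t = (r : ℚ) • psi G (cz G r s) := by
    intro s
    simp only [A]
    rw [← Finset.sum_filter, Finset.sum_const]
    have : (Finset.univ.filter (fun t : G => t ∈ Set.range s.1)) = Finset.univ.image s.1 := by
      ext t
      simp
    rw [this, Finset.card_image_of_injective _ s.2.1, Finset.card_univ, Fintype.card_fin,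
      Nat.cast_smul_eq_nsmul]
  have hB : ∑ p : CommTuple G r × G, B p = ∑ s' : CommTuple G (r + 1), psi G (cz G (r + 1) s') := by
    symm
    apply Fintype.sum_of_injective (fun s : CommTuple G (r + 1) => (initT s, s.1 (Fin.last r)))
      pair_injective
    · rintro ⟨s, t⟩ hst
      simp only [B]
      rw [if_neg]
      rintro ⟨h1, h2⟩
      apply hst
      refine ⟨snocT s t h1 h2, ?_⟩
      simp only [initT_snocT, snocT_last]
    · intro s'
      simp only [B]
      rw [if_pos ⟨last_mem_cz s', last_notMem_range s'⟩, cz_succ]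
  rw [finsum_eq_sum_of_fintype]
  rw [Finset.sum_congr rfl (fun s _ => hw s)]
  simp only [Finset.sum_add_distrib]
  rw [Finset.sum_congr rfl (fun s _ => hA s), ← Finset.smul_sum, ← Fintype.sum_prod_type' , hB]
  unfold w
  rw [finsum_eq_sum_of_fintype, finsum_eq_sum_of_fintype, add_comm]

end B0


section opid

theorem inertia_inertiaROf (G : Type) [Group G] [Finite G] (r : ℕ) :
    inertia (inertiaROf r G) = inertiaROf (r + 1) G + (r : ℚ) • inertiaROf r G := by
  classical
  letI : Fintype (CommTuple G r) := Fintype.ofFinite _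
  have hG : (Nat.card G : ℚ) ≠ 0 := by
    exact_mod_cast (Nat.card_pos (α := G)).ne'
  have h1 : inertia (w G r) = ∑ s : CommTuple G r, w (cz G r s) 1 := by
    unfold w
    rw [finsum_eq_sum_of_fintype, map_sum]
    apply Finset.sum_congr rfl
    intro s _
    have hc : (Nat.card (cz G r s) : ℚ) ≠ 0 := by
      exact_mod_cast (Nat.card_pos (α := cz G r s)).ne'
    show inertia (psi G (cz G r s)) = _
    unfold psi
    rw [map_smul]
    show (Nat.card (cz G r s) : ℚ) • inertiaR 1 (cl (cz G r s)) = _
    rw [inertiaR_cl, inertiaROf_eq, smul_smul, mul_inv_cancel₀ hc, one_smul]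
    rfl
  rw [inertiaROf_eq G r, map_smul, h1, ← finsum_eq_sum_of_fintype, sum_w_cz, inertiaROf_eq G (r + 1),
    smul_add, smul_comm]

theorem inertia_comp_inertiaR (r : ℕ) (v : K) :
    inertia (inertiaR r v) = inertiaR (r + 1) v + (r : ℚ) • inertiaR r v := by
  have : inertia ∘ₗ inertiaR r = inertiaR (r + 1) + (r : ℚ) • inertiaR r := by
    apply Finsupp.lhom_ext
    intro i b
    have hs : (Finsupp.single i b : K) = b • Finsupp.single i 1 := by
      rw [Finsupp.smul_single, smul_eq_mul, mul_one]
    rw [hs]
    simp only [LinearMap.comp_apply, LinearMap.add_apply, LinearMap.smul_apply, map_smul,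
      inertiaR_single]
    rw [inertia_inertiaROf, smul_add]
  exact LinearMap.congr_fun this v

end opid

end Groth.Agent.Lib.Helper11Inertia
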