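import Mathlib
import Groth.Agent.Lib.Helper11InertiaB

set_option autoImplicit false

namespace Groth.Agent.Lib.Helper11Inertia

open W4c5stacksedinertia

section tri
variable {G : Type} [Group G] {r : ℕ}

/-- all entries central -/
def IsCentralT (s : CommTuple G r) : Prop := ∀ i, s.1 i ∈ Subgroup.center G

lemma cz_eq_top_of_central (s : CommTuple G r) (h : IsCentralT s) : cz G r s = ⊤ := by
  rw [eq_top_iff]
  intro x _
  rw [mem_cz]
  intro i
  exact ((Subgroup.mem_center_iff.mp (h i)) x)

/-- central tuples are embeddings into the centre -/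
def centralEquiv : {s : CommTuple G r // IsCentralT s} ≃ (Fin r ↪ Subgroup.center G) where
  toFun s := ⟨fun i => ⟨s.1.1 i, s.2 i⟩, by
    intro i j hij
    have : s.1.1 i = s.1.1 j := congrArg Subtype.val hij
    exact s.1.2.1 this⟩
  invFun f := ⟨⟨fun i => (f i : G), by
    constructor
    · intro i j hij
      exact f.injective (Subtype.ext hij)
    · intro i j
      exact ((Subgroup.mem_center_iff.mp (f i).2) (f j)).symm⟩, fun i => (f i).2⟩
  left_inv := by
    intro s
    rfl
  right_inv := by
    intro f
    rfl

lemma card_center_lt [Finite G] (s : CommTuple G r) (h : ¬ IsCentralT s) :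
    Nat.card (Subgroup.center G) < Nat.card (Subgroup.center (cz G r s)) := by
  classical
  letI : Fintype (Subgroup.center G) := Fintype.ofFinite _
  letI : Fintype (Subgroup.center (cz G r s)) := Fintype.ofFinite _
  rw [Nat.card_eq_fintype_card, Nat.card_eq_fintype_card]
  unfold IsCentralT at h
  push Not at h
  obtain ⟨i, hi⟩ := h
  have hmem : ∀ g : Subgroup.center G, (g : G) ∈ cz G r s := by
    intro g
    rw [mem_cz]
    intro j
    exact ((Subgroup.mem_center_iff.mp g.2) (s.1 j)).symm
  let f : Subgroup.center G → Subgroup.center (cz G r s) := fun g =>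
    ⟨⟨g.1, hmem g⟩, by
      rw [Subgroup.mem_center_iff]
      intro x
      apply Subtype.ext
      show (x : G) * g.1 = g.1 * (x : G)
      exact (Subgroup.mem_center_iff.mp g.2) x⟩
  have hf : Function.Injective f := by
    intro a b hab
    apply Subtype.ext
    have := congrArg (fun t : Subgroup.center (cz G r s) => ((t : cz G r s) : G)) hab
    exact this
  have hsi : s.1 i ∈ cz G r s := mem_cz_of_mem_range s _ ⟨i, rfl⟩
  let b : Subgroup.center (cz G r s) := ⟨⟨s.1 i, hsi⟩, by
    rw [Subgroup.mem_center_iff]
    intro x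
    apply Subtype.ext
    show (x : G) * s.1 i = s.1 i * (x : G)
    exact (mem_cz s x).mp x.2 i⟩
  apply Fintype.card_lt_of_injective_of_notMem f hf (b := b)
  rintro ⟨g, hg⟩
  apply hi
  have : (g : G) = s.1 i := congrArg (fun t : Subgroup.center (cz G r s) => ((t : cz G r s) : G)) hg
  rw [← this]
  exact g.2

lemma cl_mem_Kge (H : Type) [Group H] [Finite H] (m : ℕ) (h : m ≤ Nat.card (Subgroup.center H)) :
    cl H ∈ Kge m := by
  unfold cl Kge
  apply Finsupp.single_mem_supported
  show m ≤ (Idx.of H).centerCard
  rw [centerCard_of]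
  exact h

theorem inertiaROf_tri (G : Type) [Group G] [Finite G] (r : ℕ) :
    inertiaROf r G - ((Nat.card (Subgroup.center G)).descFactorial r : ℚ) • cl G ∈
      Kge (Nat.card (Subgroup.center G) + 1) := by
  classical
  letI : Fintype (CommTuple G r) := Fintype.ofFinite _
  letI : Fintype (Subgroup.center G) := Fintype.ofFinite _
  have hG : (Nat.card G : ℚ) ≠ 0 := by
    exact_mod_cast (Nat.card_pos (α := G)).ne'
  set z := Nat.card (Subgroup.center G) with hz
  rw [inertiaROf_eq]
  unfold w
  rw [finsum_eq_sum_of_fintype,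
    ← Finset.sum_filter_add_sum_filter_not Finset.univ (fun s : CommTuple G r => IsCentralT s)]
  have h1 : ∑ s ∈ Finset.univ.filter (fun s : CommTuple G r => IsCentralT s), psi G (cz G r s) =
      ((z.descFactorial r : ℚ) * (Nat.card G : ℚ)) • cl G := by
    have hval : ∀ s ∈ Finset.univ.filter (fun s : CommTuple G r => IsCentralT s),
        psi G (cz G r s) = (Nat.card G : ℚ) • cl G := by
      intro s hs
      rw [Finset.mem_filter] at hs
      rw [cz_eq_top_of_central s hs.2]
      unfold psi
      rw [cl_eq_of_equiv (Subgroup.topEquiv (G := G)), Nat.card_congr (Subgroup.topEquiv (G := G)).toEquiv]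
    rw [Finset.sum_congr rfl hval, Finset.sum_const, ← Nat.cast_smul_eq_nsmul ℚ, smul_smul]
    congr 2
    rw [← Fintype.card_subtype, Fintype.card_congr centralEquiv, Fintype.card_embedding_eq,
      Fintype.card_fin, hz, Nat.card_eq_fintype_card]
  have h2 : ∑ s ∈ Finset.univ.filter (fun s : CommTuple G r => ¬ IsCentralT s), psi G (cz G r s) ∈
      Kge (z + 1) := by
    apply Submodule.sum_mem
    intro s hs
    rw [Finset.mem_filter] at hs
    unfold psi
    apply Submodule.smul_mem
    apply cl_mem_Kge
    exact card_center_lt s hs.2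
  rw [h1, smul_add, smul_smul, mul_comm ((z.descFactorial r : ℚ)), ← mul_assoc, inv_mul_cancel₀ hG,
    one_mul, add_sub_cancel_left]
  exact Submodule.smul_mem _ _ h2

end tri


section filt

lemma Kge_mono {k m : ℕ} (h : k ≤ m) : Kge m ≤ Kge k := by
  unfold Kge
  apply Finsupp.supported_mono
  intro j hj
  exact le_trans h hj

lemma cl_rep (i : Idx) : cl i.rep = Finsupp.single i 1 := by
  unfold cl
  rw [of_rep]

lemma tri_single (i : Idx) (r : ℕ) :
    inertiaR r (Finsupp.single i 1) - ((i.centerCard.descFactorial r : ℕ) : ℚ) • Finsupp.single i 1 ∈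
      Kge (i.centerCard + 1) := by
  have := inertiaROf_tri i.rep r
  rw [cl_rep] at this
  rw [inertiaR_single]
  exact this

theorem inertiaR_sub_mem (r k : ℕ) (v : K) (hv : v ∈ Kge k) :
    inertiaR r v - ((k.descFactorial r : ℕ) : ℚ) • v ∈ Kge (k + 1) := by
  let L : K →ₗ[ℚ] K := inertiaR r - ((k.descFactorial r : ℕ) : ℚ) • LinearMap.id
  have hL : ∀ v, L v = inertiaR r v - ((k.descFactorial r : ℕ) : ℚ) • v := fun v => rfl
  rw [← hL]
  have hle : Kge k ≤ (Kge (k + 1)).comap L := by
    unfold Kge
    rw [Finsupp.supported_eq_span_single, Submodule.span_le]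
    rintro _ ⟨i, hi, rfl⟩
    have hik : k ≤ i.centerCard := hi
    show L (Finsupp.single i 1) ∈ Finsupp.supported ℚ ℚ {j : Idx | k + 1 ≤ j.centerCard}
    rw [hL]
    have h1 := tri_single i r
    rcases hik.eq_or_lt with h | h
    · rw [← h] at h1
      exact h1
    · have h2 : inertiaR r (Finsupp.single i 1) - ((k.descFactorial r : ℕ) : ℚ) • Finsupp.single i 1 =
          (inertiaR r (Finsupp.single i 1) -
            ((i.centerCard.descFactorial r : ℕ) : ℚ) • Finsupp.single i 1) +
          (((i.centerCard.descFactorial r : ℕ) : ℚ) - ((k.descFactorial r : ℕ) : ℚ)) •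
            Finsupp.single i 1 := by
        rw [sub_smul]; abel
      rw [h2]
      apply Submodule.add_mem
      · exact Kge_mono (Nat.succ_le_succ hik) h1
      · apply Submodule.smul_mem
        apply Finsupp.single_mem_supported
        exact h
  exact hle hv

end filt

end Groth.Agent.Lib.Helper11Inertia
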