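import Mathlib
import Groth.Agent.Lib.Helper11InertiaC

set_option autoImplicit false

namespace Groth.Agent.Lib.Helper11Inertia

open W4c5stacksedinertia

section basic

lemma inertiaROf_zero (G : Type) [Group G] [Finite G] : inertiaROf 0 G = cl G := by
  have hG : (Nat.card G : ℚ) ≠ 0 := by
    exact_mod_cast (Nat.card_pos (α := G)).ne'
  rw [inertiaROf_eq]
  unfold w
  have e0 : CommTuple G 0 := ⟨fun i => i.elim0, by
    constructor
    · intro i; exact i.elim0
    · intro i; exact i.elim0⟩
  haveI : Unique (CommTuple G 0) :=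
    { default := e0
      uniq := by
        intro s
        apply Subtype.ext
        funext i
        exact i.elim0 }
  rw [finsum_unique]
  have hcz : cz G 0 (default : CommTuple G 0) = ⊤ := by
    rw [eq_top_iff]
    intro x _
    rw [mem_cz]
    intro i
    exact i.elim0
  rw [hcz]
  unfold psi
  rw [cl_eq_of_equiv (Subgroup.topEquiv (G := G)), Nat.card_congr (Subgroup.topEquiv (G := G)).toEquiv,
    smul_smul, inv_mul_cancel₀ hG, one_smul]

lemma inertiaR_zero (v : K) : inertiaR 0 v = v := by
  have : inertiaR 0 = LinearMap.id := by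
    apply Finsupp.lhom_ext
    intro i b
    have hs : (Finsupp.single i b : K) = b • Finsupp.single i 1 := by
      rw [Finsupp.smul_single, smul_eq_mul, mul_one]
    rw [hs, map_smul, inertiaR_single, inertiaROf_zero, cl_rep]
    rfl
  rw [this]
  rfl

lemma inertiaROf_eq_zero_of_card_lt (G : Type) [Group G] [Finite G] (r : ℕ) (h : Nat.card G < r) :
    inertiaROf r G = 0 := by
  rw [inertiaROf_eq]
  unfold w
  haveI : IsEmpty (CommTuple G r) := by
    constructor
    intro s
    have := Nat.card_le_card_of_injective s.1 s.2.1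
    rw [Nat.card_eq_fintype_card, Fintype.card_fin] at this
    omega
  rw [finsum_of_isEmpty, smul_zero]

lemma exists_vanish (v : K) : ∃ N : ℕ, 1 ≤ N ∧ ∀ r, N ≤ r → inertiaR r v = 0 := by
  refine ⟨v.support.sup Idx.card + 1, Nat.le_add_left _ _, ?_⟩
  intro r hr
  unfold inertiaR
  rw [Finsupp.linearCombination_apply, Finsupp.sum]
  apply Finset.sum_eq_zero
  intro i hi
  have h1 : i.card ≤ v.support.sup Idx.card := Finset.le_sup hi
  have h2 : Nat.card i.rep < r := by
    show i.card < r
    omega
  rw [inertiaROf_eq_zero_of_card_lt _ _ h2, smul_zero]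

end basic


section coeff

/-- the coefficients of the eigenprojection formula -/
noncomputable def cf (r k : ℕ) : ℚ :=
  ((-1 : ℚ) ^ (r + k)) / (Nat.factorial r : ℚ) * (Nat.choose r k : ℚ)

lemma cf_eq_zero_of_lt {r k : ℕ} (h : r < k) : cf r k = 0 := by
  unfold cf
  rw [Nat.choose_eq_zero_of_lt h, Nat.cast_zero, mul_zero]

lemma cf_zero_left (k : ℕ) : (k : ℚ) * cf 0 k = 0 := by
  rcases Nat.eq_zero_or_pos k with h | h
  · subst h; simp
  · rw [cf_eq_zero_of_lt h, mul_zero]

lemma cf_succ (r k : ℕ) : cf r k = ((k : ℚ) - ((r : ℚ) + 1)) * cf (r + 1) k := by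
  unfold cf
  have hr : ((r + 1).factorial : ℚ) = ((r : ℚ) + 1) * (r.factorial : ℚ) := by
    rw [Nat.factorial_succ]; push_cast; ring
  have hr0 : (r.factorial : ℚ) ≠ 0 := by exact_mod_cast (Nat.factorial_pos r).ne'
  have hr1 : ((r : ℚ) + 1) ≠ 0 := by positivity
  have key : ((r + 1).choose k : ℚ) * (((r : ℚ) + 1) - (k : ℚ)) = (r.choose k : ℚ) * ((r : ℚ) + 1) := by
    have h := Nat.choose_mul_succ_eq r k
    rcases le_or_gt k (r + 1) with hk | hk
    · have : (((r + 1 - k : ℕ)) : ℚ) = ((r : ℚ) + 1) - (k : ℚ) := by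
        rw [Nat.cast_sub hk]; push_cast; ring
      rw [← this]
      exact_mod_cast h.symm
    · rw [Nat.choose_eq_zero_of_lt hk, Nat.choose_eq_zero_of_lt (by omega : r < k)]
      simp
  have hp : (-1 : ℚ) ^ (r + 1 + k) = -((-1 : ℚ) ^ (r + k)) := by
    rw [show r + 1 + k = r + k + 1 by ring, pow_succ]; ring
  rw [hr, hp]
  field_simp
  linear_combination (-1 : ℚ) * key

lemma sum_cf (r N : ℕ) (h : r < N) : ∑ k ∈ Finset.range N, cf r k = if r = 0 then 1 else 0 := by
  have h1 : ∑ k ∈ Finset.range N, cf r k = ∑ k ∈ Finset.range (r + 1), cf r k := by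
    symm
    apply Finset.sum_subset
    · intro k hk
      rw [Finset.mem_range] at hk ⊢
      omega
    · intro k _ hk
      rw [Finset.mem_range] at hk
      exact cf_eq_zero_of_lt (by omega)
  rw [h1]
  have h2 := Int.alternating_sum_range_choose (n := r)
  have h3 : ∑ k ∈ Finset.range (r + 1), cf r k =
      ((-1 : ℚ) ^ r / (r.factorial : ℚ)) *
        (((∑ m ∈ Finset.range (r + 1), ((-1) ^ m * (r.choose m : ℤ)) : ℤ)) : ℚ) := by
    push_cast
    rw [Finset.mul_sum]
    apply Finset.sum_congr rfl
    intro k _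
    unfold cf
    rw [pow_add]
    ring
  rw [h3, h2]
  by_cases hr : r = 0
  · subst hr; simp
  · simp [hr]

end coeff


section proj

/-- truncated eigenprojection -/
noncomputable def PN (N k : ℕ) (v : K) : K := ∑ r ∈ Finset.range N, cf r k • inertiaR r v

lemma PN_eq_zero (N k : ℕ) (v : K) (hk : N ≤ k) : PN N k v = 0 := by
  unfold PN
  apply Finset.sum_eq_zero
  intro r hr
  rw [Finset.mem_range] at hr
  rw [cf_eq_zero_of_lt (by omega), zero_smul]

lemma finsum_eq_PN (N k : ℕ) (v : K) (hN : ∀ r, N ≤ r → inertiaR r v = 0) :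
    ∑ᶠ r : ℕ, cf r k • inertiaR r v = PN N k v := by
  unfold PN
  apply finsum_eq_sum_of_support_subset
  intro r hr
  rw [Function.mem_support] at hr
  rw [Finset.coe_range, Set.mem_Iio]
  by_contra hcon
  push Not at hcon
  apply hr
  rw [hN r hcon, smul_zero]

lemma inertia_PN (N k : ℕ) (v : K) (hN : ∀ r, N ≤ r → inertiaR r v = 0) :
    inertia (PN N k v) = (k : ℚ) • PN N k v := by
  unfold PN
  rw [map_sum, Finset.smul_sum]
  have h1 : ∀ r ∈ Finset.range N, inertia (cf r k • inertiaR r v) =
      cf r k • inertiaR (r + 1) v + (cf r k * (r : ℚ)) • inertiaR r v := by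
    intro r _
    rw [map_smul, inertia_comp_inertiaR, smul_add, smul_smul]
  rw [Finset.sum_congr rfl h1, Finset.sum_add_distrib]
  let f : ℕ → K := fun r => (if r = 0 then (0 : ℚ) else cf (r - 1) k) • inertiaR r v
  have h2 : ∑ r ∈ Finset.range N, cf r k • inertiaR (r + 1) v = ∑ r ∈ Finset.range N, f r := by
    have e1 : ∑ r ∈ Finset.range N, cf r k • inertiaR (r + 1) v =
        ∑ r ∈ Finset.range N, f (r + 1) := by
      apply Finset.sum_congr rfl
      intro r _
      simp only [f, Nat.add_sub_cancel, Nat.succ_ne_zero, if_false]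
    have e2 := Finset.sum_range_succ' f N
    have e3 := Finset.sum_range_succ f N
    have f0 : f 0 = 0 := by simp only [f, if_true, zero_smul]
    have fN : f N = 0 := by simp only [f]; rw [hN N le_rfl, smul_zero]
    rw [e1]
    rw [f0, add_zero] at e2
    rw [fN, add_zero] at e3
    rw [← e2, e3]
  rw [h2, ← Finset.sum_add_distrib]
  apply Finset.sum_congr rfl
  intro r _
  simp only [f]
  rw [← add_smul, smul_smul]
  congr 1
  rcases Nat.eq_zero_or_pos r with hr | hr
  · subst hr
    simp only [if_true, Nat.cast_zero, mul_zero, add_zero]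
    exact (cf_zero_left k).symm
  · obtain ⟨r', rfl⟩ : ∃ r', r = r' + 1 := ⟨r - 1, by omega⟩
    simp only [Nat.succ_ne_zero, if_false, Nat.add_sub_cancel]
    rw [cf_succ r' k]
    push_cast
    ring

lemma sum_PN (N : ℕ) (hN1 : 1 ≤ N) (v : K) : ∑ k ∈ Finset.range N, PN N k v = v := by
  unfold PN
  rw [Finset.sum_comm]
  have h1 : ∀ r ∈ Finset.range N, ∑ k ∈ Finset.range N, cf r k • inertiaR r v =
      (if r = 0 then (1 : ℚ) else 0) • inertiaR r v := by
    intro r hr
    rw [Finset.mem_range] at hr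
    rw [← Finset.sum_smul, sum_cf r N hr]
  rw [Finset.sum_congr rfl h1]
  rw [Finset.sum_eq_single 0]
  · simp only [if_true, one_smul]
    exact inertiaR_zero v
  · intro r _ hr
    simp only [hr, if_false, zero_smul]
  · intro h
    exfalso
    apply h
    rw [Finset.mem_range]
    omega

end proj

end Groth.Agent.Lib.Helper11Inertia
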