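import Mathlib
import Groth.Agent.Lib.Helper11InertiaD

set_option autoImplicit false

namespace Groth.Agent.Lib.Helper11Inertia

open W4c5stacksedinertia

section eigen

lemma eigen_inertiaR (μ : ℚ) (v : K) (hv : inertia v = μ • v) (r : ℕ) :
    inertiaR r v = (∏ j ∈ Finset.range r, (μ - (j : ℚ))) • v := by
  induction r with
  | zero => rw [inertiaR_zero, Finset.prod_range_zero, one_smul]
  | succ r ih =>
    have h := inertia_comp_inertiaR r v
    rw [ih, map_smul, hv] at h
    have h2 : inertiaR (r + 1) v = (∏ j ∈ Finset.range r, (μ - (j : ℚ))) • μ • v -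
        (r : ℚ) • (∏ j ∈ Finset.range r, (μ - (j : ℚ))) • v := by
      rw [h]; abel
    rw [h2, Finset.prod_range_succ, smul_smul, smul_smul, ← sub_smul]
    congr 1
    ring

lemma prod_sub_eq_descFactorial (k r : ℕ) :
    ∏ j ∈ Finset.range r, ((k : ℚ) - (j : ℚ)) = ((k.descFactorial r : ℕ) : ℚ) := by
  induction r with
  | zero => simp
  | succ r ih =>
    rw [Finset.prod_range_succ, ih, Nat.descFactorial_succ]
    rcases le_or_gt r k with h | h
    · push_cast [Nat.cast_sub h]
      ring
    · have : k.descFactorial r = 0 := Nat.descFactorial_eq_zero_iff_lt.mpr h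
      rw [this]
      simp

lemma eigen_inertiaR_nat (k : ℕ) (v : K) (hv : inertia v = (k : ℚ) • v) (r : ℕ) :
    inertiaR r v = ((k.descFactorial r : ℕ) : ℚ) • v := by
  rw [eigen_inertiaR (k : ℚ) v hv r, prod_sub_eq_descFactorial]

end eigen


section more

theorem inertiaROf_comm (G : Type) [Group G] [Finite G] (hcomm : ∀ a b : G, a * b = b * a) (r : ℕ) :
    inertiaROf r G = (((Nat.card G).descFactorial r : ℕ) : ℚ) • cl G := by
  classical
  letI : Fintype (CommTuple G r) := Fintype.ofFinite _
  letI : Fintype (Subgroup.center G) := Fintype.ofFinite _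
  have hG : (Nat.card G : ℚ) ≠ 0 := by
    exact_mod_cast (Nat.card_pos (α := G)).ne'
  have hcen : Subgroup.center G = ⊤ := by
    rw [eq_top_iff]
    intro x _
    rw [Subgroup.mem_center_iff]
    intro g
    exact hcomm g x
  have hz : Nat.card (Subgroup.center G) = Nat.card G := by
    rw [hcen]
    exact Nat.card_congr (Subgroup.topEquiv (G := G)).toEquiv
  have hall : ∀ s : CommTuple G r, IsCentralT s := by
    intro s i
    rw [hcen]
    exact Subgroup.mem_top _
  rw [inertiaROf_eq]
  unfold w
  rw [finsum_eq_sum_of_fintype]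
  have hval : ∀ s ∈ (Finset.univ : Finset (CommTuple G r)),
      psi G (cz G r s) = (Nat.card G : ℚ) • cl G := by
    intro s _
    rw [cz_eq_top_of_central s (hall s)]
    unfold psi
    rw [cl_eq_of_equiv (Subgroup.topEquiv (G := G)),
      Nat.card_congr (Subgroup.topEquiv (G := G)).toEquiv]
  rw [Finset.sum_congr rfl hval, Finset.sum_const, ← Nat.cast_smul_eq_nsmul ℚ, smul_smul, smul_smul]
  congr 1
  have hcard : Finset.card (Finset.univ : Finset (CommTuple G r)) = (Nat.card G).descFactorial r := by
    rw [Finset.card_univ]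
    have e : CommTuple G r ≃ {s : CommTuple G r // IsCentralT s} :=
      (Equiv.subtypeUnivEquiv hall).symm
    rw [Fintype.card_congr e, Fintype.card_congr centralEquiv, Fintype.card_embedding_eq,
      Fintype.card_fin, ← hz, Nat.card_eq_fintype_card]
  rw [hcard]
  field_simp

lemma Kge_one : Kge 1 = ⊤ := by
  rw [eq_top_iff]
  intro v _
  unfold Kge
  rw [Finsupp.mem_supported]
  intro i _
  show 1 ≤ i.centerCard
  unfold Idx.centerCard
  exact Nat.card_pos

lemma inertia_injective (v : K) (hv : inertia v = 0) : v = 0 := by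
  have hk : ∀ k : ℕ, v ∈ Kge (k + 1) := by
    intro k
    induction k with
    | zero => rw [zero_add, Kge_one]; exact Submodule.mem_top
    | succ k ih =>
      have h := inertiaR_sub_mem 1 (k + 1) v ih
      have h1 : inertiaR 1 v = 0 := hv
      rw [h1, zero_sub, Nat.descFactorial_one] at h
      have hne : (((k + 1 : ℕ)) : ℚ) ≠ 0 := by positivity
      have h2 := Submodule.smul_mem _ (-(((k + 1 : ℕ)) : ℚ)⁻¹) h
      rw [smul_neg, neg_smul, neg_neg, smul_smul, inv_mul_cancel₀ hne, one_smul] at h2
      exact h2
  by_contra hne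
  obtain ⟨i, hi⟩ := Finsupp.support_nonempty_iff.mpr hne
  have := hk i.centerCard
  unfold Kge at this
  rw [Finsupp.mem_supported] at this
  have h2 : i.centerCard + 1 ≤ i.centerCard := this hi
  omega

end more

end Groth.Agent.Lib.Helper11Inertia
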