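import Groth.Prelude.Def_PLie
import Mathlib.Algebra.Lie.Abelian

/-!
# Helper22: pushing a `p`-mapping forward along a surjective Lie algebra morphism
-/

set_option autoImplicit false

namespace Groth.Agent.Lib.Helper22

open PLie

section

variable {R : Type*} [CommRing R] {L K : Type*} [LieRing L] [LieAlgebra R L]
  [LieRing K] [LieAlgebra R K]

theorem map_ad_pow' (g : L →ₗ⁅R⁆ K) (x y : L) (n : ℕ) :
    g ((LieAlgebra.ad R L x ^ n) y) = (LieAlgebra.ad R K (g x) ^ n) (g y) := by
  induction n generalizing y with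
  | zero => simp
  | succ n ih =>
    rw [pow_succ, Module.End.mul_apply, ih, pow_succ, Module.End.mul_apply, LieAlgebra.ad_apply,
      LieAlgebra.ad_apply, LieHom.map_lie]

theorem map_bracketWord {ι : Type*} (g : L →ₗ⁅R⁆ K) (v : ι → L) (x₁ : L) (w : List ι) :
    g (bracketWord v x₁ w) = bracketWord (fun i => g (v i)) (g x₁) w := by
  induction w with
  | nil => rfl
  | cons i w ih => rw [bracketWord_cons, bracketWord_cons, LieHom.map_lie, ih]

theorem bracketWord_zero {ι : Type*} (v : ι → L) (w : List ι) :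
    bracketWord v (0 : L) w = 0 := by
  induction w with
  | nil => rfl
  | cons i w ih => rw [bracketWord_cons, ih, lie_zero]

theorem pair_map (g : L →ₗ⁅R⁆ K) (x₀ x₁ : L) :
    (fun b => g (pair x₀ x₁ b)) = pair (g x₀) (g x₁) := by
  funext b
  cases b <;> simp [pair]

variable {p : ℕ} [CharP R p]

theorem map_jacobson (g : L →ₗ⁅R⁆ K) (x₀ x₁ : L) :
    g (jacobson R p x₀ x₁) = jacobson R p (g x₀) (g x₁) := by
  unfold jacobson
  rw [map_sum]
  refine Finset.sum_congr rfl fun t _ => ?_
  rw [map_smul, map_bracketWord, pair_map]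

theorem jacobson_zero_right (x₀ : L) : jacobson R p x₀ (0 : L) = 0 := by
  unfold jacobson
  refine Finset.sum_eq_zero fun t _ => ?_
  rw [bracketWord_zero, smul_zero]

theorem PMap.ext' {φ ψ : PMap R p L} (h : ∀ x, φ x = ψ x) : φ = ψ := by
  cases φ; cases ψ
  congr
  funext x
  exact h x

/-- Push a `p`-mapping forward along a surjective Lie algebra morphism with `p`-stable kernel. -/
theorem exists_unique_pmap_of_surjective (φ : PMap R p L) (g : L →ₗ⁅R⁆ K)
    (hg : Function.Surjective g) (hker : ∀ x : L, g x = 0 → g (φ x) = 0) :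
    ∃! ψ : PMap R p K, IsPHom φ ψ g := by
  have hwd : ∀ x x' : L, g x = g x' → g (φ x) = g (φ x') := by
    intro x x' h
    have hd : g (x' - x) = 0 := by rw [map_sub, h, sub_self]
    have e : x' = x + (x' - x) := by abel
    have h1 := φ.map_add x (x' - x)
    rw [← e] at h1
    show g (φ.toFun x) = g (φ.toFun x')
    rw [h1, map_sub, map_add, map_jacobson, hd, jacobson_zero_right, sub_zero]
    have := hker _ hd
    rw [show g (φ.toFun (x' - x)) = 0 from this, add_zero]
  choose s hs using hg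
  have hψ : ∀ x : L, g (φ (s (g x))) = g (φ x) := fun x => hwd _ _ (hs (g x))
  refine ⟨⟨fun y => g (φ (s y)), ?_, ?_, ?_⟩, ?_, ?_⟩
  · intro c y
    have h1 : g (c • s y) = c • y := by rw [map_smul, hs]
    rw [hwd (s (c • y)) (c • s y) (by rw [hs, h1])]
    show g (φ.toFun (c • s y)) = _
    rw [φ.map_smul, map_smul]
  · intro y
    ext z
    obtain ⟨z', rfl⟩ : ∃ z', g z' = z := ⟨s z, hs z⟩
    have h1 : ⁅φ (s y), z'⁆ = (LieAlgebra.ad R L (s y) ^ p) z' := by
      rw [← φ.ad_map (s y)]; rfl
    rw [LieAlgebra.ad_apply, ← LieHom.map_lie, h1, map_ad_pow', hs]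
  · intro y₀ y₁
    have h1 : g (s y₀ + s y₁) = y₀ + y₁ := by rw [map_add, hs, hs]
    rw [hwd (s (y₀ + y₁)) (s y₀ + s y₁) (by rw [hs, h1])]
    show g (φ.toFun (s y₀ + s y₁)) = _
    rw [φ.map_add, map_sub, map_add, map_jacobson, hs, hs]
  · intro x
    exact (hψ x).symm
  · intro ψ' hψ'
    apply PMap.ext'
    intro y
    have := hψ' (s y)
    rw [hs] at this
    exact this.symm

end

end Groth.Agent.Lib.Helper22
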