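import Mathlib
import Groth.Prelude.Def_PLie

set_option autoImplicit false
universe u v
open PLie

namespace Groth.Agent.Lib.Helper22.PLieSemi

section Basic
variable {R : Type u} [CommRing R] {L : Type v} [LieRing L] [LieAlgebra R L]
variable (x : L) (π : L →ₗ[R] R)

theorem pi_D_pow_succ (h3 : ∀ v : L, π ⁅x, v⁆ = 0) (j : ℕ) (v : L) :
    π ((LieAlgebra.ad R L x ^ (j + 1)) v) = 0 := by
  rw [pow_succ', Module.End.mul_apply, LieAlgebra.ad_apply]
  exact h3 _

theorem ad_pow_succ (h2 : ∀ u v : L, ⁅u, v⁆ = π u • ⁅x, v⁆ - π v • ⁅x, u⁆)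
    (h3 : ∀ v : L, π ⁅x, v⁆ = 0) (u v : L) (j : ℕ) :
    (LieAlgebra.ad R L u ^ (j + 1)) v =
      (π u) ^ (j + 1) • (LieAlgebra.ad R L x ^ (j + 1)) v -
        ((π u) ^ j * π v) • (LieAlgebra.ad R L x ^ (j + 1)) u := by
  induction j with
  | zero =>
    simp only [zero_add, pow_one, pow_zero, one_mul, LieAlgebra.ad_apply]
    exact h2 u v
  | succ j ih =>
    rw [pow_succ', Module.End.mul_apply, ih, LieAlgebra.ad_apply, h2 u]
    have hw : π ((π u) ^ (j + 1) • (LieAlgebra.ad R L x ^ (j + 1)) v -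
        ((π u) ^ j * π v) • (LieAlgebra.ad R L x ^ (j + 1)) u) = 0 := by
      rw [map_sub, map_smul, map_smul, pi_D_pow_succ x π h3, pi_D_pow_succ x π h3]
      simp
    rw [hw, zero_smul, sub_zero, lie_sub, lie_smul, lie_smul, smul_sub, smul_smul, smul_smul]
    have e1 : ∀ w : L, ⁅x, (LieAlgebra.ad R L x ^ (j + 1)) w⁆ =
        (LieAlgebra.ad R L x ^ (j + 1 + 1)) w := by
      intro w
      rw [pow_succ' _ (j + 1), Module.End.mul_apply, LieAlgebra.ad_apply]
    rw [e1, e1]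
    congr 2
    · rw [pow_succ' _ (j + 1)]
    · rw [pow_succ' _ j]; ring

end Basic


section PhiSec
open Polynomial
variable {R : Type u} [CommRing R]

noncomputable def Phi (f : ℕ → R) : R[X] →ₗ[R] R :=
  Polynomial.lsum (fun r => (f (r + 1)) • (LinearMap.id : R →ₗ[R] R))

theorem Phi_monomial (f : ℕ → R) (r : ℕ) (c : R) : Phi f (monomial r c) = f (r + 1) * c := by
  unfold Phi
  rw [Polynomial.lsum_apply, Polynomial.sum_monomial_index]
  · simp
  · simp

theorem Phi_C_mul (f : ℕ → R) (a : R) (g : R[X]) : Phi f (C a * g) = a * Phi f g := by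
  rw [← smul_eq_C_mul, map_smul, smul_eq_mul]

theorem Phi_X_mul (f : ℕ → R) (g : R[X]) : Phi f (X * g) = Phi (fun r => f (r + 1)) g := by
  induction g using Polynomial.induction_on' with
  | add p q hp hq => rw [mul_add, map_add, map_add, hp, hq]
  | monomial n a =>
    rw [X_mul, monomial_mul_X, Phi_monomial, Phi_monomial]

theorem Phi_pow (f : ℕ → R) (a b : R) (n : ℕ) :
    Phi f ((C a * X + C b) ^ n) =
      ∑ r ∈ Finset.range (n + 1), f (r + 1) * (a ^ r * b ^ (n - r) * (n.choose r : R)) := by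
  rw [add_pow, map_sum]
  refine Finset.sum_congr rfl (fun r _ => ?_)
  have : (C a * X) ^ r * C b ^ (n - r) * ((n.choose r : ℕ) : R[X]) =
      monomial r (a ^ r * b ^ (n - r) * (n.choose r : R)) := by
    rw [mul_pow, ← C_pow, ← C_pow, ← C_eq_natCast, mul_comm (C (a ^ r)) (X ^ r), mul_assoc, mul_assoc,
      ← C_mul, ← C_mul, ← mul_assoc, mul_comm (X ^ r), C_mul_X_pow_eq_monomial]
  rw [this, Phi_monomial]

end PhiSec

section Words
open Polynomial
variable {R : Type u} [CommRing R] {L : Type v} [LieRing L] [LieAlgebra R L]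
variable (x : L) (π : L →ₗ[R] R)

/-- number of `false` values -/
def cnt {n : ℕ} (t : Fin n → Bool) : ℕ := (Finset.univ.filter (fun i => t i = false)).card

theorem cnt_cons {n : ℕ} (b : Bool) (t : Fin n → Bool) :
    cnt (Fin.cons b t : Fin (n + 1) → Bool) = cnt t + (if b = false then 1 else 0) := by
  unfold cnt
  rw [Fin.card_filter_univ_succ']
  simp only [Fin.cons_zero, Fin.cons_succ]
  rw [add_comm]

theorem sum_cons {M : Type*} [AddCommMonoid M] (n : ℕ) (F : (Fin (n + 1) → Bool) → M) :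
    ∑ t, F t = ∑ t' : Fin n → Bool, F (Fin.cons false t') +
      ∑ t' : Fin n → Bool, F (Fin.cons true t') := by
  rw [← (Fin.consEquiv (fun _ : Fin (n + 1) => Bool)).sum_comp, Fintype.sum_prod_type,
    Fintype.sum_bool, add_comm]
  rfl

variable (h2 : ∀ u v : L, ⁅u, v⁆ = π u • ⁅x, v⁆ - π v • ⁅x, u⁆)
  (h3 : ∀ v : L, π ⁅x, v⁆ = 0) (X₀ X₁ : L)

include h2 h3 in
theorem pi_bw_cons (b : Bool) (w : List Bool) :
    π (bracketWord (pair X₀ X₁) X₁ (b :: w)) = 0 := by
  rw [bracketWord_cons, h2, map_sub, map_smul, map_smul, h3, h3]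
  simp

include h2 h3 in
theorem bw_cons_cons (b c : Bool) (w : List Bool) :
    bracketWord (pair X₀ X₁) X₁ (b :: c :: w) =
      π (pair X₀ X₁ b) • ⁅x, bracketWord (pair X₀ X₁) X₁ (c :: w)⁆ := by
  rw [bracketWord_cons, h2, pi_bw_cons x π h2 h3, zero_smul, sub_zero]

include h2 h3 in
theorem bw_cons_ofFn {n : ℕ} (b : Bool) (t : Fin (n + 1) → Bool) :
    bracketWord (pair X₀ X₁) X₁ (b :: List.ofFn t) =
      π (pair X₀ X₁ b) • ⁅x, bracketWord (pair X₀ X₁) X₁ (List.ofFn t)⁆ := by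
  rw [List.ofFn_succ]
  exact bw_cons_cons x π h2 h3 X₀ X₁ b _ _

theorem bw_true : bracketWord (pair X₀ X₁) X₁ [true] = 0 := by
  simp [pair]

include h2 in
theorem bw_false : bracketWord (pair X₀ X₁) X₁ [false] = ⁅x, π X₀ • X₁ - π X₁ • X₀⁆ := by
  simp only [bracketWord_cons, bracketWord_nil, pair]
  rw [lie_sub, lie_smul, lie_smul]
  simpa using h2 X₀ X₁

include h2 h3 in
theorem sum_bw (n : ℕ) : ∀ (f : ℕ → R),
    ∑ t : Fin (n + 1) → Bool, f (cnt t) • bracketWord (pair X₀ X₁) X₁ (List.ofFn t) =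
      Phi f ((C (π X₀) * X + C (π X₁)) ^ n) •
        (LieAlgebra.ad R L x ^ (n + 1)) (π X₀ • X₁ - π X₁ • X₀) := by
  induction n with
  | zero =>
    intro f
    rw [sum_cons, Fintype.sum_unique, Fintype.sum_unique]
    have e1 : ∀ (b : Bool) (d : Fin 0 → Bool), List.ofFn (Fin.cons b d : Fin (0 + 1) → Bool) = [b] := by
      intro b d
      rw [List.ofFn_succ, Fin.cons_zero]
      simp
    rw [e1, e1, bw_true, smul_zero, add_zero, bw_false x π h2, cnt_cons]
    have e2 : ∀ d : Fin 0 → Bool, cnt d = 0 := by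
      intro d
      unfold cnt
      simp
    rw [e2, pow_zero]
    have e3 : (1 : R[X]) = monomial 0 1 := by simp
    rw [e3, Phi_monomial]
    simp
  | succ n ih =>
    intro f
    rw [sum_cons]
    have e1 : ∀ (b : Bool) (t' : Fin (n + 1) → Bool),
        List.ofFn (Fin.cons b t' : Fin (n + 1 + 1) → Bool) = b :: List.ofFn t' := by
      intro b t'
      rw [List.ofFn_succ, Fin.cons_zero]
      simp only [Fin.cons_succ]
    have hF : ∀ (b : Bool) (t' : Fin (n + 1) → Bool),
        f (cnt (Fin.cons b t' : Fin (n + 1 + 1) → Bool)) •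
          bracketWord (pair X₀ X₁) X₁ (List.ofFn (Fin.cons b t' : Fin (n + 1 + 1) → Bool)) =
        π (pair X₀ X₁ b) • (LieAlgebra.ad R L x)
          (f (cnt t' + (if b = false then 1 else 0)) •
            bracketWord (pair X₀ X₁) X₁ (List.ofFn t')) := by
      intro b t'
      rw [e1, bw_cons_ofFn x π h2 h3, cnt_cons, map_smul, LieAlgebra.ad_apply, smul_comm]
    rw [Finset.sum_congr rfl (fun t' _ => hF false t'), Finset.sum_congr rfl (fun t' _ => hF true t'),
      ← Finset.smul_sum, ← Finset.smul_sum, ← map_sum, ← map_sum]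
    have i1 := ih (fun r => f (r + 1))
    have i2 := ih f
    simp only [if_true, Bool.true_eq_false, if_false, add_zero] at i1 i2 ⊢
    rw [i1, i2, map_smul, map_smul, smul_smul, smul_smul]
    have e4 : ∀ w : L, (LieAlgebra.ad R L x) ((LieAlgebra.ad R L x ^ (n + 1)) w) =
        (LieAlgebra.ad R L x ^ (n + 1 + 1)) w := by
      intro w
      rw [pow_succ' _ (n + 1), Module.End.mul_apply]
    rw [e4, ← add_smul]
    congr 1
    rw [pow_succ' _ n, add_mul, map_add, mul_assoc, Phi_C_mul, Phi_X_mul, Phi_C_mul]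
    simp [pair]

end Words


section CharPSec
variable {R : Type u} [CommRing R] (p : ℕ) [hp : Fact p.Prime] [CharP R p]

theorem choose_pred_cast (j : ℕ) (hj : j ≤ p - 1) : (((p - 1).choose j : ℕ) : R) = (-1) ^ j := by
  induction j with
  | zero => simp
  | succ j ih =>
    have hpos := hp.out.pos
    have h1 : (p - 1).choose j + (p - 1).choose (j + 1) = p.choose (j + 1) := by
      have : p = (p - 1) + 1 := by omega
      conv_rhs => rw [this]
      rw [Nat.choose_succ_succ']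
    have h2 : ((p.choose (j + 1) : ℕ) : R) = 0 := by
      rw [CharP.cast_eq_zero_iff R p]
      exact hp.out.dvd_choose_self (Nat.succ_ne_zero j) (by omega)
    have h3 := congrArg (Nat.cast : ℕ → R) h1
    rw [Nat.cast_add, h2, ih (by omega)] at h3
    rw [pow_succ]
    linear_combination h3

/-- the coefficient `1/r` -/
noncomputable def invc (r : ℕ) : R := (ZMod.castHom (dvd_refl p) R) ((r : ZMod p)⁻¹)

theorem invc_mul (r : ℕ) (h0 : 0 < r) (hr : r < p) : invc (R := R) p r * (r : R) = 1 := by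
  unfold invc
  have h1 : (r : R) = (ZMod.castHom (dvd_refl p) R) (r : ZMod p) := (map_natCast _ r).symm
  rw [h1, ← map_mul]
  have h2 : (r : ZMod p) ≠ 0 := by
    rw [Ne, ZMod.natCast_eq_zero_iff]
    intro hd
    exact absurd (Nat.le_of_dvd h0 hd) (by omega)
  rw [inv_mul_cancel₀ h2, map_one]

theorem invc_mul_choose (q : ℕ) (hq : p = q + 2) (r : ℕ) (hr : r ≤ q) :
    invc (R := R) p (r + 1) * ((q.choose r : ℕ) : R) = (-1) ^ r := by
  have h1 : (q + 1) * q.choose r = (q + 1).choose (r + 1) * (r + 1) := Nat.add_one_mul_choose_eq q r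
  have h2 := congrArg (Nat.cast : ℕ → R) h1
  rw [Nat.cast_mul, Nat.cast_mul] at h2
  have h3 : (((q + 1).choose (r + 1) : ℕ) : R) = (-1) ^ (r + 1) := by
    have := choose_pred_cast (R := R) p (r + 1) (by omega)
    have e : p - 1 = q + 1 := by omega
    rw [e] at this
    exact this
  have h4 : ((q + 1 : ℕ) : R) = -1 := by
    have : ((p : ℕ) : R) = 0 := CharP.cast_eq_zero R p
    rw [hq] at this
    push_cast at this ⊢
    linear_combination this
  rw [h3, h4] at h2
  have h5 := invc_mul (R := R) p (r + 1) (Nat.succ_pos r) (by omega)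
  have h6 : ((q.choose r : ℕ) : R) = (-1) ^ r * ((r + 1 : ℕ) : R) := by
    rw [pow_succ] at h2
    linear_combination -h2
  rw [h6]
  linear_combination (-1) ^ r * h5

end CharPSec


section Main
open Polynomial
variable {R : Type u} [CommRing R] {L : Type v} [LieRing L] [LieAlgebra R L]

theorem jacobson_eq (q : ℕ) [Fact (q + 2).Prime] [CharP R (q + 2)] (X₀ X₁ : L) :
    jacobson R (q + 2) X₀ X₁ =
      ∑ t : Fin (q + 1) → Bool,
        invc (R := R) (q + 2) (cnt t) • bracketWord (pair X₀ X₁) X₁ (List.ofFn t) := by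
  unfold jacobson invc cnt
  refine Finset.sum_congr rfl (fun t _ => ?_)
  rw [Fintype.card_subtype]
  rfl

theorem S_identities (q : ℕ) [hp : Fact (q + 2).Prime] [CharP R (q + 2)] (a₀ a₁ : R) :
    (a₀ + a₁) ^ (q + 1) = a₁ ^ (q + 1) -
        (∑ r ∈ Finset.range (q + 1), (-1) ^ r * (a₀ ^ r * a₁ ^ (q - r))) * a₀ ∧
      (a₀ + a₁) ^ (q + 1) = a₀ ^ (q + 1) +
        (∑ r ∈ Finset.range (q + 1), (-1) ^ r * (a₀ ^ r * a₁ ^ (q - r))) * a₁ := by
  have hexp : (a₀ + a₁) ^ (q + 1) =
      ∑ j ∈ Finset.range (q + 1 + 1), (-1) ^ j * (a₀ ^ j * a₁ ^ (q + 1 - j)) := by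
    rw [add_pow]
    refine Finset.sum_congr rfl (fun j hj => ?_)
    have hj' : j ≤ q + 2 - 1 := by
      have := Finset.mem_range.mp hj
      omega
    have := choose_pred_cast (R := R) (q + 2) j hj'
    have e : q + 2 - 1 = q + 1 := rfl
    rw [e] at this
    rw [this]
    ring
  have hone : (-1 : R) ^ (q + 1) = 1 := by
    have := choose_pred_cast (R := R) (q + 2) (q + 1) (le_refl _)
    have e : q + 2 - 1 = q + 1 := rfl
    rw [e, Nat.choose_self, Nat.cast_one] at this
    exact this.symm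
  constructor
  · rw [hexp, Finset.sum_range_succ', Finset.sum_mul]
    have : ∀ r ∈ Finset.range (q + 1), (-1 : R) ^ (r + 1) * (a₀ ^ (r + 1) * a₁ ^ (q + 1 - (r + 1))) =
        -((-1) ^ r * (a₀ ^ r * a₁ ^ (q - r)) * a₀) := by
      intro r _
      have e : q + 1 - (r + 1) = q - r := by omega
      rw [e]
      ring
    rw [Finset.sum_congr rfl this, Finset.sum_neg_distrib]
    simp only [pow_zero, one_mul, Nat.sub_zero]
    ring
  · rw [hexp, Finset.sum_range_succ, Finset.sum_mul]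
    have : ∀ r ∈ Finset.range (q + 1), (-1 : R) ^ r * (a₀ ^ r * a₁ ^ (q + 1 - r)) =
        (-1) ^ r * (a₀ ^ r * a₁ ^ (q - r)) * a₁ := by
      intro r hr
      have hr' := Finset.mem_range.mp hr
      have e : q + 1 - r = (q - r) + 1 := by omega
      rw [e, pow_succ]
      ring
    rw [Finset.sum_congr rfl this, hone]
    simp only [Nat.sub_self, pow_zero, mul_one, one_mul]
    ring

theorem exists_pmap (p : ℕ) [hp : Fact p.Prime] [CharP R p]
    (x : L) (π : L →ₗ[R] R) (lam : R) (h1 : π x = 1)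
    (h2 : ∀ u v : L, ⁅u, v⁆ = π u • ⁅x, v⁆ - π v • ⁅x, u⁆)
    (h3 : ∀ v : L, π ⁅x, v⁆ = 0)
    (h4 : ∀ v : L, (LieAlgebra.ad R L x ^ p) v = lam • ⁅x, v⁆) :
    ∃ φ : PMap R p L, ∀ u : L,
      φ u = ((π u) ^ p * lam) • x + (π u) ^ (p - 1) • (LieAlgebra.ad R L x ^ (p - 1)) u := by
  obtain ⟨q, rfl⟩ : ∃ q, p = q + 2 := ⟨p - 2, by have := hp.out.two_le; omega⟩
  have hxx : ⁅x, x⁆ = 0 := lie_self x
  have hDD : ∀ w : L, ⁅x, (LieAlgebra.ad R L x ^ (q + 1)) w⁆ = (LieAlgebra.ad R L x ^ (q + 2)) w := by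
    intro w
    rw [pow_succ' _ (q + 1), Module.End.mul_apply, LieAlgebra.ad_apply]
  refine ⟨⟨fun u => ((π u) ^ (q + 2) * lam) • x +
      (π u) ^ (q + 1) • (LieAlgebra.ad R L x ^ (q + 1)) u, ?_, ?_, ?_⟩, fun u => rfl⟩
  · -- map_smul
    intro c u
    simp only [map_smul, smul_eq_mul]
    rw [smul_add, smul_smul, smul_smul, smul_smul]
    congr 1
    · congr 1; ring
    · congr 1; ring
  · -- ad_map
    intro u
    apply LinearMap.ext
    intro v
    rw [LieAlgebra.ad_apply, h2, ad_pow_succ x π h2 h3 u v (q + 1), h4, h4]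
    have e1 : π (((π u) ^ (q + 2) * lam) • x +
        (π u) ^ (q + 1) • (LieAlgebra.ad R L x ^ (q + 1)) u) = (π u) ^ (q + 2) * lam := by
      rw [map_add, map_smul, map_smul, h1, pi_D_pow_succ x π h3]
      simp
    have e2 : ⁅x, ((π u) ^ (q + 2) * lam) • x +
        (π u) ^ (q + 1) • (LieAlgebra.ad R L x ^ (q + 1)) u⁆ =
        ((π u) ^ (q + 1) * lam) • ⁅x, u⁆ := by
      rw [lie_add, lie_smul, lie_smul, hxx, smul_zero, zero_add, hDD, h4, smul_smul]
    rw [e1, e2, smul_smul, smul_smul, smul_smul]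
    congr 2
    ring
  · -- map_add
    intro X₀ X₁
    show ((π (X₀ + X₁)) ^ (q + 2) * lam) • x +
        (π (X₀ + X₁)) ^ (q + 1) • (LieAlgebra.ad R L x ^ (q + 1)) (X₀ + X₁) =
      (((π X₀) ^ (q + 2) * lam) • x + (π X₀) ^ (q + 1) • (LieAlgebra.ad R L x ^ (q + 1)) X₀) +
      (((π X₁) ^ (q + 2) * lam) • x + (π X₁) ^ (q + 1) • (LieAlgebra.ad R L x ^ (q + 1)) X₁) -
        jacobson R (q + 2) X₀ X₁
    rw [jacobson_eq, sum_bw x π h2 h3 X₀ X₁ q, Phi_pow]
    have hS : ∑ r ∈ Finset.range (q + 1), invc (R := R) (q + 2) (r + 1) *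
        ((π X₀) ^ r * (π X₁) ^ (q - r) * ((q.choose r : ℕ) : R)) =
        ∑ r ∈ Finset.range (q + 1), (-1) ^ r * ((π X₀) ^ r * (π X₁) ^ (q - r)) := by
      refine Finset.sum_congr rfl (fun r hr => ?_)
      have := invc_mul_choose (R := R) (q + 2) q rfl r (by
        have := Finset.mem_range.mp hr; omega)
      rw [← this]
      ring
    rw [hS]
    obtain ⟨I1, I2⟩ := S_identities q (π X₀) (π X₁)
    set S := ∑ r ∈ Finset.range (q + 1), (-1 : R) ^ r * ((π X₀) ^ r * (π X₁) ^ (q - r)) with hSdef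
    rw [map_add π, add_pow_char (π X₀) (π X₁) (q + 2), map_add (LieAlgebra.ad R L x ^ (q + 1)),
      map_sub, map_smul, map_smul, smul_add]
    set P₀ := (LieAlgebra.ad R L x ^ (q + 1)) X₀
    set P₁ := (LieAlgebra.ad R L x ^ (q + 1)) X₁
    have c0 : (π X₀ + π X₁) ^ (q + 1) • P₀ = (π X₀ ^ (q + 1) + S * π X₁) • P₀ := by rw [← I2]
    have c1 : (π X₀ + π X₁) ^ (q + 1) • P₁ = (π X₁ ^ (q + 1) - S * π X₀) • P₁ := by rw [← I1]
    rw [c0, c1]
    simp only [add_smul, sub_smul, mul_smul, smul_sub, add_mul]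
    abel

end Main


section Fin3
variable {R : Type u} [CommRing R] {L : Type v} [LieRing L] [LieAlgebra R L]
  (bs : Module.Basis (Fin 3) R L)

theorem coord_zero_self : bs.coord 0 (bs 0) = 1 := by
  simp [Module.Basis.coord_apply]

theorem coord_zero_one : bs.coord 0 (bs 1) = 0 := by
  simp [Module.Basis.coord_apply]

theorem coord_zero_two : bs.coord 0 (bs 2) = 0 := by
  simp [Module.Basis.coord_apply]

theorem h2_of_basis (hyz : ⁅bs 1, bs 2⁆ = 0) (u v : L) :
    ⁅u, v⁆ = bs.coord 0 u • ⁅bs 0, v⁆ - bs.coord 0 v • ⁅bs 0, u⁆ := by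
  have hzy : ⁅bs 2, bs 1⁆ = 0 := by rw [← lie_skew, hyz, neg_zero]
  have key : ∀ i j : Fin 3, ⁅bs i, bs j⁆ =
      bs.coord 0 (bs i) • ⁅bs 0, bs j⁆ - bs.coord 0 (bs j) • ⁅bs 0, bs i⁆ := by
    intro i j
    fin_cases i <;> fin_cases j <;>
      simp [coord_zero_self, coord_zero_one, coord_zero_two, hyz, hzy]
  have hu : u ∈ Submodule.span R (Set.range bs) := by rw [bs.span_eq]; trivial
  have hv : v ∈ Submodule.span R (Set.range bs) := by rw [bs.span_eq]; trivial
  induction hu using Submodule.span_induction with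
  | mem u hu =>
    obtain ⟨i, rfl⟩ := hu
    induction hv using Submodule.span_induction with
    | mem v hv =>
      obtain ⟨j, rfl⟩ := hv
      exact key i j
    | zero => simp
    | add a b _ _ ha hb =>
      rw [lie_add, ha, hb, map_add, lie_add, add_smul, smul_add]
      abel
    | smul c a _ ha =>
      rw [lie_smul, ha, map_smul, lie_smul, smul_eq_mul]
      module
  | zero => simp
  | add a b _ _ ha hb =>
    rw [add_lie, ha, hb, map_add, add_smul, lie_add, smul_add]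
    abel
  | smul c a _ ha =>
    rw [smul_lie, ha, map_smul, lie_smul, smul_eq_mul]
    module

theorem h3_of_basis (h1 : bs.coord 0 ⁅bs 0, bs 1⁆ = 0) (h2 : bs.coord 0 ⁅bs 0, bs 2⁆ = 0)
    (v : L) : bs.coord 0 ⁅bs 0, v⁆ = 0 := by
  have : (bs.coord 0) ∘ₗ (LieAlgebra.ad R L (bs 0)) = 0 := by
    apply bs.ext
    intro i
    fin_cases i <;> simp [h1, h2]
  exact LinearMap.congr_fun this v

end Fin3

end Groth.Agent.Lib.Helper22.PLieSemi
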