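import Mathlib
import Groth.Prelude.Def_PLie
import Groth.Agent.Lib.Helper22PLieSemi
import Groth.Agent.Lib.Helper22PLieQuot

namespace Groth.Agent.Lib.Helper11Jacobson

open PLie Finset Groth.Agent.Lib.Helper22.PLieSemi

attribute [local instance 100] LieRing.ofAssociativeRing

section Ring

variable {R : Type*} [CommRing R] {B : Type*} [Ring B] [Algebra R B]

theorem neg_one_pow_pred (p : ℕ) [hp : Fact p.Prime] [CharP R p] : (-1 : R) ^ (p - 1) = 1 := by
  have := choose_pred_cast (R := R) p (p - 1) le_rfl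
  rw [Nat.choose_self, Nat.cast_one] at this
  exact this.symm

/-- `Σ_j Y^j Z Y^(p-1-j) = (ad Y)^(p-1) Z` in characteristic `p`. -/
theorem sum_pow_mul_pow_eq_ad_pow (p : ℕ) [hp : Fact p.Prime] [CharP R p] (Y Z : B) :
    ∑ j ∈ range p, Y ^ j * Z * Y ^ (p - 1 - j) = (LieAlgebra.ad R B Y ^ (p - 1)) Z := by
  have hp0 : 0 < p := hp.out.pos
  have had : LieAlgebra.ad R B Y = LinearMap.mulLeft R Y + -LinearMap.mulRight R Y := by
    ext w
    simp [LieAlgebra.ad_apply, Ring.lie_def, sub_eq_add_neg]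
  have hc : Commute (LinearMap.mulLeft R Y) (-LinearMap.mulRight R Y) :=
    (LinearMap.commute_mulLeft_right Y Y).neg_right
  rw [had, hc.add_pow, LinearMap.sum_apply]
  have hrange : range (p - 1 + 1) = range p := by congr 1; omega
  rw [hrange]
  apply Finset.sum_congr rfl
  intro j hj
  rw [Finset.mem_range] at hj
  rw [neg_pow, LinearMap.pow_mulLeft, LinearMap.pow_mulRight]
  simp only [Module.End.mul_apply, Module.End.natCast_apply, LinearMap.mulLeft_apply,
    LinearMap.mulRight_apply]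
  have h1 : (((p - 1).choose j : ℕ)) • Z = ((-1 : R) ^ j) • Z := by
    rw [← choose_pred_cast (R := R) p j (by omega), Nat.cast_smul_eq_nsmul]
  rw [h1]
  have h2 : ∀ (k : ℕ) (w : B), ((-1 : Module.End R B) ^ k) w = ((-1 : R) ^ k) • w := by
    intro k w
    induction k with
    | zero => simp
    | succ k ih => rw [pow_succ, Module.End.mul_apply, pow_succ, mul_smul]; simp [ih]
  rw [h2]
  have h3 : (-1 : R) ^ (p - 1 - j) * (-1 : R) ^ j = 1 := by
    rw [← pow_add, show p - 1 - j + j = p - 1 by omega, neg_one_pow_pred]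
  calc Y ^ j * Z * Y ^ (p - 1 - j)
      = ((-1 : R) ^ (p - 1 - j) * (-1 : R) ^ j) • (Y ^ j * Z * Y ^ (p - 1 - j)) := by
        rw [h3, one_smul]
    _ = _ := by
        rw [mul_smul]
        simp [mul_assoc]

end Ring

end Groth.Agent.Lib.Helper11Jacobson
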