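import Mathlib
import Groth.Prelude.Def_PLie
import Groth.Agent.Lib.Helper11JacobsonA

namespace Groth.Agent.Lib.Helper11Jacobson

open PLie Finset Groth.Agent.Lib.Helper22.PLieSemi

attribute [local instance 100] LieRing.ofAssociativeRing

/-- number of `true` values -/
def cntT {n : ℕ} (t : Fin n → Bool) : ℕ := (Finset.univ.filter (fun i => t i = true)).card

theorem cntT_cons {n : ℕ} (b : Bool) (t : Fin n → Bool) :
    cntT (Fin.cons b t : Fin (n + 1) → Bool) = cntT t + (if b = true then 1 else 0) := by
  unfold cntT
  rw [Fin.card_filter_univ_succ']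
  simp only [Fin.cons_zero, Fin.cons_succ]
  rw [add_comm]

theorem cnt_add_cntT {n : ℕ} (t : Fin n → Bool) : cnt t + cntT t = n := by
  unfold cnt cntT
  have h := Finset.card_filter_add_card_filter_not (s := (Finset.univ : Finset (Fin n)))
    (fun i => t i = false)
  have h2 : (Finset.univ.filter (fun i : Fin n => ¬ t i = false)) =
      Finset.univ.filter (fun i => t i = true) := by
    ext i; simp
  rw [h2] at h
  simpa using h

theorem cnt_eq_card {n : ℕ} (t : Fin n → Bool) : Fintype.card {i // t i = false} = cnt t := by
  unfold cnt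
  rw [Fintype.card_subtype]

section Ring

variable {R : Type*} [CommRing R] {B : Type*} [Ring B] [Algebra R B]

/-- expansion of `(ad (u + vT))^n` into bracket words, `T` central -/
theorem ad_pow_expand (u v T Z : B) (hT : ∀ a : B, T * a = a * T) (n : ℕ) :
    (LieAlgebra.ad R B (u + v * T) ^ n) Z =
      ∑ t : Fin n → Bool, T ^ cntT t * bracketWord (pair u v) Z (List.ofFn t) := by
  have hTk : ∀ (k : ℕ) (a : B), T ^ k * a = a * T ^ k := by
    intro k a
    induction k with
    | zero => simp
    | succ k ih => rw [pow_succ, mul_assoc, hT, ← mul_assoc, ih, mul_assoc]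
  induction n with
  | zero =>
    simp [cntT]
  | succ n ih =>
    rw [pow_succ', Module.End.mul_apply, ih, Helper22.PLieSemi.sum_cons, map_sum, ← Finset.sum_add_distrib]
    apply Finset.sum_congr rfl
    intro t _
    rw [cntT_cons, cntT_cons, List.ofFn_cons, List.ofFn_cons, bracketWord_cons, bracketWord_cons]
    set W := bracketWord (pair u v) Z (List.ofFn t) with hW
    set k := cntT t with hk
    have hpf : pair u v false = u := rfl
    have hpt : pair u v true = v := rfl
    rw [hpf, hpt]
    simp only [LieAlgebra.ad_apply, Ring.lie_def, Bool.false_eq_true, if_false, if_true, add_zero]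
    have h1 : u * T ^ k = T ^ k * u := (hTk k u).symm
    have h2 : v * T * T ^ k = T ^ (k + 1) * v := by
      rw [mul_assoc, ← pow_succ', hTk (k + 1) v]
    have h3 : T ^ k * W * v * T = T ^ (k + 1) * W * v := by
      rw [← hT (T ^ k * W * v), ← mul_assoc, ← mul_assoc, ← pow_succ']
    have e1 : (u + v * T) * (T ^ k * W) = T ^ k * (u * W) + T ^ (k + 1) * (v * W) := by
      calc (u + v * T) * (T ^ k * W) = u * T ^ k * W + v * T * T ^ k * W := by noncomm_ring
        _ = T ^ k * u * W + T ^ (k + 1) * v * W := by rw [h1, h2]
        _ = _ := by noncomm_ring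
    have e2 : T ^ k * W * (u + v * T) = T ^ k * (W * u) + T ^ (k + 1) * (W * v) := by
      calc T ^ k * W * (u + v * T) = T ^ k * W * u + T ^ k * W * v * T := by noncomm_ring
        _ = T ^ k * W * u + T ^ (k + 1) * W * v := by rw [h3]
        _ = _ := by noncomm_ring
    rw [e1, e2]
    noncomm_ring

end Ring

end Groth.Agent.Lib.Helper11Jacobson
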