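import Mathlib
import Groth.Prelude.Def_PLie
import Groth.Agent.Lib.Helper11JacobsonB

namespace Groth.Agent.Lib.Helper11Jacobson

open PLie Finset Polynomial Groth.Agent.Lib.Helper22.PLieSemi

attribute [local instance 100] LieRing.ofAssociativeRing

section Ring

variable {R : Type*} [CommRing R] {A : Type*} [Ring A] [Algebra R A]

theorem derivative_pow_lin (x₀ x₁ : A) (n : ℕ) :
    derivative ((C x₀ + C x₁ * X) ^ n) =
      ∑ j ∈ range n, (C x₀ + C x₁ * X) ^ j * C x₁ * (C x₀ + C x₁ * X) ^ (n - 1 - j) := by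
  induction n with
  | zero => simp
  | succ n ih =>
    rw [pow_succ, derivative_mul, ih, Finset.sum_range_succ, Finset.sum_mul]
    have hd : derivative (C x₀ + C x₁ * X) = C x₁ := by simp
    rw [hd]
    congr 1
    · apply Finset.sum_congr rfl
      intro j hj
      rw [Finset.mem_range] at hj
      rw [mul_assoc, ← pow_succ]
      congr 2
      omega
    · simp

theorem bracketWord_C (x₀ x₁ z : A) (w : List Bool) :
    bracketWord (pair (C x₀) (C x₁)) (C z) w = C (bracketWord (pair x₀ x₁) z w) := by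
  induction w with
  | nil => rfl
  | cons b w ih =>
    rw [bracketWord_cons, bracketWord_cons, ih, Ring.lie_def, Ring.lie_def]
    cases b
    · change C x₀ * _ - _ * C x₀ = C (x₀ * _ - _ * x₀)
      rw [C_sub, C_mul, C_mul]
    · change C x₁ * _ - _ * C x₁ = C (x₁ * _ - _ * x₁)
      rw [C_sub, C_mul, C_mul]

variable (R) (p : ℕ) [hp : Fact p.Prime] [CharP R p]

include R in
theorem derivative_pow_eq_sum_words (x₀ x₁ : A) :
    derivative ((C x₀ + C x₁ * X) ^ p) =
      ∑ t : Fin (p - 1) → Bool, X ^ cntT t * C (bracketWord (pair x₀ x₁) x₁ (List.ofFn t)) := by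
  rw [derivative_pow_lin, sum_pow_mul_pow_eq_ad_pow (R := R) p,
    ad_pow_expand (R := R) (C x₀) (C x₁) X (C x₁) (fun a => X_mul)]
  apply Finset.sum_congr rfl
  intro t _
  rw [bracketWord_C]

include R in
theorem coeff_succ_pow_mul (x₀ x₁ : A) (m : ℕ) :
    ((C x₀ + C x₁ * X) ^ p).coeff (m + 1) * ((m + 1 : ℕ) : A) =
      ∑ t : Fin (p - 1) → Bool,
        if cntT t = m then bracketWord (pair x₀ x₁) x₁ (List.ofFn t) else 0 := by
  have h := congrArg (fun q : A[X] => q.coeff m) (derivative_pow_eq_sum_words R p x₀ x₁)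
  simp only [coeff_derivative, finsetSum_coeff] at h
  rw [Nat.cast_add, Nat.cast_one, h]
  apply Finset.sum_congr rfl
  intro t _
  rw [coeff_X_pow_mul', coeff_C]
  by_cases hk : cntT t = m
  · rw [if_pos hk, if_pos (le_of_eq hk), if_pos (by omega)]
  · rw [if_neg hk]
    by_cases hle : cntT t ≤ m
    · rw [if_pos hle, if_neg (by omega)]
    · rw [if_neg hle]

omit [Algebra R A] in
theorem natDegree_lin_le (x₀ x₁ : A) : (C x₀ + C x₁ * X).natDegree ≤ 1 := by
  rw [add_comm]
  exact natDegree_linear_le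

theorem coeff_zero_pow_lin (x₀ x₁ : A) (n : ℕ) : ((C x₀ + C x₁ * X) ^ n).coeff 0 = x₀ ^ n := by
  induction n with
  | zero => simp
  | succ n ih => rw [pow_succ, mul_coeff_zero, ih, pow_succ]; simp

theorem coeff_top_pow_lin (x₀ x₁ : A) (n : ℕ) : ((C x₀ + C x₁ * X) ^ n).coeff n = x₁ ^ n := by
  induction n with
  | zero => simp
  | succ n ih =>
    have h1 : ((C x₀ + C x₁ * X) ^ n).natDegree ≤ n := by
      have := natDegree_pow_le_of_le n (natDegree_lin_le x₀ x₁)
      simpa using this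
    rw [pow_succ, coeff_mul_add_eq_of_natDegree_le h1 (natDegree_lin_le x₀ x₁), ih, pow_succ]
    simp

theorem sum_coeff_pow_lin (x₀ x₁ : A) (n : ℕ) :
    (x₀ + x₁) ^ n = ∑ s ∈ range (n + 1), ((C x₀ + C x₁ * X) ^ n).coeff s := by
  let Φ : A[X] →+* A := eval₂RingHom' (RingHom.id A) 1 (fun a => Commute.one_right a)
  have hΦ : ∀ q : A[X], Φ q = eval₂ (RingHom.id A) 1 q := fun q => rfl
  have h1 : Φ ((C x₀ + C x₁ * X) ^ n) = (x₀ + x₁) ^ n := by
    rw [map_pow]
    congr 1
    rw [hΦ]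
    simp [eval₂_add, eval₂_mul_X]
  rw [← h1, hΦ]
  have hdeg : ((C x₀ + C x₁ * X) ^ n).natDegree < n + 1 := by
    have := natDegree_pow_le_of_le n (natDegree_lin_le x₀ x₁)
    omega
  rw [eval₂_eq_sum_range' _ hdeg]
  simp

end Ring

end Groth.Agent.Lib.Helper11Jacobson
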