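import Mathlib
import Groth.Prelude.Def_PLie
import Groth.Agent.Lib.Helper11JacobsonC

namespace Groth.Agent.Lib.Helper11Jacobson

open PLie Finset Polynomial Groth.Agent.Lib.Helper22.PLieSemi

attribute [local instance 100] LieRing.ofAssociativeRing

section Ring

variable (R : Type*) [CommRing R] {A : Type*} [Ring A] [Algebra R A]
variable (p : ℕ) [hp : Fact p.Prime] [CharP R p]

theorem invc_zero : invc (R := R) p 0 = 0 := by
  unfold invc
  simp

theorem invc_compl (r s : ℕ) (h : r + s = p) : invc (R := R) p r = -invc (R := R) p s := by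
  unfold invc
  rw [← map_neg]
  congr 1
  have : (r : ZMod p) = -(s : ZMod p) := by
    have h2 : ((r + s : ℕ) : ZMod p) = 0 := by rw [h]; exact ZMod.natCast_self p
    rw [Nat.cast_add] at h2
    exact eq_neg_of_add_eq_zero_left h2
  rw [this, inv_neg]

theorem jacobson_eq_sum (x₀ x₁ : A) :
    jacobson R p x₀ x₁ = ∑ t : Fin (p - 1) → Bool,
      invc (R := R) p (cnt t) • bracketWord (pair x₀ x₁) x₁ (List.ofFn t) := by
  unfold jacobson
  apply Finset.sum_congr rfl
  intro t _
  rw [cnt_eq_card]
  rfl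

/-- **Jacobson's formula** in an associative algebra of characteristic `p`. -/
theorem jacobson_formula (x₀ x₁ : A) :
    (x₀ + x₁) ^ p = x₀ ^ p + x₁ ^ p - jacobson R p x₀ x₁ := by
  have hp0 : 0 < p := hp.out.pos
  have hp1 : 1 ≤ p := hp0
  set W : (Fin (p - 1) → Bool) → A := fun t => bracketWord (pair x₀ x₁) x₁ (List.ofFn t) with hW
  set c : ℕ → A := fun s => ((C x₀ + C x₁ * X) ^ p).coeff s with hc
  have hmid : ∀ s ∈ Ico 1 p, c s = ∑ t : Fin (p - 1) → Bool,
      if cntT t + 1 = s then invc (R := R) p s • W t else 0 := by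
    intro s hs
    rw [Finset.mem_Ico] at hs
    obtain ⟨m, rfl⟩ : ∃ m, s = m + 1 := ⟨s - 1, by omega⟩
    have h := coeff_succ_pow_mul R p x₀ x₁ m
    have hcast : ((m + 1 : ℕ) : A) = ((m + 1 : ℕ) : R) • (1 : A) := by
      rw [Nat.cast_smul_eq_nsmul, nsmul_eq_mul, mul_one]
    rw [hcast, mul_smul_comm, mul_one] at h
    have hinv := invc_mul (R := R) p (m + 1) (by omega) hs.2
    calc c (m + 1) = (invc (R := R) p (m + 1) * ((m + 1 : ℕ) : R)) • c (m + 1) := by
          rw [hinv, one_smul]
      _ = invc (R := R) p (m + 1) • (((m + 1 : ℕ) : R) • c (m + 1)) := by rw [mul_smul]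
      _ = _ := by
          rw [h, Finset.smul_sum]
          apply Finset.sum_congr rfl
          intro t _
          by_cases hk : cntT t = m
          · rw [if_pos hk, if_pos (by omega)]
          · rw [if_neg hk, if_neg (by omega), smul_zero]
  have hsum := sum_coeff_pow_lin x₀ x₁ p
  have hsplit : range (p + 1) = insert 0 (insert p (Ico 1 p)) := by
    ext s; simp only [Finset.mem_range, Finset.mem_insert, Finset.mem_Ico]; omega
  rw [hsum, hsplit, Finset.sum_insert (by simp; omega), Finset.sum_insert (by simp)]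
  change c 0 + (c p + ∑ s ∈ Ico 1 p, c s) = _
  have hc0 : c 0 = x₀ ^ p := coeff_zero_pow_lin x₀ x₁ p
  have hcp : c p = x₁ ^ p := coeff_top_pow_lin x₀ x₁ p
  rw [hc0, hcp, Finset.sum_congr rfl hmid, Finset.sum_comm, jacobson_eq_sum]
  have hterm : ∀ t : Fin (p - 1) → Bool,
      (∑ s ∈ Ico 1 p, if cntT t + 1 = s then invc (R := R) p s • W t else 0) =
        -(invc (R := R) p (cnt t) • W t) := by
    intro t
    rw [Finset.sum_ite_eq (Ico 1 p) (cntT t + 1) (fun s => invc (R := R) p s • W t)]
    have hct := cnt_add_cntT t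
    by_cases hlt : cntT t + 1 < p
    · rw [if_pos (Finset.mem_Ico.mpr ⟨by omega, hlt⟩)]
      rw [invc_compl R p (cnt t) (cntT t + 1) (by omega), neg_smul, neg_neg]
    · rw [if_neg (by rw [Finset.mem_Ico]; omega)]
      have : cnt t = 0 := by omega
      rw [this, invc_zero, zero_smul, neg_zero]
  rw [Finset.sum_congr rfl (fun t _ => hterm t), Finset.sum_neg_distrib]
  abel

end Ring

end Groth.Agent.Lib.Helper11Jacobson
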