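import Mathlib

/-! Poincaré–Birkhoff–Witt over a commutative ring (copy of LeadPBW with the field hypothesis relaxed), for a Lie algebra with a basis indexed by a linear order.
Humphreys' construction of the `L`-action on the free module on sorted lists. -/

namespace Groth.Agent.Lib.Helper11PBWRing


section Lists
variable {ι : Type*} [LinearOrder ι]

/-- Sorted lists. -/
abbrev SL (ι : Type*) [LinearOrder ι] := {l : List ι // l.Pairwise (· ≤ ·)}

def SL.nil : SL ι := ⟨[], List.Pairwise.nil⟩
def SL.ins (i : ι) (l : SL ι) : SL ι := ⟨l.1.orderedInsert (· ≤ ·) i, l.2.orderedInsert i l.1⟩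
def SL.tl (l : SL ι) : SL ι := ⟨l.1.tail, l.2.tail⟩
def SL.len (l : SL ι) : ℕ := l.1.length
def SL.cons (j : ι) (l : SL ι) (h : ∀ x ∈ l.1, j ≤ x) : SL ι :=
  ⟨j :: l.1, List.pairwise_cons.mpr ⟨h, l.2⟩⟩

@[simp] lemma SL.len_nil : (SL.nil : SL ι).len = 0 := rfl
@[simp] lemma SL.len_ins (i : ι) (l : SL ι) : (SL.ins i l).len = l.len + 1 :=
  List.orderedInsert_length _ _ _
@[simp] lemma SL.len_cons (j : ι) (l : SL ι) (h) : (SL.cons j l h).len = l.len + 1 := rfl
@[simp] lemma SL.tl_cons (j : ι) (l : SL ι) (h) : (SL.cons j l h).tl = l := rfl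

lemma SL.ins_comm (i j : ι) (l : SL ι) : SL.ins i (SL.ins j l) = SL.ins j (SL.ins i l) := by
  apply Subtype.ext
  apply List.Perm.eq_of_pairwise' (r := (· ≤ ·)) (SL.ins i (SL.ins j l)).2 (SL.ins j (SL.ins i l)).2
  simp only [SL.ins]
  refine (List.perm_orderedInsert (· ≤ ·) i _).trans ?_
  refine ((List.perm_orderedInsert (· ≤ ·) j _).cons _).trans ?_
  refine (List.Perm.swap _ _ _).trans ?_
  refine ((List.perm_orderedInsert (· ≤ ·) i _).cons _).symm.trans ?_
  exact (List.perm_orderedInsert (· ≤ ·) j _).symm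

lemma SL.cases (l : SL ι) : l = SL.nil ∨ ∃ j l' h, l = SL.cons j l' h := by
  obtain ⟨l, hl⟩ := l
  cases l with
  | nil => left; rfl
  | cons j l' =>
    right
    exact ⟨j, ⟨l', hl.of_cons⟩, (List.pairwise_cons.mp hl).1, rfl⟩

lemma SL.ins_nil (i : ι) : SL.ins i SL.nil = SL.cons i SL.nil (by simp [SL.nil]) := rfl

lemma SL.ins_eq_cons (j : ι) (l : SL ι) (h : ∀ x ∈ l.1, j ≤ x) : SL.ins j l = SL.cons j l h := by
  apply Subtype.ext
  obtain ⟨l, hl⟩ := l
  cases l with
  | nil => rfl
  | cons a l' =>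
    simp only [SL.ins, SL.cons]
    exact List.orderedInsert_cons_of_le _ _ (h a (by simp))

lemma SL.ins_cons_of_not_le (i j : ι) (l : SL ι) (h) (hij : ¬ i ≤ j) :
    SL.ins i (SL.cons j l h) = SL.cons j (SL.ins i l) (by
      intro x hx
      rcases (List.mem_orderedInsert _).mp hx with rfl | hx
      · exact (le_of_not_ge hij)
      · exact h x hx) := by
  apply Subtype.ext
  simp only [SL.ins, SL.cons]
  exact List.orderedInsert_of_not_le _ _ hij

lemma SL.mem_ins {i x : ι} {l : SL ι} : x ∈ (SL.ins i l).1 ↔ x = i ∨ x ∈ l.1 :=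
  List.mem_orderedInsert _

end Lists

section Action

variable {k : Type*} [CommRing k] {L : Type*} [LieRing L] [LieAlgebra k L]
variable {ι : Type*} [LinearOrder ι] (b : Module.Basis ι k L)

/-- The free module on sorted lists. -/
abbrev S (k ι : Type*) [CommRing k] [LinearOrder ι] := SL ι →₀ k

/-- Basis vector. -/
noncomputable abbrev z (l : SL ι) : S k ι := Finsupp.single l 1

/-- Length filtration. -/
noncomputable def F (d : ℕ) : Submodule k (S k ι) := Finsupp.supported k k {l : SL ι | l.len ≤ d}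

lemma z_mem_F {l : SL ι} {d : ℕ} (h : l.len ≤ d) : (z l : S k ι) ∈ F (k := k) d :=
  Finsupp.single_mem_supported k 1 h

lemma F_mono {d e : ℕ} (h : d ≤ e) : F (k := k) (ι := ι) d ≤ F e :=
  Finsupp.supported_mono fun _ hl => le_trans hl h

lemma F_eq_span (d : ℕ) : F (k := k) (ι := ι) d = Submodule.span k ((fun l => (z l : S k ι)) '' {l : SL ι | l.len ≤ d}) :=
  Finsupp.supported_eq_span_single k _

/-- To prove a submodule-membership for the image of `F d` under a linear map, check basis vectors. -/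
lemma map_F_le {M : Type*} [AddCommGroup M] [Module k M] (T : S k ι →ₗ[k] M) (N : Submodule k M) (d : ℕ)
    (h : ∀ l : SL ι, l.len ≤ d → T (z l) ∈ N) {p : S k ι} (hp : p ∈ F d) : T p ∈ N := by
  rw [F_eq_span] at hp
  have : Submodule.span k ((fun l => (z l : S k ι)) '' {l : SL ι | l.len ≤ d}) ≤ N.comap T := by
    rw [Submodule.span_le]
    rintro _ ⟨l, hl, rfl⟩
    exact h l hl
  exact this hp

lemma eq_on_F {M : Type*} [AddCommGroup M] [Module k M] (T T' : S k ι →ₗ[k] M) (d : ℕ)
    (h : ∀ l : SL ι, l.len ≤ d → T (z l) = T' (z l)) {p : S k ι} (hp : p ∈ F d) : T p = T' p := by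
  have := map_F_le (T - T') ⊥ d (fun l hl => by simp [h l hl]) hp
  simpa [sub_eq_zero] using this

include b in
lemma mem_of_basis {M : Type*} [AddCommGroup M] [Module k M] (T : L →ₗ[k] M) (N : Submodule k M)
    (h : ∀ i, T (b i) ∈ N) (x : L) : T x ∈ N := by
  have hx : x ∈ Submodule.span k (Set.range b) := by rw [b.span_eq]; trivial
  have h2 : Submodule.span k (Set.range b) ≤ N.comap T :=
    Submodule.span_le.mpr (by rintro _ ⟨i, rfl⟩; exact h i)
  exact h2 hx

/-- The correction term. -/
noncomputable def corr (A : L →ₗ[k] S k ι →ₗ[k] S k ι) (i : ι) (l : SL ι) : S k ι :=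
  match l.1.head? with
  | Option.none => 0
  | Option.some j => if i ≤ j then 0 else
      A (b j) (A (b i) (z l.tl) - z (SL.ins i l.tl)) + A ⁅b i, b j⁆ (z l.tl)

lemma corr_nil (A : L →ₗ[k] S k ι →ₗ[k] S k ι) (i : ι) : corr b A i SL.nil = 0 := rfl

lemma corr_cons (A : L →ₗ[k] S k ι →ₗ[k] S k ι) (i j : ι) (l : SL ι) (h) :
    corr b A i (SL.cons j l h) = if i ≤ j then 0 else
      A (b j) (A (b i) (z l) - z (SL.ins i l)) + A ⁅b i, b j⁆ (z l) := rfl

noncomputable def step (A : L →ₗ[k] S k ι →ₗ[k] S k ι) : L →ₗ[k] S k ι →ₗ[k] S k ι :=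
  b.constr k (fun i => Finsupp.linearCombination k (fun l => z (SL.ins i l) + corr b A i l))

lemma step_apply (A : L →ₗ[k] S k ι →ₗ[k] S k ι) (i : ι) (l : SL ι) :
    step b A (b i) (z l) = z (SL.ins i l) + corr b A i l := by
  simp [step, Module.Basis.constr_basis, Finsupp.linearCombination_single]

noncomputable def act : ℕ → (L →ₗ[k] S k ι →ₗ[k] S k ι)
  | 0 => 0
  | n + 1 => step b (act n)


/-! ### Properties of the truncated actions -/

def PB (n : ℕ) : Prop :=
  ∀ (i : ι) (l : SL ι), l.len < n → act b n (b i) (z l) - z (SL.ins i l) ∈ F (k := k) l.len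

lemma actB' {n : ℕ} (hB : PB b n) {d : ℕ} (hd : d < n) {p : S k ι} (hp : p ∈ F d) (x : L) :
    act b n x p ∈ F (k := k) (d + 1) := by
  refine mem_of_basis b ((act b n).flip p) (F (d + 1)) (fun i => ?_) x
  rw [LinearMap.flip_apply]
  refine map_F_le (act b n (b i)) (F (d + 1)) d (fun l hl => ?_) hp
  have h1 := hB i l (lt_of_le_of_lt hl hd)
  have h2 : (z (SL.ins i l) : S k ι) ∈ F (k := k) (d + 1) := z_mem_F (by simp; omega)
  have := Submodule.add_mem _ (F_mono (by omega : l.len ≤ d + 1) h1) h2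
  simpa using this

lemma PB_all : ∀ n, PB b n
  | 0 => fun _ _ h => absurd h (Nat.not_lt_zero _)
  | n + 1 => by
    have ih := PB_all n
    intro i l hl
    show step b (act b n) (b i) (z l) - _ ∈ _
    rw [step_apply, add_sub_cancel_left]
    rcases SL.cases l with rfl | ⟨j, l', h, rfl⟩
    · rw [corr_nil]; exact Submodule.zero_mem _
    · rw [corr_cons]
      split_ifs with hij
      · exact Submodule.zero_mem _
      · simp only [SL.len_cons] at hl ⊢
        have hl' : l'.len < n := by omega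
        refine Submodule.add_mem _ ?_ ?_
        · exact actB' b ih hl' (ih i l' hl') (b j)
        · exact actB' b ih hl' (z_mem_F le_rfl) _

def PS (n : ℕ) : Prop :=
  ∀ (x : L) (l : SL ι), l.len < n → act b (n + 1) x (z l) = act b n x (z l)

lemma actS' {n : ℕ} (hS : PS b n) {d : ℕ} (hd : d < n) {p : S k ι} (hp : p ∈ F d) (x : L) :
    act b (n + 1) x p = act b n x p :=
  eq_on_F (act b (n + 1) x) (act b n x) d (fun l hl => hS x l (lt_of_le_of_lt hl hd)) hp

lemma PS_all : ∀ n, PS b n
  | 0 => fun _ _ h => absurd h (Nat.not_lt_zero _)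
  | n + 1 => by
    have ih := PS_all n
    have hB := PB_all b n
    intro x l hl
    have : (act b (n + 2)).flip (z l) = (act b (n + 1)).flip (z l) := by
      apply b.ext
      intro i
      simp only [LinearMap.flip_apply]
      show step b (act b (n + 1)) (b i) (z l) = step b (act b n) (b i) (z l)
      rw [step_apply, step_apply]
      congr 1
      rcases SL.cases l with rfl | ⟨j, l', h, rfl⟩
      · rfl
      · rw [corr_cons, corr_cons]
        split_ifs with hij
        · rfl
        · simp only [SL.len_cons] at hl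
          have hl' : l'.len < n := by omega
          rw [ih (b i) l' hl', ih _ l' hl', actS' b ih hl' (hB i l' hl') (b j)]
    exact congrArg (fun T => T x) this

/-! ### The limit action -/

noncomputable def rhoFlip : S k ι →ₗ[k] L →ₗ[k] S k ι :=
  Finsupp.linearCombination k (fun l : SL ι => (act b (l.len + 1)).flip (z l))

noncomputable def rho : L →ₗ[k] S k ι →ₗ[k] S k ι := (rhoFlip b).flip

lemma rho_z (x : L) (l : SL ι) : rho b x (z l) = act b (l.len + 1) x (z l) := by
  simp [rho, rhoFlip, Finsupp.linearCombination_single]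

lemma act_stab (x : L) (l : SL ι) (n : ℕ) (hn : l.len < n) :
    act b n x (z l) = act b (l.len + 1) x (z l) := by
  induction n with
  | zero => omega
  | succ n ih =>
    rcases Nat.lt_succ_iff_lt_or_eq.mp hn with h | h
    · rw [PS_all b n x l h, ih h]
    · rw [h]

lemma rho_eq_act {n : ℕ} (x : L) {l : SL ι} (h : l.len < n) : rho b x (z l) = act b n x (z l) := by
  rw [rho_z, act_stab b x l n h]

lemma rho_eq_act' {n d : ℕ} (hd : d < n) (x : L) {p : S k ι} (hp : p ∈ F d) :
    rho b x p = act b n x p :=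
  eq_on_F _ _ d (fun l hl => rho_eq_act b x (lt_of_le_of_lt hl hd)) hp

lemma rho_B (i : ι) (l : SL ι) : rho b (b i) (z l) - z (SL.ins i l) ∈ F (k := k) l.len := by
  rw [rho_z]; exact PB_all b _ i l (Nat.lt_succ_self _)

lemma rho_B' {d : ℕ} {p : S k ι} (hp : p ∈ F d) (x : L) : rho b x p ∈ F (k := k) (d + 1) := by
  rw [rho_eq_act' b (Nat.lt_succ_self d) x hp]
  exact actB' b (PB_all b _) (Nat.lt_succ_self d) hp x

lemma rho_rec (i : ι) (l : SL ι) : rho b (b i) (z l) = z (SL.ins i l) + corr b (rho b) i l := by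
  rw [rho_z]
  show step b (act b l.len) (b i) (z l) = _
  rw [step_apply]
  congr 1
  rcases SL.cases l with rfl | ⟨j, l', h, rfl⟩
  · rfl
  · rw [corr_cons, corr_cons]
    split_ifs with hij
    · rfl
    · have hl' : l'.len < (SL.cons j l' h).len := by simp
      rw [← rho_eq_act b (b i) hl', ← rho_eq_act b _ hl', ← rho_eq_act' b hl' (b j) (rho_B b i l')]

lemma rho_A (i : ι) (l : SL ι) (h : ∀ x ∈ l.1, i ≤ x) : rho b (b i) (z l) = z (SL.ins i l) := by
  rw [rho_rec]
  rcases SL.cases l with rfl | ⟨j, l', h', rfl⟩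
  · rw [corr_nil, add_zero]
  · rw [corr_cons, if_pos (h j (by simp [SL.cons])), add_zero]


/-! ### The Lie relation -/

lemma case1 (i j : ι) (hji : j < i) (l : SL ι) (hl : ∀ x ∈ l.1, j ≤ x) :
    rho b (b i) (rho b (b j) (z l)) - rho b (b j) (rho b (b i) (z l)) = rho b ⁅b i, b j⁆ (z l) := by
  have e1 : rho b (b j) (z l) = z (SL.cons j l hl) := by rw [rho_A b j l hl, SL.ins_eq_cons]
  have e2 : rho b (b i) (z (SL.cons j l hl)) = z (SL.ins j (SL.ins i l)) +
      (rho b (b j) (rho b (b i) (z l) - z (SL.ins i l)) + rho b ⁅b i, b j⁆ (z l)) := by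
    rw [rho_rec, corr_cons, if_neg (not_le.mpr hji), ← SL.ins_eq_cons j l hl, SL.ins_comm]
  have e3 : rho b (b j) (z (SL.ins i l)) = z (SL.ins j (SL.ins i l)) :=
    rho_A b j _ (by
      intro x hx
      rcases SL.mem_ins.mp hx with rfl | hx
      · exact hji.le
      · exact hl x hx)
  have e4 : rho b (b j) (rho b (b i) (z l)) =
      rho b (b j) (rho b (b i) (z l) - z (SL.ins i l)) + z (SL.ins j (SL.ins i l)) := by
    rw [map_sub, e3]; abel
  rw [e1, e2, e4]; abel

lemma jacobi_aux (x y w : L) : ⁅w, ⁅x, y⁆⁆ + ⁅⁅x, w⁆, y⁆ + ⁅x, ⁅y, w⁆⁆ = 0 := by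
  rw [lie_lie, ← lie_skew y w, lie_neg]; abel

/-- Commutation of `x` with a "small" index `m` on `Y n`-type elements. -/
lemma case1_ext (i m : ι) (hmi : m < i) (j : ι) (hmj : m < j) (N : SL ι) (hN : ∀ x ∈ N.1, m ≤ x)
    (IH : ∀ p ∈ F (k := k) N.len, ∀ x y : L,
      rho b x (rho b y p) - rho b y (rho b x p) = rho b ⁅x, y⁆ p) :
    rho b (b i) (rho b (b m) (rho b (b j) (z N))) - rho b (b m) (rho b (b i) (rho b (b j) (z N)))
      = rho b ⁅b i, b m⁆ (rho b (b j) (z N)) := by
  have hw := rho_B b j N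
  set w := rho b (b j) (z N) - z (SL.ins j N) with hwdef
  have hq : rho b (b j) (z N) = z (SL.ins j N) + w := by rw [hwdef]; abel
  have c1 := case1 b i m hmi (SL.ins j N) (by
    intro x hx
    rcases SL.mem_ins.mp hx with rfl | hx
    · exact hmj.le
    · exact hN x hx)
  have c2 := IH w hw (b i) (b m)
  rw [hq]
  simp only [map_add]
  rw [← c1, ← c2]; abel

lemma case2 (i j m : ι) (hmj : m < j) (hmi : m < i) (N : SL ι) (hN : ∀ x ∈ N.1, m ≤ x)
    (IH : ∀ p ∈ F (k := k) N.len, ∀ x y : L,
      rho b x (rho b y p) - rho b y (rho b x p) = rho b ⁅x, y⁆ p) :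
    rho b (b i) (rho b (b j) (z (SL.cons m N hN))) - rho b (b j) (rho b (b i) (z (SL.cons m N hN)))
      = rho b ⁅b i, b j⁆ (z (SL.cons m N hN)) := by
  have hn : (z N : S k ι) ∈ F (k := k) N.len := z_mem_F le_rfl
  have f0 : (z (SL.cons m N hN) : S k ι) = rho b (b m) (z N) := by
    rw [rho_A b m N hN, SL.ins_eq_cons]
  have f1 := case1 b j m hmj N hN
  have f2 := case1 b i m hmi N hN
  have f3 := case1_ext b i m hmi j hmj N hN IH
  have f4 := case1_ext b j m hmj i hmi N hN IH
  have g1 := IH _ hn (b i) (b j)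
  have g2 := IH _ hn ⁅b i, b m⁆ (b j)
  have g3 := IH _ hn (b i) ⁅b j, b m⁆
  have g4 := IH _ hn (b m) ⁅b i, b j⁆
  have hJ : rho b ⁅b m, ⁅b i, b j⁆⁆ (z N) + rho b ⁅⁅b i, b m⁆, b j⁆ (z N)
      + rho b ⁅b i, ⁅b j, b m⁆⁆ (z N) = 0 := by
    rw [← LinearMap.add_apply, ← LinearMap.add_apply, ← map_add, ← map_add, jacobi_aux,
      map_zero, LinearMap.zero_apply]
  rw [f0]
  -- Y (K n) = K (Y n) + ρ[j,m] n ;  X (K n) = K (X n) + ρ[i,m] n
  have f1' : rho b (b j) (rho b (b m) (z N)) = rho b (b m) (rho b (b j) (z N)) + rho b ⁅b j, b m⁆ (z N) := by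
    rw [← f1]; abel
  have f2' : rho b (b i) (rho b (b m) (z N)) = rho b (b m) (rho b (b i) (z N)) + rho b ⁅b i, b m⁆ (z N) := by
    rw [← f2]; abel
  rw [f1', f2']
  simp only [map_add]
  have f3' : rho b (b i) (rho b (b m) (rho b (b j) (z N))) =
      rho b (b m) (rho b (b i) (rho b (b j) (z N))) + rho b ⁅b i, b m⁆ (rho b (b j) (z N)) := by
    rw [← f3]; abel
  have f4' : rho b (b j) (rho b (b m) (rho b (b i) (z N))) =
      rho b (b m) (rho b (b j) (rho b (b i) (z N))) + rho b ⁅b j, b m⁆ (rho b (b i) (z N)) := by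
    rw [← f4]; abel
  rw [f3', f4']
  have g1' : rho b (b m) (rho b (b i) (rho b (b j) (z N))) - rho b (b m) (rho b (b j) (rho b (b i) (z N)))
      = rho b (b m) (rho b ⁅b i, b j⁆ (z N)) := by
    rw [← map_sub, g1]
  -- assemble
  have g4' : rho b (b m) (rho b ⁅b i, b j⁆ (z N)) =
      rho b ⁅b i, b j⁆ (rho b (b m) (z N)) + rho b ⁅b m, ⁅b i, b j⁆⁆ (z N) := by
    rw [← g4]; abel
  have e : rho b ⁅b i, b j⁆ (rho b (b m) (z N)) =
      rho b (b m) (rho b (b i) (rho b (b j) (z N))) - rho b (b m) (rho b (b j) (rho b (b i) (z N)))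
      - rho b ⁅b m, ⁅b i, b j⁆⁆ (z N) := by
    rw [g1', g4']; abel
  rw [e]
  have hJ' : rho b ⁅b m, ⁅b i, b j⁆⁆ (z N) = - rho b ⁅⁅b i, b m⁆, b j⁆ (z N)
      - rho b ⁅b i, ⁅b j, b m⁆⁆ (z N) := by
    rw [eq_sub_iff_add_eq, eq_neg_iff_add_eq_zero, ← hJ]; abel
  rw [hJ', ← g2, ← g3]; abel


attribute [local instance 100] LieRing.ofAssociativeRing

theorem CP : ∀ d, ∀ p ∈ F (k := k) d, ∀ x y : L,
    rho b x (rho b y p) - rho b y (rho b x p) = rho b ⁅x, y⁆ p := by
  intro d
  induction d using Nat.strong_induction_on with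
  | _ d IH =>
  have core : ∀ (l : SL ι), l.len ≤ d → ∀ i j, j < i →
      rho b (b i) (rho b (b j) (z l)) - rho b (b j) (rho b (b i) (z l)) = rho b ⁅b i, b j⁆ (z l) := by
    intro l hl i j hji
    rcases SL.cases l with rfl | ⟨m, N, hN, rfl⟩
    · exact case1 b i j hji SL.nil (by simp [SL.nil])
    · by_cases hjm : j ≤ m
      · exact case1 b i j hji _ (by
          intro x hx
          simp only [SL.cons, List.mem_cons] at hx
          rcases hx with rfl | hx
          · exact hjm
          · exact hjm.trans (hN x hx))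
      · have hmj : m < j := not_le.mp hjm
        simp only [SL.len_cons] at hl
        exact case2 b i j m hmj (hmj.trans hji) N hN (IH N.len (by omega))
  have key : ∀ (l : SL ι), l.len ≤ d → ∀ x y : L,
      rho b x (rho b y (z l)) - rho b y (rho b x (z l)) = rho b ⁅x, y⁆ (z l) := by
    intro l hl
    let Ψ : L →ₗ[k] L →ₗ[k] S k ι := LinearMap.mk₂ k
      (fun x y => rho b x (rho b y (z l)) - rho b y (rho b x (z l)) - rho b ⁅x, y⁆ (z l))
      (by intro x x' y; simp only [map_add, LinearMap.add_apply, add_lie]; abel)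
      (by intro c x y; simp only [map_smul, LinearMap.smul_apply, smul_lie, smul_sub])
      (by intro x y y'; simp only [map_add, LinearMap.add_apply, lie_add]; abel)
      (by intro c x y; simp only [map_smul, LinearMap.smul_apply, lie_smul, smul_sub])
    have hΨ : Ψ = 0 := by
      apply b.ext; intro i
      apply b.ext; intro j
      simp only [Ψ, LinearMap.mk₂_apply, LinearMap.zero_apply]
      rw [sub_eq_zero]
      rcases lt_trichotomy i j with h | rfl | h
      · have := core l hl j i h
        rw [← lie_skew, map_neg, LinearMap.neg_apply, ← this]; abel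
      · simp [lie_self]
      · exact core l hl i j h
    intro x y
    have := congrArg (fun T => T x y) hΨ
    simpa [Ψ, sub_eq_zero] using this
  intro p hp x y
  have := eq_on_F ((rho b x).comp (rho b y) - (rho b y).comp (rho b x)) (rho b ⁅x, y⁆) d
    (fun l hl => by simpa using key l hl x y) hp
  simpa using this

lemma mem_F_sup (p : S k ι) : p ∈ F (k := k) (p.support.sup SL.len) := by
  rw [F, Finsupp.mem_supported]
  intro l hl
  exact Finset.le_sup (f := SL.len) hl

/-- The Lie algebra homomorphism `L → End (S)`. -/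
noncomputable def rhoLie : L →ₗ⁅k⁆ Module.End k (S k ι) :=
  { rho b with
    map_lie' := by
      intro x y
      apply LinearMap.ext; intro p
      have := CP b _ p (mem_F_sup p) x y
      simp only [LieRing.of_associative_ring_bracket, LinearMap.sub_apply, Module.End.mul_apply]
      exact this.symm }

@[simp] lemma rhoLie_apply (x : L) : rhoLie b x = rho b x := rfl

open UniversalEnvelopingAlgebra in
/-- Evaluation at the empty list. -/
noncomputable def ev : UniversalEnvelopingAlgebra k L →ₗ[k] S k ι :=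
  (LinearMap.applyₗ (z SL.nil)).comp (UniversalEnvelopingAlgebra.lift k (rhoLie b)).toLinearMap

/-- Monomials. -/
noncomputable def mon (l : List ι) : UniversalEnvelopingAlgebra k L :=
  (l.map fun i => UniversalEnvelopingAlgebra.ι k (b i)).prod

@[simp] lemma mon_nil : mon b ([] : List ι) = 1 := rfl
@[simp] lemma mon_cons (i : ι) (l : List ι) :
    mon b (i :: l) = UniversalEnvelopingAlgebra.ι k (b i) * mon b l := by simp [mon]

lemma ev_mul_ι (x : L) (u : UniversalEnvelopingAlgebra k L) :
    ev b (UniversalEnvelopingAlgebra.ι k x * u) = rho b x (ev b u) := by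
  simp [ev, UniversalEnvelopingAlgebra.lift_ι_apply, Module.End.mul_apply]

lemma ev_mon (l : SL ι) : ev b (mon b l.1) = z l := by
  obtain ⟨l, hl⟩ := l
  induction l with
  | nil => simp [ev, SL.nil]
  | cons i l ih =>
    have hl' := hl.of_cons
    have hi : ∀ x ∈ l, i ≤ x := (List.pairwise_cons.mp hl).1
    rw [mon_cons, ev_mul_ι, ih hl', rho_A b i ⟨l, hl'⟩ hi, SL.ins_eq_cons i ⟨l, hl'⟩ hi]
    rfl

/-- The candidate inverse. -/
noncomputable def sig : S k ι →ₗ[k] UniversalEnvelopingAlgebra k L :=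
  Finsupp.linearCombination k (fun l : SL ι => mon b l.1)

@[simp] lemma sig_z (l : SL ι) : sig b (z l) = mon b l.1 := by
  simp [sig, Finsupp.linearCombination_single]

lemma ev_sig (p : S k ι) : ev b (sig b p) = p := by
  have : (ev b).comp (sig b) = LinearMap.id := by
    apply Finsupp.lhom_ext
    intro l c
    have : (Finsupp.single l c : S k ι) = c • z l := by simp
    rw [this, LinearMap.comp_apply, map_smul, map_smul, sig_z, ev_mon, LinearMap.id_apply]
  exact congrArg (fun T => T p) this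

lemma ι_mul_ι_sub (x y : L) :
    UniversalEnvelopingAlgebra.ι k x * UniversalEnvelopingAlgebra.ι k y =
      UniversalEnvelopingAlgebra.ι k y * UniversalEnvelopingAlgebra.ι k x +
        UniversalEnvelopingAlgebra.ι k ⁅x, y⁆ := by
  rw [LieHom.map_lie, LieRing.of_associative_ring_bracket]; abel

theorem intertwine : ∀ d, ∀ p ∈ F (k := k) d, ∀ x : L,
    UniversalEnvelopingAlgebra.ι k x * sig b p = sig b (rho b x p) := by
  intro d
  induction d using Nat.strong_induction_on with
  | _ d IH =>
  have key : ∀ (l : SL ι), l.len ≤ d → ∀ i : ι,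
      UniversalEnvelopingAlgebra.ι k (b i) * sig b (z l) = sig b (rho b (b i) (z l)) := by
    intro l hl i
    rcases SL.cases l with rfl | ⟨j, l', h, rfl⟩
    · rw [rho_A b i SL.nil (by simp [SL.nil]), sig_z, sig_z]
      simp [SL.ins, SL.nil]
    · by_cases hij : i ≤ j
      · have hall : ∀ x ∈ (SL.cons j l' h).1, i ≤ x := by
          intro x hx
          simp only [SL.cons, List.mem_cons] at hx
          rcases hx with rfl | hx
          · exact hij
          · exact hij.trans (h x hx)
        rw [rho_A b i _ hall, sig_z, sig_z, SL.ins_eq_cons i _ hall]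
        simp [SL.cons]
      · simp only [SL.len_cons] at hl
        have hl' : l'.len < d := by omega
        have IH' := IH l'.len hl'
        have hz : (z l' : S k ι) ∈ F (k := k) l'.len := z_mem_F le_rfl
        have hw := rho_B b i l'
        rw [rho_rec, corr_cons, if_neg hij]
        simp only [map_add, sig_z]
        rw [← IH' _ hw (b j), ← IH' _ hz ⁅b i, b j⁆, map_sub, mul_sub, ← IH' _ hz (b i), sig_z, sig_z,
          SL.ins_cons_of_not_le i j l' h hij]
        simp only [SL.cons, mon_cons]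
        rw [← mul_assoc, ι_mul_ι_sub (b i) (b j), add_mul, mul_assoc]
        abel
  intro p hp x
  have h1 : ∀ p ∈ F (k := k) d, ∀ i : ι,
      UniversalEnvelopingAlgebra.ι k (b i) * sig b p = sig b (rho b (b i) p) := by
    intro p hp i
    have := eq_on_F ((LinearMap.mulLeft k (UniversalEnvelopingAlgebra.ι k (b i))).comp (sig b))
      ((sig b).comp (rho b (b i))) d (fun l hl => by simpa using key l hl i) hp
    simpa using this
  have h2 : (LinearMap.mulRight k (sig b p)).comp
      ((UniversalEnvelopingAlgebra.ι k : L →ₗ⁅k⁆ UniversalEnvelopingAlgebra k L) : L →ₗ[k] _) =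
      (sig b).comp ((rho b).flip p) := by
    apply b.ext
    intro i
    simpa using h1 p hp i
  simpa using congrArg (fun T => T x) h2


omit [LinearOrder ι] in
lemma U_induction {C : UniversalEnvelopingAlgebra k L → Prop}
    (halg : ∀ r, C (algebraMap k _ r)) (hι : ∀ x, C (UniversalEnvelopingAlgebra.ι k x))
    (hmul : ∀ a b, C a → C b → C (a * b)) (hadd : ∀ a b, C a → C b → C (a + b))
    (u : UniversalEnvelopingAlgebra k L) : C u := by
  have hs : Function.Surjective (UniversalEnvelopingAlgebra.mkAlgHom k L) :=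
    RingCon.mkₐ_surjective _
  obtain ⟨t, rfl⟩ := hs u
  induction t using TensorAlgebra.induction with
  | algebraMap r => rw [AlgHom.commutes]; exact halg r
  | ι x => exact hι x
  | mul a b ha hb => rw [map_mul]; exact hmul _ _ ha hb
  | add a b ha hb => rw [map_add]; exact hadd _ _ ha hb

lemma sig_surjective : Function.Surjective (sig b) := by
  have hC : ∀ u : UniversalEnvelopingAlgebra k L, ∀ p : S k ι, ∃ q : S k ι, u * sig b p = sig b q := by
    intro u
    induction u using U_induction with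
    | halg r =>
      intro p
      exact ⟨r • p, by rw [map_smul, Algebra.algebraMap_eq_smul_one, smul_mul_assoc, one_mul]⟩
    | hι x =>
      intro p
      exact ⟨rho b x p, intertwine b _ p (mem_F_sup p) x⟩
    | hmul a c ha hc =>
      intro p
      obtain ⟨q, hq⟩ := hc p
      obtain ⟨q', hq'⟩ := ha q
      exact ⟨q', by rw [mul_assoc, hq, hq']⟩
    | hadd a c ha hc =>
      intro p
      obtain ⟨q, hq⟩ := ha p
      obtain ⟨q', hq'⟩ := hc p
      exact ⟨q + q', by rw [add_mul, hq, hq', map_add]⟩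
  intro u
  obtain ⟨q, hq⟩ := hC u (z SL.nil)
  refine ⟨q, ?_⟩
  rw [← hq, sig_z]
  simp [SL.nil]

lemma sig_injective : Function.Injective (sig b) := by
  intro p q h
  rw [← ev_sig b p, ← ev_sig b q, h]

/-- `S ≃ U`. -/
noncomputable def sigEquiv : S k ι ≃ₗ[k] UniversalEnvelopingAlgebra k L :=
  LinearEquiv.ofBijective (sig b) ⟨sig_injective b, sig_surjective b⟩

/-- The PBW basis indexed by pairwise-sorted lists. -/
noncomputable def pbwBasis' : Module.Basis (SL ι) k (UniversalEnvelopingAlgebra k L) :=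
  (Finsupp.basisSingleOne (R := k) (ι := SL ι)).map (sigEquiv b)

lemma pbwBasis'_apply (l : SL ι) : pbwBasis' b l = mon b l.1 := by
  simp [pbwBasis', sigEquiv]

/-- Index equivalence. -/
def slEquiv : SL ι ≃ {l : List ι // l.SortedLE} :=
  Equiv.subtypeEquivRight fun _ => List.sortedLE_iff_pairwise.symm

/-- The PBW basis. -/
noncomputable def pbwBasis : Module.Basis {l : List ι // l.SortedLE} k (UniversalEnvelopingAlgebra k L) :=
  (pbwBasis' b).reindex slEquiv

theorem pbwBasis_apply (l : {l : List ι // l.SortedLE}) :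
    pbwBasis b l = (l.1.map fun i => UniversalEnvelopingAlgebra.ι k (b i)).prod := by
  rw [pbwBasis, Module.Basis.reindex_apply, pbwBasis'_apply]
  rfl

end Action

end Groth.Agent.Lib.Helper11PBWRing
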