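import Mathlib
import Groth.Prelude.Def_PLie
import Groth.Agent.Lib.Helper11JacobsonD
import Groth.Agent.Lib.Helper11PBWRing

namespace Groth.Agent.Lib.Helper11Jacobson

open PLie Finset Groth.Agent.Lib.Helper22

attribute [local instance 100] LieRing.ofAssociativeRing

universe u v w

section Inj

variable {R : Type u} [CommRing R] {L : Type v} [LieRing L] [LieAlgebra R L] {ι : Type w}

/-- PBW consequence: `L → U(L)` is injective for `L` free. -/
theorem ι_injective (b : Module.Basis ι R L) :
    Function.Injective (UniversalEnvelopingAlgebra.ι R : L → UniversalEnvelopingAlgebra R L) := by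
  classical
  let _ : LinearOrder ι := linearOrderOfSTO (WellOrderingRel (α := ι))
  let pb := Helper11PBWRing.pbwBasis b
  let g : UniversalEnvelopingAlgebra R L →ₗ[R] L :=
    pb.constr R (fun l => match l.1 with
      | [i] => b i
      | _ => 0)
  have hg : ∀ i, g (UniversalEnvelopingAlgebra.ι R (b i)) = b i := by
    intro i
    have hs : ([i] : List ι).SortedLE := by simp [List.sortedLE_iff_pairwise]
    have h1 : pb ⟨[i], hs⟩ = UniversalEnvelopingAlgebra.ι R (b i) := by
      rw [Helper11PBWRing.pbwBasis_apply]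
      simp
    rw [← h1, Module.Basis.constr_basis]
  have hcomp : g.comp ((UniversalEnvelopingAlgebra.ι R : L →ₗ⁅R⁆ UniversalEnvelopingAlgebra R L) :
      L →ₗ[R] UniversalEnvelopingAlgebra R L) = LinearMap.id := by
    apply b.ext
    intro i
    simpa using hg i
  intro x x' h
  have := congrArg g h
  have e : ∀ z : L, g (UniversalEnvelopingAlgebra.ι R z) = z := fun z =>
    congrArg (fun T : L →ₗ[R] L => T z) hcomp
  rwa [e, e] at this

end Inj

section AdPow

variable (R : Type*) [CommRing R] {B : Type*} [Ring B] [Algebra R B]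
variable (p : ℕ) [hp : Fact p.Prime] [CharP R p]

/-- `(ad Y)^p = ad (Y^p)` in an associative algebra of characteristic `p`. -/
theorem ad_pow_char (Y Z : B) : (LieAlgebra.ad R B Y ^ p) Z = Y ^ p * Z - Z * Y ^ p := by
  have hp0 : 0 < p := hp.out.pos
  have e : p = (p - 1) + 1 := by omega
  conv_lhs => rw [e, pow_succ', Module.End.mul_apply]
  rw [← sum_pow_mul_pow_eq_ad_pow (R := R) p Y Z, LieAlgebra.ad_apply, Ring.lie_def,
    Finset.mul_sum, Finset.sum_mul, ← Finset.sum_sub_distrib]
  have hterm : ∀ j ∈ range p, Y * (Y ^ j * Z * Y ^ (p - 1 - j)) - Y ^ j * Z * Y ^ (p - 1 - j) * Y =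
      (fun j => Y ^ j * Z * Y ^ (p - j)) (j + 1) - (fun j => Y ^ j * Z * Y ^ (p - j)) j := by
    intro j hj
    rw [Finset.mem_range] at hj
    simp only
    have h1 : p - 1 - j = p - (j + 1) := by omega
    have h2 : Y ^ (p - j) = Y ^ (p - 1 - j) * Y := by rw [← pow_succ]; congr 1; omega
    rw [h1, pow_succ' Y j, h2, h1]
    noncomm_ring
  rw [Finset.sum_congr rfl hterm]
  have := Finset.sum_range_sub (fun j => Y ^ j * Z * Y ^ (p - j)) p
  rw [this]
  simp

end AdPow

end Groth.Agent.Lib.Helper11Jacobson
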