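import Mathlib
import Groth.Prelude.Def_PLie
import Groth.Agent.Lib.Helper11JacobsonE

namespace Groth.Agent.Lib.Helper11Jacobson

open PLie Finset Groth.Agent.Lib.Helper22

attribute [local instance 100] LieRing.ofAssociativeRing

universe u v w

section Main

variable (R : Type u) [CommRing R] (p : ℕ) [hp : Fact p.Prime] [CharP R p]
  (L : Type v) [LieRing L] [LieAlgebra R L] {ι : Type w} (b : Module.Basis ι R L)

/-- existence part of Jacobson's theorem -/
theorem exists_pmap (y : ι → L)
    (hy : ∀ i : ι, LieAlgebra.ad R L (b i) ^ p = LieAlgebra.ad R L (y i)) :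
    ∃ φ : PLie.PMap R p L, ∀ i : ι, φ (b i) = y i := by
  have hp0 : 0 < p := hp.out.pos
  set ιU : L →ₗ⁅R⁆ UniversalEnvelopingAlgebra R L := UniversalEnvelopingAlgebra.ι R with hιU
  have hinj : Function.Injective ιU := ι_injective b
  -- the central elements
  set z : ι → UniversalEnvelopingAlgebra R L := fun i => ιU (b i) ^ p - ιU (y i) with hz
  have hzι : ∀ i x, z i * ιU x = ιU x * z i := by
    intro i x
    have h1 := ad_pow_char R p (ιU (b i)) (ιU x)
    rw [← map_ad_pow' ιU (b i) x p, hy i, LieAlgebra.ad_apply, LieHom.map_lie, Ring.lie_def] at h1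
    simp only [hz]
    rw [sub_mul, mul_sub]
    linear_combination (norm := abel) -h1
  have hzc : ∀ i (w : UniversalEnvelopingAlgebra R L), z i * w = w * z i := by
    intro i w
    induction w using Helper11PBWRing.U_induction with
    | halg r => exact (Algebra.commutes r (z i)).symm
    | hι x => exact hzι i x
    | hmul a c ha hc => rw [← mul_assoc, ha, mul_assoc, hc, mul_assoc]
    | hadd a c ha hc => rw [mul_add, add_mul, ha, hc]
  -- the semilinear central map
  set f : L → UniversalEnvelopingAlgebra R L := fun x => (b.repr x).sum (fun i c => c ^ p • z i)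
    with hf
  have hf_add : ∀ x x', f (x + x') = f x + f x' := by
    intro x x'
    simp only [hf]
    rw [map_add, Finsupp.sum_add_index']
    · intro i; rw [zero_pow hp0.ne', zero_smul]
    · intro i c₁ c₂; rw [add_pow_char, add_smul]
  have hf_smul : ∀ (c : R) x, f (c • x) = c ^ p • f x := by
    intro c x
    simp only [hf]
    rw [map_smul, Finsupp.sum_smul_index', Finsupp.smul_sum]
    · apply Finsupp.sum_congr
      intro i _
      rw [smul_eq_mul, mul_pow, mul_smul]
    · intro i; rw [zero_pow hp0.ne', zero_smul]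
  have hf_basis : ∀ i, f (b i) = z i := by
    intro i
    simp only [hf]
    rw [Module.Basis.repr_self, Finsupp.sum_single_index]
    · rw [one_pow, one_smul]
    · rw [zero_pow hp0.ne', zero_smul]
  have hf_c : ∀ x (w : UniversalEnvelopingAlgebra R L), f x * w = w * f x := by
    intro x w
    simp only [hf, Finsupp.sum]
    rw [Finset.sum_mul, Finset.mul_sum]
    apply Finset.sum_congr rfl
    intro i _
    rw [smul_mul_assoc, mul_smul_comm, hzc]
  -- the submodule where the p-th power lands in L modulo the centre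
  let V : Submodule R L :=
    { carrier := {x | ∃ y', ιU y' = ιU x ^ p - f x}
      add_mem' := by
        rintro x x' ⟨y1, h1⟩ ⟨y2, h2⟩
        refine ⟨y1 + y2 - jacobson R p x x', ?_⟩
        rw [map_sub, map_add, h1, h2, map_jacobson ιU x x', map_add,
          jacobson_formula R p (ιU x) (ιU x'), hf_add]
        abel
      zero_mem' := by
        refine ⟨0, ?_⟩
        have : f 0 = 0 := by simp [hf]
        rw [map_zero, this, zero_pow hp0.ne', sub_zero]
      smul_mem' := by
        rintro c x ⟨y1, h1⟩
        refine ⟨c ^ p • y1, ?_⟩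
        rw [map_smul, h1, map_smul, smul_pow, hf_smul, smul_sub] }
  have hVb : ∀ i, b i ∈ V := by
    intro i
    refine ⟨y i, ?_⟩
    rw [hf_basis]
    simp only [hz]
    abel
  have hVtop : V = ⊤ := by
    rw [eq_top_iff, ← b.span_eq, Submodule.span_le]
    rintro _ ⟨i, rfl⟩
    exact hVb i
  have hV : ∀ x, ∃ y', ιU y' = ιU x ^ p - f x := by
    intro x
    have : x ∈ V := by rw [hVtop]; exact Submodule.mem_top
    exact this
  choose φ hφ using hV
  refine ⟨⟨φ, ?_, ?_, ?_⟩, ?_⟩
  · intro c x
    apply hinj
    rw [hφ, map_smul, map_smul, hφ, smul_pow, hf_smul, smul_sub]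
  · intro x
    ext w
    apply hinj
    rw [LieAlgebra.ad_apply, LieHom.map_lie, hφ, map_ad_pow' ιU x w p, ad_pow_char R p,
      Ring.lie_def, sub_mul, mul_sub, hf_c]
    abel
  · intro x x'
    apply hinj
    rw [hφ, map_sub, map_add ιU (φ x), hφ, hφ, map_jacobson ιU x x', map_add,
      jacobson_formula R p (ιU x) (ιU x'), hf_add]
    abel
  · intro i
    apply hinj
    change ιU (φ (b i)) = ιU (y i)
    rw [hφ, hf_basis]
    simp only [hz]
    abel

/-- uniqueness part: two `p`-maps agreeing on a basis agree -/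
theorem pmap_eq_of_basis (φ ψ : PLie.PMap R p L) (h : ∀ i, φ (b i) = ψ (b i)) : φ = ψ := by
  have hp0 : 0 < p := hp.out.pos
  apply PMap.ext'
  intro x
  have hx : x ∈ Submodule.span R (Set.range b) := by rw [b.span_eq]; exact Submodule.mem_top
  induction hx using Submodule.span_induction with
  | mem x hx =>
    obtain ⟨i, rfl⟩ := hx
    exact h i
  | zero =>
    have h1 := φ.map_smul 0 0
    have h2 := ψ.map_smul 0 0
    rw [zero_smul, zero_pow hp0.ne', zero_smul] at h1 h2
    change φ.toFun 0 = ψ.toFun 0
    rw [h1, h2]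
  | add x x' _ _ hx hx' =>
    change φ.toFun (x + x') = ψ.toFun (x + x')
    rw [φ.map_add, ψ.map_add]
    rw [PMap.toFun_eq_coe, PMap.toFun_eq_coe, hx, hx']
  | smul c x _ hx =>
    change φ.toFun (c • x) = ψ.toFun (c • x)
    rw [φ.map_smul, ψ.map_smul]
    rw [PMap.toFun_eq_coe, PMap.toFun_eq_coe, hx]

end Main

end Groth.Agent.Lib.Helper11Jacobson
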