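import Mathlib
import Groth.Agent.Lib.Helper11HomSm
import Groth.Agent.Lib.Helper11RedCl

/-!
Helper library (helper11): points with values in an algebraically closed extension field `K` of `k`
on schemes locally of finite type over `k`; constructible sets in Jacobson spaces.
-/

set_option autoImplicit false
universe u
open CategoryTheory CategoryTheory.Limits AlgebraicGeometry MonoidalCategory CartesianMonoidalCategory MonObj

namespace Groth.Agent.Lib.Helper11KPts

/-- a closed point of a scheme locally of finite type over a field `k` underlies a point with values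
in any algebraically closed extension `K` of `k` -/
theorem exists_point_of_closedPoint {k K : Type u} [Field k] [Field K] [Algebra k K] [IsAlgClosed K]
    {X : Scheme.{u}} (f : X ⟶ Spec (CommRingCat.of k)) [LocallyOfFiniteType f] (x : X)
    (hx : IsClosed ({x} : Set X)) :
    ∃ p : Spec (CommRingCat.of K) ⟶ X,
      p ≫ f = Spec.map (CommRingCat.ofHom (algebraMap k K)) ∧ ∀ t, p t = x := by
  have hfin : IsFinite (X.fromSpecResidueField x ≫ f) := by
    rw [isClosed_singleton_iff_isClosedImmersion] at hx
    rw [isFinite_iff_locallyOfFiniteType_of_jacobsonSpace]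
    infer_instance
  obtain ⟨φ, hφ⟩ : ∃ φ : CommRingCat.of k ⟶ X.residueField x,
      Spec.map φ = X.fromSpecResidueField x ≫ f := ⟨Spec.preimage _, Spec.map_preimage _⟩
  have hint : φ.hom.IsIntegral := by
    rw [← IsIntegralHom.SpecMap_iff, hφ]; infer_instance
  algebraize [φ.hom]
  have halg : Algebra.IsAlgebraic k (X.residueField x) := by
    have : Algebra.IsIntegral k (X.residueField x) := ⟨hint⟩
    infer_instance
  obtain ⟨ψ⟩ : Nonempty (X.residueField x →ₐ[k] K) := ⟨IsAlgClosed.lift⟩
  refine ⟨Spec.map (CommRingCat.ofHom ψ.toRingHom) ≫ X.fromSpecResidueField x, ?_, ?_⟩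
  · rw [Category.assoc, ← hφ, ← Spec.map_comp]
    congr 1
    ext a
    exact ψ.commutes a
  · intro t
    rw [Scheme.Hom.comp_apply]
    exact Scheme.fromSpecResidueField_apply x _

/-- a constructible subset of a Jacobson space without closed points is empty -/
theorem eq_empty_of_isConstructible {X : Type*} [TopologicalSpace X] [JacobsonSpace X] {s : Set X}
    (hs : Topology.IsConstructible s) (h : s ∩ closedPoints X = ∅) : s = ∅ := by
  revert h
  induction s, hs using BooleanSubalgebra.closure_sdiff_sup_induction with
  | isSublattice =>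
    exact ⟨fun s hs t ht ↦ ⟨hs.1.union ht.1, hs.2.union ht.2⟩,
      fun s hs t ht ↦ ⟨hs.1.inter ht.1, hs.2.inter_isOpen ht.2 ht.1⟩⟩
  | bot_mem => exact ⟨isOpen_empty, .empty⟩
  | top_mem => exact ⟨isOpen_univ, .univ⟩
  | sdiff U hU V hV =>
    intro h
    by_contra hne
    obtain ⟨x, hx⟩ := nonempty_inter_closedPoints (Set.nonempty_iff_ne_empty.mpr hne)
      (hU.1.isLocallyClosed.inter hV.1.isClosed_compl.isLocallyClosed)
    rw [h] at hx
    exact hx
  | sup s _ t _ hs' ht' =>
    intro h
    have h1 : s ∩ closedPoints X = ∅ := by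
      rw [← Set.subset_empty_iff, ← h]
      exact Set.inter_subset_inter_left _ Set.subset_union_left
    have h2 : t ∩ closedPoints X = ∅ := by
      rw [← Set.subset_empty_iff, ← h]
      exact Set.inter_subset_inter_left _ Set.subset_union_right
    change s ∪ t = ∅
    rw [hs' h1, ht' h2, Set.union_empty]

/-- a constructible subset of a Jacobson space containing all closed points is everything -/
theorem eq_univ_of_isConstructible {X : Type*} [TopologicalSpace X] [JacobsonSpace X] {s : Set X}
    (hs : Topology.IsConstructible s) (h : closedPoints X ⊆ s) : s = Set.univ := by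
  have := eq_empty_of_isConstructible hs.compl (by
    rw [← Set.subset_empty_iff]
    rintro x ⟨hx1, hx2⟩
    exact hx1 (h hx2))
  rwa [Set.compl_empty_iff] at this

/-- a morphism between schemes of finite type over a field `k` which is surjective on points with
values in an algebraically closed extension `K` of `k` is surjective -/
theorem surjective_of_points (k K : Type u) [Field k] [Field K] [Algebra k K] [IsAlgClosed K]
    {X Y : Over (Spec (CommRingCat.of k))} [LocallyOfFiniteType X.hom] [QuasiCompact X.hom]
    [LocallyOfFiniteType Y.hom] [QuasiCompact Y.hom] (f : X ⟶ Y)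
    (h : ∀ y : Over.mk (Spec.map (CommRingCat.ofHom (algebraMap k K))) ⟶ Y,
      ∃ x : Over.mk (Spec.map (CommRingCat.ofHom (algebraMap k K))) ⟶ X, x ≫ f = y) :
    Surjective f.left := by
  have hcX : CompactSpace ↥X.left := QuasiCompact.compactSpace_of_compactSpace X.hom
  have hcY : CompactSpace ↥Y.left := QuasiCompact.compactSpace_of_compactSpace Y.hom
  have hnY : IsLocallyNoetherian Y.left := LocallyOfFiniteType.isLocallyNoetherian Y.hom
  have hqsY : QuasiSeparatedSpace ↥Y.left := inferInstance
  have hqc : QuasiCompact f.left := inferInstance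
  have hlft : LocallyOfFiniteType (f.left ≫ Y.hom) := by rw [Over.w]; infer_instance
  have hlft' : LocallyOfFiniteType f.left := locallyOfFiniteType_of_comp f.left Y.hom
  have hlfp : LocallyOfFinitePresentation f.left := inferInstance
  have hJ : JacobsonSpace ↥Y.left := LocallyOfFiniteType.jacobsonSpace Y.hom
  have hcons : Topology.IsConstructible (Set.range f.left) := by
    rw [← Set.image_univ]
    exact f.left.isConstructible_image Topology.IsConstructible.univ
  have huniv := eq_univ_of_isConstructible hcons (by
    intro y hy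
    obtain ⟨p, hp1, hp2⟩ := exists_point_of_closedPoint (K := K) Y.hom y hy
    obtain ⟨x, hx⟩ := h (Over.homMk p hp1)
    refine ⟨x.left (IsLocalRing.closedPoint K), ?_⟩
    rw [← Scheme.Hom.comp_apply, ← Over.comp_left, hx]
    exact hp2 _)
  exact ⟨fun y => by rw [← Set.mem_range, huniv]; trivial⟩

/-- points with values in an algebraically closed field lift along surjective morphisms locally of
finite type (form over a base field) -/
theorem exists_lift_over (k K : Type u) [Field k] [Field K] [Algebra k K] [IsAlgClosed K]
    {X Y : Over (Spec (CommRingCat.of k))} (f : X ⟶ Y) [LocallyOfFiniteType f.left]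
    [Surjective f.left] (y : Over.mk (Spec.map (CommRingCat.ofHom (algebraMap k K))) ⟶ Y) :
    ∃ x : Over.mk (Spec.map (CommRingCat.ofHom (algebraMap k K))) ⟶ X, x ≫ f = y := by
  obtain ⟨g, hg⟩ := Groth.Agent.Lib.Helper11HomSm.exists_lift_point f.left y.left
  refine ⟨Over.homMk g ?_, ?_⟩
  · rw [← Over.w f, reassoc_of% hg, Over.w y]
  · ext1
    exact hg

theorem exists_lift_closedImmersion {T O U : Scheme.{u}} [IsReduced T] (f : T ⟶ U) (j : O ⟶ U)
    [IsClosedImmersion j] (h : Set.range f ⊆ Set.range j) : ∃ l : T ⟶ O, l ≫ j = f := by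
  have hker : j.ker ≤ f.ker := by
    rw [Groth.Agent.Lib.Helper11RedCl.ker_eq_of_isReduced f,
      ← Scheme.IdealSheafData.le_support_iff_le_vanishingIdeal,
      ← SetLike.coe_subset_coe, Scheme.Hom.support_ker]
    exact closure_mono h
  exact ⟨IsClosedImmersion.lift j f hker, IsClosedImmersion.lift_fac j f hker⟩

/-- a morphism from a reduced scheme locally of finite type over a field `k` factors through a
closed subscheme of the target as soon as it does so on points with values in an algebraically closed
extension `K` of `k` -/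
theorem exists_lift_of_points (k K : Type u) [Field k] [Field K] [Algebra k K] [IsAlgClosed K]
    {W X Y : Over (Spec (CommRingCat.of k))} [LocallyOfFiniteType W.hom] [IsReduced W.left]
    (φ : W ⟶ X) (c : Y ⟶ X) [IsClosedImmersion c.left]
    (h : ∀ w : Over.mk (Spec.map (CommRingCat.ofHom (algebraMap k K))) ⟶ W,
      ∃ y : Over.mk (Spec.map (CommRingCat.ofHom (algebraMap k K))) ⟶ Y, y ≫ c = w ≫ φ) :
    ∃ ψ : W ⟶ Y, ψ ≫ c = φ := by
  have hJ : JacobsonSpace ↥W.left := LocallyOfFiniteType.jacobsonSpace W.hom
  have hsub : Set.range φ.left ⊆ Set.range c.left := by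
    by_contra hne
    have hopen : IsOpen (φ.left ⁻¹' (Set.range c.left)ᶜ) :=
      c.left.isClosedEmbedding.isClosed_range.isOpen_compl.preimage φ.left.continuous
    have hnonempty : (φ.left ⁻¹' (Set.range c.left)ᶜ).Nonempty := by
      rw [Set.not_subset] at hne
      obtain ⟨_, ⟨w, rfl⟩, hw⟩ := hne
      exact ⟨w, hw⟩
    obtain ⟨w, hw1, hw2⟩ := nonempty_inter_closedPoints hnonempty hopen.isLocallyClosed
    obtain ⟨p, hp1, hp2⟩ := exists_point_of_closedPoint (K := K) W.hom w hw2
    obtain ⟨y, hy⟩ := h (Over.homMk p hp1)
    apply hw1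
    refine ⟨y.left (IsLocalRing.closedPoint K), ?_⟩
    rw [← Scheme.Hom.comp_apply, ← Over.comp_left, hy, Over.comp_left, Scheme.Hom.comp_apply]
    congr 1
    exact hp2 _
  obtain ⟨l, hl⟩ := exists_lift_closedImmersion φ.left c.left hsub
  refine ⟨Over.homMk l ?_, ?_⟩
  · rw [← Over.w c, reassoc_of% hl, Over.w φ]
  · ext1
    exact hl

end Groth.Agent.Lib.Helper11KPts
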