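import Mathlib
import Groth.Agent.Lib.Helper22FTIdeal
import Groth.Agent.Lib.Helper2Div

set_option autoImplicit false
set_option linter.style.haveILetI false
universe u v
open CategoryTheory AlgebraicGeometry Limits Opposite TopologicalSpace

namespace Groth.Agent.Lib.Helper11.KMGen

open Groth.Agent.Lib.Helper22.FTIdeal

/-- a prime with no smaller prime lying in the closure of a basic open lies in the basic open -/
theorem notMem_of_mem_closure_basicOpen {A : Type u} [CommRing A] (f : A) (p : PrimeSpectrum A)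
    (hmin : ∀ q : PrimeSpectrum A, q.asIdeal ≤ p.asIdeal → q = p)
    (hp : p ∈ closure (PrimeSpectrum.basicOpen f : Set (PrimeSpectrum A))) : f ∉ p.asIdeal := by
  rw [← PrimeSpectrum.localization_away_comap_range (Localization.Away f) f,
    PrimeSpectrum.closure_range_comap, PrimeSpectrum.mem_zeroLocus] at hp
  have hpmin : p.asIdeal ∈ (RingHom.ker (algebraMap A (Localization.Away f))).minimalPrimes := by
    refine ⟨⟨p.2, hp⟩, fun q hq hqp => ?_⟩
    have := hmin ⟨q, hq.1⟩ hqp
    rw [← this]
  rw [RingHom.ker_eq_comap_bot] at hpmin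
  obtain ⟨p', hp', -, hcomap⟩ :=
    Ideal.exists_comap_eq_of_mem_minimalPrimes (algebraMap A (Localization.Away f)) p.asIdeal hpmin
  intro hf
  have h1 : algebraMap A (Localization.Away f) f ∈ p' := by
    rw [← Ideal.mem_comap, hcomap]
    exact hf
  have h2 : IsUnit (algebraMap A (Localization.Away f) f) :=
    IsLocalization.map_units (Localization.Away f) (⟨f, Submonoid.mem_powers f⟩ : Submonoid.powers f)
  exact hp'.ne_top (Ideal.eq_top_of_isUnit_mem _ h1 h2)

variable {X : Scheme.{u}}

/-- a point without proper generizations in the closure of `D(f)` is in `D(f)` -/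
theorem mem_basicOpen_of_mem_closure {V : X.Opens} (hV : IsAffineOpen V) (f : Γ(X, V)) (a : X)
    (haV : a ∈ V) (hgen : ∀ x : X, x ⤳ a → x = a)
    (ha : a ∈ closure (X.basicOpen f : Set X)) : a ∈ X.basicOpen f := by
  rw [Groth.Agent.Lib.Helper2.mem_basicOpen_iff_notMem_primeIdealOf hV a haV f]
  set p := hV.primeIdealOf ⟨a, haV⟩ with hp
  have hpa : hV.fromSpec p = a := hV.fromSpec_primeIdealOf ⟨a, haV⟩
  refine notMem_of_mem_closure_basicOpen f p (fun q hq => ?_) ?_
  · have h1 : q ⤳ p := (PrimeSpectrum.le_iff_specializes q p).1 hq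
    have h2 : hV.fromSpec q ⤳ hV.fromSpec p := h1.map hV.fromSpec.continuous
    rw [hpa] at h2
    have h3 := hgen _ h2
    rw [← hpa] at h3
    exact hV.fromSpec.isOpenEmbedding.injective h3
  · rw [mem_closure_iff]
    intro O hO hpO
    have hO' : IsOpen (hV.fromSpec '' O) := hV.fromSpec.isOpenEmbedding.isOpenMap O hO
    have haO : a ∈ hV.fromSpec '' O := ⟨p, hpO, hpa⟩
    obtain ⟨y, ⟨q, hqO, rfl⟩, hy⟩ := mem_closure_iff.1 ha _ hO' haO
    refine ⟨q, hqO, ?_⟩
    have : q ∈ hV.fromSpec ⁻¹ᵁ X.basicOpen f := hy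
    rw [hV.fromSpec_preimage_basicOpen f] at this
    exact this

/-- a point without proper generizations in the closure of the complement of the support of a
finite type ideal sheaf is outside the support. -/
theorem notMem_support_of_mem_closure (I : X.IdealSheafData) (hI : FT I) (a : X)
    (hgen : ∀ x : X, x ⤳ a → x = a) (ha : a ∈ closure ((I.support : Set X)ᶜ)) :
    a ∉ I.support := by
  obtain ⟨V, hV, haV, -⟩ := exists_isAffineOpen_mem_and_subset (x := a) (U := ⊤) trivial
  obtain ⟨F, hF⟩ := hI ⟨V, hV⟩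
  -- the complement of the support inside `V`
  have hcov : (V : Set X) ∩ (I.support : Set X)ᶜ ⊆ ⋃ f ∈ F, (X.basicOpen f : Set X) := by
    rintro x ⟨hxV, hx⟩
    rw [Set.mem_compl_iff, SetLike.mem_coe,
      Scheme.IdealSheafData.mem_support_iff_of_mem (U := ⟨V, hV⟩) hxV, ← hF,
      Scheme.zeroLocus_span] at hx
    rw [Scheme.mem_zeroLocus_iff] at hx
    push Not at hx
    obtain ⟨f, hf, hxf⟩ := hx
    exact Set.mem_biUnion hf hxf
  have h1 : a ∈ closure ((V : Set X) ∩ (I.support : Set X)ᶜ) :=
    V.isOpen.inter_closure ⟨haV, ha⟩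
  have h2 := closure_mono hcov h1
  rw [Finset.closure_biUnion] at h2
  obtain ⟨f, hf, haf⟩ := Set.mem_iUnion₂.1 h2
  have h3 := mem_basicOpen_of_mem_closure hV f a haV hgen haf
  rw [Scheme.IdealSheafData.mem_support_iff_of_mem (U := ⟨V, hV⟩) haV, ← hF,
    Scheme.zeroLocus_span, Scheme.mem_zeroLocus_iff]
  intro h
  exact h f hf h3

end Groth.Agent.Lib.Helper11.KMGen
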