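import Mathlib
import Groth.Agent.Lib.Helper2GenFree

/-!
# Helper13GenFlat: generic flatness of cokernels (Stacks 051S-type)

`FlatAway f Q` : `Q_{fg}` is `R`-flat for all `g`. Closed under extensions, isomorphisms, increasing
unions.  `oneVar`, `tower`: for a f.g. `R`-subalgebra `C ⊆ B` (`R` a Noetherian domain), a f.g.
`C`-submodule `T` of a `B`-module `N` and finitely many `x ∈ B`, the quotient `R[x]·T / T` is
generically flat.  `main`: generic flatness of `Coker (M → N)` for `M` finite over `A`, `N` finite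
over `B`, `R → A → B` of finite type.  Uses helper2's generic freeness (`exists_freeAway`).
-/

set_option autoImplicit false

namespace Groth.Agent.Helper13GenFlat

open TensorProduct

section General

variable {R : Type*} [CommRing R]

/-- Extension of flat by flat is flat (after helper22). -/
theorem flat_of_exact {M' M M'' : Type*} [AddCommGroup M'] [AddCommGroup M] [AddCommGroup M'']
    [Module R M'] [Module R M] [Module R M''] [Module.Flat R M'] [Module.Flat R M'']
    (ι : M' →ₗ[R] M) (δ : M →ₗ[R] M'') (hι : Function.Injective ι) (hδ : Function.Surjective δ)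
    (hex : Function.Exact ι δ) : Module.Flat R M := by
  rw [Module.Flat.iff_rTensor_injective']
  intro I
  have hex2 : Function.Exact (ι.lTensor I) (δ.lTensor I) := lTensor_exact I hex hδ
  have h1 : Function.Injective (LinearMap.rTensor M' (Submodule.subtype I)) :=
    Module.Flat.rTensor_preserves_injective_linearMap _ (Submodule.subtype_injective I)
  have h2 : Function.Injective (LinearMap.rTensor M'' (Submodule.subtype I)) :=
    Module.Flat.rTensor_preserves_injective_linearMap _ (Submodule.subtype_injective I)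
  have hιR : Function.Injective (ι.lTensor R) :=
    Module.Flat.lTensor_preserves_injective_linearMap _ hι
  rw [injective_iff_map_eq_zero]
  intro x hx
  have e1 : (LinearMap.rTensor M'' (Submodule.subtype I)) ((δ.lTensor I) x) = 0 := by
    rw [← LinearMap.comp_apply, LinearMap.rTensor_comp_lTensor, ← LinearMap.lTensor_comp_rTensor,
      LinearMap.comp_apply, hx, map_zero]
  have e2 : (δ.lTensor I) x = 0 := h2 (by rw [e1, map_zero])
  obtain ⟨y, rfl⟩ := (hex2 x).mp e2
  have e3 : (ι.lTensor R) ((LinearMap.rTensor M' (Submodule.subtype I)) y) = 0 := by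
    rw [← LinearMap.comp_apply, LinearMap.lTensor_comp_rTensor, ← LinearMap.rTensor_comp_lTensor,
      LinearMap.comp_apply, hx]
  have e4 : y = 0 := h1 (by rw [map_zero]; exact hιR (by rw [e3, map_zero]))
  rw [e4, map_zero]

/-- A module which is an increasing union of flat submodules (given by injective maps) is flat. -/
theorem flat_of_directed {M : Type*} [AddCommGroup M] [Module R M]
    (Md : ℕ → Type*) [∀ d, AddCommGroup (Md d)] [∀ d, Module R (Md d)]
    (j : ∀ d, Md d →ₗ[R] M) (k : ∀ d, Md d →ₗ[R] Md (d + 1))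
    (hj : ∀ d, Function.Injective (j d)) (hk : ∀ d, (j (d + 1)).comp (k d) = j d)
    (hcov : ∀ m : M, ∃ d, m ∈ LinearMap.range (j d))
    (h : ∀ d, Module.Flat R (Md d)) : Module.Flat R M := by
  rw [Module.Flat.iff_rTensor_injective']
  intro I
  -- ranges of `lTensor I (j d)` are monotone
  have hmono : Monotone fun d => LinearMap.range ((j d).lTensor I) := by
    apply monotone_nat_of_le_succ
    intro d
    rw [← hk d, LinearMap.lTensor_comp]
    exact LinearMap.range_comp_le_range _ _
  have hcov' : ∀ x : I ⊗[R] M, ∃ d, x ∈ LinearMap.range ((j d).lTensor I) := by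
    intro x
    induction x using TensorProduct.induction_on with
    | zero => exact ⟨0, Submodule.zero_mem _⟩
    | tmul a m =>
      obtain ⟨d, m', rfl⟩ := hcov m
      exact ⟨d, a ⊗ₜ m', by simp⟩
    | add x y hx hy =>
      obtain ⟨d1, h1⟩ := hx
      obtain ⟨d2, h2⟩ := hy
      exact ⟨max d1 d2, Submodule.add_mem _ (hmono (le_max_left d1 d2) h1)
        (hmono (le_max_right d1 d2) h2)⟩
  rw [injective_iff_map_eq_zero]
  intro x hx
  obtain ⟨d, y, rfl⟩ := hcov' x
  have h1 : Function.Injective (LinearMap.rTensor (Md d) (Submodule.subtype I)) :=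
    Module.Flat.rTensor_preserves_injective_linearMap _ (Submodule.subtype_injective I)
  have h2 : Function.Injective ((j d).lTensor R) :=
    Module.Flat.lTensor_preserves_injective_linearMap _ (hj d)
  have e3 : ((j d).lTensor R) ((LinearMap.rTensor (Md d) (Submodule.subtype I)) y) = 0 := by
    rw [← LinearMap.comp_apply, LinearMap.lTensor_comp_rTensor, ← LinearMap.rTensor_comp_lTensor,
      LinearMap.comp_apply, hx]
  have e4 : y = 0 := h1 (by rw [map_zero]; exact h2 (by rw [e3, map_zero]))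
  rw [e4, map_zero]

end General

open TensorProduct

section Loc

variable {R : Type*} [CommRing R] (S : Submonoid R)
variable {M N P : Type*} [AddCommGroup M] [AddCommGroup N] [AddCommGroup P]
  [Module R M] [Module R N] [Module R P]

/-- The localized map. -/
noncomputable def locMap (h : M →ₗ[R] N) : LocalizedModule S M →ₗ[R] LocalizedModule S N :=
  IsLocalizedModule.map S (LocalizedModule.mkLinearMap S M) (LocalizedModule.mkLinearMap S N) h

theorem locMap_mk (h : M →ₗ[R] N) (m : M) (s : S) :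
    locMap S h (LocalizedModule.mk m s) = LocalizedModule.mk (h m) s := by
  unfold locMap
  rw [IsLocalizedModule.map_LocalizedModules]

theorem locMap_injective (h : M →ₗ[R] N) (hh : Function.Injective h) :
    Function.Injective (locMap S h) :=
  IsLocalizedModule.map_injective S _ _ h hh

theorem locMap_surjective (h : M →ₗ[R] N) (hh : Function.Surjective h) :
    Function.Surjective (locMap S h) :=
  IsLocalizedModule.map_surjective S _ _ h hh

theorem locMap_exact (g : M →ₗ[R] N) (h : N →ₗ[R] P) (ex : Function.Exact g h) :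
    Function.Exact (locMap S g) (locMap S h) :=
  LocalizedModule.map_exact S g h ex

theorem locMap_comp (g : M →ₗ[R] N) (h : N →ₗ[R] P) :
    locMap S (h.comp g) = (locMap S h).comp (locMap S g) := by
  apply LinearMap.ext
  intro x
  induction x using LocalizedModule.induction_on with
  | h m s => simp [locMap_mk]

end Loc

section FlatAway

variable {R : Type*} [CommRing R]

/-- `Q` is flat after inverting `f` (or any multiple of `f`). -/
def FlatAway (f : R) (Q : Type*) [AddCommGroup Q] [Module R Q] : Prop :=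
  ∀ g : R, Module.Flat R (LocalizedModule (Submonoid.powers (f * g)) Q)

variable {f : R} {Q Q' Q'' : Type*} [AddCommGroup Q] [Module R Q] [AddCommGroup Q'] [Module R Q']
  [AddCommGroup Q''] [Module R Q'']

theorem FlatAway.mul_right (h : FlatAway f Q) (g : R) : FlatAway (f * g) Q := by
  intro g'
  have := h (g * g')
  rwa [← mul_assoc] at this

theorem FlatAway.mul_left (h : FlatAway f Q) (g : R) : FlatAway (g * f) Q := by
  rw [mul_comm]; exact h.mul_right g

theorem FlatAway.of_freeAway (h : Groth.Agent.Lib.Helper2.GenFree.FreeAway R f Q) :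
    FlatAway f Q := by
  intro g
  have h1 := h.mul_right g
  have h2 : Module.Free (Localization.Away (f * g))
      (LocalizedModule (Submonoid.powers (f * g)) Q) :=
    h1.free (Localization.Away (f * g))
      (LocalizedModule.mkLinearMap (Submonoid.powers (f * g)) Q)
  exact (Module.flat_iff_of_isLocalization (Localization.Away (f * g))
    (Submonoid.powers (f * g)) _).mp inferInstance

theorem FlatAway.of_exact (ι : Q' →ₗ[R] Q) (δ : Q →ₗ[R] Q'') (hι : Function.Injective ι)
    (hδ : Function.Surjective δ) (hex : Function.Exact ι δ)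
    (h' : FlatAway f Q') (h'' : FlatAway f Q'') : FlatAway f Q := by
  intro g
  have := h' g
  have := h'' g
  exact flat_of_exact (locMap _ ι) (locMap _ δ) (locMap_injective _ ι hι)
    (locMap_surjective _ δ hδ) (locMap_exact _ ι δ hex)

theorem FlatAway.of_subsingleton [Subsingleton Q] (f : R) : FlatAway f Q := by
  intro g
  have : Subsingleton (LocalizedModule (Submonoid.powers (f * g)) Q) := by
    refine ⟨fun a b => ?_⟩
    induction a using LocalizedModule.induction_on with
    | h m s =>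
      induction b using LocalizedModule.induction_on with
      | h m' s' =>
        rw [Subsingleton.elim m 0, Subsingleton.elim m' 0, LocalizedModule.zero_mk,
          LocalizedModule.zero_mk]
  infer_instance

theorem FlatAway.of_equiv (e : Q ≃ₗ[R] Q') (h : FlatAway f Q) : FlatAway f Q' := by
  intro g
  have := h g
  have hinj : Function.Injective (locMap (Submonoid.powers (f * g)) e.toLinearMap) :=
    locMap_injective _ _ e.injective
  have hsurj : Function.Surjective (locMap (Submonoid.powers (f * g)) e.toLinearMap) :=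
    locMap_surjective _ _ e.surjective
  exact Module.Flat.of_linearEquiv (LinearEquiv.ofBijective _ ⟨hinj, hsurj⟩).symm

theorem FlatAway.of_directed (Md : ℕ → Type*) [∀ d, AddCommGroup (Md d)] [∀ d, Module R (Md d)]
    (j : ∀ d, Md d →ₗ[R] Q) (k : ∀ d, Md d →ₗ[R] Md (d + 1))
    (hj : ∀ d, Function.Injective (j d)) (hk : ∀ d, (j (d + 1)).comp (k d) = j d)
    (hcov : ∀ m : Q, ∃ d, m ∈ LinearMap.range (j d))
    (h : ∀ d, FlatAway f (Md d)) : FlatAway f Q := by
  intro g
  refine flat_of_directed (fun d => LocalizedModule (Submonoid.powers (f * g)) (Md d))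
    (fun d => locMap _ (j d)) (fun d => locMap _ (k d)) (fun d => locMap_injective _ _ (hj d))
    (fun d => ?_) (fun m => ?_) (fun d => h d g)
  · rw [← locMap_comp, hk]
  · induction m using LocalizedModule.induction_on with
    | h m s =>
      obtain ⟨d, m', rfl⟩ := hcov m
      exact ⟨d, LocalizedModule.mk m' s, locMap_mk _ _ _ _⟩

end FlatAway

section SubQ

variable {R : Type*} [CommRing R] {N : Type*} [AddCommGroup N] [Module R N]

/-- The subquotient `T₂ / (T₁ ∩ T₂)`. -/
abbrev SubQ (T₁ T₂ : Submodule R N) : Type _ := ↥T₂ ⧸ T₁.submoduleOf T₂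

/-- `T₁/T₀ → T₂/T₀` for `T₁ ≤ T₂`. -/
def SubQ.incl (T₀ : Submodule R N) {T₁ T₂ : Submodule R N} (h : T₁ ≤ T₂) :
    SubQ T₀ T₁ →ₗ[R] SubQ T₀ T₂ :=
  Submodule.mapQ _ _ (Submodule.inclusion h) (fun x hx => hx)

/-- `T₂/T₀ → T₂/T₁` for `T₀ ≤ T₁`. -/
def SubQ.proj {T₀ T₁ : Submodule R N} (h : T₀ ≤ T₁) (T₂ : Submodule R N) :
    SubQ T₀ T₂ →ₗ[R] SubQ T₁ T₂ :=
  Submodule.mapQ _ _ LinearMap.id (fun x hx => h hx)

theorem SubQ.incl_mk (T₀ : Submodule R N) {T₁ T₂ : Submodule R N} (h : T₁ ≤ T₂) (x : T₁) :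
    SubQ.incl T₀ h (Submodule.Quotient.mk x) = Submodule.Quotient.mk (Submodule.inclusion h x) :=
  rfl

theorem SubQ.proj_mk {T₀ T₁ : Submodule R N} (h : T₀ ≤ T₁) (T₂ : Submodule R N) (x : T₂) :
    SubQ.proj h T₂ (Submodule.Quotient.mk x) = Submodule.Quotient.mk x :=
  rfl

theorem SubQ.mk_eq_zero (T₁ T₂ : Submodule R N) (x : T₂) :
    (Submodule.Quotient.mk x : SubQ T₁ T₂) = 0 ↔ (x : N) ∈ T₁ := by
  rw [Submodule.Quotient.mk_eq_zero]
  rfl

theorem SubQ.incl_injective (T₀ : Submodule R N) {T₁ T₂ : Submodule R N} (h : T₁ ≤ T₂) :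
    Function.Injective (SubQ.incl T₀ h) := by
  rw [injective_iff_map_eq_zero]
  intro y hy
  induction y using Submodule.Quotient.induction_on with
  | H x =>
    rw [SubQ.incl_mk, SubQ.mk_eq_zero] at hy
    rw [SubQ.mk_eq_zero]
    exact hy

theorem SubQ.proj_surjective {T₀ T₁ : Submodule R N} (h : T₀ ≤ T₁) (T₂ : Submodule R N) :
    Function.Surjective (SubQ.proj h T₂) := by
  intro y
  induction y using Submodule.Quotient.induction_on with
  | H x => exact ⟨Submodule.Quotient.mk x, rfl⟩

theorem SubQ.exact {T₀ T₁ T₂ : Submodule R N} (h₀ : T₀ ≤ T₁) (h₁ : T₁ ≤ T₂) :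
    Function.Exact (SubQ.incl T₀ h₁) (SubQ.proj h₀ T₂) := by
  intro y
  induction y using Submodule.Quotient.induction_on with
  | H x =>
    rw [SubQ.proj_mk, SubQ.mk_eq_zero]
    constructor
    · intro hx
      exact ⟨Submodule.Quotient.mk ⟨x.1, hx⟩, rfl⟩
    · rintro ⟨z, hz⟩
      induction z using Submodule.Quotient.induction_on with
      | H w =>
        rw [SubQ.incl_mk, Submodule.Quotient.eq] at hz
        have h2 : ((Submodule.inclusion h₁ w - x : T₂) : N) ∈ T₀ := hz
        have h3 : (x : N) = (w : N) - ((Submodule.inclusion h₁ w - x : T₂) : N) := by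
          simp
        rw [h3]
        exact T₁.sub_mem w.2 (h₀ h2)

theorem SubQ.incl_comp (T₀ : Submodule R N) {T₁ T₂ T₃ : Submodule R N} (h : T₁ ≤ T₂)
    (h' : T₂ ≤ T₃) :
    (SubQ.incl T₀ h').comp (SubQ.incl T₀ h) = SubQ.incl T₀ (h.trans h') := by
  apply LinearMap.ext
  intro y
  induction y using Submodule.Quotient.induction_on with
  | H x => rfl

variable {f : R}

theorem FlatAway.subQ_self (T₀ T₁ : Submodule R N) (h : T₁ ≤ T₀) (f : R) :
    FlatAway f (SubQ T₀ T₁) := by
  have : Subsingleton (SubQ T₀ T₁) := by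
    refine ⟨fun a b => ?_⟩
    induction a using Submodule.Quotient.induction_on with
    | H x =>
      induction b using Submodule.Quotient.induction_on with
      | H y =>
        rw [(SubQ.mk_eq_zero T₀ T₁ x).mpr (h x.2), (SubQ.mk_eq_zero T₀ T₁ y).mpr (h y.2)]
  exact FlatAway.of_subsingleton f

theorem FlatAway.subQ_trans {T₀ T₁ T₂ : Submodule R N} (h₀ : T₀ ≤ T₁) (h₁ : T₁ ≤ T₂)
    (h : FlatAway f (SubQ T₀ T₁)) (h' : FlatAway f (SubQ T₁ T₂)) : FlatAway f (SubQ T₀ T₂) :=
  FlatAway.of_exact (SubQ.incl T₀ h₁) (SubQ.proj h₀ T₂) (SubQ.incl_injective T₀ h₁)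
    (SubQ.proj_surjective h₀ T₂) (SubQ.exact h₀ h₁) h h'

theorem FlatAway.subQ_chain (X : ℕ → Submodule R N) (hX : Monotone X)
    (h : ∀ d, FlatAway f (SubQ (X d) (X (d + 1)))) (d : ℕ) : FlatAway f (SubQ (X 0) (X d)) := by
  induction d with
  | zero => exact FlatAway.subQ_self _ _ le_rfl f
  | succ d ih =>
    exact FlatAway.subQ_trans (hX (Nat.zero_le d)) (hX (Nat.le_succ d)) ih (h d)

theorem FlatAway.subQ_iSup (X : ℕ → Submodule R N) (hX : Monotone X)
    (h : ∀ d, FlatAway f (SubQ (X d) (X (d + 1)))) : FlatAway f (SubQ (X 0) (⨆ d, X d)) := by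
  refine FlatAway.of_directed (fun d => SubQ (X 0) (X d))
    (fun d => SubQ.incl (X 0) (le_iSup X d)) (fun d => SubQ.incl (X 0) (hX (Nat.le_succ d)))
    (fun d => SubQ.incl_injective _ _) (fun d => SubQ.incl_comp _ _ _) (fun m => ?_)
    (fun d => FlatAway.subQ_chain X hX h d)
  induction m using Submodule.Quotient.induction_on with
  | H x =>
    obtain ⟨d, hd⟩ := (Submodule.mem_iSup_of_chain ⟨X, hX⟩ x.1).mp x.2
    exact ⟨d, Submodule.Quotient.mk ⟨x.1, hd⟩, rfl⟩

end SubQ

open Groth.Agent.Lib.Helper2.GenFree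

section OneVar

variable {R B N : Type*} [CommRing R] [CommRing B] [Algebra R B] [AddCommGroup N] [Module B N]
  [Module R N] [IsScalarTower R B N]

/-- The filtration `Pd d = T + xT + ... + x^d T`. -/
def Pd (x : B) (T : Submodule R N) : ℕ → Submodule R N
  | 0 => T
  | d + 1 => Pd x T d ⊔ T.map (Algebra.lsmul R R N (x ^ (d + 1)))

theorem Pd_zero (x : B) (T : Submodule R N) : Pd x T 0 = T := rfl

theorem Pd_succ (x : B) (T : Submodule R N) (d : ℕ) :
    Pd x T (d + 1) = Pd x T d ⊔ T.map (Algebra.lsmul R R N (x ^ (d + 1))) := rfl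

theorem Pd_mono (x : B) (T : Submodule R N) : Monotone (Pd x T) :=
  monotone_nat_of_le_succ fun _ => le_sup_left

theorem mem_Pd_succ (x : B) (T : Submodule R N) (d : ℕ) (n : N) :
    n ∈ Pd x T (d + 1) ↔ ∃ a ∈ Pd x T d, ∃ t ∈ T, a + x ^ (d + 1) • t = n := by
  rw [Pd_succ, Submodule.mem_sup]
  constructor
  · rintro ⟨a, ha, b, hb, rfl⟩
    obtain ⟨t, ht, rfl⟩ := hb
    exact ⟨a, ha, t, ht, rfl⟩
  · rintro ⟨a, ha, t, ht, rfl⟩
    exact ⟨a, ha, _, ⟨t, ht, rfl⟩, rfl⟩

theorem pow_smul_mem_Pd (x : B) (T : Submodule R N) (d : ℕ) (t : N) (ht : t ∈ T) :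
    x ^ d • t ∈ Pd x T d := by
  cases d with
  | zero => rw [pow_zero, one_smul]; exact ht
  | succ d => exact (mem_Pd_succ x T d _).mpr ⟨0, Submodule.zero_mem _, t, ht, by simp⟩

theorem smul_Pd_mem (x : B) (T : Submodule R N) (d : ℕ) (n : N) (hn : n ∈ Pd x T d) :
    x • n ∈ Pd x T (d + 1) := by
  induction d generalizing n with
  | zero =>
    have := pow_smul_mem_Pd x T 1 n hn
    simpa using this
  | succ d ih =>
    obtain ⟨a, ha, t, ht, rfl⟩ := (mem_Pd_succ x T d n).mp hn
    rw [smul_add, smul_smul, ← pow_succ']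
    exact Submodule.add_mem _ (Pd_mono x T (Nat.le_succ _) (ih a ha))
      (Pd_mono x T le_rfl (pow_smul_mem_Pd x T (d + 1 + 1) t ht))

theorem stab_Pd (C : Subalgebra R B) (x : B) (T : Submodule R N)
    (hstab : ∀ c ∈ C, ∀ t ∈ T, c • t ∈ T) (d : ℕ) :
    ∀ c ∈ C, ∀ n ∈ Pd x T d, c • n ∈ Pd x T d := by
  induction d with
  | zero => exact hstab
  | succ d ih =>
    intro c hc n hn
    obtain ⟨a, ha, t, ht, rfl⟩ := (mem_Pd_succ x T d n).mp hn
    rw [smul_add, smul_comm c]
    exact (mem_Pd_succ x T d _).mpr ⟨c • a, ih c hc a ha, c • t, hstab c hc t ht, rfl⟩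

/-- `T` as a `C`-submodule. -/
def TC (C : Subalgebra R B) (T : Submodule R N) (hstab : ∀ c ∈ C, ∀ t ∈ T, c • t ∈ T) :
    Submodule C N where
  carrier := T
  add_mem' := T.add_mem
  zero_mem' := T.zero_mem
  smul_mem' := fun c t ht => hstab c.1 c.2 t ht

theorem mem_TC (C : Subalgebra R B) (T : Submodule R N) (hstab : ∀ c ∈ C, ∀ t ∈ T, c • t ∈ T)
    (n : N) : n ∈ TC C T hstab ↔ n ∈ T := Iff.rfl

/-- `K d = {p ∈ T | x^(d+1) p ∈ Pd d}`. -/
def Kd (C : Subalgebra R B) (x : B) (T : Submodule R N)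
    (hstab : ∀ c ∈ C, ∀ t ∈ T, c • t ∈ T) (d : ℕ) : Submodule C (TC C T hstab) where
  carrier := {p | x ^ (d + 1) • (p : N) ∈ Pd x T d}
  add_mem' := by
    intro a b ha hb
    simp only [Set.mem_ofPred_eq, Submodule.coe_add, smul_add] at ha hb ⊢
    exact Submodule.add_mem _ ha hb
  zero_mem' := by simp
  smul_mem' := by
    intro c p hp
    simp only [Set.mem_ofPred_eq, Submodule.coe_smul] at hp ⊢
    rw [smul_comm]
    exact stab_Pd C x T hstab d c.1 c.2 _ hp

theorem mem_Kd (C : Subalgebra R B) (x : B) (T : Submodule R N)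
    (hstab : ∀ c ∈ C, ∀ t ∈ T, c • t ∈ T) (d : ℕ) (p : TC C T hstab) :
    p ∈ Kd C x T hstab d ↔ x ^ (d + 1) • (p : N) ∈ Pd x T d := Iff.rfl

theorem Kd_mono (C : Subalgebra R B) (x : B) (T : Submodule R N)
    (hstab : ∀ c ∈ C, ∀ t ∈ T, c • t ∈ T) : Monotone (Kd C x T hstab) := by
  apply monotone_nat_of_le_succ
  intro d p hp
  rw [mem_Kd] at hp ⊢
  rw [pow_succ', mul_smul]
  exact smul_Pd_mem x T d _ hp

/-- `p ↦ [x^(d+1) p]`. -/
def phi (C : Subalgebra R B) (x : B) (T : Submodule R N)
    (hstab : ∀ c ∈ C, ∀ t ∈ T, c • t ∈ T) (d : ℕ) :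
    TC C T hstab →ₗ[R] SubQ (Pd x T d) (Pd x T (d + 1)) :=
  (Submodule.mkQ _).comp
    (LinearMap.codRestrict (Pd x T (d + 1))
      ((Algebra.lsmul R R N (x ^ (d + 1))).comp ((TC C T hstab).subtype.restrictScalars R))
      (fun p => pow_smul_mem_Pd x T (d + 1) p.1 p.2))

theorem phi_apply (C : Subalgebra R B) (x : B) (T : Submodule R N)
    (hstab : ∀ c ∈ C, ∀ t ∈ T, c • t ∈ T) (d : ℕ) (p : TC C T hstab) :
    phi C x T hstab d p =
      Submodule.Quotient.mk ⟨x ^ (d + 1) • (p : N), pow_smul_mem_Pd x T (d + 1) p.1 p.2⟩ := rfl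

theorem phi_surjective (C : Subalgebra R B) (x : B) (T : Submodule R N)
    (hstab : ∀ c ∈ C, ∀ t ∈ T, c • t ∈ T) (d : ℕ) : Function.Surjective (phi C x T hstab d) := by
  intro y
  induction y using Submodule.Quotient.induction_on with
  | H n =>
    obtain ⟨a, ha, t, ht, hn⟩ := (mem_Pd_succ x T d n.1).mp n.2
    refine ⟨⟨t, ht⟩, ?_⟩
    rw [phi_apply, Submodule.Quotient.eq]
    change ((_ - n : Pd x T (d + 1)) : N) ∈ Pd x T d
    have : ((⟨x ^ (d + 1) • t, pow_smul_mem_Pd x T (d + 1) t ht⟩ - n : Pd x T (d + 1)) : N)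
        = - a := by
      rw [Submodule.coe_sub, ← hn]; simp
    rw [this]
    exact Submodule.neg_mem _ ha

theorem phi_ker (C : Subalgebra R B) (x : B) (T : Submodule R N)
    (hstab : ∀ c ∈ C, ∀ t ∈ T, c • t ∈ T) (d : ℕ) :
    LinearMap.ker (phi C x T hstab d) = (Kd C x T hstab d).restrictScalars R := by
  ext p
  rw [LinearMap.mem_ker, phi_apply, SubQ.mk_eq_zero, Submodule.restrictScalars_mem, mem_Kd]

/-- `T / K d ≃ Pd (d+1) / Pd d`. -/
noncomputable def phiEquiv (C : Subalgebra R B) (x : B) (T : Submodule R N)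
    (hstab : ∀ c ∈ C, ∀ t ∈ T, c • t ∈ T) (d : ℕ) :
    (TC C T hstab ⧸ Kd C x T hstab d) ≃ₗ[R] SubQ (Pd x T d) (Pd x T (d + 1)) :=
  (Submodule.Quotient.restrictScalarsEquiv R (Kd C x T hstab d)).symm ≪≫ₗ
    Submodule.quotEquivOfEq _ _ (phi_ker C x T hstab d).symm ≪≫ₗ
      LinearMap.quotKerEquivOfSurjective _ (phi_surjective C x T hstab d)

theorem oneVar [IsDomain R] [IsNoetherianRing R] (C : Subalgebra R B) (hC : C.FG) (x : B)
    (T : Submodule R N) (hstab : ∀ c ∈ C, ∀ t ∈ T, c • t ∈ T)
    (G : Finset N) (hG : ∀ t ∈ T, t ∈ Submodule.span C (G : Set N)) (hGT : (G : Set N) ⊆ T) :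
    ∃ f : R, f ≠ 0 ∧ FlatAway f (SubQ T (⨆ d, Pd x T d)) := by
  classical
  have : Algebra.FiniteType R C := (Subalgebra.fg_iff_finiteType C).mp hC
  have : IsNoetherianRing C := Algebra.FiniteType.isNoetherianRing R C
  have hfg : (TC C T hstab).FG := by
    refine ⟨G, le_antisymm ?_ ?_⟩
    · rw [Submodule.span_le]
      exact hGT
    · intro t ht
      exact hG t ht
  have : IsNoetherian C (TC C T hstab) := isNoetherian_of_fg_of_noetherian _ hfg
  obtain ⟨D, hD⟩ := monotone_stabilizes_iff_noetherian.mpr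
    (inferInstance : IsNoetherian C (TC C T hstab)) ⟨Kd C x T hstab, Kd_mono C x T hstab⟩
  have hfree : ∀ d, ∃ f : R, f ≠ 0 ∧ FreeAway R f (TC C T hstab ⧸ Kd C x T hstab d) := by
    intro d
    obtain ⟨f, hf, -, hM, -, -⟩ := exists_freeAway R C (TC C T hstab ⧸ Kd C x T hstab d)
    exact ⟨f, hf, hM⟩
  choose f hf hfree using hfree
  refine ⟨∏ d ∈ Finset.range (D + 1), f d, ?_, ?_⟩
  · rw [Finset.prod_ne_zero_iff]
    exact fun d _ => hf d
  · have hall : ∀ d, FlatAway (∏ d ∈ Finset.range (D + 1), f d)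
        (TC C T hstab ⧸ Kd C x T hstab d) := by
      have hle : ∀ d, d ≤ D → FlatAway (∏ d ∈ Finset.range (D + 1), f d)
          (TC C T hstab ⧸ Kd C x T hstab d) := by
        intro d hd
        obtain ⟨g, hg⟩ := Finset.dvd_prod_of_mem f (Finset.mem_range.mpr (Nat.lt_succ_of_le hd))
        rw [hg]
        exact (FlatAway.of_freeAway (hfree d)).mul_right g
      intro d
      by_cases hd : d ≤ D
      · exact hle d hd
      · have h1 : Kd C x T hstab D = Kd C x T hstab d := hD d (le_of_not_ge hd)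
        have h2 := hle D le_rfl
        rw [h1] at h2
        exact h2
    exact FlatAway.subQ_iSup (Pd x T) (Pd_mono x T)
      (fun d => (hall d).of_equiv (phiEquiv C x T hstab d))

end OneVar

open Groth.Agent.Lib.Helper2.GenFree

section Tower

variable {R B N : Type*} [CommRing R] [CommRing B] [Algebra R B] [AddCommGroup N] [Module B N]
  [Module R N] [IsScalarTower R B N]

theorem iSup_Pd_eq (x : B) (T : Submodule R N) :
    (⨆ d, Pd x T d) = (Algebra.adjoin R {x}).toSubmodule • T := by
  apply le_antisymm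
  · apply iSup_le
    intro d
    induction d with
    | zero =>
      intro t ht
      rw [← one_smul B t]
      exact Submodule.smul_mem_smul (one_mem (Algebra.adjoin R {x})) ht
    | succ d ih =>
      rw [Pd_succ]
      apply sup_le ih
      rintro _ ⟨t, ht, rfl⟩
      exact Submodule.smul_mem_smul
        (pow_mem (Algebra.self_mem_adjoin_singleton R x) _) ht
  · rw [Submodule.smul_le]
    intro b hb t ht
    have key : ∀ y ∈ (⨆ d, Pd x T d), b • y ∈ ⨆ d, Pd x T d := by
      induction hb using Algebra.adjoin_induction with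
      | mem z hz =>
        intro y hy
        rw [Set.mem_singleton_iff] at hz
        subst hz
        obtain ⟨d, hd⟩ := (Submodule.mem_iSup_of_chain ⟨Pd z T, Pd_mono z T⟩ y).mp hy
        exact le_iSup (Pd z T) (d + 1) (smul_Pd_mem z T d y hd)
      | algebraMap r =>
        intro y hy
        rw [algebraMap_smul]
        exact Submodule.smul_mem _ r hy
      | add a b _ _ ha hb =>
        intro y hy
        rw [add_smul]
        exact add_mem (ha y hy) (hb y hy)
      | mul a b _ _ ha hb =>
        intro y hy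
        rw [mul_smul]
        exact ha _ (hb y hy)
    exact key t (le_iSup (Pd x T) 0 ht)

/-- `Ts s = R[s] • T`. -/
def Ts (T : Submodule R N) (s : Finset B) : Submodule R N :=
  (Algebra.adjoin R (s : Set B)).toSubmodule • T

theorem le_subalgebra_smul (A : Subalgebra R B) (T : Submodule R N) :
    T ≤ A.toSubmodule • T := by
  intro t ht
  rw [← one_smul B t]
  exact Submodule.smul_mem_smul (one_mem A) ht

theorem Ts_empty (T : Submodule R N) : Ts T (∅ : Finset B) = T := by
  unfold Ts
  rw [Finset.coe_empty, Algebra.adjoin_empty, Algebra.toSubmodule_bot, Submodule.one_smul]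

theorem Ts_insert [DecidableEq B] (T : Submodule R N) (x : B) (s : Finset B) :
    Ts T (insert x s) = (Algebra.adjoin R {x}).toSubmodule • Ts T s := by
  unfold Ts
  rw [Finset.coe_insert, Set.insert_eq, Algebra.adjoin_union_coe_submodule]
  exact Submodule.smul_assoc _ _ _

theorem span_subalgebra_mono {C C' : Subalgebra R B} (h : C ≤ C') (G : Set N) (t : N)
    (ht : t ∈ Submodule.span C G) : t ∈ Submodule.span C' G := by
  induction ht using Submodule.span_induction with
  | mem y hy => exact Submodule.subset_span hy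
  | zero => exact Submodule.zero_mem _
  | add a b _ _ ha hb => exact Submodule.add_mem _ ha hb
  | smul c y _ hy =>
    have : c • y = (⟨c.1, h c.2⟩ : C') • y := rfl
    rw [this]
    exact Submodule.smul_mem _ _ hy

theorem Ts_stab (C : Subalgebra R B) (T : Submodule R N)
    (hstab : ∀ c ∈ C, ∀ t ∈ T, c • t ∈ T) (s : Finset B) :
    ∀ c ∈ C ⊔ Algebra.adjoin R (s : Set B), ∀ t ∈ Ts T s, c • t ∈ Ts T s := by
  have h1 : C.toSubmodule • T ≤ T := Submodule.smul_le.mpr hstab
  have h2 : (C ⊔ Algebra.adjoin R (s : Set B)).toSubmodule • Ts T s ≤ Ts T s := by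
    unfold Ts
    rw [← Subalgebra.mul_toSubmodule]
    have e1 : (C.toSubmodule * (Algebra.adjoin R (s : Set B)).toSubmodule) •
        ((Algebra.adjoin R (s : Set B)).toSubmodule • T) =
        (Algebra.adjoin R (s : Set B)).toSubmodule • (C.toSubmodule • T) := by
      have := (Subalgebra.isIdempotentElem_toSubmodule (Algebra.adjoin R (s : Set B))).eq
      calc _ = ((C.toSubmodule * (Algebra.adjoin R (s : Set B)).toSubmodule) *
              (Algebra.adjoin R (s : Set B)).toSubmodule) • T :=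
            (Submodule.smul_assoc _ _ _).symm
        _ = ((Algebra.adjoin R (s : Set B)).toSubmodule * C.toSubmodule) • T := by
            rw [mul_assoc, this, Submodule.mul_comm]
        _ = _ := Submodule.smul_assoc _ _ _
    rw [e1]
    exact Submodule.smul_mono le_rfl h1
  intro c hc t ht
  exact h2 (Submodule.smul_mem_smul hc ht)

theorem Ts_gen (C : Subalgebra R B) (T : Submodule R N)
    (G : Finset N) (hG : ∀ t ∈ T, t ∈ Submodule.span C (G : Set N)) (s : Finset B) :
    ∀ t ∈ Ts T s, t ∈ Submodule.span (C ⊔ Algebra.adjoin R (s : Set B) : Subalgebra R B)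
      (G : Set N) := by
  intro t ht
  unfold Ts at ht
  refine Submodule.smul_induction_on ht (fun b hb n hn => ?_)
    (fun a b ha hb => Submodule.add_mem _ ha hb)
  have h1 := span_subalgebra_mono (le_sup_left : C ≤ C ⊔ Algebra.adjoin R (s : Set B)) _ n
    (hG n hn)
  have hb' : b ∈ C ⊔ Algebra.adjoin R (s : Set B) :=
    (le_sup_right : Algebra.adjoin R (s : Set B) ≤ C ⊔ Algebra.adjoin R (s : Set B)) hb
  have : b • n = (⟨b, hb'⟩ : (C ⊔ Algebra.adjoin R (s : Set B) : Subalgebra R B)) • n := rfl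
  rw [this]
  exact Submodule.smul_mem _ _ h1

theorem tower [IsDomain R] [IsNoetherianRing R] (C : Subalgebra R B) (hC : C.FG)
    (T : Submodule R N) (hstab : ∀ c ∈ C, ∀ t ∈ T, c • t ∈ T)
    (G : Finset N) (hG : ∀ t ∈ T, t ∈ Submodule.span C (G : Set N)) (hGT : (G : Set N) ⊆ T)
    (s : Finset B) : ∃ f : R, f ≠ 0 ∧ FlatAway f (SubQ T (Ts T s)) := by
  classical
  induction s using Finset.induction_on with
  | empty =>
    refine ⟨1, one_ne_zero, ?_⟩
    rw [Ts_empty]
    exact FlatAway.subQ_self _ _ le_rfl 1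
  | insert x s hx ih =>
    obtain ⟨f₁, hf₁, h₁⟩ := ih
    obtain ⟨f₂, hf₂, h₂⟩ := oneVar (C ⊔ Algebra.adjoin R (s : Set B))
      (hC.sup (Subalgebra.fg_adjoin_finset s)) x (Ts T s) (Ts_stab C T hstab s) G
      (Ts_gen C T G hG s) (hGT.trans (le_subalgebra_smul _ T))
    rw [iSup_Pd_eq, ← Ts_insert] at h₂
    refine ⟨f₁ * f₂, mul_ne_zero hf₁ hf₂, ?_⟩
    refine FlatAway.subQ_trans (le_subalgebra_smul _ T) ?_ (h₁.mul_right f₂) (h₂.mul_left f₁)
    rw [Ts_insert]
    exact le_subalgebra_smul _ _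

end Tower

open Groth.Agent.Lib.Helper2.GenFree

section Final

variable {R : Type*} [CommRing R] {N : Type*} [AddCommGroup N] [Module R N]

/-- `⊤ / T ≃ N / T`. -/
noncomputable def subQTop (T : Submodule R N) : SubQ T ⊤ ≃ₗ[R] N ⧸ T :=
  Submodule.Quotient.equiv _ _ Submodule.topEquiv (by
    ext n
    simp only [Submodule.mem_map, Submodule.submoduleOf, Submodule.mem_comap,
      Submodule.coe_subtype]
    constructor
    · rintro ⟨y, hy, rfl⟩
      exact hy
    · intro hn
      exact ⟨⟨n, Submodule.mem_top⟩, hn, rfl⟩)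

theorem FlatAway.quot_trans {f : R} {T₀ T₁ : Submodule R N} (h : T₀ ≤ T₁)
    (h₁ : FlatAway f (SubQ T₀ T₁)) (h₂ : FlatAway f (N ⧸ T₁)) : FlatAway f (N ⧸ T₀) :=
  (FlatAway.subQ_trans h le_top h₁ (h₂.of_equiv (subQTop T₁).symm)).of_equiv (subQTop T₀)

end Final

section Main

universe u

theorem main {R A B : Type u} [CommRing R] [IsDomain R] [IsNoetherianRing R] [CommRing A]
    [CommRing B]
    [Algebra R A] [Algebra A B] [Algebra R B] [IsScalarTower R A B] [Algebra.FiniteType R A]
    [Algebra.FiniteType A B]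
    {M N : Type u} [AddCommGroup M] [Module A M] [Module R M] [IsScalarTower R A M]
    [Module.Finite A M]
    [AddCommGroup N] [Module B N] [Module A N] [Module R N] [IsScalarTower A B N]
    [IsScalarTower R A N] [Module.Finite B N]
    (u : M →ₗ[A] N) :
    ∃ f : R, f ≠ 0 ∧ FlatAway f (N ⧸ (LinearMap.range u).restrictScalars R) := by
  classical
  have : IsScalarTower R B N := ⟨fun r b n => by
    rw [← algebraMap_smul A r b, smul_assoc, algebraMap_smul]⟩
  have : Algebra.FiniteType R B := Algebra.FiniteType.trans (S := A) inferInstance inferInstance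
  let C₀ : Subalgebra R B := (IsScalarTower.toAlgHom R A B).range
  have hC₀ : C₀.FG := by
    have h1 : (⊤ : Subalgebra R A).FG := (inferInstance : Algebra.FiniteType R A).out
    have h2 := h1.map (IsScalarTower.toAlgHom R A B)
    rwa [Algebra.map_top] at h2
  let T₀ : Submodule R N := (LinearMap.range u).restrictScalars R
  have hmemC₀ : ∀ a : A, algebraMap A B a ∈ C₀ := fun a => ⟨a, rfl⟩
  have hstab : ∀ c ∈ C₀, ∀ t ∈ T₀, c • t ∈ T₀ := by
    rintro _ ⟨a, rfl⟩ _ ⟨m, rfl⟩
    refine ⟨a • m, ?_⟩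
    rw [map_smul]
    exact (algebraMap_smul B a (u m)).symm
  obtain ⟨S, hS⟩ := Module.Finite.fg_top (R := A) (M := M)
  let G : Finset N := S.image u
  have hGT : (G : Set N) ⊆ T₀ := by
    intro n hn
    rw [Finset.coe_image] at hn
    obtain ⟨m, _, rfl⟩ := hn
    exact ⟨m, rfl⟩
  have hG : ∀ t ∈ T₀, t ∈ Submodule.span C₀ (G : Set N) := by
    rintro _ ⟨m, rfl⟩
    have hm : m ∈ Submodule.span A (S : Set M) := by rw [hS]; trivial
    induction hm using Submodule.span_induction with
    | mem y hy =>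
      apply Submodule.subset_span
      rw [Finset.coe_image]
      exact ⟨y, hy, rfl⟩
    | zero => rw [map_zero]; exact Submodule.zero_mem _
    | add a b _ _ ha hb => rw [map_add]; exact Submodule.add_mem _ ha hb
    | smul a y _ hy =>
      have : u (a • y) = (⟨algebraMap A B a, hmemC₀ a⟩ : C₀) • u y := by
        rw [map_smul]
        exact (algebraMap_smul B a (u y)).symm
      rw [this]
      exact Submodule.smul_mem _ _ hy
  obtain ⟨s, hs⟩ := (inferInstance : Algebra.FiniteType A B).out
  obtain ⟨f₁, hf₁, h₁⟩ := tower C₀ hC₀ T₀ hstab G hG hGT s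
  -- the B-module generated
  have htop : ∀ b : B, b ∈ C₀ ⊔ Algebra.adjoin R (s : Set B) := by
    let D : Subalgebra A B :=
      { toSubsemiring := (C₀ ⊔ Algebra.adjoin R (s : Set B)).toSubsemiring
        algebraMap_mem' := fun a =>
          (le_sup_left : C₀ ≤ C₀ ⊔ Algebra.adjoin R (s : Set B)) (hmemC₀ a) }
    have hD : Algebra.adjoin A (s : Set B) ≤ D := by
      apply Algebra.adjoin_le
      intro b hb
      exact (le_sup_right : Algebra.adjoin R (s : Set B) ≤ C₀ ⊔ Algebra.adjoin R (s : Set B))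
        (Algebra.subset_adjoin hb)
    intro b
    have : b ∈ D := hD (by rw [hs]; trivial)
    exact this
  let NB : Submodule B N :=
    { carrier := Ts T₀ s
      add_mem' := (Ts T₀ s).add_mem
      zero_mem' := (Ts T₀ s).zero_mem
      smul_mem' := fun b t ht => Ts_stab C₀ T₀ hstab s b (htop b) t ht }
  have hNB : NB.restrictScalars R = Ts T₀ s := rfl
  obtain ⟨f₂, hf₂, -, hM, -, -⟩ := exists_freeAway R B (N ⧸ NB)
  have h₂ : FlatAway f₂ (N ⧸ Ts T₀ s) :=
    (FlatAway.of_freeAway hM).of_equiv (Submodule.Quotient.restrictScalarsEquiv R NB).symm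
  exact ⟨f₁ * f₂, mul_ne_zero hf₁ hf₂,
    FlatAway.quot_trans (le_subalgebra_smul _ T₀) (h₁.mul_right f₂) (h₂.mul_left f₁)⟩

theorem FlatAway.flat_localization {R : Type*} [CommRing R] {f : R} {Q : Type*} [AddCommGroup Q]
    [Module R Q] (h : FlatAway f Q) :
    Module.Flat (Localization.Away f) (LocalizedModule (Submonoid.powers f) Q) := by
  have h1 := h 1
  rw [mul_one] at h1
  exact (Module.flat_iff_of_isLocalization (Localization.Away f) (Submonoid.powers f) _).mpr h1

end Main

end Groth.Agent.Helper13GenFlat
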