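import Mathlib
import Groth.Agent.Lib.Helper2GenFree

set_option autoImplicit false
universe u v

namespace Groth.Agent.Lib.Helper2.GenFree

open TensorProduct

section exactness

/-- A complex `F → G → H` exact at `G` whose cokernel `H → P` is flat stays exact after tensoring. -/
theorem exact_lTensor_of_flat_coker {A : Type*} [CommRing A] {F G H P : Type*}
    [AddCommGroup F] [Module A F] [AddCommGroup G] [Module A G] [AddCommGroup H] [Module A H]
    [AddCommGroup P] [Module A P] (u : F →ₗ[A] G) (v : G →ₗ[A] H) (q : H →ₗ[A] P)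
    (hq : Function.Surjective q) (huv : Function.Exact u v) (hvq : Function.Exact v q)
    [Module.Flat A P] (κ : Type*) [AddCommGroup κ] [Module A κ] :
    Function.Exact (u.lTensor κ) (v.lTensor κ) := by
  let I := LinearMap.range v
  let vh : G →ₗ[A] I := v.rangeRestrict
  let ι : I →ₗ[A] H := I.subtype
  have hv : v = ι ∘ₗ vh := by ext x; rfl
  have hexι : Function.Exact ι q := by
    intro y
    rw [hvq y]
    constructor
    · rintro ⟨x, rfl⟩
      exact ⟨⟨v x, x, rfl⟩, rfl⟩
    · rintro ⟨⟨_, x, rfl⟩, rfl⟩
      exact ⟨x, rfl⟩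
  have hinj : Function.Injective (ι.lTensor κ) :=
    LinearMap.lTensor_injective_of_exact_of_flat q hq ι Subtype.val_injective hexι κ
  have hexh : Function.Exact u vh := by
    intro y
    rw [← huv y]
    constructor
    · intro h
      have := congrArg Subtype.val h
      exact this
    · intro h
      exact Subtype.ext h
  have h1 : Function.Exact (u.lTensor κ) (vh.lTensor κ) :=
    lTensor_exact κ hexh v.surjective_rangeRestrict
  intro z
  rw [hv, LinearMap.lTensor_comp, LinearMap.comp_apply, ← h1 z]
  constructor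
  · intro h
    exact hinj (by rw [h, map_zero])
  · intro h
    rw [h, map_zero]

variable {R : Type*} [CommRing R] (f : R) {F G H : Type*} [AddCommGroup F] [Module R F]
  [AddCommGroup G] [Module R G] [AddCommGroup H] [Module R H]

/-- `1 ⊗ y = 0` in `R_f ⊗ H` when `y` is killed by a power of `f`. -/
theorem one_tmul_eq_zero_of_pow_smul {y : H} {n : ℕ} (h : f ^ n • y = 0) :
    (1 : Localization.Away f) ⊗ₜ[R] y = 0 := by
  have := (IsLocalizedModule.eq_zero_iff (Submonoid.powers f)
    (TensorProduct.mk R (Localization.Away f) H 1) (m := y)).mpr ⟨⟨f ^ n, n, rfl⟩, h⟩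
  exact this

theorem exists_pow_smul_eq_zero_of_one_tmul {y : H}
    (h : (1 : Localization.Away f) ⊗ₜ[R] y = 0) : ∃ n : ℕ, f ^ n • y = 0 := by
  obtain ⟨⟨_, n, rfl⟩, hn⟩ := (IsLocalizedModule.eq_zero_iff (Submonoid.powers f)
    (TensorProduct.mk R (Localization.Away f) H 1) (m := y)).mp h
  exact ⟨n, hn⟩

theorem exact_baseChange_away (u : F →ₗ[R] G) (v : G →ₗ[R] H)
    (h1 : ∀ x, ∃ n : ℕ, f ^ n • v (u x) = 0)
    (h2 : ∀ y, v y = 0 → ∃ n : ℕ, f ^ n • y ∈ LinearMap.range u) :
    Function.Exact (u.baseChange (Localization.Away f)) (v.baseChange (Localization.Away f)) := by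
  have hcomp : ∀ w, v.baseChange (Localization.Away f) (u.baseChange (Localization.Away f) w) = 0 := by
    intro w
    induction w using TensorProduct.induction_on with
    | zero => simp
    | tmul a x =>
      obtain ⟨n, hn⟩ := h1 x
      rw [LinearMap.baseChange_tmul, LinearMap.baseChange_tmul]
      have : a ⊗ₜ[R] v (u x) = a • ((1 : Localization.Away f) ⊗ₜ[R] v (u x)) := by
        rw [TensorProduct.smul_tmul', smul_eq_mul, mul_one]
      rw [this, one_tmul_eq_zero_of_pow_smul f hn, smul_zero]
    | add a b ha hb => rw [map_add, map_add, ha, hb, add_zero]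
  intro z
  constructor
  · intro hz
    obtain ⟨⟨g, s⟩, hgs⟩ := IsLocalizedModule.surj (Submonoid.powers f)
      (TensorProduct.mk R (Localization.Away f) G 1) z
    obtain ⟨_, m, rfl⟩ := s
    have hgs' : f ^ m • z = (1 : Localization.Away f) ⊗ₜ[R] g := hgs
    have hvg : (1 : Localization.Away f) ⊗ₜ[R] v g = 0 := by
      have := congrArg (v.baseChange (Localization.Away f)) hgs'
      rw [LinearMap.baseChange_tmul] at this
      rw [← this, ← algebraMap_smul (Localization.Away f) (f ^ m) z, map_smul, hz, smul_zero]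
    obtain ⟨k, hk⟩ := exists_pow_smul_eq_zero_of_one_tmul f hvg
    obtain ⟨l, x, hx⟩ := h2 (f ^ k • g) (by rw [map_smul, hk])
    have hu : IsUnit (algebraMap R (Localization.Away f) (f ^ (l + k + m))) :=
      IsLocalization.map_units _ (⟨f ^ (l + k + m), _, rfl⟩ : Submonoid.powers f)
    refine ⟨(↑hu.unit⁻¹ : Localization.Away f) • ((1 : Localization.Away f) ⊗ₜ[R] x), ?_⟩
    rw [map_smul, LinearMap.baseChange_tmul, hx]
    have h3 : (1 : Localization.Away f) ⊗ₜ[R] (f ^ l • f ^ k • g) =
        algebraMap R (Localization.Away f) (f ^ (l + k + m)) • z := by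
      rw [algebraMap_smul, pow_add, pow_add, mul_smul, mul_smul, hgs', TensorProduct.tmul_smul,
        TensorProduct.tmul_smul]
    rw [h3, smul_smul, IsUnit.val_inv_mul, one_smul]
  · rintro ⟨w, rfl⟩
    exact hcomp w

end exactness


section transfer

variable {R : Type*} [CommRing R] {A' : Type*} [CommRing A'] [Algebra R A'] {κ : Type*} [CommRing κ]
  [Algebra R κ] [Algebra A' κ] [IsScalarTower R A' κ]
  {X Y : Type*} [AddCommGroup X] [Module R X] [AddCommGroup Y] [Module R Y]

theorem cancelBaseChange_natural (w : X →ₗ[R] Y) (t : κ ⊗[A'] (A' ⊗[R] X)) :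
    AlgebraTensorModule.cancelBaseChange R A' κ κ Y ((w.baseChange A').lTensor κ t) =
      w.lTensor κ (AlgebraTensorModule.cancelBaseChange R A' κ κ X t) := by
  induction t using TensorProduct.induction_on with
  | zero => simp
  | tmul k t =>
    induction t using TensorProduct.induction_on with
    | zero => simp
    | tmul a x => simp
    | add t₁ t₂ h₁ h₂ => simp only [tmul_add, map_add, h₁, h₂]
  | add t₁ t₂ h₁ h₂ => simp only [map_add, h₁, h₂]

end transfer

section final

variable {R : Type*} [CommRing R] (f : R) {F G H : Type*} [AddCommGroup F] [Module R F]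
  [AddCommGroup G] [Module R G] [AddCommGroup H] [Module R H]

/-- Fibrewise exactness from exactness away from `f` plus flatness of the cokernel away from `f`. -/
theorem exact_baseChange_of_flat_coker_away (u : F →ₗ[R] G) (v : G →ₗ[R] H)
    (h1 : ∀ x, ∃ n : ℕ, f ^ n • v (u x) = 0)
    (h2 : ∀ y, v y = 0 → ∃ n : ℕ, f ^ n • y ∈ LinearMap.range u)
    (h3 : Module.Flat (Localization.Away f) (Localization.Away f ⊗[R] (H ⧸ LinearMap.range v)))
    (κ : Type*) [CommRing κ] [Algebra R κ] (hκ : IsUnit (algebraMap R κ f)) :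
    Function.Exact (u.baseChange κ) (v.baseChange κ) := by
  letI : Algebra (Localization.Away f) κ := (IsLocalization.Away.lift f hκ).toAlgebra
  haveI : IsScalarTower R (Localization.Away f) κ := IsScalarTower.of_algebraMap_eq' (by
    ext r
    rw [RingHom.algebraMap_toAlgebra, RingHom.comp_apply, IsLocalization.Away.lift_eq])
  set u' := u.baseChange (Localization.Away f) with hu'
  set v' := v.baseChange (Localization.Away f) with hv'
  set q' := ((LinearMap.range v).mkQ).baseChange (Localization.Away f) with hq'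
  have hex' : Function.Exact u' v' := exact_baseChange_away f u v h1 h2
  have hvq' : Function.Exact v' q' :=
    lTensor_exact (Localization.Away f) (LinearMap.exact_map_mkQ_range v)
      (Submodule.mkQ_surjective _)
  have hqs : Function.Surjective q' :=
    LinearMap.lTensor_surjective (Localization.Away f) (Submodule.mkQ_surjective _)
  have hκex : Function.Exact (u'.lTensor κ) (v'.lTensor κ) :=
    exact_lTensor_of_flat_coker u' v' q' hqs hex' hvq' κ
  intro z
  obtain ⟨z', rfl⟩ := (AlgebraTensorModule.cancelBaseChange R (Localization.Away f) κ κ G).surjective z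
  change v.lTensor κ _ = 0 ↔ _
  rw [← cancelBaseChange_natural, LinearEquiv.map_eq_zero_iff, hκex z']
  constructor
  · rintro ⟨w, rfl⟩
    refine ⟨AlgebraTensorModule.cancelBaseChange R (Localization.Away f) κ κ F w, ?_⟩
    change u.lTensor κ _ = _
    rw [← cancelBaseChange_natural]
  · rintro ⟨w, hw⟩
    obtain ⟨w', rfl⟩ :=
      (AlgebraTensorModule.cancelBaseChange R (Localization.Away f) κ κ F).surjective w
    refine ⟨w', ?_⟩
    apply (AlgebraTensorModule.cancelBaseChange R (Localization.Away f) κ κ G).injective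
    rw [cancelBaseChange_natural]
    exact hw

end final


section more

variable {R : Type*} [CommRing R] {M : Type*} [AddCommGroup M] [Module R M]

theorem FreeAway.of_linearEquiv {f : R} {N : Type*} [AddCommGroup N] [Module R N]
    (h : FreeAway R f M) (e : M ≃ₗ[R] N) : FreeAway R f N := by
  obtain ⟨B, hB, hs⟩ := h
  refine FreeAway.of_family (fun b : B => e b.1)
    (hB.map' e.toLinearMap (LinearMap.ker_eq_bot.mpr e.injective)) fun y => ?_
  obtain ⟨n, hn⟩ := hs (e.symm y)
  refine ⟨n, ?_⟩
  have h1 : e (f ^ n • e.symm y) ∈ (Submodule.span R B).map e.toLinearMap :=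
    Submodule.mem_map_of_mem hn
  rw [map_smul, LinearEquiv.apply_symm_apply, Submodule.map_span] at h1
  refine (Submodule.span_mono ?_) h1
  rintro _ ⟨b, hb, rfl⟩
  exact ⟨⟨b, hb⟩, rfl⟩

/-- Over a domain, torsion elements of a module free away from `f` are killed by a power of `f`. -/
theorem FreeAway.exists_pow_smul_eq_zero [IsDomain R] {f : R} (h : FreeAway R f M) {c : R}
    (hc : c ≠ 0) {z : M} (hz : c • z = 0) : ∃ n : ℕ, f ^ n • z = 0 := by
  obtain ⟨B, hB, hs⟩ := h
  obtain ⟨n, hn⟩ := hs z
  refine ⟨n, ?_⟩
  obtain ⟨l, hl⟩ := (Finsupp.mem_span_range_iff_exists_finsupp).mp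
    (show f ^ n • z ∈ Submodule.span R (Set.range ((↑) : B → M)) by
      rw [Subtype.range_coe_subtype]; exact hn)
  have h0 : (Finsupp.linearCombination R ((↑) : B → M)) (c • l) = 0 := by
    rw [map_smul, Finsupp.linearCombination_apply, hl, smul_comm, hz, smul_zero]
  have hcl : c • l = 0 := (linearIndependent_iff.mp hB) _ h0
  have hl0 : l = 0 := by
    ext b
    have := DFunLike.congr_fun hcl b
    simp only [Finsupp.smul_apply, smul_eq_mul, Finsupp.zero_apply, mul_eq_zero] at this
    exact this.resolve_left hc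
  rw [← hl, hl0]
  simp

end more

end Groth.Agent.Lib.Helper2.GenFree
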