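import Mathlib
import Groth.Agent.Lib.Helper2GenFree2

/-!
# Generic normal flatness (helper14)

For a Noetherian ring `A`, a prime `p` and a finite module `M` there is `f ∉ p` such that all
graded pieces `(pA_f)^n M_f / (pA_f)^(n+1) M_f` are flat (even projective) over `A_f / pA_f`.

Route: the Rees module `⨁ pⁿM` is a finite module over the Rees algebra, so its reduction mod `p`
is generically free over the domain `A ⧸ p` (helper2's generic freeness); each graded piece is a
retract of that reduction.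
-/

set_option autoImplicit false
universe u

namespace Groth.Agent.Lib.Helper14.NormFlat

open Groth.Agent.Lib.Helper2.GenFree

section genfree

theorem exists_freeAway_quotient {A : Type*} [CommRing A] (p : Ideal A) [p.IsPrime]
    (𝒮 : Type*) [CommRing 𝒮] [Algebra A 𝒮] [Algebra.FiniteType A 𝒮]
    (𝓡 : Type*) [AddCommGroup 𝓡] [Module 𝒮 𝓡] [Module A 𝓡] [IsScalarTower A 𝒮 𝓡]
    [Module.Finite 𝒮 𝓡] :
    ∃ f : A, f ∉ p ∧ FreeAway (A ⧸ p) (Ideal.Quotient.mk p f) (𝓡 ⧸ (p • ⊤ : Submodule A 𝓡)) := by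
  set J : Ideal 𝒮 := p.map (algebraMap A 𝒮) with hJ
  let S := 𝒮 ⧸ J
  let 𝓝 := 𝓡 ⧸ (J • ⊤ : Submodule 𝒮 𝓡)
  letI : Module (A ⧸ p) 𝓝 := Module.compHom 𝓝 (algebraMap (A ⧸ p) S)
  have hsm : ∀ (r : A ⧸ p) (x : 𝓝), r • x = algebraMap (A ⧸ p) S r • x := fun _ _ => rfl
  haveI : IsScalarTower (A ⧸ p) S 𝓝 := ⟨fun r s x => by
    rw [hsm, Algebra.smul_def, mul_smul]⟩
  haveI : Algebra.FiniteType A S :=
    Algebra.FiniteType.of_surjective (Ideal.Quotient.mkₐ A J) Ideal.Quotient.mk_surjective
  haveI : Algebra.FiniteType (A ⧸ p) S := Algebra.FiniteType.of_restrictScalars_finiteType A (A ⧸ p) S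
  haveI : Module.Finite S 𝓝 := Module.Finite.of_restrictScalars_finite 𝒮 S 𝓝
  obtain ⟨g, hg0, -, hfree, -, -⟩ := exists_freeAway (A ⧸ p) S 𝓝
  obtain ⟨f, rfl⟩ := Ideal.Quotient.mk_surjective g
  refine ⟨f, fun hf => hg0 (Ideal.Quotient.eq_zero_iff_mem.mpr hf), ?_⟩
  have hEq : (J • ⊤ : Submodule 𝒮 𝓡).restrictScalars A = (p • ⊤ : Submodule A 𝓡) := by
    rw [hJ, Ideal.smul_restrictScalars, Submodule.restrictScalars_top]
  let eA : 𝓝 ≃ₗ[A] (𝓡 ⧸ (p • ⊤ : Submodule A 𝓡)) :=
    Submodule.quotEquivOfEq ((J • ⊤ : Submodule 𝒮 𝓡).restrictScalars A) (p • ⊤) hEq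
  let e : 𝓝 ≃ₗ[A ⧸ p] (𝓡 ⧸ (p • ⊤ : Submodule A 𝓡)) :=
    { eA with
      map_smul' := fun r x => by
        obtain ⟨a, rfl⟩ := Ideal.Quotient.mk_surjective r
        obtain ⟨y, rfl⟩ := Submodule.Quotient.mk_surjective _ x
        have h1 : (Ideal.Quotient.mk p a) • (Submodule.Quotient.mk y : 𝓝) =
            (Submodule.Quotient.mk (a • y) : 𝓝) := by
          rw [hsm]
          change (Ideal.Quotient.mk J (algebraMap A 𝒮 a)) • (Submodule.Quotient.mk y : 𝓝) = _
          rw [Module.Quotient.mk_smul_mk, algebraMap_smul]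
        change eA ((Ideal.Quotient.mk p a) • (Submodule.Quotient.mk y : 𝓝)) =
          (Ideal.Quotient.mk p a) • eA (Submodule.Quotient.mk y : 𝓝)
        rw [h1]
        change (Submodule.Quotient.mk (a • y) : 𝓡 ⧸ (p • ⊤ : Submodule A 𝓡)) =
          (Ideal.Quotient.mk p a) • (Submodule.Quotient.mk y : 𝓡 ⧸ (p • ⊤ : Submodule A 𝓡))
        rw [Module.Quotient.mk_smul_mk] }
  exact hfree.of_linearEquiv e

end genfree

section rees
variable {A : Type*} [CommRing A] {I : Ideal A} {M : Type*} [AddCommGroup M] [Module A M]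
  (F : I.Filtration M)

/-- inclusion of the degree `n` piece into the Rees module. -/
noncomputable def reesIncl (n : ℕ) : ↥(F.N n) →ₗ[A] ↥F.submodule where
  toFun m := ⟨PolynomialModule.lsingle A n m.1, fun i => by
    rw [PolynomialModule.lsingle_apply]
    split_ifs with h
    · subst h; exact m.2
    · exact zero_mem _⟩
  map_add' x y := Subtype.ext (by simp)
  map_smul' a x := Subtype.ext (by simp)

/-- projection of the Rees module to the degree `n` piece. -/
noncomputable def reesProj (n : ℕ) : ↥F.submodule →ₗ[A] ↥(F.N n) where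
  toFun x := ⟨x.1.coeff n, x.2 n⟩
  map_add' x y := Subtype.ext (by simp)
  map_smul' a x := Subtype.ext (by
    have := (PolynomialModule.coeffLinearEquiv A A (M := M)).map_smul a x.1
    exact DFunLike.congr_fun this n)

theorem reesProj_reesIncl (n : ℕ) (x : ↥(F.N n)) : reesProj F n (reesIncl F n x) = x := by
  apply Subtype.ext
  simp [reesProj, reesIncl, PolynomialModule.lsingle_apply]

end rees

section qmap
variable {A : Type*} [CommRing A] (I : Ideal A) {X Y Z : Type*} [AddCommGroup X] [Module A X]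
  [AddCommGroup Y] [Module A Y] [AddCommGroup Z] [Module A Z]

/-- functoriality of `X ↦ X ⧸ I • ⊤` as `A ⧸ I`-modules. -/
def qmap (g : X →ₗ[A] Y) :
    (X ⧸ (I • ⊤ : Submodule A X)) →ₗ[A ⧸ I] (Y ⧸ (I • ⊤ : Submodule A Y)) :=
  LinearMap.extendScalarsOfSurjective Ideal.Quotient.mk_surjective
    (Submodule.mapQ _ _ g (by
      rw [← Submodule.map_le_iff_le_comap, Submodule.map_smul'']
      exact Submodule.smul_mono le_rfl le_top))

@[simp]
theorem qmap_mk (g : X →ₗ[A] Y) (x : X) :
    qmap I g (Submodule.Quotient.mk x) = Submodule.Quotient.mk (g x) := rfl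

theorem qmap_comp (g : Y →ₗ[A] Z) (h : X →ₗ[A] Y) :
    qmap I (g.comp h) = (qmap I g).comp (qmap I h) := by
  refine LinearMap.ext fun x => ?_
  obtain ⟨x, rfl⟩ := Submodule.Quotient.mk_surjective _ x
  rfl

theorem qmap_id : qmap I (LinearMap.id : X →ₗ[A] X) = LinearMap.id := by
  refine LinearMap.ext fun x => ?_
  obtain ⟨x, rfl⟩ := Submodule.Quotient.mk_surjective _ x
  rfl

end qmap

attribute [local instance] LocalizedModule.moduleOfIsLocalization in
theorem flat_of_retract_of_freeAway {R : Type*} [CommRing R] (g : R) {R' : Type*} [CommRing R']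
    [Algebra R R'] [IsLocalization.Away g R'] {N 𝓝 Q : Type*} [AddCommGroup N] [AddCommGroup 𝓝]
    [AddCommGroup Q] [Module R N] [Module R 𝓝] [Module R Q] [Module R' Q] [IsScalarTower R R' Q]
    (φ : N →ₗ[R] Q) [IsLocalizedModule (Submonoid.powers g) φ]
    (i : N →ₗ[R] 𝓝) (π : 𝓝 →ₗ[R] N) (hπi : π.comp i = LinearMap.id)
    (hfree : FreeAway R g 𝓝) : Module.Flat R' Q := by
  let 𝓝' := LocalizedModule (Submonoid.powers g) 𝓝
  haveI : Module.Free R' 𝓝' :=
    hfree.free R' (LocalizedModule.mkLinearMap (Submonoid.powers g) 𝓝)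
  let i' : Q →ₗ[R'] 𝓝' := IsLocalizedModule.mapExtendScalars (Submonoid.powers g) φ
    (LocalizedModule.mkLinearMap _ 𝓝) R' i
  let π' : 𝓝' →ₗ[R'] Q := IsLocalizedModule.mapExtendScalars (Submonoid.powers g)
    (LocalizedModule.mkLinearMap _ 𝓝) φ R' π
  have h : π'.comp i' = LinearMap.id := by
    apply LinearMap.restrictScalars_injective R
    apply IsLocalizedModule.ext (Submonoid.powers g) φ (IsLocalizedModule.map_units φ)
    refine LinearMap.ext fun x => ?_
    change π' (i' (φ x)) = φ x
    have h1 : i' (φ x) = LocalizedModule.mkLinearMap _ 𝓝 (i x) :=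
      IsLocalizedModule.map_apply (Submonoid.powers g) φ (LocalizedModule.mkLinearMap _ 𝓝) i x
    have h2 : π' (LocalizedModule.mkLinearMap _ 𝓝 (i x)) = φ (π (i x)) :=
      IsLocalizedModule.map_apply (Submonoid.powers g) (LocalizedModule.mkLinearMap _ 𝓝) φ π (i x)
    rw [h1, h2]
    congr 1
    exact LinearMap.congr_fun hπi x
  haveI : Module.Projective R' Q := Module.Projective.of_split i' π' h
  infer_instance

section locpiece
variable {A : Type*} [CommRing A] (S : Submonoid A) {B : Type*} [CommRing B] [Algebra A B]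
  [IsLocalization S B] {M M' : Type*} [AddCommGroup M] [AddCommGroup M'] [Module A M]
  [Module A M'] [Module B M'] [IsScalarTower A B M'] (ι : M →ₗ[A] M') [IsLocalizedModule S ι]
  (I : Ideal A)

theorem exists_isLocalizedModule_quotient (X : Submodule A M) (X' : Submodule B M')
    (hX : X.localized' B S ι = X') :
    ∃ φ : (↥X ⧸ (I • ⊤ : Submodule A ↥X)) →ₗ[A]
        (↥X' ⧸ (I.map (algebraMap A B) • ⊤ : Submodule B ↥X')),
      IsLocalizedModule S φ ∧ ∀ x : ↥X, ∃ hx : ι x.1 ∈ X', 
        φ (Submodule.Quotient.mk x) = Submodule.Quotient.mk ⟨ι x.1, hx⟩ := by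
  subst hX
  set ψ := X.toLocalized' B S ι with hψ
  have h : (I • ⊤ : Submodule A ↥X).localized' B S ψ =
      (I.map (algebraMap A B) • ⊤ : Submodule B ↥(X.localized' B S ι)) := by
    rw [Submodule.localized'_smul, Ideal.localized'_eq_map, Submodule.localized'_top]
  let e := (Submodule.quotEquivOfEq _ _ h).restrictScalars A
  refine ⟨e.toLinearMap ∘ₗ Submodule.toLocalizedQuotient' B S ψ (I • ⊤), inferInstance, ?_⟩
  intro x
  exact ⟨(ψ x).2, rfl⟩

end locpiece

section main

theorem algebraMapSubmonoid_powers {A : Type*} [CommRing A] (p : Ideal A) (f : A) :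
    Algebra.algebraMapSubmonoid (A ⧸ p) (Submonoid.powers f) =
      Submonoid.powers (Ideal.Quotient.mk p f) := by
  rw [Algebra.algebraMapSubmonoid, Submonoid.map_powers]
  rfl

/-- **Generic normal flatness** along a prime of a Noetherian ring. -/
theorem exists_forall_flat_piece (A : Type u) [CommRing A] [IsNoetherianRing A] (p : Ideal A)
    [p.IsPrime] (M : Type u) [AddCommGroup M] [Module A M] [Module.Finite A M] :
    ∃ f : A, f ∉ p ∧ ∀ n : ℕ,
      Module.Flat (Localization.Away f ⧸ p.map (algebraMap A (Localization.Away f)))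
        (↥((p.map (algebraMap A (Localization.Away f))) ^ n •
            (⊤ : Submodule (Localization.Away f) (LocalizedModule (Submonoid.powers f) M))) ⧸
          ((p.map (algebraMap A (Localization.Away f))) •
            (⊤ : Submodule (Localization.Away f)
              ↥((p.map (algebraMap A (Localization.Away f))) ^ n •
                (⊤ : Submodule (Localization.Away f)
                  (LocalizedModule (Submonoid.powers f) M)))))) := by
  set F : p.Filtration M := p.stableFiltration (⊤ : Submodule A M) with hF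
  haveI : Module.Finite (reesAlgebra p) ↥F.submodule := by
    rw [Module.Finite.iff_fg]
    refine (F.submodule_fg_iff_stable fun i => ?_).mpr (p.stableFiltration_stable ⊤)
    exact IsNoetherian.noetherian _
  obtain ⟨f, hf, hfree⟩ := exists_freeAway_quotient p (reesAlgebra p) ↥F.submodule
  refine ⟨f, hf, fun n => ?_⟩
  set B := Localization.Away f with hB
  set I' := p.map (algebraMap A B) with hI'
  set M' := LocalizedModule (Submonoid.powers f) M with hM'
  set Q := ↥(I' ^ n • (⊤ : Submodule B M')) ⧸ (I' • (⊤ : Submodule B ↥(I' ^ n • (⊤ : Submodule B M'))))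
    with hQ
  have hX : (p ^ n • (⊤ : Submodule A M)).localized' B (Submonoid.powers f)
      (LocalizedModule.mkLinearMap (Submonoid.powers f) M) = I' ^ n • (⊤ : Submodule B M') := by
    rw [Submodule.localized'_smul, Ideal.localized'_eq_map, Submodule.localized'_top, Ideal.map_pow]
  obtain ⟨φA, hφA, -⟩ := exists_isLocalizedModule_quotient (Submonoid.powers f)
    (LocalizedModule.mkLinearMap (Submonoid.powers f) M) p (p ^ n • (⊤ : Submodule A M))
    (I' ^ n • (⊤ : Submodule B M')) hX
  letI : Module (A ⧸ p) Q := Module.compHom Q (algebraMap (A ⧸ p) (B ⧸ I'))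
  have hsm : ∀ (a : A) (x : Q), (Ideal.Quotient.mk p a) • x = a • x := by
    intro a x
    obtain ⟨y, rfl⟩ := Submodule.Quotient.mk_surjective _ x
    change (Ideal.Quotient.mk I' (algebraMap A B a)) • (Submodule.Quotient.mk y : Q) = _
    rw [Module.Quotient.mk_smul_mk, algebraMap_smul]
    rfl
  haveI : IsScalarTower (A ⧸ p) (B ⧸ I') Q := ⟨fun r s x => by
    change (r • s) • x = algebraMap (A ⧸ p) (B ⧸ I') r • (s • x)
    rw [Algebra.smul_def, mul_smul]⟩
  haveI : IsScalarTower A (A ⧸ p) Q := ⟨fun a r x => by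
    obtain ⟨a', rfl⟩ := Ideal.Quotient.mk_surjective r
    rw [← hsm a, smul_smul]
    rfl⟩
  haveI : IsLocalization.Away (Ideal.Quotient.mk p f) (B ⧸ I') := by
    have : IsLocalization (Algebra.algebraMapSubmonoid (A ⧸ p) (Submonoid.powers f)) (B ⧸ I') :=
      inferInstance
    rwa [algebraMapSubmonoid_powers] at this
  let φ : (↥(p ^ n • (⊤ : Submodule A M)) ⧸ (p • (⊤ : Submodule A ↥(p ^ n • (⊤ : Submodule A M)))))
      →ₗ[A ⧸ p] Q := φA.extendScalarsOfSurjective Ideal.Quotient.mk_surjective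
  haveI : IsLocalizedModule (Submonoid.powers f) (φ.restrictScalars A) := hφA
  haveI : IsLocalizedModule (Submonoid.powers (Ideal.Quotient.mk p f)) φ := by
    have := IsLocalizedModule.of_restrictScalars (A := A ⧸ p) (Submonoid.powers f) φ
    rwa [algebraMapSubmonoid_powers] at this
  refine flat_of_retract_of_freeAway (Ideal.Quotient.mk p f) φ (qmap p (reesIncl F n))
    (qmap p (reesProj F n)) ?_ hfree
  refine LinearMap.ext fun x => ?_
  obtain ⟨x, rfl⟩ := Submodule.Quotient.mk_surjective _ x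
  change (Submodule.Quotient.mk (reesProj F n (reesIncl F n x)) :
    ↥(F.N n) ⧸ (p • ⊤ : Submodule A ↥(F.N n))) = Submodule.Quotient.mk x
  rw [reesProj_reesIncl]
  rfl

end main

end Groth.Agent.Lib.Helper14.NormFlat
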