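import Mathlib.RingTheory.Flat.Tensor
import Mathlib.RingTheory.Filtration
import Mathlib.RingTheory.TensorProduct.Finite
import Mathlib.LinearAlgebra.TensorProduct.Pi
import Mathlib.LinearAlgebra.TensorProduct.RightExactness

/-!
# Flatness from flatness of the associated graded module

Let `A → B` be a ring map with `B` Noetherian, `N` a finite `B`-module, `I` an ideal of `B` in the
Jacobson radical. If every `IⁿN / Iⁿ⁺¹N` is flat over `A`, then `N` is flat over `A`.
-/

set_option autoImplicit false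
universe u

namespace Groth.Agent.Lib.Helper15

open TensorProduct

section Finite

variable {A : Type*} [CommRing A] {B : Type*} [CommRing B] [Algebra A B]
  {N : Type*} [AddCommGroup N] [Module B N] [Module A N] [IsScalarTower A B N]
  {Q : Type*} [AddCommGroup Q] [Module A Q]

/-- `N ⊗[A] Q` is a finite `B`-module if `N` is finite over `B` and `Q` is finite over `A`. -/
theorem finite_tensor_left [Module.Finite B N] [Module.Finite A Q] :
    Module.Finite B (N ⊗[A] Q) := by
  classical
  obtain ⟨n, f, hf⟩ := Module.Finite.exists_fin' A Q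
  have h1 : Module.Finite B (N ⊗[A] (Fin n → A)) :=
    Module.Finite.equiv (TensorProduct.piScalarRight A B N (Fin n)).symm
  let F : N ⊗[A] (Fin n → A) →ₗ[B] N ⊗[A] Q :=
    TensorProduct.AlgebraTensorModule.map (LinearMap.id : N →ₗ[B] N) f
  have hF : Function.Surjective F := by
    have h2 : ∀ x, F x = LinearMap.lTensor N f x := by
      intro x
      induction x with
      | zero => simp
      | tmul a b => rfl
      | add a b ha hb => rw [map_add, map_add, ha, hb]
    intro y
    obtain ⟨x, hx⟩ := LinearMap.lTensor_surjective N hf y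
    exact ⟨x, (h2 x).trans hx⟩
  exact Module.Finite.of_surjective F hF

end Finite

section Main

variable {A : Type u} [CommRing A] {B : Type u} [CommRing B] [Algebra A B]
  {N : Type u} [AddCommGroup N] [Module B N] [Module A N] [IsScalarTower A B N]
  (I : Ideal B)

/-- The `A`-linear inclusion `IⁿN → N`. -/
noncomputable def grIncl (n : ℕ) : ↥(I ^ n • (⊤ : Submodule B N)) →ₗ[A] N :=
  (I ^ n • (⊤ : Submodule B N)).subtype.restrictScalars A

theorem grIncl_injective (n : ℕ) : Function.Injective (grIncl (A := A) (N := N) I n) :=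
  Subtype.val_injective

/-- The image of `IⁿN ⊗ Q → N ⊗ Q` lies in `Iⁿ(N ⊗ Q)`. -/
theorem rTensor_grIncl_mem {Q : Type u} [AddCommGroup Q] [Module A Q] (n : ℕ)
    (y : ↥(I ^ n • (⊤ : Submodule B N)) ⊗[A] Q) :
    LinearMap.rTensor Q (grIncl (A := A) (N := N) I n) y ∈
      (I ^ n • (⊤ : Submodule B (N ⊗[A] Q))) := by
  induction y with
  | zero => rw [map_zero]; exact Submodule.zero_mem _
  | add a b ha hb => rw [map_add]; exact Submodule.add_mem _ ha hb
  | tmul m q =>
    obtain ⟨m, hm⟩ := m
    change (m ⊗ₜ[A] q : N ⊗[A] Q) ∈ _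
    refine Submodule.smul_induction_on (p := fun m => (m ⊗ₜ[A] q : N ⊗[A] Q) ∈
      (I ^ n • (⊤ : Submodule B (N ⊗[A] Q)))) hm ?_ ?_
    · intro b hb n' _
      rw [← TensorProduct.smul_tmul']
      exact Submodule.smul_mem_smul hb Submodule.mem_top
    · intro m₁ m₂ h₁ h₂
      rw [TensorProduct.add_tmul]
      exact Submodule.add_mem _ h₁ h₂

/-- The `A`-linear map `I·(IⁿN) → Iⁿ⁺¹N`. -/
noncomputable def grKappa (n : ℕ) :
    ↥(I • (⊤ : Submodule B ↥(I ^ n • (⊤ : Submodule B N)))) →ₗ[A]
      ↥(I ^ (n + 1) • (⊤ : Submodule B N)) :=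
  (LinearMap.codRestrict (I ^ (n + 1) • (⊤ : Submodule B N))
    ((I ^ n • (⊤ : Submodule B N)).subtype.comp
      (I • (⊤ : Submodule B ↥(I ^ n • (⊤ : Submodule B N)))).subtype)
    (by
      intro w
      have h : Submodule.map (I ^ n • (⊤ : Submodule B N)).subtype
          (I • (⊤ : Submodule B ↥(I ^ n • (⊤ : Submodule B N)))) =
          I ^ (n + 1) • (⊤ : Submodule B N) := by
        rw [Submodule.map_smul'', Submodule.map_top, Submodule.range_subtype, ← mul_smul,
          ← pow_succ']
      rw [← h]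
      exact Submodule.mem_map_of_mem w.2)).restrictScalars A

theorem grIncl_comp_grKappa (n : ℕ) :
    (grIncl (A := A) (N := N) I (n + 1)).comp (grKappa (A := A) (N := N) I n) =
      (grIncl (A := A) (N := N) I n).comp
        ((I • (⊤ : Submodule B ↥(I ^ n • (⊤ : Submodule B N)))).subtype.restrictScalars A) := by
  ext w
  rfl

variable (A) in
/-- The induction step. -/
theorem mem_range_succ (𝔞 : Ideal A) (n : ℕ)
    (hflat : Module.Flat A
      (↥(I ^ n • (⊤ : Submodule B N)) ⧸ (I • (⊤ : Submodule B ↥(I ^ n • (⊤ : Submodule B N))))))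
    (x : N ⊗[A] 𝔞) (hx : LinearMap.lTensor N 𝔞.subtype x = 0)
    (hn : x ∈ LinearMap.range (LinearMap.rTensor 𝔞 (grIncl (A := A) (N := N) I n))) :
    x ∈ LinearMap.range (LinearMap.rTensor 𝔞 (grIncl (A := A) (N := N) I (n + 1))) := by
  obtain ⟨y, rfl⟩ := hn
  set ιn := grIncl (A := A) (N := N) I n with hιn
  let P := (I • (⊤ : Submodule B ↥(I ^ n • (⊤ : Submodule B N))))
  let incl : ↥P →ₗ[A] ↥(I ^ n • (⊤ : Submodule B N)) := P.subtype.restrictScalars A
  let π : ↥(I ^ n • (⊤ : Submodule B N)) →ₗ[A] (↥(I ^ n • (⊤ : Submodule B N)) ⧸ P) :=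
    P.mkQ.restrictScalars A
  -- (a)
  have ha : LinearMap.lTensor _ 𝔞.subtype y = 0 := by
    have hinj : Function.Injective (LinearMap.rTensor A ιn) :=
      Module.Flat.rTensor_preserves_injective_linearMap ιn (grIncl_injective I n)
    apply hinj
    rw [map_zero, ← LinearMap.comp_apply, LinearMap.rTensor_comp_lTensor,
      ← LinearMap.lTensor_comp_rTensor, LinearMap.comp_apply, hx]
  -- (b)
  have hb : LinearMap.rTensor 𝔞 π y = 0 := by
    have hinj : Function.Injective (LinearMap.lTensor (↥(I ^ n • (⊤ : Submodule B N)) ⧸ P)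
        𝔞.subtype) :=
      Module.Flat.lTensor_preserves_injective_linearMap 𝔞.subtype Subtype.val_injective
    apply hinj
    rw [map_zero, ← LinearMap.comp_apply, LinearMap.lTensor_comp_rTensor,
      ← LinearMap.rTensor_comp_lTensor, LinearMap.comp_apply, ha, map_zero]
  -- (c)
  have hex : Function.Exact (LinearMap.rTensor 𝔞 incl) (LinearMap.rTensor 𝔞 π) := by
    apply rTensor_exact
    · exact LinearMap.exact_subtype_mkQ P
    · exact Submodule.mkQ_surjective P
  obtain ⟨w, rfl⟩ := (hex y).1 hb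
  refine ⟨LinearMap.rTensor 𝔞 (grKappa (A := A) (N := N) I n) w, ?_⟩
  rw [← LinearMap.comp_apply, ← LinearMap.rTensor_comp, grIncl_comp_grKappa,
    LinearMap.rTensor_comp, LinearMap.comp_apply]

variable (A) in
/-- If `B` is Noetherian, `N` a finite `B`-module, `I` in the Jacobson radical of `B` and all
`IⁿN / Iⁿ⁺¹N` are flat over `A`, then `N` is flat over `A`. -/
theorem flat_of_gr_flat [IsNoetherianRing B] [Module.Finite B N] (hI : I ≤ Ideal.jacobson ⊥)
    (hgr : ∀ n : ℕ, Module.Flat A
      (↥(I ^ n • (⊤ : Submodule B N)) ⧸ (I • (⊤ : Submodule B ↥(I ^ n • (⊤ : Submodule B N)))))) :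
    Module.Flat A N := by
  rw [Module.Flat.iff_lTensor_injective]
  intro 𝔞 hfg
  rw [injective_iff_map_eq_zero]
  intro x hx
  have : Module.Finite A 𝔞 := Module.Finite.iff_fg.2 hfg
  have hfin : Module.Finite B (N ⊗[A] 𝔞) := finite_tensor_left
  have hmem : ∀ n, x ∈ LinearMap.range (LinearMap.rTensor 𝔞 (grIncl (A := A) (N := N) I n)) := by
    intro n
    induction n with
    | zero =>
      have hs : Function.Surjective (grIncl (A := A) (N := N) I 0) := by
        intro v
        refine ⟨⟨v, ?_⟩, rfl⟩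
        rw [pow_zero, Ideal.one_eq_top, Submodule.top_smul]
        exact Submodule.mem_top
      exact LinearMap.range_eq_top.2 (LinearMap.rTensor_surjective 𝔞 hs) ▸ Submodule.mem_top
    | succ n ih => exact mem_range_succ A I 𝔞 n (hgr n) x hx ih
  have hkrull := Ideal.iInf_pow_smul_eq_bot_of_le_jacobson (M := N ⊗[A] 𝔞) I hI
  have hx0 : x ∈ (⨅ i : ℕ, I ^ i • ⊤ : Submodule B (N ⊗[A] 𝔞)) := by
    rw [Submodule.mem_iInf]
    intro n
    obtain ⟨y, rfl⟩ := hmem n
    exact rTensor_grIncl_mem I n y
  rw [hkrull] at hx0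
  exact (Submodule.mem_bot B).1 hx0

end Main

end Groth.Agent.Lib.Helper15
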