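import Mathlib
import Groth.Agent.Lib.Helper2GenFree2
import Groth.Agent.Lib.Helper14NormFlat
import Groth.Agent.Lib.Helper15GrFlat
import Groth.Agent.Lib.Helper3FlatLocA
import Groth.Agent.Lib.Helper11GenFlat

/-!
# Generic flatness along a closed subscheme of finite type (helper26)

`A` a domain, `B` a Noetherian `A`-algebra, `J` an ideal of `B` with `B ⧸ J` of finite type over `A`,
`M` a finite `B`-module.  Then there is `f ≠ 0` in `A` such that `M_q` is flat over `A` for every
prime `q ⊇ J` of `B` not containing `f`.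

Route: the Rees module `⨁ JⁿM` is finite over the Rees algebra `⨁ Jⁿ`, whose reduction mod `J` is of
finite type over `B ⧸ J`, hence over `A`; generic freeness (helper2) gives `f` with `gr_J(M)` free
away from `f`; every graded piece is a retract (helper14's Rees maps), localize at `q` and conclude
by helper15's `flat_of_gr_flat` (Krull intersection).
-/

set_option autoImplicit false
set_option linter.style.haveILetI false
universe u

namespace Groth.Agent.Lib.Helper26.GenFlatAlong

open Groth.Agent.Lib.Helper2.GenFree Groth.Agent.Lib.Helper14.NormFlat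

section genfree

/-- Generic freeness of `𝓡 / J𝓡` over `A`, where `𝓡` is a finite module over a finite type
`B`-algebra and `B ⧸ J` is of finite type over the domain `A`. -/
theorem exists_freeAway_quotient_of_finiteType {A : Type*} [CommRing A] [IsDomain A]
    {B : Type*} [CommRing B] [Algebra A B] (J : Ideal B) [Algebra.FiniteType A (B ⧸ J)]
    (𝒮 : Type*) [CommRing 𝒮] [Algebra B 𝒮] [Algebra.FiniteType B 𝒮]
    (𝓡 : Type*) [AddCommGroup 𝓡] [Module 𝒮 𝓡] [Module B 𝓡] [IsScalarTower B 𝒮 𝓡]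
    [Module.Finite 𝒮 𝓡] [Module A 𝓡] [IsScalarTower A B 𝓡] :
    ∃ f : A, f ≠ 0 ∧ FreeAway A f (𝓡 ⧸ (J • ⊤ : Submodule B 𝓡)) := by
  set J' : Ideal 𝒮 := J.map (algebraMap B 𝒮) with hJ'
  let S := 𝒮 ⧸ J'
  let 𝓝 := 𝓡 ⧸ (J' • ⊤ : Submodule 𝒮 𝓡)
  letI algAS : Algebra A S := ((algebraMap B S).comp (algebraMap A B)).toAlgebra
  haveI : IsScalarTower A B S := IsScalarTower.of_algebraMap_eq (fun _ => rfl)
  haveI : IsScalarTower A (B ⧸ J) S := IsScalarTower.of_algebraMap_eq (fun _ => rfl)
  haveI : Algebra.FiniteType B S :=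
    Algebra.FiniteType.of_surjective (Ideal.Quotient.mkₐ B J') Ideal.Quotient.mk_surjective
  haveI : Algebra.FiniteType (B ⧸ J) S := Algebra.FiniteType.of_restrictScalars_finiteType B (B ⧸ J) S
  haveI : Algebra.FiniteType A S :=
    Algebra.FiniteType.trans (inferInstance : Algebra.FiniteType A (B ⧸ J)) inferInstance
  letI : Module A 𝓝 := Module.compHom 𝓝 (algebraMap A S)
  have hsm : ∀ (r : A) (x : 𝓝), r • x = algebraMap A S r • x := fun _ _ => rfl
  haveI : IsScalarTower A S 𝓝 := ⟨fun r s x => by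
    rw [hsm, Algebra.smul_def, mul_smul]⟩
  haveI : Module.Finite S 𝓝 := Module.Finite.of_restrictScalars_finite 𝒮 S 𝓝
  obtain ⟨f, hf0, -, hfree, -, -⟩ := exists_freeAway A S 𝓝
  refine ⟨f, hf0, ?_⟩
  have hEq : (J' • ⊤ : Submodule 𝒮 𝓡).restrictScalars B = (J • ⊤ : Submodule B 𝓡) := by
    rw [hJ', Ideal.smul_restrictScalars, Submodule.restrictScalars_top]
  let eB : 𝓝 ≃ₗ[B] (𝓡 ⧸ (J • ⊤ : Submodule B 𝓡)) :=
    Submodule.quotEquivOfEq ((J' • ⊤ : Submodule 𝒮 𝓡).restrictScalars B) (J • ⊤) hEq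
  let e : 𝓝 ≃ₗ[A] (𝓡 ⧸ (J • ⊤ : Submodule B 𝓡)) :=
    { eB with
      map_smul' := fun r x => by
        obtain ⟨y, rfl⟩ := Submodule.Quotient.mk_surjective _ x
        have h1 : r • (Submodule.Quotient.mk y : 𝓝) = (Submodule.Quotient.mk (r • y) : 𝓝) := by
          rw [hsm]
          change (Ideal.Quotient.mk J' (algebraMap B 𝒮 (algebraMap A B r))) •
            (Submodule.Quotient.mk y : 𝓝) = _
          rw [Module.Quotient.mk_smul_mk, algebraMap_smul, algebraMap_smul]
        change eB (r • (Submodule.Quotient.mk y : 𝓝)) = r • eB (Submodule.Quotient.mk y : 𝓝)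
        rw [h1]
        rfl }
  exact hfree.of_linearEquiv e

end genfree

section qmapB
variable {B : Type*} [CommRing B] (J : Ideal B) {X Y : Type*} [AddCommGroup X] [Module B X]
  [AddCommGroup Y] [Module B Y]

/-- functoriality of `X ↦ X ⧸ J • ⊤` (as `B`-modules). -/
def qmapB (g : X →ₗ[B] Y) :
    (X ⧸ (J • ⊤ : Submodule B X)) →ₗ[B] (Y ⧸ (J • ⊤ : Submodule B Y)) :=
  Submodule.mapQ _ _ g (by
    rw [← Submodule.map_le_iff_le_comap, Submodule.map_smul'']
    exact Submodule.smul_mono le_rfl le_top)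

@[simp]
theorem qmapB_mk (g : X →ₗ[B] Y) (x : X) :
    qmapB J g (Submodule.Quotient.mk x) = Submodule.Quotient.mk (g x) := rfl

end qmapB

section main

variable {A : Type u} [CommRing A] [IsDomain A] {B : Type u} [CommRing B] [IsNoetherianRing B]
  [Algebra A B] (J : Ideal B) [Algebra.FiniteType A (B ⧸ J)]
  (M : Type u) [AddCommGroup M] [Module B M] [Module A M] [IsScalarTower A B M] [Module.Finite B M]

omit [IsDomain A] [IsNoetherianRing B] in
/-- a `B`-module which is free over `A` away from `f` has `A`-flat localizations at all primes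
of `B` not containing `f`. -/
theorem flat_localizedModule_of_freeAway {𝓝 : Type*} [AddCommGroup 𝓝] [Module B 𝓝] [Module A 𝓝]
    [IsScalarTower A B 𝓝] {f : A} (hfree : FreeAway A f 𝓝) (T : Submonoid B)
    (hf : algebraMap A B f ∈ T) : Module.Flat A (LocalizedModule T 𝓝) := by
  have h1 : Module.Flat A (LocalizedModule (Submonoid.powers f) 𝓝) :=
    Groth.Agent.Lib.Helper11GenFlat.flat_of_freeAway hfree
      (LocalizedModule.mkLinearMap (Submonoid.powers f) 𝓝)
  have h2 : Module.Flat A (LocalizedModule (Submonoid.powers (algebraMap A B f)) 𝓝) := by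
    rw [Groth.Agent.Lib.Helper3.FlatLoc.flat_localizedModule_iff] at h1 ⊢
    intro I hI z hz
    obtain ⟨s, ⟨k, rfl⟩, hsz⟩ := h1 I hI z hz
    refine ⟨algebraMap A B (f ^ k), ⟨k, by rw [map_pow]⟩, ?_⟩
    rw [algebraMap_smul]
    exact hsz
  exact Groth.Agent.Lib.Helper3.FlatLoc.flat_localizedModule_of_le
    (Submonoid.powers_le.mpr hf) h2

omit [IsDomain A] [Algebra.FiniteType A (B ⧸ J)] in
/-- the abstract step: if `𝓡 / J𝓡` is free over `A` away from `f` and every `JⁿM` is a `B`-linear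
retract of `𝓡`, then `M_q` is `A`-flat at all primes `q ⊇ J` not containing `f`. -/
theorem flat_localizedModule_of_retracts (𝓡 : Type*) [AddCommGroup 𝓡] [Module B 𝓡] [Module A 𝓡]
    [IsScalarTower A B 𝓡] {f : A} (hfree : FreeAway A f (𝓡 ⧸ (J • ⊤ : Submodule B 𝓡)))
    (ι : ∀ n : ℕ, ↥(J ^ n • (⊤ : Submodule B M)) →ₗ[B] 𝓡)
    (π : ∀ n : ℕ, 𝓡 →ₗ[B] ↥(J ^ n • (⊤ : Submodule B M)))
    (hπι : ∀ n, (π n).comp (ι n) = LinearMap.id)
    (q : Ideal B) [q.IsPrime] (hJq : J ≤ q) (hfq : algebraMap A B f ∉ q) :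
    Module.Flat A (LocalizedModule q.primeCompl M) := by
  set T := q.primeCompl with hT
  set 𝓝 := 𝓡 ⧸ (J • ⊤ : Submodule B 𝓡) with h𝓝
  have hN : Module.Flat A (LocalizedModule T 𝓝) :=
    flat_localizedModule_of_freeAway hfree T hfq
  set Bq := Localization.AtPrime q with hBq
  set X := LocalizedModule T M with hX
  set J' : Ideal Bq := J.map (algebraMap B Bq) with hJ'
  have hJ'le : J' ≤ Ideal.jacobson ⊥ := by
    rw [IsLocalRing.jacobson_eq_maximalIdeal ⊥ bot_ne_top, hJ', Ideal.map_le_iff_le_comap]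
    exact hJq.trans (le_of_eq (IsLocalization.AtPrime.under_maximalIdeal Bq q).symm)
  refine Groth.Agent.Lib.Helper15.flat_of_gr_flat A (B := Bq) (N := X) J' hJ'le (fun n => ?_)
  have hXn : (J ^ n • (⊤ : Submodule B M)).localized' Bq T (LocalizedModule.mkLinearMap T M) =
      J' ^ n • (⊤ : Submodule Bq X) := by
    rw [Submodule.localized'_smul, Ideal.localized'_eq_map, Submodule.localized'_top, Ideal.map_pow]
  obtain ⟨φ, hφ, -⟩ := exists_isLocalizedModule_quotient T (LocalizedModule.mkLinearMap T M) J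
    (J ^ n • (⊤ : Submodule B M)) (J' ^ n • (⊤ : Submodule Bq X)) hXn
  haveI := hφ
  let ψ := LocalizedModule.mkLinearMap T 𝓝
  let i₀ : (↥(J ^ n • (⊤ : Submodule B M)) ⧸ (J • ⊤ : Submodule B ↥(J ^ n • (⊤ : Submodule B M))))
      →ₗ[B] 𝓝 := qmapB J (ι n)
  let π₀ : 𝓝 →ₗ[B]
      (↥(J ^ n • (⊤ : Submodule B M)) ⧸ (J • ⊤ : Submodule B ↥(J ^ n • (⊤ : Submodule B M)))) :=
    qmapB J (π n)
  have hπi : π₀.comp i₀ = LinearMap.id := by
    refine LinearMap.ext fun x => ?_
    obtain ⟨x, rfl⟩ := Submodule.Quotient.mk_surjective _ x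
    change Submodule.Quotient.mk ((π n) ((ι n) x)) = Submodule.Quotient.mk x
    congr 1
    exact LinearMap.congr_fun (hπι n) x
  let i' := IsLocalizedModule.map T φ ψ i₀
  let π' := IsLocalizedModule.map T ψ φ π₀
  have h : π'.comp i' = LinearMap.id := by
    apply IsLocalizedModule.ext T φ (IsLocalizedModule.map_units φ)
    refine LinearMap.ext fun x => ?_
    change π' (i' (φ x)) = φ x
    have h1 : i' (φ x) = ψ (i₀ x) := IsLocalizedModule.map_apply T φ ψ i₀ x
    have h2 : π' (ψ (i₀ x)) = φ (π₀ (i₀ x)) := IsLocalizedModule.map_apply T ψ φ π₀ (i₀ x)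
    rw [h1, h2]
    congr 1
    exact LinearMap.congr_fun hπi x
  refine Module.Flat.of_retract (i'.restrictScalars A) (π'.restrictScalars A) ?_
  refine LinearMap.ext fun x => ?_
  exact LinearMap.congr_fun h x

/-- **Generic flatness along `V(J)`**: `A` a domain, `B` a Noetherian `A`-algebra, `B ⧸ J` of finite
type over `A`, `M` a finite `B`-module. There is `f ≠ 0` in `A` such that `M_q` is flat over `A` for
every prime `q ⊇ J` of `B` with `f ∉ q`. -/
theorem exists_forall_flat_localizedModule :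
    ∃ f : A, f ≠ 0 ∧ ∀ (q : Ideal B) [q.IsPrime], J ≤ q → algebraMap A B f ∉ q →
      Module.Flat A (LocalizedModule q.primeCompl M) := by
  set F : J.Filtration M := J.stableFiltration (⊤ : Submodule B M) with hF
  haveI : Module.Finite (reesAlgebra J) ↥F.submodule := by
    rw [Module.Finite.iff_fg]
    refine (F.submodule_fg_iff_stable fun i => ?_).mpr (J.stableFiltration_stable ⊤)
    exact IsNoetherian.noetherian _
  haveI : Algebra.FiniteType B (reesAlgebra J) :=
    (Subalgebra.fg_iff_finiteType _).mp (reesAlgebra.fg (IsNoetherian.noetherian J))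
  obtain ⟨f, hf0, hfree⟩ := exists_freeAway_quotient_of_finiteType (A := A) J (reesAlgebra J)
    ↥F.submodule
  refine ⟨f, hf0, fun q _ hJq hfq => ?_⟩
  exact flat_localizedModule_of_retracts J M ↥F.submodule hfree (fun n => reesIncl F n)
    (fun n => reesProj F n)
    (fun n => LinearMap.ext fun x => reesProj_reesIncl F n x) q hJq hfq

end main

end Groth.Agent.Lib.Helper26.GenFlatAlong
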