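import Mathlib
import Groth.Agent.Lib.Helper26GenFlatAlong
import Groth.Agent.Lib.Helper13GenFlat

/-!
# Stratification by flatness of the associated graded module (helper26)

Tools for EGA IV 11.2-type statements on `gr_J(M ⊗ A')`:

* `flat_ker_of_surjective`: the kernel of a surjection of flat modules is flat.
* `flat_piece_of_flat_truncations`: if every `A' ⊗ (M₀ ⧸ X k)` is `A'`-flat then every graded piece
  `R n / R (n+1)` (`R k` = image of `A' ⊗ X k` in `A' ⊗ M₀`), encoded as the image of `R n` in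
  `(A' ⊗ M₀) ⧸ R (n+1)`, is `A'`-flat.
* `exists_flatAway_quotient_pow`: generic flatness of all truncations `M ⧸ JᵏM` over a domain.
-/

set_option autoImplicit false
set_option linter.style.haveILetI false
universe u

namespace Groth.Agent.Lib.Helper26.GrStrat

open TensorProduct

section ker

variable {R : Type*} [CommRing R] {P P'' : Type*} [AddCommGroup P] [Module R P]
  [AddCommGroup P''] [Module R P'']

/-- the kernel of a surjection between flat modules is flat. -/
theorem flat_ker_of_surjective [Module.Flat R P] [Module.Flat R P''] (π : P →ₗ[R] P'')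
    (hπ : Function.Surjective π) : Module.Flat R (LinearMap.ker π) := by
  rw [Module.Flat.iff_lTensor_injective']
  intro I
  set K := LinearMap.ker π with hK
  have hex : Function.Exact K.subtype π := by
    intro y
    constructor
    · intro hy
      exact ⟨⟨y, hy⟩, rfl⟩
    · rintro ⟨z, rfl⟩
      exact z.2
  have h1 : Function.Injective (K.subtype.lTensor I) :=
    LinearMap.lTensor_injective_of_exact_of_flat π hπ K.subtype Subtype.val_injective hex I
  have h1' : Function.Injective (K.subtype.rTensor I) :=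
    (LinearMap.lTensor_inj_iff_rTensor_inj _ _).mp h1
  have h2 : Function.Injective (I.subtype.lTensor P) :=
    (Module.Flat.iff_lTensor_injective'.mp inferInstance) I
  have hsq : (K.subtype.rTensor R).comp (I.subtype.lTensor K) =
      (I.subtype.lTensor P).comp (K.subtype.rTensor I) := by
    rw [LinearMap.rTensor_comp_lTensor, LinearMap.lTensor_comp_rTensor]
  have h3 : Function.Injective ((K.subtype.rTensor R).comp (I.subtype.lTensor K)) := by
    rw [hsq]
    exact h2.comp h1'
  exact Function.Injective.of_comp h3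

end ker

section piece

variable {A₀ : Type*} [CommRing A₀] (A' : Type*) [CommRing A'] [Algebra A₀ A']
  {M₀ : Type*} [AddCommGroup M₀] [Module A₀ M₀]

/-- the image of `A' ⊗ X` in `A' ⊗ M₀`. -/
noncomputable def bcRange (X : Submodule A₀ M₀) : Submodule A' (A' ⊗[A₀] M₀) :=
  LinearMap.range (LinearMap.baseChange A' X.subtype)

theorem bcRange_mono {X Y : Submodule A₀ M₀} (h : X ≤ Y) : bcRange A' X ≤ bcRange A' Y := by
  rintro _ ⟨z, rfl⟩
  refine ⟨LinearMap.baseChange A' (Submodule.inclusion h) z, ?_⟩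
  rw [← LinearMap.comp_apply, ← LinearMap.baseChange_comp]
  rfl

theorem ker_baseChange_mkQ (X : Submodule A₀ M₀) :
    LinearMap.ker (LinearMap.baseChange A' X.mkQ) = bcRange A' X := by
  have hex : Function.Exact (X.subtype.lTensor A') (X.mkQ.lTensor A') :=
    lTensor_exact A' (LinearMap.exact_subtype_mkQ X) (Submodule.mkQ_surjective X)
  ext x
  rw [LinearMap.mem_ker]
  change (X.mkQ.lTensor A') x = 0 ↔ x ∈ LinearMap.range (LinearMap.baseChange A' X.subtype)
  rw [hex x]
  rfl

/-- `(A' ⊗ M₀) ⧸ (image of A' ⊗ X) ≃ A' ⊗ (M₀ ⧸ X)`. -/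
noncomputable def quotBcRangeEquiv (X : Submodule A₀ M₀) :
    ((A' ⊗[A₀] M₀) ⧸ bcRange A' X) ≃ₗ[A'] A' ⊗[A₀] (M₀ ⧸ X) :=
  (Submodule.quotEquivOfEq _ _ (ker_baseChange_mkQ A' X).symm).trans
    (LinearMap.quotKerEquivOfSurjective (LinearMap.baseChange A' X.mkQ)
      (LinearMap.lTensor_surjective A' (Submodule.mkQ_surjective X)))

/-- if the truncations `A' ⊗ (M₀ ⧸ X)`, `A' ⊗ (M₀ ⧸ Y)` are flat (`Y ≤ X`), then the graded piece
`image(A' ⊗ X) / image(A' ⊗ Y)`, encoded as the image of the former in the quotient by the latter,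
is flat. -/
theorem flat_piece {X Y : Submodule A₀ M₀} (h : Y ≤ X)
    [hX : Module.Flat A' (A' ⊗[A₀] (M₀ ⧸ X))] [hY : Module.Flat A' (A' ⊗[A₀] (M₀ ⧸ Y))] :
    Module.Flat A' ↥(Submodule.map (bcRange A' Y).mkQ (bcRange A' X)) := by
  haveI : Module.Flat A' ((A' ⊗[A₀] M₀) ⧸ bcRange A' X) :=
    Module.Flat.of_linearEquiv (quotBcRangeEquiv A' X)
  haveI : Module.Flat A' ((A' ⊗[A₀] M₀) ⧸ bcRange A' Y) :=
    Module.Flat.of_linearEquiv (quotBcRangeEquiv A' Y)
  let π : ((A' ⊗[A₀] M₀) ⧸ bcRange A' Y) →ₗ[A'] ((A' ⊗[A₀] M₀) ⧸ bcRange A' X) :=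
    Submodule.mapQ _ _ LinearMap.id (by
      rw [Submodule.comap_id]
      exact bcRange_mono A' h)
  have hπ : Function.Surjective π := by
    intro y
    obtain ⟨y, rfl⟩ := Submodule.Quotient.mk_surjective _ y
    exact ⟨Submodule.Quotient.mk y, rfl⟩
  have hker : Submodule.map (bcRange A' Y).mkQ (bcRange A' X) = LinearMap.ker π := by
    ext x
    obtain ⟨y, rfl⟩ := Submodule.Quotient.mk_surjective _ x
    rw [LinearMap.mem_ker]
    change _ ↔ (Submodule.Quotient.mk y : (A' ⊗[A₀] M₀) ⧸ bcRange A' X) = 0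
    rw [Submodule.Quotient.mk_eq_zero]
    constructor
    · rintro ⟨y', hy', hyy'⟩
      have h1 : y' - y ∈ bcRange A' Y := by
        rw [← Submodule.Quotient.eq]
        exact hyy'
      have h2 : y = y' - (y' - y) := by abel
      rw [h2]
      exact Submodule.sub_mem _ hy' (bcRange_mono A' h h1)
    · intro hy
      exact ⟨y, hy, rfl⟩
  rw [hker]
  exact flat_ker_of_surjective π hπ

end piece

section flatAway

open Groth.Agent.Helper13GenFlat Groth.Agent.Lib.Helper2.GenFree

variable {R : Type*} [CommRing R] {f : R} {Q Q' : Type*} [AddCommGroup Q] [Module R Q]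
  [AddCommGroup Q'] [Module R Q']

theorem FlatAway.of_retract (i : Q' →ₗ[R] Q) (r : Q →ₗ[R] Q') (hri : r.comp i = LinearMap.id)
    (h : FlatAway f Q) : FlatAway f Q' := by
  intro g
  haveI := h g
  refine Module.Flat.of_retract (locMap (Submonoid.powers (f * g)) i)
    (locMap (Submonoid.powers (f * g)) r) ?_
  rw [← locMap_comp, hri]
  refine LinearMap.ext fun x => ?_
  induction x using LocalizedModule.induction_on with
  | h m s => simp [locMap_mk]

end flatAway

section lemmaF

open Groth.Agent.Helper13GenFlat Groth.Agent.Lib.Helper2.GenFree Groth.Agent.Lib.Helper14.NormFlat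
  Groth.Agent.Lib.Helper26.GenFlatAlong

section maps

variable {B : Type*} [CommRing B] (J : Ideal B) (M : Type*) [AddCommGroup M] [Module B M]

/-- the graded piece `JᵏM / Jᵏ⁺¹M` (as `JᵏM ⧸ J • ⊤`) maps into `M ⧸ Jᵏ⁺¹M`. -/
def grIncl (k : ℕ) :
    (↥(J ^ k • (⊤ : Submodule B M)) ⧸ (J • ⊤ : Submodule B ↥(J ^ k • (⊤ : Submodule B M)))) →ₗ[B]
      (M ⧸ (J ^ (k + 1) • ⊤ : Submodule B M)) :=
  Submodule.mapQ _ _ (J ^ k • (⊤ : Submodule B M)).subtype (by
    rw [← Submodule.map_le_iff_le_comap, Submodule.map_smul'', Submodule.map_top,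
      Submodule.range_subtype, ← mul_smul, ← pow_succ'])

/-- `M ⧸ Jᵏ⁺¹M → M ⧸ JᵏM`. -/
def grProj (k : ℕ) :
    (M ⧸ (J ^ (k + 1) • ⊤ : Submodule B M)) →ₗ[B] (M ⧸ (J ^ k • ⊤ : Submodule B M)) :=
  Submodule.mapQ _ _ LinearMap.id (by
    rw [Submodule.comap_id]
    exact Submodule.smul_mono_left (Ideal.pow_le_pow_right (Nat.le_succ k)))

theorem grIncl_injective (k : ℕ) : Function.Injective (grIncl J M k) := by
  have h : (J ^ (k + 1) • ⊤ : Submodule B M) = Submodule.map (J ^ k • (⊤ : Submodule B M)).subtype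
      (J • ⊤ : Submodule B ↥(J ^ k • (⊤ : Submodule B M))) := by
    rw [Submodule.map_smul'', Submodule.map_top, Submodule.range_subtype, ← mul_smul, ← pow_succ']
  rw [← LinearMap.ker_eq_bot, grIncl, Submodule.ker_mapQ, h,
    Submodule.comap_map_eq_of_injective (Submodule.injective_subtype _), Submodule.mkQ_map_self]

theorem grProj_surjective (k : ℕ) : Function.Surjective (grProj J M k) := by
  intro y
  obtain ⟨y, rfl⟩ := Submodule.Quotient.mk_surjective _ y
  exact ⟨Submodule.Quotient.mk y, rfl⟩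

theorem grIncl_grProj_exact (k : ℕ) : Function.Exact (grIncl J M k) (grProj J M k) := by
  intro y
  obtain ⟨y, rfl⟩ := Submodule.Quotient.mk_surjective _ y
  change (Submodule.Quotient.mk y : M ⧸ (J ^ k • ⊤ : Submodule B M)) = 0 ↔ _
  rw [Submodule.Quotient.mk_eq_zero]
  constructor
  · intro hy
    exact ⟨Submodule.Quotient.mk ⟨y, hy⟩, rfl⟩
  · rintro ⟨z, hz⟩
    obtain ⟨z, rfl⟩ := Submodule.Quotient.mk_surjective _ z
    change (Submodule.Quotient.mk (z : M) : M ⧸ (J ^ (k + 1) • ⊤ : Submodule B M)) = _ at hz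
    rw [Submodule.Quotient.eq] at hz
    have h1 : (z : M) - y ∈ (J ^ k • ⊤ : Submodule B M) :=
      Submodule.smul_mono_left (Ideal.pow_le_pow_right (Nat.le_succ k)) hz
    have h2 : y = (z : M) - ((z : M) - y) := by abel
    rw [h2]
    exact Submodule.sub_mem _ z.2 h1

end maps

section F

variable {A : Type u} [CommRing A] {B : Type u} [CommRing B]
  [Algebra A B] (J : Ideal B)
  (M : Type u) [AddCommGroup M] [Module B M] [Module A M] [IsScalarTower A B M]

/-- the abstract step: if `𝓡 / J𝓡` is free over `A` away from `f` and every `JⁿM` is a `B`-linear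
retract of `𝓡`, then all truncations `M ⧸ JᵏM` are `A`-flat away from `f`. -/
theorem flatAway_quotient_pow_of_retracts (𝓡 : Type*) [AddCommGroup 𝓡] [Module B 𝓡] [Module A 𝓡]
    [IsScalarTower A B 𝓡] {f : A} (hfree : FreeAway A f (𝓡 ⧸ (J • ⊤ : Submodule B 𝓡)))
    (ι : ∀ n : ℕ, ↥(J ^ n • (⊤ : Submodule B M)) →ₗ[B] 𝓡)
    (π : ∀ n : ℕ, 𝓡 →ₗ[B] ↥(J ^ n • (⊤ : Submodule B M)))
    (hπι : ∀ n, (π n).comp (ι n) = LinearMap.id) (k : ℕ) :
    FlatAway f (M ⧸ (J ^ k • ⊤ : Submodule B M)) := by
  have h𝓝 : FlatAway f (𝓡 ⧸ (J • ⊤ : Submodule B 𝓡)) := FlatAway.of_freeAway hfree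
  have hP : ∀ n : ℕ, FlatAway f
      (↥(J ^ n • (⊤ : Submodule B M)) ⧸ (J • ⊤ : Submodule B ↥(J ^ n • (⊤ : Submodule B M)))) := by
    intro n
    refine FlatAway.of_retract ((qmapB J (ι n)).restrictScalars A)
      ((qmapB J (π n)).restrictScalars A) ?_ h𝓝
    refine LinearMap.ext fun x => ?_
    obtain ⟨x, rfl⟩ := Submodule.Quotient.mk_surjective _ x
    change Submodule.Quotient.mk ((π n) ((ι n) x)) = Submodule.Quotient.mk x
    congr 1
    exact LinearMap.congr_fun (hπι n) x
  induction k with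
  | zero =>
    haveI : Subsingleton (M ⧸ (J ^ 0 • ⊤ : Submodule B M)) := by
      rw [pow_zero, Ideal.one_eq_top, Submodule.top_smul]
      exact Submodule.Quotient.subsingleton_iff.mpr rfl
    exact FlatAway.of_subsingleton f
  | succ k ih =>
    exact FlatAway.of_exact ((grIncl J M k).restrictScalars A) ((grProj J M k).restrictScalars A)
      (grIncl_injective J M k) (grProj_surjective J M k) (grIncl_grProj_exact J M k) (hP k) ih

/-- **Generic flatness of all truncations**: `A` a domain, `B` a Noetherian `A`-algebra, `B ⧸ J` of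
finite type over `A`, `M` a finite `B`-module. There is `f ≠ 0` in `A` such that every `M ⧸ JᵏM` is
`A`-flat after inverting (any multiple of) `f`. -/
theorem exists_flatAway_quotient_pow [IsDomain A] [IsNoetherianRing B]
    [Algebra.FiniteType A (B ⧸ J)] [Module.Finite B M] :
    ∃ f : A, f ≠ 0 ∧ ∀ k : ℕ, FlatAway f (M ⧸ (J ^ k • ⊤ : Submodule B M)) := by
  set F : J.Filtration M := J.stableFiltration (⊤ : Submodule B M) with hF
  haveI : Module.Finite (reesAlgebra J) ↥F.submodule := by
    rw [Module.Finite.iff_fg]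
    refine (F.submodule_fg_iff_stable fun i => ?_).mpr (J.stableFiltration_stable ⊤)
    exact IsNoetherian.noetherian _
  haveI : Algebra.FiniteType B (reesAlgebra J) :=
    (Subalgebra.fg_iff_finiteType _).mp (reesAlgebra.fg (IsNoetherian.noetherian J))
  obtain ⟨f, hf0, hfree⟩ := exists_freeAway_quotient_of_finiteType (A := A) J (reesAlgebra J)
    ↥F.submodule
  refine ⟨f, hf0, fun k => ?_⟩
  exact flatAway_quotient_pow_of_retracts J M ↥F.submodule hfree (fun n => reesIncl F n)
    (fun n => reesProj F n)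
    (fun n => LinearMap.ext fun x => reesProj_reesIncl F n x) k

end F

end lemmaF

section transport

variable {A₀ : Type*} [CommRing A₀] (p : Ideal A₀)
  {Q : Type*} [AddCommGroup Q] [Module A₀ Q]
  {Q' : Type*} [AddCommGroup Q'] [Module A₀ Q'] [Module (A₀ ⧸ p) Q'] [IsScalarTower A₀ (A₀ ⧸ p) Q']

/-- a surjection `q : Q → Q'` onto an `A₀ ⧸ p`-module with kernel `p • ⊤` exhibits `Q'` as the base
change of `Q` to `A₀ ⧸ p`. -/
theorem isBaseChange_of_ker_eq_smul (q : Q →ₗ[A₀] Q') (hq : Function.Surjective q)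
    (hker : LinearMap.ker q = (p • ⊤ : Submodule A₀ Q)) : IsBaseChange (A₀ ⧸ p) q := by
  let c : (A₀ ⧸ p) ⊗[A₀] Q →ₗ[A₀ ⧸ p] Q' := LinearMap.liftBaseChange (A₀ ⧸ p) q
  have hc1 : ∀ x : Q, c (1 ⊗ₜ x) = q x := fun x => by
    simp [c]
  have hform : ∀ z : (A₀ ⧸ p) ⊗[A₀] Q, ∃ x : Q, z = 1 ⊗ₜ x := by
    intro z
    induction z with
    | zero => exact ⟨0, (TensorProduct.tmul_zero _ _).symm⟩
    | tmul d x =>
      obtain ⟨a, rfl⟩ := Ideal.Quotient.mk_surjective d
      refine ⟨a • x, ?_⟩
      rw [← TensorProduct.smul_tmul, Algebra.smul_def, mul_one]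
      rfl
    | add z w hz hw =>
      obtain ⟨x, rfl⟩ := hz
      obtain ⟨y, rfl⟩ := hw
      exact ⟨x + y, (TensorProduct.tmul_add _ _ _).symm⟩
  have hzero : ∀ x ∈ (p • ⊤ : Submodule A₀ Q), (1 : A₀ ⧸ p) ⊗ₜ[A₀] x = 0 := by
    intro x hx
    induction hx using Submodule.smul_induction_on' with
    | smul a ha m _ =>
      rw [← TensorProduct.smul_tmul, Algebra.smul_def, mul_one]
      have : algebraMap A₀ (A₀ ⧸ p) a = 0 := Ideal.Quotient.eq_zero_iff_mem.mpr ha
      rw [this, TensorProduct.zero_tmul]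
    | add x _ y _ hx hy => rw [TensorProduct.tmul_add, hx, hy, add_zero]
  have hbij : Function.Bijective c := by
    constructor
    · rw [injective_iff_map_eq_zero]
      intro z hz
      obtain ⟨x, rfl⟩ := hform z
      rw [hc1] at hz
      apply hzero
      rw [← hker]
      exact hz
    · intro y
      obtain ⟨x, rfl⟩ := hq y
      exact ⟨1 ⊗ₜ x, hc1 x⟩
  exact IsBaseChange.of_equiv (LinearEquiv.ofBijective c hbij) (fun x => hc1 x)

/-- **transport**: if `Q'` (the reduction of `Q` mod `p`) is flat over `A₀ ⧸ p` after inverting `φ`,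
then `(A₀ ⧸ p)[1/φ] ⊗[A₀] Q` is flat over `(A₀ ⧸ p)[1/φ]`. -/
theorem flat_tensor_away_of_flat (φ : A₀ ⧸ p) (q : Q →ₗ[A₀] Q') (hq : Function.Surjective q)
    (hker : LinearMap.ker q = (p • ⊤ : Submodule A₀ Q))
    (h : Module.Flat (A₀ ⧸ p) (LocalizedModule (Submonoid.powers φ) Q')) :
    Module.Flat (Localization.Away φ) (Localization.Away φ ⊗[A₀] Q) := by
  have h1 : IsBaseChange (A₀ ⧸ p) q := isBaseChange_of_ker_eq_smul p q hq hker
  have h2 : IsBaseChange (Localization.Away φ)
      (LocalizedModule.mkLinearMap (Submonoid.powers φ) Q') :=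
    IsLocalizedModule.isBaseChange (Submonoid.powers φ) (Localization.Away φ) _
  haveI : Module.Flat (Localization.Away φ) (LocalizedModule (Submonoid.powers φ) Q') :=
    (Module.flat_iff_of_isLocalization (Localization.Away φ) (Submonoid.powers φ) _).mpr h
  haveI : Module.Flat (Localization.Away φ) (Localization.Away φ ⊗[A₀ ⧸ p] Q') :=
    Module.Flat.of_linearEquiv h2.equiv
  haveI : Module.Flat (Localization.Away φ)
      (Localization.Away φ ⊗[A₀ ⧸ p] ((A₀ ⧸ p) ⊗[A₀] Q)) :=
    Module.Flat.of_linearEquiv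
      (TensorProduct.AlgebraTensorModule.congr (LinearEquiv.refl (Localization.Away φ) _) h1.equiv)
  exact Module.Flat.of_linearEquiv
    (TensorProduct.AlgebraTensorModule.cancelBaseChange A₀ (A₀ ⧸ p) (Localization.Away φ)
      (Localization.Away φ) Q).symm

end transport

section stratum

open Groth.Agent.Helper13GenFlat

variable {A₀ : Type u} [CommRing A₀] [IsNoetherianRing A₀] {B₀ : Type u} [CommRing B₀] [Algebra A₀ B₀]
  [Algebra.FiniteType A₀ B₀] (J₀ : Ideal B₀) (M₀ : Type u) [AddCommGroup M₀] [Module A₀ M₀]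
  [Module B₀ M₀] [IsScalarTower A₀ B₀ M₀] [Module.Finite B₀ M₀]

theorem exists_stratum (p : Ideal A₀) [p.IsPrime] :
    ∃ f : A₀, f ∉ p ∧ ∀ (h : A₀) (k : ℕ),
      Module.Flat (Localization.Away (Ideal.Quotient.mk p (f * h)))
        (Localization.Away (Ideal.Quotient.mk p (f * h)) ⊗[A₀]
          (M₀ ⧸ (J₀ ^ k • (⊤ : Submodule B₀ M₀)).restrictScalars A₀)) := by
  haveI : IsNoetherianRing B₀ := Algebra.FiniteType.isNoetherianRing A₀ B₀
  set P : Ideal B₀ := p.map (algebraMap A₀ B₀) with hP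
  let D := A₀ ⧸ p
  let B' := B₀ ⧸ P
  let M' := M₀ ⧸ (P • ⊤ : Submodule B₀ M₀)
  letI algDB : Algebra D B' :=
    (Ideal.quotientMap P (algebraMap A₀ B₀) Ideal.le_comap_map).toAlgebra
  haveI : IsScalarTower A₀ D B' := IsScalarTower.of_algebraMap_eq (fun _ => rfl)
  letI : Module D M' := Module.compHom M' (algebraMap D B')
  haveI : IsScalarTower D B' M' := ⟨fun d b x => by
    change (algebraMap D B' d * b) • x = algebraMap D B' d • (b • x)
    rw [mul_smul]⟩
  haveI t1 : IsScalarTower B₀ B' M' :=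
    (Module.isTorsionBySet_quotient_ideal_smul M₀ P).isScalarTower
  haveI t2 : IsScalarTower A₀ B' M' :=
    (Module.isTorsionBySet_quotient_ideal_smul M₀ P).isScalarTower
  have hsm : ∀ (a : A₀) (y : M'), a • y = algebraMap A₀ B' a • y := fun a y => by
    rw [algebraMap_smul]
  haveI t3 : IsScalarTower A₀ D M' := ⟨fun a d y => by
    change algebraMap D B' (a • d) • y = a • (algebraMap D B' d • y)
    rw [Algebra.smul_def, map_mul, ← IsScalarTower.algebraMap_apply, mul_smul, ← hsm]⟩
  haveI : Algebra.FiniteType A₀ B' :=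
    Algebra.FiniteType.of_surjective (Ideal.Quotient.mkₐ A₀ P) Ideal.Quotient.mk_surjective
  haveI : Algebra.FiniteType D B' := Algebra.FiniteType.of_restrictScalars_finiteType A₀ D B'
  set J' : Ideal B' := J₀.map (algebraMap B₀ B') with hJ'
  haveI : Algebra.FiniteType D (B' ⧸ J') :=
    Algebra.FiniteType.trans (inferInstance : Algebra.FiniteType D B')
      (Algebra.FiniteType.of_surjective (Ideal.Quotient.mkₐ B' J') Ideal.Quotient.mk_surjective)
  haveI : Module.Finite B' M' := Module.Finite.of_restrictScalars_finite B₀ B' M'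
  obtain ⟨f', hf'0, hflat⟩ := exists_flatAway_quotient_pow (A := D) (B := B') J' M'
  obtain ⟨f, rfl⟩ := Ideal.Quotient.mk_surjective f'
  refine ⟨f, fun hf => hf'0 (Ideal.Quotient.eq_zero_iff_mem.mpr hf), fun h k => ?_⟩
  set X : Submodule A₀ M₀ := (J₀ ^ k • (⊤ : Submodule B₀ M₀)).restrictScalars A₀ with hX
  set N : Submodule B' M' := (J' ^ k • ⊤ : Submodule B' M') with hN
  let π : M₀ →ₗ[B₀] M' := (P • ⊤ : Submodule B₀ M₀).mkQ
  have hπ : Function.Surjective π := Submodule.mkQ_surjective _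
  have hNeq : N.restrictScalars B₀ = Submodule.map π (J₀ ^ k • ⊤ : Submodule B₀ M₀) := by
    rw [hN, hJ', ← Ideal.map_pow, Ideal.smul_restrictScalars, Submodule.restrictScalars_top,
      Submodule.map_smul'', Submodule.map_top, LinearMap.range_eq_top.mpr hπ]
  let g : M₀ →ₗ[A₀] (M' ⧸ N) := (N.mkQ.restrictScalars A₀).comp (π.restrictScalars A₀)
  have hle : X ≤ LinearMap.ker g := by
    intro x hx
    rw [LinearMap.mem_ker]
    change (Submodule.Quotient.mk (π x) : M' ⧸ N) = 0
    rw [Submodule.Quotient.mk_eq_zero]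
    have : π x ∈ N.restrictScalars B₀ := by
      rw [hNeq]
      exact Submodule.mem_map_of_mem hx
    exact this
  let q : (M₀ ⧸ X) →ₗ[A₀] (M' ⧸ N) := Submodule.liftQ X g hle
  have hq : Function.Surjective q := by
    intro y
    obtain ⟨y, rfl⟩ := Submodule.Quotient.mk_surjective _ y
    obtain ⟨x, rfl⟩ := hπ y
    exact ⟨Submodule.Quotient.mk x, rfl⟩
  have hker : LinearMap.ker q = (p • ⊤ : Submodule A₀ (M₀ ⧸ X)) := by
    apply le_antisymm
    · intro y hy
      obtain ⟨x, rfl⟩ := Submodule.Quotient.mk_surjective _ y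
      rw [LinearMap.mem_ker] at hy
      change (Submodule.Quotient.mk (π x) : M' ⧸ N) = 0 at hy
      rw [Submodule.Quotient.mk_eq_zero] at hy
      have hy' : π x ∈ N.restrictScalars B₀ := hy
      rw [hNeq] at hy'
      obtain ⟨u, hu, hux⟩ := hy'
      have hv : x - u ∈ (P • ⊤ : Submodule B₀ M₀) := by
        rw [← Submodule.ker_mkQ (P • ⊤ : Submodule B₀ M₀), LinearMap.mem_ker, map_sub, sub_eq_zero]
        exact hux.symm
      have hv' : x - u ∈ (p • ⊤ : Submodule A₀ M₀) := by
        have : ((P • ⊤ : Submodule B₀ M₀)).restrictScalars A₀ = (p • ⊤ : Submodule A₀ M₀) := by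
          rw [hP, Ideal.smul_restrictScalars, Submodule.restrictScalars_top]
        rw [← this]
        exact hv
      have hmk : (Submodule.Quotient.mk x : M₀ ⧸ X) = Submodule.Quotient.mk (x - u) := by
        rw [Submodule.Quotient.eq]
        have : x - (x - u) = u := by abel
        rw [this]
        exact hu
      rw [hmk]
      have : Submodule.map X.mkQ (p • ⊤ : Submodule A₀ M₀) = (p • ⊤ : Submodule A₀ (M₀ ⧸ X)) := by
        rw [Submodule.map_smul'', Submodule.map_top, Submodule.range_mkQ]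
      rw [← this]
      exact Submodule.mem_map_of_mem hv'
    · rw [Submodule.smul_le]
      intro a ha y _
      rw [LinearMap.mem_ker, map_smul]
      have : a • q y = (algebraMap A₀ D a) • q y := (algebraMap_smul D a (q y)).symm
      rw [this, show algebraMap A₀ D a = 0 from Ideal.Quotient.eq_zero_iff_mem.mpr ha, zero_smul]
  have hfl : Module.Flat D
      (LocalizedModule (Submonoid.powers (Ideal.Quotient.mk p (f * h))) (M' ⧸ N)) := by
    rw [map_mul]
    exact hflat k (Ideal.Quotient.mk p h)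
  exact flat_tensor_away_of_flat p _ q hq hker hfl

end stratum

end Groth.Agent.Lib.Helper26.GrStrat
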