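import Mathlib
import Groth.Agent.Lib.Helper18Fitt30
import Groth.Agent.Lib.Helper26GrStrat

/-!
# Flattening stratum of a graded module via Fitting ideals (helper26)

* `projective_rank_iff_fitt`: a finitely presented module is projective of constant rank `r` iff
  `Fitt_k = ⊥` for `k < r` and `Fitt_r = ⊤`.
-/

set_option autoImplicit false
set_option linter.style.haveILetI false
universe u

namespace Groth.Agent.Lib.Helper26.FittStrat

open TensorProduct Groth.Agent.Helper18Fitt

section C1

variable {B : Type u} [CommRing B] (E : Type u) [AddCommGroup E] [Module B E]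

theorem flat_of_locFree [Module.Finite B E] (r : ℕ) (h : LocFree (R := B) E r) : Module.Flat B E := by
  set s : Set B := {f | Module.Free (Localization.Away f)
    (LocalizedModule (Submonoid.powers f) E)} with hs
  have hspan : Ideal.span s = ⊤ := by
    by_contra hne
    obtain ⟨m, hm, hle⟩ := Ideal.exists_le_maximal _ hne
    haveI := hm.isPrime
    obtain ⟨f, hf, hfree, -⟩ := h m
    exact hf (hle (Ideal.subset_span hfree))
  refine Module.flat_of_localized_span B E s hspan (fun f => ?_)
  haveI : Module.Free (Localization.Away f.1) (LocalizedModule (Submonoid.powers f.1) E) := f.2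
  exact (Module.flat_iff_of_isLocalization (Localization.Away f.1) (Submonoid.powers f.1) _).mp
    inferInstance

theorem projective_rank_iff_fitt [Module.FinitePresentation B E] (r : ℕ) :
    (Module.Projective B E ∧ ∀ p : PrimeSpectrum B, Module.rankAtStalk E p = r) ↔
      ((∀ k, k < r → Fitt.ideal B E k = ⊥) ∧ Fitt.ideal B E r = ⊤) := by
  constructor
  · rintro ⟨hproj, hrank⟩
    have h1 := fitt_of_locFree E r (locFree_of_projective E r hrank)
    exact ⟨h1.1, h1.2 r le_rfl⟩
  · rintro ⟨h1, h2⟩
    have h2' : ∀ k, r ≤ k → Fitt.ideal B E k = ⊤ := by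
      intro k hk
      rw [eq_top_iff, ← h2]
      exact fitt_mono hk
    have hlf : LocFree (R := B) E r := locFree_of_fitt E r h1 h2'
    haveI : Module.Flat B E := flat_of_locFree E r hlf
    refine ⟨Module.Flat.projective_of_finitePresentation, fun p => ?_⟩
    rw [Module.rankAtStalk_eq]
    have ha : Module.finrank p.asIdeal.ResidueField (p.asIdeal.ResidueField ⊗[B] E) ≤ r := by
      rw [← not_le_iff_finrank E r p.asIdeal, h2]
      exact fun hle => p.2.ne_top (top_le_iff.mp hle)
    have hb : r ≤ Module.finrank p.asIdeal.ResidueField (p.asIdeal.ResidueField ⊗[B] E) := by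
      rcases Nat.eq_zero_or_pos r with h0 | hpos
      · omega
      · by_contra hlt
        have : Module.finrank p.asIdeal.ResidueField (p.asIdeal.ResidueField ⊗[B] E) ≤ r - 1 := by
          omega
        rw [← not_le_iff_finrank E (r - 1) p.asIdeal, h1 (r - 1) (by omega)] at this
        exact this bot_le
    exact le_antisymm ha hb

end C1

section transport

open Groth.Agent.Lib.Helper26.GrStrat

variable {A₀ : Type*} [CommRing A₀] (p : Ideal A₀)
  {Q : Type*} [AddCommGroup Q] [Module A₀ Q]
  {Q' : Type*} [AddCommGroup Q'] [Module A₀ Q'] [Module (A₀ ⧸ p) Q'] [IsScalarTower A₀ (A₀ ⧸ p) Q']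

/-- `(A₀ ⧸ p)[1/φ] ⊗[A₀] Q ≃ (Q ⧸ pQ)[1/φ]`. -/
theorem nonempty_tensor_away_equiv (φ : A₀ ⧸ p) (q : Q →ₗ[A₀] Q') (hq : Function.Surjective q)
    (hker : LinearMap.ker q = (p • ⊤ : Submodule A₀ Q)) :
    Nonempty (Localization.Away φ ⊗[A₀] Q ≃ₗ[Localization.Away φ]
      LocalizedModule (Submonoid.powers φ) Q') := by
  have h1 : IsBaseChange (A₀ ⧸ p) q := isBaseChange_of_ker_eq_smul p q hq hker
  have h2 : IsBaseChange (Localization.Away φ)
      (LocalizedModule.mkLinearMap (Submonoid.powers φ) Q') :=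
    IsLocalizedModule.isBaseChange (Submonoid.powers φ) (Localization.Away φ) _
  exact ⟨((TensorProduct.AlgebraTensorModule.cancelBaseChange A₀ (A₀ ⧸ p) (Localization.Away φ)
      (Localization.Away φ) Q).symm.trans
    (TensorProduct.AlgebraTensorModule.congr (LinearEquiv.refl (Localization.Away φ) _)
      h1.equiv)).trans h2.equiv⟩

end transport

section generic

open Groth.Agent.Lib.Helper2.GenFree

variable {A : Type u} [CommRing A] (R : Type u) [CommRing R] [Algebra A R]
  [Algebra.FiniteType A R] (M : Type u) [AddCommGroup M] [Module A M] [Module R M]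
  [IsScalarTower A R M] [Module.Finite R M]

include R in
/-- generic freeness, transported: `(A/p)[1/f] ⊗[A] M` is free for some `f ∉ p`. -/
theorem exists_free_tensor_away (p : Ideal A) [p.IsPrime] :
    ∃ f : A, f ∉ p ∧ Module.Free (Localization.Away (Ideal.Quotient.mk p f))
      (Localization.Away (Ideal.Quotient.mk p f) ⊗[A] M) := by
  set P : Ideal R := p.map (algebraMap A R) with hP
  let D := A ⧸ p
  let B' := R ⧸ P
  let M' := M ⧸ (P • ⊤ : Submodule R M)
  letI algDB : Algebra D B' :=
    (Ideal.quotientMap P (algebraMap A R) Ideal.le_comap_map).toAlgebra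
  haveI : IsScalarTower A D B' := IsScalarTower.of_algebraMap_eq (fun _ => rfl)
  letI : Module D M' := Module.compHom M' (algebraMap D B')
  haveI : IsScalarTower D B' M' := ⟨fun d b x => by
    change (algebraMap D B' d * b) • x = algebraMap D B' d • (b • x)
    rw [mul_smul]⟩
  haveI t1 : IsScalarTower R B' M' :=
    (Module.isTorsionBySet_quotient_ideal_smul M P).isScalarTower
  haveI t2 : IsScalarTower A B' M' :=
    (Module.isTorsionBySet_quotient_ideal_smul M P).isScalarTower
  have hsm : ∀ (a : A) (y : M'), a • y = algebraMap A B' a • y := fun a y => by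
    rw [algebraMap_smul]
  haveI t3 : IsScalarTower A D M' := ⟨fun a d y => by
    change algebraMap D B' (a • d) • y = a • (algebraMap D B' d • y)
    rw [Algebra.smul_def, map_mul, ← IsScalarTower.algebraMap_apply, mul_smul, ← hsm]⟩
  haveI : Algebra.FiniteType A B' :=
    Algebra.FiniteType.of_surjective (Ideal.Quotient.mkₐ A P) Ideal.Quotient.mk_surjective
  haveI : Algebra.FiniteType D B' := Algebra.FiniteType.of_restrictScalars_finiteType A D B'
  haveI : Module.Finite B' M' := Module.Finite.of_restrictScalars_finite R B' M'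
  obtain ⟨f', hf'0, -, hfree, -, -⟩ := exists_freeAway D B' M'
  obtain ⟨f, rfl⟩ := Ideal.Quotient.mk_surjective f'
  refine ⟨f, fun hf => hf'0 (Ideal.Quotient.eq_zero_iff_mem.mpr hf), ?_⟩
  have hfr : Module.Free (Localization.Away (Ideal.Quotient.mk p f))
      (LocalizedModule (Submonoid.powers (Ideal.Quotient.mk p f)) M') :=
    hfree.free (Localization.Away (Ideal.Quotient.mk p f))
      (LocalizedModule.mkLinearMap (Submonoid.powers (Ideal.Quotient.mk p f)) M')
  let π : M →ₗ[R] M' := (P • ⊤ : Submodule R M).mkQ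
  have hπ : Function.Surjective π := Submodule.mkQ_surjective _
  let q : M →ₗ[A] M' := π.restrictScalars A
  have hq : Function.Surjective q := fun y => hπ y
  have hker : LinearMap.ker q = (p • ⊤ : Submodule A M) := by
    have h1 : ((P • ⊤ : Submodule R M)).restrictScalars A = (p • ⊤ : Submodule A M) := by
      rw [hP, Ideal.smul_restrictScalars, Submodule.restrictScalars_top]
    ext x
    rw [LinearMap.mem_ker, ← h1, Submodule.restrictScalars_mem]
    change (Submodule.Quotient.mk x : M') = 0 ↔ _
    exact Submodule.Quotient.mk_eq_zero _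
  obtain ⟨e⟩ := nonempty_tensor_away_equiv p (Ideal.Quotient.mk p f) q hq hker
  exact Module.Free.of_equiv e.symm

omit [Algebra.FiniteType A R] [Module.Finite R M] in
theorem exists_prime_comap_eq (p : Ideal A) (f : A) (q : Ideal A) [hq : q.IsPrime] (hpq : p ≤ q)
    (hfq : f ∉ q) : ∃ Q : Ideal (Localization.Away (Ideal.Quotient.mk p f)), Q.IsPrime ∧
      Q.comap (algebraMap A (Localization.Away (Ideal.Quotient.mk p f))) = q := by
  have h1 : (⟨q, hq⟩ : PrimeSpectrum A) ∈
      Set.range (PrimeSpectrum.comap (Ideal.Quotient.mk p)) := by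
    rw [range_comap_of_surjective _ _ Ideal.Quotient.mk_surjective, Ideal.mk_ker]
    exact hpq
  obtain ⟨q', hq'⟩ := h1
  have h2 : q' ∈ Set.range (PrimeSpectrum.comap
      (algebraMap (A ⧸ p) (Localization.Away (Ideal.Quotient.mk p f)))) := by
    rw [PrimeSpectrum.localization_away_comap_range _ (Ideal.Quotient.mk p f)]
    change Ideal.Quotient.mk p f ∉ q'.asIdeal
    intro hmem
    apply hfq
    have : f ∈ (PrimeSpectrum.comap (Ideal.Quotient.mk p) q').asIdeal := hmem
    rw [hq'] at this
    exact this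
  obtain ⟨Q, hQ⟩ := h2
  refine ⟨Q.asIdeal, Q.2, ?_⟩
  have h3 : (PrimeSpectrum.comap (Ideal.Quotient.mk p) (PrimeSpectrum.comap
      (algebraMap (A ⧸ p) (Localization.Away (Ideal.Quotient.mk p f))) Q)).asIdeal = q := by
    rw [hQ, hq']
  exact h3

include R in
/-- **generic constancy of Fitting-ideal nonvanishing** for `A`-linear retracts of `M`. -/
theorem exists_generic_fitt (p : Ideal A) [p.IsPrime] :
    ∃ f : A, f ∉ p ∧ ∀ (N : Type u) [AddCommGroup N] [Module A N] [Module.Finite A N]
      (i : N →ₗ[A] M) (π : M →ₗ[A] N), π.comp i = LinearMap.id → ∀ k : ℕ,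
      ¬ Fitt.ideal A N k ≤ p → ∀ q : Ideal A, q.IsPrime → p ≤ q → f ∉ q →
        ¬ Fitt.ideal A N k ≤ q := by
  obtain ⟨f, hfp, hfree⟩ := exists_free_tensor_away R M p
  refine ⟨f, hfp, ?_⟩
  intro N _ _ _ i π hπi k hk q hq hpq hfq hle
  have hφ : Ideal.Quotient.mk p f ≠ 0 := fun h => hfp (Ideal.Quotient.eq_zero_iff_mem.mp h)
  have hnzd : Submonoid.powers (Ideal.Quotient.mk p f) ≤ nonZeroDivisors (A ⧸ p) :=
    powers_le_nonZeroDivisors_of_noZeroDivisors hφ
  haveI : IsDomain (Localization.Away (Ideal.Quotient.mk p f)) :=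
    IsLocalization.isDomain_localization hnzd
  haveI : Module.Projective (Localization.Away (Ideal.Quotient.mk p f))
      (Localization.Away (Ideal.Quotient.mk p f) ⊗[A] N) :=
    Module.Projective.of_split
      (LinearMap.baseChange (Localization.Away (Ideal.Quotient.mk p f)) i)
      (LinearMap.baseChange (Localization.Away (Ideal.Quotient.mk p f)) π) (by
        rw [← LinearMap.baseChange_comp, hπi, LinearMap.baseChange_id])
  haveI : Module.FinitePresentation (Localization.Away (Ideal.Quotient.mk p f))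
      (Localization.Away (Ideal.Quotient.mk p f) ⊗[A] N) :=
    Module.finitePresentation_of_projective _ _
  haveI : Module.Flat (Localization.Away (Ideal.Quotient.mk p f))
      (Localization.Away (Ideal.Quotient.mk p f) ⊗[A] N) := Module.Flat.of_projective
  let P₀ : PrimeSpectrum (Localization.Away (Ideal.Quotient.mk p f)) := ⟨⊥, Ideal.isPrime_bot⟩
  haveI : IrreducibleSpace (PrimeSpectrum (Localization.Away (Ideal.Quotient.mk p f))) :=
    PrimeSpectrum.irreducibleSpace
  haveI : PreconnectedSpace (PrimeSpectrum (Localization.Away (Ideal.Quotient.mk p f))) :=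
    PreirreducibleSpace.preconnectedSpace _
  have hrank : ∀ P : PrimeSpectrum (Localization.Away (Ideal.Quotient.mk p f)),
      Module.rankAtStalk (Localization.Away (Ideal.Quotient.mk p f) ⊗[A] N) P =
        Module.rankAtStalk (Localization.Away (Ideal.Quotient.mk p f) ⊗[A] N) P₀ := fun P =>
    (Module.isLocallyConstant_rankAtStalk).apply_eq_of_preconnectedSpace P P₀
  have hF := (projective_rank_iff_fitt (Localization.Away (Ideal.Quotient.mk p f) ⊗[A] N) _).mp
    ⟨inferInstance, hrank⟩
  have hbc : Fitt.ideal (Localization.Away (Ideal.Quotient.mk p f))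
      (Localization.Away (Ideal.Quotient.mk p f) ⊗[A] N) k =
      (Fitt.ideal A N k).map (algebraMap A (Localization.Away (Ideal.Quotient.mk p f))) :=
    fitt_baseChange k
  have hne : (Fitt.ideal A N k).map (algebraMap A (Localization.Away (Ideal.Quotient.mk p f)))
      ≠ ⊥ := by
    obtain ⟨x, hxI, hxp⟩ := SetLike.not_le_iff_exists.mp hk
    intro h0
    have h1 : algebraMap A (Localization.Away (Ideal.Quotient.mk p f)) x ∈
        (Fitt.ideal A N k).map (algebraMap A (Localization.Away (Ideal.Quotient.mk p f))) :=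
      Ideal.mem_map_of_mem _ hxI
    rw [h0, Ideal.mem_bot, IsScalarTower.algebraMap_apply A (A ⧸ p)] at h1
    have hinj := IsLocalization.injective (Localization.Away (Ideal.Quotient.mk p f)) hnzd
    have h2 : algebraMap A (A ⧸ p) x = 0 := hinj (by rw [h1, map_zero])
    exact hxp (Ideal.Quotient.eq_zero_iff_mem.mp h2)
  have hkr : Module.rankAtStalk (Localization.Away (Ideal.Quotient.mk p f) ⊗[A] N) P₀ ≤ k := by
    by_contra hlt
    exact hne (hbc ▸ hF.1 k (not_le.mp hlt))
  have htop : (Fitt.ideal A N k).map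
      (algebraMap A (Localization.Away (Ideal.Quotient.mk p f))) = ⊤ := by
    rw [← hbc, eq_top_iff, ← hF.2]
    exact fitt_mono hkr
  haveI := hq
  obtain ⟨Q, hQprime, hQ⟩ := exists_prime_comap_eq p f q hpq hfq
  have h3 : (Fitt.ideal A N k).map
      (algebraMap A (Localization.Away (Ideal.Quotient.mk p f))) ≤ Q :=
    Ideal.map_le_iff_le_comap.mpr (hQ ▸ hle)
  rw [htop] at h3
  exact hQprime.ne_top (top_le_iff.mp h3)

end generic

section open_

variable {A : Type u} [CommRing A] [IsNoetherianRing A]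

/-- choose an element in all other minimal primes but not in `p`. -/
theorem exists_mem_other_minimalPrimes (I : Ideal A) (p : Ideal A)
    (hp : p ∈ I.minimalPrimes) :
    ∃ h : A, h ∉ p ∧ ∀ p' ∈ I.minimalPrimes, p' ≠ p → h ∈ p' := by
  classical
  have hfin : (I.minimalPrimes).Finite := Ideal.finite_minimalPrimes_of_isNoetherianRing A I
  set S : Finset (Ideal A) := hfin.toFinset.erase p with hS
  have hpprime : p.IsPrime := hp.1.1
  have hnot : ¬ (S.inf id ≤ p) := by
    rw [Ideal.IsPrime.inf_le' hpprime]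
    rintro ⟨p', hp'S, hp'p⟩
    rw [hS, Finset.mem_erase, Set.Finite.mem_toFinset] at hp'S
    obtain ⟨hne, hp'min⟩ := hp'S
    exact hne (le_antisymm hp'p (hp.2 hp'min.1 hp'p))
  obtain ⟨h, hhS, hhp⟩ := SetLike.not_le_iff_exists.mp hnot
  refine ⟨h, hhp, fun p' hp'min hne => ?_⟩
  have : S.inf id ≤ p' := Finset.inf_le (f := id) (by
    rw [hS, Finset.mem_erase, Set.Finite.mem_toFinset]
    exact ⟨hne, hp'min⟩)
  exact this hhS

/-- **openness of a generically-open, generization-stable locus** (ideal form). -/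
theorem exists_ideal_of_generic (a : Ideal A) (𝓕 : Set (Ideal A))
    (hgen : ∀ p : Ideal A, p.IsPrime → a ≤ p → (∀ I ∈ 𝓕, ¬ I ≤ p) →
      ∃ f : A, f ∉ p ∧ ∀ q : Ideal A, q.IsPrime → p ≤ q → f ∉ q → ∀ I ∈ 𝓕, ¬ I ≤ q) :
    ∃ b : Ideal A, ∀ q : Ideal A, q.IsPrime → a ≤ q → (¬ b ≤ q ↔ ∀ I ∈ 𝓕, ¬ I ≤ q) := by
  set C : Set (Ideal A) := {q | q.IsPrime ∧ a ≤ q ∧ ∃ I ∈ 𝓕, I ≤ q} with hC
  refine ⟨sInf C, fun q hq haq => ?_⟩
  constructor
  · intro hb I hI hIq
    exact hb (sInf_le ⟨hq, haq, I, hI, hIq⟩)
  · intro hW hbq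
    obtain ⟨p, hpmin, hpq⟩ := Ideal.exists_minimalPrimes_le hbq
    have hpprime : p.IsPrime := hpmin.1.1
    have hbp : sInf C ≤ p := hpmin.1.2
    have hab : a ≤ sInf C := le_sInf (fun q' hq' => hq'.2.1)
    have hpW : ∀ I ∈ 𝓕, ¬ I ≤ p := fun I hI hIp => hW I hI (hIp.trans hpq)
    obtain ⟨f, hfp, hf⟩ := hgen p hpprime (hab.trans hbp) hpW
    obtain ⟨h, hhp, hh⟩ := exists_mem_other_minimalPrimes (sInf C) p hpmin
    have hmem : f * h ∈ sInf C := by
      rw [Submodule.mem_sInf]
      intro q' hq'
      obtain ⟨hq'prime, haq', I, hI, hIq'⟩ := hq'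
      have hbq' : sInf C ≤ q' := sInf_le ⟨hq'prime, haq', I, hI, hIq'⟩
      obtain ⟨p'', hp''min, hp''q'⟩ := Ideal.exists_minimalPrimes_le hbq'
      by_cases hpp : p'' = p
      · by_contra hfh
        have hfq' : f ∉ q' := fun hfq' => hfh (Ideal.mul_mem_right _ _ hfq')
        exact hf q' hq'prime (hpp ▸ hp''q') hfq' I hI hIq'
      · exact Ideal.mul_mem_left _ f (hp''q' (hh p'' hp''min hpp))
    exact (hpprime.mem_or_mem (hbp hmem)).elim hfp hhp

end open_

end Groth.Agent.Lib.Helper26.FittStrat
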