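import Mathlib
import Groth.Agent.Lib.Helper18FittSh1
import Groth.Agent.Lib.Helper26FittStrat

set_option autoImplicit false
set_option linter.style.haveILetI false
universe u v
open CategoryTheory AlgebraicGeometry Limits Opposite TopologicalSpace

namespace Groth.Agent.Lib.Helper11.KMFitt

open Groth.Agent.Helper18Fitt Groth.Agent.Helper18FittSh

section ring

/-- the zeroth Fitting ideal annihilates the module -/
theorem fitt_zero_le_annihilator {R : Type u} [CommRing R] {M : Type v} [AddCommGroup M]
    [Module R M] : Fitt.ideal R M 0 ≤ Module.annihilator R M := by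
  unfold Fitt.ideal
  rw [Ideal.span_le]
  rintro d ⟨n, x, a, hx, hrel, rfl⟩
  rw [SetLike.mem_coe, Module.mem_annihilator]
  have h1 : ∀ i, ∑ k, a i k • x k = 0 := fun i => hrel i (by simp)
  have key : ∀ j, a.det • x j = 0 := by
    intro j
    have h2 : a.det • x j = ∑ i, a.adjugate j i • ∑ k, a i k • x k := by
      simp_rw [Finset.smul_sum, smul_smul]
      rw [Finset.sum_comm]
      have h3 : ∀ k, ∑ i, (a.adjugate j i * a i k) • x k = ((a.adjugate * a) j k) • x k := by
        intro k
        rw [Matrix.mul_apply, Finset.sum_smul]
      simp_rw [h3, Matrix.adjugate_mul, Matrix.smul_apply, Matrix.one_apply, smul_eq_mul, mul_ite,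
        mul_one, mul_zero, ite_smul, zero_smul]
      simp
    rw [h2]
    simp [h1]
  intro m
  have hm : m ∈ Submodule.span R (Set.range x) := hx ▸ Submodule.mem_top
  induction hm using Submodule.span_induction with
  | mem y hy =>
    obtain ⟨j, rfl⟩ := hy
    exact key j
  | zero => exact smul_zero _
  | add y z _ _ hy hz => rw [smul_add, hy, hz, add_zero]
  | smul c y _ hy => rw [smul_comm, hy, smul_zero]

variable {B : Type u} [CommRing B] (E : Type u) [AddCommGroup E] [Module B E] [Module.Finite B E]

theorem finitePresentation_of_locFree (r : ℕ) (h : LocFree (R := B) E r) :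
    Module.FinitePresentation B E := by
  set s : Set B := {f | Module.Free (Localization.Away f)
    (LocalizedModule (Submonoid.powers f) E)} with hs
  have hspan : Ideal.span s = ⊤ := by
    by_contra hne
    obtain ⟨m, hm, hle⟩ := Ideal.exists_le_maximal _ hne
    haveI := hm.isPrime
    obtain ⟨f, hf, hfree, -⟩ := h m
    exact hf (hle (Ideal.subset_span hfree))
  refine Module.FinitePresentation.of_localizationSpan s hspan (fun g => ?_)
  haveI : Module.Free (Localization.Away g.1) (LocalizedModule (Submonoid.powers g.1) E) := g.2
  exact Module.finitePresentation_of_projective _ _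

/-- Fitting criterion for projective of constant rank, without finite presentation hypothesis. -/
theorem projective_rank_of_fitt (r : ℕ) (h1 : ∀ k, k < r → Fitt.ideal B E k = ⊥)
    (h2 : Fitt.ideal B E r = ⊤) :
    Module.FinitePresentation B E ∧ Module.Projective B E ∧
      ∀ p : PrimeSpectrum B, Module.rankAtStalk E p = r := by
  have h2' : ∀ k, r ≤ k → Fitt.ideal B E k = ⊤ := by
    intro k hk
    rw [eq_top_iff, ← h2]
    exact fitt_mono hk
  have hlf : LocFree (R := B) E r := locFree_of_fitt E r h1 h2'
  haveI := finitePresentation_of_locFree E r hlf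
  exact ⟨inferInstance,
    (Groth.Agent.Lib.Helper26.FittStrat.projective_rank_iff_fitt E r).2 ⟨h1, h2⟩⟩

end ring

end Groth.Agent.Lib.Helper11.KMFitt
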