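import Mathlib
import Groth.Agent.Lib.Helper18FittSh1
import Groth.Agent.Lib.Helper26FittStrat

set_option autoImplicit false
set_option linter.style.haveILetI false
universe u v
open CategoryTheory AlgebraicGeometry Limits Opposite TopologicalSpace

namespace Groth.Agent.Lib.Helper11.KMFitt

open Groth.Agent.Helper18Fitt Groth.Agent.Helper18FittSh

section sheaf

variable {X Y : Scheme.{u}} (f : X ⟶ Y)

/-- `Γ(X, f⁻¹V)` as a `Γ(Y, V)`-algebra -/
@[reducible] def algApp (V : Y.Opens) : Algebra Γ(Y, V) Γ(X, f ⁻¹ᵁ V) := (f.app V).hom.toAlgebra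

attribute [local instance] algApp

theorem finite_app [IsFinite f] {V : Y.Opens} (hV : IsAffineOpen V) :
    Module.Finite Γ(Y, V) Γ(X, f ⁻¹ᵁ V) :=
  IsFinite.finite_app f V hV

/-- Fitting ideals of `f_* O_X` commute with restriction to basic opens -/
theorem map_fitt_basicOpen [IsFinite f] {V : Y.Opens} (hV : IsAffineOpen V) (k : ℕ) (g : Γ(Y, V)) :
    (Fitt.ideal Γ(Y, V) Γ(X, f ⁻¹ᵁ V) k).map (Y.presheaf.map (homOfLE (Y.basicOpen_le g)).op).hom =
      Fitt.ideal Γ(Y, Y.basicOpen g) Γ(X, f ⁻¹ᵁ (Y.basicOpen g)) k := by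
  haveI := finite_app f hV
  have hle : f ⁻¹ᵁ (Y.basicOpen g) ≤ f ⁻¹ᵁ V := f.preimage_mono (Y.basicOpen_le g)
  letI iAA' : Algebra Γ(Y, V) Γ(Y, Y.basicOpen g) :=
    (Y.presheaf.map (homOfLE (Y.basicOpen_le g)).op).hom.toAlgebra
  letI iNN' : Algebra Γ(X, f ⁻¹ᵁ V) Γ(X, f ⁻¹ᵁ (Y.basicOpen g)) :=
    (X.presheaf.map (homOfLE hle).op).hom.toAlgebra
  letI iAN' : Algebra Γ(Y, V) Γ(X, f ⁻¹ᵁ (Y.basicOpen g)) :=
    ((X.presheaf.map (homOfLE hle).op).hom.comp (f.app V).hom).toAlgebra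
  haveI t1 : IsScalarTower Γ(Y, V) Γ(X, f ⁻¹ᵁ V) Γ(X, f ⁻¹ᵁ (Y.basicOpen g)) :=
    IsScalarTower.of_algebraMap_eq' rfl
  haveI t2 : IsScalarTower Γ(Y, V) Γ(Y, Y.basicOpen g) Γ(X, f ⁻¹ᵁ (Y.basicOpen g)) := by
    refine IsScalarTower.of_algebraMap_eq' ?_
    change (X.presheaf.map (homOfLE hle).op).hom.comp (f.app V).hom =
      (f.app (Y.basicOpen g)).hom.comp (Y.presheaf.map (homOfLE (Y.basicOpen_le g)).op).hom
    rw [← CommRingCat.hom_comp, ← CommRingCat.hom_comp]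
    congr 1
    exact (f.naturality (homOfLE (Y.basicOpen_le g)).op).symm
  haveI l1 : IsLocalization.Away g Γ(Y, Y.basicOpen g) := hV.isLocalization_basicOpen g
  have hV' : IsAffineOpen (f ⁻¹ᵁ V) := hV.preimage f
  haveI l2 : IsLocalization.Away ((f.app V).hom g) Γ(X, f ⁻¹ᵁ (Y.basicOpen g)) :=
    hV'.isLocalization_of_eq_basicOpen ((f.app V).hom g) (homOfLE hle)
      (Scheme.preimage_basicOpen f g)
  haveI l3 : IsLocalizedModule (Submonoid.powers g)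
      (IsScalarTower.toAlgHom Γ(Y, V) Γ(X, f ⁻¹ᵁ V) Γ(X, f ⁻¹ᵁ (Y.basicOpen g))).toLinearMap := by
    rw [isLocalizedModule_iff_isLocalization]
    have : Algebra.algebraMapSubmonoid Γ(X, f ⁻¹ᵁ V) (Submonoid.powers g) =
        Submonoid.powers ((f.app V).hom g) := by
      rw [Algebra.algebraMapSubmonoid, Submonoid.map_powers]
      rfl
    rw [this]
    exact l2
  exact fitt_map_of_isLocalizedModule (Submonoid.powers g)
    (IsScalarTower.toAlgHom Γ(Y, V) Γ(X, f ⁻¹ᵁ V) Γ(X, f ⁻¹ᵁ (Y.basicOpen g))).toLinearMap k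

end sheaf

end Groth.Agent.Lib.Helper11.KMFitt
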