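import Mathlib
import Groth.Agent.Lib.Helper18FittSh1
import Groth.Agent.Lib.Helper26FittStrat
import Groth.Agent.Lib.Helper22IdealComap
import Groth.Agent.Lib.Helper11KMFittA
import Groth.Agent.Lib.Helper11KMFittB

set_option autoImplicit false
set_option linter.style.haveILetI false
universe u v
open CategoryTheory AlgebraicGeometry Limits Opposite TopologicalSpace

namespace Groth.Agent.Lib.Helper11.KMFitt

open Groth.Agent.Helper18Fitt Groth.Agent.Helper18FittSh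

section sheaf

variable {X Y : Scheme.{u}} (f : X ⟶ Y)

attribute [local instance] algApp

/-- the `k`-th Fitting ideal sheaf of `f_* O_X` for a finite morphism `f`. -/
noncomputable def fittSheaf [IsFinite f] (k : ℕ) : Y.IdealSheafData where
  ideal V := Fitt.ideal Γ(Y, V.1) Γ(X, f ⁻¹ᵁ V.1) k
  map_ideal_basicOpen V g := map_fitt_basicOpen f V.2 k g

theorem fittSheaf_ideal [IsFinite f] (k : ℕ) (V : Y.affineOpens) :
    (fittSheaf f k).ideal V = Fitt.ideal Γ(Y, V.1) Γ(X, f ⁻¹ᵁ V.1) k := rfl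

theorem fittSheaf_mono [IsFinite f] : Monotone (fittSheaf f) := by
  intro k k' h V
  haveI := finite_app f V.2
  exact fitt_mono h

theorem iInter_support_fittSheaf [IsFinite f] :
    (⋂ k, ((fittSheaf f k).support : Set Y)) = ∅ := by
  rw [Set.eq_empty_iff_forall_notMem]
  intro y hy
  rw [Set.mem_iInter] at hy
  obtain ⟨V, hV, hyV, -⟩ := exists_isAffineOpen_mem_and_subset (x := y) (U := ⊤) trivial
  haveI := finite_app f hV
  obtain ⟨n, x, hx⟩ := Module.Finite.exists_fin (R := Γ(Y, V)) (M := Γ(X, f ⁻¹ᵁ V))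
  have h1 := hy n
  rw [SetLike.mem_coe, Scheme.IdealSheafData.mem_support_iff_of_mem (U := ⟨V, hV⟩) hyV,
    fittSheaf_ideal, fitt_top_of_gens n x hx] at h1
  simp at h1
  exact h1 hyV

/-- if `f` has a section then `Fitt_0 (f_* O_X) = 0`. -/
theorem fittSheaf_zero_of_section [IsFinite f] (e : Y ⟶ X) (he : e ≫ f = 𝟙 Y) :
    fittSheaf f 0 = ⊥ := by
  rw [eq_bot_iff]
  intro V a ha
  rw [fittSheaf_ideal] at ha
  have h1 := fitt_zero_le_annihilator ha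
  rw [Module.mem_annihilator] at h1
  have h2 : (f.app V.1).hom a = 0 := by
    have := h1 (1 : Γ(X, f ⁻¹ᵁ V.1))
    rwa [Algebra.smul_def, mul_one] at this
  have h3 : (f.app V.1 ≫ e.app (f ⁻¹ᵁ V.1)).hom a = 0 := by
    rw [CommRingCat.hom_comp, RingHom.comp_apply, h2, map_zero]
  have h3' : ((e ≫ f).app V.1).hom a = 0 := h3
  rw [Scheme.Hom.congr_app he V.1] at h3'
  simp only [Scheme.Hom.id_app] at h3'
  rw [CommRingCat.hom_comp, RingHom.comp_apply] at h3'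
  change a = 0
  exact (ConcreteCategory.bijective_of_isIso (Y.presheaf.map (eqToHom _).op)).injective
    (h3'.trans (map_zero _).symm)

/-- invariance under isomorphisms of the source -/
theorem fittSheaf_comp_of_isIso [IsFinite f] {X' : Scheme.{u}} (h : X' ⟶ X) [IsIso h] (k : ℕ) :
    fittSheaf (h ≫ f) k = fittSheaf f k := by
  ext V : 2
  rw [fittSheaf_ideal, fittSheaf_ideal]
  let σ : Γ(X, f ⁻¹ᵁ V.1) ≃+* Γ(X', (h ≫ f) ⁻¹ᵁ V.1) :=
    (asIso (h.app (f ⁻¹ᵁ V.1))).commRingCatIsoToRingEquiv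
  let e : Γ(X, f ⁻¹ᵁ V.1) ≃ₗ[Γ(Y, V.1)] Γ(X', (h ≫ f) ⁻¹ᵁ V.1) :=
    { σ.toAddEquiv with
      map_smul' := fun a n => by
        change σ ((f.app V.1).hom a * n) = ((h ≫ f).app V.1).hom a * σ n
        rw [map_mul]
        rfl }
  exact (fitt_congr e k).symm

/-- **base change**: Fitting ideal sheaves of a finite morphism commute with base change. -/
theorem fittSheaf_of_isPullback {P Y' : Scheme.{u}} {fst : P ⟶ X} {snd : P ⟶ Y'} {g : Y' ⟶ Y}
    (H : IsPullback fst snd f g) [IsFinite f] [IsFinite snd] (k : ℕ) :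
    fittSheaf snd k = (fittSheaf f k).comap g := by
  let ι := {p : Y'.affineOpens × Y.affineOpens // p.1.1 ≤ g ⁻¹ᵁ p.2.1}
  refine Scheme.IdealSheafData.ext_of_iSup_eq_top (fun i : ι => i.1.1) ?_ ?_
  · rw [eq_top_iff]
    intro y' _
    obtain ⟨V, hV, hyV, -⟩ := exists_isAffineOpen_mem_and_subset (x := g y') (U := ⊤) trivial
    obtain ⟨V', hV', hyV', hle⟩ :=
      exists_isAffineOpen_mem_and_subset (x := y') (U := g ⁻¹ᵁ V) hyV
    exact Opens.mem_iSup.2 ⟨⟨(⟨V', hV'⟩, ⟨V, hV⟩), hle⟩, hyV'⟩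
  · rintro ⟨⟨V', V⟩, hle⟩
    change (fittSheaf snd k).ideal V' = ((fittSheaf f k).comap g).ideal V'
    rw [Groth.Agent.Lib.Helper22.IdealComap.ideal_comap_eq_map g _ V' V hle, fittSheaf_ideal,
      fittSheaf_ideal]
    have hle2 : snd ⁻¹ᵁ V'.1 ≤ fst ⁻¹ᵁ (f ⁻¹ᵁ V.1) := by
      rw [← Scheme.Hom.comp_preimage, H.w, Scheme.Hom.comp_preimage]
      exact snd.preimage_mono hle
    have hUY : snd ⁻¹ᵁ V'.1 = fst ⁻¹ᵁ (f ⁻¹ᵁ V.1) ⊓ snd ⁻¹ᵁ V'.1 := (inf_eq_right.2 hle2).symm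
    haveI := isIso_pushoutSection_of_isAffineOpen H hle (le_refl (f ⁻¹ᵁ V.1)) hUY V.2 V'.2
      (V.2.preimage f)
    have hpo := (isIso_pushoutSection_iff H hle (le_refl (f ⁻¹ᵁ V.1)) hUY).1 inferInstance
    rw [← Scheme.Hom.app_eq_appLE] at hpo
    letI iAA' : Algebra Γ(Y, V.1) Γ(Y', V'.1) := (g.appLE V.1 V'.1 hle).hom.toAlgebra
    letI iNN' : Algebra Γ(X, f ⁻¹ᵁ V.1) Γ(P, snd ⁻¹ᵁ V'.1) :=
      (fst.appLE (f ⁻¹ᵁ V.1) (snd ⁻¹ᵁ V'.1) hle2).hom.toAlgebra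
    letI iAN' : Algebra Γ(Y, V.1) Γ(P, snd ⁻¹ᵁ V'.1) :=
      ((snd.app V'.1).hom.comp (g.appLE V.1 V'.1 hle).hom).toAlgebra
    haveI t1 : IsScalarTower Γ(Y, V.1) Γ(Y', V'.1) Γ(P, snd ⁻¹ᵁ V'.1) :=
      IsScalarTower.of_algebraMap_eq' rfl
    haveI t2 : IsScalarTower Γ(Y, V.1) Γ(X, f ⁻¹ᵁ V.1) Γ(P, snd ⁻¹ᵁ V'.1) := by
      refine IsScalarTower.of_algebraMap_eq' ?_
      change (snd.app V'.1).hom.comp (g.appLE V.1 V'.1 hle).hom =
        (fst.appLE (f ⁻¹ᵁ V.1) (snd ⁻¹ᵁ V'.1) hle2).hom.comp (f.app V.1).hom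
      rw [← CommRingCat.hom_comp, ← CommRingCat.hom_comp]
      congr 1
      have := hpo.w
      rw [Scheme.Hom.app_eq_appLE (f := snd)]
      exact this.symm
    have hpo' : Algebra.IsPushout Γ(Y, V.1) Γ(Y', V'.1) Γ(X, f ⁻¹ᵁ V.1) Γ(P, snd ⁻¹ᵁ V'.1) := by
      rw [← CommRingCat.isPushout_iff_isPushout]
      have := hpo.flip
      rw [← Scheme.Hom.app_eq_appLE] at this
      exact this
    haveI := finite_app f V.2
    have hbc : IsBaseChange Γ(Y', V'.1)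
        (IsScalarTower.toAlgHom Γ(Y, V.1) Γ(X, f ⁻¹ᵁ V.1) Γ(P, snd ⁻¹ᵁ V'.1)).toLinearMap := hpo'.out
    rw [← fitt_congr hbc.equiv k]
    exact fitt_baseChange k

end sheaf

end Groth.Agent.Lib.Helper11.KMFitt
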