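import Mathlib
import Groth.Agent.Lib.Helper18FinFlat3
import Groth.Agent.Lib.Helper11KMFittC

set_option autoImplicit false
set_option linter.style.haveILetI false
universe u v
open CategoryTheory AlgebraicGeometry Limits Opposite TopologicalSpace

namespace Groth.Agent.Lib.Helper11.KMFitt

open Groth.Agent.Helper18Fitt Groth.Agent.Helper18FittSh Groth.Agent.Helper18FinFlat

section sheaf

variable {X Y : Scheme.{u}} (f : X ⟶ Y)

attribute [local instance] algApp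

/-- a finite morphism with `Fitt_k = 0` for `k < d` and `Fitt_d = 1` is finite locally free of
degree `d`. -/
theorem isFinLocFreeOfDeg_of_fittSheaf [IsFinite f] (d : ℕ)
    (h1 : ∀ k, k < d → fittSheaf f k = ⊥) (h2 : fittSheaf f d = ⊤) :
    Mor2.IsFinLocFreeOfDeg d f := by
  refine isFinLocFreeOfDeg_of_forall_exists_affine f d (fun s => ?_)
  obtain ⟨W, hW, hsW, -⟩ := exists_isAffineOpen_mem_and_subset (x := s) (U := ⊤) trivial
  refine ⟨W, hW, hsW, ?_⟩
  haveI := finite_app f hW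
  have e1 : ∀ k, k < d → Fitt.ideal Γ(Y, W) Γ(X, f ⁻¹ᵁ W) k = ⊥ := fun k hk =>
    congrArg (fun I : Y.IdealSheafData => I.ideal ⟨W, hW⟩) (h1 k hk)
  have e2 : Fitt.ideal Γ(Y, W) Γ(X, f ⁻¹ᵁ W) d = ⊤ :=
    congrArg (fun I : Y.IdealSheafData => I.ideal ⟨W, hW⟩) h2
  obtain ⟨hfp, hproj, hrank⟩ := projective_rank_of_fitt Γ(X, f ⁻¹ᵁ W) d e1 e2
  refine ⟨⟨IsFinite.finite_app f W hW, ?_, fun p => ?_⟩, ?_⟩
  · change Module.Flat Γ(Y, W) Γ(X, f ⁻¹ᵁ W)
    infer_instance
  · exact hrank p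
  · change Algebra.FinitePresentation Γ(Y, W) Γ(X, f ⁻¹ᵁ W)
    infer_instance

end sheaf

end Groth.Agent.Lib.Helper11.KMFitt
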