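import Mathlib
import Groth.Prelude.Def_FlatMod2
import Groth.Agent.Lib.Helper18FittSh3
import Groth.Agent.Lib.Helper18FittSh5
import Groth.Agent.Lib.Helper20FormalPull
import Groth.Agent.Lib.Helper20PullbackAff

/-!
# The locally closed subscheme over which a finite type module is locally free of rank `r`
(helper14)
-/

set_option autoImplicit false
set_option linter.unusedVariables false
set_option linter.unusedSectionVars false
set_option linter.style.haveILetI false
universe u
open CategoryTheory Limits AlgebraicGeometry TopologicalSpace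

namespace Groth.Agent.Lib.Helper14.FittStratum

open Scheme.IdealSheafData

variable {X : Scheme.{u}}

lemma comap_eq_bot_iff {T : Scheme.{u}} (K : X.IdealSheafData) (f : T ⟶ X) :
    K.comap f = ⊥ ↔ K ≤ f.ker := by
  rw [← le_bot_iff, ← le_map_iff_comap_le, map_bot]

lemma comap_eq_top_iff {T : Scheme.{u}} (J : X.IdealSheafData) (f : T ⟶ X) :
    J.comap f = ⊤ ↔ Set.range f ⊆ (J.support : Set X)ᶜ := by
  rw [← Scheme.IdealSheafData.support_eq_bot_iff, ← SetLike.coe_set_eq, support_comap,
    TopologicalSpace.Closeds.coe_preimage, TopologicalSpace.Closeds.coe_bot]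
  constructor
  · intro h
    rintro _ ⟨t, rfl⟩ ht
    have : t ∈ (f ⁻¹' (J.support : Set X)) := ht
    rw [h] at this
    exact this
  · intro h
    ext t
    simp only [Set.mem_preimage, SetLike.mem_coe, Set.mem_empty_iff_false, iff_false]
    intro ht
    exact h ⟨t, rfl⟩ ht

/-- the open complement of the support of an ideal sheaf -/
def compl (J : X.IdealSheafData) : X.Opens :=
  ⟨(J.support : Set X)ᶜ, J.support.isClosed.isOpen_compl⟩

/-- factorisation through the locally closed subscheme `V(K) ∖ V(J)` -/
theorem exists_factor_iff (K J : X.IdealSheafData) {T : Scheme.{u}} (f : T ⟶ X) :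
    (∃ g : T ⟶ (K.comap (compl J).ι).subscheme,
        g ≫ (K.comap (compl J).ι).subschemeι ≫ (compl J).ι = f) ↔
      (K.comap f = ⊥ ∧ J.comap f = ⊤) := by
  constructor
  · rintro ⟨g, rfl⟩
    constructor
    · rw [comap_comp, comap_comp]
      have h1 : (K.comap (compl J).ι).comap (K.comap (compl J).ι).subschemeι = ⊥ := by
        rw [comap_eq_bot_iff, ker_subschemeι]
      rw [h1, comap_eq_bot_iff]
      exact bot_le
    · rw [comap_eq_top_iff]
      rintro _ ⟨t, rfl⟩
      exact ((K.comap (compl J).ι).subschemeι (g t)).2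
  · rintro ⟨hK, hJ⟩
    rw [comap_eq_top_iff] at hJ
    have hr : Set.range f ⊆ Set.range (compl J).ι := by
      rw [Scheme.Opens.range_ι]
      exact hJ
    set f' : T ⟶ (compl J : X.Opens) := IsOpenImmersion.lift (compl J).ι f hr with hf'
    have hfac : f' ≫ (compl J).ι = f := IsOpenImmersion.lift_fac _ _ _
    have h2 : (K.comap (compl J).ι).comap f' = ⊥ := by
      rw [← comap_comp, hfac, hK]
    rw [comap_eq_bot_iff] at h2
    refine ⟨IsClosedImmersion.lift (K.comap (compl J).ι).subschemeι f'
      (by rw [ker_subschemeι]; exact h2), ?_⟩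
    rw [IsClosedImmersion.lift_fac_assoc, hfac]

open Groth.Agent.Helper18FittSh in
/-- the main statement -/
theorem main (F : X.Modules) (hq : Coh.IsQCoh F) (hF : CohB1.IsFT F) (r : ℕ) :
    ∃ (Z : Scheme.{u}) (i : Z ⟶ X), IsImmersion i ∧ ∀ (T : Scheme.{u}) (f : T ⟶ X),
      (∃ g : T ⟶ Z, g ≫ i = f) ↔
        FlatMod.IsFinLocFreeOfRank r ((Scheme.Modules.pullback f).obj F) := by
  haveI : F.IsQuasicoherent := hq
  haveI : SheafOfModules.IsFiniteType (R := X.ringCatSheaf) F := hF
  have hfin := finite_sections F hF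
  have hmono : ∀ k k' : ℕ, k ≤ k' → Fitt.sheafIdeal F k ≤ Fitt.sheafIdeal F k' := by
    intro k k' h
    rw [Scheme.IdealSheafData.le_def]
    intro V
    rw [sheafIdeal_ideal F k hfin V, sheafIdeal_ideal F k' hfin V]
    haveI := hfin V
    exact Groth.Agent.Helper18Fitt.fitt_mono h
  set K : X.IdealSheafData := if r = 0 then ⊥ else Fitt.sheafIdeal F (r - 1) with hK
  set J : X.IdealSheafData := Fitt.sheafIdeal F r with hJ
  refine ⟨(K.comap (compl J).ι).subscheme, (K.comap (compl J).ι).subschemeι ≫ (compl J).ι,
    inferInstance, fun T f => ?_⟩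
  rw [exists_factor_iff K J f]
  haveI : ((Scheme.Modules.pullback f).obj F).IsQuasicoherent :=
    Groth.Agent.Lib.Helper20.PullbackAff.isQuasicoherent_pullback f F
  have hftG : CohB1.IsFT ((Scheme.Modules.pullback f).obj F) :=
    Groth.Agent.Lib.Helper20.FormalPull.isFiniteType_pullback f F
  rw [main_S8875 T ((Scheme.Modules.pullback f).obj F) inferInstance hftG r]
  simp only [← main_S8872 f F hq hF]
  constructor
  · rintro ⟨h1, h2⟩
    constructor
    · intro k hk
      have hr0 : r ≠ 0 := by omega
      rw [hK, if_neg hr0] at h1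
      rw [← le_bot_iff, ← h1]
      exact comap_mono f (hmono k (r - 1) (by omega))
    · intro k hk
      rw [← top_le_iff, ← h2]
      exact comap_mono f (hmono r k hk)
  · rintro ⟨h1, h2⟩
    constructor
    · rw [hK]
      split_ifs with h0
      · rw [comap_eq_bot_iff]; exact bot_le
      · exact h1 (r - 1) (by omega)
    · exact h2 r le_rfl

end Groth.Agent.Lib.Helper14.FittStratum
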