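import Mathlib
import Groth.Prelude.Def_Grpd
import Groth.Agent.Lib.Helper2Grpd
import Groth.Agent.Lib.Helper11KMFittD
import Groth.Agent.Lib.Helper14FittStratum

set_option autoImplicit false
set_option linter.style.haveILetI false
universe u v
open CategoryTheory AlgebraicGeometry Limits Opposite TopologicalSpace

namespace Groth.Agent.Lib.Helper11.KMStrat

open Groth.Agent.Lib.Helper11.KMFitt Groth.Agent.Lib.Helper2.Grpd

variable {S : Scheme.{u}} (G : Grpd.GroupoidScheme S)

theorem c_eq_comp : G.c = comp G (pullback.fst G.s G.t) (pullback.snd G.s G.t) pullback.condition := by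
  unfold comp
  have : pullback.lift (pullback.fst G.s G.t) (pullback.snd G.s G.t) pullback.condition = 𝟙 _ := by
    apply pullback.hom_ext <;> simp
  rw [this, Category.id_comp]

theorem hΘ1 : pullback.fst G.s G.s ≫ G.s = (pullback.snd G.s G.s ≫ G.i) ≫ G.t := by
  rw [Category.assoc, G.i_t, pullback.condition]

/-- `(a, b) ↦ (a ∘ b, b)` -/
noncomputable def Θhom : pullback G.s G.t ⟶ pullback G.s G.s :=
  pullback.lift (comp G (pullback.fst G.s G.t) (pullback.snd G.s G.t) pullback.condition)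
    (pullback.snd G.s G.t) (comp_s G _ _ _)

/-- `(d, b) ↦ (d ∘ b⁻¹, b)` -/
noncomputable def Θinv : pullback G.s G.s ⟶ pullback G.s G.t :=
  pullback.lift (comp G (pullback.fst G.s G.s) (pullback.snd G.s G.s ≫ G.i) (hΘ1 G))
    (pullback.snd G.s G.s) (by rw [comp_s, Category.assoc, G.i_s])

@[reassoc (attr := simp)]
theorem Θhom_snd : Θhom G ≫ pullback.snd G.s G.s = pullback.snd G.s G.t := by
  unfold Θhom; rw [pullback.lift_snd]

@[reassoc (attr := simp)]
theorem Θinv_snd : Θinv G ≫ pullback.snd G.s G.t = pullback.snd G.s G.s := by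
  unfold Θinv; rw [pullback.lift_snd]

@[reassoc]
theorem Θhom_fst : Θhom G ≫ pullback.fst G.s G.s =
    comp G (pullback.fst G.s G.t) (pullback.snd G.s G.t) pullback.condition := by
  unfold Θhom; rw [pullback.lift_fst]

@[reassoc]
theorem Θinv_fst : Θinv G ≫ pullback.fst G.s G.t =
    comp G (pullback.fst G.s G.s) (pullback.snd G.s G.s ≫ G.i) (hΘ1 G) := by
  unfold Θinv; rw [pullback.lift_fst]

theorem Θhom_inv : Θhom G ≫ Θinv G = 𝟙 _ := by
  apply pullback.hom_ext
  · rw [Category.assoc, Θinv_fst, Category.id_comp]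
    refine (precomp_comp G (Θhom G) _ _ _).trans ?_
    have e2 : Θhom G ≫ pullback.snd G.s G.s ≫ G.i = pullback.snd G.s G.t ≫ G.i := by
      rw [Θhom_snd_assoc]
    refine (comp_congr G _ (Θhom_fst G) e2).trans ?_
    exact comp_comp_i G _ _ _ _
  · rw [Category.assoc, Θinv_snd, Θhom_snd, Category.id_comp]

theorem Θinv_hom : Θinv G ≫ Θhom G = 𝟙 _ := by
  apply pullback.hom_ext
  · rw [Category.assoc, Θhom_fst, Category.id_comp]
    refine (precomp_comp G (Θinv G) _ _ _).trans ?_
    refine (comp_congr G _ (Θinv_fst G) (Θinv_snd G)).trans ?_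
    exact comp_i_comp' G _ _ _ _
  · rw [Category.assoc, Θhom_snd, Θinv_snd, Category.id_comp]

/-- the translation isomorphism `R ×_{s,U,t} R ≅ R ×_{s,U,s} R` over the second projection. -/
noncomputable def Θ : pullback G.s G.t ≅ pullback G.s G.s :=
  ⟨Θhom G, Θinv G, Θhom_inv G, Θinv_hom G⟩

theorem fittSheaf_congr {X Y : Scheme.{u}} {f f' : X ⟶ Y} (h : f = f') [IsFinite f] [IsFinite f']
    (k : ℕ) : fittSheaf f k = fittSheaf f' k := by
  subst h
  rfl

/-- the Fitting strata of `s` are `R`-invariant. -/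
theorem comap_s_eq_comap_t [IsFinite G.s] (k : ℕ) :
    (fittSheaf G.s k).comap G.s = (fittSheaf G.s k).comap G.t := by
  rw [← fittSheaf_of_isPullback G.s (IsPullback.of_hasPullback G.s G.s) k,
    ← fittSheaf_of_isPullback G.s (IsPullback.of_hasPullback G.s G.t) k]
  haveI : IsIso (Θhom G) := (Θ G).isIso_hom
  rw [← fittSheaf_comp_of_isIso (pullback.snd G.s G.s) (Θhom G) k]
  exact fittSheaf_congr (Θhom_snd G) k

theorem eqToHom_subschemeι {X : Scheme.{u}} {I J : X.IdealSheafData} (h : I = J) :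
    (eqToHom (by rw [h]) : I.subscheme ⟶ J.subscheme) ≫ J.subschemeι = I.subschemeι := by
  subst h
  simp

/-- an ideal sheaf with equal pullbacks along `a` and `b` gives isomorphic pulled back closed
subschemes. -/
theorem exists_iso_of_comap_eq {X Y : Scheme.{u}} (I : Y.IdealSheafData) (a b : X ⟶ Y)
    (h : I.comap a = I.comap b) :
    ∃ φ : pullback a I.subschemeι ≅ pullback b I.subschemeι,
      φ.hom ≫ pullback.fst b I.subschemeι = pullback.fst a I.subschemeι := by
  refine ⟨(I.comapIso a).symm ≪≫ eqToIso (by rw [h]) ≪≫ I.comapIso b, ?_⟩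
  simp only [Iso.trans_hom, Iso.symm_hom, eqToIso.hom, Category.assoc,
    Scheme.IdealSheafData.comapIso_hom_fst]
  rw [eqToHom_subschemeι h, Scheme.IdealSheafData.comapIso_inv_subschemeι]

open Groth.Agent.Lib.Helper14.FittStratum in
/-- **Stratification of a finite groupoid by the rank of `s`.** -/
theorem main [IsFinite G.s] :
    ∃ Z : ℕ → G.U.IdealSheafData, Z 0 = ⊥ ∧ Monotone Z ∧
      (⋂ r, ((Z r).support : Set G.U)) = ∅ ∧
      (∀ r, (Z r).comap G.s = (Z r).comap G.t) ∧
      ∀ r, Mor2.IsFinLocFreeOfDeg (r + 1) (pullback.snd G.s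
        (((Z r).subschemeι ⁻¹ᵁ (Z (r + 1)).support.compl).ι ≫ (Z r).subschemeι)) := by
  refine ⟨fun r => fittSheaf G.s r, fittSheaf_zero_of_section G.s G.e G.e_s, fittSheaf_mono G.s,
    iInter_support_fittSheaf G.s, comap_s_eq_comap_t G, fun r => ?_⟩
  set j := ((fittSheaf G.s r).subschemeι ⁻¹ᵁ (fittSheaf G.s (r + 1)).support.compl).ι ≫
    (fittSheaf G.s r).subschemeι with hj
  have hbc : ∀ k, fittSheaf (pullback.snd G.s j) k = (fittSheaf G.s k).comap j := fun k =>
    fittSheaf_of_isPullback G.s (IsPullback.of_hasPullback G.s j) k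
  refine isFinLocFreeOfDeg_of_fittSheaf (pullback.snd G.s j) (r + 1) (fun k hk => ?_) ?_
  · rw [hbc, comap_eq_bot_iff]
    refine (fittSheaf_mono G.s (Nat.lt_succ_iff.mp hk)).trans ?_
    calc fittSheaf G.s r = (fittSheaf G.s r).subschemeι.ker :=
          (Scheme.IdealSheafData.ker_subschemeι _).symm
      _ ≤ j.ker := Scheme.Hom.le_ker_comp _ _
  · rw [hbc, comap_eq_top_iff]
    rintro _ ⟨x, rfl⟩
    exact x.2

end Groth.Agent.Lib.Helper11.KMStrat
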