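import Mathlib
import Groth.Prelude.Def_Grpd
import Groth.Agent.Lib.Helper11IdGlueB
import Groth.Agent.Lib.Helper14FittStratum

set_option autoImplicit false
set_option linter.style.haveILetI false
universe u v
open CategoryTheory AlgebraicGeometry Limits Opposite TopologicalSpace

/-!
# Gluing a thickening from strata (helper11)

`X` a scheme, `Wr : ℕ → X.Opens` pairwise disjoint, `Z : ℕ → X.IdealSheafData`.  On `W = ⨆ Wr r`
there is a unique ideal sheaf `W'` restricting to `Z r` on `Wr r`.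
-/

namespace Groth.Agent.Lib.Helper11.KMThick

open Groth.Agent.Lib.Helper11.IdGlue Groth.Agent.Lib.Helper14.FittStratum Scheme.IdealSheafData

variable {X : Scheme.{u}} (Wr : ℕ → X.Opens) (Z : ℕ → X.IdealSheafData)

/-- the union of the strata -/
def Wtot : X.Opens := ⨆ r, Wr r

/-- inclusion of a stratum into the union -/
noncomputable def incl (r : ℕ) : (Wr r : Scheme.{u}) ⟶ (Wtot Wr : Scheme.{u}) :=
  X.homOfLE (le_iSup Wr r)

instance (r : ℕ) : IsOpenImmersion (incl Wr r) := by unfold incl; infer_instance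

@[reassoc (attr := simp)]
theorem incl_ι (r : ℕ) : incl Wr r ≫ (Wtot Wr).ι = (Wr r).ι := X.homOfLE_ι _

omit Wr in
theorem ι_mem (U : X.Opens) (w : (U : Scheme.{u})) : U.ι w ∈ U := by
  have : U.ι w ∈ Set.range U.ι := ⟨w, rfl⟩
  rwa [Scheme.Opens.range_ι] at this

omit Wr in
theorem exists_ι_eq (U : X.Opens) {x : X} (hx : x ∈ U) : ∃ w : (U : Scheme.{u}), U.ι w = x := by
  have : x ∈ Set.range U.ι := by rw [Scheme.Opens.range_ι]; exact hx
  exact this

theorem incl_surj (w : (Wtot Wr : Scheme.{u})) : ∃ r, w ∈ Set.range (incl Wr r) := by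
  have hw : (Wtot Wr).ι w ∈ Wtot Wr := ι_mem _ w
  obtain ⟨r, hr⟩ := Opens.mem_iSup.1 hw
  obtain ⟨w', hw'⟩ := exists_ι_eq (Wr r) hr
  refine ⟨r, ⟨w', ?_⟩⟩
  apply (Wtot Wr).ι.injective
  rw [← Scheme.Hom.comp_apply, incl_ι, hw']

theorem comap_eq_top_of_isEmpty {T Y : Scheme.{u}} [IsEmpty T] (K : Y.IdealSheafData)
    (a : T ⟶ Y) : K.comap a = ⊤ := by
  unfold Scheme.IdealSheafData.comap
  haveI : IsEmpty ↥(pullback a K.subschemeι) := Function.isEmpty (pullback.fst a K.subschemeι)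
  exact Scheme.ker_eq_top_of_isEmpty _

variable (hdisj : ∀ i j, i ≠ j → Disjoint (Wr i : Set X) (Wr j))

include hdisj in
theorem compat : Compat (incl Wr) (fun r => (Z r).comap (Wr r).ι) := by
  intro T i j a b hab
  by_cases hij : i = j
  · subst hij
    have : a = b := by rwa [cancel_mono] at hab
    rw [this]
  · haveI : IsEmpty T := by
      constructor
      intro x
      have h1 : ((a ≫ incl Wr i) ≫ (Wtot Wr).ι) x ∈ (Wr i : Set X) := by
        rw [Category.assoc, incl_ι]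
        exact (a x).2
      have h2 : ((a ≫ incl Wr i) ≫ (Wtot Wr).ι) x ∈ (Wr j : Set X) := by
        rw [hab, Category.assoc, incl_ι]
        exact (b x).2
      exact Set.disjoint_left.1 (hdisj i j hij) h1 h2
    rw [comap_eq_top_of_isEmpty, comap_eq_top_of_isEmpty]

/-- the glued ideal sheaf on the union of the strata -/
noncomputable def W' : (Wtot Wr : Scheme.{u}).IdealSheafData :=
  (existsUnique_glue (incl Wr) (incl_surj Wr) _ (compat Wr Z hdisj)).exists.choose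

theorem W'_comap_incl (r : ℕ) : (W' Wr Z hdisj).comap (incl Wr r) = (Z r).comap (Wr r).ι :=
  (existsUnique_glue (incl Wr) (incl_surj Wr) _ (compat Wr Z hdisj)).exists.choose_spec r

/-- the composite immersion `W' → W → X` -/
noncomputable abbrev ι' : (W' Wr Z hdisj).subscheme ⟶ X :=
  (W' Wr Z hdisj).subschemeι ≫ (Wtot Wr).ι

/-- (★') on morphisms landing in the `r`-th stratum, `W'` pulls back like `Z r`. -/
theorem comap_of_range_subset {T : Scheme.{u}} (m₀ : T ⟶ (Wtot Wr : Scheme.{u})) (r : ℕ)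
    (hm : ∀ x, (m₀ ≫ (Wtot Wr).ι) x ∈ Wr r) :
    (W' Wr Z hdisj).comap m₀ = (Z r).comap (m₀ ≫ (Wtot Wr).ι) := by
  have hrange : Set.range (m₀ ≫ (Wtot Wr).ι) ⊆ Set.range (Wr r).ι := by
    rintro _ ⟨x, rfl⟩
    rw [Scheme.Opens.range_ι]
    exact hm x
  let h₀ : T ⟶ (Wr r : Scheme.{u}) := IsOpenImmersion.lift (Wr r).ι (m₀ ≫ (Wtot Wr).ι) hrange
  have h1 : h₀ ≫ (Wr r).ι = m₀ ≫ (Wtot Wr).ι := IsOpenImmersion.lift_fac _ _ _
  have h2 : h₀ ≫ incl Wr r = m₀ := by
    rw [← cancel_mono (Wtot Wr).ι, Category.assoc, incl_ι, h1]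
  rw [← h2, comap_comp, W'_comap_incl, ← comap_comp, Category.assoc, incl_ι]

/-- (loc)+(crit): vanishing of the pullback of `W'` can be checked stratum by stratum. -/
theorem comap_eq_bot_of_forall {T : Scheme.{u}} (m₀ : T ⟶ (Wtot Wr : Scheme.{u}))
    (h : ∀ r, (Z r).comap ((m₀ ⁻¹ᵁ ((Wtot Wr).ι ⁻¹ᵁ Wr r)).ι ≫ m₀ ≫ (Wtot Wr).ι) = ⊥) :
    (W' Wr Z hdisj).comap m₀ = ⊥ := by
  refine ext_of_comap_family (fun r => (m₀ ⁻¹ᵁ ((Wtot Wr).ι ⁻¹ᵁ Wr r)).ι) ?_ (fun r => ?_)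
  · intro x
    have hw : (Wtot Wr).ι (m₀ x) ∈ Wtot Wr := ι_mem _ _
    obtain ⟨r, hr⟩ := Opens.mem_iSup.1 hw
    refine ⟨r, ?_⟩
    rw [Scheme.Opens.range_ι]
    exact hr
  · rw [← comap_comp, comap_bot,
      comap_of_range_subset Wr Z hdisj ((m₀ ⁻¹ᵁ ((Wtot Wr).ι ⁻¹ᵁ Wr r)).ι ≫ m₀) r (fun x => x.2),
      Category.assoc]
    exact h r

/-- (conv) a morphism to `W'` landing in the `r`-th stratum kills `Z r`. -/
theorem comap_ι'_eq_bot {T : Scheme.{u}} (g : T ⟶ (W' Wr Z hdisj).subscheme) (r : ℕ)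
    (hg : ∀ x, (g ≫ ι' Wr Z hdisj) x ∈ Wr r) : (Z r).comap (g ≫ ι' Wr Z hdisj) = ⊥ := by
  have := comap_of_range_subset Wr Z hdisj (g ≫ (W' Wr Z hdisj).subschemeι) r
    (by simpa only [Category.assoc] using hg)
  rw [Category.assoc] at this
  rw [← this, comap_comp, comap_subschemeι_self, comap_bot]

end Groth.Agent.Lib.Helper11.KMThick
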