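import Mathlib
import Groth.Agent.Lib.Helper11KMThickA
import Groth.Agent.Lib.Helper11KMFittD

set_option autoImplicit false
set_option linter.style.haveILetI false
universe u v
open CategoryTheory AlgebraicGeometry Limits Opposite TopologicalSpace

namespace Groth.Agent.Lib.Helper11.KMThick

open Groth.Agent.Lib.Helper11.IdGlue Groth.Agent.Lib.Helper14.FittStratum Scheme.IdealSheafData
open Groth.Agent.Lib.Helper11.KMFitt

variable {X : Scheme.{u}} (Wr : ℕ → X.Opens) (Z : ℕ → X.IdealSheafData)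
  (hdisj : ∀ i j, i ≠ j → Disjoint (Wr i : Set X) (Wr j))

/-- (b) `W'` has full support if `Wr r ⊆ V(Z r)` -/
theorem W'_support (hsub : ∀ r, (Wr r : Set X) ⊆ (Z r).support) :
    (W' Wr Z hdisj).support = ⊤ := by
  rw [eq_top_iff]
  intro w _
  obtain ⟨r, w', rfl⟩ := incl_surj Wr w
  have h1 := congrArg (fun I : (Wr r : Scheme.{u}).IdealSheafData => (↑I.support : Set (Wr r : Scheme.{u}))) (W'_comap_incl Wr Z hdisj r)
  simp only [support_comap, Closeds.coe_preimage] at h1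
  have : w' ∈ (Wr r).ι ⁻¹' ((Z r).support : Set X) := hsub r (ι_mem _ w')
  rw [← h1] at this
  exact this

theorem ι'_mem (y : (W' Wr Z hdisj).subscheme) : ∃ r, ι' Wr Z hdisj y ∈ Wr r := by
  have hw : (Wtot Wr).ι ((W' Wr Z hdisj).subschemeι y) ∈ Wtot Wr := ι_mem _ _
  obtain ⟨r, hr⟩ := Opens.mem_iSup.1 hw
  exact ⟨r, hr⟩

/-- (e)/(f): the base change to `W'` of a finite morphism whose Fitting strata are the `Z r`. -/
theorem isFinLocFree_snd {R : Scheme.{u}} (p : R ⟶ X) [IsFinite p]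
    (hp : ∀ k, fittSheaf p k = Z k) (hmono : Monotone Z)
    (hsupp : ∀ r, Disjoint (Wr r : Set X) (Z (r + 1)).support) :
    Mor2.IsFinLocFree (pullback.snd p (ι' Wr Z hdisj)) := by
  set π := pullback.snd p (ι' Wr Z hdisj) with hπ
  let O : ℕ → (W' Wr Z hdisj).subscheme.Opens := fun r => ι' Wr Z hdisj ⁻¹ᵁ Wr r
  have hcov : ⨆ r, O r = ⊤ := by
    rw [eq_top_iff]
    intro y _
    obtain ⟨r, hr⟩ := ι'_mem Wr Z hdisj y
    exact Opens.mem_iSup.2 ⟨r, hr⟩
  have key : ∀ r, Mor2.IsFinLocFreeOfDeg (r + 1) (π ∣_ O r) := by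
    intro r
    have H : IsPullback ((π ⁻¹ᵁ O r).ι ≫ pullback.fst p (ι' Wr Z hdisj)) (π ∣_ O r) p
        ((O r).ι ≫ ι' Wr Z hdisj) :=
      (isPullback_morphismRestrict π (O r)).flip.paste_horiz
        (IsPullback.of_hasPullback p (ι' Wr Z hdisj))
    have hbc : ∀ k, fittSheaf (π ∣_ O r) k = (Z k).comap ((O r).ι ≫ ι' Wr Z hdisj) := fun k => by
      rw [fittSheaf_of_isPullback p H k, hp]
    have hbot : (Z r).comap ((O r).ι ≫ ι' Wr Z hdisj) = ⊥ :=
      comap_ι'_eq_bot Wr Z hdisj (O r).ι r (fun x => x.2)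
    refine isFinLocFreeOfDeg_of_fittSheaf (π ∣_ O r) (r + 1) (fun k hk => ?_) ?_
    · rw [hbc, eq_bot_iff, ← hbot]
      exact comap_mono _ (hmono (Nat.lt_succ_iff.mp hk))
    · rw [hbc, comap_eq_top_iff]
      rintro _ ⟨x, rfl⟩ hx
      exact Set.disjoint_left.1 (hsupp r) x.2 hx
  refine ⟨inferInstance, ?_, ?_⟩
  · rw [IsZariskiLocalAtTarget.iff_of_iSup_eq_top (P := @Flat) O hcov]
    exact fun r => (key r).1.2.1
  · rw [IsZariskiLocalAtTarget.iff_of_iSup_eq_top (P := @LocallyOfFinitePresentation) O hcov]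
    exact fun r => (key r).1.2.2

/-- (c) one direction of the invariance of `W'`. -/
theorem exists_lift {R : Scheme.{u}} (p q : R ⟶ X) (hpq : ∀ r, (Z r).comap p = (Z r).comap q)
    (hinv : ∀ r, p ⁻¹ᵁ Wr r = q ⁻¹ᵁ Wr r) :
    ∃ α : pullback p (ι' Wr Z hdisj) ⟶ pullback q (ι' Wr Z hdisj),
      α ≫ pullback.fst q (ι' Wr Z hdisj) = pullback.fst p (ι' Wr Z hdisj) := by
  set a := pullback.fst p (ι' Wr Z hdisj) with ha
  set b := pullback.snd p (ι' Wr Z hdisj) with hb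
  have hcond : a ≫ p = b ≫ ι' Wr Z hdisj := pullback.condition
  -- membership transfer
  have hmem : ∀ x r, (a ≫ q) x ∈ Wr r ↔ (b ≫ ι' Wr Z hdisj) x ∈ Wr r := by
    intro x r
    rw [← hcond]
    have := congrArg (fun O : R.Opens => a x ∈ O) (hinv r)
    simp only [Scheme.Hom.comp_apply]
    exact (iff_of_eq this).symm
  have hrange : Set.range (a ≫ q) ⊆ Set.range (Wtot Wr).ι := by
    rintro _ ⟨x, rfl⟩
    rw [Scheme.Opens.range_ι]
    obtain ⟨r, hr⟩ := ι'_mem Wr Z hdisj (b x)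
    exact Opens.mem_iSup.2 ⟨r, (hmem x r).2 (by simpa using hr)⟩
  let m₀ := IsOpenImmersion.lift (Wtot Wr).ι (a ≫ q) hrange
  have hm₀ : m₀ ≫ (Wtot Wr).ι = a ≫ q := IsOpenImmersion.lift_fac _ _ _
  have hbot : (W' Wr Z hdisj).comap m₀ = ⊥ := by
    refine comap_eq_bot_of_forall Wr Z hdisj m₀ (fun r => ?_)
    set O := m₀ ⁻¹ᵁ ((Wtot Wr).ι ⁻¹ᵁ Wr r) with hO
    rw [hm₀, ← Category.assoc, comap_comp, ← hpq, ← comap_comp, Category.assoc, hcond,
      ← Category.assoc]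
    refine comap_ι'_eq_bot Wr Z hdisj (O.ι ≫ b) r (fun x => ?_)
    have hx : (m₀ ≫ (Wtot Wr).ι) (O.ι x) ∈ Wr r := ι_mem O x
    rw [hm₀] at hx
    have := (hmem (O.ι x) r).1 hx
    simpa using this
  rw [comap_eq_bot_iff] at hbot
  let γ := IsClosedImmersion.lift (W' Wr Z hdisj).subschemeι m₀
    (by rw [ker_subschemeι]; exact hbot)
  have hγ : γ ≫ (W' Wr Z hdisj).subschemeι = m₀ := IsClosedImmersion.lift_fac _ _ _
  refine ⟨pullback.lift a γ ?_, pullback.lift_fst _ _ _⟩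
  rw [← hm₀, ← hγ, Category.assoc]

end Groth.Agent.Lib.Helper11.KMThick
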