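import Mathlib
import Groth.Prelude.Def_Grpd
import Groth.Agent.Lib.Helper2GrpdOrbit

set_option autoImplicit false
set_option linter.style.haveILetI false
universe u v
open CategoryTheory AlgebraicGeometry Limits Opposite TopologicalSpace

namespace Groth.Agent.Lib.Helper11.KMTop

open Groth.Agent.Lib.Helper2.GrpdOrbit

variable {S : Scheme.{u}} (G : Grpd.GroupoidScheme S)

theorem e_s_apply (a : G.U) : G.s (G.e a) = a := by
  have h := congrArg (fun f => f.base a) G.e_s
  simpa using h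

theorem e_t_apply (a : G.U) : G.t (G.e a) = a := by
  have h := congrArg (fun f => f.base a) G.e_t
  simpa using h

theorem i_s_apply (ρ : G.R) : G.s (G.i ρ) = G.t ρ := by
  have h := congrArg (fun f => f.base ρ) G.i_s
  simpa using h

theorem i_t_apply (ρ : G.R) : G.t (G.i ρ) = G.s ρ := by
  have h := congrArg (fun f => f.base ρ) G.i_t
  simpa using h

theorem rel_refl (a : G.U) : Rel G a a := ⟨G.e a, e_s_apply G a, e_t_apply G a⟩

theorem rel_symm {a b : G.U} (h : Rel G a b) : Rel G b a := by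
  obtain ⟨ρ, hs, ht⟩ := h
  exact ⟨G.i ρ, by rw [i_s_apply, ht], by rw [i_t_apply, hs]⟩

/-- the saturation `t(s⁻¹ A)` of a subset of `U`. -/
def sat (A : Set G.U) : Set G.U := G.t '' (G.s ⁻¹' A)

theorem mem_sat {A : Set G.U} {b : G.U} : b ∈ sat G A ↔ ∃ a ∈ A, Rel G a b := by
  constructor
  · rintro ⟨ρ, hρ, rfl⟩
    exact ⟨G.s ρ, hρ, ρ, rfl, rfl⟩
  · rintro ⟨a, ha, ρ, rfl, rfl⟩
    exact ⟨ρ, ha, rfl⟩

theorem subset_sat (A : Set G.U) : A ⊆ sat G A := fun a ha =>
  (mem_sat G).2 ⟨a, ha, rel_refl G a⟩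

theorem sat_mono {A B : Set G.U} (h : A ⊆ B) : sat G A ⊆ sat G B :=
  Set.image_mono (Set.preimage_mono h)

/-- `R`-invariant subsets of `U`. -/
def Inv (A : Set G.U) : Prop := G.s ⁻¹' A = G.t ⁻¹' A

theorem inv_iff {A : Set G.U} : Inv G A ↔ ∀ a b, Rel G a b → (a ∈ A ↔ b ∈ A) := by
  constructor
  · rintro h a b ⟨ρ, rfl, rfl⟩
    exact Set.ext_iff.1 h ρ
  · intro h
    ext ρ
    exact h _ _ ⟨ρ, rfl, rfl⟩

theorem inv_sat (A : Set G.U) : Inv G (sat G A) := by
  rw [inv_iff]
  intro a b hab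
  simp only [mem_sat]
  constructor
  · rintro ⟨c, hc, hca⟩
    exact ⟨c, hc, rel_trans G hca hab⟩
  · rintro ⟨c, hc, hcb⟩
    exact ⟨c, hc, rel_trans G hcb (rel_symm G hab)⟩

variable {G} in
theorem Inv.compl {A : Set G.U} (h : Inv G A) : Inv G Aᶜ := by
  unfold Inv at *
  rw [Set.preimage_compl, Set.preimage_compl, h]

variable {G} in
theorem Inv.inter {A B : Set G.U} (hA : Inv G A) (hB : Inv G B) : Inv G (A ∩ B) := by
  unfold Inv at *
  rw [Set.preimage_inter, Set.preimage_inter, hA, hB]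

variable {G} in
theorem Inv.iUnion {ι : Sort*} {A : ι → Set G.U} (h : ∀ i, Inv G (A i)) : Inv G (⋃ i, A i) := by
  unfold Inv at *
  rw [Set.preimage_iUnion, Set.preimage_iUnion]
  exact Set.iUnion_congr h

theorem isClosed_sat [IsFinite G.t] {A : Set G.U} (hA : IsClosed A) : IsClosed (sat G A) :=
  G.t.isClosedMap _ (hA.preimage G.s.continuous)

section strata

variable (Zs : ℕ → Set G.U)

/-- union of the strata opens constructed so far -/
def acc : ℕ → Set G.U
  | 0 => ∅
  | (r + 1) => acc r ∪ ((sat G (closure (acc r)))ᶜ ∩ (Zs (r + 1))ᶜ)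

/-- the `r`-th open stratum -/
def Wset (r : ℕ) : Set G.U := (sat G (closure (acc G Zs r)))ᶜ ∩ (Zs (r + 1))ᶜ

theorem acc_succ (r : ℕ) : acc G Zs (r + 1) = acc G Zs r ∪ Wset G Zs r := rfl

theorem acc_mono {r r' : ℕ} (h : r ≤ r') : acc G Zs r ⊆ acc G Zs r' := by
  induction h with
  | refl => exact subset_rfl
  | step _ ih => exact ih.trans (by rw [acc_succ]; exact Set.subset_union_left)

theorem Wset_subset_acc {ρ r : ℕ} (h : ρ < r) : Wset G Zs ρ ⊆ acc G Zs r := by
  refine subset_trans ?_ (acc_mono G Zs (Nat.succ_le_of_lt h))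
  rw [acc_succ]
  exact Set.subset_union_right

theorem acc_subset_iUnion (r : ℕ) : acc G Zs r ⊆ ⋃ ρ, Wset G Zs ρ := by
  induction r with
  | zero => exact Set.empty_subset _
  | succ r ih =>
    rw [acc_succ]
    exact Set.union_subset ih (Set.subset_iUnion _ r)

variable [IsFinite G.t] (hcl : ∀ r, IsClosed (Zs r))

include hcl in
theorem isOpen_Wset (r : ℕ) : IsOpen (Wset G Zs r) :=
  (isClosed_sat G isClosed_closure).isOpen_compl.inter (hcl (r + 1)).isOpen_compl

omit [IsFinite G.t] in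
theorem inv_Wset (hinv : ∀ r, Inv G (Zs r)) (r : ℕ) : Inv G (Wset G Zs r) :=
  (inv_sat G _).compl.inter (hinv (r + 1)).compl

omit [IsFinite G.t] in
theorem disjoint_Wset_acc (r : ℕ) : Disjoint (Wset G Zs r) (acc G Zs r) := by
  rw [Set.disjoint_left]
  intro x hx hx'
  exact hx.1 (subset_sat G _ (subset_closure hx'))

omit [IsFinite G.t] in
theorem disjoint_Wset {ρ r : ℕ} (h : ρ ≠ r) : Disjoint (Wset G Zs ρ) (Wset G Zs r) := by
  rcases Nat.lt_or_gt_of_ne h with h | h
  · exact ((disjoint_Wset_acc G Zs r).mono_right (Wset_subset_acc G Zs h)).symm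
  · exact (disjoint_Wset_acc G Zs ρ).mono_right (Wset_subset_acc G Zs h)

omit [IsFinite G.t] in
/-- every point outside `Z_r` is in the saturation of the closure of the strata of index `< r`. -/
theorem compl_subset_sat (h0 : Zs 0 = Set.univ) (r : ℕ) :
    (Zs r)ᶜ ⊆ sat G (closure (acc G Zs r)) := by
  induction r with
  | zero => rw [h0, Set.compl_univ]; exact Set.empty_subset _
  | succ r ih =>
    intro x hx
    have hmono : sat G (closure (acc G Zs r)) ⊆ sat G (closure (acc G Zs (r + 1))) :=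
      sat_mono G (closure_mono (acc_mono G Zs (Nat.le_succ r)))
    by_cases h1 : x ∈ sat G (closure (acc G Zs r))
    · exact hmono h1
    · have hxW : x ∈ Wset G Zs r := ⟨h1, hx⟩
      refine subset_sat G _ (subset_closure ?_)
      rw [acc_succ]
      exact Or.inr hxW

omit [IsFinite G.t] in
theorem Wset_subset (h0 : Zs 0 = Set.univ) (r : ℕ) : Wset G Zs r ⊆ Zs r := by
  intro x hx
  by_contra hx'
  exact hx.1 (compl_subset_sat G Zs h0 r hx')

omit [IsFinite G.t] in
theorem exists_mem_sat (h0 : Zs 0 = Set.univ) (hint : (⋂ r, Zs r) = ∅) (u : G.U) :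
    ∃ ρ : G.R, G.t ρ = u ∧ G.s ρ ∈ closure (⋃ r, Wset G Zs r) := by
  have : ∃ r, u ∉ Zs r := by
    by_contra h
    push Not at h
    have : u ∈ ⋂ r, Zs r := Set.mem_iInter.2 h
    rw [hint] at this
    exact this
  obtain ⟨r, hr⟩ := this
  obtain ⟨ρ, hρ, rfl⟩ := compl_subset_sat G Zs h0 r hr
  exact ⟨ρ, rfl, closure_mono (acc_subset_iUnion G Zs r) hρ⟩

end strata

end Groth.Agent.Lib.Helper11.KMTop
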