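import Mathlib
import Groth.Agent.Lib.Helper11KMStrat
import Groth.Agent.Lib.Helper11KMTop
import Groth.Agent.Lib.Helper11KMThickB
import Groth.Agent.Lib.Helper11GeomIrrPt

set_option autoImplicit false
set_option linter.style.haveILetI false
universe u v
open CategoryTheory AlgebraicGeometry Limits Opposite TopologicalSpace

namespace Groth.Agent.Lib.Helper11.KMGrpd

open Groth.Agent.Lib.Helper11.KMFitt Groth.Agent.Lib.Helper11.KMStrat
  Groth.Agent.Lib.Helper11.KMTop Groth.Agent.Lib.Helper11.KMThick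
  Groth.Agent.Lib.Helper11.GeomIrrPt Scheme.IdealSheafData

variable {S : Scheme.{u}} (G : Grpd.GroupoidScheme S) [IsFinite G.s] [IsFinite G.t]

/-- the Fitting ideal sheaves of `s_* O_R` -/
noncomputable def Zr (r : ℕ) : G.U.IdealSheafData := fittSheaf G.s r

/-- the supports of the Fitting strata -/
def Zs (r : ℕ) : Set G.U := ((Zr G r).support : Set G.U)

omit [IsFinite G.t] in
theorem Zs_closed (r : ℕ) : IsClosed (Zs G r) := (Zr G r).support.isClosed

omit [IsFinite G.t] in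
theorem Zs_zero : Zs G 0 = Set.univ := by
  unfold Zs Zr
  rw [fittSheaf_zero_of_section G.s G.e G.e_s, support_bot]
  rfl

omit [IsFinite G.t] in
theorem Zs_iInter : (⋂ r, Zs G r) = ∅ := iInter_support_fittSheaf G.s

omit [IsFinite G.t] in
theorem Zs_inv (r : ℕ) : Inv G (Zs G r) := by
  have h := congrArg (fun I : G.R.IdealSheafData => (↑I.support : Set G.R))
    (comap_s_eq_comap_t G r)
  simp only [support_comap, Closeds.coe_preimage] at h
  exact h

omit [IsFinite G.t] in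
theorem Zr_mono : Monotone (Zr G) := fittSheaf_mono G.s

theorem fittSheaf_t (k : ℕ) : fittSheaf G.t k = Zr G k := by
  rw [fittSheaf_congr G.i_s.symm k]
  exact fittSheaf_comp_of_isIso G.s G.i k

/-- the open strata -/
noncomputable def Wr (r : ℕ) : G.U.Opens :=
  ⟨Wset G (Zs G) r, isOpen_Wset G (Zs G) (Zs_closed G) r⟩

theorem Wr_disj (i j : ℕ) (h : i ≠ j) : Disjoint (Wr G i : Set G.U) (Wr G j) :=
  disjoint_Wset G (Zs G) h

theorem Wr_inv (r : ℕ) : G.s ⁻¹ᵁ Wr G r = G.t ⁻¹ᵁ Wr G r :=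
  Opens.ext (inv_Wset G (Zs G) (Zs_inv G) r)

theorem Wr_subset (r : ℕ) : (Wr G r : Set G.U) ⊆ (Zr G r).support :=
  Wset_subset G (Zs G) (Zs_zero G) r

theorem Wr_disj_succ (r : ℕ) : Disjoint (Wr G r : Set G.U) (Zr G (r + 1)).support := by
  rw [Set.disjoint_left]
  intro x hx hx'
  exact hx.2 hx'

/-- the open `W` -/
noncomputable abbrev W : G.U.Opens := Wtot (Wr G)

/-- the thickening structure `W'` on `W` -/
noncomputable abbrev Wthick : (W G : Scheme.{u}).IdealSheafData := W' (Wr G) (Zr G) (Wr_disj G)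

theorem coe_W : (W G : Set G.U) = ⋃ r, Wset G (Zs G) r := by
  ext x
  simp only [Wtot, Opens.coe_iSup, Set.mem_iUnion]
  rfl

theorem W_inv : G.s ⁻¹ᵁ W G = G.t ⁻¹ᵁ W G := by
  apply Opens.ext
  change G.s ⁻¹' (W G : Set G.U) = G.t ⁻¹' (W G : Set G.U)
  rw [coe_W]
  exact Inv.iUnion (inv_Wset G (Zs G) (Zs_inv G))

/-- **S1908** -/
theorem main :
    G.s ⁻¹ᵁ W G = G.t ⁻¹ᵁ W G ∧ (Wthick G).support = ⊤ ∧
    (∃ φ : pullback G.s ((Wthick G).subschemeι ≫ (W G).ι) ≅
        pullback G.t ((Wthick G).subschemeι ≫ (W G).ι),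
      φ.hom ≫ pullback.fst G.t ((Wthick G).subschemeι ≫ (W G).ι) =
        pullback.fst G.s ((Wthick G).subschemeι ≫ (W G).ι)) ∧
    (∀ u : G.U, ∃ r : G.R, G.t r = u ∧ G.s r ∈ closure (W G : Set G.U)) ∧
    Mor2.IsFinLocFree (pullback.snd G.s ((Wthick G).subschemeι ≫ (W G).ι)) ∧
    Mor2.IsFinLocFree (pullback.snd G.t ((Wthick G).subschemeι ≫ (W G).ι)) := by
  refine ⟨W_inv G, W'_support _ _ _ (Wr_subset G), ?_, ?_, ?_, ?_⟩
  · obtain ⟨α, hα⟩ := exists_lift (Wr G) (Zr G) (Wr_disj G) G.s G.t (comap_s_eq_comap_t G)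
      (Wr_inv G)
    obtain ⟨β, hβ⟩ := exists_lift (Wr G) (Zr G) (Wr_disj G) G.t G.s
      (fun r => (comap_s_eq_comap_t G r).symm) (fun r => (Wr_inv G r).symm)
    refine ⟨⟨α, β, ?_, ?_⟩, hα⟩
    · rw [← cancel_mono (pullback.fst G.s ((Wthick G).subschemeι ≫ (W G).ι)), Category.assoc, hβ,
        hα, Category.id_comp]
    · rw [← cancel_mono (pullback.fst G.t ((Wthick G).subschemeι ≫ (W G).ι)), Category.assoc, hα,
        hβ, Category.id_comp]
  · intro u
    rw [coe_W]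
    exact exists_mem_sat G (Zs G) (Zs_zero G) (Zs_iInter G) u
  · exact isFinLocFree_snd (Wr G) (Zr G) (Wr_disj G) G.s (fun _ => rfl) (Zr_mono G)
      (Wr_disj_succ G)
  · exact isFinLocFree_snd (Wr G) (Zr G) (Wr_disj G) G.t (fittSheaf_t G) (Zr_mono G)
      (Wr_disj_succ G)

end Groth.Agent.Lib.Helper11.KMGrpd
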