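import Mathlib
import Groth.Prelude.Def_OmegaPn
import Groth.Agent.Lib.Helper22ThickAffine

set_option autoImplicit false
universe u
open CategoryTheory Limits AlgebraicGeometry TopologicalSpace Opposite

namespace Groth.Agent.Helper18PP

variable {W Y : Scheme.{u}}

theorem preimage_preimage_eq (t : Y ⟶ W) (h : W ⟶ Y) (hth : t ≫ h = 𝟙 Y) (V : Y.Opens) :
    t ⁻¹ᵁ (h ⁻¹ᵁ V) = V := by
  rw [← Scheme.Hom.comp_preimage, hth]
  rfl

theorem isAffineHom_of_retraction (t : Y ⟶ W) [IsClosedImmersion t] (ht : Function.Surjective t)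
    (h : W ⟶ Y) (hth : t ≫ h = 𝟙 Y) : IsAffineHom h := by
  constructor
  intro V hV
  have e := preimage_preimage_eq t h hth V
  have hsrc : IsAffineOpen (t ⁻¹ᵁ (h ⁻¹ᵁ V)) := by rw [e]; exact hV
  haveI : IsAffine ((t ⁻¹ᵁ (h ⁻¹ᵁ V) : Y.Opens) : Scheme.{u}) := hsrc
  have hsurj : Function.Surjective (t ∣_ (h ⁻¹ᵁ V)) := by
    rintro ⟨w, hw⟩
    obtain ⟨y, rfl⟩ := ht w
    refine ⟨⟨y, hw⟩, ?_⟩
    apply Subtype.ext
    exact morphismRestrict_base_coe t (h ⁻¹ᵁ V) ⟨y, hw⟩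
  exact Groth.Agent.Lib.Helper22.ThickAffine.isAffine_of_thickening (t ∣_ (h ⁻¹ᵁ V)) hsurj

theorem isIntegralHom_of_retraction (t : Y ⟶ W) [IsClosedImmersion t] (ht : Function.Surjective t)
    (h : W ⟶ Y) (hth : t ≫ h = 𝟙 Y) : IsIntegralHom h := by
  haveI := isAffineHom_of_retraction t ht h hth
  haveI : Surjective t := ⟨ht⟩
  refine { isIntegral_app := ?_ }
  intro U hU b
  have hU' : IsAffineOpen (h ⁻¹ᵁ U) := hU.preimage h
  have e := preimage_preimage_eq t h hth U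
  have ele : U ≤ t ⁻¹ᵁ (h ⁻¹ᵁ U) := e.ge
  let a' : Γ(Y, U) := t.appLE (h ⁻¹ᵁ U) U ele b
  have hid : ∀ (φ : Y ⟶ Y) (_ : φ = 𝟙 Y) (e' : U ≤ φ ⁻¹ᵁ U), φ.appLE U U e' = 𝟙 _ := by
    rintro _ rfl e'
    simp only [Scheme.Hom.appLE, Scheme.Hom.id_app]
    refine (Category.id_comp _).trans ?_
    exact Y.presheaf.map_id _
  have h1 : t.appLE (h ⁻¹ᵁ U) U ele (h.app U a') = a' := by
    have h2 : (t ≫ h).appLE U U ele = h.app U ≫ t.appLE (h ⁻¹ᵁ U) U ele :=
      Scheme.Hom.comp_appLE t h U U ele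
    have h2' : 𝟙 Γ(Y, U) = h.app U ≫ t.appLE (h ⁻¹ᵁ U) U ele := (hid (t ≫ h) hth ele).symm.trans h2
    exact (congrArg (fun φ : Γ(Y, U) ⟶ Γ(Y, U) => φ a') h2').symm
  have hres : Function.Injective (Y.presheaf.map (homOfLE ele).op) := by
    have : IsIso (Y.presheaf.map (homOfLE ele).op) := by
      have : (homOfLE ele) = eqToHom e.symm := Subsingleton.elim _ _
      rw [this]; infer_instance
    exact ((ConcreteCategory.isIso_iff_bijective _).mp this).1
  have hker : t.app (h ⁻¹ᵁ U) (b - h.app U a') = 0 := by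
    apply hres
    rw [map_zero]
    have h4 : Y.presheaf.map (homOfLE ele).op (t.app (h ⁻¹ᵁ U) (b - h.app U a')) =
        t.appLE (h ⁻¹ᵁ U) U ele (b - h.app U a') := rfl
    rw [h4, map_sub, h1]
    exact sub_self _
  have hnil : IsNilpotent (b - h.app U a') :=
    Groth.Agent.Lib.Helper22.Thick.ker_app_le_nilradical t hU' hker
  have hb : b = (h.app U).hom a' + (b - h.app U a') := by
    change b = h.app U a' + (b - h.app U a'); ring
  rw [hb]
  refine RingHom.IsIntegralElem.add _ ((h.app U).hom.isIntegralElem_map) ?_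
  obtain ⟨k, hk⟩ := hnil
  exact ⟨Polynomial.X ^ k, Polynomial.monic_X_pow k, by rw [Polynomial.eval₂_X_pow, hk]⟩

theorem isFinite_of_retraction (t : Y ⟶ W) [IsClosedImmersion t] (ht : Function.Surjective t)
    (h : W ⟶ Y) (hth : t ≫ h = 𝟙 Y) [LocallyOfFiniteType h] : IsFinite h :=
  (IsFinite.iff_isIntegralHom_and_locallyOfFiniteType h).mpr
    ⟨isIntegralHom_of_retraction t ht h hth, inferInstance⟩

theorem main_S5965 {X Y : Scheme.{u}} (g : X ⟶ Y) [LocallyOfFiniteType g] (f : Y ⟶ X)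
    [IsClosedImmersion f] (hf : f ≫ g = 𝟙 Y) (n : ℕ) :
    IsFinite (PrinPart.infNbhdι f n ≫ g) := by
  haveI : IsClosedImmersion (PrinPart.toInfNbhd f n) := by
    unfold PrinPart.toInfNbhd; infer_instance
  haveI : IsClosedImmersion (PrinPart.infNbhdι f n) := by
    unfold PrinPart.infNbhdι; infer_instance
  refine isFinite_of_retraction (PrinPart.toInfNbhd f n) (PrinPart.toInfNbhd_surjective f n) _ ?_
  rw [PrinPart.toInfNbhd_ι_assoc, hf]

end Groth.Agent.Helper18PP
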