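import Mathlib
import Groth.Prelude.Def_OmegaPn
import Groth.Agent.Lib.Helper18PP1
import Groth.Agent.Lib.Helper2FinPushFP
import Groth.Agent.Lib.Helper20FormalPull

set_option autoImplicit false
universe u
open CategoryTheory Limits AlgebraicGeometry TopologicalSpace Opposite

namespace Groth.Agent.Helper18PP

variable {X S : Scheme.{u}} (f : X ⟶ S)

instance isClosedImmersion_toInfNbhd {X Y : Scheme.{u}} (i : Y ⟶ X) [IsClosedImmersion i] (n : ℕ) :
    IsClosedImmersion (PrinPart.toInfNbhd i n) := by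
  unfold PrinPart.toInfNbhd; infer_instance

instance isClosedImmersion_infNbhdι {X Y : Scheme.{u}} (i : Y ⟶ X) (n : ℕ) :
    IsClosedImmersion (PrinPart.infNbhdι i n) := by
  unfold PrinPart.infNbhdι; infer_instance

instance locallyOfFiniteType_pr1 [LocallyOfFiniteType f] (n : ℕ) :
    LocallyOfFiniteType (PrinPart.pr1 f n) := by
  unfold PrinPart.pr1 PrinPart.nbhdι; infer_instance

instance locallyOfFiniteType_pr2 [LocallyOfFiniteType f] (n : ℕ) :
    LocallyOfFiniteType (PrinPart.pr2 f n) := by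
  unfold PrinPart.pr2 PrinPart.nbhdι; infer_instance

theorem isFinite_pr1 [LocallyOfFiniteType f] (n : ℕ) : IsFinite (PrinPart.pr1 f n) :=
  isFinite_of_retraction (PrinPart.toNbhd f n) (PrinPart.toInfNbhd_surjective _ n) _
    (PrinPart.toNbhd_pr1 f n)

theorem isFinite_pr2 [LocallyOfFiniteType f] (n : ℕ) : IsFinite (PrinPart.pr2 f n) :=
  isFinite_of_retraction (PrinPart.toNbhd f n) (PrinPart.toInfNbhd_surjective _ n) _
    (PrinPart.toNbhd_pr2 f n)

theorem main_S5968 [LocallyOfFiniteType f] (n : ℕ) (F : X.Modules) (hF : Coh.IsCoh F) :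
    Coh.IsCoh (PrinPart.PMod f n F) := by
  haveI := isFinite_pr1 f n
  haveI : F.IsQuasicoherent := hF.1
  haveI : SheafOfModules.IsFiniteType (R := X.ringCatSheaf) F := hF.2
  haveI hq : ((Scheme.Modules.pullback (PrinPart.pr2 f n)).obj F).IsQuasicoherent :=
    Groth.Agent.Lib.Helper2.PullbackSec.isQuasicoherent_pullback _ _
  have hft := Groth.Agent.Lib.Helper20.FormalPull.isFiniteType_pullback (PrinPart.pr2 f n) F
  refine ⟨?_, ?_⟩
  · exact Groth.Agent.Lib.Helper23.QCohLocal.isQuasicoherent_pushforward (PrinPart.pr1 f n) _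
  · exact (Groth.Agent.Lib.Helper2.FinPushFP.isFiniteType_pushforward_iff (PrinPart.pr1 f n) _).mp hft

end Groth.Agent.Helper18PP
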