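import Mathlib
import Groth.Prelude.Def_OmegaPn
import Groth.Agent.Lib.Helper18PP2
import Groth.Agent.Lib.Helper6LfpComp
import Groth.Agent.Lib.Helper18Strict6
import Groth.Agent.Lib.Helper22FTLimit

set_option autoImplicit false
universe u
open CategoryTheory Limits AlgebraicGeometry TopologicalSpace Opposite

namespace Groth.Agent.Helper18PP

section ideal
variable {X : Scheme.{u}}

/-- the closed immersion of a finite type ideal sheaf is locally of finite presentation. -/
theorem lfp_subschemeι (I : X.IdealSheafData) (h : ∀ U : X.affineOpens, (I.ideal U).FG) :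
    LocallyOfFinitePresentation I.subschemeι :=
  Groth.Agent.Lib.Helper22.FTLimit.locallyOfFinitePresentation_subschemeι I h

/-- the ideal of a closed immersion locally of finite presentation is of finite type. -/
theorem ker_ideal_fg {Y : Scheme.{u}} (i : Y ⟶ X) [IsClosedImmersion i]
    [LocallyOfFinitePresentation i] (U : X.affineOpens) : (i.ker.ideal U).FG := by
  rw [Scheme.Hom.ker_apply]
  have hsurj : Function.Surjective (i.app U.1) := i.app_surjective U.1 U.2
  have hfp : (i.app U.1).hom.FinitePresentation := by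
    rw [Scheme.Hom.app_eq_appLE]
    exact HasRingHomProperty.appLE (P := @LocallyOfFinitePresentation) i inferInstance U
      ⟨_, U.2.preimage i⟩ le_rfl
  letI := (i.app U.1).hom.toAlgebra
  haveI : Algebra.FinitePresentation Γ(X, U.1) Γ(Y, i ⁻¹ᵁ U.1) := hfp
  exact Algebra.FinitePresentation.ker_fG_of_surjective (Algebra.ofId Γ(X, U.1) Γ(Y, i ⁻¹ᵁ U.1))
    hsurj

end ideal

section diag
variable {X S : Scheme.{u}} (f : X ⟶ S)

theorem lfp_diagCl [LocallyOfFiniteType f] : LocallyOfFinitePresentation (PrinPart.diagCl f) := by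
  haveI := Groth.Agent.Lib.Helper6.locallyOfFinitePresentation_diagonal f
  refine Groth.Agent.Lib.Helper6.locallyOfFinitePresentation_of_comp
    (g := (pullback.diagonal f).coborderRange.ι) inferInstance ?_
  rw [Scheme.Hom.liftCoborder_ι]
  infer_instance

theorem lfp_infNbhdι_diag [LocallyOfFiniteType f] (n : ℕ) :
    LocallyOfFinitePresentation (PrinPart.infNbhdι (PrinPart.diagCl f) n) := by
  haveI := lfp_diagCl f
  unfold PrinPart.infNbhdι
  refine lfp_subschemeι _ fun U => ?_
  rw [Scheme.IdealSheafData.ideal_pow]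
  exact Ideal.FG.pow (ker_ideal_fg (PrinPart.diagCl f) U)

instance lfp_pr1 [LocallyOfFinitePresentation f] (n : ℕ) :
    LocallyOfFinitePresentation (PrinPart.pr1 f n) := by
  haveI := lfp_infNbhdι_diag f n
  unfold PrinPart.pr1 PrinPart.nbhdι; infer_instance

theorem main_S5971 [LocallyOfFinitePresentation f] (n : ℕ) (F : X.Modules) (hF : CohB1.IsFP F) :
    CohB1.IsFP (PrinPart.PMod f n F) := by
  haveI := isFinite_pr1 f n
  have h1 : CohB1.IsFP ((Scheme.Modules.pullback (PrinPart.pr2 f n)).obj F) :=
    Groth.Agent.Helper18Strict.isFP_pullback _ F hF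
  haveI : ((Scheme.Modules.pullback (PrinPart.pr2 f n)).obj F).IsQuasicoherent :=
    Groth.Agent.Helper18Strict.isQCoh_of_isFP _ h1
  exact (Groth.Agent.Lib.Helper2.FinPushFP.isFinitePresentation_pushforward_iff
    (PrinPart.pr1 f n) _).mp h1

end diag
end Groth.Agent.Helper18PP
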