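import Mathlib
import Groth.Agent.Lib.Helper11KMGrpd
import Groth.Agent.Lib.Helper11KMGen
import Groth.Agent.Lib.Helper18PP3

set_option autoImplicit false
set_option linter.style.haveILetI false
universe u v
open CategoryTheory AlgebraicGeometry Limits Opposite TopologicalSpace

namespace Groth.Agent.Lib.Helper11.KMFP

open Groth.Agent.Lib.Helper22.FTIdeal Groth.Agent.Lib.Helper11.KMFitt Groth.Agent.Helper18Fitt

section general

variable {X Y : Scheme.{u}}

attribute [local instance] algApp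

/-- the Fitting ideals of a finite, finitely presented morphism are of finite type -/
theorem ft_fittSheaf (f : X ⟶ Y) [IsFinite f] [LocallyOfFinitePresentation f] (k : ℕ) :
    FT (fittSheaf f k) := by
  intro V
  rw [fittSheaf_ideal]
  haveI := finite_app f V.2
  have hfp : (f.app V.1).hom.FinitePresentation := by
    rw [Scheme.Hom.app_eq_appLE]
    exact HasRingHomProperty.appLE (P := @LocallyOfFinitePresentation) f inferInstance V
      ⟨_, V.2.preimage f⟩ le_rfl
  haveI : Algebra.FinitePresentation Γ(Y, V.1) Γ(X, f ⁻¹ᵁ V.1) := hfp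
  exact fitt_fg_of_fp (Module.FinitePresentation.of_finite_of_finitePresentation _ _) k

theorem ft_comap_of_isOpenImmersion (I : Y.IdealSheafData) (f : X ⟶ Y) [IsOpenImmersion f]
    (h : FT I) : FT (I.comap f) := by
  intro U
  rw [Scheme.IdealSheafData.ideal_comap_of_isOpenImmersion]
  have h1 := h ⟨f ''ᵁ U, U.2.image_of_isOpenImmersion f⟩
  have e : Ideal.comap (f.appIso U.1).inv.hom (I.ideal ⟨f ''ᵁ U, U.2.image_of_isOpenImmersion f⟩) =
      Ideal.map (f.appIso U.1).hom.hom (I.ideal ⟨f ''ᵁ U, U.2.image_of_isOpenImmersion f⟩) := by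
    have := Ideal.map_comap_of_equiv (I := I.ideal ⟨f ''ᵁ U, U.2.image_of_isOpenImmersion f⟩)
      (f.appIso U.1).commRingCatIsoToRingEquiv
    exact this.symm
  rw [e]
  exact h1.map _

theorem ftOn_of_ft_comap (I : Y.IdealSheafData) (f : X ⟶ Y) [IsOpenImmersion f]
    (h : FT (I.comap f)) : FTOn I f.opensRange := by
  intro V hV
  have hU : IsAffineOpen (f ⁻¹ᵁ V.1) := V.2.preimage_of_isOpenImmersion f hV
  have h1 := h ⟨f ⁻¹ᵁ V.1, hU⟩
  rw [Scheme.IdealSheafData.ideal_comap_of_isOpenImmersion] at h1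
  have hV' : (⟨f ''ᵁ (f ⁻¹ᵁ V.1), hU.image_of_isOpenImmersion f⟩ : Y.affineOpens) = V := by
    apply Subtype.ext
    change f ''ᵁ (f ⁻¹ᵁ V.1) = V.1
    rw [f.image_preimage_eq_opensRange_inf, inf_eq_right.mpr hV]
  have hK : (I.ideal ⟨f ''ᵁ (f ⁻¹ᵁ V.1), hU.image_of_isOpenImmersion f⟩).FG := by
    have hsurj : Function.Surjective (f.appIso (f ⁻¹ᵁ V.1)).inv.hom :=
      (ConcreteCategory.bijective_of_isIso (f.appIso (f ⁻¹ᵁ V.1)).inv).2
    rw [← Ideal.map_comap_of_surjective _ hsurj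
      (I.ideal ⟨f ''ᵁ (f ⁻¹ᵁ V.1), hU.image_of_isOpenImmersion f⟩)]
    exact h1.map _
  exact hV' ▸ hK

theorem FTOn.iSup {ι : Type*} {J : Y.IdealSheafData} {U : ι → Y.Opens} (h : ∀ i, FTOn J (U i)) :
    FTOn J (⨆ i, U i) := by
  intro W hW
  have key : ∀ x : W.1, ∃ r : Γ(Y, W.1), x.1 ∈ Y.basicOpen r ∧ ∃ i, Y.basicOpen r ≤ U i := by
    intro ⟨x, hx⟩
    obtain ⟨i, hi⟩ := Opens.mem_iSup.1 (hW hx)
    obtain ⟨r, hr, hxr⟩ := W.2.exists_basicOpen_le (V := U i) ⟨x, hi⟩ hx
    exact ⟨r, hxr, i, hr⟩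
  choose r hxr hr using key
  have hspan : Ideal.span (Set.range r) = ⊤ := by
    rw [← W.2.self_le_iSup_basicOpen_iff]
    exact fun x hxW ↦ Opens.mem_iSup.mpr ⟨⟨_, ⟨x, hxW⟩, rfl⟩, hxr ⟨x, hxW⟩⟩
  have inst := W.2.isLocalization_basicOpen
  refine fg_of_span_isLocalization _ _ hspan (fun g => Γ(Y, Y.basicOpen g.1)) ?_
  rintro ⟨_, x, rfl⟩
  have hle : Y.affineBasicOpen (r x) ≤ W := Y.affineBasicOpen_le (r x)
  have hmap := J.map_ideal hle
  have : (J.ideal (Y.affineBasicOpen (r x))).FG := by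
    obtain ⟨i, hi⟩ := hr x
    exact h i _ hi
  rw [← hmap] at this
  exact this

end general

section grpd

open Groth.Agent.Lib.Helper11.KMGrpd Groth.Agent.Lib.Helper11.KMThick Groth.Agent.Lib.Helper11.KMTop
  Groth.Agent.Lib.Helper2.GrpdOrbit

variable {S : Scheme.{u}} (G : Grpd.GroupoidScheme S) [IsFinite G.s] [IsFinite G.t]
  [LocallyOfFinitePresentation G.s]

theorem ft_Wthick : FT (Wthick G) := by
  rw [ft_iff_ftOn_top]
  have hcov : (⨆ r, (incl (Wr G) r).opensRange) = ⊤ := by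
    rw [eq_top_iff]
    intro w _
    obtain ⟨r, hr⟩ := incl_surj (Wr G) w
    exact Opens.mem_iSup.2 ⟨r, hr⟩
  rw [← hcov]
  refine FTOn.iSup (fun r => ftOn_of_ft_comap _ (incl (Wr G) r) ?_)
  rw [W'_comap_incl]
  exact ft_comap_of_isOpenImmersion _ _ (ft_fittSheaf G.s r)

theorem lfp_Wthick : LocallyOfFinitePresentation (Wthick G).subschemeι :=
  Groth.Agent.Helper18PP.lfp_subschemeι _ (ft_Wthick G)

omit [IsFinite G.t] [LocallyOfFinitePresentation G.s] in
theorem Zs_antitone : Antitone (Zs G) := fun _ _ h =>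
  Scheme.IdealSheafData.support_antitone (Zr_mono G h)

omit [IsFinite G.s] [IsFinite G.t] [LocallyOfFinitePresentation G.s] in
theorem acc_subset_compl (Zs : ℕ → Set G.U) (hanti : Antitone Zs) (r : ℕ) :
    acc G Zs r ⊆ (Zs r)ᶜ := by
  induction r with
  | zero => exact Set.empty_subset _
  | succ r ih =>
    rw [acc_succ]
    refine Set.union_subset (ih.trans ?_) (fun x hx => hx.2)
    exact Set.compl_subset_compl.2 (hanti (Nat.le_succ r))

/-- points all of whose translates are generic lie in `W`. -/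
theorem mem_W_of_generic (u : G.U)
    (hu : ∀ r : G.R, G.s r = u → ∀ x : G.U, x ⤳ G.t r → x = G.t r) : u ∈ W G := by
  classical
  have hex : ∃ n, u ∉ Zs G n := by
    by_contra h
    push Not at h
    have : u ∈ ⋂ r, Zs G r := Set.mem_iInter.2 h
    rw [Zs_iInter] at this
    exact this
  have hn0 : Nat.find hex ≠ 0 := by
    intro h0
    have := Nat.find_spec hex
    rw [h0, Zs_zero] at this
    exact this trivial
  obtain ⟨r₀, hr₀⟩ := Nat.exists_eq_succ_of_ne_zero hn0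
  have h1 : u ∉ Zs G (r₀ + 1) := by
    have := Nat.find_spec hex
    rwa [hr₀] at this
  have h2 : u ∈ Zs G r₀ := by
    by_contra h
    exact Nat.find_min hex (by omega : r₀ < Nat.find hex) h
  refine Opens.mem_iSup.2 ⟨r₀, ?_⟩
  change u ∈ Wset G (Zs G) r₀
  refine ⟨fun hsat => ?_, h1⟩
  obtain ⟨a, ha, hau⟩ := (mem_sat G).1 hsat
  obtain ⟨ρ, hρs, hρt⟩ := rel_symm G hau
  have hgen : ∀ x : G.U, x ⤳ a → x = a := by
    intro x hx
    have := hu ρ hρs x (by rw [hρt]; exact hx)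
    rw [hρt] at this
    exact this
  have haZ : a ∈ Zs G r₀ := ((inv_iff G).1 (Zs_inv G r₀) a u hau).2 h2
  have hcl : a ∈ closure ((Zs G r₀)ᶜ) :=
    closure_mono (acc_subset_compl G (Zs G) (Zs_antitone G) r₀) ha
  exact Groth.Agent.Lib.Helper11.KMGen.notMem_support_of_mem_closure (Zr G r₀)
    (ft_fittSheaf G.s r₀) a hgen hcl haZ

end grpd

end Groth.Agent.Lib.Helper11.KMFP
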