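import Mathlib
import Groth.Agent.Lib.Helper11KMFP
import Groth.Agent.Lib.Helper11KMAffA
import Groth.Agent.Lib.Helper11Generic
import Groth.Agent.Lib.Helper22ThickAffine

set_option autoImplicit false
set_option linter.style.haveILetI false
universe u v
open CategoryTheory AlgebraicGeometry Limits Opposite TopologicalSpace

namespace Groth.Agent.Lib.Helper11.KMAff

open Groth.Agent.Lib.Helper22.FTIdeal Groth.Agent.Lib.Helper11.KMFitt
open Groth.Agent.Lib.Helper11.KMGrpd Groth.Agent.Lib.Helper11.KMThick Groth.Agent.Lib.Helper11.KMTop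
  Groth.Agent.Lib.Helper2.GrpdOrbit Groth.Agent.Lib.Helper11.KMFP
open Groth.Agent.Lib.Helper23.Norm3

section top

/-- a point without proper generizations in a quasi-sober space is the generic point of an
irreducible component -/
theorem closure_mem_irreducibleComponents {X : Type*} [TopologicalSpace X] [QuasiSober X] (y : X)
    (h : ∀ x : X, x ⤳ y → x = y) : closure ({y} : Set X) ∈ irreducibleComponents X := by
  refine ⟨isIrreducible_singleton.closure, fun Z hZ hle => ?_⟩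
  obtain ⟨η, hη⟩ := QuasiSober.sober hZ.closure isClosed_closure
  have hy : y ∈ closure Z := subset_closure (hle (subset_closure rfl))
  have h1 : η ⤳ y := hη.specializes hy
  have h2 : η = y := h η h1
  rw [← h2]
  intro z hz
  have : z ∈ closure Z := subset_closure hz
  rw [← hη.def] at this
  exact this

end top

section grpd

variable {S : Scheme.{u}} (G : Grpd.GroupoidScheme S) [IsFinite G.s] [IsFinite G.t]

/-- points all of whose translates are generic lie in `W` (finite type Fitting ideals). -/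
theorem mem_W_of_generic' (hft : ∀ r, FT (Zr G r)) (u : G.U)
    (hu : ∀ r : G.R, G.s r = u → ∀ x : G.U, x ⤳ G.t r → x = G.t r) : u ∈ W G := by
  classical
  have hex : ∃ n, u ∉ Zs G n := by
    by_contra h
    push Not at h
    have : u ∈ ⋂ r, Zs G r := Set.mem_iInter.2 h
    rw [Zs_iInter] at this
    exact this
  have hn0 : Nat.find hex ≠ 0 := by
    intro h0
    have := Nat.find_spec hex
    rw [h0, Zs_zero] at this
    exact this trivial
  obtain ⟨r₀, hr₀⟩ := Nat.exists_eq_succ_of_ne_zero hn0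
  have h1 : u ∉ Zs G (r₀ + 1) := by
    have := Nat.find_spec hex
    rwa [hr₀] at this
  have h2 : u ∈ Zs G r₀ := by
    by_contra h
    exact Nat.find_min hex (by omega : r₀ < Nat.find hex) h
  refine Opens.mem_iSup.2 ⟨r₀, ?_⟩
  change u ∈ Wset G (Zs G) r₀
  refine ⟨fun hsat => ?_, h1⟩
  obtain ⟨a, ha, hau⟩ := (mem_sat G).1 hsat
  obtain ⟨ρ, hρs, hρt⟩ := rel_symm G hau
  have hgen : ∀ x : G.U, x ⤳ a → x = a := by
    intro x hx
    have := hu ρ hρs x (by rw [hρt]; exact hx)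
    rw [hρt] at this
    exact this
  have haZ : a ∈ Zs G r₀ := ((inv_iff G).1 (Zs_inv G r₀) a u hau).2 h2
  have hcl : a ∈ closure ((Zs G r₀)ᶜ) :=
    closure_mono (acc_subset_compl G (Zs G) (Zs_antitone G) r₀) ha
  exact Groth.Agent.Lib.Helper11.KMGen.notMem_support_of_mem_closure (Zr G r₀)
    (hft r₀) a hgen hcl haZ

/-- the immersion `W' → U` -/
noncomputable abbrev jj : (Wthick G).subscheme ⟶ G.U := ι' (Wr G) (Zr G) (Wr_disj G)

theorem subschemeι_surjective : Function.Surjective (Wthick G).subschemeι := by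
  intro w
  have h : (Wthick G).support = ⊤ := (KMGrpd.main G).2.1
  have : w ∈ Set.range (Wthick G).subschemeι := by
    rw [Scheme.IdealSheafData.range_subschemeι, h]
    trivial
  exact this

theorem subschemeι_injective : Function.Injective (Wthick G).subschemeι :=
  (Wthick G).subschemeι.isEmbedding.injective

theorem jj_injective : Function.Injective (jj G) := by
  intro a b hab
  rw [Scheme.Hom.comp_apply, Scheme.Hom.comp_apply] at hab
  exact subschemeι_injective G ((W G).ι.isOpenEmbedding.injective hab)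

theorem range_jj : Set.range (jj G) = (W G : Set G.U) := by
  ext x
  constructor
  · rintro ⟨y, rfl⟩
    rw [Scheme.Hom.comp_apply]
    exact ι_mem _ _
  · intro hx
    obtain ⟨w, rfl⟩ := exists_ι_eq (W G) hx
    obtain ⟨y, rfl⟩ := subschemeι_surjective G w
    exact ⟨y, Scheme.Hom.comp_apply _ _ _⟩

theorem subschemeι_isOpenMap : IsOpenMap (Wthick G).subschemeι :=
  (Groth.Agent.Lib.Helper22.ThickAffine.isHomeomorph_of_surjective _
    (subschemeι_surjective G)).isOpenMap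

/-- the key construction: an invariant affine open inside `W` containing finitely many points with
generic orbits. -/
theorem exists_affine_inv [QuasiSeparatedSpace G.U] (hft : ∀ r, FT (Zr G r)) (m : ℕ)
    (u : Fin m → G.U)
    (hu : ∀ i (r : G.R), G.s r = u i → ∀ x : G.U, x ⤳ G.t r → x = G.t r) :
    ∃ V₀ : G.U.Opens, IsAffineOpen V₀ ∧ (∀ i, u i ∈ V₀) ∧ G.s ⁻¹ᵁ V₀ = G.t ⁻¹ᵁ V₀ ∧ V₀ ≤ W G := by
  classical
  obtain ⟨hWinv, hsupp, ⟨φ, hφ⟩, -, hfl_s, hfl_t⟩ := KMGrpd.main G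
  set j := jj G with hj
  set σ := pullback.snd G.s j with hσ
  set τ := φ.hom ≫ pullback.snd G.t j with hτ
  obtain ⟨N⟩ := nonempty_weakNorm_of_isFinLocFree σ hfl_s
  haveI : IsFinite σ := hfl_s.1
  haveI : IsFinite (pullback.snd G.t j) := hfl_t.1
  haveI : IsFinite τ := by rw [hτ]; infer_instance
  have hjs : ∀ a, j (σ a) = G.s (pullback.fst G.s j a) := by
    intro a
    rw [← Scheme.Hom.comp_apply, ← Scheme.Hom.comp_apply, pullback.condition]
  have hjt : ∀ a, j (τ a) = G.t (pullback.fst G.s j a) := by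
    intro a
    rw [← Scheme.Hom.comp_apply, ← Scheme.Hom.comp_apply, hτ, Category.assoc,
      ← pullback.condition, ← Category.assoc, hφ]
  have relIff : ∀ y y', (∃ a, σ a = y ∧ τ a = y') ↔ Rel G (j y) (j y') := by
    intro y y'
    constructor
    · rintro ⟨a, rfl, rfl⟩
      exact ⟨pullback.fst G.s j a, (hjs a).symm, (hjt a).symm⟩
    · rintro ⟨ρ, hs, ht⟩
      obtain ⟨a, ha1, ha2⟩ := Scheme.Pullback.exists_preimage_pullback ρ y hs
      refine ⟨a, ha2, jj_injective G ?_⟩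
      rw [hjt, ha1, ht]
  have memW : ∀ x : G.U, x ∈ W G → ∃ y, j y = x := by
    intro x hx
    have : x ∈ Set.range (jj G) := by rw [range_jj]; exact hx
    exact this
  have hjW : ∀ y, j y ∈ W G := by
    intro y
    have : j y ∈ Set.range (jj G) := ⟨y, rfl⟩
    rwa [range_jj] at this
  have hWrel : ∀ a b, Rel G a b → a ∈ W G → b ∈ W G := by
    rintro a b ⟨ρ, rfl, rfl⟩ h
    have : ρ ∈ G.s ⁻¹ᵁ W G := h
    rw [hWinv] at this
    exact this
  -- the orbits
  let T' : Set G.U := ⋃ i, G.t '' (G.s ⁻¹' {u i})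
  have hT' : T'.Finite := Set.finite_iUnion (fun i => (G.s.finite_preimage_singleton (u i)).image _)
  have memT' : ∀ x, x ∈ T' ↔ ∃ i, Rel G (u i) x := by
    intro x
    simp only [T', Set.mem_iUnion, Set.mem_image, Set.mem_preimage, Set.mem_singleton_iff]
    rfl
  let T : Set (Wthick G).subscheme := j ⁻¹' T'
  have hT : T.Finite := hT'.preimage (jj_injective G).injOn
  have hgenT : ∀ y ∈ T, ∀ x, x ⤳ y → x = y := by
    intro y hy x hx
    obtain ⟨i, ρ, hs, ht⟩ := (memT' _).1 hy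
    have h1 : j x ⤳ j y := hx.map j.continuous
    rw [← ht] at h1
    have h2 := hu i ρ hs (j x) h1
    rw [ht] at h2
    exact jj_injective G h2
  haveI : QuasiSeparatedSpace (Wthick G).subscheme := quasiSeparatedSpace_of_quasiSeparated j
  obtain ⟨Uf, hUf, hUfd⟩ := Groth.Agent.Lib.Helper11.exists_disjoint_affine_nhds T hT
    (fun y hy => closure_mem_irreducibleComponents y (hgenT y hy)) ⊥ isCompact_empty
    (fun _ _ h => h)
  let O₁ : (Wthick G).subscheme.Opens := ⨆ y ∈ T, Uf y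
  have hO₁ : IsAffineOpen O₁ := IsAffineOpen.biSup_of_disjoint hT (fun y hy => (hUf y hy).1)
    (fun y hy z hz hyz => hUfd y hy z hz hyz)
  have hTO : T ⊆ O₁ := by
    intro y hy
    exact Opens.mem_iSup.2 ⟨y, Opens.mem_iSup.2 ⟨hy, (hUf y hy).2.1⟩⟩
  have hsat : ∀ a, σ a ∈ T → τ a ∈ T := by
    intro a ha
    obtain ⟨i, hi⟩ := (memT' _).1 ha
    exact (memT' _).2 ⟨i, rel_trans G hi ((relIff _ _).1 ⟨a, rfl, rfl⟩)⟩
  obtain ⟨VY, hVYaff, hTV, hVYinv⟩ := exists_invariant_affine σ τ N σ.isClosedMap τ.isClosedMap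
    (fun y => (relIff y y).2 (rel_refl G _))
    (fun a => (relIff _ _).2 (rel_symm G ((relIff _ _).1 ⟨a, rfl, rfl⟩)))
    (fun a b hab => (relIff _ _).2 (rel_trans G ((relIff _ _).1 ⟨a, rfl, rfl⟩)
      (hab ▸ (relIff _ _).1 ⟨b, rfl, rfl⟩)))
    O₁ hO₁ T hT hTO hsat
  have hVYrel : ∀ y y', Rel G (j y) (j y') → y ∈ VY → y' ∈ VY := by
    intro y y' h hy
    obtain ⟨a, rfl, rfl⟩ := (relIff _ _).2 h
    have : a ∈ σ ⁻¹ᵁ VY := hy
    rw [hVYinv] at this
    exact this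
  -- the open of `W`
  let Vw : (W G : Scheme.{u}).Opens := ⟨(Wthick G).subschemeι '' (VY : Set (Wthick G).subscheme),
    subschemeι_isOpenMap G _ VY.2⟩
  have hpre : (Wthick G).subschemeι ⁻¹ᵁ Vw = VY :=
    Opens.ext (Set.preimage_image_eq _ (subschemeι_injective G))
  have hVwaff : IsAffineOpen Vw := by
    haveI : IsAffine ((Wthick G).subschemeι ⁻¹ᵁ Vw : Scheme.{u}) := by
      rw [hpre]; exact hVYaff
    have hsurj : Function.Surjective ((Wthick G).subschemeι ∣_ Vw) := by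
      rintro ⟨w, y, hy, rfl⟩
      refine ⟨⟨y, ?_⟩, ?_⟩
      · rw [hpre]; exact hy
      · apply Subtype.ext
        exact morphismRestrict_base_coe _ _ _
    exact Groth.Agent.Lib.Helper22.ThickAffine.isAffine_of_thickening
      ((Wthick G).subschemeι ∣_ Vw) hsurj
  have memV₀ : ∀ x : G.U, x ∈ (W G).ι ''ᵁ Vw ↔ ∃ y ∈ VY, j y = x := by
    intro x
    constructor
    · rintro ⟨w, ⟨y, hy, rfl⟩, rfl⟩
      exact ⟨y, hy, Scheme.Hom.comp_apply _ _ _⟩
    · rintro ⟨y, hy, rfl⟩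
      exact ⟨_, ⟨y, hy, rfl⟩, (Scheme.Hom.comp_apply _ _ _).symm⟩
  refine ⟨(W G).ι ''ᵁ Vw, hVwaff.image_of_isOpenImmersion _, fun i => ?_, ?_, ?_⟩
  · obtain ⟨y, hy⟩ := memW (u i) (mem_W_of_generic' G hft (u i) (hu i))
    refine (memV₀ _).2 ⟨y, hTV ?_, hy⟩
    change j y ∈ T'
    rw [hy]
    exact (memT' _).2 ⟨i, rel_refl G _⟩
  · ext ρ
    change G.s ρ ∈ (W G).ι ''ᵁ Vw ↔ G.t ρ ∈ (W G).ι ''ᵁ Vw
    rw [memV₀, memV₀]
    constructor
    · rintro ⟨y, hy, hys⟩
      have hrel : Rel G (j y) (G.t ρ) := ⟨ρ, hys.symm, rfl⟩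
      obtain ⟨y', hy'⟩ := memW (G.t ρ) (hWrel _ _ hrel (hjW y))
      exact ⟨y', hVYrel y y' (hy' ▸ hrel) hy, hy'⟩
    · rintro ⟨y, hy, hyt⟩
      have hrel : Rel G (j y) (G.s ρ) := rel_symm G ⟨ρ, rfl, hyt.symm⟩
      obtain ⟨y', hy'⟩ := memW (G.s ρ) (hWrel _ _ hrel (hjW y))
      exact ⟨y', hVYrel y y' (hy' ▸ hrel) hy, hy'⟩
  · intro x hx
    obtain ⟨y, -, rfl⟩ := (memV₀ x).1 hx
    exact hjW y

/-! ### restriction of the strata to an invariant open -/

/-- the strata inside an open `V₀` -/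
noncomputable def Wr' (V₀ : G.U.Opens) (r : ℕ) : G.U.Opens := Wr G r ⊓ V₀

theorem Wr'_disj (V₀ : G.U.Opens) (i j : ℕ) (h : i ≠ j) :
    Disjoint (Wr' G V₀ i : Set G.U) (Wr' G V₀ j) :=
  (Wr_disj G i j h).mono Set.inter_subset_left Set.inter_subset_left

theorem Wtot_Wr' (V₀ : G.U.Opens) (hle : V₀ ≤ W G) : Wtot (Wr' G V₀) = V₀ := by
  unfold Wtot Wr'
  rw [← iSup_inf_eq]
  exact inf_eq_right.2 hle

/-- the thickening structure on `V₀` -/
noncomputable abbrev Vthick (V₀ : G.U.Opens) : (Wtot (Wr' G V₀) : Scheme.{u}).IdealSheafData :=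
  W' (Wr' G V₀) (Zr G) (Wr'_disj G V₀)

theorem Wr'_inv (V₀ : G.U.Opens) (hinv : G.s ⁻¹ᵁ V₀ = G.t ⁻¹ᵁ V₀) (r : ℕ) :
    G.s ⁻¹ᵁ Wr' G V₀ r = G.t ⁻¹ᵁ Wr' G V₀ r := by
  unfold Wr'
  rw [Scheme.Hom.preimage_inf, Scheme.Hom.preimage_inf, Wr_inv, hinv]

theorem main' (V₀ : G.U.Opens) (hinv : G.s ⁻¹ᵁ V₀ = G.t ⁻¹ᵁ V₀) :
    (Vthick G V₀).support = ⊤ ∧
    (∃ φ : pullback G.s ((Vthick G V₀).subschemeι ≫ (Wtot (Wr' G V₀)).ι) ≅
        pullback G.t ((Vthick G V₀).subschemeι ≫ (Wtot (Wr' G V₀)).ι),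
      φ.hom ≫ pullback.fst G.t ((Vthick G V₀).subschemeι ≫ (Wtot (Wr' G V₀)).ι) =
        pullback.fst G.s ((Vthick G V₀).subschemeι ≫ (Wtot (Wr' G V₀)).ι)) ∧
    Mor2.IsFinLocFree (pullback.snd G.s ((Vthick G V₀).subschemeι ≫ (Wtot (Wr' G V₀)).ι)) ∧
    Mor2.IsFinLocFree (pullback.snd G.t ((Vthick G V₀).subschemeι ≫ (Wtot (Wr' G V₀)).ι)) := by
  have hsub : ∀ r, (Wr' G V₀ r : Set G.U) ⊆ (Zr G r).support :=
    fun r => Set.inter_subset_left.trans (Wr_subset G r)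
  have hds : ∀ r, Disjoint (Wr' G V₀ r : Set G.U) (Zr G (r + 1)).support :=
    fun r => (Wr_disj_succ G r).mono_left Set.inter_subset_left
  refine ⟨W'_support _ _ _ hsub, ?_, ?_, ?_⟩
  · obtain ⟨α, hα⟩ := exists_lift (Wr' G V₀) (Zr G) (Wr'_disj G V₀) G.s G.t
      (Groth.Agent.Lib.Helper11.KMStrat.comap_s_eq_comap_t G) (Wr'_inv G V₀ hinv)
    obtain ⟨β, hβ⟩ := exists_lift (Wr' G V₀) (Zr G) (Wr'_disj G V₀) G.t G.s
      (fun r => (Groth.Agent.Lib.Helper11.KMStrat.comap_s_eq_comap_t G r).symm)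
      (fun r => (Wr'_inv G V₀ hinv r).symm)
    refine ⟨⟨α, β, ?_, ?_⟩, hα⟩
    · rw [← cancel_mono (pullback.fst G.s ((Vthick G V₀).subschemeι ≫ (Wtot (Wr' G V₀)).ι)),
        Category.assoc, hβ, hα, Category.id_comp]
    · rw [← cancel_mono (pullback.fst G.t ((Vthick G V₀).subschemeι ≫ (Wtot (Wr' G V₀)).ι)),
        Category.assoc, hα, hβ, Category.id_comp]
  · exact isFinLocFree_snd (Wr' G V₀) (Zr G) (Wr'_disj G V₀) G.s (fun _ => rfl) (Zr_mono G) hds
  · exact isFinLocFree_snd (Wr' G V₀) (Zr G) (Wr'_disj G V₀) G.t (fittSheaf_t G) (Zr_mono G) hds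

theorem ft_Vthick (hft : ∀ r, FT (Zr G r)) (V₀ : G.U.Opens) : FT (Vthick G V₀) := by
  rw [ft_iff_ftOn_top]
  have hcov : (⨆ r, (incl (Wr' G V₀) r).opensRange) = ⊤ := by
    rw [eq_top_iff]
    intro w _
    obtain ⟨r, hr⟩ := incl_surj (Wr' G V₀) w
    exact Opens.mem_iSup.2 ⟨r, hr⟩
  rw [← hcov]
  refine FTOn.iSup (fun r => ftOn_of_ft_comap _ (incl (Wr' G V₀) r) ?_)
  rw [W'_comap_incl]
  exact ft_comap_of_isOpenImmersion _ _ (hft r)

theorem lfp_Vthick (hft : ∀ r, FT (Zr G r)) (V₀ : G.U.Opens) :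
    LocallyOfFinitePresentation (Vthick G V₀).subschemeι :=
  Groth.Agent.Helper18PP.lfp_subschemeι _ (ft_Vthick G hft V₀)

end grpd

end Groth.Agent.Lib.Helper11.KMAff
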