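import Mathlib
import Groth.Agent.Lib.Helper11KMAffB

set_option autoImplicit false
set_option linter.style.haveILetI false
universe u v
open CategoryTheory AlgebraicGeometry Limits Opposite TopologicalSpace

namespace Groth.Agent.Lib.Helper11.KMAff

open Groth.Agent.Lib.Helper22.FTIdeal Groth.Agent.Lib.Helper11.KMFitt
open Groth.Agent.Lib.Helper11.KMGrpd Groth.Agent.Lib.Helper11.KMThick Groth.Agent.Lib.Helper11.KMTop
  Groth.Agent.Lib.Helper2.GrpdOrbit Groth.Agent.Lib.Helper11.KMFP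
open Groth.Agent.Lib.Helper23.Norm3

section general

/-- if the restriction of `f` over an affine open `D` is a closed immersion, then `f.app D` is
surjective -/
theorem app_surjective_of_isClosedImmersion_restrict {X Z : Scheme.{u}} (f : X ⟶ Z) (D : Z.Opens)
    (hD : IsAffineOpen D) [IsClosedImmersion (f ∣_ D)] : Function.Surjective (f.app D) := by
  haveI : IsAffine (D : Scheme.{u}) := hD
  have h1 : Function.Surjective ((f ∣_ D).appTop) :=
    (IsClosedImmersion.isAffine_surjective_of_isAffine (f ∣_ D)).2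
  rw [morphismRestrict_appTop] at h1
  have h2 : Function.Surjective (f.app (D.ι ''ᵁ ⊤)) := by
    have hinj : Function.Injective
        (X.presheaf.map (eqToHom (image_morphismRestrict_preimage f D ⊤)).op) :=
      (ConcreteCategory.bijective_of_isIso _).1
    refine Function.Surjective.of_comp_left (f := X.presheaf.map
      (eqToHom (image_morphismRestrict_preimage f D ⊤)).op) ?_ hinj
    intro y
    obtain ⟨x, hx⟩ := h1 y
    exact ⟨x, hx⟩
  have key : ∀ D' : Z.Opens, D' = D → Function.Surjective (f.app D') →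
      Function.Surjective (f.app D) := by
    rintro _ rfl h
    exact h
  exact key _ (by simp) h2

variable {Y : Scheme.{u}}

/-- a finite saturated set of points in an affine open lies in an invariant basic open -/
theorem exists_invariant_basicOpen {A : Scheme.{u}} (σ τ : A ⟶ Y) (N : WeakNorm σ)
    (hσ : IsClosedMap σ) (hτ : IsClosedMap τ)
    (hrefl : ∀ y : Y, ∃ a : A, σ a = y ∧ τ a = y)
    (hsymm : ∀ a : A, ∃ b : A, σ b = τ a ∧ τ b = σ a)
    (htrans : ∀ a b : A, τ a = σ b → ∃ c : A, σ c = σ a ∧ τ c = τ b)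
    (O₁ : Y.Opens) (hO₁ : IsAffineOpen O₁) (T : Set Y) (hT : T.Finite) (hTO : T ⊆ O₁)
    (hsat : ∀ a : A, σ a ∈ T → τ a ∈ T) :
    ∃ g₁ : Γ(Y, O₁), T ⊆ Y.basicOpen g₁ ∧ σ ⁻¹ᵁ Y.basicOpen g₁ = τ ⁻¹ᵁ Y.basicOpen g₁ := by
  -- the largest invariant open inside `O₁`
  let Winv : Y.Opens := ⟨(τ '' (σ ⁻¹' (O₁ : Set Y)ᶜ))ᶜ,
    (hτ _ (O₁.isOpen.isClosed_compl.preimage σ.continuous)).isOpen_compl⟩
  have memW : ∀ y : Y, y ∈ Winv ↔ ∀ a : A, τ a = y → σ a ∈ O₁ := by
    intro y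
    change y ∉ (τ '' (σ ⁻¹' (O₁ : Set Y)ᶜ)) ↔ _
    constructor
    · intro h a ha
      by_contra hn
      exact h ⟨a, hn, ha⟩
    · rintro h ⟨a, ha, rfl⟩
      exact ha (h a rfl)
  have hWO : Winv ≤ O₁ := by
    intro y hy
    obtain ⟨a, ha1, ha2⟩ := hrefl y
    have := (memW y).1 hy a ha2
    rwa [ha1] at this
  have hWinv : ∀ a : A, σ a ∈ Winv ↔ τ a ∈ Winv := by
    intro a
    constructor
    · intro h
      rw [memW]
      intro b hb
      obtain ⟨a', h1, h2⟩ := hsymm a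
      obtain ⟨c, hc1, hc2⟩ := htrans b a' (hb.trans h1.symm)
      have := (memW _).1 h c (hc2.trans h2)
      rwa [hc1] at this
    · intro h
      rw [memW]
      intro b hb
      obtain ⟨c, hc1, hc2⟩ := htrans b a hb
      have := (memW _).1 h c hc2
      rwa [hc1] at this
  have hTW : T ⊆ Winv := by
    intro y hy
    rw [SetLike.mem_coe, memW]
    intro b hb
    obtain ⟨b', h1, h2⟩ := hsymm b
    have : τ b' ∈ T := hsat b' (by rw [h1, hb]; exact hy)
    rw [h2] at this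
    exact hTO this
  obtain ⟨f, hTf, hfW⟩ := exists_basicOpen_of_finite hO₁ Winv T hT hTO hTW
  -- the function `f` transported along `τ` and its norm
  let fW : Γ(Y, Winv) := Y.presheaf.map (homOfLE hWO).op f
  have hfW' : Y.basicOpen fW = Y.basicOpen f := by
    rw [Scheme.basicOpen_res]
    exact inf_eq_right.2 hfW
  have hle : σ ⁻¹ᵁ Winv ≤ τ ⁻¹ᵁ Winv := fun a ha => (hWinv a).1 ha
  let h : Γ(A, σ ⁻¹ᵁ Winv) := A.presheaf.map (homOfLE hle).op (τ.app Winv fW)
  have memh : ∀ a : A, a ∈ A.basicOpen h ↔ σ a ∈ Winv ∧ τ a ∈ Y.basicOpen f := by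
    intro a
    rw [Scheme.basicOpen_res, ← Scheme.preimage_basicOpen, hfW']
    rfl
  let g : Γ(Y, Winv) := N.norm Winv h
  have charV : ∀ y : Y, y ∈ Y.basicOpen g ↔ y ∈ Winv ∧ ∀ a : A, σ a = y → τ a ∈ Y.basicOpen f := by
    intro y
    constructor
    · intro hy
      refine ⟨Y.basicOpen_le g hy, fun a ha => ?_⟩
      subst ha
      exact ((memh a).1 (mem_basicOpen_of_mem_basicOpen_norm N Winv h a hy)).2
    · rintro ⟨hy, hall⟩
      refine mem_basicOpen_norm N hσ Winv h y hy (fun a ha => ?_)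
      rw [memh]
      exact ⟨by rw [ha]; exact hy, hall a ha⟩
  have hVf : Y.basicOpen g ≤ Y.basicOpen f := by
    intro y hy
    obtain ⟨a, ha1, ha2⟩ := hrefl y
    have := ((charV y).1 hy).2 a ha1
    rwa [ha2] at this
  have h1 : Y.basicOpen (Y.presheaf.map (homOfLE hfW).op g) = Y.basicOpen g := by
    rw [Scheme.basicOpen_res]
    exact inf_eq_right.2 hVf
  obtain ⟨g₁, hg₁⟩ := hO₁.basicOpen_basicOpen_is_basicOpen f (Y.presheaf.map (homOfLE hfW).op g)
  have hV : Y.basicOpen g₁ = Y.basicOpen g := hg₁.trans h1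
  refine ⟨g₁, ?_, ?_⟩
  · rw [hV]
    intro y hy
    rw [SetLike.mem_coe, charV]
    refine ⟨hTW hy, fun a ha => hTf (hsat a ?_)⟩
    rw [ha]
    exact hy
  · rw [hV]
    ext a
    change σ a ∈ Y.basicOpen g ↔ τ a ∈ Y.basicOpen g
    rw [charV, charV]
    constructor
    · rintro ⟨h1, h2⟩
      refine ⟨(hWinv a).1 h1, fun b hb => ?_⟩
      obtain ⟨c, hc1, hc2⟩ := htrans a b hb.symm
      rw [← hc2]
      exact h2 c hc1
    · rintro ⟨h1, h2⟩
      refine ⟨(hWinv a).2 h1, fun b hb => ?_⟩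
      obtain ⟨a', ha1, ha2⟩ := hsymm a
      obtain ⟨c, hc1, hc2⟩ := htrans a' b (ha2.trans hb.symm)
      rw [← hc2]
      exact h2 c (hc1.trans ha1)

end general

section grpd

variable {S : Scheme.{u}} (G : Grpd.GroupoidScheme S) [IsFinite G.s] [IsFinite G.t]

theorem jj_mem_W (y : (Wthick G).subscheme) : jj G y ∈ W G := by
  have : jj G y ∈ Set.range (jj G) := ⟨y, rfl⟩
  rwa [range_jj] at this

theorem exists_jj_eq {x : G.U} (hx : x ∈ W G) : ∃ y, jj G y = x := by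
  have : x ∈ Set.range (jj G) := by rw [range_jj]; exact hx
  exact this

theorem W_rel {a b : G.U} (h : Rel G a b) (ha : a ∈ W G) : b ∈ W G := by
  obtain ⟨ρ, rfl, rfl⟩ := h
  have : ρ ∈ G.s ⁻¹ᵁ W G := ha
  rw [W_inv] at this
  exact this

/-- an open of `U` inside `W` whose preimage in `W'` is affine and invariant is affine and
invariant -/
theorem affine_inv_of_preimage (VY : (Wthick G).subscheme.Opens) (hVY : IsAffineOpen VY)
    (hrel : ∀ y y', Rel G (jj G y) (jj G y') → y ∈ VY → y' ∈ VY)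
    (V₁ : G.U.Opens) (hpre : jj G ⁻¹ᵁ V₁ = VY) (hle : V₁ ≤ W G) :
    IsAffineOpen V₁ ∧ G.s ⁻¹ᵁ V₁ = G.t ⁻¹ᵁ V₁ := by
  have memV : ∀ y, jj G y ∈ V₁ ↔ y ∈ VY := by
    intro y
    rw [← hpre]
    rfl
  constructor
  · let Vw : (W G : Scheme.{u}).Opens := (W G).ι ⁻¹ᵁ V₁
    have hpre' : (Wthick G).subschemeι ⁻¹ᵁ Vw = VY := by
      rw [← hpre]
      rfl
    have hVwaff : IsAffineOpen Vw := by
      haveI : IsAffine ((Wthick G).subschemeι ⁻¹ᵁ Vw : Scheme.{u}) := by
        rw [hpre']; exact hVY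
      have hsurj : Function.Surjective ((Wthick G).subschemeι ∣_ Vw) := by
        rintro ⟨w, hw⟩
        obtain ⟨y, rfl⟩ := subschemeι_surjective G w
        refine ⟨⟨y, hw⟩, ?_⟩
        apply Subtype.ext
        exact morphismRestrict_base_coe _ _ _
      exact Groth.Agent.Lib.Helper22.ThickAffine.isAffine_of_thickening
        ((Wthick G).subschemeι ∣_ Vw) hsurj
    have himg : (W G).ι ''ᵁ Vw = V₁ := by
      rw [Scheme.Hom.image_preimage_eq_opensRange_inf, Scheme.Opens.opensRange_ι]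
      exact inf_eq_right.2 hle
    rw [← himg]
    exact hVwaff.image_of_isOpenImmersion _
  · ext ρ
    change G.s ρ ∈ V₁ ↔ G.t ρ ∈ V₁
    constructor
    · intro h
      obtain ⟨y, hy⟩ := exists_jj_eq G (hle h)
      have hrel' : Rel G (jj G y) (G.t ρ) := ⟨ρ, hy.symm, rfl⟩
      obtain ⟨y', hy'⟩ := exists_jj_eq G (W_rel G hrel' (jj_mem_W G y))
      rw [← hy', memV]
      exact hrel y y' (hy' ▸ hrel') ((memV y).1 (hy ▸ h))
    · intro h
      obtain ⟨y, hy⟩ := exists_jj_eq G (hle h)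
      have hrel' : Rel G (jj G y) (G.s ρ) := rel_symm G ⟨ρ, rfl, hy.symm⟩
      obtain ⟨y', hy'⟩ := exists_jj_eq G (W_rel G hrel' (jj_mem_W G y))
      rw [← hy', memV]
      exact hrel y y' (hy' ▸ hrel') ((memV y).1 (hy ▸ h))

/-- the norm construction on `W'` -/
theorem exists_invariant_basicOpen_grpd (O₁ : (Wthick G).subscheme.Opens) (hO₁ : IsAffineOpen O₁)
    (T' : Set G.U) (hT' : T'.Finite) (hsat' : ∀ a b, Rel G a b → a ∈ T' → b ∈ T')
    (hTO : jj G ⁻¹' T' ⊆ O₁) :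
    ∃ g₁ : Γ((Wthick G).subscheme, O₁), jj G ⁻¹' T' ⊆ (Wthick G).subscheme.basicOpen g₁ ∧
      ∀ y y', Rel G (jj G y) (jj G y') → y ∈ (Wthick G).subscheme.basicOpen g₁ →
        y' ∈ (Wthick G).subscheme.basicOpen g₁ := by
  classical
  obtain ⟨hWinv, hsupp, ⟨φ, hφ⟩, -, hfl_s, hfl_t⟩ := KMGrpd.main G
  set j := jj G with hj
  set σ := pullback.snd G.s j with hσ
  set τ := φ.hom ≫ pullback.snd G.t j with hτ
  obtain ⟨N⟩ := nonempty_weakNorm_of_isFinLocFree σ hfl_s
  haveI : IsFinite σ := hfl_s.1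
  haveI : IsFinite (pullback.snd G.t j) := hfl_t.1
  haveI : IsFinite τ := by rw [hτ]; infer_instance
  have hjs : ∀ a, j (σ a) = G.s (pullback.fst G.s j a) := by
    intro a
    rw [← Scheme.Hom.comp_apply, ← Scheme.Hom.comp_apply, pullback.condition]
  have hjt : ∀ a, j (τ a) = G.t (pullback.fst G.s j a) := by
    intro a
    rw [← Scheme.Hom.comp_apply, ← Scheme.Hom.comp_apply, hτ, Category.assoc,
      ← pullback.condition, ← Category.assoc, hφ]
  have relIff : ∀ y y', (∃ a, σ a = y ∧ τ a = y') ↔ Rel G (j y) (j y') := by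
    intro y y'
    constructor
    · rintro ⟨a, rfl, rfl⟩
      exact ⟨pullback.fst G.s j a, (hjs a).symm, (hjt a).symm⟩
    · rintro ⟨ρ, hs, ht⟩
      obtain ⟨a, ha1, ha2⟩ := Scheme.Pullback.exists_preimage_pullback ρ y hs
      refine ⟨a, ha2, jj_injective G ?_⟩
      rw [hjt, ha1, ht]
  have hT : (j ⁻¹' T').Finite := hT'.preimage (jj_injective G).injOn
  have hsat : ∀ a, σ a ∈ j ⁻¹' T' → τ a ∈ j ⁻¹' T' := by
    intro a ha
    exact hsat' _ _ ((relIff _ _).1 ⟨a, rfl, rfl⟩) ha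
  obtain ⟨g₁, hTg, hinv⟩ := exists_invariant_basicOpen σ τ N σ.isClosedMap τ.isClosedMap
    (fun y => (relIff y y).2 (rel_refl G _))
    (fun a => (relIff _ _).2 (rel_symm G ((relIff _ _).1 ⟨a, rfl, rfl⟩)))
    (fun a b hab => (relIff _ _).2 (rel_trans G ((relIff _ _).1 ⟨a, rfl, rfl⟩)
      (hab ▸ (relIff _ _).1 ⟨b, rfl, rfl⟩)))
    O₁ hO₁ (j ⁻¹' T') hT hTO hsat
  refine ⟨g₁, hTg, ?_⟩
  intro y y' h hy
  obtain ⟨a, rfl, rfl⟩ := (relIff _ _).2 h
  have : a ∈ σ ⁻¹ᵁ (Wthick G).subscheme.basicOpen g₁ := hy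
  rw [hinv] at this
  exact this

/-- the union of the orbits of finitely many points -/
def orbits {m : ℕ} (u : Fin m → G.U) : Set G.U := ⋃ i, G.t '' (G.s ⁻¹' {u i})

omit [IsFinite G.s] [IsFinite G.t] in
theorem mem_orbits {m : ℕ} (u : Fin m → G.U) (x : G.U) : x ∈ orbits G u ↔ ∃ i, Rel G (u i) x := by
  simp only [orbits, Set.mem_iUnion, Set.mem_image, Set.mem_preimage, Set.mem_singleton_iff]
  rfl

omit [IsFinite G.t] in
theorem finite_orbits {m : ℕ} (u : Fin m → G.U) : (orbits G u).Finite :=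
  Set.finite_iUnion (fun i => (G.s.finite_preimage_singleton (u i)).image _)

omit [IsFinite G.s] [IsFinite G.t] in
theorem orbits_sat {m : ℕ} (u : Fin m → G.U) (a b : G.U) (h : Rel G a b) (ha : a ∈ orbits G u) :
    b ∈ orbits G u := by
  obtain ⟨i, hi⟩ := (mem_orbits G u a).1 ha
  exact (mem_orbits G u b).2 ⟨i, rel_trans G hi h⟩

omit [IsFinite G.s] [IsFinite G.t] in
theorem self_mem_orbits {m : ℕ} (u : Fin m → G.U) (i : Fin m) : u i ∈ orbits G u :=
  (mem_orbits G u _).2 ⟨i, rel_refl G _⟩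

/-- **S1885** -/
theorem main_basicOpen [LocallyOfFinitePresentation G.s] (m : ℕ) (u : Fin m → G.U)
    (hu : ∀ i (r : G.R), G.s r = u i → ∀ x : G.U, x ⤳ G.t r → x = G.t r)
    (A : Type u) [CommRing A] (j : G.U ⟶ Spec (CommRingCat.of A)) [IsImmersion j] (I : Ideal A)
    (hI : ∀ x : G.U, j x ∉ PrimeSpectrum.zeroLocus (I : Set A))
    (hcl : IsClosed (PrimeSpectrum.zeroLocus (I : Set A) ∪ Set.range j)) :
    ∃ h ∈ I, IsAffineOpen (j ⁻¹ᵁ PrimeSpectrum.basicOpen h) ∧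
      (∀ i, u i ∈ j ⁻¹ᵁ PrimeSpectrum.basicOpen h) ∧
      G.s ⁻¹ᵁ (j ⁻¹ᵁ PrimeSpectrum.basicOpen h) = G.t ⁻¹ᵁ (j ⁻¹ᵁ PrimeSpectrum.basicOpen h) := by
  classical
  haveI : QuasiSeparatedSpace G.U := quasiSeparatedSpace_of_quasiSeparated j
  have hft : ∀ r, FT (Zr G r) := fun r => ft_fittSheaf G.s r
  obtain ⟨V₀, hV₀, huV, hinv, hle⟩ := exists_affine_inv G hft m u hu
  have hT'V : orbits G u ⊆ V₀ := by
    intro x hx
    obtain ⟨i, ρ, hs, ht⟩ := (mem_orbits G u x).1 hx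
    have : ρ ∈ G.s ⁻¹ᵁ V₀ := by
      change G.s ρ ∈ V₀
      rw [hs]
      exact huV i
    rw [hinv] at this
    rw [← ht]
    exact this
  rcases (orbits G u).eq_empty_or_nonempty with hemp | ⟨x₀, hx₀⟩
  · have hbot : j ⁻¹ᵁ PrimeSpectrum.basicOpen (0 : A) = ⊥ := by
      rw [PrimeSpectrum.basicOpen_zero]
      rfl
    refine ⟨0, I.zero_mem, ?_, fun i => ?_, ?_⟩
    · rw [hbot]
      exact isAffineOpen_bot _
    · have := self_mem_orbits G u i
      rw [hemp] at this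
      exact this.elim
    · rw [hbot]
      rfl
  -- the closed set `V(I) ∪ j(U ∖ V₀)`
  obtain ⟨O, hO, hOV⟩ := j.isEmbedding.isOpen_iff.1 V₀.2
  set Z : Set (PrimeSpectrum A) := PrimeSpectrum.zeroLocus (I : Set A) ∪ Set.range j with hZ
  let C : Set (PrimeSpectrum A) := (Z ∩ Oᶜ) ∪ PrimeSpectrum.zeroLocus (I : Set A)
  have hC : IsClosed C :=
    (hcl.inter hO.isClosed_compl).union (PrimeSpectrum.isClosed_zeroLocus _)
  have hCj : ∀ x : G.U, j x ∈ C ↔ x ∉ V₀ := by
    intro x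
    have h1 : j x ∈ O ↔ x ∈ V₀ := by
      have := Set.ext_iff.1 hOV x
      exact this
    constructor
    · rintro (⟨-, h2⟩ | h2)
      · exact fun h => h2 (h1.2 h)
      · exact absurd h2 (hI x)
    · intro h
      exact Or.inl ⟨Or.inr ⟨x, rfl⟩, fun h2 => h (h1.1 h2)⟩
  set J' := PrimeSpectrum.vanishingIdeal C with hJ'
  have hJ'C : PrimeSpectrum.zeroLocus (J' : Set A) = C := by
    rw [hJ', PrimeSpectrum.zeroLocus_vanishingIdeal_eq_closure, hC.closure_eq]
  have hKC : PrimeSpectrum.zeroLocus ((I ⊓ J' : Ideal A) : Set A) = C := by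
    rw [PrimeSpectrum.zeroLocus_inf, hJ'C]
    exact Set.union_eq_right.2 Set.subset_union_right
  have hnot : ¬ (((I ⊓ J' : Ideal A) : Set A) ⊆
      ⋃ x ∈ orbits G u, (((j x : PrimeSpectrum A).asIdeal : Ideal A) : Set A)) := by
    rw [Ideal.subset_union_prime_finite (finite_orbits G u)
      (f := fun x : G.U => (j x : PrimeSpectrum A).asIdeal) x₀ x₀
      (fun x _ _ _ => (j x : PrimeSpectrum A).isPrime)]
    rintro ⟨x, hx, hle'⟩
    have h1 : (j x : PrimeSpectrum A) ∈ PrimeSpectrum.zeroLocus ((I ⊓ J' : Ideal A) : Set A) := hle'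
    rw [hKC, hCj] at h1
    exact h1 (hT'V hx)
  rw [Set.not_subset] at hnot
  obtain ⟨h₀, hh₀K, hh₀⟩ := hnot
  have hh₀I : h₀ ∈ I := hh₀K.1
  have hh₀J : h₀ ∈ J' := hh₀K.2
  have hh₀T : ∀ x ∈ orbits G u, h₀ ∉ (j x : PrimeSpectrum A).asIdeal := by
    intro x hx hgx
    exact hh₀ (Set.mem_biUnion hx hgx)
  have hD₀C : ∀ p : PrimeSpectrum A, p ∈ PrimeSpectrum.basicOpen h₀ → p ∉ C := by
    intro p hp hpC
    exact hp ((PrimeSpectrum.mem_vanishingIdeal _ _).1 hh₀J p hpC)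
  -- the affine open `D(h₀)` of `Spec A`
  let h₀' : Γ(Spec (CommRingCat.of A), ⊤) := (Scheme.ΓSpecIso (CommRingCat.of A)).inv h₀
  have hDeq : (Spec (CommRingCat.of A)).basicOpen h₀' = PrimeSpectrum.basicOpen h₀ :=
    basicOpen_eq_of_affine (R := CommRingCat.of A) h₀
  have hD : IsAffineOpen ((Spec (CommRingCat.of A)).basicOpen h₀') :=
    (isAffineOpen_top (Spec (CommRingCat.of A))).basicOpen h₀'
  have hDmem : ∀ p : Spec (CommRingCat.of A), p ∈ (Spec (CommRingCat.of A)).basicOpen h₀' ↔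
      (p : PrimeSpectrum A) ∈ PrimeSpectrum.basicOpen h₀ := by
    intro p
    rw [hDeq]
    exact Iff.rfl
  set J := jj G ≫ j with hJ
  have hrange : ∀ p : Spec (CommRingCat.of A), p ∈ (Spec (CommRingCat.of A)).basicOpen h₀' →
      ((p : PrimeSpectrum A) ∈ Z ↔ p ∈ Set.range J) := by
    intro p hp
    have hpC := hD₀C p ((hDmem p).1 hp)
    constructor
    · rintro (h1 | ⟨x, rfl⟩)
      · exact absurd (Or.inr h1) hpC
      · have hx : x ∈ V₀ := by
          by_contra hx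
          exact hpC ((hCj x).2 hx)
        obtain ⟨y, rfl⟩ := exists_jj_eq G (hle hx)
        exact ⟨y, Scheme.Hom.comp_apply _ _ _⟩
    · rintro ⟨y, rfl⟩
      exact Or.inr ⟨jj G y, (Scheme.Hom.comp_apply _ _ _).symm⟩
  haveI : IsClosedImmersion (J ∣_ (Spec (CommRingCat.of A)).basicOpen h₀') := by
    refine IsClosedImmersion.of_isPreimmersion _ ?_
    have : Set.range (J ∣_ (Spec (CommRingCat.of A)).basicOpen h₀') =
        (Subtype.val ⁻¹' Z :
          Set ((Spec (CommRingCat.of A)).basicOpen h₀' : Set (Spec (CommRingCat.of A)))) := by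
      ext ⟨p, hp⟩
      constructor
      · rintro ⟨y, hy⟩
        have h1 := morphismRestrict_base_coe J ((Spec (CommRingCat.of A)).basicOpen h₀') y
        rw [hy] at h1
        exact (hrange p hp).2 ⟨y.1, h1.symm⟩
      · intro hpZ
        obtain ⟨y, hy⟩ := (hrange p hp).1 hpZ
        refine ⟨⟨y, ?_⟩, ?_⟩
        · change J y ∈ (Spec (CommRingCat.of A)).basicOpen h₀'
          rw [hy]
          exact hp
        · apply Subtype.ext
          rw [morphismRestrict_base_coe]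
          exact hy
    rw [this]
    exact hcl.preimage continuous_subtype_val
  set O₁ := J ⁻¹ᵁ (Spec (CommRingCat.of A)).basicOpen h₀' with hO₁def
  have hO₁ : IsAffineOpen O₁ := by
    haveI : IsAffine ((Spec (CommRingCat.of A)).basicOpen h₀' : Scheme.{u}) := hD
    exact isAffine_of_isAffineHom (J ∣_ (Spec (CommRingCat.of A)).basicOpen h₀')
  have hTO : jj G ⁻¹' orbits G u ⊆ O₁ := by
    intro y hy
    change J y ∈ (Spec (CommRingCat.of A)).basicOpen h₀'
    rw [hDmem, hJ, Scheme.Hom.comp_apply]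
    exact hh₀T _ hy
  obtain ⟨g₁, hTg, hrel⟩ := exists_invariant_basicOpen_grpd G O₁ hO₁ (orbits G u)
    (finite_orbits G u) (orbits_sat G u) hTO
  obtain ⟨c, hc⟩ := app_surjective_of_isClosedImmersion_restrict J _ hD g₁
  obtain ⟨f', hf'⟩ := (isAffineOpen_top (Spec (CommRingCat.of A))).basicOpen_basicOpen_is_basicOpen
    h₀' c
  set a : A := (Scheme.ΓSpecIso (CommRingCat.of A)).hom f' with ha
  have hf'a : (Spec (CommRingCat.of A)).basicOpen f' = PrimeSpectrum.basicOpen a := by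
    have h1 : f' = (Scheme.ΓSpecIso (CommRingCat.of A)).inv a := by
      rw [ha]
      exact (ConcreteCategory.congr_hom (Scheme.ΓSpecIso (CommRingCat.of A)).hom_inv_id f').symm
    rw [h1]
    exact basicOpen_eq_of_affine (R := CommRingCat.of A) a
  have hcD : (Spec (CommRingCat.of A)).basicOpen c ≤ (Spec (CommRingCat.of A)).basicOpen h₀' :=
    (Spec (CommRingCat.of A)).basicOpen_le c
  have hah : PrimeSpectrum.basicOpen (a * h₀) = (Spec (CommRingCat.of A)).basicOpen c := by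
    rw [PrimeSpectrum.basicOpen_mul, ← hf'a, hf', ← hDeq]
    exact inf_eq_left.2 hcD
  have hpre : jj G ⁻¹ᵁ (j ⁻¹ᵁ PrimeSpectrum.basicOpen (a * h₀)) =
      (Wthick G).subscheme.basicOpen g₁ := by
    rw [hah, ← hc, ← Scheme.preimage_basicOpen]
    rfl
  have hleW : j ⁻¹ᵁ PrimeSpectrum.basicOpen (a * h₀) ≤ W G := by
    intro x hx
    have h1 : (j x : PrimeSpectrum A) ∈ PrimeSpectrum.basicOpen (a * h₀) := hx
    rw [PrimeSpectrum.basicOpen_mul] at h1
    have h2 := hD₀C _ h1.2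
    by_contra hx'
    exact h2 ((hCj x).2 (fun hxV => hx' (hle hxV)))
  obtain ⟨haff, hinv'⟩ := affine_inv_of_preimage G _ (hO₁.basicOpen g₁) hrel _ hpre hleW
  refine ⟨a * h₀, I.mul_mem_left a hh₀I, haff, fun i => ?_, hinv'⟩
  obtain ⟨y, hy⟩ := exists_jj_eq G (hle (huV i))
  have h1 : y ∈ (Wthick G).subscheme.basicOpen g₁ := hTg (by
    change jj G y ∈ orbits G u
    rw [hy]
    exact self_mem_orbits G u i)
  rw [← hpre] at h1
  rw [← hy]
  exact h1

end grpd

end Groth.Agent.Lib.Helper11.KMAff
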