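import Mathlib
import Groth.Agent.Lib.Helper11KMAffC

set_option autoImplicit false
set_option linter.style.haveILetI false
set_option linter.unusedSectionVars false
universe u

open CategoryTheory AlgebraicGeometry Limits Opposite TopologicalSpace

namespace Groth.Agent.Lib.Helper11.KMOmega

open Groth.Agent.Lib.Helper22.FTIdeal Groth.Agent.Lib.Helper11.KMFitt
open Groth.Agent.Lib.Helper11.KMGrpd Groth.Agent.Lib.Helper11.KMThick Groth.Agent.Lib.Helper11.KMTop
  Groth.Agent.Lib.Helper2.GrpdOrbit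
open Groth.Agent.Lib.Helper23.Norm3 Groth.Agent.Lib.Helper11.KMAff

section general

variable {Y : Scheme.{u}}

/-- the norm of a function along an equivalence relation -/
theorem exists_norm_cut {A : Scheme.{u}} (σ τ : A ⟶ Y) (N : WeakNorm σ) (hσ : IsClosedMap σ)
    (O : Y.Opens) (hO : σ ⁻¹ᵁ O = τ ⁻¹ᵁ O) (f : Γ(Y, O)) :
    ∃ ν : Γ(Y, O), ∀ y : Y, y ∈ Y.basicOpen ν ↔
      y ∈ O ∧ ∀ a : A, σ a = y → τ a ∈ Y.basicOpen f := by
  let h : Γ(A, σ ⁻¹ᵁ O) := A.presheaf.map (homOfLE hO.le).op (τ.app O f)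
  have memh : ∀ a : A, a ∈ A.basicOpen h ↔ σ a ∈ O ∧ τ a ∈ Y.basicOpen f := by
    intro a
    rw [Scheme.basicOpen_res, ← Scheme.preimage_basicOpen]
    rfl
  refine ⟨N.norm O h, fun y => ?_⟩
  constructor
  · intro hy
    refine ⟨Y.basicOpen_le _ hy, fun a ha => ?_⟩
    subst ha
    exact ((memh a).1 (mem_basicOpen_of_mem_basicOpen_norm N O h a hy)).2
  · rintro ⟨hy, hall⟩
    refine mem_basicOpen_norm N hσ O h y hy (fun a ha => ?_)
    rw [memh]
    exact ⟨by rw [ha]; exact hy, hall a ha⟩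

/-- an open of an affine open `D` which is affine locally on `D` is affine -/
theorem isAffineOpen_of_cover {X : Scheme.{u}} (D Ω : X.Opens) (hD : IsAffineOpen D) (hle : Ω ≤ D)
    (h : ∀ x ∈ D, ∃ V : X.Opens, IsAffineOpen V ∧ x ∈ V ∧ V ≤ D ∧ IsAffineOpen (V ⊓ Ω)) :
    IsAffineOpen Ω := by
  haveI : IsAffine D.toScheme := hD
  haveI : IsAffineHom (X.homOfLE hle) := by
    apply isAffineHom_of_forall_exists_isAffineOpen
    rintro ⟨x, hx⟩
    obtain ⟨V, hV, hxV, hVD, hVΩ⟩ := h x hx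
    refine ⟨D.ι ⁻¹ᵁ V, hxV, ?_, ?_⟩
    · exact hV.preimage_of_isOpenImmersion D.ι (by rw [Scheme.Opens.opensRange_ι]; exact hVD)
    · have h1 : (X.homOfLE hle) ⁻¹ᵁ (D.ι ⁻¹ᵁ V) = Ω.ι ⁻¹ᵁ (V ⊓ Ω) := by
        rw [← Scheme.Hom.comp_preimage, Scheme.homOfLE_ι]
        ext y
        constructor
        · intro hy; exact ⟨hy, y.2⟩
        · intro hy; exact hy.1
      rw [h1]
      exact hVΩ.preimage_of_isOpenImmersion Ω.ι (by
        rw [Scheme.Opens.opensRange_ι]; exact inf_le_right)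
  exact isAffine_of_isAffineHom (X.homOfLE hle)

end general

section grpd

variable {S : Scheme.{u}} (G : Grpd.GroupoidScheme S) [IsFinite G.s] [IsFinite G.t]

/-- affine-ness passes down from the thickening -/
theorem isAffineOpen_of_jj_preimage (V₁ : G.U.Opens) (hle : V₁ ≤ W G)
    (h : IsAffineOpen (jj G ⁻¹ᵁ V₁)) : IsAffineOpen V₁ := by
  let Vw : (W G : Scheme.{u}).Opens := (W G).ι ⁻¹ᵁ V₁
  have hpre' : (Wthick G).subschemeι ⁻¹ᵁ Vw = jj G ⁻¹ᵁ V₁ := rfl
  have hVwaff : IsAffineOpen Vw := by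
    haveI : IsAffine ((Wthick G).subschemeι ⁻¹ᵁ Vw : Scheme.{u}) := by
      rw [hpre']; exact h
    have hsurj : Function.Surjective ((Wthick G).subschemeι ∣_ Vw) := by
      rintro ⟨w, hw⟩
      obtain ⟨y, rfl⟩ := subschemeι_surjective G w
      refine ⟨⟨y, hw⟩, ?_⟩
      apply Subtype.ext
      exact morphismRestrict_base_coe _ _ _
    exact Groth.Agent.Lib.Helper22.ThickAffine.isAffine_of_thickening
      ((Wthick G).subschemeι ∣_ Vw) hsurj
  have himg : (W G).ι ''ᵁ Vw = V₁ := by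
    rw [Scheme.Hom.image_preimage_eq_opensRange_inf, Scheme.Opens.opensRange_ι]
    exact inf_eq_right.2 hle
  rw [← himg]
  exact hVwaff.image_of_isOpenImmersion _

theorem isAffineOpen_jj_preimage (V : G.U.Opens) (hV : IsAffineOpen V) (hle : V ≤ W G) :
    IsAffineOpen (jj G ⁻¹ᵁ V) := by
  have h1 : IsAffineOpen ((W G).ι ⁻¹ᵁ V) :=
    hV.preimage_of_isOpenImmersion (W G).ι (by rw [Scheme.Opens.opensRange_ι]; exact hle)
  exact h1.preimage (Wthick G).subschemeι

/-- the equivalence relation on the thickening together with its norm -/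
theorem exists_norm_data : ∃ (A : Scheme.{u}) (σ τ : A ⟶ (Wthick G).subscheme) (_ : WeakNorm σ),
    IsClosedMap σ ∧ ∀ y y', (∃ a, σ a = y ∧ τ a = y') ↔ Rel G (jj G y) (jj G y') := by
  obtain ⟨hWinv, hsupp, ⟨φ, hφ⟩, -, hfl_s, hfl_t⟩ := KMGrpd.main G
  set j := jj G with hj
  set σ := pullback.snd G.s j with hσ
  set τ := φ.hom ≫ pullback.snd G.t j with hτ
  obtain ⟨N⟩ := nonempty_weakNorm_of_isFinLocFree σ hfl_s
  haveI : IsFinite σ := hfl_s.1
  have hjs : ∀ a, j (σ a) = G.s (pullback.fst G.s j a) := by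
    intro a
    rw [← Scheme.Hom.comp_apply, ← Scheme.Hom.comp_apply, pullback.condition]
  have hjt : ∀ a, j (τ a) = G.t (pullback.fst G.s j a) := by
    intro a
    rw [← Scheme.Hom.comp_apply, ← Scheme.Hom.comp_apply, hτ, Category.assoc,
      ← pullback.condition, ← Category.assoc, hφ]
  refine ⟨_, σ, τ, N, σ.isClosedMap, fun y y' => ?_⟩
  constructor
  · rintro ⟨a, rfl, rfl⟩
    exact ⟨pullback.fst G.s j a, (hjs a).symm, (hjt a).symm⟩
  · rintro ⟨ρ, hs, ht⟩
    obtain ⟨a, ha1, ha2⟩ := Scheme.Pullback.exists_preimage_pullback ρ y hs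
    refine ⟨a, ha2, jj_injective G ?_⟩
    rw [hjt, ha1, ht]

/-- the largest invariant open inside `D` -/
def omega (D : G.U.Opens) : G.U.Opens :=
  ⟨(sat G (D : Set G.U)ᶜ)ᶜ, (isClosed_sat G D.isOpen.isClosed_compl).isOpen_compl⟩

theorem mem_omega (D : G.U.Opens) (x : G.U) : x ∈ omega G D ↔ ∀ b, Rel G x b → b ∈ D := by
  change x ∉ sat G (D : Set G.U)ᶜ ↔ _
  rw [mem_sat]
  constructor
  · intro h b hb
    by_contra hbD
    exact h ⟨b, hbD, rel_symm G hb⟩
  · rintro h ⟨a, ha, hax⟩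
    exact ha (h a (rel_symm G hax))

theorem omega_le (D : G.U.Opens) : omega G D ≤ D := fun x hx =>
  (mem_omega G D x).1 hx x (rel_refl G x)

theorem omega_rel (D : G.U.Opens) {a b : G.U} (h : Rel G a b) (ha : a ∈ omega G D) :
    b ∈ omega G D := by
  rw [mem_omega] at ha ⊢
  intro c hc
  exact ha c (rel_trans G h hc)

theorem omega_inv (D : G.U.Opens) : G.s ⁻¹ᵁ omega G D = G.t ⁻¹ᵁ omega G D := by
  ext r
  change G.s r ∈ omega G D ↔ G.t r ∈ omega G D
  exact ⟨omega_rel G D ⟨r, rfl, rfl⟩, omega_rel G D (rel_symm G ⟨r, rfl, rfl⟩)⟩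

theorem subset_omega (D : G.U.Opens) (T : Set G.U) (hT : T ⊆ D)
    (hinv : ∀ a b, Rel G a b → a ∈ T → b ∈ T) : T ⊆ omega G D := fun x hx =>
  (mem_omega G D x).2 (fun b hb => hT (hinv x b hb hx))

/-- **the key affineness statement.** -/
theorem isAffineOpen_omega (O : G.U.Opens) (hO : G.s ⁻¹ᵁ O = G.t ⁻¹ᵁ O) (f : Γ(G.U, O))
    (hD : IsAffineOpen (G.U.basicOpen f))
    (hinv : ∀ a b, Rel G a b → a ∈ G.U.basicOpen f → a ∉ W G → b ∈ G.U.basicOpen f) :
    IsAffineOpen (omega G (G.U.basicOpen f)) := by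
  set D := G.U.basicOpen f with hDdef
  have hDO : D ≤ O := G.U.basicOpen_le f
  obtain ⟨A, σ, τ, N, hσ, relIff⟩ := exists_norm_data G
  have hOrel : ∀ a b, Rel G a b → (a ∈ O ↔ b ∈ O) := by
    rintro a b ⟨r, rfl, rfl⟩
    have := Opens.ext_iff.1 hO
    exact Set.ext_iff.1 this r
  let OY : (Wthick G).subscheme.Opens := jj G ⁻¹ᵁ O
  have hOY : σ ⁻¹ᵁ OY = τ ⁻¹ᵁ OY := by
    ext a
    exact hOrel _ _ ((relIff _ _).1 ⟨a, rfl, rfl⟩)
  let fY : Γ((Wthick G).subscheme, OY) := (jj G).app O f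
  have hfY : (Wthick G).subscheme.basicOpen fY = jj G ⁻¹ᵁ D := by
    rw [Scheme.preimage_basicOpen]
  obtain ⟨ν, hν⟩ := exists_norm_cut σ τ N hσ OY hOY fY
  have key : jj G ⁻¹ᵁ omega G D = (Wthick G).subscheme.basicOpen ν := by
    ext y
    rw [SetLike.mem_coe, SetLike.mem_coe, hν]
    change jj G y ∈ omega G D ↔ _
    rw [mem_omega]
    constructor
    · intro h
      refine ⟨hDO (h _ (rel_refl G _)), fun a ha => ?_⟩
      rw [hfY]
      change jj G (τ a) ∈ D
      apply h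
      rw [← ha]
      exact (relIff _ _).1 ⟨a, rfl, rfl⟩
    · rintro ⟨-, h⟩ b hb
      obtain ⟨y', rfl⟩ := exists_jj_eq G (W_rel G hb (jj_mem_W G y))
      obtain ⟨a, ha1, ha2⟩ := (relIff _ _).2 hb
      have := h a ha1
      rw [hfY, ha2] at this
      exact this
  apply isAffineOpen_of_cover D (omega G D) hD (omega_le G D)
  intro x hx
  by_cases hxW : x ∈ W G
  · obtain ⟨V, hV, hxV, hVle⟩ := exists_isAffineOpen_mem_and_subset (x := x) (U := D ⊓ W G)
      ⟨hx, hxW⟩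
    have hVD : V ≤ D := fun z hz => (hVle hz).1
    have hVW : V ≤ W G := fun z hz => (hVle hz).2
    refine ⟨V, hV, hxV, hVD, ?_⟩
    apply isAffineOpen_of_jj_preimage G _ (inf_le_left.trans hVW)
    have hVY := isAffineOpen_jj_preimage G V hV hVW
    have hle : jj G ⁻¹ᵁ V ≤ OY := fun y hy => hDO (hVD hy)
    have := hVY.basicOpen ((Wthick G).subscheme.presheaf.map (homOfLE hle).op ν)
    rw [Scheme.basicOpen_res, ← key] at this
    exact this
  · have hxΩ : x ∈ omega G D := by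
      rw [mem_omega]
      intro b hb
      exact hinv x b hb hx hxW
    obtain ⟨V, hV, hxV, hVle⟩ := exists_isAffineOpen_mem_and_subset (x := x) (U := omega G D) hxΩ
    refine ⟨V, hV, hxV, fun z hz => omega_le G D (hVle hz), ?_⟩
    have : V ⊓ omega G D = V := inf_eq_left.2 hVle
    rw [this]
    exact hV

end grpd

end Groth.Agent.Lib.Helper11.KMOmega
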