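import Groth.Prelude.Def_AlgGrp
import Mathlib.AlgebraicGeometry.Morphisms.Flat
import Mathlib.AlgebraicGeometry.Sites.Fpqc

set_option autoImplicit false
universe u

open CategoryTheory MonoidalCategory CartesianMonoidalCategory MonObj AlgebraicGeometry Limits

namespace Groth.Agent.Lib.Helper12

section Cart

variable {C : Type*} [Category C] [CartesianMonoidalCategory C]

/-- `G ◁ q` is the base change of `q` along the second projection. -/
lemma isPullback_whiskerLeft (G : C) {Y X : C} (q : Y ⟶ X) :
    IsPullback (G ◁ q) (snd G Y) (snd G X) q := by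
  refine ⟨⟨by simp⟩, ⟨PullbackCone.IsLimit.mk _ (fun s => lift (s.fst ≫ fst G X) s.snd) ?_ ?_ ?_⟩⟩
  · intro s
    apply CartesianMonoidalCategory.hom_ext
    · simp
    · simpa using s.condition.symm
  · intro s
    simp
  · intro s m h1 h2
    apply CartesianMonoidalCategory.hom_ext
    · rw [lift_fst, ← h1]; simp
    · rw [lift_snd, ← h2]

/-- `q ▷ G` is the base change of `q` along the first projection. -/
lemma isPullback_whiskerRight (G : C) {Y X : C} (q : Y ⟶ X) :
    IsPullback (q ▷ G) (fst Y G) (fst X G) q := by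
  refine ⟨⟨by simp⟩, ⟨PullbackCone.IsLimit.mk _ (fun s => lift s.snd (s.fst ≫ snd X G)) ?_ ?_ ?_⟩⟩
  · intro s
    apply CartesianMonoidalCategory.hom_ext
    · simpa using s.condition.symm
    · simp
  · intro s
    simp
  · intro s m h1 h2
    apply CartesianMonoidalCategory.hom_ext
    · rw [lift_fst, ← h2]
    · rw [lift_snd, ← h1]; simp

end Cart

section OverScheme

variable {S : Scheme.{u}}

lemma flat_whiskerLeft_left (G : Over S) {Y X : Over S} (q : Y ⟶ X) [Flat q.left] :
    Flat (G ◁ q).left :=
  MorphismProperty.of_isPullback (P := @Flat)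
    ((isPullback_whiskerLeft G q).map (Over.forget _)).flip ‹_›

lemma surjective_whiskerLeft_left (G : Over S) {Y X : Over S} (q : Y ⟶ X) [Surjective q.left] :
    Surjective (G ◁ q).left :=
  MorphismProperty.of_isPullback (P := @Surjective)
    ((isPullback_whiskerLeft G q).map (Over.forget _)).flip ‹_›

lemma flat_whiskerRight_left (G : Over S) {Y X : Over S} (q : Y ⟶ X) [Flat q.left] :
    Flat (q ▷ G).left :=
  MorphismProperty.of_isPullback (P := @Flat)
    ((isPullback_whiskerRight G q).map (Over.forget _)).flip ‹_›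

lemma surjective_whiskerRight_left (G : Over S) {Y X : Over S} (q : Y ⟶ X) [Surjective q.left] :
    Surjective (q ▷ G).left :=
  MorphismProperty.of_isPullback (P := @Surjective)
    ((isPullback_whiskerRight G q).map (Over.forget _)).flip ‹_›

lemma epi_of_flat_of_surjective_left {Y X : Over S} (q : Y ⟶ X) [Flat q.left] [Surjective q.left] :
    Epi q := by
  have : Epi ((Over.forget S).map q) := Flat.epi_of_flat_of_surjective q.left
  exact (Over.forget S).epi_of_epi_map this

lemma epi_whiskerLeft (G : Over S) {Y X : Over S} (q : Y ⟶ X) [Flat q.left] [Surjective q.left] :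
    Epi (G ◁ q) := by
  have := flat_whiskerLeft_left G q
  have := surjective_whiskerLeft_left G q
  exact epi_of_flat_of_surjective_left _

lemma epi_whiskerRight (G : Over S) {Y X : Over S} (q : Y ⟶ X) [Flat q.left] [Surjective q.left] :
    Epi (q ▷ G) := by
  have := flat_whiskerRight_left G q
  have := surjective_whiskerRight_left G q
  exact epi_of_flat_of_surjective_left _

/-- Descent of morphisms along an effective epimorphism of `S`-schemes whose kernel pair is given
by a cartesian square in `Over S`. -/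
lemma exists_desc_of_isPullback {R Y X W : Over S} (q : Y ⟶ X) [EffectiveEpi q.left]
    {p₁ p₂ : R ⟶ Y} (hpb : IsPullback p₁ p₂ q q) (g : Y ⟶ W) (hg : p₁ ≫ g = p₂ ≫ g) :
    ∃ f : X ⟶ W, q ≫ f = g := by
  have hpbL := hpb.map (Over.forget S)
  have hepi : Epi q.left := inferInstance
  let fL : X.left ⟶ W.left := EffectiveEpi.desc q.left g.left (by
    intro Z g₁ g₂ h
    obtain ⟨t, e1, e2⟩ : ∃ t, t ≫ p₁.left = g₁ ∧ t ≫ p₂.left = g₂ :=
      ⟨hpbL.lift g₁ g₂ h, hpbL.lift_fst _ _ _, hpbL.lift_snd _ _ _⟩
    rw [← e1, ← e2, Category.assoc, Category.assoc]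
    congr 1
    exact congrArg (fun t => t.left) hg)
  have hfac : q.left ≫ fL = g.left := EffectiveEpi.fac _ _ _
  refine ⟨Over.homMk fL ?_, ?_⟩
  · rw [← cancel_epi q.left, ← Category.assoc, hfac, Over.w, Over.w]
  · ext
    simpa using hfac

end OverScheme

section Orbit

variable {S : Scheme.{u}} {G X : Over S} [GrpObj G] (a : AlgGrp.Action G X)

lemma comp_orbitMap {T : Over S} (g : T ⟶ G) (o : 𝟙_ (Over S) ⟶ X) :
    g ≫ a.orbitMap o = lift g (toUnit T ≫ o) ≫ a.act := by
  rw [AlgGrp.Action.orbitMap, ← Category.assoc, comp_lift, Category.comp_id, ← Category.assoc]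
  congr 3
  exact toUnit_unique _ _

end Orbit

end Groth.Agent.Lib.Helper12
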