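import Mathlib
import Groth.Agent.Lib.Helper11KummerB

/-!
# The Kummer sequence is fpqc exact (helper11)
-/

set_option autoImplicit false
universe u

open CategoryTheory MonoidalCategory CartesianMonoidalCategory MonObj GrpObj AlgebraicGeometry Limits
open Groth.Agent.Lib.Helper27.GaGm Groth.Agent.Lib.Helper11MultGa

namespace Groth.Agent.Lib.Helper11Kummer

variable {S : Scheme.{u}} (n : ℕ)

theorem isLocallyTrivialFor_vK_fpqc (hn : 0 < n) :
    NonAbH1.IsLocallyTrivialFor Scheme.fpqcPrecoverage
      (Over.mk (vK S n).left : Over (Red.Gm S).left) := by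
  have h1 := faithfullyFlat_cK.{u} n hn
  have : Flat (cK.{u} n) := h1.1
  have : Surjective (cK.{u} n) := h1.2
  have : QuasiCompact (cK.{u} n) := inferInstance
  have : Flat (fK S n) := MorphismProperty.pullback_fst _ _ ‹_›
  have : Surjective (fK S n) := MorphismProperty.pullback_fst _ _ ‹_›
  have : QuasiCompact (fK S n) := MorphismProperty.pullback_fst _ _ ‹_›
  refine ⟨Presieve.singleton (fK S n), Scheme.Hom.singleton_mem_fpqcPrecoverage _, ?_⟩
  rintro S' f ⟨⟩
  exact hasSection_fK n hn

theorem kummer_isExactSeq_fpqc (hn : 0 < n) :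
    NonAbH1.IsExactSeq Scheme.fpqcPrecoverage (uK S n) (vK S n) :=
  ⟨Groth.Agent.Lib.Helper27DiagSub.isMonHom_DSmap S _,
    Groth.Agent.Lib.Helper27DiagSub.isMonHom_DSmap S _, uK_comp_vK n, isPullback_kummer n,
    isLocallyTrivialFor_vK_fpqc n hn⟩

end Groth.Agent.Lib.Helper11Kummer
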