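import Groth.Agent.Lib.Helper11Struct

/-!
Longest paths in the dual graph of a numerical type with only `(-2)`-indices.
-/

namespace Groth.Agent.Lib.Helper11

open Finset Models

variable {n : ℕ} {T : Models.NumericalType n}

/-- a cycle configuration -/
def HasCyc (T : Models.NumericalType n) : Prop :=
  ∃ (k : ℕ) (u : Fin k ↪ Fin n), 3 ≤ k ∧ ∀ p q, p ≠ q → Bcyc k p q ≤ kk T (u p) (u q)

theorem cycle_of_chord {t : ℕ} {v : Fin t ↪ Fin n} (hv : IsPath T v) (p q : Fin t)
    (hpq : p.val + 2 ≤ q.val) (ha : T.a (v p) (v q) ≠ 0) : HasCyc T := by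
  have hq := q.isLt
  refine ⟨q.val - p.val + 1, segEmb v p.val (q.val - p.val + 1) (by omega), by omega, ?_⟩
  refine hB_cycle _ (hv.seg _ _ _) ?_
  intro j j' hj hj'
  rw [segEmb_eq v _ _ _ j p (by omega), segEmb_eq v _ _ _ j' q (by omega)]
  exact ha

theorem cycle_of_two {t : ℕ} {v : Fin t ↪ Fin n} (hv : IsPath T v) (x : Fin n)
    (hx : ∀ j, v j ≠ x) (p q : Fin t) (hpq : p.val < q.val) (hp : T.a (v p) x ≠ 0)
    (hq : T.a (v q) x ≠ 0) : HasCyc T := by
  have hql := q.isLt
  have hL : p.val + (q.val - p.val + 1) ≤ t := by omega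
  have hx' : ∀ j, segEmb v p.val (q.val - p.val + 1) hL j ≠ x := fun j => by
    rw [segEmb_apply]; exact hx _
  refine ⟨q.val - p.val + 1 + 1, snocEmb (segEmb v p.val (q.val - p.val + 1) hL) x hx',
    by omega, ?_⟩
  refine hB_cycle _ ((hv.seg _ _ _).snoc x hx' ?_) ?_
  · intro j hj
    rw [segEmb_eq v _ _ _ j q (by omega)]
    exact hq
  · intro j j' hj hj'
    rw [snocEmb_lt _ x hx' j ⟨0, by omega⟩ (by simp only []; omega),
      snocEmb_last _ x hx' j' (by omega), segEmb_eq v _ _ _ _ p (by simp only []; omega)]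
    exact hp

/-- a longest path -/
structure LP (T : Models.NumericalType n) {t : ℕ} (v : Fin t ↪ Fin n) : Prop where
  path : IsPath T v
  two : 2 ≤ t
  max : ∀ (t' : ℕ) (v' : Fin t' ↪ Fin n), IsPath T v' → t' ≤ t

theorem LP.rev {t : ℕ} {v : Fin t ↪ Fin n} (h : LP T v) : LP T (revEmb v) :=
  ⟨h.path.rev, h.two, h.max⟩

/-- a longest path cannot be extended at its end -/
theorem LP.no_ext_last {t : ℕ} {v : Fin t ↪ Fin n} (h : LP T v) (x : Fin n) (hx : ∀ j, v j ≠ x)
    (j : Fin t) (hj : j.val + 1 = t) : T.a (v j) x = 0 := by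
  by_contra hcon
  have := h.max (t + 1) (snocEmb v x hx) (h.path.snoc x hx (by
    intro j' hj'
    rw [show j' = j from Fin.ext (by omega)]
    exact hcon))
  omega

/-- a longest path cannot be extended at its beginning -/
theorem LP.no_ext_first {t : ℕ} {v : Fin t ↪ Fin n} (h : LP T v) (x : Fin n) (hx : ∀ j, v j ≠ x)
    (j : Fin t) (hj : j.val = 0) : T.a (v j) x = 0 := by
  have ht := h.two
  have := h.rev.no_ext_last x (fun j' => by rw [revEmb_apply]; exact hx _) ⟨t - 1, by omega⟩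
    (by simp only []; omega)
  rwa [revEmb_eq v _ j (by simp only []; omega)] at this

end Groth.Agent.Lib.Helper11
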