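import Mathlib
import Groth.Agent.Lib.Helper11LTD

set_option autoImplicit false

namespace Groth.Agent.Lib.Helper11LT

open MvPowerSeries

variable {R : Type*} [CommRing R] {S : Type*} [CommRing S] {σ τ : Type*}

lemma map_av (φ : R →+* S) (c : R) (q : ℕ) (i : σ) :
    map φ (av c q i : MvPowerSeries σ R) = av (φ c) q i := by
  unfold av
  rw [map_add, map_pow, map_X, smul_eq_C_mul, map_mul, map_C, map_X, smul_eq_C_mul]

lemma map_phi [Finite σ] (φ : R →+* S) (c : R) (q : ℕ) (hq : 1 ≤ q) (G : MvPowerSeries σ R) :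
    map φ (Phi c q G) = Phi (φ c) q (map φ G) := by
  unfold Phi
  rw [map_subst (hasSubst_av c q hq)]
  congr 1
  funext i
  exact map_av φ c q i

lemma map_lt [Finite σ] (φ : R →+* S) (c : R) (q : ℕ) (hq : 1 ≤ q) (G : MvPowerSeries σ R)
    (hG : Phi c q G = c • G + G ^ q) :
    Phi (φ c) q (map φ G) = φ c • map φ G + map φ G ^ q := by
  rw [← map_phi φ c q hq, hG, map_add, map_pow, smul_eq_C_mul, map_mul, map_C, smul_eq_C_mul]

end Groth.Agent.Lib.Helper11LT
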