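import Groth.Agent.Lib.Helper4LambdaAdams

/-!
# λ-rings: the splitting principle (helper4)

Simultaneous splitting of finitely many positive elements inside the class given by `HasSplitting`,
the additive span of line elements, compatibility of `ψ^j` with λ-homomorphisms, multiplicativity
and composition of Adams operations.
-/

universe u

namespace Groth.Agent.Lib.Helper4
open PowerSeries LambdaRing Finset

section Ext

variable {K K' K'' : Type u} [CommRing K] [LambdaOps K] [CommRing K'] [LambdaOps K']
  [CommRing K''] [LambdaOps K'']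

theorem isExtension_comp {P : PosStructure K} {P' : PosStructure K'} {P'' : PosStructure K''}
    {f : K →+* K'} {g : K' →+* K''} (hf : IsExtension P P' f) (hg : IsExtension P' P'' g) :
    IsExtension P P'' (g.comp f) where
  isLambdaHom i x := by
    rw [RingHom.comp_apply, hf.isLambdaHom, hg.isLambdaHom]; rfl
  injective := hg.injective.comp hf.injective
  aug_comp x := by rw [RingHom.comp_apply, hg.aug_comp, hf.aug_comp]
  pos_subset e he := hg.pos_subset _ (hf.pos_subset e he)

theorem isExtension_refl (P : PosStructure K) : IsExtension P P (RingHom.id K) where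
  isLambdaHom _ _ := rfl
  injective := Function.injective_id
  aug_comp _ := rfl
  pos_subset _ he := he

theorem isExtension_isLine {P : PosStructure K} {P' : PosStructure K'} {f : K →+* K'}
    (hf : IsExtension P P' f) {u : K} (hu : P.IsLine u) : P'.IsLine (f u) :=
  ⟨hf.pos_subset u hu.1, by rw [hf.aug_comp, hu.2]⟩

/-- The additive subgroup spanned by the line elements. -/
def lineSpan (P : PosStructure K) : AddSubgroup K := AddSubgroup.closure {u | P.IsLine u}

theorem multiset_sum_mem_lineSpan (P : PosStructure K) (s : Multiset K)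
    (hs : ∀ u ∈ s, P.IsLine u) : s.sum ∈ lineSpan P :=
  AddSubgroup.multiset_sum_mem _ _ fun u hu => AddSubgroup.subset_closure (hs u hu)

theorem isExtension_map_lineSpan {P : PosStructure K} {P' : PosStructure K'} {f : K →+* K'}
    (hf : IsExtension P P' f) {x : K} (hx : x ∈ lineSpan P) : f x ∈ lineSpan P' := by
  induction hx using AddSubgroup.closure_induction with
  | mem u hu => exact AddSubgroup.subset_closure (isExtension_isLine hf hu)
  | zero => rw [map_zero]; exact AddSubgroup.zero_mem _
  | add x y _ _ hx hy => rw [map_add]; exact AddSubgroup.add_mem _ hx hy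
  | neg x _ hx => rw [map_neg]; exact AddSubgroup.neg_mem _ hx

theorem isLine_one (P : PosStructure K) : P.IsLine (1 : K) := by
  refine ⟨?_, map_one _⟩
  have := P.natCast_mem 1 one_pos
  rwa [Nat.cast_one] at this

theorem isLine_mul (P : PosStructure K) {u v : K} (hu : P.IsLine u) (hv : P.IsLine v) :
    P.IsLine (u * v) :=
  ⟨P.mul_mem u v hu.1 hv.1, by rw [map_mul, hu.2, hv.2, mul_one]⟩

theorem isLine_pow (P : PosStructure K) {u : K} (hu : P.IsLine u) (n : ℕ) : P.IsLine (u ^ n) := by
  induction n with
  | zero => rw [pow_zero]; exact isLine_one P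
  | succ n ih => rw [pow_succ]; exact isLine_mul P ih hu

theorem one_mem_lineSpan (P : PosStructure K) : (1 : K) ∈ lineSpan P :=
  AddSubgroup.subset_closure (isLine_one P)

theorem mul_mem_lineSpan (P : PosStructure K) {x y : K} (hx : x ∈ lineSpan P)
    (hy : y ∈ lineSpan P) : x * y ∈ lineSpan P := by
  induction hx using AddSubgroup.closure_induction with
  | mem u hu =>
    induction hy using AddSubgroup.closure_induction with
    | mem v hv => exact AddSubgroup.subset_closure (isLine_mul P hu hv)
    | zero => rw [mul_zero]; exact AddSubgroup.zero_mem _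
    | add y z _ _ hy hz => rw [mul_add]; exact AddSubgroup.add_mem _ hy hz
    | neg y _ hy => rw [mul_neg]; exact AddSubgroup.neg_mem _ hy
  | zero => rw [zero_mul]; exact AddSubgroup.zero_mem _
  | add x z _ _ hx hz => rw [add_mul]; exact AddSubgroup.add_mem _ hx hz
  | neg x _ hx => rw [neg_mul]; exact AddSubgroup.neg_mem _ hx

end Ext

section Split

/-- The closure condition on a class of λ-rings with positive structure appearing in
`HasSplitting`. -/
def IsSplittingClass (C : Set PosLambdaRing.{u}) : Prop :=
  ∀ L ∈ C, ∀ e ∈ L.posStr.pos, ∃ L' ∈ C, ∃ f : L.carrier →+* L'.carrier,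
      IsExtension L.posStr L'.posStr f ∧
      ∃ s : Multiset L'.carrier, (∀ u ∈ s, L'.posStr.IsLine u) ∧ s.sum = f e

theorem hasSplitting_of_mem {C : Set PosLambdaRing.{u}} (hC : IsSplittingClass C)
    (L : PosLambdaRing.{u}) (hL : L ∈ C) : HasSplitting L.carrier L.posStr :=
  ⟨C, hL, hC⟩

/-- Simultaneous splitting of a list of positive elements. -/
theorem exists_split_list {C : Set PosLambdaRing.{u}} (hC : IsSplittingClass C) :
    ∀ (l : ℕ) (L : PosLambdaRing.{u}) (_ : L ∈ C) (es : List L.carrier), es.length = l →
      (∀ e ∈ es, e ∈ L.posStr.pos) →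
      ∃ L' ∈ C, ∃ f : L.carrier →+* L'.carrier, IsExtension L.posStr L'.posStr f ∧
        ∀ e ∈ es, f e ∈ lineSpan L'.posStr := by
  intro l
  induction l with
  | zero =>
    intro L hL es hlen _
    refine ⟨L, hL, RingHom.id _, isExtension_refl _, ?_⟩
    intro e he
    rw [List.length_eq_zero_iff] at hlen
    subst hlen
    simp at he
  | succ l ih =>
    intro L hL es hlen hes
    rcases es with _ | ⟨e, es⟩
    · simp at hlen
    obtain ⟨L₁, hL₁, f₁, hf₁, s, hs, hsum⟩ := hC L hL e (hes e (List.mem_cons_self))
    obtain ⟨L₂, hL₂, f₂, hf₂, h₂⟩ := ih L₁ hL₁ (es.map f₁) (by simpa using hlen) (by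
      intro e' he'
      obtain ⟨e'', he'', rfl⟩ := List.mem_map.1 he'
      exact hf₁.pos_subset _ (hes e'' (List.mem_cons_of_mem _ he'')))
    refine ⟨L₂, hL₂, f₂.comp f₁, isExtension_comp hf₁ hf₂, ?_⟩
    intro e' he'
    rcases List.mem_cons.1 he' with rfl | h
    · rw [RingHom.comp_apply, ← hsum]
      exact isExtension_map_lineSpan hf₂ (multiset_sum_mem_lineSpan _ s hs)
    · exact h₂ _ (List.mem_map.2 ⟨e', h, rfl⟩)

variable {K : Type u} [CommRing K] [LambdaOps K]

omit [LambdaOps K] in
theorem mem_lineSpan_of_sub {K' : Type u} [CommRing K'] [LambdaOps K'] {P' : PosStructure K'}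
    (f : K →+* K') {x e e' : K} (hx : x = e - e') (he : f e ∈ lineSpan P')
    (he' : f e' ∈ lineSpan P') : f x ∈ lineSpan P' := by
  rw [hx, map_sub]; exact AddSubgroup.sub_mem _ he he'

/-- **Splitting principle.** Finitely many elements of a λ-ring with the splitting property
become integral combinations of line elements in a suitable extension (which again has the
splitting property). -/
theorem exists_extension_lineSpan {P : PosStructure K} (hK : HasSplitting K P) (xs : List K) :
    ∃ (L : PosLambdaRing.{u}) (f : K →+* L.carrier), IsExtension P L.posStr f ∧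
      HasSplitting L.carrier L.posStr ∧ ∀ x ∈ xs, f x ∈ lineSpan L.posStr := by
  obtain ⟨C, hKC, hC⟩ := hK
  have hC' : IsSplittingClass C := hC
  choose e e' he he' hx using P.exists_sub
  obtain ⟨L', hL', f, hf, h⟩ := exists_split_list hC' _ ⟨K, P⟩ hKC (xs.map e ++ xs.map e') rfl (by
    intro y hy
    rcases List.mem_append.1 hy with h | h
    · obtain ⟨x, _, rfl⟩ := List.mem_map.1 h; exact he x
    · obtain ⟨x, _, rfl⟩ := List.mem_map.1 h; exact he' x)
  refine ⟨L', f, hf, hasSplitting_of_mem hC' L' hL', ?_⟩
  intro x hxs
  exact mem_lineSpan_of_sub f (hx x)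
    (h _ (List.mem_append_left _ (List.mem_map.2 ⟨x, hxs, rfl⟩)))
    (h _ (List.mem_append_right _ (List.mem_map.2 ⟨x, hxs, rfl⟩)))

/-- Splitting of one positive element as an explicit multiset of line elements. -/
theorem exists_extension_multiset {P : PosStructure K} (hK : HasSplitting K P) (e : K)
    (he : e ∈ P.pos) :
    ∃ (L : PosLambdaRing.{u}) (f : K →+* L.carrier), IsExtension P L.posStr f ∧
      HasSplitting L.carrier L.posStr ∧
      ∃ s : Multiset L.carrier, (∀ u ∈ s, L.posStr.IsLine u) ∧ s.sum = f e := by
  obtain ⟨C, hKC, hC⟩ := hK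
  obtain ⟨L', hL', f, hf, s, hs, hsum⟩ := hC ⟨K, P⟩ hKC e he
  exact ⟨L', f, hf, ⟨C, hL', hC⟩, s, hs, hsum⟩

end Split

section AdamsHom

variable {K K' : Type u} [CommRing K] [LambdaOps K] [CommRing K'] [LambdaOps K']

theorem map_lamSeries {f : K →+* K'} (hf : IsLambdaHom f) (x : K) :
    PowerSeries.map f (lamSeries x) = lamSeries (f x) := by
  ext n
  rw [coeff_map, coeff_lamSeries, coeff_lamSeries, hf]

theorem map_lamNeg {f : K →+* K'} (hf : IsLambdaHom f) (x : K) :
    PowerSeries.map f (lamNeg x) = lamNeg (f x) := by
  ext n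
  rw [coeff_map, coeff_lamNeg, coeff_lamNeg, map_mul, map_pow, map_neg, map_one, hf]

omit [LambdaOps K] [LambdaOps K'] in
theorem map_derivative (f : K →+* K') (g : K⟦X⟧) :
    PowerSeries.map f (derivative K g) = derivative K' (PowerSeries.map f g) := by
  ext n
  simp only [coeff_map, coeff_derivative, map_mul, map_add, map_natCast, map_one]

theorem map_adamsSeries {P : PosStructure K} {P' : PosStructure K'} {f : K →+* K'}
    (hf : IsLambdaHom f) (haug : ∀ x, P'.aug (f x) = P.aug x) (x : K) :
    PowerSeries.map f (adamsSeries P x) = adamsSeries P' (f x) := by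
  symm
  apply adamsSeries_eq_of_mul
  rw [← map_lamNeg hf, ← map_mul, adamsSeries_mul_lamNeg, map_sub, map_mul, map_mul,
    map_derivative, haug, map_C, map_X, map_intCast]

theorem map_adams {P : PosStructure K} {P' : PosStructure K'} {f : K →+* K'}
    (hf : IsLambdaHom f) (haug : ∀ x, P'.aug (f x) = P.aug x) (j : ℕ) (x : K) :
    f (adams P j x) = adams P' j (f x) := by
  rw [adams, adams, ← map_adamsSeries hf haug, coeff_map]

theorem isExtension_map_adams {P : PosStructure K} {P' : PosStructure K'} {f : K →+* K'}
    (hf : IsExtension P P' f) (j : ℕ) (x : K) :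
    f (adams P j x) = adams P' j (f x) :=
  Groth.Agent.Lib.Helper4.map_adams hf.isLambdaHom hf.aug_comp j x

end AdamsHom

section AdamsMul

variable {K : Type u} [CommRing K] [LambdaOps K]

theorem adams_mem_lineSpan (P : PosStructure K) (j : ℕ) {x : K} (hx : x ∈ lineSpan P) :
    adams P j x ∈ lineSpan P := by
  induction hx using AddSubgroup.closure_induction with
  | mem u hu =>
    rw [adams_of_isLine P u hu]; exact AddSubgroup.subset_closure (isLine_pow P hu j)
  | zero => rw [adams_zero]; exact AddSubgroup.zero_mem _
  | add x y _ _ hx hy => rw [adams_add]; exact AddSubgroup.add_mem _ hx hy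
  | neg x _ hx => rw [adams_neg]; exact AddSubgroup.neg_mem _ hx

theorem adams_mul_of_mem_lineSpan (P : PosStructure K) (j : ℕ) {x y : K} (hx : x ∈ lineSpan P)
    (hy : y ∈ lineSpan P) : adams P j (x * y) = adams P j x * adams P j y := by
  induction hx using AddSubgroup.closure_induction with
  | mem u hu =>
    induction hy using AddSubgroup.closure_induction with
    | mem v hv =>
      rw [adams_of_isLine P _ (isLine_mul P hu hv), adams_of_isLine P u hu,
        adams_of_isLine P v hv, mul_pow]
    | zero => rw [mul_zero, adams_zero, mul_zero]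
    | add y z _ _ hy hz => rw [mul_add, adams_add, adams_add, hy, hz, mul_add]
    | neg y _ hy => rw [mul_neg, adams_neg, adams_neg, hy, mul_neg]
  | zero => rw [zero_mul, adams_zero, zero_mul]
  | add x z _ _ hx hz => rw [add_mul, adams_add, adams_add, hx, hz, add_mul]
  | neg x _ hx => rw [neg_mul, adams_neg, adams_neg, hx, neg_mul]

theorem adams_adams_of_mem_lineSpan (P : PosStructure K) (i j : ℕ) {x : K}
    (hx : x ∈ lineSpan P) : adams P i (adams P j x) = adams P (i * j) x := by
  induction hx using AddSubgroup.closure_induction with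
  | mem u hu =>
    rw [adams_of_isLine P u hu, adams_of_isLine P _ (isLine_pow P hu j), adams_of_isLine P u hu,
      ← pow_mul, mul_comm]
  | zero => simp only [adams_zero]
  | add x y _ _ hx hy => simp only [adams_add, hx, hy]
  | neg x _ hx => simp only [adams_neg, hx]

theorem adams_mul {P : PosStructure K} (hK : HasSplitting K P) (j : ℕ) (x y : K) :
    adams P j (x * y) = adams P j x * adams P j y := by
  obtain ⟨L, f, hf, -, h⟩ := exists_extension_lineSpan hK [x, y]
  apply hf.injective
  rw [isExtension_map_adams hf, map_mul, map_mul, isExtension_map_adams hf, isExtension_map_adams hf]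
  exact adams_mul_of_mem_lineSpan _ j (h x (by simp)) (h y (by simp))

theorem adams_adams {P : PosStructure K} (hK : HasSplitting K P) (i j : ℕ) (x : K) :
    adams P i (adams P j x) = adams P (i * j) x := by
  obtain ⟨L, f, hf, -, h⟩ := exists_extension_lineSpan hK [x]
  apply hf.injective
  rw [isExtension_map_adams hf, isExtension_map_adams hf, isExtension_map_adams hf]
  exact adams_adams_of_mem_lineSpan _ i j (h x (by simp))

theorem adams_one (P : PosStructure K) (j : ℕ) : adams P j (1 : K) = 1 := by
  rw [adams_of_isLine P 1 (isLine_one P), one_pow]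

/-- `ψ^j` as a ring homomorphism. -/
noncomputable def adamsRingHom {P : PosStructure K} (hK : HasSplitting K P) (j : ℕ) : K →+* K where
  toFun := adams P j
  map_one' := adams_one P j
  map_mul' := adams_mul hK j
  map_zero' := adams_zero P j
  map_add' := adams_add P j

@[simp] theorem adamsRingHom_apply {P : PosStructure K} (hK : HasSplitting K P) (j : ℕ) (x : K) :
    adamsRingHom hK j x = adams P j x := rfl

end AdamsMul

end Groth.Agent.Lib.Helper4

namespace Groth.Agent.Lib.Helper4
open PowerSeries LambdaRing Finset

variable {K : Type u} [CommRing K] [LambdaOps K]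

theorem lamSeries_of_isLine (P : PosStructure K) (u : K) (hu : P.IsLine u) :
    lamSeries u = 1 + C u * X :=
  lamSeries_of_lam_eq_zero u (lam_eq_zero_of_isLine P u hu)

theorem map_aug_lamSeries_multiset_sum (P : PosStructure K) (s : Multiset K)
    (hs : ∀ u ∈ s, P.IsLine u) :
    PowerSeries.map P.aug (lamSeries s.sum) = (1 + X) ^ (Multiset.card s) := by
  induction s using Multiset.induction_on with
  | empty => simp
  | cons a s ih =>
    rw [Multiset.sum_cons, lamSeries_add, map_mul, ih (fun u hu => hs u (Multiset.mem_cons_of_mem hu)),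
      lamSeries_of_isLine P a (hs a (Multiset.mem_cons_self a s)), Multiset.card_cons, pow_succ,
      mul_comm]
    congr 1
    rw [map_add, map_one, map_mul, map_C, map_X, (hs a (Multiset.mem_cons_self a s)).2, map_one,
      one_mul]

theorem aug_multiset_sum_lines (P : PosStructure K) (s : Multiset K)
    (hs : ∀ u ∈ s, P.IsLine u) : P.aug s.sum = Multiset.card s := by
  induction s using Multiset.induction_on with
  | empty => simp
  | cons a s ih =>
    rw [Multiset.sum_cons, map_add, ih (fun u hu => hs u (Multiset.mem_cons_of_mem hu)),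
      (hs a (Multiset.mem_cons_self a s)).2, Multiset.card_cons]
    push_cast; ring

theorem aug_lam_multiset_sum (P : PosStructure K) (s : Multiset K)
    (hs : ∀ u ∈ s, P.IsLine u) (i : ℕ) :
    P.aug (LambdaOps.lam i s.sum) = ((Multiset.card s).choose i : ℤ) := by
  rw [← coeff_lamSeries, ← coeff_map, map_aug_lamSeries_multiset_sum P s hs, coeff_one_add_X_pow]

theorem aug_lam_eq_choose {P : PosStructure K} (hK : HasSplitting K P) (e : K) (he : e ∈ P.pos)
    (i : ℕ) : P.aug (LambdaOps.lam i e) = ((P.aug e).toNat.choose i : ℤ) := by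
  obtain ⟨L, f, hf, -, s, hs, hsum⟩ := exists_extension_multiset hK e he
  have h1 : P.aug e = Multiset.card s := by
    rw [← hf.aug_comp, ← hsum, aug_multiset_sum_lines _ s hs]
  rw [← hf.aug_comp, hf.isLambdaHom, ← hsum, aug_lam_multiset_sum _ s hs, h1, Int.toNat_natCast]

end Groth.Agent.Lib.Helper4
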