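import Groth.Agent.Lib.Helper4LambdaInv
import Groth.Agent.Lib.Helper4LambdaFil
import Groth.Agent.Lib.Helper4LambdaSplit
import Mathlib

/-!
# λ-rings: the determinant of a positive element, and `det (F²) = 1` (helper11)
-/

set_option autoImplicit false
universe u
open PowerSeries LambdaRing Finset
open Groth.Agent.Lib.Helper4

namespace Groth.Agent.Lib.Helper11.LamDet

variable {K : Type u} [CommRing K] [LambdaOps K]

/-- the determinant `λ^{ε e}(e)` of a (positive) element -/
def det (P : PosStructure K) (e : K) : K := LambdaOps.lam (P.aug e).toNat e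

theorem isUnit_det (P : PosStructure K) {e : K} (he : e ∈ P.pos) : IsUnit (det P e) :=
  P.isUnit_lam e he

theorem toNat_aug_add (P : PosStructure K) {e g : K} (he : e ∈ P.pos) (hg : g ∈ P.pos) :
    (P.aug (e + g)).toNat = (P.aug e).toNat + (P.aug g).toNat := by
  have h1 := P.aug_pos e he
  have h2 := P.aug_pos g hg
  rw [map_add]
  omega

theorem det_add (P : PosStructure K) {e g : K} (he : e ∈ P.pos) (hg : g ∈ P.pos) :
    det P (e + g) = det P e * det P g := by
  unfold det
  rw [toNat_aug_add P he hg, LambdaOps.lam_add]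
  rw [Finset.sum_eq_single (P.aug e).toNat]
  · congr 2
    omega
  · intro i hi hne
    rw [Finset.mem_range] at hi
    rcases lt_or_gt_of_ne hne with h | h
    · have : LambdaOps.lam ((P.aug e).toNat + (P.aug g).toNat - i) g = 0 :=
        lam_eq_zero_of_pos P g hg _ (by omega)
      rw [this, mul_zero]
    · rw [lam_eq_zero_of_pos P e he i h, zero_mul]
  · intro h
    exact absurd (Finset.mem_range.mpr (by omega)) h

theorem det_of_isLine (P : PosStructure K) {w : K} (hw : P.IsLine w) : det P w = w := by
  unfold det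
  rw [hw.2]
  exact LambdaOps.lam_one w

/-- `y` "has determinant one": every representation as a difference of positive elements has
equal determinants. -/
def D1 (P : PosStructure K) (y : K) : Prop :=
  ∀ e g : K, e ∈ P.pos → g ∈ P.pos → y = e - g → det P e = det P g

theorem D1_of_repr (P : PosStructure K) {y e₀ g₀ : K} (he₀ : e₀ ∈ P.pos) (hg₀ : g₀ ∈ P.pos)
    (hy : y = e₀ - g₀) (hd : det P e₀ = det P g₀) : D1 P y := by
  intro e g he hg hyeg
  have h1 : e + g₀ = g + e₀ := by
    have : e - g = e₀ - g₀ := by rw [← hy, ← hyeg]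
    linear_combination this
  have h2 := congrArg (det P) h1
  rw [det_add P he hg₀, det_add P hg he₀, hd] at h2
  exact (isUnit_det P hg₀).mul_left_injective (by rw [← hd] at h2 ⊢; exact h2)

theorem D1_zero (P : PosStructure K) : D1 P 0 := by
  intro e g _ _ h
  have : e = g := by linear_combination -h
  rw [this]

theorem D1_neg (P : PosStructure K) {y : K} (hy : D1 P y) : D1 P (-y) := by
  intro e g he hg h
  exact (hy g e hg he (by linear_combination -h)).symm

theorem D1_add (P : PosStructure K) {y z : K} (hy : D1 P y) (hz : D1 P z) : D1 P (y + z) := by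
  intro e g he hg h
  obtain ⟨e₁, g₁, he₁, hg₁, hy₁⟩ := P.exists_sub y
  have hd₁ := hy e₁ g₁ he₁ hg₁ hy₁
  have h2 := hz (e + g₁) (g + e₁) (P.add_mem _ _ he hg₁) (P.add_mem _ _ hg he₁)
    (by rw [hy₁] at h; linear_combination h)
  rw [det_add P he hg₁, det_add P hg he₁, hd₁] at h2
  exact (isUnit_det P hg₁).mul_left_injective (by rw [← hd₁] at h2 ⊢; exact h2)

theorem D1_sub (P : PosStructure K) {y z : K} (hy : D1 P y) (hz : D1 P z) : D1 P (y - z) := by
  rw [sub_eq_add_neg]
  exact D1_add P hy (D1_neg P hz)

theorem D1_closure (P : PosStructure K) (S : Set K) (hS : ∀ y ∈ S, D1 P y) {y : K}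
    (hy : y ∈ AddSubgroup.closure S) : D1 P y := by
  induction hy using AddSubgroup.closure_induction with
  | mem y hy => exact hS y hy
  | zero => exact D1_zero P
  | add a b _ _ ha hb => exact D1_add P ha hb
  | neg a _ ha => exact D1_neg P ha

theorem D1_of_ext {K' : Type u} [CommRing K'] [LambdaOps K'] {P : PosStructure K}
    {P' : PosStructure K'} {f : K →+* K'} (hf : IsExtension P P' f) {y : K}
    (hy : D1 P' (f y)) : D1 P y := by
  intro e g he hg h
  have h1 := hy (f e) (f g) (hf.pos_subset e he) (hf.pos_subset g hg) (by rw [h, map_sub])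
  unfold det at h1 ⊢
  rw [hf.aug_comp, hf.aug_comp, ← hf.isLambdaHom, ← hf.isLambdaHom] at h1
  exact hf.injective h1

/-! ### products of `(line - 1)` -/

/-- the additive span of the `w * Π (v_j - 1)` with at least `i` factors -/
def T (P : PosStructure K) (i : ℕ) : AddSubgroup K :=
  AddSubgroup.closure {y | ∃ (w : K) (l : List K), P.IsLine w ∧ (∀ v ∈ l, P.IsLine v) ∧
    i ≤ l.length ∧ y = w * (l.map fun v => v - 1).prod}

theorem T_anti (P : PosStructure K) {i j : ℕ} (h : i ≤ j) : T P j ≤ T P i := by
  apply AddSubgroup.closure_mono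
  rintro y ⟨w, l, hw, hl, hlen, rfl⟩
  exact ⟨w, l, hw, hl, h.trans hlen, rfl⟩

theorem T_mul (P : PosStructure K) {i j : ℕ} {a b : K} (ha : a ∈ T P i) (hb : b ∈ T P j) :
    a * b ∈ T P (i + j) := by
  induction ha using AddSubgroup.closure_induction with
  | mem a ha =>
    induction hb using AddSubgroup.closure_induction with
    | mem b hb =>
      obtain ⟨w, l, hw, hl, hlen, rfl⟩ := ha
      obtain ⟨w', l', hw', hl', hlen', rfl⟩ := hb
      refine AddSubgroup.subset_closure ⟨w * w', l ++ l', isLine_mul P hw hw', ?_, ?_, ?_⟩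
      · intro v hv
        rcases List.mem_append.mp hv with h | h
        · exact hl v h
        · exact hl' v h
      · rw [List.length_append]; omega
      · rw [List.map_append, List.prod_append]; ring
    | zero => rw [mul_zero]; exact AddSubgroup.zero_mem _
    | add x y _ _ hx hy => rw [mul_add]; exact AddSubgroup.add_mem _ hx hy
    | neg x _ hx => rw [mul_neg]; exact AddSubgroup.neg_mem _ hx
  | zero => rw [zero_mul]; exact AddSubgroup.zero_mem _
  | add x y _ _ hx hy => rw [add_mul]; exact AddSubgroup.add_mem _ hx hy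
  | neg x _ hx => rw [neg_mul]; exact AddSubgroup.neg_mem _ hx

theorem one_mem_T (P : PosStructure K) : (1 : K) ∈ T P 0 :=
  AddSubgroup.subset_closure ⟨1, [], isLine_one P, by simp, by simp, by simp⟩

theorem sub_one_mem_T (P : PosStructure K) {w : K} (hw : P.IsLine w) : w - 1 ∈ T P 1 :=
  AddSubgroup.subset_closure ⟨1, [w], isLine_one P, by simpa using hw, by simp, by simp⟩

/-- series whose `i`-th coefficient lies in `T i` -/
def Good (P : PosStructure K) (f : K⟦X⟧) : Prop := ∀ i, coeff i f ∈ T P i

theorem good_one (P : PosStructure K) : Good P (1 : K⟦X⟧) := by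
  intro i
  rw [coeff_one]
  split_ifs with h
  · subst h; exact one_mem_T P
  · exact AddSubgroup.zero_mem _

theorem good_mul (P : PosStructure K) {f g : K⟦X⟧} (hf : Good P f) (hg : Good P g) :
    Good P (f * g) := by
  intro i
  rw [coeff_mul]
  apply AddSubgroup.sum_mem
  rintro ⟨p, q⟩ hpq
  have hpq' : p + q = i := by simpa using hpq
  rw [← hpq']
  exact T_mul P (hf p) (hg q)

theorem good_inv (P : PosStructure K) {f g : K⟦X⟧} (hf : Good P f) (hf0 : coeff 0 f = 1)
    (h : g * f = 1) : Good P g := by
  intro i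
  induction i using Nat.strong_induction_on with
  | _ i ih =>
    have hc := congrArg (coeff i) h
    rw [coeff_mul, Finset.Nat.sum_antidiagonal_eq_sum_range_succ_mk, Finset.sum_range_succ,
      Nat.sub_self, hf0, mul_one] at hc
    have : coeff i g = coeff i (1 : K⟦X⟧) - ∑ p ∈ range i, coeff p g * coeff (i - p) f := by
      rw [← hc]; ring
    rw [this]
    apply AddSubgroup.sub_mem
    · exact good_one P i
    · apply AddSubgroup.sum_mem
      intro p hp
      rw [Finset.mem_range] at hp
      have := T_mul P (ih p hp) (hf (i - p))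
      rwa [Nat.add_sub_cancel' hp.le] at this

theorem good_gammaSeries (P : PosStructure K) {x : K} (hx : x ∈ lineSpan P) :
    Good P (gammaSeries (x - (P.aug x : K))) := by
  unfold lineSpan at hx
  induction hx using AddSubgroup.closure_induction with
  | mem w hw =>
    have hw' : P.IsLine w := hw
    rw [hw'.2, Int.cast_one,
      gammaSeries_sub_one (lam_one_eq_zero P) w (lam_eq_zero_of_isLine P w hw')]
    intro i
    rcases i with _ | _ | i
    · simp only [map_add, coeff_one, coeff_C_mul]
      simpa using one_mem_T P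
    · simp only [map_add, coeff_one, coeff_C_mul]
      simpa using sub_one_mem_T P hw'
    · simp only [map_add, coeff_one, coeff_C_mul, coeff_X]
      simp
  | zero => simpa using good_one P
  | add a b _ _ ha hb =>
    have : a + b - ((P.aug (a + b) : ℤ) : K) = (a - (P.aug a : K)) + (b - (P.aug b : K)) := by
      rw [map_add]; push_cast; ring
    rw [this, gammaSeries_add]
    exact good_mul P ha hb
  | neg a _ ha =>
    have : -a - ((P.aug (-a) : ℤ) : K) = -(a - (P.aug a : K)) := by
      rw [map_neg]; push_cast; ring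
    rw [this]
    refine good_inv P ha ?_ (gammaSeries_neg_mul _)
    rw [coeff_zero_eq_constantCoeff_apply, constantCoeff_gammaSeries]

theorem gamma_mem_T (P : PosStructure K) {x : K} (hx : x ∈ lineSpan P) (hx0 : P.aug x = 0)
    (i : ℕ) : gamma i x ∈ T P i := by
  have := good_gammaSeries P hx i
  rwa [coeff_gammaSeries, hx0, Int.cast_zero, sub_zero] at this

theorem prod_mem_T (P : PosStructure K) (l : List (ℕ × K)) (hl : ∀ p ∈ l, p.2 ∈ lineSpan P)
    (hl0 : ∀ p ∈ l, P.aug p.2 = 0) :
    (l.map fun p => gamma p.1 p.2).prod ∈ T P (l.map Prod.fst).sum := by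
  induction l with
  | nil => simpa using one_mem_T P
  | cons p l ih =>
    simp only [List.map_cons, List.prod_cons, List.sum_cons]
    exact T_mul P (gamma_mem_T P (hl p (by simp)) (hl0 p (by simp)) p.1)
      (ih (fun q hq => hl q (List.mem_cons_of_mem _ hq))
        (fun q hq => hl0 q (List.mem_cons_of_mem _ hq)))

/-! ### `D1` on `T 2` -/

theorem D1_two (P : PosStructure K) {w v₁ v₂ : K} (hw : P.IsLine w) (h₁ : P.IsLine v₁)
    (h₂ : P.IsLine v₂) : D1 P (w * ((v₁ - 1) * (v₂ - 1))) := by
  have hA : P.IsLine (w * v₁ * v₂) := isLine_mul P (isLine_mul P hw h₁) h₂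
  have hB : P.IsLine (w * v₁) := isLine_mul P hw h₁
  have hC : P.IsLine (w * v₂) := isLine_mul P hw h₂
  refine D1_of_repr P (e₀ := w * v₁ * v₂ + w) (g₀ := w * v₁ + w * v₂)
    (P.add_mem _ _ hA.1 hw.1) (P.add_mem _ _ hB.1 hC.1) (by ring) ?_
  rw [det_add P hA.1 hw.1, det_add P hB.1 hC.1, det_of_isLine P hA, det_of_isLine P hw,
    det_of_isLine P hB, det_of_isLine P hC]
  ring

theorem D1_list (P : PosStructure K) : ∀ (l : List K), 2 ≤ l.length → (∀ v ∈ l, P.IsLine v) →
    ∀ w : K, P.IsLine w → D1 P (w * (l.map fun v => v - 1).prod) := by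
  intro l
  induction l with
  | nil => intro h; simp at h
  | cons v l ih =>
    intro hlen hl w hw
    have hv : P.IsLine v := hl v (by simp)
    have hl' : ∀ v' ∈ l, P.IsLine v' := fun v' hv' => hl v' (List.mem_cons_of_mem _ hv')
    by_cases h2 : 2 ≤ l.length
    · have e : w * ((v :: l).map fun v => v - 1).prod =
          (w * v) * (l.map fun v => v - 1).prod - w * (l.map fun v => v - 1).prod := by
        rw [List.map_cons, List.prod_cons]; ring
      rw [e]
      exact D1_sub P (ih h2 hl' (w * v) (isLine_mul P hw hv)) (ih h2 hl' w hw)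
    · have h1 : l.length = 1 := by
        rw [List.length_cons] at hlen; omega
      obtain ⟨v₂, rfl⟩ := List.length_eq_one_iff.mp h1
      have hv₂ : P.IsLine v₂ := hl' v₂ (by simp)
      simpa using D1_two P hw hv hv₂

theorem D1_of_mem_T (P : PosStructure K) {y : K} (hy : y ∈ T P 2) : D1 P y := by
  refine D1_closure P _ ?_ hy
  rintro y ⟨w, l, hw, hl, hlen, rfl⟩
  exact D1_list P l hlen hl w hw

/-- **`det (F²) = 1`**: elements of the second step of the γ-filtration have determinant one. -/
theorem D1_of_mem_gammaFiltration {P : PosStructure K} (hK : HasSplitting K P) {y : K}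
    (hy : y ∈ gammaFiltration P 2) : D1 P y := by
  rw [gammaFiltration_of_ne_zero P (by norm_num : (2 : ℕ) ≠ 0)] at hy
  refine D1_closure P _ ?_ hy
  rintro y ⟨l, hl, hsum, rfl⟩
  obtain ⟨L, f, hf, -, hxs⟩ := exists_extension_lineSpan hK (l.map Prod.snd)
  apply D1_of_ext hf
  have e : f (l.map fun p => gamma p.1 p.2).prod =
      ((l.map fun p => ((p.1, f p.2) : ℕ × L.carrier)).map fun p => gamma p.1 p.2).prod := by
    rw [map_list_prod, List.map_map, List.map_map]
    congr 1
    apply List.map_congr_left
    intro p _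
    exact map_gamma hf.isLambdaHom p.1 p.2
  rw [e]
  apply D1_of_mem_T
  have h1 := prod_mem_T L.posStr (l.map fun p => ((p.1, f p.2) : ℕ × L.carrier))
    (by
      intro q hq
      obtain ⟨p, hp, rfl⟩ := List.mem_map.mp hq
      exact hxs p.2 (List.mem_map.mpr ⟨p, hp, rfl⟩))
    (by
      intro q hq
      obtain ⟨p, hp, rfl⟩ := List.mem_map.mp hq
      change L.posStr.aug (f p.2) = 0
      rw [hf.aug_comp]
      exact hl p hp)
  refine T_anti L.posStr ?_ h1
  rw [List.map_map]
  exact hsum

end Groth.Agent.Lib.Helper11.LamDet
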