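import Groth.Agent.Lib.Helper4LambdaAdamsFil
import Mathlib

/-!
# Elementary symmetric functions of affinely transformed variables (helper11)
-/

set_option autoImplicit false
universe u
open PowerSeries Finset
open Groth.Agent.Lib.Helper4

namespace Groth.Agent.Lib.Helper11.LamExt

theorem coeff_one_add_C_mul_X_pow {A : Type*} [CommRing A] (c : A) (m k : ℕ) :
    coeff k ((1 + C c * X : A⟦X⟧) ^ m) = (m.choose k : A) * c ^ k := by
  have : (1 + C c * X : A⟦X⟧) = rescale c (1 + X) := by
    rw [map_add, map_one, rescale_X]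
  rw [this, ← map_pow, coeff_rescale, coeff_one_add_X_pow]
  ring

/-- `e_N(y_j L + c) = Σ_a C(n-a, N-a) e_a(y) L^a c^(N-a)`. -/
theorem esymm_affine {A : Type*} [CommRing A] (n : ℕ) (y : Fin n → A) (L c : A) (N : ℕ) :
    ∑ s ∈ (univ : Finset (Fin n)).powersetCard N, ∏ j ∈ s, (y j * L + c) =
      ∑ a ∈ range (n + 1), if a ≤ N then ((n - a).choose (N - a) : A) *
        (∑ s ∈ (univ : Finset (Fin n)).powersetCard a, ∏ j ∈ s, y j) * (L ^ a * c ^ (N - a))
        else 0 := by
  classical
  rw [← coeff_prod_one_add_C_mul_X]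
  have h1 : ∀ j : Fin n, (1 + C (y j * L + c) * X : A⟦X⟧) =
      C (y j * L) * X + (1 + C c * X) := by
    intro j; rw [map_add]; ring
  rw [prod_congr rfl (fun j _ => h1 j), Finset.prod_add, map_sum,
    Finset.powerset_card_disjiUnion, Finset.sum_disjiUnion, Finset.card_univ, Fintype.card_fin]
  refine sum_congr rfl fun a _ => ?_
  split_ifs with ha
  · rw [Finset.mul_sum, Finset.sum_mul]
    refine sum_congr rfl fun s hs => ?_
    rw [Finset.mem_powersetCard] at hs
    rw [Finset.prod_const, Finset.card_sdiff_of_subset hs.1, Finset.card_univ, Fintype.card_fin,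
      hs.2, Finset.prod_mul_distrib, Finset.prod_const, hs.2, ← map_prod, mul_assoc,
      coeff_C_mul, coeff_X_pow_mul', if_pos ha, coeff_one_add_C_mul_X_pow, Finset.prod_mul_distrib,
      Finset.prod_const, hs.2]
    ring
  · apply sum_eq_zero
    intro s hs
    rw [Finset.mem_powersetCard] at hs
    rw [Finset.prod_mul_distrib, Finset.prod_const, hs.2, ← map_prod, mul_assoc,
      coeff_C_mul, coeff_X_pow_mul', if_neg ha, mul_zero]

end Groth.Agent.Lib.Helper11.LamExt
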