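import Groth.Agent.Lib.Helper11LamExtA
import Groth.Agent.Lib.Helper11LamDet
import Mathlib

/-!
# The γ-filtration of an elementary extension `K[ℓ]` (helper11): the candidate filtration
`G^k = Σ_{i ≤ r} F^{k-i}K · (ℓ-1)^i` and its multiplicativity.
-/

set_option autoImplicit false
universe u
open PowerSeries LambdaRing Finset
open Groth.Agent.Lib.Helper4

namespace Groth.Agent.Lib.Helper11.LamExt

variable {K B : Type u} [CommRing K] [LambdaOps K] [CommRing B]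
  (P : PosStructure K) (φ : K →+* B) (ℓ : B) (r : ℕ)

/-- generators of the candidate filtration -/
def GcGen (k : ℕ) : Set B :=
  {y | ∃ (i : ℕ) (a : K), i ≤ r ∧ a ∈ gammaFiltration P (k - i) ∧ y = φ a * (ℓ - 1) ^ i}

/-- the candidate filtration `G^k = Σ_{i ≤ r} φ(F^{k-i}K) (ℓ-1)^i` -/
def Gc (k : ℕ) : AddSubgroup B := AddSubgroup.closure (GcGen P φ ℓ r k)

theorem Gc_eq (k : ℕ) :
    Gc P φ ℓ r k = ⨆ i ∈ Finset.range (r + 1), AddSubgroup.map
        ((AddMonoidHom.mulRight ((ℓ - 1) ^ i)).comp φ.toAddMonoidHom)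
        (gammaFiltration P (k - i)) := by
  apply le_antisymm
  · unfold Gc
    rw [AddSubgroup.closure_le]
    rintro y ⟨i, a, hi, ha, rfl⟩
    have h1 : AddSubgroup.map ((AddMonoidHom.mulRight ((ℓ - 1) ^ i)).comp φ.toAddMonoidHom)
        (gammaFiltration P (k - i)) ≤ ⨆ i ∈ Finset.range (r + 1), AddSubgroup.map
        ((AddMonoidHom.mulRight ((ℓ - 1) ^ i)).comp φ.toAddMonoidHom)
        (gammaFiltration P (k - i)) :=
      le_iSup₂_of_le i (Finset.mem_range.mpr (Nat.lt_succ_of_le hi)) le_rfl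
    exact h1 ⟨a, ha, rfl⟩
  · apply iSup₂_le
    intro i hi
    rw [Finset.mem_range] at hi
    rintro y ⟨a, ha, rfl⟩
    exact AddSubgroup.subset_closure ⟨i, a, Nat.le_of_lt_succ hi, ha, rfl⟩

theorem mem_Gc {k i : ℕ} {a : K} (hi : i ≤ r) (ha : a ∈ gammaFiltration P (k - i)) :
    φ a * (ℓ - 1) ^ i ∈ Gc P φ ℓ r k :=
  AddSubgroup.subset_closure ⟨i, a, hi, ha, rfl⟩

theorem Gc_anti {k k' : ℕ} (h : k ≤ k') : Gc P φ ℓ r k' ≤ Gc P φ ℓ r k := by
  apply AddSubgroup.closure_mono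
  rintro y ⟨i, a, hi, ha, rfl⟩
  exact ⟨i, a, hi, gammaFiltration_anti P (by omega) ha, rfl⟩

theorem one_mem_Gc : (1 : B) ∈ Gc P φ ℓ r 0 := by
  have := mem_Gc P φ ℓ r (k := 0) (i := 0) (a := 1) (Nat.zero_le r)
    (by rw [gammaFiltration_zero]; trivial)
  simpa using this

/-- multiplication by `φ(F^m K)` -/
theorem map_mul_mem_Gc {m k : ℕ} {a : K} (ha : a ∈ gammaFiltration P m) {x : B}
    (hx : x ∈ Gc P φ ℓ r k) : φ a * x ∈ Gc P φ ℓ r (m + k) := by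
  induction hx using AddSubgroup.closure_induction with
  | mem x hx =>
    obtain ⟨i, a', hi, ha', rfl⟩ := hx
    rw [← mul_assoc, ← map_mul]
    apply mem_Gc P φ ℓ r hi
    exact gammaFiltration_anti P (by omega) (mul_mem_gammaFiltration P m (k - i) a a' ha ha')
  | zero => rw [mul_zero]; exact AddSubgroup.zero_mem _
  | add x y _ _ hx hy => rw [mul_add]; exact AddSubgroup.add_mem _ hx hy
  | neg x _ hx => rw [mul_neg]; exact AddSubgroup.neg_mem _ hx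

/-- the relation: `(ℓ-1)^(r+1) ∈ G^(r+1)` implies `(ℓ - 1) G^k ⊆ G^(k+1)` -/
theorem sub_one_mul_mem_Gc (hrel : (ℓ - 1) ^ (r + 1) ∈ Gc P φ ℓ r (r + 1)) {k : ℕ} {x : B}
    (hx : x ∈ Gc P φ ℓ r k) : (ℓ - 1) * x ∈ Gc P φ ℓ r (k + 1) := by
  induction hx using AddSubgroup.closure_induction with
  | mem x hx =>
    obtain ⟨i, a, hi, ha, rfl⟩ := hx
    rcases Nat.lt_or_ge i r with h | h
    · have : (ℓ - 1) * (φ a * (ℓ - 1) ^ i) = φ a * (ℓ - 1) ^ (i + 1) := by ring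
      rw [this]
      apply mem_Gc P φ ℓ r (by omega)
      rwa [show k + 1 - (i + 1) = k - i by omega]
    · have hir : i = r := le_antisymm hi h
      subst hir
      have : (ℓ - 1) * (φ a * (ℓ - 1) ^ i) = φ a * (ℓ - 1) ^ (i + 1) := by ring
      rw [this]
      exact Gc_anti P φ ℓ i (by omega) (map_mul_mem_Gc P φ ℓ i ha hrel)
  | zero => rw [mul_zero]; exact AddSubgroup.zero_mem _
  | add x y _ _ hx hy => rw [mul_add]; exact AddSubgroup.add_mem _ hx hy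
  | neg x _ hx => rw [mul_neg]; exact AddSubgroup.neg_mem _ hx

theorem sub_one_pow_mul_mem_Gc (hrel : (ℓ - 1) ^ (r + 1) ∈ Gc P φ ℓ r (r + 1)) (i : ℕ) {k : ℕ}
    {x : B} (hx : x ∈ Gc P φ ℓ r k) : (ℓ - 1) ^ i * x ∈ Gc P φ ℓ r (k + i) := by
  induction i with
  | zero => simpa using hx
  | succ i ih =>
    rw [pow_succ', mul_assoc, ← add_assoc]
    exact sub_one_mul_mem_Gc P φ ℓ r hrel ih

theorem Gc_mul (hrel : (ℓ - 1) ^ (r + 1) ∈ Gc P φ ℓ r (r + 1)) {a b : ℕ} {x y : B}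
    (hx : x ∈ Gc P φ ℓ r a) (hy : y ∈ Gc P φ ℓ r b) : x * y ∈ Gc P φ ℓ r (a + b) := by
  induction hx using AddSubgroup.closure_induction with
  | mem x hx =>
    obtain ⟨i, a', hi, ha', rfl⟩ := hx
    rw [mul_assoc]
    exact Gc_anti P φ ℓ r (by omega)
      (map_mul_mem_Gc P φ ℓ r ha' (sub_one_pow_mul_mem_Gc P φ ℓ r hrel i hy))
  | zero => rw [zero_mul]; exact AddSubgroup.zero_mem _
  | add x z _ _ hx hz => rw [add_mul]; exact AddSubgroup.add_mem _ hx hz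
  | neg x _ hx => rw [neg_mul]; exact AddSubgroup.neg_mem _ hx

theorem Gc_pow (hrel : (ℓ - 1) ^ (r + 1) ∈ Gc P φ ℓ r (r + 1)) {a : ℕ} {x : B}
    (hx : x ∈ Gc P φ ℓ r a) (n : ℕ) : x ^ n ∈ Gc P φ ℓ r (a * n) := by
  induction n with
  | zero => rw [pow_zero, mul_zero]; exact one_mem_Gc P φ ℓ r
  | succ n ih => rw [pow_succ, mul_add, mul_one]; exact Gc_mul P φ ℓ r hrel ih hx

theorem sub_one_mem_Gc (hrel : (ℓ - 1) ^ (r + 1) ∈ Gc P φ ℓ r (r + 1)) :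
    ℓ - 1 ∈ Gc P φ ℓ r 1 := by
  have := sub_one_mul_mem_Gc P φ ℓ r hrel (one_mem_Gc P φ ℓ r)
  simpa using this

theorem root_mem_Gc (hrel : (ℓ - 1) ^ (r + 1) ∈ Gc P φ ℓ r (r + 1)) : ℓ ∈ Gc P φ ℓ r 0 := by
  have h1 := Gc_anti P φ ℓ r (Nat.zero_le 1) (sub_one_mem_Gc P φ ℓ r hrel)
  have := AddSubgroup.add_mem _ h1 (one_mem_Gc P φ ℓ r)
  simpa using this

theorem map_mem_Gc {m : ℕ} {a : K} (ha : a ∈ gammaFiltration P m) : φ a ∈ Gc P φ ℓ r m := by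
  have := mem_Gc P φ ℓ r (k := m) (i := 0) (a := a) (Nat.zero_le r) (by simpa using ha)
  simpa using this

/-- `G^0` is everything, if `B` is generated by `ℓ` over `K`. -/
theorem Gc_zero (hrel : (ℓ - 1) ^ (r + 1) ∈ Gc P φ ℓ r (r + 1))
    (hspan : ∀ b : B, ∃ g : Polynomial K, b = Polynomial.eval₂ φ ℓ g) (b : B) :
    b ∈ Gc P φ ℓ r 0 := by
  obtain ⟨g, rfl⟩ := hspan b
  rw [Polynomial.eval₂_eq_sum_range]
  apply AddSubgroup.sum_mem
  intro i _
  have h1 : φ (g.coeff i) ∈ Gc P φ ℓ r 0 :=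
    map_mem_Gc P φ ℓ r (by rw [gammaFiltration_zero]; trivial)
  have h2 := Gc_pow P φ ℓ r hrel (root_mem_Gc P φ ℓ r hrel) i
  rw [zero_mul] at h2
  have := Gc_mul P φ ℓ r hrel h1 h2
  simpa using this

/-- `ℓ^i - 1 ∈ G^1` -/
theorem root_pow_sub_one_mem_Gc (hrel : (ℓ - 1) ^ (r + 1) ∈ Gc P φ ℓ r (r + 1)) (i : ℕ) :
    ℓ ^ i - 1 ∈ Gc P φ ℓ r 1 := by
  rw [← geom_sum_mul]
  have h2 : ∑ k ∈ range i, ℓ ^ k ∈ Gc P φ ℓ r 0 := by
    apply AddSubgroup.sum_mem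
    intro k _
    have := Gc_pow P φ ℓ r hrel (root_mem_Gc P φ ℓ r hrel) k
    rwa [zero_mul] at this
  have := Gc_mul P φ ℓ r hrel h2 (sub_one_mem_Gc P φ ℓ r hrel)
  simpa using this

/-! ### good power series -/

/-- series whose `n`-th coefficient lies in `G^n` -/
def GoodB (f : B⟦X⟧) : Prop := ∀ n, coeff n f ∈ Gc P φ ℓ r n

theorem goodB_one : GoodB P φ ℓ r (1 : B⟦X⟧) := by
  intro i
  rw [coeff_one]
  split_ifs with h
  · subst h; exact one_mem_Gc P φ ℓ r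
  · exact AddSubgroup.zero_mem _

theorem goodB_mul (hrel : (ℓ - 1) ^ (r + 1) ∈ Gc P φ ℓ r (r + 1)) {f g : B⟦X⟧}
    (hf : GoodB P φ ℓ r f) (hg : GoodB P φ ℓ r g) : GoodB P φ ℓ r (f * g) := by
  intro i
  rw [coeff_mul]
  apply AddSubgroup.sum_mem
  rintro ⟨p, q⟩ hpq
  have hpq' : p + q = i := by simpa using hpq
  rw [← hpq']
  exact Gc_mul P φ ℓ r hrel (hf p) (hg q)

theorem goodB_inv (hrel : (ℓ - 1) ^ (r + 1) ∈ Gc P φ ℓ r (r + 1)) {f g : B⟦X⟧}
    (hf : GoodB P φ ℓ r f) (hf0 : coeff 0 f = 1) (h : g * f = 1) : GoodB P φ ℓ r g := by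
  intro i
  induction i using Nat.strong_induction_on with
  | _ i ih =>
    have hc := congrArg (coeff i) h
    rw [coeff_mul, Finset.Nat.sum_antidiagonal_eq_sum_range_succ_mk, Finset.sum_range_succ,
      Nat.sub_self, hf0, mul_one] at hc
    have : coeff i g = coeff i (1 : B⟦X⟧) - ∑ p ∈ range i, coeff p g * coeff (i - p) f := by
      rw [← hc]; ring
    rw [this]
    apply AddSubgroup.sub_mem
    · exact goodB_one P φ ℓ r i
    · apply AddSubgroup.sum_mem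
      intro p hp
      rw [Finset.mem_range] at hp
      have := Gc_mul P φ ℓ r hrel (ih p hp) (hf (i - p))
      rwa [Nat.add_sub_cancel' hp.le] at this

end Groth.Agent.Lib.Helper11.LamExt
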