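import Groth.Agent.Lib.Helper11LamExtB
import Mathlib

/-!
# The γ-filtration of an elementary extension `K[ℓ]` (helper11): `F^k B = Σ_{i ≤ r} F^{k-i}K (ℓ-1)^i`.
-/

set_option autoImplicit false
universe u
open PowerSeries LambdaRing Finset
open Groth.Agent.Lib.Helper4

namespace Groth.Agent.Lib.Helper11.LamExt

section Poly

variable {K : Type u} [CommRing K] [LambdaOps K]

/-- `p_e(X) = Σ (-1)^i γ^i(e - m) (X - 1)^(m-i)` -/
theorem extPoly_eq_gamma (h1 : ∀ k : ℕ, 2 ≤ k → LambdaOps.lam k (1 : K) = 0)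
    (e : K) (m : ℕ) (he : ∀ i, m < i → LambdaOps.lam i e = 0) :
    ∑ i ∈ range (m + 1), Polynomial.C ((-1 : K) ^ i * LambdaOps.lam i e) * Polynomial.X ^ (m - i) =
      ∑ i ∈ range (m + 1), Polynomial.C ((-1 : K) ^ i * gamma i (e - (m : K))) *
        (Polynomial.X - 1) ^ (m - i) := by
  have h := rev_gammaSeries_sub_natCast h1 e m he
  rw [rev] at h
  have h2 := congrArg (fun p : Polynomial K =>
    Polynomial.C ((-1 : K) ^ m) * p.comp (1 - Polynomial.X)) h
  simp only [Polynomial.sum_comp, Polynomial.mul_comp, Polynomial.C_comp, Polynomial.pow_comp,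
    Polynomial.X_comp, Polynomial.sub_comp, Polynomial.one_comp, coeff_gammaSeries,
    Finset.mul_sum] at h2
  have key : ∀ i ∈ range (m + 1), ∀ (a : K) (q : Polynomial K),
      Polynomial.C ((-1 : K) ^ m) * (Polynomial.C a * (-q) ^ (m - i)) =
        Polynomial.C ((-1 : K) ^ i * a) * q ^ (m - i) := by
    intro i hi a q
    rw [Finset.mem_range] at hi
    have hm : (-1 : K) ^ m = (-1) ^ i * (-1) ^ (m - i) := by
      rw [← pow_add]; congr 1; omega
    rw [hm, neg_pow q]
    simp only [map_mul, map_pow, map_neg, map_one]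
    have h3 : ((-1 : Polynomial K) ^ (m - i)) * (-1) ^ (m - i) = 1 := by
      rw [← mul_pow]; simp
    linear_combination ((-1 : Polynomial K) ^ i * Polynomial.C a * q ^ (m - i)) * h3
  calc ∑ i ∈ range (m + 1), Polynomial.C ((-1 : K) ^ i * LambdaOps.lam i e) * Polynomial.X ^ (m - i)
      = ∑ i ∈ range (m + 1), Polynomial.C ((-1 : K) ^ m) *
          (Polynomial.C (LambdaOps.lam i e) * (1 - Polynomial.X - 1) ^ (m - i)) := by
        refine sum_congr rfl fun i hi => ?_
        rw [← key i hi]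
        congr 3
        ring
    _ = ∑ i ∈ range (m + 1), Polynomial.C ((-1 : K) ^ m) *
          (Polynomial.C (gamma i (e - (m : K))) * (1 - Polynomial.X) ^ (m - i)) := h2.symm
    _ = _ := by
        refine sum_congr rfl fun i hi => ?_
        rw [← key i hi]
        congr 3
        ring

end Poly

section Main

variable {K B : Type u} [CommRing K] [LambdaOps K] [CommRing B] [LambdaOps B]
  (P : PosStructure K) (PB : PosStructure B) (φ : K →+* B) (ℓ : B) (r : ℕ)

omit [LambdaOps B] in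
/-- the relation `(ℓ-1)^(r+1) ∈ G^(r+1)` from `p_e(ℓ) = 0` -/
theorem hrel_of_root (e : K) (he : e ∈ P.pos) (hr : (P.aug e).toNat = r + 1)
    (hroot : ∑ i ∈ range (r + 1 + 1),
      φ ((-1 : K) ^ i * LambdaOps.lam i e) * ℓ ^ (r + 1 - i) = 0) :
    (ℓ - 1) ^ (r + 1) ∈ Gc P φ ℓ r (r + 1) := by
  have h := congrArg (Polynomial.eval₂ φ ℓ) (extPoly_eq_gamma (lam_one_eq_zero P) e (r + 1)
    (fun i hi => lam_eq_zero_of_pos P e he i (by omega)))
  simp only [Polynomial.eval₂_finsetSum, Polynomial.eval₂_mul, Polynomial.eval₂_C,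
    Polynomial.eval₂_pow, Polynomial.eval₂_X, Polynomial.eval₂_sub, Polynomial.eval₂_one] at h
  rw [hroot, Finset.sum_range_succ'] at h
  simp only [pow_zero, one_mul, gamma_zero', map_one, Nat.sub_zero] at h
  have h0 : P.aug (e - ((r + 1 : ℕ) : K)) = 0 := by
    have := P.aug_pos e he
    rw [map_sub, map_natCast]
    omega
  have h2 : (ℓ - 1) ^ (r + 1) = -∑ i ∈ range (r + 1),
      φ ((-1 : K) ^ (i + 1) * gamma (i + 1) (e - ((r + 1 : ℕ) : K))) *
        (ℓ - 1) ^ (r + 1 - (i + 1)) := by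
    linear_combination -h
  rw [h2]
  apply AddSubgroup.neg_mem
  apply AddSubgroup.sum_mem
  intro i hi
  rw [Finset.mem_range] at hi
  apply mem_Gc P φ ℓ r (by omega)
  apply mul_mem_gammaFiltration_left
  exact gammaFiltration_anti P (by omega) (gamma_mem_gammaFiltration P (i + 1) _ h0)

variable {P PB φ}

/-- `γ^N(x L - n)` for a positive `x` of augmentation `n` and a line element `L`. -/
theorem gamma_mul_line (hsplit : HasSplitting B PB) {x : B} (hx : x ∈ PB.pos) {L : B}
    (hL : PB.IsLine L) (N : ℕ) :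
    gamma N (x * L - ((PB.aug x).toNat : B)) =
      ∑ a ∈ range ((PB.aug x).toNat + 1), if a ≤ N then
        (((PB.aug x).toNat - a).choose (N - a) : B) * gamma a (x - ((PB.aug x).toNat : B)) *
          (L ^ a * (L - 1) ^ (N - a)) else 0 := by
  obtain ⟨L', f, hf, -, s, hs, hsum⟩ := exists_extension_multiset hsplit x hx
  obtain ⟨n, u, hu, husum, hn⟩ := exists_fin_of_multiset L'.posStr s hs
  have hm : (PB.aug x).toNat = n := by
    rw [hn, ← hf.aug_comp, ← hsum, aug_multiset_sum_lines _ s hs, Int.toNat_natCast]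
  rw [hm]
  apply hf.injective
  have hfL : L'.posStr.IsLine (f L) := isExtension_isLine hf hL
  have hline : ∀ j, L'.posStr.IsLine (u j * f L) := fun j => isLine_mul _ (hu j) hfL
  have hga : ∀ a, f (gamma a (x - (n : B))) =
      ∑ t ∈ (univ : Finset (Fin n)).powersetCard a, ∏ j ∈ t, (u j - 1) := by
    intro a
    rw [map_gamma hf.isLambdaHom, map_sub, map_natCast, ← hsum, ← husum,
      gamma_sum_sub_card (lam_one_eq_zero L'.posStr) n u
        (fun i => lam_eq_zero_of_isLine L'.posStr (u i) (hu i))]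
  have hlhs : f (gamma N (x * L - (n : B))) =
      ∑ t ∈ (univ : Finset (Fin n)).powersetCard N, ∏ j ∈ t, ((u j - 1) * f L + (f L - 1)) := by
    rw [map_gamma hf.isLambdaHom, map_sub, map_natCast, map_mul, ← hsum, ← husum, Finset.sum_mul,
      gamma_sum_sub_card (lam_one_eq_zero L'.posStr) n (fun j => u j * f L)
        (fun i => lam_eq_zero_of_isLine L'.posStr _ (hline i))]
    refine sum_congr rfl fun t _ => prod_congr rfl fun j _ => ?_
    ring
  rw [hlhs, esymm_affine, map_sum]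
  refine sum_congr rfl fun a _ => ?_
  split_ifs with ha
  · rw [map_mul, map_mul, map_mul, map_pow, map_pow, map_sub, map_one, map_natCast, hga]
  · rw [map_zero]

variable (P PB φ)

/-- the image of `F^m K` lies in `F^m B` -/
theorem map_mem_gammaFiltration (hφ : IsExtension P PB φ) {m : ℕ} {a : K}
    (ha : a ∈ gammaFiltration P m) : φ a ∈ gammaFiltration PB m := by
  by_cases hm : m = 0
  · subst hm; rw [gammaFiltration_zero]; trivial
  rw [gammaFiltration_of_ne_zero P hm] at ha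
  induction ha using AddSubgroup.closure_induction with
  | mem y hy =>
    obtain ⟨l, hl, hsum, rfl⟩ := hy
    apply gammaGen_subset_gammaFiltration
    refine ⟨l.map fun p => (p.1, φ p.2), ?_, ?_, ?_⟩
    · intro q hq
      obtain ⟨p, hp, rfl⟩ := List.mem_map.mp hq
      change PB.aug (φ p.2) = 0
      rw [hφ.aug_comp]; exact hl p hp
    · rw [List.map_map]; exact hsum
    · rw [map_list_prod, List.map_map, List.map_map]
      congr 1
      apply List.map_congr_left
      intro p _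
      exact map_gamma hφ.isLambdaHom p.1 p.2
  | zero => rw [map_zero]; exact AddSubgroup.zero_mem _
  | add x y _ _ hx hy => rw [map_add]; exact AddSubgroup.add_mem _ hx hy
  | neg x _ hx => rw [map_neg]; exact AddSubgroup.neg_mem _ hx

theorem Gc_le_gammaFiltration (hφ : IsExtension P PB φ) (hℓ : PB.IsLine ℓ) (k : ℕ) :
    Gc P φ ℓ r k ≤ gammaFiltration PB k := by
  unfold Gc
  rw [AddSubgroup.closure_le]
  rintro y ⟨i, a, hi, ha, rfl⟩
  have h1 := map_mem_gammaFiltration P PB φ hφ ha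
  have h0 : PB.aug (ℓ - 1) = 0 := by rw [map_sub, map_one, hℓ.2]; simp
  have h2 : ℓ - 1 ∈ gammaFiltration PB 1 := by
    have := gamma_mem_gammaFiltration PB 1 (ℓ - 1) h0
    rwa [gamma_one] at this
  have h3 := pow_mem_gammaFiltration PB h2 i
  rw [one_mul] at h3
  exact gammaFiltration_anti PB (by omega) (mul_mem_gammaFiltration PB _ _ _ _ h1 h3)

section Good

variable (hφ : IsExtension P PB φ) (hℓ : PB.IsLine ℓ) (hsplit : HasSplitting B PB)
  (hrel : (ℓ - 1) ^ (r + 1) ∈ Gc P φ ℓ r (r + 1))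

include hφ hℓ hsplit hrel

theorem goodB_pos {e₁ : K} (he₁ : e₁ ∈ P.pos) (i : ℕ) :
    GoodB P φ ℓ r (gammaSeries (φ e₁ * ℓ ^ i - ((P.aug e₁).toNat : B))) := by
  intro N
  have hx : φ e₁ ∈ PB.pos := hφ.pos_subset e₁ he₁
  have hL : PB.IsLine (ℓ ^ i) := isLine_pow PB hℓ i
  have haug : (PB.aug (φ e₁)).toNat = (P.aug e₁).toNat := by rw [hφ.aug_comp]
  have h := gamma_mul_line hsplit hx hL N
  rw [haug] at h
  rw [coeff_gammaSeries, h]
  apply AddSubgroup.sum_mem
  intro a _
  split_ifs with ha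
  · have h0 : P.aug (e₁ - ((P.aug e₁).toNat : K)) = 0 := by
      have := P.aug_pos e₁ he₁
      rw [map_sub, map_natCast]
      omega
    have hg : gamma a (φ e₁ - ((P.aug e₁).toNat : B)) =
        φ (gamma a (e₁ - ((P.aug e₁).toNat : K))) := by
      rw [map_gamma hφ.isLambdaHom, map_sub, map_natCast]
    rw [hg, mul_assoc, ← nsmul_eq_mul]
    apply AddSubgroup.nsmul_mem
    have h1 : (ℓ ^ i) ^ a ∈ Gc P φ ℓ r 0 := by
      have := Gc_pow P φ ℓ r hrel (root_mem_Gc P φ ℓ r hrel) (i * a)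
      rwa [zero_mul, pow_mul] at this
    have h2 : (ℓ ^ i - 1) ^ (N - a) ∈ Gc P φ ℓ r (N - a) := by
      have := Gc_pow P φ ℓ r hrel (root_pow_sub_one_mem_Gc P φ ℓ r hrel i) (N - a)
      rwa [one_mul] at this
    have h3 := Gc_mul P φ ℓ r hrel h1 h2
    rw [zero_add] at h3
    have h4 := map_mul_mem_Gc P φ ℓ r (gamma_mem_gammaFiltration P a _ h0) h3
    rwa [Nat.add_sub_cancel' ha] at h4
  · exact AddSubgroup.zero_mem _

omit hφ hℓ hsplit in
theorem goodB_sub {u v : B} (hu : GoodB P φ ℓ r (gammaSeries u))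
    (hv : GoodB P φ ℓ r (gammaSeries v)) : GoodB P φ ℓ r (gammaSeries (u - v)) := by
  have h1 : gammaSeries (u - v) = gammaSeries u * gammaSeries (-v) := by
    rw [← gammaSeries_add]; congr 1; ring
  rw [h1]
  refine goodB_mul P φ ℓ r hrel hu (goodB_inv P φ ℓ r hrel hv ?_ (gammaSeries_neg_mul v))
  rw [coeff_zero_eq_constantCoeff_apply, constantCoeff_gammaSeries]

theorem goodB_monomial (a : K) (i : ℕ) :
    GoodB P φ ℓ r (gammaSeries (φ a * ℓ ^ i - ((P.aug a : ℤ) : B))) := by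
  obtain ⟨e₁, e₂, he₁, he₂, hae⟩ := P.exists_sub a
  have h1 := P.aug_pos e₁ he₁
  have h2 := P.aug_pos e₂ he₂
  have : φ a * ℓ ^ i - ((P.aug a : ℤ) : B) =
      (φ e₁ * ℓ ^ i - ((P.aug e₁).toNat : B)) - (φ e₂ * ℓ ^ i - ((P.aug e₂).toNat : B)) := by
    rw [hae, map_sub, map_sub]
    have e1 : ((P.aug e₁ : ℤ) : B) = ((P.aug e₁).toNat : B) := by
      conv_lhs => rw [← Int.toNat_of_nonneg h1.le]
      rw [Int.cast_natCast]
    have e2 : ((P.aug e₂ : ℤ) : B) = ((P.aug e₂).toNat : B) := by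
      conv_lhs => rw [← Int.toNat_of_nonneg h2.le]
      rw [Int.cast_natCast]
    rw [Int.cast_sub, e1, e2]
    ring
  rw [this]
  exact goodB_sub P φ ℓ r hrel (goodB_pos P PB φ ℓ r hφ hℓ hsplit hrel he₁ i)
    (goodB_pos P PB φ ℓ r hφ hℓ hsplit hrel he₂ i)

theorem goodB_all (hspan : ∀ b : B, ∃ g : Polynomial K, b = Polynomial.eval₂ φ ℓ g) (x : B) :
    GoodB P φ ℓ r (gammaSeries (x - ((PB.aug x : ℤ) : B))) := by
  obtain ⟨g, rfl⟩ := hspan x
  rw [Polynomial.eval₂_eq_sum_range]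
  generalize range (g.natDegree + 1) = s
  induction s using Finset.induction_on with
  | empty => simpa using goodB_one P φ ℓ r
  | insert i s hi ih =>
    rw [Finset.sum_insert hi]
    have : φ (g.coeff i) * ℓ ^ i + ∑ x ∈ s, φ (g.coeff x) * ℓ ^ x -
        ((PB.aug (φ (g.coeff i) * ℓ ^ i + ∑ x ∈ s, φ (g.coeff x) * ℓ ^ x) : ℤ) : B) =
        (φ (g.coeff i) * ℓ ^ i - ((P.aug (g.coeff i) : ℤ) : B)) +
        (∑ x ∈ s, φ (g.coeff x) * ℓ ^ x -
          ((PB.aug (∑ x ∈ s, φ (g.coeff x) * ℓ ^ x) : ℤ) : B)) := by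
      rw [map_add, map_mul, map_pow, hℓ.2, one_pow, mul_one, hφ.aug_comp]
      push_cast
      ring
    rw [this, gammaSeries_add]
    exact goodB_mul P φ ℓ r hrel (goodB_monomial P PB φ ℓ r hφ hℓ hsplit hrel _ i) ih

theorem gammaFiltration_le_Gc (hspan : ∀ b : B, ∃ g : Polynomial K, b = Polynomial.eval₂ φ ℓ g)
    (k : ℕ) : gammaFiltration PB k ≤ Gc P φ ℓ r k := by
  by_cases hk : k = 0
  · subst hk
    intro b _
    exact Gc_zero P φ ℓ r hrel hspan b
  rw [gammaFiltration_of_ne_zero PB hk, AddSubgroup.closure_le]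
  rintro y ⟨l, hl, hsum, rfl⟩
  refine Gc_anti P φ ℓ r hsum ?_
  clear hsum
  induction l with
  | nil => simpa using one_mem_Gc P φ ℓ r
  | cons p l ih =>
    simp only [List.map_cons, List.prod_cons, List.sum_cons]
    have h0 : PB.aug p.2 = 0 := hl p (by simp)
    have h1 := goodB_all P PB φ ℓ r hφ hℓ hsplit hrel hspan p.2 p.1
    rw [coeff_gammaSeries, h0, Int.cast_zero, sub_zero] at h1
    exact Gc_mul P φ ℓ r hrel h1 (ih fun q hq => hl q (List.mem_cons_of_mem _ hq))

/-- **The γ-filtration of an elementary extension.** -/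
theorem gammaFiltration_eq_Gc (hspan : ∀ b : B, ∃ g : Polynomial K, b = Polynomial.eval₂ φ ℓ g)
    (k : ℕ) : gammaFiltration PB k = Gc P φ ℓ r k :=
  le_antisymm (gammaFiltration_le_Gc P PB φ ℓ r hφ hℓ hsplit hrel hspan k)
    (Gc_le_gammaFiltration P PB φ ℓ r hφ hℓ k)

end Good

end Main

end Groth.Agent.Lib.Helper11.LamExt
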