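import Mathlib

set_option autoImplicit false
universe u
open CategoryTheory AlgebraicGeometry TopologicalSpace

namespace Groth.Agent.Lib.Helper11

/-- For a property `P` local on the source for the precoverage of jointly surjective families of
`Q`-morphisms (`Q` containing open immersions, consisting of open maps, stable under base change and
composition): there is a largest open on which `f` has `P`, compatible with `Q`-base change. -/
theorem exists_largest_open (P Q : MorphismProperty Scheme.{u})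
    [Q.IsStableUnderBaseChange] [Q.IsStableUnderComposition]
    (hQopen : ∀ {A B : Scheme.{u}} (j : A ⟶ B), IsOpenImmersion j → Q j)
    (hQmap : ∀ {A B : Scheme.{u}} (g : A ⟶ B), Q g → IsOpenMap g)
    [P.IsLocalAtSource (Scheme.precoverage Q)] {X Y : Scheme.{u}} (f : X ⟶ Y) :
    ∃ W : X.Opens, (P (W.ι ≫ f) ∧ ∀ W' : X.Opens, P (W'.ι ≫ f) → W' ≤ W) ∧
      ∀ (X' : Scheme.{u}) (g : X' ⟶ X), Q g → ∀ (V : X'.Opens),
        (P (V.ι ≫ g ≫ f) ∧ ∀ V' : X'.Opens, P (V'.ι ≫ g ≫ f) → V' ≤ V) → V = g ⁻¹ᵁ W := by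
  let U : {W' : X.Opens // P (W'.ι ≫ f)} → X.Opens := fun W' => W'.1
  have hW : P ((⨆ i, U i).ι ≫ f) := by
    have hR : Presieve.ofArrows (fun i => (U i).toScheme)
        (fun i => X.homOfLE (le_iSup U i)) ∈ Scheme.precoverage Q (⨆ i, U i).toScheme := by
      rw [Scheme.ofArrows_mem_precoverage_iff]
      refine ⟨fun x => ?_, fun i => hQopen _ inferInstance⟩
      obtain ⟨i, hi⟩ := TopologicalSpace.Opens.mem_iSup.mp x.2
      refine ⟨i, ⟨x.1, hi⟩, ?_⟩
      apply Subtype.ext
      simp
    refine MorphismProperty.IsLocalAtSource.of_forall_comp hR ?_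
    rintro _ _ ⟨i⟩
    rw [← Category.assoc, Scheme.homOfLE_ι]
    exact i.2
  refine ⟨⨆ i, U i, ⟨hW, fun W' hW' => le_iSup U ⟨W', hW'⟩⟩, ?_⟩
  intro X' g hg V ⟨hV1, hV2⟩
  set W : X.Opens := ⨆ i, U i with hWdef
  apply le_antisymm
  · -- V ≤ g⁻¹ W
    let W' : X.Opens := ⟨g '' (V : Set X'), hQmap g hg _ V.2⟩
    have hrange : Set.range (V.ι ≫ g) ⊆ Set.range W'.ι := by
      rintro _ ⟨v, rfl⟩
      rw [Scheme.Opens.range_ι]
      exact ⟨v.1, v.2, rfl⟩
    let h : V.toScheme ⟶ W'.toScheme := IsOpenImmersion.lift W'.ι (V.ι ≫ g) hrange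
    have hfac : h ≫ W'.ι = V.ι ≫ g := IsOpenImmersion.lift_fac _ _ _
    have hQh : Q h := by
      refine MorphismProperty.of_postcomp (W := Q) (W' := @IsOpenImmersion) h W'.ι inferInstance ?_
      rw [hfac]
      exact Q.comp_mem _ _ (hQopen _ inferInstance) hg
    have hsurj : Function.Surjective h := by
      rintro ⟨w, v, hv, rfl⟩
      refine ⟨⟨v, hv⟩, ?_⟩
      apply W'.ι.isOpenEmbedding.injective
      have := congrArg (fun φ : V.toScheme ⟶ X => φ ⟨v, hv⟩) hfac
      simpa using this
    have hR : Presieve.singleton h ∈ Scheme.precoverage Q W'.toScheme := by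
      rw [Scheme.singleton_mem_precoverage_iff]
      exact ⟨hsurj, hQh⟩
    have hPW' : P (W'.ι ≫ f) := by
      refine MorphismProperty.IsLocalAtSource.of_forall_comp hR ?_
      rintro _ _ ⟨⟩
      rw [← Category.assoc, hfac, Category.assoc]
      exact hV1
    have hle : W' ≤ W := le_iSup U ⟨W', hPW'⟩
    intro v hv
    exact hle ⟨v, hv, rfl⟩
  · -- g⁻¹ W ≤ V
    apply hV2
    rw [← Category.assoc, ← morphismRestrict_ι, Category.assoc]
    let Xs : Bool → Scheme.{u} := fun b => match b with
      | true => (g ⁻¹ᵁ W).toScheme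
      | false => W.toScheme
    let fs : ∀ b, Xs b ⟶ W.toScheme := fun b => match b with
      | true => g ∣_ W
      | false => 𝟙 _
    have hR : Presieve.ofArrows Xs fs ∈ Scheme.precoverage Q W.toScheme := by
      rw [Scheme.ofArrows_mem_precoverage_iff]
      refine ⟨fun x => ⟨false, x, rfl⟩, fun b => ?_⟩
      cases b
      · exact hQopen _ (inferInstanceAs (IsOpenImmersion (𝟙 W.toScheme)))
      · exact Q.of_isPullback (isPullback_morphismRestrict g W).flip hg
    exact MorphismProperty.IsLocalAtSource.comp hR (fs true) (Presieve.ofArrows.mk true) hW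

end Groth.Agent.Lib.Helper11
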