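import Mathlib

set_option autoImplicit false

namespace Groth.Agent.Lib.Helper11Lie3

variable {A : Type*} [CommRing A] {L : Type*} [LieRing L] [LieAlgebra A L]
  {L' : Type*} [LieRing L'] [LieAlgebra A L']

/-- expansion of a vector in a three-element basis -/
lemma expand3 (b : Module.Basis (Fin 3) A L) (v : L) :
    v = b.repr v 0 • b 0 + b.repr v 1 • b 1 + b.repr v 2 • b 2 := by
  conv_lhs => rw [← b.sum_repr v, Fin.sum_univ_three]

/-- bracket of two vectors in a 3-dim Lie algebra with `[b1,b2] = 0` -/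
lemma bracket3 (b : Module.Basis (Fin 3) A L) (P Q : L) (h01 : ⁅b 0, b 1⁆ = P) (h02 : ⁅b 0, b 2⁆ = Q)
    (h12 : ⁅b 1, b 2⁆ = 0) (u0 u1 u2 v0 v1 v2 : A) :
    ⁅u0 • b 0 + u1 • b 1 + u2 • b 2, v0 • b 0 + v1 • b 1 + v2 • b 2⁆ =
      (u0 * v1 - u1 * v0) • P + (u0 * v2 - u2 * v0) • Q := by
  have h10 : ⁅b 1, b 0⁆ = -P := by rw [← lie_skew, h01]
  have h20 : ⁅b 2, b 0⁆ = -Q := by rw [← lie_skew, h02]
  have h21 : ⁅b 2, b 1⁆ = 0 := by rw [← lie_skew, h12, neg_zero]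
  simp only [add_lie, lie_add, smul_lie, lie_smul, lie_self, h01, h02, h12, h10, h20, h21,
    smul_zero, smul_neg, add_zero, zero_add]
  module

/-- the matrix entries of a linear map in bases -/
noncomputable def mat (b : Module.Basis (Fin 3) A L) (b' : Module.Basis (Fin 3) A L')
    (φ : L →ₗ[A] L') (i j : Fin 3) : A := b'.repr (φ (b j)) i

lemma map_basis (b : Module.Basis (Fin 3) A L) (b' : Module.Basis (Fin 3) A L')
    (φ : L →ₗ[A] L') (j : Fin 3) :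
    φ (b j) = mat b b' φ 0 j • b' 0 + mat b b' φ 1 j • b' 1 + mat b b' φ 2 j • b' 2 :=
  expand3 b' (φ (b j))

/-- the structural identities satisfied by a Lie algebra homomorphism -/
lemma hom_identities (b : Module.Basis (Fin 3) A L) (b' : Module.Basis (Fin 3) A L')
    (P Q : L) (h01 : ⁅b 0, b 1⁆ = P) (h02 : ⁅b 0, b 2⁆ = Q) (h12 : ⁅b 1, b 2⁆ = 0)
    (P' Q' : L') (h01' : ⁅b' 0, b' 1⁆ = P') (h02' : ⁅b' 0, b' 2⁆ = Q') (h12' : ⁅b' 1, b' 2⁆ = 0)
    (φ : L →ₗ⁅A⁆ L') :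
    φ P = (mat b b' φ 0 0 * mat b b' φ 1 1 - mat b b' φ 1 0 * mat b b' φ 0 1) • P' +
          (mat b b' φ 0 0 * mat b b' φ 2 1 - mat b b' φ 2 0 * mat b b' φ 0 1) • Q' ∧
    φ Q = (mat b b' φ 0 0 * mat b b' φ 1 2 - mat b b' φ 1 0 * mat b b' φ 0 2) • P' +
          (mat b b' φ 0 0 * mat b b' φ 2 2 - mat b b' φ 2 0 * mat b b' φ 0 2) • Q' ∧
    0 = (mat b b' φ 0 1 * mat b b' φ 1 2 - mat b b' φ 1 1 * mat b b' φ 0 2) • P' +
          (mat b b' φ 0 1 * mat b b' φ 2 2 - mat b b' φ 2 1 * mat b b' φ 0 2) • Q' := by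
  refine ⟨?_, ?_, ?_⟩
  · rw [← h01, LieHom.map_lie]
    have e0 := map_basis b b' (φ : L →ₗ[A] L') 0
    have e1 := map_basis b b' (φ : L →ₗ[A] L') 1
    rw [LieHom.coe_toLinearMap] at e0 e1
    rw [e0, e1]
    exact bracket3 b' P' Q' h01' h02' h12' _ _ _ _ _ _
  · rw [← h02, LieHom.map_lie]
    have e0 := map_basis b b' (φ : L →ₗ[A] L') 0
    have e2 := map_basis b b' (φ : L →ₗ[A] L') 2
    rw [LieHom.coe_toLinearMap] at e0 e2
    rw [e0, e2]
    exact bracket3 b' P' Q' h01' h02' h12' _ _ _ _ _ _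
  · have h : φ ⁅b 1, b 2⁆ = 0 := by rw [h12, map_zero]
    rw [LieHom.map_lie] at h
    have e1 := map_basis b b' (φ : L →ₗ[A] L') 1
    have e2 := map_basis b b' (φ : L →ₗ[A] L') 2
    rw [LieHom.coe_toLinearMap] at e1 e2
    rw [e1, e2, bracket3 b' P' Q' h01' h02' h12'] at h
    exact h.symm


lemma mat_eq_toMatrix (b : Module.Basis (Fin 3) A L) (b' : Module.Basis (Fin 3) A L')
    (φ : L →ₗ[A] L') (i j : Fin 3) : mat b b' φ i j = LinearMap.toMatrix b b' φ i j := by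
  rw [LinearMap.toMatrix_apply]; rfl

lemma mat_symm_mul (b : Module.Basis (Fin 3) A L) (b' : Module.Basis (Fin 3) A L')
    (φ : L ≃ₗ[A] L') (i j : Fin 3) :
    ∑ k, mat b' b φ.symm.toLinearMap i k * mat b b' φ.toLinearMap k j = if i = j then 1 else 0 := by
  have h := LinearMap.toMatrix_comp b b' b φ.symm.toLinearMap φ.toLinearMap
  have h2 : φ.symm.toLinearMap ∘ₗ φ.toLinearMap = LinearMap.id := by
    ext x; simp
  rw [h2, LinearMap.toMatrix_id] at h
  have h3 := congrFun (congrFun h i) j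
  rw [Matrix.mul_apply, Matrix.one_apply] at h3
  rw [h3]
  refine Finset.sum_congr rfl fun k _ => ?_
  rw [mat_eq_toMatrix, mat_eq_toMatrix]

lemma mat_mul_symm (b : Module.Basis (Fin 3) A L) (b' : Module.Basis (Fin 3) A L')
    (φ : L ≃ₗ[A] L') (i j : Fin 3) :
    ∑ k, mat b b' φ.toLinearMap i k * mat b' b φ.symm.toLinearMap k j = if i = j then 1 else 0 := by
  have := mat_symm_mul b' b φ.symm i j
  rwa [LinearEquiv.symm_symm] at this

end Groth.Agent.Lib.Helper11Lie3
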