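import Mathlib
import Groth.Agent.Lib.Helper11Lie3

set_option autoImplicit false

namespace Groth.Agent.Lib.Helper11Lie3

variable {A : Type*} [CommRing A] {L : Type*} [LieRing L] [LieAlgebra A L]
  {L' : Type*} [LieRing L'] [LieAlgebra A L']

/-- a linear equivalence preserving brackets of basis vectors is a Lie equivalence -/
lemma lieEquiv_of_basis (b : Module.Basis (Fin 3) A L) (f : L ≃ₗ[A] L')
    (h01 : f ⁅b 0, b 1⁆ = ⁅f (b 0), f (b 1)⁆) (h02 : f ⁅b 0, b 2⁆ = ⁅f (b 0), f (b 2)⁆)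
    (h12 : f ⁅b 1, b 2⁆ = ⁅f (b 1), f (b 2)⁆) :
    ∃ φ : L ≃ₗ⁅A⁆ L', ∀ x, φ x = f x := by
  have hb : ∀ i j : Fin 3, f ⁅b i, b j⁆ = ⁅f (b i), f (b j)⁆ := by
    have h10 : f ⁅b 1, b 0⁆ = ⁅f (b 1), f (b 0)⁆ := by
      rw [← lie_skew, map_neg, h01, lie_skew]
    have h20 : f ⁅b 2, b 0⁆ = ⁅f (b 2), f (b 0)⁆ := by
      rw [← lie_skew, map_neg, h02, lie_skew]
    have h21 : f ⁅b 2, b 1⁆ = ⁅f (b 2), f (b 1)⁆ := by
      rw [← lie_skew, map_neg, h12, lie_skew]
    intro i j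
    fin_cases i <;> fin_cases j <;> simp only [Fin.zero_eta, Fin.mk_one, Fin.reduceFinMk, lie_self, map_zero] <;> assumption
  have h1 : ∀ (i : Fin 3) (y : L), f ⁅b i, y⁆ = ⁅f (b i), f y⁆ := by
    intro i
    have : f.toLinearMap ∘ₗ (LieAlgebra.ad A L (b i)) =
        (LieAlgebra.ad A L' (f (b i))) ∘ₗ f.toLinearMap := by
      apply b.ext
      intro j
      simp [hb i j]
    intro y
    exact LinearMap.congr_fun this y
  have h2 : ∀ x y : L, f ⁅x, y⁆ = ⁅f x, f y⁆ := by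
    intro x y
    have : f.toLinearMap ∘ₗ (LieAlgebra.ad A L y) =
        (LieAlgebra.ad A L' (f y)) ∘ₗ f.toLinearMap := by
      apply b.ext
      intro j
      have := h1 j y
      simp only [LinearMap.coe_comp, LinearEquiv.coe_coe, Function.comp_apply]
      show f ⁅y, b j⁆ = ⁅f y, f (b j)⁆
      rw [← lie_skew, map_neg, this, lie_skew]
    have h3 := LinearMap.congr_fun this x
    simp only [LinearMap.coe_comp, LinearEquiv.coe_coe, Function.comp_apply] at h3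
    have h4 : f ⁅y, x⁆ = ⁅f y, f x⁆ := h3
    rw [← lie_skew, map_neg, h4, lie_skew]
  exact ⟨{ f with map_lie' := fun {x y} => h2 x y }, fun x => rfl⟩

end Groth.Agent.Lib.Helper11Lie3
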