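import Mathlib
import Groth.Prelude.Def_LieS
import Groth.Agent.Lib.Helper11Epi

/-!
# Additivity of the scalar action on the kernel of `X(I_T) → X(T)` for monoid schemes (helper11)

`C2 B = B[ε₁, ε₂]/(ε₁, ε₂)²` is modelled as `TrivSqZeroExt B (B × B)`.
-/

set_option autoImplicit false
universe u

open CategoryTheory MonoidalCategory CartesianMonoidalCategory MonObj AlgebraicGeometry LieS

namespace Groth.Agent.Lib.Helper11.LieAdd

section Rings

variable (B : Type u) [CommRing B]

/-- `B[ε₁, ε₂]/(ε₁, ε₂)²` -/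
abbrev C2 : Type u := TrivSqZeroExt B (B × B)

variable {B}

/-- `ε ↦ c₁ ε₁ + c₂ ε₂` -/
noncomputable def sHom (c : B × B) : DualNumber B →+* C2 B :=
  dualHom (algebraMap B (C2 B)) (TrivSqZeroExt.inr c) (TrivSqZeroExt.inr_mul_inr B c c)

/-- `ε₁ ↦ a ε, ε₂ ↦ b ε` -/
noncomputable def tHom (a b : B) : C2 B →+* DualNumber B :=
  (TrivSqZeroExt.map (a • LinearMap.fst B B B + b • LinearMap.snd B B B)).toRingHom

lemma sHom_comp_algebraMap (c : B × B) :
    (sHom c).comp (algebraMap B (DualNumber B)) = algebraMap B (C2 B) :=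
  dualHom_comp_algebraMap _ _ _

lemma tHom_comp_algebraMap (a b : B) :
    (tHom a b).comp (algebraMap B (C2 B)) = algebraMap B (DualNumber B) := by
  refine RingHom.ext fun r => ?_
  apply TrivSqZeroExt.ext
  · simp [tHom, TrivSqZeroExt.algebraMap_eq_inl']
  · simp [tHom, TrivSqZeroExt.algebraMap_eq_inl']

lemma tHom_comp_sHom (a b : B) (c : B × B) :
    (tHom a b).comp (sHom c) = scaleHom (a * c.1 + b * c.2) := by
  refine RingHom.ext fun x => ?_
  apply TrivSqZeroExt.ext
  · simp [tHom, sHom, scaleHom, TrivSqZeroExt.algebraMap_eq_inl']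
  · simp [tHom, sHom, scaleHom, TrivSqZeroExt.algebraMap_eq_inl']
    ring

lemma tHom_prod_injective : Function.Injective ((tHom (1 : B) 0).prod (tHom (0 : B) 1)) := by
  intro x y hxy
  have h1 := congrArg Prod.fst hxy
  have h2 := congrArg Prod.snd hxy
  simp only [RingHom.prod_apply] at h1 h2
  have h1f := congrArg TrivSqZeroExt.fst h1
  have h1s := congrArg TrivSqZeroExt.snd h1
  have h2s := congrArg TrivSqZeroExt.snd h2
  simp [tHom] at h1f h1s h2s
  apply TrivSqZeroExt.ext h1f
  exact Prod.ext h1s h2s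

end Rings

section Spec

variable {B : Type u} [CommRing B]

lemma surjective_SpecMap_tHom :
    Function.Surjective (Spec.map (CommRingCat.ofHom (tHom (1 : B) 0))) := by
  have hsurj : Function.Surjective (tHom (1 : B) 0) := by
    intro y
    refine ⟨TrivSqZeroExt.inl y.fst + TrivSqZeroExt.inr (y.snd, 0), ?_⟩
    apply TrivSqZeroExt.ext
    · simp [tHom]
    · simp [tHom]
  have hker : RingHom.ker (tHom (1 : B) 0) ≤ nilradical (C2 B) := by
    intro x hx
    rw [RingHom.mem_ker] at hx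
    have h1 := congrArg TrivSqZeroExt.fst hx
    simp [tHom] at h1
    rw [mem_nilradical]
    refine ⟨2, ?_⟩
    apply TrivSqZeroExt.ext
    · simp [pow_two, h1]
    · simp [pow_two, h1]
  have h := PrimeSpectrum.isHomeomorph_comap (tHom (1 : B) 0)
    (fun x => ⟨1, Nat.one_pos, by rw [pow_one]; exact hsurj x⟩) hker
  intro q
  obtain ⟨x, hx⟩ := h.surjective q
  exact ⟨x, hx⟩

end Spec

section Sch

variable {S : Scheme.{u}} (B : Type u) [CommRing B] (f : Spec (CommRingCat.of B) ⟶ S)

/-- `Spec B[ε₁, ε₂]/(ε₁, ε₂)²` over `S` -/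
noncomputable def d2 : Over S := Over.mk (Spec.map (CommRingCat.ofHom (algebraMap B (C2 B))) ≫ f)

variable {B}

/-- the morphism `ε ↦ c₁ ε₁ + c₂ ε₂` -/
noncomputable def sMap (c : B × B) : d2 B f ⟶ dpt B f :=
  Over.homMk (Spec.map (CommRingCat.ofHom (sHom c))) (by
    change Spec.map _ ≫ Spec.map _ ≫ f = Spec.map _ ≫ f
    rw [← Category.assoc, specMap_comp, sHom_comp_algebraMap])

/-- the morphism `ε₁ ↦ a ε, ε₂ ↦ b ε` -/
noncomputable def tMap (a b : B) : dpt B f ⟶ d2 B f :=
  Over.homMk (Spec.map (CommRingCat.ofHom (tHom a b))) (by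
    change Spec.map _ ≫ Spec.map _ ≫ f = Spec.map _ ≫ f
    rw [← Category.assoc, specMap_comp, tHom_comp_algebraMap])

lemma tMap_sMap (a b : B) (c : B × B) :
    tMap f a b ≫ sMap f c = scale B f (a * c.1 + b * c.2) := by
  ext
  change Spec.map _ ≫ Spec.map _ = Spec.map _
  rw [specMap_comp, tHom_comp_sHom]

lemma tMap_sMap' (a b β : B) (c : B × B) (h : a * c.1 + b * c.2 = β) :
    tMap f a b ≫ sMap f c = scale B f β := by
  rw [tMap_sMap, h]

lemma scale_one : scale B f 1 = 𝟙 _ := by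
  ext
  change Spec.map _ = 𝟙 _
  have : scaleHom (1 : B) = RingHom.id _ := by
    refine RingHom.ext fun x => ?_
    apply TrivSqZeroExt.ext
    · simp [scaleHom, TrivSqZeroExt.algebraMap_eq_inl']
    · simp [scaleHom, TrivSqZeroExt.algebraMap_eq_inl']
  rw [this, CommRingCat.ofHom_id]
  erw [Spec.map_id]

lemma scale_zero : scale B f 0 = proj B f ≫ zeroSec B f := by
  ext
  change Spec.map _ = Spec.map _ ≫ Spec.map _
  rw [specMap_comp]
  congr 2
  refine RingHom.ext fun x => ?_
  apply TrivSqZeroExt.ext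
  · simp [scaleHom, TrivSqZeroExt.algebraMap_eq_inl']
  · simp [scaleHom, TrivSqZeroExt.algebraMap_eq_inl']

/-- additivity of the scalar action on the kernel of restriction to the zero section -/
theorem scale_add_comp {X : Over S} [MonObj X] (w : dpt B f ⟶ X) (hw : zeroSec B f ≫ w = 1)
    (a b : B) : scale B f (a + b) ≫ w = (scale B f a ≫ w) * (scale B f b ≫ w) := by
  have h0 : scale B f 0 ≫ w = 1 := by
    rw [scale_zero, Category.assoc, hw, MonObj.comp_one]
  have hVW : sMap f ((1 : B), (1 : B)) ≫ w =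
      (sMap f ((1 : B), (0 : B)) ≫ w) * (sMap f ((0 : B), (1 : B)) ≫ w) := by
    apply Over.OverMorphism.ext
    apply Groth.Agent.Lib.Helper11.Epi.eq_of_pair (tHom (1 : B) 0) (tHom (0 : B) 1)
      tHom_prod_injective surjective_SpecMap_tHom
    · have h1 : tMap f (1 : B) 0 ≫ sMap f ((1 : B), (1 : B)) ≫ w =
          tMap f (1 : B) 0 ≫ ((sMap f ((1 : B), (0 : B)) ≫ w) * (sMap f ((0 : B), (1 : B)) ≫ w)) := by
        rw [MonObj.comp_mul, ← Category.assoc, ← Category.assoc, ← Category.assoc,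
          tMap_sMap' f 1 0 1 (1, 1) (by simp), tMap_sMap' f 1 0 1 (1, 0) (by simp),
          tMap_sMap' f 1 0 0 (0, 1) (by simp), h0, _root_.mul_one]
      exact congrArg (fun m => m.left) h1
    · have h1 : tMap f (0 : B) 1 ≫ sMap f ((1 : B), (1 : B)) ≫ w =
          tMap f (0 : B) 1 ≫ ((sMap f ((1 : B), (0 : B)) ≫ w) * (sMap f ((0 : B), (1 : B)) ≫ w)) := by
        rw [MonObj.comp_mul, ← Category.assoc, ← Category.assoc, ← Category.assoc,
          tMap_sMap' f 0 1 1 (1, 1) (by simp), tMap_sMap' f 0 1 0 (1, 0) (by simp),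
          tMap_sMap' f 0 1 1 (0, 1) (by simp), h0, _root_.one_mul]
      exact congrArg (fun m => m.left) h1
  have h2 := congrArg (fun m => tMap f a b ≫ m) hVW
  simp only [MonObj.comp_mul] at h2
  rw [← Category.assoc, ← Category.assoc, ← Category.assoc,
    tMap_sMap' f a b (a + b) (1, 1) (by simp), tMap_sMap' f a b a (1, 0) (by simp),
    tMap_sMap' f a b b (0, 1) (by simp)] at h2
  exact h2

end Sch

end Groth.Agent.Lib.Helper11.LieAdd
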