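import Mathlib

/-!
# Localization with a calculus of right fractions preserves coproducts (helper11)

Namespace `Groth.Agent.Lib.Helper11.LocCoprod`.

Let `L : C ⥤ D` be a localization functor for `W` with a calculus of right fractions. Given chosen
colimit cofans `cof P` for all families `P : σ → C`, such that the induced map `smap` of a family
of morphisms in `W` is again in `W`, the functor `L` sends `cof P` to a colimit cocone
(`isColimitMap`), and hence `D` has coproducts of shape `σ` and `L` preserves them (`main`).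
-/

set_option autoImplicit false
set_option linter.style.haveILetI false
open CategoryTheory CategoryTheory.Limits

namespace Groth.Agent.Lib.Helper11.LocCoprod
universe v₁ v₂ u₁ u₂ w
variable {C : Type u₁} {D : Type u₂} [Category.{v₁} C] [Category.{v₂} D] (L : C ⥤ D)
  (W : MorphismProperty C) [L.IsLocalization W] [W.HasRightCalculusOfFractions]
  {σ : Type w} (cof : ∀ P : σ → C, Cofan P) (hcof : ∀ P, IsColimit (cof P))

/-- the induced map on coproducts -/
noncomputable def smap (A B : σ → C) (s : ∀ i, A i ⟶ B i) : (cof A).pt ⟶ (cof B).pt :=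
  Cofan.IsColimit.desc (hcof A) (fun i => s i ≫ (cof B).inj i)

include L in
theorem exists_desc (hW : ∀ (A B : σ → C) (s : ∀ i, A i ⟶ B i), (∀ i, W (s i)) →
      W (smap cof hcof A B s)) (P : σ → C) (Y : C) (g : ∀ i, L.obj (P i) ⟶ L.obj Y) :
    ∃ Φ : L.obj (cof P).pt ⟶ L.obj Y, ∀ i, L.map ((cof P).inj i) ≫ Φ = g i := by
  choose φ hφ using fun i => Localization.exists_rightFraction L W (g i)
  have hS := hW (fun i => (φ i).X') P (fun i => (φ i).s) (fun i => (φ i).hs)
  haveI : IsIso (L.map (smap cof hcof (fun i => (φ i).X') P (fun i => (φ i).s))) :=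
    Localization.inverts L W _ hS
  refine ⟨inv (L.map (smap cof hcof (fun i => (φ i).X') P (fun i => (φ i).s))) ≫
    L.map (Cofan.IsColimit.desc (hcof _) (fun i => (φ i).f)), fun i => ?_⟩
  haveI : IsIso (L.map (φ i).s) := Localization.inverts L W _ (φ i).hs
  have e1 : L.map ((cof fun i => (φ i).X').inj i) ≫
      L.map (smap cof hcof (fun i => (φ i).X') P (fun i => (φ i).s)) =
      L.map (φ i).s ≫ L.map ((cof P).inj i) := by
    rw [← L.map_comp, ← L.map_comp, smap, Cofan.IsColimit.fac]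
  have e2 : L.map ((cof P).inj i) ≫
      inv (L.map (smap cof hcof (fun i => (φ i).X') P (fun i => (φ i).s))) =
      inv (L.map (φ i).s) ≫ L.map ((cof fun i => (φ i).X').inj i) := by
    rw [IsIso.eq_inv_comp, ← Category.assoc, IsIso.comp_inv_eq, e1]
  rw [← Category.assoc, e2, Category.assoc, ← L.map_comp, Cofan.IsColimit.fac, hφ i]
  rfl

include L in
theorem desc_unique (hW : ∀ (A B : σ → C) (s : ∀ i, A i ⟶ B i), (∀ i, W (s i)) →
      W (smap cof hcof A B s)) (P : σ → C) (Y : C) (Φ Ψ : L.obj (cof P).pt ⟶ L.obj Y)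
    (h : ∀ i, L.map ((cof P).inj i) ≫ Φ = L.map ((cof P).inj i) ≫ Ψ) : Φ = Ψ := by
  obtain ⟨φ₁, rfl⟩ := Localization.exists_rightFraction L W Φ
  obtain ⟨φ₂, rfl⟩ := Localization.exists_rightFraction L W Ψ
  -- common denominator
  obtain ⟨ρ, hρ⟩ := (MorphismProperty.LeftFraction.mk φ₁.s φ₂.s φ₂.hs).exists_rightFraction
  dsimp at hρ
  have hs₁ : IsIso (L.map φ₁.s) := Localization.inverts L W _ φ₁.hs
  have hs₂ : IsIso (L.map φ₂.s) := Localization.inverts L W _ φ₂.hs
  have hρs : IsIso (L.map ρ.s) := Localization.inverts L W _ ρ.hs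
  have hρf : IsIso (L.map ρ.f) := by
    have e : L.map ρ.f ≫ L.map φ₂.s = L.map ρ.s ≫ L.map φ₁.s := by
      rw [← L.map_comp, ← L.map_comp, hρ]
    have : IsIso (L.map ρ.f ≫ L.map φ₂.s) := by rw [e]; infer_instance
    exact IsIso.of_isIso_comp_right (L.map ρ.f) (L.map φ₂.s)
  -- X' := ρ.X', s := ρ.s ≫ φ₁.s, f := ρ.s ≫ φ₁.f, f' := ρ.f ≫ φ₂.f
  have hsW : W (ρ.s ≫ φ₁.s) := W.comp_mem _ _ ρ.hs φ₁.hs
  have hs : IsIso (L.map (ρ.s ≫ φ₁.s)) := Localization.inverts L W _ hsW
  have E₁ : φ₁.map L (Localization.inverts L W) =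
      inv (L.map (ρ.s ≫ φ₁.s)) ≫ L.map (ρ.s ≫ φ₁.f) := by
    rw [IsIso.eq_inv_comp, L.map_comp, L.map_comp, Category.assoc,
      MorphismProperty.RightFraction.map_s_comp_map]
  have E₂ : φ₂.map L (Localization.inverts L W) =
      inv (L.map (ρ.s ≫ φ₁.s)) ≫ L.map (ρ.f ≫ φ₂.f) := by
    rw [IsIso.eq_inv_comp, hρ, L.map_comp, L.map_comp, Category.assoc,
      MorphismProperty.RightFraction.map_s_comp_map]
  rw [E₁, E₂] at h ⊢
  congr 1
  -- Ore for each i
  choose ψ hψ using fun i => (MorphismProperty.LeftFraction.mk ((cof P).inj i) (ρ.s ≫ φ₁.s)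
    hsW).exists_rightFraction
  dsimp at hψ
  have key : ∀ i, L.map ((ψ i).f ≫ ρ.s ≫ φ₁.f) = L.map ((ψ i).f ≫ ρ.f ≫ φ₂.f) := by
    intro i
    have h1 := congrArg (fun m => L.map (ψ i).s ≫ m) (h i)
    beta_reduce at h1
    have e3 : L.map (ψ i).s ≫ L.map ((cof P).inj i) ≫ inv (L.map (ρ.s ≫ φ₁.s)) =
        L.map (ψ i).f := by
      rw [← Category.assoc, IsIso.comp_inv_eq, ← L.map_comp, ← L.map_comp, hψ i]
    rw [← Category.assoc, ← Category.assoc, ← Category.assoc, ← Category.assoc,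
      Category.assoc (L.map (ψ i).s), e3, ← L.map_comp, ← L.map_comp] at h1
    exact h1
  choose B t ht htf using fun i =>
    (MorphismProperty.map_eq_iff_precomp L W _ _).1 (key i)
  -- assemble
  have hU := hW B P (fun i => t i ≫ (ψ i).s) (fun i => W.comp_mem _ _ (ht i) (ψ i).hs)
  have hUiso : IsIso (L.map (smap cof hcof B P (fun i => t i ≫ (ψ i).s))) :=
    Localization.inverts L W _ hU
  have eH : Cofan.IsColimit.desc (hcof B) (fun i => t i ≫ (ψ i).f) ≫ (ρ.s ≫ φ₁.s) =
      smap cof hcof B P (fun i => t i ≫ (ψ i).s) := by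
    refine Cofan.IsColimit.hom_ext (hcof B) _ _ (fun i => ?_)
    rw [smap, Cofan.IsColimit.fac, Cofan.IsColimit.fac_assoc, Category.assoc, Category.assoc,
      ← hψ i]
  have hHiso : IsIso (L.map (Cofan.IsColimit.desc (hcof B) (fun i => t i ≫ (ψ i).f))) := by
    have : IsIso (L.map (Cofan.IsColimit.desc (hcof B) (fun i => t i ≫ (ψ i).f)) ≫
        L.map (ρ.s ≫ φ₁.s)) := by
      rw [← L.map_comp, eH]; infer_instance
    exact IsIso.of_isIso_comp_right _ (L.map (ρ.s ≫ φ₁.s))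
  rw [← cancel_epi (L.map (Cofan.IsColimit.desc (hcof B) (fun i => t i ≫ (ψ i).f))),
    ← L.map_comp, ← L.map_comp]
  congr 1
  refine Cofan.IsColimit.hom_ext (hcof B) _ _ (fun i => ?_)
  rw [Cofan.IsColimit.fac_assoc, Cofan.IsColimit.fac_assoc, Category.assoc, Category.assoc]
  exact htf i

include W in
theorem existsUnique_desc (hW : ∀ (A B : σ → C) (s : ∀ i, A i ⟶ B i), (∀ i, W (s i)) →
      W (smap cof hcof A B s)) (P : σ → C) (T : D) (g : ∀ i, L.obj (P i) ⟶ T) :
    ∃ Φ : L.obj (cof P).pt ⟶ T, (∀ i, L.map ((cof P).inj i) ≫ Φ = g i) ∧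
      ∀ Ψ : L.obj (cof P).pt ⟶ T, (∀ i, L.map ((cof P).inj i) ≫ Ψ = g i) → Ψ = Φ := by
  have := Localization.essSurj L W
  obtain ⟨Y, ⟨e⟩⟩ : ∃ Y, Nonempty (L.obj Y ≅ T) := ⟨L.objPreimage T, ⟨L.objObjPreimageIso T⟩⟩
  obtain ⟨Φ, hΦ⟩ := exists_desc L W cof hcof hW P Y (fun i => g i ≫ e.inv)
  refine ⟨Φ ≫ e.hom, fun i => by rw [← Category.assoc, hΦ]; simp, fun Ψ hΨ => ?_⟩
  have := desc_unique L W cof hcof hW P Y (Ψ ≫ e.inv) Φ
    (fun i => by rw [← Category.assoc, hΨ, hΦ])
  rw [← this]; simp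

/-- `L` maps the chosen colimit cofans to colimit cocones. -/
noncomputable def isColimitMap (hW : ∀ (A B : σ → C) (s : ∀ i, A i ⟶ B i), (∀ i, W (s i)) →
      W (smap cof hcof A B s)) (P : σ → C) : IsColimit (L.mapCocone (cof P)) where
  desc s := (existsUnique_desc L W cof hcof hW P s.pt (fun i => s.ι.app ⟨i⟩)).choose
  fac s := by
    rintro ⟨i⟩
    exact (existsUnique_desc L W cof hcof hW P s.pt (fun i => s.ι.app ⟨i⟩)).choose_spec.1 i
  uniq s m hm :=
    (existsUnique_desc L W cof hcof hW P s.pt (fun i => s.ι.app ⟨i⟩)).choose_spec.2 m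
      (fun i => hm ⟨i⟩)

include W cof hcof in
theorem main (hW : ∀ (A B : σ → C) (s : ∀ i, A i ⟶ B i), (∀ i, W (s i)) →
      W (smap cof hcof A B s)) :
    HasColimitsOfShape (Discrete σ) D ∧ PreservesColimitsOfShape (Discrete σ) L := by
  have hpres : ∀ P : σ → C, PreservesColimit (Discrete.functor P) L := fun P =>
    preservesColimit_of_preserves_colimit_cocone (hcof P) (isColimitMap L W cof hcof hW P)
  refine ⟨⟨fun F => ?_⟩, ⟨fun {F} => ?_⟩⟩
  · have := Localization.essSurj L W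
    let Y : σ → C := fun i => L.objPreimage (F.obj ⟨i⟩)
    have h1 : HasColimit (Discrete.functor Y ⋙ L) :=
      HasColimit.mk ⟨_, isColimitMap L W cof hcof hW Y⟩
    have e : Discrete.functor Y ⋙ L ≅ F :=
      Discrete.natIso (fun ⟨i⟩ => L.objObjPreimageIso (F.obj ⟨i⟩))
    exact hasColimit_of_iso e.symm
  · have := hpres (F.obj ∘ Discrete.mk)
    exact preservesColimit_of_iso_diagram _ (Discrete.natIsoFunctor (F := F)).symm

end Groth.Agent.Lib.Helper11.LocCoprod
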