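import Mathlib

set_option autoImplicit false

universe v₁ v₂ v₃ u₁ u₂ u₃
open CategoryTheory

namespace Groth.Agent.Lib.Helper18OverLoc

variable {C : Type u₁} [Category.{v₁} C] (W : MorphismProperty C) (S : C)

abbrev WS : MorphismProperty (Over S) := W.inverseImage (Over.forget S)

instance instRCF [W.HasRightCalculusOfFractions] : (WS W S).HasRightCalculusOfFractions where
  exists_rightFraction X Y φ := by
    obtain ⟨ψ, hψ⟩ := MorphismProperty.HasRightCalculusOfFractions.exists_rightFraction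
      (W := W) (X := X.left) (Y := Y.left) ⟨φ.f.left, φ.s.left, φ.hs⟩
    dsimp at hψ
    let Z : Over S := Over.mk (ψ.s ≫ X.hom)
    let t : Z ⟶ X := Over.homMk ψ.s rfl
    let g : Z ⟶ Y := Over.homMk ψ.f (by
      dsimp [Z]
      rw [← Over.w φ.s, ← Category.assoc, ← hψ, Category.assoc, Over.w φ.f])
    refine ⟨⟨t, ψ.hs, g⟩, ?_⟩
    ext
    exact hψ
  ext X Y Y' f₁ f₂ s hs h := by
    obtain ⟨X', t, ht, hh⟩ := MorphismProperty.HasRightCalculusOfFractions.ext
      (W := W) f₁.left f₂.left s.left hs (by rw [← Over.comp_left, h, Over.comp_left])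
    refine ⟨Over.mk (t ≫ X.hom), Over.homMk t rfl, ht, ?_⟩
    ext
    exact hh


variable {W S}
variable {D : Type u₂} [Category.{v₂} D] (L : C ⥤ D) [L.IsLocalization W]

lemma invF : (WS W S).IsInvertedBy (Over.post (X := S) L) := by
  intro X Y f hf
  have h1 : IsIso (L.map f.left) := Localization.inverts L W _ hf
  have : IsIso ((Over.forget _).map ((Over.post (X := S) L).map f)) := h1
  exact isIso_of_reflects_iso _ (Over.forget _)

/-- Lemma A -/
lemma exists_fraction [W.HasRightCalculusOfFractions] (X Y : Over S)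
    (g : (Over.post (X := S) L).obj X ⟶ (Over.post (X := S) L).obj Y) :
    ∃ z : (WS W S).RightFraction X Y, g = z.map (Over.post (X := S) L) (invF L) := by
  let gl : L.obj X.left ⟶ L.obj Y.left := g.left
  have hgl : gl ≫ L.map Y.hom = L.map X.hom := Over.w g
  obtain ⟨φ, hφ⟩ := Localization.exists_rightFraction L W gl
  have h1 : L.map φ.s ≫ gl = L.map φ.f := by
    rw [hφ]; simp
  have h2 : L.map (φ.f ≫ Y.hom) = L.map (φ.s ≫ X.hom) := by
    rw [L.map_comp, L.map_comp, ← h1, Category.assoc, hgl]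
  obtain ⟨Z, t, ht, hh⟩ := (MorphismProperty.map_eq_iff_precomp L W _ _).1 h2
  let X'' : Over S := Over.mk (t ≫ φ.s ≫ X.hom)
  let s' : X'' ⟶ X := Over.homMk (t ≫ φ.s) (by simp [X''])
  let f' : X'' ⟶ Y := Over.homMk (t ≫ φ.f) (by simp [X'', hh])
  have hs' : WS W S s' := W.comp_mem _ _ ht φ.hs
  refine ⟨⟨s', hs', f'⟩, ?_⟩
  have : IsIso ((Over.post (X := S) L).map s') := invF L _ hs'
  rw [← cancel_epi ((Over.post (X := S) L).map s')]
  have e1 := MorphismProperty.RightFraction.map_s_comp_map (W := WS W S)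
    ⟨s', hs', f'⟩ (Over.post (X := S) L) (invF L)
  dsimp only at e1
  rw [e1]
  ext
  show L.map (t ≫ φ.s) ≫ gl = L.map (t ≫ φ.f)
  rw [L.map_comp, Category.assoc, h1, L.map_comp]


/-- the underlying fraction in `C` -/
def under {X Y : Over S} (z : (WS W S).RightFraction X Y) : W.RightFraction X.left Y.left :=
  ⟨z.s.left, z.hs, z.f.left⟩

lemma under_map {X Y : Over S} (z : (WS W S).RightFraction X Y) :
    (under z).map L (Localization.inverts L W) =
      (z.map (Over.post (X := S) L) (invF L)).left := by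
  have : IsIso (L.map (under z).s) := Localization.inverts L W _ (under z).hs
  rw [← cancel_epi (L.map (under z).s), MorphismProperty.RightFraction.map_s_comp_map]
  have e1 := MorphismProperty.RightFraction.map_s_comp_map z (Over.post (X := S) L) (invF L)
  have e2 := congrArg (fun m => m.left) e1
  exact e2.symm

/-- Lemma B -/
lemma rel_of_map_eq [W.HasRightCalculusOfFractions] {X Y : Over S}
    (z₁ z₂ : (WS W S).RightFraction X Y)
    (h : z₁.map (Over.post (X := S) L) (invF L) = z₂.map (Over.post (X := S) L) (invF L)) :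
    MorphismProperty.RightFractionRel z₁ z₂ := by
  have h' : (under z₁).map L (Localization.inverts L W) =
      (under z₂).map L (Localization.inverts L W) := by
    rw [under_map, under_map, h]
  rw [MorphismProperty.RightFraction.map_eq_iff] at h'
  obtain ⟨Z, t₁, t₂, hs, hf, ht⟩ := h'
  dsimp [under] at t₁ t₂ hs hf ht
  let Z' : Over S := Over.mk (t₁ ≫ z₁.s.left ≫ X.hom)
  let t₁' : Z' ⟶ z₁.X' := Over.homMk t₁ (by simp [Z'])
  let t₂' : Z' ⟶ z₂.X' := Over.homMk t₂ (by
    dsimp [Z']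
    rw [← Category.assoc, hs, Category.assoc, Over.w])
  refine ⟨Z', t₁', t₂', ?_, ?_, ?_⟩
  · ext; exact hs
  · ext; exact hf
  · exact ht


section
variable {C' : Type*} [Category C'] {D' : Type*} [Category D'] {W' : MorphismProperty C'}

lemma map_natIso {G₁ G₂ : C' ⥤ D'} (e : G₁ ≅ G₂) (h₁ : W'.IsInvertedBy G₁) (h₂ : W'.IsInvertedBy G₂)
    {X Y : C'} (z : W'.RightFraction X Y) :
    z.map G₁ h₁ ≫ e.hom.app Y = e.hom.app X ≫ z.map G₂ h₂ := by
  have : IsIso (G₁.map z.s) := h₁ _ z.hs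
  rw [← cancel_epi (G₁.map z.s), MorphismProperty.RightFraction.map_s_comp_map_assoc,
    e.hom.naturality, e.hom.naturality_assoc, MorphismProperty.RightFraction.map_s_comp_map]

lemma map_comp_functor {D'' : Type*} [Category D''] (G : C' ⥤ D') (H : D' ⥤ D'')
    (h₁ : W'.IsInvertedBy G) (h₂ : W'.IsInvertedBy (G ⋙ H))
    {X Y : C'} (z : W'.RightFraction X Y) :
    z.map (G ⋙ H) h₂ = H.map (z.map G h₁) := by
  have : IsIso ((G ⋙ H).map z.s) := h₂ _ z.hs
  rw [← cancel_epi ((G ⋙ H).map z.s), MorphismProperty.RightFraction.map_s_comp_map]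
  dsimp
  rw [← H.map_comp, MorphismProperty.RightFraction.map_s_comp_map]

end

theorem main [W.HasRightCalculusOfFractions]
    {E : Type u₃} [Category.{v₃} E] (L' : Over S ⥤ E)
    [L'.IsLocalization (W.inverseImage (Over.forget S))]
    (Φ : E ⥤ Over (L.obj S)) (e : L' ⋙ Φ ≅ Over.post L) : Φ.IsEquivalence := by
  have hL' : (WS W S).IsInvertedBy L' := Localization.inverts L' _
  have hcomp : (WS W S).IsInvertedBy (L' ⋙ Φ) := fun X Y f hf => by
    have := hL' f hf
    dsimp
    infer_instance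
  have key : ∀ {X Y : Over S} (z : (WS W S).RightFraction X Y),
      Φ.map (z.map L' hL') = e.hom.app X ≫ z.map (Over.post L) (invF L) ≫ e.inv.app Y := by
    intro X Y z
    have h := map_natIso e hcomp (invF L) z
    rw [← map_comp_functor L' Φ hL' hcomp, ← Category.assoc, ← h]
    simp
  have : L'.EssSurj := Localization.essSurj L' (WS W S)
  have : L.EssSurj := Localization.essSurj L W
  have hess : Φ.EssSurj := by
    refine ⟨fun Y => ?_⟩
    let i : L.obj (L.objPreimage Y.left) ≅ Y.left := L.objObjPreimageIso Y.left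
    obtain ⟨φ, hφ⟩ := Localization.exists_rightFraction L W (i.hom ≫ Y.hom)
    have : IsIso (L.map φ.s) := Localization.inverts L W _ φ.hs
    have h1 : L.map φ.s ≫ i.hom ≫ Y.hom = L.map φ.f := by
      rw [hφ]; simp
    let T : Over S := Over.mk φ.f
    let j : L.obj φ.X' ≅ Y.left := asIso (L.map φ.s) ≪≫ i
    have hj : j.hom ≫ Y.hom = L.map φ.f := by simpa [j] using h1
    let k : (Over.post L).obj T ≅ Y := Over.isoMk j hj
    exact ⟨L'.obj T, ⟨e.app T ≪≫ k⟩⟩
  have hfull : Φ.Full := by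
    refine ⟨fun {e₁ e₂} g => ?_⟩
    let a₁ : L'.obj (L'.objPreimage e₁) ≅ e₁ := L'.objObjPreimageIso e₁
    let a₂ : L'.obj (L'.objPreimage e₂) ≅ e₂ := L'.objObjPreimageIso e₂
    obtain ⟨z, hz⟩ := exists_fraction (W := W) L _ _
      (e.inv.app _ ≫ Φ.map a₁.hom ≫ g ≫ Φ.map a₂.inv ≫ e.hom.app _)
    refine ⟨a₁.inv ≫ z.map L' hL' ≫ a₂.hom, ?_⟩
    rw [Φ.map_comp, Φ.map_comp, key, ← hz]
    simp [← Φ.map_comp_assoc, ← Φ.map_comp]
  have hfaith : Φ.Faithful := by
    refine ⟨fun {e₁ e₂} u v huv => ?_⟩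
    let a₁ : L'.obj (L'.objPreimage e₁) ≅ e₁ := L'.objObjPreimageIso e₁
    let a₂ : L'.obj (L'.objPreimage e₂) ≅ e₂ := L'.objObjPreimageIso e₂
    obtain ⟨z₁, hz₁⟩ := Localization.exists_rightFraction L' (WS W S) (a₁.hom ≫ u ≫ a₂.inv)
    obtain ⟨z₂, hz₂⟩ := Localization.exists_rightFraction L' (WS W S) (a₁.hom ≫ v ≫ a₂.inv)
    have h3 : Φ.map (z₁.map L' hL') = Φ.map (z₂.map L' hL') := by
      rw [← hz₁, ← hz₂]
      simp [huv]
    rw [key, key] at h3
    have h4 : z₁.map (Over.post L) (invF L) = z₂.map (Over.post L) (invF L) := by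
      simpa using h3
    have h5 := rel_of_map_eq L z₁ z₂ h4
    have h6 : z₁.map L' hL' = z₂.map L' hL' :=
      (MorphismProperty.RightFraction.map_eq_iff L' (WS W S) z₁ z₂).2 h5
    have h7 : a₁.hom ≫ u ≫ a₂.inv = a₁.hom ≫ v ≫ a₂.inv := by rw [hz₁, hz₂, h6]
    simpa using h7
  exact { }

end Groth.Agent.Lib.Helper18OverLoc
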