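import Mathlib
import Groth.Agent.Lib.Helper18OverLoc

/-!
# A Gabriel–Zisman criterion for localization functors (helper11)

Namespace `Groth.Agent.Lib.Helper11.LocCrit`.

`isLocalization_of_rcf`: let `W` have a calculus of right fractions, `L : C ⥤ D` invert `W`, be
essentially surjective, such that every `φ : L A ⟶ L B` satisfies `L s ≫ φ = L f` for some `s ∈ W`,
and `L f₁ = L f₂` implies `s ≫ f₁ = s ≫ f₂` for some `s ∈ W`. Then `L` is a localization functor
for `W`.
-/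

set_option autoImplicit false
set_option linter.style.haveILetI false
open CategoryTheory

namespace Groth.Agent.Lib.Helper11.LocCrit
universe v₁ v₂ u₁ u₂
variable {C : Type u₁} [Category.{v₁} C] {D : Type u₂} [Category.{v₂} D]
  (L : C ⥤ D) (W : MorphismProperty C)

theorem isLocalization_of_rcf [W.HasRightCalculusOfFractions]
    (hinv : W.IsInvertedBy L) [L.EssSurj]
    (hF : ∀ {A B : C} (φ : L.obj A ⟶ L.obj B), ∃ (A' : C) (s : A' ⟶ A) (_ : W s) (f : A' ⟶ B),
      L.map s ≫ φ = L.map f)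
    (hFF : ∀ {A B : C} (f₁ f₂ : A ⟶ B), L.map f₁ = L.map f₂ →
      ∃ (A' : C) (s : A' ⟶ A), W s ∧ s ≫ f₁ = s ≫ f₂) :
    L.IsLocalization W := by
  let G : W.Localization ⥤ D := Localization.lift L hinv W.Q
  let e : W.Q ⋙ G ≅ L := Localization.fac L hinv W.Q
  have hQ : W.IsInvertedBy W.Q := Localization.inverts W.Q W
  have hcomp : W.IsInvertedBy (W.Q ⋙ G) := fun X Y f hf => by
    have := hQ f hf
    dsimp
    infer_instance
  have key : ∀ {X Y : C} (z : W.RightFraction X Y),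
      G.map (z.map W.Q hQ) = e.hom.app X ≫ z.map L hinv ≫ e.inv.app Y := by
    intro X Y z
    have h := Groth.Agent.Lib.Helper18OverLoc.map_natIso e hcomp hinv z
    rw [← Groth.Agent.Lib.Helper18OverLoc.map_comp_functor W.Q G hQ hcomp, ← Category.assoc, ← h]
    simp
  have : W.Q.EssSurj := Localization.essSurj W.Q W
  have hfull : G.Full := by
    refine ⟨fun {e₁ e₂} g => ?_⟩
    let a₁ : W.Q.obj (W.Q.objPreimage e₁) ≅ e₁ := W.Q.objObjPreimageIso e₁
    let a₂ : W.Q.obj (W.Q.objPreimage e₂) ≅ e₂ := W.Q.objObjPreimageIso e₂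
    obtain ⟨A', s, hs, f, hsf⟩ := hF
      (e.inv.app _ ≫ G.map a₁.hom ≫ g ≫ G.map a₂.inv ≫ e.hom.app _)
    let z : W.RightFraction (W.Q.objPreimage e₁) (W.Q.objPreimage e₂) := ⟨s, hs, f⟩
    have hz : z.map L hinv =
        e.inv.app _ ≫ G.map a₁.hom ≫ g ≫ G.map a₂.inv ≫ e.hom.app _ := by
      haveI : IsIso (L.map z.s) := hinv _ z.hs
      rw [← cancel_epi (L.map z.s), MorphismProperty.RightFraction.map_s_comp_map]
      exact hsf.symm
    refine ⟨a₁.inv ≫ z.map W.Q hQ ≫ a₂.hom, ?_⟩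
    rw [G.map_comp, G.map_comp, key, hz]
    simp [← G.map_comp_assoc, ← G.map_comp]
  have hfaith : G.Faithful := by
    refine ⟨fun {e₁ e₂} u v huv => ?_⟩
    let a₁ : W.Q.obj (W.Q.objPreimage e₁) ≅ e₁ := W.Q.objObjPreimageIso e₁
    let a₂ : W.Q.obj (W.Q.objPreimage e₂) ≅ e₂ := W.Q.objObjPreimageIso e₂
    obtain ⟨z₁, hz₁⟩ := Localization.exists_rightFraction W.Q W (a₁.hom ≫ u ≫ a₂.inv)
    obtain ⟨z₂, hz₂⟩ := Localization.exists_rightFraction W.Q W (a₁.hom ≫ v ≫ a₂.inv)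
    have h3 : G.map (z₁.map W.Q hQ) = G.map (z₂.map W.Q hQ) := by
      rw [← hz₁, ← hz₂]
      simp [huv]
    rw [key, key] at h3
    have h4 : z₁.map L hinv = z₂.map L hinv := by
      simpa using h3
    obtain ⟨ψ, hψ⟩ := MorphismProperty.HasRightCalculusOfFractions.exists_rightFraction
      (W := W) ⟨z₁.s, z₂.s, z₂.hs⟩
    dsimp at hψ
    have h5 : L.map (ψ.s ≫ z₁.f) = L.map (ψ.f ≫ z₂.f) := by
      have e1 : L.map (ψ.s ≫ z₁.f) = L.map (ψ.s ≫ z₁.s) ≫ z₁.map L hinv := by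
        rw [L.map_comp, L.map_comp, Category.assoc,
          MorphismProperty.RightFraction.map_s_comp_map]
      have e2 : L.map (ψ.f ≫ z₂.f) = L.map (ψ.f ≫ z₂.s) ≫ z₂.map L hinv := by
        rw [L.map_comp, L.map_comp, Category.assoc,
          MorphismProperty.RightFraction.map_s_comp_map]
      rw [e1, e2, h4, hψ]
    obtain ⟨Z, r, hr, hrr⟩ := hFF _ _ h5
    have h6 : MorphismProperty.RightFractionRel z₁ z₂ := by
      refine ⟨Z, r ≫ ψ.s, r ≫ ψ.f, ?_, ?_, ?_⟩
      · rw [Category.assoc, Category.assoc, hψ]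
      · simpa only [Category.assoc] using hrr
      · rw [Category.assoc]
        exact W.comp_mem _ _ hr (W.comp_mem _ _ ψ.hs z₁.hs)
    have h7 : z₁.map W.Q hQ = z₂.map W.Q hQ :=
      (MorphismProperty.RightFraction.map_eq_iff W.Q W z₁ z₂).2 h6
    have h8 : a₁.hom ≫ u ≫ a₂.inv = a₁.hom ≫ v ≫ a₂.inv := by rw [hz₁, hz₂, h7]
    simpa using h8
  have hess : G.EssSurj := by
    refine ⟨fun d => ⟨W.Q.obj (L.objPreimage d), ⟨e.app _ ≪≫ L.objObjPreimageIso d⟩⟩⟩
  haveI : G.IsEquivalence := { faithful := hfaith, full := hfull, essSurj := hess }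
  exact Functor.IsLocalization.of_equivalence_target W.Q W L G.asEquivalence e

end Groth.Agent.Lib.Helper11.LocCrit
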