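import Mathlib
import Groth.Agent.Lib.Helper18OverLoc

/-!
# Localization of a full subcategory closed under sources of `W` (helper11)

Namespace `Groth.Agent.Lib.Helper11.LocFullSub`.

Let `W` be a class of morphisms of `C` with a calculus of right fractions and `P` a property of
objects such that the source of a morphism of `W` with target in `P` is in `P`. Then the restriction
`WP W P` of `W` to the full subcategory of `P` has a calculus of right fractions (`instRCF`) and the
localization of the full subcategory at `WP W P` is a full subcategory of the localization of `C`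
at `W` (`full_faithful`).
-/

set_option autoImplicit false
set_option linter.style.haveILetI false
open CategoryTheory

namespace Groth.Agent.Lib.Helper11.LocFullSub
universe v₁ v₂ v₃ u₁ u₂ u₃
variable {C : Type u₁} [Category.{v₁} C] (W : MorphismProperty C) (P : ObjectProperty C)

/-- the restriction of `W` to the full subcategory -/
abbrev WP : MorphismProperty P.FullSubcategory := W.inverseImage P.ι

variable {W P}

theorem instRCF [W.HasRightCalculusOfFractions]
    (hP : ∀ ⦃X Y : C⦄ (s : X ⟶ Y), W s → P Y → P X) :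
    (WP W P).HasRightCalculusOfFractions where
  exists_rightFraction X Y φ := by
    obtain ⟨ψ, hψ⟩ := MorphismProperty.HasRightCalculusOfFractions.exists_rightFraction
      (W := W) (X := X.obj) (Y := Y.obj) ⟨φ.f.hom, φ.s.hom, φ.hs⟩
    dsimp at hψ
    refine ⟨⟨(ObjectProperty.homMk ψ.s :
      (⟨ψ.X', hP ψ.s ψ.hs X.property⟩ : P.FullSubcategory) ⟶ X), ψ.hs,
      ObjectProperty.homMk ψ.f⟩, ?_⟩
    ext
    exact hψ
  ext X Y Z f₁ f₂ s hs h := by
    obtain ⟨X', t, ht, hh⟩ := MorphismProperty.HasRightCalculusOfFractions.ext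
      (W := W) f₁.hom f₂.hom s.hom hs
      (by rw [← ObjectProperty.FullSubcategory.comp_hom, h,
        ObjectProperty.FullSubcategory.comp_hom])
    refine ⟨⟨X', hP t ht X.property⟩, ObjectProperty.homMk t, ht, ?_⟩
    ext
    exact hh

/-- the underlying fraction in `C` -/
def under {X Y : P.FullSubcategory} (z : (WP W P).RightFraction X Y) :
    W.RightFraction X.obj Y.obj :=
  ⟨z.s.hom, z.hs, z.f.hom⟩

variable {D : Type u₂} [Category.{v₂} D] (L : C ⥤ D) [L.IsLocalization W]

lemma invιL : (WP W P).IsInvertedBy (P.ι ⋙ L) := fun _ _ _ hf =>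
  Localization.inverts L W _ hf

lemma under_map {X Y : P.FullSubcategory} (z : (WP W P).RightFraction X Y) :
    (under z).map L (Localization.inverts L W) = z.map (P.ι ⋙ L) (invιL L) := by
  haveI : IsIso (L.map (under z).s) := Localization.inverts L W _ (under z).hs
  rw [← cancel_epi (L.map (under z).s), MorphismProperty.RightFraction.map_s_comp_map]
  exact (MorphismProperty.RightFraction.map_s_comp_map z (P.ι ⋙ L) (invιL L)).symm

theorem full_faithful [W.HasRightCalculusOfFractions]
    (hP : ∀ ⦃X Y : C⦄ (s : X ⟶ Y), W s → P Y → P X)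
    {E : Type u₃} [Category.{v₃} E] (L' : P.FullSubcategory ⥤ E) [L'.IsLocalization (WP W P)]
    (Φ : E ⥤ D) (e : L' ⋙ Φ ≅ P.ι ⋙ L) : Φ.Full ∧ Φ.Faithful := by
  haveI := instRCF (W := W) (P := P) hP
  have hL' : (WP W P).IsInvertedBy L' := Localization.inverts L' _
  have hcomp : (WP W P).IsInvertedBy (L' ⋙ Φ) := fun X Y f hf => by
    have := hL' f hf
    dsimp
    infer_instance
  have key : ∀ {X Y : P.FullSubcategory} (z : (WP W P).RightFraction X Y),
      Φ.map (z.map L' hL') = e.hom.app X ≫ z.map (P.ι ⋙ L) (invιL L) ≫ e.inv.app Y := by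
    intro X Y z
    have h := Groth.Agent.Lib.Helper18OverLoc.map_natIso e hcomp (invιL L) z
    rw [← Groth.Agent.Lib.Helper18OverLoc.map_comp_functor L' Φ hL' hcomp, ← Category.assoc, ← h]
    simp
  have : L'.EssSurj := Localization.essSurj L' (WP W P)
  have hfull : Φ.Full := by
    refine ⟨fun {e₁ e₂} g => ?_⟩
    let a₁ : L'.obj (L'.objPreimage e₁) ≅ e₁ := L'.objObjPreimageIso e₁
    let a₂ : L'.obj (L'.objPreimage e₂) ≅ e₂ := L'.objObjPreimageIso e₂
    obtain ⟨φ, hφ⟩ := Localization.exists_rightFraction L W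
      (e.inv.app _ ≫ Φ.map a₁.hom ≫ g ≫ Φ.map a₂.inv ≫ e.hom.app _)
    let z : (WP W P).RightFraction (L'.objPreimage e₁) (L'.objPreimage e₂) :=
      ⟨(ObjectProperty.homMk φ.s :
        (⟨φ.X', hP φ.s φ.hs (L'.objPreimage e₁).property⟩ : P.FullSubcategory) ⟶ _), φ.hs,
        ObjectProperty.homMk φ.f⟩
    have hz : z.map (P.ι ⋙ L) (invιL L) =
        e.inv.app _ ≫ Φ.map a₁.hom ≫ g ≫ Φ.map a₂.inv ≫ e.hom.app _ := by
      rw [hφ, ← under_map]
      rfl
    refine ⟨a₁.inv ≫ z.map L' hL' ≫ a₂.hom, ?_⟩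
    rw [Φ.map_comp, Φ.map_comp, key, hz]
    simp [← Φ.map_comp_assoc, ← Φ.map_comp]
  have hfaith : Φ.Faithful := by
    refine ⟨fun {e₁ e₂} u v huv => ?_⟩
    let a₁ : L'.obj (L'.objPreimage e₁) ≅ e₁ := L'.objObjPreimageIso e₁
    let a₂ : L'.obj (L'.objPreimage e₂) ≅ e₂ := L'.objObjPreimageIso e₂
    obtain ⟨z₁, hz₁⟩ := Localization.exists_rightFraction L' (WP W P) (a₁.hom ≫ u ≫ a₂.inv)
    obtain ⟨z₂, hz₂⟩ := Localization.exists_rightFraction L' (WP W P) (a₁.hom ≫ v ≫ a₂.inv)
    have h3 : Φ.map (z₁.map L' hL') = Φ.map (z₂.map L' hL') := by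
      rw [← hz₁, ← hz₂]
      simp [huv]
    rw [key, key] at h3
    have h4 : z₁.map (P.ι ⋙ L) (invιL L) = z₂.map (P.ι ⋙ L) (invιL L) := by
      simpa using h3
    rw [← under_map, ← under_map, MorphismProperty.RightFraction.map_eq_iff] at h4
    obtain ⟨Z, t₁, t₂, hs, hf, ht⟩ := h4
    dsimp [under] at t₁ t₂ hs hf ht
    have h5 : MorphismProperty.RightFractionRel z₁ z₂ := by
      refine ⟨⟨Z, hP _ ht (L'.objPreimage e₁).property⟩, ObjectProperty.homMk t₁,
        ObjectProperty.homMk t₂, ?_, ?_, ?_⟩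
      · ext
        exact hs
      · ext
        exact hf
      · exact ht
    have h6 : z₁.map L' hL' = z₂.map L' hL' :=
      (MorphismProperty.RightFraction.map_eq_iff L' (WP W P) z₁ z₂).2 h5
    have h7 : a₁.hom ≫ u ≫ a₂.inv = a₁.hom ≫ v ≫ a₂.inv := by rw [hz₁, hz₂, h6]
    simpa using h7
  exact ⟨hfull, hfaith⟩

end Groth.Agent.Lib.Helper11.LocFullSub
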