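import Mathlib

/-!
# Pullback squares in a localization with a calculus of right fractions (helper11)

Namespace `Groth.Agent.Lib.Helper11.LocPullback`.

Let `L : C ⥤ D` be a localization functor for `W` with a calculus of right fractions.

* `exists_common_denominator`: two morphisms `L.obj A ⟶ L.obj X`, `L.obj A ⟶ L.obj T` can be written
  as fractions with the same denominator.
* `isPullback_map`: a commutative square in `C` which is a "pullback up to `W`" (existence of lifts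
  after precomposing with a morphism of `W`, uniqueness of lifts after applying `L`) is mapped by `L`
  to a pullback square.
* `isTerminal_map`: `L` maps a terminal object to a terminal object.
* `hasPullbacks`: if every cospan in `C` can be completed to a square as in `isPullback_map`,
  then `D` has pullbacks.
-/

set_option autoImplicit false
set_option linter.style.haveILetI false
open CategoryTheory CategoryTheory.Limits

namespace Groth.Agent.Lib.Helper11.LocPullback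
universe v₁ v₂ u₁ u₂
variable {C : Type u₁} {D : Type u₂} [Category.{v₁} C] [Category.{v₂} D] (L : C ⥤ D)
  (W : MorphismProperty C) [L.IsLocalization W] [W.HasRightCalculusOfFractions]

theorem exists_common_denominator {A X T : C} (α : L.obj A ⟶ L.obj X) (β : L.obj A ⟶ L.obj T) :
    ∃ (A' : C) (r : A' ⟶ A) (_ : W r) (a : A' ⟶ X) (b : A' ⟶ T),
      L.map r ≫ α = L.map a ∧ L.map r ≫ β = L.map b := by
  obtain ⟨φ₁, rfl⟩ := Localization.exists_rightFraction L W α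
  obtain ⟨φ₂, rfl⟩ := Localization.exists_rightFraction L W β
  obtain ⟨ρ, hρ⟩ := (MorphismProperty.LeftFraction.mk φ₁.s φ₂.s φ₂.hs).exists_rightFraction
  dsimp at hρ
  refine ⟨ρ.X', ρ.s ≫ φ₁.s, W.comp_mem _ _ ρ.hs φ₁.hs, ρ.s ≫ φ₁.f, ρ.f ≫ φ₂.f, ?_, ?_⟩
  · rw [L.map_comp, L.map_comp, Category.assoc, MorphismProperty.RightFraction.map_s_comp_map]
  · rw [hρ, L.map_comp, L.map_comp, Category.assoc, MorphismProperty.RightFraction.map_s_comp_map]

section Pullback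

variable {Z X T P : C} (p₁ : Z ⟶ X) (p₂ : Z ⟶ T) (f : X ⟶ P) (g : T ⟶ P)

include W in
theorem exists_lift
    (hE : ∀ (A : C) (a : A ⟶ X) (b : A ⟶ T), a ≫ f = b ≫ g →
      ∃ (A' : C) (r : A' ⟶ A) (_ : W r) (c : A' ⟶ Z), c ≫ p₁ = r ≫ a ∧ c ≫ p₂ = r ≫ b)
    {A : C} (α : L.obj A ⟶ L.obj X) (β : L.obj A ⟶ L.obj T)
    (h : α ≫ L.map f = β ≫ L.map g) :
    ∃ γ : L.obj A ⟶ L.obj Z, γ ≫ L.map p₁ = α ∧ γ ≫ L.map p₂ = β := by
  obtain ⟨A₁, r, hr, a, b, ha, hb⟩ := exists_common_denominator L W α β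
  have e1 : L.map (a ≫ f) = L.map (b ≫ g) := by
    rw [L.map_comp, L.map_comp, ← ha, ← hb, Category.assoc, Category.assoc, h]
  obtain ⟨A₂, s, hs, hsab⟩ := (MorphismProperty.map_eq_iff_precomp L W _ _).1 e1
  obtain ⟨A₃, t, ht, c, hc1, hc2⟩ := hE A₂ (s ≫ a) (s ≫ b)
    (by rw [Category.assoc, Category.assoc]; exact hsab)
  have hρ : W (t ≫ s ≫ r) := W.comp_mem _ _ ht (W.comp_mem _ _ hs hr)
  haveI : IsIso (L.map (t ≫ s ≫ r)) := Localization.inverts L W _ hρ
  refine ⟨inv (L.map (t ≫ s ≫ r)) ≫ L.map c, ?_, ?_⟩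
  · rw [Category.assoc, IsIso.inv_comp_eq, ← L.map_comp, hc1, L.map_comp, L.map_comp,
      L.map_comp, L.map_comp, Category.assoc, Category.assoc, ha]
  · rw [Category.assoc, IsIso.inv_comp_eq, ← L.map_comp, hc2, L.map_comp, L.map_comp,
      L.map_comp, L.map_comp, Category.assoc, Category.assoc, hb]

include W in
theorem lift_unique
    (hU : ∀ (A : C) (c₁ c₂ : A ⟶ Z), c₁ ≫ p₁ = c₂ ≫ p₁ → c₁ ≫ p₂ = c₂ ≫ p₂ →
      L.map c₁ = L.map c₂)
    {A : C} (γ₁ γ₂ : L.obj A ⟶ L.obj Z)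
    (h1 : γ₁ ≫ L.map p₁ = γ₂ ≫ L.map p₁) (h2 : γ₁ ≫ L.map p₂ = γ₂ ≫ L.map p₂) : γ₁ = γ₂ := by
  obtain ⟨A₁, r, hr, c₁, c₂, hc₁, hc₂⟩ := exists_common_denominator L W γ₁ γ₂
  haveI : IsIso (L.map r) := Localization.inverts L W _ hr
  have e1 : L.map (c₁ ≫ p₁) = L.map (c₂ ≫ p₁) := by
    rw [L.map_comp, L.map_comp, ← hc₁, ← hc₂, Category.assoc, Category.assoc, h1]
  obtain ⟨A₂, s₁, hs₁, hs₁c⟩ := (MorphismProperty.map_eq_iff_precomp L W _ _).1 e1
  have e2 : L.map (s₁ ≫ c₁ ≫ p₂) = L.map (s₁ ≫ c₂ ≫ p₂) := by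
    rw [L.map_comp, L.map_comp, L.map_comp, L.map_comp, ← hc₁, ← hc₂, Category.assoc,
      Category.assoc, h2]
  obtain ⟨A₃, s₂, hs₂, hs₂c⟩ := (MorphismProperty.map_eq_iff_precomp L W _ _).1 e2
  have e3 : L.map ((s₂ ≫ s₁) ≫ c₁) = L.map ((s₂ ≫ s₁) ≫ c₂) := by
    apply hU
    · simp only [Category.assoc]
      rw [hs₁c]
    · simp only [Category.assoc]
      exact hs₂c
  haveI : IsIso (L.map (s₂ ≫ s₁)) :=
    Localization.inverts L W _ (W.comp_mem _ _ hs₂ hs₁)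
  rw [L.map_comp (s₂ ≫ s₁) c₁, L.map_comp (s₂ ≫ s₁) c₂, cancel_epi] at e3
  rw [← cancel_epi (L.map r), hc₁, hc₂, e3]

include W in
theorem existsUnique_lift
    (hE : ∀ (A : C) (a : A ⟶ X) (b : A ⟶ T), a ≫ f = b ≫ g →
      ∃ (A' : C) (r : A' ⟶ A) (_ : W r) (c : A' ⟶ Z), c ≫ p₁ = r ≫ a ∧ c ≫ p₂ = r ≫ b)
    (hU : ∀ (A : C) (c₁ c₂ : A ⟶ Z), c₁ ≫ p₁ = c₂ ≫ p₁ → c₁ ≫ p₂ = c₂ ≫ p₂ →
      L.map c₁ = L.map c₂)
    (Y : D) (α : Y ⟶ L.obj X) (β : Y ⟶ L.obj T) (h : α ≫ L.map f = β ≫ L.map g) :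
    ∃ γ : Y ⟶ L.obj Z, (γ ≫ L.map p₁ = α ∧ γ ≫ L.map p₂ = β) ∧
      ∀ γ' : Y ⟶ L.obj Z, γ' ≫ L.map p₁ = α → γ' ≫ L.map p₂ = β → γ' = γ := by
  have := Localization.essSurj L W
  obtain ⟨A, ⟨e⟩⟩ : ∃ A, Nonempty (L.obj A ≅ Y) := ⟨L.objPreimage Y, ⟨L.objObjPreimageIso Y⟩⟩
  obtain ⟨γ, hγ1, hγ2⟩ := exists_lift L W p₁ p₂ f g hE (e.hom ≫ α) (e.hom ≫ β)
    (by rw [Category.assoc, Category.assoc, h])
  refine ⟨e.inv ≫ γ, ⟨by rw [Category.assoc, hγ1, Iso.inv_hom_id_assoc],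
    by rw [Category.assoc, hγ2, Iso.inv_hom_id_assoc]⟩, fun γ' h1 h2 => ?_⟩
  have := lift_unique L W p₁ p₂ hU (e.hom ≫ γ') γ
    (by rw [Category.assoc, h1, hγ1]) (by rw [Category.assoc, h2, hγ2])
  rw [← this, Iso.inv_hom_id_assoc]

include W in
/-- A commutative square in `C` which is a pullback "up to `W`" is sent to a pullback square by
the localization functor. -/
theorem isPullback_map (w : p₁ ≫ f = p₂ ≫ g)
    (hE : ∀ (A : C) (a : A ⟶ X) (b : A ⟶ T), a ≫ f = b ≫ g →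
      ∃ (A' : C) (r : A' ⟶ A) (_ : W r) (c : A' ⟶ Z), c ≫ p₁ = r ≫ a ∧ c ≫ p₂ = r ≫ b)
    (hU : ∀ (A : C) (c₁ c₂ : A ⟶ Z), c₁ ≫ p₁ = c₂ ≫ p₁ → c₁ ≫ p₂ = c₂ ≫ p₂ →
      L.map c₁ = L.map c₂) :
    IsPullback (L.map p₁) (L.map p₂) (L.map f) (L.map g) := by
  have w' : L.map p₁ ≫ L.map f = L.map p₂ ≫ L.map g := by
    rw [← L.map_comp, ← L.map_comp, w]
  refine ⟨⟨w'⟩, ⟨PullbackCone.IsLimit.mk w'
    (fun s => (existsUnique_lift L W p₁ p₂ f g hE hU s.pt s.fst s.snd s.condition).choose)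
    (fun s => (existsUnique_lift L W p₁ p₂ f g hE hU s.pt s.fst s.snd
      s.condition).choose_spec.1.1)
    (fun s => (existsUnique_lift L W p₁ p₂ f g hE hU s.pt s.fst s.snd
      s.condition).choose_spec.1.2)
    (fun s m h1 h2 => (existsUnique_lift L W p₁ p₂ f g hE hU s.pt s.fst s.snd
      s.condition).choose_spec.2 m h1 h2)⟩⟩

end Pullback

include W in
/-- `L` maps a terminal object to a terminal object. -/
theorem isTerminal_map {pt : C} (hpt : IsTerminal pt) : Nonempty (IsTerminal (L.obj pt)) := by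
  have := Localization.essSurj L W
  have key : ∀ (A : C) (α : L.obj A ⟶ L.obj pt), α = L.map (hpt.from A) := by
    intro A α
    obtain ⟨φ, rfl⟩ := Localization.exists_rightFraction L W α
    haveI : IsIso (L.map φ.s) := Localization.inverts L W _ φ.hs
    rw [← cancel_epi (L.map φ.s), MorphismProperty.RightFraction.map_s_comp_map, ← L.map_comp]
    congr 1
    exact hpt.hom_ext _ _
  refine ⟨IsTerminal.ofUniqueHom
    (fun Y => (L.objObjPreimageIso Y).inv ≫ L.map (hpt.from (L.objPreimage Y))) ?_⟩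
  intro Y m
  rw [Iso.eq_inv_comp]
  exact key _ _

include W in
/-- If every cospan in `C` can be completed to a square that `L` maps to a pullback square, then
the localized category has pullbacks. -/
theorem hasPullbacks
    (H : ∀ {X T P : C} (f : X ⟶ P) (g : T ⟶ P), ∃ (Z : C) (p₁ : Z ⟶ X) (p₂ : Z ⟶ T),
      IsPullback (L.map p₁) (L.map p₂) (L.map f) (L.map g)) : HasPullbacks D := by
  have := Localization.essSurj L W
  haveI : ∀ {X' T' P' : D} {f : X' ⟶ P'} {g : T' ⟶ P'}, HasLimit (cospan f g) := by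
    intro X' T' P' f g
    obtain ⟨φ, hφ⟩ := Localization.exists_rightFraction L W
      ((L.objObjPreimageIso X').hom ≫ f ≫ (L.objObjPreimageIso P').inv)
    obtain ⟨ψ, hψ⟩ := Localization.exists_rightFraction L W
      ((L.objObjPreimageIso T').hom ≫ g ≫ (L.objObjPreimageIso P').inv)
    haveI : IsIso (L.map φ.s) := Localization.inverts L W _ φ.hs
    haveI : IsIso (L.map ψ.s) := Localization.inverts L W _ ψ.hs
    obtain ⟨Z, p₁, p₂, hp⟩ := H φ.f ψ.f
    haveI : HasLimit (cospan (L.map φ.f) (L.map ψ.f)) := ⟨⟨⟨_, hp.isLimit⟩⟩⟩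
    refine hasLimit_of_iso (F := cospan (L.map φ.f) (L.map ψ.f))
      (cospanExt (asIso (L.map φ.s) ≪≫ L.objObjPreimageIso X')
      (asIso (L.map ψ.s) ≪≫ L.objObjPreimageIso T') (L.objObjPreimageIso P') ?_ ?_)
    · have := MorphismProperty.RightFraction.map_s_comp_map φ L (Localization.inverts L W)
      rw [← hφ] at this
      rw [← this]
      simp
    · have := MorphismProperty.RightFraction.map_s_comp_map ψ L (Localization.inverts L W)
      rw [← hψ] at this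
      rw [← this]
      simp
  exact hasPullbacks_of_hasLimit_cospan D

end Groth.Agent.Lib.Helper11.LocPullback
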