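import Mathlib
import Groth.Prelude
import Groth.Agent.Lib.Helper11MixNorm4
import Groth.Agent.Lib.Helper18FinFlat3
set_option backward.isDefEq.respectTransparency.types false

/-!
# Mixed norms V : ampleness descends along finite surjective morphisms onto reduced Noetherian schemes whose points
are normal or have a neighbourhood over which the direct image of the structure sheaf is locally free (helper11)

Namespace `Groth.Agent.Lib.Helper11.MixNorm`.
-/

set_option autoImplicit false
set_option linter.style.haveILetI false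
universe u
open CategoryTheory Limits AlgebraicGeometry TopologicalSpace Opposite

namespace Groth.Agent.Lib.Helper11.MixNorm

open Groth.Agent.Helper18Trace Groth.Agent.Helper18Norm Groth.Agent.Helper18FinFlat

variable {X X' : Scheme.{u}} (g : X' ⟶ X) [IsFinite g]

/-- a point with a neighbourhood over which `g_* O` is finite locally free has a good neighbourhood -/
theorem exists_isGoodN_of_isFinLocFree (x : X) (T : X.Opens) (hxT : x ∈ T)
    (hfree : FlatMod.IsFinLocFree (((Coh.push g).obj (Coh.structureModule X')).restrict T.ι)) :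
    ∃ (n : ℕ) (W : X.Opens), IsGoodN (RelSpec.QCAlg.directImage g) n W ∧ x ∈ W := by
  obtain ⟨U₀, n, hy₀, ⟨e⟩⟩ := hfree ⟨x, hxT⟩
  let e' : ((Coh.push g).obj (Coh.structureModule X')).restrict (U₀.ι ≫ T.ι) ≅ FlatMod.freeMod (↑U₀) n :=
    (Scheme.Modules.restrictFunctorComp U₀.ι T.ι).app _ ≪≫ e
  obtain ⟨W₀, hW₀, hxW₀, ⟨b₀⟩⟩ := exists_affine_basis_of_restrict_iso_freeMod' _ (U₀.ι ≫ T.ι) e' ⟨⟨x, hxT⟩, hy₀⟩
  letI := alg (RelSpec.QCAlg.directImage g) W₀
  let b₀' : Module.Basis (Fin n) Γ(X, W₀) ((RelSpec.QCAlg.directImage g).presheaf.obj (op W₀)) :=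
    b₀.map (pushEquiv g W₀)
  exact ⟨n, W₀, ⟨hW₀, ⟨b₀'⟩⟩, hxW₀⟩

/-- **EGA II 6.6 (mixed case)**: `g` finite surjective onto a reduced Noetherian scheme each point of which is
normal or has a neighbourhood over which `g_* O` is locally free; if `g^* L` is ample then `L` is ample -/
theorem isAmple_of_isAmple_pullback_of_normal_or_free [IsNoetherian X] [IsReduced X] [Surjective g]
    (hW : ∀ x : X, (IsDomain (X.presheaf.stalk x) ∧ IsIntegrallyClosed (X.presheaf.stalk x)) ∨
      ∃ T : X.Opens, x ∈ T ∧ FlatMod.IsFinLocFree (((Coh.push g).obj (Coh.structureModule X')).restrict T.ι))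
    (L : X.Modules) (hL : PicF.IsInvertible L)
    (hL' : CohB1.IsAmple ((Scheme.Modules.pullback g).obj L)) : CohB1.IsAmple L := by
  have hpt : ∀ x : X, NormalOrGood (RelSpec.QCAlg.directImage g) x := by
    intro x
    rcases hW x with h | ⟨T, hxT, hfree⟩
    · exact Or.inl h
    · exact Or.inr (exists_isGoodN_of_isFinLocFree g x T hxT hfree)
  obtain ⟨D, ⟨N⟩⟩ := exists_wnorm g hpt
  exact isAmple_of_isAmple_pullback_of_wnorm g N L hL hL'

end Groth.Agent.Lib.Helper11.MixNorm
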