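import Mathlib
import Groth.Agent.Lib.Helper22NA13

/-!
# Cofiltered limits of schemes with affine, scheme-theoretically dominant transition maps (helper11)

Namespace `Groth.Agent.Lib.Helper11.ModLim`.

* `ker_π_app_eq_bot`: the projections from the limit are scheme-theoretically dominant.
* `exists_π_app_comp_eq_of_dominant`: for `X` of finite type (not necessarily of finite presentation)
  qcqs over a quasi-separated `S`, every `S`-morphism from the limit to `X` factors through a stage.
* `overD`, `overT`, `overIsLimit`: translation of diagrams in `Over S` to diagrams in `Scheme`.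
-/

set_option autoImplicit false
set_option linter.style.haveILetI false
universe u
open CategoryTheory CategoryTheory.Limits AlgebraicGeometry

namespace Groth.Agent.Lib.Helper11.ModLim

section Sch
variable {I : Type u} [Category.{u} I] [IsCofiltered I] {S : Scheme.{u}} (D : I ⥤ Scheme.{u})
  (t : D ⟶ (Functor.const I).obj S) (c : Cone D) (hc : IsLimit c)
  [∀ {i j : I} (f : i ⟶ j), IsAffineHom (D.map f)]

include hc in
theorem ker_π_app_eq_bot [∀ {i j : I} (f : i ⟶ j), IsSchemeTheoreticallyDominant (D.map f)]
    [∀ i, CompactSpace (D.obj i)] [∀ i, QuasiSeparatedSpace (D.obj i)] (i : I) :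
    (c.π.app i).ker = ⊥ := by
  haveI := isAffineHom_π_app D c hc
  rw [eq_bot_iff]
  intro U
  rw [Scheme.Hom.ker_apply]
  intro s hs
  have hs' : (c.π.app i).app U.1 s = 0 := hs
  obtain ⟨j, f, hf⟩ := exists_app_map_eq_zero_of_isLimit D c hc U.2.isCompact s hs'
  have h0 : (D.map f).app U.1 s = (D.map f).app U.1 0 := by rw [hf, map_zero]
  have : s = 0 := Scheme.Hom.app_injective (D.map f) U.1 h0
  rw [this]
  exact Submodule.zero_mem _

include hc in
/-- Every `S`-morphism from the limit of a cofiltered system of qcqs schemes with affine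
scheme-theoretically dominant transition maps to a qcqs `S`-scheme of finite type factors through
a stage. -/
theorem exists_π_app_comp_eq_of_dominant
    [∀ {i j : I} (f : i ⟶ j), IsSchemeTheoreticallyDominant (D.map f)]
    [∀ i, CompactSpace (D.obj i)] [∀ i, QuasiSeparatedSpace (D.obj i)]
    {X : Scheme.{u}} (f : X ⟶ S) [LocallyOfFiniteType f] [CompactSpace X] [QuasiSeparatedSpace X]
    [QuasiSeparatedSpace S] (a : c.pt ⟶ X) (ha : c.π ≫ t = (Functor.const _).map (a ≫ f)) :
    ∃ (i : I) (g : D.obj i ⟶ X), c.π.app i ≫ g = a ∧ g ≫ f = t.app i := by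
  obtain ⟨X', f', j, hfp, hqc, hqs, -, -, hj, hjf⟩ :=
    Groth.Agent.Lib.Helper22.NA13.exists_closedImmersion_fp f
  have ha' : c.π ≫ t = (Functor.const _).map ((a ≫ j) ≫ f') := by
    rw [Category.assoc, hjf]
    exact ha
  obtain ⟨i, g', hg'1, hg'2⟩ :=
    Scheme.exists_π_app_comp_eq_of_locallyOfFinitePresentation D t f' c hc (a ≫ j) ha'
  have H : j.ker ≤ g'.ker := by
    calc j.ker ≤ (a ≫ j).ker := Scheme.Hom.le_ker_comp _ _
      _ = (c.π.app i ≫ g').ker := by rw [hg'1]
      _ = g'.ker := by
        rw [Scheme.Hom.ker_comp, ker_π_app_eq_bot D c hc i, Scheme.IdealSheafData.map_bot]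
  refine ⟨i, IsClosedImmersion.lift j g' H, ?_, ?_⟩
  · rw [← cancel_mono j, Category.assoc, IsClosedImmersion.lift_fac, hg'1]
  · rw [← hjf, ← Category.assoc, IsClosedImmersion.lift_fac, hg'2]

end Sch

section Over
variable {I : Type u} [Category.{u} I] [IsCofiltered I] {S : Scheme.{u}} (D : I ⥤ Over S)
  (c : Cone D) (hc : IsLimit c)

/-- the structure morphisms of a diagram in `Over S` -/
@[simps]
def overT : D ⋙ Over.forget S ⟶ (Functor.const I).obj S where
  app i := (D.obj i).hom
  naturality i j f := by
    dsimp
    rw [Over.w, Category.comp_id]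

/-- the forgetful functor preserves cofiltered limits -/
noncomputable def overIsLimit : IsLimit ((Over.forget S).mapCone c) := by
  haveI : IsConnected I := IsCofiltered.isConnected I
  exact isLimitOfPreserves (Over.forget S) hc

omit [IsCofiltered I] in
theorem overT_comm : ((Over.forget S).mapCone c).π ≫ overT D =
    (Functor.const _).map c.pt.hom := by
  ext i
  change (c.π.app i).left ≫ (D.obj i).hom = c.pt.hom
  exact Over.w _

end Over

end Groth.Agent.Lib.Helper11.ModLim
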