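import Mathlib
import Groth.Agent.Lib.Helper20EffCartier
import Groth.Agent.Lib.Helper2BlowDom
import Groth.Agent.S18747

/-!
# Descending inclusions of ideal sheaves along cofiltered limits of schemes (helper11)

Namespace `Groth.Agent.Lib.Helper11.ModLimB`.

* `exists_comap_le_of_isAffine`: for a cofiltered diagram of affine schemes with limit `c`, ideal
  sheaves `A` (finitely generated) and `K` on a stage `i₀` whose pullbacks to the limit satisfy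
  `A.comap π ≤ K.comap π` already satisfy `A.comap t ≤ K.comap t` for some transition map `t`.
* `exists_comap_le`: the same for a diagram of qcqs schemes with affine transition maps and `A`
  of finite type.
-/

set_option autoImplicit false
set_option linter.style.haveILetI false
universe u
open CategoryTheory CategoryTheory.Limits AlgebraicGeometry

namespace Groth.Agent.Lib.Helper11.ModLimB

open Scheme.IdealSheafData

theorem ideal_comap_top {X Y : Scheme.{u}} [IsAffine X] [IsAffine Y] (g : X ⟶ Y)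
    (K : Y.IdealSheafData) :
    (K.comap g).ideal ⟨⊤, isAffineOpen_top X⟩ =
      (K.ideal ⟨⊤, isAffineOpen_top Y⟩).map g.appTop.hom := by
  rw [Groth.Agent.Lib.Helper20.EffCartier.ideal_comap_eq_map g K (isAffineOpen_top X)
    (isAffineOpen_top Y) le_top]
  have e : g.appLE ⊤ ⊤ le_top = g.appTop := by
    rw [Scheme.Hom.appTop, Scheme.Hom.app_eq_appLE]
    rfl
  rw [e]

section Affine
variable {I : Type u} [Category.{u} I] [IsCofiltered I] (D : I ⥤ Scheme.{u}) (c : Cone D)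
  (hc : IsLimit c) [∀ i, IsAffine (D.obj i)]

omit [IsCofiltered I] [∀ i, IsAffine (D.obj i)] in
theorem π_appTop_map {j j' : I} (s : j' ⟶ j) (y : Γ(D.obj j, ⊤)) :
    (c.π.app j').appTop.hom ((D.map s).appTop.hom y) = (c.π.app j).appTop.hom y := by
  rw [← c.w s, Scheme.Hom.comp_appTop]
  rfl

omit [IsCofiltered I] [∀ i, IsAffine (D.obj i)] in
theorem mem_map_comp {i₀ j j' : I} (Ktop : Ideal Γ(D.obj i₀, ⊤)) (t : j ⟶ i₀) (s : j' ⟶ j)
    (y : Γ(D.obj j, ⊤)) (hy : y ∈ Ktop.map (D.map t).appTop.hom) :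
    (D.map s).appTop.hom y ∈ Ktop.map (D.map (s ≫ t)).appTop.hom := by
  have h1 : (D.map s).appTop.hom y ∈ (Ktop.map (D.map t).appTop.hom).map (D.map s).appTop.hom :=
    Ideal.mem_map_of_mem _ hy
  rw [Ideal.map_map] at h1
  rw [D.map_comp, Scheme.Hom.comp_appTop]
  exact h1

include hc in
theorem claim1 (i₀ : I) (Ktop : Ideal Γ(D.obj i₀, ⊤)) (x : Γ(c.pt, ⊤))
    (hx : x ∈ Ktop.map (c.π.app i₀).appTop.hom) :
    ∃ (j : I) (t : j ⟶ i₀) (y : Γ(D.obj j, ⊤)), y ∈ Ktop.map (D.map t).appTop.hom ∧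
      (c.π.app j).appTop.hom y = x := by
  unfold Ideal.map at hx
  induction hx using Submodule.span_induction with
  | mem x hx =>
    obtain ⟨κ, hκ, rfl⟩ := hx
    refine ⟨i₀, 𝟙 i₀, (D.map (𝟙 i₀)).appTop.hom κ, Ideal.mem_map_of_mem _ hκ, ?_⟩
    exact π_appTop_map D c (𝟙 i₀) κ
  | zero => exact ⟨i₀, 𝟙 i₀, 0, Submodule.zero_mem _, map_zero _⟩
  | add x₁ x₂ _ _ h₁ h₂ =>
    obtain ⟨j₁, t₁, y₁, hy₁, rfl⟩ := h₁
    obtain ⟨j₂, t₂, y₂, hy₂, rfl⟩ := h₂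
    obtain ⟨j, s₁, s₂, hs⟩ := IsCofiltered.cospan t₁ t₂
    refine ⟨j, s₁ ≫ t₁, (D.map s₁).appTop.hom y₁ + (D.map s₂).appTop.hom y₂,
      Ideal.add_mem _ (mem_map_comp D Ktop t₁ s₁ y₁ hy₁) ?_, ?_⟩
    · rw [hs]
      exact mem_map_comp D Ktop t₂ s₂ y₂ hy₂
    · rw [map_add, π_appTop_map, π_appTop_map]
  | smul r x _ h =>
    obtain ⟨j₂, t₂, y, hy, rfl⟩ := h
    obtain ⟨j₁, r', rfl⟩ := exists_appTop_π_eq_of_isAffine_of_isLimit D c hc r
    refine ⟨IsCofiltered.min j₁ j₂, IsCofiltered.minToRight j₁ j₂ ≫ t₂,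
      (D.map (IsCofiltered.minToLeft j₁ j₂)).appTop.hom r' *
        (D.map (IsCofiltered.minToRight j₁ j₂)).appTop.hom y,
      Ideal.mul_mem_left _ _ (mem_map_comp D Ktop t₂ _ y hy), ?_⟩
    rw [map_mul, π_appTop_map, π_appTop_map]
    rfl

include hc in
theorem claim2 (i₀ : I) (Ktop : Ideal Γ(D.obj i₀, ⊤)) (a : Γ(D.obj i₀, ⊤))
    (ha : (c.π.app i₀).appTop.hom a ∈ Ktop.map (c.π.app i₀).appTop.hom) :
    ∃ (j : I) (t : j ⟶ i₀), (D.map t).appTop.hom a ∈ Ktop.map (D.map t).appTop.hom := by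
  obtain ⟨j, t, y, hy, hxy⟩ := claim1 D c hc i₀ Ktop _ ha
  have h0 : (c.π.app j).appTop ((D.map t).appTop.hom a - y) = 0 := by
    change (c.π.app j).appTop.hom ((D.map t).appTop.hom a - y) = 0
    rw [map_sub, π_appTop_map, hxy, sub_self]
  obtain ⟨j', s, hs⟩ := exists_appTop_map_eq_zero_of_isAffine_of_isLimit D c hc j _ h0
  have hs' : (D.map s).appTop.hom ((D.map t).appTop.hom a) = (D.map s).appTop.hom y := by
    have : (D.map s).appTop.hom ((D.map t).appTop.hom a - y) = 0 := hs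
    rwa [map_sub, sub_eq_zero] at this
  refine ⟨j', s ≫ t, ?_⟩
  have h1 := mem_map_comp D Ktop t s y hy
  rw [← hs'] at h1
  have e : (D.map (s ≫ t)).appTop.hom a = (D.map s).appTop.hom ((D.map t).appTop.hom a) := by
    rw [D.map_comp, Scheme.Hom.comp_appTop]
    rfl
  rw [e]
  exact h1

include hc in
theorem claim3 (i₀ : I) (Ktop : Ideal Γ(D.obj i₀, ⊤)) (s : Finset Γ(D.obj i₀, ⊤))
    (hs : ∀ a ∈ s, (c.π.app i₀).appTop.hom a ∈ Ktop.map (c.π.app i₀).appTop.hom) :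
    ∃ (j : I) (t : j ⟶ i₀), ∀ a ∈ s, (D.map t).appTop.hom a ∈ Ktop.map (D.map t).appTop.hom := by
  classical
  induction s using Finset.induction_on with
  | empty => exact ⟨i₀, 𝟙 i₀, fun a ha => absurd ha (Finset.notMem_empty a)⟩
  | insert a s _ ih =>
    obtain ⟨j₁, t₁, h₁⟩ := ih (fun b hb => hs b (Finset.mem_insert_of_mem hb))
    obtain ⟨j₂, t₂, h₂⟩ := claim2 D c hc i₀ Ktop a (hs a (Finset.mem_insert_self a s))
    obtain ⟨j, s₁, s₂, hs12⟩ := IsCofiltered.cospan t₁ t₂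
    have key : ∀ {j' : I} (t : j' ⟶ i₀) (u : j ⟶ j') (b : Γ(D.obj i₀, ⊤)),
        (D.map t).appTop.hom b ∈ Ktop.map (D.map t).appTop.hom →
        (D.map (u ≫ t)).appTop.hom b ∈ Ktop.map (D.map (u ≫ t)).appTop.hom := by
      intro j' t u b hb
      have h1 := mem_map_comp D Ktop t u _ hb
      have e : (D.map (u ≫ t)).appTop.hom b = (D.map u).appTop.hom ((D.map t).appTop.hom b) := by
        rw [D.map_comp, Scheme.Hom.comp_appTop]
        rfl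
      rw [e]
      exact h1
    refine ⟨j, s₁ ≫ t₁, fun b hb => ?_⟩
    rcases Finset.mem_insert.1 hb with rfl | hb
    · rw [hs12]
      exact key t₂ s₂ b h₂
    · exact key t₁ s₁ b (h₁ b hb)

include hc in
/-- descending an inclusion of ideal sheaves along a cofiltered limit of affine schemes. -/
theorem exists_comap_le_of_isAffine (i₀ : I) (A K : (D.obj i₀).IdealSheafData)
    (hA : (A.ideal ⟨⊤, isAffineOpen_top _⟩).FG)
    (H : A.comap (c.π.app i₀) ≤ K.comap (c.π.app i₀)) :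
    ∃ (j : I) (t : j ⟶ i₀), A.comap (D.map t) ≤ K.comap (D.map t) := by
  haveI hcpt : IsAffine c.pt := Scheme.isAffine_of_isLimit c hc
  haveI : IsAffine (((Functor.const I).obj c.pt).obj i₀) := hcpt
  obtain ⟨s, hs⟩ := hA
  have H' := H ⟨⊤, isAffineOpen_top _⟩
  rw [ideal_comap_top, ideal_comap_top] at H'
  obtain ⟨j, t, ht⟩ := claim3 D c hc i₀ (K.ideal ⟨⊤, isAffineOpen_top _⟩) s (fun a ha => by
    apply H'
    apply Ideal.mem_map_of_mem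
    rw [← hs]
    exact Submodule.subset_span ha)
  refine ⟨j, t, le_of_isAffine ?_⟩
  rw [ideal_comap_top, ideal_comap_top, ← hs]
  change Ideal.map _ (Ideal.span _) ≤ _
  rw [Ideal.map_span, Ideal.span_le]
  rintro _ ⟨a, ha, rfl⟩
  exact ht a ha

end Affine

section Global
variable {I : Type u} [Category.{u} I] [IsCofiltered I] (D : I ⥤ Scheme.{u}) (c : Cone D)
  (hc : IsLimit c) [∀ {i j : I} (f : i ⟶ j), IsAffineHom (D.map f)]

omit [IsCofiltered I] [∀ {i j : I} (f : i ⟶ j), IsAffineHom (D.map f)] in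
/-- stability of the local inclusion under precomposition with a transition map -/
theorem comap_le_precomp {i₀ j j' : I} (A K : (D.obj i₀).IdealSheafData) (U : (D.obj i₀).Opens)
    (t : j ⟶ i₀) (s : j' ⟶ j)
    (h : (A.comap (D.map t)).comap (D.map t ⁻¹ᵁ U).ι ≤ (K.comap (D.map t)).comap (D.map t ⁻¹ᵁ U).ι) :
    (A.comap (D.map (s ≫ t))).comap (D.map (s ≫ t) ⁻¹ᵁ U).ι ≤
      (K.comap (D.map (s ≫ t))).comap (D.map (s ≫ t) ⁻¹ᵁ U).ι := by
  have hle : D.map (s ≫ t) ⁻¹ᵁ U ≤ D.map s ⁻¹ᵁ (D.map t ⁻¹ᵁ U) := by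
    rw [D.map_comp, Scheme.Hom.comp_preimage]
  have e : (D.map (s ≫ t) ⁻¹ᵁ U).ι ≫ D.map (s ≫ t) =
      ((D.map s).resLE (D.map t ⁻¹ᵁ U) (D.map (s ≫ t) ⁻¹ᵁ U) hle ≫ (D.map t ⁻¹ᵁ U).ι) ≫ D.map t := by
    rw [Scheme.Hom.resLE_comp_ι, Category.assoc, D.map_comp]
  have key : ∀ L : (D.obj i₀).IdealSheafData,
      (L.comap (D.map (s ≫ t))).comap (D.map (s ≫ t) ⁻¹ᵁ U).ι =
        ((L.comap (D.map t)).comap (D.map t ⁻¹ᵁ U).ι).comap
          ((D.map s).resLE (D.map t ⁻¹ᵁ U) (D.map (s ≫ t) ⁻¹ᵁ U) hle) := by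
    intro L
    rw [← comap_comp, e, comap_comp, comap_comp]
  rw [key A, key K]
  exact comap_mono _ h

omit [IsCofiltered I] [∀ {i j : I} (f : i ⟶ j), IsAffineHom (D.map f)] in
theorem comap_comap_eq {W X Y Z : Scheme.{u}} (L : Z.IdealSheafData) (f : W ⟶ X) (g : X ⟶ Z)
    (f' : W ⟶ Y) (g' : Y ⟶ Z) (h : f ≫ g = f' ≫ g') :
    (L.comap g).comap f = (L.comap g').comap f' := by
  rw [← comap_comp, ← comap_comp, h]

include hc in
/-- local version over an affine open of the stage `i₀` -/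
theorem exists_comap_le_on_affineOpen (i₀ : I) (A K : (D.obj i₀).IdealSheafData)
    (hA : BlowUp.IsFiniteTypeIdeal A)
    (H : A.comap (c.π.app i₀) ≤ K.comap (c.π.app i₀)) (U : (D.obj i₀).Opens)
    (hU : IsAffineOpen U) :
    ∃ (j : I) (t : j ⟶ i₀), (A.comap (D.map t)).comap (D.map t ⁻¹ᵁ U).ι ≤
      (K.comap (D.map t)).comap (D.map t ⁻¹ᵁ U).ι := by
  haveI : ∀ j : Over i₀, IsAffine ((opensDiagram D i₀ U).obj j) :=
    fun j => hU.preimage (D.map j.hom)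
  haveI : IsAffine ↑(D.map (𝟙 i₀) ⁻¹ᵁ U) := hU.preimage (D.map (𝟙 i₀))
  have hA' : ((A.comap (D.map (𝟙 i₀) ⁻¹ᵁ U).ι).ideal ⟨⊤, isAffineOpen_top _⟩).FG :=
    Groth.Agent.Lib.Helper2.BlowDom.isFiniteTypeIdeal_comap _ hA ⟨⊤, isAffineOpen_top _⟩
  have e : (opensCone D c i₀ U).π.app (Over.mk (𝟙 i₀)) ≫ (D.map (𝟙 i₀) ⁻¹ᵁ U).ι =
      (c.π.app i₀ ⁻¹ᵁ U).ι ≫ c.π.app i₀ := Scheme.Hom.resLE_comp_ι _ _
  have eA := comap_comap_eq A ((opensCone D c i₀ U).π.app (Over.mk (𝟙 i₀)))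
    (D.map (𝟙 i₀) ⁻¹ᵁ U).ι (c.π.app i₀ ⁻¹ᵁ U).ι (c.π.app i₀) e
  have eK := comap_comap_eq K ((opensCone D c i₀ U).π.app (Over.mk (𝟙 i₀)))
    (D.map (𝟙 i₀) ⁻¹ᵁ U).ι (c.π.app i₀ ⁻¹ᵁ U).ι (c.π.app i₀) e
  have H' := le_of_eq_of_le eA (le_of_le_of_eq (comap_mono (c.π.app i₀ ⁻¹ᵁ U).ι H) eK.symm)
  obtain ⟨j, f, hf⟩ := exists_comap_le_of_isAffine (opensDiagram D i₀ U) (opensCone D c i₀ U)
    (isLimitOpensCone D c hc i₀ U) (Over.mk (𝟙 i₀)) (A.comap (D.map (𝟙 i₀) ⁻¹ᵁ U).ι)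
    (K.comap (D.map (𝟙 i₀) ⁻¹ᵁ U).ι) hA' H'
  have hfl : f.left = j.hom := by simpa using Over.w f
  refine ⟨j.left, j.hom, ?_⟩
  have hle : D.map j.hom ⁻¹ᵁ U ≤ D.map f.left ⁻¹ᵁ (D.map (𝟙 i₀) ⁻¹ᵁ U) := by
    rw [← Scheme.Hom.comp_preimage, ← D.map_comp]
    change D.map j.hom ⁻¹ᵁ U ≤ D.map (f.left ≫ (Over.mk (𝟙 i₀)).hom) ⁻¹ᵁ U
    rw [Over.w f]
  have e2 : (D.map f.left).resLE (D.map (𝟙 i₀) ⁻¹ᵁ U) (D.map j.hom ⁻¹ᵁ U) hle ≫
      (D.map (𝟙 i₀) ⁻¹ᵁ U).ι = (D.map j.hom ⁻¹ᵁ U).ι ≫ D.map j.hom := by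
    rw [Scheme.Hom.resLE_comp_ι, hfl]
  have eA2 := comap_comap_eq A ((D.map f.left).resLE (D.map (𝟙 i₀) ⁻¹ᵁ U) (D.map j.hom ⁻¹ᵁ U) hle)
    (D.map (𝟙 i₀) ⁻¹ᵁ U).ι (D.map j.hom ⁻¹ᵁ U).ι (D.map j.hom) e2
  have eK2 := comap_comap_eq K ((D.map f.left).resLE (D.map (𝟙 i₀) ⁻¹ᵁ U) (D.map j.hom ⁻¹ᵁ U) hle)
    (D.map (𝟙 i₀) ⁻¹ᵁ U).ι (D.map j.hom ⁻¹ᵁ U).ι (D.map j.hom) e2
  exact le_of_eq_of_le eA2.symm (le_of_le_of_eq hf eK2)

include hc in
/-- descending an inclusion of ideal sheaves along a cofiltered limit of quasi-compact schemes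
with affine transition maps. -/
theorem exists_comap_le [∀ i, CompactSpace (D.obj i)] (i₀ : I) (A K : (D.obj i₀).IdealSheafData)
    (hA : BlowUp.IsFiniteTypeIdeal A)
    (H : A.comap (c.π.app i₀) ≤ K.comap (c.π.app i₀)) :
    ∃ (j : I) (t : j ⟶ i₀), A.comap (D.map t) ≤ K.comap (D.map t) := by
  classical
  have hx : ∀ x : D.obj i₀, ∃ U : (D.obj i₀).Opens, IsAffineOpen U ∧ x ∈ U := by
    intro x
    obtain ⟨_, ⟨U, hU, rfl⟩, hxU, -⟩ :=
      (D.obj i₀).isBasis_affineOpens.exists_subset_of_mem_open (Set.mem_univ x) isOpen_univ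
    exact ⟨U, hU, hxU⟩
  choose U hU hxU using hx
  obtain ⟨T, hT⟩ := CompactSpace.elim_nhds_subcover (fun x => (U x : Set (D.obj i₀)))
    (fun x => (U x).2.mem_nhds (hxU x))
  choose j t ht using fun x : T =>
    exists_comap_le_on_affineOpen D c hc i₀ A K hA H (U x.1) (hU x.1)
  obtain ⟨k, fk, g, hg⟩ := IsCofiltered.wideCospan t
  refine ⟨k, fk, ?_⟩
  refine Groth.Agent.S18747.le_of_comap_le (σ := T)
    (fun x => ((D.map fk ⁻¹ᵁ U x.1 : (D.obj k).Opens) : Scheme.{u}))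
    (fun x => (D.map fk ⁻¹ᵁ U x.1).ι) ?_ _ _ ?_
  · intro z
    have hz : (D.map fk) z ∈ (⊤ : Set (D.obj i₀)) := Set.mem_univ _
    rw [← hT] at hz
    obtain ⟨x, hxT, hzx⟩ := Set.mem_iUnion₂.1 hz
    exact ⟨⟨x, hxT⟩, ⟨z, hzx⟩, rfl⟩
  · intro x
    have h1 := comap_le_precomp D A K (U x.1) (t x) (g x) (ht x)
    rw [hg x] at h1
    exact h1

end Global

end Groth.Agent.Lib.Helper11.ModLimB
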