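import Mathlib.LinearAlgebra.Matrix.ToLin
import Mathlib.LinearAlgebra.Matrix.Symmetric
import Mathlib.Algebra.Order.Field.Basic
import Mathlib.Algebra.Order.BigOperators.Ring.Finset
import Mathlib.Tactic

/-!
Negative semi-definiteness of a symmetric matrix with non-negative off-diagonal entries
which kills a positive vector (the intersection matrix of a numerical type).
-/

namespace Groth.Agent.Lib.Helper11

open Finset

variable {K : Type*} [Field K] [LinearOrder K] [IsStrictOrderedRing K]
variable {ι : Type*} [Fintype ι]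

/-- The key identity: `x^t A x = -(1/2) Σ a_ij m_i m_j (x_i/m_i - x_j/m_j)^2`. -/
theorem quadForm_identity (A : Matrix ι ι K) (m : ι → K) (hsymm : A.IsSymm)
    (hm : ∀ i, m i ≠ 0) (hAm : A.mulVec m = 0) (x : ι → K) :
    ∑ i, ∑ j, A i j * x i * x j =
      -(1/2) * ∑ i, ∑ j, A i j * m i * m j * (x i / m i - x j / m j) ^ 2 := by
  have hrow : ∀ i, ∑ j, A i j * m j = 0 := by
    intro i
    have := congrFun hAm i
    simpa [Matrix.mulVec, dotProduct] using this
  have hcol : ∀ j, ∑ i, A i j * m i = 0 := by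
    intro j
    have := hrow j
    rw [← this]
    refine Finset.sum_congr rfl fun i _ => ?_
    rw [hsymm.apply]
  have e : ∀ i j, A i j * m i * m j * (x i / m i - x j / m j) ^ 2 =
      (x i ^ 2 / m i) * (A i j * m j) - 2 * (A i j * x i * x j) + (x j ^ 2 / m j) * (A i j * m i) := by
    intro i j
    have hi := hm i
    have hj := hm j
    field_simp
    ring
  have s1 : ∑ i, ∑ j, (x i ^ 2 / m i) * (A i j * m j) = 0 := by
    refine Finset.sum_eq_zero fun i _ => ?_
    rw [← Finset.mul_sum, hrow, mul_zero]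
  have s3 : ∑ i, ∑ j, (x j ^ 2 / m j) * (A i j * m i) = 0 := by
    rw [Finset.sum_comm]
    refine Finset.sum_eq_zero fun j _ => ?_
    rw [← Finset.mul_sum, hcol, mul_zero]
  have hsum : ∑ i, ∑ j, A i j * m i * m j * (x i / m i - x j / m j) ^ 2 =
      ∑ i, ∑ j, (x i ^ 2 / m i) * (A i j * m j) - 2 * ∑ i, ∑ j, A i j * x i * x j +
        ∑ i, ∑ j, (x j ^ 2 / m j) * (A i j * m i) := by
    simp only [e, Finset.sum_add_distrib, Finset.sum_sub_distrib, Finset.mul_sum]
  rw [hsum, s1, s3]
  ring

theorem quadForm_nonpos (A : Matrix ι ι K) (m : ι → K) (hsymm : A.IsSymm)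
    (hA : ∀ i j, i ≠ j → 0 ≤ A i j) (hm : ∀ i, 0 < m i) (hAm : A.mulVec m = 0) (x : ι → K) :
    ∑ i, ∑ j, A i j * x i * x j ≤ 0 := by
  rw [quadForm_identity A m hsymm (fun i => (hm i).ne') hAm x]
  have : 0 ≤ ∑ i, ∑ j, A i j * m i * m j * (x i / m i - x j / m j) ^ 2 := by
    refine Finset.sum_nonneg fun i _ => Finset.sum_nonneg fun j _ => ?_
    by_cases hij : i = j
    · subst hij; simp
    · have := hA i j hij
      have := hm i
      have := hm j
      positivity
  linarith

theorem quadForm_eq_zero_imp (A : Matrix ι ι K) (m : ι → K) (hsymm : A.IsSymm)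
    (hA : ∀ i j, i ≠ j → 0 ≤ A i j) (hm : ∀ i, 0 < m i) (hAm : A.mulVec m = 0)
    (hconn : ∀ I : Finset ι, I.Nonempty → I ≠ univ → ∃ i ∈ I, ∃ j ∉ I, A i j ≠ 0)
    (x : ι → K) (h0 : ∑ i, ∑ j, A i j * x i * x j = 0) (i j : ι) :
    x i / m i = x j / m j := by
  rw [quadForm_identity A m hsymm (fun i => (hm i).ne') hAm x] at h0
  have hnn : ∀ i ∈ (univ : Finset ι), 0 ≤ ∑ j, A i j * m i * m j * (x i / m i - x j / m j) ^ 2 := by
    intro i _
    refine Finset.sum_nonneg fun j _ => ?_
    by_cases hij : i = j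
    · subst hij; simp
    · have := hA i j hij
      have := hm i
      have := hm j
      positivity
  have hz : ∑ i, ∑ j, A i j * m i * m j * (x i / m i - x j / m j) ^ 2 = 0 := by
    have : (-(1/2) : K) ≠ 0 := by norm_num
    exact (mul_eq_zero.mp h0).resolve_left this
  have hz' := (Finset.sum_eq_zero_iff_of_nonneg hnn).mp hz
  have hterm : ∀ i j, A i j * m i * m j * (x i / m i - x j / m j) ^ 2 = 0 := by
    intro i j
    have hnn2 : ∀ j ∈ (univ : Finset ι), 0 ≤ A i j * m i * m j * (x i / m i - x j / m j) ^ 2 := by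
      intro j _
      by_cases hij : i = j
      · subst hij; simp
      · have := hA i j hij
        have := hm i
        have := hm j
        positivity
    exact (Finset.sum_eq_zero_iff_of_nonneg hnn2).mp (hz' i (mem_univ _)) j (mem_univ _)
  have hedge : ∀ i j, A i j ≠ 0 → x i / m i = x j / m j := by
    intro i j hne
    have h := hterm i j
    have h1 : A i j * m i * m j ≠ 0 := mul_ne_zero (mul_ne_zero hne (hm i).ne') (hm j).ne'
    have h2 := (mul_eq_zero.mp h).resolve_left h1
    have h3 := pow_eq_zero_iff (two_ne_zero) |>.mp h2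
    exact sub_eq_zero.mp h3
  -- connectivity
  by_contra hne
  let I : Finset ι := univ.filter fun k => x k / m k = x i / m i
  have hI : I.Nonempty := ⟨i, by simp [I]⟩
  have hI' : I ≠ univ := by
    intro h
    have : j ∈ I := h ▸ mem_univ j
    simp only [I, mem_filter, mem_univ, true_and] at this
    exact hne this.symm
  obtain ⟨k, hk, l, hl, hkl⟩ := hconn I hI hI'
  simp only [I, mem_filter, mem_univ, true_and] at hk hl
  exact hl ((hedge k l hkl).symm.trans hk)

end Groth.Agent.Lib.Helper11
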