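import Groth.Prelude.Def_Models
import Groth.Agent.Lib.Helper11QuadForm

/-!
Basic toolkit for numerical types: the intersection form is negative semi-definite,
Cartan integers `kk`, and the "no subharmonic vector" criterion on proper subsets.
-/

namespace Groth.Agent.Lib.Helper11

open Finset Models

variable {n : ℕ} (T : Models.NumericalType n)

theorem a_symm (i j : Fin n) : T.a i j = T.a j i := T.symm.apply j i

theorem row_sum (i : Fin n) : ∑ j, T.a i j * T.m j = 0 := by
  have := congrFun T.mulVec_m i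
  simpa [Matrix.mulVec, dotProduct] using this

/-- the quadratic form of a numerical type -/
def qf (x : Fin n → ℤ) : ℤ := ∑ i, ∑ j, T.a i j * x i * x j

theorem qf_cast (x : Fin n → ℤ) :
    ((qf T x : ℤ) : ℚ) = ∑ i, ∑ j, (T.a i j : ℚ) * (x i : ℚ) * (x j : ℚ) := by
  simp [qf]

theorem castA_symm : (Matrix.of fun i j => (T.a i j : ℚ)).IsSymm := by
  ext i j
  simp [Matrix.transpose_apply, a_symm T i j]

theorem castA_mulVec : (Matrix.of fun i j => (T.a i j : ℚ)).mulVec (fun i => (T.m i : ℚ)) = 0 := by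
  funext i
  simp only [Matrix.mulVec, dotProduct, Matrix.of_apply, Pi.zero_apply]
  exact_mod_cast row_sum T i

theorem qf_nonpos (x : Fin n → ℤ) : qf T x ≤ 0 := by
  have h := quadForm_nonpos (Matrix.of fun i j => (T.a i j : ℚ)) (fun i => (T.m i : ℚ))
    (castA_symm T) (fun i j hij => by simpa using T.offDiag_nonneg i j hij)
    (fun i => by simpa using T.m_pos i) (castA_mulVec T) (fun i => (x i : ℚ))
  simp only [Matrix.of_apply] at h
  rw [← qf_cast] at h
  exact_mod_cast h

theorem qf_eq_zero (x : Fin n → ℤ) (h0 : qf T x = 0) (i j : Fin n) :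
    x i * T.m j = x j * T.m i := by
  have hconn : ∀ I : Finset (Fin n), I.Nonempty → I ≠ univ →
      ∃ i ∈ I, ∃ j ∉ I, (Matrix.of fun i j => (T.a i j : ℚ)) i j ≠ 0 := by
    intro I h1 h2
    obtain ⟨i, hi, j, hj, hij⟩ := T.connected I h1 h2
    exact ⟨i, hi, j, hj, by simpa using hij⟩
  have h := quadForm_eq_zero_imp (Matrix.of fun i j => (T.a i j : ℚ)) (fun i => (T.m i : ℚ))
    (castA_symm T) (fun i j hij => by simpa using T.offDiag_nonneg i j hij)
    (fun i => by simpa using T.m_pos i) (castA_mulVec T) hconn (fun i => (x i : ℚ))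
    (by
      simp only [Matrix.of_apply]
      rw [← qf_cast, h0]; simp) i j
  have hi : (T.m i : ℚ) ≠ 0 := by exact_mod_cast (T.m_pos i).ne'
  have hj : (T.m j : ℚ) ≠ 0 := by exact_mod_cast (T.m_pos j).ne'
  rw [div_eq_div_iff hi hj] at h
  exact_mod_cast h

theorem qf_neg (x : Fin n → ℤ) (hx : ∃ i, x i ≠ 0) (hz : ∃ j, x j = 0) : qf T x < 0 := by
  rcases lt_or_eq_of_le (qf_nonpos T x) with h | h
  · exact h
  · exfalso
    obtain ⟨i, hi⟩ := hx
    obtain ⟨j, hj⟩ := hz
    have := qf_eq_zero T x h i j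
    rw [hj, zero_mul] at this
    rcases mul_eq_zero.mp this with h1 | h1
    · exact hi h1
    · exact (T.m_pos j).ne' h1

/-- Cartan integers of a numerical type -/
def kk (i j : Fin n) : ℤ := T.a i j / T.w i

theorem a_eq_kk (i j : Fin n) : T.a i j = kk T i j * T.w i :=
  (Int.ediv_mul_cancel (T.w_dvd i j)).symm

theorem a_eq_kk' (i j : Fin n) : T.a i j = kk T j i * T.w j := by
  rw [a_symm T i j, a_eq_kk]

theorem kk_nonneg {i j : Fin n} (h : i ≠ j) : 0 ≤ kk T i j :=
  Int.ediv_nonneg (T.offDiag_nonneg i j h) (T.w_pos i).le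

theorem kk_eq_zero {i j : Fin n} (h : T.a i j = 0) : kk T i j = 0 := by
  simp [kk, h]

theorem kk_eq_zero_iff {i j : Fin n} : kk T i j = 0 ↔ T.a i j = 0 := by
  constructor
  · intro h
    rw [a_eq_kk, h, zero_mul]
  · exact kk_eq_zero T

theorem kk_pos {i j : Fin n} (h : i ≠ j) (ha : T.a i j ≠ 0) : 1 ≤ kk T i j := by
  have h1 := kk_nonneg T h
  have h2 : kk T i j ≠ 0 := fun h0 => ha ((kk_eq_zero_iff T).mp h0)
  omega

theorem kk_pos' {i j : Fin n} (h : i ≠ j) (ha : T.a i j ≠ 0) : 1 ≤ kk T j i :=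
  kk_pos T h.symm (by rwa [← a_symm])

theorem kk_minusTwo {i : Fin n} (hi : T.IsMinusTwo i) : kk T i i = -2 := by
  have h := a_eq_kk T i i
  rw [hi.2] at h
  have hw := T.w_pos i
  have : (kk T i i + 2) * T.w i = 0 := by linarith
  rcases mul_eq_zero.mp this with h1 | h1
  · linarith
  · omega

theorem kk_row (i : Fin n) : ∑ j, kk T i j * T.m j = 0 := by
  have h := row_sum T i
  have : ∑ j, T.a i j * T.m j = T.w i * ∑ j, kk T i j * T.m j := by
    rw [Finset.mul_sum]
    refine Finset.sum_congr rfl fun j _ => ?_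
    rw [a_eq_kk T i j]; ring
  rw [this] at h
  rcases mul_eq_zero.mp h with h1 | h1
  · exact absurd h1 (T.w_pos i).ne'
  · exact h1

theorem qf_eq_kk (x : Fin n → ℤ) :
    qf T x = ∑ i, x i * T.w i * ∑ j, kk T i j * x j := by
  unfold qf
  refine Finset.sum_congr rfl fun i _ => ?_
  rw [Finset.mul_sum]
  refine Finset.sum_congr rfl fun j _ => ?_
  rw [a_eq_kk T i j]; ring

/-- No nonnegative nonzero vector vanishing somewhere is "subharmonic" on its support. -/
theorem exists_neg_row (x : Fin n → ℤ) (hx0 : ∀ i, 0 ≤ x i) (hx : ∃ i, 0 < x i)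
    (hz : ∃ j, x j = 0) : ∃ i, 0 < x i ∧ ∑ j, kk T i j * x j < 0 := by
  by_contra hcon
  push Not at hcon
  have hneg := qf_neg T x (by obtain ⟨i, hi⟩ := hx; exact ⟨i, hi.ne'⟩) hz
  rw [qf_eq_kk] at hneg
  have : 0 ≤ ∑ i, x i * T.w i * ∑ j, kk T i j * x j := by
    refine Finset.sum_nonneg fun i _ => ?_
    rcases (hx0 i).lt_or_eq with h | h
    · exact mul_nonneg (mul_nonneg h.le (T.w_pos i).le) (hcon i h)
    · rw [← h]; simp
  linarith

section Embedded

variable {k : ℕ}

/-- the vector on `Fin n` with coefficient `c p` at `v p` -/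
def embVec (v : Fin k → Fin n) (c : Fin k → ℤ) : Fin n → ℤ :=
  fun i => ∑ p, if v p = i then c p else 0

theorem embVec_apply (v : Fin k ↪ Fin n) (c : Fin k → ℤ) (p : Fin k) :
    embVec v c (v p) = c p := by
  unfold embVec
  rw [Finset.sum_eq_single p]
  · simp
  · intro q _ hq
    have : v q ≠ v p := fun h => hq (v.injective h)
    simp [this]
  · simp

theorem embVec_of_notMem (v : Fin k → Fin n) (c : Fin k → ℤ) (i : Fin n)
    (hi : ∀ p, v p ≠ i) : embVec v c i = 0 := by
  unfold embVec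
  refine Finset.sum_eq_zero fun p _ => ?_
  simp [hi p]

theorem sum_mul_embVec (v : Fin k → Fin n) (c : Fin k → ℤ) (f : Fin n → ℤ) :
    ∑ j, f j * embVec v c j = ∑ q, f (v q) * c q := by
  unfold embVec
  simp_rw [Finset.mul_sum]
  rw [Finset.sum_comm]
  refine Finset.sum_congr rfl fun q _ => ?_
  simp

theorem exists_notMem_range (v : Fin k ↪ Fin n) (hk : k < n) : ∃ j, ∀ p, v p ≠ j := by
  have : (univ.map v).card < (univ : Finset (Fin n)).card := by simpa using hk
  obtain ⟨j, _, hj⟩ := Finset.exists_mem_notMem_of_card_lt_card this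
  refine ⟨j, fun p hp => hj ?_⟩
  rw [Finset.mem_map]
  exact ⟨p, mem_univ _, hp⟩

/-- The main criterion, for an embedded configuration `v` on a proper subset of the indices. -/
theorem exists_neg_row_emb (v : Fin k ↪ Fin n) (hk : k < n) (c : Fin k → ℤ)
    (hc0 : ∀ p, 0 ≤ c p) (hc : ∃ p, 0 < c p) :
    ∃ p, 0 < c p ∧ ∑ q, kk T (v p) (v q) * c q < 0 := by
  obtain ⟨j0, hj0⟩ := exists_notMem_range v hk
  have hx0 : ∀ i, 0 ≤ embVec v c i := by
    intro i
    unfold embVec
    refine Finset.sum_nonneg fun p _ => ?_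
    split_ifs
    · exact hc0 p
    · exact le_rfl
  obtain ⟨p0, hp0⟩ := hc
  obtain ⟨i, hi, hrow⟩ := exists_neg_row T (embVec v c) hx0
    ⟨v p0, by rw [embVec_apply]; exact hp0⟩ ⟨j0, embVec_of_notMem v c j0 hj0⟩
  by_cases hmem : ∃ p, v p = i
  · obtain ⟨p, rfl⟩ := hmem
    refine ⟨p, by rwa [embVec_apply] at hi, ?_⟩
    rwa [sum_mul_embVec] at hrow
  · push Not at hmem
    rw [embVec_of_notMem v c i hmem] at hi
    exact absurd hi (lt_irrefl 0)

/-- contrapositive form -/
theorem no_subharmonic (v : Fin k ↪ Fin n) (hk : k < n) (c : Fin k → ℤ)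
    (hc0 : ∀ p, 0 ≤ c p) (hc : ∃ p, 0 < c p)
    (h : ∀ p, 0 < c p → 0 ≤ ∑ q, kk T (v p) (v q) * c q) : False := by
  obtain ⟨p, hp, hlt⟩ := exists_neg_row_emb T v hk c hc0 hc
  have := h p hp
  linarith

/-- the row relation for the multiplicities restricted to an embedded configuration -/
theorem row_emb_le (v : Fin k ↪ Fin n) (p : Fin k) :
    ∑ q, kk T (v p) (v q) * T.m (v q) ≤ 0 := by
  have h := kk_row T (v p)
  have hsub : ∑ j ∈ univ.map v, kk T (v p) j * T.m j ≤ ∑ j, kk T (v p) j * T.m j := by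
    refine Finset.sum_le_sum_of_subset_of_nonneg (Finset.subset_univ _) ?_
    intro j _ hj
    have hne : v p ≠ j := by
      intro h
      apply hj
      rw [Finset.mem_map]
      exact ⟨p, mem_univ _, h⟩
    exact mul_nonneg (kk_nonneg T hne) (T.m_pos j).le
  rw [Finset.sum_map] at hsub
  linarith

end Embedded

end Groth.Agent.Lib.Helper11
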