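import Mathlib
import Groth.Prelude.Def_Grpd
import Groth.Agent.Lib.Helper2Grpd
import Groth.Agent.Lib.Helper11SubGrpd

/-!
# A subgroupoid `Z ⟶ R` of a groupoid scheme along a monomorphism (helper11)
-/

set_option autoImplicit false
set_option linter.style.haveILetI false
set_option linter.unusedSectionVars false
universe u

open CategoryTheory CategoryTheory.Limits AlgebraicGeometry

namespace Groth.Agent.Lib.Helper11.MonoSub

open Groth.Agent.Lib.Helper2.Grpd Groth.Agent.Lib.Helper11.SubGrpd

variable {S : Scheme.{u}} {G : Grpd.GroupoidScheme S} {Z : Scheme.{u}} {ι : Z ⟶ G.R}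
  (D : Data G ι)

theorem lift_c {T : Scheme.{u}} (a b : T ⟶ Z) (h : a ≫ (ι ≫ G.s) = b ≫ (ι ≫ G.t)) :
    (pullback.lift a b h ≫ D.cP) ≫ ι = comp G (a ≫ ι) (b ≫ ι)
      (by rw [Category.assoc, Category.assoc]; exact h) := by
  rw [Category.assoc, D.hcP, ← Category.assoc]
  unfold comp
  congr 1
  apply pullback.hom_ext
  · rw [Category.assoc, pullback.lift_fst, pullback.lift_fst, ← Category.assoc, pullback.lift_fst]
  · rw [Category.assoc, pullback.lift_snd, pullback.lift_snd, ← Category.assoc, pullback.lift_snd]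

variable [Mono ι]

/-- the subgroupoid as a groupoid scheme. -/
noncomputable def grpd : Grpd.GroupoidScheme S where
  U := G.U
  R := Z
  pU := G.pU
  pR := ι ≫ G.pR
  s := ι ≫ G.s
  t := ι ≫ G.t
  e := D.eP
  i := D.iP
  c := D.cP
  s_over := by rw [Category.assoc, G.s_over]
  t_over := by rw [Category.assoc, G.t_over]
  comp_s := fun α β h => by
    rw [← Category.assoc, lift_c D α β h, comp_s, Category.assoc]
  comp_t := fun α β h => by
    rw [← Category.assoc, lift_c D α β h, comp_t, Category.assoc]
  assoc := fun α β γ h₁ h₂ => by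
    rw [← cancel_mono ι]
    have e1 := lift_c D α β h₁
    have e2 := lift_c D β γ h₂
    refine (lift_c D _ _ _).trans ?_
    refine Eq.trans ?_ (lift_c D _ _ _).symm
    refine (comp_congr G _ e1 rfl).trans ?_
    refine Eq.trans ?_ (comp_congr G _ rfl e2).symm
    exact comp_assoc G (α ≫ ι) (β ≫ ι) (γ ≫ ι) _ _
  e_s := by rw [← Category.assoc, D.heP, G.e_s]
  e_t := by rw [← Category.assoc, D.heP, G.e_t]
  comp_e := fun α => by
    rw [← cancel_mono ι]
    refine (lift_c D _ _ _).trans ?_
    exact comp_e G (α ≫ ι) _ (by simp only [Category.assoc, D.heP]) _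
  e_comp := fun α => by
    rw [← cancel_mono ι]
    refine (lift_c D _ _ _).trans ?_
    exact e_comp G (α ≫ ι) _ (by simp only [Category.assoc, D.heP]) _
  i_s := by rw [← Category.assoc, D.hiP, Category.assoc, G.i_s]
  i_t := by rw [← Category.assoc, D.hiP, Category.assoc, G.i_t]
  comp_i := fun α => by
    rw [← cancel_mono ι]
    refine (lift_c D _ _ _).trans ?_
    have h1 : (α ≫ D.iP) ≫ ι = (α ≫ ι) ≫ G.i := by
      rw [Category.assoc, D.hiP, Category.assoc]
    refine (comp_congr G _ rfl h1).trans ?_
    refine (comp_i G (α ≫ ι) _).trans ?_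
    simp only [Category.assoc, D.heP]
  i_comp := fun α => by
    rw [← cancel_mono ι]
    refine (lift_c D _ _ _).trans ?_
    have h1 : (α ≫ D.iP) ≫ ι = (α ≫ ι) ≫ G.i := by
      rw [Category.assoc, D.hiP, Category.assoc]
    refine (comp_congr G _ h1 rfl).trans ?_
    refine (i_comp G (α ≫ ι) _).trans ?_
    simp only [Category.assoc, D.heP]

/-- the inclusion of the subgroupoid. -/
noncomputable def incl : Grpd.GroupoidScheme.Hom (grpd D) G where
  fU := 𝟙 G.U
  fR := ι
  fU_over := Category.id_comp _
  comm_s := (Category.comp_id _).symm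
  comm_t := (Category.comp_id _).symm
  comm_c := fun α β h => lift_c D α β h

@[simp] theorem incl_fU : (incl D).fU = 𝟙 G.U := rfl
@[simp] theorem incl_fR : (incl D).fR = ι := rfl

end Groth.Agent.Lib.Helper11.MonoSub
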