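import Mathlib
import Groth.Agent.Lib.Helper11MultGaA

/-!
# Homomorphisms from a (split) diagonalisable group to `𝔾_a` are trivial (helper11)
-/

set_option autoImplicit false
universe u

open CategoryTheory MonoidalCategory CartesianMonoidalCategory MonObj GrpObj AlgebraicGeometry Limits
open Groth.Agent.Lib.Helper27.GaGm

namespace Groth.Agent.Lib.Helper11MultGa

section B

variable {S U : Scheme.{u}} (H : Over S) [GrpObj H] (u : H ⟶ Red.Ga S) [IsMonHom u] (g : U ⟶ S)

/-- the `𝔾_a`-valued point attached to a point of the base change of `H` -/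
noncomputable def wPt {X : Over U} (a : X ⟶ Red.bc g H) : (Over.map g).obj X ⟶ Red.Ga S :=
  adjEquiv g H X a ≫ u

lemma adjEquiv_naturality {X : Over U} (a : X ⟶ Red.bc g H) :
    adjEquiv g H X a = (Over.map g).map a ≫ adjEquiv g H (Red.bc g H) (𝟙 _) := by
  apply Over.OverMorphism.ext
  rw [adjEquiv_left, Over.comp_left, adjEquiv_left]
  simp

omit [IsMonHom u] in
lemma gaFn_wPt {X : Over U} (a : X ⟶ Red.bc g H) :
    Red.gaFn (wPt H u g a) = a.left.appTop.hom
      (Red.gaFn (S := S) (X := (Over.map g).obj (Red.bc g H)) (wPt H u g (𝟙 (Red.bc g H)))) := by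
  unfold wPt
  rw [adjEquiv_naturality, Category.assoc, gaFn_comp]
  rfl

lemma gaFn_wPt_mul {X : Over U} (a b : X ⟶ Red.bc g H) :
    Red.gaFn (wPt H u g (a * b)) = Red.gaFn (wPt H u g a) + Red.gaFn (wPt H u g b) := by
  unfold wPt
  rw [adjEquiv_mul]
  have := MonObj.mul_comp (adjEquiv g H X a) (adjEquiv g H X b) u
  rw [this, gaFn_mul]

omit [IsMonHom u] in
lemma left_appTop_gaFn_wPt {X : Over U} (a : X ⟶ Red.bc g H) :
    a.left.appTop.hom
      (Red.gaFn (S := S) (X := (Over.map g).obj (Red.bc g H)) (wPt H u g (𝟙 (Red.bc g H)))) =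
      Red.gaFn (wPt H u g a) := (gaFn_wPt H u g a).symm

theorem fst_comp_eq (M : Type) [AddCommGroup M] (ψ : Red.DS U M ⟶ Red.bc g H) [IsMonHom ψ]
    [IsIso ψ] :
    pullback.fst H.hom g ≫ u.left = pullback.fst H.hom g ≫ (1 : H ⟶ Red.Ga S).left := by
  obtain ⟨c₀, hc₀⟩ : ∃ c₀ : Γ((Red.bc g H).left, ⊤), c₀ =
      Red.gaFn (S := S) (X := (Over.map g).obj (Red.bc g H)) (wPt H u g (𝟙 (Red.bc g H))) :=
    ⟨_, rfl⟩
  have hc : ∀ (X : Over U) (a b : X ⟶ Red.DS U M),
      (a * b).left.appTop.hom (ψ.left.appTop.hom c₀) =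
        a.left.appTop.hom (ψ.left.appTop.hom c₀) + b.left.appTop.hom (ψ.left.appTop.hom c₀) := by
    intro X a b
    have e : ∀ p : X ⟶ Red.DS U M, p.left.appTop.hom (ψ.left.appTop.hom c₀) =
        Red.gaFn (wPt H u g (p ≫ ψ)) := by
      intro p
      rw [← left_appTop_gaFn_wPt, ← hc₀, Over.comp_left, Scheme.Hom.comp_appTop]
      rfl
    rw [e, e, e, MonObj.mul_comp a b ψ, gaFn_wPt_mul]
  have h0 := section_eq_zero_of_additive M (ψ.left.appTop.hom c₀) hc
  haveI : IsIso ψ.left := inferInstanceAs (IsIso ((Over.forget U).map ψ))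
  haveI : IsIso ψ.left.appTop := (inferInstance : IsIso (ψ.left.app ⊤))
  have hinj : Function.Injective ψ.left.appTop.hom :=
    (ConcreteCategory.bijective_of_isIso ψ.left.appTop).1
  have h1 : c₀ = 0 := hinj (by rw [h0, map_zero])
  have h2 : wPt H u g (𝟙 (Red.bc g H)) = 1 := by
    apply gaFn_injective
    rw [← hc₀, h1, gaFn_one]
  have h3 := congrArg Over.Hom.left h2
  have h4 : (adjEquiv g H (Red.bc g H) (𝟙 _) ≫ (1 : H ⟶ Red.Ga S)) = 1 := MonObj.comp_one _
  have h5 := congrArg Over.Hom.left h4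
  unfold wPt at h3
  rw [Over.comp_left, adjEquiv_left] at h3 h5
  rw [← h5] at h3
  simpa using h3

end B

end Groth.Agent.Lib.Helper11MultGa
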