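import Mathlib
import Groth.Prelude.Def_W4c1extbt15Mult
import Groth.Agent.Lib.Helper11DescendB

/-!
# Points calculus for the powers `MultSch.pow M n` (helper11)

Coordinate projections, `tuple` of projections, the map `powMap π n : pow M n ⟶ pow M'' n`,
local lifting along `powMap`, and the sign rule for alternating multilinear morphisms.
-/

set_option autoImplicit false
set_option linter.unusedSectionVars false
universe w v u

open CategoryTheory MonoidalCategory CartesianMonoidalCategory MonObj
open Groth.Agent.Lib.Helper11.Descend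

namespace Groth.Agent.Lib.Helper11.MultSchPow

variable {C : Type u} [Category.{v} C] [CartesianMonoidalCategory C] [BraidedCategory C]

open MultSch

/-- the coordinate projections of `pow M n` -/
noncomputable def proj (M : C) : (n : ℕ) → Fin n → (pow M n ⟶ M)
  | 0, i => i.elim0
  | n + 1, i => Fin.cases (fst M (pow M n)) (fun k => snd M (pow M n) ≫ proj M n k) i

lemma comp_tuple {M T T' : C} (g : T' ⟶ T) :
    ∀ {n : ℕ} (x : Fin n → (T ⟶ M)), g ≫ tuple x = tuple (fun l => g ≫ x l)
  | 0, _ => toUnit_unique _ _
  | n + 1, x => by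
    change g ≫ lift (x 0) (tuple fun i => x i.succ) =
      lift (g ≫ x 0) (tuple fun i => g ≫ x i.succ)
    rw [comp_lift, comp_tuple g]

lemma tuple_proj {M T : C} : ∀ {n : ℕ} (x : Fin n → (T ⟶ M)) (i : Fin n),
    tuple x ≫ proj M n i = x i
  | 0, _, i => i.elim0
  | n + 1, x, i => by
    refine Fin.cases ?_ (fun k => ?_) i
    · change lift (x 0) (tuple fun i => x i.succ) ≫ fst M (pow M n) = x 0
      rw [lift_fst]
    · change lift (x 0) (tuple fun i => x i.succ) ≫ snd M (pow M n) ≫ proj M n k = x k.succ
      rw [lift_snd_assoc, tuple_proj]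

lemma eq_tuple {M T : C} : ∀ {n : ℕ} (a : T ⟶ pow M n), a = tuple (fun i => a ≫ proj M n i)
  | 0, a => toUnit_unique _ _
  | n + 1, a => by
    change a = lift (a ≫ fst M (pow M n)) (tuple fun i => a ≫ snd M (pow M n) ≫ proj M n i)
    apply CartesianMonoidalCategory.hom_ext
    · rw [lift_fst]
      rfl
    · rw [lift_snd]
      have := eq_tuple (a ≫ snd M (pow M n))
      simp only [Category.assoc] at this
      exact this

lemma tuple_proj_id (M : C) (n : ℕ) : tuple (fun i => proj M n i) = 𝟙 (pow M n) := by
  have := eq_tuple (𝟙 (pow M n))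
  simp only [Category.id_comp] at this
  exact this.symm

lemma tuple_ext {M T : C} {n : ℕ} (a b : T ⟶ pow M n)
    (h : ∀ i, a ≫ proj M n i = b ≫ proj M n i) : a = b := by
  rw [eq_tuple a, eq_tuple b]
  congr 1
  funext i
  exact h i

/-- the map induced on powers -/
noncomputable def powMap {M M'' : C} (π : M ⟶ M'') (n : ℕ) : pow M n ⟶ pow M'' n :=
  tuple (fun i => proj M n i ≫ π)

lemma tuple_powMap {M M'' T : C} (π : M ⟶ M'') {n : ℕ} (x : Fin n → (T ⟶ M)) :
    tuple x ≫ powMap π n = tuple (fun i => x i ≫ π) := by
  rw [powMap, comp_tuple]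
  congr 1
  funext i
  rw [← Category.assoc, tuple_proj]

lemma powMap_proj {M M'' : C} (π : M ⟶ M'') {n : ℕ} (i : Fin n) :
    powMap π n ≫ proj M'' n i = proj M n i ≫ π := by
  rw [powMap, tuple_proj]

section Sieves

variable (J : GrothendieckTopology C)

lemma finset_inf_mem {X : C} {α : Type*} (s : Finset α) (R : α → Sieve X)
    (h : ∀ l ∈ s, R l ∈ J X) : s.inf R ∈ J X := by
  classical
  induction s using Finset.induction_on with
  | empty =>
    rw [Finset.inf_empty]
    exact J.top_mem X
  | insert a s ha ih =>
    rw [Finset.inf_insert]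
    exact J.intersection_covering (h a (Finset.mem_insert_self a s))
      (ih fun l hl => h l (Finset.mem_insert_of_mem hl))

lemma finset_inf_apply {X Y : C} {α : Type*} (s : Finset α) (R : α → Sieve X) (g : Y ⟶ X) :
    (s.inf R) g ↔ ∀ l ∈ s, R l g := by
  classical
  induction s using Finset.induction_on with
  | empty =>
    rw [Finset.inf_empty]
    simp
  | insert a s ha ih =>
    rw [Finset.inf_insert, Sieve.inter_apply, ih]
    simp

/-- simultaneous local lifting of finitely many points -/
lemma liftAll_mem {M M'' T : C} (π : M ⟶ M'')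
    (hlift : ∀ {T : C} (y : T ⟶ M''), liftSieve π y ∈ J T) {n : ℕ} (y : Fin n → (T ⟶ M'')) :
    (Finset.univ.inf fun i => liftSieve π (y i)) ∈ J T :=
  finset_inf_mem J _ _ (fun i _ => hlift (y i))

lemma exists_lifts {M M'' T W : C} (π : M ⟶ M'') {n : ℕ} (y : Fin n → (T ⟶ M'')) (g : W ⟶ T)
    (hg : (Finset.univ.inf fun i => liftSieve π (y i)) g) :
    ∃ x : Fin n → (W ⟶ M), ∀ i, x i ≫ π = g ≫ y i := by
  rw [finset_inf_apply] at hg
  choose x hx using fun i => hg i (Finset.mem_univ i)
  exact ⟨x, hx⟩

lemma secSieve_powMap {M M'' : C} (π : M ⟶ M'')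
    (hlift : ∀ {T : C} (y : T ⟶ M''), liftSieve π y ∈ J T) (n : ℕ) :
    secSieve (powMap π n) ∈ J (pow M'' n) := by
  refine J.superset_covering ?_ (liftAll_mem J π hlift (fun i => proj M'' n i))
  intro W g hg
  obtain ⟨x, hx⟩ := exists_lifts π _ g hg
  refine ⟨tuple x, ?_⟩
  rw [tuple_powMap]
  apply tuple_ext
  intro i
  rw [tuple_proj, hx]

end Sieves

section Alt

open GrpObj

variable {M N : C} [GrpObj M] [GrpObj N] {n : ℕ}

lemma comp_tuple_update {T T' : C} (g : T' ⟶ T) (x : Fin n → (T ⟶ M)) (i : Fin n) (a : T ⟶ M) :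
    g ≫ tuple (Function.update x i a) = tuple (Function.update (fun l => g ≫ x l) i (g ≫ a)) := by
  rw [comp_tuple]
  congr 1
  funext l
  exact Function.apply_update (fun _ m => g ≫ m) x i a l

/-- sign rule: exchanging two coordinates of an alternating multilinear morphism inverts it -/
lemma swap_mul_eq_one (φ : pow M n ⟶ N) (hmult : IsMultilinear φ) (halt : IsAlternating φ)
    {T : C} (x : Fin n → (T ⟶ M)) (i k : Fin n) (hik : i ≠ k) (u v : T ⟶ M) :
    (tuple (Function.update (Function.update x i v) k u) ≫ φ) *
      (tuple (Function.update (Function.update x i u) k v) ≫ φ) = 1 := by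
  have hz : tuple (Function.update (Function.update x i (u * v)) k (u * v)) ≫ φ = 1 := by
    apply halt T _ i k hik
    rw [Function.update_self, Function.update_of_ne hik, Function.update_self]
  rw [hmult, Function.update_comm hik, Function.update_comm hik, hmult, hmult] at hz
  have h1 : tuple (Function.update (Function.update x k u) i u) ≫ φ = 1 := by
    apply halt T _ i k hik
    rw [Function.update_self, Function.update_of_ne hik.symm, Function.update_self]
  have h2 : tuple (Function.update (Function.update x k v) i v) ≫ φ = 1 := by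
    apply halt T _ i k hik
    rw [Function.update_self, Function.update_of_ne hik.symm, Function.update_self]
  rw [h1, h2, _root_.one_mul, _root_.mul_one, Function.update_comm hik.symm,
    Function.update_comm hik.symm] at hz
  exact hz

/-- if an alternating multilinear morphism vanishes when the coordinate `i₀` is in the image of
`j`, it vanishes when any coordinate is -/
lemma vanish_of_vanish {M' : C} (j : M' ⟶ M) (φ : pow M n ⟶ N) (hmult : IsMultilinear φ)
    (halt : IsAlternating φ) (i₀ : Fin n)
    (hvan : ∀ (T : C) (y : T ⟶ M') (x : Fin n → (T ⟶ M)), x i₀ = y ≫ j → tuple x ≫ φ = 1)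
    {T : C} (y : T ⟶ M') (x : Fin n → (T ⟶ M)) (i : Fin n) (hx : x i = y ≫ j) :
    tuple x ≫ φ = 1 := by
  by_cases hi : i = i₀
  · subst hi
    exact hvan T y x hx
  · have h1 := swap_mul_eq_one φ hmult halt x i₀ i (Ne.symm hi) (x i₀) (x i)
    have h2 : Function.update (Function.update x i₀ (x i₀)) i (x i) = x := by
      rw [Function.update_eq_self, Function.update_eq_self]
    have h3 : tuple (Function.update (Function.update x i₀ (x i)) i (x i₀)) ≫ φ = 1 := by
      apply hvan T y
      rw [Function.update_of_ne (Ne.symm hi), Function.update_self, hx]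
    rw [h2, h3, _root_.one_mul] at h1
    exact h1

variable (J : GrothendieckTopology C) [J.Subcanonical]

omit [BraidedCategory C] [CartesianMonoidalCategory C] in
lemma hom_ext_of_mem {T N : C} (R : Sieve T) (hR : R ∈ J T) (f g : T ⟶ N)
    (h : ∀ ⦃W : C⦄ (t : W ⟶ T), R t → t ≫ f = t ≫ g) : f = g := by
  have hsep := (GrothendieckTopology.Subcanonical.isSheaf_of_isRepresentable
    (J := J) (yoneda.obj N)).isSeparated
  refine (hsep _ hR).ext ?_
  intro W t ht
  exact h t ht

/-- changing one coordinate by a point of the kernel does not change the value -/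
lemma single_change {M' M'' : C} [GrpObj M''] (j : M' ⟶ M) (π : M ⟶ M'') [IsMonHom π]
    (hker : ∀ {T : C} (y : T ⟶ M), y ≫ π = 1 → liftSieve j y ∈ J T)
    (φ : pow M n ⟶ N) (hmult : IsMultilinear φ)
    (hvan : ∀ (T : C) (y : T ⟶ M') (x : Fin n → (T ⟶ M)) (i : Fin n), x i = y ≫ j →
      tuple x ≫ φ = 1)
    {T : C} (x : Fin n → (T ⟶ M)) (i : Fin n) (d : T ⟶ M) (hd : d ≫ π = 1) :
    tuple (Function.update x i (d * x i)) ≫ φ = tuple x ≫ φ := by
  refine hom_ext_of_mem J _ (hker d hd) _ _ ?_
  rintro W g ⟨y', hy'⟩
  rw [← Category.assoc, ← Category.assoc, comp_tuple_update, MonObj.comp_mul, ← hy', hmult,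
    hvan W y' _ i (Function.update_self ..), _root_.one_mul, Function.update_eq_self, comp_tuple]

/-- changing all coordinates by points of the kernel does not change the value -/
lemma multi_change {M' M'' : C} [GrpObj M''] (j : M' ⟶ M) (π : M ⟶ M'') [IsMonHom π]
    (hker : ∀ {T : C} (y : T ⟶ M), y ≫ π = 1 → liftSieve j y ∈ J T)
    (φ : pow M n ⟶ N) (hmult : IsMultilinear φ)
    (hvan : ∀ (T : C) (y : T ⟶ M') (x : Fin n → (T ⟶ M)) (i : Fin n), x i = y ≫ j →
      tuple x ≫ φ = 1)
    {T : C} (x x' : Fin n → (T ⟶ M)) (h : ∀ i, x i ≫ π = x' i ≫ π) :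
    tuple x' ≫ φ = tuple x ≫ φ := by
  classical
  have key : ∀ s : Finset (Fin n),
      tuple (fun l => if l ∈ s then x' l else x l) ≫ φ = tuple x ≫ φ := by
    intro s
    induction s using Finset.induction_on with
    | empty => simp
    | insert a s ha ih =>
      have h1 : (fun l => if l ∈ insert a s then x' l else x l) =
          Function.update (fun l => if l ∈ s then x' l else x l) a
            ((x' a * (x a)⁻¹) * (fun l => if l ∈ s then x' l else x l) a) := by
        funext l
        by_cases hl : l = a
        · subst hl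
          simp [ha]
        · rw [Function.update_of_ne hl]
          simp [hl]
      rw [h1, single_change J j π hker φ hmult hvan _ a _ (by
        rw [MonObj.mul_comp, GrpObj.inv_comp, h a, _root_.mul_inv_cancel]), ih]
  have := key Finset.univ
  simpa using this

end Alt

end Groth.Agent.Lib.Helper11.MultSchPow
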