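import Mathlib
import Groth.Prelude

/-!
# helper11: a ring between a one-dimensional local domain and its fraction field
-/

set_option autoImplicit false
universe u

namespace Groth.Agent.Lib.Helper11.OpenGG

/-- Let `S` be a local domain of dimension `≤ 1` with fraction field `K` and `R` a subring of `K`
containing `S` in which the maximal ideal of `S` generates the unit ideal. Then `R = K`. -/
theorem subring_eq_top_of_map_maximalIdeal {S K : Type*} [CommRing S] [IsDomain S] [IsLocalRing S]
    [Field K] [Algebra S K] [IsFractionRing S K] (hdim : ringKrullDim S ≤ 1)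
    (R : Subring K) (ρ' : S →+* R) (hρ : ∀ s, ((ρ' s : R) : K) = algebraMap S K s)
    (h1 : Ideal.map ρ' (IsLocalRing.maximalIdeal S) = ⊤) : R = ⊤ := by
  classical
  haveI : Ring.KrullDimLE 1 S := (Ring.krullDimLE_iff).2 hdim
  have hfield : ∀ r : R, r ≠ 0 → IsUnit r := by
    intro r hr
    by_contra hu
    obtain ⟨q, hq, hrq⟩ := Ideal.exists_le_maximal (Ideal.span {r})
      (by rwa [Ne, Ideal.span_singleton_eq_top])
    have hrq' : r ∈ q := hrq (Ideal.mem_span_singleton_self r)
    haveI : q.IsPrime := hq.isPrime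
    haveI hPp : (q.comap ρ').IsPrime := Ideal.comap_isPrime ρ' q
    by_cases hP : q.comap ρ' = ⊥
    · obtain ⟨a, b, hb, hab⟩ := IsFractionRing.div_surjective (A := S) (r : K)
      have hb0 : algebraMap S K b ≠ 0 := by
        intro h
        exact (nonZeroDivisors.ne_zero hb) (IsFractionRing.injective S K (by rw [h, map_zero]))
      have h2 : r * ρ' b = ρ' a := by
        apply Subtype.ext
        rw [Subring.coe_mul, hρ, hρ, ← hab]
        field_simp
      have ha : a ∈ q.comap ρ' := by
        change ρ' a ∈ q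
        rw [← h2]
        exact q.mul_mem_right _ hrq'
      rw [hP, Ideal.mem_bot] at ha
      apply hr
      apply Subtype.ext
      rw [← hab, ha, map_zero, zero_div]
      rfl
    · have hmax : (q.comap ρ').IsMaximal := Ideal.IsPrime.isMaximal_of_ne_bot hPp hP
      have h3 : q.comap ρ' = IsLocalRing.maximalIdeal S := IsLocalRing.eq_maximalIdeal hmax
      have h4 : Ideal.map ρ' (IsLocalRing.maximalIdeal S) ≤ q := by
        rw [← h3]
        exact Ideal.map_comap_le
      rw [h1] at h4
      exact hq.ne_top (top_le_iff.1 h4)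
  rw [eq_top_iff]
  intro z _
  obtain ⟨a, b, hb, hab⟩ := IsFractionRing.div_surjective (A := S) z
  have hb0 : algebraMap S K b ≠ 0 := by
    intro h
    exact (nonZeroDivisors.ne_zero hb) (IsFractionRing.injective S K (by rw [h, map_zero]))
  have hb1 : ρ' b ≠ 0 := by
    intro h
    apply hb0
    rw [← hρ, h]
    rfl
  obtain ⟨v, hv⟩ := hfield (ρ' b) hb1
  have h5 : ((v⁻¹ : Rˣ) : R) * ρ' b = 1 := by rw [← hv]; exact v.inv_mul
  have h6 : (((v⁻¹ : Rˣ) : R) : K) * algebraMap S K b = 1 := by
    rw [← hρ, ← Subring.coe_mul, h5]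
    rfl
  have h7 : z = ((ρ' a * ((v⁻¹ : Rˣ) : R) : R) : K) := by
    rw [Subring.coe_mul, hρ, ← hab]
    field_simp
    rw [mul_comm] at h6
    rw [mul_assoc, h6, mul_one]
  rw [h7]
  exact (ρ' a * ((v⁻¹ : Rˣ) : R)).2

end Groth.Agent.Lib.Helper11.OpenGG
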