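import Groth.Agent.Lib.Helper4VarDim
import Groth.Agent.Lib.Helper7TopDim
import Groth.Prelude.Def_CurvBase

/-!
# Dimension theory of schemes locally of finite type over a field: bridge to algebra

For `X` over `Spec k`, an affine open `U` and `x ∈ U`:
* `sectionsAlgebra`, `finiteType_sections`: `Γ(X, U)` is a finite type `k`-algebra;
* `evₐ`: evaluation `Γ(X, U) →ₐ[k] κ(x)`, with kernel the prime of `x` and `κ(x)` its fractions;
* `exists_trdeg_eq_dim`: `trdeg_k κ(x) = dim Γ(X, U) / 𝔭_x`;
* dictionary between specialization and inclusion of primes.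
-/

set_option autoImplicit false
set_option linter.style.haveILetI false
universe u

open AlgebraicGeometry CategoryTheory TopologicalSpace

namespace Groth.Agent.Lib.Helper4.VarDim

section Dict

variable {X : Scheme.{u}} {U : X.Opens} (hU : IsAffineOpen U)

theorem primeIdealOf_fromSpec (q : PrimeSpectrum Γ(X, U)) (hq : hU.fromSpec q ∈ U) :
    hU.primeIdealOf ⟨hU.fromSpec q, hq⟩ = q :=
  hU.fromSpec.isOpenEmbedding.injective (hU.fromSpec_primeIdealOf ⟨hU.fromSpec q, hq⟩)

theorem fromSpec_mem (q : PrimeSpectrum Γ(X, U)) : hU.fromSpec q ∈ U := by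
  have : hU.fromSpec q ∈ Set.range hU.fromSpec := ⟨q, rfl⟩
  rwa [hU.range_fromSpec] at this

theorem primeIdealOf_le_iff (x y : X) (hx : x ∈ U) (hy : y ∈ U) :
    (hU.primeIdealOf ⟨x, hx⟩).asIdeal ≤ (hU.primeIdealOf ⟨y, hy⟩).asIdeal ↔ x ⤳ y := by
  have h1 : (hU.primeIdealOf ⟨x, hx⟩).asIdeal ≤ (hU.primeIdealOf ⟨y, hy⟩).asIdeal ↔
      hU.primeIdealOf ⟨x, hx⟩ ⤳ hU.primeIdealOf ⟨y, hy⟩ :=
    PrimeSpectrum.le_iff_specializes _ _
  have h2 := hU.fromSpec.isOpenEmbedding.isInducing.specializes_iff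
    (x := hU.primeIdealOf ⟨x, hx⟩) (y := hU.primeIdealOf ⟨y, hy⟩)
  rw [hU.fromSpec_primeIdealOf ⟨x, hx⟩, hU.fromSpec_primeIdealOf ⟨y, hy⟩] at h2
  exact h1.trans h2.symm

theorem primeIdealOf_injective (x y : X) (hx : x ∈ U) (hy : y ∈ U)
    (h : hU.primeIdealOf ⟨x, hx⟩ = hU.primeIdealOf ⟨y, hy⟩) : x = y := by
  have := congrArg hU.fromSpec h
  rwa [hU.fromSpec_primeIdealOf ⟨x, hx⟩, hU.fromSpec_primeIdealOf ⟨y, hy⟩] at this

theorem mem_primeIdealOf_iff (x : X) (hx : x ∈ U) (a : Γ(X, U)) :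
    a ∈ (hU.primeIdealOf ⟨x, hx⟩).asIdeal ↔
      (X.presheaf.germ U x hx ≫ X.residue x).hom a = 0 := by
  rw [hU.primeIdealOf_eq_map_closedPoint ⟨x, hx⟩]
  change (X.presheaf.germ U x hx).hom a ∈ IsLocalRing.maximalIdeal _ ↔ _
  rw [← IsLocalRing.residue_eq_zero_iff]
  rfl

include hU in
/-- The topological dimension of an affine open is the Krull dimension of its ring of sections. -/
theorem topologicalKrullDim_eq_ringKrullDim :
    topologicalKrullDim ↥U = ringKrullDim Γ(X, U) := by
  rw [← PrimeSpectrum.topologicalKrullDim_eq_ringKrullDim]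
  exact IsHomeomorph.topologicalKrullDim_eq _ (Scheme.homeoOfIso hU.isoSpec).isHomeomorph

end Dict

/-- The dimension of a scheme is the supremum of the dimensions of the rings of sections over its
affine opens. -/
theorem topologicalKrullDim_eq_iSup_affineOpens (X : Scheme.{u}) :
    topologicalKrullDim X = ⨆ V : X.affineOpens, ringKrullDim Γ(X, V.1) := by
  rw [Groth.Agent.Lib.Helper7.TopDim.topologicalKrullDim_eq_iSup_of_open_cover
    (fun V : X.affineOpens => V.1) (iSup_affineOpens_eq_top X)]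
  exact iSup_congr fun V => topologicalKrullDim_eq_ringKrullDim V.2

section Field

variable (k : Type u) [Field k] (X : Scheme.{u}) [X.Over (Spec (CommRingCat.of k))]

/-- The `k`-algebra structure on the sections of a `k`-scheme over an open. -/
noncomputable abbrev sectionsAlgebra (U : X.Opens) : Algebra k Γ(X, U) :=
  ((Scheme.ΓSpecIso (CommRingCat.of k)).inv ≫
    (X ↘ Spec (CommRingCat.of k)).appLE ⊤ U le_top).hom.toAlgebra

attribute [local instance] sectionsAlgebra Curv2.resAlgebra

theorem finiteType_sections [LocallyOfFiniteType (X ↘ Spec (CommRingCat.of k))] {U : X.Opens}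
    (hU : IsAffineOpen U) : Algebra.FiniteType k Γ(X, U) := by
  have h1 : ((X ↘ (Spec (CommRingCat.of k))).appLE ⊤ U le_top).hom.FiniteType :=
    HasRingHomProperty.appLE (P := @LocallyOfFiniteType) _ ‹_›
      ⟨⊤, isAffineOpen_top (Spec (CommRingCat.of k))⟩ ⟨U, hU⟩ le_top
  have h2 : ((Scheme.ΓSpecIso (CommRingCat.of k)).inv ≫
      (X ↘ (Spec (CommRingCat.of k))).appLE ⊤ U le_top).hom.FiniteType := by
    rw [CommRingCat.hom_comp]
    refine RingHom.FiniteType.comp h1 (RingHom.FiniteType.of_surjective _ ?_)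
    exact (ConcreteCategory.bijective_of_isIso (Scheme.ΓSpecIso (CommRingCat.of k)).inv).surjective
  exact h2

/-- Evaluation at a point, as a `k`-algebra map from sections to the residue field. -/
noncomputable def evₐ {U : X.Opens} (x : X) (hx : x ∈ U) : Γ(X, U) →ₐ[k] X.residueField x where
  toRingHom := (X.presheaf.germ U x hx ≫ X.residue x).hom
  commutes' c := by
    change (X.residue x).hom ((X.presheaf.germ U x hx).hom
      ((X.presheaf.map (homOfLE (le_top : U ≤ ⊤)).op).hom
        (((X ↘ Spec (CommRingCat.of k)).appTop).hom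
          ((Scheme.ΓSpecIso (CommRingCat.of k)).inv.hom c)))) =
      (X.residue x).hom ((X.presheaf.germ ⊤ x trivial).hom
        (((X ↘ Spec (CommRingCat.of k)).appTop).hom
          ((Scheme.ΓSpecIso (CommRingCat.of k)).inv.hom c)))
    congr 1
    exact X.presheaf.germ_res_apply (homOfLE (le_top : U ≤ ⊤)) x hx _

theorem evₐ_apply {U : X.Opens} (x : X) (hx : x ∈ U) (a : Γ(X, U)) :
    evₐ k X x hx a = (X.presheaf.germ U x hx ≫ X.residue x).hom a := rfl

theorem ker_evₐ {U : X.Opens} (hU : IsAffineOpen U) (x : X) (hx : x ∈ U) :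
    RingHom.ker (evₐ k X x hx).toRingHom = (hU.primeIdealOf ⟨x, hx⟩).asIdeal := by
  ext a
  rw [mem_primeIdealOf_iff hU x hx a]
  rfl

theorem evₐ_frac {U : X.Opens} (hU : IsAffineOpen U) (x : X) (hx : x ∈ U)
    (z : X.residueField x) : ∃ a s : Γ(X, U), z = evₐ k X x hx a / evₐ k X x hx s := by
  obtain ⟨g, hg⟩ : ∃ g : X.presheaf.stalk x, (X.residue x).hom g = z :=
    IsLocalRing.residue_surjective z
  letI := TopCat.Presheaf.algebra_section_stalk X.presheaf ⟨x, hx⟩
  haveI := hU.isLocalization_stalk ⟨x, hx⟩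
  obtain ⟨a, s, hmk⟩ := IsLocalization.exists_mk'_eq (hU.primeIdealOf ⟨x, hx⟩).asIdeal.primeCompl g
  refine ⟨a, s.1, ?_⟩
  have hs : evₐ k X x hx s.1 ≠ 0 := by
    intro h
    exact s.2 ((mem_primeIdealOf_iff hU x hx s.1).mpr h)
  have h1 : g * (X.presheaf.germ U x hx).hom s.1 = (X.presheaf.germ U x hx).hom a := by
    rw [← hmk]
    exact IsLocalization.mk'_spec _ a s
  rw [eq_div_iff hs, ← hg, evₐ_apply, evₐ_apply, CommRingCat.hom_comp, RingHom.comp_apply,
    RingHom.comp_apply, ← map_mul, h1]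

/-- **`trdeg κ(x) = dim` of the closure of `x` in an affine open.** -/
theorem exists_trdeg_eq_dim [LocallyOfFiniteType (X ↘ Spec (CommRingCat.of k))] {U : X.Opens}
    (hU : IsAffineOpen U) (x : X) (hx : x ∈ U) :
    ∃ n : ℕ, Algebra.trdeg k (X.residueField x) = n ∧
      ringKrullDim (Γ(X, U) ⧸ (hU.primeIdealOf ⟨x, hx⟩).asIdeal) = n := by
  haveI := finiteType_sections k X hU
  have := exists_trdeg_eq_dim_quotient_ker (evₐ k X x hx) (evₐ_frac k X hU x hx)
  rwa [ker_evₐ k X hU x hx] at this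

/-- On an irreducible scheme locally of finite type over a field, all nonempty affine opens have
coordinate ring of dimension the transcendence degree of the function field. -/
theorem exists_dim_irreducible [LocallyOfFiniteType (X ↘ Spec (CommRingCat.of k))]
    [IrreducibleSpace X] :
    ∃ n : ℕ, Algebra.trdeg k (X.residueField (genericPoint X)) = n ∧
      ∀ V : X.Opens, IsAffineOpen V → (V : Set X).Nonempty → ringKrullDim Γ(X, V) = n := by
  have key : ∀ V : X.Opens, IsAffineOpen V → (V : Set X).Nonempty →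
      ∃ n : ℕ, Algebra.trdeg k (X.residueField (genericPoint X)) = n ∧
        ringKrullDim Γ(X, V) = n := by
    intro V hV hne
    have hη : genericPoint X ∈ V :=
      ((genericPoint_spec X).mem_open_set_iff V.isOpen).mpr (by simpa using hne)
    obtain ⟨n, h1, h2⟩ := exists_trdeg_eq_dim k X hV (genericPoint X) hη
    refine ⟨n, h1, ?_⟩
    rw [← h2]
    symm
    apply ringKrullDim_quotient_eq_of_forall_le
    intro q hq
    have hmem := fromSpec_mem hV ⟨q, hq⟩
    have h3 := (primeIdealOf_le_iff hV (genericPoint X) (hV.fromSpec ⟨q, hq⟩) hη hmem).mpr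
      (genericPoint_specializes _)
    rwa [primeIdealOf_fromSpec hV ⟨q, hq⟩ hmem] at h3
  obtain ⟨x₀⟩ := (inferInstance : Nonempty X)
  obtain ⟨V₀, hV₀, hx₀, -⟩ := exists_isAffineOpen_mem_and_subset (U := ⊤) (x := x₀) trivial
  obtain ⟨n, hn, -⟩ := key V₀ hV₀ ⟨x₀, hx₀⟩
  refine ⟨n, hn, fun V hV hne => ?_⟩
  obtain ⟨n', hn', h⟩ := key V hV hne
  have : n' = n := by
    have h4 : (n' : Cardinal.{u}) = n := hn'.symm.trans hn
    exact_mod_cast h4
  rw [h, this]

theorem ringKrullDim_sections_le_of_forall {Y : Scheme.{u}} (d : WithBot ℕ∞)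
    (h : ∀ V : Y.Opens, IsAffineOpen V → (V : Set Y).Nonempty → ringKrullDim Γ(Y, V) ≤ d)
    (V : Y.Opens) : ringKrullDim Γ(Y, V) ≤ d ∨ ¬ IsAffineOpen V := by
  by_cases hV : IsAffineOpen V
  · left
    by_cases hne : (V : Set Y).Nonempty
    · exact h V hV hne
    · have hbot : V = ⊥ := by
        ext x
        simp only [TopologicalSpace.Opens.coe_bot, Set.mem_empty_iff_false, iff_false]
        exact fun hx => hne ⟨x, hx⟩
      subst hbot
      rw [ringKrullDim_eq_bot_of_subsingleton]
      exact bot_le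
  · exact Or.inr hV

/-- **Dimension of an irreducible scheme locally of finite type over a field.** -/
theorem topologicalKrullDim_eq_of_irreducible
    [LocallyOfFiniteType (X ↘ Spec (CommRingCat.of k))] [IrreducibleSpace X] (n : ℕ)
    (hn : Algebra.trdeg k (X.residueField (genericPoint X)) = n) : topologicalKrullDim X = n := by
  obtain ⟨n', hn', h⟩ := exists_dim_irreducible k X
  have : n' = n := by
    have h4 : (n' : Cardinal.{u}) = n := hn'.symm.trans hn
    exact_mod_cast h4
  subst this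
  rw [topologicalKrullDim_eq_iSup_affineOpens]
  apply le_antisymm
  · refine iSup_le fun V => ?_
    rcases ringKrullDim_sections_le_of_forall (n' : WithBot ℕ∞)
      (fun V hV hne => (h V hV hne).le) V.1 with h1 | h1
    · exact h1
    · exact absurd V.2 h1
  · obtain ⟨x₀⟩ := (inferInstance : Nonempty X)
    obtain ⟨V₀, hV₀, hx₀, -⟩ := exists_isAffineOpen_mem_and_subset (U := ⊤) (x := x₀) trivial
    rw [← h V₀ hV₀ ⟨x₀, hx₀⟩]
    exact le_iSup (fun V : X.affineOpens => ringKrullDim Γ(X, V.1)) ⟨V₀, hV₀⟩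

/-- Every nonempty open of an irreducible scheme locally of finite type over a field has the same
dimension as the whole scheme. -/
theorem topologicalKrullDim_opens_eq_of_irreducible
    [LocallyOfFiniteType (X ↘ Spec (CommRingCat.of k))] [IrreducibleSpace X]
    (U : X.Opens) (hU : (U : Set X).Nonempty) :
    topologicalKrullDim ↥U = topologicalKrullDim X := by
  obtain ⟨n, hn, h⟩ := exists_dim_irreducible k X
  rw [topologicalKrullDim_eq_of_irreducible k X n hn]
  change topologicalKrullDim ↥U.toScheme = _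
  rw [topologicalKrullDim_eq_iSup_affineOpens]
  have hW : ∀ W : U.toScheme.Opens, IsAffineOpen W → (W : Set U.toScheme).Nonempty →
      ringKrullDim Γ(U.toScheme, W) = n := by
    intro W hW hne
    have h1 : IsAffineOpen (U.ι ''ᵁ W) := hW.image_of_isOpenImmersion U.ι
    obtain ⟨w, hw⟩ := hne
    exact h (U.ι ''ᵁ W) h1 ⟨U.ι w, ⟨w, hw, rfl⟩⟩
  apply le_antisymm
  · refine iSup_le fun V => ?_
    rcases ringKrullDim_sections_le_of_forall (n : WithBot ℕ∞)
      (fun V hV hne => (hW V hV hne).le) V.1 with h1 | h1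
    · exact h1
    · exact absurd V.2 h1
  · obtain ⟨x₀, hx₀⟩ := hU
    obtain ⟨V₀, hV₀, hx₀', -⟩ := exists_isAffineOpen_mem_and_subset (X := U.toScheme) (U := ⊤)
      (x := ⟨x₀, hx₀⟩) trivial
    rw [← hW V₀ hV₀ ⟨_, hx₀'⟩]
    exact le_iSup (fun V : U.toScheme.affineOpens => ringKrullDim Γ(U.toScheme, V.1)) ⟨V₀, hV₀⟩

end Field

end Groth.Agent.Lib.Helper4.VarDim
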