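import Mathlib
import Groth.Prelude
import Groth.Agent.Lib.Helper11OpenGGA
import Groth.Agent.Lib.Helper11CurveAmpleA
import Groth.Agent.Lib.Helper4VarDim2

/-!
# helper11: functions on an affine open and a local ring outside it generate the function field
-/

set_option autoImplicit false
universe u
open CategoryTheory Limits AlgebraicGeometry TopologicalSpace Opposite

namespace Groth.Agent.Lib.Helper11.OpenGG

open Groth.Agent.Lib.Helper4.VarDim

theorem mem_primeIdealOf_iff_germ {X : Scheme.{u}} {U : X.Opens} (hU : IsAffineOpen U) (x : X)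
    (hx : x ∈ U) (a : Γ(X, U)) :
    a ∈ (hU.primeIdealOf ⟨x, hx⟩).asIdeal ↔
      (X.presheaf.germ U x hx).hom a ∈ IsLocalRing.maximalIdeal (X.presheaf.stalk x) := by
  rw [hU.primeIdealOf_eq_map_closedPoint ⟨x, hx⟩]
  rfl

/-- the prime of a point `y ∉ U` generates the unit ideal on `U ⊓ V` -/
theorem map_primeIdealOf_eq_top {X : Scheme.{u}} {U V : X.Opens} (hW : IsAffineOpen (U ⊓ V))
    (hV : IsAffineOpen V) (y : X) (hyV : y ∈ V) (hy : y ∉ U) :
    Ideal.map (X.presheaf.map (homOfLE (inf_le_right : U ⊓ V ≤ V)).op).hom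
      (hV.primeIdealOf ⟨y, hyV⟩).asIdeal = ⊤ := by
  by_contra hne
  obtain ⟨n, hn, hJn⟩ := Ideal.exists_le_maximal _ hne
  haveI : n.IsPrime := hn.isPrime
  set q : PrimeSpectrum Γ(X, U ⊓ V) := ⟨n, inferInstance⟩ with hq
  set w : X := hW.fromSpec q with hw
  have hwW : w ∈ U ⊓ V := fromSpec_mem hW q
  have hqw : hW.primeIdealOf ⟨w, hwW⟩ = q := primeIdealOf_fromSpec hW q hwW
  have hle : (hV.primeIdealOf ⟨y, hyV⟩).asIdeal ≤ (hV.primeIdealOf ⟨w, hwW.2⟩).asIdeal := by
    intro a ha
    have h1 : (X.presheaf.map (homOfLE (inf_le_right : U ⊓ V ≤ V)).op).hom a ∈ n :=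
      hJn (Ideal.mem_map_of_mem _ ha)
    have h2 : (X.presheaf.map (homOfLE (inf_le_right : U ⊓ V ≤ V)).op).hom a ∈
        (hW.primeIdealOf ⟨w, hwW⟩).asIdeal := by rw [hqw]; exact h1
    rw [mem_primeIdealOf_iff_germ hW w hwW] at h2
    rw [mem_primeIdealOf_iff_germ hV w hwW.2]
    have h3 : (X.presheaf.germ (U ⊓ V) w hwW).hom
        ((X.presheaf.map (homOfLE (inf_le_right : U ⊓ V ≤ V)).op).hom a) =
        (X.presheaf.germ V w hwW.2).hom a :=
      X.presheaf.germ_res_apply (homOfLE (inf_le_right : U ⊓ V ≤ V)) w hwW a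
    rwa [h3] at h2
  have hsp : y ⤳ w := (primeIdealOf_le_iff hV y w hyV hwW.2).1 hle
  exact hy (hsp.mem_open U.isOpen hwW.1)

/-- **separatedness**: on an integral separated scheme, the functions on an affine open `U` and the
local ring at a point `y ∉ U` of dimension `≤ 1` generate the function field. -/
theorem range_sup_range_eq_top {X : Scheme.{u}} [IsIntegral X] [X.IsSeparated] {U : X.Opens}
    (hU : IsAffineOpen U) [Nonempty U] (y : X) (hy : y ∉ U)
    (hdim : ringKrullDim (X.presheaf.stalk y) ≤ 1) :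
    (X.germToFunctionField U).hom.range ⊔
      (algebraMap (X.presheaf.stalk y) X.functionField).range = ⊤ := by
  classical
  obtain ⟨V, hV, hyV, -⟩ := exists_isAffineOpen_mem_and_subset (U := ⊤) (x := y) trivial
  have hW : IsAffineOpen (U ⊓ V) := hU.inf hV
  have hη : genericPoint X ∈ U ⊓ V := by
    refine ⟨?_, ?_⟩
    · exact ((genericPoint_spec X).mem_open_set_iff U.isOpen).mpr (by
        obtain ⟨⟨x, hx⟩⟩ := ‹Nonempty U›
        exact ⟨x, trivial, hx⟩)
    · exact ((genericPoint_spec X).mem_open_set_iff V.isOpen).mpr ⟨y, trivial, hyV⟩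
  haveI hne : Nonempty (U ⊓ V : X.Opens) := ⟨⟨_, hη⟩⟩
  haveI : Nonempty V := ⟨⟨_, hyV⟩⟩
  set R : Subring X.functionField := (X.germToFunctionField U).hom.range ⊔
      (algebraMap (X.presheaf.stalk y) X.functionField).range with hR
  -- the image of `Γ(X, U ⊓ V)` lies in `R`
  have hφ : ∀ a : Γ(X, U ⊓ V), (X.germToFunctionField (U ⊓ V)).hom a ∈ R := by
    have hsep := Groth.Agent.Lib.Helper11.CurveAmple.range_sup_range_eq_top_of_isSeparated hU hV
    have hmap : Subring.map (X.germToFunctionField (U ⊓ V)).hom ⊤ ≤ R := by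
      rw [← hsep, Subring.map_sup]
      apply sup_le
      · rintro _ ⟨_, ⟨a, rfl⟩, rfl⟩
        apply (le_sup_left : _ ≤ R)
        refine ⟨a, ?_⟩
        exact (X.presheaf.germ_res_apply (homOfLE (inf_le_left : U ⊓ V ≤ U)) (genericPoint X)
          hη a).symm
      · rintro _ ⟨_, ⟨a, rfl⟩, rfl⟩
        apply (le_sup_right : _ ≤ R)
        refine ⟨(X.presheaf.germ V y hyV).hom a, ?_⟩
        rw [Scheme.algebraMap_germ_eq_germToFunctionField]
        exact (X.presheaf.germ_res_apply (homOfLE (inf_le_right : U ⊓ V ≤ V)) (genericPoint X)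
          hη a).symm
    intro a
    exact hmap ⟨a, trivial, rfl⟩
  have hS : ∀ s : X.presheaf.stalk y, algebraMap (X.presheaf.stalk y) X.functionField s ∈ R :=
    fun s => (le_sup_right : _ ≤ R) ⟨s, rfl⟩
  let ρ' : X.presheaf.stalk y →+* R :=
    (algebraMap (X.presheaf.stalk y) X.functionField).codRestrict R hS
  let φ' : Γ(X, U ⊓ V) →+* R := (X.germToFunctionField (U ⊓ V)).hom.codRestrict R hφ
  have hcomp : φ'.comp (X.presheaf.map (homOfLE (inf_le_right : U ⊓ V ≤ V)).op).hom =
      ρ'.comp (X.presheaf.germ V y hyV).hom := by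
    ext a
    change (X.germToFunctionField (U ⊓ V)).hom
        ((X.presheaf.map (homOfLE (inf_le_right : U ⊓ V ≤ V)).op).hom a) =
      algebraMap (X.presheaf.stalk y) X.functionField ((X.presheaf.germ V y hyV).hom a)
    rw [Scheme.algebraMap_germ_eq_germToFunctionField]
    exact X.presheaf.germ_res_apply (homOfLE (inf_le_right : U ⊓ V ≤ V)) (genericPoint X) hη a
  have htop := map_primeIdealOf_eq_top hW hV y hyV hy
  have h1 : Ideal.map ρ' (IsLocalRing.maximalIdeal (X.presheaf.stalk y)) = ⊤ := by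
    rw [eq_top_iff]
    have h2 : Ideal.map φ' (Ideal.map (X.presheaf.map (homOfLE (inf_le_right : U ⊓ V ≤ V)).op).hom
        (hV.primeIdealOf ⟨y, hyV⟩).asIdeal) = ⊤ := by
      rw [htop, eq_top_iff]
      intro r _
      have : (1 : R) ∈ Ideal.map φ' (⊤ : Ideal Γ(X, U ⊓ V)) := by
        rw [← map_one φ']
        exact Ideal.mem_map_of_mem _ trivial
      exact (Ideal.eq_top_of_isUnit_mem _ this isUnit_one) ▸ trivial
    rw [← h2, Ideal.map_map, hcomp, ← Ideal.map_map]
    apply Ideal.map_mono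
    rw [Ideal.map_le_iff_le_comap]
    intro a ha
    exact (mem_primeIdealOf_iff_germ hV y hyV a).1 ha
  exact subring_eq_top_of_map_maximalIdeal hdim R ρ' (fun s => rfl) h1

end Groth.Agent.Lib.Helper11.OpenGG
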