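import Mathlib
import Groth.Prelude
import Groth.Agent.Lib.Helper11OpenGGB
import Groth.Agent.Lib.Helper11PlacesC
import Groth.Agent.Lib.Helper11KLB
import Groth.Agent.Lib.Helper11KLE

/-!
# helper11: a function on an affine open with poles at finitely many one-dimensional boundary points
-/

set_option autoImplicit false
universe u
open CategoryTheory Limits AlgebraicGeometry TopologicalSpace Opposite

namespace Groth.Agent.Lib.Helper11.OpenGG

/-- a point outside `U` whose specialisations outside `U` have local rings of dimension `≤ 1`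
is closed (`X` integral, `U` nonempty) -/
theorem isClosed_singleton_of_notMem {X : Scheme.{u}} [IsIntegral X] (U : X.Opens)
    (hne : (U : Set X).Nonempty)
    (hloc : ∀ x : X, x ∉ U → ringKrullDim (X.presheaf.stalk x) ≤ 1) (y : X) (hy : y ∉ U) :
    IsClosed ({y} : Set X) := by
  rw [← closure_eq_iff_isClosed]
  apply Set.Subset.antisymm _ subset_closure
  intro z hz
  have hyz : y ⤳ z := specializes_iff_mem_closure.2 hz
  have hzU : z ∉ U := fun h => hy (hyz.mem_open U.isOpen h)
  by_contra hne'
  have hzy : z ≠ y := hne'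
  have hηU : genericPoint X ∈ U :=
    ((genericPoint_spec X).mem_open_set_iff U.isOpen).mpr (by
      obtain ⟨x, hx⟩ := hne
      exact ⟨x, trivial, hx⟩)
  obtain ⟨p, hp⟩ : y ∈ Set.range (X.fromSpecStalk z) := by
    rw [Scheme.range_fromSpecStalk]; exact hyz
  haveI : Ring.KrullDimLE 1 (X.presheaf.stalk z) := (Ring.krullDimLE_iff).2 (hloc z hzU)
  by_cases hp0 : p.asIdeal = ⊥
  · -- `y` is the generic point
    obtain ⟨q, hq⟩ : genericPoint X ∈ Set.range (X.fromSpecStalk z) := by
      rw [Scheme.range_fromSpecStalk]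
      exact (genericPoint_spec X).specializes trivial
    have hpq : p ⤳ q := by
      refine (PrimeSpectrum.le_iff_specializes (R := X.presheaf.stalk z) p q).1 ?_
      change p.asIdeal ≤ q.asIdeal
      rw [hp0]; exact bot_le
    have h1 := hpq.map (X.fromSpecStalk z).continuous
    rw [hp, hq] at h1
    have h2 : genericPoint X ∈ closure ({y} : Set X) := specializes_iff_mem_closure.1 h1
    have h3 : closure ({y} : Set X) ⊆ (U : Set X)ᶜ :=
      closure_minimal (Set.singleton_subset_iff.2 hy) U.isOpen.isClosed_compl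
    exact h3 h2 hηU
  · have hmax : p.asIdeal.IsMaximal := Ideal.IsPrime.isMaximal_of_ne_bot p.2 hp0
    have h1 : p = IsLocalRing.closedPoint (X.presheaf.stalk z) := by
      apply PrimeSpectrum.ext
      exact IsLocalRing.eq_maximalIdeal hmax
    rw [h1, Scheme.fromSpecStalk_closedPoint] at hp
    exact hzy hp

/-- **the pole function**: there is `f ∈ Γ(X, U)` whose inverse lies in the maximal ideal of the local
ring of every boundary point. -/
theorem exists_pole {X : Scheme.{u}} [IsIntegral X] [X.IsSeparated] (U : X.Opens)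
    (hU : IsAffineOpen U) [Nonempty U] (hfin : ((U : Set X)ᶜ).Finite)
    (hloc : ∀ x : X, x ∉ U →
      IsNoetherianRing (X.presheaf.stalk x) ∧ ringKrullDim (X.presheaf.stalk x) = 1) :
    ∃ f : Γ(X, U), ∀ y : X, y ∉ U →
      ∃ r ∈ IsLocalRing.maximalIdeal (X.presheaf.stalk y),
        algebraMap (X.presheaf.stalk y) X.functionField r * (X.germToFunctionField U).hom f = 1 := by
  classical
  let J : Type u := {y : X // y ∉ U}
  haveI : Finite J := hfin.to_subtype
  let ρ : ∀ j : J, X.presheaf.stalk j.1 →+* X.functionField := fun j =>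
    algebraMap (X.presheaf.stalk j.1) X.functionField
  have hinj : ∀ j : J, Function.Injective (ρ j) := fun j =>
    IsFractionRing.injective (X.presheaf.stalk j.1) X.functionField
  haveI : ∀ j : J, IsFractionRing (ρ j).range X.functionField := fun j =>
    KL.isFractionRing_range (ρ j) (fun z => by
      obtain ⟨a, b, _, hab⟩ := IsFractionRing.div_surjective (A := X.presheaf.stalk j.1) z
      exact ⟨a, b, hab.symm⟩)
  haveI : ∀ j : J, IsNoetherianRing (ρ j).range := fun j => by
    haveI := (hloc j.1 j.2).1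
    exact isNoetherianRing_of_surjective _ _ (ρ j).rangeRestrict (ρ j).rangeRestrict_surjective
  have hdim : ∀ j : J, ringKrullDim (ρ j).range = 1 := fun j => by
    have e : X.presheaf.stalk j.1 ≃+* (ρ j).range :=
      RingEquiv.ofBijective (ρ j).rangeRestrict
        ⟨fun a b hab => hinj j (congrArg Subtype.val hab), (ρ j).rangeRestrict_surjective⟩
    rw [← ringKrullDim_eq_of_ringEquiv e]
    exact (hloc j.1 j.2).2
  haveI : ∀ j : J, Finite (MaximalSpectrum (ρ j).range) := fun j =>
    KL.finite_maximalSpectrum_range (ρ j)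
  obtain ⟨f, -, hf⟩ := Places.exists_mem_inv_mem_jacobson (C := Γ(X, U)) (J := J)
    (fun _ => X.functionField) (fun j => (ρ j).range) hdim
    (fun _ => (X.germToFunctionField U).hom)
    (fun j => range_sup_range_eq_top hU j.1 j.2 (hloc j.1 j.2).2.le) ⊤
    (fun j => ⟨1, trivial, by rw [map_one]; exact one_ne_zero⟩)
  refine ⟨f, fun y hy => ?_⟩
  obtain ⟨hf0, h, hjac⟩ := hf ⟨y, hy⟩
  obtain ⟨r, hr⟩ := id h
  have h1 : (⟨((X.germToFunctionField U).hom f)⁻¹, h⟩ : (ρ ⟨y, hy⟩).range) =
      ⟨ρ ⟨y, hy⟩ r, r, rfl⟩ := Subtype.ext hr.symm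
  rw [h1] at hjac
  refine ⟨r, KL.mem_maximalIdeal_of_mem_jacobson_range (ρ ⟨y, hy⟩) hjac, ?_⟩
  change ρ ⟨y, hy⟩ r * _ = 1
  rw [hr]
  exact inv_mul_cancel₀ hf0

end Groth.Agent.Lib.Helper11.OpenGG
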