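import Mathlib
set_option backward.isDefEq.respectTransparency.types false

/-!
# Punctured neighbourhoods of a point with quasi-compact punctured affine neighbourhood (helper23)

Namespace `Groth.Agent.Lib.Helper23.PuncNhd`.

Ring level:
* `exists_mul_mem_of_map_le` : clearing denominators for a finitely generated ideal
* `exists_notMem_forall_prime` : if `V(I) = {p}` with `I` f.g. and `K` is an ideal such that the only prime `q ≤ p`
  containing `K` is `p`, then there is `h ∉ p` with `V(K) ∩ D(h) ⊆ {p}`
* `finite_primeSpectrum_of_dim_le_one` : a Noetherian local ring of dimension `≤ 1` has finitely many primes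
-/

set_option autoImplicit false
universe u

namespace Groth.Agent.Lib.Helper23.PuncNhd

section ring
variable {R : Type*} [CommRing R] (p : Ideal R) [p.IsPrime] (B : Type*) [CommRing B] [Algebra R B]
  [IsLocalization.AtPrime B p]

include p in
theorem exists_mul_mem_of_map_le (J K : Ideal R) (hJ : J.FG)
    (h : J.map (algebraMap R B) ≤ K.map (algebraMap R B)) :
    ∃ h : R, h ∉ p ∧ ∀ a ∈ J, h * a ∈ K := by
  classical
  obtain ⟨s, rfl⟩ := hJ
  have h1 : ∀ a : R, ∃ c : R, c ∉ p ∧ (a ∈ s → c * a ∈ K) := by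
    intro a
    by_cases ha : a ∈ s
    · have h2 : algebraMap R B a ∈ K.map (algebraMap R B) :=
        h (Ideal.mem_map_of_mem _ (Ideal.subset_span ha))
      obtain ⟨⟨⟨k, hk⟩, t⟩, ht⟩ := (IsLocalization.mem_map_algebraMap_iff p.primeCompl B).1 h2
      rw [← map_mul] at ht
      obtain ⟨c, hc⟩ := (IsLocalization.eq_iff_exists p.primeCompl B).1 ht
      refine ⟨c * t, ?_, fun _ => ?_⟩
      · exact (c * t).2
      · have : (c : R) * t * a = c * k := by
          rw [← hc]
          ring
        rw [this]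
        exact K.mul_mem_left _ hk
    · exact ⟨1, p.primeCompl.one_mem, fun h => absurd h ha⟩
  choose c hc hcK using h1
  refine ⟨∏ a ∈ s, c a, ?_, ?_⟩
  · have : ∏ a ∈ s, c a ∈ p.primeCompl := Submonoid.prod_mem _ (fun a _ => hc a)
    exact this
  · intro a ha
    refine Submodule.span_induction (p := fun a _ => (∏ a ∈ s, c a) * a ∈ K) ?_ ?_ ?_ ?_ ha
    · intro a has
      rw [← Finset.mul_prod_erase s c has, mul_comm (c a), mul_assoc]
      exact K.mul_mem_left _ (hcK a has)
    · rw [mul_zero]
      exact K.zero_mem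
    · intro a b _ _ ha hb
      rw [mul_add]
      exact K.add_mem ha hb
    · intro r a _ ha
      rw [smul_eq_mul, mul_left_comm]
      exact K.mul_mem_left _ ha

include B in
/-- **punctured neighbourhoods, ring level** -/
theorem exists_notMem_forall_prime (I : Ideal R) (hI : I.FG) (hIp : I ≤ p)
    (hIV : ∀ q : Ideal R, q.IsPrime → I ≤ q → q = p)
    (K : Ideal R) (hK : ∀ q : Ideal R, q.IsPrime → q ≤ p → K ≤ q → q = p) :
    ∃ h : R, h ∉ p ∧ ∀ q : Ideal R, q.IsPrime → K ≤ q → h ∉ q → q = p := by
  have h1 : I.map (algebraMap R B) ≤ (K.map (algebraMap R B)).radical := by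
    rw [Ideal.radical_eq_sInf]
    refine le_sInf (fun J hJ => ?_)
    obtain ⟨hKJ, hJp⟩ := hJ
    have h2 := (IsLocalization.isPrime_iff_isPrime_disjoint p.primeCompl B J).1 hJp
    have hq : J.comap (algebraMap R B) = p := by
      refine hK _ h2.1 ?_ (Ideal.map_le_iff_le_comap.1 hKJ)
      intro a ha
      by_contra hap
      exact Set.disjoint_left.1 h2.2 hap ha
    calc I.map (algebraMap R B) ≤ p.map (algebraMap R B) := Ideal.map_mono hIp
      _ = (J.comap (algebraMap R B)).map (algebraMap R B) := by rw [hq]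
      _ ≤ J := Ideal.map_comap_le
  obtain ⟨m, hm⟩ := Ideal.exists_pow_le_of_le_radical_of_fg h1 (hI.map _)
  rw [← Ideal.map_pow] at hm
  obtain ⟨h, hhp, hh⟩ := exists_mul_mem_of_map_le p B (I ^ m) K (Submodule.FG.pow hI m) hm
  refine ⟨h, hhp, fun q hq hKq hhq => hIV q hq ?_⟩
  have h3 : I ^ m ≤ q := by
    intro a ha
    have := hKq (hh a ha)
    exact (hq.mem_or_mem this).resolve_left hhq
  exact hq.le_of_pow_le h3

end ring

section finite
variable (B : Type*) [CommRing B] [IsLocalRing B] [IsNoetherianRing B]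

theorem finite_primeSpectrum_of_dim_le_one (hdim : ringKrullDim B ≤ 1) : Finite (PrimeSpectrum B) := by
  have h1 : ∀ q : PrimeSpectrum B, IsMin q ∨ IsMax q := Order.krullDim_le_one_iff.1 hdim
  have hfin : (minimalPrimes B).Finite := minimalPrimes.finite_of_isNoetherianRing B
  have h2 : (Set.univ : Set (PrimeSpectrum B)) ⊆
      (PrimeSpectrum.asIdeal ⁻¹' (minimalPrimes B)) ∪ {IsLocalRing.closedPoint B} := by
    intro q _
    rcases h1 q with h | h
    · left
      refine ⟨⟨q.2, bot_le⟩, fun J hJ hJq => ?_⟩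
      exact h (b := ⟨J, hJ.1⟩) hJq
    · right
      have h3 : q ≤ IsLocalRing.closedPoint B := IsLocalRing.le_maximalIdeal q.2.ne_top
      exact le_antisymm h3 (h h3)
  have h3 : (PrimeSpectrum.asIdeal ⁻¹' (minimalPrimes B) : Set (PrimeSpectrum B)).Finite :=
    hfin.preimage (fun a _ b _ hab => PrimeSpectrum.ext hab)
  exact Set.finite_univ_iff.1 ((h3.union (Set.finite_singleton _)).subset h2)

end finite

end Groth.Agent.Lib.Helper23.PuncNhd
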