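import Mathlib
import Groth.Agent.Lib.Helper23PuncNhd
set_option backward.isDefEq.respectTransparency.types false

/-!
# Punctured neighbourhoods, scheme level (helper23)

Namespace `Groth.Agent.Lib.Helper23.PuncNhd`.

* `exists_punctured_basicOpen` : `x` in an affine open `A` whose punctured neighbourhood `A ∖ {x}` is a quasi-compact
  open; any open `D` containing all proper generizations of `x` contains a punctured basic open neighbourhood of `x`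
* `exists_basicOpen_generizations` : if the local ring at `x` is Noetherian of dimension `≤ 1`, there is a function `g`
  on `A` vanishing at `x` and invertible at all proper generizations of `x`
-/

set_option autoImplicit false
universe u
open CategoryTheory AlgebraicGeometry TopologicalSpace Opposite

namespace Groth.Agent.Lib.Helper23.PuncNhd

variable {X : Scheme.{u}} {A : X.Opens} (hA : IsAffineOpen A)

include hA in
theorem fromSpec_mem (z : PrimeSpectrum Γ(X, A)) : hA.fromSpec z ∈ A := by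
  have : hA.fromSpec z ∈ Set.range hA.fromSpec := Set.mem_range_self z
  rw [hA.range_fromSpec] at this
  exact this

theorem mem_basicOpen_iff (y : X) (hy : y ∈ A) (r : Γ(X, A)) :
    y ∈ X.basicOpen r ↔ r ∉ (hA.primeIdealOf ⟨y, hy⟩).asIdeal := by
  have h := hA.fromSpec_primeIdealOf ⟨y, hy⟩
  have h2 : (hA.fromSpec (hA.primeIdealOf ⟨y, hy⟩) ∈ X.basicOpen r) ↔
      r ∉ (hA.primeIdealOf ⟨y, hy⟩).asIdeal := by
    change hA.primeIdealOf ⟨y, hy⟩ ∈ (hA.fromSpec ⁻¹ᵁ X.basicOpen r) ↔ _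
    rw [hA.fromSpec_preimage_basicOpen]
    rfl
  rw [h] at h2
  exact h2

theorem eq_primeIdealOf_of_fromSpec_eq (x : X) (hx : x ∈ A) (z : PrimeSpectrum Γ(X, A))
    (h : hA.fromSpec z = x) : z = hA.primeIdealOf ⟨x, hx⟩ := by
  apply hA.fromSpec.isOpenEmbedding.injective
  rw [h]
  exact (hA.fromSpec_primeIdealOf ⟨x, hx⟩).symm

theorem fromSpec_specializes (x : X) (hx : x ∈ A) (z : PrimeSpectrum Γ(X, A))
    (hz : z.asIdeal ≤ (hA.primeIdealOf ⟨x, hx⟩).asIdeal) : hA.fromSpec z ⤳ x := by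
  have h1 : z ⤳ hA.primeIdealOf ⟨x, hx⟩ := (PrimeSpectrum.le_iff_specializes _ _).mp hz
  have h2 := h1.map hA.fromSpec.continuous
  rwa [hA.fromSpec_primeIdealOf ⟨x, hx⟩] at h2

theorem primeIdealOf_le_of_specializes (ξ x : X) (hξ : ξ ∈ A) (hx : x ∈ A) (h : ξ ⤳ x) :
    (hA.primeIdealOf ⟨ξ, hξ⟩).asIdeal ≤ (hA.primeIdealOf ⟨x, hx⟩).asIdeal := by
  have h1 : (⟨ξ, hξ⟩ : A) ⤳ ⟨x, hx⟩ := (subtype_specializes_iff _ _).mpr h
  have h2 : hA.isoSpec.hom.base ⟨ξ, hξ⟩ ⤳ hA.isoSpec.hom.base ⟨x, hx⟩ :=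
    h1.map hA.isoSpec.hom.continuous
  exact (PrimeSpectrum.le_iff_specializes _ _).mpr h2

theorem eq_of_primeIdealOf_eq (x z : X) (hx : x ∈ A) (hz : z ∈ A)
    (h : hA.primeIdealOf ⟨x, hx⟩ = hA.primeIdealOf ⟨z, hz⟩) : x = z := by
  have h1 := hA.fromSpec_primeIdealOf ⟨x, hx⟩
  have h2 := hA.fromSpec_primeIdealOf ⟨z, hz⟩
  rw [h] at h1
  exact h1.symm.trans h2

include hA in
/-- **punctured neighbourhoods** -/
theorem exists_punctured_basicOpen (x : X) (hx : x ∈ A) (U : X.Opens) (hU : ∀ w ∈ A, w ∈ U ↔ w ≠ x)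
    (hcpt : IsCompact ((A ⊓ U : X.Opens) : Set X))
    (D : X.Opens) (hD : ∀ ξ : X, ξ ⤳ x → ξ ≠ x → ξ ∈ D) :
    ∃ h : Γ(X, A), x ∈ X.basicOpen h ∧ ∀ w ∈ X.basicOpen h, w ≠ x → w ∈ D := by
  classical
  -- a finitely generated ideal cutting out `x`
  have h1 : ∀ y : ↥(A ⊓ U), ∃ a : Γ(X, A), X.basicOpen a ≤ A ⊓ U ∧ (y : X) ∈ X.basicOpen a := fun y =>
    hA.exists_basicOpen_le (V := A ⊓ U) y y.2.1
  choose a haU hya using h1
  obtain ⟨t, ht⟩ := hcpt.elim_finite_subcover (fun y : ↥(A ⊓ U) => ((X.basicOpen (a y) : X.Opens) : Set X))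
    (fun y => (X.basicOpen (a y)).isOpen) (fun w hw => Set.mem_iUnion.2 ⟨⟨w, hw⟩, hya ⟨w, hw⟩⟩)
  set p := (hA.primeIdealOf ⟨x, hx⟩).asIdeal with hp
  let I : Ideal Γ(X, A) := Ideal.span ((t.image a : Finset Γ(X, A)) : Set Γ(X, A))
  have hIfg : I.FG := ⟨t.image a, rfl⟩
  have hxU : x ∉ U := fun h => (hU x hx).1 h rfl
  have hIp : I ≤ p := by
    refine Ideal.span_le.2 (fun r hr => ?_)
    obtain ⟨y, hy, rfl⟩ := Finset.mem_image.1 (Finset.mem_coe.1 hr)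
    by_contra hnot
    have h2 : x ∈ X.basicOpen (a y) := (mem_basicOpen_iff hA x hx (a y)).2 hnot
    exact hxU (haU y h2).2
  have hIV : ∀ q : Ideal Γ(X, A), q.IsPrime → I ≤ q → q = p := by
    intro q hq hIq
    have hwA := fromSpec_mem hA ⟨q, hq⟩
    by_cases hw : hA.fromSpec ⟨q, hq⟩ = x
    · have := eq_primeIdealOf_of_fromSpec_eq hA x hx ⟨q, hq⟩ hw
      exact congrArg PrimeSpectrum.asIdeal this
    · exfalso
      have hwU : hA.fromSpec ⟨q, hq⟩ ∈ U := (hU _ hwA).2 hw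
      have h3 := ht (⟨hwA, hwU⟩ : hA.fromSpec ⟨q, hq⟩ ∈ ((A ⊓ U : X.Opens) : Set X))
      simp only [Set.mem_iUnion] at h3
      obtain ⟨y, hyt, hwy⟩ := h3
      have h4 := (mem_basicOpen_iff hA _ hwA (a y)).1 hwy
      have h5 : hA.primeIdealOf ⟨hA.fromSpec ⟨q, hq⟩, hwA⟩ = ⟨q, hq⟩ :=
        (eq_primeIdealOf_of_fromSpec_eq hA _ hwA ⟨q, hq⟩ rfl).symm
      rw [h5] at h4
      exact h4 (hIq (Ideal.subset_span (Finset.mem_coe.2 (Finset.mem_image.2 ⟨y, hyt, rfl⟩))))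
  -- the ideal of the complement of `D`
  let S : Set (PrimeSpectrum Γ(X, A)) := ((hA.fromSpec ⁻¹ᵁ D : (Spec Γ(X, A)).Opens) : Set (Spec Γ(X, A)))ᶜ
  have hSc : IsClosed S := (hA.fromSpec ⁻¹ᵁ D).isOpen.isClosed_compl
  let K : Ideal Γ(X, A) := PrimeSpectrum.vanishingIdeal S
  have hK1 : ∀ q : Ideal Γ(X, A), ∀ hq : q.IsPrime, K ≤ q → hA.fromSpec ⟨q, hq⟩ ∉ D := by
    intro q hq hKq
    have h2 : (⟨q, hq⟩ : PrimeSpectrum Γ(X, A)) ∈ PrimeSpectrum.zeroLocus (K : Set Γ(X, A)) :=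
      (PrimeSpectrum.mem_zeroLocus _ _).2 hKq
    rw [PrimeSpectrum.zeroLocus_vanishingIdeal_eq_closure, hSc.closure_eq] at h2
    exact h2
  have hK2 : ∀ (w : X) (hw : w ∈ A), w ∉ D → K ≤ (hA.primeIdealOf ⟨w, hw⟩).asIdeal := by
    intro w hw hwD r hr
    refine (PrimeSpectrum.mem_vanishingIdeal _ _).1 hr _ ?_
    change hA.fromSpec (hA.primeIdealOf ⟨w, hw⟩) ∉ D
    rw [hA.fromSpec_primeIdealOf ⟨w, hw⟩]
    exact hwD
  have hK : ∀ q : Ideal Γ(X, A), q.IsPrime → q ≤ p → K ≤ q → q = p := by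
    intro q hq hqp hKq
    have hnD := hK1 q hq hKq
    have hsp := fromSpec_specializes hA x hx ⟨q, hq⟩ hqp
    by_cases hw : hA.fromSpec ⟨q, hq⟩ = x
    · exact congrArg PrimeSpectrum.asIdeal (eq_primeIdealOf_of_fromSpec_eq hA x hx ⟨q, hq⟩ hw)
    · exact absurd (hD _ hsp hw) hnD
  letI := X.presheaf.algebra_section_stalk ⟨x, hx⟩
  haveI : IsLocalization.AtPrime (X.presheaf.stalk x) p := hA.isLocalization_stalk ⟨x, hx⟩
  obtain ⟨h, hhp, hh⟩ := exists_notMem_forall_prime p (X.presheaf.stalk x) I hIfg hIp hIV K hK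
  refine ⟨h, (mem_basicOpen_iff hA x hx h).2 hhp, fun w hw hwx => ?_⟩
  by_contra hwD
  have hwA : w ∈ A := X.basicOpen_le h hw
  have h6 := hh _ (hA.primeIdealOf ⟨w, hwA⟩).2 (hK2 w hwA hwD) ((mem_basicOpen_iff hA w hwA h).1 hw)
  exact hwx (eq_of_primeIdealOf_eq hA w x hwA hx (PrimeSpectrum.ext h6))

/-- finitely many proper generizations when the local ring is Noetherian of dimension `≤ 1` -/
theorem finite_generizations (x : X) [IsNoetherianRing (X.presheaf.stalk x)]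
    (hdim : ringKrullDim (X.presheaf.stalk x) ≤ 1) : {ξ : X | ξ ⤳ x ∧ ξ ≠ x}.Finite := by
  haveI : Finite (PrimeSpectrum (X.presheaf.stalk x)) := finite_primeSpectrum_of_dim_le_one _ hdim
  haveI : Finite ↥(Spec (X.presheaf.stalk x)) := ‹Finite (PrimeSpectrum (X.presheaf.stalk x))›
  refine (Set.finite_range (X.fromSpecStalk x)).subset (fun ξ hξ => ?_)
  rw [Scheme.range_fromSpecStalk]
  exact hξ.1

include hA in
/-- a function vanishing at `x` and invertible at all proper generizations of `x` -/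
theorem exists_basicOpen_generizations (x : X) (hx : x ∈ A) [IsNoetherianRing (X.presheaf.stalk x)]
    (hdim : ringKrullDim (X.presheaf.stalk x) ≤ 1) :
    ∃ g : Γ(X, A), x ∉ X.basicOpen g ∧ ∀ ξ : X, ξ ⤳ x → ξ ≠ x → ξ ∈ X.basicOpen g := by
  classical
  have hE : {ξ : X | ξ ⤳ x ∧ ξ ≠ x}.Finite := finite_generizations x hdim
  set p := (hA.primeIdealOf ⟨x, hx⟩).asIdeal with hp
  let f : X → Ideal Γ(X, A) := fun ξ => if h : ξ ∈ A then (hA.primeIdealOf ⟨ξ, h⟩).asIdeal else ⊤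
  have hmemA : ∀ ξ, ξ ⤳ x → ξ ∈ A := fun ξ hξ => hξ.mem_open A.isOpen hx
  have hf : ∀ ξ (h : ξ ∈ A), f ξ = (hA.primeIdealOf ⟨ξ, h⟩).asIdeal := fun ξ h => dif_pos h
  have h1 : ¬ ((p : Set Γ(X, A)) ⊆ ⋃ ξ ∈ (↑hE.toFinset : Set X), f ξ) := by
    rw [Ideal.subset_union_prime x x]
    · rintro ⟨ξ, hξs, hpξ⟩
      have hξ := hE.mem_toFinset.1 hξs
      have hξA := hmemA ξ hξ.1
      rw [hf ξ hξA] at hpξ
      have h2 := primeIdealOf_le_of_specializes hA ξ x hξA hx hξ.1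
      exact hξ.2 (eq_of_primeIdealOf_eq hA ξ x hξA hx (PrimeSpectrum.ext (le_antisymm h2 hpξ)))
    · intro ξ hξs _ _
      have hξ := hE.mem_toFinset.1 hξs
      rw [hf ξ (hmemA ξ hξ.1)]
      exact (hA.primeIdealOf _).2
  obtain ⟨g, hgp, hg⟩ := Set.not_subset.1 h1
  refine ⟨g, fun h => (mem_basicOpen_iff hA x hx g).1 h hgp, fun ξ hξ hne => ?_⟩
  have hξA := hmemA ξ hξ
  rw [mem_basicOpen_iff hA ξ hξA g]
  intro hgξ
  apply hg
  simp only [Set.mem_iUnion]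
  exact ⟨ξ, Finset.mem_coe.2 (hE.mem_toFinset.2 ⟨hξ, hne⟩), by rw [hf ξ hξA]; exact hgξ⟩

end Groth.Agent.Lib.Helper23.PuncNhd
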