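import Mathlib
import Groth.Prelude
import Groth.Agent.Lib.Helper23FamPic3
import Groth.Agent.Lib.Helper23PuncNhd2
set_option backward.isDefEq.respectTransparency.types false

/-!
# Extending invertible modules over a discrete set of points with Noetherian local rings of dimension ≤ 1 (helper23)

Namespace `Groth.Agent.Lib.Helper23.OpenPic`.
-/

set_option autoImplicit false
universe u
open CategoryTheory Limits AlgebraicGeometry TopologicalSpace Opposite

namespace Groth.Agent.Lib.Helper23.OpenPic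
open Groth.Agent.Lib.Helper23.SecTw Groth.Agent.Lib.Helper6 Groth.Agent.Lib.Helper23.PB
  Groth.Agent.Helper13PullbackUnit Groth.Agent.Lib.Helper23.GenLocus Groth.Agent.Lib.Helper23.Extend
  Groth.Agent.Lib.Helper23.GenNear Groth.Agent.Lib.Helper23.FinPic Groth.Agent.Lib.Helper23.ClPic
  Groth.Agent.Lib.Helper23.FamPic Groth.Agent.Lib.Helper23.PuncNhd

variable (X : Scheme.{u}) (U : X.Opens) [QuasiCompact U.ι] (hdisc : DiscreteTopology ↥((U : Set X)ᶜ))

include hdisc in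
/-- local data at a point outside `U` -/
theorem exists_local_data (x : X) (hx : x ∉ U) [IsNoetherianRing (X.presheaf.stalk x)]
    (hdim : ringKrullDim (X.presheaf.stalk x) ≤ 1) :
    ∃ (A : X.Opens) (_ : IsAffineOpen A) (g : Γ(X, A)), x ∈ A ∧ (∀ w ∈ A, w ∈ U ↔ w ≠ x) ∧
      IsCompact ((A ⊓ U : X.Opens) : Set X) ∧ x ∉ X.basicOpen g ∧
      ∀ ξ : X, ξ ⤳ x → ξ ≠ x → ξ ∈ X.basicOpen g := by
  obtain ⟨O, hxO, hO⟩ := exists_isolating_nhd U hdisc x
  obtain ⟨_, ⟨A, hA, rfl⟩, hxA, hAO⟩ := X.isBasis_affineOpens.exists_subset_of_mem_open hxO O.isOpen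
  obtain ⟨g, hg1, hg2⟩ := exists_basicOpen_generizations hA x hxA hdim
  refine ⟨A, hA, g, hxA, ?_, ?_, hg1, hg2⟩
  · intro w hw
    constructor
    · intro hwU hwx
      exact hx (hwx ▸ hwU)
    · intro hwx
      by_contra hwU
      exact hwx (hO w (hAO hw) hwU)
  · have h1 : IsCompact (U.ι ⁻¹' (A : Set X)) :=
      QuasiCompact.isCompact_preimage (f := U.ι) _ A.isOpen hA.isCompact
    have h2 := h1.image U.ι.continuous
    rw [Set.image_preimage_eq_inter_range, Scheme.Opens.range_ι] at h2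
    exact h2

include hdisc in
/-- **`Pic X → Pic U` is surjective** -/
theorem exists_extension
    (hloc : ∀ x : X, x ∉ U → IsNoetherianRing (X.presheaf.stalk x) ∧ ringKrullDim (X.presheaf.stalk x) ≤ 1)
    (N : (↑U : Scheme.{u}).Modules) (hN : PicF.IsInvertible N) :
    ∃ L : X.Modules, PicF.IsInvertible L ∧ Nonempty (L.restrict U.ι ≅ N) := by
  classical
  have hbij : ∀ W : X.Opens, W ≤ U → Function.Bijective
      (fun (a : Γ(X, W)) (_ : Unit) => (U.ι.app W a : Γ(↑U, U.ι ⁻¹ᵁ W))) := by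
    intro W hW
    haveI : IsIso (U.ι.app W) := Scheme.Hom.isIso_app U.ι W (by rw [Scheme.Opens.opensRange_ι]; exact hW)
    have hb : Function.Bijective (U.ι.app W) := ConcreteCategory.bijective_of_isIso _
    constructor
    · intro a b hab
      exact hb.1 (congrFun hab ())
    · intro b
      obtain ⟨a, ha⟩ := hb.2 (b ())
      exact ⟨a, funext fun _ => ha⟩
  have h0 : ∀ y : X, ∃ (O : X.Opens) (e : Unit → Γ(N, U.ι ⁻¹ᵁ O)), y ∈ O ∧ (∀ w ∈ O, w ∉ U → w = y) ∧
      IsAffineOpen O ∧ ∀ _ : Unit, IsGen N (U.ι ⁻¹ᵁ O) (e ()) := by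
    intro y
    by_cases hy : y ∈ U
    · obtain ⟨W', e, hyW', hgen⟩ := exists_gen N hN ⟨y, hy⟩
      obtain ⟨_, ⟨O, hO, rfl⟩, hyO, hOW'⟩ := X.isBasis_affineOpens.exists_subset_of_mem_open
        (show y ∈ U.ι ''ᵁ W' from ⟨⟨y, hy⟩, hyW', rfl⟩) (U.ι ''ᵁ W').isOpen
      have hle : U.ι ⁻¹ᵁ O ≤ W' := by
        intro u hu
        obtain ⟨u', hu', huu'⟩ := hOW' hu
        have : u' = u := U.ι.isOpenEmbedding.injective huu'
        exact this ▸ hu'
      refine ⟨O, fun _ => res N hle e, hyO, ?_, hO, fun _ => hgen.mono hle⟩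
      intro w hw hwU
      obtain ⟨u', -, huu'⟩ := hOW' hw
      exact absurd (huu' ▸ u'.2) hwU
    · haveI := (hloc y hy).1
      obtain ⟨A, hA, g, hyA, hAU, hcpt, hg1, hg2⟩ := exists_local_data X U hdisc y hy (hloc y hy).2
      have hB₀ : IsAffineOpen (X.basicOpen g) := hA.basicOpen g
      have hB₀U : X.basicOpen g ≤ U := by
        intro w hw
        exact (hAU w (X.basicOpen_le g hw)).2 (fun h => hg1 (h ▸ hw))
      have hV₀ : IsAffineOpen (U.ι ⁻¹ᵁ X.basicOpen g) :=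
        hB₀.preimage_of_isOpenImmersion U.ι (by rw [Scheme.Opens.opensRange_ι]; exact hB₀U)
      have hE := finite_generizations y (hloc y hy).2
      have hE' : {u : (↑U : Scheme.{u}) | u.1 ⤳ y ∧ u.1 ≠ y}.Finite :=
        hE.preimage (fun a _ b _ hab => Subtype.ext hab)
      obtain ⟨g', hg'E, hiso⟩ := Groth.Agent.Lib.Helper2.SemiLocFree.exists_basicOpen_iso_freeMod N 1
        (isFinLocFreeOfRank_one_of_isInvertible N hN) _ hE' hV₀ (fun u hu => hg2 u.1 hu.1 hu.2)
      obtain ⟨e, he⟩ := exists_isGen_of_iso_freeMod N _ hiso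
      obtain ⟨h, hyh, hh⟩ := exists_punctured_basicOpen hA y hyA U hAU hcpt
        (U.ι ''ᵁ ((↑U : Scheme.{u}).basicOpen g')) (by
          intro ξ hξ hne
          have hξU : ξ ∈ U := hB₀U (hg2 ξ hξ hne)
          exact ⟨⟨ξ, hξU⟩, hg'E ⟨hξ, hne⟩, rfl⟩)
      have hle : U.ι ⁻¹ᵁ X.basicOpen h ≤ (↑U : Scheme.{u}).basicOpen g' := by
        intro u hu
        have hne : u.1 ≠ y := fun h => hy (h ▸ u.2)
        obtain ⟨u', hu', huu'⟩ := hh u.1 hu hne
        have : u' = u := U.ι.isOpenEmbedding.injective huu'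
        exact this ▸ hu'
      refine ⟨X.basicOpen h, fun _ => res N hle e, hyh, ?_, hA.basicOpen h, fun _ => he.mono hle⟩
      intro w hw hwU
      by_contra hne
      exact hwU ((hAU w (X.basicOpen_le h hw)).2 hne)
  obtain ⟨L, hL, hiso⟩ := exists_pullback_iso_family_of_frames (fun _ : Unit => (↑U : Scheme.{u}))
    (fun _ => U.ι) U hbij (fun _ => N) h0
  obtain ⟨e⟩ := hiso ()
  exact ⟨L, hL, ⟨(Scheme.Modules.restrictFunctorIsoPullback U.ι).app L ≪≫ e⟩⟩

include hdisc in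
/-- **`U = X_s` for an invertible module `L` and a global section `s`** -/
theorem exists_invertible_section
    (hloc : ∀ x : X, x ∉ U → IsNoetherianRing (X.presheaf.stalk x) ∧ ringKrullDim (X.presheaf.stalk x) ≤ 1) :
    ∃ (L : X.Modules) (s : Coh.structureModule X ⟶ L), PicF.IsInvertible L ∧ CohB1.genLocus L s = U := by
  classical
  -- local equations
  have h1 : ∀ y : X, ∃ (W : X.Opens) (γ : Γ(X, W)), y ∈ W ∧ (∀ w ∈ W, w ≠ y → w ∈ U) ∧
      X.basicOpen γ = W ⊓ U := by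
    intro y
    by_cases hy : y ∈ U
    · refine ⟨U, 1, hy, fun w hw _ => hw, ?_⟩
      rw [Scheme.basicOpen_of_isUnit _ isUnit_one, inf_idem]
    · haveI := (hloc y hy).1
      obtain ⟨A, hA, g, hyA, hAU, hcpt, hg1, hg2⟩ := exists_local_data X U hdisc y hy (hloc y hy).2
      obtain ⟨h, hyh, hh⟩ := exists_punctured_basicOpen hA y hyA U hAU hcpt (X.basicOpen g) hg2
      refine ⟨X.basicOpen h, resf (X.basicOpen_le h) g, hyh, ?_, ?_⟩
      · intro w hw hne
        exact (hAU w (X.basicOpen_le h hw)).2 hne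
      · rw [Scheme.basicOpen_res]
        ext w
        constructor
        · rintro ⟨hw1, hw2⟩
          exact ⟨hw1, (hAU w (X.basicOpen_le h hw1)).2 (fun hwy => hg1 (hwy ▸ hw2))⟩
        · rintro ⟨hw1, hw2⟩
          exact ⟨hw1, hh w hw1 ((hAU w (X.basicOpen_le h hw1)).1 hw2)⟩
  choose W γ hyW hWU hγ using h1
  have hle : ∀ x y, x ≠ y → W x ⊓ W y ≤ U := by
    intro x y hxy w hw
    by_cases hwx : w = x
    · exact hWU y w hw.2 (fun h => hxy (hwx.symm.trans h))
    · exact hWU x w hw.1 hwx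
  -- the units `γ` restricted to `W ⊓ U`
  have hu : ∀ y, IsUnit (resf (inf_le_left : W y ⊓ U ≤ W y) (γ y)) := by
    intro y
    have h2 : IsUnit (resf (X.basicOpen_le (γ y)) (γ y)) := X.toRingedSpace.isUnit_res_basicOpen (γ y)
    have h3 : W y ⊓ U ≤ X.basicOpen (γ y) := (hγ y).ge
    have h4 := h2.map (X.presheaf.map (homOfLE h3).op).hom
    have h5 : (X.presheaf.map (homOfLE h3).op).hom (resf (X.basicOpen_le (γ y)) (γ y)) =
        resf (inf_le_left : W y ⊓ U ≤ W y) (γ y) := resf_resf _ _ _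
    rw [h5] at h4
    exact h4
  let u : ∀ y, (Γ(X, W y ⊓ U))ˣ := fun y => (hu y).unit
  have huv : ∀ y, ((u y : (Γ(X, W y ⊓ U))ˣ) : Γ(X, W y ⊓ U)) = resf inf_le_left (γ y) := fun y =>
    IsUnit.unit_spec _
  obtain ⟨N, s, hN, hs, htr⟩ := exists_module_of_virtual_units U W hyW hle (fun y => (u y)⁻¹)
  -- the local sections
  let σ : ∀ y, Γ(N, W y) := fun y => γ y • s y
  have hcompat : TopCat.Presheaf.IsCompatible (modSheaf N).1 W σ := by
    intro x y
    change res N (inf_le_left : W x ⊓ W y ≤ W x) (σ x) = res N (inf_le_right : W x ⊓ W y ≤ W y) (σ y)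
    by_cases hxy : x = y
    · subst hxy
      rfl
    · have hT := hle x y hxy
      have e1 := htr x y (W x ⊓ W y) le_rfl hT
      change res N _ (γ x • s x) = res N _ (γ y • s y)
      rw [res_smul, res_smul, e1, ← mul_smul]
      congr 1
      have e2 : resf (inf_le_left : W x ⊓ W y ≤ W x) (γ x) =
          ((resu (le_inf inf_le_left hT : W x ⊓ W y ≤ W x ⊓ U) (u x) : (Γ(X, W x ⊓ W y))ˣ) :
            Γ(X, W x ⊓ W y)) := by
        rw [coe_resu, huv, resf_resf]
      have e3 : resf (inf_le_right : W x ⊓ W y ≤ W y) (γ y) =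
          ((resu (le_inf inf_le_right hT : W x ⊓ W y ≤ W y ⊓ U) (u y) : (Γ(X, W x ⊓ W y))ˣ) :
            Γ(X, W x ⊓ W y)) := by
        rw [coe_resu, huv, resf_resf]
      rw [e2, e3, map_inv, map_inv, inv_inv, Units.val_mul, Units.mul_inv_cancel_left]
  have hcov : (⊤ : X.Opens) ≤ ⨆ y, W y := fun y _ => Opens.mem_iSup.2 ⟨y, hyW y⟩
  obtain ⟨σ₀, hσ₀, -⟩ := (modSheaf N).existsUnique_gluing' W ⊤ (fun y => homOfLE le_top) hcov σ hcompat
  have hσ₀' : ∀ y, res N (le_top : W y ≤ ⊤) σ₀ = γ y • s y := hσ₀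
  refine ⟨N, secHom N σ₀, hN, ?_⟩
  have h6 : ∀ y, CohB1.genLocus N (secHom N σ₀) ⊓ W y = W y ⊓ U := by
    intro y
    rw [genLocus_inf_eq_of_isGen N (secHom N σ₀) (W y) (s y) (γ y) (hs y)
      (by rw [sv_secHom]; exact hσ₀' y), hγ y]
  ext w
  constructor
  · intro hw
    have : w ∈ CohB1.genLocus N (secHom N σ₀) ⊓ W w := ⟨hw, hyW w⟩
    rw [h6 w] at this
    exact this.2
  · intro hw
    have : w ∈ W w ⊓ U := ⟨hyW w, hw⟩
    rw [← h6 w] at this
    exact this.1

end Groth.Agent.Lib.Helper23.OpenPic
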