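import Mathlib
import Groth.Prelude
import Groth.Agent.Lib.Helper11OpenGGC
import Groth.Agent.Lib.Helper23OpenPic
import Groth.Agent.Lib.Helper23SecTw10
set_option backward.isDefEq.respectTransparency.types false

/-!
# helper11: an affine open with finitely many one-dimensional Noetherian boundary points is `X_s`
for a section `s` of a globally generated invertible module
-/

set_option autoImplicit false
universe u
open CategoryTheory Limits AlgebraicGeometry TopologicalSpace Opposite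

namespace Groth.Agent.Lib.Helper11.OpenGG
open Groth.Agent.Lib.Helper23.SecTw Groth.Agent.Lib.Helper6 Groth.Agent.Lib.Helper23.PB
  Groth.Agent.Helper13PullbackUnit Groth.Agent.Lib.Helper23.GenLocus Groth.Agent.Lib.Helper23.Extend
  Groth.Agent.Lib.Helper23.GenNear Groth.Agent.Lib.Helper23.FinPic Groth.Agent.Lib.Helper23.ClPic
  Groth.Agent.Lib.Helper23.FamPic Groth.Agent.Lib.Helper23.PuncNhd

theorem resf_one' {X : Scheme.{u}} {U V : X.Opens} (h : V ≤ U) : resf h (1 : Γ(X, U)) = 1 :=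
  map_one (X.presheaf.map (homOfLE h).op).hom

theorem resf_mul' {X : Scheme.{u}} {U V : X.Opens} (h : V ≤ U) (a b : Γ(X, U)) :
    resf h (a * b) = resf h a * resf h b :=
  map_mul (X.presheaf.map (homOfLE h).op).hom a b

/-- local equations at every point -/
theorem exists_local_eq {X : Scheme.{u}} [IsIntegral X] (U : X.Opens) [Nonempty U]
    (hfin : ((U : Set X)ᶜ).Finite) (hcl : ∀ y : X, y ∉ U → IsClosed ({y} : Set X))
    (f : Γ(X, U))
    (hf : ∀ y : X, y ∉ U → ∃ r ∈ IsLocalRing.maximalIdeal (X.presheaf.stalk y),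
        algebraMap (X.presheaf.stalk y) X.functionField r * (X.germToFunctionField U).hom f = 1)
    (y : X) :
    ∃ (W : X.Opens) (γ δ : Γ(X, W)), y ∈ W ∧ (∀ w ∈ W, w ≠ y → w ∈ U) ∧
      IsUnit (resf (inf_le_left : W ⊓ U ≤ W) γ) ∧
      resf (inf_le_left : W ⊓ U ≤ W) δ =
        resf (inf_le_right : W ⊓ U ≤ U) f * resf (inf_le_left : W ⊓ U ≤ W) γ ∧
      X.basicOpen γ = W ⊓ U ∧ (y ∉ U → y ∈ X.basicOpen δ) := by
  classical
  by_cases hy : y ∈ U
  · refine ⟨U, 1, f, hy, fun w hw _ => hw, ?_, ?_, ?_, fun h => absurd hy h⟩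
    · rw [resf_one']; exact isUnit_one
    · rw [resf_one', mul_one]
    · rw [Scheme.basicOpen_of_isUnit _ isUnit_one, inf_idem]
  · obtain ⟨r, hr, hrf⟩ := hf y hy
    obtain ⟨W', hyW', γ', hγ'⟩ := X.presheaf.exists_germ_eq r
    set S : Set X := (U : Set X)ᶜ \ {y} with hS
    have hSfin : S.Finite := hfin.subset Set.sdiff_subset
    have hScl : IsClosed S := by
      have : S = ⋃ z ∈ S, ({z} : Set X) := (Set.biUnion_of_singleton S).symm
      rw [this]
      exact hSfin.isClosed_biUnion (fun z hz => hcl z hz.1)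
    let O : X.Opens := ⟨Sᶜ, hScl.isOpen_compl⟩
    have hyO : y ∈ O := fun h => h.2 rfl
    set W : X.Opens := W' ⊓ O with hW
    have hyW : y ∈ W := ⟨hyW', hyO⟩
    set γ : Γ(X, W) := resf (inf_le_left : W ≤ W') γ' with hγdef
    have hWU : ∀ w ∈ W, w ≠ y → w ∈ U := by
      intro w hw hne
      by_contra hwU
      exact hw.2 ⟨hwU, hne⟩
    have hηU : genericPoint X ∈ U :=
      ((genericPoint_spec X).mem_open_set_iff U.isOpen).mpr (by
        obtain ⟨⟨x, hx⟩⟩ := ‹Nonempty U›
        exact ⟨x, trivial, hx⟩)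
    have hηW : genericPoint X ∈ W :=
      ((genericPoint_spec X).mem_open_set_iff W.isOpen).mpr ⟨y, trivial, hyW⟩
    have hη : genericPoint X ∈ W ⊓ U := ⟨hηW, hηU⟩
    haveI : Nonempty (W ⊓ U : X.Opens) := ⟨⟨_, hη⟩⟩
    haveI : Nonempty W' := ⟨⟨_, hyW'⟩⟩
    have hgermγ : (X.presheaf.germ W y hyW).hom γ = r := by
      rw [← hγ']
      exact X.presheaf.germ_res_apply (homOfLE (inf_le_left : W ≤ W')) y hyW γ'
    have hkey : resf (inf_le_left : W ⊓ U ≤ W) γ * resf (inf_le_right : W ⊓ U ≤ U) f = 1 := by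
      apply X.germToFunctionField_injective (W ⊓ U)
      have e1 : (X.germToFunctionField (W ⊓ U)).hom (resf (inf_le_left : W ⊓ U ≤ W) γ) =
          algebraMap (X.presheaf.stalk y) X.functionField r := by
        rw [← hγ', Scheme.algebraMap_germ_eq_germToFunctionField]
        have a1 : (X.germToFunctionField (W ⊓ U)).hom (resf (inf_le_left : W ⊓ U ≤ W) γ) =
            (X.presheaf.germ W (genericPoint X) hηW).hom γ :=
          X.presheaf.germ_res_apply (homOfLE (inf_le_left : W ⊓ U ≤ W)) (genericPoint X) hη γ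
        have a2 : (X.presheaf.germ W (genericPoint X) hηW).hom γ =
            (X.germToFunctionField W').hom γ' :=
          X.presheaf.germ_res_apply (homOfLE (inf_le_left : W ≤ W')) (genericPoint X) hηW γ'
        rw [a1, a2]
      have e2 : (X.germToFunctionField (W ⊓ U)).hom (resf (inf_le_right : W ⊓ U ≤ U) f) =
          (X.germToFunctionField U).hom f :=
        X.presheaf.germ_res_apply (homOfLE (inf_le_right : W ⊓ U ≤ U)) (genericPoint X) hη f
      change (X.germToFunctionField (W ⊓ U)).hom _ = (X.germToFunctionField (W ⊓ U)).hom 1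
      rw [map_mul, e1, e2, hrf, map_one]
    have hunit : IsUnit (resf (inf_le_left : W ⊓ U ≤ W) γ) := IsUnit.of_mul_eq_one _ hkey
    refine ⟨W, γ, 1, hyW, hWU, hunit, ?_, ?_, fun _ => ?_⟩
    · rw [resf_one', mul_comm, hkey]
    · apply le_antisymm
      · intro w hw
        have hwW : w ∈ W := X.basicOpen_le γ hw
        refine ⟨hwW, hWU w hwW ?_⟩
        rintro rfl
        have h1 : IsUnit ((X.presheaf.germ W w hwW).hom γ) := (X.mem_basicOpen γ w hwW).1 hw
        rw [hgermγ] at h1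
        exact (IsLocalRing.mem_maximalIdeal r).1 hr h1
      · have h1 : X.basicOpen (resf (inf_le_left : W ⊓ U ≤ W) γ) = W ⊓ U :=
          Scheme.basicOpen_of_isUnit _ hunit
        have h2 : X.basicOpen (resf (inf_le_left : W ⊓ U ≤ W) γ) = (W ⊓ U) ⊓ X.basicOpen γ :=
          Scheme.basicOpen_res _ _ _
        rw [h1] at h2
        rw [h2]
        exact inf_le_right
    · rw [Scheme.basicOpen_of_isUnit _ isUnit_one]
      exact hyW

/-- **Stacks 0AYM.** -/
theorem exists_gg_section {X : Scheme.{u}} [IsIntegral X] [X.IsSeparated] (U : X.Opens)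
    (hU : IsAffineOpen U) (hne : (U : Set X).Nonempty) (hfin : ((U : Set X)ᶜ).Finite)
    (hloc : ∀ x : X, x ∉ U →
      IsNoetherianRing (X.presheaf.stalk x) ∧ ringKrullDim (X.presheaf.stalk x) = 1) :
    ∃ (L : X.Modules) (s : Coh.structureModule X ⟶ L), PicF.IsInvertible L ∧
      Curv2.IsGloballyGenerated L ∧ CohB1.genLocus L s = U := by
  classical
  haveI : Nonempty U := by
    obtain ⟨x, hx⟩ := hne
    exact ⟨⟨x, hx⟩⟩
  have hcl : ∀ y : X, y ∉ U → IsClosed ({y} : Set X) := fun y hy =>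
    isClosed_singleton_of_notMem U hne (fun x hx => (hloc x hx).2.le) y hy
  obtain ⟨f, hf⟩ := exists_pole U hU hfin hloc
  choose W γ δ hyW hWU hunit hδ hγ hδy using exists_local_eq U hfin hcl f hf
  have hle : ∀ x y, x ≠ y → W x ⊓ W y ≤ U := by
    intro x y hxy w hw
    by_cases hwx : w = x
    · exact hWU y w hw.2 (fun h => hxy (hwx.symm.trans h))
    · exact hWU x w hw.1 hwx
  let u : ∀ y, (Γ(X, W y ⊓ U))ˣ := fun y => (hunit y).unit
  have huv : ∀ y, ((u y : (Γ(X, W y ⊓ U))ˣ) : Γ(X, W y ⊓ U)) = resf inf_le_left (γ y) := fun y =>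
    IsUnit.unit_spec _
  obtain ⟨N, s, hN, hs, htr⟩ := exists_module_of_virtual_units U W hyW hle (fun y => (u y)⁻¹)
  let σ : ∀ y, Γ(N, W y) := fun y => γ y • s y
  let τ : ∀ y, Γ(N, W y) := fun y => δ y • s y
  have hcompσ : TopCat.Presheaf.IsCompatible (modSheaf N).1 W σ := by
    intro x y
    change res N (inf_le_left : W x ⊓ W y ≤ W x) (σ x) = res N (inf_le_right : W x ⊓ W y ≤ W y) (σ y)
    by_cases hxy : x = y
    · subst hxy
      rfl
    · have hT := hle x y hxy
      have e1 := htr x y (W x ⊓ W y) le_rfl hT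
      change res N _ (γ x • s x) = res N _ (γ y • s y)
      rw [res_smul, res_smul, e1, ← mul_smul]
      congr 1
      have e2 : resf (inf_le_left : W x ⊓ W y ≤ W x) (γ x) =
          ((resu (le_inf inf_le_left hT : W x ⊓ W y ≤ W x ⊓ U) (u x) : (Γ(X, W x ⊓ W y))ˣ) :
            Γ(X, W x ⊓ W y)) := by
        rw [coe_resu, huv, resf_resf]
      have e3 : resf (inf_le_right : W x ⊓ W y ≤ W y) (γ y) =
          ((resu (le_inf inf_le_right hT : W x ⊓ W y ≤ W y ⊓ U) (u y) : (Γ(X, W x ⊓ W y))ˣ) :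
            Γ(X, W x ⊓ W y)) := by
        rw [coe_resu, huv, resf_resf]
      rw [e2, e3, map_inv, map_inv, inv_inv, Units.val_mul, Units.mul_inv_cancel_left]
  have hcompτ : TopCat.Presheaf.IsCompatible (modSheaf N).1 W τ := by
    intro x y
    change res N (inf_le_left : W x ⊓ W y ≤ W x) (τ x) = res N (inf_le_right : W x ⊓ W y ≤ W y) (τ y)
    by_cases hxy : x = y
    · subst hxy
      rfl
    · have hT := hle x y hxy
      have e1 := htr x y (W x ⊓ W y) le_rfl hT
      change res N _ (δ x • s x) = res N _ (δ y • s y)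
      rw [res_smul, res_smul, e1, ← mul_smul]
      congr 1
      have e2 : resf (inf_le_left : W x ⊓ W y ≤ W x) (δ x) = resf hT f *
          ((resu (le_inf inf_le_left hT : W x ⊓ W y ≤ W x ⊓ U) (u x) : (Γ(X, W x ⊓ W y))ˣ) :
            Γ(X, W x ⊓ W y)) := by
        rw [coe_resu, huv, resf_resf,
          ← resf_resf (inf_le_left : W x ⊓ U ≤ W x) (le_inf inf_le_left hT : W x ⊓ W y ≤ W x ⊓ U),
          hδ x, resf_mul', resf_resf, resf_resf]
      have e3 : resf (inf_le_right : W x ⊓ W y ≤ W y) (δ y) = resf hT f *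
          ((resu (le_inf inf_le_right hT : W x ⊓ W y ≤ W y ⊓ U) (u y) : (Γ(X, W x ⊓ W y))ˣ) :
            Γ(X, W x ⊓ W y)) := by
        rw [coe_resu, huv, resf_resf,
          ← resf_resf (inf_le_left : W y ⊓ U ≤ W y) (le_inf inf_le_right hT : W x ⊓ W y ≤ W y ⊓ U),
          hδ y, resf_mul', resf_resf, resf_resf]
      rw [e2, e3, map_inv, map_inv, inv_inv, mul_assoc, ← Units.val_mul, mul_inv_cancel_left]
  have hcov : (⊤ : X.Opens) ≤ ⨆ y, W y := fun y _ => Opens.mem_iSup.2 ⟨y, hyW y⟩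
  obtain ⟨σ₀, hσ₀, -⟩ := (modSheaf N).existsUnique_gluing' W ⊤ (fun y => homOfLE le_top) hcov σ hcompσ
  obtain ⟨τ₀, hτ₀, -⟩ := (modSheaf N).existsUnique_gluing' W ⊤ (fun y => homOfLE le_top) hcov τ hcompτ
  have hσ₀' : ∀ y, res N (le_top : W y ≤ ⊤) σ₀ = γ y • s y := hσ₀
  have hτ₀' : ∀ y, res N (le_top : W y ≤ ⊤) τ₀ = δ y • s y := hτ₀
  have h6 : ∀ y, CohB1.genLocus N (secHom N σ₀) ⊓ W y = W y ⊓ U := by
    intro y
    rw [genLocus_inf_eq_of_isGen N (secHom N σ₀) (W y) (s y) (γ y) (hs y)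
      (by rw [sv_secHom]; exact hσ₀' y), hγ y]
  have hgen : CohB1.genLocus N (secHom N σ₀) = U := by
    ext w
    constructor
    · intro hw
      have : w ∈ CohB1.genLocus N (secHom N σ₀) ⊓ W w := ⟨hw, hyW w⟩
      rw [h6 w] at this
      exact this.2
    · intro hw
      have : w ∈ W w ⊓ U := ⟨hyW w, hw⟩
      rw [← h6 w] at this
      exact this.1
  refine ⟨N, secHom N σ₀, hN, ?_, hgen⟩
  apply isGloballyGenerated_of_forall_mem_genLocus
  intro x
  by_cases hx : x ∈ U
  · exact ⟨secHom N σ₀, by rw [hgen]; exact hx⟩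
  · refine ⟨secHom N τ₀, ?_⟩
    have h7 : CohB1.genLocus N (secHom N τ₀) ⊓ W x = X.basicOpen (δ x) :=
      genLocus_inf_eq_of_isGen N (secHom N τ₀) (W x) (s x) (δ x) (hs x)
        (by rw [sv_secHom]; exact hτ₀' x)
    have h8 : x ∈ X.basicOpen (δ x) := hδy x hx
    rw [← h7] at h8
    exact h8.1

end Groth.Agent.Lib.Helper11.OpenGG
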