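import Mathlib
import Groth.Prelude.Def_Grpd
import Groth.Agent.Lib.Helper2GrpdOrbit
import Groth.Agent.Lib.Helper11KMTop

set_option autoImplicit false
set_option linter.style.haveILetI false
universe u

open CategoryTheory CategoryTheory.Limits AlgebraicGeometry TopologicalSpace

namespace Groth.Agent.Lib.Helper11.OrbDim

open Groth.Agent.Lib.Helper2.GrpdOrbit Groth.Agent.Lib.Helper11.KMTop

/-- at a point of dimension at most one, a chain `x' ⤳ x ⤳ w` with `x' ≠ x` has `x = w` -/
theorem eq_of_specializes_of_dim_le_one {X : Scheme.{u}} (w : X)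
    (hw : ringKrullDim (X.presheaf.stalk w) ≤ 1) (x x' : X) (h1 : x' ⤳ x) (h2 : x ⤳ w)
    (hne : x' ≠ x) : x = w := by
  have hx : x ∈ Set.range (X.fromSpecStalk w) := by
    rw [Scheme.range_fromSpecStalk]; exact h2
  have hx' : x' ∈ Set.range (X.fromSpecStalk w) := by
    rw [Scheme.range_fromSpecStalk]; exact h1.trans h2
  obtain ⟨p, rfl⟩ := hx
  obtain ⟨p', rfl⟩ := hx'
  have hemb : Topology.IsEmbedding (X.fromSpecStalk w) := (X.fromSpecStalk w).isEmbedding
  have hsp : p' ⤳ p := hemb.isInducing.specializes_iff.1 h1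
  have hle : (p' : PrimeSpectrum (X.presheaf.stalk w)).asIdeal ≤
      (p : PrimeSpectrum (X.presheaf.stalk w)).asIdeal :=
    (PrimeSpectrum.le_iff_specializes p' p).2 hsp
  have hne' : (p' : PrimeSpectrum (X.presheaf.stalk w)) ≠ p := fun h => hne (by rw [h])
  have h1' : Ring.KrullDimLE 1 (X.presheaf.stalk w) := Ring.krullDimLE_iff.2 (by exact_mod_cast hw)
  have hmax : (p : PrimeSpectrum (X.presheaf.stalk w)).asIdeal.IsMaximal := by
    rcases Ring.krullDimLE_one_iff.1 h1' _ p.2 with h | h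
    · exfalso
      have := h.2 ⟨p'.2, bot_le⟩ hle
      exact hne' (PrimeSpectrum.ext (le_antisymm hle this))
    · exact h
  have hp : p = IsLocalRing.closedPoint (X.presheaf.stalk w) := by
    apply PrimeSpectrum.ext
    exact IsLocalRing.eq_maximalIdeal hmax
  rw [hp]
  exact Scheme.fromSpecStalk_closedPoint

variable {S : Scheme.{u}} (G : Grpd.GroupoidScheme S)

/-- **orbits of proper generizations are generic.** -/
theorem generic_orbit_of_specializes [IsFinite G.s] [IsFinite G.t]
    (t₀ : G.U) (hdim : ∀ r : G.R, G.s r = t₀ → ringKrullDim (G.U.presheaf.stalk (G.t r)) ≤ 1)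
    (η : G.U) (hη : η ⤳ t₀) (hne : η ≠ t₀) :
    ∀ r : G.R, G.s r = η → ∀ x' : G.U, x' ⤳ G.t r → x' = G.t r := by
  intro r hr x' hx'
  by_contra hxne
  have hsm := G.s.isClosedMap.specializingMap
  have h1 : G.s r ⤳ t₀ := hr ▸ hη
  obtain ⟨r', hrr', hs'⟩ := hsm h1
  have hrr : r ⤳ r' := hrr'
  have h2 : G.t r ⤳ G.t r' := hrr.map G.t.continuous
  have h3 := eq_of_specializes_of_dim_le_one (G.t r') (hdim r' hs') (G.t r) x' hx' h2 hxne
  have h4 : r = r' := eq_of_specializes_fibre G.t hrr h3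
  apply hne
  rw [← hr, ← hs', h4]

end Groth.Agent.Lib.Helper11.OrbDim
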