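import Mathlib
import Groth.Agent.Lib.Helper11KMOmega
import Groth.Agent.Lib.Helper11OrbDim
import Groth.Agent.Lib.Helper11GrpdPb
import Groth.Agent.Lib.Helper11DimOneC

set_option autoImplicit false
set_option linter.style.haveILetI false
set_option linter.unusedSectionVars false
universe u

open CategoryTheory AlgebraicGeometry Limits Opposite TopologicalSpace

/-!
# Stacks 0ABC: finite groupoids, points of dimension at most one (helper11)
-/

namespace Groth.Agent.Lib.Helper11.OrbAff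

open Groth.Agent.Lib.Helper22.FTIdeal Groth.Agent.Lib.Helper11.KMFitt
open Groth.Agent.Lib.Helper11.KMGrpd Groth.Agent.Lib.Helper11.KMThick Groth.Agent.Lib.Helper11.KMTop
  Groth.Agent.Lib.Helper2.GrpdOrbit
open Groth.Agent.Lib.Helper11.KMAff Groth.Agent.Lib.Helper11.KMOmega
  Groth.Agent.Lib.Helper11.GrpdPb Groth.Agent.Lib.Helper11.OrbDim

variable {S : Scheme.{u}} (G : Grpd.GroupoidScheme S) [IsFinite G.s] [IsFinite G.t]

/-- case A: the orbit lies in `W` -/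
theorem caseA [LocallyOfFinitePresentation G.s] (u : G.U) (T : Set G.U) (hT : T.Finite)
    (huT : u ∈ T) (hTinv : ∀ a b, Rel G a b → a ∈ T → b ∈ T)
    (U' : G.U.Opens) (hU' : IsAffineOpen U') (hTU' : T ⊆ U') (hTW : T ⊆ W G) :
    ∃ W₀ : G.U.Opens, IsAffineOpen W₀ ∧ u ∈ W₀ ∧ G.s ⁻¹ᵁ W₀ = G.t ⁻¹ᵁ W₀ := by
  set U₁ := omega G U' with hU₁
  have hTU₁ : T ⊆ U₁ := subset_omega G U' T hTU' hTinv
  have hU₁le : U₁ ≤ U' := omega_le G U'
  obtain ⟨f, hTf, hfle⟩ := exists_basicOpen_of_finite hU' (W G ⊓ U₁) T hT hTU'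
    (fun x hx => ⟨hTW hx, hTU₁ hx⟩)
  let f₁ : Γ(G.U, U₁) := G.U.presheaf.map (homOfLE hU₁le).op f
  have hf₁ : G.U.basicOpen f₁ = G.U.basicOpen f := by
    rw [Scheme.basicOpen_res]
    exact inf_eq_right.2 (hfle.trans inf_le_right)
  have hD : IsAffineOpen (G.U.basicOpen f₁) := by
    rw [hf₁]; exact hU'.basicOpen f
  have haff := isAffineOpen_omega G U₁ (omega_inv G U') f₁ hD (fun a b _ ha haW => by
    rw [hf₁] at ha
    exact absurd (hfle ha).1 haW)
  refine ⟨_, haff, ?_, omega_inv G _⟩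
  apply subset_omega G _ T _ hTinv huT
  rw [hf₁]
  exact hTf

open Scheme.IdealSheafData in
/-- case B: the orbit is disjoint from `W` -/
theorem caseB [IsLocallyNoetherian G.U] (u : G.U)
    (hdim : ∀ x, Rel G u x → ringKrullDim (G.U.presheaf.stalk x) ≤ 1)
    (U' : G.U.Opens) (hU' : IsAffineOpen U') (hTU' : ∀ x, Rel G u x → x ∈ U') (huW : u ∉ W G) :
    ∃ W₀ : G.U.Opens, IsAffineOpen W₀ ∧ u ∈ W₀ ∧ G.s ⁻¹ᵁ W₀ = G.t ⁻¹ᵁ W₀ := by
  classical
  set U₁ := omega G U' with hU₁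
  have hU₁le : U₁ ≤ U' := omega_le G U'
  have huU₁ : u ∈ U₁ := (mem_omega G U' u).2 hTU'
  have hWrel : ∀ a b, Rel G a b → (a ∈ W G ↔ b ∈ W G) := fun a b h =>
    ⟨W_rel G h, W_rel G (rel_symm G h)⟩
  have hU₁rel : ∀ a b, Rel G a b → (a ∈ U₁ ↔ b ∈ U₁) := fun a b h =>
    ⟨omega_rel G U' h, omega_rel G U' (rel_symm G h)⟩
  -- the reduced closed subscheme of `U₁` on the complement of `W`
  let Zc : Closeds U₁.toScheme := ⟨U₁.ι ⁻¹' ((W G : Set G.U)ᶜ),
    (W G).isOpen.isClosed_compl.preimage U₁.ι.continuous⟩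
  let I₀ := vanishingIdeal Zc
  let g : I₀.subscheme ⟶ G.U := I₀.subschemeι ≫ U₁.ι
  have hg_inj : Function.Injective g := g.isEmbedding.injective
  have hrange : ∀ x : G.U, x ∈ Set.range g ↔ x ∈ U₁ ∧ x ∉ W G := by
    intro x
    constructor
    · rintro ⟨z, rfl⟩
      have h1 := AffGlue.subschemeι_mem_support I₀ z
      rw [AffGlue.mem_support_vanishingIdeal] at h1
      exact ⟨(I₀.subschemeι z).2, h1⟩
    · rintro ⟨h1, h2⟩
      have h3 : (⟨x, h1⟩ : U₁.toScheme) ∈ I₀.support :=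
        (AffGlue.mem_support_vanishingIdeal Zc _).2 h2
      obtain ⟨z, hz⟩ := AffGlue.exists_subschemeι_eq I₀ h3
      exact ⟨z, by rw [Scheme.Hom.comp_apply, hz]; rfl⟩
  have hginv : ∀ r : G.R, G.s r ∈ Set.range g ↔ G.t r ∈ Set.range g := by
    intro r
    rw [hrange, hrange, hU₁rel _ _ ⟨r, rfl, rfl⟩, hWrel _ _ ⟨r, rfl, rfl⟩]
  haveI : IsFinite (pb G g).s := isFinite_pb_s G g hginv
  haveI : IsFinite (pb G g).t := isFinite_pb_t G g hginv
  haveI hZN : IsLocallyNoetherian I₀.subscheme := LocallyOfFiniteType.isLocallyNoetherian g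
  haveI : IsLocallyNoetherian (pb G g).U := hZN
  haveI : LocallyOfFinitePresentation (pb G g).s := inferInstance
  -- the quasi-affine structure
  let j : (pb G g).U ⟶ Spec (CommRingCat.of Γ(G.U, U')) :=
    I₀.subschemeι ≫ G.U.homOfLE hU₁le ≫ hU'.isoSpec.hom
  have hj : j ≫ hU'.fromSpec = g := by
    change (I₀.subschemeι ≫ G.U.homOfLE hU₁le ≫ hU'.isoSpec.hom) ≫ hU'.fromSpec = _
    rw [Category.assoc, Category.assoc, hU'.isoSpec_hom_fromSpec, Scheme.homOfLE_ι]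
  have hjx : ∀ z, hU'.fromSpec (j z) = g z := fun z => by
    rw [← Scheme.Hom.comp_apply, hj]
    rfl
  haveI : IsImmersion j := by
    have : IsImmersion (I₀.subschemeι ≫ G.U.homOfLE hU₁le ≫ hU'.isoSpec.hom) := inferInstance
    exact this
  have hfs_inj : Function.Injective hU'.fromSpec := hU'.fromSpec.isOpenEmbedding.injective
  let U₁' : (Spec Γ(G.U, U')).Opens := hU'.fromSpec ⁻¹ᵁ U₁
  let C : Set (PrimeSpectrum Γ(G.U, U')) := (U₁' : Set (Spec Γ(G.U, U')))ᶜ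
  have hC : IsClosed C := U₁'.isOpen.isClosed_compl
  let I : Ideal Γ(G.U, U') := PrimeSpectrum.vanishingIdeal C
  have hzl : PrimeSpectrum.zeroLocus (I : Set Γ(G.U, U')) = C := by
    rw [PrimeSpectrum.zeroLocus_vanishingIdeal_eq_closure, hC.closure_eq]
  have hI : ∀ z : I₀.subscheme, j z ∉ PrimeSpectrum.zeroLocus (I : Set Γ(G.U, U')) := by
    intro z hz
    rw [hzl] at hz
    apply hz
    change hU'.fromSpec (j z) ∈ U₁
    rw [hjx]
    exact ((hrange _).1 ⟨z, rfl⟩).1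
  have hcl : IsClosed (PrimeSpectrum.zeroLocus (I : Set Γ(G.U, U')) ∪ Set.range j) := by
    rw [hzl]
    have : C ∪ Set.range j =
        ((hU'.fromSpec ⁻¹ᵁ (U₁ ⊓ W G) : (Spec Γ(G.U, U')).Opens) : Set (Spec Γ(G.U, U')))ᶜ := by
      ext p
      constructor
      · rintro (hp | ⟨z, rfl⟩)
        · exact fun h => hp h.1
        · intro h
          have h2 : hU'.fromSpec (j z) ∈ W G := h.2
          rw [hjx] at h2
          exact ((hrange _).1 ⟨z, rfl⟩).2 h2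
      · intro hp
        by_cases h1 : p ∈ U₁'
        · right
          have h2 : hU'.fromSpec p ∉ W G := fun h => hp ⟨h1, h⟩
          obtain ⟨z, hz⟩ := (hrange _).2 ⟨h1, h2⟩
          exact ⟨z, hfs_inj (by rw [hjx, hz])⟩
        · left
          exact h1
    rw [this]
    exact (hU'.fromSpec ⁻¹ᵁ (U₁ ⊓ W G)).isOpen.isClosed_compl
  obtain ⟨x₀, hx₀⟩ := (hrange u).2 ⟨huU₁, huW⟩
  have hu : ∀ (i : Fin 1) (r : (pb G g).R), (pb G g).s r = (fun _ : Fin 1 => x₀) i →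
      ∀ x : (pb G g).U, x ⤳ (pb G g).t r → x = (pb G g).t r := by
    intro _ r hr x hx
    have hrel : Rel G u (g ((pb G g).t r)) := by
      rw [← hx₀]
      exact (rel_pb_iff G g _ _).1 ⟨r, hr, rfl⟩
    have hsp : g x ⤳ g ((pb G g).t r) := hx.map g.continuous
    by_contra hne
    have hne' : g x ≠ g ((pb G g).t r) := fun h => hne (hg_inj h)
    have hgen := generic_orbit_of_specializes G (g ((pb G g).t r))
      (fun r' hr' => hdim _ (rel_trans G hrel ⟨r', hr', rfl⟩)) (g x) hsp hne'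
    have hxW : g x ∈ W G := Groth.Agent.Lib.Helper11.KMFP.mem_W_of_generic G (g x) hgen
    exact ((hrange _).1 ⟨x, rfl⟩).2 hxW
  obtain ⟨h, hhI, -, huh, hinvh⟩ := main_basicOpen (pb G g) 1 (fun _ => x₀) hu
    Γ(G.U, U') j I hI hcl
  -- the affine open `D(h)`
  set D := G.U.basicOpen h with hDdef
  have hpreD : hU'.fromSpec ⁻¹ᵁ D = PrimeSpectrum.basicOpen h := hU'.fromSpec_preimage_basicOpen h
  have memD : ∀ z : I₀.subscheme, z ∈ j ⁻¹ᵁ PrimeSpectrum.basicOpen h ↔ g z ∈ D := by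
    intro z
    rw [← hpreD]
    change hU'.fromSpec (j z) ∈ D ↔ _
    rw [hjx]
  have hDU' : D ≤ U' := G.U.basicOpen_le h
  have hDle : D ≤ U₁ := by
    intro x hx
    have hxU' : x ∈ Set.range hU'.fromSpec := by
      rw [hU'.range_fromSpec]; exact hDU' hx
    obtain ⟨p, rfl⟩ := hxU'
    have hp : p ∈ PrimeSpectrum.basicOpen h := by
      rw [← hpreD]; exact hx
    by_contra hpU
    have hpC : p ∈ C := hpU
    exact hp ((PrimeSpectrum.mem_vanishingIdeal C h).1 hhI p hpC)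
  let f₁ : Γ(G.U, U₁) := G.U.presheaf.map (homOfLE hU₁le).op h
  have hf₁ : G.U.basicOpen f₁ = D := by
    rw [Scheme.basicOpen_res]
    exact inf_eq_right.2 hDle
  have hDaff : IsAffineOpen (G.U.basicOpen f₁) := by
    rw [hf₁]; exact hU'.basicOpen h
  have hinvD : ∀ a b, Rel G a b → a ∈ G.U.basicOpen f₁ → a ∉ W G → b ∈ G.U.basicOpen f₁ := by
    intro a b hab ha haW
    rw [hf₁] at ha ⊢
    obtain ⟨x, rfl⟩ := (hrange a).2 ⟨hDle ha, haW⟩
    obtain ⟨y, rfl⟩ := (hrange b).2 ⟨(hU₁rel _ _ hab).1 (hDle ha), fun h => haW ((hWrel _ _ hab).2 h)⟩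
    obtain ⟨r, hr1, hr2⟩ := (rel_pb_iff G g x y).2 hab
    rw [← memD] at ha ⊢
    have h1 : r ∈ (pb G g).s ⁻¹ᵁ (j ⁻¹ᵁ PrimeSpectrum.basicOpen h) := by
      change (pb G g).s r ∈ j ⁻¹ᵁ PrimeSpectrum.basicOpen h
      rw [hr1]; exact ha
    rw [hinvh] at h1
    have h2 : (pb G g).t r ∈ j ⁻¹ᵁ PrimeSpectrum.basicOpen h := h1
    rw [hr2] at h2
    exact h2
  have haff := isAffineOpen_omega G U₁ (omega_inv G U') f₁ hDaff hinvD
  refine ⟨_, haff, ?_, omega_inv G _⟩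
  have huD : u ∈ G.U.basicOpen f₁ := by
    rw [hf₁, ← hx₀, ← memD]
    exact huh 0
  rw [mem_omega]
  intro b hb
  exact hinvD u b hb huD huW

/-- **Stacks 0ABC.** -/
theorem main [G.U.IsSeparated] [IsLocallyNoetherian G.U] (u : G.U)
    (hdim : ∀ r : G.R, G.s r = u → ringKrullDim (G.U.presheaf.stalk (G.t r)) ≤ 1) :
    ∃ W₀ : G.U.Opens, IsAffineOpen W₀ ∧ u ∈ W₀ ∧ G.s ⁻¹ᵁ W₀ = G.t ⁻¹ᵁ W₀ := by
  classical
  haveI : LocallyOfFinitePresentation G.s := inferInstance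
  let T : Set G.U := G.t '' (G.s ⁻¹' {u})
  have hT : T.Finite := (G.s.finite_preimage_singleton u).image _
  have memT : ∀ x, x ∈ T ↔ Rel G u x := by
    intro x
    constructor
    · rintro ⟨r, hr, rfl⟩
      exact ⟨r, hr, rfl⟩
    · rintro ⟨r, hr, rfl⟩
      exact ⟨r, hr, rfl⟩
  have hdim' : ∀ x, Rel G u x → ringKrullDim (G.U.presheaf.stalk x) ≤ 1 := by
    rintro x ⟨r, hr, rfl⟩
    exact hdim r hr
  obtain ⟨U', hU', hTU'⟩ := DimOne.exists_affine_of_dim_le_one hT.toFinset (fun t ht =>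
    hdim' t ((memT t).1 (hT.mem_toFinset.1 ht)))
  have hTU'' : ∀ x, Rel G u x → x ∈ U' := fun x hx =>
    hTU' x (hT.mem_toFinset.2 ((memT x).2 hx))
  by_cases huW : u ∈ W G
  · refine caseA G u T hT ((memT u).2 (rel_refl G u)) ?_ U' hU' ?_ ?_
    · intro a b hab ha
      rw [memT] at ha ⊢
      exact rel_trans G ha hab
    · intro x hx
      exact hTU'' x ((memT x).1 hx)
    · intro x hx
      exact W_rel G ((memT x).1 hx) huW
  · exact caseB G u hdim' U' hU' hTU'' huW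

end Groth.Agent.Lib.Helper11.OrbAff
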