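import Mathlib
import Groth.Prelude.Def_AlgGrp
import Groth.Agent.Lib.Helper12Act
import Groth.Agent.Lib.Helper12Cart
import Groth.Agent.Lib.Helper11RedCl
import Groth.Agent.Lib.Helper11Orbit
import Groth.Agent.Lib.Helper11GenFlat
import Groth.Agent.Lib.Helper11KPts
import Groth.Agent.Lib.Helper11HomSm

set_option autoImplicit false
universe u
open CategoryTheory CategoryTheory.Limits AlgebraicGeometry MonoidalCategory CartesianMonoidalCategory MonObj

namespace Groth.Agent.Lib.Helper11OrbitSub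

section restrict

variable {S : Scheme.{u}}

/-- restriction of an action along a monomorphism through which it factors -/
noncomputable def restrictAct {G X Y : Over S} [GrpObj G] (a : AlgGrp.Action G X) (j : Y ⟶ X) [Mono j]
    (act' : G ⊗ Y ⟶ Y) (h : act' ≫ j = (G ◁ j) ≫ a.act) : AlgGrp.Action G Y where
  act := act'
  one_act := by
    rw [← cancel_mono j, Category.assoc, h, ← Category.assoc, ← whisker_exchange, Category.assoc,
      a.one_act, leftUnitor_naturality]
  mul_act := by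
    rw [← cancel_mono j]
    simp only [Category.assoc]
    rw [h, ← Category.assoc (μ[G] ▷ Y), ← whisker_exchange, Category.assoc, a.mul_act,
      ← MonoidalCategory.whiskerLeft_comp_assoc, h, MonoidalCategory.whiskerLeft_comp_assoc]
    simp

@[simp]
theorem restrictAct_act {G X Y : Over S} [GrpObj G] (a : AlgGrp.Action G X) (j : Y ⟶ X) [Mono j]
    (act' : G ⊗ Y ⟶ Y) (h : act' ≫ j = (G ◁ j) ≫ a.act) : (restrictAct a j act' h).act = act' := rfl

end restrict

section cat

variable {C : Type*} [Category C]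

theorem isPullback_of_comp_mono {P A B Y X : C} {fst : P ⟶ A} {snd : P ⟶ B} {u : A ⟶ Y}
    {v : B ⟶ Y} (f : Y ⟶ X) [Mono f] (h : IsPullback fst snd (u ≫ f) (v ≫ f)) :
    IsPullback fst snd u v := by
  refine ⟨⟨by rw [← cancel_mono f, Category.assoc, Category.assoc, h.w]⟩,
    ⟨PullbackCone.IsLimit.mk _ (fun s => h.lift s.fst s.snd (by
      rw [← Category.assoc, s.condition, Category.assoc])) ?_ ?_ ?_⟩⟩
  · intro s; exact h.lift_fst _ _ _
  · intro s; exact h.lift_snd _ _ _
  · intro s m h1 h2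
    apply h.hom_ext
    · rw [h1, h.lift_fst]
    · rw [h2, h.lift_snd]

end cat

section top

variable {S : Scheme.{u}}

open TopologicalSpace in
/-- factorisation of a morphism from a reduced scheme through the reduced induced structure on the
closure of its image -/
theorem exists_closure_factorization {G X : Over S} [IsReduced G.left] (π : G ⟶ X) :
    ∃ (Z : Over S) (j : Z ⟶ X) (p : G ⟶ Z), IsClosedImmersion j.left ∧ IsReduced Z.left ∧
      p ≫ j = π ∧ DenseRange p.left := by
  obtain ⟨Zc, hZc⟩ : ∃ Zc : Closeds X.left, Zc = ⟨closure (Set.range π.left), isClosed_closure⟩ :=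
    ⟨_, rfl⟩
  obtain ⟨l, hl⟩ := Groth.Agent.Lib.Helper11RedCl.exists_lift_of_range_subset π.left Zc
    (by rw [hZc]; exact subset_closure)
  refine ⟨Over.mk ((Scheme.IdealSheafData.vanishingIdeal Zc).subschemeι ≫ X.hom),
    Over.homMk (Scheme.IdealSheafData.vanishingIdeal Zc).subschemeι rfl,
    Over.homMk l (by
      change l ≫ (Scheme.IdealSheafData.vanishingIdeal Zc).subschemeι ≫ X.hom = G.hom
      rw [reassoc_of% hl, Over.w]), ?_, ?_, ?_, ?_⟩
  · change IsClosedImmersion (Scheme.IdealSheafData.vanishingIdeal Zc).subschemeι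
    infer_instance
  · change IsReduced (Scheme.IdealSheafData.vanishingIdeal Zc).subscheme
    infer_instance
  · ext1
    exact hl
  · change DenseRange l
    rw [denseRange_iff_closure_range,
      (Scheme.IdealSheafData.vanishingIdeal Zc).subschemeι.isEmbedding.closure_eq_preimage_closure_image,
      ← Set.univ_subset_iff, ← Set.image_subset_iff, Set.image_univ,
      Groth.Agent.Lib.Helper11RedCl.range_subschemeι_vanishingIdeal, ← Set.range_comp,
      ← TopCat.coe_comp, ← Scheme.Hom.comp_base, hl, hZc]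
    rfl

/-- the image of `G ◁ q` is the preimage of the image of `q` under the second projection -/
theorem range_whiskerLeft_left (G : Over S) {Y Z : Over S} (q : Y ⟶ Z) :
    Set.range (G ◁ q).left = (snd G Z).left ⁻¹' (Set.range q.left) := by
  have sq := (Groth.Agent.Lib.Helper12.isPullback_whiskerLeft G q).map (Over.forget S)
  ext t
  constructor
  · rintro ⟨s, rfl⟩
    refine ⟨(snd G Y).left s, ?_⟩
    change ((snd G Y).left ≫ q.left) s = ((G ◁ q).left ≫ (snd G Z).left) s
    rw [← Over.comp_left, ← Over.comp_left, whiskerLeft_snd]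
  · rintro ⟨y, hy⟩
    obtain ⟨s, hs1, -⟩ := Groth.Agent.Lib.Helper11Orbit.exists_of_isPullback sq t y hy.symm
    exact ⟨s, hs1⟩

theorem denseRange_whiskerLeft_left (G : Over S) [UniversallyOpen G.hom] {Y Z : Over S} (q : Y ⟶ Z)
    (hq : DenseRange q.left) : DenseRange (G ◁ q).left := by
  rw [DenseRange, range_whiskerLeft_left]
  have hopen : UniversallyOpen (snd G Z).left := by
    change UniversallyOpen (pullback.snd G.hom Z.hom)
    infer_instance
  exact Dense.preimage hq (snd G Z).left.isOpenMap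

end top


section main

open Groth.Agent.Lib.Helper11KPts Groth.Agent.Lib.Helper11GenFlat Groth.Agent.Lib.Helper11Homog
  Groth.Agent.Lib.Helper11Orbit Groth.Agent.Lib.Helper12 Groth.Agent.Lib.Helper11HomSm

/-- every nonempty open subset of a scheme locally of finite type over `k` contains a point with
values in an algebraically closed extension `K` of `k` -/
theorem exists_point_mem_open (k K : Type u) [Field k] [Field K] [Algebra k K] [IsAlgClosed K]
    (X : Over (Spec (CommRingCat.of k))) [LocallyOfFiniteType X.hom] (U : X.left.Opens)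
    (hU : (U : Set X.left).Nonempty) :
    ∃ x : Over.mk (Spec.map (CommRingCat.ofHom (algebraMap k K))) ⟶ X, ∀ t, x.left t ∈ U := by
  have hJ : JacobsonSpace ↥X.left := LocallyOfFiniteType.jacobsonSpace X.hom
  obtain ⟨x, hx1, hx2⟩ := nonempty_inter_closedPoints hU U.isOpen.isLocallyClosed
  obtain ⟨p, hp1, hp2⟩ := exists_point_of_closedPoint (K := K) X.hom x hx2
  refine ⟨Over.homMk p hp1, fun t => ?_⟩
  change p t ∈ U
  rw [hp2]
  exact hx1

/-- multiplication `G × W ⟶ G` is surjective for every nonempty open `W` of a group scheme of finite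
type over a field -/
theorem surjective_mul_open (k : Type u) [Field k] (G : Over (Spec (CommRingCat.of k))) [GrpObj G]
    [LocallyOfFiniteType G.hom] [QuasiCompact G.hom] (W : G.left.Opens)
    (hW : (W : Set G.left).Nonempty) (ιW : Over.mk (W.ι ≫ G.hom) ⟶ G) (hιW : ιW.left = W.ι) :
    Surjective ((G ◁ ιW) ≫ μ[G]).left := by
  have hnG : IsLocallyNoetherian G.left := LocallyOfFiniteType.isLocallyNoetherian G.hom
  have hW'lft : LocallyOfFiniteType (Over.mk (W.ι ≫ G.hom)).hom := by
    change LocallyOfFiniteType (W.ι ≫ G.hom)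
    infer_instance
  have hW'qc : QuasiCompact (Over.mk (W.ι ≫ G.hom)).hom := by
    change QuasiCompact (W.ι ≫ G.hom)
    infer_instance
  have hGW'lft : LocallyOfFiniteType (G ⊗ Over.mk (W.ι ≫ G.hom)).hom := by
    change LocallyOfFiniteType (pullback.fst G.hom (Over.mk (W.ι ≫ G.hom)).hom ≫ G.hom)
    infer_instance
  have hGW'qc : QuasiCompact (G ⊗ Over.mk (W.ι ≫ G.hom)).hom := by
    change QuasiCompact (pullback.fst G.hom (Over.mk (W.ι ≫ G.hom)).hom ≫ G.hom)
    infer_instance
  apply surjective_of_points k (AlgebraicClosure k)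
  intro h
  obtain ⟨w₀, hw₀⟩ := exists_point_mem_open k (AlgebraicClosure k) G W hW
  have hrange : Set.range w₀.left ⊆ Set.range W.ι := by
    rintro _ ⟨t, rfl⟩
    rw [Scheme.Opens.range_ι]
    exact hw₀ t
  obtain ⟨w, hw⟩ : ∃ w : Over.mk (Spec.map (CommRingCat.ofHom (algebraMap k (AlgebraicClosure k)))) ⟶
      Over.mk (W.ι ≫ G.hom), w ≫ ιW = w₀ := by
    refine ⟨Over.homMk (IsOpenImmersion.lift W.ι w₀.left hrange) ?_, ?_⟩
    · change IsOpenImmersion.lift W.ι w₀.left hrange ≫ W.ι ≫ G.hom = _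
      rw [IsOpenImmersion.lift_fac_assoc]
      exact Over.w _
    · ext1
      rw [Over.comp_left, hιW]
      exact IsOpenImmersion.lift_fac _ _ _
  refine ⟨lift (h * w₀⁻¹) w, ?_⟩
  rw [← Category.assoc, lift_whiskerLeft, hw, MonObj.mul_eq_mul, MonObj.comp_mul, lift_fst, lift_snd,
    inv_mul_cancel_right]


/-- the orbit of a rational point under a smooth group scheme of finite type over a field, as a
reduced locally closed subscheme with its induced action -/
theorem exists_orbit_subscheme (k : Type u) [Field k] (G X : Over (Spec (CommRingCat.of k)))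
    [GrpObj G] [LocallyOfFiniteType G.hom] [QuasiCompact G.hom] [Smooth G.hom]
    [LocallyOfFiniteType X.hom] [QuasiCompact X.hom] (a : AlgGrp.Action G X)
    (o : 𝟙_ (Over (Spec (CommRingCat.of k))) ⟶ X) :
    ∃ (Y : Over (Spec (CommRingCat.of k))) (b : AlgGrp.Action G Y)
      (y : 𝟙_ (Over (Spec (CommRingCat.of k))) ⟶ Y) (f : Y ⟶ X),
      (G ◁ f) ≫ a.act = b.act ≫ f ∧ y ≫ f = o ∧ IsImmersion f.left ∧ IsReduced Y.left ∧
      LocallyOfFiniteType Y.hom ∧ QuasiCompact Y.hom ∧ Surjective (b.orbitMap y).left := by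
  have hgrG : GeometricallyReduced G.hom := by
    have : Smooth (𝟙 G.left ≫ G.hom) := by rw [Category.id_comp]; infer_instance
    exact geometricallyReduced_of_dominant (𝟙 G.left) G.hom
  have hGred : IsReduced G.left :=
    Groth.Agent.Lib.Helper6.SmGeom.isReduced_of_smooth_over_field k G.left G.hom
  have hflatG : Flat G.hom := inferInstance
  have hnG : IsLocallyNoetherian G.left := LocallyOfFiniteType.isLocallyNoetherian G.hom
  have hcG : CompactSpace ↥G.left := QuasiCompact.compactSpace_of_compactSpace G.hom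
  have hGlfp : LocallyOfFinitePresentation G.hom := inferInstance
  have hGuo : UniversallyOpen G.hom := inferInstance
  obtain ⟨Z, jZ, p, hjZ, hZred, hpj, hpd⟩ := exists_closure_factorization (a.orbitMap o)
  have hmonoZ : Mono jZ := Over.mono_of_mono_left jZ
  have hZlft : LocallyOfFiniteType Z.hom := by rw [← Over.w jZ]; infer_instance
  have hZqc : QuasiCompact Z.hom := by rw [← Over.w jZ]; infer_instance
  have hnZ : IsLocallyNoetherian Z.left := LocallyOfFiniteType.isLocallyNoetherian Z.hom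
  have hcZ : CompactSpace ↥Z.left := QuasiCompact.compactSpace_of_compactSpace Z.hom
  have hNZ : IsNoetherian Z.left := {}
  have hGZred : IsReduced (G ⊗ Z).left := by
    change IsReduced (pullback G.hom Z.hom)
    infer_instance
  have hGZlft : LocallyOfFiniteType (G ⊗ Z).hom := by
    change LocallyOfFiniteType (pullback.fst G.hom Z.hom ≫ G.hom)
    infer_instance
  -- (1) the action restricts to `Z`
  have hμπ := whiskerLeft_orbitMap_act a o
  have hrangeZ : Set.range ((G ◁ jZ) ≫ a.act).left ⊆ Set.range jZ.left := by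
    have hd := denseRange_whiskerLeft_left G p hpd
    have hcl : IsClosed (Set.range jZ.left) := jZ.left.isClosedEmbedding.isClosed_range
    have h1 := Continuous.range_subset_closure_image_dense ((G ◁ jZ) ≫ a.act).left.continuous hd
    refine h1.trans (hcl.closure_subset_iff.mpr ?_)
    rintro _ ⟨_, ⟨s, rfl⟩, rfl⟩
    refine ⟨(μ[G] ≫ p).left s, ?_⟩
    rw [← Scheme.Hom.comp_apply, ← Scheme.Hom.comp_apply, ← Over.comp_left, ← Over.comp_left,
      Category.assoc, hpj, ← hμπ, ← hpj, MonoidalCategory.whiskerLeft_comp, Category.assoc]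
  obtain ⟨l, hl⟩ := exists_lift_closedImmersion ((G ◁ jZ) ≫ a.act).left jZ.left hrangeZ
  obtain ⟨actZ, hactZ⟩ : ∃ actZ : G ⊗ Z ⟶ Z, actZ ≫ jZ = (G ◁ jZ) ≫ a.act := by
    refine ⟨Over.homMk l ?_, ?_⟩
    · rw [← Over.w jZ, reassoc_of% hl, Over.w]
    · ext1; exact hl
  obtain ⟨bZ, hbZ⟩ : ∃ bZ : AlgGrp.Action G Z, bZ.act = actZ := ⟨restrictAct a jZ actZ hactZ, rfl⟩
  have hpeq : (G ◁ p) ≫ bZ.act = μ[G] ≫ p := by
    rw [← cancel_mono jZ, Category.assoc, hbZ, hactZ, ← MonoidalCategory.whiskerLeft_comp_assoc, hpj,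
      hμπ, Category.assoc, hpj]
  have hstab : ∀ t : ↥(G ⊗ Z).left, (snd G Z).left t ∈ Set.range p.left →
      bZ.act.left t ∈ Set.range p.left := by
    intro t ht
    have : t ∈ Set.range (G ◁ p).left := by rw [range_whiskerLeft_left]; exact ht
    obtain ⟨s, rfl⟩ := this
    refine ⟨μ[G].left s, ?_⟩
    rw [← Scheme.Hom.comp_apply, ← Scheme.Hom.comp_apply, ← Over.comp_left, ← Over.comp_left, hpeq]
  -- (2) generic flatness: an open subset of `Z` inside the orbit
  have hplft : LocallyOfFiniteType p.left := by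
    have : LocallyOfFiniteType (p.left ≫ Z.hom) := by rw [Over.w]; infer_instance
    exact locallyOfFiniteType_of_comp p.left Z.hom
  have hpqc : QuasiCompact p.left := inferInstance
  have hne : Nonempty ↥(Spec (CommRingCat.of k)) := inferInstance
  have hneZ : Nonempty ↥Z.left := ⟨p.left (η[G].left hne.some)⟩
  obtain ⟨V', hV'ne, hV'flat⟩ := exists_open_flat p.left
  have hopenmap : IsOpenMap ((p.left ⁻¹ᵁ V').ι ≫ p.left) := by
    have h1 : LocallyOfFinitePresentation ((p.left ⁻¹ᵁ V').ι ≫ p.left) := inferInstance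
    have h2 : UniversallyOpen ((p.left ⁻¹ᵁ V').ι ≫ p.left) := inferInstance
    exact Scheme.Hom.isOpenMap _
  obtain ⟨U, hU⟩ : ∃ U : Z.left.Opens,
      (U : Set Z.left) = Set.range ((p.left ⁻¹ᵁ V').ι ≫ p.left) :=
    ⟨⟨_, hopenmap.isOpen_range⟩, rfl⟩
  have hUsub : (U : Set Z.left) ⊆ Set.range p.left := by
    rw [hU]
    rintro _ ⟨s, rfl⟩
    exact ⟨(p.left ⁻¹ᵁ V').ι s, (Scheme.Hom.comp_apply _ _ _).symm⟩
  obtain ⟨W, hW⟩ : ∃ W : G.left.Opens, W = p.left ⁻¹ᵁ U := ⟨_, rfl⟩
  have hWne : (W : Set G.left).Nonempty := by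
    obtain ⟨z, hz1, ⟨g, rfl⟩⟩ := hpd.inter_open_nonempty _ V'.isOpen hV'ne
    refine ⟨g, ?_⟩
    rw [hW]
    change p.left g ∈ (U : Set Z.left)
    rw [hU]
    exact ⟨⟨g, hz1⟩, Scheme.Hom.comp_apply _ _ _⟩
  have hWmem : ∀ w : ↥W, p.left (W.ι w) ∈ (U : Set Z.left) := by
    subst hW
    intro w
    exact w.2
  obtain ⟨ιW, hιW⟩ : ∃ ιW : Over.mk (W.ι ≫ G.hom) ⟶ G, ιW = Over.homMk W.ι rfl := ⟨_, rfl⟩
  have hιWl : ιW.left = W.ι := by rw [hιW]; rfl
  have hC : Set.range p.left = bZ.act.left '' ((snd G Z).left ⁻¹' (U : Set Z.left)) := by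
    apply Set.Subset.antisymm
    · rintro _ ⟨h, rfl⟩
      obtain ⟨s, hs⟩ := (surjective_mul_open k G W hWne ιW hιWl).surj h
      refine ⟨(G ◁ (ιW ≫ p)).left s, ?_, ?_⟩
      · change (snd G Z).left ((G ◁ (ιW ≫ p)).left s) ∈ (U : Set Z.left)
        rw [← Scheme.Hom.comp_apply, ← Over.comp_left, whiskerLeft_snd, Over.comp_left, Over.comp_left,
          hιWl, Scheme.Hom.comp_apply, Scheme.Hom.comp_apply]
        exact hWmem _
      · rw [← Scheme.Hom.comp_apply, ← Over.comp_left, MonoidalCategory.whiskerLeft_comp,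
          Category.assoc, hpeq, ← Category.assoc, Over.comp_left, Scheme.Hom.comp_apply, hs]
    · rintro _ ⟨t, ht, rfl⟩
      exact hstab t (hUsub ht)
  have hCopen : IsOpen (Set.range p.left) := by
    rw [hC]
    have h0 : Flat bZ.act.left := flat_act_left bZ
    have h1 : LocallyOfFiniteType bZ.act.left := by
      have : LocallyOfFiniteType (bZ.act.left ≫ Z.hom) := by rw [Over.w]; infer_instance
      exact locallyOfFiniteType_of_comp bZ.act.left Z.hom
    have h2 : LocallyOfFinitePresentation bZ.act.left := inferInstance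
    have h3 : UniversallyOpen bZ.act.left := inferInstance
    exact bZ.act.left.isOpenMap _ (U.isOpen.preimage (snd G Z).left.continuous)
  -- (3) the orbit as an open subscheme of `Z`
  obtain ⟨Uc, hUc⟩ : ∃ Uc : Z.left.Opens, (Uc : Set Z.left) = Set.range p.left :=
    ⟨⟨_, hCopen⟩, rfl⟩
  obtain ⟨jY, hjY⟩ : ∃ jY : Over.mk (Uc.ι ≫ Z.hom) ⟶ Z, jY = Over.homMk Uc.ι rfl := ⟨_, rfl⟩
  have hjYl : jY.left = Uc.ι := by rw [hjY]; rfl
  have hmonoY : Mono jY := by
    have : Mono jY.left := by rw [hjYl]; infer_instance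
    exact Over.mono_of_mono_left jY
  have hrangeY : Set.range ((G ◁ jY) ≫ bZ.act).left ⊆ Set.range Uc.ι := by
    rintro _ ⟨s, rfl⟩
    rw [Scheme.Opens.range_ι, hUc, Over.comp_left, Scheme.Hom.comp_apply]
    apply hstab
    rw [← Scheme.Hom.comp_apply, ← Over.comp_left, whiskerLeft_snd, Over.comp_left, hjYl,
      Scheme.Hom.comp_apply, ← hUc]
    exact ((snd G (Over.mk (Uc.ι ≫ Z.hom))).left s).2
  obtain ⟨actY, hactY⟩ : ∃ actY : G ⊗ Over.mk (Uc.ι ≫ Z.hom) ⟶ Over.mk (Uc.ι ≫ Z.hom),
      actY ≫ jY = (G ◁ jY) ≫ bZ.act := by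
    refine ⟨Over.homMk (IsOpenImmersion.lift Uc.ι _ hrangeY) ?_, ?_⟩
    · change IsOpenImmersion.lift Uc.ι _ hrangeY ≫ Uc.ι ≫ Z.hom = _
      rw [IsOpenImmersion.lift_fac_assoc]
      exact Over.w _
    · ext1
      rw [Over.comp_left, hjYl]
      exact IsOpenImmersion.lift_fac _ _ _
  obtain ⟨bY, hbY⟩ : ∃ bY : AlgGrp.Action G (Over.mk (Uc.ι ≫ Z.hom)), bY.act = actY :=
    ⟨restrictAct bZ jY actY hactY, rfl⟩
  have hrangep : Set.range p.left ⊆ Set.range Uc.ι := by rw [Scheme.Opens.range_ι, hUc]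
  obtain ⟨pY, hpY⟩ : ∃ pY : G ⟶ Over.mk (Uc.ι ≫ Z.hom), pY ≫ jY = p := by
    refine ⟨Over.homMk (IsOpenImmersion.lift Uc.ι p.left hrangep) ?_, ?_⟩
    · change IsOpenImmersion.lift Uc.ι p.left hrangep ≫ Uc.ι ≫ Z.hom = _
      rw [IsOpenImmersion.lift_fac_assoc]
      exact Over.w _
    · ext1
      rw [Over.comp_left, hjYl]
      exact IsOpenImmersion.lift_fac _ _ _
  have h4 : (1 : 𝟙_ (Over (Spec (CommRingCat.of k))) ⟶ G) ≫ a.orbitMap o = o := by
    unfold AlgGrp.Action.orbitMap
    rw [← Category.assoc, comp_lift, Category.comp_id, ← Category.assoc, comp_toUnit,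
      toUnit_unique (toUnit (𝟙_ (Over (Spec (CommRingCat.of k))))) (𝟙 _), Category.id_comp, act_one]
  have hequiv : (G ◁ (jY ≫ jZ)) ≫ a.act = bY.act ≫ jY ≫ jZ := by
    rw [hbY, ← Category.assoc actY, hactY, Category.assoc, hbZ, hactZ,
      MonoidalCategory.whiskerLeft_comp, Category.assoc]
  have hyf : ((1 : 𝟙_ (Over (Spec (CommRingCat.of k))) ⟶ G) ≫ pY) ≫ jY ≫ jZ = o := by
    rw [Category.assoc, ← Category.assoc pY, hpY, hpj, h4]
  have horb : bY.orbitMap ((1 : 𝟙_ (Over (Spec (CommRingCat.of k))) ⟶ G) ≫ pY) = pY := by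
    have hmono : Mono (jY ≫ jZ) := mono_comp _ _
    rw [← cancel_mono (jY ≫ jZ), ← Category.assoc pY, hpY, hpj]
    unfold AlgGrp.Action.orbitMap
    rw [Category.assoc, ← hequiv, ← Category.assoc, lift_whiskerLeft, Category.assoc, hyf]
  refine ⟨Over.mk (Uc.ι ≫ Z.hom), bY, (1 : 𝟙_ (Over (Spec (CommRingCat.of k))) ⟶ G) ≫ pY, jY ≫ jZ,
    hequiv, hyf, ?_, ?_, ?_, ?_, ?_⟩
  · rw [Over.comp_left, hjYl]
    infer_instance
  · change IsReduced (Uc : Scheme.{u})
    infer_instance
  · change LocallyOfFiniteType (Uc.ι ≫ Z.hom)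
    infer_instance
  · change QuasiCompact (Uc.ι ≫ Z.hom)
    infer_instance
  · rw [horb]
    refine ⟨fun y' => ?_⟩
    have hy' : Uc.ι y' ∈ (Uc : Set Z.left) := y'.2
    rw [hUc] at hy'
    obtain ⟨g, hg⟩ := hy'
    refine ⟨g, ?_⟩
    apply Uc.ι.isOpenEmbedding.injective
    rw [← hg, ← hpY, Over.comp_left, hjYl, Scheme.Hom.comp_apply]

end main

end Groth.Agent.Lib.Helper11OrbitSub
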