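import Mathlib
import Groth.Agent.Lib.Helper11SubGrp
import Groth.Agent.Lib.Helper11SchImageT

/-!
Helper library (helper11): the scheme-theoretic image of a quasi-compact homomorphism of group schemes
over a field is a closed subgroup scheme, and the homomorphism is surjective onto it.
-/

set_option autoImplicit false
universe v u
open CategoryTheory CategoryTheory.Limits AlgebraicGeometry MonoidalCategory CartesianMonoidalCategory MonObj

namespace Groth.Agent.Lib.Helper11SchImage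

section toImage

theorem ker_toImage_eq_bot {X Y : Scheme.{u}} (f : X ⟶ Y) [QuasiCompact f] : f.toImage.ker = ⊥ := by
  refine Scheme.IdealSheafData.ext_of_iSup_eq_top
    (fun V : Y.affineOpens => ⟨f.imageι ⁻¹ᵁ V.1, V.2.preimage f.imageι⟩) ?_ ?_
  · change ⨆ V : Y.affineOpens, f.imageι ⁻¹ᵁ V.1 = ⊤
    rw [← Scheme.Hom.preimage_iSup, iSup_affineOpens_eq_top, Scheme.Hom.preimage_top]
  · intro V
    rw [Scheme.Hom.ker_apply, Scheme.IdealSheafData.ideal_bot, Pi.bot_apply,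
      ← RingHom.injective_iff_ker_eq_bot]
    exact f.toImage_app_injective V

instance {X Y : Scheme.{u}} (f : X ⟶ Y) [QuasiCompact f] :
    IsSchemeTheoreticallyDominant f.toImage := ⟨ker_toImage_eq_bot f⟩

end toImage

section monhom

variable {C : Type u} [Category.{v} C] [CartesianMonoidalCategory C]

theorem isMonHom_of_comp_mono {H K G : C} [MonObj H] [MonObj K] [MonObj G] (g : H ⟶ K) (i : K ⟶ G)
    [Mono i] [IsMonHom i] (f : H ⟶ G) [IsMonHom f] (hgi : g ≫ i = f) : IsMonHom g where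
  one_hom := by
    rw [← cancel_mono i, Category.assoc, hgi, IsMonHom.one_hom f, IsMonHom.one_hom i]
  mul_hom := by
    rw [← cancel_mono i, Category.assoc, hgi, IsMonHom.mul_hom f, Category.assoc,
      IsMonHom.mul_hom i, ← hgi, tensorHom_comp_tensorHom_assoc]

end monhom

section univ

/-- minimality of a scheme-theoretically dominant factorization -/
theorem exists_lift_of_dominant {H K G Z : Scheme.{u}} (g : H ⟶ K)
    [IsSchemeTheoreticallyDominant g] (i : K ⟶ G) (f₁ : H ⟶ Z) (j : Z ⟶ G) [IsClosedImmersion j]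
    (h : g ≫ i = f₁ ≫ j) : ∃ l : K ⟶ Z, l ≫ j = i := by
  have h1 : j.ker ≤ i.ker := by
    have h2 : (g ≫ i).ker = i.ker := by
      rw [Scheme.Hom.ker_comp, g.ker_eq_bot, Scheme.IdealSheafData.map_bot]
    rw [← h2, h]
    exact Scheme.Hom.le_ker_comp f₁ j
  exact ⟨IsClosedImmersion.lift j i h1, IsClosedImmersion.lift_fac j i h1⟩

theorem exists_lift_of_dominant_over {S : Scheme.{u}} {H K G Z : Over S} (g : H ⟶ K)
    [IsSchemeTheoreticallyDominant g.left] (i : K ⟶ G) (f₁ : H ⟶ Z) (j : Z ⟶ G)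
    [IsClosedImmersion j.left] (h : g ≫ i = f₁ ≫ j) : ∃ l : K ⟶ Z, l ≫ j = i := by
  obtain ⟨l, hl⟩ := exists_lift_of_dominant g.left i.left f₁.left j.left
    (by rw [← Over.comp_left, h, Over.comp_left])
  refine ⟨Over.homMk l ?_, ?_⟩
  · rw [← Over.w j, ← Category.assoc, hl, Over.w i]
  · ext1
    exact hl

end univ

section subgrp

variable (k : Type u) [Field k]

open Groth.Agent.Lib.Helper11SubGrp

/-- the scheme-theoretic image of a homomorphism over a field is stable under `(a, b) ↦ a⁻¹ b` -/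
theorem exists_inv_mul_of_dominant (H G K : Over (Spec (CommRingCat.of k))) [GrpObj H] [GrpObj G]
    (f : H ⟶ G) [IsMonHom f] (i : K ⟶ G) [IsClosedImmersion i.left] (g : H ⟶ K) (hgi : g ≫ i = f)
    [IsSchemeTheoreticallyDominant g.left]
    (T : Over (Spec (CommRingCat.of k))) (k₁ k₂ : T ⟶ K) :
    ∃ k₃ : T ⟶ K, k₃ ≫ i = (k₁ ≫ i)⁻¹ * (k₂ ≫ i) := by
  -- step 1: transporter of `H` into `K` under `(h, x) ↦ f(h)⁻¹ x`
  obtain ⟨c₁, hc₁⟩ : ∃ c₁ : H ⊗ G ⟶ G, c₁ = (fst H G ≫ f)⁻¹ * snd H G := ⟨_, rfl⟩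
  obtain ⟨Z₁, j₁, hj₁, h₁⟩ := exists_closedImmersion_transp_over_points k H G G K c₁ i
  have hc₁' : ∀ {T' : Over (Spec (CommRingCat.of k))} (y : T' ⟶ H) (x : T' ⟶ G),
      lift y x ≫ c₁ = (y ≫ f)⁻¹ * x := by
    intro T' y x
    rw [hc₁, MonObj.comp_mul, GrpObj.comp_inv, lift_fst_assoc, lift_snd]
  obtain ⟨z₁, hz₁⟩ := (h₁ H f).mpr (fun T' t y => ⟨(y⁻¹ * t) ≫ g, by
    rw [Category.assoc, hgi, hc₁', MonObj.mul_comp, GrpObj.inv_comp]⟩)
  obtain ⟨l₁, hl₁⟩ := exists_lift_of_dominant_over g i z₁ j₁ (by rw [hgi, hz₁])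
  have s₁ := (h₁ K i).mp ⟨l₁, hl₁⟩
  -- step 2: transporter of `K` into `K` under `(x, y) ↦ y⁻¹ x`
  obtain ⟨c₂, hc₂⟩ : ∃ c₂ : K ⊗ G ⟶ G, c₂ = (snd K G)⁻¹ * (fst K G ≫ i) := ⟨_, rfl⟩
  obtain ⟨Z₂, j₂, hj₂, h₂⟩ := exists_closedImmersion_transp_over_points k K G G K c₂ i
  have hc₂' : ∀ {T' : Over (Spec (CommRingCat.of k))} (y : T' ⟶ K) (x : T' ⟶ G),
      lift y x ≫ c₂ = x⁻¹ * (y ≫ i) := by
    intro T' y x
    rw [hc₂, MonObj.comp_mul, GrpObj.comp_inv, lift_fst_assoc, lift_snd]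
  obtain ⟨z₂, hz₂⟩ := (h₂ H f).mpr (fun T' t y => by
    obtain ⟨f', hf'⟩ := s₁ T' y t
    exact ⟨f', by rw [hf', hc₁', hc₂']⟩)
  obtain ⟨l₂, hl₂⟩ := exists_lift_of_dominant_over g i z₂ j₂ (by rw [hgi, hz₂])
  obtain ⟨k₃, hk₃⟩ := (h₂ K i).mp ⟨l₂, hl₂⟩ T k₁ k₂
  exact ⟨k₃, by rw [hk₃, hc₂']⟩

end subgrp

section surj

variable (k : Type u) [Field k]

theorem mem_range_of_point (H K Z : Over (Spec (CommRingCat.of k))) [GrpObj H] [GrpObj K]
    (g : H ⟶ K) [IsMonHom g] [QuasiCompact g.left] [IsSchemeTheoreticallyDominant g.left]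
    (hZ : ∀ a b : ↥Z.left, a = b) (c : Z ⟶ K) (z₀ : ↥Z.left) :
    c.left z₀ ∈ Set.range g.left := by
  -- a maximal point of Z ⊗ K
  obtain ⟨ξ, hξ, -⟩ := exists_isMaxPt_specializes (Z ⊗ K).left ((lift (𝟙 Z) c).left z₀)
  -- the two flat maps
  obtain ⟨p, hp⟩ : ∃ p : Z ⊗ K ⟶ K, p = snd Z K := ⟨_, rfl⟩
  have hflatZ : Flat Z.hom := inferInstance
  have hpflat : Flat p.left := by
    rw [hp, Over.snd_left]; infer_instance
  obtain ⟨α, hα⟩ : ∃ α : Z ⊗ K ⟶ Z ⊗ K, α = lift (fst Z K) ((fst Z K ≫ c) * (snd Z K)⁻¹) :=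
    ⟨_, rfl⟩
  obtain ⟨α', hα'⟩ : ∃ α' : Z ⊗ K ⟶ Z ⊗ K, α' = lift (fst Z K) ((snd Z K)⁻¹ * (fst Z K ≫ c)) :=
    ⟨_, rfl⟩
  have h1 : α ≫ α' = 𝟙 _ := by
    apply CartesianMonoidalCategory.hom_ext
    · rw [hα, hα', Category.assoc, lift_fst, lift_fst, Category.id_comp]
    · rw [hα', Category.assoc, lift_snd, MonObj.comp_mul, GrpObj.comp_inv, hα, lift_snd,
        lift_fst_assoc, Category.id_comp]
      group
  have h2 : α' ≫ α = 𝟙 _ := by
    apply CartesianMonoidalCategory.hom_ext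
    · rw [hα, hα', Category.assoc, lift_fst, lift_fst, Category.id_comp]
    · rw [hα, Category.assoc, lift_snd, MonObj.comp_mul, GrpObj.comp_inv, hα', lift_snd,
        lift_fst_assoc, Category.id_comp]
      group
  have hαiso : IsIso α := ⟨α', h1, h2⟩
  have hαiso' : IsIso α.left := inferInstanceAs (IsIso ((Over.forget _).map α))
  have hαpflat : Flat (α ≫ p).left := by
    rw [Over.comp_left]; infer_instance
  have hb := mem_range_of_isMaxPt g.left _ (isMaxPt_map_of_flat p.left ξ hξ)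
  have ha := mem_range_of_isMaxPt g.left _ (isMaxPt_map_of_flat (α ≫ p).left ξ hξ)
  obtain ⟨h₂, hh₂⟩ := hb
  obtain ⟨h₁, hh₁⟩ := ha
  obtain ⟨w, hw⟩ := exists_tensor_preimage g g ((lift (α ≫ p) p).left ξ) h₁ h₂
    (by rw [hh₁, ← Scheme.Hom.comp_apply, ← Over.comp_left, lift_fst])
    (by rw [hh₂, ← Scheme.Hom.comp_apply, ← Over.comp_left, lift_snd])
  refine ⟨μ[H].left w, ?_⟩
  have e1 : μ[H] ≫ g = (g ⊗ₘ g) ≫ μ[K] := IsMonHom.mul_hom g
  have e2 : g.left (μ[H].left w) = μ[K].left ((g ⊗ₘ g).left w) := by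
    rw [← Scheme.Hom.comp_apply, ← Over.comp_left, e1, Over.comp_left, Scheme.Hom.comp_apply]
  rw [e2, hw, ← Scheme.Hom.comp_apply, ← Over.comp_left]
  have e3 : lift (α ≫ p) p ≫ μ[K] = fst Z K ≫ c := by
    rw [MonObj.mul_eq_mul, MonObj.comp_mul, lift_fst, lift_snd, hα, hp, lift_snd]
    group
  rw [e3, Over.comp_left, Scheme.Hom.comp_apply]
  congr 1
  exact hZ _ _

theorem surjective_of_dominant (H K : Over (Spec (CommRingCat.of k))) [GrpObj H] [GrpObj K]
    (g : H ⟶ K) [IsMonHom g] [QuasiCompact g.left] [IsSchemeTheoreticallyDominant g.left] :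
    Surjective g.left := by
  refine ⟨fun z => ?_⟩
  have hsub : Subsingleton ↥(Spec (K.left.residueField z)) := inferInstance
  have hne : Nonempty ↥(Spec (K.left.residueField z)) := inferInstance
  have := mem_range_of_point k H K (Over.mk (K.left.fromSpecResidueField z ≫ K.hom)) g
    (fun a b => hsub.elim a b) (Over.homMk (K.left.fromSpecResidueField z) rfl)
    hne.some
  have e : (Over.homMk (U := Over.mk (K.left.fromSpecResidueField z ≫ K.hom)) (V := K)
      (K.left.fromSpecResidueField z) rfl).left hne.some = z :=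
    Scheme.fromSpecResidueField_apply _ _
  rw [e] at this
  exact this

end surj

section main

variable (k : Type u) [Field k]

open Groth.Agent.Lib.Helper11SubGrp

/-- the scheme-theoretic image `K` of a quasi-compact homomorphism `f : H ⟶ G` of group schemes over a
field carries a group structure making `K ⟶ G` and `H ⟶ K` homomorphisms, and `H ⟶ K` is surjective -/
theorem exists_grpObj_image (H G K : Over (Spec (CommRingCat.of k))) [GrpObj H] [GrpObj G]
    (f : H ⟶ G) [IsMonHom f] [QuasiCompact f.left] (i : K ⟶ G) [IsClosedImmersion i.left]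
    (g : H ⟶ K) (hgi : g ≫ i = f) [IsSchemeTheoreticallyDominant g.left] :
    ∃ (_ : GrpObj K), IsMonHom i ∧ IsMonHom g ∧ Surjective g.left := by
  have hmono : Mono i := Over.mono_of_mono_left i
  have hone : ∃ z : 𝟙_ (Over (Spec (CommRingCat.of k))) ⟶ K, z ≫ i = 1 :=
    ⟨η[H] ≫ g, by rw [Category.assoc, hgi, IsMonHom.one_hom f, MonObj.one_eq_one]⟩
  have hinv : ∀ {T : Over (Spec (CommRingCat.of k))} (a : T ⟶ K),
      ∃ z : T ⟶ K, z ≫ i = (a ≫ i)⁻¹ := by
    intro T a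
    obtain ⟨e, he⟩ := hone
    obtain ⟨z, hz⟩ := exists_inv_mul_of_dominant k H G K f i g hgi T a (toUnit T ≫ e)
    exact ⟨z, by rw [hz, Category.assoc, he, MonObj.comp_one, _root_.mul_one]⟩
  have hmul : ∀ {T : Over (Spec (CommRingCat.of k))} (a b : T ⟶ K),
      ∃ z : T ⟶ K, z ≫ i = (a ≫ i) * (b ≫ i) := by
    intro T a b
    obtain ⟨a', ha'⟩ := hinv a
    obtain ⟨z, hz⟩ := exists_inv_mul_of_dominant k H G K f i g hgi T a' b
    exact ⟨z, by rw [hz, ha', inv_inv]⟩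
  obtain ⟨inst, hi⟩ := exists_grpObj_of_points i hone hmul hinv
  have hg : IsMonHom g := isMonHom_of_comp_mono g i f hgi
  have hqc : QuasiCompact g.left := by
    have : QuasiCompact (g.left ≫ i.left) := by
      rw [← Over.comp_left, hgi]; infer_instance
    exact QuasiCompact.of_comp g.left i.left
  exact ⟨inst, hi, hg, surjective_of_dominant k H K g⟩

end main

end Groth.Agent.Lib.Helper11SchImage
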