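import Mathlib
import Groth.Agent.Lib.Helper11OrbitSub
import Groth.Agent.Lib.Helper11SchImage

/-!
Helper library (helper11): the orbit of a rational point under a *reduced* group scheme of finite type
over a field as a reduced locally closed subscheme (generalising `Helper11OrbitSub`).
-/

set_option autoImplicit false
universe u
open CategoryTheory CategoryTheory.Limits AlgebraicGeometry MonoidalCategory CartesianMonoidalCategory MonObj

namespace Groth.Agent.Lib.Helper11OrbitSubR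

open Groth.Agent.Lib.Helper11OrbitSub Groth.Agent.Lib.Helper12

section main

open Groth.Agent.Lib.Helper11KPts Groth.Agent.Lib.Helper11GenFlat Groth.Agent.Lib.Helper11Homog
  Groth.Agent.Lib.Helper11Orbit Groth.Agent.Lib.Helper12 Groth.Agent.Lib.Helper11HomSm

/-- the orbit of a rational point under a reduced group scheme of finite type over a field, as a
reduced locally closed subscheme with its induced action -/
theorem exists_orbit_subscheme_of_isReduced (k : Type u) [Field k] (G X : Over (Spec (CommRingCat.of k)))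
    [GrpObj G] [LocallyOfFiniteType G.hom] [QuasiCompact G.hom] [IsReduced G.left]
    [LocallyOfFiniteType X.hom] [QuasiCompact X.hom] (a : AlgGrp.Action G X)
    (o : 𝟙_ (Over (Spec (CommRingCat.of k))) ⟶ X) :
    ∃ (Y : Over (Spec (CommRingCat.of k))) (b : AlgGrp.Action G Y)
      (y : 𝟙_ (Over (Spec (CommRingCat.of k))) ⟶ Y) (f : Y ⟶ X),
      (G ◁ f) ≫ a.act = b.act ≫ f ∧ y ≫ f = o ∧ IsImmersion f.left ∧ IsReduced Y.left ∧
      LocallyOfFiniteType Y.hom ∧ QuasiCompact Y.hom ∧ Surjective (b.orbitMap y).left := by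
  have hflatG : Flat G.hom := inferInstance
  have hnG : IsLocallyNoetherian G.left := LocallyOfFiniteType.isLocallyNoetherian G.hom
  have hcG : CompactSpace ↥G.left := QuasiCompact.compactSpace_of_compactSpace G.hom
  have hGlfp : LocallyOfFinitePresentation G.hom := inferInstance
  have hGuo : UniversallyOpen G.hom := inferInstance
  obtain ⟨Z, jZ, p, hjZ, hZred, hpj, hpd⟩ := exists_closure_factorization (a.orbitMap o)
  have hmonoZ : Mono jZ := Over.mono_of_mono_left jZ
  have hZlft : LocallyOfFiniteType Z.hom := by rw [← Over.w jZ]; infer_instance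
  have hZqc : QuasiCompact Z.hom := by rw [← Over.w jZ]; infer_instance
  have hnZ : IsLocallyNoetherian Z.left := LocallyOfFiniteType.isLocallyNoetherian Z.hom
  have hcZ : CompactSpace ↥Z.left := QuasiCompact.compactSpace_of_compactSpace Z.hom
  have hNZ : IsNoetherian Z.left := {}
  have hGZlft : LocallyOfFiniteType (G ⊗ Z).hom := by
    change LocallyOfFiniteType (pullback.fst G.hom Z.hom ≫ G.hom)
    infer_instance
  -- (1) the action restricts to `Z`
  have hμπ := whiskerLeft_orbitMap_act a o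
  have hplft : LocallyOfFiniteType p.left := by
    have : LocallyOfFiniteType (p.left ≫ Z.hom) := by rw [Over.w]; infer_instance
    exact locallyOfFiniteType_of_comp p.left Z.hom
  have hpqc : QuasiCompact p.left := inferInstance
  have hpdom : IsDominant p.left := ⟨hpd⟩
  have hpsd : IsSchemeTheoreticallyDominant p.left := IsSchemeTheoreticallyDominant.of_isDominant p.left
  have hsndflat : Flat (snd G Z).left := by
    change Flat (pullback.snd G.hom Z.hom)
    infer_instance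
  have sqp : IsPullback (snd G G).left (G ◁ p).left p.left (snd G Z).left :=
    ((isPullback_whiskerLeft G p).map (Over.forget _)).flip
  have hGpsd : IsSchemeTheoreticallyDominant (G ◁ p).left :=
    IsSchemeTheoreticallyDominant.of_isPullback sqp
  obtain ⟨actZ, hactZ⟩ : ∃ actZ : G ⊗ Z ⟶ Z, actZ ≫ jZ = (G ◁ jZ) ≫ a.act :=
    Groth.Agent.Lib.Helper11SchImage.exists_lift_of_dominant_over (G ◁ p) ((G ◁ jZ) ≫ a.act)
      (μ[G] ≫ p) jZ (by
        rw [← MonoidalCategory.whiskerLeft_comp_assoc, hpj, hμπ, Category.assoc, hpj])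
  obtain ⟨bZ, hbZ⟩ : ∃ bZ : AlgGrp.Action G Z, bZ.act = actZ := ⟨restrictAct a jZ actZ hactZ, rfl⟩
  have hpeq : (G ◁ p) ≫ bZ.act = μ[G] ≫ p := by
    rw [← cancel_mono jZ, Category.assoc, hbZ, hactZ, ← MonoidalCategory.whiskerLeft_comp_assoc, hpj,
      hμπ, Category.assoc, hpj]
  have hstab : ∀ t : ↥(G ⊗ Z).left, (snd G Z).left t ∈ Set.range p.left →
      bZ.act.left t ∈ Set.range p.left := by
    intro t ht
    have : t ∈ Set.range (G ◁ p).left := by rw [range_whiskerLeft_left]; exact ht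
    obtain ⟨s, rfl⟩ := this
    refine ⟨μ[G].left s, ?_⟩
    rw [← Scheme.Hom.comp_apply, ← Scheme.Hom.comp_apply, ← Over.comp_left, ← Over.comp_left, hpeq]
  -- (2) generic flatness: an open subset of `Z` inside the orbit
  have hne : Nonempty ↥(Spec (CommRingCat.of k)) := inferInstance
  have hneZ : Nonempty ↥Z.left := ⟨p.left (η[G].left hne.some)⟩
  obtain ⟨V', hV'ne, hV'flat⟩ := exists_open_flat p.left
  have hopenmap : IsOpenMap ((p.left ⁻¹ᵁ V').ι ≫ p.left) := by
    have h1 : LocallyOfFinitePresentation ((p.left ⁻¹ᵁ V').ι ≫ p.left) := inferInstance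
    have h2 : UniversallyOpen ((p.left ⁻¹ᵁ V').ι ≫ p.left) := inferInstance
    exact Scheme.Hom.isOpenMap _
  obtain ⟨U, hU⟩ : ∃ U : Z.left.Opens,
      (U : Set Z.left) = Set.range ((p.left ⁻¹ᵁ V').ι ≫ p.left) :=
    ⟨⟨_, hopenmap.isOpen_range⟩, rfl⟩
  have hUsub : (U : Set Z.left) ⊆ Set.range p.left := by
    rw [hU]
    rintro _ ⟨s, rfl⟩
    exact ⟨(p.left ⁻¹ᵁ V').ι s, (Scheme.Hom.comp_apply _ _ _).symm⟩
  obtain ⟨W, hW⟩ : ∃ W : G.left.Opens, W = p.left ⁻¹ᵁ U := ⟨_, rfl⟩
  have hWne : (W : Set G.left).Nonempty := by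
    obtain ⟨z, hz1, ⟨g, rfl⟩⟩ := hpd.inter_open_nonempty _ V'.isOpen hV'ne
    refine ⟨g, ?_⟩
    rw [hW]
    change p.left g ∈ (U : Set Z.left)
    rw [hU]
    exact ⟨⟨g, hz1⟩, Scheme.Hom.comp_apply _ _ _⟩
  have hWmem : ∀ w : ↥W, p.left (W.ι w) ∈ (U : Set Z.left) := by
    subst hW
    intro w
    exact w.2
  obtain ⟨ιW, hιW⟩ : ∃ ιW : Over.mk (W.ι ≫ G.hom) ⟶ G, ιW = Over.homMk W.ι rfl := ⟨_, rfl⟩
  have hιWl : ιW.left = W.ι := by rw [hιW]; rfl
  have hC : Set.range p.left = bZ.act.left '' ((snd G Z).left ⁻¹' (U : Set Z.left)) := by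
    apply Set.Subset.antisymm
    · rintro _ ⟨h, rfl⟩
      obtain ⟨s, hs⟩ := (surjective_mul_open k G W hWne ιW hιWl).surj h
      refine ⟨(G ◁ (ιW ≫ p)).left s, ?_, ?_⟩
      · change (snd G Z).left ((G ◁ (ιW ≫ p)).left s) ∈ (U : Set Z.left)
        rw [← Scheme.Hom.comp_apply, ← Over.comp_left, whiskerLeft_snd, Over.comp_left, Over.comp_left,
          hιWl, Scheme.Hom.comp_apply, Scheme.Hom.comp_apply]
        exact hWmem _
      · rw [← Scheme.Hom.comp_apply, ← Over.comp_left, MonoidalCategory.whiskerLeft_comp,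
          Category.assoc, hpeq, ← Category.assoc, Over.comp_left, Scheme.Hom.comp_apply, hs]
    · rintro _ ⟨t, ht, rfl⟩
      exact hstab t (hUsub ht)
  have hCopen : IsOpen (Set.range p.left) := by
    rw [hC]
    have h0 : Flat bZ.act.left := flat_act_left bZ
    have h1 : LocallyOfFiniteType bZ.act.left := by
      have : LocallyOfFiniteType (bZ.act.left ≫ Z.hom) := by rw [Over.w]; infer_instance
      exact locallyOfFiniteType_of_comp bZ.act.left Z.hom
    have h2 : LocallyOfFinitePresentation bZ.act.left := inferInstance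
    have h3 : UniversallyOpen bZ.act.left := inferInstance
    exact bZ.act.left.isOpenMap _ (U.isOpen.preimage (snd G Z).left.continuous)
  -- (3) the orbit as an open subscheme of `Z`
  obtain ⟨Uc, hUc⟩ : ∃ Uc : Z.left.Opens, (Uc : Set Z.left) = Set.range p.left :=
    ⟨⟨_, hCopen⟩, rfl⟩
  obtain ⟨jY, hjY⟩ : ∃ jY : Over.mk (Uc.ι ≫ Z.hom) ⟶ Z, jY = Over.homMk Uc.ι rfl := ⟨_, rfl⟩
  have hjYl : jY.left = Uc.ι := by rw [hjY]; rfl
  have hmonoY : Mono jY := by
    have : Mono jY.left := by rw [hjYl]; infer_instance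
    exact Over.mono_of_mono_left jY
  have hrangeY : Set.range ((G ◁ jY) ≫ bZ.act).left ⊆ Set.range Uc.ι := by
    rintro _ ⟨s, rfl⟩
    rw [Scheme.Opens.range_ι, hUc, Over.comp_left, Scheme.Hom.comp_apply]
    apply hstab
    rw [← Scheme.Hom.comp_apply, ← Over.comp_left, whiskerLeft_snd, Over.comp_left, hjYl,
      Scheme.Hom.comp_apply, ← hUc]
    exact ((snd G (Over.mk (Uc.ι ≫ Z.hom))).left s).2
  obtain ⟨actY, hactY⟩ : ∃ actY : G ⊗ Over.mk (Uc.ι ≫ Z.hom) ⟶ Over.mk (Uc.ι ≫ Z.hom),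
      actY ≫ jY = (G ◁ jY) ≫ bZ.act := by
    refine ⟨Over.homMk (IsOpenImmersion.lift Uc.ι _ hrangeY) ?_, ?_⟩
    · change IsOpenImmersion.lift Uc.ι _ hrangeY ≫ Uc.ι ≫ Z.hom = _
      rw [IsOpenImmersion.lift_fac_assoc]
      exact Over.w _
    · ext1
      rw [Over.comp_left, hjYl]
      exact IsOpenImmersion.lift_fac _ _ _
  obtain ⟨bY, hbY⟩ : ∃ bY : AlgGrp.Action G (Over.mk (Uc.ι ≫ Z.hom)), bY.act = actY :=
    ⟨restrictAct bZ jY actY hactY, rfl⟩
  have hrangep : Set.range p.left ⊆ Set.range Uc.ι := by rw [Scheme.Opens.range_ι, hUc]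
  obtain ⟨pY, hpY⟩ : ∃ pY : G ⟶ Over.mk (Uc.ι ≫ Z.hom), pY ≫ jY = p := by
    refine ⟨Over.homMk (IsOpenImmersion.lift Uc.ι p.left hrangep) ?_, ?_⟩
    · change IsOpenImmersion.lift Uc.ι p.left hrangep ≫ Uc.ι ≫ Z.hom = _
      rw [IsOpenImmersion.lift_fac_assoc]
      exact Over.w _
    · ext1
      rw [Over.comp_left, hjYl]
      exact IsOpenImmersion.lift_fac _ _ _
  have h4 : (1 : 𝟙_ (Over (Spec (CommRingCat.of k))) ⟶ G) ≫ a.orbitMap o = o := by
    unfold AlgGrp.Action.orbitMap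
    rw [← Category.assoc, comp_lift, Category.comp_id, ← Category.assoc, comp_toUnit,
      toUnit_unique (toUnit (𝟙_ (Over (Spec (CommRingCat.of k))))) (𝟙 _), Category.id_comp, act_one]
  have hequiv : (G ◁ (jY ≫ jZ)) ≫ a.act = bY.act ≫ jY ≫ jZ := by
    rw [hbY, ← Category.assoc actY, hactY, Category.assoc, hbZ, hactZ,
      MonoidalCategory.whiskerLeft_comp, Category.assoc]
  have hyf : ((1 : 𝟙_ (Over (Spec (CommRingCat.of k))) ⟶ G) ≫ pY) ≫ jY ≫ jZ = o := by
    rw [Category.assoc, ← Category.assoc pY, hpY, hpj, h4]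
  have horb : bY.orbitMap ((1 : 𝟙_ (Over (Spec (CommRingCat.of k))) ⟶ G) ≫ pY) = pY := by
    have hmono : Mono (jY ≫ jZ) := mono_comp _ _
    rw [← cancel_mono (jY ≫ jZ), ← Category.assoc pY, hpY, hpj]
    unfold AlgGrp.Action.orbitMap
    rw [Category.assoc, ← hequiv, ← Category.assoc, lift_whiskerLeft, Category.assoc, hyf]
  refine ⟨Over.mk (Uc.ι ≫ Z.hom), bY, (1 : 𝟙_ (Over (Spec (CommRingCat.of k))) ⟶ G) ≫ pY, jY ≫ jZ,
    hequiv, hyf, ?_, ?_, ?_, ?_, ?_⟩
  · rw [Over.comp_left, hjYl]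
    infer_instance
  · change IsReduced (Uc : Scheme.{u})
    infer_instance
  · change LocallyOfFiniteType (Uc.ι ≫ Z.hom)
    infer_instance
  · change QuasiCompact (Uc.ι ≫ Z.hom)
    infer_instance
  · rw [horb]
    refine ⟨fun y' => ?_⟩
    have hy' : Uc.ι y' ∈ (Uc : Set Z.left) := y'.2
    rw [hUc] at hy'
    obtain ⟨g, hg⟩ := hy'
    refine ⟨g, ?_⟩
    apply Uc.ι.isOpenEmbedding.injective
    rw [← hg, ← hpY, Over.comp_left, hjYl, Scheme.Hom.comp_apply]

end main


section uniq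

variable {S : Scheme.{u}}

theorem exists_lift_closedImmersion' {T O U : Scheme.{u}} [IsReduced T] (f : T ⟶ U) (j : O ⟶ U)
    [IsClosedImmersion j] (h : Set.range f ⊆ Set.range j) : ∃ l : T ⟶ O, l ≫ j = f :=
  Groth.Agent.Lib.Helper11KPts.exists_lift_closedImmersion f j h

/-- a morphism from a reduced scheme factors through an immersion containing its image -/
theorem exists_lift_immersion {T O X : Scheme.{u}} [IsReduced T] (f : T ⟶ X) (i : O ⟶ X)
    [IsImmersion i] (h : Set.range f ⊆ Set.range i) : ∃ l : T ⟶ O, l ≫ i = f := by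
  have h1 : Set.range f ⊆ Set.range i.coborderRange.ι := by
    refine h.trans ?_
    rintro _ ⟨o, rfl⟩
    refine ⟨i.liftCoborder o, ?_⟩
    rw [← Scheme.Hom.comp_apply, i.liftCoborder_ι]
  obtain ⟨f', hf'⟩ : ∃ f' : T ⟶ i.coborderRange, f' ≫ i.coborderRange.ι = f :=
    ⟨IsOpenImmersion.lift i.coborderRange.ι f h1, IsOpenImmersion.lift_fac _ _ _⟩
  have h2 : Set.range f' ⊆ Set.range i.liftCoborder := by
    rintro _ ⟨t, rfl⟩
    obtain ⟨o, ho⟩ := h ⟨t, rfl⟩
    refine ⟨o, ?_⟩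
    apply i.coborderRange.ι.isOpenEmbedding.injective
    rw [← Scheme.Hom.comp_apply, ← Scheme.Hom.comp_apply, i.liftCoborder_ι, hf']
    exact ho
  obtain ⟨l, hl⟩ := exists_lift_closedImmersion' f' i.liftCoborder h2
  exact ⟨l, by rw [← i.liftCoborder_ι, reassoc_of% hl, hf']⟩

/-- two immersions from reduced schemes with the same image are isomorphic over the target -/
theorem exists_iso_of_immersion_of_range_eq {Z Z' X : Over S} (z : Z ⟶ X) (z' : Z' ⟶ X)
    [IsImmersion z.left] [IsImmersion z'.left] [IsReduced Z.left] [IsReduced Z'.left]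
    (h : Set.range z.left = Set.range z'.left) : ∃ e : Z ≅ Z', e.hom ≫ z' = z := by
  obtain ⟨l₁, hl₁⟩ := exists_lift_immersion z.left z'.left h.le
  obtain ⟨l₂, hl₂⟩ := exists_lift_immersion z'.left z.left h.ge
  have hm : Mono z := Over.mono_of_mono_left z
  have hm' : Mono z' := Over.mono_of_mono_left z'
  obtain ⟨e₁, he₁⟩ : ∃ e₁ : Z ⟶ Z', e₁ ≫ z' = z := by
    refine ⟨Over.homMk l₁ ?_, ?_⟩
    · rw [← Over.w z', reassoc_of% hl₁, Over.w]
    · ext1; exact hl₁
  obtain ⟨e₂, he₂⟩ : ∃ e₂ : Z' ⟶ Z, e₂ ≫ z = z' := by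
    refine ⟨Over.homMk l₂ ?_, ?_⟩
    · rw [← Over.w z, reassoc_of% hl₂, Over.w]
    · ext1; exact hl₂
  refine ⟨⟨e₁, e₂, ?_, ?_⟩, he₁⟩
  · rw [← cancel_mono z, Category.assoc, he₂, he₁, Category.id_comp]
  · rw [← cancel_mono z', Category.assoc, he₁, he₂, Category.id_comp]

/-- two quotients of `G` by the same subgroup are isomorphic compatibly with the quotient maps -/
theorem exists_iso_of_isPullback_quot {G H Y Y' : Over S} [GrpObj G] (i : H ⟶ G) (π : G ⟶ Y)
    (π' : G ⟶ Y') (hY : IsPullback (fst G H) ((G ◁ i) ≫ μ[G]) π π)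
    (hY' : IsPullback (fst G H) ((G ◁ i) ≫ μ[G]) π' π')
    [Flat π.left] [Surjective π.left] [QuasiCompact π.left]
    [Flat π'.left] [Surjective π'.left] [QuasiCompact π'.left] :
    ∃ e : Y ≅ Y', π ≫ e.hom = π' := by
  have h1 : EffectiveEpi π.left := inferInstance
  have h2 : EffectiveEpi π'.left := inferInstance
  have hepi : Epi π := epi_of_flat_of_surjective_left π
  have hepi' : Epi π' := epi_of_flat_of_surjective_left π'
  obtain ⟨e₁, he₁⟩ := exists_desc_of_isPullback π hY π' hY'.w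
  obtain ⟨e₂, he₂⟩ := exists_desc_of_isPullback π' hY' π hY.w
  refine ⟨⟨e₁, e₂, ?_, ?_⟩, he₁⟩
  · rw [← cancel_epi π, ← Category.assoc, he₁, he₂, Category.comp_id]
  · rw [← cancel_epi π', ← Category.assoc, he₂, he₁, Category.comp_id]

end uniq

end Groth.Agent.Lib.Helper11OrbitSubR
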