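import Mathlib

/-!
# Pulling back a limit cone in an over category along a morphism, with chosen pullbacks (helper11)

Namespace `Groth.Agent.Lib.Helper11.PBLim`.

Let `a : A ⟶ B`, `G : K ⥤ Over B` with a limit cone `cG`, and suppose chosen pullback squares of `a`
along `(G.obj k).hom` and along `cG.pt.hom` are given. Then the pullbacks form a diagram
`sys : K ⥤ Over A` and the pullback of the cone point is its limit (`isLimitSysCone`).
No pullbacks are assumed to exist in general.
-/

set_option autoImplicit false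
universe v u v' u'
open CategoryTheory CategoryTheory.Limits

namespace Groth.Agent.Lib.Helper11.PBLim

variable {C : Type u} [Category.{v} C] {A B : C} (a : A ⟶ B) {K : Type u'} [Category.{v'} K]
  (G : K ⥤ Over B) (M : K → C) (p : ∀ k, M k ⟶ A) (q : ∀ k, M k ⟶ (G.obj k).left)
  (h : ∀ k, IsPullback (p k) (q k) a (G.obj k).hom)

/-- transition maps between the chosen pullbacks -/
noncomputable def sysMap {k l : K} (f : k ⟶ l) : M k ⟶ M l :=
  (h l).lift (p k) (q k ≫ (G.map f).left) (by rw [(h k).w, Category.assoc, Over.w])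

@[reassoc (attr := simp)]
theorem sysMap_fst {k l : K} (f : k ⟶ l) : sysMap a G M p q h f ≫ p l = p k :=
  (h l).lift_fst _ _ _

@[reassoc (attr := simp)]
theorem sysMap_snd {k l : K} (f : k ⟶ l) :
    sysMap a G M p q h f ≫ q l = q k ≫ (G.map f).left :=
  (h l).lift_snd _ _ _

/-- the diagram of chosen pullbacks -/
noncomputable def sys : K ⥤ Over A where
  obj k := Over.mk (p k)
  map {k l} f := Over.homMk (sysMap a G M p q h f) (sysMap_fst a G M p q h f)
  map_id k := by
    ext
    apply (h k).hom_ext
    · simp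
    · simp
  map_comp {k l m} f g := by
    ext
    apply (h m).hom_ext
    · simp
    · simp

@[simp] theorem sys_obj_left (k : K) : ((sys a G M p q h).obj k).left = M k := rfl
@[simp] theorem sys_obj_hom (k : K) : ((sys a G M p q h).obj k).hom = p k := rfl
@[simp] theorem sys_map_left {k l : K} (f : k ⟶ l) :
    ((sys a G M p q h).map f).left = sysMap a G M p q h f := rfl

variable (cG : Cone G) {M₀ : C} (p₀ : M₀ ⟶ A) (q₀ : M₀ ⟶ cG.pt.left)
  (h₀ : IsPullback p₀ q₀ a cG.pt.hom)

theorem cone_w (k : K) : (cG.π.app k).left ≫ (G.obj k).hom = cG.pt.hom := Over.w (cG.π.app k)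

theorem cone_nat {k l : K} (f : k ⟶ l) :
    (cG.π.app k).left ≫ (G.map f).left = (cG.π.app l).left := by
  rw [← Over.comp_left, cG.w f]

/-- the projections from the pullback of the cone point -/
noncomputable def coneMap (k : K) : M₀ ⟶ M k :=
  (h k).lift p₀ (q₀ ≫ (cG.π.app k).left) (by rw [h₀.w, Category.assoc, cone_w])

@[reassoc (attr := simp)]
theorem coneMap_fst (k : K) : coneMap a G M p q h cG p₀ q₀ h₀ k ≫ p k = p₀ :=
  (h k).lift_fst _ _ _

@[reassoc (attr := simp)]
theorem coneMap_snd (k : K) :
    coneMap a G M p q h cG p₀ q₀ h₀ k ≫ q k = q₀ ≫ (cG.π.app k).left :=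
  (h k).lift_snd _ _ _

theorem coneMap_sysMap {k l : K} (f : k ⟶ l) :
    coneMap a G M p q h cG p₀ q₀ h₀ k ≫ sysMap a G M p q h f =
      coneMap a G M p q h cG p₀ q₀ h₀ l := by
  apply (h l).hom_ext
  · simp
  · simp [cone_nat]

/-- the cone over the diagram of chosen pullbacks -/
noncomputable def sysCone : Cone (sys a G M p q h) where
  pt := Over.mk p₀
  π :=
    { app := fun k => Over.homMk (coneMap a G M p q h cG p₀ q₀ h₀ k)
        (coneMap_fst a G M p q h cG p₀ q₀ h₀ k)
      naturality := fun k l f => by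
        ext
        change 𝟙 M₀ ≫ coneMap a G M p q h cG p₀ q₀ h₀ l =
          coneMap a G M p q h cG p₀ q₀ h₀ k ≫ sysMap a G M p q h f
        rw [Category.id_comp, coneMap_sysMap] }

@[simp] theorem sysCone_pt_left : (sysCone a G M p q h cG p₀ q₀ h₀).pt.left = M₀ := rfl
@[simp] theorem sysCone_pt_hom : (sysCone a G M p q h cG p₀ q₀ h₀).pt.hom = p₀ := rfl
@[simp] theorem sysCone_π_app_left (k : K) :
    ((sysCone a G M p q h cG p₀ q₀ h₀).π.app k).left = coneMap a G M p q h cG p₀ q₀ h₀ k := rfl

section Lift
variable (s : Cone (sys a G M p q h))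

/-- the legs of a cone over the diagram of pullbacks -/
noncomputable def leg (k : K) : s.pt.left ⟶ M k := (s.π.app k).left

theorem leg_fst (k : K) : leg a G M p q h s k ≫ p k = s.pt.hom := Over.w (s.π.app k)

theorem leg_sysMap {k l : K} (f : k ⟶ l) :
    leg a G M p q h s k ≫ sysMap a G M p q h f = leg a G M p q h s l := by
  exact congrArg CommaMorphism.left (s.w f)

/-- the cone over `G` induced by a cone over the diagram of pullbacks -/
noncomputable def auxCone : Cone G where
  pt := Over.mk (s.pt.hom ≫ a)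
  π :=
    { app := fun k => Over.homMk (leg a G M p q h s k ≫ q k) (by
        change (leg a G M p q h s k ≫ q k) ≫ (G.obj k).hom = s.pt.hom ≫ a
        rw [Category.assoc, ← (h k).w, ← Category.assoc, leg_fst])
      naturality := fun k l f => by
        ext
        change 𝟙 _ ≫ leg a G M p q h s l ≫ q l = (leg a G M p q h s k ≫ q k) ≫ (G.map f).left
        rw [Category.id_comp, Category.assoc, ← sysMap_snd a G M p q h f, ← Category.assoc,
          leg_sysMap] }

theorem auxCone_π_app_left (k : K) :
    ((auxCone a G M p q h s).π.app k).left = leg a G M p q h s k ≫ q k := rfl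

end Lift

/-- the pullback of the cone point is the limit of the diagram of pullbacks -/
noncomputable def isLimitSysCone (hcG : IsLimit cG) :
    IsLimit (sysCone a G M p q h cG p₀ q₀ h₀) where
  lift s := Over.homMk (h₀.lift s.pt.hom (hcG.lift (auxCone a G M p q h s)).left
      (Over.w (hcG.lift (auxCone a G M p q h s))).symm) (h₀.lift_fst _ _ _)
  fac s k := by
    ext
    change h₀.lift s.pt.hom (hcG.lift (auxCone a G M p q h s)).left _ ≫
      coneMap a G M p q h cG p₀ q₀ h₀ k = leg a G M p q h s k
    apply (h k).hom_ext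
    · rw [Category.assoc, coneMap_fst, h₀.lift_fst, leg_fst]
    · rw [Category.assoc, coneMap_snd, h₀.lift_snd_assoc]
      exact congrArg CommaMorphism.left (hcG.fac (auxCone a G M p q h s) k)
  uniq s m hm := by
    obtain ⟨ml, hml⟩ : ∃ ml : s.pt.left ⟶ M₀, ml = m.left := ⟨_, rfl⟩
    have h1 : ml ≫ p₀ = s.pt.hom := by
      rw [hml]
      exact Over.w m
    have h3 : ∀ k, ml ≫ coneMap a G M p q h cG p₀ q₀ h₀ k = leg a G M p q h s k := by
      intro k
      rw [hml]
      exact congrArg CommaMorphism.left (hm k)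
    have hw : (ml ≫ q₀) ≫ cG.pt.hom = (auxCone a G M p q h s).pt.hom := by
      change (ml ≫ q₀) ≫ cG.pt.hom = s.pt.hom ≫ a
      rw [Category.assoc, ← h₀.w, ← Category.assoc, h1]
    have h4 := hcG.uniq (auxCone a G M p q h s) (Over.homMk (ml ≫ q₀) hw) (fun k => by
      ext
      change (ml ≫ q₀) ≫ (cG.π.app k).left = leg a G M p q h s k ≫ q k
      rw [Category.assoc, ← coneMap_snd a G M p q h cG p₀ q₀ h₀ k, ← Category.assoc, h3])
    have h5 : ml ≫ q₀ = (hcG.lift (auxCone a G M p q h s)).left :=
      congrArg CommaMorphism.left h4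
    ext
    change m.left = h₀.lift s.pt.hom (hcG.lift (auxCone a G M p q h s)).left _
    rw [← hml]
    apply h₀.hom_ext
    · rw [h₀.lift_fst, h1]
    · rw [h₀.lift_snd, h5]

end Groth.Agent.Lib.Helper11.PBLim
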