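import Mathlib
import Groth.Prelude.Def_BlowUp2
import Groth.Prelude.Def_W4c6modpairsegaMP
import Groth.Agent.Lib.Helper2AdmFrac
import Groth.Agent.Lib.Helper2ModPair
import Groth.Agent.Lib.Helper11Epi
import Groth.Agent.S18735
import Groth.Agent.S18736

/-!
# The category of modulus pairs: isomorphisms, admissible blow-ups are epi, pullbacks along
minimal morphisms (helper11)

Namespace `Groth.Agent.Lib.Helper11.PairCat`.
-/

set_option autoImplicit false
set_option linter.style.haveILetI false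
universe u
open CategoryTheory CategoryTheory.Limits AlgebraicGeometry TopologicalSpace

namespace Groth.Agent.Lib.Helper11.PairCat

open ModPair Groth.Agent.Lib.Helper2.AdmFrac Groth.Agent.Lib.Helper2.StrictTr
  Groth.Agent.Lib.Helper2.ModPairLib

@[simp] theorem comp_hom {P Q R : Pair.{u}} (f : P ⟶ Q) (g : Q ⟶ R) : (f ≫ g).hom = f.hom ≫ g.hom :=
  rfl

@[simp] theorem id_hom (P : Pair.{u}) : (𝟙 P : P ⟶ P).hom = 𝟙 P.total := rfl

theorem isIso_hom {P Q : Pair.{u}} (f : P ⟶ Q) [IsIso f] : IsIso f.hom :=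
  inferInstanceAs (IsIso (Pair.forget.map f))

theorem mod_eq_of_isIso {P Q : Pair.{u}} (f : P ⟶ Q) [IsIso f] : P.mod = Q.mod.comap f.hom := by
  apply le_antisymm f.cond
  have h : Q.mod ≤ P.mod.comap (inv f).hom := (inv f).cond
  have h2 : f.hom ≫ (inv f).hom = 𝟙 _ := congrArg Pair.Hom.hom (IsIso.hom_inv_id f)
  calc Q.mod.comap f.hom ≤ (P.mod.comap (inv f).hom).comap f.hom :=
        Scheme.IdealSheafData.comap_mono _ h
    _ = P.mod.comap (f.hom ≫ (inv f).hom) := (Scheme.IdealSheafData.comap_comp _ _ _).symm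
    _ = P.mod := by rw [h2, Scheme.IdealSheafData.comap_id]

theorem admBlowup_of_isIso {P Q : Pair.{u}} (f : P ⟶ Q) [IsIso f] : Pair.admBlowup f := by
  haveI := isIso_hom f
  exact ⟨mod_eq_of_isIso f, inferInstance, inferInstance⟩

theorem admBlowup_comp {P Q R : Pair.{u}} (f : P ⟶ Q) (g : Q ⟶ R) (hf : Pair.admBlowup f)
    (hg : Pair.admBlowup g) : Pair.admBlowup (f ≫ g) :=
  isAdmBlowup_comp hf hg

section Epi
variable {X Y : Scheme.{u}} {I : X.IdealSheafData} {J : Y.IdealSheafData}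

theorem ker_eq_bot_of_isAdmBlowup (hJ : BlowUp.IsEffCartierIdeal J) (s : X ⟶ Y)
    (hs : IsAdmBlowup I J s) : s.ker = ⊥ := by
  obtain ⟨-, -, hiso⟩ := hs
  haveI := hiso
  have h1 : ((s ∣_ interior J) ≫ (interior J).ι).ker = (interior J).ι.ker :=
    Scheme.Hom.ker_comp_of_isIso _ _
  rw [morphismRestrict_ι, ker_ι_compl hJ _ rfl] at h1
  rw [eq_bot_iff, ← h1]
  exact Scheme.Hom.le_ker_comp _ _

theorem surjective_of_isAdmBlowup (hJ : BlowUp.IsEffCartierIdeal J) (s : X ⟶ Y)
    (hs : IsAdmBlowup I J s) : Surjective s := by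
  have hker := ker_eq_bot_of_isAdmBlowup hJ s hs
  obtain ⟨-, hprop, -⟩ := hs
  haveI := hprop
  haveI : IsSchemeTheoreticallyDominant s := ⟨hker⟩
  haveI : IsDominant s := inferInstance
  have hcl : IsClosed (Set.range s) := s.isClosedMap.isClosed_range
  have hd : DenseRange s := s.denseRange
  refine ⟨fun y => ?_⟩
  have : y ∈ closure (Set.range s) := hd y
  rwa [hcl.closure_eq] at this

theorem eq_of_isAdmBlowup_comp_eq (hJ : BlowUp.IsEffCartierIdeal J) (s : X ⟶ Y)
    (hs : IsAdmBlowup I J s) {Z : Scheme.{u}} (a b : Y ⟶ Z) (h : s ≫ a = s ≫ b) : a = b := by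
  haveI : IsSchemeTheoreticallyDominant s := ⟨ker_eq_bot_of_isAdmBlowup hJ s hs⟩
  haveI : Surjective s := surjective_of_isAdmBlowup hJ s hs
  haveI : IsProper s := hs.2.1
  exact Groth.Agent.Lib.Helper11.Epi.eq_of_comp_eq s a b h

end Epi

theorem eq_of_admBlowup_comp_eq {P Q Z : Pair.{u}} (s : P ⟶ Q) (hs : Pair.admBlowup s)
    (a b : Q ⟶ Z) (h : s ≫ a = s ≫ b) : a = b :=
  Pair.Hom.ext (eq_of_isAdmBlowup_comp_eq Q.isEffCartier s.hom hs a.hom b.hom
    (congrArg Pair.Hom.hom h))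

section PB
variable {A B T : Pair.{u}} (a : A ⟶ B) (t : T ⟶ B) (ht : T.mod = B.mod.comap t.hom)

/-- the pullback of `a` along a minimal morphism `t`, as a modulus pair. -/
noncomputable def pb : Pair.{u} :=
  ⟨mprod a.hom t.hom A.mod T.mod,
    A.mod.comap (mprodι a.hom t.hom A.mod T.mod ≫ pullback.fst a.hom t.hom),
    (Groth.Agent.S18736.result B.mod T.mod A.mod B.isEffCartier T.isEffCartier A.isEffCartier
      a.hom a.cond t.hom ht).1⟩

noncomputable def pbFst : pb a t ht ⟶ A :=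
  ⟨mprodι a.hom t.hom A.mod T.mod ≫ pullback.fst a.hom t.hom, le_rfl⟩

noncomputable def pbSnd : pb a t ht ⟶ T :=
  ⟨mprodι a.hom t.hom A.mod T.mod ≫ pullback.snd a.hom t.hom,
    (Groth.Agent.S18736.result B.mod T.mod A.mod B.isEffCartier T.isEffCartier A.isEffCartier
      a.hom a.cond t.hom ht).2.1⟩

theorem pb_mod : (pb a t ht).mod = A.mod.comap (pbFst a t ht).hom := rfl

theorem pb_w : pbFst a t ht ≫ a = pbSnd a t ht ≫ t := by
  apply Pair.Hom.ext
  change (mprodι a.hom t.hom A.mod T.mod ≫ pullback.fst a.hom t.hom) ≫ a.hom =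
    (mprodι a.hom t.hom A.mod T.mod ≫ pullback.snd a.hom t.hom) ≫ t.hom
  rw [Category.assoc, Category.assoc, pullback.condition]

theorem isPullback_pb : IsPullback (pbFst a t ht) (pbSnd a t ht) a t := by
  have key := (Groth.Agent.S18736.result B.mod T.mod A.mod B.isEffCartier T.isEffCartier
    A.isEffCartier a.hom a.cond t.hom ht).2.2
  have hex : ∀ s : PullbackCone a t, ∃! c : s.pt.total ⟶ mprod a.hom t.hom A.mod T.mod,
      c ≫ mprodι a.hom t.hom A.mod T.mod ≫ pullback.snd a.hom t.hom = s.snd.hom ∧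
        c ≫ mprodι a.hom t.hom A.mod T.mod ≫ pullback.fst a.hom t.hom = s.fst.hom ∧
        IsAmbient s.pt.mod
          (A.mod.comap (mprodι a.hom t.hom A.mod T.mod ≫ pullback.fst a.hom t.hom)) c :=
    fun s => key s.pt.total s.pt.mod s.pt.isEffCartier s.snd.hom s.fst.hom s.snd.cond s.fst.cond
      (congrArg Pair.Hom.hom s.condition).symm
  refine IsPullback.of_isLimit' ⟨pb_w a t ht⟩ (PullbackCone.IsLimit.mk _
    (fun s => (⟨(hex s).exists.choose, (hex s).exists.choose_spec.2.2⟩ : s.pt ⟶ pb a t ht))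
    (fun s => Pair.Hom.ext (hex s).exists.choose_spec.2.1)
    (fun s => Pair.Hom.ext (hex s).exists.choose_spec.1) ?_)
  intro s m hm1 hm2
  apply Pair.Hom.ext
  exact (hex s).unique ⟨congrArg Pair.Hom.hom hm2, congrArg Pair.Hom.hom hm1, m.cond⟩
    (hex s).exists.choose_spec

include ht in
theorem pb_mod_eq_snd (ha : A.mod = B.mod.comap a.hom) :
    (pb a t ht).mod = T.mod.comap (pbSnd a t ht).hom :=
  le_antisymm (comap_fst_le_comap_snd B.mod T.mod A.mod a.hom t.hom a.cond ht _)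
    (comap_snd_le_comap_fst B.mod T.mod A.mod a.hom t.hom ha t.cond _)

theorem admBlowup_pbSnd (ha : Pair.admBlowup a) : Pair.admBlowup (pbSnd a t ht) := by
  have h := (Groth.Agent.S18735.result B.mod T.mod A.mod B.isEffCartier T.isEffCartier
    A.isEffCartier t.hom t.cond a.hom ha).2.1
  change IsAdmBlowup (pb a t ht).mod T.mod (pbSnd a t ht).hom
  rw [pb_mod_eq_snd a t ht ha.1]
  exact h

end PB

/-- the output of `S18746` exhibits the admissible blow-up of the limit as a pullback in the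
category of modulus pairs. -/
theorem isPullback_of_iso_mprod {X Xi Yi X' : Pair.{u}} (π : X ⟶ Xi)
    (hπ : X.mod = Xi.mod.comap π.hom) (si : Yi ⟶ Xi) (hsi : Yi.mod = Xi.mod.comap si.hom)
    (s : X' ⟶ X) (hs : X'.mod = X.mod.comap s.hom)
    (e : X'.total ≅ mprod π.hom si.hom X.mod Yi.mod)
    (he : e.hom ≫ mprodι π.hom si.hom X.mod Yi.mod ≫ pullback.fst π.hom si.hom = s.hom) :
    ∃ r : X' ⟶ Yi, r.hom = e.hom ≫ mprodι π.hom si.hom X.mod Yi.mod ≫ pullback.snd π.hom si.hom ∧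
      IsPullback r s si π := by
  have hw : (e.hom ≫ mprodι π.hom si.hom X.mod Yi.mod ≫ pullback.snd π.hom si.hom) ≫ si.hom =
      s.hom ≫ π.hom := by
    rw [← he]
    simp only [Category.assoc, pullback.condition]
  have hr : X'.mod ≤ Yi.mod.comap
      (e.hom ≫ mprodι π.hom si.hom X.mod Yi.mod ≫ pullback.snd π.hom si.hom) := by
    have h1 : Yi.mod.comap
        (e.hom ≫ mprodι π.hom si.hom X.mod Yi.mod ≫ pullback.snd π.hom si.hom) =
        (Xi.mod.comap si.hom).comap
          (e.hom ≫ mprodι π.hom si.hom X.mod Yi.mod ≫ pullback.snd π.hom si.hom) :=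
      congrArg (fun K => Scheme.IdealSheafData.comap K
        (e.hom ≫ mprodι π.hom si.hom X.mod Yi.mod ≫ pullback.snd π.hom si.hom)) hsi
    rw [h1, ← Scheme.IdealSheafData.comap_comp, hw, Scheme.IdealSheafData.comap_comp, ← hπ, ← hs]
  let r : X' ⟶ Yi :=
    ⟨e.hom ≫ mprodι π.hom si.hom X.mod Yi.mod ≫ pullback.snd π.hom si.hom, hr⟩
  refine ⟨r, rfl, ?_⟩
  have hsq : r ≫ si = s ≫ π := Pair.Hom.ext hw
  -- existence of lifts
  have hex : ∀ c : PullbackCone si π, ∃ l : c.pt ⟶ X', l ≫ r = c.fst ∧ l ≫ s = c.snd := by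
    intro c
    have hc : c.snd.hom ≫ π.hom = c.fst.hom ≫ si.hom :=
      (congrArg Pair.Hom.hom c.condition).symm
    let c₀ : c.pt.total ⟶ pullback π.hom si.hom := pullback.lift c.snd.hom c.fst.hom hc
    have hc₀ : ∀ w : c.pt.total, w ∉ c.pt.mod.support → c₀ w ∈ prodInterior π.hom si.hom X.mod Yi.mod := by
      intro w hw
      constructor
      · change (pullback.fst π.hom si.hom) (c₀ w) ∉ X.mod.support
        rw [← Scheme.Hom.comp_apply, pullback.lift_fst]
        exact not_mem_support_of_le c.snd.hom c.snd.cond w hw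
      · change (pullback.snd π.hom si.hom) (c₀ w) ∉ Yi.mod.support
        rw [← Scheme.Hom.comp_apply, pullback.lift_snd]
        exact not_mem_support_of_le c.fst.hom c.fst.cond w hw
    obtain ⟨c₁, hc₁⟩ := exists_lift_image (prodInterior π.hom si.hom X.mod Yi.mod)
      c.pt.isEffCartier c₀ hc₀
    have h1 : (c₁ ≫ e.inv) ≫ s.hom = c.snd.hom := by
      rw [← he, Category.assoc, e.inv_hom_id_assoc]
      change c₁ ≫ (prodInterior π.hom si.hom X.mod Yi.mod).ι.imageι ≫ _ = _
      rw [reassoc_of% hc₁, pullback.lift_fst]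
    have h2 : (c₁ ≫ e.inv) ≫ r.hom = c.fst.hom := by
      change (c₁ ≫ e.inv) ≫ e.hom ≫ mprodι π.hom si.hom X.mod Yi.mod ≫ _ = _
      rw [Category.assoc, e.inv_hom_id_assoc]
      change c₁ ≫ (prodInterior π.hom si.hom X.mod Yi.mod).ι.imageι ≫ _ = _
      rw [reassoc_of% hc₁, pullback.lift_snd]
    have hamb : c.pt.mod ≤ X'.mod.comap (c₁ ≫ e.inv) := by
      rw [hs, ← Scheme.IdealSheafData.comap_comp, h1]
      exact c.snd.cond
    exact ⟨⟨c₁ ≫ e.inv, hamb⟩, Pair.Hom.ext h2, Pair.Hom.ext h1⟩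
  refine IsPullback.of_isLimit' ⟨hsq⟩ (PullbackCone.IsLimit.mk _
    (fun c => (hex c).choose) (fun c => (hex c).choose_spec.1) (fun c => (hex c).choose_spec.2) ?_)
  intro c m hm1 hm2
  apply Pair.Hom.ext
  have k1 : m.hom ≫ r.hom = (hex c).choose.hom ≫ r.hom := by
    rw [← comp_hom, ← comp_hom, hm1, (hex c).choose_spec.1]
  have k2 : m.hom ≫ s.hom = (hex c).choose.hom ≫ s.hom := by
    rw [← comp_hom, ← comp_hom, hm2, (hex c).choose_spec.2]
  rw [← cancel_mono e.hom, ← cancel_mono (mprodι π.hom si.hom X.mod Yi.mod)]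
  apply pullback.hom_ext
  · simp only [Category.assoc]
    rw [he]
    exact k2
  · simp only [Category.assoc]
    exact k1

end Groth.Agent.Lib.Helper11.PairCat
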