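import Mathlib
import Groth.Prelude.Def_BlowUp2
import Groth.Prelude.Def_W4c6modpairsegaMP
import Groth.Agent.Lib.Helper11PairCat
import Groth.Agent.S18744
import Groth.Agent.S2151

/-!
# Cofiltered limits of modulus pairs with affine minimal transition maps (helper11)

Namespace `Groth.Agent.Lib.Helper11.PairLim`.

* `limCone`, `isLimitLimCone`: the limit of the total spaces with the pulled-back modulus is a limit in
  the category of modulus pairs.
* `main`: consequently every limit cone in the category of modulus pairs maps to a limit cone of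
  schemes, and its projections are minimal.
-/

set_option autoImplicit false
set_option linter.style.haveILetI false
universe u
open CategoryTheory CategoryTheory.Limits AlgebraicGeometry TopologicalSpace

namespace Groth.Agent.Lib.Helper11.PairLim

open ModPair Groth.Agent.Lib.Helper11.PairCat

variable {K : Type u} [SmallCategory K] [IsCofiltered K] (E : K ⥤ Pair.{u})
  (hmin : ∀ (i j : K) (t : i ⟶ j), (E.obj i).mod = (E.obj j).mod.comap (E.map t).hom)
  (c : Cone (E ⋙ Pair.forget))

/-- the projection with explicit codomain -/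
def proj (i : K) : c.pt ⟶ (E.obj i).total := c.π.app i

omit [IsCofiltered K] in
theorem proj_w {i j : K} (t : i ⟶ j) : proj E c i ≫ (E.map t).hom = proj E c j := c.w t

omit [IsCofiltered K] in
include hmin in
theorem comap_π_eq_of_hom {i j : K} (t : i ⟶ j) :
    (E.obj j).mod.comap (proj E c j) = (E.obj i).mod.comap (proj E c i) := by
  rw [← proj_w E c t, Scheme.IdealSheafData.comap_comp, ← hmin i j t]

include hmin in
theorem comap_π_eq (i j : K) :
    (E.obj i).mod.comap (proj E c i) = (E.obj j).mod.comap (proj E c j) := by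
  rw [comap_π_eq_of_hom E hmin c (IsCofiltered.minToLeft i j),
    comap_π_eq_of_hom E hmin c (IsCofiltered.minToRight i j)]

/-- the modulus on the limit -/
noncomputable def limMod : c.pt.IdealSheafData :=
  haveI : Nonempty K := IsCofiltered.nonempty
  (E.obj (Classical.arbitrary K)).mod.comap (proj E c (Classical.arbitrary K))

include hmin in
theorem limMod_eq (i : K) : limMod E c = (E.obj i).mod.comap (proj E c i) :=
  comap_π_eq E hmin c _ i

variable [∀ (i j : K) (t : i ⟶ j), IsAffineHom (E.map t).hom] (hc : IsLimit c)

include hmin hc in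
theorem limMod_effCartier : BlowUp.IsEffCartierIdeal (limMod E c) := by
  haveI : Nonempty K := IsCofiltered.nonempty
  haveI : ∀ (i j : K) (t : i ⟶ j), IsAffineHom ((E ⋙ Pair.forget).map t) := fun i j t =>
    inferInstanceAs (IsAffineHom (E.map t).hom)
  exact Groth.Agent.S18744.result (E ⋙ Pair.forget) c hc (fun i => (E.obj i).mod)
    (fun i => (E.obj i).isEffCartier) hmin (Classical.arbitrary K)

/-- the limit as a modulus pair -/
noncomputable def limPair : Pair.{u} := ⟨c.pt, limMod E c, limMod_effCartier E hmin c hc⟩

/-- the limit cone in the category of modulus pairs -/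
noncomputable def limCone : Cone E where
  pt := limPair E hmin c hc
  π :=
    { app := fun i => ⟨proj E c i, le_of_eq (limMod_eq E hmin c i)⟩
      naturality := fun i j t => by
        apply Pair.Hom.ext
        change 𝟙 _ ≫ proj E c j = proj E c i ≫ (E.map t).hom
        rw [Category.id_comp, proj_w] }

/-- the lift to the limit of schemes, with explicit domain -/
noncomputable def schLift (s : Cone E) : s.pt.total ⟶ c.pt := hc.lift (Pair.forget.mapCone s)

omit [IsCofiltered K] [∀ (i j : K) (t : i ⟶ j), IsAffineHom (E.map t).hom] in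
theorem schLift_proj (s : Cone E) (i : K) : schLift E c hc s ≫ proj E c i = (s.π.app i).hom :=
  hc.fac (Pair.forget.mapCone s) i

noncomputable def isLimitLimCone : IsLimit (limCone E hmin c hc) where
  lift s := ⟨schLift E c hc s, by
    haveI : Nonempty K := IsCofiltered.nonempty
    change s.pt.mod ≤ (limMod E c).comap _
    rw [limMod_eq E hmin c (Classical.arbitrary K), ← Scheme.IdealSheafData.comap_comp,
      schLift_proj]
    exact (s.π.app (Classical.arbitrary K)).cond⟩
  fac s i := Pair.Hom.ext (schLift_proj E c hc s i)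
  uniq s m hm := Pair.Hom.ext (hc.uniq (Pair.forget.mapCone s) m.hom
    (fun i => congrArg Pair.Hom.hom (hm i)))

theorem exists_schLimit :
    ∃ (c : Cone (E ⋙ Pair.forget)), Nonempty (IsLimit c) := by
  haveI : ∀ (i j : K) (t : i ⟶ j), IsAffineHom ((E ⋙ Pair.forget).map t) := fun i j t =>
    inferInstanceAs (IsAffineHom (E.map t).hom)
  obtain ⟨c, hc, -⟩ := Groth.Agent.S2151.result (E ⋙ Pair.forget)
  exact ⟨c, ⟨hc⟩⟩

include hmin in
/-- a limit cone of modulus pairs (cofiltered, affine minimal transitions) is a limit cone of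
schemes with minimal projections. -/
theorem main (cE : Cone E) (hcE : IsLimit cE) :
    Nonempty (IsLimit (Pair.forget.mapCone cE)) ∧
      ∀ i, cE.pt.mod = (E.obj i).mod.comap (cE.π.app i).hom := by
  obtain ⟨c, ⟨hc⟩⟩ := exists_schLimit E
  let e : cE ≅ limCone E hmin c hc := hcE.uniqueUpToIso (isLimitLimCone E hmin c hc)
  obtain ⟨ε, hε⟩ : ∃ ε : cE.pt ⟶ limPair E hmin c hc, ε = e.hom.hom := ⟨_, rfl⟩
  have hw : ∀ i, ε.hom ≫ proj E c i = (cE.π.app i).hom := fun i => by
    rw [hε]
    exact congrArg Pair.Hom.hom (e.hom.w i)
  constructor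
  · let e' : Pair.forget.mapCone cE ≅ c :=
      (Cone.functoriality E Pair.forget).mapIso e ≪≫
        Cone.ext (Iso.refl _) (fun i => (Category.id_comp _).symm)
    exact ⟨IsLimit.ofIsoLimit hc e'.symm⟩
  · intro i
    haveI : IsIso ε := by
      rw [hε]
      exact (Cone.forget E).map_isIso e.hom
    obtain ⟨εh, hεh⟩ : ∃ εh : cE.pt.total ⟶ c.pt, εh = ε.hom := ⟨_, rfl⟩
    have h1 : cE.pt.mod = (limMod E c).comap εh := by
      rw [hεh]
      exact mod_eq_of_isIso ε
    have h2 : εh ≫ proj E c i = (cE.π.app i).hom := by
      rw [hεh]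
      exact hw i
    rw [h1, limMod_eq E hmin c i, ← Scheme.IdealSheafData.comap_comp, h2]

end Groth.Agent.Lib.Helper11.PairLim
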