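import Mathlib
import Groth.Prelude.Def_BlowUp2
import Groth.Prelude.Def_W4c6modpairsegaMP
import Groth.Agent.Lib.Helper11PairCat
import Groth.Agent.Lib.Helper11PairLim
import Groth.Agent.Lib.Helper11PBLim

/-!
# The system of pullbacks of an admissible blow-up of a stage along a cofiltered system of modulus
pairs (helper11)

Namespace `Groth.Agent.Lib.Helper11.PairSys`.
-/

set_option autoImplicit false
set_option linter.style.haveILetI false
universe u
open CategoryTheory CategoryTheory.Limits AlgebraicGeometry TopologicalSpace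

namespace Groth.Agent.Lib.Helper11.PairSys

open ModPair Groth.Agent.Lib.Helper11.PairCat Groth.Agent.Lib.Helper11

variable {I : Type u} [SmallCategory I] (D₀ : I ⥤ Pair.{u})
  (hmin : ∀ (i j : I) (t : i ⟶ j), (D₀.obj i).mod = (D₀.obj j).mod.comap (D₀.map t).hom)
  (i : I) {A : Pair.{u}} (a : A ⟶ D₀.obj i)

/-- the stages of the system: pullbacks of `a` along the transition maps to `i` -/
noncomputable def stg (j : Over i) : Pair.{u} := pb a (D₀.map j.hom) (hmin _ _ j.hom)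

noncomputable def stgFst (j : Over i) : stg D₀ hmin i a j ⟶ A := pbFst a (D₀.map j.hom) (hmin _ _ j.hom)

noncomputable def stgSnd (j : Over i) : stg D₀ hmin i a j ⟶ D₀.obj j.left :=
  pbSnd a (D₀.map j.hom) (hmin _ _ j.hom)

theorem stg_mod (j : Over i) : (stg D₀ hmin i a j).mod = A.mod.comap (stgFst D₀ hmin i a j).hom := rfl

theorem isPullback_stg (j : Over i) :
    IsPullback (stgFst D₀ hmin i a j) (stgSnd D₀ hmin i a j) a (D₀.map j.hom) :=
  isPullback_pb a (D₀.map j.hom) (hmin _ _ j.hom)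

theorem isPullback_stg' (j : Over i) :
    IsPullback (stgFst D₀ hmin i a j) (stgSnd D₀ hmin i a j) a
      ((Over.post (X := i) D₀).obj j).hom :=
  isPullback_stg D₀ hmin i a j

theorem admBlowup_stgSnd (ha : Pair.admBlowup a) (j : Over i) :
    Pair.admBlowup (stgSnd D₀ hmin i a j) :=
  admBlowup_pbSnd a (D₀.map j.hom) (hmin _ _ j.hom) ha

/-- transition maps -/
noncomputable def tr {j k : Over i} (f : j ⟶ k) : stg D₀ hmin i a j ⟶ stg D₀ hmin i a k :=
  PBLim.sysMap a (Over.post (X := i) D₀) (stg D₀ hmin i a) (stgFst D₀ hmin i a)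
    (stgSnd D₀ hmin i a) (isPullback_stg' D₀ hmin i a) f

theorem tr_fst {j k : Over i} (f : j ⟶ k) :
    tr D₀ hmin i a f ≫ stgFst D₀ hmin i a k = stgFst D₀ hmin i a j :=
  PBLim.sysMap_fst _ _ _ _ _ _ f

theorem tr_snd {j k : Over i} (f : j ⟶ k) :
    tr D₀ hmin i a f ≫ stgSnd D₀ hmin i a k = stgSnd D₀ hmin i a j ≫ D₀.map f.left :=
  PBLim.sysMap_snd _ _ _ _ _ _ f

/-- the system of pullbacks, over `A` -/
noncomputable def sysO : Over i ⥤ Over A :=
  PBLim.sys a (Over.post (X := i) D₀) (stg D₀ hmin i a) (stgFst D₀ hmin i a)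
    (stgSnd D₀ hmin i a) (isPullback_stg' D₀ hmin i a)

/-- the system of pullbacks -/
noncomputable def DM : Over i ⥤ Pair.{u} := sysO D₀ hmin i a ⋙ Over.forget A

theorem DM_obj (j : Over i) : (DM D₀ hmin i a).obj j = stg D₀ hmin i a j := rfl

theorem DM_map {j k : Over i} (f : j ⟶ k) : (DM D₀ hmin i a).map f = tr D₀ hmin i a f := rfl

theorem DM_min (j k : Over i) (f : j ⟶ k) :
    ((DM D₀ hmin i a).obj j).mod =
      ((DM D₀ hmin i a).obj k).mod.comap ((DM D₀ hmin i a).map f).hom := by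
  change (stg D₀ hmin i a j).mod = (stg D₀ hmin i a k).mod.comap (tr D₀ hmin i a f).hom
  rw [stg_mod, stg_mod, ← Scheme.IdealSheafData.comap_comp, ← comp_hom, tr_fst]

section Cone
variable (c₀ : Cone D₀) (hc₀ : IsLimit c₀) {M₀ : Pair.{u}} (p₀ : M₀ ⟶ A) (q₀ : M₀ ⟶ c₀.pt)
  (h₀ : IsPullback p₀ q₀ a (c₀.π.app i))

/-- the projections -/
noncomputable def prj (j : Over i) : M₀ ⟶ stg D₀ hmin i a j :=
  PBLim.coneMap a (Over.post (X := i) D₀) (stg D₀ hmin i a) (stgFst D₀ hmin i a)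
    (stgSnd D₀ hmin i a) (isPullback_stg' D₀ hmin i a) (c₀.overPost i) p₀ q₀ h₀ j

theorem prj_fst (j : Over i) : prj D₀ hmin i a c₀ p₀ q₀ h₀ j ≫ stgFst D₀ hmin i a j = p₀ :=
  PBLim.coneMap_fst _ _ _ _ _ _ _ _ _ _ j

theorem prj_snd (j : Over i) :
    prj D₀ hmin i a c₀ p₀ q₀ h₀ j ≫ stgSnd D₀ hmin i a j = q₀ ≫ c₀.π.app j.left :=
  PBLim.coneMap_snd _ _ _ _ _ _ _ _ _ _ j

/-- the cone over the system of pullbacks -/
noncomputable def cM : Cone (DM D₀ hmin i a) :=
  (Over.forget A).mapCone (PBLim.sysCone a (Over.post (X := i) D₀) (stg D₀ hmin i a)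
    (stgFst D₀ hmin i a) (stgSnd D₀ hmin i a) (isPullback_stg' D₀ hmin i a) (c₀.overPost i)
    p₀ q₀ h₀)

theorem cM_pt : (cM D₀ hmin i a c₀ p₀ q₀ h₀).pt = M₀ := rfl

theorem cM_π (j : Over i) :
    (cM D₀ hmin i a c₀ p₀ q₀ h₀).π.app j = prj D₀ hmin i a c₀ p₀ q₀ h₀ j := rfl

/-- the pullback of the limit is the limit of the pullbacks -/
noncomputable def isLimitCM [IsCofiltered I] : IsLimit (cM D₀ hmin i a c₀ p₀ q₀ h₀) := by
  haveI : IsConnected (Over i) := IsCofiltered.isConnected (Over i)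
  exact isLimitOfPreserves (Over.forget A) (PBLim.isLimitSysCone a (Over.post (X := i) D₀)
    (stg D₀ hmin i a) (stgFst D₀ hmin i a) (stgSnd D₀ hmin i a) (isPullback_stg' D₀ hmin i a)
    (c₀.overPost i) p₀ q₀ h₀ (hc₀.overPost i))

end Cone

end Groth.Agent.Lib.Helper11.PairSys
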