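import Mathlib
import Groth.Prelude.Def_BlowUp2
import Groth.Prelude.Def_W4c6modpairsegaMP
import Groth.Agent.Lib.Helper11PairSys

/-!
# Geometric properties of the system of pullbacks of an admissible blow-up (helper11)

Namespace `Groth.Agent.Lib.Helper11.PairSysGeom`: the transition maps are affine, and
scheme-theoretically dominant if the original ones are; the stages are quasi-compact and
quasi-separated.
-/

set_option autoImplicit false
set_option linter.style.haveILetI false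
universe u
open CategoryTheory CategoryTheory.Limits AlgebraicGeometry TopologicalSpace

namespace Groth.Agent.Lib.Helper11.PairSysGeom

open ModPair Groth.Agent.Lib.Helper11.PairCat Groth.Agent.Lib.Helper11
  Groth.Agent.Lib.Helper2.AdmFrac Groth.Agent.Lib.Helper2.StrictTr

/-- a morphism between closed subschemes of fibre products covering an affine morphism is affine -/
theorem isAffineHom_of_closed_in_pullback {A Xi Xj Xk : Scheme.{u}} (a : A ⟶ Xi) (tj : Xj ⟶ Xi)
    (tk : Xk ⟶ Xi) (g : Xj ⟶ Xk) [IsAffineHom g] (hg : g ≫ tk = tj) {Mj Mk : Scheme.{u}}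
    (ιj : Mj ⟶ pullback a tj) [IsClosedImmersion ιj] (ιk : Mk ⟶ pullback a tk)
    [IsClosedImmersion ιk] (u : Mj ⟶ Mk)
    (h1 : u ≫ ιk ≫ pullback.fst a tk = ιj ≫ pullback.fst a tj)
    (h2 : u ≫ ιk ≫ pullback.snd a tk = (ιj ≫ pullback.snd a tj) ≫ g) : IsAffineHom u := by
  subst hg
  have hw : pullback.fst a (g ≫ tk) ≫ a = (pullback.snd a (g ≫ tk) ≫ g) ≫ tk := by
    rw [Category.assoc, pullback.condition]
  let ρ : pullback a (g ≫ tk) ⟶ pullback a tk :=
    pullback.lift (pullback.fst a (g ≫ tk)) (pullback.snd a (g ≫ tk) ≫ g) hw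
  have hρ1 : ρ ≫ pullback.fst a tk = pullback.fst a (g ≫ tk) := pullback.lift_fst _ _ _
  have hρ2 : ρ ≫ pullback.snd a tk = pullback.snd a (g ≫ tk) ≫ g := pullback.lift_snd _ _ _
  have hbig : IsPullback (ρ ≫ pullback.fst a tk) (pullback.snd a (g ≫ tk)) a (g ≫ tk) := by
    rw [hρ1]
    exact IsPullback.of_hasPullback a (g ≫ tk)
  have hsq : IsPullback ρ (pullback.snd a (g ≫ tk)) (pullback.snd a tk) g :=
    IsPullback.of_right hbig hρ2 (IsPullback.of_hasPullback a tk)
  haveI : IsAffineHom ρ := MorphismProperty.of_isPullback (P := @IsAffineHom) hsq.flip inferInstance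
  have hu : u ≫ ιk = ιj ≫ ρ := by
    apply pullback.hom_ext
    · rw [Category.assoc, h1, Category.assoc, hρ1]
    · simp only [Category.assoc]
      rw [h2, hρ2]
      simp only [Category.assoc]
  haveI : IsAffineHom (u ≫ ιk) := by
    rw [hu]
    infer_instance
  exact IsAffineHom.of_comp u ιk

/-- a morphism between admissible blow-ups covering a scheme-theoretically dominant quasi-compact
minimal morphism is scheme-theoretically dominant. -/
theorem isSchemeTheoreticallyDominant_of_isAdmBlowup {Mj Mk Xj Xk : Scheme.{u}} (u : Mj ⟶ Mk)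
    (sj : Mj ⟶ Xj) (sk : Mk ⟶ Xk) (g : Xj ⟶ Xk) (hsq : u ≫ sk = sj ≫ g)
    [IsSchemeTheoreticallyDominant g] [QuasiCompact g]
    (IMj : Mj.IdealSheafData) (IMk : Mk.IdealSheafData) (IXj : Xj.IdealSheafData)
    (IXk : Xk.IdealSheafData) (hMk : BlowUp.IsEffCartierIdeal IMk)
    (hsj : IsAdmBlowup IMj IXj sj) (hsk : IsAdmBlowup IMk IXk sk) (hg : IXj = IXk.comap g) :
    IsSchemeTheoreticallyDominant u := by
  have hgU : IsSchemeTheoreticallyDominant (g ∣_ interior IXk) :=
    IsSchemeTheoreticallyDominant.of_isPullback (isPullback_morphismRestrict g (interior IXk)).flip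
  haveI hskiso : IsIso (sk ∣_ interior IXk) := hsk.2.2
  haveI hsjiso : IsIso (sj ∣_ g ⁻¹ᵁ interior IXk) := by
    haveI : IsIso (sj ∣_ interior IXj) := hsj.2.2
    exact isIso_morphismRestrict_of_eq sj (preimage_interior_eq g hg).symm
  have key : ∀ φ : Mj ⟶ Xk, φ = sj ≫ g → IsSchemeTheoreticallyDominant (φ ∣_ interior IXk) := by
    intro φ hφ
    subst hφ
    rw [morphismRestrict_comp]
    have h0 : IsSchemeTheoreticallyDominant (sj ∣_ g ⁻¹ᵁ interior IXk) := inferInstance
    exact MorphismProperty.comp_mem @IsSchemeTheoreticallyDominant _ _ h0 hgU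
  have h1 : IsSchemeTheoreticallyDominant ((u ≫ sk) ∣_ interior IXk) := key _ hsq
  rw [morphismRestrict_comp] at h1
  have h2 : IsSchemeTheoreticallyDominant (u ∣_ sk ⁻¹ᵁ interior IXk) := by
    have e : u ∣_ sk ⁻¹ᵁ interior IXk =
        (u ∣_ sk ⁻¹ᵁ interior IXk ≫ sk ∣_ interior IXk) ≫ inv (sk ∣_ interior IXk) := by
      rw [Category.assoc, IsIso.hom_inv_id, Category.comp_id]
    rw [e]
    have h0 : IsSchemeTheoreticallyDominant (inv (sk ∣_ interior IXk)) := inferInstance
    exact MorphismProperty.comp_mem @IsSchemeTheoreticallyDominant _ _ h1 h0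
  have hV : (sk ⁻¹ᵁ interior IXk).ι.ker = ⊥ :=
    ker_ι_compl hMk _ (by rw [preimage_interior_eq sk hsk.1]; rfl)
  refine ⟨?_⟩
  rw [eq_bot_iff]
  calc u.ker ≤ ((u ⁻¹ᵁ (sk ⁻¹ᵁ interior IXk)).ι ≫ u).ker := Scheme.Hom.le_ker_comp _ _
    _ = ((u ∣_ sk ⁻¹ᵁ interior IXk) ≫ (sk ⁻¹ᵁ interior IXk).ι).ker := by rw [morphismRestrict_ι]
    _ = ⊥ := by
      rw [Scheme.Hom.ker_comp, h2.ker_eq_bot, Scheme.IdealSheafData.map_bot, hV]

section Sys
open PairSys
variable {I : Type u} [SmallCategory I] (D₀ : I ⥤ Pair.{u})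
  (hmin : ∀ (i j : I) (t : i ⟶ j), (D₀.obj i).mod = (D₀.obj j).mod.comap (D₀.map t).hom)
  (i : I) {A : Pair.{u}} (a : A ⟶ D₀.obj i)

theorem isAffineHom_DM_map [∀ (i j : I) (t : i ⟶ j), IsAffineHom (D₀.map t).hom]
    (j k : Over i) (f : j ⟶ k) : IsAffineHom ((DM D₀ hmin i a).map f).hom := by
  have hg : (D₀.map f.left).hom ≫ (D₀.map k.hom).hom = (D₀.map j.hom).hom := by
    rw [← comp_hom, ← D₀.map_comp, Over.w f]
  refine isAffineHom_of_closed_in_pullback a.hom (D₀.map j.hom).hom (D₀.map k.hom).hom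
    (D₀.map f.left).hom hg
    (mprodι a.hom (D₀.map j.hom).hom A.mod (D₀.obj j.left).mod)
    (mprodι a.hom (D₀.map k.hom).hom A.mod (D₀.obj k.left).mod) _ ?_ ?_
  · exact congrArg Pair.Hom.hom (tr_fst D₀ hmin i a f)
  · exact congrArg Pair.Hom.hom (tr_snd D₀ hmin i a f)

theorem isProper_stgSnd (ha : Pair.admBlowup a) (j : Over i) :
    IsProper (stgSnd D₀ hmin i a j).hom :=
  (admBlowup_stgSnd D₀ hmin i a ha j).2.1

theorem compactSpace_stg (ha : Pair.admBlowup a) [∀ i, CompactSpace (D₀.obj i).total]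
    (j : Over i) : CompactSpace ((DM D₀ hmin i a).obj j).total := by
  haveI hp : IsProper (stgSnd D₀ hmin i a j).hom := isProper_stgSnd D₀ hmin i a ha j
  change CompactSpace (stg D₀ hmin i a j).total
  exact QuasiCompact.compactSpace_of_compactSpace (stgSnd D₀ hmin i a j).hom

theorem quasiSeparatedSpace_stg (ha : Pair.admBlowup a)
    [∀ i, QuasiSeparatedSpace (D₀.obj i).total] (j : Over i) :
    QuasiSeparatedSpace ((DM D₀ hmin i a).obj j).total := by
  haveI hp : IsProper (stgSnd D₀ hmin i a j).hom := isProper_stgSnd D₀ hmin i a ha j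
  change QuasiSeparatedSpace (stg D₀ hmin i a j).total
  exact quasiSeparatedSpace_of_quasiSeparated (stgSnd D₀ hmin i a j).hom

theorem isSchemeTheoreticallyDominant_DM_map (ha : Pair.admBlowup a)
    [∀ (i j : I) (t : i ⟶ j), IsAffineHom (D₀.map t).hom]
    (hdom : ∀ (i j : I) (t : i ⟶ j), IsSchemeTheoreticallyDominant (D₀.map t).hom)
    (j k : Over i) (f : j ⟶ k) : IsSchemeTheoreticallyDominant ((DM D₀ hmin i a).map f).hom := by
  haveI := hdom _ _ f.left
  exact isSchemeTheoreticallyDominant_of_isAdmBlowup (tr D₀ hmin i a f).hom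
    (stgSnd D₀ hmin i a j).hom (stgSnd D₀ hmin i a k).hom (D₀.map f.left).hom
    (congrArg Pair.Hom.hom (tr_snd D₀ hmin i a f)) (stg D₀ hmin i a j).mod (stg D₀ hmin i a k).mod
    (D₀.obj j.left).mod (D₀.obj k.left).mod (stg D₀ hmin i a k).isEffCartier
    (admBlowup_stgSnd D₀ hmin i a ha j) (admBlowup_stgSnd D₀ hmin i a ha k) (hmin _ _ f.left)

end Sys

end Groth.Agent.Lib.Helper11.PairSysGeom
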