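import Mathlib
import Groth.Prelude.Def_BlowUp2
import Groth.Prelude.Def_W4c6modpairsegaMP
import Groth.Agent.Lib.Helper11PairSysGeom
import Groth.Agent.Lib.Helper11ModLim
import Groth.Agent.Lib.Helper11ModLimB
import Groth.Agent.Lib.Helper2Quot
import Groth.Agent.S18738
import Groth.Agent.S18746

/-!
# Morphisms in the localized category of modulus pairs out of a cofiltered limit (helper11)

Namespace `Groth.Agent.Lib.Helper11.PairColim`.
-/

set_option autoImplicit false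
set_option linter.style.haveILetI false
universe u
open CategoryTheory CategoryTheory.Limits AlgebraicGeometry TopologicalSpace

namespace Groth.Agent.Lib.Helper11.PairColim

open ModPair Groth.Agent.Lib.Helper11.PairCat Groth.Agent.Lib.Helper11
  Groth.Agent.Lib.Helper11.PairSys Groth.Agent.Lib.Helper11.PairSysGeom

section Descend
variable {S : Scheme.{u}} [QuasiSeparatedSpace S] {K : Type u} [SmallCategory K] [IsCofiltered K]
  (E : K ⥤ Scheme.{u}) (t : E ⟶ (Functor.const K).obj S) (c : Cone E) (hc : IsLimit c)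
  [∀ {i j : K} (f : i ⟶ j), IsAffineHom (E.map f)]
  [∀ i, CompactSpace (E.obj i)] [∀ i, QuasiSeparatedSpace (E.obj i)]

include hc in
/-- scheme-level version of `S18745`: descending a morphism satisfying the modulus condition. -/
theorem descend_ambient (J : ∀ i, (E.obj i).IdealSheafData)
    (hJ : ∀ i, BlowUp.IsEffCartierIdeal (J i))
    (hmin : ∀ (i j : K) (f : i ⟶ j), J i = (J j).comap (E.map f))
    (IX : c.pt.IdealSheafData) (hIX : ∀ i, IX = (J i).comap (c.π.app i))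
    {Y : Scheme.{u}} (f : Y ⟶ S) [LocallyOfFiniteType f] [CompactSpace Y] [QuasiSeparatedSpace Y]
    (IY : Y.IdealSheafData)
    (h : (∀ (i j : K) (f : i ⟶ j), IsSchemeTheoreticallyDominant (E.map f)) ∨
      LocallyOfFinitePresentation f)
    (φ : c.pt ⟶ Y) (hφ : c.π ≫ t = (Functor.const _).map (φ ≫ f)) (hamb : IX ≤ IY.comap φ) :
    ∃ (k : K) (φk : E.obj k ⟶ Y), J k ≤ IY.comap φk ∧ c.π.app k ≫ φk = φ ∧ φk ≫ f = t.app k := by
  obtain ⟨i₀, g, hg1, hg2⟩ : ∃ (i₀ : K) (g : E.obj i₀ ⟶ Y),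
      c.π.app i₀ ≫ g = φ ∧ g ≫ f = t.app i₀ := by
    rcases h with hdom | hfp
    · haveI h2 : ∀ {i j : K} (f : i ⟶ j), IsSchemeTheoreticallyDominant (E.map f) :=
        fun {i j} f => hdom i j f
      exact ModLim.exists_π_app_comp_eq_of_dominant E t c hc f φ hφ
    · haveI := hfp
      exact Scheme.exists_π_app_comp_eq_of_locallyOfFinitePresentation E t f c hc φ hφ
  have hA : BlowUp.IsFiniteTypeIdeal (J i₀) :=
    Groth.Agent.Lib.Helper2.Quot.fg_of_isEffCartierIdeal (hJ i₀)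
  have H : (J i₀).comap (c.π.app i₀) ≤ (IY.comap g).comap (c.π.app i₀) := by
    rw [← hIX i₀, ← Scheme.IdealSheafData.comap_comp, hg1]
    exact hamb
  obtain ⟨k, s, hs⟩ := ModLimB.exists_comap_le E c hc i₀ (J i₀) (IY.comap g) hA H
  refine ⟨k, E.map s ≫ g, ?_, ?_, ?_⟩
  · rw [Scheme.IdealSheafData.comap_comp, hmin k i₀ s]
    exact hs
  · rw [← Category.assoc, c.w s, hg1]
  · rw [Category.assoc, hg2]
    exact (t.naturality s).trans (Category.comp_id _)

end Descend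

/-- the localization functor at the admissible blow-ups is faithful -/
theorem Q_map_injective {P R : Pair.{u}} (f g : P ⟶ R)
    (h : (Pair.admBlowup.{u}).Q.map f = (Pair.admBlowup.{u}).Q.map g) : f = g := by
  haveI : (Pair.admBlowup.{u}).HasRightCalculusOfFractions := Groth.Agent.S18738.result
  obtain ⟨Z, s, hs, e⟩ := (MorphismProperty.map_eq_iff_precomp (Pair.admBlowup.{u}).Q
    Pair.admBlowup.{u} f g).1 h
  exact eq_of_admBlowup_comp_eq s hs f g e

section Core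
variable (S : Pair.{u}) {I : Type u} [SmallCategory I] [IsCofiltered I] (D : I ⥤ Over S)

/-- the underlying diagram of modulus pairs -/
abbrev D₀ : I ⥤ Pair.{u} := D ⋙ Over.forget S

variable [∀ (i j : I) (t : i ⟶ j), IsAffineHom (D.map t).left.hom]
  (hmin : ∀ (i j : I) (t : i ⟶ j),
    ((D₀ S D).obj i).mod = ((D₀ S D).obj j).mod.comap ((D₀ S D).map t).hom)
  (c : Cone D) (hc : IsLimit c)

/-- the underlying cone of modulus pairs -/
abbrev c₀ : Cone (D₀ S D) := (Over.forget S).mapCone c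

/-- the underlying cone of modulus pairs is a limit cone -/
noncomputable def hc₀ : IsLimit (c₀ S D c) := by
  haveI : IsConnected I := IsCofiltered.isConnected I
  exact isLimitOfPreserves (Over.forget S) hc

include hmin hc in
theorem schLimit_and_mod :
    Nonempty (IsLimit (Pair.forget.mapCone (c₀ S D c))) ∧
      ∀ i, c.pt.left.mod = (D.obj i).left.mod.comap (c.π.app i).left.hom := by
  haveI : ∀ (i j : I) (t : i ⟶ j), IsAffineHom ((D₀ S D).map t).hom := fun i j t =>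
    inferInstanceAs (IsAffineHom (D.map t).left.hom)
  exact PairLim.main (D₀ S D) hmin (c₀ S D c) (hc₀ S D c hc)

variable (i : I) {A : Pair.{u}} (a : A ⟶ (D.obj i).left)
  {M₀ : Pair.{u}} (p₀ : M₀ ⟶ A) (q₀ : M₀ ⟶ c.pt.left)
  (h₀ : IsPullback p₀ q₀ a (c.π.app i).left)

/-- the structure morphisms of the system of pullbacks to the base -/
noncomputable def tS : DM (D₀ S D) hmin i a ⋙ Pair.forget ⟶ (Functor.const (Over i)).obj S.total where
  app j := (stgSnd (D₀ S D) hmin i a j).hom ≫ (D.obj j.left).hom.hom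
  naturality j k f := by
    change (tr (D₀ S D) hmin i a f).hom ≫ (stgSnd (D₀ S D) hmin i a k).hom ≫
      (D.obj k.left).hom.hom = ((stgSnd (D₀ S D) hmin i a j).hom ≫ (D.obj j.left).hom.hom) ≫ 𝟙 _
    have h1 : (tr (D₀ S D) hmin i a f).hom ≫ (stgSnd (D₀ S D) hmin i a k).hom =
        (stgSnd (D₀ S D) hmin i a j).hom ≫ (D.map f.left).left.hom :=
      congrArg Pair.Hom.hom (tr_snd (D₀ S D) hmin i a f)
    have h2 : (D.map f.left).left.hom ≫ (D.obj k.left).hom.hom = (D.obj j.left).hom.hom :=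
      congrArg Pair.Hom.hom (Over.w (D.map f.left))
    calc _ = ((tr (D₀ S D) hmin i a f).hom ≫ (stgSnd (D₀ S D) hmin i a k).hom) ≫
          (D.obj k.left).hom.hom := (Category.assoc _ _ _).symm
      _ = ((stgSnd (D₀ S D) hmin i a j).hom ≫ (D.map f.left).left.hom) ≫
          (D.obj k.left).hom.hom := congrArg (· ≫ (D.obj k.left).hom.hom) h1
      _ = (stgSnd (D₀ S D) hmin i a j).hom ≫ ((D.map f.left).left.hom ≫
          (D.obj k.left).hom.hom) := Category.assoc _ _ _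
      _ = (stgSnd (D₀ S D) hmin i a j).hom ≫ (D.obj j.left).hom.hom :=
          congrArg ((stgSnd (D₀ S D) hmin i a j).hom ≫ ·) h2
      _ = _ := (Category.comp_id _).symm

include hc h₀ in
/-- the underlying cone of schemes of the system of pullbacks is a limit cone, with minimal
projections. -/
theorem schLimit_sys :
    Nonempty (IsLimit (Pair.forget.mapCone (cM (D₀ S D) hmin i a (c₀ S D c) p₀ q₀ h₀))) ∧
      ∀ j, M₀.mod = (stg (D₀ S D) hmin i a j).mod.comap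
        (prj (D₀ S D) hmin i a (c₀ S D c) p₀ q₀ h₀ j).hom := by
  haveI : ∀ (i j : I) (t : i ⟶ j), IsAffineHom ((D₀ S D).map t).hom := fun i j t =>
    inferInstanceAs (IsAffineHom (D.map t).left.hom)
  haveI : ∀ (j k : Over i) (f : j ⟶ k), IsAffineHom ((DM (D₀ S D) hmin i a).map f).hom :=
    isAffineHom_DM_map (D₀ S D) hmin i a
  exact PairLim.main (DM (D₀ S D) hmin i a) (DM_min (D₀ S D) hmin i a)
    (cM (D₀ S D) hmin i a (c₀ S D c) p₀ q₀ h₀)
    (isLimitCM (D₀ S D) hmin i a (c₀ S D c) (hc₀ S D c hc) p₀ q₀ h₀)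

omit [IsCofiltered I] [∀ (i j : I) (t : i ⟶ j), IsAffineHom (D.map t).left.hom] in
theorem tS_app_eq (j : Over i) : (tS S D hmin i a).app j =
    (stgFst (D₀ S D) hmin i a j).hom ≫ a.hom ≫ (D.obj i).hom.hom := by
  change (stgSnd (D₀ S D) hmin i a j).hom ≫ (D.obj j.left).hom.hom = _
  have h1 : (stgFst (D₀ S D) hmin i a j).hom ≫ a.hom =
      (stgSnd (D₀ S D) hmin i a j).hom ≫ (D.map j.hom).left.hom :=
    congrArg Pair.Hom.hom (isPullback_stg (D₀ S D) hmin i a j).w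
  have h2 : (D.map j.hom).left.hom ≫ (D.obj i).hom.hom = (D.obj j.left).hom.hom :=
    congrArg Pair.Hom.hom (Over.w (D.map j.hom))
  calc _ = (stgSnd (D₀ S D) hmin i a j).hom ≫ ((D.map j.hom).left.hom ≫ (D.obj i).hom.hom) :=
        congrArg ((stgSnd (D₀ S D) hmin i a j).hom ≫ ·) h2.symm
    _ = ((stgSnd (D₀ S D) hmin i a j).hom ≫ (D.map j.hom).left.hom) ≫ (D.obj i).hom.hom :=
        (Category.assoc _ _ _).symm
    _ = ((stgFst (D₀ S D) hmin i a j).hom ≫ a.hom) ≫ (D.obj i).hom.hom :=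
        congrArg (· ≫ (D.obj i).hom.hom) h1.symm
    _ = _ := Category.assoc _ _ _

section Conseq
variable [∀ i, CompactSpace (D.obj i).left.total] [∀ i, QuasiSeparatedSpace (D.obj i).left.total]
  [QuasiSeparatedSpace S.total] (ha : Pair.admBlowup a)
  (Y : Over S) [CompactSpace Y.left.total] [QuasiSeparatedSpace Y.left.total]
  [LocallyOfFiniteType Y.hom.hom]

include hc ha h₀ in
theorem descend_from_pullback
    (h : (∀ (i j : I) (t : i ⟶ j), IsSchemeTheoreticallyDominant (D.map t).left.hom) ∨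
      LocallyOfFinitePresentation Y.hom.hom)
    (f : M₀ ⟶ Y.left) (hf : f ≫ Y.hom = q₀ ≫ c.pt.hom) :
    ∃ (j : Over i) (fj : stg (D₀ S D) hmin i a j ⟶ Y.left),
      fj ≫ Y.hom = stgSnd (D₀ S D) hmin i a j ≫ (D.obj j.left).hom ∧
      prj (D₀ S D) hmin i a (c₀ S D c) p₀ q₀ h₀ j ≫ fj = f := by
  obtain ⟨⟨hE⟩, hmodM⟩ := schLimit_sys S D hmin c hc i a p₀ q₀ h₀
  haveI : ∀ (i j : I) (t : i ⟶ j), IsAffineHom ((D₀ S D).map t).hom := fun i j t =>
    inferInstanceAs (IsAffineHom (D.map t).left.hom)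
  haveI : ∀ i, CompactSpace ((D₀ S D).obj i).total := fun i =>
    inferInstanceAs (CompactSpace (D.obj i).left.total)
  haveI : ∀ i, QuasiSeparatedSpace ((D₀ S D).obj i).total := fun i =>
    inferInstanceAs (QuasiSeparatedSpace (D.obj i).left.total)
  haveI hE1 : ∀ {j k : Over i} (f : j ⟶ k),
      IsAffineHom ((DM (D₀ S D) hmin i a ⋙ Pair.forget).map f) :=
    fun {j k} f => isAffineHom_DM_map (D₀ S D) hmin i a j k f
  haveI hE2 : ∀ j, CompactSpace ((DM (D₀ S D) hmin i a ⋙ Pair.forget).obj j) :=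
    fun j => compactSpace_stg (D₀ S D) hmin i a ha j
  haveI hE3 : ∀ j, QuasiSeparatedSpace ((DM (D₀ S D) hmin i a ⋙ Pair.forget).obj j) :=
    fun j => quasiSeparatedSpace_stg (D₀ S D) hmin i a ha j
  have hφ : (Pair.forget.mapCone (cM (D₀ S D) hmin i a (c₀ S D c) p₀ q₀ h₀)).π ≫ tS S D hmin i a =
      (Functor.const _).map (f.hom ≫ Y.hom.hom) := by
    ext j : 2
    change (prj (D₀ S D) hmin i a (c₀ S D c) p₀ q₀ h₀ j).hom ≫
      (stgSnd (D₀ S D) hmin i a j).hom ≫ (D.obj j.left).hom.hom = f.hom ≫ Y.hom.hom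
    have h1 : (prj (D₀ S D) hmin i a (c₀ S D c) p₀ q₀ h₀ j).hom ≫
        (stgSnd (D₀ S D) hmin i a j).hom = q₀.hom ≫ (c.π.app j.left).left.hom :=
      congrArg Pair.Hom.hom (prj_snd (D₀ S D) hmin i a (c₀ S D c) p₀ q₀ h₀ j)
    have h2 : (c.π.app j.left).left.hom ≫ (D.obj j.left).hom.hom = c.pt.hom.hom :=
      congrArg Pair.Hom.hom (Over.w (c.π.app j.left))
    have h3 : f.hom ≫ Y.hom.hom = q₀.hom ≫ c.pt.hom.hom := congrArg Pair.Hom.hom hf
    calc _ = ((prj (D₀ S D) hmin i a (c₀ S D c) p₀ q₀ h₀ j).hom ≫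
          (stgSnd (D₀ S D) hmin i a j).hom) ≫ (D.obj j.left).hom.hom := (Category.assoc _ _ _).symm
      _ = (q₀.hom ≫ (c.π.app j.left).left.hom) ≫ (D.obj j.left).hom.hom :=
          congrArg (· ≫ (D.obj j.left).hom.hom) h1
      _ = q₀.hom ≫ ((c.π.app j.left).left.hom ≫ (D.obj j.left).hom.hom) := Category.assoc _ _ _
      _ = q₀.hom ≫ c.pt.hom.hom := congrArg (q₀.hom ≫ ·) h2
      _ = _ := h3.symm
  have h' : (∀ (j k : Over i) (f : j ⟶ k),
      IsSchemeTheoreticallyDominant ((DM (D₀ S D) hmin i a ⋙ Pair.forget).map f)) ∨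
      LocallyOfFinitePresentation Y.hom.hom :=
    h.imp (fun hd => isSchemeTheoreticallyDominant_DM_map (D₀ S D) hmin i a ha hd) id
  obtain ⟨j, fj, h1, h2, h3⟩ := descend_ambient (DM (D₀ S D) hmin i a ⋙ Pair.forget)
    (tS S D hmin i a) (Pair.forget.mapCone (cM (D₀ S D) hmin i a (c₀ S D c) p₀ q₀ h₀)) hE
    (fun j => (stg (D₀ S D) hmin i a j).mod) (fun j => (stg (D₀ S D) hmin i a j).isEffCartier)
    (DM_min (D₀ S D) hmin i a) M₀.mod hmodM Y.hom.hom Y.left.mod h' f.hom hφ f.cond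
  exact ⟨j, ⟨fj, h1⟩, Pair.Hom.ext h3, Pair.Hom.ext h2⟩

omit [∀ i, QuasiSeparatedSpace (D.obj i).left.total] [QuasiSeparatedSpace S.total]
  [CompactSpace Y.left.total] [QuasiSeparatedSpace Y.left.total] in
include hc ha h₀ in
theorem eq_from_pullback (f g : A ⟶ Y.left) (hf : f ≫ Y.hom = a ≫ (D.obj i).hom)
    (hg : g ≫ Y.hom = a ≫ (D.obj i).hom) (hfg : p₀ ≫ f = p₀ ≫ g) :
    ∃ j : Over i, stgFst (D₀ S D) hmin i a j ≫ f = stgFst (D₀ S D) hmin i a j ≫ g := by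
  obtain ⟨⟨hE⟩, -⟩ := schLimit_sys S D hmin c hc i a p₀ q₀ h₀
  haveI : ∀ (i j : I) (t : i ⟶ j), IsAffineHom ((D₀ S D).map t).hom := fun i j t =>
    inferInstanceAs (IsAffineHom (D.map t).left.hom)
  haveI : ∀ i, CompactSpace ((D₀ S D).obj i).total := fun i =>
    inferInstanceAs (CompactSpace (D.obj i).left.total)
  haveI hE1 : ∀ {j k : Over i} (f : j ⟶ k),
      IsAffineHom ((DM (D₀ S D) hmin i a ⋙ Pair.forget).map f) :=
    fun {j k} f => isAffineHom_DM_map (D₀ S D) hmin i a j k f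
  haveI hE2 : ∀ j, CompactSpace ((DM (D₀ S D) hmin i a ⋙ Pair.forget).obj j) :=
    fun j => compactSpace_stg (D₀ S D) hmin i a ha j
  have hf' : f.hom ≫ Y.hom.hom = a.hom ≫ (D.obj i).hom.hom := congrArg Pair.Hom.hom hf
  have hg' : g.hom ≫ Y.hom.hom = a.hom ≫ (D.obj i).hom.hom := congrArg Pair.Hom.hom hg
  have hab : (prj (D₀ S D) hmin i a (c₀ S D c) p₀ q₀ h₀ (Over.mk (𝟙 i))).hom ≫
      ((stgFst (D₀ S D) hmin i a (Over.mk (𝟙 i))).hom ≫ f.hom) =
      (prj (D₀ S D) hmin i a (c₀ S D c) p₀ q₀ h₀ (Over.mk (𝟙 i))).hom ≫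
      ((stgFst (D₀ S D) hmin i a (Over.mk (𝟙 i))).hom ≫ g.hom) := by
    have h1 : (prj (D₀ S D) hmin i a (c₀ S D c) p₀ q₀ h₀ (Over.mk (𝟙 i))).hom ≫
        (stgFst (D₀ S D) hmin i a (Over.mk (𝟙 i))).hom = p₀.hom :=
      congrArg Pair.Hom.hom (prj_fst (D₀ S D) hmin i a (c₀ S D c) p₀ q₀ h₀ _)
    rw [← Category.assoc, ← Category.assoc, h1]
    exact congrArg Pair.Hom.hom hfg
  obtain ⟨k, hk, e⟩ := Scheme.exists_hom_comp_eq_comp_of_locallyOfFiniteType
    (DM (D₀ S D) hmin i a ⋙ Pair.forget) (tS S D hmin i a) Y.hom.hom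
    (Pair.forget.mapCone (cM (D₀ S D) hmin i a (c₀ S D c) p₀ q₀ h₀)) hE (i := Over.mk (𝟙 i))
    ((stgFst (D₀ S D) hmin i a (Over.mk (𝟙 i))).hom ≫ f.hom)
    ((stgFst (D₀ S D) hmin i a (Over.mk (𝟙 i))).hom ≫ g.hom)
    (by rw [tS_app_eq, Category.assoc, hf']; rfl) (by rw [tS_app_eq, Category.assoc, hg']; rfl) hab
  refine ⟨k, Pair.Hom.ext ?_⟩
  have h1 : (tr (D₀ S D) hmin i a hk).hom ≫ (stgFst (D₀ S D) hmin i a (Over.mk (𝟙 i))).hom =
      (stgFst (D₀ S D) hmin i a k).hom := congrArg Pair.Hom.hom (tr_fst (D₀ S D) hmin i a hk)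
  have e' : (tr (D₀ S D) hmin i a hk).hom ≫
      ((stgFst (D₀ S D) hmin i a (Over.mk (𝟙 i))).hom ≫ f.hom) =
      (tr (D₀ S D) hmin i a hk).hom ≫
      ((stgFst (D₀ S D) hmin i a (Over.mk (𝟙 i))).hom ≫ g.hom) := e
  rw [← Category.assoc, ← Category.assoc, h1] at e'
  exact e'

end Conseq

section Main
variable [∀ i, CompactSpace (D.obj i).left.total] [∀ i, QuasiSeparatedSpace (D.obj i).left.total]
  [QuasiSeparatedSpace S.total]
  (Y : Over S) [CompactSpace Y.left.total] [QuasiSeparatedSpace Y.left.total]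
  [LocallyOfFiniteType Y.hom.hom]

include hmin hc in
/-- surjectivity: every morphism from the limit in the localized category, over the base,
factors through a stage. -/
theorem partA
    (h : (∀ (i j : I) (t : i ⟶ j), IsSchemeTheoreticallyDominant (D.map t).left.hom) ∨
      LocallyOfFinitePresentation Y.hom.hom)
    (φ : (Pair.admBlowup.{u}).Q.obj c.pt.left ⟶ (Pair.admBlowup.{u}).Q.obj Y.left)
    (hφ : φ ≫ (Pair.admBlowup.{u}).Q.map Y.hom = (Pair.admBlowup.{u}).Q.map c.pt.hom) :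
    ∃ (i : I) (φi : (Pair.admBlowup.{u}).Q.obj (D.obj i).left ⟶
        (Pair.admBlowup.{u}).Q.obj Y.left),
      φi ≫ (Pair.admBlowup.{u}).Q.map Y.hom = (Pair.admBlowup.{u}).Q.map (D.obj i).hom ∧
        (Pair.admBlowup.{u}).Q.map (c.π.app i).left ≫ φi = φ := by
  haveI : (Pair.admBlowup.{u}).HasRightCalculusOfFractions := Groth.Agent.S18738.result
  have hQ : (Pair.admBlowup.{u}).IsInvertedBy (Pair.admBlowup.{u}).Q :=
    Localization.inverts (Pair.admBlowup.{u}).Q Pair.admBlowup.{u}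
  obtain ⟨⟨hsc⟩, hmodX⟩ := schLimit_and_mod S D hmin c hc
  obtain ⟨ρ, hρ⟩ := Localization.exists_rightFraction (Pair.admBlowup.{u}).Q Pair.admBlowup.{u} φ
  haveI : IsIso ((Pair.admBlowup.{u}).Q.map ρ.s) := hQ _ ρ.hs
  have hρ1 : (Pair.admBlowup.{u}).Q.map ρ.s ≫ φ = (Pair.admBlowup.{u}).Q.map ρ.f := by
    rw [hρ]
    exact ρ.map_s_comp_map (Pair.admBlowup.{u}).Q hQ
  have hfS : ρ.f ≫ Y.hom = ρ.s ≫ c.pt.hom := by
    apply Q_map_injective
    rw [Functor.map_comp, Functor.map_comp, ← hρ1, Category.assoc, hφ]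
  -- descend the admissible blow-up
  haveI inst1 : ∀ (i j : I) (t : i ⟶ j), IsAffineHom ((D₀ S D ⋙ Pair.forget).map t) :=
    fun i j t => inferInstanceAs (IsAffineHom (D.map t).left.hom)
  haveI inst2 : ∀ i, CompactSpace ((D₀ S D ⋙ Pair.forget).obj i) :=
    fun i => inferInstanceAs (CompactSpace (D.obj i).left.total)
  haveI inst3 : ∀ i, QuasiSeparatedSpace ((D₀ S D ⋙ Pair.forget).obj i) :=
    fun i => inferInstanceAs (QuasiSeparatedSpace (D.obj i).left.total)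
  have hsmin : ρ.X'.mod = c.pt.left.mod.comap ρ.s.hom := ρ.hs.1
  have hY' : BlowUp.IsEffCartierIdeal (c.pt.left.mod.comap ρ.s.hom) := by
    rw [← hsmin]
    exact ρ.X'.isEffCartier
  have hs' : IsAdmBlowup (c.pt.left.mod.comap ρ.s.hom) c.pt.left.mod ρ.s.hom := by
    rw [← hsmin]
    exact ρ.hs
  obtain ⟨i, Yi, IYi, si, hYi, hsi, e, he⟩ := Groth.Agent.S18746.result (D₀ S D ⋙ Pair.forget)
    (Pair.forget.mapCone (c₀ S D c)) hsc (fun i => (D.obj i).left.mod)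
    (fun i => (D.obj i).left.isEffCartier) hmin c.pt.left.mod hmodX ρ.s.hom hY' hs'
  obtain ⟨Ai, ai, hAi, hai⟩ : ∃ (Ai : Pair.{u}) (ai : Ai ⟶ (D.obj i).left),
      Pair.admBlowup ai ∧ ∃ (r : ρ.X' ⟶ Ai), IsPullback r ρ.s ai (c.π.app i).left := by
    refine ⟨⟨Yi, IYi, hYi⟩, ⟨si, le_of_eq hsi.1⟩, hsi, ?_⟩
    obtain ⟨r, -, hpb⟩ := isPullback_of_iso_mprod (X' := ρ.X') (Xi := (D.obj i).left)
      (Yi := ⟨Yi, IYi, hYi⟩) (c.π.app i).left (hmodX i) ⟨si, le_of_eq hsi.1⟩ hsi.1 ρ.s hsmin e he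
    exact ⟨r, hpb⟩
  obtain ⟨r, hpb⟩ := hai
  obtain ⟨j, fj, hfj1, hfj2⟩ := descend_from_pullback S D hmin c hc i ai r ρ.s hpb hAi Y h ρ.f hfS
  obtain ⟨sj, hsjdef⟩ : ∃ sj : stg (D₀ S D) hmin i ai j ⟶ (D.obj j.left).left,
      sj = stgSnd (D₀ S D) hmin i ai j := ⟨_, rfl⟩
  have hsj : Pair.admBlowup sj := by
    rw [hsjdef]
    exact admBlowup_stgSnd (D₀ S D) hmin i ai hAi j
  haveI : IsIso ((Pair.admBlowup.{u}).Q.map sj) := hQ _ hsj
  have hfj1' : fj ≫ Y.hom = sj ≫ (D.obj j.left).hom := by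
    rw [hsjdef]
    exact hfj1
  have h1 : ρ.s ≫ (c.π.app j.left).left = prj (D₀ S D) hmin i ai (c₀ S D c) r ρ.s hpb j ≫ sj := by
    rw [hsjdef]
    exact (prj_snd (D₀ S D) hmin i ai (c₀ S D c) r ρ.s hpb j).symm
  refine ⟨j.left, inv ((Pair.admBlowup.{u}).Q.map sj) ≫ (Pair.admBlowup.{u}).Q.map fj, ?_, ?_⟩
  · rw [Category.assoc, ← Functor.map_comp, hfj1', Functor.map_comp, IsIso.inv_hom_id_assoc]
  · rw [← cancel_epi ((Pair.admBlowup.{u}).Q.map ρ.s), hρ1, ← hfj2, Functor.map_comp,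
      ← Category.assoc, ← Functor.map_comp, h1, Functor.map_comp, Category.assoc,
      IsIso.hom_inv_id_assoc]

include hmin hc in
/-- injectivity: two morphisms from a stage in the localized category, over the base, which agree
on the limit agree on a later stage. -/
theorem partB (i : I)
    (φ ψ : (Pair.admBlowup.{u}).Q.obj (D.obj i).left ⟶ (Pair.admBlowup.{u}).Q.obj Y.left)
    (hφ : φ ≫ (Pair.admBlowup.{u}).Q.map Y.hom = (Pair.admBlowup.{u}).Q.map (D.obj i).hom)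
    (hψ : ψ ≫ (Pair.admBlowup.{u}).Q.map Y.hom = (Pair.admBlowup.{u}).Q.map (D.obj i).hom)
    (heq : (Pair.admBlowup.{u}).Q.map (c.π.app i).left ≫ φ =
      (Pair.admBlowup.{u}).Q.map (c.π.app i).left ≫ ψ) :
    ∃ (j : I) (t : j ⟶ i), (Pair.admBlowup.{u}).Q.map (D.map t).left ≫ φ =
      (Pair.admBlowup.{u}).Q.map (D.map t).left ≫ ψ := by
  haveI : (Pair.admBlowup.{u}).HasRightCalculusOfFractions := Groth.Agent.S18738.result
  have hQ : (Pair.admBlowup.{u}).IsInvertedBy (Pair.admBlowup.{u}).Q :=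
    Localization.inverts (Pair.admBlowup.{u}).Q Pair.admBlowup.{u}
  obtain ⟨-, hmodX⟩ := schLimit_and_mod S D hmin c hc
  obtain ⟨ρ₁, h1⟩ := Localization.exists_rightFraction (Pair.admBlowup.{u}).Q Pair.admBlowup.{u} φ
  obtain ⟨ρ₂, h2⟩ := Localization.exists_rightFraction (Pair.admBlowup.{u}).Q Pair.admBlowup.{u} ψ
  obtain ⟨σ, hσ⟩ := (MorphismProperty.LeftFraction.mk ρ₁.s ρ₂.s ρ₂.hs).exists_rightFraction
  have hσ' : σ.s ≫ ρ₁.s = σ.f ≫ ρ₂.s := hσ
  have hρ1 : (Pair.admBlowup.{u}).Q.map ρ₁.s ≫ φ = (Pair.admBlowup.{u}).Q.map ρ₁.f := by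
    rw [h1]
    exact ρ₁.map_s_comp_map (Pair.admBlowup.{u}).Q hQ
  have hρ2 : (Pair.admBlowup.{u}).Q.map ρ₂.s ≫ ψ = (Pair.admBlowup.{u}).Q.map ρ₂.f := by
    rw [h2]
    exact ρ₂.map_s_comp_map (Pair.admBlowup.{u}).Q hQ
  obtain ⟨A, a, f, g, ha, e1, e2⟩ : ∃ (A : Pair.{u}) (a : A ⟶ (D.obj i).left) (f g : A ⟶ Y.left),
      Pair.admBlowup a ∧ (Pair.admBlowup.{u}).Q.map a ≫ φ = (Pair.admBlowup.{u}).Q.map f ∧
        (Pair.admBlowup.{u}).Q.map a ≫ ψ = (Pair.admBlowup.{u}).Q.map g := by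
    refine ⟨σ.X', σ.s ≫ ρ₁.s, σ.s ≫ ρ₁.f, σ.f ≫ ρ₂.f,
      (Pair.admBlowup.{u}).comp_mem _ _ σ.hs ρ₁.hs, ?_, ?_⟩
    · rw [Functor.map_comp, Category.assoc, hρ1, ← Functor.map_comp]
    · rw [hσ', Functor.map_comp, Category.assoc, hρ2, ← Functor.map_comp]
  have hf : f ≫ Y.hom = a ≫ (D.obj i).hom := by
    apply Q_map_injective
    rw [Functor.map_comp, Functor.map_comp, ← e1, Category.assoc, hφ]
  have hg : g ≫ Y.hom = a ≫ (D.obj i).hom := by
    apply Q_map_injective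
    rw [Functor.map_comp, Functor.map_comp, ← e2, Category.assoc, hψ]
  have hq₀ : Pair.admBlowup (pbSnd a (c.π.app i).left (hmodX i)) :=
    admBlowup_pbSnd a (c.π.app i).left (hmodX i) ha
  haveI : IsIso ((Pair.admBlowup.{u}).Q.map (pbSnd a (c.π.app i).left (hmodX i))) := hQ _ hq₀
  have hw : pbFst a (c.π.app i).left (hmodX i) ≫ a =
      pbSnd a (c.π.app i).left (hmodX i) ≫ (c.π.app i).left := pb_w a (c.π.app i).left (hmodX i)
  have hfg : pbFst a (c.π.app i).left (hmodX i) ≫ f = pbFst a (c.π.app i).left (hmodX i) ≫ g := by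
    apply Q_map_injective
    rw [Functor.map_comp, Functor.map_comp, ← e1, ← e2, ← Category.assoc, ← Category.assoc,
      ← Functor.map_comp, hw, Functor.map_comp, Category.assoc, Category.assoc, heq]
  obtain ⟨j, hj⟩ := eq_from_pullback S D hmin c hc i a (pbFst a (c.π.app i).left (hmodX i))
    (pbSnd a (c.π.app i).left (hmodX i)) (isPullback_pb a (c.π.app i).left (hmodX i)) ha Y f g
    hf hg hfg
  obtain ⟨sj, hsjdef⟩ : ∃ sj : stg (D₀ S D) hmin i a j ⟶ (D.obj j.left).left,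
      sj = stgSnd (D₀ S D) hmin i a j := ⟨_, rfl⟩
  have hsj : Pair.admBlowup sj := by
    rw [hsjdef]
    exact admBlowup_stgSnd (D₀ S D) hmin i a ha j
  haveI : IsIso ((Pair.admBlowup.{u}).Q.map sj) := hQ _ hsj
  refine ⟨j.left, j.hom, ?_⟩
  have hwj : stgFst (D₀ S D) hmin i a j ≫ a = sj ≫ (D.map j.hom).left := by
    rw [hsjdef]
    exact (isPullback_stg (D₀ S D) hmin i a j).w
  rw [← cancel_epi ((Pair.admBlowup.{u}).Q.map sj),
    ← Category.assoc, ← Category.assoc, ← Functor.map_comp, ← hwj, Functor.map_comp,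
    Category.assoc, Category.assoc, e1, e2, ← Functor.map_comp, ← Functor.map_comp, hj]

end Main

end Core

end Groth.Agent.Lib.Helper11.PairColim
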