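import Mathlib
import Groth.Prelude.Def_Grpd

/-!
# The pair groupoid `U ×_S U ⇉ U` and the morphism `j = (t, s)` into it (helper11)
-/

set_option autoImplicit false
universe u

open CategoryTheory CategoryTheory.Limits AlgebraicGeometry

namespace Groth.Agent.Lib.Helper11.PairGrpd

variable {S : Scheme.{u}}

/-- the pair groupoid on `U` over `S`: arrows `U ×_S U`, target the first and source the second
projection, composition `(u₀, u₁) ∘ (u₁, u₂) = (u₀, u₂)` -/
noncomputable def pairGrpd (U : Scheme.{u}) (pU : U ⟶ S) : Grpd.GroupoidScheme S where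
  U := U
  R := pullback pU pU
  pU := pU
  pR := pullback.fst pU pU ≫ pU
  s := pullback.snd pU pU
  t := pullback.fst pU pU
  e := pullback.lift (𝟙 U) (𝟙 U) rfl
  i := pullback.lift (pullback.snd pU pU) (pullback.fst pU pU) pullback.condition.symm
  c := pullback.lift (pullback.fst (pullback.snd pU pU) (pullback.fst pU pU) ≫ pullback.fst pU pU)
    (pullback.snd (pullback.snd pU pU) (pullback.fst pU pU) ≫ pullback.snd pU pU) (by
      rw [Category.assoc, Category.assoc, pullback.condition, ← Category.assoc,
        pullback.condition, Category.assoc, pullback.condition])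
  s_over := pullback.condition.symm
  t_over := rfl
  comp_s := by
    intro T α β h
    rw [Category.assoc, pullback.lift_snd, ← Category.assoc, pullback.lift_snd]
  comp_t := by
    intro T α β h
    rw [Category.assoc, pullback.lift_fst, ← Category.assoc, pullback.lift_fst]
  assoc := by
    intro T α β γ h₁ h₂
    apply pullback.hom_ext
    · simp only [Category.assoc, pullback.lift_fst, pullback.lift_fst_assoc]
    · simp only [Category.assoc, pullback.lift_snd, pullback.lift_snd_assoc]
  e_s := pullback.lift_snd _ _ _
  e_t := pullback.lift_fst _ _ _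
  comp_e := by
    intro T α
    apply pullback.hom_ext
    · simp only [Category.assoc, pullback.lift_fst, pullback.lift_fst_assoc]
    · simp only [Category.assoc, pullback.lift_snd, pullback.lift_snd_assoc, Category.comp_id]
  e_comp := by
    intro T α
    apply pullback.hom_ext
    · simp only [Category.assoc, pullback.lift_fst, pullback.lift_fst_assoc, Category.comp_id]
    · simp only [Category.assoc, pullback.lift_snd, pullback.lift_snd_assoc]
  i_s := pullback.lift_snd _ _ _
  i_t := pullback.lift_fst _ _ _
  comp_i := by
    intro T α
    apply pullback.hom_ext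
    · simp only [Category.assoc, pullback.lift_fst, pullback.lift_fst_assoc, Category.comp_id]
    · simp only [Category.assoc, pullback.lift_snd, pullback.lift_snd_assoc, Category.comp_id]
  i_comp := by
    intro T α
    apply pullback.hom_ext
    · simp only [Category.assoc, pullback.lift_fst, pullback.lift_fst_assoc, Category.comp_id]
    · simp only [Category.assoc, pullback.lift_snd, pullback.lift_snd_assoc, Category.comp_id]

/-- `j = (t, s)` as a morphism of groupoid schemes to the pair groupoid -/
noncomputable def jHom (G : Grpd.GroupoidScheme S) :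
    Grpd.GroupoidScheme.Hom G (pairGrpd G.U G.pU) where
  fU := 𝟙 G.U
  fR := G.j
  fU_over := Category.id_comp _
  comm_s := by
    change G.j ≫ pullback.snd G.pU G.pU = G.s ≫ 𝟙 _
    rw [Category.comp_id]
    exact pullback.lift_snd _ _ _
  comm_t := by
    change G.j ≫ pullback.fst G.pU G.pU = G.t ≫ 𝟙 _
    rw [Category.comp_id]
    exact pullback.lift_fst _ _ _
  comm_c := by
    intro T α β h
    have hjf : G.j ≫ pullback.fst G.pU G.pU = G.t := pullback.lift_fst _ _ _
    have hjs : G.j ≫ pullback.snd G.pU G.pU = G.s := pullback.lift_snd _ _ _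
    apply pullback.hom_ext
    · refine Eq.trans ?_ ((pairGrpd G.U G.pU).comp_t _ _ _).symm
      change ((pullback.lift α β h ≫ G.c) ≫ G.j) ≫ pullback.fst G.pU G.pU =
        (α ≫ G.j) ≫ pullback.fst G.pU G.pU
      rw [Category.assoc (pullback.lift α β h ≫ G.c), Category.assoc α, hjf]
      exact G.comp_t α β h
    · refine Eq.trans ?_ ((pairGrpd G.U G.pU).comp_s _ _ _).symm
      change ((pullback.lift α β h ≫ G.c) ≫ G.j) ≫ pullback.snd G.pU G.pU =
        (β ≫ G.j) ≫ pullback.snd G.pU G.pU
      rw [Category.assoc (pullback.lift α β h ≫ G.c), Category.assoc β, hjs]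
      exact G.comp_s α β h

instance (G : Grpd.GroupoidScheme S) : IsIso (jHom G).fU := by
  change IsIso (𝟙 G.U)
  infer_instance

end Groth.Agent.Lib.Helper11.PairGrpd
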