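import Groth.Agent.Lib.Helper11Fam4

/-!
Paths in the dual graph of a numerical type: reversal, segments, extension, longest paths.
-/

namespace Groth.Agent.Lib.Helper11

open Finset Models

variable {n : ℕ} (T : Models.NumericalType n)

/-- consecutive vertices are adjacent -/
def IsPath {t : ℕ} (v : Fin t ↪ Fin n) : Prop :=
  ∀ j j' : Fin t, j'.val = j.val + 1 → T.a (v j) (v j') ≠ 0

/-- reversal of an enumeration -/
def revEmb {t : ℕ} (v : Fin t ↪ Fin n) : Fin t ↪ Fin n :=
  ⟨fun j => v ⟨t - 1 - j.val, by have := j.isLt; omega⟩, fun a b h => by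
    have := v.injective h
    simp only [Fin.mk.injEq] at this
    exact Fin.ext (by have := a.isLt; have := b.isLt; omega)⟩

theorem revEmb_apply {t : ℕ} (v : Fin t ↪ Fin n) (j : Fin t) :
    revEmb v j = v ⟨t - 1 - j.val, by have := j.isLt; omega⟩ := rfl

theorem revEmb_eq {t : ℕ} (v : Fin t ↪ Fin n) (j j' : Fin t) (h : j'.val + j.val + 1 = t) :
    revEmb v j = v j' := by
  rw [revEmb_apply]
  congr 1
  exact Fin.ext (by simp only []; omega)

/-- a segment of an enumeration -/
def segEmb {t : ℕ} (v : Fin t ↪ Fin n) (a L : ℕ) (h : a + L ≤ t) : Fin L ↪ Fin n :=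
  (shiftEmb L a t h).trans v

theorem segEmb_apply {t : ℕ} (v : Fin t ↪ Fin n) (a L : ℕ) (h : a + L ≤ t) (j : Fin L) :
    segEmb v a L h j = v ⟨a + j.val, by have := j.isLt; omega⟩ := rfl

theorem segEmb_eq {t : ℕ} (v : Fin t ↪ Fin n) (a L : ℕ) (h : a + L ≤ t) (j : Fin L) (j' : Fin t)
    (hj : j'.val = a + j.val) : segEmb v a L h j = v j' := by
  rw [segEmb_apply]
  congr 1
  exact Fin.ext (by simp only []; omega)

/-- appending a new vertex at the end -/
def snocEmb {t : ℕ} (v : Fin t ↪ Fin n) (x : Fin n) (hx : ∀ j, v j ≠ x) : Fin (t + 1) ↪ Fin n :=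
  ⟨fun j => if h : j.val < t then v ⟨j.val, h⟩ else x, fun a b hab => by
    by_cases ha : a.val < t <;> by_cases hb : b.val < t
    · simp only [dif_pos ha, dif_pos hb] at hab
      have := v.injective hab
      simp only [Fin.mk.injEq] at this
      exact Fin.ext this
    · simp only [dif_pos ha, dif_neg hb] at hab
      exact absurd hab (hx _)
    · simp only [dif_neg ha, dif_pos hb] at hab
      exact absurd hab.symm (hx _)
    · exact Fin.ext (by have := a.isLt; have := b.isLt; omega)⟩

theorem snocEmb_lt {t : ℕ} (v : Fin t ↪ Fin n) (x : Fin n) (hx : ∀ j, v j ≠ x) (j : Fin (t + 1))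
    (j' : Fin t) (h : j'.val = j.val) : snocEmb v x hx j = v j' := by
  have hlt : j.val < t := by have := j'.isLt; omega
  show (if h : j.val < t then v ⟨j.val, h⟩ else x) = v j'
  rw [dif_pos hlt]
  congr 1
  exact Fin.ext h.symm

theorem snocEmb_last {t : ℕ} (v : Fin t ↪ Fin n) (x : Fin n) (hx : ∀ j, v j ≠ x) (j : Fin (t + 1))
    (h : j.val = t) : snocEmb v x hx j = x := by
  show (if h : j.val < t then v ⟨j.val, h⟩ else x) = x
  rw [dif_neg (by omega)]

/-- prepending a new vertex -/
def consEmb {t : ℕ} (v : Fin t ↪ Fin n) (x : Fin n) (hx : ∀ j, v j ≠ x) : Fin (t + 1) ↪ Fin n :=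
  ⟨fun j => if h : j.val = 0 then x else v ⟨j.val - 1, by have := j.isLt; omega⟩, fun a b hab => by
    by_cases ha : a.val = 0 <;> by_cases hb : b.val = 0
    · exact Fin.ext (by omega)
    · simp only [dif_pos ha, dif_neg hb] at hab
      exact absurd hab.symm (hx _)
    · simp only [dif_neg ha, dif_pos hb] at hab
      exact absurd hab (hx _)
    · simp only [dif_neg ha, dif_neg hb] at hab
      have := v.injective hab
      simp only [Fin.mk.injEq] at this
      exact Fin.ext (by omega)⟩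

theorem consEmb_zero {t : ℕ} (v : Fin t ↪ Fin n) (x : Fin n) (hx : ∀ j, v j ≠ x) (j : Fin (t + 1))
    (h : j.val = 0) : consEmb v x hx j = x := by
  show (if h : j.val = 0 then x else v ⟨j.val - 1, _⟩) = x
  rw [dif_pos h]

theorem consEmb_succ {t : ℕ} (v : Fin t ↪ Fin n) (x : Fin n) (hx : ∀ j, v j ≠ x) (j : Fin (t + 1))
    (j' : Fin t) (h : j.val = j'.val + 1) : consEmb v x hx j = v j' := by
  show (if h : j.val = 0 then x else v ⟨j.val - 1, _⟩) = v j'
  rw [dif_neg (by omega)]
  congr 1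
  exact Fin.ext (by simp only []; omega)

variable {T}

theorem IsPath.rev {t : ℕ} {v : Fin t ↪ Fin n} (h : IsPath T v) : IsPath T (revEmb v) := by
  intro j j' hjj
  have hj := j.isLt
  have hj' := j'.isLt
  rw [revEmb_apply, revEmb_apply, a_symm]
  exact h _ _ (by simp only []; omega)

theorem IsPath.seg {t : ℕ} {v : Fin t ↪ Fin n} (h : IsPath T v) (a L : ℕ) (hL : a + L ≤ t) :
    IsPath T (segEmb v a L hL) := by
  intro j j' hjj
  rw [segEmb_apply, segEmb_apply]
  exact h _ _ (by simp only []; omega)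

theorem IsPath.snoc {t : ℕ} {v : Fin t ↪ Fin n} (h : IsPath T v) (x : Fin n) (hx : ∀ j, v j ≠ x)
    (hadj : ∀ j : Fin t, j.val + 1 = t → T.a (v j) x ≠ 0) : IsPath T (snocEmb v x hx) := by
  intro j j' hjj
  have hj' := j'.isLt
  by_cases hl : j'.val < t
  · rw [snocEmb_lt v x hx j ⟨j.val, by omega⟩ rfl, snocEmb_lt v x hx j' ⟨j'.val, hl⟩ rfl]
    exact h _ _ hjj
  · rw [snocEmb_lt v x hx j ⟨j.val, by omega⟩ rfl, snocEmb_last v x hx j' (by omega)]
    exact hadj _ (by simp only []; omega)

/-- a path has at most `n` vertices -/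
theorem path_len_le {t : ℕ} (v : Fin t ↪ Fin n) : t ≤ n := by
  have := Fintype.card_le_of_embedding v
  simpa using this

/-- existence of a longest path -/
theorem exists_longest_path (T : Models.NumericalType n) (hn : 2 ≤ n) :
    ∃ (t : ℕ) (v : Fin t ↪ Fin n), IsPath T v ∧ 2 ≤ t ∧
      ∀ (t' : ℕ) (v' : Fin t' ↪ Fin n), IsPath T v' → t' ≤ t := by
  classical
  let P : ℕ → Prop := fun t => ∃ v : Fin t ↪ Fin n, IsPath T v
  have hP2 : P 2 := by
    have i0 : Fin n := ⟨0, by omega⟩
    obtain ⟨i, hi, j, hj, hij⟩ := T.connected {i0} ⟨i0, Finset.mem_singleton_self _⟩ (by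
      intro h
      have h1 : ({i0} : Finset (Fin n)).card = (univ : Finset (Fin n)).card := by rw [h]
      rw [Finset.card_singleton, Finset.card_univ, Fintype.card_fin] at h1
      omega)
    have hne : i ≠ j := fun h => hj (h ▸ hi)
    refine ⟨⟨![i, j], ?_⟩, ?_⟩
    · intro a b hab
      fin_cases a <;> fin_cases b <;> simp_all
    · intro a b hab
      fin_cases a <;> fin_cases b <;> simp_all
  refine ⟨Nat.findGreatest P n, ?_⟩
  have hspec : P (Nat.findGreatest P n) := Nat.findGreatest_spec (P := P) (m := 2) hn hP2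
  obtain ⟨v, hv⟩ := hspec
  refine ⟨v, hv, Nat.le_findGreatest hn hP2, ?_⟩
  intro t' v' hv'
  exact Nat.le_findGreatest (path_len_le v') ⟨v', hv'⟩

end Groth.Agent.Lib.Helper11
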