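import Groth.Agent.Lib.Helper20EtaPtRel
import Groth.Prelude.Def_HTop2

/-!
# Universal homeomorphisms with trivial residue field extensions versus `Nmap` (helper20)
-/

universe u

namespace Groth.Agent.Lib.Helper20.EtaPt

open _root_.EtaPt AlgebraicGeometry CategoryTheory

theorem residueFieldMap_Spec {R S : CommRingCat.{u}} (φ : R ⟶ S) (y : PrimeSpectrum S) :
    (Scheme.Spec.residueFieldIso R (PrimeSpectrum.comap φ.hom y)).inv ≫
        (Spec.map φ).residueFieldMap y =
      CommRingCat.ofHom (Ideal.ResidueField.map (PrimeSpectrum.comap φ.hom y).asIdeal y.asIdeal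
        φ.hom rfl) ≫ (Scheme.Spec.residueFieldIso S y).inv := by
  have h1 := Scheme.Hom.SpecMap_residueFieldMap_fromSpecResidueField (Spec.map φ) y
  rw [← Scheme.Spec.map_residueFieldIso_inv_eq_fromSpecResidueField S y] at h1
  have h0 := Scheme.Spec.map_residueFieldIso_inv_eq_fromSpecResidueField R
    (PrimeSpectrum.comap φ.hom y)
  erw [← h0] at h1
  simp only [← Spec.map_comp] at h1
  have h1' : Spec.map ((CommRingCat.ofHom
      (algebraMap R (PrimeSpectrum.comap φ.hom y).asIdeal.ResidueField) ≫
      (Scheme.Spec.residueFieldIso R (PrimeSpectrum.comap φ.hom y)).inv) ≫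
        (Spec.map φ).residueFieldMap y) =
      Spec.map (φ ≫ CommRingCat.ofHom (algebraMap S y.asIdeal.ResidueField) ≫
        (Scheme.Spec.residueFieldIso S y).inv) :=
    (Spec.map_comp _ _).trans h1
  have h2 := Spec.map_injective h1'
  apply CommRingCat.hom_ext
  apply Ideal.ResidueField.ringHom_ext
  ext r
  have h3 := congrArg (fun f => f.hom r) h2
  simp only [CommRingCat.hom_comp, CommRingCat.hom_ofHom, RingHom.comp_apply] at h3 ⊢
  refine Eq.trans rfl (h3.trans ?_)
  exact congrArg _ (Ideal.ResidueField.map_algebraMap _ _ _ rfl r).symm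

theorem isIso_residueFieldMap_iff {R S : CommRingCat.{u}} (φ : R ⟶ S) (y : PrimeSpectrum S) :
    IsIso ((Spec.map φ).residueFieldMap y) ↔
      Function.Bijective (Ideal.ResidueField.map (PrimeSpectrum.comap φ.hom y).asIdeal y.asIdeal
        φ.hom rfl) := by
  have key := residueFieldMap_Spec φ y
  have hR := ConcreteCategory.bijective_of_isIso
    (Scheme.Spec.residueFieldIso R (PrimeSpectrum.comap φ.hom y)).inv
  have hS := ConcreteCategory.bijective_of_isIso (Scheme.Spec.residueFieldIso S y).inv
  have hk : ∀ z, ((Spec.map φ).residueFieldMap y).hom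
      ((Scheme.Spec.residueFieldIso R (PrimeSpectrum.comap φ.hom y)).inv.hom z) =
      (Scheme.Spec.residueFieldIso S y).inv.hom
        (Ideal.ResidueField.map (PrimeSpectrum.comap φ.hom y).asIdeal y.asIdeal φ.hom rfl z) :=
    fun z => congrArg (fun f => f.hom z) key
  rw [ConcreteCategory.isIso_iff_bijective]
  constructor
  · intro h
    constructor
    · intro z z' hzz'
      have h1 := (hk z).trans ((congrArg _ hzz').trans (hk z').symm)
      exact hR.1 (h.1 h1)
    · intro w
      obtain ⟨u, hu⟩ := h.2 ((Scheme.Spec.residueFieldIso S y).inv.hom w)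
      obtain ⟨z, rfl⟩ := hR.2 u
      exact ⟨z, hS.1 ((hk z).symm.trans hu)⟩
  · intro h
    constructor
    · intro u u' huu'
      obtain ⟨z, rfl⟩ := hR.2 u
      obtain ⟨z', rfl⟩ := hR.2 u'
      have h1 := (hk z).symm.trans (huu'.trans (hk z'))
      rw [h.1 (hS.1 h1)]
    · intro v
      obtain ⟨w, rfl⟩ := hS.2 v
      obtain ⟨z, rfl⟩ := h.2 w
      exact ⟨_, hk z⟩

theorem isUnivHomeo_of {X Y : Scheme.{u}} (f : X ⟶ Y) [UniversallyInjective f] [Surjective f]
    [UniversallyClosed f] : FlatMor.IsUnivHomeo f := by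
  intro X' Y' i₁ i₂ f' hp
  have hi : Function.Injective f' := UniversallyInjective.universally_injective i₁ i₂ f' hp
  have hc : IsClosedMap f' := UniversallyClosed.universally_isClosedMap i₁ i₂ f' hp
  have hs : Surjective f' := MorphismProperty.of_isPullback (P := @Surjective) hp.flip ‹_›
  exact (isHomeomorph_iff_continuous_isClosedMap_bijective).mpr
    ⟨f'.continuous, hc, hi, f'.surjective⟩

theorem isPurelyInseparable_of_surjective {K L : Type*} [Field K] [Field L] (g : K →+* L)
    (hg : Function.Surjective g) : g.IsPurelyInseparable := by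
  let _ := g.toAlgebra
  change IsPurelyInseparable K L
  rw [isPurelyInseparable_iff]
  intro x
  obtain ⟨a, rfl⟩ := hg x
  exact ⟨isIntegral_algebraMap (R := K) (A := L) (x := a), fun _ => ⟨a, rfl⟩⟩

/-- (I): integral, bijective on spectra, isomorphisms on residue fields implies universal
homeomorphism with trivial residue field extensions. -/
theorem isUnivHomeo_and_residueFieldsIso {A B : Type u} [CommRing A] [CommRing B] (f : A →+* B)
    (hint : f.IsIntegral) (hbij : Function.Bijective (PrimeSpectrum.comap f))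
    (hres : ∀ Q : PrimeSpectrum B, Function.Bijective
      (Ideal.ResidueField.map (PrimeSpectrum.comap f Q).asIdeal Q.asIdeal f rfl)) :
    FlatMor.IsUnivHomeo (Spec.map (CommRingCat.ofHom f)) ∧
      HTop.ResidueFieldsIso (Spec.map (CommRingCat.ofHom f)) := by
  have hres' : HTop.ResidueFieldsIso (Spec.map (CommRingCat.ofHom f)) := fun y =>
    (isIso_residueFieldMap_iff (CommRingCat.ofHom f) y).mpr (hres y)
  refine ⟨?_, hres'⟩
  have h1 : IsIntegralHom (Spec.map (CommRingCat.ofHom f)) := IsIntegralHom.SpecMap_iff.mpr hint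
  have h2 : Surjective (Spec.map (CommRingCat.ofHom f)) := ⟨hbij.2⟩
  have h3 : UniversallyInjective (Spec.map (CommRingCat.ofHom f)) := by
    have htfae := (tfae_universallyInjective (Spec.map (CommRingCat.ofHom f))).out 0 2
    rw [htfae]
    refine ⟨hbij.1, fun x => ?_⟩
    have := hres' x
    exact isPurelyInseparable_of_surjective _
      (ConcreteCategory.bijective_of_isIso ((Spec.map (CommRingCat.ofHom f)).residueFieldMap x)).2
  exact isUnivHomeo_of _

/-- (II): the converse for the identity endofunctor. -/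
theorem isIntegral_and_Nmap_bijective_of {A C : Type u} [CommRing A] [CommRing C] (ψ : A →+* C)
    (h1 : FlatMor.IsUnivHomeo (Spec.map (CommRingCat.ofHom ψ)))
    (h2 : HTop.ResidueFieldsIso (Spec.map (CommRingCat.ofHom ψ))) :
    ψ.IsIntegral ∧ Function.Bijective (FieldEndo.ident.{u}.Nmap ψ) := by
  constructor
  · have hc : UniversallyClosed (Spec.map (CommRingCat.ofHom ψ)) :=
      ⟨fun X' Y' i₁ i₂ f' hp => (h1 i₁ i₂ f' hp).isClosedMap⟩
    have : IsIntegralHom (Spec.map (CommRingCat.ofHom ψ)) :=
      IsIntegralHom.iff_universallyClosed_and_isAffineHom.mpr ⟨hc, inferInstance⟩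
    exact IsIntegralHom.SpecMap_iff.mp this
  · rw [Nmap_bijective_iff]
    have hh : IsHomeomorph (Spec.map (CommRingCat.ofHom ψ)) :=
      h1 (𝟙 _) (𝟙 _) _ IsPullback.of_id_snd
    refine ⟨hh.bijective, fun Q => ?_⟩
    exact ((isIso_residueFieldMap_iff (CommRingCat.ofHom ψ) Q).mp (h2 Q)).2

theorem comap_bijective_of_isUnivHomeo {A C : Type u} [CommRing A] [CommRing C] (ψ : A →+* C)
    (h : FlatMor.IsUnivHomeo (Spec.map (CommRingCat.ofHom ψ))) :
    Function.Bijective (PrimeSpectrum.comap ψ) := by
  have hh : IsHomeomorph (Spec.map (CommRingCat.ofHom ψ)) := h (𝟙 _) (𝟙 _) _ IsPullback.of_id_snd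
  exact hh.bijective

theorem isPurelyInseparable_residueField_map_of_isUnivHomeo {A C : Type u} [CommRing A] [CommRing C]
    (ψ : A →+* C) (h : FlatMor.IsUnivHomeo (Spec.map (CommRingCat.ofHom ψ)))
    (Q : PrimeSpectrum C) :
    (Ideal.ResidueField.map (PrimeSpectrum.comap ψ Q).asIdeal Q.asIdeal ψ rfl).IsPurelyInseparable := by
  have hui : UniversallyInjective (Spec.map (CommRingCat.ofHom ψ)) :=
    ⟨fun X' Y' i₁ i₂ f' hp => (h i₁ i₂ f' hp).injective⟩
  have htfae := (tfae_universallyInjective (Spec.map (CommRingCat.ofHom ψ))).out 0 2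
  have hpi := (htfae.mp hui).2 Q
  have key := residueFieldMap_Spec (CommRingCat.ofHom ψ) Q
  have hk : ∀ z, ((Spec.map (CommRingCat.ofHom ψ)).residueFieldMap Q).hom
      ((Scheme.Spec.residueFieldIso (CommRingCat.of A) (PrimeSpectrum.comap ψ Q)).inv.hom z) =
      (Scheme.Spec.residueFieldIso (CommRingCat.of C) Q).inv.hom
        (Ideal.ResidueField.map (PrimeSpectrum.comap ψ Q).asIdeal Q.asIdeal ψ rfl z) :=
    fun z => congrArg (fun f => f.hom z) key
  have heq : Ideal.ResidueField.map (PrimeSpectrum.comap ψ Q).asIdeal Q.asIdeal ψ rfl =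
      ((Scheme.Spec.residueFieldIso (CommRingCat.of C) Q).hom.hom).comp
        ((((Spec.map (CommRingCat.ofHom ψ)).residueFieldMap Q).hom).comp
          ((Scheme.Spec.residueFieldIso (CommRingCat.of A) (PrimeSpectrum.comap ψ Q)).inv.hom)) := by
    refine RingHom.ext fun z => ?_
    have h2 : (Scheme.Spec.residueFieldIso (CommRingCat.of C) Q).hom.hom
        ((Scheme.Spec.residueFieldIso (CommRingCat.of C) Q).inv.hom
          (Ideal.ResidueField.map (PrimeSpectrum.comap ψ Q).asIdeal Q.asIdeal ψ rfl z)) =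
        Ideal.ResidueField.map (PrimeSpectrum.comap ψ Q).asIdeal Q.asIdeal ψ rfl z := by
      have := congrArg (fun f => f.hom (Ideal.ResidueField.map (PrimeSpectrum.comap ψ Q).asIdeal
        Q.asIdeal ψ rfl z)) (Scheme.Spec.residueFieldIso (CommRingCat.of C) Q).inv_hom_id
      exact this
    exact h2.symm.trans (congrArg _ (hk z).symm)
  rw [heq]
  refine RingHom.IsPurelyInseparable.comp (RingHom.IsPurelyInseparable.comp ?_ hpi) ?_
  · exact isPurelyInseparable_of_surjective _ (ConcreteCategory.bijective_of_isIso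
      (Scheme.Spec.residueFieldIso (CommRingCat.of A) (PrimeSpectrum.comap ψ Q)).inv).2
  · exact isPurelyInseparable_of_surjective _ (ConcreteCategory.bijective_of_isIso
      (Scheme.Spec.residueFieldIso (CommRingCat.of C) Q).hom).2

/-- Universal homeomorphisms have purely inseparable residue field extensions, elementwise form. -/
theorem exists_pow_mem_range_of_isUnivHomeo {A C : Type u} [CommRing A] [CommRing C]
    (ψ : A →+* C) (h : FlatMor.IsUnivHomeo (Spec.map (CommRingCat.ofHom ψ)))
    (Q : PrimeSpectrum C) (z : Q.asIdeal.ResidueField) :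
    ∃ n : ℕ, z ^ ringExpChar (PrimeSpectrum.comap ψ Q).asIdeal.ResidueField ^ n ∈
      Set.range (Ideal.ResidueField.map (PrimeSpectrum.comap ψ Q).asIdeal Q.asIdeal ψ rfl) := by
  have hpi := isPurelyInseparable_residueField_map_of_isUnivHomeo ψ h Q
  let _ := (Ideal.ResidueField.map (PrimeSpectrum.comap ψ Q).asIdeal Q.asIdeal ψ rfl).toAlgebra
  have : IsPurelyInseparable (PrimeSpectrum.comap ψ Q).asIdeal.ResidueField Q.asIdeal.ResidueField :=
    hpi
  exact IsPurelyInseparable.pow_mem (PrimeSpectrum.comap ψ Q).asIdeal.ResidueField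
    (ringExpChar (PrimeSpectrum.comap ψ Q).asIdeal.ResidueField) z

end Groth.Agent.Lib.Helper20.EtaPt
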