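import Mathlib
import Groth.Agent.S0415

/-!
# Flat surjective closed immersions are isomorphisms; weakly étale universal homeomorphisms (helper20)
-/

set_option autoImplicit false
universe u

open CategoryTheory CategoryTheory.Limits AlgebraicGeometry MorphismProperty

namespace Groth.Agent.Lib.Helper20.FlatCI

theorem isIso_of_isClosedImmersion_of_flat_of_surjective_of_isAffine {Z X : Scheme.{u}}
    (g : Z ⟶ X) [IsClosedImmersion g] [Flat g] [Surjective g] [IsAffine X] : IsIso g := by
  have hZ : IsAffine Z := (IsClosedImmersion.isAffine_surjective_of_isAffine g).1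
  apply IsClosedImmersion.isIso_of_injective_of_isAffine
  have hnat := Scheme.isoSpec_hom_naturality g
  have hff : g.appTop.hom.FaithfullyFlat := by
    rw [← flat_and_surjective_SpecMap_iff]
    constructor
    · have h1 : Flat (Z.isoSpec.hom ≫ Spec.map g.appTop) := by rw [hnat]; infer_instance
      exact (MorphismProperty.cancel_left_of_respectsIso @Flat Z.isoSpec.hom _).mp h1
    · have h1 : Surjective (Z.isoSpec.hom ≫ Spec.map g.appTop) := by rw [hnat]; infer_instance
      exact (MorphismProperty.cancel_left_of_respectsIso @Surjective Z.isoSpec.hom _).mp h1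
  exact hff.injective

/-- A flat surjective closed immersion is an isomorphism. -/
theorem isIso_of_isClosedImmersion_of_flat_of_surjective {Z X : Scheme.{u}}
    (g : Z ⟶ X) [IsClosedImmersion g] [Flat g] [Surjective g] : IsIso g := by
  show isomorphisms Scheme.{u} g
  rw [IsZariskiLocalAtTarget.iff_of_openCover (P := isomorphisms Scheme.{u}) X.affineCover]
  intro i
  show IsIso (pullback.snd g (X.affineCover.f i))
  have : IsClosedImmersion (pullback.snd g (X.affineCover.f i)) := inferInstance
  have : Flat (pullback.snd g (X.affineCover.f i)) := inferInstance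
  have : Surjective (pullback.snd g (X.affineCover.f i)) :=
    MorphismProperty.pullback_snd (P := @Surjective) _ _ ‹_›
  exact isIso_of_isClosedImmersion_of_flat_of_surjective_of_isAffine _

/-- A flat, integral, universally injective, surjective morphism with flat diagonal is an iso. -/
theorem isIso_of_weaklyEtale {X Y : Scheme.{u}} (f : X ⟶ Y) [WeaklyEtale f]
    [IsIntegralHom f] [UniversallyInjective f] [Surjective f] : IsIso f := by
  have hΔs : Surjective (pullback.diagonal f) :=
    (UniversallyInjective.iff_diagonal f).1 inferInstance
  have hΔ : IsIso (pullback.diagonal f) := isIso_of_isClosedImmersion_of_flat_of_surjective _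
  have h1 : IsIso (pullback.fst f f) := by
    have e : pullback.diagonal f ≫ pullback.fst f f = 𝟙 X := pullback.diagonal_fst f
    exact IsIso.of_isIso_fac_left e
  exact MorphismProperty.of_pullback_fst_of_descendsAlong (P := isomorphisms Scheme.{u})
    (Q := @Surjective ⊓ @Flat ⊓ @QuasiCompact) (f := f) (g := f)
    ⟨⟨inferInstance, inferInstance⟩, inferInstance⟩ h1

end Groth.Agent.Lib.Helper20.FlatCI
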