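import Groth.Agent.Lib.Helper20Perfection
import Groth.Agent.Lib.Helper20FlatCI

/-!
# Perfection of an étale morphism (helper11)
-/

set_option autoImplicit false
universe u

namespace Groth.Agent.Lib.Helper11PerfEt

open CategoryTheory AlgebraicGeometry Limits
open FrobSch Groth.Agent.Lib.Helper20.Perfection Groth.Agent.Lib.Helper20.AWN

/-- the relative Frobenius of an étale morphism is an isomorphism -/
theorem isIso_relFrob_of_etale (p : ℕ) [Fact p.Prime] {Z S : Scheme.{u}} [IsCharP S p]
    (g : Z ⟶ S) [Etale g] : IsIso (relFrob g p) := by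
  have : IsCharP Z p := IsCharP.of_hom g p
  obtain ⟨hUH, hint, -⟩ := Groth.Agent.Lib.Helper20.Frob.relFrob_props (p := p) g
  obtain ⟨h1, h2, h3⟩ := (Groth.Agent.S0415.result _).mp hUH
  have : Etale (relFrob g p ≫ pullback.snd g (frob S p)) := by
    rw [relFrob_snd]; infer_instance
  have : Etale (relFrob g p) := Etale.of_comp (relFrob g p) (pullback.snd g (frob S p))
  exact Groth.Agent.Lib.Helper20.FlatCI.isIso_of_weaklyEtale (relFrob g p)

/-- a scheme étale over a perfect scheme is perfect -/
theorem isPerfect_of_etale (p : ℕ) [Fact p.Prime] {Z S : Scheme.{u}} [IsCharP S p] [IsCharP Z p]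
    (hS : IsPerfect S p) (g : Z ⟶ S) [Etale g] : IsPerfect Z p := by
  have : IsIso (frob S p) := hS
  have := isIso_relFrob_of_etale p g
  show IsIso (frob Z p)
  rw [← relFrob_fst g p]
  infer_instance

/-- the base change of an étale morphism `f : X ⟶ Y` to the perfection of `Y` is the perfection of
`X`. -/
theorem isPerfection_pullback_snd (p : ℕ) [Fact p.Prime] {X Y YP : Scheme.{u}}
    [IsCharP YP p] (πY : YP ⟶ Y) (hY : IsPerfection πY p) (f : X ⟶ Y) [Etale f]
    [IsCharP (pullback πY f) p] :
    IsPerfection (pullback.snd πY f) p := by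
  refine ⟨isPerfect_of_etale p hY.1 (pullback.fst πY f), fun T _ hT => ⟨fun g₁ g₂ h12 => ?_, fun t => ?_⟩⟩
  · simp only at h12
    apply pullback.hom_ext
    · apply (hY.2 T hT).1
      simp only
      rw [Category.assoc, Category.assoc, pullback.condition, ← Category.assoc, ← Category.assoc,
        h12]
    · exact h12
  · obtain ⟨s, hs⟩ := (hY.2 T hT).2 (t ≫ f)
    simp only at hs
    exact ⟨pullback.lift s t hs, pullback.lift_snd _ _ _⟩

/-- the perfection of an étale morphism is its base change -/
theorem isPullback_perfection_of_etale (p : ℕ) [Fact p.Prime] {X Y XP YP : Scheme.{u}}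
    [IsCharP XP p] [IsCharP YP p]
    (πX : XP ⟶ X) (πY : YP ⟶ Y) (hX : IsPerfection πX p) (hY : IsPerfection πY p)
    (f : X ⟶ Y) (fP : XP ⟶ YP) (w : fP ≫ πY = πX ≫ f) [Etale f] :
    IsPullback fP πX πY f := by
  have : IsCharP (pullback πY f) p := IsCharP.of_hom (pullback.fst πY f) p
  obtain ⟨e, he⟩ := isPerfection_unique p πX (pullback.snd πY f) hX
    (isPerfection_pullback_snd p πY hY f)
  refine IsPullback.of_iso_pullback ⟨w⟩ e ?_ he
  apply (hY.2 XP hX.1).1
  simp only
  rw [Category.assoc, pullback.condition, ← Category.assoc, he, w]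

end Groth.Agent.Lib.Helper11PerfEt
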