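import Mathlib

/-!
# Helper11 PerfTor A: perfect rings of characteristic `p` (possibly the zero ring)

`Perf p R`: `p = 0` in `R` and the `p`-th power map is bijective.  Elementary consequences:
Frobenius is a ring automorphism, `R` is reduced, quotients by radical ideals and tensor products
of perfect algebras over a perfect ring are perfect.
-/

set_option autoImplicit false
universe u v

namespace Groth.Agent.Lib.Helper11.PerfTor

open TensorProduct

/-- `R` is a perfect ring of characteristic `p` (the zero ring is allowed). -/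
def Perf (p : ℕ) (R : Type*) [CommRing R] : Prop :=
  (p : R) = 0 ∧ Function.Bijective (fun x : R => x ^ p)

namespace Perf

variable {p : ℕ} [hp : Fact p.Prime] {R : Type*} [CommRing R]

theorem add_pow (h0 : (p : R) = 0) (x y : R) : (x + y) ^ p = x ^ p + y ^ p := by
  obtain ⟨r, hr⟩ := exists_add_pow_prime_eq hp.out x y
  rw [hr, h0]
  ring

/-- the Frobenius automorphism of a perfect ring -/
noncomputable def frobEquiv (h : Perf p R) : R ≃+* R :=
  RingEquiv.ofBijective
    ({ toFun := fun x => x ^ p
       map_one' := one_pow p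
       map_mul' := fun x y => mul_pow x y p
       map_zero' := zero_pow hp.out.ne_zero
       map_add' := add_pow h.1 } : R →+* R) h.2

@[simp] theorem frobEquiv_apply (h : Perf p R) (x : R) : h.frobEquiv x = x ^ p := rfl

/-- the `p`-th root -/
noncomputable def root (h : Perf p R) (x : R) : R := h.frobEquiv.symm x

theorem root_pow (h : Perf p R) (x : R) : h.root x ^ p = x :=
  h.frobEquiv.apply_symm_apply x

theorem root_pow' (h : Perf p R) (x : R) : h.root (x ^ p) = x :=
  h.frobEquiv.symm_apply_apply x

theorem root_add (h : Perf p R) (x y : R) : h.root (x + y) = h.root x + h.root y :=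
  map_add h.frobEquiv.symm x y

theorem root_mul (h : Perf p R) (x y : R) : h.root (x * y) = h.root x * h.root y :=
  map_mul h.frobEquiv.symm x y

theorem root_zero (h : Perf p R) : h.root 0 = 0 := map_zero h.frobEquiv.symm

theorem pow_injective (h : Perf p R) (n : ℕ) : Function.Injective (fun x : R => x ^ p ^ n) := by
  induction n with
  | zero => intro x y hxy; simpa using hxy
  | succ n ih =>
    intro x y hxy
    apply ih
    apply h.2.1
    have : (x ^ p ^ n) ^ p = (y ^ p ^ n) ^ p := by
      rw [← pow_mul, ← pow_mul, ← pow_succ]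
      exact hxy
    exact this

theorem pow_surjective (h : Perf p R) (n : ℕ) : Function.Surjective (fun x : R => x ^ p ^ n) := by
  induction n with
  | zero => intro x; exact ⟨x, by simp⟩
  | succ n ih =>
    intro x
    obtain ⟨y, hy⟩ := ih x
    obtain ⟨z, hz⟩ := h.2.2 y
    refine ⟨z, ?_⟩
    simp only at hy hz ⊢
    rw [pow_succ', pow_mul, hz, hy]

theorem eq_zero_of_pow_eq_zero (h : Perf p R) (x : R) (n : ℕ) (hx : x ^ n = 0) : x = 0 := by
  have hle : n ≤ p ^ n := (Nat.lt_pow_self hp.out.one_lt).le
  apply h.pow_injective n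
  simp only
  rw [zero_pow (pow_ne_zero n hp.out.ne_zero), ← Nat.sub_add_cancel hle, pow_add, hx, mul_zero]

theorem isReduced (h : Perf p R) : IsReduced R :=
  ⟨fun x ⟨n, hn⟩ => h.eq_zero_of_pow_eq_zero x n hn⟩

theorem of_subsingleton [Subsingleton R] : Perf p R :=
  ⟨Subsingleton.elim _ _, ⟨fun _ _ _ => Subsingleton.elim _ _, fun x => ⟨x, Subsingleton.elim _ _⟩⟩⟩

/-- for a nontrivial perfect ring we get Mathlib's instances -/
theorem charP (h : Perf p R) [Nontrivial R] : CharP R p := by
  have := CharP.ringChar_of_prime_eq_zero hp.out h.1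
  exact ringChar.of_eq this

theorem perfectRing (h : Perf p R) [CharP R p] : PerfectRing R p :=
  ⟨h.2⟩

theorem of_perfectRing [CharP R p] [PerfectRing R p] : Perf p R :=
  ⟨CharP.cast_eq_zero R p, PerfectRing.bijective_frobenius (R := R) (p := p)⟩

/-- the quotient of a perfect ring by a radical ideal is perfect -/
theorem quotient (h : Perf p R) (J : Ideal R) (hJ : J.IsRadical) : Perf p (R ⧸ J) := by
  refine ⟨?_, ?_, ?_⟩
  · rw [← map_natCast (Ideal.Quotient.mk J), h.1, map_zero]
  · intro x y hxy
    obtain ⟨x, rfl⟩ := Ideal.Quotient.mk_surjective x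
    obtain ⟨y, rfl⟩ := Ideal.Quotient.mk_surjective y
    simp only at hxy
    rw [← map_pow, ← map_pow, Ideal.Quotient.eq] at hxy
    rw [Ideal.Quotient.eq]
    apply hJ
    refine ⟨p, ?_⟩
    have : (x - y) ^ p = x ^ p - y ^ p := by
      show h.frobEquiv (x - y) = h.frobEquiv x - h.frobEquiv y
      exact map_sub h.frobEquiv x y
    rw [this]
    exact hxy
  · intro x
    obtain ⟨x, rfl⟩ := Ideal.Quotient.mk_surjective x
    refine ⟨Ideal.Quotient.mk J (h.root x), ?_⟩
    simp only
    rw [← map_pow, h.root_pow]

theorem of_algebra (h : Perf p R) {S : Type*} [CommRing S] [Algebra R S] : (p : S) = 0 := by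
  rw [← map_natCast (algebraMap R S), h.1, map_zero]

section tensor
variable {A : Type*} [CommRing A] {B C : Type*} [CommRing B] [CommRing C] [Algebra A B]
  [Algebra A C]

/-- the additive map `b ⊗ c ↦ b^{1/p} ⊗ c^{1/p}` -/
noncomputable def tensorRoot (hA : Perf p A) (hB : Perf p B) (hC : Perf p C) :
    B ⊗[A] C →+ B ⊗[A] C :=
  TensorProduct.liftAddHom
    { toFun := fun b =>
        { toFun := fun c => hB.root b ⊗ₜ[A] hC.root c
          map_zero' := by rw [hC.root_zero, tmul_zero]
          map_add' := fun c c' => by rw [hC.root_add, tmul_add] }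
      map_zero' := by
        ext c
        simp only [AddMonoidHom.coe_mk, ZeroHom.coe_mk, AddMonoidHom.zero_apply]
        rw [hB.root_zero, zero_tmul]
      map_add' := fun b b' => by
        ext c
        simp only [AddMonoidHom.coe_mk, ZeroHom.coe_mk, AddMonoidHom.add_apply]
        rw [hB.root_add, add_tmul] }
    (by
      intro a b c
      simp only [AddMonoidHom.coe_mk, ZeroHom.coe_mk]
      have h1 : hB.root (a • b) = hA.root a • hB.root b := by
        apply hB.2.1
        simp only
        rw [hB.root_pow, Algebra.smul_def, Algebra.smul_def, mul_pow, ← map_pow, hA.root_pow,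
          hB.root_pow]
      have h2 : hC.root (a • c) = hA.root a • hC.root c := by
        apply hC.2.1
        simp only
        rw [hC.root_pow, Algebra.smul_def, Algebra.smul_def, mul_pow, ← map_pow, hA.root_pow,
          hC.root_pow]
      rw [h1, h2, smul_tmul])

theorem tensorRoot_tmul (hA : Perf p A) (hB : Perf p B) (hC : Perf p C) (b : B) (c : C) :
    tensorRoot hA hB hC (b ⊗ₜ[A] c) = hB.root b ⊗ₜ[A] hC.root c := rfl

/-- the tensor product of perfect algebras over a perfect ring is perfect -/
theorem tensorProduct (hA : Perf p A) (hB : Perf p B) (hC : Perf p C) : Perf p (B ⊗[A] C) := by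
  have h0 : (p : B ⊗[A] C) = 0 := hA.of_algebra
  refine ⟨h0, ?_, ?_⟩
  · -- injective: `tensorRoot` is a left inverse
    have key : ∀ t : B ⊗[A] C, tensorRoot hA hB hC (t ^ p) = t := by
      intro t
      induction t using TensorProduct.induction_on with
      | zero => rw [zero_pow hp.out.ne_zero, map_zero]
      | tmul b c =>
        rw [Algebra.TensorProduct.tmul_pow, tensorRoot_tmul, hB.root_pow', hC.root_pow']
      | add x y hx hy => rw [add_pow h0, map_add, hx, hy]
    intro x y hxy
    simp only at hxy
    rw [← key x, hxy, key y]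
  · intro t
    induction t using TensorProduct.induction_on with
    | zero => exact ⟨0, zero_pow hp.out.ne_zero⟩
    | tmul b c =>
      refine ⟨hB.root b ⊗ₜ[A] hC.root c, ?_⟩
      simp only
      rw [Algebra.TensorProduct.tmul_pow, hB.root_pow, hC.root_pow]
    | add x y hx hy =>
      obtain ⟨x', hx'⟩ := hx
      obtain ⟨y', hy'⟩ := hy
      refine ⟨x' + y', ?_⟩
      simp only at hx' hy' ⊢
      rw [add_pow h0, hx', hy']

end tensor

end Perf

end Groth.Agent.Lib.Helper11.PerfTor
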