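import Mathlib
import Groth.Agent.Lib.Helper11PerfTorA

/-!
# Helper11 PerfFP A: algebra for finitely presentable perfect algebras

* `pcl h0 U`: the `p`-radical closure `{a | ∃ n, a ^ p ^ n ∈ U}` of a subalgebra in characteristic `p`;
  it is perfect when the ambient algebra is (`perf_pcl`).
* `exists_pow_eq_of`, `of_eq_zero`: elements of `PerfectClosure K p`.
* `exists_pow_mem_of_mem_radical_map`: if `of x ∈ √(I · K^perf)` then a power of `x` lies in `I`.
-/

set_option autoImplicit false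
universe u

namespace Groth.Agent.Lib.Helper11.PerfFP

open Groth.Agent.Lib.Helper11.PerfTor

section pcl
variable {p : ℕ} [hp : Fact p.Prime] {B A : Type*} [CommRing B] [CommRing A] [Algebra B A]

theorem add_pow_pow (h0 : (p : A) = 0) (x y : A) (n : ℕ) :
    (x + y) ^ p ^ n = x ^ p ^ n + y ^ p ^ n := by
  induction n with
  | zero => simp
  | succ n ih => rw [pow_succ, pow_mul, ih, Perf.add_pow h0, ← pow_mul, ← pow_mul]

omit hp in
theorem pow_mem_of_le {U : Subalgebra B A} {a : A} {n m : ℕ} (h : a ^ p ^ n ∈ U) (hnm : n ≤ m) :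
    a ^ p ^ m ∈ U := by
  obtain ⟨k, rfl⟩ := Nat.exists_eq_add_of_le hnm
  rw [pow_add, pow_mul]
  exact pow_mem h _

/-- the `p`-radical closure of a subalgebra in characteristic `p` -/
def pcl (h0 : (p : A) = 0) (U : Subalgebra B A) : Subalgebra B A where
  carrier := {a | ∃ n : ℕ, a ^ p ^ n ∈ U}
  mul_mem' := by
    rintro a b ⟨n, ha⟩ ⟨m, hb⟩
    refine ⟨max n m, ?_⟩
    rw [mul_pow]
    exact mul_mem (pow_mem_of_le ha (le_max_left _ _)) (pow_mem_of_le hb (le_max_right _ _))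
  add_mem' := by
    rintro a b ⟨n, ha⟩ ⟨m, hb⟩
    refine ⟨max n m, ?_⟩
    rw [add_pow_pow h0]
    exact add_mem (pow_mem_of_le ha (le_max_left _ _)) (pow_mem_of_le hb (le_max_right _ _))
  algebraMap_mem' r := ⟨0, by simp⟩

theorem mem_pcl {h0 : (p : A) = 0} {U : Subalgebra B A} {a : A} :
    a ∈ pcl h0 U ↔ ∃ n : ℕ, a ^ p ^ n ∈ U := Iff.rfl

theorem le_pcl (h0 : (p : A) = 0) (U : Subalgebra B A) : U ≤ pcl h0 U :=
  fun a ha => ⟨0, by simpa using ha⟩

theorem pcl_mono (h0 : (p : A) = 0) {U V : Subalgebra B A} (h : U ≤ V) : pcl h0 U ≤ pcl h0 V :=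
  fun _ ⟨n, hn⟩ => ⟨n, h hn⟩

theorem perf_pcl (hA : Perf p A) (U : Subalgebra B A) : Perf p (pcl hA.1 U) := by
  refine ⟨?_, ?_, ?_⟩
  · apply Subtype.ext
    simpa using hA.1
  · intro x y hxy
    apply Subtype.ext
    apply hA.2.1
    exact congrArg Subtype.val hxy
  · rintro ⟨a, n, hn⟩
    obtain ⟨b, hb⟩ := hA.2.2 a
    simp only at hb
    refine ⟨⟨b, n + 1, ?_⟩, ?_⟩
    · rw [pow_succ', pow_mul, hb]
      exact hn
    · apply Subtype.ext
      exact hb

end pcl

section perfclosure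
variable (K : Type u) [CommRing K] (p : ℕ) [hp : Fact p.Prime] [CharP K p]

theorem exists_pow_eq_of (z : PerfectClosure K p) :
    ∃ (n : ℕ) (x : K), z ^ p ^ n = PerfectClosure.of K p x := by
  obtain ⟨⟨n, x⟩, rfl⟩ := PerfectClosure.mk_surjective K p z
  refine ⟨n, x, ?_⟩
  rw [← PerfectClosure.iterate_frobenius_mk K p n x, iterate_frobenius]

theorem of_eq_zero {x : K} (h : PerfectClosure.of K p x = 0) : ∃ n : ℕ, x ^ p ^ n = 0 := by
  rw [PerfectClosure.of_apply, PerfectClosure.zero_def, PerfectClosure.mk_eq_iff] at h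
  obtain ⟨z, hz⟩ := h
  refine ⟨z, ?_⟩
  simpa [iterate_frobenius] using hz

/-- elements of the perfect closure with a `p`-power in `of I` -/
def powIdeal (I : Ideal K) : Ideal (PerfectClosure K p) where
  carrier := {z | ∃ (n : ℕ) (w : K), w ∈ I ∧ z ^ p ^ n = PerfectClosure.of K p w}
  zero_mem' := ⟨0, 0, I.zero_mem, by simp⟩
  add_mem' := by
    rintro a b ⟨n, v, hv, hav⟩ ⟨m, w, hw, hbw⟩
    refine ⟨n + m, v ^ p ^ m + w ^ p ^ n, ?_, ?_⟩
    · exact I.add_mem (Ideal.pow_mem_of_mem I hv _ (pow_pos hp.out.pos _))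
        (Ideal.pow_mem_of_mem I hw _ (pow_pos hp.out.pos _))
    · rw [add_pow_char_pow, map_add, map_pow, map_pow, ← hav, ← hbw, ← pow_mul, ← pow_mul,
        ← pow_add, ← pow_add, add_comm m n]
  smul_mem' := by
    rintro c a ⟨n, v, hv, hav⟩
    obtain ⟨m, x, hx⟩ := exists_pow_eq_of K p c
    refine ⟨n + m, x ^ p ^ n * v ^ p ^ m, ?_, ?_⟩
    · exact I.mul_mem_left _ (Ideal.pow_mem_of_mem I hv _ (pow_pos hp.out.pos _))
    · rw [smul_eq_mul, mul_pow, map_mul, map_pow, map_pow, ← hav, ← hx, ← pow_mul, ← pow_mul,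
        ← pow_add, ← pow_add, add_comm m n]

theorem map_le_powIdeal (I : Ideal K) : Ideal.map (PerfectClosure.of K p) I ≤ powIdeal K p I := by
  rw [Ideal.map_le_iff_le_comap]
  intro w hw
  exact ⟨0, w, hw, by simp⟩

/-- If `of x` lies in the radical of the extension of `I` then a power of `x` lies in `I`. -/
theorem exists_pow_mem_of_mem_radical_map (I : Ideal K) (x : K)
    (hx : PerfectClosure.of K p x ∈ (Ideal.map (PerfectClosure.of K p) I).radical) :
    ∃ N : ℕ, x ^ N ∈ I := by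
  obtain ⟨m, hm⟩ := hx
  obtain ⟨n, w, hw, hnw⟩ := map_le_powIdeal K p I hm
  rw [← map_pow, ← map_pow, ← sub_eq_zero, ← map_sub] at hnw
  obtain ⟨z, hz⟩ := of_eq_zero K p hnw
  rw [sub_pow_char_pow, sub_eq_zero] at hz
  refine ⟨m ^ 1 * p ^ n * p ^ z, ?_⟩
  rw [pow_one, pow_mul, pow_mul, hz]
  exact Ideal.pow_mem_of_mem I hw _ (pow_pos hp.out.pos _)

end perfclosure

end Groth.Agent.Lib.Helper11.PerfFP
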