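import Mathlib
import Groth.Agent.Lib.Helper11PerfFPA

/-!
# Helper11 PerfFP B: the category of perfect `B`-algebras

`PC p B`: the full subcategory of `Under B` on the perfect algebras; `mkC`, `mkHom`;
`nonempty_isColimit_PC`: elementwise recognition of filtered colimits.
-/

set_option autoImplicit false
universe u

namespace Groth.Agent.Lib.Helper11.PerfFP

open Groth.Agent.Lib.Helper11.PerfTor CategoryTheory CategoryTheory.Limits

attribute [local instance] IsFiltered.isConnected

/-- Recognizing filtered colimits in `Under B` elementwise (after helper3). -/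
theorem nonempty_isColimit_under' {B : CommRingCat.{u}} {J : Type u} [SmallCategory J]
    [IsFiltered J] (D : J ⥤ Under B) (c : Cocone D)
    (hsurj : ∀ x : c.pt.right, ∃ (j : J) (y : (D.obj j).right), (c.ι.app j).right y = x)
    (hinj : ∀ (j : J) (y : (D.obj j).right), (c.ι.app j).right y = 0 →
      ∃ (k : J) (g : j ⟶ k), (D.map g).right y = 0) :
    Nonempty (IsColimit c) := by
  let F : J ⥤ CommRingCat.{u} := D ⋙ Under.forget _
  let c1 : Cocone F := (Under.forget _).mapCocone c
  let c2 : Cocone (F ⋙ forget CommRingCat) := (forget CommRingCat).mapCocone c1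
  have h2 : IsColimit c2 := by
    refine Types.FilteredColimit.isColimitOf' _ c2 ?_ ?_
    · intro x
      obtain ⟨j, y, hy⟩ := hsurj x
      exact ⟨j, y, hy.symm⟩
    · intro j (x : (D.obj j).right) (y : (D.obj j).right) hxy
      have hxy' : (c.ι.app j).right x = (c.ι.app j).right y := hxy
      have h0 : (c.ι.app j).right (x - y) = 0 := by
        rw [map_sub, hxy', sub_self]
      obtain ⟨k, g, hg⟩ := hinj j (x - y) h0
      refine ⟨k, g, ?_⟩
      show (D.map g).right x = (D.map g).right y
      rw [map_sub, sub_eq_zero] at hg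
      exact hg
  haveI : PreservesColimit F (forget CommRingCat) :=
    (PreservesFilteredColimitsOfSize.preserves_filtered_colimits (F := forget CommRingCat.{u}) J).preservesColimit
  haveI : ReflectsColimit F (forget CommRingCat) :=
    reflectsColimit_of_reflectsIsomorphisms F (forget CommRingCat)
  have h1 : IsColimit c1 := isColimitOfReflects (forget CommRingCat) h2
  exact ⟨isColimitOfReflects (Under.forget _) h1⟩

variable (p : ℕ) (B : CommRingCat.{u})

/-- perfect `B`-algebras -/
abbrev PerfProp : ObjectProperty (Under B) :=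
  fun Y => (p : Y.right) = 0 ∧ Function.Bijective fun y : Y.right => y ^ p

/-- the category of perfect `B`-algebras -/
abbrev PC := (PerfProp p B).FullSubcategory

variable {p B}

/-- a perfect algebra as an object -/
noncomputable def mkC {R : Type u} [CommRing R] (f : B →+* R) (h : Perf p R) : PC p B :=
  ⟨Under.mk (CommRingCat.ofHom f), h⟩

/-- an algebra map as a morphism -/
noncomputable def mkHom {R R' : Type u} [CommRing R] [CommRing R'] {f : B →+* R} {f' : B →+* R'}
    {h : Perf p R} {h' : Perf p R'} (g : R →+* R') (hg : g.comp f = f') :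
    mkC f h ⟶ mkC f' h' :=
  ObjectProperty.homMk (Under.homMk (CommRingCat.ofHom g) (by
    ext x
    exact congrFun (congrArg DFunLike.coe hg) x))

@[simp] theorem mkHom_apply {R R' : Type u} [CommRing R] [CommRing R'] {f : B →+* R} {f' : B →+* R'}
    {h : Perf p R} {h' : Perf p R'} (g : R →+* R') (hg : g.comp f = f') (x : R) :
    (mkHom (h := h) (h' := h') g hg).hom.right x = g x := rfl

/-- a map to an arbitrary object -/
noncomputable def mkHomTo {R : Type u} [CommRing R] {f : B →+* R} {h : Perf p R} (A : PC p B)
    (g : R →+* A.obj.right) (hg : g.comp f = A.obj.hom.hom) : mkC f h ⟶ A :=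
  ObjectProperty.homMk (Under.homMk (CommRingCat.ofHom g) (by
    ext x
    exact congrFun (congrArg DFunLike.coe hg) x))

@[simp] theorem mkHomTo_apply {R : Type u} [CommRing R] {f : B →+* R} {h : Perf p R} (A : PC p B)
    (g : R →+* A.obj.right) (hg : g.comp f = A.obj.hom.hom) (x : R) :
    (mkHomTo (h := h) A g hg).hom.right x = g x := rfl

theorem hom_ext_PC {X Y : PC p B} {f g : X ⟶ Y} (h : ∀ x : X.obj.right, f.hom.right x = g.hom.right x) :
    f = g := by
  apply ObjectProperty.hom_ext
  apply Under.UnderMorphism.ext
  ext x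
  exact h x

theorem id_apply_PC (X : PC p B) (x : X.obj.right) : (𝟙 X : X ⟶ X).hom.right x = x := rfl

theorem comp_apply_PC {X Y Z : PC p B} (f : X ⟶ Y) (g : Y ⟶ Z) (x : X.obj.right) :
    (f ≫ g).hom.right x = g.hom.right (f.hom.right x) := rfl

/-- Recognizing filtered colimits of perfect algebras elementwise. -/
theorem nonempty_isColimit_PC {J : Type u} [SmallCategory J] [IsFiltered J] (D : J ⥤ PC p B)
    (c : Cocone D)
    (hsurj : ∀ x : c.pt.obj.right, ∃ (j : J) (y : (D.obj j).obj.right),
      (c.ι.app j).hom.right y = x)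
    (hinj : ∀ (j : J) (y : (D.obj j).obj.right), (c.ι.app j).hom.right y = 0 →
      ∃ (k : J) (g : j ⟶ k), (D.map g).hom.right y = 0) :
    Nonempty (IsColimit c) := by
  obtain ⟨h⟩ := nonempty_isColimit_under' (D ⋙ (PerfProp p B).ι) ((PerfProp p B).ι.mapCocone c)
    hsurj hinj
  exact ⟨isColimitOfReflects (PerfProp p B).ι h⟩

end Groth.Agent.Lib.Helper11.PerfFP
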