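import Mathlib
import Groth.Agent.Lib.Helper11PerfFPB

/-!
# Helper11 PerfFP C: compactness against directed unions of perfect subalgebras
-/

set_option autoImplicit false
universe u

namespace Groth.Agent.Lib.Helper11.PerfFP

open Groth.Agent.Lib.Helper11.PerfTor CategoryTheory CategoryTheory.Limits

variable {p : ℕ} {B : CommRingCat.{u}}

section union
variable {R : Type u} [CommRing R] [Algebra B R] (hR : Perf p R) {J : Type u} [Preorder J]
  (U : J → Subalgebra B R) (hmono : Monotone U) (hperf : ∀ j, Perf p (U j))

theorem incl_comp {j k : J} (h : j ≤ k) :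
    ((Subalgebra.inclusion (hmono h) : U j →ₐ[B] U k) : U j →+* U k).comp
      (algebraMap B (U j)) = algebraMap B (U k) :=
  AlgHom.comp_algebraMap _

theorem val_comp (j : J) :
    (((U j).val : U j →ₐ[B] R) : U j →+* R).comp (algebraMap B (U j)) = algebraMap B R :=
  AlgHom.comp_algebraMap _

/-- the objects -/
noncomputable def obj1 (j : J) : PC p B := mkC (algebraMap B (U j)) (hperf j)

/-- the transition maps -/
noncomputable def map1 {j k : J} (h : j ≤ k) : obj1 U hperf j ⟶ obj1 U hperf k :=
  mkHom _ (incl_comp U hmono h)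

theorem map1_apply {j k : J} (h : j ≤ k) (x : U j) :
    (map1 U hmono hperf h).hom.right x = Subalgebra.inclusion (hmono h) x := rfl

/-- the maps to `R` -/
noncomputable def toA1 (j : J) : obj1 U hperf j ⟶ mkC (algebraMap B R) hR :=
  mkHom _ (val_comp U j)

theorem toA1_apply (j : J) (x : U j) : (toA1 hR U hperf j).hom.right x = (x : R) := rfl

/-- the system of subalgebras -/
noncomputable def diag1 : J ⥤ PC p B where
  obj j := obj1 U hperf j
  map {j k} f := map1 U hmono hperf (leOfHom f)
  map_id j := by
    apply hom_ext_PC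
    intro x
    refine (map1_apply U hmono hperf _ x).trans (Eq.trans ?_ (id_apply_PC _ x).symm)
    exact Subtype.ext rfl
  map_comp {j k l} f g := by
    apply hom_ext_PC
    intro x
    refine (map1_apply U hmono hperf _ x).trans (Eq.trans ?_ (comp_apply_PC _ _ x).symm)
    refine Eq.trans ?_ (map1_apply U hmono hperf _ _).symm
    refine Eq.trans ?_ (congrArg _ (map1_apply U hmono hperf _ x).symm)
    exact Subtype.ext rfl

theorem diag1_map {j k : J} (f : j ⟶ k) :
    (diag1 U hmono hperf).map f = map1 U hmono hperf (leOfHom f) := rfl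

/-- the cocone with vertex `R` -/
noncomputable def cocone1 : Cocone (diag1 U hmono hperf) where
  pt := mkC (algebraMap B R) hR
  ι :=
    { app := fun j => toA1 hR U hperf j
      naturality := fun j k f => by
        refine Eq.trans ?_ (Category.comp_id _).symm
        apply hom_ext_PC
        intro x
        refine (comp_apply_PC _ _ x).trans ?_
        refine Eq.trans ?_ (toA1_apply hR U hperf j x).symm
        refine Eq.trans (congrArg _ (map1_apply U hmono hperf (leOfHom f) x)) ?_
        exact toA1_apply hR U hperf k _ }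

theorem cocone1_app (j : J) : (cocone1 hR U hmono hperf).ι.app j = toA1 hR U hperf j := rfl

variable [IsDirected J (· ≤ ·)] [Nonempty J]

theorem isColimit_cocone1 (hU : ∀ x : R, ∃ j, x ∈ U j) :
    Nonempty (IsColimit (cocone1 hR U hmono hperf)) := by
  refine nonempty_isColimit_PC _ _ ?_ ?_
  · intro x
    obtain ⟨j, hj⟩ := hU x
    exact ⟨j, (⟨x, hj⟩ : U j), rfl⟩
  · intro j (y : U j) hy
    have hy' : (y : R) = 0 := hy
    have : y = 0 := Subtype.ext hy'
    refine ⟨j, 𝟙 j, ?_⟩
    rw [this]
    exact map_zero _

/-- A finitely presentable perfect algebra which is a directed union of perfect subalgebras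
equals one of them. -/
theorem exists_index_of_union (hmono : Monotone U) (hperf : ∀ j, Perf p (U j)) (hU : ∀ x : R, ∃ j, x ∈ U j)
    [IsFinitelyPresentable.{u} (mkC (algebraMap B R) hR)] :
    ∃ j, ∀ x : R, x ∈ U j := by
  obtain ⟨hc⟩ := isColimit_cocone1 hR U hmono hperf hU
  obtain ⟨j, q, hq⟩ := IsFinitelyPresentable.exists_hom_of_isColimit hc (𝟙 (mkC (algebraMap B R) hR))
  refine ⟨j, fun a => ?_⟩
  have h1 : ((q ≫ (cocone1 hR U hmono hperf).ι.app j).hom.right) a = a := by
    rw [hq]
    rfl
  let y : U j := q.hom.right a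
  have h2 : (y : R) = a := h1
  rw [← h2]
  exact y.2

end union

end Groth.Agent.Lib.Helper11.PerfFP
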