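import Mathlib
import Groth.Agent.Lib.Helper11PerfFPB

/-!
# Helper11 PerfFP D: compactness against directed systems of perfect quotients
-/

set_option autoImplicit false
universe u

namespace Groth.Agent.Lib.Helper11.PerfFP

open Groth.Agent.Lib.Helper11.PerfTor CategoryTheory CategoryTheory.Limits

variable {p : ℕ} [hp : Fact p.Prime] {B : CommRingCat.{u}}

section quot
variable {P : Type u} [CommRing P] (fP : B →+* P) (hP : Perf p P) {R : Type u} [CommRing R]
  (fR : B →+* R) (hR : Perf p R) (π : P →+* R) (hπ : π.comp fP = fR)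
  {J : Type u} [Preorder J] (I : J → Ideal P) (hmono : Monotone I) (hrad : ∀ j, (I j).IsRadical)
  (hle : ∀ j, ∀ z ∈ I j, π z = 0)

/-- the objects -/
noncomputable def obj2 (j : J) : PC p B :=
  mkC ((Ideal.Quotient.mk (I j)).comp fP) (hP.quotient (I j) (hrad j))

theorem factor_comp {j k : J} (h : j ≤ k) :
    (Ideal.Quotient.factor (hmono h)).comp ((Ideal.Quotient.mk (I j)).comp fP) =
      (Ideal.Quotient.mk (I k)).comp fP := by
  rw [← RingHom.comp_assoc, Ideal.Quotient.factor_comp_mk]

/-- the transition maps -/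
noncomputable def map2 {j k : J} (h : j ≤ k) : obj2 fP hP I hrad j ⟶ obj2 fP hP I hrad k :=
  mkHom _ (factor_comp fP I hmono h)

theorem map2_apply {j k : J} (h : j ≤ k) (x : P ⧸ I j) :
    (map2 fP hP I hmono hrad h).hom.right x = Ideal.Quotient.factor (hmono h) x := rfl

include hπ in
theorem lift_comp (j : J) :
    (Ideal.Quotient.lift (I j) π (hle j)).comp ((Ideal.Quotient.mk (I j)).comp fP) = fR := by
  rw [← RingHom.comp_assoc, Ideal.Quotient.lift_comp_mk, hπ]

/-- the maps to `R` -/
noncomputable def toA2 (j : J) : obj2 fP hP I hrad j ⟶ mkC fR hR :=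
  mkHom _ (lift_comp fP fR π hπ I hle j)

theorem toA2_apply (j : J) (x : P ⧸ I j) :
    (toA2 fP hP fR hR π hπ I hrad hle j).hom.right x = Ideal.Quotient.lift (I j) π (hle j) x := rfl

/-- the system of quotients -/
noncomputable def diag2 : J ⥤ PC p B where
  obj j := obj2 fP hP I hrad j
  map {j k} f := map2 fP hP I hmono hrad (leOfHom f)
  map_id j := by
    apply hom_ext_PC
    intro x
    refine (map2_apply fP hP I hmono hrad _ x).trans (Eq.trans ?_ (id_apply_PC _ x).symm)
    obtain ⟨z, rfl⟩ := Ideal.Quotient.mk_surjective x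
    exact Ideal.Quotient.factor_mk _ z
  map_comp {j k l} f g := by
    apply hom_ext_PC
    intro x
    refine (map2_apply fP hP I hmono hrad _ x).trans (Eq.trans ?_ (comp_apply_PC _ _ x).symm)
    refine Eq.trans ?_ (map2_apply fP hP I hmono hrad _ _).symm
    refine Eq.trans ?_ (congrArg _ (map2_apply fP hP I hmono hrad _ x).symm)
    obtain ⟨z, rfl⟩ := Ideal.Quotient.mk_surjective x
    rw [Ideal.Quotient.factor_mk, Ideal.Quotient.factor_mk, Ideal.Quotient.factor_mk]

theorem diag2_map {j k : J} (f : j ⟶ k) :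
    (diag2 fP hP I hmono hrad).map f = map2 fP hP I hmono hrad (leOfHom f) := rfl

/-- the cocone with vertex `R` -/
noncomputable def cocone2 : Cocone (diag2 fP hP I hmono hrad) where
  pt := mkC fR hR
  ι :=
    { app := fun j => toA2 fP hP fR hR π hπ I hrad hle j
      naturality := fun j k f => by
        refine Eq.trans ?_ (Category.comp_id _).symm
        apply hom_ext_PC
        intro x
        refine (comp_apply_PC _ _ x).trans ?_
        refine Eq.trans ?_ (toA2_apply fP hP fR hR π hπ I hrad hle j x).symm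
        refine Eq.trans (congrArg _ (map2_apply fP hP I hmono hrad (leOfHom f) x)) ?_
        refine (toA2_apply fP hP fR hR π hπ I hrad hle k _).trans ?_
        obtain ⟨z, rfl⟩ := Ideal.Quotient.mk_surjective x
        rw [Ideal.Quotient.factor_mk, Ideal.Quotient.lift_mk, Ideal.Quotient.lift_mk] }

theorem cocone2_app (j : J) :
    (cocone2 fP hP fR hR π hπ I hmono hrad hle).ι.app j = toA2 fP hP fR hR π hπ I hrad hle j := rfl

variable [IsDirected J (· ≤ ·)] [Nonempty J]

theorem isColimit_cocone2 (hsurj : Function.Surjective π)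
    (hker : ∀ (j : J) (z : P), π z = 0 → ∃ k, j ≤ k ∧ z ∈ I k) :
    Nonempty (IsColimit (cocone2 fP hP fR hR π hπ I hmono hrad hle)) := by
  refine nonempty_isColimit_PC _ _ ?_ ?_
  · intro x
    obtain ⟨z, hz⟩ := hsurj x
    obtain ⟨j⟩ := ‹Nonempty J›
    exact ⟨j, Ideal.Quotient.mk (I j) z, hz⟩
  · intro j (y : P ⧸ I j) hy
    obtain ⟨z, rfl⟩ := Ideal.Quotient.mk_surjective y
    have hz : π z = 0 := hy
    obtain ⟨k, hjk, hzk⟩ := hker j z hz
    refine ⟨k, homOfLE hjk, ?_⟩
    show Ideal.Quotient.factor (hmono hjk) (Ideal.Quotient.mk (I j) z) = 0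
    rw [Ideal.Quotient.factor_mk]
    exact Ideal.Quotient.eq_zero_iff_mem.2 hzk

/-- A finitely presentable perfect algebra which is a directed colimit of perfect quotients
of `P` is a retract of one of them. -/
theorem exists_section_of_quot (hP : Perf p P) (hmono : Monotone I) (hrad : ∀ j, (I j).IsRadical)
    (hle : ∀ j, ∀ z ∈ I j, π z = 0) (hπ : π.comp fP = fR) (hsurj : Function.Surjective π)
    (hker : ∀ (j : J) (z : P), π z = 0 → ∃ k, j ≤ k ∧ z ∈ I k)
    [IsFinitelyPresentable.{u} (mkC fR hR)] :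
    ∃ (j : J) (σ : R →+* P ⧸ I j), σ.comp fR = (Ideal.Quotient.mk (I j)).comp fP ∧
      ∀ a : R, Ideal.Quotient.lift (I j) π (hle j) (σ a) = a := by
  obtain ⟨hc⟩ := isColimit_cocone2 fP hP fR hR π hπ I hmono hrad hle hsurj hker
  obtain ⟨j, q, hq⟩ := IsFinitelyPresentable.exists_hom_of_isColimit hc (𝟙 (mkC fR hR))
  refine ⟨j, q.hom.right.hom, ?_, fun a => ?_⟩
  · have := Under.w q.hom
    ext b
    exact congrFun (congrArg (fun f => (f.hom : B → P ⧸ I j)) this) b
  · have h1 : ((q ≫ (cocone2 fP hP fR hR π hπ I hmono hrad hle).ι.app j).hom.right) a = a := by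
      rw [hq]
      rfl
    exact h1

end quot

end Groth.Agent.Lib.Helper11.PerfFP
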