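import Mathlib
import Groth.Agent.Lib.Helper11PerfFPC
import Groth.Agent.Lib.Helper11PerfFPD

/-!
# Helper11 PerfFP E: a finitely presentable perfect algebra is perfectly finitely presented
-/

set_option autoImplicit false
universe u

namespace Groth.Agent.Lib.Helper11.PerfFP

open Groth.Agent.Lib.Helper11.PerfTor CategoryTheory CategoryTheory.Limits

section idx
variable {R₀ : Type u} [CommRing R₀] (K : Ideal R₀)

/-- finitely generated ideals contained in `K`. -/
abbrev FGIdx : Type u := {J : Ideal R₀ // J.FG ∧ J ≤ K}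

instance : Nonempty (FGIdx K) := ⟨⟨⊥, Submodule.fg_bot, bot_le⟩⟩

instance : IsDirected (FGIdx K) (· ≤ ·) :=
  ⟨fun a b => ⟨⟨a.1 ⊔ b.1, Submodule.FG.sup a.2.1 b.2.1, sup_le a.2.2 b.2.2⟩, le_sup_left (a := a.1),
    le_sup_right (b := b.1)⟩⟩

end idx

variable {p : ℕ} [hp : Fact p.Prime] {B : CommRingCat.{u}}

/-- Step 1: finitely many perfect generators. -/
theorem exists_finset_generating {R : Type u} [CommRing R] [Algebra B R] (hR : Perf p R)
    [IsFinitelyPresentable.{u} (mkC (algebraMap B R) hR)] :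
    ∃ S : Finset R, ∀ a : R, ∃ n : ℕ, a ^ p ^ n ∈ Algebra.adjoin B (S : Set R) := by
  classical
  obtain ⟨S, hS⟩ := exists_index_of_union hR
    (fun S : Finset R => pcl hR.1 (Algebra.adjoin B (S : Set R)))
    (fun S S' h => pcl_mono _ (Algebra.adjoin_mono (Finset.coe_subset.2 h)))
    (fun S => perf_pcl hR _)
    (fun x => ⟨{x}, le_pcl _ _ (Algebra.subset_adjoin
      (Finset.mem_coe.2 (Finset.mem_singleton_self x)))⟩)
  exact ⟨S, fun a => hS a⟩

/-- Step 2: the kernel of a perfectly generating polynomial presentation is the radical of a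
finitely generated ideal. -/
theorem exists_fg_radical [CharP B p] {R : Type u} [CommRing R] [Algebra B R] (hR : Perf p R)
    [Nontrivial R] [IsFinitelyPresentable.{u} (mkC (algebraMap B R) hR)]
    {σ : Type u} [Finite σ] (v : σ → R)
    (hgen : ∀ a : R, ∃ n : ℕ, a ^ p ^ n ∈ (MvPolynomial.aeval v : MvPolynomial σ B →ₐ[B] R).range) :
    ∃ I₀ : Ideal (MvPolynomial σ B), I₀.FG ∧
      I₀ ≤ RingHom.ker (MvPolynomial.aeval v : MvPolynomial σ B →ₐ[B] R).toRingHom ∧
      ∀ g : MvPolynomial σ B, MvPolynomial.aeval v g = 0 → ∃ N : ℕ, g ^ N ∈ I₀ := by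
  classical
  haveI : CharP R p := hR.charP
  haveI : PerfectRing R p := hR.perfectRing
  let R₀ := MvPolynomial σ B
  let ev : R₀ →+* R := (MvPolynomial.aeval v : MvPolynomial σ B →ₐ[B] R).toRingHom
  have hev : ∀ g : R₀, ev g = MvPolynomial.aeval v g := fun _ => rfl
  let P := PerfectClosure R₀ p
  let of : R₀ →+* P := PerfectClosure.of R₀ p
  let π : P →+* R := PerfectClosure.lift R₀ p R ev
  have hπof : ∀ g : R₀, π (of g) = ev g := fun g =>
    congrFun (congrArg DFunLike.coe ((PerfectClosure.lift R₀ p R).symm_apply_apply ev)) g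
  let fP : B →+* P := of.comp MvPolynomial.C
  have hπ : π.comp fP = algebraMap B R := by
    ext b
    show π (of (MvPolynomial.C b)) = _
    rw [hπof, hev, MvPolynomial.aeval_C]
  have hP : Perf p P := Perf.of_perfectRing
  have hsurj : Function.Surjective π := by
    intro a
    obtain ⟨n, g, hg⟩ := hgen a
    obtain ⟨z, hz⟩ := hP.pow_surjective n (of g)
    refine ⟨z, hR.pow_injective n ?_⟩
    show π z ^ p ^ n = a ^ p ^ n
    simp only at hz
    rw [← map_pow, hz, hπof, hev]
    exact hg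
  let K₀ : Ideal R₀ := RingHom.ker ev
  let Ir : FGIdx K₀ → Ideal P := fun I => (Ideal.map of I.1).radical
  have hmono : Monotone Ir := fun I I' h => Ideal.radical_mono (Ideal.map_mono h)
  have hrad : ∀ I, (Ir I).IsRadical := fun I => Ideal.radical_isRadical _
  have hle : ∀ I, ∀ z ∈ Ir I, π z = 0 := by
    intro I z hz
    obtain ⟨m, hm⟩ := hz
    have h1 : Ideal.map of I.1 ≤ RingHom.ker π := by
      rw [Ideal.map_le_iff_le_comap]
      intro g hg
      rw [Ideal.mem_comap, RingHom.mem_ker, hπof]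
      exact I.2.2 hg
    have h2 : π z ^ m = 0 := by
      rw [← map_pow]
      exact h1 hm
    exact hR.eq_zero_of_pow_eq_zero _ m h2
  -- elements of the kernel of π
  have hkerπ : ∀ z : P, π z = 0 → ∃ (n : ℕ) (w : R₀), w ∈ K₀ ∧ z ^ p ^ n = of w := by
    intro z hz
    obtain ⟨n, w, hw⟩ := exists_pow_eq_of R₀ p z
    refine ⟨n, w, ?_, hw⟩
    show ev w = 0
    rw [← hπof]
    show π (of w) = 0
    rw [show of w = z ^ p ^ n from hw.symm, map_pow, hz, zero_pow (pow_ne_zero n hp.out.ne_zero)]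
  have hker : ∀ (I : FGIdx K₀) (z : P), π z = 0 → ∃ I', I ≤ I' ∧ z ∈ Ir I' := by
    intro I z hz
    obtain ⟨n, w, hwK, hw⟩ := hkerπ z hz
    refine ⟨⟨I.1 ⊔ Ideal.span {w}, Submodule.FG.sup I.2.1 (Submodule.fg_span_singleton w),
      sup_le I.2.2 ((Ideal.span_singleton_le_iff_mem _).2 hwK)⟩, le_sup_left (a := I.1), ?_⟩
    refine ⟨p ^ n, ?_⟩
    rw [hw]
    exact Ideal.mem_map_of_mem _ (Ideal.mem_sup_right (Ideal.subset_span (Set.mem_singleton w)))
  obtain ⟨I, σ', hσ1, hσ2⟩ := exists_section_of_quot fP (algebraMap B R) hR π Ir hP hmono hrad hle hπ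
    hsurj hker
  -- correct the section on the generators
  let d : σ → P ⧸ Ir I := fun s => Ideal.Quotient.mk (Ir I) (of (MvPolynomial.X s)) - σ' (v s)
  have hd : ∀ s, Ideal.Quotient.lift (Ir I) π (hle I) (d s) = 0 := by
    intro s
    show Ideal.Quotient.lift (Ir I) π (hle I)
      (Ideal.Quotient.mk (Ir I) (of (MvPolynomial.X s)) - σ' (v s)) = 0
    rw [map_sub, hσ2, Ideal.Quotient.lift_mk, hπof, hev, MvPolynomial.aeval_X, sub_self]
  choose z hz using fun s => Ideal.Quotient.mk_surjective (d s)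
  have hz0 : ∀ s, π (z s) = 0 := by
    intro s
    rw [← Ideal.Quotient.lift_mk (Ir I) π (hle I), hz, hd]
  choose n w hwK hw using fun s => hkerπ (z s) (hz0 s)
  let I₀ : FGIdx K₀ := ⟨I.1 ⊔ Ideal.span (Set.range w),
    Submodule.FG.sup I.2.1 (Submodule.fg_span (Set.finite_range w)),
    sup_le I.2.2 (Ideal.span_le.2 (by rintro _ ⟨s, rfl⟩; exact hwK s))⟩
  have hII₀ : I ≤ I₀ := le_sup_left (a := I.1)
  have hzI₀ : ∀ s, z s ∈ Ir I₀ := by
    intro s
    refine ⟨p ^ n s, ?_⟩
    rw [hw]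
    exact Ideal.mem_map_of_mem _ (Ideal.mem_sup_right (Ideal.subset_span ⟨s, rfl⟩))
  let fac : P ⧸ Ir I →+* P ⧸ Ir I₀ := Ideal.Quotient.factor (hmono hII₀)
  let lam : P ⧸ Ir I₀ →+* R := Ideal.Quotient.lift (Ir I₀) π (hle I₀)
  let φ : P ⧸ Ir I₀ →+* P ⧸ Ir I₀ := (fac.comp σ').comp lam
  have hQ : Perf p (P ⧸ Ir I₀) := hP.quotient _ (hrad I₀)
  have hφ1 : φ.comp ((Ideal.Quotient.mk (Ir I₀)).comp of) = (Ideal.Quotient.mk (Ir I₀)).comp of := by
    apply MvPolynomial.ringHom_ext
    · intro b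
      show fac (σ' (lam (Ideal.Quotient.mk (Ir I₀) (of (MvPolynomial.C b))))) = _
      rw [Ideal.Quotient.lift_mk, hπof, hev, MvPolynomial.aeval_C]
      have : σ' (algebraMap B R b) = Ideal.Quotient.mk (Ir I) (fP b) :=
        congrFun (congrArg DFunLike.coe hσ1) b
      rw [this, Ideal.Quotient.factor_mk]
      rfl
    · intro s
      show fac (σ' (lam (Ideal.Quotient.mk (Ir I₀) (of (MvPolynomial.X s))))) = _
      rw [Ideal.Quotient.lift_mk, hπof, hev, MvPolynomial.aeval_X]
      have h1 : σ' (v s) = Ideal.Quotient.mk (Ir I) (of (MvPolynomial.X s)) - d s := by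
        show _ = _ - (_ - _)
        ring
      rw [h1, map_sub, ← hz s, Ideal.Quotient.factor_mk, Ideal.Quotient.factor_mk,
        Ideal.Quotient.eq_zero_iff_mem.2 (hzI₀ s), sub_zero]
      rfl
  have hφ2 : ∀ y : P ⧸ Ir I₀, φ y = y := by
    intro y
    obtain ⟨t, rfl⟩ := Ideal.Quotient.mk_surjective y
    obtain ⟨m, x, hx⟩ := exists_pow_eq_of R₀ p t
    apply hQ.pow_injective m
    show φ (Ideal.Quotient.mk (Ir I₀) t) ^ p ^ m = Ideal.Quotient.mk (Ir I₀) t ^ p ^ m
    rw [← map_pow, ← map_pow, hx]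
    exact congrFun (congrArg DFunLike.coe hφ1) x
  have hlam : Function.Injective lam := by
    rw [injective_iff_map_eq_zero]
    intro y hy
    rw [← hφ2 y]
    show fac (σ' (lam y)) = 0
    rw [hy, map_zero, map_zero]
  refine ⟨I₀.1, I₀.2.1, I₀.2.2, fun g hg => ?_⟩
  have h1 : lam (Ideal.Quotient.mk (Ir I₀) (of g)) = 0 := by
    rw [Ideal.Quotient.lift_mk, hπof, hev, hg]
  have h2 : Ideal.Quotient.mk (Ir I₀) (of g) = 0 := hlam (h1.trans (map_zero lam).symm)
  exact exists_pow_mem_of_mem_radical_map R₀ p I₀.1 g (Ideal.Quotient.eq_zero_iff_mem.1 h2)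

/-- A finitely presentable object of the category of perfect `B`-algebras is perfectly finitely
presented. -/
theorem main [CharP B p] (A : PC p B) [hA : IsFinitelyPresentable.{u} A] :
    ∃ (A₀ : Type u) (_ : CommRing A₀) (_ : Algebra B A₀) (_ : Algebra.FinitePresentation B A₀)
      (k : A₀ →+* A.obj.right), k.comp (algebraMap B A₀) = A.obj.hom.hom ∧ IsPRadical k p := by
  classical
  letI : Algebra B A.obj.right := A.obj.hom.hom.toAlgebra
  have hR : Perf p A.obj.right := A.property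
  by_cases hsub : Subsingleton A.obj.right
  · refine ⟨B ⧸ (⊤ : Ideal B), inferInstance, inferInstance,
      Algebra.FinitePresentation.quotient ⟨{1}, by simp⟩,
      Ideal.Quotient.lift ⊤ A.obj.hom.hom (fun a _ => Subsingleton.elim _ _), ?_, ⟨?_, ?_⟩⟩
    · ext b
      exact Subsingleton.elim _ _
    · intro x
      exact ⟨0, 0, Subsingleton.elim _ _⟩
    · intro y _
      have : y = 0 := by
        obtain ⟨b, rfl⟩ := Ideal.Quotient.mk_surjective y
        exact Ideal.Quotient.eq_zero_iff_mem.2 Submodule.mem_top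
      rw [this]
      exact Ideal.zero_mem _
  · haveI : Nontrivial A.obj.right := not_subsingleton_iff_nontrivial.1 hsub
    haveI : IsFinitelyPresentable.{u} (mkC (algebraMap B A.obj.right) hR) := hA
    obtain ⟨S, hS⟩ := exists_finset_generating (B := B) hR
    let v : ↥(S : Set A.obj.right) → A.obj.right := fun s => s.1
    have hrange : Algebra.adjoin B (S : Set A.obj.right) =
        (MvPolynomial.aeval v : MvPolynomial ↥(S : Set A.obj.right) B →ₐ[B] A.obj.right).range :=
      Algebra.adjoin_eq_range B _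
    obtain ⟨I₀, hfg, hle, hrad⟩ := exists_fg_radical (B := B) hR v (by rw [← hrange]; exact hS)
    refine ⟨MvPolynomial ↥(S : Set A.obj.right) B ⧸ I₀, inferInstance, inferInstance,
      Algebra.FinitePresentation.quotient hfg,
      Ideal.Quotient.lift I₀ (MvPolynomial.aeval v :
        MvPolynomial ↥(S : Set A.obj.right) B →ₐ[B] A.obj.right).toRingHom (fun g hg => hle hg),
      ?_, ⟨?_, ?_⟩⟩
    · ext b
      exact MvPolynomial.aeval_C v b
    · intro x
      obtain ⟨n, hn⟩ := hS x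
      rw [hrange] at hn
      obtain ⟨g, hg⟩ := hn
      exact ⟨n, Ideal.Quotient.mk I₀ g, hg⟩
    · intro y hy
      obtain ⟨g, rfl⟩ := Ideal.Quotient.mk_surjective y
      rw [RingHom.mem_ker, Ideal.Quotient.lift_mk] at hy
      obtain ⟨N, hN⟩ := hrad g hy
      rw [mem_pNilradical]
      refine ⟨N, ?_⟩
      have hle' : N ≤ p ^ N := (Nat.lt_pow_self hp.out.one_lt).le
      rw [← Nat.sub_add_cancel hle', pow_add, ← map_pow (Ideal.Quotient.mk I₀) g N,
        Ideal.Quotient.eq_zero_iff_mem.2 hN, mul_zero]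

end Groth.Agent.Lib.Helper11.PerfFP
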