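import Mathlib

set_option autoImplicit false
universe u

namespace Groth.Agent.Lib.Helper11PerfFlat

open Module

section Alg

/-- iterate p-power in char p ring is additive: `(∑ x_i)^(p^n) = ∑ x_i^(p^n)` -/
theorem sum_pow_char_pow' {R : Type*} [CommRing R] (p : ℕ) [Fact p.Prime] (hp : (p : R) = 0)
    {ι : Type*} (s : Finset ι) (f : ι → R) (n : ℕ) :
    (∑ i ∈ s, f i) ^ p ^ n = ∑ i ∈ s, f i ^ p ^ n := by
  rcases subsingleton_or_nontrivial R with h | h
  · exact Subsingleton.elim _ _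
  · have : CharP R p := (CharP.charP_iff_prime_eq_zero Fact.out).2 hp
    exact sum_pow_char_pow p n s f

theorem pow_pow_bijective {R : Type*} [Monoid R] (p : ℕ)
    (h : Function.Bijective (fun s : R => s ^ p)) (n : ℕ) :
    Function.Bijective (fun s : R => s ^ p ^ n) := by
  induction n with
  | zero =>
    have : (fun s : R => s ^ p ^ 0) = id := by funext s; simp
    rw [this]
    exact Function.bijective_id
  | succ n ih =>
    have : (fun s : R => s ^ p ^ (n + 1)) = (fun s : R => s ^ p) ∘ (fun s : R => s ^ p ^ n) := by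
      funext s
      simp [pow_succ, pow_mul]
    rw [this]
    exact h.comp ih

theorem exists_common_pow {R S : Type*} [CommRing R] [CommRing S] (p : ℕ) (α : R →+* S)
    (hα : ∀ t : S, ∃ (n : ℕ) (a : R), α a = t ^ p ^ n) {l : ℕ} (t : Fin l → S) :
    ∃ (N : ℕ), ∀ M, N ≤ M → ∀ i, ∃ a : R, α a = t i ^ p ^ M := by
  choose n a h using fun i => hα (t i)
  refine ⟨Finset.univ.sup n, fun M hM i => ⟨a i ^ p ^ (M - n i), ?_⟩⟩
  have : n i ≤ M := (Finset.le_sup (Finset.mem_univ i)).trans hM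
  rw [map_pow, h, ← pow_mul, ← pow_add, Nat.add_sub_cancel' this]

variable {A B A' B' : Type u} [CommRing A] [CommRing B] [CommRing A'] [CommRing B']

theorem flat_of_pRadical_alg (p : ℕ) [Fact p.Prime] [Algebra A B] [Algebra A' B']
    [Module.Flat A B] (α : A →+* A') (β : B →+* B')
    (hcomm' : ∀ a, algebraMap A' B' (α a) = β (algebraMap A B a))
    (hpA' : (p : A') = 0) (hpB' : (p : B') = 0) (hpB : (p : B) = 0)
    (hA' : Function.Bijective (fun s : A' => s ^ p))
    (hB' : Function.Bijective (fun s : B' => s ^ p))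
    (hα : ∀ t : A', ∃ (n : ℕ) (a : A), α a = t ^ p ^ n)
    (hβ : ∀ t : B', ∃ (n : ℕ) (b : B), β b = t ^ p ^ n)
    (hker : ∀ b : B, β b = 0 → IsNilpotent b) : Module.Flat A' B' := by
  have hp2 : 2 ≤ p := (Fact.out : p.Prime).two_le
  apply Module.Flat.of_forall_isTrivialRelation
  intro l f x hfx
  have hfx' : ∑ i, algebraMap A' B' (f i) * x i = 0 := by
    rw [← hfx]
    exact Finset.sum_congr rfl fun i _ => (Algebra.smul_def _ _).symm
  obtain ⟨N₁, hN₁⟩ := exists_common_pow p α hα f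
  obtain ⟨N₂, hN₂⟩ := exists_common_pow p β hβ x
  obtain ⟨N, hN1, hN2⟩ : ∃ N, N₁ ≤ N ∧ N₂ ≤ N := ⟨max N₁ N₂, le_max_left _ _, le_max_right _ _⟩
  choose a ha using hN₁ N hN1
  choose b hb using hN₂ N hN2
  -- the relation holds in `B` up to nilpotents
  have h1 : β (∑ i, algebraMap A B (a i) * b i) = 0 := by
    rw [map_sum]
    have : ∀ i, β (algebraMap A B (a i) * b i) = (algebraMap A' B' (f i) * x i) ^ p ^ N := by
      intro i
      rw [map_mul, ← hcomm', ha, hb, map_pow, mul_pow]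
    simp_rw [this]
    rw [← sum_pow_char_pow' p hpB', hfx', zero_pow (pow_pos (by omega) _).ne']
  obtain ⟨k, hk⟩ := hker _ h1
  have hkM : k ≤ p ^ k := (Nat.lt_pow_self (by omega)).le
  have h2 : ∑ i, algebraMap A B (a i ^ p ^ k) * b i ^ p ^ k = 0 := by
    have := pow_eq_zero_of_le hkM hk
    rw [sum_pow_char_pow' p hpB] at this
    rw [← this]
    exact Finset.sum_congr rfl fun i _ => by rw [mul_pow, map_pow]
  -- flatness of `B` over `A`
  have h3 : ∑ i, (a i ^ p ^ k) • (b i ^ p ^ k) = 0 := by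
    rw [← h2]
    exact Finset.sum_congr rfl fun i _ => Algebra.smul_def _ _
  obtain ⟨m, c, y, hy, hc⟩ := Module.Flat.isTrivialRelation_of_sum_smul_eq_zero (R := A) (M := B)
    (f := fun i => a i ^ p ^ k) (x := fun i => b i ^ p ^ k) h3
  simp only at hy hc
  -- roots
  have bA := pow_pow_bijective p hA' (N + k)
  have bB := pow_pow_bijective p hB' (N + k)
  choose c' hc' using fun i j => bA.2 (α (c i j))
  choose y' hy' using fun j => bB.2 (β (y j))
  simp only at hc' hy'
  refine ⟨m, c', y', fun i => ?_, fun j => ?_⟩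
  · apply bB.1
    show x i ^ p ^ (N + k) = (∑ j, c' i j • y' j) ^ p ^ (N + k)
    rw [sum_pow_char_pow' p hpB']
    have : ∀ j, (c' i j • y' j) ^ p ^ (N + k) = β (algebraMap A B (c i j) * y j) := by
      intro j
      rw [Algebra.smul_def, mul_pow, ← map_pow, hc', hy', hcomm', map_mul]
    simp_rw [this]
    rw [← map_sum, pow_add, pow_mul, ← hb, ← map_pow, hy i]
    congr 1
    exact Finset.sum_congr rfl fun j _ => Algebra.smul_def _ _
  · apply bA.1
    show (∑ i, f i * c' i j) ^ p ^ (N + k) = 0 ^ p ^ (N + k)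
    rw [sum_pow_char_pow' p hpA', zero_pow (pow_pos (by omega) _).ne']
    have : ∀ i, (f i * c' i j) ^ p ^ (N + k) = α (a i ^ p ^ k * c i j) := by
      intro i
      rw [mul_pow, hc', pow_add, pow_mul, ← ha, map_mul, map_pow]
    simp_rw [this]
    rw [← map_sum, hc j, map_zero]

theorem flat_of_pRadical (p : ℕ) [Fact p.Prime]
    (φ : A →+* B) (α : A →+* A') (β : B →+* B') (φ' : A' →+* B')
    (hcomm : φ'.comp α = β.comp φ) (hφ : φ.Flat)
    (hpA' : (p : A') = 0) (hpB' : (p : B') = 0) (hpB : (p : B) = 0)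
    (hA' : Function.Bijective (fun s : A' => s ^ p))
    (hB' : Function.Bijective (fun s : B' => s ^ p))
    (hα : ∀ t : A', ∃ (n : ℕ) (a : A), α a = t ^ p ^ n)
    (hβ : ∀ t : B', ∃ (n : ℕ) (b : B), β b = t ^ p ^ n)
    (hker : ∀ b : B, β b = 0 → IsNilpotent b) : φ'.Flat := by
  algebraize [φ, φ']
  have hcomm' : ∀ a, φ' (α a) = β (φ a) := fun a => congrArg (fun g => g a) hcomm
  exact flat_of_pRadical_alg p α β hcomm' hpA' hpB' hpB hA' hB' hα hβ hker

end Alg

end Groth.Agent.Lib.Helper11PerfFlat
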