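import Groth.Agent.Lib.Helper20Perfection
import Groth.Agent.Lib.Helper11PerfFlat

/-!
# Perfection of a flat morphism is flat (helper11)
-/

set_option autoImplicit false
universe u

namespace Groth.Agent.Lib.Helper11PerfFlatSch

open CategoryTheory AlgebraicGeometry
open FrobSch Groth.Agent.Lib.Helper20.Perfection Groth.Agent.Lib.Helper20.AWN

theorem appLE_eq_of_eq {X Y : Scheme.{u}} {h₁ h₂ : X ⟶ Y} (h : h₁ = h₂) (V : Y.Opens)
    (W : X.Opens) (e₁ : W ≤ h₁ ⁻¹ᵁ V) (e₂ : W ≤ h₂ ⁻¹ᵁ V) :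
    h₁.appLE V W e₁ = h₂.appLE V W e₂ := by
  subst h
  rfl

theorem flat_stable :
    RingHom.StableUnderCompositionWithLocalizationAwaySource RingHom.Flat :=
  fun _ S _ _ _ _ _ r _ _ hf => RingHom.Flat.comp (RingHom.Flat.holdsForLocalizationAway S r) hf

/-- the kernel of the map on sections (over an affine open) of a perfection is nil -/
theorem ker_nil_of_isPerfection (p : ℕ) [Fact p.Prime] {XP X : Scheme.{u}} (π : XP ⟶ X)
    [IsCharP XP p] [IsCharP X p] (hπ : IsPerfection π p) (U : X.Opens) (hU : IsAffineOpen U)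
    (a : Γ(X, U)) (ha : π.app U a = 0) : IsNilpotent a := by
  obtain ⟨h1, h2, h3⟩ := props_of_isPerfection p π hπ
  have : IsAffineHom π := inferInstance
  have hUH : UH (π.app U).hom := by
    have := Groth.Agent.Lib.Helper20.PerfSch.isUnivHomeo_SpecMap_app π
      (isUnivHomeo_of_isPerfection p π hπ) U hU
    rwa [← isUnivHomeo_iff_UH]
  have := UH.ker_le_nilradical (π.app U).hom hUH (RingHom.mem_ker.mpr ha)
  exact this

/-- the perfection of a flat morphism is flat -/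
theorem flat_perfection (p : ℕ) [Fact p.Prime] {X Y XP YP : Scheme.{u}}
    [FrobSch.IsCharP X p] [FrobSch.IsCharP Y p] [FrobSch.IsCharP XP p] [FrobSch.IsCharP YP p]
    (πX : XP ⟶ X) (πY : YP ⟶ Y) (hX : FrobSch.IsPerfection πX p) (hY : FrobSch.IsPerfection πY p)
    (f : X ⟶ Y) (fP : XP ⟶ YP) (w : fP ≫ πY = πX ≫ f)
    [AlgebraicGeometry.Flat f] : AlgebraicGeometry.Flat fP := by
  obtain ⟨hX1, hX2, hX3⟩ := props_of_isPerfection p πX hX
  obtain ⟨hY1, hY2, hY3⟩ := props_of_isPerfection p πY hY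
  have : IsAffineHom πX := inferInstance
  have : IsAffineHom πY := inferInstance
  rw [HasRingHomProperty.iff_exists_appLE (P := @Flat) flat_stable]
  intro x'
  obtain ⟨_, ⟨V, hV, rfl⟩, hyV, -⟩ :=
    Y.isBasis_affineOpens.exists_subset_of_mem_open (Set.mem_univ (f (πX x'))) isOpen_univ
  obtain ⟨_, ⟨U, hU, rfl⟩, hxU, hUV⟩ :=
    X.isBasis_affineOpens.exists_subset_of_mem_open (show πX x' ∈ (f ⁻¹ᵁ V : Set X) from hyV)
      (f ⁻¹ᵁ V).2
  have e : U ≤ f ⁻¹ᵁ V := hUV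
  have e' : πX ⁻¹ᵁ U ≤ fP ⁻¹ᵁ (πY ⁻¹ᵁ V) := by
    intro z hz
    show πY (fP z) ∈ V
    have : πY (fP z) = f (πX z) := by
      have := congrArg (fun g : XP ⟶ Y => g z) w
      simpa using this
    rw [this]
    exact e hz
  refine ⟨⟨πY ⁻¹ᵁ V, hV.preimage πY⟩, ⟨πX ⁻¹ᵁ U, hU.preimage πX⟩, hxU, e', ?_⟩
  have hcomm : πY.app V ≫ fP.appLE (πY ⁻¹ᵁ V) (πX ⁻¹ᵁ U) e' = f.appLE V U e ≫ πX.app U := by
    rw [← Scheme.Hom.comp_appLE, ← Scheme.Hom.appLE_eq_app πX, Scheme.Hom.appLE_comp_appLE]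
    exact appLE_eq_of_eq w _ _ _ _
  have hfl : (f.appLE V U e).hom.Flat :=
    HasRingHomProperty.appLE (P := @Flat) f inferInstance ⟨V, hV⟩ ⟨U, hU⟩ e
  refine Groth.Agent.Lib.Helper11PerfFlat.flat_of_pRadical p (f.appLE V U e).hom (πY.app V).hom
    (πX.app U).hom (fP.appLE (πY ⁻¹ᵁ V) (πX ⁻¹ᵁ U) e').hom ?_ hfl
    (natCast_eq_zero_app YP p _) (natCast_eq_zero_app XP p _) (natCast_eq_zero_app X p _)
    (bijective_pow_app_of_isPerfect p YP hY.1 _) (bijective_pow_app_of_isPerfect p XP hX.1 _)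
    (exists_pow_eq_app_of_isPerfection p πY hY V hV)
    (exists_pow_eq_app_of_isPerfection p πX hX U hU)
    (ker_nil_of_isPerfection p πX hX U hU)
  have := congrArg CommRingCat.Hom.hom hcomm
  simpa using this

/-- the perfection of a surjective morphism is surjective -/
theorem surjective_perfection (p : ℕ) [Fact p.Prime] {X Y XP YP : Scheme.{u}}
    [FrobSch.IsCharP X p] [FrobSch.IsCharP Y p] [FrobSch.IsCharP XP p] [FrobSch.IsCharP YP p]
    (πX : XP ⟶ X) (πY : YP ⟶ Y) (hX : FrobSch.IsPerfection πX p) (hY : FrobSch.IsPerfection πY p)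
    (f : X ⟶ Y) (fP : XP ⟶ YP) (w : fP ≫ πY = πX ≫ f)
    [AlgebraicGeometry.Surjective f] : AlgebraicGeometry.Surjective fP := by
  obtain ⟨hX1, hX2, hX3⟩ := props_of_isPerfection p πX hX
  have hinj : Function.Injective πY := (isHomeomorph_of_isPerfection p πY hY).injective
  refine ⟨fun y' => ?_⟩
  obtain ⟨x, hx⟩ := f.surjective (πY y')
  obtain ⟨x', rfl⟩ := πX.surjective x
  refine ⟨x', hinj ?_⟩
  rw [← hx]
  have := congrArg (fun g : XP ⟶ Y => g x') w
  simpa using this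

end Groth.Agent.Lib.Helper11PerfFlatSch
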