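import Mathlib
import Groth.Agent.Lib.Helper11PerfTorA

/-!
# Helper11 PerfTor B: for a perfect ring `R`, `f ∈ R` and a reduced `R`-algebra `D`, the map
`D ⊗ rad(f) → D ⊗ R` is injective.
-/

set_option autoImplicit false
universe u v

namespace Groth.Agent.Lib.Helper11.PerfTor

open TensorProduct

variable {p : ℕ} [hp : Fact p.Prime] {R : Type*} [CommRing R]

/-- the compatible system of `p^n`-th roots of `f` -/
noncomputable def rootSeq (h : Perf p R) (f : R) : ℕ → R
  | 0 => f
  | n + 1 => h.root (rootSeq h f n)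

theorem rootSeq_succ_pow (h : Perf p R) (f : R) (n : ℕ) :
    rootSeq h f (n + 1) ^ p = rootSeq h f n := h.root_pow _

theorem rootSeq_pow (h : Perf p R) (f : R) (n : ℕ) : rootSeq h f n ^ p ^ n = f := by
  induction n with
  | zero => simp [rootSeq]
  | succ n ih => rw [pow_succ', pow_mul, rootSeq_succ_pow, ih]

theorem rootSeq_mem (h : Perf p R) (f : R) (n : ℕ) :
    rootSeq h f n ∈ (Ideal.span {f}).radical :=
  ⟨p ^ n, by rw [rootSeq_pow]; exact Ideal.subset_span rfl⟩

theorem exists_eq_mul_rootSeq (h : Perf p R) (f : R) (x : R)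
    (hx : x ∈ (Ideal.span {f}).radical) : ∃ n c, x = c * rootSeq h f n := by
  obtain ⟨m, hm⟩ := hx
  obtain ⟨c, hc⟩ := Ideal.mem_span_singleton.mp hm
  have hmle : m ≤ p ^ m := (Nat.lt_pow_self hp.out.one_lt).le
  obtain ⟨y, hy⟩ := h.pow_surjective m (x ^ (p ^ m - m) * c)
  simp only at hy
  refine ⟨m, y, ?_⟩
  apply h.pow_injective m
  simp only
  rw [mul_pow, rootSeq_pow, hy, mul_assoc, mul_comm c f, ← hc, ← pow_add,
    Nat.sub_add_cancel hmle]

theorem rootSeq_eq_mul (h : Perf p R) (f : R) (n m : ℕ) (hnm : n ≤ m) :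
    ∃ a, rootSeq h f n = a * rootSeq h f m := by
  induction m, hnm using Nat.le_induction with
  | base => exact ⟨1, (one_mul _).symm⟩
  | succ m _ ih =>
    obtain ⟨a, ha⟩ := ih
    refine ⟨a * rootSeq h f (m + 1) ^ (p - 1), ?_⟩
    rw [mul_assoc, ← pow_succ, Nat.sub_add_cancel hp.out.one_le, rootSeq_succ_pow, ha]

variable (D : Type*) [CommRing D] [Algebra R D]

/-- every element of `D ⊗ rad(f)` is a pure tensor `d ⊗ f^{1/p^n}` -/
theorem exists_eq_tmul_rootSeq (h : Perf p R) (f : R)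
    (z : D ⊗[R] ↥((Ideal.span {f}).radical)) :
    ∃ (n : ℕ) (d : D), z = d ⊗ₜ[R] (⟨rootSeq h f n, rootSeq_mem h f n⟩ :
      ↥((Ideal.span {f}).radical)) := by
  induction z using TensorProduct.induction_on with
  | zero => exact ⟨0, 0, (zero_tmul _ _).symm⟩
  | tmul d x =>
    obtain ⟨n, c, hc⟩ := exists_eq_mul_rootSeq h f x x.2
    refine ⟨n, c • d, ?_⟩
    rw [smul_tmul]
    congr 1
    exact Subtype.ext hc
  | add x y hx hy =>
    obtain ⟨n, d, rfl⟩ := hx
    obtain ⟨m, e, rfl⟩ := hy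
    obtain ⟨a, ha⟩ := rootSeq_eq_mul h f n (max n m) (le_max_left _ _)
    obtain ⟨b, hb⟩ := rootSeq_eq_mul h f m (max n m) (le_max_right _ _)
    refine ⟨max n m, a • d + b • e, ?_⟩
    rw [add_tmul, smul_tmul, smul_tmul]
    congr 2
    · exact Subtype.ext ha
    · exact Subtype.ext hb

/-- **Key lemma**: for a perfect ring `R`, `f ∈ R` and a reduced `R`-algebra `D`, the map
`D ⊗ rad(f) → D ⊗ R` is injective. -/
theorem lTensor_radical_injective (h : Perf p R) (f : R) (hD : ∀ d : D, d ^ p = 0 → d = 0) :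
    Function.Injective
      (LinearMap.lTensor D (Submodule.subtype ((Ideal.span {f}).radical))) := by
  rw [injective_iff_map_eq_zero]
  intro z hz
  obtain ⟨n, d, rfl⟩ := exists_eq_tmul_rootSeq D h f z
  rw [LinearMap.lTensor_tmul] at hz
  have h1 : rootSeq h f n • d = 0 := by
    have := congrArg (TensorProduct.rid R D) hz
    simpa using this
  have h2 : rootSeq h f (n + 1) ^ (p - 1) • d = 0 := by
    apply hD
    obtain ⟨q, hq⟩ : ∃ q, p = q + 2 := ⟨p - 2, by have := hp.out.two_le; omega⟩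
    have e1 : p - 1 = q + 1 := by omega
    rw [Algebra.smul_def, mul_pow, ← map_pow, ← pow_mul, mul_comm (p - 1) p, pow_mul,
      rootSeq_succ_pow, e1, pow_succ, map_mul]
    rw [Algebra.smul_def] at h1
    have e2 : d ^ p = d * d ^ (q + 1) := by rw [hq, pow_succ' d (q + 1)]
    rw [e2, mul_assoc, ← mul_assoc (algebraMap R D (rootSeq h f n)) d, h1, zero_mul, mul_zero]
  have h3 : (⟨rootSeq h f n, rootSeq_mem h f n⟩ : ↥((Ideal.span {f}).radical)) =
      rootSeq h f (n + 1) ^ (p - 1) •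
        (⟨rootSeq h f (n + 1), rootSeq_mem h f (n + 1)⟩ : ↥((Ideal.span {f}).radical)) := by
    apply Subtype.ext
    show rootSeq h f n = rootSeq h f (n + 1) ^ (p - 1) * rootSeq h f (n + 1)
    rw [← pow_succ, Nat.sub_add_cancel hp.out.one_le, rootSeq_succ_pow]
  rw [h3, ← smul_tmul, h2, zero_tmul]

end Groth.Agent.Lib.Helper11.PerfTor
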