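import Mathlib
import Groth.Agent.S2380

/-!
# Flat base change for Tor   (helper13)

For a flat ring map `A → A'`, `E := extendScalars` is exact, monoidal and preserves projectives, so
`E (Tor_n^A(M, N)) ≅ Tor_n^{A'}(E M, E N)`.
-/

set_option autoImplicit false
universe u
open CategoryTheory MonoidalCategory Limits

namespace Groth.Agent.Helper13TorBC

variable (A A' : Type u) [CommRing A] [CommRing A'] [Algebra A A']

/-- extension of scalars along `A → A'` -/
noncomputable abbrev E : ModuleCat.{u} A ⥤ ModuleCat.{u} A' :=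
  ModuleCat.extendScalars.{u,u,u} (algebraMap A A')

noncomputable instance : PreservesFiniteColimits (E A A') := by
  have := (ModuleCat.extendRestrictScalarsAdj.{u,u,u} (algebraMap A A')).leftAdjoint_preservesColimits
  infer_instance

instance : (E A A').Additive :=
  (ModuleCat.extendRestrictScalarsAdj.{u,u,u} (algebraMap A A')).left_adjoint_additive

instance : (E A A').PreservesProjectiveObjects :=
  Functor.preservesProjectiveObjects_of_adjunction_of_preservesEpimorphisms
    (ModuleCat.extendRestrictScalarsAdj.{u,u,u} (algebraMap A A'))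

/-- `E (M ⊗ X) ≅ E M ⊗ E X`, naturally in `X`. -/
noncomputable def α (M : ModuleCat.{u} A) :
    (tensorLeft M) ⋙ E A A' ≅ E A A' ⋙ tensorLeft ((E A A').obj M) :=
  NatIso.ofComponents (fun X => (Functor.Monoidal.μIso (E A A') M X).symm) (by
    intro X Y f
    exact (Functor.OplaxMonoidal.δ_natural_right (E A A') M f).symm)

section flat
variable [Module.Flat A A']

noncomputable instance : PreservesFiniteLimits (E A A') :=
  ModuleCat.preservesFiniteLimits_extendScalars_of_flat
    ((RingHom.flat_algebraMap_iff).2 inferInstance)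

noncomputable instance : (E A A').PreservesHomology := inferInstance

/-- **Flat base change for Tor**, categorical form. -/
theorem nonempty_extendScalars_tor_iso (M N : ModuleCat.{u} A) (n : ℕ) :
    Nonempty ((E A A').obj (((Tor (ModuleCat.{u} A) n).obj M).obj N) ≅
      ((Tor (ModuleCat.{u} A') n).obj ((E A A').obj M)).obj ((E A A').obj N)) := by
  let R := projectiveResolution N
  let R' := (E A A').mapProjectiveResolution R
  let iso1 : ((Tor (ModuleCat.{u} A) n).obj M).obj N ≅
      (((tensorLeft M).mapHomologicalComplex _).obj R.complex).homology n :=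
    R.isoLeftDerivedObj (tensorLeft M) n
  let iso2 : ((Tor (ModuleCat.{u} A') n).obj ((E A A').obj M)).obj ((E A A').obj N) ≅
      (((tensorLeft ((E A A').obj M)).mapHomologicalComplex _).obj R'.complex).homology n :=
    R'.isoLeftDerivedObj (tensorLeft ((E A A').obj M)) n
  let iso3 : ((((tensorLeft M) ⋙ E A A').mapHomologicalComplex _).obj R.complex).homology n ≅
      (E A A').obj ((((tensorLeft M).mapHomologicalComplex _).obj R.complex).homology n) :=
    ((((tensorLeft M).mapHomologicalComplex _).obj R.complex).sc n).mapHomologyIso (E A A')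
  let iso4 : ((((tensorLeft M) ⋙ E A A').mapHomologicalComplex _).obj R.complex).homology n ≅
      (((E A A' ⋙ tensorLeft ((E A A').obj M)).mapHomologicalComplex _).obj R.complex).homology n :=
    (HomologicalComplex.homologyFunctor _ _ n).mapIso
      ((NatIso.mapHomologicalComplex (α A A' M) _).app R.complex)
  exact ⟨(E A A').mapIso iso1 ≪≫ iso3.symm ≪≫ iso4 ≪≫ iso2.symm⟩

/-- **Flat base change for Tor**, module form. -/
theorem nonempty_tor_baseChange (P Q : Type u) [AddCommGroup P] [Module A P] [AddCommGroup Q]
    [Module A Q] (n : ℕ) :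
    Nonempty (TensorProduct A A'
        (((Tor (ModuleCat.{u} A) n).obj (ModuleCat.of A P)).obj (ModuleCat.of A Q)) ≃ₗ[A']
      (((Tor (ModuleCat.{u} A') n).obj (ModuleCat.of A' (TensorProduct A A' P))).obj
        (ModuleCat.of A' (TensorProduct A A' Q)))) := by
  obtain ⟨i⟩ := nonempty_extendScalars_tor_iso A A' (ModuleCat.of A P) (ModuleCat.of A Q) n
  let iP : (E A A').obj (ModuleCat.of A P) ≅ ModuleCat.of A' (TensorProduct A A' P) :=
    (Groth.Agent.S2380.bridge A A' (ModuleCat.of A P)).toModuleIso
  let iQ : (E A A').obj (ModuleCat.of A Q) ≅ ModuleCat.of A' (TensorProduct A A' Q) :=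
    (Groth.Agent.S2380.bridge A A' (ModuleCat.of A Q)).toModuleIso
  let j : ((Tor (ModuleCat.{u} A') n).obj ((E A A').obj (ModuleCat.of A P))).obj
        ((E A A').obj (ModuleCat.of A Q)) ≅
      ((Tor (ModuleCat.{u} A') n).obj (ModuleCat.of A' (TensorProduct A A' P))).obj
        (ModuleCat.of A' (TensorProduct A A' Q)) :=
    ((Tor (ModuleCat.{u} A') n).mapIso iP).app _ ≪≫
      ((Tor (ModuleCat.{u} A') n).obj _).mapIso iQ
  exact ⟨(Groth.Agent.S2380.bridge A A' _).symm ≪≫ₗ (i ≪≫ j).toLinearEquiv⟩

end flat

end Groth.Agent.Helper13TorBC
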