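import Mathlib
import Groth.Agent.S2380
import Groth.Agent.Lib.Helper13TorBC
import Groth.Agent.Lib.Helper13TorBal

/-!
# Base change for Tor under Tor-independence   (helper13)
-/

set_option autoImplicit false
universe u
open CategoryTheory MonoidalCategory Limits

namespace Groth.Agent.Helper13TorBC

variable (A A' : Type u) [CommRing A] [CommRing A'] [Algebra A A']

/-- `X ⊗_A A' ≃ A' ⊗_A X = E X` -/
noncomputable def c (X : ModuleCat.{u} A) :
    (X ⊗ (ModuleCat.of A A') : ModuleCat.{u} A) ≃+ ((E A A').obj X) :=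
  ((TensorProduct.comm A X A') ≪≫ₗ (Groth.Agent.S2380.bridgeR A A' X).symm).toAddEquiv

theorem c_natural {X Y : ModuleCat.{u} A} (f : X ⟶ Y)
    (y : (X ⊗ (ModuleCat.of A A') : ModuleCat.{u} A)) :
    c A A' Y ((f ▷ (ModuleCat.of A A')).hom y) = ((E A A').map f).hom (c A A' X y) := by
  induction y using TensorProduct.induction_on with
  | zero => simp
  | tmul x a => rfl
  | add y₁ y₂ h₁ h₂ => simp only [map_add, h₁, h₂]


variable {A} in
/-- Tor-independence gives exactness of the base-changed resolution in positive degrees. -/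
theorem exactAt_succ_of_tor {P : ModuleCat.{u} A} (R : ProjectiveResolution P)
    (hTor : ∀ q : ℕ, 0 < q →
      IsZero (((Tor (ModuleCat.{u} A) q).obj P).obj (ModuleCat.of A A'))) (n : ℕ) :
    (((E A A').mapHomologicalComplex _).obj R.complex).ExactAt (n + 1) := by
  obtain ⟨i⟩ := Helper13Tor.nonempty_tor_iso_homology P (ModuleCat.of A A') R (n + 1)
  have h1 : (((tensorRight (ModuleCat.of A A')).mapHomologicalComplex _).obj
      R.complex).ExactAt (n + 1) := by
    rw [HomologicalComplex.exactAt_iff_isZero_homology]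
    exact (hTor (n + 1) (by omega)).of_iso i.symm
  rw [HomologicalComplex.exactAt_iff' _ (n + 2) (n + 1) n (by simp) (by simp),
    ShortComplex.moduleCat_exact_iff] at h1 ⊢
  intro y' hy'
  have hy'' : ((E A A').map (R.complex.d (n + 1) n)).hom y' = 0 := hy'
  obtain ⟨y, hcy⟩ : ∃ y, c A A' (R.complex.X (n + 1)) y = y' :=
    ⟨(c A A' (R.complex.X (n + 1))).symm y', AddEquiv.apply_symm_apply _ _⟩
  have h0 : ((R.complex.d (n + 1) n) ▷ (ModuleCat.of A A')).hom y = 0 := by
    apply (c A A' (R.complex.X n)).injective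
    rw [c_natural, hcy, hy'']
    exact (map_zero _).symm
  obtain ⟨z, hz⟩ := h1 y h0
  have hz' : ((R.complex.d (n + 2) (n + 1)) ▷ (ModuleCat.of A A')).hom z = y := hz
  refine ⟨c A A' _ z, ?_⟩
  show ((E A A').map (R.complex.d (n + 2) (n + 1))).hom (c A A' _ z) = y'
  rw [← c_natural, hz', hcy]


variable {A} in
/-- the augmentation `R₀ ⟶ P` of a projective resolution -/
noncomputable def aug {P : ModuleCat.{u} A} (R : ProjectiveResolution P) : R.complex.X 0 ⟶ P :=
  ((ChainComplex.toSingle₀Equiv _ _) R.π).1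

variable {A} in
theorem d_aug {P : ModuleCat.{u} A} (R : ProjectiveResolution P) :
    R.complex.d 1 0 ≫ aug R = 0 :=
  ((ChainComplex.toSingle₀Equiv _ _) R.π).2

variable {A} in
theorem aug_exact {P : ModuleCat.{u} A} (R : ProjectiveResolution P) :
    (ShortComplex.mk (R.complex.d 1 0) (aug R) (d_aug R)).Exact :=
  ShortComplex.exact_of_g_is_cokernel _ R.isColimitCokernelCofork

variable {A} in
instance aug_epi {P : ModuleCat.{u} A} (R : ProjectiveResolution P) : Epi (aug R) :=
  inferInstanceAs (Epi (R.π.f 0))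

variable {A} in
/-- Under Tor-independence, base change of a projective resolution is a projective resolution. -/
noncomputable def mapRes {P : ModuleCat.{u} A} (R : ProjectiveResolution P)
    (hTor : ∀ q : ℕ, 0 < q →
      IsZero (((Tor (ModuleCat.{u} A) q).obj P).obj (ModuleCat.of A A'))) :
    ProjectiveResolution ((E A A').obj P) where
  complex := ((E A A').mapHomologicalComplex _).obj R.complex
  projective n := Functor.PreservesProjectiveObjects.projective_obj (F := E A A')
    (R.projective n)
  π := (ChainComplex.toSingle₀Equiv _ _).symm ⟨(E A A').map (aug R), by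
    show (E A A').map (R.complex.d 1 0) ≫ (E A A').map (aug R) = 0
    rw [← (E A A').map_comp, d_aug, (E A A').map_zero]⟩
  quasiIso := ⟨fun n => by
    cases n with
    | zero =>
      rw [ChainComplex.quasiIsoAt₀_iff]
      have hg₁ : ((HomologicalComplex.shortComplexFunctor' (ModuleCat.{u} A')
          (ComplexShape.down ℕ) 1 0 0).obj
          (((E A A').mapHomologicalComplex (ComplexShape.down ℕ)).obj R.complex)).g = 0 := by
        show (((E A A').mapHomologicalComplex (ComplexShape.down ℕ)).obj R.complex).d 0 0 = 0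
        exact HomologicalComplex.shape _ _ _ (by simp)
      rw [ShortComplex.quasiIso_iff_of_zeros' _ hg₁ rfl rfl]
      have hS' := (aug_exact R).map_of_epi_of_preservesCokernel (E A A')
        (by dsimp; infer_instance) inferInstance
      have hepi : Epi ((E A A').map (aug R)) := inferInstance
      have hd : (((E A A').mapHomologicalComplex (ComplexShape.down ℕ)).obj R.complex).d 1 0 ≫
          (E A A').map (aug R) = 0 := by
        show (E A A').map (R.complex.d 1 0) ≫ (E A A').map (aug R) = 0
        rw [← (E A A').map_comp, d_aug, (E A A').map_zero]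
      have hτ : ((ChainComplex.toSingle₀Equiv
          (((E A A').mapHomologicalComplex (ComplexShape.down ℕ)).obj R.complex)
          ((E A A').obj P)).symm ⟨(E A A').map (aug R), hd⟩).f 0 = (E A A').map (aug R) :=
        ChainComplex.toSingle₀Equiv_symm_apply_f_zero _ _
      refine ⟨?_, ?_⟩
      · refine ShortComplex.exact_of_iso ?_ hS'
        refine ShortComplex.isoMk (Iso.refl _) (Iso.refl _) (Iso.refl _) ?_ ?_
        · show 𝟙 _ ≫ (E A A').map (R.complex.d 1 0) = (E A A').map (R.complex.d 1 0) ≫ 𝟙 _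
          rw [Category.id_comp, Category.comp_id]
        · show 𝟙 _ ≫ ((ChainComplex.toSingle₀Equiv
            (((E A A').mapHomologicalComplex (ComplexShape.down ℕ)).obj R.complex)
            ((E A A').obj P)).symm ⟨(E A A').map (aug R), hd⟩).f 0 = (E A A').map (aug R) ≫ 𝟙 _
          rw [hτ, Category.id_comp, Category.comp_id]
      · show Epi (((ChainComplex.toSingle₀Equiv
            (((E A A').mapHomologicalComplex (ComplexShape.down ℕ)).obj R.complex)
            ((E A A').obj P)).symm ⟨(E A A').map (aug R), hd⟩).f 0)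
        rw [hτ]
        exact hepi
    | succ n =>
      rw [quasiIsoAt_iff_exactAt']
      · exact exactAt_succ_of_tor A' R hTor n
      · apply ChainComplex.exactAt_succ_single_obj⟩


/-- restriction of scalars along `A → A'` -/
noncomputable abbrev ρ : ModuleCat.{u} A' ⥤ ModuleCat.{u} A :=
  ModuleCat.restrictScalars.{u,u,u} (algebraMap A A')

section gamma
variable (Q' : Type u) [AddCommGroup Q'] [Module A' Q'] [Module A Q'] [IsScalarTower A A' Q']

/-- the `A'`-linear equivalence `(E X) ⊗_{A'} Q' ≃ Q' ⊗_A X` -/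
noncomputable def γ' (X : ModuleCat.{u} A) :
    (((E A A').obj X ⊗ ModuleCat.of A' Q' : ModuleCat.{u} A')) ≃ₗ[A'] TensorProduct A Q' X :=
  (TensorProduct.congr (Groth.Agent.S2380.bridge A A' X) (LinearEquiv.refl A' Q')) ≪≫ₗ
    (TensorProduct.comm A' (TensorProduct A A' X) Q') ≪≫ₗ
    (TensorProduct.AlgebraTensorModule.cancelBaseChange A A' A' Q' X)

/-- the `A`-linear equivalence `ρ ((E X) ⊗_{A'} Q') ≃ X ⊗_A Q'` -/
noncomputable def γ (X : ModuleCat.{u} A) :
    (ρ A A').obj ((E A A').obj X ⊗ ModuleCat.of A' Q') ≃ₗ[A]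
      (X ⊗ ModuleCat.of A Q' : ModuleCat.{u} A) where
  toFun z := TensorProduct.comm A Q' X (γ' A A' Q' X z)
  invFun w := (γ' A A' Q' X).symm ((TensorProduct.comm A Q' X).symm w)
  map_add' z w := by
    have h : γ' A A' Q' X (z + w) = γ' A A' Q' X z + γ' A A' Q' X w := map_add _ _ _
    rw [h, map_add]
  map_smul' a z := by
    show TensorProduct.comm A Q' X (γ' A A' Q' X (algebraMap A A' a •
      (show ↑((E A A').obj X ⊗ ModuleCat.of A' Q' : ModuleCat.{u} A') from z))) =
      a • TensorProduct.comm A Q' X (γ' A A' Q' X z)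
    rw [map_smul, algebraMap_smul, map_smul]
  left_inv z := by
    show (γ' A A' Q' X).symm ((TensorProduct.comm A Q' X).symm
      (TensorProduct.comm A Q' X (γ' A A' Q' X z))) = z
    rw [LinearEquiv.symm_apply_apply, LinearEquiv.symm_apply_apply]
  right_inv w := by
    show TensorProduct.comm A Q' X (γ' A A' Q' X ((γ' A A' Q' X).symm
      ((TensorProduct.comm A Q' X).symm w))) = w
    rw [LinearEquiv.apply_symm_apply, LinearEquiv.apply_symm_apply]

/-- left side of the naturality square, as an additive map -/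
noncomputable def natL {X Y : ModuleCat.{u} A} (f : X ⟶ Y) :
    ((E A A').obj X ⊗ ModuleCat.of A' Q' : ModuleCat.{u} A') →+
      (Y ⊗ ModuleCat.of A Q' : ModuleCat.{u} A) :=
  AddMonoidHom.comp (γ A A' Q' Y).toLinearMap.toAddMonoidHom
    (((E A A').map f) ▷ ModuleCat.of A' Q').hom.toAddMonoidHom

/-- right side of the naturality square, as an additive map -/
noncomputable def natR {X Y : ModuleCat.{u} A} (f : X ⟶ Y) :
    ((E A A').obj X ⊗ ModuleCat.of A' Q' : ModuleCat.{u} A') →+
      (Y ⊗ ModuleCat.of A Q' : ModuleCat.{u} A) :=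
  AddMonoidHom.comp (f ▷ ModuleCat.of A Q').hom.toAddMonoidHom
    (γ A A' Q' X).toLinearMap.toAddMonoidHom

theorem natL_eq_natR {X Y : ModuleCat.{u} A} (f : X ⟶ Y) :
    natL A A' Q' f = natR A A' Q' f := by
  apply AddMonoidHom.ext
  intro z
  induction z using TensorProduct.induction_on with
  | zero => rw [map_zero, map_zero]
  | tmul e q =>
    refine TensorProduct.induction_on (motive := fun e =>
      natL A A' Q' f ((show ↑((E A A').obj X) from e) ⊗ₜ[A'] q) =
        natR A A' Q' f ((show ↑((E A A').obj X) from e) ⊗ₜ[A'] q)) e ?_ ?_ ?_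
    · have h0 : ((show ↑((E A A').obj X) from 0) ⊗ₜ[A'] q :
          ((E A A').obj X ⊗ ModuleCat.of A' Q' : ModuleCat.{u} A')) = 0 :=
        TensorProduct.zero_tmul _ _
      exact (congrArg (natL A A' Q' f) h0).trans ((map_zero _).trans
        ((map_zero (natR A A' Q' f)).symm.trans (congrArg (natR A A' Q' f) h0).symm))
    · intro a' x
      rfl
    · intro e₁ e₂ h₁ h₂
      have hadd : ((show ↑((E A A').obj X) from e₁ + e₂) ⊗ₜ[A'] q :
          ((E A A').obj X ⊗ ModuleCat.of A' Q' : ModuleCat.{u} A')) =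
          (show ↑((E A A').obj X) from e₁) ⊗ₜ[A'] q +
            (show ↑((E A A').obj X) from e₂) ⊗ₜ[A'] q :=
        TensorProduct.add_tmul _ _ _
      refine (congrArg (natL A A' Q' f) hadd).trans ?_
      refine (map_add (natL A A' Q' f) _ _).trans ?_
      refine Eq.trans ?_ (congrArg (natR A A' Q' f) hadd).symm
      refine Eq.trans ?_ (map_add (natR A A' Q' f) _ _).symm
      exact congrArg₂ (· + ·) h₁ h₂
  | add z₁ z₂ h₁ h₂ => rw [map_add, map_add, h₁, h₂]

theorem γ_natural {X Y : ModuleCat.{u} A} (f : X ⟶ Y)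
    (z : ((E A A').obj X ⊗ ModuleCat.of A' Q' : ModuleCat.{u} A')) :
    γ A A' Q' Y ((((E A A').map f) ▷ ModuleCat.of A' Q').hom z) =
      (f ▷ ModuleCat.of A Q').hom (γ A A' Q' X z) :=
  DFunLike.congr_fun (natL_eq_natR A A' Q' f) z

/-- `ρ ((E X) ⊗_{A'} Q') ≅ X ⊗_A Q'`, naturally in `X`. -/
noncomputable def γIso :
    E A A' ⋙ tensorRight (ModuleCat.of A' Q') ⋙ ρ A A' ≅ tensorRight (ModuleCat.of A Q') :=
  NatIso.ofComponents (fun X => (γ A A' Q' X).toModuleIso) (by
    intro X Y f
    apply ModuleCat.hom_ext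
    apply LinearMap.ext
    intro z
    exact γ_natural A A' Q' f z)

variable {A} in
/-- **Base change for Tor under Tor-independence**, categorical form. -/
theorem nonempty_restrict_tor_iso (P : ModuleCat.{u} A)
    (hTor : ∀ q : ℕ, 0 < q →
      IsZero (((Tor (ModuleCat.{u} A) q).obj P).obj (ModuleCat.of A A'))) (n : ℕ) :
    Nonempty ((ρ A A').obj
        (((Tor (ModuleCat.{u} A') n).obj ((E A A').obj P)).obj (ModuleCat.of A' Q')) ≅
      ((Tor (ModuleCat.{u} A) n).obj P).obj (ModuleCat.of A Q')) := by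
  let R := projectiveResolution P
  let R' := mapRes A' R hTor
  obtain ⟨i1⟩ := Helper13Tor.nonempty_tor_iso_homology P (ModuleCat.of A Q') R n
  obtain ⟨i2⟩ := Helper13Tor.nonempty_tor_iso_homology ((E A A').obj P)
    (ModuleCat.of A' Q') R' n
  let i3 : (((E A A' ⋙ tensorRight (ModuleCat.of A' Q') ⋙ ρ A A').mapHomologicalComplex
        _).obj R.complex).homology n ≅
      (ρ A A').obj ((((tensorRight (ModuleCat.of A' Q')).mapHomologicalComplex _).obj
        R'.complex).homology n) :=
    ((((tensorRight (ModuleCat.of A' Q')).mapHomologicalComplex _).obj R'.complex).sc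
      n).mapHomologyIso (ρ A A')
  let i4 : (((E A A' ⋙ tensorRight (ModuleCat.of A' Q') ⋙ ρ A A').mapHomologicalComplex
        _).obj R.complex).homology n ≅
      (((tensorRight (ModuleCat.of A Q')).mapHomologicalComplex _).obj R.complex).homology n :=
    (HomologicalComplex.homologyFunctor _ _ n).mapIso
      ((NatIso.mapHomologicalComplex (γIso A A' Q') _).app R.complex)
  exact ⟨(ρ A A').mapIso i2 ≪≫ i3.symm ≪≫ i4 ≪≫ i1.symm⟩

end gamma

end Groth.Agent.Helper13TorBC
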