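import Mathlib

/-!
# The homology functor commutes with exact colimits (e.g. filtered colimits in AB5 categories)
-/

set_option autoImplicit false
open CategoryTheory CategoryTheory.Limits

namespace Groth.Agent.Helper13HomologyColim

universe v u v' u'
variable (J : Type u') [Category.{v'} J] (C : Type u) [Category.{v} C] [Abelian C]
  [HasColimitsOfShape J C]

/-- the colimit inclusion as a natural transformation `ev_j ⟶ colim`. -/
noncomputable def ιNat (j : J) : (evaluation J C).obj j ⟶ (colim : (J ⥤ C) ⥤ C) where
  app F := colimit.ι F j
  naturality F G α := by simp

variable {J C}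

/-- the canonical cocone with point `S.map colim`. -/
noncomputable def cocone₀ (S : ShortComplex (J ⥤ C)) :
    Cocone ((ShortComplex.functorEquivalence J C).functor.obj S) where
  pt := S.map colim
  ι :=
    { app := fun j => S.mapNatTrans (ιNat J C j)
      naturality := fun j j' f => by
        ext
        · simp only [ιNat, ShortComplex.functorEquivalence]
          exact (colimit.w S.X₁ f).trans (Category.comp_id _).symm
        · simp only [ιNat, ShortComplex.functorEquivalence]
          exact (colimit.w S.X₂ f).trans (Category.comp_id _).symm
        · simp only [ιNat, ShortComplex.functorEquivalence]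
          exact (colimit.w S.X₃ f).trans (Category.comp_id _).symm }

/-- `cocone₀ S` is a colimit cocone. -/
noncomputable def isColimitCocone₀ (S : ShortComplex (J ⥤ C)) : IsColimit (cocone₀ S) := by
  refine ShortComplex.isColimitOfIsColimitπ _ ?_ ?_ ?_
  · exact IsColimit.ofIsoColimit (colimit.isColimit S.X₁) (Cocone.ext (Iso.refl _) (by
      intro j; exact Category.comp_id _))
  · exact IsColimit.ofIsoColimit (colimit.isColimit S.X₂) (Cocone.ext (Iso.refl _) (by
      intro j; exact Category.comp_id _))
  · exact IsColimit.ofIsoColimit (colimit.isColimit S.X₃) (Cocone.ext (Iso.refl _) (by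
      intro j; exact Category.comp_id _))

variable [HasExactColimitsOfShape J C]

/-- homology in the functor category is computed pointwise. -/
noncomputable def homologyDiagramIso (S : ShortComplex (J ⥤ C)) :
    (ShortComplex.functorEquivalence J C).functor.obj S ⋙ ShortComplex.homologyFunctor C ≅
      S.homology :=
  NatIso.ofComponents (fun j => S.mapHomologyIso ((evaluation J C).obj j)) (by
    intro j j' f
    have h := NatTrans.app_homology ((evaluation J C).map f) S
    have h' : S.homology.map f = (S.mapHomologyIso ((evaluation J C).obj j)).inv ≫
        ShortComplex.homologyMap (S.mapNatTrans ((evaluation J C).map f)) ≫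
          (S.mapHomologyIso ((evaluation J C).obj j')).hom := h
    rw [h']
    simp only [ShortComplex.functorEquivalence]
    exact (Iso.hom_inv_id_assoc _ _).symm)

/-- the homology functor sends `cocone₀ S` to a colimit cocone. -/
noncomputable def isColimitMapCocone₀ (S : ShortComplex (J ⥤ C)) :
    IsColimit ((ShortComplex.homologyFunctor C).mapCocone (cocone₀ S)) := by
  let α := S.mapHomologyIso (colim : (J ⥤ C) ⥤ C)
  let β := homologyDiagramIso S
  refine IsColimit.ofIsoColimit ((IsColimit.precomposeHomEquiv β _).symm
    (colimit.isColimit S.homology)) (Cocone.ext α.symm ?_)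
  intro j
  have h := NatTrans.app_homology (ιNat J C j) S
  have h' : colimit.ι S.homology j = (S.mapHomologyIso ((evaluation J C).obj j)).inv ≫
      ShortComplex.homologyMap (S.mapNatTrans (ιNat J C j)) ≫ α.hom := h
  show (β.hom.app j ≫ colimit.ι S.homology j) ≫ α.inv =
    ShortComplex.homologyMap (S.mapNatTrans (ιNat J C j))
  rw [h']
  simp only [β, homologyDiagramIso, NatIso.ofComponents_hom_app, Category.assoc, Iso.hom_inv_id,
    Category.comp_id]
  exact Iso.hom_inv_id_assoc _ _

/-- The homology functor on short complexes commutes with exact colimits. -/
instance preservesColimitsOfShape_homologyFunctor :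
    PreservesColimitsOfShape J (ShortComplex.homologyFunctor C) := by
  constructor
  intro D
  let S := (ShortComplex.functorEquivalence J C).inverse.obj D
  have e : (ShortComplex.functorEquivalence J C).functor.obj S ≅ D :=
    (ShortComplex.functorEquivalence J C).counitIso.app D
  have : PreservesColimit ((ShortComplex.functorEquivalence J C).functor.obj S)
      (ShortComplex.homologyFunctor C) :=
    preservesColimit_of_preserves_colimit_cocone (isColimitCocone₀ S) (isColimitMapCocone₀ S)
  exact preservesColimit_of_iso_diagram _ e

omit [HasExactColimitsOfShape J C] in
/-- `shortComplexFunctor` preserves colimits. -/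
instance preservesColimitsOfShape_shortComplexFunctor {ι : Type*} (c : ComplexShape ι) (i : ι) :
    PreservesColimitsOfShape J (HomologicalComplex.shortComplexFunctor C c i) := by
  constructor
  intro F
  constructor
  intro s hs
  refine ⟨ShortComplex.isColimitOfIsColimitπ _ ?_ ?_ ?_⟩
  · exact isColimitOfPreserves (HomologicalComplex.eval C c (c.prev i)) hs
  · exact isColimitOfPreserves (HomologicalComplex.eval C c i) hs
  · exact isColimitOfPreserves (HomologicalComplex.eval C c (c.next i)) hs

/-- The homology functor on homological complexes commutes with exact colimits. -/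
instance preservesColimitsOfShape_homologicalComplex_homologyFunctor {ι : Type*}
    (c : ComplexShape ι) (i : ι) :
    PreservesColimitsOfShape J (HomologicalComplex.homologyFunctor C c i) :=
  preservesColimitsOfShape_of_natIso (HomologicalComplex.homologyFunctorIso C c i).symm

end Groth.Agent.Helper13HomologyColim
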