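import Mathlib
import Groth.Agent.Lib.Helper13TorNat
import Groth.Agent.Lib.Helper13HomologyColim

/-!
# Tor commutes with filtered colimits in each variable
-/

set_option autoImplicit false
universe u
open CategoryTheory CategoryTheory.Limits MonoidalCategory

namespace Groth.Agent.Helper13Tor

variable {R : Type u} [CommRing R]

/-- the functor `X ↦ X ⊗ Q` to complexes. -/
noncomputable def tCF (Q : ChainComplex (ModuleCat.{u} R) ℕ) :
    ModuleCat.{u} R ⥤ ChainComplex (ModuleCat.{u} R) ℕ where
  obj X := tC X Q
  map f := tCmap f Q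
  map_id X := by
    show (NatTrans.mapHomologicalComplex ((tensoringLeft (ModuleCat.{u} R)).map (𝟙 X)) _).app Q = _
    rw [CategoryTheory.Functor.map_id, NatTrans.mapHomologicalComplex_id]
    rfl
  map_comp f g := by
    show (NatTrans.mapHomologicalComplex ((tensoringLeft (ModuleCat.{u} R)).map (f ≫ g)) _).app Q = _
    rw [CategoryTheory.Functor.map_comp, NatTrans.mapHomologicalComplex_comp]
    rfl

/-- the functor `N ↦ P ⊗ N` to complexes. -/
noncomputable def tRF (P : ChainComplex (ModuleCat.{u} R) ℕ) :
    ModuleCat.{u} R ⥤ ChainComplex (ModuleCat.{u} R) ℕ where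
  obj N := tR P N
  map g := tRmap P g
  map_id N := by
    show (NatTrans.mapHomologicalComplex ((tensoringRight (ModuleCat.{u} R)).map (𝟙 N)) _).app P = _
    rw [CategoryTheory.Functor.map_id, NatTrans.mapHomologicalComplex_id]
    rfl
  map_comp f g := by
    show (NatTrans.mapHomologicalComplex ((tensoringRight (ModuleCat.{u} R)).map (f ≫ g)) _).app P = _
    rw [CategoryTheory.Functor.map_comp, NatTrans.mapHomologicalComplex_comp]
    rfl

instance (Q : ChainComplex (ModuleCat.{u} R) ℕ) (J : Type u) [SmallCategory J] :
    PreservesColimitsOfShape J (tCF Q) := by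
  refine HomologicalComplex.preservesColimitsOfShape_of_eval _ fun j => ?_
  have e : tCF Q ⋙ HomologicalComplex.eval _ _ j ≅ tensorRight (Q.X j) :=
    NatIso.ofComponents (fun X => Iso.refl _) (by intro X Y f; simp [tCF]; rfl)
  exact preservesColimitsOfShape_of_natIso e.symm

instance (P : ChainComplex (ModuleCat.{u} R) ℕ) (J : Type u) [SmallCategory J] :
    PreservesColimitsOfShape J (tRF P) := by
  refine HomologicalComplex.preservesColimitsOfShape_of_eval _ fun j => ?_
  have e : tRF P ⋙ HomologicalComplex.eval _ _ j ≅ tensorLeft (P.X j) :=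
    NatIso.ofComponents (fun X => Iso.refl _) (by intro X Y f; simp [tRF]; rfl)
  exact preservesColimitsOfShape_of_natIso e.symm

/-- `Tor_p(-, N) ≅ H_p(- ⊗ Q)`. -/
noncomputable def torFlipIso (N : ModuleCat.{u} R) (p : ℕ) :
    (Tor (ModuleCat.{u} R) p).flip.obj N ≅
      tCF (projectiveResolution N).complex ⋙ HomologicalComplex.homologyFunctor _ _ p :=
  NatIso.ofComponents (fun X => torIso (projectiveResolution N) X p) (by
    intro X X' f
    exact tor_map_app_comp (projectiveResolution N) f p)

/-- `Tor_p(-, N)` commutes with filtered colimits. -/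
theorem preservesColimitsOfShape_tor_flip (N : ModuleCat.{u} R) (p : ℕ)
    (J : Type u) [SmallCategory J] [IsFiltered J] :
    PreservesColimitsOfShape J ((Tor (ModuleCat.{u} R) p).flip.obj N) := by
  have : HasExactColimitsOfShape J (ModuleCat.{u} R) := inferInstance
  exact preservesColimitsOfShape_of_natIso (torFlipIso N p).symm

/-- `Tor_p(M, -)` commutes with filtered colimits. -/
theorem preservesColimitsOfShape_tor (M : ModuleCat.{u} R) (p : ℕ)
    (J : Type u) [SmallCategory J] [IsFiltered J] :
    PreservesColimitsOfShape J ((Tor (ModuleCat.{u} R) p).obj M) := by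
  have : HasExactColimitsOfShape J (ModuleCat.{u} R) := inferInstance
  obtain ⟨θ, hθ⟩ := exists_natural_iso M (projectiveResolution M) p
  have e : (Tor (ModuleCat.{u} R) p).obj M ≅
      tRF (projectiveResolution M).complex ⋙ HomologicalComplex.homologyFunctor _ _ p :=
    NatIso.ofComponents θ (by intro N N' g; exact hθ g)
  exact preservesColimitsOfShape_of_natIso e.symm

end Groth.Agent.Helper13Tor
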