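import Mathlib
import Groth.Agent.Lib.Helper5LocalFlat

/-!
# Local criterion of flatness without finiteness hypotheses (helper5)

* `tor1Vanish_of_flat`: a flat module has vanishing `Tor₁` against everything.
* `tor1Vanish_of_smul_top_eq_bot'`: if `M ⊗ I → M` is injective and `(A/I) ⊗ M` is flat over
  `A/I`, then `Tor₁(N, M) = 0` for **every** `A`-module `N` killed by `I`.
* `flat_of_isNilpotent`: the local criterion of flatness for a nilpotent ideal (no finiteness).
-/

set_option autoImplicit false
universe u v

namespace Groth.Agent.Lib.Helper5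

open TensorProduct LinearMap

section

variable {A : Type u} [CommRing A] {M : Type v} [AddCommGroup M] [Module A M]

/-- Flat modules have vanishing `Tor₁` against everything. -/
theorem tor1Vanish_of_flat (N : Type u) [AddCommGroup N] [Module A N] [Module.Flat A N] :
    Tor1Vanish A M N := by
  intro Q' Q _ _ _ _ i p hi hp hex
  exact LinearMap.lTensor_injective_of_exact_of_flat p hp i hi hex M

/-- Injectivity of `M ⊗ j` passes to direct sums. -/
theorem lTensor_mapRange_injective {N₁ N₂ : Type u} [AddCommGroup N₁] [Module A N₁]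
    [AddCommGroup N₂] [Module A N₂] (ι : Type u) (j : N₁ →ₗ[A] N₂)
    (hj : Function.Injective (j.lTensor M)) :
    Function.Injective ((Finsupp.mapRange.linearMap (α := ι) j).lTensor M) := by
  classical
  rw [injective_iff_map_eq_zero]
  intro z hz
  apply (TensorProduct.finsuppRight A A M N₁ ι).injective
  rw [map_zero]
  ext i
  rw [TensorProduct.finsuppRight_apply, Finsupp.zero_apply]
  apply hj
  rw [map_zero, ← LinearMap.comp_apply, ← LinearMap.lTensor_comp]
  have hcomm : j ∘ₗ (Finsupp.lapply i : (ι →₀ N₁) →ₗ[A] N₁) =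
      (Finsupp.lapply i : (ι →₀ N₂) →ₗ[A] N₂) ∘ₗ Finsupp.mapRange.linearMap j := by
    ext k x
    simp only [LinearMap.coe_comp, Function.comp_apply, Finsupp.lsingle_apply,
      Finsupp.lapply_apply, Finsupp.mapRange.linearMap_apply, Finsupp.mapRange_single]
    rw [Finsupp.single_apply, Finsupp.single_apply, apply_ite j, map_zero]
  rw [hcomm, LinearMap.lTensor_comp, LinearMap.comp_apply, hz, map_zero]

/-- `Tor₁((A/I)^(ι), M) = 0` when `M ⊗ I → M` is injective. -/
theorem tor1Vanish_finsupp_quotient (I : Ideal A)
    (H1 : Function.Injective (I.subtype.lTensor M)) (ι : Type u) :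
    Tor1Vanish A M (ι →₀ A ⧸ I) := by
  have hex : Function.Exact (Finsupp.mapRange.linearMap (α := ι) I.subtype)
      (Finsupp.mapRange.linearMap (α := ι) (Submodule.mkQ I)) := by
    intro x
    constructor
    · intro hx
      have hmem : ∀ i, x i ∈ I := by
        intro i
        have := DFunLike.congr_fun hx i
        rw [Finsupp.mapRange.linearMap_apply, Finsupp.mapRange_apply, Finsupp.zero_apply,
          Submodule.mkQ_apply, Submodule.Quotient.mk_eq_zero] at this
        exact this
      refine ⟨Finsupp.onFinset x.support (fun i => (⟨x i, hmem i⟩ : I)) ?_, ?_⟩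
      · intro i hi
        rw [Finsupp.mem_support_iff]
        intro h0
        apply hi
        exact Subtype.ext h0
      · ext i
        simp
    · rintro ⟨y, rfl⟩
      ext i
      rw [Finsupp.mapRange.linearMap_apply, Finsupp.mapRange_apply,
        Finsupp.mapRange.linearMap_apply, Finsupp.mapRange_apply, Finsupp.zero_apply,
        Submodule.mkQ_apply, Submodule.Quotient.mk_eq_zero]
      exact (y i).2
  have hsurj : Function.Surjective (Finsupp.mapRange.linearMap (α := ι) (Submodule.mkQ I)) :=
    Finsupp.mapRange_surjective _ (map_zero _) (Submodule.mkQ_surjective I)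
  exact tor1Vanish_of_exact _ _ hsurj hex (tor1Vanish_of_flat _)
    (lTensor_mapRange_injective ι I.subtype H1)

/-- Flatness of `(A/I) ⊗ M` over `A/I`: `M ⊗_A K → M ⊗_A P` is injective for every
`A/I`-submodule `K` of an `A/I`-module `P`. -/
theorem lTensor_restrictScalars_subtype_injective_of_flat_baseChange' (I : Ideal A)
    (h : Module.Flat (A ⧸ I) ((A ⧸ I) ⊗[A] M)) {P : Type u} [AddCommGroup P]
    [Module (A ⧸ I) P] [Module A P] [IsScalarTower A (A ⧸ I) P] (K : Submodule (A ⧸ I) P) :
    Function.Injective (((K.restrictScalars A).subtype).lTensor M) := by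
  rw [LinearMap.lTensor_inj_iff_rTensor_inj]
  have hflat := Module.Flat.rTensor_preserves_injective_linearMap (R := A ⧸ I)
    (M := (A ⧸ I) ⊗[A] M) K.subtype K.injective_subtype
  let e₁ := TensorProduct.AlgebraTensorModule.cancelBaseChange A (A ⧸ I) (A ⧸ I) ↥K M
  let e₂ := TensorProduct.AlgebraTensorModule.cancelBaseChange A (A ⧸ I) (A ⧸ I) P M
  let g : ↥K ⊗[A] M →ₗ[A] P ⊗[A] M := rTensor M (K.subtype.restrictScalars A)
  have hsq : ∀ t, g (e₁ t) = e₂ (rTensor ((A ⧸ I) ⊗[A] M) K.subtype t) := by
    intro t
    induction t with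
    | zero => simp
    | add a b ha hb => rw [map_add, map_add, ha, hb, map_add, map_add]
    | tmul x y =>
      induction y with
      | zero => simp
      | add a b ha hb => rw [tmul_add, map_add, map_add, ha, hb, map_add, map_add]
      | tmul a m =>
        rw [rTensor_tmul]
        simp only [e₁, e₂, g, TensorProduct.AlgebraTensorModule.cancelBaseChange_tmul, rTensor_tmul]
        rfl
  have hg : Function.Injective g := by
    intro t₁ t₂ ht
    obtain ⟨s₁, rfl⟩ := e₁.surjective t₁
    obtain ⟨s₂, rfl⟩ := e₁.surjective t₂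
    rw [hsq, hsq] at ht
    rw [hflat (e₂.injective ht)]
  exact hg

/-- `Tor₁(N, M) = 0` for every `A/I`-module `N`. -/
theorem tor1Vanish_of_module_quotient (I : Ideal A)
    (H1 : Function.Injective (I.subtype.lTensor M))
    (h : Module.Flat (A ⧸ I) ((A ⧸ I) ⊗[A] M)) (N : Type u) [AddCommGroup N]
    [Module (A ⧸ I) N] [Module A N] [IsScalarTower A (A ⧸ I) N] : Tor1Vanish A M N := by
  let π : (N →₀ A ⧸ I) →ₗ[A ⧸ I] N := Finsupp.linearCombination (A ⧸ I) id
  have hπ : Function.Surjective π :=
    Finsupp.linearCombination_surjective _ Function.surjective_id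
  let K : Submodule (A ⧸ I) (N →₀ A ⧸ I) := LinearMap.ker π
  have hex : Function.Exact ((K.restrictScalars A).subtype) (π.restrictScalars A) := by
    intro x
    constructor
    · intro hx
      exact ⟨⟨x, hx⟩, rfl⟩
    · rintro ⟨y, rfl⟩
      exact y.2
  have hP : Tor1Vanish A M (N →₀ A ⧸ I) := tor1Vanish_finsupp_quotient I H1 N
  have hK : Function.Injective (((K.restrictScalars A).subtype).lTensor M) :=
    lTensor_restrictScalars_subtype_injective_of_flat_baseChange' I h K
  have key := @tor1Vanish_of_exact A _ M _ _ ↥(K.restrictScalars A) (N →₀ A ⧸ I) N _ _ _ _ _ _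
    ((K.restrictScalars A).subtype) (π.restrictScalars A) hπ hex
  exact key hP hK

/-- `Tor₁(N, M) = 0` for every module `N` killed by `I` (no finiteness). -/
theorem tor1Vanish_of_smul_top_eq_bot' (I : Ideal A)
    (H1 : Function.Injective (I.subtype.lTensor M))
    (h : Module.Flat (A ⧸ I) ((A ⧸ I) ⊗[A] M)) (N : Type u) [AddCommGroup N] [Module A N]
    (hN : I • (⊤ : Submodule A N) = ⊥) : Tor1Vanish A M N :=
  (tor1Vanish_of_module_quotient I H1 h (N ⧸ (I • ⊤ : Submodule A N))).of_linearEquiv
    (Submodule.quotEquivOfEqBot _ hN)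

/-- `Tor₁(N, M) = 0` for every module `N` killed by a power of `I` (no finiteness). -/
theorem tor1Vanish_of_pow_smul_top_eq_bot' (I : Ideal A)
    (H1 : Function.Injective (I.subtype.lTensor M))
    (h : Module.Flat (A ⧸ I) ((A ⧸ I) ⊗[A] M)) (n : ℕ) :
    ∀ (N : Type u) [AddCommGroup N] [Module A N],
      I ^ n • (⊤ : Submodule A N) = ⊥ → Tor1Vanish A M N := by
  induction n with
  | zero =>
    intro N _ _ hI
    have : Subsingleton N := by
      rw [← Submodule.subsingleton_iff A, ← subsingleton_iff_bot_eq_top, ← hI, pow_zero,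
        Ideal.one_eq_top, Submodule.top_smul]
    exact tor1Vanish_of_subsingleton N
  | succ n ih =>
    intro N _ _ hI
    apply tor1Vanish_of_submodule_of_quotient (I • (⊤ : Submodule A N))
    · apply ih
      apply Submodule.map_injective_of_injective (I • (⊤ : Submodule A N)).injective_subtype
      rw [Submodule.map_smul'', Submodule.map_top, Submodule.range_subtype, Submodule.map_bot,
        ← mul_smul, ← pow_succ, hI]
    · apply tor1Vanish_of_smul_top_eq_bot' I H1 h
      rw [eq_bot_iff]
      refine Submodule.smul_le.mpr ?_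
      intro a ha x _
      obtain ⟨y, rfl⟩ := Submodule.Quotient.mk_surjective _ x
      rw [← Submodule.Quotient.mk_smul, Submodule.mem_bot, Submodule.Quotient.mk_eq_zero]
      exact Submodule.smul_mem_smul ha trivial

/-- **Local criterion of flatness for a nilpotent ideal** (no finiteness hypotheses): if
`M ⊗ I → M` is injective and `(A/I) ⊗ M` is flat over `A/I` then `M` is flat over `A`. -/
theorem flat_of_isNilpotent (I : Ideal A) (hI : IsNilpotent I)
    (H1 : Function.Injective (I.subtype.lTensor M))
    (h : Module.Flat (A ⧸ I) ((A ⧸ I) ⊗[A] M)) : Module.Flat A M := by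
  obtain ⟨n, hn⟩ := hI
  rw [Module.Flat.iff_lTensor_injective']
  intro J
  apply Tor1Vanish.lTensor_subtype_injective
  apply tor1Vanish_of_pow_smul_top_eq_bot' I H1 h n
  rw [hn, Ideal.zero_eq_bot, Submodule.bot_smul]

end

end Groth.Agent.Lib.Helper5
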