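import Mathlib
import Groth.Agent.Lib.Helper13TorBal
import Groth.Agent.Lib.Helper5NilFlat

/-!
Bridge between the vanishing of `CategoryTheory.Tor` in degree one (on `ModuleCat`) and the
elementary formulation `Tor1Vanish` by short exact sequences.
-/

set_option autoImplicit false
universe u
open CategoryTheory CategoryTheory.Limits MonoidalCategory

namespace Groth.Agent.Lib.Helper15

open Groth.Agent.Helper13Tor Groth.Agent.Lib.Helper5

variable {R : Type u} [CommRing R]

/-- `Tor_0(f, M)` is a monomorphism iff `f ⊗ M` is injective. -/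
theorem mono_tor_zero_map_iff (M : ModuleCat.{u} R) {X X' : ModuleCat.{u} R} (f : X ⟶ X') :
    Mono (((Tor (ModuleCat.{u} R) 0).map f).app M) ↔
      Function.Injective (LinearMap.rTensor M f.hom) := by
  let e₁ := (torLZeroIso M).app X
  let e₂ := (torLZeroIso M).app X'
  have hn : (torL M 0).map f ≫ e₂.hom = e₁.hom ≫ (tensorRight M).map f :=
    (torLZeroIso M).hom.naturality f
  have h1 : (torL M 0).map f = ((Tor (ModuleCat.{u} R) 0).map f).app M := rfl
  have h2 : (tensorRight M).map f = ModuleCat.ofHom (LinearMap.rTensor M f.hom) := rfl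
  rw [← h1]
  constructor
  · intro hm
    have h' : (tensorRight M).map f = e₁.inv ≫ (torL M 0).map f ≫ e₂.hom := by
      rw [hn, Iso.inv_hom_id_assoc]
    have h3 : Mono ((tensorRight M).map f) := by
      rw [h']
      exact mono_comp _ _
    exact (ModuleCat.mono_iff_injective ((tensorRight M).map f)).1 h3
  · intro hinj
    have h3 : Mono ((tensorRight M).map f) :=
      (ModuleCat.mono_iff_injective ((tensorRight M).map f)).2 hinj
    have h' : (torL M 0).map f = e₁.hom ≫ (tensorRight M).map f ≫ e₂.inv := by
      rw [← Category.assoc, ← hn, Category.assoc, Iso.hom_inv_id, Category.comp_id]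
    rw [h']
    exact mono_comp _ _

/-- A short exact sequence of modules, as a short exact short complex in `ModuleCat`. -/
theorem shortExact_mk_of_exact {Q' Q N : Type u} [AddCommGroup Q'] [Module R Q'] [AddCommGroup Q]
    [Module R Q] [AddCommGroup N] [Module R N] (i : Q' →ₗ[R] Q) (p : Q →ₗ[R] N)
    (hi : Function.Injective i) (hp : Function.Surjective p) (hex : Function.Exact i p) :
    (ShortComplex.mk (ModuleCat.ofHom i) (ModuleCat.ofHom p)
      (by ext x; exact hex.apply_apply_eq_zero x)).ShortExact := by
  refine ShortComplex.ShortExact.mk' ?_ ?_ ?_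
  · rw [ShortComplex.ShortExact.moduleCat_exact_iff_function_exact]
    exact hex
  · rw [ModuleCat.mono_iff_injective]
    exact hi
  · rw [ModuleCat.epi_iff_surjective]
    exact hp

/-- Vanishing of `Tor_1(N, M)` gives the elementary vanishing statement. -/
theorem tor1Vanish_of_isZero_tor (M N : Type u) [AddCommGroup M] [Module R M] [AddCommGroup N]
    [Module R N]
    (h : IsZero (((Tor (ModuleCat.{u} R) 1).obj (ModuleCat.of R N)).obj (ModuleCat.of R M))) :
    Tor1Vanish R M N := by
  intro Q' Q _ _ _ _ i p hi hp hex
  have hS := shortExact_mk_of_exact i p hi hp hex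
  obtain ⟨δ, w₁, w₂, -, hex2⟩ := exists_δ _ hS (ModuleCat.of R M) 0
  have hmono : Mono (((Tor (ModuleCat.{u} R) 0).map (ModuleCat.ofHom i)).app (ModuleCat.of R M)) :=
    hex2.mono_g (h.eq_of_src _ _)
  rw [mono_tor_zero_map_iff] at hmono
  exact (LinearMap.lTensor_inj_iff_rTensor_inj _ _).mpr hmono

/-- Vanishing of `Tor_1(N, M)` from a flat presentation of `N` which stays exact on the left
after tensoring with `M`. -/
theorem isZero_tor_of_presentation (M : Type u) [AddCommGroup M] [Module R M]
    {K F N : Type u} [AddCommGroup K] [Module R K] [AddCommGroup F] [Module R F]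
    [AddCommGroup N] [Module R N] [Module.Flat R F] (i : K →ₗ[R] F) (p : F →ₗ[R] N)
    (hi : Function.Injective i) (hp : Function.Surjective p) (hex : Function.Exact i p)
    (hinj : Function.Injective (i.lTensor M)) :
    IsZero (((Tor (ModuleCat.{u} R) 1).obj (ModuleCat.of R N)).obj (ModuleCat.of R M)) := by
  have hS := shortExact_mk_of_exact i p hi hp hex
  obtain ⟨δ, w₁, w₂, hex1, hex2⟩ := exists_δ _ hS (ModuleCat.of R M) 0
  have hF : IsZero (((Tor (ModuleCat.{u} R) 1).obj (ModuleCat.of R F)).obj
      (ModuleCat.of R M)) := by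
    have : Module.Flat R (ModuleCat.of R F) := inferInstanceAs (Module.Flat R F)
    exact isZero_tor_of_flat (ModuleCat.of R M) (ModuleCat.of R F) 1 (by omega)
  have hδmono : Mono δ := hex1.mono_g (hF.eq_of_src _ _)
  have hmono : Mono (((Tor (ModuleCat.{u} R) 0).map (ModuleCat.ofHom i)).app
      (ModuleCat.of R M)) := by
    rw [mono_tor_zero_map_iff]
    exact (LinearMap.lTensor_inj_iff_rTensor_inj _ _).mp hinj
  have hδ0 : δ = 0 := by
    rw [← cancel_mono (((Tor (ModuleCat.{u} R) 0).map (ModuleCat.ofHom i)).app
      (ModuleCat.of R M)), zero_comp]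
    exact w₂
  exact IsZero.of_mono_eq_zero δ hδ0

/-- The elementary vanishing statement gives vanishing of `Tor_1(N, M)`. -/
theorem isZero_tor_of_tor1Vanish (M N : Type u) [AddCommGroup M] [Module R M] [AddCommGroup N]
    [Module R N] (h : Tor1Vanish R M N) :
    IsZero (((Tor (ModuleCat.{u} R) 1).obj (ModuleCat.of R N)).obj (ModuleCat.of R M)) := by
  let π : (N →₀ R) →ₗ[R] N := Finsupp.linearCombination R id
  have hπ : Function.Surjective π :=
    Finsupp.linearCombination_surjective _ Function.surjective_id
  have hex : Function.Exact (LinearMap.ker π).subtype π := LinearMap.exact_subtype_ker_map π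
  exact isZero_tor_of_presentation M (K := ↥(LinearMap.ker π)) (LinearMap.ker π).subtype π
    (Submodule.injective_subtype _) hπ hex
    (h _ _ _ π (Submodule.injective_subtype _) hπ hex)

end Groth.Agent.Lib.Helper15
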