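import Mathlib
import Groth.Agent.Lib.Helper13TorMore
import Groth.Agent.Lib.Helper13TorBC2
import Groth.Agent.Lib.Helper13TorColim
import Groth.Agent.Lib.Helper15TorBridge

/-!
# Helper11 PerfTor C: Tor-vanishing in all positive degrees (`TV`) and its formal properties
(isomorphism invariance, quotients by flat ideals, base change under Tor-independence, filtered
colimits).
-/

set_option autoImplicit false
universe u

namespace Groth.Agent.Lib.Helper11.PerfTor

open CategoryTheory CategoryTheory.Limits TensorProduct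

variable {R : Type u} [CommRing R]

/-- Tor-vanishing in all positive degrees -/
def TV (X Y : ModuleCat.{u} R) : Prop :=
  ∀ i : ℕ, 0 < i → IsZero (((Tor (ModuleCat.{u} R) i).obj X).obj Y)

theorem TV.of_iso_right {X Y Y' : ModuleCat.{u} R} (h : TV X Y) (e : Y ≅ Y') : TV X Y' :=
  fun i hi => IsZero.of_iso (h i hi) (((Tor (ModuleCat.{u} R) i).obj X).mapIso e.symm)

theorem TV.of_iso_left {X X' Y : ModuleCat.{u} R} (h : TV X Y) (e : X ≅ X') : TV X' Y :=
  fun i hi => IsZero.of_iso (h i hi) (((Tor (ModuleCat.{u} R) i).mapIso e.symm).app Y)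

theorem TV.of_flat_right (X Y : ModuleCat.{u} R) [Module.Flat R Y] : TV X Y :=
  fun i hi => Groth.Agent.Helper13Tor.isZero_tor_of_flat_right X Y i hi

theorem TV.of_subsingleton_right (X Y : ModuleCat.{u} R) [Subsingleton Y] : TV X Y := by
  haveI : Module.Free R Y := Module.Free.of_subsingleton R Y
  exact TV.of_flat_right X Y

/-- quotient by a flat ideal `I` with `X ⊗ I → X ⊗ R` injective -/
theorem TV.quot (X : ModuleCat.{u} R) (I : Ideal R) [Module.Flat R I]
    (hinj : Function.Injective (LinearMap.lTensor X (Submodule.subtype I))) :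
    TV X (ModuleCat.of R (R ⧸ I)) := by
  have hS := Groth.Agent.Lib.Helper15.shortExact_mk_of_exact (R := R) (Submodule.subtype I)
    (Submodule.mkQ I) (Submodule.injective_subtype I) (Submodule.mkQ_surjective I)
    (LinearMap.exact_subtype_mkQ I)
  haveI : Module.Flat R (ModuleCat.of R R) := (inferInstance : Module.Flat R R)
  haveI : Module.Flat R (ModuleCat.of R ↥I) := (inferInstance : Module.Flat R ↥I)
  intro i hi
  obtain ⟨n, rfl⟩ : ∃ n, i = n + 1 := ⟨i - 1, by omega⟩
  cases n with
  | zero =>
    rw [Groth.Agent.Helper13Tor.isZero_tor_one_iff_lTensor_injective X _ hS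
      (Groth.Agent.Helper13Tor.isZero_tor_of_flat_right X (ModuleCat.of R R) 1 Nat.one_pos)]
    exact hinj
  | succ n =>
    exact Groth.Agent.Helper13Tor.isZero_tor₂_X₃ X _ hS (n + 1)
      (Groth.Agent.Helper13Tor.isZero_tor_of_flat_right X (ModuleCat.of R R) (n + 1 + 1)
        (Nat.succ_pos _))
      (Groth.Agent.Helper13Tor.isZero_tor_of_flat_right X (ModuleCat.of R ↥I) (n + 1)
        (Nat.succ_pos _))

/-- base change under Tor-independence -/
theorem TV.trans (A A' : Type u) [CommRing A] [CommRing A'] [Algebra A A']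
    (C : Type u) [AddCommGroup C] [Module A C]
    (Q' : Type u) [AddCommGroup Q'] [Module A' Q'] [Module A Q'] [IsScalarTower A A' Q']
    (h1 : TV (ModuleCat.of A C) (ModuleCat.of A A'))
    (h2 : TV (ModuleCat.of A' (A' ⊗[A] C)) (ModuleCat.of A' Q')) :
    TV (ModuleCat.of A C) (ModuleCat.of A Q') := by
  intro n hn
  obtain ⟨e⟩ := Groth.Agent.Helper13TorBC.nonempty_restrict_tor_iso A' Q' (ModuleCat.of A C) h1 n
  refine IsZero.of_iso ?_ e.symm
  apply Functor.map_isZero
  have e2 : (Groth.Agent.Helper13TorBC.E A A').obj (ModuleCat.of A C) ≅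
      ModuleCat.of A' (A' ⊗[A] C) :=
    (Groth.Agent.S2380.bridge A A' (ModuleCat.of A C)).toModuleIso
  exact IsZero.of_iso (h2 n hn) (((Tor (ModuleCat.{u} A') n).mapIso e2).app _)

/-- filtered colimits in the second variable -/
theorem TV.of_isColimit {J : Type u} [SmallCategory J] [IsFiltered J] (X : ModuleCat.{u} R)
    (F : J ⥤ ModuleCat.{u} R) (c : Cocone F) (hc : IsColimit c) (h : ∀ j, TV X (F.obj j)) :
    TV X c.pt := by
  intro i hi
  haveI := Groth.Agent.Helper13Tor.preservesColimitsOfShape_tor X i J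
  have hc' := isColimitOfPreserves ((Tor (ModuleCat.{u} R) i).obj X) hc
  rw [IsZero.iff_id_eq_zero]
  apply hc'.hom_ext
  intro j
  exact (h j i hi).eq_of_src _ _

end Groth.Agent.Lib.Helper11.PerfTor
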