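import Mathlib
import Groth.Agent.Lib.Helper11PerfTorA
import Groth.Agent.Lib.Helper11PerfTorB
import Groth.Agent.Lib.Helper11PerfTorC
import Groth.Agent.S14262

/-!
# Helper11 PerfTor D: Tor-vanishing for quotients of perfect rings

For a perfect ring `R`, a perfect `R`-algebra `D` and a radical ideal `K`:
`Tor_i^R(D, R/K) = 0` for `i > 0`.
-/

set_option autoImplicit false
universe u

namespace Groth.Agent.Lib.Helper11.PerfTor

open CategoryTheory CategoryTheory.Limits TensorProduct

variable {p : ℕ} [hp : Fact p.Prime]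

/-- Step 0: the radical of a principal ideal. -/
theorem tv_radical_span_singleton (R : Type u) [CommRing R] (hR : Perf p R)
    (D : Type u) [CommRing D] [Algebra R D] (hD : Perf p D) (f : R) :
    TV (ModuleCat.of R D) (ModuleCat.of R (R ⧸ (Ideal.span {f}).radical)) := by
  by_cases hs : Subsingleton R
  · haveI : Subsingleton (R ⧸ (Ideal.span {f}).radical) :=
      (Ideal.Quotient.mk_surjective (I := (Ideal.span {f}).radical)).subsingleton
    haveI : Subsingleton (ModuleCat.of R (R ⧸ (Ideal.span {f}).radical)) :=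
      (inferInstance : Subsingleton (R ⧸ (Ideal.span {f}).radical))
    exact TV.of_subsingleton_right _ _
  · haveI : Nontrivial R := not_subsingleton_iff_nontrivial.1 hs
    haveI := hR.charP
    haveI := hR.perfectRing
    haveI : Module.Flat R ↥((Ideal.span {f}).radical) := Groth.Agent.S14262.result p R f
    apply TV.quot
    exact lTensor_radical_injective D hR f (fun d hd => hD.eq_zero_of_pow_eq_zero d p hd)

/-- kernel of `R → (R/J)/rad(ā)` -/
theorem ker_quot_quot {R : Type u} [CommRing R] (J : Ideal R) (a : R) :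
    RingHom.ker (Algebra.ofId R ((R ⧸ J) ⧸ (Ideal.span {Ideal.Quotient.mk J a}).radical)) =
      (J ⊔ Ideal.span {a}).radical := by
  have h1 : ∀ x : R, Algebra.ofId R ((R ⧸ J) ⧸ (Ideal.span {Ideal.Quotient.mk J a}).radical) x =
      Ideal.Quotient.mk _ (Ideal.Quotient.mk J x) := fun x => rfl
  ext x
  rw [RingHom.mem_ker, h1, Ideal.Quotient.eq_zero_iff_mem, ← Ideal.mem_comap, Ideal.comap_radical]
  have h2 : Ideal.span {Ideal.Quotient.mk J a} = (Ideal.span {a}).map (Ideal.Quotient.mk J) := by
    rw [Ideal.map_span, Set.image_singleton]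
  rw [h2, Ideal.comap_map_of_surjective _ Ideal.Quotient.mk_surjective, ← RingHom.ker_eq_comap_bot,
    Ideal.mk_ker, sup_comm]

/-- inductive step: adding one generator -/
theorem tv_step (R : Type u) [CommRing R] (hR : Perf p R) (J : Ideal R) (hJ : J.IsRadical)
    (hTV : ∀ (D : Type u) [CommRing D] [Algebra R D], Perf p D →
      TV (ModuleCat.of R D) (ModuleCat.of R (R ⧸ J)))
    (a : R) (D : Type u) [CommRing D] [Algebra R D] (hD : Perf p D) :
    TV (ModuleCat.of R D) (ModuleCat.of R (R ⧸ (J ⊔ Ideal.span {a}).radical)) := by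
  have hR' : Perf p (R ⧸ J) := hR.quotient J hJ
  have hD' : Perf p ((R ⧸ J) ⊗[R] D) := Perf.tensorProduct hR hR' hD
  have step0 := tv_radical_span_singleton (R ⧸ J) hR' ((R ⧸ J) ⊗[R] D) hD'
    (Ideal.Quotient.mk J a)
  have h2 := TV.trans R (R ⧸ J) D ((R ⧸ J) ⧸ (Ideal.span {Ideal.Quotient.mk J a}).radical)
    (hTV D hD) step0
  have hsurj : Function.Surjective
      (Algebra.ofId R ((R ⧸ J) ⧸ (Ideal.span {Ideal.Quotient.mk J a}).radical)) := by
    intro y
    obtain ⟨y', rfl⟩ := Ideal.Quotient.mk_surjective y
    obtain ⟨x, rfl⟩ := Ideal.Quotient.mk_surjective y'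
    exact ⟨x, rfl⟩
  let e1 := Ideal.quotientKerAlgEquivOfSurjective hsurj
  let e2 := Ideal.quotientEquivAlgOfEq R (ker_quot_quot J a)
  exact h2.of_iso_right (e2.symm.trans e1).toLinearEquiv.toModuleIso.symm

/-- finitely generated case -/
theorem tv_finite (R : Type u) [CommRing R] (hR : Perf p R) (s : Set R) (hs : s.Finite) :
    ∀ (D : Type u) [CommRing D] [Algebra R D], Perf p D →
      TV (ModuleCat.of R D) (ModuleCat.of R (R ⧸ (Ideal.span s).radical)) := by
  induction s, hs using Set.Finite.induction_on with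
  | empty =>
    intro D _ _ hD
    have h0 : (Ideal.span (∅ : Set R)).radical = ⊥ := by
      rw [Ideal.span_empty, eq_bot_iff]
      rintro x ⟨n, hn⟩
      rw [Ideal.mem_bot] at hn ⊢
      exact hR.eq_zero_of_pow_eq_zero x n hn
    haveI : Module.Flat R (R ⧸ (Ideal.span (∅ : Set R)).radical) :=
      Module.Flat.of_linearEquiv (Submodule.quotEquivOfEqBot _ h0)
    haveI : Module.Flat R (ModuleCat.of R (R ⧸ (Ideal.span (∅ : Set R)).radical)) :=
      (inferInstance : Module.Flat R (R ⧸ (Ideal.span (∅ : Set R)).radical))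
    exact TV.of_flat_right _ _
  | @insert a s _ _ ih =>
    intro D _ _ hD
    have h1 := tv_step R hR (Ideal.span s).radical (Ideal.radical_isRadical _) ih a D hD
    have h2 : ((Ideal.span s).radical ⊔ Ideal.span {a}).radical =
        (Ideal.span (insert a s)).radical := by
      apply le_antisymm
      · apply Ideal.radical_le_radical_iff.2
        apply sup_le
        · exact Ideal.radical_mono (Ideal.span_mono (Set.subset_insert a s))
        · exact le_trans (Ideal.span_mono (Set.singleton_subset_iff.2 (Set.mem_insert a s)))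
            Ideal.le_radical
      · apply Ideal.radical_mono
        rw [Ideal.span_le]
        intro x hx
        rcases hx with rfl | hx
        · exact Ideal.mem_sup_right (Ideal.subset_span rfl)
        · exact Ideal.mem_sup_left (Ideal.le_radical (Ideal.subset_span hx))
    exact h1.of_iso_right (Ideal.quotientEquivAlgOfEq R h2).toLinearEquiv.toModuleIso

section colimit
variable {R : Type u} [CommRing R] (K : Ideal R)

/-- the radical of the ideal generated by a finite subset of `K` -/
def IS (S : Finset ↥K) : Ideal R :=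
  (Ideal.span ((fun x : ↥K => (x : R)) '' (S : Set ↥K))).radical

theorem IS_mono {S T : Finset ↥K} (h : S ≤ T) : IS K S ≤ IS K T :=
  Ideal.radical_mono (Ideal.span_mono (Set.image_mono (by exact_mod_cast h)))

theorem IS_le (hK : K.IsRadical) (S : Finset ↥K) : IS K S ≤ K := by
  apply (hK.radical_le_iff).2
  rw [Ideal.span_le]
  rintro _ ⟨x, _, rfl⟩
  exact x.2

theorem mem_IS_singleton (x : ↥K) : (x : R) ∈ IS K {x} := by
  apply Ideal.le_radical
  apply Ideal.subset_span
  exact ⟨x, by simp, rfl⟩

theorem factor_self {M : Type*} [AddCommGroup M] [Module R M] (N : Submodule R M)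
    (h : N ≤ N) : Submodule.factor h = LinearMap.id := by
  apply Submodule.linearMap_qext
  rw [Submodule.factor_comp_mk, LinearMap.id_comp]

/-- the directed system of quotients `R / rad(S)`, `S ⊆ K` finite -/
noncomputable abbrev quotFunctor : Finset ↥K ⥤ ModuleCat.{u} R where
  obj S := ModuleCat.of R (R ⧸ IS K S)
  map f := ModuleCat.ofHom (Submodule.factor (IS_mono K (leOfHom f)))
  map_id S := by
    rw [factor_self]
    exact ModuleCat.ofHom_id
  map_comp f g := by
    rw [← ModuleCat.ofHom_comp, Submodule.factor_comp]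

theorem quotFunctor_map_mk {S T : Finset ↥K} (f : S ⟶ T) (x : R) :
    ((quotFunctor K).map f).hom (Submodule.mkQ (IS K S) x) = Submodule.mkQ (IS K T) x := by
  show Submodule.factor (IS_mono K (leOfHom f)) (Submodule.mkQ (IS K S) x) = _
  rw [Submodule.factor_mk]

/-- the cocone with vertex `R / K` -/
noncomputable abbrev quotCocone (hK : K.IsRadical) : Cocone (quotFunctor K) where
  pt := ModuleCat.of R (R ⧸ K)
  ι :=
    { app := fun S => ModuleCat.ofHom (Submodule.factor (IS_le K hK S))
      naturality := fun S T f => by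
        show ModuleCat.ofHom (Submodule.factor (IS_mono K (leOfHom f))) ≫
          ModuleCat.ofHom (Submodule.factor (IS_le K hK T)) =
          ModuleCat.ofHom (Submodule.factor (IS_le K hK S)) ≫ 𝟙 _
        rw [Category.comp_id, ← ModuleCat.ofHom_comp, Submodule.factor_comp] }

theorem quotCocone_ι_mk (hK : K.IsRadical) (S : Finset ↥K) (x : R) :
    ((quotCocone K hK).ι.app S).hom (Submodule.mkQ (IS K S) x) = Submodule.mkQ K x := by
  show Submodule.factor (IS_le K hK S) (Submodule.mkQ (IS K S) x) = _
  rw [Submodule.factor_mk]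

theorem cocone_app_mk (s : Cocone (quotFunctor K)) (S : Finset ↥K) (x : R) :
    (s.ι.app S).hom (Submodule.mkQ (IS K S) x) = (s.ι.app ∅).hom (Submodule.mkQ (IS K ∅) x) := by
  have h := s.w (homOfLE (Finset.empty_subset S) : (∅ : Finset ↥K) ⟶ S)
  rw [← h, ModuleCat.hom_comp, LinearMap.comp_apply, quotFunctor_map_mk]

/-- the descent map -/
noncomputable def quotDesc (s : Cocone (quotFunctor K)) : R ⧸ K →ₗ[R] s.pt :=
  Submodule.liftQ K ((s.ι.app ∅).hom ∘ₗ Submodule.mkQ (IS K ∅)) (by
    intro x hx
    rw [LinearMap.mem_ker, LinearMap.comp_apply, ← cocone_app_mk K s {⟨x, hx⟩} x]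
    have h0 : Submodule.mkQ (IS K {⟨x, hx⟩}) x = 0 := by
      rw [Submodule.mkQ_apply, Submodule.Quotient.mk_eq_zero]
      exact mem_IS_singleton K ⟨x, hx⟩
    rw [h0, map_zero])

theorem quotDesc_mk (s : Cocone (quotFunctor K)) (x : R) :
    quotDesc K s (Submodule.mkQ K x) = (s.ι.app ∅).hom (Submodule.mkQ (IS K ∅) x) := by
  unfold quotDesc
  rw [Submodule.mkQ_apply, Submodule.liftQ_apply]
  rfl

/-- `R / K` is the colimit of the `R / rad(S)` -/
noncomputable def quotIsColimit (hK : K.IsRadical) : IsColimit (quotCocone K hK) where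
  desc s := ModuleCat.ofHom (quotDesc K s)
  fac s S := by
    apply ModuleCat.hom_ext
    apply Submodule.linearMap_qext
    apply LinearMap.ext
    intro x
    rw [LinearMap.comp_apply, ModuleCat.hom_comp, LinearMap.comp_apply, quotCocone_ι_mk,
      ModuleCat.hom_ofHom, quotDesc_mk, LinearMap.comp_apply, cocone_app_mk K s S x]
  uniq s m hm := by
    apply ModuleCat.hom_ext
    apply Submodule.linearMap_qext
    apply LinearMap.ext
    intro x
    have h := congrArg (fun g => g.hom (Submodule.mkQ (IS K ∅) x)) (hm ∅)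
    simp only [ModuleCat.hom_comp, LinearMap.comp_apply] at h
    rw [quotCocone_ι_mk K hK ∅ x] at h
    rw [LinearMap.comp_apply, LinearMap.comp_apply, ModuleCat.hom_ofHom, quotDesc_mk]
    exact h

end colimit

/-- radical ideals -/
theorem tv_radical (R : Type u) [CommRing R] (hR : Perf p R) (K : Ideal R) (hK : K.IsRadical)
    (D : Type u) [CommRing D] [Algebra R D] (hD : Perf p D) :
    TV (ModuleCat.of R D) (ModuleCat.of R (R ⧸ K)) :=
  TV.of_isColimit (ModuleCat.of R D) (quotFunctor K) (quotCocone K hK) (quotIsColimit K hK)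
    (fun S => tv_finite R hR _ (Set.Finite.image _ S.finite_toSet) D hD)

/-- surjections of perfect rings -/
theorem tv_of_surjective (R : Type u) [CommRing R] (hR : Perf p R) (B : Type u) [CommRing B]
    [Algebra R B] (hB : Perf p B) (hsurj : Function.Surjective (algebraMap R B))
    (D : Type u) [CommRing D] [Algebra R D] (hD : Perf p D) :
    TV (ModuleCat.of R D) (ModuleCat.of R B) := by
  have hsurj' : Function.Surjective (Algebra.ofId R B) := hsurj
  haveI := hB.isReduced
  have hK : (RingHom.ker (Algebra.ofId R B)).IsRadical :=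
    (RingHom.ker_isRadical_iff_reduced_of_surjective hsurj').2 inferInstance
  have h1 := tv_radical R hR (RingHom.ker (Algebra.ofId R B)) hK D hD
  exact h1.of_iso_right (Ideal.quotientKerAlgEquivOfSurjective hsurj').toLinearEquiv.toModuleIso

end Groth.Agent.Lib.Helper11.PerfTor
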