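import Mathlib
import Groth.Agent.Lib.Helper11PerfTorD
import Groth.Agent.S14255

/-!
# Helper11 PerfTor E: `Tor_i^A(C, B) = 0` (`i > 0`) for perfect algebras `B`, `C` over a perfect
ring `A` of characteristic `p` (Bhatt–Scholze).
-/

set_option autoImplicit false
universe u

namespace Groth.Agent.Lib.Helper11.PerfTor

open CategoryTheory CategoryTheory.Limits TensorProduct

variable {p : ℕ} [hp : Fact p.Prime]

theorem tv_main (A : Type u) [CommRing A] [CharP A p] (hA : Perf p A)
    (C B : Type u) [CommRing C] [CommRing B] [Algebra A C] [Algebra A B]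
    (hC : Perf p C) (hB : Perf p B) :
    TV (ModuleCat.of A C) (ModuleCat.of A B) := by
  by_cases hs : Subsingleton B
  · haveI : Subsingleton (ModuleCat.of A B) := hs
    exact TV.of_subsingleton_right _ _
  haveI : Nontrivial B := not_subsingleton_iff_nontrivial.1 hs
  haveI := hB.charP
  haveI := hB.perfectRing
  haveI := hA.perfectRing
  -- the perfect polynomial ring
  let K₀ := MvPolynomial B A
  let P := PerfectClosure K₀ p
  letI algAP : Algebra A P := ((PerfectClosure.of K₀ p).comp (algebraMap A K₀)).toAlgebra
  let π₀ : K₀ →ₐ[A] B := MvPolynomial.aeval id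
  let π : P →+* B := PerfectClosure.lift K₀ p B π₀.toRingHom
  have hπ : ∀ x : K₀, π (PerfectClosure.of K₀ p x) = π₀ x := fun x =>
    RingHom.congr_fun ((PerfectClosure.lift K₀ p B).left_inv π₀.toRingHom) x
  letI algPB : Algebra P B := π.toAlgebra
  haveI : IsScalarTower A P B := IsScalarTower.of_algebraMap_eq (fun a => by
    show algebraMap A B a = π (PerfectClosure.of K₀ p (algebraMap A K₀ a))
    rw [hπ, AlgHom.commutes])
  have hflat : Module.Flat A P := by
    have h1 : (algebraMap A K₀).Flat := RingHom.flat_algebraMap_iff.2 inferInstance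
    exact Groth.Agent.S14255.result p (algebraMap A K₀) h1 (RingHom.id A)
      (PerfectClosure.of K₀ p) ((PerfectClosure.of K₀ p).comp (algebraMap A K₀)) rfl
  have hP : Perf p P := Perf.of_perfectRing
  have hD : Perf p (P ⊗[A] C) := Perf.tensorProduct hA hP hC
  have hsurj : Function.Surjective (algebraMap P B) := by
    intro b
    exact ⟨PerfectClosure.of K₀ p (MvPolynomial.X b), by
      show π (PerfectClosure.of K₀ p (MvPolynomial.X b)) = b
      rw [hπ]
      show MvPolynomial.aeval id (MvPolynomial.X b) = b
      rw [MvPolynomial.aeval_X]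
      rfl⟩
  have step := tv_of_surjective P hP B hB hsurj (P ⊗[A] C) hD
  haveI : Module.Flat A (ModuleCat.of A P) := hflat
  have h1 : TV (ModuleCat.of A C) (ModuleCat.of A P) := TV.of_flat_right _ _
  exact TV.trans A P C B h1 step

end Groth.Agent.Lib.Helper11.PerfTor
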