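import Mathlib
import Groth.Prelude
import Groth.Agent.Lib.Helper11SchImage

/-!
# Products of scheme-theoretically dominant morphisms over a flat base (helper11)
-/

set_option autoImplicit false
set_option linter.style.haveILetI false
set_option linter.unusedSectionVars false
universe u

open CategoryTheory CategoryTheory.Limits AlgebraicGeometry

namespace Groth.Agent.Lib.Helper11.ProdDom

variable {A₁ A₂ B₁ B₂ V : Scheme.{u}} (π₁ : A₁ ⟶ B₁) (π₂ : A₂ ⟶ B₂) (b₁ : B₁ ⟶ V) (b₂ : B₂ ⟶ V)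

/-- the fibre product of two quasi-compact scheme-theoretically dominant morphisms over a base
over which everything is flat is scheme-theoretically dominant. -/
theorem dominant_pullback_map [Flat b₁] [Flat (π₂ ≫ b₂)]
    [QuasiCompact π₁] [IsSchemeTheoreticallyDominant π₁]
    [QuasiCompact π₂] [IsSchemeTheoreticallyDominant π₂] :
    IsSchemeTheoreticallyDominant
      (pullback.map (π₁ ≫ b₁) (π₂ ≫ b₂) b₁ b₂ π₁ π₂ (𝟙 V) (by simp) (by simp)) := by
  let m₁ : pullback (π₁ ≫ b₁) (π₂ ≫ b₂) ⟶ pullback b₁ (π₂ ≫ b₂) :=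
    pullback.map (π₁ ≫ b₁) (π₂ ≫ b₂) b₁ (π₂ ≫ b₂) π₁ (𝟙 A₂) (𝟙 V) (by simp) (by simp)
  let m₂ : pullback b₁ (π₂ ≫ b₂) ⟶ pullback b₁ b₂ :=
    pullback.map b₁ (π₂ ≫ b₂) b₁ b₂ (𝟙 B₁) π₂ (𝟙 V) (by simp) (by simp)
  have hm : pullback.map (π₁ ≫ b₁) (π₂ ≫ b₂) b₁ b₂ π₁ π₂ (𝟙 V) (by simp) (by simp) = m₁ ≫ m₂ := by
    apply pullback.hom_ext
    · rw [pullback.lift_fst, Category.assoc, pullback.lift_fst, pullback.lift_fst_assoc,
        Category.comp_id]
    · rw [pullback.lift_snd, Category.assoc, pullback.lift_snd, pullback.lift_snd_assoc,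
        Category.comp_id]
  have h1 : IsSchemeTheoreticallyDominant m₁ := by
    have s : IsPullback (m₁ ≫ pullback.snd b₁ (π₂ ≫ b₂)) (pullback.fst (π₁ ≫ b₁) (π₂ ≫ b₂))
        (π₂ ≫ b₂) (π₁ ≫ b₁) := by
      have : m₁ ≫ pullback.snd b₁ (π₂ ≫ b₂) = pullback.snd (π₁ ≫ b₁) (π₂ ≫ b₂) := by
        rw [pullback.lift_snd, Category.comp_id]
      rw [this]
      exact (IsPullback.of_hasPullback (π₁ ≫ b₁) (π₂ ≫ b₂)).flip
    have t : IsPullback (pullback.snd b₁ (π₂ ≫ b₂)) (pullback.fst b₁ (π₂ ≫ b₂)) (π₂ ≫ b₂) b₁ :=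
      (IsPullback.of_hasPullback b₁ (π₂ ≫ b₂)).flip
    have l := IsPullback.of_right s (pullback.lift_fst _ _ _) t
    exact IsSchemeTheoreticallyDominant.of_isPullback l.flip
  have h2 : IsSchemeTheoreticallyDominant m₂ := by
    have s : IsPullback (m₂ ≫ pullback.fst b₁ b₂) (pullback.snd b₁ (π₂ ≫ b₂)) b₁ (π₂ ≫ b₂) := by
      have : m₂ ≫ pullback.fst b₁ b₂ = pullback.fst b₁ (π₂ ≫ b₂) := by
        rw [pullback.lift_fst, Category.comp_id]
      rw [this]
      exact IsPullback.of_hasPullback b₁ (π₂ ≫ b₂)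
    have t : IsPullback (pullback.fst b₁ b₂) (pullback.snd b₁ b₂) b₁ b₂ :=
      IsPullback.of_hasPullback b₁ b₂
    have l := IsPullback.of_right s (pullback.lift_snd _ _ _) t
    exact IsSchemeTheoreticallyDominant.of_isPullback l.flip
  rw [hm]
  infer_instance

end Groth.Agent.Lib.Helper11.ProdDom
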