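import Mathlib

set_option autoImplicit false
universe u

namespace Groth.Agent.Helper11QF

open Polynomial TensorProduct

/-- The ideal generated by `F i (X i)`. -/
noncomputable def relIdeal {A : Type u} [CommRing A] {r : ℕ} (F : Fin r → A[X]) :
    Ideal (MvPolynomial (Fin r) A) :=
  Ideal.span (Set.range fun i => Polynomial.aeval (MvPolynomial.X i : MvPolynomial (Fin r) A) (F i))

/-- The quotient `A[T_1..T_r]/(F_i(T_i))`. -/
abbrev Q {A : Type u} [CommRing A] {r : ℕ} (F : Fin r → A[X]) : Type u :=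
  MvPolynomial (Fin r) A ⧸ relIdeal F

noncomputable def gen {A : Type u} [CommRing A] {r : ℕ} (F : Fin r → A[X]) (i : Fin r) : Q F :=
  Ideal.Quotient.mk (relIdeal F) (MvPolynomial.X i)

theorem aeval_gen {A : Type u} [CommRing A] {r : ℕ} (F : Fin r → A[X]) (i : Fin r) :
    Polynomial.aeval (gen F i) (F i) = 0 := by
  have := Polynomial.aeval_algHom_apply (Ideal.Quotient.mkₐ A (relIdeal F))
    (MvPolynomial.X i : MvPolynomial (Fin r) A) (F i)
  rw [gen, ← Ideal.Quotient.mkₐ_eq_mk A, this, Ideal.Quotient.mkₐ_eq_mk,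
    Ideal.Quotient.eq_zero_iff_mem]
  exact Ideal.subset_span ⟨i, rfl⟩

/-- Universal property: lift. -/
noncomputable def lift {A : Type u} [CommRing A] {r : ℕ} (F : Fin r → A[X])
    {B : Type u} [CommRing B] [Algebra A B] (b : Fin r → B)
    (hb : ∀ i, Polynomial.aeval (b i) (F i) = 0) : Q F →ₐ[A] B :=
  Ideal.Quotient.liftₐ (relIdeal F) (MvPolynomial.aeval b) (by
    intro a ha
    have hle : relIdeal F ≤ RingHom.ker (MvPolynomial.aeval b : MvPolynomial (Fin r) A →ₐ[A] B) := by
      rw [relIdeal, Ideal.span_le]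
      rintro _ ⟨i, rfl⟩
      rw [SetLike.mem_coe, RingHom.mem_ker]
      have := Polynomial.aeval_algHom_apply (MvPolynomial.aeval b : MvPolynomial (Fin r) A →ₐ[A] B)
        (MvPolynomial.X i : MvPolynomial (Fin r) A) (F i)
      rw [← this, MvPolynomial.aeval_X]
      exact hb i
    exact hle ha)

@[simp] theorem lift_gen {A : Type u} [CommRing A] {r : ℕ} (F : Fin r → A[X])
    {B : Type u} [CommRing B] [Algebra A B] (b : Fin r → B)
    (hb : ∀ i, Polynomial.aeval (b i) (F i) = 0) (i : Fin r) : lift F b hb (gen F i) = b i := by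
  simp [lift, gen]

theorem algHom_ext {A : Type u} [CommRing A] {r : ℕ} (F : Fin r → A[X])
    {B : Type*} [Semiring B] [Algebra A B] (f g : Q F →ₐ[A] B)
    (h : ∀ i, f (gen F i) = g (gen F i)) : f = g := by
  apply Ideal.Quotient.algHom_ext
  apply MvPolynomial.algHom_ext
  intro i
  exact h i


section step

variable {A : Type u} [CommRing A] {r : ℕ} (F : Fin (r + 1) → A[X])

/-- forward map of the inductive step -/
noncomputable def fwd : Q F →ₐ[A] Q (fun i : Fin r => F i.succ) ⊗[A] AdjoinRoot (F 0) :=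
  lift F (Fin.cons ((1 : Q (fun i : Fin r => F i.succ)) ⊗ₜ[A] AdjoinRoot.root (F 0))
    (fun i => gen (fun i : Fin r => F i.succ) i ⊗ₜ[A] (1 : AdjoinRoot (F 0)))) (by
    intro j
    refine Fin.cases ?_ (fun i => ?_) j
    · rw [Fin.cons_zero]
      have := Polynomial.aeval_algHom_apply (Algebra.TensorProduct.includeRight :
        AdjoinRoot (F 0) →ₐ[A] Q (fun i : Fin r => F i.succ) ⊗[A] AdjoinRoot (F 0))
        (AdjoinRoot.root (F 0)) (F 0)
      rw [Algebra.TensorProduct.includeRight_apply] at this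
      rw [this, AdjoinRoot.aeval_eq, AdjoinRoot.mk_self, map_zero]
    · rw [Fin.cons_succ]
      have := Polynomial.aeval_algHom_apply (Algebra.TensorProduct.includeLeft :
        Q (fun i : Fin r => F i.succ) →ₐ[A] Q (fun i : Fin r => F i.succ) ⊗[A] AdjoinRoot (F 0))
        (gen (fun i : Fin r => F i.succ) i) (F i.succ)
      rw [Algebra.TensorProduct.includeLeft_apply] at this
      rw [this, aeval_gen (fun i : Fin r => F i.succ) i, map_zero])

/-- backward map of the inductive step -/
noncomputable def bwd : Q (fun i : Fin r => F i.succ) ⊗[A] AdjoinRoot (F 0) →ₐ[A] Q F :=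
  Algebra.TensorProduct.lift
    (lift (fun i : Fin r => F i.succ) (fun i => gen F i.succ) (fun i => aeval_gen F i.succ))
    (AdjoinRoot.liftAlgHom (F 0) (Algebra.ofId A (Q F)) (gen F 0) (by
      have := aeval_gen F 0
      rw [Polynomial.aeval_def] at this
      exact this))
    (fun _ _ => Commute.all _ _)

theorem bwd_fwd : (bwd F).comp (fwd F) = AlgHom.id A (Q F) := by
  apply algHom_ext
  intro j
  refine Fin.cases ?_ (fun i => ?_) j
  · simp [fwd, bwd]
  · simp [fwd, bwd]

theorem fwd_bwd : (fwd F).comp (bwd F) =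
    AlgHom.id A (Q (fun i : Fin r => F i.succ) ⊗[A] AdjoinRoot (F 0)) := by
  apply Algebra.TensorProduct.ext
  · apply algHom_ext (fun i : Fin r => F i.succ)
    intro i
    simp [fwd, bwd]
  · apply AdjoinRoot.algHom_ext
    simp [fwd, bwd]

/-- the inductive step isomorphism -/
noncomputable def stepEquiv : Q F ≃ₐ[A] Q (fun i : Fin r => F i.succ) ⊗[A] AdjoinRoot (F 0) :=
  AlgEquiv.ofAlgHom (fwd F) (bwd F) (fwd_bwd F) (bwd_fwd F)

end step

theorem structure_thm {A : Type u} [CommRing A] [Nontrivial A] :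
    ∀ {r : ℕ} (F : Fin r → A[X]), (∀ i, (F i).Monic) →
      Module.Free A (Q F) ∧ Module.Finite A (Q F) ∧
        Module.finrank A (Q F) = Finset.univ.prod fun i => (F i).natDegree := by
  intro r
  induction r with
  | zero =>
    intro F _
    have hbot : relIdeal F = ⊥ := by
      rw [relIdeal]
      have : (Set.range fun i : Fin 0 =>
          Polynomial.aeval (MvPolynomial.X i : MvPolynomial (Fin 0) A) (F i)) = ∅ :=
        Set.range_eq_empty _
      rw [this, Ideal.span_empty]
    let e : Q F ≃ₐ[A] A :=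
      ((Ideal.quotientEquivAlgOfEq A hbot).trans (AlgEquiv.quotientBot A _)).trans
        (MvPolynomial.isEmptyAlgEquiv A (Fin 0))
    refine ⟨Module.Free.of_equiv e.toLinearEquiv.symm, Module.Finite.equiv e.toLinearEquiv.symm, ?_⟩
    rw [LinearEquiv.finrank_eq e.toLinearEquiv, Module.finrank_self]
    simp
  | succ r ih =>
    intro F hF
    obtain ⟨h1, h2, h3⟩ := ih (fun i : Fin r => F i.succ) (fun i => hF i.succ)
    have hf0 := hF 0
    have : Module.Free A (AdjoinRoot (F 0)) := hf0.free_adjoinRoot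
    have : Module.Finite A (AdjoinRoot (F 0)) := hf0.finite_adjoinRoot
    have e := (stepEquiv F).toLinearEquiv
    refine ⟨Module.Free.of_equiv e.symm, Module.Finite.equiv e.symm, ?_⟩
    rw [LinearEquiv.finrank_eq e, Module.finrank_tensorProduct, h3, Fin.prod_univ_succ,
      (AdjoinRoot.powerBasis' hf0).finrank, AdjoinRoot.powerBasis'_dim, mul_comm]

end Groth.Agent.Helper11QF
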