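import Mathlib
import Groth.Agent.Lib.Helper11FfgOpen

/-!
# Finite sets of points of a scheme separated and locally quasi-finite over an affine scheme lie in
affine opens (helper11)
-/

set_option autoImplicit false
set_option linter.style.haveILetI false
set_option linter.unusedSectionVars false
universe u

open CategoryTheory CategoryTheory.Limits AlgebraicGeometry TopologicalSpace

namespace Groth.Agent.Lib.Helper11.QFAff

open Groth.Agent.Lib.Helper11.Ffg

/-- a finite set of points of a quasi-compact open subscheme of an affine scheme lies in an affine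
open. Here in the form: `j : X ⟶ N` an open immersion into an affine scheme. -/
theorem exists_affine_of_finite_of_isOpenImmersion {X N : Scheme.{u}} (j : X ⟶ N) [IsAffine N]
    [IsOpenImmersion j] (E : Set X) (hE : E.Finite) :
    ∃ W : X.Opens, IsAffineOpen W ∧ E ⊆ W := by
  obtain ⟨g, hg1, hg2⟩ := exists_basicOpen_le_of_finite (X := N) j.opensRange (j.base '' E)
    (hE.image _) (by rintro _ ⟨x, -, rfl⟩; exact ⟨x, rfl⟩)
  refine ⟨j ⁻¹ᵁ (N.basicOpen g), ?_, fun x hx => hg2 ⟨x, hx, rfl⟩⟩
  rw [← Scheme.Hom.isAffineOpen_iff_of_isOpenImmersion j]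
  have : j ''ᵁ (j ⁻¹ᵁ (N.basicOpen g)) = N.basicOpen g := by
    apply Opens.ext
    change j.base '' (j.base ⁻¹' (N.basicOpen g : Set N)) = (N.basicOpen g : Set N)
    rw [Set.image_preimage_eq_of_subset]
    exact hg1
  rw [this]
  exact (isAffineOpen_top N).basicOpen g

/-- **Finite sets in affine opens**: if `f : X ⟶ Z` is separated, locally quasi-finite and locally
of finite type with `Z` affine, every finite set of points of `X` lies in an affine open. -/
theorem exists_affine_of_finite {X Z : Scheme.{u}} (f : X ⟶ Z) [IsAffine Z] [IsSeparated f]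
    [LocallyQuasiFinite f] [LocallyOfFiniteType f] (E : Set X) (hE : E.Finite) :
    ∃ W : X.Opens, IsAffineOpen W ∧ E ⊆ W := by
  classical
  -- a quasi-compact open containing `E`
  have hnhd : ∀ x : X, ∃ W : X.Opens, IsAffineOpen W ∧ x ∈ W := fun x => by
    obtain ⟨W, hW, hxW, -⟩ := exists_isAffineOpen_mem_and_subset (x := x) (U := ⊤) trivial
    exact ⟨W, hW, hxW⟩
  choose A hA hxA using hnhd
  let X₁ : X.Opens := ⨆ x ∈ E, A x
  have hEX₁ : E ⊆ X₁ := fun x hx => Opens.mem_iSup.mpr ⟨x, Opens.mem_iSup.mpr ⟨hx, hxA x⟩⟩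
  have hc : IsCompact (X₁ : Set X) := by
    have : (X₁ : Set X) = ⋃ x ∈ E, (A x : Set X) := by
      simp [X₁]
    rw [this]
    exact hE.isCompact_biUnion fun x _ => (hA x).isCompact
  haveI : CompactSpace X₁.toScheme := isCompact_iff_compactSpace.mp hc
  haveI : QuasiCompact (X₁.ι ≫ f) := by
    rw [quasiCompact_iff_compactSpace]
    infer_instance
  haveI : IsAffine (X₁.ι ≫ f).normalization :=
    isAffine_of_isAffineHom (X₁.ι ≫ f).fromNormalization
  have hinj : Function.Injective X₁.ι.base := X₁.ι.isOpenEmbedding.injective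
  obtain ⟨W₁, hW₁, hEW₁⟩ := exists_affine_of_finite_of_isOpenImmersion
    (X₁.ι ≫ f).toNormalization (X₁.ι.base ⁻¹' E) (hE.preimage hinj.injOn)
  refine ⟨X₁.ι ''ᵁ W₁, hW₁.image_of_isOpenImmersion X₁.ι, fun x hx => ?_⟩
  exact ⟨⟨x, hEX₁ hx⟩, hEW₁ (show X₁.ι.base ⟨x, hEX₁ hx⟩ ∈ E from hx), rfl⟩

end Groth.Agent.Lib.Helper11.QFAff
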