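import Mathlib

set_option autoImplicit false
universe u

namespace Groth.Agent.Lib.Helper11

open TopologicalSpace

variable {X Y : Type u} [TopologicalSpace X] [TopologicalSpace Y]

/-- quasi-homeomorphism, in two-part form -/
abbrev QHomeo (f : X → Y) : Prop :=
  (∀ U₁ U₂ : Set Y, IsOpen U₁ → IsOpen U₂ → f ⁻¹' U₁ = f ⁻¹' U₂ → U₁ = U₂) ∧
    (∀ V : Set X, IsOpen V → ∃ U : Set Y, IsOpen U ∧ f ⁻¹' U = V)

/-- locally quasi-constructible subsets -/
abbrev LQC (Z : Set X) : Prop :=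
  ∀ x : X, ∃ U : Set X, IsOpen U ∧ x ∈ U ∧
    ∃ T : Set (Set X), T.Finite ∧ (∀ t ∈ T, IsLocallyClosed t) ∧ U ∩ Z = ⋃₀ T

theorem qhomeo_of_bijective (f : X → Y) (hf : Continuous f)
    (hq : Function.Bijective (fun U : Opens Y =>
      (⟨f ⁻¹' (U : Set Y), U.isOpen.preimage hf⟩ : Opens X))) : QHomeo f := by
  constructor
  · intro U₁ U₂ h₁ h₂ h
    have := @hq.1 ⟨U₁, h₁⟩ ⟨U₂, h₂⟩ (Opens.ext h)
    exact congrArg (fun U : Opens Y => (U : Set Y)) this
  · intro V hV
    obtain ⟨U, hU⟩ := hq.2 ⟨V, hV⟩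
    exact ⟨U, U.isOpen, congrArg (fun U : Opens X => (U : Set X)) hU⟩

theorem bijective_of_qhomeo (f : X → Y) (hf : Continuous f) (hq : QHomeo f) :
    Function.Bijective (fun U : Opens Y =>
      (⟨f ⁻¹' (U : Set Y), U.isOpen.preimage hf⟩ : Opens X)) := by
  constructor
  · intro U₁ U₂ h
    apply Opens.ext
    exact hq.1 _ _ U₁.isOpen U₂.isOpen (congrArg (fun U : Opens X => (U : Set X)) h)
  · intro V
    obtain ⟨U, hU, h⟩ := hq.2 V V.isOpen
    exact ⟨⟨U, hU⟩, Opens.ext h⟩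

theorem QHomeo.meets_locallyClosed {f : X → Y} (hq : QHomeo f) {Z : Set Y}
    (hZ : IsLocallyClosed Z) (hne : Z.Nonempty) : (f ⁻¹' Z).Nonempty := by
  obtain ⟨U, F, hU, hF, rfl⟩ := hZ
  by_contra hempty
  rw [Set.not_nonempty_iff_eq_empty] at hempty
  have h1 : f ⁻¹' (U ∩ Fᶜ) = f ⁻¹' U := by
    ext x
    simp only [Set.mem_preimage, Set.mem_inter_iff, Set.mem_compl_iff]
    constructor
    · exact fun h => h.1
    · intro hx
      refine ⟨hx, fun hxF => ?_⟩
      have : x ∈ f ⁻¹' (U ∩ F) := ⟨hx, hxF⟩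
      rw [hempty] at this
      exact this
  have h2 := hq.1 _ _ (hU.inter hF.isOpen_compl) hU h1
  obtain ⟨y, hyU, hyF⟩ := hne
  have : y ∈ U ∩ Fᶜ := by rw [h2]; exact hyU
  exact this.2 hyF

theorem LQC.exists_locallyClosed_subset {Z : Set X} (hZ : LQC Z) (hne : Z.Nonempty) :
    ∃ t : Set X, t ⊆ Z ∧ IsLocallyClosed t ∧ t.Nonempty := by
  obtain ⟨z, hz⟩ := hne
  obtain ⟨U, hU, hzU, T, hT, hTlc, hUZ⟩ := hZ z
  have hz' : z ∈ ⋃₀ T := by rw [← hUZ]; exact ⟨hzU, hz⟩
  obtain ⟨t, ht, hzt⟩ := hz'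
  refine ⟨t, ?_, hTlc t ht, ⟨z, hzt⟩⟩
  intro w hw
  have : w ∈ U ∩ Z := by rw [hUZ]; exact ⟨t, ht, hw⟩
  exact this.2

theorem LQC.inter_locallyClosed {Z : Set X} (hZ : LQC Z) {L : Set X} (hL : IsLocallyClosed L) :
    LQC (L ∩ Z) := by
  intro x
  obtain ⟨U, hU, hxU, T, hT, hTlc, hUZ⟩ := hZ x
  refine ⟨U, hU, hxU, (fun t => L ∩ t) '' T, hT.image _, ?_, ?_⟩
  · rintro _ ⟨t, ht, rfl⟩
    exact hL.inter (hTlc t ht)
  · ext w
    simp only [Set.mem_inter_iff, Set.sUnion_image, Set.mem_iUnion, exists_prop]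
    constructor
    · rintro ⟨hwU, hwL, hwZ⟩
      have : w ∈ ⋃₀ T := by rw [← hUZ]; exact ⟨hwU, hwZ⟩
      obtain ⟨t, ht, hwt⟩ := this
      exact ⟨t, ht, hwL, hwt⟩
    · rintro ⟨t, ht, hwL, hwt⟩
      have : w ∈ U ∩ Z := by rw [hUZ]; exact ⟨t, ht, hwt⟩
      exact ⟨this.1, hwL, this.2⟩

theorem lqc_of_isOpen {U : Set X} (hU : IsOpen U) : LQC U := by
  intro x
  refine ⟨Set.univ, isOpen_univ, trivial, {U}, Set.finite_singleton _, ?_, by simp⟩
  intro t ht
  rw [Set.mem_singleton_iff] at ht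
  rw [ht]; exact hU.isLocallyClosed

theorem QHomeo.meets_lqc {f : X → Y} (hq : QHomeo f) {Z : Set Y}
    (hZ : LQC Z) (hne : Z.Nonempty) : (f ⁻¹' Z).Nonempty := by
  obtain ⟨t, htZ, htlc, htne⟩ := hZ.exists_locallyClosed_subset hne
  obtain ⟨x, hx⟩ := hq.meets_locallyClosed htlc htne
  exact ⟨x, htZ hx⟩

/-- restriction of a quasi-homeomorphism to a locally quasi-constructible subset -/
theorem QHomeo.restrictPreimage {f : X → Y} (hq : QHomeo f) (_hf : Continuous f)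
    {Y' : Set Y} (hY' : LQC Y') : QHomeo (Y'.restrictPreimage f) := by
  constructor
  · intro U₁ U₂ h₁ h₂ h
    obtain ⟨W₁, hW₁, rfl⟩ := isOpen_induced_iff.mp h₁
    obtain ⟨W₂, hW₂, rfl⟩ := isOpen_induced_iff.mp h₂
    -- symmetric argument
    have key : ∀ (A B : Set Y), IsOpen A → IsOpen B →
        (Y'.restrictPreimage f) ⁻¹' (Subtype.val ⁻¹' A) =
          (Y'.restrictPreimage f) ⁻¹' (Subtype.val ⁻¹' B) →
        (Subtype.val ⁻¹' A : Set Y') ⊆ Subtype.val ⁻¹' B := by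
      intro A B hA hB hAB y hyA
      by_contra hyB
      have hne : ((A ∩ Bᶜ) ∩ Y').Nonempty := ⟨y.1, ⟨hyA, hyB⟩, y.2⟩
      have hlc : IsLocallyClosed (A ∩ Bᶜ) := ⟨A, Bᶜ, hA, hB.isClosed_compl, rfl⟩
      obtain ⟨x, hx⟩ := hq.meets_lqc (hY'.inter_locallyClosed hlc) hne
      have hxY' : x ∈ f ⁻¹' Y' := hx.2
      have h1 : (⟨x, hxY'⟩ : f ⁻¹' Y') ∈ (Y'.restrictPreimage f) ⁻¹' (Subtype.val ⁻¹' A) :=
        hx.1.1
      rw [hAB] at h1
      exact hx.1.2 h1
    exact Set.Subset.antisymm (key W₁ W₂ hW₁ hW₂ h) (key W₂ W₁ hW₂ hW₁ h.symm)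
  · intro V hV
    obtain ⟨W, hW, rfl⟩ := isOpen_induced_iff.mp hV
    obtain ⟨U, hU, hUW⟩ := hq.2 W hW
    refine ⟨Subtype.val ⁻¹' U, hU.preimage continuous_subtype_val, ?_⟩
    ext x
    simp only [Set.mem_preimage]
    rw [← hUW]
    rfl

/-- preimage is order-reflecting on opens for a quasi-homeomorphism -/
theorem QHomeo.subset_of_preimage_subset {f : X → Y} (hq : QHomeo f) {U₁ U₂ : Set Y}
    (h₁ : IsOpen U₁) (h₂ : IsOpen U₂) (h : f ⁻¹' U₁ ⊆ f ⁻¹' U₂) : U₁ ⊆ U₂ := by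
  have h3 : f ⁻¹' (U₁ ∪ U₂) = f ⁻¹' U₂ := by
    rw [Set.preimage_union]; exact Set.union_eq_right.mpr h
  have := hq.1 _ _ (h₁.union h₂) h₂ h3
  rw [← this]; exact Set.subset_union_left

theorem QHomeo.compactSpace_iff {f : X → Y} (hq : QHomeo f) (hf : Continuous f) :
    CompactSpace Y ↔ CompactSpace X := by
  constructor
  · intro hY
    refine ⟨isCompact_of_finite_subcover ?_⟩
    intro ι V hVo hVc
    choose U hUo hUV using fun i => hq.2 (V i) (hVo i)
    have hcov : (Set.univ : Set Y) ⊆ ⋃ i, U i := by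
      apply hq.subset_of_preimage_subset isOpen_univ (isOpen_iUnion hUo)
      rw [Set.preimage_iUnion]
      simp only [hUV]
      simpa using hVc
    obtain ⟨t, ht⟩ := isCompact_univ.elim_finite_subcover U hUo hcov
    refine ⟨t, ?_⟩
    intro x _
    have : f x ∈ ⋃ i ∈ t, U i := ht trivial
    simp only [Set.mem_iUnion] at this ⊢
    obtain ⟨i, hi, hx⟩ := this
    refine ⟨i, hi, ?_⟩
    rw [← hUV i]; exact hx
  · intro hX
    refine ⟨isCompact_of_finite_subcover ?_⟩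
    intro ι U hUo hUc
    have hcov : (Set.univ : Set X) ⊆ ⋃ i, f ⁻¹' U i := by
      intro x _
      have : f x ∈ ⋃ i, U i := hUc trivial
      simpa using this
    obtain ⟨t, ht⟩ := isCompact_univ.elim_finite_subcover (fun i => f ⁻¹' U i)
      (fun i => (hUo i).preimage hf) hcov
    refine ⟨t, ?_⟩
    apply hq.subset_of_preimage_subset isOpen_univ
      (isOpen_biUnion (fun i _ => hUo i))
    simpa using ht

theorem QHomeo.noetherianSpace_iff {f : X → Y} (hq : QHomeo f) (hf : Continuous f) :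
    NoetherianSpace Y ↔ NoetherianSpace X := by
  let g : Opens Y → Opens X := fun U => ⟨f ⁻¹' (U : Set Y), U.isOpen.preimage hf⟩
  have hgmono : StrictMono g := by
    intro U₁ U₂ h
    refine lt_of_le_of_ne ?_ ?_
    · intro x hx
      exact h.le hx
    · intro heq
      have := (bijective_of_qhomeo f hf hq).1 heq
      exact h.ne this
  obtain ⟨ginv, hginv⟩ := (bijective_of_qhomeo f hf hq).2.hasRightInverse
  have hginvmono : StrictMono ginv := by
    intro V₁ V₂ h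
    have h1 : g (ginv V₁) = V₁ := hginv V₁
    have h2 : g (ginv V₂) = V₂ := hginv V₂
    refine lt_of_le_of_ne ?_ ?_
    · apply hq.subset_of_preimage_subset (ginv V₁).isOpen (ginv V₂).isOpen
      have : (g (ginv V₁) : Set X) ⊆ g (ginv V₂) := by rw [h1, h2]; exact h.le
      exact this
    · intro heq
      have : V₁ = V₂ := by rw [← h1, ← h2, heq]
      exact h.ne this
  constructor
  · intro h
    haveI : WellFoundedGT (Opens Y) := h
    exact (hginvmono.wellFoundedGT : WellFoundedGT (Opens X))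
  · intro h
    haveI : WellFoundedGT (Opens X) := h
    exact (hgmono.wellFoundedGT : WellFoundedGT (Opens Y))

theorem QHomeo.isCompact_preimage_iff {f : X → Y} (hq : QHomeo f) (hf : Continuous f)
    {Z : Set Y} (hZ : LQC Z) : IsCompact Z ↔ IsCompact (f ⁻¹' Z) := by
  have hr := hq.restrictPreimage hf hZ
  have hc : Continuous (Z.restrictPreimage f) := hf.restrictPreimage
  rw [isCompact_iff_compactSpace, isCompact_iff_compactSpace]
  exact hr.compactSpace_iff hc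

theorem QHomeo.noetherianSpace_preimage_iff {f : X → Y} (hq : QHomeo f) (hf : Continuous f)
    {Z : Set Y} (hZ : LQC Z) : NoetherianSpace ↥Z ↔ NoetherianSpace ↥(f ⁻¹' Z) := by
  have hr := hq.restrictPreimage hf hZ
  have hc : Continuous (Z.restrictPreimage f) := hf.restrictPreimage
  exact hr.noetherianSpace_iff hc

theorem QHomeo.retrocompact_iff {f : X → Y} (hq : QHomeo f) (hf : Continuous f)
    {Y' : Set Y} (hY' : LQC Y') :
    (∀ U : Set Y, IsOpen U → IsCompact U → IsCompact (U ∩ Y')) ↔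
      (∀ V : Set X, IsOpen V → IsCompact V → IsCompact (V ∩ f ⁻¹' Y')) := by
  constructor
  · intro h V hVo hVc
    obtain ⟨U, hUo, rfl⟩ := hq.2 V hVo
    have hUc : IsCompact U := (hq.isCompact_preimage_iff hf (lqc_of_isOpen hUo)).mpr hVc
    have h1 := h U hUo hUc
    have h2 := (hq.isCompact_preimage_iff hf
      (hY'.inter_locallyClosed hUo.isLocallyClosed)).mp h1
    rwa [Set.preimage_inter] at h2
  · intro h U hUo hUc
    have hVc : IsCompact (f ⁻¹' U) :=
      (hq.isCompact_preimage_iff hf (lqc_of_isOpen hUo)).mp hUc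
    have h1 := h _ (hUo.preimage hf) hVc
    rw [← Set.preimage_inter] at h1
    exact (hq.isCompact_preimage_iff hf
      (hY'.inter_locallyClosed hUo.isLocallyClosed)).mpr h1

/-- quasi-homeomorphism is local on the target -/
theorem qhomeo_of_openCover (f : X → Y) (_hf : Continuous f) {ι : Type u} (W : ι → Set Y)
    (hWo : ∀ i, IsOpen (W i)) (hWc : ⋃ i, W i = Set.univ)
    (h : ∀ i, QHomeo ((W i).restrictPreimage f)) : QHomeo f := by
  constructor
  · intro U₁ U₂ h₁ h₂ hU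
    have key : ∀ i, (Subtype.val ⁻¹' U₁ : Set (W i)) = Subtype.val ⁻¹' U₂ := by
      intro i
      apply (h i).1 _ _ (h₁.preimage continuous_subtype_val) (h₂.preimage continuous_subtype_val)
      ext x
      have : (x : X) ∈ f ⁻¹' U₁ ↔ (x : X) ∈ f ⁻¹' U₂ := by rw [hU]
      exact this
    ext y
    have hy : y ∈ ⋃ i, W i := by rw [hWc]; trivial
    obtain ⟨i, hi⟩ := Set.mem_iUnion.mp hy
    have := congrArg (fun S : Set (W i) => (⟨y, hi⟩ : W i) ∈ S) (key i)
    simpa using this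
  · intro V hV
    have hex : ∀ i, ∃ U : Set Y, IsOpen U ∧ U ⊆ W i ∧ f ⁻¹' U = V ∩ f ⁻¹' (W i) := by
      intro i
      obtain ⟨U', hU'o, hU'⟩ := (h i).2 (Subtype.val ⁻¹' V) (hV.preimage continuous_subtype_val)
      refine ⟨Subtype.val '' U', (hWo i).isOpenMap_subtype_val U' hU'o, ?_, ?_⟩
      · rintro _ ⟨y, _, rfl⟩; exact y.2
      · ext x
        constructor
        · rintro ⟨y, hy, hyx⟩
          have hxW : x ∈ f ⁻¹' (W i) := by
            show f x ∈ W i
            rw [← hyx]; exact y.2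
          have h1 : (⟨x, hxW⟩ : f ⁻¹' (W i)) ∈ (W i).restrictPreimage f ⁻¹' U' := by
            show (W i).restrictPreimage f ⟨x, hxW⟩ ∈ U'
            have : (W i).restrictPreimage f ⟨x, hxW⟩ = y := Subtype.ext hyx.symm
            rw [this]; exact hy
          rw [hU'] at h1
          exact ⟨h1, hxW⟩
        · rintro ⟨hxV, hxW⟩
          have h1 : (⟨x, hxW⟩ : f ⁻¹' (W i)) ∈ (Subtype.val ⁻¹' V : Set (f ⁻¹' (W i))) := hxV
          rw [← hU'] at h1
          exact ⟨_, h1, rfl⟩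
    choose U hUo hUW hUV using hex
    refine ⟨⋃ i, U i, isOpen_iUnion hUo, ?_⟩
    rw [Set.preimage_iUnion]
    simp only [hUV]
    rw [← Set.inter_iUnion, ← Set.preimage_iUnion, hWc, Set.preimage_univ, Set.inter_univ]

end Groth.Agent.Lib.Helper11
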