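import Mathlib
import Groth.Prelude.Def_Grpd
import Groth.Agent.Lib.Helper2Grpd

/-!
# Pullback of a groupoid scheme along a monomorphism `u : U' ⟶ U` (helper11)

`R' = (R ×_{t,U} U') ×_{s,U} U'`: arrows of `R` with source and target in `U'`.
-/

set_option autoImplicit false
set_option linter.style.haveILetI false
set_option linter.unusedSectionVars false
universe u

open CategoryTheory CategoryTheory.Limits AlgebraicGeometry

namespace Groth.Agent.Lib.Helper11.QSec

open Groth.Agent.Lib.Helper2.Grpd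

variable {S : Scheme.{u}} (G : Grpd.GroupoidScheme S) {U' : Scheme.{u}} (u : U' ⟶ G.U)

/-- arrows with target in `U'`. -/
noncomputable abbrev V : Scheme.{u} := pullback G.t u

/-- `V ⟶ R`. -/
noncomputable abbrev vR : V G u ⟶ G.R := pullback.fst G.t u

/-- target `V ⟶ U'`. -/
noncomputable abbrev vU : V G u ⟶ U' := pullback.snd G.t u

/-- source `V ⟶ U`. -/
noncomputable abbrev σ : V G u ⟶ G.U := pullback.fst G.t u ≫ G.s

/-- arrows with source and target in `U'`. -/
noncomputable abbrev R' : Scheme.{u} := pullback (σ G u) u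

/-- `R' ⟶ V`. -/
noncomputable abbrev rV : R' G u ⟶ V G u := pullback.fst (σ G u) u

/-- source map of the pulled back groupoid. -/
noncomputable abbrev s' : R' G u ⟶ U' := pullback.snd (σ G u) u

/-- target map of the pulled back groupoid. -/
noncomputable def t' : R' G u ⟶ U' := rV G u ≫ vU G u

/-- `R' ⟶ R`. -/
noncomputable def ιR : R' G u ⟶ G.R := rV G u ≫ vR G u

theorem ιR_t : ιR G u ≫ G.t = t' G u ≫ u := by
  unfold ιR t'
  rw [Category.assoc, Category.assoc, pullback.condition]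

theorem ιR_s : ιR G u ≫ G.s = s' G u ≫ u := by
  unfold ιR
  rw [Category.assoc]
  exact pullback.condition

variable {T : Scheme.{u}}

theorem ιR_t_assoc' (α : T ⟶ R' G u) : (α ≫ ιR G u) ≫ G.t = (α ≫ t' G u) ≫ u := by
  rw [Category.assoc, ιR_t, Category.assoc]

theorem ιR_s_assoc' (α : T ⟶ R' G u) : (α ≫ ιR G u) ≫ G.s = (α ≫ s' G u) ≫ u := by
  rw [Category.assoc, ιR_s, Category.assoc]

/-- constructor for `T`-points of `R'`. -/
noncomputable def mk (ρ : T ⟶ G.R) (a b : T ⟶ U') (ha : ρ ≫ G.t = a ≫ u)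
    (hb : ρ ≫ G.s = b ≫ u) : T ⟶ R' G u :=
  pullback.lift (pullback.lift ρ a ha) b (by
    rw [← Category.assoc, pullback.lift_fst, hb])

theorem mk_ιR (ρ : T ⟶ G.R) (a b : T ⟶ U') (ha : ρ ≫ G.t = a ≫ u)
    (hb : ρ ≫ G.s = b ≫ u) : mk G u ρ a b ha hb ≫ ιR G u = ρ := by
  unfold mk ιR
  rw [← Category.assoc, pullback.lift_fst, pullback.lift_fst]

theorem mk_t' (ρ : T ⟶ G.R) (a b : T ⟶ U') (ha : ρ ≫ G.t = a ≫ u)
    (hb : ρ ≫ G.s = b ≫ u) : mk G u ρ a b ha hb ≫ t' G u = a := by
  unfold mk t'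
  rw [← Category.assoc, pullback.lift_fst, pullback.lift_snd]

theorem mk_s' (ρ : T ⟶ G.R) (a b : T ⟶ U') (ha : ρ ≫ G.t = a ≫ u)
    (hb : ρ ≫ G.s = b ≫ u) : mk G u ρ a b ha hb ≫ s' G u = b := by
  unfold mk
  rw [pullback.lift_snd]

variable [Mono u]

instance mono_ιR : Mono (ιR G u) := by
  unfold ιR
  infer_instance

theorem hom_ext' {α β : T ⟶ R' G u} (h : α ≫ ιR G u = β ≫ ιR G u) : α = β :=
  (cancel_mono (ιR G u)).mp h

/-- identity of the pulled back groupoid. -/
noncomputable def e' : U' ⟶ R' G u :=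
  mk G u (u ≫ G.e) (𝟙 U') (𝟙 U')
    (by rw [Category.assoc, G.e_t, Category.comp_id, Category.id_comp])
    (by rw [Category.assoc, G.e_s, Category.comp_id, Category.id_comp])

theorem e'_ιR : e' G u ≫ ιR G u = u ≫ G.e := mk_ιR _ _ _ _ _ _ _

/-- inverse of the pulled back groupoid. -/
noncomputable def i' : R' G u ⟶ R' G u :=
  mk G u (ιR G u ≫ G.i) (s' G u) (t' G u)
    (by rw [Category.assoc, G.i_t, ιR_s])
    (by rw [Category.assoc, G.i_s, ιR_t])

theorem i'_ιR : i' G u ≫ ιR G u = ιR G u ≫ G.i := mk_ιR _ _ _ _ _ _ _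

theorem compat (α β : T ⟶ R' G u) (h : α ≫ s' G u = β ≫ t' G u) :
    (α ≫ ιR G u) ≫ G.s = (β ≫ ιR G u) ≫ G.t := by
  rw [ιR_s_assoc', ιR_t_assoc', h]

/-- composition of the pulled back groupoid. -/
noncomputable def c' : pullback (s' G u) (t' G u) ⟶ R' G u :=
  mk G u (comp G (pullback.fst _ _ ≫ ιR G u) (pullback.snd _ _ ≫ ιR G u)
      (compat G u _ _ pullback.condition))
    (pullback.fst _ _ ≫ t' G u) (pullback.snd _ _ ≫ s' G u)
    (by rw [comp_t, ιR_t_assoc'])
    (by rw [comp_s, ιR_s_assoc'])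

theorem c'_ιR : c' G u ≫ ιR G u = comp G (pullback.fst _ _ ≫ ιR G u) (pullback.snd _ _ ≫ ιR G u)
    (compat G u _ _ pullback.condition) := mk_ιR _ _ _ _ _ _ _

theorem lift_c' (α β : T ⟶ R' G u) (h : α ≫ s' G u = β ≫ t' G u) :
    (pullback.lift α β h ≫ c' G u) ≫ ιR G u =
      comp G (α ≫ ιR G u) (β ≫ ιR G u) (compat G u α β h) := by
  rw [Category.assoc, c'_ιR, precomp_comp]
  refine comp_congr G _ ?_ ?_
  · rw [← Category.assoc, pullback.lift_fst]
  · rw [← Category.assoc, pullback.lift_snd]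

/-- the pullback of a groupoid scheme along a monomorphism on objects. -/
noncomputable def pb : Grpd.GroupoidScheme S where
  U := U'
  R := R' G u
  pU := u ≫ G.pU
  pR := ιR G u ≫ G.pR
  s := s' G u
  t := t' G u
  e := e' G u
  i := i' G u
  c := c' G u
  s_over := by rw [← Category.assoc, ← ιR_s, Category.assoc, G.s_over]
  t_over := by rw [← Category.assoc, ← ιR_t, Category.assoc, G.t_over]
  comp_s := fun α β h => by
    rw [← cancel_mono u, ← ιR_s_assoc', lift_c', comp_s, ιR_s_assoc']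
  comp_t := fun α β h => by
    rw [← cancel_mono u, ← ιR_t_assoc', lift_c', comp_t, ιR_t_assoc']
  assoc := fun α β γ h₁ h₂ => by
    apply hom_ext' G u
    refine (lift_c' G u _ _ _).trans ?_
    refine Eq.trans ?_ (lift_c' G u _ _ _).symm
    refine (comp_congr G _ (lift_c' G u α β h₁) rfl).trans ?_
    refine Eq.trans ?_ (comp_congr G _ rfl (lift_c' G u β γ h₂)).symm
    exact comp_assoc G _ _ _ (compat G u α β h₁) (compat G u β γ h₂)
  e_s := by
    rw [← cancel_mono u, Category.assoc, ← ιR_s, ← Category.assoc, e'_ιR, Category.assoc, G.e_s,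
      Category.comp_id, Category.id_comp]
  e_t := by
    rw [← cancel_mono u, Category.assoc, ← ιR_t, ← Category.assoc, e'_ιR, Category.assoc, G.e_t,
      Category.comp_id, Category.id_comp]
  comp_e := fun α => by
    apply hom_ext' G u
    rw [lift_c']
    refine comp_e G _ _ ?_ _
    rw [Category.assoc, Category.assoc, e'_ιR, ← Category.assoc, ← Category.assoc,
      ← ιR_s_assoc', Category.assoc, Category.assoc]
  e_comp := fun α => by
    apply hom_ext' G u
    rw [lift_c']
    refine e_comp G _ _ ?_ _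
    rw [Category.assoc, Category.assoc, e'_ιR, ← Category.assoc, ← Category.assoc,
      ← ιR_t_assoc', Category.assoc, Category.assoc]
  i_s := by
    rw [← cancel_mono u, Category.assoc, ← ιR_s, ← Category.assoc, i'_ιR, Category.assoc, G.i_s,
      ιR_t]
  i_t := by
    rw [← cancel_mono u, Category.assoc, ← ιR_t, ← Category.assoc, i'_ιR, Category.assoc, G.i_t,
      ιR_s]
  comp_i := fun α => by
    apply hom_ext' G u
    rw [lift_c']
    have h1 : (α ≫ i' G u) ≫ ιR G u = (α ≫ ιR G u) ≫ G.i := by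
      rw [Category.assoc, i'_ιR, Category.assoc]
    rw [comp_congr G _ rfl h1, comp_i]
    simp only [Category.assoc, e'_ιR]
    rw [← Category.assoc (t' G u), ← ιR_t, Category.assoc]
  i_comp := fun α => by
    apply hom_ext' G u
    rw [lift_c']
    have h1 : (α ≫ i' G u) ≫ ιR G u = (α ≫ ιR G u) ≫ G.i := by
      rw [Category.assoc, i'_ιR, Category.assoc]
    rw [comp_congr G _ h1 rfl, i_comp]
    simp only [Category.assoc, e'_ιR]
    rw [← Category.assoc (s' G u), ← ιR_s, Category.assoc]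

@[simp] theorem pb_U : (pb G u).U = U' := rfl
@[simp] theorem pb_R : (pb G u).R = R' G u := rfl
@[simp] theorem pb_s : (pb G u).s = s' G u := rfl
@[simp] theorem pb_t : (pb G u).t = t' G u := rfl

end Groth.Agent.Lib.Helper11.QSec
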