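import Mathlib
import Groth.Prelude
import Groth.Agent.Lib.Helper11QSecA
import Groth.Agent.Lib.Helper11FfgEq2
import Groth.Agent.Lib.Helper11FfgMain
import Groth.Agent.Lib.Helper12Flat
import Groth.Agent.Lib.Helper2GrpdOrbit

/-!
# Quotient of a groupoid scheme with a quasi-section (helper11)
-/

set_option autoImplicit false
set_option linter.style.haveILetI false
set_option linter.unusedSectionVars false
universe u

open CategoryTheory CategoryTheory.Limits AlgebraicGeometry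

namespace Groth.Agent.Lib.Helper11.QSec

open Groth.Agent.Lib.Helper2.Grpd Groth.Agent.Lib.Helper11.Ffg

variable {S : Scheme.{u}} (G : Grpd.GroupoidScheme S) {U' : Scheme.{u}} (u : U' ⟶ G.U)

section pts

variable [Mono u]

theorem ιR_t_pt (ρ : R' G u) : G.t.base ((ιR G u).base ρ) = u.base ((t' G u).base ρ) := by
  have := congrArg (fun f => f.base ρ) (ιR_t G u)
  simpa using this

theorem ιR_s_pt (ρ : R' G u) : G.s.base ((ιR G u).base ρ) = u.base ((s' G u).base ρ) := by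
  have := congrArg (fun f => f.base ρ) (ιR_s G u)
  simpa using this

/-- orbits of the pulled back groupoid are pairwise equivalent for `G`. -/
theorem orbit_rel (x : U') (y₁ y₂ : U')
    (h₁ : y₁ ∈ (t' G u).base '' ((s' G u).base ⁻¹' {x}))
    (h₂ : y₂ ∈ (t' G u).base '' ((s' G u).base ⁻¹' {x})) :
    ∃ r : G.R, G.t.base r = u.base y₁ ∧ G.s.base r = u.base y₂ := by
  obtain ⟨ρ₁, hs₁, rfl⟩ := h₁
  obtain ⟨ρ₂, hs₂, rfl⟩ := h₂
  have hs₁' : (s' G u).base ρ₁ = x := hs₁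
  have hs₂' : (s' G u).base ρ₂ = x := hs₂
  have r1 : Groth.Agent.Lib.Helper2.GrpdOrbit.Rel G (u.base ((t' G u).base ρ₂)) (u.base x) := by
    refine ⟨G.i.base ((ιR G u).base ρ₂), ?_, ?_⟩
    · exact (s_i_pt G _).trans (ιR_t_pt G u ρ₂)
    · exact (t_i_pt G _).trans ((ιR_s_pt G u ρ₂).trans (by rw [hs₂']))
  have r2 : Groth.Agent.Lib.Helper2.GrpdOrbit.Rel G (u.base x) (u.base ((t' G u).base ρ₁)) := by
    refine ⟨(ιR G u).base ρ₁, ?_, ?_⟩
    · exact (ιR_s_pt G u ρ₁).trans (by rw [hs₁'])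
    · exact ιR_t_pt G u ρ₁
  obtain ⟨r, hr1, hr2⟩ := Groth.Agent.Lib.Helper2.GrpdOrbit.rel_trans G r1 r2
  exact ⟨r, hr2, hr1⟩

end pts

section main

variable [Mono u] {Y : Scheme.{u}} (p' : U' ⟶ Y) (w' : t' G u ≫ p' = s' G u ≫ p')

include w' in
/-- two arrows into `U'` with sources joined by an arrow of `R` have targets identified by `p'`. -/
theorem key {Z : Scheme.{u}} (g₁ g₂ : Z ⟶ V G u) (r : Z ⟶ G.R)
    (hs : r ≫ G.s = g₁ ≫ σ G u) (ht : r ≫ G.t = g₂ ≫ σ G u) :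
    g₂ ≫ vU G u ≫ p' = g₁ ≫ vU G u ≫ p' := by
  have h₁ : (g₂ ≫ vR G u) ≫ G.s = r ≫ G.t := by rw [ht, Category.assoc]
  have h₂ : comp G (g₂ ≫ vR G u) r h₁ ≫ G.s = ((g₁ ≫ vR G u) ≫ G.i) ≫ G.t := by
    rw [comp_s, hs, Category.assoc, Category.assoc, G.i_t]
  have hρt : comp G (comp G (g₂ ≫ vR G u) r h₁) ((g₁ ≫ vR G u) ≫ G.i) h₂ ≫ G.t =
      (g₂ ≫ vU G u) ≫ u := by
    rw [comp_t, comp_t, Category.assoc, Category.assoc, pullback.condition]
  have hρs : comp G (comp G (g₂ ≫ vR G u) r h₁) ((g₁ ≫ vR G u) ≫ G.i) h₂ ≫ G.s =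
      (g₁ ≫ vU G u) ≫ u := by
    rw [comp_s, Category.assoc, Category.assoc, G.i_s, Category.assoc, pullback.condition]
  obtain ⟨m, e1, e2⟩ : ∃ m : Z ⟶ R' G u, m ≫ t' G u = g₂ ≫ vU G u ∧
      m ≫ s' G u = g₁ ≫ vU G u :=
    ⟨mk G u _ _ _ hρt hρs, mk_t' G u _ _ _ hρt hρs, mk_s' G u _ _ _ hρt hρs⟩
  calc g₂ ≫ vU G u ≫ p' = (m ≫ t' G u) ≫ p' := by rw [e1, Category.assoc]
    _ = (m ≫ s' G u) ≫ p' := by rw [Category.assoc, w', Category.assoc]
    _ = g₁ ≫ vU G u ≫ p' := by rw [e2, Category.assoc]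

variable [Flat (σ G u)] [Surjective (σ G u)] [LocallyOfFinitePresentation (σ G u)]

include w' in
omit [Flat (σ G u)] [Surjective (σ G u)] [LocallyOfFinitePresentation (σ G u)] in
theorem pq_aux {Z : Scheme.{u}} (g₁ g₂ : Z ⟶ V G u) (h : g₁ ≫ σ G u = g₂ ≫ σ G u) :
    g₁ ≫ vU G u ≫ p' = g₂ ≫ vU G u ≫ p' := by
  refine key G u p' w' g₂ g₁ ((g₁ ≫ σ G u) ≫ G.e) ?_ ?_
  · rw [Category.assoc, G.e_s, Category.comp_id, h]
  · rw [Category.assoc, G.e_t, Category.comp_id]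

/-- the quotient map `U ⟶ Y` obtained by descent along `σ : V ⟶ U`. -/
noncomputable def pq : G.U ⟶ Y :=
  EffectiveEpi.desc (σ G u) (vU G u ≫ p') (fun g₁ g₂ h => pq_aux G u p' w' g₁ g₂ h)

theorem σ_pq : σ G u ≫ pq G u p' w' = vU G u ≫ p' :=
  EffectiveEpi.fac (σ G u) (vU G u ≫ p') (fun g₁ g₂ h => pq_aux G u p' w' g₁ g₂ h)

/-- the identity section of `vU`. -/
noncomputable def sec : U' ⟶ V G u :=
  pullback.lift (u ≫ G.e) (𝟙 U') (by rw [Category.assoc, G.e_t, Category.comp_id, Category.id_comp])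

theorem sec_vU : sec G u ≫ vU G u = 𝟙 U' := pullback.lift_snd _ _ _

theorem sec_σ : sec G u ≫ σ G u = u := by
  unfold sec
  rw [← Category.assoc, pullback.lift_fst, Category.assoc, G.e_s, Category.comp_id]

theorem u_pq : u ≫ pq G u p' w' = p' := by
  calc u ≫ pq G u p' w' = (sec G u ≫ σ G u) ≫ pq G u p' w' := by rw [sec_σ]
    _ = p' := by rw [Category.assoc, σ_pq, ← Category.assoc, sec_vU, Category.id_comp]

instance epi_σ : Epi (σ G u) := Flat.epi_of_flat_of_surjective _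

theorem pq_w : G.t ≫ pq G u p' w' = G.s ≫ pq G u p' w' := by
  -- cover of `R` over which source and target lift to `V`
  let q₁ : pullback G.s (σ G u) ⟶ G.R := pullback.fst _ _
  let q₂ : pullback (q₁ ≫ G.t) (σ G u) ⟶ pullback G.s (σ G u) := pullback.fst _ _
  haveI : Epi q₁ := Flat.epi_of_flat_of_surjective _
  haveI : Epi q₂ := Flat.epi_of_flat_of_surjective _
  rw [← cancel_epi q₁, ← cancel_epi q₂]
  have h1 : q₂ ≫ q₁ ≫ G.t = pullback.snd (q₁ ≫ G.t) (σ G u) ≫ σ G u := pullback.condition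
  have h2 : q₁ ≫ G.s = pullback.snd G.s (σ G u) ≫ σ G u := pullback.condition
  have hk := key G u p' w' (q₂ ≫ pullback.snd G.s (σ G u)) (pullback.snd (q₁ ≫ G.t) (σ G u))
    (q₂ ≫ q₁) (by rw [Category.assoc, h2, Category.assoc])
    (by rw [Category.assoc, h1])
  calc q₂ ≫ q₁ ≫ G.t ≫ pq G u p' w'
      = pullback.snd (q₁ ≫ G.t) (σ G u) ≫ σ G u ≫ pq G u p' w' := by
        rw [← Category.assoc q₁, ← Category.assoc q₂, h1, Category.assoc]
    _ = pullback.snd (q₁ ≫ G.t) (σ G u) ≫ vU G u ≫ p' := by rw [σ_pq]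
    _ = (q₂ ≫ pullback.snd G.s (σ G u)) ≫ vU G u ≫ p' := hk
    _ = q₂ ≫ pullback.snd G.s (σ G u) ≫ σ G u ≫ pq G u p' w' := by
        rw [σ_pq, Category.assoc]
    _ = q₂ ≫ q₁ ≫ G.s ≫ pq G u p' w' := by
        rw [← Category.assoc (pullback.snd G.s (σ G u)), ← h2, Category.assoc]

theorem isColimit_pq (hc' : IsColimit (Cofork.ofπ p' w')) :
    Nonempty (IsColimit (Cofork.ofπ (pq G u p' w') (pq_w G u p' w'))) := by
  have hk : ∀ {Z : Scheme.{u}} (k : G.U ⟶ Z), G.t ≫ k = G.s ≫ k →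
      t' G u ≫ u ≫ k = s' G u ≫ u ≫ k := by
    intro Z k hk
    rw [← Category.assoc, ← ιR_t, Category.assoc, hk, ← Category.assoc, ιR_s, Category.assoc]
  refine ⟨Cofork.IsColimit.mk _
    (fun c => (Cofork.IsColimit.desc' hc' (u ≫ c.π) (hk c.π c.condition)).1) ?_ ?_⟩
  · intro c
    have h1 : p' ≫ (Cofork.IsColimit.desc' hc' (u ≫ c.π) (hk c.π c.condition)).1 = u ≫ c.π :=
      (Cofork.IsColimit.desc' hc' (u ≫ c.π) (hk c.π c.condition)).2
    change pq G u p' w' ≫ _ = c.π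
    rw [← cancel_epi (σ G u), ← Category.assoc, σ_pq, Category.assoc, h1]
    have h2 : G.t ≫ c.π = G.s ≫ c.π := c.condition
    rw [← Category.assoc, ← pullback.condition, Category.assoc, h2, Category.assoc]
  · intro c m hm
    have h1 : p' ≫ (Cofork.IsColimit.desc' hc' (u ≫ c.π) (hk c.π c.condition)).1 = u ≫ c.π :=
      (Cofork.IsColimit.desc' hc' (u ≫ c.π) (hk c.π c.condition)).2
    have hm' : pq G u p' w' ≫ m = c.π := hm
    apply Cofork.IsColimit.hom_ext hc'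
    change p' ≫ m = p' ≫ _
    rw [h1, ← hm', ← Category.assoc, u_pq]

theorem surjective_pq [Surjective p'] : Surjective (pq G u p' w') := by
  haveI : Surjective (u ≫ pq G u p' w') := by rw [u_pq]; infer_instance
  exact Surjective.of_comp u (pq G u p' w')

theorem pq_t_pt (r : G.R) : (pq G u p' w').base (G.t.base r) = (pq G u p' w').base (G.s.base r) := by
  have := congrArg (fun f => f.base r) (pq_w G u p' w')
  simpa using this

theorem image_pq (W : Set G.U) :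
    (pq G u p' w').base '' W = p'.base '' (u.base ⁻¹' (G.t.base '' (G.s.base ⁻¹' W))) := by
  have hup : ∀ y : U', p'.base y = (pq G u p' w').base (u.base y) := by
    intro y
    have := congrArg (fun f => f.base y) (u_pq G u p' w')
    simpa using this.symm
  apply Set.Subset.antisymm
  · rintro _ ⟨x, hx, rfl⟩
    obtain ⟨v, rfl⟩ := (σ G u).surjective x
    refine ⟨(vU G u).base v, ⟨(vR G u).base v, ?_, ?_⟩, ?_⟩
    · exact hx
    · have := congrArg (fun f => f.base v) (pullback.condition (f := G.t) (g := u))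
      simpa using this
    · have := congrArg (fun f => f.base v) (σ_pq G u p' w')
      simpa using this.symm
  · rintro _ ⟨y, ⟨r, hr, hry⟩, rfl⟩
    refine ⟨G.s.base r, hr, ?_⟩
    rw [hup, ← hry, pq_t_pt]

theorem isOpenMap_pq (hp' : IsOpenMap p'.base) (ht : IsOpenMap G.t.base) :
    IsOpenMap (pq G u p' w').base := by
  intro W hW
  rw [image_pq]
  exact hp' _ ((ht _ (hW.preimage G.s.base.hom.continuous)).preimage u.base.hom.continuous)

theorem universallyClosed_pq [UniversallyClosed p'] [UniversallyClosed G.t] :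
    UniversallyClosed (pq G u p' w') := by
  haveI : UniversallyClosed (σ G u ≫ pq G u p' w') := by rw [σ_pq]; infer_instance
  exact UniversallyClosed.of_comp_surjective (σ G u) (pq G u p' w')

omit [Flat (σ G u)] [Surjective (σ G u)] [LocallyOfFinitePresentation (σ G u)] in
/-- conjugating an arrow of `R'` by two arrows with targets in `U'`. -/
theorem exists_conj {Z : Scheme.{u}} (ga gb : Z ⟶ V G u) (ρ' : Z ⟶ R' G u)
    (ht : ρ' ≫ t' G u = ga ≫ vU G u) (hs : ρ' ≫ s' G u = gb ≫ vU G u) :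
    ∃ r : Z ⟶ G.R, r ≫ G.t = ga ≫ σ G u ∧ r ≫ G.s = gb ≫ σ G u := by
  have h₁ : ((ga ≫ vR G u) ≫ G.i) ≫ G.s = (ρ' ≫ ιR G u) ≫ G.t := by
    rw [Category.assoc, G.i_s, ιR_t_assoc', ht, Category.assoc, Category.assoc, pullback.condition]
  have h₂ : comp G ((ga ≫ vR G u) ≫ G.i) (ρ' ≫ ιR G u) h₁ ≫ G.s = (gb ≫ vR G u) ≫ G.t := by
    rw [comp_s, ιR_s_assoc', hs, Category.assoc, Category.assoc, pullback.condition]
  refine ⟨comp G (comp G ((ga ≫ vR G u) ≫ G.i) (ρ' ≫ ιR G u) h₁) (gb ≫ vR G u) h₂, ?_, ?_⟩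
  · rw [comp_t, comp_t, Category.assoc, G.i_t, Category.assoc]
  · rw [comp_s, Category.assoc]

omit [Mono u] in
/-- lifting a point of `U` to `V` after an fppf cover. -/
theorem exists_cover_V {Z : Scheme.{u}} (a : Z ⟶ G.U) :
    ∃ (Z' : Scheme.{u}) (π : Z' ⟶ Z) (g : Z' ⟶ V G u), Surjective π ∧ Flat π ∧
      LocallyOfFinitePresentation π ∧ g ≫ σ G u = π ≫ a :=
  ⟨pullback a (σ G u), pullback.fst _ _, pullback.snd _ _, inferInstance, inferInstance,
    inferInstance, pullback.condition.symm⟩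

omit [Mono u] in
/-- lifting two points of `U` to `V` after an fppf cover. -/
theorem exists_cover_V₂ {Z : Scheme.{u}} (a b : Z ⟶ G.U) :
    ∃ (Z' : Scheme.{u}) (π : Z' ⟶ Z) (ga gb : Z' ⟶ V G u), Surjective π ∧ Flat π ∧
      LocallyOfFinitePresentation π ∧ ga ≫ σ G u = π ≫ a ∧ gb ≫ σ G u = π ≫ b := by
  obtain ⟨Z₁, π₁, g₁, i1, i2, i3, h₁⟩ := exists_cover_V G u a
  obtain ⟨Z₂, π₂, g₂, j1, j2, j3, h₂⟩ := exists_cover_V G u (π₁ ≫ b)
  refine ⟨Z₂, π₂ ≫ π₁, π₂ ≫ g₁, g₂, inferInstance, inferInstance, inferInstance, ?_, ?_⟩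
  · exact (Category.assoc _ _ _).trans ((congrArg (π₂ ≫ ·) h₁).trans (Category.assoc _ _ _).symm)
  · exact h₂.trans (Category.assoc _ _ _).symm

omit [Mono u] [Flat (σ G u)] [Surjective (σ G u)] [LocallyOfFinitePresentation (σ G u)] in
theorem vU_eq_of_eq (p : G.U ⟶ Y) (hσ : σ G u ≫ p = vU G u ≫ p') {Z Z' : Scheme.{u}}
    (a b : Z ⟶ G.U) (hab : a ≫ p = b ≫ p) (π : Z' ⟶ Z) (ga gb : Z' ⟶ V G u)
    (ha : ga ≫ σ G u = π ≫ a) (hb : gb ≫ σ G u = π ≫ b) :
    (ga ≫ vU G u) ≫ p' = (gb ≫ vU G u) ≫ p' := by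
  have e1 : (ga ≫ vU G u) ≫ p' = (ga ≫ σ G u) ≫ p :=
    (Category.assoc _ _ _).trans ((congrArg (ga ≫ ·) hσ.symm).trans (Category.assoc _ _ _).symm)
  have e2 : (gb ≫ vU G u) ≫ p' = (gb ≫ σ G u) ≫ p :=
    (Category.assoc _ _ _).trans ((congrArg (gb ≫ ·) hσ.symm).trans (Category.assoc _ _ _).symm)
  rw [e1, e2, ha, hb]
  exact (Category.assoc _ _ _).trans ((congrArg (π ≫ ·) hab).trans (Category.assoc _ _ _).symm)

omit [Flat (σ G u)] [Surjective (σ G u)] [LocallyOfFinitePresentation (σ G u)] in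
theorem exists_cover_R' (hsl : Function.Surjective (pullback.lift (t' G u) (s' G u) w').base)
    {Z : Scheme.{u}} (ya yb : Z ⟶ U') (hy : ya ≫ p' = yb ≫ p') :
    ∃ (Z' : Scheme.{u}) (π : Z' ⟶ Z) (ρ' : Z' ⟶ R' G u), Surjective π ∧
      ρ' ≫ t' G u = π ≫ ya ∧ ρ' ≫ s' G u = π ≫ yb := by
  haveI : Surjective (pullback.lift (t' G u) (s' G u) w') := ⟨hsl⟩
  refine ⟨pullback (pullback.lift ya yb hy) (pullback.lift (t' G u) (s' G u) w'),
    pullback.fst _ _, pullback.snd _ _, inferInstance, ?_, ?_⟩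
  · have := congrArg (· ≫ pullback.fst p' p') (pullback.condition
      (f := pullback.lift ya yb hy) (g := pullback.lift (t' G u) (s' G u) w'))
    simp only [Category.assoc, pullback.lift_fst] at this
    exact this.symm
  · have := congrArg (· ≫ pullback.snd p' p') (pullback.condition
      (f := pullback.lift ya yb hy) (g := pullback.lift (t' G u) (s' G u) w'))
    simp only [Category.assoc, pullback.lift_snd] at this
    exact this.symm

theorem surjective_lift_aux (p : G.U ⟶ Y) (hσ : σ G u ≫ p = vU G u ≫ p')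
    (hw : G.t ≫ p = G.s ≫ p)
    (hsl : Function.Surjective (pullback.lift (t' G u) (s' G u) w').base) :
    Function.Surjective (pullback.lift G.t G.s hw).base := by
  obtain ⟨Z₁, π₁, ga, gb, i1, -, -, ha, hb⟩ :=
    exists_cover_V₂ G u (pullback.fst p p) (pullback.snd p p)
  have hab := vU_eq_of_eq G u p' p hσ _ _ pullback.condition π₁ ga gb ha hb
  obtain ⟨Z₂, π₂, ρ', j1, hρt, hρs⟩ := exists_cover_R' G u p' w' hsl _ _ hab
  obtain ⟨r, hrt, hrs⟩ := exists_conj G u (π₂ ≫ ga) (π₂ ≫ gb) ρ'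
    (hρt.trans (Category.assoc _ _ _).symm) (hρs.trans (Category.assoc _ _ _).symm)
  have hr : r ≫ pullback.lift G.t G.s hw = π₂ ≫ π₁ := by
    apply pullback.hom_ext
    · rw [Category.assoc, pullback.lift_fst, hrt]
      exact (Category.assoc _ _ _).trans ((congrArg (π₂ ≫ ·) ha).trans (Category.assoc _ _ _).symm)
    · rw [Category.assoc, pullback.lift_snd, hrs]
      exact (Category.assoc _ _ _).trans ((congrArg (π₂ ≫ ·) hb).trans (Category.assoc _ _ _).symm)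
  intro z
  obtain ⟨w, rfl⟩ := (π₂ ≫ π₁).surjective z
  refine ⟨r.base w, ?_⟩
  have := congrArg (fun f => f.base w) hr
  simpa using this

theorem surjective_lift_pq
    (hsl : Function.Surjective (pullback.lift (t' G u) (s' G u) w').base) :
    Function.Surjective (pullback.lift G.t G.s (pq_w G u p' w')).base :=
  surjective_lift_aux G u p' w' _ (σ_pq G u p' w') _ hsl

theorem exists_lift_aux [Mono G.j] (p : G.U ⟶ Y) (hσ : σ G u ≫ p = vU G u ≫ p')
    (hpb : IsPullback (t' G u) (s' G u) p' p') {T : Scheme.{u}}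
    (a b : T ⟶ G.U) (hab : a ≫ p = b ≫ p) :
    ∃ r : T ⟶ G.R, r ≫ G.t = a ∧ r ≫ G.s = b := by
  obtain ⟨Z₁, π, ga, gb, i1, i2, i3, ha, hb⟩ := exists_cover_V₂ G u a b
  have hab' := vU_eq_of_eq G u p' p hσ _ _ hab π ga gb ha hb
  obtain ⟨r1, h1t, h1s⟩ := exists_conj G u ga gb (hpb.lift _ _ hab') (hpb.lift_fst _ _ _)
    (hpb.lift_snd _ _ _)
  have hdesc : ∀ {Z : Scheme.{u}} (g₁ g₂ : Z ⟶ Z₁), g₁ ≫ π = g₂ ≫ π → g₁ ≫ r1 = g₂ ≫ r1 := by
    intro Z g₁ g₂ h
    apply jm_of_mono G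
    · rw [Category.assoc, Category.assoc, h1t, ha, ← Category.assoc, h, Category.assoc]
    · rw [Category.assoc, Category.assoc, h1s, hb, ← Category.assoc, h, Category.assoc]
  haveI : Epi π := Flat.epi_of_flat_of_surjective _
  refine ⟨EffectiveEpi.desc π r1 hdesc, ?_, ?_⟩
  · rw [← cancel_epi π, ← Category.assoc, EffectiveEpi.fac π r1 hdesc, h1t, ha]
  · rw [← cancel_epi π, ← Category.assoc, EffectiveEpi.fac π r1 hdesc, h1s, hb]

theorem exists_lift_pq [Mono G.j] (hpb : IsPullback (t' G u) (s' G u) p' p') {T : Scheme.{u}}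
    (a b : T ⟶ G.U) (hab : a ≫ pq G u p' w' = b ≫ pq G u p' w') :
    ∃ r : T ⟶ G.R, r ≫ G.t = a ∧ r ≫ G.s = b :=
  exists_lift_aux G u p' _ (σ_pq G u p' w') hpb a b hab

theorem isPullback_pq [Mono G.j] (hpb : IsPullback (t' G u) (s' G u) p' p') :
    IsPullback G.t G.s (pq G u p' w') (pq G u p' w') := by
  refine ⟨⟨pq_w G u p' w'⟩, ⟨PullbackCone.IsLimit.mk _
    (fun c => (exists_lift_pq G u p' w' hpb c.fst c.snd c.condition).choose) ?_ ?_ ?_⟩⟩
  · intro c
    exact (exists_lift_pq G u p' w' hpb c.fst c.snd c.condition).choose_spec.1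
  · intro c
    exact (exists_lift_pq G u p' w' hpb c.fst c.snd c.condition).choose_spec.2
  · intro c m hm1 hm2
    apply jm_of_mono G
    · rw [hm1, (exists_lift_pq G u p' w' hpb c.fst c.snd c.condition).choose_spec.1]
    · rw [hm2, (exists_lift_pq G u p' w' hpb c.fst c.snd c.condition).choose_spec.2]

theorem flat_pq [Flat p'] [Flat G.t] : Flat (pq G u p' w') := by
  haveI : Flat (σ G u ≫ pq G u p' w') := by rw [σ_pq]; infer_instance
  exact Groth.Agent.Lib.Helper12.flat_of_comp_of_flat_of_surjective (σ G u) (pq G u p' w')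

omit [Flat (σ G u)] [Surjective (σ G u)] [LocallyOfFinitePresentation (σ G u)] in
theorem mono_j_pb [Mono G.j] : Mono (pb G u).j := by
  apply mono_j_of_jm
  intro Z a b h1 h2
  change Z ⟶ R' G u at a b
  apply hom_ext' G u
  apply jm_of_mono G
  · have h1' : a ≫ t' G u = b ≫ t' G u := h1
    rw [ιR_t_assoc', ιR_t_assoc', h1']
  · have h2' : a ≫ s' G u = b ≫ s' G u := h2
    rw [ιR_s_assoc', ιR_s_assoc', h2']

end main

end Groth.Agent.Lib.Helper11.QSec
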