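import Mathlib

set_option autoImplicit false
universe u

open CategoryTheory CategoryTheory.Limits AlgebraicGeometry TopologicalSpace

namespace Groth.Agent.Lib.Helper11.QfAff

/-- ring level: a point in the closure of the image of `Spec C → Spec B` is a specialization of a
point of the image. -/
theorem exists_specializes_of_mem_closure_range_comap {B C : Type*} [CommRing B] [CommRing C]
    (φ : B →+* C) (z : PrimeSpectrum B)
    (hz : z ∈ closure (Set.range (PrimeSpectrum.comap φ))) :
    ∃ y : PrimeSpectrum C, PrimeSpectrum.comap φ y ⤳ z := by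
  rw [PrimeSpectrum.closure_range_comap] at hz
  obtain ⟨p, hp, hpz⟩ := Ideal.exists_minimalPrimes_le (show RingHom.ker φ ≤ z.asIdeal from hz)
  have hp' : p ∈ ((⊥ : Ideal C).comap φ).minimalPrimes := by rwa [← RingHom.ker_eq_comap_bot]
  obtain ⟨p', hp'1, -, hp'2⟩ := Ideal.exists_comap_eq_of_mem_minimalPrimes φ p hp'
  refine ⟨⟨p', hp'1⟩, ?_⟩
  rw [← PrimeSpectrum.le_iff_specializes, ← PrimeSpectrum.asIdeal_le_asIdeal]
  rw [PrimeSpectrum.comap_asIdeal]
  change Ideal.comap φ p' ≤ _
  rw [hp'2]
  exact hpz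

/-- ring level, locally closed subsets `V(I) ∩ D(f)`. -/
theorem exists_specializes_of_mem_closure_zeroLocus_inter_basicOpen {B : Type*} [CommRing B]
    (I : Ideal B) (f : B) (z : PrimeSpectrum B)
    (hz : z ∈ closure (PrimeSpectrum.zeroLocus (I : Set B) ∩
      (PrimeSpectrum.basicOpen f : Set (PrimeSpectrum B)))) :
    ∃ y ∈ PrimeSpectrum.zeroLocus (I : Set B) ∩
      (PrimeSpectrum.basicOpen f : Set (PrimeSpectrum B)), y ⤳ z := by
  let C := Localization.Away (Ideal.Quotient.mk I f)
  let φ : B →+* C := (algebraMap (B ⧸ I) C).comp (Ideal.Quotient.mk I)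
  have hrange : Set.range (PrimeSpectrum.comap φ) =
      PrimeSpectrum.zeroLocus (I : Set B) ∩ (PrimeSpectrum.basicOpen f : Set (PrimeSpectrum B)) := by
    ext y
    constructor
    · rintro ⟨q, rfl⟩
      refine ⟨?_, ?_⟩
      · intro b hb
        change φ b ∈ q.asIdeal
        have : φ b = 0 := by
          change algebraMap (B ⧸ I) C (Ideal.Quotient.mk I b) = 0
          rw [Ideal.Quotient.eq_zero_iff_mem.2 hb, map_zero]
        rw [this]; exact q.asIdeal.zero_mem
      · change φ f ∉ q.asIdeal
        intro hf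
        have hu : IsUnit (φ f) := IsLocalization.Away.algebraMap_isUnit (Ideal.Quotient.mk I f)
        exact q.2.ne_top (Ideal.eq_top_of_isUnit_mem _ hf hu)
    · rintro ⟨hy1, hy2⟩
      have h1 : y ∈ Set.range (PrimeSpectrum.comap (Ideal.Quotient.mk I)) := by
        rw [_root_.range_comap_of_surjective _ _ Ideal.Quotient.mk_surjective,
          Ideal.mk_ker]
        exact hy1
      obtain ⟨y', rfl⟩ := h1
      have h2 : y' ∈ Set.range (PrimeSpectrum.comap (algebraMap (B ⧸ I) C)) := by
        rw [PrimeSpectrum.localization_away_comap_range C (Ideal.Quotient.mk I f)]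
        exact hy2
      obtain ⟨y'', rfl⟩ := h2
      exact ⟨y'', rfl⟩
  rw [← hrange] at hz ⊢
  obtain ⟨y, hy⟩ := exists_specializes_of_mem_closure_range_comap φ z hz
  exact ⟨_, ⟨y, rfl⟩, hy⟩

end Groth.Agent.Lib.Helper11.QfAff
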