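import Mathlib
import Groth.Agent.Lib.Helper11QfAffA

set_option autoImplicit false
universe u

open CategoryTheory CategoryTheory.Limits AlgebraicGeometry TopologicalSpace

namespace Groth.Agent.Lib.Helper11.QfAff

/-- scheme level: for an affine open `N`, a function `f` on `N`, a closed set `C`, every point of
`N` in the closure of `C ∩ D(f)` is a specialization of a point of `C ∩ D(f)`. -/
theorem exists_specializes_of_mem_closure {X : Scheme.{u}} {N : X.Opens} (hN : IsAffineOpen N)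
    (f : Γ(X, N)) (C : Set X) (hC : IsClosed C) (z : X) (hzN : z ∈ N)
    (hz : z ∈ closure (C ∩ (X.basicOpen f : Set X))) :
    ∃ z₁ ∈ C ∩ (X.basicOpen f : Set X), z₁ ⤳ z := by
  have hzr : z ∈ Set.range hN.fromSpec := by rw [hN.range_fromSpec]; exact hzN
  obtain ⟨z', rfl⟩ := hzr
  have hcl : IsClosed (hN.fromSpec ⁻¹' C) := hC.preimage hN.fromSpec.continuous
  obtain ⟨I, hI⟩ := (PrimeSpectrum.isClosed_iff_zeroLocus_ideal _).1 hcl
  have hb : hN.fromSpec ⁻¹' (X.basicOpen f : Set X) =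
      (PrimeSpectrum.basicOpen f : Set (PrimeSpectrum Γ(X, N))) := by
    have := hN.fromSpec_preimage_basicOpen f
    exact congrArg (fun U : (Spec Γ(X, N)).Opens => (U : Set (Spec Γ(X, N)))) this
  have hz' : z' ∈ closure (hN.fromSpec ⁻¹' (C ∩ (X.basicOpen f : Set X))) := by
    rw [← hN.fromSpec.isOpenEmbedding.isOpenMap.preimage_closure_eq_closure_preimage
      hN.fromSpec.continuous]
    exact hz
  rw [Set.preimage_inter, hb, hI] at hz'
  obtain ⟨y, hy, hyz⟩ := exists_specializes_of_mem_closure_zeroLocus_inter_basicOpen I f z' hz'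
  refine ⟨hN.fromSpec y, ⟨?_, ?_⟩, hyz.map hN.fromSpec.continuous⟩
  · have : y ∈ hN.fromSpec ⁻¹' C := by rw [hI]; exact hy.1
    exact this
  · have : y ∈ hN.fromSpec ⁻¹' (X.basicOpen f : Set X) := by rw [hb]; exact hy.2
    exact this

/-- scheme level: for a quasi-compact morphism, every point in the closure of the range is a
specialization of a point of the range. -/
theorem exists_specializes_of_mem_closure_range {T X : Scheme.{u}} (g : T ⟶ X) [QuasiCompact g]
    (z : X) (hz : z ∈ closure (Set.range g)) : ∃ y : T, g y ⤳ z := by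
  obtain ⟨N, hN, hzN, -⟩ := exists_isAffineOpen_mem_and_subset (x := z) (U := ⊤) trivial
  have hcpt : IsCompact (g ⁻¹ᵁ N : Set T) := QuasiCompact.isCompact_preimage _ N.2 hN.isCompact
  obtain ⟨s, hs, hU⟩ := isCompact_and_isOpen_iff_finite_and_eq_biUnion_affineOpens.1
    ⟨hcpt, (g ⁻¹ᵁ N).2⟩
  -- z ∈ closure (range g ∩ N)
  have h1 : z ∈ closure (Set.range g ∩ (N : Set X)) :=
    mem_closure_iff_nhds.2 (fun t ht => by
      have := mem_closure_iff_nhds.1 hz (t ∩ N) (Filter.inter_mem ht (N.2.mem_nhds hzN))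
      obtain ⟨w, ⟨hw1, hw2⟩, hw3⟩ := this
      exact ⟨w, hw1, hw3, hw2⟩)
  have h2 : Set.range g ∩ (N : Set X) = ⋃ i ∈ s, g '' (i : Set T) := by
    ext w
    simp only [Set.mem_inter_iff, Set.mem_range, Set.mem_iUnion, Set.mem_image]
    constructor
    · rintro ⟨⟨y, rfl⟩, hw⟩
      have : y ∈ (g ⁻¹ᵁ N : Set T) := hw
      rw [hU] at this
      simp only [Set.mem_iUnion] at this
      obtain ⟨i, hi, hyi⟩ := this
      exact ⟨i, hi, y, hyi, rfl⟩
    · rintro ⟨i, hi, y, hyi, rfl⟩
      refine ⟨⟨y, rfl⟩, ?_⟩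
      have : y ∈ (g ⁻¹ᵁ N : Set T) := by
        rw [hU]; simp only [Set.mem_iUnion]; exact ⟨i, hi, hyi⟩
      exact this
  rw [h2, hs.closure_biUnion] at h1
  simp only [Set.mem_iUnion] at h1
  obtain ⟨i, hi, hzi⟩ := h1
  have hiN : (i : T.Opens) ≤ g ⁻¹ᵁ N := by
    intro y hy
    have : y ∈ (g ⁻¹ᵁ N : Set T) := by
      rw [hU]; simp only [Set.mem_iUnion]; exact ⟨i, hi, hy⟩
    exact this
  have hsq := IsAffineOpen.SpecMap_appLE_fromSpec g hN i.2 hiN
  have hzr : z ∈ Set.range hN.fromSpec := by rw [hN.range_fromSpec]; exact hzN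
  obtain ⟨z', rfl⟩ := hzr
  have himg : g '' (i : Set T) = hN.fromSpec '' (Set.range (Spec.map (g.appLE N i hiN))) := by
    rw [← i.2.range_fromSpec, ← Set.range_comp, ← Set.range_comp]
    change Set.range (i.2.fromSpec ≫ g) = Set.range (Spec.map (g.appLE N i hiN) ≫ hN.fromSpec)
    rw [hsq]
  have hz' : z' ∈ closure (Set.range (Spec.map (g.appLE N i hiN))) := by
    have h3 : z' ∈ hN.fromSpec ⁻¹' closure (g '' (i : Set T)) := hzi
    rw [hN.fromSpec.isOpenEmbedding.isOpenMap.preimage_closure_eq_closure_preimage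
      hN.fromSpec.continuous, himg,
      Set.preimage_image_eq _ hN.fromSpec.isOpenEmbedding.injective] at h3
    exact h3
  obtain ⟨y, hy⟩ := exists_specializes_of_mem_closure_range_comap (g.appLE N i hiN).hom z' hz'
  refine ⟨i.2.fromSpec y, ?_⟩
  have h4 : g (i.2.fromSpec y) = hN.fromSpec (Spec.map (g.appLE N i hiN) y) := by
    have := congrArg (fun h : Spec Γ(T, i) ⟶ X => h y) hsq
    exact this.symm
  rw [h4]
  exact Specializes.map hy hN.fromSpec.continuous

end Groth.Agent.Lib.Helper11.QfAff
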