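import Mathlib
import Groth.Agent.Lib.Helper11QfAffB
import Groth.Agent.Lib.Helper11QfAffC

set_option autoImplicit false
universe u

open CategoryTheory CategoryTheory.Limits AlgebraicGeometry TopologicalSpace

namespace Groth.Agent.Lib.Helper11.QfAff

variable {S X X' : Scheme.{u}} (a : X ⟶ S) (b : X' ⟶ S) (j : X ⟶ X')

/-- the complement of a dense quasi-compact open `j(X)` whose fibres over `S` are closed in the
fibres of `X'` has no points over the generic points of `S`. -/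
theorem exists_generization [QuasiCompact j] [IsDominant j] (hj : j ≫ b = a)
    (hA : ∀ z : X', z ∉ Set.range j →
      ∃ N₀ : X'.Opens, z ∈ N₀ ∧ ∀ x : X, j x ∈ N₀ → a x ≠ b z)
    (z : X') (hz : z ∉ Set.range j) : ∃ s₀ : S, s₀ ⤳ b z ∧ s₀ ≠ b z := by
  by_contra hcon
  push Not at hcon
  obtain ⟨N₀, hzN₀, hN₀⟩ := hA z hz
  obtain ⟨x, hx⟩ := exists_specializes_of_mem_closure_range j z
    (by rw [j.denseRange.closure_range]; trivial)
  have hax : a x = b (j x) := by rw [← hj]; rfl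
  have h1 : a x ⤳ b z := by rw [hax]; exact hx.map b.continuous
  exact hN₀ x (hx.mem_open N₀.2 hzN₀) (hcon _ h1)

/-- **key step**: a dense quasi-compact open immersion `j : X → X'` over a locally Noetherian base
`S` of dimension `≤ 1`, such that the fibres of `X` are closed in the fibres of `X'`, is affine. -/
theorem isAffineHom_of_closed_fibres [IsLocallyNoetherian S] (hdim : topologicalKrullDim S ≤ 1)
    [IsOpenImmersion j] [QuasiCompact j] [IsDominant j] (hj : j ≫ b = a)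
    (hA : ∀ z : X', z ∉ Set.range j →
      ∃ N₀ : X'.Opens, z ∈ N₀ ∧ ∀ x : X, j x ∈ N₀ → a x ≠ b z) :
    IsAffineHom j := by
  apply isAffineHom_of_forall_exists_isAffineOpen
  intro z
  have hab : ∀ x : X, a x = b (j x) := fun x => by rw [← hj]; rfl
  by_cases hz : z ∈ Set.range j
  · obtain ⟨N, hN, hzN, hNle⟩ := exists_isAffineOpen_mem_and_subset (x := z) (U := j.opensRange) hz
    exact ⟨N, hzN, hN, hN.preimage_of_isOpenImmersion j hNle⟩
  · obtain ⟨N₀, hzN₀, hN₀⟩ := hA z hz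
    obtain ⟨s₀, hs₀, hs₀ne⟩ := exists_generization a b j hj hA z hz
    obtain ⟨S₁, t, hS₁, hsS₁, hcut⟩ := exists_affine_cut hdim (b z) s₀ hs₀ hs₀ne
    obtain ⟨N₁, hN₁, hzN₁, hN₁le⟩ := exists_isAffineOpen_mem_and_subset (x := z)
      (U := N₀ ⊓ b ⁻¹ᵁ S₁) ⟨hzN₀, hsS₁⟩
    have hN₁S : N₁ ≤ b ⁻¹ᵁ S₁ := hN₁le.trans inf_le_right
    have hN₁N₀ : N₁ ≤ N₀ := hN₁le.trans inf_le_left
    set t₁ : Γ(X', N₁) := b.appLE S₁ N₁ hN₁S t with ht₁
    have hbt₁ : X'.basicOpen t₁ = N₁ ⊓ b ⁻¹ᵁ S.basicOpen t := Scheme.basicOpen_appLE b N₁ S₁ hN₁S t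
    have hCcl : IsClosed (Set.range j)ᶜ := j.isOpenEmbedding.isOpen_range.isClosed_compl
    have hzE : z ∉ closure ((Set.range j)ᶜ ∩ (X'.basicOpen t₁ : Set X')) := by
      intro hzE
      obtain ⟨z₁, ⟨hz₁1, hz₁2⟩, hz₁z⟩ :=
        exists_specializes_of_mem_closure hN₁ t₁ _ hCcl z hzN₁ hzE
      have hz₁2' : z₁ ∈ N₁ ⊓ b ⁻¹ᵁ S.basicOpen t := by rw [← hbt₁]; exact hz₁2
      have h1 : b z₁ ∈ S.basicOpen t := hz₁2'.2
      have h2 : b z₁ ∈ S₁ := hN₁S hz₁2'.1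
      have h3 : b z₁ ≠ b z := (hcut _ h2).1 h1
      obtain ⟨s₁, hs₁, hs₁ne⟩ := exists_generization a b j hj hA z₁ hz₁1
      exact no_chain hdim hs₁ (hz₁z.map b.continuous) hs₁ne h3
    let O : X'.Opens := ⟨(closure ((Set.range j)ᶜ ∩ (X'.basicOpen t₁ : Set X')))ᶜ,
      isClosed_closure.isOpen_compl⟩
    obtain ⟨h, hhO, hzh⟩ := hN₁.exists_basicOpen_le (V := O) ⟨z, hzE⟩ hzN₁
    have hNN₁ : X'.basicOpen h ≤ N₁ := X'.basicOpen_le h
    have hNS : X'.basicOpen h ≤ b ⁻¹ᵁ S₁ := hNN₁.trans hN₁S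
    have hNaff : IsAffineOpen (X'.basicOpen h) := hN₁.basicOpen h
    set t₂ : Γ(X', X'.basicOpen h) := b.appLE S₁ (X'.basicOpen h) hNS t with ht₂
    have hbt₂ : X'.basicOpen t₂ = X'.basicOpen h ⊓ b ⁻¹ᵁ S.basicOpen t :=
      Scheme.basicOpen_appLE b _ S₁ hNS t
    have hle : X'.basicOpen t₂ ≤ j.opensRange := by
      intro w hw
      rw [hbt₂] at hw
      by_contra hwr
      have hwE : w ∈ (Set.range j)ᶜ ∩ (X'.basicOpen t₁ : Set X') := by
        refine ⟨hwr, ?_⟩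
        have : w ∈ N₁ ⊓ b ⁻¹ᵁ S.basicOpen t := ⟨hNN₁ hw.1, hw.2⟩
        rw [← hbt₁] at this
        exact this
      exact hhO hw.1 (subset_closure hwE)
    have hpre : j ⁻¹ᵁ X'.basicOpen h = j ⁻¹ᵁ X'.basicOpen t₂ := by
      apply le_antisymm
      · intro x hx
        have hx' : j x ∈ X'.basicOpen h := hx
        have h1 : a x ≠ b z := hN₀ x (hN₁N₀ (hNN₁ hx'))
        have h2 : a x ∈ S₁ := by rw [hab]; exact hNS hx'
        have h3 : a x ∈ S.basicOpen t := (hcut _ h2).2 h1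
        change j x ∈ X'.basicOpen t₂
        rw [hbt₂]
        refine ⟨hx', ?_⟩
        change b (j x) ∈ S.basicOpen t
        rw [← hab]; exact h3
      · exact j.preimage_mono (X'.basicOpen_le t₂)
    refine ⟨X'.basicOpen h, hzh, hNaff, ?_⟩
    rw [hpre]
    exact (hNaff.basicOpen t₂).preimage_of_isOpenImmersion j hle

end Groth.Agent.Lib.Helper11.QfAff
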