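import Mathlib
import Groth.Agent.Lib.Helper11QfAffD

set_option autoImplicit false
universe u

open CategoryTheory CategoryTheory.Limits AlgebraicGeometry TopologicalSpace

namespace Groth.Agent.Lib.Helper11.QfAff

/-- if `X → X' → Y` are `S`-morphisms with `X' → Y` separated and the fibre over `s` of the
composite universally closed, the fibre of `X` over `s` is closed in the fibre of `X'`. -/
theorem closed_fibre {S : Scheme.{u}} {X X' Y : Over S} (jO : X ⟶ X') (πO : X' ⟶ Y)
    [IsSeparated πO.left] (s : S)
    (hfin : UniversallyClosed ((Over.pullback (S.fromSpecResidueField s)).map (jO ≫ πO)).left)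
    (z : X'.left) (hzs : X'.hom z = s) (hz : z ∉ Set.range jO.left) :
    ∃ N₀ : X'.left.Opens, z ∈ N₀ ∧ ∀ x : X.left, jO.left x ∈ N₀ → X.hom x ≠ s := by
  let g := S.fromSpecResidueField s
  let φ' : pullback X'.hom g ⟶ X'.left := pullback.fst X'.hom g
  let φ : pullback X.hom g ⟶ X.left := pullback.fst X.hom g
  let js : pullback X.hom g ⟶ pullback X'.hom g := ((Over.pullback g).map jO).left
  let πs : pullback X'.hom g ⟶ pullback Y.hom g := ((Over.pullback g).map πO).left
  have h1 : js ≫ φ' = φ ≫ jO.left := by
    simp only [js, φ', φ, Over.pullback_map_left]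
    exact pullback.lift_fst _ _ _
  have h2 : πs ≫ pullback.fst Y.hom g = φ' ≫ πO.left := by
    simp only [πs, φ', Over.pullback_map_left]
    exact pullback.lift_fst _ _ _
  haveI : IsSeparated (πs ≫ pullback.fst Y.hom g) := by rw [h2]; infer_instance
  haveI : IsSeparated πs := IsSeparated.of_comp πs (pullback.fst Y.hom g)
  haveI : UniversallyClosed (js ≫ πs) := by
    have : js ≫ πs = ((Over.pullback g).map (jO ≫ πO)).left := by
      rw [Functor.map_comp, Over.comp_left]
    rw [this]; exact hfin
  haveI : UniversallyClosed js := UniversallyClosed.of_comp_of_isSeparated js πs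
  have hcl : IsClosed (Set.range js) := js.isClosedMap.isClosed_range
  have hrφ' : Set.range φ' = X'.hom ⁻¹' {s} := Scheme.Hom.range_fiberι X'.hom s
  have hrφ : Set.range φ = X.hom ⁻¹' {s} := Scheme.Hom.range_fiberι X.hom s
  have hemb : Topology.IsEmbedding φ' := (X'.hom.fiberι s).isEmbedding
  have hzr : z ∈ Set.range φ' := by rw [hrφ']; exact hzs
  obtain ⟨z', rfl⟩ := hzr
  have hz' : z' ∉ Set.range js := by
    rintro ⟨w, rfl⟩
    apply hz
    refine ⟨φ w, ?_⟩
    have := congrArg (fun k : pullback X.hom g ⟶ X'.left => k w) h1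
    exact this.symm
  obtain ⟨N₀, hN₀o, hN₀⟩ := hemb.isInducing.isOpen_iff.1 hcl.isOpen_compl
  refine ⟨⟨N₀, hN₀o⟩, ?_, ?_⟩
  · have : z' ∈ φ' ⁻¹' N₀ := by rw [hN₀]; exact hz'
    exact this
  · intro x hx hxs
    have hxr : x ∈ Set.range φ := by rw [hrφ]; exact hxs
    obtain ⟨w, rfl⟩ := hxr
    have h3 : jO.left (φ w) = φ' (js w) := by
      have := congrArg (fun k : pullback X.hom g ⟶ X'.left => k w) h1
      exact this.symm
    rw [h3] at hx
    have : js w ∈ φ' ⁻¹' N₀ := hx
    rw [hN₀] at this
    exact this ⟨w, rfl⟩

/-- EGA IV 18.12.? / SGA3: over a locally Noetherian base of dimension `≤ 1`, a quasi-finite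
separated morphism of schemes locally of finite type with finite fibres is affine. -/
theorem isAffineHom_of_finite_fibres {S : Scheme.{u}} [IsLocallyNoetherian S]
    (hdim : topologicalKrullDim S ≤ 1) (X Y : Over S) [LocallyOfFiniteType X.hom]
    [LocallyOfFiniteType Y.hom] (u : X ⟶ Y) [QuasiCompact u.left] [LocallyQuasiFinite u.left]
    [IsSeparated u.left]
    (hfin : ∀ s : S, IsFinite ((Over.pullback (S.fromSpecResidueField s)).map u).left) :
    IsAffineHom u.left := by
  have hXY : u.left ≫ Y.hom = X.hom := Over.w u
  haveI : LocallyOfFiniteType (u.left ≫ Y.hom) := by rw [hXY]; infer_instance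
  haveI : LocallyOfFiniteType u.left := locallyOfFiniteType_of_comp u.left Y.hom
  let X'O : Over S := Over.mk (u.left.fromNormalization ≫ Y.hom)
  let jO : X ⟶ X'O := Over.homMk u.left.toNormalization (by
    change u.left.toNormalization ≫ u.left.fromNormalization ≫ Y.hom = X.hom
    rw [Scheme.Hom.toNormalization_fromNormalization_assoc, hXY])
  let πO : X'O ⟶ Y := Over.homMk u.left.fromNormalization rfl
  have hu : u = jO ≫ πO := by
    ext1
    change u.left = u.left.toNormalization ≫ u.left.fromNormalization
    rw [Scheme.Hom.toNormalization_fromNormalization]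
  haveI : IsSeparated πO.left := by
    change IsSeparated u.left.fromNormalization
    infer_instance
  have hj : u.left.toNormalization ≫ X'O.hom = X.hom := Over.w jO
  haveI : IsAffineHom u.left.toNormalization := by
    refine isAffineHom_of_closed_fibres X.hom X'O.hom u.left.toNormalization hdim hj ?_
    intro z hz
    have hf := hfin (X'O.hom z)
    have huc : UniversallyClosed
        ((Over.pullback (S.fromSpecResidueField (X'O.hom z))).map (jO ≫ πO)).left := by
      rw [← hu]; infer_instance
    exact closed_fibre jO πO (X'O.hom z) huc z rfl hz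
  rw [← u.left.toNormalization_fromNormalization]
  infer_instance

end Groth.Agent.Lib.Helper11.QfAff
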