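import Mathlib
import Groth.Prelude
import Groth.Agent.Lib.Helper20Quot
import Groth.Agent.Lib.Helper23Norm3
set_option backward.isDefEq.respectTransparency.types false

/-!
# The norm of a quotient by a finite group (helper11)

Namespace `Groth.Agent.Lib.Helper11.QuotNorm`.  For a quotient `p : X ⟶ Y` of `X` by a finite group `G`
(`SGA1.IsQuot ρ p`), the product of the translates of a section over `p⁻¹ U` is invariant, hence comes from a unique
section over `U`: this is a weak norm in the sense of helper23 (`Norm3.WeakNorm`).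
-/

set_option autoImplicit false
set_option linter.style.haveILetI false
universe u
open CategoryTheory Limits AlgebraicGeometry TopologicalSpace Opposite

namespace Groth.Agent.Lib.Helper11.QuotNorm
open SGA1 Groth.Agent.Lib.Helper20 Groth.Agent.Lib.Helper23.Norm3

variable {X Y : Scheme.{u}} {G : Type u} [Group G] [Finite G] {ρ : G →* Aut X} {p : X ⟶ Y}

/-- the product of the translates of a section -/
noncomputable def prodAct (hp : IsQuot ρ p) (U : Y.Opens) (s : Γ(X, p ⁻¹ᵁ U)) : Γ(X, p ⁻¹ᵁ U) :=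
  letI := Fintype.ofFinite G
  ∏ g : G, actHom ρ p hp.inv g U s

theorem actHom_prodAct (hp : IsQuot ρ p) (U : Y.Opens) (s : Γ(X, p ⁻¹ᵁ U)) (h : G) :
    actHom ρ p hp.inv h U (prodAct hp U s) = prodAct hp U s := by
  letI := Fintype.ofFinite G
  change actHom ρ p hp.inv h U (∏ g : G, actHom ρ p hp.inv g U s) = ∏ g : G, actHom ρ p hp.inv g U s
  rw [map_prod]
  have h1 : ∀ g : G, actHom ρ p hp.inv h U (actHom ρ p hp.inv g U s) = actHom ρ p hp.inv (g * h) U s := by
    intro g
    rw [actHom_mul]
    rfl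
  simp only [h1]
  exact Equiv.prod_comp (Equiv.mulRight h) (fun g => actHom ρ p hp.inv g U s)

theorem prodAct_one (hp : IsQuot ρ p) (U : Y.Opens) : prodAct hp U (1 : Γ(X, p ⁻¹ᵁ U)) = 1 := by
  letI := Fintype.ofFinite G
  change ∏ g : G, actHom ρ p hp.inv g U 1 = 1
  simp only [map_one, Finset.prod_const_one]

theorem prodAct_mul (hp : IsQuot ρ p) (U : Y.Opens) (s t : Γ(X, p ⁻¹ᵁ U)) :
    prodAct hp U (s * t) = prodAct hp U s * prodAct hp U t := by
  letI := Fintype.ofFinite G
  change ∏ g : G, actHom ρ p hp.inv g U (s * t) =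
    (∏ g : G, actHom ρ p hp.inv g U s) * ∏ g : G, actHom ρ p hp.inv g U t
  simp only [map_mul, Finset.prod_mul_distrib]

theorem exists_app_eq_prodAct (hp : IsQuot ρ p) (U : Y.Opens) (s : Γ(X, p ⁻¹ᵁ U)) :
    ∃ t : Γ(Y, U), (p.app U).hom t = prodAct hp U s := by
  have h := (hp.range_iff U (prodAct hp U s)).2 (fun g => actHom_prodAct hp U s g)
  exact h

/-- the norm of a section -/
noncomputable def normFun (hp : IsQuot ρ p) (U : Y.Opens) (s : Γ(X, p ⁻¹ᵁ U)) : Γ(Y, U) :=
  (exists_app_eq_prodAct hp U s).choose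

theorem app_normFun (hp : IsQuot ρ p) (U : Y.Opens) (s : Γ(X, p ⁻¹ᵁ U)) :
    (p.app U).hom (normFun hp U s) = prodAct hp U s :=
  (exists_app_eq_prodAct hp U s).choose_spec

/-- the norm as a monoid homomorphism -/
noncomputable def normHom (hp : IsQuot ρ p) (U : Y.Opens) : Γ(X, p ⁻¹ᵁ U) →* Γ(Y, U) where
  toFun := normFun hp U
  map_one' := by
    apply hp.injective U
    rw [app_normFun, prodAct_one, map_one]
  map_mul' s t := by
    apply hp.injective U
    rw [app_normFun, map_mul, app_normFun, app_normFun, prodAct_mul]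

theorem app_normHom (hp : IsQuot ρ p) (U : Y.Opens) (s : Γ(X, p ⁻¹ᵁ U)) :
    (p.app U).hom (normHom hp U s) = prodAct hp U s := app_normFun hp U s

theorem map_actHom (hp : IsQuot ρ p) {U V : Y.Opens} (i : V ⟶ U) (g : G) (s : Γ(X, p ⁻¹ᵁ U)) :
    X.presheaf.map ((Opens.map p.base).map i).op (actHom ρ p hp.inv g U s) =
      actHom ρ p hp.inv g V (X.presheaf.map ((Opens.map p.base).map i).op s) := by
  unfold actHom
  rw [← CommRingCat.comp_apply, ← CommRingCat.comp_apply, Scheme.Hom.appLE_map, Scheme.Hom.map_appLE]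

theorem map_prodAct (hp : IsQuot ρ p) {U V : Y.Opens} (i : V ⟶ U) (s : Γ(X, p ⁻¹ᵁ U)) :
    X.presheaf.map ((Opens.map p.base).map i).op (prodAct hp U s) =
      prodAct hp V (X.presheaf.map ((Opens.map p.base).map i).op s) := by
  letI := Fintype.ofFinite G
  change (X.presheaf.map ((Opens.map p.base).map i).op).hom (∏ g : G, actHom ρ p hp.inv g U s) =
    ∏ g : G, actHom ρ p hp.inv g V (X.presheaf.map ((Opens.map p.base).map i).op s)
  rw [map_prod]
  exact Finset.prod_congr rfl (fun g _ => map_actHom hp i g s)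

theorem dvd_prodAct (hp : IsQuot ρ p) (U : Y.Opens) (s : Γ(X, p ⁻¹ᵁ U)) : s ∣ prodAct hp U s := by
  letI := Fintype.ofFinite G
  have h1 : actHom ρ p hp.inv 1 U s = s := by rw [actHom_one]; rfl
  have h2 : actHom ρ p hp.inv 1 U s ∣ ∏ g : G, actHom ρ p hp.inv g U s :=
    Finset.dvd_prod_of_mem _ (Finset.mem_univ 1)
  rw [h1] at h2
  exact h2

/-- the weak norm of a quotient by a finite group -/
noncomputable def weakNorm (hp : IsQuot ρ p) : WeakNorm p where
  norm := normHom hp
  norm_res := by
    intro U V i s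
    apply hp.injective V
    rw [app_normHom]
    have h1 : (p.app V).hom (Y.presheaf.map i.op (normHom hp U s)) =
        X.presheaf.map ((Opens.map p.base).map i).op ((p.app U).hom (normHom hp U s)) := by
      have := p.naturality i.op
      exact congrArg (fun φ => φ.hom (normHom hp U s)) this
    rw [h1, app_normHom, map_prodAct]
  norm_mem := by
    intro U s x hx hs
    by_contra hcon
    have hu : IsUnit (Y.presheaf.germ U (p.base x) hx (normHom hp U s)) := by
      by_contra hnu
      exact hcon ((IsLocalRing.mem_maximalIdeal _).2 hnu)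
    have h1 : p.base x ∈ Y.basicOpen (normHom hp U s) := (Y.mem_basicOpen _ _ hx).2 hu
    have h2 : x ∈ p ⁻¹ᵁ (Y.basicOpen (normHom hp U s)) := h1
    rw [Scheme.preimage_basicOpen] at h2
    have h3 : x ∈ X.basicOpen (prodAct hp U s) := by
      have : (p.app U).hom (normHom hp U s) = prodAct hp U s := app_normHom hp U s
      rw [← this]
      exact h2
    obtain ⟨c, hc⟩ := dvd_prodAct hp U s
    rw [hc, Scheme.basicOpen_mul] at h3
    have h4 : IsUnit (X.presheaf.germ (p ⁻¹ᵁ U) x hx s) := (X.mem_basicOpen _ _ hx).1 h3.1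
    exact ((IsLocalRing.mem_maximalIdeal _).1 hs) h4

end Groth.Agent.Lib.Helper11.QuotNorm
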