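import Mathlib
import Groth.Prelude
import Groth.Agent.Lib.Helper23Norm3
import Groth.Agent.Lib.Helper23GenNear
import Groth.Agent.Lib.Helper23SecTw10
import Groth.Agent.Lib.Helper26RelAmpleLoc
import Groth.Agent.S10963
set_option backward.isDefEq.respectTransparency.types false

/-!
# Norms of invertible modules relative to a base (helper11)

Namespace `Groth.Agent.Lib.Helper11.RelNorm`.  The construction of the norm of an invertible module along a finite
morphism carrying a weak norm (helper23's `Norm.exists_isAmple_of_norm`), separated into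

* `exists_norm_module` : the norm module `NL` with frames `t i` whose transition functions are the norms of the
  transition functions of a system of frames `e i` of `L` over the `π⁻¹ V i`;
* `isAmple_restrict_norm_module` : for every open `U` of the target such that `L` is ample on `π⁻¹ U`, the norm module
  is ample on `U`.
-/

set_option autoImplicit false
set_option linter.style.haveILetI false
universe u
open CategoryTheory Limits AlgebraicGeometry TopologicalSpace Opposite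

namespace Groth.Agent.Lib.Helper11.RelNorm
open Groth.Agent.Lib.Helper23.SecTw Groth.Agent.Lib.Helper6 Groth.Agent.Lib.Helper23.GenLocus
  Groth.Agent.Lib.Helper23.GenNear Groth.Agent.Lib.Helper23.Norm3
  Groth.Agent.Lib.Helper23.AmpleIso Groth.Agent.Lib.Helper26.RelAmpleLoc

variable {X Y : Scheme.{u}} (π : X ⟶ Y) (Nm : WeakNorm π)

/-- the norm commutes with restriction -/
theorem norm_resf {U V : Y.Opens} (h : V ≤ U) (s : Γ(X, π ⁻¹ᵁ U)) :
    resf h (Nm.norm U s) = Nm.norm V (resf (π.preimage_mono h) s) :=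
  Nm.norm_res (homOfLE h) s

/-- the norm module attached to a system of frames -/
theorem exists_norm_module (L : X.Modules) (V : Y → Y.Opens) (hV : ∀ y : Y, y ∈ V y)
    (e : ∀ i, Γ(L, π ⁻¹ᵁ V i)) (he : ∀ i, IsGen L (π ⁻¹ᵁ V i) (e i)) :
    ∃ (NL : Y.Modules) (t : ∀ i, Γ(NL, V i)), PicF.IsInvertible NL ∧ (∀ i, IsGen NL (V i) (t i)) ∧
      ∀ i j (γ : Γ(X, π ⁻¹ᵁ (V i ⊓ V j))),
        res L (π.preimage_mono (inf_le_left : V i ⊓ V j ≤ V i)) (e i) =
          γ • res L (π.preimage_mono (inf_le_right : V i ⊓ V j ≤ V j)) (e j) →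
        res NL (inf_le_left : V i ⊓ V j ≤ V i) (t i) =
          Nm.norm (V i ⊓ V j) γ • res NL (inf_le_right : V i ⊓ V j ≤ V j) (t j) := by
  classical
  obtain ⟨g, hg⟩ : ∃ g : ∀ i j, Γ(X, π ⁻¹ᵁ (V i ⊓ V j)), ∀ i j,
      res L (π.preimage_mono (inf_le_left : V i ⊓ V j ≤ V i)) (e i) =
        g i j • res L (π.preimage_mono (inf_le_right : V i ⊓ V j ≤ V j)) (e j) :=
    ⟨fun i j => coef (he j) (π.preimage_mono inf_le_right) (res L (π.preimage_mono inf_le_left) (e i)),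
      fun i j => (coef_spec (he j) _ _).symm⟩
  have hgu : ∀ i j, IsUnit (g i j) := by
    intro i j
    have h1 := (he i).mono (π.preimage_mono (inf_le_left : V i ⊓ V j ≤ V i))
    have h2 := (he j).mono (π.preimage_mono (inf_le_right : V i ⊓ V j ≤ V j))
    rw [hg i j] at h1
    exact (isGen_smul_iff h2 (g i j)).1 h1
  have hgc : ∀ i j k,
      resf (π.preimage_mono (inf_le_inf_right (V k) inf_le_left : V i ⊓ V j ⊓ V k ≤ V i ⊓ V k)) (g i k) =
        resf (π.preimage_mono (inf_le_left : V i ⊓ V j ⊓ V k ≤ V i ⊓ V j)) (g i j) *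
          resf (π.preimage_mono (inf_le_inf_right (V k) inf_le_right : V i ⊓ V j ⊓ V k ≤ V j ⊓ V k))
            (g j k) := by
    intro i j k
    have hk := (he k) (π ⁻¹ᵁ (V i ⊓ V j ⊓ V k)) (π.preimage_mono inf_le_right)
    apply hk.1
    change resf _ (g i k) • res L _ (e k) = (resf _ (g i j) * resf _ (g j k)) • res L _ (e k)
    have e1 := congrArg (res L (π.preimage_mono
      (inf_le_inf_right (V k) inf_le_left : V i ⊓ V j ⊓ V k ≤ V i ⊓ V k))) (hg i k)
    have e2 := congrArg (res L (π.preimage_mono (inf_le_left : V i ⊓ V j ⊓ V k ≤ V i ⊓ V j))) (hg i j)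
    have e3 := congrArg (res L (π.preimage_mono
      (inf_le_inf_right (V k) inf_le_right : V i ⊓ V j ⊓ V k ≤ V j ⊓ V k))) (hg j k)
    rw [res_smul, res_res, res_res] at e1 e2 e3
    rw [mul_smul, ← e3, ← e2, ← e1]
  let η : ∀ i j, (Γ(Y, V i ⊓ V j))ˣ := fun i j => Units.map (Nm.norm (V i ⊓ V j)) (hgu i j).unit
  have hηc : ∀ i j, ((η i j : (Γ(Y, V i ⊓ V j))ˣ) : Γ(Y, V i ⊓ V j)) = Nm.norm (V i ⊓ V j) (g i j) := fun i j => by
    change Nm.norm (V i ⊓ V j) ((hgu i j).unit : Γ(X, π ⁻¹ᵁ (V i ⊓ V j))) = _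
    rw [IsUnit.unit_spec]
  have hVt : iSup V = ⊤ := by
    rw [eq_top_iff]
    intro y _
    exact Opens.mem_iSup.2 ⟨y, hV y⟩
  obtain ⟨NL, t, hNLinv, ht, htt⟩ := Groth.Agent.S10963.result Y V hVt η (by
    intro i j k
    rw [hηc, hηc, hηc]
    change resf _ (Nm.norm _ (g i k)) = resf _ (Nm.norm _ (g i j)) * resf _ (Nm.norm _ (g j k))
    rw [norm_resf π Nm, norm_resf π Nm, norm_resf π Nm, hgc i j k, map_mul])
  refine ⟨NL, t, hNLinv, ht, fun i j γ hγ => ?_⟩
  have hγg : γ = g i j := by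
    apply ((he j) _ (π.preimage_mono (inf_le_right : V i ⊓ V j ≤ V j))).1
    change γ • res L _ (e j) = g i j • res L _ (e j)
    rw [← hγ, ← hg i j]
  rw [hγg, ← hηc]
  exact htt i j

section sections

variable {Z : Scheme.{u}}

/-- unpacking ampleness of `L|_A` around a finite set in terms of sections of powers of `L` over `A`. -/
theorem exists_section_of_isAmple_restrict_of_finite (L : Z.Modules) (hL : PicF.IsInvertible L) (A : Z.Opens)
    (hA : CohB1.IsAmple (L.restrict A.ι)) (T : Set Z) (hT : T.Finite) (W : Z.Opens) (hTW : T ⊆ W) (hWA : W ≤ A) :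
    ∃ (n : ℕ) (m : Γ(CohB1.tensorPow L (n + 1), A)) (Z' : Z.Opens), IsAffineOpen Z' ∧ Z' ≤ W ∧ T ⊆ Z' ∧
      ∀ y, IsGenNear (CohB1.tensorPow L (n + 1)) A m y ↔ y ∈ Z' := by
  haveI := hA.2.1
  have hfin : (A.ι ⁻¹' T).Finite := hT.preimage (A.ι.isOpenEmbedding.injective.injOn)
  obtain ⟨n, s, hTs, hsW, haff⟩ := exists_affine_genLocus_of_finite (L.restrict A.ι) hA (A.ι ⁻¹' T) hfin
    (A.ι ⁻¹ᵁ W) (fun x hx => hTW hx)
  obtain ⟨Θ⟩ := nonempty_restrict_tensorPow_iso L hL A (n + 1)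
  obtain ⟨m, hm⟩ := exists_restrSecLocal_eq (CohB1.tensorPow L (n + 1)) A (s ≫ Θ.inv)
  have hgl : CohB1.genLocus _ (restrSecLocal (CohB1.tensorPow L (n + 1)) A m) = CohB1.genLocus _ s := by
    rw [hm]
    exact genLocus_comp_iso Θ.symm s
  refine ⟨n, m, A.ι ''ᵁ CohB1.genLocus _ s, haff.image_of_isOpenImmersion A.ι, ?_, ?_, fun y => ?_⟩
  · rintro _ ⟨y', hy', rfl⟩
    exact hsW hy'
  · intro z hz
    exact ⟨⟨z, hWA (hTW hz)⟩, hTs (show A.ι ⟨z, hWA (hTW hz)⟩ ∈ T from hz), rfl⟩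
  · constructor
    · intro hy
      have hyA : y ∈ A := hy.mem
      have h1 := (mem_genLocus_restrSecLocal_iff (CohB1.tensorPow L (n + 1)) A m ⟨y, hyA⟩).2 hy
      rw [hgl] at h1
      exact ⟨⟨y, hyA⟩, h1, rfl⟩
    · rintro ⟨y', hy', rfl⟩
      rw [← hgl] at hy'
      exact (mem_genLocus_restrSecLocal_iff (CohB1.tensorPow L (n + 1)) A m y').1 hy'

/-- the locus where a local section of an invertible module generates is affine if it is contained in an affine open -/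
theorem exists_affine_locus (M : Z.Modules) (hM : PicF.IsInvertible M) (U : Z.Opens) (τ : Γ(M, U))
    (V' : Z.Opens) (hV' : IsAffineOpen V') (hV'U : V' ≤ U) (hle : ∀ y, IsGenNear M U τ y → y ∈ V') :
    ∃ Z' : Z.Opens, IsAffineOpen Z' ∧ ∀ y, IsGenNear M U τ y ↔ y ∈ Z' := by
  have hinv := isInvertible_restrict M hM U
  have hV'' : IsAffineOpen (U.ι ⁻¹ᵁ V') :=
    hV'.preimage_of_isOpenImmersion U.ι (by rw [Scheme.Opens.opensRange_ι]; exact hV'U)
  have h := isAffineOpen_inf_genLocus (M.restrict U.ι) hinv (restrSecLocal M U τ) (U.ι ⁻¹ᵁ V') hV''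
  refine ⟨U.ι ''ᵁ (U.ι ⁻¹ᵁ V' ⊓ CohB1.genLocus _ (restrSecLocal M U τ)), h.image_of_isOpenImmersion U.ι,
    fun y => ?_⟩
  constructor
  · intro hy
    have hyU : y ∈ U := hy.mem
    exact ⟨⟨y, hyU⟩, ⟨hle y hy, (mem_genLocus_restrSecLocal_iff M U τ ⟨y, hyU⟩).2 hy⟩, rfl⟩
  · rintro ⟨y', ⟨-, hy'⟩, rfl⟩
    exact (mem_genLocus_restrSecLocal_iff M U τ y').1 hy'

end sections

/-- frames of an invertible module over preimages of small opens of the target, when the module is ample near the fibre -/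
theorem exists_frames_over_of_restrict [IsFinite π] (L : X.Modules) (hL : PicF.IsInvertible L)
    (A : X.Opens) (hA : CohB1.IsAmple (L.restrict A.ι)) (y : Y) (hy : π ⁻¹' {y} ⊆ A) :
    ∃ (V : Y.Opens) (e : Γ(L, π ⁻¹ᵁ V)), y ∈ V ∧ IsGen L (π ⁻¹ᵁ V) e := by
  have hcl : IsClosedMap π := π.isClosedMap
  have hfin : (π ⁻¹' {y}).Finite := π.finite_preimage_singleton y
  have hfin' : (A.ι ⁻¹' (π ⁻¹' {y})).Finite := hfin.preimage (A.ι.isOpenEmbedding.injective.injOn)
  have hinv := isInvertible_restrict L hL A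
  obtain ⟨U', e', hZU', -, he'⟩ := exists_isGen_nhd_of_finite (L.restrict A.ι) hA (L.restrict A.ι) hinv
    (A.ι ⁻¹' (π ⁻¹' {y})) hfin' ⊤ (fun _ _ => trivial)
  have he₀ : IsGen L (A.ι ''ᵁ U') e' := isGen_of_isGen_restrict L A U' e' he'
  have hZU₀ : π ⁻¹' {y} ⊆ ((A.ι ''ᵁ U' : X.Opens) : Set X) := by
    intro x hx
    exact ⟨⟨x, hy hx⟩, hZU' (show A.ι ⟨x, hy hx⟩ ∈ π ⁻¹' {y} from hx), rfl⟩
  have hC : IsClosed (π '' (((A.ι ''ᵁ U' : X.Opens) : Set X)ᶜ)) := hcl _ (A.ι ''ᵁ U').isOpen.isClosed_compl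
  let V : Y.Opens := ⟨(π '' (((A.ι ''ᵁ U' : X.Opens) : Set X)ᶜ))ᶜ, hC.isOpen_compl⟩
  have hyV : y ∈ V := fun ⟨x, hx, hxy⟩ => hx (hZU₀ hxy)
  have hle : π ⁻¹ᵁ V ≤ A.ι ''ᵁ U' := by
    intro x hx
    by_contra hxU
    exact hx ⟨x, hxU, rfl⟩
  exact ⟨V, res L hle e', hyV, he₀.mono hle⟩

/-- the norm module of `L` is ample over every open `U` of the target over which `L` is ample -/
theorem isAmple_restrict_norm_module [IsFinite π] (hsurj : Function.Surjective π)
    (L : X.Modules) (hL : PicF.IsInvertible L) (V : Y → Y.Opens) (hV : ∀ y : Y, y ∈ V y)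
    (e : ∀ i, Γ(L, π ⁻¹ᵁ V i)) (he : ∀ i, IsGen L (π ⁻¹ᵁ V i) (e i))
    (NL : Y.Modules) (hNL : PicF.IsInvertible NL) (t : ∀ i, Γ(NL, V i)) (ht : ∀ i, IsGen NL (V i) (t i))
    (htt : ∀ i j (γ : Γ(X, π ⁻¹ᵁ (V i ⊓ V j))),
        res L (π.preimage_mono (inf_le_left : V i ⊓ V j ≤ V i)) (e i) =
          γ • res L (π.preimage_mono (inf_le_right : V i ⊓ V j ≤ V j)) (e j) →
        res NL (inf_le_left : V i ⊓ V j ≤ V i) (t i) =
          Nm.norm (V i ⊓ V j) γ • res NL (inf_le_right : V i ⊓ V j ≤ V j) (t j))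
    (U : Y.Opens) (hU : CohB1.IsAmple (L.restrict (π ⁻¹ᵁ U).ι)) :
    CohB1.IsAmple (NL.restrict U.ι) := by
  classical
  have hcl : IsClosedMap π := π.isClosedMap
  have hqcA : IsCompact ((π ⁻¹ᵁ U : X.Opens) : Set X) := isCompact_iff_compactSpace.2 hU.2.1
  have hqcU : IsCompact (U : Set Y) := by
    have h1 : (U : Set Y) = π '' ((π ⁻¹ᵁ U : X.Opens) : Set X) :=
      (Set.image_preimage_eq (U : Set Y) hsurj).symm
    rw [h1]
    exact hqcA.image π.continuous
  refine isAmple_restrict_of_sections NL hNL U hqcU (fun y hyU => ?_)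
  obtain ⟨_, ⟨V', hV', rfl⟩, hyV', hV'U⟩ :=
    Y.isBasis_affineOpens.exists_subset_of_mem_open hyU U.isOpen
  have hV'U' : V' ≤ U := hV'U
  have hfin : (π ⁻¹' {y}).Finite := π.finite_preimage_singleton y
  have hZV' : π ⁻¹' {y} ⊆ (π ⁻¹ᵁ V' : X.Opens) := by
    intro x hx
    have : π x = y := hx
    change π x ∈ V'
    rw [this]
    exact hyV'
  obtain ⟨n, m, Za, hZa, hZaV', hZZa, hm⟩ := exists_section_of_isAmple_restrict_of_finite L hL (π ⁻¹ᵁ U) hU
    (π ⁻¹' {y}) hfin (π ⁻¹ᵁ V') hZV' (π.preimage_mono hV'U')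
  have hpe : ∀ i, IsGen (CohB1.tensorPow L (n + 1)) (π ⁻¹ᵁ V i) (pw L _ (e i) (n + 1)) :=
    fun i => isGen_pw L _ (e i) (he i) _
  have hpt : ∀ i, IsGen (CohB1.tensorPow NL (n + 1)) (V i) (pw NL _ (t i) (n + 1)) :=
    fun i => isGen_pw NL _ (t i) (ht i) _
  have hUiV : ∀ i, V i ⊓ U ≤ V i := fun i => inf_le_left
  have hUiU : ∀ i, V i ⊓ U ≤ U := fun i => inf_le_right
  -- the coefficients of `m`
  obtain ⟨a, ha⟩ : ∃ a : ∀ i, Γ(X, π ⁻¹ᵁ (V i ⊓ U)), ∀ i,
      a i • res _ (π.preimage_mono (hUiV i)) (pw L _ (e i) (n + 1)) = res _ (π.preimage_mono (hUiU i)) m :=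
    ⟨fun i => coef (hpe i) (π.preimage_mono (hUiV i)) (res _ (π.preimage_mono (hUiU i)) m),
      fun i => coef_spec (hpe i) _ _⟩
  -- the local norm sections
  let τi : ∀ i, Γ(CohB1.tensorPow NL (n + 1), V i ⊓ U) :=
    fun i => Nm.norm (V i ⊓ U) (a i) • res _ (hUiV i) (pw NL (V i) (t i) (n + 1))
  have hcompat : TopCat.Presheaf.IsCompatible (modSheaf (CohB1.tensorPow NL (n + 1))).1 (fun i => V i ⊓ U) τi := by
    intro i j
    change res _ inf_le_left (τi i) = res _ inf_le_right (τi j)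
    have hOi : (V i ⊓ U) ⊓ (V j ⊓ U) ≤ V i ⊓ U := inf_le_left
    have hOj : (V i ⊓ U) ⊓ (V j ⊓ U) ≤ V j ⊓ U := inf_le_right
    have hOij : (V i ⊓ U) ⊓ (V j ⊓ U) ≤ V i ⊓ V j := le_inf (hOi.trans (hUiV i)) (hOj.trans (hUiV j))
    obtain ⟨g, hg⟩ : ∃ g : Γ(X, π ⁻¹ᵁ (V i ⊓ V j)),
        res L (π.preimage_mono (inf_le_left : V i ⊓ V j ≤ V i)) (e i) =
          g • res L (π.preimage_mono (inf_le_right : V i ⊓ V j ≤ V j)) (e j) :=
      ⟨_, (coef_spec (he j) (π.preimage_mono inf_le_right) _).symm⟩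
    have hgt := htt i j g hg
    obtain ⟨g', hg'⟩ : ∃ g' : Γ(X, π ⁻¹ᵁ ((V i ⊓ U) ⊓ (V j ⊓ U))), g' = resf (π.preimage_mono hOij) g := ⟨_, rfl⟩
    -- Step A
    have hA : res L (π.preimage_mono (hOi.trans (hUiV i))) (e i) =
        g' • res L (π.preimage_mono (hOj.trans (hUiV j))) (e j) := by
      have := congrArg (res L (π.preimage_mono hOij)) hg
      rw [res_smul, res_res, res_res] at this
      rw [hg']
      exact this
    -- Step B
    have hB : resf (π.preimage_mono hOi) (a i) * g' ^ (n + 1) = resf (π.preimage_mono hOj) (a j) := by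
      apply ((hpe j) (π ⁻¹ᵁ ((V i ⊓ U) ⊓ (V j ⊓ U))) (π.preimage_mono (hOj.trans (hUiV j)))).1
      change (resf (π.preimage_mono hOi) (a i) * g' ^ (n + 1)) • res _ _ (pw L _ (e j) (n + 1)) =
        resf (π.preimage_mono hOj) (a j) • res _ _ (pw L _ (e j) (n + 1))
      have r1 : resf (π.preimage_mono hOj) (a j) •
          res _ (π.preimage_mono (hOj.trans (hUiV j))) (pw L _ (e j) (n + 1)) =
          res _ (π.preimage_mono (hOj.trans (hUiU j))) m := by
        have := congrArg (res _ (π.preimage_mono hOj)) (ha j)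
        rw [res_smul, res_res, res_res] at this
        exact this
      have r2 : resf (π.preimage_mono hOi) (a i) •
          res _ (π.preimage_mono (hOi.trans (hUiV i))) (pw L _ (e i) (n + 1)) =
          res _ (π.preimage_mono (hOi.trans (hUiU i))) m := by
        have := congrArg (res _ (π.preimage_mono hOi)) (ha i)
        rw [res_smul, res_res, res_res] at this
        exact this
      rw [r1, mul_smul, res_pw, ← pw_smul, ← hA, ← res_pw, r2]
    -- Step C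
    have hC : res NL (hOi.trans (hUiV i)) (t i) =
        Nm.norm _ g' • res NL (hOj.trans (hUiV j)) (t j) := by
      have := congrArg (res NL hOij) hgt
      rw [res_smul, res_res, res_res, norm_resf π Nm] at this
      rw [hg']
      exact this
    -- Step D
    change res _ hOi (Nm.norm (V i ⊓ U) (a i) • res _ (hUiV i) (pw NL (V i) (t i) (n + 1))) =
      res _ hOj (Nm.norm (V j ⊓ U) (a j) • res _ (hUiV j) (pw NL (V j) (t j) (n + 1)))
    rw [res_smul, res_smul, res_res, res_res, res_pw, res_pw, hC, pw_smul, ← mul_smul, norm_resf π Nm,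
      norm_resf π Nm, ← map_pow, ← map_mul, hB]
  obtain ⟨τ, hτ', -⟩ := (modSheaf (CohB1.tensorPow NL (n + 1))).existsUnique_gluing' (fun i => V i ⊓ U) U
    (fun i => homOfLE (hUiU i)) (fun y' hy' => Opens.mem_iSup.2 ⟨y', hV y', hy'⟩) τi hcompat
  have hτ : ∀ i, res _ (hUiU i) τ = τi i := hτ'
  -- the loci
  have hlocY : ∀ i y', y' ∈ V i ⊓ U →
      (IsGenNear (CohB1.tensorPow NL (n + 1)) U τ y' ↔ y' ∈ Y.basicOpen (Nm.norm (V i ⊓ U) (a i))) := by
    intro i y' hy'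
    have hgen : IsGen _ (V i ⊓ U) (res _ (hUiV i) (pw NL (V i) (t i) (n + 1))) := (hpt i).mono (hUiV i)
    rw [isGenNear_iff_of_isGen hgen (hUiU i) τ y' hy']
    have h1 : coef hgen le_rfl (res _ (hUiU i) τ) = Nm.norm (V i ⊓ U) (a i) :=
      (coef_unique hgen le_rfl _ _ (by rw [res_self]; exact (hτ i).symm)).symm
    rw [h1]
  have hlocX : ∀ i x', x' ∈ π ⁻¹ᵁ (V i ⊓ U) →
      (IsGenNear (CohB1.tensorPow L (n + 1)) (π ⁻¹ᵁ U) m x' ↔ x' ∈ X.basicOpen (a i)) := by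
    intro i x' hx'
    have hgen : IsGen _ (π ⁻¹ᵁ (V i ⊓ U)) (res _ (π.preimage_mono (hUiV i)) (pw L _ (e i) (n + 1))) :=
      (hpe i).mono (π.preimage_mono (hUiV i))
    rw [isGenNear_iff_of_isGen hgen (π.preimage_mono (hUiU i)) m x' hx']
    have h1 : coef hgen le_rfl (res _ (π.preimage_mono (hUiU i)) m) = a i :=
      (coef_unique hgen le_rfl _ _ (by rw [res_self]; exact ha i)).symm
    rw [h1]
  have hle : ∀ y', IsGenNear (CohB1.tensorPow NL (n + 1)) U τ y' → y' ∈ V' := by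
    intro y' hy'
    have hy'U : y' ∈ U := hy'.mem
    have h1 := (hlocY y' y' ⟨hV y', hy'U⟩).1 hy'
    obtain ⟨x', rfl⟩ := hsurj y'
    have h2 := mem_basicOpen_of_mem_basicOpen_norm Nm _ _ x' h1
    have h3 := (hlocX (π x') x' ⟨hV (π x'), hy'U⟩).2 h2
    exact hZaV' ((hm x').1 h3)
  obtain ⟨Z', hZ', hZ'iff⟩ := exists_affine_locus (CohB1.tensorPow NL (n + 1)) (isInvertible_tensorPow hNL (n + 1))
    U τ V' hV' hV'U' hle
  refine ⟨n, τ, Z', hZ', ?_, hZ'iff⟩
  rw [← hZ'iff]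
  rw [hlocY y y ⟨hV y, hyU⟩]
  refine mem_basicOpen_norm Nm hcl (V y ⊓ U) (a y) y ⟨hV y, hyU⟩ (fun x hx => ?_)
  have hx' : x ∈ π ⁻¹ᵁ (V y ⊓ U) := by
    change π x ∈ V y ⊓ U
    rw [hx]
    exact ⟨hV y, hyU⟩
  rw [← hlocX y x hx']
  exact (hm x).2 (hZZa hx)

end Groth.Agent.Lib.Helper11.RelNorm
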