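import Groth.Agent.Lib.Helper20QuotDirected
import Mathlib

set_option autoImplicit false
universe u
open CategoryTheory CategoryTheory.Limits AlgebraicGeometry TopologicalSpace

namespace Groth.Agent.Lib.Helper20.QuotExists

open SGA1 Groth.Agent.Lib.Helper20 Groth.Agent.Lib.Helper20.QuotCoset
  Groth.Agent.Lib.Helper20.QuotLocal

section glue

variable {X : Scheme.{u}} {G : Type u} [Group G] [Finite G] (ρ : G →* Aut X)
  (hX : ∀ x : X, ∃ U : X.Opens, IsAffineOpen U ∧ ∀ g, (ρ g).hom x ∈ U)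

/-- the cover of `X` by the `G`-stable affine opens -/
@[simps I₀ X f] noncomputable abbrev stableCover : X.OpenCover where
  I₀ := StableAffine ρ
  X V := V.1.toScheme
  f V := V.1.ι
  mem₀ := by
    rw [Scheme.presieve₀_mem_precoverage_iff]
    refine ⟨fun x => ?_, inferInstance⟩
    obtain ⟨V, hxV, -⟩ := exists_stableAffine_le ρ hX ⊤ (fun _ _ _ => trivial) x trivial
    exact ⟨V, ⟨x, hxV⟩, rfl⟩

instance : Preorder (stableCover ρ hX).I₀ := inferInstanceAs (Preorder (StableAffine ρ))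

set_option backward.isDefEq.respectTransparency false in
noncomputable instance : (stableCover ρ hX).LocallyDirected where
  trans f := X.homOfLE (leOfHom f)
  w f := X.homOfLE_ι (leOfHom f)
  directed {U V} x := by
    let a := (Limits.pullback.fst _ _ ≫ U.1.ι) x
    have haU : a ∈ U.1 := (Limits.pullback.fst U.1.ι V.1.ι x).2
    have haV : a ∈ V.1 := by
      unfold a
      rw [Limits.pullback.condition]
      exact (Limits.pullback.snd U.1.ι V.1.ι x).2
    have hW : ∀ g, U.1 ⊓ V.1 ≤ (ρ g).hom ⁻¹ᵁ (U.1 ⊓ V.1) := fun g x hx =>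
      ⟨U.2.2 g hx.1, V.2.2 g hx.2⟩
    obtain ⟨l, hal, hlW⟩ := exists_stableAffine_le ρ hX (U.1 ⊓ V.1) hW a ⟨haU, haV⟩
    have hlU : l ≤ U := fun z hz => (hlW hz).1
    have hlV : l ≤ V := fun z hz => (hlW hz).2
    refine ⟨l, homOfLE hlU, homOfLE hlV, ⟨a, hal⟩, ?_⟩
    apply (Limits.pullback.fst _ _ ≫ U.1.ι).isOpenEmbedding.injective
    dsimp
    change (Limits.pullback.lift _ _ _ ≫ Limits.pullback.fst _ _ ≫ U.1.ι) _ = _
    simp only [Limits.pullback.lift_fst_assoc, Scheme.homOfLE_ι, Scheme.Opens.ι_apply]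
    rfl

variable [Fact (∀ x : X, ∃ U : X.Opens, IsAffineOpen U ∧ ∀ g, (ρ g).hom x ∈ U)]

/-- the quotient scheme -/
noncomputable abbrev quotScheme : Scheme.{u} := colimit (chartFunctor ρ)

theorem quotMap_compat {i j : (stableCover ρ hX).I₀} (hij : i ⟶ j) :
    (stableCover ρ hX).trans hij ≫ chartMap ρ j.1 j.2.2 ≫ colimit.ι (chartFunctor ρ) j =
      chartMap ρ i.1 i.2.2 ≫ colimit.ι (chartFunctor ρ) i := by
  change X.homOfLE (leOfHom hij) ≫ chartMap ρ j.1 j.2.2 ≫ colimit.ι (chartFunctor ρ) j = _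
  rw [← Category.assoc, chartMap_naturality ρ (leOfHom hij) i.2.2 j.2.2, Category.assoc]
  congr 1
  exact colimit.w (chartFunctor ρ) hij

/-- the quotient map -/
noncomputable def quotMap : X ⟶ quotScheme ρ :=
  (stableCover ρ hX).glueMorphismsOfLocallyDirected
    (fun V => chartMap ρ V.1 V.2.2 ≫ colimit.ι (chartFunctor ρ) V)
    (fun hij => quotMap_compat ρ hX hij)

theorem ι_quotMap (V : StableAffine ρ) :
    V.1.ι ≫ quotMap ρ hX = chartMap ρ V.1 V.2.2 ≫ colimit.ι (chartFunctor ρ) V :=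
  (stableCover ρ hX).map_glueMorphismsOfLocallyDirected
    (fun V => chartMap ρ V.1 V.2.2 ≫ colimit.ι (chartFunctor ρ) V)
    (fun hij => quotMap_compat ρ hX hij) V

theorem quotMap_apply (V : StableAffine ρ) (x : X) (hx : x ∈ V.1) :
    quotMap ρ hX x = colimit.ι (chartFunctor ρ) V (chartMap ρ V.1 V.2.2 ⟨x, hx⟩) := by
  exact congrArg (fun φ : V.1.toScheme ⟶ quotScheme ρ => φ ⟨x, hx⟩) (ι_quotMap ρ hX V)

theorem quotMap_preimage (V : StableAffine ρ) :
    quotMap ρ hX ⁻¹ᵁ (colimit.ι (chartFunctor ρ) V).opensRange = V.1 := by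
  apply le_antisymm
  · intro x hx
    obtain ⟨y, hy⟩ := hx
    obtain ⟨V₂, hxV₂, -⟩ := exists_stableAffine_le ρ hX ⊤ (fun _ _ _ => trivial) x trivial
    rw [quotMap_apply ρ hX V₂ x hxV₂] at hy
    obtain ⟨k, fi, fj, z, hz1, hz2⟩ := (Scheme.IsLocallyDirected.ι_eq_ι_iff _).mp hy
    obtain ⟨x', rfl⟩ := chartMap_surjective ρ k z
    rw [chartFunctor_map_chartMap] at hz2
    obtain ⟨g, hg⟩ := (chartMap_eq_iff ρ V₂ _ _).mp hz2
    rw [Scheme.homOfLE_apply] at hg
    change (ρ g).hom x'.1 = x at hg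
    rw [← hg]
    exact V.2.2 g (leOfHom fi x'.2)
  · intro x hx
    exact ⟨chartMap ρ V.1 V.2.2 ⟨x, hx⟩, (quotMap_apply ρ hX V x hx).symm⟩

theorem quotMap_inv (g : G) : (ρ g).hom ≫ quotMap ρ hX = quotMap ρ hX := by
  refine (stableCover ρ hX).hom_ext _ _ (fun V => ?_)
  change V.1.ι ≫ (ρ g).hom ≫ quotMap ρ hX = V.1.ι ≫ quotMap ρ hX
  rw [← Category.assoc, ← restrictAction_ι ρ V.1 V.2.2 g, Category.assoc, ι_quotMap,
    ← Category.assoc, chartMap_inv]

instance colimit_ι_isOpenImmersion (V : StableAffine ρ) :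
    IsOpenImmersion (colimit.ι (chartFunctor ρ) V) :=
  inferInstance

theorem isQuot_quotMap : IsQuot ρ (quotMap ρ hX) := by
  refine isQuot_of_cover ρ _ (quotMap_inv ρ hX) (fun V : StableAffine ρ => V.1.toScheme)
    (fun V => (chartFunctor ρ).obj V) (fun V => colimit.ι (chartFunctor ρ) V) (fun V => V.1.ι)
    (fun V => chartMap ρ V.1 V.2.2) (fun V => ?_) (fun V => restrictAction ρ V.1 V.2.2)
    (fun V g => restrictAction_ι ρ V.1 V.2.2 g) (fun V => isQuot_chartMap ρ V.1 V.2.1 V.2.2) ?_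
  · exact IsOpenImmersion.isPullback _ _ _ _ (ι_quotMap ρ hX V) (by
      rw [quotMap_preimage, Scheme.Opens.opensRange_ι])
  · intro y
    obtain ⟨V, z, rfl⟩ := Scheme.IsLocallyDirected.ι_jointly_surjective (chartFunctor ρ) y
    exact ⟨V, z, rfl⟩

end glue

theorem exists_isQuot {X : Scheme.{u}} {G : Type u} [Group G] [Finite G] (ρ : G →* Aut X)
    (h : ∀ x : X, ∃ U : X.Opens, IsAffineOpen U ∧ ∀ g : G, (ρ g).hom.base x ∈ U) :
    ∃ (Y : Scheme.{u}) (p : X ⟶ Y), IsQuot ρ p := by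
  haveI : Fact (∀ x : X, ∃ U : X.Opens, IsAffineOpen U ∧ ∀ g, (ρ g).hom x ∈ U) := ⟨h⟩
  exact ⟨quotScheme ρ, quotMap ρ h, isQuot_quotMap ρ h⟩

end Groth.Agent.Lib.Helper20.QuotExists
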