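import Mathlib.AlgebraicGeometry.ResidueField
import Mathlib.AlgebraicGeometry.AffineScheme
import Mathlib.AlgebraicGeometry.Properties
import Mathlib.RingTheory.Localization.FractionRing

/-!
# Helper20: the residue field at a point of an affine open is the fraction field of `Γ(X,U)/𝔭_x`
-/

set_option autoImplicit false
universe u
open CategoryTheory AlgebraicGeometry

namespace Groth.Agent.Lib.Helper20

variable {X : Scheme.{u}}

/-- Every element of `κ(x)` is a quotient of evaluations of sections over an affine open `U ∋ x`. -/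
theorem exists_evaluation_div {U : X.Opens} (hU : IsAffineOpen U) (x : X) (hx : x ∈ U)
    (z : X.residueField x) :
    ∃ b s : Γ(X, U), (X.evaluation U x hx).hom s ≠ 0 ∧
      z = (X.evaluation U x hx).hom b / (X.evaluation U x hx).hom s := by
  obtain ⟨t, rfl⟩ := X.residue_surjective x z
  letI := X.presheaf.algebra_section_stalk ⟨x, hx⟩
  have hloc := hU.isLocalization_stalk ⟨x, hx⟩
  obtain ⟨⟨b, s⟩, h⟩ := IsLocalization.surj (hU.primeIdealOf ⟨x, hx⟩).asIdeal.primeCompl t
  have hunit : IsUnit (algebraMap Γ(X, U) (X.presheaf.stalk x) s) :=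
    IsLocalization.map_units (X.presheaf.stalk x) s
  have hs : (X.evaluation U x hx).hom s ≠ 0 := by
    have h2 : IsUnit ((X.residue x).hom (algebraMap Γ(X, U) (X.presheaf.stalk x) s)) :=
      hunit.map (X.residue x).hom
    exact h2.ne_zero
  refine ⟨b, s, hs, ?_⟩
  rw [eq_div_iff hs]
  have h3 := congrArg (X.residue x).hom h
  rw [map_mul] at h3
  exact h3

/-- evaluation at equal points -/
theorem evaluation_congr {U : X.Opens} {x x' : X} (e : x' = x) (hx' : x' ∈ U) (s : Γ(X, U)) :
    (X.residueFieldCongr e).hom ((X.evaluation U x' hx').hom s) =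
      (X.evaluation U x (e ▸ hx')).hom s := by
  subst e; rfl

/-- The kernel of the evaluation map. -/
noncomputable def evalKer (U : X.Opens) (x : X) (hx : x ∈ U) : Ideal Γ(X, U) :=
  RingHom.ker (X.evaluation U x hx).hom

instance (U : X.Opens) (x : X) (hx : x ∈ U) : (evalKer U x hx).IsPrime :=
  RingHom.ker_isPrime _

theorem mem_evalKer {U : X.Opens} {x : X} {hx : x ∈ U} {s : Γ(X, U)} :
    s ∈ evalKer U x hx ↔ x ∉ X.basicOpen s := by
  rw [evalKer, RingHom.mem_ker]
  exact X.evaluation_eq_zero_iff_notMem_basicOpen x hx s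

/-- `Γ(X,U)/𝔭_x → κ(x)`. -/
noncomputable def evalKerLift (U : X.Opens) (x : X) (hx : x ∈ U) :
    Γ(X, U) ⧸ evalKer U x hx →+* X.residueField x :=
  RingHom.kerLift (X.evaluation U x hx).hom

theorem evalKerLift_mk (U : X.Opens) (x : X) (hx : x ∈ U) (s : Γ(X, U)) :
    evalKerLift U x hx (Ideal.Quotient.mk _ s) = (X.evaluation U x hx).hom s := rfl

theorem evalKerLift_injective (U : X.Opens) (x : X) (hx : x ∈ U) :
    Function.Injective (evalKerLift U x hx) :=
  RingHom.kerLift_injective _

theorem isFractionRing_evalKer {U : X.Opens} (hU : IsAffineOpen U) (x : X) (hx : x ∈ U) :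
    letI := (evalKerLift U x hx).toAlgebra
    IsFractionRing (Γ(X, U) ⧸ evalKer U x hx) (X.residueField x) := by
  letI := (evalKerLift U x hx).toAlgebra
  have : FaithfulSMul (Γ(X, U) ⧸ evalKer U x hx) (X.residueField x) :=
    (faithfulSMul_iff_algebraMap_injective _ _).mpr (evalKerLift_injective U x hx)
  refine IsFractionRing.of_field _ _ fun z => ?_
  obtain ⟨b, s, -, h⟩ := exists_evaluation_div hU x hx z
  exact ⟨Ideal.Quotient.mk _ b, Ideal.Quotient.mk _ s, h⟩

/-- Two points of an affine open lying in the same basic opens are equal. -/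
theorem eq_of_forall_mem_basicOpen_iff {U : X.Opens} (hU : IsAffineOpen U) {x z : X}
    (hx : x ∈ U) (hz : z ∈ U) (h : ∀ b : Γ(X, U), x ∈ X.basicOpen b ↔ z ∈ X.basicOpen b) :
    z = x := by
  have key : ∀ {a c : X}, a ∈ U → c ∈ U → (∀ b : Γ(X, U), a ∈ X.basicOpen b ↔ c ∈ X.basicOpen b) →
      ∀ W : Set X, IsOpen W → a ∈ W → c ∈ W := by
    intro a c ha hc hac W hW haW
    obtain ⟨b, hbW, hab⟩ := hU.exists_basicOpen_le (V := ⟨W, hW⟩) ⟨a, haW⟩ ha
    exact hbW ((hac b).mp hab)
  apply Inseparable.eq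
  rw [inseparable_iff_forall_isOpen]
  intro W hW
  exact ⟨key hz hx (fun b => (h b).symm) W hW, key hx hz h W hW⟩

end Groth.Agent.Lib.Helper20
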