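import Groth.Agent.Lib.Helper20Quot
import Groth.Agent.Lib.Helper20ResFrac
import Mathlib.RingTheory.Ideal.GoingUp

/-!
# Helper20: topology of a quotient by a finite group (`SGA1.IsQuot`)

`p` is surjective, its fibres are the `G`-orbits, and `p` is a (closed) quotient map.
-/

set_option autoImplicit false
universe u
open CategoryTheory AlgebraicGeometry
open scoped Pointwise

namespace Groth.Agent.Lib.Helper20

open SGA1

section general

variable {X Y : Scheme.{u}}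

theorem evalKer_congr {U : X.Opens} {x x' : X} (e : x = x') (hx : x ∈ U) (hx' : x' ∈ U) :
    evalKer U x hx = evalKer U x' hx' := by
  subst e; rfl

theorem primeIdealOf_asIdeal {U : X.Opens} (hU : IsAffineOpen U) (x : X) (hx : x ∈ U) :
    (hU.primeIdealOf ⟨x, hx⟩).asIdeal = evalKer U x hx := by
  rw [hU.primeIdealOf_eq_map_closedPoint]
  ext s
  rw [evalKer, RingHom.mem_ker]
  change (X.presheaf.germ U x hx).hom s ∈ IsLocalRing.maximalIdeal _ ↔ _
  rw [← IsLocalRing.residue_eq_zero_iff]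
  rfl

theorem exists_evalKer_eq {U : X.Opens} (hU : IsAffineOpen U) (Q : Ideal Γ(X, U)) [hQ : Q.IsPrime] :
    ∃ (x : X) (hx : x ∈ U), evalKer U x hx = Q := by
  have hsurj : Function.Surjective hU.isoSpec.hom.base :=
    (TopCat.homeoOfIso (Scheme.forgetToTop.mapIso hU.isoSpec)).surjective
  obtain ⟨⟨x, hx⟩, hxQ⟩ := hsurj ⟨Q, hQ⟩
  refine ⟨x, hx, ?_⟩
  rw [← primeIdealOf_asIdeal hU x hx]
  exact congrArg PrimeSpectrum.asIdeal hxQ

theorem comap_evalKer (f : X ⟶ Y) (V : Y.Opens) (x : X) (hx : x ∈ f ⁻¹ᵁ V) :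
    (evalKer (f ⁻¹ᵁ V) x hx).comap (f.app V).hom = evalKer V (f.base x) hx := by
  ext a
  rw [Ideal.mem_comap, evalKer, evalKer, RingHom.mem_ker, RingHom.mem_ker,
    ← Scheme.evaluation_naturality_apply f x hx a]
  exact map_eq_zero (f.residueFieldMap x).hom

theorem eq_of_evalKer_eq {U : X.Opens} (hU : IsAffineOpen U) {x z : X} (hx : x ∈ U) (hz : z ∈ U)
    (h : evalKer U x hx = evalKer U z hz) : z = x := by
  apply eq_of_forall_mem_basicOpen_iff hU hx hz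
  intro b
  rw [← not_iff_not, ← mem_evalKer (hx := hx), ← mem_evalKer (hx := hz), h]

end general

section quot

variable {X Y : Scheme.{u}} {G : Type u} [Group G] {ρ : G →* Aut X} {p : X ⟶ Y}

theorem rho_inv_apply (ρ : G →* Aut X) (g : G) (x : X) :
    (ρ g).hom.base ((ρ g⁻¹).hom.base x) = x := by
  have h : (ρ g⁻¹).hom ≫ (ρ g).hom = 𝟙 X := by
    have h1 : (ρ (g * g⁻¹)).hom = (ρ g⁻¹).hom ≫ (ρ g).hom := by rw [map_mul]; rfl
    rw [← h1, mul_inv_cancel, map_one]; rfl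
  have := congrArg (fun f : X ⟶ X => f.base x) h
  simpa using this

theorem map_rho (hp : IsQuot ρ p) (g : G) (x : X) : p.base ((ρ g).hom.base x) = p.base x := by
  have := congrArg (fun f : X ⟶ Y => f.base x) (hp.inv g)
  simpa using this

theorem surjective_of_isQuot [Finite G] (hp : IsQuot ρ p) : Function.Surjective p.base := by
  have haff := hp.affine
  intro y
  obtain ⟨V, hV, hyV⟩ : ∃ V : Y.Opens, IsAffineOpen V ∧ y ∈ V := by
    obtain ⟨_, ⟨V, hV, rfl⟩, hy, -⟩ :=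
      (Y.isBasis_affineOpens).exists_subset_of_mem_open (Set.mem_univ y) isOpen_univ
    exact ⟨V, hV, hy⟩
  have hU : IsAffineOpen (p ⁻¹ᵁ V) := hV.preimage p
  letI algAB : Algebra Γ(Y, V) Γ(X, p ⁻¹ᵁ V) := (p.app V).hom.toAlgebra
  have hint : Algebra.IsIntegral Γ(Y, V) Γ(X, p ⁻¹ᵁ V) := ⟨isIntegral_app hp V⟩
  have hker : (⊥ : Ideal Γ(X, p ⁻¹ᵁ V)).comap (algebraMap Γ(Y, V) Γ(X, p ⁻¹ᵁ V)) ≤
      evalKer V y hyV := by
    intro a ha
    rw [Ideal.mem_comap, Ideal.mem_bot] at ha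
    have h0 : a = 0 := hp.injective V (ha.trans (map_zero _).symm)
    rw [h0]; exact Ideal.zero_mem _
  obtain ⟨Q, -, hQ, hQP⟩ :=
    Ideal.exists_ideal_over_prime_of_isIntegral (evalKer V y hyV) ⊥ hker
  obtain ⟨x, hx, hxQ⟩ := exists_evalKer_eq hU Q
  refine ⟨x, ?_⟩
  have h1 := comap_evalKer p V x hx
  rw [hxQ] at h1
  exact eq_of_evalKer_eq hV hyV hx (hQP.symm.trans h1)

theorem fibre_iff_orbit [Finite G] (hp : IsQuot ρ p) (x x' : X) :
    p.base x = p.base x' ↔ ∃ g : G, (ρ g).hom.base x = x' := by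
  have haff := hp.affine
  constructor
  · intro hxx'
    obtain ⟨V, hV, hyV⟩ : ∃ V : Y.Opens, IsAffineOpen V ∧ p.base x ∈ V := by
      obtain ⟨_, ⟨V, hV, rfl⟩, hy, -⟩ :=
        (Y.isBasis_affineOpens).exists_subset_of_mem_open (Set.mem_univ (p.base x)) isOpen_univ
      exact ⟨V, hV, hy⟩
    have hU : IsAffineOpen (p ⁻¹ᵁ V) := hV.preimage p
    have hxU : x ∈ p ⁻¹ᵁ V := hyV
    have hx'U : x' ∈ p ⁻¹ᵁ V := by
      change p.base x' ∈ V
      rw [← hxx']; exact hyV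
    letI algAB : Algebra Γ(Y, V) Γ(X, p ⁻¹ᵁ V) := (p.app V).hom.toAlgebra
    letI act : MulSemiringAction G Γ(X, p ⁻¹ᵁ V) := sectionAction ρ p hp.inv V
    have hinvar : Algebra.IsInvariant Γ(Y, V) Γ(X, p ⁻¹ᵁ V) G := isInvariant hp V
    have hcomm : SMulCommClass G Γ(Y, V) Γ(X, p ⁻¹ᵁ V) := smulCommClass hp V
    have hunder : (evalKer (p ⁻¹ᵁ V) x hxU).under Γ(Y, V) =
        (evalKer (p ⁻¹ᵁ V) x' hx'U).under Γ(Y, V) := by
      rw [Ideal.under_def, Ideal.under_def]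
      exact (comap_evalKer p V x hxU).trans
        ((evalKer_congr hxx' _ _).trans (comap_evalKer p V x' hx'U).symm)
    obtain ⟨g, hg⟩ := Algebra.IsInvariant.exists_smul_of_under_eq Γ(Y, V) Γ(X, p ⁻¹ᵁ V) G
      (evalKer (p ⁻¹ᵁ V) x hxU) (evalKer (p ⁻¹ᵁ V) x' hx'U) hunder
    -- `hg : evalKer x' = g • evalKer x`
    have hz : (ρ g⁻¹).hom.base x' ∈ p ⁻¹ᵁ V := preimage_le_of_inv ρ p hp.inv g⁻¹ V hx'U
    have key : ∀ b : Γ(X, p ⁻¹ᵁ V),
        x ∈ X.basicOpen b ↔ (ρ g⁻¹).hom.base x' ∈ X.basicOpen b := by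
      intro b
      have h1 : g • b ∈ evalKer (p ⁻¹ᵁ V) x' hx'U ↔ b ∈ evalKer (p ⁻¹ᵁ V) x hxU := by
        rw [hg]
        exact Ideal.smul_mem_pointwise_smul_iff
      have hsmul : g • b = actHom ρ p hp.inv g⁻¹ V b := rfl
      rw [hsmul, mem_evalKer, mem_evalKer] at h1
      have h3 : X.basicOpen (actHom ρ p hp.inv g⁻¹ V b) =
          p ⁻¹ᵁ V ⊓ (ρ g⁻¹).hom ⁻¹ᵁ (X.basicOpen b) :=
        Scheme.basicOpen_appLE _ _ _ _ b
      rw [h3] at h1
      have h4 := not_iff_not.mp h1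
      exact ⟨fun h => (h4.mpr h).2, fun h => h4.mp ⟨hx'U, h⟩⟩
    have e : (ρ g⁻¹).hom.base x' = x := eq_of_forall_mem_basicOpen_iff hU hxU hz key
    refine ⟨g, ?_⟩
    rw [← e]
    exact rho_inv_apply ρ g x'
  · rintro ⟨g, rfl⟩
    exact (map_rho hp g x).symm

theorem isClosedMap_of_isQuot [Finite G] (hp : IsQuot ρ p) : IsClosedMap p.base := by
  have haff := hp.affine
  have : IsIntegralHom p := ⟨fun U _ => isIntegral_app hp U⟩
  exact p.isClosedMap

theorem isQuotientMap_of_isQuot [Finite G] (hp : IsQuot ρ p) : Topology.IsQuotientMap p.base :=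
  (isClosedMap_of_isQuot hp).isQuotientMap p.base.hom.continuous (surjective_of_isQuot hp)

end quot

end Groth.Agent.Lib.Helper20
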