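import Groth.Prelude.Def_ClSub2
import Mathlib.AlgebraicGeometry.Morphisms.Proper
import Mathlib.AlgebraicGeometry.Morphisms.Immersion
import Mathlib.AlgebraicGeometry.IdealSheaf.Functorial

/-!
# Closed subsets proper over a base: helper lemmas (helper1)

Main results:
* `isSeparated_of_comp_surjective`: separatedness descends along surjective universally closed maps.
* `isProper_of_comp_surjective`: properness descends likewise (target locally of finite type).
* `isProperOver_iff_isProper_comp`: `ClSub.IsProperOver f Z` can be tested on any closed subscheme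
  structure on `Z`.
-/

set_option autoImplicit false

universe u

open CategoryTheory CategoryTheory.Limits AlgebraicGeometry

namespace Groth.Agent.Lib.Helper1

set_option backward.isDefEq.respectTransparency false in
/-- Separatedness descends along a surjective universally closed morphism. -/
theorem isSeparated_of_comp_surjective {T' T S : Scheme.{u}} (l : T' ⟶ T) (g : T ⟶ S)
    [Surjective l] [UniversallyClosed l] [IsSeparated (l ≫ g)] : IsSeparated g := by
  constructor
  apply IsClosedImmersion.of_isPreimmersion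
  let m : pullback (l ≫ g) (l ≫ g) ⟶ pullback g g :=
    pullback.map (l ≫ g) (l ≫ g) g g l l (𝟙 S) ((Category.comp_id _).trans rfl)
      ((Category.comp_id _).trans rfl)
  have hm : UniversallyClosed m :=
    MorphismProperty.pullbackMap (P := @UniversallyClosed) ‹_› ‹_› rfl rfl
  have hcomm : pullback.diagonal (l ≫ g) ≫ m = l ≫ pullback.diagonal g := by
    apply pullback.hom_ext <;> simp [m]
  have hrange : Set.range (pullback.diagonal g) = m '' Set.range (pullback.diagonal (l ≫ g)) := by
    have h1 : Set.range (pullback.diagonal (l ≫ g) ≫ m) =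
        m '' Set.range (pullback.diagonal (l ≫ g)) := by
      rw [Scheme.Hom.comp_base, TopCat.coe_comp, Set.range_comp]
    have h2 : Set.range (l ≫ pullback.diagonal g) = Set.range (pullback.diagonal g) := by
      rw [Scheme.Hom.comp_base, TopCat.coe_comp, Set.range_comp, Set.range_eq_univ.2 l.surjective,
        Set.image_univ]
    rw [← h1, hcomm, h2]
  rw [hrange]
  exact m.isClosedMap _ (pullback.diagonal (l ≫ g)).isClosedEmbedding.isClosed_range

/-- Properness descends along a surjective universally closed morphism, when the target is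
locally of finite type over the base. -/
theorem isProper_of_comp_surjective {T' T S : Scheme.{u}} (l : T' ⟶ T) (g : T ⟶ S)
    [Surjective l] [UniversallyClosed l] [IsProper (l ≫ g)] [LocallyOfFiniteType g] :
    IsProper g := by
  have h1 : IsSeparated g := isSeparated_of_comp_surjective l g
  have h2 : UniversallyClosed g := UniversallyClosed.of_comp_surjective l g
  exact { }

set_option backward.isDefEq.respectTransparency false in
/-- Separatedness descends along a finite jointly surjective family of universally closed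
morphisms. -/
theorem isSeparated_of_comp_jointly_surjective {ι : Type*} [Finite ι] {T' : ι → Scheme.{u}}
    {T S : Scheme.{u}} (l : ∀ i, T' i ⟶ T) (g : T ⟶ S) [∀ i, UniversallyClosed (l i)]
    (hsurj : ⋃ i, Set.range (l i) = Set.univ) [∀ i, IsSeparated (l i ≫ g)] : IsSeparated g := by
  constructor
  apply IsClosedImmersion.of_isPreimmersion
  let m (i : ι) : pullback (l i ≫ g) (l i ≫ g) ⟶ pullback g g :=
    pullback.map (l i ≫ g) (l i ≫ g) g g (l i) (l i) (𝟙 S) ((Category.comp_id _).trans rfl)
      ((Category.comp_id _).trans rfl)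
  have hm (i : ι) : UniversallyClosed (m i) :=
    MorphismProperty.pullbackMap (P := @UniversallyClosed) (inferInstance : UniversallyClosed (l i))
      (inferInstance : UniversallyClosed (l i)) rfl rfl
  have hcomm (i : ι) : pullback.diagonal (l i ≫ g) ≫ m i = l i ≫ pullback.diagonal g := by
    apply pullback.hom_ext <;> simp [m]
  have hrange : Set.range (pullback.diagonal g) =
      ⋃ i, m i '' Set.range (pullback.diagonal (l i ≫ g)) := by
    have h1 (i : ι) : Set.range (pullback.diagonal (l i ≫ g) ≫ m i) =
        m i '' Set.range (pullback.diagonal (l i ≫ g)) := by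
      rw [Scheme.Hom.comp_base, TopCat.coe_comp, Set.range_comp]
    have h2 (i : ι) : Set.range (l i ≫ pullback.diagonal g) =
        pullback.diagonal g '' Set.range (l i) := by
      rw [Scheme.Hom.comp_base, TopCat.coe_comp, Set.range_comp]
    simp_rw [← h1, hcomm, h2]
    rw [← Set.image_iUnion, hsurj, Set.image_univ]
  rw [hrange]
  exact isClosed_iUnion_of_finite fun i =>
    (m i).isClosedMap _ (pullback.diagonal (l i ≫ g)).isClosedEmbedding.isClosed_range

/-- Universal closedness descends along a finite jointly surjective family. -/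
theorem universallyClosed_of_comp_jointly_surjective {ι : Type*} [Finite ι] {T' : ι → Scheme.{u}}
    {T S : Scheme.{u}} (l : ∀ i, T' i ⟶ T) (g : T ⟶ S)
    (hsurj : ⋃ i, Set.range (l i) = Set.univ) [∀ i, UniversallyClosed (l i ≫ g)] :
    UniversallyClosed g := by
  constructor
  intro X' Y' i₁ i₂ f' H
  have hcl (i : ι) : IsClosedMap (pullback.snd (l i) i₁ ≫ f') :=
    UniversallyClosed.universally_isClosedMap _ _ _
      ((IsPullback.of_hasPullback (l i) i₁).flip.paste_horiz H)
  have hcover : ⋃ i, Set.range (pullback.snd (l i) i₁) = Set.univ := by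
    simp_rw [Scheme.Pullback.range_snd]
    rw [← Set.preimage_iUnion, hsurj, Set.preimage_univ]
  intro C hC
  have : ⇑f' '' C = ⋃ i, (pullback.snd (l i) i₁ ≫ f') '' (pullback.snd (l i) i₁ ⁻¹' C) := by
    simp_rw [Scheme.Hom.comp_base, TopCat.coe_comp, Set.image_comp,
      Set.image_preimage_eq_inter_range]
    rw [← Set.image_iUnion, ← Set.inter_iUnion, hcover, Set.inter_univ]
  rw [this]
  exact isClosed_iUnion_of_finite fun i =>
    hcl i _ (hC.preimage (pullback.snd (l i) i₁).continuous)

/-- Properness descends along a finite jointly surjective family of universally closed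
morphisms. -/
theorem isProper_of_comp_jointly_surjective {ι : Type*} [Finite ι] {T' : ι → Scheme.{u}}
    {T S : Scheme.{u}} (l : ∀ i, T' i ⟶ T) (g : T ⟶ S) [∀ i, UniversallyClosed (l i)]
    (hsurj : ⋃ i, Set.range (l i) = Set.univ) [∀ i, IsProper (l i ≫ g)] [LocallyOfFiniteType g] :
    IsProper g := by
  have h1 : IsSeparated g := isSeparated_of_comp_jointly_surjective l g hsurj
  have h2 : UniversallyClosed g := universallyClosed_of_comp_jointly_surjective l g hsurj
  exact { }

/-- The reduced induced closed subscheme on a closed subset `Z`. -/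
noncomputable abbrev redι {X : Scheme.{u}} (Z : Set X) (h : IsClosed Z) :
    (Scheme.IdealSheafData.vanishingIdeal ⟨Z, h⟩).subscheme ⟶ X :=
  (Scheme.IdealSheafData.vanishingIdeal ⟨Z, h⟩).subschemeι

theorem range_redι {X : Scheme.{u}} (Z : Set X) (h : IsClosed Z) :
    Set.range (redι Z h) = Z := by
  rw [redι, Scheme.IdealSheafData.range_subschemeι, Scheme.IdealSheafData.coe_support_vanishingIdeal]
  rfl

theorem ker_le_vanishingIdeal {X T : Scheme.{u}} (i : T ⟶ X) (Z : Set X) (h : IsClosed Z)
    (hZ : Z ⊆ Set.range i) : i.ker ≤ Scheme.IdealSheafData.vanishingIdeal ⟨Z, h⟩ := by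
  rw [← Scheme.IdealSheafData.le_support_iff_le_vanishingIdeal]
  exact hZ.trans i.range_subset_ker_support

/-- The reduced induced structure on `Z` maps to any closed subscheme whose underlying set
contains `Z`. -/
noncomputable def redLift {X T : Scheme.{u}} (i : T ⟶ X) [IsClosedImmersion i] (Z : Set X)
    (h : IsClosed Z) (hZ : Z ⊆ Set.range i) :
    (Scheme.IdealSheafData.vanishingIdeal ⟨Z, h⟩).subscheme ⟶ T :=
  IsClosedImmersion.lift i (redι Z h)
    ((ker_le_vanishingIdeal i Z h hZ).trans (Scheme.IdealSheafData.ker_subschemeι _).ge)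

@[reassoc (attr := simp)]
theorem redLift_fac {X T : Scheme.{u}} (i : T ⟶ X) [IsClosedImmersion i] (Z : Set X)
    (h : IsClosed Z) (hZ : Z ⊆ Set.range i) : redLift i Z h hZ ≫ i = redι Z h :=
  IsClosedImmersion.lift_fac _ _ _

instance isClosedImmersion_redLift {X T : Scheme.{u}} (i : T ⟶ X) [IsClosedImmersion i]
    (Z : Set X) (h : IsClosed Z) (hZ : Z ⊆ Set.range i) :
    IsClosedImmersion (redLift i Z h hZ) := by
  have : IsClosedImmersion (redLift i Z h hZ ≫ i) := by
    rw [redLift_fac]; infer_instance
  exact IsClosedImmersion.of_comp_isClosedImmersion (redLift i Z h hZ) i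

theorem surjective_redLift {X T : Scheme.{u}} (i : T ⟶ X) [IsClosedImmersion i]
    (Z : Set X) (h : IsClosed Z) (hZ : Set.range i = Z) :
    Surjective (redLift i Z h hZ.ge) := by
  constructor
  intro t
  have ht : i t ∈ Set.range (redι Z h) := by
    rw [range_redι, ← hZ]; exact ⟨t, rfl⟩
  obtain ⟨z, hz⟩ := ht
  refine ⟨z, i.isClosedEmbedding.injective ?_⟩
  rw [← Scheme.Hom.comp_apply, redLift_fac, hz]

/-- `ClSub.IsProperOver f Z` can be tested on any closed subscheme structure on `Z`. -/
theorem isProperOver_iff_isProper_comp {X S T : Scheme.{u}} (f : X ⟶ S) [LocallyOfFiniteType f]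
    (i : T ⟶ X) [IsClosedImmersion i] (Z : Set X) (hZ : Set.range i = Z) :
    ClSub.IsProperOver f Z ↔ IsProper (i ≫ f) := by
  have hcl : IsClosed Z := hZ ▸ i.isClosedEmbedding.isClosed_range
  constructor
  · rintro ⟨h, hp⟩
    have : Surjective (redLift i Z h hZ.ge) := surjective_redLift i Z h hZ
    have : IsProper (redLift i Z h hZ.ge ≫ i ≫ f) := by
      rw [redLift_fac_assoc]; exact hp
    exact isProper_of_comp_surjective (redLift i Z h hZ.ge) (i ≫ f)
  · intro hp
    refine ⟨hcl, ?_⟩
    have : (Scheme.IdealSheafData.vanishingIdeal ⟨Z, hcl⟩).subschemeι ≫ f =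
        redLift i Z hcl hZ.ge ≫ i ≫ f := by
      rw [redLift_fac_assoc]
    rw [this]
    infer_instance

theorem isProperOver_iff_isProper_redι {X S : Scheme.{u}} (f : X ⟶ S) (Z : Set X)
    (h : IsClosed Z) : ClSub.IsProperOver f Z ↔ IsProper (redι Z h ≫ f) :=
  ⟨fun ⟨_, hp⟩ => hp, fun hp => ⟨h, hp⟩⟩

/-- A finite union of closed subsets proper over the base is proper over the base. -/
theorem isProperOver_iUnion {X S : Scheme.{u}} (f : X ⟶ S) [LocallyOfFiniteType f]
    {ι : Type*} [Finite ι] (Z : ι → Set X) (hZ : ∀ i, ClSub.IsProperOver f (Z i)) :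
    ClSub.IsProperOver f (⋃ i, Z i) := by
  have hcl (i : ι) : IsClosed (Z i) := (hZ i).1
  have h : IsClosed (⋃ i, Z i) := isClosed_iUnion_of_finite hcl
  refine ⟨h, ?_⟩
  have hsub (i : ι) : Z i ⊆ Set.range (redι (⋃ i, Z i) h) := by
    rw [range_redι]; exact Set.subset_iUnion Z i
  let l (i : ι) := redLift (redι (⋃ i, Z i) h) (Z i) (hcl i) (hsub i)
  have hl (i : ι) : l i ≫ redι (⋃ i, Z i) h = redι (Z i) (hcl i) := redLift_fac _ _ _ _
  have hprop (i : ι) : IsProper (l i ≫ redι (⋃ i, Z i) h ≫ f) := by
    rw [← Category.assoc, hl]; exact (hZ i).2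
  have hsurj : ⋃ i, Set.range (l i) = Set.univ := by
    rw [Set.eq_univ_iff_forall]
    intro t
    have ht : redι (⋃ i, Z i) h t ∈ ⋃ i, Z i := by
      have h0 : redι (⋃ i, Z i) h t ∈ Set.range (redι (⋃ i, Z i) h) := ⟨t, rfl⟩
      rwa [range_redι] at h0
    obtain ⟨i, hi⟩ := Set.mem_iUnion.1 ht
    rw [← range_redι (Z i) (hcl i)] at hi
    obtain ⟨z, hz⟩ := hi
    refine Set.mem_iUnion.2 ⟨i, z, (redι (⋃ i, Z i) h).isClosedEmbedding.injective ?_⟩
    rw [← Scheme.Hom.comp_apply, hl, hz]
  exact isProper_of_comp_jointly_surjective l (redι (⋃ i, Z i) h ≫ f) hsurj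

/-- Image of a closed subset proper over the base, along a morphism which is universally closed
on the reduced induced subscheme. -/
theorem isProperOver_image {X Y S : Scheme.{u}} (p : X ⟶ S) (q : Y ⟶ S) [LocallyOfFiniteType q]
    (f : X ⟶ Y) (w : f ≫ q = p) (Z : Set X) (h : IsClosed Z) (hp : IsProper (redι Z h ≫ p))
    (huc : UniversallyClosed (redι Z h ≫ f)) : ClSub.IsProperOver q (⇑f '' Z) := by
  have hrange : Set.range (redι Z h ≫ f) = ⇑f '' Z := by
    rw [Scheme.Hom.comp_base, TopCat.coe_comp, Set.range_comp, range_redι]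
  have h' : IsClosed (⇑f '' Z) := by
    rw [← hrange]
    exact (redι Z h ≫ f).isClosedMap.isClosed_range
  refine ⟨h', ?_⟩
  have hker : (redι (⇑f '' Z) h').ker ≤ (redι Z h ≫ f).ker := by
    rw [redι, Scheme.IdealSheafData.ker_subschemeι]
    change _ ≤ (Scheme.IdealSheafData.vanishingIdeal ⟨Z, h⟩).map f
    rw [Scheme.IdealSheafData.map_vanishingIdeal]
    apply Scheme.IdealSheafData.vanishingIdeal_antimono
    change closure (⇑f '' Z) ⊆ ⇑f '' Z
    rw [h'.closure_eq]
  let l := IsClosedImmersion.lift (redι (⇑f '' Z) h') (redι Z h ≫ f) hker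
  have hl : l ≫ redι (⇑f '' Z) h' = redι Z h ≫ f := IsClosedImmersion.lift_fac _ _ _
  have hsurj : Surjective l := by
    constructor
    intro y
    have hy : redι (⇑f '' Z) h' y ∈ Set.range (redι Z h ≫ f) := by
      have h0 : redι (⇑f '' Z) h' y ∈ Set.range (redι (⇑f '' Z) h') := ⟨y, rfl⟩
      rw [range_redι (⇑f '' Z) h'] at h0
      rw [hrange]; exact h0
    obtain ⟨z, hz⟩ := hy
    refine ⟨z, (redι (⇑f '' Z) h').isClosedEmbedding.injective ?_⟩
    rw [← Scheme.Hom.comp_apply, hl, hz]
  have huc' : UniversallyClosed l := by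
    have : UniversallyClosed (l ≫ redι (⇑f '' Z) h') := by rw [hl]; exact huc
    exact UniversallyClosed.of_comp_of_isSeparated l (redι (⇑f '' Z) h')
  have hprop : IsProper (l ≫ redι (⇑f '' Z) h' ≫ q) := by
    rw [← Category.assoc, hl, Category.assoc, w]; exact hp
  exact isProper_of_comp_surjective l (redι (⇑f '' Z) h' ≫ q)

end Groth.Agent.Lib.Helper1
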