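import Groth.Agent.Lib.Helper20QuotTop
import Mathlib.AlgebraicGeometry.Cover.Directed
import Mathlib.AlgebraicGeometry.Gluing

/-!
# Helper20: a quotient by a finite group (`SGA1.IsQuot`) is a categorical quotient
-/

set_option autoImplicit false
universe u
open CategoryTheory AlgebraicGeometry TopologicalSpace

namespace Groth.Agent.Lib.Helper20

open SGA1

section general

variable {X Y Z : Scheme.{u}}

theorem exists_affine_nhd (Z : Scheme.{u}) (z : Z) : ∃ W : Z.Opens, IsAffineOpen W ∧ z ∈ W := by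
  obtain ⟨_, ⟨V, hV, rfl⟩, hy, -⟩ :=
    (Z.isBasis_affineOpens).exists_subset_of_mem_open (Set.mem_univ z) isOpen_univ
  exact ⟨V, hV, hy⟩

theorem ι_comp_eq_of_affine (f : X ⟶ Z) {W : Z.Opens} (hW : IsAffineOpen W) (V : X.Opens)
    (e : V ≤ f ⁻¹ᵁ W) :
    V.ι ≫ f = V.toSpecΓ ≫ Spec.map (f.appLE W V e) ≫ hW.fromSpec := by
  rw [← Category.assoc, Scheme.Opens.toSpecΓ_SpecMap_appLE, Category.assoc, hW.toSpecΓ_fromSpec,
    Scheme.Hom.resLE_comp_ι]

theorem epi_of_surjective_of_injective_app (p : X ⟶ Y) (hs : Function.Surjective p.base)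
    (hinj : ∀ U : Y.Opens, Function.Injective (p.app U).hom) : Epi p := by
  constructor
  intro Z a b hab
  have hbase : ∀ y : Y, a.base y = b.base y := by
    intro y
    obtain ⟨x, rfl⟩ := hs y
    have := congrArg (fun f : X ⟶ Z => f.base x) hab
    simpa using this
  apply Scheme.hom_ext_of_forall
  intro y
  obtain ⟨W, hW, hyW⟩ := exists_affine_nhd Z (a.base y)
  refine ⟨a ⁻¹ᵁ W, hyW, ?_⟩
  have e : a ⁻¹ᵁ W ≤ b ⁻¹ᵁ W := fun y' hy' => by
    change b.base y' ∈ W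
    rw [← hbase]; exact hy'
  rw [ι_comp_eq_of_affine a hW _ le_rfl, ι_comp_eq_of_affine b hW _ e]
  have hmono : Mono (p.app (a ⁻¹ᵁ W)) := ConcreteCategory.mono_of_injective _ (hinj _)
  have key : a.appLE W (a ⁻¹ᵁ W) le_rfl = b.appLE W (a ⁻¹ᵁ W) e := by
    rw [← cancel_mono (p.app (a ⁻¹ᵁ W))]
    rw [Scheme.Hom.app_eq_appLE, Scheme.Hom.appLE_comp_appLE, Scheme.Hom.appLE_comp_appLE]
    exact appLE_congr_hom hab _ _ _
  rw [key]

theorem exists_lift_of_injective {R S C : CommRingCat.{u}} (j : R ⟶ S)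
    (hj : Function.Injective j.hom) (f : C ⟶ S) (hf : ∀ c, f.hom c ∈ Set.range j.hom) :
    ∃ ψ : C ⟶ R, ψ ≫ j = f := by
  let e : R ≃+* j.hom.range := RingEquiv.ofBijective j.hom.rangeRestrict
    ⟨fun a b hab => hj (congrArg Subtype.val hab), j.hom.rangeRestrict_surjective⟩
  have hf' : ∀ c, f.hom c ∈ j.hom.range := fun c => by
    obtain ⟨r, hr⟩ := hf c
    exact ⟨r, hr⟩
  refine ⟨CommRingCat.ofHom (e.symm.toRingHom.comp (f.hom.codRestrict j.hom.range hf')), ?_⟩
  ext c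
  change j.hom (e.symm (f.hom.codRestrict j.hom.range hf' c)) = f.hom c
  have h1 : (e (e.symm (f.hom.codRestrict j.hom.range hf' c)) : S) =
      (f.hom.codRestrict j.hom.range hf' c : S) := by rw [RingEquiv.apply_symm_apply]
  exact h1

/-- the quotient conditions for opens of `X` equal to a preimage -/
theorem isQuot_appLE' {G : Type u} [Group G]
    {ρ : G →* Aut X} {p : X ⟶ Y} (hp : SGA1.IsQuot ρ p) (W : Y.Opens) (T : X.Opens)
    (hT : T = p ⁻¹ᵁ W) (e : T ≤ p ⁻¹ᵁ W) (eg : ∀ g : G, T ≤ (ρ g).hom ⁻¹ᵁ T) :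
    Function.Injective (p.appLE W T e).hom ∧
      ∀ s : Γ(X, T), s ∈ Set.range (p.appLE W T e).hom ↔
        ∀ g : G, ((ρ g).hom.appLE T T (eg g)).hom s = s := by
  subst hT
  refine ⟨?_, fun s => ?_⟩
  · rw [Scheme.Hom.appLE_eq_app]
    exact hp.injective W
  · rw [Scheme.Hom.appLE_eq_app]
    exact hp.range_iff W s

end general

section cat

variable {X Y Z : Scheme.{u}} {G : Type u} [Group G] [Finite G] {ρ : G →* Aut X} {p : X ⟶ Y}
  (hp : IsQuot ρ p) (h : X ⟶ Z) (hh : ∀ g : G, (ρ g).hom ≫ h = h)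

include hp hh in
theorem saturated (W : Z.Opens) :
    p.base ⁻¹' (p.base '' (h ⁻¹ᵁ W : Set X)) = (h ⁻¹ᵁ W : Set X) := by
  apply Set.Subset.antisymm
  · rintro x ⟨x', hx', hxx'⟩
    obtain ⟨g, rfl⟩ := (fibre_iff_orbit hp x' x).mp hxx'
    change h.base ((ρ g).hom.base x') ∈ W
    have := congrArg (fun f : X ⟶ Z => f.base x') (hh g)
    simp only [Scheme.Hom.comp_base, TopCat.hom_comp, ContinuousMap.comp_apply] at this
    rw [this]; exact hx'
  · exact Set.subset_preimage_image _ _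

/-- the open `p(h⁻¹W)` of `Y` -/
def imageOpen (W : Z.Opens) : Y.Opens :=
  ⟨p.base '' (h ⁻¹ᵁ W : Set X), by
    rw [← (isQuotientMap_of_isQuot hp).isOpen_preimage, saturated hp h hh W]
    exact (h ⁻¹ᵁ W).isOpen⟩

theorem preimage_imageOpen (W : Z.Opens) : p ⁻¹ᵁ (imageOpen hp h hh W) = h ⁻¹ᵁ W :=
  Opens.ext (saturated hp h hh W)

theorem imageOpen_mono {W W' : Z.Opens} (hWW' : W ≤ W') :
    imageOpen hp h hh W ≤ imageOpen hp h hh W' := by
  rintro _ ⟨x, hx, rfl⟩
  exact ⟨x, hWW' hx, rfl⟩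

theorem mem_imageOpen {W : Z.Opens} {x : X} (hx : h.base x ∈ W) :
    p.base x ∈ imageOpen hp h hh W := ⟨x, hx, rfl⟩

theorem le_preimage_imageOpen (W : Z.Opens) : h ⁻¹ᵁ W ≤ p ⁻¹ᵁ (imageOpen hp h hh W) :=
  (preimage_imageOpen hp h hh W).ge

include hh in
theorem stable (W : Z.Opens) (g : G) : h ⁻¹ᵁ W ≤ (ρ g).hom ⁻¹ᵁ (h ⁻¹ᵁ W) := by
  rw [← Scheme.Hom.comp_preimage, hh g]

theorem exists_psi (W : Z.Opens) :
    ∃ ψ : Γ(Z, W) ⟶ Γ(Y, imageOpen hp h hh W),
      ψ ≫ p.appLE (imageOpen hp h hh W) (h ⁻¹ᵁ W) (le_preimage_imageOpen hp h hh W) = h.app W := by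
  obtain ⟨hinj, hrange⟩ := isQuot_appLE' hp (imageOpen hp h hh W) (h ⁻¹ᵁ W)
    (preimage_imageOpen hp h hh W).symm (le_preimage_imageOpen hp h hh W) (stable h hh W)
  refine exists_lift_of_injective _ hinj _ fun c => ?_
  rw [hrange]
  intro g
  have h1 : h.app W ≫ (ρ g).hom.appLE (h ⁻¹ᵁ W) (h ⁻¹ᵁ W) (stable h hh W g) = h.app W := by
    rw [Scheme.Hom.app_eq_appLE, Scheme.Hom.appLE_comp_appLE]
    exact appLE_congr_hom (hh g) _ _ _
  exact congrArg (fun f => f.hom c) h1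

/-- the lift of `h^♯` to sections of `Y` -/
noncomputable def psi (W : Z.Opens) : Γ(Z, W) ⟶ Γ(Y, imageOpen hp h hh W) :=
  (exists_psi hp h hh W).choose

theorem psi_spec (W : Z.Opens) :
    psi hp h hh W ≫ p.appLE (imageOpen hp h hh W) (h ⁻¹ᵁ W) (le_preimage_imageOpen hp h hh W) =
      h.app W :=
  (exists_psi hp h hh W).choose_spec

theorem mono_appLE (W : Z.Opens) :
    Mono (p.appLE (imageOpen hp h hh W) (h ⁻¹ᵁ W) (le_preimage_imageOpen hp h hh W)) := by
  obtain ⟨hinj, -⟩ := isQuot_appLE' hp (imageOpen hp h hh W) (h ⁻¹ᵁ W)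
    (preimage_imageOpen hp h hh W).symm (le_preimage_imageOpen hp h hh W) (stable h hh W)
  exact ConcreteCategory.mono_of_injective _ hinj

/-- the local piece of the factorization -/
noncomputable def phi (W : Z.Opens) (hW : IsAffineOpen W) : (imageOpen hp h hh W).toScheme ⟶ Z :=
  (imageOpen hp h hh W).toSpecΓ ≫ Spec.map (psi hp h hh W) ≫ hW.fromSpec

theorem resLE_phi (W : Z.Opens) (hW : IsAffineOpen W) :
    p.resLE (imageOpen hp h hh W) (h ⁻¹ᵁ W) (le_preimage_imageOpen hp h hh W) ≫ phi hp h hh W hW =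
      (h ⁻¹ᵁ W).ι ≫ h := by
  unfold phi
  rw [← Category.assoc, ← Scheme.Opens.toSpecΓ_SpecMap_appLE, Category.assoc,
    ← Spec.map_comp_assoc, psi_spec, ι_comp_eq_of_affine h hW _ le_rfl, Scheme.Hom.app_eq_appLE]

theorem homOfLE_phi {W W' : Z.Opens} (hW : IsAffineOpen W) (hW' : IsAffineOpen W') (hWW' : W ≤ W') :
    Y.homOfLE (imageOpen_mono hp h hh hWW') ≫ phi hp h hh W' hW' = phi hp h hh W hW := by
  unfold phi
  rw [← Category.assoc, ← Scheme.Opens.toSpecΓ_SpecMap_presheaf_map, Category.assoc,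
    ← Spec.map_comp_assoc, ← hW'.map_fromSpec hW (homOfLE hWW').op, ← Spec.map_comp_assoc]
  have key : psi hp h hh W' ≫ Y.presheaf.map (homOfLE (imageOpen_mono hp h hh hWW')).op =
      Z.presheaf.map (homOfLE hWW').op ≫ psi hp h hh W := by
    have := mono_appLE hp h hh W
    rw [← cancel_mono (p.appLE (imageOpen hp h hh W) (h ⁻¹ᵁ W) (le_preimage_imageOpen hp h hh W))]
    rw [Category.assoc, Category.assoc, psi_spec, Scheme.Hom.map_appLE]
    have h2 : p.appLE (imageOpen hp h hh W') (h ⁻¹ᵁ W) ((h.preimage_mono hWW').trans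
        (le_preimage_imageOpen hp h hh W')) =
        p.appLE (imageOpen hp h hh W') (h ⁻¹ᵁ W') (le_preimage_imageOpen hp h hh W') ≫
          X.presheaf.map (homOfLE (h.preimage_mono hWW')).op := by
      rw [Scheme.Hom.appLE_map]
    rw [h2, ← Category.assoc, psi_spec]
    exact (h.naturality (homOfLE hWW').op).symm
  rw [key]

/-- the cover of `Y` by the opens `p(h⁻¹W)`, `W` affine open in `Z` -/
@[simps I₀ X f] noncomputable abbrev quotCover : Y.OpenCover where
  I₀ := Z.affineOpens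
  X W := (imageOpen hp h hh W.1).toScheme
  f W := (imageOpen hp h hh W.1).ι
  mem₀ := by
    rw [Scheme.presieve₀_mem_precoverage_iff]
    refine ⟨fun y => ?_, inferInstance⟩
    obtain ⟨x, rfl⟩ := surjective_of_isQuot hp y
    obtain ⟨W, hW, hxW⟩ := exists_affine_nhd Z (h.base x)
    exact ⟨⟨W, hW⟩, ⟨p.base x, mem_imageOpen hp h hh hxW⟩, rfl⟩

instance : Preorder (quotCover hp h hh).I₀ := inferInstanceAs (Preorder Z.affineOpens)

set_option backward.isDefEq.respectTransparency false in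
noncomputable instance : (quotCover hp h hh).LocallyDirected where
  trans f := Y.homOfLE (imageOpen_mono hp h hh (leOfHom f))
  w f := Y.homOfLE_ι (imageOpen_mono hp h hh (leOfHom f))
  directed {U V} x := by
    let a := (Limits.pullback.fst _ _ ≫ (imageOpen hp h hh U.1).ι) x
    have haU : a ∈ imageOpen hp h hh U.1 :=
      (Limits.pullback.fst (imageOpen hp h hh U.1).ι (imageOpen hp h hh V.1).ι x).2
    have haV : a ∈ imageOpen hp h hh V.1 := by
      unfold a
      rw [Limits.pullback.condition]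
      exact (Limits.pullback.snd (imageOpen hp h hh U.1).ι (imageOpen hp h hh V.1).ι x).2
    obtain ⟨x₀, hx₀U, hx₀⟩ := haU
    have hx₀V : h.base x₀ ∈ V.1 := by
      have h1 : x₀ ∈ p ⁻¹ᵁ (imageOpen hp h hh V.1) := by
        change p.base x₀ ∈ imageOpen hp h hh V.1
        rw [hx₀]; exact haV
      rw [preimage_imageOpen] at h1
      exact h1
    obtain ⟨_, ⟨W, hW, rfl⟩, hxW, hWUV⟩ := Z.isBasis_affineOpens.exists_subset_of_mem_open
      (show h.base x₀ ∈ ((U.1 ⊓ V.1 : Z.Opens) : Set Z) from ⟨hx₀U, hx₀V⟩) (U.1 ⊓ V.1).isOpen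
    have hWU : (⟨W, hW⟩ : Z.affineOpens) ≤ U := fun z hz => (hWUV hz).1
    have hWV : (⟨W, hW⟩ : Z.affineOpens) ≤ V := fun z hz => (hWUV hz).2
    refine ⟨⟨W, hW⟩, homOfLE hWU, homOfLE hWV, ⟨a, hx₀ ▸ mem_imageOpen hp h hh hxW⟩, ?_⟩
    apply (Limits.pullback.fst _ _ ≫ (imageOpen hp h hh U.1).ι).isOpenEmbedding.injective
    dsimp
    change (Limits.pullback.lift _ _ _ ≫ Limits.pullback.fst _ _ ≫ (imageOpen hp h hh U.1).ι) _ = _
    simp only [Limits.pullback.lift_fst_assoc, Scheme.homOfLE_ι, Scheme.Opens.ι_apply]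
    rfl

/-- the factorization of a `G`-invariant morphism through the quotient -/
noncomputable def desc : Y ⟶ Z :=
  (quotCover hp h hh).glueMorphismsOfLocallyDirected (fun W => phi hp h hh W.1 W.2)
    (fun {i j} hij => homOfLE_phi hp h hh i.2 j.2 (leOfHom hij))

theorem fac : p ≫ desc hp h hh = h := by
  apply Scheme.hom_ext_of_forall
  intro x
  obtain ⟨W, hW, hxW⟩ := exists_affine_nhd Z (h.base x)
  refine ⟨h ⁻¹ᵁ W, hxW, ?_⟩
  rw [← resLE_phi hp h hh W hW, ← Category.assoc,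
    ← Scheme.Hom.resLE_comp_ι p (le_preimage_imageOpen hp h hh W), Category.assoc]
  congr 1
  exact (quotCover hp h hh).map_glueMorphismsOfLocallyDirected (fun W => phi hp h hh W.1 W.2)
    (fun {i j} hij => homOfLE_phi hp h hh i.2 j.2 (leOfHom hij)) ⟨W, hW⟩

include hp in
theorem epi_of_isQuot : Epi p :=
  epi_of_surjective_of_injective_app p (surjective_of_isQuot hp) hp.injective

end cat

end Groth.Agent.Lib.Helper20
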