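import Mathlib
import Groth.Prelude
import Groth.Agent.Lib.Helper11QuotNorm
import Groth.Agent.Lib.Helper11RelNorm
import Groth.Agent.Lib.Helper23Restr2
import Groth.Agent.S2907
import Groth.Agent.S2925
import Groth.Agent.S2909
import Groth.Agent.S2908
set_option backward.isDefEq.respectTransparency.types false

/-!
# Quotients of quasi-projective schemes by finite groups (helper11)

Namespace `Groth.Agent.Lib.Helper11.QuotProj`.
-/

set_option autoImplicit false
set_option linter.style.haveILetI false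
universe u
open CategoryTheory Limits AlgebraicGeometry TopologicalSpace Opposite

namespace Groth.Agent.Lib.Helper11.QuotProj
open SGA1 Groth.Agent.Lib.Helper20 Groth.Agent.Lib.Helper23.Norm3 Groth.Agent.Lib.Helper11.QuotNorm
  Groth.Agent.Lib.Helper11.RelNorm Groth.Agent.Lib.Helper23.SecTw

variable {X S : Scheme.{u}} (f : X ⟶ S) {G : Type u} [Group G] [Finite G] (ρ : G →* Aut X)

/-- orbits lie in affine opens when there is a relatively ample module -/
theorem exists_affine_orbit (hρ : ∀ σ : G, (ρ σ).hom ≫ f = f) (L : X.Modules) (hL : RelAmple.IsRelAmple f L)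
    (x : X) : ∃ U : X.Opens, IsAffineOpen U ∧ ∀ g : G, (ρ g).hom.base x ∈ U := by
  have hinv := isInvertible_of_isRelAmple f L hL
  obtain ⟨_, ⟨V, hV, rfl⟩, hxV, -⟩ :=
    S.isBasis_affineOpens.exists_subset_of_mem_open (Set.mem_univ (f x)) isOpen_univ
  have hA := hL.2 ⟨V, hV⟩
  have hT : (Set.range fun g : G => (ρ g).hom.base x).Finite := Set.finite_range _
  have hTA : (Set.range fun g : G => (ρ g).hom.base x) ⊆ ((f ⁻¹ᵁ V : X.Opens) : Set X) := by
    rintro _ ⟨g, rfl⟩
    change f ((ρ g).hom x) ∈ V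
    have h1 : f ((ρ g).hom x) = f x := by
      have := congrArg (fun φ : X ⟶ S => φ x) (hρ g)
      exact this
    rw [h1]
    exact hxV
  obtain ⟨n, m, Z', hZ', -, hTZ', -⟩ := exists_section_of_isAmple_restrict_of_finite L hinv (f ⁻¹ᵁ V) hA _ hT
    (f ⁻¹ᵁ V) hTA le_rfl
  exact ⟨Z', hZ', fun g => hTZ' ⟨g, rfl⟩⟩

/-- the quotient of a quasi-projective scheme over a Noetherian base by a finite group of automorphisms over the
base exists and is quasi-projective -/
theorem exists_quot [IsNoetherian S] (hρ : ∀ σ : G, (ρ σ).hom ≫ f = f)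
    (hf : RelProj.IsQuasiProjective f) :
    ∃ (Y : Scheme.{u}) (q : X ⟶ Y) (h : Y ⟶ S), q ≫ h = f ∧ SGA1.IsQuot ρ q ∧ RelProj.IsQuasiProjective h ∧
      IsFinite q ∧ Function.Surjective q := by
  obtain ⟨hlft, hqc, L, hL⟩ := hf
  have hinv := isInvertible_of_isRelAmple f L hL
  obtain ⟨Y, q, hq⟩ := Groth.Agent.S2907.result ρ (exists_affine_orbit f ρ hρ L hL)
  obtain ⟨h, hfac, -⟩ := Groth.Agent.S2925.result ρ q hq S f hρ
  have h09 := Groth.Agent.S2909.result ρ q hq f h hfac hρ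
  have hfin : IsFinite q := h09.2.2.1 hlft
  obtain ⟨hlft', hqc'⟩ := h09.2.2.2 inferInstance hlft hqc
  have hsurj : Function.Surjective q := (Groth.Agent.S2908.result ρ q hq).1
  subst hfac
  refine ⟨Y, q, h, rfl, hq, ⟨hlft', hqc', ?_⟩, hfin, hsurj⟩
  have h0 : ∀ y : Y, ∃ (V : Y.Opens) (e : Γ(L, q ⁻¹ᵁ V)), y ∈ V ∧ IsGen L (q ⁻¹ᵁ V) e := by
    intro y
    obtain ⟨_, ⟨Va, hVa, rfl⟩, hyVa, -⟩ :=
      S.isBasis_affineOpens.exists_subset_of_mem_open (Set.mem_univ (h y)) isOpen_univ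
    have hA := hL.2 ⟨Va, hVa⟩
    refine exists_frames_over_of_restrict q L hinv ((q ≫ h) ⁻¹ᵁ Va) hA y ?_
    intro x' hx'
    have hx'' : q x' = y := hx'
    change h (q x') ∈ Va
    rw [hx'']
    exact hyVa
  choose V e hyV he using h0
  obtain ⟨NL, t, hNL, ht, htt⟩ := exists_norm_module q (weakNorm hq) L V hyV e he
  refine ⟨NL, hqc', fun Va => ?_⟩
  have hA := hL.2 Va
  exact isAmple_restrict_norm_module q (weakNorm hq) hsurj L hinv V hyV e he NL hNL t ht htt (h ⁻¹ᵁ Va.1) hA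

end Groth.Agent.Lib.Helper11.QuotProj
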