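import Mathlib
import Groth.Prelude.Def_QuotSh
import Groth.Agent.Lib.Helper12QuotSh

/-!
# Helper11QuotPtsA: points of quotient sheaves `U/R` on the big site of a scheme (helper11)

Basic tools for working with `QuotSh.quot K s t` through `T`-valued points:
* `rel`: the relation on `T`-points of `U` induced by `s, t : R ⟶ U`; it is an equivalence relation
  when `s, t` is one (`rel_refl`, `rel_symm`, `rel_trans`);
* `fac_of_sieve`: factoring through a monomorphism of schemes over `S` is local for a subcanonical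
  topology; `rel_of_sieve`: so is being related;
* `liftSieve`, `liftSieve_mem`: the sieve of local lifts to `U` of a section of `U/R` is covering;
* `rel_iff_eq`: two points of `U` are related iff they have the same image in `U/R`;
* `hom_ext_of_sieve`: morphisms from a representable sheaf agree if they agree on a covering sieve.
-/

set_option autoImplicit false
universe u

open CategoryTheory Limits AlgebraicGeometry Opposite
open Groth.Agent.Lib.Helper9 Groth.Agent.Lib.Helper12.QuotShLib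

namespace Groth.Agent.Lib.Helper11.QuotPts

section Rel

variable {C : Type*} [Category C] {R U : C} (s t : R ⟶ U)

/-- The relation on `T`-points of `U` induced by `s, t : R ⟶ U`. -/
def Rel {T : C} (x y : T ⟶ U) : Prop := ∃ r : T ⟶ R, r ≫ s = x ∧ r ≫ t = y

variable {s t}

lemma Rel.comp {T T' : C} {x y : T ⟶ U} (h : Rel s t x y) (g : T' ⟶ T) :
    Rel s t (g ≫ x) (g ≫ y) := by
  obtain ⟨r, h1, h2⟩ := h
  exact ⟨g ≫ r, by rw [Category.assoc, h1], by rw [Category.assoc, h2]⟩

lemma rel_self {T : C} (r : T ⟶ R) : Rel s t (r ≫ s) (r ≫ t) := ⟨r, rfl, rfl⟩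

variable (e : EquivalenceRelation s t)
include e

lemma rel_refl {T : C} (x : T ⟶ U) : Rel s t x x :=
  ⟨x ≫ e.r, by rw [Category.assoc, e.reflexivity₁, Category.comp_id],
    by rw [Category.assoc, e.reflexivity₂, Category.comp_id]⟩

lemma Rel.symm {T : C} {x y : T ⟶ U} (h : Rel s t x y) : Rel s t y x := by
  obtain ⟨r, h1, h2⟩ := h
  exact ⟨r ≫ e.s, by rw [Category.assoc, e.symmetry₁, h2], by rw [Category.assoc, e.symmetry₂, h1]⟩

lemma Rel.trans {T : C} {x y z : T ⟶ U} (h : Rel s t x y) (h' : Rel s t y z) : Rel s t x z := by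
  obtain ⟨r, h1, h2⟩ := h
  obtain ⟨r', h1', h2'⟩ := h'
  let l : T ⟶ e.c.pt := PullbackCone.IsLimit.lift e.isLimit r r' (by rw [h2, h1'])
  have hl1 : l ≫ e.c.fst = r := PullbackCone.IsLimit.lift_fst _ _ _ _
  have hl2 : l ≫ e.c.snd = r' := PullbackCone.IsLimit.lift_snd _ _ _ _
  refine ⟨l ≫ e.t, ?_, ?_⟩
  · rw [Category.assoc, e.transitivity₁, ← Category.assoc, hl1, h1]
  · rw [Category.assoc, e.transitivity₂, ← Category.assoc, hl2, h2']

lemma rel_unique {T : C} (r r' : T ⟶ R) (h1 : r ≫ s = r' ≫ s) (h2 : r ≫ t = r' ≫ t) : r = r' :=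
  e.right_cancellation _ _ h1 h2

end Rel

section Sheaf

variable (K : Precoverage Scheme.{u}) {S : Scheme.{u}}

/-- Factoring through a monomorphism of schemes over `S` is local for a subcanonical topology. -/
lemma fac_of_sieve [(QuotSh.J K S).Subcanonical] {Z Y T : Over S} (i : Z ⟶ Y) [Mono i]
    (x : T ⟶ Y) (Sv : Sieve T) (hSv : Sv ∈ QuotSh.J K S T)
    (h : ∀ ⦃V : Over S⦄ (g : V ⟶ T), Sv g → ∃ z : V ⟶ Z, z ≫ i = g ≫ x) :
    ∃ z : T ⟶ Z, z ≫ i = x := by
  have hZ : Presieve.IsSheaf (QuotSh.J K S) (yoneda.obj Z) :=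
    GrothendieckTopology.Subcanonical.isSheaf_of_isRepresentable _
  have hY : Presieve.IsSheaf (QuotSh.J K S) (yoneda.obj Y) :=
    GrothendieckTopology.Subcanonical.isSheaf_of_isRepresentable _
  choose zz hzz using h
  let fam : Presieve.FamilyOfElements (yoneda.obj Z) Sv.arrows := fun V g hg => zz g hg
  have hcomp : fam.Compatible := by
    intro V₁ V₂ W g₁ g₂ f₁ f₂ h₁ h₂ hc
    change g₁ ≫ zz f₁ h₁ = g₂ ≫ zz f₂ h₂
    rw [← cancel_mono i, Category.assoc, Category.assoc, hzz _ h₁, hzz _ h₂, ← Category.assoc,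
      ← Category.assoc, hc]
  obtain ⟨z, hz, -⟩ := hZ Sv hSv fam hcomp
  refine ⟨z, ?_⟩
  refine (hY Sv hSv).isSeparatedFor.ext ?_
  intro V g hg
  change g ≫ z ≫ i = g ≫ x
  have h1 : g ≫ z = zz g hg := hz g hg
  rw [← Category.assoc, h1, hzz _ hg]

/-- Being related is local for a subcanonical topology. -/
lemma rel_of_sieve [(QuotSh.J K S).Subcanonical] {R U T : Over S} {s t : R ⟶ U}
    (e : EquivalenceRelation s t) (x y : T ⟶ U) (Sv : Sieve T) (hSv : Sv ∈ QuotSh.J K S T)
    (h : ∀ ⦃V : Over S⦄ (g : V ⟶ T), Sv g → Rel s t (g ≫ x) (g ≫ y)) : Rel s t x y := by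
  have hR : Presieve.IsSheaf (QuotSh.J K S) (yoneda.obj R) :=
    GrothendieckTopology.Subcanonical.isSheaf_of_isRepresentable _
  have hU : Presieve.IsSheaf (QuotSh.J K S) (yoneda.obj U) :=
    GrothendieckTopology.Subcanonical.isSheaf_of_isRepresentable _
  choose rr hrr using h
  let fam : Presieve.FamilyOfElements (yoneda.obj R) Sv.arrows := fun V g hg => rr g hg
  have hcomp : fam.Compatible := by
    intro V₁ V₂ W g₁ g₂ f₁ f₂ h₁ h₂ hc
    change g₁ ≫ rr f₁ h₁ = g₂ ≫ rr f₂ h₂
    apply rel_unique e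
    · rw [Category.assoc, Category.assoc, (hrr _ h₁).1, (hrr _ h₂).1, ← Category.assoc,
        ← Category.assoc, hc]
    · rw [Category.assoc, Category.assoc, (hrr _ h₁).2, (hrr _ h₂).2, ← Category.assoc,
        ← Category.assoc, hc]
  obtain ⟨r, hr, -⟩ := hR Sv hSv fam hcomp
  refine ⟨r, ?_, ?_⟩
  · refine (hU Sv hSv).isSeparatedFor.ext ?_
    intro V g hg
    change g ≫ r ≫ s = g ≫ x
    have h1 : g ≫ r = rr g hg := hr g hg
    rw [← Category.assoc, h1, (hrr _ hg).1]
  · refine (hU Sv hSv).isSeparatedFor.ext ?_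
    intro V g hg
    change g ≫ r ≫ t = g ≫ y
    have h1 : g ≫ r = rr g hg := hr g hg
    rw [← Category.assoc, h1, (hrr _ hg).2]

section Sec

variable [(QuotSh.J K S).Subcanonical]

/-- `rep K T` is the representable sheaf. -/
noncomputable def repIso (T : Over S) :
    QuotSh.rep K T ≅ (QuotSh.J K S).uliftYoneda.{u + 1}.obj T := (repFunctorIso K).app T

lemma repIso_inv_naturality {V T : Over S} (g : V ⟶ T) :
    (QuotSh.J K S).uliftYoneda.{u + 1}.map g ≫ (repIso K T).inv =
      (repIso K V).inv ≫ QuotSh.repMap K g :=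
  (repFunctorIso K).inv.naturality g

/-- Morphisms from a representable sheaf correspond to sections. -/
noncomputable def sec {T : Over S} {F : QuotSh.Sh K S} :
    (QuotSh.rep K T ⟶ F) ≃ F.obj.obj (op T) where
  toFun f := (QuotSh.J K S).uliftYonedaEquiv ((repIso K T).inv ≫ f)
  invFun x := (repIso K T).hom ≫ (QuotSh.J K S).uliftYonedaEquiv.symm x
  left_inv f := by simp
  right_inv x := by simp

lemma sec_apply {T : Over S} {F : QuotSh.Sh K S} (f : QuotSh.rep K T ⟶ F) :
    sec K f = (QuotSh.J K S).uliftYonedaEquiv ((repIso K T).inv ≫ f) := rfl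

lemma sec_repMap_comp {T V : Over S} {F : QuotSh.Sh K S} (g : V ⟶ T) (f : QuotSh.rep K T ⟶ F) :
    sec K (QuotSh.repMap K g ≫ f) = F.obj.map g.op (sec K f) := by
  rw [sec_apply, sec_apply, GrothendieckTopology.uliftYonedaEquiv_naturality,
    ← Category.assoc, ← Category.assoc, repIso_inv_naturality]

lemma sec_comp {T : Over S} {F G : QuotSh.Sh K S} (f : QuotSh.rep K T ⟶ F) (β : F ⟶ G) :
    sec K (f ≫ β) = β.hom.app _ (sec K f) := by
  rw [sec_apply, sec_apply, ← Category.assoc, GrothendieckTopology.uliftYonedaEquiv_comp]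

lemma exists_sec_repMap {U V : Over S} (y : (QuotSh.rep K U).obj.obj (op V)) :
    ∃ u : V ⟶ U, sec K (QuotSh.repMap K u) = y := by
  obtain ⟨l, rfl⟩ := (sec K).surjective y
  obtain ⟨u, rfl⟩ := (repFunctor K S).map_surjective l
  exact ⟨u, rfl⟩

/-- Morphisms out of a representable sheaf agree if they agree on a covering sieve. -/
lemma hom_ext_of_sieve {T : Over S} {F : QuotSh.Sh K S} (f₁ f₂ : QuotSh.rep K T ⟶ F)
    (Sv : Sieve T) (hSv : Sv ∈ QuotSh.J K S T)
    (h : ∀ ⦃V : Over S⦄ (g : V ⟶ T), Sv g → QuotSh.repMap K g ≫ f₁ = QuotSh.repMap K g ≫ f₂) :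
    f₁ = f₂ := by
  apply (sec K).injective
  have hF : Presieve.IsSheaf (QuotSh.J K S) F.obj := (isSheaf_iff_isSheaf_of_type _ _).1 F.2
  refine (hF Sv hSv).isSeparatedFor.ext ?_
  intro V g hg
  rw [← sec_repMap_comp, ← sec_repMap_comp, h g hg]

variable {R U : Over S} (s t : R ⟶ U)

/-- The sieve of local lifts to `U` of a section of `U/R`. -/
def liftSieve {T : Over S} (σ : QuotSh.rep K T ⟶ QuotSh.quot K s t) : Sieve T where
  arrows V g := ∃ u : V ⟶ U, QuotSh.repMap K u ≫ QuotSh.quotπ K s t = QuotSh.repMap K g ≫ σ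
  downward_closed := by
    rintro V W g ⟨u, hu⟩ h
    exact ⟨h ≫ u, by rw [repMap_comp, Category.assoc, hu, repMap_comp, Category.assoc]⟩

lemma liftSieve_mem {T : Over S} (σ : QuotSh.rep K T ⟶ QuotSh.quot K s t) :
    liftSieve K s t σ ∈ QuotSh.J K S T := by
  have hepi : Epi (QuotSh.quotπ K s t) := coequalizer.π_epi
  have hLS : Sheaf.IsLocallySurjective (QuotSh.quotπ K s t) :=
    (Sheaf.isLocallySurjective_iff_epi' _ _).2 hepi
  have hcov := Presheaf.imageSieve_mem (QuotSh.J K S) (QuotSh.quotπ K s t).hom (sec K σ)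
  refine (QuotSh.J K S).superset_covering ?_ hcov
  rintro V g ⟨y, hy⟩
  obtain ⟨u, rfl⟩ := exists_sec_repMap K y
  refine ⟨u, (sec K).injective ?_⟩
  rw [sec_comp, sec_repMap_comp]
  exact hy

/-- Two points of `U` are related iff they have the same image in `U/R`. -/
lemma rel_iff_eq [IsEquivalenceRelation s t] {T : Over S} (x y : T ⟶ U) :
    Rel s t x y ↔
      QuotSh.repMap K x ≫ QuotSh.quotπ K s t = QuotSh.repMap K y ≫ QuotSh.quotπ K s t := by
  constructor
  · rintro ⟨r, rfl, rfl⟩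
    rw [repMap_comp, repMap_comp, Category.assoc, Category.assoc, QuotSh.quot_condition]
  · intro h
    obtain ⟨e⟩ := IsEquivalenceRelation.nonempty_equivalenceRelation (p₁ := s) (p₂ := t)
    have : JointlyMono₂ s t := e.toReflexiveRelation.toJointlyMono₂
    have : JointlyMono₂ ((repFunctor K S).map s) ((repFunctor K S).map t) :=
      jointlyMono₂_map (repFunctor K S) s t
    have e' : EquivalenceRelation (QuotSh.repMap K s) (QuotSh.repMap K t) :=
      equivalenceRelationMap (repFunctor K S) s t e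
    have hk : IsKernelPair (QuotSh.quotπ K s t) (QuotSh.repMap K s) (QuotSh.repMap K t) :=
      sheaf_isKernelPair_of_isColimit (QuotSh.J K S) e' (QuotSh.quotπ K s t)
        (QuotSh.quot_condition K s t) (coequalizerIsCoequalizer _ _)
    obtain ⟨l, hl₁, hl₂⟩ := hk.exists_lift _ _ h
    obtain ⟨r, rfl⟩ := (repFunctor K S).map_surjective l
    refine ⟨r, (repFunctor K S).map_injective ?_, (repFunctor K S).map_injective ?_⟩
    · rw [Functor.map_comp]; exact hl₁
    · rw [Functor.map_comp]; exact hl₂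

end Sec

end Sheaf

end Groth.Agent.Lib.Helper11.QuotPts
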