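import Mathlib
import Groth.Agent.Lib.Helper11QuotPtsA

/-!
# Helper11QuotPtsB: the subobject of `U ⊗ T` attached to a section of `U/R` (helper11)

`IsGraph K s t σ i` says that the monomorphism `i : Z ⟶ U ⊗ T` is the "graph" of the section `σ` of
`U/R` over `T`: a point `x` of `U ⊗ T` whose `T`-component lifts to a point `u'` of `U` lies in `Z`
iff its `U`-component is related to `u'`.  From it we derive stability under `R`, exactness,
compatibility with `σ` and uniqueness; conversely these properties imply `IsGraph`.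
-/

set_option autoImplicit false
universe u

open CategoryTheory Limits AlgebraicGeometry Opposite MonoidalCategory CartesianMonoidalCategory
open Groth.Agent.Lib.Helper9 Groth.Agent.Lib.Helper12.QuotShLib

namespace Groth.Agent.Lib.Helper11.QuotPts

variable (K : Precoverage Scheme.{u}) {S : Scheme.{u}} {R U : Over S} (s t : R ⟶ U)

/-- `x` factors through `i`. -/
def Fac {Z Y T : Over S} (i : Z ⟶ Y) (x : T ⟶ Y) : Prop := ∃ z : T ⟶ Z, z ≫ i = x

lemma Fac.comp {Z Y T T' : Over S} {i : Z ⟶ Y} {x : T ⟶ Y} (h : Fac i x) (g : T' ⟶ T) :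
    Fac i (g ≫ x) := by
  obtain ⟨z, rfl⟩ := h
  exact ⟨g ≫ z, Category.assoc _ _ _⟩

lemma fac_left_iff {Z Y T : Over S} (i : Z ⟶ Y) (x : T ⟶ Y) :
    (∃ z : T.left ⟶ Z.left, z ≫ i.left = x.left) ↔ Fac i x := by
  constructor
  · rintro ⟨z, hz⟩
    refine ⟨Over.homMk z ?_, ?_⟩
    · rw [← Over.w i, ← Category.assoc, hz, Over.w x]
    · apply Over.OverMorphism.ext
      simpa using hz
  · rintro ⟨z, rfl⟩
    exact ⟨z.left, rfl⟩

variable {T : Over S} (σ : QuotSh.rep K T ⟶ QuotSh.quot K s t)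

/-- `i : Z ⟶ U ⊗ T` is the graph of the section `σ` of `U/R`. -/
def IsGraph {Z : Over S} (i : Z ⟶ U ⊗ T) : Prop :=
  ∀ ⦃T' : Over S⦄ (x : T' ⟶ U ⊗ T) (u' : T' ⟶ U),
    QuotSh.repMap K u' ≫ QuotSh.quotπ K s t = QuotSh.repMap K (x ≫ snd U T) ≫ σ →
    (Fac i x ↔ Rel s t u' (x ≫ fst U T))

variable {K s t σ}

section Props

variable [(QuotSh.J K S).Subcanonical] (e : EquivalenceRelation s t)
  {Z : Over S} {i : Z ⟶ U ⊗ T} [Mono i] (hi : IsGraph K s t σ i)

include e hi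

lemma IsGraph.fac_of_rel {T' : Over S} (x y : T' ⟶ U ⊗ T) (hsnd : x ≫ snd U T = y ≫ snd U T)
    (hrel : Rel s t (x ≫ fst U T) (y ≫ fst U T)) (hx : Fac i x) : Fac i y := by
  refine fac_of_sieve K i y ((liftSieve K s t σ).pullback (x ≫ snd U T))
    ((QuotSh.J K S).pullback_stable _ (liftSieve_mem K s t σ)) ?_
  rintro V g ⟨u', hu'⟩
  have h1 : QuotSh.repMap K u' ≫ QuotSh.quotπ K s t =
      QuotSh.repMap K ((g ≫ x) ≫ snd U T) ≫ σ := by rw [hu', Category.assoc]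
  have h2 : QuotSh.repMap K u' ≫ QuotSh.quotπ K s t =
      QuotSh.repMap K ((g ≫ y) ≫ snd U T) ≫ σ := by rw [hu', Category.assoc, hsnd]
  have h3 : Rel s t u' ((g ≫ x) ≫ fst U T) := (hi (g ≫ x) u' h1).1 (hx.comp g)
  have h4 : Rel s t u' ((g ≫ y) ≫ fst U T) := by
    refine Rel.trans e h3 ?_
    simpa only [Category.assoc] using hrel.comp g
  exact (hi (g ≫ y) u' h2).2 h4

lemma IsGraph.stable {T' : Over S} (r : T' ⟶ R ⊗ T) :
    Fac i (r ≫ (s ▷ T)) ↔ Fac i (r ≫ (t ▷ T)) := by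
  have hrel : Rel s t ((r ≫ (s ▷ T)) ≫ fst U T) ((r ≫ (t ▷ T)) ≫ fst U T) :=
    ⟨r ≫ fst R T, by simp, by simp⟩
  constructor
  · exact hi.fac_of_rel e _ _ (by simp) hrel
  · exact hi.fac_of_rel e _ _ (by simp) (Rel.symm e hrel)

omit [Mono i] in
lemma IsGraph.exact {T' : Over S} (z₁ z₂ : T' ⟶ Z)
    (h : z₁ ≫ i ≫ snd U T = z₂ ≫ i ≫ snd U T) :
    Rel s t (z₁ ≫ i ≫ fst U T) (z₂ ≫ i ≫ fst U T) := by
  refine rel_of_sieve K e _ _ ((liftSieve K s t σ).pullback (z₁ ≫ i ≫ snd U T))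
    ((QuotSh.J K S).pullback_stable _ (liftSieve_mem K s t σ)) ?_
  rintro V g ⟨u', hu'⟩
  have h1 : QuotSh.repMap K u' ≫ QuotSh.quotπ K s t =
      QuotSh.repMap K ((g ≫ z₁ ≫ i) ≫ snd U T) ≫ σ := by
    rw [hu']; simp only [Category.assoc]
  have h2 : QuotSh.repMap K u' ≫ QuotSh.quotπ K s t =
      QuotSh.repMap K ((g ≫ z₂ ≫ i) ≫ snd U T) ≫ σ := by
    rw [hu']; simp only [Category.assoc]; rw [h]
  have h3 : Rel s t u' ((g ≫ z₁ ≫ i) ≫ fst U T) := (hi _ u' h1).1 ⟨g ≫ z₁, Category.assoc _ _ _⟩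
  have h4 : Rel s t u' ((g ≫ z₂ ≫ i) ≫ fst U T) := (hi _ u' h2).1 ⟨g ≫ z₂, Category.assoc _ _ _⟩
  have h5 := Rel.trans e (Rel.symm e h3) h4
  simpa only [Category.assoc] using h5

omit e [Mono i] in
lemma IsGraph.compat [IsEquivalenceRelation s t] :
    QuotSh.repMap K (i ≫ fst U T) ≫ QuotSh.quotπ K s t = QuotSh.repMap K (i ≫ snd U T) ≫ σ := by
  refine hom_ext_of_sieve K _ _ ((liftSieve K s t σ).pullback (i ≫ snd U T))
    ((QuotSh.J K S).pullback_stable _ (liftSieve_mem K s t σ)) ?_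
  rintro V g ⟨u', hu'⟩
  have h1 : QuotSh.repMap K u' ≫ QuotSh.quotπ K s t =
      QuotSh.repMap K ((g ≫ i) ≫ snd U T) ≫ σ := by
    rw [hu']; simp only [Category.assoc]
  have h3 : Rel s t u' ((g ≫ i) ≫ fst U T) := (hi _ u' h1).1 ⟨g, rfl⟩
  have h4 := (rel_iff_eq K s t _ _).1 h3
  rw [← Category.assoc, ← Category.assoc, ← repMap_comp, ← repMap_comp, ← Category.assoc g,
    ← h4, hu']

end Props

section Converse

variable [(QuotSh.J K S).Subcanonical] [IsEquivalenceRelation s t] (e : EquivalenceRelation s t)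
  {Z : Over S} {i : Z ⟶ U ⊗ T} [Mono i]

include e in
/-- A stable subobject which covers `T` and is compatible with `σ` is the graph of `σ`. -/
theorem isGraph_of_props
    (hstab : ∀ (T' : Over S) (r : T' ⟶ R ⊗ T), Fac i (r ≫ (s ▷ T)) → Fac i (r ≫ (t ▷ T)))
    (hcov : Sieve.generate (Presieve.singleton (i ≫ snd U T)) ∈ QuotSh.J K S T)
    (hcompat : QuotSh.repMap K (i ≫ fst U T) ≫ QuotSh.quotπ K s t =
      QuotSh.repMap K (i ≫ snd U T) ≫ σ) : IsGraph K s t σ i := by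
  intro T' x u' hu'
  constructor
  · rintro ⟨z, rfl⟩
    apply (rel_iff_eq K s t _ _).2
    rw [hu', Category.assoc, Category.assoc, repMap_comp K z, repMap_comp K z, Category.assoc,
      Category.assoc, hcompat]
  · intro hrel
    refine fac_of_sieve K i x
      ((Sieve.generate (Presieve.singleton (i ≫ snd U T))).pullback (x ≫ snd U T))
      ((QuotSh.J K S).pullback_stable _ hcov) ?_
    rintro V g ⟨W, a, b, ⟨⟩, hab⟩
    have h1 : QuotSh.repMap K (a ≫ i ≫ fst U T) ≫ QuotSh.quotπ K s t =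
        QuotSh.repMap K (g ≫ u') ≫ QuotSh.quotπ K s t := by
      rw [repMap_comp, Category.assoc, hcompat, ← Category.assoc, ← repMap_comp, hab,
        repMap_comp, Category.assoc, ← hu', ← Category.assoc, ← repMap_comp]
    have h2 : Rel s t (a ≫ i ≫ fst U T) (g ≫ u') := (rel_iff_eq K s t _ _).2 h1
    obtain ⟨r, hr1, hr2⟩ := Rel.trans e h2 (hrel.comp g)
    have hs : lift r (g ≫ x ≫ snd U T) ≫ (s ▷ T) = a ≫ i := by
      apply CartesianMonoidalCategory.hom_ext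
      · simp [hr1]
      · simp [hab]
    have ht : lift r (g ≫ x ≫ snd U T) ≫ (t ▷ T) = g ≫ x := by
      apply CartesianMonoidalCategory.hom_ext
      · simp [hr2]
      · simp
    have h3 := hstab V (lift r (g ≫ x ≫ snd U T)) ⟨a, hs.symm⟩
    rw [ht] at h3
    exact h3

omit [IsEquivalenceRelation s t] [Mono i] in
lemma IsGraph.fac_imp {Z' : Over S} {i' : Z' ⟶ U ⊗ T} [Mono i'] (hi : IsGraph K s t σ i)
    (hi' : IsGraph K s t σ i') {T' : Over S} (x : T' ⟶ U ⊗ T) (hx : Fac i x) : Fac i' x := by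
  refine fac_of_sieve K i' x ((liftSieve K s t σ).pullback (x ≫ snd U T))
    ((QuotSh.J K S).pullback_stable _ (liftSieve_mem K s t σ)) ?_
  rintro V g ⟨u', hu'⟩
  have h1 : QuotSh.repMap K u' ≫ QuotSh.quotπ K s t =
      QuotSh.repMap K ((g ≫ x) ≫ snd U T) ≫ σ := by rw [hu', Category.assoc]
  exact (hi' (g ≫ x) u' h1).2 ((hi (g ≫ x) u' h1).1 (hx.comp g))

omit [IsEquivalenceRelation s t] in
/-- The graph of `σ` is unique up to isomorphism. -/
theorem IsGraph.exists_iso {Z' : Over S} {i' : Z' ⟶ U ⊗ T} [Mono i'] (hi : IsGraph K s t σ i)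
    (hi' : IsGraph K s t σ i') : ∃ e : Z ≅ Z', e.hom ≫ i' = i := by
  obtain ⟨a, ha⟩ := hi.fac_imp hi' i ⟨𝟙 Z, Category.id_comp _⟩
  obtain ⟨b, hb⟩ := hi'.fac_imp hi i' ⟨𝟙 Z', Category.id_comp _⟩
  refine ⟨⟨a, b, ?_, ?_⟩, ha⟩
  · rw [← cancel_mono i, Category.assoc, hb, ha, Category.id_comp]
  · rw [← cancel_mono i', Category.assoc, ha, hb, Category.id_comp]

end Converse

end Groth.Agent.Lib.Helper11.QuotPts
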