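import Mathlib
import Groth.Agent.Lib.Helper11QuotPtsB
import Groth.Agent.Lib.Helper12Torsor

/-!
# Helper11QuotPtsC: descent of properties of the graph of a section of `U/R`, and its existence
-/

set_option autoImplicit false
universe u

open CategoryTheory Limits AlgebraicGeometry Opposite MonoidalCategory CartesianMonoidalCategory
open Groth.Agent.Lib.Helper9 Groth.Agent.Lib.Helper12.QuotShLib

namespace Groth.Agent.Lib.Helper11.QuotPts

variable (K : Precoverage Scheme.{u}) {S : Scheme.{u}} {R U : Over S} (s t : R ⟶ U)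
  {T : Over S} (σ : QuotSh.rep K T ⟶ QuotSh.quot K s t)

/-- A `K`-cover of `T` over which the section `σ` lifts to `U`. -/
lemma exists_cover_lifts [K.IsStableUnderComposition] [K.IsStableUnderBaseChange] [K.HasIsos]
    [(QuotSh.J K S).Subcanonical] :
    ∃ R' ∈ K T.left, ∀ ⦃V : Scheme.{u}⦄ (g : V ⟶ T.left), R' g →
      ∃ u : Over.mk (g ≫ T.hom) ⟶ U, QuotSh.repMap K u ≫ QuotSh.quotπ K s t =
        QuotSh.repMap K (Over.homMk g rfl : Over.mk (g ≫ T.hom) ⟶ T) ≫ σ := by
  have h3 := liftSieve_mem K s t σ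
  rw [GrothendieckTopology.mem_over_iff,
    Precoverage.mem_toGrothendieck_iff_of_isStableUnderComposition] at h3
  obtain ⟨R', hR', hle⟩ := h3
  refine ⟨R', hR', fun V g hg => ?_⟩
  have h4 := hle _ _ hg
  rw [Sieve.overEquiv_iff] at h4
  exact h4

variable {K s t σ}

/-- Properties which descend along fpqc coverings pass from `s` to the projection `Z ⟶ T` of the
graph of a section. -/
theorem IsGraph.descends (e : EquivalenceRelation s t)
    {σ : QuotSh.rep Scheme.fpqcPrecoverage T ⟶ QuotSh.quot Scheme.fpqcPrecoverage s t}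
    {Z : Over S} {i : Z ⟶ U ⊗ T} [Mono i] (hi : IsGraph Scheme.fpqcPrecoverage s t σ i)
    (Q : MorphismProperty Scheme.{u}) [IsZariskiLocalAtTarget Q] [Q.IsStableUnderBaseChange]
    (hQ : Q.DescendsAlong (@Surjective ⊓ @Flat ⊓ @QuasiCompact : MorphismProperty Scheme.{u}))
    (hs : Q s.left) : Q (i ≫ snd U T).left := by
  obtain ⟨R', hR', hlift⟩ := exists_cover_lifts Scheme.fpqcPrecoverage s t σ
  refine Groth.Agent.Lib.Helper12.of_mem_fpqcPrecoverage hQ (i ≫ snd U T).left R' hR'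
    (fun V g hg => ?_)
  obtain ⟨ug, hug⟩ := hlift g hg
  obtain ⟨pg, hpg⟩ : ∃ pg : Over.mk (g ≫ T.hom) ⟶ T, pg = Over.homMk g rfl := ⟨_, rfl⟩
  rw [← hpg] at hug
  have hpgl : pg.left = g := by rw [hpg]; rfl
  obtain ⟨ρ, hρ⟩ : ∃ ρ, ρ = pullback.fst s ug := ⟨_, rfl⟩
  obtain ⟨β, hβ⟩ : ∃ β, β = pullback.snd s ug := ⟨_, rfl⟩
  have hcond : ρ ≫ s = β ≫ ug := by rw [hρ, hβ]; exact pullback.condition
  have hxfac : Fac i (lift (ρ ≫ t) (β ≫ pg)) := by
    refine (hi (lift (ρ ≫ t) (β ≫ pg)) (β ≫ ug) ?_).2 ⟨ρ, hcond, by simp⟩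
    rw [lift_snd, repMap_comp, Category.assoc, hug, ← Category.assoc, ← repMap_comp]
  obtain ⟨α, hα⟩ := hxfac
  have hpb : IsPullback α β (i ≫ snd U T) pg := by
    refine isPullback_of_exists_unique ?_ ?_ ?_
    · rw [← Category.assoc, hα, lift_snd]
    · intro W' a b hab
      have h1 : QuotSh.repMap Scheme.fpqcPrecoverage (b ≫ ug) ≫
          QuotSh.quotπ Scheme.fpqcPrecoverage s t =
          QuotSh.repMap Scheme.fpqcPrecoverage ((a ≫ i) ≫ snd U T) ≫ σ := by
        rw [repMap_comp, Category.assoc, hug, ← Category.assoc, ← repMap_comp, ← hab,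
          Category.assoc]
      obtain ⟨r, hr1, hr2⟩ := (hi (a ≫ i) (b ≫ ug) h1).1 ⟨a, rfl⟩
      refine ⟨pullback.lift r b hr1, ?_, ?_⟩
      · rw [← cancel_mono i, Category.assoc, hα]
        apply CartesianMonoidalCategory.hom_ext
        · rw [Category.assoc, lift_fst, hρ, pullback.lift_fst_assoc, hr2]
        · rw [Category.assoc, lift_snd, hβ, pullback.lift_snd_assoc, ← hab, Category.assoc]
      · rw [hβ, pullback.lift_snd]
    · intro W' l l' h1 h2
      have h3 : l ≫ ρ = l' ≫ ρ := by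
        apply rel_unique e
        · rw [Category.assoc, Category.assoc, hcond, ← Category.assoc, ← Category.assoc, h2]
        · have h4 := congrArg (fun m => m ≫ i ≫ fst U T) h1
          simp only [Category.assoc] at h4
          rw [← Category.assoc α, hα, lift_fst] at h4
          simpa only [Category.assoc] using h4
      rw [hρ] at h3
      rw [hβ] at h2
      exact pullback.hom_ext h3 h2
  have hsq := Functor.map_isPullback (Over.forget S) hpb
  simp only [Over.forget_obj, Over.forget_map] at hsq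
  rw [hpgl] at hsq
  have hsq2 := Functor.map_isPullback (Over.forget S) (IsPullback.of_hasPullback s ug)
  simp only [Over.forget_obj, Over.forget_map] at hsq2
  have hQβ : Q β.left := by
    rw [hβ]
    exact MorphismProperty.of_isPullback hsq2 hs
  rw [← Q.cancel_left_of_respectsIso hsq.isoPullback.hom, hsq.isoPullback_hom_snd]
  exact hQβ

section Local

variable (s t)

/-- The local model of the graph: pairs `(x, τ)` with `x` related to `u τ`. -/
noncomputable def zj {T' : Over S} (u : T' ⟶ U) : Over S :=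
  pullback (lift (fst U T') (snd U T' ≫ u)) (lift t s)

/-- The inclusion of the local model. -/
noncomputable def aj {T' : Over S} (u : T' ⟶ U) : zj s t u ⟶ U ⊗ T' :=
  pullback.fst (lift (fst U T') (snd U T' ≫ u)) (lift t s)

/-- The projection of the local model to `R`. -/
noncomputable def bj {T' : Over S} (u : T' ⟶ U) : zj s t u ⟶ R :=
  pullback.snd (lift (fst U T') (snd U T' ≫ u)) (lift t s)

lemma aj_condition {T' : Over S} (u : T' ⟶ U) :
    aj s t u ≫ lift (fst U T') (snd U T' ≫ u) = bj s t u ≫ lift t s := pullback.condition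

lemma fac_aj_iff {T' T'' : Over S} (u : T' ⟶ U) (x : T'' ⟶ U ⊗ T') :
    Fac (aj s t u) x ↔ Rel s t (x ≫ snd U T' ≫ u) (x ≫ fst U T') := by
  constructor
  · rintro ⟨z, rfl⟩
    refine ⟨z ≫ bj s t u, ?_, ?_⟩
    · have h2 := congrArg (fun m => z ≫ m ≫ snd U U) (aj_condition s t u)
      simp only [Category.assoc, lift_snd] at h2
      simp only [Category.assoc]
      exact h2.symm
    · have h2 := congrArg (fun m => z ≫ m ≫ fst U U) (aj_condition s t u)
      simp only [Category.assoc, lift_fst] at h2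
      simp only [Category.assoc]
      exact h2.symm
  · rintro ⟨r, hr1, hr2⟩
    refine ⟨pullback.lift x r ?_, pullback.lift_fst _ _ _⟩
    apply CartesianMonoidalCategory.hom_ext
    · simp [hr2]
    · simp [hr1]

lemma P_aj (P : MorphismProperty Scheme.{u}) [P.IsStableUnderBaseChange]
    (hc : P (lift t s).left) {T' : Over S} (u : T' ⟶ U) : P (aj s t u).left := by
  have h := Functor.map_isPullback (Over.forget S)
    (IsPullback.of_hasPullback (lift (fst U T') (snd U T' ≫ u)) (lift t s))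
  simp only [Over.forget_obj, Over.forget_map] at h
  exact MorphismProperty.of_isPullback h.flip hc

end Local

/-- Effective descent of `P`-subobjects along `K`-covering families (in terms of points). -/
def EffDesc (K : Precoverage Scheme.{u}) (P : MorphismProperty Scheme.{u}) : Prop :=
  ∀ ⦃Y : Scheme.{u}⦄ ⦃ι : Type (u + 1)⦄ (Yi : ι → Scheme.{u}) (f : ∀ j, Yi j ⟶ Y),
    Presieve.ofArrows Yi f ∈ K Y →
    ∀ (Zi : ι → Scheme.{u}) (a : ∀ j, Zi j ⟶ Yi j), (∀ j, P (a j)) →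
    (∀ j k ⦃T₀ : Scheme.{u}⦄ (x₀ : T₀ ⟶ Yi j) (x₁ : T₀ ⟶ Yi k), x₀ ≫ f j = x₁ ≫ f k →
       (∃ z, z ≫ a j = x₀) → (∃ z, z ≫ a k = x₁)) →
    ∃ (Z : Scheme.{u}) (b : Z ⟶ Y), P b ∧
      ∀ j ⦃T₀ : Scheme.{u}⦄ (x : T₀ ⟶ Yi j), (∃ z, z ≫ a j = x) ↔ (∃ z, z ≫ b = x ≫ f j)

/-- Existence of the graph of a section of `U/R`, given effective descent for `P`-subobjects. -/
theorem exists_isGraph (K : Precoverage Scheme.{u}) [K.IsStableUnderComposition]
    [K.IsStableUnderBaseChange] [K.HasIsos]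
    [(QuotSh.J K S).Subcanonical] (P : MorphismProperty Scheme.{u}) [P.IsStableUnderBaseChange]
    (hPmono : ∀ ⦃X Y : Scheme.{u}⦄ (f : X ⟶ Y), P f → Mono f)
    (heff : EffDesc K P) [IsEquivalenceRelation s t] (e : EquivalenceRelation s t)
    (hc : P (lift t s).left) (σ : QuotSh.rep K T ⟶ QuotSh.quot K s t) :
    ∃ (Z : Over S) (i : Z ⟶ U ⊗ T), P i.left ∧ IsGraph K s t σ i := by
  obtain ⟨R', hR', hlift⟩ := exists_cover_lifts K s t σ
  obtain ⟨ι, V, g, rfl⟩ := Presieve.exists_eq_ofArrows R'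
  have hl : ∀ j, ∃ u : Over.mk (g j ≫ T.hom) ⟶ U, QuotSh.repMap K u ≫ QuotSh.quotπ K s t =
      QuotSh.repMap K (Over.homMk (g j) rfl : Over.mk (g j ≫ T.hom) ⟶ T) ≫ σ :=
    fun j => hlift (g j) ⟨j⟩
  choose ug hug using hl
  obtain ⟨pg, hpg⟩ : ∃ pg : ∀ j, Over.mk (g j ≫ T.hom) ⟶ T, ∀ j, pg j = Over.homMk (g j) rfl :=
    ⟨_, fun _ => rfl⟩
  simp only [← hpg] at hug
  have hpgl : ∀ j, (pg j).left = g j := fun j => by rw [hpg]; rfl
  have hA : ∀ (j : ι) {W : Over S} (y : W ⟶ Over.mk (g j ≫ T.hom)),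
      QuotSh.repMap K (y ≫ ug j) ≫ QuotSh.quotπ K s t = QuotSh.repMap K (y ≫ pg j) ≫ σ := by
    intro j W y
    rw [repMap_comp, Category.assoc, hug, ← Category.assoc, ← repMap_comp]
  -- the cover of `U ⊗ T`
  have hcovY : Presieve.ofArrows (fun j => (U ⊗ Over.mk (g j ≫ T.hom)).left)
      (fun j => (U ◁ pg j).left) ∈ K (U ⊗ T).left := by
    refine Precoverage.mem_coverings_of_isPullback g hR' (snd U T).left
      (fun j => (U ◁ pg j).left) (fun j => (snd U (Over.mk (g j ≫ T.hom))).left) (fun j => ?_)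
    have h := Functor.map_isPullback (Over.forget S) (isPullback_whiskerLeft U (pg j))
    simp only [Over.forget_obj, Over.forget_map] at h
    rw [hpgl] at h
    exact h
  -- compatibility of the local models
  have hcompat : ∀ j k ⦃T₀ : Scheme.{u}⦄ (x₀ : T₀ ⟶ (U ⊗ Over.mk (g j ≫ T.hom)).left)
      (x₁ : T₀ ⟶ (U ⊗ Over.mk (g k ≫ T.hom)).left),
      x₀ ≫ (U ◁ pg j).left = x₁ ≫ (U ◁ pg k).left →
      (∃ z, z ≫ (aj s t (ug j)).left = x₀) → (∃ z, z ≫ (aj s t (ug k)).left = x₁) := by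
    intro j k T₀ x₀ x₁ hx h0
    have hw : x₁ ≫ (U ⊗ Over.mk (g k ≫ T.hom)).hom =
        x₀ ≫ (U ⊗ Over.mk (g j ≫ T.hom)).hom := by
      rw [← Over.w (U ◁ pg k), ← Over.w (U ◁ pg j), ← Category.assoc, ← Category.assoc, hx]
    obtain ⟨x₀', hx₀'⟩ : ∃ x₀' : Over.mk (x₀ ≫ (U ⊗ Over.mk (g j ≫ T.hom)).hom) ⟶
        U ⊗ Over.mk (g j ≫ T.hom), x₀'.left = x₀ := ⟨Over.homMk x₀ rfl, rfl⟩
    obtain ⟨x₁', hx₁'⟩ : ∃ x₁' : Over.mk (x₀ ≫ (U ⊗ Over.mk (g j ≫ T.hom)).hom) ⟶
        U ⊗ Over.mk (g k ≫ T.hom), x₁'.left = x₁ := ⟨Over.homMk x₁ hw, rfl⟩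
    have hx' : x₀' ≫ (U ◁ pg j) = x₁' ≫ (U ◁ pg k) := by
      apply Over.OverMorphism.ext
      rw [Over.comp_left, Over.comp_left, hx₀', hx₁', hx]
    have h0' : Fac (aj s t (ug j)) x₀' := (fac_left_iff _ _).1 (by rw [hx₀']; exact h0)
    have h1' : Fac (aj s t (ug k)) x₁' := by
      rw [fac_aj_iff] at h0' ⊢
      have hfst : x₀' ≫ fst U _ = x₁' ≫ fst U _ := by
        have := congrArg (fun m => m ≫ fst U T) hx'
        simpa using this
      have hsnd : (x₀' ≫ snd U _) ≫ pg j = (x₁' ≫ snd U _) ≫ pg k := by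
        have := congrArg (fun m => m ≫ snd U T) hx'
        simpa using this
      have hrel : Rel s t (x₁' ≫ snd U _ ≫ ug k) (x₀' ≫ snd U _ ≫ ug j) := by
        apply (rel_iff_eq K s t _ _).2
        rw [← Category.assoc, ← Category.assoc, hA, hA, hsnd]
      rw [← hfst]
      exact Rel.trans e hrel h0'
    have h2 := (fac_left_iff _ _).2 h1'
    rw [hx₁'] at h2
    exact h2
  obtain ⟨Z₀, b, hPb, hb⟩ := heff _ _ hcovY _ (fun j => (aj s t (ug j)).left)
    (fun j => P_aj s t P hc (ug j)) hcompat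
  obtain ⟨i, hi⟩ : ∃ i : Over.mk (b ≫ (U ⊗ T).hom) ⟶ U ⊗ T, i.left = b := ⟨Over.homMk b rfl, rfl⟩
  refine ⟨Over.mk (b ≫ (U ⊗ T).hom), i, by rw [hi]; exact hPb, ?_⟩
  -- membership on the pieces of the cover
  have hM : ∀ ⦃T' : Over S⦄ (x : T' ⟶ U ⊗ T) (j) (τ : T' ⟶ Over.mk (g j ≫ T.hom)),
      τ ≫ pg j = x ≫ snd U T → (Fac i x ↔ Rel s t (τ ≫ ug j) (x ≫ fst U T)) := by
    intro T' x j τ hτ
    have hx' : lift (x ≫ fst U T) τ ≫ (U ◁ pg j) = x := by
      apply CartesianMonoidalCategory.hom_ext <;> simp [hτ]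
    have h1 := hb j (lift (x ≫ fst U T) τ).left
    rw [fac_left_iff, fac_aj_iff] at h1
    simp only [lift_snd_assoc, lift_fst] at h1
    rw [h1, ← fac_left_iff, hi, ← Over.comp_left, hx']
    exact Iff.rfl
  -- the sieve of pieces
  let Sv : Sieve T :=
    { arrows := fun V' g' => ∃ (j : ι) (τ : V' ⟶ Over.mk (g j ≫ T.hom)), τ ≫ pg j = g'
      downward_closed := by
        rintro V' W' g' ⟨j, τ, rfl⟩ h
        exact ⟨j, h ≫ τ, Category.assoc _ _ _⟩ }
  have hSv : Sv ∈ QuotSh.J K S T := by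
    rw [GrothendieckTopology.mem_over_iff]
    refine GrothendieckTopology.superset_covering _ ?_ (Precoverage.generate_mem_toGrothendieck hR')
    rintro W h ⟨W', a, b', ⟨j⟩, rfl⟩
    rw [Sieve.overEquiv_iff]
    refine ⟨j, Over.homMk a (by simp), ?_⟩
    apply Over.OverMorphism.ext
    simp [hpgl]
  intro T' x u' hu'
  have hkey : ∀ ⦃V' : Over S⦄ (g' : V' ⟶ T'), (Sv.pullback (x ≫ snd U T)) g' →
      (Fac i (g' ≫ x) ↔ Rel s t (g' ≫ u') (g' ≫ x ≫ fst U T)) := by
    rintro V' g' ⟨j, τ, hτ⟩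
    have hτ' : τ ≫ pg j = (g' ≫ x) ≫ snd U T := by rw [hτ, Category.assoc]
    rw [hM (g' ≫ x) j τ hτ']
    have hrel : Rel s t (τ ≫ ug j) (g' ≫ u') := by
      apply (rel_iff_eq K s t _ _).2
      rw [hA, hτ', repMap_comp K g' u']
      simp only [repMap_comp, Category.assoc, hu']
    rw [Category.assoc]
    exact ⟨fun h => Rel.trans e (Rel.symm e hrel) h, fun h => Rel.trans e hrel h⟩
  haveI : Mono i := by
    haveI : Mono i.left := by rw [hi]; exact hPmono b hPb
    exact Over.mono_of_mono_left i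
  constructor
  · intro hx
    refine rel_of_sieve K e _ _ (Sv.pullback (x ≫ snd U T))
      ((QuotSh.J K S).pullback_stable _ hSv) (fun V' g' hg' => ?_)
    have := (hkey g' hg').1 (hx.comp g')
    simpa only [Category.assoc] using this
  · intro hrel
    refine fac_of_sieve K i x (Sv.pullback (x ≫ snd U T))
      ((QuotSh.J K S).pullback_stable _ hSv) (fun V' g' hg' => ?_)
    have := hrel.comp g'
    exact (hkey g' hg').2 (by simpa only [Category.assoc] using this)

end Groth.Agent.Lib.Helper11.QuotPts
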