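import Mathlib
import Groth.Agent.Lib.Helper11QuotPtsC
import Groth.Agent.Lib.Helper11IdGlueC

/-!
# Helper11QuotPtsD: effective fpqc descent of open and closed subschemes (in terms of points), and
the description of the points of an fpqc quotient sheaf `U/R`
-/

set_option autoImplicit false
universe w u

open CategoryTheory Limits AlgebraicGeometry Opposite MonoidalCategory CartesianMonoidalCategory
open Groth.Agent.Lib.Helper9 Groth.Agent.Lib.Helper12.QuotShLib

namespace Groth.Agent.Lib.Helper11.QuotPts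

section Open

/-- Descent of open subsets along an fpqc covering family (any index universe). -/
lemma exists_open {S : Scheme.{u}} {ι : Type w} {X : ι → Scheme.{u}}
    (f : ∀ i, X i ⟶ S) (hf : Presieve.ofArrows X f ∈ Scheme.fpqcPrecoverage S)
    (U : ∀ i, (X i).Opens)
    (hU : ∀ i j (z : ↥(pullback (f i) (f j))),
      (pullback.fst (f i) (f j)).base z ∈ U i ↔ (pullback.snd (f i) (f j)).base z ∈ U j) :
    ∃ V : S.Opens, ∀ i, (f i) ⁻¹ᵁ V = U i := by
  have hsh := (isSheaf_iff_isSheaf_of_type _ _).mp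
    (isSheaf_fpqcTopology_continuousMapPresheaf.{0, u} Prop)
  have h1 := hsh _ (Precoverage.generate_mem_toGrothendieck hf)
  rw [← Presieve.isSheafFor_iff_generate, Presieve.isSheafFor_arrows_iff_pullbacks] at h1
  obtain ⟨t, ht, -⟩ := h1 (fun i => ⟨fun p => p ∈ U i, continuous_Prop.mpr (U i).2⟩) (by
    intro i j
    apply ContinuousMap.ext
    intro z
    exact propext (hU i j z))
  obtain ⟨t', rfl⟩ : ∃ t' : C(↥S, Prop), t' = t := ⟨t, rfl⟩
  refine ⟨⟨{s | t' s}, continuous_Prop.mp t'.continuous⟩, fun i => ?_⟩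
  ext p
  have e : (ContinuousMap.comp t' (f i).base.hom : C(↥(X i), Prop)) =
      ⟨fun p => p ∈ U i, continuous_Prop.mpr (U i).2⟩ := ht i
  have := DFunLike.congr_fun e p
  exact Iff.of_eq this

lemma fac_isOpenImmersion_iff {Y Z T : Scheme.{u}} (a : Z ⟶ Y) [IsOpenImmersion a] (x : T ⟶ Y) :
    (∃ z, z ≫ a = x) ↔ Set.range x.base ⊆ a.opensRange := by
  constructor
  · rintro ⟨z, rfl⟩
    rw [Scheme.Hom.comp_base, TopCat.coe_comp]
    exact Set.range_comp_subset_range _ _
  · intro h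
    exact ⟨IsOpenImmersion.lift a x h, IsOpenImmersion.lift_fac _ _ _⟩

theorem effDesc_isOpenImmersion : EffDesc Scheme.fpqcPrecoverage.{u} @IsOpenImmersion := by
  intro Y ι Yi f hf Zi a ha hcompat
  haveI := ha
  have hU : ∀ j k (z : ↥(pullback (f j) (f k))),
      (pullback.fst (f j) (f k)).base z ∈ (a j).opensRange ↔
        (pullback.snd (f j) (f k)).base z ∈ (a k).opensRange := by
    intro j k z
    obtain ⟨g, hg⟩ : ∃ g, g = (pullback (f j) (f k)).fromSpecResidueField z := ⟨_, rfl⟩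
    have h : (g ≫ pullback.fst (f j) (f k)) ≫ f j = (g ≫ pullback.snd (f j) (f k)) ≫ f k := by
      rw [Category.assoc, Category.assoc, pullback.condition]
    have e1 := hcompat j k _ _ h
    have e2 := hcompat k j _ _ h.symm
    rw [fac_isOpenImmersion_iff, fac_isOpenImmersion_iff] at e1 e2
    have r1 : Set.range (g ≫ pullback.fst (f j) (f k)).base =
        {(pullback.fst (f j) (f k)).base z} := by
      rw [Scheme.Hom.comp_base, TopCat.coe_comp, Set.range_comp, hg,
        Scheme.range_fromSpecResidueField, Set.image_singleton]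
    have r2 : Set.range (g ≫ pullback.snd (f j) (f k)).base =
        {(pullback.snd (f j) (f k)).base z} := by
      rw [Scheme.Hom.comp_base, TopCat.coe_comp, Set.range_comp, hg,
        Scheme.range_fromSpecResidueField, Set.image_singleton]
    rw [r1, r2, Set.singleton_subset_iff, Set.singleton_subset_iff] at e1 e2
    exact ⟨e1, e2⟩
  obtain ⟨V, hV⟩ := exists_open f hf (fun j => (a j).opensRange) hU
  refine ⟨V, V.ι, inferInstance, fun j T₀ x => ?_⟩
  rw [fac_isOpenImmersion_iff, fac_isOpenImmersion_iff, Scheme.Opens.opensRange_ι, ← hV j]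
  rw [Scheme.Hom.comp_base, TopCat.coe_comp, Set.range_comp]
  constructor
  · rintro h _ ⟨y, hy, rfl⟩
    exact h hy
  · rintro h _ ⟨y, rfl⟩
    exact h ⟨_, ⟨y, rfl⟩, rfl⟩

end Open

section Closed

open Groth.Agent.Lib.Helper11.IdGlue

/-- fpqc descent for quasi-coherent ideal sheaves relative to a covering family (any index
universe). -/
theorem existsUnique_idealSheafData_of_fpqc' {P : Scheme.{u}} {ι : Type w}
    {Q : ι → Scheme.{u}} (g : ∀ i, Q i ⟶ P) (hg : Presieve.ofArrows Q g ∈ Scheme.fpqcPrecoverage P)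
    (I : ∀ i, (Q i).IdealSheafData)
    (h : ∀ i j, (I i).comap (pullback.fst (g i) (g j)) = (I j).comap (pullback.snd (g i) (g j))) :
    ∃! J : P.IdealSheafData, ∀ i, J.comap (g i) = I i := by
  have h1 : Presieve.IsSheafFor idealFunctor.{u} (Presieve.ofArrows Q g) :=
    isSheaf_fpqc_idealFunctor.isSheafFor _ (Precoverage.generate_mem_toGrothendieck hg)
  rw [Presieve.isSheafFor_arrows_iff_pullbacks] at h1
  exact h1 I h

lemma fac_isClosedImmersion_iff {Y Z T : Scheme.{u}} (a : Z ⟶ Y) [IsClosedImmersion a]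
    (x : T ⟶ Y) : (∃ z, z ≫ a = x) ↔ a.ker ≤ x.ker := by
  constructor
  · rintro ⟨z, rfl⟩
    exact Scheme.Hom.le_ker_comp _ _
  · intro h
    exact ⟨IsClosedImmersion.lift a x h, IsClosedImmersion.lift_fac _ _ _⟩

theorem effDesc_isClosedImmersion : EffDesc Scheme.fpqcPrecoverage.{u} @IsClosedImmersion := by
  intro Y ι Yi f hf Zi a ha hcompat
  haveI := ha
  have hle : ∀ j k, (a k).ker.comap (pullback.snd (f j) (f k)) ≤
      (a j).ker.comap (pullback.fst (f j) (f k)) := by
    intro j k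
    rw [← Scheme.IdealSheafData.ker_fst_of_isClosedImmersion,
      ← Scheme.IdealSheafData.ker_fst_of_isClosedImmersion]
    obtain ⟨a', ha'⟩ : ∃ a', a' = pullback.fst (pullback.fst (f j) (f k)) (a j) := ⟨_, rfl⟩
    have hc : (a' ≫ pullback.fst (f j) (f k)) ≫ f j = (a' ≫ pullback.snd (f j) (f k)) ≫ f k := by
      rw [Category.assoc, Category.assoc, pullback.condition]
    obtain ⟨w, hw⟩ := hcompat j k _ _ hc
      ⟨pullback.snd (pullback.fst (f j) (f k)) (a j), by rw [ha']; exact pullback.condition.symm⟩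
    have e : a' = pullback.lift a' w hw.symm ≫
        pullback.fst (pullback.snd (f j) (f k)) (a k) := (pullback.lift_fst _ _ _).symm
    rw [← ha', e]
    exact Scheme.Hom.le_ker_comp _ _
  have hle' : ∀ j k, (a j).ker.comap (pullback.fst (f j) (f k)) ≤
      (a k).ker.comap (pullback.snd (f j) (f k)) := by
    intro j k
    rw [← Scheme.IdealSheafData.ker_fst_of_isClosedImmersion,
      ← Scheme.IdealSheafData.ker_fst_of_isClosedImmersion]
    obtain ⟨a', ha'⟩ : ∃ a', a' = pullback.fst (pullback.snd (f j) (f k)) (a k) := ⟨_, rfl⟩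
    have hc : (a' ≫ pullback.snd (f j) (f k)) ≫ f k = (a' ≫ pullback.fst (f j) (f k)) ≫ f j := by
      rw [Category.assoc, Category.assoc, pullback.condition]
    obtain ⟨w, hw⟩ := hcompat k j _ _ hc
      ⟨pullback.snd (pullback.snd (f j) (f k)) (a k), by rw [ha']; exact pullback.condition.symm⟩
    have e : a' = pullback.lift a' w hw.symm ≫
        pullback.fst (pullback.fst (f j) (f k)) (a j) := (pullback.lift_fst _ _ _).symm
    rw [← ha', e]
    exact Scheme.Hom.le_ker_comp _ _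
  obtain ⟨J, hJ, -⟩ := existsUnique_idealSheafData_of_fpqc' f hf (fun j => (a j).ker)
    fun j k => le_antisymm (hle' j k) (hle j k)
  refine ⟨J.subscheme, J.subschemeι, inferInstance, fun j T₀ x => ?_⟩
  rw [fac_isClosedImmersion_iff, fac_isClosedImmersion_iff, Scheme.IdealSheafData.ker_subschemeι,
    ← Scheme.IdealSheafData.map_ker, Scheme.IdealSheafData.le_map_iff_comap_le, hJ j]

end Closed

section Main

/-- The points of an fpqc quotient sheaf `U/R` over `T` are the `R`-stable `P`-subschemes of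
`U ⊗ T` which are fpqc over `T` and whose fibres are equivalence classes, for a class `P` of
monomorphisms satisfying effective fpqc descent and containing the graph `(t, s)`. -/
theorem quotPts_main (P : MorphismProperty Scheme.{u}) [P.IsStableUnderBaseChange]
    (hPmono : ∀ ⦃X Y : Scheme.{u}⦄ (f : X ⟶ Y), P f → Mono f)
    (heff : EffDesc Scheme.fpqcPrecoverage P)
    {S : Scheme.{u}} {R U : Over S} (s t : R ⟶ U) [IsEquivalenceRelation s t]
    [Flat s.left] [Surjective s.left] [QuasiCompact s.left]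
    (hc : P (lift t s).left) (T : Over S)
    (σ : QuotSh.rep Scheme.fpqcPrecoverage T ⟶ QuotSh.quot Scheme.fpqcPrecoverage s t) :
    (∃ (Z : Over S) (i : Z ⟶ U ⊗ T), P i.left ∧
      (∀ (T' : Over S) (r : T' ⟶ R ⊗ T),
        (∃ z : T' ⟶ Z, z ≫ i = r ≫ (s ▷ T)) ↔ (∃ z : T' ⟶ Z, z ≫ i = r ≫ (t ▷ T))) ∧
      Flat (i ≫ snd U T).left ∧ Surjective (i ≫ snd U T).left ∧
      QuasiCompact (i ≫ snd U T).left ∧
      (∀ (T' : Over S) (z₁ z₂ : T' ⟶ Z), z₁ ≫ i ≫ snd U T = z₂ ≫ i ≫ snd U T →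
        ∃ r : T' ⟶ R, r ≫ s = z₁ ≫ i ≫ fst U T ∧ r ≫ t = z₂ ≫ i ≫ fst U T) ∧
      QuotSh.repMap Scheme.fpqcPrecoverage (i ≫ fst U T) ≫
          QuotSh.quotπ Scheme.fpqcPrecoverage s t =
        QuotSh.repMap Scheme.fpqcPrecoverage (i ≫ snd U T) ≫ σ) ∧
    (∀ (Z Z' : Over S) (i : Z ⟶ U ⊗ T) (i' : Z' ⟶ U ⊗ T),
      P i.left → P i'.left →
      (∀ (T' : Over S) (r : T' ⟶ R ⊗ T),
        (∃ z : T' ⟶ Z, z ≫ i = r ≫ (s ▷ T)) ↔ (∃ z : T' ⟶ Z, z ≫ i = r ≫ (t ▷ T))) →
      (∀ (T' : Over S) (r : T' ⟶ R ⊗ T),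
        (∃ z : T' ⟶ Z', z ≫ i' = r ≫ (s ▷ T)) ↔ (∃ z : T' ⟶ Z', z ≫ i' = r ≫ (t ▷ T))) →
      Flat (i ≫ snd U T).left → Surjective (i ≫ snd U T).left →
      QuasiCompact (i ≫ snd U T).left →
      Flat (i' ≫ snd U T).left → Surjective (i' ≫ snd U T).left →
      QuasiCompact (i' ≫ snd U T).left →
      (∀ (T' : Over S) (z₁ z₂ : T' ⟶ Z), z₁ ≫ i ≫ snd U T = z₂ ≫ i ≫ snd U T →
        ∃ r : T' ⟶ R, r ≫ s = z₁ ≫ i ≫ fst U T ∧ r ≫ t = z₂ ≫ i ≫ fst U T) →
      (∀ (T' : Over S) (z₁ z₂ : T' ⟶ Z'), z₁ ≫ i' ≫ snd U T = z₂ ≫ i' ≫ snd U T →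
        ∃ r : T' ⟶ R, r ≫ s = z₁ ≫ i' ≫ fst U T ∧ r ≫ t = z₂ ≫ i' ≫ fst U T) →
      QuotSh.repMap Scheme.fpqcPrecoverage (i ≫ fst U T) ≫
          QuotSh.quotπ Scheme.fpqcPrecoverage s t =
        QuotSh.repMap Scheme.fpqcPrecoverage (i ≫ snd U T) ≫ σ →
      QuotSh.repMap Scheme.fpqcPrecoverage (i' ≫ fst U T) ≫
          QuotSh.quotπ Scheme.fpqcPrecoverage s t =
        QuotSh.repMap Scheme.fpqcPrecoverage (i' ≫ snd U T) ≫ σ →
      ∃ e : Z ≅ Z', e.hom ≫ i' = i) := by
  obtain ⟨e⟩ := IsEquivalenceRelation.nonempty_equivalenceRelation (p₁ := s) (p₂ := t)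
  constructor
  · obtain ⟨Z, i, hPi, hi⟩ := exists_isGraph Scheme.fpqcPrecoverage P hPmono heff e hc σ
    haveI : Mono i := by
      haveI : Mono i.left := hPmono _ hPi
      exact Over.mono_of_mono_left i
    refine ⟨Z, i, hPi, fun T' r => hi.stable e r, ?_, ?_, ?_, fun T' z₁ z₂ h => hi.exact e z₁ z₂ h,
      hi.compat⟩
    · exact hi.descends e @Flat Groth.Agent.Lib.Helper12.descendsAlong_flat inferInstance
    · exact hi.descends e @Surjective inferInstance inferInstance
    · exact hi.descends e @QuasiCompact Groth.Agent.Lib.Helper12.descendsAlong_quasiCompact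
        inferInstance
  · intro Z Z' i i' hPi hPi' hst hst' hF hS hQ hF' hS' hQ' _ _ hcp hcp'
    haveI : Mono i := by
      haveI : Mono i.left := hPmono _ hPi
      exact Over.mono_of_mono_left i
    haveI : Mono i' := by
      haveI : Mono i'.left := hPmono _ hPi'
      exact Over.mono_of_mono_left i'
    have hg : IsGraph Scheme.fpqcPrecoverage s t σ i :=
      isGraph_of_props e (fun T' r => (hst T' r).1)
        (generate_singleton_mem_J Scheme.fpqcPrecoverage (i ≫ snd U T)
          (Scheme.Hom.singleton_mem_fpqcPrecoverage _)) hcp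
    have hg' : IsGraph Scheme.fpqcPrecoverage s t σ i' :=
      isGraph_of_props e (fun T' r => (hst' T' r).1)
        (generate_singleton_mem_J Scheme.fpqcPrecoverage (i' ≫ snd U T)
          (Scheme.Hom.singleton_mem_fpqcPrecoverage _)) hcp'
    exact hg.exists_iso hg'

end Main

end Groth.Agent.Lib.Helper11.QuotPts
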