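import Mathlib
import Groth.Agent.Lib.Helper11QuotPtsD

/-!
# Helper11QuotPtsE: the fppf quotient sheaf of an equivalence relation with closed graph is an
fpqc sheaf
-/

set_option autoImplicit false
universe u

open CategoryTheory Limits AlgebraicGeometry Opposite MonoidalCategory CartesianMonoidalCategory
open Groth.Agent.Lib.Helper9 Groth.Agent.Lib.Helper12.QuotShLib

namespace Groth.Agent.Lib.Helper11.QuotPts

section Pt

variable (K : Precoverage Scheme.{u}) {S : Scheme.{u}} [(QuotSh.J K S).Subcanonical]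
  {R U : Over S} (s t : R ⟶ U)

/-- The point of `U/R` attached to a point of `U`. -/
noncomputable def pt {T : Over S} (u : T ⟶ U) : (QuotSh.quot K s t).obj.obj (op T) :=
  sec K (QuotSh.repMap K u ≫ QuotSh.quotπ K s t)

lemma map_pt {T V : Over S} (g : V ⟶ T) (u : T ⟶ U) :
    (QuotSh.quot K s t).obj.map g.op (pt K s t u) = pt K s t (g ≫ u) := by
  rw [pt, pt, ← sec_repMap_comp, ← Category.assoc, ← repMap_comp]

lemma pt_eq_iff [IsEquivalenceRelation s t] {T : Over S} (u u' : T ⟶ U) :
    pt K s t u = pt K s t u' ↔ Rel s t u u' := by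
  rw [rel_iff_eq K s t, pt, pt, (sec K).apply_eq_iff_eq]

/-- every section of `U/R` is locally a point of `U` -/
lemma ptSieve_mem {T : Over S} (x : (QuotSh.quot K s t).obj.obj (op T)) :
    ∃ Sv : Sieve T, Sv ∈ QuotSh.J K S T ∧ ∀ ⦃V : Over S⦄ (g : V ⟶ T), Sv g →
      ∃ u : V ⟶ U, (QuotSh.quot K s t).obj.map g.op x = pt K s t u := by
  refine ⟨liftSieve K s t ((sec K).symm x), liftSieve_mem K s t _, ?_⟩
  rintro V g ⟨u, hu⟩
  refine ⟨u, ?_⟩
  rw [pt, hu, sec_repMap_comp, Equiv.apply_symm_apply]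

end Pt

section Compare

variable {S : Scheme.{u}} {R U : Over S} (s t : R ⟶ U)

lemma J_fppf_le_fpqc :
    QuotSh.J Scheme.fppfPrecoverage S ≤ QuotSh.J Scheme.fpqcPrecoverage S := by
  intro T Sv h
  rw [GrothendieckTopology.mem_over_iff] at h ⊢
  exact Scheme.fppfTopology_le_fpqcTopology _ h

/-- The fpqc quotient sheaf regarded as an fppf sheaf. -/
noncomputable def quotQ : QuotSh.Sh Scheme.fppfPrecoverage S :=
  ⟨(QuotSh.quot Scheme.fpqcPrecoverage s t).obj,
    (isSheaf_iff_isSheaf_of_type _ _).2 (Presieve.isSheaf_of_le _ J_fppf_le_fpqc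
      ((isSheaf_iff_isSheaf_of_type _ _).1 (QuotSh.quot Scheme.fpqcPrecoverage s t).2))⟩

/-- The projection from `h_U` to the fpqc quotient, as a map of fppf sheaves. -/
noncomputable def quotQπ : QuotSh.rep Scheme.fppfPrecoverage U ⟶ quotQ s t :=
  (sec Scheme.fppfPrecoverage).symm (pt Scheme.fpqcPrecoverage s t (𝟙 U))

lemma sec_comp_quotQπ {T : Over S} (u : T ⟶ U) :
    sec Scheme.fppfPrecoverage (QuotSh.repMap Scheme.fppfPrecoverage u ≫ quotQπ s t) =
      pt Scheme.fpqcPrecoverage s t u := by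
  rw [sec_repMap_comp, quotQπ, Equiv.apply_symm_apply]
  have := map_pt Scheme.fpqcPrecoverage s t u (𝟙 U)
  rw [Category.comp_id] at this
  exact this

lemma quotQπ_condition :
    QuotSh.repMap Scheme.fppfPrecoverage s ≫ quotQπ s t =
      QuotSh.repMap Scheme.fppfPrecoverage t ≫ quotQπ s t := by
  apply (sec Scheme.fppfPrecoverage).injective
  rw [sec_comp_quotQπ, sec_comp_quotQπ, pt, pt, QuotSh.quot_condition]

/-- The comparison map from the fppf quotient to the fpqc quotient. -/
noncomputable def cmp : QuotSh.quot Scheme.fppfPrecoverage s t ⟶ quotQ s t :=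
  coequalizer.desc (quotQπ s t) (quotQπ_condition s t)

lemma quotπ_cmp : QuotSh.quotπ Scheme.fppfPrecoverage s t ≫ cmp s t = quotQπ s t :=
  coequalizer.π_desc _ _

lemma cmp_pt {T : Over S} (u : T ⟶ U) :
    (cmp s t).hom.app (op T) (pt Scheme.fppfPrecoverage s t u) =
      pt Scheme.fpqcPrecoverage s t u := by
  rw [pt, ← sec_comp, Category.assoc, quotπ_cmp, sec_comp_quotQπ]

lemma cmp_naturality {T V : Over S} (g : V ⟶ T)
    (x : (QuotSh.quot Scheme.fppfPrecoverage s t).obj.obj (op T)) :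
    (cmp s t).hom.app (op V) ((QuotSh.quot Scheme.fppfPrecoverage s t).obj.map g.op x) =
      (QuotSh.quot Scheme.fpqcPrecoverage s t).obj.map g.op ((cmp s t).hom.app (op T) x) := by
  have := (cmp s t).hom.naturality g.op
  exact ConcreteCategory.congr_hom this x

variable [IsEquivalenceRelation s t]

lemma cmp_injective (T : Over S) : Function.Injective ((cmp s t).hom.app (op T)) := by
  intro x₁ x₂ h
  obtain ⟨Sv₁, hSv₁, h₁⟩ := ptSieve_mem Scheme.fppfPrecoverage s t x₁
  obtain ⟨Sv₂, hSv₂, h₂⟩ := ptSieve_mem Scheme.fppfPrecoverage s t x₂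
  have hF : Presieve.IsSheaf (QuotSh.J Scheme.fppfPrecoverage S)
      (QuotSh.quot Scheme.fppfPrecoverage s t).obj :=
    (isSheaf_iff_isSheaf_of_type _ _).1 (QuotSh.quot Scheme.fppfPrecoverage s t).2
  refine (hF (Sv₁ ⊓ Sv₂) ((QuotSh.J Scheme.fppfPrecoverage S).intersection_covering hSv₁
    hSv₂)).isSeparatedFor.ext ?_
  rintro V g ⟨hg₁, hg₂⟩
  obtain ⟨u₁, hu₁⟩ := h₁ g hg₁
  obtain ⟨u₂, hu₂⟩ := h₂ g hg₂
  rw [hu₁, hu₂, pt_eq_iff, ← pt_eq_iff Scheme.fpqcPrecoverage, ← cmp_pt, ← cmp_pt, ← hu₁, ← hu₂,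
    cmp_naturality, cmp_naturality, h]

lemma cmp_surjective [Flat s.left] [Surjective s.left] [LocallyOfFinitePresentation s.left]
    (hc : IsClosedImmersion (lift t s).left) (T : Over S) :
    Function.Surjective ((cmp s t).hom.app (op T)) := by
  intro x'
  obtain ⟨e⟩ := IsEquivalenceRelation.nonempty_equivalenceRelation (p₁ := s) (p₂ := t)
  obtain ⟨σ', hσ'⟩ : ∃ σ', σ' = (sec Scheme.fpqcPrecoverage).symm x' := ⟨_, rfl⟩
  obtain ⟨Z, i, hPi, hi⟩ := exists_isGraph Scheme.fpqcPrecoverage @IsClosedImmersion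
    (fun X Y f hf => by haveI := hf; infer_instance) effDesc_isClosedImmersion e hc σ'
  haveI : Mono i := by
    haveI : IsClosedImmersion i.left := hPi
    exact Over.mono_of_mono_left i
  haveI hflat : Flat (i ≫ snd U T).left :=
    hi.descends e @Flat Groth.Agent.Lib.Helper12.descendsAlong_flat inferInstance
  haveI hsurj : Surjective (i ≫ snd U T).left :=
    hi.descends e @Surjective inferInstance inferInstance
  haveI hlfp : LocallyOfFinitePresentation (i ≫ snd U T).left :=
    hi.descends e @LocallyOfFinitePresentation inferInstance inferInstance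
  obtain ⟨σ, hσ, -⟩ := existsUnique_quotSection s t (i ≫ fst U T) (i ≫ snd U T)
    (fun T' z₁ z₂ h => by
      have := hi.exact e z₁ z₂ h
      exact this)
  refine ⟨sec Scheme.fppfPrecoverage σ, ?_⟩
  have hF' : Presieve.IsSheaf (QuotSh.J Scheme.fpqcPrecoverage S)
      (QuotSh.quot Scheme.fpqcPrecoverage s t).obj :=
    (isSheaf_iff_isSheaf_of_type _ _).1 (QuotSh.quot Scheme.fpqcPrecoverage s t).2
  have hcov : Sieve.generate (Presieve.singleton (i ≫ snd U T)) ∈
      QuotSh.J Scheme.fpqcPrecoverage S T :=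
    generate_singleton_mem_J Scheme.fpqcPrecoverage _
      (Scheme.fppfPrecoverage_le_fpqcPrecoverage _ (Scheme.Hom.singleton_mem_fppfPrecoverage _))
  refine (hF' _ hcov).isSeparatedFor.ext ?_
  rintro V g ⟨W, h, p', ⟨⟩, rfl⟩
  have hcp := hi.compat
  have h1 : (QuotSh.quot Scheme.fpqcPrecoverage s t).obj.map (h ≫ i ≫ snd U T).op
      ((cmp s t).hom.app (op T) (sec Scheme.fppfPrecoverage σ)) =
      pt Scheme.fpqcPrecoverage s t (h ≫ i ≫ fst U T) := by
    rw [← cmp_naturality, ← sec_repMap_comp, repMap_comp, Category.assoc, ← hσ, ← Category.assoc,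
      ← repMap_comp, ← cmp_pt]
    rfl
  have h2 : (QuotSh.quot Scheme.fpqcPrecoverage s t).obj.map (h ≫ i ≫ snd U T).op x' =
      pt Scheme.fpqcPrecoverage s t (h ≫ i ≫ fst U T) := by
    have hx' : x' = sec Scheme.fpqcPrecoverage σ' := by rw [hσ', Equiv.apply_symm_apply]
    rw [hx', ← sec_repMap_comp, repMap_comp, Category.assoc, ← hcp, ← Category.assoc,
      ← repMap_comp]
    rfl
  exact h1.trans h2.symm

/-- The comparison map is an isomorphism of presheaves. -/
theorem isIso_cmp_hom [Flat s.left] [Surjective s.left] [LocallyOfFinitePresentation s.left]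
    (hc : IsClosedImmersion (lift t s).left) : IsIso (cmp s t).hom := by
  haveI : ∀ X, IsIso ((cmp s t).hom.app X) := by
    intro X
    rw [isIso_iff_bijective]
    exact ⟨cmp_injective s t X.unop, cmp_surjective s t hc X.unop⟩
  exact NatIso.isIso_of_isIso_app _

/-- The fppf quotient sheaf of an equivalence relation with closed graph is an fpqc sheaf. -/
theorem isSheaf_fpqc_quot_fppf [Flat s.left] [Surjective s.left]
    [LocallyOfFinitePresentation s.left] (hc : IsClosedImmersion (lift t s).left) :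
    Presheaf.IsSheaf (QuotSh.J Scheme.fpqcPrecoverage S)
      (QuotSh.quot Scheme.fppfPrecoverage s t).obj := by
  haveI := isIso_cmp_hom s t hc
  exact (Presheaf.isSheaf_of_iso_iff (asIso (cmp s t).hom)).2
    (QuotSh.quot Scheme.fpqcPrecoverage s t).2

end Compare

end Groth.Agent.Lib.Helper11.QuotPts
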