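import Mathlib
import Groth.Agent.Lib.Helper11Avoid
import Groth.Agent.Lib.Helper11AvoidLoc

/-!
# Linear combinations of generating sections avoiding finitely many points (helper11)

Namespace `Groth.Agent.Lib.Helper11.RegSec`.

* `exists_comb` : `R` a local ring with infinite residue field acting on `X` through `φ : R →+* Γ(X, ⊤)`, `L` invertible,
  `σ i` finitely many sections generating `L`, `Z` a finite set of points: some `R`-linear combination of the
  `σ i` generates `L` at every point of `Z`.
-/

set_option autoImplicit false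
universe u
open CategoryTheory CategoryTheory.Limits AlgebraicGeometry TopologicalSpace Opposite

namespace Groth.Agent.Lib.Helper11.RegSec
open Groth.Agent.Lib.Helper23.SecTw Groth.Agent.Lib.Helper23.GenLocus Groth.Agent.Lib.Helper6
open Groth.Agent.Lib.Helper11.Avoid

variable {X : Scheme.{u}}

section ring

variable {R : Type*} [CommRing R] (φ : R →+* Γ(X, ⊤))

/-- the `R`-submodule of global sections vanishing at `x`. -/
noncomputable def nvanR (L : X.Modules) {W : X.Opens} {e : Γ(L, W)} (he : IsGen L W e) (x : X) (hx : x ∈ W) :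
    letI : Module R Γ(L, ⊤) := Module.compHom _ φ
    Submodule R Γ(L, ⊤) :=
  letI : Module R Γ(L, ⊤) := Module.compHom _ φ
  { carrier := {m | X.evaluation W x hx (coef he le_rfl (res L le_top m)) = 0}
    add_mem' := by
      intro a b ha hb
      simp only [Set.mem_ofPred_eq] at ha hb ⊢
      rw [res_add', coef_add, map_add, ha, hb, add_zero]
    zero_mem' := by
      simp only [Set.mem_ofPred_eq]
      have h0 : coef he le_rfl (res L le_top (0 : Γ(L, ⊤))) = 0 := by
        refine (coef_unique he le_rfl _ 0 ?_).symm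
        rw [zero_smul, res_zero]
      rw [h0, map_zero]
    smul_mem' := by
      intro c a ha
      simp only [Set.mem_ofPred_eq] at ha ⊢
      have h1 : c • a = φ c • a := rfl
      rw [h1, res_smul, coef_smul, map_mul, ha, mul_zero] }

theorem mem_nvanR_iff (L : X.Modules) {W : X.Opens} {e : Γ(L, W)} (he : IsGen L W e) (x : X) (hx : x ∈ W)
    (m : Γ(L, ⊤)) :
    letI : Module R Γ(L, ⊤) := Module.compHom _ φ
    m ∈ nvanR φ L he x hx ↔ x ∉ CohB1.genLocus L (secHom L m) := by
  rw [mem_genLocus_secHom_iff L he x hx m, not_not]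
  rfl

variable [IsLocalRing R]

/-- some `R`-linear combination of generating sections generates at each of finitely many points -/
theorem exists_comb (hR : Infinite (IsLocalRing.ResidueField R)) (L : X.Modules) (hL : PicF.IsInvertible L)
    {n : ℕ} (σ : Fin n → (Coh.structureModule X ⟶ L))
    (hgen : ∀ x : X, ∃ i, x ∈ CohB1.genLocus L (σ i)) (Z : Set X) (hZ : Z.Finite) :
    ∃ a : Fin n → R, ∀ z ∈ Z, z ∈ CohB1.genLocus L (secHom L (∑ i, φ (a i) • sv (σ i) ⊤)) := by
  letI : Module R Γ(L, ⊤) := Module.compHom _ φ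
  haveI : Finite Z := hZ
  let G : (Fin n → R) →ₗ[R] Γ(L, ⊤) := Fintype.linearCombination R (fun i => sv (σ i) ⊤)
  have hG : ∀ a : Fin n → R, G a = ∑ i, φ (a i) • sv (σ i) ⊤ := fun a => rfl
  choose W e hzW he using fun z : Z => exists_gen L hL z.1
  let K : Z → Submodule R (Fin n → R) := fun z => (nvanR φ L (he z) z.1 (hzW z)).comap G
  have hK : ∀ z, K z ≠ ⊤ := by
    intro z hz
    obtain ⟨i, hi⟩ := hgen z.1
    have h1 : (Pi.single i 1 : Fin n → R) ∈ K z := by rw [hz]; trivial
    have h2 : G (Pi.single i 1) ∈ nvanR φ L (he z) z.1 (hzW z) := h1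
    have h3 : G (Pi.single i 1) = sv (σ i) ⊤ := by
      rw [Fintype.linearCombination_apply_single, one_smul]
    rw [h3, mem_nvanR_iff, Groth.Agent.Lib.Helper23.VeryAmple2.secHom_sv] at h2
    exact h2 hi
  obtain ⟨a, ha⟩ := Groth.Agent.Lib.Helper11.AvoidLoc.exists_notMem hR K hK
  refine ⟨a, fun z hz => ?_⟩
  have h1 : G a ∉ nvanR φ L (he ⟨z, hz⟩) z (hzW ⟨z, hz⟩) := ha ⟨z, hz⟩
  rw [mem_nvanR_iff, not_not, hG] at h1
  exact h1

end ring

end Groth.Agent.Lib.Helper11.RegSec
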