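import Mathlib
import Groth.Agent.Lib.Helper1KBC4
set_option backward.isDefEq.respectTransparency.types false

/-!
# The pullback of `O`-modules along a morphism of schemes is monoidal (helper1), part 1
-/

set_option autoImplicit false
set_option linter.style.haveILetI false
universe u
open CategoryTheory CategoryTheory.Limits AlgebraicGeometry TopologicalSpace Opposite
  MonoidalCategory TensorProduct

namespace Groth.Agent.Lib.Helper1.PT

open Groth.Agent.Lib.Helper1.Sky Groth.Agent.Lib.Helper1.StalkTensor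
  Groth.Agent.Lib.Helper21.ModTensor2

variable {X Y : Scheme.{u}} (f : X ⟶ Y)

/-- pushforward -/
noncomputable abbrev psh : X.Modules ⥤ Y.Modules := Scheme.Modules.pushforward f
/-- pullback -/
noncomputable abbrev plb : Y.Modules ⥤ X.Modules := Scheme.Modules.pullback f
/-- the adjunction -/
noncomputable abbrev ppAdj : plb f ⊣ psh f := Scheme.Modules.pullbackPushforwardAdjunction f

variable (M N : X.Modules)

example (V : Y.Opens) : ((toPM ((psh f).obj M)).obj (op V) : Type u) =
  (toPM M).obj (op (f ⁻¹ᵁ V)) := rfl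

/-- the sheaf tensor product -/
noncomputable abbrev tens (M N : X.Modules) : X.Modules := (DCoh.tensorBi.obj M).obj N

example : toPM (tens M N) = toPM (shX.obj (toPM M ⊗ toPM N)) := rfl

lemma psh_smul (V : Y.Opens) (r : Y.presheaf.obj (op V)) (s : (toPM M).obj (op (f ⁻¹ᵁ V))) :
    (r • (show (toPM ((psh f).obj M)).obj (op V) from s)) =
      (show (toPM ((psh f).obj M)).obj (op V) from ((f.app V).hom r • s)) := rfl

/-- the underlying function of `nu` on sections -/
noncomputable def nuFun (V : Y.Opens) (s : (toPM M).obj (op (f ⁻¹ᵁ V)))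
    (t : (toPM N).obj (op (f ⁻¹ᵁ V))) : (toPM (tens M N)).obj (op (f ⁻¹ᵁ V)) :=
  (etaX (toPM M ⊗ toPM N)).app (op (f ⁻¹ᵁ V)) (tm (toPM M) (toPM N) s t)

lemma nuFun_add_left (V : Y.Opens) (s s' : (toPM M).obj (op (f ⁻¹ᵁ V)))
    (t : (toPM N).obj (op (f ⁻¹ᵁ V))) :
    nuFun f M N V (s + s') t = nuFun f M N V s t + nuFun f M N V s' t := by
  unfold nuFun
  rw [tm_add_left, map_add]
  rfl

lemma nuFun_add_right (V : Y.Opens) (s : (toPM M).obj (op (f ⁻¹ᵁ V)))
    (t t' : (toPM N).obj (op (f ⁻¹ᵁ V))) :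
    nuFun f M N V s (t + t') = nuFun f M N V s t + nuFun f M N V s t' := by
  unfold nuFun
  rw [tm_add_right, map_add]
  rfl

lemma nuFun_smul_left (V : Y.Opens) (c : X.presheaf.obj (op (f ⁻¹ᵁ V)))
    (s : (toPM M).obj (op (f ⁻¹ᵁ V))) (t : (toPM N).obj (op (f ⁻¹ᵁ V))) :
    nuFun f M N V (c • s) t = c • nuFun f M N V s t := by
  unfold nuFun
  rw [← smul_tm, map_smul]
  rfl

lemma nuFun_smul_right (V : Y.Opens) (c : X.presheaf.obj (op (f ⁻¹ᵁ V)))
    (s : (toPM M).obj (op (f ⁻¹ᵁ V))) (t : (toPM N).obj (op (f ⁻¹ᵁ V))) :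
    nuFun f M N V s (c • t) = c • nuFun f M N V s t := by
  unfold nuFun
  rw [← tm_smul, ← smul_tm, map_smul]
  rfl

/-- the map on sections over `V` -/
noncomputable def nuApp (V : (Opens Y)ᵒᵖ) :
    (toPM ((psh f).obj M) ⊗ toPM ((psh f).obj N)).obj V ⟶
      (toPM ((psh f).obj (tens M N))).obj V :=
  ModuleCat.MonoidalCategory.tensorLift
    (M₁ := (toPM ((psh f).obj M)).obj V) (M₂ := (toPM ((psh f).obj N)).obj V)
    (M₃ := (toPM ((psh f).obj (tens M N))).obj V)
    (fun s t => nuFun f M N V.unop s t)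
    (fun s s' t => nuFun_add_left f M N V.unop s s' t)
    (fun r s t => nuFun_smul_left f M N V.unop ((f.app V.unop).hom r) s t)
    (fun s t t' => nuFun_add_right f M N V.unop s t t')
    (fun r s t => nuFun_smul_right f M N V.unop ((f.app V.unop).hom r) s t)

lemma nuApp_tmul (V : (Opens Y)ᵒᵖ) (s : (toPM ((psh f).obj M)).obj V)
    (t : (toPM ((psh f).obj N)).obj V) :
    (nuApp f M N V).hom (s ⊗ₜ t) = nuFun f M N V.unop s t := rfl

lemma nuFun_map {V W : Y.Opens} (i : W ⟶ V) (s : (toPM M).obj (op (f ⁻¹ᵁ V)))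
    (t : (toPM N).obj (op (f ⁻¹ᵁ V))) :
    (toPM (tens M N)).map ((Opens.map f.base).map i).op (nuFun f M N V s t) =
      nuFun f M N W ((toPM M).map ((Opens.map f.base).map i).op s)
        ((toPM N).map ((Opens.map f.base).map i).op t) := by
  unfold nuFun
  have h := PresheafOfModules.naturality_apply (etaX (toPM M ⊗ toPM N))
    ((Opens.map f.base).map i).op (tm (toPM M) (toPM N) s t)
  exact h.symm

/-- the lax monoidal structure of the pushforward -/
noncomputable def nu : toPM ((psh f).obj M) ⊗ toPM ((psh f).obj N) ⟶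
    toPM ((psh f).obj (tens M N)) where
  app V := nuApp f M N V
  naturality {V W} i := ModuleCat.MonoidalCategory.tensor_ext (fun s t => by
    exact (nuFun_map f M N i.unop s t).symm)

lemma nu_app_tmul (V : (Opens Y)ᵒᵖ) (s : (toPM ((psh f).obj M)).obj V)
    (t : (toPM ((psh f).obj N)).obj V) :
    ((nu f M N).app V).hom (s ⊗ₜ t) = nuFun f M N V.unop s t := rfl

variable {M N}

lemma etaX_app_whiskerRight {M' : X.Modules} (g : M ⟶ M') (N : X.Modules) (U : X.Opens)
    (τ : (toPM M ⊗ toPM N).obj (op U)) :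
    (toPMMap ((DCoh.tensorBi.map g).app N)).app (op U) ((etaX (toPM M ⊗ toPM N)).app (op U) τ) =
      (etaX (toPM M' ⊗ toPM N)).app (op U) ((toPMMap g ▷ toPM N).app (op U) τ) := by
  have h := etaX_naturality (toPMMap g ▷ toPM N)
  have h2 := congrArg (fun φ => (φ.app (op U)).hom τ) h
  exact h2.symm

lemma etaX_app_whiskerLeft (M : X.Modules) {N N' : X.Modules} (g : N ⟶ N') (U : X.Opens)
    (τ : (toPM M ⊗ toPM N).obj (op U)) :
    (toPMMap ((DCoh.tensorBi.obj M).map g)).app (op U) ((etaX (toPM M ⊗ toPM N)).app (op U) τ) =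
      (etaX (toPM M ⊗ toPM N')).app (op U) ((toPM M ◁ toPMMap g).app (op U) τ) := by
  have h := etaX_naturality (toPM M ◁ toPMMap g)
  have h2 := congrArg (fun φ => (φ.app (op U)).hom τ) h
  exact h2.symm

lemma nu_naturality_left {M M' : X.Modules} (g : M ⟶ M') (N : X.Modules) :
    (toPMMap ((psh f).map g) ▷ toPM ((psh f).obj N)) ≫ nu f M' N =
      nu f M N ≫ toPMMap ((psh f).map ((DCoh.tensorBi.map g).app N)) := by
  apply PresheafOfModules.hom_ext
  intro V
  apply ModuleCat.MonoidalCategory.tensor_ext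
  intro s t
  change nuFun f M' N V.unop ((toPMMap g).app (op (f ⁻¹ᵁ V.unop)) s) t =
    (toPMMap ((DCoh.tensorBi.map g).app N)).app (op (f ⁻¹ᵁ V.unop)) (nuFun f M N V.unop s t)
  unfold nuFun
  rw [etaX_app_whiskerRight, whiskerRight_app_tm]

lemma nu_naturality_right (M : X.Modules) {N N' : X.Modules} (g : N ⟶ N') :
    (toPM ((psh f).obj M) ◁ toPMMap ((psh f).map g)) ≫ nu f M N' =
      nu f M N ≫ toPMMap ((psh f).map ((DCoh.tensorBi.obj M).map g)) := by
  apply PresheafOfModules.hom_ext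
  intro V
  apply ModuleCat.MonoidalCategory.tensor_ext
  intro s t
  change nuFun f M N' V.unop s ((toPMMap g).app (op (f ⁻¹ᵁ V.unop)) t) =
    (toPMMap ((DCoh.tensorBi.obj M).map g)).app (op (f ⁻¹ᵁ V.unop)) (nuFun f M N V.unop s t)
  unfold nuFun
  rw [etaX_app_whiskerLeft, whiskerLeft_app_tm]

end Groth.Agent.Lib.Helper1.PT
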