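import Mathlib
import Groth.Agent.Lib.Helper1PT1
set_option backward.isDefEq.respectTransparency.types false

/-!
# The pullback of `O`-modules along a morphism of schemes is monoidal (helper1), part 2:
the comparison map `f^*(A ⊗ B) ⟶ f^*A ⊗ f^*B` and its naturality
-/

set_option autoImplicit false
set_option linter.style.haveILetI false
universe u
open CategoryTheory CategoryTheory.Limits AlgebraicGeometry TopologicalSpace Opposite
  MonoidalCategory TensorProduct

namespace Groth.Agent.Lib.Helper1.PT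

open Groth.Agent.Lib.Helper1.Sky Groth.Agent.Lib.Helper1.StalkTensor
  Groth.Agent.Lib.Helper21.ModTensor2

variable {X Y : Scheme.{u}} (f : X ⟶ Y)

/-- the unit of the adjunction -/
noncomputable abbrev un (A : Y.Modules) : A ⟶ (psh f).obj ((plb f).obj A) := (ppAdj f).unit.app A

variable (A B : Y.Modules)

/-- the comparison map, on presheaves over `Y` -/
noncomputable def dP : toPM A ⊗ toPM B ⟶
    toPM ((psh f).obj (tens ((plb f).obj A) ((plb f).obj B))) :=
  (toPMMap (un f A) ⊗ₘ toPMMap (un f B)) ≫ nu f ((plb f).obj A) ((plb f).obj B)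

/-- the comparison map, adjoint form -/
noncomputable def deltaFlat : tens A B ⟶ (psh f).obj (tens ((plb f).obj A) ((plb f).obj B)) :=
  ((adj Y.sheaf).homEquiv (toPM A ⊗ toPM B)
    ((psh f).obj (tens ((plb f).obj A) ((plb f).obj B)))).symm (dP f A B)

/-- the comparison map `f^*(A ⊗ B) ⟶ f^*A ⊗ f^*B` -/
noncomputable def delta : (plb f).obj (tens A B) ⟶ tens ((plb f).obj A) ((plb f).obj B) :=
  ((ppAdj f).homEquiv _ _).symm (deltaFlat f A B)

lemma etaX_deltaFlat :
    etaX (toPM A ⊗ toPM B) ≫ toPMMap (deltaFlat f A B) = dP f A B := by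
  have h := (adj Y.sheaf).homEquiv_unit (X := toPM A ⊗ toPM B)
    (Y := (psh f).obj (tens ((plb f).obj A) ((plb f).obj B))) (f := deltaFlat f A B)
  have h2 : (adj Y.sheaf).homEquiv _ _ (deltaFlat f A B) = dP f A B :=
    Equiv.apply_symm_apply _ _
  exact h.symm.trans h2

lemma un_delta : un f (tens A B) ≫ (psh f).map (delta f A B) = deltaFlat f A B := by
  have h := (ppAdj f).homEquiv_unit (X := tens A B)
    (Y := tens ((plb f).obj A) ((plb f).obj B)) (f := delta f A B)
  have h2 : (ppAdj f).homEquiv _ _ (delta f A B) = deltaFlat f A B :=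
    Equiv.apply_symm_apply _ _
  exact h.symm.trans h2

variable {A B}

lemma toPMMap_un_naturality {A A' : Y.Modules} (φ : A ⟶ A') :
    toPMMap φ ≫ toPMMap (un f A') =
      toPMMap (un f A) ≫ toPMMap ((psh f).map ((plb f).map φ)) := by
  have h := (ppAdj f).unit.naturality φ
  exact congrArg (fun g => toPMMap g) h

lemma dP_naturality_left {A A' : Y.Modules} (φ : A ⟶ A') (B : Y.Modules) :
    (toPMMap φ ▷ toPM B) ≫ dP f A' B = dP f A B ≫
      toPMMap ((psh f).map ((DCoh.tensorBi.map ((plb f).map φ)).app ((plb f).obj B))) := by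
  unfold dP
  rw [Category.assoc, ← nu_naturality_left, ← tensorHom_id, ← tensorHom_id,
    ← Category.assoc, ← Category.assoc, tensorHom_comp_tensorHom, tensorHom_comp_tensorHom,
    toPMMap_un_naturality, Category.id_comp, Category.comp_id]

lemma dP_naturality_right (A : Y.Modules) {B B' : Y.Modules} (φ : B ⟶ B') :
    (toPM A ◁ toPMMap φ) ≫ dP f A B' = dP f A B ≫
      toPMMap ((psh f).map ((DCoh.tensorBi.obj ((plb f).obj A)).map ((plb f).map φ))) := by
  unfold dP
  rw [Category.assoc, ← nu_naturality_right, ← id_tensorHom, ← id_tensorHom,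
    ← Category.assoc, ← Category.assoc, tensorHom_comp_tensorHom, tensorHom_comp_tensorHom,
    toPMMap_un_naturality, Category.id_comp, Category.comp_id]

lemma shX_hom_ext {T : PMod Y.presheaf} {G : Y.Modules} (g₁ g₂ : shX.obj T ⟶ G)
    (h : etaX T ≫ toPMMap g₁ = etaX T ≫ toPMMap g₂) : g₁ = g₂ := by
  apply ((adj Y.sheaf).homEquiv T G).injective
  have h1 := (adj Y.sheaf).homEquiv_unit (X := T) (Y := G) (f := g₁)
  have h2 := (adj Y.sheaf).homEquiv_unit (X := T) (Y := G) (f := g₂)
  exact h1.trans (h.trans h2.symm)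

lemma plb_hom_ext {A : Y.Modules} {M : X.Modules} (g₁ g₂ : (plb f).obj A ⟶ M)
    (h : un f A ≫ (psh f).map g₁ = un f A ≫ (psh f).map g₂) : g₁ = g₂ := by
  apply ((ppAdj f).homEquiv A M).injective
  have h1 := (ppAdj f).homEquiv_unit (X := A) (Y := M) (f := g₁)
  have h2 := (ppAdj f).homEquiv_unit (X := A) (Y := M) (f := g₂)
  exact h1.trans (h.trans h2.symm)

lemma deltaFlat_naturality_left {A A' : Y.Modules} (φ : A ⟶ A') (B : Y.Modules) :
    (DCoh.tensorBi.map φ).app B ≫ deltaFlat f A' B = deltaFlat f A B ≫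
      (psh f).map ((DCoh.tensorBi.map ((plb f).map φ)).app ((plb f).obj B)) := by
  apply shX_hom_ext (T := toPM A ⊗ toPM B)
  have h1 : etaX (toPM A ⊗ toPM B) ≫ toPMMap ((DCoh.tensorBi.map φ).app B ≫ deltaFlat f A' B) =
      (toPMMap φ ▷ toPM B) ≫ dP f A' B := by
    have e1 := etaX_naturality (toPMMap φ ▷ toPM B)
    have e2 := etaX_deltaFlat f A' B
    calc etaX (toPM A ⊗ toPM B) ≫ toPMMap ((DCoh.tensorBi.map φ).app B ≫ deltaFlat f A' B)
        = (etaX (toPM A ⊗ toPM B) ≫ toPMMap (shX.map (toPMMap φ ▷ toPM B))) ≫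
            toPMMap (deltaFlat f A' B) := (Category.assoc _ _ _).symm
      _ = ((toPMMap φ ▷ toPM B) ≫ etaX (toPM A' ⊗ toPM B)) ≫ toPMMap (deltaFlat f A' B) := by
          rw [e1]
      _ = (toPMMap φ ▷ toPM B) ≫ dP f A' B := by rw [Category.assoc, e2]
  have h2 : etaX (toPM A ⊗ toPM B) ≫ toPMMap (deltaFlat f A B ≫
      (psh f).map ((DCoh.tensorBi.map ((plb f).map φ)).app ((plb f).obj B))) =
      dP f A B ≫ toPMMap ((psh f).map ((DCoh.tensorBi.map ((plb f).map φ)).app ((plb f).obj B))) := by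
    have e2 := etaX_deltaFlat f A B
    calc _ = (etaX (toPM A ⊗ toPM B) ≫ toPMMap (deltaFlat f A B)) ≫ toPMMap ((psh f).map
            ((DCoh.tensorBi.map ((plb f).map φ)).app ((plb f).obj B))) := (Category.assoc _ _ _).symm
      _ = _ := by rw [e2]
  exact h1.trans ((dP_naturality_left f φ B).trans h2.symm)

lemma deltaFlat_naturality_right (A : Y.Modules) {B B' : Y.Modules} (φ : B ⟶ B') :
    (DCoh.tensorBi.obj A).map φ ≫ deltaFlat f A B' = deltaFlat f A B ≫
      (psh f).map ((DCoh.tensorBi.obj ((plb f).obj A)).map ((plb f).map φ)) := by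
  apply shX_hom_ext (T := toPM A ⊗ toPM B)
  have h1 : etaX (toPM A ⊗ toPM B) ≫ toPMMap ((DCoh.tensorBi.obj A).map φ ≫ deltaFlat f A B') =
      (toPM A ◁ toPMMap φ) ≫ dP f A B' := by
    have e1 := etaX_naturality (toPM A ◁ toPMMap φ)
    have e2 := etaX_deltaFlat f A B'
    calc etaX (toPM A ⊗ toPM B) ≫ toPMMap ((DCoh.tensorBi.obj A).map φ ≫ deltaFlat f A B')
        = (etaX (toPM A ⊗ toPM B) ≫ toPMMap (shX.map (toPM A ◁ toPMMap φ))) ≫
            toPMMap (deltaFlat f A B') := (Category.assoc _ _ _).symm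
      _ = ((toPM A ◁ toPMMap φ) ≫ etaX (toPM A ⊗ toPM B')) ≫ toPMMap (deltaFlat f A B') := by
          rw [e1]
      _ = (toPM A ◁ toPMMap φ) ≫ dP f A B' := by rw [Category.assoc, e2]
  have h2 : etaX (toPM A ⊗ toPM B) ≫ toPMMap (deltaFlat f A B ≫
      (psh f).map ((DCoh.tensorBi.obj ((plb f).obj A)).map ((plb f).map φ))) =
      dP f A B ≫ toPMMap ((psh f).map ((DCoh.tensorBi.obj ((plb f).obj A)).map ((plb f).map φ))) := by
    have e2 := etaX_deltaFlat f A B
    calc _ = (etaX (toPM A ⊗ toPM B) ≫ toPMMap (deltaFlat f A B)) ≫ toPMMap ((psh f).map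
            ((DCoh.tensorBi.obj ((plb f).obj A)).map ((plb f).map φ))) := (Category.assoc _ _ _).symm
      _ = _ := by rw [e2]
  exact h1.trans ((dP_naturality_right f A φ).trans h2.symm)

lemma delta_naturality_left {A A' : Y.Modules} (φ : A ⟶ A') (B : Y.Modules) :
    (plb f).map ((DCoh.tensorBi.map φ).app B) ≫ delta f A' B =
      delta f A B ≫ (DCoh.tensorBi.map ((plb f).map φ)).app ((plb f).obj B) := by
  apply plb_hom_ext
  have hn : un f (tens A B) ≫ (psh f).map ((plb f).map ((DCoh.tensorBi.map φ).app B)) =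
      (DCoh.tensorBi.map φ).app B ≫ un f (tens A' B) :=
    ((ppAdj f).unit.naturality ((DCoh.tensorBi.map φ).app B)).symm
  calc un f (tens A B) ≫ (psh f).map ((plb f).map ((DCoh.tensorBi.map φ).app B) ≫ delta f A' B)
      = (un f (tens A B) ≫ (psh f).map ((plb f).map ((DCoh.tensorBi.map φ).app B))) ≫
          (psh f).map (delta f A' B) := by rw [Functor.map_comp, Category.assoc]
    _ = ((DCoh.tensorBi.map φ).app B ≫ un f (tens A' B)) ≫ (psh f).map (delta f A' B) := by
          rw [hn]
    _ = (DCoh.tensorBi.map φ).app B ≫ deltaFlat f A' B := by rw [Category.assoc, un_delta]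
    _ = deltaFlat f A B ≫
          (psh f).map ((DCoh.tensorBi.map ((plb f).map φ)).app ((plb f).obj B)) :=
        deltaFlat_naturality_left f φ B
    _ = (un f (tens A B) ≫ (psh f).map (delta f A B)) ≫
          (psh f).map ((DCoh.tensorBi.map ((plb f).map φ)).app ((plb f).obj B)) := by
          rw [un_delta]
    _ = _ := by rw [Functor.map_comp, Category.assoc]

lemma delta_naturality_right (A : Y.Modules) {B B' : Y.Modules} (φ : B ⟶ B') :
    (plb f).map ((DCoh.tensorBi.obj A).map φ) ≫ delta f A B' =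
      delta f A B ≫ (DCoh.tensorBi.obj ((plb f).obj A)).map ((plb f).map φ) := by
  apply plb_hom_ext
  have hn : un f (tens A B) ≫ (psh f).map ((plb f).map ((DCoh.tensorBi.obj A).map φ)) =
      (DCoh.tensorBi.obj A).map φ ≫ un f (tens A B') :=
    ((ppAdj f).unit.naturality ((DCoh.tensorBi.obj A).map φ)).symm
  calc un f (tens A B) ≫ (psh f).map ((plb f).map ((DCoh.tensorBi.obj A).map φ) ≫ delta f A B')
      = (un f (tens A B) ≫ (psh f).map ((plb f).map ((DCoh.tensorBi.obj A).map φ))) ≫
          (psh f).map (delta f A B') := by rw [Functor.map_comp, Category.assoc]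
    _ = ((DCoh.tensorBi.obj A).map φ ≫ un f (tens A B')) ≫ (psh f).map (delta f A B') := by
          rw [hn]
    _ = (DCoh.tensorBi.obj A).map φ ≫ deltaFlat f A B' := by rw [Category.assoc, un_delta]
    _ = deltaFlat f A B ≫
          (psh f).map ((DCoh.tensorBi.obj ((plb f).obj A)).map ((plb f).map φ)) :=
        deltaFlat_naturality_right f A φ
    _ = (un f (tens A B) ≫ (psh f).map (delta f A B)) ≫
          (psh f).map ((DCoh.tensorBi.obj ((plb f).obj A)).map ((plb f).map φ)) := by
          rw [un_delta]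
    _ = _ := by rw [Functor.map_comp, Category.assoc]

end Groth.Agent.Lib.Helper1.PT
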