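import Mathlib
import Groth.Agent.Lib.Helper1PT2
set_option backward.isDefEq.respectTransparency.types false

/-!
# The pullback of `O`-modules along a morphism of schemes is monoidal (helper1), part 3:
the stalk of a pullback on pulled back sections
-/

set_option autoImplicit false
set_option linter.style.haveILetI false
universe u
open CategoryTheory CategoryTheory.Limits AlgebraicGeometry TopologicalSpace Opposite
  MonoidalCategory TensorProduct

namespace Groth.Agent.Lib.Helper1.PT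

open Groth.Agent.Lib.Helper1.Sky Groth.Agent.Lib.Helper1.StalkTensor
  Groth.Agent.Lib.Helper21.ModTensor2 Groth.Agent.Lib.Helper1.KBC

variable {X Y : Scheme.{u}} (f : X ⟶ Y) (x : X)

/-- first adjunction -/
noncomputable abbrev adj1 : plb f ⋙ stalkFun x ⊣ resStalk f x ⋙ skyFun (f x) :=
  ((ppAdj f).comp (stalkSkyAdj x)).ofNatIsoRight (pushSkyNatIso f x)

/-- second adjunction -/
noncomputable abbrev adj2 :
    stalkFun (f x) ⋙ ModuleCat.extendScalars.{u, u, u} (f.stalkMap x).hom ⊣
      resStalk f x ⋙ skyFun (f x) :=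
  (stalkSkyAdj (f x)).comp (ModuleCat.extendRestrictScalarsAdj.{u, u, u} (f.stalkMap x).hom)

variable (M : Y.Modules)

lemma key : (adj1 f x).unit.app M ≫
    (resStalk f x ⋙ skyFun (f x)).map ((stalkPullbackIso f x).hom.app M) =
      (adj2 f x).unit.app M :=
  Adjunction.unit_leftAdjointUniq_hom_app _ _ M

lemma L1 (V : Y.Opens) (hy : f x ∈ V) (m : (toPM M).obj (op V)) :
    SkyT.ev Y.presheaf V ((toPMMap ((adj1 f x).unit.app M)).app (op V) m) hy =
      gm (toPM ((plb f).obj M)) x (f ⁻¹ᵁ V) hy ((toPMMap (un f M)).app (op V) m) := by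
  rfl

open ChangeOfRings in
lemma L2 (V : Y.Opens) (hy : f x ∈ V) (m : (toPM M).obj (op V)) :
    SkyT.ev Y.presheaf V ((toPMMap ((adj2 f x).unit.app M)).app (op V) m) hy =
      ((1 : Ox x) ⊗ₜ[Ox (f x), (f.stalkMap x).hom] (gm (toPM M) (f x) V hy m)) := by
  rfl

open ChangeOfRings in
/-- the stalk of the pullback on pulled back sections -/
lemma sigma_unit (V : Y.Opens) (hy : f x ∈ V) (m : (toPM M).obj (op V)) :
    ((stalkPullbackIso f x).hom.app M).hom
      (gm (toPM ((plb f).obj M)) x (f ⁻¹ᵁ V) hy ((toPMMap (un f M)).app (op V) m)) =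
      ((1 : Ox x) ⊗ₜ[Ox (f x), (f.stalkMap x).hom] (gm (toPM M) (f x) V hy m)) := by
  have h := key f x M
  have h2 := congrArg (fun g => SkyT.ev Y.presheaf V ((toPMMap g).app (op V) m) hy) h
  exact h2

variable (A B : Y.Modules)

/-- the comparison map on pulled back pure tensors -/
lemma delta_section (V : Y.Opens) (a : (toPM A).obj (op V)) (b : (toPM B).obj (op V)) :
    (toPMMap (delta f A B)).app (op (f ⁻¹ᵁ V)) ((toPMMap (un f (tens A B))).app (op V)
      ((etaX (toPM A ⊗ toPM B)).app (op V) (tm (toPM A) (toPM B) a b))) =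
    (etaX (toPM ((plb f).obj A) ⊗ toPM ((plb f).obj B))).app (op (f ⁻¹ᵁ V))
      (tm (toPM ((plb f).obj A)) (toPM ((plb f).obj B)) ((toPMMap (un f A)).app (op V) a)
        ((toPMMap (un f B)).app (op V) b)) := by
  have h1 := etaX_deltaFlat f A B
  rw [← un_delta] at h1
  have h2 := congrArg (fun g => (g.app (op V)).hom (tm (toPM A) (toPM B) a b)) h1
  exact h2

/-- extension of scalars along the stalk map -/
noncomputable abbrev extF : ModuleCat.{u} (Ox (f x)) ⥤ ModuleCat.{u} (Ox x) :=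
  ModuleCat.extendScalars.{u, u, u} (f.stalkMap x).hom

open ChangeOfRings in
lemma sigma_inv_unit (V : Y.Opens) (hy : f x ∈ V) (m : (toPM M).obj (op V)) :
    ((stalkPullbackIso f x).inv.app M).hom
      ((1 : Ox x) ⊗ₜ[Ox (f x), (f.stalkMap x).hom] (gm (toPM M) (f x) V hy m)) =
      gm (toPM ((plb f).obj M)) x (f ⁻¹ᵁ V) hy ((toPMMap (un f M)).app (op V) m) := by
  have h0 := sigma_unit f x M V hy m
  have h := (stalkPullbackIso f x).hom_inv_id_app M
  have h1 := congrArg (fun g => g.hom (gm (toPM ((plb f).obj M)) x (f ⁻¹ᵁ V) hy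
    ((toPMMap (un f M)).app (op V) m))) h
  exact (congrArg (fun t => ((stalkPullbackIso f x).inv.app M).hom t) h0).symm.trans h1

/-- the first composite -/
noncomputable def PhiCat : (extF f x).obj (((G₂ (f x)).obj A).obj B) ⟶
    ((G₂ x).obj ((plb f).obj A)).obj ((plb f).obj B) :=
  (extF f x).map (KBC.stalkTensorApp (f x) A B).inv ≫
    (stalkPullbackIso f x).inv.app (tens A B) ≫
    (stalkFun x).map (delta f A B) ≫
    (KBC.stalkTensorApp x ((plb f).obj A) ((plb f).obj B)).hom

open Functor.OplaxMonoidal in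
/-- the second composite, an isomorphism -/
noncomputable def PsiCat : (extF f x).obj (((G₂ (f x)).obj A).obj B) ⟶
    ((G₂ x).obj ((plb f).obj A)).obj ((plb f).obj B) :=
  δ (extF f x) ((stalkFun (f x)).obj A) ((stalkFun (f x)).obj B) ≫
    ((stalkPullbackIso f x).inv.app A ⊗ₘ (stalkPullbackIso f x).inv.app B)

open ChangeOfRings in
lemma psiCat_apply (V : Y.Opens) (hy : f x ∈ V) (a : (toPM A).obj (op V)) (b : (toPM B).obj (op V)) :
    (PsiCat f x A B).hom ((1 : Ox x) ⊗ₜ[Ox (f x), (f.stalkMap x).hom]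
      (gm (toPM A) (f x) V hy a ⊗ₜ[Ox (f x)] gm (toPM B) (f x) V hy b)) =
    (gm (toPM ((plb f).obj A)) x (f ⁻¹ᵁ V) hy ((toPMMap (un f A)).app (op V) a)) ⊗ₜ[Ox x]
      (gm (toPM ((plb f).obj B)) x (f ⁻¹ᵁ V) hy ((toPMMap (un f B)).app (op V) b)) := by
  rw [← sigma_inv_unit f x A V hy a, ← sigma_inv_unit f x B V hy b]
  rfl

lemma stalkTensorEquiv_gm {Z : Scheme.{u}} (z : Z) (L K : Z.Modules) (U : Z.Opens) (hz : z ∈ U)
    (a : (toPM L).obj (op U)) (b : (toPM K).obj (op U)) :
    stalkTensorEquiv z L K (gm (toPM (tens L K)) z U hz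
      ((etaX (toPM L ⊗ toPM K)).app (op U) (tm (toPM L) (toPM K) a b))) =
    gm (toPM L) z U hz a ⊗ₜ[Ox z] gm (toPM K) z U hz b := by
  have h1 : gm (toPM (tens L K)) z U hz
      ((etaX (toPM L ⊗ toPM K)).app (op U) (tm (toPM L) (toPM K) a b)) =
      sm (etaX (toPM L ⊗ toPM K)) z (gm (toPM L ⊗ toPM K) z U hz (tm (toPM L) (toPM K) a b)) :=
    (sm_gm (etaX (toPM L ⊗ toPM K)) hz (tm (toPM L) (toPM K) a b)).symm
  rw [h1, stalkTensorEquiv_eta, α_gm_tm]

lemma stalkTensorEquiv_symm_gm {Z : Scheme.{u}} (z : Z) (L K : Z.Modules) (U : Z.Opens) (hz : z ∈ U)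
    (a : (toPM L).obj (op U)) (b : (toPM K).obj (op U)) :
    (stalkTensorEquiv z L K).symm (gm (toPM L) z U hz a ⊗ₜ[Ox z] gm (toPM K) z U hz b) =
    gm (toPM (tens L K)) z U hz
      ((etaX (toPM L ⊗ toPM K)).app (op U) (tm (toPM L) (toPM K) a b)) := by
  rw [← stalkTensorEquiv_gm, LinearEquiv.symm_apply_apply]

open ChangeOfRings in
lemma phiCat_apply (V : Y.Opens) (hy : f x ∈ V) (a : (toPM A).obj (op V)) (b : (toPM B).obj (op V)) :
    (PhiCat f x A B).hom ((1 : Ox x) ⊗ₜ[Ox (f x), (f.stalkMap x).hom]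
      (gm (toPM A) (f x) V hy a ⊗ₜ[Ox (f x)] gm (toPM B) (f x) V hy b)) =
    (gm (toPM ((plb f).obj A)) x (f ⁻¹ᵁ V) hy ((toPMMap (un f A)).app (op V) a)) ⊗ₜ[Ox x]
      (gm (toPM ((plb f).obj B)) x (f ⁻¹ᵁ V) hy ((toPMMap (un f B)).app (op V) b)) := by
  -- step 1, 2
  have s1 : ((extF f x).map (KBC.stalkTensorApp (f x) A B).inv).hom
      ((1 : Ox x) ⊗ₜ[Ox (f x), (f.stalkMap x).hom]
        (gm (toPM A) (f x) V hy a ⊗ₜ[Ox (f x)] gm (toPM B) (f x) V hy b)) =
      ((1 : Ox x) ⊗ₜ[Ox (f x), (f.stalkMap x).hom]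
        (gm (toPM (tens A B)) (f x) V hy
          ((etaX (toPM A ⊗ toPM B)).app (op V) (tm (toPM A) (toPM B) a b)))) := by
    have := stalkTensorEquiv_symm_gm (f x) A B V hy a b
    exact congrArg (fun t => ((1 : Ox x) ⊗ₜ[Ox (f x), (f.stalkMap x).hom] t)) this
  -- step 3
  have s3 := sigma_inv_unit f x (tens A B) V hy
    ((etaX (toPM A ⊗ toPM B)).app (op V) (tm (toPM A) (toPM B) a b))
  -- step 4, 5
  have s5 := delta_section f A B V a b
  -- step 6
  have s6 := stalkTensorEquiv_gm x ((plb f).obj A) ((plb f).obj B) (f ⁻¹ᵁ V) hy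
    ((toPMMap (un f A)).app (op V) a) ((toPMMap (un f B)).app (op V) b)
  have s45 : ((stalkFun x).map (delta f A B)).hom
      (gm (toPM ((plb f).obj (tens A B))) x (f ⁻¹ᵁ V) hy
        ((toPMMap (un f (tens A B))).app (op V)
          ((etaX (toPM A ⊗ toPM B)).app (op V) (tm (toPM A) (toPM B) a b)))) =
      gm (toPM (tens ((plb f).obj A) ((plb f).obj B))) x (f ⁻¹ᵁ V) hy
        ((etaX (toPM ((plb f).obj A) ⊗ toPM ((plb f).obj B))).app (op (f ⁻¹ᵁ V))
          (tm (toPM ((plb f).obj A)) (toPM ((plb f).obj B)) ((toPMMap (un f A)).app (op V) a)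
            ((toPMMap (un f B)).app (op V) b))) := by
    have h4 := sm_gm (toPMMap (delta f A B)) (x := x) hy
      ((toPMMap (un f (tens A B))).app (op V)
          ((etaX (toPM A ⊗ toPM B)).app (op V) (tm (toPM A) (toPM B) a b)))
    exact h4.trans (congrArg (fun w => gm (toPM (tens ((plb f).obj A) ((plb f).obj B))) x
      (f ⁻¹ᵁ V) hy w) s5)
  let T3 := fun t => ((stalkPullbackIso f x).inv.app (tens A B)).hom t
  let T4 := fun t => ((stalkFun x).map (delta f A B)).hom t
  let T6 := fun t => (KBC.stalkTensorApp x ((plb f).obj A) ((plb f).obj B)).hom.hom t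
  exact (congrArg (fun t => T6 (T4 (T3 t))) s1).trans
    ((congrArg (fun t => T6 (T4 t)) s3).trans ((congrArg T6 s45).trans s6))

theorem phiCat_eq_psiCat : PhiCat f x A B = PsiCat f x A B := by
  apply ((ModuleCat.extendRestrictScalarsAdj.{u, u, u} (f.stalkMap x).hom).homEquiv _ _).injective
  apply ModuleCat.MonoidalCategory.tensor_ext
  intro a b
  obtain ⟨V, hV, a0, b0, rfl, rfl⟩ := exists_rep₂ a b
  exact (phiCat_apply f x A B V hV a0 b0).trans (psiCat_apply f x A B V hV a0 b0).symm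

open Functor.OplaxMonoidal in
instance isIso_psiCat : IsIso (PsiCat f x A B) := by
  unfold PsiCat
  infer_instance

/-- the comparison map is an isomorphism on stalks -/
theorem isIso_stalk_delta : IsIso ((stalkFun x).map (delta f A B)) := by
  have h : IsIso (PhiCat f x A B) := by
    rw [phiCat_eq_psiCat]
    infer_instance
  unfold PhiCat at h
  have h2 := IsIso.of_isIso_comp_left ((extF f x).map (KBC.stalkTensorApp (f x) A B).inv)
    ((stalkPullbackIso f x).inv.app (tens A B) ≫ (stalkFun x).map (delta f A B) ≫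
      (KBC.stalkTensorApp x ((plb f).obj A) ((plb f).obj B)).hom)
  have h3 := IsIso.of_isIso_comp_left ((stalkPullbackIso f x).inv.app (tens A B))
    ((stalkFun x).map (delta f A B) ≫
      (KBC.stalkTensorApp x ((plb f).obj A) ((plb f).obj B)).hom)
  exact IsIso.of_isIso_comp_right ((stalkFun x).map (delta f A B))
    (KBC.stalkTensorApp x ((plb f).obj A) ((plb f).obj B)).hom

/-- a morphism of `O_X`-modules which is an isomorphism on all stalks is an isomorphism -/
lemma isIso_of_forall_isIso_stalk {Z : Scheme.{u}} {M N : Z.Modules} (g : M ⟶ N)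
    (h : ∀ z : Z, IsIso ((stalkFun z).map g)) : IsIso g := by
  haveI hm : Mono g := by
    apply mono_of_sm_injective
    intro z
    haveI := h z
    exact (ModuleCat.mono_iff_injective ((stalkFun z).map g)).1 inferInstance
  haveI he : Epi g := by
    apply Preadditive.epi_of_isZero_cokernel
    apply isZero_of_forall_isZero_stalk
    intro z
    haveI := h z
    exact IsZero.of_iso (isZero_cokernel_of_epi ((stalkFun z).map g))
      (PreservesCokernel.iso (stalkFun z) g)
  exact isIso_of_mono_of_epi g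

instance isIso_delta : IsIso (delta f A B) :=
  isIso_of_forall_isIso_stalk _ (fun x => isIso_stalk_delta f x A B)

end Groth.Agent.Lib.Helper1.PT
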