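import Mathlib
import Groth.Prelude
import Groth.Agent.Lib.Helper1PT3
import Groth.Agent.Lib.Helper23Restr
set_option backward.isDefEq.respectTransparency.types false

/-!
# Restriction to an open commutes with the tensor product of `O_X`-modules (helper23)

Namespace `Groth.Agent.Lib.Helper23.RestrTensor`.  Built on helper1's monoidality of the pullback (`PT.delta`).

* `restrictTensorIso M N f` : `(M ⊗ N).restrict f ≅ M.restrict f ⊗ N.restrict f` for an open immersion `f` and ARBITRARY modules.
* `pullbackTensorIso M N f` : `f^*(M ⊗ N) ≅ f^*M ⊗ f^*N` for `CohB1.tensorMod` (any morphism of schemes).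
* `isGloballyGenerated_of_iso`.
* `nonempty_restrict_twist_iso` : `(F ⊗ L^n)|_U ≅ F|_U ⊗ (L|_U)^n` for `L` invertible.
-/

set_option autoImplicit false
universe u
open CategoryTheory CategoryTheory.Limits AlgebraicGeometry TopologicalSpace Opposite
  MonoidalCategory TensorProduct

namespace Groth.Agent.Lib.Helper23.RestrTensor
open Groth.Agent.Lib.Helper1.PT

variable {X : Scheme.{u}} (M N : X.Modules)

/-- the pullback commutes with `CohB1.tensorMod` -/
noncomputable def pullbackTensorIso {Y : Scheme.{u}} (f : Y ⟶ X) :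
    (Scheme.Modules.pullback f).obj (CohB1.tensorMod M N) ≅
      CohB1.tensorMod ((Scheme.Modules.pullback f).obj M) ((Scheme.Modules.pullback f).obj N) :=
  @asIso _ _ _ _ (delta f M N) (isIso_delta f M N)

/-- restriction along an open immersion commutes with `CohB1.tensorMod` -/
noncomputable def restrictTensorIso {Y : Scheme.{u}} (f : Y ⟶ X) [IsOpenImmersion f] :
    (CohB1.tensorMod M N).restrict f ≅ CohB1.tensorMod (M.restrict f) (N.restrict f) :=
  (Scheme.Modules.restrictFunctorIsoPullback f).app _ ≪≫ pullbackTensorIso M N f ≪≫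
    PicGrp.tensorModIso ((Scheme.Modules.restrictFunctorIsoPullback f).app M).symm
      ((Scheme.Modules.restrictFunctorIsoPullback f).app N).symm

/-- global generation is invariant under isomorphisms -/
theorem isGloballyGenerated_of_iso {F G : X.Modules} (e : F ≅ G) (h : Curv2.IsGloballyGenerated F) :
    Curv2.IsGloballyGenerated G := by
  obtain ⟨ι, p, hp⟩ := h
  exact ⟨ι, p ≫ e.hom, epi_comp _ _⟩

/-- `(F ⊗ L^n)|_U ≅ F|_U ⊗ (L|_U)^n` for an invertible `L` -/
theorem nonempty_restrict_twist_iso (F L : X.Modules) (hL : PicF.IsInvertible L) (U : X.Opens) (n : ℕ) :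
    Nonempty ((CohB1.tensorMod F (CohB1.tensorPow L n)).restrict U.ι ≅
      CohB1.tensorMod (F.restrict U.ι) (CohB1.tensorPow (L.restrict U.ι) n)) := by
  obtain ⟨Θ⟩ := Groth.Agent.Lib.Helper23.SecTw.nonempty_restrict_tensorPow_iso L hL U n
  exact ⟨restrictTensorIso F (CohB1.tensorPow L n) U.ι ≪≫ PicGrp.tensorModIso (Iso.refl _) Θ⟩

end Groth.Agent.Lib.Helper23.RestrTensor
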