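import Mathlib
import Groth.Prelude
import Groth.Agent.Lib.Helper1PT3
import Groth.Agent.Lib.Helper21ModTensor7
set_option backward.isDefEq.respectTransparency.types false
/-!
# `(M ⊗_R N)~ ≅ M~ ⊗ N~` on `Spec R` (helper23)

Namespace `Groth.Agent.Lib.Helper23.TildeTensor`.

* `exists_epi_coprod`, `isIso_app_of_preservesColimits` : a natural transformation between colimit preserving functors out of
  `ModuleCat R` which is an isomorphism at the unit `R` is an isomorphism.
* `aHom R N M : M ⊗ N ⟶ Γ(M~ ⊗ N~)`, `α R N : (- ⊗ N)~ ⟶ (-)~ ⊗ N~`, `αApp_unit`, `isIso_αApp`.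
* `tildeTensorIso R N M : tilde (M ⊗ N) ≅ CohB1.tensorMod (tilde M) (tilde N)`.
Uses helper21's colimit preservation of the sheaf tensor product and helper1's `etaX`/`tm` calculus.
-/

set_option autoImplicit false
set_option linter.style.haveILetI false
universe u
open CategoryTheory CategoryTheory.Limits AlgebraicGeometry TopologicalSpace Opposite
  MonoidalCategory TensorProduct

namespace Groth.Agent.Lib.Helper23.TildeTensor
open Groth.Agent.Lib.Helper1.PT Groth.Agent.Lib.Helper1.StalkTensor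
open Groth.Agent.Lib.Helper21.ModTensor2 Groth.Agent.Lib.Helper21.ModTensor3 Groth.Agent.Lib.Helper21.ModTensor7

variable (R : CommRingCat.{u})

/-- every module is a quotient of a coproduct of copies of the unit -/
theorem exists_epi_coprod (M : ModuleCat.{u} R) :
    ∃ (I : Type u) (π : (∐ fun _ : I => 𝟙_ (ModuleCat.{u} R)) ⟶ M), Epi π := by
  refine ⟨M, Sigma.desc (fun m => ModuleCat.ofHom (LinearMap.toSpanSingleton R M m)), ?_⟩
  rw [ModuleCat.epi_iff_surjective]
  intro m
  refine ⟨(Sigma.ι (fun _ : M => 𝟙_ (ModuleCat.{u} R)) m).hom (1 : R), ?_⟩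
  have h := Sigma.ι_desc (f := fun _ : M => 𝟙_ (ModuleCat.{u} R))
    (fun m => ModuleCat.ofHom (LinearMap.toSpanSingleton R M m)) m
  have h' := congrArg (fun φ => φ.hom (1 : R)) h
  refine Eq.trans ?_ (h'.trans ?_)
  · rfl
  · show (LinearMap.toSpanSingleton R M m) (1 : R) = m
    rw [LinearMap.toSpanSingleton_apply, one_smul]

/-- a natural transformation between colimit preserving functors out of `ModuleCat R` which is an isomorphism at the
unit is an isomorphism -/
theorem isIso_app_of_preservesColimits {D : Type*} [Category D] (F G : ModuleCat.{u} R ⥤ D) (β : F ⟶ G)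
    [PreservesColimitsOfSize.{u, u} F] [PreservesColimitsOfSize.{u, u} G]
    (h : IsIso (β.app (𝟙_ (ModuleCat.{u} R)))) (M : ModuleCat.{u} R) : IsIso (β.app M) := by
  haveI : PreservesColimitsOfSize.{0, 0} F := preservesSmallestColimits_of_preservesColimits F
  haveI : PreservesColimitsOfSize.{0, 0} G := preservesSmallestColimits_of_preservesColimits G
  have hA : ∀ I : Type u, IsIso (β.app (∐ fun _ : I => (𝟙_ (ModuleCat.{u} R)))) := by
    intro I
    haveI : IsIso (Functor.whiskerLeft (Discrete.functor fun _ : I => 𝟙_ (ModuleCat.{u} R)) β) := by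
      haveI : ∀ X, IsIso ((Functor.whiskerLeft (Discrete.functor fun _ : I => 𝟙_ (ModuleCat.{u} R)) β).app X) :=
        fun X => h
      exact NatIso.isIso_of_isIso_app _
    exact isIso_app_coconePt_of_preservesColimit (Discrete.functor fun _ : I => 𝟙_ (ModuleCat.{u} R)) β
      (colimit.cocone _) (colimit.isColimit _)
  obtain ⟨I, π, hπ⟩ := exists_epi_coprod R M
  obtain ⟨J, π', hπ'⟩ := exists_epi_coprod R (kernel π)
  have w : (π' ≫ kernel.ι π) ≫ π = 0 := by rw [Category.assoc, kernel.condition, comp_zero]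
  have hc0 : IsColimit (CokernelCofork.ofπ π (kernel.condition π)) :=
    Abelian.epiIsCokernelOfKernel (Fork.ofι (kernel.ι π) ((kernel.condition π).trans comp_zero.symm))
      (kernelIsKernel π)
  have hc : IsColimit (CokernelCofork.ofπ π w) := isCokernelEpiComp hc0 π' rfl
  haveI : IsIso (Functor.whiskerLeft (parallelPair (π' ≫ kernel.ι π) 0) β) := by
    haveI : ∀ X, IsIso ((Functor.whiskerLeft (parallelPair (π' ≫ kernel.ι π) 0) β).app X) := by
      rintro (_ | _)
      · exact hA J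
      · exact hA I
    exact NatIso.isIso_of_isIso_app _
  exact isIso_app_coconePt_of_preservesColimit (parallelPair (π' ≫ kernel.ι π) 0) β
    (CokernelCofork.ofπ π w) hc


variable (N : ModuleCat.{u} R)

/-- `M ↦ (M ⊗ N)~` -/
noncomputable abbrev Φ₁ : ModuleCat.{u} R ⥤ (Spec (.of R)).Modules := tensorRight N ⋙ tilde.functor R

/-- `M ↦ M~ ⊗ N~` -/
noncomputable abbrev Φ₂ : ModuleCat.{u} R ⥤ (Spec (.of R)).Modules :=
  tilde.functor R ⋙ tR (Spec R).sheaf (tilde N)

variable (M : ModuleCat.{u} R)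

/-- the presheaf tensor product -/
noncomputable abbrev PT : PMod (Spec R).presheaf := toPM (tilde M) ⊗ toPM (tilde N)

example : (Φ₂ R N).obj M = shX.obj (PT R N M) := rfl

/-- global section of `M~` attached to `m`, as a section of the presheaf of modules -/
noncomputable def sec (m : M) : (toPM (tilde M)).obj (op ⊤) := (tilde.toOpen M ⊤).hom m

lemma sec_add (m m' : M) : sec R M (m + m') = sec R M m + sec R M m' := map_add _ _ _

/-- the ring element of `Γ(Spec R, ⊤)` attached to `r` -/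
noncomputable def rsec (r : R) : (Spec R).presheaf.obj (op ⊤) := (Scheme.ΓSpecIso R).inv.hom r

lemma map_leTop (c : (Spec R).presheaf.obj (op ⊤)) :
    ((Spec R).presheaf.map (⊤ : (Spec R).Opens).leTop.op).hom c = c := by
  have h : (⊤ : (Spec R).Opens).leTop = 𝟙 _ := Subsingleton.elim _ _
  rw [h, op_id, CategoryTheory.Functor.map_id]
  rfl

lemma sec_smul (r : R) (m : M) : sec R M (r • m) = rsec R r • sec R M m := by
  have h := (tilde.toOpen M ⊤).hom.map_smul r m
  refine h.trans ?_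
  show ((Spec R).presheaf.map (⊤ : (Spec R).Opens).leTop.op).hom (rsec R r) • sec R M m = _
  rw [map_leTop]


/-- global sections functor -/
noncomputable abbrev Γf : (Spec (.of R)).Modules ⥤ ModuleCat.{u} R := moduleSpecΓFunctor (R := R)

lemma Γ_smul (F : (Spec (.of R)).Modules) (r : R) (s : (Γf R).obj F) :
    r • s = (show (Γf R).obj F from (rsec R r • (show (toPM F).obj (op ⊤) from s))) := by
  show ((Spec R).presheaf.map (⊤ : (Spec R).Opens).leTop.op).hom (rsec R r) •
    (show (toPM F).obj (op ⊤) from s) = _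
  rw [map_leTop]

/-- the section `m ⊗ n` of `M~ ⊗ N~` -/
noncomputable def bilFun (m : M) (n : N) : (Γf R).obj ((Φ₂ R N).obj M) :=
  (etaX (PT R N M)).app (op ⊤) (tm _ _ (sec R M m) (sec R N n))

lemma bilFun_add_left (m m' : M) (n : N) :
    bilFun R N M (m + m') n = bilFun R N M m n + bilFun R N M m' n := by
  unfold bilFun
  rw [sec_add, tm_add_left, map_add]
  rfl

lemma bilFun_add_right (m : M) (n n' : N) :
    bilFun R N M m (n + n') = bilFun R N M m n + bilFun R N M m n' := by
  unfold bilFun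
  rw [sec_add, tm_add_right, map_add]
  rfl

lemma bilFun_smul_left (r : R) (m : M) (n : N) :
    bilFun R N M (r • m) n = r • bilFun R N M m n := by
  refine Eq.trans ?_ (Γ_smul R _ r _).symm
  show (etaX (PT R N M)).app (op ⊤) (tm _ _ (sec R M (r • m)) (sec R N n)) =
    rsec R r • (etaX (PT R N M)).app (op ⊤) (tm _ _ (sec R M m) (sec R N n))
  rw [sec_smul, ← smul_tm]
  exact ((etaX (PT R N M)).app (op ⊤)).hom.map_smul _ _

lemma bilFun_smul_right (r : R) (m : M) (n : N) :
    bilFun R N M m (r • n) = r • bilFun R N M m n := by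
  refine Eq.trans ?_ (Γ_smul R _ r _).symm
  show (etaX (PT R N M)).app (op ⊤) (tm _ _ (sec R M m) (sec R N (r • n))) =
    rsec R r • (etaX (PT R N M)).app (op ⊤) (tm _ _ (sec R M m) (sec R N n))
  rw [sec_smul, ← tm_smul, ← smul_tm]
  exact ((etaX (PT R N M)).app (op ⊤)).hom.map_smul _ _

/-- the bilinear map -/
noncomputable def bil : M →ₗ[R] N →ₗ[R] (Γf R).obj ((Φ₂ R N).obj M) :=
  LinearMap.mk₂ R (bilFun R N M) (bilFun_add_left R N M) (bilFun_smul_left R N M)
    (bilFun_add_right R N M) (bilFun_smul_right R N M)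

/-- `M ⊗ N ⟶ Γ(M~ ⊗ N~)` -/
noncomputable def aHom : (tensorRight N).obj M ⟶ (Γf R).obj ((Φ₂ R N).obj M) :=
  (ModuleCat.ofHom (TensorProduct.lift (bil R N M)) :
    ModuleCat.of R (M ⊗[R] N) ⟶ ModuleCat.of R ((Γf R).obj ((Φ₂ R N).obj M)))

lemma aHom_tmul (m : M) (n : N) :
    (aHom R N M).hom (m ⊗ₜ[R] n) = bilFun R N M m n := by
  unfold aHom
  exact TensorProduct.lift.tmul _ _


variable {M} in
lemma sec_map {M' : ModuleCat.{u} R} (g : M ⟶ M') (m : M) :
    (toPMMap (tilde.map g)).app (op ⊤) (sec R M m) = sec R M' (g.hom m) := by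
  have h := tilde.toOpen_map_app g ⊤
  exact congrArg (fun φ => φ.hom m) h

variable {M} in
lemma aHom_naturality {M' : ModuleCat.{u} R} (g : M ⟶ M') :
    (tensorRight N).map g ≫ aHom R N M' = aHom R N M ≫ (Γf R).map ((Φ₂ R N).map g) := by
  apply ModuleCat.MonoidalCategory.tensor_ext
  intro m n
  have hL : ((tensorRight N).map g ≫ aHom R N M').hom (m ⊗ₜ[R] n) = bilFun R N M' (g.hom m) n := by
    rw [ModuleCat.hom_comp, LinearMap.comp_apply]
    have : ((tensorRight N).map g).hom (m ⊗ₜ[R] n) = (g.hom m) ⊗ₜ[R] n := rfl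
    rw [this, aHom_tmul]
  have hR : (aHom R N M ≫ (Γf R).map ((Φ₂ R N).map g)).hom (m ⊗ₜ[R] n) =
      (toPMMap ((Φ₂ R N).map g)).app (op ⊤) (bilFun R N M m n) := by
    rw [ModuleCat.hom_comp, LinearMap.comp_apply, aHom_tmul]
    rfl
  rw [hL, hR]
  have e := etaX_naturality (toPMMap (tilde.map g) ▷ toPM (tilde N))
  have e' := congrArg (fun φ => φ.app (op ⊤) (tm _ _ (sec R M m) (sec R N n))) e
  unfold bilFun
  rw [← sec_map, ← whiskerRight_app_tm]
  exact e'


/-- the adjunction `~ ⊣ Γ` -/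
noncomputable abbrev tadj : tilde.functor R ⊣ Γf R := tilde.adjunction (R := R)

/-- the comparison `(M ⊗ N)~ ⟶ M~ ⊗ N~` -/
noncomputable def αApp : (Φ₁ R N).obj M ⟶ (Φ₂ R N).obj M :=
  ((tadj R).homEquiv _ _).symm (aHom R N M)

/-- the comparison as a natural transformation in `M` -/
noncomputable def α : Φ₁ R N ⟶ Φ₂ R N where
  app M := αApp R N M
  naturality {M M'} g := by
    unfold αApp
    have h1 := (tadj R).homEquiv_naturality_left_symm ((tensorRight N).map g) (aHom R N M')
    have h2 := (tadj R).homEquiv_naturality_right_symm (aHom R N M) ((Φ₂ R N).map g)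
    rw [aHom_naturality] at h1
    exact h1.symm.trans h2

lemma homEquiv_αApp : (tadj R).homEquiv _ _ (αApp R N M) = aHom R N M :=
  Equiv.apply_symm_apply _ _


lemma sec_unit (r : R) : sec R (𝟙_ (ModuleCat.{u} R)) r = rsec R r := rfl

lemma eta_tLUnit (A : (Spec (.of R)).Modules) :
    etaX (𝟙_ (PMod (Spec R).presheaf) ⊗ toPM A) ≫ toPMMap ((tLUnitIso (Spec R).sheaf).hom.app A) =
      (λ_ (toPM A)).hom := by
  have h1 : etaX (𝟙_ (PMod (Spec R).presheaf) ⊗ toPM A) ≫ toPMMap (shX.map (λ_ (toPM A)).hom) =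
      (λ_ (toPM A)).hom ≫ etaX (toPM A) := (etaX_naturality (λ_ (toPM A)).hom).symm
  have h2 : etaX (toPM A) ≫ toPMMap ((adj (Spec R).sheaf).counit.app A) = 𝟙 _ :=
    (adj (Spec R).sheaf).right_triangle_components A
  have h3 : (tLUnitIso (Spec R).sheaf).hom.app A =
      shX.map (λ_ (toPM A)).hom ≫ (adj (Spec R).sheaf).counit.app A := rfl
  rw [h3]
  calc etaX (𝟙_ (PMod (Spec R).presheaf) ⊗ toPM A) ≫
        toPMMap (shX.map (λ_ (toPM A)).hom ≫ (adj (Spec R).sheaf).counit.app A)
      = (etaX (𝟙_ (PMod (Spec R).presheaf) ⊗ toPM A) ≫ toPMMap (shX.map (λ_ (toPM A)).hom)) ≫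
        toPMMap ((adj (Spec R).sheaf).counit.app A) := rfl
    _ = (λ_ (toPM A)).hom := by rw [h1, Category.assoc, h2, Category.comp_id]

lemma αApp_unit :
    αApp R N (𝟙_ (ModuleCat.{u} R)) ≫ (tLUnitIso (Spec R).sheaf).hom.app (tilde N) =
      tilde.map (λ_ N).hom := by
  apply ((tadj R).homEquiv _ _).injective
  rw [Adjunction.homEquiv_naturality_right, homEquiv_αApp, Adjunction.homEquiv_unit]
  apply ModuleCat.MonoidalCategory.tensor_ext
  intro r n
  have hL : (aHom R N (𝟙_ (ModuleCat.{u} R)) ≫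
      (Γf R).map ((tLUnitIso (Spec R).sheaf).hom.app (tilde N))).hom (r ⊗ₜ[R] n) =
      (toPMMap ((tLUnitIso (Spec R).sheaf).hom.app (tilde N))).app (op ⊤)
        (bilFun R N (𝟙_ (ModuleCat.{u} R)) r n) := by
    rw [ModuleCat.hom_comp, LinearMap.comp_apply, aHom_tmul]
    rfl
  have hR : ((tadj R).unit.app ((tensorRight N).obj (𝟙_ (ModuleCat.{u} R))) ≫
      (Γf R).map (tilde.map (λ_ N).hom)).hom (r ⊗ₜ[R] n) = sec R N ((r : R) • n) := by
    have h := tilde.toOpen_map_app (λ_ N).hom ⊤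
    have h' := congrArg (fun φ => φ.hom (r ⊗ₜ[R] n)) h
    refine Eq.trans ?_ (h'.trans ?_)
    · rfl
    · show sec R N ((λ_ N).hom.hom (r ⊗ₜ[R] n)) = _
      rw [ModuleCat.MonoidalCategory.leftUnitor_hom_apply]
  rw [hL, hR, sec_smul]
  have e := congrArg (fun φ => φ.app (op ⊤) (tm _ _ (sec R (𝟙_ (ModuleCat.{u} R)) r) (sec R N n)))
    (eta_tLUnit R (tilde N))
  refine Eq.trans e ?_
  show ((λ_ (toPM (tilde N))).hom.app (op ⊤)).hom (rsec R r ⊗ₜ sec R N n) = _
  exact ModuleCat.MonoidalCategory.leftUnitor_hom_apply (R := (Spec R).presheaf.obj (op ⊤)) _ _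


lemma isIso_αApp_unit : IsIso (αApp R N (𝟙_ (ModuleCat.{u} R))) := by
  have h := αApp_unit R N
  have h1 : IsIso (tilde.map (λ_ N).hom) := (inferInstance : IsIso ((tilde.functor R).map (λ_ N).hom))
  have h2 : IsIso ((tLUnitIso (Spec R).sheaf).hom.app (tilde N)) :=
    Iso.isIso_hom ((tLUnitIso (Spec R).sheaf).app (tilde N))
  have h3 : IsIso (αApp R N (𝟙_ (ModuleCat.{u} R)) ≫ (tLUnitIso (Spec R).sheaf).hom.app (tilde N)) := by
    rw [h]; exact h1
  exact @IsIso.of_isIso_comp_right _ _ _ _ _ _ ((tLUnitIso (Spec R).sheaf).hom.app (tilde N)) h2 h3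

instance : PreservesColimitsOfSize.{u, u} (Φ₁ R N) := inferInstance
instance : PreservesColimitsOfSize.{u, u} (Φ₂ R N) := by
  have h1 : PreservesColimitsOfSize.{u, u} (tilde.functor R) := inferInstance
  have h2 : PreservesColimitsOfSize.{u, u} (tR (Spec R).sheaf (tilde N)) := inferInstance
  exact @comp_preservesColimits _ _ _ _ _ _ (tilde.functor R) (tR (Spec R).sheaf (tilde N)) h1 h2

theorem isIso_αApp : IsIso (αApp R N M) :=
  isIso_app_of_preservesColimits R (Φ₁ R N) (Φ₂ R N) (α R N) (isIso_αApp_unit R N) M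

/-- `(M ⊗ N)~ ≅ M~ ⊗ N~` -/
noncomputable def tildeTensorIso : tilde (M ⊗ N) ≅ CohB1.tensorMod (tilde M) (tilde N) :=
  @asIso _ _ _ _ (αApp R N M) (isIso_αApp R N M)

end Groth.Agent.Lib.Helper23.TildeTensor
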