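import Mathlib
import Groth.Prelude
import Groth.Agent.Lib.Helper23TildeTensor
import Groth.Agent.Lib.Helper23RestrTensor
import Groth.Agent.Lib.Helper23FinTypeLocal
import Groth.Agent.Lib.Helper23FinType2
set_option backward.isDefEq.respectTransparency.types false
/-!
# The tensor product of quasi-coherent modules is quasi-coherent (helper23)

Namespace `Groth.Agent.Lib.Helper23.TensorQCoh`.

* `isQuasicoherent_of_iso`.
* `tensorIsoTilde R A B : A ⊗ B ≅ (Γ A ⊗_R Γ B)~` for quasi-coherent `A`, `B` on `Spec R`.
* `isQuasicoherent_tensorMod F G`, `isFiniteType_tensorMod F G` on an arbitrary scheme.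
-/

set_option autoImplicit false
set_option linter.style.haveILetI false
universe u
open CategoryTheory CategoryTheory.Limits AlgebraicGeometry TopologicalSpace Opposite
  MonoidalCategory TensorProduct

namespace Groth.Agent.Lib.Helper23.TensorQCoh
open Groth.Agent.Lib.Helper23.TildeTensor Groth.Agent.Lib.Helper23.RestrTensor Groth.Agent.Lib.Helper23.FinType
  Groth.Agent.Lib.Helper23.QCohLocal

/-- quasi-coherence is invariant under isomorphisms -/
theorem isQuasicoherent_of_iso {X : Scheme.{u}} {M N : X.Modules} (e : M ≅ N) [hM : M.IsQuasicoherent] :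
    N.IsQuasicoherent := by
  obtain ⟨⟨q⟩⟩ := hM
  exact (SheafOfModules.QuasicoherentData.ofIsIso.{u, u, u, u} e.hom q).isQuasicoherent

section Affine
variable (R : CommRingCat.{u}) (A B : (Spec R).Modules) [A.IsQuasicoherent] [B.IsQuasicoherent]

/-- on an affine scheme, the tensor product of quasi-coherent modules is the module associated to the tensor product
of the modules of global sections -/
noncomputable def tensorIsoTilde :
    CohB1.tensorMod A B ≅ tilde ((Γf R).obj A ⊗ (Γf R).obj B) :=
  haveI := isIso_fromTildeΓ A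
  haveI := isIso_fromTildeΓ B
  PicGrp.tensorModIso (asIso A.fromTildeΓ).symm (asIso B.fromTildeΓ).symm ≪≫
    (tildeTensorIso R ((Γf R).obj B) ((Γf R).obj A)).symm

theorem isQuasicoherent_tensorMod_spec : (CohB1.tensorMod A B).IsQuasicoherent :=
  isQuasicoherent_of_iso (tensorIsoTilde R A B).symm

theorem isFiniteType_tensorMod_spec [hA : SheafOfModules.IsFiniteType (R := (Spec R).ringCatSheaf) A]
    [hB : SheafOfModules.IsFiniteType (R := (Spec R).ringCatSheaf) B] :
    SheafOfModules.IsFiniteType (R := (Spec R).ringCatSheaf) (CohB1.tensorMod A B) := by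
  haveI := isIso_fromTildeΓ A
  haveI := isIso_fromTildeΓ B
  haveI h1 : SheafOfModules.IsFiniteType (R := (Spec R).ringCatSheaf) (tilde ((Γf R).obj A)) :=
    isFiniteType_of_iso (asIso A.fromTildeΓ).symm
  haveI h2 : SheafOfModules.IsFiniteType (R := (Spec R).ringCatSheaf) (tilde ((Γf R).obj B)) :=
    isFiniteType_of_iso (asIso B.fromTildeΓ).symm
  haveI f1 : Module.Finite R ((Γf R).obj A) := (isFiniteType_tilde_iff R _).1 h1
  haveI f2 : Module.Finite R ((Γf R).obj B) := (isFiniteType_tilde_iff R _).1 h2
  haveI f3 : Module.Finite R ((Γf R).obj A ⊗ (Γf R).obj B : ModuleCat.{u} R) :=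
    (inferInstance : Module.Finite R ((Γf R).obj A ⊗[R] (Γf R).obj B))
  haveI h3 : SheafOfModules.IsFiniteType (R := (Spec R).ringCatSheaf)
      (tilde ((Γf R).obj A ⊗ (Γf R).obj B)) := (isFiniteType_tilde_iff R _).2 f3
  exact isFiniteType_of_iso (tensorIsoTilde R A B).symm

end Affine

section Global
variable {X : Scheme.{u}} (F G : X.Modules) [F.IsQuasicoherent] [G.IsQuasicoherent]

/-- the tensor product of quasi-coherent modules is quasi-coherent -/
theorem isQuasicoherent_tensorMod : (CohB1.tensorMod F G).IsQuasicoherent := by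
  refine isQuasicoherent_of_affine_cover _ (fun V : X.affineOpens => (V : X.Opens))
    (iSup_affineOpens_eq_top X) (fun V => V.2) (fun V => ?_)
  haveI := isQuasicoherent_tensorMod_spec _ (F.restrict V.2.fromSpec) (G.restrict V.2.fromSpec)
  exact isQuasicoherent_of_iso (restrictTensorIso F G V.2.fromSpec).symm

/-- the tensor product of quasi-coherent modules of finite type is of finite type -/
theorem isFiniteType_tensorMod [SheafOfModules.IsFiniteType (R := X.ringCatSheaf) F]
    [SheafOfModules.IsFiniteType (R := X.ringCatSheaf) G] :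
    SheafOfModules.IsFiniteType (R := X.ringCatSheaf) (CohB1.tensorMod F G) := by
  haveI := isQuasicoherent_tensorMod F G
  refine isFiniteType_of_finite _ (fun V : X.affineOpens => (V : X.Opens))
    (iSup_affineOpens_eq_top X) (fun V => V.2) (fun V => ?_)
  have h₁ : V.2.fromSpec ''ᵁ ⊤ = V.1 := by
    rw [Scheme.Hom.image_top_eq_opensRange, V.2.opensRange_fromSpec]
  rw [← finite_iff_of_eq _ h₁, ← finite_restrict_iff]
  haveI := isFiniteType_restrict V.2.fromSpec F
  haveI := isFiniteType_restrict V.2.fromSpec G
  haveI := isFiniteType_tensorMod_spec _ (F.restrict V.2.fromSpec) (G.restrict V.2.fromSpec)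
  haveI : SheafOfModules.IsFiniteType (R := (Spec Γ(X, V.1)).ringCatSheaf)
      ((CohB1.tensorMod F G).restrict V.2.fromSpec) :=
    isFiniteType_of_iso (restrictTensorIso F G V.2.fromSpec).symm
  exact finite_of_isFiniteType _ (isAffineOpen_top _)

end Global
end Groth.Agent.Lib.Helper23.TensorQCoh
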