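import Mathlib
import Groth.Agent.Lib.Helper23SecTw10
import Groth.Agent.Lib.Helper23FinType2
import Groth.Agent.Lib.Helper21ModTensor6
import Groth.Agent.Lib.Helper23TensorUnit

/-!
# Modules generated by global sections over an open; twists of a finite type module by an ample module (helper23)

* `main_eventually` : uniform version of S15744 (extension of `t ⊗ s^n` for all large `n`)
* `gspan`, `LocGen` : `M` is generated by its global sections over the open `V`
* `LocGen.tensor`, `LocGen.of_iso`, `isGloballyGenerated_of_locGen`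
* `tensorAssoc` : associativity of `CohB1.tensorMod` (from helper21's `assocIso`)
-/

set_option autoImplicit false
universe u
open CategoryTheory CategoryTheory.Limits AlgebraicGeometry TopologicalSpace Opposite

namespace Groth.Agent.Lib.Helper23.LocGen
open Groth.Agent.Lib.Helper23.SecTw Groth.Agent.Lib.Helper23.GenLocus Groth.Agent.Lib.Helper6
open Groth.Agent.Lib.Helper23.AmpleIso Groth.Agent.Lib.Helper23.Extend Groth.Agent.Lib.Helper23.QCohLocal

variable {X : Scheme.{u}}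

/-- uniform version of the extension lemma: `t ⊗ s^n` extends to a global section for all large `n` -/
theorem main_eventually
    (X : Scheme.{u}) [CompactSpace X] [QuasiSeparatedSpace X] (L : X.Modules)
    (hL : PicF.IsInvertible L) (s : Coh.structureModule X ⟶ L) (F : X.Modules) [Coh.IsQCoh F]
    (t : Γ(F, CohB1.genLocus L s)) :
    ∃ n₀ : ℕ, ∀ n, n₀ ≤ n → ∃ t' : Γ(CohB1.tensorMod F (CohB1.tensorPow L n), ⊤),
      res _ (le_top : CohB1.genLocus L s ≤ ⊤) t' = tw F L (CohB1.genLocus L s) t (sv s _) n := by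
  choose W hxW hWaff e f hval hbo hgen using exists_frame L hL s
  obtain ⟨T, hT⟩ : ∃ T : Finset X, (⊤ : X.Opens) ≤ ⨆ x : T, W x := by
    have hc : IsCompact ((⊤ : X.Opens) : Set X) := by
      simpa using isCompact_univ
    obtain ⟨T, hT⟩ := hc.elim_finite_subcover (fun x => (W x : Set X)) (fun x => (W x).2)
      (fun x _ => Set.mem_iUnion.2 ⟨x, hxW x⟩)
    refine ⟨T, fun x hx => ?_⟩
    obtain ⟨y, hy⟩ := Set.mem_iUnion.1 (hT hx)
    obtain ⟨hyT, hxy⟩ := Set.mem_iUnion.1 hy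
    exact Opens.mem_iSup.2 ⟨⟨y, hyT⟩, hxy⟩
  -- Step 1 : local extensions
  have h1 : ∀ x, ∃ (n : ℕ) (tx : Γ(F, W x)), res F (X.basicOpen_le (f x)) tx =
      resf (X.basicOpen_le (f x)) (f x) ^ n • res F ((hbo x).le.trans inf_le_left) t := by
    intro x
    exact exists_extension_qcqs' (hWaff x).isCompact (hWaff x).isQuasiSeparated F (f x) (X.basicOpen (f x)) rfl
      (X.basicOpen_le _) _
  choose n0 t0 ht0 using h1
  obtain ⟨N, hN⟩ : ∃ N : ℕ, N = T.sup n0 := ⟨_, rfl⟩
  have h1' : ∀ x : T, ∃ tx : Γ(F, W x), res F (X.basicOpen_le (f x)) tx =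
      resf (X.basicOpen_le (f x)) (f x) ^ N • res F ((hbo x).le.trans inf_le_left) t := by
    intro x
    have hle : n0 x ≤ N := hN ▸ Finset.le_sup x.2
    obtain ⟨k, hk⟩ := Nat.exists_eq_add_of_le hle
    refine ⟨(f x) ^ k • t0 x, ?_⟩
    rw [res_smul, ht0, resf_pow, ← mul_smul, ← pow_add, hk, add_comm]
  choose t1 ht1 using h1'
  -- Step 2 : compatibility
  have hc : ∀ x y : T, IsCompact ((W x ⊓ W y : X.Opens) : Set X) := fun x y =>
    QuasiSeparatedSpace.inter_isCompact _ _ (W x).2 (hWaff x).isCompact (W y).2 (hWaff y).isCompact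
  have h2 : ∀ x y : T, ∃ m : ℕ, ∀ k, m ≤ k →
      tw F L (W x ⊓ W y) (res F inf_le_left (f x ^ k • t1 x)) (res L inf_le_left (e x)) (N + k) =
      tw F L (W x ⊓ W y) (res F inf_le_right (f y ^ k • t1 y)) (res L inf_le_right (e y)) (N + k) := fun x y =>
    exists_compat F L s t (hc x y) (e x) (e y) (f x) (f y) (hval x) (hval y) (hgen y) (hbo x) (hbo y) N
      (t1 x) (t1 y) (ht1 x) (ht1 y)
  choose m hm using h2
  obtain ⟨M₀, hM₀⟩ : ∃ M : ℕ, M = (Finset.univ : Finset (T × T)).sup (fun p => m p.1 p.2) + 1 := ⟨_, rfl⟩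
  have hmM₀ : ∀ x y : T, m x y ≤ M₀ := fun x y => by
    rw [hM₀]
    exact (Finset.le_sup (f := fun p : T × T => m p.1 p.2) (Finset.mem_univ (x, y))).trans (Nat.le_succ _)
  refine ⟨N + M₀, fun n hn => ?_⟩
  obtain ⟨M, rfl⟩ : ∃ M, n = N + M := ⟨n - N, by omega⟩
  have hmM : ∀ x y : T, m x y ≤ M := fun x y => (hmM₀ x y).trans (by omega)
  -- Step 3 : glue
  have hcompat : TopCat.Presheaf.IsCompatible (modSheaf (CohB1.tensorMod F (CohB1.tensorPow L (N + M)))).1
      (fun x : T => W x) (fun x => tw F L (W x) (f x ^ M • t1 x) (e x) (N + M)) := by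
    intro x y
    change res _ (inf_le_left : W x ⊓ W y ≤ W x) (tw F L (W x) (f x ^ M • t1 x) (e x) (N + M)) =
      res _ (inf_le_right : W x ⊓ W y ≤ W y) (tw F L (W y) (f y ^ M • t1 y) (e y) (N + M))
    rw [res_tw, res_tw]
    exact hm x y M (hmM x y)
  obtain ⟨t', ht'⟩ : ∃ t' : Γ(CohB1.tensorMod F (CohB1.tensorPow L (N + M)), ⊤), ∀ x : T,
      res _ (le_top : W x ≤ ⊤) t' = tw F L (W x) (f x ^ M • t1 x) (e x) (N + M) := by
    obtain ⟨t', ht', -⟩ := (modSheaf (CohB1.tensorMod F (CohB1.tensorPow L (N + M)))).existsUnique_gluing'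
      (fun x : T => W x) ⊤ (fun x => homOfLE le_top) hT _ hcompat
    exact ⟨t', ht'⟩
  refine ⟨t', ?_⟩
  -- Step 4 : check on the cover of `X_s`
  have hcov : CohB1.genLocus L s ≤ ⨆ x : T, X.basicOpen (f x) := by
    intro y hy
    obtain ⟨x, hx⟩ := Opens.mem_iSup.1 (hT (show y ∈ (⊤ : X.Opens) from trivial))
    refine Opens.mem_iSup.2 ⟨x, ?_⟩
    rw [hbo]
    exact ⟨hy, hx⟩
  refine (modSheaf _).eq_of_locally_eq' (fun x : T => X.basicOpen (f x)) _
    (fun x => homOfLE ((hbo x).le.trans inf_le_left)) hcov _ _ (fun x => ?_)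
  have hx' : res _ (le_top : W x ≤ ⊤) t' = tw F L (W x) (f x ^ M • t1 x) (e x) (N + M) := ht' x
  change res _ ((hbo x).le.trans inf_le_left) (res _ (le_top : CohB1.genLocus L s ≤ ⊤) t') =
    res _ ((hbo x).le.trans inf_le_left) (tw F L (CohB1.genLocus L s) t (sv s _) (N + M))
  have e1 : res _ ((hbo x).le.trans inf_le_left) (res _ (le_top : CohB1.genLocus L s ≤ ⊤) t') =
      res _ (X.basicOpen_le (f x)) (res _ (le_top : W x ≤ ⊤) t') := by
    rw [res_res, res_res]
  rw [e1, hx', res_tw, res_tw, res_smul, ht1, resf_pow, ← mul_smul, ← pow_add, add_comm M N, ← tw_smul, res_sv,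
    ← res_smul, ← hval, res_sv]

/-- the submodule of sections over `B` spanned by the global sections -/
noncomputable def gspan (M : X.Modules) (B : X.Opens) : Submodule Γ(X, B) Γ(M, B) :=
  Submodule.span Γ(X, B) (Set.range (fun σ : Coh.structureModule X ⟶ M => sv σ B))

theorem sv_mem_gspan (M : X.Modules) (σ : Coh.structureModule X ⟶ M) (B : X.Opens) : sv σ B ∈ gspan M B :=
  Submodule.subset_span ⟨σ, rfl⟩

theorem res_mem_gspan (M : X.Modules) {B B' : X.Opens} (h : B' ≤ B) {m : Γ(M, B)} (hm : m ∈ gspan M B) :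
    res M h m ∈ gspan M B' := by
  induction hm using Submodule.span_induction with
  | mem x hx =>
    obtain ⟨σ, rfl⟩ := hx
    rw [res_sv]
    exact sv_mem_gspan M σ B'
  | zero => rw [res_zero]; exact zero_mem _
  | add x y _ _ hx hy => rw [res_add']; exact add_mem hx hy
  | smul r x _ hx => rw [res_smul]; exact Submodule.smul_mem _ _ hx

theorem app_mem_gspan {M M' : X.Modules} (Φ : M ⟶ M') {B : X.Opens} {m : Γ(M, B)} (hm : m ∈ gspan M B) :
    Φ.app B m ∈ gspan M' B := by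
  induction hm using Submodule.span_induction with
  | mem x hx =>
    obtain ⟨σ, rfl⟩ := hx
    have h1 : Φ.app B (sv σ B) = sv (σ ≫ Φ) B := rfl
    rw [h1]
    exact sv_mem_gspan M' (σ ≫ Φ) B
  | zero => rw [map_zero]; exact zero_mem _
  | add x y _ _ hx hy => rw [map_add]; exact add_mem hx hy
  | smul r x _ hx => rw [Scheme.Modules.Hom.app_smul]; exact Submodule.smul_mem _ _ hx

theorem tm_mem_gspan (M N : X.Modules) {B : X.Opens} {a : Γ(M, B)} {b : Γ(N, B)} (ha : a ∈ gspan M B)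
    (hb : b ∈ gspan N B) : tm M N B a b ∈ gspan (CohB1.tensorMod M N) B := by
  induction ha using Submodule.span_induction with
  | mem x hx =>
    obtain ⟨σ, rfl⟩ := hx
    induction hb using Submodule.span_induction with
    | mem y hy =>
      obtain ⟨τ, rfl⟩ := hy
      rw [← sv_tmulHom]
      exact sv_mem_gspan _ _ B
    | zero => rw [tm_zero_right]; exact zero_mem _
    | add y y' _ _ hy hy' => rw [tm_add_right]; exact add_mem hy hy'
    | smul r y _ hy => rw [tm_smul_right]; exact Submodule.smul_mem _ _ hy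
  | zero => rw [tm_zero_left]; exact zero_mem _
  | add x x' _ _ hx hx' => rw [tm_add_left]; exact add_mem hx hx'
  | smul r x _ hx => rw [tm_smul_left]; exact Submodule.smul_mem _ _ hx

/-- `M` is generated by its global sections over the open `V` -/
def LocGen (M : X.Modules) (V : X.Opens) : Prop :=
  ∀ (A : X.Opens) (_ : A ≤ V) (m : Γ(M, A)) (y : X), y ∈ A →
    ∃ (B : X.Opens) (hB : B ≤ A), y ∈ B ∧ res M hB m ∈ gspan M B

theorem LocGen.mono {M : X.Modules} {V V' : X.Opens} (h : LocGen M V) (hle : V' ≤ V) : LocGen M V' :=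
  fun A hA m y hy => h A (hA.trans hle) m y hy

theorem LocGen.of_iso {M M' : X.Modules} (Φ : M ≅ M') {V : X.Opens} (h : LocGen M V) : LocGen M' V := by
  intro A hA m' y hy
  obtain ⟨B, hB, hyB, hmem⟩ := h A hA (Φ.inv.app A m') y hy
  refine ⟨B, hB, hyB, ?_⟩
  have h1 := app_mem_gspan Φ.hom hmem
  have h2 : Φ.hom.app B (res M hB (Φ.inv.app A m')) = res M' hB m' := by
    rw [app_map Φ.hom (homOfLE hB)]
    have h3 : Φ.hom.app A (Φ.inv.app A m') = m' := by
      change (Φ.inv ≫ Φ.hom).app A m' = m'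
      rw [Iso.inv_hom_id]
      rfl
    rw [h3]
  rw [← h2]
  exact h1

section general
open TensorProduct MonoidalCategory
variable {C : Type*} [Category C] {R : Cᵒᵖ ⥤ CommRingCat.{u}}
variable (P Q : PresheafOfModules.{u} (R ⋙ forget₂ CommRingCat RingCat)) (Z : Cᵒᵖ)

theorem pt_induction {motive : ↑((P ⊗ Q).obj Z) → Prop} (zero : motive 0)
    (tmul : ∀ p q, motive (pt P Q Z p q)) (add : ∀ a b, motive a → motive b → motive (a + b))
    (t : ↑((P ⊗ Q).obj Z)) : motive t :=
  TensorProduct.induction_on (R := R.obj Z) (M := P.obj Z) (N := Q.obj Z) t zero tmul add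

end general

theorem toT_zero (M N : X.Modules) (V : X.Opens) : toT M N V 0 = 0 := map_zero _

theorem toT_add (M N : X.Modules) (V : X.Opens) (p p' : PreSec M N V) :
    toT M N V (p + p') = toT M N V p + toT M N V p' := map_add _ _ _

theorem LocGen.tensor {M N : X.Modules} {V : X.Opens} (hM : LocGen M V) (hN : LocGen N V) :
    LocGen (CohB1.tensorMod M N) V := by
  intro A hA t y hy
  obtain ⟨V', hV', p, hyV', hp⟩ := locSurj M N A t y hy
  have key : ∀ p : PreSec M N V', ∃ (B : X.Opens) (hB : B ≤ V'), y ∈ B ∧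
      res (CohB1.tensorMod M N) hB (toT M N V' p) ∈ gspan (CohB1.tensorMod M N) B := by
    intro p
    have hzero : ∃ (B : X.Opens) (hB : B ≤ V'), y ∈ B ∧
        res (CohB1.tensorMod M N) hB (toT M N V' (0 : PreSec M N V')) ∈ gspan (CohB1.tensorMod M N) B := by
      refine ⟨V', le_rfl, hyV', ?_⟩
      rw [toT_zero, res_zero]
      exact zero_mem _
    have htmul : ∀ (m : Γ(M, V')) (n : Γ(N, V')), ∃ (B : X.Opens) (hB : B ≤ V'), y ∈ B ∧
        res (CohB1.tensorMod M N) hB (tm M N V' m n) ∈ gspan (CohB1.tensorMod M N) B := by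
      intro m n
      obtain ⟨B₁, hB₁, hyB₁, h1⟩ := hM V' (hV'.trans hA) m y hyV'
      obtain ⟨B₂, hB₂, hyB₂, h2⟩ := hN V' (hV'.trans hA) n y hyV'
      refine ⟨B₁ ⊓ B₂, inf_le_left.trans hB₁, ⟨hyB₁, hyB₂⟩, ?_⟩
      rw [res_tm]
      refine tm_mem_gspan M N ?_ ?_
      · rw [← res_res M hB₁ inf_le_left]
        exact res_mem_gspan M _ h1
      · rw [← res_res N hB₂ inf_le_right]
        exact res_mem_gspan N _ h2
    have hadd : ∀ a b : PreSec M N V',
        (∃ (B : X.Opens) (hB : B ≤ V'), y ∈ B ∧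
          res (CohB1.tensorMod M N) hB (toT M N V' a) ∈ gspan (CohB1.tensorMod M N) B) →
        (∃ (B : X.Opens) (hB : B ≤ V'), y ∈ B ∧
          res (CohB1.tensorMod M N) hB (toT M N V' b) ∈ gspan (CohB1.tensorMod M N) B) →
        ∃ (B : X.Opens) (hB : B ≤ V'), y ∈ B ∧
          res (CohB1.tensorMod M N) hB (toT M N V' (a + b)) ∈ gspan (CohB1.tensorMod M N) B := by
      rintro a b ⟨B₁, hB₁, hyB₁, h1⟩ ⟨B₂, hB₂, hyB₂, h2⟩
      refine ⟨B₁ ⊓ B₂, inf_le_left.trans hB₁, ⟨hyB₁, hyB₂⟩, ?_⟩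
      rw [toT_add, res_add']
      refine add_mem ?_ ?_
      · rw [← res_res _ hB₁ inf_le_left]
        exact res_mem_gspan _ _ h1
      · rw [← res_res _ hB₂ inf_le_right]
        exact res_mem_gspan _ _ h2
    exact pt_induction (CohB1.toPMod M) (CohB1.toPMod N) (op V')
      (motive := fun p => ∃ (B : X.Opens) (hB : B ≤ V'), y ∈ B ∧
        res (CohB1.tensorMod M N) hB (toT M N V' p) ∈ gspan (CohB1.tensorMod M N) B) hzero htmul hadd p
  obtain ⟨B, hB, hyB, hmem⟩ := key p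
  refine ⟨B, hB.trans hV', hyB, ?_⟩
  rw [← res_res _ hV' hB, ← hp]
  exact hmem

/-- over `X_s`, the module `L` is generated by the global section `s` -/
theorem locGen_genLocus (L : X.Modules) (s : Coh.structureModule X ⟶ L) : LocGen L (CohB1.genLocus L s) := by
  intro A hA m y hy
  refine ⟨A, le_rfl, hy, ?_⟩
  have hgen := isGen_sv_genLocus L s
  obtain ⟨r, hr⟩ := (hgen A hA).2 m
  have h1 : res L (le_refl A) m = m := res_self L m
  rw [h1, ← hr, res_sv]
  exact Submodule.smul_mem _ _ (sv_mem_gspan L s A)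

theorem exists_app_eq_of_mem_gspan {Fm N : X.Modules} (p : Fm ⟶ N)
    (hp : ∀ σ : Coh.structureModule X ⟶ N, ∃ ι : Coh.structureModule X ⟶ Fm, ι ≫ p = σ) {B : X.Opens}
    {m : Γ(N, B)} (hm : m ∈ gspan N B) : ∃ a, p.app B a = m := by
  induction hm using Submodule.span_induction with
  | mem x hx =>
    obtain ⟨σ, rfl⟩ := hx
    obtain ⟨ι, hι⟩ := hp σ
    refine ⟨ι.app B (toS B 1), ?_⟩
    exact congrArg (fun φ : Coh.structureModule X ⟶ N => φ.app B (toS B 1)) hι
  | zero => exact ⟨0, map_zero _⟩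
  | add x y _ _ hx hy =>
    obtain ⟨a, ha⟩ := hx
    obtain ⟨b, hb⟩ := hy
    exact ⟨a + b, by rw [map_add, ha, hb]⟩
  | smul r x _ hx =>
    obtain ⟨a, ha⟩ := hx
    exact ⟨r • a, by rw [Scheme.Modules.Hom.app_smul, ha]⟩

/-- a module generated by global sections near every point is globally generated -/
theorem isGloballyGenerated_of_locGen (N : X.Modules) (h : ∀ x : X, ∃ V : X.Opens, x ∈ V ∧ LocGen N V) :
    Curv2.IsGloballyGenerated N := by
  let p : (SheafOfModules.free (Coh.structureModule X ⟶ N) : X.Modules) ⟶ N :=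
    Sigma.desc (C := SheafOfModules X.ringCatSheaf) (fun s : (Coh.structureModule X ⟶ N) => s)
  have hp : ∀ s : Coh.structureModule X ⟶ N,
      (show Coh.structureModule X ⟶ (SheafOfModules.free (Coh.structureModule X ⟶ N) : X.Modules) from
        SheafOfModules.ιFree (R := X.ringCatSheaf) s) ≫ p = s := fun s =>
    Sigma.ι_desc (C := SheafOfModules X.ringCatSheaf) (fun s : (Coh.structureModule X ⟶ N) => s) s
  refine ⟨(Coh.structureModule X ⟶ N), p, ?_⟩
  apply Groth.Agent.Lib.Helper23.Serre.epi_of_locally_surjective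
  intro V t x hxV
  obtain ⟨V₀, hxV₀, hgen⟩ := h x
  obtain ⟨B, hB, hxB, hmem⟩ := hgen (V ⊓ V₀) inf_le_right (res N inf_le_left t) x ⟨hxV, hxV₀⟩
  refine ⟨B, hB.trans inf_le_left, hxB, ?_⟩
  have key : ∀ m ∈ gspan N B, ∃ a, Scheme.Modules.Hom.app p B a = m := fun m hm =>
    exists_app_eq_of_mem_gspan p (fun σ => ⟨_, hp σ⟩) hm
  obtain ⟨a, ha⟩ := key _ hmem
  refine ⟨a, ?_⟩
  rw [ha, res_res]

theorem tw_add_left (F L : X.Modules) (U : X.Opens) (t t' : Γ(F, U)) (e : Γ(L, U)) (n : ℕ) :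
    tw F L U (t + t') e n = tw F L U t e n + tw F L U t' e n :=
  tm_add_left _ _ _ _ _ _

open Groth.Agent.Lib.Helper2.Push Groth.Agent.Lib.Helper23.FinType in
/-- on an affine `X_s`, the twists `F ⊗ P^N` of a finite type quasi-coherent module are generated by global sections
for all large `N` -/
theorem exists_locGen_twist [CompactSpace X] [QuasiSeparatedSpace X] (P : X.Modules) (hP : PicF.IsInvertible P)
    (s : Coh.structureModule X ⟶ P) (haff : IsAffineOpen (CohB1.genLocus P s))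
    (F : X.Modules) [F.IsQuasicoherent] [SheafOfModules.IsFiniteType (R := X.ringCatSheaf) F] :
    ∃ N₀ : ℕ, ∀ N, N₀ ≤ N → LocGen (CohB1.tensorMod F (CohB1.tensorPow P N)) (CohB1.genLocus P s) := by
  classical
  have hfin : Module.Finite Γ(X, CohB1.genLocus P s) Γ(F, CohB1.genLocus P s) := finite_of_isFiniteType F haff
  obtain ⟨T, hT⟩ := hfin.fg_top
  have hext := fun τ : Γ(F, CohB1.genLocus P s) => main_eventually X P hP s F τ
  choose n₀ hn₀ using hext
  refine ⟨T.sup n₀, fun N hN => ?_⟩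
  have hloc : IsLocOn F (CohB1.genLocus P s) := IsLocOn.of_isQuasicoherent haff F
  have hgen : IsGen (CohB1.tensorPow P N) (CohB1.genLocus P s) (pw P _ (sv s _) N) :=
    isGen_pw P _ _ (isGen_sv_genLocus P s) N
  -- Claim A
  have hA : ∀ t₀ : Γ(F, CohB1.genLocus P s), tw F P _ t₀ (sv s _) N ∈
      gspan (CohB1.tensorMod F (CohB1.tensorPow P N)) (CohB1.genLocus P s) := by
    intro t₀
    have h0 : t₀ ∈ Submodule.span Γ(X, CohB1.genLocus P s) (T : Set Γ(F, CohB1.genLocus P s)) := by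
      rw [hT]; trivial
    induction h0 using Submodule.span_induction with
    | mem τ hτ =>
      obtain ⟨t', ht'⟩ := hn₀ τ N ((Finset.le_sup hτ).trans hN)
      rw [← ht', ← sv_secHom]
      exact sv_mem_gspan _ _ _
    | zero => rw [tw_zero]; exact zero_mem _
    | add x y _ _ hx hy => rw [tw_add_left]; exact add_mem hx hy
    | smul r x _ hx => rw [tw_smul_left]; exact Submodule.smul_mem _ _ hx
  intro A hAU z y hy
  obtain ⟨m, hm⟩ := (bijective_tm_of_isGen F (CohB1.tensorPow P N) _ _ hgen A hAU).2 z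
  obtain ⟨f, hfA, hyf⟩ := haff.exists_basicOpen_le (V := A) ⟨y, hy⟩ (hAU hy)
  obtain ⟨n, t₀, ht₀⟩ := hloc.exists_extension f (res F hfA m)
  refine ⟨X.basicOpen f, hfA, hyf, ?_⟩
  have hunit : IsUnit (resf (X.basicOpen_le f) f) := RingedSpace.isUnit_res_basicOpen _ f
  obtain ⟨u, hu⟩ := hunit.pow n
  have h1 : res F hfA m = (↑u⁻¹ : Γ(X, X.basicOpen f)) • res F (X.basicOpen_le f) t₀ := by
    change res F (X.basicOpen_le f) t₀ = resf (X.basicOpen_le f) f ^ n • res F hfA m at ht₀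
    rw [ht₀, ← hu, ← mul_smul, Units.inv_mul, one_smul]
  have h2 : res _ hfA z = (↑u⁻¹ : Γ(X, X.basicOpen f)) •
      res _ (X.basicOpen_le f) (tw F P _ t₀ (sv s _) N) := by
    rw [← hm]
    change res _ hfA (tm F _ A m (res _ hAU (pw P _ (sv s _) N))) = _
    rw [res_tm, h1, tm_smul_left, res_res]
    congr 1
    unfold tw
    rw [res_tm]
  rw [h2]
  exact Submodule.smul_mem _ _ (res_mem_gspan _ _ (hA t₀))

/-- `(L^a)^b ⊗ L^c ≅ L^(ab+c)` -/
theorem nonempty_pow_pow_tensor_pow_iso (L : X.Modules) (hL : PicF.IsInvertible L) (a b c d : ℕ) (h : a * b + c = d) :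
    Nonempty (CohB1.tensorMod (CohB1.tensorPow (CohB1.tensorPow L a) b) (CohB1.tensorPow L c) ≅
      CohB1.tensorPow L d) := by
  subst h
  obtain ⟨Φ, -⟩ := exists_iso_of_frames
    (CohB1.tensorMod (CohB1.tensorPow (CohB1.tensorPow L a) b) (CohB1.tensorPow L c))
    (CohB1.tensorPow L (a * b + c))
    (fun p : Fr L => p.1.1)
    (fun x => by
      obtain ⟨W, e, hxW, he⟩ := exists_gen L hL x
      exact ⟨⟨⟨W, e⟩, he⟩, hxW⟩)
    (fun p => tm _ _ _ (pw (CohB1.tensorPow L a) p.1.1 (pw L p.1.1 p.1.2 a) b) (pw L p.1.1 p.1.2 c))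
    (fun p => pw L p.1.1 p.1.2 (a * b + c))
    (fun p => isGen_tm _ _ _ _ _ (isGen_pw _ _ _ (isGen_pw L _ _ p.2 a) b) (isGen_pw L _ _ p.2 c))
    (fun p => isGen_pw L _ _ p.2 (a * b + c))
    (fun p q => by
      obtain ⟨γ, hγ⟩ := exists_transition' p.1.2 q.2
      refine cocycle_of_transition (isGen_tm _ _ _ _ _ (isGen_pw _ _ _ (isGen_pw L _ _ q.2 a) b) (isGen_pw L _ _ q.2 c))
        ((γ ^ a) ^ b * γ ^ c) ?_ ?_
      · rw [res_tm, res_pw, res_pw, res_pw, hγ, pw_smul, pw_smul, pw_smul, tm_smul_smul, res_tm, res_pw, res_pw,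
          res_pw]
      · rw [res_pw, hγ, pw_smul, res_pw, pow_add, pow_mul])
  exact ⟨Φ⟩

/-- associativity of the tensor product of modules -/
noncomputable def tensorAssoc (F G H : X.Modules) :
    CohB1.tensorMod (CohB1.tensorMod F G) H ≅ CohB1.tensorMod F (CohB1.tensorMod G H) :=
  Groth.Agent.Lib.Helper21.ModTensor6.assocIso X.sheaf F.val G.val H.val

open Groth.Agent.Lib.Helper23.TensorUnit in
/-- near every point, all large twists `F ⊗ L^n` are generated by global sections -/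
theorem exists_locGen_nhd (L : X.Modules) (hL : CohB1.IsAmple L) (F : X.Modules) [F.IsQuasicoherent]
    [SheafOfModules.IsFiniteType (R := X.ringCatSheaf) F] (x : X) :
    ∃ (V : X.Opens) (n₀ : ℕ), x ∈ V ∧
      ∀ n, n₀ ≤ n → LocGen (CohB1.tensorMod F (CohB1.tensorPow L n)) V := by
  haveI := hL.2.1
  haveI := quasiSeparatedSpace_of_isAmple L hL
  have hinv := hL.1
  obtain ⟨m₀, s, hxs, haff⟩ := hL.2.2 x
  have hP := isInvertible_tensorPow hinv (m₀ + 1)
  obtain ⟨N₀, hN₀⟩ := exists_locGen_twist (CohB1.tensorPow L (m₀ + 1)) hP s haff F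
  obtain ⟨V', b₀, hxV', hb₀⟩ := exists_sections_eventually L hL (Coh.structureModule X)
    (isInvertible_structureModule X) {x} (Set.finite_singleton x)
  refine ⟨CohB1.genLocus _ s ⊓ V', (m₀ + 1) * N₀ + b₀, ⟨hxs, hxV' rfl⟩, fun n hn => ?_⟩
  obtain ⟨q, hq⟩ : ∃ q, q = (n - b₀) / (m₀ + 1) := ⟨_, rfl⟩
  obtain ⟨b, hb⟩ : ∃ b, b = b₀ + (n - b₀) % (m₀ + 1) := ⟨_, rfl⟩
  have hdm := Nat.div_add_mod (n - b₀) (m₀ + 1)
  have hn' : (m₀ + 1) * q + b = n := by
    rw [hq, hb]; omega
  have hqN : N₀ ≤ q := by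
    rw [hq, Nat.le_div_iff_mul_le (show 0 < m₀ + 1 by omega), mul_comm]
    omega
  have hbb : b₀ ≤ b := by rw [hb]; omega
  have h1 : LocGen (CohB1.tensorMod F (CohB1.tensorPow (CohB1.tensorPow L (m₀ + 1)) q)) (CohB1.genLocus _ s) :=
    hN₀ q hqN
  obtain ⟨u, hu⟩ := hb₀ b hbb
  have h2 : LocGen (CohB1.tensorPow L b) V' :=
    ((locGen_genLocus _ u).mono hu).of_iso (unitTensorIso _)
  have h3 := (h1.mono (inf_le_left : CohB1.genLocus _ s ⊓ V' ≤ _)).tensor (h2.mono inf_le_right)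
  obtain ⟨Ψ⟩ := nonempty_pow_pow_tensor_pow_iso L hinv (m₀ + 1) q b n hn'
  exact h3.of_iso (tensorAssoc _ _ _ ≪≫ tensorModIso (Iso.refl F) Ψ)

/-- **Global generation of large twists**: for `L` ample and `F` quasi-coherent of finite type, `F ⊗ L^n` is globally
generated for all large `n`. -/
theorem isGloballyGenerated_twist_eventually (L : X.Modules) (hL : CohB1.IsAmple L) (F : X.Modules)
    [F.IsQuasicoherent] [SheafOfModules.IsFiniteType (R := X.ringCatSheaf) F] :
    ∃ n₀ : ℕ, ∀ n, n₀ ≤ n → Curv2.IsGloballyGenerated (CohB1.tensorMod F (CohB1.tensorPow L n)) := by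
  haveI := hL.2.1
  choose V N hxV hN using exists_locGen_nhd L hL F
  obtain ⟨T, hT⟩ : ∃ T : Finset X, (Set.univ : Set X) ⊆ ⋃ x ∈ T, (V x : Set X) :=
    isCompact_univ.elim_finite_subcover (fun x => (V x : Set X)) (fun x => (V x).2)
      (fun x _ => Set.mem_iUnion.2 ⟨x, hxV x⟩)
  refine ⟨T.sup N, fun n hn => isGloballyGenerated_of_locGen _ (fun y => ?_)⟩
  obtain ⟨x, hx⟩ := Set.mem_iUnion.1 (hT (Set.mem_univ y))
  obtain ⟨hxT, hyx⟩ := Set.mem_iUnion.1 hx
  exact ⟨V x, hyx, hN x n ((Finset.le_sup hxT).trans hn)⟩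

end Groth.Agent.Lib.Helper23.LocGen
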