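import Mathlib
import Groth.Prelude.Def_ModSite
import Groth.Prelude.Def_CohB1
import Groth.Agent.Lib.Helper21ModTensor7
import Groth.Agent.S0485

/-!
# Helper27: `Ext` and tensoring with an invertible module

* `subsingleton_ext_of_iso` : vanishing of `Ext^i` is invariant under isomorphisms of the arguments;
* `subsingleton_ext_sigma` : `Ext^i(∐ f, B) = 0` if every `Ext^i(f j, B) = 0` (finite coproduct);
* `tLEquiv` : `L ⊗ -` is an equivalence when `L` has a tensor inverse;
* `subsingleton_ext_of_tensor` : `Ext^i(A, B) = 0` if `Ext^i(L ⊗ A, L ⊗ B) = 0`, `L` invertible.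
-/

set_option autoImplicit false
universe u
open CategoryTheory Limits Opposite Abelian

namespace Groth.Agent.Lib.Helper27ExtTwist1

section General

attribute [local instance] Abelian.hasFiniteBiproducts

variable {𝒜 : Type*} [Category 𝒜] [Abelian 𝒜] [HasExt.{u} 𝒜]

theorem subsingleton_ext_of_iso {A A' B B' : 𝒜} (e : A ≅ A') (e' : B ≅ B') (i : ℕ)
    (h : Subsingleton (Ext.{u} A B i)) : Subsingleton (Ext.{u} A' B' i) := by
  refine ⟨fun x y => ?_⟩
  have key : ∀ z : Ext.{u} A' B' i, z = (Ext.mk₀ e.inv).comp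
      ((((Ext.mk₀ e.hom).comp z (zero_add i)).comp (Ext.mk₀ e'.inv) (add_zero i)).comp
        (Ext.mk₀ e'.hom) (add_zero i)) (zero_add i) := by
    intro z
    rw [Ext.comp_assoc_of_third_deg_zero, Ext.mk₀_comp_mk₀, e'.inv_hom_id, Ext.comp_mk₀_id,
      Ext.mk₀_comp_mk₀_assoc, e.inv_hom_id, Ext.mk₀_id_comp]
  rw [key x, key y]
  congr 2
  exact Subsingleton.elim _ _

theorem subsingleton_ext_sigma {r : ℕ} (f : Fin r → 𝒜) (B : 𝒜) (i : ℕ)
    (h : ∀ j, Subsingleton (Ext.{u} (f j) B i)) : Subsingleton (Ext.{u} (∐ f) B i) := by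
  have hz : ∀ x : Ext.{u} (∐ f) B i, x = 0 := by
    intro x
    let φ : ((∐ f) ⟶ (∐ f)) →+ Ext.{u} (∐ f) B i :=
      { toFun := fun g => (Ext.mk₀ g).comp x (zero_add i)
        map_zero' := by rw [Ext.mk₀_zero, Ext.zero_comp]
        map_add' := fun g g' => by rw [Ext.mk₀_add, Ext.add_comp] }
    have h1 : φ (𝟙 _) = x := Ext.mk₀_id_comp x
    have hsum : ∑ j, (biproduct.isoCoproduct f).inv ≫ biproduct.π f j ≫ Sigma.ι f j = 𝟙 (∐ f) := by
      have h1 : ∀ j, Sigma.ι f j = biproduct.ι f j ≫ (biproduct.isoCoproduct f).hom := by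
        intro j
        rw [biproduct.isoCoproduct_hom, biproduct.ι_desc]
      have h2 : ∀ j, (biproduct.isoCoproduct f).inv ≫ biproduct.π f j ≫ Sigma.ι f j =
          (biproduct.isoCoproduct f).inv ≫ (biproduct.π f j ≫ biproduct.ι f j) ≫
            (biproduct.isoCoproduct f).hom := by
        intro j
        rw [h1 j, Category.assoc]
      simp_rw [h2]
      rw [← Preadditive.comp_sum, ← Preadditive.sum_comp, biproduct.total, Category.id_comp,
        Iso.inv_hom_id]
    rw [← h1, ← hsum, map_sum]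
    refine Finset.sum_eq_zero fun j _ => ?_
    change (Ext.mk₀ ((biproduct.isoCoproduct f).inv ≫ biproduct.π f j ≫ Sigma.ι f j)).comp x
      (zero_add i) = 0
    rw [← Category.assoc, ← Ext.mk₀_comp_mk₀, Ext.comp_assoc_of_second_deg_zero]
    haveI := h j
    have : (Ext.mk₀ (Sigma.ι f j)).comp x (zero_add i) = 0 := Subsingleton.elim _ _
    rw [this, Ext.comp_zero]
  exact ⟨fun x y => (hz x).trans (hz y).symm⟩

end General

section Tensor

open Groth.Agent.Lib.Helper21.ModTensor Groth.Agent.Lib.Helper21.ModTensor2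
  Groth.Agent.Lib.Helper21.ModTensor3 Groth.Agent.Lib.Helper21.ModTensor5
  Groth.Agent.Lib.Helper21.ModTensor6 Groth.Agent.Lib.Helper21.ModTensor7

variable {C : Type u} [SmallCategory C] {J : GrothendieckTopology C} (O : Sheaf J CommRingCat.{u})

/-- `L ⊗ -` as an equivalence, for `L` with tensor inverse `L'`. -/
noncomputable def tLEquiv (L L' : ModSite.Mod O)
    (e : ((ModSite.tensorBi O).obj L).obj L' ≅ ModSite.unit O)
    (e' : ((ModSite.tensorBi O).obj L').obj L ≅ ModSite.unit O) :
    ModSite.Mod O ≌ ModSite.Mod O :=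
  CategoryTheory.Equivalence.mk (tL O L) (tL O L')
    ((tLTensorIso O L' L).symm ≪≫ (ModSite.tensorBi O).mapIso e' ≪≫ tLUnitIso O).symm
    ((tLTensorIso O L L').symm ≪≫ (ModSite.tensorBi O).mapIso e ≪≫ tLUnitIso O)

theorem tLEquiv_functor (L L' : ModSite.Mod O)
    (e : ((ModSite.tensorBi O).obj L).obj L' ≅ ModSite.unit O)
    (e' : ((ModSite.tensorBi O).obj L').obj L ≅ ModSite.unit O) :
    (tLEquiv O L L' e e').functor = tL O L := rfl

/-- `Ext^i(A, B) = 0` if `Ext^i(L ⊗ A, L ⊗ B) = 0`, for `L` with a tensor inverse. -/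
theorem subsingleton_ext_of_tensor [HasExt.{u} (ModSite.Mod O)] (L L' : ModSite.Mod O)
    (e : ((ModSite.tensorBi O).obj L).obj L' ≅ ModSite.unit O)
    (e' : ((ModSite.tensorBi O).obj L').obj L ≅ ModSite.unit O) (A B : ModSite.Mod O) (i : ℕ)
    (h : Subsingleton (Ext.{u} (((ModSite.tensorBi O).obj L).obj A)
      (((ModSite.tensorBi O).obj L).obj B) i)) :
    Subsingleton (Ext.{u} A B i) := by
  have : EnoughInjectives (ModSite.Mod O) := Groth.Agent.S0485.result J _
  let E := tLEquiv O L L' e e'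
  haveI : (tL O L).IsEquivalence := E.isEquivalence_functor
  haveI : (tL O L').IsEquivalence := E.isEquivalence_inverse
  haveI : (tL O L).PreservesInjectiveObjects :=
    Functor.preservesInjectiveObjects_of_adjunction_of_preservesMonomorphisms
      E.symm.toAdjunction
  have hbij := Functor.mapExt_bijective_of_preservesInjectiveObjects.{u, u} (tL O L) A B i
  exact hbij.1.subsingleton

end Tensor

end Groth.Agent.Lib.Helper27ExtTwist1
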