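import Mathlib
import Groth.Agent.Lib.Helper23RestrTensor
import Groth.Agent.Lib.Helper23PB
import Groth.Agent.Lib.Helper27ExtTwist1
set_option backward.isDefEq.respectTransparency.types false

/-!
# The projection formula for a module with a tensor inverse (helper27)

For `f : X ⟶ Y`, `L, L'` on `Y` with `L ⊗ L' ≅ O_Y`, `L' ⊗ L ≅ O_Y`, and any `G` on `X`:
`f_*(f^*L ⊗ G) ≅ L ⊗ f_*G` and `f_*(G ⊗ f^*L) ≅ f_*G ⊗ L`.

The isomorphism comes from uniqueness of right adjoints: both `f_* ⋙ (L ⊗ -)` and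
`(f^*L ⊗ -) ⋙ f_*` are right adjoint to `(L' ⊗ -) ⋙ f^* ≅ f^* ⋙ (f^*L' ⊗ -)`.
-/

set_option autoImplicit false
universe u
open CategoryTheory CategoryTheory.Limits AlgebraicGeometry

namespace Groth.Agent.Lib.Helper27ProjFormula

open Groth.Agent.Lib.Helper1.PT Groth.Agent.Lib.Helper27ExtTwist1
  Groth.Agent.Lib.Helper21.ModTensor3 Groth.Agent.Lib.Helper21.ModTensor5
  Groth.Agent.Lib.Helper23.RestrTensor Groth.Agent.Lib.Helper23.PB

variable {X Y : Scheme.{u}} (f : X ⟶ Y)

/-- left tensoring functor `N ⊗ -`. -/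
noncomputable abbrev TL (Z : Scheme.{u}) (N : Z.Modules) : Z.Modules ⥤ Z.Modules :=
  DCoh.tensorBi.obj N

/-- `f^*(N ⊗ A) ≅ f^*N ⊗ f^*A`, naturally in `A`. -/
noncomputable def plbTLIso (N : Y.Modules) :
    TL Y N ⋙ plb f ≅ plb f ⋙ TL X ((plb f).obj N) :=
  NatIso.ofComponents (fun A => asIso (delta f N A))
    (fun φ => delta_naturality_right f N φ)

/-- the adjunction `(L' ⊗ -) ⊣ (L ⊗ -)` for mutually inverse `L`, `L'`. -/
noncomputable def adjTL {Z : Scheme.{u}} (L L' : Z.Modules)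
    (e : CohB1.tensorMod L L' ≅ Coh.structureModule Z)
    (e' : CohB1.tensorMod L' L ≅ Coh.structureModule Z) : TL Z L' ⊣ TL Z L :=
  (tLEquiv Z.sheaf L L' e e').symm.toAdjunction

/-- pulling back a tensor inverse. -/
noncomputable def plbInv (L L' : Y.Modules) (e : CohB1.tensorMod L L' ≅ Coh.structureModule Y) :
    CohB1.tensorMod ((plb f).obj L) ((plb f).obj L') ≅ Coh.structureModule X :=
  (pullbackTensorIso L L' f).symm ≪≫ (plb f).mapIso e ≪≫ pullbackUnitIso f

variable (L L' : Y.Modules) (e : CohB1.tensorMod L L' ≅ Coh.structureModule Y)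
  (e' : CohB1.tensorMod L' L ≅ Coh.structureModule Y)

/-- the projection formula, as a natural isomorphism of functors. -/
noncomputable def projIsoL :
    psh f ⋙ TL Y L ≅ TL X ((plb f).obj L) ⋙ psh f :=
  let adj₁ : TL Y L' ⋙ plb f ⊣ psh f ⋙ TL Y L := (adjTL L L' e e').comp (ppAdj f)
  let adj₂ : plb f ⋙ TL X ((plb f).obj L') ⊣ TL X ((plb f).obj L) ⋙ psh f :=
    (ppAdj f).comp (adjTL ((plb f).obj L) ((plb f).obj L') (plbInv f L L' e) (plbInv f L' L e'))
  adj₁.rightAdjointUniq (adj₂.ofNatIsoLeft (plbTLIso f L').symm)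

/-- the projection formula `L ⊗ f_*G ≅ f_*(f^*L ⊗ G)`. -/
noncomputable def projIsoLApp (G : X.Modules) :
    CohB1.tensorMod L ((Scheme.Modules.pushforward f).obj G) ≅
      (Scheme.Modules.pushforward f).obj
        (CohB1.tensorMod ((Scheme.Modules.pullback f).obj L) G) :=
  (projIsoL f L L' e e').app G

/-- the projection formula `f_*(G ⊗ f^*L) ≅ f_*G ⊗ L`. -/
noncomputable def projIsoR (G : X.Modules) :
    (Scheme.Modules.pushforward f).obj
        (CohB1.tensorMod G ((Scheme.Modules.pullback f).obj L)) ≅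
      CohB1.tensorMod ((Scheme.Modules.pushforward f).obj G) L :=
  (Scheme.Modules.pushforward f).mapIso
      (brdApp X.sheaf G ((Scheme.Modules.pullback f).obj L)) ≪≫
    (projIsoLApp f L L' e e' G).symm ≪≫
    brdApp Y.sheaf L ((Scheme.Modules.pushforward f).obj G)

end Groth.Agent.Lib.Helper27ProjFormula
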