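import Mathlib
import Groth.Agent.Lib.Helper18Strict7
import Groth.Agent.Lib.Helper2PullbackSec2
import Groth.Agent.Lib.Helper2QcPush
import Groth.Agent.Lib.Helper2LocFree

set_option autoImplicit false
set_option linter.style.haveILetI false
universe u
open CategoryTheory CategoryTheory.Limits AlgebraicGeometry TopologicalSpace Opposite TensorProduct
open Groth.Agent.Lib.Helper2.FPAff Groth.Agent.Helper18Fitt Groth.Agent.Helper18FittSh

namespace Groth.Agent.Helper18Strict

/-- flatness of stalks is preserved by pullback. -/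
theorem isFlatAt_pullback {X X' : Scheme.{u}} (g : X' ⟶ X) (F : X.Modules) [F.IsQuasicoherent]
    (x' : X') (h : FlatMod.IsFlatAt F (g x')) :
    FlatMod.IsFlatAt ((Scheme.Modules.pullback g).obj F) x' := by
  unfold FlatMod.IsFlatAt at h ⊢
  letI : Algebra (X.presheaf.stalk (g x')) (X'.presheaf.stalk x') := (g.stalkMap x').hom.toAlgebra
  obtain ⟨T⟩ := Groth.Agent.Lib.Helper2.PullbackSec.nonempty_stalk_linearEquiv g F x'
  haveI := h
  exact Module.Flat.of_linearEquiv T.symm

/-- the germ of a nonzerodivisor on an affine open is a nonzerodivisor. -/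
theorem germ_mem_nonZeroDivisors {X : Scheme.{u}} {V : X.Opens} (hV : IsAffineOpen V)
    (a : Γ(X, V)) (ha : a ∈ nonZeroDivisors Γ(X, V)) (x : X) (hx : x ∈ V) :
    X.presheaf.germ V x hx a ∈ nonZeroDivisors (X.presheaf.stalk x) := by
  letI := TopCat.Presheaf.algebra_section_stalk X.presheaf (⟨x, hx⟩ : V)
  haveI := hV.isLocalization_stalk ⟨x, hx⟩
  exact IsLocalization.map_nonZeroDivisors_le (hV.primeIdealOf ⟨x, hx⟩).asIdeal.primeCompl
    (X.presheaf.stalk x) (Submonoid.mem_map_of_mem _ ha)


open Groth.Agent.Lib.Helper2.QCoh Groth.Agent.Lib.Helper2.QcPush in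
/-- a section killed by a power of an effective Cartier ideal vanishes if the module is flat at the
points of the divisor. -/
theorem eq_zero_of_killedByPowerNear {X : Scheme.{u}} (E : X.IdealSheafData) (P : X.Modules)
    (hE : BlowUp.IsEffCartierIdeal E)
    (hflat : ∀ x : X, x ∈ E.support → FlatMod.IsFlatAt P x)
    (V : X.affineOpens) (m : Γ(P, V.1)) (hm : BlowUp.KilledByPowerNear E P V m) : m = 0 := by
  obtain ⟨n, hn⟩ := hm
  apply section_eq_zero_of_germ
  intro x hx
  by_cases hxs : x ∈ E.support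
  · obtain ⟨V', ⟨hV', a, ha0, ha⟩, hxV', hV'V⟩ := TopologicalSpace.Opens.isBasis_iff_nbhd.mp
      (isBasis_goodOpens E hE) hx
    have h1 : a ^ n • P.presheaf.map (homOfLE hV'V).op m = 0 := by
      have hmem : a ^ n ∈ Ideal.map (X.presheaf.map (homOfLE hV'V).op).hom ((E ^ n).ideal V) := by
        rw [show Ideal.map (X.presheaf.map (homOfLE hV'V).op).hom ((E ^ n).ideal V) =
            (E ^ n).ideal ⟨V', hV'⟩ from (E ^ n).map_ideal (U := ⟨V', hV'⟩) (V := V) hV'V,
          Scheme.IdealSheafData.ideal_pow, Pi.pow_apply, ha]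
        exact Ideal.pow_mem_pow (Ideal.mem_span_singleton_self a) n
      have hle : Ideal.map (X.presheaf.map (homOfLE hV'V).op).hom ((E ^ n).ideal V) ≤
          Ideal.torsionOf Γ(X, V') Γ(P, V') (P.presheaf.map (homOfLE hV'V).op m) := by
        rw [Ideal.map_le_iff_le_comap]
        intro e he
        rw [Ideal.mem_comap, Ideal.mem_torsionOf_iff, ← Scheme.Modules.map_smul, hn e he, map_zero]
      exact (Ideal.mem_torsionOf_iff _ _).mp (hle hmem)
    have h2 := congrArg (P.presheaf.germ V' x hxV') h1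
    rw [germ_smul, map_zero, map_pow, TopCat.Presheaf.germ_res_apply] at h2
    have hreg : IsSMulRegular (P.presheaf.stalk x) (X.presheaf.germ V' x hxV' a ^ n) := by
      haveI : Module.Flat (X.presheaf.stalk x) (P.presheaf.stalk x) := hflat x hxs
      exact Module.Flat.isSMulRegular_of_nonZeroDivisors
        (pow_mem (germ_mem_nonZeroDivisors hV' a ha0 x hxV') n)
    exact hreg.right_eq_zero_of_smul h2
  · rw [Scheme.IdealSheafData.mem_support_iff_of_mem (U := V) hx, Scheme.mem_zeroLocus_iff] at hxs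
    push Not at hxs
    obtain ⟨e, he, hxe⟩ := hxs
    have h1 : e ^ n • m = 0 := by
      refine hn _ ?_
      rw [Scheme.IdealSheafData.ideal_pow, Pi.pow_apply]
      exact Ideal.pow_mem_pow he n
    have h2 := congrArg (P.presheaf.germ V.1 x hx) h1
    rw [germ_smul, map_zero, map_pow] at h2
    have hu : IsUnit (X.presheaf.germ V.1 x hx e ^ n) :=
      ((Scheme.mem_basicOpen X e x hx).mp hxe).pow n
    exact (hu.smul_eq_zero).mp h2


theorem main_S1696 {S S' : Scheme.{u}} (𝓘 : S.IdealSheafData) (b : S' ⟶ S) (hb : BlowUp.IsBlowUp b 𝓘)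
    (F : S.Modules) (hF : Coh.IsQCoh F) (hflat : ∀ s : ↥S, s ∈ 𝓘.support → FlatMod.IsFlatAt F s) :
    BlowUp.IsStrictTransform b 𝓘 F ((Scheme.Modules.pullback b).obj F) (𝟙 _) := by
  haveI : F.IsQuasicoherent := hF
  refine ⟨inferInstance, fun V m => ⟨fun h => ?_, fun h => ?_⟩⟩
  · have h0 : m = 0 := h
    rw [h0]
    exact ⟨0, fun a _ => smul_zero a⟩
  · have h0 : m = 0 := by
      refine eq_zero_of_killedByPowerNear (𝓘.comap b) _ hb.1 (fun x hx => ?_) V m h
      refine isFlatAt_pullback b F x (hflat _ ?_)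
      rw [Scheme.IdealSheafData.support_comap] at hx
      exact hx
    rw [h0]
    exact map_zero _


open Groth.Agent.Lib.Helper2.LocFree in
/-- the strict transform of a finite locally free module along a blow up is the pullback. -/
theorem isIso_strictTransform_of_isFinLocFree {X : Scheme.{u}} (I : X.IdealSheafData)
    {X' : Scheme.{u}} (b : X' ⟶ X) (hb : BlowUp.IsBlowUp b I)
    (F : X.Modules) (hF : FlatMod.IsFinLocFree F) (G : X'.Modules)
    (π : (Scheme.Modules.pullback b).obj F ⟶ G)
    (hG : BlowUp.IsStrictTransform b I F G π) : IsIso π ∧ FlatMod.IsFinLocFree G := by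
  have hFfp : CohB1.IsFP F := isFP_of_isFinLocFree F hF
  haveI : F.IsQuasicoherent := isQCoh_of_isFP F hFfp
  have hFflat : FlatMod.IsFlat F := isFlat_of_isFinLocFree F hF
  have hPfp : CohB1.IsFP ((Scheme.Modules.pullback b).obj F) := isFP_pullback b F hFfp
  haveI : SheafOfModules.IsFinitePresentation (R := X'.ringCatSheaf)
    ((Scheme.Modules.pullback b).obj F) := hPfp
  have hPflat : ∀ x', FlatMod.IsFlatAt ((Scheme.Modules.pullback b).obj F) x' :=
    fun x' => isFlatAt_pullback b F x' (hFflat _)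
  have hPfree : FlatMod.IsFinLocFree ((Scheme.Modules.pullback b).obj F) := fun x' => by
    obtain ⟨D, m, hxD, h⟩ := exists_restrict_iso_freeMod_of_isFlatAt _ x' (hPflat x')
    exact ⟨D, m, hxD, h⟩
  haveI := hG.1
  have hker : kernel.ι π = 0 := by
    refine hom_eq_zero_of_basis _ Set.univ ?_ fun V _ s => ?_
    · rw [TopologicalSpace.Opens.isBasis_iff_nbhd]
      intro O x hx
      exact ⟨O, trivial, hx, le_rfl⟩
    · refine Groth.Agent.Lib.Helper2.QcPush.section_eq_zero_of_cover _ V _ fun x hx => ?_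
      obtain ⟨W, hW, hxW, hWV⟩ := exists_isAffineOpen_mem_and_subset (x := x) (U := V) hx
      refine ⟨W, hWV, hxW, ?_⟩
      refine eq_zero_of_killedByPowerNear (I.comap b) _ hb.1 (fun y _ => hPflat y) ⟨W, hW⟩ _ ?_
      rw [← hG.2 ⟨W, hW⟩]
      have hnat : G.presheaf.map (homOfLE hWV).op (π.app V ((kernel.ι π).app V s)) =
          π.app W (((Scheme.Modules.pullback b).obj F).presheaf.map (homOfLE hWV).op
            ((kernel.ι π).app V s)) :=
        (congr($((Scheme.Modules.Hom.mapPresheaf π).naturality (homOfLE hWV).op)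
          ((kernel.ι π).app V s))).symm
      have h0 : π.app V ((kernel.ι π).app V s) = 0 := by
        rw [← ConcreteCategory.comp_apply, ← Scheme.Modules.Hom.comp_app, kernel.condition,
          Scheme.Modules.Hom.zero_app]
        rfl
      refine hnat.symm.trans ?_
      rw [h0, map_zero]
  haveI : Mono π := Preadditive.mono_of_kernel_zero hker
  haveI : IsIso π := isIso_of_mono_of_epi π
  refine ⟨inferInstance, fun x' => ?_⟩
  obtain ⟨D, m, hxD, ⟨e⟩⟩ := hPfree x'
  exact ⟨D, m, hxD, ⟨(Scheme.Modules.restrictFunctor D.ι).mapIso (asIso π).symm ≪≫ e⟩⟩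

/-- strict transforms of quasi-coherent modules of finite type along a blow up are quasi-coherent
of finite type. -/
theorem isCoh_strictTransform {X : Scheme.{u}} (I : X.IdealSheafData) {X' : Scheme.{u}} (b : X' ⟶ X)
    (hb : BlowUp.IsBlowUp b I)
    (F : X.Modules) (hF : Coh.IsCoh F) (G : X'.Modules) (π : (Scheme.Modules.pullback b).obj F ⟶ G)
    (hG : BlowUp.IsStrictTransform b I F G π) : Coh.IsCoh G := by
  haveI : F.IsQuasicoherent := hF.1
  haveI : SheafOfModules.IsFiniteType (R := X.ringCatSheaf) F := hF.2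
  haveI : SheafOfModules.IsFiniteType (R := X'.ringCatSheaf) ((Scheme.Modules.pullback b).obj F) :=
    Groth.Agent.Lib.Helper20.FormalPull.isFiniteType_pullback b F
  haveI hGq : G.IsQuasicoherent := isQuasicoherent_target (E := I.comap b) π hb.1 hG
  haveI := hG.1
  exact ⟨hGq, Groth.Agent.Lib.Helper23.FinType.isFiniteType_of_epi π⟩

end Groth.Agent.Helper18Strict
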