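import Mathlib
import Groth.Agent.Lib.Helper1CI8
set_option backward.isDefEq.respectTransparency.types false

/-!
# A criterion for left derived functors: the counit is an isomorphism on adapted objects (helper1)
-/

set_option autoImplicit false
open CategoryTheory

namespace Groth.Agent.Lib.Helper1.CI

universe v₁ v₂ v₃ u₁ u₂ u₃

variable {C : Type u₁} {D : Type u₂} {H : Type u₃} [Category.{v₁} C] [Category.{v₂} D]
  [Category.{v₃} H]
  (W : MorphismProperty C) [W.HasTwoOutOfThreeProperty]
  (L : C ⥤ D) [L.IsLocalization W] (F : C ⥤ H)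
  (P : ObjectProperty C) (ρ : C ⥤ C) (π : ρ ⟶ 𝟭 C)
  (hρ : ∀ X, P (ρ.obj X)) (hπ : ∀ X, W (π.app X))
  (hF : ∀ {X Y : C} (f : X ⟶ Y), P X → P Y → W f → IsIso (F.map f))

include hρ hπ hF in
/-- if `F` inverts the `W`-morphisms between objects of a class `P` admitting functorial left
resolutions, then `(G, γ)` is a left derived functor of `F` as soon as `γ` is an isomorphism on the
objects of `P` -/
theorem isLeftDerivedFunctor_of_isIso_app (G : D ⥤ H) (γ : L ⋙ G ⟶ F)
    (hγ : ∀ X, P X → IsIso (γ.app X)) : G.IsLeftDerivedFunctor γ W := by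
  let LF := resLF W L F P ρ π hρ hπ hF
  let α := resCounit W L F P ρ π hρ hπ hF
  haveI h' : LF.IsLeftDerivedFunctor α W := isLeftDerivedFunctor_res W L F P ρ π hρ hπ hF
  rw [Functor.isLeftDerivedFunctor_iff_isIso_leftDerivedLift LF α W G γ]
  let φ := LF.leftDerivedLift α W G γ
  have hLπ : ∀ Y : C, IsIso (L.map (π.app Y)) := fun Y => Localization.inverts L W _ (hπ Y)
  have h1 : ∀ Y : C, IsIso (φ.app (L.obj (ρ.obj Y))) := by
    intro Y
    have e1 : φ.app (L.obj (ρ.obj Y)) ≫ α.app (ρ.obj Y) = γ.app (ρ.obj Y) :=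
      LF.leftDerived_fac_app α W G γ (ρ.obj Y)
    haveI : IsIso (α.app (ρ.obj Y)) :=
      isIso_counit_app W L F LF α P ρ π hρ hπ hF (ρ.obj Y) (hρ Y)
    haveI : IsIso (γ.app (ρ.obj Y)) := hγ _ (hρ Y)
    have e2 : φ.app (L.obj (ρ.obj Y)) = γ.app (ρ.obj Y) ≫ inv (α.app (ρ.obj Y)) := by
      rw [← e1, Category.assoc, IsIso.hom_inv_id, Category.comp_id]
    rw [e2]
    infer_instance
  have h2 : ∀ Y : C, IsIso (φ.app (L.obj Y)) := by
    intro Y
    have := h1 Y
    have nat := φ.naturality (L.map (π.app Y))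
    have e3 : φ.app (L.obj Y) = inv (G.map (L.map (π.app Y))) ≫ φ.app (L.obj (ρ.obj Y)) ≫
        LF.map (L.map (π.app Y)) := by
      rw [IsIso.eq_inv_comp]
      exact nat
    rw [e3]
    infer_instance
  haveI : L.EssSurj := Localization.essSurj L W
  have h3 : ∀ d : D, IsIso (φ.app d) := by
    intro d
    have := h2 (L.objPreimage d)
    have nat := φ.naturality (L.objObjPreimageIso d).hom
    have e4 : φ.app d = inv (G.map (L.objObjPreimageIso d).hom) ≫ φ.app (L.obj (L.objPreimage d)) ≫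
        LF.map (L.objObjPreimageIso d).hom := by
      rw [IsIso.eq_inv_comp]
      exact nat
    rw [e4]
    infer_instance
  exact NatIso.isIso_of_isIso_app φ

end Groth.Agent.Lib.Helper1.CI
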