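import Mathlib
import Groth.Agent.Lib.Helper1Sky5
import Groth.Agent.Lib.Helper1CI3
set_option backward.isDefEq.respectTransparency.types false

/-!
# `Lf^*` is computed by K-flat complexes with flat terms (helper1)
-/

set_option autoImplicit false
universe u
open CategoryTheory CategoryTheory.Limits AlgebraicGeometry HomologicalComplex

attribute [local instance] HasDerivedCategory.standard

namespace Groth.Agent.Lib.Helper1.Sky

open Groth.Agent.Lib.Helper1.BKF Groth.Agent.Lib.Helper1.CI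

variable {X Y : Scheme.{u}} (f : X ⟶ Y) [DCoh.HasLpull f]

/-- the counit `Lf^* K ⟶ f^* K` on complexes -/
noncomputable def lpullCounit :
    (HomotopyCategory.quotient Y.Modules (ComplexShape.up ℤ) ⋙ DerivedCategory.Qh) ⋙
      DCoh.Lpull f ⟶ pullFC f :=
  compCounit (HomotopyCategory.quotient Y.Modules (ComplexShape.up ℤ)) DerivedCategory.Qh
    (DCoh.pullKh f) (DCoh.Lpull f)
    ((DCoh.pullKh f).totalLeftDerivedCounit DerivedCategory.Qh
      (HomotopyCategory.quasiIso Y.Modules (ComplexShape.up ℤ)))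

instance isLeftDerivedFunctor_lpull :
    (DCoh.Lpull f).IsLeftDerivedFunctor (lpullCounit f)
      (HomologicalComplex.quasiIso Y.Modules (ComplexShape.up ℤ)) :=
  isLeftDerivedFunctor_comp
    (HomologicalComplex.homotopyEquivalences Y.Modules (ComplexShape.up ℤ))
    (HomotopyCategory.quasiIso Y.Modules (ComplexShape.up ℤ))
    (HomologicalComplex.quasiIso Y.Modules (ComplexShape.up ℤ))
    (HomotopyCategory.quotient Y.Modules (ComplexShape.up ℤ)) DerivedCategory.Qh
    (DCoh.pullKh f) (DCoh.Lpull f) _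

/-- the derived pullback is computed by K-flat complexes with flat terms -/
theorem isIso_lpullCounit_app (E : CochainComplex Y.Modules ℤ) (hE : KFFs E) :
    IsIso ((lpullCounit f).app E) := by
  obtain ⟨R, ψ, h⟩ : ∃ (R : CochainComplex Y.Modules ℤ ⥤ CochainComplex Y.Modules ℤ)
      (ψ : R ⟶ 𝟭 (CochainComplex Y.Modules ℤ)),
      ∀ G : CochainComplex Y.Modules ℤ, ModSite.IsKFlat (O := Y.sheaf) (R.obj G) ∧
        (∀ n : ℤ, ModSite.IsFlat (O := Y.sheaf) ((R.obj G).X n)) ∧ QuasiIso (ψ.app G) ∧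
        ∀ n : ℤ, Epi ((ψ.app G).f n) := exists_functorial_kflat_flat_resolution Y.sheaf
  exact isIso_counit_app (HomologicalComplex.quasiIso Y.Modules (ComplexShape.up ℤ))
    (HomotopyCategory.quotient Y.Modules (ComplexShape.up ℤ) ⋙ DerivedCategory.Qh) (pullFC f)
    (DCoh.Lpull f) (lpullCounit f) (fun E => KFFs E) R ψ
    (fun G => ⟨(h G).1, (h G).2.1⟩) (fun G => (h G).2.2.1)
    (fun {E E'} q hE hE' hq => by
      have : QuasiIso q := hq
      exact isIso_pullFC_map f q hE hE') E hE

/-- `Lf^* K ≅ f^* K` for a K-flat complex `K` with flat terms -/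
noncomputable def lpullIso (E : CochainComplex Y.Modules ℤ) (hE : KFFs E) :
    (DCoh.Lpull f).obj (DCoh.toD Y E) ≅ DCoh.toD X ((pullC f).obj E) :=
  haveI := isIso_lpullCounit_app f E hE
  (DCoh.Lpull f).mapIso ((DerivedCategory.quotientCompQhIso Y.Modules).app E).symm ≪≫
    asIso ((lpullCounit f).app E) ≪≫
    DerivedCategory.Qh.mapIso
      (((Scheme.Modules.pullback f).mapHomotopyCategoryFactors (ComplexShape.up ℤ)).app E) ≪≫
    (DerivedCategory.quotientCompQhIso X.Modules).app ((pullC f).obj E)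

lemma kffs_of_vanishesOutside (E : CochainComplex Y.Modules ℤ) (a b : ℤ)
    (hE : DCoh.VanishesOutside E a b) (hflat : ∀ i : ℤ, FlatMod.IsFlat (E.X i)) : KFFs E :=
  ⟨isKFlat_of_vanishesOutside E a b hE hflat,
    fun n => StalkTensor.modSite_isFlat_of_isFlat _ (hflat n)⟩

/-- S0920: the derived pullback preserves flat amplitude -/
theorem hasFlatAmplitudeIn_lpull (E : DCoh.D Y) (a b : ℤ)
    (hE : DCoh.HasFlatAmplitudeIn a b E) :
    DCoh.HasFlatAmplitudeIn a b ((DCoh.Lpull f).obj E) := by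
  obtain ⟨E₀, hv, hfl, ⟨e⟩⟩ := hE
  refine ⟨(pullC f).obj E₀, fun i hi => ?_, fun i => isFlat_pullback f _ (hfl i), ⟨?_⟩⟩
  · exact (Scheme.Modules.pullback f).map_isZero (hv i hi)
  · exact (lpullIso f E₀ (kffs_of_vanishesOutside E₀ a b hv hfl)).symm ≪≫
      (DCoh.Lpull f).mapIso e

end Groth.Agent.Lib.Helper1.Sky
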