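import Mathlib
import Groth.Agent.Lib.Helper1Sky6
set_option backward.isDefEq.respectTransparency.types false

/-!
# Functorial K-flat resolutions whose pullback is K-flat with flat terms (helper1)
-/

set_option autoImplicit false
universe u
open CategoryTheory CategoryTheory.Limits AlgebraicGeometry HomologicalComplex

attribute [local instance] HasDerivedCategory.standard

namespace Groth.Agent.Lib.Helper1.Sky

open Groth.Agent.Lib.Helper1.BKF Groth.Agent.Lib.Helper1.CI

variable {Y Z : Scheme.{u}} (g : Y ⟶ Z)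

/-- K-flat complexes with flat terms whose pullback is K-flat with flat terms -/
def PKFF : ObjectProperty (CochainComplex (ModSite.Mod Z.sheaf) ℤ) :=
  fun K => KFF Z.sheaf K ∧ KFF Y.sheaf ((pullC g).obj K)

instance : (PKFF g).IsClosedUnderIsomorphisms where
  of_iso e h := ⟨(KFF Z.sheaf).prop_of_iso e h.1,
    (KFF Y.sheaf).prop_of_iso ((pullC g).mapIso e) h.2⟩

lemma shortExact_map_pullC (S : ShortComplex (CochainComplex Z.Modules ℤ)) (hS : S.ShortExact)
    (h3 : ∀ n : ℤ, ModSite.IsFlat (O := Z.sheaf) (S.X₃.X n)) :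
    (S.map (pullC g)).ShortExact := by
  apply shortExact_of_degreewise_shortExact
  intro n
  have h1 := (shortExact_iff_degreewise_shortExact S).1 hS n
  exact shortExact_map_pullback g (S.map (eval _ _ n)) h1
    (StalkTensor.isFlat_of_modSite_isFlat _ (h3 n))

local instance : IsGrothendieckAbelian.{u} (ModSite.Mod Z.sheaf) :=
  Groth.Agent.Lib.Helper21.ModTensor3.isGrothendieckAbelian Z.sheaf

lemma pkff_ext (S : ShortComplex (CochainComplex Z.Modules ℤ)) (hS : S.ShortExact)
    (h1 : PKFF g S.X₁) (h3 : PKFF g S.X₃) : PKFF g S.X₂ := by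
  have hS' : (S.map (pullC g)).ShortExact := shortExact_map_pullC g S hS h3.1.2
  let S' : ShortComplex (CochainComplex Y.Modules ℤ) := S.map (pullC g)
  exact ⟨kff_ext (O := Z.sheaf) S hS h1.1 h3.1, kff_ext (O := Y.sheaf) S' hS' h1.2 h3.2⟩

lemma pkff_zero (K : CochainComplex Z.Modules ℤ) (hK : IsZero K) : PKFF g K :=
  ⟨kff_zero (O := Z.sheaf) K hK, kff_zero (O := Y.sheaf) _ ((pullC g).map_isZero hK)⟩

theorem cellClosed_pkff :
    CellClosed (fun U : TopologicalSpace.Opens Z => ModSite.freeOn Z.sheaf U) (PKFF g) where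
  ext := ⟨fun K hK => pkff_zero g K hK, fun S hS h1 h3 => pkff_ext g S hS h1 h3⟩
  filtered I _ _ Q c hc h := ⟨kff_filtered I Q c hc (fun i => (h i).1),
    kff_filtered I (Q ⋙ pullC g) ((pullC g).mapCocone c) (isColimitOfPreserves (pullC g) hc)
      (fun i => (h i).2)⟩
  coprod I Q c hc h := ⟨kff_coprod I Q c hc (fun i => (h i).1),
    kff_coprod I (Q ⋙ pullC g) ((pullC g).mapCocone c) (isColimitOfPreserves (pullC g) hc)
      (fun i => (h i).2)⟩
  gen U n := by
    have h1 := kff_gen (O := Z.sheaf) U n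
    refine ⟨h1, kff_of_concentrated _ n (fun q hq => ?_) ?_⟩
    · exact (Scheme.Modules.pullback g).map_isZero (isZero_cokernel_bdry_X _ n q hq)
    · exact StalkTensor.modSite_isFlat_of_isFlat _
        (isFlat_pullback g _ (StalkTensor.isFlat_of_modSite_isFlat _ (h1.2 n)))


theorem exists_functorial_pkff_resolution :
    ∃ (R : CochainComplex (ModSite.Mod Z.sheaf) ℤ ⥤ CochainComplex (ModSite.Mod Z.sheaf) ℤ)
      (ψ : R ⟶ 𝟭 (CochainComplex (ModSite.Mod Z.sheaf) ℤ)),
      ∀ G : CochainComplex (ModSite.Mod Z.sheaf) ℤ, PKFF g (R.obj G) ∧ QuasiIso (ψ.app G) := by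
  refine ⟨cellRes (fun U : TopologicalSpace.Opens Z => ModSite.freeOn Z.sheaf U),
    cellResπ (fun U : TopologicalSpace.Opens Z => ModSite.freeOn Z.sheaf U), fun G => ?_⟩
  have hc := cellClosed_pkff g
  have hK := prop_cellRes hc G
  have hq := rlp_cellResπ (g := fun U : TopologicalSpace.Opens Z => ModSite.freeOn Z.sheaf U) G
  rw [rlp_genI_iff] at hq
  have hq' : ∀ (M : ModSite.Mod Z.sheaf),
      (ObjectProperty.ofObj fun X : (Set.univ : Set (TopologicalSpace.Opens Z)) =>
        ModSite.freeOn Z.sheaf (X : TopologicalSpace.Opens Z)) M →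
      LiftCat M ((cellResπ (fun U : TopologicalSpace.Opens Z =>
        ModSite.freeOn Z.sheaf U)).app G) := by
    rintro M ⟨X⟩
    exact hq X.1
  exact ⟨hK, quasiIso_of_liftCat (isDetecting_freeOn Z.sheaf) _ hq'⟩

end Groth.Agent.Lib.Helper1.Sky
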