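import Mathlib
import Groth.Agent.Lib.Helper1Sky7
import Groth.Agent.Lib.Helper1CI9
set_option backward.isDefEq.respectTransparency.types false

/-!
# `Lf^* ∘ Lg^* ≅ L(g ∘ f)^*` (helper1)
-/

set_option autoImplicit false
universe u
open CategoryTheory CategoryTheory.Limits AlgebraicGeometry HomologicalComplex

attribute [local instance] HasDerivedCategory.standard

namespace Groth.Agent.Lib.Helper1.Sky

open Groth.Agent.Lib.Helper1.BKF Groth.Agent.Lib.Helper1.CI

variable {X Y Z : Scheme.{u}} (f : X ⟶ Y) (g : Y ⟶ Z)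

/-- the localization functor `C(O_X) ⥤ D(O_X)` -/
noncomputable abbrev LQ (X : Scheme.{u}) : CochainComplex X.Modules ℤ ⥤ DCoh.D X :=
  HomotopyCategory.quotient X.Modules (ComplexShape.up ℤ) ⋙ DerivedCategory.Qh

/-- `Q ∘ f^*` on complexes, in two ways -/
noncomputable def facIso : pullFC f ≅ pullC f ⋙ LQ X :=
  (Functor.associator _ _ _).symm ≪≫
  Functor.isoWhiskerRight
    ((Scheme.Modules.pullback f).mapHomotopyCategoryFactors (ComplexShape.up ℤ))
    DerivedCategory.Qh ≪≫ Functor.associator _ _ _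

/-- termwise pullback is compatible with composition -/
noncomputable def pullCComp : pullC g ⋙ pullC f ≅ pullC (f ≫ g) :=
  NatIso.ofComponents (fun K => HomologicalComplex.Hom.isoOfComponents
      (fun i => (Scheme.Modules.pullbackComp f g).app (K.X i))
      (fun i j _ => by
        dsimp
        exact ((Scheme.Modules.pullbackComp f g).hom.naturality (K.d i j)).symm))
    (fun {K K'} φ => by
      apply HomologicalComplex.hom_ext
      intro i
      dsimp
      exact ((Scheme.Modules.pullbackComp f g).hom.naturality (φ.f i)))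

/-- `f^* g^* K ≅ (g f)^* K` in the derived category, functorially in the complex `K` -/
noncomputable def compIso : pullC g ⋙ pullFC f ≅ pullFC (f ≫ g) :=
  Functor.isoWhiskerLeft (pullC g) (facIso f) ≪≫ (Functor.associator _ _ _).symm ≪≫
    Functor.isoWhiskerRight (pullCComp f g) (LQ X) ≪≫ (facIso (f ≫ g)).symm

variable [DCoh.HasLpull f] [DCoh.HasLpull g]

/-- the counit of the composite -/
noncomputable def compCounit₂ : LQ Z ⋙ (DCoh.Lpull g ⋙ DCoh.Lpull f) ⟶ pullFC (f ≫ g) :=
  ((Functor.associator (LQ Z) (DCoh.Lpull g) (DCoh.Lpull f)).inv ≫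
    Functor.whiskerRight (lpullCounit g) (DCoh.Lpull f)) ≫
  (Functor.whiskerRight (facIso g).hom (DCoh.Lpull f) ≫
    (Functor.associator (pullC g) (LQ Y) (DCoh.Lpull f)).hom ≫
    Functor.whiskerLeft (pullC g) (lpullCounit f)) ≫ (compIso f g).hom

lemma isIso_compCounit₂_app (K : CochainComplex Z.Modules ℤ) (hK : KFFs K)
    (hK' : KFFs ((pullC g).obj K)) : IsIso ((compCounit₂ f g).app K) := by
  haveI := isIso_lpullCounit_app g K hK
  haveI := isIso_lpullCounit_app f _ hK'
  dsimp only [compCounit₂]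
  simp only [NatTrans.comp_app, Functor.whiskerRight_app, Functor.whiskerLeft_app,
    Functor.associator_inv_app, Functor.associator_hom_app]
  infer_instance

variable [DCoh.HasLpull (f ≫ g)]

omit [DCoh.HasLpull (f ≫ g)] in
/-- `Lg^* ⋙ Lf^*` is a left derived functor of `(g f)^*` -/
theorem isLeftDerivedFunctor_comp_lpull :
    (DCoh.Lpull g ⋙ DCoh.Lpull f).IsLeftDerivedFunctor (compCounit₂ f g)
      (HomologicalComplex.quasiIso Z.Modules (ComplexShape.up ℤ)) := by
  obtain ⟨R, ψ, h⟩ : ∃ (R : CochainComplex Z.Modules ℤ ⥤ CochainComplex Z.Modules ℤ)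
      (ψ : R ⟶ 𝟭 (CochainComplex Z.Modules ℤ)),
      ∀ G : CochainComplex Z.Modules ℤ, PKFF g (R.obj G) ∧ QuasiIso (ψ.app G) :=
    exists_functorial_pkff_resolution g
  exact isLeftDerivedFunctor_of_isIso_app
    (HomologicalComplex.quasiIso Z.Modules (ComplexShape.up ℤ)) (LQ Z) (pullFC (f ≫ g))
    (fun K : CochainComplex Z.Modules ℤ => PKFF g K) R ψ (fun G => (h G).1) (fun G => (h G).2)
    (fun {E E'} q hE hE' hq => by
      have : QuasiIso q := hq
      exact isIso_pullFC_map (f ≫ g) q hE.1 hE'.1)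
    (DCoh.Lpull g ⋙ DCoh.Lpull f) (compCounit₂ f g)
    (fun K hK => isIso_compCounit₂_app f g K hK.1 hK.2)

/-- S0911: `Lf^* ∘ Lg^* ≅ L(g ∘ f)^*` -/
theorem nonempty_lpull_comp_iso :
    Nonempty (DCoh.Lpull g ⋙ DCoh.Lpull f ≅ DCoh.Lpull (f ≫ g)) := by
  haveI := isLeftDerivedFunctor_comp_lpull f g
  exact ⟨Functor.leftDerivedUnique (DCoh.Lpull (f ≫ g)) (DCoh.Lpull g ⋙ DCoh.Lpull f)
    (compCounit₂ f g) (lpullCounit (f ≫ g))
    (HomologicalComplex.quasiIso Z.Modules (ComplexShape.up ℤ))⟩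

end Groth.Agent.Lib.Helper1.Sky
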