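import Mathlib
import Groth.Prelude.Def_CxOX
import Groth.Agent.Lib.Helper1Sky8
import Groth.Agent.Lib.Helper18Strict8
import Groth.Agent.Lib.Helper2LocFree
set_option backward.isDefEq.respectTransparency.types false

/-!
# The derived pullback of a perfect object is perfect (helper1)
-/

set_option autoImplicit false
universe u
open CategoryTheory CategoryTheory.Limits AlgebraicGeometry HomologicalComplex

attribute [local instance] HasDerivedCategory.standard

namespace Groth.Agent.Lib.Helper1.Sky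

open Groth.Agent.Lib.Helper1.BKF Groth.Agent.Lib.Helper1.CI

section exact

variable {X Y : Scheme.{u}} (f : X ⟶ Y) [DCoh.HasLpull f]
  [PreservesFiniteLimits (Scheme.Modules.pullback f)]

/-- if `f^*` is exact, the derived pullback is computed by every complex -/
theorem isIso_lpullCounit_app_of_exact (E : CochainComplex Y.Modules ℤ) :
    IsIso ((lpullCounit f).app E) := by
  haveI : (Scheme.Modules.pullback f).PreservesHomology := inferInstance
  exact isIso_counit_app (HomologicalComplex.quasiIso Y.Modules (ComplexShape.up ℤ))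
    (HomotopyCategory.quotient Y.Modules (ComplexShape.up ℤ) ⋙ DerivedCategory.Qh) (pullFC f)
    (DCoh.Lpull f) (lpullCounit f) (fun _ => True) (𝟭 _) (𝟙 _)
    (fun _ => trivial) (fun G => by
      have : QuasiIso (𝟙 G) := inferInstance
      exact this)
    (fun {E E'} q _ _ hq => by
      have : QuasiIso q := hq
      have h1 : QuasiIso ((pullC f).map q) := inferInstance
      have h2 : IsIso (DerivedCategory.Q.map ((pullC f).map q)) := by
        rw [DerivedCategory.isIso_Q_map_iff_quasiIso]; exact h1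
      have h3 : IsIso (DerivedCategory.Qh.map ((HomotopyCategory.quotient _ _).map
          ((pullC f).map q))) :=
        (NatIso.isIso_map_iff (DerivedCategory.quotientCompQhIso X.Modules) ((pullC f).map q)).2 h2
      let e := Functor.isoWhiskerRight
        ((Scheme.Modules.pullback f).mapHomotopyCategoryFactors (ComplexShape.up ℤ))
        DerivedCategory.Qh
      exact (NatIso.isIso_map_iff e q).2 h3) E trivial

/-- `Lf^* K ≅ f^* K` for every complex `K` when `f^*` is exact -/
noncomputable def lpullIsoOfExact (E : CochainComplex Y.Modules ℤ) :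
    (DCoh.Lpull f).obj (DCoh.toD Y E) ≅ DCoh.toD X ((pullC f).obj E) :=
  haveI := isIso_lpullCounit_app_of_exact f E
  (DCoh.Lpull f).mapIso ((DerivedCategory.quotientCompQhIso Y.Modules).app E).symm ≪≫
    asIso ((lpullCounit f).app E) ≪≫
    DerivedCategory.Qh.mapIso
      (((Scheme.Modules.pullback f).mapHomotopyCategoryFactors (ComplexShape.up ℤ)).app E) ≪≫
    (DerivedCategory.quotientCompQhIso X.Modules).app ((pullC f).obj E)

end exact

section open_immersion

variable {X : Scheme.{u}} (V : X.Opens)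

instance preservesFiniteLimits_pullback_ι :
    PreservesFiniteLimits (Scheme.Modules.pullback V.ι) :=
  Limits.preservesFiniteLimits_of_natIso (Scheme.Modules.restrictFunctorIsoPullback V.ι)

/-- restriction of complexes to an open is the termwise pullback -/
noncomputable def restrictCxIso : DCoh.restrictCx V ≅ pullC V.ι :=
  NatIso.mapHomologicalComplex (Scheme.Modules.restrictFunctorIsoPullback V.ι) (ComplexShape.up ℤ)

/-- the derived pullback along an open immersion is the restriction -/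
noncomputable def lpullOpenIso [DCoh.HasLpull V.ι] (E : CochainComplex X.Modules ℤ) :
    (DCoh.Lpull V.ι).obj (DCoh.toD X E) ≅ DerivedCategory.Q.obj ((DCoh.restrictCx V).obj E) :=
  lpullIsoOfExact V.ι E ≪≫ DerivedCategory.Q.mapIso ((restrictCxIso V).app E).symm

end open_immersion

section perfect

open Groth.Agent.Lib.Helper2.LocFree Groth.Agent.Helper18Strict

lemma nonempty_lpull_congr {X Y : Scheme.{u}} {h₁ h₂ : X ⟶ Y} (e : h₁ = h₂) [DCoh.HasLpull h₁]
    [DCoh.HasLpull h₂] : Nonempty (DCoh.Lpull h₁ ≅ DCoh.Lpull h₂) := by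
  subst e
  exact ⟨Iso.refl _⟩

variable {X Y : Scheme.{u}} (f : X ⟶ Y)

lemma isFlat_of_isFinLocFree' (F : Y.Modules) (hF : FlatMod.IsFinLocFree F) : FlatMod.IsFlat F := by
  have hFfp : CohB1.IsFP F := isFP_of_isFinLocFree F hF
  haveI : F.IsQuasicoherent := isQCoh_of_isFP F hFfp
  exact isFlat_of_isFinLocFree F hF

/-- the pullback of a finite locally free module is finite locally free -/
theorem isFinLocFree_pullback (F : Y.Modules) (hF : FlatMod.IsFinLocFree F) :
    FlatMod.IsFinLocFree ((Scheme.Modules.pullback f).obj F) := by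
  have hFfp : CohB1.IsFP F := isFP_of_isFinLocFree F hF
  haveI : F.IsQuasicoherent := isQCoh_of_isFP F hFfp
  have hFflat : FlatMod.IsFlat F := isFlat_of_isFinLocFree F hF
  have hPfp : CohB1.IsFP ((Scheme.Modules.pullback f).obj F) := isFP_pullback f F hFfp
  haveI : SheafOfModules.IsFinitePresentation (R := X.ringCatSheaf)
    ((Scheme.Modules.pullback f).obj F) := hPfp
  haveI : ((Scheme.Modules.pullback f).obj F).IsQuasicoherent := isQCoh_of_isFP _ hPfp
  intro x'
  obtain ⟨D, m, hxD, h⟩ := exists_restrict_iso_freeMod_of_isFlatAt _ x'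
    (isFlatAt_pullback f F x' (hFflat _))
  exact ⟨D, m, hxD, h⟩

lemma kffs_of_isStrictlyPerfect (P : CochainComplex Y.Modules ℤ) (hP : DCoh.IsStrictlyPerfect P) :
    KFFs P := by
  obtain ⟨⟨a, b, hv⟩, hfl⟩ := hP
  exact kffs_of_vanishesOutside P a b hv (fun i => isFlat_of_isFinLocFree' _ (hfl i))

lemma isStrictlyPerfect_pullC (P : CochainComplex Y.Modules ℤ) (hP : DCoh.IsStrictlyPerfect P) :
    DCoh.IsStrictlyPerfect ((pullC f).obj P) := by
  obtain ⟨⟨a, b, hv⟩, hfl⟩ := hP
  exact ⟨⟨a, b, fun i hi => (Scheme.Modules.pullback f).map_isZero (hv i hi)⟩,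
    fun i => isFinLocFree_pullback f _ (hfl i)⟩

/-- S0921: the derived pullback of a perfect object is perfect -/
theorem isPerfect_lpull [DCoh.HasLpull f] (E : DCoh.D Y) (hE : DCoh.IsPerfect E) :
    DCoh.IsPerfect ((DCoh.Lpull f).obj E) := by
  intro x
  obtain ⟨V, hxV, hV⟩ := hE (f x)
  refine ⟨f ⁻¹ᵁ V, hxV, fun F ⟨eF⟩ => ?_⟩
  let F₀ : CochainComplex Y.Modules ℤ := DerivedCategory.Q.objPreimage E
  let e₀ : DCoh.toD Y F₀ ≅ E := DerivedCategory.Q.objObjPreimageIso E
  obtain ⟨P, hP, ⟨eP⟩⟩ := hV F₀ ⟨e₀⟩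
  haveI : DCoh.HasLpull (f ∣_ V) := hasLpull _
  haveI : DCoh.HasLpull V.ι := hasLpull _
  haveI : DCoh.HasLpull (f ⁻¹ᵁ V).ι := hasLpull _
  haveI : DCoh.HasLpull ((f ⁻¹ᵁ V).ι ≫ f) := hasLpull _
  haveI : DCoh.HasLpull ((f ∣_ V) ≫ V.ι) := hasLpull _
  obtain ⟨c1⟩ := nonempty_lpull_comp_iso (f ⁻¹ᵁ V).ι f
  obtain ⟨c2⟩ := nonempty_lpull_comp_iso (f ∣_ V) V.ι
  obtain ⟨c3⟩ := nonempty_lpull_congr (morphismRestrict_ι f V).symm
  refine ⟨(pullC (f ∣_ V)).obj P, isStrictlyPerfect_pullC (f ∣_ V) P hP, ⟨?_⟩⟩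
  exact (lpullOpenIso (f ⁻¹ᵁ V) F).symm ≪≫ (DCoh.Lpull (f ⁻¹ᵁ V).ι).mapIso eF ≪≫ c1.app E ≪≫
    c3.app E ≪≫ (c2.app E).symm ≪≫
    (DCoh.Lpull (f ∣_ V)).mapIso ((DCoh.Lpull V.ι).mapIso e₀.symm ≪≫ lpullOpenIso V F₀ ≪≫ eP) ≪≫
    lpullIso (f ∣_ V) P (kffs_of_isStrictlyPerfect P hP)

end perfect

end Groth.Agent.Lib.Helper1.Sky
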