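import Mathlib

set_option backward.isDefEq.respectTransparency.types false

/-!
# Left derived functors via functorial left resolutions

`L : C ⥤ D` a localization functor for `W`, `F : C ⥤ H`, `ρ : C ⥤ C` with `ψ : ρ ⟶ 𝟭 C` in `W`,
`P` a class of "good" objects containing the image of `ρ` such that `F` inverts `W` between good
objects. Then the counit of any left derived functor of `F` is an isomorphism at good objects, and
an extension whose counit is an isomorphism at good objects is a left derived functor.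
-/

namespace Groth.Agent.Lib.Helper1.LDerRes

open CategoryTheory Category Functor

variable {C D H : Type*} [Category C] [Category D] [Category H]
  (L : C ⥤ D) (W : MorphismProperty C) [L.IsLocalization W]
  (F : C ⥤ H)
  (ρ : C ⥤ C) (ψ : ρ ⟶ 𝟭 C) (hψ : ∀ X, W (ψ.app X))
  (P : ObjectProperty C) (hρ : ∀ X, P (ρ.obj X))
  (hF : ∀ ⦃X Y : C⦄ (f : X ⟶ Y), W f → P X → P Y → IsIso (F.map f))

section

variable [W.HasTwoOutOfThreeProperty]

include hψ in
lemma W_map_res {X Y : C} (f : X ⟶ Y) (hf : W f) : W (ρ.map f) := by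
  have h := ψ.naturality f
  have h2 : W (ρ.map f ≫ ψ.app Y) := by
    rw [h]; exact W.comp_mem _ _ (hψ X) hf
  exact W.of_postcomp _ _ (hψ Y) h2

include hψ hρ hF in
lemma inverts_res : W.IsInvertedBy (ρ ⋙ F) := fun X Y f hf =>
  hF (ρ.map f) (W_map_res W ρ ψ hψ f hf) (hρ X) (hρ Y)

include hψ hρ hF in
lemma map_res_eq {Y : C} (hY : P Y) : F.map (ψ.app (ρ.obj Y)) = F.map (ρ.map (ψ.app Y)) := by
  haveI : IsIso (F.map (ψ.app Y)) := hF _ (hψ Y) (hρ Y) hY
  have h := ψ.naturality (ψ.app Y)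
  simp only [Functor.id_obj, Functor.id_map] at h
  rw [← cancel_mono (F.map (ψ.app Y)), ← F.map_comp, ← F.map_comp, h]

/-- the functor `D ⥤ H` induced by `ρ ⋙ F` -/
noncomputable def resLift : D ⥤ H :=
  Localization.lift (ρ ⋙ F) (inverts_res W F ρ ψ hψ P hρ hF) L

noncomputable def resLiftIso : L ⋙ resLift L W F ρ ψ hψ P hρ hF ≅ ρ ⋙ F :=
  Localization.fac (ρ ⋙ F) (inverts_res W F ρ ψ hψ P hρ hF) L

/-- the candidate counit -/
noncomputable def resLiftCounit : L ⋙ resLift L W F ρ ψ hψ P hρ hF ⟶ F :=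
  (resLiftIso L W F ρ ψ hψ P hρ hF).hom ≫ whiskerRight ψ F ≫ F.leftUnitor.hom

lemma resLiftCounit_app (X : C) :
    (resLiftCounit L W F ρ ψ hψ P hρ hF).app X =
      (resLiftIso L W F ρ ψ hψ P hρ hF).hom.app X ≫ F.map (ψ.app X) := by
  simp [resLiftCounit]

include hψ in
lemma isIso_L_map_res (X : C) : IsIso (L.map (ψ.app X)) :=
  Localization.inverts L W _ (hψ X)

variable (LF : D ⥤ H) (α : L ⋙ LF ⟶ F)

/-- the candidate inverse, before descending to `D` -/
noncomputable def sigmaPre : L ⋙ LF ⟶ L ⋙ resLift L W F ρ ψ hψ P hρ hF where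
  app X :=
    haveI := isIso_L_map_res L W ρ ψ hψ X
    inv (LF.map (L.map (ψ.app X))) ≫ α.app (ρ.obj X) ≫
      (resLiftIso L W F ρ ψ hψ P hρ hF).inv.app X
  naturality X Y f := by
    haveI := isIso_L_map_res L W ρ ψ hψ X
    haveI := isIso_L_map_res L W ρ ψ hψ Y
    have h1 := (resLiftIso L W F ρ ψ hψ P hρ hF).inv.naturality f
    have h2 := α.naturality (ρ.map f)
    have h3 : LF.map (L.map f) ≫ inv (LF.map (L.map (ψ.app Y))) =
        inv (LF.map (L.map (ψ.app X))) ≫ LF.map (L.map (ρ.map f)) := by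
      rw [IsIso.eq_inv_comp, ← Category.assoc, IsIso.comp_inv_eq, ← LF.map_comp, ← LF.map_comp,
        ← L.map_comp, ← L.map_comp]
      have := ψ.naturality f
      simp only [Functor.id_map] at this
      rw [this]
    simp only [Functor.comp_map] at h1 h2 ⊢
    simp only [Category.assoc]
    rw [reassoc_of% h3, ← h1, reassoc_of% h2]

variable [LF.IsLeftDerivedFunctor α W]

noncomputable def tau : resLift L W F ρ ψ hψ P hρ hF ⟶ LF :=
  LF.leftDerivedLift α W _ (resLiftCounit L W F ρ ψ hψ P hρ hF)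

lemma tau_app_comp (X : C) :
    (tau L W F ρ ψ hψ P hρ hF LF α).app (L.obj X) ≫ α.app X =
      (resLiftIso L W F ρ ψ hψ P hρ hF).hom.app X ≫ F.map (ψ.app X) := by
  rw [← resLiftCounit_app]
  exact LF.leftDerived_fac_app α W _ _ X

noncomputable def sigma : LF ⟶ resLift L W F ρ ψ hψ P hρ hF :=
  Localization.liftNatTrans L W (L ⋙ LF) (L ⋙ resLift L W F ρ ψ hψ P hρ hF) LF _
    (sigmaPre L W F ρ ψ hψ P hρ hF LF α)

lemma sigma_app (X : C) :
    (sigma L W F ρ ψ hψ P hρ hF LF α).app (L.obj X) =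
      (sigmaPre L W F ρ ψ hψ P hρ hF LF α).app X := by
  simp [sigma]

lemma sigma_tau :
    sigma L W F ρ ψ hψ P hρ hF LF α ≫ tau L W F ρ ψ hψ P hρ hF LF α = 𝟙 LF := by
  refine LF.leftDerived_ext α W LF _ _ ?_
  ext X
  haveI := isIso_L_map_res L W ρ ψ hψ X
  have h := α.naturality (ψ.app X)
  simp only [Functor.comp_map, Functor.id_obj] at h
  simp only [NatTrans.comp_app, Functor.whiskerLeft_app, Category.assoc, NatTrans.id_app,
    Category.id_comp]
  rw [tau_app_comp, sigma_app]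
  simp only [sigmaPre, Category.assoc, Iso.inv_hom_id_app_assoc]
  rw [← h, IsIso.inv_hom_id_assoc]
  simp

lemma tau_sigma_app (Y : C) (hY : P Y) :
    (tau L W F ρ ψ hψ P hρ hF LF α).app (L.obj Y) ≫
      (sigma L W F ρ ψ hψ P hρ hF LF α).app (L.obj Y) = 𝟙 _ := by
  haveI := isIso_L_map_res L W ρ ψ hψ Y
  rw [sigma_app]
  simp only [sigmaPre]
  have h1 := (tau L W F ρ ψ hψ P hρ hF LF α).naturality (L.map (ψ.app Y))
  have h2 : (tau L W F ρ ψ hψ P hρ hF LF α).app (L.obj Y) ≫ inv (LF.map (L.map (ψ.app Y))) =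
      inv ((resLift L W F ρ ψ hψ P hρ hF).map (L.map (ψ.app Y))) ≫
        (tau L W F ρ ψ hψ P hρ hF LF α).app (L.obj (ρ.obj Y)) := by
    rw [IsIso.eq_inv_comp, ← Category.assoc, IsIso.comp_inv_eq]
    exact h1
  rw [reassoc_of% h2, reassoc_of% (tau_app_comp L W F ρ ψ hψ P hρ hF LF α (ρ.obj Y)),
    map_res_eq W F ρ ψ hψ P hρ hF hY]
  have h3 := (resLiftIso L W F ρ ψ hψ P hρ hF).hom.naturality (ψ.app Y)
  simp only [Functor.comp_map] at h3
  rw [← reassoc_of% h3]
  simp

include hψ hρ hF in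
/-- the counit of a left derived functor is an isomorphism at good objects -/
theorem isIso_app_of_good (Y : C) (hY : P Y) : IsIso (α.app Y) := by
  have h1 := tau_sigma_app L W F ρ ψ hψ P hρ hF LF α Y hY
  have h2 := congr_app (sigma_tau L W F ρ ψ hψ P hρ hF LF α) (L.obj Y)
  simp only [NatTrans.comp_app, NatTrans.id_app] at h2
  haveI : IsIso ((tau L W F ρ ψ hψ P hρ hF LF α).app (L.obj Y)) := ⟨⟨_, h1, h2⟩⟩
  haveI : IsIso (F.map (ψ.app Y)) := hF _ (hψ Y) (hρ Y) hY
  have h3 := tau_app_comp L W F ρ ψ hψ P hρ hF LF α Y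
  have h4 : IsIso ((tau L W F ρ ψ hψ P hρ hF LF α).app (L.obj Y) ≫ α.app Y) := by
    rw [h3]; infer_instance
  exact IsIso.of_isIso_comp_left ((tau L W F ρ ψ hψ P hρ hF LF α).app (L.obj Y)) _

omit [LF.IsLeftDerivedFunctor α W] in
include hψ hρ hF in
/-- recognition: an extension whose counit is an isomorphism at good objects is a left derived
functor -/
theorem isLeftDerivedFunctor_of_isIso_good [F.HasLeftDerivedFunctor W]
    (h : ∀ Y, P Y → IsIso (α.app Y)) : LF.IsLeftDerivedFunctor α W := by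
  rw [isLeftDerivedFunctor_iff_isIso_leftDerivedLift (F.totalLeftDerived L W)
    (F.totalLeftDerivedCounit L W) W LF α]
  rw [NatTrans.isIso_iff_isIso_app]
  intro Z
  have := Localization.essSurj L W
  haveI := isIso_L_map_res L W ρ ψ hψ (L.objPreimage Z)
  let i : L.obj (ρ.obj (L.objPreimage Z)) ≅ Z :=
    asIso (L.map (ψ.app (L.objPreimage Z))) ≪≫ L.objObjPreimageIso Z
  rw [← NatTrans.isIso_app_iff_of_iso _ i]
  have h1 := (F.totalLeftDerived L W).leftDerived_fac_app (F.totalLeftDerivedCounit L W) W LF α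
    (ρ.obj (L.objPreimage Z))
  haveI := isIso_app_of_good L W F ρ ψ hψ P hρ hF (F.totalLeftDerived L W)
    (F.totalLeftDerivedCounit L W) (ρ.obj (L.objPreimage Z)) (hρ _)
  haveI := h _ (hρ (L.objPreimage Z))
  exact IsIso.of_isIso_fac_right h1

end

end Groth.Agent.Lib.Helper1.LDerRes
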