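import Mathlib
import Groth.Agent.Lib.Helper1LDer1
import Groth.Agent.Lib.Helper1BKF14
import Groth.Agent.Lib.Helper1BKF12

set_option backward.isDefEq.respectTransparency.types false

/-!
# The derived tensor product on a ringed site, computed on K-flat complexes
-/

set_option autoImplicit false
universe u
open CategoryTheory CategoryTheory.Limits HomologicalComplex ZeroObject

attribute [local instance] HasDerivedCategory.standard

namespace Groth.Agent.Lib.Helper1.BKF

open Groth.Agent.Lib.Helper21.ModTensor3 Groth.Agent.Lib.Helper21.ModTensor5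

variable {C : Type u} [SmallCategory C] {J : GrothendieckTopology C} {O : Sheaf J CommRingCat.{u}}

/-- tensoring (on the right) a quasi-isomorphism of K-flat complexes with any complex gives a
quasi-isomorphism -/
theorem quasiIso_TR_map_of_isKFlat_of_isKFlat (P Q : CochainComplex (ModSite.Mod O) ℤ)
    (hP : ModSite.IsKFlat P) (hQ : ModSite.IsKFlat Q) (α : P ⟶ Q) [QuasiIso α]
    (F : CochainComplex (ModSite.Mod O) ℤ) :
    QuasiIso ((TR (ModSite.tensorBi O) F).map α) := by
  haveI := quasiIso_TL_map_of_isKFlat_of_isKFlat P Q hP hQ α F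
  have h := symIso_hom_naturality (ModSite.tensorBi O) (brd O) α (𝟙 F)
  have e : Arrow.mk ((TR (ModSite.tensorBi O) F).map α) ≅
      Arrow.mk ((TL (ModSite.tensorBi O) F).map α) :=
    Arrow.isoMk (symIso (ModSite.tensorBi O) (brd O) P F) (symIso (ModSite.tensorBi O) (brd O) Q F)
      h.symm
  exact (quasiIso_iff_of_arrow_mk_iso _ _ e).2 inferInstance

open Groth.Agent.Lib.Helper1 in
/-- the counit of any left derived functor of `- ⊗ K` is an isomorphism at K-flat complexes -/
theorem isIso_counit_of_isKFlat (K : CochainComplex (ModSite.Mod O) ℤ)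
    (LF : DCoh.DMod (ModSite.ringSh O) ⥤ DCoh.DMod (ModSite.ringSh O))
    (α : DerivedCategory.Q ⋙ LF ⟶ ModSite.tensorCxQ K)
    [LF.IsLeftDerivedFunctor α (HomologicalComplex.quasiIso (ModSite.Mod O) (ComplexShape.up ℤ))]
    (P : CochainComplex (ModSite.Mod O) ℤ) (hP : ModSite.IsKFlat P) :
    IsIso (α.app P) := by
  obtain ⟨R, ψ, hR⟩ := exists_functorial_kflat_flat_resolution O
  refine LDerRes.isIso_app_of_good DerivedCategory.Q
    (HomologicalComplex.quasiIso (ModSite.Mod O) (ComplexShape.up ℤ)) (ModSite.tensorCxQ K) R ψ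
    (fun X => (hR X).2.2.1) (fun X => ModSite.IsKFlat X) (fun X => (hR X).1)
    (fun X Y f hf hX hY => ?_) LF α P hP
  rw [HomologicalComplex.mem_quasiIso_iff] at hf
  haveI := quasiIso_TR_map_of_isKFlat_of_isKFlat X Y hX hY f K
  exact inferInstanceAs (IsIso (DerivedCategory.Q.map ((TR (ModSite.tensorBi O) K).map f)))

/-- `P ⊗^L K ≅ Tot(P ⊗ K)` in `D(O)` for `P` K-flat -/
noncomputable def lTensorCxIsoOfIsKFlat (K : CochainComplex (ModSite.Mod O) ℤ)
    [ModSite.HasLTensorCx K] (P : CochainComplex (ModSite.Mod O) ℤ) (hP : ModSite.IsKFlat P) :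
    (ModSite.LTensorCx K).obj (DerivedCategory.Q.obj P) ≅
      DerivedCategory.Q.obj (((ModSite.tensorCx O).obj P).obj K) :=
  haveI := isIso_counit_of_isKFlat K _ ((ModSite.tensorCxQ K).totalLeftDerivedCounit
    DerivedCategory.Q (HomologicalComplex.quasiIso (ModSite.Mod O) (ComplexShape.up ℤ))) P hP
  asIso (((ModSite.tensorCxQ K).totalLeftDerivedCounit DerivedCategory.Q
    (HomologicalComplex.quasiIso (ModSite.Mod O) (ComplexShape.up ℤ))).app P)

section totalX

variable {A₁ A₂ D : Type*} [Category A₁] [Category A₂] [Category D] [Preadditive A₁]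
  [Preadditive A₂] [Preadditive D]
  (G : A₁ ⥤ A₂ ⥤ D) [G.PreservesZeroMorphisms] [∀ X, (G.obj X).PreservesZeroMorphisms]

/-- a property of objects stable under coproducts indexed by small sets holds for the terms of
a total complex as soon as it holds for all the summands -/
lemma prop_mapBifunctor_X (Pr : D → Prop)
    (hPr : ∀ (I : Type) (X : I → D) (c : Cofan X), IsColimit c → (∀ i, Pr (X i)) → Pr c.pt)
    (K : CochainComplex A₁ ℤ) (L : CochainComplex A₂ ℤ)
    [HasMapBifunctor K L G (ComplexShape.up ℤ)] (n : ℤ)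
    (h : ∀ p q : ℤ, p + q = n → Pr ((G.obj (K.X p)).obj (L.X q))) :
    Pr ((mapBifunctor K L G (ComplexShape.up ℤ)).X n) := by
  let B : HomologicalComplex₂ D (ComplexShape.up ℤ) (ComplexShape.up ℤ) :=
    ((G.mapBifunctorHomologicalComplex _ _).obj K).obj L
  let π := ComplexShape.π (ComplexShape.up ℤ) (ComplexShape.up ℤ) (ComplexShape.up ℤ)
  exact hPr (π ⁻¹' {n}) (fun i => (G.obj (K.X i.1.1)).obj (L.X i.1.2))
    (B.toGradedObject.cofanMapObj π n) (B.toGradedObject.isColimitCofanMapObj π n)
    (fun i => h i.1.1 i.1.2 i.2)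

lemma isZero_of_isColimit_cofan {I : Type*} (X : I → D) (c : Cofan X) (hc : IsColimit c)
    (h : ∀ i, IsZero (X i)) : IsZero c.pt := by
  rw [IsZero.iff_id_eq_zero]
  refine Cofan.IsColimit.hom_ext hc _ _ (fun i => (h i).eq_of_src _ _)

end totalX

/-- coproducts of flat modules indexed by a set in `Type` are flat -/
theorem isFlat_of_isColimit_cofan_zero {ι : Type} (F : ι → ModSite.Mod O)
    (hF : ∀ i, ModSite.IsFlat (F i)) (c : Cofan F) (hc : IsColimit c) : ModSite.IsFlat c.pt := by
  let c' : Cofan (fun j : ULift.{u} ι => F j.down) := Cofan.mk c.pt (fun j => c.inj j.down)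
  have hc' : IsColimit c' := mkCofanColimit c'
    (fun s => Cofan.IsColimit.desc hc (fun i => s.inj ⟨i⟩))
    (fun s j => by
      have := Cofan.IsColimit.fac hc (fun i => s.inj ⟨i⟩) j.down
      exact this)
    (fun s m hm => Cofan.IsColimit.hom_ext hc _ _ (fun i => by
      rw [Cofan.IsColimit.fac]
      exact hm ⟨i⟩))
  exact isFlat_of_isColimit_cofan O (fun j : ULift.{u} ι => F j.down) (fun j => hF j.down) c' hc'

end Groth.Agent.Lib.Helper1.BKF
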