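import Mathlib
import Groth.Prelude.Def_TotMap
import Groth.Agent.Lib.Helper1PT3
import Groth.Agent.Lib.Helper1Sky5
set_option backward.isDefEq.respectTransparency.types false

/-!
# The pullback of `O`-modules along a morphism of schemes is monoidal (helper1), part 4:
the isomorphism of bifunctors and of total complexes
-/

set_option autoImplicit false
set_option linter.style.haveILetI false
universe u
open CategoryTheory CategoryTheory.Limits AlgebraicGeometry TopologicalSpace Opposite
  MonoidalCategory TensorProduct HomologicalComplex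

namespace Groth.Agent.Lib.Helper1.PT

open Groth.Agent.Lib.Helper1.Sky Groth.Agent.Lib.Helper1.StalkTensor
  Groth.Agent.Lib.Helper21.ModTensor2 Groth.Agent.Lib.Helper1.KBC Groth.Agent.Lib.Helper1.BKF

variable {X Y : Scheme.{u}} (f : X ⟶ Y)

/-- `(A, B) ↦ f^*(A ⊗ B)` -/
noncomputable abbrev H₁ : Y.Modules ⥤ Y.Modules ⥤ X.Modules :=
  DCoh.tensorBi (X := Y) ⋙ (Functor.whiskeringRight _ _ _).obj (plb f)

/-- `(A, B) ↦ f^*A ⊗ f^*B` -/
noncomputable abbrev H₂ : Y.Modules ⥤ Y.Modules ⥤ X.Modules :=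
  plb f ⋙ DCoh.tensorBi (X := X) ⋙ (Functor.whiskeringLeft _ _ _).obj (plb f)

/-- the pullback is monoidal -/
noncomputable def pullTensorIso : H₁ f ≅ H₂ f :=
  NatIso.ofComponents (fun A => NatIso.ofComponents (fun B => asIso (delta f A B))
      (fun {_ _} ψ => delta_naturality_right f A ψ))
    (fun {_ _} φ => NatTrans.ext (funext fun B => delta_naturality_left f φ B))

instance preservesTotal_plb
    (B : HomologicalComplex₂ Y.Modules (ComplexShape.up ℤ) (ComplexShape.up ℤ)) :
    TotMap.PreservesTotal (plb f) B (ComplexShape.up ℤ) := fun n => by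
  haveI : PreservesColimitsOfSize.{0, 0} (plb f) :=
    (ppAdj f).leftAdjoint_preservesColimits
  infer_instance

instance (A : Y.Modules) : ((H₁ f).obj A).PreservesZeroMorphisms :=
  (inferInstance : ((DCoh.tensorBi (X := Y)).obj A ⋙ plb f).PreservesZeroMorphisms)

instance (A : Y.Modules) : ((H₂ f).obj A).PreservesZeroMorphisms :=
  (inferInstance : (plb f ⋙
    (DCoh.tensorBi (X := X)).obj ((plb f).obj A)).PreservesZeroMorphisms)

variable (L K : CochainComplex Y.Modules ℤ)

/-- the pullback of the tensor product of two complexes -/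
theorem nonempty_pullTotIso :
    Nonempty ((pullC f).obj (mapBifunctor L K (DCoh.tensorBi (X := Y)) (ComplexShape.up ℤ)) ≅
      mapBifunctor ((pullC f).obj L) ((pullC f).obj K) (DCoh.tensorBi (X := X))
        (ComplexShape.up ℤ)) := by
  let BY := (((DCoh.tensorBi (X := Y)).mapBifunctorHomologicalComplex (ComplexShape.up ℤ)
    (ComplexShape.up ℤ)).obj L).obj K
  let BXX := (((DCoh.tensorBi (X := X)).mapBifunctorHomologicalComplex (ComplexShape.up ℤ)
    (ComplexShape.up ℤ)).obj ((pullC f).obj L)).obj ((pullC f).obj K)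
  haveI h1 : ((TotMap.map₂ (plb f) (ComplexShape.up ℤ) (ComplexShape.up ℤ)).obj
      BY).HasTotal (ComplexShape.up ℤ) :=
    TotMap.hasTotal_map₂ (plb f) BY (ComplexShape.up ℤ)
  let e₂ : (TotMap.map₂ (plb f) (ComplexShape.up ℤ) (ComplexShape.up ℤ)).obj BY ≅
      (((H₁ f).mapBifunctorHomologicalComplex (ComplexShape.up ℤ)
        (ComplexShape.up ℤ)).obj L).obj K :=
    (TotMap.mapBifunctorPostcompIso (DCoh.tensorBi (X := Y)) (plb f) L K).symm
  haveI h2 : HasMapBifunctor L K (H₁ f) (ComplexShape.up ℤ) :=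
    HomologicalComplex₂.hasTotal_of_iso e₂ (ComplexShape.up ℤ)
  let e₄ : BXX ≅ (((H₂ f).mapBifunctorHomologicalComplex (ComplexShape.up ℤ)
        (ComplexShape.up ℤ)).obj L).obj K :=
    TotMap.mapBifunctorPrecompIso (plb f) (plb f) (DCoh.tensorBi (X := X)) L K
  haveI h3 : HasMapBifunctor L K (H₂ f) (ComplexShape.up ℤ) :=
    HomologicalComplex₂.hasTotal_of_iso e₄ (ComplexShape.up ℤ)
  exact ⟨TotMap.mapTotalIso (plb f) BY (ComplexShape.up ℤ) ≪≫
    HomologicalComplex₂.total.mapIso e₂ (ComplexShape.up ℤ) ≪≫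
    TotMap.mapBifunctorNatIso L K (ComplexShape.up ℤ) (pullTensorIso f) ≪≫
    (HomologicalComplex₂.total.mapIso e₄ (ComplexShape.up ℤ)).symm⟩

end Groth.Agent.Lib.Helper1.PT
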