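import Mathlib
import Groth.Prelude.Def_DCoh4
import Groth.Agent.Lib.Helper20LocFree
import Groth.Agent.Lib.Helper1PT4
import Groth.Agent.Lib.Helper21ModTensor7
import Groth.Agent.Lib.Helper1LDer2
set_option backward.isDefEq.respectTransparency.types false

/-!
# Closure properties of finite locally free modules (helper1)
-/

set_option autoImplicit false
universe u
open CategoryTheory CategoryTheory.Limits AlgebraicGeometry TopologicalSpace

namespace Groth.Agent.Lib.Helper1.FLF

attribute [local instance] Abelian.hasFiniteBiproducts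

open Groth.Agent.Lib.Helper20.LocFree

section cat

variable {D : Type*} [Category D] [Preadditive D] [HasFiniteBiproducts D]

/-- a coproduct with finite support is a finite biproduct -/
lemma nonempty_iso_biproduct_of_finite_support {I : Type*} (Xf : I → D) (c : Cofan Xf)
    (hc : IsColimit c) (S : Finset I) (hS : ∀ i, i ∉ S → IsZero (Xf i)) :
    Nonempty (c.pt ≅ ⨁ (fun i : S => Xf i.1)) := by
  classical
  refine ⟨⟨Cofan.IsColimit.desc hc (fun i => if h : i ∈ S then
      biproduct.ι (fun i : S => Xf i.1) ⟨i, h⟩ else 0),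
    biproduct.desc (fun i => c.inj i.1), ?_, ?_⟩⟩
  · refine Cofan.IsColimit.hom_ext hc _ _ (fun i => ?_)
    rw [← Category.assoc, Cofan.IsColimit.fac]
    by_cases h : i ∈ S
    · rw [dif_pos h, biproduct.ι_desc, Category.comp_id]
    · exact (hS i h).eq_of_src _ _
  · refine biproduct.hom_ext' _ _ (fun i => ?_)
    rw [← Category.assoc, biproduct.ι_desc, Cofan.IsColimit.fac, dif_pos i.2, Category.comp_id]

end cat

variable {X : Scheme.{u}}

/-- a module free over `U` is free over every smaller open -/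
lemma nonempty_restrict_iso_freeMod_of_le (M : X.Modules) {U U' : X.Opens} (h : U' ≤ U) {n : ℕ}
    (e : M.restrict U.ι ≅ FlatMod.freeMod (↑U) n) :
    Nonempty (M.restrict U'.ι ≅ FlatMod.freeMod (↑U') n) := by
  let j : (U' : Scheme.{u}) ⟶ U := X.homOfLE h
  have hj : j ≫ U.ι = U'.ι := X.homOfLE_ι h
  exact ⟨(Scheme.Modules.restrictFunctorCongr hj.symm).app M ≪≫
    (Scheme.Modules.restrictFunctorComp j U.ι).app M ≪≫
    (Scheme.Modules.restrictFunctor j).mapIso e ≪≫ restrictFreeMod j n⟩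

lemma isFinLocFree_of_iso {M N : X.Modules} (e : M ≅ N) (h : FlatMod.IsFinLocFree M) :
    FlatMod.IsFinLocFree N := fun x => by
  obtain ⟨U, n, hx, ⟨i⟩⟩ := h x
  exact ⟨U, n, hx, ⟨(Scheme.Modules.restrictFunctor U.ι).mapIso e.symm ≪≫ i⟩⟩

/-- a finite coproduct of free modules is free -/
lemma nonempty_sigma_freeMod_iso {J : Type} [Finite J] (n : J → ℕ) :
    ∃ N : ℕ, Nonempty ((∐ fun j : J => FlatMod.freeMod X (n j)) ≅ FlatMod.freeMod X N) := by
  have := Fintype.ofFinite J
  let e : (Σ j : J, Fin (n j)) ≃ Fin (Fintype.card (Σ j : J, Fin (n j))) := Fintype.equivFin _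
  refine ⟨Fintype.card (Σ j : J, Fin (n j)), ⟨?_⟩⟩
  exact sigmaSigmaIso (fun j : J => Fin (n j)) (fun _ _ => Coh.structureModule X) ≪≫
    Sigma.whiskerEquiv (f := fun _ : (Σ j : J, Fin (n j)) => Coh.structureModule X)
      (g := fun _ : Fin (Fintype.card (Σ j : J, Fin (n j))) => Coh.structureModule X) e
      (fun _ => Iso.refl _)

/-- finitely many finite locally free modules are simultaneously free near a point -/
lemma exists_common_open {J : Type} [Finite J] (f : J → X.Modules)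
    (hf : ∀ j, FlatMod.IsFinLocFree (f j)) (x : X) :
    ∃ (U : X.Opens) (n : J → ℕ), x ∈ U ∧
      ∀ j, Nonempty ((f j).restrict U.ι ≅ FlatMod.freeMod (↑U) (n j)) := by
  choose U n hx e using fun j => hf j x
  refine ⟨⨅ j, U j, n, ?_,
    fun j => nonempty_restrict_iso_freeMod_of_le (f j) (iInf_le U j) (e j).some⟩
  have h : ((⨅ j, U j : X.Opens) : Set X) = ⋂ j, (U j : Set X) := Opens.coe_iInf U
  change x ∈ ((⨅ j, U j : X.Opens) : Set X)
  rw [h]
  exact Set.mem_iInter.2 hx

/-- a finite biproduct of finite locally free modules is finite locally free -/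
theorem isFinLocFree_biproduct {J : Type} [Finite J] (f : J → X.Modules)
    (hf : ∀ j, FlatMod.IsFinLocFree (f j)) : FlatMod.IsFinLocFree (⨁ f) := fun x => by
  obtain ⟨U, n, hx, e⟩ := exists_common_open f hf x
  obtain ⟨N, ⟨eN⟩⟩ := nonempty_sigma_freeMod_iso (X := U) n
  refine ⟨U, N, hx, ⟨?_⟩⟩
  exact (Scheme.Modules.restrictFunctor U.ι).mapBiproduct f ≪≫
    biproduct.mapIso (fun j => (e j).some) ≪≫ biproduct.isoCoproduct _ ≪≫ eN

/-- a coproduct with finite support of finite locally free modules is finite locally free -/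
theorem isFinLocFree_of_isColimit_cofan {I : Type} (Xf : I → X.Modules) (c : Cofan Xf)
    (hc : IsColimit c) (S : Finset I) (hS : ∀ i, i ∉ S → IsZero (Xf i))
    (hf : ∀ i, FlatMod.IsFinLocFree (Xf i)) : FlatMod.IsFinLocFree c.pt := by
  obtain ⟨e⟩ := nonempty_iso_biproduct_of_finite_support Xf c hc S hS
  exact isFinLocFree_of_iso e.symm (isFinLocFree_biproduct (fun i : S => Xf i.1) (fun i => hf i.1))

open Groth.Agent.Lib.Helper21.ModTensor3 Groth.Agent.Lib.Helper21.ModTensor5
  Groth.Agent.Lib.Helper21.ModTensor7 Groth.Agent.Lib.Helper1.PT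

/-- the tensor product of two free modules of finite rank is free of finite rank -/
lemma nonempty_tensor_freeMod_iso (n m : ℕ) :
    ∃ N : ℕ, Nonempty (((DCoh.tensorBi (X := X)).obj (FlatMod.freeMod X n)).obj
      (FlatMod.freeMod X m) ≅ FlatMod.freeMod X N) := by
  obtain ⟨N, ⟨eN⟩⟩ := nonempty_sigma_freeMod_iso (X := X) (fun _ : Fin m => n)
  refine ⟨N, ⟨?_⟩⟩
  let A : ModSite.Mod X.sheaf := FlatMod.freeMod X n
  have e1 : (tL X.sheaf A).obj (∐ fun _ : Fin m => ModSite.unit X.sheaf) ≅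
      ∐ fun _ : Fin m => (tL X.sheaf A).obj (ModSite.unit X.sheaf) :=
    PreservesCoproduct.iso (tL X.sheaf A) (fun _ : Fin m => ModSite.unit X.sheaf)
  have e2 : (tL X.sheaf A).obj (ModSite.unit X.sheaf) ≅ A :=
    ((brd X.sheaf).app A).app (ModSite.unit X.sheaf) ≪≫ (tLUnitIso X.sheaf).app A
  exact e1 ≪≫ Sigma.mapIso (fun _ => e2) ≪≫ eN

/-- the tensor product of two finite locally free modules is finite locally free -/
theorem isFinLocFree_tensor (M N : X.Modules) (hM : FlatMod.IsFinLocFree M)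
    (hN : FlatMod.IsFinLocFree N) :
    FlatMod.IsFinLocFree (((DCoh.tensorBi (X := X)).obj M).obj N) := fun x => by
  obtain ⟨U1, n, hx1, ⟨e1⟩⟩ := hM x
  obtain ⟨U2, m, hx2, ⟨e2⟩⟩ := hN x
  obtain ⟨a⟩ := nonempty_restrict_iso_freeMod_of_le M (inf_le_left : U1 ⊓ U2 ≤ U1) e1
  obtain ⟨b⟩ := nonempty_restrict_iso_freeMod_of_le N (inf_le_right : U1 ⊓ U2 ≤ U2) e2
  obtain ⟨N', ⟨eN⟩⟩ := nonempty_tensor_freeMod_iso (X := ((U1 ⊓ U2 : X.Opens) : Scheme.{u})) n m
  refine ⟨U1 ⊓ U2, N', ⟨hx1, hx2⟩, ⟨?_⟩⟩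
  let V : X.Opens := U1 ⊓ U2
  let r := Scheme.Modules.restrictFunctorIsoPullback V.ι
  exact r.app _ ≪≫ ((pullTensorIso V.ι).app M).app N ≪≫
    ((DCoh.tensorBi (X := (V : Scheme.{u}))).mapIso (r.symm.app M ≪≫ a)).app _ ≪≫
    ((DCoh.tensorBi (X := (V : Scheme.{u}))).obj _).mapIso (r.symm.app N ≪≫ b) ≪≫ eN

open Groth.Agent.Lib.Helper1.BKF HomologicalComplex in
/-- the tensor product of two strictly perfect complexes is strictly perfect -/
theorem isStrictlyPerfect_tensorCx (E1 E2 : CochainComplex X.Modules ℤ)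
    (h1 : DCoh.IsStrictlyPerfect E1) (h2 : DCoh.IsStrictlyPerfect E2) :
    DCoh.IsStrictlyPerfect ((DCoh.tensorCx.obj E1).obj E2) := by
  obtain ⟨⟨a1, b1, v1⟩, f1⟩ := h1
  obtain ⟨⟨a2, b2, v2⟩, f2⟩ := h2
  refine ⟨⟨a1 + a2, b1 + b2, fun n hn => ?_⟩, fun n => ?_⟩
  · refine prop_mapBifunctor_X (DCoh.tensorBi (X := X)) IsZero
      (fun I Xf c hc h => isZero_of_isColimit_cofan Xf c hc h) E1 E2 n (fun p q hpq => ?_)
    by_cases hp : p < a1 ∨ b1 < p
    · exact ((DCoh.tensorBi (X := X)).flip.obj (E2.X q)).map_isZero (v1 p hp)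
    · have hq : q < a2 ∨ b2 < q := by omega
      exact ((DCoh.tensorBi (X := X)).obj (E1.X p)).map_isZero (v2 q hq)
  · let B : HomologicalComplex₂ X.Modules (ComplexShape.up ℤ) (ComplexShape.up ℤ) :=
      (((DCoh.tensorBi (X := X)).mapBifunctorHomologicalComplex _ _).obj E1).obj E2
    let π := ComplexShape.π (ComplexShape.up ℤ) (ComplexShape.up ℤ) (ComplexShape.up ℤ)
    have hfin : {i : π ⁻¹' {n} | a1 ≤ i.1.1 ∧ i.1.1 ≤ b1}.Finite := by
      refine Set.Finite.of_injOn (f := fun i : π ⁻¹' {n} => i.1.1) (t := Set.Icc a1 b1)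
        (fun i hi => hi) (fun i _ i' _ hii' => ?_) (Set.finite_Icc a1 b1)
      have h1 : i.1.1 + i.1.2 = n := i.2
      have h2 : i'.1.1 + i'.1.2 = n := i'.2
      have h3 : i.1.1 = i'.1.1 := hii'
      apply Subtype.ext
      apply Prod.ext h3
      omega
    exact isFinLocFree_of_isColimit_cofan
      (fun i : π ⁻¹' {n} => ((DCoh.tensorBi (X := X)).obj (E1.X i.1.1)).obj (E2.X i.1.2))
      (B.toGradedObject.cofanMapObj π n) (B.toGradedObject.isColimitCofanMapObj π n)
      hfin.toFinset (fun i hi => by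
        rw [Set.Finite.mem_toFinset] at hi
        have hp : i.1.1 < a1 ∨ b1 < i.1.1 := by
          by_contra hcon
          exact hi ⟨by omega, by omega⟩
        exact ((DCoh.tensorBi (X := X)).flip.obj (E2.X i.1.2)).map_isZero (v1 _ hp))
      (fun i => isFinLocFree_tensor _ _ (f1 _) (f2 _))

end Groth.Agent.Lib.Helper1.FLF
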