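import Mathlib
import Groth.Prelude.Def_Coh
import Groth.Prelude.Def_FlatMod2
import Groth.Agent.Lib.Helper23Serre
import Groth.Agent.Lib.Helper23QCohSum

/-!
# Serre's criterion, version with surjectivity on global sections (helper23)

* `SurjHyp X`: `Γ(X, O_X) → Γ(X, Q)` is surjective for every quasi-coherent quotient `Q` of `O_X`.
* `exists_finset_cover'`: under `SurjHyp X`, `X` quasi-compact is covered by finitely many affine `X_f`.
* `psiF f : freeMod X n ⟶ O_X`, `epi_psiF`, `psiF_app_mem`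
* `isAffine_of_surjHyp`
-/

set_option autoImplicit false
universe u
open CategoryTheory Limits AlgebraicGeometry TopologicalSpace Opposite

namespace Groth.Agent.Lib.Helper23.Serre

open Groth.Agent.Lib.Helper23.AffVanish Groth.Agent.Lib.Helper23.QCohLocal
open Groth.Agent.Lib.Helper23.GenLocus

variable {X : Scheme.{u}}

/-- global sections are surjective on quasi-coherent quotients of the structure module -/
def SurjHyp (X : Scheme.{u}) : Prop :=
  ∀ (Q : X.Modules) (π : Coh.structureModule X ⟶ Q), Q.IsQuasicoherent → Epi π → Function.Surjective (π.app ⊤)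

theorem surjective_app_top_of_isClosedImmersion' (h : SurjHyp X) {Z : Scheme.{u}} (i : Z ⟶ X)
    [IsClosedImmersion i] : Function.Surjective (i.app ⊤) := by
  have : (Coh.structureModule Z).IsQuasicoherent := isQuasicoherent_structureModule' Z
  have hq : ((Scheme.Modules.pushforward i).obj (Coh.structureModule Z)).IsQuasicoherent :=
    isQuasicoherent_pushforward i _
  intro b
  obtain ⟨a, ha⟩ := h _ (unitPush i) hq inferInstance (toS (i ⁻¹ᵁ ⊤) b)
  exact ⟨ofS ⊤ a, congrArg (ofS (i ⁻¹ᵁ ⊤)) ha⟩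

theorem exists_basicOpen_le' (h : SurjHyp X) (x : X) (hx : IsClosed ({x} : Set X)) (U : X.Opens) (hxU : x ∈ U) :
    ∃ f : Γ(X, ⊤), x ∈ X.basicOpen f ∧ X.basicOpen f ≤ U := by
  let T : Closeds X := ⟨(U : Set X)ᶜ ∪ {x}, U.isOpen.isClosed_compl.union hx⟩
  let J := Scheme.IdealSheafData.vanishingIdeal T
  let i : J.subscheme ⟶ X := J.subschemeι
  have hrange : Set.range i = (U : Set X)ᶜ ∪ {x} := by
    rw [J.range_subschemeι]
    exact Scheme.IdealSheafData.coe_support_vanishingIdeal T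
  let Ux : X.Opens := ⟨({x} : Set X)ᶜ, hx.isOpen_compl⟩
  let V1 : J.subscheme.Opens := i ⁻¹ᵁ U
  let V2 : J.subscheme.Opens := i ⁻¹ᵁ Ux
  have hinf : V1 ⊓ V2 = ⊥ := by
    ext z
    simp only [Opens.coe_inf, Set.mem_inter_iff, SetLike.mem_coe, Opens.coe_bot, Set.mem_empty_iff_false,
      iff_false, not_and]
    intro hz1 hz2
    have hz : i z ∈ (U : Set X)ᶜ ∪ {x} := hrange ▸ Set.mem_range_self z
    rcases hz with hz | hz
    · exact hz hz1
    · exact hz2 hz
  have hsup : V1 ⊔ V2 = ⊤ := by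
    ext z
    simp only [Opens.coe_sup, Set.mem_union, SetLike.mem_coe, Opens.coe_top, Set.mem_univ, iff_true]
    by_cases hz : i z = x
    · left
      change i z ∈ U
      rw [hz]; exact hxU
    · right
      exact hz
  obtain ⟨e, he1, he2⟩ := exists_idempotent_of_disjoint_cover J.subscheme V1 V2 hinf hsup
  obtain ⟨f, hf⟩ := surjective_app_top_of_isClosedImmersion' h i e
  have hpre : i ⁻¹ᵁ (X.basicOpen f) = J.subscheme.basicOpen e := by
    rw [Scheme.preimage_basicOpen, hf]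
    rfl
  have hV1 : V1 ≤ J.subscheme.basicOpen e := by
    have h1 := J.subscheme.basicOpen_res e (homOfLE (le_top : V1 ≤ ⊤)).op
    rw [he1] at h1
    have h2 : J.subscheme.basicOpen (1 : Γ(J.subscheme, V1)) = V1 := J.subscheme.basicOpen_of_isUnit isUnit_one
    rw [h2] at h1
    exact inf_eq_left.1 h1.symm
  have hV2 : V2 ⊓ J.subscheme.basicOpen e = ⊥ := by
    have h1 := J.subscheme.basicOpen_res e (homOfLE (le_top : V2 ≤ ⊤)).op
    rw [he2, Scheme.basicOpen_zero] at h1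
    exact h1.symm
  have hxr : x ∈ Set.range i := by rw [hrange]; right; rfl
  obtain ⟨z₀, hz₀⟩ := hxr
  refine ⟨f, ?_, ?_⟩
  · have : z₀ ∈ i ⁻¹ᵁ (X.basicOpen f) := by
      rw [hpre]
      apply hV1
      change i z₀ ∈ U
      rw [hz₀]; exact hxU
    rw [← hz₀]
    exact this
  · intro y hy
    by_contra hyU
    have hyr : y ∈ Set.range i := by rw [hrange]; left; exact hyU
    obtain ⟨z, rfl⟩ := hyr
    have hz1 : z ∈ J.subscheme.basicOpen e := by
      rw [← hpre]; exact hy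
    have hz2 : z ∈ V2 := by
      change i z ∈ ({x} : Set X)ᶜ
      intro hzx
      rw [Set.mem_singleton_iff] at hzx
      rw [hzx] at hyU
      exact hyU hxU
    have : z ∈ V2 ⊓ J.subscheme.basicOpen e := ⟨hz2, hz1⟩
    rw [hV2] at this
    exact this

theorem exists_affine_basicOpen_mem' (h : SurjHyp X) [CompactSpace X] (y : X) :
    ∃ f : Γ(X, ⊤), IsAffineOpen (X.basicOpen f) ∧ y ∈ X.basicOpen f := by
  by_contra hcon
  push Not at hcon
  let W : X.Opens := ⨆ f : {f : Γ(X, ⊤) // IsAffineOpen (X.basicOpen f)}, X.basicOpen f.1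
  have hyW : y ∉ W := by
    intro hy
    obtain ⟨f, hf⟩ := Opens.mem_iSup.1 hy
    exact hcon f.1 f.2 hf
  obtain ⟨x, hxW, hx⟩ := IsClosed.exists_closed_singleton (S := (W : Set X)ᶜ) W.isOpen.isClosed_compl ⟨y, hyW⟩
  obtain ⟨_, ⟨U, hU, rfl⟩, hxU, -⟩ :=
    X.isBasis_affineOpens.exists_subset_of_mem_open (Set.mem_univ x) isOpen_univ
  obtain ⟨f, hxf, hfU⟩ := exists_basicOpen_le' h x hx U hxU
  have haff : IsAffineOpen (X.basicOpen f) := by
    have h1 := X.basicOpen_res f (homOfLE (le_top : U ≤ ⊤)).op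
    rw [inf_eq_right.2 hfU] at h1
    rw [← h1]
    exact hU.basicOpen _
  exact hxW (Opens.mem_iSup.2 ⟨⟨f, haff⟩, hxf⟩)

theorem exists_finset_cover' (h : SurjHyp X) [CompactSpace X] :
    ∃ s : Finset Γ(X, ⊤), (∀ f ∈ s, IsAffineOpen (X.basicOpen f)) ∧ ∀ y : X, ∃ f ∈ s, y ∈ X.basicOpen f := by
  classical
  choose f hf1 hf2 using exists_affine_basicOpen_mem' h
  obtain ⟨t, ht⟩ := CompactSpace.elim_nhds_subcover (fun y => (X.basicOpen (f y) : Set X))
    (fun y => (X.basicOpen (f y)).isOpen.mem_nhds (hf2 y))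
  refine ⟨t.image f, ?_, ?_⟩
  · intro g hg
    obtain ⟨y, -, rfl⟩ := Finset.mem_image.1 hg
    exact hf1 y
  · intro y
    have hy : y ∈ ⋃ x ∈ t, (X.basicOpen (f x) : Set X) := by rw [ht]; trivial
    simp only [Set.mem_iUnion] at hy
    obtain ⟨x, hxt, hyx⟩ := hy
    exact ⟨f x, Finset.mem_image_of_mem f hxt, hyx⟩


/-- `(a_k) ↦ ∑ a_k f_k` on the free module -/
noncomputable def psiF {n : ℕ} (f : Fin n → Γ(X, ⊤)) : FlatMod.freeMod X n ⟶ Coh.structureModule X :=
  Sigma.desc (fun k => mulBy (f k))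

theorem ι_psiF {n : ℕ} (f : Fin n → Γ(X, ⊤)) (k : Fin n) :
    Sigma.ι (fun _ : Fin n => Coh.structureModule X) k ≫ psiF f = mulBy (f k) :=
  Sigma.ι_desc _ _

theorem epi_psiF {n : ℕ} (f : Fin n → Γ(X, ⊤)) (hf : ∀ y : X, ∃ k, y ∈ X.basicOpen (f k)) :
    Epi (psiF f) := by
  apply epi_of_locally_surjective
  intro V t y hyV
  obtain ⟨k, hyk⟩ := hf y
  refine ⟨V ⊓ X.basicOpen (f k), inf_le_left, ⟨hyV, hyk⟩, ?_⟩
  obtain ⟨u, hu⟩ := isUnit_resF (f k) (V ⊓ X.basicOpen (f k)) inf_le_right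
  let t' : Γ(X, V ⊓ X.basicOpen (f k)) :=
    ofS _ ((Coh.structureModule X).presheaf.map (homOfLE (inf_le_left : V ⊓ X.basicOpen (f k) ≤ V)).op t)
  let z : Γ(Coh.structureModule X, V ⊓ X.basicOpen (f k)) := toS _ (t' * ↑u⁻¹)
  refine ⟨(Sigma.ι (fun _ : Fin n => Coh.structureModule X) k).app _ z, ?_⟩
  have h1 : (psiF f).app (V ⊓ X.basicOpen (f k))
      ((Sigma.ι (fun _ : Fin n => Coh.structureModule X) k).app _ z) =
      (mulBy (f k)).app (V ⊓ X.basicOpen (f k)) z :=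
    congrArg (fun φ : Coh.structureModule X ⟶ Coh.structureModule X =>
      φ.app (V ⊓ X.basicOpen (f k)) z) (ι_psiF f k)
  rw [h1]
  change (mulBy (f k)).app (V ⊓ X.basicOpen (f k)) (toS _ (t' * ↑u⁻¹)) = _
  rw [mulBy_app, ← hu, mul_assoc, Units.inv_mul, mul_one]
  rfl

attribute [local instance] Abelian.hasFiniteBiproducts

/-- evaluation of morphisms on a section, as an additive map -/
noncomputable def evalHom {M N : X.Modules} (W : X.Opens) (s : Γ(M, W)) : (M ⟶ N) →+ Γ(N, W) where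
  toFun φ := φ.app W s
  map_zero' := by rw [Scheme.Modules.Hom.zero_app]; rfl
  map_add' φ ψ := by rw [Scheme.Modules.Hom.add_app]; rfl

theorem psiF_app_mem {n : ℕ} (f : Fin n → Γ(X, ⊤)) (s : Γ(FlatMod.freeMod X n, ⊤)) :
    ofS ⊤ ((psiF f).app ⊤ s) ∈ Ideal.span (Set.range f) := by
  let O : X.Modules := Coh.structureModule X
  let e : (⨁ fun _ : Fin n => O) ≅ ∐ fun _ : Fin n => O := biproduct.isoCoproduct _
  let ψ' : (⨁ fun _ : Fin n => O) ⟶ O := e.hom ≫ psiF f
  have hψ' : ∀ k, biproduct.ι (fun _ : Fin n => O) k ≫ ψ' = mulBy (f k) := by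
    intro k
    change biproduct.ι (fun _ : Fin n => O) k ≫ (biproduct.isoCoproduct _).hom ≫ psiF f = _
    rw [biproduct.isoCoproduct_hom, biproduct.ι_desc_assoc]
    exact ι_psiF f k
  have hsum : ψ' = ∑ k, biproduct.π (fun _ : Fin n => O) k ≫ mulBy (f k) := by
    have h1 : ψ' = (∑ k, biproduct.π (fun _ : Fin n => O) k ≫ biproduct.ι (fun _ : Fin n => O) k) ≫ ψ' := by
      rw [biproduct.total, Category.id_comp]
    rw [h1, Preadditive.sum_comp]
    refine Finset.sum_congr rfl (fun k _ => ?_)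
    rw [Category.assoc, hψ']
  let s' : Γ((⨁ fun _ : Fin n => O : X.Modules), ⊤) := e.inv.app ⊤ s
  have h2 : (psiF f).app ⊤ s = ψ'.app ⊤ s' := by
    have h3 : e.inv ≫ ψ' = psiF f := by
      change e.inv ≫ e.hom ≫ psiF f = _
      rw [Iso.inv_hom_id_assoc]
    exact (congrArg (fun φ : (∐ fun _ : Fin n => O) ⟶ O => φ.app ⊤ s) h3).symm
  have h4 : ψ'.app ⊤ s' = ∑ k, (mulBy (f k)).app ⊤ ((biproduct.π (fun _ : Fin n => O) k).app ⊤ s') := by
    have := congrArg (evalHom (N := O) ⊤ s') hsum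
    rw [map_sum] at this
    exact this
  have h5 : ofS ⊤ ((psiF f).app ⊤ s) =
      ∑ k, ofS ⊤ ((biproduct.π (fun _ : Fin n => O) k).app ⊤ s') * f k := by
    rw [h2, h4]
    have h6 : ∀ k, (mulBy (f k)).app ⊤ ((biproduct.π (fun _ : Fin n => O) k).app ⊤ s') =
        toS ⊤ (ofS ⊤ ((biproduct.π (fun _ : Fin n => O) k).app ⊤ s') * f k) := by
      intro k
      have := mulBy_app (f k) ⊤ (ofS ⊤ ((biproduct.π (fun _ : Fin n => O) k).app ⊤ s'))
      rw [resF_top, toS_ofS] at this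
      exact this
    simp only [h6]
    rfl
  rw [h5]
  refine Ideal.sum_mem _ (fun k _ => ?_)
  exact Ideal.mul_mem_left _ _ (Ideal.subset_span ⟨k, rfl⟩)

theorem isQuasicoherent_freeMod (n : ℕ) : (FlatMod.freeMod X n).IsQuasicoherent := by
  have h1 : (⨁ fun _ : Fin n => (Coh.structureModule X : X.Modules)).IsQuasicoherent :=
    isQuasicoherent_biproduct _ (fun _ => isQuasicoherent_structureModule' X)
  exact (SheafOfModules.isQuasicoherent X.ringCatSheaf).prop_of_iso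
    (biproduct.isoCoproduct (fun _ : Fin n => (Coh.structureModule X : X.Modules))) h1

theorem isAffine_of_surjHyp [CompactSpace X] (h1 : SurjHyp X)
    (h2 : ∀ (n : ℕ) (f : Fin n → Γ(X, ⊤)), Epi (psiF f) → Function.Surjective ((psiF f).app ⊤)) :
    IsAffine X := by
  classical
  obtain ⟨s, hs1, hs2⟩ := exists_finset_cover' h1
  let f : Fin s.card → Γ(X, ⊤) := fun k => (s.equivFin.symm k).1
  have hcov : ∀ y : X, ∃ k, y ∈ X.basicOpen (f k) := by
    intro y
    obtain ⟨g, hg, hy⟩ := hs2 y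
    refine ⟨s.equivFin ⟨g, hg⟩, ?_⟩
    change y ∈ X.basicOpen ((s.equivFin.symm (s.equivFin ⟨g, hg⟩)).1)
    rw [Equiv.symm_apply_apply]
    exact hy
  have hepi := epi_psiF f hcov
  obtain ⟨t, ht⟩ := h2 _ f hepi (toS ⊤ 1)
  have hmem := psiF_app_mem f t
  rw [ht] at hmem
  have hspan : Ideal.span (Set.range f) = ⊤ := (Ideal.eq_top_iff_one _).2 hmem
  refine isAffine_of_isAffineOpen_basicOpen (Set.range f) hspan ?_
  rintro _ ⟨k, rfl⟩
  exact hs1 _ (s.equivFin.symm k).2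

end Groth.Agent.Lib.Helper23.Serre
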