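import Mathlib
import Groth.Prelude.Def_SecTwist
import Groth.Agent.Lib.Helper23SecTw
import Groth.Agent.Lib.Helper23TensorUnit
import Groth.Agent.Lib.Helper23LocGen
import Groth.Agent.Lib.Helper23Serre2

/-!
# Morphisms out of a tensor product of O_X-modules; quotients of finite free modules (helper23)

Namespace `Groth.Agent.Lib.Helper23.TensorMap`.

* `lift ψ : M ⊗ N ⟶ F` from a morphism of presheaves of modules `ψ` out of the sectionwise tensor product, with
  `lift_tm : (lift ψ)(m ⊗ n) = ψ(m ⊗ₜ n)`.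
* `mulHom ι E : A ⊗ E ⟶ E` for `ι : A ⟶ O_X`, with `mulHom_tm : (mulHom ι E)(a ⊗ e) = ι(a) • e`.
* `app_eq_smul_sv`, `app_mem_gspan_of_freeMod`, `locGen_of_epi_freeMod` : a quotient of `O_X^k` is generated by global
  sections near every point.
-/

set_option autoImplicit false
universe u
open CategoryTheory CategoryTheory.Limits AlgebraicGeometry MonoidalCategory TopologicalSpace Opposite

namespace Groth.Agent.Lib.Helper23.TensorMap
open Groth.Agent.Lib.Helper23.SecTw Groth.Agent.Lib.Helper23.GenLocus Groth.Agent.Lib.Helper6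

variable {X : Scheme.{u}}

/-- the sheafification adjunction for `O_X`-modules -/
noncomputable abbrev adj (X : Scheme.{u}) :=
  PresheafOfModules.sheafificationAdjunction.{u, u, u, u} (R := X.ringCatSheaf) (𝟙 X.ringCatSheaf.obj)

/-- a morphism out of a tensor product from a morphism of presheaves of modules out of the sectionwise tensor product -/
noncomputable def lift {M N F : X.Modules}
    (ψ : (CohB1.tensorPre M N : X.PresheafOfModules) ⟶
      (PresheafOfModules.restrictScalars (𝟙 X.ringCatSheaf.obj)).obj F.val) :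
    CohB1.tensorMod M N ⟶ F :=
  ((adj X).homEquiv _ _).symm ψ

theorem lift_tm {M N F : X.Modules}
    (ψ : (CohB1.tensorPre M N : X.PresheafOfModules) ⟶
      (PresheafOfModules.restrictScalars (𝟙 X.ringCatSheaf.obj)).obj F.val)
    (W : X.Opens) (m : Γ(M, W)) (n : Γ(N, W)) :
    (lift ψ).app W (tm M N W m n) = (ψ.app (op W)).hom (m ⊗ₜ n) := by
  have h1 : SecTwist.toTensor M N ≫ (SheafOfModules.forget _ ⋙ PresheafOfModules.restrictScalars (𝟙 X.ringCatSheaf.obj)).map (lift ψ) = ψ := by
    have := ((adj X).homEquiv _ _).apply_symm_apply ψ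
    erw [Adjunction.homEquiv_unit] at this
    exact this
  have h2 := congrArg (fun φ => (φ.app (op W)).hom (m ⊗ₜ n)) h1
  exact h2

/-- presheaf-level map `a ⊗ e ↦ ι(a) • e` -/
noncomputable def mulPre {A : X.Modules} (ι : A ⟶ Coh.structureModule X) (E : X.Modules) :
    CohB1.tensorPre A E ⟶ CohB1.toPMod E :=
  ((show CohB1.toPMod A ⟶ CohB1.toPMod (Coh.structureModule X) from ι.val) ▷ CohB1.toPMod E) ≫
    (Groth.Agent.Lib.Helper23.TensorUnit.lam E).hom

theorem mulPre_app {A : X.Modules} (ι : A ⟶ Coh.structureModule X) (E : X.Modules) (W : X.Opens)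
    (a : Γ(A, W)) (e : Γ(E, W)) :
    ((mulPre ι E).app (op W)).hom (a ⊗ₜ e) = (ofS W (ι.app W a)) • e := by
  rfl

/-- the morphism `A ⊗ E ⟶ E` induced by `ι : A ⟶ O_X`, `a ⊗ e ↦ ι(a) • e` -/
noncomputable def mulHom {A : X.Modules} (ι : A ⟶ Coh.structureModule X) (E : X.Modules) :
    CohB1.tensorMod A E ⟶ E :=
  lift (show (CohB1.tensorPre A E : X.PresheafOfModules) ⟶
      (PresheafOfModules.restrictScalars (𝟙 X.ringCatSheaf.obj)).obj E.val from mulPre ι E)

theorem mulHom_tm {A : X.Modules} (ι : A ⟶ Coh.structureModule X) (E : X.Modules) (W : X.Opens)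
    (a : Γ(A, W)) (e : Γ(E, W)) :
    (mulHom ι E).app W (tm A E W a e) = (ofS W (ι.app W a)) • e := by
  unfold mulHom
  rw [lift_tm]
  exact mulPre_app ι E W a e

open Groth.Agent.Lib.Helper23.LocGen Groth.Agent.Lib.Helper23.Serre


attribute [local instance] Abelian.hasFiniteBiproducts

theorem app_eq_smul_sv {N : X.Modules} (σ : Coh.structureModule X ⟶ N) (B : X.Opens)
    (r : Γ(Coh.structureModule X, B)) : σ.app B r = (ofS B r) • sv σ B := by
  have h1 : r = (ofS B r) • toS B 1 := by
    rw [smul_toS, mul_one]; rfl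
  conv_lhs => rw [h1]
  rw [Scheme.Modules.Hom.app_smul]
  rfl

/-- the image of a morphism from a finite free module lies in the span of global sections -/
theorem app_mem_gspan_of_freeMod {k : ℕ} {N : X.Modules} (p : FlatMod.freeMod X k ⟶ N) (B : X.Opens)
    (a : Γ(FlatMod.freeMod X k, B)) : p.app B a ∈ gspan N B := by
  let O : X.Modules := Coh.structureModule X
  let e : (⨁ fun _ : Fin k => O) ≅ ∐ fun _ : Fin k => O := biproduct.isoCoproduct _
  let p' : (⨁ fun _ : Fin k => O) ⟶ N := e.hom ≫ p
  let σ : Fin k → (O ⟶ N) := fun i => Sigma.ι (fun _ : Fin k => O) i ≫ p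
  have hp' : ∀ i, biproduct.ι (fun _ : Fin k => O) i ≫ p' = σ i := by
    intro i
    change biproduct.ι (fun _ : Fin k => O) i ≫ (biproduct.isoCoproduct _).hom ≫ p = _
    rw [biproduct.isoCoproduct_hom, biproduct.ι_desc_assoc]
  have hsum : p' = ∑ i, biproduct.π (fun _ : Fin k => O) i ≫ σ i := by
    have h1 : p' = (∑ i, biproduct.π (fun _ : Fin k => O) i ≫ biproduct.ι (fun _ : Fin k => O) i) ≫ p' := by
      rw [biproduct.total, Category.id_comp]
    rw [h1, Preadditive.sum_comp]
    refine Finset.sum_congr rfl (fun i _ => ?_)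
    rw [Category.assoc, hp']
  let a' : Γ((⨁ fun _ : Fin k => O : X.Modules), B) := e.inv.app B a
  have h2 : p.app B a = p'.app B a' := by
    have h3 : e.inv ≫ p' = p := by
      change e.inv ≫ e.hom ≫ p = _
      rw [Iso.inv_hom_id_assoc]
    exact (congrArg (fun φ : (∐ fun _ : Fin k => O) ⟶ N => φ.app B a) h3).symm
  have h4 : p'.app B a' = ∑ i, (σ i).app B ((biproduct.π (fun _ : Fin k => O) i).app B a') := by
    have := congrArg (evalHom (N := N) B a') hsum
    rw [map_sum] at this
    exact this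
  rw [h2, h4]
  refine Submodule.sum_mem _ (fun i _ => ?_)
  rw [app_eq_smul_sv]
  exact Submodule.smul_mem _ _ (sv_mem_gspan N (σ i) B)

/-- a quotient of a finite free module is generated by global sections near every point -/
theorem locGen_of_epi_freeMod {k : ℕ} {N : X.Modules} (p : FlatMod.freeMod X k ⟶ N) [Epi p] :
    LocGen N ⊤ := by
  intro A _ m y hy
  obtain ⟨V, hVA, hyV, g, hg⟩ := Groth.Agent.Lib.Helper4.ModEpi.exists_app_eq_of_epi p A m y hy
  refine ⟨V, hVA, hyV, ?_⟩
  have : res N hVA m = p.app V g := hg.symm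
  rw [this]
  exact app_mem_gspan_of_freeMod p V g

end Groth.Agent.Lib.Helper23.TensorMap
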