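import Mathlib
import Groth.Agent.Lib.Helper23LocGen
import Groth.Agent.Lib.Helper23TensorMap

/-!
# Finite generation by global sections (helper23)

Namespace `Groth.Agent.Lib.Helper23.FinGen`.

* `fspan N S B` : sections over `B` spanned by the finite set `S` of global sections.
* `exists_epi_freeMod_of_locGen` : on a quasi-compact scheme, a quasi-coherent module of finite type that is generated
  by its global sections near every point is a quotient of some `O_X^k`.
-/

set_option autoImplicit false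
universe u
open CategoryTheory CategoryTheory.Limits AlgebraicGeometry TopologicalSpace Opposite

namespace Groth.Agent.Lib.Helper23.FinGen
open Groth.Agent.Lib.Helper23.SecTw Groth.Agent.Lib.Helper23.GenLocus Groth.Agent.Lib.Helper6
open Groth.Agent.Lib.Helper23.AmpleIso Groth.Agent.Lib.Helper23.Extend Groth.Agent.Lib.Helper23.QCohLocal
open Groth.Agent.Lib.Helper23.LocGen

variable {X : Scheme.{u}}

/-- sections over `B` spanned by a finite set of global sections -/
noncomputable def fspan (N : X.Modules) (S : Finset (Coh.structureModule X ⟶ N)) (B : X.Opens) :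
    Submodule Γ(X, B) Γ(N, B) :=
  Submodule.span Γ(X, B) ((fun σ : Coh.structureModule X ⟶ N => sv σ B) '' (S : Set (Coh.structureModule X ⟶ N)))

theorem fspan_mono (N : X.Modules) {S S' : Finset (Coh.structureModule X ⟶ N)} (h : S ⊆ S') (B : X.Opens) :
    fspan N S B ≤ fspan N S' B :=
  Submodule.span_mono (Set.image_mono (Finset.coe_subset.2 h))

theorem sv_mem_fspan (N : X.Modules) {S : Finset (Coh.structureModule X ⟶ N)} {σ : Coh.structureModule X ⟶ N}
    (hσ : σ ∈ S) (B : X.Opens) : sv σ B ∈ fspan N S B :=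
  Submodule.subset_span ⟨σ, Finset.mem_coe.2 hσ, rfl⟩

theorem res_mem_fspan (N : X.Modules) (S : Finset (Coh.structureModule X ⟶ N)) {B B' : X.Opens} (h : B' ≤ B)
    {m : Γ(N, B)} (hm : m ∈ fspan N S B) : res N h m ∈ fspan N S B' := by
  induction hm using Submodule.span_induction with
  | mem x hx =>
    obtain ⟨σ, hσ, rfl⟩ := hx
    rw [res_sv]
    exact sv_mem_fspan N (Finset.mem_coe.1 hσ) B'
  | zero => rw [res_zero]; exact zero_mem _
  | add x y _ _ hx hy => rw [res_add']; exact add_mem hx hy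
  | smul r x _ hx => rw [res_smul]; exact Submodule.smul_mem _ _ hx

open Classical in
theorem exists_fspan_of_mem_gspan (N : X.Modules) {B : X.Opens} {m : Γ(N, B)} (hm : m ∈ gspan N B) :
    ∃ S : Finset (Coh.structureModule X ⟶ N), m ∈ fspan N S B := by
  induction hm using Submodule.span_induction with
  | mem x hx =>
    obtain ⟨σ, rfl⟩ := hx
    exact ⟨{σ}, sv_mem_fspan N (Finset.mem_singleton_self σ) B⟩
  | zero => exact ⟨∅, zero_mem _⟩
  | add x y _ _ hx hy =>
    obtain ⟨S, hS⟩ := hx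
    obtain ⟨S', hS'⟩ := hy
    exact ⟨S ∪ S', add_mem (fspan_mono N Finset.subset_union_left B hS)
      (fspan_mono N Finset.subset_union_right B hS')⟩
  | smul r x _ hx =>
    obtain ⟨S, hS⟩ := hx
    exact ⟨S, Submodule.smul_mem _ _ hS⟩

/-- restriction maps the span of `T` into the span of the restrictions -/
theorem res_mem_of_mem_span (N : X.Modules) {U D : X.Opens} (h : D ≤ U) (T : Set Γ(N, U))
    (P : Submodule Γ(X, D) Γ(N, D)) (hT : ∀ τ ∈ T, res N h τ ∈ P) {m : Γ(N, U)}
    (hm : m ∈ Submodule.span Γ(X, U) T) : res N h m ∈ P := by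
  induction hm using Submodule.span_induction with
  | mem x hx => exact hT x hx
  | zero => rw [res_zero]; exact zero_mem _
  | add x y _ _ hx hy => rw [res_add']; exact add_mem hx hy
  | smul r x _ hx => rw [res_smul]; exact Submodule.smul_mem _ _ hx

open Classical in
/-- finitely many sections over `U`, each generated by global sections near `x`, are all in the span of one finite set
of global sections over a common neighbourhood of `x` -/
theorem exists_common_fspan (N : X.Modules) {U V : X.Opens} (hUV : U ≤ V) (hV : LocGen N V) (x : X) (hx : x ∈ U)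
    (T : Finset Γ(N, U)) :
    ∃ (W : X.Opens) (hW : W ≤ U) (S : Finset (Coh.structureModule X ⟶ N)), x ∈ W ∧
      ∀ τ ∈ T, res N hW τ ∈ fspan N S W := by
  induction T using Finset.induction_on with
  | empty => exact ⟨U, le_rfl, ∅, hx, fun τ hτ => absurd hτ (Finset.notMem_empty τ)⟩
  | insert τ₀ T _ ih =>
    obtain ⟨W, hW, S, hxW, hS⟩ := ih
    obtain ⟨B, hB, hxB, hmem⟩ := hV U hUV τ₀ x hx
    obtain ⟨S₀, hS₀⟩ := exists_fspan_of_mem_gspan N hmem
    refine ⟨W ⊓ B, inf_le_left.trans hW, S ∪ S₀, ⟨hxW, hxB⟩, fun τ hτ => ?_⟩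
    rcases Finset.mem_insert.1 hτ with rfl | hτ
    · have h1 : res N (inf_le_left.trans hW : W ⊓ B ≤ U) τ = res N (inf_le_right : W ⊓ B ≤ B) (res N hB τ) := by
        rw [res_res]
      rw [h1]
      exact fspan_mono N Finset.subset_union_right _ (res_mem_fspan N S₀ _ hS₀)
    · have h1 : res N (inf_le_left.trans hW : W ⊓ B ≤ U) τ = res N (inf_le_left : W ⊓ B ≤ W) (res N hW τ) := by
        rw [res_res]
      rw [h1]
      exact fspan_mono N Finset.subset_union_left _ (res_mem_fspan N S _ (hS τ hτ))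

open Groth.Agent.Lib.Helper2.Push Groth.Agent.Lib.Helper23.FinType in
/-- local form: near a point where `N` is generated by global sections, finitely many global sections suffice -/
theorem exists_nhd_fspan (N : X.Modules) [N.IsQuasicoherent] [SheafOfModules.IsFiniteType (R := X.ringCatSheaf) N]
    {V : X.Opens} (hV : LocGen N V) (x : X) (hx : x ∈ V) :
    ∃ (W : X.Opens) (S : Finset (Coh.structureModule X ⟶ N)), x ∈ W ∧
      ∀ (A : X.Opens) (t : Γ(N, A)) (y : X), y ∈ A → y ∈ W →
        ∃ (B : X.Opens) (hB : B ≤ A), y ∈ B ∧ res N hB t ∈ fspan N S B := by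
  classical
  obtain ⟨U, hUaff, hxU, hUV⟩ := Opens.isBasis_iff_nbhd.1 X.isBasis_affineOpens hx
  have hfin : Module.Finite Γ(X, U) Γ(N, U) := finite_of_isFiniteType N hUaff
  obtain ⟨T, hT⟩ := hfin.fg_top
  obtain ⟨W, hW, S, hxW, hS⟩ := exists_common_fspan N hUV hV x hxU T
  have hloc : IsLocOn N U := IsLocOn.of_isQuasicoherent hUaff N
  refine ⟨W, S, hxW, fun A t y hyA hyW => ?_⟩
  obtain ⟨f, hfA, hyf⟩ := hUaff.exists_basicOpen_le (V := A ⊓ W) ⟨y, ⟨hyA, hyW⟩⟩ (hW hyW)
  obtain ⟨n, t₀, ht₀⟩ := hloc.exists_extension f (res N (hfA.trans inf_le_left) t)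
  refine ⟨X.basicOpen f, hfA.trans inf_le_left, hyf, ?_⟩
  have hunit : IsUnit (resf (X.basicOpen_le f) f) := RingedSpace.isUnit_res_basicOpen _ f
  obtain ⟨u, hu⟩ := hunit.pow n
  have h1 : res N (hfA.trans inf_le_left) t = (↑u⁻¹ : Γ(X, X.basicOpen f)) • res N (X.basicOpen_le f) t₀ := by
    change res N (X.basicOpen_le f) t₀ = resf (X.basicOpen_le f) f ^ n • res N (hfA.trans inf_le_left) t at ht₀
    rw [ht₀, ← hu, ← mul_smul, Units.inv_mul, one_smul]
  rw [h1]
  refine Submodule.smul_mem _ _ ?_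
  refine res_mem_of_mem_span N (X.basicOpen_le f) (T : Set Γ(N, U)) _ (fun τ hτ => ?_) (by rw [hT]; trivial)
  have h2 : res N (X.basicOpen_le f) τ = res N (hfA.trans inf_le_right : X.basicOpen f ≤ W) (res N hW τ) := by
    rw [res_res]
  rw [h2]
  exact res_mem_fspan N S _ (hS τ (Finset.mem_coe.1 hτ))

/-- global form: on a quasi-compact scheme, finitely many global sections generate `N` -/
theorem exists_finset_fspan [CompactSpace X] (N : X.Modules) [N.IsQuasicoherent]
    [SheafOfModules.IsFiniteType (R := X.ringCatSheaf) N]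
    (h : ∀ x : X, ∃ V : X.Opens, x ∈ V ∧ LocGen N V) :
    ∃ S : Finset (Coh.structureModule X ⟶ N), ∀ (A : X.Opens) (t : Γ(N, A)) (y : X), y ∈ A →
      ∃ (B : X.Opens) (hB : B ≤ A), y ∈ B ∧ res N hB t ∈ fspan N S B := by
  classical
  have h' : ∀ x : X, ∃ (W : X.Opens) (S : Finset (Coh.structureModule X ⟶ N)), x ∈ W ∧
      ∀ (A : X.Opens) (t : Γ(N, A)) (y : X), y ∈ A → y ∈ W →
        ∃ (B : X.Opens) (hB : B ≤ A), y ∈ B ∧ res N hB t ∈ fspan N S B := by
    intro x
    obtain ⟨V, hxV, hV⟩ := h x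
    exact exists_nhd_fspan N hV x hxV
  choose W S hxW hS using h'
  obtain ⟨T, hT⟩ : ∃ T : Finset X, (Set.univ : Set X) ⊆ ⋃ x ∈ T, (W x : Set X) :=
    isCompact_univ.elim_finite_subcover (fun x => (W x : Set X)) (fun x => (W x).2)
      (fun x _ => Set.mem_iUnion.2 ⟨x, hxW x⟩)
  refine ⟨T.biUnion S, fun A t y hyA => ?_⟩
  obtain ⟨x, hx⟩ := Set.mem_iUnion.1 (hT (Set.mem_univ y))
  obtain ⟨hxT, hyx⟩ := Set.mem_iUnion.1 hx
  obtain ⟨B, hB, hyB, hmem⟩ := hS x A t y hyA hyx
  exact ⟨B, hB, hyB, fspan_mono N (Finset.subset_biUnion_of_mem S hxT) B hmem⟩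

theorem exists_app_eq_of_mem_fspan {Fm N : X.Modules} (p : Fm ⟶ N) (S : Finset (Coh.structureModule X ⟶ N))
    (hp : ∀ σ ∈ S, ∃ ι : Coh.structureModule X ⟶ Fm, ι ≫ p = σ) {B : X.Opens}
    {m : Γ(N, B)} (hm : m ∈ fspan N S B) : ∃ a, p.app B a = m := by
  induction hm using Submodule.span_induction with
  | mem x hx =>
    obtain ⟨σ, hσ, rfl⟩ := hx
    obtain ⟨ι, hι⟩ := hp σ (Finset.mem_coe.1 hσ)
    refine ⟨ι.app B (toS B 1), ?_⟩
    exact congrArg (fun φ : Coh.structureModule X ⟶ N => φ.app B (toS B 1)) hι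
  | zero => exact ⟨0, map_zero _⟩
  | add x y _ _ hx hy =>
    obtain ⟨a, ha⟩ := hx
    obtain ⟨b, hb⟩ := hy
    exact ⟨a + b, by rw [map_add, ha, hb]⟩
  | smul r x _ hx =>
    obtain ⟨a, ha⟩ := hx
    exact ⟨r • a, by rw [Scheme.Modules.Hom.app_smul, ha]⟩

/-- **Finite global generation**: on a quasi-compact scheme, a quasi-coherent module of finite type generated by its
global sections near every point is a quotient of a finite free module. -/
theorem exists_epi_freeMod_of_locGen [CompactSpace X] (N : X.Modules) [N.IsQuasicoherent]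
    [SheafOfModules.IsFiniteType (R := X.ringCatSheaf) N]
    (h : ∀ x : X, ∃ V : X.Opens, x ∈ V ∧ LocGen N V) :
    ∃ (k : ℕ) (p : FlatMod.freeMod X k ⟶ N), Epi p := by
  obtain ⟨S, hS⟩ := exists_finset_fspan N h
  let σ : Fin S.card → (Coh.structureModule X ⟶ N) := fun i => (S.equivFin.symm i).1
  let p : FlatMod.freeMod X S.card ⟶ N := Sigma.desc σ
  have hp : ∀ τ ∈ S, ∃ ι : Coh.structureModule X ⟶ FlatMod.freeMod X S.card, ι ≫ p = τ := by
    intro τ hτ
    refine ⟨Sigma.ι (fun _ : Fin S.card => Coh.structureModule X) (S.equivFin ⟨τ, hτ⟩), ?_⟩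
    rw [Sigma.ι_desc]
    change ((S.equivFin.symm (S.equivFin ⟨τ, hτ⟩)) : (Coh.structureModule X ⟶ N)) = τ
    rw [Equiv.symm_apply_apply]
  refine ⟨S.card, p, ?_⟩
  apply Groth.Agent.Lib.Helper23.Serre.epi_of_locally_surjective
  intro V t x hxV
  obtain ⟨B, hB, hxB, hmem⟩ := hS V t x hxV
  obtain ⟨a, ha⟩ := exists_app_eq_of_mem_fspan p S hp hmem
  exact ⟨B, hB, hxB, a, ha⟩

end Groth.Agent.Lib.Helper23.FinGen
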