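import Mathlib
import Groth.Prelude
import Groth.Agent.Lib.Helper23SecTw6
/-!
# The dual of an invertible module is a tensor inverse (helper23)

Namespace `Groth.Agent.Lib.Helper23.InvDual`.  `RefHull.dual L = 𝓗om(L, O_X)` in the prelude's concrete model.

* `mulGerm a x hx : O_{X,x} → L_x`, `t ↦ t • a_x`, bijective when `a` generates `L` over `W ∋ x` (`mulGerm_bijective`).
* `phi ha x hx : L_x → (O_X)_x` the dual linear form, `phi_germ`, `phi_gen`, `stalkHom_ext`.
* `dualFrame ha : Γ(RefHull.dual L, W)`, `isGen_dualFrame`, `dualFrame_transition`.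
* `section_ext`, `exists_section_of_germs` (gluing a section with prescribed germs), `germ_res`, `germ_toS`.
* `isInvertible_dual`, `nonempty_tensorMod_dual_iso : L ⊗ L^∨ ≅ O_X` for invertible `L`.
-/

set_option autoImplicit false
set_option linter.style.haveILetI false
universe u
open CategoryTheory Limits AlgebraicGeometry TopologicalSpace Opposite

namespace Groth.Agent.Lib.Helper23.InvDual
open Groth.Agent.Lib.Helper23.SecTw Groth.Agent.Lib.Helper23.GenLocus Groth.Agent.Lib.Helper23.Extend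
  Groth.Agent.Lib.Helper6

variable {X : Scheme.{u}} {L : X.Modules} {W : X.Opens} {a : Γ(L, W)}

/-- `t ↦ t • a_x` -/
noncomputable def mulGerm (a : Γ(L, W)) (x : X) (hx : x ∈ W) :
    X.presheaf.stalk x →ₗ[X.presheaf.stalk x] L.presheaf.stalk x :=
  LinearMap.toSpanSingleton _ _ (L.presheaf.germ W x hx a)

theorem mulGerm_apply (a : Γ(L, W)) (x : X) (hx : x ∈ W) (t : X.presheaf.stalk x) :
    mulGerm a x hx t = t • L.presheaf.germ W x hx a := rfl

theorem germ_res (M : X.Modules) {U V : X.Opens} (h : V ≤ U) (x : X) (hx : x ∈ V) (m : Γ(M, U)) :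
    M.presheaf.germ V x hx (res M h m) = M.presheaf.germ U x (h hx) m :=
  TopCat.Presheaf.germ_res_apply M.presheaf (homOfLE h) x hx m

theorem germ_resf {U V : X.Opens} (h : V ≤ U) (x : X) (hx : x ∈ V) (r : Γ(X, U)) :
    X.presheaf.germ V x hx (resf h r) = X.presheaf.germ U x (h hx) r :=
  TopCat.Presheaf.germ_res_apply X.presheaf (homOfLE h) x hx r

theorem mulGerm_germ (a : Γ(L, W)) {A : X.Opens} (hA : A ≤ W) (x : X) (hx : x ∈ A) (r : Γ(X, A)) :
    mulGerm a x (hA hx) (X.presheaf.germ A x hx r) = L.presheaf.germ A x hx (r • res L hA a) := by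
  rw [mulGerm_apply, Mero.germ_smul, germ_res]

theorem mulGerm_bijective (ha : IsGen L W a) (x : X) (hx : x ∈ W) : Function.Bijective (mulGerm a x hx) := by
  constructor
  · rw [injective_iff_map_eq_zero]
    intro t ht
    obtain ⟨U, hU, r, rfl⟩ := TopCat.Presheaf.exists_germ_eq X.presheaf t
    have hxUW : x ∈ U ⊓ W := ⟨hU, hx⟩
    have h1 : X.presheaf.germ U x hU r = X.presheaf.germ (U ⊓ W) x hxUW (resf inf_le_left r) :=
      (germ_resf inf_le_left x hxUW r).symm
    rw [h1] at ht ⊢
    rw [mulGerm_germ a inf_le_right x hxUW] at ht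
    have h0 : L.presheaf.germ (U ⊓ W) x hxUW (0 : Γ(L, U ⊓ W)) = 0 := map_zero _
    rw [← h0] at ht
    obtain ⟨V, hxV, iU, iV, hV⟩ := TopCat.Presheaf.germ_eq L.presheaf x hxUW hxUW _ _ ht
    have hV' : res L iU.le (resf (inf_le_left : U ⊓ W ≤ U) r • res L (inf_le_right : U ⊓ W ≤ W) a) = 0 := by
      refine hV.trans (map_zero _)
    rw [res_smul, res_res] at hV'
    have h2 : resf iU.le (resf inf_le_left r) = 0 := by
      apply (ha V (iU.le.trans inf_le_right)).1
      change resf iU.le (resf inf_le_left r) • res L _ a = (0 : Γ(X, V)) • res L _ a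
      rw [hV', zero_smul]
    rw [← germ_resf iU.le x hxV, h2, map_zero]
  · intro v
    obtain ⟨U, hU, m, rfl⟩ := TopCat.Presheaf.exists_germ_eq L.presheaf v
    have hxUW : x ∈ U ⊓ W := ⟨hU, hx⟩
    obtain ⟨r, hr⟩ := (ha (U ⊓ W) inf_le_right).2 (res L inf_le_left m)
    refine ⟨X.presheaf.germ (U ⊓ W) x hxUW r, ?_⟩
    rw [mulGerm_germ a inf_le_right x hxUW]
    have hr' : r • res L inf_le_right a = res L inf_le_left m := hr
    rw [hr']
    exact germ_res L inf_le_left x hxUW m


/-- the germ of `1` in the stalk of the module `O_X` -/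
noncomputable def oneAt (x : X) : (Coh.structureModule X).presheaf.stalk x :=
  (Coh.structureModule X).presheaf.germ ⊤ x trivial (toS ⊤ 1)

theorem germ_toS {A : X.Opens} (x : X) (hx : x ∈ A) (c : Γ(X, A)) :
    (Coh.structureModule X).presheaf.germ A x hx (toS A c) = X.presheaf.germ A x hx c • oneAt x := by
  have h1 : toS A c = c • res (Coh.structureModule X) le_top (toS ⊤ 1) := by
    have h2 : res (Coh.structureModule X) (le_top : A ≤ ⊤) (toS ⊤ 1) = toS A 1 := by
      have := map_toS (homOfLE (le_top : A ≤ ⊤)) (1 : Γ(X, ⊤))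
      rw [map_one] at this
      exact this
    rw [h2, smul_toS, mul_one]
  rw [h1, Mero.germ_smul, germ_res]
  rfl

/-- the linear form on the stalk `L_x` dual to the generator `a_x` -/
noncomputable def phi (ha : IsGen L W a) (x : X) (hx : x ∈ W) : RefHull.StalkHom L (Coh.structureModule X) x :=
  (LinearMap.toSpanSingleton _ _ (oneAt x)).comp
    (LinearEquiv.ofBijective (mulGerm a x hx) (mulGerm_bijective ha x hx)).symm.toLinearMap

theorem phi_mulGerm (ha : IsGen L W a) (x : X) (hx : x ∈ W) (t : X.presheaf.stalk x) :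
    phi ha x hx (mulGerm a x hx t) = t • oneAt x := by
  unfold phi
  rw [LinearMap.comp_apply]
  have : (LinearEquiv.ofBijective (mulGerm a x hx) (mulGerm_bijective ha x hx)).symm.toLinearMap
      (mulGerm a x hx t) = t :=
    (LinearEquiv.ofBijective (mulGerm a x hx) (mulGerm_bijective ha x hx)).symm_apply_apply t
  rw [this]
  rfl

theorem phi_germ (ha : IsGen L W a) {A : X.Opens} (hA : A ≤ W) (x : X) (hx : x ∈ A) (m : Γ(L, A)) :
    phi ha x (hA hx) (L.presheaf.germ A x hx m) =
      (Coh.structureModule X).presheaf.germ A x hx (toS A (coef ha hA m)) := by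
  have h1 : L.presheaf.germ A x hx m = mulGerm a x (hA hx) (X.presheaf.germ A x hx (coef ha hA m)) := by
    rw [mulGerm_germ a hA x hx, coef_spec]
  rw [h1, phi_mulGerm, germ_toS]

/-- two linear maps out of `L_x` which agree on the generator `a_x` are equal -/
theorem stalkHom_ext (ha : IsGen L W a) (x : X) (hx : x ∈ W) {N : Type*} [AddCommGroup N]
    [Module (X.presheaf.stalk x) N] (f g : L.presheaf.stalk x →ₗ[X.presheaf.stalk x] N)
    (h : f (L.presheaf.germ W x hx a) = g (L.presheaf.germ W x hx a)) : f = g := by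
  ext v
  obtain ⟨t, rfl⟩ := (mulGerm_bijective ha x hx).2 v
  rw [mulGerm_apply, map_smul, map_smul, h]

theorem phi_gen (ha : IsGen L W a) (x : X) (hx : x ∈ W) :
    phi ha x hx (L.presheaf.germ W x hx a) = oneAt x := by
  have := phi_mulGerm ha x hx 1
  rw [mulGerm_apply, one_smul, one_smul] at this
  exact this

/-- the dual frame: the section of the dual `L^∨` over `W` which is `1` on the generator `a` -/
noncomputable def dualFrame (ha : IsGen L W a) : Γ(RefHull.dual L, W) :=
  ⟨fun x => phi ha x.1 x.2, fun V i m x =>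
    ⟨V, x.2, 𝟙 V, toS V (coef ha i.le m), fun y => phi_germ ha i.le y.1 y.2 m⟩⟩

theorem dualFrame_apply (ha : IsGen L W a) (x : W) : (dualFrame ha).1 x = phi ha x.1 x.2 := rfl


theorem res_dual_apply {F G : X.Modules} {U V : X.Opens} (h : V ≤ U) (g : Γ(RefHull.homSh F G, U)) (y : V) :
    (res (RefHull.homSh F G) h g).1 y = g.1 ⟨y.1, h y.2⟩ := rfl

theorem smul_dual_apply {F G : X.Modules} {U : X.Opens} (r : Γ(X, U)) (g : Γ(RefHull.homSh F G, U)) (y : U) :
    (r • g).1 y = X.presheaf.germ U y.1 y.2 r • g.1 y := rfl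

/-- sections of a module with the same germs are equal -/
theorem section_ext (M : X.Modules) {U : X.Opens} (s t : Γ(M, U))
    (h : ∀ (x : X) (hx : x ∈ U), M.presheaf.germ U x hx s = M.presheaf.germ U x hx t) : s = t :=
  TopCat.Presheaf.section_ext (modSheaf M) U s t h

/-- gluing a section from local sections with prescribed germs -/
theorem exists_section_of_germs (M : X.Modules) (U : X.Opens) (γ : ∀ x : U, M.presheaf.stalk x.1)
    (h : ∀ x : U, ∃ (V : X.Opens) (hV : V ≤ U) (_ : x.1 ∈ V) (n : Γ(M, V)),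
      ∀ (y : X) (hy : y ∈ V), M.presheaf.germ V y hy n = γ ⟨y, hV hy⟩) :
    ∃ n : Γ(M, U), ∀ (y : X) (hy : y ∈ U), M.presheaf.germ U y hy n = γ ⟨y, hy⟩ := by
  choose V hV hxV n hn using h
  have hcompat : TopCat.Presheaf.IsCompatible (modSheaf M).1 V n := by
    intro x x'
    change res M (inf_le_left : V x ⊓ V x' ≤ V x) (n x) = res M (inf_le_right : V x ⊓ V x' ≤ V x') (n x')
    apply section_ext
    intro y hy
    rw [germ_res, germ_res, hn x y hy.1, hn x' y hy.2]
  have hcov : U ≤ ⨆ x : U, V x := fun y hy => Opens.mem_iSup.2 ⟨⟨y, hy⟩, hxV ⟨y, hy⟩⟩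
  obtain ⟨n₀, hn₀⟩ : ∃ n₀ : Γ(M, U), ∀ x : U, res M (hV x) n₀ = n x := by
    obtain ⟨n₀, hn₀, -⟩ := (modSheaf M).existsUnique_gluing' V U (fun x => homOfLE (hV x)) hcov n hcompat
    exact ⟨n₀, hn₀⟩
  refine ⟨n₀, fun y hy => ?_⟩
  rw [← germ_res M (hV ⟨y, hy⟩) y (hxV ⟨y, hy⟩), hn₀, hn]

theorem isGen_dualFrame (ha : IsGen L W a) : IsGen (RefHull.dual L) W (dualFrame ha) := by
  intro W' hW'
  constructor
  · intro r r' hrr'
    have hrr : r • res (RefHull.dual L) hW' (dualFrame ha) = r' • res (RefHull.dual L) hW' (dualFrame ha) := hrr'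
    have key : toS W' r = toS W' r' := by
      apply section_ext
      intro y hy
      have h1 := congrArg (fun g : Γ(RefHull.dual L, W') => g.1 ⟨y, hy⟩ (L.presheaf.germ W y (hW' hy) a)) hrr
      simp only [smul_dual_apply, res_dual_apply, dualFrame_apply, LinearMap.smul_apply, phi_gen] at h1
      rw [germ_toS, germ_toS]
      exact h1
    exact key
  · intro g
    have hloc := RefHull.isLocSect_of_mem g
    obtain ⟨n, hn⟩ := exists_section_of_germs (Coh.structureModule X) W'
      (fun y => g.1 y (L.presheaf.germ W y.1 (hW' y.2) a)) (fun x => by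
        obtain ⟨V, hxV, j, n, hn⟩ := hloc W' (𝟙 W') (res L hW' a) x
        refine ⟨V, j.le, hxV, n, fun y hy => ?_⟩
        have := hn ⟨y, hy⟩
        rw [germ_res] at this
        exact this.symm)
    refine ⟨ofS W' n, ?_⟩
    apply Subtype.ext
    funext y
    change (ofS W' n • res (RefHull.dual L) hW' (dualFrame ha)).1 y = g.1 y
    rw [smul_dual_apply, res_dual_apply, dualFrame_apply]
    apply stalkHom_ext ha y.1 (hW' y.2)
    rw [LinearMap.smul_apply, phi_gen, ← hn y.1 y.2]
    exact (germ_toS y.1 y.2 (ofS W' n)).symm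


/-- transition of dual frames: if `a₁ = g a₂` then `g φ₁ = φ₂` -/
theorem dualFrame_transition {W₁ W₂ : X.Opens} {a₁ : Γ(L, W₁)} {a₂ : Γ(L, W₂)} (h₁ : IsGen L W₁ a₁)
    (h₂ : IsGen L W₂ a₂) (g : Γ(X, W₁ ⊓ W₂))
    (hg : res L inf_le_left a₁ = g • res L inf_le_right a₂) :
    g • res (RefHull.dual L) inf_le_left (dualFrame h₁) = res (RefHull.dual L) inf_le_right (dualFrame h₂) := by
  apply Subtype.ext
  funext y
  rw [smul_dual_apply, res_dual_apply, res_dual_apply, dualFrame_apply, dualFrame_apply]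
  apply stalkHom_ext h₂ y.1 y.2.2
  rw [LinearMap.smul_apply, phi_gen, ← map_smul]
  have h3 : X.presheaf.germ (W₁ ⊓ W₂) y.1 y.2 g • L.presheaf.germ W₂ y.1 y.2.2 a₂ =
      L.presheaf.germ W₁ y.1 y.2.1 a₁ := by
    rw [← germ_res L inf_le_right y.1 y.2, ← Mero.germ_smul, ← hg, germ_res]
  rw [h3, phi_gen]

/-- the dual of an invertible module is invertible -/
theorem isInvertible_dual (L : X.Modules) (hL : PicF.IsInvertible L) : PicF.IsInvertible (RefHull.dual L) := by
  apply isInvertible_of_isGen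
  intro x
  obtain ⟨W, e, hxW, he⟩ := exists_gen L hL x
  exact ⟨W, dualFrame he, hxW, isGen_dualFrame he⟩

/-- `L ⊗ L^∨ ≅ O_X` for an invertible module `L` -/
theorem nonempty_tensorMod_dual_iso (L : X.Modules) (hL : PicF.IsInvertible L) :
    Nonempty (CohB1.tensorMod L (RefHull.dual L) ≅ Coh.structureModule X) := by
  obtain ⟨Φ, -⟩ := exists_iso_of_frames (CohB1.tensorMod L (RefHull.dual L)) (Coh.structureModule X)
    (fun p : Fr L => p.1.1)
    (fun x => by
      obtain ⟨W, e, hxW, he⟩ := exists_gen L hL x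
      exact ⟨⟨⟨W, e⟩, he⟩, hxW⟩)
    (fun p => tm L (RefHull.dual L) p.1.1 p.1.2 (dualFrame p.2))
    (fun p => toS p.1.1 1)
    (fun p => isGen_tm L (RefHull.dual L) p.1.1 p.1.2 (dualFrame p.2) p.2 (isGen_dualFrame p.2))
    (fun p => isGen_one p.1.1)
    (fun p q c hc => by
      obtain ⟨g, hg⟩ := exists_transition' p.1.2 q.2
      have htr := dualFrame_transition p.2 q.2 g hg
      have h1 : res (CohB1.tensorMod L (RefHull.dual L)) inf_le_left
            (tm L (RefHull.dual L) p.1.1 p.1.2 (dualFrame p.2)) =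
          res (CohB1.tensorMod L (RefHull.dual L)) inf_le_right
            (tm L (RefHull.dual L) q.1.1 q.1.2 (dualFrame q.2)) := by
        rw [res_tm, res_tm, hg, tm_smul_left, ← tm_smul_right, htr]
      have hgen := (isGen_tm L (RefHull.dual L) q.1.1 q.1.2 (dualFrame q.2) q.2 (isGen_dualFrame q.2))
        (p.1.1 ⊓ q.1.1) inf_le_right
      have hc1 : c = 1 := by
        apply hgen.1
        change c • res _ inf_le_right (tm L (RefHull.dual L) q.1.1 q.1.2 (dualFrame q.2)) =
          (1 : Γ(X, p.1.1 ⊓ q.1.1)) • res _ inf_le_right (tm L (RefHull.dual L) q.1.1 q.1.2 (dualFrame q.2))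
        rw [one_smul, ← hc, h1]
      rw [hc1, one_smul]
      have e1 := map_toS (homOfLE (inf_le_left : p.1.1 ⊓ q.1.1 ≤ p.1.1)) (1 : Γ(X, p.1.1))
      have e2 := map_toS (homOfLE (inf_le_right : p.1.1 ⊓ q.1.1 ≤ q.1.1)) (1 : Γ(X, q.1.1))
      rw [map_one] at e1 e2
      exact e1.trans e2.symm)
  exact ⟨Φ⟩

end Groth.Agent.Lib.Helper23.InvDual
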