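import Mathlib
import Groth.Prelude
import Groth.Agent.Lib.Helper23FinGen
import Groth.Agent.Lib.Helper23InvDual
import Groth.Agent.Lib.Helper23TensorQCoh
import Groth.Agent.Lib.Helper1FLF1
import Groth.Agent.Lib.Helper20ZClos20
set_option backward.isDefEq.respectTransparency.types false

/-!
# Resolution property from ample invertible modules (helper23)

Namespace `Groth.Agent.Lib.Helper23.ResProp`.

* `isFinLocFree_freeMod`, `isFinLocFree_of_isInvertible`, `isFinLocFree_tensorMod`.
* `untwist` : from `p : E₀ ⟶ M ⊗ P` and an inverse `D` of `P`, the morphism `E₀ ⊗ D ⟶ M`; it is an epimorphism if `p` is.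
* `exists_epi_twist_dual` : `M ⊗ P` a quotient of `O^k` with `P` invertible ⇒ `M` is a quotient of `O^k ⊗ P^∨`.
* `hasResolutionProperty_of_isAmple`.
-/

set_option autoImplicit false
universe u
open CategoryTheory CategoryTheory.Limits AlgebraicGeometry TopologicalSpace Opposite

namespace Groth.Agent.Lib.Helper23.ResProp
open Groth.Agent.Lib.Helper23.SecTw Groth.Agent.Lib.Helper23.GenLocus Groth.Agent.Lib.Helper6
open Groth.Agent.Lib.Helper23.AmpleIso Groth.Agent.Lib.Helper23.LocGen Groth.Agent.Lib.Helper23.TensorUnit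
open Groth.Agent.Lib.Helper21.ModTensor3 Groth.Agent.Lib.Helper21.ModTensor5

variable {X : Scheme.{u}}

theorem isFinLocFree_freeMod (X : Scheme.{u}) (k : ℕ) : FlatMod.IsFinLocFree (FlatMod.freeMod X k) := fun x =>
  ⟨⊤, k, trivial, ⟨Groth.Agent.Lib.Helper20.LocFree.restrictFreeMod (⊤ : X.Opens).ι k⟩⟩

theorem isFinLocFree_of_isInvertible (L : X.Modules) (hL : PicF.IsInvertible L) : FlatMod.IsFinLocFree L := fun x => by
  obtain ⟨U, hxU, ⟨e⟩⟩ := hL x
  exact ⟨U, 1, hxU, ⟨e ≪≫ (coproductUniqueIso (fun _ : Fin 1 => Coh.structureModule (↑U : Scheme.{u}))).symm⟩⟩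

theorem isFinLocFree_tensorMod (M N : X.Modules) (hM : FlatMod.IsFinLocFree M) (hN : FlatMod.IsFinLocFree N) :
    FlatMod.IsFinLocFree (CohB1.tensorMod M N) :=
  Groth.Agent.Lib.Helper1.FLF.isFinLocFree_tensor M N hM hN

/-- right tensoring as a morphism of `X.Modules` -/
noncomputable def tmapR {A B : X.Modules} (p : A ⟶ B) (D : X.Modules) :
    CohB1.tensorMod A D ⟶ CohB1.tensorMod B D :=
  (tR X.sheaf D).map (X := (A : ModSite.Mod X.sheaf)) (Y := (B : ModSite.Mod X.sheaf)) p

instance epi_tmapR {A B : X.Modules} (p : A ⟶ B) [hp : Epi p] (D : X.Modules) : Epi (tmapR p D) := by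
  haveI : (tR X.sheaf D).PreservesEpimorphisms := inferInstance
  exact @Functor.map_epi _ _ _ _ (tR X.sheaf D) _ (A : ModSite.Mod X.sheaf) (B : ModSite.Mod X.sheaf) p hp

/-- untwisting: from `p : E₀ ⟶ M ⊗ P` and `P ⊗ D ≅ O`, get `E₀ ⊗ D ⟶ M` -/
noncomputable def untwist {E₀ M P D : X.Modules} (p : E₀ ⟶ CohB1.tensorMod M P)
    (e : CohB1.tensorMod P D ≅ Coh.structureModule X) : CohB1.tensorMod E₀ D ⟶ M :=
  tmapR p D ≫ (tensorAssoc M P D ≪≫ tensorModIso (Iso.refl M) e ≪≫ tensorUnitIso M).hom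

instance epi_untwist {E₀ M P D : X.Modules} (p : E₀ ⟶ CohB1.tensorMod M P) [Epi p]
    (e : CohB1.tensorMod P D ≅ Coh.structureModule X) : Epi (untwist p e) := by
  unfold untwist
  exact epi_comp _ _

/-- if `M ⊗ P` is a quotient of a finite free module, with `P` invertible, then `M` is a quotient of a finite locally
free module (namely of `O^k ⊗ P^∨`). -/
theorem exists_epi_of_twist (M P : X.Modules) (hP : PicF.IsInvertible P) {k : ℕ}
    (p : FlatMod.freeMod X k ⟶ CohB1.tensorMod M P) [Epi p] :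
    ∃ (E : X.Modules) (π : E ⟶ M), FlatMod.IsFinLocFree E ∧ Epi π := by
  obtain ⟨e⟩ := Groth.Agent.Lib.Helper23.InvDual.nonempty_tensorMod_dual_iso P hP
  refine ⟨CohB1.tensorMod (FlatMod.freeMod X k) (RefHull.dual P), untwist p e, ?_, inferInstance⟩
  exact isFinLocFree_tensorMod _ _ (isFinLocFree_freeMod X k)
    (isFinLocFree_of_isInvertible _ (Groth.Agent.Lib.Helper23.InvDual.isInvertible_dual P hP))

/-- **Resolution property from an ample invertible module.** -/
theorem hasResolutionProperty_of_isAmple (L : X.Modules) (hL : CohB1.IsAmple L) :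
    PerfAux.HasResolutionProperty X := by
  intro M hM hM'
  haveI : M.IsQuasicoherent := hM
  haveI : SheafOfModules.IsFiniteType (R := X.ringCatSheaf) M := hM'
  haveI := hL.2.1
  choose V N hxV hN using exists_locGen_nhd L hL M
  obtain ⟨T, hT⟩ : ∃ T : Finset X, (Set.univ : Set X) ⊆ ⋃ x ∈ T, (V x : Set X) :=
    isCompact_univ.elim_finite_subcover (fun x => (V x : Set X)) (fun x => (V x).2)
      (fun x _ => Set.mem_iUnion.2 ⟨x, hxV x⟩)
  have hP := isInvertible_tensorPow hL.1 (T.sup N)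
  haveI : (CohB1.tensorPow L (T.sup N)).IsQuasicoherent := isQuasicoherent_of_isInvertible _ hP
  haveI : SheafOfModules.IsFiniteType (R := X.ringCatSheaf) (CohB1.tensorPow L (T.sup N)) :=
    Groth.Agent.Lib.Helper20.ZClosLib.isFiniteType_of_isInvertible _ hP
  haveI := Groth.Agent.Lib.Helper23.TensorQCoh.isQuasicoherent_tensorMod M (CohB1.tensorPow L (T.sup N))
  haveI := Groth.Agent.Lib.Helper23.TensorQCoh.isFiniteType_tensorMod M (CohB1.tensorPow L (T.sup N))
  obtain ⟨k, p, hp⟩ := Groth.Agent.Lib.Helper23.FinGen.exists_epi_freeMod_of_locGen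
    (CohB1.tensorMod M (CohB1.tensorPow L (T.sup N))) (fun y => by
      obtain ⟨x, hx⟩ := Set.mem_iUnion.1 (hT (Set.mem_univ y))
      obtain ⟨hxT, hyx⟩ := Set.mem_iUnion.1 hx
      exact ⟨V x, hyx, hN x _ (Finset.le_sup hxT)⟩)
  exact exists_epi_of_twist M _ hP p

end Groth.Agent.Lib.Helper23.ResProp
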