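import Groth.Agent.Lib.Helper27CohFin2
import Groth.Agent.Lib.Helper21ModTensor6
import Groth.Agent.Lib.Helper1StalkTensorC
import Groth.Agent.Lib.Helper1Sky9
import Groth.Agent.Lib.Helper23ResProp
import Groth.Agent.Lib.Helper23TensorQCoh

/-!
# Serre vanishing from resolutions by twisting modules (helper27)

* `tw L` : the functor `- ⊗ L` on `O_X`-modules; it is exact when `L` is invertible.
* `subsingleton_of_shortExact`, `subsingleton_HH_of_iso`, `subsingleton_HH_map_sigma` : vanishing
  of cohomology along short exact sequences, isomorphisms, and finite coproducts under an additive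
  functor.
* `vanishing_of_resolutions` : on a locally Noetherian scheme with a family `L d`, `d : ℤ`, of
  invertible coherent modules with `L a ⊗ L b ≅ L (a + b)`, such that every coherent module is a
  quotient of a finite coproduct of `L e`'s, cohomology of quasi-coherent modules vanishes above
  degree `N`, and `H^p(L d) = 0` for `p > 0`, `d ≥ 0`: for every coherent `F` and `p > 0`,
  `H^p(F ⊗ L d) = 0` for all large `d`.
-/

set_option autoImplicit false
universe u
open CategoryTheory Limits AlgebraicGeometry TopologicalSpace Opposite Abelian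

namespace Groth.Agent.Lib.Helper27SerreVan

open Groth.Agent.Lib.Helper23.QCohLocal Groth.Agent.Lib.Helper23.FinType
  Groth.Agent.Lib.Helper27CoprodFin Groth.Agent.Lib.Helper27CohFin
  Groth.Agent.Lib.Helper21.ModTensor3 Groth.Agent.Lib.Helper21.ModTensor5

variable {X : Scheme.{u}}

/-- `- ⊗ L` as a functor on `O_X`-modules. -/
noncomputable def tw (L : X.Modules) : X.Modules ⥤ X.Modules := tR X.sheaf L

theorem tw_obj (L F : X.Modules) : (tw L).obj F = CohB1.tensorMod F L := rfl

instance tw_additive (L : X.Modules) : (tw L).Additive := tR_additive X.sheaf L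

instance tw_preservesFiniteColimits (L : X.Modules) : PreservesFiniteColimits (tw L) :=
  tR_preservesFiniteColimits X.sheaf L

theorem preservesFiniteLimits_tw (L : X.Modules) (hL : PicF.IsInvertible L) :
    PreservesFiniteLimits (tw L) := by
  have h1 := Groth.Agent.Lib.Helper23.ResProp.isFinLocFree_of_isInvertible L hL
  have h2 := Groth.Agent.Lib.Helper1.Sky.isFlat_of_isFinLocFree' L h1
  have h3 := (Groth.Agent.Lib.Helper1.StalkTensor.modSite_isFlat_iff L).2 h2
  exact (isFlat_iff X.sheaf L).1 h3

theorem shortExact_tw (L : X.Modules) (hL : PicF.IsInvertible L) (S : ShortComplex X.Modules)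
    (hS : S.ShortExact) : (S.map (tw L)).ShortExact := by
  haveI := preservesFiniteLimits_tw L hL
  exact hS.map_of_exact (tw L)

theorem subsingleton_of_shortExact (S : ShortComplex X.Modules) (hS : S.ShortExact) (i : ℕ)
    (h2 : Subsingleton (Coh.HH X S.X₂ i)) (h1 : Subsingleton (Coh.HH X S.X₁ (i + 1))) :
    Subsingleton (Coh.HH X S.X₃ i) := by
  have key : ∀ x : Coh.HH X S.X₃ i, x = 0 := by
    intro x
    obtain ⟨y, hy⟩ := exact_delta S hS i x (Subsingleton.elim _ _)
    rw [← hy, Subsingleton.elim y 0, map_zero]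
  exact ⟨fun x y => (key x).trans (key y).symm⟩

theorem evalH_zero {M N : X.Modules} (i : ℕ) (φ : M ⟶ N) :
    evalH i (0 : Sheaf.H ((toAbF X).obj M) i) φ = 0 := by
  change Sheaf.H.map ((toAbF X).map φ) i 0 = 0
  exact map_zero _

theorem subsingleton_HH_of_iso {M N : X.Modules} (e : M ≅ N) (i : ℕ)
    (h : Subsingleton (Coh.HH X N i)) : Subsingleton (Coh.HH X M i) := by
  have key : ∀ x : Coh.HH X M i, x = 0 := by
    intro x
    let x' : Sheaf.H ((toAbF X).obj M) i := x
    have h1 : evalH i x' (e.hom ≫ e.inv) = x' := by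
      rw [e.hom_inv_id]
      exact evalH_id i x'
    rw [evalH_comp] at h1
    have h2 : evalH i x' e.hom = 0 := Subsingleton.elim (α := Coh.HH X N i) _ _
    rw [h2, evalH_zero] at h1
    exact h1.symm
  exact ⟨fun x y => (key x).trans (key y).symm⟩

theorem subsingleton_HH_map_sigma {r : ℕ} (f : Fin r → X.Modules)
    (T : X.Modules ⥤ X.Modules) [T.Additive] (i : ℕ)
    (h : ∀ j, Subsingleton (Coh.HH X (T.obj (f j)) i)) :
    Subsingleton (Coh.HH X (T.obj (∐ f)) i) := by
  have key : ∀ x : Coh.HH X (T.obj (∐ f)) i, x = 0 := by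
    intro x
    let x' : Sheaf.H ((toAbF X).obj (T.obj (∐ f))) i := x
    have h0 : T.map (∑ j, sigmaπ f j ≫ Sigma.ι f j) = 𝟙 (T.obj (∐ f)) := by
      rw [sum_sigmaπ_ι, T.map_id]
    rw [T.map_sum] at h0
    have h1 := congrArg (evalH (N := T.obj (∐ f)) i x') h0
    rw [map_sum, evalH_id] at h1
    have h3 : x' = 0 := by
      rw [← h1]
      refine Finset.sum_eq_zero (fun j _ => ?_)
      rw [T.map_comp, evalH_comp]
      have h2 : evalH i x' (T.map (sigmaπ f j)) = 0 :=
        Subsingleton.elim (α := Coh.HH X (T.obj (f j)) i) _ _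
      rw [h2, evalH_zero]
    exact h3
  exact ⟨fun x y => (key x).trans (key y).symm⟩

theorem vanishing_of_resolutions [IsLocallyNoetherian X]
    (L : ℤ → X.Modules) (hL : ∀ d, PicF.IsInvertible (L d)) (hLc : ∀ d, Coh.IsCoh (L d))
    (hLL : ∀ a b, Nonempty (CohB1.tensorMod (L a) (L b) ≅ L (a + b)))
    (hres : ∀ F : X.Modules, Coh.IsCoh F →
      ∃ (r : ℕ) (e : Fin r → ℤ) (φ : (∐ fun j => L (e j)) ⟶ F), Epi φ)
    (N : ℕ) (hvan : ∀ F : X.Modules, F.IsQuasicoherent → ∀ i, N < i →
      Subsingleton (Coh.HH X F i))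
    (hLvan : ∀ d : ℤ, 0 ≤ d → ∀ p : ℕ, 0 < p → Subsingleton (Coh.HH X (L d) p))
    (F : X.Modules) (hF : Coh.IsCoh F) (p : ℕ) (hp : 0 < p) :
    ∃ d₀ : ℤ, ∀ d : ℤ, d₀ ≤ d → Subsingleton (Coh.HH X (CohB1.tensorMod F (L d)) p) := by
  have key : ∀ k : ℕ, ∀ p : ℕ, 0 < p → N < p + k → ∀ F : X.Modules, Coh.IsCoh F →
      ∃ d₀ : ℤ, ∀ d : ℤ, d₀ ≤ d → Subsingleton (Coh.HH X (CohB1.tensorMod F (L d)) p) := by
    intro k
    induction k with
    | zero =>
      intro p _ hpN F hF
      refine ⟨0, fun d _ => ?_⟩
      haveI : F.IsQuasicoherent := hF.1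
      haveI : (L d).IsQuasicoherent := (hLc d).1
      exact hvan _ (Groth.Agent.Lib.Helper23.TensorQCoh.isQuasicoherent_tensorMod F (L d)) p
        (by omega)
    | succ k ih =>
      intro p hp hpN F hF
      obtain ⟨r, e, φ, hφ⟩ := hres F hF
      let f : Fin r → X.Modules := fun j => L (e j)
      have hfq : ∀ j, (f j).IsQuasicoherent := fun j => (hLc (e j)).1
      have hff : ∀ j, SheafOfModules.IsFiniteType (R := X.ringCatSheaf) (f j) :=
        fun j => (hLc (e j)).2
      haveI hEq : (∐ f).IsQuasicoherent := isQuasicoherent_sigma f hfq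
      haveI hEf : SheafOfModules.IsFiniteType (R := X.ringCatSheaf) (∐ f) :=
        isFiniteType_sigma f hfq hff
      haveI hFq : F.IsQuasicoherent := hF.1
      haveI hKq : (kernel φ).IsQuasicoherent := isQuasicoherent_kernel φ
      have hmono : Mono (kernel.ι φ) := inferInstance
      have hKf : SheafOfModules.IsFiniteType (R := X.ringCatSheaf) (kernel φ) :=
        @isFiniteType_of_mono X _ (kernel φ) (∐ f) (kernel.ι φ) hmono hEq hEf hKq
      let S : ShortComplex X.Modules := ShortComplex.mk (kernel.ι φ) φ (kernel.condition φ)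
      have hS : S.ShortExact :=
        { exact := ShortComplex.exact_of_f_is_kernel _ (kernelIsKernel φ)
          mono_f := hmono
          epi_g := hφ }
      obtain ⟨d₁, hd₁⟩ := ih (p + 1) (by omega) (by omega) (kernel φ) ⟨hKq, hKf⟩
      refine ⟨max d₁ (∑ j, |e j|), fun d hd => ?_⟩
      have hS' := shortExact_tw (L d) (hL d) S hS
      have h1 : Subsingleton (Coh.HH X (S.map (tw (L d))).X₁ (p + 1)) :=
        hd₁ d (le_trans (le_max_left _ _) hd)
      have h2 : Subsingleton (Coh.HH X (S.map (tw (L d))).X₂ p) := by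
        refine subsingleton_HH_map_sigma f (tw (L d)) p (fun j => ?_)
        obtain ⟨ε⟩ := hLL (e j) d
        have hnn : 0 ≤ e j + d := by
          have h3 : |e j| ≤ ∑ j, |e j| :=
            Finset.single_le_sum (f := fun j => |e j|) (fun j _ => abs_nonneg _)
              (Finset.mem_univ j)
          have h4 : ∑ j, |e j| ≤ d := le_trans (le_max_right _ _) hd
          have h5 := neg_abs_le (e j)
          omega
        exact subsingleton_HH_of_iso ε p (hLvan _ hnn p hp)
      exact subsingleton_of_shortExact (S.map (tw (L d))) hS' p h2 h1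
  exact key (N + 1) p hp (by omega) F hF

end Groth.Agent.Lib.Helper27SerreVan
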