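import Mathlib
import Groth.Agent.Lib.Helper27ProjFormula
import Groth.Agent.Lib.Helper16ClosedEmb
import Groth.Agent.Lib.Helper27SerreVan
set_option backward.isDefEq.respectTransparency.types false

/-!
# Transfer of cohomology vanishing and global generation along a closed immersion (helper27)
-/

set_option autoImplicit false
universe u
open CategoryTheory CategoryTheory.Limits AlgebraicGeometry TopologicalSpace

namespace Groth.Agent.Lib.Helper27ClosedTransfer

open Groth.Agent.Lib.Helper27ProjFormula Groth.Agent.Lib.Helper27SerreVan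

variable {Z Y : Scheme.{u}} (i : Z ⟶ Y)

section Embedding

variable [IsClosedImmersion i]

theorem exists_preimage_eq (U : Z.Opens) : ∃ V : Y.Opens, U = i ⁻¹ᵁ V := by
  obtain ⟨V, hV, hU⟩ := i.isClosedEmbedding.isEmbedding.isInducing.isOpen_iff.1 U.2
  exact ⟨⟨V, hV⟩, Opens.ext hU.symm⟩

theorem faithful_pushforward : (Scheme.Modules.pushforward i).Faithful := by
  refine ⟨fun {M N} φ ψ h => ?_⟩
  apply Scheme.Modules.hom_ext
  intro U
  obtain ⟨V, rfl⟩ := exists_preimage_eq i U
  exact congrArg (fun t => Scheme.Modules.Hom.app t V) h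

theorem epi_counit (M : Z.Modules) :
    Epi ((Scheme.Modules.pullbackPushforwardAdjunction i).counit.app M) := by
  haveI := faithful_pushforward i
  infer_instance

theorem subsingleton_HH_push_iff (G : Z.Modules) (q : ℕ) :
    Subsingleton (Coh.HH Y ((Scheme.Modules.pushforward i).obj G) q) ↔
      Subsingleton (Coh.HH Z G q) := by
  obtain ⟨e⟩ := Groth.Agent.Lib.Helper16.ClosedEmb.nonempty_H_push i.base i.isClosedEmbedding
    (Coh.toAb G) q
  exact ⟨fun h => @Equiv.subsingleton _ _ e.toEquiv h,
    fun h => @Equiv.subsingleton _ _ e.symm.toEquiv h⟩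

/-- vanishing of `H^q(Z, G ⊗ i^*L)` is vanishing of `H^q(Y, i_*G ⊗ L)`, `L` with a tensor inverse. -/
theorem subsingleton_HH_twist_iff (L L' : Y.Modules)
    (e : CohB1.tensorMod L L' ≅ Coh.structureModule Y)
    (e' : CohB1.tensorMod L' L ≅ Coh.structureModule Y) (G : Z.Modules) (q : ℕ) :
    Subsingleton (Coh.HH Z (CohB1.tensorMod G ((Scheme.Modules.pullback i).obj L)) q) ↔
      Subsingleton (Coh.HH Y (CohB1.tensorMod ((Scheme.Modules.pushforward i).obj G) L) q) := by
  rw [← subsingleton_HH_push_iff i]
  exact ⟨fun h => subsingleton_HH_of_iso (projIsoR i L L' e e' G).symm q h,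
    fun h => subsingleton_HH_of_iso (projIsoR i L L' e e' G) q h⟩

end Embedding

/-- pullback of a free module is free. -/
noncomputable def pullbackFreeIso (I : Type u) :
    (Scheme.Modules.pullback i).obj (SheafOfModules.free (R := Y.ringCatSheaf) I) ≅
      SheafOfModules.free (R := Z.ringCatSheaf) I :=
  SheafOfModules.pullbackObjFreeIso.{u} i.toRingCatSheafHom I

/-- if `i_* M` is globally generated (`i` a closed immersion) then so is `M`. -/
theorem isGloballyGenerated_of_push [IsClosedImmersion i] (M : Z.Modules)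
    (h : Curv2.IsGloballyGenerated ((Scheme.Modules.pushforward i).obj M)) :
    Curv2.IsGloballyGenerated M := by
  obtain ⟨ι, p, hp⟩ := h
  have h1 := epi_counit i M
  have hpe : (Scheme.Modules.pullback i).PreservesEpimorphisms :=
    Functor.preservesEpimorphisms_of_adjunction (Scheme.Modules.pullbackPushforwardAdjunction i)
  have h2 : Epi ((Scheme.Modules.pullback i).map p) :=
    @Functor.map_epi _ _ _ _ (Scheme.Modules.pullback i) hpe _ _ p hp
  have h3 : Epi ((Scheme.Modules.pullback i).map p ≫
      (Scheme.Modules.pullbackPushforwardAdjunction i).counit.app M) :=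
    @epi_comp _ _ _ _ _ _ h2 _ h1
  have h4 : Epi (pullbackFreeIso i ι).inv := inferInstance
  exact ⟨ι, (pullbackFreeIso i ι).inv ≫ (Scheme.Modules.pullback i).map p ≫
    (Scheme.Modules.pullbackPushforwardAdjunction i).counit.app M, @epi_comp _ _ _ _ _ _ h4 _ h3⟩

end Groth.Agent.Lib.Helper27ClosedTransfer
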