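import Groth.Agent.Lib.Helper27PnMor3
import Groth.Agent.Lib.Helper27TwistAmple2
import Groth.Agent.Lib.Helper27SerreGen4
import Groth.Agent.Lib.Helper23Restr2

/-!
# `O(d)` on `P^n_R` (`n ≥ 1`, `R ≠ 0`) is ample iff `d > 0` (helper27)
-/

set_option autoImplicit false
set_option linter.unusedSectionVars false
universe u

open CategoryTheory CategoryTheory.Limits AlgebraicGeometry TopologicalSpace Opposite
  HomogeneousLocalization MvPolynomial
open Groth.Agent.Lib.Helper23.SecTw Groth.Agent.Lib.Helper6 Groth.Agent.Lib.Helper27GrTildeSect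
open Groth.Agent.Lib.Helper23.AmpleIso Groth.Agent.Lib.Helper27PnSections
open Groth.Agent.Lib.Helper27ProjGamma Groth.Agent.Lib.Helper27PnMor

namespace Groth.Agent.Lib.Helper27PnAmple

variable (n : ℕ) (R : Type u) [CommRing R]

local notation "𝒢" => CohB1.polyGrading n R

/-- `O(a)^{⊗ b} ≅ O(a b)` on `P^n_R`. -/
theorem nonempty_tensorPow_tilde_iso (a : ℤ) (b : ℕ) :
    Nonempty (CohB1.tensorPow (GrTilde.tilde 𝒢 𝒢 a) b ≅ GrTilde.tilde 𝒢 𝒢 (a * b)) := by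
  induction b with
  | zero =>
    obtain ⟨e⟩ := nonempty_pow_iso 𝒢 (cover_X n R) 0
    have e' : GrTilde.tilde 𝒢 𝒢 (a * ((0 : ℕ) : ℤ)) ≅ CohB1.tensorPow (GrTilde.tilde 𝒢 𝒢 1) 0 := by
      have h0 : a * ((0 : ℕ) : ℤ) = ((0 : ℕ) : ℤ) := by simp
      rw [h0]
      exact e
    exact ⟨e'.symm⟩
  | succ b ih =>
    obtain ⟨e⟩ := ih
    obtain ⟨e2⟩ := nonempty_tensor_iso 𝒢 (cover_X n R) (a * (b : ℤ)) a
    have h0 : a * ((b + 1 : ℕ) : ℤ) = a * (b : ℤ) + a := by push_cast; ring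
    rw [h0]
    exact ⟨tensorModIso e (Iso.refl _) ≪≫ e2⟩

theorem compactSpace : CompactSpace (Proj 𝒢) :=
  compactSpace_of_cover 𝒢 1
    (fun i : Fin (n + 1) => (X i : MvPolynomial (Fin (n + 1)) R)) (hX n R)
    (exists_X_not_mem n R) Nat.one_pos

theorem X_pow_not_mem (m : ℕ) (y : Proj 𝒢) :
    ∃ i : Fin (n + 1), (X i : MvPolynomial (Fin (n + 1)) R) ^ m ∉
      (show ProjectiveSpectrum 𝒢 from y).asHomogeneousIdeal := by
  obtain ⟨i, hi⟩ := exists_X_not_mem n R y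
  refine ⟨i, fun h => hi ?_⟩
  exact ((show ProjectiveSpectrum 𝒢 from y).isPrime.mem_of_pow_mem m h)

/-- `O(m)` is ample for `m > 0`. -/
theorem isAmple_of_pos (m : ℕ) (hm : 0 < m) : CohB1.IsAmple (GrTilde.tilde 𝒢 𝒢 (m : ℤ)) := by
  have : CompactSpace (Proj 𝒢) := compactSpace n R
  exact isAmple_of_cover 𝒢 m
    (fun i : Fin (n + 1) => (X i : MvPolynomial (Fin (n + 1)) R) ^ m)
    (fun i => X_pow_mem n R i m) (X_pow_not_mem n R m) hm

theorem nonempty_proj [Nontrivial R] : Nonempty (Proj 𝒢) := by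
  obtain ⟨p, -⟩ := Groth.Agent.Lib.Helper27PnMor.exists_section n R
  obtain ⟨x⟩ : Nonempty (Spec (CommRingCat.of R)) :=
    inferInstanceAs (Nonempty (PrimeSpectrum R))
  exact ⟨p.base x⟩

/-- `O(e)` is not ample for `e < 0`, `n ≥ 1`, `R ≠ 0`. -/
theorem not_isAmple_of_neg [Nontrivial R] (hn : 1 ≤ n) (e : ℤ) (he : e < 0) :
    ¬ CohB1.IsAmple (GrTilde.tilde 𝒢 𝒢 e) := by
  rintro ⟨hinv, -, h⟩
  obtain ⟨x⟩ := nonempty_proj n R
  obtain ⟨m, s, hxs, -⟩ := h x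
  obtain ⟨Φ⟩ := nonempty_tensorPow_tilde_iso n R e (m + 1)
  have h1 : x ∈ CohB1.genLocus _ (s ≫ Φ.hom) := by
    rw [genLocus_comp_iso]
    exact hxs
  have h2 : s ≫ Φ.hom = 0 := by
    rw [← secHom_sv _ (s ≫ Φ.hom)]
    have h3 : sv (s ≫ Φ.hom) ⊤ = 0 :=
      eq_zero_of_neg n R hn _ (by
        have : (0 : ℤ) < ((m + 1 : ℕ) : ℤ) := by positivity
        exact mul_neg_of_neg_of_pos he this) _
    rw [h3, secHom_zero]
  rw [h2, genLocus_zero _ (isInvertible_tilde 𝒢 (cover_X n R) _)] at h1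
  exact h1

/-- `O(d)` is ample iff `d > 0`. -/
theorem isAmple_iff [Nontrivial R] (hn : 1 ≤ n) (d : ℤ) :
    CohB1.IsAmple (GrTilde.tilde 𝒢 𝒢 d) ↔ 0 < d := by
  constructor
  · intro h
    by_contra hd
    push Not at hd
    rcases hd.lt_or_eq with hd | hd
    · exact not_isAmple_of_neg n R hn d hd h
    · subst hd
      obtain ⟨e⟩ := nonempty_pow_iso 𝒢 (cover_X n R) 0
      have e' : GrTilde.tilde 𝒢 𝒢 (0 : ℤ) ≅ Coh.structureModule (Proj 𝒢) := e
      have h1 : CohB1.IsAmple (Coh.structureModule (Proj 𝒢)) := isAmple_of_iso e' h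
      have h2 : (Proj 𝒢).IsQuasiAffine :=
        (isQuasiAffine_iff_isAmple_structureModule _).mpr h1
      exact not_isAmple_of_neg n R hn (-1) (by norm_num)
        (Groth.Agent.Lib.Helper23.SecTw.isAmple_of_isQuasiAffine _
          (isInvertible_tilde 𝒢 (cover_X n R) _))
  · intro hd
    obtain ⟨m, rfl⟩ : ∃ m : ℕ, d = (m : ℤ) := ⟨d.toNat, by omega⟩
    exact isAmple_of_pos n R m (by exact_mod_cast hd)

end Groth.Agent.Lib.Helper27PnAmple
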