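import Mathlib

/-!
# Generators of the degree-zero localization `A_(g)` when `A` is generated in degree one (helper27)

If `A = R[G j]` with all `G j` of degree one and `g ∈ 𝒜 1`, then a subring of `A_(g)` containing
the image of `R` and the fractions `G j / g` is everything.
-/

set_option autoImplicit false
universe u

open HomogeneousLocalization

namespace Groth.Agent.Lib.Helper27AwayGen

variable {R A : Type u} [CommRing R] [CommRing A] [Algebra R A] (𝒜 : ℕ → Submodule R A)
  [GradedAlgebra 𝒜]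

variable {g : A} (hg : g ∈ 𝒜 1)

/-- the fraction `a / g^k` for `a` of degree `k`. -/
def mk' (k : ℕ) (a : A) (ha : a ∈ 𝒜 k) : Away 𝒜 g :=
  Away.mk 𝒜 hg k a (by simpa using ha)

theorem val_mk' (k : ℕ) (a : A) (ha : a ∈ 𝒜 k) :
    (mk' 𝒜 hg k a ha).val = Localization.mk a ⟨g ^ k, by use k⟩ := by
  rw [mk', Away.val_mk]

theorem mk'_congr (k : ℕ) {a b : A} (ha : a ∈ 𝒜 k) (hb : b ∈ 𝒜 k) (h : a = b) :
    mk' 𝒜 hg k a ha = mk' 𝒜 hg k b hb := by
  subst h; rfl

theorem mk'_zero (k : ℕ) : mk' 𝒜 hg k 0 (zero_mem _) = 0 := by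
  apply HomogeneousLocalization.val_injective
  rw [val_mk', HomogeneousLocalization.val_zero, Localization.mk_zero]

theorem mk'_one : mk' 𝒜 hg 0 1 SetLike.GradedOne.one_mem = 1 := by
  apply HomogeneousLocalization.val_injective
  rw [val_mk', HomogeneousLocalization.val_one]
  simp only [pow_zero]
  exact Localization.mk_one

theorem mk'_add (k : ℕ) (a b : A) (ha : a ∈ 𝒜 k) (hb : b ∈ 𝒜 k) :
    mk' 𝒜 hg k (a + b) (add_mem ha hb) = mk' 𝒜 hg k a ha + mk' 𝒜 hg k b hb := by
  apply HomogeneousLocalization.val_injective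
  rw [HomogeneousLocalization.val_add, val_mk', val_mk', val_mk', Localization.add_mk_self]

theorem mk'_mul (k l : ℕ) (a b : A) (ha : a ∈ 𝒜 k) (hb : b ∈ 𝒜 l) :
    mk' 𝒜 hg (k + l) (a * b) (SetLike.mul_mem_graded ha hb) =
      mk' 𝒜 hg k a ha * mk' 𝒜 hg l b hb := by
  apply HomogeneousLocalization.val_injective
  rw [HomogeneousLocalization.val_mul, val_mk', val_mk', val_mk', Localization.mk_mul]
  congr 1
  ext
  simp [pow_add]

theorem exists_mk'_surjective (x : Away 𝒜 g) : ∃ (k : ℕ) (a : A) (ha : a ∈ 𝒜 k),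
    mk' 𝒜 hg k a ha = x := by
  obtain ⟨n, a, ha, rfl⟩ := Away.mk_surjective 𝒜 hg x
  exact ⟨n, a, by simpa using ha, rfl⟩

variable {ι : Type*} (G : ι → A) (hG : ∀ j, G j ∈ 𝒜 1)

include hG in
theorem subring_eq_top (hgen : Algebra.adjoin R (Set.range G) = ⊤) (E : Subring (Away 𝒜 g))
    (hR : ∀ r : R, mk' 𝒜 hg 0 (algebraMap R A r) (SetLike.algebraMap_mem_graded 𝒜 r) ∈ E)
    (hE : ∀ j, mk' 𝒜 hg 1 (G j) (hG j) ∈ E) : E = ⊤ := by
  classical
  -- monomials
  have h1 : ∀ m ∈ Submonoid.closure (Set.range G), ∃ (k : ℕ) (hk : m ∈ 𝒜 k), mk' 𝒜 hg k m hk ∈ E := by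
    intro m hm
    induction hm using Submonoid.closure_induction with
    | mem x hx =>
      obtain ⟨j, rfl⟩ := hx
      exact ⟨1, hG j, hE j⟩
    | one => exact ⟨0, SetLike.GradedOne.one_mem, by rw [mk'_one]; exact E.one_mem⟩
    | mul x y _ _ hx hy =>
      obtain ⟨k, hk, hxE⟩ := hx
      obtain ⟨l, hl, hyE⟩ := hy
      exact ⟨k + l, SetLike.mul_mem_graded hk hl, by
        rw [mk'_mul 𝒜 hg k l x y hk hl]; exact E.mul_mem hxE hyE⟩
  -- linear combinations, componentwise
  have h2 : ∀ a ∈ Submodule.span R (Submonoid.closure (Set.range G) : Set A), ∀ k : ℕ,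
      mk' 𝒜 hg k (DirectSum.decompose 𝒜 a k : A) (SetLike.coe_mem _) ∈ E := by
    intro a ha
    induction ha using Submodule.span_induction with
    | mem m hm =>
      intro k
      obtain ⟨km, hkm, hmE⟩ := h1 m hm
      by_cases hk : km = k
      · subst hk
        have e : (DirectSum.decompose 𝒜 m km : A) = m := DirectSum.decompose_of_mem_same 𝒜 hkm
        rw [mk'_congr 𝒜 hg km (SetLike.coe_mem _) hkm e]
        exact hmE
      · have e : (DirectSum.decompose 𝒜 m k : A) = 0 := DirectSum.decompose_of_mem_ne 𝒜 hkm hk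
        rw [mk'_congr 𝒜 hg k (SetLike.coe_mem _) (zero_mem _) e, mk'_zero]
        exact E.zero_mem
    | zero =>
      intro k
      have e : (DirectSum.decompose 𝒜 (0 : A) k : A) = 0 := by simp
      rw [mk'_congr 𝒜 hg k (SetLike.coe_mem _) (zero_mem _) e, mk'_zero]
      exact E.zero_mem
    | add x y _ _ hx hy =>
      intro k
      have e : (DirectSum.decompose 𝒜 (x + y) k : A) =
          (DirectSum.decompose 𝒜 x k : A) + (DirectSum.decompose 𝒜 y k : A) := by simp
      rw [mk'_congr 𝒜 hg k (SetLike.coe_mem _) (add_mem (SetLike.coe_mem _) (SetLike.coe_mem _)) e,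
        mk'_add 𝒜 hg k _ _ (SetLike.coe_mem _) (SetLike.coe_mem _)]
      exact E.add_mem (hx k) (hy k)
    | smul r x _ hx =>
      intro k
      have e : (DirectSum.decompose 𝒜 (r • x) k : A) =
          algebraMap R A r * (DirectSum.decompose 𝒜 x k : A) := by
        rw [Algebra.smul_def]
        exact DirectSum.coe_decompose_mul_of_left_mem_zero 𝒜 (SetLike.algebraMap_mem_graded 𝒜 r)
      have e' := mk'_mul 𝒜 hg 0 k _ _ (SetLike.algebraMap_mem_graded 𝒜 r)
        (SetLike.coe_mem (DirectSum.decompose 𝒜 x k))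
      have hmem : algebraMap R A r * (DirectSum.decompose 𝒜 x k : A) ∈ 𝒜 k := by
        have := SetLike.mul_mem_graded (SetLike.algebraMap_mem_graded 𝒜 r)
          (SetLike.coe_mem (DirectSum.decompose 𝒜 x k))
        simpa using this
      rw [mk'_congr 𝒜 hg k (SetLike.coe_mem _) hmem e]
      have e'' : mk' 𝒜 hg k (algebraMap R A r * (DirectSum.decompose 𝒜 x k : A)) hmem =
          mk' 𝒜 hg 0 (algebraMap R A r) (SetLike.algebraMap_mem_graded 𝒜 r) *
            mk' 𝒜 hg k (DirectSum.decompose 𝒜 x k : A) (SetLike.coe_mem _) := by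
        apply HomogeneousLocalization.val_injective
        rw [HomogeneousLocalization.val_mul, val_mk', val_mk', val_mk', Localization.mk_mul]
        congr 1
        ext
        simp
      rw [e'']
      exact E.mul_mem (hR r) (hx k)
  rw [eq_top_iff]
  intro x _
  obtain ⟨k, a, ha, rfl⟩ := exists_mk'_surjective 𝒜 hg x
  have hspan : a ∈ Submodule.span R (Submonoid.closure (Set.range G) : Set A) := by
    have : a ∈ Algebra.adjoin R (Set.range G) := by rw [hgen]; trivial
    rw [← Subalgebra.mem_toSubmodule, Algebra.adjoin_eq_span] at this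
    exact this
  have := h2 a hspan k
  have e : (DirectSum.decompose 𝒜 a k : A) = a := DirectSum.decompose_of_mem_same 𝒜 ha
  rw [mk'_congr 𝒜 hg k (SetLike.coe_mem _) ha e] at this
  exact this

end Groth.Agent.Lib.Helper27AwayGen
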