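import Mathlib

/-!
# `Proj` of a graded algebra generated by homogeneous elements of positive degree is covered by
the corresponding `D₊(f)` (helper27)
-/

set_option autoImplicit false
universe u

open AlgebraicGeometry

namespace Groth.Agent.Lib.Helper27ProjCover

variable {R A : Type u} [CommRing R] [CommRing A] [Algebra R A] (𝒜 : ℕ → Submodule R A)
  [GradedAlgebra 𝒜]

omit [GradedAlgebra 𝒜] in
theorem exists_sub_mem_span {S : Set A} (x : A) (hx : x ∈ Algebra.adjoin R S) :
    ∃ c : R, x - algebraMap R A c ∈ Ideal.span S := by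
  induction hx using Algebra.adjoin_induction with
  | mem x hx => exact ⟨0, by simpa using Ideal.subset_span hx⟩
  | algebraMap r => exact ⟨r, by simp⟩
  | add x y _ _ hx hy =>
    obtain ⟨c, hc⟩ := hx
    obtain ⟨c', hc'⟩ := hy
    refine ⟨c + c', ?_⟩
    have : x + y - algebraMap R A (c + c') = (x - algebraMap R A c) + (y - algebraMap R A c') := by
      rw [map_add]; ring
    rw [this]
    exact add_mem hc hc'
  | mul x y _ _ hx hy =>
    obtain ⟨c, hc⟩ := hx
    obtain ⟨c', hc'⟩ := hy
    refine ⟨c * c', ?_⟩
    have : x * y - algebraMap R A (c * c') =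
        (x - algebraMap R A c) * y + algebraMap R A c * (y - algebraMap R A c') := by
      rw [map_mul]; ring
    rw [this]
    exact add_mem (Ideal.mul_mem_right _ _ hc) (Ideal.mul_mem_left _ _ hc')

/-- if `A` is generated as an `R`-algebra by the `f i`, every point of `Proj` misses some `f i`
of positive degree. -/
theorem exists_not_mem {ι : Type*} (f : ι → A) (deg : ι → ℕ)
    (hf : ∀ i, f i ∈ 𝒜 (deg i)) (hgen : Algebra.adjoin R (Set.range f) = ⊤)
    (y : ProjectiveSpectrum 𝒜) : ∃ i, 0 < deg i ∧ f i ∉ y.asHomogeneousIdeal := by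
  classical
  by_contra hcon
  push Not at hcon
  apply y.not_irrelevant_le
  rw [HomogeneousIdeal.irrelevant_le]
  intro m hm x hx
  replace hx : x ∈ 𝒜 m := hx
  change x ∈ y.asHomogeneousIdeal.toIdeal
  -- the generators of positive degree lie in `y`; those of degree `0` lie in `𝒜 0`
  have hx' : x ∈ Algebra.adjoin R (Set.range f) := by rw [hgen]; trivial
  -- decompose
  have key : ∀ z ∈ Algebra.adjoin R (Set.range f), ∀ k : ℕ, 0 < k →
      (DirectSum.decompose 𝒜 z k : A) ∈ y.asHomogeneousIdeal.toIdeal := by
    intro z hz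
    induction hz using Algebra.adjoin_induction with
    | mem z hz =>
      obtain ⟨i, rfl⟩ := hz
      intro k hk
      by_cases hik : deg i = k
      · subst hik
        rw [DirectSum.decompose_of_mem_same 𝒜 (hf i)]
        exact hcon i hk
      · rw [DirectSum.decompose_of_mem_ne 𝒜 (hf i) hik]
        exact zero_mem _
    | algebraMap r =>
      intro k hk
      rw [DirectSum.decompose_of_mem_ne 𝒜 (SetLike.algebraMap_mem_graded 𝒜 r) (by omega)]
      exact zero_mem _
    | add z z' _ _ hz hz' =>
      intro k hk
      rw [DirectSum.decompose_add, DirectSum.add_apply, Submodule.coe_add]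
      exact add_mem (hz k hk) (hz' k hk)
    | mul z z' _ _ hz hz' =>
      intro k hk
      rw [DirectSum.decompose_mul, DirectSum.coe_mul_apply]
      apply Ideal.sum_mem
      rintro ⟨p, q⟩ hpq
      simp only [Finset.mem_filter] at hpq
      have hpqk : p + q = k := hpq.2
      by_cases hp : 0 < p
      · exact Ideal.mul_mem_right _ _ (hz p hp)
      · have hq : 0 < q := by omega
        exact Ideal.mul_mem_left _ _ (hz' q hq)
  have := key x hx' m hm
  rwa [DirectSum.decompose_of_mem_same 𝒜 hx] at this

end Groth.Agent.Lib.Helper27ProjCover
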