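import Mathlib
import Groth.Prelude.Def_CohB1
import Groth.Agent.Lib.Helper27AwayGen
import Groth.Agent.Lib.Helper27ProjCover

/-!
# The standard charts of projective space: `R[T_j, j ≠ i] ≃ R[T]_(T_i)` (helper27)
-/

set_option autoImplicit false
universe u

open HomogeneousLocalization MvPolynomial AlgebraicGeometry

namespace Groth.Agent.Lib.Helper27PnChart

variable (n : ℕ) (R : Type u) [CommRing R] (i : Fin (n + 1))

/-- the chart map `R[T_j, j ≠ i] → R[T]_(T_i)`. -/
noncomputable def chart : MvPolynomial {j : Fin (n + 1) // j ≠ i} R →+*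
    Away (CohB1.polyGrading n R) (X i) :=
  MvPolynomial.eval₂Hom
    ((HomogeneousLocalization.fromZeroRingHom (CohB1.polyGrading n R)
        (Submonoid.powers (MvPolynomial.X i))).comp
      (algebraMap R (CohB1.polyGrading n R 0)))
    (fun j : {j : Fin (n + 1) // j ≠ i} =>
      (HomogeneousLocalization.mk ⟨1, ⟨MvPolynomial.X j.1, MvPolynomial.isHomogeneous_X R j.1⟩,
        ⟨MvPolynomial.X i, MvPolynomial.isHomogeneous_X R i⟩, ⟨1, pow_one _⟩⟩ :
        HomogeneousLocalization.Away (CohB1.polyGrading n R) (MvPolynomial.X i)))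

/-- dehomogenization `T_i ↦ 1`. -/
noncomputable def dehom : MvPolynomial (Fin (n + 1)) R →+*
    MvPolynomial {j : Fin (n + 1) // j ≠ i} R :=
  MvPolynomial.eval₂Hom (C : R →+* MvPolynomial {j : Fin (n + 1) // j ≠ i} R)
    (fun j => if h : j = i then 1 else X ⟨j, h⟩)

theorem dehom_X_self : dehom n R i (X i) = 1 := by
  simp [dehom]

theorem dehom_X_ne (j : Fin (n + 1)) (h : j ≠ i) : dehom n R i (X j) = X ⟨j, h⟩ := by
  simp [dehom, h]

theorem dehom_C (r : R) : dehom n R i (C r) = C r := by
  simp [dehom]

/-- `R[T]_{T_i} → R[T_j, j ≠ i]`. -/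
noncomputable def locTo : Localization.Away (X i : MvPolynomial (Fin (n + 1)) R) →+*
    MvPolynomial {j : Fin (n + 1) // j ≠ i} R :=
  IsLocalization.Away.lift (X i : MvPolynomial (Fin (n + 1)) R) (g := dehom n R i)
    (by rw [dehom_X_self]; exact isUnit_one)

theorem locTo_mk (b : MvPolynomial (Fin (n + 1)) R) (m : ℕ) :
    locTo n R i (Localization.mk b
      (⟨X i ^ m, ⟨m, rfl⟩⟩ : Submonoid.powers (X i : MvPolynomial (Fin (n + 1)) R))) =
      dehom n R i b := by
  have h1 : Localization.mk b
      (⟨X i ^ m, ⟨m, rfl⟩⟩ : Submonoid.powers (X i : MvPolynomial (Fin (n + 1)) R)) *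
      algebraMap (MvPolynomial (Fin (n + 1)) R)
        (Localization.Away (X i : MvPolynomial (Fin (n + 1)) R)) (X i ^ m) =
      algebraMap (MvPolynomial (Fin (n + 1)) R)
        (Localization.Away (X i : MvPolynomial (Fin (n + 1)) R)) b := by
    rw [Localization.mk_eq_mk']
    exact IsLocalization.mk'_spec _ _ _
  have h2 := congrArg (locTo n R i) h1
  unfold locTo at h2 ⊢
  rw [map_mul, IsLocalization.Away.lift_eq, IsLocalization.Away.lift_eq, map_pow, dehom_X_self,
    one_pow, mul_one] at h2
  exact h2

/-- `R[T]_(T_i) → R[T_j, j ≠ i]`. -/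
noncomputable def back : Away (CohB1.polyGrading n R) (X i) →+*
    MvPolynomial {j : Fin (n + 1) // j ≠ i} R :=
  (locTo n R i).comp (algebraMap (Away (CohB1.polyGrading n R) (X i))
    (Localization.Away (X i : MvPolynomial (Fin (n + 1)) R)))

theorem back_chart (p : MvPolynomial {j : Fin (n + 1) // j ≠ i} R) :
    back n R i (chart n R i p) = p := by
  have key : (back n R i).comp (chart n R i) = RingHom.id _ := by
    apply MvPolynomial.ringHom_ext
    · intro r
      simp only [RingHom.comp_apply, RingHom.id_apply]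
      unfold chart back
      rw [MvPolynomial.eval₂Hom_C, RingHom.comp_apply, RingHom.comp_apply,
        HomogeneousLocalization.algebraMap_apply]
      have h0 : (fromZeroRingHom (CohB1.polyGrading n R)
          (Submonoid.powers (X i : MvPolynomial (Fin (n + 1)) R))
          (algebraMap R (CohB1.polyGrading n R 0) r)).val =
          Localization.mk (C r) (⟨X i ^ 0, ⟨0, rfl⟩⟩ :
            Submonoid.powers (X i : MvPolynomial (Fin (n + 1)) R)) := by
        simp only [fromZeroRingHom, pow_zero]
        rfl
      rw [h0, locTo_mk, dehom_C]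
    · intro j
      simp only [RingHom.comp_apply, RingHom.id_apply]
      unfold chart back
      rw [MvPolynomial.eval₂Hom_X', RingHom.comp_apply, HomogeneousLocalization.algebraMap_apply,
        val_mk]
      have h0 : Localization.mk (X j.1 : MvPolynomial (Fin (n + 1)) R)
          (⟨X i, ⟨1, pow_one _⟩⟩ : Submonoid.powers (X i : MvPolynomial (Fin (n + 1)) R)) =
          Localization.mk (X j.1) (⟨X i ^ 1, ⟨1, rfl⟩⟩ :
            Submonoid.powers (X i : MvPolynomial (Fin (n + 1)) R)) := by
        congr 1
        ext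
        simp
      erw [h0, locTo_mk, dehom_X_ne n R i j.1 j.2]
  exact RingHom.congr_fun key p

theorem chart_injective : Function.Injective (chart n R i) :=
  Function.LeftInverse.injective (back_chart n R i)

theorem X_mem_one (j : Fin (n + 1)) :
    (X j : MvPolynomial (Fin (n + 1)) R) ∈ CohB1.polyGrading n R 1 :=
  MvPolynomial.isHomogeneous_X R j

theorem chart_surjective : Function.Surjective (chart n R i) := by
  have htop := Groth.Agent.Lib.Helper27AwayGen.subring_eq_top (CohB1.polyGrading n R)
    (X_mem_one n R i) (fun j : Fin (n + 1) => (X j : MvPolynomial (Fin (n + 1)) R))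
    (X_mem_one n R) (MvPolynomial.adjoin_range_X) (chart n R i).range ?_ ?_
  · intro q
    have : q ∈ (chart n R i).range := by rw [htop]; trivial
    exact this
  · intro r
    refine ⟨C r, ?_⟩
    apply HomogeneousLocalization.val_injective
    rw [Groth.Agent.Lib.Helper27AwayGen.val_mk']
    unfold chart
    rw [MvPolynomial.eval₂Hom_C, RingHom.comp_apply]
    simp only [fromZeroRingHom]
    congr 1
  · intro j
    by_cases h : j = i
    · subst h
      refine ⟨1, ?_⟩
      rw [map_one]
      apply HomogeneousLocalization.val_injective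
      rw [Groth.Agent.Lib.Helper27AwayGen.val_mk', HomogeneousLocalization.val_one]
      symm
      have : (⟨X j ^ 1, ⟨1, rfl⟩⟩ : Submonoid.powers (X j : MvPolynomial (Fin (n + 1)) R)) =
          ⟨X j, ⟨1, pow_one _⟩⟩ := by ext; simp
      rw [this]
      exact Localization.mk_self (⟨X j, ⟨1, pow_one _⟩⟩ :
        Submonoid.powers (X j : MvPolynomial (Fin (n + 1)) R))
    · refine ⟨X ⟨j, h⟩, ?_⟩
      apply HomogeneousLocalization.val_injective
      rw [Groth.Agent.Lib.Helper27AwayGen.val_mk']
      unfold chart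
      rw [MvPolynomial.eval₂Hom_X', val_mk]
      congr 1
      ext
      simp

theorem chart_bijective : Function.Bijective (chart n R i) :=
  ⟨chart_injective n R i, chart_surjective n R i⟩

theorem iSup_basicOpen_X :
    (⨆ i : Fin (n + 1), Proj.basicOpen (CohB1.polyGrading n R) (MvPolynomial.X i)) = ⊤ := by
  rw [eq_top_iff]
  intro y _
  obtain ⟨i, -, hi⟩ := Groth.Agent.Lib.Helper27ProjCover.exists_not_mem (CohB1.polyGrading n R)
    (fun j : Fin (n + 1) => (X j : MvPolynomial (Fin (n + 1)) R)) (fun _ => 1)
    (X_mem_one n R) (MvPolynomial.adjoin_range_X) y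
  exact TopologicalSpace.Opens.mem_iSup.mpr
    ⟨i, (ProjectiveSpectrum.mem_basicOpen (CohB1.polyGrading n R) (X i) y).mpr hi⟩

end Groth.Agent.Lib.Helper27PnChart
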