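import Mathlib

/-!
# Dimension drops on closed subsets containing no irreducible component (helper27; pure Mathlib)
-/

set_option autoImplicit false

open TopologicalSpace Order Topology

namespace Groth.Agent.Lib.Helper27DimDrop

variable {Y : Type*} [TopologicalSpace Y]

theorem dim_drop (F : Set Y) (hF : IsClosed F) (h : ∀ T ∈ irreducibleComponents Y, ¬ T ⊆ F)
    (n : ℕ) (hn : (n : WithBot ℕ∞) ≤ topologicalKrullDim ↥F) :
    ((n + 1 : ℕ) : WithBot ℕ∞) ≤ topologicalKrullDim Y := by
  unfold topologicalKrullDim at hn ⊢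
  obtain ⟨l, hl⟩ := Order.le_krullDim_iff.mp hn
  have hm : StrictMono (IrreducibleCloseds.map (Subtype.val : F → Y) continuous_subtype_val) :=
    IrreducibleCloseds.map_strictMono_of_isInducing IsInducing.subtypeVal
  set l' : LTSeries (IrreducibleCloseds Y) := l.map _ hm with hl'
  have hZF : (l'.last : Set Y) ⊆ F := by
    have h1 : (l'.last : Set Y) = closure (Subtype.val '' (l.last : Set F)) := by
      rw [hl', LTSeries.last_map]
      rfl
    rw [h1]
    refine closure_minimal ?_ hF
    rintro _ ⟨y, _, rfl⟩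
    exact y.2
  obtain ⟨T, hTirr, hZT, hTmax⟩ :=
    exists_preirreducible (l'.last : Set Y) l'.last.isIrreducible.isPreirreducible
  have hTne : T.Nonempty := l'.last.isIrreducible.nonempty.mono hZT
  have hT : T ∈ irreducibleComponents Y := by
    refine ⟨⟨hTne, hTirr⟩, fun u hu htu => ?_⟩
    exact (hTmax u hu.isPreirreducible htu).le
  let T' : IrreducibleCloseds Y := ⟨T, hT.1, isClosed_of_mem_irreducibleComponents T hT⟩
  have hlt : l'.last < T' := by
    refine lt_of_le_of_ne hZT (fun heq => h T hT ?_)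
    have h2 : (l'.last : Set Y) = T := congrArg (fun Z : IrreducibleCloseds Y => (Z : Set Y)) heq
    rw [← h2]
    exact hZF
  refine Order.le_krullDim_iff.mpr ⟨l'.snoc T' hlt, ?_⟩
  rw [RelSeries.snoc_length, hl', LTSeries.map_length, hl]

/-- a finite set of points meeting every irreducible component. -/
theorem exists_finite_meeting [NoetherianSpace Y] :
    ∃ G : Finset Y, ∀ T ∈ irreducibleComponents Y, ∃ ξ ∈ G, ξ ∈ T := by
  classical
  have hfin := NoetherianSpace.finite_irreducibleComponents (α := Y)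
  have key : ∀ T ∈ irreducibleComponents Y, ∃ ξ : Y, ξ ∈ T := fun T hT => hT.1.nonempty
  choose ξ hξ using key
  refine ⟨hfin.toFinset.attach.image (fun T => ξ T.1 (hfin.mem_toFinset.mp T.2)),
    fun T hT => ⟨ξ T hT, ?_, hξ T hT⟩⟩
  exact Finset.mem_image.mpr ⟨⟨T, hfin.mem_toFinset.mpr hT⟩, Finset.mem_attach _ _, rfl⟩

theorem eq_empty_of_dim_lt_zero (h : topologicalKrullDim Y < 0) : IsEmpty Y := by
  unfold topologicalKrullDim at h
  have h1 : krullDim (IrreducibleCloseds Y) = ⊥ := by
    by_contra hne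
    obtain ⟨x, hx⟩ := WithBot.ne_bot_iff_exists.mp hne
    rw [← hx] at h
    have : (x : WithBot ℕ∞) < ((0 : ℕ∞) : WithBot ℕ∞) := h
    rw [WithBot.coe_lt_coe] at this
    exact absurd this (not_lt.mpr zero_le)
  rw [Order.krullDim_eq_bot_iff] at h1
  refine ⟨fun y => h1.false ⟨closure {y}, isIrreducible_singleton.closure, isClosed_closure⟩⟩

end Groth.Agent.Lib.Helper27DimDrop
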