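import Mathlib

/-!
# Homogeneous prime avoidance (helper27; pure Mathlib)
-/

set_option autoImplicit false

open DirectSum

namespace Groth.Agent.Lib.Helper27HomogAvoid

variable {A : Type*} [CommRing A] {σ : Type*} [SetLike σ A] [AddSubgroupClass σ A]
  (𝒜 : ℕ → σ) [GradedRing 𝒜]

theorem exists_homog_not_mem_one (I : Ideal A) (hI : I.IsHomogeneous 𝒜)
    (hI0 : ∀ x ∈ I, (decompose 𝒜 x 0 : A) = 0) (p : Ideal A) (hIp : ¬ I ≤ p) :
    ∃ (d : ℕ) (f : A), 0 < d ∧ f ∈ 𝒜 d ∧ f ∈ I ∧ f ∉ p := by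
  classical
  obtain ⟨g, hgI, hgp⟩ := SetLike.not_le_iff_exists.mp hIp
  by_contra hcon
  push Not at hcon
  apply hgp
  rw [← DirectSum.sum_support_decompose 𝒜 g]
  refine Ideal.sum_mem _ (fun k _ => ?_)
  by_cases hk : k = 0
  · subst hk
    rw [hI0 g hgI]
    exact zero_mem _
  · exact hcon k _ (Nat.pos_of_ne_zero hk) (SetLike.coe_mem _) (hI k hgI)

theorem exists_homog_avoid (I : Ideal A) (hI : I.IsHomogeneous 𝒜)
    (hI0 : ∀ x ∈ I, (decompose 𝒜 x 0 : A) = 0) :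
    ∀ (n : ℕ) (s : Finset (Ideal A)), s.card = n → (∀ p ∈ s, p.IsPrime ∧ ¬ I ≤ p) →
      ∃ (d : ℕ) (f : A), 0 < d ∧ f ∈ 𝒜 d ∧ f ∈ I ∧ ∀ p ∈ s, f ∉ p := by
  classical
  intro n
  induction n with
  | zero =>
    intro s hs _
    rw [Finset.card_eq_zero] at hs
    subst hs
    exact ⟨1, 0, one_pos, zero_mem _, zero_mem _, by simp⟩
  | succ n ih =>
    intro s hs hp
    have key : ∀ p ∈ s, ∃ (d : ℕ) (g : A), 0 < d ∧ g ∈ 𝒜 d ∧ g ∈ I ∧ ∀ q ∈ s.erase p, g ∉ q := by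
      intro p hps
      exact ih (s.erase p) (by rw [Finset.card_erase_of_mem hps, hs]; rfl)
        (fun q hq => hp q (Finset.mem_of_mem_erase hq))
    choose! d g hd hg hgI hgq using key
    by_cases h : ∃ p ∈ s, g p ∉ p
    · obtain ⟨p, hps, hgp⟩ := h
      refine ⟨d p, g p, hd p hps, hg p hps, hgI p hps, fun q hq => ?_⟩
      by_cases hqp : q = p
      · rw [hqp]
        exact hgp
      · exact hgq p hps q (Finset.mem_erase.mpr ⟨hqp, hq⟩)
    push Not at h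
    obtain ⟨p₀, hp₀⟩ : s.Nonempty := by
      rw [← Finset.card_pos, hs]
      omega
    by_cases htne : s.erase p₀ = ∅
    · obtain ⟨d', f, hd', hf, hfI, hfp⟩ :=
        exists_homog_not_mem_one 𝒜 I hI hI0 p₀ (hp p₀ hp₀).2
      refine ⟨d', f, hd', hf, hfI, fun q hq => ?_⟩
      have hq0 : q = p₀ := by
        by_contra hne
        have h1 : q ∈ s.erase p₀ := Finset.mem_erase.mpr ⟨hne, hq⟩
        rw [htne] at h1
        simp at h1
      rw [hq0]
      exact hfp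
    · have htn : (s.erase p₀).Nonempty := Finset.nonempty_iff_ne_empty.mpr htne
      have ha : 0 < ∑ q ∈ s.erase p₀, d q :=
        Finset.sum_pos (fun q hq => hd q (Finset.mem_of_mem_erase hq)) htn
      refine ⟨d p₀ * ∑ q ∈ s.erase p₀, d q,
        g p₀ ^ (∑ q ∈ s.erase p₀, d q) + (∏ q ∈ s.erase p₀, g q) ^ d p₀,
        Nat.mul_pos (hd p₀ hp₀) ha, ?_, ?_, ?_⟩
      · refine add_mem ?_ ?_
        · have h1 := SetLike.pow_mem_graded (∑ q ∈ s.erase p₀, d q) (hg p₀ hp₀)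
          rwa [smul_eq_mul, mul_comm] at h1
        · have h1 : ∏ q ∈ s.erase p₀, g q ∈ 𝒜 (∑ q ∈ s.erase p₀, d q) :=
            SetLike.prod_mem_graded 𝒜 d g (fun q hq => hg q (Finset.mem_of_mem_erase hq))
          have h2 := SetLike.pow_mem_graded (d p₀) h1
          rwa [smul_eq_mul] at h2
      · refine add_mem (Ideal.pow_mem_of_mem _ (hgI p₀ hp₀) _ ha) ?_
        obtain ⟨q₁, hq₁⟩ := htn
        refine Ideal.pow_mem_of_mem _ ?_ _ (hd p₀ hp₀)
        exact Ideal.mem_of_dvd _ (Finset.dvd_prod_of_mem g hq₁)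
          (hgI q₁ (Finset.mem_of_mem_erase hq₁))
      · intro q hq
        by_cases hqp : q = p₀
        · rw [hqp]
          intro hmem
          have h1 : g p₀ ^ (∑ q ∈ s.erase p₀, d q) ∈ p₀ :=
            Ideal.pow_mem_of_mem _ (h p₀ hp₀) _ ha
          have h2 : (∏ q ∈ s.erase p₀, g q) ^ d p₀ ∈ p₀ := (Ideal.add_mem_iff_right _ h1).mp hmem
          have h3 := (hp p₀ hp₀).1.mem_of_pow_mem _ h2
          obtain ⟨q', hq't, hq'⟩ := ((hp p₀ hp₀).1.prod_mem_iff).mp h3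
          exact hgq q' (Finset.mem_of_mem_erase hq't) p₀
            (Finset.mem_erase.mpr ⟨(Finset.ne_of_mem_erase hq't).symm, hp₀⟩) hq'
        · have hqt : q ∈ s.erase p₀ := Finset.mem_erase.mpr ⟨hqp, hq⟩
          intro hmem
          have h2 : (∏ q ∈ s.erase p₀, g q) ^ d p₀ ∈ q :=
            Ideal.pow_mem_of_mem _ (Ideal.mem_of_dvd _ (Finset.dvd_prod_of_mem g hqt) (h q hq)) _
              (hd p₀ hp₀)
          have h1 : g p₀ ^ (∑ q ∈ s.erase p₀, d q) ∈ q := (Ideal.add_mem_iff_left _ h2).mp hmem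
          have h3 := (hp q hq).1.mem_of_pow_mem _ h1
          exact hgq p₀ hp₀ q hqt h3

end Groth.Agent.Lib.Helper27HomogAvoid
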