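import Mathlib
import Groth.Agent.Lib.Helper27HomogAvoid
import Groth.Agent.Lib.Helper27DimDrop

/-!
# A quasi-projective scheme of dimension `d` is covered by `d + 1` affine opens (helper27)
-/

set_option autoImplicit false
universe u

open CategoryTheory AlgebraicGeometry TopologicalSpace Topology DirectSum

namespace Groth.Agent.Lib.Helper27QProjCover

open Groth.Agent.Lib.Helper27HomogAvoid Groth.Agent.Lib.Helper27DimDrop

section Proj
variable {R A : Type u} [CommRing R] [CommRing A] [Algebra R A] (𝒜 : ℕ → Submodule R A)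
  [GradedAlgebra 𝒜]

/-- `I(Z) · A₊`. -/
def avoidIdeal (Z : Set (ProjectiveSpectrum 𝒜)) : Ideal A :=
  (ProjectiveSpectrum.vanishingIdeal Z).toIdeal * (HomogeneousIdeal.irrelevant 𝒜).toIdeal

theorem avoidIdeal_isHomogeneous (Z : Set (ProjectiveSpectrum 𝒜)) :
    (avoidIdeal 𝒜 Z).IsHomogeneous 𝒜 :=
  Ideal.IsHomogeneous.mul (ProjectiveSpectrum.vanishingIdeal Z).isHomogeneous
    (HomogeneousIdeal.irrelevant 𝒜).isHomogeneous

theorem avoidIdeal_zero (Z : Set (ProjectiveSpectrum 𝒜)) (x : A) (hx : x ∈ avoidIdeal 𝒜 Z) :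
    (decompose 𝒜 x 0 : A) = 0 := by
  unfold avoidIdeal at hx
  have h0 : (ProjectiveSpectrum.vanishingIdeal Z).toIdeal * (HomogeneousIdeal.irrelevant 𝒜).toIdeal ≤
      (HomogeneousIdeal.irrelevant 𝒜).toIdeal := Ideal.mul_le_right
  have h1 : x ∈ (HomogeneousIdeal.irrelevant 𝒜).toIdeal := h0 hx
  have h2 := (HomogeneousIdeal.mem_irrelevant_iff 𝒜 x).mp h1
  rwa [GradedRing.proj_apply] at h2

theorem avoidIdeal_le (Z : Set (ProjectiveSpectrum 𝒜)) (x : A) (hx : x ∈ avoidIdeal 𝒜 Z)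
    (z : ProjectiveSpectrum 𝒜) (hz : z ∈ Z) : x ∈ z.asHomogeneousIdeal := by
  unfold avoidIdeal at hx
  have h0 : (ProjectiveSpectrum.vanishingIdeal Z).toIdeal * (HomogeneousIdeal.irrelevant 𝒜).toIdeal ≤
      (ProjectiveSpectrum.vanishingIdeal Z).toIdeal := Ideal.mul_le_left
  have h1 : x ∈ ProjectiveSpectrum.vanishingIdeal Z := h0 hx
  exact (ProjectiveSpectrum.mem_vanishingIdeal Z x).mp h1 z hz

theorem avoidIdeal_not_le (Z : Set (ProjectiveSpectrum 𝒜)) (hZ : IsClosed Z)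
    (y : ProjectiveSpectrum 𝒜) (hy : y ∉ Z) :
    ¬ avoidIdeal 𝒜 Z ≤ y.asHomogeneousIdeal.toIdeal := by
  intro hle
  rcases (y.isPrime.mul_le).mp hle with h | h
  · apply hy
    have h1 : y ∈ ProjectiveSpectrum.zeroLocus 𝒜 (ProjectiveSpectrum.vanishingIdeal Z : Set A) := h
    rwa [ProjectiveSpectrum.zeroLocus_vanishingIdeal_eq_closure, hZ.closure_eq] at h1
  · exact y.not_irrelevant_le h

theorem exists_cover (Z : Set (ProjectiveSpectrum 𝒜)) (hZ : IsClosed Z) :
    ∀ (k : ℕ) (Y : Type u) [TopologicalSpace Y] [NoetherianSpace Y]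
      (g : Y → ProjectiveSpectrum 𝒜) (_ : Continuous g) (_ : ∀ y, g y ∉ Z),
      topologicalKrullDim Y < (k : WithBot ℕ∞) →
      ∃ (f : Fin k → A) (d : Fin k → ℕ),
        (∀ i, 0 < d i ∧ f i ∈ 𝒜 (d i) ∧ ∀ z ∈ Z, f i ∈ z.asHomogeneousIdeal) ∧
        ∀ y, ∃ i, f i ∉ (g y).asHomogeneousIdeal := by
  classical
  intro k
  induction k with
  | zero =>
    intro Y _ _ g _ _ hdim
    have hE : IsEmpty Y := eq_empty_of_dim_lt_zero (by exact_mod_cast hdim)
    exact ⟨Fin.elim0, Fin.elim0, fun i => i.elim0, fun y => (hE.false y).elim⟩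
  | succ k ih =>
    intro Y _ _ g hg hgZ hdim
    obtain ⟨G, hG⟩ := exists_finite_meeting (Y := Y)
    obtain ⟨d₀, f₀, hd₀, hf₀, hf₀I, hf₀G⟩ := exists_homog_avoid 𝒜 (avoidIdeal 𝒜 Z)
      (avoidIdeal_isHomogeneous 𝒜 Z) (avoidIdeal_zero 𝒜 Z) _
      (G.image (fun y => (g y).asHomogeneousIdeal.toIdeal)) rfl (by
        intro p hp
        obtain ⟨y, _, rfl⟩ := Finset.mem_image.mp hp
        exact ⟨(g y).isPrime, avoidIdeal_not_le 𝒜 Z hZ (g y) (hgZ y)⟩)
    set F : Set Y := {y | f₀ ∈ (g y).asHomogeneousIdeal} with hF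
    have hFc : IsClosed F := by
      have h1 : F = (g ⁻¹' (ProjectiveSpectrum.basicOpen 𝒜 f₀ : Set (ProjectiveSpectrum 𝒜)))ᶜ := by
        ext y
        simp [hF]
      rw [h1]
      exact ((ProjectiveSpectrum.basicOpen 𝒜 f₀).isOpen.preimage hg).isClosed_compl
    have hcomp : ∀ T ∈ irreducibleComponents Y, ¬ T ⊆ F := by
      intro T hT hTF
      obtain ⟨ξ, hξG, hξT⟩ := hG T hT
      exact hf₀G _ (Finset.mem_image.mpr ⟨ξ, hξG, rfl⟩) (hTF hξT)
    have hdimF : topologicalKrullDim ↥F < (k : WithBot ℕ∞) := by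
      by_contra hcon
      rw [not_lt] at hcon
      have h1 := dim_drop F hFc hcomp k hcon
      exact absurd hdim (not_lt.mpr (by exact_mod_cast h1))
    obtain ⟨f', d', hf', hcov'⟩ := ih ↥F (fun y => g y.1) (hg.comp continuous_subtype_val)
      (fun y => hgZ y.1) hdimF
    refine ⟨Fin.cons f₀ f', Fin.cons d₀ d', ?_, ?_⟩
    · intro i
      refine Fin.cases ?_ (fun i => ?_) i
      · simp only [Fin.cons_zero]
        exact ⟨hd₀, hf₀, fun z hz => avoidIdeal_le 𝒜 Z f₀ hf₀I z hz⟩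
      · simp only [Fin.cons_succ]
        exact hf' i
    · intro y
      by_cases hy : y ∈ F
      · obtain ⟨i, hi⟩ := hcov' ⟨y, hy⟩
        exact ⟨i.succ, by simpa only [Fin.cons_succ] using hi⟩
      · refine ⟨0, ?_⟩
        rw [Fin.cons_zero]
        exact hy

theorem exists_affine_cover {X : Scheme.{u}} (j : X ⟶ Proj 𝒜) [IsImmersion j]
    [NoetherianSpace X] (k : ℕ) (hX : topologicalKrullDim X < (k : WithBot ℕ∞)) :
    ∃ U : Fin k → X.Opens, (∀ i, IsAffineOpen (U i)) ∧ ⨆ i, U i = ⊤ := by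
  have hZ : IsClosed (closure (Set.range j) \ Set.range j) :=
    isOpen_compl_iff.mp j.isLocallyClosed_range.isOpen_coborder
  obtain ⟨f, d, hf, hcov⟩ := exists_cover 𝒜 (closure (Set.range j) \ Set.range j) hZ k X
    (fun x => j x) j.continuous (fun y hy => hy.2 ⟨y, rfl⟩) hX
  refine ⟨fun i => j ⁻¹ᵁ Proj.basicOpen 𝒜 (f i), fun i => ?_, ?_⟩
  · have hD : IsAffineOpen (Proj.basicOpen 𝒜 (f i)) :=
      Proj.isAffineOpen_basicOpen 𝒜 (f i) (hf i).2.1 (hf i).1
    have hcl : IsClosed (Set.range (j ∣_ Proj.basicOpen 𝒜 (f i))) := by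
      have h1 : Set.range (j ∣_ Proj.basicOpen 𝒜 (f i)) =
          (Subtype.val : ↥(Proj.basicOpen 𝒜 (f i)) → Proj 𝒜) ⁻¹' closure (Set.range j) := by
        ext y
        constructor
        · rintro ⟨x, rfl⟩
          refine subset_closure ⟨x.1, ?_⟩
          exact (morphismRestrict_base_coe j (Proj.basicOpen 𝒜 (f i)) x).symm
        · intro hy
          have hyj : y.1 ∈ Set.range j := by
            by_contra hn
            have hz : y.1 ∈ closure (Set.range j) \ Set.range j := ⟨hy, hn⟩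
            exact y.2 ((hf i).2.2 y.1 hz)
          obtain ⟨x, hx⟩ := hyj
          have hxU : x ∈ j ⁻¹ᵁ Proj.basicOpen 𝒜 (f i) := by
            change j x ∈ Proj.basicOpen 𝒜 (f i)
            rw [hx]
            exact y.2
          let x' : ((j ⁻¹ᵁ Proj.basicOpen 𝒜 (f i) : X.Opens) : Scheme.{u}) := ⟨x, hxU⟩
          refine ⟨x', Subtype.ext ?_⟩
          exact (morphismRestrict_base_coe j (Proj.basicOpen 𝒜 (f i)) x').trans hx
      rw [h1]
      exact isClosed_closure.preimage continuous_subtype_val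
    have : IsClosedImmersion (j ∣_ Proj.basicOpen 𝒜 (f i)) :=
      IsClosedImmersion.of_isPreimmersion _ hcl
    have : IsAffine (Proj.basicOpen 𝒜 (f i) : Scheme.{u}) := hD
    exact isAffine_of_isAffineHom (j ∣_ Proj.basicOpen 𝒜 (f i))
  · rw [eq_top_iff]
    intro x _
    obtain ⟨i, hi⟩ := hcov x
    exact Opens.mem_iSup.2 ⟨i, hi⟩

end Proj

end Groth.Agent.Lib.Helper27QProjCover
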