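import Mathlib
import Groth.Agent.Lib.Helper27QProjCover
import Groth.Agent.Lib.Helper27ProjSpaceFibres

/-!
# `d + 1` affine opens cover a quasi-projective scheme of dimension `d` over a Noetherian ring
(helper27)
-/

set_option autoImplicit false
universe u

open CategoryTheory CategoryTheory.Limits AlgebraicGeometry TopologicalSpace Topology

namespace Groth.Agent.Lib.Helper27QProjCover

open Groth.Agent.Lib.Helper27ProjSpaceBC Groth.Agent.Lib.Helper27ProjSpaceFibres

theorem isNoetherian_projSpace (n : ℕ) (A : Type u) [CommRing A] [IsNoetherianRing A] :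
    IsNoetherian (CohB1.ProjSpace n A) := by
  have hp := isProper_projSpace_toSpec n A
  have h1 : IsLocallyNoetherian (CohB1.ProjSpace n A) :=
    LocallyOfFiniteType.isLocallyNoetherian (CohB1.ProjSpace.toSpec n A)
  have h2 : CompactSpace (CohB1.ProjSpace n A) :=
    QuasiCompact.compactSpace_of_compactSpace (CohB1.ProjSpace.toSpec n A)
  exact { }

theorem exists_affine_cover_over (A : Type u) [CommRing A] [IsNoetherianRing A] (n d : ℕ)
    {X : Scheme.{u}} (j : X ⟶ CohB1.ProjSpaceOver n (Spec (CommRingCat.of A))) [IsImmersion j]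
    (hX : topologicalKrullDim ↥X = d) :
    ∃ U : Fin (d + 1) → X.Opens, (∀ i, IsAffineOpen (U i)) ∧ ⨆ i, U i = ⊤ := by
  let j' : X ⟶ Proj (CohB1.polyGrading n A) := j ≫ (overIso n A).inv
  have hj' : IsImmersion j' := by
    have : IsImmersion (j ≫ (overIso n A).inv) := inferInstance
    exact this
  have hN := isNoetherian_projSpace n A
  have hNs : NoetherianSpace (Proj (CohB1.polyGrading n A)) :=
    IsNoetherian.noetherianSpace (X := CohB1.ProjSpace n A)
  have hXN : NoetherianSpace X := j'.isEmbedding.isInducing.noetherianSpace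
  refine exists_affine_cover (CohB1.polyGrading n A) j' (d + 1) ?_
  rw [hX]
  exact_mod_cast Nat.lt_succ_self d

end Groth.Agent.Lib.Helper27QProjCover
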