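import Mathlib

/-!
# Cech complexes: extra degeneracy (helper16)

* `homotopyEquivOfContraction`, `homotopyEquivOfCo`: a cosimplicial object in a preadditive category with a
  coaugmentation and an extra codegeneracy has alternating coface map complex homotopy equivalent to the
  coaugmentation object in degree `0`.
* for a thin category `C` with finite products, a family `U : ι → C`, an object `W` with maps `U i ⟶ W` and
  a map `d : W ⟶ U i₀`: the augmented Cech object `augK` has an extra degeneracy `edK`, and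
  `cechHomotopyEquiv₀` is the resulting homotopy equivalence for the Cech complex of a presheaf.
-/

set_option autoImplicit false
set_option linter.unusedSectionVars false
universe u
open CategoryTheory

namespace Groth.Agent.Lib.Helper16.Cech
open Opposite CategoryTheory.Limits Simplicial AlgebraicTopology

section Co
universe v' u'
variable {A : Type u'} [Category.{v'} A] [Preadditive A] [HasZeroObject A]

lemma altCoface_d (Y : CosimplicialObject A) (n : ℕ) :
    ((alternatingCofaceMapComplex A).obj Y).d n (n + 1) =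
      ∑ i : Fin (n + 2), (-1 : ℤ) ^ (i : ℕ) • Y.δ i := by
  exact CochainComplex.of_d (fun n => Y.obj ⦋n⦌) (AlternatingCofaceMapComplex.objD Y) n

lemma coaug_d_zero (Y : CosimplicialObject A) (M : A) (η : M ⟶ Y.obj ⦋0⦌)
    (hη : η ≫ Y.δ 0 = η ≫ Y.δ 1) :
    η ≫ ((alternatingCofaceMapComplex A).obj Y).d 0 1 = 0 := by
  rw [altCoface_d]
  simp only [Fin.sum_univ_succ, Fin.val_zero, pow_zero, one_smul, Fin.val_succ, zero_add, pow_one,
    neg_smul, Finset.univ_eq_empty, Finset.sum_empty, add_zero, Fin.succ_zero_eq_one]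
  refine (Preadditive.comp_add _ _ _ η (Y.δ 0) (-Y.δ 1)).trans ?_
  refine (congrArg (fun z => η ≫ Y.δ 0 + z) (Preadditive.comp_neg η (Y.δ 1))).trans ?_
  change η ≫ Y.δ 0 + -(η ≫ Y.δ 1) = 0
  rw [hη, add_neg_cancel]

lemma key_succ (Y : CosimplicialObject A) (t : ∀ n : ℕ, Y.obj ⦋n + 1⦌ ⟶ Y.obj ⦋n⦌)
    (h3 : ∀ n : ℕ, Y.δ 0 ≫ t n = 𝟙 _)
    (h4 : ∀ (n : ℕ) (i : Fin (n + 2)), Y.δ i.succ ≫ t (n + 1) = t n ≫ Y.δ i) (n : ℕ) :
    (∑ i : Fin (n + 3), (-1 : ℤ) ^ (i : ℕ) • Y.δ i) ≫ t (n + 1) +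
      t n ≫ (∑ i : Fin (n + 2), (-1 : ℤ) ^ (i : ℕ) • Y.δ i) = 𝟙 _ := by
  rw [Fin.sum_univ_succ]
  simp only [Fin.val_zero, pow_zero, one_smul, Fin.val_succ, pow_succ, mul_neg, mul_one, neg_smul]
  rw [Preadditive.add_comp, Preadditive.sum_comp, Preadditive.comp_sum]
  rw [h3]
  have : ∀ i : Fin (n + 2), (-((-1 : ℤ) ^ (i : ℕ) • Y.δ i.succ)) ≫ t (n + 1) =
      -(t n ≫ ((-1 : ℤ) ^ (i : ℕ) • Y.δ i)) := by
    intro i
    rw [Preadditive.neg_comp, Preadditive.zsmul_comp, Preadditive.comp_zsmul, h4]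
  simp only [this]
  rw [Finset.sum_neg_distrib]
  abel

lemma key_zero (Y : CosimplicialObject A) (M : A) (η : M ⟶ Y.obj ⦋0⦌)
    (t' : Y.obj ⦋0⦌ ⟶ M) (t : ∀ n : ℕ, Y.obj ⦋n + 1⦌ ⟶ Y.obj ⦋n⦌)
    (h2 : Y.δ 1 ≫ t 0 = t' ≫ η) (h3 : ∀ n : ℕ, Y.δ 0 ≫ t n = 𝟙 _) :
    (∑ i : Fin 2, (-1 : ℤ) ^ (i : ℕ) • Y.δ i) ≫ t 0 = 𝟙 _ - t' ≫ η := by
  simp only [Fin.sum_univ_succ, Fin.val_zero, pow_zero, one_smul, Fin.val_succ, zero_add, pow_one,
    neg_smul, Finset.univ_eq_empty, Finset.sum_empty, add_zero, Fin.succ_zero_eq_one]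
  rw [Preadditive.add_comp, Preadditive.neg_comp, h3, h2]
  abel

/-- a contracting homotopy for a cochain complex with coaugmentation. -/
noncomputable def homotopyEquivOfContraction (K : CochainComplex A ℕ) (M : A) (η : M ⟶ K.X 0)
    (t' : K.X 0 ⟶ M) (t : ∀ n : ℕ, K.X (n + 1) ⟶ K.X n)
    (ha : η ≫ K.d 0 1 = 0) (hb : η ≫ t' = 𝟙 M)
    (hc : K.d 0 1 ≫ t 0 = 𝟙 _ - t' ≫ η)
    (hd : ∀ n : ℕ, K.d (n + 1) (n + 2) ≫ t (n + 1) + t n ≫ K.d n (n + 1) = 𝟙 _) :
    HomotopyEquiv ((CochainComplex.single₀ A).obj M) K where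
  hom := (CochainComplex.fromSingle₀Equiv _ _).symm ⟨η, ha⟩
  inv := (CochainComplex.toSingle₀Equiv _ _).symm t'
  homotopyHomInvId := Homotopy.ofEq (by
    ext
    have e1 := CochainComplex.fromSingle₀Equiv_symm_apply_f_zero (C := K) (X := M) η ha
    have e2 := CochainComplex.toSingle₀Equiv_symm_apply_f_zero (C := K) (X := M) t'
    rw [HomologicalComplex.comp_f]
    erw [e1, e2]
    exact hb)
  homotopyInvHomId :=
    { hom := fun i j => (Pi.single (j + 1) (-t j) : ∀ i, K.X i ⟶ K.X j) i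
      zero := fun i j hij => Pi.single_eq_of_ne (Ne.symm hij) _
      comm := fun i => by
        cases i with
        | zero =>
          rw [Homotopy.prevD_zero_cochainComplex, Homotopy.dNext_cochainComplex]
          simp only [Pi.single_eq_same, HomologicalComplex.comp_f,
            HomologicalComplex.id_f, add_zero, Preadditive.comp_neg]
          have e1 := CochainComplex.fromSingle₀Equiv_symm_apply_f_zero (C := K) (X := M) η ha
          have e2 := CochainComplex.toSingle₀Equiv_symm_apply_f_zero (C := K) (X := M) t'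
          erw [e1, e2, hc]
          abel
        | succ n =>
          rw [Homotopy.prevD_succ_cochainComplex, Homotopy.dNext_cochainComplex]
          simp only [Pi.single_eq_same, HomologicalComplex.comp_f,
            HomologicalComplex.id_f, Preadditive.comp_neg, Preadditive.neg_comp]
          have e2 := CochainComplex.toSingle₀Equiv_symm_apply_f_succ (C := K) (X := M) t' n
          erw [e2, zero_comp]
          rw [← neg_add]
          erw [hd n]
          abel }

/-- a cosimplicial object with an extra codegeneracy is homotopy equivalent to its coaugmentation. -/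
noncomputable def homotopyEquivOfCo (Y : CosimplicialObject A) (M : A) (η : M ⟶ Y.obj ⦋0⦌)
    (t' : Y.obj ⦋0⦌ ⟶ M) (t : ∀ n : ℕ, Y.obj ⦋n + 1⦌ ⟶ Y.obj ⦋n⦌)
    (h1 : η ≫ t' = 𝟙 M) (hη : η ≫ Y.δ 0 = η ≫ Y.δ 1)
    (h2 : Y.δ 1 ≫ t 0 = t' ≫ η) (h3 : ∀ n : ℕ, Y.δ 0 ≫ t n = 𝟙 _)
    (h4 : ∀ (n : ℕ) (i : Fin (n + 2)), Y.δ i.succ ≫ t (n + 1) = t n ≫ Y.δ i) :
    HomotopyEquiv ((CochainComplex.single₀ A).obj M) ((alternatingCofaceMapComplex A).obj Y) :=
  homotopyEquivOfContraction ((alternatingCofaceMapComplex A).obj Y) M η t' t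
    (coaug_d_zero Y M η hη) h1
    (by rw [altCoface_d]; exact key_zero Y M η t' t h2 h3)
    (fun n => by rw [altCoface_d, altCoface_d]; exact key_succ Y t h3 h4 n)

end Co

section Thin
universe w v u₁
variable {C : Type u₁} [Category.{v} C] [HasFiniteProducts C] [Quiver.IsThin C]

lemma fc_hom_ext {X Y : FormalCoproduct.{w} C} {f g : X ⟶ Y} (h : f.f = g.f) : f = g :=
  FormalCoproduct.hom_ext h (fun _ => Subsingleton.elim _ _)

variable {ι : Type w} (U : ι → C) (W : C) (hW : ∀ i, U i ⟶ W) (i₀ : ι) (d : W ⟶ U i₀)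

/-- the Cech object -/
noncomputable abbrev K : SimplicialObject (FormalCoproduct.{w} C) := (FormalCoproduct.mk ι U).cech

/-- the augmentation in degree zero -/
noncomputable def aug0 : (K U) _⦋0⦌ ⟶ (FormalCoproduct.incl C).obj W :=
  { f := fun _ => PUnit.unit
    φ := fun x => Pi.π _ (0 : Fin 1) ≫ hW (x (0 : Fin 1)) }

/-- the augmented Cech object -/
noncomputable def augK : SimplicialObject.Augmented (FormalCoproduct.{w} C) :=
  (K U).augment ((FormalCoproduct.incl C).obj W) (aug0 U W hW) (by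
    intro i g₁ g₂
    apply fc_hom_ext
    rfl)


/-- the components of the extra degeneracy -/
noncomputable def sφ (n : ℕ) (x : Fin (n + 1) → ι) (a : Fin (n + 2)) :
    ∏ᶜ (U ∘ x) ⟶ U ((Fin.cons i₀ x : Fin (n + 2) → ι) a) := by
  refine Fin.cases ?_ (fun b => ?_) a
  · exact Pi.π _ (0 : Fin (n + 1)) ≫ hW (x 0) ≫ d
  · exact Pi.π _ b

/-- the extra degeneracy -/
noncomputable def sK (n : ℕ) : (K U) _⦋n⦌ ⟶ (K U) _⦋n + 1⦌ :=
  { f := fun x => (Fin.cons i₀ x : Fin (n + 2) → ι)
    φ := fun x => Pi.lift (fun a => sφ U W hW i₀ d n x a) }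

/-- the extra degeneracy of the augmented Cech object when `U i₀ = W`. -/
noncomputable def edK : (augK U W hW).ExtraDegeneracy where
  s' := FormalCoproduct.Hom.fromIncl (fun _ => i₀) (Pi.lift fun _ => d)
  s n := sK U W hW i₀ d n
  s'_comp_ε := by
    apply fc_hom_ext
    rfl
  s₀_comp_δ₁ := by
    apply fc_hom_ext
    funext x
    funext a
    have key : ∀ (x : Fin 1 → ι) (a : Fin 1),
        (Fin.cons i₀ x : Fin 2 → ι) (Fin.succAbove (1 : Fin 2) a) = i₀ := by
      intro x a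
      have ha : a = 0 := Subsingleton.elim _ _
      subst ha
      rfl
    exact key x a
  s_comp_δ₀ n := by
    apply fc_hom_ext
    funext x
    funext a
    have key : ∀ (x : Fin (n + 1) → ι) (a : Fin (n + 1)),
        (Fin.cons i₀ x : Fin (n + 2) → ι) (Fin.succAbove (0 : Fin (n + 2)) a) = x a := by
      intro x a
      rw [Fin.succAbove_zero, Fin.cons_succ]
    exact key x a
  s_comp_δ n i := by
    apply fc_hom_ext
    funext x
    funext a
    have key : ∀ (x : Fin (n + 2) → ι) (a : Fin (n + 2)),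
        (Fin.cons i₀ x : Fin (n + 3) → ι) (Fin.succAbove i.succ a) =
        (Fin.cons i₀ (fun b => x (Fin.succAbove i b)) : Fin (n + 2) → ι) a := by
      intro x a
      refine Fin.cases ?_ (fun b => ?_) a
      · rw [Fin.succ_succAbove_zero, Fin.cons_zero, Fin.cons_zero]
      · rw [Fin.succ_succAbove_succ, Fin.cons_succ, Fin.cons_succ]
    exact key x a
  s_comp_σ n i := by
    apply fc_hom_ext
    funext x
    funext a
    have key : ∀ (x : Fin (n + 1) → ι) (a : Fin (n + 3)),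
        (Fin.cons i₀ x : Fin (n + 2) → ι) (Fin.predAbove i.succ a) =
        (Fin.cons i₀ (fun b => x (Fin.predAbove i b)) : Fin (n + 3) → ι) a := by
      intro x a
      refine Fin.cases ?_ (fun b => ?_) a
      · rw [Fin.predAbove_right_zero, Fin.cons_zero, Fin.cons_zero]
      · rw [Fin.succ_predAbove_succ, Fin.cons_succ, Fin.cons_succ]
    exact key x a


section EvalAux
universe v₂ u₂ v₃ u₃
variable {𝓕 : Type u₂} [Category.{v₂} 𝓕] {A : Type u₃} [Category.{v₃} A] (E : 𝓕ᵒᵖ ⥤ A)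

lemma Emap_sq {P Q Q' R : 𝓕} {a : P ⟶ Q} {b : Q ⟶ R} {c : P ⟶ Q'} {d' : Q' ⟶ R}
    (h : a ≫ b = c ≫ d') : E.map b.op ≫ E.map a.op = E.map d'.op ≫ E.map c.op := by
  rw [← E.map_comp, ← op_comp, h, op_comp, E.map_comp]

lemma Emap_id {P Q : 𝓕} {a : P ⟶ Q} {b : Q ⟶ P} (h : a ≫ b = 𝟙 P) :
    E.map b.op ≫ E.map a.op = 𝟙 _ := by
  rw [← E.map_comp, ← op_comp, h, op_id, E.map_id]

end EvalAux

section Eval
universe v' u'
variable {A : Type u'} [Category.{v'} A] [Preadditive A] [HasZeroObject A] [HasProducts.{w} A]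
  (F : Cᵒᵖ ⥤ A)

/-- the evaluation of the presheaf on formal coproducts -/
noncomputable abbrev EF : (FormalCoproduct.{w} C)ᵒᵖ ⥤ A := (FormalCoproduct.evalOp.{w} C A).obj F

/-- the Cech cosimplicial object -/
noncomputable abbrev YF : CosimplicialObject A := (K U).rightOp ⋙ EF F

/-- the Cech complex is homotopy equivalent to the value on the formal coproduct `W`. -/
noncomputable def cechHomotopyEquiv₀ :
    HomotopyEquiv ((CochainComplex.single₀ A).obj ((EF F).obj (op ((FormalCoproduct.incl C).obj W))))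
      ((alternatingCofaceMapComplex A).obj (YF U F)) :=
  homotopyEquivOfCo (YF U F) ((EF F).obj (op ((FormalCoproduct.incl C).obj W)))
    ((EF F).map ((augK U W hW).hom.app (op ⦋0⦌)).op)
    ((EF F).map (edK U W hW i₀ d).s'.op)
    (fun n => (EF F).map ((edK U W hW i₀ d).s n).op)
    (Emap_id (EF F) (edK U W hW i₀ d).s'_comp_ε)
    (Emap_sq (EF F) (a := (augK U W hW).left.δ 0) (c := (augK U W hW).left.δ 1)
      (fc_hom_ext rfl))
    (Emap_sq (EF F) (edK U W hW i₀ d).s₀_comp_δ₁)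
    (fun n => Emap_id (EF F) ((edK U W hW i₀ d).s_comp_δ₀ n))
    (fun n i => Emap_sq (EF F) ((edK U W hW i₀ d).s_comp_δ n i))

end Eval

end Thin



end Groth.Agent.Lib.Helper16.Cech
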