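import Mathlib
import Groth.Agent.Lib.Helper16Cech

/-!
# Cech complexes: explicit components of the differential (helper16)

`CK U P` the Cech complex, `pr n x` the projection to the component `x : Fin (n+1) → ι`, `face x i`,
`d_pr`/`d_pr_apply` (formula for the differential), `mkElt`/`pr_mkElt`/`elt_ext` (cochains are families),
`exists_of_isZero_homology`.
-/

set_option autoImplicit false
set_option linter.unusedSectionVars false
universe u
open CategoryTheory

namespace Groth.Agent.Lib.Helper16.CechLow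
open Opposite CategoryTheory.Limits Simplicial AlgebraicTopology Groth.Agent.Lib.Helper16.Cech

universe v u₁
variable {C : Type u₁} [Category.{v} C] [HasFiniteProducts C] {ι : Type u} (U : ι → C)
  (P : Cᵒᵖ ⥤ AddCommGrpCat.{u})

/-- the Cech complex -/
noncomputable abbrev CK : CochainComplex AddCommGrpCat.{u} ℕ := (cechComplexFunctor U).obj P

/-- `U_{x_0} × ⋯ × U_{x_n}` -/
noncomputable abbrev Ux {n : ℕ} (x : Fin (n + 1) → ι) : C := ∏ᶜ (U ∘ x)

/-- the projection to the component `x`. -/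
noncomputable def pr (n : ℕ) (x : Fin (n + 1) → ι) : (CK U P).X n ⟶ P.obj (op (Ux U x)) :=
  Pi.π (fun x : Fin (n + 1) → ι => P.obj (op (Ux U x))) x

/-- the face maps -/
noncomputable def face {n : ℕ} (x : Fin (n + 2) → ι) (i : Fin (n + 2)) :
    Ux U x ⟶ Ux U (x ∘ Fin.succAbove i) :=
  Pi.lift fun a => Pi.π (U ∘ x) (Fin.succAbove i a)

/-- the Cech cosimplicial object -/
noncomputable abbrev YK : CosimplicialObject AddCommGrpCat.{u} :=
  (FormalCoproduct.mk ι U).cech.rightOp ⋙ (FormalCoproduct.evalOp.{u} C AddCommGrpCat.{u}).obj P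

lemma δ_pr (n : ℕ) (x : Fin (n + 2) → ι) (i : Fin (n + 2)) :
    (YK U P).δ i ≫ pr U P (n + 1) x =
      pr U P n (x ∘ Fin.succAbove i) ≫ P.map (face U x i).op := by
  exact limit.lift_π _ _


lemma d_pr (n : ℕ) (x : Fin (n + 2) → ι) :
    (CK U P).d n (n + 1) ≫ pr U P (n + 1) x =
      ∑ i : Fin (n + 2), (-1 : ℤ) ^ (i : ℕ) •
        (pr U P n (x ∘ Fin.succAbove i) ≫ P.map (face U x i).op) := by
  have h : (CK U P).d n (n + 1) = ∑ i : Fin (n + 2), (-1 : ℤ) ^ (i : ℕ) • (YK U P).δ i :=
    altCoface_d (YK U P) n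
  rw [h]
  refine (Preadditive.sum_comp Finset.univ (fun i : Fin (n + 2) => (-1 : ℤ) ^ (i : ℕ) • (YK U P).δ i)
    (pr U P (n + 1) x)).trans ?_
  refine Finset.sum_congr rfl (fun i _ => ?_)
  refine (Preadditive.zsmul_comp _ _ _).trans ?_
  exact congrArg (fun z => (-1 : ℤ) ^ (i : ℕ) • z) (δ_pr U P n x i)

/-- evaluation at an element as an additive map -/
def evalHom {M N : AddCommGrpCat.{u}} (x : M) : (M ⟶ N) →+ N where
  toFun f := f x
  map_zero' := rfl
  map_add' _ _ := rfl

lemma sum_apply {α : Type*} {M N : AddCommGrpCat.{u}} (s : Finset α) (f : α → (M ⟶ N)) (x : M) :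
    (∑ i ∈ s, f i) x = ∑ i ∈ s, f i x :=
  map_sum (evalHom x) f s

lemma d_pr_apply (n : ℕ) (x : Fin (n + 2) → ι) (c : (CK U P).X n) :
    pr U P (n + 1) x ((CK U P).d n (n + 1) c) =
      ∑ i : Fin (n + 2), (-1 : ℤ) ^ (i : ℕ) •
        P.map (face U x i).op (pr U P n (x ∘ Fin.succAbove i) c) := by
  have h := ConcreteCategory.congr_hom (d_pr U P n x) c
  rw [sum_apply] at h
  exact h

/-- elements of the Cech complex are families -/
noncomputable def mkElt (n : ℕ) (c : ∀ x : Fin (n + 1) → ι, P.obj (op (Ux U x))) : (CK U P).X n :=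
  (Concrete.productEquiv (fun x : Fin (n + 1) → ι => P.obj (op (Ux U x)))).symm c

lemma pr_mkElt (n : ℕ) (c : ∀ x : Fin (n + 1) → ι, P.obj (op (Ux U x))) (x : Fin (n + 1) → ι) :
    pr U P n x (mkElt U P n c) = c x :=
  Concrete.productEquiv_symm_apply_π _ c x

lemma elt_ext (n : ℕ) (c c' : (CK U P).X n) (h : ∀ x, pr U P n x c = pr U P n x c') : c = c' := by
  apply (Concrete.productEquiv (fun x : Fin (n + 1) → ι => P.obj (op (Ux U x)))).injective
  funext x
  exact (Concrete.productEquiv_apply_apply _ c x).trans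
    ((h x).trans (Concrete.productEquiv_apply_apply _ c' x).symm)

/-- vanishing of `H^(n+1)` means cocycles are coboundaries. -/
lemma exists_of_isZero_homology (n : ℕ) (h : IsZero ((CK U P).homology (n + 1)))
    (c : (CK U P).X (n + 1)) (hc : (CK U P).d (n + 1) (n + 2) c = 0) :
    ∃ b : (CK U P).X n, (CK U P).d n (n + 1) b = c := by
  have h1 : (CK U P).ExactAt (n + 1) := (HomologicalComplex.exactAt_iff_isZero_homology _ _).2 h
  rw [HomologicalComplex.exactAt_iff' (CK U P) n (n + 1) (n + 2) (by simp) (by simp)] at h1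
  rw [ShortComplex.ab_exact_iff] at h1
  exact h1 c hc

end Groth.Agent.Lib.Helper16.CechLow
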