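import Groth.Agent.Lib.Helper27PnLau
import Groth.Agent.Lib.Helper16CechLow

/-!
# The Čech complex of `O(d)` on `P^n_R` for the standard cover (helper27)
-/

set_option autoImplicit false
universe u

open CategoryTheory CategoryTheory.Limits AlgebraicGeometry TopologicalSpace Opposite
  HomogeneousLocalization MvPolynomial

namespace Groth.Agent.Lib.Helper27PnCech

open Groth.Agent.Lib.Helper27GrTildeSect Groth.Agent.Lib.Helper27ProjGamma
  Groth.Agent.Lib.Helper27PnSections Groth.Agent.Lib.Helper27Laurent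
  Groth.Agent.Lib.Helper27PnLau Groth.Agent.Lib.Helper16.CechLow

variable (n : ℕ) (R : Type u) [CommRing R] (d : ℤ)

local notation "𝒢" => CohB1.polyGrading n R

/-- the standard cover. -/
noncomputable def V : ULift.{u} (Fin (n + 1)) → (Proj 𝒢).Opens :=
  fun i => Proj.basicOpen 𝒢 (X i.down)

/-- the presheaf of `O(d)`. -/
noncomputable abbrev P : (Proj 𝒢).Opensᵒᵖ ⥤ AddCommGrpCat.{u} := (GrTilde.tilde 𝒢 𝒢 d).presheaf

variable {n}

/-- the multiplicity vector of a tuple. -/
noncomputable def mu {p : ℕ} (x : Fin (p + 1) → ULift.{u} (Fin (n + 1))) : Fin (n + 1) →₀ ℕ :=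
  ∑ a, Finsupp.single (x a).down 1

theorem mu_apply {p : ℕ} (x : Fin (p + 1) → ULift.{u} (Fin (n + 1))) (i : Fin (n + 1)) :
    mu x i = (Finset.univ.filter (fun a => (x a).down = i)).card := by
  classical
  unfold mu
  rw [Finsupp.finset_sum_apply]
  simp only [Finsupp.single_apply]
  rw [Finset.sum_ite, Finset.sum_const_zero, add_zero, Finset.sum_const, smul_eq_mul, mul_one]

theorem mem_support_mu {p : ℕ} (x : Fin (p + 1) → ULift.{u} (Fin (n + 1))) (i : Fin (n + 1)) :
    i ∈ (mu x).support ↔ ∃ a, (x a).down = i := by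
  classical
  rw [Finsupp.mem_support_iff, mu_apply, Ne, Finset.card_eq_zero, ← Ne, ← Finset.nonempty_iff_ne_empty]
  constructor
  · rintro ⟨a, ha⟩
    exact ⟨a, (Finset.mem_filter.mp ha).2⟩
  · rintro ⟨a, ha⟩
    exact ⟨a, Finset.mem_filter.mpr ⟨Finset.mem_univ _, ha⟩⟩

theorem degree_mu {p : ℕ} (x : Fin (p + 1) → ULift.{u} (Fin (n + 1))) :
    Finsupp.degree (mu x) = p + 1 := by
  unfold mu
  rw [map_sum]
  simp

variable (n)

theorem Ux_eq {p : ℕ} (x : Fin (p + 1) → ULift.{u} (Fin (n + 1))) :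
    Ux (V n R) x = Proj.basicOpen 𝒢 (mono n R (mu x)) := by
  apply le_antisymm
  · intro y hy
    refine (mem_basicOpen_iff n R _ y).mpr ?_
    refine (mono_not_mem_iff n R _ y).mpr ?_
    intro i hi
    obtain ⟨a, rfl⟩ := (mem_support_mu x i).mp hi
    have h1 : Ux (V n R) x ≤ V n R (x a) := (Pi.π (V n R ∘ x) a).le
    exact (mem_basicOpen_iff n R _ y).mp (h1 hy)
  · refine (Pi.lift (fun a => homOfLE ?_)).le
    intro y hy
    have h1 := (mono_not_mem_iff n R _ y).mp ((mem_basicOpen_iff n R _ y).mp hy)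
    exact (mem_basicOpen_iff n R _ y).mpr (h1 _ ((mem_support_mu x _).mpr ⟨a, rfl⟩))

theorem torus_le_Ux {p : ℕ} (x : Fin (p + 1) → ULift.{u} (Fin (n + 1))) :
    torus n R ≤ Ux (V n R) x := by
  rw [Ux_eq]
  exact torus_le_basicOpen n R _

variable {n R}

/-- the Laurent coefficient as an additive map. -/
noncomputable def lauHom (W : (Proj 𝒢).Opens) (hW : torus n R ≤ W) (e : Fin (n + 1) → ℤ) :
    Γ(GrTilde.tilde 𝒢 𝒢 d, W) →+ R :=
  AddMonoidHom.mk' (fun s => lauC d W hW s e) (fun s s' => lauC_add d W hW s s' e)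

theorem lauHom_apply (W : (Proj 𝒢).Opens) (hW : torus n R ≤ W) (e : Fin (n + 1) → ℤ)
    (s : Γ(GrTilde.tilde 𝒢 𝒢 d, W)) : lauHom d W hW e s = lauC d W hW s e := rfl

/-- the Laurent coefficients of a cochain. -/
noncomputable def hat {p : ℕ} (c : (CK (V n R) (P n R d)).X p)
    (x : Fin (p + 1) → ULift.{u} (Fin (n + 1))) (e : Fin (n + 1) → ℤ) : R :=
  lauC d (Ux (V n R) x) (torus_le_Ux n R x) (pr (V n R) (P n R d) p x c) e

theorem hat_d {p : ℕ} (c : (CK (V n R) (P n R d)).X p)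
    (x : Fin (p + 2) → ULift.{u} (Fin (n + 1))) (e : Fin (n + 1) → ℤ) :
    hat d ((CK (V n R) (P n R d)).d p (p + 1) c) x e =
      ∑ i : Fin (p + 2), (-1 : ℤ) ^ (i : ℕ) • hat d c (x ∘ Fin.succAbove i) e := by
  unfold hat
  rw [d_pr_apply, ← lauHom_apply, map_sum]
  refine Finset.sum_congr rfl (fun i _ => ?_)
  rw [map_zsmul, lauHom_apply]
  congr 1

theorem hat_zero {p : ℕ} (x : Fin (p + 1) → ULift.{u} (Fin (n + 1))) (e : Fin (n + 1) → ℤ) :
    hat d (0 : (CK (V n R) (P n R d)).X p) x e = 0 := by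
  unfold hat
  rw [map_zero, ← lauHom_apply, map_zero]

theorem hat_ne_zero {p : ℕ} (c : (CK (V n R) (P n R d)).X p)
    (x : Fin (p + 1) → ULift.{u} (Fin (n + 1))) (e : Fin (n + 1) → ℤ) (h : hat d c x e ≠ 0) :
    ∑ i, e i = d ∧ ∀ i, (∀ a, (x a).down ≠ i) → 0 ≤ e i := by
  obtain ⟨h1, h2⟩ := lauC_ne_zero d (mu x) (Ux (V n R) x) (Ux_eq n R x)
    (by rw [degree_mu]; exact Nat.succ_pos p) (torus_le_Ux n R x) _ e h
  refine ⟨h1, fun i hi => h2 i ?_⟩
  rw [mem_support_mu]
  rintro ⟨a, ha⟩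
  exact hi a ha

theorem finite_support_hat {p : ℕ} (c : (CK (V n R) (P n R d)).X p)
    (x : Fin (p + 1) → ULift.{u} (Fin (n + 1))) : {e : Fin (n + 1) → ℤ | hat d c x e ≠ 0}.Finite :=
  finite_support_lauC d _ _ _

theorem ext_of_hat {p : ℕ} (c c' : (CK (V n R) (P n R d)).X p)
    (h : ∀ x e, hat d c x e = hat d c' x e) : c = c' := by
  apply elt_ext
  intro x
  rw [← sub_eq_zero]
  apply eq_zero_of_lauC d (mu x) (Ux (V n R) x) (Ux_eq n R x)
    (by rw [degree_mu]; exact Nat.succ_pos p) (torus_le_Ux n R x)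
  intro e
  rw [← lauHom_apply, map_sub, lauHom_apply, lauHom_apply, sub_eq_zero]
  exact h x e

theorem exists_cochain (p : ℕ)
    (S : (Fin (p + 1) → ULift.{u} (Fin (n + 1))) → Finset (Fin (n + 1) → ℤ))
    (r : (Fin (p + 1) → ULift.{u} (Fin (n + 1))) → (Fin (n + 1) → ℤ) → R)
    (hS : ∀ x, ∀ e ∈ S x, ∑ i, e i = d ∧ ∀ i, (∀ a, (x a).down ≠ i) → 0 ≤ e i) :
    ∃ b : (CK (V n R) (P n R d)).X p, ∀ x e, hat d b x e = if e ∈ S x then r x e else 0 := by
  have h : ∀ x, ∃ s : Γ(GrTilde.tilde 𝒢 𝒢 d, Ux (V n R) x),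
      ∀ e, lauC d (Ux (V n R) x) (torus_le_Ux n R x) s e = if e ∈ S x then r x e else 0 := by
    intro x
    apply exists_of_lauC d (mu x) (Ux (V n R) x) (Ux_eq n R x)
      (by rw [degree_mu]; exact Nat.succ_pos p) (torus_le_Ux n R x) (S x) (r x)
    intro e he
    obtain ⟨h1, h2⟩ := hS x e he
    refine ⟨h1, fun i hi => h2 i (fun a ha => hi ?_)⟩
    rw [mem_support_mu]
    exact ⟨a, ha⟩
  choose s hs using h
  refine ⟨mkElt (V n R) (P n R d) p s, fun x e => ?_⟩
  unfold hat
  rw [pr_mkElt]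
  exact hs x e

theorem cons_comp_succAbove_zero {α : Type*} {m : ℕ} (j : α) (y : Fin (m + 1) → α) :
    (Fin.cons j y : Fin (m + 2) → α) ∘ Fin.succAbove 0 = y := by
  funext a
  simp

theorem cons_comp_succAbove_succ {α : Type*} {m : ℕ} (j : α) (y : Fin (m + 2) → α)
    (i : Fin (m + 2)) :
    (Fin.cons j y : Fin (m + 3) → α) ∘ Fin.succAbove i.succ =
      Fin.cons j (y ∘ Fin.succAbove i) := by
  funext a
  refine Fin.cases ?_ (fun a' => ?_) a
  · simp
  · simp

/-- cocycles of positive degree are coboundaries, outside the top cohomology. -/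
theorem exists_primitive (p : ℕ) (hpd : p + 1 < n ∨ -((n : ℤ) + 1) < d)
    (c : (CK (V n R) (P n R d)).X (p + 1))
    (hc : (CK (V n R) (P n R d)).d (p + 1) (p + 2) c = 0) :
    ∃ b : (CK (V n R) (P n R d)).X p, (CK (V n R) (P n R d)).d p (p + 1) b = c := by
  classical
  let jj : (Fin (n + 1) → ℤ) → ULift.{u} (Fin (n + 1)) :=
    fun e => if h : ∃ i, 0 ≤ e i then ⟨h.choose⟩ else ⟨0⟩
  have hjj : ∀ e : Fin (n + 1) → ℤ, (∃ i, 0 ≤ e i) → 0 ≤ e (jj e).down := by
    intro e h
    simp only [jj, dif_pos h]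
    exact h.choose_spec
  let r : (Fin (p + 1) → ULift.{u} (Fin (n + 1))) → (Fin (n + 1) → ℤ) → R :=
    fun x e => hat d c (Fin.cons (jj e) x) e
  let S : (Fin (p + 1) → ULift.{u} (Fin (n + 1))) → Finset (Fin (n + 1) → ℤ) :=
    fun x => ((Finset.univ : Finset (ULift.{u} (Fin (n + 1)))).biUnion
      (fun j => (finite_support_hat d c (Fin.cons j x)).toFinset)).filter
        (fun e => (∃ i, 0 ≤ e i) ∧ r x e ≠ 0)
  have hS : ∀ x, ∀ e ∈ S x, ∑ i, e i = d ∧ ∀ i, (∀ a, (x a).down ≠ i) → 0 ≤ e i := by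
    intro x e he
    obtain ⟨-, hex, hre⟩ := Finset.mem_filter.mp he
    obtain ⟨h1, h2⟩ := hat_ne_zero d c (Fin.cons (jj e) x) e hre
    refine ⟨h1, fun i hi => ?_⟩
    by_cases hij : (jj e).down = i
    · rw [← hij]
      exact hjj e hex
    · apply h2 i
      intro a
      refine Fin.cases ?_ (fun a' => ?_) a
      · rw [Fin.cons_zero]
        exact hij
      · rw [Fin.cons_succ]
        exact hi a'
  obtain ⟨b, hb⟩ := exists_cochain d p S r hS
  have hb' : ∀ x e, hat d b x e = if (∃ i, 0 ≤ e i) then r x e else 0 := by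
    intro x e
    rw [hb x e]
    by_cases hex : ∃ i, 0 ≤ e i
    · rw [if_pos hex]
      by_cases hre : r x e = 0
      · rw [hre]
        split_ifs <;> rfl
      · rw [if_pos]
        refine Finset.mem_filter.mpr ⟨?_, hex, hre⟩
        rw [Finset.mem_biUnion]
        exact ⟨jj e, Finset.mem_univ _, (Set.Finite.mem_toFinset _).mpr hre⟩
    · rw [if_neg hex, if_neg]
      intro he
      exact hex (Finset.mem_filter.mp he).2.1
  refine ⟨b, ext_of_hat d _ _ (fun y e => ?_)⟩
  rw [hat_d]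
  by_cases hex : ∃ i, 0 ≤ e i
  · have h0 : hat d ((CK (V n R) (P n R d)).d (p + 1) (p + 2) c) (Fin.cons (jj e) y) e = 0 := by
      rw [hc, hat_zero]
    rw [hat_d, Fin.sum_univ_succ] at h0
    simp only [Fin.val_zero, pow_zero, one_smul, cons_comp_succAbove_zero,
      cons_comp_succAbove_succ, Fin.val_succ, pow_succ, mul_neg, mul_one, neg_smul,
      Finset.sum_neg_distrib] at h0
    have h1 : hat d c y e =
        ∑ i : Fin (p + 2), (-1 : ℤ) ^ (i : ℕ) • hat d c (Fin.cons (jj e) (y ∘ Fin.succAbove i)) e := by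
      rw [← sub_eq_zero, sub_eq_add_neg]
      exact h0
    rw [h1]
    refine Finset.sum_congr rfl (fun i _ => ?_)
    rw [hb', if_pos hex]
  · have hL : ∑ i : Fin (p + 2), (-1 : ℤ) ^ (i : ℕ) • hat d b (y ∘ Fin.succAbove i) e = 0 := by
      apply Finset.sum_eq_zero
      intro i _
      rw [hb', if_neg hex, smul_zero]
    rw [hL]
    by_contra hne
    obtain ⟨h1, h2⟩ := hat_ne_zero d c y e (Ne.symm hne)
    push Not at hex
    have hsurj : Function.Surjective (fun a => (y a).down) := by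
      intro i
      by_contra hi
      push Not at hi
      exact absurd (h2 i hi) (not_le.mpr (hex i))
    have hcard := Fintype.card_le_of_surjective _ hsurj
    rw [Fintype.card_fin, Fintype.card_fin] at hcard
    have hsum : ∑ i, e i ≤ ∑ _i : Fin (n + 1), (-1 : ℤ) :=
      Finset.sum_le_sum (fun i _ => by have := hex i; omega)
    rw [Finset.sum_const, Finset.card_univ, Fintype.card_fin, h1] at hsum
    simp only [nsmul_eq_mul, mul_neg, mul_one] at hsum
    rcases hpd with hp | hd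
    · omega
    · push_cast at hsum
      omega

/-- there are no nonzero `0`-cocycles of `O(d)`, `d < 0`, when `n ≥ 1`. -/
theorem eq_zero_of_cocycle_zero (hn : 1 ≤ n) (hd : d < 0)
    (c : (CK (V n R) (P n R d)).X 0)
    (hc : (CK (V n R) (P n R d)).d 0 1 c = 0) : c = 0 := by
  classical
  apply ext_of_hat d
  intro x e
  rw [hat_zero]
  by_contra hne
  obtain ⟨h1, h2⟩ := hat_ne_zero d c x e hne
  -- the coordinate at `x 0` is negative
  have hneg : e (x 0).down < 0 := by
    by_contra hnn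
    push Not at hnn
    have : 0 ≤ ∑ i, e i := Finset.sum_nonneg (fun i _ => by
      by_cases hi : i = (x 0).down
      · rw [hi]; exact hnn
      · apply h2 i
        intro a
        have ha : a = 0 := Fin.ext (by have := a.isLt; omega)
        rw [ha]
        exact fun h => hi h.symm)
    omega
  obtain ⟨j, hj⟩ : ∃ j : Fin (n + 1), j ≠ (x 0).down := by
    by_cases h0 : (x 0).down = 0
    · refine ⟨1, ?_⟩
      rw [h0]
      intro h
      have := congrArg Fin.val h
      rw [Fin.val_one', Fin.val_zero] at this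
      have h2 : 1 % (n + 1) = 1 := Nat.mod_eq_of_lt (by omega)
      omega
    · exact ⟨0, fun h => h0 h.symm⟩
  have h0 : hat d ((CK (V n R) (P n R d)).d 0 1 c) (Fin.cons (⟨j⟩ : ULift.{u} (Fin (n + 1))) x) e = 0 := by
    rw [hc, hat_zero]
  rw [hat_d, Fin.sum_univ_two] at h0
  have hx0 : (Fin.cons (⟨j⟩ : ULift.{u} (Fin (n + 1))) x : Fin 2 → _) ∘ Fin.succAbove 0 = x :=
    cons_comp_succAbove_zero _ _
  have hx1 : (Fin.cons (⟨j⟩ : ULift.{u} (Fin (n + 1))) x : Fin 2 → _) ∘ Fin.succAbove 1 =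
      fun _ => ⟨j⟩ := by
    funext a
    have ha : a = 0 := Fin.ext (by have := a.isLt; omega)
    rw [ha]
    rfl
  rw [hx0, hx1] at h0
  simp only [Fin.val_zero, pow_zero, one_smul, Fin.val_one, pow_one, neg_smul] at h0
  have h3 : hat d c (fun _ => (⟨j⟩ : ULift.{u} (Fin (n + 1)))) e ≠ 0 := by
    intro h
    rw [h, neg_zero, add_zero] at h0
    exact hne h0
  obtain ⟨-, h4⟩ := hat_ne_zero d c _ e h3
  have := h4 (x 0).down (fun _ => hj)
  omega

theorem isZero_homology_succ (p : ℕ) (hpd : p + 1 < n ∨ -((n : ℤ) + 1) < d) :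
    IsZero ((CK (V n R) (P n R d)).homology (p + 1)) := by
  rw [← HomologicalComplex.exactAt_iff_isZero_homology,
    HomologicalComplex.exactAt_iff' _ p (p + 1) (p + 2) (by simp) (by simp),
    ShortComplex.ab_exact_iff]
  intro c hc
  exact exists_primitive d p hpd c hc

theorem isZero_homology_zero (hn : 1 ≤ n) (hd : d < 0) :
    IsZero ((CK (V n R) (P n R d)).homology 0) := by
  rw [← HomologicalComplex.exactAt_iff_isZero_homology,
    HomologicalComplex.exactAt_iff' _ 0 0 1 (by simp) (by simp),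
    ShortComplex.ab_exact_iff]
  intro c hc
  refine ⟨0, ?_⟩
  rw [eq_zero_of_cocycle_zero d hn hd c hc]
  exact map_zero _

variable (n R)

/-- Čech cohomology of `O(d)` for the standard cover vanishes outside `H^0` (`d ≥ 0`) and
`H^n` (`d ≤ -n-1`), in degrees `≤ n`. -/
theorem subsingleton_cechH (q : ℕ) (hq : q ≤ n) (h₀ : ¬ (q = 0 ∧ 0 ≤ d))
    (hn : ¬ (q = n ∧ d ≤ -((n : ℤ) + 1))) :
    Subsingleton (CohB1.cechH (V n R) (GrTilde.tilde 𝒢 𝒢 d) q) := by
  have h : IsZero ((CK (V n R) (P n R d)).homology q) := by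
    rcases Nat.eq_zero_or_pos q with rfl | hpos
    · have hd : d < 0 := by
        by_contra hd
        push Not at hd
        exact h₀ ⟨rfl, hd⟩
      have hn1 : 1 ≤ n := by
        by_contra h1
        have hn0 : n = 0 := by omega
        subst hn0
        apply hn
        refine ⟨rfl, ?_⟩
        push_cast
        omega
      exact isZero_homology_zero d hn1 hd
    · obtain ⟨p, rfl⟩ : ∃ p, q = p + 1 := ⟨q - 1, by omega⟩
      apply isZero_homology_succ d p
      by_cases hlt : p + 1 < n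
      · exact Or.inl hlt
      · right
        have heq : p + 1 = n := by omega
        by_contra hd
        push Not at hd
        exact hn ⟨heq, hd⟩
  exact (AddCommGrpCat.isZero_iff_subsingleton.mp h)

end Groth.Agent.Lib.Helper27PnCech
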