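import Mathlib
import Groth.Prelude.Def_LocCohZ
import Groth.Agent.Lib.Helper23AffOpen2
import Groth.Agent.Lib.Helper23AffVanish7

/-!
# Vanishing above the number of affines in a cover (helper23)

`subsingleton_HE_of_list`: if `W` is the union of a list `l` of affine opens of a scheme in which affine opens have
affine intersections, then `H^n(W, F) = 0` for quasi-coherent `F` and `n ≥ l.length`.
-/

set_option autoImplicit false
universe u
open CategoryTheory CategoryTheory.Limits Opposite TopologicalSpace AlgebraicGeometry Abelian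

namespace Groth.Agent.Lib.Helper23.AffVanish

variable {X : Scheme.{u}}

/-- union of a list of opens -/
def supList (l : List X.Opens) : X.Opens := l.foldr (· ⊔ ·) ⊥

@[simp] lemma supList_nil : supList ([] : List X.Opens) = ⊥ := rfl
@[simp] lemma supList_cons (V : X.Opens) (l : List X.Opens) : supList (V :: l) = V ⊔ supList l := rfl

lemma le_supList_of_mem {l : List X.Opens} {V : X.Opens} (h : V ∈ l) : V ≤ supList l := by
  induction l with
  | nil => simp at h
  | cons W l ih =>
    rcases List.mem_cons.1 h with rfl | h'
    · exact le_sup_left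
    · exact (ih h').trans le_sup_right

lemma inf_supList (V : X.Opens) (l : List X.Opens) : V ⊓ supList l = supList (l.map (V ⊓ ·)) := by
  induction l with
  | nil => simp
  | cons W l ih => simp [inf_sup_left, ih]

/-- Cohomological dimension is bounded by the number of affines in a cover with affine intersections. -/
theorem subsingleton_HE_of_list
    (hd : ∀ V W : X.Opens, IsAffineOpen V → IsAffineOpen W → IsAffineOpen (V ⊓ W))
    (F : X.Modules) [F.IsQuasicoherent] :
    ∀ (l : List X.Opens), (∀ V ∈ l, IsAffineOpen V) → ∀ n : ℕ, l.length ≤ n →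
      Subsingleton (HE (ab' F) n (supList l)) := by
  suffices H : ∀ (k : ℕ) (l : List X.Opens), l.length = k → (∀ V ∈ l, IsAffineOpen V) → ∀ n : ℕ, k ≤ n →
      Subsingleton (HE (ab' F) n (supList l)) from fun l hl n hn => H l.length l rfl hl n hn
  intro k
  induction k with
  | zero =>
    intro l hk _ n _
    have : l = [] := List.length_eq_zero_iff.1 hk
    subst this
    exact ⟨fun a b => (HE_eq_zero_of_eq_bot _ n rfl a).trans (HE_eq_zero_of_eq_bot _ n rfl b).symm⟩
  | succ k ih =>
    intro l hk hl n hn
    obtain ⟨V, l, rfl⟩ : ∃ V l', l = V :: l' := by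
      cases l with
      | nil => simp at hk
      | cons V l' => exact ⟨V, l', rfl⟩
    have hk' : l.length = k := by simpa using hk
    have hV : IsAffineOpen V := hl V List.mem_cons_self
    have hl' : ∀ W ∈ l, IsAffineOpen W := fun W hW => hl W (List.mem_cons_of_mem _ hW)
    obtain ⟨m, rfl⟩ : ∃ m, n = m + 1 := ⟨n - 1, by omega⟩
    have hm : k ≤ m := by omega
    haveI h1 : Subsingleton (HE (ab' F) (m + 1) V) := subsingleton_HE_of_isAffineOpen hV F m
    haveI h2 : Subsingleton (HE (ab' F) (m + 1) (supList l)) := ih l hk' hl' (m + 1) (by omega)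
    have h3 : Subsingleton (HE (ab' F) m (V ⊓ supList l)) := by
      rw [inf_supList]
      apply ih (l.map (V ⊓ ·)) (by simpa using hk')
      · intro W hW
        obtain ⟨W', hW', rfl⟩ := List.mem_map.1 hW
        exact hd V W' hV (hl' W' hW')
      · exact hm
    refine ⟨fun a b => ?_⟩
    have key : ∀ α : HE (ab' F) (m + 1) (supList (V :: l)), α = 0 := by
      intro α
      exact eq_zero_of_mv (ab' F) m V (supList l) (supList (V :: l)) le_sup_left le_sup_right le_rfl α
        (Subsingleton.elim _ _) (Subsingleton.elim _ _)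
        (fun γ => ⟨0, 0, @Subsingleton.elim _ h3 _ _⟩)
    exact (key a).trans (key b).symm


/-- `S0010`-form: a scheme covered by `t` affine opens, with affine intersections of affine opens. -/
theorem subsingleton_HH_of_cover (t : ℕ) (U : Fin t → X.Opens)
    (hU : ∀ i, IsAffineOpen (U i)) (hcov : ⨆ i, U i = ⊤)
    (hd : ∀ V W : X.Opens, IsAffineOpen V → IsAffineOpen W → IsAffineOpen (V ⊓ W))
    (M : X.Modules) [M.IsQuasicoherent] (n : ℕ) (hn : t ≤ n) :
    Subsingleton (Coh.HH X M n) := by
  have h1 := subsingleton_HE_of_list hd M (List.ofFn U)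
    (fun V hV => by obtain ⟨i, rfl⟩ := (List.mem_ofFn' U V).1 hV; exact hU i) n (by simpa using hn)
  have e : supList (List.ofFn U) = ⊤ := by
    rw [eq_top_iff, ← hcov]
    exact iSup_le fun i => le_supList_of_mem ((List.mem_ofFn' U _).2 ⟨i, rfl⟩)
  rw [e] at h1
  exact (HETopEquivH X.carrier (ab' M) n).symm.subsingleton

end Groth.Agent.Lib.Helper23.AffVanish
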