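import Groth.Agent.S0013
import Groth.Agent.S0022
import Groth.Agent.Lib.Helper27PnCech
import Groth.Agent.Lib.Helper27GrTildeQCoh

/-!
# Vanishing of `H^q(P^n_R, O(d))` outside `(q = 0, d ≥ 0)` and `(q = n, d ≤ -n-1)` (helper27)
-/

set_option autoImplicit false
universe u

open CategoryTheory CategoryTheory.Limits AlgebraicGeometry TopologicalSpace Opposite
  HomogeneousLocalization MvPolynomial

namespace Groth.Agent.Lib.Helper27PnCohVanish

open Groth.Agent.Lib.Helper27GrTildeSect Groth.Agent.Lib.Helper27PnSections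
  Groth.Agent.Lib.Helper27PnLau Groth.Agent.Lib.Helper27PnCech

/-- vanishing of cohomology is invariant under isomorphism of modules. -/
theorem subsingleton_HH_of_iso {X : Scheme.{u}} {M M' : X.Modules} (e : M ≅ M') (q : ℕ)
    (h : Subsingleton (Coh.HH X M q)) : Subsingleton (Coh.HH X M' q) := by
  let φ := (Sheaf.functorH (Opens.grothendieckTopology X) q).mapIso
    ((SheafOfModules.toSheaf X.ringCatSheaf).mapIso e)
  have hinj : Function.Injective (φ.symm.addCommGroupIsoToAddEquiv) :=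
    (φ.symm.addCommGroupIsoToAddEquiv).injective
  have h' : Subsingleton ((Sheaf.functorH (Opens.grothendieckTopology X) q).obj
      ((SheafOfModules.toSheaf X.ringCatSheaf).obj M)) := h
  exact hinj.subsingleton

variable (n : ℕ) (R : Type u) [CommRing R]

local notation "𝒢" => CohB1.polyGrading n R

theorem iSup_V : ⨆ i, V n R i = ⊤ := by
  rw [eq_top_iff]
  intro y _
  obtain ⟨i, hi⟩ := exists_X_not_mem n R y
  exact Opens.mem_iSup.mpr ⟨⟨i⟩, (mem_basicOpen_iff n R _ y).mpr hi⟩

theorem isAffineOpen_iInf_V (s : Finset (ULift.{u} (Fin (n + 1)))) (hs : s.Nonempty) :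
    IsAffineOpen (⨅ i ∈ s, V n R i) := by
  have hsep : IsAffineHom (Limits.pullback.diagonal (Limits.terminal.from (Proj 𝒢))) :=
    inferInstance
  exact IsAffineOpen.biInf (s : Set (ULift.{u} (Fin (n + 1)))) s.finite_toSet hs
    (fun i _ => Proj.isAffineOpen_basicOpen 𝒢 _ (MvPolynomial.isHomogeneous_X R i.down) Nat.one_pos)

/-- `H^q(P^n_R, O(d)) = 0` unless `q = 0, d ≥ 0` or `q = n, d ≤ -n-1`. -/
theorem subsingleton_HH (d : ℤ) (q : ℕ) (h₀ : ¬ (q = 0 ∧ 0 ≤ d))
    (hn : ¬ (q = n ∧ d ≤ -((n : ℤ) + 1))) :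
    Subsingleton (Coh.HH (CohB1.ProjSpace n R) (Twist.twistProjSpace n R d) q) := by
  have hq : Coh.IsQCoh (Twist.twistProjSpace n R d) := isQuasicoherent_tilde 𝒢 𝒢 d
  by_cases hnq : n < q
  · exact Groth.Agent.S0022.result n R _ q hnq
  · push Not at hnq
    obtain ⟨e⟩ := Groth.Agent.S0013.result (CohB1.ProjSpace n R) (V n R) (iSup_V n R)
      (isAffineOpen_iInf_V n R) (Twist.twistProjSpace n R d) q
    have h1 : Subsingleton (CohB1.cechH (V n R) (Twist.twistProjSpace n R d) q) :=
      subsingleton_cechH n R d q hnq h₀ hn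
    exact @Function.Injective.subsingleton _ _ _ e.symm.injective h1

end Groth.Agent.Lib.Helper27PnCohVanish
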