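import Groth.Agent.Lib.Helper27PullGen
import Groth.Agent.Lib.Helper23SecTw6
import Groth.Prelude.Def_ProjUP

/-!
# The locus where a pulled-back section generates (helper27)

* `res_pullSec` : `f^* σ` over `f⁻¹ W` is the unit of `σ|_W`
* `genLocus_pullSec_inf` : over `f⁻¹ W`, `W` an open where `L` has a generator, the locus where
  `f^* σ` generates `f^* L` is the preimage of the locus where `σ` generates `L`.
-/

set_option autoImplicit false
universe u

open CategoryTheory CategoryTheory.Limits AlgebraicGeometry TopologicalSpace Opposite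
open Groth.Agent.Lib.Helper23.SecTw Groth.Agent.Lib.Helper6 Groth.Agent.Helper13PullbackUnit
  Groth.Agent.Lib.Helper27PullGen

namespace Groth.Agent.Lib.Helper27GenLocusPull

variable {X Y : Scheme.{u}} (f : Y ⟶ X) (L : X.Modules) [L.IsQuasicoherent]

theorem res_pullSec (σ : Γ(L, ⊤)) (W : X.Opens) :
    res ((Scheme.Modules.pullback f).obj L) (le_top : f ⁻¹ᵁ W ≤ ⊤) (ProjUP.pullSec f L σ) =
      unitSec f L (le_refl (f ⁻¹ᵁ W)) (res L (le_top : W ≤ ⊤) σ) := by
  have h1 := unitSec_res f L (le_top : W ≤ ⊤) (le_refl (f ⁻¹ᵁ W)) σ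
  have h2 : unitSec f L (le_refl (f ⁻¹ᵁ ⊤)) σ = ProjUP.pullSec f L σ := by
    rw [unitSec_apply]
    exact res_self ((Scheme.Modules.pullback f).obj L) _
  rw [h1, h2]
  rfl

theorem genLocus_pullSec_inf (σ : Γ(L, ⊤)) (W : X.Opens) (e : Γ(L, W)) (he : IsGen L W e) :
    CohB1.genLocus ((Scheme.Modules.pullback f).obj L)
        (secHom ((Scheme.Modules.pullback f).obj L) (ProjUP.pullSec f L σ)) ⊓ f ⁻¹ᵁ W =
      f ⁻¹ᵁ (CohB1.genLocus L (secHom L σ) ⊓ W) := by
  obtain ⟨c, hc⟩ := (he W le_rfl).2 (res L (le_top : W ≤ ⊤) σ)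
  replace hc : c • res L le_rfl e = res L (le_top : W ≤ ⊤) σ := hc
  rw [res_self] at hc
  have h1 : sv (secHom L σ) W = c • e := by rw [sv_secHom, hc]
  rw [genLocus_inf_eq_of_isGen L _ W e c he h1]
  have h2 : sv (secHom ((Scheme.Modules.pullback f).obj L) (ProjUP.pullSec f L σ)) (f ⁻¹ᵁ W) =
      f.appLE W (f ⁻¹ᵁ W) le_rfl c • unitSec f L (le_refl (f ⁻¹ᵁ W)) e := by
    rw [sv_secHom, res_pullSec, ← hc, unitSec_smul]
  rw [genLocus_inf_eq_of_isGen _ _ (f ⁻¹ᵁ W) _ _ (isGen_pullback f L W e he) h2,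
    Scheme.Hom.appLE_eq_app, ← Scheme.preimage_basicOpen]

end Groth.Agent.Lib.Helper27GenLocusPull
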