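import Mathlib

/-! Helper lemmas on `Proj` of a graded ring (helper4). -/
set_option autoImplicit false
universe u
open AlgebraicGeometry CategoryTheory

namespace Groth.Agent.Lib.Helper4

theorem exists_basicOpen {R A : Type u} [CommRing R] [CommRing A] [Algebra R A] (𝒜 : ℕ → Submodule R A) [GradedAlgebra 𝒜]
    (x : Proj 𝒜) : ∃ (n : ℕ) (s : A), 0 < n ∧ s ∈ 𝒜 n ∧ x ∈ Proj.basicOpen 𝒜 s := by
  have hx0 := (Proj.affineOpenCover 𝒜).covers x
  generalize (Proj.affineOpenCover 𝒜).idx x = i at hx0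
  obtain ⟨⟨n, hn⟩, ⟨s, hs⟩⟩ := i
  have hs' : s ∈ 𝒜 n := hs
  refine ⟨n, s, hn, hs', ?_⟩
  have h1 : x ∈ (Proj.awayι 𝒜 s hs' hn).opensRange := hx0
  rwa [Proj.opensRange_awayι] at h1


section
variable {R A : Type u} [CommRing R] [CommRing A] [Algebra R A] (𝒜 : ℕ → Submodule R A) [GradedAlgebra 𝒜]

/-- If `D₊(t)` is empty then `t * b` is nilpotent for every `b` in the irrelevant ideal. -/
theorem isNilpotent_mul_of_basicOpen_eq_bot (t : A) (h : Proj.basicOpen 𝒜 t = ⊥)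
    (b : A) (hb : b ∈ (HomogeneousIdeal.irrelevant 𝒜).toIdeal) : IsNilpotent (t * b) := by
  have hI : (⊥ : Ideal A).IsHomogeneous 𝒜 := Ideal.IsHomogeneous.bot 𝒜
  show t * b ∈ (⊥ : Ideal A).radical
  rw [hI.radical_eq]
  refine Submodule.mem_sInf.mpr ?_
  rintro P ⟨hPh, -, hPp⟩
  by_cases hle : HomogeneousIdeal.irrelevant 𝒜 ≤ (⟨P, hPh⟩ : HomogeneousIdeal 𝒜)
  · exact Ideal.mul_mem_left P _ (hle hb)
  · let x : Proj 𝒜 := ⟨⟨P, hPh⟩, hPp, hle⟩
    have hx : x ∉ Proj.basicOpen 𝒜 t := by rw [h]; exact fun h => h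
    rw [Proj.mem_basicOpen, not_not] at hx
    exact Ideal.mul_mem_right _ P hx

/-- If `t * b` is nilpotent for every `b` in the irrelevant ideal then `D₊(t)` is empty. -/
theorem basicOpen_eq_bot_of_isNilpotent_mul (t : A)
    (h : ∀ b ∈ (HomogeneousIdeal.irrelevant 𝒜).toIdeal, IsNilpotent (t * b)) :
    Proj.basicOpen 𝒜 t = ⊥ := by
  rw [eq_bot_iff]
  intro x hx
  rw [Proj.mem_basicOpen] at hx
  exfalso
  refine x.not_irrelevant_le fun b hb => ?_
  obtain ⟨n, hn⟩ := h b hb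
  have : t * b ∈ x.asHomogeneousIdeal.toIdeal :=
    x.isPrime.mem_of_pow_mem n (by rw [hn]; exact Ideal.zero_mem _)
  exact (x.isPrime.mem_or_mem this).resolve_left hx


end

open HomogeneousLocalization in
set_option backward.isDefEq.respectTransparency.types false in
theorem atPrime_isReduced {R A : Type u} [CommRing R] [CommRing A] [Algebra R A] (𝒜 : ℕ → Submodule R A) [GradedAlgebra 𝒜]
    (hred : ∀ f ∈ (HomogeneousIdeal.irrelevant 𝒜).toIdeal, IsNilpotent f → f = 0)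
    (x : ProjectiveSpectrum 𝒜) : _root_.IsReduced (AtPrime 𝒜 x.asHomogeneousIdeal.toIdeal) := by
  constructor
  intro y hy
  obtain ⟨k, hk⟩ := hy
  -- an element of the irrelevant ideal outside x
  obtain ⟨t, ht, htx⟩ : ∃ t ∈ (HomogeneousIdeal.irrelevant 𝒜).toIdeal, t ∉ x.asHomogeneousIdeal.toIdeal := by
    by_contra hcon
    push Not at hcon
    exact x.not_irrelevant_le fun t ht => hcon t ht
  obtain ⟨c, rfl⟩ := mk_surjective y
  rw [← mk_pow, ext_iff_val, val_mk, val_zero, Localization.mk_eq_mk', IsLocalization.mk'_eq_zero_iff] at hk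
  obtain ⟨⟨s, hs⟩, hsk⟩ := hk
  simp only [NumDenSameDeg.num_pow] at hsk
  -- s * t * c.num is nilpotent and lies in the irrelevant ideal
  have hnil : IsNilpotent (s * t * c.num) := by
    refine ⟨k + 1, ?_⟩
    have : (s * t * c.num) ^ (k + 1) = s ^ k * t ^ (k + 1) * (c.num : A) * (s * (c.num : A) ^ k) := by ring
    rw [this, hsk, mul_zero]
  have hmem : s * t * c.num ∈ (HomogeneousIdeal.irrelevant 𝒜).toIdeal :=
    Ideal.mul_mem_right _ _ (Ideal.mul_mem_left _ _ ht)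
  have hz := hred _ hmem hnil
  rw [ext_iff_val, val_mk, val_zero, Localization.mk_eq_mk', IsLocalization.mk'_eq_zero_iff]
  refine ⟨⟨s * t, ?_⟩, hz⟩
  exact Submonoid.mul_mem _ hs htx


end Groth.Agent.Lib.Helper4
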