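import Groth.Agent.Lib.Helper27TwistAmple2
import Groth.Agent.Lib.Helper27GenLocusPull
import Groth.Agent.Lib.Helper4Proj

/-!
# `O(d)` is ample on a quasi-compact open subscheme of `Proj` (helper27)
-/

set_option autoImplicit false
universe u

open CategoryTheory CategoryTheory.Limits AlgebraicGeometry TopologicalSpace Opposite
  HomogeneousLocalization
open Groth.Agent.Lib.Helper23.SecTw Groth.Agent.Lib.Helper6 Groth.Agent.Helper13PullbackUnit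
  Groth.Agent.Lib.Helper27PullGen Groth.Agent.Lib.Helper27GenLocusPull

namespace Groth.Agent.Lib.Helper27GrTildeSect

variable {R A : Type u} [CommRing R] [CommRing A] [Algebra R A] (𝒜 : ℕ → Submodule R A)
  [GradedAlgebra 𝒜]

/-- over `D₊(h)`, the locus where `g / 1` generates `O(n)` is `D₊(g)` (`g h` of degree `n`). -/
theorem genLocus_secHom_gsec_inf (n : ℕ) {g h : A} (hg : g ∈ 𝒜 n) (hh : h ∈ 𝒜 n) :
    CohB1.genLocus (GrTilde.tilde 𝒜 𝒜 (n : ℤ))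
      (secHom (GrTilde.tilde 𝒜 𝒜 (n : ℤ)) (gsec 𝒜 n ⊤ hg)) ⊓ Proj.basicOpen 𝒜 h =
      Proj.basicOpen 𝒜 g ⊓ Proj.basicOpen 𝒜 h := by
  obtain ⟨f, hf⟩ := (isGen_gsec 𝒜 n hh (Proj.basicOpen 𝒜 h) le_rfl).2
    (gsec 𝒜 n (Proj.basicOpen 𝒜 h) hg)
  have hf' : gsec 𝒜 n (Proj.basicOpen 𝒜 h) hg =
      f • gsec 𝒜 n (Proj.basicOpen 𝒜 h) hh := hf.symm
  have hsv : sv (secHom (GrTilde.tilde 𝒜 𝒜 (n : ℤ)) (gsec 𝒜 n ⊤ hg)) (Proj.basicOpen 𝒜 h) =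
      f • gsec 𝒜 n (Proj.basicOpen 𝒜 h) hh := by
    rw [sv_secHom]
    exact hf'
  rw [genLocus_inf_eq_of_isGen _ _ (Proj.basicOpen 𝒜 h) _ f (isGen_gsec 𝒜 n hh) hsv]
  have hval := (fracSec_eq_smul_iff (n : ℤ) (Proj.basicOpen 𝒜 h) hg
    (SetLike.GradedOne.one_mem : (1 : A) ∈ 𝒜 0) (by simp) (fun y => one_not_mem 𝒜 y.1) hh
    (SetLike.GradedOne.one_mem : (1 : A) ∈ 𝒜 0) (by simp) (fun y => one_not_mem 𝒜 y.1) f).mp hf'
  have hunit : ∀ (y : ProjectiveSpectrum 𝒜) (hy : y ∈ Proj.basicOpen 𝒜 h),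
      IsUnit (funVal 𝒜 _ f y hy) ↔ g ∉ y.asHomogeneousIdeal := by
    intro y hy
    have hGj : h ∉ y.asHomogeneousIdeal := (ProjectiveSpectrum.mem_basicOpen 𝒜 h y).mp hy
    apply isUnit_of_val_eq_mk _ hGj
    apply (isUnit_mk hGj (one_not_mem 𝒜 y)).mul_left_injective
    change _ * _ = _ * _
    rw [← hval y hy, Localization.mk_mul, Localization.mk_eq_mk_iff, Localization.r_iff_exists]
    refine ⟨1, ?_⟩
    simp only [OneMemClass.coe_one, one_mul, Submonoid.coe_mul, mul_one]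
    ring
  ext y
  constructor
  · intro hy
    have hyW : y ∈ Proj.basicOpen 𝒜 h := (Proj 𝒜).basicOpen_le f hy
    refine ⟨?_, hyW⟩
    exact (ProjectiveSpectrum.mem_basicOpen 𝒜 g y).mpr
      ((hunit y hyW).mp ((mem_basicOpen_iff_isUnit_funVal 𝒜 _ f y hyW).mp hy))
  · rintro ⟨hyi, hyW⟩
    exact (mem_basicOpen_iff_isUnit_funVal 𝒜 _ f y hyW).mpr
      ((hunit y hyW).mpr ((ProjectiveSpectrum.mem_basicOpen 𝒜 g y).mp hyi))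

section Cover

variable {ι : Type*} (d : ℕ) (H : ι → A) (hH : ∀ k, H k ∈ 𝒜 d)
variable {X : Scheme.{u}} (j : X ⟶ Proj 𝒜)
  (hcovX : ∀ x : X, ∃ k, j x ∈ Proj.basicOpen 𝒜 (H k))

include hcovX in
theorem genLocus_pullSec_gsec (k : ι) :
    CohB1.genLocus ((Scheme.Modules.pullback j).obj (GrTilde.tilde 𝒜 𝒜 (d : ℤ)))
        (secHom _ (ProjUP.pullSec j (GrTilde.tilde 𝒜 𝒜 (d : ℤ)) (gsec 𝒜 d ⊤ (hH k)))) =
      j ⁻¹ᵁ Proj.basicOpen 𝒜 (H k) := by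
  haveI : (GrTilde.tilde 𝒜 𝒜 (d : ℤ)).IsQuasicoherent := isQuasicoherent_tilde 𝒜 𝒜 _
  refine opens_eq_of_cover _ _ (fun x => ?_)
  obtain ⟨l, hl⟩ := hcovX x
  refine ⟨j ⁻¹ᵁ Proj.basicOpen 𝒜 (H l), hl, ?_⟩
  rw [genLocus_pullSec_inf j _ _ (Proj.basicOpen 𝒜 (H l)) _ (isGen_gsec 𝒜 d (hH l)),
    genLocus_secHom_gsec_inf 𝒜 d (hH k) (hH l)]
  rfl

include hH hcovX in
theorem isInvertible_pullback_of_cover :
    PicF.IsInvertible ((Scheme.Modules.pullback j).obj (GrTilde.tilde 𝒜 𝒜 (d : ℤ))) := by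
  haveI : (GrTilde.tilde 𝒜 𝒜 (d : ℤ)).IsQuasicoherent := isQuasicoherent_tilde 𝒜 𝒜 _
  apply isInvertible_of_isGen
  intro x
  obtain ⟨l, hl⟩ := hcovX x
  exact ⟨j ⁻¹ᵁ Proj.basicOpen 𝒜 (H l), _, hl,
    isGen_pullback j _ _ _ (isGen_gsec 𝒜 d (hH l))⟩

include hH hcovX in
theorem isAmple_pullback_of_cover [CompactSpace X] [IsOpenImmersion j] (hd : 0 < d)
    (hrange : ∀ k, Proj.basicOpen 𝒜 (H k) ≤ j.opensRange) :
    CohB1.IsAmple ((Scheme.Modules.pullback j).obj (GrTilde.tilde 𝒜 𝒜 (d : ℤ))) := by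
  have hL := isInvertible_pullback_of_cover 𝒜 d H hH j hcovX
  refine ⟨hL, inferInstance, fun x => ?_⟩
  obtain ⟨k, hk⟩ := hcovX x
  refine ⟨0, SecTwist.powHom (secHom _
    (ProjUP.pullSec j (GrTilde.tilde 𝒜 𝒜 (d : ℤ)) (gsec 𝒜 d ⊤ (hH k)))) 1, ?_, ?_⟩
  · rw [genLocus_powHom hL _ 1 one_pos, genLocus_pullSec_gsec 𝒜 d H hH j hcovX]
    exact hk
  · rw [genLocus_powHom hL _ 1 one_pos, genLocus_pullSec_gsec 𝒜 d H hH j hcovX]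
    exact (Proj.isAffineOpen_basicOpen 𝒜 (H k) (hH k) hd).preimage_of_isOpenImmersion j (hrange k)

end Cover

section Exists

variable {X : Scheme.{u}} (j : X ⟶ Proj 𝒜)

theorem exists_homogeneous_basicOpen_le (U : (Proj 𝒜).Opens) (y : Proj 𝒜) (hy : y ∈ U) :
    ∃ (n : ℕ) (f : A), 0 < n ∧ f ∈ 𝒜 n ∧ y ∈ Proj.basicOpen 𝒜 f ∧ Proj.basicOpen 𝒜 f ≤ U := by
  obtain ⟨_, ⟨r, rfl⟩, hyr, hrU⟩ := Opens.isBasis_iff_nbhd.mp (Proj.isBasis_basicOpen 𝒜) hy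
  rw [Proj.basicOpen_eq_iSup_proj] at hyr
  obtain ⟨i, hi⟩ := Opens.mem_iSup.mp hyr
  have hle : Proj.basicOpen 𝒜 (GradedRing.proj 𝒜 i r) ≤ Proj.basicOpen 𝒜 r := by
    rw [Proj.basicOpen_eq_iSup_proj 𝒜 r]
    exact le_iSup (fun i => Proj.basicOpen 𝒜 (GradedRing.proj 𝒜 i r)) i
  obtain ⟨n, s, hn, hs, hys⟩ := Groth.Agent.Lib.Helper4.exists_basicOpen 𝒜 y
  refine ⟨i + n, GradedRing.proj 𝒜 i r * s, by omega, ?_, ?_, ?_⟩
  · exact SetLike.mul_mem_graded (SetLike.coe_mem (DirectSum.decompose 𝒜 r i)) hs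
  · rw [Proj.basicOpen_mul]
    exact ⟨hi, hys⟩
  · rw [Proj.basicOpen_mul]
    exact inf_le_left.trans (hle.trans hrU)

theorem exists_cover_of_compact [CompactSpace X] [IsOpenImmersion j] :
    ∃ (d : ℕ) (ι : Type u) (H : ι → A), 0 < d ∧ (∀ k, H k ∈ 𝒜 d) ∧
      (∀ x : X, ∃ k, j x ∈ Proj.basicOpen 𝒜 (H k)) ∧
      ∀ k, Proj.basicOpen 𝒜 (H k) ≤ j.opensRange := by
  classical
  have h1 : ∀ x : X, ∃ (n : ℕ) (f : A), 0 < n ∧ f ∈ 𝒜 n ∧ j x ∈ Proj.basicOpen 𝒜 f ∧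
      Proj.basicOpen 𝒜 f ≤ j.opensRange :=
    fun x => exists_homogeneous_basicOpen_le 𝒜 j.opensRange (j x) ⟨x, rfl⟩
  choose n f hn hf hx hle using h1
  obtain ⟨t, ht⟩ := isCompact_univ.elim_finite_subcover
    (fun x : X => ((j ⁻¹ᵁ Proj.basicOpen 𝒜 (f x) : X.Opens) : Set X))
    (fun x => (j ⁻¹ᵁ Proj.basicOpen 𝒜 (f x)).isOpen)
    (fun x _ => Set.mem_iUnion.mpr ⟨x, hx x⟩)
  have hd : 0 < ∏ x ∈ t, n x := Finset.prod_pos (fun x _ => hn x)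
  have hdvd : ∀ k : {x // x ∈ t}, n k.1 ∣ ∏ x ∈ t, n x := fun k => Finset.dvd_prod_of_mem n k.2
  have hq : ∀ k : {x // x ∈ t}, 0 < (∏ x ∈ t, n x) / n k.1 := fun k =>
    Nat.div_pos (Nat.le_of_dvd hd (hdvd k)) (hn k.1)
  refine ⟨∏ x ∈ t, n x, {x // x ∈ t}, fun k => f k.1 ^ ((∏ x ∈ t, n x) / n k.1), hd, ?_, ?_, ?_⟩
  · intro k
    have := SetLike.pow_mem_graded ((∏ x ∈ t, n x) / n k.1) (hf k.1)
    rwa [smul_eq_mul, Nat.div_mul_cancel (hdvd k)] at this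
  · intro x
    obtain ⟨y, hy⟩ := Set.mem_iUnion.mp (ht (Set.mem_univ x))
    obtain ⟨hyt, hy⟩ := Set.mem_iUnion.mp hy
    refine ⟨⟨y, hyt⟩, ?_⟩
    rw [Proj.basicOpen_pow 𝒜 _ _ (hq ⟨y, hyt⟩)]
    exact hy
  · intro k
    rw [Proj.basicOpen_pow 𝒜 _ _ (hq k)]
    exact hle k.1

/-- **`O(d)` restricted to a quasi-compact open subscheme of `Proj` is ample for some `d > 0`.** -/
theorem exists_isAmple_pullback [CompactSpace X] [IsOpenImmersion j] :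
    ∃ d : ℕ, 0 < d ∧
      CohB1.IsAmple ((Scheme.Modules.pullback j).obj (GrTilde.tilde 𝒜 𝒜 (d : ℤ))) := by
  obtain ⟨d, ι, H, hd, hH, hcovX, hrange⟩ := exists_cover_of_compact 𝒜 j
  exact ⟨d, hd, isAmple_pullback_of_cover 𝒜 d H hH j hcovX hd hrange⟩

end Exists

end Groth.Agent.Lib.Helper27GrTildeSect
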