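import Mathlib
import Groth.Prelude.Def_ParaF
import Groth.Agent.Lib.Helper23RestrJ

set_option autoImplicit false
universe u
open CategoryTheory CategoryTheory.Limits AlgebraicGeometry TopologicalSpace Opposite

namespace Groth.Agent.Lib.Helper20.ParaFLib
open Groth.Agent.Lib.Helper23.RestrJ Groth.Agent.Lib.Helper23.AmpleIso

/-- the property of being invertible. -/
abbrev invProp (V : Scheme.{u}) : ObjectProperty V.Modules := fun L => PicF.IsInvertible L

/-- the category of invertible modules. -/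
abbrev InvCat (V : Scheme.{u}) := (invProp V).FullSubcategory

variable {U V W : Scheme.{u}}

/-- restriction of invertible modules along an open immersion. -/
noncomputable def resInv (j : U ⟶ V) [IsOpenImmersion j] : InvCat V ⥤ InvCat U :=
  (invProp U).lift ((invProp V).ι ⋙ Scheme.Modules.restrictFunctor j)
    (fun L => isInvertible_restrict j L.obj L.property)

theorem invRestrictEquiv_iff (j : U ⟶ V) [IsOpenImmersion j] :
    ParaF.InvRestrictEquiv j ↔ (resInv j).IsEquivalence := by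
  constructor
  · rintro ⟨h1, h2⟩
    have hfaith : (resInv j).Faithful := ⟨fun {L L'} f g hfg => by
      apply ObjectProperty.hom_ext
      apply (h1 L.obj L'.obj L.property L'.property).1
      exact congrArg (fun t => t.hom) hfg⟩
    have hfull : (resInv j).Full := ⟨fun {L L'} g => by
      obtain ⟨φ, hφ⟩ := (h1 L.obj L'.obj L.property L'.property).2 g.hom
      exact ⟨ObjectProperty.homMk φ, ObjectProperty.hom_ext _ hφ⟩⟩
    have hess : (resInv j).EssSurj := ⟨fun L₀ => by
      obtain ⟨L, hL, ⟨e⟩⟩ := h2 L₀.obj L₀.property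
      exact ⟨⟨L, hL⟩, ⟨ObjectProperty.isoMk _ e⟩⟩⟩
    exact { }
  · intro h
    refine ⟨fun L L' hL hL' => ⟨fun φ ψ hφψ => ?_, fun g => ?_⟩, fun L₀ hL₀ => ?_⟩
    · have : (resInv j).map (ObjectProperty.homMk φ : (⟨L, hL⟩ : InvCat V) ⟶ ⟨L', hL'⟩) =
          (resInv j).map (ObjectProperty.homMk ψ) := ObjectProperty.hom_ext _ hφψ
      exact congrArg (fun t => t.hom) ((resInv j).map_injective this)
    · obtain ⟨f, hf⟩ := (resInv j).map_surjective
        (ObjectProperty.homMk g : (resInv j).obj ⟨L, hL⟩ ⟶ (resInv j).obj ⟨L', hL'⟩)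
      exact ⟨f.hom, congrArg (fun t => t.hom) hf⟩
    · let L := (resInv j).objPreimage (⟨L₀, hL₀⟩ : InvCat U)
      let e := (resInv j).objObjPreimageIso (⟨L₀, hL₀⟩ : InvCat U)
      exact ⟨L.obj, L.property, ⟨(ObjectProperty.ι _).mapIso e⟩⟩

/-- `resInv` of a composite. -/
noncomputable def resInvComp (j₁ : U ⟶ V) (j₂ : V ⟶ W) [IsOpenImmersion j₁] [IsOpenImmersion j₂] :
    resInv (j₁ ≫ j₂) ≅ resInv j₂ ⋙ resInv j₁ :=
  NatIso.ofComponents
    (fun L => ObjectProperty.isoMk _ ((Scheme.Modules.restrictFunctorComp j₁ j₂).app L.obj))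
    (fun f => ObjectProperty.hom_ext _ ((Scheme.Modules.restrictFunctorComp j₁ j₂).hom.naturality f.hom))

/-- `resInv` of the identity. -/
noncomputable def resInvId : resInv (𝟙 V) ≅ 𝟭 _ :=
  NatIso.ofComponents
    (fun L => ObjectProperty.isoMk _ ((Scheme.Modules.restrictFunctorId (X := V)).app L.obj))
    (fun f => ObjectProperty.hom_ext _ ((Scheme.Modules.restrictFunctorId (X := V)).hom.naturality f.hom))

/-- `resInv` of equal morphisms. -/
noncomputable def resInvCongr {j j' : U ⟶ V} (h : j = j') [IsOpenImmersion j] [IsOpenImmersion j'] :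
    resInv j ≅ resInv j' :=
  NatIso.ofComponents
    (fun L => ObjectProperty.isoMk _ ((Scheme.Modules.restrictFunctorCongr h).app L.obj))
    (fun f => ObjectProperty.hom_ext _ ((Scheme.Modules.restrictFunctorCongr h).hom.naturality f.hom))

/-- the equivalence given by an isomorphism. -/
noncomputable def resInvEquivalence (j : U ⟶ V) [IsIso j] : InvCat V ≌ InvCat U :=
  CategoryTheory.Equivalence.mk (resInv j) (resInv (inv j))
    (resInvId.symm ≪≫ resInvCongr (IsIso.inv_hom_id j).symm ≪≫ resInvComp (inv j) j)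
    ((resInvComp j (inv j)).symm ≪≫ resInvCongr (IsIso.hom_inv_id j) ≪≫ resInvId)

instance isEquivalence_resInv_of_isIso (j : U ⟶ V) [IsIso j] : (resInv j).IsEquivalence :=
  (resInvEquivalence j).isEquivalence_functor

theorem ire_of_isIso (j : U ⟶ V) [IsIso j] : ParaF.InvRestrictEquiv j :=
  (invRestrictEquiv_iff j).2 inferInstance

theorem ire_congr {j j' : U ⟶ V} (h : j = j') [IsOpenImmersion j] [IsOpenImmersion j']
    (hj : ParaF.InvRestrictEquiv j) : ParaF.InvRestrictEquiv j' := by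
  subst h; exact hj

theorem ire_comp (j₁ : U ⟶ V) (j₂ : V ⟶ W) [IsOpenImmersion j₁] [IsOpenImmersion j₂]
    (h₁ : ParaF.InvRestrictEquiv j₁) (h₂ : ParaF.InvRestrictEquiv j₂) :
    ParaF.InvRestrictEquiv (j₁ ≫ j₂) := by
  rw [invRestrictEquiv_iff] at h₁ h₂ ⊢
  exact Functor.isEquivalence_of_iso (resInvComp j₁ j₂).symm

theorem ire_of_comp_left (j₁ : U ⟶ V) (j₂ : V ⟶ W) [IsOpenImmersion j₁] [IsOpenImmersion j₂]
    (h₁ : ParaF.InvRestrictEquiv j₁) (h : ParaF.InvRestrictEquiv (j₁ ≫ j₂)) :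
    ParaF.InvRestrictEquiv j₂ := by
  rw [invRestrictEquiv_iff] at h₁ h ⊢
  have : (resInv j₂ ⋙ resInv j₁).IsEquivalence := Functor.isEquivalence_of_iso (resInvComp j₁ j₂)
  exact Functor.isEquivalence_of_comp_right (resInv j₂) (resInv j₁)

theorem ire_of_comp_right (j₁ : U ⟶ V) (j₂ : V ⟶ W) [IsOpenImmersion j₁] [IsOpenImmersion j₂]
    (h₂ : ParaF.InvRestrictEquiv j₂) (h : ParaF.InvRestrictEquiv (j₁ ≫ j₂)) :
    ParaF.InvRestrictEquiv j₁ := by
  rw [invRestrictEquiv_iff] at h₂ h ⊢
  have : (resInv j₂ ⋙ resInv j₁).IsEquivalence := Functor.isEquivalence_of_iso (resInvComp j₁ j₂)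
  exact Functor.isEquivalence_of_comp_left (resInv j₂) (resInv j₁)

/-- invariance under isomorphisms of arrows. -/
theorem ire_of_arrowIso {U' V' : Scheme.{u}} (j : U ⟶ V) (j' : U' ⟶ V') [IsOpenImmersion j]
    [IsOpenImmersion j'] (a : U' ⟶ U) (b : V' ⟶ V) [IsIso a] [IsIso b] (w : j' ≫ b = a ≫ j)
    (h : ParaF.InvRestrictEquiv j) : ParaF.InvRestrictEquiv j' := by
  have h1 : ParaF.InvRestrictEquiv (a ≫ j) := ire_comp a j (ire_of_isIso a) h
  have h2 : ParaF.InvRestrictEquiv (j' ≫ b) := ire_congr w.symm h1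
  exact ire_of_comp_right j' b (ire_of_isIso b) h2

end Groth.Agent.Lib.Helper20.ParaFLib
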