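import Mathlib
import Groth.Prelude.Def_ParaF
import Groth.Agent.Lib.Helper20ParaF1

set_option autoImplicit false
universe u
open CategoryTheory CategoryTheory.Limits AlgebraicGeometry TopologicalSpace Opposite

namespace Groth.Agent.Lib.Helper20.ParaFLib

variable {X : Scheme.{u}}

theorem isIso_homOfLE_of_eq {A B : X.Opens} (e : A = B) : IsIso (X.homOfLE e.le) := by
  rw [← Scheme.isoOfEq_hom X e]; infer_instance

/-- monotonicity of parafactoriality in the closed subset. -/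
theorem isParafactorialPair_mono (Y Y' : Closeds X) (hle : Y' ≤ Y)
    (h : ParaF.IsParafactorialPair X Y) : ParaF.IsParafactorialPair X Y' := by
  intro V
  have e : V ⊓ Y.compl = (V ⊓ Y'.compl) ⊓ Y.compl := by
    ext x
    constructor
    · rintro ⟨hV, hY⟩
      exact ⟨⟨hV, fun hx => hY (hle hx)⟩, hY⟩
    · rintro ⟨⟨hV, -⟩, hY⟩
      exact ⟨hV, hY⟩
  have := isIso_homOfLE_of_eq e
  have h1 : ParaF.InvRestrictEquiv (X.homOfLE e.le ≫
      X.homOfLE (inf_le_left : (V ⊓ Y'.compl) ⊓ Y.compl ≤ V ⊓ Y'.compl)) :=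
    ire_comp _ _ (ire_of_isIso _) (h (V ⊓ Y'.compl))
  refine ire_of_comp_left _ (X.homOfLE (inf_le_left : V ⊓ Y'.compl ≤ V)) h1 ?_
  refine ire_congr ?_ (h V)
  rw [Scheme.homOfLE_homOfLE, Scheme.homOfLE_homOfLE]

theorem closedsIn_compl (W : X.Opens) (Y : Closeds X) :
    (ParaF.closedsIn W Y).compl = W.ι ⁻¹ᵁ Y.compl := rfl

/-- restriction of a parafactorial pair to an open subscheme. -/
theorem isParafactorialPair_restrict (Y : Closeds X) (h : ParaF.IsParafactorialPair X Y)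
    (W : X.Opens) : ParaF.IsParafactorialPair (W : Scheme.{u}) (ParaF.closedsIn W Y) := by
  intro V
  have heq : W.ι ''ᵁ (V ⊓ (ParaF.closedsIn W Y).compl) = (W.ι ''ᵁ V) ⊓ Y.compl := by
    rw [closedsIn_compl]
    ext x
    constructor
    · rintro ⟨y, ⟨hV, hY⟩, rfl⟩
      exact ⟨⟨y, hV, rfl⟩, hY⟩
    · rintro ⟨⟨y, hV, rfl⟩, hY⟩
      exact ⟨y, ⟨hV, hY⟩, rfl⟩
  refine ire_of_arrowIso (X.homOfLE (inf_le_left : (W.ι ''ᵁ V) ⊓ Y.compl ≤ W.ι ''ᵁ V)) _
    ((W.ι.isoImage (V ⊓ (ParaF.closedsIn W Y).compl)).hom ≫ (X.isoOfEq heq).hom)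
    (W.ι.isoImage V).hom ?_ (h (W.ι ''ᵁ V))
  rw [← cancel_mono (W.ι ''ᵁ V).ι]
  simp

end Groth.Agent.Lib.Helper20.ParaFLib
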