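import Mathlib
import Groth.Prelude.Def_ParaF
import Groth.Agent.Lib.Helper20ParaF2

set_option autoImplicit false
set_option linter.style.haveILetI false
universe u
open CategoryTheory CategoryTheory.Limits AlgebraicGeometry TopologicalSpace Opposite

namespace Groth.Agent.Lib.Helper20.ParaFLib
open Groth.Agent.Lib.Helper6 Groth.Agent.Lib.Helper23.SecTw Groth.Agent.Lib.Helper23.GenLocus

variable {X : Scheme.{u}}

theorem bijective_res_iff_of_eq (F : X.Modules) {A A' B B' : X.Opens} (eA : A = A') (eB : B = B')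
    (i : B ≤ A) (i' : B' ≤ A') : Function.Bijective (res F i) ↔ Function.Bijective (res F i') := by
  subst eA; subst eB; rfl

theorem bijective_resf_iff_of_eq {A A' B B' : X.Opens} (eA : A = A') (eB : B = B')
    (i : B ≤ A) (i' : B' ≤ A') :
    Function.Bijective (resf (X := X) i) ↔ Function.Bijective (resf (X := X) i') := by
  subst eA; subst eB; rfl

/-- local-to-global principle for bijectivity of the restriction maps `F(W) → F(W ∩ U)`. -/
theorem bijective_res_of_local (F : X.Modules) (U : X.Opens) (B : X.Opens → Prop)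
    (hB : ∀ W W' : X.Opens, W' ≤ W → B W → B W')
    (hcov : ∀ x : X, ∃ W : X.Opens, x ∈ W ∧ B W)
    (h : ∀ W : X.Opens, B W → Function.Bijective (res F (inf_le_left : W ⊓ U ≤ W)))
    (W : X.Opens) : Function.Bijective (res F (inf_le_left : W ⊓ U ≤ W)) := by
  choose T hxT hBT using hcov
  let S : TopCat.Sheaf Ab X := modSheaf F
  have hle : ∀ x : W, W ⊓ T x.1 ≤ W := fun x => inf_le_left
  have hBx : ∀ x : W, B (W ⊓ T x.1) := fun x => hB _ _ inf_le_right (hBT x.1)
  constructor
  · intro s s' hss'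
    refine S.eq_of_locally_eq' (fun x : W => W ⊓ T x.1) W (fun x => homOfLE (hle x)) ?_ s s' ?_
    · intro y hy
      exact Opens.mem_iSup.2 ⟨⟨y, hy⟩, hy, hxT y⟩
    · intro x
      apply (h _ (hBx x)).1
      change res F _ (res F _ s) = res F _ (res F _ s')
      rw [res_res, res_res]
      have h1 : res F (inf_le_inf_right U (hle x)) (res F (inf_le_left : W ⊓ U ≤ W) s) =
          res F (inf_le_inf_right U (hle x)) (res F (inf_le_left : W ⊓ U ≤ W) s') := by rw [hss']
      rw [res_res, res_res] at h1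
      exact h1
  · intro t
    have hex : ∀ x : W, ∃ s : Γ(F, W ⊓ T x.1), res F (inf_le_left : W ⊓ T x.1 ⊓ U ≤ W ⊓ T x.1) s =
        res F (inf_le_inf_right U (hle x)) t := fun x => (h _ (hBx x)).2 _
    choose sf hsf using hex
    have hcompat : TopCat.Presheaf.IsCompatible F.presheaf (fun x : W => W ⊓ T x.1) sf := by
      intro x x'
      have hB' : B ((W ⊓ T x.1) ⊓ (W ⊓ T x'.1)) := hB _ _ inf_le_left (hBx x)
      apply (h _ hB').1
      change res F _ (res F _ (sf x)) = res F _ (res F _ (sf x'))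
      rw [res_res, res_res]
      have h1 := congrArg (res F (inf_le_inf_right U
        (inf_le_left : (W ⊓ T x.1) ⊓ (W ⊓ T x'.1) ≤ W ⊓ T x.1))) (hsf x)
      have h2 := congrArg (res F (inf_le_inf_right U
        (inf_le_right : (W ⊓ T x.1) ⊓ (W ⊓ T x'.1) ≤ W ⊓ T x'.1))) (hsf x')
      rw [res_res, res_res] at h1 h2
      exact h1.trans h2.symm
    have hcov' : W ≤ ⨆ x : W, W ⊓ T x.1 := fun y hy => Opens.mem_iSup.2 ⟨⟨y, hy⟩, hy, hxT y⟩
    obtain ⟨s0, hs0, -⟩ := S.existsUnique_gluing' (fun x : W => W ⊓ T x.1) W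
      (fun x => homOfLE (hle x)) hcov' sf hcompat
    let s1 : Γ(F, W) := s0
    have hs1 : ∀ x : W, res F (hle x) s1 = sf x := hs0
    refine ⟨s1, ?_⟩
    refine S.eq_of_locally_eq' (fun x : W => W ⊓ T x.1 ⊓ U) (W ⊓ U)
      (fun x => homOfLE (inf_le_inf_right U (hle x))) ?_ _ _ ?_
    · rintro y ⟨hy, hyU⟩
      exact Opens.mem_iSup.2 ⟨⟨y, hy⟩, ⟨hy, hxT y⟩, hyU⟩
    · intro x
      change res F _ (res F _ s1) = res F _ t
      rw [res_res, ← hsf x, ← hs1 x, res_res]

/-- for an invertible module, `F(W) → F(W ∩ U)` is bijective as soon as this holds for the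
structure sheaf. -/
theorem bijective_res_of_isInvertible (M : X.Modules) (hM : PicF.IsInvertible M) (U : X.Opens)
    (hO : ∀ W : X.Opens, Function.Bijective (resf (X := X) (inf_le_left : W ⊓ U ≤ W)))
    (W : X.Opens) : Function.Bijective (res M (inf_le_left : W ⊓ U ≤ W)) := by
  refine bijective_res_of_local M U (fun W => ∃ e : Γ(M, W), IsGen M W e) ?_ ?_ ?_ W
  · rintro W W' hle ⟨e, he⟩
    exact ⟨_, he.mono hle⟩
  · intro x
    obtain ⟨W, e, hxW, he⟩ := exists_gen M hM x
    exact ⟨W, hxW, e, he⟩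
  · rintro W ⟨e, he⟩
    have h1 := he W le_rfl
    have h2 := he (W ⊓ U) inf_le_left
    rw [show res M (le_refl W) e = e from res_self M e] at h1
    constructor
    · intro m m' hmm'
      obtain ⟨r, rfl⟩ := h1.2 m
      obtain ⟨r', rfl⟩ := h1.2 m'
      simp only [res_smul] at hmm'
      have := (hO W).1 (h2.1 hmm')
      rw [this]
    · intro t
      obtain ⟨s, rfl⟩ := h2.2 t
      obtain ⟨r, rfl⟩ := (hO W).2 s
      exact ⟨r • e, res_smul M _ r e⟩

/-- full faithfulness on `Hom(L, L')` from the unit at `L'` being an isomorphism. -/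
theorem bijective_map_of_isIso_unit {C D : Type*} [Category C] [Category D] {F : C ⥤ D} {G : D ⥤ C}
    (adj : F ⊣ G) (L L' : C) [IsIso (adj.unit.app L')] :
    Function.Bijective (fun φ : L ⟶ L' => F.map φ) := by
  have h1 : Function.Bijective (fun φ : L ⟶ L' => φ ≫ adj.unit.app L') :=
    ⟨fun a b hab => (cancel_mono _).1 hab, fun c => ⟨c ≫ inv (adj.unit.app L'), by simp⟩⟩
  have h2 : (fun φ : L ⟶ L' => φ ≫ adj.unit.app L') =
      (adj.homEquiv L (F.obj L')) ∘ (fun φ : L ⟶ L' => F.map φ) := by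
    funext φ
    simp [Adjunction.homEquiv_unit]
  rw [h2] at h1
  exact (Function.Bijective.of_comp_iff' (adj.homEquiv L (F.obj L')).bijective _).1 h1

/-- converse. -/
theorem bijective_comp_unit_of_bijective_map {C D : Type*} [Category C] [Category D] {F : C ⥤ D}
    {G : D ⥤ C} (adj : F ⊣ G) (L L' : C) (h : Function.Bijective (fun φ : L ⟶ L' => F.map φ)) :
    Function.Bijective (fun φ : L ⟶ L' => φ ≫ adj.unit.app L') := by
  have h2 : (fun φ : L ⟶ L' => φ ≫ adj.unit.app L') =
      (adj.homEquiv L (F.obj L')) ∘ (fun φ : L ⟶ L' => F.map φ) := by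
    funext φ
    simp [Adjunction.homEquiv_unit]
  rw [h2]
  exact (adj.homEquiv L (F.obj L')).bijective.comp h

end Groth.Agent.Lib.Helper20.ParaFLib
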