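import Mathlib
import Groth.Prelude.Def_ParaF
import Groth.Agent.Lib.Helper20ParaF3

set_option autoImplicit false
set_option linter.style.haveILetI false
universe u
open CategoryTheory CategoryTheory.Limits AlgebraicGeometry TopologicalSpace Opposite

namespace Groth.Agent.Lib.Helper20.ParaFLib
open Groth.Agent.Lib.Helper6 Groth.Agent.Lib.Helper23.SecTw Groth.Agent.Lib.Helper23.GenLocus

variable {X : Scheme.{u}}

/-- the unit `M ⟶ j_* j^* M` is an isomorphism as soon as all `M(W) → M(W ∩ U)` are bijective. -/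
theorem isIso_unit_of_bijective_res {U : Scheme.{u}} (j : U ⟶ X) [IsOpenImmersion j] (M : X.Modules)
    (h : ∀ W : X.Opens, Function.Bijective (res M (j.image_preimage_le W))) :
    IsIso ((Scheme.Modules.restrictAdjunction j).unit.app M) := by
  refine Scheme.Modules.Hom.isIso_iff_isIso_app.mpr fun W => ?_
  rw [ConcreteCategory.isIso_iff_bijective]
  exact h W

theorem bijective_res_of_isIso_unit {U : Scheme.{u}} (j : U ⟶ X) [IsOpenImmersion j] (M : X.Modules)
    [IsIso ((Scheme.Modules.restrictAdjunction j).unit.app M)] (W : X.Opens) :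
    Function.Bijective (res M (j.image_preimage_le W)) := by
  have : IsIso (((Scheme.Modules.restrictAdjunction j).unit.app M).app W) :=
    Scheme.Modules.Hom.isIso_iff_isIso_app.mp inferInstance W
  exact (ConcreteCategory.isIso_iff_bijective _).1 this

theorem ι_image_preimage (U W : X.Opens) : U.ι ''ᵁ U.ι ⁻¹ᵁ W = W ⊓ U := by
  rw [Scheme.Hom.image_preimage_eq_opensRange_inf, Scheme.Opens.opensRange_ι, inf_comm]

/-- S2825. -/
theorem bijective_restrict_map (U : X.Opens)
    (h : ∀ V : X.Opens, Function.Bijective (X.presheaf.map (homOfLE (inf_le_left : V ⊓ U ≤ V)).op))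
    (L L' : X.Modules) (hL' : PicF.IsInvertible L') :
    Function.Bijective (fun φ : L ⟶ L' => (Scheme.Modules.restrictFunctor U.ι).map φ) := by
  have h1 := bijective_res_of_isInvertible L' hL' U h
  have : IsIso ((Scheme.Modules.restrictAdjunction U.ι).unit.app L') := by
    refine isIso_unit_of_bijective_res U.ι L' fun W => ?_
    exact (bijective_res_iff_of_eq L' rfl (ι_image_preimage U W) _ _).2 (h1 W)
  exact bijective_map_of_isIso_unit (Scheme.Modules.restrictAdjunction U.ι) L L'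

end Groth.Agent.Lib.Helper20.ParaFLib

namespace Groth.Agent.Lib.Helper20.ParaFLib
open Groth.Agent.Lib.Helper6 Groth.Agent.Lib.Helper23.SecTw Groth.Agent.Lib.Helper23.GenLocus
open Groth.Agent.Lib.Helper23.TensorUnit Groth.Agent.Lib.Helper23.AmpleIso

variable {X : Scheme.{u}}

theorem sv_top_secHom (M : X.Modules) (σ : Γ(M, ⊤)) : sv (secHom M σ) ⊤ = σ := by
  rw [sv_secHom]; exact res_self M σ

/-- if post-composition with `ψ` is bijective on maps out of the structure module then `ψ` is bijective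
on global sections. -/
theorem bijective_app_top_of_bijective_comp {M N : X.Modules} (ψ : M ⟶ N)
    (h : Function.Bijective (fun φ : Coh.structureModule X ⟶ M => φ ≫ ψ)) :
    Function.Bijective (ψ.app ⊤) := by
  constructor
  · intro σ σ' hσ
    have h1 : secHom M σ ≫ ψ = secHom M σ' ≫ ψ := by
      apply hom_ext_of_sv
      rw [sv_comp, sv_comp, sv_top_secHom, sv_top_secHom, hσ]
    have h2 := h.1 h1
    rw [← sv_top_secHom M σ, ← sv_top_secHom M σ', h2]
  · intro τ
    obtain ⟨φ, hφ⟩ := h.2 (secHom N τ)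
    refine ⟨sv φ ⊤, ?_⟩
    have : sv (φ ≫ ψ) ⊤ = sv (secHom N τ) ⊤ := by
      have hφ' : φ ≫ ψ = secHom N τ := hφ
      rw [hφ']
    rw [sv_comp, sv_top_secHom] at this
    exact this

theorem resf_opens_eq (V : X.Opens) {W W' : (↑V : Scheme.{u}).Opens} (i : W' ≤ W) :
    resf (X := (↑V : Scheme.{u})) i = resf (X := X) (V.ι.image_mono i) := rfl

/-- transport of the bijectivity of restriction of functions from `X` to an open subscheme. -/
theorem bijective_resf_opens (Uo V : X.Opens)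
    (h : ∀ V' : X.Opens, Function.Bijective (resf (X := X) (inf_le_left : V' ⊓ Uo ≤ V')))
    (W : (↑V : Scheme.{u}).Opens) :
    Function.Bijective (resf (X := (↑V : Scheme.{u})) (inf_le_left : W ⊓ V.ι ⁻¹ᵁ Uo ≤ W)) := by
  rw [resf_opens_eq]
  have e : V.ι ''ᵁ (W ⊓ V.ι ⁻¹ᵁ Uo) = V.ι ''ᵁ W ⊓ Uo := by
    ext x
    constructor
    · rintro ⟨y, ⟨hW, hY⟩, rfl⟩
      exact ⟨⟨y, hW, rfl⟩, hY⟩
    · rintro ⟨⟨y, hW, rfl⟩, hY⟩
      exact ⟨y, ⟨hW, hY⟩, rfl⟩
  exact (bijective_resf_iff_of_eq rfl e _ _).2 (h (V.ι ''ᵁ W))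

theorem homOfLE_image_preimage {A V : X.Opens} (hle : A ≤ V) (W : (↑V : Scheme.{u}).Opens) :
    X.homOfLE hle ''ᵁ X.homOfLE hle ⁻¹ᵁ W = W ⊓ V.ι ⁻¹ᵁ A := by
  rw [Scheme.Hom.image_preimage_eq_opensRange_inf, Scheme.opensRange_homOfLE, inf_comm]

/-- the unit is an isomorphism on invertible modules over an open subscheme. -/
theorem isIso_unit_homOfLE (Uo V : X.Opens)
    (h : ∀ V' : X.Opens, Function.Bijective (resf (X := X) (inf_le_left : V' ⊓ Uo ≤ V')))
    (M : (↑V : Scheme.{u}).Modules) (hM : PicF.IsInvertible M) :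
    IsIso ((Scheme.Modules.restrictAdjunction
      (X.homOfLE (inf_le_left : V ⊓ Uo ≤ V))).unit.app M) := by
  refine isIso_unit_of_bijective_res _ M fun W => ?_
  have h1 := bijective_res_of_isInvertible M hM (V.ι ⁻¹ᵁ Uo) (bijective_resf_opens Uo V h) W
  have e : X.homOfLE (inf_le_left : V ⊓ Uo ≤ V) ''ᵁ X.homOfLE (inf_le_left : V ⊓ Uo ≤ V) ⁻¹ᵁ W =
      W ⊓ V.ι ⁻¹ᵁ Uo := by
    rw [homOfLE_image_preimage]
    ext x
    constructor
    · rintro ⟨hW, -, hU⟩
      exact ⟨hW, hU⟩
    · rintro ⟨hW, hU⟩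
      exact ⟨hW, x.2, hU⟩
  exact (bijective_res_iff_of_eq M rfl e _ _).2 h1

/-- S2826, forward direction, part 1. -/
theorem bijective_resf_of_ire (Uo V : X.Opens)
    (h : ParaF.InvRestrictEquiv (X.homOfLE (inf_le_left : V ⊓ Uo ≤ V))) :
    Function.Bijective (resf (X := X) (inf_le_left : V ⊓ Uo ≤ V)) := by
  let j := X.homOfLE (inf_le_left : V ⊓ Uo ≤ V)
  let O := Coh.structureModule (↑V : Scheme.{u})
  have hO : PicF.IsInvertible O := isInvertible_structureModule _
  have h1 := bijective_comp_unit_of_bijective_map (Scheme.Modules.restrictAdjunction j) O O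
    (h.1 O O hO hO)
  have h2 := bijective_app_top_of_bijective_comp _ h1
  have h3 : Function.Bijective (resf (X := (↑V : Scheme.{u})) (j.image_preimage_le ⊤)) := h2
  rw [resf_opens_eq] at h3
  refine (bijective_resf_iff_of_eq ?_ ?_ _ _).1 h3
  · simp
  · rw [homOfLE_image_preimage]
    ext x
    constructor
    · rintro ⟨y, ⟨-, hy⟩, rfl⟩
      exact hy
    · intro hx
      exact ⟨⟨x, hx.1⟩, ⟨trivial, hx⟩, rfl⟩

/-- S2826. -/
theorem isParafactorialPair_iff_pushforward (Y : Closeds X) :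
    ParaF.IsParafactorialPair X Y ↔
      ((∀ V : X.Opens, Function.Bijective (X.presheaf.map (homOfLE (inf_le_left : V ⊓ Y.compl ≤ V)).op)) ∧
        ∀ (V : X.Opens) (L : ((V ⊓ Y.compl : X.Opens) : Scheme.{u}).Modules), PicF.IsInvertible L →
          PicF.IsInvertible ((Scheme.Modules.pushforward
            (X.homOfLE (inf_le_left : V ⊓ Y.compl ≤ V))).obj L)) := by
  constructor
  · intro h
    have h1 : ∀ V : X.Opens, Function.Bijective (resf (X := X) (inf_le_left : V ⊓ Y.compl ≤ V)) :=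
      fun V => bijective_resf_of_ire Y.compl V (h V)
    refine ⟨h1, fun V L hL => ?_⟩
    obtain ⟨N, hN, ⟨e⟩⟩ := (h V).2 L hL
    have := isIso_unit_homOfLE Y.compl V h1 N hN
    exact isInvertible_of_iso
      (asIso ((Scheme.Modules.restrictAdjunction
        (X.homOfLE (inf_le_left : V ⊓ Y.compl ≤ V))).unit.app N) ≪≫
        (Scheme.Modules.pushforward (X.homOfLE (inf_le_left : V ⊓ Y.compl ≤ V))).mapIso e) hN
  · rintro ⟨h1, h2⟩ V
    refine ⟨fun L L' hL hL' => ?_, fun L₀ hL₀ => ?_⟩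
    · have := isIso_unit_homOfLE Y.compl V h1 L' hL'
      exact bijective_map_of_isIso_unit (Scheme.Modules.restrictAdjunction
        (X.homOfLE (inf_le_left : V ⊓ Y.compl ≤ V))) L L'
    · exact ⟨_, h2 V L₀ hL₀,
        ⟨(Scheme.Modules.restrictFunctorAdjCounitIso
          (X.homOfLE (inf_le_left : V ⊓ Y.compl ≤ V))).app L₀⟩⟩

end Groth.Agent.Lib.Helper20.ParaFLib
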