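import Mathlib
import Groth.Prelude.Def_ParaF
import Groth.Agent.Lib.Helper20ParaF4
import Groth.Agent.Lib.Helper23PB

set_option autoImplicit false
set_option linter.style.haveILetI false
universe u
open CategoryTheory CategoryTheory.Limits AlgebraicGeometry TopologicalSpace Opposite

namespace Groth.Agent.Lib.Helper20.ParaFLib
open Groth.Agent.Lib.Helper6 Groth.Agent.Lib.Helper23.SecTw Groth.Agent.Lib.Helper23.GenLocus
open Groth.Agent.Lib.Helper23.TensorUnit Groth.Agent.Lib.Helper23.AmpleIso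

variable {X : Scheme.{u}}

/-- `L` is trivial over the open `A`. -/
def Triv (L : X.Modules) (A : X.Opens) : Prop := ∃ e : Γ(L, A), IsGen L A e

theorem Triv.mono {L : X.Modules} {A A' : X.Opens} (h : Triv L A) (hle : A' ≤ A) : Triv L A' := by
  obtain ⟨e, he⟩ := h
  exact ⟨_, he.mono hle⟩

theorem Triv.of_iso {L L' : X.Modules} (Φ : L ≅ L') {A : X.Opens} (h : Triv L A) : Triv L' A := by
  obtain ⟨e, he⟩ := h
  exact ⟨_, Groth.Agent.Lib.Helper23.PB.isGen_of_iso Φ he⟩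

theorem Triv.of_eq {L : X.Modules} {A A' : X.Opens} (h : Triv L A) (e : A = A') : Triv L A' := by
  subst e; exact h

theorem Triv.restrict {U : Scheme.{u}} (j : U ⟶ X) [IsOpenImmersion j] {L : X.Modules} {A : U.Opens}
    (h : Triv L (j ''ᵁ A)) : Triv (L.restrict j) A := by
  obtain ⟨e, he⟩ := h
  exact ⟨_, Groth.Agent.Lib.Helper23.RestrJ.isGen_restrict_of_isGen j L A e he⟩

theorem Triv.of_restrict {U : Scheme.{u}} (j : U ⟶ X) [IsOpenImmersion j] {L : X.Modules} {A : U.Opens}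
    (h : Triv (L.restrict j) A) : Triv L (j ''ᵁ A) := by
  obtain ⟨e, he⟩ := h
  exact ⟨_, Groth.Agent.Lib.Helper23.RestrJ.isGen_of_isGen_restrict j L A e he⟩

theorem isInvertible_of_triv (M : X.Modules) (h : ∀ x : X, ∃ W : X.Opens, x ∈ W ∧ Triv M W) :
    PicF.IsInvertible M := by
  refine isInvertible_of_isGen M fun x => ?_
  obtain ⟨W, hxW, e, he⟩ := h x
  exact ⟨W, e, hxW, he⟩

theorem exists_triv (M : X.Modules) (hM : PicF.IsInvertible M) (x : X) :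
    ∃ W : X.Opens, x ∈ W ∧ Triv M W := by
  obtain ⟨W, e, hxW, he⟩ := exists_gen M hM x
  exact ⟨W, hxW, e, he⟩

/-- triviality of a pushforward. -/
theorem Triv.pushforward {U : Scheme.{u}} (j : U ⟶ X) (L₀ : U.Modules) (W : X.Opens)
    (hO : ∀ W' : X.Opens, W' ≤ W → Function.Bijective (j.app W'))
    (h : Triv L₀ (j ⁻¹ᵁ W)) : Triv ((Scheme.Modules.pushforward j).obj L₀) W := by
  obtain ⟨e, he⟩ := h
  refine ⟨(show Γ((Scheme.Modules.pushforward j).obj L₀, W) from e), fun W' hW' => ?_⟩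
  have h1 := he (j ⁻¹ᵁ W') (j.preimage_mono hW')
  exact h1.comp (hO W' hW')

end Groth.Agent.Lib.Helper20.ParaFLib

namespace Groth.Agent.Lib.Helper20.ParaFLib
open Groth.Agent.Lib.Helper6 Groth.Agent.Lib.Helper23.SecTw Groth.Agent.Lib.Helper23.GenLocus
open Groth.Agent.Lib.Helper23.TensorUnit Groth.Agent.Lib.Helper23.AmpleIso

variable {X : Scheme.{u}}

theorem image_congr {U : Scheme.{u}} {f g : U ⟶ X} [IsOpenImmersion f] [IsOpenImmersion g] (h : f = g)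
    (A : U.Opens) : f ''ᵁ A = g ''ᵁ A := by
  subst h; rfl

theorem bijective_homOfLE_app (Uo V : X.Opens)
    (h : ∀ V' : X.Opens, Function.Bijective (resf (X := X) (inf_le_left : V' ⊓ Uo ≤ V')))
    (W : (↑V : Scheme.{u}).Opens) :
    Function.Bijective ((X.homOfLE (inf_le_left : V ⊓ Uo ≤ V)).app W) := by
  rw [Scheme.homOfLE_app]
  have e : (V ⊓ Uo).ι ''ᵁ X.homOfLE (inf_le_left : V ⊓ Uo ≤ V) ⁻¹ᵁ W = V.ι ''ᵁ W ⊓ Uo := by
    rw [Scheme.ι_image_homOfLE_eq_ι_image_inf]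
    ext x
    constructor
    · rintro ⟨hW, -, hU⟩
      exact ⟨hW, hU⟩
    · rintro ⟨hW, hU⟩
      exact ⟨hW, V.ι_image_le W hW, hU⟩
  exact (bijective_resf_iff_of_eq rfl e _ _).2 (h (V.ι ''ᵁ W))

/-- local-to-global principle for parafactoriality. -/
theorem isParafactorialPair_of_local (Y : Closeds X)
    (hloc : ∀ x : X, ∃ T : X.Opens, x ∈ T ∧ ∀ V : X.Opens, V ≤ T →
      ParaF.InvRestrictEquiv (X.homOfLE (inf_le_left : V ⊓ Y.compl ≤ V))) :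
    ParaF.IsParafactorialPair X Y := by
  have h1 : ∀ V : X.Opens, Function.Bijective (resf (X := X) (inf_le_left : V ⊓ Y.compl ≤ V)) := by
    intro V
    have := bijective_res_of_local (Coh.structureModule X) Y.compl
      (fun W => ∃ T : X.Opens, W ≤ T ∧ ∀ V : X.Opens, V ≤ T →
        ParaF.InvRestrictEquiv (X.homOfLE (inf_le_left : V ⊓ Y.compl ≤ V))) ?_ ?_ ?_ V
    · exact this
    · rintro W W' hle ⟨T, hT, hT'⟩
      exact ⟨T, hle.trans hT, hT'⟩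
    · intro x
      obtain ⟨T, hxT, hT⟩ := hloc x
      exact ⟨T, hxT, T, le_rfl, hT⟩
    · rintro W ⟨T, hT, hT'⟩
      exact bijective_resf_of_ire Y.compl W (hT' W hT)
  rw [isParafactorialPair_iff_pushforward]
  refine ⟨h1, fun V L₀ hL₀ => isInvertible_of_triv _ fun x => ?_⟩
  obtain ⟨T, hxT, hT⟩ := hloc x.1
  have hV₁ : V ⊓ T ≤ V := inf_le_left
  have hQ : V ⊓ T ⊓ Y.compl ≤ V ⊓ Y.compl := inf_le_inf_right _ hV₁
  let j := X.homOfLE (inf_le_left : V ⊓ Y.compl ≤ V)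
  let j₁ := X.homOfLE (inf_le_left : V ⊓ T ⊓ Y.compl ≤ V ⊓ T)
  let k := X.homOfLE hQ
  let i := X.homOfLE hV₁
  obtain ⟨N, hN, ⟨e⟩⟩ := (hT (V ⊓ T) inf_le_right).2 (L₀.restrict k)
    (Groth.Agent.Lib.Helper23.RestrJ.isInvertible_restrict k L₀ hL₀)
  obtain ⟨W₁, hxW₁, hW₁⟩ := exists_triv N hN ⟨x.1, x.2, hxT⟩
  have t1 : Triv N (j₁ ''ᵁ j₁ ⁻¹ᵁ W₁) := hW₁.mono (j₁.image_preimage_le W₁)
  have t2 : Triv (L₀.restrict k) (j₁ ⁻¹ᵁ W₁) := (t1.restrict j₁).of_iso e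
  have t3 : Triv L₀ (k ''ᵁ j₁ ⁻¹ᵁ W₁) := t2.of_restrict k
  have heq : k ''ᵁ j₁ ⁻¹ᵁ W₁ = j ⁻¹ᵁ (i ''ᵁ W₁) := by
    apply (V ⊓ Y.compl).ι.image_injective
    show (V ⊓ Y.compl).ι ''ᵁ (k ''ᵁ j₁ ⁻¹ᵁ W₁) = (V ⊓ Y.compl).ι ''ᵁ (j ⁻¹ᵁ (i ''ᵁ W₁))
    dsimp only [j, j₁, k, i]
    rw [← Scheme.Hom.comp_image, image_congr (X.homOfLE_ι hQ), Scheme.ι_image_homOfLE_eq_ι_image_inf,
      Scheme.ι_image_homOfLE_eq_ι_image_inf, ← Scheme.Hom.comp_image, image_congr (X.homOfLE_ι hV₁)]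
    ext y
    constructor
    · rintro ⟨hW, hy⟩
      exact ⟨hW, hy.1.1, hy.2⟩
    · rintro ⟨hW, hy⟩
      exact ⟨hW, (V ⊓ T).ι_image_le W₁ hW, hy.2⟩
  refine ⟨i ''ᵁ W₁, ⟨⟨x.1, x.2, hxT⟩, hxW₁, ?_⟩, ?_⟩
  · exact Subtype.ext (Scheme.homOfLE_apply hV₁ _)
  · exact Triv.pushforward j L₀ _ (fun W' _ => bijective_homOfLE_app Y.compl V h1 W') (t3.of_eq heq)

end Groth.Agent.Lib.Helper20.ParaFLib

namespace Groth.Agent.Lib.Helper20.ParaFLib

variable {X : Scheme.{u}}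

/-- from parafactoriality of an open subscheme to the statement on opens of `X`. -/
theorem ire_of_isParafactorialPair_opens (Y : Closeds X) (Wi : X.Opens)
    (h : ParaF.IsParafactorialPair (Wi : Scheme.{u}) (ParaF.closedsIn Wi Y)) (V : X.Opens) (hV : V ≤ Wi) :
    ParaF.InvRestrictEquiv (X.homOfLE (inf_le_left : V ⊓ Y.compl ≤ V)) := by
  have hb : V = Wi.ι ''ᵁ (Wi.ι ⁻¹ᵁ V) := by
    rw [Scheme.Hom.image_preimage_eq_opensRange_inf, Scheme.Opens.opensRange_ι]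
    exact (inf_eq_right.2 hV).symm
  have ha : V ⊓ Y.compl = Wi.ι ''ᵁ (Wi.ι ⁻¹ᵁ V ⊓ (ParaF.closedsIn Wi Y).compl) := by
    rw [closedsIn_compl]
    ext x
    constructor
    · rintro ⟨hxV, hxY⟩
      exact ⟨⟨x, hV hxV⟩, ⟨hxV, hxY⟩, rfl⟩
    · rintro ⟨y, ⟨hyV, hyY⟩, rfl⟩
      exact ⟨hyV, hyY⟩
  refine ire_of_arrowIso _ (X.homOfLE (inf_le_left : V ⊓ Y.compl ≤ V))
    ((X.isoOfEq ha).hom ≫ (Wi.ι.isoImage (Wi.ι ⁻¹ᵁ V ⊓ (ParaF.closedsIn Wi Y).compl)).inv)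
    ((X.isoOfEq hb).hom ≫ (Wi.ι.isoImage (Wi.ι ⁻¹ᵁ V)).inv) ?_ (h (Wi.ι ⁻¹ᵁ V))
  rw [← cancel_mono (Wi.ι ⁻¹ᵁ V).ι, ← cancel_mono Wi.ι]
  simp

/-- S2828. -/
theorem isParafactorialPair_of_openCover (Y : Closeds X) {ι : Type u} (W : ι → X.Opens)
    (hW : ⨆ i, W i = ⊤)
    (h : ∀ i, ParaF.IsParafactorialPair (W i : Scheme.{u}) (ParaF.closedsIn (W i) Y)) :
    ParaF.IsParafactorialPair X Y := by
  refine isParafactorialPair_of_local Y fun x => ?_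
  have hx : x ∈ ⨆ i, W i := by rw [hW]; trivial
  obtain ⟨i, hi⟩ := Opens.mem_iSup.1 hx
  exact ⟨W i, hi, fun V hV => ire_of_isParafactorialPair_opens Y (W i) (h i) V hV⟩

end Groth.Agent.Lib.Helper20.ParaFLib
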