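import Mathlib
import Groth.Prelude.Def_ParaF
import Groth.Prelude.Def_FEt
import Groth.Agent.Lib.Helper20ParaF5

set_option autoImplicit false
set_option linter.style.haveILetI false
universe u
open CategoryTheory CategoryTheory.Limits AlgebraicGeometry TopologicalSpace Opposite

namespace Groth.Agent.Lib.Helper20.ParaFLib
open Groth.Agent.Lib.Helper6 Groth.Agent.Lib.Helper23.SecTw Groth.Agent.Lib.Helper23.GenLocus
open Groth.Agent.Lib.Helper23.TensorUnit Groth.Agent.Lib.Helper23.AmpleIso

variable {X : Scheme.{u}}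

/-- a module with a global generator is isomorphic to the structure module. -/
theorem nonempty_iso_of_triv_top (L : X.Modules) (h : Triv L ⊤) :
    Nonempty (L ≅ Coh.structureModule X) := by
  obtain ⟨e, he⟩ := h
  have : IsIso (secHom L e) := by
    refine Scheme.Modules.Hom.isIso_iff_isIso_app.mpr fun W => ?_
    rw [ConcreteCategory.isIso_iff_bijective]
    have h1 := he W le_top
    have h2 : ⇑((secHom L e).app W).hom =
        (fun r : Γ(X, W) => r • res L (le_top : W ≤ ⊤) e) ∘ ofS W := by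
      funext b
      have h3 := app_toS (secHom L e) W (ofS W b)
      rw [toS_ofS, sv_secHom] at h3
      exact h3
    rw [h2]
    exact h1.comp ⟨fun a b h => h, fun b => ⟨b, rfl⟩⟩
  exact ⟨(asIso (secHom L e)).symm⟩

theorem triv_top_of_iso (L : X.Modules) (h : Nonempty (L ≅ Coh.structureModule X)) : Triv L ⊤ := by
  obtain ⟨ε⟩ := h
  exact Triv.of_iso ε.symm ⟨_, isGen_one ⊤⟩

theorem image_top_of_isIso {U : Scheme.{u}} (a : U ⟶ X) [IsIso a] : a ''ᵁ ⊤ = ⊤ := by
  rw [Scheme.Hom.image_top_eq_opensRange]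
  ext x
  simp only [Scheme.Hom.coe_opensRange, Opens.coe_top, Set.mem_univ, iff_true]
  exact ⟨(inv a) x, by rw [← Scheme.Hom.comp_apply]; simp⟩

/-- transport of `PicTrivial` along an isomorphism. -/
theorem picTrivial_of_iso {U U' : Scheme.{u}} (a : U' ⟶ U) [IsIso a] (h : ParaF.PicTrivial U) :
    ParaF.PicTrivial U' := by
  intro L hL
  have hL' : PicF.IsInvertible (L.restrict (inv a)) :=
    Groth.Agent.Lib.Helper23.RestrJ.isInvertible_restrict (inv a) L hL
  have t1 : Triv (L.restrict (inv a)) ⊤ := triv_top_of_iso _ (h _ hL')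
  have t2 := t1.of_restrict (inv a)
  rw [image_top_of_isIso] at t2
  exact nonempty_iso_of_triv_top L t2

end Groth.Agent.Lib.Helper20.ParaFLib

namespace Groth.Agent.Lib.Helper20.ParaFLib
open Groth.Agent.Lib.Helper6 Groth.Agent.Lib.Helper23.SecTw Groth.Agent.Lib.Helper23.GenLocus
open Groth.Agent.Lib.Helper23.TensorUnit Groth.Agent.Lib.Helper23.AmpleIso

section LocalRing

variable (A : Type u) [CommRing A] [IsLocalRing A]

/-- the closed point as a closed subset. -/
def cpt : Closeds (Spec (CommRingCat.of A)) :=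
  ⟨{IsLocalRing.closedPoint A}, IsLocalRing.isClosed_singleton_closedPoint A⟩

theorem cpt_compl : (cpt A).compl = FEt.puncturedSpec A := rfl

theorem eq_top_of_closedPoint_mem (V : (Spec (CommRingCat.of A)).Opens)
    (h : IsLocalRing.closedPoint A ∈ V) : V = ⊤ :=
  (IsLocalRing.closedPoint_mem_iff (R := A) V).1 h

theorem inf_compl_eq_of_notMem (V : (Spec (CommRingCat.of A)).Opens)
    (h : IsLocalRing.closedPoint A ∉ V) : V ⊓ (cpt A).compl = V := by
  refine inf_eq_left.2 fun x hx hx' => h ?_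
  have : x = IsLocalRing.closedPoint A := hx'
  rwa [← this]

theorem bijective_resf_of_eq' {X : Scheme.{u}} {A' B' : X.Opens} (e : B' = A') (i : B' ≤ A') :
    Function.Bijective (resf (X := X) i) := by
  subst e
  have : resf (X := X) i = id := by
    funext r
    change X.presheaf.map (𝟙 _) r = r
    rw [X.presheaf.map_id]; rfl
  rw [this]; exact Function.bijective_id

/-- S2824. -/
theorem isParafactorialLocalRing_iff :
    ParaF.IsParafactorialLocalRing A ↔
      (Function.Bijective ((Spec (CommRingCat.of A)).presheaf.map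
          (homOfLE (le_top : FEt.puncturedSpec A ≤ ⊤)).op) ∧
        ParaF.PicTrivial (FEt.puncturedSpec A : Scheme.{u})) := by
  have e0 : (⊤ : (Spec (CommRingCat.of A)).Opens) ⊓ (cpt A).compl = FEt.puncturedSpec A := by rw [top_inf_eq]; rfl
  have := isIso_homOfLE_of_eq e0
  constructor
  · intro h
    have hT : ParaF.InvRestrictEquiv ((Spec (CommRingCat.of A)).homOfLE (inf_le_left : (⊤ : (Spec (CommRingCat.of A)).Opens) ⊓ (cpt A).compl ≤ ⊤)) :=
      h ⊤
    refine ⟨(bijective_resf_iff_of_eq rfl e0 _ _).1 (bijective_resf_of_ire (cpt A).compl ⊤ hT), ?_⟩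
    have hinv := isIso_homOfLE_of_eq e0.symm
    refine picTrivial_of_iso ((Spec (CommRingCat.of A)).homOfLE e0.symm.le) ?_
    intro L hL
    obtain ⟨N, hN, ⟨ε⟩⟩ := hT.2 L hL
    obtain ⟨W, hW, tW⟩ := exists_triv N hN ⟨IsLocalRing.closedPoint A, trivial⟩
    have hW' : W = ⊤ := by
      apply (⊤ : (Spec (CommRingCat.of A)).Opens).ι.image_injective
      show (⊤ : (Spec (CommRingCat.of A)).Opens).ι ''ᵁ W = (⊤ : (Spec (CommRingCat.of A)).Opens).ι ''ᵁ ⊤
      rw [eq_top_of_closedPoint_mem A ((⊤ : (Spec (CommRingCat.of A)).Opens).ι ''ᵁ W) ⟨_, hW, rfl⟩]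
      rw [Scheme.Hom.image_top_eq_opensRange, Scheme.Opens.opensRange_ι]
    rw [hW'] at tW
    have t2 : Triv (N.restrict ((Spec (CommRingCat.of A)).homOfLE (inf_le_left : (⊤ : (Spec (CommRingCat.of A)).Opens) ⊓ (cpt A).compl ≤ ⊤))) ⊤ :=
      (tW.mono le_top).restrict _
    exact nonempty_iso_of_triv_top L (t2.of_iso ε)
  · rintro ⟨hb, hp⟩
    have h1 : ∀ V' : (Spec (CommRingCat.of A)).Opens,
        Function.Bijective (resf (X := Spec (CommRingCat.of A)) (inf_le_left : V' ⊓ (cpt A).compl ≤ V')) := by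
      intro V'
      by_cases hV' : IsLocalRing.closedPoint A ∈ V'
      · obtain rfl := eq_top_of_closedPoint_mem A V' hV'
        exact (bijective_resf_iff_of_eq rfl e0 _ _).2 hb
      · exact bijective_resf_of_eq' (inf_compl_eq_of_notMem A V' hV') _
    intro V
    by_cases hV : IsLocalRing.closedPoint A ∈ V
    · obtain rfl := eq_top_of_closedPoint_mem A V hV
      refine ⟨fun L L' hL hL' => ?_, fun L₀ hL₀ => ?_⟩
      · have := isIso_unit_homOfLE (cpt A).compl ⊤ h1 L' hL'
        exact bijective_map_of_isIso_unit (Scheme.Modules.restrictAdjunction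
          ((Spec (CommRingCat.of A)).homOfLE (inf_le_left : (⊤ : (Spec (CommRingCat.of A)).Opens) ⊓ (cpt A).compl ≤ ⊤))) L L'
      · have hiso : IsIso ((Spec (CommRingCat.of A)).homOfLE e0.le) := isIso_homOfLE_of_eq e0
        obtain ⟨ε⟩ := picTrivial_of_iso ((Spec (CommRingCat.of A)).homOfLE e0.le) hp L₀ hL₀
        exact ⟨Coh.structureModule _, isInvertible_structureModule _,
          ⟨Scheme.Modules.restrictUnitIso _ ≪≫ ε.symm⟩⟩
    · have hiso := isIso_homOfLE_of_eq (inf_compl_eq_of_notMem A V hV)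
      exact @ire_of_isIso _ _ _ hiso

end LocalRing

end Groth.Agent.Lib.Helper20.ParaFLib
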