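import Mathlib

set_option autoImplicit false
set_option linter.style.haveILetI false
set_option linter.unusedSectionVars false

open UniqueFactorizationMonoid

namespace Groth.Agent.Lib.Helper20.UFDVal

noncomputable section

open Classical

variable {R : Type*} [CommRing R] [IsDomain R] [UniqueFactorizationMonoid R]

local instance instSNM : StrongNormalizationMonoid R := UniqueFactorizationMonoid.strongNormalizationMonoid

/-- the factorization as an integer valued function. -/
def vZ (a : R) : R →₀ ℤ :=
  Finsupp.mapRange.addMonoidHom (Nat.castAddMonoidHom ℤ) (factorization a)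

theorem vZ_apply (a p : R) : vZ a p = (factorization a p : ℤ) := rfl

theorem vZ_mul {a b : R} (ha : a ≠ 0) (hb : b ≠ 0) : vZ (a * b) = vZ a + vZ b := by
  rw [vZ, factorization_mul ha hb, map_add]; rfl

theorem vZ_one : vZ (1 : R) = 0 := by
  rw [vZ, factorization_one, map_zero]

theorem vZ_pow (a : R) (n : ℕ) : vZ (a ^ n) = n • vZ a := by
  rw [vZ, factorization_pow, map_nsmul]; rfl

theorem support_vZ (a : R) : (vZ a).support = (factorization a).support := by
  ext p
  simp only [Finsupp.mem_support_iff, vZ_apply, ne_eq, Nat.cast_eq_zero]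

theorem factorization_eq_of_vZ_eq {a b : R} (h : vZ a = vZ b) : factorization a = factorization b := by
  ext p
  have := DFunLike.congr_fun h p
  rw [vZ_apply, vZ_apply] at this
  exact_mod_cast this

theorem vZ_of_mem {f p : R} (hp : p ∈ (factorization f).support) : vZ p = Finsupp.single p 1 := by
  rw [support_factorization, Multiset.mem_toFinset] at hp
  have h1 : normalizedFactors p = {p} := by
    rw [normalizedFactors_irreducible (irreducible_of_normalized_factor p hp),
      normalize_normalized_factor p hp]
  ext q
  rw [vZ_apply, factorization_eq_count, h1, Finsupp.single_apply]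
  by_cases h : p = q
  · subst h; simp
  · rw [if_neg h, Multiset.count_singleton, if_neg (Ne.symm h)]; rfl

theorem dvd_of_mem_support {f p : R} (hp : p ∈ (factorization f).support) : p ∣ f := by
  rw [support_factorization, Multiset.mem_toFinset] at hp
  exact dvd_of_mem_normalizedFactors hp

/-- if all prime factors of `a` divide `f` then `a` divides a power of `f`. -/
theorem dvd_pow_of_support_subset {a f : R} (ha : a ≠ 0) (hf : f ≠ 0)
    (h : (factorization a).support ⊆ (factorization f).support) : ∃ N : ℕ, a ∣ f ^ N := by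
  refine ⟨Multiset.card (normalizedFactors a), ?_⟩
  rw [dvd_iff_normalizedFactors_le_normalizedFactors ha (pow_ne_zero _ hf), normalizedFactors_pow,
    Multiset.le_iff_count]
  intro p
  rw [Multiset.count_nsmul]
  by_cases hp : p ∈ normalizedFactors a
  · have hp' : p ∈ normalizedFactors f := by
      have := h (by rw [support_factorization, Multiset.mem_toFinset]; exact hp)
      rwa [support_factorization, Multiset.mem_toFinset] at this
    calc Multiset.count p (normalizedFactors a) ≤ Multiset.card (normalizedFactors a) :=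
          Multiset.count_le_card _ _
      _ = Multiset.card (normalizedFactors a) * 1 := (mul_one _).symm
      _ ≤ _ := Nat.mul_le_mul_left _ (Multiset.one_le_count_iff_mem.2 hp')
  · rw [Multiset.count_eq_zero_of_notMem hp]; exact Nat.zero_le _

section Val

variable (R) {K : Type*} [Field K] [Algebra R K] [IsFractionRing R K]

theorem exists_rep (x : Kˣ) : ∃ a b : R, a ≠ 0 ∧ b ≠ 0 ∧
    (x : K) * algebraMap R K b = algebraMap R K a := by
  obtain ⟨⟨a, b⟩, h⟩ := IsLocalization.surj (nonZeroDivisors R) (x : K)
  have hb : (b : R) ≠ 0 := nonZeroDivisors.ne_zero b.2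
  refine ⟨a, b, ?_, hb, h⟩
  rintro rfl
  rw [map_zero] at h
  have h1 : algebraMap R K (b : R) ≠ 0 := by
    rw [Ne, map_eq_zero_iff _ (IsFractionRing.injective R K)]; exact hb
  exact (mul_ne_zero x.ne_zero h1) h

/-- the valuation vector of a nonzero element of the fraction field. -/
def val (x : Kˣ) : R →₀ ℤ :=
  vZ (exists_rep R x).choose - vZ (exists_rep R x).choose_spec.choose

theorem val_eq (x : Kˣ) {a b : R} (ha : a ≠ 0) (hb : b ≠ 0)
    (h : (x : K) * algebraMap R K b = algebraMap R K a) : val R x = vZ a - vZ b := by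
  obtain ⟨ha₀, hb₀, h₀⟩ := (exists_rep R x).choose_spec.choose_spec
  set a₀ := (exists_rep R x).choose
  set b₀ := (exists_rep R x).choose_spec.choose
  have h1 : a₀ * b = a * b₀ := by
    apply IsFractionRing.injective R K
    rw [map_mul, map_mul, ← h₀, ← h]; ring
  have h2 : vZ a₀ + vZ b = vZ a + vZ b₀ := by
    rw [← vZ_mul ha₀ hb, ← vZ_mul ha hb₀, h1]
  change vZ a₀ - vZ b₀ = vZ a - vZ b
  rw [sub_eq_sub_iff_add_eq_add]
  exact h2

theorem val_mul (x y : Kˣ) : val R (x * y) = val R x + val R y := by
  obtain ⟨a, b, ha, hb, h⟩ := exists_rep R x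
  obtain ⟨c, d, hc, hd, h'⟩ := exists_rep R y
  rw [val_eq R x ha hb h, val_eq R y hc hd h',
    val_eq R (x * y) (mul_ne_zero ha hc) (mul_ne_zero hb hd)
      (by rw [Units.val_mul, map_mul, map_mul, ← h, ← h']; ring),
    vZ_mul ha hc, vZ_mul hb hd]
  abel

/-- the valuation as a group homomorphism. -/
def valHom : Kˣ →* Multiplicative (R →₀ ℤ) :=
  MonoidHom.mk' (fun x => Multiplicative.ofAdd (val R x)) (fun x y => by
    rw [val_mul]; rfl)

theorem valHom_apply (x : Kˣ) : (valHom R x).toAdd = val R x := rfl

theorem val_one : val R (1 : Kˣ) = 0 := by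
  have := map_one (valHom R (K := K))
  exact this

theorem val_inv (x : Kˣ) : val R x⁻¹ = - val R x := by
  have := map_inv (valHom R (K := K)) x
  exact this

theorem val_zpow (x : Kˣ) (n : ℤ) : val R (x ^ n) = n • val R x := by
  have := map_zpow (valHom R (K := K)) x n
  exact this

theorem val_prod {ι : Type*} (s : Finset ι) (f : ι → Kˣ) :
    val R (∏ i ∈ s, f i) = ∑ i ∈ s, val R (f i) := by
  have := map_prod (valHom R (K := K)) f s
  exact this

/-- the unit of `K` attached to a nonzero element of `R`. -/
def unitOf (a : R) (ha : a ≠ 0) : Kˣ :=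
  Units.mk0 (algebraMap R K a) (by
    rw [Ne, map_eq_zero_iff _ (IsFractionRing.injective R K)]; exact ha)

theorem val_unitOf (a : R) (ha : a ≠ 0) : val R (unitOf R (K := K) a ha) = vZ a := by
  rw [val_eq R (unitOf R a ha) ha one_ne_zero (by simp [unitOf]), vZ_one, sub_zero]

/-- elements of valuation zero are units of `R`. -/
theorem exists_unit_of_val_eq_zero (x : Kˣ) (h : val R x = 0) :
    ∃ c : Rˣ, algebraMap R K c = x := by
  obtain ⟨a, b, ha, hb, hab⟩ := exists_rep R x
  rw [val_eq R x ha hb hab, sub_eq_zero] at h
  obtain ⟨c, hc⟩ := associated_of_factorization_eq b a hb ha (factorization_eq_of_vZ_eq h).symm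
  refine ⟨c, ?_⟩
  have h1 : algebraMap R K b ≠ 0 := by
    rw [Ne, map_eq_zero_iff _ (IsFractionRing.injective R K)]; exact hb
  apply mul_right_cancel₀ h1
  rw [hab, ← hc, map_mul, mul_comm]

theorem ne_zero_of_mem_support {f p : R} (hp : p ∈ (factorization f).support) : p ≠ 0 := by
  rw [support_factorization, Multiset.mem_toFinset] at hp
  exact (prime_of_normalized_factor p hp).ne_zero

/-- realisation of a valuation vector supported on the prime factors of `f`. -/
theorem exists_val_eq (f : R) (n : R →₀ ℤ) (hn : n.support ⊆ (factorization f).support) :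
    ∃ D : Kˣ, val R D = n := by
  let S := (factorization f).support
  let pu : S → Kˣ := fun p => unitOf R p.1 (ne_zero_of_mem_support R p.2)
  refine ⟨∏ p : S, pu p ^ (n p.1), ?_⟩
  rw [val_prod]
  have h1 : ∀ p : S, val R (pu p ^ (n p.1)) = Finsupp.single p.1 (n p.1) := by
    intro p
    rw [val_zpow, val_unitOf, vZ_of_mem p.2, Finsupp.smul_single, smul_eq_mul, mul_one]
  rw [Finset.sum_congr rfl (fun p _ => h1 p)]
  ext q
  rw [Finsupp.finsetSum_apply]
  by_cases hq : q ∈ S
  · rw [Finset.sum_eq_single (⟨q, hq⟩ : S)]
    · simp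
    · intro p _ hp
      rw [Finsupp.single_apply, if_neg]
      intro h
      exact hp (Subtype.ext h)
    · intro h; exact absurd (Finset.mem_univ _) h
  · have : n q = 0 := by
      by_contra h
      exact hq (hn (Finsupp.mem_support_iff.2 h))
    rw [this]
    apply Finset.sum_eq_zero
    intro p _
    rw [Finsupp.single_apply, if_neg]
    intro h
    exact hq (h ▸ p.2)

section Away

variable {B : Type*} [CommRing B] [Algebra R B] [Algebra B K] [IsScalarTower R B K]
  (f : R) [IsLocalization.Away f B]

include R in
/-- units of `R_f` have valuations supported on the prime factors of `f`. -/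
theorem support_val_subset_of_unit (hf : f ≠ 0) (c : Bˣ) (x : Kˣ) (hx : (x : K) = algebraMap B K c) :
    (val R x).support ⊆ (factorization f).support := by
  obtain ⟨n, a, ha⟩ := IsLocalization.Away.surj f (c : B)
  obtain ⟨m, b, hb⟩ := IsLocalization.Away.surj f ((c⁻¹ : Bˣ) : B)
  have hinj := IsFractionRing.injective R K
  have hfK : algebraMap R K f ≠ 0 := by rw [Ne, map_eq_zero_iff _ hinj]; exact hf
  have ha' : (x : K) * algebraMap R K (f ^ n) = algebraMap R K a := by
    rw [hx, IsScalarTower.algebraMap_apply R B K, IsScalarTower.algebraMap_apply R B K, ← map_mul,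
      map_pow, ha]
  have hb' : (x : K)⁻¹ * algebraMap R K (f ^ m) = algebraMap R K b := by
    have : (x : K)⁻¹ = algebraMap B K ((c⁻¹ : Bˣ) : B) := by
      apply inv_eq_of_mul_eq_one_right
      rw [hx, ← map_mul, ← Units.val_mul, mul_inv_cancel, Units.val_one, map_one]
    rw [this, IsScalarTower.algebraMap_apply R B K, IsScalarTower.algebraMap_apply R B K, ← map_mul,
      map_pow, hb]
  have hab : a * b = f ^ (n + m) := by
    apply hinj
    rw [map_mul, ← ha', ← hb', pow_add, map_mul]
    field_simp
  have ha0 : a ≠ 0 := by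
    rintro rfl
    rw [zero_mul] at hab
    exact pow_ne_zero _ hf hab.symm
  have hb0 : b ≠ 0 := by
    rintro rfl
    rw [mul_zero] at hab
    exact pow_ne_zero _ hf hab.symm
  have h1 : factorization a + factorization b = (n + m) • factorization f := by
    rw [← factorization_mul ha0 hb0, hab, factorization_pow]
  have h2 : (factorization a).support ⊆ (factorization f).support := by
    intro p hp
    rw [Finsupp.mem_support_iff] at hp ⊢
    intro h0
    have := DFunLike.congr_fun h1 p
    rw [Finsupp.add_apply, Finsupp.smul_apply, h0, smul_zero] at this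
    omega
  rw [val_eq R x ha0 (pow_ne_zero _ hf) ha', vZ_pow]
  intro p hp
  by_contra hpf
  have h3 : vZ a p = 0 := by
    rw [← Finsupp.notMem_support_iff, support_vZ]; exact fun h => hpf (h2 h)
  have h4 : vZ f p = 0 := by
    rw [← Finsupp.notMem_support_iff, support_vZ]; exact hpf
  rw [Finsupp.mem_support_iff, Finsupp.sub_apply, Finsupp.smul_apply, h3, h4] at hp
  simp at hp

include R in
/-- elements whose valuation is supported on the prime factors of `f` are units of `R_f`. -/
theorem exists_unit_of_support_val_subset (hf : f ≠ 0) (u : Kˣ)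
    (h : (val R u).support ⊆ (factorization f).support) : ∃ c : Bˣ, algebraMap B K c = u := by
  have hinj := IsFractionRing.injective R K
  set a := IsFractionRing.num R (u : K)
  set b : R := (IsFractionRing.den R (u : K) : R)
  have hb0 : b ≠ 0 := nonZeroDivisors.ne_zero (IsFractionRing.den R (u : K)).2
  have hbK : algebraMap R K b ≠ 0 := by rw [Ne, map_eq_zero_iff _ hinj]; exact hb0
  have hab : (u : K) * algebraMap R K b = algebraMap R K a := by
    have := IsFractionRing.mk'_num_den' R (u : K)
    rw [div_eq_iff hbK] at this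
    exact this.symm
  have ha0 : a ≠ 0 := by
    intro h0
    rw [h0, map_zero] at hab
    exact mul_ne_zero u.ne_zero hbK hab
  have hred : IsRelPrime a b := IsFractionRing.num_den_reduced R (u : K)
  have hdisj : ∀ p, p ∈ (factorization a).support → p ∈ (factorization b).support → False := by
    intro p hpa hpb
    have h1 := dvd_of_mem_support hpa
    have h2 := dvd_of_mem_support hpb
    have h3 : IsUnit p := hred h1 h2
    rw [support_factorization, Multiset.mem_toFinset] at hpa
    exact (prime_of_normalized_factor p hpa).not_isUnit h3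
  have hval := val_eq R u ha0 hb0 hab
  have hsa : (factorization a).support ⊆ (factorization f).support := by
    intro p hp
    apply h
    rw [Finsupp.mem_support_iff, hval, Finsupp.sub_apply]
    have h1 : vZ b p = 0 := by
      rw [← Finsupp.notMem_support_iff, support_vZ]; exact fun h' => hdisj p hp h'
    have h2 : vZ a p ≠ 0 := by
      rw [← Finsupp.mem_support_iff, support_vZ]; exact hp
    rw [h1, sub_zero]; exact h2
  have hsb : (factorization b).support ⊆ (factorization f).support := by
    intro p hp
    apply h
    rw [Finsupp.mem_support_iff, hval, Finsupp.sub_apply]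
    have h1 : vZ a p = 0 := by
      rw [← Finsupp.notMem_support_iff, support_vZ]; exact fun h' => hdisj p h' hp
    have h2 : vZ b p ≠ 0 := by
      rw [← Finsupp.mem_support_iff, support_vZ]; exact hp
    rw [h1, zero_sub, neg_ne_zero]; exact h2
  obtain ⟨N, hN⟩ := dvd_pow_of_support_subset ha0 hf hsa
  obtain ⟨M, hM⟩ := dvd_pow_of_support_subset hb0 hf hsb
  have hua : IsUnit (algebraMap R B a) :=
    (IsLocalization.Away.algebraMap_isUnit_iff (x := f) (S := B)).2 ⟨N, hN⟩
  have hub : IsUnit (algebraMap R B b) :=
    (IsLocalization.Away.algebraMap_isUnit_iff (x := f) (S := B)).2 ⟨M, hM⟩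
  refine ⟨hua.unit * hub.unit⁻¹, ?_⟩
  apply mul_right_cancel₀ hbK
  rw [hab, Units.val_mul, map_mul, mul_assoc]
  have h1 : algebraMap B K ((hub.unit⁻¹ : Bˣ) : B) * algebraMap R K b = 1 := by
    rw [IsScalarTower.algebraMap_apply R B K, ← map_mul]
    have : ((hub.unit⁻¹ : Bˣ) : B) * algebraMap R B b = 1 := by
      have := hub.unit.inv_mul
      rwa [IsUnit.unit_spec] at this
    rw [this, map_one]
  rw [h1, mul_one, IsUnit.unit_spec, ← IsScalarTower.algebraMap_apply]

end Away

section Cocycle

/-- the main algebraic lemma: a cocycle of "units" is a coboundary. -/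
theorem exists_units_of_cocycle {I : Type*} (f : I → R) (g : I → I → Kˣ)
    (hcoc : ∀ i j k, g i j * g j k = g i k)
    (hg : ∀ i j, (val R (g i j)).support ⊆
      (factorization (f i)).support ∪ (factorization (f j)).support) :
    ∃ u : I → Kˣ, (∀ i, (val R (u i)).support ⊆ (factorization (f i)).support) ∧
      ∀ i j, u i * g i j = u j := by
  rcases isEmpty_or_nonempty I with hI | ⟨⟨i₀⟩⟩
  · exact ⟨fun i => isEmptyElim i, fun i => isEmptyElim i, fun i => isEmptyElim i⟩
  let S : I → Finset R := fun i => (factorization (f i)).support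
  have hwd : ∀ i j p, p ∉ S i → p ∉ S j → val R (g i₀ i) p = val R (g i₀ j) p := by
    intro i j p hi hj
    have h1 : val R (g i j) p = 0 := by
      rw [← Finsupp.notMem_support_iff]
      intro h
      rcases Finset.mem_union.1 (hg i j h) with h | h
      · exact hi h
      · exact hj h
    rw [← hcoc i₀ i j, val_mul, Finsupp.add_apply, h1, add_zero]
  have hii : g i₀ i₀ = 1 := by
    have := hcoc i₀ i₀ i₀
    exact mul_eq_left.mp this
  let nfun : R → ℤ := fun p => if h : ∃ i, p ∉ S i then - val R (g i₀ h.choose) p else 0
  have hnfun : ∀ i p, p ∉ S i → nfun p = - val R (g i₀ i) p := by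
    intro i p hp
    have h : ∃ i, p ∉ S i := ⟨i, hp⟩
    simp only [nfun, dif_pos h]
    rw [hwd _ i p h.choose_spec hp]
  let n : R →₀ ℤ := Finsupp.onFinset (S i₀) nfun (by
    intro p hp
    by_contra hpS
    apply hp
    rw [hnfun i₀ p hpS, hii, val_one]
    simp)
  have hn : n.support ⊆ (factorization (f i₀)).support := Finsupp.support_onFinset_subset
  obtain ⟨D, hD⟩ := exists_val_eq R (K := K) (f i₀) n hn
  refine ⟨fun i => D * g i₀ i, fun i p hp => ?_, fun i j => ?_⟩
  · by_contra hpS
    rw [Finsupp.mem_support_iff, val_mul, hD, Finsupp.add_apply] at hp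
    apply hp
    change nfun p + _ = 0
    rw [hnfun i p hpS]
    ring
  · rw [mul_assoc, hcoc]

end Cocycle

end Val

section Wrap

variable (R) {K : Type*} [Field K] [Algebra R K] [IsFractionRing R K]

/-- the set of (normalized) prime factors. -/
def primeSupp (f : R) : Finset R := (factorization f).support

theorem primeSupp_mul_subset {a b : R} (ha : a ≠ 0) (hb : b ≠ 0) :
    primeSupp R (a * b) ⊆ primeSupp R a ∪ primeSupp R b := by
  unfold primeSupp
  rw [factorization_mul ha hb]
  exact Finsupp.support_add

theorem support_val_subset_primeSupp {B : Type*} [CommRing B] [Algebra R B] [Algebra B K]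
    [IsScalarTower R B K] (f : R) [IsLocalization.Away f B] (hf : f ≠ 0) (c : Bˣ) (x : Kˣ)
    (hx : (x : K) = algebraMap B K c) : (val R x).support ⊆ primeSupp R f :=
  support_val_subset_of_unit R f hf c x hx

theorem exists_unit_of_support_val_subset_primeSupp {B : Type*} [CommRing B] [Algebra R B]
    [Algebra B K] [IsScalarTower R B K] (f : R) [IsLocalization.Away f B] (hf : f ≠ 0) (u : Kˣ)
    (h : (val R u).support ⊆ primeSupp R f) : ∃ c : Bˣ, algebraMap B K c = u :=
  exists_unit_of_support_val_subset R f hf u h

theorem exists_units_of_cocycle' {I : Type*} (f : I → R) (g : I → I → Kˣ)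
    (hcoc : ∀ i j k, g i j * g j k = g i k)
    (hg : ∀ i j, (val R (g i j)).support ⊆ primeSupp R (f i) ∪ primeSupp R (f j)) :
    ∃ u : I → Kˣ, (∀ i, (val R (u i)).support ⊆ primeSupp R (f i)) ∧
      ∀ i j, u i * g i j = u j :=
  exists_units_of_cocycle R f g hcoc hg

end Wrap

end

end Groth.Agent.Lib.Helper20.UFDVal
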