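import Mathlib
import Groth.Agent.Lib.Helper20UFDVal
import Groth.Agent.Lib.Helper20ParaF6

set_option autoImplicit false
set_option linter.style.haveILetI false
set_option linter.unusedSectionVars false
universe u
open CategoryTheory CategoryTheory.Limits AlgebraicGeometry TopologicalSpace Opposite

namespace Groth.Agent.Lib.Helper20.UFDPic
open Groth.Agent.Lib.Helper6 Groth.Agent.Lib.Helper23.SecTw Groth.Agent.Lib.Helper23.GenLocus
open Groth.Agent.Lib.Helper20.ParaFLib Groth.Agent.Lib.Helper20.UFDVal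

variable {X : Scheme.{u}}

theorem isGen_unit_smul {M : X.Modules} {A : X.Opens} {e : Γ(M, A)} (he : IsGen M A e)
    (c : Γ(X, A)) (hc : IsUnit c) : IsGen M A (c • e) := by
  intro A' hA'
  have h1 := he A' hA'
  have hc' : IsUnit (resf hA' c) := hc.map _
  have h2 : (fun r : Γ(X, A') => r • res M hA' (c • e)) =
      (fun r : Γ(X, A') => r • res M hA' e) ∘ (fun r => r * resf hA' c) := by
    funext r
    simp only [Function.comp_apply]
    rw [res_smul, mul_smul]
  rw [h2]
  refine h1.comp ⟨fun a b hab => ?_, fun b => ?_⟩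
  · exact hc'.mul_left_injective hab
  · obtain ⟨d, hd⟩ := hc'.exists_left_inv
    exact ⟨b * d, by simp only; rw [mul_assoc, hd, mul_one]⟩

/-- being a generator is a local property. -/
theorem isGen_of_local (M : X.Modules) (U : X.Opens) (e : Γ(M, U))
    (h : ∀ x : X, x ∈ U → ∃ (A : X.Opens) (hA : A ≤ U), x ∈ A ∧ IsGen M A (res M hA e)) :
    IsGen M U e := by
  intro W hW
  let S : TopCat.Sheaf Ab X := modSheaf M
  choose A hA hxA hgen using h
  -- the local pieces
  have hle : ∀ x : W, W ⊓ A x.1 (hW x.2) ≤ W := fun x => inf_le_left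
  have hgen' : ∀ x : W, IsGen M (W ⊓ A x.1 (hW x.2))
      (res M ((hle x).trans hW) e) := by
    intro x
    have := (hgen x.1 (hW x.2)).mono (inf_le_right : W ⊓ A x.1 (hW x.2) ≤ A x.1 (hW x.2))
    rwa [res_res] at this
  have hcov : W ≤ ⨆ x : W, W ⊓ A x.1 (hW x.2) := fun y hy =>
    Opens.mem_iSup.2 ⟨⟨y, hy⟩, hy, hxA y (hW hy)⟩
  constructor
  · intro r r' hrr'
    refine X.sheaf.eq_of_locally_eq' (fun x : W => W ⊓ A x.1 (hW x.2)) W
      (fun x => homOfLE (hle x)) hcov r r' fun x => ?_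
    apply ((hgen' x) _ le_rfl).1
    change resf (hle x) r • res M le_rfl (res M ((hle x).trans hW) e) =
      resf (hle x) r' • res M le_rfl (res M ((hle x).trans hW) e)
    rw [res_res]
    have h1 := congrArg (res M (hle x)) hrr'
    simp only [res_smul, res_res] at h1
    exact h1
  · intro m
    have hex : ∀ x : W, ∃ r : Γ(X, W ⊓ A x.1 (hW x.2)),
        r • res M ((hle x).trans hW) e = res M (hle x) m := by
      intro x
      obtain ⟨r, hr⟩ := ((hgen' x) _ le_rfl).2 (res M (hle x) m)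
      refine ⟨r, ?_⟩
      have hr' : r • res M le_rfl (res M ((hle x).trans hW) e) = res M (hle x) m := hr
      rwa [res_res] at hr'
    choose rf hrf using hex
    have hcompat : TopCat.Presheaf.IsCompatible X.presheaf (fun x : W => W ⊓ A x.1 (hW x.2)) rf := by
      intro x x'
      have hg := (hgen' x).mono (inf_le_left :
        (W ⊓ A x.1 (hW x.2)) ⊓ (W ⊓ A x'.1 (hW x'.2)) ≤ W ⊓ A x.1 (hW x.2))
      apply (hg _ le_rfl).1
      change resf inf_le_left (rf x) • res M le_rfl (res M _ (res M _ e)) =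
        resf inf_le_right (rf x') • res M le_rfl (res M _ (res M _ e))
      rw [res_res, res_res]
      have h1 := congrArg (res M (inf_le_left :
        (W ⊓ A x.1 (hW x.2)) ⊓ (W ⊓ A x'.1 (hW x'.2)) ≤ W ⊓ A x.1 (hW x.2))) (hrf x)
      have h2 := congrArg (res M (inf_le_right :
        (W ⊓ A x.1 (hW x.2)) ⊓ (W ⊓ A x'.1 (hW x'.2)) ≤ W ⊓ A x'.1 (hW x'.2))) (hrf x')
      simp only [res_smul, res_res] at h1 h2
      exact h1.trans h2.symm
    obtain ⟨r0, hr0, -⟩ := X.sheaf.existsUnique_gluing' (fun x : W => W ⊓ A x.1 (hW x.2)) W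
      (fun x => homOfLE (hle x)) hcov rf hcompat
    let r1 : Γ(X, W) := r0
    have hr1 : ∀ x : W, resf (hle x) r1 = rf x := hr0
    refine ⟨r1, ?_⟩
    refine S.eq_of_locally_eq' (fun x : W => W ⊓ A x.1 (hW x.2)) W
      (fun x => homOfLE (hle x)) hcov _ _ fun x => ?_
    change res M (hle x) (r1 • res M hW e) = res M (hle x) m
    rw [res_smul, res_res, hr1, hrf]

end Groth.Agent.Lib.Helper20.UFDPic

namespace Groth.Agent.Lib.Helper20.UFDPic
open Groth.Agent.Lib.Helper6 Groth.Agent.Lib.Helper23.SecTw Groth.Agent.Lib.Helper23.GenLocus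
open Groth.Agent.Lib.Helper20.ParaFLib Groth.Agent.Lib.Helper20.UFDVal

section Core

variable {X : Scheme.{u}} [IsIntegral X]

theorem nonempty_of_ne_bot {A : X.Opens} (h : A ≠ ⊥) : Nonempty A := by
  by_contra hne
  rw [not_nonempty_iff] at hne
  apply h
  ext x
  simp only [Opens.coe_bot, Set.mem_empty_iff_false, iff_false]
  exact fun hx => hne.false ⟨x, hx⟩

theorem nonempty_basicOpen {f : Γ(X, ⊤)} (hf : f ≠ 0) : Nonempty (X.basicOpen f) :=
  nonempty_of_ne_bot (fun h => hf ((basicOpen_eq_bot_iff f).1 h))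

/-- the embedding of sections into the function field. -/
noncomputable def ρ (A : X.Opens) [Nonempty A] : Γ(X, A) →+* X.functionField :=
  (X.germToFunctionField A).hom

theorem ρ_injective (A : X.Opens) [Nonempty A] : Function.Injective (ρ A) :=
  X.germToFunctionField_injective A

theorem ρ_resf {A A' : X.Opens} [Nonempty A] [Nonempty A'] (h : A' ≤ A) (c : Γ(X, A)) :
    ρ A' (resf h c) = ρ A c := by
  have := X.presheaf.germ_res (homOfLE h) (genericPoint X)
    (((genericPoint_spec X).mem_open_set_iff A'.isOpen).mpr (by simpa using ‹Nonempty A'›))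
  exact congrArg (fun φ => φ.hom c) this

end Core

end Groth.Agent.Lib.Helper20.UFDPic

namespace Groth.Agent.Lib.Helper20.UFDPic
open Groth.Agent.Lib.Helper6 Groth.Agent.Lib.Helper23.SecTw Groth.Agent.Lib.Helper23.GenLocus
open Groth.Agent.Lib.Helper20.ParaFLib Groth.Agent.Lib.Helper20.UFDVal

section Core2

variable {X : Scheme.{u}} [IsIntegral X]

instance instNonemptyTop : Nonempty (⊤ : X.Opens) := ⟨⟨genericPoint X, trivial⟩⟩

theorem isScalarTower_basicOpen (f : Γ(X, ⊤)) [Nonempty (X.basicOpen f)] :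
    IsScalarTower Γ(X, ⊤) Γ(X, X.basicOpen f) X.functionField := by
  refine IsScalarTower.of_algebraMap_eq' ?_
  ext c
  exact (ρ_resf (X.basicOpen_le f) c).symm

variable [IsAffine X] [UniqueFactorizationMonoid Γ(X, ⊤)]

/-- a trivialising chart. -/
structure Chart (M : X.Modules) (U : X.Opens) where
  /-- the function -/
  f : Γ(X, ⊤)
  hf : f ≠ 0
  hle : X.basicOpen f ≤ U
  /-- the generator -/
  e : Γ(M, X.basicOpen f)
  he : IsGen M (X.basicOpen f) e

variable {M : X.Modules} {U : X.Opens}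

theorem inf_basicOpen_ne_bot (i j : Chart M U) : X.basicOpen i.f ⊓ X.basicOpen j.f ≠ ⊥ := by
  rw [← Scheme.basicOpen_mul]
  exact fun h => mul_ne_zero i.hf j.hf ((basicOpen_eq_bot_iff _).1 h)

theorem inf3_basicOpen_ne_bot (i j k : Chart M U) :
    X.basicOpen i.f ⊓ X.basicOpen j.f ⊓ X.basicOpen k.f ≠ ⊥ := by
  rw [← Scheme.basicOpen_mul, ← Scheme.basicOpen_mul]
  exact fun h => mul_ne_zero (mul_ne_zero i.hf j.hf) k.hf ((basicOpen_eq_bot_iff _).1 h)

/-- the transition function. -/
noncomputable def tr (i j : Chart M U) : Γ(X, X.basicOpen i.f ⊓ X.basicOpen j.f) :=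
  coef j.he inf_le_right (res M inf_le_left i.e)

theorem tr_spec (i j : Chart M U) :
    tr i j • res M inf_le_right j.e = res M inf_le_left i.e :=
  coef_spec j.he inf_le_right _

theorem isUnit_tr (i j : Chart M U) : IsUnit (tr i j) := by
  have hi := i.he.mono (inf_le_left : X.basicOpen i.f ⊓ X.basicOpen j.f ≤ X.basicOpen i.f)
  have hj := j.he.mono (inf_le_right : X.basicOpen i.f ⊓ X.basicOpen j.f ≤ X.basicOpen j.f)
  have h1 := Groth.Agent.Lib.Helper23.PB.isUnit_coef_of_isGen hj hi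
  have h2 : tr i j = coef hj le_rfl (res M inf_le_left i.e) := by
    apply coef_unique
    rw [res_self]
    exact tr_spec i j
  rw [h2]; exact h1

theorem tr_cocycle (i j k : Chart M U) :
    resf (inf_le_left : X.basicOpen i.f ⊓ X.basicOpen j.f ⊓ X.basicOpen k.f ≤ _) (tr i j) *
      resf (le_inf (inf_le_left.trans inf_le_right) inf_le_right :
        X.basicOpen i.f ⊓ X.basicOpen j.f ⊓ X.basicOpen k.f ≤ X.basicOpen j.f ⊓ X.basicOpen k.f) (tr j k) =
      resf (le_inf (inf_le_left.trans inf_le_left) inf_le_right :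
        X.basicOpen i.f ⊓ X.basicOpen j.f ⊓ X.basicOpen k.f ≤ X.basicOpen i.f ⊓ X.basicOpen k.f) (tr i k) := by
  have hT : X.basicOpen i.f ⊓ X.basicOpen j.f ⊓ X.basicOpen k.f ≤ X.basicOpen k.f := inf_le_right
  apply (k.he _ hT).1
  simp only
  have h1 := congrArg (res M (inf_le_left :
    X.basicOpen i.f ⊓ X.basicOpen j.f ⊓ X.basicOpen k.f ≤ X.basicOpen i.f ⊓ X.basicOpen j.f)) (tr_spec i j)
  have h2 := congrArg (res M (le_inf (inf_le_left.trans inf_le_right) inf_le_right :
    X.basicOpen i.f ⊓ X.basicOpen j.f ⊓ X.basicOpen k.f ≤ X.basicOpen j.f ⊓ X.basicOpen k.f)) (tr_spec j k)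
  have h3 := congrArg (res M (le_inf (inf_le_left.trans inf_le_left) inf_le_right :
    X.basicOpen i.f ⊓ X.basicOpen j.f ⊓ X.basicOpen k.f ≤ X.basicOpen i.f ⊓ X.basicOpen k.f)) (tr_spec i k)
  simp only [res_smul, res_res] at h1 h2 h3
  rw [mul_smul, h2, h1, h3]

open Classical in
/-- the core statement on an affine integral scheme with factorial ring of functions. -/
theorem triv_of_charts (hcov : ∀ x : X, x ∈ U → ∃ c : Chart M U, x ∈ X.basicOpen c.f) :
    Triv M U := by
  haveI hne1 : ∀ i : Chart M U, Nonempty (X.basicOpen i.f) := fun i => nonempty_basicOpen i.hf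
  haveI hne2 : ∀ i j : Chart M U, Nonempty (X.basicOpen i.f ⊓ X.basicOpen j.f : X.Opens) :=
    fun i j => nonempty_of_ne_bot (inf_basicOpen_ne_bot i j)
  haveI hne3 : ∀ i j k : Chart M U,
      Nonempty (X.basicOpen i.f ⊓ X.basicOpen j.f ⊓ X.basicOpen k.f : X.Opens) :=
    fun i j k => nonempty_of_ne_bot (inf3_basicOpen_ne_bot i j k)
  haveI hnem : ∀ i j : Chart M U, Nonempty (X.basicOpen (i.f * j.f)) :=
    fun i j => nonempty_basicOpen (mul_ne_zero i.hf j.hf)
  haveI hfrac : IsFractionRing Γ(X, ⊤) X.functionField :=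
    functionField_isFractionRing_of_isAffineOpen X ⊤ (isAffineOpen_top X)
  haveI hst : ∀ f : Γ(X, ⊤), ∀ [Nonempty (X.basicOpen f)],
      IsScalarTower Γ(X, ⊤) Γ(X, X.basicOpen f) X.functionField := fun f => isScalarTower_basicOpen f
  -- the cocycle in the function field
  let g : Chart M U → Chart M U → (X.functionField)ˣ := fun i j =>
    Units.map (ρ (X.basicOpen i.f ⊓ X.basicOpen j.f)).toMonoidHom (isUnit_tr i j).unit
  have hgval : ∀ i j, ((g i j : (X.functionField)ˣ) : X.functionField) =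
      ρ (X.basicOpen i.f ⊓ X.basicOpen j.f) (tr i j) := fun i j => rfl
  have hcoc : ∀ i j k, g i j * g j k = g i k := by
    intro i j k
    apply Units.ext
    rw [Units.val_mul, hgval, hgval, hgval]
    rw [← ρ_resf (inf_le_left : X.basicOpen i.f ⊓ X.basicOpen j.f ⊓ X.basicOpen k.f ≤ _) (tr i j),
      ← ρ_resf (le_inf (inf_le_left.trans inf_le_right) inf_le_right :
        X.basicOpen i.f ⊓ X.basicOpen j.f ⊓ X.basicOpen k.f ≤ X.basicOpen j.f ⊓ X.basicOpen k.f) (tr j k),
      ← ρ_resf (le_inf (inf_le_left.trans inf_le_left) inf_le_right :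
        X.basicOpen i.f ⊓ X.basicOpen j.f ⊓ X.basicOpen k.f ≤ X.basicOpen i.f ⊓ X.basicOpen k.f) (tr i k),
      ← map_mul, tr_cocycle]
  have hsupp : ∀ i j, (val Γ(X, ⊤) (g i j)).support ⊆
      primeSupp Γ(X, ⊤) i.f ∪ primeSupp Γ(X, ⊤) j.f := by
    intro i j
    refine subset_trans ?_ (primeSupp_mul_subset Γ(X, ⊤) i.hf j.hf)
    have hle : X.basicOpen (i.f * j.f) ≤ X.basicOpen i.f ⊓ X.basicOpen j.f :=
      (Scheme.basicOpen_mul X i.f j.f).le
    have hu : IsUnit (resf hle (tr i j)) := (isUnit_tr i j).map _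
    refine support_val_subset_primeSupp Γ(X, ⊤) (B := Γ(X, X.basicOpen (i.f * j.f))) (i.f * j.f)
      (mul_ne_zero i.hf j.hf) hu.unit (g i j) ?_
    rw [hgval, IsUnit.unit_spec]
    exact (ρ_resf hle (tr i j)).symm
  obtain ⟨u, hu1, hu2⟩ := exists_units_of_cocycle' Γ(X, ⊤) (fun i : Chart M U => i.f) g hcoc hsupp
  -- the new generators
  have hex : ∀ i : Chart M U, ∃ c : (Γ(X, X.basicOpen i.f))ˣ,
      ρ (X.basicOpen i.f) c = u i := fun i =>
    exists_unit_of_support_val_subset_primeSupp Γ(X, ⊤) (B := Γ(X, X.basicOpen i.f)) i.f i.hf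
      (u i) (hu1 i)
  choose ut hut using hex
  let e' : ∀ i : Chart M U, Γ(M, X.basicOpen i.f) := fun i => ((ut i : Γ(X, X.basicOpen i.f))) • i.e
  have hcompat : TopCat.Presheaf.IsCompatible M.presheaf (fun i : Chart M U => X.basicOpen i.f) e' := by
    intro i j
    change res M inf_le_left (e' i) = res M inf_le_right (e' j)
    simp only [e', res_smul]
    rw [← tr_spec i j, ← mul_smul]
    congr 1
    apply ρ_injective
    rw [map_mul, ρ_resf, ρ_resf, hut, hut, ← hgval, ← Units.val_mul, hu2]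
  have hcovU : U ≤ ⨆ i : Chart M U, X.basicOpen i.f := by
    intro x hx
    obtain ⟨c, hc⟩ := hcov x hx
    exact Opens.mem_iSup.2 ⟨c, hc⟩
  obtain ⟨e0, he0, -⟩ := (modSheaf M).existsUnique_gluing' (fun i : Chart M U => X.basicOpen i.f) U
    (fun i => homOfLE i.hle) hcovU e' hcompat
  let e1 : Γ(M, U) := e0
  have he1 : ∀ i : Chart M U, res M i.hle e1 = e' i := he0
  refine ⟨e1, isGen_of_local M U e1 fun x hx => ?_⟩
  obtain ⟨c, hc⟩ := hcov x hx
  refine ⟨X.basicOpen c.f, c.hle, hc, ?_⟩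
  rw [he1]
  exact isGen_unit_smul c.he _ (ut c).isUnit

omit [IsIntegral X] [IsAffine X] [UniqueFactorizationMonoid Γ(X, ⊤)] in
theorem bijective_ι_app (U : X.Opens) (W : X.Opens) (hW : W ≤ U) :
    Function.Bijective (U.ι.app W) := by
  rw [Scheme.Opens.ι_app]
  refine bijective_resf_of_eq' ?_ _
  rw [Scheme.Hom.image_preimage_eq_opensRange_inf, Scheme.Opens.opensRange_ι]
  exact inf_eq_right.2 hW

/-- invertible modules on open subschemes of an affine integral scheme with factorial ring of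
functions are trivial. -/
theorem nonempty_iso_structureModule_of_ufd (U : X.Opens) (L : (↑U : Scheme.{u}).Modules)
    (hL : PicF.IsInvertible L) : Nonempty (L ≅ Coh.structureModule (↑U : Scheme.{u})) := by
  let M := (Scheme.Modules.pushforward U.ι).obj L
  have hM : Triv M U := by
    refine triv_of_charts fun x hx => ?_
    obtain ⟨W₀, hxW₀, hW₀⟩ := exists_triv L hL ⟨x, hx⟩
    have hx' : x ∈ U.ι ''ᵁ W₀ := ⟨⟨x, hx⟩, hxW₀, rfl⟩
    obtain ⟨_, ⟨f, rfl⟩, hxf, hfW'⟩ := Opens.isBasis_iff_nbhd.1 (isBasis_basicOpen X) hx'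
    have hle : X.basicOpen f ≤ U := hfW'.trans (U.ι_image_le W₀)
    have hle' : U.ι ⁻¹ᵁ X.basicOpen f ≤ W₀ := by
      intro y hy
      obtain ⟨w, hw, hwy⟩ := hfW' hy
      have : w = y := U.ι.isOpenEmbedding.injective hwy
      rwa [← this]
    have hf : f ≠ 0 := by
      rintro rfl
      rw [Scheme.basicOpen_zero] at hxf
      exact hxf
    obtain ⟨e, he⟩ := Triv.pushforward U.ι L (X.basicOpen f)
      (fun W' hW' => bijective_ι_app U W' (hW'.trans hle)) (hW₀.mono hle')
    exact ⟨⟨f, hf, hle, e, he⟩, hxf⟩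
  have h1 : Triv M (U.ι ''ᵁ ⊤) := hM.of_eq (by
    rw [Scheme.Hom.image_top_eq_opensRange, Scheme.Opens.opensRange_ι])
  have h2 : Triv L ⊤ :=
    (h1.restrict U.ι).of_iso ((Scheme.Modules.restrictFunctorAdjCounitIso U.ι).app L)
  exact nonempty_iso_of_triv_top L h2

end Core2

/-- S0233. -/
theorem nonempty_iso_structureModule_of_spec_ufd (R : Type u) [CommRing R] [IsDomain R]
    [UniqueFactorizationMonoid R] (U : (Spec (CommRingCat.of R)).Opens)
    (L : (U : Scheme.{u}).Modules) (hL : PicF.IsInvertible L) :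
    Nonempty (L ≅ Coh.structureModule (U : Scheme.{u})) := by
  haveI : UniqueFactorizationMonoid Γ(Spec (CommRingCat.of R), ⊤) :=
    (Scheme.ΓSpecIso (CommRingCat.of R)).commRingCatIsoToRingEquiv.symm.toMulEquiv.uniqueFactorizationMonoid
      inferInstance
  exact nonempty_iso_structureModule_of_ufd U L hL

end Groth.Agent.Lib.Helper20.UFDPic
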