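import Groth.Agent.Lib.Helper27PicPn2
import Groth.Agent.Lib.Helper27ChartPoly
import Groth.Agent.Lib.Helper20UFDPic

/-!
# The Picard group of projective space over a factorial domain (helper27)

* `exists_iso_twist` : every invertible module on `P^n_R`, `R` a factorial domain, is some `O(d)`.
-/

set_option autoImplicit false
set_option linter.unusedSectionVars false
universe u

open CategoryTheory CategoryTheory.Limits AlgebraicGeometry TopologicalSpace Opposite
  HomogeneousLocalization MvPolynomial
open Groth.Agent.Lib.Helper23.SecTw Groth.Agent.Lib.Helper6 Groth.Agent.Lib.Helper27GrTildeSect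
open Groth.Agent.Lib.Helper20.ParaFLib

namespace Groth.Agent.Lib.Helper27PicPn

variable {n : ℕ} {R : Type u} [CommRing R] [IsDomain R]

local notation "𝒢" => CohB1.polyGrading n R

/-- the chart ring is a polynomial ring. -/
noncomputable def awayEquiv (i : Fin (n + 1)) :
    Away 𝒢 (X i) ≃+* MvPolynomial {j : Fin (n + 1) // j ≠ i} R :=
  RingEquiv.ofRingHom (Groth.Agent.Lib.Helper27ChartPoly.toPoly n R i)
    (Groth.Agent.Lib.Helper27ChartPoly.ofPoly n R i)
    (Groth.Agent.Lib.Helper27ChartPoly.toPoly_comp_ofPoly n R i)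
    (Groth.Agent.Lib.Helper27ChartPoly.ofPoly_comp_toPoly n R i)

variable [UniqueFactorizationMonoid R]

theorem picTrivial_chart (i : Fin (n + 1)) :
    ParaF.PicTrivial (↑(U (n := n) (R := R) i) : Scheme.{u}) := by
  have hdom : IsDomain (Away 𝒢 (X i)) :=
    MulEquiv.isDomain (MvPolynomial {j : Fin (n + 1) // j ≠ i} R) (awayEquiv i).toMulEquiv
  have hufd : UniqueFactorizationMonoid (Away 𝒢 (X i)) :=
    (awayEquiv i).symm.toMulEquiv.uniqueFactorizationMonoid inferInstance
  have h0 : ParaF.PicTrivial
      (↑(⊤ : (Spec (CommRingCat.of (Away 𝒢 (X i)))).Opens) : Scheme.{u}) := fun L hL =>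
    Groth.Agent.Lib.Helper20.UFDPic.nonempty_iso_structureModule_of_spec_ufd (Away 𝒢 (X i)) ⊤ L hL
  have h1 : ParaF.PicTrivial (Spec (CommRingCat.of (Away 𝒢 (X i)))) :=
    picTrivial_of_iso (Scheme.topIso _).inv h0
  exact picTrivial_of_iso (Proj.basicOpenIsoSpec 𝒢 (X i) (X_mem_one i) one_pos).hom h1

theorem exists_frame (M : (Proj 𝒢).Modules) (hM : PicF.IsInvertible M) (i : Fin (n + 1)) :
    ∃ e : Γ(M, U (n := n) (R := R) i), IsGen M (U i) e := by
  have hL' : PicF.IsInvertible (M.restrict (U (n := n) (R := R) i).ι) :=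
    Groth.Agent.Lib.Helper23.RestrJ.isInvertible_restrict (U i).ι M hM
  have t1 : Triv (M.restrict (U (n := n) (R := R) i).ι) ⊤ :=
    triv_top_of_iso _ (picTrivial_chart i _ hL')
  have t2 := t1.of_restrict (U (n := n) (R := R) i).ι
  rw [Scheme.Hom.image_top_eq_opensRange, Scheme.Opens.opensRange_ι] at t2
  exact t2

/-- every invertible module on projective space over a factorial domain is a twisting sheaf. -/
theorem exists_iso_twist (M : (Proj 𝒢).Modules) (hM : PicF.IsInvertible M) :
    ∃ d : ℤ, Nonempty (M ≅ Twist.twist 𝒢 d) := by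
  choose e he using exists_frame M hM
  exact exists_iso_tilde_of_frames M e he

end Groth.Agent.Lib.Helper27PicPn
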