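import Groth.Agent.Lib.Helper27PnSections

/-!
# `O(d)` on `P^n_R`, `n ≥ 1`, has no nonzero global sections for `d < 0` (helper27)
-/

set_option autoImplicit false
universe u

open CategoryTheory CategoryTheory.Limits AlgebraicGeometry TopologicalSpace Opposite
  HomogeneousLocalization MvPolynomial

namespace Groth.Agent.Lib.Helper27PnSections

open Groth.Agent.Lib.Helper27GrTildeSect Groth.Agent.Lib.Helper27ProjGamma

variable (n : ℕ) (R : Type u) [CommRing R]

local notation "𝒫" => CohB1.polyGrading n R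

/-- on the chart `D₊(T_i)`, a global section of `O(d)`, `d : ℤ`, is a single fraction `m / T_i^k`. -/
theorem exists_chart_rep_int (d : ℤ) (σ : Γ(GrTilde.tilde 𝒫 𝒫 d, ⊤)) (i : Fin (n + 1)) :
    ∃ (k i' : ℕ) (m : MvPolynomial (Fin (n + 1)) R) (_ : m ∈ CohB1.polyGrading n R i'),
      (i' : ℤ) = k + d ∧
      ∀ (y : ProjectiveSpectrum 𝒫)
        (hy : (X i : MvPolynomial (Fin (n + 1)) R) ∉ y.asHomogeneousIdeal),
        (secVal 𝒫 𝒫 d ⊤ σ y trivial : Twist.Loc 𝒫 y) =
          Localization.mk m (⟨X i ^ k, X_pow_not_mem n R i k y hy⟩ :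
            y.asHomogeneousIdeal.toIdeal.primeCompl) := by
  let t : Γ(GrTilde.tilde 𝒫 𝒫 d, Proj.basicOpen 𝒫 (X i)) :=
    (GrTilde.tilde 𝒫 𝒫 d).presheaf.map (homOfLE (le_top : Proj.basicOpen 𝒫 (X i) ≤ ⊤)).op σ
  obtain ⟨K, i', ⟨m, hm⟩, hi, hval⟩ := exists_global (toSect 𝒫 𝒫 d _ t) Nat.one_pos
    (hX n R i)
  refine ⟨K, i', m, hm, by rw [hi]; push_cast; ring, fun y hy => ?_⟩
  have hyU : y ∈ Proj.basicOpen 𝒫 (X i) := (ProjectiveSpectrum.mem_basicOpen 𝒫 (X i) y).mpr hy
  have h1 := hval ⟨y, hyU⟩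
  have h2 : secVal 𝒫 𝒫 d _ t y hyU = secVal 𝒫 𝒫 d ⊤ σ y trivial :=
    secVal_map 𝒫 𝒫 d le_top σ y hyU
  rw [← h2]
  exact h1

/-- for `d < 0` and `n ≥ 1`, `O(d)` has no nonzero global sections. -/
theorem eq_zero_of_neg (hn : 1 ≤ n) (d : ℤ) (hd : d < 0) (σ : Γ(GrTilde.tilde 𝒫 𝒫 d, ⊤)) :
    σ = 0 := by
  classical
  have hrep : ∀ i : Fin (n + 1), ∀ (y : ProjectiveSpectrum 𝒫)
      (_ : (X i : MvPolynomial (Fin (n + 1)) R) ∉ y.asHomogeneousIdeal),
      (secVal 𝒫 𝒫 d ⊤ σ y trivial : Twist.Loc 𝒫 y) = 0 := by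
    intro i
    obtain ⟨j, hij⟩ : ∃ j : Fin (n + 1), i ≠ j := by
      by_cases h0 : i = 0
      · refine ⟨1, ?_⟩
        rw [h0]
        intro h
        have := congrArg Fin.val h
        rw [Fin.val_one', Fin.val_zero] at this
        have h2 : 1 % (n + 1) = 1 := Nat.mod_eq_of_lt (by omega)
        omega
      · exact ⟨0, h0⟩
    obtain ⟨ki, ii, mi, hmi, hii, hvali⟩ := exists_chart_rep_int n R d σ i
    obtain ⟨kj, ij, mj, hmj, hij', hvalj⟩ := exists_chart_rep_int n R d σ j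
    -- overlap identity
    have hdeg : kj + ii = ki + ij := by
      have : ((kj + ii : ℕ) : ℤ) = ((ki + ij : ℕ) : ℤ) := by push_cast; rw [hii, hij']; ring
      exact_mod_cast this
    have h1 : (X j ^ kj * mi : MvPolynomial (Fin (n + 1)) R) ∈ CohB1.polyGrading n R (kj + ii) :=
      (isHomogeneous_X_pow (R := R) j kj).mul hmi
    have h2 : (X i ^ ki * mj : MvPolynomial (Fin (n + 1)) R) ∈ CohB1.polyGrading n R (kj + ii) := by
      have := (isHomogeneous_X_pow (R := R) i ki).mul hmj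
      rw [← hdeg] at this
      exact this
    have hg : (X i * X j : MvPolynomial (Fin (n + 1)) R) ∈ CohB1.polyGrading n R 2 :=
      (isHomogeneous_X R i).mul (isHomogeneous_X R j)
    have hreg : IsRegular (X i * X j : MvPolynomial (Fin (n + 1)) R) :=
      isRegular_X.mul isRegular_X
    have h0 := eq_zero_of_local n R (by norm_num : 0 < 2) hg hreg (Submodule.sub_mem _ h1 h2)
      (fun y hy => by
        obtain ⟨hyi, hyj⟩ := not_mem_of_mul_not_mem n R y hy
        have h3 := (hvali y hyi).symm.trans (hvalj y hyj)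
        rw [Localization.mk_eq_mk_iff, Localization.r_iff_exists] at h3
        obtain ⟨c, hc⟩ := h3
        refine ⟨c.1, c.2, ?_⟩
        simp only at hc
        rw [mul_sub, hc, sub_self])
    have key : X j ^ kj * mi = X i ^ ki * mj := sub_eq_zero.mp h0
    have hsupp := le_of_overlap hij ki kj mi mj key
    have hmi0 : mi = 0 := by
      ext mm
      rw [coeff_zero]
      by_contra hne
      have h3 := hsupp mm hne
      have h4 : Finsupp.weight (1 : Fin (n + 1) → ℕ) mm = ii := hmi hne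
      have h5 : Finsupp.weight (1 : Fin (n + 1) → ℕ) mm = Finsupp.degree mm := by
        rw [Finsupp.degree_eq_weight_one]; rfl
      have h6 : mm i ≤ Finsupp.degree mm := Finsupp.le_degree i mm
      have h7 : (ii : ℤ) < ki := by rw [hii]; omega
      have h8 : ii < ki := by exact_mod_cast h7
      omega
    intro y hy
    rw [hvali y hy, hmi0, Localization.mk_zero]
  apply sec_ext
  intro y hy
  obtain ⟨i, hi⟩ := exists_X_not_mem n R y
  change (secVal 𝒫 𝒫 d ⊤ σ y hy : Twist.Loc 𝒫 y) = (secVal 𝒫 𝒫 d ⊤ 0 y hy : Twist.Loc 𝒫 y)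
  rw [hrep i y hi]
  rfl

end Groth.Agent.Lib.Helper27PnSections
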