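import Groth.Agent.Lib.Helper27ProjGamma

/-!
# Global functions on projective space: geometry (helper27)
-/

set_option autoImplicit false
universe u

open CategoryTheory AlgebraicGeometry HomogeneousLocalization

namespace Groth.Agent.Lib.Helper27ProjGamma

variable (n : ℕ) (R : Type u) [CommRing R]

theorem irrelevant_le :
    (HomogeneousIdeal.irrelevant (CohB1.polyGrading n R)).toIdeal ≤
      Ideal.span (Set.range (fun k : Fin (n + 1) =>
        (MvPolynomial.X k : MvPolynomial (Fin (n + 1)) R))) := by
  intro x hx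
  have h0 : GradedRing.proj (CohB1.polyGrading n R) 0 x = 0 :=
    (HomogeneousIdeal.mem_irrelevant_iff _ _).1 hx
  have : Set.range (fun k : Fin (n + 1) => (MvPolynomial.X k : MvPolynomial (Fin (n + 1)) R)) =
      MvPolynomial.X '' (Set.univ : Set (Fin (n + 1))) := by
    rw [Set.image_univ]
  rw [this, MvPolynomial.mem_ideal_span_X_image]
  intro m hm
  by_contra hcon
  push Not at hcon
  have hm0 : m = 0 := by
    ext i
    simpa using hcon i (Set.mem_univ i)
  subst hm0
  have hc : MvPolynomial.coeff 0 x = 0 := by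
    have h1 : MvPolynomial.coeff 0 (GradedRing.proj (CohB1.polyGrading n R) 0 x) =
        MvPolynomial.coeff 0 x := by
      rw [GradedRing.proj_apply]
      have h2 : ((DirectSum.decompose (CohB1.polyGrading n R) x) 0 :
          MvPolynomial (Fin (n + 1)) R) =
          MvPolynomial.homogeneousComponent 0 x :=
        MvPolynomial.decomposition.decompose'_apply x 0
      rw [h2, MvPolynomial.coeff_homogeneousComponent]
      simp
    rw [← h1, h0]
    simp
  exact (MvPolynomial.mem_support_iff.1 hm) hc

/-- the standard chart `Spec (A_(X_i)) ⟶ P^n`. -/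
noncomputable abbrev chartι (i : Fin (n + 1)) :
    Spec (.of (Away (CohB1.polyGrading n R) (MvPolynomial.X i))) ⟶ Proj (CohB1.polyGrading n R) :=
  Proj.awayι (CohB1.polyGrading n R) (MvPolynomial.X i) (hX n R i) Nat.one_pos

/-- the value of a global section on the `i`-th chart. -/
noncomputable def chart (i : Fin (n + 1)) (s : Γ(Proj (CohB1.polyGrading n R), ⊤)) :
    Away (CohB1.polyGrading n R) (MvPolynomial.X i) :=
  (Scheme.ΓSpecIso _).hom ((chartι n R i).appTop s)

theorem chart_toSpecZero (i : Fin (n + 1)) (t : Γ(Spec (.of (CohB1.polyGrading n R 0)), ⊤)) :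
    chart n R i ((Proj.toSpecZero (CohB1.polyGrading n R)).appTop t) =
      fromZeroRingHom _ _ ((Scheme.ΓSpecIso _).hom t) := by
  have h1 := Proj.awayι_toSpecZero (CohB1.polyGrading n R) (MvPolynomial.X i) (hX n R i)
    Nat.one_pos
  have h2 := congrArg Scheme.Hom.appTop h1
  rw [Scheme.Hom.comp_appTop] at h2
  have h3 := Scheme.ΓSpecIso_naturality (CommRingCat.ofHom
    (fromZeroRingHom (CohB1.polyGrading n R) (Submonoid.powers (MvPolynomial.X i))))
  rw [← h2] at h3
  exact congr($h3 t)

/-- the chart for `X_i X_j`. -/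
noncomputable abbrev chartι₂ (i j : Fin (n + 1)) :
    Spec (.of (Away (CohB1.polyGrading n R)
      (MvPolynomial.X i * MvPolynomial.X j : MvPolynomial (Fin (n + 1)) R))) ⟶
      Proj (CohB1.polyGrading n R) :=
  Proj.awayι (CohB1.polyGrading n R) (MvPolynomial.X i * MvPolynomial.X j)
    (SetLike.mul_mem_graded (hX n R i) (hX n R j)) (Nat.one_pos.trans_le (Nat.le_add_right 1 1))

theorem awayMap_chart_left (i j : Fin (n + 1)) (s : Γ(Proj (CohB1.polyGrading n R), ⊤)) :
    awayMap (CohB1.polyGrading n R) (hX n R j)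
        (rfl : (MvPolynomial.X i * MvPolynomial.X j : MvPolynomial (Fin (n + 1)) R) = _)
        (chart n R i s) =
      (Scheme.ΓSpecIso _).hom ((chartι₂ n R i j).appTop s) := by
  have h1 := Proj.SpecMap_awayMap_awayι (CohB1.polyGrading n R) (hX n R i) Nat.one_pos
    (hX n R j) (rfl : (MvPolynomial.X i * MvPolynomial.X j : MvPolynomial (Fin (n + 1)) R) = _)
  have h2 := congrArg Scheme.Hom.appTop h1
  rw [Scheme.Hom.comp_appTop] at h2
  have h3 := Scheme.ΓSpecIso_naturality (CommRingCat.ofHom
    (awayMap (CohB1.polyGrading n R) (hX n R j)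
      (rfl : (MvPolynomial.X i * MvPolynomial.X j : MvPolynomial (Fin (n + 1)) R) = _)))
  have h4 := congr($h3 ((chartι n R i).appTop s))
  have h5 := congr($h2 s)
  rw [CommRingCat.comp_apply] at h4 h5
  rw [h5] at h4
  exact h4.symm

theorem awayMap_chart_right (i j : Fin (n + 1)) (s : Γ(Proj (CohB1.polyGrading n R), ⊤)) :
    awayMap (CohB1.polyGrading n R) (hX n R i)
        (mul_comm _ _ : (MvPolynomial.X i * MvPolynomial.X j : MvPolynomial (Fin (n + 1)) R) =
          MvPolynomial.X j * MvPolynomial.X i)
        (chart n R j s) =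
      (Scheme.ΓSpecIso _).hom ((chartι₂ n R i j).appTop s) := by
  have h1 := Proj.SpecMap_awayMap_awayι (CohB1.polyGrading n R) (hX n R j) Nat.one_pos
    (hX n R i) (mul_comm _ _ : (MvPolynomial.X i * MvPolynomial.X j :
      MvPolynomial (Fin (n + 1)) R) = MvPolynomial.X j * MvPolynomial.X i)
  have h2 := congrArg Scheme.Hom.appTop h1
  rw [Scheme.Hom.comp_appTop] at h2
  have h3 := Scheme.ΓSpecIso_naturality (CommRingCat.ofHom
    (awayMap (CohB1.polyGrading n R) (hX n R i)
      (mul_comm _ _ : (MvPolynomial.X i * MvPolynomial.X j : MvPolynomial (Fin (n + 1)) R) =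
          MvPolynomial.X j * MvPolynomial.X i)))
  have h4 := congr($h3 ((chartι n R j).appTop s))
  have h5 := congr($h2 s)
  rw [CommRingCat.comp_apply] at h4 h5
  rw [h5] at h4
  exact h4.symm

/-- the standard affine open cover of `P^n`. -/
noncomputable def stdCover : (Proj (CohB1.polyGrading n R)).OpenCover :=
  (Proj.affineOpenCoverOfIrrelevantLESpan (CohB1.polyGrading n R)
    (fun k : Fin (n + 1) => (MvPolynomial.X k : MvPolynomial (Fin (n + 1)) R))
    (m := fun _ => 1) (hX n R) (fun _ => Nat.one_pos) (irrelevant_le n R)).openCover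

theorem ext_chart (s s' : Γ(Proj (CohB1.polyGrading n R), ⊤))
    (h : ∀ i, chart n R i s = chart n R i s') : s = s' := by
  apply (stdCover n R).ext_elem
  intro i
  have hi := h i
  unfold chart at hi
  exact (ConcreteCategory.bijective_of_isIso (Scheme.ΓSpecIso _).hom).1 hi

theorem toSpecZero_appTop_bijective :
    Function.Bijective (Proj.toSpecZero (CohB1.polyGrading n R)).appTop := by
  constructor
  · intro t t' htt'
    have h1 := chart_toSpecZero n R 0 t
    have h2 := chart_toSpecZero n R 0 t'
    rw [htt'] at h1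
    have h3 := fromZero_injective _ MvPolynomial.isRegular_X (h1.symm.trans h2)
    exact (ConcreteCategory.bijective_of_isIso (Scheme.ΓSpecIso _).hom).1 h3
  · intro s
    obtain ⟨c, hc⟩ := exists_const (fun i => chart n R i s) (fun i j =>
      (awayMap_chart_left n R i j s).trans (awayMap_chart_right n R i j s).symm)
    refine ⟨(Scheme.ΓSpecIso _).inv c, ext_chart n R _ _ (fun i => ?_)⟩
    rw [chart_toSpecZero, hc i]
    congr 1
    exact Iso.inv_hom_id_apply (Scheme.ΓSpecIso (CommRingCat.of (CohB1.polyGrading n R 0))) c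

theorem algebraMap_zero_bijective :
    Function.Bijective (algebraMap R (CohB1.polyGrading n R 0)) := by
  constructor
  · intro a b hab
    have := congrArg Subtype.val hab
    exact MvPolynomial.C_injective _ _ this
  · rintro ⟨p, hp⟩
    have hp' : p ∈ MvPolynomial.homogeneousSubmodule (Fin (n + 1)) R 0 := hp
    rw [MvPolynomial.homogeneousSubmodule_zero, Submodule.mem_one] at hp'
    obtain ⟨r, rfl⟩ := hp'
    exact ⟨r, Subtype.ext rfl⟩

theorem isIso_toSpec_appTop : IsIso (CohB1.ProjSpace.toSpec n R).appTop := by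
  have h1 : IsIso (Proj.toSpecZero (CohB1.polyGrading n R)).appTop :=
    (ConcreteCategory.isIso_iff_bijective _).mpr (toSpecZero_appTop_bijective n R)
  have h2 : IsIso (CommRingCat.ofHom (algebraMap R (CohB1.polyGrading n R 0))) :=
    (ConcreteCategory.isIso_iff_bijective _).mpr (algebraMap_zero_bijective n R)
  have h3 : IsIso (Spec.map (CommRingCat.ofHom (algebraMap R (CohB1.polyGrading n R 0)))) :=
    inferInstance
  have h4 : IsIso (Spec.map
      (CommRingCat.ofHom (algebraMap R (CohB1.polyGrading n R 0)))).appTop := by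
    have h5 := Scheme.ΓSpecIso_naturality
      (CommRingCat.ofHom (algebraMap R (CohB1.polyGrading n R 0)))
    rw [← Iso.eq_comp_inv] at h5
    rw [h5]
    infer_instance
  change IsIso ((Proj.toSpecZero (CohB1.polyGrading n R) ≫ Spec.map
      (CommRingCat.ofHom (algebraMap R (CohB1.polyGrading n R 0)))).appTop)
  rw [Scheme.Hom.comp_appTop]
  infer_instance

end Groth.Agent.Lib.Helper27ProjGamma
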