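import Groth.Agent.Lib.Helper27PnKrull
import Groth.Agent.Lib.Helper27PnNeg
import Groth.Agent.Lib.Helper27PicPn3
import Groth.Agent.Lib.Helper27OpenImmAmple
import Groth.Agent.Lib.Helper27ProjGamma2
import Groth.Agent.Lib.Helper23SecTw9
import Groth.Agent.Lib.Helper23AmpleIso

/-!
# Morphisms `P^n_k → P^m_k`, `m < n`, are constant (helper27)
-/

set_option autoImplicit false
set_option linter.unusedSectionVars false
universe u

open CategoryTheory CategoryTheory.Limits AlgebraicGeometry TopologicalSpace Opposite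
  HomogeneousLocalization MvPolynomial
open Groth.Agent.Lib.Helper23.SecTw Groth.Agent.Lib.Helper6 Groth.Agent.Lib.Helper27GrTildeSect
open Groth.Agent.Lib.Helper23.AmpleIso Groth.Agent.Lib.Helper27PnSections

namespace Groth.Agent.Lib.Helper27PnMor

section General

variable {X : Scheme.{u}}

theorem secHom_sv (M : X.Modules) (s : Coh.structureModule X ⟶ M) : secHom M (sv s ⊤) = s := by
  unfold secHom
  refine (Equiv.symm_apply_eq _).mpr ?_
  apply PresheafOfModules.sections_ext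
  intro U
  change M.val.map (homOfLE (le_top : U.unop ≤ ⊤)).op (sv s ⊤) = sv s U.unop
  exact res_sv s le_top

theorem secHom_zero (M : X.Modules) : secHom M (0 : Γ(M, ⊤)) = 0 := by
  have h := secHom_sv M (0 : Coh.structureModule X ⟶ M)
  rw [sv_zero] at h
  exact h

/-- a morphism to an affine scheme factors through any `π` inducing an iso on global sections. -/
theorem factor_of_isAffine {X S Z : Scheme.{u}} (π : X ⟶ S) [IsIso π.appTop] (g : X ⟶ Z)
    [IsAffine Z] : ∃ q : S ⟶ Z, g = π ≫ q := by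
  refine ⟨S.toSpecΓ ≫ inv (Spec.map π.appTop) ≫ Spec.map g.appTop ≫ inv Z.toSpecΓ, ?_⟩
  have h1 := Scheme.toSpecΓ_naturality g
  have h2 := Scheme.toSpecΓ_naturality π
  rw [← cancel_mono Z.toSpecΓ]
  simp only [Category.assoc, IsIso.inv_hom_id, Category.comp_id]
  rw [h1, ← Category.assoc π, h2, Category.assoc, IsIso.hom_inv_id_assoc]

end General

section Pn

variable (n : ℕ) (R : Type u) [CommRing R]

local notation "𝒢" => CohB1.polyGrading n R

theorem X_pow_mem (i : Fin (n + 1)) (e : ℕ) :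
    (X i ^ e : MvPolynomial (Fin (n + 1)) R) ∈ 𝒢 e := by
  have := isHomogeneous_X_pow (R := R) i e
  exact this

/-- the locus where the section `F / 1` of `O(e)` generates is `D₊(F)`. -/
theorem genLocus_secHom_gsec (e : ℕ) {F : MvPolynomial (Fin (n + 1)) R} (hF : F ∈ 𝒢 e) :
    CohB1.genLocus (GrTilde.tilde 𝒢 𝒢 (e : ℤ)) (secHom _ (gsec 𝒢 e ⊤ hF)) =
      Proj.basicOpen 𝒢 F := by
  ext y
  obtain ⟨i, hi⟩ := exists_X_not_mem n R y
  have hy : y ∈ Proj.basicOpen 𝒢 (X i ^ e) :=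
    (ProjectiveSpectrum.mem_basicOpen 𝒢 _ y).mpr (X_pow_not_mem n R i e y hi)
  have key := genLocus_secHom_gsec_inf 𝒢 e hF (X_pow_mem n R i e)
  constructor
  · intro h
    have : y ∈ CohB1.genLocus (GrTilde.tilde 𝒢 𝒢 (e : ℤ)) (secHom _ (gsec 𝒢 e ⊤ hF)) ⊓
        Proj.basicOpen 𝒢 (X i ^ e) := ⟨h, hy⟩
    rw [key] at this
    exact this.1
  · intro h
    have : y ∈ Proj.basicOpen 𝒢 F ⊓ Proj.basicOpen 𝒢 (X i ^ e) := ⟨h, hy⟩
    rw [← key] at this
    exact this.1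

theorem cover_X (y : Proj 𝒢) : ∃ f : 𝒢 1, y ∈ Proj.basicOpen 𝒢 (f : MvPolynomial (Fin (n + 1)) R) := by
  obtain ⟨i, hi⟩ := exists_X_not_mem n R y
  exact ⟨⟨X i, Groth.Agent.Lib.Helper27ProjGamma.hX n R i⟩,
    (ProjectiveSpectrum.mem_basicOpen 𝒢 _ y).mpr hi⟩

end Pn

section Main

variable (k : Type u) [Field k] (n m : ℕ)

local notation "𝒢n" => CohB1.polyGrading n k
local notation "𝒢m" => CohB1.polyGrading m k

theorem isUnit_of_mem_zero {F : MvPolynomial (Fin (n + 1)) k} (hF : F ∈ 𝒢n 0) (h0 : F ≠ 0) :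
    IsUnit F := by
  have h1 : F.totalDegree = 0 := Nat.le_zero.mp (IsHomogeneous.totalDegree_le hF)
  have h2 := totalDegree_eq_zero_iff_eq_C.mp h1
  have h3 : coeff 0 F ≠ 0 := by
    intro h
    apply h0
    rw [h2, h, map_zero]
  rw [h2]
  exact (IsUnit.mk0 _ h3).map C

/-- a morphism `P^n_k → P^m_k` with `m < n` is constant. -/
theorem exists_factor (hmn : m < n) (f : Proj 𝒢n ⟶ Proj 𝒢m) :
    ∃ q : Spec (CommRingCat.of k) ⟶ Proj 𝒢m, f = CohB1.ProjSpace.toSpec n k ≫ q := by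
  classical
  have hn : 1 ≤ n := by omega
  let H : Fin (m + 1) → MvPolynomial (Fin (m + 1)) k := fun j => X j
  have hH : ∀ j, H j ∈ 𝒢m 1 := fun j => Groth.Agent.Lib.Helper27ProjGamma.hX m k j
  have hcov : ∀ x : Proj 𝒢n, ∃ j, f x ∈ Proj.basicOpen 𝒢m (H j) := by
    intro x
    obtain ⟨j, hj⟩ := exists_X_not_mem m k (f x)
    exact ⟨j, (ProjectiveSpectrum.mem_basicOpen 𝒢m _ _).mpr hj⟩
  have hL := isInvertible_pullback_of_cover 𝒢m 1 H hH f hcov
  obtain ⟨d, ⟨Φ⟩⟩ := Groth.Agent.Lib.Helper27PicPn.exists_iso_twist (n := n) (R := k) _ hL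
  -- the sections
  let s : Fin (m + 1) → (Coh.structureModule (Proj 𝒢n) ⟶ GrTilde.tilde 𝒢n 𝒢n d) := fun j =>
    secHom _ (ProjUP.pullSec f (GrTilde.tilde 𝒢m 𝒢m ((1 : ℕ) : ℤ)) (gsec 𝒢m 1 ⊤ (hH j))) ≫ Φ.hom
  have hs : ∀ j, CohB1.genLocus (GrTilde.tilde 𝒢n 𝒢n d) (s j) =
      f ⁻¹ᵁ Proj.basicOpen 𝒢m (H j) := by
    intro j
    exact (genLocus_comp_iso Φ _).trans (genLocus_pullSec_gsec 𝒢m 1 H hH f hcov j)
  have hinv : PicF.IsInvertible (GrTilde.tilde 𝒢n 𝒢n d) :=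
    isInvertible_tilde 𝒢n (cover_X n k) d
  -- a point of `P^n`
  let x0 : Proj 𝒢n := Groth.Agent.Lib.Helper27PicPn.η (n := n) (R := k)
  rcases lt_or_ge d 0 with hd | hd
  · exfalso
    obtain ⟨j, hj⟩ := hcov x0
    have h0 : s j = 0 := by
      rw [← secHom_sv _ (s j), eq_zero_of_neg n k hn d hd (sv (s j) ⊤), secHom_zero]
    have : x0 ∈ CohB1.genLocus (GrTilde.tilde 𝒢n 𝒢n d) (s j) := by rw [hs j]; exact hj
    rw [h0, genLocus_zero _ hinv] at this
    exact this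
  · obtain ⟨e, rfl⟩ := Int.eq_ofNat_of_zero_le hd
    have hpoly : ∀ j, ∃ (F : MvPolynomial (Fin (n + 1)) k) (hF : F ∈ 𝒢n e),
        sv (s j) ⊤ = gsec 𝒢n e ⊤ hF := fun j => exists_global_poly n k e (sv (s j) ⊤)
    choose F hF hFs using hpoly
    have hD : ∀ j, Proj.basicOpen 𝒢n (F j) = f ⁻¹ᵁ Proj.basicOpen 𝒢m (H j) := by
      intro j
      rw [← hs j, ← secHom_sv _ (s j), hFs j, genLocus_secHom_gsec]
    rcases Nat.eq_zero_or_pos e with he | he
    · -- constants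
      subst he
      obtain ⟨j, hj⟩ := hcov x0
      have hx0 : x0 ∈ Proj.basicOpen 𝒢n (F j) := by rw [hD j]; exact hj
      have hFne : F j ≠ 0 := by
        intro h
        rw [h] at hx0
        exact (ProjectiveSpectrum.mem_basicOpen 𝒢n _ x0).mp hx0 (Submodule.zero_mem _)
      have hunit : IsUnit (F j) := isUnit_of_mem_zero k n (hF j) hFne
      have htop : f ⁻¹ᵁ Proj.basicOpen 𝒢m (H j) = ⊤ := by
        rw [← hD j, eq_top_iff]
        intro y _
        refine (ProjectiveSpectrum.mem_basicOpen 𝒢n _ y).mpr (fun h => ?_)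
        exact y.isPrime.ne_top (Ideal.eq_top_of_isUnit_mem _ h hunit)
      have hrange : Set.range f ⊆ Set.range (Proj.basicOpen 𝒢m (H j)).ι := by
        rw [Scheme.Opens.range_ι]
        rintro _ ⟨x, rfl⟩
        have : x ∈ f ⁻¹ᵁ Proj.basicOpen 𝒢m (H j) := by rw [htop]; trivial
        exact this
      have : IsAffine (↑(Proj.basicOpen 𝒢m (H j)) : Scheme.{u}) :=
        Proj.isAffineOpen_basicOpen 𝒢m (H j) (hH j) one_pos
      let π : Proj 𝒢n ⟶ Spec (CommRingCat.of k) := CohB1.ProjSpace.toSpec n k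
      haveI : IsIso π.appTop := Groth.Agent.Lib.Helper27ProjGamma.isIso_toSpec_appTop n k
      let g : Proj 𝒢n ⟶ (↑(Proj.basicOpen 𝒢m (H j)) : Scheme.{u}) :=
        IsOpenImmersion.lift (Proj.basicOpen 𝒢m (H j)).ι f hrange
      have hg : g ≫ (Proj.basicOpen 𝒢m (H j)).ι = f := IsOpenImmersion.lift_fac _ _ _
      obtain ⟨q, hq⟩ := factor_of_isAffine π g
      refine ⟨q ≫ (Proj.basicOpen 𝒢m (H j)).ι, ?_⟩
      have h1 : f = (π ≫ q) ≫ (Proj.basicOpen 𝒢m (H j)).ι := by rw [← hq, hg]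
      exact h1.trans (Category.assoc _ _ _)
    · exfalso
      obtain ⟨y, hy⟩ := Groth.Agent.Lib.Helper27PnKrull.exists_common_zero n (r := m + 1)
        (by omega) F (fun _ => e) (fun _ => he) hF
      obtain ⟨j, hj⟩ := hcov y
      have : y ∈ Proj.basicOpen 𝒢n (F j) := by rw [hD j]; exact hj
      exact (ProjectiveSpectrum.mem_basicOpen 𝒢n _ y).mp this (hy j)

end Main

end Groth.Agent.Lib.Helper27PnMor
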