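import Groth.Agent.Lib.Helper27TwistGen

/-!
# `O(n)` on `Proj` when `Proj` is covered by `D₊(f)`, `deg f = 1` (helper27)

* `twist_package` : invertibility of `O(n)`, `O(m) ⊗ O(n) ≅ O(m+n)`, `O(n) ≅ O(1)^{⊗ n}`.
-/

set_option autoImplicit false
universe u

open CategoryTheory CategoryTheory.Limits AlgebraicGeometry TopologicalSpace Opposite
  HomogeneousLocalization
open Groth.Agent.Lib.Helper23.SecTw Groth.Agent.Lib.Helper6

namespace Groth.Agent.Lib.Helper27GrTildeSect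

variable {R A : Type u} [CommRing R] [CommRing A] [Algebra R A] {𝒜 : ℕ → Submodule R A}
  [GradedAlgebra 𝒜]

theorem fracSec_eq_smul_iff (n : ℤ) (W : (Proj 𝒜).Opens) {i j i' j' : ℕ} {a b a' b' : A}
    (ha : a ∈ 𝒜 i) (hb : b ∈ 𝒜 j) (hij : (i : ℤ) = j + n)
    (hW : ∀ y : W, b ∉ y.1.asHomogeneousIdeal)
    (ha' : a' ∈ 𝒜 i') (hb' : b' ∈ 𝒜 j') (hij' : (i' : ℤ) = j' + n)
    (hW' : ∀ y : W, b' ∉ y.1.asHomogeneousIdeal) (g : Γ(Proj 𝒜, W)) :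
    fracSec 𝒜 n W ha hb hij hW = g • fracSec 𝒜 n W ha' hb' hij' hW' ↔
      ∀ (y : ProjectiveSpectrum 𝒜) (hy : y ∈ W),
        (Localization.mk a (⟨b, hW ⟨y, hy⟩⟩ : y.asHomogeneousIdeal.toIdeal.primeCompl) :
          Twist.Loc 𝒜 y) = (funVal 𝒜 W g y hy).val *
        (Localization.mk a' (⟨b', hW' ⟨y, hy⟩⟩ : y.asHomogeneousIdeal.toIdeal.primeCompl) :
          Twist.Loc 𝒜 y) := by
  constructor
  · intro h y hy
    exact congrArg (fun s => (secVal 𝒜 𝒜 n W s y hy : Twist.Loc 𝒜 y)) h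
  · intro h
    apply sec_ext
    intro y hy
    exact h y hy

theorem pow_mem_one {f : A} (hf : f ∈ 𝒜 1) (p : ℕ) : f ^ p ∈ 𝒜 p := by
  have := SetLike.pow_mem_graded p hf
  simpa using this

theorem pow_not_mem {f : A} (p : ℕ) (y : (Proj.basicOpen 𝒜 f : (Proj 𝒜).Opens)) :
    f ^ p ∉ y.1.asHomogeneousIdeal := fun h =>
  (ProjectiveSpectrum.mem_basicOpen 𝒜 f y.1).mp y.2 (y.1.isPrime.mem_of_pow_mem _ h)

/-- the generator `f^p / f^q` of `O(n)` over `D₊(f)`. -/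
noncomputable def zsec {f : A} (hf : f ∈ 𝒜 1) (n : ℤ) (p q : ℕ) (h : (p : ℤ) = q + n) :
    Γ(GrTilde.tilde 𝒜 𝒜 n, Proj.basicOpen 𝒜 f) :=
  fracSec 𝒜 n (Proj.basicOpen 𝒜 f) (pow_mem_one hf p) (pow_mem_one hf q) h (pow_not_mem q)

theorem isGen_zsec {f : A} (hf : f ∈ 𝒜 1) (n : ℤ) (p q : ℕ) (h : (p : ℤ) = q + n) :
    IsGen (GrTilde.tilde 𝒜 𝒜 n) (Proj.basicOpen 𝒜 f) (zsec hf n p q h) :=
  isGen_fracSec 𝒜 n _ _ _ h _ (pow_not_mem p)

theorem zmul {y : ProjectiveSpectrum 𝒜} {f : A} (hfy : f ∉ y.asHomogeneousIdeal)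
    (p q p' q' p'' q'' : ℕ) (h : p + p' + q'' = q + q' + p'') :
    (Localization.mk (f ^ p) (⟨f ^ q, fun h => hfy (y.isPrime.mem_of_pow_mem _ h)⟩ :
        y.asHomogeneousIdeal.toIdeal.primeCompl) : Twist.Loc 𝒜 y) *
      Localization.mk (f ^ p') (⟨f ^ q', fun h => hfy (y.isPrime.mem_of_pow_mem _ h)⟩ :
        y.asHomogeneousIdeal.toIdeal.primeCompl) =
      Localization.mk (f ^ p'') (⟨f ^ q'', fun h => hfy (y.isPrime.mem_of_pow_mem _ h)⟩ :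
        y.asHomogeneousIdeal.toIdeal.primeCompl) := by
  rw [Localization.mk_mul, Localization.mk_eq_mk_iff, Localization.r_iff_exists]
  refine ⟨1, ?_⟩
  simp only [OneMemClass.coe_one, one_mul, Submonoid.coe_mul, ← pow_add]
  congr 1
  omega

theorem zpow {y : ProjectiveSpectrum 𝒜} {f : A} (hfy : f ∉ y.asHomogeneousIdeal) (k : ℕ) :
    (Localization.mk (f ^ 1) (⟨f ^ 0, fun h => hfy (y.isPrime.mem_of_pow_mem _ h)⟩ :
        y.asHomogeneousIdeal.toIdeal.primeCompl) : Twist.Loc 𝒜 y) ^ k =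
      Localization.mk (f ^ k) (⟨f ^ 0, fun h => hfy (y.isPrime.mem_of_pow_mem _ h)⟩ :
        y.asHomogeneousIdeal.toIdeal.primeCompl) := by
  rw [Localization.mk_pow, Localization.mk_eq_mk_iff, Localization.r_iff_exists]
  refine ⟨1, ?_⟩
  simp


theorem not_mem_left {f f' : A}
    (y : ProjectiveSpectrum 𝒜) (hy : y ∈ Proj.basicOpen 𝒜 f ⊓ Proj.basicOpen 𝒜 f') :
    f ∉ y.asHomogeneousIdeal := (ProjectiveSpectrum.mem_basicOpen 𝒜 f y).mp hy.1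

theorem not_mem_right {f f' : A}
    (y : ProjectiveSpectrum 𝒜) (hy : y ∈ Proj.basicOpen 𝒜 f ⊓ Proj.basicOpen 𝒜 f') :
    f' ∉ y.asHomogeneousIdeal := (ProjectiveSpectrum.mem_basicOpen 𝒜 f' y).mp hy.2

/-- the transition function between two degree-one frames, pointwise. -/
theorem res_zsec_eq_smul_iff {f f' : A} (hf : f ∈ 𝒜 1) (hf' : f' ∈ 𝒜 1) (n : ℤ) (p q : ℕ)
    (h : (p : ℤ) = q + n) (g : Γ(Proj 𝒜, Proj.basicOpen 𝒜 f ⊓ Proj.basicOpen 𝒜 f')) :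
    res (GrTilde.tilde 𝒜 𝒜 n) inf_le_left (zsec hf n p q h) =
        g • res (GrTilde.tilde 𝒜 𝒜 n) inf_le_right (zsec hf' n p q h) ↔
      ∀ (y : ProjectiveSpectrum 𝒜) (hy : y ∈ Proj.basicOpen 𝒜 f ⊓ Proj.basicOpen 𝒜 f'),
        (Localization.mk (f ^ p) (⟨f ^ q, fun h => not_mem_left y hy
            (y.isPrime.mem_of_pow_mem _ h)⟩ : y.asHomogeneousIdeal.toIdeal.primeCompl) :
          Twist.Loc 𝒜 y) = (funVal 𝒜 _ g y hy).val *
        (Localization.mk (f' ^ p) (⟨f' ^ q, fun h => not_mem_right y hy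
            (y.isPrime.mem_of_pow_mem _ h)⟩ : y.asHomogeneousIdeal.toIdeal.primeCompl) :
          Twist.Loc 𝒜 y) :=
  fracSec_eq_smul_iff n (Proj.basicOpen 𝒜 f ⊓ Proj.basicOpen 𝒜 f') (pow_mem_one hf p)
    (pow_mem_one hf q) h (fun y => pow_not_mem q ⟨y.1, y.2.1⟩) (pow_mem_one hf' p)
    (pow_mem_one hf' q) h (fun y => pow_not_mem q ⟨y.1, y.2.2⟩) g

variable (𝒜) in
theorem isInvertible_tilde (hcov : ∀ y : Proj 𝒜, ∃ f : 𝒜 1, y ∈ Proj.basicOpen 𝒜 (f : A))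
    (n : ℤ) : PicF.IsInvertible (GrTilde.tilde 𝒜 𝒜 n) := by
  apply isInvertible_of_isGen
  intro y
  obtain ⟨f, hy⟩ := hcov y
  exact ⟨Proj.basicOpen 𝒜 (f : A), zsec f.2 n n.toNat (-n).toNat (by omega), hy,
    isGen_zsec f.2 n _ _ _⟩

variable (𝒜) in
theorem nonempty_tensor_iso (hcov : ∀ y : Proj 𝒜, ∃ f : 𝒜 1, y ∈ Proj.basicOpen 𝒜 (f : A))
    (m n : ℤ) :
    Nonempty (CohB1.tensorMod (GrTilde.tilde 𝒜 𝒜 m) (GrTilde.tilde 𝒜 𝒜 n) ≅
      GrTilde.tilde 𝒜 𝒜 (m + n)) := by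
  have hm : ((m.toNat : ℕ) : ℤ) = ((-m).toNat : ℕ) + m := by omega
  have hn : ((n.toNat : ℕ) : ℤ) = ((-n).toNat : ℕ) + n := by omega
  have hmn : (((m + n).toNat : ℕ) : ℤ) = ((-(m + n)).toNat : ℕ) + (m + n) := by omega
  have hpq : m.toNat + n.toNat + (-(m + n)).toNat = (-m).toNat + (-n).toNat + (m + n).toNat := by
    omega
  generalize m.toNat = p at hm hpq
  generalize (-m).toNat = q at hm hpq
  generalize n.toNat = p' at hn hpq
  generalize (-n).toNat = q' at hn hpq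
  generalize (m + n).toNat = p'' at hmn hpq
  generalize (-(m + n)).toNat = q'' at hmn hpq
  obtain ⟨Φ, -⟩ := exists_iso_of_frames
    (CohB1.tensorMod (GrTilde.tilde 𝒜 𝒜 m) (GrTilde.tilde 𝒜 𝒜 n)) (GrTilde.tilde 𝒜 𝒜 (m + n))
    (fun f : 𝒜 1 => Proj.basicOpen 𝒜 (f : A)) hcov
    (fun f => tm _ _ _ (zsec f.2 m p q hm) (zsec f.2 n p' q' hn))
    (fun f => zsec f.2 (m + n) p'' q'' hmn)
    (fun f => isGen_tm _ _ _ _ _ (isGen_zsec f.2 m p q hm) (isGen_zsec f.2 n p' q' hn))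
    (fun f => isGen_zsec f.2 (m + n) p'' q'' hmn)
    (by
      intro f f' g H
      obtain ⟨gm, hgm⟩ := (isGen_zsec f'.2 m p q hm _ inf_le_right).2
        (res (GrTilde.tilde 𝒜 𝒜 m) inf_le_left (zsec f.2 m p q hm))
      obtain ⟨gn, hgn⟩ := (isGen_zsec f'.2 n p' q' hn _ inf_le_right).2
        (res (GrTilde.tilde 𝒜 𝒜 n) inf_le_left (zsec f.2 n p' q' hn))
      have hgm' := hgm
      have hgn' := hgn
      simp only at hgm' hgn'
      have H2 : (gm * gn) • res (CohB1.tensorMod (GrTilde.tilde 𝒜 𝒜 m) (GrTilde.tilde 𝒜 𝒜 n))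
          inf_le_right (tm _ _ _ (zsec f'.2 m p q hm) (zsec f'.2 n p' q' hn)) =
          res (CohB1.tensorMod (GrTilde.tilde 𝒜 𝒜 m) (GrTilde.tilde 𝒜 𝒜 n))
          inf_le_left (tm _ _ _ (zsec f.2 m p q hm) (zsec f.2 n p' q' hn)) := by
        rw [res_tm, res_tm, ← hgm', ← hgn', tm_smul_left, tm_smul_right, smul_smul]
      have hg : g = gm * gn :=
        (isGen_tm _ _ _ _ _ (isGen_zsec f'.2 m p q hm) (isGen_zsec f'.2 n p' q' hn) _
          inf_le_right).1 (H.symm.trans H2.symm)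
      subst hg
      rw [res_zsec_eq_smul_iff]
      intro y hy
      have e1 := (res_zsec_eq_smul_iff f.2 f'.2 m p q hm gm).mp hgm'.symm y hy
      have e2 := (res_zsec_eq_smul_iff f.2 f'.2 n p' q' hn gn).mp hgn'.symm y hy
      rw [funVal_mul, HomogeneousLocalization.val_mul,
        ← zmul (not_mem_left y hy) p q p' q' p'' q'' hpq,
        ← zmul (not_mem_right y hy) p q p' q' p'' q'' hpq, e1, e2]
      ring)
  exact ⟨Φ⟩

variable (𝒜) in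
theorem nonempty_pow_iso (hcov : ∀ y : Proj 𝒜, ∃ f : 𝒜 1, y ∈ Proj.basicOpen 𝒜 (f : A))
    (n : ℕ) :
    Nonempty (GrTilde.tilde 𝒜 𝒜 (n : ℤ) ≅ CohB1.tensorPow (GrTilde.tilde 𝒜 𝒜 1) n) := by
  have hn : ((n : ℕ) : ℤ) = ((0 : ℕ) : ℤ) + (n : ℤ) := by simp
  have h1 : ((1 : ℕ) : ℤ) = ((0 : ℕ) : ℤ) + (1 : ℤ) := by simp
  obtain ⟨Φ, -⟩ := exists_iso_of_frames
    (GrTilde.tilde 𝒜 𝒜 (n : ℤ)) (CohB1.tensorPow (GrTilde.tilde 𝒜 𝒜 1) n)
    (fun f : 𝒜 1 => Proj.basicOpen 𝒜 (f : A)) hcov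
    (fun f => zsec f.2 (n : ℤ) n 0 hn)
    (fun f => pw _ _ (zsec f.2 1 1 0 h1) n)
    (fun f => isGen_zsec f.2 (n : ℤ) n 0 hn)
    (fun f => isGen_pw _ _ _ (isGen_zsec f.2 1 1 0 h1) n)
    (by
      intro f f' g H
      obtain ⟨g1, hg1⟩ := (isGen_zsec f'.2 1 1 0 h1 _ inf_le_right).2
        (res (GrTilde.tilde 𝒜 𝒜 1) inf_le_left (zsec f.2 1 1 0 h1))
      have hg1' := hg1
      simp only at hg1'
      have H2 : res (GrTilde.tilde 𝒜 𝒜 (n : ℤ)) inf_le_left (zsec f.2 (n : ℤ) n 0 hn) =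
          (g1 ^ n) • res (GrTilde.tilde 𝒜 𝒜 (n : ℤ)) inf_le_right (zsec f'.2 (n : ℤ) n 0 hn) := by
        rw [res_zsec_eq_smul_iff]
        intro y hy
        have e1 := (res_zsec_eq_smul_iff f.2 f'.2 1 1 0 h1 g1).mp hg1'.symm y hy
        rw [funVal_pow, HomogeneousLocalization.val_pow, ← zpow (not_mem_left y hy) n,
          ← zpow (not_mem_right y hy) n, e1, mul_pow]
      have hg : g = g1 ^ n :=
        (isGen_zsec f'.2 (n : ℤ) n 0 hn _ inf_le_right).1 (H.symm.trans H2)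
      subst hg
      rw [res_pw, res_pw, ← hg1', pw_smul])
  exact ⟨Φ⟩

end Groth.Agent.Lib.Helper27GrTildeSect
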