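import Groth.Agent.Lib.Helper27PnCohVanish
import Groth.Agent.Lib.Helper27TwistGen2
import Groth.Agent.Lib.Helper23FinType2

/-!
# The twisting modules `O(d)` on `P^n_R` are coherent (helper27)
-/

set_option autoImplicit false
universe u

open CategoryTheory CategoryTheory.Limits AlgebraicGeometry TopologicalSpace Opposite
  HomogeneousLocalization MvPolynomial

namespace Groth.Agent.Lib.Helper27TwistCoh

open Groth.Agent.Lib.Helper27GrTildeSect Groth.Agent.Lib.Helper27PnSections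
  Groth.Agent.Lib.Helper27PnCech Groth.Agent.Lib.Helper27PnCohVanish
  Groth.Agent.Lib.Helper23.SecTw Groth.Agent.Lib.Helper6 Groth.Agent.Lib.Helper27ProjGamma

variable (n : ℕ) (R : Type u) [CommRing R] (d : ℤ)

local notation "𝒢" => CohB1.polyGrading n R

theorem finite_of_isGen {X : Scheme.{u}} (L : X.Modules) (W : X.Opens) (e : Γ(L, W))
    (h : IsGen L W e) : Module.Finite Γ(X, W) Γ(L, W) := by
  refine Module.Finite.of_surjective
    (LinearMap.toSpanSingleton Γ(X, W) Γ(L, W) (res L le_rfl e)) ?_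
  intro s
  obtain ⟨r, hr⟩ := (h W le_rfl).2 s
  exact ⟨r, hr⟩

theorem isFiniteType_tilde :
    SheafOfModules.IsFiniteType (R := (Proj 𝒢).ringCatSheaf) (GrTilde.tilde 𝒢 𝒢 d) := by
  haveI : (GrTilde.tilde 𝒢 𝒢 d).IsQuasicoherent := isQuasicoherent_tilde 𝒢 𝒢 d
  refine Groth.Agent.Lib.Helper23.FinType.isFiniteType_of_finite (GrTilde.tilde 𝒢 𝒢 d) (V n R)
    (iSup_V n R)
    (fun i => Proj.isAffineOpen_basicOpen 𝒢 _ (MvPolynomial.isHomogeneous_X R i.down) Nat.one_pos)
    (fun i => ?_)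
  exact finite_of_isGen _ _ _
    (isGen_zsec (hX n R i.down) d d.toNat (-d).toNat (by omega))

theorem isCoh_twist :
    Coh.IsCoh (X := CohB1.ProjSpace n R) (Twist.twistProjSpace n R d) :=
  ⟨isQuasicoherent_tilde 𝒢 𝒢 d, isFiniteType_tilde n R d⟩

end Groth.Agent.Lib.Helper27TwistCoh
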