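import Groth.Agent.Lib.Helper27SerreVan
import Groth.Agent.S0846
import Groth.Agent.S0022
import Groth.Agent.Lib.Helper27TwistCoh
import Groth.Agent.Lib.Helper27QProjCover2
import Groth.Agent.Lib.Helper27PnCohVanish
import Groth.Agent.Lib.Helper27TwistGen2
import Groth.Agent.Lib.Helper27PnMor

/-!
# Serre vanishing on projective space over a Noetherian ring (helper27)

`serre_vanishing n R F hF` : for a coherent module `F` on `P^n_R`, `R` Noetherian, there is `d₀`
such that `H^p(P^n_R, F ⊗ O(d)) = 0` for all `d ≥ d₀` and all `p > 0`.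
-/

set_option autoImplicit false
universe u
open CategoryTheory Limits AlgebraicGeometry TopologicalSpace Opposite

namespace Groth.Agent.Lib.Helper27SerreVanPn

open Groth.Agent.Lib.Helper27GrTildeSect

variable (n : ℕ) (R : Type u) [CommRing R]

local notation "𝒢" => CohB1.polyGrading n R

theorem isInvertible_twist (d : ℤ) :
    PicF.IsInvertible (Twist.twistProjSpace n R d) :=
  isInvertible_tilde 𝒢 (Groth.Agent.Lib.Helper27PnMor.cover_X n R) d

theorem nonempty_twist_tensor_iso (a b : ℤ) :
    Nonempty (CohB1.tensorMod (X := CohB1.ProjSpace n R) (Twist.twistProjSpace n R a)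
      (Twist.twistProjSpace n R b) ≅ Twist.twistProjSpace n R (a + b)) :=
  nonempty_tensor_iso 𝒢 (Groth.Agent.Lib.Helper27PnMor.cover_X n R) a b

theorem serre_vanishing_deg [IsNoetherianRing R]
    (F : (CohB1.ProjSpace n R).Modules) (hF : Coh.IsCoh F) (p : ℕ) (hp : 0 < p) :
    ∃ d₀ : ℤ, ∀ d : ℤ, d₀ ≤ d → Subsingleton (Coh.HH (CohB1.ProjSpace n R)
      (CohB1.tensorMod F (Twist.twistProjSpace n R d)) p) := by
  have hN := Groth.Agent.Lib.Helper27QProjCover.isNoetherian_projSpace n R
  haveI : IsLocallyNoetherian (CohB1.ProjSpace n R) := inferInstance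
  refine Groth.Agent.Lib.Helper27SerreVan.vanishing_of_resolutions (X := CohB1.ProjSpace n R)
    (fun d => Twist.twistProjSpace n R d) (isInvertible_twist n R)
    (fun d => Groth.Agent.Lib.Helper27TwistCoh.isCoh_twist n R d)
    (nonempty_twist_tensor_iso n R) ?_ n ?_ ?_ F hF p hp
  · intro F hF
    obtain ⟨r, d, φ, hφ⟩ := Groth.Agent.S0846.result (CohB1.polyGrading n R) F hF
    exact ⟨r, d, φ, hφ⟩
  · intro F hF i hi
    have : Coh.IsQCoh F := hF
    exact Groth.Agent.S0022.result n R F i hi
  · intro d hd p hp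
    exact Groth.Agent.Lib.Helper27PnCohVanish.subsingleton_HH n R d p (by omega) (by omega)

theorem serre_vanishing [IsNoetherianRing R]
    (F : (CohB1.ProjSpace n R).Modules) (hF : Coh.IsCoh F) :
    ∃ d₀ : ℤ, ∀ d : ℤ, d₀ ≤ d → ∀ p : ℕ, 0 < p → Subsingleton (Coh.HH (CohB1.ProjSpace n R)
      (CohB1.tensorMod F (Twist.twistProjSpace n R d)) p) := by
  have main := serre_vanishing_deg n R F hF
  choose! d₀ hd₀ using main
  refine ⟨∑ p ∈ Finset.range (n + 1), |d₀ p|, fun d hd p hp => ?_⟩
  by_cases hpn : p ≤ n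
  · refine hd₀ p hp d (le_trans ?_ hd)
    have h3 : |d₀ p| ≤ ∑ p ∈ Finset.range (n + 1), |d₀ p| :=
      Finset.single_le_sum (f := fun p => |d₀ p|) (fun j _ => abs_nonneg _)
        (Finset.mem_range.mpr (by omega))
    exact le_trans (le_abs_self _) h3
  · haveI : F.IsQuasicoherent := hF.1
    haveI : (Twist.twistProjSpace n R d).IsQuasicoherent :=
      (Groth.Agent.Lib.Helper27TwistCoh.isCoh_twist n R d).1
    have hq : Coh.IsQCoh (CohB1.tensorMod F (Twist.twistProjSpace n R d)) :=
      Groth.Agent.Lib.Helper23.TensorQCoh.isQuasicoherent_tensorMod F _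
    exact Groth.Agent.S0022.result n R _ p (by omega)

end Groth.Agent.Lib.Helper27SerreVanPn
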