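import Groth.Agent.Lib.Helper27PnHom

/-!
# `Twist.twistProjSpace n R d = GrTilde.tilde 𝒢 𝒢 d` (helper27)

The definitional unfolding is expensive for the kernel (about 25 s); this file does it once.
-/

set_option autoImplicit false
universe u

open CategoryTheory AlgebraicGeometry

namespace Groth.Agent.Lib.Helper27TwistEq

variable (n : ℕ) (R : Type u) [CommRing R]

local notation "𝒢" => CohB1.polyGrading n R

theorem twistProjSpace_eq : Twist.twistProjSpace n R =
    fun d => (GrTilde.tilde 𝒢 𝒢 d : (CohB1.ProjSpace n R).Modules) := rfl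

theorem twistProjSpace_apply (d : ℤ) : Twist.twistProjSpace n R d =
    (GrTilde.tilde 𝒢 𝒢 d : (CohB1.ProjSpace n R).Modules) :=
  congrFun (twistProjSpace_eq n R) d

theorem twist_eq : Twist.twist 𝒢 = fun d => (GrTilde.tilde 𝒢 𝒢 d : (Proj 𝒢).Modules) :=
  twistProjSpace_eq n R

end Groth.Agent.Lib.Helper27TwistEq
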