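import Mathlib
import Groth.Agent.Lib.Helper27ProjMapTwistGen
import Groth.Agent.Lib.Helper27ProjSpaceBC2
import Groth.Agent.Lib.Helper27ProjSpaceFibres
import Groth.Agent.Lib.Helper27TwistEq
import Groth.Agent.Lib.Helper27PnChart
import Groth.Agent.Lib.Helper27PnAmple
import Groth.Agent.Lib.Helper27SerreVanPn
import Groth.Agent.Lib.Helper27ClosedTransfer
import Groth.Agent.Lib.Helper23PB
import Groth.Agent.Lib.Helper23SecTw10
import Groth.Agent.Lib.Helper23LocGen
import Groth.Agent.Lib.Helper23TensorQCoh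
import Groth.Agent.Lib.Helper20ZClos20
import Groth.Agent.Lib.Helper4DevI
import Groth.Agent.Lib.Helper27QProjCover2

/-!
# Serre vanishing for an ample module on a scheme proper over a Noetherian ring (helper27)

* `nonempty_pullback_bcMap_twist_iso` : the pullback of `O(d)` along `P^n_R ⟶ P^n_ℤ` is `O(d)` (`d : ℕ`)
* `exists_closedImmersion_of_isRelVeryAmplePn` : `X` proper over `Spec R`, `L` very ample (`P^N` form) ⇒ a closed
  immersion `j : X ⟶ P^N_R` over `R` with `L ≅ j^* O(1)`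
* `nonempty_tensorPow_add_iso` : `L^a ⊗ L^b ≅ L^(a+b)`
* `serre_vanishing_of_closedImmersion` : if `L^m ≅ j^* O(1)` (`m > 0`), `R` Noetherian, `M` coherent, then
  `H^p(X, M ⊗ L^n) = 0` for all `n ≥ n₀`, `p > 0`
-/

set_option autoImplicit false
universe u

open CategoryTheory CategoryTheory.Limits AlgebraicGeometry TopologicalSpace Opposite

namespace Groth.Agent.Lib.Helper27AmpleSerre

open Groth.Agent.Lib.Helper27ProjSpaceBC

section BC

variable (n : ℕ) (R : Type u) [CommRing R]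

/-- the pullback of `O(d)` along the base change morphism `P^n_R ⟶ P^n_ℤ` is `O(d)`. -/
theorem nonempty_pullback_bcMap_twist_iso (d : ℕ) :
    Nonempty ((Scheme.Modules.pullback (bcMap' n R)).obj (Twist.twistProjSpace n (ULift.{u} ℤ) (d : ℤ)) ≅
      Twist.twistProjSpace n R (d : ℤ)) := by
  rw [Groth.Agent.Lib.Helper27TwistEq.twistProjSpace_apply,
    Groth.Agent.Lib.Helper27TwistEq.twistProjSpace_apply]
  exact Groth.Agent.Lib.Helper27ProjMapTwistGen.nonempty_pullback_twist_nat_iso (bcg n R) (hbcg n R)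
    (fun j : Fin (n + 1) => (MvPolynomial.X j : MvPolynomial (Fin (n + 1)) (ULift.{u} ℤ)))
    (hX n (ULift.{u} ℤ)) (Groth.Agent.Lib.Helper27PnChart.iSup_basicOpen_X n (ULift.{u} ℤ)) d

end BC


section VeryAmple

variable (R : Type u) [CommRing R] {X : Scheme.{u}} (f : X ⟶ Spec (CommRingCat.of R)) [IsProper f]

/-- a very ample module (`P^N` form) on a scheme proper over `Spec R` is `j^* O(1)` for a closed immersion
`j : X ⟶ P^N_R` over `R`. -/
theorem exists_closedImmersion_of_isRelVeryAmplePn (L : X.Modules) (h : RelAmple.IsRelVeryAmplePn f L) :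
    ∃ (N : ℕ) (j : X ⟶ CohB1.ProjSpace N R), IsClosedImmersion j ∧ j ≫ CohB1.ProjSpace.toSpec N R = f ∧
      Nonempty (L ≅ (Scheme.Modules.pullback j).obj (Twist.twistProjSpace N R 1)) := by
  obtain ⟨N, i, himm, hi2, ⟨Φ⟩⟩ := h
  haveI h4 : IsProper (pullback.snd (CohB1.ProjSpace.toSpec N (ULift.{u} ℤ))
      (specULiftZIsTerminal.from (Spec (CommRingCat.of R)))) :=
    Groth.Agent.Lib.Helper27ProjSpaceFibres.isProper_toBase N _
  haveI h4' : IsSeparated (pullback.snd (CohB1.ProjSpace.toSpec N (ULift.{u} ℤ))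
      (specULiftZIsTerminal.from (Spec (CommRingCat.of R)))) := h4.toIsSeparated
  haveI h5 : IsProper (i ≫ pullback.snd (CohB1.ProjSpace.toSpec N (ULift.{u} ℤ))
      (specULiftZIsTerminal.from (Spec (CommRingCat.of R)))) := by rw [hi2]; infer_instance
  haveI h6 : IsProper i := @IsProper.of_comp _ _ _ i (pullback.snd (CohB1.ProjSpace.toSpec N (ULift.{u} ℤ))
      (specULiftZIsTerminal.from (Spec (CommRingCat.of R)))) h5 h4'
  haveI h7 : IsClosedImmersion i := IsClosedImmersion.of_isPreimmersion i i.isClosedMap.isClosed_range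
  refine ⟨N, i ≫ (overIso N R).inv, inferInstance, ?_, ?_⟩
  · rw [Category.assoc, overIso_inv_toSpec]
    exact hi2
  · obtain ⟨e1⟩ := nonempty_pullback_bcMap_twist_iso N R 1
    let pr₁ : CohB1.ProjSpaceOver N (Spec (CommRingCat.of R)) ⟶ CohB1.ProjSpace N (ULift.{u} ℤ) :=
      pullback.fst (CohB1.ProjSpace.toSpec N (ULift.{u} ℤ))
        (specULiftZIsTerminal.from (Spec (CommRingCat.of R)))
    have hfst : (overIso N R).hom ≫ pr₁ = bcMap' N R := overIso_hom_fst N R
    have hcomp : i ≫ pr₁ = (i ≫ (overIso N R).inv) ≫ bcMap' N R := by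
      rw [← hfst, Category.assoc, Iso.inv_hom_id_assoc]
    have Φ' : L ≅ (Scheme.Modules.pullback i).obj
        ((Scheme.Modules.pullback pr₁).obj (Twist.twistProjSpace N (ULift.{u} ℤ) 1)) := Φ
    exact ⟨Φ' ≪≫ (Scheme.Modules.pullbackComp i pr₁).app _ ≪≫
      (Scheme.Modules.pullbackCongr hcomp).app _ ≪≫
      ((Scheme.Modules.pullbackComp (i ≫ (overIso N R).inv) (bcMap' N R)).app _).symm ≪≫
      (Scheme.Modules.pullback (i ≫ (overIso N R).inv)).mapIso e1⟩

end VeryAmple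


section Pow

open Groth.Agent.Lib.Helper23.SecTw Groth.Agent.Lib.Helper23.GenLocus Groth.Agent.Lib.Helper6
  Groth.Agent.Lib.Helper23.AmpleIso Groth.Agent.Lib.Helper23.Extend

variable {X : Scheme.{u}}

/-- `L^a ⊗ L^b ≅ L^(a+b)` -/
theorem nonempty_tensorPow_add_iso (L : X.Modules) (hL : PicF.IsInvertible L) (a b c : ℕ) (h : a + b = c) :
    Nonempty (CohB1.tensorMod (CohB1.tensorPow L a) (CohB1.tensorPow L b) ≅ CohB1.tensorPow L c) := by
  subst h
  obtain ⟨Φ, -⟩ := exists_iso_of_frames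
    (CohB1.tensorMod (CohB1.tensorPow L a) (CohB1.tensorPow L b)) (CohB1.tensorPow L (a + b))
    (fun p : Fr L => p.1.1)
    (fun x => by
      obtain ⟨W, e, hxW, he⟩ := exists_gen L hL x
      exact ⟨⟨⟨W, e⟩, he⟩, hxW⟩)
    (fun p => tm _ _ _ (pw L p.1.1 p.1.2 a) (pw L p.1.1 p.1.2 b))
    (fun p => pw L p.1.1 p.1.2 (a + b))
    (fun p => isGen_tm _ _ _ _ _ (isGen_pw L _ _ p.2 a) (isGen_pw L _ _ p.2 b))
    (fun p => isGen_pw L _ _ p.2 (a + b))
    (fun p q => by
      obtain ⟨γ, hγ⟩ := exists_transition' p.1.2 q.2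
      refine cocycle_of_transition (isGen_tm _ _ _ _ _ (isGen_pw L _ _ q.2 a) (isGen_pw L _ _ q.2 b))
        (γ ^ a * γ ^ b) ?_ ?_
      · rw [res_tm, res_pw, res_pw, hγ, pw_smul, pw_smul, tm_smul_smul, res_tm, res_pw, res_pw]
      · rw [res_pw, hγ, pw_smul, res_pw, pow_add])
  exact ⟨Φ⟩

end Pow


section Main

open Groth.Agent.Lib.Helper23.AmpleIso Groth.Agent.Lib.Helper23.SecTw

variable (N : ℕ) (R : Type u) [CommRing R]

local notation "𝒢" => CohB1.polyGrading N R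

/-- `O(0) ≅ O` on `P^N_R`. -/
theorem nonempty_twist_zero_iso :
    Nonempty (Twist.twistProjSpace N R 0 ≅ Coh.structureModule (CohB1.ProjSpace N R)) := by
  obtain ⟨e⟩ := Groth.Agent.Lib.Helper27PnAmple.nonempty_tensorPow_tilde_iso N R 1 0
  rw [Groth.Agent.Lib.Helper27TwistEq.twistProjSpace_apply]
  have h0 : (1 : ℤ) * ((0 : ℕ) : ℤ) = 0 := by simp
  rw [h0] at e
  exact ⟨e.symm⟩

/-- `O(k) ⊗ O(-k) ≅ O`. -/
theorem nonempty_twist_inv (k : ℤ) :
    Nonempty (CohB1.tensorMod (Twist.twistProjSpace N R k) (Twist.twistProjSpace N R (-k)) ≅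
      Coh.structureModule (CohB1.ProjSpace N R)) := by
  obtain ⟨e⟩ := Groth.Agent.Lib.Helper27SerreVanPn.nonempty_twist_tensor_iso N R k (-k)
  obtain ⟨e0⟩ := nonempty_twist_zero_iso N R
  rw [add_neg_cancel] at e
  exact ⟨e ≪≫ e0⟩

/-- `O(-k) ⊗ O(k) ≅ O`. -/
theorem nonempty_twist_inv' (k : ℤ) :
    Nonempty (CohB1.tensorMod (Twist.twistProjSpace N R (-k)) (Twist.twistProjSpace N R k) ≅
      Coh.structureModule (CohB1.ProjSpace N R)) := by
  obtain ⟨e⟩ := Groth.Agent.Lib.Helper27SerreVanPn.nonempty_twist_tensor_iso N R (-k) k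
  obtain ⟨e0⟩ := nonempty_twist_zero_iso N R
  rw [neg_add_cancel] at e
  exact ⟨e ≪≫ e0⟩

variable {X : Scheme.{u}} (j : X ⟶ CohB1.ProjSpace N R)

/-- if `L^m ≅ j^* O(1)` then `j^* O(k) ≅ L^(mk)`. -/
theorem nonempty_pullback_twist_iso_tensorPow (L : X.Modules) (hL : PicF.IsInvertible L) (m : ℕ)
    (e : CohB1.tensorPow L m ≅ (Scheme.Modules.pullback j).obj (Twist.twistProjSpace N R 1)) (k : ℕ) :
    Nonempty ((Scheme.Modules.pullback j).obj (Twist.twistProjSpace N R (k : ℤ)) ≅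
      CohB1.tensorPow L (m * k)) := by
  obtain ⟨e1⟩ := Groth.Agent.Lib.Helper27PnAmple.nonempty_tensorPow_tilde_iso N R 1 k
  have h1 : (1 : ℤ) * (k : ℤ) = k := one_mul _
  rw [h1, ← Groth.Agent.Lib.Helper27TwistEq.twistProjSpace_apply,
    ← Groth.Agent.Lib.Helper27TwistEq.twistProjSpace_apply] at e1
  have hinv1 : PicF.IsInvertible (Twist.twistProjSpace N R 1) :=
    Groth.Agent.Lib.Helper27SerreVanPn.isInvertible_twist N R 1
  obtain ⟨e2⟩ := Groth.Agent.Lib.Helper23.PB.nonempty_pullback_tensorPow_iso j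
    (Twist.twistProjSpace N R 1) hinv1 k
  obtain ⟨e3⟩ := nonempty_tensorPow_tensorPow_iso L hL m k (m * k) rfl
  exact ⟨(Scheme.Modules.pullback j).mapIso e1.symm ≪≫ e2 ≪≫ (tensorPowIso e k).symm ≪≫ e3⟩

variable [IsNoetherianRing R] [IsClosedImmersion j]

/-- **Serre vanishing** for `L` with `L^m ≅ j^* O(1)`, `j` a closed immersion into `P^N_R`, `R` Noetherian. -/
theorem serre_vanishing_of_closedImmersion (L : X.Modules) (hL : PicF.IsInvertible L) (m : ℕ) (hm : 0 < m)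
    (e : CohB1.tensorPow L m ≅ (Scheme.Modules.pullback j).obj (Twist.twistProjSpace N R 1))
    (M : X.Modules) (hM : Coh.IsCoh M) :
    ∃ n₀ : ℕ, ∀ n : ℕ, n₀ ≤ n → ∀ p : ℕ, 0 < p →
      Subsingleton (Coh.HH X (CohB1.tensorMod M (CohB1.tensorPow L n)) p) := by
  have hN := Groth.Agent.Lib.Helper27QProjCover.isNoetherian_projSpace N R
  haveI : IsLocallyNoetherian (CohB1.ProjSpace N R) := inferInstance
  have hcoh : ∀ r : ℕ, Coh.IsCoh (CohB1.tensorMod M (CohB1.tensorPow L r)) := by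
    intro r
    have hLr := isInvertible_tensorPow hL r
    haveI := hM.1
    haveI := hM.2
    haveI : (CohB1.tensorPow L r).IsQuasicoherent := isQuasicoherent_of_isInvertible _ hLr
    haveI := Groth.Agent.Lib.Helper20.ZClosLib.isFiniteType_of_isInvertible _ hLr
    exact ⟨Groth.Agent.Lib.Helper23.TensorQCoh.isQuasicoherent_tensorMod _ _,
      Groth.Agent.Lib.Helper23.TensorQCoh.isFiniteType_tensorMod _ _⟩
  have hpush : ∀ r, Coh.IsCoh ((Scheme.Modules.pushforward j).obj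
      (CohB1.tensorMod M (CohB1.tensorPow L r))) :=
    fun r => Groth.Agent.Lib.Helper4.Dev.isCoh_push_closed j _ (hcoh r)
  have hsv := fun r => Groth.Agent.Lib.Helper27SerreVanPn.serre_vanishing N R _ (hpush r)
  choose d₀ hd₀ using hsv
  let D : ℕ := ∑ r ∈ Finset.range m, (d₀ r).toNat
  have hD : ∀ r < m, d₀ r ≤ (D : ℤ) := by
    intro r hr
    have h3 : (d₀ r).toNat ≤ D :=
      Finset.single_le_sum (f := fun r => (d₀ r).toNat) (fun _ _ => Nat.zero_le _)
        (Finset.mem_range.mpr hr)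
    have := Int.self_le_toNat (d₀ r)
    omega
  refine ⟨m * D, fun n hn p hp => ?_⟩
  obtain ⟨k, r, hrm, hn', hkD⟩ : ∃ k r : ℕ, r < m ∧ m * k + r = n ∧ D ≤ k := by
    refine ⟨n / m, n % m, Nat.mod_lt _ hm, Nat.div_add_mod n m, ?_⟩
    rw [Nat.le_div_iff_mul_le hm, Nat.mul_comm]
    exact hn
  have hv := hd₀ r (k : ℤ) (le_trans (hD r hrm) (by exact_mod_cast hkD)) p hp
  obtain ⟨ei⟩ := nonempty_twist_inv N R (k : ℤ)
  obtain ⟨ei'⟩ := nonempty_twist_inv' N R (k : ℤ)
  have hX := (Groth.Agent.Lib.Helper27ClosedTransfer.subsingleton_HH_twist_iff j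
    (Twist.twistProjSpace N R (k : ℤ)) (Twist.twistProjSpace N R (-(k : ℤ))) ei ei'
    (CohB1.tensorMod M (CohB1.tensorPow L r)) p).2 hv
  obtain ⟨e4⟩ := nonempty_pullback_twist_iso_tensorPow N R j L hL m e k
  obtain ⟨e5⟩ := nonempty_tensorPow_add_iso L hL r (m * k) n (by omega)
  have iso : CohB1.tensorMod (CohB1.tensorMod M (CohB1.tensorPow L r))
      ((Scheme.Modules.pullback j).obj (Twist.twistProjSpace N R (k : ℤ))) ≅
      CohB1.tensorMod M (CohB1.tensorPow L n) :=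
    tensorModIso (Iso.refl _) e4 ≪≫ Groth.Agent.Lib.Helper23.LocGen.tensorAssoc M _ _ ≪≫
      tensorModIso (Iso.refl M) e5
  exact Groth.Agent.Lib.Helper27SerreVan.subsingleton_HH_of_iso iso.symm p hX

end Main

end Groth.Agent.Lib.Helper27AmpleSerre
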