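import Mathlib
import Groth.Agent.Lib.Helper27ProjCover

/-!
# A degree-one element avoiding finitely many points of `Proj` over one prime (helper27)
-/

set_option autoImplicit false
universe u

open AlgebraicGeometry

namespace Groth.Agent.Lib.Helper27AvoidPts

/-- `m` pairs `(a, b)`, `a ∉ p`, with pairwise distinct ratios `b / a` in the residue field. -/
theorem exists_pairs {R : Type u} [CommRing R] (p : Ideal R) [p.IsPrime] (m : ℕ)
    (h : (m : Cardinal.{u}) ≤ Cardinal.mk p.ResidueField) :
    ∃ (a b : Fin m → R), (∀ t, a t ∉ p) ∧ ∀ t t', t ≠ t' → a t' * b t - a t * b t' ∉ p := by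
  obtain ⟨τ⟩ : Nonempty (Fin m ↪ p.ResidueField) := by
    rw [← Cardinal.lift_mk_le'.{0, u}]
    simpa using h
  have hsurj : ∀ c : p.ResidueField, ∃ (b : R) (a : p.primeCompl),
      IsLocalRing.residue (Localization.AtPrime p)
        (IsLocalization.mk' (Localization.AtPrime p) b a) = c := by
    intro c
    obtain ⟨q, rfl⟩ := IsLocalRing.residue_surjective c
    obtain ⟨b, a, rfl⟩ := IsLocalization.exists_mk'_eq p.primeCompl q
    exact ⟨b, a, rfl⟩
  choose b a hab using fun t => hsurj (τ t)
  refine ⟨fun t => (a t : R), b, fun t => (a t).2, ?_⟩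
  intro t t' htt' hmem
  apply htt'
  apply τ.injective
  rw [← hab t, ← hab t', ← sub_eq_zero, ← map_sub, IsLocalRing.residue_eq_zero_iff,
    ← IsLocalization.mk'_sub]
  rw [IsLocalization.AtPrime.mk'_mem_maximal_iff (Localization.AtPrime p) p]
  have e : b t * ↑(a t') - b t' * ↑(a t) = ↑(a t') * b t - ↑(a t) * b t' := by ring
  rw [e]
  exact hmem

variable {R A : Type u} [CommRing R] [CommRing A] [Algebra R A] (𝒜 : ℕ → Submodule R A)
  [GradedAlgebra 𝒜]

theorem exists_avoid (hgen : Algebra.adjoin R (𝒜 1 : Set A) = ⊤) (p : Ideal R) [p.IsPrime]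
    (S : Finset (ProjectiveSpectrum 𝒜))
    (hS : ∀ x ∈ S, (x.asHomogeneousIdeal.toIdeal).comap (algebraMap R A) = p)
    (hcard : (S.card : Cardinal.{u}) ≤ Cardinal.mk p.ResidueField) :
    ∃ g ∈ 𝒜 1, ∀ x ∈ S, g ∉ x.asHomogeneousIdeal := by
  classical
  induction S using Finset.induction_on with
  | empty => exact ⟨0, zero_mem _, by simp⟩
  | insert x S hxS ih =>
    have hS' : ∀ z ∈ S, (z.asHomogeneousIdeal.toIdeal).comap (algebraMap R A) = p :=
      fun z hz => hS z (Finset.mem_insert_of_mem hz)
    have hcard' : (S.card : Cardinal.{u}) ≤ Cardinal.mk p.ResidueField :=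
      le_trans (by exact_mod_cast (Finset.card_le_card (Finset.subset_insert x S))) hcard
    obtain ⟨g, hg1, hg⟩ := ih hS' hcard'
    by_cases hgx : g ∈ x.asHomogeneousIdeal
    swap
    · refine ⟨g, hg1, fun z hz => ?_⟩
      rcases Finset.mem_insert.mp hz with rfl | hz
      · exact hgx
      · exact hg z hz
    obtain ⟨y, hy1, hyx⟩ : ∃ y ∈ 𝒜 1, y ∉ x.asHomogeneousIdeal := by
      obtain ⟨i, -, hi⟩ := Groth.Agent.Lib.Helper27ProjCover.exists_not_mem 𝒜
        (fun j : 𝒜 1 => (j : A)) (fun _ => 1) (fun j => j.2)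
        (by
          have e : (Set.range fun j : 𝒜 1 => (j : A)) = (𝒜 1 : Set A) := Subtype.range_coe
          rw [e]; exact hgen) x
      exact ⟨i.1, i.2, hi⟩
    rw [Finset.card_insert_of_notMem hxS] at hcard
    obtain ⟨a, b, ha, hab⟩ := exists_pairs p (S.card + 1) (by exact_mod_cast hcard)
    have hxp := hS x (Finset.mem_insert_self x S)
    by_contra hcon
    push Not at hcon
    have hbad : ∀ t : Fin (S.card + 1), ∃ z ∈ S,
        a t • y + b t • g ∈ z.asHomogeneousIdeal := by
      intro t
      obtain ⟨z, hz, hmem⟩ := hcon (a t • y + b t • g)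
        (Submodule.add_mem _ (Submodule.smul_mem _ _ hy1) (Submodule.smul_mem _ _ hg1))
      rcases Finset.mem_insert.mp hz with rfl | hz
      · exfalso
        have h1 : b t • g ∈ z.asHomogeneousIdeal := by
          rw [Algebra.smul_def]
          exact Ideal.mul_mem_left _ _ hgx
        have h2 : a t • y ∈ z.asHomogeneousIdeal := by
          have := Ideal.sub_mem _ hmem h1
          simpa using this
        rw [Algebra.smul_def] at h2
        rcases z.isPrime.mem_or_mem h2 with h3 | h3
        · apply ha t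
          rw [← hxp]
          exact h3
        · exact hyx h3
      · exact ⟨z, hz, hmem⟩
    choose zf hzf hzmem using hbad
    obtain ⟨t, t', htt', heq⟩ := Fintype.exists_ne_map_eq_of_card_lt
      (fun t => (⟨zf t, hzf t⟩ : S)) (by simp)
    have heq' : zf t = zf t' := congrArg Subtype.val heq
    have h1 := hzmem t
    have h2 := hzmem t'
    rw [← heq'] at h2
    have h3 : (a t' * b t - a t * b t') • g ∈ (zf t).asHomogeneousIdeal := by
      have e : (a t' * b t - a t * b t') • g =
          algebraMap R A (a t') * (a t • y + b t • g) -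
            algebraMap R A (a t) * (a t' • y + b t' • g) := by
        simp only [Algebra.smul_def, map_sub, map_mul]
        ring
      rw [e]
      exact Ideal.sub_mem _ (Ideal.mul_mem_left _ _ h1) (Ideal.mul_mem_left _ _ h2)
    rw [Algebra.smul_def] at h3
    rcases (zf t).isPrime.mem_or_mem h3 with h4 | h4
    · apply hab t t' htt'
      rw [← hS' (zf t) (hzf t)]
      exact h4
    · exact hg (zf t) (hzf t) h4

end Groth.Agent.Lib.Helper27AvoidPts
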