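import Mathlib
import Groth.Agent.Lib.Helper4NegTwistF
import Groth.Prelude.Def_DCoh4
import Groth.Agent.Lib.Helper23TensorQCoh

/-!
# `F ⊗ τ` is a monomorphism when the section `τ` generates at the associated points of `F` (helper11)
-/

set_option autoImplicit false
set_option linter.style.haveILetI false
set_option backward.isDefEq.respectTransparency.types false
universe u
open CategoryTheory CategoryTheory.Limits AlgebraicGeometry TopologicalSpace Opposite

namespace Groth.Agent.Lib.Helper11.RegSec
open Groth.Agent.Lib.Helper4.NegTwist Groth.Agent.Lib.Helper4.Dev Groth.Agent.Lib.Helper23.ResProp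
open Groth.Agent.Lib.Helper21.ModTensor3 Groth.Agent.Lib.Helper21.ModTensor5
  Groth.Agent.Lib.Helper21.ModTensor6 Groth.Agent.Lib.Helper21.ModTensor7

variable {X : Scheme.{u}}

/-- the braiding `F ⊗ A ⟶ A ⊗ F` -/
noncomputable def brA (F A : X.Modules) : CohB1.tensorMod F A ⟶ CohB1.tensorMod A F :=
  ((brd X.sheaf).app (F : ModSite.Mod X.sheaf)).hom.app (A : ModSite.Mod X.sheaf)

instance (F A : X.Modules) : IsIso (brA F A) :=
  ((((brd X.sheaf).app (F : ModSite.Mod X.sheaf))).app (A : ModSite.Mod X.sheaf)).isIso_hom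

theorem tmapL_brA (F : X.Modules) {A B : X.Modules} (τ : A ⟶ B) :
    tmapL F τ ≫ brA F B = brA F A ≫ tmapR τ F :=
  ((brd X.sheaf).app (F : ModSite.Mod X.sheaf)).hom.naturality
    (X := (A : ModSite.Mod X.sheaf)) (Y := (B : ModSite.Mod X.sheaf)) τ

theorem bijective_stalkL_tmapL (F : X.Modules) {A B : X.Modules} (τ : A ⟶ B) (x : X)
    (h : Function.Bijective (stalkL τ x)) : Function.Bijective (stalkL (tmapL F τ) x) := by
  have h1 : tmapL F τ = brA F A ≫ tmapR τ F ≫ inv (brA F B) := by
    rw [← Category.assoc, ← tmapL_brA, Category.assoc, IsIso.hom_inv_id, Category.comp_id]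
  rw [h1]
  exact bijective_stalkL_comp _ _ x (bijective_stalkL_of_isIso _ x)
    (bijective_stalkL_comp _ _ x (bijective_stalkL_tmapR τ F x h) (bijective_stalkL_of_isIso _ x))

/-- `F ⊗ τ` is mono when `τ` generates `L` at the associated points of `F`. -/
theorem mono_tensorBi_map (F : X.Modules) [F.IsQuasicoherent] (L : X.Modules) (τ : Coh.structureModule X ⟶ L)
    (h : ∀ y, Curv2.IsAssPoint F y → y ∈ CohB1.genLocus L τ) :
    Mono (((DCoh.tensorBi (X := X)).obj F).map τ) := by
  change Mono (tmapL F τ)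
  haveI : (CohB1.tensorMod F (Coh.structureModule X)).IsQuasicoherent :=
    Groth.Agent.Lib.Helper23.TensorQCoh.isQuasicoherent_of_iso
      (Groth.Agent.Lib.Helper23.TensorUnit.tensorUnitIso F).symm
  apply mono_of_stalk
  intro y hy
  have hy' : Curv2.IsAssPoint F y :=
    (isAssPoint_iff_of_iso (Groth.Agent.Lib.Helper23.TensorUnit.tensorUnitIso F) y).1 hy
  exact (bijective_stalkL_tmapL F τ y (bijective_stalkL_of_mem_genLocus L τ y (h y hy'))).1

end Groth.Agent.Lib.Helper11.RegSec
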