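import Mathlib
import Groth.Agent.Lib.Helper11ContractPic

/-!
Reindexing numerical types by permutations, and the Picard group of a numerical type of
genus at most zero.
-/

namespace Groth.Agent.Lib.Helper11.Contract

open Finset Models Groth.Agent.Lib.Helper11

variable {n : ℕ}

/-- reindexing a numerical type by a permutation -/
def reindex (T : Models.NumericalType n) (σ : Equiv.Perm (Fin n)) : Models.NumericalType n where
  m := fun i => T.m (σ i)
  a := fun i j => T.a (σ i) (σ j)
  w := fun i => T.w (σ i)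
  g := fun i => T.g (σ i)
  pos := T.pos
  m_pos := fun i => T.m_pos _
  w_pos := fun i => T.w_pos _
  g_nonneg := fun i => T.g_nonneg _
  symm := Matrix.IsSymm.ext fun i j => a_symm T _ _
  offDiag_nonneg := fun i j hij => T.offDiag_nonneg _ _ (fun h => hij (σ.injective h))
  connected := by
    intro I hI hI'
    classical
    have hne : (I.map σ.toEmbedding).Nonempty := by
      obtain ⟨i, hi⟩ := hI
      exact ⟨σ i, Finset.mem_map_of_mem _ hi⟩
    have huniv : I.map σ.toEmbedding ≠ univ := by
      intro h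
      apply hI'
      rw [eq_univ_iff_forall] at h ⊢
      intro x
      have := h (σ x)
      rw [Finset.mem_map_equiv] at this
      simpa using this
    obtain ⟨i', hi', j', hj', hij'⟩ := T.connected (I.map σ.toEmbedding) hne huniv
    rw [Finset.mem_map_equiv] at hi'
    refine ⟨σ.symm i', hi', σ.symm j', ?_, ?_⟩
    · intro h
      apply hj'
      rw [Finset.mem_map_equiv]
      exact h
    · simpa using hij'
  mulVec_m := by
    funext i
    simp only [Matrix.mulVec, dotProduct, Pi.zero_apply]
    rw [Equiv.sum_comp σ (fun j => T.a (σ i) j * T.m j)]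
    exact row_sum T (σ i)
  w_dvd := fun i j => T.w_dvd _ _

theorem genus_reindex (T : Models.NumericalType n) (σ : Equiv.Perm (Fin n)) :
    (reindex T σ).genus = T.genus := by
  unfold NumericalType.genus
  change 1 + ∑ i, T.m (σ i) * T.w (σ i) * (T.g (σ i) - 1) -
    (∑ i, T.m (σ i) * T.a (σ i) (σ i)) / 2 = _
  rw [Equiv.sum_comp σ (fun i => T.m i * T.w i * (T.g i - 1)),
    Equiv.sum_comp σ (fun i => T.m i * T.a i i)]

theorem reindex_pic_mulVec (T : Models.NumericalType n) (σ : Equiv.Perm (Fin n))
    (x : Fin n → ℤ) :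
    (reindex T σ).picMatrix.mulVec (fun i => x (σ i)) = fun i => (T.picMatrix.mulVec x) (σ i) := by
  funext i
  simp only [Matrix.mulVec, dotProduct]
  change ∑ j, T.picMatrix (σ i) (σ j) * x (σ j) = _
  exact Equiv.sum_comp σ (fun j => T.picMatrix (σ i) j * x j)

/-- reindexing does not change the Picard group -/
noncomputable def picReindex (T : Models.NumericalType n) (σ : Equiv.Perm (Fin n)) :
    T.Pic ≃ₗ[ℤ] (reindex T σ).Pic :=
  Submodule.Quotient.equiv _ _ (LinearEquiv.funCongrLeft ℤ ℤ σ) (by
    ext y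
    constructor
    · rintro ⟨_, ⟨x, rfl⟩, rfl⟩
      refine ⟨fun i => x (σ i), ?_⟩
      rw [Matrix.mulVecLin_apply, Matrix.mulVecLin_apply, reindex_pic_mulVec]
      rfl
    · rintro ⟨x', rfl⟩
      refine ⟨T.picMatrix.mulVec (fun i => x' (σ.symm i)), ⟨_, rfl⟩, ?_⟩
      rw [Matrix.mulVecLin_apply]
      have := reindex_pic_mulVec T σ (fun i => x' (σ.symm i))
      simp only [Equiv.symm_apply_apply] at this
      rw [this]
      rfl)

theorem int_equiv_of_injective {G : Type*} [AddCommGroup G] (ψ : G →+ ℤ)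
    (hinj : Function.Injective ψ) (h2 : ∀ z : ℤ, ∃ x, 2 • z = ψ x) : Nonempty (G ≃+ ℤ) := by
  obtain ⟨a, ha⟩ := Int.subgroup_cyclic ψ.range
  have hmem : ∀ z, z ∈ ψ.range ↔ ∃ k : ℤ, k * a = z := by
    intro z
    rw [ha, AddSubgroup.mem_closure_singleton]
    simp
  obtain ⟨x1, hx1⟩ := h2 1
  have ha0 : a ≠ 0 := by
    intro h0
    obtain ⟨k, hk⟩ := (hmem (ψ x1)).1 ⟨x1, rfl⟩
    rw [h0, mul_zero] at hk
    rw [← hk] at hx1
    simp at hx1
  obtain ⟨x0, hx0⟩ : ∃ x0, ψ x0 = a := (hmem a).2 ⟨1, one_mul a⟩
  have hθ : ∀ k : ℤ, ψ (zmultiplesHom G x0 k) = k * a := by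
    intro k
    simp [map_zsmul, hx0]
  have hbij : Function.Bijective (zmultiplesHom G x0) := by
    constructor
    · intro k k' hk
      have := congrArg ψ hk
      rw [hθ, hθ] at this
      exact mul_right_cancel₀ ha0 this
    · intro x
      obtain ⟨k, hk⟩ := (hmem (ψ x)).1 ⟨x, rfl⟩
      exact ⟨k, hinj (by rw [hθ, hk])⟩
  exact ⟨(AddEquiv.ofBijective (zmultiplesHom G x0) hbij).symm⟩

theorem pic_equiv_int : ∀ (n : ℕ) (T : Models.NumericalType (n + 1)), T.genus ≤ 0 →
    Nonempty (T.Pic ≃+ ℤ)
  | 0, T, _ => by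
    haveI : Subsingleton (Fin (0 + 1)) := (inferInstance : Subsingleton (Fin 1))
    have h0 : T.picMatrix = 0 := by
      funext i j
      have hi : i = 0 := Subsingleton.elim _ _
      have hj : j = 0 := Subsingleton.elim _ _
      subst hi hj
      have h1 := row_sum T 0
      rw [Fin.sum_univ_one] at h1
      have h2 : T.a 0 0 = 0 := by
        rcases mul_eq_zero.mp h1 with h' | h'
        · exact h'
        · exact absurd h' (T.m_pos 0).ne'
      unfold NumericalType.picMatrix
      rw [h2]
      simp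
    have hbot : LinearMap.range (Matrix.mulVecLin T.picMatrix) = ⊥ := by
      rw [h0]
      simp
    exact ⟨((Submodule.quotEquivOfEqBot _ hbot).trans
      (LinearEquiv.funUnique (Fin 1) ℤ ℤ)).toAddEquiv⟩
  | n + 1, T, hg => by
    have hn : 1 < n + 1 + 1 := by omega
    have hnotmin : ¬ T.IsMinimal := fun hmin => by
      have := one_le_genus_of_isMinimal T hmin hn
      omega
    unfold NumericalType.IsMinimal at hnotmin
    push Not at hnotmin
    obtain ⟨i, hi⟩ := hnotmin
    obtain ⟨σ, hσ⟩ : ∃ σ : Equiv.Perm (Fin (n + 1 + 1)), σ (Fin.last (n + 1)) = i :=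
      ⟨Equiv.swap i (Fin.last (n + 1)), Equiv.swap_apply_right _ _⟩
    have hlast : (reindex T σ).IsMinusOne (Fin.last (n + 1)) := by
      change T.g (σ (Fin.last _)) = 0 ∧
        T.a (σ (Fin.last _)) (σ (Fin.last _)) = - T.w (σ (Fin.last _))
      rw [hσ]
      exact hi
    have hT' := isContraction_contraction (reindex T σ) hlast
    have hg' : (contraction (reindex T σ) hlast).genus ≤ 0 := by
      rw [genus_eq (reindex T σ) hlast _ hT', genus_reindex]
      exact hg
    obtain ⟨e⟩ := pic_equiv_int n (contraction (reindex T σ) hlast) hg'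
    refine int_equiv_of_injective (e.toAddMonoidHom.comp
      ((picMap (reindex T σ) hlast _ hT').toAddMonoidHom.comp
        (picReindex T σ).toAddEquiv.toAddMonoidHom)) ?_ ?_
    · exact e.injective.comp ((picMap_injective (reindex T σ) hlast _ hT').comp
        (picReindex T σ).injective)
    · intro z
      obtain ⟨x, hx⟩ := picMap_two (reindex T σ) hlast _ hT' (e.symm z)
      refine ⟨(picReindex T σ).symm x, ?_⟩
      change 2 • z = e (picMap _ hlast _ hT' ((picReindex T σ) ((picReindex T σ).symm x)))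
      rw [LinearEquiv.apply_symm_apply, ← hx, map_nsmul, AddEquiv.apply_symm_apply]

end Groth.Agent.Lib.Helper11.Contract
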