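import Mathlib
import Groth.Prelude.Def_CInt

/-!
# Schematic density (helper20): schematically dense opens are dense; in a reduced scheme dense opens are
schematically dense
-/

set_option autoImplicit false
set_option linter.style.haveILetI false
universe u
open CategoryTheory CategoryTheory.Limits AlgebraicGeometry TopologicalSpace

namespace Groth.Agent.Lib.Helper20.SchDense

/-- a schematically dense open is dense. -/
theorem dense_of_isSchematicallyDense {X : Scheme.{u}} (U : X.Opens)
    (hU : CInt.IsSchematicallyDense U) : Dense (U : Set X) := by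
  rw [dense_iff_inter_open]
  intro W hWo hWne
  by_contra hemp
  rw [Set.not_nonempty_iff_eq_empty] at hemp
  let W' : X.Opens := ⟨W, hWo⟩
  have hbot : W' ⊓ U = ⊥ := by
    ext x
    simp only [Opens.coe_inf, Opens.coe_bot]
    exact Set.ext_iff.mp hemp x
  have hinj := hU W'
  haveI : Nonempty W' := by
    obtain ⟨x, hx⟩ := hWne
    exact ⟨⟨x, hx⟩⟩
  haveI : Nontrivial Γ(X, W') := inferInstance
  obtain ⟨a, b, hab⟩ := exists_pair_ne Γ(X, W')
  apply hab
  apply hinj
  have hss : ∀ (O : X.Opens), O = ⊥ → Subsingleton Γ(X, O) := by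
    intro O hO
    subst hO
    infer_instance
  haveI := hss _ hbot
  exact Subsingleton.elim _ _

/-- in a reduced scheme, a dense open is schematically dense. -/
theorem isSchematicallyDense_of_dense_of_isReduced {X : Scheme.{u}} [IsReduced X] (U : X.Opens)
    (hU : Dense (U : Set X)) : CInt.IsSchematicallyDense U := by
  intro W
  rw [injective_iff_map_eq_zero]
  intro s hs
  rw [← basicOpen_eq_bot_iff]
  by_contra hne
  have hne' : ((X.basicOpen s : X.Opens) : Set X).Nonempty := by
    rw [Set.nonempty_iff_ne_empty]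
    intro h
    apply hne
    ext x
    simp only [Opens.coe_bot]
    exact Set.ext_iff.mp h x
  obtain ⟨x, hxs, hxU⟩ := hU.inter_open_nonempty _ (X.basicOpen s).isOpen hne'
  have hxW : x ∈ W := X.basicOpen_le s hxs
  have h1 : X.basicOpen (X.presheaf.map (homOfLE (inf_le_left : W ⊓ U ≤ W)).op s) =
      (W ⊓ U) ⊓ X.basicOpen s := Scheme.basicOpen_res X s _
  have hs' : X.presheaf.map (homOfLE (inf_le_left : W ⊓ U ≤ W)).op s = 0 := hs
  rw [hs', Scheme.basicOpen_zero] at h1
  have : x ∈ (W ⊓ U) ⊓ X.basicOpen s := ⟨⟨hxW, hxU⟩, hxs⟩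
  rw [← h1] at this
  exact this

end Groth.Agent.Lib.Helper20.SchDense
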