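import Mathlib
import Groth.Prelude.Def_CInt
import Groth.Agent.Lib.Helper12SchDenseExt
import Groth.Agent.Lib.Helper20SchDense

/-!
Morphisms agreeing on a relatively schematically dense open (SGA3 XVIII-style statements).
-/

set_option autoImplicit false
universe u

namespace Groth.Agent.Lib.Helper11RelDense

open AlgebraicGeometry CategoryTheory Limits TopologicalSpace

/-- transfer of schematic density along an isomorphism -/
theorem isSchematicallyDense_of_isIso {X' X : Scheme.{u}} (φ : X' ⟶ X) [IsIso φ] (U : X.Opens)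
    (h : CInt.IsSchematicallyDense (φ ⁻¹ᵁ U)) : CInt.IsSchematicallyDense U := by
  intro V
  rw [injective_iff_map_eq_zero]
  intro a ha
  have hinj : Function.Injective (φ.app V) :=
    (ConcreteCategory.bijective_of_isIso (φ.app V)).1
  apply hinj
  rw [map_zero]
  apply h (φ ⁻¹ᵁ V)
  rw [map_zero]
  have hnat := φ.naturality (homOfLE (inf_le_left : V ⊓ U ≤ V)).op
  have h2 : (φ.app (V ⊓ U)) (X.presheaf.map (homOfLE (inf_le_left : V ⊓ U ≤ V)).op a) = 0 := by
    rw [ha, map_zero]
  have h3 := congr($(hnat) a)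
  rw [CommRingCat.comp_apply, CommRingCat.comp_apply, h2] at h3
  exact h3.symm

/-- relative schematic density gives density in the scheme itself -/
theorem isSchematicallyDense_of_rel {S : Scheme.{u}} (X : Over S) (U : X.left.Opens)
    (hU : ∀ (S' : Scheme.{u}) (g : S' ⟶ S),
      CInt.IsSchematicallyDense ((pullback.fst X.hom g) ⁻¹ᵁ U)) :
    CInt.IsSchematicallyDense U :=
  isSchematicallyDense_of_isIso (pullback.fst X.hom (𝟙 S)) U (hU S (𝟙 S))

/-- SGA3: two `S`-morphisms to an `S`-scheme with separated fibres which agree on a relatively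
schematically dense open agree on every fibre. -/
theorem fibre_eq {S : Scheme.{u}} (X Y : Over S) (U : X.left.Opens)
    (hU : ∀ (S' : Scheme.{u}) (g : S' ⟶ S),
      CInt.IsSchematicallyDense ((pullback.fst X.hom g) ⁻¹ᵁ U))
    (f g : X ⟶ Y) (h : U.ι ≫ f.left = U.ι ≫ g.left) (s : S)
    (hY : IsSeparated (pullback.snd Y.hom (S.fromSpecResidueField s))) :
    pullback.fst X.hom (S.fromSpecResidueField s) ≫ f.left =
      pullback.fst X.hom (S.fromSpecResidueField s) ≫ g.left := by
  obtain ⟨j, hj⟩ : ∃ j, j = S.fromSpecResidueField s := ⟨_, rfl⟩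
  rw [← hj] at hY ⊢
  let fs : pullback X.hom j ⟶ pullback Y.hom j :=
    pullback.lift (pullback.fst X.hom j ≫ f.left) (pullback.snd X.hom j)
      (by rw [Category.assoc, Over.w, pullback.condition])
  let gs : pullback X.hom j ⟶ pullback Y.hom j :=
    pullback.lift (pullback.fst X.hom j ≫ g.left) (pullback.snd X.hom j)
      (by rw [Category.assoc, Over.w, pullback.condition])
  have hfs1 : fs ≫ pullback.fst Y.hom j = pullback.fst X.hom j ≫ f.left := pullback.lift_fst _ _ _
  have hfs2 : fs ≫ pullback.snd Y.hom j = pullback.snd X.hom j := pullback.lift_snd _ _ _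
  have hgs1 : gs ≫ pullback.fst Y.hom j = pullback.fst X.hom j ≫ g.left := pullback.lift_fst _ _ _
  have hgs2 : gs ≫ pullback.snd Y.hom j = pullback.snd X.hom j := pullback.lift_snd _ _ _
  have hfg : fs = gs := by
    refine Groth.Agent.Lib.Helper12.SchDense.ext_of_isSchematicallyDense (pullback.snd Y.hom j)
      (by rw [hfs2, hgs2]) _ (hU _ j) ?_
    apply pullback.hom_ext
    · rw [Category.assoc, Category.assoc, hfs1, hgs1]
      have e : ((pullback.fst X.hom j) ⁻¹ᵁ U).ι ≫ pullback.fst X.hom j =
          (pullback.fst X.hom j ∣_ U) ≫ U.ι := (morphismRestrict_ι _ _).symm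
      rw [reassoc_of% e, reassoc_of% e, h]
    · rw [Category.assoc, Category.assoc, hfs2, hgs2]
  have := congr($hfg ≫ pullback.fst Y.hom j)
  rw [hfs1, hgs1] at this
  exact this

theorem eq_of_eq_on_relDense {S : Scheme.{u}} (X Y : Over S) (U : X.left.Opens)
    (hU : ∀ (S' : Scheme.{u}) (g : S' ⟶ S),
      CInt.IsSchematicallyDense ((pullback.fst X.hom g) ⁻¹ᵁ U))
    (hY : ∀ s : S, IsSeparated (pullback.snd Y.hom (S.fromSpecResidueField s)))
    (f g : X ⟶ Y) (h : U.ι ≫ f.left = U.ι ≫ g.left) : f = g := by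
  apply Over.OverMorphism.ext
  have h1 := fun s => fibre_eq X Y U hU f g h s (hY s)
  let e := equalizer.ι f.left g.left
  have hsurj : Function.Surjective e := by
    intro x
    obtain ⟨x', hx', -⟩ := Scheme.Pullback.exists_preimage_pullback (f := X.hom)
      (g := S.fromSpecResidueField (X.hom x)) x (IsLocalRing.closedPoint _)
      (by rw [Scheme.fromSpecResidueField_apply])
    refine ⟨equalizer.lift (pullback.fst X.hom _) (h1 (X.hom x)) x', ?_⟩
    rw [← Scheme.Hom.comp_apply, equalizer.lift_ι, hx']
  have hcl : IsClosedImmersion e :=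
    .of_isPreimmersion e (by rw [Set.range_eq_univ.mpr hsurj]; exact isClosed_univ)
  have hiso := Groth.Agent.Lib.Helper12.SchDense.isIso_of_isSchematicallyDense_factors e U
    (isSchematicallyDense_of_rel X U hU) (equalizer.lift U.ι h) (equalizer.lift_ι _ _)
  rw [← cancel_epi e]
  exact equalizer.condition _ _

end Groth.Agent.Lib.Helper11RelDense
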