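import Mathlib
import Groth.Prelude.Def_CInt
import Groth.Agent.Lib.Helper11RelDenseA
import Groth.Agent.Lib.Helper11HomogA

/-!
Homomorphisms of group schemes agreeing on a relatively schematically dense open are equal
(no separatedness needed), SGA3 XVIII.
-/

set_option autoImplicit false
universe u

namespace Groth.Agent.Lib.Helper11RelDense

open AlgebraicGeometry CategoryTheory Limits TopologicalSpace MonoidalCategory
  CartesianMonoidalCategory MonObj

variable {S : Scheme.{u}}

/-- the open `U ×_S U` of `G ×_S G` -/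
noncomputable def sqOpen (G : Over S) (U : G.left.Opens) : (G ⊗ G).left.Opens :=
  (fst G G).left ⁻¹ᵁ U ⊓ (snd G G).left ⁻¹ᵁ U

theorem sq_comp_eq (G H : Over S) [GrpObj G] [GrpObj H] (U : G.left.Opens)
    (f g : G ⟶ H) [IsMonHom f] [IsMonHom g] (h : U.ι ≫ f.left = U.ι ≫ g.left) :
    (sqOpen G U).ι ≫ μ[G].left ≫ f.left = (sqOpen G U).ι ≫ μ[G].left ≫ g.left := by
  have hf : μ[G].left ≫ f.left = (f ⊗ₘ f).left ≫ μ[H].left := by
    rw [← Over.comp_left, ← Over.comp_left, IsMonHom.mul_hom]
  have hg : μ[G].left ≫ g.left = (g ⊗ₘ g).left ≫ μ[H].left := by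
    rw [← Over.comp_left, ← Over.comp_left, IsMonHom.mul_hom]
  rw [hf, hg]
  let W' : Over S := Over.mk ((sqOpen G U).ι ≫ (G ⊗ G).hom)
  let ιW : W' ⟶ G ⊗ G := Over.homMk (sqOpen G U).ι rfl
  have h1 : (sqOpen G U).ι ≫ (fst G G).left ≫ f.left =
      (sqOpen G U).ι ≫ (fst G G).left ≫ g.left := by
    have e : (sqOpen G U).ι ≫ (fst G G).left =
        (fst G G).left.resLE U (sqOpen G U) inf_le_left ≫ U.ι :=
      (Scheme.Hom.resLE_comp_ι _ _).symm
    rw [reassoc_of% e, reassoc_of% e, h]
  have h2 : (sqOpen G U).ι ≫ (snd G G).left ≫ f.left =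
      (sqOpen G U).ι ≫ (snd G G).left ≫ g.left := by
    have e : (sqOpen G U).ι ≫ (snd G G).left =
        (snd G G).left.resLE U (sqOpen G U) inf_le_right ≫ U.ι :=
      (Scheme.Hom.resLE_comp_ι _ _).symm
    rw [reassoc_of% e, reassoc_of% e, h]
  have key : ιW ≫ (f ⊗ₘ f) = ιW ≫ (g ⊗ₘ g) := by
    apply CartesianMonoidalCategory.hom_ext
    · rw [Category.assoc, Category.assoc, tensorHom_fst, tensorHom_fst]
      ext
      exact h1
    · rw [Category.assoc, Category.assoc, tensorHom_snd, tensorHom_snd]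
      ext
      exact h2
  have key' := congrArg (fun m => m.left) key
  simp only [Over.comp_left] at key'
  have : ιW.left = (sqOpen G U).ι := rfl
  rw [this] at key'
  rw [reassoc_of% key']

theorem surjective_sq (G : Over S) [GrpObj G] (U : G.left.Opens)
    (hU : ∀ (S' : Scheme.{u}) (g : S' ⟶ S),
      CInt.IsSchematicallyDense ((pullback.fst G.hom g) ⁻¹ᵁ U)) :
    Function.Surjective ((sqOpen G U).ι ≫ μ[G].left) := by
  intro x
  obtain ⟨ix, hix⟩ : ∃ ix : Spec (G.left.residueField x) ⟶ G.left,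
      ix = G.left.fromSpecResidueField x := ⟨_, rfl⟩
  obtain ⟨j, hj⟩ : ∃ j : Spec (G.left.residueField x) ⟶ S, j = ix ≫ G.hom := ⟨_, rfl⟩
  let T' : Over S := Over.mk (pullback.fst G.hom j ≫ G.hom)
  let p : T' ⟶ G := Over.homMk (pullback.fst G.hom j) rfl
  let c : T' ⟶ G := Over.homMk (pullback.snd G.hom j ≫ ix)
    (by
      change (pullback.snd G.hom j ≫ ix) ≫ G.hom = pullback.fst G.hom j ≫ G.hom
      rw [Category.assoc, ← hj, pullback.condition])
  let q : T' ⟶ G := p⁻¹ * c
  let q' : T' ⟶ G := c * p⁻¹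
  have hwq : ∀ r : T' ⟶ G, r.left ≫ G.hom = pullback.snd G.hom j ≫ j := by
    intro r
    rw [Over.w r]
    exact pullback.condition
  let σ : T' ⟶ T' := Over.homMk (pullback.lift q.left (pullback.snd G.hom j) (hwq q))
    (by
      change pullback.lift q.left (pullback.snd G.hom j) (hwq q) ≫ pullback.fst G.hom j ≫ G.hom =
        pullback.fst G.hom j ≫ G.hom
      rw [pullback.lift_fst_assoc, hwq q]
      exact pullback.condition.symm)
  let τ : T' ⟶ T' := Over.homMk (pullback.lift q'.left (pullback.snd G.hom j) (hwq q'))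
    (by
      change pullback.lift q'.left (pullback.snd G.hom j) (hwq q') ≫ pullback.fst G.hom j ≫ G.hom =
        pullback.fst G.hom j ≫ G.hom
      rw [pullback.lift_fst_assoc, hwq q']
      exact pullback.condition.symm)
  have hσp : σ ≫ p = q := by
    ext
    exact pullback.lift_fst _ _ _
  have hτp : τ ≫ p = q' := by
    ext
    exact pullback.lift_fst _ _ _
  have hσs : σ.left ≫ pullback.snd G.hom j = pullback.snd G.hom j := pullback.lift_snd _ _ _
  have hτs : τ.left ≫ pullback.snd G.hom j = pullback.snd G.hom j := pullback.lift_snd _ _ _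
  have hσc : σ ≫ c = c := by
    ext
    change σ.left ≫ pullback.snd G.hom j ≫ ix = pullback.snd G.hom j ≫ ix
    rw [reassoc_of% hσs]
  have hτc : τ ≫ c = c := by
    ext
    change τ.left ≫ pullback.snd G.hom j ≫ ix = pullback.snd G.hom j ≫ ix
    rw [reassoc_of% hτs]
  have k1 : (σ ≫ τ) ≫ p = p := by
    rw [Category.assoc, hτp]
    change σ ≫ (c * p⁻¹) = p
    rw [MonObj.comp_mul, GrpObj.comp_inv, hσc, hσp]
    change c * (p⁻¹ * c)⁻¹ = p
    group
  have k2 : (τ ≫ σ) ≫ p = p := by
    rw [Category.assoc, hσp]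
    change τ ≫ (p⁻¹ * c) = p
    rw [MonObj.comp_mul, GrpObj.comp_inv, hτc, hτp]
    change (c * p⁻¹)⁻¹ * c = p
    group
  have e1 : σ ≫ τ = 𝟙 T' := by
    ext
    apply pullback.hom_ext
    · have := congrArg (fun m => m.left) k1
      exact this.trans (Category.id_comp _).symm
    · change (σ.left ≫ τ.left) ≫ pullback.snd G.hom j = 𝟙 _ ≫ pullback.snd G.hom j
      rw [Category.assoc, hτs, hσs, Category.id_comp]
  have e2 : τ ≫ σ = 𝟙 T' := by
    ext
    apply pullback.hom_ext
    · have := congrArg (fun m => m.left) k2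
      exact this.trans (Category.id_comp _).symm
    · change (τ.left ≫ σ.left) ≫ pullback.snd G.hom j = 𝟙 _ ≫ pullback.snd G.hom j
      rw [Category.assoc, hσs, hτs, Category.id_comp]
  have hiso : IsIso σ := ⟨τ, e1, e2⟩
  have hiso' : IsIso σ.left := inferInstanceAs (IsIso ((Over.forget _).map σ))
  -- density
  have hd : Dense (SetLike.coe (pullback.fst G.hom j ⁻¹ᵁ U)) :=
    Groth.Agent.Lib.Helper20.SchDense.dense_of_isSchematicallyDense _ (hU _ j)
  have hd2 : Dense (σ.left ⁻¹' (SetLike.coe (pullback.fst G.hom j ⁻¹ᵁ U))) :=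
    hd.preimage σ.left.isOpenEmbedding.isOpenMap
  have hne : Nonempty ↥(pullback G.hom j) := by
    obtain ⟨z, -, -⟩ := Scheme.Pullback.exists_preimage_pullback (f := G.hom) (g := j) x
      (IsLocalRing.closedPoint _)
      (by rw [hj, hix, Scheme.Hom.comp_apply, Scheme.fromSpecResidueField_apply])
    exact ⟨z⟩
  obtain ⟨a, ha1, ha2⟩ := (hd.inter_of_isOpen_left hd2
    (pullback.fst G.hom j ⁻¹ᵁ U).isOpen).nonempty
  -- the point
  let w : (G ⊗ G).left := (lift p q).left a
  have hw1 : (fst G G).left w = pullback.fst G.hom j a := by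
    change ((lift p q).left ≫ (fst G G).left) a = _
    rw [← Over.comp_left, lift_fst]
    rfl
  have hw2 : (snd G G).left w = pullback.fst G.hom j (σ.left a) := by
    change ((lift p q).left ≫ (snd G G).left) a = _
    rw [← Over.comp_left, lift_snd, ← hσp]
    rfl
  have hw : w ∈ sqOpen G U := by
    refine ⟨?_, ?_⟩
    · change (fst G G).left w ∈ U
      rw [hw1]
      exact ha1
    · change (snd G G).left w ∈ U
      rw [hw2]
      exact ha2
  have hw3 : μ[G].left w = x := by
    change ((lift p q).left ≫ μ[G].left) a = x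
    rw [← Over.comp_left, MonObj.mul_eq_mul]
    have hpq : p * q = c := by
      change p * (p⁻¹ * c) = c
      group
    have hpq' : lift p q ≫ (fst G G * snd G G) = c := by
      rw [MonObj.comp_mul, lift_fst, lift_snd, hpq]
    rw [hpq']
    change (pullback.snd G.hom j ≫ ix) a = x
    rw [Scheme.Hom.comp_apply, hix, Scheme.fromSpecResidueField_apply]
  exact ⟨⟨w, hw⟩, hw3⟩

theorem hom_eq_of_eq_on_relDense (G H : Over S) [GrpObj G] [GrpObj H] [Flat G.hom]
    (U : G.left.Opens)
    (hU : ∀ (S' : Scheme.{u}) (g : S' ⟶ S),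
      CInt.IsSchematicallyDense ((pullback.fst G.hom g) ⁻¹ᵁ U))
    (f g : G ⟶ H) [IsMonHom f] [IsMonHom g] (h : U.ι ≫ f.left = U.ι ≫ g.left) : f = g := by
  apply Over.OverMorphism.ext
  have hflatμ : Flat μ[G].left := Groth.Agent.Lib.Helper11Homog.flat_mul_left G
  have hflat : Flat ((sqOpen G U).ι ≫ μ[G].left) := inferInstance
  have hsurj : Surjective ((sqOpen G U).ι ≫ μ[G].left) := ⟨surjective_sq G U hU⟩
  have := Flat.epi_of_flat_of_surjective ((sqOpen G U).ι ≫ μ[G].left)
  rw [← cancel_epi ((sqOpen G U).ι ≫ μ[G].left)]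
  simpa only [Category.assoc] using sq_comp_eq G H U f g h

end Groth.Agent.Lib.Helper11RelDense
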