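import Mathlib
import Groth.Prelude.Def_Flat

/-!
Residue field degrees of finite morphisms are uniformly bounded; for finite universal
homeomorphisms they are powers of the exponential characteristic dividing a fixed integer.
-/

set_option autoImplicit false
universe u

namespace Groth.Agent.Lib.Helper11ResDeg

open AlgebraicGeometry CategoryTheory TopologicalSpace

/-- pure field theory: if the image of `ev : B → L` is spanned over `K` by the images of
finitely many elements and every element of `L` is a quotient of elements of the image, then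
`L` is finite over `K` of degree at most the number of these elements. -/
theorem finrank_le_of_span {K L B : Type*} [Field K] [Field L] [Algebra K L] [CommRing B]
    (ev : B →+* L) (s : Finset B)
    (hspan : ∀ b : B, ev b ∈ Submodule.span K (ev '' (s : Set B)))
    (hfrac : ∀ z : L, ∃ b c : B, ev c ≠ 0 ∧ z * ev c = ev b) :
    Module.Finite K L ∧ Module.finrank K L ≤ s.card := by
  classical
  obtain ⟨W, hW⟩ : ∃ W : Submodule K L, W = Submodule.span K (ev '' (s : Set B)) := ⟨_, rfl⟩
  let S : Subalgebra K L := Algebra.adjoin K (Set.range ev)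
  have hSW : Subalgebra.toSubmodule S ≤ W := by
    rw [Algebra.adjoin_eq_span, Submodule.span_le]
    intro z hz
    have h1 : Submonoid.closure (Set.range ev) ≤ ev.range.toSubmonoid :=
      Submonoid.closure_le.mpr (fun x hx => hx)
    obtain ⟨b, rfl⟩ := h1 hz
    rw [hW]
    exact hspan b
  have hfdW : FiniteDimensional K W := by
    rw [hW]
    exact FiniteDimensional.span_of_finite K (Set.Finite.image _ s.finite_toSet)
  have hfdS : FiniteDimensional K (Subalgebra.toSubmodule S) :=
    Submodule.finiteDimensional_of_le hSW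
  have hfdS' : Module.Finite K S := hfdS
  have halg : ∀ z : S, IsAlgebraic K (z : L) := by
    intro z
    have h1 : IsIntegral K z := Algebra.IsIntegral.isIntegral z
    have h2 : IsIntegral K (S.val z) := h1.map S.val
    exact h2.isAlgebraic
  have hStop : ∀ z : L, z ∈ S := by
    intro z
    obtain ⟨b, c, hc, hz⟩ := hfrac z
    have hb' : ev b ∈ S := Algebra.subset_adjoin ⟨b, rfl⟩
    have hc' : ev c ∈ S := Algebra.subset_adjoin ⟨c, rfl⟩
    have hci : (ev c)⁻¹ ∈ S := S.inv_mem_of_algebraic (x := ⟨ev c, hc'⟩) (halg ⟨ev c, hc'⟩)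
    have : z = ev b * (ev c)⁻¹ := by
      rw [← hz, mul_assoc, mul_inv_cancel₀ hc, mul_one]
    rw [this]
    exact S.mul_mem hb' hci
  have hWtop : W = ⊤ := by
    rw [eq_top_iff]
    intro z _
    exact hSW (hStop z)
  have hspan' : Submodule.span K ((s.image ev : Finset L) : Set L) = ⊤ := by
    rw [Finset.coe_image, ← hW, hWtop]
  refine ⟨Module.finite_def.mpr ⟨s.image ev, hspan'⟩, ?_⟩
  have h1 : Module.finrank K (Submodule.span K ((s.image ev : Finset L) : Set L)) ≤
      (s.image ev).card := finrank_span_finset_le_card (R := K) (s.image ev)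
  rw [hspan', finrank_top] at h1
  exact h1.trans Finset.card_image_le

/-- local bound for the residue field degree in terms of module generators over an affine open. -/
theorem finrank_residueFieldMap_le {X Y : Scheme.{u}} (f : X ⟶ Y) (V : Y.Opens)
    (hU : IsAffineOpen (f ⁻¹ᵁ V)) (s : Finset Γ(X, f ⁻¹ᵁ V))
    (hs : letI := (f.app V).hom.toAlgebra
      Submodule.span Γ(Y, V) (s : Set Γ(X, f ⁻¹ᵁ V)) = ⊤)
    (x : X) (hx : f x ∈ V) :
    letI := (f.residueFieldMap x).hom.toAlgebra
    Module.Finite (Y.residueField (f x)) (X.residueField x) ∧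
      Module.finrank (Y.residueField (f x)) (X.residueField x) ≤ s.card := by
  letI alg1 := (f.app V).hom.toAlgebra
  letI alg2 := (f.residueFieldMap x).hom.toAlgebra
  have hx' : x ∈ f ⁻¹ᵁ V := hx
  refine finrank_le_of_span (K := Y.residueField (f x)) (L := X.residueField x)
    (X.evaluation (f ⁻¹ᵁ V) x hx').hom s ?_ ?_
  · intro b
    have hb : b ∈ Submodule.span Γ(Y, V) (s : Set Γ(X, f ⁻¹ᵁ V)) := by rw [hs]; trivial
    induction hb using Submodule.span_induction with
    | mem b hb => exact Submodule.subset_span ⟨b, hb, rfl⟩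
    | zero => rw [map_zero]; exact Submodule.zero_mem _
    | add b c _ _ hb hc => rw [map_add]; exact Submodule.add_mem _ hb hc
    | smul a b _ hb =>
      have h1 : a • b = (f.app V).hom a * b := by
        rw [Algebra.smul_def]; rfl
      have h2 : (X.evaluation (f ⁻¹ᵁ V) x hx').hom ((f.app V).hom a) =
          algebraMap (Y.residueField (f x)) (X.residueField x)
            ((Y.evaluation V (f x) hx).hom a) :=
        (Scheme.evaluation_naturality_apply f x hx a).symm
      rw [h1, map_mul, h2, ← Algebra.smul_def]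
      exact Submodule.smul_mem _ _ hb
  · intro z
    obtain ⟨w, rfl⟩ := IsLocalRing.residue_surjective (R := X.presheaf.stalk x) z
    letI algst : Algebra Γ(X, f ⁻¹ᵁ V) (X.presheaf.stalk x) :=
      TopCat.Presheaf.algebra_section_stalk X.presheaf ⟨x, hx'⟩
    have hloc : IsLocalization.AtPrime (X.presheaf.stalk x)
        (hU.primeIdealOf ⟨x, hx'⟩).asIdeal := hU.isLocalization_stalk ⟨x, hx'⟩
    obtain ⟨⟨b, c⟩, h⟩ := IsLocalization.surj (hU.primeIdealOf ⟨x, hx'⟩).asIdeal.primeCompl w
    refine ⟨b, c, ?_, ?_⟩
    · have hu : IsUnit (algebraMap Γ(X, f ⁻¹ᵁ V) (X.presheaf.stalk x) c) :=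
        IsLocalization.map_units (X.presheaf.stalk x) c
      have hu2 := hu.map (IsLocalRing.residue (X.presheaf.stalk x))
      exact hu2.ne_zero
    · have := congrArg (IsLocalRing.residue (X.presheaf.stalk x)) h
      rw [map_mul] at this
      exact this

/-- the residue field degrees of a finite morphism to a quasi-compact scheme are bounded. -/
theorem exists_bound {T' T : Scheme.{u}} (p : T' ⟶ T) [IsFinite p] [CompactSpace T] :
    ∃ M : ℕ, ∀ t' : T', letI := (p.residueFieldMap t').hom.toAlgebra
      Module.Finite (T.residueField (p t')) (T'.residueField t') ∧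
      Module.finrank (T.residueField (p t')) (T'.residueField t') ≤ M := by
  classical
  have key : ∀ t : T, ∃ V : T.Opens, IsAffineOpen V ∧ t ∈ V := by
    intro t
    obtain ⟨_, ⟨V, hV, rfl⟩, htV, -⟩ := T.isBasis_affineOpens.exists_subset_of_mem_open
      (Set.mem_univ t) isOpen_univ
    exact ⟨V, hV, htV⟩
  choose V hV htV using key
  obtain ⟨I, hI⟩ := isCompact_univ.elim_finite_subcover (fun t => (V t : Set T))
    (fun t => (V t).isOpen) (fun t _ => Set.mem_iUnion.mpr ⟨t, htV t⟩)
  have hgen : ∀ t : T, ∃ s : Finset Γ(T', p ⁻¹ᵁ V t),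
      letI := (p.app (V t)).hom.toAlgebra
      Submodule.span Γ(T, V t) (s : Set Γ(T', p ⁻¹ᵁ V t)) = ⊤ := by
    intro t
    letI := (p.app (V t)).hom.toAlgebra
    have hfin : Module.Finite Γ(T, V t) Γ(T', p ⁻¹ᵁ V t) := IsFinite.finite_app p (V t) (hV t)
    exact Module.finite_def.mp hfin
  choose s hs using hgen
  refine ⟨∑ i ∈ I, (s i).card, fun t' => ?_⟩
  obtain ⟨i, hiI, hi⟩ : ∃ i ∈ I, p t' ∈ V i := by simpa using hI (Set.mem_univ (p t'))
  obtain ⟨h1, h2⟩ := finrank_residueFieldMap_le p (V i) ((hV i).preimage p) (s i) (hs i) t' hi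
  exact ⟨h1, h2.trans (Finset.single_le_sum (f := fun i => (s i).card) (fun _ _ => Nat.zero_le _) hiI)⟩

/-- a universal homeomorphism is universally injective -/
theorem universallyInjective_of_isUnivHomeo {T' T : Scheme.{u}} (p : T' ⟶ T)
    (hp : FlatMor.IsUnivHomeo p) : UniversallyInjective p := by
  rw [universallyInjective_eq]
  refine MorphismProperty.universally_mono ?_ _ hp
  intro X Y f hf
  exact hf.injective

theorem main {T' T : Scheme.{u}} (p : T' ⟶ T) [IsFinite p] (hp : FlatMor.IsUnivHomeo p)
    [CompactSpace T] :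
    ∃ d : ℕ, 0 < d ∧ ∀ t' : T', ∃ e : ℕ,
      @Module.finrank (T.residueField (p t')) (T'.residueField t') _ _
          (p.residueFieldMap t').hom.toAlgebra.toModule =
        ringExpChar (T.residueField (p t')) ^ e ∧
      ringExpChar (T.residueField (p t')) ^ e ∣ d := by
  obtain ⟨M, hM⟩ := exists_bound p
  have hui : UniversallyInjective p := universallyInjective_of_isUnivHomeo p hp
  refine ⟨M.factorial, Nat.factorial_pos M, fun t' => ?_⟩
  letI := (p.residueFieldMap t').hom.toAlgebra
  obtain ⟨hfin, hle⟩ := hM t'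
  have h02 : UniversallyInjective p ↔ (Function.Injective p ∧
      ∀ x, (p.residueFieldMap x).hom.IsPurelyInseparable) :=
    (tfae_universallyInjective p).out 0 2
  have hpi : (p.residueFieldMap t').hom.IsPurelyInseparable := (h02.mp hui).2 t'
  have : IsPurelyInseparable (T.residueField (p t')) (T'.residueField t') := hpi
  obtain ⟨e, he⟩ := IsPurelyInseparable.finrank_eq_pow (F := T.residueField (p t'))
    (T'.residueField t') (ringExpChar (T.residueField (p t')))
  refine ⟨e, he, ?_⟩
  rw [← he]
  exact Nat.dvd_factorial Module.finrank_pos hle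

end Groth.Agent.Lib.Helper11ResDeg
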