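import Mathlib
import Groth.Prelude.Def_PLie
import Groth.Agent.Lib.Helper11JacobsonF

namespace Groth.Agent.Lib.Helper11ResPBW

open PLie Finset Groth.Agent.Lib.Helper22 Groth.Agent.Lib.Helper11Jacobson

attribute [local instance 100] LieRing.ofAssociativeRing

universe u v w

section Xi

variable {R : Type u} [CommRing R] {p : ℕ} [hp : Fact p.Prime] [CharP R p]
  {L : Type v} [LieRing L] [LieAlgebra R L] (φ : PLie.PMap R p L)

/-- the central element `x^p - x^{[p]}` of the enveloping algebra -/
noncomputable def xi (x : L) : UniversalEnvelopingAlgebra R L :=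
  UniversalEnvelopingAlgebra.ι R x ^ p - UniversalEnvelopingAlgebra.ι R (φ x)

theorem xi_comm_ι (x y : L) :
    xi φ x * UniversalEnvelopingAlgebra.ι R y = UniversalEnvelopingAlgebra.ι R y * xi φ x := by
  set ιU : L →ₗ⁅R⁆ UniversalEnvelopingAlgebra R L := UniversalEnvelopingAlgebra.ι R with hιU
  have h1 := ad_pow_char R p (ιU x) (ιU y)
  rw [← map_ad_pow' ιU x y p, ← φ.ad_map x, LieAlgebra.ad_apply, LieHom.map_lie,
    Ring.lie_def] at h1
  simp only [xi]
  rw [sub_mul, mul_sub]
  linear_combination (norm := abel) -h1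

theorem xi_central (x : L) (w : UniversalEnvelopingAlgebra R L) : xi φ x * w = w * xi φ x := by
  induction w using Helper11PBWRing.U_induction with
  | halg r => exact (Algebra.commutes r (xi φ x)).symm
  | hι y => exact xi_comm_ι φ x y
  | hmul a c ha hc => rw [← mul_assoc, ha, mul_assoc, hc, mul_assoc]
  | hadd a c ha hc => rw [mul_add, add_mul, ha, hc]

theorem xi_add (x x' : L) : xi φ (x + x') = xi φ x + xi φ x' := by
  set ιU : L →ₗ⁅R⁆ UniversalEnvelopingAlgebra R L := UniversalEnvelopingAlgebra.ι R with hιU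
  simp only [xi]
  have h1 : φ (x + x') = φ x + φ x' - jacobson R p x x' := φ.map_add x x'
  rw [h1, map_add, jacobson_formula R p (ιU x) (ιU x'), map_sub, map_add, map_jacobson ιU x x']
  abel

theorem xi_smul (c : R) (x : L) : xi φ (c • x) = c ^ p • xi φ x := by
  simp only [xi]
  have h1 : φ (c • x) = c ^ p • φ x := φ.map_smul c x
  rw [h1, map_smul, map_smul, smul_pow, smul_sub]

theorem xi_zero : xi φ (0 : L) = 0 := by
  have h := xi_smul φ (0 : R) (0 : L)
  rw [zero_smul, zero_pow hp.out.ne_zero, zero_smul] at h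
  exact h

/-- `ξ` as an additive map -/
noncomputable def xiHom : L →+ UniversalEnvelopingAlgebra R L where
  toFun := xi φ
  map_zero' := xi_zero φ
  map_add' := xi_add φ

theorem xi_sum {ι : Type w} (s : Finset ι) (f : ι → L) :
    xi φ (∑ i ∈ s, f i) = ∑ i ∈ s, xi φ (f i) :=
  map_sum (xiHom φ) f s

/-- expansion of `ξ` in a basis -/
theorem xi_eq_sum {ι : Type w} [Fintype ι] (b : Module.Basis ι R L) (x : L) :
    xi φ x = ∑ i, (b.repr x i) ^ p • xi φ (b i) := by
  conv_lhs => rw [← b.sum_repr x]
  rw [xi_sum]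
  apply Finset.sum_congr rfl
  intro i _
  rw [xi_smul]

end Xi

end Groth.Agent.Lib.Helper11ResPBW
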