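import Mathlib
import Groth.Prelude.Def_PLie
import Groth.Agent.Lib.Helper11ResPBWA

namespace Groth.Agent.Lib.Helper11ResPBW

open PLie Finset Groth.Agent.Lib.Helper22 Groth.Agent.Lib.Helper11Jacobson
open Groth.Agent.Lib.Helper11PBWRing

attribute [local instance 100] LieRing.ofAssociativeRing

universe u v w

section Lead

variable {R : Type u} [CommRing R] {p : ℕ} [hp : Fact p.Prime] [CharP R p]
  {L : Type v} [LieRing L] [LieAlgebra R L] (φ : PLie.PMap R p L)
  {ι : Type w} [LinearOrder ι] (b : Module.Basis ι R L)

/-- strict length filtration -/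
noncomputable def Fl (d : ℕ) : Submodule R (S R ι) := Finsupp.supported R R {l : SL ι | l.len < d}

omit [CharP R p] in
theorem Fl_succ (d : ℕ) : Fl (R := R) (ι := ι) (d + 1) = F d := by
  simp only [Fl, F]
  congr 1
  ext l
  simp

omit [CharP R p] in
theorem Fl_zero : Fl (R := R) (ι := ι) 0 = ⊥ := by
  simp only [Fl]
  have : {l : SL ι | l.len < 0} = ∅ := by ext l; simp
  rw [this, Finsupp.supported_empty]

omit [CharP R p] in
theorem Fl_mono {d e : ℕ} (h : d ≤ e) : Fl (R := R) (ι := ι) d ≤ Fl e :=
  Finsupp.supported_mono fun _ hl => lt_of_lt_of_le hl h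

omit [CharP R p] in
theorem Fl_le_F (d : ℕ) : Fl (R := R) (ι := ι) d ≤ F d :=
  Finsupp.supported_mono fun l hl => by
    have h' : l.len < d := hl
    exact (le_of_lt h' : l.len ≤ d)

omit [CharP R p] in
theorem apply_eq_zero_of_mem_Fl {d : ℕ} {q : S R ι} (hq : q ∈ Fl d) {l : SL ι} (hl : d ≤ l.len) :
    q l = 0 := by
  rw [Fl, Finsupp.mem_supported] at hq
  by_contra h
  have : l ∈ q.support := Finsupp.mem_support_iff.mpr h
  have := hq this
  have h' : l.len < d := this
  omega

omit [CharP R p] in
theorem rho_Fl {d : ℕ} {q : S R ι} (hq : q ∈ Fl d) (x : L) : rho b x q ∈ Fl (R := R) (d + 1) := by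
  rcases d with _ | d
  · rw [Fl_zero, Submodule.mem_bot] at hq
    rw [hq, map_zero]
    exact Submodule.zero_mem _
  · rw [Fl_succ] at hq
    rw [Fl_succ]
    exact rho_B' b hq x

omit [CharP R p] in
/-- leading term of an iterated action of a basis vector -/
theorem lead_iter (i : ι) (n : ℕ) (l : SL ι) (q : S R ι) (hq : q - z l ∈ Fl (R := R) l.len) :
    (rho b (b i))^[n] q - z ((SL.ins i)^[n] l) ∈ Fl (R := R) (l.len + n) := by
  induction n with
  | zero => simpa using hq
  | succ n ih =>
    rw [Function.iterate_succ_apply', Function.iterate_succ_apply']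
    set q' := (rho b (b i))^[n] q with hq'
    set l' := (SL.ins i)^[n] l with hl'
    have hlen : l'.len = l.len + n := by
      rw [hl']
      clear ih hl' hq'
      induction n with
      | zero => rfl
      | succ n ih => rw [Function.iterate_succ_apply', SL.len_ins, ih]; ring
    have h1 : rho b (b i) (z l') - z (SL.ins i l') ∈ Fl (R := R) (l.len + (n + 1)) := by
      have := rho_B (k := R) b i l'
      rw [← Fl_succ, hlen] at this
      exact this
    have h2 : rho b (b i) (q' - z l') ∈ Fl (R := R) (l.len + (n + 1)) := rho_Fl b ih (b i)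
    have : rho b (b i) q' - z (SL.ins i l') =
        rho b (b i) (q' - z l') + (rho b (b i) (z l') - z (SL.ins i l')) := by
      rw [map_sub]; abel
    rw [this]
    exact Submodule.add_mem _ h2 h1

omit [CharP R p] in
theorem len_iter_ins (i : ι) (n : ℕ) (l : SL ι) : ((SL.ins i)^[n] l).len = l.len + n := by
  induction n with
  | zero => rfl
  | succ n ih => rw [Function.iterate_succ_apply', SL.len_ins, ih]; ring

omit [CharP R p] in
theorem ev_ι_pow_mul (x : L) (n : ℕ) (u : UniversalEnvelopingAlgebra R L) :
    ev b (UniversalEnvelopingAlgebra.ι R x ^ n * u) = (rho b x)^[n] (ev b u) := by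
  induction n with
  | zero => simp
  | succ n ih =>
    rw [pow_succ', mul_assoc, ev_mul_ι, ih, Function.iterate_succ_apply']

/-- product of the central elements along a list of indices -/
noncomputable def zp (js : List ι) : UniversalEnvelopingAlgebra R L :=
  (js.map fun j => xi φ (b j)).prod

/-- the monomials `z^js x^a` -/
noncomputable def mm (js : List ι) (a : List ι) : UniversalEnvelopingAlgebra R L :=
  zp φ b js * mon b a

/-- the leading sorted list of `z^js x^a` -/
def lst (p : ℕ) (js : List ι) (a : SL ι) : SL ι := js.foldr (fun j l => (SL.ins j)^[p] l) a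

omit [CharP R p] hp in
theorem len_lst (js : List ι) (a : SL ι) : (lst p js a).len = p * js.length + a.len := by
  induction js with
  | nil => simp [lst]
  | cons j js ih =>
    have : lst p (j :: js) a = (SL.ins j)^[p] (lst p js a) := rfl
    rw [this, len_iter_ins, ih, List.length_cons]
    ring

theorem mm_cons (j : ι) (js a : List ι) : mm φ b (j :: js) a = xi φ (b j) * mm φ b js a := by
  simp only [mm, zp, List.map_cons, List.prod_cons, mul_assoc]

/-- leading term of `z^js x^a` -/
theorem lead_mm (js : List ι) (a : SL ι) :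
    ev b (mm φ b js a.1) - z (lst p js a) ∈ Fl (R := R) (lst p js a).len := by
  have hp2 : 2 ≤ p := hp.out.two_le
  induction js with
  | nil =>
    have : mm φ b [] a.1 = mon b a.1 := by simp [mm, zp]
    rw [this, ev_mon]
    have : lst p [] a = a := rfl
    rw [this, sub_self]
    exact Submodule.zero_mem _
  | cons j js ih =>
    have hl : lst p (j :: js) a = (SL.ins j)^[p] (lst p js a) := rfl
    set l := lst p js a with hl'
    set u := mm φ b js a.1 with hu
    rw [mm_cons, hl, len_iter_ins, xi, sub_mul, map_sub, ev_ι_pow_mul, ev_mul_ι]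
    have h1 := lead_iter b j p l (ev b u) ih
    have hq : ev b u ∈ F (k := R) l.len := by
      have : ev b u = (ev b u - z l) + z l := by abel
      rw [this]
      exact Submodule.add_mem _ (Fl_le_F _ ih) (z_mem_F le_rfl)
    have h2 : rho b (φ (b j)) (ev b u) ∈ Fl (R := R) (l.len + p) := by
      have := rho_B' b hq (φ (b j))
      rw [← Fl_succ] at this
      exact Fl_mono (by omega) this
    have : (rho b (b j))^[p] (ev b u) - rho b (φ (b j)) (ev b u) - z ((SL.ins j)^[p] l) =
        ((rho b (b j))^[p] (ev b u) - z ((SL.ins j)^[p] l)) - rho b (φ (b j)) (ev b u) := by abel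
    rw [this]
    exact Submodule.sub_mem _ h1 h2

end Lead

end Groth.Agent.Lib.Helper11ResPBW
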