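import Mathlib
import Groth.Prelude.Def_PLie
import Groth.Agent.Lib.Helper11ResPBWB

namespace Groth.Agent.Lib.Helper11ResPBW

open PLie Finset Groth.Agent.Lib.Helper22 Groth.Agent.Lib.Helper11Jacobson
open Groth.Agent.Lib.Helper11PBWRing

attribute [local instance 100] LieRing.ofAssociativeRing

universe u v w

section Counts

variable {ι : Type w} [LinearOrder ι]

theorem count_ins (i j : ι) (l : SL ι) :
    (SL.ins j l).1.count i = l.1.count i + if j = i then 1 else 0 :=
  List.orderedInsert_count (· ≤ ·) l.1 i j

theorem count_iter_ins (i j : ι) (n : ℕ) (l : SL ι) :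
    ((SL.ins j)^[n] l).1.count i = l.1.count i + if j = i then n else 0 := by
  induction n with
  | zero => simp
  | succ n ih =>
    rw [Function.iterate_succ_apply', count_ins, ih]
    split_ifs <;> ring

theorem count_lst (p : ℕ) (i : ι) (js : List ι) (a : SL ι) :
    (lst p js a).1.count i = p * js.count i + a.1.count i := by
  induction js with
  | nil => simp [lst]
  | cons j js ih =>
    have : lst p (j :: js) a = (SL.ins j)^[p] (lst p js a) := rfl
    rw [this, count_iter_ins, ih, List.count_cons]
    by_cases h : j = i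
    · simp [h]; ring
    · simp [h]

theorem SL_ext {l l' : SL ι} (h : ∀ i, l.1.count i = l'.1.count i) : l = l' := by
  apply Subtype.ext
  exact List.Perm.eq_of_pairwise' l.2 l'.2 (List.perm_iff_count.mpr h)

/-- reduced sorted lists: all multiplicities `< p` -/
def Red (p : ℕ) (a : SL ι) : Prop := ∀ i, a.1.count i < p

theorem lst_inj {p : ℕ} (hp : 0 < p) {js js' a a' : SL ι} (ha : Red p a) (ha' : Red p a')
    (h : lst p js.1 a = lst p js'.1 a') : js = js' ∧ a = a' := by
  have hc : ∀ i, p * js.1.count i + a.1.count i = p * js'.1.count i + a'.1.count i := by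
    intro i
    rw [← count_lst, ← count_lst, h]
  refine ⟨SL_ext fun i => ?_, SL_ext fun i => ?_⟩
  · have h1 : (p * js.1.count i + a.1.count i) / p = (p * js'.1.count i + a'.1.count i) / p := by
      rw [hc i]
    rwa [Nat.mul_add_div hp, Nat.mul_add_div hp, Nat.div_eq_of_lt (ha i), Nat.div_eq_of_lt (ha' i),
      add_zero, add_zero] at h1
  · have h1 : (p * js.1.count i + a.1.count i) % p = (p * js'.1.count i + a'.1.count i) % p := by
      rw [hc i]
    rwa [Nat.mul_add_mod, Nat.mul_add_mod, Nat.mod_eq_of_lt (ha i), Nat.mod_eq_of_lt (ha' i)] at h1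

end Counts

section Indep

variable {R : Type u} [CommRing R] {ι : Type w} [LinearOrder ι]

/-- triangular families are linearly independent -/
theorem tri_indep [Nontrivial R] {T : Type*} (σ : T → SL ι) (hσ : Function.Injective σ)
    (v : T → S R ι) (hv : ∀ t, v t - z (σ t) ∈ Fl (R := R) (σ t).len) :
    LinearIndependent R v := by
  classical
  rw [linearIndependent_iff']
  intro s g hsum
  by_contra hne
  push Not at hne
  obtain ⟨t1, ht1, hg1⟩ := hne
  set s' := s.filter (fun t => g t ≠ 0) with hs'def
  have hs' : s'.Nonempty := ⟨t1, by simp [hs'def, ht1, hg1]⟩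
  obtain ⟨t0, ht0, hmax⟩ := Finset.exists_max_image s' (fun t => (σ t).len) hs'
  have ht0s : t0 ∈ s := (Finset.mem_filter.mp ht0).1
  have hg0 : g t0 ≠ 0 := (Finset.mem_filter.mp ht0).2
  have h0 := congrArg (fun q : S R ι => q (σ t0)) hsum
  simp only [Finsupp.coe_finsetSum, Finset.sum_apply, Finsupp.smul_apply, Finsupp.zero_apply,
    smul_eq_mul] at h0
  have hterm : ∀ t ∈ s, g t * (v t) (σ t0) = if t = t0 then g t0 else 0 := by
    intro t ht
    by_cases hgt : g t = 0
    · rw [hgt, zero_mul]
      by_cases htt : t = t0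
      · exact absurd (htt ▸ hgt) hg0
      · rw [if_neg htt]
    · have hts' : t ∈ s' := Finset.mem_filter.mpr ⟨ht, hgt⟩
      have hle : (σ t).len ≤ (σ t0).len := hmax t hts'
      have h1 : (v t - z (σ t) : S R ι) (σ t0) = 0 := apply_eq_zero_of_mem_Fl (hv t) hle
      have h2 : (v t) (σ t0) = (z (σ t) : S R ι) (σ t0) := by
        have := h1
        rw [Finsupp.sub_apply, sub_eq_zero] at this
        exact this
      rw [h2]
      by_cases htt : t = t0
      · subst htt
        simp
      · rw [if_neg htt]
        have : σ t ≠ σ t0 := fun h => htt (hσ h)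
        simp [this]
  rw [Finset.sum_congr rfl hterm, Finset.sum_ite_eq' s t0, if_pos ht0s] at h0
  exact hg0 h0

end Indep

section MM

variable {R : Type u} [CommRing R] [Nontrivial R] {p : ℕ} [hp : Fact p.Prime] [CharP R p]
  {L : Type v} [LieRing L] [LieAlgebra R L] (φ : PLie.PMap R p L)
  {ι : Type w} [LinearOrder ι] (b : Module.Basis ι R L)

/-- restricted PBW, independence half: the monomials `z^js x^a`
(`js` sorted, `a` sorted and reduced) are linearly independent -/
theorem mm_indep :
    LinearIndependent R (fun t : SL ι × {a : SL ι // Red p a} => mm φ b t.1.1 t.2.1.1) := by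
  have h := tri_indep (R := R) (fun t : SL ι × {a : SL ι // Red p a} => lst p t.1.1 t.2.1)
    (by
      rintro ⟨js, a, ha⟩ ⟨js', a', ha'⟩ h
      obtain ⟨h1, h2⟩ := lst_inj hp.out.pos ha ha' h
      subst h1 h2
      rfl)
    (fun t => ev b (mm φ b t.1.1 t.2.1.1)) (fun t => lead_mm φ b t.1.1 t.2.1)
  exact LinearIndependent.of_comp (ev b) h

end MM

end Groth.Agent.Lib.Helper11ResPBW
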