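import Mathlib
import Groth.Prelude.Def_PLie
import Groth.Agent.Lib.Helper11ResPBWC

namespace Groth.Agent.Lib.Helper11ResPBW

open PLie Finset Groth.Agent.Lib.Helper22 Groth.Agent.Lib.Helper11Jacobson
open Groth.Agent.Lib.Helper11PBWRing

attribute [local instance 100] LieRing.ofAssociativeRing

universe u v w

section Decomp

variable {ι : Type w} [LinearOrder ι]

/-- erase one occurrence from a sorted list -/
def SLerase (i : ι) (l : SL ι) : SL ι := ⟨l.1.erase i, l.2.sublist List.erase_sublist⟩

theorem ins_erase {i : ι} {l : SL ι} (h : i ∈ l.1) : SL.ins i (SLerase i l) = l := by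
  apply SL_ext
  intro j
  rw [count_ins]
  simp only [SLerase]
  by_cases hij : i = j
  · subst hij
    rw [if_pos rfl, List.count_erase_self]
    have : 0 < l.1.count i := List.count_pos_iff.mpr h
    omega
  · rw [if_neg hij, add_zero, List.count_erase_of_ne (Ne.symm hij)]

theorem exists_iter_ins (i : ι) (n : ℕ) : ∀ l : SL ι, n ≤ l.1.count i → ∃ l', l = (SL.ins i)^[n] l' := by
  induction n with
  | zero => intro l _; exact ⟨l, rfl⟩
  | succ n ih =>
    intro l hl
    have hmem : i ∈ l.1 := List.count_pos_iff.mp (by omega)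
    have hc : n ≤ (SLerase i l).1.count i := by
      simp only [SLerase]
      rw [List.count_erase_self]
      omega
    obtain ⟨l', hl'⟩ := ih (SLerase i l) hc
    refine ⟨l', ?_⟩
    rw [Function.iterate_succ_apply', ← hl', ins_erase hmem]

end Decomp

section Span

variable {R : Type u} [CommRing R] {p : ℕ} [hp : Fact p.Prime] [CharP R p]
  {L : Type v} [LieRing L] [LieAlgebra R L] (φ : PLie.PMap R p L)
  {ι : Type w} [LinearOrder ι] (b : Module.Basis ι R L)

omit [CharP R p] hp in
theorem sig_ev (u : UniversalEnvelopingAlgebra R L) : sig b (ev b u) = u := by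
  obtain ⟨q, rfl⟩ := sig_surjective b u
  rw [ev_sig]

omit [CharP R p] hp in
theorem ι_pow_mul_sig (x : L) (n : ℕ) (q : S R ι) :
    UniversalEnvelopingAlgebra.ι R x ^ n * sig b q = sig b ((rho b x)^[n] q) := by
  induction n with
  | zero => simp
  | succ n ih =>
    rw [pow_succ', mul_assoc, ih, Function.iterate_succ_apply',
      intertwine b _ _ (mem_F_sup _) x]

/-- the span of all monomials `z^js x^a`, `a` reduced -/
noncomputable def NN : Submodule R (UniversalEnvelopingAlgebra R L) :=
  Submodule.span R (Set.range fun t : List ι × {a : SL ι // Red p a} => mm φ b t.1 t.2.1.1)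

theorem xi_mul_mem_NN (i : ι) {u : UniversalEnvelopingAlgebra R L} (hu : u ∈ NN φ b) :
    xi φ (b i) * u ∈ NN φ b := by
  have : NN φ b ≤ (NN φ b).comap (LinearMap.mulLeft R (xi φ (b i))) := by
    rw [NN, Submodule.span_le]
    rintro _ ⟨⟨js, a⟩, rfl⟩
    simp only [Submodule.comap_coe, Set.mem_preimage, LinearMap.mulLeft_apply, SetLike.mem_coe]
    rw [← mm_cons]
    exact Submodule.subset_span ⟨⟨i :: js, a⟩, rfl⟩
  exact this hu

/-- restricted PBW, spanning half -/
theorem sig_mem_NN : ∀ d : ℕ, ∀ q ∈ F (k := R) (ι := ι) d, sig b q ∈ NN φ b := by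
  have hp2 : 2 ≤ p := hp.out.two_le
  intro d
  induction d using Nat.strong_induction_on with
  | _ d IH =>
  intro q hq
  refine map_F_le (sig b) (NN φ b) d ?_ hq
  intro l hl
  rcases Nat.lt_or_ge l.len d with hlt | hge
  · exact IH l.len hlt _ (z_mem_F le_rfl)
  have hld : l.len = d := le_antisymm hl hge
  by_cases hred : Red p l
  · rw [sig_z]
    have : mon b l.1 = mm φ b [] (⟨l, hred⟩ : {a : SL ι // Red p a}).1.1 := by
      simp [mm, zp]
    rw [this]
    exact Submodule.subset_span ⟨⟨[], ⟨l, hred⟩⟩, rfl⟩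
  · simp only [Red] at hred
    push Not at hred
    obtain ⟨i, hi⟩ := hred
    obtain ⟨l', hl'⟩ := exists_iter_ins i p l hi
    have hlen : l.len = l'.len + p := by rw [hl', len_iter_ins]
    -- the lower order part
    have hr : (rho b (b i))^[p] (z l') - z l ∈ Fl (R := R) d := by
      have := lead_iter (R := R) b i p l' (z l') (by rw [sub_self]; exact Submodule.zero_mem _)
      rw [← hl', ← hlen, hld] at this
      exact this
    obtain ⟨d', rfl⟩ : ∃ d', d = d' + 1 := ⟨d - 1, by omega⟩
    rw [Fl_succ] at hr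
    have h1 : sig b ((rho b (b i))^[p] (z l') - z l) ∈ NN φ b := IH d' (Nat.lt_succ_self d') _ hr
    have h2 : sig b ((rho b (b i))^[p] (z l')) ∈ NN φ b := by
      rw [← ι_pow_mul_sig]
      have hx : UniversalEnvelopingAlgebra.ι R (b i) ^ p =
          xi φ (b i) + UniversalEnvelopingAlgebra.ι R (φ (b i)) := by
        simp only [xi]; abel
      rw [hx, add_mul]
      apply Submodule.add_mem
      · apply xi_mul_mem_NN
        exact IH l'.len (by omega) _ (z_mem_F le_rfl)
      · rw [intertwine b _ _ (z_mem_F le_rfl) (φ (b i))]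
        exact IH (l'.len + 1) (by omega) _ (rho_B' b (z_mem_F le_rfl) _)
    have : sig b (z l) = sig b ((rho b (b i))^[p] (z l')) - sig b ((rho b (b i))^[p] (z l') - z l) := by
      rw [map_sub]; abel
    rw [this]
    exact Submodule.sub_mem _ h2 h1

theorem NN_eq_top : NN φ b = ⊤ := by
  rw [eq_top_iff]
  intro u _
  rw [← sig_ev b u]
  exact sig_mem_NN φ b _ _ (mem_F_sup _)

end Span

end Groth.Agent.Lib.Helper11ResPBW
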