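import Mathlib
import Groth.Prelude.Def_PLie
import Groth.Agent.Lib.Helper11ResPBWD

namespace Groth.Agent.Lib.Helper11ResPBW

open PLie Finset Groth.Agent.Lib.Helper22 Groth.Agent.Lib.Helper11Jacobson
open Groth.Agent.Lib.Helper11PBWRing

attribute [local instance 100] LieRing.ofAssociativeRing

universe u v w

section RedFinite

variable {ι : Type w} [LinearOrder ι] [Fintype ι]

theorem length_le_of_red {p : ℕ} {a : SL ι} (ha : Red p a) : a.1.length ≤ Fintype.card ι * p := by
  have h1 : ∑ i : ι, (a.1 : Multiset ι).count i = Multiset.card (a.1 : Multiset ι) :=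
    Multiset.sum_count_eq_card (s := Finset.univ) (m := (a.1 : Multiset ι)) (fun i _ => Finset.mem_univ i)
  rw [Multiset.coe_card] at h1
  rw [← h1]
  calc ∑ i : ι, (a.1 : Multiset ι).count i ≤ ∑ _i : ι, p := by
        apply Finset.sum_le_sum
        intro i _
        rw [Multiset.coe_count]
        exact le_of_lt (ha i)
    _ = Fintype.card ι * p := by simp

theorem red_finite (p : ℕ) : {a : SL ι | Red p a}.Finite := by
  have h := List.finite_length_le ι (Fintype.card ι * p)
  have h2 : (Subtype.val ⁻¹' {l : List ι | l.length ≤ Fintype.card ι * p} :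
      Set (SL ι)).Finite := h.preimage (Subtype.val_injective.injOn)
  exact h2.subset fun a ha => length_le_of_red ha

end RedFinite

section Assembly

variable {R : Type u} [CommRing R] {p : ℕ} [hp : Fact p.Prime] [CharP R p]
  {L : Type v} [LieRing L] [LieAlgebra R L] (φ : PLie.PMap R p L)
  {ι : Type w} [LinearOrder ι] (b : Module.Basis ι R L)

/-- the ideal generated by the central elements `x^p - x^{[p]}`, as a submodule -/
noncomputable def II : Submodule R (UniversalEnvelopingAlgebra R L) :=
  Submodule.span R {w | ∃ (x : L) (u : UniversalEnvelopingAlgebra R L), w = xi φ x * u}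

theorem xi_mul_mem_II (x : L) (u : UniversalEnvelopingAlgebra R L) : xi φ x * u ∈ II φ :=
  Submodule.subset_span ⟨x, u, rfl⟩

theorem ι_mul_mem_II (y : L) {w : UniversalEnvelopingAlgebra R L} (hw : w ∈ II φ) :
    UniversalEnvelopingAlgebra.ι R y * w ∈ II φ := by
  have : II φ ≤ (II φ).comap (LinearMap.mulLeft R (UniversalEnvelopingAlgebra.ι R y)) := by
    rw [II, Submodule.span_le]
    rintro _ ⟨x, u, rfl⟩
    simp only [Submodule.comap_coe, Set.mem_preimage, LinearMap.mulLeft_apply, SetLike.mem_coe]
    rw [← mul_assoc, ← xi_central φ x, mul_assoc]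
    exact Submodule.subset_span ⟨x, _, rfl⟩
  exact this hw

omit [LinearOrder ι] in
theorem zp_perm {js js' : List ι} (h : js.Perm js') : zp φ b js = zp φ b js' := by
  simp only [zp]
  apply List.Perm.prod_eq' (h.map _)
  rw [List.pairwise_map]
  exact List.pairwise_of_forall fun x y => xi_central φ (b x) (xi φ (b y))

/-- the family of monomials indexed by sorted lists and reduced sorted lists -/
noncomputable def vv : SL ι × {a : SL ι // Red p a} → UniversalEnvelopingAlgebra R L :=
  fun t => mm φ b t.1.1 t.2.1.1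

theorem II_le [Fintype ι] : II φ ≤ Submodule.span R (vv φ b '' {t | t.1.1 ≠ []}) := by
  rw [II, Submodule.span_le]
  rintro _ ⟨x, u, rfl⟩
  rw [SetLike.mem_coe, xi_eq_sum φ b x, Finset.sum_mul]
  apply Submodule.sum_mem
  intro j _
  rw [smul_mul_assoc]
  apply Submodule.smul_mem
  have hu : u ∈ NN φ b := by rw [NN_eq_top]; exact Submodule.mem_top
  have : NN φ b ≤ (Submodule.span R (vv φ b '' {t | t.1.1 ≠ []})).comap
      (LinearMap.mulLeft R (xi φ (b j))) := by
    rw [NN, Submodule.span_le]
    rintro _ ⟨⟨js, a⟩, rfl⟩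
    simp only [Submodule.comap_coe, Set.mem_preimage, LinearMap.mulLeft_apply, SetLike.mem_coe]
    rw [← mm_cons]
    have hperm : ((j :: js).insertionSort (· ≤ ·)).Perm (j :: js) := List.perm_insertionSort _ _
    have hs : ((j :: js).insertionSort (· ≤ ·)).Pairwise (· ≤ ·) := List.pairwise_insertionSort _ _
    have he : mm φ b (j :: js) a.1.1 = vv φ b (⟨(j :: js).insertionSort (· ≤ ·), hs⟩, a) := by
      simp only [vv, mm]
      rw [zp_perm φ b hperm]
    rw [he]
    apply Submodule.subset_span
    refine ⟨_, ?_, rfl⟩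
    change ((j :: js).insertionSort (· ≤ ·)) ≠ []
    intro h0
    have := hperm.length_eq
    rw [h0] at this
    simp at this
  exact this hu

theorem ι_mem_span (x : L) : UniversalEnvelopingAlgebra.ι R x ∈
    Submodule.span R (vv φ b '' {t | t.1.1 = []}) := by
  have hp2 : 2 ≤ p := hp.out.two_le
  have hx : x ∈ Submodule.span R (Set.range b) := by rw [b.span_eq]; exact Submodule.mem_top
  have : Submodule.span R (Set.range b) ≤ (Submodule.span R (vv φ b '' {t | t.1.1 = []})).comap
      ((UniversalEnvelopingAlgebra.ι R : L →ₗ⁅R⁆ UniversalEnvelopingAlgebra R L) : L →ₗ[R] _) := by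
    rw [Submodule.span_le]
    rintro _ ⟨j, rfl⟩
    simp only [Submodule.comap_coe, Set.mem_preimage, SetLike.mem_coe, LieHom.coe_toLinearMap]
    have hred : Red p (⟨[j], List.pairwise_singleton _ _⟩ : SL ι) := by
      intro i
      simp only [List.count_singleton]
      split_ifs <;> omega
    have he : UniversalEnvelopingAlgebra.ι R (b j) =
        vv φ b (⟨[], List.Pairwise.nil⟩, ⟨⟨[j], List.pairwise_singleton _ _⟩, hred⟩) := by
      simp [vv, mm, zp]
    rw [he]
    exact Submodule.subset_span ⟨_, rfl, rfl⟩
  exact this hx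

include b in
/-- `L` meets the ideal trivially -/
theorem ι_mem_II [Nontrivial R] [Fintype ι] {x : L}
    (hx : UniversalEnvelopingAlgebra.ι R x ∈ II φ) : x = 0 := by
  have hdis := (mm_indep φ b).disjoint_span_image
    (s := {t | t.1.1 = []}) (t := {t | t.1.1 ≠ []})
    (Set.disjoint_left.mpr fun t h1 h2 => h2 h1)
  have h0 := Submodule.disjoint_def.mp hdis _ (ι_mem_span φ b x) (II_le φ b hx)
  have hinj : Function.Injective
      (UniversalEnvelopingAlgebra.ι R : L → UniversalEnvelopingAlgebra R L) := ι_injective b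
  apply hinj
  rw [h0, map_zero]

end Assembly

end Groth.Agent.Lib.Helper11ResPBW
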