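import Mathlib
import Groth.Prelude.Def_PLie
import Groth.Agent.Lib.Helper11ResPBWE

namespace Groth.Agent.Lib.Helper11ResPBW

open PLie Finset Groth.Agent.Lib.Helper22 Groth.Agent.Lib.Helper11Jacobson
open Groth.Agent.Lib.Helper11PBWRing

attribute [local instance 100] LieRing.ofAssociativeRing

universe u v w

section Rep

variable {R : Type u} [CommRing R] {p : ℕ} [hp : Fact p.Prime] [CharP R p]
  {L : Type v} [LieRing L] [LieAlgebra R L] (φ : PLie.PMap R p L)
  {ι : Type w} [LinearOrder ι] (b : Module.Basis ι R L)

/-- left multiplication by `x` on the restricted enveloping algebra `U(L)/I` -/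
noncomputable def rhoQ (x : L) : Module.End R (UniversalEnvelopingAlgebra R L ⧸ II φ) :=
  (II φ).mapQ (II φ) (LinearMap.mulLeft R (UniversalEnvelopingAlgebra.ι R x))
    (fun _ hw => ι_mul_mem_II φ x hw)

theorem rhoQ_mk (x : L) (u : UniversalEnvelopingAlgebra R L) :
    rhoQ φ x (Submodule.Quotient.mk u) =
      Submodule.Quotient.mk (UniversalEnvelopingAlgebra.ι R x * u) := rfl

/-- the regular representation of `L` on the restricted enveloping algebra -/
noncomputable def rhoL : L →ₗ[R] Module.End R (UniversalEnvelopingAlgebra R L ⧸ II φ) where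
  toFun := rhoQ φ
  map_add' x y := by
    apply LinearMap.ext
    intro v
    induction v using Submodule.Quotient.induction_on with
    | H u =>
      rw [LinearMap.add_apply, rhoQ_mk, rhoQ_mk, rhoQ_mk, map_add, add_mul,
        Submodule.Quotient.mk_add]
  map_smul' c x := by
    apply LinearMap.ext
    intro v
    induction v using Submodule.Quotient.induction_on with
    | H u =>
      rw [RingHom.id_apply, LinearMap.smul_apply, rhoQ_mk, rhoQ_mk, map_smul, smul_mul_assoc,
        Submodule.Quotient.mk_smul]

theorem rhoL_mk (x : L) (u : UniversalEnvelopingAlgebra R L) :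
    rhoL φ x (Submodule.Quotient.mk u) =
      Submodule.Quotient.mk (UniversalEnvelopingAlgebra.ι R x * u) := rfl

theorem rhoL_lie (x y : L) : rhoL φ ⁅x, y⁆ = rhoL φ x * rhoL φ y - rhoL φ y * rhoL φ x := by
  apply LinearMap.ext
  intro v
  induction v using Submodule.Quotient.induction_on with
  | H u =>
    rw [LinearMap.sub_apply, Module.End.mul_apply, Module.End.mul_apply, rhoL_mk, rhoL_mk,
      rhoL_mk, rhoL_mk, rhoL_mk, LieHom.map_lie, Ring.lie_def, sub_mul, mul_assoc, mul_assoc,
      Submodule.Quotient.mk_sub]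

theorem rhoL_pow_mk (x : L) (n : ℕ) (u : UniversalEnvelopingAlgebra R L) :
    (rhoL φ x ^ n) (Submodule.Quotient.mk u) =
      Submodule.Quotient.mk (UniversalEnvelopingAlgebra.ι R x ^ n * u) := by
  induction n with
  | zero => simp
  | succ n ih =>
    rw [pow_succ', Module.End.mul_apply, ih, rhoL_mk, pow_succ', mul_assoc]

theorem rhoL_pmap (x : L) : rhoL φ (φ x) = rhoL φ x ^ p := by
  apply LinearMap.ext
  intro v
  induction v using Submodule.Quotient.induction_on with
  | H u =>
    rw [rhoL_pow_mk, rhoL_mk]
    symm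
    rw [Submodule.Quotient.eq]
    have : UniversalEnvelopingAlgebra.ι R x ^ p * u - UniversalEnvelopingAlgebra.ι R (φ x) * u =
        xi φ x * u := by
      simp only [xi]; rw [sub_mul]
    rw [this]
    exact xi_mul_mem_II φ x u

include b in
theorem rhoL_injective [Nontrivial R] [Fintype ι] : Function.Injective (rhoL φ) := by
  intro x y hxy
  have h0 : rhoL φ (x - y) = 0 := by rw [map_sub, hxy, sub_self]
  have h1 := congrArg (fun f : Module.End R (UniversalEnvelopingAlgebra R L ⧸ II φ) =>
    f (Submodule.Quotient.mk 1)) h0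
  simp only [rhoL_mk, mul_one, LinearMap.zero_apply] at h1
  rw [Submodule.Quotient.mk_eq_zero] at h1
  exact sub_eq_zero.mp (ι_mem_II φ b h1)

include b in
theorem finite_quot [Fintype ι] : Module.Finite R (UniversalEnvelopingAlgebra R L ⧸ II φ) := by
  have hfin := red_finite (ι := ι) p
  set G : Set (UniversalEnvelopingAlgebra R L ⧸ II φ) :=
    (fun a : SL ι => Submodule.Quotient.mk (mon b a.1)) '' {a | Red p a} with hG
  have hGfin : G.Finite := hfin.image _
  have hle : NN φ b ≤ (Submodule.span R G).comap (II φ).mkQ := by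
    rw [NN, Submodule.span_le]
    rintro _ ⟨⟨js, a⟩, rfl⟩
    simp only [Submodule.comap_coe, Set.mem_preimage, SetLike.mem_coe, Submodule.mkQ_apply]
    rcases js with _ | ⟨j, js⟩
    · have : mm φ b [] a.1.1 = mon b a.1.1 := by simp [mm, zp]
      rw [this]
      exact Submodule.subset_span ⟨a.1, a.2, rfl⟩
    · rw [mm_cons]
      have : (Submodule.Quotient.mk (xi φ (b j) * mm φ b js a.1.1) :
          UniversalEnvelopingAlgebra R L ⧸ II φ) = 0 := by
        rw [Submodule.Quotient.mk_eq_zero]
        exact xi_mul_mem_II φ _ _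
      rw [this]
      exact Submodule.zero_mem _
  have htop : Submodule.span R G = ⊤ := by
    rw [eq_top_iff]
    intro v _
    induction v using Submodule.Quotient.induction_on with
    | H u =>
      have hu : u ∈ NN φ b := by rw [NN_eq_top]; exact Submodule.mem_top
      exact hle hu
  exact ⟨⟨hGfin.toFinset, by rw [Set.Finite.coe_toFinset, htop]⟩⟩

end Rep

end Groth.Agent.Lib.Helper11ResPBW
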