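import Mathlib
import Groth.Agent.Lib.Helper11BlanchardE

set_option autoImplicit false
universe u

namespace Groth.Agent.Lib.Helper11RigidBase

open CategoryTheory AlgebraicGeometry Limits TopologicalSpace Opposite IsLocalRing
open Groth.Agent.Lib.Helper11Blanchard (app_res affine_cover_le)

/-- flatness: `t b ∈ J B ⟹ b ∈ (J : t) B`, stated with an explicit ideal `m` containing the colon. -/
lemma mem_map_of_flat_of_mul_mem {A B : Type*} [CommRing A] [CommRing B] (ρ : A →+* B) (hρ : ρ.Flat)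
    (J m : Ideal A) (t : A) (hm : ∀ a : A, t * a ∈ J → a ∈ m) (b : B)
    (h : ρ t * b ∈ Ideal.map ρ J) : b ∈ Ideal.map ρ m := by
  let _ := ρ.toAlgebra
  have hfl : Module.Flat A B := hρ
  have h1 : ρ t * b ∈ (J • (⊤ : Submodule A B)) := by
    rw [Ideal.smul_top_eq_map]
    exact h
  rw [← Submodule.span_univ, ← Set.range_id, Submodule.mem_ideal_smul_span_iff_exists_sum] at h1
  obtain ⟨a, haJ, hsum⟩ := h1
  classical
  let ι := Option a.support
  let f : ι → A := fun i => Option.elim i t (fun i => -(a i))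
  let x : ι → B := fun i => Option.elim i b (fun i => (i : B))
  have hrel : ∑ i, f i • x i = 0 := by
    rw [Fintype.sum_option]
    simp only [f, x, Option.elim_none, Option.elim_some, neg_smul, Finset.sum_neg_distrib]
    rw [Finset.sum_coe_sort a.support (fun i => a i • i)]
    have : a.sum (fun i c => c • id i) = ∑ i ∈ a.support, a i • i := rfl
    rw [← this, hsum]
    change ρ t * b + -(ρ t * b) = 0
    ring
  obtain ⟨k, α, y, hx, hα⟩ := Module.Flat.isTrivialRelation_of_sum_smul_eq_zero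
    (R := A) (M := B) (f := f) (x := x) hrel
  have hb : b = ∑ j, α none j • y j := hx none
  rw [hb]
  refine Ideal.sum_mem _ fun j _ => ?_
  have hαj : α none j ∈ m := by
    apply hm
    have := hα j
    rw [Fintype.sum_option] at this
    simp only [f, Option.elim_none, Option.elim_some] at this
    have h2 : t * α none j = ∑ i : a.support, a i * α (some i) j := by
      have h3 : t * α none j = -(∑ i : a.support, -(a i) * α (some i) j) := by
        rw [eq_neg_iff_add_eq_zero]; exact this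
      rw [h3, ← Finset.sum_neg_distrib]
      simp
    rw [h2]
    exact Ideal.sum_mem _ fun i _ => Ideal.mul_mem_right _ _ (haJ i)
  change (algebraMap A B (α none j)) * y j ∈ _
  exact Ideal.mul_mem_right _ _ (Ideal.mem_map_of_mem _ hαj)

lemma res_comp {Q : Scheme.{u}} {U V W : Q.Opens} (h1 : U ≤ V) (h2 : V ≤ W) (s : Γ(Q, W)) :
    (Q.presheaf.map (homOfLE h1).op).hom ((Q.presheaf.map (homOfLE h2).op).hom s) =
      (Q.presheaf.map (homOfLE (h1.trans h2)).op).hom s := by
  rw [← CommRingCat.comp_apply, ← Functor.map_comp]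
  rfl

variable {X X₀ : Scheme.{u}} {A : Type u} [CommRing A]

/-- the structure map of the "`A`-scheme" `X` on an open `U` -/
noncomputable def res (φ : A →+* Γ(X, ⊤)) (U : X.Opens) : A →+* Γ(X, U) :=
  (X.presheaf.map (homOfLE (le_top : U ≤ ⊤)).op).hom.comp φ

lemma res_res (φ : A →+* Γ(X, ⊤)) {U V : X.Opens} (h : U ≤ V) (a : A) :
    (X.presheaf.map (homOfLE h).op).hom (res φ V a) = res φ U a := by
  simp only [res, RingHom.comp_apply]
  exact res_comp h le_top (φ a)

lemma map_res_mem (φ : A →+* Γ(X, ⊤)) {U V : X.Opens} (h : U ≤ V) (J : Ideal A) (b : Γ(X, V))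
    (hb : b ∈ Ideal.map (res φ V) J) :
    (X.presheaf.map (homOfLE h).op).hom b ∈ Ideal.map (res φ U) J := by
  have : Ideal.map (X.presheaf.map (homOfLE h).op).hom (Ideal.map (res φ V) J) =
      Ideal.map (res φ U) J := by
    rw [Ideal.map_map]
    congr 1
    ext a
    exact res_res φ h a
  rw [← this]
  exact Ideal.mem_map_of_mem _ hb

/-- existence of a socle-type element modulo `J`. -/
lemma exists_not_mem_mul_mem [IsLocalRing A] [IsArtinianRing A] (J : Ideal A) (hJ : J ≠ ⊤) :
    ∃ t : A, t ∉ J ∧ ∀ a ∈ maximalIdeal A, t * a ∈ J := by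
  have hnil : IsNilpotent (maximalIdeal A) := by
    have := IsArtinianRing.isNilpotent_jacobson_bot (R := A)
    rwa [IsLocalRing.jacobson_eq_maximalIdeal ⊥ bot_ne_top] at this
  obtain ⟨N, hN⟩ := hnil
  have hex : ∃ n, maximalIdeal A ^ n ≤ J := ⟨N, by rw [hN]; exact bot_le⟩
  classical
  obtain ⟨n, hn, hmin⟩ : ∃ n, maximalIdeal A ^ n ≤ J ∧ ∀ k < n, ¬ maximalIdeal A ^ k ≤ J :=
    ⟨Nat.find hex, Nat.find_spec hex, fun k hk => Nat.find_min hex hk⟩
  cases n with
  | zero =>
    exfalso
    apply hJ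
    rw [pow_zero, Ideal.one_eq_top] at hn
    exact top_le_iff.mp hn
  | succ k =>
    have hk := hmin k (Nat.lt_succ_self k)
    obtain ⟨t, htk, htJ⟩ := SetLike.not_le_iff_exists.mp hk
    refine ⟨t, htJ, fun a ha => hn ?_⟩
    rw [pow_succ]
    exact Ideal.mul_mem_mul htk ha


/-- **Artinian step of the rigidity lemma**, abstract form: `X` "flat over" an artinian local
ring `A`, `i : X₀ ⟶ X` behaving like the closed fibre, with `A → Γ(X₀)` surjective.
Then `A → Γ(X)` is surjective. -/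
theorem surjective_of_artinian [IsLocalRing A] [IsArtinianRing A] (i : X₀ ⟶ X)
    (φ : A →+* Γ(X, ⊤))
    (hflat : ∀ U : X.Opens, IsAffineOpen U → (res φ U).Flat)
    (hker : ∀ U : X.Opens, IsAffineOpen U → ∀ b : Γ(X, U), (i.app U).hom b = 0 →
      b ∈ Ideal.map (res φ U) (maximalIdeal A))
    (hker' : ∀ a ∈ maximalIdeal A, (i.app ⊤).hom (φ a) = 0)
    (hsurj : ∀ β : Γ(X₀, i ⁻¹ᵁ ⊤), ∃ c : A, (i.app ⊤).hom (φ c) = β) :
    Function.Surjective φ := by
  have hker2 : ∀ U : X.Opens, IsAffineOpen U → ∀ b : Γ(X, U),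
      b ∈ Ideal.map (res φ U) (maximalIdeal A) → (i.app U).hom b = 0 := by
    intro U hU b hb
    have hle : Ideal.map (res φ U) (maximalIdeal A) ≤ RingHom.ker (i.app U).hom := by
      rw [Ideal.map_le_iff_le_comap]
      intro a ha
      rw [Ideal.mem_comap, RingHom.mem_ker]
      change (i.app U).hom ((X.presheaf.map (homOfLE le_top).op).hom (φ a)) = 0
      rw [app_res i (le_top : U ≤ ⊤) (φ a), hker' a ha, map_zero]
    exact hle hb
  let P : Ideal A → Prop := fun J => ∀ r : Γ(X, ⊤), ∃ a : A, ∀ U : X.Opens, IsAffineOpen U →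
      (X.presheaf.map (homOfLE (le_top : U ≤ ⊤)).op).hom (r - φ a) ∈ Ideal.map (res φ U) J
  have hP : ∀ J, P J := by
    intro J
    refine IsNoetherian.induction (P := P) ?_ J
    intro J IH
    by_cases hJtop : J = ⊤
    · intro r
      refine ⟨0, fun U hU => ?_⟩
      rw [hJtop, Ideal.map_top]
      trivial
    have hJm : J ≤ maximalIdeal A := IsLocalRing.le_maximalIdeal hJtop
    by_cases hJeq : J = maximalIdeal A
    · intro r
      obtain ⟨c, hc⟩ := hsurj ((i.app ⊤).hom r)
      refine ⟨c, fun U hU => ?_⟩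
      rw [hJeq]
      apply hker U hU
      rw [app_res i (le_top : U ≤ ⊤)]
      have h0 : (i.app ⊤).hom (r - φ c) = 0 := by
        rw [map_sub, sub_eq_zero]; exact hc.symm
      rw [h0, map_zero]
    obtain ⟨t, htJ, htm⟩ := exists_not_mem_mul_mem J hJtop
    have hcolon : ∀ a : A, t * a ∈ J → a ∈ maximalIdeal A := by
      intro a ha
      by_contra hna
      have hu : IsUnit a := by
        rwa [IsLocalRing.mem_maximalIdeal, mem_nonunits_iff, not_not] at hna
      obtain ⟨u, rfl⟩ := hu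
      apply htJ
      have := Ideal.mul_mem_right (↑u⁻¹ : A) J ha
      rwa [mul_assoc, Units.mul_inv, mul_one] at this
    have hlt : J < J ⊔ Ideal.span {t} := by
      refine lt_of_le_of_ne le_sup_left fun h => htJ ?_
      rw [h]
      exact Ideal.mem_sup_right (Ideal.subset_span rfl)
    intro r
    obtain ⟨a, ha⟩ := IH _ hlt r
    obtain ⟨R, hR⟩ : ∃ R : Γ(X, ⊤), R = r - φ a := ⟨_, rfl⟩
    rw [← hR] at ha
    have hbU : ∀ U : X.Opens, IsAffineOpen U → ∃ b : Γ(X, U),
        (X.presheaf.map (homOfLE (le_top : U ≤ ⊤)).op).hom R - res φ U t * b ∈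
          Ideal.map (res φ U) J := by
      intro U hU
      have := ha U hU
      rw [Ideal.map_sup, Ideal.map_span, Set.image_singleton, Submodule.mem_sup] at this
      obtain ⟨y, hy, z, hz, hyz⟩ := this
      obtain ⟨b, rfl⟩ := Ideal.mem_span_singleton'.mp hz
      refine ⟨b, ?_⟩
      rw [← hyz]
      have : y + b * res φ U t - res φ U t * b = y := by ring
      rw [this]
      exact hy
    choose! bU hbU using hbU
    have hK1 : ∀ U : X.Opens, IsAffineOpen U → ∀ b b' : Γ(X, U),
        res φ U t * (b - b') ∈ Ideal.map (res φ U) J → (i.app U).hom b = (i.app U).hom b' := by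
      intro U hU b b' h
      have h1 := mem_map_of_flat_of_mul_mem (res φ U) (hflat U hU) J (maximalIdeal A) t hcolon
        (b - b') h
      have h2 := hker2 U hU _ h1
      rwa [map_sub, sub_eq_zero] at h2
    have hcomp : ∀ (U V : X.Opens) (hU : IsAffineOpen U) (hV : IsAffineOpen V) (h : U ≤ V),
        (X₀.presheaf.map (homOfLE (Scheme.Hom.preimage_mono i h)).op).hom
          ((i.app V).hom (bU V)) = (i.app U).hom (bU U) := by
      intro U V hU hV h
      rw [← app_res i h]
      apply hK1 U hU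
      have h1 := map_res_mem φ h J _ (hbU V hV)
      have h2 := hbU U hU
      have h3 : res φ U t * ((X.presheaf.map (homOfLE h).op).hom (bU V) - bU U) =
          ((X.presheaf.map (homOfLE (le_top : U ≤ ⊤)).op).hom R - res φ U t * bU U) -
          (X.presheaf.map (homOfLE h).op).hom
            ((X.presheaf.map (homOfLE (le_top : V ≤ ⊤)).op).hom R - res φ V t * bU V) := by
        rw [map_sub, map_mul, res_res φ h, res_comp h le_top]
        ring
      rw [h3]
      exact Ideal.sub_mem _ h2 h1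
    -- glue
    let ι := {U : X.Opens // IsAffineOpen U}
    let sf : ∀ j : ι, Γ(X₀, i ⁻¹ᵁ j.1) := fun j => (i.app j.1).hom (bU j.1)
    have hcompat : TopCat.Presheaf.IsCompatible X₀.sheaf.1 (fun j : ι => i ⁻¹ᵁ j.1) sf := by
      intro j k
      apply TopCat.Sheaf.eq_of_locally_eq' X₀.sheaf
        (fun l : {W : X.Opens // IsAffineOpen W ∧ W ≤ j.1 ⊓ k.1} => i ⁻¹ᵁ l.1)
        (i ⁻¹ᵁ j.1 ⊓ i ⁻¹ᵁ k.1)
        (fun l => homOfLE (Scheme.Hom.preimage_mono i l.2.2)) ?_ _ _
      · intro l
        have e1 := hcomp l.1 j.1 l.2.1 j.2 (l.2.2.trans inf_le_left)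
        have e2 := hcomp l.1 k.1 l.2.1 k.2 (l.2.2.trans inf_le_right)
        have e3 := res_comp (Q := X₀) (Scheme.Hom.preimage_mono i l.2.2)
          (inf_le_left : i ⁻¹ᵁ j.1 ⊓ i ⁻¹ᵁ k.1 ≤ i ⁻¹ᵁ j.1) (sf j)
        have e4 := res_comp (Q := X₀) (Scheme.Hom.preimage_mono i l.2.2)
          (inf_le_right : i ⁻¹ᵁ j.1 ⊓ i ⁻¹ᵁ k.1 ≤ i ⁻¹ᵁ k.1) (sf k)
        exact (e3.trans e1).trans (e4.trans e2).symm
      · intro x hx
        have hx' : i.base x ∈ j.1 ⊓ k.1 := hx
        obtain ⟨l, hl⟩ := Opens.mem_iSup.mp (affine_cover_le (j.1 ⊓ k.1) hx')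
        exact Opens.mem_iSup.mpr ⟨l, hl⟩
    have hcover : i ⁻¹ᵁ (⊤ : X.Opens) ≤ ⨆ j : ι, i ⁻¹ᵁ j.1 := by
      intro x _
      obtain ⟨U, hU, hxU, -⟩ := exists_isAffineOpen_mem_and_subset (x := i.base x)
        (U := (⊤ : X.Opens)) trivial
      exact Opens.mem_iSup.mpr ⟨⟨U, hU⟩, hxU⟩
    obtain ⟨β, hβ, -⟩ := TopCat.Sheaf.existsUnique_gluing' X₀.sheaf (fun j : ι => i ⁻¹ᵁ j.1)
      (i ⁻¹ᵁ ⊤) (fun j => homOfLE (Scheme.Hom.preimage_mono i le_top)) hcover sf hcompat
    obtain ⟨c, hc⟩ := hsurj β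
    refine ⟨a + t * c, fun U hU => ?_⟩
    have hβU : (X₀.presheaf.map (homOfLE (Scheme.Hom.preimage_mono i (le_top : U ≤ ⊤))).op).hom β =
        (i.app U).hom (bU U) := hβ ⟨U, hU⟩
    have h1 : (i.app U).hom (bU U - res φ U c) = 0 := by
      rw [map_sub, sub_eq_zero, ← hβU, ← hc]
      change _ = (i.app U).hom ((X.presheaf.map (homOfLE le_top).op).hom (φ c))
      rw [app_res i (le_top : U ≤ ⊤)]
    have h2 := hker U hU _ h1
    have h3 : res φ U t * (bU U - res φ U c) ∈ Ideal.map (res φ U) J := by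
      have hle : Ideal.span {res φ U t} * Ideal.map (res φ U) (maximalIdeal A) ≤
          Ideal.map (res φ U) J := by
        have e1 : Ideal.span {res φ U t} = Ideal.map (res φ U) (Ideal.span {t}) := by
          rw [Ideal.map_span, Set.image_singleton]
        rw [e1, ← Ideal.map_mul]
        apply Ideal.map_mono
        rw [Ideal.span_singleton_mul_le_iff]
        exact htm
      exact hle (Ideal.mul_mem_mul (Ideal.mem_span_singleton_self _) h2)
    have h4 : (X.presheaf.map (homOfLE (le_top : U ≤ ⊤)).op).hom (r - φ (a + t * c)) =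
        ((X.presheaf.map (homOfLE (le_top : U ≤ ⊤)).op).hom R - res φ U t * bU U) +
          res φ U t * (bU U - res φ U c) := by
      rw [hR]
      simp only [map_sub, map_add, map_mul, res, RingHom.comp_apply]
      ring
    rw [h4]
    exact Ideal.add_mem _ (hbU U hU) h3
  intro r
  obtain ⟨a, ha⟩ := hP ⊥ r
  refine ⟨a, ?_⟩
  have h0 : r - φ a = 0 := by
    apply TopCat.Sheaf.eq_of_locally_eq' X.sheaf
      (fun j : {U : X.Opens // IsAffineOpen U ∧ U ≤ ⊤} => j.1) ⊤ (fun j => homOfLE j.2.2)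
      (affine_cover_le ⊤) _ _
    intro j
    have := ha j.1 j.2.1
    rw [Ideal.map_bot, Ideal.mem_bot] at this
    have h2 : (X.sheaf.obj.map (homOfLE j.2.2).op).hom (0 : Γ(X, ⊤)) = 0 := map_zero _
    erw [h2]
    exact this
  exact (sub_eq_zero.mp h0).symm

end Groth.Agent.Lib.Helper11RigidBase
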