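import Mathlib
import Groth.Agent.Lib.Helper11RigidBaseA

set_option autoImplicit false
universe u

namespace Groth.Agent.Lib.Helper11RigidBase

open CategoryTheory AlgebraicGeometry Limits TopologicalSpace Opposite IsLocalRing

lemma fromSpec_comp {X' : Scheme.{u}} {A' : CommRingCat.{u}} (p' : X' ⟶ Spec A') (U : X'.Opens)
    (hU : IsAffineOpen U) :
    hU.fromSpec ≫ p' = Spec.map ((Scheme.ΓSpecIso A').inv ≫ p'.appLE ⊤ U le_top) := by
  rw [← IsAffineOpen.SpecMap_appLE_fromSpec p' (isAffineOpen_top _) hU le_top,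
    IsAffineOpen.fromSpec_top, Scheme.isoSpec_Spec_inv, ← Spec.map_comp]

/-- the structure map `A' → Γ(X', ⊤)` of a scheme over `Spec A'` -/
noncomputable def strMap {X' : Scheme.{u}} {A' : CommRingCat.{u}} (p' : X' ⟶ Spec A') :
    A' →+* Γ(X', ⊤) := ((Scheme.ΓSpecIso A').inv ≫ p'.appTop).hom

lemma res_strMap {X' : Scheme.{u}} {A' : CommRingCat.{u}} (p' : X' ⟶ Spec A') (U : X'.Opens) :
    res (strMap p') U = ((Scheme.ΓSpecIso A').inv ≫ p'.appLE ⊤ U le_top).hom := by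
  ext a
  rfl

lemma appLE_SpecMap_comp_fromSpec {X' : Scheme.{u}} (U : X'.Opens) (hU : IsAffineOpen U)
    {Q : CommRingCat.{u}} (π : Γ(X', U) ⟶ Q) (e : ⊤ ≤ (Spec.map π ≫ hU.fromSpec) ⁻¹ᵁ U) :
    (Spec.map π ≫ hU.fromSpec).appLE U ⊤ e = π ≫ (Scheme.ΓSpecIso Q).inv := by
  apply Spec.map_injective
  rw [← cancel_mono hU.fromSpec, IsAffineOpen.SpecMap_appLE_fromSpec _ hU (isAffineOpen_top _) e,
    IsAffineOpen.fromSpec_top, Scheme.isoSpec_Spec_inv, Spec.map_comp, Category.assoc]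

/-- kernel of restriction to a base-changed closed subscheme `V(𝔞)`. -/
lemma mem_map_of_app_eq_zero {X' X₀ : Scheme.{u}} {A' k : CommRingCat.{u}} (ψ : A' ⟶ k)
    (hψ : Function.Surjective ψ.hom) (p' : X' ⟶ Spec A') (i : X₀ ⟶ X') (π₀ : X₀ ⟶ Spec k)
    (H : IsPullback i π₀ p' (Spec.map ψ)) (U : X'.Opens) (hU : IsAffineOpen U) (b : Γ(X', U))
    (hb : (i.app U).hom b = 0) :
    b ∈ Ideal.map (res (strMap p') U) (RingHom.ker ψ.hom) := by
  obtain ⟨ρ, hρ⟩ : ∃ ρ : A' →+* Γ(X', U), ρ = res (strMap p') U := ⟨_, rfl⟩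
  rw [← hρ]
  let Jb := Ideal.map ρ (RingHom.ker ψ.hom)
  let π : Γ(X', U) →+* Γ(X', U) ⧸ Jb := Ideal.Quotient.mk Jb
  have hle : RingHom.ker ψ.hom ≤ RingHom.ker (π.comp ρ) := by
    intro a ha
    rw [RingHom.mem_ker, RingHom.comp_apply, Ideal.Quotient.eq_zero_iff_mem]
    exact Ideal.mem_map_of_mem _ ha
  let θ : k →+* Γ(X', U) ⧸ Jb := RingHom.liftOfSurjective ψ.hom hψ ⟨π.comp ρ, hle⟩
  have hθ : θ.comp ψ.hom = π.comp ρ := RingHom.liftOfRightInverse_comp _ _ _ _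
  let c' : Spec (CommRingCat.of (Γ(X', U) ⧸ Jb)) ⟶ X' :=
    Spec.map (CommRingCat.ofHom π) ≫ hU.fromSpec
  have hc' : c' ≫ p' = Spec.map (CommRingCat.ofHom θ) ≫ Spec.map ψ := by
    rw [Category.assoc, fromSpec_comp, ← Spec.map_comp, ← Spec.map_comp]
    congr 1
    ext a
    have h1 := congr($hθ a)
    rw [hρ, res_strMap] at h1
    exact h1.symm
  have hl : H.lift c' _ hc' ≫ i = c' := H.lift_fst _ _ _
  have e : ⊤ ≤ c' ⁻¹ᵁ U := by
    intro x _
    change hU.fromSpec.base ((Spec.map (CommRingCat.ofHom π)).base x) ∈ U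
    have : hU.fromSpec.base ((Spec.map (CommRingCat.ofHom π)).base x) ∈ hU.fromSpec.opensRange :=
      ⟨_, rfl⟩
    rwa [hU.opensRange_fromSpec] at this
  have key : ∀ (c'' : Spec (CommRingCat.of (Γ(X', U) ⧸ Jb)) ⟶ X') (_ : c'' = c')
      (e' : ⊤ ≤ c'' ⁻¹ᵁ U), (c''.appLE U ⊤ e').hom b = 0 → (c'.appLE U ⊤ e).hom b = 0 := by
    rintro _ rfl _ h
    exact h
  have h1 : (c'.appLE U ⊤ e).hom b = 0 := by
    refine key _ hl (by rw [hl]; exact e) ?_
    rw [Scheme.Hom.comp_appLE, CommRingCat.comp_apply, hb, map_zero]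
  rw [appLE_SpecMap_comp_fromSpec U hU (CommRingCat.ofHom π) e, CommRingCat.comp_apply] at h1
  have h2 : π b = 0 := by
    have hinj : Function.Injective (Scheme.ΓSpecIso (CommRingCat.of (Γ(X', U) ⧸ Jb))).inv.hom :=
      (ConcreteCategory.bijective_of_isIso _).1
    apply hinj
    rw [map_zero]
    exact h1
  exact Ideal.Quotient.eq_zero_iff_mem.mp h2


lemma app_top_strMap {X' X₀ : Scheme.{u}} {A' k : CommRingCat.{u}} (ψ : A' ⟶ k)
    (p' : X' ⟶ Spec A') (i : X₀ ⟶ X') (π₀ : X₀ ⟶ Spec k)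
    (w : i ≫ p' = π₀ ≫ Spec.map ψ) (a : A') :
    (i.app ⊤).hom (strMap p' a) = π₀.appTop.hom ((Scheme.ΓSpecIso k).inv.hom (ψ.hom a)) := by
  have h1 : p'.appTop ≫ i.appTop = (Spec.map ψ).appTop ≫ π₀.appTop := by
    rw [← Scheme.Hom.comp_appTop, ← Scheme.Hom.comp_appTop, w]
  have h2 : ψ ≫ (Scheme.ΓSpecIso k).inv = (Scheme.ΓSpecIso A').inv ≫ (Spec.map ψ).appTop :=
    Scheme.ΓSpecIso_inv_naturality ψ
  have h3 : (Scheme.ΓSpecIso A').inv ≫ p'.appTop ≫ i.appTop =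
      ψ ≫ (Scheme.ΓSpecIso k).inv ≫ π₀.appTop := by
    rw [h1, ← Category.assoc, ← h2, Category.assoc]
  exact congr($h3 a)

/-- **Artinian step of the rigidity lemma**: if `X'` is flat over an artinian local ring `A'`
and the closed fibre `X₀` has `Γ(X₀) = k` (only surjectivity is needed), then `A' → Γ(X')` is
surjective. -/
theorem strMap_surjective_of_isArtinianRing {X' X₀ : Scheme.{u}} {A' k : CommRingCat.{u}}
    [IsLocalRing A'] [IsArtinianRing A'] (ψ : A' ⟶ k)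
    (hψ : Function.Surjective ψ.hom) (hψm : RingHom.ker ψ.hom = maximalIdeal A')
    (p' : X' ⟶ Spec A') [Flat p'] (i : X₀ ⟶ X') (π₀ : X₀ ⟶ Spec k)
    (H : IsPullback i π₀ p' (Spec.map ψ)) (h0 : Function.Surjective π₀.appTop.hom) :
    Function.Surjective (strMap p') := by
  apply surjective_of_artinian i (strMap p')
  · intro U hU
    rw [res_strMap, CommRingCat.hom_comp]
    refine RingHom.Flat.comp (RingHom.Flat.of_bijective ?_) ?_
    · exact ConcreteCategory.bijective_of_isIso (Scheme.ΓSpecIso A').inv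
    · exact HasRingHomProperty.appLE (P := @Flat) p' inferInstance
        ⟨⊤, isAffineOpen_top _⟩ ⟨U, hU⟩ le_top
  · intro U hU b hb
    rw [← hψm]
    exact mem_map_of_app_eq_zero ψ hψ p' i π₀ H U hU b hb
  · intro a ha
    rw [app_top_strMap ψ p' i π₀ H.w a]
    have : ψ.hom a = 0 := by
      rw [← RingHom.mem_ker, hψm]; exact ha
    rw [this, map_zero]
    exact map_zero _
  · intro β
    obtain ⟨γ, hγ⟩ := h0 β
    obtain ⟨κ, hκ⟩ := (ConcreteCategory.bijective_of_isIso (Scheme.ΓSpecIso k).inv).2 γ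
    obtain ⟨c, hc⟩ := hψ κ
    refine ⟨c, ?_⟩
    rw [app_top_strMap ψ p' i π₀ H.w c, hc]
    rw [← hγ, ← hκ]

end Groth.Agent.Lib.Helper11RigidBase
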