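import Mathlib
import Groth.Agent.Lib.Helper11RigidBaseB

set_option autoImplicit false
universe u

namespace Groth.Agent.Lib.Helper11RigidBase

open CategoryTheory AlgebraicGeometry Limits TopologicalSpace Opposite IsLocalRing

/-- the equalizer of two morphisms over a base, with separated target, as a closed subscheme -/
theorem exists_equalizer_closedImmersion {T₀ Y S' : Scheme.{u}} (h₁ h₂ : T₀ ⟶ Y) (q : Y ⟶ S')
    [IsSeparated q] (hq : h₁ ≫ q = h₂ ≫ q) :
    ∃ (E : Scheme.{u}) (ι : E ⟶ T₀), IsClosedImmersion ι ∧ ι ≫ h₁ = ι ≫ h₂ ∧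
      ∀ (T : Scheme.{u}) (c : T ⟶ T₀), c ≫ h₁ = c ≫ h₂ → ∃ l : T ⟶ E, l ≫ ι = c := by
  let X' : Over S' := Over.mk (h₁ ≫ q)
  let Y' : Over S' := Over.mk q
  let f : X' ⟶ Y' := Over.homMk h₁ rfl
  let g : X' ⟶ Y' := Over.homMk h₂ hq.symm
  have : IsSeparated Y'.hom := inferInstanceAs (IsSeparated q)
  refine ⟨(equalizer f g).left, (equalizer.ι f g).left, inferInstance, ?_, ?_⟩
  · have := congr($(equalizer.condition f g).left)
    exact this
  · intro T c hc
    let T' : Over S' := Over.mk (c ≫ h₁ ≫ q)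
    let c' : T' ⟶ X' := Over.homMk c rfl
    have hc' : c' ≫ f = c' ≫ g := by
      ext
      exact hc
    refine ⟨(equalizer.lift c' hc').left, ?_⟩
    have := congr($(equalizer.lift_ι c' hc').left)
    exact this


/-- **Krull step**: two morphisms from the spectrum of a noetherian local ring which agree on
all infinitesimal neighbourhoods of the closed point are equal (target separated over a base). -/
theorem eq_of_forall_quotient_pow {R : CommRingCat.{u}} [IsLocalRing R] [IsNoetherianRing R]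
    {Y S' : Scheme.{u}} (h₁ h₂ : Spec R ⟶ Y) (q : Y ⟶ S') [IsSeparated q]
    (hq : h₁ ≫ q = h₂ ≫ q)
    (H : ∀ n : ℕ, Spec.map (CommRingCat.ofHom (Ideal.Quotient.mk (maximalIdeal R ^ (n + 1)))) ≫ h₁ =
      Spec.map (CommRingCat.ofHom (Ideal.Quotient.mk (maximalIdeal R ^ (n + 1)))) ≫ h₂) :
    h₁ = h₂ := by
  obtain ⟨E, ι, hι, hcond, hlift⟩ := exists_equalizer_closedImmersion h₁ h₂ q hq
  have hker : ι.ker = ⊥ := by
    apply Scheme.IdealSheafData.ext_of_isAffine
    rw [Scheme.IdealSheafData.ideal_bot, Pi.bot_apply, eq_bot_iff]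
    intro z hz
    rw [Ideal.mem_bot]
    have hz' : ∀ n : ℕ, (Scheme.ΓSpecIso R).hom.hom z ∈ maximalIdeal R ^ n := by
      intro n'
      refine Ideal.pow_le_pow_right (Nat.le_succ n') ?_
      obtain ⟨k, hk⟩ : ∃ k, k = n' := ⟨_, rfl⟩
      rw [← hk]
      change (Scheme.ΓSpecIso R).hom.hom z ∈ maximalIdeal R ^ (k + 1)
      obtain ⟨l, hl⟩ := hlift _ _ (H k)
      have h1 : ι.ker ≤ (Spec.map (CommRingCat.ofHom
          (Ideal.Quotient.mk (maximalIdeal R ^ (k + 1))))).ker := by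
        rw [← hl]
        exact Scheme.Hom.le_ker_comp l ι
      have h2 := h1 ⟨⊤, isAffineOpen_top _⟩ hz
      rw [Scheme.Hom.ker_apply, RingHom.mem_ker] at h2
      have h3 := Scheme.ΓSpecIso_inv_naturality
        (CommRingCat.ofHom (Ideal.Quotient.mk (maximalIdeal R ^ (k + 1))))
      have h4 := congr($h3 ((Scheme.ΓSpecIso R).hom.hom z))
      rw [CommRingCat.comp_apply, CommRingCat.comp_apply] at h4
      have h5 : (Scheme.ΓSpecIso R).inv.hom ((Scheme.ΓSpecIso R).hom.hom z) = z := by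
        rw [← CommRingCat.comp_apply, Iso.hom_inv_id]; rfl
      have h6 : (Scheme.ΓSpecIso (CommRingCat.of (R ⧸ maximalIdeal R ^ (k + 1)))).inv.hom
          ((Ideal.Quotient.mk (maximalIdeal R ^ (k + 1))) ((Scheme.ΓSpecIso R).hom.hom z)) = 0 := by
        refine h4.trans ?_
        have h5' : (ConcreteCategory.hom (Scheme.ΓSpecIso (CommRingCat.of ↑R)).inv)
            ((Scheme.ΓSpecIso R).hom.hom z) = z := h5
        rw [h5']
        exact h2
      have hinj : Function.Injective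
          (Scheme.ΓSpecIso (CommRingCat.of (R ⧸ maximalIdeal R ^ (k + 1)))).inv.hom :=
        (ConcreteCategory.bijective_of_isIso _).1
      have h7 : (Ideal.Quotient.mk (maximalIdeal R ^ (k + 1))) ((Scheme.ΓSpecIso R).hom.hom z) = 0 := by
        apply hinj
        rw [map_zero]; exact h6
      exact Ideal.Quotient.eq_zero_iff_mem.mp h7
    have h8 : (Scheme.ΓSpecIso R).hom.hom z ∈ (⨅ n : ℕ, maximalIdeal R ^ n : Ideal R) := by
      rw [Ideal.mem_iInf]; exact hz'
    rw [Ideal.iInf_pow_eq_bot_of_isLocalRing _ (IsLocalRing.maximalIdeal.isMaximal R).ne_top,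
      Ideal.mem_bot] at h8
    have hinj : Function.Injective (Scheme.ΓSpecIso R).hom.hom :=
      (ConcreteCategory.bijective_of_isIso _).1
    apply hinj
    rw [map_zero]; exact h8
  have hiso : IsIso ι := IsClosedImmersion.isIso_iff_ker_eq_bot.mpr hker
  rwa [cancel_epi] at hcond

/-- if `A' → Γ(X')` is surjective, `X' → Spec A'` has a section `ε'`, and `f'` collapses `X'`
to a point, then `f'` factors through the section. -/
theorem eq_of_strMap_surjective {X' Y : Scheme.{u}} {A' : CommRingCat.{u}} (p' : X' ⟶ Spec A')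
    (ε' : Spec A' ⟶ X') (hε : ε' ≫ p' = 𝟙 _) (hsurj : Function.Surjective (strMap p'))
    (f' : X' ⟶ Y) (hcol : ∀ x x' : X', f'.base x = f'.base x') : f' = p' ≫ ε' ≫ f' := by
  by_cases hX : IsEmpty X'
  · exact (isInitialOfIsEmpty (X := X')).hom_ext _ _
  rw [not_isEmpty_iff] at hX
  obtain ⟨x₀⟩ := hX
  obtain ⟨V, hV, hyV, -⟩ :=
    exists_isAffineOpen_mem_and_subset (x := f'.base x₀) (U := ⊤) trivial
  have hV' : IsAffine (V : Scheme.{u}) := hV
  have hr1 : Set.range f'.base ⊆ Set.range V.ι.base := by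
    rw [Scheme.Opens.range_ι]
    rintro _ ⟨x, rfl⟩
    rw [hcol x x₀]; exact hyV
  have hr2 : Set.range (p' ≫ ε' ≫ f').base ⊆ Set.range V.ι.base := by
    rw [Scheme.Opens.range_ι]
    rintro _ ⟨x, rfl⟩
    change f'.base _ ∈ V
    rw [hcol _ x₀]; exact hyV
  let f'' := IsOpenImmersion.lift V.ι f' hr1
  have hf'' : f'' ≫ V.ι = f' := IsOpenImmersion.lift_fac _ _ _
  have key : ∀ r : Γ(X', ⊤), p'.appTop.hom (ε'.appTop.hom r) = r := by
    intro r
    obtain ⟨a, rfl⟩ := hsurj r
    change p'.appTop.hom (ε'.appTop.hom (p'.appTop.hom _)) = p'.appTop.hom _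
    congr 1
    have h1 : p'.appTop ≫ ε'.appTop = 𝟙 _ := by
      rw [← Scheme.Hom.comp_appTop, hε]; rfl
    exact congr($h1 _)
  have h2 : f'' = p' ≫ ε' ≫ f'' := by
    apply ext_of_isAffine
    rw [Scheme.Hom.comp_appTop, Scheme.Hom.comp_appTop]
    ext r
    exact (key _).symm
  calc f' = f'' ≫ V.ι := hf''.symm
    _ = (p' ≫ ε' ≫ f'') ≫ V.ι := by rw [← h2]
    _ = p' ≫ ε' ≫ f' := by rw [Category.assoc, Category.assoc, hf'']

end Groth.Agent.Lib.Helper11RigidBase
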