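import Mathlib
import Groth.Agent.Lib.Helper11RigidBaseC

set_option autoImplicit false
universe u

namespace Groth.Agent.Lib.Helper11RigidBase

open CategoryTheory AlgebraicGeometry Limits TopologicalSpace Opposite IsLocalRing

section Algebra

variable (O : Type u) [CommRing O] [IsLocalRing O]

lemma pow_succ_ne_top (n : ℕ) : maximalIdeal O ^ (n + 1) ≠ ⊤ := by
  intro h
  have h1 : maximalIdeal O ^ (n + 1) ≤ maximalIdeal O := Ideal.pow_le_self (Nat.succ_ne_zero n)
  rw [h] at h1
  exact (IsLocalRing.maximalIdeal.isMaximal O).ne_top (top_le_iff.mp h1)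

instance isLocalRing_quotient_pow (n : ℕ) : IsLocalRing (O ⧸ maximalIdeal O ^ (n + 1)) := by
  have : Nontrivial (O ⧸ maximalIdeal O ^ (n + 1)) :=
    Ideal.Quotient.nontrivial_iff.mpr (pow_succ_ne_top O n)
  exact IsLocalRing.of_surjective' (Ideal.Quotient.mk _) Ideal.Quotient.mk_surjective

lemma maximalIdeal_quotient_pow_le (n : ℕ) :
    maximalIdeal (O ⧸ maximalIdeal O ^ (n + 1)) ≤
      Ideal.map (Ideal.Quotient.mk (maximalIdeal O ^ (n + 1))) (maximalIdeal O) := by
  intro z hz
  obtain ⟨a, rfl⟩ := Ideal.Quotient.mk_surjective z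
  apply Ideal.mem_map_of_mem
  rw [IsLocalRing.mem_maximalIdeal, mem_nonunits_iff] at hz ⊢
  intro ha
  exact hz (ha.map _)

instance isArtinianRing_quotient_pow [IsNoetherianRing O] (n : ℕ) :
    IsArtinianRing (O ⧸ maximalIdeal O ^ (n + 1)) := by
  rw [isArtinianRing_iff_isNilpotent_maximalIdeal]
  refine ⟨n + 1, ?_⟩
  rw [Ideal.zero_eq_bot, eq_bot_iff]
  refine (Ideal.pow_right_mono (maximalIdeal_quotient_pow_le O n) (n + 1)).trans ?_
  rw [← Ideal.map_pow, Ideal.map_quotient_self]

/-- the residue map of `O / m^(n+1)` -/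
noncomputable def quotPowResidue (n : ℕ) : O ⧸ maximalIdeal O ^ (n + 1) →+* ResidueField O :=
  Ideal.Quotient.lift _ (IsLocalRing.residue O) (fun a ha => by
    rw [IsLocalRing.residue_eq_zero_iff]
    exact Ideal.pow_le_self (Nat.succ_ne_zero n) ha)

lemma quotPowResidue_comp (n : ℕ) :
    (quotPowResidue O n).comp (Ideal.Quotient.mk _) = IsLocalRing.residue O := by
  ext a
  rfl

lemma quotPowResidue_surjective (n : ℕ) : Function.Surjective (quotPowResidue O n) := by
  intro z
  obtain ⟨a, rfl⟩ := IsLocalRing.residue_surjective z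
  exact ⟨Ideal.Quotient.mk _ a, rfl⟩

lemma ker_quotPowResidue (n : ℕ) :
    RingHom.ker (quotPowResidue O n) = maximalIdeal (O ⧸ maximalIdeal O ^ (n + 1)) := by
  have : (RingHom.ker (quotPowResidue O n)).IsMaximal :=
    RingHom.ker_isMaximal_of_surjective _ (quotPowResidue_surjective O n)
  exact IsLocalRing.eq_maximalIdeal this

end Algebra


section Geometry

variable {S X Y S' : Scheme.{u}}

/-- the ring of the `n`-th infinitesimal neighbourhood of `s` -/
noncomputable abbrev infRing (S : Scheme.{u}) (s : S) (n : ℕ) : CommRingCat.{u} :=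
  CommRingCat.of (S.presheaf.stalk s ⧸ maximalIdeal (S.presheaf.stalk s) ^ (n + 1))

/-- the `n`-th infinitesimal neighbourhood of `s`, mapping to `S` -/
noncomputable def infNbhdι (S : Scheme.{u}) (s : S) (n : ℕ) : Spec (infRing S s n) ⟶ S :=
  Spec.map (CommRingCat.ofHom (Ideal.Quotient.mk _)) ≫ S.fromSpecStalk s

lemma infNbhdι_apply (S : Scheme.{u}) (s : S) (n : ℕ) (t : Spec (infRing S s n)) :
    (infNbhdι S s n).base t = s := by
  have h1 : (Spec.map (CommRingCat.ofHom (Ideal.Quotient.mk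
      (maximalIdeal (S.presheaf.stalk s) ^ (n + 1))))).base t =
      closedPoint (S.presheaf.stalk s) := by
    apply PrimeSpectrum.ext
    have hmax : (maximalIdeal (S.presheaf.stalk s)) ≤
        ((Spec.map (CommRingCat.ofHom (Ideal.Quotient.mk
          (maximalIdeal (S.presheaf.stalk s) ^ (n + 1))))).base t).asIdeal := by
      intro a ha
      have h2 : a ^ (n + 1) ∈ ((Spec.map (CommRingCat.ofHom (Ideal.Quotient.mk
          (maximalIdeal (S.presheaf.stalk s) ^ (n + 1))))).base t).asIdeal := by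
        change (Ideal.Quotient.mk (maximalIdeal (S.presheaf.stalk s) ^ (n + 1))) (a ^ (n + 1)) ∈
          t.asIdeal
        have : (Ideal.Quotient.mk (maximalIdeal (S.presheaf.stalk s) ^ (n + 1))) (a ^ (n + 1)) = 0 :=
          Ideal.Quotient.eq_zero_iff_mem.mpr (Ideal.pow_mem_pow ha _)
        rw [this]
        exact t.asIdeal.zero_mem
      exact (PrimeSpectrum.isPrime _).mem_of_pow_mem _ h2
    exact ((IsLocalRing.maximalIdeal.isMaximal _).eq_of_le (PrimeSpectrum.isPrime _).ne_top
      hmax).symm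
  change (S.fromSpecStalk s).base ((Spec.map _).base t) = s
  rw [h1]
  exact Scheme.fromSpecStalk_closedPoint

lemma SpecMap_quotPowResidue_infNbhdι (S : Scheme.{u}) (s : S) (n : ℕ) :
    Spec.map (CommRingCat.ofHom (quotPowResidue (S.presheaf.stalk s) n)) ≫ infNbhdι S s n =
      S.fromSpecResidueField s := by
  rw [infNbhdι, ← Category.assoc, ← Spec.map_comp, Scheme.fromSpecResidueField]
  congr 2

end Geometry


section Claim1

variable {S X Y : Scheme.{u}} [IsLocallyNoetherian S]

/-- **Claim 1a**: over a collapsed fibre, the infinitesimal neighbourhoods `X_n` of the fibre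
equalize `f` and `p ≫ ε ≫ f`. -/
theorem infNbhd_equalizes (p : X ⟶ S) [Flat p] (ε : S ⟶ X) (hε : ε ≫ p = 𝟙 S) (f : X ⟶ Y) (s : S)
    (h0 : Function.Surjective (pullback.snd p (S.fromSpecResidueField s)).appTop.hom)
    (hs : ∀ x x' : X, p.base x = s → p.base x' = s → f.base x = f.base x') (n : ℕ) :
    pullback.fst p (infNbhdι S s n) ≫ f = pullback.fst p (infNbhdι S s n) ≫ p ≫ ε ≫ f := by
  let τ := infNbhdι S s n
  let pn : pullback p τ ⟶ Spec (infRing S s n) := pullback.snd p τ
  let jn : pullback p τ ⟶ X := pullback.fst p τ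
  let εn : Spec (infRing S s n) ⟶ pullback p τ := pullback.lift (τ ≫ ε) (𝟙 _) (by
    rw [Category.assoc, hε, Category.comp_id, Category.id_comp])
  have hεn : εn ≫ pn = 𝟙 _ := pullback.lift_snd _ _ _
  have hεj : εn ≫ jn = τ ≫ ε := pullback.lift_fst _ _ _
  let ψ : infRing S s n ⟶ S.residueField s :=
    CommRingCat.ofHom (quotPowResidue (S.presheaf.stalk s) n)
  have hψτ : Spec.map ψ ≫ τ = S.fromSpecResidueField s := SpecMap_quotPowResidue_infNbhdι S s n
  let i : pullback p (S.fromSpecResidueField s) ⟶ pullback p τ :=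
    pullback.lift (pullback.fst _ _) (pullback.snd _ _ ≫ Spec.map ψ) (by
      rw [Category.assoc, hψτ, pullback.condition])
  have hi1 : i ≫ jn = pullback.fst _ _ := pullback.lift_fst _ _ _
  have hi2 : i ≫ pn = pullback.snd _ _ ≫ Spec.map ψ := pullback.lift_snd _ _ _
  have H : IsPullback i (pullback.snd p (S.fromSpecResidueField s)) pn (Spec.map ψ) := by
    refine IsPullback.of_right ?_ hi2 (IsPullback.of_hasPullback p τ)
    rw [hi1, hψτ]
    exact IsPullback.of_hasPullback p (S.fromSpecResidueField s)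
  have hsurj : Function.Surjective (strMap pn) :=
    strMap_surjective_of_isArtinianRing ψ (quotPowResidue_surjective _ n)
      (ker_quotPowResidue _ n) pn i _ H h0
  have hcol : ∀ y y' : ↥(pullback p τ), (jn ≫ f).base y = (jn ≫ f).base y' := by
    intro y y'
    have hy : ∀ y : ↥(pullback p τ), p.base (jn.base y) = s := by
      intro y
      have h1 : (jn ≫ p).base y = (pn ≫ τ).base y := by
        rw [pullback.condition]
      exact h1.trans (infNbhdι_apply S s n _)
    exact hs _ _ (hy y) (hy y')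
  have key := eq_of_strMap_surjective pn εn hεn hsurj (jn ≫ f) hcol
  calc jn ≫ f = pn ≫ εn ≫ jn ≫ f := key
    _ = pn ≫ τ ≫ ε ≫ f := by rw [← Category.assoc εn, hεj, Category.assoc]
    _ = jn ≫ p ≫ ε ≫ f := by rw [← Category.assoc pn, ← pullback.condition, Category.assoc]

end Claim1


section Claim1b

variable {S X Y S' : Scheme.{u}} [IsLocallyNoetherian S] [IsLocallyNoetherian X]

/-- **Claim 1 + 2**: near a point `x` of a collapsed fibre, `f = p ≫ ε ≫ f`. -/
theorem exists_open_eq_of_collapsed (p : X ⟶ S) [Flat p] (ε : S ⟶ X) (hε : ε ≫ p = 𝟙 S)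
    (f : X ⟶ Y) (q : Y ⟶ S') [IsSeparated q] (hq : f ≫ q = p ≫ ε ≫ f ≫ q) (x : X)
    (h0 : Function.Surjective
      (pullback.snd p (S.fromSpecResidueField (p.base x))).appTop.hom)
    (hs : ∀ x₁ x₂ : X, p.base x₁ = p.base x → p.base x₂ = p.base x → f.base x₁ = f.base x₂) :
    ∃ U : X.Opens, x ∈ U ∧ U.ι ≫ f = U.ι ≫ p ≫ ε ≫ f := by
  apply spread_out_unique_of_isGermInjective' f (p ≫ ε ≫ f)
  apply eq_of_forall_quotient_pow (R := X.presheaf.stalk x) _ _ q (by
    rw [Category.assoc, Category.assoc, hq]; simp only [Category.assoc])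
  intro n
  have hloc : maximalIdeal (S.presheaf.stalk (p.base x)) ^ (n + 1) ≤
      Ideal.comap (p.stalkMap x).hom (maximalIdeal (X.presheaf.stalk x) ^ (n + 1)) := by
    refine le_trans ?_ (Ideal.le_comap_pow _ _)
    apply Ideal.pow_right_mono
    intro a ha
    rw [Ideal.mem_comap]
    exact (IsLocalRing.mem_maximalIdeal _).mpr
      (fun h => (IsLocalRing.mem_maximalIdeal _).mp ha (isUnit_of_map_unit (p.stalkMap x).hom a h))
  let δ := Ideal.quotientMap (maximalIdeal (X.presheaf.stalk x) ^ (n + 1)) (p.stalkMap x).hom hloc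
  let cn := Spec.map (CommRingCat.ofHom
    (Ideal.Quotient.mk (maximalIdeal (X.presheaf.stalk x) ^ (n + 1))))
  let dn : Spec (CommRingCat.of (X.presheaf.stalk x ⧸ maximalIdeal (X.presheaf.stalk x) ^ (n + 1)))
    ⟶ Spec (infRing S (p.base x) n) := Spec.map (CommRingCat.ofHom δ)
  have hcond : (cn ≫ X.fromSpecStalk x) ≫ p = dn ≫ infNbhdι S (p.base x) n := by
    rw [Category.assoc, ← Scheme.SpecMap_stalkMap_fromSpecStalk, infNbhdι, ← Category.assoc,
      ← Category.assoc]
    congr 1
    rw [← Spec.map_comp, ← Spec.map_comp]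
    congr 1
  let l := pullback.lift (cn ≫ X.fromSpecStalk x) dn hcond
  have hl : l ≫ pullback.fst p (infNbhdι S (p.base x) n) = cn ≫ X.fromSpecStalk x :=
    pullback.lift_fst _ _ _
  have key := infNbhd_equalizes p ε hε f (p.base x) h0 hs n
  calc cn ≫ X.fromSpecStalk x ≫ f
      = l ≫ pullback.fst p (infNbhdι S (p.base x) n) ≫ f := by
        rw [← Category.assoc, ← hl, Category.assoc]
    _ = l ≫ pullback.fst p (infNbhdι S (p.base x) n) ≫ p ≫ ε ≫ f := by rw [key]
    _ = cn ≫ X.fromSpecStalk x ≫ p ≫ ε ≫ f := by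
        rw [← Category.assoc l, hl, Category.assoc]

end Claim1b

end Groth.Agent.Lib.Helper11RigidBase
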