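import Mathlib
import Groth.Agent.Lib.Helper11RigidBaseD

set_option autoImplicit false
universe u

namespace Groth.Agent.Lib.Helper11RigidBase

open CategoryTheory AlgebraicGeometry Limits TopologicalSpace Opposite IsLocalRing

/-- in a noetherian quasi-sober space, a point in the closure of an open set is a specialization
of a point of the open set -/
lemma exists_specializes_of_mem_closure {T : Type*} [TopologicalSpace T] [NoetherianSpace T]
    [QuasiSober T] {V : Set T} (hV : IsOpen V) {s' : T} (hs' : s' ∈ closure V) :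
    ∃ w ∈ V, w ⤳ s' := by
  obtain ⟨F, hFfin, hFcl, hFirr, hF⟩ :=
    NoetherianSpace.exists_finite_set_isClosed_irreducible (isClosed_closure (s := V))
  let F' : Set (Set T) := {t ∈ F | (t ∩ V).Nonempty}
  have hF'fin : F'.Finite := hFfin.subset (Set.sep_subset _ _)
  have hC' : IsClosed (⋃₀ F') := by
    rw [Set.sUnion_eq_biUnion]
    exact hF'fin.isClosed_biUnion (fun t ht => hFcl t ht.1)
  have hVC' : V ⊆ ⋃₀ F' := by
    intro v hv
    have : v ∈ ⋃₀ F := by rw [← hF]; exact subset_closure hv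
    obtain ⟨t, htF, hvt⟩ := this
    exact ⟨t, ⟨htF, ⟨v, hvt, hv⟩⟩, hvt⟩
  obtain ⟨t, ⟨htF, htV⟩, hs't⟩ := (closure_minimal hVC' hC') hs'
  obtain ⟨ξ, hξ⟩ := QuasiSober.sober (hFirr t htF) (hFcl t htF)
  refine ⟨ξ, (hξ.mem_open_set_iff hV).mpr htV, ?_⟩
  rw [specializes_iff_mem_closure, hξ.def]
  exact hs't

/-- local version -/
lemma exists_specializes_of_mem_closure' {T : Type*} [TopologicalSpace T] (N : Set T)
    (hN : IsOpen N) [NoetherianSpace N] [QuasiSober N] {W : Set T} (hW : IsOpen W) {s' : T}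
    (hs'N : s' ∈ N) (hs' : s' ∈ closure W) : ∃ w ∈ W, w ⤳ s' := by
  have h1 : (⟨s', hs'N⟩ : N) ∈ closure ((↑) ⁻¹' W : Set N) := by
    rw [mem_closure_iff]
    intro O hO hsO
    have hO' : IsOpen ((↑) '' O : Set T) := hN.isOpenMap_subtype_val O hO
    obtain ⟨y, ⟨o, hoO, rfl⟩, hyW⟩ := mem_closure_iff.mp hs' _ hO' ⟨_, hsO, rfl⟩
    exact ⟨o, hoO, hyW⟩
  obtain ⟨w, hwW, hw⟩ := exists_specializes_of_mem_closure
    (hW.preimage continuous_subtype_val) h1
  exact ⟨w, hwW, hw.map continuous_subtype_val⟩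


lemma exists_specializes_of_mem_closure_scheme (S : Scheme.{u}) [IsLocallyNoetherian S]
    {W : Set S} (hW : IsOpen W) {s' : S} (hs' : s' ∈ closure W) : ∃ w ∈ W, w ⤳ s' := by
  obtain ⟨N, hN, hsN, -⟩ := exists_isAffineOpen_mem_and_subset (x := s') (U := ⊤) trivial
  have h1 : IsNoetherianRing Γ(S, N) := IsLocallyNoetherian.component_noetherian ⟨N, hN⟩
  have h2 : NoetherianSpace ((N : Set S) : Type u) := noetherianSpace_of_isAffineOpen N hN
  have h3 : QuasiSober ((N : Set S) : Type u) := inferInstanceAs (QuasiSober (N : Scheme.{u}))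
  exact exists_specializes_of_mem_closure' (N : Set S) N.isOpen hW hsN hs'

/-- glueing local equalities of morphisms -/
lemma eq_of_forall_exists_open {X Y : Scheme.{u}} (f g : X ⟶ Y)
    (h : ∀ x : X, ∃ U : X.Opens, x ∈ U ∧ U.ι ≫ f = U.ι ≫ g) : f = g := by
  choose U hxU hU using h
  have hcover : TopologicalSpace.IsOpenCover U :=
    eq_top_iff.mpr fun x _ => TopologicalSpace.Opens.mem_iSup.mpr ⟨x, hxU x⟩
  apply Scheme.Cover.hom_ext (X.openCoverOfIsOpenCover U hcover)
  intro x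
  exact hU x

section Main

variable {S X Y S' : Scheme.{u}} [IsLocallyNoetherian S] [IsLocallyNoetherian X]

/-- **Rigidity lemma over a locally noetherian base, with a section** (Mumford, GIT 6.1):
the locus of points of `S` whose fibre is collapsed by `f` is open and closed, and over it
`f = p ≫ ε ≫ f`. -/
theorem rigidity_section (p : X ⟶ S) [Flat p] (hcl : IsClosedMap p.base) (ε : S ⟶ X)
    (hε : ε ≫ p = 𝟙 S) (f : X ⟶ Y) (q : Y ⟶ S') [IsSeparated q] (hq : f ≫ q = p ≫ ε ≫ f ≫ q)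
    (h0 : ∀ s : S, Function.Surjective (pullback.snd p (S.fromSpecResidueField s)).appTop.hom) :
    IsClopen {s : S | ∀ x₁ x₂ : X, p.base x₁ = s → p.base x₂ = s → f.base x₁ = f.base x₂} ∧
    ∀ x : X, (∀ x₁ x₂ : X, p.base x₁ = p.base x → p.base x₂ = p.base x → f.base x₁ = f.base x₂) →
      ∃ U : X.Opens, x ∈ U ∧ U.ι ≫ f = U.ι ≫ p ≫ ε ≫ f := by
  have hloc : ∀ x : X,
      (∀ x₁ x₂ : X, p.base x₁ = p.base x → p.base x₂ = p.base x → f.base x₁ = f.base x₂) →
      ∃ U : X.Opens, x ∈ U ∧ U.ι ≫ f = U.ι ≫ p ≫ ε ≫ f :=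
    fun x hx => exists_open_eq_of_collapsed p ε hε f q hq x (h0 _) hx
  refine ⟨?_, hloc⟩
  obtain ⟨W, hW⟩ : ∃ W : Set S, W =
    {s : S | ∀ x₁ x₂ : X, p.base x₁ = s → p.base x₂ = s → f.base x₁ = f.base x₂} := ⟨_, rfl⟩
  rw [← hW]
  -- the open set where `f = g` locally
  let U' : Set X := {x | ∃ U : X.Opens, x ∈ U ∧ U.ι ≫ f = U.ι ≫ p ≫ ε ≫ f}
  have hU'open : IsOpen U' := by
    rw [isOpen_iff_forall_mem_open]
    rintro x ⟨U, hxU, hU⟩
    exact ⟨U, fun y hy => ⟨U, hy, hU⟩, U.isOpen, hxU⟩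
  have hpW : ∀ x : X, p.base x ∈ W → x ∈ U' := by
    intro x hx
    rw [hW] at hx
    exact hloc x hx
  -- on U', f and g agree topologically
  have hU'eq : ∀ x ∈ U', f.base x = f.base (ε.base (p.base x)) := by
    rintro x ⟨U, hxU, hU⟩
    have := congr($(hU).base ⟨x, hxU⟩)
    exact this
  have hεp : ∀ s : S, p.base (ε.base s) = s := by
    intro s
    have := congr($(hε).base s)
    exact this
  have hWiff : ∀ s : S, s ∈ W ↔ ∀ x : X, p.base x = s → x ∈ U' := by
    intro s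
    constructor
    · intro hs x hx
      exact hpW x (hx ▸ hs)
    · intro h
      rw [hW]
      intro x₁ x₂ h1 h2
      rw [hU'eq x₁ (h x₁ h1), hU'eq x₂ (h x₂ h2), h1, h2]
  have hWopen : IsOpen W := by
    have : W = (p.base '' U'ᶜ)ᶜ := by
      ext s
      rw [hWiff, Set.mem_compl_iff, Set.mem_image]
      constructor
      · rintro h ⟨x, hx, rfl⟩
        exact hx (h x rfl)
      · intro h x hx
        by_contra hxU
        exact h ⟨x, hxU, hx⟩
    rw [this]
    exact (hcl _ hU'open.isClosed_compl).isOpen_compl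
  refine ⟨?_, hWopen⟩
  -- closedness
  obtain ⟨E, ι, hι, hcond, hlift⟩ := exists_equalizer_closedImmersion f (p ≫ ε ≫ f) q
    (by rw [hq]; simp only [Category.assoc])
  have hrcl : IsClosed (Set.range ι.base) := ι.isClosedEmbedding.isClosed_range
  have hU'r : U' ⊆ Set.range ι.base := by
    rintro x ⟨U, hxU, hU⟩
    obtain ⟨l, hl⟩ := hlift _ U.ι hU
    refine ⟨l.base ⟨x, hxU⟩, ?_⟩
    have := congr($(hl).base ⟨x, hxU⟩)
    exact this
  have hreq : ∀ x ∈ Set.range ι.base, f.base x = f.base (ε.base (p.base x)) := by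
    rintro _ ⟨e, rfl⟩
    have := congr($(hcond).base e)
    exact this
  rw [← closure_subset_iff_isClosed]
  intro s' hs'
  rw [hW]
  have key : ∀ x : X, p.base x = s' → x ∈ Set.range ι.base := by
    intro x hx
    obtain ⟨w, hwW, hws⟩ := exists_specializes_of_mem_closure_scheme S hWopen hs'
    obtain ⟨x', hx'x, hx'w⟩ := Flat.generalizingMap p (hx ▸ hws)
    have hx'U : x' ∈ U' := hpW x' (hx'w ▸ hwW)
    exact hrcl.closure_subset_iff.mpr (Set.singleton_subset_iff.mpr (hU'r hx'U))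
      (specializes_iff_mem_closure.mp hx'x)
  intro x₁ x₂ h1 h2
  rw [hreq x₁ (key x₁ h1), hreq x₂ (key x₂ h2), h1, h2]

end Main

end Groth.Agent.Lib.Helper11RigidBase
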