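import Mathlib
import Groth.Agent.Lib.Helper11RigidBaseE

set_option autoImplicit false
universe u

namespace Groth.Agent.Lib.Helper11RigidBase

open CategoryTheory AlgebraicGeometry Limits TopologicalSpace Opposite IsLocalRing

/-- the hypothesis `Γ(X_s) = κ(s)` is stable under base change -/
theorem bijective_appTop_of_isPullback {X S X' S' : Scheme.{u}} {a : X' ⟶ X} {p' : X' ⟶ S'}
    {p : X ⟶ S} {b : S' ⟶ S} (H : IsPullback a p' p b) [QuasiCompact p] [QuasiSeparated p]
    (s' : S')
    (h0 : Function.Bijective (pullback.snd p (S.fromSpecResidueField (b.base s'))).appTop.hom) :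
    Function.Bijective (pullback.snd p' (S'.fromSpecResidueField s')).appTop.hom := by
  let ξ := S'.fromSpecResidueField s'
  let σ := S.fromSpecResidueField (b.base s')
  let φ := b.residueFieldMap s'
  have hφ : Spec.map φ ≫ σ = ξ ≫ b := Scheme.Hom.SpecMap_residueFieldMap_fromSpecResidueField b s'
  have h1 : IsPullback (pullback.fst p' ξ ≫ a) (pullback.snd p' ξ) p (ξ ≫ b) :=
    (IsPullback.of_hasPullback p' ξ).paste_horiz H
  rw [← hφ] at h1
  let g : pullback p' ξ ⟶ pullback p σ :=
    pullback.lift (pullback.fst p' ξ ≫ a) (pullback.snd p' ξ ≫ Spec.map φ) (by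
      rw [Category.assoc, Category.assoc, hφ, H.w, ← Category.assoc, ← Category.assoc,
        pullback.condition])
  have hg1 : g ≫ pullback.fst p σ = pullback.fst p' ξ ≫ a := pullback.lift_fst _ _ _
  have hg2 : g ≫ pullback.snd p σ = pullback.snd p' ξ ≫ Spec.map φ := pullback.lift_snd _ _ _
  have H2 : IsPullback g (pullback.snd p' ξ) (pullback.snd p σ) (Spec.map φ) := by
    refine IsPullback.of_right ?_ hg2 (IsPullback.of_hasPullback p σ)
    rw [hg1]
    exact h1
  have hflat : Flat (Spec.map φ) := inferInstance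
  have hqc : QuasiCompact (pullback.snd p σ) := inferInstance
  have hqs : QuasiSeparated (pullback.snd p σ) := inferInstance
  have hc : CompactSpace ↥(pullback p σ) := QuasiCompact.compactSpace_of_compactSpace (pullback.snd p σ)
  have hq : QuasiSeparatedSpace ↥(pullback p σ) :=
    quasiSeparatedSpace_of_quasiSeparated (pullback.snd p σ)
  have hiso : IsIso (pullback.snd p σ).appTop :=
    (ConcreteCategory.isIso_iff_bijective _).mpr h0
  have := Groth.Agent.Lib.Helper11Blanchard.isIso_app_of_isPullback_of_appTop H2 hiso ⊤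
    (isAffineOpen_top _)
  exact (ConcreteCategory.isIso_iff_bijective _).mp this


/-- fibres are nonempty when `κ(s) → Γ(X_s)` is injective -/
lemma surjective_of_injective_appTop {X S : Scheme.{u}} (p : X ⟶ S)
    (h0 : ∀ s : S, Function.Injective (pullback.snd p (S.fromSpecResidueField s)).appTop.hom) :
    Function.Surjective p.base := by
  intro s
  by_cases hE : IsEmpty ↥(pullback p (S.fromSpecResidueField s))
  · exfalso
    have hsub : Subsingleton Γ(pullback p (S.fromSpecResidueField s), ⊤) := inferInstance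
    have h1 := h0 s (a₁ := 0) (a₂ := 1) (Subsingleton.elim _ _)
    exact zero_ne_one h1
  · rw [not_isEmpty_iff] at hE
    obtain ⟨z⟩ := hE
    refine ⟨(pullback.fst p (S.fromSpecResidueField s)).base z, ?_⟩
    have h1 : (pullback.fst p (S.fromSpecResidueField s) ≫ p).base z =
        (pullback.snd p (S.fromSpecResidueField s) ≫ S.fromSpecResidueField s).base z := by
      rw [pullback.condition]
    have h2 : (S.fromSpecResidueField s).base
        ((pullback.snd p (S.fromSpecResidueField s)).base z) = s :=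
      Scheme.fromSpecResidueField_apply s _
    exact h1.trans h2

section Main2

variable {S X Y S' : Scheme.{u}} [IsLocallyNoetherian S] [IsLocallyNoetherian X]

/-- rigidity lemma with a section over a connected base -/
theorem rigidity_section_connected [ConnectedSpace S] (p : X ⟶ S) [Flat p]
    (hcl : IsClosedMap p.base) (ε : S ⟶ X)
    (hε : ε ≫ p = 𝟙 S) (f : X ⟶ Y) (q : Y ⟶ S') [IsSeparated q] (hq : f ≫ q = p ≫ ε ≫ f ≫ q)
    (h0 : ∀ s : S, Function.Surjective (pullback.snd p (S.fromSpecResidueField s)).appTop.hom)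
    (s : S) (hs : ∀ x₁ x₂ : X, p.base x₁ = s → p.base x₂ = s → f.base x₁ = f.base x₂) :
    f = p ≫ ε ≫ f := by
  obtain ⟨hclopen, hloc⟩ := rigidity_section p hcl ε hε f q hq h0
  have huniv := hclopen.eq_univ ⟨s, hs⟩
  apply eq_of_forall_exists_open
  intro x
  apply hloc x
  have : p.base x ∈ {s : S | ∀ x₁ x₂ : X, p.base x₁ = s → p.base x₂ = s →
      f.base x₁ = f.base x₂} := by rw [huniv]; trivial
  exact this

/-- **Rigidity lemma over a connected locally noetherian base, proper case** (Mumford, GIT 6.1). -/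
theorem rigidity_proper [ConnectedSpace S] (p : X ⟶ S) [Flat p] [IsProper p]
    (f : X ⟶ Y) (q : Y ⟶ S') [IsSeparated q] (r : S ⟶ S') (hq : f ≫ q = p ≫ r)
    (h0 : ∀ s : S, Function.Bijective (pullback.snd p (S.fromSpecResidueField s)).appTop.hom)
    (s : S) (hs : ∀ x₁ x₂ : X, p.base x₁ = s → p.base x₂ = s → f.base x₁ = f.base x₂) :
    ∃ t : S ⟶ Y, f = p ≫ t := by
  have hsurj : Function.Surjective p.base := surjective_of_injective_appTop p (fun s => (h0 s).1)
  let pr₁ := pullback.fst p p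
  let pr₂ := pullback.snd p p
  let Δ : X ⟶ pullback p p := pullback.lift (𝟙 X) (𝟙 X) rfl
  have hΔ1 : Δ ≫ pr₁ = 𝟙 X := pullback.lift_fst _ _ _
  have hΔ2 : Δ ≫ pr₂ = 𝟙 X := pullback.lift_snd _ _ _
  have hLN : IsLocallyNoetherian (pullback p p) := LocallyOfFiniteType.isLocallyNoetherian pr₂
  have hcl : IsClosedMap pr₂.base := pr₂.isClosedMap
  have hq' : (pr₁ ≫ f) ≫ q = pr₂ ≫ Δ ≫ (pr₁ ≫ f) ≫ q := by
    have hcond : pr₁ ≫ p = pr₂ ≫ p := pullback.condition
    calc (pr₁ ≫ f) ≫ q = pr₁ ≫ p ≫ r := by rw [Category.assoc, hq]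
      _ = pr₂ ≫ p ≫ r := by rw [← Category.assoc, hcond, Category.assoc]
      _ = pr₂ ≫ Δ ≫ (pr₁ ≫ f) ≫ q := by
        rw [Category.assoc pr₁, hq, ← Category.assoc Δ, hΔ1, Category.id_comp]
  have h0' : ∀ x : X, Function.Surjective
      (pullback.snd pr₂ (X.fromSpecResidueField x)).appTop.hom := fun x =>
    (bijective_appTop_of_isPullback (IsPullback.of_hasPullback p p) x (h0 _)).2
  obtain ⟨hclopen, hloc⟩ := rigidity_section pr₂ hcl Δ hΔ2 (pr₁ ≫ f) q hq' h0'
  -- the collapsed locus upstairs is the preimage of the collapsed locus downstairs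
  obtain ⟨W, hW⟩ : ∃ W : Set S, W =
    {s : S | ∀ x₁ x₂ : X, p.base x₁ = s → p.base x₂ = s → f.base x₁ = f.base x₂} := ⟨_, rfl⟩
  have hW' : {x : X | ∀ z₁ z₂ : ↥(pullback p p), pr₂.base z₁ = x → pr₂.base z₂ = x →
      (pr₁ ≫ f).base z₁ = (pr₁ ≫ f).base z₂} = p.base ⁻¹' W := by
    ext x
    rw [Set.mem_preimage, hW]
    have hpz : ∀ z : ↥(pullback p p), p.base (pr₁.base z) = p.base (pr₂.base z) := by
      intro z
      have := congr($(pullback.condition (f := p) (g := p)).base z)
      exact this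
    constructor
    · intro h x₁ x₂ h1 h2
      obtain ⟨z₁, hz₁, hz₁'⟩ := Scheme.Pullback.exists_preimage_pullback x₁ x h1
      obtain ⟨z₂, hz₂, hz₂'⟩ := Scheme.Pullback.exists_preimage_pullback x₂ x h2
      have := h z₁ z₂ hz₁' hz₂'
      change f.base (pr₁.base z₁) = f.base (pr₁.base z₂) at this
      rw [← hz₁, ← hz₂]
      exact this
    · intro h z₁ z₂ h1 h2
      change f.base (pr₁.base z₁) = f.base (pr₁.base z₂)
      apply h
      · rw [hpz, h1]
      · rw [hpz, h2]
  rw [hW'] at hclopen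
  have hWclopen : IsClopen W := by
    constructor
    · have : W = p.base '' (p.base ⁻¹' W) := (Set.image_preimage_eq W hsurj).symm
      rw [this]
      exact p.isClosedMap _ hclopen.1
    · have : W = (p.base '' (p.base ⁻¹' W)ᶜ)ᶜ := by
        rw [← Set.preimage_compl, Set.image_preimage_eq _ hsurj, compl_compl]
      rw [this]
      exact (p.isClosedMap _ hclopen.2.isClosed_compl).isOpen_compl
  have hWuniv : W = Set.univ := hWclopen.eq_univ ⟨s, by rw [hW]; exact hs⟩
  have hkey : pr₁ ≫ f = pr₂ ≫ f := by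
    have h1 : pr₁ ≫ f = pr₂ ≫ Δ ≫ pr₁ ≫ f := by
      apply eq_of_forall_exists_open
      intro z
      apply hloc z
      have hz : pr₂.base z ∈ {x : X | ∀ z₁ z₂ : ↥(pullback p p), pr₂.base z₁ = x →
          pr₂.base z₂ = x → (pr₁ ≫ f).base z₁ = (pr₁ ≫ f).base z₂} := by
        rw [hW', hWuniv]; trivial
      exact hz
    rw [h1, ← Category.assoc Δ, hΔ1, Category.id_comp]
  have hsurj' : Surjective p := ⟨hsurj⟩
  have heff : EffectiveEpi p := inferInstance
  have hdesc : ∀ {Z : Scheme.{u}} (g₁ g₂ : Z ⟶ X), g₁ ≫ p = g₂ ≫ p → g₁ ≫ f = g₂ ≫ f := by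
    intro Z g₁ g₂ hg
    have e1 : pullback.lift g₁ g₂ hg ≫ pr₁ = g₁ := pullback.lift_fst _ _ _
    have e2 : pullback.lift g₁ g₂ hg ≫ pr₂ = g₂ := pullback.lift_snd _ _ _
    calc g₁ ≫ f = pullback.lift g₁ g₂ hg ≫ pr₁ ≫ f := by rw [← Category.assoc, e1]
      _ = pullback.lift g₁ g₂ hg ≫ pr₂ ≫ f := by rw [hkey]
      _ = g₂ ≫ f := by rw [← Category.assoc, e2]
  exact ⟨EffectiveEpi.desc p f hdesc, (EffectiveEpi.fac p f hdesc).symm⟩

end Main2

end Groth.Agent.Lib.Helper11RigidBase
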