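import Mathlib
import Groth.Agent.Lib.Helper11RigidBaseF

set_option autoImplicit false
universe u

namespace Groth.Agent.Lib.Helper11RigidBase

open CategoryTheory AlgebraicGeometry Limits TopologicalSpace Opposite IsLocalRing TensorProduct

/-- faithfully flat descent of `k = A` along a field extension -/
lemma bijective_algebraMap_of_includeLeft {k K A : Type u} [Field k] [Field K] [Algebra k K]
    [CommRing A] [Algebra k A]
    (h : Function.Bijective (Algebra.TensorProduct.includeLeft : K →ₐ[k] K ⊗[k] A)) :
    Function.Bijective (algebraMap k A) := by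
  have h1 : Function.Bijective ((Algebra.linearMap k A).lTensor K) := by
    have h2 : ⇑((Algebra.linearMap k A).lTensor K) =
        ⇑(Algebra.TensorProduct.includeLeft : K →ₐ[k] K ⊗[k] A) ∘ ⇑(TensorProduct.rid k K) := by
      funext z
      induction z using TensorProduct.induction_on with
      | zero => simp
      | tmul b c =>
        simp only [LinearMap.lTensor_tmul, Algebra.linearMap_apply, Function.comp_apply,
          TensorProduct.rid_tmul, Algebra.TensorProduct.includeLeft_apply]
        rw [Algebra.algebraMap_eq_smul_one, TensorProduct.tmul_smul, TensorProduct.smul_tmul']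
      | add x y hx hy =>
        simp only [map_add, Function.comp_apply] at hx hy ⊢
        rw [hx, hy]
    rw [h2]
    exact h.comp (TensorProduct.rid k K).bijective
  have h3 := (Module.FaithfullyFlat.lTensor_bijective_iff_bijective k K
    (Algebra.linearMap k A)).mp h1
  exact h3


/-- pushout version: if in a pushout square of commutative rings over a field extension the
map from `K` is bijective, so is the map from `k`. -/
lemma bijective_of_isPushout {k K A : Type u} [Field k] [Field K] [Algebra k K]
    [CommRing A] [Algebra k A] {P : CommRingCat.{u}} (bK : CommRingCat.of K ⟶ P)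
    (bA : CommRingCat.of A ⟶ P)
    (H : IsPushout (CommRingCat.ofHom (algebraMap k K)) (CommRingCat.ofHom (algebraMap k A)) bK bA)
    (h : Function.Bijective bK.hom) : Function.Bijective (algebraMap k A) := by
  apply bijective_algebraMap_of_includeLeft (K := K)
  have HT := CommRingCat.isPushout_tensorProduct k K A
  let e : CommRingCat.of (K ⊗[k] A) ≅ P := HT.isoPushout ≪≫ H.isoPushout.symm
  have he : CommRingCat.ofHom (S := K ⊗[k] A) Algebra.TensorProduct.includeLeftRingHom ≫ e.hom
      = bK := by
    dsimp only [e, Iso.trans_hom, Iso.symm_hom]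
    rw [← Category.assoc, HT.inl_isoPushout_hom, H.inl_isoPushout_inv]
  have h2 : Function.Bijective e.inv.hom := ConcreteCategory.bijective_of_isIso e.inv
  have h3 : CommRingCat.ofHom (S := K ⊗[k] A) Algebra.TensorProduct.includeLeftRingHom =
      bK ≫ e.inv := by
    rw [← he, Category.assoc, Iso.hom_inv_id, Category.comp_id]
  have h4 : ⇑(Algebra.TensorProduct.includeLeft : K →ₐ[k] K ⊗[k] A) = ⇑e.inv.hom ∘ ⇑bK.hom := by
    funext b
    have := congr($h3 b)
    exact this
  rw [h4]
  exact h2.comp h

/-- **descent of `Γ(X) = k` along a field extension.** -/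
theorem bijective_appTop_of_bijective_baseChange {k K : Type u} [Field k] [Field K]
    [Algebra k K] {X₀ X' : Scheme.{u}} (iX : X₀ ⟶ Spec (CommRingCat.of k))
    (iY : X' ⟶ Spec (CommRingCat.of K)) (g : X' ⟶ X₀)
    (H : IsPullback g iY iX (Spec.map (CommRingCat.ofHom (algebraMap k K))))
    [CompactSpace X₀] [QuasiSeparatedSpace X₀]
    (h : Function.Bijective iY.appTop.hom) : Function.Bijective iX.appTop.hom := by
  have hflat : Flat (Spec.map (CommRingCat.ofHom (algebraMap k K))) := inferInstance
  have hiso := isIso_pushoutSection_of_isQuasiSeparated_of_flat_right H (US := ⊤) (UT := ⊤)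
    (UX := ⊤) (UY := ⊤) le_top le_top (by simp) (isAffineOpen_top _) (isAffineOpen_top _)
    (CompactSpace.isCompact_univ) (isQuasiSeparated_univ)
  have hpo := (isIso_pushoutSection_iff H le_top le_top (by simp)).mp hiso
  let _ : Algebra k Γ(X₀, ⊤) := (strMap iX).toAlgebra
  have hpo' : IsPushout (CommRingCat.ofHom (algebraMap k K))
      (CommRingCat.ofHom (algebraMap k Γ(X₀, ⊤)))
      ((Scheme.ΓSpecIso (CommRingCat.of K)).inv ≫ iY.appTop) g.appTop := by
    refine IsPushout.of_iso hpo.flip (Scheme.ΓSpecIso (CommRingCat.of k))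
      (Scheme.ΓSpecIso (CommRingCat.of K)) (Iso.refl _) (Iso.refl _) ?_ ?_ ?_ ?_
    · have e : (Spec.map (CommRingCat.ofHom (algebraMap k K))).appLE ⊤ ⊤ le_top =
          (Spec.map (CommRingCat.ofHom (algebraMap k K))).appTop := Scheme.Hom.appLE_eq_app _
      exact (congrArg (fun m => m ≫ (Scheme.ΓSpecIso (CommRingCat.of K)).hom) e).trans
        (Scheme.ΓSpecIso_naturality (CommRingCat.ofHom (algebraMap k K)))
    · have e : iX.appLE ⊤ ⊤ le_top = iX.appTop := Scheme.Hom.appLE_eq_app iX
      rw [Iso.refl_hom, Category.comp_id]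
      change _ = (Scheme.ΓSpecIso (CommRingCat.of k)).hom ≫
        ((Scheme.ΓSpecIso (CommRingCat.of k)).inv ≫ iX.appTop)
      rw [Iso.hom_inv_id_assoc]
      exact e
    · have e : iY.appLE ⊤ ⊤ le_top = iY.appTop := Scheme.Hom.appLE_eq_app iY
      rw [Iso.refl_hom, Category.comp_id, Iso.hom_inv_id_assoc]
      exact e
    · have e : g.appLE ⊤ ⊤ le_top = g.appTop := Scheme.Hom.appLE_eq_app g
      rw [Iso.refl_hom, Category.comp_id, Iso.refl_hom, Category.id_comp]
      exact e
  have h1 : Function.Bijective ((Scheme.ΓSpecIso (CommRingCat.of K)).inv ≫ iY.appTop).hom := by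
    rw [CommRingCat.hom_comp]
    exact h.comp (ConcreteCategory.bijective_of_isIso (Scheme.ΓSpecIso (CommRingCat.of K)).inv)
  have h2 := bijective_of_isPushout _ _ hpo' h1
  have h3 : Function.Bijective (Scheme.ΓSpecIso (CommRingCat.of k)).hom.hom :=
    ConcreteCategory.bijective_of_isIso _
  have h4 : ⇑iX.appTop.hom = ⇑(algebraMap k Γ(X₀, ⊤)) ∘ ⇑(Scheme.ΓSpecIso (CommRingCat.of k)).hom.hom := by
    funext a
    change _ = iX.appTop.hom ((Scheme.ΓSpecIso (CommRingCat.of k)).inv.hom
      ((Scheme.ΓSpecIso (CommRingCat.of k)).hom.hom a))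
    have : (Scheme.ΓSpecIso (CommRingCat.of k)).inv.hom
        ((Scheme.ΓSpecIso (CommRingCat.of k)).hom.hom a) = a := by
      rw [← CommRingCat.comp_apply, Iso.hom_inv_id]; rfl
    rw [this]
  rw [h4]
  exact h2.comp h3

end Groth.Agent.Lib.Helper11RigidBase
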