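import Mathlib
import Groth.Prelude.Def_EssEt
import Groth.Agent.Lib.Helper3HenselA

/-!
# Essentially étale local algebras (helper3)

* `eq_zero_or_one_of_isIdempotentElem` : idempotents of a local ring.
* `algHom_eq_of_residue_eq` : two algebra maps from an unramified algebra to a local ring which
  agree modulo the maximal ideal are equal.
* `existsUnique_lift` : lifting of maps out of an essentially étale local algebra into a henselian
  local ring.
-/

namespace Groth.Agent.Lib.Helper3.EssEt

open IsLocalRing TensorProduct Groth.Agent.Lib.Helper3.Hensel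

universe u

lemma eq_zero_or_one_of_isIdempotentElem {T : Type*} [CommRing T] [IsLocalRing T] {e : T}
    (he : IsIdempotentElem e) : e = 0 ∨ e = 1 := by
  rcases isUnit_or_isUnit_one_sub_self e with h | h
  · right
    have h1 : e * e = e * 1 := by rw [he.eq, mul_one]
    exact h.mul_left_cancel h1
  · left
    have h1 : (1 - e) * e = (1 - e) * 0 := by rw [sub_mul, one_mul, he.eq, sub_self, mul_zero]
    exact h.mul_left_cancel h1

/-- Two algebra maps from an unramified algebra into a local ring agreeing modulo the maximal ideal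
are equal. -/
theorem algHom_eq_of_residue_eq {A C T : Type*} [CommRing A] [CommRing C] [Algebra A C]
    [Algebra.EssFiniteType A C] [Algebra.FormallyUnramified A C] [CommRing T] [IsLocalRing T]
    [Algebra A T] (f g : C →ₐ[A] T) (h : ∀ c, residue T (f c) = residue T (g c)) : f = g := by
  obtain ⟨e, he, hsp⟩ : ∃ e, IsIdempotentElem e ∧ KaehlerDifferential.ideal A C = Ideal.span {e} :=
    (Ideal.isIdempotentElem_iff_of_fg _ (KaehlerDifferential.ideal_fg A C)).mp <|
      (Ideal.cotangent_subsingleton_iff _).mp <| inferInstanceAs <| Subsingleton Ω[C⁄A]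
  let φ : C ⊗[A] C →ₐ[A] T := Algebra.TensorProduct.productMap f g
  have key : ∀ x : C ⊗[A] C,
      residue T (φ x) = residue T (f (Algebra.TensorProduct.lmul' A x)) := by
    intro x
    induction x using TensorProduct.induction_on with
    | zero => simp
    | tmul a b => simp [φ, h]
    | add x y hx hy => simp only [map_add, hx, hy]
  have he0 : Algebra.TensorProduct.lmul' A e = 0 := by
    have : e ∈ KaehlerDifferential.ideal A C := hsp ▸ Ideal.subset_span rfl
    exact this
  have hφe : φ e = 0 := by
    rcases eq_zero_or_one_of_isIdempotentElem (he.map φ) with h0 | h1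
    · exact h0
    · exfalso
      have := key e
      rw [h1, he0] at this
      simp at this
  ext c
  have hmem : ((1 : C) ⊗ₜ[A] c - c ⊗ₜ[A] (1 : C)) ∈ KaehlerDifferential.ideal A C :=
    KaehlerDifferential.one_smul_sub_smul_one_mem_ideal A c
  rw [hsp, Ideal.mem_span_singleton'] at hmem
  obtain ⟨x, hx⟩ := hmem
  have h2 := congrArg φ hx
  rw [map_mul, hφe, mul_zero] at h2
  simp only [φ, map_sub, Algebra.TensorProduct.productMap_apply_tmul, map_one, one_mul,
    mul_one] at h2
  exact (sub_eq_zero.mp h2.symm).symm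

set_option maxHeartbeats 1000000 in
theorem existsUnique_lift (A A' : Type u) [CommRing A] [IsLocalRing A]
    [CommRing A'] [IsLocalRing A'] [Algebra A A'] [IsLocalHom (algebraMap A A')]
    (hA' : EGA4loc.IsEssentiallyEtale A A')
    (B : Type*) [CommRing B] [HenselianLocalRing B]
    (ψ : A →+* B) [IsLocalHom ψ]
    (α : ResidueField A' →+* ResidueField B)
    (hα : α.comp (ResidueField.map (algebraMap A A')) = ResidueField.map ψ) :
    ∃! ψ' : A' →+* B, IsLocalHom ψ' ∧ ψ'.comp (algebraMap A A') = ψ ∧
      ∀ x : A', residue B (ψ' x) = α (residue A' x) := by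
  obtain ⟨C, _, _, q, _, hEt, hq, ⟨e⟩⟩ := hA'
  letI := ψ.toAlgebra
  have hψ : algebraMap A B = ψ := rfl
  set L := Localization.AtPrime q with hL
  -- the ring hom `e.symm`
  let es : L →+* A' := (e.symm : L ≃+* A')
  have hes : ∀ x, es x = e.symm x := fun _ => rfl
  haveI hloc : IsLocalHom es := ⟨fun a ha => by
    have : IsUnit (e (es a)) := ha.map e
    simpa [hes] using this⟩
  let eκ : q.ResidueField →+* ResidueField A' := ResidueField.map es
  have heκ : ∀ x : L, eκ (residue L x) = residue A' (e.symm x) := fun x =>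
    ResidueField.map_residue es x
  let τ' : q.ResidueField →+* ResidueField B := α.comp eκ
  have hτ' : ∀ x : L, τ' (residue L x) = α (residue A' (e.symm x)) := fun x => by
    simp only [τ', RingHom.comp_apply, heκ]
  have hαa : ∀ a : A, α (residue A' (algebraMap A A' a)) = residue B (ψ a) := fun a => by
    have := congrArg (fun f => f (residue A a)) hα
    simpa [ResidueField.map_residue] using this
  have hcomm : ∀ a : A, τ' (algebraMap A q.ResidueField a) = algebraMap A (ResidueField B) a := by
    intro a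
    have h1 : algebraMap A q.ResidueField a = residue L (algebraMap A L a) := rfl
    rw [h1, hτ', e.symm.commutes, hαa]
    rfl
  let τ : q.ResidueField →ₐ[A] ResidueField B := { τ' with commutes' := hcomm }
  have hτ : ∀ x, τ x = τ' x := fun _ => rfl
  obtain ⟨f, hf, hfuniq⟩ := existsUnique_algHom_of_etale (R := A) (S := B) q τ
  have hcomap := comap_eq_of_residue q τ.toRingHom f hf
  have hunit : ∀ y : q.primeCompl, IsUnit (f.toRingHom y) := by
    intro y
    by_contra hy
    have : (y : C) ∈ Ideal.comap f.toRingHom (maximalIdeal B) := hy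
    rw [hcomap] at this
    exact y.2 this
  let g : L →+* B := IsLocalization.lift (M := q.primeCompl) (S := L) hunit
  have hg : ∀ c : C, g (algebraMap C L c) = f c := fun c => IsLocalization.lift_eq hunit c
  -- residue compatibility for `g`
  have hgres : (residue B).comp g = τ'.comp (residue L) := by
    apply IsLocalization.ringHom_ext q.primeCompl
    ext c
    simp only [RingHom.comp_apply, hg]
    rw [hf c]
    rfl
  refine ⟨g.comp (e : A' ≃+* L), ⟨?_, ?_, ?_⟩, ?_⟩
  · -- local
    constructor
    intro a ha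
    have ha' : IsUnit (g (e a)) := ha
    suffices IsUnit (e a) by
      have := this.map e.symm
      simpa using this
    obtain ⟨c, s, hcs⟩ := IsLocalization.exists_mk'_eq q.primeCompl (e a)
    rw [← hcs] at ha' ⊢
    have h1 : g (IsLocalization.mk' L c s) * f s = f c := by
      rw [← hg, ← hg, ← map_mul, IsLocalization.mk'_spec]
    have h2 : IsUnit (f c) := by
      rw [← h1]
      exact ha'.mul (hunit s)
    have h3 : c ∈ q.primeCompl := by
      intro hc
      rw [← hcomap] at hc
      exact hc h2
    exact (IsLocalization.AtPrime.isUnit_mk'_iff L q c s).mpr h3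
  · ext a
    simp only [RingHom.comp_apply]
    have : (e : A' ≃+* L) (algebraMap A A' a) = algebraMap C L (algebraMap A C a) := by
      rw [← IsScalarTower.algebraMap_apply]
      exact e.commutes a
    rw [RingHom.coe_coe, this, hg, f.commutes]
    rfl
  · intro x
    have := congrArg (fun h => h (e x)) hgres
    simp only [RingHom.comp_apply] at this
    rw [hτ'] at this
    simpa using this
  · rintro ψ'' ⟨-, h1, h2⟩
    -- the induced algebra map `C → B`
    let f'' : C →ₐ[A] B :=
      { (ψ''.comp es).comp (algebraMap C L) with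
        commutes' := fun a => by
          simp only [RingHom.toMonoidHom_eq_coe, OneHom.toFun_eq_coe, MonoidHom.toOneHom_coe,
            MonoidHom.coe_coe, RingHom.comp_apply]
          rw [← IsScalarTower.algebraMap_apply, hes, e.symm.commutes]
          exact congrArg (fun h => h a) h1 }
    have hf'' : ∀ c, f'' c = ψ'' (e.symm (algebraMap C L c)) := fun _ => rfl
    have : f'' = f := by
      apply hfuniq
      intro c
      rw [hf'', h2, hτ, ← hτ']
      rfl
    have h3 : ψ''.comp es = g := by
      apply IsLocalization.ringHom_ext q.primeCompl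
      ext c
      simp only [RingHom.comp_apply, hg, ← this, hf'', hes]
    ext x
    simp only [RingHom.comp_apply, ← h3, hes]
    simp

/-- An essentially étale local algebra is essentially of finite type. -/
theorem essFiniteType_of_isEssentiallyEtale (A A' : Type u) [CommRing A] [IsLocalRing A]
    [CommRing A'] [Algebra A A'] (hA' : EGA4loc.IsEssentiallyEtale A A') :
    Algebra.EssFiniteType A A' := by
  obtain ⟨C, _, _, q, _, hEt, hq, ⟨e⟩⟩ := hA'
  have : Algebra.EssFiniteType C (Localization.AtPrime q) :=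
    Algebra.EssFiniteType.of_isLocalization _ q.primeCompl
  have : Algebra.EssFiniteType A (Localization.AtPrime q) :=
    Algebra.EssFiniteType.comp A C _
  exact Algebra.EssFiniteType.of_surjective e.symm.toAlgHom e.symm.surjective

/-- An essentially étale local algebra is formally étale. -/
theorem formallyEtale_of_isEssentiallyEtale (A A' : Type u) [CommRing A] [IsLocalRing A]
    [CommRing A'] [Algebra A A'] (hA' : EGA4loc.IsEssentiallyEtale A A') :
    Algebra.FormallyEtale A A' := by
  obtain ⟨C, _, _, q, _, hEt, hq, ⟨e⟩⟩ := hA'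
  have : Algebra.FormallyEtale C (Localization.AtPrime q) :=
    Algebra.FormallyEtale.of_isLocalization q.primeCompl
  have : Algebra.FormallyEtale A (Localization.AtPrime q) :=
    Algebra.FormallyEtale.comp A C _
  exact Algebra.FormallyEtale.of_equiv e.symm

/-- Two algebra maps out of an essentially étale local algebra into a local ring which agree
modulo the maximal ideal are equal. -/
theorem algHom_ext_of_residue (A A₁ A₂ : Type u) [CommRing A] [IsLocalRing A]
    [CommRing A₁] [Algebra A A₁] [CommRing A₂] [IsLocalRing A₂] [Algebra A A₂]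
    (h₁ : EGA4loc.IsEssentiallyEtale A A₁) (ψ ψ' : A₁ →ₐ[A] A₂)
    (h : ∀ x : A₁, residue A₂ (ψ x) = residue A₂ (ψ' x)) : ψ = ψ' := by
  have := essFiniteType_of_isEssentiallyEtale A A₁ h₁
  have := formallyEtale_of_isEssentiallyEtale A A₁ h₁
  exact algHom_eq_of_residue_eq ψ ψ' h

/-- The maximal ideal of an essentially étale local algebra (with local structure map) is
generated by the maximal ideal of the base. -/
theorem map_maximalIdeal (A A' : Type u) [CommRing A] [IsLocalRing A]
    [CommRing A'] [IsLocalRing A'] [Algebra A A'] [IsLocalHom (algebraMap A A')]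
    (hA' : EGA4loc.IsEssentiallyEtale A A') :
    (maximalIdeal A).map (algebraMap A A') = maximalIdeal A' := by
  have := essFiniteType_of_isEssentiallyEtale A A' hA'
  have := formallyEtale_of_isEssentiallyEtale A A' hA'
  exact Algebra.FormallyUnramified.map_maximalIdeal

/-- Any algebra map between local algebras (with local structure maps), the source being
essentially étale, is local. -/
theorem map_mem_maximalIdeal (A A₁ A₂ : Type u) [CommRing A] [IsLocalRing A]
    [CommRing A₁] [IsLocalRing A₁] [Algebra A A₁] [IsLocalHom (algebraMap A A₁)]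
    [CommRing A₂] [IsLocalRing A₂] [Algebra A A₂] [IsLocalHom (algebraMap A A₂)]
    (h₁ : EGA4loc.IsEssentiallyEtale A A₁) (ψ : A₁ →ₐ[A] A₂) {x : A₁}
    (hx : x ∈ maximalIdeal A₁) : ψ x ∈ maximalIdeal A₂ := by
  rw [← map_maximalIdeal A A₁ h₁] at hx
  have hle : (maximalIdeal A).map (algebraMap A A₁) ≤ (maximalIdeal A₂).comap ψ.toRingHom := by
    rw [Ideal.map_le_iff_le_comap, Ideal.comap_comap]
    have : ψ.toRingHom.comp (algebraMap A A₁) = algebraMap A A₂ := ψ.comp_algebraMap
    rw [this]
    exact ((local_hom_TFAE (algebraMap A A₂)).out 0 3 rfl rfl).mp ‹_›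
  exact hle hx

theorem subsingleton_algHom (A A₁ A₂ : Type u) [CommRing A] [IsLocalRing A]
    [CommRing A₁] [IsLocalRing A₁] [Algebra A A₁] [IsLocalHom (algebraMap A A₁)]
    [CommRing A₂] [IsLocalRing A₂] [Algebra A A₂] [IsLocalHom (algebraMap A A₂)]
    (h₁ : EGA4loc.IsStrictlyEssentiallyEtale A A₁) :
    Subsingleton (A₁ →ₐ[A] A₂) := by
  constructor
  intro ψ ψ'
  apply algHom_ext_of_residue A A₁ A₂ h₁.1
  have key : ∀ (φ : A₁ →ₐ[A] A₂) (x : A₁) (a : A),
      residue A₁ x = residue A₁ (algebraMap A A₁ a) →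
      residue A₂ (φ x) = residue A₂ (algebraMap A A₂ a) := by
    intro φ x a hxa
    have hmem : x - algebraMap A A₁ a ∈ maximalIdeal A₁ := by
      rw [← residue_eq_zero_iff, map_sub, hxa, sub_self]
    have := map_mem_maximalIdeal A A₁ A₂ h₁.1 φ hmem
    rw [← residue_eq_zero_iff, map_sub, map_sub, φ.commutes, sub_eq_zero] at this
    exact this
  intro x
  obtain ⟨y, hy⟩ := h₁.2.2 (residue A₁ x)
  obtain ⟨a, rfl⟩ := residue_surjective y
  rw [ResidueField.map_residue] at hy
  rw [key ψ x a hy.symm, key ψ' x a hy.symm]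

/-- For a strictly essentially étale algebra presented as `C_q`, the map `A → κ(q)` is
surjective. -/
theorem algebraMap_residueField_surjective (A A' : Type u) [CommRing A] [IsLocalRing A]
    [CommRing A'] [IsLocalRing A'] [Algebra A A'] [IsLocalHom (algebraMap A A')]
    (hbij : Function.Bijective (ResidueField.map (algebraMap A A')))
    (C : Type u) [CommRing C] [Algebra A C] (q : Ideal C) [q.IsPrime]
    (e : A' ≃ₐ[A] Localization.AtPrime q) :
    Function.Surjective (algebraMap A q.ResidueField) := by
  intro z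
  obtain ⟨x, rfl⟩ := residue_surjective (R := Localization.AtPrime q) z
  obtain ⟨y, hy⟩ := hbij.2 (residue A' (e.symm x))
  obtain ⟨a, rfl⟩ := residue_surjective y
  rw [ResidueField.map_residue] at hy
  refine ⟨a, ?_⟩
  have h1 : algebraMap A A' a - e.symm x ∈ maximalIdeal A' := by
    rw [← residue_eq_zero_iff, map_sub, hy, sub_self]
  have h2 : algebraMap A (Localization.AtPrime q) a - x ∈ maximalIdeal (Localization.AtPrime q) := by
    by_contra hcon
    have hu : IsUnit (algebraMap A (Localization.AtPrime q) a - x) := by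
      simpa [mem_maximalIdeal, mem_nonunits_iff] using hcon
    have hu' := hu.map e.symm
    rw [map_sub, e.symm.commutes] at hu'
    exact h1 hu'
  have h3 : residue (Localization.AtPrime q) (algebraMap A (Localization.AtPrime q) a - x) = 0 :=
    (residue_eq_zero_iff _).mpr h2
  rw [map_sub, sub_eq_zero] at h3
  exact h3

/-- An `A`-algebra map `C → κ(A)` with kernel `q`, when `A → κ(q)` is surjective. -/
theorem exists_algHom_residueField (A : Type u) [CommRing A] [IsLocalRing A]
    (C : Type u) [CommRing C] [Algebra A C] (q : Ideal C) [q.IsPrime]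
    (hq : q.comap (algebraMap A C) = maximalIdeal A)
    (hsurj : Function.Surjective (algebraMap A q.ResidueField)) :
    ∃ χ : C →ₐ[A] ResidueField A, RingHom.ker χ = q := by
  let f : A →ₐ[A] q.ResidueField := Algebra.ofId A q.ResidueField
  have hf : Function.Surjective f := hsurj
  have hker : maximalIdeal A = RingHom.ker f := by
    ext a
    rw [RingHom.mem_ker, ← hq, Ideal.mem_comap, ← Ideal.algebraMap_residueField_eq_zero (I := q),
      ← IsScalarTower.algebraMap_apply]
    rfl
  let E : ResidueField A ≃ₐ[A] q.ResidueField :=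
    (Ideal.quotientEquivAlgOfEq A hker).trans (Ideal.quotientKerAlgEquivOfSurjective hf)
  refine ⟨E.symm.toAlgHom.comp (IsScalarTower.toAlgHom A C q.ResidueField), ?_⟩
  ext c
  rw [RingHom.mem_ker, ← Ideal.algebraMap_residueField_eq_zero (I := q)]
  simp

/-- Construction of the "compositum" of two strictly essentially étale presentations. -/
theorem exists_prime_tensor (A : Type u) [CommRing A] [IsLocalRing A]
    (C₁ : Type u) [CommRing C₁] [Algebra A C₁] (q₁ : Ideal C₁) [q₁.IsPrime]
    (hq₁ : q₁.comap (algebraMap A C₁) = maximalIdeal A)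
    (hs₁ : Function.Surjective (algebraMap A q₁.ResidueField))
    (C₂ : Type u) [CommRing C₂] [Algebra A C₂] (q₂ : Ideal C₂) [q₂.IsPrime]
    (hq₂ : q₂.comap (algebraMap A C₂) = maximalIdeal A)
    (hs₂ : Function.Surjective (algebraMap A q₂.ResidueField)) :
    ∃ (q₃ : Ideal (C₁ ⊗[A] C₂)) (_ : q₃.IsPrime),
      q₃.comap (Algebra.TensorProduct.includeLeft : C₁ →ₐ[A] C₁ ⊗[A] C₂).toRingHom = q₁ ∧
      q₃.comap (Algebra.TensorProduct.includeRight : C₂ →ₐ[A] C₁ ⊗[A] C₂).toRingHom = q₂ ∧
      q₃.comap (algebraMap A (C₁ ⊗[A] C₂)) = maximalIdeal A ∧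
      Function.Surjective (algebraMap A q₃.ResidueField) := by
  obtain ⟨χ₁, h₁⟩ := exists_algHom_residueField A C₁ q₁ hq₁ hs₁
  obtain ⟨χ₂, h₂⟩ := exists_algHom_residueField A C₂ q₂ hq₂ hs₂
  let χ : C₁ ⊗[A] C₂ →ₐ[A] ResidueField A := Algebra.TensorProduct.productMap χ₁ χ₂
  have hχsurj : Function.Surjective χ := by
    intro z
    obtain ⟨a, rfl⟩ := residue_surjective z
    exact ⟨algebraMap A _ a, by rw [χ.commutes]; rfl⟩
  have hmax : (RingHom.ker χ).IsMaximal := RingHom.ker_isMaximal_of_surjective χ hχsurj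
  refine ⟨RingHom.ker χ, hmax.isPrime, ?_, ?_, ?_, ?_⟩
  · rw [← h₁]
    ext c
    simp only [Ideal.mem_comap, RingHom.mem_ker]
    have := congrArg (fun f => f c) (Algebra.TensorProduct.productMap_left χ₁ χ₂)
    simp only [AlgHom.comp_apply] at this
    rw [← this]
    rfl
  · rw [← h₂]
    ext c
    simp only [Ideal.mem_comap, RingHom.mem_ker]
    have := congrArg (fun f => f c) (Algebra.TensorProduct.productMap_right χ₁ χ₂)
    simp only [AlgHom.comp_apply] at this
    rw [← this]
    rfl
  · ext a
    simp only [Ideal.mem_comap, RingHom.mem_ker]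
    rw [χ.commutes, ← residue_eq_zero_iff]
    rfl
  · intro z
    obtain ⟨y, rfl⟩ := (Ideal.bijective_algebraMap_quotient_residueField (RingHom.ker χ)).2 z
    obtain ⟨d, rfl⟩ := Ideal.Quotient.mk_surjective y
    obtain ⟨a, ha⟩ := residue_surjective (χ d)
    refine ⟨a, ?_⟩
    have hmem : algebraMap A (C₁ ⊗[A] C₂) a - d ∈ RingHom.ker χ := by
      rw [RingHom.mem_ker, map_sub, χ.commutes, ← ha, sub_eq_zero]
      rfl
    rw [← Ideal.algebraMap_residueField_eq_zero, map_sub, sub_eq_zero] at hmem
    rw [IsScalarTower.algebraMap_apply A (C₁ ⊗[A] C₂) (RingHom.ker χ).ResidueField, hmem]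
    rfl

set_option maxHeartbeats 1000000 in
theorem exists_common (A A₁ A₂ : Type u) [CommRing A] [IsLocalRing A]
    [CommRing A₁] [IsLocalRing A₁] [Algebra A A₁] [IsLocalHom (algebraMap A A₁)]
    [CommRing A₂] [IsLocalRing A₂] [Algebra A A₂] [IsLocalHom (algebraMap A A₂)]
    (h₁ : EGA4loc.IsStrictlyEssentiallyEtale A A₁) (h₂ : EGA4loc.IsStrictlyEssentiallyEtale A A₂) :
    ∃ (A₃ : Type u) (_ : CommRing A₃) (_ : IsLocalRing A₃) (_ : Algebra A A₃)
      (_ : IsLocalHom (algebraMap A A₃)),
      EGA4loc.IsStrictlyEssentiallyEtale A A₃ ∧ Nonempty (A₁ →ₐ[A] A₃) ∧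
        Nonempty (A₂ →ₐ[A] A₃) := by
  obtain ⟨⟨C₁, _, _, q₁, _, hEt₁, hq₁, ⟨e₁⟩⟩, hb₁⟩ := h₁
  obtain ⟨⟨C₂, _, _, q₂, _, hEt₂, hq₂, ⟨e₂⟩⟩, hb₂⟩ := h₂
  have hs₁ := algebraMap_residueField_surjective A A₁ hb₁ C₁ q₁ e₁
  have hs₂ := algebraMap_residueField_surjective A A₂ hb₂ C₂ q₂ e₂
  obtain ⟨q₃, hp, hl, hr, hA, hs₃⟩ := exists_prime_tensor A C₁ q₁ hq₁ hs₁ C₂ q₂ hq₂ hs₂
  have hEt : Algebra.Etale A (C₁ ⊗[A] C₂) := Algebra.Etale.comp A C₁ _
  have hloc : IsLocalHom (algebraMap A (Localization.AtPrime q₃)) := by
    constructor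
    intro a ha
    rw [IsScalarTower.algebraMap_apply A (C₁ ⊗[A] C₂) (Localization.AtPrime q₃),
      IsLocalization.AtPrime.isUnit_to_map_iff (Localization.AtPrime q₃) q₃] at ha
    by_contra hna
    have : a ∈ maximalIdeal A := hna
    rw [← hA] at this
    exact ha this
  refine ⟨Localization.AtPrime q₃, inferInstance, inferInstance, inferInstance, hloc,
    ⟨⟨C₁ ⊗[A] C₂, inferInstance, inferInstance, q₃, hp, hEt, hA, ⟨AlgEquiv.refl⟩⟩, ?_⟩, ?_, ?_⟩
  · refine ⟨RingHom.injective _, ?_⟩
    intro z
    obtain ⟨a, rfl⟩ := hs₃ z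
    refine ⟨residue A a, ?_⟩
    rw [ResidueField.map_residue]
    rfl
  · have hunits : ∀ y : q₁.primeCompl,
        IsUnit (((IsScalarTower.toAlgHom A (C₁ ⊗[A] C₂) (Localization.AtPrime q₃)).comp
          (Algebra.TensorProduct.includeLeft : C₁ →ₐ[A] C₁ ⊗[A] C₂)) y) := by
      intro y
      simp only [AlgHom.comp_apply, IsScalarTower.coe_toAlgHom']
      rw [IsLocalization.AtPrime.isUnit_to_map_iff (Localization.AtPrime q₃) q₃]
      intro hy
      have hy' : (y : C₁) ∈ Ideal.comap (Algebra.TensorProduct.includeLeft :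
          C₁ →ₐ[A] C₁ ⊗[A] C₂).toRingHom q₃ := hy
      rw [hl] at hy'
      exact y.2 hy'
    exact ⟨(IsLocalization.liftAlgHom (M := q₁.primeCompl) (S := Localization.AtPrime q₁)
      hunits).comp e₁.toAlgHom⟩
  · have hunits : ∀ y : q₂.primeCompl,
        IsUnit (((IsScalarTower.toAlgHom A (C₁ ⊗[A] C₂) (Localization.AtPrime q₃)).comp
          (Algebra.TensorProduct.includeRight : C₂ →ₐ[A] C₁ ⊗[A] C₂)) y) := by
      intro y
      simp only [AlgHom.comp_apply, IsScalarTower.coe_toAlgHom']
      rw [IsLocalization.AtPrime.isUnit_to_map_iff (Localization.AtPrime q₃) q₃]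
      intro hy
      have hy' : (y : C₂) ∈ Ideal.comap (Algebra.TensorProduct.includeRight :
          C₂ →ₐ[A] C₁ ⊗[A] C₂).toRingHom q₃ := hy
      rw [hr] at hy'
      exact y.2 hy'
    exact ⟨(IsLocalization.liftAlgHom (M := q₂.primeCompl) (S := Localization.AtPrime q₂)
      hunits).comp e₂.toAlgHom⟩

end Groth.Agent.Lib.Helper3.EssEt
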