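import Mathlib

/-! A flat, essentially finite type, formally unramified algebra over a reduced Noetherian ring is reduced. -/

namespace Groth.Agent.Lib.LeadEtaleReduced

open TensorProduct

variable (R S : Type*) [CommRing R] [CommRing S] [Algebra R S]

theorem isReduced_of_flat_of_formallyUnramified [IsNoetherianRing R] [IsReduced R] [Module.Flat R S]
    [Algebra.EssFiniteType R S] [Algebra.FormallyUnramified R S] : IsReduced S := by
  classical
  let ι := {p : Ideal R // p ∈ minimalPrimes R}
  haveI : Finite ι := (minimalPrimes.finite_of_isNoetherianRing R).to_subtype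
  haveI : Fintype ι := Fintype.ofFinite ι
  haveI hprime : ∀ p : ι, p.1.IsPrime := fun p => Ideal.minimalPrimes_isPrime p.2
  let K : ι → Type _ := fun p => FractionRing (R ⧸ p.1)
  letI : ∀ p : ι, Field (K p) := fun p => inferInstanceAs (Field (FractionRing (R ⧸ p.1)))
  letI : ∀ p : ι, Algebra R (K p) := fun p => inferInstanceAs (Algebra R (FractionRing (R ⧸ p.1)))
  have hinj : Function.Injective (algebraMap R (∀ p : ι, K p)) := by
    rw [injective_iff_map_eq_zero]
    intro r hr
    have hmem : ∀ p : ι, r ∈ p.1 := by
      intro p
      have h1 : algebraMap R (K p) r = 0 := congrFun hr p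
      have h2 : algebraMap R (K p) r = algebraMap (R ⧸ p.1) (K p) (Ideal.Quotient.mk p.1 r) :=
        IsScalarTower.algebraMap_apply R (R ⧸ p.1) (FractionRing (R ⧸ p.1)) r
      rw [h2] at h1
      have h3 := (IsFractionRing.injective (R ⧸ p.1) (FractionRing (R ⧸ p.1)))
        (h1.trans (map_zero _).symm)
      exact Ideal.Quotient.eq_zero_iff_mem.mp h3
    have : r ∈ nilradical R := by
      rw [nilradical, ← Ideal.sInf_minimalPrimes, Ideal.mem_sInf]
      intro p hp
      exact hmem ⟨p, hp⟩
    rw [nilradical_eq_zero R] at this
    exact this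
  have hinc : Function.Injective (Algebra.TensorProduct.includeLeft : S →ₐ[R] S ⊗[R] (∀ p : ι, K p)) :=
    Algebra.TensorProduct.includeLeft_injective (S := R) hinj
  haveI : ∀ p : ι, IsReduced (S ⊗[R] K p) := by
    intro p
    haveI : IsReduced (K p ⊗[R] S) := Algebra.FormallyUnramified.isReduced_of_field (K p) (K p ⊗[R] S)
    exact isReduced_of_injective (Algebra.TensorProduct.comm R S (K p)).toRingEquiv
      (Algebra.TensorProduct.comm R S (K p)).injective
  haveI : IsReduced (S ⊗[R] (∀ p : ι, K p)) :=
    isReduced_of_injective (Algebra.TensorProduct.piRight R R S K).toRingEquiv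
      (Algebra.TensorProduct.piRight R R S K).injective
  exact isReduced_of_injective _ hinc

end Groth.Agent.Lib.LeadEtaleReduced
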