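import Mathlib
import Groth.Agent.Lib.LeadEtaleReduced

/-!
# Étale algebras over reduced rings are reduced (no Noetherian hypothesis) (helper3)
-/

namespace Groth.Agent.Lib.Helper3.EtRed

open TensorProduct

universe u

set_option maxHeartbeats 1000000 in
/-- An étale algebra over a reduced ring is reduced (Stacks 033B for étale maps), by descent to
a finitely generated `ℤ`-subalgebra. -/
theorem isReduced_of_etale (A B : Type u) [CommRing A] [CommRing B] [Algebra A B] [IsReduced A]
    [Algebra.Etale A B] : IsReduced B := by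
  classical
  obtain ⟨A₀, B₀, _, _, hfg, hEt, ⟨e⟩⟩ := Algebra.Etale.exists_subalgebra_fg ℤ A B
  suffices h : IsReduced (A ⊗[A₀] B₀) from isReduced_of_injective e.toRingEquiv e.injective
  constructor
  intro x hx
  obtain ⟨n, hn⟩ := hx
  obtain ⟨s, rfl⟩ := TensorProduct.exists_finset x
  let A' : Subalgebra ℤ A := A₀ ⊔ Algebra.adjoin ℤ ((s.image Prod.fst : Finset A) : Set A)
  have hle : A₀ ≤ A' := le_sup_left
  have hmem : ∀ p ∈ s, p.1 ∈ A' := by
    intro p hp
    apply (le_sup_right : Algebra.adjoin ℤ _ ≤ A')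
    apply Algebra.subset_adjoin
    exact Finset.mem_coe.mpr (Finset.mem_image_of_mem _ hp)
  have hfg' : A'.FG := hfg.sup (Subalgebra.fg_adjoin_finset _)
  letI : Algebra A₀ A' := (Subalgebra.inclusion hle).toRingHom.toAlgebra
  haveI : IsScalarTower A₀ A' A := IsScalarTower.of_algebraMap_eq (fun x => rfl)
  haveI : Algebra.FiniteType ℤ A' := (Subalgebra.fg_iff_finiteType A').mp hfg'
  haveI : IsNoetherianRing A' := Algebra.FiniteType.isNoetherianRing ℤ A'
  haveI : IsReduced A' := isReduced_of_injective A'.val Subtype.val_injective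
  haveI : IsReduced (A' ⊗[A₀] B₀) :=
    Groth.Agent.Lib.LeadEtaleReduced.isReduced_of_flat_of_formallyUnramified A' (A' ⊗[A₀] B₀)
  let f : A' →ₗ[A₀] A := (IsScalarTower.toAlgHom A₀ A' A).toLinearMap
  have hf : Function.Injective f := Subtype.val_injective
  have hinj : Function.Injective (f.rTensor B₀) :=
    Module.Flat.rTensor_preserves_injective_linearMap f hf
  let φ : A' ⊗[A₀] B₀ →ₐ[A₀] A ⊗[A₀] B₀ :=
    Algebra.TensorProduct.map (IsScalarTower.toAlgHom A₀ A' A) (AlgHom.id A₀ B₀)
  have hφ : ∀ y, φ y = f.rTensor B₀ y := by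
    intro y
    induction y using TensorProduct.induction_on with
    | zero => simp
    | tmul a b => rfl
    | add y z hy hz => rw [map_add, map_add, hy, hz]
  let x' : A' ⊗[A₀] B₀ := ∑ p ∈ s.attach, (⟨p.1.1, hmem p.1 p.2⟩ : A') ⊗ₜ[A₀] p.1.2
  have hx' : φ x' = ∑ p ∈ s, p.1 ⊗ₜ[A₀] p.2 := by
    rw [map_sum, ← Finset.sum_attach s]
    exact Finset.sum_congr rfl (fun p _ => rfl)
  have h0 : x' ^ n = 0 := by
    apply hinj
    rw [← hφ, map_pow, hx', hn, map_zero]
  have h1 : x' = 0 := IsReduced.eq_zero _ ⟨n, h0⟩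
  rw [← hx', h1, map_zero]

end Groth.Agent.Lib.Helper3.EtRed
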