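import Mathlib
import Groth.Agent.Lib.Helper3EtRed
import Groth.Agent.Lib.Helper3EssEt

/-!
# Local rings of étale algebras over a normal domain are normal domains (helper3)
-/

namespace Groth.Agent.Lib.Helper3.EtNormal

open TensorProduct IsLocalRing

universe u

/-- An Artinian reduced ring with only trivial idempotents is a field (if nontrivial). -/
theorem isField_of_isArtinianRing_of_isReduced {T : Type*} [CommRing T] [Nontrivial T]
    [IsArtinianRing T] [IsReduced T] (hid : ∀ e : T, IsIdempotentElem e → e = 0 ∨ e = 1) :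
    IsField T := by
  refine ⟨exists_pair_ne T, mul_comm, fun {x} hx => ?_⟩
  obtain ⟨n, r, hr⟩ := IsArtinian.exists_pow_succ_smul_dvd x (1 : T)
  simp only [smul_eq_mul, mul_one, Nat.succ_eq_add_one] at hr
  -- hr : x ^ (n+1) * r = x ^ n
  have h1 : x ^ n * (1 - x * r) = 0 := by
    rw [mul_sub, mul_one, ← mul_assoc, ← pow_succ, hr, sub_self]
  have h2 : x * (1 - x * r) = 0 := by
    apply IsReduced.eq_zero
    refine ⟨n + 1, ?_⟩
    rw [mul_pow, pow_succ (1 - x * r), pow_succ x]
    calc x ^ n * x * ((1 - x * r) ^ n * (1 - x * r))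
        = (x ^ n * (1 - x * r)) * (x * (1 - x * r) ^ n) := by ring
      _ = 0 := by rw [h1, zero_mul]
  have hxe : x = x * (x * r) := by
    have : x * (1 - x * r) = x - x * (x * r) := by ring
    rw [this, sub_eq_zero] at h2
    exact h2
  have hid' : IsIdempotentElem (x * r) := by
    unfold IsIdempotentElem
    calc x * r * (x * r) = (x * (x * r)) * r := by ring
      _ = x * r := by rw [← hxe]
  rcases hid _ hid' with h0 | h1'
  · exfalso
    apply hx
    rw [hxe, h0, mul_zero]
  · exact ⟨r, h1'⟩


section Main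

variable (R : Type u) [CommRing R] [IsDomain R] [IsIntegrallyClosed R]
  (C : Type u) [CommRing C] [Algebra R C] [Algebra.Etale R C] (Q : Ideal C) [Q.IsPrime]

local notation "Kf" => FractionRing R
local notation "Lq" => Localization.AtPrime Q

omit [IsDomain R] [IsIntegrallyClosed R] in
/-- integral closure commutes with the base change `R → C_Q`. -/
theorem toIntegralClosure_bijective :
    Function.Bijective (TensorProduct.toIntegralClosure R Lq Kf) := by
  have H : Function.Bijective (TensorProduct.toIntegralClosure R C Kf) :=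
    TensorProduct.toIntegralClosure_bijective_of_smooth
  have H' : Function.Bijective (TensorProduct.toIntegralClosure C Lq (C ⊗[R] Kf)) :=
    TensorProduct.toIntegralClosure_bijective_of_isLocalization Q.primeCompl
  exact TensorProduct.toIntegralClosure_bijective_of_tower H H'

omit [IsDomain R] in
/-- every element of `C_Q ⊗ K` integral over `C_Q` comes from `C_Q`. -/
theorem exists_tmul_one_eq (t : Lq ⊗[R] Kf) (ht : IsIntegral Lq t) : ∃ l : Lq, l ⊗ₜ[R] (1 : Kf) = t := by
  obtain ⟨w, hw⟩ := (toIntegralClosure_bijective R C Q).2 ⟨t, ht⟩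
  have key : ∀ w : Lq ⊗[R] integralClosure R Kf, ∃ l : Lq,
      l ⊗ₜ[R] (1 : Kf) = ((TensorProduct.toIntegralClosure R Lq Kf w : integralClosure Lq (Lq ⊗[R] Kf)) :
        Lq ⊗[R] Kf) := by
    intro w
    induction w using TensorProduct.induction_on with
    | zero => exact ⟨0, by simp⟩
    | tmul l k =>
      obtain ⟨k, hk⟩ := k
      have hk' : k ∈ (⊥ : Subalgebra R Kf) := by
        rw [← IsIntegrallyClosed.integralClosure_eq_bot (R := R) (K := Kf)]
        exact hk
      obtain ⟨r, rfl⟩ := Algebra.mem_bot.mp hk'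
      refine ⟨r • l, ?_⟩
      simp only [TensorProduct.toIntegralClosure, AlgHom.coe_codRestrict,
        Algebra.TensorProduct.map_tmul, AlgHom.coe_id, id_eq, Subalgebra.coe_val]
      rw [TensorProduct.smul_tmul, Algebra.smul_def, mul_one]
    | add x y hx hy =>
      obtain ⟨l1, h1⟩ := hx
      obtain ⟨l2, h2⟩ := hy
      refine ⟨l1 + l2, ?_⟩
      rw [TensorProduct.add_tmul, h1, h2, map_add]
      rfl
  obtain ⟨l, hl⟩ := key w
  exact ⟨l, by rw [hl, hw]⟩


omit [IsDomain R] [IsIntegrallyClosed R] in
theorem flat_Lq : Module.Flat R Lq := by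
  haveI : Module.Flat C Lq := IsLocalization.flat Lq Q.primeCompl
  exact Module.Flat.trans R C Lq

omit [IsIntegrallyClosed R] in
theorem includeLeft_injective :
    Function.Injective (fun l : Lq => l ⊗ₜ[R] (1 : Kf)) := by
  haveI := flat_Lq R C Q
  have := Algebra.TensorProduct.includeLeft_injective (R := R) (S := R) (A := Lq) (B := Kf)
    (IsFractionRing.injective R Kf)
  exact this

omit [IsIntegrallyClosed R] in
theorem isArtinianRing_tensor : IsArtinianRing (Lq ⊗[R] Kf) := by
  haveI : Module.Finite Kf (Kf ⊗[R] C) := Algebra.FormallyUnramified.finite_of_free Kf (Kf ⊗[R] C)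
  haveI : IsArtinianRing (Kf ⊗[R] C) := IsArtinianRing.of_finite Kf (Kf ⊗[R] C)
  haveI : IsArtinianRing (C ⊗[R] Kf) :=
    (Algebra.TensorProduct.comm R Kf C).surjective.isArtinianRing
  letI := (Algebra.TensorProduct.map (Algebra.ofId C Lq) (AlgHom.id R Kf)).toAlgebra
  haveI : IsLocalization (Algebra.algebraMapSubmonoid (C ⊗[R] Kf) Q.primeCompl) (Lq ⊗[R] Kf) := by
    refine IsLocalization.tensorProduct_tensorProduct _ _ Q.primeCompl _ ?_
    ext; simp [RingHom.algebraMap_toAlgebra]
  exact IsArtinianRing.localization_artinian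
    (Algebra.algebraMapSubmonoid (C ⊗[R] Kf) Q.primeCompl) (Lq ⊗[R] Kf)

end Main

section Main2


set_option maxHeartbeats 1000000 in
/-- **Local rings of étale algebras over a normal domain are normal domains.** -/
theorem isDomain_and_isIntegrallyClosed_localization (R : Type u) [CommRing R] [IsDomain R]
    [IsIntegrallyClosed R] (C : Type u) [CommRing C] [Algebra R C] [Algebra.Etale R C]
    (Q : Ideal C) [Q.IsPrime] :
    IsDomain (Localization.AtPrime Q) ∧ IsIntegrallyClosed (Localization.AtPrime Q) := by
  haveI : IsReduced C := EtRed.isReduced_of_etale R C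
  haveI : IsReduced (Localization.AtPrime Q) := inferInstance
  haveI := flat_Lq R C Q
  haveI := isArtinianRing_tensor R C Q
  have hinj := includeLeft_injective R C Q
  have hinj' : Function.Injective (algebraMap (Localization.AtPrime Q) ((Localization.AtPrime Q) ⊗[R] (FractionRing R))) := hinj
  haveI : Nontrivial ((Localization.AtPrime Q) ⊗[R] (FractionRing R)) :=
    ⟨⟨(0 : (Localization.AtPrime Q)) ⊗ₜ[R] (1 : (FractionRing R)), (1 : (Localization.AtPrime Q)) ⊗ₜ[R] (1 : (FractionRing R)), fun h => zero_ne_one (hinj h)⟩⟩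
  haveI : IsReduced ((Localization.AtPrime Q) ⊗[R] (FractionRing R)) :=
    isReduced_localizationPreserves (Algebra.algebraMapSubmonoid (Localization.AtPrime Q) (nonZeroDivisors R))
      ((Localization.AtPrime Q) ⊗[R] (FractionRing R)) inferInstance
  have hid : ∀ e : (Localization.AtPrime Q) ⊗[R] (FractionRing R), IsIdempotentElem e → e = 0 ∨ e = 1 := by
    intro e he
    have hint : IsIntegral (Localization.AtPrime Q) e := by
      refine ⟨Polynomial.X ^ 2 - Polynomial.X, Polynomial.monic_X_pow_sub (by simp), ?_⟩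
      simp [pow_two, he.eq]
    obtain ⟨l, rfl⟩ := exists_tmul_one_eq R C Q e hint
    have hl : IsIdempotentElem l := by
      apply hinj
      change (l * l) ⊗ₜ[R] (1 : (FractionRing R)) = l ⊗ₜ[R] (1 : (FractionRing R))
      have := he.eq
      rw [Algebra.TensorProduct.tmul_mul_tmul, mul_one] at this
      exact this
    rcases EssEt.eq_zero_or_one_of_isIdempotentElem hl with h | h
    · left; rw [h, TensorProduct.zero_tmul]
    · right; rw [h]; rfl
  have hF : IsField ((Localization.AtPrime Q) ⊗[R] (FractionRing R)) := isField_of_isArtinianRing_of_isReduced hid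
  letI := hF.toField
  have hdom : IsDomain (Localization.AtPrime Q) := Function.Injective.isDomain (algebraMap (Localization.AtPrime Q) ((Localization.AtPrime Q) ⊗[R] (FractionRing R))) hinj'
  haveI : FaithfulSMul (Localization.AtPrime Q) ((Localization.AtPrime Q) ⊗[R] (FractionRing R)) := (faithfulSMul_iff_algebraMap_injective _ _).mpr hinj'
  haveI : IsFractionRing (Localization.AtPrime Q) ((Localization.AtPrime Q) ⊗[R] (FractionRing R)) := by
    apply IsFractionRing.of_field
    intro z
    obtain ⟨⟨x, s⟩, hxs⟩ := IsLocalization.surj (Algebra.algebraMapSubmonoid (Localization.AtPrime Q) (nonZeroDivisors R)) z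
    refine ⟨x, s, ?_⟩
    have hne : algebraMap (Localization.AtPrime Q) ((Localization.AtPrime Q) ⊗[R] (FractionRing R)) s ≠ 0 :=
      (IsLocalization.map_units ((Localization.AtPrime Q) ⊗[R] (FractionRing R)) s).ne_zero
    rw [eq_div_iff hne]
    exact hxs
  refine ⟨hdom, (isIntegrallyClosed_iff ((Localization.AtPrime Q) ⊗[R] (FractionRing R))).mpr ?_⟩
  intro x hx
  obtain ⟨l, hl⟩ := exists_tmul_one_eq R C Q x hx
  exact ⟨l, hl⟩

end Main2

end Groth.Agent.Lib.Helper3.EtNormal
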