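/-
Helper library (helper4): schemes étale over a normal integral scheme are normal; connected finite
étale covers of a normal integral scheme are integral.
-/
import Groth.Agent.Lib.Helper3EtNormal
import Groth.Agent.Lib.Helper4NormIso
import Groth.Agent.Lib.Helper14IrrComp

set_option autoImplicit false
set_option linter.style.haveILetI false
universe u
open CategoryTheory CategoryTheory.Limits AlgebraicGeometry

namespace Groth.Agent.Lib.Helper4.EtNormalSch

open Groth.Agent.Lib.Helper14

/-- A scheme étale over a normal integral scheme is normal. -/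
theorem isNormalScheme_of_etale {T X : Scheme.{u}} [IsIntegral X] (hX : Pi1.IsNormalScheme X)
    (f : T ⟶ X) [Etale f] : Pi1.IsNormalScheme T := by
  intro t
  obtain ⟨_, ⟨V, hV, rfl⟩, htV, -⟩ := X.isBasis_affineOpens.exists_subset_of_mem_open
    (Set.mem_univ (f t)) isOpen_univ
  obtain ⟨_, ⟨U, hU, rfl⟩, htU, hUV⟩ := T.isBasis_affineOpens.exists_subset_of_mem_open
    (show t ∈ (f ⁻¹ᵁ V : Set T) from htV) (f ⁻¹ᵁ V).isOpen
  haveI : Nonempty V := ⟨⟨f t, htV⟩⟩
  haveI : IsDomain Γ(X, V) := IsIntegral.component_integral V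
  haveI : IsIntegrallyClosed Γ(X, V) :=
    Groth.Agent.Lib.Helper4.NormIso.isIntegrallyClosed_sections hX V hV
  have het : (f.appLE V U hUV).hom.Etale := Etale.etale_appLE f hV hU hUV
  letI := (f.appLE V U hUV).hom.toAlgebra
  haveI : Algebra.Etale Γ(X, V) Γ(T, U) := het
  letI := TopCat.Presheaf.algebra_section_stalk T.presheaf ⟨t, htU⟩
  haveI hloc := hU.isLocalization_stalk ⟨t, htU⟩
  haveI := (hU.primeIdealOf ⟨t, htU⟩).isPrime
  obtain ⟨hd, hic⟩ := Groth.Agent.Lib.Helper3.EtNormal.isDomain_and_isIntegrallyClosed_localization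
    Γ(X, V) Γ(T, U) (hU.primeIdealOf ⟨t, htU⟩).asIdeal
  let e : Localization.AtPrime (hU.primeIdealOf ⟨t, htU⟩).asIdeal ≃ₐ[Γ(T, U)] T.presheaf.stalk t :=
    IsLocalization.algEquiv (hU.primeIdealOf ⟨t, htU⟩).asIdeal.primeCompl _ _
  have hd' : IsDomain (T.presheaf.stalk t) := e.toRingEquiv.toMulEquiv.isDomain_iff.mp hd
  exact ⟨hd', IsIntegrallyClosed.of_equiv e.toRingEquiv⟩

/-- Through a point with domain local ring passes exactly one irreducible component. -/
theorem irreducibleComponents_eq_of_mem {T : Scheme.{u}} (t : T)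
    [IsDomain (T.presheaf.stalk t)] {Z₁ Z₂ : Set T}
    (h₁ : Z₁ ∈ irreducibleComponents T) (h₂ : Z₂ ∈ irreducibleComponents T)
    (ht₁ : t ∈ Z₁) (ht₂ : t ∈ Z₂) : Z₁ = Z₂ := by
  have hb := bijOn_irreducibleComponents_specStalk T t
  obtain ⟨z₁, hz₁, rfl⟩ := hb.surjOn ⟨h₁, ht₁⟩
  obtain ⟨z₂, hz₂, rfl⟩ := hb.surjOn ⟨h₂, ht₂⟩
  have key : ∀ z : Spec (T.presheaf.stalk t),
      closure ({z} : Set (Spec (T.presheaf.stalk t))) ∈
        irreducibleComponents (Spec (T.presheaf.stalk t) : Type u) →
      IsGenericPoint z (Set.univ : Set (Spec (T.presheaf.stalk t))) := by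
    intro z hz
    have hirr : IsIrreducible (Set.univ : Set (Spec (T.presheaf.stalk t))) :=
      (PrimeSpectrum.irreducibleSpace (R := T.presheaf.stalk t)).isIrreducible_univ
    exact (hz.2 hirr (Set.subset_univ _)).antisymm (Set.subset_univ _) |>.symm ▸ rfl
  have := (key z₁ hz₁).eq (key z₂ hz₂)
  rw [this]

/-- A connected scheme with domain local rings and finitely many irreducible components is
irreducible. -/
theorem irreducibleSpace_of_connected {T : Scheme.{u}} [ConnectedSpace T]
    (hdom : ∀ t : T, IsDomain (T.presheaf.stalk t))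
    (hfin : (irreducibleComponents T).Finite) : IrreducibleSpace T := by
  obtain ⟨t₀⟩ := (inferInstance : Nonempty T)
  set Z₀ := irreducibleComponent t₀ with hZ₀
  have hZ₀mem : Z₀ ∈ irreducibleComponents T := irreducibleComponent_mem_irreducibleComponents t₀
  have hcompl : Z₀ᶜ = ⋃ Z ∈ (irreducibleComponents T \ {Z₀}), Z := by
    ext t
    simp only [Set.mem_compl_iff, Set.mem_iUnion, Set.mem_sdiff, Set.mem_singleton_iff,
      exists_prop]
    constructor
    · intro ht
      refine ⟨irreducibleComponent t, ⟨irreducibleComponent_mem_irreducibleComponents t, ?_⟩,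
        mem_irreducibleComponent⟩
      intro h
      apply ht
      rw [← h]
      exact mem_irreducibleComponent
    · rintro ⟨Z, ⟨hZ, hne⟩, htZ⟩ ht
      haveI := hdom t
      exact hne (irreducibleComponents_eq_of_mem t hZ hZ₀mem htZ ht)
  have hclosed : IsClosed (Z₀ᶜ) := by
    rw [hcompl]
    exact (hfin.subset Set.sdiff_subset).isClosed_biUnion
      (fun Z hZ => isClosed_of_mem_irreducibleComponents Z hZ.1)
  have hclopen : IsClopen Z₀ := ⟨isClosed_irreducibleComponent, isClosed_compl_iff.mp hclosed⟩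
  have huniv : Z₀ = Set.univ := hclopen.eq_univ ⟨t₀, mem_irreducibleComponent⟩
  have hirr : IsIrreducible (Set.univ : Set T) := huniv ▸ isIrreducible_irreducibleComponent
  haveI : PreirreducibleSpace T := ⟨hirr.2⟩
  exact { toNonempty := ⟨t₀⟩ }

theorem finite_irreducibleComponents_of_finite_flat {T X : Scheme.{u}} [IrreducibleSpace X]
    (f : T ⟶ X) [IsFinite f] [Flat f] : (irreducibleComponents T).Finite := by
  have hS : (f ⁻¹' {genericPoint X}).Finite := Scheme.Hom.finite_preimage_singleton f _
  refine (hS.image (fun ξ => closure {ξ})).subset ?_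
  intro Z hZ
  obtain ⟨ξ, rfl⟩ := exists_closure_eq_of_mem_irreducibleComponents hZ
  refine ⟨ξ, ?_, rfl⟩
  have hgen : genericPoint X ⤳ f ξ := (genericPoint_spec X).specializes trivial
  obtain ⟨ξ', hξ', hfξ'⟩ := Flat.generalizingMap f hgen
  have := (closure_mem_irreducibleComponents_iff ξ).mp hZ ξ' hξ'
  rw [← this]
  exact hfξ'

/-- A connected scheme finite étale over a normal integral scheme is integral and normal. -/
theorem isIntegral_and_normal_of_finite_etale {T X : Scheme.{u}} [IsIntegral X]
    (hX : Pi1.IsNormalScheme X) (f : T ⟶ X) [IsFinite f] [Etale f] [ConnectedSpace T] :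
    IsIntegral T ∧ Pi1.IsNormalScheme T := by
  have hN := isNormalScheme_of_etale hX f
  haveI : IrreducibleSpace T := irreducibleSpace_of_connected (fun t => (hN t).1)
    (finite_irreducibleComponents_of_finite_flat f)
  haveI : ∀ t : T, _root_.IsReduced (T.presheaf.stalk t) := fun t => by
    haveI := (hN t).1
    infer_instance
  haveI : IsReduced T := isReduced_of_isReduced_stalk T
  exact ⟨isIntegral_of_irreducibleSpace_of_isReduced T, hN⟩

end Groth.Agent.Lib.Helper4.EtNormalSch
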