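import Mathlib
import Groth.Agent.Lib.Helper4EtNormalSch
import Groth.Agent.Lib.Helper6SmNorm

set_option autoImplicit false
universe u

namespace Groth.Agent.Lib.Helper11SmInt

open CategoryTheory AlgebraicGeometry

/-- a field is a normal ring -/
theorem isNormalRing_of_isField (A : Type u) [CommRing A] (hA : IsField A) : EGA4.IsNormalRing A := by
  intro p hp
  let _ := hA.toField
  have hle : p.primeCompl ≤ IsUnit.submonoid A := by
    intro x hx
    have : x ≠ 0 := fun h => hx (h ▸ p.zero_mem)
    exact isUnit_iff_ne_zero.mpr this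
  let e : A ≃ₐ[A] Localization.AtPrime p := IsLocalization.atUnits A p.primeCompl hle
  exact ⟨e.symm.toMulEquiv.isDomain _, IsIntegrallyClosed.of_equiv e.toRingEquiv⟩

/-- stalks of a smooth scheme over a field are domains -/
theorem isDomain_stalk_of_smooth (k : Type u) [Field k] {X : Scheme.{u}}
    (f : X ⟶ Spec (CommRingCat.of k)) [Smooth f] (x : X) :
    IsDomain (X.presheaf.stalk x) := by
  obtain ⟨_, ⟨U, hU, rfl⟩, hxU, -⟩ :=
    X.isBasis_affineOpens.exists_subset_of_mem_open (Set.mem_univ x) isOpen_univ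
  have hsm : (f.appLE ⊤ U le_top).hom.Smooth :=
    HasRingHomProperty.appLE (P := @Smooth) f inferInstance ⟨⊤, isAffineOpen_top _⟩ ⟨U, hU⟩ le_top
  algebraize [(f.appLE ⊤ U le_top).hom]
  have hA : IsField Γ(Spec (CommRingCat.of k), ⊤) :=
    (Scheme.ΓSpecIso (CommRingCat.of k)).commRingCatIsoToRingEquiv.toMulEquiv.isField
      (Field.toIsField k)
  have hN := Groth.Agent.Lib.Helper6.SmNorm.isNormalRing_of_smooth
    Γ(Spec (CommRingCat.of k), ⊤) Γ(X, U) (isNormalRing_of_isField _ hA)
  let _ := TopCat.Presheaf.algebra_section_stalk X.presheaf (⟨x, hxU⟩ : U)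
  have hloc := hU.isLocalization_stalk ⟨x, hxU⟩
  have hd := (hN (hU.primeIdealOf ⟨x, hxU⟩).asIdeal).1
  let e := IsLocalization.algEquiv (hU.primeIdealOf ⟨x, hxU⟩).asIdeal.primeCompl
    (X.presheaf.stalk x) (Localization.AtPrime (hU.primeIdealOf ⟨x, hxU⟩).asIdeal)
  exact e.toMulEquiv.isDomain _

/-- domain stalks descend along flat surjective morphisms -/
theorem isDomain_stalk_of_flat_surjective {X Y : Scheme.{u}} (q : X ⟶ Y) [Flat q] [Surjective q]
    (hX : ∀ x : X, IsDomain (X.presheaf.stalk x)) (y : Y) : IsDomain (Y.presheaf.stalk y) := by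
  obtain ⟨x, rfl⟩ := q.surjective y
  have hfl : (q.stalkMap x).hom.Flat := Flat.stalkMap q x
  have hloc : IsLocalHom (q.stalkMap x).hom := inferInstance
  algebraize [(q.stalkMap x).hom]
  have : Module.FaithfullyFlat (Y.presheaf.stalk (q x)) (X.presheaf.stalk x) :=
    Module.FaithfullyFlat.of_flat_of_isLocalHom
  have hinj : Function.Injective (q.stalkMap x).hom :=
    FaithfulSMul.algebraMap_injective (Y.presheaf.stalk (q x)) (X.presheaf.stalk x)
  have := hX x
  exact hinj.isDomain _

/-- a connected Noetherian scheme with domain stalks is integral -/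
theorem isIntegral_of_connected_of_isDomain_stalk {Y : Scheme.{u}} [IsNoetherian Y]
    [ConnectedSpace Y] (hY : ∀ y : Y, IsDomain (Y.presheaf.stalk y)) : IsIntegral Y := by
  have : IrreducibleSpace Y :=
    Groth.Agent.Lib.Helper4.EtNormalSch.irreducibleSpace_of_connected hY
      finite_irreducibleComponents_of_isNoetherian
  have : ∀ y : Y, _root_.IsReduced (Y.presheaf.stalk y) := fun y => by
    have := hY y
    infer_instance
  have : IsReduced Y := isReduced_of_isReduced_stalk Y
  exact isIntegral_of_irreducibleSpace_of_isReduced Y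

end Groth.Agent.Lib.Helper11SmInt
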