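import Mathlib
import Groth.Agent.Lib.Helper11RigidBaseG
import Groth.Agent.Lib.Helper11SmInt
import Groth.Agent.Lib.Helper11Rigidity
import Groth.Prelude.Def_Red

set_option autoImplicit false
universe u

namespace Groth.Agent.Lib.Helper11RigidBase

open CategoryTheory AlgebraicGeometry Limits TopologicalSpace Opposite IsLocalRing TensorProduct

/-- fibres of a smooth proper morphism with connected geometric fibres have `Γ = κ(s)` -/
theorem bijective_appTop_of_smooth_proper {S : Scheme.{u}} (X : Over S) [Smooth X.hom]
    [IsProper X.hom] (s : S) (hc : ConnectedSpace (Red.geomFibre s X).left) :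
    Function.Bijective (pullback.snd X.hom (S.fromSpecResidueField s)).appTop.hom := by
  let k : Type u := S.residueField s
  let K : Type u := AlgebraicClosure k
  let σ := S.fromSpecResidueField s
  let φ : CommRingCat.of k ⟶ CommRingCat.of K := CommRingCat.ofHom (algebraMap k K)
  let iX : pullback X.hom σ ⟶ Spec (CommRingCat.of k) := pullback.snd X.hom σ
  let iY : pullback X.hom (Spec.map φ ≫ σ) ⟶ Spec (CommRingCat.of K) :=
    pullback.snd X.hom (Spec.map φ ≫ σ)
  let g : pullback X.hom (Spec.map φ ≫ σ) ⟶ pullback X.hom σ :=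
    pullback.lift (pullback.fst _ _) (pullback.snd _ _ ≫ Spec.map φ) (by
      rw [Category.assoc, pullback.condition])
  have hg1 : g ≫ pullback.fst X.hom σ = pullback.fst _ _ := pullback.lift_fst _ _ _
  have hg2 : g ≫ iX = iY ≫ Spec.map φ := pullback.lift_snd _ _ _
  have H : IsPullback g iY iX (Spec.map φ) := by
    refine IsPullback.of_right ?_ hg2 (IsPullback.of_hasPullback X.hom σ)
    rw [hg1]
    exact IsPullback.of_hasPullback X.hom (Spec.map φ ≫ σ)
  have hconn : ConnectedSpace ↥(pullback X.hom (Spec.map φ ≫ σ)) := hc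
  have hsm : Smooth iY := inferInstance
  have hprop : IsProper iY := inferInstance
  have hLN : IsLocallyNoetherian (pullback X.hom (Spec.map φ ≫ σ)) :=
    LocallyOfFiniteType.isLocallyNoetherian iY
  have hcpt : CompactSpace ↥(pullback X.hom (Spec.map φ ≫ σ)) :=
    QuasiCompact.compactSpace_of_compactSpace iY
  have hN : IsNoetherian (pullback X.hom (Spec.map φ ≫ σ)) := { }
  have hint : IsIntegral (pullback X.hom (Spec.map φ ≫ σ)) :=
    Groth.Agent.Lib.Helper11SmInt.isIntegral_of_connected_of_isDomain_stalk
      (fun y => Groth.Agent.Lib.Helper11SmInt.isDomain_stalk_of_smooth K iY y)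
  have hY : Function.Bijective iY.appTop.hom :=
    Groth.Agent.Lib.Helper11Rigidity.appTop_bijective_of_isAlgClosed (K := K) iY
  have hcX : CompactSpace ↥(pullback X.hom σ) := QuasiCompact.compactSpace_of_compactSpace iX
  have hqX : QuasiSeparatedSpace ↥(pullback X.hom σ) := quasiSeparatedSpace_of_quasiSeparated iX
  exact bijective_appTop_of_bijective_baseChange iX iY g H hY

end Groth.Agent.Lib.Helper11RigidBase
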