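import Mathlib
import Groth.Agent.Lib.Helper11RigidBaseH
import Groth.Agent.Lib.Helper11RigidityB

set_option autoImplicit false
universe u

namespace Groth.Agent.Lib.Helper11RigidBase

open CategoryTheory MonoidalCategory CartesianMonoidalCategory MonObj GrpObj AlgebraicGeometry
open Limits

lemma exists_preimage_of_isPullback {P A B C : Scheme.{u}} {fst' : P ⟶ A} {snd' : P ⟶ B}
    {f' : A ⟶ C} {g' : B ⟶ C} (H : IsPullback fst' snd' f' g') (a : A) (b : B)
    (h : f'.base a = g'.base b) : ∃ z : P, fst'.base z = a ∧ snd'.base z = b := by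
  obtain ⟨w, hw1, hw2⟩ := Scheme.Pullback.exists_preimage_pullback a b h
  refine ⟨H.isoPullback.inv.base w, ?_, ?_⟩
  · have := congr($(H.isoPullback_inv_fst).base w)
    exact this.trans hw1
  · have := congr($(H.isoPullback_inv_snd).base w)
    exact this.trans hw2

lemma connectedSpace_geomFibre {S : Scheme.{u}} (X : Over S) [GeometricallyConnected X.hom]
    (s : S) : ConnectedSpace (Red.geomFibre s X).left :=
  (GeometricallyConnected.geometrically_connectedSpace (f := X.hom)) (Red.geomPt s)
    (pullback.fst X.hom (Red.geomPt s)) (pullback.snd X.hom (Red.geomPt s))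
    (IsPullback.of_hasPullback X.hom (Red.geomPt s))

/-- the set-theoretic fibres of a morphism with connected geometric fibres are connected -/
lemma isPreconnected_fibre {S : Scheme.{u}} (X : Over S)
    (hc : ∀ s : S, ConnectedSpace (Red.geomFibre s X).left) (s : S) :
    _root_.IsPreconnected (X.hom.base ⁻¹' {s}) := by
  have hcs : ConnectedSpace ↥(Limits.pullback X.hom (Red.geomPt s)) := hc s
  have hz : ∀ z : ↥(Spec (CommRingCat.of (AlgebraicClosure (S.residueField s)))),
      (Red.geomPt s).base z = s := by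
    intro z
    change (S.fromSpecResidueField s).base ((Spec.map (CommRingCat.ofHom (algebraMap
      (S.residueField s) (AlgebraicClosure (S.residueField s))))).base z) = s
    exact Scheme.fromSpecResidueField_apply s _
  have hrange : Set.range (Red.geomPt s).base = {s} := by
    ext t
    rw [Set.mem_range, Set.mem_singleton_iff]
    constructor
    · rintro ⟨z, rfl⟩
      exact hz z
    · intro ht
      obtain ⟨z⟩ : Nonempty ↥(Spec (CommRingCat.of (AlgebraicClosure (S.residueField s)))) :=
        inferInstance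
      exact ⟨z, (hz z).trans ht.symm⟩
  have hr : X.hom.base ⁻¹' {s} =
      Set.range (Limits.pullback.fst X.hom (Red.geomPt s)).base := by
    rw [Scheme.Pullback.range_fst, hrange]
  rw [hr]
  exact isPreconnected_range (Limits.pullback.fst X.hom (Red.geomPt s)).continuous

/-- a morphism `X ×_S X → G` trivial on both axes is trivial (`X/S` smooth proper with connected
geometric fibres and a section `e`, `S` locally noetherian, `G/S` a separated group). -/
theorem eq_one_of_axes {S : Scheme.{u}} [IsLocallyNoetherian S] (X G : Over S) [GrpObj G]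
    [Smooth X.hom] [IsProper X.hom] (hc : ∀ s : S, ConnectedSpace (Red.geomFibre s X).left)
    [IsSeparated G.hom] (e : 𝟙_ (Over S) ⟶ X) (F : X ⊗ X ⟶ G)
    (hεF : lift (toUnit X ≫ e) (𝟙 X) ≫ F = 1) (hkF : lift (𝟙 X) (toUnit X ≫ e) ≫ F = 1) :
    F = 1 := by
  have h0 : ∀ s : S, Function.Bijective
      (Limits.pullback.snd X.hom (S.fromSpecResidueField s)).appTop.hom := fun s =>
    bijective_appTop_of_smooth_proper X s (hc s)
  have hLN : IsLocallyNoetherian X.left := LocallyOfFiniteType.isLocallyNoetherian X.hom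
  let P : Scheme.{u} := Limits.pullback X.hom X.hom
  let p' : P ⟶ X.left := Limits.pullback.snd X.hom X.hom
  let pr : P ⟶ X.left := Limits.pullback.fst X.hom X.hom
  have hLNP : IsLocallyNoetherian P := LocallyOfFiniteType.isLocallyNoetherian p'
  have hHP : IsPullback pr p' X.hom X.hom := IsPullback.of_hasPullback X.hom X.hom
  have h0' : ∀ y : X.left, Function.Surjective
      (Limits.pullback.snd p' (X.left.fromSpecResidueField y)).appTop.hom := fun y =>
    (bijective_appTop_of_isPullback hHP y (h0 _)).2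
  let p₁ := fst X X
  let p₂ := snd X X
  let ε : X ⟶ X ⊗ X := lift (toUnit X ≫ e) (𝟙 X)
  let k : X ⟶ X ⊗ X := lift (𝟙 X) (toUnit X ≫ e)
  have hε2 : ε ≫ p₂ = 𝟙 X := lift_snd _ _
  have hk1 : k ≫ p₁ = 𝟙 X := lift_fst _ _
  have hk2 : k ≫ p₂ = toUnit X ≫ e := lift_snd _ _
  have hunitX : (toUnit X).left = X.hom := by
    have := Over.w (toUnit X)
    rw [← this]
    exact (Category.comp_id _).symm
  have hε2' : ε.left ≫ p' = 𝟙 X.left := by
    have := congrArg (fun m => m.left) hε2
    exact this
  have hq : F.left ≫ G.hom = p' ≫ ε.left ≫ F.left ≫ G.hom := by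
    rw [Over.w F, Over.w ε]
    exact (Over.w (snd X X)).symm
  obtain ⟨hclopen, hloc⟩ := rigidity_section p' p'.isClosedMap
    ε.left hε2' F.left G.hom hq h0'
  have hsq : IsPullback k.left X.hom p' e.left := by
    have hw : k.left ≫ p' = X.hom ≫ e.left := by
      have := congrArg (fun m => m.left) hk2
      simp only [Over.comp_left] at this
      rw [hunitX] at this
      exact this
    refine IsPullback.of_right ?_ hw hHP
    have e1 : k.left ≫ pr = 𝟙 X.left := by
      have := congrArg (fun m => m.left) hk1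
      exact this
    have e2 : e.left ≫ X.hom = 𝟙 S := Over.w e
    rw [e1, e2]
    exact IsPullback.of_horiz_isIso ⟨by simp⟩
  have hW0 : ∀ s : S, e.left.base s ∈ {y : X.left | ∀ z₁ z₂ : P, p'.base z₁ = y →
      p'.base z₂ = y → F.left.base z₁ = F.left.base z₂} := by
    intro s
    have hr : ∀ z : P, p'.base z = e.left.base s → F.left.base z = (η[G]).left.base s := by
      intro z hz
      obtain ⟨w, hw1, hw2⟩ := exists_preimage_of_isPullback hsq z s hz
      have e0 : (k ≫ F).left = (toUnit X ≫ η[G]).left := by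
        rw [hkF, Groth.Agent.Lib.Helper11Rigidity.toUnit_eta]
      have e1 := congr($(e0).base w)
      change F.left.base (k.left.base w) = (η[G]).left.base ((toUnit X).left.base w) at e1
      rw [hw1] at e1
      refine e1.trans ?_
      congr 1
    intro z₁ z₂ h1 h2
    rw [hr z₁ h1, hr z₂ h2]
  have huniv : ∀ y : X.left, y ∈ {y : X.left | ∀ z₁ z₂ : P, p'.base z₁ = y →
      p'.base z₂ = y → F.left.base z₁ = F.left.base z₂} := by
    intro y
    have hsub := (isPreconnected_fibre X hc (X.hom.base y)).subset_isClopen hclopen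
      ⟨e.left.base (X.hom.base y), ?_, hW0 _⟩
    · exact hsub rfl
    · have := congr($(Over.w e).base (X.hom.base y))
      exact this
  have hFeq : F.left = p' ≫ ε.left ≫ F.left := by
    apply eq_of_forall_exists_open
    intro z
    apply hloc z
    exact huniv (p'.base z)
  have : F = p₂ ≫ ε ≫ F := by
    ext
    exact hFeq
  rw [this, hεF, MonObj.comp_one]


lemma group_aux {Γ : Type*} [Group Γ] (a b c : Γ) (h : a * b⁻¹ * c⁻¹ = 1) : a = c * b := by
  have h1 : a * b⁻¹ = c := by
    rw [mul_inv_eq_one] at h; exact h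
  rw [← h1, inv_mul_cancel_right]

/-- a unit-preserving morphism from an abelian scheme over a locally noetherian base to a
separated group scheme is a homomorphism (no noetherian hypothesis on the target). -/
theorem isMonHom_of_one {S : Scheme.{u}} [IsLocallyNoetherian S] (X G : Over S) [GrpObj X]
    [GrpObj G] [Smooth X.hom] [IsProper X.hom]
    (hc : ∀ s : S, ConnectedSpace (Red.geomFibre s X).left)
    [IsSeparated G.hom] (f : X ⟶ G) (hf : η[X] ≫ f = η[G]) : IsMonHom f := by
  let p₁ := fst X X
  let p₂ := snd X X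
  obtain ⟨F, hF⟩ : ∃ F : X ⊗ X ⟶ G, F = ((p₁ * p₂) ≫ f) * (p₂ ≫ f)⁻¹ * (p₁ ≫ f)⁻¹ := ⟨_, rfl⟩
  let ε : X ⟶ X ⊗ X := lift (toUnit X ≫ η[X]) (𝟙 X)
  let k : X ⟶ X ⊗ X := lift (𝟙 X) (toUnit X ≫ η[X])
  have hε1 : ε ≫ p₁ = toUnit X ≫ η[X] := lift_fst _ _
  have hε2 : ε ≫ p₂ = 𝟙 X := lift_snd _ _
  have hk1 : k ≫ p₁ = 𝟙 X := lift_fst _ _
  have hk2 : k ≫ p₂ = toUnit X ≫ η[X] := lift_snd _ _
  have hηf : (toUnit X ≫ η[X]) ≫ f = 1 := by
    rw [Category.assoc, hf, Groth.Agent.Lib.Helper11Rigidity.toUnit_eta]
  have hεF : ε ≫ F = 1 := by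
    rw [hF, MonObj.comp_mul, MonObj.comp_mul, GrpObj.comp_inv, GrpObj.comp_inv,
      ← Category.assoc, ← Category.assoc, ← Category.assoc, MonObj.comp_mul, hε1, hε2, hηf,
      Groth.Agent.Lib.Helper11Rigidity.toUnit_eta, _root_.one_mul, Category.id_comp,
      mul_inv_cancel, inv_one, _root_.mul_one]
  have hkF : k ≫ F = 1 := by
    rw [hF, MonObj.comp_mul, MonObj.comp_mul, GrpObj.comp_inv, GrpObj.comp_inv,
      ← Category.assoc, ← Category.assoc, ← Category.assoc, MonObj.comp_mul, hk1, hk2, hηf,
      Groth.Agent.Lib.Helper11Rigidity.toUnit_eta, _root_.mul_one, Category.id_comp,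
      inv_one, _root_.mul_one, mul_inv_cancel]
  have hF1 := eq_one_of_axes X G hc η[X] F hεF hkF
  apply Groth.Agent.Lib.Helper11Rigidity.isMonHom_of_mul f hf
  rw [hF] at hF1
  exact group_aux _ _ _ hF1

end Groth.Agent.Lib.Helper11RigidBase
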