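import Groth.Prelude.Def_HTop2
import Mathlib

set_option autoImplicit false
universe u

namespace Groth.Agent.Lib.Helper11

open HTop

variable {A : Type u} [CommRing A]

/-! ### basic reformulations -/

theorem isReduced_of_isSeminormalRing (h : IsSeminormalRing A) : IsReduced A := by
  rw [isReduced_iff_pow_one_lt 2 (by norm_num)]
  intro a ha
  obtain ⟨b, _, hb⟩ := h 0 0 (by ring)
  have h1 : a = b := hb a ⟨ha.symm, by rw [pow_succ, ha, zero_mul]⟩
  have h2 : (0 : A) = b := hb 0 ⟨by ring, by ring⟩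
  rw [h1, ← h2]

theorem eq_of_sq_eq_of_cube_eq [IsReduced A] {a b : A} (h2 : a ^ 2 = b ^ 2) (h3 : a ^ 3 = b ^ 3) :
    a = b := by
  have h : (a - b) ^ 3 = 0 := by
    have e : (a - b) ^ 3 = a ^ 3 - 3 * (a ^ 2 * b) + 3 * (a * b ^ 2) - b ^ 3 := by ring
    have e1 : a ^ 2 * b = b ^ 3 := by rw [h2]; ring
    have e2 : a * b ^ 2 = a ^ 3 := by rw [← h2]; ring
    rw [e, e1, e2, h3]; ring
  have := IsReduced.eq_zero _ ⟨3, h⟩
  exact sub_eq_zero.mp this

theorem isSeminormalRing_iff :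
    IsSeminormalRing A ↔ IsReduced A ∧ ∀ x y : A, x ^ 3 = y ^ 2 → ∃ a : A, x = a ^ 2 ∧ y = a ^ 3 := by
  constructor
  · intro h
    refine ⟨isReduced_of_isSeminormalRing h, fun x y hxy => ?_⟩
    obtain ⟨a, ha, _⟩ := h x y hxy
    exact ⟨a, ha⟩
  · rintro ⟨hred, h⟩ x y hxy
    obtain ⟨a, ha2, ha3⟩ := h x y hxy
    refine ⟨a, ⟨ha2, ha3⟩, ?_⟩
    rintro b ⟨hb2, hb3⟩
    exact eq_of_sq_eq_of_cube_eq (hb2.symm.trans ha2) (hb3.symm.trans ha3)

theorem eq_of_pow_prime_eq [IsReduced A] {p : ℕ} (hp : p.Prime) {a b : A}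
    (h1 : a ^ p = b ^ p) (h2 : (p : A) * a = (p : A) * b) : a = b := by
  set d := a - b with hd
  have hpd : (p : A) * d = 0 := by rw [hd, mul_sub, h2, sub_self]
  obtain ⟨r, hr⟩ := exists_add_pow_prime_eq hp b d
  have hab : b + d = a := by rw [hd]; ring
  rw [hab] at hr
  have h3 : (p : A) * b * d * r = 0 := by
    have : (p : A) * b * d * r = b * r * ((p : A) * d) := by ring
    rw [this, hpd, mul_zero]
  rw [h3, add_zero, h1] at hr
  have h4 : d ^ p = 0 := by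
    have := hr
    have h5 : b ^ p + d ^ p = b ^ p + 0 := by rw [add_zero]; exact this.symm
    exact add_left_cancel h5
  have := IsReduced.eq_zero _ ⟨p, h4⟩
  exact sub_eq_zero.mp this

theorem isAWNRing_iff :
    IsAWNRing A ↔ IsReduced A ∧ (∀ x y : A, x ^ 3 = y ^ 2 → ∃ a : A, x = a ^ 2 ∧ y = a ^ 3) ∧
      ∀ p : ℕ, p.Prime → ∀ x y : A, (p : A) ^ p * x = y ^ p → ∃ a : A, x = a ^ p ∧ y = (p : A) * a := by
  constructor
  · rintro ⟨hsn, h⟩
    obtain ⟨hred, hsn'⟩ := isSeminormalRing_iff.mp hsn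
    refine ⟨hred, hsn', fun p hp x y hxy => ?_⟩
    obtain ⟨a, ha, _⟩ := h p hp x y hxy
    exact ⟨a, ha⟩
  · rintro ⟨hred, hsn, h⟩
    refine ⟨isSeminormalRing_iff.mpr ⟨hred, hsn⟩, fun p hp x y hxy => ?_⟩
    obtain ⟨a, ha1, ha2⟩ := h p hp x y hxy
    refine ⟨a, ⟨ha1, ha2⟩, ?_⟩
    rintro b ⟨hb1, hb2⟩
    exact eq_of_pow_prime_eq hp (hb1.symm.trans ha1) (hb2.symm.trans ha2)

/-! ### spanning sets -/

theorem eq_zero_of_span_pow_mul (s : Finset A) (hs : Ideal.span (s : Set A) = ⊤) (x : A)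
    (h : ∀ f ∈ s, ∃ m : ℕ, f ^ m * x = 0) : x = 0 := by
  classical
  have hex : ∀ f : A, ∃ m : ℕ, f ∈ s → f ^ m * x = 0 := by
    intro f
    by_cases hf : f ∈ s
    · obtain ⟨m, hm⟩ := h f hf
      exact ⟨m, fun _ => hm⟩
    · exact ⟨0, fun h => absurd h hf⟩
  choose m hm using hex
  set N := s.sup m with hN
  have hfN : ∀ f ∈ s, f ^ N * x = 0 := by
    intro f hf
    have hle : m f ≤ N := Finset.le_sup hf
    obtain ⟨k, hk⟩ := Nat.exists_eq_add_of_le hle
    rw [hk, pow_add, mul_comm (f ^ m f), mul_assoc, hm f hf, mul_zero]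
  let I : Ideal A := LinearMap.ker (LinearMap.toSpanSingleton A A x)
  have hI : Ideal.span ((fun f => f ^ N) '' (s : Set A)) ≤ I := by
    rw [Ideal.span_le]
    rintro _ ⟨f, hf, rfl⟩
    show LinearMap.toSpanSingleton A A x (f ^ N) = 0
    rw [LinearMap.toSpanSingleton_apply, smul_eq_mul]
    exact hfN f hf
  rw [Ideal.span_pow_eq_top _ hs N] at hI
  have h1 : (1 : A) ∈ I := hI trivial
  have h2 : LinearMap.toSpanSingleton A A x 1 = 0 := h1
  rw [LinearMap.toSpanSingleton_apply, one_smul] at h2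
  exact h2

theorem exists_glue (s : Finset A) (hs : Ideal.span (s : Set A) = ⊤) (n : ℕ) (c : A → A)
    (hc : ∀ f ∈ s, ∀ g ∈ s, c f * g ^ n = c g * f ^ n) :
    ∃ a : A, ∀ f ∈ s, f ^ n * a = c f := by
  have h1 : (1 : A) ∈ Ideal.span ((fun f => f ^ n) '' (s : Set A)) := by
    rw [Ideal.span_pow_eq_top _ hs n]; trivial
  obtain ⟨r, hr⟩ := (Submodule.mem_span_image_finset_iff_exists_fun' A).mp h1
  refine ⟨∑ g ∈ s, r g * c g, fun f hf => ?_⟩
  rw [Finset.mul_sum]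
  have : ∀ g ∈ s, f ^ n * (r g * c g) = c f * (r g • g ^ n) := by
    intro g hg
    rw [smul_eq_mul]
    have := hc f hf g hg
    calc f ^ n * (r g * c g) = r g * (c g * f ^ n) := by ring
      _ = r g * (c f * g ^ n) := by rw [this]
      _ = c f * (r g * g ^ n) := by ring
  rw [Finset.sum_congr rfl this, ← Finset.mul_sum, hr, mul_one]

/-! ### localization -/

section Loc

variable {B : Type u} [CommRing B] [Algebra A B]

theorem isReduced_away (f : A) [IsLocalization.Away f B] [IsReduced A] : IsReduced B :=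
  isReduced_localizationPreserves (Submonoid.powers f) B inferInstance

/-- existence part of seminormality passes to `A_f` -/
theorem exists_sq_cube_away (f : A) [IsLocalization.Away f B]
    (h : ∀ x y : A, x ^ 3 = y ^ 2 → ∃ a : A, x = a ^ 2 ∧ y = a ^ 3)
    (x y : B) (hxy : x ^ 3 = y ^ 2) : ∃ b : B, x = b ^ 2 ∧ y = b ^ 3 := by
  obtain ⟨n, x', hx'⟩ := IsLocalization.Away.surj f x
  obtain ⟨m, y', hy'⟩ := IsLocalization.Away.surj f y
  obtain ⟨u, hu⟩ := (IsLocalization.Away.algebraMap_isUnit (S := B) f).exists_right_inv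
  obtain ⟨t, ht⟩ : ∃ t : B, t = algebraMap A B f := ⟨_, rfl⟩
  rw [← ht] at hx' hy' hu
  have htu : ∀ j : ℕ, t ^ j * u ^ j = 1 := fun j => by rw [← mul_pow, hu, one_pow]
  obtain ⟨N, hN⟩ : ∃ N : ℕ, N = n + m := ⟨_, rfl⟩
  obtain ⟨x2, hx2def⟩ : ∃ x2 : A, x2 = x' * f ^ (n + 2 * m) := ⟨_, rfl⟩
  obtain ⟨y2, hy2def⟩ : ∃ y2 : A, y2 = y' * f ^ (3 * n + 2 * m) := ⟨_, rfl⟩
  have hx2 : x * t ^ (2 * N) = algebraMap A B x2 := by
    rw [hx2def, map_mul, map_pow, ← hx', ← ht]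
    have : 2 * N = n + (n + 2 * m) := by omega
    rw [this, pow_add]; ring
  have hy2 : y * t ^ (3 * N) = algebraMap A B y2 := by
    rw [hy2def, map_mul, map_pow, ← hy', ← ht]
    have : 3 * N = m + (3 * n + 2 * m) := by omega
    rw [this, pow_add]; ring
  have heq : algebraMap A B (x2 ^ 3) = algebraMap A B (y2 ^ 2) := by
    rw [map_pow, map_pow, ← hx2, ← hy2]
    calc (x * t ^ (2 * N)) ^ 3 = x ^ 3 * t ^ (6 * N) := by ring
      _ = y ^ 2 * t ^ (6 * N) := by rw [hxy]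
      _ = (y * t ^ (3 * N)) ^ 2 := by ring
  obtain ⟨k, hk⟩ := IsLocalization.Away.exists_of_eq (S := B) f heq
  have hXY : (f ^ (2 * k) * x2) ^ 3 = (f ^ (3 * k) * y2) ^ 2 := by
    calc (f ^ (2 * k) * x2) ^ 3 = f ^ (5 * k) * (f ^ k * x2 ^ 3) := by ring
      _ = f ^ (5 * k) * (f ^ k * y2 ^ 2) := by rw [hk]
      _ = (f ^ (3 * k) * y2) ^ 2 := by ring
  obtain ⟨a, ha2, ha3⟩ := h _ _ hXY
  have hX : algebraMap A B (f ^ (2 * k) * x2) = x * t ^ (2 * N) * t ^ (2 * k) := by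
    rw [map_mul, map_pow, ← ht, hx2]; ring
  have hY : algebraMap A B (f ^ (3 * k) * y2) = y * t ^ (3 * N) * t ^ (3 * k) := by
    rw [map_mul, map_pow, ← ht, hy2]; ring
  refine ⟨algebraMap A B a * u ^ (N + k), ?_, ?_⟩
  · calc x = x * (t ^ (2 * N + 2 * k) * u ^ (2 * N + 2 * k)) := by rw [htu, mul_one]
      _ = (x * t ^ (2 * N) * t ^ (2 * k)) * u ^ (2 * N + 2 * k) := by ring
      _ = algebraMap A B (a ^ 2) * u ^ (2 * N + 2 * k) := by rw [← hX, ha2]
      _ = (algebraMap A B a * u ^ (N + k)) ^ 2 := by rw [map_pow]; ring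
  · calc y = y * (t ^ (3 * N + 3 * k) * u ^ (3 * N + 3 * k)) := by rw [htu, mul_one]
      _ = (y * t ^ (3 * N) * t ^ (3 * k)) * u ^ (3 * N + 3 * k) := by ring
      _ = algebraMap A B (a ^ 3) * u ^ (3 * N + 3 * k) := by rw [← hY, ha3]
      _ = (algebraMap A B a * u ^ (N + k)) ^ 3 := by rw [map_pow]; ring

theorem isSeminormalRing_away (f : A) [IsLocalization.Away f B] (h : IsSeminormalRing A) :
    IsSeminormalRing B := by
  obtain ⟨hred, hex⟩ := isSeminormalRing_iff.mp h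
  exact isSeminormalRing_iff.mpr ⟨isReduced_away f, exists_sq_cube_away f hex⟩

/-- existence part of the `p`-condition passes to `A_f` -/
theorem exists_pow_prime_away (f : A) [IsLocalization.Away f B] (p : ℕ) (hp : p.Prime)
    (h : ∀ x y : A, (p : A) ^ p * x = y ^ p → ∃ a : A, x = a ^ p ∧ y = (p : A) * a)
    (x y : B) (hxy : (p : B) ^ p * x = y ^ p) : ∃ b : B, x = b ^ p ∧ y = (p : B) * b := by
  obtain ⟨n, x', hx'⟩ := IsLocalization.Away.surj f x
  obtain ⟨m, y', hy'⟩ := IsLocalization.Away.surj f y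
  obtain ⟨u, hu⟩ := (IsLocalization.Away.algebraMap_isUnit (S := B) f).exists_right_inv
  obtain ⟨t, ht⟩ : ∃ t : B, t = algebraMap A B f := ⟨_, rfl⟩
  rw [← ht] at hx' hy' hu
  have htu : ∀ j : ℕ, t ^ j * u ^ j = 1 := fun j => by rw [← mul_pow, hu, one_pow]
  obtain ⟨q, hq⟩ : ∃ q : ℕ, p = q + 1 := ⟨p - 1, by have := hp.one_lt; omega⟩
  obtain ⟨N, hN⟩ : ∃ N : ℕ, N = n + m := ⟨_, rfl⟩
  obtain ⟨x2, hx2def⟩ : ∃ x2 : A, x2 = x' * f ^ (q * n + p * m) := ⟨_, rfl⟩
  obtain ⟨y2, hy2def⟩ : ∃ y2 : A, y2 = y' * f ^ n := ⟨_, rfl⟩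
  have hx2 : x * t ^ (p * N) = algebraMap A B x2 := by
    rw [hx2def, map_mul, map_pow, ← hx', ← ht]
    have : p * N = n + (q * n + p * m) := by rw [hN, hq]; ring
    rw [this, pow_add]; ring
  have hy2 : y * t ^ N = algebraMap A B y2 := by
    rw [hy2def, map_mul, map_pow, ← hy', ← ht]
    have : N = m + n := by omega
    rw [this, pow_add]; ring
  have hpB : (p : B) = algebraMap A B (p : A) := (map_natCast (algebraMap A B) p).symm
  have heq : algebraMap A B ((p : A) ^ p * x2) = algebraMap A B (y2 ^ p) := by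
    rw [map_mul, map_pow, map_pow, ← hx2, ← hy2, ← hpB]
    calc (p : B) ^ p * (x * t ^ (p * N)) = ((p : B) ^ p * x) * t ^ (p * N) := by ring
      _ = y ^ p * t ^ (p * N) := by rw [hxy]
      _ = (y * t ^ N) ^ p := by rw [mul_pow, ← pow_mul, mul_comm N p]
  obtain ⟨k, hk⟩ := IsLocalization.Away.exists_of_eq (S := B) f heq
  have hXY : (p : A) ^ p * (f ^ (p * k) * x2) = (f ^ k * y2) ^ p := by
    have e : p * k = q * k + k := by rw [hq]; ring
    calc (p : A) ^ p * (f ^ (p * k) * x2) = f ^ (q * k) * (f ^ k * ((p : A) ^ p * x2)) := by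
          rw [e, pow_add]; ring
      _ = f ^ (q * k) * (f ^ k * y2 ^ p) := by rw [hk]
      _ = (f ^ k * y2) ^ p := by
          rw [mul_pow, ← pow_mul, mul_comm k p, e, pow_add]; ring
  obtain ⟨a, ha1, ha2⟩ := h _ _ hXY
  have hX : algebraMap A B (f ^ (p * k) * x2) = x * t ^ (p * N) * t ^ (p * k) := by
    rw [map_mul, map_pow, ← ht, hx2]; ring
  have hY : algebraMap A B (f ^ k * y2) = y * t ^ N * t ^ k := by
    rw [map_mul, map_pow, ← ht, hy2]; ring
  refine ⟨algebraMap A B a * u ^ (N + k), ?_, ?_⟩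
  · calc x = x * (t ^ (p * N + p * k) * u ^ (p * N + p * k)) := by rw [htu, mul_one]
      _ = (x * t ^ (p * N) * t ^ (p * k)) * u ^ (p * N + p * k) := by ring
      _ = algebraMap A B (a ^ p) * u ^ (p * N + p * k) := by rw [← hX, ha1]
      _ = (algebraMap A B a * u ^ (N + k)) ^ p := by
          rw [map_pow, mul_pow, ← pow_mul, mul_comm (N + k) p, mul_add]
  · calc y = y * (t ^ (N + k) * u ^ (N + k)) := by rw [htu, mul_one]
      _ = (y * t ^ N * t ^ k) * u ^ (N + k) := by ring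
      _ = algebraMap A B ((p : A) * a) * u ^ (N + k) := by rw [← hY, ha2]
      _ = (p : B) * (algebraMap A B a * u ^ (N + k)) := by rw [map_mul, ← hpB]; ring

theorem isAWNRing_away (f : A) [IsLocalization.Away f B] (h : IsAWNRing A) : IsAWNRing B := by
  obtain ⟨hred, hex, hexp⟩ := isAWNRing_iff.mp h
  exact isAWNRing_iff.mpr ⟨isReduced_away f, exists_sq_cube_away f hex,
    fun p hp => exists_pow_prime_away f p hp (hexp p hp)⟩

/-- clearing denominators for a solution of `x = b^(e+1)`, `y = m b^(d+1)` in `A_f` -/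
theorem exists_normalize (f : A) [IsLocalization.Away f B] (e d : ℕ) (m x y : A) (b : B)
    (h1 : algebraMap A B x = b ^ (e + 1))
    (h2 : algebraMap A B y = algebraMap A B m * b ^ (d + 1)) :
    ∃ (N : ℕ) (c : A), c ^ (e + 1) = x * f ^ ((e + 1) * N) ∧
      m * c ^ (d + 1) = y * f ^ ((d + 1) * N) := by
  obtain ⟨n, c', hc'⟩ := IsLocalization.Away.surj f b
  have e1 : algebraMap A B (c' ^ (e + 1)) = algebraMap A B (x * f ^ ((e + 1) * n)) := by
    rw [map_pow, ← hc', map_mul, map_pow, h1]; ring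
  have e2 : algebraMap A B (m * c' ^ (d + 1)) = algebraMap A B (y * f ^ ((d + 1) * n)) := by
    rw [map_mul, map_pow, ← hc', map_mul, map_pow, h2]; ring
  obtain ⟨k, hk⟩ := IsLocalization.Away.exists_of_eq (S := B) f e1
  obtain ⟨k', hk'⟩ := IsLocalization.Away.exists_of_eq (S := B) f e2
  refine ⟨n + k + k', f ^ (k + k') * c', ?_, ?_⟩
  · calc (f ^ (k + k') * c') ^ (e + 1)
        = f ^ (e * k + (e + 1) * k') * (f ^ k * c' ^ (e + 1)) := by ring
      _ = f ^ (e * k + (e + 1) * k') * (f ^ k * (x * f ^ ((e + 1) * n))) := by rw [hk]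
      _ = x * f ^ ((e + 1) * (n + k + k')) := by ring
  · calc m * (f ^ (k + k') * c') ^ (d + 1)
        = f ^ ((d + 1) * k + d * k') * (f ^ k' * (m * c' ^ (d + 1))) := by ring
      _ = f ^ ((d + 1) * k + d * k') * (f ^ k' * (y * f ^ ((d + 1) * n))) := by rw [hk']
      _ = y * f ^ ((d + 1) * (n + k + k')) := by ring

end Loc

/-! ### gluing over a finite spanning set -/

section Glue

variable (s : Finset A) (hs : Ideal.span (s : Set A) = ⊤)
  (B : A → Type u) [∀ f, CommRing (B f)] [∀ f, Algebra A (B f)]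
  (hB : ∀ f ∈ s, IsLocalization.Away f (B f))

include hs hB

theorem isReduced_of_span (h : ∀ f ∈ s, IsReduced (B f)) : IsReduced A := by
  rw [isReduced_iff_pow_one_lt 2 (by norm_num)]
  intro x hx
  apply eq_zero_of_span_pow_mul s hs
  intro f hf
  have := hB f hf
  have := h f hf
  have h0 : algebraMap A (B f) x = 0 := by
    apply IsReduced.eq_zero
    exact ⟨2, by rw [← map_pow, hx, map_zero]⟩
  have h1 : algebraMap A (B f) x = algebraMap A (B f) 0 := by rw [h0, map_zero]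
  obtain ⟨k, hk⟩ := IsLocalization.Away.exists_of_eq (S := B f) f h1
  exact ⟨k, by rw [hk, mul_zero]⟩

theorem exists_of_span (e d : ℕ) (m : A)
    (uniq : ∀ a b : A, a ^ (e + 1) = b ^ (e + 1) → m * a ^ (d + 1) = m * b ^ (d + 1) → a = b)
    (x y : A)
    (h : ∀ f ∈ s, ∃ b : B f, algebraMap A (B f) x = b ^ (e + 1) ∧
      algebraMap A (B f) y = algebraMap A (B f) m * b ^ (d + 1)) :
    ∃ a : A, x = a ^ (e + 1) ∧ y = m * a ^ (d + 1) := by
  classical
  have hex : ∀ f : A, ∃ (N : ℕ) (c : A), f ∈ s → c ^ (e + 1) = x * f ^ ((e + 1) * N) ∧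
      m * c ^ (d + 1) = y * f ^ ((d + 1) * N) := by
    intro f
    by_cases hf : f ∈ s
    · have := hB f hf
      obtain ⟨b, hb1, hb2⟩ := h f hf
      obtain ⟨N, c, hc⟩ := exists_normalize f e d m x y b hb1 hb2
      exact ⟨N, c, fun _ => hc⟩
    · exact ⟨0, 0, fun h => absurd h hf⟩
  choose N₀ c₀ hc₀ using hex
  obtain ⟨N, hN⟩ : ∃ N, N = s.sup N₀ := ⟨_, rfl⟩
  have hex2 : ∀ f : A, ∃ c : A, f ∈ s → c ^ (e + 1) = x * f ^ ((e + 1) * N) ∧
      m * c ^ (d + 1) = y * f ^ ((d + 1) * N) := by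
    intro f
    by_cases hf : f ∈ s
    · have hle : N₀ f ≤ N := hN ▸ Finset.le_sup hf
      obtain ⟨j, hj⟩ := Nat.exists_eq_add_of_le hle
      obtain ⟨h1, h2⟩ := hc₀ f hf
      refine ⟨c₀ f * f ^ j, fun _ => ⟨?_, ?_⟩⟩
      · rw [mul_pow, h1, hj]; ring
      · rw [mul_pow, ← mul_assoc, h2, hj]; ring
    · exact ⟨0, fun h => absurd h hf⟩
  choose c hc using hex2
  have compat : ∀ f ∈ s, ∀ g ∈ s, c f * g ^ N = c g * f ^ N := by
    intro f hf g hg
    obtain ⟨hf1, hf2⟩ := hc f hf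
    obtain ⟨hg1, hg2⟩ := hc g hg
    apply uniq
    · rw [mul_pow, mul_pow, hf1, hg1]; ring
    · rw [mul_pow, mul_pow, ← mul_assoc, ← mul_assoc, hf2, hg2]; ring
  obtain ⟨a, ha⟩ := exists_glue s hs N c compat
  refine ⟨a, ?_, ?_⟩
  · have : x - a ^ (e + 1) = 0 := by
      apply eq_zero_of_span_pow_mul s hs
      intro f hf
      refine ⟨(e + 1) * N, ?_⟩
      obtain ⟨hf1, hf2⟩ := hc f hf
      calc f ^ ((e + 1) * N) * (x - a ^ (e + 1))
          = x * f ^ ((e + 1) * N) - (f ^ N * a) ^ (e + 1) := by ring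
        _ = 0 := by rw [ha f hf, hf1, sub_self]
    exact sub_eq_zero.mp this
  · have : y - m * a ^ (d + 1) = 0 := by
      apply eq_zero_of_span_pow_mul s hs
      intro f hf
      refine ⟨(d + 1) * N, ?_⟩
      obtain ⟨hf1, hf2⟩ := hc f hf
      calc f ^ ((d + 1) * N) * (y - m * a ^ (d + 1))
          = y * f ^ ((d + 1) * N) - m * (f ^ N * a) ^ (d + 1) := by ring
        _ = 0 := by rw [ha f hf, hf2, sub_self]
    exact sub_eq_zero.mp this

theorem isSeminormalRing_of_span (h : ∀ f ∈ s, IsSeminormalRing (B f)) : IsSeminormalRing A := by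
  have hred : IsReduced A :=
    isReduced_of_span s hs B hB (fun f hf => isReduced_of_isSeminormalRing (h f hf))
  refine isSeminormalRing_iff.mpr ⟨hred, fun x y hxy => ?_⟩
  have key := exists_of_span s hs B hB 1 2 (1 : A)
    (fun a b h2 h3 => eq_of_sq_eq_of_cube_eq h2 (by simpa using h3)) x y ?_
  · obtain ⟨a, ha2, ha3⟩ := key
    exact ⟨a, ha2, by simpa using ha3⟩
  · intro f hf
    obtain ⟨b, ⟨hb2, hb3⟩, _⟩ := h f hf (algebraMap A (B f) x) (algebraMap A (B f) y)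
      (by rw [← map_pow, ← map_pow, hxy])
    exact ⟨b, hb2, by rw [map_one, one_mul]; exact hb3⟩

theorem isAWNRing_of_span (h : ∀ f ∈ s, IsAWNRing (B f)) : IsAWNRing A := by
  have hsn : IsSeminormalRing A := isSeminormalRing_of_span s hs B hB (fun f hf => (h f hf).1)
  obtain ⟨hred, hex⟩ := isSeminormalRing_iff.mp hsn
  refine isAWNRing_iff.mpr ⟨hred, hex, fun p hp x y hxy => ?_⟩
  obtain ⟨q, hq⟩ : ∃ q : ℕ, p = q + 1 := ⟨p - 1, by have := hp.one_lt; omega⟩
  have key := exists_of_span s hs B hB q 0 (p : A)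
    (fun a b h1 h2 => eq_of_pow_prime_eq hp (by rw [hq]; exact h1) (by simpa using h2)) x y ?_
  · obtain ⟨a, ha1, ha2⟩ := key
    exact ⟨a, by rw [hq]; exact ha1, by simpa using ha2⟩
  · intro f hf
    obtain ⟨b, ⟨hb1, hb2⟩, _⟩ := (h f hf).2 p hp (algebraMap A (B f) x) (algebraMap A (B f) y)
      (by rw [← map_pow, ← map_natCast (algebraMap A (B f)) p, ← map_pow, ← map_mul, hxy])
    refine ⟨b, by rw [← hq]; exact hb1, ?_⟩
    rw [zero_add, pow_one, map_natCast]; exact hb2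

end Glue

end Groth.Agent.Lib.Helper11
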