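import Mathlib
import Groth.Agent.Lib.Helper20SmoothSec
import Groth.Agent.Lib.Helper11KPts
import Groth.Agent.Lib.Helper6SmGeom

/-!
Helper library (helper11): points of smooth schemes over a field `k` with values in a separably
closed extension `K` are dense; consequences.
-/

set_option autoImplicit false
universe u
open CategoryTheory CategoryTheory.Limits AlgebraicGeometry MonoidalCategory CartesianMonoidalCategory MonObj

namespace Groth.Agent.Lib.Helper11SepPts

/-- points with values in a separably closed field lift along étale morphisms -/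
theorem exists_lift_etale {Ω : Type u} [Field Ω] [IsSepClosed Ω] {S' S : Scheme.{u}} (g : S' ⟶ S)
    [Etale g] (s' : S') (f : Spec (CommRingCat.of Ω) ⟶ S)
    (hf : f (IsLocalRing.closedPoint Ω) = g s') :
    ∃ f' : Spec (CommRingCat.of Ω) ⟶ S', f' ≫ g = f := by
  obtain ⟨⟨x, a⟩, rfl⟩ := (Scheme.SpecToEquivOfField Ω S).symm.surjective f
  have hx : x = g s' := by
    simpa [Scheme.SpecToEquivOfField] using hf
  subst hx
  algebraize [(g.residueFieldMap s').hom, a.hom]
  let b : S'.residueField s' →ₐ[S.residueField (g s')] Ω := IsSepClosed.lift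
  have hfac : g.residueFieldMap s' ≫ CommRingCat.ofHom b.toRingHom = a := by
    ext1; exact b.comp_algebraMap
  refine ⟨Spec.map (CommRingCat.ofHom b.toRingHom) ≫ S'.fromSpecResidueField s', ?_⟩
  simp [Scheme.SpecToEquivOfField, ← hfac]
  rfl

/-- every nonempty open subset of a smooth scheme over a field `k` contains a point with values in
any given separably closed extension `K` of `k` -/
theorem exists_point_mem_open (k K : Type u) [Field k] [Field K] [Algebra k K] [IsSepClosed K]
    {X : Over (Spec (CommRingCat.of k))} [Smooth X.hom] (U : X.left.Opens) (x : X.left)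
    (hx : x ∈ U) :
    ∃ p : Over.mk (Spec.map (CommRingCat.ofHom (algebraMap k K))) ⟶ X,
      p.left (IsLocalRing.closedPoint K) ∈ U := by
  have hsm : Smooth (U.ι ≫ X.hom) := inferInstance
  obtain ⟨S', g, s', hg, -, h, hh⟩ :=
    Groth.Agent.Lib.Helper20.SmoothSec.exists_etale_section_of_smooth (U.ι ≫ X.hom) ⟨x, hx⟩
  obtain ⟨f', hf'⟩ := exists_lift_etale g s' (Spec.map (CommRingCat.ofHom (algebraMap k K)))
    (Subsingleton.elim _ _)
  refine ⟨Over.homMk (f' ≫ h ≫ U.ι) ?_, ?_⟩
  · change (f' ≫ h ≫ U.ι) ≫ X.hom = _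
    simp only [Category.assoc]
    rw [hh, hf']
    rfl
  · change (f' ≫ h ≫ U.ι) (IsLocalRing.closedPoint K) ∈ U
    rw [Scheme.Hom.comp_apply, Scheme.Hom.comp_apply]
    exact ((h (f' (IsLocalRing.closedPoint K)))).2

/-- the points of a smooth scheme over a field `k` with values in a separably closed extension `K`
of `k` are dense -/
theorem dense_points (k K : Type u) [Field k] [Field K] [Algebra k K] [IsSepClosed K]
    {X : Over (Spec (CommRingCat.of k))} [Smooth X.hom] :
    Dense {x : X.left | ∃ p : Over.mk (Spec.map (CommRingCat.ofHom (algebraMap k K))) ⟶ X,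
      p.left (IsLocalRing.closedPoint K) = x} := by
  rw [dense_iff_inter_open]
  rintro U hU ⟨x, hx⟩
  obtain ⟨p, hp⟩ := exists_point_mem_open k K (X := X) ⟨U, hU⟩ x hx
  exact ⟨_, hp, p, rfl⟩

/-- two morphisms from a smooth `k`-scheme to a separated `k`-scheme which agree on all points with
values in a separably closed extension `K` of `k` are equal -/
theorem ext_of_points (k K : Type u) [Field k] [Field K] [Algebra k K] [IsSepClosed K]
    {X Y : Over (Spec (CommRingCat.of k))} [Smooth X.hom] [IsSeparated Y.hom] (φ₁ φ₂ : X ⟶ Y)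
    (h : ∀ p : Over.mk (Spec.map (CommRingCat.ofHom (algebraMap k K))) ⟶ X, p ≫ φ₁ = p ≫ φ₂) :
    φ₁ = φ₂ := by
  have hred : IsReduced X.left :=
    Groth.Agent.Lib.Helper6.SmGeom.isReduced_of_smooth_over_field k X.left X.hom
  ext1
  refine ext_of_fromSpecResidueField_eq φ₁.left φ₂.left Y.hom _ (dense_points k K (X := X)) ?_
    (by rw [Over.w, Over.w])
  rintro _ ⟨p, rfl⟩
  have h1 := congrArg (fun m => m.left) (h p)
  simp only [Over.comp_left] at h1
  obtain ⟨⟨x, a⟩, hxa⟩ := (Scheme.SpecToEquivOfField K X.left).symm.surjective p.left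
  have hpl : p.left = Spec.map a ≫ X.left.fromSpecResidueField x := hxa.symm
  have hx : p.left (IsLocalRing.closedPoint K) = x := by
    rw [hpl]
    simp
  rw [hx]
  rw [hpl, Category.assoc, Category.assoc] at h1
  have hepi : Epi (Spec.map a) := by
    have : Flat (Spec.map a) := by
      rw [HasRingHomProperty.Spec_iff (P := @Flat)]
      exact Groth.Agent.Lib.Helper11Homog.flat_of_isField_source _ (Field.toIsField _)
    have : Surjective (Spec.map a) :=
      ⟨fun y => ⟨IsLocalRing.closedPoint K, Subsingleton.elim _ _⟩⟩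
    exact Flat.epi_of_flat_of_surjective _
  exact (cancel_epi (Spec.map a)).mp h1

/-- a morphism from a smooth `k`-scheme factors through a closed subscheme of the target as soon as
it does so on points with values in a separably closed extension `K` of `k` -/
theorem exists_lift_of_points (k K : Type u) [Field k] [Field K] [Algebra k K] [IsSepClosed K]
    {X Z Y : Over (Spec (CommRingCat.of k))} [Smooth X.hom] (φ : X ⟶ Z) (c : Y ⟶ Z)
    [IsClosedImmersion c.left]
    (h : ∀ p : Over.mk (Spec.map (CommRingCat.ofHom (algebraMap k K))) ⟶ X,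
      ∃ y : Over.mk (Spec.map (CommRingCat.ofHom (algebraMap k K))) ⟶ Y, y ≫ c = p ≫ φ) :
    ∃ ψ : X ⟶ Y, ψ ≫ c = φ := by
  have hred : IsReduced X.left :=
    Groth.Agent.Lib.Helper6.SmGeom.isReduced_of_smooth_over_field k X.left X.hom
  have hclosed : IsClosed (φ.left ⁻¹' Set.range c.left) :=
    c.left.isClosedEmbedding.isClosed_range.preimage φ.left.continuous
  have hsub : {x : X.left | ∃ p : Over.mk (Spec.map (CommRingCat.ofHom (algebraMap k K))) ⟶ X,
      p.left (IsLocalRing.closedPoint K) = x} ⊆ φ.left ⁻¹' Set.range c.left := by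
    rintro _ ⟨p, rfl⟩
    obtain ⟨y, hy⟩ := h p
    refine ⟨y.left (IsLocalRing.closedPoint K), ?_⟩
    rw [← Scheme.Hom.comp_apply, ← Over.comp_left, hy, Over.comp_left, Scheme.Hom.comp_apply]
  have huniv : φ.left ⁻¹' Set.range c.left = Set.univ := by
    rw [← hclosed.closure_eq, ← Set.univ_subset_iff, ← (dense_points k K (X := X)).closure_eq]
    exact closure_mono hsub
  have hrange : Set.range φ.left ⊆ Set.range c.left := by
    rintro _ ⟨x, rfl⟩
    have : x ∈ φ.left ⁻¹' Set.range c.left := by rw [huniv]; trivial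
    exact this
  obtain ⟨l, hl⟩ := Groth.Agent.Lib.Helper11KPts.exists_lift_closedImmersion φ.left c.left hrange
  refine ⟨Over.homMk l ?_, ?_⟩
  · rw [← Over.w c, reassoc_of% hl, Over.w φ]
  · ext1
    exact hl

end Groth.Agent.Lib.Helper11SepPts
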