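import Mathlib
import Groth.Prelude.Def_W4stktopologysheavesBas

set_option autoImplicit false
universe u
open TopologicalSpace

namespace Groth.Agent.Lib.Helper11

variable {X : Type u} [TopologicalSpace X] {B : Set (Opens X)}

/-- Strong gluing hypothesis for a covering datum: families agreeing on every member of the basis
contained in two members of the covering glue uniquely. -/
def ShBStrongGlue (F : ShB.Pre B) (c : ShB.Cover B) : Prop :=
  ∀ s : ∀ i, F.obj (c.V i),
    (∀ i j (b : B) (h1 : (b : Opens X) ≤ (c.V i : Opens X)) (h2 : (b : Opens X) ≤ (c.V j : Opens X)),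
      F.res h1 (s i) = F.res h2 (s j)) →
    ∃! t : F.obj c.U, ∀ i, F.res (c.V_le i) t = s i

section
variable (hB : Opens.IsBasis B) (F : ShB.Pre B)
  (C : ∀ U : B, Set (ShB.Cover B)) (hCU : ∀ U, ∀ c ∈ C U, c.U = U)
  (hC : ∀ (U : B) (ι : Type u) (V : ι → B), (∀ i, (V i : Opens X) ≤ (U : Opens X)) →
      (U : Opens X) ≤ ⨆ i, (V i : Opens X) →
      ∃ c ∈ C U, ∀ i' : c.ι, ∃ i, (c.V i' : Opens X) ≤ (V i : Opens X))
  (H : ∀ U, ∀ c ∈ C U, ShBStrongGlue F c)

include hCU hC H in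
/-- separatedness for arbitrary coverings by members of the basis -/
theorem shB_separated (U : B) (ι : Type u) (V : ι → B)
    (hV : ∀ i, (V i : Opens X) ≤ (U : Opens X)) (hcov : (U : Opens X) ≤ ⨆ i, (V i : Opens X))
    (t t' : F.obj U) (h : ∀ i, F.res (hV i) t = F.res (hV i) t') : t = t' := by
  obtain ⟨c, hc, href⟩ := hC U ι V hV hcov
  have hcU := hCU U c hc
  subst hcU
  choose α hα using href
  have compat : ∀ i j (b : B) (h1 : (b : Opens X) ≤ (c.V i : Opens X))
      (h2 : (b : Opens X) ≤ (c.V j : Opens X)),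
      F.res h1 (F.res (c.V_le i) t) = F.res h2 (F.res (c.V_le j) t) := by
    intro i j b h1 h2
    rw [F.res_comp, F.res_comp]
  obtain ⟨t₀, _, huniq⟩ := H _ c hc (fun i' => F.res (c.V_le i') t) compat
  have h1 : t = t₀ := huniq t (fun _ => rfl)
  have h2 : t' = t₀ := by
    apply huniq
    intro i'
    have e1 : F.res (c.V_le i') t' = F.res (hα i') (F.res (hV (α i')) t') := by
      rw [F.res_comp]
    have e2 : F.res (c.V_le i') t = F.res (hα i') (F.res (hV (α i')) t) := by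
      rw [F.res_comp]
    rw [e1, e2, h (α i')]
  rw [h1, h2]

include hB hCU hC H in
/-- A presheaf on a basis satisfying the strong gluing condition for a cofinal system of coverings
is a sheaf on the basis. -/
theorem shB_isSheaf_of_cofinal : ShB.IsSheaf F := by
  intro c₀
  obtain ⟨U, ι, V, V_le, V_cover, κ, W, Wl, Wr, Wc⟩ := c₀
  intro s hs
  simp only at s hs ⊢
  -- pairwise agreement on members of the basis
  have hP : ∀ i j (b : B) (h1 : (b : Opens X) ≤ (V i : Opens X))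
      (h2 : (b : Opens X) ≤ (V j : Opens X)), F.res h1 (s i) = F.res h2 (s j) := by
    intro i j b h1 h2
    let ι' : Type u := {p : κ i j × B // (p.2 : Opens X) ≤ (b : Opens X) ⊓ (W i j p.1 : Opens X)}
    refine shB_separated F C hCU hC H b ι' (fun p => p.1.2) (fun p => p.2.trans inf_le_left) ?_
      _ _ ?_
    · intro x hx
      have hxW : x ∈ (⨆ k, (W i j k : Opens X)) := Wc i j ⟨h1 hx, h2 hx⟩
      obtain ⟨k, hk⟩ := Opens.mem_iSup.mp hxW
      obtain ⟨b', hb'B, hxb', hb'⟩ := Opens.isBasis_iff_nbhd.mp hB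
        (show x ∈ (b : Opens X) ⊓ (W i j k : Opens X) from ⟨hx, hk⟩)
      exact Opens.mem_iSup.mpr ⟨⟨(k, ⟨b', hb'B⟩), hb'⟩, hxb'⟩
    · rintro ⟨⟨k, b'⟩, hb'⟩
      simp only
      rw [F.res_comp, F.res_comp]
      have e1 : F.res ((hb'.trans inf_le_left).trans h1) (s i) =
          F.res (hb'.trans inf_le_right) (F.res (Wl i j k) (s i)) := by
        rw [F.res_comp]
      have e2 : F.res ((hb'.trans inf_le_left).trans h2) (s j) =
          F.res (hb'.trans inf_le_right) (F.res (Wr i j k) (s j)) := by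
        rw [F.res_comp]
      rw [e1, e2, hs i j k]
  obtain ⟨c, hc, href⟩ := hC U ι V V_le V_cover
  have hcU := hCU U c hc
  subst hcU
  choose α hα using href
  have compat : ∀ i' j' (b : B) (h1 : (b : Opens X) ≤ (c.V i' : Opens X))
      (h2 : (b : Opens X) ≤ (c.V j' : Opens X)),
      F.res h1 (F.res (hα i') (s (α i'))) = F.res h2 (F.res (hα j') (s (α j'))) := by
    intro i' j' b h1 h2
    rw [F.res_comp, F.res_comp]
    exact hP _ _ b _ _
  obtain ⟨t, ht, htuniq⟩ := H _ c hc (fun i' => F.res (hα i') (s (α i'))) compat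
  refine ⟨t, ?_, ?_⟩
  · intro i
    let ι'' : Type u := {p : c.ι × B // (p.2 : Opens X) ≤ (V i : Opens X) ⊓ (c.V p.1 : Opens X)}
    refine shB_separated F C hCU hC H (V i) ι'' (fun p => p.1.2) (fun p => p.2.trans inf_le_left) ?_
      _ _ ?_
    · intro x hx
      have hxc : x ∈ (⨆ i', (c.V i' : Opens X)) := c.V_cover (V_le i hx)
      obtain ⟨i', hi'⟩ := Opens.mem_iSup.mp hxc
      obtain ⟨b', hb'B, hxb', hb'⟩ := Opens.isBasis_iff_nbhd.mp hB
        (show x ∈ (V i : Opens X) ⊓ (c.V i' : Opens X) from ⟨hx, hi'⟩)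
      exact Opens.mem_iSup.mpr ⟨⟨(i', ⟨b', hb'B⟩), hb'⟩, hxb'⟩
    · rintro ⟨⟨i', b'⟩, hb'⟩
      simp only
      rw [F.res_comp]
      have e1 : F.res ((hb'.trans inf_le_left).trans (V_le i)) t =
          F.res (hb'.trans inf_le_right) (F.res (c.V_le i') t) := by
        rw [F.res_comp]
      rw [e1, ht i', F.res_comp]
      exact hP _ _ b' _ _
  · intro t₂ ht₂
    apply htuniq
    intro i'
    rw [← ht₂ (α i'), F.res_comp]

end

section germs

variable (hB : Opens.IsBasis B) (F : ShB.Pre B)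

/-- canonical covering datum from a covering by members of a basis -/
def shBCoverOf (hB : Opens.IsBasis B) (U : B) (ι : Type u) (V : ι → B)
    (hV : ∀ i, (V i : Opens X) ≤ (U : Opens X)) (hcov : (U : Opens X) ≤ ⨆ i, (V i : Opens X)) :
    ShB.Cover B where
  U := U
  ι := ι
  V := V
  V_le := hV
  V_cover := hcov
  κ := fun i j => {b : B // (b : Opens X) ≤ (V i : Opens X) ⊓ (V j : Opens X)}
  W := fun _ _ b => b.1
  W_le_left := fun _ _ b => b.2.trans inf_le_left
  W_le_right := fun _ _ b => b.2.trans inf_le_right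
  W_cover := fun i j x hx => by
    obtain ⟨b', hb'B, hxb', hb'⟩ := Opens.isBasis_iff_nbhd.mp hB hx
    exact Opens.mem_iSup.mpr ⟨⟨⟨b', hb'B⟩, hb'⟩, hxb'⟩

include hB in
theorem shB_glue (hF : ShB.IsSheaf F) (U : B) (ι : Type u) (V : ι → B)
    (hV : ∀ i, (V i : Opens X) ≤ (U : Opens X)) (hcov : (U : Opens X) ≤ ⨆ i, (V i : Opens X))
    (s : ∀ i, F.obj (V i))
    (hs : ∀ i j (b : B) (h1 : (b : Opens X) ≤ (V i : Opens X)) (h2 : (b : Opens X) ≤ (V j : Opens X)),
      F.res h1 (s i) = F.res h2 (s j)) :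
    ∃! t : F.obj U, ∀ i, F.res (hV i) t = s i :=
  hF (shBCoverOf hB U ι V hV hcov) s (fun i j k => hs i j k.1 _ _)

include hB in
theorem shB_sep (hF : ShB.IsSheaf F) (U : B) (ι : Type u) (V : ι → B)
    (hV : ∀ i, (V i : Opens X) ≤ (U : Opens X)) (hcov : (U : Opens X) ≤ ⨆ i, (V i : Opens X))
    (t t' : F.obj U) (h : ∀ i, F.res (hV i) t = F.res (hV i) t') : t = t' := by
  obtain ⟨t₀, _, huniq⟩ := shB_glue hB F hF U ι V hV hcov (fun i => F.res (hV i) t)
    (by intros; rw [F.res_comp, F.res_comp])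
  rw [huniq t (fun _ => rfl), huniq t' (fun i => (h i).symm)]

include hB in
theorem shB_stalkRel_equiv (x : X) : Equivalence (ShB.StalkRel F x) where
  refl a := ⟨a.1.1, a.1.2, le_rfl, le_rfl, rfl⟩
  symm := by
    rintro a b ⟨W, hxW, ha, hb, h⟩
    exact ⟨W, hxW, hb, ha, h.symm⟩
  trans := by
    rintro a b c ⟨W₁, hxW₁, ha, hb, h₁⟩ ⟨W₂, hxW₂, hb', hc, h₂⟩
    obtain ⟨W₃, hW₃B, hxW₃, hW₃⟩ := Opens.isBasis_iff_nbhd.mp hB
      (show x ∈ (W₁ : Opens X) ⊓ (W₂ : Opens X) from ⟨hxW₁, hxW₂⟩)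
    refine ⟨⟨W₃, hW₃B⟩, hxW₃, (hW₃.trans inf_le_left).trans ha, (hW₃.trans inf_le_right).trans hc, ?_⟩
    have e1 : F.res ((hW₃.trans inf_le_left).trans ha) a.2 =
        F.res (U := W₁) (V := ⟨W₃, hW₃B⟩) (hW₃.trans inf_le_left) (F.res ha a.2) := by
      rw [F.res_comp]
    have e2 : F.res ((hW₃.trans inf_le_right).trans hc) c.2 =
        F.res (U := W₂) (V := ⟨W₃, hW₃B⟩) (hW₃.trans inf_le_right) (F.res hc c.2) := by
      rw [F.res_comp]
    rw [e1, e2, h₁, ← h₂, F.res_comp, F.res_comp]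

include hB in
theorem shB_germ_eq_iff {U V : B} (x : X) (hxU : x ∈ (U : Opens X)) (hxV : x ∈ (V : Opens X))
    (s : F.obj U) (t : F.obj V) :
    ShB.germ F x hxU s = ShB.germ F x hxV t ↔
      ∃ (W : B) (_ : x ∈ (W : Opens X)) (ha : (W : Opens X) ≤ (U : Opens X))
        (hb : (W : Opens X) ≤ (V : Opens X)), F.res ha s = F.res hb t := by
  have h1 : ShB.germ F x hxU s = ShB.germ F x hxV t ↔
      (Quot.mk (ShB.StalkRel F x) ⟨⟨U, hxU⟩, s⟩ : Quot (ShB.StalkRel F x)) =
        Quot.mk (ShB.StalkRel F x) ⟨⟨V, hxV⟩, t⟩ := Iff.rfl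
  rw [h1, Quot.eq, (shB_stalkRel_equiv hB F x).eqvGen_iff]
  rfl

theorem shB_germ_res {U V : B} (h : (V : Opens X) ≤ (U : Opens X)) (x : X)
    (hx : x ∈ (V : Opens X)) (s : F.obj U) :
    ShB.germ F x hx (F.res h s) = ShB.germ F x (h hx) s := by
  apply Quot.sound
  exact ⟨V, hx, le_rfl, h, by rw [F.res_id]⟩

include hB in
/-- sections of a sheaf on a basis are determined by their germs -/
theorem shB_germ_injective (hF : ShB.IsSheaf F) (U : B) (s s' : F.obj U)
    (h : ∀ (x : X) (hx : x ∈ (U : Opens X)), ShB.germ F x hx s = ShB.germ F x hx s') : s = s' := by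
  have hW : ∀ x : (U : Opens X), ∃ (W : B), x.1 ∈ (W : Opens X) ∧
      ∃ (hWU : (W : Opens X) ≤ (U : Opens X)), F.res hWU s = F.res hWU s' := by
    intro x
    obtain ⟨W, hxW, ha, hb, hres⟩ := (shB_germ_eq_iff hB F x.1 x.2 x.2 s s').mp (h x.1 x.2)
    exact ⟨W, hxW, ha, hres⟩
  choose W hxW hWU hres using hW
  refine shB_sep hB F hF U (U : Opens X) W hWU ?_ s s' hres
  intro x hx
  exact Opens.mem_iSup.mpr ⟨⟨x, hx⟩, hxW ⟨x, hx⟩⟩

end germs

end Groth.Agent.Lib.Helper11
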