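import Mathlib
import Groth.Prelude.Def_W4stktopologysheavesBas
import Groth.Agent.Lib.Helper11ShB

set_option autoImplicit false
universe u
open TopologicalSpace CategoryTheory Opposite

namespace Groth.Agent.Lib.Helper11

variable {X : Type u} [TopologicalSpace X] {B : Set (Opens X)}

section ext

variable (hB : Opens.IsBasis B) (F : ShB.Pre B)

include hB in
/-- unique section with prescribed locally-sectional germs -/
theorem shB_existsUnique_of_local (hF : ShB.IsSheaf F) (U : B)
    (f : ∀ x : (U : Opens X), ShB.Stalk F x.1)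
    (hf : ∀ x : (U : Opens X), ∃ (V : B) (_ : x.1 ∈ (V : Opens X))
      (hVU : (V : Opens X) ≤ (U : Opens X)) (σ : F.obj V),
      ∀ (y : X) (hy : y ∈ (V : Opens X)), ShB.germ F y hy σ = f ⟨y, hVU hy⟩) :
    ∃! s : F.obj U, ∀ x : (U : Opens X), ShB.germ F x.1 x.2 s = f x := by
  choose V hxV hVU σ hσ using hf
  have hcov : (U : Opens X) ≤ ⨆ x : (U : Opens X), (V x : Opens X) := by
    intro x hx
    exact Opens.mem_iSup.mpr ⟨⟨x, hx⟩, hxV ⟨x, hx⟩⟩
  have compat : ∀ (x x' : (U : Opens X)) (b : B)
      (h1 : (b : Opens X) ≤ (V x : Opens X)) (h2 : (b : Opens X) ≤ (V x' : Opens X)),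
      F.res h1 (σ x) = F.res h2 (σ x') := by
    intro x x' b h1 h2
    apply shB_germ_injective hB F hF b
    intro y hy
    rw [shB_germ_res, shB_germ_res, hσ x y (h1 hy), hσ x' y (h2 hy)]
  obtain ⟨s, hs, -⟩ := shB_glue hB F hF U (U : Opens X) V hVU hcov σ compat
  refine ⟨s, fun x => ?_, fun s' hs' => ?_⟩
  · rw [← shB_germ_res F (hVU x) x.1 (hxV x) s, hs x]
    exact hσ x x.1 (hxV x)
  · apply shB_germ_injective hB F hF U
    intro x hx
    rw [hs' ⟨x, hx⟩, ← shB_germ_res F (hVU ⟨x, hx⟩) x (hxV ⟨x, hx⟩) s, hs ⟨x, hx⟩]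
    exact (hσ ⟨x, hx⟩ x (hxV ⟨x, hx⟩)).symm

/-- the local predicate: families of germs locally given by sections over members of the basis -/
def shBLocalPredicate (hB : Opens.IsBasis B) (F : ShB.Pre B) :
    TopCat.LocalPredicate (X := TopCat.of X) (fun x => ShB.Stalk F x) where
  pred {U} f := ∀ x : U, ∃ (V : B) (_ : x.1 ∈ (V : Opens X))
      (hVU : (V : Opens X) ≤ U) (σ : F.obj V),
      ∀ (y : X) (hy : y ∈ (V : Opens X)), ShB.germ F y hy σ = f ⟨y, hVU hy⟩
  res {U' U} i f hf x := by
    obtain ⟨V, hxV, hVU, σ, hσ⟩ := hf ⟨x.1, i.le x.2⟩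
    obtain ⟨V', hV'B, hxV', hV'⟩ := Opens.isBasis_iff_nbhd.mp hB
      (show x.1 ∈ (V : Opens X) ⊓ U' from ⟨hxV, x.2⟩)
    refine ⟨⟨V', hV'B⟩, hxV', hV'.trans inf_le_right, F.res (hV'.trans inf_le_left) σ, ?_⟩
    intro y hy
    rw [shB_germ_res]
    exact hσ y _
  locality {U} f hf x := by
    obtain ⟨V, m, i, hV⟩ := hf x
    obtain ⟨V', hxV', hV'V, σ, hσ⟩ := hV ⟨x.1, m⟩
    exact ⟨V', hxV', hV'V.trans i.le, σ, fun y hy => hσ y hy⟩

/-- the extension of a sheaf on a basis to a sheaf on the space -/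
noncomputable def shBExt (hB : Opens.IsBasis B) (F : ShB.Pre B) :
    TopCat.Sheaf (Type u) (TopCat.of X) :=
  TopCat.subsheafToTypes (shBLocalPredicate hB F)

/-- sections of the extension over a member of the basis, as a subtype -/
abbrev shBExtObj (hB : Opens.IsBasis B) (F : ShB.Pre B) (U : B) : Type u :=
  {f : ∀ x : (U : Opens X), ShB.Stalk F x.1 // (shBLocalPredicate hB F).pred (U := (U : Opens X)) f}

/-- the section of `F` over `U` attached to a section of the extension -/
noncomputable def shBToF (hF : ShB.IsSheaf F) (U : B) (t : shBExtObj hB F U) : F.obj U :=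
  (shB_existsUnique_of_local hB F hF U t.1 t.2).choose

theorem shBToF_spec (hF : ShB.IsSheaf F) (U : B) (t : shBExtObj hB F U) (x : (U : Opens X)) :
    ShB.germ F x.1 x.2 (shBToF hB F hF U t) = t.1 x :=
  (shB_existsUnique_of_local hB F hF U t.1 t.2).choose_spec.1 x

theorem shBToF_uniq (hF : ShB.IsSheaf F) (U : B) (t : shBExtObj hB F U) (s : F.obj U)
    (hs : ∀ x : (U : Opens X), ShB.germ F x.1 x.2 s = t.1 x) : s = shBToF hB F hF U t :=
  (shB_existsUnique_of_local hB F hF U t.1 t.2).choose_spec.2 s hs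

/-- the section of the extension attached to a section of `F` -/
def shBOfF (U : B) (s : F.obj U) : shBExtObj hB F U :=
  ⟨fun x => ShB.germ F x.1 x.2 s, fun x => ⟨U, x.2, le_rfl, s, fun _ _ => rfl⟩⟩

/-- the restriction of the extension to the basis is isomorphic to `F` -/
noncomputable def shBExtIso (hF : ShB.IsSheaf F) :
    ShB.Iso (ShB.restrict B (shBExt hB F).presheaf) F where
  hom :=
    { app := fun U t => shBToF hB F hF U t
      natural := by
        intro U V h t
        apply shBToF_uniq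
        intro x
        rw [shB_germ_res]
        exact shBToF_spec hB F hF U t ⟨x.1, h x.2⟩ }
  inv :=
    { app := fun U s => shBOfF hB F U s
      natural := by
        intro U V h s
        apply Subtype.ext
        funext x
        exact (shB_germ_res F h x.1 x.2 s).symm }
  hom_inv := by
    intro U t
    apply Subtype.ext
    funext x
    exact shBToF_spec hB F hF U t x
  inv_hom := by
    intro U s
    exact (shBToF_uniq hB F hF U (shBOfF hB F U s) s (fun _ => rfl)).symm

end ext

section uniq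

variable (hB : Opens.IsBasis B) (F : ShB.Pre B)

include hB in
theorem shB_ext_unique (G G' : TopCat.Sheaf (Type u) (TopCat.of X))
    (e : ShB.Iso (ShB.restrict B G.presheaf) F) (e' : ShB.Iso (ShB.restrict B G'.presheaf) F) :
    ∃! φ : G ⟶ G', IsIso φ ∧ ∀ (U : B) (s : G.presheaf.obj (op (U : Opens X))),
      e'.hom.app U (φ.1.app (op (U : Opens X)) s) = e.hom.app U s := by
  let Bf : B → Opens (TopCat.of X) := fun U => U.1
  have hbasis : Opens.IsBasis (Set.range Bf) := by
    have : Set.range Bf = B := Subtype.range_coe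
    rw [this]; exact hB
  let α : (inducedFunctor Bf).op ⋙ G.presheaf ⟶ (inducedFunctor Bf).op ⋙ G'.1 :=
    { app := fun U => ↾(fun s => e'.inv.app U.unop (e.hom.app U.unop s))
      naturality := by
        intro U V f
        ext s
        have h : (Bf V.unop : Opens X) ≤ (Bf U.unop : Opens X) := leOfHom f.unop.hom
        have h1 := e.hom.natural h s
        have h2 := e'.inv.natural h (e.hom.app U.unop s)
        have hf : f.unop.hom = homOfLE h := Subsingleton.elim _ _
        simp only [Functor.comp_obj, Functor.op_obj, Functor.comp_map, Functor.op_map,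
          inducedFunctor_map]
        rw [hf]
        change e'.inv.app V.unop (e.hom.app V.unop ((ShB.restrict B G.presheaf).res h s)) =
          (ShB.restrict B G'.presheaf).res h (e'.inv.app U.unop (e.hom.app U.unop s))
        rw [h2, h1] }
  let φ₀ : G.presheaf ⟶ G'.1 := TopCat.Sheaf.restrictHomEquivHom G.presheaf G' hbasis α
  have hφ₀ : ∀ (U : B) (s : G.presheaf.obj (op (U : Opens X))),
      φ₀.app (op (U : Opens X)) s = e'.inv.app U (e.hom.app U s) := by
    intro U s
    have := TopCat.Sheaf.extend_hom_app G.presheaf G' hbasis α U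
    exact congrArg (fun g => g s) this
  let φ : G ⟶ G' := ObjectProperty.homMk φ₀
  refine ⟨φ, ⟨?_, ?_⟩, ?_⟩
  · apply TopCat.Sheaf.isIso_iff_isIso_basis hbasis
    intro U
    refine ⟨⟨↾(fun t => e.inv.app U (e'.hom.app U t)), ?_, ?_⟩⟩
    · ext s
      change e.inv.app U (e'.hom.app U (φ₀.app (op (U : Opens X)) s)) = s
      rw [hφ₀, e'.inv_hom, e.hom_inv]
    · ext t
      change φ₀.app (op (U : Opens X)) (e.inv.app U (e'.hom.app U t)) = t
      rw [hφ₀, e.inv_hom, e'.hom_inv]
  · intro U s
    change e'.hom.app U (φ₀.app (op (U : Opens X)) s) = e.hom.app U s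
    rw [hφ₀, e'.inv_hom]
  · rintro ψ ⟨-, hψ⟩
    apply ObjectProperty.hom_ext
    apply TopCat.Sheaf.hom_ext G.presheaf G' hbasis
    intro U
    ext s
    change ψ.1.app (op (U : Opens X)) s = φ₀.app (op (U : Opens X)) s
    rw [hφ₀, ← hψ U s, e'.hom_inv]

end uniq

end Groth.Agent.Lib.Helper11
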