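import Mathlib
import Groth.Prelude.Def_SpSeq
import Groth.Agent.Lib.Helper11SubElt

/-!
# Subquotients in an abelian category via generalized elements (helper11)
-/

set_option autoImplicit false
open CategoryTheory CategoryTheory.Limits

namespace Groth.Agent.Lib.Helper11.SubQuot

open Groth.Agent.Lib.Helper11.SubElt

universe v u

variable {A : Type u} [Category.{v} A] [Abelian A]

/-- the supremum of two subobjects is the image of the sum map -/
theorem sup_eq_image {X : A} (S S' : Subobject X) :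
    S ⊔ S' = imageSubobject (biprod.desc S.arrow S'.arrow) := by
  apply le_antisymm
  · refine sup_le (Subobject.le_of_factors ?_) (Subobject.le_of_factors ?_)
    · have h := imageSubobject_factors_comp_self (f := biprod.desc S.arrow S'.arrow) biprod.inl
      rwa [biprod.inl_desc] at h
    · have h := imageSubobject_factors_comp_self (f := biprod.desc S.arrow S'.arrow) biprod.inr
      rwa [biprod.inr_desc] at h
  · refine imageSubobject_le_of_factors _ _ (factors_biprod_desc _ _ _ ?_ ?_)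
    · exact Subobject.sup_factors_of_factors_left (Subobject.factors_self S)
    · exact Subobject.sup_factors_of_factors_right (Subobject.factors_self S')

/-- elements of a supremum decompose, up to refinements -/
theorem factors_sup_iff {X T : A} (S S' : Subobject X) (y : T ⟶ X) :
    (S ⊔ S').Factors y ↔ ∃ (T' : A) (π : T' ⟶ T) (_ : Epi π) (a b : T' ⟶ X),
      S.Factors a ∧ S'.Factors b ∧ π ≫ y = a + b := by
  constructor
  · intro h
    rw [sup_eq_image] at h
    obtain ⟨T', π, hπ, z, hz⟩ := (factors_imageSubobject_iff _ _).mp h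
    refine ⟨T', π, hπ, z ≫ biprod.fst ≫ S.arrow, z ≫ biprod.snd ≫ S'.arrow, ?_, ?_, ?_⟩
    · rw [← Category.assoc]; exact Subobject.factors_comp_arrow _
    · rw [← Category.assoc]; exact Subobject.factors_comp_arrow _
    · rw [hz, biprod.desc_eq, Preadditive.comp_add]
  · rintro ⟨T', π, hπ, a, b, ha, hb, hab⟩
    refine factors_of_epi_comp π y _ ?_
    rw [hab]
    exact Subobject.factors_add _ _ (Subobject.sup_factors_of_factors_left ha)
      (Subobject.sup_factors_of_factors_right hb)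

/-- the map from a smaller subobject to a subquotient -/
noncomputable def toSQ {X : A} (T Z B : Subobject X) (hTZ : T ≤ Z) (hBZ : B ≤ Z) :
    (T : A) ⟶ cokernel (B.ofLE Z hBZ) :=
  T.ofLE Z hTZ ≫ cokernel.π (B.ofLE Z hBZ)

theorem comp_π_eq_zero_iff {X W : A} (Z B : Subobject X) (hBZ : B ≤ Z) (z : W ⟶ (Z : A)) :
    z ≫ cokernel.π (B.ofLE Z hBZ) = 0 ↔ B.Factors (z ≫ Z.arrow) := by
  constructor
  · intro h
    have hker : IsLimit (KernelFork.ofι (B.ofLE Z hBZ) (cokernel.condition _)) :=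
      Abelian.monoIsKernelOfCokernel _ (colimit.isColimit _)
    have h2 : z = hker.lift (KernelFork.ofι z h) ≫ B.ofLE Z hBZ :=
      (hker.fac (KernelFork.ofι z h) WalkingParallelPair.zero).symm
    rw [h2, Category.assoc, Subobject.ofLE_arrow]
    exact Subobject.factors_comp_arrow _
  · intro h
    have h2 : z = B.factorThru _ h ≫ B.ofLE Z hBZ := by
      rw [← cancel_mono Z.arrow, Category.assoc, Subobject.ofLE_arrow,
        Subobject.factorThru_arrow]
    rw [h2, Category.assoc, cokernel.condition, comp_zero]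

theorem comp_toSQ_eq_zero_iff {X W : A} (T Z B : Subobject X) (hTZ : T ≤ Z) (hBZ : B ≤ Z)
    (t : W ⟶ (T : A)) : t ≫ toSQ T Z B hTZ hBZ = 0 ↔ B.Factors (t ≫ T.arrow) := by
  unfold toSQ
  rw [← Category.assoc, comp_π_eq_zero_iff, Category.assoc, Subobject.ofLE_arrow]

theorem epi_toSQ {X : A} (T Z B : Subobject X) (hTZ : T ≤ Z) (hBZ : B ≤ Z) (h : Z ≤ T ⊔ B) :
    Epi (toSQ T Z B hTZ hBZ) := by
  rw [epi_iff_surjective_up_to_refinements]
  intro W y
  obtain ⟨W1, π1, hπ1, z, hz⟩ := surjective_up_to_refinements_of_epi (cokernel.π (B.ofLE Z hBZ)) y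
  have hz' : (T ⊔ B).Factors (z ≫ Z.arrow) :=
    Subobject.factors_of_le _ h (Subobject.factors_comp_arrow _)
  obtain ⟨W2, π2, hπ2, a, b, ha, hb, hab⟩ := (factors_sup_iff _ _ _).mp hz'
  refine ⟨W2, π2 ≫ π1, inferInstance, T.factorThru a ha, ?_⟩
  -- π2 ≫ z = (factorThru a) ≫ ofLE + (factorThru b) ≫ ofLE
  have e : π2 ≫ z = T.factorThru a ha ≫ T.ofLE Z hTZ + B.factorThru b hb ≫ B.ofLE Z hBZ := by
    rw [← cancel_mono Z.arrow, Preadditive.add_comp]
    simp only [Category.assoc, Subobject.ofLE_arrow, Subobject.factorThru_arrow]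
    exact hab
  unfold toSQ
  rw [Category.assoc, hz, ← Category.assoc π2, e, Preadditive.add_comp, Category.assoc,
    Category.assoc, cokernel.condition, comp_zero, add_zero]

/-- two epimorphisms from the same object with the same "kernel" have isomorphic targets -/
theorem nonempty_iso_of_epi_of_kernel {T Q₁ Q₂ : A} (α : T ⟶ Q₁) (β : T ⟶ Q₂) [Epi α] [Epi β]
    (h : ∀ (W : A) (t : W ⟶ T), t ≫ α = 0 ↔ t ≫ β = 0) : Nonempty (Q₁ ≅ Q₂) := by
  have hα : IsColimit (CokernelCofork.ofπ α (kernel.condition α)) :=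
    Abelian.epiIsCokernelOfKernel _ (limit.isLimit _)
  have hβ : IsColimit (CokernelCofork.ofπ β (kernel.condition β)) :=
    Abelian.epiIsCokernelOfKernel _ (limit.isLimit _)
  have h1 : kernel.ι α ≫ β = 0 := (h _ _).mp (kernel.condition α)
  have h2 : kernel.ι β ≫ α = 0 := (h _ _).mpr (kernel.condition β)
  let u : Q₁ ⟶ Q₂ := hα.desc (CokernelCofork.ofπ β h1)
  let v : Q₂ ⟶ Q₁ := hβ.desc (CokernelCofork.ofπ α h2)
  have hu : α ≫ u = β := hα.fac (CokernelCofork.ofπ β h1) WalkingParallelPair.one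
  have hv : β ≫ v = α := hβ.fac (CokernelCofork.ofπ α h2) WalkingParallelPair.one
  refine ⟨⟨u, v, ?_, ?_⟩⟩
  · rw [← cancel_epi α, ← Category.assoc, hu, hv, Category.comp_id]
  · rw [← cancel_epi β, ← Category.assoc, hv, hu, Category.comp_id]

section ses

variable {X : A} (B S Z : Subobject X) (hBS : B ≤ S) (hSZ : S ≤ Z)

/-- `S/B ⟶ Z/B` -/
noncomputable def sqIncl : cokernel (B.ofLE S hBS) ⟶ cokernel (B.ofLE Z (hBS.trans hSZ)) :=
  cokernel.map (B.ofLE S hBS) (B.ofLE Z (hBS.trans hSZ)) (𝟙 _) (S.ofLE Z hSZ) (by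
    rw [Category.id_comp, Subobject.ofLE_comp_ofLE])

/-- `Z/B ⟶ Z/S` -/
noncomputable def sqProj : cokernel (B.ofLE Z (hBS.trans hSZ)) ⟶ cokernel (S.ofLE Z hSZ) :=
  cokernel.map (B.ofLE Z (hBS.trans hSZ)) (S.ofLE Z hSZ) (B.ofLE S hBS) (𝟙 _) (by
    rw [Category.comp_id, Subobject.ofLE_comp_ofLE])

lemma π_sqIncl : cokernel.π (B.ofLE S hBS) ≫ sqIncl B S Z hBS hSZ =
    S.ofLE Z hSZ ≫ cokernel.π (B.ofLE Z (hBS.trans hSZ)) := by
  unfold sqIncl
  exact cokernel.π_desc _ _ _

lemma π_sqProj : cokernel.π (B.ofLE Z (hBS.trans hSZ)) ≫ sqProj B S Z hBS hSZ =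
    cokernel.π (S.ofLE Z hSZ) := by
  unfold sqProj
  rw [cokernel.π_desc, Category.id_comp]

lemma sqIncl_sqProj : sqIncl B S Z hBS hSZ ≫ sqProj B S Z hBS hSZ = 0 := by
  rw [← cancel_epi (cokernel.π (B.ofLE S hBS)), ← Category.assoc, π_sqIncl, Category.assoc,
    π_sqProj, cokernel.condition, comp_zero]

theorem shortExact_sq :
    (ShortComplex.mk (sqIncl B S Z hBS hSZ) (sqProj B S Z hBS hSZ)
      (sqIncl_sqProj B S Z hBS hSZ)).ShortExact := by
  have hepi : Epi (sqProj B S Z hBS hSZ) := by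
    have : Epi (cokernel.π (B.ofLE Z (hBS.trans hSZ)) ≫ sqProj B S Z hBS hSZ) := by
      rw [π_sqProj]; infer_instance
    exact epi_of_epi (cokernel.π (B.ofLE Z (hBS.trans hSZ))) _
  have hmono : Mono (sqIncl B S Z hBS hSZ) := by
    rw [Preadditive.mono_iff_cancel_zero]
    intro W y hy
    obtain ⟨W1, π1, hπ1, s, hs⟩ := surjective_up_to_refinements_of_epi (cokernel.π (B.ofLE S hBS)) y
    have h1 : (s ≫ S.ofLE Z hSZ) ≫ cokernel.π (B.ofLE Z (hBS.trans hSZ)) = 0 := by
      rw [Category.assoc, ← π_sqIncl B S Z hBS hSZ, ← Category.assoc, ← hs, Category.assoc, hy,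
        comp_zero]
    rw [comp_π_eq_zero_iff, Category.assoc, Subobject.ofLE_arrow] at h1
    have h2 : s ≫ cokernel.π (B.ofLE S hBS) = 0 := (comp_π_eq_zero_iff S B hBS s).mpr h1
    rw [← cancel_epi π1, hs, h2, comp_zero]
  refine ShortComplex.ShortExact.mk' ?_ hmono hepi
  rw [ShortComplex.exact_iff_exact_up_to_refinements]
  intro W y hy
  dsimp at y hy
  obtain ⟨W1, π1, hπ1, z, hz⟩ := surjective_up_to_refinements_of_epi
    (cokernel.π (B.ofLE Z (hBS.trans hSZ))) y
  have h1 : z ≫ cokernel.π (S.ofLE Z hSZ) = 0 := by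
    rw [← π_sqProj B S Z hBS hSZ, ← Category.assoc, ← hz, Category.assoc, hy, comp_zero]
  rw [comp_π_eq_zero_iff] at h1
  refine ⟨W1, π1, hπ1, S.factorThru _ h1 ≫ cokernel.π (B.ofLE S hBS), ?_⟩
  dsimp
  rw [Category.assoc, π_sqIncl, hz, ← Category.assoc]
  congr 1
  rw [← cancel_mono Z.arrow, Category.assoc, Subobject.ofLE_arrow, Subobject.factorThru_arrow]

end ses

section WeakSerre

variable (P : ObjectProperty A)
  (h0 : ∃ Z : A, IsZero Z ∧ P Z)
  (hP : ∀ S : ComposableArrows A 4, S.Exact → P (S.obj 0) → P (S.obj 1) → P (S.obj 3) →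
    P (S.obj 4) → P (S.obj 2))

include h0 hP

theorem prop_of_left_exact {X' X Y : A} (i : X' ⟶ X) (φ : X ⟶ Y) (w : i ≫ φ = 0) [Mono i]
    (hex : (ShortComplex.mk i φ w).Exact) (hX : P X) (hY : P Y) : P X' := by
  obtain ⟨Z, hZ, hPZ⟩ := h0
  let S : ComposableArrows A 4 := ComposableArrows.mk₄ (0 : Z ⟶ Z) (0 : Z ⟶ X') i φ
  have hS : S.Exact := by
    refine ComposableArrows.exact_of_δ₀ ?_ (ComposableArrows.exact_of_δ₀ ?_ ?_)
    · exact (ShortComplex.exact_of_isZero_X₂
        (ShortComplex.mk (0 : Z ⟶ Z) (0 : Z ⟶ X') (by simp)) hZ).exact_toComposableArrows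
    · exact ((ShortComplex.mk (0 : Z ⟶ X') i (by simp)).exact_iff_mono rfl).2 ‹_›
        |>.exact_toComposableArrows
    · exact hex.exact_toComposableArrows
  exact hP S hS hPZ hPZ hX hY

theorem prop_of_right_exact {X Y Y'' : A} (φ : X ⟶ Y) (q : Y ⟶ Y'') (w : φ ≫ q = 0) [Epi q]
    (hex : (ShortComplex.mk φ q w).Exact) (hX : P X) (hY : P Y) : P Y'' := by
  obtain ⟨Z, hZ, hPZ⟩ := h0
  let S : ComposableArrows A 4 := ComposableArrows.mk₄ φ q (0 : Y'' ⟶ Z) (0 : Z ⟶ Z)
  have hS : S.Exact := by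
    refine ComposableArrows.exact_of_δ₀ ?_ (ComposableArrows.exact_of_δ₀ ?_ ?_)
    · exact hex.exact_toComposableArrows
    · exact ((ShortComplex.mk q (0 : Y'' ⟶ Z) (by simp)).exact_iff_epi rfl).2 ‹_›
        |>.exact_toComposableArrows
    · exact (ShortComplex.exact_of_isZero_X₂
        (ShortComplex.mk (0 : Y'' ⟶ Z) (0 : Z ⟶ Z) (by simp)) hZ).exact_toComposableArrows
  exact hP S hS hX hY hPZ hPZ

theorem prop_of_shortExact {S : ShortComplex A} (hS : S.ShortExact) (h1 : P S.X₁) (h3 : P S.X₃) :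
    P S.X₂ := by
  obtain ⟨Z, hZ, hPZ⟩ := h0
  haveI := hS.mono_f
  haveI := hS.epi_g
  let T : ComposableArrows A 4 := ComposableArrows.mk₄ (0 : Z ⟶ S.X₁) S.f S.g (0 : S.X₃ ⟶ Z)
  have hT : T.Exact := by
    refine ComposableArrows.exact_of_δ₀ ?_ (ComposableArrows.exact_of_δ₀ ?_ ?_)
    · exact ((ShortComplex.mk (0 : Z ⟶ S.X₁) S.f (by simp)).exact_iff_mono rfl).2 ‹_›
        |>.exact_toComposableArrows
    · exact hS.exact.exact_toComposableArrows
    · exact ((ShortComplex.mk S.g (0 : S.X₃ ⟶ Z) (by simp)).exact_iff_epi rfl).2 ‹_›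
        |>.exact_toComposableArrows
  exact hP T hT hPZ h1 h3 hPZ

omit hP in
theorem prop_of_isZero [P.IsClosedUnderIsomorphisms] {X : A} (hX : IsZero X) : P X := by
  obtain ⟨Z, hZ, hPZ⟩ := h0
  exact P.prop_of_iso (hZ.iso hX) hPZ

end WeakSerre

end Groth.Agent.Lib.Helper11.SubQuot
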