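import Mathlib
import Groth.Prelude.Def_SpSeq
import Groth.Agent.Lib.Helper11SubQuot
import Groth.Agent.Lib.Helper11FilCxElt

/-!
# The step `E_s ↦ E_{s+1}` of the spectral sequence of a filtered complex (helper11)
-/

set_option autoImplicit false
open CategoryTheory CategoryTheory.Limits

namespace Groth.Agent.Lib.Helper11.SpSeqStep

open Groth.Agent.Lib.Helper11.SubElt Groth.Agent.Lib.Helper11.SubQuot
  Groth.Agent.Lib.Helper11.FilCxElt

universe v u

variable {A : Type u} [Category.{v} A] [Abelian A] (K : SpSeq.FilCx A)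

/-- `F^p K^i ∩ d⁻¹ F^q K^j` -/
noncomputable def Apart (p q i j : ℤ) : Subobject (K.obj.X i) :=
  K.filX p i ⊓ (Subobject.pullback (K.obj.d i j)).obj (K.filX q j)

/-- `F^p K^j ∩ d(F^q K^i)` -/
noncomputable def Ipart (p q i j : ℤ) : Subobject (K.obj.X j) :=
  K.filX p j ⊓ imageSubobject ((K.filX q i).arrow ≫ K.obj.d i j)

lemma factors_Apart_iff {T : A} (p q i j : ℤ) (x : T ⟶ K.obj.X i) :
    (Apart K p q i j).Factors x ↔
      (K.filX p i).Factors x ∧ (K.filX q j).Factors (x ≫ K.obj.d i j) := by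
  unfold Apart
  rw [Subobject.inf_factors, pullback_factors_iff]

lemma factors_Ipart_iff {T : A} (p q i j : ℤ) (x : T ⟶ K.obj.X j) :
    (Ipart K p q i j).Factors x ↔
      (K.filX p j).Factors x ∧ ∃ (T' : A) (π : T' ⟶ T) (_ : Epi π) (z : T' ⟶ K.obj.X i),
        (K.filX q i).Factors z ∧ π ≫ x = z ≫ K.obj.d i j := by
  unfold Ipart
  rw [Subobject.inf_factors, factors_imageSubobject_iff]
  constructor
  · rintro ⟨h1, T', π, hπ, z, hz⟩
    exact ⟨h1, T', π, hπ, z ≫ (K.filX q i).arrow, Subobject.factors_comp_arrow _,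
      by rw [hz, Category.assoc]⟩
  · rintro ⟨h1, T', π, hπ, z, hz1, hz2⟩
    exact ⟨h1, T', π, hπ, (K.filX q i).factorThru z hz1,
      by rw [hz2, Subobject.factorThru_arrow_assoc]⟩

lemma ZSub_eq (s : ℕ) (p n p1 q : ℤ) (h1 : p1 = p + 1) (hq : q = p + s) :
    K.ZSub s p n = Apart K p q n (n + 1) ⊔ K.filX p1 n := by
  subst h1 hq
  rfl

lemma BSub_eq (s : ℕ) (p n p1 q i : ℤ) (h1 : p1 = p + 1) (hq : q = p - s + 1) (hi : i = n - 1) :
    K.BSub s p n = Ipart K p q i n ⊔ K.filX p1 n := by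
  subst h1 hq hi
  rfl

/-- The key isomorphism `Z_s^{p}/Z_{s+1}^{p} ≅ B_{s+1}^{p+s}/B_s^{p+s}` (in general indices). -/
theorem key_iso (p p1 q q1 i j : ℤ) (hp : p ≤ p1) (hq : q ≤ q1)
    (Z Z' : Subobject (K.obj.X i)) (B B' : Subobject (K.obj.X j))
    (hZ : Z = Apart K p q i j ⊔ K.filX p1 i) (hZ' : Z' = Apart K p q1 i j ⊔ K.filX p1 i)
    (hB : B = Ipart K q p1 i j ⊔ K.filX q1 j) (hB' : B' = Ipart K q p i j ⊔ K.filX q1 j)
    (h₁ : Z' ≤ Z) (h₂ : B ≤ B') :
    Nonempty (cokernel (Z'.ofLE Z h₁) ≅ cokernel (B.ofLE B' h₂)) := by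
  subst hZ hZ' hB hB'
  -- the common source
  let T : Subobject (K.obj.X i) := Apart K p q i j
  have hT1 : (K.filX p i).Factors T.arrow :=
    ((factors_Apart_iff K p q i j _).mp (Subobject.factors_self _)).1
  have hT2 : (K.filX q j).Factors (T.arrow ≫ K.obj.d i j) :=
    ((factors_Apart_iff K p q i j _).mp (Subobject.factors_self _)).2
  -- first map
  have hTZ : T ≤ Apart K p q i j ⊔ K.filX p1 i := le_sup_left
  have hα : Epi (toSQ T _ _ hTZ h₁) := by
    refine epi_toSQ T _ _ hTZ h₁ ?_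
    exact sup_le_sup_left le_sup_right _
  -- second map
  let T' : Subobject (K.obj.X j) := imageSubobject (T.arrow ≫ K.obj.d i j)
  have hT'B : T' ≤ Ipart K q p i j ⊔ K.filX q1 j := by
    refine le_trans (imageSubobject_le_of_factors _ _ ?_) le_sup_left
    refine (factors_Ipart_iff K q p i j _).mpr ⟨hT2, _, 𝟙 _, inferInstance, T.arrow, hT1, ?_⟩
    rw [Category.id_comp]
  have hcov : Ipart K q p i j ⊔ K.filX q1 j ≤ T' ⊔ (Ipart K q p1 i j ⊔ K.filX q1 j) := by
    refine sup_le ?_ (le_trans le_sup_right le_sup_right)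
    refine le_trans (Subobject.le_of_factors ?_) le_sup_left
    obtain ⟨hc1, W, π, hπ, z, hz1, hz2⟩ :=
      (factors_Ipart_iff K q p i j _).mp (Subobject.factors_self (Ipart K q p i j))
    refine factors_of_epi_comp π _ _ ?_
    have hzA : T.Factors z := by
      refine (factors_Apart_iff K p q i j z).mpr ⟨hz1, ?_⟩
      rw [← hz2]
      exact Subobject.factors_of_factors_right _ hc1
    rw [hz2, ← Subobject.factorThru_arrow _ _ hzA, Category.assoc]
    exact imageSubobject_factors_comp_self (f := T.arrow ≫ K.obj.d i j) _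
  haveI hβ' : Epi (toSQ T' _ _ hT'B h₂) := epi_toSQ T' _ _ hT'B h₂ hcov
  let β : (T : A) ⟶ cokernel ((Ipart K q p1 i j ⊔ K.filX q1 j).ofLE
      (Ipart K q p i j ⊔ K.filX q1 j) h₂) :=
    factorThruImageSubobject (T.arrow ≫ K.obj.d i j) ≫ toSQ T' _ _ hT'B h₂
  haveI hβ : Epi β := epi_comp _ _
  haveI := hα
  refine nonempty_iso_of_epi_of_kernel (toSQ T _ _ hTZ h₁) β ?_
  intro W t
  rw [comp_toSQ_eq_zero_iff]
  have e1 : t ≫ β = 0 ↔
      (Ipart K q p1 i j ⊔ K.filX q1 j).Factors ((t ≫ T.arrow) ≫ K.obj.d i j) := by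
    change (t ≫ factorThruImageSubobject (T.arrow ≫ K.obj.d i j) ≫ toSQ T' _ _ hT'B h₂ = 0) ↔ _
    rw [← Category.assoc, comp_toSQ_eq_zero_iff, Category.assoc, imageSubobject_arrow_comp,
      Category.assoc]
  rw [e1]
  -- the element `a`
  have ha1 : (K.filX p i).Factors (t ≫ T.arrow) := Subobject.factors_of_factors_right _ hT1
  have ha2 : (K.filX q j).Factors ((t ≫ T.arrow) ≫ K.obj.d i j) := by
    rw [Category.assoc]; exact Subobject.factors_of_factors_right _ hT2
  generalize t ≫ T.arrow = a at ha1 ha2 ⊢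
  constructor
  · intro h
    obtain ⟨W1, π, hπ, a₁, f, ha₁, hf, hsum⟩ := (factors_sup_iff _ _ _).mp h
    obtain ⟨ha₁1, ha₁2⟩ := (factors_Apart_iff K p q1 i j a₁).mp ha₁
    refine factors_of_epi_comp π _ _ ?_
    rw [← Category.assoc, hsum, Preadditive.add_comp, add_comm]
    refine Subobject.factors_add _ _ (Subobject.sup_factors_of_factors_left ?_)
      (Subobject.sup_factors_of_factors_right ha₁2)
    refine (factors_Ipart_iff K q p1 i j _).mpr ⟨?_, W1, 𝟙 _, inferInstance, f, hf, ?_⟩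
    · have : f ≫ K.obj.d i j = π ≫ a ≫ K.obj.d i j - a₁ ≫ K.obj.d i j := by
        rw [← Category.assoc, hsum, Preadditive.add_comp]; abel
      rw [this]
      exact factors_sub _ _ _ (Subobject.factors_of_factors_right _ ha2)
        (factors_filX_of_le K hq j _ ha₁2)
    · rw [Category.id_comp]
  · intro h
    obtain ⟨W1, π, hπ, c, v, hc, hv, hsum⟩ := (factors_sup_iff _ _ _).mp h
    obtain ⟨hc1, W2, π', hπ', w, hw1, hw2⟩ := (factors_Ipart_iff K q p1 i j c).mp hc
    refine factors_of_epi_comp (π' ≫ π) _ _ ?_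
    have : (π' ≫ π) ≫ a = ((π' ≫ π) ≫ a - w) + w := by abel
    rw [this]
    refine Subobject.factors_add _ _ (Subobject.sup_factors_of_factors_left ?_)
      (Subobject.sup_factors_of_factors_right hw1)
    refine (factors_Apart_iff K p q1 i j _).mpr ⟨?_, ?_⟩
    · exact factors_sub _ _ _ (Subobject.factors_of_factors_right _ ha1)
        (factors_filX_of_le K hp i _ hw1)
    · have : ((π' ≫ π) ≫ a - w) ≫ K.obj.d i j = π' ≫ v := by
        rw [Preadditive.sub_comp, Category.assoc, Category.assoc, hsum, Preadditive.comp_add,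
          hw2]
        abel
      rw [this]
      exact Subobject.factors_of_factors_right _ hv

lemma ZSub_succ_le (s : ℕ) (p n : ℤ) : K.ZSub (s + 1) p n ≤ K.ZSub s p n := by
  unfold SpSeq.FilCx.ZSub
  refine sup_le_sup_right (inf_le_inf_left _ ((Subobject.pullback _).monotone
    (K.filX_anti (n + 1) ?_))) _
  push_cast
  omega

lemma BSub_le_succ (s : ℕ) (p n : ℤ) : K.BSub s p n ≤ K.BSub (s + 1) p n := by
  unfold SpSeq.FilCx.BSub
  refine sup_le_sup_right (inf_le_inf_left _ ?_) _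
  have hle : K.filX (p - s + 1) (n - 1) ≤ K.filX (p - ((s + 1 : ℕ) : ℤ) + 1) (n - 1) := by
    refine K.filX_anti (n - 1) ?_
    push_cast
    omega
  refine SpSeq.FilCx.imageSubobject_le_of_fac (Subobject.ofLE _ _ hle) ?_
  rw [← Category.assoc, Subobject.ofLE_arrow]

lemma exact_comp_mono {X₁ X₂ X₃ X₄ : A} (f : X₁ ⟶ X₂) (g : X₂ ⟶ X₃) (m : X₃ ⟶ X₄) [Mono m]
    (w : f ≫ g = 0) (h : (ShortComplex.mk f g w).Exact) :
    (ShortComplex.mk f (g ≫ m) (by rw [reassoc_of% w, zero_comp])).Exact := by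
  rw [ShortComplex.exact_iff_exact_up_to_refinements] at h ⊢
  intro W x hx
  dsimp at x hx ⊢
  have hx' : x ≫ g = 0 :=
    Mono.right_cancellation (f := m) _ _ (by simp [hx])
  exact h x hx'

section step

variable (P : ObjectProperty A) [P.IsClosedUnderIsomorphisms]
  (h0 : ∃ Z : A, IsZero Z ∧ P Z)
  (hP : ∀ S : ComposableArrows A 4, S.Exact → P (S.obj 0) → P (S.obj 1) → P (S.obj 3) →
    P (S.obj 4) → P (S.obj 2))

include h0 hP

theorem step (s : ℕ) (hs : ∀ p n : ℤ, P (K.E s p n)) (p n : ℤ) : P (K.E (s + 1) p n) := by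
  have hE : ∀ p n : ℤ, P (cokernel ((K.BSub s p n).ofLE (K.ZSub s p n) (K.BSub_le_ZSub s p n))) :=
    hs
  -- (a) `Z_{s+1}/B_s` and (c) `B_{s+1}/B_s` one step further
  have hac : ∀ p n : ℤ,
      P (cokernel ((K.BSub s p n).ofLE (K.ZSub (s + 1) p n)
        ((BSub_le_succ K s p n).trans (K.BSub_le_ZSub (s + 1) p n)))) ∧
      P (cokernel ((K.BSub s (p + s) (n + 1)).ofLE (K.BSub (s + 1) (p + s) (n + 1))
        (BSub_le_succ K s (p + s) (n + 1)))) := by
    intro p n
    obtain ⟨e⟩ := key_iso K p (p + 1) (p + s) (p + ((s + 1 : ℕ) : ℤ)) n (n + 1) (by omega)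
      (by push_cast; omega)
      (K.ZSub s p n) (K.ZSub (s + 1) p n) (K.BSub s (p + s) (n + 1))
      (K.BSub (s + 1) (p + s) (n + 1))
      (ZSub_eq K s p n _ _ rfl rfl) (ZSub_eq K (s + 1) p n _ _ rfl rfl)
      (BSub_eq K s (p + s) (n + 1) _ _ _ (by push_cast; ring) (by ring) (by ring))
      (BSub_eq K (s + 1) (p + s) (n + 1) _ _ _ (by push_cast; ring) (by push_cast; ring)
        (by ring))
      (ZSub_succ_le K s p n) (BSub_le_succ K s (p + s) (n + 1))
    have hse := shortExact_sq (K.BSub s p n) (K.ZSub (s + 1) p n) (K.ZSub s p n)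
      ((BSub_le_succ K s p n).trans (K.BSub_le_ZSub (s + 1) p n)) (ZSub_succ_le K s p n)
    have hse' := shortExact_sq (K.BSub s (p + s) (n + 1)) (K.BSub (s + 1) (p + s) (n + 1))
      (K.ZSub s (p + s) (n + 1)) (BSub_le_succ K s (p + s) (n + 1))
      ((K.BSub_le_ZSub (s + 1) (p + s) (n + 1)).trans (ZSub_succ_le K s (p + s) (n + 1)))
    haveI : Mono (sqIncl (K.BSub s p n) (K.ZSub (s + 1) p n) (K.ZSub s p n)
      ((BSub_le_succ K s p n).trans (K.BSub_le_ZSub (s + 1) p n)) (ZSub_succ_le K s p n)) :=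
      hse.mono_f
    haveI : Epi (sqProj (K.BSub s p n) (K.ZSub (s + 1) p n) (K.ZSub s p n)
      ((BSub_le_succ K s p n).trans (K.BSub_le_ZSub (s + 1) p n)) (ZSub_succ_le K s p n)) :=
      hse.epi_g
    haveI : Mono (sqIncl (K.BSub s (p + s) (n + 1)) (K.BSub (s + 1) (p + s) (n + 1))
      (K.ZSub s (p + s) (n + 1)) (BSub_le_succ K s (p + s) (n + 1))
      ((K.BSub_le_ZSub (s + 1) (p + s) (n + 1)).trans (ZSub_succ_le K s (p + s) (n + 1)))) :=
      hse'.mono_f
    have ha : P (cokernel ((K.BSub s p n).ofLE (K.ZSub (s + 1) p n)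
        ((BSub_le_succ K s p n).trans (K.BSub_le_ZSub (s + 1) p n)))) := by
      refine prop_of_left_exact P h0 hP _ _ _
        (exact_comp_mono _ _ (e.hom ≫ sqIncl (K.BSub s (p + s) (n + 1))
          (K.BSub (s + 1) (p + s) (n + 1)) (K.ZSub s (p + s) (n + 1))
          (BSub_le_succ K s (p + s) (n + 1))
          ((K.BSub_le_ZSub (s + 1) (p + s) (n + 1)).trans (ZSub_succ_le K s (p + s) (n + 1))))
          _ hse.exact) (hE p n) (hE (p + s) (n + 1))
    have hb : P (cokernel ((K.ZSub (s + 1) p n).ofLE (K.ZSub s p n) (ZSub_succ_le K s p n))) :=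
      prop_of_right_exact P h0 hP _ _ _ hse.exact ha (hE p n)
    exact ⟨ha, P.prop_of_iso e hb⟩
  -- (c') `B_{s+1}/B_s` at an arbitrary position
  have hc : P (cokernel ((K.BSub s p n).ofLE (K.BSub (s + 1) p n) (BSub_le_succ K s p n))) := by
    have key : ∀ p' n' : ℤ, p' = p → n' = n →
        P (cokernel ((K.BSub s p' n').ofLE (K.BSub (s + 1) p' n') (BSub_le_succ K s p' n'))) →
        P (cokernel ((K.BSub s p n).ofLE (K.BSub (s + 1) p n) (BSub_le_succ K s p n))) := by
      rintro _ _ rfl rfl h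
      exact h
    exact key (p - s + s) (n - 1 + 1) (by ring) (by ring) (hac (p - s) (n - 1)).2
  -- (d)
  have hse := shortExact_sq (K.BSub s p n) (K.BSub (s + 1) p n) (K.ZSub (s + 1) p n)
    (BSub_le_succ K s p n) (K.BSub_le_ZSub (s + 1) p n)
  haveI : Epi (sqProj (K.BSub s p n) (K.BSub (s + 1) p n) (K.ZSub (s + 1) p n)
    (BSub_le_succ K s p n) (K.BSub_le_ZSub (s + 1) p n)) := hse.epi_g
  exact @prop_of_right_exact A _ _ P h0 hP _ _ _ _ _ _ hse.epi_g hse.exact hc (hac p n).1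

theorem step_le (r : ℕ) (hr : ∀ p n : ℤ, P (K.E r p n)) (s : ℕ) (hs : r ≤ s) (p n : ℤ) :
    P (K.E s p n) := by
  induction s, hs using Nat.le_induction generalizing p n with
  | base => exact hr p n
  | succ s _ ih => exact step K P h0 hP s ih p n

end step

end Groth.Agent.Lib.Helper11.SpSeqStep
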