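import Mathlib
import Groth.Prelude.Def_SpSeq
import Groth.Agent.Lib.Helper11SubQuot
import Groth.Agent.Lib.Helper11FilCxElt
import Groth.Agent.Lib.Helper10SpSeq
import Groth.Agent.Lib.Helper11SpSeqStep

/-!
# The abutment of the spectral sequence of a filtered complex: `gr^p H^n ≅ Z_∞/B_∞` (helper11)
-/

set_option autoImplicit false
open CategoryTheory CategoryTheory.Limits

namespace Groth.Agent.Lib.Helper11.SpSeqAbut

open Groth.Agent.Lib.Helper11.SubElt Groth.Agent.Lib.Helper11.SubQuot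
  Groth.Agent.Lib.Helper11.FilCxElt

universe v u

variable {A : Type u} [Category.{v} A] [Abelian A] (K : SpSeq.FilCx A)

/-- the class of a cocycle -/
noncomputable def cls {W : A} (n : ℤ) (a : W ⟶ K.obj.X n) (ha : a ≫ K.obj.d n (n + 1) = 0) :
    W ⟶ K.obj.homology n :=
  K.obj.liftCycles a (n + 1) (by simp) ha ≫ K.obj.homologyπ n

lemma comp_cls {W W' : A} (n : ℤ) (a : W ⟶ K.obj.X n) (ha : a ≫ K.obj.d n (n + 1) = 0)
    (α : W' ⟶ W) :
    α ≫ cls K n a ha = cls K n (α ≫ a) (by rw [Category.assoc, ha, comp_zero]) := by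
  unfold cls
  rw [← Category.assoc, HomologicalComplex.comp_liftCycles]

lemma cls_congr {W : A} (n : ℤ) (a a' : W ⟶ K.obj.X n) (ha : a ≫ K.obj.d n (n + 1) = 0)
    (h : a = a') : cls K n a ha = cls K n a' (by rw [← h]; exact ha) := by
  subst h
  rfl

lemma cls_eq_iff {W : A} (n : ℤ) (a a' : W ⟶ K.obj.X n) (ha : a ≫ K.obj.d n (n + 1) = 0)
    (ha' : a' ≫ K.obj.d n (n + 1) = 0) :
    cls K n a ha = cls K n a' ha' ↔
      ∃ (W' : A) (π : W' ⟶ W) (_ : Epi π) (x₁ : W' ⟶ K.obj.X (n - 1)),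
        π ≫ a = π ≫ a' + x₁ ≫ K.obj.d (n - 1) n := by
  unfold cls
  exact K.obj.liftCycles_comp_homologyπ_eq_iff_up_to_refinements (n - 1) n (n + 1) (by simp)
    (by simp) a a' ha ha'

lemma factors_filH_iff {W : A} (p n : ℤ) (γ : W ⟶ K.obj.homology n) :
    (K.filH p n).Factors γ ↔
      ∃ (W' : A) (π : W' ⟶ W) (_ : Epi π) (a : W' ⟶ K.obj.X n)
        (ha : a ≫ K.obj.d n (n + 1) = 0), (K.filX p n).Factors a ∧ π ≫ γ = cls K n a ha := by
  unfold SpSeq.FilCx.filH
  rw [factors_imageSubobject_iff]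
  constructor
  · rintro ⟨W1, π1, hπ1, γ', hγ'⟩
    obtain ⟨W2, π2, hπ2, z, hz, hzγ⟩ :=
      (K.fil p : CochainComplex A ℤ).eq_liftCycles_homologyπ_up_to_refinements γ' (n + 1)
        (by simp)
    have hzd : (z ≫ (K.fil p).arrow.f n) ≫ K.obj.d n (n + 1) = 0 := by
      rw [Category.assoc, HomologicalComplex.Hom.comm, ← Category.assoc, hz, zero_comp]
    refine ⟨W2, π2 ≫ π1, inferInstance, z ≫ (K.fil p).arrow.f n, hzd,
      (factors_filX_iff K p n _).mpr ⟨z, rfl⟩, ?_⟩
    unfold cls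
    rw [Category.assoc, hγ', ← Category.assoc, hzγ, Category.assoc,
      HomologicalComplex.homologyπ_naturality, ← Category.assoc,
      HomologicalComplex.liftCycles_comp_cyclesMap]
  · rintro ⟨W1, π1, hπ1, a, ha, hfa, hγ⟩
    obtain ⟨a', rfl⟩ := (factors_filX_iff K p n a).mp hfa
    have ha' := cocycle_of_comp K p n (n + 1) a' ha
    refine ⟨W1, π1, hπ1, (K.fil p : CochainComplex A ℤ).liftCycles a' (n + 1) (by simp) ha' ≫
      (K.fil p : CochainComplex A ℤ).homologyπ n, ?_⟩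
    rw [hγ]
    unfold cls
    rw [Category.assoc, HomologicalComplex.homologyπ_naturality, ← Category.assoc,
      HomologicalComplex.liftCycles_comp_cyclesMap]

lemma BBot_le_ZTop (p n : ℤ) : K.BBot p n ≤ K.ZTop p n := by
  unfold SpSeq.FilCx.BBot SpSeq.FilCx.ZTop
  refine sup_le_sup_right (inf_le_inf_left _ ?_) _
  refine imageSubobject_le_of_factors _ _ (kernelSubobject_factors _ _ ?_)
  exact K.obj.d_comp_d _ _ _

/-- for a cocycle `a` in `F^p K^n`: `a ∈ B_∞^{p,n}` iff its class lies in `F^{p+1} H^n`. -/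
lemma BBot_factors_iff (p n : ℤ) {W : A} (a : W ⟶ K.obj.X n) (ha1 : (K.filX p n).Factors a)
    (ha2 : a ≫ K.obj.d n (n + 1) = 0) :
    (K.BBot p n).Factors a ↔ (K.filH (p + 1) n).Factors (cls K n a ha2) := by
  constructor
  · intro h
    unfold SpSeq.FilCx.BBot at h
    obtain ⟨W1, π, hπ, c, f, hc, hf, hsum⟩ := (factors_sup_iff _ _ _).mp h
    obtain ⟨W2, π', hπ', x₁, hx₁⟩ := (factors_imageSubobject_iff _ _).mp
      (Subobject.factors_right_of_inf_factors hc)
    have hfd : (π' ≫ f) ≫ K.obj.d n (n + 1) = 0 := by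
      have : π' ≫ f = (π' ≫ π) ≫ a - x₁ ≫ K.obj.d (n - 1) n := by
        rw [Category.assoc, hsum, Preadditive.comp_add, hx₁]; abel
      rw [this, Preadditive.sub_comp, Category.assoc, Category.assoc, ha2, comp_zero,
        comp_zero, Category.assoc, HomologicalComplex.d_comp_d, comp_zero, sub_zero]
    refine factors_of_epi_comp (π' ≫ π) _ _ ?_
    rw [comp_cls]
    refine (factors_filH_iff K (p + 1) n _).mpr ⟨W2, 𝟙 _, inferInstance, π' ≫ f, hfd,
      Subobject.factors_of_factors_right _ hf, ?_⟩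
    rw [Category.id_comp, cls_eq_iff]
    refine ⟨W2, 𝟙 _, inferInstance, x₁, ?_⟩
    rw [Category.id_comp, Category.id_comp, Category.assoc, hsum, Preadditive.comp_add, hx₁]
    abel
  · intro h
    obtain ⟨W1, π, hπ, b, hb, hfb, hγ⟩ := (factors_filH_iff K (p + 1) n _).mp h
    rw [comp_cls, cls_eq_iff] at hγ
    obtain ⟨W2, ρ, hρ, x₁, hx⟩ := hγ
    refine factors_of_epi_comp (ρ ≫ π) _ _ ?_
    rw [Category.assoc, hx, add_comm]
    unfold SpSeq.FilCx.BBot
    refine Subobject.factors_add _ _ (Subobject.sup_factors_of_factors_left ?_)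
      (Subobject.sup_factors_of_factors_right (Subobject.factors_of_factors_right _ hfb))
    refine (Subobject.inf_factors _).mpr ⟨?_, imageSubobject_factors_comp_self
      (f := K.obj.d (n - 1) n) x₁⟩
    have : x₁ ≫ K.obj.d (n - 1) n = ρ ≫ π ≫ a - ρ ≫ b := by
      rw [hx]; abel
    rw [this]
    exact factors_sub _ _ _
      (Subobject.factors_of_factors_right _ (Subobject.factors_of_factors_right _ ha1))
      (Subobject.factors_of_factors_right _ (factors_filX_of_le K (by omega) n b hfb))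

/-- `gr^p H^n(K) ≅ Z_∞^{p,n} / B_∞^{p,n}` -/
theorem nonempty_iso_gr (p n : ℤ) :
    Nonempty (cokernel ((K.BBot p n).ofLE (K.ZTop p n) (BBot_le_ZTop K p n)) ≅
      cokernel ((K.filH (p + 1) n).ofLE (K.filH p n) (K.filH_anti n (Int.le_add_one le_rfl)))) := by
  let T : Subobject (K.obj.X n) := K.filX p n ⊓ kernelSubobject (K.obj.d n (n + 1))
  have hT1 : (K.filX p n).Factors T.arrow := Subobject.inf_arrow_factors_left _ _
  have hT2 : T.arrow ≫ K.obj.d n (n + 1) = 0 :=
    (kernelSubobject_factors_iff _ _).mp (Subobject.inf_arrow_factors_right _ _)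
  have hTZ : T ≤ K.ZTop p n := by
    unfold SpSeq.FilCx.ZTop
    exact le_sup_left
  haveI hα : Epi (toSQ T _ _ hTZ (BBot_le_ZTop K p n)) := by
    refine epi_toSQ T _ _ hTZ (BBot_le_ZTop K p n) ?_
    unfold SpSeq.FilCx.ZTop SpSeq.FilCx.BBot
    exact sup_le_sup_left le_sup_right _
  have hfac : (K.filH p n).Factors (cls K n T.arrow hT2) :=
    (factors_filH_iff K p n _).mpr ⟨_, 𝟙 _, inferInstance, T.arrow, hT2, hT1,
      Category.id_comp _⟩
  let β₀ : (T : A) ⟶ (K.filH p n : A) := (K.filH p n).factorThru _ hfac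
  have hβ₀ : β₀ ≫ (K.filH p n).arrow = cls K n T.arrow hT2 := Subobject.factorThru_arrow _ _ _
  let β := β₀ ≫ cokernel.π ((K.filH (p + 1) n).ofLE (K.filH p n)
    (K.filH_anti n (Int.le_add_one le_rfl)))
  haveI hβ : Epi β := by
    rw [epi_iff_surjective_up_to_refinements]
    intro W y
    obtain ⟨W1, π1, hπ1, g, hg⟩ := surjective_up_to_refinements_of_epi
      (cokernel.π ((K.filH (p + 1) n).ofLE (K.filH p n)
        (K.filH_anti n (Int.le_add_one le_rfl)))) y
    obtain ⟨W2, π2, hπ2, a, ha, hfa, hγ⟩ :=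
      (factors_filH_iff K p n (g ≫ (K.filH p n).arrow)).mp (Subobject.factors_comp_arrow _)
    have haT : T.Factors a :=
      (Subobject.inf_factors _).mpr ⟨hfa, kernelSubobject_factors _ _ ha⟩
    refine ⟨W2, π2 ≫ π1, inferInstance, T.factorThru a haT, ?_⟩
    have e : T.factorThru a haT ≫ β₀ = π2 ≫ g := by
      rw [← cancel_mono (K.filH p n).arrow, Category.assoc, hβ₀, Category.assoc, hγ, comp_cls]
      exact cls_congr K n _ _ _ (Subobject.factorThru_arrow _ _ _)
    change (π2 ≫ π1) ≫ y = T.factorThru a haT ≫ β₀ ≫ _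
    rw [Category.assoc, hg, ← Category.assoc, ← Category.assoc, e]
  refine nonempty_iso_of_epi_of_kernel (toSQ T _ _ hTZ (BBot_le_ZTop K p n)) β ?_
  intro W t
  rw [comp_toSQ_eq_zero_iff]
  have e1 : t ≫ β = 0 ↔ (K.filH (p + 1) n).Factors
      (cls K n (t ≫ T.arrow) (by rw [Category.assoc, hT2, comp_zero])) := by
    change (t ≫ β₀ ≫ _ = 0) ↔ _
    rw [← Category.assoc, comp_π_eq_zero_iff, Category.assoc, hβ₀, comp_cls]
  rw [e1]
  exact BBot_factors_iff K p n _ (Subobject.factors_of_factors_right _ hT1) _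

open Groth.Agent.Lib.Helper10.SpSeqLib in
/-- for a degreewise finite filtration, `Z_s = Z_∞` and `B_s = B_∞` for large `s`. -/
lemma exists_stable (hK : ∀ n : ℤ, (K.XFil n).IsFinite) (r : ℕ) (p n : ℤ) :
    ∃ s : ℕ, r ≤ s ∧ K.ZSub s p n = K.ZTop p n ∧ K.BSub s p n = K.BBot p n := by
  obtain ⟨-, ⟨b, hb⟩⟩ := hK (n + 1)
  change K.filX b (n + 1) = ⊥ at hb
  obtain ⟨⟨a, ha⟩, -⟩ := hK (n - 1)
  change K.filX a (n - 1) = ⊤ at ha
  refine ⟨max r (max (b - p).toNat (p + 1 - a).toNat), le_max_left _ _, ?_, ?_⟩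
  · unfold SpSeq.FilCx.ZSub SpSeq.FilCx.ZTop
    have h1 : (b - p).toNat ≤ max r (max (b - p).toNat (p + 1 - a).toNat) :=
      le_trans (le_max_left _ _) (le_max_right _ _)
    have h2 : b ≤ p + ((max r (max (b - p).toNat (p + 1 - a).toNat) : ℕ) : ℤ) := by
      have := Int.self_le_toNat (b - p)
      have h3 : (((b - p).toNat : ℕ) : ℤ) ≤
          ((max r (max (b - p).toNat (p + 1 - a).toNat) : ℕ) : ℤ) := by exact_mod_cast h1
      omega
    rw [filX_eq_bot_of_le K hb h2, pullback_bot]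
  · have h1 : (p + 1 - a).toNat ≤ max r (max (b - p).toNat (p + 1 - a).toNat) :=
      le_trans (le_max_right _ _) (le_max_right _ _)
    have h2 : p - ((max r (max (b - p).toNat (p + 1 - a).toNat) : ℕ) : ℤ) + 1 ≤ a := by
      have := Int.self_le_toNat (p + 1 - a)
      have h3 : (((p + 1 - a).toNat : ℕ) : ℤ) ≤
          ((max r (max (b - p).toNat (p + 1 - a).toNat) : ℕ) : ℤ) := by exact_mod_cast h1
      omega
    have htop := filX_eq_top_of_le K ha h2
    have : IsIso (K.filX (p - ((max r (max (b - p).toNat (p + 1 - a).toNat) : ℕ) : ℤ) + 1)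
        (n - 1)).arrow := (Subobject.isIso_arrow_iff_eq_top _).mpr htop
    unfold SpSeq.FilCx.BSub SpSeq.FilCx.BBot
    rw [imageSubobject_iso_comp]

section final

variable (P : ObjectProperty A) [P.IsClosedUnderIsomorphisms]
  (h0 : ∃ Z : A, IsZero Z ∧ P Z)
  (hP : ∀ S : ComposableArrows A 4, S.Exact → P (S.obj 0) → P (S.obj 1) → P (S.obj 3) →
    P (S.obj 4) → P (S.obj 2))

include h0 hP

/-- an object with a finite filtration whose graded pieces lie in `P` lies in `P`. -/
theorem prop_of_gr (F : SpSeq.FilObj A) (hF : F.IsFinite) (hgr : ∀ p : ℤ, P (F.gr p)) :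
    P F.obj := by
  obtain ⟨⟨a, ha⟩, ⟨b, hb⟩⟩ := hF
  have key : ∀ k : ℕ, ∀ q : ℤ, q = b - k → P ((F.fil q : A)) := by
    intro k
    induction k with
    | zero =>
      intro q hq
      have hq' : F.fil q = ⊥ := by rw [hq]; simpa using hb
      have hz : IsZero ((F.fil q : A)) := by
        rw [hq']
        exact IsZero.of_iso (isZero_zero A) Subobject.botCoeIsoZero
      exact prop_of_isZero P h0 hz
    | succ k ih =>
      intro q hq
      have h1 : P ((F.fil (q + 1) : A)) := ih (q + 1) (by push_cast at hq; omega)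
      have hS : (ShortComplex.mk (F.stepLE (Int.le_add_one (le_refl q)))
          (cokernel.π (F.stepLE (Int.le_add_one (le_refl q)))) (cokernel.condition _)).ShortExact :=
        ShortComplex.ShortExact.mk' (ShortComplex.exact_cokernel _) inferInstance inferInstance
      exact prop_of_shortExact P h0 hP hS h1 (hgr q)
  have h2 := key (b - a).toNat _ rfl
  have h3 : F.fil (b - ((b - a).toNat : ℤ)) = ⊤ := by
    refine top_le_iff.mp (ha ▸ F.anti ?_)
    have := Int.self_le_toNat (b - a)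
    omega
  haveI : IsIso (F.fil (b - ((b - a).toNat : ℤ))).arrow :=
    (Subobject.isIso_arrow_iff_eq_top _).mpr h3
  exact P.prop_of_iso (asIso (F.fil (b - ((b - a).toNat : ℤ))).arrow) h2

/-- If all terms of some page lie in a weak Serre class, so does the cohomology. -/
theorem main (hK : ∀ n : ℤ, (K.XFil n).IsFinite) (r : ℕ) (hr : ∀ p n : ℤ, P (K.E r p n))
    (n : ℤ) : P (K.obj.homology n) := by
  refine prop_of_gr P h0 hP (K.HFil n) (Groth.Agent.Lib.Helper10.SpSeqLib.hFil_isFinite K hK n) ?_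
  intro p
  obtain ⟨s, hs, hZ, hB⟩ := exists_stable K hK r p n
  have h1 : P (K.E s p n) := Groth.Agent.Lib.Helper11.SpSeqStep.step_le K P h0 hP r hr s hs p n
  have key : ∀ (Z B : Subobject (K.obj.X n)) (h : B ≤ Z), Z = K.ZTop p n → B = K.BBot p n →
      P (cokernel (B.ofLE Z h)) →
      P (cokernel ((K.BBot p n).ofLE (K.ZTop p n) (BBot_le_ZTop K p n))) := by
    rintro _ _ h rfl rfl hh
    exact hh
  have h2 := key _ _ (K.BSub_le_ZSub s p n) hZ hB h1
  obtain ⟨e⟩ := nonempty_iso_gr K p n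
  exact P.prop_of_iso e h2

end final

end Groth.Agent.Lib.Helper11.SpSeqAbut
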