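import Groth.Agent.Lib.Helper11Fin

/-!
Genus one classification: a path with one pendant vertex (a spider with a leg of length one).
-/

namespace Groth.Agent.Lib.Helper11

open Finset Models

variable {n : ℕ} {T : Models.NumericalType n}

/-- upper bounds for a path `0, …, t-1` with a pendant vertex `t` attached to `k` -/
def Bsp (t k : ℕ) (p q : Fin (t + 1)) : ℤ :=
  if (q.val = p.val + 1 ∧ q.val < t) ∨ (p.val = q.val + 1 ∧ p.val < t) ∨
    (p.val = k ∧ q.val = t) ∨ (q.val = k ∧ p.val = t) then 1 else 0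

theorem Bsp_one {t k : ℕ} {p q : Fin (t + 1)}
    (h : (q.val = p.val + 1 ∧ q.val < t) ∨ (p.val = q.val + 1 ∧ p.val < t) ∨
    (p.val = k ∧ q.val = t) ∨ (q.val = k ∧ p.val = t)) : Bsp t k p q = 1 := if_pos h

theorem Bsp_zero {t k : ℕ} {p q : Fin (t + 1)}
    (h : ¬ ((q.val = p.val + 1 ∧ q.val < t) ∨ (p.val = q.val + 1 ∧ p.val < t) ∨
    (p.val = k ∧ q.val = t) ∨ (q.val = k ∧ p.val = t))) : Bsp t k p q = 0 := if_neg h

theorem Bsp_nonneg (t k : ℕ) (p q : Fin (t + 1)) : 0 ≤ Bsp t k p q := by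
  unfold Bsp; split_ifs <;> norm_num

/-- a path with exactly one pendant vertex, all edges simple, which is everything -/
structure Spider (T : Models.NumericalType n) {t : ℕ} (v : Fin t ↪ Fin n) (x : Fin n)
    (kb : Fin t) : Prop where
  path : IsPath T v
  hx : ∀ j, v j ≠ x
  surj : ∀ i, i = x ∨ ∃ j, v j = i
  simple : ∀ p q : Fin t, q.val = p.val + 1 → ¬ DblE T (v p) (v q)
  nochord : ∀ p q : Fin t, p.val + 2 ≤ q.val → T.a (v p) (v q) = 0
  pend : T.a (v kb) x ≠ 0
  pend_simple : ¬ DblE T (v kb) x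
  npend : ∀ j : Fin t, j ≠ kb → T.a (v j) x = 0

theorem Spider.rev {t : ℕ} {v : Fin t ↪ Fin n} {x : Fin n} {kb : Fin t} (S : Spider T v x kb)
    (kb' : Fin t) (hkb : kb'.val + kb.val + 1 = t) : Spider T (revEmb v) x kb' := by
  have e : revEmb v kb' = v kb := revEmb_eq v kb' kb (by omega)
  refine ⟨S.path.rev, fun j => by rw [revEmb_apply]; exact S.hx _, ?_, ?_, ?_, ?_, ?_, ?_⟩
  · intro i
    rcases S.surj i with h | ⟨j, hj⟩
    · exact Or.inl h
    · have hjl := j.isLt
      exact Or.inr ⟨⟨t - 1 - j.val, by omega⟩, by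
        rw [revEmb_eq v _ j (by simp only []; omega)]; exact hj⟩
  · intro p q hpq hd
    have hp := p.isLt
    have hq := q.isLt
    rw [revEmb_apply, revEmb_apply] at hd
    exact S.simple _ _ (by simp only []; omega) hd.symm
  · intro p q hpq
    have hp := p.isLt
    have hq := q.isLt
    rw [revEmb_apply, revEmb_apply, a_symm]
    exact S.nochord _ _ (by simp only []; omega)
  · rw [e]; exact S.pend
  · rw [e]; exact S.pend_simple
  · intro j hj
    rw [revEmb_apply]
    refine S.npend _ ?_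
    intro h
    apply hj
    have := congrArg Fin.val h
    simp only [] at this
    exact Fin.ext (by have := j.isLt; omega)

theorem Spider.snoc_surj {t : ℕ} {v : Fin t ↪ Fin n} {x : Fin n} {kb : Fin t}
    (S : Spider T v x kb) : Function.Surjective (snocEmb v x S.hx) := by
  intro i
  rcases S.surj i with h | ⟨j, hj⟩
  · exact ⟨⟨t, by omega⟩, by rw [snocEmb_last v x S.hx _ rfl, h]⟩
  · exact ⟨⟨j.val, by have := j.isLt; omega⟩, by rw [snocEmb_lt v x S.hx _ j rfl, hj]⟩

theorem Spider.card {t : ℕ} {v : Fin t ↪ Fin n} {x : Fin n} {kb : Fin t}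
    (S : Spider T v x kb) : t + 1 = n :=
  eq_of_surjective_emb _ S.snoc_surj

theorem kk_le_one_of_not_dbl {i j : Fin n} (h : ¬ DblE T i j) : kk T i j ≤ 1 ∧ kk T j i ≤ 1 := by
  unfold DblE at h
  push Not at h
  omega

theorem Spider.upper {t : ℕ} {v : Fin t ↪ Fin n} {x : Fin n} {kb : Fin t}
    (S : Spider T v x kb) : ∀ p q : Fin (t + 1), p ≠ q →
      kk T (snocEmb v x S.hx p) (snocEmb v x S.hx q) ≤ Bsp t kb.val p q := by
  intro p q hpq
  have hp := p.isLt
  have hq := q.isLt
  have hne : p.val ≠ q.val := fun h => hpq (Fin.ext h)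
  by_cases hpt : p.val < t <;> by_cases hqt : q.val < t
  · rw [snocEmb_lt v x S.hx p ⟨p.val, hpt⟩ rfl, snocEmb_lt v x S.hx q ⟨q.val, hqt⟩ rfl]
    by_cases h1 : q.val = p.val + 1
    · rw [Bsp_one (Or.inl ⟨h1, hqt⟩)]
      exact (kk_le_one_of_not_dbl (S.simple ⟨p.val, hpt⟩ ⟨q.val, hqt⟩ h1)).1
    by_cases h2 : p.val = q.val + 1
    · rw [Bsp_one (Or.inr (Or.inl ⟨h2, hpt⟩))]
      exact (kk_le_one_of_not_dbl (S.simple ⟨q.val, hqt⟩ ⟨p.val, hpt⟩ h2)).2
    · have hz : T.a (v ⟨p.val, hpt⟩) (v ⟨q.val, hqt⟩) = 0 := by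
        rcases Nat.lt_or_gt_of_ne hne with h | h
        · exact S.nochord _ _ (by simp only []; omega)
        · rw [a_symm]; exact S.nochord _ _ (by simp only []; omega)
      rw [kk_eq_zero T hz]
      exact Bsp_nonneg _ _ _ _
  · rw [snocEmb_lt v x S.hx p ⟨p.val, hpt⟩ rfl, snocEmb_last v x S.hx q (by omega)]
    by_cases h1 : p.val = kb.val
    · rw [Bsp_one (Or.inr (Or.inr (Or.inl ⟨h1, by omega⟩))),
        show (⟨p.val, hpt⟩ : Fin t) = kb from Fin.ext h1]
      exact (kk_le_one_of_not_dbl S.pend_simple).1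
    · rw [kk_eq_zero T (S.npend _ (fun h => h1 (by rw [← h])))]
      exact Bsp_nonneg _ _ _ _
  · rw [snocEmb_last v x S.hx p (by omega), snocEmb_lt v x S.hx q ⟨q.val, hqt⟩ rfl]
    by_cases h1 : q.val = kb.val
    · rw [Bsp_one (Or.inr (Or.inr (Or.inr ⟨h1, by omega⟩))),
        show (⟨q.val, hqt⟩ : Fin t) = kb from Fin.ext h1]
      exact (kk_le_one_of_not_dbl S.pend_simple).2
    · rw [kk_eq_zero T (by rw [a_symm]; exact S.npend _ (fun h => h1 (by rw [← h])))]
      exact Bsp_nonneg _ _ _ _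
  · omega

/-- the test vector for a `D`-type graph -/
def cfd (t : ℕ) (p : Fin (t + 1)) : ℤ := if p.val = 0 ∨ p.val = t then 1 else 2

theorem cfd_one {t : ℕ} {p : Fin (t + 1)} (h : p.val = 0 ∨ p.val = t) : cfd t p = 1 := if_pos h

theorem cfd_two {t : ℕ} {p : Fin (t + 1)} (h : ¬ (p.val = 0 ∨ p.val = t)) : cfd t p = 2 := if_neg h

/-- a `D`-type graph does not occur -/
theorem Spider.no_D {t : ℕ} {v : Fin t ↪ Fin n} {x : Fin n} {kb : Fin t}
    (S : Spider T v x kb) (h2 : ∀ i, T.IsMinusTwo i) (hkb : kb.val = 1) (ht : 3 ≤ t) : False := by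
  obtain ⟨pe, hpe⟩ := exists_fin (t := t + 1) (t - 1) (by omega)
  have hsum : ∀ p : Fin (t + 1), ∑ q ∈ univ.erase p, Bsp t kb.val p q * cfd t q ≤ 2 * cfd t p ∧
      (p.val + 1 = t → ∑ q ∈ univ.erase p, Bsp t kb.val p q * cfd t q < 2 * cfd t p) := by
    intro p
    have hp := p.isLt
    have hz1 : ∀ q1 : Fin (t + 1), (∀ q : Fin (t + 1), q ≠ p → q ≠ q1 →
        ¬ ((q.val = p.val + 1 ∧ q.val < t) ∨ (p.val = q.val + 1 ∧ p.val < t) ∨
        (p.val = kb.val ∧ q.val = t) ∨ (q.val = kb.val ∧ p.val = t))) →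
        ∀ q, q ≠ p → q ≠ q1 → Bsp t kb.val p q * cfd t q = 0 := by
      intro q1 h q hq hq1
      rw [Bsp_zero (h q hq hq1), zero_mul]
    by_cases h0 : p.val = 0
    · obtain ⟨q1, hq1⟩ := exists_fin (t := t + 1) 1 (by omega)
      rw [sum_erase_eq_one _ p q1 (fin_ne (by omega)) (hz1 q1 (by
        intro q hqp hq1'
        have : q.val ≠ p.val := fun h => hqp (Fin.ext h)
        have : q.val ≠ q1.val := fun h => hq1' (Fin.ext h)
        omega))]
      rw [Bsp_one (by omega), cfd_two (p := q1) (by omega), cfd_one (Or.inl h0)]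
      constructor
      · norm_num
      · intro h; omega
    by_cases ht' : p.val = t
    · obtain ⟨q1, hq1⟩ := exists_fin (t := t + 1) 1 (by omega)
      rw [sum_erase_eq_one _ p q1 (fin_ne (by omega)) (hz1 q1 (by
        intro q hqp hq1'
        have : q.val ≠ p.val := fun h => hqp (Fin.ext h)
        have : q.val ≠ q1.val := fun h => hq1' (Fin.ext h)
        have := q.isLt
        omega))]
      rw [Bsp_one (by omega), cfd_two (p := q1) (by omega), cfd_one (Or.inr ht')]
      constructor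
      · norm_num
      · intro h; omega
    by_cases h1 : p.val = 1
    · obtain ⟨q1, hq1⟩ := exists_fin (t := t + 1) 0 (by omega)
      obtain ⟨q2, hq2⟩ := exists_fin (t := t + 1) 2 (by omega)
      obtain ⟨q3, hq3⟩ := exists_fin (t := t + 1) t (by omega)
      rw [sum_erase_eq_three _ p q1 q2 q3 (fin_ne (by omega)) (fin_ne (by omega))
        (fin_ne (by omega)) (fin_ne (by omega)) (fin_ne (by omega)) (fin_ne (by omega)) (by
        intro q hqp hq1' hq2' hq3'
        have : q.val ≠ p.val := fun h => hqp (Fin.ext h)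
        have : q.val ≠ q1.val := fun h => hq1' (Fin.ext h)
        have : q.val ≠ q2.val := fun h => hq2' (Fin.ext h)
        have : q.val ≠ q3.val := fun h => hq3' (Fin.ext h)
        have := q.isLt
        rw [Bsp_zero (by omega), zero_mul])]
      rw [Bsp_one (q := q1) (by omega), Bsp_one (q := q2) (by omega), Bsp_one (q := q3) (by omega),
        cfd_one (p := q1) (by omega), cfd_two (p := q2) (by omega), cfd_one (p := q3) (by omega),
        cfd_two (p := p) (by omega)]
      constructor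
      · norm_num
      · intro h; omega
    by_cases h3 : p.val + 1 = t
    · obtain ⟨q1, hq1⟩ := exists_fin (t := t + 1) (t - 2) (by omega)
      rw [sum_erase_eq_one _ p q1 (fin_ne (by omega)) (hz1 q1 (by
        intro q hqp hq1'
        have : q.val ≠ p.val := fun h => hqp (Fin.ext h)
        have : q.val ≠ q1.val := fun h => hq1' (Fin.ext h)
        have := q.isLt
        omega))]
      rw [Bsp_one (by omega), cfd_two (p := q1) (by omega), cfd_two (p := p) (by omega)]
      constructor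
      · norm_num
      · intro h; norm_num
    · obtain ⟨q1, hq1⟩ := exists_fin (t := t + 1) (p.val - 1) (by omega)
      obtain ⟨q2, hq2⟩ := exists_fin (t := t + 1) (p.val + 1) (by omega)
      rw [sum_erase_eq_two _ p q1 q2 (fin_ne (by omega)) (fin_ne (by omega)) (fin_ne (by omega)) (by
        intro q hqp hq1' hq2'
        have : q.val ≠ p.val := fun h => hqp (Fin.ext h)
        have : q.val ≠ q1.val := fun h => hq1' (Fin.ext h)
        have : q.val ≠ q2.val := fun h => hq2' (Fin.ext h)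
        have := q.isLt
        rw [Bsp_zero (by omega), zero_mul])]
      rw [Bsp_one (q := q1) (by omega), Bsp_one (q := q2) (by omega),
        cfd_two (p := q1) (by omega), cfd_two (p := q2) (by omega), cfd_two (p := p) (by omega)]
      constructor
      · norm_num
      · intro h; omega
  refine finite_master (snocEmb v x S.hx) S.snoc_surj (fun j => h2 _) (cfd t) ?_ (Bsp t kb.val)
    S.upper (fun p => (hsum p).1) pe ((hsum pe).2 (by omega))
  intro p
  unfold cfd
  split_ifs <;> norm_num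

end Groth.Agent.Lib.Helper11
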