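import Groth.Agent.Lib.Helper11Spider

/-!
Genus one classification: exceptional configurations and the analysis of spiders.
-/

namespace Groth.Agent.Lib.Helper11

open Finset Models

variable {n : ℕ} {T : Models.NumericalType n}

/-- the completed `E7` configuration -/
def IsE7cfg (T : Models.NumericalType n) (u : Fin 8 ↪ Fin n) : Prop :=
  (∀ j j' : Fin 8, j'.val = j.val + 1 → j'.val ≤ 6 → T.a (u j) (u j') ≠ 0) ∧ T.a (u 3) (u 7) ≠ 0

/-- the completed `E8` configuration -/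
def IsE8cfg (T : Models.NumericalType n) (u : Fin 9 ↪ Fin n) : Prop :=
  (∀ j j' : Fin 9, j'.val = j.val + 1 → j'.val ≤ 7 → T.a (u j) (u j') ≠ 0) ∧ T.a (u 5) (u 8) ≠ 0

/-- the completed `E6` configuration -/
def IsE6cfg (T : Models.NumericalType n) (u : Fin 7 ↪ Fin n) : Prop :=
  T.a (u 0) (u 1) ≠ 0 ∧ T.a (u 1) (u 2) ≠ 0 ∧ T.a (u 2) (u 4) ≠ 0 ∧ T.a (u 2) (u 6) ≠ 0 ∧
    T.a (u 3) (u 4) ≠ 0 ∧ T.a (u 5) (u 6) ≠ 0

/-- the completed `D4` configuration -/
def IsD4cfg (T : Models.NumericalType n) (u : Fin 5 ↪ Fin n) : Prop :=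
  ∀ j : Fin 5, j ≠ 0 → T.a (u 0) (u j) ≠ 0

/-- the completed `F4` configuration -/
def IsF4cfg (T : Models.NumericalType n) (u : Fin 5 ↪ Fin n) : Prop :=
  IsPath T u ∧ 2 ≤ kk T (u 2) (u 3)

/-- the twisted `E6` configuration -/
def IsE62cfg (T : Models.NumericalType n) (u : Fin 5 ↪ Fin n) : Prop :=
  IsPath T u ∧ 2 ≤ kk T (u 3) (u 2)

theorem Spider.main {t : ℕ} {v : Fin t ↪ Fin n} {x : Fin n} {kb : Fin t}
    (S : Spider T v x kb) (h2 : ∀ i, T.IsMinusTwo i) (hk1 : 1 ≤ kb.val)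
    (hle : 2 * kb.val + 1 ≤ t) (X : Prop)
    (hE7 : ∀ u, IsE7cfg T u → X) (hE8 : ∀ u, IsE8cfg T u → X)
    (hfin : ∀ (t' : ℕ) (v' : Fin t' ↪ Fin n) (x' : Fin n) (kb' : Fin t'), Spider T v' x' kb' →
      kb'.val = 2 → 5 ≤ t' → t' ≤ 7 → X) : X := by
  by_cases hk : kb.val = 1
  · exact (S.no_D h2 hk (by omega)).elim
  by_cases hk' : kb.val = 2
  · by_cases ht : t ≤ 7
    · exact hfin t v x kb S hk' (by omega) ht
    · -- completed E8
      have hL : 0 + 8 ≤ t := by omega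
      have hx' : ∀ j, revEmb (segEmb v 0 8 hL) j ≠ x := fun j => by
        rw [revEmb_apply, segEmb_apply]; exact S.hx _
      have hw : IsPath T (revEmb (segEmb v 0 8 hL)) := (S.path.seg 0 8 hL).rev
      refine hE8 (snocEmb (revEmb (segEmb v 0 8 hL)) x hx') ⟨?_, ?_⟩
      · intro j j' hjj hj'
        rw [snocEmb_lt _ x hx' j ⟨j.val, by omega⟩ rfl, snocEmb_lt _ x hx' j' ⟨j'.val, by omega⟩ rfl]
        exact hw _ _ hjj
      · rw [snocEmb_lt _ x hx' 5 ⟨5, by omega⟩ rfl, snocEmb_last _ x hx' 8 rfl,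
          revEmb_eq _ _ ⟨2, by omega⟩ (by simp only []),
          segEmb_eq v _ _ _ _ kb (by simp only []; omega)]
        exact S.pend
  · -- completed E7
    have hL : (kb.val - 3) + 7 ≤ t := by omega
    have hx' : ∀ j, segEmb v (kb.val - 3) 7 hL j ≠ x := fun j => by
      rw [segEmb_apply]; exact S.hx _
    have hw : IsPath T (segEmb v (kb.val - 3) 7 hL) := S.path.seg _ _ hL
    refine hE7 (snocEmb (segEmb v (kb.val - 3) 7 hL) x hx') ⟨?_, ?_⟩
    · intro j j' hjj hj'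
      rw [snocEmb_lt _ x hx' j ⟨j.val, by omega⟩ rfl, snocEmb_lt _ x hx' j' ⟨j'.val, by omega⟩ rfl]
      exact hw _ _ hjj
    · rw [snocEmb_lt _ x hx' 3 ⟨3, by omega⟩ rfl, snocEmb_last _ x hx' 7 rfl,
        segEmb_eq v _ _ _ _ kb (by simp only []; omega)]
      exact S.pend

end Groth.Agent.Lib.Helper11
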