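import Groth.Agent.Lib.Helper11Path

/-!
Structural forms of the lower bound hypotheses of the family theorems.
-/

namespace Groth.Agent.Lib.Helper11

open Finset Models

variable {n : ℕ} {T : Models.NumericalType n}

theorem hB_cycle {k : ℕ} (u : Fin k ↪ Fin n) (hpath : IsPath T u)
    (hclose : ∀ j j' : Fin k, j.val = 0 → j'.val + 1 = k → T.a (u j) (u j') ≠ 0) :
    ∀ p q, p ≠ q → Bcyc k p q ≤ kk T (u p) (u q) := by
  intro p q hpq
  unfold Bcyc
  split_ifs with h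
  · rcases h with h | h | h | h
    · exact K_pos T u hpq (hpath p q h)
    · exact K_pos' T u hpq.symm (hpath q p h)
    · exact K_pos T u hpq (hclose p q h.1 h.2)
    · exact K_pos' T u hpq.symm (hclose q p h.1 h.2)
  · exact K_nonneg T u hpq

theorem hB_chain {k : ℕ} (u : Fin k ↪ Fin n) (hpath : IsPath T u) {a b : ℤ}
    (ha : a = 1 ∨ a = 2) (hb : b = 1 ∨ b = 2)
    (h01 : ∀ j j' : Fin k, j.val = 0 → j'.val = 1 →
      a ≤ kk T (u j) (u j') ∧ 3 - a ≤ kk T (u j') (u j))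
    (hde : ∀ j j' : Fin k, j.val + 2 = k → j'.val + 1 = k →
      3 - b ≤ kk T (u j) (u j') ∧ b ≤ kk T (u j') (u j)) :
    ∀ p q, p ≠ q → Bch a b k p q ≤ kk T (u p) (u q) := by
  intro p q hpq
  unfold Bch
  split_ifs with h1 h2 h3 h4 h5 h6
  · exact (h01 p q h2 (by omega)).1
  · exact (hde p q (by omega) h3).1
  · exact K_pos T u hpq (hpath p q h1)
  · exact (h01 q p h5 (by omega)).2
  · exact (hde q p (by omega) h6).2
  · exact K_pos' T u hpq.symm (hpath q p h4)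
  · exact K_nonneg T u hpq

theorem hB_bt {k : ℕ} (u : Fin k ↪ Fin n) {a : ℤ} (ha : a = 1 ∨ a = 2)
    (hpath : ∀ j j' : Fin k, j'.val = j.val + 1 → j'.val + 2 ≤ k → T.a (u j) (u j') ≠ 0)
    (hbr : ∀ j j' : Fin k, j.val + 3 = k → j'.val + 1 = k → T.a (u j) (u j') ≠ 0)
    (h01 : ∀ j j' : Fin k, j.val = 0 → j'.val = 1 →
      a ≤ kk T (u j) (u j') ∧ 3 - a ≤ kk T (u j') (u j)) :
    ∀ p q, p ≠ q → Bbt a k p q ≤ kk T (u p) (u q) := by
  intro p q hpq
  unfold Bbt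
  split_ifs with h1 h2 h3 h4 h5
  · exact (h01 p q h2 (by omega)).1
  · exact K_pos T u hpq (hpath p q h1.1 h1.2)
  · exact (h01 q p h4 (by omega)).2
  · exact K_pos' T u hpq.symm (hpath q p h3.1 h3.2)
  · rcases h5 with h | h
    · exact K_pos T u hpq (hbr p q h.1 h.2)
    · exact K_pos' T u hpq.symm (hbr q p h.1 h.2)
  · exact K_nonneg T u hpq

theorem hB_dd {k : ℕ} (u : Fin k ↪ Fin n)
    (h02 : ∀ j j' : Fin k, j.val = 0 → j'.val = 2 → T.a (u j) (u j') ≠ 0)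
    (h12 : ∀ j j' : Fin k, j.val = 1 → j'.val = 2 → T.a (u j) (u j') ≠ 0)
    (hpath : ∀ j j' : Fin k, j'.val = j.val + 1 → 2 ≤ j.val → j'.val + 2 ≤ k →
      T.a (u j) (u j') ≠ 0)
    (hbr : ∀ j j' : Fin k, j.val + 3 = k → j'.val + 1 = k → T.a (u j) (u j') ≠ 0) :
    ∀ p q, p ≠ q → Bdd k p q ≤ kk T (u p) (u q) := by
  intro p q hpq
  unfold Bdd
  split_ifs with h
  · rcases h with (h | h | h | h) | (h | h | h | h)
    · exact K_pos T u hpq (h02 p q h.1 h.2)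
    · exact K_pos T u hpq (h12 p q h.1 h.2)
    · exact K_pos T u hpq (hpath p q h.1 h.2.1 h.2.2)
    · exact K_pos T u hpq (hbr p q h.1 h.2)
    · exact K_pos' T u hpq.symm (h02 q p h.1 h.2)
    · exact K_pos' T u hpq.symm (h12 q p h.1 h.2)
    · exact K_pos' T u hpq.symm (hpath q p h.1 h.2.1 h.2.2)
    · exact K_pos' T u hpq.symm (hbr q p h.1 h.2)
  · exact K_nonneg T u hpq

end Groth.Agent.Lib.Helper11
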