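import Mathlib
import Groth.Prelude
import Groth.Agent.Lib.Helper11BiAct
import Groth.Agent.Lib.Helper11QFAff
import Groth.Agent.Lib.Helper11FfgEq2
import Groth.Agent.Lib.Helper11FfgMain

/-!
# Quotient of a groupoid scheme by a finite locally free subgroupoid: the two quotients (helper11)
-/

set_option autoImplicit false
set_option linter.style.haveILetI false
set_option linter.unusedSectionVars false
universe u

open CategoryTheory CategoryTheory.Limits AlgebraicGeometry

namespace Groth.Agent.Lib.Helper11.SubGQ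

open Groth.Agent.Lib.Helper2.Grpd Groth.Agent.Lib.Helper11.PtGrpd Groth.Agent.Lib.Helper11.SubGrpd
  Groth.Agent.Lib.Helper11.BiAct Groth.Agent.Lib.Helper11.Ffg Groth.Agent.Lib.Helper11.GQ

variable {S : Scheme.{u}} {G : Grpd.GroupoidScheme S} {P : Scheme.{u}} {ιP : P ⟶ G.R}
  (D : SubGrpd.Data G ιP) [Mono (ιP ≫ G.j)]
  [IsFinite (ιP ≫ G.s)] [Flat (ιP ≫ G.s)] [LocallyOfFinitePresentation (ιP ≫ G.s)]
  [IsFinite (ιP ≫ G.t)] [Flat (ιP ≫ G.t)] [LocallyOfFinitePresentation (ιP ≫ G.t)]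

instance : IsFinite (grpd D).s := inferInstanceAs (IsFinite (ιP ≫ G.s))
instance : Flat (grpd D).s := inferInstanceAs (Flat (ιP ≫ G.s))
instance : LocallyOfFinitePresentation (grpd D).s :=
  inferInstanceAs (LocallyOfFinitePresentation (ιP ≫ G.s))
instance : Mono (grpd D).j := mono_j_grpd D

instance : IsFinite (act D).s := inferInstanceAs (IsFinite (σ₂ G ιP))
instance : Flat (act D).s := inferInstanceAs (Flat (σ₂ G ιP))
instance : LocallyOfFinitePresentation (act D).s :=
  inferInstanceAs (LocallyOfFinitePresentation (σ₂ G ιP))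
instance : Mono (act D).j := mono_j_act D

section affine

variable [IsAffine G.U]

theorem hbP : OrbitsAffine (grpd D) := fun _ =>
  ⟨⊤, isAffineOpen_top G.U, Set.subset_univ _⟩

variable [IsSeparated G.j] [LocallyQuasiFinite G.j] [LocallyOfFiniteType G.j]

theorem hbA : OrbitsAffine (act D) := fun x => by
  have hfin : ((act D).t.base '' ((act D).s.base ⁻¹' {x})).Finite :=
    (Scheme.Hom.finite_preimage_singleton (act D).s x).image _
  exact QFAff.exists_affine_of_finite
    (G.j ≫ pullback.mapDesc G.pU G.pU (terminal.from S)) _ hfin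

end affine

variable [IsAffine G.U] [IsSeparated G.j] [LocallyQuasiFinite G.j] [LocallyOfFiniteType G.j]

instance : Fact (OrbitsAffine (grpd D)) := ⟨hbP D⟩
instance : Fact (OrbitsAffine (act D)) := ⟨hbA D⟩

/-- the quotient of the objects. -/
noncomputable abbrev Ubar : Scheme.{u} := quotScheme (grpd D)

/-- the quotient of the arrows. -/
noncomputable abbrev Rbar : Scheme.{u} := quotScheme (act D)

/-- the quotient map on objects. -/
noncomputable def qU : G.U ⟶ Ubar D := quotMap (grpd D) (hbP D)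

/-- the quotient map on arrows. -/
noncomputable def qR : G.R ⟶ Rbar D := quotMap (act D) (hbA D)

theorem isGQ_qU : IsGQ (ιP ≫ G.t) (ιP ≫ G.s) (qU D) := isGQ_quotMap (grpd D) (hbP D)

theorem isGQ_qR : IsGQ (τ₂ G ιP) (σ₂ G ιP) (qR D) := isGQ_quotMap (act D) (hbA D)

theorem isPullback_qU : IsPullback (ιP ≫ G.t) (ιP ≫ G.s) (qU D) (qU D) :=
  isPullback_quotMap (grpd D) (hbP D)

theorem isPullback_qR : IsPullback (τ₂ G ιP) (σ₂ G ιP) (qR D) (qR D) :=
  isPullback_quotMap (act D) (hbA D)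

instance : IsFinite (qU D) := (isFinLocFree_quotMap (grpd D) (hbP D)).1
instance : Flat (qU D) := (isFinLocFree_quotMap (grpd D) (hbP D)).2.1
instance : LocallyOfFinitePresentation (qU D) := (isFinLocFree_quotMap (grpd D) (hbP D)).2.2
instance : Surjective (qU D) := ⟨(isGQ_qU D).surj⟩
instance : Epi (qU D) := (isGQ_qU D).epi

instance : IsFinite (qR D) := (isFinLocFree_quotMap (act D) (hbA D)).1
instance : Flat (qR D) := (isFinLocFree_quotMap (act D) (hbA D)).2.1
instance : LocallyOfFinitePresentation (qR D) := (isFinLocFree_quotMap (act D) (hbA D)).2.2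
instance : Surjective (qR D) := ⟨(isGQ_qR D).surj⟩
instance : Epi (qR D) := (isGQ_qR D).epi

instance isAffine_Ubar : IsAffine (Ubar D) :=
  haveI : IsAffine (grpd D).U := inferInstanceAs (IsAffine G.U)
  isAffine_quotScheme (grpd D) (hbP D)

theorem qU_w : (ιP ≫ G.t) ≫ qU D = (ιP ≫ G.s) ≫ qU D := (isGQ_qU D).w

theorem qR_w : τ₂ G ιP ≫ qR D = σ₂ G ιP ≫ qR D := (isGQ_qR D).w

variable {T : Scheme.{u}}

/-- two `T`-points of `U` have the same image in `Ū` iff they are joined by an arrow of `P`. -/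
theorem qU_eq_iff (x y : Pt G T) :
    x.pt ≫ qU D = y.pt ≫ qU D ↔ ∃ f : x ⟶ y, IsP ιP f := by
  constructor
  · intro h
    refine ⟨ofP ιP ((isPullback_qU D).lift y.pt x.pt h.symm) ?_ ?_, isP_ofP _ _ _⟩
    · exact (isPullback_qU D).lift_snd _ _ _
    · exact (isPullback_qU D).lift_fst _ _ _
  · rintro ⟨f, p, hp⟩
    rw [← f.src, ← f.tgt, ← hp, Category.assoc, Category.assoc, Category.assoc, Category.assoc]
    exact congrArg (p ≫ ·) (qU_w D).symm

/-- conjugating an arrow by arrows of `P` does not change its image in `R̄`. -/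
theorem qR_eq_of_conj {x y x' y' : Pt G T} (f : x ⟶ y) (a : x' ⟶ x) (b : y ⟶ y')
    (ha : IsP ιP a) (hb : IsP ιP b) : (a ≫ f ≫ b).val ≫ qR D = f.val ≫ qR D := by
  obtain ⟨w, h1, h2, -, -⟩ := exists_of_chain G ιP a f b ha hb
  rw [← h1, ← h2, Category.assoc, Category.assoc, qR_w]

/-- two arrows with the same image in `R̄` are conjugate by arrows of `P`. -/
theorem exists_conj_of_qR_eq {x y x' y' : Pt G T} (f : x ⟶ y) (g : x' ⟶ y')
    (h : f.val ≫ qR D = g.val ≫ qR D) :
    ∃ (a : x' ⟶ x) (b : y ⟶ y'), IsP ιP a ∧ IsP ιP b ∧ g = a ≫ f ≫ b := by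
  obtain ⟨x₀, x₁, x₂, x₃, fq, fr, fp, hq, hp, -, e2, -, e4⟩ :=
    exists_chain G ιP ((isPullback_qR D).lift g.val f.val h.symm)
  have e2' : f.val = fr.val := by
    rw [← e2]
    exact ((isPullback_qR D).lift_snd _ _ _).symm
  have e4' : g.val = (fq ≫ fr ≫ fp).val := by
    rw [← e4]
    exact ((isPullback_qR D).lift_fst _ _ _).symm
  obtain rfl : x₁ = x := pt_ext G (by rw [← fr.src, ← e2', f.src])
  obtain rfl : x₂ = y := pt_ext G (by rw [← fr.tgt, ← e2', f.tgt])
  obtain rfl : x₀ = x' := pt_ext G (by rw [← (fq ≫ fr ≫ fp).src, ← e4', g.src])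
  obtain rfl : x₃ = y' := pt_ext G (by rw [← (fq ≫ fr ≫ fp).tgt, ← e4', g.tgt])
  obtain rfl : f = fr := hom_ext e2'
  exact ⟨fq, fp, hq, hp, hom_ext e4'⟩

end Groth.Agent.Lib.Helper11.SubGQ
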