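import Mathlib
import Groth.Prelude
import Groth.Agent.Lib.Helper11SubQuotA

/-!
# Quotient of a groupoid scheme by a finite locally free subgroupoid: the structure maps (helper11)
-/

set_option autoImplicit false
set_option linter.style.haveILetI false
set_option linter.unusedSectionVars false
universe u

open CategoryTheory CategoryTheory.Limits AlgebraicGeometry

namespace Groth.Agent.Lib.Helper11.SubGQ

open Groth.Agent.Lib.Helper2.Grpd Groth.Agent.Lib.Helper11.PtGrpd Groth.Agent.Lib.Helper11.SubGrpd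
  Groth.Agent.Lib.Helper11.BiAct Groth.Agent.Lib.Helper11.Ffg Groth.Agent.Lib.Helper11.GQ

variable {S : Scheme.{u}} {G : Grpd.GroupoidScheme S} {P : Scheme.{u}} {ιP : P ⟶ G.R}
  (D : SubGrpd.Data G ιP) [Mono (ιP ≫ G.j)]
  [IsFinite (ιP ≫ G.s)] [Flat (ιP ≫ G.s)] [LocallyOfFinitePresentation (ιP ≫ G.s)]
  [IsFinite (ιP ≫ G.t)] [Flat (ιP ≫ G.t)] [LocallyOfFinitePresentation (ιP ≫ G.t)]
  [IsAffine G.U] [IsSeparated G.j] [LocallyQuasiFinite G.j] [LocallyOfFiniteType G.j]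

theorem exists_pUbar : ∃ p : Ubar D ⟶ S, qU D ≫ p = G.pU :=
  (isGQ_qU D).exists_desc G.pU (by
    rw [Category.assoc, Category.assoc, G.t_over, G.s_over])

/-- the structure map of `Ū`. -/
noncomputable def pUbar : Ubar D ⟶ S := (exists_pUbar D).choose

theorem qU_pUbar : qU D ≫ pUbar D = G.pU := (exists_pUbar D).choose_spec

theorem exists_sbar : ∃ sb : Rbar D ⟶ Ubar D, qR D ≫ sb = G.s ≫ qU D :=
  (isGQ_qR D).exists_desc (G.s ≫ qU D) (by
    rw [← Category.assoc, τ₂_s, ← Category.assoc (σ₂ G ιP), cond₂, Category.assoc, Category.assoc,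
      Category.assoc, Category.assoc]
    exact congrArg (πq G ιP ≫ ·) (by simpa only [Category.assoc] using (qU_w D).symm))

/-- the source map of the quotient groupoid. -/
noncomputable def sbar : Rbar D ⟶ Ubar D := (exists_sbar D).choose

theorem qR_sbar : qR D ≫ sbar D = G.s ≫ qU D := (exists_sbar D).choose_spec

theorem exists_tbar : ∃ tb : Rbar D ⟶ Ubar D, qR D ≫ tb = G.t ≫ qU D :=
  (isGQ_qR D).exists_desc (G.t ≫ qU D) (by
    rw [← Category.assoc, τ₂_t, ← Category.assoc (σ₂ G ιP), ← cond₁, Category.assoc,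
      Category.assoc, Category.assoc, Category.assoc]
    exact congrArg (πp G ιP ≫ ·) (by simpa only [Category.assoc] using qU_w D))

/-- the target map of the quotient groupoid. -/
noncomputable def tbar : Rbar D ⟶ Ubar D := (exists_tbar D).choose

theorem qR_tbar : qR D ≫ tbar D = G.t ≫ qU D := (exists_tbar D).choose_spec

variable {T : Scheme.{u}}

theorem val_qR_sbar {x y : Pt G T} (f : x ⟶ y) : (f.val ≫ qR D) ≫ sbar D = x.pt ≫ qU D := by
  rw [Category.assoc, qR_sbar, ← Category.assoc, f.src]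

theorem val_qR_tbar {x y : Pt G T} (f : x ⟶ y) : (f.val ≫ qR D) ≫ tbar D = y.pt ≫ qU D := by
  rw [Category.assoc, qR_tbar, ← Category.assoc, f.tgt]

theorem exists_ebar : ∃ eb : Ubar D ⟶ Rbar D, qU D ≫ eb = G.e ≫ qR D := by
  refine (isGQ_qU D).exists_desc (G.e ≫ qR D) ?_
  let x : Pt G P := ⟨ιP ≫ G.s⟩
  let y : Pt G P := ⟨ιP ≫ G.t⟩
  let p : x ⟶ y := ofP ιP (𝟙 P) (Category.id_comp _) (Category.id_comp _)
  have hp : IsP ιP p := isP_ofP _ _ _
  have h := qR_eq_of_conj D (𝟙 x) (Groupoid.inv p) p (isP_inv D hp) hp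
  have e1 : Groupoid.inv p ≫ 𝟙 x ≫ p = 𝟙 y := by simp
  rw [e1, id_val, id_val] at h
  have h' : (ιP ≫ G.t) ≫ G.e ≫ qR D = (ιP ≫ G.s) ≫ G.e ≫ qR D := h
  simpa only [Category.assoc] using h'

/-- the identity of the quotient groupoid. -/
noncomputable def ebar : Ubar D ⟶ Rbar D := (exists_ebar D).choose

theorem qU_ebar : qU D ≫ ebar D = G.e ≫ qR D := (exists_ebar D).choose_spec

theorem exists_ibar : ∃ ib : Rbar D ⟶ Rbar D, qR D ≫ ib = G.i ≫ qR D := by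
  refine (isGQ_qR D).exists_desc (G.i ≫ qR D) ?_
  obtain ⟨x₀, x₁, x₂, x₃, fq, fr, fp, hq, hp, -, e2, -, e4⟩ := exists_chain G ιP (𝟙 (R₂ G ιP))
  rw [Category.id_comp] at e2 e4
  have h := qR_eq_of_conj D (Groupoid.inv fr) (Groupoid.inv fp) (Groupoid.inv fq)
    (isP_inv D hp) (isP_inv D hq)
  have e1 : Groupoid.inv fp ≫ Groupoid.inv fr ≫ Groupoid.inv fq =
      Groupoid.inv (fq ≫ fr ≫ fp) := by simp
  rw [e1, inv_val, inv_val, ← e4] at h
  have e2' : σ₂ G ιP = fr.val := e2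
  rw [← e2'] at h
  simpa only [Category.assoc] using h

/-- the inverse of the quotient groupoid. -/
noncomputable def ibar : Rbar D ⟶ Rbar D := (exists_ibar D).choose

theorem qR_ibar : qR D ≫ ibar D = G.i ≫ qR D := (exists_ibar D).choose_spec

/-! ### the composition -/

omit [IsAffine G.U] [IsSeparated G.j] [LocallyQuasiFinite G.j] [LocallyOfFiniteType G.j]
  [IsFinite (ιP ≫ G.s)] [Flat (ιP ≫ G.s)] [LocallyOfFinitePresentation (ιP ≫ G.s)]
  [IsFinite (ιP ≫ G.t)] [Flat (ιP ≫ G.t)] [LocallyOfFinitePresentation (ιP ≫ G.t)] D in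
/-- the value of a composite of three arrows only depends on the values of the outer ones, when
the inner one lies in `P`. -/
theorem val_congr₃ {a b c d a' b' c' d' : Pt G T} (f : a ⟶ b) (g : b ⟶ c) (h : c ⟶ d)
    (f' : a' ⟶ b') (g' : b' ⟶ c') (h' : c' ⟶ d') (hf : f.val = f'.val) (hg : IsP ιP g)
    (hg' : IsP ιP g') (hh : h.val = h'.val) : (f ≫ g ≫ h).val = (f' ≫ g' ≫ h').val := by
  obtain rfl : a = a' := pt_ext G (by rw [← f.src, hf, f'.src])
  obtain rfl : b = b' := pt_ext G (by rw [← f.tgt, hf, f'.tgt])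
  obtain rfl : c = c' := pt_ext G (by rw [← h.src, hh, h'.src])
  obtain rfl : d = d' := pt_ext G (by rw [← h.tgt, hh, h'.tgt])
  obtain rfl : f = f' := hom_ext hf
  obtain rfl : h = h' := hom_ext hh
  obtain rfl : g = g' := isP_unique hg hg'
  rfl

/-- the connecting arrow exists. -/
theorem exists_conn {x₁ y₁ x₂ y₂ : Pt G T} (f₁ : x₁ ⟶ y₁) (f₂ : x₂ ⟶ y₂)
    (h : (f₁.val ≫ qR D) ≫ sbar D = (f₂.val ≫ qR D) ≫ tbar D) :
    ∃ p : y₂ ⟶ x₁, IsP ιP p := by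
  rw [← qU_eq_iff]
  rw [val_qR_sbar, val_qR_tbar] at h
  exact h.symm

/-- pairs of arrows `(α, β)` whose images in `R̄` are composable. -/
noncomputable abbrev C : Scheme.{u} := pullback (qR D ≫ sbar D) (qR D ≫ tbar D)

/-- the first arrow of the universal pair. -/
noncomputable def α₀ : C D ⟶ G.R := pullback.fst _ _

/-- the second arrow of the universal pair. -/
noncomputable def β₀ : C D ⟶ G.R := pullback.snd _ _

theorem cond₀ : (α₀ D ≫ qR D) ≫ sbar D = (β₀ D ≫ qR D) ≫ tbar D := by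
  have h : α₀ D ≫ qR D ≫ sbar D = β₀ D ≫ qR D ≫ tbar D :=
    pullback.condition (f := qR D ≫ sbar D) (g := qR D ≫ tbar D)
  simpa only [Category.assoc] using h

theorem pre_cond₀ (g : T ⟶ C D) :
    ((g ≫ α₀ D) ≫ qR D) ≫ sbar D = ((g ≫ β₀ D) ≫ qR D) ≫ tbar D := by
  have := congrArg (g ≫ ·) (cond₀ D)
  simpa only [Category.assoc] using this

/-- constructor for points of `C`. -/
noncomputable def mkC (a b : T ⟶ G.R) (h : (a ≫ qR D) ≫ sbar D = (b ≫ qR D) ≫ tbar D) :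
    T ⟶ C D :=
  pullback.lift a b (by simpa only [Category.assoc] using h)

theorem mkC_α₀ (a b : T ⟶ G.R) (h : (a ≫ qR D) ≫ sbar D = (b ≫ qR D) ≫ tbar D) :
    mkC D a b h ≫ α₀ D = a := pullback.lift_fst _ _ _

theorem mkC_β₀ (a b : T ⟶ G.R) (h : (a ≫ qR D) ≫ sbar D = (b ≫ qR D) ≫ tbar D) :
    mkC D a b h ≫ β₀ D = b := pullback.lift_snd _ _ _

/-- the cover of the composable pairs of `R̄` by `C`. -/
noncomputable def κ : C D ⟶ pullback (sbar D) (tbar D) :=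
  pullback.map (qR D ≫ sbar D) (qR D ≫ tbar D) (sbar D) (tbar D) (qR D) (qR D) (𝟙 _)
    ((Category.comp_id _).trans rfl) ((Category.comp_id _).trans rfl)

theorem κ_fst : κ D ≫ pullback.fst _ _ = α₀ D ≫ qR D := by
  unfold κ α₀
  rw [pullback.lift_fst]

theorem κ_snd : κ D ≫ pullback.snd _ _ = β₀ D ≫ qR D := by
  unfold κ β₀
  rw [pullback.lift_snd]

instance : Flat (κ D) :=
  MorphismProperty.pullbackMap (P := @Flat) (inferInstanceAs (Flat (qR D)))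
    (inferInstanceAs (Flat (qR D))) rfl rfl

instance : Surjective (κ D) :=
  MorphismProperty.pullbackMap (P := @Surjective) (inferInstanceAs (Surjective (qR D)))
    (inferInstanceAs (Surjective (qR D))) rfl rfl

instance : LocallyOfFinitePresentation (κ D) :=
  MorphismProperty.pullbackMap (P := @LocallyOfFinitePresentation)
    (inferInstanceAs (LocallyOfFinitePresentation (qR D)))
    (inferInstanceAs (LocallyOfFinitePresentation (qR D))) rfl rfl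

instance : Epi (κ D) := Flat.epi_of_flat_of_surjective _

/-- the connecting arrow of `P` on the universal pair. -/
noncomputable def p₀ : (⟨β₀ D ≫ G.t⟩ : Pt G (C D)) ⟶ ⟨α₀ D ≫ G.s⟩ :=
  (exists_conn D (arr (α₀ D)) (arr (β₀ D)) (cond₀ D)).choose

theorem isP_p₀ : IsP ιP (p₀ D) :=
  (exists_conn D (arr (α₀ D)) (arr (β₀ D)) (cond₀ D)).choose_spec

/-- the composition before descent. -/
noncomputable def m : C D ⟶ Rbar D :=
  (arr (β₀ D) ≫ p₀ D ≫ arr (α₀ D)).val ≫ qR D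

theorem comp_m (g : T ⟶ C D) {x₁ y₁ x₂ y₂ : Pt G T} (f₁ : x₁ ⟶ y₁) (f₂ : x₂ ⟶ y₂) (p : y₂ ⟶ x₁)
    (h₁ : g ≫ α₀ D = f₁.val) (h₂ : g ≫ β₀ D = f₂.val) (hp : IsP ιP p) :
    g ≫ m D = (f₂ ≫ p ≫ f₁).val ≫ qR D := by
  unfold m
  rw [← Category.assoc, ← res_map_val, Functor.map_comp, Functor.map_comp]
  congr 1
  exact val_congr₃ _ _ _ _ _ _ h₂ (isP_res g (isP_p₀ D)) hp h₁

theorem m_desc {Z : Scheme.{u}} (g₁ g₂ : Z ⟶ C D) (h : g₁ ≫ κ D = g₂ ≫ κ D) :
    g₁ ≫ m D = g₂ ≫ m D := by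
  have hα : (g₁ ≫ α₀ D) ≫ qR D = (g₂ ≫ α₀ D) ≫ qR D := by
    have := congrArg (· ≫ pullback.fst _ _) h
    simpa only [Category.assoc, κ_fst] using this
  have hβ : (g₁ ≫ β₀ D) ≫ qR D = (g₂ ≫ β₀ D) ≫ qR D := by
    have := congrArg (· ≫ pullback.snd _ _) h
    simpa only [Category.assoc, κ_snd] using this
  obtain ⟨a, b, ha, hb, hab⟩ := exists_conj_of_qR_eq D (arr (g₁ ≫ α₀ D)) (arr (g₂ ≫ α₀ D)) hα
  obtain ⟨a', b', ha', hb', hab'⟩ :=
    exists_conj_of_qR_eq D (arr (g₁ ≫ β₀ D)) (arr (g₂ ≫ β₀ D)) hβ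
  obtain ⟨p₁, hp₁⟩ := exists_conn D (arr (g₁ ≫ α₀ D)) (arr (g₁ ≫ β₀ D)) (pre_cond₀ D g₁)
  obtain ⟨p₂, hp₂⟩ := exists_conn D (arr (g₂ ≫ α₀ D)) (arr (g₂ ≫ β₀ D)) (pre_cond₀ D g₂)
  rw [comp_m D g₁ (arr (g₁ ≫ α₀ D)) (arr (g₁ ≫ β₀ D)) p₁ rfl rfl hp₁,
    comp_m D g₂ (arr (g₂ ≫ α₀ D)) (arr (g₂ ≫ β₀ D)) p₂ rfl rfl hp₂, hab, hab']
  have e : b' ≫ p₂ ≫ a = p₁ := isP_unique (isP_comp D hb' (isP_comp D hp₂ ha)) hp₁
  have e' : (a' ≫ arr (g₁ ≫ β₀ D) ≫ b') ≫ p₂ ≫ a ≫ arr (g₁ ≫ α₀ D) ≫ b =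
      a' ≫ (arr (g₁ ≫ β₀ D) ≫ p₁ ≫ arr (g₁ ≫ α₀ D)) ≫ b := by
    rw [← e]
    simp only [Category.assoc]
  rw [e', qR_eq_of_conj D _ _ _ ha' hb]

/-- the composition of the quotient groupoid. -/
noncomputable def cbar : pullback (sbar D) (tbar D) ⟶ Rbar D :=
  EffectiveEpi.desc (κ D) (m D) (fun g₁ g₂ h => m_desc D g₁ g₂ h)

theorem κ_cbar : κ D ≫ cbar D = m D :=
  EffectiveEpi.fac (κ D) (m D) (fun g₁ g₂ h => m_desc D g₁ g₂ h)

/-- the composite of two `T`-points of `R̄`. -/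
noncomputable def cb (α β : T ⟶ Rbar D) (h : α ≫ sbar D = β ≫ tbar D) : T ⟶ Rbar D :=
  pullback.lift α β h ≫ cbar D

theorem cb_congr {α α' β β' : T ⟶ Rbar D} (h : α ≫ sbar D = β ≫ tbar D) (hα : α = α')
    (hβ : β = β') : cb D α β h = cb D α' β' (by rw [← hα, ← hβ]; exact h) := by
  subst hα hβ
  rfl

theorem pre_cb {T' : Scheme.{u}} (π : T' ⟶ T) (α β : T ⟶ Rbar D)
    (h : α ≫ sbar D = β ≫ tbar D) :
    π ≫ cb D α β h = cb D (π ≫ α) (π ≫ β) (by rw [Category.assoc, Category.assoc, h]) := by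
  unfold cb
  rw [← Category.assoc]
  congr 1
  apply pullback.hom_ext
  · rw [Category.assoc, pullback.lift_fst, pullback.lift_fst]
  · rw [Category.assoc, pullback.lift_snd, pullback.lift_snd]

/-- the composite of the classes of two arrows joined by an arrow of `P`. -/
theorem cb_eq {x₁ y₁ x₂ y₂ : Pt G T} (f₁ : x₁ ⟶ y₁) (f₂ : x₂ ⟶ y₂) (p : y₂ ⟶ x₁)
    (hp : IsP ιP p) (h : (f₁.val ≫ qR D) ≫ sbar D = (f₂.val ≫ qR D) ≫ tbar D) :
    cb D (f₁.val ≫ qR D) (f₂.val ≫ qR D) h = (f₂ ≫ p ≫ f₁).val ≫ qR D := by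
  have e : pullback.lift (f₁.val ≫ qR D) (f₂.val ≫ qR D) h = mkC D f₁.val f₂.val h ≫ κ D := by
    apply pullback.hom_ext
    · rw [pullback.lift_fst, Category.assoc, κ_fst, ← Category.assoc, mkC_α₀]
    · rw [pullback.lift_snd, Category.assoc, κ_snd, ← Category.assoc, mkC_β₀]
  unfold cb
  rw [e, Category.assoc, κ_cbar]
  exact comp_m D _ f₁ f₂ p (mkC_α₀ D _ _ _) (mkC_β₀ D _ _ _) hp

end Groth.Agent.Lib.Helper11.SubGQ
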