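import Mathlib
import Groth.Prelude
import Groth.Agent.Lib.Helper11SubQuotB

/-!
# Quotient of a groupoid scheme by a finite locally free subgroupoid: the quotient groupoid (helper11)
-/

set_option autoImplicit false
set_option linter.style.haveILetI false
set_option linter.unusedSectionVars false
universe u

open CategoryTheory CategoryTheory.Limits AlgebraicGeometry

namespace Groth.Agent.Lib.Helper11.SubGQ

open Groth.Agent.Lib.Helper2.Grpd Groth.Agent.Lib.Helper11.PtGrpd Groth.Agent.Lib.Helper11.SubGrpd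
  Groth.Agent.Lib.Helper11.BiAct Groth.Agent.Lib.Helper11.Ffg Groth.Agent.Lib.Helper11.GQ

variable {S : Scheme.{u}} {G : Grpd.GroupoidScheme S} {P : Scheme.{u}} {ιP : P ⟶ G.R}
  (D : SubGrpd.Data G ιP) [Mono (ιP ≫ G.j)]
  [IsFinite (ιP ≫ G.s)] [Flat (ιP ≫ G.s)] [LocallyOfFinitePresentation (ιP ≫ G.s)]
  [IsFinite (ιP ≫ G.t)] [Flat (ιP ≫ G.t)] [LocallyOfFinitePresentation (ιP ≫ G.t)]
  [IsAffine G.U] [IsSeparated G.j] [LocallyQuasiFinite G.j] [LocallyOfFiniteType G.j]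
  {T : Scheme.{u}}

/-- a point of `R̄` lifts to `R` on an fppf cover. -/
theorem exists_lift (a : T ⟶ Rbar D) :
    ∃ (T' : Scheme.{u}) (π : T' ⟶ T) (x y : Pt G T') (f : x ⟶ y),
      Flat π ∧ Surjective π ∧ LocallyOfFinitePresentation π ∧ f.val ≫ qR D = π ≫ a :=
  ⟨pullback a (qR D), pullback.fst _ _, _, _, arr (pullback.snd _ _), inferInstance,
    inferInstance, inferInstance, pullback.condition.symm⟩

theorem cbar_s : cbar D ≫ sbar D = pullback.snd _ _ ≫ sbar D := by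
  rw [← cancel_epi (κ D), ← Category.assoc, κ_cbar, ← Category.assoc, κ_snd]
  unfold m
  rw [val_qR_sbar, Category.assoc (β₀ D) (qR D), qR_sbar]
  exact Category.assoc _ _ _

theorem cbar_t : cbar D ≫ tbar D = pullback.fst _ _ ≫ tbar D := by
  rw [← cancel_epi (κ D), ← Category.assoc, κ_cbar, ← Category.assoc, κ_fst]
  unfold m
  rw [val_qR_tbar, Category.assoc (α₀ D) (qR D), qR_tbar]
  exact Category.assoc _ _ _

theorem cb_s (α β : T ⟶ Rbar D) (h : α ≫ sbar D = β ≫ tbar D) :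
    cb D α β h ≫ sbar D = β ≫ sbar D := by
  unfold cb
  rw [Category.assoc, cbar_s, ← Category.assoc, pullback.lift_snd]

theorem cb_t (α β : T ⟶ Rbar D) (h : α ≫ sbar D = β ≫ tbar D) :
    cb D α β h ≫ tbar D = α ≫ tbar D := by
  unfold cb
  rw [Category.assoc, cbar_t, ← Category.assoc, pullback.lift_fst]

theorem ebar_s : ebar D ≫ sbar D = 𝟙 _ := by
  rw [← cancel_epi (qU D), ← Category.assoc, qU_ebar, Category.assoc, qR_sbar, ← Category.assoc,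
    G.e_s, Category.id_comp, Category.comp_id]

theorem ebar_t : ebar D ≫ tbar D = 𝟙 _ := by
  rw [← cancel_epi (qU D), ← Category.assoc, qU_ebar, Category.assoc, qR_tbar, ← Category.assoc,
    G.e_t, Category.id_comp, Category.comp_id]

theorem ibar_s : ibar D ≫ sbar D = tbar D := by
  rw [← cancel_epi (qR D), ← Category.assoc, qR_ibar, Category.assoc, qR_sbar, ← Category.assoc,
    G.i_s, qR_tbar]

theorem ibar_t : ibar D ≫ tbar D = sbar D := by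
  rw [← cancel_epi (qR D), ← Category.assoc, qR_ibar, Category.assoc, qR_tbar, ← Category.assoc,
    G.i_t, qR_sbar]

theorem tbar_over : tbar D ≫ pUbar D = sbar D ≫ pUbar D := by
  rw [← cancel_epi (qR D), ← Category.assoc, qR_tbar, ← Category.assoc, qR_sbar, Category.assoc,
    Category.assoc, qU_pUbar, G.t_over, G.s_over]

theorem id_val_qR (x : Pt G T) : (𝟙 x : x ⟶ x).val ≫ qR D = (x.pt ≫ qU D) ≫ ebar D := by
  rw [id_val, Category.assoc, Category.assoc, qU_ebar]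

theorem inv_val_qR {x y : Pt G T} (f : x ⟶ y) :
    (Groupoid.inv f).val ≫ qR D = (f.val ≫ qR D) ≫ ibar D := by
  rw [inv_val, Category.assoc, Category.assoc, qR_ibar]

theorem cb_e (α β : T ⟶ Rbar D) (hβ : β = α ≫ sbar D ≫ ebar D)
    (h : α ≫ sbar D = β ≫ tbar D) : cb D α β h = α := by
  subst hβ
  obtain ⟨T', π, x, y, f, _, _, _, hf⟩ := exists_lift D α
  haveI : Epi π := Flat.epi_of_flat_of_surjective _
  rw [← cancel_epi π, pre_cb]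
  have e2 : π ≫ α ≫ sbar D ≫ ebar D = (𝟙 x : x ⟶ x).val ≫ qR D := by
    rw [id_val_qR, ← val_qR_sbar D f, hf, Category.assoc, Category.assoc]
  rw [cb_congr D _ hf.symm e2, cb_eq D f (𝟙 x) (𝟙 x) (isP_id D x), Category.id_comp,
    Category.id_comp, hf]

theorem e_cb (α β : T ⟶ Rbar D) (hβ : β = α ≫ tbar D ≫ ebar D)
    (h : β ≫ sbar D = α ≫ tbar D) : cb D β α h = α := by
  subst hβ
  obtain ⟨T', π, x, y, f, _, _, _, hf⟩ := exists_lift D α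
  haveI : Epi π := Flat.epi_of_flat_of_surjective _
  rw [← cancel_epi π, pre_cb]
  have e2 : π ≫ α ≫ tbar D ≫ ebar D = (𝟙 y : y ⟶ y).val ≫ qR D := by
    rw [id_val_qR, ← val_qR_tbar D f, hf, Category.assoc, Category.assoc]
  rw [cb_congr D _ e2 hf.symm, cb_eq D (𝟙 y) f (𝟙 y) (isP_id D y), Category.id_comp,
    Category.comp_id, hf]

theorem cb_i (α : T ⟶ Rbar D) (h : α ≫ sbar D = (α ≫ ibar D) ≫ tbar D) :
    cb D α (α ≫ ibar D) h = α ≫ tbar D ≫ ebar D := by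
  obtain ⟨T', π, x, y, f, _, _, _, hf⟩ := exists_lift D α
  haveI : Epi π := Flat.epi_of_flat_of_surjective _
  rw [← cancel_epi π, pre_cb]
  have e2 : π ≫ α ≫ ibar D = (Groupoid.inv f).val ≫ qR D := by
    rw [inv_val_qR, hf, Category.assoc]
  rw [cb_congr D _ hf.symm e2, cb_eq D f (Groupoid.inv f) (𝟙 x) (isP_id D x), Category.id_comp,
    Groupoid.inv_comp, id_val_qR, ← val_qR_tbar D f, hf, Category.assoc, Category.assoc]

theorem i_cb (α : T ⟶ Rbar D) (h : (α ≫ ibar D) ≫ sbar D = α ≫ tbar D) :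
    cb D (α ≫ ibar D) α h = α ≫ sbar D ≫ ebar D := by
  obtain ⟨T', π, x, y, f, _, _, _, hf⟩ := exists_lift D α
  haveI : Epi π := Flat.epi_of_flat_of_surjective _
  rw [← cancel_epi π, pre_cb]
  have e2 : π ≫ α ≫ ibar D = (Groupoid.inv f).val ≫ qR D := by
    rw [inv_val_qR, hf, Category.assoc]
  rw [cb_congr D _ e2 hf.symm, cb_eq D (Groupoid.inv f) f (𝟙 y) (isP_id D y), Category.id_comp,
    Groupoid.comp_inv, id_val_qR, ← val_qR_sbar D f, hf, Category.assoc, Category.assoc]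

/-- two points of `R̄` lift to `R` on a common fppf cover. -/
theorem exists_lift₂ (a b : T ⟶ Rbar D) :
    ∃ (T' : Scheme.{u}) (π : T' ⟶ T) (x₁ y₁ x₂ y₂ : Pt G T') (f₁ : x₁ ⟶ y₁) (f₂ : x₂ ⟶ y₂),
      Flat π ∧ Surjective π ∧ LocallyOfFinitePresentation π ∧ f₁.val ≫ qR D = π ≫ a ∧
      f₂.val ≫ qR D = π ≫ b := by
  obtain ⟨T₁, π₁, x₁, y₁, f₁, _, _, _, hf₁⟩ := exists_lift D a
  obtain ⟨T₂, π₂, x₂, y₂, f₂, _, _, _, hf₂⟩ := exists_lift D (π₁ ≫ b)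
  refine ⟨T₂, π₂ ≫ π₁, _, _, _, _, (res π₂).map f₁, f₂, inferInstance, inferInstance,
    inferInstance, ?_, ?_⟩
  · rw [res_map_val, Category.assoc, hf₁, Category.assoc]
  · rw [hf₂, Category.assoc]

/-- three points of `R̄` lift to `R` on a common fppf cover. -/
theorem exists_lift₃ (a b c : T ⟶ Rbar D) :
    ∃ (T' : Scheme.{u}) (π : T' ⟶ T) (x₁ y₁ x₂ y₂ x₃ y₃ : Pt G T') (f₁ : x₁ ⟶ y₁) (f₂ : x₂ ⟶ y₂)
      (f₃ : x₃ ⟶ y₃),
      Flat π ∧ Surjective π ∧ LocallyOfFinitePresentation π ∧ f₁.val ≫ qR D = π ≫ a ∧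
      f₂.val ≫ qR D = π ≫ b ∧ f₃.val ≫ qR D = π ≫ c := by
  obtain ⟨T₁, π₁, x₁, y₁, x₂, y₂, f₁, f₂, _, _, _, hf₁, hf₂⟩ := exists_lift₂ D a b
  obtain ⟨T₂, π₂, x₃, y₃, f₃, _, _, _, hf₃⟩ := exists_lift D (π₁ ≫ c)
  refine ⟨T₂, π₂ ≫ π₁, _, _, _, _, _, _, (res π₂).map f₁, (res π₂).map f₂, f₃, inferInstance,
    inferInstance, inferInstance, ?_, ?_, ?_⟩
  · rw [res_map_val, Category.assoc, hf₁, Category.assoc]
  · rw [res_map_val, Category.assoc, hf₂, Category.assoc]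
  · rw [hf₃, Category.assoc]

theorem cb_assoc (α β γ : T ⟶ Rbar D) (h₁ : α ≫ sbar D = β ≫ tbar D)
    (h₂ : β ≫ sbar D = γ ≫ tbar D) (h₃ : cb D α β h₁ ≫ sbar D = γ ≫ tbar D)
    (h₄ : α ≫ sbar D = cb D β γ h₂ ≫ tbar D) :
    cb D (cb D α β h₁) γ h₃ = cb D α (cb D β γ h₂) h₄ := by
  obtain ⟨T', π, x₁, y₁, x₂, y₂, x₃, y₃, f₁, f₂, f₃, _, _, _, hf₁, hf₂, hf₃⟩ :=
    exists_lift₃ D α β γ
  haveI : Epi π := Flat.epi_of_flat_of_surjective _
  obtain ⟨p₁₂, hp₁₂⟩ := exists_conn D f₁ f₂ (by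
    rw [hf₁, hf₂, Category.assoc, Category.assoc, h₁])
  obtain ⟨p₂₃, hp₂₃⟩ := exists_conn D f₂ f₃ (by
    rw [hf₂, hf₃, Category.assoc, Category.assoc, h₂])
  have e₁ : π ≫ cb D α β h₁ = (f₂ ≫ p₁₂ ≫ f₁).val ≫ qR D := by
    rw [pre_cb, cb_congr D _ hf₁.symm hf₂.symm, cb_eq D f₁ f₂ p₁₂ hp₁₂]
  have e₂ : π ≫ cb D β γ h₂ = (f₃ ≫ p₂₃ ≫ f₂).val ≫ qR D := by
    rw [pre_cb, cb_congr D _ hf₂.symm hf₃.symm, cb_eq D f₂ f₃ p₂₃ hp₂₃]
  have hA : ((f₂ ≫ p₁₂ ≫ f₁).val ≫ qR D) ≫ sbar D = (f₃.val ≫ qR D) ≫ tbar D := by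
    rw [val_qR_sbar, val_qR_tbar]
    exact ((qU_eq_iff D _ _).2 ⟨p₂₃, hp₂₃⟩).symm
  have hB : (f₁.val ≫ qR D) ≫ sbar D = ((f₃ ≫ p₂₃ ≫ f₂).val ≫ qR D) ≫ tbar D := by
    rw [val_qR_sbar, val_qR_tbar]
    exact ((qU_eq_iff D _ _).2 ⟨p₁₂, hp₁₂⟩).symm
  rw [← cancel_epi π]
  calc π ≫ cb D (cb D α β h₁) γ h₃
      = cb D (π ≫ cb D α β h₁) (π ≫ γ) _ := pre_cb D π _ _ _
    _ = cb D ((f₂ ≫ p₁₂ ≫ f₁).val ≫ qR D) (f₃.val ≫ qR D) hA := cb_congr D _ e₁ hf₃.symm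
    _ = (f₃ ≫ p₂₃ ≫ f₂ ≫ p₁₂ ≫ f₁).val ≫ qR D := cb_eq D (f₂ ≫ p₁₂ ≫ f₁) f₃ p₂₃ hp₂₃ hA
    _ = ((f₃ ≫ p₂₃ ≫ f₂) ≫ p₁₂ ≫ f₁).val ≫ qR D := by simp only [Category.assoc]
    _ = cb D (f₁.val ≫ qR D) ((f₃ ≫ p₂₃ ≫ f₂).val ≫ qR D) hB :=
        (cb_eq D f₁ (f₃ ≫ p₂₃ ≫ f₂) p₁₂ hp₁₂ hB).symm
    _ = cb D (π ≫ α) (π ≫ cb D β γ h₂) _ := cb_congr D _ hf₁ e₂.symm
    _ = π ≫ cb D α (cb D β γ h₂) h₄ := (pre_cb D π _ _ _).symm

/-- the quotient groupoid. -/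
noncomputable def H : Grpd.GroupoidScheme S where
  U := Ubar D
  R := Rbar D
  pU := pUbar D
  pR := sbar D ≫ pUbar D
  s := sbar D
  t := tbar D
  e := ebar D
  i := ibar D
  c := cbar D
  s_over := rfl
  t_over := tbar_over D
  comp_s α β h := cb_s D α β h
  comp_t α β h := cb_t D α β h
  assoc α β γ h₁ h₂ := cb_assoc D α β γ h₁ h₂ _ _
  e_s := ebar_s D
  e_t := ebar_t D
  comp_e α := cb_e D α _ rfl _
  e_comp α := e_cb D α _ rfl _
  i_s := ibar_s D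
  i_t := ibar_t D
  comp_i α := cb_i D α _
  i_comp α := i_cb D α _

@[simp] theorem H_U : (H D).U = Ubar D := rfl
@[simp] theorem H_R : (H D).R = Rbar D := rfl
@[simp] theorem H_pU : (H D).pU = pUbar D := rfl
@[simp] theorem H_s : (H D).s = sbar D := rfl
@[simp] theorem H_t : (H D).t = tbar D := rfl
@[simp] theorem H_c : (H D).c = cbar D := rfl

/-- the quotient morphism of groupoids. -/
noncomputable def φ : Grpd.GroupoidScheme.Hom G (H D) where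
  fU := qU D
  fR := qR D
  fU_over := qU_pUbar D
  comm_s := qR_sbar D
  comm_t := qR_tbar D
  comm_c {T} α β h := by
    let f₁ : (⟨α ≫ G.s⟩ : Pt G T) ⟶ ⟨α ≫ G.t⟩ := arr α
    let f₂ : (⟨β ≫ G.s⟩ : Pt G T) ⟶ ⟨α ≫ G.s⟩ := homMk β rfl h.symm
    have := cb_eq D f₁ f₂ (𝟙 _) (isP_id D _) (by
      rw [val_qR_sbar, val_qR_tbar])
    rw [Category.id_comp] at this
    exact this.symm

@[simp] theorem φ_fU : (φ D).fU = qU D := rfl
@[simp] theorem φ_fR : (φ D).fR = qR D := rfl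

end Groth.Agent.Lib.Helper11.SubGQ
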