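import Mathlib
import Groth.Prelude
import Groth.Agent.Lib.Helper11SubQuotC
import Groth.Agent.Lib.Helper12QuotSh

/-!
# Quotient of a groupoid scheme by a finite locally free subgroupoid: the cartesian square (helper11)
-/

set_option autoImplicit false
set_option linter.style.haveILetI false
set_option linter.unusedSectionVars false
universe u

open CategoryTheory CategoryTheory.Limits AlgebraicGeometry

namespace Groth.Agent.Lib.Helper11.SubGQ

open Groth.Agent.Lib.Helper2.Grpd Groth.Agent.Lib.Helper11.PtGrpd Groth.Agent.Lib.Helper11.SubGrpd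
  Groth.Agent.Lib.Helper11.BiAct Groth.Agent.Lib.Helper11.Ffg Groth.Agent.Lib.Helper11.GQ

variable {S : Scheme.{u}} {G : Grpd.GroupoidScheme S} {P : Scheme.{u}} {ιP : P ⟶ G.R}
  (D : SubGrpd.Data G ιP) [Mono (ιP ≫ G.j)]
  [IsFinite (ιP ≫ G.s)] [Flat (ιP ≫ G.s)] [LocallyOfFinitePresentation (ιP ≫ G.s)]
  [IsFinite (ιP ≫ G.t)] [Flat (ιP ≫ G.t)] [LocallyOfFinitePresentation (ιP ≫ G.t)]
  [IsAffine G.U] [IsSeparated G.j] [LocallyQuasiFinite G.j] [LocallyOfFiniteType G.j]
  {T : Scheme.{u}}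

/-- an arrow is determined by its class in `R̄`, its source and its target. -/
theorem unique_lift (r r' : T ⟶ G.R) (h : r ≫ qR D = r' ≫ qR D) (hs : r ≫ G.s = r' ≫ G.s)
    (ht : r ≫ G.t = r' ≫ G.t) : r = r' := by
  let f : (⟨r ≫ G.s⟩ : Pt G T) ⟶ ⟨r ≫ G.t⟩ := arr r
  let f' : (⟨r ≫ G.s⟩ : Pt G T) ⟶ ⟨r ≫ G.t⟩ := homMk r' hs.symm ht.symm
  obtain ⟨a, b, ha, hb, hab⟩ := exists_conj_of_qR_eq D f f' h
  obtain rfl : a = 𝟙 _ := isP_unique ha (isP_id D _)
  obtain rfl : b = 𝟙 _ := isP_unique hb (isP_id D _)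
  rw [Category.id_comp, Category.comp_id] at hab
  have := congrArg PtHom.val hab
  exact this.symm

/-- an arrow with prescribed class in `R̄`, source and target exists. -/
theorem exists_lift_R (r : T ⟶ Rbar D) (a b : T ⟶ G.U) (ha : r ≫ tbar D = a ≫ qU D)
    (hb : r ≫ sbar D = b ≫ qU D) :
    ∃ ρ : T ⟶ G.R, ρ ≫ qR D = r ∧ ρ ≫ G.t = a ∧ ρ ≫ G.s = b := by
  obtain ⟨T', π, x, y, f, _, _, _, hf⟩ := exists_lift D r
  haveI : Epi π := Flat.epi_of_flat_of_surjective _
  obtain ⟨u, hu⟩ : ∃ u : (⟨π ≫ b⟩ : Pt G T') ⟶ x, IsP ιP u := by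
    rw [← qU_eq_iff]
    change (π ≫ b) ≫ qU D = x.pt ≫ qU D
    rw [← val_qR_sbar D f, hf, Category.assoc, Category.assoc, hb]
  obtain ⟨v, hv⟩ : ∃ v : y ⟶ (⟨π ≫ a⟩ : Pt G T'), IsP ιP v := by
    rw [← qU_eq_iff]
    change y.pt ≫ qU D = (π ≫ a) ≫ qU D
    rw [← val_qR_tbar D f, hf, Category.assoc, Category.assoc, ha]
  have h1 : (u ≫ f ≫ v).val ≫ qR D = π ≫ r := (qR_eq_of_conj D f u v hu hv).trans hf
  have hdesc : ∀ {Z : Scheme.{u}} (g₁ g₂ : Z ⟶ T'), g₁ ≫ π = g₂ ≫ π →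
      g₁ ≫ (u ≫ f ≫ v).val = g₂ ≫ (u ≫ f ≫ v).val := by
    intro Z g₁ g₂ h
    apply unique_lift D
    · rw [Category.assoc, Category.assoc, h1, ← Category.assoc, h, Category.assoc]
    · rw [Category.assoc, Category.assoc, (u ≫ f ≫ v).src]
      change g₁ ≫ π ≫ b = g₂ ≫ π ≫ b
      rw [← Category.assoc, h, Category.assoc]
    · rw [Category.assoc, Category.assoc, (u ≫ f ≫ v).tgt]
      change g₁ ≫ π ≫ a = g₂ ≫ π ≫ a
      rw [← Category.assoc, h, Category.assoc]
  refine ⟨EffectiveEpi.desc π (u ≫ f ≫ v).val hdesc, ?_, ?_, ?_⟩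
  · rw [← cancel_epi π, ← Category.assoc, EffectiveEpi.fac π _ hdesc, h1]
  · rw [← cancel_epi π, ← Category.assoc, EffectiveEpi.fac π _ hdesc, (u ≫ f ≫ v).tgt]
  · rw [← cancel_epi π, ← Category.assoc, EffectiveEpi.fac π _ hdesc, (u ≫ f ≫ v).src]

/-- `R` is the restriction of `R̄` along `U ⟶ Ū`. -/
theorem isPullback_φ (h1 : G.pU ≫ 𝟙 S = (φ D).fU ≫ (H D).pU)
    (h2 : G.pU ≫ 𝟙 S = (φ D).fU ≫ (H D).pU) :
    IsPullback (φ D).fR G.j (H D).j
      (pullback.map G.pU G.pU (H D).pU (H D).pU (φ D).fU (φ D).fU (𝟙 S) h1 h2) := by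
  have hw : (φ D).fR ≫ (H D).j =
      G.j ≫ pullback.map G.pU G.pU (H D).pU (H D).pU (φ D).fU (φ D).fU (𝟙 S) h1 h2 := by
    unfold Grpd.GroupoidScheme.j
    apply pullback.hom_ext
    · rw [Category.assoc, pullback.lift_fst, Category.assoc, pullback.lift_fst, ← Category.assoc,
        pullback.lift_fst]
      exact qR_tbar D
    · rw [Category.assoc, pullback.lift_snd, Category.assoc, pullback.lift_snd, ← Category.assoc,
        pullback.lift_snd]
      exact qR_sbar D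
  have key : ∀ c : PullbackCone (H D).j
      (pullback.map G.pU G.pU (H D).pU (H D).pU (φ D).fU (φ D).fU (𝟙 S) h1 h2),
      ∃ ρ : c.pt ⟶ G.R, ρ ≫ qR D = c.fst ∧ ρ ≫ G.t = c.snd ≫ pullback.fst _ _ ∧
        ρ ≫ G.s = c.snd ≫ pullback.snd _ _ := by
    intro c
    refine exists_lift_R D c.fst _ _ ?_ ?_
    · have := congrArg (· ≫ pullback.fst _ _) c.condition
      unfold Grpd.GroupoidScheme.j at this
      simp only [Category.assoc, pullback.lift_fst] at this
      exact this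
    · have := congrArg (· ≫ pullback.snd _ _) c.condition
      unfold Grpd.GroupoidScheme.j at this
      simp only [Category.assoc, pullback.lift_snd] at this
      exact this
  refine ⟨⟨hw⟩, ⟨PullbackCone.IsLimit.mk _ (fun c => (key c).choose) ?_ ?_ ?_⟩⟩
  · intro c
    exact (key c).choose_spec.1
  · intro c
    unfold Grpd.GroupoidScheme.j
    apply pullback.hom_ext
    · rw [Category.assoc, pullback.lift_fst]
      exact (key c).choose_spec.2.1
    · rw [Category.assoc, pullback.lift_snd]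
      exact (key c).choose_spec.2.2
  · intro c m hm1 hm2
    apply unique_lift D
    · exact hm1.trans (key c).choose_spec.1.symm
    · have := congrArg (· ≫ pullback.snd _ _) hm2
      unfold Grpd.GroupoidScheme.j at this
      simp only [Category.assoc, pullback.lift_snd] at this
      exact this.trans (key c).choose_spec.2.2.symm
    · have := congrArg (· ≫ pullback.fst _ _) hm2
      unfold Grpd.GroupoidScheme.j at this
      simp only [Category.assoc, pullback.lift_fst] at this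
      exact this.trans (key c).choose_spec.2.1.symm

/-- `Ū` is the fppf quotient sheaf `U/P`. -/
theorem isQuotient_φ (hs : (ιP ≫ G.s) ≫ G.pU = ιP ≫ G.pR) (ht : (ιP ≫ G.t) ≫ G.pU = ιP ≫ G.pR) :
    QuotSh.IsQuotient Scheme.fppfPrecoverage
      (Over.homMk (ιP ≫ G.s) hs : (Over.mk (ιP ≫ G.pR) : Over S) ⟶ Over.mk G.pU)
      (Over.homMk (ιP ≫ G.t) ht : (Over.mk (ιP ≫ G.pR) : Over S) ⟶ Over.mk G.pU)
      (Over.homMk (φ D).fU (φ D).fU_over : Over.mk G.pU ⟶ Over.mk (H D).pU) := by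
  apply Groth.Agent.Lib.Helper12.QuotShLib.isQuotient_of_isKernelPair
  · refine IsPullback.of_map (Over.forget S) ?_ (isPullback_qU D).flip
    apply Over.OverMorphism.ext
    simp only [Over.comp_left, Over.homMk_left]
    exact (qU_w D).symm
  · exact (qU D).singleton_mem_fppfPrecoverage

end Groth.Agent.Lib.Helper11.SubGQ
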