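import Mathlib

/-!
# Tensor products of commutative rings over `ℤ` with canonical instances (helper11)

`TensorProduct ℤ X Y` elaborates with the `AddCommGroup.toIntModule` module structures, for which
the ring instances of `Algebra.TensorProduct` are not found by instance search.  `TC X Y` is the
same type with the `Algebra.toModule` structures of `Ring.toIntAlgebra`; it carries the `CommRing`
instance, the two inclusions and the coproduct property.
-/

namespace Groth.Agent.Lib.Helper11.TensorZ
open scoped TensorProduct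

/-- canonical tensor product of two commutative rings over `ℤ` -/
abbrev TC (X Y : Type*) [CommRing X] [CommRing Y] : Type _ :=
  @TensorProduct ℤ _ X Y _ _ (@Algebra.toModule ℤ X _ _ (Ring.toIntAlgebra X))
    (@Algebra.toModule ℤ Y _ _ (Ring.toIntAlgebra Y))

variable (X Y : Type*) [CommRing X] [CommRing Y]

/-- left inclusion -/
noncomputable def incL : X →+* TC X Y :=
  @Algebra.TensorProduct.includeLeftRingHom ℤ X Y _ _ (Ring.toIntAlgebra X) _ (Ring.toIntAlgebra Y)

/-- right inclusion -/
noncomputable def incR : Y →+* TC X Y :=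
  (@Algebra.TensorProduct.includeRight ℤ X Y _ _ (Ring.toIntAlgebra X) _
    (Ring.toIntAlgebra Y)).toRingHom

variable {X Y}

theorem incL_apply (a : X) : incL X Y a = (a ⊗ₜ[ℤ] (1 : Y) : TC X Y) := rfl

theorem incR_apply (z : Y) : incR X Y z = ((1 : X) ⊗ₜ[ℤ] z : TC X Y) := rfl

theorem incL_mul_incR (a : X) (z : Y) : incL X Y a * incR X Y z = (a ⊗ₜ[ℤ] z : TC X Y) := by
  rw [incL_apply, incR_apply, Algebra.TensorProduct.tmul_mul_tmul, mul_one, one_mul]

theorem mem_closure (t : TC X Y) :
    t ∈ AddSubmonoid.closure {t : TC X Y | ∃ a z, t = incL X Y a * incR X Y z} := by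
  induction t using TensorProduct.induction_on with
  | zero => exact AddSubmonoid.zero_mem _
  | tmul a z => exact AddSubmonoid.subset_closure ⟨a, z, (incL_mul_incR a z).symm⟩
  | add x y hx hy => exact AddSubmonoid.add_mem _ hx hy

/-- the coproduct property -/
noncomputable def liftC {S : Type*} [CommRing S] (g₁ : X →+* S) (g₂ : Y →+* S) : TC X Y →+* S :=
  (@Algebra.TensorProduct.productMap ℤ S X Y _ _ _ _ (Ring.toIntAlgebra X) (Ring.toIntAlgebra Y)
    (Ring.toIntAlgebra S) g₁.toIntAlgHom g₂.toIntAlgHom).toRingHom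

theorem liftC_tmul {S : Type*} [CommRing S] (g₁ : X →+* S) (g₂ : Y →+* S) (a : X) (z : Y) :
    liftC g₁ g₂ (a ⊗ₜ[ℤ] z : TC X Y) = g₁ a * g₂ z := rfl

theorem liftC_incL {S : Type*} [CommRing S] (g₁ : X →+* S) (g₂ : Y →+* S) (a : X) :
    liftC g₁ g₂ (incL X Y a) = g₁ a := by
  rw [incL_apply, liftC_tmul, map_one, mul_one]

theorem liftC_incR {S : Type*} [CommRing S] (g₁ : X →+* S) (g₂ : Y →+* S) (z : Y) :
    liftC g₁ g₂ (incR X Y z) = g₂ z := by
  rw [incR_apply, liftC_tmul, map_one, one_mul]

end Groth.Agent.Lib.Helper11.TensorZ
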