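import Groth.Prelude.Def_AlgGrp
import Groth.Agent.Lib.Helper12Cart
import Mathlib.AlgebraicGeometry.Sites.Fpqc

/-!
# Group structure on the quotient of a group object by a normal subgroup

Abstract part: in a cartesian monoidal category, if `p : G ⟶ Q` has "kernel pair" given by the
right translation action of a normal subgroup `u : H ⟶ G`, and `p`, `G ◁ p`, `p ▷ Q` are
descent morphisms for this kernel pair, then `Q` has a group structure making `p` a homomorphism.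

Scheme part: the hypotheses hold for `p` dominated by an fpqc covering.
-/

set_option autoImplicit false
universe v u₁ u

open CategoryTheory Limits MonoidalCategory CartesianMonoidalCategory MonObj GrpObj

namespace Groth.Agent.Lib.Helper12.QuotGrp

section Abstract

variable {C : Type u₁} [Category.{v} C] [CartesianMonoidalCategory C]
variable {G H Q : C} [GrpObj G] [GrpObj H]

/-- The action map `(g, h) ↦ g * u h`. -/
abbrev act (u : H ⟶ G) : G ⊗ H ⟶ G := (G ◁ u) ≫ μ[G]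

lemma act_eq (u : H ⟶ G) : act u = fst G H * (snd G H ≫ u) := by
  rw [act, mul_eq_mul, comp_mul]; simp

lemma lift_act (u : H ⟶ G) {T : C} (g : T ⟶ G) (h : T ⟶ H) :
    lift g h ≫ act u = g * (h ≫ u) := by
  rw [act_eq, comp_mul]; simp

/-- The hypotheses package. -/
structure Hyp (u : H ⟶ G) (p : G ⟶ Q) : Prop where
  w : act u ≫ p = fst G H ≫ p
  normal : ∀ (T : C) (g : T ⟶ G) (n : T ⟶ H), ∃ n' : T ⟶ H, g * (n ≫ u) * g⁻¹ = n' ≫ u
  desc_p : ∀ {W : C} (g : G ⟶ W), act u ≫ g = fst G H ≫ g → ∃ f : Q ⟶ W, p ≫ f = g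
  desc_Gp : ∀ {W : C} (g : G ⊗ G ⟶ W), (G ◁ act u) ≫ g = (G ◁ fst G H) ≫ g →
    ∃ f : G ⊗ Q ⟶ W, (G ◁ p) ≫ f = g
  desc_pQ : ∀ {W : C} (g : G ⊗ Q ⟶ W), (act u ▷ Q) ≫ g = (fst G H ▷ Q) ≫ g →
    ∃ f : Q ⊗ Q ⟶ W, (p ▷ Q) ≫ f = g
  epi_p : Epi p
  epi_GHp : Epi ((G ⊗ H) ◁ p)
  epi_pp : Epi (p ⊗ₘ p)
  epi_ppp : Epi ((p ⊗ₘ p) ⊗ₘ p)

variable {u : H ⟶ G} {p : G ⟶ Q}

lemma Hyp.inv_pt (h : Hyp u p) {T : C} (g : T ⟶ G) (n : T ⟶ H) :
    (g * (n ≫ u)) ≫ p = g ≫ p := by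
  rw [← lift_act, Category.assoc, h.w, lift_fst_assoc]

lemma Hyp.exists_mul₁ (h : Hyp u p) : ∃ m₁ : G ⊗ Q ⟶ Q, (G ◁ p) ≫ m₁ = μ[G] ≫ p := by
  apply h.desc_Gp
  have e1 : (G ◁ act u) ≫ μ[G] =
      ((G ◁ fst G H) ≫ μ[G]) * ((snd G (G ⊗ H) ≫ snd G H) ≫ u) := by
    rw [mul_eq_mul, comp_mul, comp_mul, act_eq]
    simp only [whiskerLeft_fst, whiskerLeft_snd, comp_mul, Category.assoc]
    rw [_root_.mul_assoc]
  rw [← Category.assoc, e1, h.inv_pt, Category.assoc]

lemma Hyp.exists_mul (h : Hyp u p) : ∃ m : Q ⊗ Q ⟶ Q, (p ⊗ₘ p) ≫ m = μ[G] ≫ p := by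
  obtain ⟨m₁, hm₁⟩ := h.exists_mul₁
  obtain ⟨m, hm⟩ := h.desc_pQ m₁ (by
    have := h.epi_GHp
    rw [← cancel_epi ((G ⊗ H) ◁ p)]
    rw [whisker_exchange_assoc, whisker_exchange_assoc, hm₁]
    obtain ⟨n', hn'⟩ := h.normal ((G ⊗ H) ⊗ G) (snd _ _)⁻¹ (fst _ _ ≫ snd _ _)
    have e1 : (act u ▷ G) ≫ μ[G] = ((fst G H ▷ G) ≫ μ[G]) * (n' ≫ u) := by
      rw [mul_eq_mul, comp_mul, comp_mul, act_eq, ← hn']
      simp only [whiskerRight_fst, whiskerRight_snd, comp_mul, Category.assoc]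
      group
    rw [← Category.assoc, e1, h.inv_pt, Category.assoc])
  refine ⟨m, ?_⟩
  rw [tensorHom_def', Category.assoc, hm, hm₁]

lemma Hyp.exists_inv [IsMonHom u] (h : Hyp u p) : ∃ i : Q ⟶ Q, p ≫ i = ι[G] ≫ p := by
  apply h.desc_p
  obtain ⟨n', hn'⟩ := h.normal (G ⊗ H) (fst _ _) ((snd _ _)⁻¹)
  have e1 : act u ≫ ι[G] = (fst G H ≫ ι[G]) * (n' ≫ u) := by
    rw [← Hom.inv_def, ← Hom.inv_def, act_eq, ← hn', inv_comp]
    group
  rw [← Category.assoc, e1, h.inv_pt, Category.assoc]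

/-- Axioms of a group object transported along an epimorphism compatible with the operations. -/
noncomputable def grpObjOfEpi (p : G ⟶ Q) [Epi p] [Epi (p ⊗ₘ p)] [Epi ((p ⊗ₘ p) ⊗ₘ p)]
    (m : Q ⊗ Q ⟶ Q) (hm : (p ⊗ₘ p) ≫ m = μ[G] ≫ p) (i : Q ⟶ Q) (hi : p ≫ i = ι[G] ≫ p) :
    GrpObj Q where
  one := η[G] ≫ p
  mul := m
  inv := i
  one_mul := by
    have h1 : Epi (𝟙_ C ◁ p) := by
      have : 𝟙_ C ◁ p = (λ_ G).hom ≫ p ≫ (λ_ Q).inv := by simp
      rw [this]; infer_instance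
    rw [← cancel_epi (𝟙_ C ◁ p)]
    calc 𝟙_ C ◁ p ≫ (η[G] ≫ p) ▷ Q ≫ m = (η[G] ▷ G) ≫ (p ⊗ₘ p) ≫ m := by
          rw [tensorHom_def' (f := p), comp_whiskerRight]
          simp only [Category.assoc]
          rw [whisker_exchange_assoc]
      _ = 𝟙_ C ◁ p ≫ (λ_ Q).hom := by rw [hm, one_mul_assoc]; simp
  mul_one := by
    have h1 : Epi (p ▷ 𝟙_ C) := by
      have : p ▷ 𝟙_ C = (ρ_ G).hom ≫ p ≫ (ρ_ Q).inv := by simp
      rw [this]; infer_instance
    rw [← cancel_epi (p ▷ 𝟙_ C)]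
    calc p ▷ 𝟙_ C ≫ Q ◁ (η[G] ≫ p) ≫ m = (G ◁ η[G]) ≫ (p ⊗ₘ p) ≫ m := by
          rw [tensorHom_def (f := p), whiskerLeft_comp]
          simp only [Category.assoc]
          rw [← whisker_exchange_assoc]
      _ = p ▷ 𝟙_ C ≫ (ρ_ Q).hom := by rw [hm, mul_one_assoc]; simp
  mul_assoc := by
    rw [← cancel_epi ((p ⊗ₘ p) ⊗ₘ p)]
    have e1 : ((p ⊗ₘ p) ⊗ₘ p) ≫ (m ▷ Q) = (μ[G] ▷ G) ≫ (p ⊗ₘ p) := by
      rw [← tensorHom_id, tensorHom_comp_tensorHom, hm, Category.comp_id, ← tensorHom_id,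
        tensorHom_comp_tensorHom, Category.id_comp]
    have e2 : (p ⊗ₘ (p ⊗ₘ p)) ≫ (Q ◁ m) = (G ◁ μ[G]) ≫ (p ⊗ₘ p) := by
      rw [← id_tensorHom, tensorHom_comp_tensorHom, hm, Category.comp_id, ← id_tensorHom,
        tensorHom_comp_tensorHom, Category.id_comp]
    rw [reassoc_of% e1, hm, MonObj.mul_assoc_assoc, associator_naturality_assoc,
      reassoc_of% e2, hm]
  left_inv := by
    rw [← cancel_epi p]
    calc p ≫ lift i (𝟙 Q) ≫ m = lift ι[G] (𝟙 G) ≫ (p ⊗ₘ p) ≫ m := by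
          rw [← Category.assoc, ← Category.assoc, comp_lift, hi, lift_map]
          simp
      _ = p ≫ toUnit Q ≫ η[G] ≫ p := by
          rw [hm, GrpObj.left_inv_assoc]; simp
  right_inv := by
    rw [← cancel_epi p]
    calc p ≫ lift (𝟙 Q) i ≫ m = lift (𝟙 G) ι[G] ≫ (p ⊗ₘ p) ≫ m := by
          rw [← Category.assoc, ← Category.assoc, comp_lift, hi, lift_map]
          simp
      _ = p ≫ toUnit Q ≫ η[G] ≫ p := by
          rw [hm, GrpObj.right_inv_assoc]; simp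

end Abstract

section Abstract2

variable {C : Type u₁} [Category.{v} C] [CartesianMonoidalCategory C]
variable {G H Q : C} [GrpObj G] [GrpObj H] {u : H ⟶ G} {p : G ⟶ Q}

/-- Main abstract statement: existence of the group structure on the quotient, and uniqueness of
the multiplication. -/
theorem Hyp.exists_grpObj [IsMonHom u] (h : Hyp u p) :
    ∃ _ : GrpObj Q, IsMonHom p ∧ ∀ m : Q ⊗ Q ⟶ Q, (p ⊗ₘ p) ≫ m = μ[G] ≫ p → m = μ[Q] := by
  obtain ⟨m, hm⟩ := h.exists_mul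
  obtain ⟨i, hi⟩ := h.exists_inv
  have := h.epi_p
  have := h.epi_pp
  have := h.epi_ppp
  letI inst : GrpObj Q := grpObjOfEpi p m hm i hi
  refine ⟨inst, ⟨rfl, hm.symm⟩, fun m' hm' => ?_⟩
  rw [← cancel_epi (p ⊗ₘ p), hm']
  exact hm.symm

/-- Uniqueness of the group structure on the target of an epimorphic homomorphism. -/
lemma grpObj_unique_of_epi {G Q : C} [hG : GrpObj G] (p : G ⟶ Q) [Epi (p ⊗ₘ p)]
    (s₁ s₂ : GrpObj Q)
    (h₁ : @IsMonHom C _ _ G Q hG.toMonObj s₁.toMonObj p)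
    (h₂ : @IsMonHom C _ _ G Q hG.toMonObj s₂.toMonObj p) : s₁ = s₂ := by
  apply GrpObj.ext
  apply MonObj.ext
  rw [← cancel_epi (p ⊗ₘ p)]
  have e1 := @IsMonHom.mul_hom C _ _ G Q hG.toMonObj s₁.toMonObj p h₁
  have e2 := @IsMonHom.mul_hom C _ _ G Q hG.toMonObj s₂.toMonObj p h₂
  rw [← e1, ← e2]

/-- Universal property of the quotient group. -/
theorem Hyp.existsUnique_desc [GrpObj Q] [IsMonHom u] [IsMonHom p] (h : Hyp u p)
    {K : C} [GrpObj K] (f : G ⟶ K) [IsMonHom f] (hf : u ≫ f = 1) :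
    ∃! g : Q ⟶ K, p ≫ g = f ∧ IsMonHom g := by
  have := h.epi_p
  have := h.epi_pp
  obtain ⟨g, hg⟩ := h.desc_p f (by
    rw [act_eq, mul_comp, Category.assoc, hf, comp_one, _root_.mul_one])
  refine ⟨g, ⟨hg, ⟨?_, ?_⟩⟩, fun g' hg' => ?_⟩
  · rw [← IsMonHom.one_hom p, Category.assoc, hg, IsMonHom.one_hom]
  · rw [← cancel_epi (p ⊗ₘ p), ← IsMonHom.mul_hom_assoc p, hg, tensorHom_comp_tensorHom_assoc, hg,
      IsMonHom.mul_hom]
  · rw [← cancel_epi p, hg'.1, hg]

end Abstract2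

section Sch

open AlgebraicGeometry

variable {S : Scheme.{u}}

/-- A morphism dominated by a singleton fpqc covering is an effective epimorphism. -/
lemma effectiveEpi_of_factor {X Y Z : Scheme.{u}} (p : X ⟶ Y) (q : Z ⟶ Y) (r : Z ⟶ X)
    (hrq : r ≫ p = q) (hq : Presieve.singleton q ∈ Scheme.fpqcPrecoverage Y) :
    EffectiveEpi p := by
  rw [← Sieve.effectiveEpimorphic_singleton,
    Presieve.EffectiveEpimorphic.iff_forall_isSheafFor_yoneda]
  intro W
  refine (GrothendieckTopology.Subcanonical.isSheaf_of_isRepresentable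
    (J := Scheme.fpqcTopology) _).isSheafFor _ ?_
  refine Scheme.fpqcTopology.superset_covering ?_ (Precoverage.generate_mem_toGrothendieck hq)
  rw [Sieve.generate_le_iff]
  rintro _ _ ⟨⟩
  exact ⟨_, r, p, ⟨⟩, hrq⟩

/-- Base change of a singleton fpqc covering. -/
lemma singleton_mem_of_isPullback {A B C D : Scheme.{u}} {f' : A ⟶ B} {g' : A ⟶ C} {g : B ⟶ D}
    {f : C ⟶ D} (h : IsPullback f' g' g f) (hf : Presieve.singleton f ∈ Scheme.fpqcPrecoverage D) :
    Presieve.singleton f' ∈ Scheme.fpqcPrecoverage B := by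
  rw [← Presieve.ofArrows_pUnit] at hf ⊢
  exact Precoverage.mem_coverings_of_isPullback (fun _ : PUnit.{1} => f) hf g (fun _ => f')
    (fun _ => g') (fun _ => h)

/-- A flat surjective morphism with the fpqc quasi-compactness condition is an fpqc covering. -/
lemma singleton_mem_fpqcPrecoverage {Z Y : Scheme.{u}} (q : Z ⟶ Y) [Flat q] [Surjective q]
    (hqc : ∀ V : Y.Opens, IsAffineOpen V →
      ∃ W : Z.Opens, IsCompact (W : Set Z) ∧ q.base '' (W : Set Z) = (V : Set Y)) :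
    Presieve.singleton q ∈ Scheme.fpqcPrecoverage Y := by
  refine ⟨?_, ?_⟩
  · rw [Scheme.qcPrecoverage, PreZeroHypercoverFamily.mem_precoverage_iff]
    refine ⟨(q.cover (P := ⊤) trivial).toPreZeroHypercover, ?_, by simp⟩
    simp only [Scheme.qcCoverFamily_property, Scheme.quasiCompactCover_iff]
    refine ⟨fun {U} hU => ?_⟩
    obtain ⟨W, hW, hWU⟩ := hqc U hU
    rw [← hWU]
    exact IsCompactOpenCovered.image (f := fun i => ((q.cover (P := ⊤) trivial).f i).base)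
      (i := ⟨⟩) W hW
  · exact (Scheme.singleton_mem_precoverage_iff (P := @Flat) q).mpr ⟨‹Surjective q›.surj, ‹Flat q›⟩

/-- `p` is dominated by a singleton fpqc covering. -/
def IsCov {Y X : Over S} (p : Y ⟶ X) : Prop :=
  ∃ (Z : Scheme.{u}) (q : Z ⟶ X.left) (r : Z ⟶ Y.left), r ≫ p.left = q ∧
    Presieve.singleton q ∈ Scheme.fpqcPrecoverage X.left

lemma IsCov.of_hcov {Y X : Over S} (p : Y ⟶ X)
    (hcov : ∃ (Z : Scheme.{u}) (q : Z ⟶ X.left) (r : Z ⟶ Y.left), r ≫ p.left = q ∧ Surjective q ∧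
      Flat q ∧ ∀ V : X.left.Opens, IsAffineOpen V →
        ∃ W : Z.Opens, IsCompact (W : Set Z) ∧ q.base '' (W : Set Z) = (V : Set X.left)) :
    IsCov p := by
  obtain ⟨Z, q, r, hrq, hqs, hqf, hqc⟩ := hcov
  exact ⟨Z, q, r, hrq, singleton_mem_fpqcPrecoverage q hqc⟩

lemma IsCov.of_fppf {Y X : Over S} (p : Y ⟶ X) [Flat p.left] [Surjective p.left]
    [LocallyOfFinitePresentation p.left] : IsCov p :=
  ⟨Y.left, p.left, 𝟙 _, Category.id_comp _,
    Scheme.fppfPrecoverage_le_fpqcPrecoverage _ (Scheme.Hom.singleton_mem_fppfPrecoverage p.left)⟩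

variable {Y X : Over S} {p : Y ⟶ X}

lemma IsCov.effectiveEpi (h : IsCov p) : EffectiveEpi p.left := by
  obtain ⟨Z, q, r, hrq, hq⟩ := h
  exact effectiveEpi_of_factor p.left q r hrq hq

lemma IsCov.epi (h : IsCov p) : Epi p := by
  have := h.effectiveEpi
  have : Epi ((Over.forget S).map p) := (inferInstance : Epi p.left)
  exact (Over.forget S).epi_of_epi_map this

lemma IsCov.whiskerLeft (h : IsCov p) (G : Over S) : IsCov (G ◁ p) := by
  obtain ⟨Z, q, r, hrq, hq⟩ := h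
  have hpb := (isPullback_whiskerLeft G p).map (Over.forget S)
  simp only [Over.forget_obj, Over.forget_map] at hpb
  refine ⟨pullback (snd G X).left q, pullback.fst _ _,
    hpb.lift (pullback.fst _ _) (pullback.snd _ _ ≫ r) ?_, hpb.lift_fst _ _ _,
    singleton_mem_of_isPullback (IsPullback.of_hasPullback _ _) hq⟩
  rw [Category.assoc, hrq, pullback.condition]

lemma IsCov.whiskerRight (h : IsCov p) (G : Over S) : IsCov (p ▷ G) := by
  obtain ⟨Z, q, r, hrq, hq⟩ := h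
  have hpb := (isPullback_whiskerRight G p).map (Over.forget S)
  simp only [Over.forget_obj, Over.forget_map] at hpb
  refine ⟨pullback (fst X G).left q, pullback.fst _ _,
    hpb.lift (pullback.fst _ _) (pullback.snd _ _ ≫ r) ?_, hpb.lift_fst _ _ _,
    singleton_mem_of_isPullback (IsPullback.of_hasPullback _ _) hq⟩
  rw [Category.assoc, hrq, pullback.condition]

lemma IsCov.epi_tensorHom {Y' X' : Over S} {p' : Y' ⟶ X'} (h : IsCov p) (h' : IsCov p') :
    Epi (p ⊗ₘ p') := by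
  rw [tensorHom_def]
  have := (h.whiskerRight Y').epi
  have := (h'.whiskerLeft X).epi
  infer_instance

end Sch

section Whisker

variable {C : Type u₁} [Category.{v} C] [CartesianMonoidalCategory C]

/-- Left whiskering preserves pullback squares. -/
lemma isPullback_whiskerLeft_of_isPullback (G : C) {P X Y Z : C} {f : P ⟶ X} {g : P ⟶ Y}
    {h : X ⟶ Z} {k : Y ⟶ Z} (hp : IsPullback f g h k) :
    IsPullback (G ◁ f) (G ◁ g) (G ◁ h) (G ◁ k) := by
  have h1 := (isPullback_whiskerLeft G g).flip.paste_horiz hp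
  have h2 := (isPullback_whiskerLeft G h).flip
  refine IsPullback.of_right ?_ ?_ h2
  · rw [whiskerLeft_snd, whiskerLeft_snd]; exact h1
  · rw [← whiskerLeft_comp, hp.w, whiskerLeft_comp]

/-- Right whiskering preserves pullback squares. -/
lemma isPullback_whiskerRight_of_isPullback (G : C) {P X Y Z : C} {f : P ⟶ X} {g : P ⟶ Y}
    {h : X ⟶ Z} {k : Y ⟶ Z} (hp : IsPullback f g h k) :
    IsPullback (f ▷ G) (g ▷ G) (h ▷ G) (k ▷ G) := by
  have h1 := (isPullback_whiskerRight G g).flip.paste_horiz hp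
  have h2 := (isPullback_whiskerRight G h).flip
  refine IsPullback.of_right ?_ ?_ h2
  · rw [whiskerRight_fst, whiskerRight_fst]; exact h1
  · rw [← comp_whiskerRight, hp.w, comp_whiskerRight]

end Whisker

section Main

open AlgebraicGeometry

variable {S : Scheme.{u}} {G H Q : Over S} [GrpObj G] [GrpObj H]

theorem hyp_of_isCov (u : H ⟶ G) (p : G ⟶ Q)
    (hsq : IsPullback ((G ◁ u) ≫ μ[G]) (fst G H) p p) (hN : AlgGrp.IsNormalHom u)
    (hc : IsCov p) : Hyp u p where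
  w := hsq.w
  normal := hN
  desc_p g hg := by
    have := hc.effectiveEpi
    exact exists_desc_of_isPullback p hsq g hg
  desc_Gp g hg := by
    have := (hc.whiskerLeft G).effectiveEpi
    exact exists_desc_of_isPullback (G ◁ p) (isPullback_whiskerLeft_of_isPullback G hsq) g hg
  desc_pQ g hg := by
    have := (hc.whiskerRight Q).effectiveEpi
    exact exists_desc_of_isPullback (p ▷ Q) (isPullback_whiskerRight_of_isPullback Q hsq) g hg
  epi_p := hc.epi
  epi_GHp := (hc.whiskerLeft _).epi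
  epi_pp := hc.epi_tensorHom hc
  epi_ppp := by
    rw [tensorHom_def (f := p ⊗ₘ p), tensorHom_def (f := p), comp_whiskerRight]
    have := ((hc.whiskerRight G).whiskerRight G).epi
    have := ((hc.whiskerLeft Q).whiskerRight G).epi
    have := (hc.whiskerLeft (Q ⊗ Q)).epi
    infer_instance

end Main

end Groth.Agent.Lib.Helper12.QuotGrp
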