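import Groth.Agent.Lib.Helper18Sch2

set_option autoImplicit false
set_option linter.style.haveILetI false
open TensorProduct

namespace Groth.Agent.Lib.Helper18Sch4

open SchFin Groth.Agent.Lib.Helper18Sch

universe u

theorem exists_prime_tensor_of_field {R A B F : Type u} [CommRing R] [CommRing A] [CommRing B]
    [Field F] [Algebra R A] [Algebra R B] (uA : A →+* F) (uB : B →+* F)
    (h : uA.comp (algebraMap R A) = uB.comp (algebraMap R B)) :
    ∃ (𝔮 : Ideal (A ⊗[R] B)), 𝔮.IsPrime ∧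
      (∀ a : A, a ⊗ₜ[R] (1 : B) ∈ 𝔮 ↔ uA a = 0) ∧ (∀ b : B, (1 : A) ⊗ₜ[R] b ∈ 𝔮 ↔ uB b = 0) := by
  letI : Algebra R F := (uA.comp (algebraMap R A)).toAlgebra
  let f : A →ₐ[R] F := { uA with commutes' := fun r => rfl }
  let g : B →ₐ[R] F := { uB with commutes' := fun r => (RingHom.congr_fun h r).symm }
  let ψ : A ⊗[R] B →ₐ[R] F := Algebra.TensorProduct.lift f g (fun _ _ => Commute.all _ _)
  refine ⟨RingHom.ker ψ.toRingHom, RingHom.ker_isPrime _, fun a => ?_, fun b => ?_⟩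
  · rw [RingHom.mem_ker]
    show Algebra.TensorProduct.lift f g _ (a ⊗ₜ[R] (1 : B)) = 0 ↔ _
    rw [Algebra.TensorProduct.lift_tmul, map_one, mul_one]
    rfl
  · rw [RingHom.mem_ker]
    show Algebra.TensorProduct.lift f g _ ((1 : A) ⊗ₜ[R] b) = 0 ↔ _
    rw [Algebra.TensorProduct.lift_tmul, map_one, one_mul]
    rfl

/-- a prime of a tensor product over two primes with the same contraction -/
theorem exists_prime_tensor {R A B : Type u} [CommRing R] [CommRing A] [CommRing B] [Algebra R A]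
    [Algebra R B] (P : Ideal A) [P.IsPrime] (Q : Ideal B) [Q.IsPrime]
    (h : P.comap (algebraMap R A) = Q.comap (algebraMap R B)) :
    ∃ (𝔮 : Ideal (A ⊗[R] B)), 𝔮.IsPrime ∧
      (∀ a : A, a ⊗ₜ[R] (1 : B) ∈ 𝔮 ↔ a ∈ P) ∧ (∀ b : B, (1 : A) ⊗ₜ[R] b ∈ 𝔮 ↔ b ∈ Q) := by
  set 𝔭 := P.comap (algebraMap R A) with h𝔭
  let k := 𝔭.ResidueField
  let K := P.ResidueField
  let L := Q.ResidueField
  let fK : k →+* K := Ideal.ResidueField.map 𝔭 P (algebraMap R A) rfl
  let fL : k →+* L := Ideal.ResidueField.map 𝔭 Q (algebraMap R B) h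
  letI : Algebra k K := fK.toAlgebra
  letI : Algebra k L := fL.toAlgebra
  haveI : Nontrivial (K ⊗[k] L) := inferInstance
  obtain ⟨𝔪, h𝔪⟩ := Ideal.exists_maximal (K ⊗[k] L)
  letI : Field ((K ⊗[k] L) ⧸ 𝔪) := Ideal.Quotient.field 𝔪
  have hRK : ∀ r : R, algebraMap A K (algebraMap R A r) = algebraMap k K (algebraMap R k r) :=
    fun r => (Ideal.ResidueField.map_algebraMap 𝔭 P (algebraMap R A) rfl r).symm
  have hRL : ∀ r : R, algebraMap B L (algebraMap R B r) = algebraMap k L (algebraMap R k r) :=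
    fun r => (Ideal.ResidueField.map_algebraMap 𝔭 Q (algebraMap R B) h r).symm
  let ιK : K →+* (K ⊗[k] L) ⧸ 𝔪 :=
    (Ideal.Quotient.mk 𝔪).comp (Algebra.TensorProduct.includeLeftRingHom (R := k) (A := K) (B := L))
  let ιL : L →+* (K ⊗[k] L) ⧸ 𝔪 :=
    (Ideal.Quotient.mk 𝔪).comp (Algebra.TensorProduct.includeRight (R := k) (A := K) (B := L)).toRingHom
  have hcomm : (ιK.comp (algebraMap A K)).comp (algebraMap R A) =
      (ιL.comp (algebraMap B L)).comp (algebraMap R B) := by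
    ext r
    show Ideal.Quotient.mk 𝔪 ((algebraMap A K (algebraMap R A r)) ⊗ₜ[k] (1 : L)) =
      Ideal.Quotient.mk 𝔪 ((1 : K) ⊗ₜ[k] (algebraMap B L (algebraMap R B r)))
    rw [hRK, hRL, Algebra.algebraMap_eq_smul_one, Algebra.algebraMap_eq_smul_one (A := L),
      TensorProduct.smul_tmul]
  obtain ⟨𝔮, h𝔮, h1, h2⟩ := exists_prime_tensor_of_field (R := R) (ιK.comp (algebraMap A K))
    (ιL.comp (algebraMap B L)) hcomm
  refine ⟨𝔮, h𝔮, fun a => ?_, fun b => ?_⟩
  · rw [h1, ← Ideal.algebraMap_residueField_eq_zero (I := P)]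
    exact (map_eq_zero_iff ιK (RingHom.injective ιK))
  · rw [h2, ← Ideal.algebraMap_residueField_eq_zero (I := Q)]
    exact (map_eq_zero_iff ιL (RingHom.injective ιL))

section Inter

variable {X : RSpace.{u}}

lemma wedge_id_subset_up_right (x y : X.pt) : (Hom.id X).wedge x y ⊆ X.up y := fun _ h => h.2

/-- In a schematic space, for `s ≤ x, y`, the sections over `U_x ∩ U_y` are `R_x ⊗[R_s] R_y`. -/
theorem exists_bijective_tensor_sect (hX : X.IsSchematic) {s x y : X.pt} (hx : s ≤ x) (hy : s ≤ y) :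
    letI : Algebra (X.ring s) (X.ring x) := (X.res hx).toAlgebra
    letI : Algebra (X.ring s) (X.ring y) := (X.res hy).toAlgebra
    ∃ τ : X.ring x ⊗[X.ring s] X.ring y →+* X.sectRing ((Hom.id X).wedge x y),
      Function.Bijective τ ∧ ∀ (a : X.ring x) (b : X.ring y) (q : (Hom.id X).wedge x y),
        (τ (a ⊗ₜ b)).1 q = X.res (wedge_id_left q) a * X.res (wedge_id_right q) b := by
  letI : Algebra (X.ring s) (X.ring x) := (X.res hx).toAlgebra
  letI : Algebra (X.ring s) (X.ring y) := (X.res hy).toAlgebra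
  have hbc := ((isBCAlong_resH_zero_iff X.str ((Hom.id X).subSrc hx y)).1
    (hX.2.2 0 s x hx y y le_rfl).1)
  set W := (Hom.id X).wedge x y with hW
  set Ws := (Hom.id X).wedge s y with hWs
  set φs := Coef.ofLE s Ws ((Hom.id X).wedge_subset_up s y) with hφs
  set φx := Coef.ofLE x W ((Hom.id X).wedge_subset_up x y) with hφx
  letI : Module (X.ring s) (SectR φx X.str) := Module.compHom _ (X.res hx)
  haveI : IsScalarTower (X.ring s) (X.ring x) (SectR φx X.str) :=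
    IsScalarTower.of_algebraMap_smul fun _ _ => rfl
  let fl : SectR φs X.str →ₗ[X.ring s] SectR φx X.str :=
    { toFun := restrSect X.str ((Hom.id X).subSrc hx y)
      map_add' := (restrSect X.str ((Hom.id X).subSrc hx y)).map_add
      map_smul' := (restrSect X.str ((Hom.id X).subSrc hx y)).map_smulₛₗ }
  have hb : IsBaseChange (X.ring x) fl := hbc
  -- sections over `Ws` are the ring of `y`
  let ε : X.ring y ≃ₗ[X.ring s] SectR φs X.str :=
    { toFun := fun b => ⟨fun q => X.res (wedge_id_right q) b, fun q q' hq => X.res_comp _ _ b⟩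
      map_add' := fun b b' => Subtype.ext (funext fun q => map_add _ _ _)
      map_smul' := fun r b => Subtype.ext (funext fun q => by
        show X.res (wedge_id_right q) (X.res hy r * b) =
          X.res (wedge_id_left q) r * X.res (wedge_id_right q) b
        rw [map_mul, X.res_comp])
      invFun := fun t => t.1 ⟨y, mem_wedge_id hy le_rfl⟩
      left_inv := fun b => X.res_self _ _
      right_inv := fun t => Subtype.ext (funext fun q => t.2 ⟨y, mem_wedge_id hy le_rfl⟩ q _) }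
  let Θ : X.ring x ⊗[X.ring s] X.ring y ≃ₗ[X.ring s] SectR φx X.str :=
    (LinearEquiv.lTensor (X.ring x) ε) ≪≫ₗ (hb.equiv.restrictScalars (X.ring s))
  have hΘ : ∀ (a : X.ring x) (b : X.ring y) (q : W),
      (Θ (a ⊗ₜ b)).1 q = X.res (wedge_id_left q) a * X.res (wedge_id_right q) b := by
    intro a b q
    show (hb.equiv (a ⊗ₜ ε b)).1 q = _
    rw [IsBaseChange.equiv_tmul]
    rfl
  -- the ring map
  letI : Algebra (X.ring s) (X.sectRing W) :=
    (X.resSect s W (fun q hq => hx.trans hq.1)).toAlgebra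
  let fA : X.ring x →ₐ[X.ring s] X.sectRing W :=
    { X.resSect x W ((Hom.id X).wedge_subset_up x y) with
      commutes' := fun r => Subtype.ext (funext fun q => X.res_comp _ _ r) }
  let fB : X.ring y →ₐ[X.ring s] X.sectRing W :=
    { X.resSect y W (wedge_id_subset_up_right x y) with
      commutes' := fun r => Subtype.ext (funext fun q => X.res_comp _ _ r) }
  let τ : X.ring x ⊗[X.ring s] X.ring y →ₐ[X.ring s] X.sectRing W :=
    Algebra.TensorProduct.lift fA fB (fun _ _ => Commute.all _ _)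
  have hτ : ∀ (a : X.ring x) (b : X.ring y) (q : W),
      (τ (a ⊗ₜ b)).1 q = X.res (wedge_id_left q) a * X.res (wedge_id_right q) b := by
    intro a b q
    show (Algebra.TensorProduct.lift fA fB _ (a ⊗ₜ b)).1 q = _
    rw [Algebra.TensorProduct.lift_tmul]
    rfl
  have hτΘ : ∀ t, (τ t).1 = (Θ t).1 := by
    intro t
    induction t using TensorProduct.induction_on with
    | zero => rw [map_zero, map_zero]; rfl
    | tmul a b => funext q; rw [hτ, hΘ]
    | add t t' ht ht' =>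
      rw [map_add, map_add]
      show (τ t).1 + (τ t').1 = (Θ t).1 + (Θ t').1
      rw [ht, ht']
      rfl
  refine ⟨τ.toRingHom, ⟨fun t t' h => ?_, fun o => ?_⟩, hτ⟩
  · apply Θ.injective
    apply Subtype.ext
    rw [← hτΘ, ← hτΘ]
    exact congrArg Subtype.val h
  · let o' : SectR φx X.str := ⟨o.1, o.2⟩
    refine ⟨Θ.symm o', ?_⟩
    apply Subtype.ext
    show (τ _).1 = o.1
    rw [hτΘ]
    exact congrArg Subtype.val (Θ.apply_symm_apply o')

/-- the faithful-flatness hypothesis carried by the rows -/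
def HFF (X : RSpace.{u}) : Prop :=
  ∀ s a b : X.pt, s ≤ a → s ≤ b → (X.up a ∩ X.up b).Nonempty →
    Module.FaithfullyFlat (X.sectRing (X.up a ∩ X.up b)) ((q : ↥(X.up a ∩ X.up b)) → X.ring q.1)

theorem main15614 (hX : X.IsSchematic) (hff : HFF X)
    {s x y : X.pt} (hx : s ≤ x) (hy : s ≤ y) (P : PrimeSpectrum (X.ring x)) (Q : PrimeSpectrum (X.ring y))
    (hPQ : PrimeSpectrum.comap (X.res hx) P = PrimeSpectrum.comap (X.res hy) Q) :
    X.PairRel ⟨x, P⟩ ⟨y, Q⟩ := by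
  letI : Algebra (X.ring s) (X.ring x) := (X.res hx).toAlgebra
  letI : Algebra (X.ring s) (X.ring y) := (X.res hy).toAlgebra
  set W := (Hom.id X).wedge x y with hW
  obtain ⟨τ, hτb, hτ⟩ := exists_bijective_tensor_sect hX hx hy
  have hPQ' : P.asIdeal.comap (algebraMap (X.ring s) (X.ring x)) =
      Q.asIdeal.comap (algebraMap (X.ring s) (X.ring y)) := congrArg PrimeSpectrum.asIdeal hPQ
  obtain ⟨𝔮, h𝔮, hP, hQ⟩ := exists_prime_tensor P.asIdeal Q.asIdeal hPQ'
  let e : X.ring x ⊗[X.ring s] X.ring y ≃+* X.sectRing W := RingEquiv.ofBijective τ hτb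
  let 𝔮' : Ideal (X.sectRing W) := 𝔮.comap e.symm.toRingHom
  haveI h𝔮' : 𝔮'.IsPrime := Ideal.IsPrime.comap _
  have hmem : ∀ t, e t ∈ 𝔮' ↔ t ∈ 𝔮 := by
    intro t
    show e.symm (e t) ∈ 𝔮 ↔ _
    rw [RingEquiv.symm_apply_apply]
  have hne : W.Nonempty := by
    by_contra hempty
    rw [Set.not_nonempty_iff_eq_empty] at hempty
    haveI : IsEmpty ↥W := by rw [hempty]; infer_instance
    apply h𝔮'.ne_top
    rw [Ideal.eq_top_iff_one]
    have : (1 : X.sectRing W) = 0 := Subtype.ext (funext fun q => isEmptyElim q)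
    rw [this]
    exact 𝔮'.zero_mem
  haveI hff' : Module.FaithfullyFlat (X.sectRing W) ((q : ↥W) → X.ring q.1) := hff s x y hx hy hne
  obtain ⟨𝔯, h𝔯⟩ := PrimeSpectrum.comap_surjective_of_faithfullyFlat (A := X.sectRing W)
    (B := (q : ↥W) → X.ring q.1) ⟨𝔮', h𝔮'⟩
  obtain ⟨⟨z, r⟩, hzr⟩ := (PrimeSpectrum.sigmaToPi_bijective (fun q : ↥W => X.ring q.1)).2 𝔯
  have key : ∀ o : X.sectRing W, o ∈ 𝔮' ↔ o.1 z ∈ r.asIdeal := by
    intro o
    have h1 : o ∈ 𝔮' ↔ algebraMap (X.sectRing W) ((q : ↥W) → X.ring q.1) o ∈ 𝔯.asIdeal := by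
      rw [← Ideal.mem_comap, ← PrimeSpectrum.comap_asIdeal, h𝔯]
    rw [h1, ← hzr, PrimeSpectrum.sigmaToPi_apply, PrimeSpectrum.comap_asIdeal, Ideal.mem_comap]
    rfl
  refine ⟨z.1, wedge_id_left z, wedge_id_right z, r, ?_, ?_⟩
  · apply PrimeSpectrum.ext
    ext a
    rw [PrimeSpectrum.comap_asIdeal, Ideal.mem_comap, ← hP a, ← hmem, key]
    show _ ↔ (τ (a ⊗ₜ 1)).1 z ∈ r.asIdeal
    rw [hτ, map_one, mul_one]
  · apply PrimeSpectrum.ext
    ext b
    rw [PrimeSpectrum.comap_asIdeal, Ideal.mem_comap, ← hQ b, ← hmem, key]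
    show _ ↔ (τ (1 ⊗ₜ b)).1 z ∈ r.asIdeal
    rw [hτ, map_one, one_mul]

theorem pairRel_refl (a : X.Pair) : X.PairRel a a :=
  ⟨a.1, le_rfl, le_rfl, a.2, by
    apply PrimeSpectrum.ext; ext c
    rw [PrimeSpectrum.comap_asIdeal, Ideal.mem_comap, X.res_self], by
    apply PrimeSpectrum.ext; ext c
    rw [PrimeSpectrum.comap_asIdeal, Ideal.mem_comap, X.res_self]⟩

theorem pairRel_symm {a b : X.Pair} (h : X.PairRel a b) : X.PairRel b a := by
  obtain ⟨z, hx, hy, r, h1, h2⟩ := h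
  exact ⟨z, hy, hx, r, h2, h1⟩

lemma comap_res_comp {p q s : X.pt} (h : p ≤ q) (h' : q ≤ s) (r : PrimeSpectrum (X.ring s)) :
    PrimeSpectrum.comap (X.res h) (PrimeSpectrum.comap (X.res h') r) =
      PrimeSpectrum.comap (X.res (h.trans h')) r := by
  apply PrimeSpectrum.ext; ext c
  simp only [PrimeSpectrum.comap_asIdeal, Ideal.mem_comap, X.res_comp]

theorem pairRel_trans (hX : X.IsSchematic) (hff : HFF X) {a b c : X.Pair}
    (hab : X.PairRel a b) (hbc : X.PairRel b c) : X.PairRel a c := by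
  obtain ⟨z, hx, hy, r, h1, h2⟩ := hab
  obtain ⟨z', hx', hy', r', h1', h2'⟩ := hbc
  obtain ⟨w, hzw, hzw', t, ht, ht'⟩ := main15614 hX hff hy hx' r r' (h2.trans h1'.symm)
  dsimp only at hzw hzw' ht ht'
  refine ⟨w, hx.trans hzw, hy'.trans hzw', t, ?_, ?_⟩
  · rw [← comap_res_comp hx hzw, ht, h1]
  · rw [← comap_res_comp hy' hzw', ht', h2']

theorem main15615 (hX : X.IsSchematic) (hff : HFF X) : Equivalence X.PairRel :=
  ⟨pairRel_refl, pairRel_symm, pairRel_trans hX hff⟩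

theorem pairRel_of_comap {z : X.pt} (r : PrimeSpectrum (X.ring z)) {x : X.pt} (hx : x ≤ z)
    (P : PrimeSpectrum (X.ring x)) (hP : PrimeSpectrum.comap (X.res hx) r = P) :
    X.PairRel ⟨z, r⟩ ⟨x, P⟩ :=
  ⟨z, le_rfl, hx, r, by
    apply PrimeSpectrum.ext; ext c
    rw [PrimeSpectrum.comap_asIdeal, Ideal.mem_comap, X.res_self], hP⟩

theorem main15616 (hX : X.IsSchematic) (hff : HFF X) (c : X.SchPt) :
    ∃! a : X.Pair, Quot.mk X.PairRel a = c ∧ ∀ b : X.Pair, Quot.mk X.PairRel b = c → b.1 ≤ a.1 := by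
  have heq := main15615 hX hff
  have hq : ∀ a b : X.Pair, Quot.mk X.PairRel a = Quot.mk X.PairRel b ↔ X.PairRel a b :=
    fun a b => by rw [Quot.eq]; exact heq.eqvGen_iff
  obtain ⟨a₀, rfl⟩ := Quot.exists_rep c
  let S : Set X.pt := {p | ∃ b : X.Pair, X.PairRel b a₀ ∧ b.1 = p}
  have hSne : S.Nonempty := ⟨a₀.1, a₀, heq.refl a₀, rfl⟩
  have hdir : ∀ p ∈ S, ∀ p' ∈ S, ∃ z ∈ S, p ≤ z ∧ p' ≤ z := by
    rintro p ⟨b, hb, rfl⟩ p' ⟨b', hb', rfl⟩
    obtain ⟨z, hx, hy, r, h1, h2⟩ := heq.trans hb (heq.symm hb')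
    refine ⟨z, ⟨⟨z, r⟩, heq.trans (pairRel_of_comap r hx b.2 h1) hb, rfl⟩, hx, hy⟩
  obtain ⟨m, hmS, hmax⟩ := (Set.toFinite S).exists_maximal hSne
  have hgreatest : ∀ p ∈ S, p ≤ m := by
    intro p hp
    obtain ⟨z, hz, hmz, hpz⟩ := hdir m hmS p hp
    exact hpz.trans (hmax hz hmz)
  obtain ⟨a, ha, ham⟩ := hmS
  have hprop : ∀ b : X.Pair, Quot.mk X.PairRel b = Quot.mk X.PairRel a₀ → b.1 ≤ a.1 := by
    intro b hb
    rw [ham]
    exact hgreatest b.1 ⟨b, (hq b a₀).1 hb, rfl⟩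
  refine ⟨a, ⟨(hq a a₀).2 ha, hprop⟩, ?_⟩
  rintro a' ⟨ha', hprop'⟩
  have h1 : a'.1 ≤ a.1 := hprop a' ha'
  have h2 : a.1 ≤ a'.1 := hprop' a ((hq a a₀).2 ha)
  have haa' : X.PairRel a a' := heq.trans ha (heq.symm ((hq a' a₀).1 ha'))
  obtain ⟨z, hx, hy, r, hr1, hr2⟩ := haa'
  have hz : z ≤ a.1 := hprop ⟨z, r⟩ ((hq _ _).2 (heq.trans (pairRel_of_comap r hx a.2 hr1) ha))
  obtain ⟨x, P⟩ := a
  obtain ⟨x', P'⟩ := a'
  dsimp only at h1 h2 hx hy hz hr1 hr2
  obtain rfl : x = x' := le_antisymm h2 h1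
  obtain rfl : z = x := le_antisymm hz hx
  have e : ∀ (h : z ≤ z), PrimeSpectrum.comap (X.res h) r = r := by
    intro h
    apply PrimeSpectrum.ext; ext c
    rw [PrimeSpectrum.comap_asIdeal, Ideal.mem_comap, X.res_self]
  rw [e] at hr1 hr2
  rw [← hr1, ← hr2]

end Inter

end Groth.Agent.Lib.Helper18Sch4
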