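import Mathlib
import Groth.Agent.Lib.Helper3FlatModel
import Groth.Agent.Lib.Helper18Sch4

set_option autoImplicit false
set_option linter.style.haveILetI false

universe u

namespace Groth.Agent.Lib.Helper3.Fppf

open TensorProduct Groth.Agent.Lib.Helper3.FlatOpen

/-- Surjectivity on spectra of a base change, pointwise. -/
theorem mem_range_comap_baseChange {S T B : Type u} [CommRing S] [CommRing T] [CommRing B]
    [Algebra S T] [Algebra S B] (p : PrimeSpectrum T)
    (hp : PrimeSpectrum.comap (algebraMap S T) p ∈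
      Set.range (PrimeSpectrum.comap (algebraMap S B))) :
    p ∈ Set.range (PrimeSpectrum.comap (algebraMap T (T ⊗[S] B))) := by
  obtain ⟨q, hq⟩ := hp
  obtain ⟨𝔮, h𝔮, h1, -⟩ := Groth.Agent.Lib.Helper18Sch4.exists_prime_tensor (R := S)
    p.asIdeal q.asIdeal (by
      have := congrArg PrimeSpectrum.asIdeal hq
      simpa using this.symm)
  refine ⟨⟨𝔮, h𝔮⟩, ?_⟩
  ext a
  simp only [PrimeSpectrum.comap_asIdeal, Ideal.mem_comap]
  rw [Algebra.TensorProduct.algebraMap_apply, Algebra.algebraMap_self, RingHom.id_apply]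
  exact h1 a

/-- If the extension of a f.g. ideal `I` to `A` is the unit ideal, this already happens over
a finitely generated subalgebra. -/
theorem exists_fg_subalgebra_not_le {R₀ A : Type u} [CommRing R₀] [CommRing A] [Algebra R₀ A]
    (I : Ideal R₀) (hfg : I.FG) (htop : Ideal.map (algebraMap R₀ A) I = ⊤) :
    ∃ A₀ : Subalgebra R₀ A, A₀.FG ∧ ∀ p : Ideal A₀, p.IsPrime →
      ¬ I ≤ p.comap (algebraMap R₀ A₀) := by
  classical
  obtain ⟨t, rfl⟩ := hfg
  rw [Ideal.map_span, ← Finset.coe_image] at htop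
  have h1 : (1 : A) ∈ Ideal.span ((t.image (algebraMap R₀ A) : Finset A) : Set A) := by
    rw [htop]; trivial
  rw [Ideal.span, Submodule.mem_span_finset] at h1
  obtain ⟨c, -, hc⟩ := h1
  refine ⟨Algebra.adjoin R₀ ((((t.image (algebraMap R₀ A)).image c : Finset A)) : Set A),
    Subalgebra.fg_adjoin_finset _, fun p hp hle => ?_⟩
  set A₀ := Algebra.adjoin R₀ ((((t.image (algebraMap R₀ A)).image c : Finset A)) : Set A)
  have hmem : ∀ a ∈ t.image (algebraMap R₀ A), c a ∈ A₀ := fun a ha =>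
    Algebra.subset_adjoin (Finset.mem_coe.2 (Finset.mem_image_of_mem c ha))
  have hone : (1 : A₀) = ∑ a ∈ (t.image (algebraMap R₀ A)).attach,
      (⟨c a.1, hmem a.1 a.2⟩ : A₀) * (⟨a.1, by
        obtain ⟨i, -, hi⟩ := Finset.mem_image.1 a.2
        rw [← hi]; exact A₀.algebraMap_mem i⟩ : A₀) := by
    apply Subtype.ext
    rw [AddSubmonoidClass.coe_finsetSum]
    simp only [MulMemClass.coe_mul, OneMemClass.coe_one]
    rw [Finset.sum_attach (t.image (algebraMap R₀ A)) (fun a => c a * a)]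
    simpa [smul_eq_mul] using hc.symm
  apply hp.ne_top
  rw [Ideal.eq_top_iff_one, hone]
  refine Ideal.sum_mem _ fun a _ => Ideal.mul_mem_left _ _ ?_
  obtain ⟨i, hi, hia⟩ := Finset.mem_image.1 a.2
  have : (⟨a.1, by rw [← hia]; exact A₀.algebraMap_mem i⟩ : A₀) = algebraMap R₀ A₀ i :=
    Subtype.ext hia.symm
  rw [this]
  exact hle (Ideal.subset_span hi)


/-- **Noetherian approximation of a faithfully flat finitely presented algebra.** -/
theorem exists_faithfullyFlat_model (A B : Type u) [CommRing A] [CommRing B] [Algebra A B]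
    [Algebra.FinitePresentation A B] [Module.FaithfullyFlat A B] :
    ∃ (A₀ B₀ : Type u) (_ : CommRing A₀) (_ : CommRing B₀) (_ : Algebra A₀ A)
      (_ : Algebra A₀ B₀), Algebra.FiniteType ℤ A₀ ∧ Algebra.FinitePresentation A₀ B₀ ∧
        Module.FaithfullyFlat A₀ B₀ ∧ Nonempty (A ⊗[A₀] B₀ ≃ₐ[A] B) := by
  obtain ⟨R₀, B₀, _, _, _, _, hft, hfp, hflat, ⟨e⟩⟩ := exists_flat_model A B
  haveI : IsNoetherianRing R₀ := Algebra.FiniteType.isNoetherianRing ℤ R₀
  -- the image of `Spec B₀ → Spec R₀` is open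
  have hopen : IsOpen (Set.range (PrimeSpectrum.comap (algebraMap R₀ B₀))) := by
    have := PrimeSpectrum.isOpenMap_comap_of_hasGoingDown_of_finitePresentation (R := R₀) (S := B₀)
    rw [← Set.image_univ]
    exact this _ isOpen_univ
  obtain ⟨I, hI⟩ := (PrimeSpectrum.isClosed_iff_zeroLocus_ideal _).1 hopen.isClosed_compl
  have hIfg : I.FG := (isNoetherianRing_iff_ideal_fg R₀).1 ‹_› I
  -- `I` generates the unit ideal of `A`
  have htop : Ideal.map (algebraMap R₀ A) I = ⊤ := by
    by_contra hne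
    obtain ⟨m, hm, hle⟩ := Ideal.exists_le_maximal _ hne
    haveI := hm.isPrime
    obtain ⟨q, hq⟩ := PrimeSpectrum.comap_surjective_of_faithfullyFlat (A := A) (B := B)
      ⟨m, hm.isPrime⟩
    let φ : B₀ →+* B := (e : A ⊗[R₀] B₀ →+* B).comp
      (Algebra.TensorProduct.includeRight (R := R₀) (A := A) (B := B₀)).toRingHom
    have hφ : φ.comp (algebraMap R₀ B₀) = (algebraMap A B).comp (algebraMap R₀ A) := by
      ext r
      simp only [φ, RingHom.comp_apply, AlgHom.toRingHom_eq_coe, RingHom.coe_coe,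
        Algebra.TensorProduct.includeRight_apply]
      rw [← e.commutes (algebraMap R₀ A r), Algebra.TensorProduct.algebraMap_apply,
        Algebra.algebraMap_self, RingHom.id_apply]
      congr 1
      rw [Algebra.algebraMap_eq_smul_one, Algebra.algebraMap_eq_smul_one, TensorProduct.smul_tmul]
    have h1 : PrimeSpectrum.comap (algebraMap R₀ A) ⟨m, hm.isPrime⟩ ∈
        Set.range (PrimeSpectrum.comap (algebraMap R₀ B₀)) := by
      refine ⟨PrimeSpectrum.comap φ q, ?_⟩
      rw [← PrimeSpectrum.comap_comp_apply, hφ, PrimeSpectrum.comap_comp_apply, hq]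
    have h2 : PrimeSpectrum.comap (algebraMap R₀ A) ⟨m, hm.isPrime⟩ ∈
        PrimeSpectrum.zeroLocus (I : Set R₀) := by
      rw [PrimeSpectrum.mem_zeroLocus]
      exact (Ideal.map_le_iff_le_comap.1 hle)
    rw [← hI] at h2
    exact h2 h1
  obtain ⟨A₀, hA₀fg, hA₀⟩ := exists_fg_subalgebra_not_le I hIfg htop
  haveI : Algebra.FiniteType R₀ A₀ := (Subalgebra.fg_iff_finiteType A₀).1 hA₀fg
  haveI : Algebra.FiniteType ℤ A₀ := Algebra.FiniteType.trans hft inferInstance
  refine ⟨A₀, A₀ ⊗[R₀] B₀, inferInstance, inferInstance, inferInstance, inferInstance,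
    inferInstance, inferInstance, ?_, ?_⟩
  · haveI : Module.Flat A₀ (A₀ ⊗[R₀] B₀) := inferInstance
    refine Module.FaithfullyFlat.of_comap_surjective fun p => ?_
    apply mem_range_comap_baseChange (S := R₀) p
    by_contra hnot
    have : PrimeSpectrum.comap (algebraMap R₀ A₀) p ∈ PrimeSpectrum.zeroLocus (I : Set R₀) := by
      rw [← hI]; exact hnot
    rw [PrimeSpectrum.mem_zeroLocus] at this
    exact hA₀ p.asIdeal p.isPrime this
  · exact ⟨(Algebra.TensorProduct.cancelBaseChange R₀ A₀ A A B₀).trans e⟩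

end Groth.Agent.Lib.Helper3.Fppf
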