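import Mathlib
import Groth.Agent.Lib.Helper3FppfModel

set_option autoImplicit false
set_option linter.style.haveILetI false

universe u

namespace Groth.Agent.Lib.Helper3.Fppf

open TensorProduct

/-- Every element of a tensor product lies in the span of `1 ⊗ a` for finitely many `a`. -/
theorem exists_finset_mem_span {A₀ B₀ A : Type*} [CommRing A₀] [CommRing B₀] [CommRing A]
    [Algebra A₀ B₀] [Algebra A₀ A] (t : B₀ ⊗[A₀] A) :
    ∃ F : Finset A, t ∈ Submodule.span B₀ ((fun a : A => (1 : B₀) ⊗ₜ[A₀] a) '' (F : Set A)) := by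
  classical
  induction t using TensorProduct.induction_on with
  | zero => exact ⟨∅, Submodule.zero_mem _⟩
  | tmul β a =>
    refine ⟨{a}, ?_⟩
    have : β ⊗ₜ[A₀] a = β • ((1 : B₀) ⊗ₜ[A₀] a) := by
      rw [TensorProduct.smul_tmul', smul_eq_mul, mul_one]
    rw [this]
    exact Submodule.smul_mem _ _ (Submodule.subset_span ⟨a, by simp, rfl⟩)
  | add x y hx hy =>
    obtain ⟨F, hF⟩ := hx
    obtain ⟨G, hG⟩ := hy
    refine ⟨F ∪ G, Submodule.add_mem _ ?_ ?_⟩
    · exact Submodule.span_mono (Set.image_mono (by simp)) hF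
    · exact Submodule.span_mono (Set.image_mono (by simp)) hG

/-- Descent of finite type along a faithfully flat model. -/
theorem finiteType_of_model {R A₀ B₀ A B : Type*} [CommRing R] [CommRing A₀] [CommRing B₀]
    [CommRing A] [CommRing B] [Algebra R A] [Algebra A B] [Algebra R B] [IsScalarTower R A B]
    [Algebra A₀ A] [Algebra A₀ B₀] [Module.FaithfullyFlat A₀ B₀] [Algebra.FiniteType ℤ A₀]
    (e' : B₀ ⊗[A₀] A ≃+* B) (h1 : ∀ a : A, e' ((1 : B₀) ⊗ₜ[A₀] a) = algebraMap A B a)
    [Algebra.FiniteType R B] : Algebra.FiniteType R A := by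
  classical
  obtain ⟨s₀, hs₀⟩ := (Algebra.FiniteType.out : (⊤ : Subalgebra ℤ A₀).FG)
  obtain ⟨s, hs⟩ := (Algebra.FiniteType.out : (⊤ : Subalgebra R B).FG)
  choose Fsel hFsel using fun t : B₀ ⊗[A₀] A => exists_finset_mem_span t
  let F : Finset A := (s.biUnion fun b => Fsel (e'.symm b)) ∪ s₀.image (algebraMap A₀ A)
  let A' : Subalgebra R A := Algebra.adjoin R (F : Set A)
  have hA₀ : ∀ a₀ : A₀, algebraMap A₀ A a₀ ∈ A' := by
    intro a₀
    have : a₀ ∈ Algebra.adjoin ℤ (s₀ : Set A₀) := by rw [hs₀]; trivial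
    induction this using Algebra.adjoin_induction with
    | mem x hx =>
      exact Algebra.subset_adjoin (Finset.mem_coe.2 (Finset.mem_union_right _
        (Finset.mem_image_of_mem _ hx)))
    | algebraMap r =>
      rw [eq_intCast, map_intCast]
      exact intCast_mem A' r
    | add x y _ _ hx hy => rw [map_add]; exact A'.add_mem hx hy
    | mul x y _ _ hx hy => rw [map_mul]; exact A'.mul_mem hx hy
  let N : Submodule A₀ A :=
    { carrier := A'
      add_mem' := A'.add_mem
      zero_mem' := A'.zero_mem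
      smul_mem' := fun c x hx => by
        rw [Algebra.smul_def]
        exact A'.mul_mem (hA₀ c) hx }
  have hN : ∀ x, x ∈ N ↔ x ∈ A' := fun x => Iff.rfl
  set T' : Submodule B₀ (B₀ ⊗[A₀] A) := N.baseChange B₀ with hT'
  have hT'span : T' = Submodule.span B₀ ((fun a : A => (1 : B₀) ⊗ₜ[A₀] a) '' (N : Set A)) := by
    rw [hT', Submodule.baseChange_eq_span]
    rfl
  have hmul : ∀ x ∈ T', ∀ y ∈ T', x * y ∈ T' := by
    intro x hx y hy
    have h2 : T' * T' ≤ T' := by
      rw [hT'span, Submodule.span_mul_span]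
      apply Submodule.span_mono
      rintro _ ⟨_, ⟨a, ha, rfl⟩, _, ⟨a', ha', rfl⟩, rfl⟩
      refine ⟨a * a', A'.mul_mem ha ha', ?_⟩
      simp [Algebra.TensorProduct.tmul_mul_tmul]
    exact h2 (Submodule.mul_mem_mul hx hy)
  have hall : ∀ b : B, e'.symm b ∈ T' := by
    intro b
    have : b ∈ Algebra.adjoin R (s : Set B) := by rw [hs]; trivial
    induction this using Algebra.adjoin_induction with
    | mem x hx =>
      rw [hT'span]
      refine Submodule.span_mono (Set.image_mono ?_) (hFsel (e'.symm x))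
      intro a ha
      exact Algebra.subset_adjoin (Finset.mem_coe.2 (Finset.mem_union_left _
        (Finset.mem_biUnion.2 ⟨x, hx, ha⟩)))
    | algebraMap r =>
      have : e'.symm (algebraMap R B r) = (1 : B₀) ⊗ₜ[A₀] (algebraMap R A r) := by
        rw [RingEquiv.symm_apply_eq, h1, ← IsScalarTower.algebraMap_apply]
      rw [this, hT'span]
      exact Submodule.subset_span ⟨_, A'.algebraMap_mem r, rfl⟩
    | add x y _ _ hx hy => rw [map_add]; exact T'.add_mem hx hy
    | mul x y _ _ hx hy => rw [map_mul]; exact hmul _ hx _ hy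
  have htop : T' = ⊤ := by
    rw [eq_top_iff]
    intro x _
    have := hall (e' x)
    rwa [RingEquiv.symm_apply_apply] at this
  have hNtop : N = ⊤ := by
    apply Submodule.baseChange_injective (A := B₀)
    rw [← hT', htop, Submodule.baseChange_top]
  refine ⟨⟨F, ?_⟩⟩
  rw [eq_top_iff]
  intro x _
  have : x ∈ N := by rw [hNtop]; trivial
  exact this


/-- Abstract form of the kernel argument. -/
theorem finitePresentation_of_ker_eq_map {R P₁ B₁ B A : Type*} [CommRing R] [CommRing P₁]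
    [CommRing B₁] [CommRing B] [CommRing A] [Algebra R P₁] [Algebra P₁ B₁] [Algebra R B₁]
    [Algebra R B] [Algebra R A] [Module.FaithfullyFlat P₁ B₁]
    [Algebra.FinitePresentation R B₁] [Algebra.FinitePresentation R B]
    [Algebra.FinitePresentation R P₁] (π : P₁ →ₐ[R] A) (hπ : Function.Surjective π)
    (Ψ : B₁ →ₐ[R] B) (hΨ : Function.Surjective Ψ)
    (hker : RingHom.ker Ψ.toRingHom = (RingHom.ker π.toRingHom).map (algebraMap P₁ B₁)) :
    Algebra.FinitePresentation R A := by
  have hfg := Algebra.FinitePresentation.ker_fG_of_surjective Ψ hΨ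
  rw [hker] at hfg
  exact Algebra.FinitePresentation.of_surjective (f := π) hπ
    (Ideal.FG.of_FG_map_of_faithfullyFlat hfg)

/-- Descent of finite presentation along a faithfully flat model. -/
theorem finitePresentation_of_model {R A₀ B₀ A B : Type u} [CommRing R] [CommRing A₀]
    [CommRing B₀] [CommRing A] [CommRing B] [Algebra R A] [Algebra A B] [Algebra R B]
    [IsScalarTower R A B] [Algebra A₀ A] [Algebra A₀ B₀] [Module.FaithfullyFlat A₀ B₀]
    [Algebra.FinitePresentation A₀ B₀] [Algebra.FiniteType ℤ A₀]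
    (e : A ⊗[A₀] B₀ ≃ₐ[A] B) [Algebra.FinitePresentation R B] :
    Algebra.FinitePresentation R A := by
  classical
  haveI : Algebra.FiniteType R A := by
    refine finiteType_of_model (R := R) (A₀ := A₀) (B₀ := B₀)
      ((Algebra.TensorProduct.comm A₀ B₀ A).toRingEquiv.trans e.toRingEquiv) fun a => ?_
    simp only [RingEquiv.trans_apply, AlgEquiv.coe_ringEquiv,
      Algebra.TensorProduct.comm_tmul]
    rw [← e.commutes a, Algebra.TensorProduct.algebraMap_apply, Algebra.algebraMap_self,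
      RingHom.id_apply]
  obtain ⟨n, f, hf⟩ := Algebra.FiniteType.iff_quotient_mvPolynomial''.1 (‹_› : Algebra.FiniteType R A)
  haveI : Algebra.FinitePresentation ℤ A₀ := Algebra.FinitePresentation.of_finiteType.1 ‹_›
  letI : Algebra A₀ (MvPolynomial (Fin n) R ⊗[ℤ] A₀) :=
    (Algebra.TensorProduct.includeRight (R := ℤ) (A := MvPolynomial (Fin n) R)
      (B := A₀)).toRingHom.toAlgebra
  let π : MvPolynomial (Fin n) R ⊗[ℤ] A₀ →ₐ[ℤ] A :=
    Algebra.TensorProduct.lift (f.restrictScalars ℤ) ((Algebra.ofId A₀ A).restrictScalars ℤ)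
      (fun _ _ => Commute.all _ _)
  have hπ : Function.Surjective π := by
    intro a
    obtain ⟨p, rfl⟩ := hf a
    exact ⟨p ⊗ₜ 1, by simp [π]⟩
  let πA₀ : MvPolynomial (Fin n) R ⊗[ℤ] A₀ →ₐ[A₀] A :=
    { π.toRingHom with
      commutes' := fun a₀ => by
        change π ((1 : MvPolynomial (Fin n) R) ⊗ₜ[ℤ] a₀) = _
        simp [π, Algebra.ofId_apply] }
  let πR : MvPolynomial (Fin n) R ⊗[ℤ] A₀ →ₐ[R] A :=
    { π.toRingHom with
      commutes' := fun r => by
        change π ((algebraMap R (MvPolynomial (Fin n) R) r) ⊗ₜ[ℤ] (1 : A₀)) = _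
        simp [π] }
  have hπA₀ : Function.Surjective πA₀ := hπ
  have hπR : Function.Surjective πR := hπ
  have hker := Algebra.TensorProduct.rTensor_ker (R := A₀) (S := A₀) (C := B₀) πA₀ hπA₀
  haveI : IsScalarTower R (MvPolynomial (Fin n) R ⊗[ℤ] A₀)
      ((MvPolynomial (Fin n) R ⊗[ℤ] A₀) ⊗[A₀] B₀) := inferInstance
  haveI : Algebra.FinitePresentation R (MvPolynomial (Fin n) R ⊗[ℤ] A₀) :=
    Algebra.FinitePresentation.trans R (MvPolynomial (Fin n) R) _
  haveI : Algebra.FinitePresentation R ((MvPolynomial (Fin n) R ⊗[ℤ] A₀) ⊗[A₀] B₀) :=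
    Algebra.FinitePresentation.trans R (MvPolynomial (Fin n) R ⊗[ℤ] A₀)
      ((MvPolynomial (Fin n) R ⊗[ℤ] A₀) ⊗[A₀] B₀)
  let Ψ : (MvPolynomial (Fin n) R ⊗[ℤ] A₀) ⊗[A₀] B₀ →ₐ[R] B :=
    { (e : A ⊗[A₀] B₀ →+* B).comp
        (Algebra.TensorProduct.map πA₀ (AlgHom.id A₀ B₀)).toRingHom with
      commutes' := fun r => by
        change e (Algebra.TensorProduct.map πA₀ (AlgHom.id A₀ B₀)
          ((algebraMap R (MvPolynomial (Fin n) R ⊗[ℤ] A₀) r) ⊗ₜ[A₀] (1 : B₀))) = _
        rw [Algebra.TensorProduct.map_tmul]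
        have h1 : πA₀ (algebraMap R (MvPolynomial (Fin n) R ⊗[ℤ] A₀) r) = algebraMap R A r :=
          πR.commutes r
        rw [h1, AlgHom.id_apply, IsScalarTower.algebraMap_apply R A B, ← e.commutes,
          Algebra.TensorProduct.algebraMap_apply, Algebra.algebraMap_self, RingHom.id_apply] }
  have hΨ : Function.Surjective Ψ := by
    intro b
    obtain ⟨t, rfl⟩ := e.surjective b
    obtain ⟨t', rfl⟩ := Algebra.TensorProduct.map_surjective (f := πA₀) (g := AlgHom.id A₀ B₀)
      hπA₀ Function.surjective_id t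
    exact ⟨t', rfl⟩
  refine finitePresentation_of_ker_eq_map (R := R) (P₁ := MvPolynomial (Fin n) R ⊗[ℤ] A₀)
    (B₁ := (MvPolynomial (Fin n) R ⊗[ℤ] A₀) ⊗[A₀] B₀) (B := B) (A := A) πR hπR Ψ hΨ ?_
  have h2 : RingHom.ker Ψ.toRingHom =
      RingHom.ker (Algebra.TensorProduct.map πA₀ (AlgHom.id A₀ B₀)) := by
    ext x
    simp only [RingHom.mem_ker]
    change e _ = 0 ↔ _
    rw [map_eq_zero_iff e e.injective]
    rfl
  rw [h2, hker]
  rfl

end Groth.Agent.Lib.Helper3.Fppf
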