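import Mathlib
import Groth.Prelude.Def_RedSub
import Groth.Agent.Lib.Helper11QuotPtsE
import Groth.Agent.Lib.Helper12QuotGrp
import Groth.Agent.S0114

/-!
# Helper11ThirdIso: third isomorphism theorem for fppf quotients of group schemes (scheme level)
-/

set_option autoImplicit false
universe u

open CategoryTheory Limits AlgebraicGeometry Opposite MonoidalCategory CartesianMonoidalCategory
  MonObj GrpObj
open Groth.Agent.Lib.Helper9 Groth.Agent.Lib.Helper12.QuotShLib Groth.Agent.Lib.Helper11.QuotPts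

namespace Groth.Agent.Lib.Helper11.ThirdIso

variable {S : Scheme.{u}}

/-- Representable functors are separated for the fppf topology. -/
lemma hom_ext_of_sieve_sch {X T : Over S} (x y : T ⟶ X) (Sv : Sieve T)
    (hSv : Sv ∈ QuotSh.J Scheme.fppfPrecoverage S T)
    (h : ∀ ⦃V : Over S⦄ (g : V ⟶ T), Sv g → g ≫ x = g ≫ y) : x = y := by
  have hX : Presieve.IsSheaf (QuotSh.J Scheme.fppfPrecoverage S) (yoneda.obj X) :=
    GrothendieckTopology.Subcanonical.isSheaf_of_isRepresentable _
  exact (hX Sv hSv).isSeparatedFor.ext (fun V g hg => h g hg)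

/-- The sieve of local lifts along an fppf cover. -/
lemma liftCover_mem {Y X T : Over S} (q : Y ⟶ X) [Flat q.left] [Surjective q.left]
    [LocallyOfFinitePresentation q.left] (x : T ⟶ X) :
    (Sieve.generate (Presieve.singleton q)).pullback x ∈ QuotSh.J Scheme.fppfPrecoverage S T :=
  (QuotSh.J Scheme.fppfPrecoverage S).pullback_stable _
    (generate_singleton_mem_J Scheme.fppfPrecoverage q
      (Scheme.Hom.singleton_mem_fppfPrecoverage q.left))

lemma liftCover_iff {Y X T V : Over S} (q : Y ⟶ X) (x : T ⟶ X) (g : V ⟶ T) :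
    ((Sieve.generate (Presieve.singleton q)).pullback x) g ↔ ∃ y : V ⟶ Y, y ≫ q = g ≫ x := by
  constructor
  · rintro ⟨W, a, b, ⟨⟩, hab⟩
    exact ⟨a, hab⟩
  · rintro ⟨y, hy⟩
    exact ⟨Y, y, q, ⟨⟩, hy⟩

section Quot

variable {G H Q : Over S} [GrpObj G] [GrpObj H] {i : H ⟶ G} {q : G ⟶ Q}

lemma isQuotient_eq_iff (hq : RedSub.IsQuotient i q) {T : Over S} (g g' : T ⟶ G) :
    g ≫ q = g' ≫ q ↔ ∃ h₀ : T ⟶ H, g' = g * (h₀ ≫ i) := by
  obtain ⟨-, -, -, hp⟩ := hq
  constructor
  · intro heq
    refine ⟨hp.lift g g' heq ≫ snd G H, ?_⟩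
    have h1 : hp.lift g g' heq = lift g (hp.lift g g' heq ≫ snd G H) := by
      apply CartesianMonoidalCategory.hom_ext
      · rw [hp.lift_fst, lift_fst]
      · rw [lift_snd]
    have h2 := hp.lift_snd g g' heq
    rw [h1] at h2
    exact h2.symm.trans (Groth.Agent.Lib.Helper12.QuotGrp.lift_act i g _)
  · rintro ⟨h₀, rfl⟩
    rw [← Groth.Agent.Lib.Helper12.QuotGrp.lift_act i g h₀, Category.assoc, ← hp.w, lift_fst_assoc]

end Quot

section Main

variable {H K G QH Kb : Over S} [GrpObj H] [GrpObj K] [GrpObj G]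
  (h : H ⟶ K) (k : K ⟶ G) [Mono k] [IsMonHom h] [IsMonHom k]
  (qH : G ⟶ QH) (hqH : RedSub.IsQuotient (h ≫ k) qH)
  (qKb : K ⟶ Kb) (hqKb : RedSub.IsQuotient h qKb)
  (act : QH ⊗ Kb ⟶ QH) (hact : (qH ⊗ₘ qKb) ≫ act = (G ◁ k) ≫ μ[G] ≫ qH)

include hact in
omit [Mono k] [IsMonHom h] [IsMonHom k] [GrpObj H] in
lemma act_pt {T : Over S} (g : T ⟶ G) (k₁ : T ⟶ K) :
    lift (g ≫ qH) (k₁ ≫ qKb) ≫ act = (g * (k₁ ≫ k)) ≫ qH := by
  have h1 := congrArg (fun m => lift g k₁ ≫ m) hact
  simp only [← Category.assoc, lift_map] at h1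
  rw [h1, ← Groth.Agent.Lib.Helper12.QuotGrp.lift_act k g k₁]
  simp only [Category.assoc]

include hqH hqKb hact in
omit [IsMonHom h] in
/-- The action of `K/H` on `G/H` is free. -/
theorem mono_lift_fst_act : Mono (lift (fst QH Kb) act) := by
  haveI : Flat qH.left := hqH.2.1
  haveI : Surjective qH.left := hqH.1
  haveI : LocallyOfFinitePresentation qH.left := hqH.2.2.1
  haveI : Flat qKb.left := hqKb.2.1
  haveI : Surjective qKb.left := hqKb.1
  haveI : LocallyOfFinitePresentation qKb.left := hqKb.2.2.1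
  constructor
  intro T a b hab
  have h1 : a ≫ fst QH Kb = b ≫ fst QH Kb := by
    have := congrArg (fun m => m ≫ fst QH QH) hab
    simpa using this
  have h2 : a ≫ act = b ≫ act := by
    have := congrArg (fun m => m ≫ snd QH QH) hab
    simpa using this
  apply CartesianMonoidalCategory.hom_ext _ _ h1
  refine hom_ext_of_sieve_sch _ _
    (((Sieve.generate (Presieve.singleton qH)).pullback (a ≫ fst QH Kb)) ⊓
      (((Sieve.generate (Presieve.singleton qKb)).pullback (a ≫ snd QH Kb)) ⊓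
        ((Sieve.generate (Presieve.singleton qKb)).pullback (b ≫ snd QH Kb))))
    ((QuotSh.J Scheme.fppfPrecoverage S).intersection_covering (liftCover_mem qH _)
      ((QuotSh.J Scheme.fppfPrecoverage S).intersection_covering (liftCover_mem qKb _)
        (liftCover_mem qKb _))) ?_
  rintro V g' ⟨hg1, hg2, hg3⟩
  obtain ⟨g₀, hg₀⟩ := (liftCover_iff qH _ g').1 hg1
  obtain ⟨k₁, hk₁⟩ := (liftCover_iff qKb _ g').1 hg2
  obtain ⟨k₂, hk₂⟩ := (liftCover_iff qKb _ g').1 hg3
  have ha : g' ≫ a = lift (g₀ ≫ qH) (k₁ ≫ qKb) := by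
    apply CartesianMonoidalCategory.hom_ext
    · rw [lift_fst, hg₀, Category.assoc]
    · rw [lift_snd, hk₁, Category.assoc]
  have hb : g' ≫ b = lift (g₀ ≫ qH) (k₂ ≫ qKb) := by
    apply CartesianMonoidalCategory.hom_ext
    · rw [lift_fst, hg₀, Category.assoc, h1]
    · rw [lift_snd, hk₂, Category.assoc]
  have h3 : (g₀ * (k₁ ≫ k)) ≫ qH = (g₀ * (k₂ ≫ k)) ≫ qH := by
    rw [← act_pt k qH qKb act hact, ← act_pt k qH qKb act hact, ← ha, ← hb, Category.assoc,
      Category.assoc, h2]
  obtain ⟨h₀, hh₀⟩ := (isQuotient_eq_iff hqH _ _).1 h3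
  have h4 : k₂ ≫ k = (k₁ * (h₀ ≫ h)) ≫ k := by
    rw [MonObj.mul_comp, Category.assoc]
    have := mul_left_cancel (a := g₀) (b := k₂ ≫ k) (c := (k₁ ≫ k) * (h₀ ≫ h ≫ k))
      (by rw [hh₀, _root_.mul_assoc])
    exact this
  have h5 : k₂ = k₁ * (h₀ ≫ h) := (cancel_mono k).1 h4
  rw [← hk₁, ← hk₂]
  exact (isQuotient_eq_iff hqKb _ _).2 ⟨h₀, h5⟩

include hqH hqKb hact in
omit [IsMonHom h] in
/-- Part (i): `G/H ⟶ G/K` is an fppf covering with kernel pair given by the action of `K/H`. -/
theorem part_one {QK : Over S} (qK : G ⟶ QK) (hqK : RedSub.IsQuotient k qK)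
    (qbar : QH ⟶ QK) (hq : qH ≫ qbar = qK) :
    Surjective qbar.left ∧ Flat qbar.left ∧ LocallyOfFinitePresentation qbar.left ∧
      IsPullback (fst QH Kb) act qbar qbar := by
  haveI : Flat qH.left := hqH.2.1
  haveI : Surjective qH.left := hqH.1
  haveI : LocallyOfFinitePresentation qH.left := hqH.2.2.1
  haveI : Flat qKb.left := hqKb.2.1
  haveI : Surjective qKb.left := hqKb.1
  haveI : LocallyOfFinitePresentation qKb.left := hqKb.2.2.1
  have hl : qH.left ≫ qbar.left = qK.left := by rw [← Over.comp_left, hq]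
  haveI : Flat (qH.left ≫ qbar.left) := by rw [hl]; exact hqK.2.1
  haveI : Surjective (qH.left ≫ qbar.left) := by rw [hl]; exact hqK.1
  haveI : LocallyOfFinitePresentation (qH.left ≫ qbar.left) := by rw [hl]; exact hqK.2.2.1
  have hmono := mono_lift_fst_act h k qH hqH qKb hqKb act hact
  refine ⟨?_, Groth.Agent.Lib.Helper12.flat_of_comp_of_flat_of_surjective qH.left qbar.left,
    Groth.Agent.S0114.result qH.left qbar.left, ?_⟩
  · constructor
    intro y
    obtain ⟨x, hx⟩ := (inferInstance : Surjective (qH.left ≫ qbar.left)).surj y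
    exact ⟨qH.left x, by rw [← hx]; rfl⟩
  · haveI : Epi (qH ⊗ₘ qKb) :=
      Groth.Agent.Lib.Helper12.QuotGrp.IsCov.epi_tensorHom
        (Groth.Agent.Lib.Helper12.QuotGrp.IsCov.of_fppf qH)
        (Groth.Agent.Lib.Helper12.QuotGrp.IsCov.of_fppf qKb)
    have hw : fst QH Kb ≫ qbar = act ≫ qbar := by
      rw [← cancel_epi (qH ⊗ₘ qKb), tensorHom_fst_assoc, hq, ← Category.assoc (qH ⊗ₘ qKb), hact,
        Category.assoc, Category.assoc, hq, ← Category.assoc]
      exact hqK.2.2.2.w
    refine isPullback_of_exists_unique hw ?_ ?_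
    · intro T x y hxy
      have hfac : ∃ z : T ⟶ QH ⊗ Kb, z ≫ lift (fst QH Kb) act = lift x y := by
        refine fac_of_sieve Scheme.fppfPrecoverage (lift (fst QH Kb) act) (lift x y)
          (((Sieve.generate (Presieve.singleton qH)).pullback x) ⊓
            ((Sieve.generate (Presieve.singleton qH)).pullback y))
          ((QuotSh.J Scheme.fppfPrecoverage S).intersection_covering (liftCover_mem qH _)
            (liftCover_mem qH _)) ?_
        rintro V g' ⟨hg1, hg2⟩
        obtain ⟨g₀, hg₀⟩ := (liftCover_iff qH _ g').1 hg1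
        obtain ⟨g₁, hg₁⟩ := (liftCover_iff qH _ g').1 hg2
        have h3 : g₀ ≫ qK = g₁ ≫ qK := by
          rw [← hq, ← Category.assoc, ← Category.assoc, hg₀, hg₁, Category.assoc, Category.assoc,
            hxy]
        obtain ⟨k₁, hk₁⟩ := (isQuotient_eq_iff hqK _ _).1 h3
        refine ⟨lift (g' ≫ x) (k₁ ≫ qKb), ?_⟩
        apply CartesianMonoidalCategory.hom_ext
        · simp
        · rw [Category.assoc, lift_snd, Category.assoc, lift_snd, ← hg₀,
            act_pt k qH qKb act hact, ← hk₁, hg₁]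
      obtain ⟨z, hz⟩ := hfac
      refine ⟨z, ?_, ?_⟩
      · have := congrArg (fun m => m ≫ fst QH QH) hz
        simpa using this
      · have := congrArg (fun m => m ≫ snd QH QH) hz
        simpa using this
    · intro T l l' h1 h2
      rw [← cancel_mono (lift (fst QH Kb) act)]
      apply CartesianMonoidalCategory.hom_ext
      · simpa using h1
      · simpa using h2

include hqH hqKb hact in
omit [IsMonHom h] in
/-- Part (ii): an fppf covering of `G/H` whose kernel pair is the action of `K/H` represents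
`G/K`. -/
theorem part_two {Y : Over S} (p : QH ⟶ Y) (hs : Surjective p.left) (hf : Flat p.left)
    (hl : LocallyOfFinitePresentation p.left) (hp : IsPullback (fst QH Kb) act p p) :
    RedSub.IsQuotient k (qH ≫ p) := by
  haveI : Flat qH.left := hqH.2.1
  haveI : Surjective qH.left := hqH.1
  haveI : LocallyOfFinitePresentation qH.left := hqH.2.2.1
  haveI : Flat qKb.left := hqKb.2.1
  haveI : Surjective qKb.left := hqKb.1
  haveI : LocallyOfFinitePresentation qKb.left := hqKb.2.2.1
  refine ⟨?_, ?_, ?_, ?_⟩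
  · rw [Over.comp_left]; infer_instance
  · rw [Over.comp_left]; infer_instance
  · rw [Over.comp_left]; infer_instance
  · have hw : fst G K ≫ qH ≫ p = ((G ◁ k) ≫ μ[G]) ≫ qH ≫ p := by
      rw [Category.assoc, ← Category.assoc μ[G], ← Category.assoc (G ◁ k), ← hact, Category.assoc,
        ← hp.w, tensorHom_fst_assoc]
    refine isPullback_of_exists_unique hw ?_ ?_
    · intro T a b hab
      -- the element of `K/H` relating the images of `a` and `b`
      have hab' : (a ≫ qH) ≫ p = (b ≫ qH) ≫ p := by simpa only [Category.assoc] using hab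
      obtain ⟨κ, hκ⟩ : ∃ κ : T ⟶ Kb, lift (a ≫ qH) κ ≫ act = b ≫ qH := by
        refine ⟨hp.lift _ _ hab' ≫ snd QH Kb, ?_⟩
        have h1 : hp.lift _ _ hab' = lift (a ≫ qH) (hp.lift _ _ hab' ≫ snd QH Kb) := by
          apply CartesianMonoidalCategory.hom_ext
          · rw [hp.lift_fst, lift_fst]
          · rw [lift_snd]
        rw [← h1, hp.lift_snd]
      have hfac : ∃ k₁ : T ⟶ K, k₁ ≫ k = a⁻¹ * b := by
        refine fac_of_sieve Scheme.fppfPrecoverage k (a⁻¹ * b)
          ((Sieve.generate (Presieve.singleton qKb)).pullback κ) (liftCover_mem qKb _) ?_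
        intro V g' hg'
        obtain ⟨k₁, hk₁⟩ := (liftCover_iff qKb _ g').1 hg'
        have h3 : ((g' ≫ a) * (k₁ ≫ k)) ≫ qH = (g' ≫ b) ≫ qH := by
          rw [← act_pt k qH qKb act hact, hk₁, Category.assoc g' b, ← hκ, ← Category.assoc]
          congr 1
          apply CartesianMonoidalCategory.hom_ext
          · simp
          · simp
        obtain ⟨h₀, hh₀⟩ := (isQuotient_eq_iff hqH _ _).1 h3
        refine ⟨k₁ * (h₀ ≫ h), ?_⟩
        rw [MonObj.mul_comp, Category.assoc, MonObj.comp_mul, GrpObj.comp_inv, hh₀,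
          _root_.mul_assoc, inv_mul_cancel_left]
      obtain ⟨k₁, hk₁⟩ := hfac
      refine ⟨lift a k₁, lift_fst _ _, ?_⟩
      rw [Groth.Agent.Lib.Helper12.QuotGrp.lift_act, hk₁, mul_inv_cancel_left]
    · intro T l l' h1 h2
      apply CartesianMonoidalCategory.hom_ext _ _ h1
      have e1 : l = lift (l ≫ fst G K) (l ≫ snd G K) := by
        apply CartesianMonoidalCategory.hom_ext <;> simp
      have e2 : l' = lift (l' ≫ fst G K) (l' ≫ snd G K) := by
        apply CartesianMonoidalCategory.hom_ext <;> simp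
      rw [e1, e2, Groth.Agent.Lib.Helper12.QuotGrp.lift_act,
        Groth.Agent.Lib.Helper12.QuotGrp.lift_act, h1] at h2
      exact (cancel_mono k).1 (mul_left_cancel h2)

end Main

end Groth.Agent.Lib.Helper11.ThirdIso
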