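import Mathlib
import Groth.Agent.Lib.Helper11Genus

/-!
The genus of a minimal numerical type with at least two indices is at least its topological genus.
-/

namespace Groth.Agent.Lib.Helper11.TopGenus

open Finset Models Groth.Agent.Lib.Helper11

variable {n : ℕ} (T : Models.NumericalType n)

/-- indicator of adjacency in the dual graph -/
def adjI (j i : Fin n) : ℤ := if j ≠ i ∧ 0 < T.a j i then 1 else 0

theorem adjI_symm (j i : Fin n) : adjI T j i = adjI T i j := by
  unfold adjI
  rw [a_symm T j i]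
  by_cases h : j = i
  · subst h; rfl
  · have h' : i ≠ j := fun h'' => h h''.symm
    simp [h, h']

theorem adjI_self (j : Fin n) : adjI T j j = 0 := by
  unfold adjI
  simp

theorem adjI_nonneg (j i : Fin n) : 0 ≤ adjI T j i := by
  unfold adjI
  split_ifs <;> norm_num

/-- degree inside a subset -/
def deg (C : Finset (Fin n)) (j : Fin n) : ℤ := ∑ i ∈ C, adjI T j i

/-- twice the number of edges inside a subset -/
def E (C : Finset (Fin n)) : ℤ := ∑ j ∈ C, deg T C j

/-- the contribution of an index to `2g - 2` -/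
def x (j : Fin n) : ℤ := T.m j * (2 * T.w j * (T.g j - 1) - T.a j j)

theorem deg_erase (C : Finset (Fin n)) (j k : Fin n) (hj : j ∈ C) :
    deg T C k = adjI T k j + deg T (C.erase j) k := by
  unfold deg
  exact (Finset.add_sum_erase C (fun i => adjI T k i) hj).symm

theorem E_erase (C : Finset (Fin n)) (j : Fin n) (hj : j ∈ C) :
    E T (C.erase j) = E T C - 2 * deg T C j := by
  have h1 : E T C = deg T C j + ∑ k ∈ C.erase j, deg T C k := by
    unfold E
    exact (Finset.add_sum_erase C (fun k => deg T C k) hj).symm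
  have h2 : ∑ k ∈ C.erase j, deg T C k =
      ∑ k ∈ C.erase j, adjI T k j + E T (C.erase j) := by
    unfold E
    rw [← Finset.sum_add_distrib]
    exact Finset.sum_congr rfl fun k _ => deg_erase T C j k hj
  have h3 : ∑ k ∈ C.erase j, adjI T k j = deg T C j := by
    have h4 := deg_erase T C j j hj
    rw [adjI_self, zero_add] at h4
    rw [h4]
    unfold deg
    exact Finset.sum_congr rfl fun k _ => adjI_symm T k j
  rw [h1, h2, h3]
  ring

theorem x_ge (C : Finset (Fin n)) (j : Fin n) :
    (∑ i ∈ C, if i ≠ j then T.a j i * T.m i else 0) - 2 * (T.m j * T.w j) ≤ x T j := by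
  classical
  have h1 := row_sum T j
  have h2 : ∑ i, T.a j i * T.m i =
      T.a j j * T.m j + ∑ i, (if i ≠ j then T.a j i * T.m i else 0) := by
    rw [← Finset.add_sum_erase univ (fun i => T.a j i * T.m i) (mem_univ j)]
    congr 1
    rw [← Finset.add_sum_erase univ (fun i => if i ≠ j then T.a j i * T.m i else 0) (mem_univ j)]
    simp only [ne_eq, not_true_eq_false, if_false, zero_add]
    refine Finset.sum_congr rfl fun i hi => ?_
    rw [if_pos (Finset.ne_of_mem_erase hi)]
  have h3 : ∑ i ∈ C, (if i ≠ j then T.a j i * T.m i else 0) ≤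
      ∑ i, (if i ≠ j then T.a j i * T.m i else 0) := by
    apply Finset.sum_le_sum_of_subset_of_nonneg (subset_univ _)
    intro i _ _
    split_ifs with h
    · exact mul_nonneg (T.offDiag_nonneg j i (Ne.symm h)) (T.m_pos i).le
    · exact le_refl _
  have hg := T.g_nonneg j
  have hmw : 0 < T.m j * T.w j := mul_pos (T.m_pos j) (T.w_pos j)
  unfold x
  nlinarith

theorem a_ge_w (i j : Fin n) (h : i ≠ j ∧ 0 < T.a i j) : T.w i ≤ T.a i j :=
  Int.le_of_dvd h.2 (T.w_dvd i j)

theorem core_bound (C : Finset (Fin n)) (hC : ∀ j ∈ C, 2 ≤ deg T C j) :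
    E T C - 2 * (C.card : ℤ) ≤ ∑ j ∈ C, x T j := by
  classical
  -- lower bound of the sum of x
  have h1 : ∑ j ∈ C, ((∑ i ∈ C, if i ≠ j then T.a j i * T.m i else 0) - 2 * (T.m j * T.w j)) ≤
      ∑ j ∈ C, x T j := Finset.sum_le_sum fun j _ => x_ge T C j
  -- swap the double sum
  have h2 : ∑ j ∈ C, ∑ i ∈ C, (if i ≠ j then T.a j i * T.m i else 0) =
      ∑ i ∈ C, T.m i * ∑ j ∈ C, (if i ≠ j then T.a i j else 0) := by
    rw [Finset.sum_comm]
    refine Finset.sum_congr rfl fun i _ => ?_
    rw [Finset.mul_sum]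
    refine Finset.sum_congr rfl fun j _ => ?_
    split_ifs
    · rw [a_symm T j i]; ring
    · ring
  -- each inner sum is at least w_i deg
  have h3 : ∀ i ∈ C, T.w i * deg T C i ≤ ∑ j ∈ C, (if i ≠ j then T.a i j else 0) := by
    intro i _
    unfold deg
    rw [Finset.mul_sum]
    refine Finset.sum_le_sum fun j _ => ?_
    unfold adjI
    by_cases hij : i ≠ j
    · by_cases hpos : 0 < T.a i j
      · rw [if_pos ⟨hij, hpos⟩, if_pos hij, mul_one]
        exact a_ge_w T i j ⟨hij, hpos⟩
      · rw [if_neg (fun h => hpos h.2), if_pos hij, mul_zero]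
        exact T.offDiag_nonneg i j hij
    · rw [if_neg (fun h => hij h.1), if_neg hij, mul_zero]
  have h4 : ∑ i ∈ C, T.m i * (T.w i * deg T C i) ≤
      ∑ i ∈ C, T.m i * ∑ j ∈ C, (if i ≠ j then T.a i j else 0) :=
    Finset.sum_le_sum fun i hi => mul_le_mul_of_nonneg_left (h3 i hi) (T.m_pos i).le
  have h5 : ∑ i ∈ C, (deg T C i - 2) ≤ ∑ i ∈ C, (T.m i * (T.w i * deg T C i) - 2 * (T.m i * T.w i)) := by
    refine Finset.sum_le_sum fun i hi => ?_
    have hd := hC i hi
    have hmw : 1 ≤ T.m i * T.w i := by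
      have h1 := T.m_pos i
      have h2 := T.w_pos i
      nlinarith
    nlinarith
  have h6 : ∑ i ∈ C, (deg T C i - 2) = E T C - 2 * (C.card : ℤ) := by
    rw [Finset.sum_sub_distrib]
    unfold E
    simp [mul_comm]
  have h7 : ∑ i ∈ C, (T.m i * (T.w i * deg T C i) - 2 * (T.m i * T.w i)) =
      ∑ i ∈ C, T.m i * (T.w i * deg T C i) - ∑ i ∈ C, 2 * (T.m i * T.w i) :=
    Finset.sum_sub_distrib _ _
  have h8 : ∑ j ∈ C, ((∑ i ∈ C, if i ≠ j then T.a j i * T.m i else 0) - 2 * (T.m j * T.w j)) =
      ∑ j ∈ C, (∑ i ∈ C, if i ≠ j then T.a j i * T.m i else 0) - ∑ j ∈ C, 2 * (T.m j * T.w j) :=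
    Finset.sum_sub_distrib _ _
  rw [h8, h2] at h1
  rw [h7] at h5
  rw [← h6]
  linarith

theorem x_nonneg (hn : 1 < n) (hmin : T.IsMinimal) (j : Fin n) : 0 ≤ x T j :=
  contribution_nonneg T hn hmin j

theorem bound (hn : 1 < n) (hmin : T.IsMinimal) : ∀ (k : ℕ) (C : Finset (Fin n)), C.card = k →
    E T C - 2 * (C.card : ℤ) ≤ ∑ j ∈ C, x T j := by
  classical
  intro k
  induction k with
  | zero =>
    intro C hC
    rw [Finset.card_eq_zero] at hC
    subst hC
    simp [E]
  | succ k ih =>
    intro C hC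
    by_cases h : ∀ j ∈ C, 2 ≤ deg T C j
    · exact core_bound T C h
    · push Not at h
      obtain ⟨j, hj, hdeg⟩ := h
      have hcard : (C.erase j).card = k := by
        rw [Finset.card_erase_of_mem hj, hC]; rfl
      have h1 := ih (C.erase j) hcard
      rw [E_erase T C j hj, hcard] at h1
      have h2 : ∑ i ∈ C, x T i = x T j + ∑ i ∈ C.erase j, x T i :=
        (Finset.add_sum_erase C (fun i => x T i) hj).symm
      have h3 := x_nonneg T hn hmin j
      rw [hC, h2]
      push_cast
      linarith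

theorem adjI_eq (j i : Fin n) : adjI T j i =
    (if j < i ∧ 0 < T.a j i then 1 else 0) + (if i < j ∧ 0 < T.a i j then 1 else 0) := by
  unfold adjI
  rw [a_symm T i j]
  rcases lt_trichotomy j i with h | h | h
  · have h1 : j ≠ i := ne_of_lt h
    have h2 : ¬ i < j := not_lt_of_gt h
    simp [h, h1, h2]
  · subst h
    simp
  · have h1 : j ≠ i := ne_of_gt h
    have h2 : ¬ j < i := not_lt_of_gt h
    simp [h, h1, h2]

theorem E_univ : E T univ = 2 * (T.edgeCount : ℤ) := by
  have h1 : (T.edgeCount : ℤ) =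
      ∑ j, ∑ i, (if j < i ∧ 0 < T.a j i then (1 : ℤ) else 0) := by
    unfold NumericalType.edgeCount
    rw [Finset.card_filter, Nat.cast_sum, Fintype.sum_prod_type]
    refine Finset.sum_congr rfl fun j _ => Finset.sum_congr rfl fun i _ => ?_
    split_ifs <;> simp
  have h2 : E T univ = ∑ j, ∑ i, (if j < i ∧ 0 < T.a j i then (1 : ℤ) else 0) +
      ∑ j, ∑ i, (if i < j ∧ 0 < T.a i j then (1 : ℤ) else 0) := by
    unfold E deg
    rw [← Finset.sum_add_distrib]
    refine Finset.sum_congr rfl fun j _ => ?_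
    rw [← Finset.sum_add_distrib]
    exact Finset.sum_congr rfl fun i _ => adjI_eq T j i
  have h3 : ∑ j, ∑ i, (if i < j ∧ 0 < T.a i j then (1 : ℤ) else 0) =
      ∑ j, ∑ i, (if j < i ∧ 0 < T.a j i then (1 : ℤ) else 0) := Finset.sum_comm
  rw [h2, h3, ← h1]
  ring

/-- S2177 -/
theorem topGenus_le_genus (hmin : T.IsMinimal) (hn : 1 < n) : T.topGenus ≤ T.genus := by
  have h1 := bound T hn hmin n univ (by simp)
  have h2 := two_genus T
  rw [E_univ] at h1
  have h3 : ∑ j ∈ univ, x T j = 2 * T.genus - 2 := h2.symm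
  rw [h3] at h1
  unfold NumericalType.topGenus
  simp only [Finset.card_univ, Fintype.card_fin] at h1
  linarith

end Groth.Agent.Lib.Helper11.TopGenus
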