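import Mathlib

set_option autoImplicit false
universe u

namespace Groth.Agent.Lib.Helper11TorusUnits

open AddMonoidAlgebra CategoryTheory Limits

/-- units of the group algebra `A[M]` of a unique-sums monoid over a domain are trivial. -/
theorem exists_single_of_isUnit {A M : Type*} [CommRing A] [IsDomain A] [AddCommMonoid M]
    [TwoUniqueSums M] (x : AddMonoidAlgebra A M) (hx : IsUnit x) :
    ∃ (m : M) (a : A), IsUnit a ∧ x = single m a := by
  classical
  obtain ⟨y, hxy⟩ := hx.exists_right_inv
  have hx0 : x ≠ 0 := by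
    rintro rfl
    rw [zero_mul] at hxy
    exact zero_ne_one hxy
  have hy0 : y ≠ 0 := by
    rintro rfl
    rw [mul_zero] at hxy
    exact zero_ne_one hxy
  have hsx : x.coeff.support.Nonempty := by
    rw [Finsupp.support_nonempty_iff]
    simpa using hx0
  have hsy : y.coeff.support.Nonempty := by
    rw [Finsupp.support_nonempty_iff]
    simpa using hy0
  have hone : ∀ m : M, (x * y).coeff m ≠ 0 → m = 0 := by
    intro m hm
    rw [hxy, one_def, coeff_single] at hm
    by_contra h
    exact hm (Finsupp.single_eq_of_ne h)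
  have hcard : ¬ 1 < x.coeff.support.card * y.coeff.support.card := by
    intro hlt
    obtain ⟨p1, hp1, p2, hp2, hne, hu1, hu2⟩ := TwoUniqueSums.uniqueAdd_of_one_lt_card hlt
    rw [Finset.mem_product] at hp1 hp2
    have c1 : (x * y).coeff (p1.1 + p1.2) ≠ 0 := by
      rw [coeff_mul_add_of_uniqueAdd hu1]
      exact mul_ne_zero (Finsupp.mem_support_iff.mp hp1.1) (Finsupp.mem_support_iff.mp hp1.2)
    have c2 : (x * y).coeff (p2.1 + p2.2) ≠ 0 := by
      rw [coeff_mul_add_of_uniqueAdd hu2]
      exact mul_ne_zero (Finsupp.mem_support_iff.mp hp2.1) (Finsupp.mem_support_iff.mp hp2.2)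
    have e1 := hone _ c1
    have e2 := hone _ c2
    have := hu1 hp2.1 hp2.2 (e2.trans e1.symm)
    exact hne (Prod.ext this.1.symm this.2.symm)
  have hcx : x.coeff.support.card = 1 := by
    have h1 : 0 < x.coeff.support.card := Finset.card_pos.mpr hsx
    have h2 : 0 < y.coeff.support.card := Finset.card_pos.mpr hsy
    by_contra h
    have h3 : 2 ≤ x.coeff.support.card := by omega
    exact hcard (by nlinarith)
  have hcy : y.coeff.support.card = 1 := by
    have h1 : 0 < x.coeff.support.card := Finset.card_pos.mpr hsx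
    have h2 : 0 < y.coeff.support.card := Finset.card_pos.mpr hsy
    by_contra h
    have h3 : 2 ≤ y.coeff.support.card := by omega
    exact hcard (by nlinarith)
  obtain ⟨m, a, ha, hxa⟩ := Finsupp.card_support_eq_one'.mp hcx
  obtain ⟨m', a', ha', hya⟩ := Finsupp.card_support_eq_one'.mp hcy
  have hx' : x = single m a := by rw [← coeff_inj, hxa, coeff_single]
  have hy' : y = single m' a' := by rw [← coeff_inj, hya, coeff_single]
  refine ⟨m, a, ?_, hx'⟩
  rw [hx', hy', single_mul_single, one_def] at hxy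
  have h1 := congrArg (fun z => z.coeff (m + m')) hxy
  simp only [coeff_single, Finsupp.single_eq_same] at h1
  have hmm : m + m' = 0 := by
    by_contra h
    rw [Finsupp.single_eq_of_ne h] at h1
    exact mul_ne_zero ha ha' h1
  rw [hmm, Finsupp.single_eq_same] at h1
  exact IsUnit.of_mul_eq_one _ h1

section PO

variable {Z₀ A B' C : CommRingCat.{u}} (M : Type) [AddCommMonoid M]

/-- the monoid hom `m ↦ ρ (t^m)` -/
noncomputable def tmon {B' : Type u} [CommRing B'] (ρ : ULift.{u} (AddMonoidAlgebra ℤ M) →+* B') :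
    Multiplicative M →* B' :=
  ((ρ.comp (ULift.ringEquiv.symm : AddMonoidAlgebra ℤ M ≃+* ULift.{u} (AddMonoidAlgebra ℤ M)).toRingHom)
    : AddMonoidAlgebra ℤ M →* B').comp (AddMonoidAlgebra.of ℤ M)

lemma tmon_apply {B' : Type u} [CommRing B'] (ρ : ULift.{u} (AddMonoidAlgebra ℤ M) →+* B')
    (m : M) : tmon M ρ (Multiplicative.ofAdd m) = ρ (ULift.up (single m 1)) := rfl

/-- the candidate comparison map `A[M] → C` -/
noncomputable def phi (c : A ⟶ C) (d : B' ⟶ C) (ρ : ULift.{u} (AddMonoidAlgebra ℤ M) →+* B') :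
    AddMonoidAlgebra A M →+* C :=
  AddMonoidAlgebra.liftNCRingHom c.hom (tmon M (d.hom.comp ρ)) (fun _ _ => Commute.all _ _)

lemma phi_single (c : A ⟶ C) (d : B' ⟶ C) (ρ : ULift.{u} (AddMonoidAlgebra ℤ M) →+* B')
    (m : M) (x : A) :
    phi M c d ρ (single m x) = c.hom x * d.hom (ρ (ULift.up (single m 1))) := by
  rw [phi, AddMonoidAlgebra.liftNCRingHom_single]
  rfl

theorem phi_bijective {a : Z₀ ⟶ A} {b : Z₀ ⟶ B'} {c : A ⟶ C} {d : B' ⟶ C}
    (h : IsPushout a b c d) (hZ : ∀ (D : CommRingCat.{u}) (f g : Z₀ ⟶ D), f = g)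
    (ρ : ULift.{u} (AddMonoidAlgebra ℤ M) →+* B') (hρ : Function.Bijective ρ) :
    Function.Bijective (phi M c d ρ) := by
  let ρe : ULift.{u} (AddMonoidAlgebra ℤ M) ≃+* B' := RingEquiv.ofBijective ρ hρ
  let f : A ⟶ CommRingCat.of (AddMonoidAlgebra A M) :=
    CommRingCat.ofHom AddMonoidAlgebra.singleZeroRingHom
  let g₀ : B' →+* AddMonoidAlgebra A M :=
    ((AddMonoidAlgebra.mapRingHom M (Int.castRingHom A)).comp
      (ULift.ringEquiv : ULift.{u} (AddMonoidAlgebra ℤ M) ≃+* AddMonoidAlgebra ℤ M).toRingHom).comp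
      ρe.symm.toRingHom
  let g : B' ⟶ CommRingCat.of (AddMonoidAlgebra A M) := CommRingCat.ofHom g₀
  let ψ : C ⟶ CommRingCat.of (AddMonoidAlgebra A M) := h.desc f g (hZ _ _ _)
  have h1 : c ≫ ψ = f := h.inl_desc _ _ _
  have h2 : d ≫ ψ = g := h.inr_desc _ _ _
  have h1' : ∀ x : A, ψ.hom (c.hom x) = single 0 x := fun x => congr($(h1).hom x)
  have h2' : ∀ y : B', ψ.hom (d.hom y) = g₀ y := fun y => congr($(h2).hom y)
  have hg₀ : ∀ m : M, g₀ (ρ (ULift.up (single m 1))) = single m 1 := by
    intro m
    have : ρe.symm (ρ (ULift.up (single m 1))) = ULift.up (single m 1) :=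
      ρe.symm_apply_apply _
    change (AddMonoidAlgebra.mapRingHom M (Int.castRingHom A))
      (ULift.ringEquiv (ρe.symm (ρ (ULift.up (single m 1))))) = _
    rw [this]
    change (AddMonoidAlgebra.mapRingHom M (Int.castRingHom A)) (single m 1) = _
    rw [AddMonoidAlgebra.mapRingHom_single, map_one]
  have hleft : ψ.hom.comp (phi M c d ρ) = RingHom.id _ := by
    apply AddMonoidAlgebra.ringHom_ext
    · intro x
      rw [RingHom.comp_apply, phi_single, map_mul, h1', h2', hg₀, RingHom.id_apply,
        single_mul_single, add_zero, mul_one]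
    · intro m
      rw [RingHom.comp_apply, phi_single, map_mul, h1', h2', hg₀, RingHom.id_apply,
        single_mul_single, zero_add, mul_one]
  have hright : ψ ≫ CommRingCat.ofHom (phi M c d ρ) = 𝟙 C := by
    apply h.hom_ext
    · rw [reassoc_of% h1, Category.comp_id]
      ext x
      change phi M c d ρ (single 0 x) = c.hom x
      rw [phi_single]
      have : (ULift.up (single (0 : M) (1 : ℤ)) : ULift.{u} (AddMonoidAlgebra ℤ M)) = 1 := rfl
      rw [this, map_one, map_one, mul_one]
    · rw [reassoc_of% h2, Category.comp_id]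
      ext y
      obtain ⟨z, rfl⟩ := hρ.2 y
      change phi M c d ρ (g₀ (ρ z)) = d.hom (ρ z)
      obtain ⟨z, rfl⟩ : ∃ z' : AddMonoidAlgebra ℤ M, z = ULift.up z' := ⟨z.down, rfl⟩
      have e : g₀ (ρ (ULift.up z)) = AddMonoidAlgebra.mapRingHom M (Int.castRingHom A) z := by
        change (AddMonoidAlgebra.mapRingHom M (Int.castRingHom A))
          (ULift.ringEquiv (ρe.symm (ρ (ULift.up z)))) = _
        have : ρe.symm (ρ (ULift.up z)) = ULift.up z := ρe.symm_apply_apply _
        rw [this]
        rfl
      rw [e]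
      -- two ring homs out of ℤ[M]
      have key : (phi M c d ρ).comp (AddMonoidAlgebra.mapRingHom M (Int.castRingHom A)) =
          (d.hom.comp ρ).comp
            (ULift.ringEquiv.symm : AddMonoidAlgebra ℤ M ≃+* ULift.{u} (AddMonoidAlgebra ℤ M)).toRingHom := by
        apply AddMonoidAlgebra.ringHom_ext
        · intro r
          have e1 : (single (0 : M) r : AddMonoidAlgebra ℤ M) = (r : AddMonoidAlgebra ℤ M) := by
            rw [AddMonoidAlgebra.intCast_def, Int.cast_id]
          rw [e1, map_intCast, map_intCast]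
        · intro m
          rw [RingHom.comp_apply, AddMonoidAlgebra.mapRingHom_single, map_one, phi_single,
            map_one, one_mul]
          rfl
      exact congr($key z)
  constructor
  · intro x y hxy
    have := congrArg ψ.hom hxy
    have hx := congr($hleft x)
    have hy := congr($hleft y)
    simp only [RingHom.comp_apply, RingHom.id_apply] at hx hy
    rw [← hx, ← hy, this]
  · intro z
    refine ⟨ψ.hom z, ?_⟩
    exact congr($(hright).hom z)

end PO

end Groth.Agent.Lib.Helper11TorusUnits
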