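import Mathlib
import Groth.Agent.Lib.Helper11TorusUnitsA

/-!
Global functions on `V ×_X (X × 𝔾_m^n)` for affine `V`: the chart isomorphism `Γ(V)[M] ≃ Γ(P_V)`.
-/

set_option autoImplicit false
universe u

namespace Groth.Agent.Lib.Helper11TorusUnits

open AddMonoidAlgebra CategoryTheory Limits AlgebraicGeometry

variable (X : Scheme.{u}) (M : Type) [AddCommMonoid M]

/-- the coordinate ring of the torus -/
noncomputable abbrev BB : CommRingCat.{u} := CommRingCat.of (ULift.{u} (AddMonoidAlgebra ℤ M))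

/-- the torus -/
noncomputable abbrev TT : Scheme.{u} := Spec (BB M)

/-- `X × T` -/
noncomputable abbrev PP : Scheme.{u} := X ⨯ TT M

/-- the iso `ℤ[M] ≅ Γ(T)` as a ring hom -/
noncomputable def rho : ULift.{u} (AddMonoidAlgebra ℤ M) →+* Γ(TT M, ⊤) :=
  (Scheme.ΓSpecIso (BB M)).inv.hom

lemma rho_bijective : Function.Bijective (rho M) :=
  ConcreteCategory.bijective_of_isIso (Scheme.ΓSpecIso (BB M)).inv

/-- the characters `t^m` as global functions on `X × T` -/
noncomputable def tauHom : Multiplicative M →* Γ(PP X M, ⊤) :=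
  tmon M ((prod.snd : PP X M ⟶ TT M).appTop.hom.comp (rho M))

lemma tauHom_apply (m : M) : tauHom X M (Multiplicative.ofAdd m) =
    (prod.snd : PP X M ⟶ TT M).appTop.hom (rho M (ULift.up (single m 1))) := rfl

/-- homs out of `Γ(Spec (ULift ℤ))` are unique -/
lemma hom_unique (D : CommRingCat.{u})
    (f g : Γ(Spec (CommRingCat.of (ULift.{u} ℤ)), ⊤) ⟶ D) : f = g := by
  have key : ∀ (f g : ULift.{u} ℤ →+* D), f = g := by
    intro f g
    have : f.comp (ULift.ringEquiv.symm : ℤ ≃+* ULift.{u} ℤ).toRingHom =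
        g.comp (ULift.ringEquiv.symm : ℤ ≃+* ULift.{u} ℤ).toRingHom := Subsingleton.elim _ _
    ext x
    exact congr($this x.down)
  rw [← cancel_epi (Scheme.ΓSpecIso (CommRingCat.of (ULift.{u} ℤ))).inv]
  ext x
  exact congr($(key ((Scheme.ΓSpecIso (CommRingCat.of (ULift.{u} ℤ))).inv ≫ f).hom
    ((Scheme.ΓSpecIso (CommRingCat.of (ULift.{u} ℤ))).inv ≫ g).hom) x)

variable {X} {V : Scheme.{u}} (j : V ⟶ X)

/-- the chart `P_V = V ×_X (X × T)` -/
noncomputable abbrev PV : Scheme.{u} := pullback (prod.fst : PP X M ⟶ X) j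

/-- `P_V ⟶ X × T` -/
noncomputable abbrev aV : PV M j ⟶ PP X M := pullback.fst _ _

/-- `P_V ⟶ V` -/
noncomputable abbrev bV : PV M j ⟶ V := pullback.snd _ _

lemma isPullback_chart :
    IsPullback (bV M j) (aV M j ≫ prod.snd) (specULiftZIsTerminal.{u}.from V)
      (specULiftZIsTerminal.{u}.from (TT M)) := by
  have s : IsPullback (bV M j) (aV M j) j (prod.fst : PP X M ⟶ X) :=
    (IsPullback.of_hasPullback (prod.fst : PP X M ⟶ X) j).flip
  have t : IsPullback (prod.fst : PP X M ⟶ X) (prod.snd : PP X M ⟶ TT M)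
      (specULiftZIsTerminal.{u}.from X) (specULiftZIsTerminal.{u}.from (TT M)) :=
    IsPullback.of_is_product (limit.isLimit (pair X (TT M))) specULiftZIsTerminal.{u}
  have := s.paste_vert t
  rwa [specULiftZIsTerminal.{u}.hom_ext (j ≫ specULiftZIsTerminal.{u}.from X)
    (specULiftZIsTerminal.{u}.from V)] at this

/-- the chart map `Γ(V)[M] → Γ(P_V)` -/
noncomputable def chart : AddMonoidAlgebra Γ(V, ⊤) M →+* Γ(PV M j, ⊤) :=
  phi M (bV M j).appTop (aV M j ≫ prod.snd).appTop (rho M)

lemma chart_single (m : M) (x : Γ(V, ⊤)) :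
    chart M j (single m x) =
      (bV M j).appTop.hom x * (aV M j).appTop.hom (tauHom X M (Multiplicative.ofAdd m)) := by
  rw [chart, phi_single, tauHom_apply]
  rfl

theorem chart_bijective [IsAffine V] : Function.Bijective (chart M j) := by
  have h := isPushout_appTop_of_isPullback (isPullback_chart M j)
  exact phi_bijective M h hom_unique (rho M) (rho_bijective M)

end Groth.Agent.Lib.Helper11TorusUnits
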