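import Mathlib
import Groth.Agent.Lib.Helper11TorusUnitsB

/-!
Sections and change of charts for `X × 𝔾_m^n`.
-/

set_option autoImplicit false
universe u

namespace Groth.Agent.Lib.Helper11TorusUnits

open AddMonoidAlgebra CategoryTheory Limits AlgebraicGeometry

variable (X : Scheme.{u}) (M : Type) [AddCommMonoid M]

/-- the augmentation `ℤ[M] → ℤ` -/
noncomputable def aug : ULift.{u} (AddMonoidAlgebra ℤ M) →+* ULift.{u} ℤ :=
  ((ULift.ringEquiv.symm : ℤ ≃+* ULift.{u} ℤ).toRingHom.comp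
    (AddMonoidAlgebra.liftNCRingHom (RingHom.id ℤ) (1 : Multiplicative M →* ℤ)
      (fun _ _ => Commute.all _ _))).comp
    (ULift.ringEquiv : ULift.{u} (AddMonoidAlgebra ℤ M) ≃+* AddMonoidAlgebra ℤ M).toRingHom

lemma aug_single (m : M) : aug.{u} M (ULift.up (single m 1)) = 1 := by
  change (ULift.ringEquiv.symm : ℤ ≃+* ULift.{u} ℤ)
    (AddMonoidAlgebra.liftNCRingHom (RingHom.id ℤ) (1 : Multiplicative M →* ℤ)
      (fun _ _ => Commute.all _ _) (single m 1)) = 1
  rw [AddMonoidAlgebra.liftNCRingHom_single]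
  rfl

/-- the unit section `X ⟶ T` -/
noncomputable def sigma : X ⟶ TT M :=
  specULiftZIsTerminal.{u}.from X ≫ Spec.map (CommRingCat.ofHom (aug M))

/-- the unit section `X ⟶ X × T` -/
noncomputable def sec : X ⟶ PP X M := prod.lift (𝟙 X) (sigma X M)

lemma sec_fst : sec X M ≫ prod.fst = 𝟙 X := prod.lift_fst _ _

lemma sec_snd : sec X M ≫ prod.snd = sigma X M := prod.lift_snd _ _

lemma sec_appTop_fst (x : Γ(X, ⊤)) :
    (sec X M).appTop.hom ((prod.fst : PP X M ⟶ X).appTop.hom x) = x := by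
  have h : (prod.fst : PP X M ⟶ X).appTop ≫ (sec X M).appTop = 𝟙 _ := by
    rw [← Scheme.Hom.comp_appTop, sec_fst]
    rfl
  exact congr($(h).hom x)

lemma sec_tau (m : M) :
    (sec X M).appTop.hom (tauHom X M (Multiplicative.ofAdd m)) = 1 := by
  rw [tauHom_apply]
  have h1 : (prod.snd : PP X M ⟶ TT M).appTop ≫ (sec X M).appTop = (sigma X M).appTop := by
    rw [← Scheme.Hom.comp_appTop, sec_snd]
  have h2 : (sec X M).appTop.hom ((prod.snd : PP X M ⟶ TT M).appTop.hom
      (rho M (ULift.up (single m 1)))) = (sigma X M).appTop.hom (rho M (ULift.up (single m 1))) :=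
    congr($(h1).hom _)
  rw [h2]
  have h3 : (sigma X M).appTop = (Spec.map (CommRingCat.ofHom (aug M))).appTop ≫
      (specULiftZIsTerminal.{u}.from X).appTop := Scheme.Hom.comp_appTop _ _
  have h4 := Scheme.ΓSpecIso_inv_naturality (CommRingCat.ofHom (aug M))
  have h5 : (Spec.map (CommRingCat.ofHom (aug M))).appTop.hom (rho M (ULift.up (single m 1))) =
      (Scheme.ΓSpecIso (CommRingCat.of (ULift.{u} ℤ))).inv.hom (aug M (ULift.up (single m 1))) :=
    (congr($(h4).hom (ULift.up (single m 1)))).symm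
  rw [h3]
  change (specULiftZIsTerminal.{u}.from X).appTop.hom
    ((Spec.map (CommRingCat.ofHom (aug M))).appTop.hom (rho M (ULift.up (single m 1)))) = 1
  rw [h5, aug_single, map_one, map_one]

variable {X} {V W : Scheme.{u}} (j : V ⟶ X)

/-- the induced section of the chart -/
noncomputable def secV : V ⟶ PV M j :=
  pullback.lift (j ≫ sec X M) (𝟙 V)
    (by rw [Category.assoc, sec_fst, Category.comp_id, Category.id_comp])

lemma secV_aV : secV M j ≫ aV M j = j ≫ sec X M := pullback.lift_fst _ _ _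

lemma secV_bV : secV M j ≫ bV M j = 𝟙 V := pullback.lift_snd _ _ _

lemma secV_chart_single (m : M) (x : Γ(V, ⊤)) :
    (secV M j).appTop.hom (chart M j (single m x)) = x := by
  rw [chart_single, map_mul]
  have h1 : (bV M j).appTop ≫ (secV M j).appTop = 𝟙 _ := by
    rw [← Scheme.Hom.comp_appTop, secV_bV]
    rfl
  have h2 : (aV M j).appTop ≫ (secV M j).appTop = (sec X M).appTop ≫ j.appTop := by
    rw [← Scheme.Hom.comp_appTop, secV_aV, Scheme.Hom.comp_appTop]
  have e1 : (secV M j).appTop.hom ((bV M j).appTop.hom x) = x := congr($(h1).hom x)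
  have e2 : (secV M j).appTop.hom ((aV M j).appTop.hom (tauHom X M (Multiplicative.ofAdd m))) =
      j.appTop.hom ((sec X M).appTop.hom (tauHom X M (Multiplicative.ofAdd m))) :=
    congr($(h2).hom _)
  rw [e1, e2, sec_tau, map_one, mul_one]

/-- change of chart -/
noncomputable def kappa (k : W ⟶ V) (jW : W ⟶ X) (h : k ≫ j = jW) : PV M jW ⟶ PV M j :=
  pullback.lift (aV M jW) (bV M jW ≫ k) (by rw [pullback.condition, Category.assoc, h])

lemma kappa_aV (k : W ⟶ V) (jW : W ⟶ X) (h : k ≫ j = jW) :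
    kappa M j k jW h ≫ aV M j = aV M jW := pullback.lift_fst _ _ _

lemma kappa_bV (k : W ⟶ V) (jW : W ⟶ X) (h : k ≫ j = jW) :
    kappa M j k jW h ≫ bV M j = bV M jW ≫ k := pullback.lift_snd _ _ _

lemma kappa_chart_single (k : W ⟶ V) (jW : W ⟶ X) (h : k ≫ j = jW) (m : M) (x : Γ(V, ⊤)) :
    (kappa M j k jW h).appTop.hom (chart M j (single m x)) =
      chart M jW (single m (k.appTop.hom x)) := by
  rw [chart_single, chart_single, map_mul]
  have h1 : (bV M j).appTop ≫ (kappa M j k jW h).appTop = k.appTop ≫ (bV M jW).appTop := by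
    rw [← Scheme.Hom.comp_appTop, kappa_bV, Scheme.Hom.comp_appTop]
  have h2 : (aV M j).appTop ≫ (kappa M j k jW h).appTop = (aV M jW).appTop := by
    rw [← Scheme.Hom.comp_appTop, kappa_aV]
  have e1 : (kappa M j k jW h).appTop.hom ((bV M j).appTop.hom x) =
      (bV M jW).appTop.hom (k.appTop.hom x) := congr($(h1).hom x)
  have e2 : (kappa M j k jW h).appTop.hom
      ((aV M j).appTop.hom (tauHom X M (Multiplicative.ofAdd m))) =
      (aV M jW).appTop.hom (tauHom X M (Multiplicative.ofAdd m)) := congr($(h2).hom _)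
  rw [e1, e2]

lemma kappa_aV_apply (k : W ⟶ V) (jW : W ⟶ X) (h : k ≫ j = jW) (w : Γ(PP X M, ⊤)) :
    (kappa M j k jW h).appTop.hom ((aV M j).appTop.hom w) = (aV M jW).appTop.hom w := by
  have h2 : (aV M j).appTop ≫ (kappa M j k jW h).appTop = (aV M jW).appTop := by
    rw [← Scheme.Hom.comp_appTop, kappa_aV]
  exact congr($(h2).hom w)

/-- units in a chart are monomials -/
theorem chart_unit [TwoUniqueSums M] [IsAffine V] [IsDomain Γ(V, ⊤)] (w : Γ(PV M j, ⊤))
    (hw : IsUnit w) : ∃ (m : M) (a : Γ(V, ⊤)), IsUnit a ∧ w = chart M j (single m a) := by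
  let e : AddMonoidAlgebra Γ(V, ⊤) M ≃+* Γ(PV M j, ⊤) :=
    RingEquiv.ofBijective (chart M j) (chart_bijective M j)
  have hz : IsUnit (e.symm w) := hw.map e.symm
  obtain ⟨m, a, ha, hza⟩ := exists_single_of_isUnit (e.symm w) hz
  refine ⟨m, a, ha, ?_⟩
  have : e (e.symm w) = w := e.apply_symm_apply w
  rw [← this, hza]
  rfl

/-- monomials with nonzero coefficient determine the exponent -/
lemma exponent_eq_of_chart_eq [IsAffine V] (m₁ m₂ : M) (c₁ c₂ : Γ(V, ⊤)) (hc : c₁ ≠ 0)
    (h : chart M j (single m₁ c₁) = chart M j (single m₂ c₂)) : m₁ = m₂ ∧ c₁ = c₂ := by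
  classical
  have h' := (chart_bijective M j).1 h
  have h1 := congrArg (fun z => z.coeff m₁) h'
  simp only [coeff_single, Finsupp.single_eq_same] at h1
  have hm : m₂ = m₁ := by
    by_contra hne
    rw [Finsupp.single_eq_of_ne (Ne.symm hne)] at h1
    exact hc h1
  subst hm
  rw [Finsupp.single_eq_same] at h1
  exact ⟨rfl, h1⟩

end Groth.Agent.Lib.Helper11TorusUnits
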