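import Mathlib
import Groth.Agent.Lib.Helper11TorusUnitsC

/-!
Units on `X × 𝔾_m^n` for an integral scheme `X`.
-/

set_option autoImplicit false
universe u

namespace Groth.Agent.Lib.Helper11TorusUnits

open AddMonoidAlgebra CategoryTheory Limits AlgebraicGeometry

variable {X : Scheme.{u}} (M : Type) [AddCommGroup M] [TwoUniqueSums M]

omit [TwoUniqueSums M] in
/-- comparison of exponents in two charts -/
theorem exponent_eq_of_two_charts [IrreducibleSpace X] {V₁ V₂ : Scheme.{u}} (j₁ : V₁ ⟶ X)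
    (j₂ : V₂ ⟶ X) [IsOpenImmersion j₁] [IsOpenImmersion j₂] [Nonempty V₁] [Nonempty V₂]
    (w : Γ(PP X M, ⊤)) (m₁ m₂ : M) (a₁ : Γ(V₁, ⊤)) (a₂ : Γ(V₂, ⊤)) (ha₁ : IsUnit a₁)
    (h₁ : (aV M j₁).appTop.hom w = chart M j₁ (single m₁ a₁))
    (h₂ : (aV M j₂).appTop.hom w = chart M j₂ (single m₂ a₂)) : m₁ = m₂ := by
  have hne : Nonempty ↥(pullback j₁ j₂) := by
    have o1 : IsOpen (Set.range j₁) := j₁.isOpenEmbedding.isOpen_range
    have o2 : IsOpen (Set.range j₂) := j₂.isOpenEmbedding.isOpen_range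
    obtain ⟨x, ⟨y₁, hy₁⟩, ⟨y₂, hy₂⟩⟩ := nonempty_preirreducible_inter o1 o2
      (Set.range_nonempty _) (Set.range_nonempty _)
    obtain ⟨z, -, -⟩ := Scheme.Pullback.exists_preimage_pullback (f := j₁) (g := j₂) y₁ y₂
      (hy₁.trans hy₂.symm)
    exact ⟨z⟩
  obtain ⟨z⟩ := hne
  obtain ⟨W, k₀, hWaff, hWne⟩ : ∃ (W : Scheme.{u}) (_ : W ⟶ pullback j₁ j₂), IsAffine W ∧
      Nonempty W := by
    refine ⟨(pullback j₁ j₂).affineCover.X ((pullback j₁ j₂).affineCover.idx z),
      (pullback j₁ j₂).affineCover.f _, inferInstance, ?_⟩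
    obtain ⟨y, -⟩ := (pullback j₁ j₂).affineCover.covers z
    exact ⟨y⟩
  have e₁ := kappa_chart_single M j₁ (k₀ ≫ pullback.fst j₁ j₂) ((k₀ ≫ pullback.fst j₁ j₂) ≫ j₁)
    rfl m₁ a₁
  have hk₂ : (k₀ ≫ pullback.snd j₁ j₂) ≫ j₂ = (k₀ ≫ pullback.fst j₁ j₂) ≫ j₁ := by
    rw [Category.assoc, Category.assoc, pullback.condition]
  have e₂ := kappa_chart_single M j₂ (k₀ ≫ pullback.snd j₁ j₂) ((k₀ ≫ pullback.fst j₁ j₂) ≫ j₁)
    hk₂ m₂ a₂
  rw [← h₁, kappa_aV_apply] at e₁
  rw [← h₂, kappa_aV_apply] at e₂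
  have hWtop : Nonempty ↥(⊤ : W.Opens) := by
    obtain ⟨y⟩ := hWne
    exact ⟨⟨y, trivial⟩⟩
  have hnt : Nontrivial Γ(W, ⊤) := inferInstance
  have hc : (k₀ ≫ pullback.fst j₁ j₂).appTop.hom a₁ ≠ 0 :=
    (ha₁.map (k₀ ≫ pullback.fst j₁ j₂).appTop.hom).ne_zero
  exact (exponent_eq_of_chart_eq M _ _ _ _ _ hc (e₁.symm.trans e₂)).1

theorem main [IsIntegral X] (v : Γ(PP X M, ⊤)) (hv : IsUnit v) :
    ∃! p : (Γ(X, ⊤))ˣ × M,
      v = (prod.fst : PP X M ⟶ X).appTop.hom (p.1 : Γ(X, ⊤)) *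
        tauHom X M (Multiplicative.ofAdd p.2) := by
  -- a base chart
  obtain ⟨x₀⟩ : Nonempty X := inferInstance
  obtain ⟨V₀, j₀, hj₀, hV₀aff, hV₀ne⟩ : ∃ (V₀ : Scheme.{u}) (j₀ : V₀ ⟶ X), IsOpenImmersion j₀ ∧
      IsAffine V₀ ∧ Nonempty V₀ := by
    refine ⟨X.affineCover.X (X.affineCover.idx x₀), X.affineCover.f _, inferInstance,
      inferInstance, ?_⟩
    obtain ⟨y, -⟩ := X.affineCover.covers x₀
    exact ⟨y⟩
  have hV₀int : IsIntegral V₀ := isIntegral_of_isOpenImmersion j₀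
  obtain ⟨e, a₀, ha₀, hva₀⟩ := chart_unit M j₀ ((aV M j₀).appTop.hom v) (hv.map _)
  -- general facts
  have htau_mul : ∀ m m' : M, tauHom X M (Multiplicative.ofAdd m) *
      tauHom X M (Multiplicative.ofAdd m') = tauHom X M (Multiplicative.ofAdd (m + m')) := by
    intro m m'
    rw [← map_mul]
    rfl
  have htau_zero : tauHom X M (Multiplicative.ofAdd (0 : M)) = 1 := map_one _
  have hchart_tau : ∀ {V : Scheme.{u}} (j : V ⟶ X) (m : M),
      (aV M j).appTop.hom (tauHom X M (Multiplicative.ofAdd m)) = chart M j (single m 1) := by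
    intro V j m
    rw [chart_single, map_one, one_mul]
  have hchart_fst : ∀ {V : Scheme.{u}} (j : V ⟶ X) (y : Γ(X, ⊤)),
      (aV M j).appTop.hom ((prod.fst : PP X M ⟶ X).appTop.hom y) =
        chart M j (single 0 (j.appTop.hom y)) := by
    intro V j y
    rw [chart_single, htau_zero, map_one, mul_one]
    have h : (prod.fst : PP X M ⟶ X).appTop ≫ (aV M j).appTop = j.appTop ≫ (bV M j).appTop := by
      rw [← Scheme.Hom.comp_appTop, ← Scheme.Hom.comp_appTop, pullback.condition]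
    exact congr($(h).hom y)
  -- the normalized unit
  obtain ⟨v', hv'⟩ : ∃ v' : Γ(PP X M, ⊤), v' = v * tauHom X M (Multiplicative.ofAdd (-e)) :=
    ⟨_, rfl⟩
  have hvv' : v = v' * tauHom X M (Multiplicative.ofAdd e) := by
    rw [hv', mul_assoc, htau_mul, neg_add_cancel, htau_zero, mul_one]
  have hv'unit : IsUnit v' := by
    rw [hv']
    refine hv.mul ?_
    refine IsUnit.of_mul_eq_one (tauHom X M (Multiplicative.ofAdd e)) ?_
    rw [htau_mul, neg_add_cancel, htau_zero]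
  have hv'₀ : (aV M j₀).appTop.hom v' = chart M j₀ (single 0 a₀) := by
    rw [hv', map_mul, hva₀, hchart_tau, ← map_mul, single_mul_single, add_neg_cancel, mul_one]
  let u₀ : Γ(X, ⊤) := (sec X M).appTop.hom v'
  have hu₀ : IsUnit u₀ := hv'unit.map _
  -- v' is pulled back from X
  have key : v' = (prod.fst : PP X M ⟶ X).appTop.hom u₀ := by
    refine Scheme.OpenCover.ext_elem _ _ (X.affineCover.pullback₁ (prod.fst : PP X M ⟶ X))
      (fun i => ?_)
    change (aV M (X.affineCover.f i)).appTop.hom v' =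
      (aV M (X.affineCover.f i)).appTop.hom ((prod.fst : PP X M ⟶ X).appTop.hom u₀)
    rcases isEmpty_or_nonempty (X.affineCover.X i) with hemp | hne
    · have : IsEmpty ↥(PV M (X.affineCover.f i)) :=
        Function.isEmpty (bV M (X.affineCover.f i))
      exact Subsingleton.elim _ _
    · have hVint : IsIntegral (X.affineCover.X i) :=
        isIntegral_of_isOpenImmersion (X.affineCover.f i)
      obtain ⟨m, a, ha, hva⟩ := chart_unit M (X.affineCover.f i)
        ((aV M (X.affineCover.f i)).appTop.hom v') (hv'unit.map _)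
      have hm : m = 0 := exponent_eq_of_two_charts M (X.affineCover.f i) j₀ v' m 0 a a₀ ha
        hva hv'₀
      subst hm
      have hau : a = (X.affineCover.f i).appTop.hom u₀ := by
        have h1 := secV_chart_single M (X.affineCover.f i) 0 a
        rw [← hva] at h1
        have h2 : (aV M (X.affineCover.f i)).appTop ≫ (secV M (X.affineCover.f i)).appTop =
            (sec X M).appTop ≫ (X.affineCover.f i).appTop := by
          rw [← Scheme.Hom.comp_appTop, secV_aV, Scheme.Hom.comp_appTop]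
        rw [← h1]
        exact congr($(h2).hom v')
      rw [hva, hchart_fst, hau]
  -- existence and uniqueness
  refine ⟨(hu₀.unit, e), ?_, ?_⟩
  · change v = (prod.fst : PP X M ⟶ X).appTop.hom u₀ * tauHom X M (Multiplicative.ofAdd e)
    rw [← key]
    exact hvv'
  · rintro ⟨u', e'⟩ h
    change v = (prod.fst : PP X M ⟶ X).appTop.hom (u' : Γ(X, ⊤)) *
      tauHom X M (Multiplicative.ofAdd e') at h
    have h1 : (aV M j₀).appTop.hom v = chart M j₀ (single e' (j₀.appTop.hom (u' : Γ(X, ⊤)))) := by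
      rw [h, map_mul, hchart_fst, hchart_tau, ← map_mul, single_mul_single, zero_add, mul_one]
    have hee : e = e' := (exponent_eq_of_chart_eq M j₀ _ _ _ _ ha₀.ne_zero
      (hva₀.symm.trans h1)).1
    subst hee
    have hu' : (u' : Γ(X, ⊤)) = u₀ := by
      change (u' : Γ(X, ⊤)) = (sec X M).appTop.hom v'
      rw [hv', h, mul_assoc, htau_mul, add_neg_cancel, htau_zero, mul_one, sec_appTop_fst]
    refine Prod.ext (Units.ext ?_) rfl
    exact hu'

end Groth.Agent.Lib.Helper11TorusUnits
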