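import Mathlib
set_option autoImplicit false

namespace Groth.Agent.Verl


open Complex

/-- `ez N a = exp(2πi a / N)` -/
noncomputable def ez (N : ℕ) (a : ℤ) : ℂ := Complex.exp (2 * Real.pi * Complex.I * (a : ℂ) / (N : ℂ))

lemma ez_add (N : ℕ) (a b : ℤ) : ez N (a + b) = ez N a * ez N b := by
  unfold ez
  rw [← Complex.exp_add]
  congr 1
  push_cast
  ring

lemma ez_zero (N : ℕ) : ez N 0 = 1 := by
  unfold ez
  simp

lemma ez_neg (N : ℕ) (a : ℤ) : ez N (-a) = (ez N a)⁻¹ := by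
  unfold ez
  rw [← Complex.exp_neg]
  congr 1
  push_cast
  ring

lemma ez_ne_zero (N : ℕ) (a : ℤ) : ez N a ≠ 0 := Complex.exp_ne_zero _

lemma ez_sum {ι : Type*} (N : ℕ) (s : Finset ι) (c : ι → ℤ) :
    ez N (∑ j ∈ s, c j) = ∏ j ∈ s, ez N (c j) := by
  classical
  induction s using Finset.induction_on with
  | empty => simp [ez_zero]
  | insert a s ha ih => rw [Finset.sum_insert ha, Finset.prod_insert ha, ez_add, ih]

lemma ez_pow (N : ℕ) (a : ℤ) (m : ℕ) : (ez N a) ^ m = ez N (a * m) := by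
  unfold ez
  rw [← Complex.exp_nat_mul]
  congr 1
  push_cast
  ring

lemma ez_conj (N : ℕ) (a : ℤ) : (starRingEnd ℂ) (ez N a) = ez N (-a) := by
  unfold ez
  rw [← Complex.exp_conj]
  congr 1
  simp only [map_div₀, map_mul, map_ofNat, Complex.conj_ofReal, Complex.conj_I, map_intCast,
    map_natCast]
  push_cast
  ring

lemma ez_eq_one_iff (N : ℕ) (hN : N ≠ 0) (a : ℤ) : ez N a = 1 ↔ (N : ℤ) ∣ a := by
  unfold ez
  rw [Complex.exp_eq_one_iff]
  have hN' : (N : ℂ) ≠ 0 := Nat.cast_ne_zero.mpr hN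
  constructor
  · rintro ⟨m, hm⟩
    refine ⟨m, ?_⟩
    have h2 : (2 * Real.pi * Complex.I : ℂ) ≠ 0 := by
      simp [Real.pi_ne_zero, Complex.I_ne_zero]
    have : (a : ℂ) = (N : ℂ) * (m : ℂ) := by
      field_simp at hm
      exact hm
    exact_mod_cast this
  · rintro ⟨m, rfl⟩
    refine ⟨m, ?_⟩
    push_cast
    field_simp

lemma ez_mul_self (N : ℕ) (hN : N ≠ 0) (a : ℤ) : ez N ((N : ℤ) * a) = 1 :=
  (ez_eq_one_iff N hN _).mpr (dvd_mul_right _ _)

lemma ez_add_mul (N : ℕ) (hN : N ≠ 0) (a b : ℤ) : ez N (a + (N : ℤ) * b) = ez N a := by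
  rw [ez_add, ez_mul_self N hN, mul_one]

/-- character orthogonality on `Fin N` -/
lemma sum_ez (N : ℕ) (hN : N ≠ 0) (c : ℤ) :
    ∑ v : Fin N, ez N (c * (v : ℕ)) = if (N : ℤ) ∣ c then (N : ℂ) else 0 := by
  split_ifs with h
  · have : ∀ v : Fin N, ez N (c * (v : ℕ)) = 1 := by
      intro v
      rw [ez_eq_one_iff N hN]
      exact Dvd.dvd.mul_right h _
    rw [Finset.sum_congr rfl (fun v _ => this v)]
    simp
  · have h1 : ez N c ≠ 1 := fun e => h ((ez_eq_one_iff N hN c).mp e)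
    have h2 : ∀ v : Fin N, ez N (c * (v : ℕ)) = (ez N c) ^ (v : ℕ) := by
      intro v
      rw [ez_pow]
    rw [Finset.sum_congr rfl (fun v _ => h2 v), Fin.sum_univ_eq_sum_range (fun i => (ez N c) ^ i) N,
      geom_sum_eq h1, ez_pow]
    have : ez N (c * (N : ℕ)) = 1 := by
      rw [ez_eq_one_iff N hN]
      exact Dvd.intro_left _ rfl
    rw [this, sub_self, zero_div]


section dets

variable {r : ℕ}

/-- the alternant `det (ζ^{n_i x_j})` -/
noncomputable def Adet (N : ℕ) (n x : Fin r → ℤ) : ℂ :=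
  Matrix.det (Matrix.of fun i j : Fin r => ez N (n i * x j))

lemma Adet_eq_sum (N : ℕ) (n x : Fin r → ℤ) :
    Adet N n x = ∑ σ : Equiv.Perm (Fin r), ((Equiv.Perm.sign σ : ℤ) : ℂ) *
      ez N (∑ j, n (σ j) * x j) := by
  unfold Adet
  rw [Matrix.det_apply']
  apply Finset.sum_congr rfl
  intro σ _
  rw [ez_sum]
  rfl

lemma Adet_symm (N : ℕ) (n x : Fin r → ℤ) : Adet N n x = Adet N x n := by
  unfold Adet
  rw [← Matrix.det_transpose]
  congr 1
  ext i j
  simp [Matrix.transpose_apply, mul_comm]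

lemma Adet_conj (N : ℕ) (n x : Fin r → ℤ) :
    (starRingEnd ℂ) (Adet N n x) = Adet N (fun i => -n i) x := by
  unfold Adet
  rw [RingHom.map_det]
  congr 1
  ext i j
  simp [ez_conj]

lemma Adet_perm_right (N : ℕ) (n x : Fin r → ℤ) (σ : Equiv.Perm (Fin r)) :
    Adet N n (x ∘ σ) = ((Equiv.Perm.sign σ : ℤ) : ℂ) * Adet N n x := by
  unfold Adet
  rw [← Matrix.det_permute' σ]
  rfl

lemma Adet_perm_left (N : ℕ) (n x : Fin r → ℤ) (σ : Equiv.Perm (Fin r)) :
    Adet N (n ∘ σ) x = ((Equiv.Perm.sign σ : ℤ) : ℂ) * Adet N n x := by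
  rw [Adet_symm, Adet_perm_right, Adet_symm]

lemma Adet_shift (N : ℕ) (n x : Fin r → ℤ) (c : ℤ) :
    Adet N n (fun j => x j + c) = ez N (c * ∑ i, n i) * Adet N n x := by
  unfold Adet
  rw [Finset.mul_sum, ez_sum, ← Matrix.det_mul_column]
  congr 1
  ext i j
  simp only [Matrix.of_apply]
  rw [← ez_add]
  congr 1
  ring

lemma Adet_congr_mod (N : ℕ) (hN : N ≠ 0) (n x x' : Fin r → ℤ)
    (h : ∀ j, (N : ℤ) ∣ x' j - x j) : Adet N n x' = Adet N n x := by
  unfold Adet
  congr 1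
  ext i j
  simp only [Matrix.of_apply]
  obtain ⟨q, hq⟩ := h j
  have : n i * x' j = n i * x j + (N : ℤ) * (n i * q) := by
    have : x' j = x j + N * q := by linarith
    rw [this]; ring
  rw [this, ez_add_mul N hN]

lemma Adet_eq_zero (N : ℕ) (hN : N ≠ 0) (n x : Fin r → ℤ) (i j : Fin r) (hij : i ≠ j)
    (h : (N : ℤ) ∣ x i - x j) : Adet N n x = 0 := by
  unfold Adet
  apply Matrix.det_zero_of_column_eq hij
  intro k
  simp only [Matrix.of_apply]
  obtain ⟨q, hq⟩ := h
  have : n k * x i = n k * x j + (N : ℤ) * (n k * q) := by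
    have : x i = x j + N * q := by linarith
    rw [this]; ring
  rw [this, ez_add_mul N hN]

/-- product of an alternant with a conjugate alternant -/
lemma Adet_mul_conj (N : ℕ) (n n' x : Fin r → ℤ) :
    Adet N n x * (starRingEnd ℂ) (Adet N n' x) =
      ∑ σ : Equiv.Perm (Fin r), ∑ τ : Equiv.Perm (Fin r),
        ((Equiv.Perm.sign σ : ℤ) : ℂ) * ((Equiv.Perm.sign τ : ℤ) : ℂ) *
          ez N (∑ j, (n (σ j) - n' (τ j)) * x j) := by
  rw [Adet_conj, Adet_eq_sum, Adet_eq_sum, Finset.sum_mul_sum]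
  apply Finset.sum_congr rfl
  intro σ _
  apply Finset.sum_congr rfl
  intro τ _
  have : ∑ j, (n (σ j) - n' (τ j)) * x j = ∑ j, n (σ j) * x j + ∑ j, -n' (τ j) * x j := by
    rw [← Finset.sum_add_distrib]
    apply Finset.sum_congr rfl
    intro j _
    ring
  rw [this, ez_add]
  ring

/-- box sums of characters with prescribed ranges -/
lemma sum_piFinset_ez (N : ℕ) (c : Fin r → ℤ) (t : Fin r → Finset (Fin N)) :
    ∑ x ∈ Fintype.piFinset t, ez N (∑ j, c j * ((x j : ℕ) : ℤ)) =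
      ∏ j, ∑ v ∈ t j, ez N (c j * ((v : ℕ) : ℤ)) := by
  rw [Finset.prod_univ_sum]
  apply Finset.sum_congr rfl
  intro x _
  rw [ez_sum]

lemma sum_univ_ez (N : ℕ) (hN : N ≠ 0) (c : Fin r → ℤ) :
    ∑ x : Fin r → Fin N, ez N (∑ j, c j * ((x j : ℕ) : ℤ)) =
      if ∀ j, (N : ℤ) ∣ c j then (N : ℂ) ^ r else 0 := by
  have h := sum_piFinset_ez N c (fun _ => Finset.univ)
  rw [Fintype.piFinset_univ] at h
  rw [h]
  have h2 : ∀ j, ∑ v : Fin N, ez N (c j * ((v : ℕ) : ℤ)) = if (N : ℤ) ∣ c j then (N : ℂ) else 0 :=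
    fun j => sum_ez N hN (c j)
  rw [Finset.prod_congr rfl (fun j _ => h2 j)]
  split_ifs with hall
  · rw [Finset.prod_congr rfl (fun j _ => if_pos (hall j))]
    simp
  · push Not at hall
    obtain ⟨j, hj⟩ := hall
    apply Finset.prod_eq_zero (Finset.mem_univ j)
    rw [if_neg hj]

/-- box sum with the coordinate `j₀` pinned at `0` -/
lemma sum_pinned_ez (N : ℕ) (hN : N ≠ 0) (c : Fin r → ℤ) (j₀ : Fin r) :
    ∑ x ∈ (Finset.univ : Finset (Fin r → Fin N)).filter (fun x => (x j₀ : ℕ) = 0),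
        ez N (∑ j, c j * ((x j : ℕ) : ℤ)) =
      if ∀ j, j ≠ j₀ → (N : ℤ) ∣ c j then (N : ℂ) ^ (r - 1) else 0 := by
  classical
  have : NeZero N := ⟨hN⟩
  have h := sum_piFinset_ez N c (fun j => if j = j₀ then {(0 : Fin N)} else Finset.univ)
  have hset : Fintype.piFinset (fun j => if j = j₀ then {(0 : Fin N)} else Finset.univ)
      = (Finset.univ : Finset (Fin r → Fin N)).filter (fun x => (x j₀ : ℕ) = 0) := by
    ext x
    simp only [Fintype.mem_piFinset, Finset.mem_filter, Finset.mem_univ, true_and]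
    constructor
    · intro hx
      have := hx j₀
      rw [if_pos rfl, Finset.mem_singleton] at this
      rw [this]; rfl
    · intro hx j
      by_cases hj : j = j₀
      · rw [if_pos hj, Finset.mem_singleton, hj]
        exact Fin.ext hx
      · rw [if_neg hj]; exact Finset.mem_univ _
  rw [hset] at h
  rw [h]
  have h2 : ∀ j, ∑ v ∈ (if j = j₀ then {(0 : Fin N)} else Finset.univ), ez N (c j * ((v : ℕ) : ℤ))
      = if j = j₀ then 1 else (if (N : ℤ) ∣ c j then (N : ℂ) else 0) := by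
    intro j
    by_cases hj : j = j₀
    · rw [if_pos hj, if_pos hj, Finset.sum_singleton]
      simp [ez_zero]
    · rw [if_neg hj, if_neg hj]
      exact sum_ez N hN (c j)
  rw [Finset.prod_congr rfl (fun j _ => h2 j)]
  split_ifs with hall
  · have h3 : ∀ j ∈ Finset.univ, (if j = j₀ then (1 : ℂ) else (if (N : ℤ) ∣ c j then (N : ℂ) else 0))
        = if j = j₀ then 1 else (N : ℂ) := by
      intro j _
      by_cases hj : j = j₀
      · rw [if_pos hj, if_pos hj]
      · rw [if_neg hj, if_neg hj, if_pos (hall j hj)]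
    rw [Finset.prod_congr rfl h3, Finset.prod_ite, Finset.prod_const_one, one_mul, Finset.prod_const]
    congr 1
    rw [Finset.filter_not, Finset.card_sdiff_of_subset (Finset.subset_univ _)]
    simp [Finset.filter_eq']
  · push Not at hall
    obtain ⟨j, hj, hdvd⟩ := hall
    apply Finset.prod_eq_zero (Finset.mem_univ j)
    rw [if_neg hj, if_neg hdvd]


end dets


section sorting
variable {r N : ℕ}

/-- the sorting permutation (decreasing order) -/
def sortRev (y : Fin r → Fin N) : Equiv.Perm (Fin r) :=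
  Tuple.sort y * (Fin.revPerm : Equiv.Perm (Fin r))

lemma strictAnti_sort_rev (y : Fin r → Fin N) (hy : Function.Injective y) :
    StrictAnti (y ∘ sortRev y) := by
  unfold sortRev
  have hm : Monotone (y ∘ Tuple.sort y) := Tuple.monotone_sort y
  have hinj : Function.Injective (y ∘ Tuple.sort y) := hy.comp (Tuple.sort y).injective
  have hsm : StrictMono (y ∘ Tuple.sort y) := hm.strictMono_of_injective hinj
  intro a b hab
  simp only [Function.comp_apply, Equiv.Perm.coe_mul, Fin.revPerm_apply]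
  apply hsm
  exact Fin.rev_lt_rev.mpr hab

/-- sorting lemma: a symmetric function vanishing off injective tuples -/
lemma sum_strictAnti (f : (Fin r → Fin N) → ℂ)
    (hsym : ∀ (x : Fin r → Fin N) (σ : Equiv.Perm (Fin r)), f (x ∘ σ) = f x)
    (hvan : ∀ x : Fin r → Fin N, ¬ Function.Injective x → f x = 0) :
    (r.factorial : ℂ) * ∑ x ∈ (Finset.univ : Finset (Fin r → Fin N)).filter (fun x : Fin r → Fin N => StrictAnti x), f x
      = ∑ x : Fin r → Fin N, f x := by
  classical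
  have h1 : ∑ x : Fin r → Fin N, f x
      = ∑ x ∈ (Finset.univ : Finset (Fin r → Fin N)).filter (fun x : Fin r → Fin N => Function.Injective x), f x := by
    symm
    apply Finset.sum_subset (Finset.filter_subset _ _)
    intro x _ hx
    apply hvan
    intro hinj
    exact hx (Finset.mem_filter.mpr ⟨Finset.mem_univ _, hinj⟩)
  have h2 : ∑ p ∈ (Finset.univ : Finset (Equiv.Perm (Fin r))) ×ˢ
        ((Finset.univ : Finset (Fin r → Fin N)).filter (fun x : Fin r → Fin N => StrictAnti x)), f (p.2 ∘ p.1)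
      = ∑ x ∈ (Finset.univ : Finset (Fin r → Fin N)).filter (fun x : Fin r → Fin N => Function.Injective x), f x := by
    apply Finset.sum_bij (fun p _ => p.2 ∘ p.1)
    · intro p hp
      rw [Finset.mem_product, Finset.mem_filter] at hp
      rw [Finset.mem_filter]
      exact ⟨Finset.mem_univ _, hp.2.2.injective.comp p.1.injective⟩
    · intro p hp q hq hpq
      rw [Finset.mem_product, Finset.mem_filter] at hp hq
      have hp2 : p.2 = (p.2 ∘ p.1) ∘ (p.1⁻¹ : Equiv.Perm (Fin r)) := by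
        ext i; simp
      have hq2 : q.2 = (p.2 ∘ p.1) ∘ (q.1⁻¹ : Equiv.Perm (Fin r)) := by
        rw [hpq]; ext i; simp
      have h3 : p.2 = q.2 := by
        rw [hp2, hq2]
        apply Tuple.unique_antitone
        · rw [← hp2]; exact hp.2.2.antitone
        · rw [← hq2]; exact hq.2.2.antitone
      have h4 : p.1 = q.1 := by
        ext i
        have := congrFun hpq i
        simp only [Function.comp_apply] at this
        rw [← h3] at this
        exact congrArg Fin.val (hp.2.2.injective this)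
      exact Prod.ext h4 h3
    · intro y hy
      rw [Finset.mem_filter] at hy
      refine ⟨((sortRev y)⁻¹, y ∘ sortRev y), ?_, ?_⟩
      · rw [Finset.mem_product, Finset.mem_filter]
        exact ⟨Finset.mem_univ _, Finset.mem_univ _, strictAnti_sort_rev y hy.2⟩
      · ext i; simp
    · intro p _; rfl
  rw [h1, ← h2, Finset.sum_product]
  have h5 : ∀ σ ∈ (Finset.univ : Finset (Equiv.Perm (Fin r))),
      ∑ x ∈ (Finset.univ : Finset (Fin r → Fin N)).filter (fun x : Fin r → Fin N => StrictAnti x), f (x ∘ σ)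
        = ∑ x ∈ (Finset.univ : Finset (Fin r → Fin N)).filter (fun x : Fin r → Fin N => StrictAnti x), f x := by
    intro σ _
    apply Finset.sum_congr rfl
    intro x _
    exact hsym x σ
  rw [Finset.sum_congr rfl h5, Finset.sum_const, Finset.card_univ, Fintype.card_perm,
    Fintype.card_fin, nsmul_eq_mul]

/-- pinned sorting lemma -/
lemma sum_strictAnti_pinned (hr : 0 < r) (f : (Fin r → Fin N) → ℂ)
    (hsym : ∀ (x : Fin r → Fin N) (σ : Equiv.Perm (Fin r)), f (x ∘ σ) = f x)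
    (hvan : ∀ x : Fin r → Fin N, ¬ Function.Injective x → f x = 0) :
    (r.factorial : ℂ) * ∑ x ∈ (Finset.univ : Finset (Fin r → Fin N)).filter
        (fun x : Fin r → Fin N => StrictAnti x ∧ ∀ i : Fin r, (i : ℕ) = r - 1 → (x i : ℕ) = 0), f x
      = ∑ j₀ : Fin r, ∑ x ∈ (Finset.univ : Finset (Fin r → Fin N)).filter
          (fun x : Fin r → Fin N => (x j₀ : ℕ) = 0), f x := by
  classical
  set g : (Fin r → Fin N) → ℂ := fun x => if ∃ j, (x j : ℕ) = 0 then f x else 0 with hg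
  have hgsym : ∀ (x : Fin r → Fin N) (σ : Equiv.Perm (Fin r)), g (x ∘ σ) = g x := by
    intro x σ
    simp only [hg]
    have : (∃ j, ((x ∘ σ) j : ℕ) = 0) ↔ ∃ j, (x j : ℕ) = 0 := by
      constructor
      · rintro ⟨j, hj⟩; exact ⟨σ j, hj⟩
      · rintro ⟨j, hj⟩; exact ⟨σ.symm j, by simpa using hj⟩
    by_cases h : ∃ j, (x j : ℕ) = 0
    · rw [if_pos h, if_pos (this.mpr h), hsym]
    · rw [if_neg h, if_neg (fun h' => h (this.mp h'))]
  have hgvan : ∀ x : Fin r → Fin N, ¬ Function.Injective x → g x = 0 := by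
    intro x hx
    simp only [hg]
    rw [hvan x hx]; simp
  have key := sum_strictAnti g hgsym hgvan
  have hL : ∑ x ∈ (Finset.univ : Finset (Fin r → Fin N)).filter (fun x : Fin r → Fin N => StrictAnti x), g x
      = ∑ x ∈ (Finset.univ : Finset (Fin r → Fin N)).filter
        (fun x : Fin r → Fin N => StrictAnti x ∧ ∀ i : Fin r, (i : ℕ) = r - 1 → (x i : ℕ) = 0), f x := by
    have hff : (Finset.univ : Finset (Fin r → Fin N)).filter
        (fun x : Fin r → Fin N => StrictAnti x ∧ ∀ i : Fin r, (i : ℕ) = r - 1 → (x i : ℕ) = 0)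
        = ((Finset.univ : Finset (Fin r → Fin N)).filter (fun x : Fin r → Fin N => StrictAnti x)).filter
          (fun x : Fin r → Fin N => ∀ i : Fin r, (i : ℕ) = r - 1 → (x i : ℕ) = 0) :=
      (Finset.filter_filter _ _ _).symm
    rw [hff]
    conv_rhs => rw [Finset.sum_filter]
    apply Finset.sum_congr rfl
    intro x hx
    have hxa : StrictAnti x := (Finset.mem_filter.mp hx).2
    simp only [hg]
    have : (∃ j, (x j : ℕ) = 0) ↔ ∀ i : Fin r, (i : ℕ) = r - 1 → (x i : ℕ) = 0 := by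
      constructor
      · rintro ⟨j, hj⟩ i hi
        have hji : j ≤ i := by
          rw [Fin.le_def, hi]
          have := j.2
          omega
        have := hxa.antitone hji
        rw [Fin.le_def, hj] at this
        omega
      · intro h
        exact ⟨⟨r - 1, by omega⟩, h ⟨r - 1, by omega⟩ rfl⟩
    by_cases h : ∃ j, (x j : ℕ) = 0
    · rw [if_pos h, if_pos (this.mp h)]
    · rw [if_neg h, if_neg (fun h' => h (this.mpr h'))]
  have hR : ∑ x : Fin r → Fin N, g x = ∑ j₀ : Fin r, ∑ x ∈ (Finset.univ : Finset (Fin r → Fin N)).filter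
          (fun x : Fin r → Fin N => (x j₀ : ℕ) = 0), f x := by
    have h1 : ∀ j₀ : Fin r, ∑ x ∈ (Finset.univ : Finset (Fin r → Fin N)).filter
          (fun x : Fin r → Fin N => (x j₀ : ℕ) = 0), f x
        = ∑ x : Fin r → Fin N, if (x j₀ : ℕ) = 0 then f x else 0 := fun j₀ => Finset.sum_filter _ _
    rw [Finset.sum_congr rfl (fun j₀ _ => h1 j₀), Finset.sum_comm]
    apply Finset.sum_congr rfl
    intro x _
    simp only [hg]
    by_cases hinj : Function.Injective x
    · by_cases h : ∃ j, (x j : ℕ) = 0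
      · obtain ⟨j, hj⟩ := h
        rw [if_pos ⟨j, hj⟩, Finset.sum_eq_single j]
        · rw [if_pos hj]
        · intro j' _ hj'
          rw [if_neg]
          intro h0
          apply hj'
          apply hinj
          exact Fin.ext (h0.trans hj.symm)
        · intro h; exact absurd (Finset.mem_univ _) h
      · rw [if_neg h]
        symm
        apply Finset.sum_eq_zero
        intro j _
        rw [if_neg]
        intro hj
        exact h ⟨j, hj⟩
    · rw [hvan x hinj]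
      simp
  rw [← hL, key, hR]


end sorting

section more
variable {r : ℕ}

lemma normSq_ez (N : ℕ) (a : ℤ) : Complex.normSq (ez N a) = 1 := by
  have h : (starRingEnd ℂ) (ez N a) * ez N a = 1 := by
    rw [ez_conj, ← ez_add, neg_add_cancel, ez_zero]
  have h2 := Complex.normSq_eq_conj_mul_self (z := ez N a)
  rw [h] at h2
  exact_mod_cast h2

lemma normSq_ez_sub (N : ℕ) (a b : ℤ) :
    Complex.normSq (ez N a - ez N b) =
      ((2 : ℝ) * Real.sin (Real.pi * ((a : ℝ) - (b : ℝ)) / (N : ℝ))) ^ 2 := by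
  have h1 : ez N a - ez N b = ez N b * (ez N (a - b) - 1) := by
    rw [mul_sub, ← ez_add, mul_one]
    congr 2
    ring
  rw [h1, Complex.normSq_mul, normSq_ez, one_mul, Complex.normSq_eq_norm_sq]
  have h2 : ez N (a - b) = Complex.exp (Complex.I * ((2 * Real.pi * ((a : ℝ) - (b : ℝ)) / (N : ℝ) : ℝ) : ℂ)) := by
    unfold ez
    congr 1
    push_cast
    ring
  rw [h2, Complex.norm_exp_I_mul_ofReal_sub_one, Real.norm_eq_abs, sq_abs]
  congr 3
  ring

/-- the staircase exponents `δ_i = r - 1 - i` -/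
def delta (r : ℕ) (i : Fin r) : ℤ := ((r - 1 - (i : ℕ) : ℕ) : ℤ)

lemma Adet_delta_eq (N : ℕ) (x : Fin r → ℤ) :
    Adet N (delta r) x = ((Equiv.Perm.sign (Fin.revPerm : Equiv.Perm (Fin r)) : ℤ) : ℂ) *
      ∏ i : Fin r, ∏ j ∈ Finset.Ioi i, (ez N (x j) - ez N (x i)) := by
  rw [← Matrix.det_vandermonde, ← Matrix.det_transpose, ← Matrix.det_permute]
  unfold Adet
  congr 1
  ext i j
  simp only [Matrix.of_apply, Matrix.submatrix_apply, Matrix.transpose_apply,
    Matrix.vandermonde_apply, Fin.revPerm_apply, id_eq, Fin.val_rev, ez_pow, delta]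
  congr 1
  have : r - ((i : ℕ) + 1) = r - 1 - (i : ℕ) := by omega
  rw [this, mul_comm]

/-- the squared Vandermonde as a product of sines -/
noncomputable def Psin (N : ℕ) (x : Fin r → ℤ) : ℝ :=
  ∏ p ∈ (Finset.univ : Finset (Fin r × Fin r)).filter (fun p => p.1 < p.2),
    ((2 : ℝ) * Real.sin (Real.pi * ((x p.1 : ℝ) - (x p.2 : ℝ)) / (N : ℝ))) ^ 2

lemma prod_pairs_eq {M : Type*} [CommMonoid M] (F : Fin r → Fin r → M) :
    ∏ p ∈ (Finset.univ : Finset (Fin r × Fin r)).filter (fun p => p.1 < p.2), F p.1 p.2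
      = ∏ i : Fin r, ∏ j ∈ Finset.Ioi i, F i j := by
  rw [Finset.prod_filter, ← Finset.univ_product_univ, Finset.prod_product]
  apply Finset.prod_congr rfl
  intro i _
  rw [← Finset.prod_filter, Finset.filter_lt_eq_Ioi]

lemma Adet_delta_normSq (N : ℕ) (x : Fin r → ℤ) :
    Adet N (delta r) x * (starRingEnd ℂ) (Adet N (delta r) x) = ((Psin N x : ℝ) : ℂ) := by
  rw [Complex.mul_conj, Adet_delta_eq, Complex.normSq_mul]
  have hs : Complex.normSq ((Equiv.Perm.sign (Fin.revPerm : Equiv.Perm (Fin r)) : ℤ) : ℂ) = 1 := by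
    rcases Int.units_eq_one_or (Equiv.Perm.sign (Fin.revPerm : Equiv.Perm (Fin r))) with h | h
    · rw [h]; simp
    · rw [h]; simp
  rw [hs, one_mul]
  congr 1
  unfold Psin
  rw [prod_pairs_eq (fun i j => ((2 : ℝ) * Real.sin (Real.pi * ((x i : ℝ) - (x j : ℝ)) / (N : ℝ))) ^ 2)]
  rw [map_prod]
  apply Finset.prod_congr rfl
  intro i _
  rw [map_prod]
  apply Finset.prod_congr rfl
  intro j _
  rw [normSq_ez_sub]
  have : Real.pi * ((x j : ℝ) - (x i : ℝ)) / (N : ℝ) = -(Real.pi * ((x i : ℝ) - (x j : ℝ)) / (N : ℝ)) := by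
    ring
  rw [this, Real.sin_neg]
  ring


/-- integer coordinates of a tuple in `Fin N` -/
def tupZ {N : ℕ} (x : Fin r → Fin N) : Fin r → ℤ := fun j => ((x j : ℕ) : ℤ)

/-- the basic twisted summand -/
noncomputable def Fsum (N : ℕ) (n n' : Fin r → ℤ) (e : ℤ) (x : Fin r → Fin N) : ℂ :=
  ez N (-e * ∑ j, tupZ x j) * (Adet N n (tupZ x) * (starRingEnd ℂ) (Adet N n' (tupZ x)))

lemma Fsum_expand (N : ℕ) (n n' : Fin r → ℤ) (e : ℤ) (x : Fin r → Fin N) :
    Fsum N n n' e x = ∑ σ : Equiv.Perm (Fin r), ∑ τ : Equiv.Perm (Fin r),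
        ((Equiv.Perm.sign σ : ℤ) : ℂ) * ((Equiv.Perm.sign τ : ℤ) : ℂ) *
          ez N (∑ j, (n (σ j) - n' (τ j) - e) * ((x j : ℕ) : ℤ)) := by
  unfold Fsum
  rw [Adet_mul_conj, Finset.mul_sum]
  apply Finset.sum_congr rfl
  intro σ _
  rw [Finset.mul_sum]
  apply Finset.sum_congr rfl
  intro τ _
  have : ∑ j, (n (σ j) - n' (τ j) - e) * ((x j : ℕ) : ℤ)
      = -e * ∑ j, tupZ x j + ∑ j, (n (σ j) - n' (τ j)) * tupZ x j := by
    rw [Finset.mul_sum, ← Finset.sum_add_distrib]
    apply Finset.sum_congr rfl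
    intro j _
    unfold tupZ
    ring
  rw [this, ez_add]
  ring

lemma sum_pinned_Fsum (N : ℕ) (hN : N ≠ 0) (n n' : Fin r → ℤ) (e : ℤ) (j₀ : Fin r) :
    ∑ x ∈ (Finset.univ : Finset (Fin r → Fin N)).filter (fun x : Fin r → Fin N => (x j₀ : ℕ) = 0),
        Fsum N n n' e x =
      ∑ σ : Equiv.Perm (Fin r), ∑ τ : Equiv.Perm (Fin r),
        ((Equiv.Perm.sign σ : ℤ) : ℂ) * ((Equiv.Perm.sign τ : ℤ) : ℂ) *
          (if ∀ j, j ≠ j₀ → (N : ℤ) ∣ n (σ j) - n' (τ j) - e then (N : ℂ) ^ (r - 1) else 0) := by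
  rw [Finset.sum_congr rfl (fun x _ => Fsum_expand N n n' e x), Finset.sum_comm]
  apply Finset.sum_congr rfl
  intro σ _
  rw [Finset.sum_comm]
  apply Finset.sum_congr rfl
  intro τ _
  rw [← Finset.mul_sum, sum_pinned_ez N hN]

lemma sum_univ_Fsum (N : ℕ) (hN : N ≠ 0) (n n' : Fin r → ℤ) (e : ℤ) :
    ∑ x : Fin r → Fin N, Fsum N n n' e x =
      ∑ σ : Equiv.Perm (Fin r), ∑ τ : Equiv.Perm (Fin r),
        ((Equiv.Perm.sign σ : ℤ) : ℂ) * ((Equiv.Perm.sign τ : ℤ) : ℂ) *
          (if ∀ j, (N : ℤ) ∣ n (σ j) - n' (τ j) - e then (N : ℂ) ^ r else 0) := by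
  rw [Finset.sum_congr rfl (fun x _ => Fsum_expand N n n' e x), Finset.sum_comm]
  apply Finset.sum_congr rfl
  intro σ _
  rw [Finset.sum_comm]
  apply Finset.sum_congr rfl
  intro τ _
  rw [← Finset.mul_sum, sum_univ_ez N hN]

lemma permSign_mul_self (σ : Equiv.Perm (Fin r)) :
    ((Equiv.Perm.sign σ : ℤ) : ℂ) * ((Equiv.Perm.sign σ : ℤ) : ℂ) = 1 := by
  rcases Int.units_eq_one_or (Equiv.Perm.sign σ) with h | h
  · rw [h]; simp
  · rw [h]; simp

lemma permSign_conj (σ : Equiv.Perm (Fin r)) :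
    (starRingEnd ℂ) ((Equiv.Perm.sign σ : ℤ) : ℂ) = ((Equiv.Perm.sign σ : ℤ) : ℂ) := by
  simp

lemma tupZ_comp {N : ℕ} (x : Fin r → Fin N) (σ : Equiv.Perm (Fin r)) :
    tupZ (x ∘ σ) = tupZ x ∘ σ := rfl

lemma Fsum_symm (N : ℕ) (n n' : Fin r → ℤ) (e : ℤ) (x : Fin r → Fin N)
    (σ : Equiv.Perm (Fin r)) : Fsum N n n' e (x ∘ σ) = Fsum N n n' e x := by
  unfold Fsum
  rw [tupZ_comp, Adet_perm_right, Adet_perm_right, map_mul, permSign_conj]
  have h1 : ∑ j, (tupZ x ∘ σ) j = ∑ j, tupZ x j := Equiv.sum_comp σ (tupZ x)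
  rw [h1]
  have := permSign_mul_self σ
  linear_combination (ez N (-e * ∑ j, tupZ x j) * Adet N n (tupZ x) *
    (starRingEnd ℂ) (Adet N n' (tupZ x))) * this

lemma Fsum_vanish (N : ℕ) (hN : N ≠ 0) (n n' : Fin r → ℤ) (e : ℤ) (x : Fin r → Fin N)
    (hx : ¬ Function.Injective x) : Fsum N n n' e x = 0 := by
  unfold Fsum
  rw [Function.Injective] at hx
  push Not at hx
  obtain ⟨i, j, hij, hne⟩ := hx
  rw [Adet_eq_zero N hN n (tupZ x) i j hne (by unfold tupZ; rw [hij]; simp)]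
  simp

lemma perm_eq_of_agree (σ τ : Equiv.Perm (Fin r)) (j₀ : Fin r)
    (h : ∀ j, j ≠ j₀ → σ j = τ j) : σ = τ := by
  ext j
  by_cases hj : j = j₀
  · subst hj
    by_contra hne
    obtain ⟨j₁, hj₁⟩ := σ.surjective (τ j)
    by_cases h1 : j₁ = j
    · rw [h1] at hj₁
      exact hne (congrArg Fin.val hj₁)
    · have := h j₁ h1
      rw [hj₁] at this
      exact h1 (τ.injective this.symm)
  · exact congrArg Fin.val (h j hj)


end more

end Groth.Agent.Verl
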