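import Mathlib
import Groth.Agent.Lib.Helper11Verlinde
set_option autoImplicit false

namespace Groth.Agent.Verl

section core1

open Complex

variable {r : ℕ}

/-- no wrap-around: congruent shifted index sets with matching sums are equal -/
lemma no_wrap (N : ℕ) (n n' : Fin r → ℤ) (hn : StrictAnti n) (hn' : StrictAnti n')
    (hnr : ∀ i, 0 ≤ n i ∧ n i < N) (hn'r : ∀ i, 0 ≤ n' i ∧ n' i < N)
    (σ τ : Equiv.Perm (Fin r)) (e : ℤ)
    (hdiv : ∀ j, (N : ℤ) ∣ n (σ j) - n' (τ j) - e)
    (hsum : ∑ i, n i - ∑ i, n' i = r * e) : ∀ i, n i - n' i = e := by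
  set t : Fin r → ℤ := fun j => n (σ j) - n' (τ j) - e with ht
  have hsum0 : ∑ j, t j = 0 := by
    simp only [ht, Finset.sum_sub_distrib]
    rw [Equiv.sum_comp σ n, Equiv.sum_comp τ n', hsum]
    simp
  have hdiff : ∀ j j', t j - t j' < 2 * N ∧ -(2 * (N : ℤ)) < t j - t j' := by
    intro j j'
    simp only [ht]
    have h1 := hnr (σ j); have h2 := hnr (σ j'); have h3 := hn'r (τ j); have h4 := hn'r (τ j')
    constructor <;> omega
  have hall : ∀ j, t j = 0 := by
    by_contra hcon
    push Not at hcon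
    obtain ⟨j₁, hj₁⟩ := hcon
    rcases lt_or_gt_of_ne hj₁ with hneg | hpos
    · -- t j₁ < 0
      have h1 : t j₁ ≤ -(N : ℤ) := by
        obtain ⟨q, hq⟩ := hdiv j₁
        have hq' : t j₁ = N * q := hq
        have : q < 0 := by
          by_contra hq0
          push Not at hq0
          have : 0 ≤ (N : ℤ) * q := mul_nonneg (Int.natCast_nonneg N) hq0
          omega
        have : (N : ℤ) * q ≤ N * (-1) := by
          apply mul_le_mul_of_nonneg_left (by omega) (Int.natCast_nonneg N)
        omega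
      have h2 : ∀ j, t j ≤ 0 := by
        intro j
        have h3 := (hdiff j j₁).1
        obtain ⟨q, hq⟩ := hdiv j
        have hq' : t j = N * q := hq
        by_contra hpos
        push Not at hpos
        have : 0 < q := by
          by_contra hq0
          push Not at hq0
          have : (N : ℤ) * q ≤ 0 := mul_nonpos_of_nonneg_of_nonpos (Int.natCast_nonneg N) hq0
          omega
        have : (N : ℤ) * 1 ≤ N * q := mul_le_mul_of_nonneg_left (by omega) (Int.natCast_nonneg N)
        omega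
      have h3 : ∑ j, t j < 0 := by
        calc ∑ j, t j = t j₁ + ∑ j ∈ Finset.univ.erase j₁, t j := by
              rw [Finset.add_sum_erase _ _ (Finset.mem_univ j₁)]
          _ ≤ t j₁ + 0 := by
              apply add_le_add_right
              exact Finset.sum_nonpos (fun j _ => h2 j)
          _ < 0 := by omega
      omega
    · have h1 : (N : ℤ) ≤ t j₁ := by
        obtain ⟨q, hq⟩ := hdiv j₁
        have hq' : t j₁ = N * q := hq
        have : 0 < q := by
          by_contra hq0
          push Not at hq0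
          have : (N : ℤ) * q ≤ 0 := mul_nonpos_of_nonneg_of_nonpos (Int.natCast_nonneg N) hq0
          omega
        have : (N : ℤ) * 1 ≤ N * q := mul_le_mul_of_nonneg_left (by omega) (Int.natCast_nonneg N)
        omega
      have h2 : ∀ j, 0 ≤ t j := by
        intro j
        have h3 := (hdiff j j₁).2
        obtain ⟨q, hq⟩ := hdiv j
        have hq' : t j = N * q := hq
        by_contra hneg
        push Not at hneg
        have : q < 0 := by
          by_contra hq0
          push Not at hq0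
          have : 0 ≤ (N : ℤ) * q := mul_nonneg (Int.natCast_nonneg N) hq0
          omega
        have : (N : ℤ) * q ≤ N * (-1) := by
          apply mul_le_mul_of_nonneg_left (by omega) (Int.natCast_nonneg N)
        omega
      have h3 : 0 < ∑ j, t j := by
        calc 0 < t j₁ + 0 := by omega
          _ ≤ t j₁ + ∑ j ∈ Finset.univ.erase j₁, t j := by
              apply add_le_add_right
              exact Finset.sum_nonneg (fun j _ => h2 j)
          _ = ∑ j, t j := by
              rw [Finset.add_sum_erase _ _ (Finset.mem_univ j₁)]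
      omega
  -- now n ∘ σ = (n' + e) ∘ τ
  set f : Fin r → ℤ := fun i => n' i + e with hf
  have hfa : StrictAnti f := fun a b hab => by
    simp only [hf]
    have := hn' hab
    omega
  have h1 : n = f ∘ (τ * σ⁻¹ : Equiv.Perm (Fin r)) := by
    funext i
    have := hall (σ⁻¹ i)
    simp only [ht] at this
    simp only [Function.comp_apply, hf, Equiv.Perm.coe_mul]
    have e1 : σ (σ⁻¹ i) = i := by simp
    rw [e1] at this
    omega
  have h2 : f ∘ (τ * σ⁻¹ : Equiv.Perm (Fin r)) = f ∘ (1 : Equiv.Perm (Fin r)) := by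
    apply Tuple.unique_antitone
    · rw [← h1]; exact hn.antitone
    · simpa using hfa.antitone
  intro i
  have := congrFun (h1.trans h2) i
  simp only [Function.comp_apply, Equiv.Perm.coe_one, id_eq, hf] at this
  omega


lemma ez_mul_left (r N : ℕ) (hr : r ≠ 0) (a : ℤ) : ez (r * N) ((r : ℤ) * a) = ez N a := by
  unfold ez
  congr 1
  have : (r : ℂ) ≠ 0 := Nat.cast_ne_zero.mpr hr
  by_cases hN : (N : ℂ) = 0
  · have hN' : N = 0 := by exact_mod_cast hN
    subst hN'
    simp
  · push_cast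
    field_simp

lemma ez_mul_right (r N : ℕ) (hN : N ≠ 0) (a : ℤ) : ez (r * N) (a * (N : ℤ)) = ez r a := by
  unfold ez
  congr 1
  have : (N : ℂ) ≠ 0 := Nat.cast_ne_zero.mpr hN
  by_cases hr : (r : ℂ) = 0
  · have hr' : r = 0 := by exact_mod_cast hr
    subst hr'
    simp
  · push_cast
    field_simp

/-- the twisted summand on integer tuples -/
noncomputable def Fz (N : ℕ) (n n' : Fin r → ℤ) (D : ℤ) (y : Fin r → ℤ) : ℂ :=
  ez (r * N) (-D * ∑ j, y j) * (Adet N n y * (starRingEnd ℂ) (Adet N n' y))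

lemma Fz_eq_Fsum (N : ℕ) (hr : r ≠ 0) (n n' : Fin r → ℤ) (e : ℤ) (x : Fin r → Fin N) :
    Fz N n n' ((r : ℤ) * e) (tupZ x) = Fsum N n n' e x := by
  unfold Fz Fsum
  congr 1
  rw [← ez_mul_left r N hr]
  congr 1
  ring

lemma Fz_perm (N : ℕ) (n n' : Fin r → ℤ) (D : ℤ) (y : Fin r → ℤ) (σ : Equiv.Perm (Fin r)) :
    Fz N n n' D (y ∘ σ) = Fz N n n' D y := by
  unfold Fz
  rw [Adet_perm_right, Adet_perm_right, map_mul, permSign_conj]
  have h1 : ∑ j, (y ∘ σ) j = ∑ j, y j := Equiv.sum_comp σ y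
  rw [h1]
  have := permSign_mul_self σ
  linear_combination (ez (r * N) (-D * ∑ j, y j) * Adet N n y *
    (starRingEnd ℂ) (Adet N n' y)) * this

lemma Fz_shift (N : ℕ) (hr : r ≠ 0) (n n' : Fin r → ℤ) (y : Fin r → ℤ) (c : ℤ) :
    Fz N n n' (∑ i, n i - ∑ i, n' i) (fun j => y j + c) = Fz N n n' (∑ i, n i - ∑ i, n' i) y := by
  unfold Fz
  rw [Adet_shift, Adet_shift, map_mul, ez_conj]
  have h1 : ∑ j : Fin r, (y j + c) = ∑ j, y j + (r : ℤ) * c := by
    rw [Finset.sum_add_distrib]
    simp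
  rw [h1]
  have h2 : -(∑ i, n i - ∑ i, n' i) * (∑ j, y j + (r : ℤ) * c)
      = -(∑ i, n i - ∑ i, n' i) * ∑ j, y j + (r : ℤ) * (-(∑ i, n i - ∑ i, n' i) * c) := by ring
  rw [h2, ez_add, ez_mul_left r N hr]
  have h3 : ez N (-(∑ i, n i - ∑ i, n' i) * c) * ez N (c * ∑ i, n i) * ez N (-(c * ∑ i, n' i)) = 1 := by
    rw [← ez_add, ← ez_add]
    have : -(∑ i, n i - ∑ i, n' i) * c + c * ∑ i, n i + -(c * ∑ i, n' i) = 0 := by ring
    rw [this, ez_zero]
  linear_combination (ez (r * N) (-(∑ i, n i - ∑ i, n' i) * ∑ j, y j) * Adet N n y *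
    (starRingEnd ℂ) (Adet N n' y)) * h3

lemma Fz_period (N : ℕ) (hN : N ≠ 0) (n n' : Fin r → ℤ) (D : ℤ) (y : Fin r → ℤ) (j₀ : Fin r) :
    Fz N n n' D (fun j => y j + (if j = j₀ then (N : ℤ) else 0)) = ez r (-D) * Fz N n n' D y := by
  unfold Fz
  have hc : ∀ m : Fin r → ℤ, Adet N m (fun j => y j + (if j = j₀ then (N : ℤ) else 0)) = Adet N m y := by
    intro m
    apply Adet_congr_mod N hN
    intro j
    by_cases hj : j = j₀
    · simp [hj]
    · simp [hj]
  rw [hc, hc]
  have h1 : ∑ j : Fin r, (y j + (if j = j₀ then (N : ℤ) else 0)) = ∑ j, y j + N := by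
    rw [Finset.sum_add_distrib]
    simp
  rw [h1]
  have h2 : -D * (∑ j, y j + (N : ℤ)) = -D * ∑ j, y j + (-D) * (N : ℤ) := by ring
  rw [h2, ez_add, ez_mul_right r N hN]
  ring


end core1

section rotation
variable {s : ℕ}

/-- the penultimate index -/
def penI (s : ℕ) : Fin (s + 2) := (Fin.last s).castSucc

/-- rotation on integer tuples -/
def rotZ (N : ℕ) (y : Fin (s + 2) → ℤ) : Fin (s + 2) → ℤ :=
  Fin.cases (y (Fin.last (s + 1)) + N - y (penI s)) (fun j => y j.castSucc - y (penI s))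

lemma rotZ_eq (N : ℕ) (y : Fin (s + 2) → ℤ) :
    rotZ N y = (fun i => (fun j => y j + (if j = Fin.last (s + 1) then (N : ℤ) else 0)) i + (- y (penI s)))
      ∘ ((finRotate (s + 2)).symm : Equiv.Perm (Fin (s + 2))) := by
  funext i
  refine Fin.cases ?_ (fun j => ?_) i
  · have h : (finRotate (s + 2)).symm 0 = Fin.last (s + 1) := by
      rw [Equiv.symm_apply_eq, finRotate_last]
    simp only [rotZ, Fin.cases_zero, Function.comp_apply, h, if_pos]
    ring
  · have h : (finRotate (s + 2)).symm j.succ = j.castSucc := by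
      rw [Equiv.symm_apply_eq, finRotate_apply, Fin.coeSucc_eq_succ]
    have hne : j.castSucc ≠ Fin.last (s + 1) := (Fin.castSucc_lt_last j).ne
    simp only [rotZ, Fin.cases_succ, Function.comp_apply, h, if_neg hne]
    ring

lemma Fz_rotZ (N : ℕ) (hN : N ≠ 0) (n n' : Fin (s + 2) → ℤ) (y : Fin (s + 2) → ℤ) :
    Fz N n n' (∑ i, n i - ∑ i, n' i) (rotZ N y)
      = ez (s + 2) (-(∑ i, n i - ∑ i, n' i)) * Fz N n n' (∑ i, n i - ∑ i, n' i) y := by
  rw [rotZ_eq, Fz_perm, Fz_shift N (by omega), Fz_period N hN]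

/-- rotation on the alcove -/
def rot (N : ℕ) (hN : 0 < N) (x : Fin (s + 2) → Fin N) : Fin (s + 2) → Fin N :=
  Fin.cases ⟨(N - (x (penI s) : ℕ)) % N, Nat.mod_lt _ hN⟩
    (fun j => ⟨((x j.castSucc : ℕ) - (x (penI s) : ℕ)) % N, Nat.mod_lt _ hN⟩)

/-- alcove membership (as a predicate) -/
def InAlc {r N : ℕ} (x : Fin r → Fin N) : Prop :=
  StrictAnti x ∧ ∀ i : Fin r, (i : ℕ) = r - 1 → (x i : ℕ) = 0

lemma InAlc.last_eq {N : ℕ} {x : Fin (s + 2) → Fin N} (hx : InAlc x) :
    (x (Fin.last (s + 1)) : ℕ) = 0 := hx.2 _ (by simp)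

lemma InAlc.pen_pos {N : ℕ} {x : Fin (s + 2) → Fin N} (hx : InAlc x) :
    0 < (x (penI s) : ℕ) := by
  have h1 : penI s < Fin.last (s + 1) := Fin.castSucc_lt_last _
  have h2 := hx.1 h1
  rw [Fin.lt_def, hx.last_eq] at h2
  exact h2

lemma InAlc.pen_le {N : ℕ} {x : Fin (s + 2) → Fin N} (hx : InAlc x) (j : Fin (s + 1)) :
    (x (penI s) : ℕ) ≤ (x j.castSucc : ℕ) := by
  have h1 : j.castSucc ≤ penI s := by
    rw [penI, Fin.castSucc_le_castSucc_iff]
    exact Fin.le_last j
  exact hx.1.antitone h1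

lemma tupZ_rot (N : ℕ) (hN : 0 < N) (x : Fin (s + 2) → Fin N) (hx : InAlc x) :
    tupZ (rot N hN x) = rotZ N (tupZ x) := by
  funext i
  refine Fin.cases ?_ (fun j => ?_) i
  · simp only [tupZ, rot, rotZ, Fin.cases_zero]
    have h1 := hx.pen_pos
    have h2 := (x (penI s)).2
    rw [Nat.mod_eq_of_lt (by omega), hx.last_eq]
    push_cast [Nat.cast_sub h2.le]
    ring
  · simp only [tupZ, rot, rotZ, Fin.cases_succ]
    have h1 := hx.pen_le j
    have h2 := (x j.castSucc).2
    rw [Nat.mod_eq_of_lt (by omega)]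
    push_cast [Nat.cast_sub h1]
    ring

lemma rot_zero_val (N : ℕ) (hN : 0 < N) (x : Fin (s + 2) → Fin N) (hx : InAlc x) :
    ((rot N hN x 0 : Fin N) : ℕ) = N - (x (penI s) : ℕ) := by
  simp only [rot, Fin.cases_zero]
  have h1 := hx.pen_pos
  exact Nat.mod_eq_of_lt (by omega)

lemma rot_succ_val (N : ℕ) (hN : 0 < N) (x : Fin (s + 2) → Fin N) (hx : InAlc x) (j : Fin (s + 1)) :
    ((rot N hN x j.succ : Fin N) : ℕ) = (x j.castSucc : ℕ) - (x (penI s) : ℕ) := by
  simp only [rot, Fin.cases_succ]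
  have h2 := (x j.castSucc).2
  exact Nat.mod_eq_of_lt (by omega)

lemma rot_inAlc (N : ℕ) (hN : 0 < N) (x : Fin (s + 2) → Fin N) (hx : InAlc x) :
    InAlc (rot N hN x) := by
  constructor
  · intro a b hab
    rw [Fin.lt_def]
    revert hab
    refine Fin.cases ?_ (fun ja => ?_) a
    · refine Fin.cases ?_ (fun jb => ?_) b
      · intro h; exact absurd h (lt_irrefl _)
      · intro _
        rw [rot_zero_val N hN x hx, rot_succ_val N hN x hx]
        have h1 := hx.pen_pos
        have h2 := (x jb.castSucc).2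
        have h3 := (x (penI s)).2
        omega
    · refine Fin.cases ?_ (fun jb => ?_) b
      · intro h; exact absurd h (Fin.not_lt_zero _)
      · intro h
        rw [rot_succ_val N hN x hx, rot_succ_val N hN x hx]
        have hlt : ja.castSucc < jb.castSucc := by
          rw [Fin.castSucc_lt_castSucc_iff]
          exact Fin.succ_lt_succ_iff.mp h
        have h1 := hx.1 hlt
        rw [Fin.lt_def] at h1
        have h2 := hx.pen_le jb
        omega
  · intro i hi
    have : i = (Fin.last s).succ := by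
      apply Fin.ext
      simp only [Fin.val_succ, Fin.val_last]
      omega
    rw [this, rot_succ_val N hN x hx]
    show (x (penI s) : ℕ) - (x (penI s) : ℕ) = 0
    omega

lemma rot_injOn (N : ℕ) (hN : 0 < N) (x x' : Fin (s + 2) → Fin N) (hx : InAlc x) (hx' : InAlc x')
    (h : rot N hN x = rot N hN x') : x = x' := by
  have h0 := congrArg (fun f => ((f 0 : Fin N) : ℕ)) h
  simp only [rot_zero_val N hN x hx, rot_zero_val N hN x' hx'] at h0
  have hp : (x (penI s) : ℕ) = (x' (penI s) : ℕ) := by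
    have h1 := (x (penI s)).2
    have h2 := (x' (penI s)).2
    omega
  funext i
  apply Fin.ext
  refine Fin.lastCases ?_ (fun j => ?_) i
  · rw [hx.last_eq, hx'.last_eq]
  · have hj := congrArg (fun f => ((f j.succ : Fin N) : ℕ)) h
    simp only [rot_succ_val N hN x hx, rot_succ_val N hN x' hx'] at hj
    have h1 := hx.pen_le j
    have h2 := hx'.pen_le j
    omega

end rotation


/-- the core vanishing theorem: orthogonality of twisted alternants over the alcove -/
theorem core_vanish {r : ℕ} (N : ℕ) (hN : N ≠ 0) (n n' : Fin r → ℤ)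
    (hn : StrictAnti n) (hn' : StrictAnti n')
    (hnr : ∀ i, 0 ≤ n i ∧ n i < N) (hn'r : ∀ i, 0 ≤ n' i ∧ n' i < N)
    (hne : ¬ ∃ a : ℤ, ∀ i, n i - n' i = a) :
    ∑ x ∈ (Finset.univ : Finset (Fin r → Fin N)).filter
        (fun x : Fin r → Fin N => StrictAnti x ∧ ∀ i : Fin r, (i : ℕ) = r - 1 → (x i : ℕ) = 0),
      Fz N n n' (∑ i, n i - ∑ i, n' i) (tupZ x) = 0 := by
  classical
  have hr0 : r ≠ 0 := by
    rintro rfl
    exact hne ⟨0, fun i => i.elim0⟩
  by_cases hdiv : (r : ℤ) ∣ ∑ i, n i - ∑ i, n' i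
  · -- case B
    obtain ⟨e, he⟩ := hdiv
    rw [he]
    rw [Finset.sum_congr rfl (fun x _ => Fz_eq_Fsum N hr0 n n' e x)]
    have key := sum_strictAnti_pinned (N := N) (Nat.pos_of_ne_zero hr0) (Fsum N n n' e)
      (fun x σ => Fsum_symm _ _ _ _ x σ) (fun x hx => Fsum_vanish _ hN _ _ _ x hx)
    have h3 : ∀ j₀ : Fin r, ∑ x ∈ (Finset.univ : Finset (Fin r → Fin N)).filter
        (fun x : Fin r → Fin N => (x j₀ : ℕ) = 0), Fsum N n n' e x = 0 := by
      intro j₀
      rw [sum_pinned_Fsum _ hN]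
      apply Finset.sum_eq_zero
      intro σ _
      apply Finset.sum_eq_zero
      intro τ _
      rw [if_neg, mul_zero]
      intro hall
      apply hne
      refine ⟨e, no_wrap N n n' hn hn' hnr hn'r σ τ e ?_ he⟩
      -- the remaining index
      have hsum0 : ∑ j, (n (σ j) - n' (τ j) - e) = 0 := by
        simp only [Finset.sum_sub_distrib]
        rw [Equiv.sum_comp σ n, Equiv.sum_comp τ n', he]
        simp
      intro j
      by_cases hj : j = j₀
      · subst hj
        have h5 : n (σ j) - n' (τ j) - e = - ∑ j' ∈ Finset.univ.erase j, (n (σ j') - n' (τ j') - e) := by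
          rw [← Finset.add_sum_erase _ _ (Finset.mem_univ j)] at hsum0
          omega
        rw [h5]
        apply Dvd.dvd.neg_right
        apply Finset.dvd_sum
        intro j' hj'
        exact hall j' (Finset.ne_of_mem_erase hj')
      · exact hall j hj
    rw [Finset.sum_congr rfl (fun j₀ _ => h3 j₀), Finset.sum_const_zero] at key
    have hfact : (r.factorial : ℂ) ≠ 0 := Nat.cast_ne_zero.mpr (Nat.factorial_ne_zero r)
    exact (mul_eq_zero.mp key).resolve_left hfact
  · -- case A
    have hr2 : 2 ≤ r := by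
      by_contra hlt
      push Not at hlt
      have : r = 1 := by omega
      subst this
      exact hdiv (by simp)
    obtain ⟨s, rfl⟩ : ∃ s, r = s + 2 := ⟨r - 2, by omega⟩
    have hNpos : 0 < N := Nat.pos_of_ne_zero hN
    set D := ∑ i, n i - ∑ i, n' i with hD
    set 𝒜 := (Finset.univ : Finset (Fin (s + 2) → Fin N)).filter
        (fun x : Fin (s + 2) → Fin N => StrictAnti x ∧ ∀ i : Fin (s + 2), (i : ℕ) = s + 2 - 1 → (x i : ℕ) = 0)
      with h𝒜
    have hmem : ∀ x, x ∈ 𝒜 ↔ InAlc x := by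
      intro x
      rw [h𝒜, Finset.mem_filter]
      simp [InAlc]
    have hbij : ∑ x ∈ 𝒜, Fz N n n' D (tupZ (rot N hNpos x)) = ∑ x ∈ 𝒜, Fz N n n' D (tupZ x) := by
      apply Finset.sum_nbij (rot N hNpos)
      · intro x hx
        exact (hmem _).mpr (rot_inAlc N hNpos x ((hmem x).mp hx))
      · intro x hx x' hx' h
        exact rot_injOn N hNpos x x' ((hmem x).mp hx) ((hmem x').mp hx') h
      · apply Finset.surjOn_of_injOn_of_card_le
        · intro x hx
          exact (hmem _).mpr (rot_inAlc N hNpos x ((hmem x).mp hx))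
        · intro x hx x' hx' h
          exact rot_injOn N hNpos x x' ((hmem x).mp hx) ((hmem x').mp hx') h
        · exact le_rfl
      · intro x _; rfl
    have hrot : ∀ x ∈ 𝒜, Fz N n n' D (tupZ (rot N hNpos x)) = ez (s + 2) (-D) * Fz N n n' D (tupZ x) := by
      intro x hx
      rw [tupZ_rot N hNpos x ((hmem x).mp hx), hD, Fz_rotZ N hN]
    rw [Finset.sum_congr rfl hrot, ← Finset.mul_sum] at hbij
    have hω : ez (s + 2) (-D) ≠ 1 := by
      intro h1
      rw [ez_eq_one_iff (s + 2) (by omega)] at h1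
      apply hdiv
      have := Dvd.dvd.neg_right h1
      simpa using this
    have h4 : (ez (s + 2) (-D) - 1) * ∑ x ∈ 𝒜, Fz N n n' D (tupZ x) = 0 := by
      rw [sub_mul, hbij, one_mul, sub_self]
    exact (mul_eq_zero.mp h4).resolve_left (sub_ne_zero.mpr hω)


end Groth.Agent.Verl
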