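import Mathlib
import Groth.Agent.Lib.Helper11VerlindeCore
set_option autoImplicit false

namespace Groth.Agent.Verl

section schur

variable {r : ℕ}

lemma exp_eq_ez (r k : ℕ) (a : ℕ) :
    Complex.exp (2 * Real.pi * Complex.I * (a : ℂ) / ((r : ℂ) + k)) = ez (r + k) (a : ℤ) := by
  unfold ez
  push_cast
  rfl

lemma det_pow_eq_Adet (N : ℕ) (z : Fin r → ℂ) (x : Fin r → ℤ) (hz : ∀ j, z j = ez N (x j))
    (e : Fin r → ℕ) :
    (Matrix.of fun i j : Fin r => z j ^ (e i)).det = Adet N (fun i => ((e i : ℕ) : ℤ)) x := by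
  unfold Adet
  congr 1
  ext i j
  simp only [Matrix.of_apply, hz, ez_pow]
  congr 1
  ring

lemma schur_num_eq (N : ℕ) (z : Fin r → ℂ) (x : Fin r → ℤ) (hz : ∀ j, z j = ez N (x j))
    (μ : Fin r → ℕ) :
    (Matrix.of fun i j : Fin r => z j ^ (μ i + (r - 1 - (i : ℕ)))).det
      = Adet N (fun i => ((μ i : ℕ) : ℤ) + delta r i) x := by
  rw [det_pow_eq_Adet N z x hz]
  congr 1

lemma schur_den_eq (N : ℕ) (z : Fin r → ℂ) (x : Fin r → ℤ) (hz : ∀ j, z j = ez N (x j)) :
    (Matrix.of fun i j : Fin r => z j ^ (r - 1 - (i : ℕ))).det = Adet N (delta r) x := by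
  rw [det_pow_eq_Adet N z x hz]
  rfl

lemma Adet_const_sub (N : ℕ) (c : ℤ) (m x : Fin r → ℤ) :
    Adet N (fun i => c - m i) x = ez N (c * ∑ j, x j) * (starRingEnd ℂ) (Adet N m x) := by
  rw [Adet_conj, Adet_symm N (fun i => c - m i) x, Adet_symm N (fun i => - m i) x]
  have h : (fun i => c - m i) = (fun i => (fun i => - m i) i + c) := by
    funext i
    ring
  rw [h, Adet_shift]

lemma Adet_dual (N : ℕ) (c : ℤ) (m x : Fin r → ℤ) :
    Adet N (fun i => c - m (Fin.rev i)) x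
      = ((Equiv.Perm.sign (Fin.revPerm : Equiv.Perm (Fin r)) : ℤ) : ℂ) *
        (ez N (c * ∑ j, x j) * (starRingEnd ℂ) (Adet N m x)) := by
  have h : (fun i => c - m (Fin.rev i)) = (fun i => c - m i) ∘ (Fin.revPerm : Equiv.Perm (Fin r)) := by
    funext i
    simp [Fin.revPerm_apply]
  rw [h, Adet_perm_left, Adet_const_sub]

lemma delta_add_rev (i : Fin r) : delta r i + delta r (Fin.rev i) = (r : ℤ) - 1 := by
  unfold delta
  have := i.2
  simp only [Fin.val_rev]
  omega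

lemma Adet_delta_conj (N : ℕ) (x : Fin r → ℤ) :
    (starRingEnd ℂ) (Adet N (delta r) x)
      = ((Equiv.Perm.sign (Fin.revPerm : Equiv.Perm (Fin r)) : ℤ) : ℂ) *
        (ez N (-((r : ℤ) - 1) * ∑ j, x j) * Adet N (delta r) x) := by
  have h : (fun i => - delta r i) = (fun i => (-((r : ℤ) - 1)) - - delta r (Fin.rev i)) := by
    funext i
    have := delta_add_rev i
    omega
  have key := Adet_dual N (-((r : ℤ) - 1)) (fun i => - delta r i) x
  rw [← h, ← Adet_conj, Complex.conj_conj] at key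
  exact key

lemma Adet_delta_ne_zero (N : ℕ) (hN : N ≠ 0) (x : Fin r → ℤ)
    (hx : ∀ i j, (N : ℤ) ∣ x i - x j → i = j) : Adet N (delta r) x ≠ 0 := by
  rw [Adet_delta_eq]
  apply mul_ne_zero
  · rcases Int.units_eq_one_or (Equiv.Perm.sign (Fin.revPerm : Equiv.Perm (Fin r))) with h | h
    · rw [h]; simp
    · rw [h]; simp
  · rw [Finset.prod_ne_zero_iff]
    intro i _
    rw [Finset.prod_ne_zero_iff]
    intro j hj
    rw [Finset.mem_Ioi] at hj
    intro h0
    have h1 : ez N (x j - x i) = 1 := by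
      have : x j - x i = x j + (- x i) := by ring
      rw [this, ez_add, ez_neg]
      rw [sub_eq_zero] at h0
      rw [h0]
      exact mul_inv_cancel₀ (ez_ne_zero N _)
    rw [ez_eq_one_iff N hN] at h1
    have := hx j i h1
    exact absurd this (ne_of_gt hj)

lemma strictAnti_inj_mod {N : ℕ} (v : Fin r → ℕ) (hv : StrictAnti v) (hlt : ∀ i, v i < N)
    (i j : Fin r) (h : (N : ℤ) ∣ (v i : ℤ) - (v j : ℤ)) : i = j := by
  have h1 : (v i : ℤ) - (v j : ℤ) = 0 := by
    apply Int.eq_zero_of_abs_lt_dvd h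
    have := hlt i
    have := hlt j
    rw [abs_lt]
    constructor <;> omega
  have h2 : v i = v j := by omega
  exact hv.injective h2

lemma exp_neg_eq_ez (r k : ℕ) (a b : ℕ) :
    Complex.exp (-(2 * Real.pi * Complex.I * (a : ℂ) * (b : ℂ) / ((r : ℂ) * ((r : ℂ) + k))))
      = ez (r * (r + k)) (-((a : ℤ) * (b : ℤ))) := by
  unfold ez
  congr 1
  push_cast
  ring

lemma Psin_eq (r k : ℕ) (v : Fin r → ℕ) :
    (∏ p ∈ (Finset.univ : Finset (Fin r × Fin r)).filter (fun p => p.1 < p.2),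
        ((2 : ℝ) * Real.sin (Real.pi * ((v p.1 : ℝ) - (v p.2 : ℝ)) / ((r : ℝ) + k))) ^ 2)
      = Psin (r + k) (fun j => ((v j : ℕ) : ℤ)) := by
  unfold Psin
  apply Finset.prod_congr rfl
  intro p _
  push_cast
  rfl

lemma sa_gap {N : ℕ} (m : Fin r → Fin N) (hm : StrictAnti m) :
    ∀ (d : ℕ) (i j : Fin r), (j : ℕ) = (i : ℕ) + d → (m j : ℕ) + d ≤ (m i : ℕ) := by
  intro d
  induction d with
  | zero =>
    intro i j h
    have : j = i := Fin.ext (by omega)
    subst this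
    omega
  | succ d ih =>
    intro i j h
    have hj' : (i : ℕ) + d < r := by
      have := j.2
      omega
    have h1 := ih i ⟨i + d, hj'⟩ rfl
    have h2 : (⟨i + d, hj'⟩ : Fin r) < j := by
      rw [Fin.lt_def]
      simp only
      omega
    have h3 := hm h2
    rw [Fin.lt_def] at h3
    omega

/-- staircase shift `μ ↦ μ + δ` into the alcove -/
def fwd0 (r k : ℕ) (μ : Fin r → Fin (k + 1)) : Fin r → Fin (r + k) :=
  fun i => ⟨(μ i : ℕ) + (r - 1 - (i : ℕ)), by
    have := (μ i).2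
    have := i.2
    omega⟩

/-- inverse staircase shift -/
def bwd0 (r k : ℕ) (m : Fin r → Fin (r + k)) : Fin r → Fin (k + 1) :=
  fun i => ⟨min ((m i : ℕ) - (r - 1 - (i : ℕ))) k, by omega⟩

lemma sum_antitone_eq_sum_alcove (r k : ℕ) (f : (Fin r → ℤ) → ℂ) :
    ∑ μ ∈ (Finset.univ : Finset (Fin r → Fin (k + 1))).filter
        (fun μ : Fin r → Fin (k + 1) => Antitone μ ∧ ∀ i : Fin r, (i : ℕ) = r - 1 → (μ i : ℕ) = 0),
      f (fun i => ((μ i : ℕ) : ℤ) + delta r i)
    = ∑ m ∈ (Finset.univ : Finset (Fin r → Fin (r + k))).filter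
        (fun m : Fin r → Fin (r + k) => StrictAnti m ∧ ∀ i : Fin r, (i : ℕ) = r - 1 → (m i : ℕ) = 0),
      f (tupZ m) := by
  apply Finset.sum_bij' (fun μ _ => fwd0 r k μ) (fun m _ => bwd0 r k m)
  · intro μ hμ
    rw [Finset.mem_filter] at hμ ⊢
    obtain ⟨-, hanti, hlast⟩ := hμ
    refine ⟨Finset.mem_univ _, ?_, ?_⟩
    · intro i j hij
      have h1 := hanti hij.le
      rw [Fin.le_def] at h1
      rw [Fin.lt_def] at hij ⊢
      simp only [fwd0]
      have := j.2
      omega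
    · intro i hi
      have := hlast i hi
      simp only [fwd0]
      omega
  · intro m hm
    rw [Finset.mem_filter] at hm ⊢
    obtain ⟨-, hsa, hlast⟩ := hm
    refine ⟨Finset.mem_univ _, ?_, ?_⟩
    · intro i j hij
      rw [Fin.le_def] at hij ⊢
      simp only [bwd0]
      have h1 := sa_gap m hsa ((j : ℕ) - (i : ℕ)) i j (by omega)
      have := j.2
      omega
    · intro i hi
      have := hlast i hi
      simp only [bwd0]
      omega
  · intro μ _
    funext i
    apply Fin.ext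
    simp only [fwd0, bwd0]
    have := (μ i).2
    omega
  · intro m hm
    rw [Finset.mem_filter] at hm
    obtain ⟨-, hsa, hlast⟩ := hm
    funext i
    apply Fin.ext
    simp only [fwd0, bwd0]
    have hi := i.2
    have h1 := sa_gap m hsa (i : ℕ) ⟨0, by omega⟩ i (by simp)
    have h2 := sa_gap m hsa (r - 1 - (i : ℕ)) i ⟨r - 1, by omega⟩ (by simp only; omega)
    have h3 := (m ⟨0, by omega⟩).2
    omega
  · intro μ _
    congr 1

/-- staircase shift `μ ↦ μ + δ + 1` -/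
def fwd1 (r k : ℕ) (μ : Fin r → Fin k) : Fin r → Fin (r + k) :=
  fun i => ⟨(μ i : ℕ) + (r - 1 - (i : ℕ)) + 1, by
    have := (μ i).2
    have := i.2
    omega⟩

/-- inverse of `fwd1` -/
def bwd1 (r k : ℕ) (hk : 1 ≤ k) (m : Fin r → Fin (r + k)) : Fin r → Fin k :=
  fun i => ⟨min ((m i : ℕ) - (r - 1 - (i : ℕ)) - 1) (k - 1), by omega⟩

lemma sum_antitone_eq_sum_sa (r k : ℕ) (hr : 1 ≤ r) (hk : 1 ≤ k) (f : (Fin r → ℤ) → ℂ) :
    ∑ μ ∈ (Finset.univ : Finset (Fin r → Fin k)).filter (fun μ : Fin r → Fin k => Antitone μ),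
      f (fun i => ((μ i : ℕ) : ℤ) + delta r i + 1)
    = ∑ m ∈ (Finset.univ : Finset (Fin r → Fin (r + k))).filter
        (fun m : Fin r → Fin (r + k) =>
          StrictAnti m ∧ ¬ ∀ i : Fin r, (i : ℕ) = r - 1 → (m i : ℕ) = 0),
      f (tupZ m) := by
  apply Finset.sum_bij' (fun μ _ => fwd1 r k μ) (fun m _ => bwd1 r k hk m)
  · intro μ hμ
    rw [Finset.mem_filter] at hμ ⊢
    obtain ⟨-, hanti⟩ := hμ
    refine ⟨Finset.mem_univ _, ?_, ?_⟩
    · intro i j hij
      have h1 := hanti hij.le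
      rw [Fin.le_def] at h1
      rw [Fin.lt_def] at hij ⊢
      simp only [fwd1]
      have := j.2
      omega
    · intro hall
      have := hall ⟨r - 1, by omega⟩ rfl
      simp only [fwd1] at this
      omega
  · intro m hm
    rw [Finset.mem_filter] at hm ⊢
    obtain ⟨-, hsa, -⟩ := hm
    refine ⟨Finset.mem_univ _, ?_⟩
    intro i j hij
    rw [Fin.le_def] at hij ⊢
    simp only [bwd1]
    have h1 := sa_gap m hsa ((j : ℕ) - (i : ℕ)) i j (by omega)
    have := j.2
    omega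
  · intro μ _
    funext i
    apply Fin.ext
    simp only [fwd1, bwd1]
    have := (μ i).2
    omega
  · intro m hm
    rw [Finset.mem_filter] at hm
    obtain ⟨-, hsa, hlast⟩ := hm
    have hl : (m ⟨r - 1, by omega⟩ : ℕ) ≠ 0 := by
      intro h0
      apply hlast
      intro i hi
      have : i = ⟨r - 1, by omega⟩ := Fin.ext hi
      rw [this]
      exact h0
    funext i
    apply Fin.ext
    simp only [fwd1, bwd1]
    have hi := i.2
    have h1 := sa_gap m hsa (i : ℕ) ⟨0, by omega⟩ i (by simp)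
    have h2 := sa_gap m hsa (r - 1 - (i : ℕ)) i ⟨r - 1, by omega⟩ (by simp only; omega)
    have h3 := (m ⟨0, by omega⟩).2
    omega
  · intro μ _
    congr 1

lemma sum_all_Fsum_self (N : ℕ) (hN : N ≠ 0) (n : Fin r → ℤ)
    (hinj : ∀ a b, (N : ℤ) ∣ n a - n b → a = b) :
    ∑ m : Fin r → Fin N, Fsum N n n 0 m = (r.factorial : ℂ) * (N : ℂ) ^ r := by
  rw [sum_univ_Fsum N hN]
  have h4 : ∀ σ : Equiv.Perm (Fin r), ∑ τ : Equiv.Perm (Fin r),
      ((Equiv.Perm.sign σ : ℤ) : ℂ) * ((Equiv.Perm.sign τ : ℤ) : ℂ) *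
        (if ∀ j, (N : ℤ) ∣ n (σ j) - n (τ j) - 0 then (N : ℂ) ^ r else 0) = (N : ℂ) ^ r := by
    intro σ
    rw [Finset.sum_eq_single σ]
    · rw [if_pos, permSign_mul_self, one_mul]
      intro j
      simp
    · intro τ _ hτ
      rw [if_neg, mul_zero]
      intro hall
      apply hτ
      symm
      ext j
      have := hall j
      rw [sub_zero] at this
      rw [hinj _ _ this]
    · intro h
      exact absurd (Finset.mem_univ _) h
  rw [Finset.sum_congr rfl (fun σ _ => h4 σ), Finset.sum_const, Finset.card_univ,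
    Fintype.card_perm, Fintype.card_fin, nsmul_eq_mul]

lemma sum_sa_Fsum_self (N : ℕ) (hN : N ≠ 0) (n : Fin r → ℤ)
    (hinj : ∀ a b, (N : ℤ) ∣ n a - n b → a = b) :
    ∑ m ∈ (Finset.univ : Finset (Fin r → Fin N)).filter (fun m : Fin r → Fin N => StrictAnti m),
      Fsum N n n 0 m = (N : ℂ) ^ r := by
  have key := sum_strictAnti (N := N) (Fsum N n n 0)
    (fun x σ => Fsum_symm _ _ _ _ x σ) (fun x hx => Fsum_vanish _ hN _ _ _ x hx)
  rw [sum_all_Fsum_self N hN n hinj] at key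
  have hfact : (r.factorial : ℂ) ≠ 0 := Nat.cast_ne_zero.mpr (Nat.factorial_ne_zero r)
  exact mul_left_cancel₀ hfact key

lemma sum_alcove_Fsum_self (N : ℕ) (hN : N ≠ 0) (hr : 0 < r) (n : Fin r → ℤ)
    (hinj : ∀ a b, (N : ℤ) ∣ n a - n b → a = b) :
    ∑ m ∈ (Finset.univ : Finset (Fin r → Fin N)).filter
        (fun m : Fin r → Fin N => StrictAnti m ∧ ∀ i : Fin r, (i : ℕ) = r - 1 → (m i : ℕ) = 0),
      Fsum N n n 0 m = (r : ℂ) * (N : ℂ) ^ (r - 1) := by
  have key := sum_strictAnti_pinned (N := N) hr (Fsum N n n 0)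
    (fun x σ => Fsum_symm _ _ _ _ x σ) (fun x hx => Fsum_vanish _ hN _ _ _ x hx)
  have h3 : ∀ j₀ : Fin r, ∑ x ∈ (Finset.univ : Finset (Fin r → Fin N)).filter
      (fun x : Fin r → Fin N => (x j₀ : ℕ) = 0), Fsum N n n 0 x
      = (r.factorial : ℂ) * (N : ℂ) ^ (r - 1) := by
    intro j₀
    rw [sum_pinned_Fsum _ hN]
    have h4 : ∀ σ : Equiv.Perm (Fin r), ∑ τ : Equiv.Perm (Fin r),
        ((Equiv.Perm.sign σ : ℤ) : ℂ) * ((Equiv.Perm.sign τ : ℤ) : ℂ) *
          (if ∀ j, j ≠ j₀ → (N : ℤ) ∣ n (σ j) - n (τ j) - 0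
            then (N : ℂ) ^ (r - 1) else 0) = (N : ℂ) ^ (r - 1) := by
      intro σ
      rw [Finset.sum_eq_single σ]
      · rw [if_pos, permSign_mul_self, one_mul]
        intro j _
        simp
      · intro τ _ hτ
        rw [if_neg, mul_zero]
        intro hall
        apply hτ
        symm
        apply perm_eq_of_agree σ τ j₀
        intro j hj
        have := hall j hj
        rw [sub_zero] at this
        exact hinj _ _ this
      · intro h
        exact absurd (Finset.mem_univ _) h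
    rw [Finset.sum_congr rfl (fun σ _ => h4 σ), Finset.sum_const, Finset.card_univ,
      Fintype.card_perm, Fintype.card_fin, nsmul_eq_mul]
  rw [Finset.sum_congr rfl (fun j₀ _ => h3 j₀), Finset.sum_const, Finset.card_univ,
    Fintype.card_fin, nsmul_eq_mul] at key
  have hfact : (r.factorial : ℂ) ≠ 0 := Nat.cast_ne_zero.mpr (Nat.factorial_ne_zero r)
  exact mul_left_cancel₀ hfact (key.trans (by ring))

lemma sum_sa_nonpinned_Fsum_self (N : ℕ) (hN : N ≠ 0) (hr : 0 < r) (n : Fin r → ℤ)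
    (hinj : ∀ a b, (N : ℤ) ∣ n a - n b → a = b) :
    ∑ m ∈ (Finset.univ : Finset (Fin r → Fin N)).filter
        (fun m : Fin r → Fin N => StrictAnti m ∧ ¬ ∀ i : Fin r, (i : ℕ) = r - 1 → (m i : ℕ) = 0),
      Fsum N n n 0 m = (N : ℂ) ^ r - (r : ℂ) * (N : ℂ) ^ (r - 1) := by
  classical
  have h := Finset.sum_filter_add_sum_filter_not
    ((Finset.univ : Finset (Fin r → Fin N)).filter (fun m : Fin r → Fin N => StrictAnti m))
    (fun m : Fin r → Fin N => ∀ i : Fin r, (i : ℕ) = r - 1 → (m i : ℕ) = 0) (Fsum N n n 0)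
  rw [Finset.filter_filter, Finset.filter_filter, sum_sa_Fsum_self N hN n hinj,
    sum_alcove_Fsum_self N hN hr n hinj] at h
  rw [← h]
  ring

lemma Gf_shift (N : ℕ) (n y : Fin r → ℤ) (c : ℤ) :
    Adet N n (fun j => y j + c) * (starRingEnd ℂ) (Adet N n (fun j => y j + c))
      = Adet N n y * (starRingEnd ℂ) (Adet N n y) := by
  rw [Adet_shift, map_mul, ez_conj]
  have h : ez N (c * ∑ i, n i) * ez N (-(c * ∑ i, n i)) = 1 := by
    rw [← ez_add, add_neg_cancel, ez_zero]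
  calc _ = (ez N (c * ∑ i, n i) * ez N (-(c * ∑ i, n i))) *
        (Adet N n y * (starRingEnd ℂ) (Adet N n y)) := by ring
    _ = _ := by rw [h, one_mul]

lemma Fsum_zero_eq (N : ℕ) (n n' : Fin r → ℤ) (m : Fin r → Fin N) :
    Fsum N n n' 0 m = Adet N n (tupZ m) * (starRingEnd ℂ) (Adet N n' (tupZ m)) := by
  unfold Fsum
  rw [neg_zero, zero_mul, ez_zero, one_mul]

lemma exp_mul_eq_ez (r k : ℕ) (a b : ℕ) :
    Complex.exp (2 * Real.pi * Complex.I * (a : ℂ) * (b : ℂ) / ((r : ℂ) + k))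
      = ez (r + k) ((a : ℤ) * (b : ℤ)) := by
  unfold ez
  congr 1
  push_cast
  ring

end schur

end Groth.Agent.Verl
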