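import Mathlib

/-!
# Helper11 Weier: Weierstrass-type polynomials, units in `R[X]/(P)`, and the retraction
`L → R[s]/(f)` used for ideals comaximal with `m`
-/

set_option autoImplicit false
universe u

open Polynomial IsLocalRing

namespace Groth.Agent.Lib.Helper11.Weier

section K2
variable {R : Type u} [CommRing R] [IsLocalRing R]

/-- `P` monic with lower coefficients in `m`; `w` with constant coefficient `1`:
`w(root)` is a unit in `AdjoinRoot P`. -/
theorem isUnit_mk_of_coeff_zero_eq_one (P : R[X]) (hP : P.Monic)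
    (hPm : ∀ i < P.natDegree, P.coeff i ∈ maximalIdeal R) (w : R[X]) (hw : w.coeff 0 = 1) :
    IsUnit (AdjoinRoot.mk P w) := by
  by_contra hnu
  have hne : Ideal.span {AdjoinRoot.mk P w} ≠ ⊤ := by
    intro h
    exact hnu (Ideal.span_singleton_eq_top.mp h)
  obtain ⟨n, hn, hle⟩ := Ideal.exists_le_maximal _ hne
  have hwn : AdjoinRoot.mk P w ∈ n := hle (Ideal.mem_span_singleton_self _)
  haveI : Module.Finite R (AdjoinRoot P) := hP.finite_adjoinRoot
  haveI : Algebra.IsIntegral R (AdjoinRoot P) := inferInstance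
  have hmax : (n.comap (algebraMap R (AdjoinRoot P))).IsMaximal :=
    Ideal.isMaximal_comap_of_isIntegral_of_isMaximal n
  have hcm : n.comap (algebraMap R (AdjoinRoot P)) = maximalIdeal R :=
    IsLocalRing.eq_maximalIdeal hmax
  have hmn : ∀ r ∈ maximalIdeal R, algebraMap R (AdjoinRoot P) r ∈ n := by
    intro r hr
    rw [← hcm] at hr
    exact hr
  -- root ^ d ∈ n
  have hsum := hP.as_sum
  have h0 : AdjoinRoot.mk P P = 0 := AdjoinRoot.mk_self
  have hpow : (AdjoinRoot.root P) ^ P.natDegree ∈ n := by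
    have e : (AdjoinRoot.root P) ^ P.natDegree =
        - ∑ i ∈ Finset.range P.natDegree,
          algebraMap R (AdjoinRoot P) (P.coeff i) * (AdjoinRoot.root P) ^ i := by
      rw [eq_neg_iff_add_eq_zero]
      have h2 := congrArg (AdjoinRoot.mk P) hsum
      rw [h0] at h2
      rw [h2]
      simp only [map_add, map_pow, map_sum, map_mul, AdjoinRoot.mk_X, AdjoinRoot.mk_C,
        AdjoinRoot.algebraMap_eq]
    rw [e]
    refine n.neg_mem (n.sum_mem fun i hi => ?_)
    exact n.mul_mem_right _ (hmn _ (hPm i (Finset.mem_range.mp hi)))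
  have hroot : AdjoinRoot.root P ∈ n := hn.isPrime.mem_of_pow_mem _ hpow
  have hw' : AdjoinRoot.mk P w = AdjoinRoot.root P * AdjoinRoot.mk P (divX w) + 1 := by
    conv_lhs => rw [← X_mul_divX_add w, hw]
    simp
  have h1 : (1 : AdjoinRoot P) ∈ n := by
    have := n.sub_mem hwn (n.mul_mem_right (AdjoinRoot.mk P (divX w)) hroot)
    rw [hw'] at this
    simpa using this
  exact hn.ne_top ((Ideal.eq_top_iff_one _).mpr h1)

end K2

section Setup
variable {R : Type u} [CommRing R] [IsLocalRing R]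

/-- the multiplicative set generated by `X` and the polynomials with constant term `1` -/
noncomputable abbrev monoidS (R : Type u) [CommRing R] : Submonoid R[X] :=
  Submonoid.closure ({f : R[X] | f.coeff 0 = 1} ∪ {X})

variable (f : R[X])

/-- the quotient `R[X]/(f)` -/
abbrev Q : Type u := R[X] ⧸ Ideal.span {f}

/-- the class of `X` -/
noncomputable def qx : Q f := Ideal.Quotient.mk _ X

/-- the inverse of the class of `X` (when `f(0) = 1`) -/
noncomputable def qy : Q f := Ideal.Quotient.mk _ (-(divX f))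

/-- the reflected polynomial `X^d f(1/X)` -/
noncomputable def refl : R[X] := reflect f.natDegree f

variable {f}

omit [IsLocalRing R] in
lemma qx_mul_qy (hf0 : f.coeff 0 = 1) : qx f * qy f = 1 := by
  have h := X_mul_divX_add f
  rw [hf0] at h
  have e : X * (-(divX f)) = 1 - f := by
    have : X * divX f = f - C 1 := eq_sub_of_add_eq h
    rw [mul_neg, this]; simp
  show Ideal.Quotient.mk _ X * Ideal.Quotient.mk _ (-(divX f)) = 1
  rw [← map_mul, e, map_sub, map_one]
  have : Ideal.Quotient.mk (Ideal.span {f}) f = 0 :=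
    Ideal.Quotient.eq_zero_iff_mem.mpr (Ideal.mem_span_singleton_self f)
  rw [this, sub_zero]

omit [IsLocalRing R] in
lemma refl_coeff (i : ℕ) : (refl f).coeff i = f.coeff (revAt f.natDegree i) :=
  coeff_reflect _ _ _

omit [IsLocalRing R] in
lemma refl_coeff_natDegree (hf0 : f.coeff 0 = 1) : (refl f).coeff f.natDegree = 1 := by
  rw [refl_coeff, revAt_le le_rfl, Nat.sub_self, hf0]

lemma refl_natDegree (hf0 : f.coeff 0 = 1) : (refl f).natDegree = f.natDegree := by
  apply le_antisymm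
  · have := natDegree_reflect_le (N := f.natDegree) (p := f)
    simpa [refl] using this
  · apply le_natDegree_of_ne_zero
    rw [refl_coeff_natDegree hf0]
    exact one_ne_zero

lemma refl_monic (hf0 : f.coeff 0 = 1) : (refl f).Monic := by
  rw [Monic, leadingCoeff, refl_natDegree hf0, refl_coeff_natDegree hf0]

lemma refl_coeff_mem (hf0 : f.coeff 0 = 1) (hfm : ∀ i, i ≠ 0 → f.coeff i ∈ maximalIdeal R) :
    ∀ i < (refl f).natDegree, (refl f).coeff i ∈ maximalIdeal R := by
  intro i hi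
  rw [refl_natDegree hf0] at hi
  rw [refl_coeff, revAt_le hi.le]
  exact hfm _ (by omega)

omit [IsLocalRing R] in
lemma eval₂_qx : eval₂ (algebraMap R (Q f)) (qx f) f = 0 := by
  have h1 : eval₂ (algebraMap R (Q f)) (qx f) f =
      Ideal.Quotient.mk (Ideal.span {f}) (eval₂ C X f) := by
    rw [hom_eval₂]
    rfl
  rw [h1, eval₂_C_X]
  exact Ideal.Quotient.eq_zero_iff_mem.mpr (Ideal.mem_span_singleton_self f)

omit [IsLocalRing R] in
lemma eval₂_qy_refl (hf0 : f.coeff 0 = 1) :
    eval₂ (algebraMap R (Q f)) (qy f) (refl f) = 0 := by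
  letI : Invertible (qx f) :=
    ⟨qy f, by rw [mul_comm]; exact qx_mul_qy hf0, qx_mul_qy hf0⟩
  have h := eval₂_reflect_mul_pow (algebraMap R (Q f)) (qx f) f.natDegree f le_rfl
  rw [eval₂_qx] at h
  have h2 : eval₂ (algebraMap R (Q f)) (qy f) (refl f) * qx f ^ f.natDegree = 0 := h
  have h3 : qx f ^ f.natDegree * qy f ^ f.natDegree = 1 := by
    rw [← mul_pow, qx_mul_qy hf0, one_pow]
  calc eval₂ (algebraMap R (Q f)) (qy f) (refl f)
      = eval₂ (algebraMap R (Q f)) (qy f) (refl f) * (qx f ^ f.natDegree * qy f ^ f.natDegree) := by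
        rw [h3, mul_one]
    _ = 0 := by rw [← mul_assoc, h2, zero_mul]

/-- evaluation at the inverse of `X` -/
noncomputable def Phi (f : R[X]) : R[X] →ₐ[R] Q f := aeval (qy f)

omit [IsLocalRing R] in
lemma Phi_X : Phi f X = qy f := aeval_X _

omit [IsLocalRing R] in
lemma isUnit_Phi_X (hf0 : f.coeff 0 = 1) : IsUnit (Phi f X) := by
  rw [Phi_X]
  exact IsUnit.of_mul_eq_one (qx f) (by rw [mul_comm]; exact qx_mul_qy hf0)

lemma isUnit_Phi_of_coeff_zero (hf0 : f.coeff 0 = 1)
    (hfm : ∀ i, i ≠ 0 → f.coeff i ∈ maximalIdeal R) (w : R[X]) (hw : w.coeff 0 = 1) :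
    IsUnit (Phi f w) := by
  have hu := isUnit_mk_of_coeff_zero_eq_one (refl f) (refl_monic hf0) (refl_coeff_mem hf0 hfm) w hw
  have := hu.map (AdjoinRoot.lift (algebraMap R (Q f)) (qy f) (eval₂_qy_refl hf0))
  rw [AdjoinRoot.lift_mk] at this
  exact this

lemma isUnit_Phi_of_mem (hf0 : f.coeff 0 = 1)
    (hfm : ∀ i, i ≠ 0 → f.coeff i ∈ maximalIdeal R) (s : R[X]) (hs : s ∈ monoidS R) :
    IsUnit (Phi f s) := by
  induction hs using Submonoid.closure_induction with
  | mem x hx =>
    rcases hx with hx | hx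
    · exact isUnit_Phi_of_coeff_zero hf0 hfm x hx
    · rw [Set.mem_singleton_iff] at hx
      rw [hx]
      exact isUnit_Phi_X hf0
  | one => rw [map_one]; exact isUnit_one
  | mul x y _ _ hx hy => rw [map_mul]; exact hx.mul hy

end Setup

section Loc
variable {R : Type u} [CommRing R] [IsLocalRing R]
variable {L : Type u} [CommRing L] [Algebra R[X] L] [IsLocalization (monoidS R) L]
  [Algebra R L] [IsScalarTower R R[X] L]
variable {f : R[X]} (hf0 : f.coeff 0 = 1) (hfm : ∀ i, i ≠ 0 → f.coeff i ∈ maximalIdeal R)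

/-- the retraction `L → R[X]/(f)` -/
noncomputable def Lam : L →+* Q f :=
  IsLocalization.lift (M := monoidS R) (g := (Phi f : R[X] →+* Q f))
    (fun s => isUnit_Phi_of_mem hf0 hfm s.1 s.2)

omit [Algebra R L] [IsScalarTower R R[X] L] in
lemma Lam_algebraMap (p : R[X]) : Lam (L := L) hf0 hfm (algebraMap R[X] L p) = Phi f p :=
  IsLocalization.lift_eq _ _

variable (ψ : R[X] →ₐ[R] L) (hψ : ψ X * algebraMap R[X] L X = 1)

include hψ in
lemma Lam_comp_psi :
    (Lam (L := L) hf0 hfm).comp (ψ : R[X] →+* L) = Ideal.Quotient.mk (Ideal.span {f}) := by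
  apply Polynomial.ringHom_ext
  · intro a
    have h1 : (ψ : R[X] →+* L) (C a) = algebraMap R[X] L (C a) := by
      show ψ (C a) = _
      have e : (C a : R[X]) = algebraMap R R[X] a := rfl
      rw [e, ψ.commutes, IsScalarTower.algebraMap_apply R R[X] L]
    rw [RingHom.comp_apply, h1, Lam_algebraMap]
    show aeval (qy f) (C a) = _
    rw [aeval_C]
    rfl
  · have h1 : Lam (L := L) hf0 hfm (ψ X) * qy f = 1 := by
      have := congrArg (Lam (L := L) hf0 hfm) hψ
      rw [map_mul, map_one, Lam_algebraMap, Phi_X] at this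
      exact this
    show Lam (L := L) hf0 hfm (ψ X) = qx f
    calc Lam (L := L) hf0 hfm (ψ X)
        = Lam (L := L) hf0 hfm (ψ X) * (qy f * qx f) := by
          rw [mul_comm (qy f), qx_mul_qy hf0, mul_one]
      _ = qx f := by rw [← mul_assoc, h1, one_mul]

include hf0 hfm hψ in
/-- `comap ψ (map ψ I) = I` for ideals containing `f` -/
lemma comap_map_eq (I : Ideal R[X]) (hfI : f ∈ I) :
    (I.map (ψ : R[X] →+* L)).comap (ψ : R[X] →+* L) = I := by
  refine le_antisymm ?_ Ideal.le_comap_map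
  intro p hp
  have hp' : (ψ : R[X] →+* L) p ∈ I.map (ψ : R[X] →+* L) := hp
  have h1 := Ideal.mem_map_of_mem (Lam (L := L) hf0 hfm) hp'
  rw [Ideal.map_map, Lam_comp_psi hf0 hfm ψ hψ] at h1
  have h2 : (Lam (L := L) hf0 hfm) ((ψ : R[X] →+* L) p) = Ideal.Quotient.mk (Ideal.span {f}) p := by
    rw [← RingHom.comp_apply, Lam_comp_psi hf0 hfm ψ hψ]
  rw [h2, Ideal.mem_map_iff_of_surjective _ Ideal.Quotient.mk_surjective] at h1
  obtain ⟨i, hi, hip⟩ := h1
  have h3 : i - p ∈ Ideal.span {f} := Ideal.Quotient.eq.mp hip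
  have h4 : i - p ∈ I := (Ideal.span_singleton_le_iff_mem (I := I)).mpr hfI h3
  have : p = i - (i - p) := by ring
  rw [this]
  exact I.sub_mem hi h4

include hf0 hfm hψ in
/-- every element of `L` is congruent to an element of `ψ(R[X])` modulo `ψ f` -/
lemma exists_sub_mem (l : L) : ∃ p : R[X], l - ψ p ∈ Ideal.span {ψ f} := by
  set K : Ideal L := Ideal.span {ψ f} with hK
  let mkK : L →+* L ⧸ K := Ideal.Quotient.mk K
  have hker : ∀ a ∈ Ideal.span {f}, (mkK.comp (ψ : R[X] →+* L)) a = 0 := by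
    intro a ha
    obtain ⟨c, rfl⟩ := Ideal.mem_span_singleton'.mp ha
    rw [RingHom.comp_apply]
    apply Ideal.Quotient.eq_zero_iff_mem.mpr
    show ψ (c * f) ∈ K
    rw [map_mul]
    exact K.mul_mem_left _ (Ideal.mem_span_singleton_self _)
  let ψbar : Q f →+* L ⧸ K := Ideal.Quotient.lift (Ideal.span {f}) (mkK.comp (ψ : R[X] →+* L)) hker
  have hψbar : ∀ p, ψbar (Ideal.Quotient.mk _ p) = mkK (ψ p) := fun p => Ideal.Quotient.lift_mk _ _ _
  have hC : ∀ a : R, ψ (C a) = algebraMap R[X] L (C a) := by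
    intro a
    have e : (C a : R[X]) = algebraMap R R[X] a := rfl
    rw [e, ψ.commutes, IsScalarTower.algebraMap_apply R R[X] L]
  have hαβ : mkK = ψbar.comp (Lam (L := L) hf0 hfm) := by
    apply IsLocalization.ringHom_ext (monoidS R)
    apply Polynomial.ringHom_ext
    · intro a
      simp only [RingHom.comp_apply]
      rw [Lam_algebraMap]
      have : Phi f (C a) = Ideal.Quotient.mk _ (C a) := by
        show aeval (qy f) (C a) = _
        rw [aeval_C]
        rfl
      rw [this, hψbar, hC]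
    · simp only [RingHom.comp_apply]
      rw [Lam_algebraMap, Phi_X]
      show _ = ψbar (Ideal.Quotient.mk _ (-(divX f)))
      rw [hψbar]
      apply Ideal.Quotient.eq.mpr
      have h := X_mul_divX_add f
      rw [hf0] at h
      have hf' : ψ f = ψ X * ψ (divX f) + 1 := by
        conv_lhs => rw [← h]
        rw [map_add, map_mul, C_1, map_one]
      have e : algebraMap R[X] L X - ψ (-(divX f)) = algebraMap R[X] L X * ψ f := by
        rw [hf', map_neg, mul_add, ← mul_assoc, mul_comm (algebraMap R[X] L X) (ψ X), hψ]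
        ring
      rw [e]
      exact K.mul_mem_left _ (Ideal.mem_span_singleton_self _)
  obtain ⟨p, hp⟩ := Ideal.Quotient.mk_surjective (Lam (L := L) hf0 hfm l)
  refine ⟨p, ?_⟩
  apply Ideal.Quotient.eq.mp
  show mkK l = mkK (ψ p)
  rw [← hψbar, hp]
  exact congrArg (fun φ : L →+* L ⧸ K => φ l) hαβ

end Loc

section PartA
variable {R : Type u} [CommRing R] [IsLocalRing R]

lemma exists_normalized (I : Ideal R[X])
    (hI : I ⊔ (maximalIdeal R).map (algebraMap R R[X]) = ⊤) :
    ∃ f ∈ I, f.coeff 0 = 1 ∧ ∀ i, i ≠ 0 → f.coeff i ∈ maximalIdeal R := by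
  have h1 : (1 : R[X]) ∈ I ⊔ (maximalIdeal R).map (algebraMap R R[X]) := by
    rw [hI]; trivial
  obtain ⟨f₀, hf₀, μ, hμ, hsum⟩ := Submodule.mem_sup.mp h1
  rw [Polynomial.algebraMap_eq, Ideal.mem_map_C_iff] at hμ
  have hc : ∀ i, f₀.coeff i + μ.coeff i = (1 : R[X]).coeff i := by
    intro i
    rw [← coeff_add, hsum]
  have hu : IsUnit (f₀.coeff 0) := by
    have h0 := hc 0
    rw [coeff_one_zero] at h0
    have : f₀.coeff 0 = 1 - μ.coeff 0 := by rw [← h0]; ring
    rw [this]
    exact IsLocalRing.isUnit_one_sub_self_of_mem_nonunits _ (hμ 0)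
  obtain ⟨u, hu⟩ := hu
  refine ⟨C ((u⁻¹ : Rˣ) : R) * f₀, I.mul_mem_left _ hf₀, ?_, ?_⟩
  · rw [coeff_C_mul, ← hu]
    exact Units.inv_mul u
  · intro i hi
    rw [coeff_C_mul]
    refine Ideal.mul_mem_left _ _ ?_
    have h0 := hc i
    rw [coeff_one, if_neg hi] at h0
    have : f₀.coeff i = - μ.coeff i := eq_neg_of_add_eq_zero_left h0
    rw [this]
    exact neg_mem (hμ i)

lemma psi_sub_one_mem {L : Type u} [CommRing L] [Algebra R L] (ψ : R[X] →ₐ[R] L) (f : R[X]) (hfm : ∀ i, (f - 1).coeff i ∈ maximalIdeal R) :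
    ψ f - 1 ∈ (maximalIdeal R).map (algebraMap R L) := by
  have h1 : f - 1 ∈ (maximalIdeal R).map (algebraMap R R[X]) := by
    rw [Polynomial.algebraMap_eq, Ideal.mem_map_C_iff]
    exact hfm
  have h2 := Ideal.mem_map_of_mem (ψ : R[X] →+* L) h1
  rw [Ideal.map_map] at h2
  have h3 : (ψ : R[X] →+* L).comp (algebraMap R R[X]) = algebraMap R L := by
    ext a
    exact ψ.commutes a
  rw [h3] at h2
  have : (ψ : R[X] →+* L) (f - 1) = ψ f - 1 := by
    show ψ (f - 1) = _
    rw [map_sub, map_one]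
  rw [this] at h2
  exact h2

variable {L : Type u} [CommRing L] [Algebra R[X] L] [IsLocalization (monoidS R) L]
  [Algebra R L] [IsScalarTower R R[X] L]
  (ψ : R[X] →ₐ[R] L) (hψ : ψ X * algebraMap R[X] L X = 1)

include hψ in
theorem partA (I : Ideal R[X]) (hI : I ⊔ (maximalIdeal R).map (algebraMap R R[X]) = ⊤) :
    (I.map ψ.toRingHom).comap ψ.toRingHom = I ∧
    I.map ψ.toRingHom ⊔ (maximalIdeal R).map (algebraMap R L) = ⊤ ∧
    Function.Bijective (Ideal.quotientMap (I.map ψ.toRingHom) ψ.toRingHom Ideal.le_comap_map) := by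
  obtain ⟨f, hfI, hf0, hfm⟩ := exists_normalized I hI
  have hA1 : (I.map ψ.toRingHom).comap ψ.toRingHom = I := comap_map_eq hf0 hfm ψ hψ I hfI
  refine ⟨hA1, ?_, ?_, ?_⟩
  · rw [Ideal.eq_top_iff_one]
    have h1 : ψ f ∈ I.map ψ.toRingHom := Ideal.mem_map_of_mem ψ.toRingHom hfI
    have h2 : ψ f - 1 ∈ (maximalIdeal R).map (algebraMap R L) := by
      apply psi_sub_one_mem ψ
      intro i
      rw [coeff_sub, coeff_one]
      split_ifs with h
      · rw [h, hf0, sub_self]; exact zero_mem _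
      · rw [sub_zero]; exact hfm i h
    have : (1 : L) = ψ f - (ψ f - 1) := by ring
    rw [this]
    exact Ideal.sub_mem _ (Ideal.mem_sup_left h1) (Ideal.mem_sup_right h2)
  · apply Ideal.quotientMap_injective'
    exact hA1.le
  · intro z
    obtain ⟨l, rfl⟩ := Ideal.Quotient.mk_surjective z
    obtain ⟨p, hp⟩ := exists_sub_mem hf0 hfm ψ hψ l
    refine ⟨Ideal.Quotient.mk _ p, ?_⟩
    rw [Ideal.quotientMap_mk]
    apply Ideal.Quotient.eq.mpr
    have hle : Ideal.span {ψ f} ≤ I.map ψ.toRingHom := by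
      rw [Ideal.span_singleton_le_iff_mem]
      exact Ideal.mem_map_of_mem ψ.toRingHom hfI
    have := hle hp
    have h2 : ψ.toRingHom p - l = -(l - ψ p) := by
      show ψ p - l = _
      ring
    rw [h2]
    exact neg_mem this

end PartA

end Groth.Agent.Lib.Helper11.Weier
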