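import Mathlib
import Groth.Agent.Lib.Helper3HenselG

set_option autoImplicit false
universe u v

namespace Groth.Agent.Lib.Helper3.Hensel

open Polynomial IsLocalRing TensorProduct

/-- `R[X]/(f)` is quasi-finite when `f` has a unit coefficient. -/
theorem quasiFinite_adjoinRoot {R : Type*} [CommRing R] (f : R[X]) (n : ℕ)
    (hn : IsUnit (f.coeff n)) : Algebra.QuasiFinite R (AdjoinRoot f) := by
  constructor
  intro p _
  let K := p.ResidueField
  let t : p.Fiber (AdjoinRoot f) := (1 : K) ⊗ₜ[R] AdjoinRoot.root f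
  have htop : Algebra.adjoin K ({t} : Set (p.Fiber (AdjoinRoot f))) = ⊤ := by
    have := Algebra.TensorProduct.adjoin_one_tmul_image_eq_top (A := K)
      ({AdjoinRoot.root f} : Set (AdjoinRoot f)) (AdjoinRoot.adjoinRoot_eq_top (f := f))
    rwa [Set.image_singleton] at this
  have hne : f.map (algebraMap R K) ≠ 0 := by
    intro h0
    have := congrArg (fun q => q.coeff n) h0
    simp only [coeff_map, coeff_zero] at this
    exact (hn.map (algebraMap R K)).ne_zero this
  have hroot : aeval t (f.map (algebraMap R K)) = 0 := by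
    rw [aeval_map_algebraMap]
    have := aeval_algHom_apply
      (Algebra.TensorProduct.includeRight (R := R) (A := K) (B := AdjoinRoot f))
      (AdjoinRoot.root f) f
    change aeval t f = _ at this
    rw [this, AdjoinRoot.aeval_eq, AdjoinRoot.mk_self, map_zero]
  have hint : IsIntegral K t := (IsAlgebraic.isIntegral ⟨_, hne, hroot⟩)
  haveI := Algebra.finite_adjoin_simple_of_isIntegral hint
  rw [htop] at this
  exact Module.Finite.equiv (Subalgebra.topEquiv (R := K) (A := p.Fiber (AdjoinRoot f))).toLinearEquiv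

/-- unit criterion via Nakayama -/
theorem isUnit_of_mul_sub_one_mem {R C : Type*} [CommRing R] [IsLocalRing R] [CommRing C]
    [Algebra R C] [Module.Finite R C] (u w : C)
    (h : u * w - 1 ∈ (maximalIdeal R).map (algebraMap R C)) : IsUnit u := by
  let N : Submodule R C := (Ideal.span {u}).restrictScalars R
  have key : (⊤ : Submodule R C) ≤ N ⊔ (maximalIdeal R) • (⊤ : Submodule R C) := by
    intro c _
    have h3 : c = c * (u * w) + (- c) * (u * w - 1) := by ring
    rw [h3]
    refine Submodule.add_mem_sup ?_ ?_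
    · change c * (u * w) ∈ Ideal.span {u}
      rw [Ideal.mem_span_singleton']
      exact ⟨c * w, by ring⟩
    · rw [Ideal.smul_top_eq_map]
      exact Ideal.mul_mem_left _ _ h
  have hN : (⊤ : Submodule R C) ≤ N :=
    Submodule.le_of_le_smul_of_le_jacobson_bot Module.Finite.fg_top
      (IsLocalRing.maximalIdeal_le_jacobson _) key
  have h1 : (1 : C) ∈ Ideal.span {u} := hN (Submodule.mem_top (x := (1 : C)))
  rw [Ideal.mem_span_singleton'] at h1
  obtain ⟨a, ha⟩ := h1
  exact IsUnit.of_mul_eq_one a (by rw [mul_comm]; exact ha)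

/-- idempotents lift modulo any ideal in a finite product of local rings -/
theorem exists_idempotent_lift_pi {S₁ : Type*} [CommRing S₁] {ι : Type*} [Fintype ι]
    (A : ι → Type*) [∀ i, CommRing (A i)] [∀ i, IsLocalRing (A i)] (Φ : S₁ ≃+* (∀ i, A i))
    (I : Ideal S₁) (y : S₁) (hy : y * y - y ∈ I) :
    ∃ ε : S₁, IsIdempotentElem ε ∧ ε - y ∈ I := by
  classical
  let ε' : ∀ i, A i := fun i => if IsUnit (Φ y i) then 1 else 0
  let es : ι → S₁ := fun i => Φ.symm (Pi.single i 1)
  have hsum : ∑ i, es i = 1 := by
    apply Φ.injective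
    rw [map_sum, map_one]
    simp only [es, RingEquiv.apply_symm_apply]
    exact Finset.univ_sum_single (1 : ∀ i, A i)
  have hcomp : ∀ (i : ι) (z w : S₁), Φ z i = Φ w i → z * es i = w * es i := by
    intro i z w h
    apply Φ.injective
    rw [map_mul, map_mul]
    simp only [es, RingEquiv.apply_symm_apply]
    ext j
    by_cases hj : j = i
    · subst hj; simp [h]
    · simp [Pi.single_eq_of_ne hj]
  refine ⟨Φ.symm ε', ?_, ?_⟩
  · change Φ.symm ε' * Φ.symm ε' = Φ.symm ε'
    rw [← map_mul]
    congr 1
    ext i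
    simp only [ε', Pi.mul_apply]
    split_ifs <;> simp
  · set z := Φ.symm ε' - y with hz
    have hzi : ∀ i, Φ z i = ε' i - Φ y i := by
      intro i
      rw [hz, map_sub, RingEquiv.apply_symm_apply]; rfl
    have hmem : ∀ i, z * es i ∈ I := by
      intro i
      by_cases hu : IsUnit (Φ y i)
      · obtain ⟨u, hu'⟩ := hu
        let w := -(y * y - y) * Φ.symm (Pi.single i (↑u⁻¹ : A i))
        have hw : Φ z i = Φ w i := by
          rw [hzi]
          simp only [w, ε', map_mul, map_neg, map_sub, RingEquiv.apply_symm_apply, Pi.mul_apply,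
            Pi.neg_apply, Pi.sub_apply, Pi.single_eq_same]
          rw [if_pos ⟨u, hu'⟩, ← hu']
          have : (↑u : A i) * ↑u⁻¹ = 1 := Units.mul_inv u
          linear_combination (-(1 - (↑u : A i))) * this
        rw [hcomp i z w hw]
        exact Ideal.mul_mem_right _ _ (Ideal.mul_mem_right _ _ (I.neg_mem hy))
      · have hu1 : IsUnit (1 - Φ y i) := IsLocalRing.isUnit_one_sub_self_of_mem_nonunits _ hu
        obtain ⟨u, hu'⟩ := hu1
        let w := (y * y - y) * Φ.symm (Pi.single i (↑u⁻¹ : A i))
        have hw : Φ z i = Φ w i := by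
          rw [hzi]
          simp only [w, ε', map_mul, map_sub, RingEquiv.apply_symm_apply, Pi.mul_apply,
            Pi.sub_apply, Pi.single_eq_same]
          rw [if_neg hu]
          have h1 : (↑u : A i) * ↑u⁻¹ = 1 := Units.mul_inv u
          have h2 : (↑u : A i) = 1 - Φ y i := hu'
          rw [h2] at h1
          linear_combination (Φ y i) * h1
        rw [hcomp i z w hw]
        exact Ideal.mul_mem_right _ _ (Ideal.mul_mem_right _ _ hy)
    have : z = ∑ i, z * es i := by rw [← Finset.mul_sum, hsum, mul_one]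
    rw [this]
    exact Ideal.sum_mem _ (fun i _ => hmem i)

/-- idempotents lift modulo any ideal in a finite algebra over a henselian local ring -/
theorem exists_idempotent_lift (R : Type u) [CommRing R] [HenselianLocalRing R] (S₁ : Type u)
    [CommRing S₁] [Algebra R S₁] [Module.Finite R S₁] (I : Ideal S₁) (y : S₁)
    (hy : y * y - y ∈ I) : ∃ ε : S₁, IsIdempotentElem ε ∧ ε - y ∈ I := by
  obtain ⟨ι, _, A, _, hloc, ⟨Φ⟩⟩ := exists_pi_isLocalRing_of_finite R S₁
  exact exists_idempotent_lift_pi A Φ I y hy

end Groth.Agent.Lib.Helper3.Hensel
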