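import Mathlib
import Groth.Agent.Lib.Helper3HenselH

set_option autoImplicit false
universe u v

namespace Groth.Agent.Lib.Helper3.Hensel

open Polynomial IsLocalRing TensorProduct

/-- Nakayama generation: a finite algebra generated by `x` in which a monic `G₀` of degree `d`
vanishes at `x` modulo `m` admits a monic `g` of degree `d` vanishing at `x`. -/
theorem exists_monic_aeval_eq_zero {R C : Type*} [CommRing R] [IsLocalRing R] [CommRing C]
    [Algebra R C] [Module.Finite R C] (x : C) (hx : Function.Surjective (aeval (R := R) x))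
    (G₀ : R[X]) (hG₀ : G₀.Monic)
    (h : aeval x G₀ ∈ (maximalIdeal R).map (algebraMap R C)) :
    ∃ g : R[X], g.Monic ∧ g.natDegree = G₀.natDegree ∧ aeval x g = 0 := by
  set d := G₀.natDegree with hd
  let N : Submodule R C := Submodule.map (aeval (R := R) x).toLinearMap (degreeLT R d)
  have key : (⊤ : Submodule R C) ≤ N ⊔ (maximalIdeal R) • (⊤ : Submodule R C) := by
    intro c _
    obtain ⟨p, rfl⟩ := hx c
    have h1 : p = p %ₘ G₀ + G₀ * (p /ₘ G₀) := (modByMonic_add_div p G₀).symm
    rw [h1, map_add, map_mul]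
    refine Submodule.add_mem_sup ?_ ?_
    · refine ⟨p %ₘ G₀, ?_, rfl⟩
      rw [SetLike.mem_coe, mem_degreeLT]
      calc (p %ₘ G₀).degree < G₀.degree := degree_modByMonic_lt p hG₀
        _ = (d : WithBot ℕ) := by rw [hd, degree_eq_natDegree hG₀.ne_zero]
    · rw [Ideal.smul_top_eq_map]
      exact Ideal.mul_mem_right _ _ h
  have hN : (⊤ : Submodule R C) ≤ N :=
    Submodule.le_of_le_smul_of_le_jacobson_bot Module.Finite.fg_top
      (IsLocalRing.maximalIdeal_le_jacobson _) key
  obtain ⟨r, hr, hrx⟩ := hN (Submodule.mem_top (x := x ^ d))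
  rw [SetLike.mem_coe, mem_degreeLT] at hr
  refine ⟨X ^ d - r, monic_X_pow_sub hr, ?_, ?_⟩
  · have h2 : (X ^ d - r : R[X]).degree = (d : WithBot ℕ) := by
      rw [degree_sub_eq_left_of_degree_lt (by rwa [degree_X_pow]), degree_X_pow]
    exact natDegree_eq_of_degree_eq_some h2
  · rw [map_sub, map_pow, aeval_X]
    change x ^ d - aeval x r = 0
    have : aeval x r = x ^ d := hrx
    rw [this, sub_self]

/-- lifting idempotents of the closed fibre of a quasi-finite algebra to idempotents with
module-finite factor -/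
theorem exists_idempotent_finite_of_quasiFinite (R : Type u) [CommRing R] [HenselianLocalRing R]
    (S : Type u) [CommRing S] [Algebra R S] [Algebra.FiniteType R S] [Algebra.QuasiFinite R S]
    (y : S) (hy : y * y - y ∈ (maximalIdeal R).map (algebraMap R S)) :
    ∃ ε : S, IsIdempotentElem ε ∧ ε - y ∈ (maximalIdeal R).map (algebraMap R S) ∧
      Module.Finite R (S ⧸ Ideal.span {1 - ε}) := by
  obtain ⟨e, he, hfin, htop⟩ := quasiFinite_split R S
  set mS := (maximalIdeal R).map (algebraMap R S) with hmS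
  have he' : e * e = e := he.eq
  have h1e : 1 - e ∈ mS := by
    have h1 : (1 : S ⧸ Ideal.span {e}) ∈
        Ideal.map (algebraMap R (S ⧸ Ideal.span {e})) (maximalIdeal R) := by
      rw [htop]; trivial
    have h2 : Ideal.map (algebraMap R (S ⧸ Ideal.span {e})) (maximalIdeal R) =
        mS.map (Ideal.Quotient.mk (Ideal.span {e})) := by
      rw [hmS, Ideal.map_map]; rfl
    rw [h2] at h1
    obtain ⟨μ, hμ, hμ1⟩ := (Ideal.mem_map_iff_of_surjective _ Ideal.Quotient.mk_surjective).mp h1
    have h3 : μ - 1 ∈ Ideal.span {e} := by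
      rw [← Ideal.Quotient.eq]; exact hμ1
    obtain ⟨t, ht⟩ := Ideal.mem_span_singleton'.mp h3
    have h4 : 1 - e = (1 - e) * μ := by
      linear_combination (1 - e) * ht + t * he'
    rw [h4]
    exact Ideal.mul_mem_left _ _ hμ
  let S₁ := S ⧸ Ideal.span {1 - e}
  have hy₁ : Ideal.Quotient.mk (Ideal.span {1 - e}) y * Ideal.Quotient.mk (Ideal.span {1 - e}) y -
      Ideal.Quotient.mk (Ideal.span {1 - e}) y ∈ mS.map (Ideal.Quotient.mk (Ideal.span {1 - e})) := by
    rw [← map_mul, ← map_sub]; exact Ideal.mem_map_of_mem _ hy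
  haveI := hfin
  obtain ⟨ε₁, hε₁, hε₁y⟩ := exists_idempotent_lift R S₁ _ _ hy₁
  obtain ⟨εt, rfl⟩ := Ideal.Quotient.mk_surjective ε₁
  have hidem : εt * εt - εt ∈ Ideal.span {1 - e} := by
    rw [← Ideal.Quotient.eq, map_mul]; exact hε₁.eq
  obtain ⟨t, ht⟩ := Ideal.mem_span_singleton'.mp hidem
  refine ⟨e * εt, ?_, ?_, ?_⟩
  · change e * εt * (e * εt) = e * εt
    linear_combination (εt * εt - t) * he' + e * (-ht)
  · rw [← map_sub] at hε₁y
    obtain ⟨μ, hμ, hμ1⟩ := (Ideal.mem_map_iff_of_surjective _ Ideal.Quotient.mk_surjective).mp hε₁y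
    have h3 : μ - (εt - y) ∈ Ideal.span {1 - e} := by
      rw [← Ideal.Quotient.eq]; exact hμ1
    obtain ⟨t', ht'⟩ := Ideal.mem_span_singleton'.mp h3
    have h4 : e * εt - y = e * μ - (1 - e) * y := by
      linear_combination e * ht' + t' * he'
    rw [h4]
    exact Ideal.sub_mem _ (Ideal.mul_mem_left _ _ hμ) (Ideal.mul_mem_right _ _ h1e)
  · have hle : Ideal.span {1 - e} ≤ Ideal.span {1 - e * εt} := by
      rw [Ideal.span_singleton_le_span_singleton]
      exact ⟨1 - e, by linear_combination (-εt) * he'⟩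
    exact Module.Finite.of_surjective (Ideal.Quotient.factorₐ R hle).toLinearMap
      (Ideal.Quotient.factor_surjective hle)

end Groth.Agent.Lib.Helper3.Hensel
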