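import Mathlib
import Groth.Agent.Lib.Helper3HenselH
import Groth.Agent.Lib.Helper3HenselI

set_option autoImplicit false
universe u v

namespace Groth.Agent.Lib.Helper3.Hensel

open Polynomial IsLocalRing TensorProduct

theorem mk_mem_map_of_map_eq_zero {R : Type*} [CommRing R] [IsLocalRing R] (f p : R[X])
    (hp : p.map (residue R) = 0) :
    AdjoinRoot.mk f p ∈ (maximalIdeal R).map (algebraMap R (AdjoinRoot f)) := by
  rw [← AdjoinRoot.aeval_eq]
  exact aeval_mem_map_of_coeff_mem _ _ (coeff_mem_of_map_eq_zero p hp) _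

/-- **Hensel's lemma, factorization form (non-monic `f`)**. -/
theorem factor_lift (R : Type u) [CommRing R] [HenselianLocalRing R]
    (f : R[X]) (g₀ h₀ : (ResidueField R)[X]) (hg : g₀.Monic)
    (hc : IsCoprime g₀ h₀) (hf : f.map (residue R) = g₀ * h₀) :
    ∃ g h : R[X], f = g * h ∧ g.Monic ∧ g.map (residue R) = g₀ ∧ h.map (residue R) = h₀ := by
  by_cases hg1 : g₀ = 1
  · subst hg1
    exact ⟨1, f, by simp, monic_one, by simp, by simpa using hf⟩
  have hf0 : f.map (residue R) ≠ 0 := by
    intro h0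
    rw [hf] at h0
    rcases mul_eq_zero.mp h0 with h | h
    · exact hg.ne_zero h
    · subst h
      exact hg1 (hg.eq_one_of_isUnit (isCoprime_zero_right.mp hc))
  obtain ⟨n, hn⟩ : ∃ n, (f.map (residue R)).coeff n ≠ 0 := by
    by_contra hcon
    push Not at hcon
    exact hf0 (Polynomial.ext (by simpa using hcon))
  have hunit : IsUnit (f.coeff n) := by
    rw [coeff_map] at hn
    by_contra h
    exact hn ((residue_eq_zero_iff _).mpr h)
  let S := AdjoinRoot f
  haveI : Algebra.QuasiFinite R S := quasiFinite_adjoinRoot f n hunit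
  haveI : Algebra.FiniteType R S :=
    Algebra.FiniteType.of_surjective (AdjoinRoot.mkₐ f) AdjoinRoot.mk_surjective
  set mS := (maximalIdeal R).map (algebraMap R S) with hmS
  -- Bezout and lifts
  obtain ⟨a, b, hab⟩ := hc
  obtain ⟨A, hA⟩ := map_surjective (residue R) residue_surjective a
  obtain ⟨B, hB⟩ := map_surjective (residue R) residue_surjective b
  obtain ⟨H₀, hH₀⟩ := map_surjective (residue R) residue_surjective h₀
  obtain ⟨G₀, hG₀, hG₀deg, hG₀monic⟩ := lifts_and_natDegree_eq_and_monic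
    ((mem_lifts g₀).mpr (map_surjective (residue R) residue_surjective g₀)) hg
  let y : S := AdjoinRoot.mk f (B * H₀)
  have hy : y * y - y ∈ mS := by
    have h1 : y * y - y = AdjoinRoot.mk f (B * H₀ * (B * H₀) - B * H₀ + A * B * f) := by
      simp only [y, map_add, map_sub, map_mul, AdjoinRoot.mk_self, mul_zero, add_zero]
    rw [h1]
    apply mk_mem_map_of_map_eq_zero
    simp only [Polynomial.map_add, Polynomial.map_sub, Polynomial.map_mul, hA, hB, hH₀, hf]
    linear_combination (b * h₀) * hab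
  obtain ⟨ε, hε, hεy, hεfin⟩ := exists_idempotent_finite_of_quasiFinite R S y hy
  have hε' : ε * ε = ε := hε.eq
  -- the finite quotient
  let Sε := S ⧸ Ideal.span {1 - ε}
  let mkε : S →ₐ[R] Sε := Ideal.Quotient.mkₐ R (Ideal.span {1 - ε})
  let xε : Sε := mkε (AdjoinRoot.root f)
  have hxε : ∀ p : R[X], aeval xε p = mkε (AdjoinRoot.mk f p) := by
    intro p
    rw [← AdjoinRoot.aeval_eq, ← aeval_algHom_apply]
  have hsurj : Function.Surjective (aeval (R := R) xε) := by
    intro c
    obtain ⟨s, rfl⟩ := Ideal.Quotient.mk_surjective c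
    obtain ⟨p, rfl⟩ := AdjoinRoot.mk_surjective s
    exact ⟨p, hxε p⟩
  have hmkε1 : mkε ε = 1 := by
    have : mkε (1 - ε) = 0 :=
      Ideal.Quotient.eq_zero_iff_mem.mpr (Ideal.mem_span_singleton_self _)
    rw [map_sub, map_one, sub_eq_zero] at this
    exact this.symm
  have hG₀S : AdjoinRoot.mk f G₀ * ε ∈ mS := by
    have h1 : AdjoinRoot.mk f G₀ * ε = AdjoinRoot.mk f G₀ * (ε - y) +
        AdjoinRoot.mk f (G₀ * (B * H₀) - B * f) := by
      simp only [y, map_sub, map_mul, AdjoinRoot.mk_self, mul_zero, sub_zero]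
      ring
    rw [h1]
    refine Ideal.add_mem _ (Ideal.mul_mem_left _ _ hεy) ?_
    apply mk_mem_map_of_map_eq_zero
    simp only [Polynomial.map_sub, Polynomial.map_mul, hG₀, hB, hH₀, hf]
    ring
  have hG₀x : aeval xε G₀ ∈ (maximalIdeal R).map (algebraMap R Sε) := by
    have h1 : aeval xε G₀ = mkε (AdjoinRoot.mk f G₀ * ε) := by
      rw [hxε, map_mul, hmkε1, mul_one]
    rw [h1]
    have h2 : (maximalIdeal R).map (algebraMap R Sε) = mS.map mkε.toRingHom := by
      rw [hmS, Ideal.map_map]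
      congr 1
    rw [h2]
    exact Ideal.mem_map_of_mem _ hG₀S
  haveI := hεfin
  obtain ⟨g, hgm, hgdeg, hgx⟩ := exists_monic_aeval_eq_zero xε hsurj G₀ hG₀monic hG₀x
  have h5 : AdjoinRoot.mk f g * ε = 0 := by
    rw [hxε] at hgx
    have h1 : AdjoinRoot.mk f g ∈ Ideal.span {1 - ε} := Ideal.Quotient.eq_zero_iff_mem.mp hgx
    obtain ⟨t, ht⟩ := Ideal.mem_span_singleton'.mp h1
    rw [← ht]
    linear_combination (-t) * hε'
  obtain ⟨E, hE⟩ := AdjoinRoot.mk_surjective ε
  have h6 : f ∣ g * E := by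
    rw [← AdjoinRoot.mk_eq_zero, map_mul, hE]; exact h5
  obtain ⟨v, hv⟩ := h6
  -- reduction of `E`
  have hEbar : ∃ t : (ResidueField R)[X], E.map (residue R) = b * h₀ - g₀ * h₀ * t := by
    have h1 : AdjoinRoot.mk f (E - B * H₀) ∈ mS := by
      rw [map_sub, hE]; exact hεy
    have h2 : mS = ((maximalIdeal R).map (C : R →+* R[X])).map (AdjoinRoot.mk f) := by
      rw [hmS, Ideal.map_map]; rfl
    rw [h2] at h1
    obtain ⟨M, hM, hM1⟩ := (Ideal.mem_map_iff_of_surjective _ AdjoinRoot.mk_surjective).mp h1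
    rw [Ideal.mem_map_C_iff] at hM
    have hM0 : M.map (residue R) = 0 := by
      ext k
      rw [coeff_map, coeff_zero, residue_eq_zero_iff]
      exact hM k
    have h3 : f ∣ M - (E - B * H₀) := by
      rw [← AdjoinRoot.mk_eq_zero, map_sub, hM1, sub_self]
    obtain ⟨t, ht⟩ := h3
    refine ⟨t.map (residue R), ?_⟩
    have := congrArg (Polynomial.map (residue R)) ht
    simp only [Polynomial.map_sub, Polynomial.map_mul, hM0, hB, hH₀, hf] at this
    linear_combination (-1 : (ResidueField R)[X]) * this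
  obtain ⟨t, ht⟩ := hEbar
  set c : (ResidueField R)[X] := -(a + h₀ * t) with hcdef
  have hE1 : E.map (residue R) = 1 + g₀ * c := by
    rw [ht, hcdef]
    linear_combination hab
  have hvbar : g.map (residue R) * E.map (residue R) = g₀ * h₀ * v.map (residue R) := by
    have := congrArg (Polynomial.map (residue R)) hv
    simpa only [Polynomial.map_mul, hf] using this
  have hgbar : g.map (residue R) = g₀ := by
    have hdvd : g₀ ∣ g.map (residue R) := by
      have h1 : g₀ ∣ g.map (residue R) * E.map (residue R) := by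
        rw [hvbar, mul_assoc]; exact dvd_mul_right _ _
      rw [hE1, mul_add, mul_one] at h1
      exact (dvd_add_left ⟨g.map (residue R) * c, by ring⟩).mp h1
    refine eq_of_monic_of_dvd_of_natDegree_le hg (hgm.map _) hdvd ?_
    rw [hgm.natDegree_map, hgdeg, hG₀deg]
  have hvh : h₀ * v.map (residue R) = 1 + g₀ * c := by
    rw [hgbar, mul_assoc] at hvbar
    rw [← hE1]
    exact (mul_left_cancel₀ hg.ne_zero hvbar).symm
  -- `v` is a unit modulo `g`
  haveI : Module.Finite R (AdjoinRoot g) := hgm.finite_adjoinRoot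
  obtain ⟨C', hC'⟩ := map_surjective (residue R) residue_surjective c
  have hu : IsUnit (AdjoinRoot.mk g v) := by
    apply isUnit_of_mul_sub_one_mem (R := R) (AdjoinRoot.mk g v) (AdjoinRoot.mk g H₀)
    have h1 : AdjoinRoot.mk g v * AdjoinRoot.mk g H₀ - 1 =
        AdjoinRoot.mk g (v * H₀ - 1 - g * C') := by
      simp only [map_sub, map_mul, map_one, AdjoinRoot.mk_self, zero_mul, sub_zero]
    rw [h1]
    apply mk_mem_map_of_map_eq_zero
    simp only [Polynomial.map_sub, Polynomial.map_mul, Polynomial.map_one, hH₀, hC', hgbar]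
    linear_combination hvh
  have hgf : g ∣ f := by
    rw [← AdjoinRoot.mk_eq_zero]
    have h1 : AdjoinRoot.mk g f * AdjoinRoot.mk g v = 0 := by
      rw [← map_mul, ← hv, map_mul, AdjoinRoot.mk_self, zero_mul]
    exact (hu.mul_left_eq_zero).mp h1
  obtain ⟨h, hh⟩ := hgf
  refine ⟨g, h, hh, hgm, hgbar, ?_⟩
  have := congrArg (Polynomial.map (residue R)) hh
  rw [Polynomial.map_mul, hf, hgbar] at this
  exact (mul_left_cancel₀ hg.ne_zero this).symm

end Groth.Agent.Lib.Helper3.Hensel
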