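import Mathlib
import Groth.Agent.Lib.Helper11Weier
import Groth.Agent.Lib.Helper3HenselJ

/-!
# Helper11 WeierB: ideals of the localization `L` comaximal with `m` (Henselian case)
-/

set_option autoImplicit false
universe u

open Polynomial IsLocalRing

namespace Groth.Agent.Lib.Helper11.Weier

section MonoidS
variable {R : Type u} [CommRing R]

lemma exists_X_pow_mul (s : R[X]) (hs : s ∈ monoidS R) :
    ∃ (a : ℕ) (w : R[X]), w.coeff 0 = 1 ∧ s = X ^ a * w := by
  induction hs using Submonoid.closure_induction with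
  | mem x hx =>
    rcases hx with hx | hx
    · exact ⟨0, x, hx, by simp⟩
    · rw [Set.mem_singleton_iff] at hx
      exact ⟨1, 1, by simp, by simp [hx]⟩
  | one => exact ⟨0, 1, by simp, by simp⟩
  | mul x y _ _ hx hy =>
    obtain ⟨a, w, hw, rfl⟩ := hx
    obtain ⟨b, v, hv, rfl⟩ := hy
    refine ⟨a + b, w * v, ?_, by ring⟩
    rw [mul_coeff_zero, hw, hv, one_mul]

end MonoidS

section PartB
variable {R : Type u} [CommRing R] [HenselianLocalRing R]
variable {L : Type u} [CommRing L] [Algebra R[X] L] [IsLocalization (monoidS R) L]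
  [Algebra R L] [IsScalarTower R R[X] L]
  (ψ : R[X] →ₐ[R] L) (hψ : ψ X * algebraMap R[X] L X = 1)

omit [HenselianLocalRing R] [IsLocalization (monoidS R) L] in
include hψ in
lemma psi_reflect_mul_pow (a : ℕ) (P : R[X]) (hP : P.natDegree ≤ a) :
    ψ (reflect a P) * (algebraMap R[X] L X) ^ a = algebraMap R[X] L P := by
  letI : Invertible (algebraMap R[X] L X) := ⟨ψ X, hψ, by rw [mul_comm]; exact hψ⟩
  have h := eval₂_reflect_mul_pow (algebraMap R L) (algebraMap R[X] L X) a P hP
  have e1 : ψ = aeval (ψ X) := Polynomial.algHom_ext (by simp)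
  have e2 : IsScalarTower.toAlgHom R R[X] L = aeval (algebraMap R[X] L X) :=
    Polynomial.algHom_ext (by simp)
  have e3 : algebraMap R[X] L P = eval₂ (algebraMap R L) (algebraMap R[X] L X) P := by
    rw [← aeval_def, ← e2]
    rfl
  have e4 : ψ (reflect a P) = eval₂ (algebraMap R L) (ψ X) (reflect a P) := by
    rw [← aeval_def]
    exact congrArg (fun φ : R[X] →ₐ[R] L => φ (reflect a P)) e1
  rw [e3, e4]
  exact h

omit [IsLocalization (monoidS R) L] [Algebra R[X] L] [IsScalarTower R R[X] L] [CommRing L]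
  [Algebra R L] in
lemma map_residue_ne_zero (s : R[X]) (hs : s ∈ monoidS R) : s.map (residue R) ≠ 0 := by
  obtain ⟨a, w, hw, rfl⟩ := exists_X_pow_mul s hs
  rw [Polynomial.map_mul, Polynomial.map_pow, map_X]
  apply mul_ne_zero (pow_ne_zero _ X_ne_zero)
  intro h
  have := congrArg (fun q => coeff q 0) h
  simp only [coeff_map, hw, map_one, coeff_zero] at this
  exact one_ne_zero this

include hψ in
/-- Henselian key step: an ideal of `L` comaximal with `mL` contains `ψ f` for a normalized `f` -/
theorem exists_normalized_of_loc (J : Ideal L)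
    (hJ : J ⊔ (maximalIdeal R).map (algebraMap R L) = ⊤) :
    ∃ f : R[X], ψ f ∈ J ∧ f.coeff 0 = 1 ∧ ∀ i, i ≠ 0 → f.coeff i ∈ maximalIdeal R := by
  have h1 : (1 : L) ∈ J ⊔ (maximalIdeal R).map (algebraMap R L) := by rw [hJ]; trivial
  obtain ⟨j, hj, μ, hμ, hsum⟩ := Submodule.mem_sup.mp h1
  obtain ⟨G, s, hGs⟩ := IsLocalization.exists_mk'_eq (monoidS R) j
  have hjs : j * algebraMap R[X] L s = algebraMap R[X] L G := by
    rw [← hGs, IsLocalization.mk'_spec]
  have hμ' : μ ∈ Ideal.map (algebraMap R[X] L) ((maximalIdeal R).map (algebraMap R R[X])) := by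
    rw [Ideal.map_map, ← IsScalarTower.algebraMap_eq]; exact hμ
  rw [IsLocalization.mem_map_algebraMap_iff (monoidS R)] at hμ'
  obtain ⟨⟨⟨i, hi⟩, s'⟩, hμs⟩ := hμ'
  have hμs' : μ * algebraMap R[X] L s' = algebraMap R[X] L i := hμs
  have key : algebraMap R[X] L (G * s' + i * s - s * s') = 0 := by
    simp only [map_sub, map_add, map_mul]
    linear_combination (-(algebraMap R[X] L s')) * hjs + (-(algebraMap R[X] L s)) * hμs' +
      (algebraMap R[X] L s * algebraMap R[X] L s') * hsum
  obtain ⟨s'', hs''⟩ := (IsLocalization.map_eq_zero_iff (monoidS R) L _).mp key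
  have hred := congrArg (Polynomial.map (residue R)) hs''
  simp only [Polynomial.map_mul, Polynomial.map_sub, Polynomial.map_add, Polynomial.map_zero]
    at hred
  have hi0 : i.map (residue R) = 0 := by
    rw [Polynomial.algebraMap_eq, Ideal.mem_map_C_iff] at hi
    ext n
    rw [coeff_map, coeff_zero]
    exact (residue_eq_zero_iff _).mpr (hi n)
  rw [hi0, zero_mul, add_zero, ← sub_mul] at hred
  have hGs' : G.map (residue R) = (s : R[X]).map (residue R) := by
    rcases mul_eq_zero.mp hred with h | h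
    · exact absurd h (map_residue_ne_zero _ s''.2)
    · rcases mul_eq_zero.mp h with h | h
      · exact sub_eq_zero.mp h
      · exact absurd h (map_residue_ne_zero _ s'.2)
  obtain ⟨a, w, hw, hsaw⟩ := exists_X_pow_mul s.1 s.2
  have hf : G.map (residue R) = X ^ a * w.map (residue R) := by
    rw [hGs', hsaw, Polynomial.map_mul, Polynomial.map_pow, map_X]
  have hcop : IsCoprime (X ^ a : (ResidueField R)[X]) (w.map (residue R)) := by
    apply IsCoprime.pow_left
    refine ⟨-(divX (w.map (residue R))), 1, ?_⟩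
    have h := divX_mul_X_add (w.map (residue R))
    rw [coeff_map, hw, map_one] at h
    have h' : divX (w.map (residue R)) * X = w.map (residue R) - C 1 := eq_sub_of_add_eq h
    rw [neg_mul, h', one_mul]
    simp
  obtain ⟨P, W, hGPW, hPmonic, hPmap, hWmap⟩ :=
    Groth.Agent.Lib.Helper3.Hensel.factor_lift R G (X ^ a) (w.map (residue R))
      (monic_X_pow a) hcop hf
  -- `W` becomes a unit in `L`
  have hW0 : residue R (W.coeff 0) = 1 := by
    rw [← coeff_map, hWmap, coeff_map, hw, map_one]
  have hWu : IsUnit (W.coeff 0) := by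
    by_contra hnu
    have : W.coeff 0 ∈ maximalIdeal R := hnu
    rw [(residue_eq_zero_iff _).mpr this] at hW0
    exact zero_ne_one hW0
  obtain ⟨u, hu⟩ := hWu
  have hW'mem : C ((u⁻¹ : Rˣ) : R) * W ∈ monoidS R := by
    apply Submonoid.subset_closure
    left
    show (C ((u⁻¹ : Rˣ) : R) * W).coeff 0 = 1
    rw [coeff_C_mul, ← hu]
    exact Units.inv_mul u
  have hWL : IsUnit (algebraMap R[X] L W) := by
    have h1 : IsUnit (algebraMap R[X] L (C ((u⁻¹ : Rˣ) : R) * W)) :=
      IsLocalization.map_units L (⟨_, hW'mem⟩ : monoidS R)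
    have h2 : W = C (u : R) * (C ((u⁻¹ : Rˣ) : R) * W) := by
      rw [← mul_assoc, ← C_mul, Units.mul_inv, C_1, one_mul]
    rw [h2, map_mul]
    exact ((Polynomial.isUnit_C.mpr u.isUnit).map _).mul h1
  have hPJ : algebraMap R[X] L P ∈ J := by
    have : algebraMap R[X] L P * algebraMap R[X] L W ∈ J := by
      rw [← map_mul, ← hGPW, ← hjs]
      exact J.mul_mem_right _ hj
    exact (Ideal.mul_unit_mem_iff_mem J hWL).mp this
  -- degree and coefficients of `P`
  have hPdeg : P.natDegree = a := by
    have := hPmonic.natDegree_map (residue R)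
    rw [hPmap, natDegree_X_pow] at this
    exact this.symm
  have hPcoeff : ∀ n, n < a → P.coeff n ∈ maximalIdeal R := by
    intro n hn
    rw [← residue_eq_zero_iff, ← coeff_map, hPmap, coeff_X_pow, if_neg hn.ne]
  refine ⟨reflect a P, ?_, ?_, ?_⟩
  · have h := psi_reflect_mul_pow ψ hψ a P hPdeg.le
    have h2 : ψ (reflect a P) = algebraMap R[X] L P * (ψ X) ^ a := by
      rw [← h, mul_assoc, ← mul_pow, mul_comm _ (ψ X), hψ, one_pow, mul_one]
    rw [h2]
    exact J.mul_mem_right _ hPJ
  · rw [coeff_reflect, revAt_zero, ← hPdeg]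
    exact hPmonic.coeff_natDegree
  · intro n hn
    rw [coeff_reflect]
    by_cases hna : n ≤ a
    · rw [revAt_le hna]
      exact hPcoeff _ (by omega)
    · rw [revAt_eq_self_of_lt (by omega), coeff_eq_zero_of_natDegree_lt (by omega)]
      exact zero_mem _

include hψ in
theorem partB (J : Ideal L) (hJ : J ⊔ (maximalIdeal R).map (algebraMap R L) = ⊤) :
    (J.comap ψ.toRingHom).map ψ.toRingHom = J ∧
    J.comap ψ.toRingHom ⊔ (maximalIdeal R).map (algebraMap R R[X]) = ⊤ := by
  obtain ⟨f, hfJ, hf0, hfm⟩ := exists_normalized_of_loc ψ hψ J hJ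
  have hfI : f ∈ J.comap ψ.toRingHom := hfJ
  constructor
  · refine le_antisymm Ideal.map_comap_le ?_
    intro j hj
    obtain ⟨p, hp⟩ := exists_sub_mem hf0 hfm ψ hψ j
    have hleJ : Ideal.span {ψ f} ≤ J := (Ideal.span_singleton_le_iff_mem (I := J)).mpr hfJ
    have hpJ : ψ p ∈ J := by
      have : ψ p = j - (j - ψ p) := by ring
      rw [this]
      exact J.sub_mem hj (hleJ hp)
    have hpI : p ∈ J.comap ψ.toRingHom := hpJ
    have hle : Ideal.span {ψ f} ≤ (J.comap ψ.toRingHom).map ψ.toRingHom := by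
      rw [Ideal.span_singleton_le_iff_mem]
      exact Ideal.mem_map_of_mem ψ.toRingHom hfI
    have : j = ψ.toRingHom p + (j - ψ p) := by
      show j = ψ p + (j - ψ p)
      ring
    rw [this]
    exact Ideal.add_mem _ (Ideal.mem_map_of_mem ψ.toRingHom hpI) (hle hp)
  · rw [Ideal.eq_top_iff_one]
    have h2 : f - 1 ∈ (maximalIdeal R).map (algebraMap R R[X]) := by
      rw [Polynomial.algebraMap_eq, Ideal.mem_map_C_iff]
      intro i
      rw [coeff_sub, coeff_one]
      split_ifs with h
      · rw [h, hf0, sub_self]; exact zero_mem _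
      · rw [sub_zero]; exact hfm i h
    have : (1 : R[X]) = f - (f - 1) := by ring
    rw [this]
    exact Ideal.sub_mem _ (Ideal.mem_sup_left hfI) (Ideal.mem_sup_right h2)

end PartB

end Groth.Agent.Lib.Helper11.Weier
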