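import Groth.Prelude.Def_Hens2
import Mathlib.RingTheory.Jacobson.Ideal
import Mathlib.FieldTheory.SeparableDegree

set_option autoImplicit false
universe u

namespace Groth.Agent.Lib.Helper26

open Polynomial

section
variable {R : Type u} [CommRing R] (J : Ideal R) (H : Type u) [CommRing H] [Algebra R H]

/-- The subring `R + JH` of `H`. -/
def plusSubring : Subring H where
  carrier := {x | ∃ r : R, x - algebraMap R H r ∈ J.map (algebraMap R H)}
  mul_mem' := by
    rintro x y ⟨r, hr⟩ ⟨s, hs⟩
    refine ⟨r * s, ?_⟩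
    have : x * y - algebraMap R H (r * s) =
        (x - algebraMap R H r) * y + algebraMap R H r * (y - algebraMap R H s) := by
      rw [map_mul]; ring
    rw [this]
    exact Ideal.add_mem _ (Ideal.mul_mem_right _ _ hr) (Ideal.mul_mem_left _ _ hs)
  one_mem' := ⟨1, by simp⟩
  add_mem' := by
    rintro x y ⟨r, hr⟩ ⟨s, hs⟩
    refine ⟨r + s, ?_⟩
    have : x + y - algebraMap R H (r + s) = (x - algebraMap R H r) + (y - algebraMap R H s) := by
      rw [map_add]; ring
    rw [this]
    exact Ideal.add_mem _ hr hs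
  zero_mem' := ⟨0, by simp⟩
  neg_mem' := by
    rintro x ⟨r, hr⟩
    refine ⟨-r, ?_⟩
    have : -x - algebraMap R H (-r) = -(x - algebraMap R H r) := by
      rw [map_neg]; ring
    rw [this]
    exact Ideal.neg_mem_iff _ |>.mpr hr

theorem mem_plusSubring {x : H} :
    x ∈ plusSubring J H ↔ ∃ r : R, x - algebraMap R H r ∈ J.map (algebraMap R H) := Iff.rfl

theorem mem_plusSubring_of_sub_mem {x y : H} (hy : y ∈ plusSubring J H)
    (hxy : x - y ∈ J.map (algebraMap R H)) : x ∈ plusSubring J H := by
  obtain ⟨r, hr⟩ := hy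
  refine ⟨r, ?_⟩
  have : x - algebraMap R H r = (x - y) + (y - algebraMap R H r) := by ring
  rw [this]
  exact Ideal.add_mem _ hxy hr

theorem henselianRing_plusSubring [hH : HenselianRing H (J.map (algebraMap R H))] :
    HenselianRing (plusSubring J H) ((J.map (algebraMap R H)).comap (plusSubring J H).subtype) where
  jac := by
    intro x hx
    rw [Ideal.mem_jacobson_bot]
    intro y
    have hxy : (x : H) * (y : H) ∈ J.map (algebraMap R H) := Ideal.mul_mem_right _ _ hx
    have hu : IsUnit ((x : H) * (y : H) + 1) := by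
      have := Ideal.mem_jacobson_bot.mp (hH.jac hxy) 1
      simpa using this
    obtain ⟨u, hu⟩ := hu
    have huinv : (u⁻¹ : Hˣ).1 ∈ plusSubring J H := by
      refine ⟨1, ?_⟩
      have h1 : ((x : H) * (y : H) + 1) * (u⁻¹ : Hˣ).1 = 1 := by rw [← hu]; exact u.mul_inv
      have : (u⁻¹ : Hˣ).1 - algebraMap R H 1 = -((x : H) * (y : H) * (u⁻¹ : Hˣ).1) := by
        rw [map_one]
        linear_combination h1
      rw [this]
      exact (Ideal.neg_mem_iff _).mpr (Ideal.mul_mem_right _ _ hxy)
    refine IsUnit.of_mul_eq_one (⟨_, huinv⟩ : plusSubring J H) ?_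
    apply Subtype.ext
    change ((x : H) * (y : H) + 1) * (u⁻¹ : Hˣ).1 = 1
    rw [← hu]; exact u.mul_inv
  is_henselian := by
    intro f hf a₀ h₁ h₂
    set ι := (plusSubring J H).subtype with hι
    have hg : (f.map ι).Monic := hf.map ι
    have e1 : (f.map ι).eval (ι a₀) = ι (f.eval a₀) := by
      rw [eval_map, eval₂_at_apply]
    have e2 : (derivative (f.map ι)).eval (ι a₀) = ι ((derivative f).eval a₀) := by
      rw [derivative_map, eval_map, eval₂_at_apply]
    have h₁' : (f.map ι).eval (ι a₀) ∈ J.map (algebraMap R H) := by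
      rw [e1]; exact h₁
    have h₂' : IsUnit (Ideal.Quotient.mk (J.map (algebraMap R H))
        ((derivative (f.map ι)).eval (ι a₀))) := by
      rw [e2]
      have := h₂.map (Ideal.quotientMap (J.map (algebraMap R H)) ι le_rfl)
      simpa using this
    obtain ⟨a, ha, haa⟩ := hH.is_henselian (f.map ι) hg (ι a₀) h₁' h₂'
    have hamem : a ∈ plusSubring J H := mem_plusSubring_of_sub_mem J H a₀.2 haa
    refine ⟨⟨a, hamem⟩, ?_, haa⟩
    have : ι (f.eval ⟨a, hamem⟩) = 0 := by
      rw [← eval₂_at_apply, ← eval_map]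
      exact ha
    exact (map_eq_zero_iff ι Subtype.val_injective).mp this

/-- A henselization `H` of the pair `(R, J)` satisfies `H = R + JH`. -/
theorem exists_sub_mem_of_isPairHenselization (hH : Hens2.IsPairHenselization R J H) (x : H) :
    ∃ r : R, x - algebraMap R H r ∈ J.map (algebraMap R H) := by
  obtain ⟨hhens, huniv⟩ := hH
  let H' := plusSubring J H
  have hH' : HenselianRing H' ((J.map (algebraMap R H)).comap H'.subtype) :=
    henselianRing_plusSubring J H
  let ι : R →+* H' := (algebraMap R H).codRestrict H' (fun r => ⟨r, by simp⟩)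
  have hι : J.map ι ≤ (J.map (algebraMap R H)).comap H'.subtype := by
    rw [Ideal.map_le_iff_le_comap]
    intro j hj
    exact Ideal.mem_map_of_mem _ hj
  obtain ⟨g, hg, -⟩ := huniv H' _ ι hH' hι
  obtain ⟨g', -, hg'⟩ := huniv H (J.map (algebraMap R H)) (algebraMap R H) hhens le_rfl
  have h1 : H'.subtype.comp g = g' := by
    apply hg'
    rw [RingHom.comp_assoc, hg]
    rfl
  have h2 : RingHom.id H = g' := by
    apply hg'
    rfl
  have : (g x : H) = x := by
    have := congrArg (fun φ : H →+* H => φ x) (h1.trans h2.symm)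
    simpa using this
  rw [← this]
  exact (g x).2

end

end Groth.Agent.Lib.Helper26
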