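import Mathlib
import Groth.Agent.Lib.Helper26PairHzUnique

/-!
# Henselization of `(R, IR)` for an `A`-algebra `R`: quotients by powers of `I` (helper26)
-/

set_option autoImplicit false
universe u

open TensorProduct

namespace Groth.Agent.Lib.Helper26.PairHz

variable {A : Type u} [CommRing A] (I : Ideal A) {R : Type u} [CommRing R] [Algebra A R]
  {B : Type u} [CommRing B] [Algebra R B] [Algebra A B] [IsScalarTower A R B]

theorem quotientMap_bijective_of_eq {K : Ideal R} {K' : Ideal B} (J : Ideal R)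
    (hbij : Function.Bijective
      (Ideal.quotientMap (J.map (algebraMap R B)) (algebraMap R B) Ideal.le_comap_map))
    (hK : K = J) (hK' : K' = J.map (algebraMap R B)) (hle : K ≤ K'.comap (algebraMap R B)) :
    Function.Bijective (Ideal.quotientMap K' (algebraMap R B) hle) := by
  subst hK hK'
  exact hbij

/-- `R/I^r R ≃ B/I^r B` as `A/I^r`-algebras, for a henselization `B` of `(R, IR)`. -/
theorem nonempty_algEquiv_quotient_pow
    (hB : Hens2.IsPairHenselization R (I.map (algebraMap A R)) B) (r : ℕ) :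
    Nonempty ((R ⧸ (I ^ r).map (algebraMap A R)) ≃ₐ[A ⧸ I ^ r]
      (B ⧸ (I ^ r).map (algebraMap A B))) := by
  have hbij := quotientMap_pow_bijective hB r
  have hId1 : (I ^ r).map (algebraMap A R) = (I.map (algebraMap A R)) ^ r := Ideal.map_pow _ _ _
  have hId2 : (I ^ r).map (algebraMap A B) =
      ((I.map (algebraMap A R)) ^ r).map (algebraMap R B) := by
    rw [← hId1, map_map_tower]
  have hle : (I ^ r).map (algebraMap A R) ≤
      ((I ^ r).map (algebraMap A B)).comap (algebraMap R B) :=
    Ideal.map_le_iff_le_comap.mp (le_of_eq (map_map_tower (I ^ r)))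
  have hbij' := quotientMap_bijective_of_eq _ hbij hId1 hId2 hle
  let φ₀ : (R ⧸ (I ^ r).map (algebraMap A R)) →+* (B ⧸ (I ^ r).map (algebraMap A B)) :=
    Ideal.quotientMap _ (algebraMap R B) hle
  have comm : ∀ z : A ⧸ I ^ r, φ₀ (algebraMap _ _ z) = algebraMap _ _ z := by
    intro z
    obtain ⟨a, rfl⟩ := Ideal.Quotient.mk_surjective z
    rw [Ideal.Quotient.algebraMap_quotient_map_quotient,
      Ideal.Quotient.algebraMap_quotient_map_quotient]
    change Ideal.quotientMap _ (algebraMap R B) hle (Ideal.Quotient.mk _ (algebraMap A R a)) = _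
    rw [Ideal.quotientMap_mk, ← IsScalarTower.algebraMap_apply]
  exact ⟨AlgEquiv.ofBijective (AlgHom.mk φ₀ comm) hbij'⟩

theorem etale_quotient_pow [Algebra.Etale A R]
    (hB : Hens2.IsPairHenselization R (I.map (algebraMap A R)) B) (r : ℕ) :
    Algebra.Etale (A ⧸ I ^ r) (B ⧸ (I ^ r).map (algebraMap A B)) := by
  obtain ⟨e⟩ := nonempty_algEquiv_quotient_pow I hB r
  haveI : Algebra.Etale (A ⧸ I ^ r) (R ⧸ (I ^ r).map (algebraMap A R)) :=
    Algebra.Etale.of_equiv (Algebra.TensorProduct.quotIdealMapEquivQuotTensor R (I ^ r)).symm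
  exact Algebra.Etale.of_equiv e

theorem smooth_quotient_pow [Algebra.Smooth A R]
    (hB : Hens2.IsPairHenselization R (I.map (algebraMap A R)) B) (r : ℕ) :
    Algebra.Smooth (A ⧸ I ^ r) (B ⧸ (I ^ r).map (algebraMap A B)) := by
  obtain ⟨e⟩ := nonempty_algEquiv_quotient_pow I hB r
  haveI : Algebra.Smooth (A ⧸ I ^ r) (R ⧸ (I ^ r).map (algebraMap A R)) :=
    Algebra.Smooth.of_equiv (Algebra.TensorProduct.quotIdealMapEquivQuotTensor R (I ^ r)).symm
  exact Algebra.Smooth.of_equiv e

theorem flat_of_flat [Module.Flat A R]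
    (hB : Hens2.IsPairHenselization R (I.map (algebraMap A R)) B) : Module.Flat A B := by
  haveI := flat_of_isPairHenselization hB
  exact Module.Flat.trans A R B

end Groth.Agent.Lib.Helper26.PairHz
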