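import Mathlib
import Groth.Agent.Lib.Helper26PairHzQuot

/-!
# Henselization of a pair (helper26), part 5: change of neighbourhood, trivial cases
-/

set_option autoImplicit false
universe u

open TensorProduct

namespace Groth.Agent.Lib.Helper26.PairHz

open Groth.Agent.Lib.Helper26.HenselNbhd Groth.Agent.Lib.Helper18ColimSys

variable {A : Type u} [CommRing A] {I : Ideal A}

/-- A Henselian pair is its own henselization. -/
theorem isPairHenselization_self [hA : HenselianRing A I] : Hens2.IsPairHenselization A I A := by
  refine ⟨?_, ?_⟩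
  · rw [Algebra.algebraMap_self, Ideal.map_id]
    exact hA
  · intro D _ K f _ _
    refine ⟨f, ?_, ?_⟩
    · ext a; rfl
    · intro g hg
      rw [← hg]
      ext a; rfl

/-- A henselization receives a (unique) map from every étale neighbourhood. -/
theorem exists_algHom_of_nbhd {P : Type u} [CommRing P] [Algebra A P]
    (hP : Hens2.IsPairHenselization A I P) {C : Type u} [CommRing C] [Algebra A C]
    (hC : IsNbhd I C) : ∃ ρ : C →ₐ[A] P, True := by
  haveI := hC.etale
  haveI := hP.1
  obtain ⟨ρ₀, hρ₀⟩ := exists_ringHom_of_etale_nbhd I hC.quotientMap_bijective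
    (I.map (algebraMap A P)) (algebraMap A P) le_rfl
  exact ⟨AlgHom.mk ρ₀ (fun a => congrArg (fun k : A →+* P => k a) hρ₀), trivial⟩

/-- A henselization of `(A, I)` is also a henselization of every étale neighbourhood mapping
to it. -/
theorem isPairHenselization_of_nbhd {P : Type u} [CommRing P] [Algebra A P]
    (hP : Hens2.IsPairHenselization A I P) {C : Type u} [CommRing C] [Algebra A C]
    (hC : IsNbhd I C) [Algebra C P] [IsScalarTower A C P] :
    Hens2.IsPairHenselization C (I.map (algebraMap A C)) P := by
  haveI := hC.etale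
  refine ⟨?_, ?_⟩
  · rw [map_map_tower]
    exact hP.1
  · intro D _ K f hD hK
    have hK' : I.map (f.comp (algebraMap A C)) ≤ K := by
      rw [← Ideal.map_map]; exact hK
    obtain ⟨g, hg, hguniq⟩ := hP.2 D K (f.comp (algebraMap A C)) hD hK'
    refine ⟨g, ?_, ?_⟩
    · change g.comp (algebraMap C P) = f
      apply ringHom_ext_of_etale_nbhd I hC.quotientMap_bijective.2 K hD.jac
        (f.comp (algebraMap A C)) hK' _ _ _ rfl
      rw [RingHom.comp_assoc, ← IsScalarTower.algebraMap_eq]
      exact hg
    · intro g' hg'
      apply hguniq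
      change g'.comp (algebraMap A P) = _
      rw [IsScalarTower.algebraMap_eq A C P, ← RingHom.comp_assoc]
      have : g'.comp (algebraMap C P) = f := hg'
      rw [this]

/-- Transport of a henselization along an algebra isomorphism of the base. -/
theorem isPairHenselization_of_algEquiv_base {R R' : Type u} [CommRing R] [CommRing R']
    [Algebra A R] [Algebra A R'] (e : R ≃ₐ[A] R') {P : Type u} [CommRing P] [Algebra R P]
    [Algebra R' P] (hcomp : ∀ r, algebraMap R' P (e r) = algebraMap R P r)
    (hP : Hens2.IsPairHenselization R (I.map (algebraMap A R)) P) :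
    Hens2.IsPairHenselization R' (I.map (algebraMap A R')) P := by
  have hcomp' : (algebraMap R' P).comp e.toAlgHom.toRingHom = algebraMap R P := by
    ext r; exact hcomp r
  have hI : (I.map (algebraMap A R)).map e.toAlgHom.toRingHom = I.map (algebraMap A R') := by
    rw [Ideal.map_map]
    congr 1
    ext a; simp
  refine ⟨?_, ?_⟩
  · have := hP.1
    rw [← hcomp', ← Ideal.map_map, hI] at this
    exact this
  · intro D _ K f hD hK
    have hK' : (I.map (algebraMap A R)).map (f.comp e.toAlgHom.toRingHom) ≤ K := by
      rw [← Ideal.map_map, hI]; exact hK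
    obtain ⟨g, hg, hguniq⟩ := hP.2 D K (f.comp e.toAlgHom.toRingHom) hD hK'
    refine ⟨g, ?_, ?_⟩
    · ext r'
      have h1 := congrArg (fun k : R →+* D => k (e.symm r')) hg
      simp only [RingHom.coe_comp, Function.comp_apply] at h1
      change g (algebraMap R' P r') = f r'
      rw [← hcomp] at h1
      simpa using h1
    · intro g' hg'
      apply hguniq
      ext r
      change g' (algebraMap R P r) = f (e r)
      rw [← hcomp]
      exact congrArg (fun k : R' →+* D => k (e r)) hg'

end Groth.Agent.Lib.Helper26.PairHz

namespace Groth.Agent.Lib.Helper26.PairHz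

variable {A : Type u} [CommRing A] {I : Ideal A}

/-- `R/IR ≃ B/IB` as `A`-algebras, for a henselization `B` of `(R, IR)`. -/
theorem nonempty_algEquiv_quotient {R B : Type u} [CommRing R] [CommRing B] [Algebra A R]
    [Algebra R B] [Algebra A B] [IsScalarTower A R B]
    (hB : Hens2.IsPairHenselization R (I.map (algebraMap A R)) B) :
    Nonempty ((R ⧸ I.map (algebraMap A R)) ≃ₐ[A] (B ⧸ I.map (algebraMap A B))) := by
  have hbij := quotientMap_pow_bijective hB 1
  have hle : I.map (algebraMap A R) ≤
      (I.map (algebraMap A B)).comap (IsScalarTower.toAlgHom A R B) :=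
    Ideal.map_le_iff_le_comap.mp (le_of_eq (map_map_tower I))
  have hbij' := quotientMap_bijective_of_eq (K := I.map (algebraMap A R))
    (K' := I.map (algebraMap A B)) _ hbij (pow_one _).symm
    (by rw [pow_one, map_map_tower]) hle
  exact ⟨AlgEquiv.ofBijective
    (Ideal.quotientMapₐ (I.map (algebraMap A B)) (IsScalarTower.toAlgHom A R B) hle) hbij'⟩

end Groth.Agent.Lib.Helper26.PairHz
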