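import Mathlib
import Groth.Prelude.Def_Hens2
import Groth.Agent.Lib.Helper11WeierB
import Groth.Agent.Lib.Helper26PairHzMore
import Groth.Agent.Lib.Helper26PairHens
import Groth.Agent.Lib.Helper2HenselQuot
import Groth.Agent.Lib.Helper2HenselRad

/-!
# Helper11 WeierH1: basic structure of `B = R{t}`, a henselization of `(R[X], (X))`
-/

set_option autoImplicit false
universe u

open Polynomial IsLocalRing

namespace Groth.Agent.Lib.Helper11.Weier

section Basic
variable {R : Type u} [CommRing R]
variable {B : Type u} [CommRing B] [Algebra R B] [Algebra R[X] B] [IsScalarTower R R[X] B]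

/-- the image of `X` in `B` -/
noncomputable abbrev tB (B : Type u) [CommRing B] [Algebra R[X] B] : B := algebraMap R[X] B X

omit [Algebra R B] [IsScalarTower R R[X] B] in
lemma map_span_X : (Ideal.span {(X : R[X])}).map (algebraMap R[X] B) = Ideal.span {tB (R := R) B} := by
  rw [Ideal.map_span, Set.image_singleton]

variable (hB : Hens2.IsPairHenselization R[X] (Ideal.span {(X : R[X])}) B)

include hB in
omit [Algebra R B] [IsScalarTower R R[X] B] in
lemma span_t_le_jacobson : Ideal.span {tB (R := R) B} ≤ Ideal.jacobson ⊥ := by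
  rw [← map_span_X]
  exact hB.1.jac

include hB in
omit [Algebra R B] [IsScalarTower R R[X] B] in
lemma exists_eps : ∃ ε : B →+* R, ε.comp (algebraMap R[X] B) = evalRingHom (0 : R) := by
  have hle : (Ideal.span {(X : R[X])}).map (evalRingHom (0 : R)) ≤ (⊥ : Ideal R) := by
    rw [Ideal.map_span, Set.image_singleton, Ideal.span_le]
    intro x hx
    rw [Set.mem_singleton_iff] at hx
    rw [hx]
    simp
  obtain ⟨g, hg, -⟩ := hB.2 R ⊥ (evalRingHom (0 : R)) (Groth.Agent.Lib.Helper2.henselianRing_bot R) hle
  exact ⟨g, hg⟩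

/-- evaluation at `t = 0` -/
noncomputable def eps : B →+* R := (exists_eps hB).choose

omit [Algebra R B] [IsScalarTower R R[X] B] in
lemma eps_algebraMap (p : R[X]) : eps hB (algebraMap R[X] B p) = p.eval 0 := by
  have := congrArg (fun φ : R[X] →+* R => φ p) (exists_eps hB).choose_spec
  exact this

lemma eps_algebraMap_R (r : R) : eps hB (algebraMap R B r) = r := by
  rw [IsScalarTower.algebraMap_apply R R[X] B, eps_algebraMap]
  simp

omit [Algebra R B] [IsScalarTower R R[X] B] in
lemma eps_t : eps hB (tB (R := R) B) = 0 := by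
  rw [eps_algebraMap]; simp

omit [Algebra R B] [IsScalarTower R R[X] B] in
lemma ker_eps : RingHom.ker (eps hB) = Ideal.span {tB (R := R) B} := by
  apply le_antisymm
  · intro b hb
    rw [RingHom.mem_ker] at hb
    obtain ⟨p, hp⟩ := Groth.Agent.Lib.Helper26.exists_sub_mem_of_isPairHenselization _ B hB b
    rw [map_span_X] at hp
    have h1 : eps hB (b - algebraMap R[X] B p) = 0 := by
      obtain ⟨c, hc⟩ := Ideal.mem_span_singleton'.mp hp
      rw [← hc, map_mul, eps_t, mul_zero]
    rw [map_sub, hb, zero_sub, neg_eq_zero, eps_algebraMap] at h1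
    have h2 : X ∣ p := by
      rw [X_dvd_iff, coeff_zero_eq_eval_zero]
      exact h1
    obtain ⟨q, rfl⟩ := h2
    have h3 : algebraMap R[X] B (X * q) ∈ Ideal.span {tB (R := R) B} := by
      rw [map_mul]
      exact Ideal.mul_mem_right _ _ (Ideal.mem_span_singleton_self _)
    have : b = (b - algebraMap R[X] B (X * q)) + algebraMap R[X] B (X * q) := by ring
    rw [this]
    exact Ideal.add_mem _ hp h3
  · rw [Ideal.span_le]
    intro x hx
    rw [Set.mem_singleton_iff] at hx
    rw [hx]
    exact eps_t hB

lemma sub_algebraMap_eps_mem (b : B) :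
    b - algebraMap R B (eps hB b) ∈ Ideal.span {tB (R := R) B} := by
  rw [← ker_eps hB, RingHom.mem_ker, map_sub, eps_algebraMap_R, sub_self]

lemma isUnit_iff_eps (b : B) : IsUnit b ↔ IsUnit (eps hB b) := by
  constructor
  · intro h
    exact h.map _
  · intro h
    have h1 : IsUnit (algebraMap R B (eps hB b)) := h.map _
    have h2 := Groth.Agent.Lib.Helper2.isUnit_add_of_mem_jacobson _ _ h1
      (span_t_le_jacobson hB (sub_algebraMap_eps_mem hB b))
    have : algebraMap R B (eps hB b) + (b - algebraMap R B (eps hB b)) = b := by ring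
    rwa [this] at h2

end Basic

section Local
variable {R : Type u} [CommRing R] [IsLocalRing R]
variable {B : Type u} [CommRing B] [Algebra R B] [Algebra R[X] B] [IsScalarTower R R[X] B]
variable (hB : Hens2.IsPairHenselization R[X] (Ideal.span {(X : R[X])}) B)

include hB in
lemma isLocalRing_B : IsLocalRing B := by
  haveI : Nontrivial B := by
    refine ⟨⟨0, 1, fun h => ?_⟩⟩
    have := congrArg (eps hB) h
    rw [map_zero, map_one] at this
    exact zero_ne_one this
  refine IsLocalRing.of_isUnit_or_isUnit_one_sub_self fun b => ?_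
  rw [isUnit_iff_eps hB, isUnit_iff_eps hB (1 - b), map_sub, map_one]
  exact IsLocalRing.isUnit_or_isUnit_one_sub_self _

lemma mem_maximalIdeal_iff_eps [IsLocalRing B] (b : B) :
    b ∈ maximalIdeal B ↔ eps hB b ∈ maximalIdeal R := by
  rw [mem_maximalIdeal, mem_maximalIdeal, mem_nonunits_iff, mem_nonunits_iff, isUnit_iff_eps hB]

include hB in
lemma map_maximalIdeal_le [IsLocalRing B] :
    (maximalIdeal R).map (algebraMap R B) ≤ maximalIdeal B := by
  rw [Ideal.map_le_iff_le_comap]
  intro r hr
  rw [Ideal.mem_comap, mem_maximalIdeal_iff_eps hB, eps_algebraMap_R]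
  exact hr

include hB in
lemma t_mem_maximalIdeal [IsLocalRing B] : tB (R := R) B ∈ maximalIdeal B := by
  rw [mem_maximalIdeal_iff_eps hB, eps_t]
  exact zero_mem _

end Local

end Groth.Agent.Lib.Helper11.Weier
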