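import Mathlib
import Groth.Prelude.Def_Hens2
import Groth.Agent.Lib.Helper11WeierH1
import Groth.Agent.S0526

/-!
# Helper11 WeierH2: the division theorem in `B = R{t}` by a Weierstrass polynomial
-/

set_option autoImplicit false
universe u

open Polynomial IsLocalRing

namespace Groth.Agent.Lib.Helper11.Weier

section AdjoinRootHens
variable {R : Type u} [CommRing R] [HenselianLocalRing R]
variable (P : R[X]) (hP : P.Monic) (hPm : ∀ i < P.natDegree, P.coeff i ∈ maximalIdeal R)

include hP hPm in
lemma root_pow_mem :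
    (AdjoinRoot.root P) ^ P.natDegree ∈ (maximalIdeal R).map (algebraMap R (AdjoinRoot P)) := by
  have hsum := hP.as_sum
  have h0 : AdjoinRoot.mk P P = 0 := AdjoinRoot.mk_self
  have e : (AdjoinRoot.root P) ^ P.natDegree =
      - ∑ i ∈ Finset.range P.natDegree,
        algebraMap R (AdjoinRoot P) (P.coeff i) * (AdjoinRoot.root P) ^ i := by
    rw [eq_neg_iff_add_eq_zero]
    have h2 := congrArg (AdjoinRoot.mk P) hsum
    rw [h0] at h2
    rw [h2]
    simp only [map_add, map_pow, map_sum, map_mul, AdjoinRoot.mk_X, AdjoinRoot.mk_C,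
      AdjoinRoot.algebraMap_eq]
  rw [e]
  refine neg_mem (Ideal.sum_mem _ fun i hi => ?_)
  exact Ideal.mul_mem_right _ _ (Ideal.mem_map_of_mem _ (hPm i (Finset.mem_range.mp hi)))

include hP hPm in
theorem henselianRing_adjoinRoot :
    HenselianRing (AdjoinRoot P) (Ideal.span {AdjoinRoot.root P}) := by
  haveI : Module.Finite R (AdjoinRoot P) := hP.finite_adjoinRoot
  haveI : Algebra.IsIntegral R (AdjoinRoot P) := inferInstance
  have h1 : HenselianRing (AdjoinRoot P) ((maximalIdeal R).map (algebraMap R (AdjoinRoot P))) :=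
    Groth.Agent.S0526.result R (maximalIdeal R) (AdjoinRoot P)
  have h2 : HenselianRing (AdjoinRoot P)
      ((maximalIdeal R).map (algebraMap R (AdjoinRoot P)) ⊔ Ideal.span {AdjoinRoot.root P}) := by
    apply Groth.Agent.Lib.Helper2.henselianRing_of_le_radical _ _ h1 le_sup_left
    rw [sup_le_iff]
    refine ⟨Ideal.le_radical, ?_⟩
    rw [Ideal.span_le]
    intro x hx
    rw [Set.mem_singleton_iff] at hx
    rw [hx]
    exact ⟨P.natDegree, root_pow_mem P hP hPm⟩
  exact Groth.Agent.Lib.Helper2.henselianRing_of_le _ _ h2 le_sup_right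

end AdjoinRootHens

section Division
variable {R : Type u} [CommRing R] [HenselianLocalRing R]
variable {B : Type u} [CommRing B] [Algebra R B] [Algebra R[X] B] [IsScalarTower R R[X] B]
variable (hB : Hens2.IsPairHenselization R[X] (Ideal.span {(X : R[X])}) B)
variable (P : R[X]) (hP : P.Monic) (hPm : ∀ i < P.natDegree, P.coeff i ∈ maximalIdeal R)

include hB hP hPm in
omit [Algebra R B] [IsScalarTower R R[X] B] in
lemma exists_gP : ∃ g : B →+* AdjoinRoot P, g.comp (algebraMap R[X] B) = AdjoinRoot.mk P := by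
  have hle : (Ideal.span {(X : R[X])}).map (AdjoinRoot.mk P) ≤ Ideal.span {AdjoinRoot.root P} := by
    rw [Ideal.map_span, Set.image_singleton, AdjoinRoot.mk_X]
  obtain ⟨g, hg, -⟩ := hB.2 (AdjoinRoot P) _ (AdjoinRoot.mk P) (henselianRing_adjoinRoot P hP hPm) hle
  exact ⟨g, hg⟩

include hB hP hPm in
omit [Algebra R B] [IsScalarTower R R[X] B] in
/-- injectivity part of the division theorem -/
theorem division_inj (q : R[X]) (hq : algebraMap R[X] B q ∈ Ideal.span {algebraMap R[X] B P}) :
    q ∈ Ideal.span {P} := by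
  obtain ⟨g, hg⟩ := exists_gP hB P hP hPm
  have hgq : ∀ p : R[X], g (algebraMap R[X] B p) = AdjoinRoot.mk P p := fun p =>
    congrArg (fun φ : R[X] →+* AdjoinRoot P => φ p) hg
  obtain ⟨c, hc⟩ := Ideal.mem_span_singleton'.mp hq
  have h1 : AdjoinRoot.mk P q = 0 := by
    rw [← hgq, ← hc, map_mul, hgq P, AdjoinRoot.mk_self, mul_zero]
  rw [AdjoinRoot.mk_eq_zero] at h1
  exact Ideal.mem_span_singleton.mpr h1

include hB hP hPm in
omit [Algebra R B] [IsScalarTower R R[X] B] in
/-- surjectivity part of the division theorem -/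
theorem division_surj (b : B) :
    ∃ q : R[X], algebraMap R[X] B q - b ∈ Ideal.span {algebraMap R[X] B P} := by
  obtain ⟨g, hg⟩ := exists_gP hB P hP hPm
  have hgq : ∀ p : R[X], g (algebraMap R[X] B p) = AdjoinRoot.mk P p := fun p =>
    congrArg (fun φ : R[X] →+* AdjoinRoot P => φ p) hg
  let D := B ⧸ Ideal.span {algebraMap R[X] B P}
  let π : B →+* D := Ideal.Quotient.mk _
  haveI : Algebra.IsIntegral B D :=
    Algebra.isIntegral_of_surjective Ideal.Quotient.mk_surjective
  haveI : HenselianRing B ((Ideal.span {(X : R[X])}).map (algebraMap R[X] B)) := hB.1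
  have hD : HenselianRing D (((Ideal.span {(X : R[X])}).map (algebraMap R[X] B)).map
      (algebraMap B D)) := Groth.Agent.S0526.result B _ D
  have hker : ∀ a ∈ Ideal.span {P}, (π.comp (algebraMap R[X] B)) a = 0 := by
    intro a ha
    obtain ⟨c, rfl⟩ := Ideal.mem_span_singleton'.mp ha
    rw [RingHom.comp_apply, map_mul, map_mul]
    have : π (algebraMap R[X] B P) = 0 :=
      Ideal.Quotient.eq_zero_iff_mem.mpr (Ideal.mem_span_singleton_self _)
    rw [this, mul_zero]
  let h : AdjoinRoot P →+* D := Ideal.Quotient.lift (Ideal.span {P}) (π.comp (algebraMap R[X] B)) hker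
  have hh : ∀ p : R[X], h (AdjoinRoot.mk P p) = π (algebraMap R[X] B p) := fun p =>
    Ideal.Quotient.lift_mk _ _ _
  have hle : (Ideal.span {(X : R[X])}).map (π.comp (algebraMap R[X] B)) ≤
      ((Ideal.span {(X : R[X])}).map (algebraMap R[X] B)).map (algebraMap B D) := by
    rw [← Ideal.map_map]
    exact le_rfl
  obtain ⟨g0, -, huniq⟩ := hB.2 D _ (π.comp (algebraMap R[X] B)) hD hle
  have e1 : π = g0 := huniq π rfl
  have e2 : h.comp g = g0 := by
    apply huniq
    ext p
    · simp only [RingHom.comp_apply]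
      rw [hgq, hh]
    · simp only [RingHom.comp_apply]
      rw [hgq, hh]
  obtain ⟨q, hq⟩ := AdjoinRoot.mk_surjective (g b)
  refine ⟨q, ?_⟩
  apply Ideal.Quotient.eq.mp
  show π (algebraMap R[X] B q) = π b
  rw [← hh, hq]
  have := congrArg (fun φ : B →+* D => φ b) (e2.trans e1.symm)
  exact this

end Division

end Groth.Agent.Lib.Helper11.Weier
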