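import Mathlib
import Groth.Prelude.Def_Hens2
import Groth.Agent.Lib.Helper11WeierH2

/-!
# Helper11 WeierH3a: truncation maps `B = R{t} → k[X]/(X^N)` and coefficient estimates
-/

set_option autoImplicit false
universe u

open Polynomial IsLocalRing

namespace Groth.Agent.Lib.Helper11.Weier

section Trunc
variable {R : Type u} [CommRing R] [IsLocalRing R]

/-- the truncated polynomial ring over the residue field -/
abbrev KN (R : Type u) [CommRing R] [IsLocalRing R] (N : ℕ) : Type u :=
  (ResidueField R)[X] ⧸ Ideal.span {(X : (ResidueField R)[X]) ^ N}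

/-- `R[X] → k[X]/(X^N)` -/
noncomputable def nu (R : Type u) [CommRing R] [IsLocalRing R] (N : ℕ) : R[X] →+* KN R N :=
  (Ideal.Quotient.mk _).comp (mapRingHom (residue R))

lemma nu_eq_zero_iff (N : ℕ) (p : R[X]) : nu R N p = 0 ↔ ∀ i < N, p.coeff i ∈ maximalIdeal R := by
  rw [nu, RingHom.comp_apply, Ideal.Quotient.eq_zero_iff_mem, Ideal.mem_span_singleton,
    X_pow_dvd_iff]
  refine forall_congr' fun i => forall_congr' fun _ => ?_
  rw [coe_mapRingHom, coeff_map, residue_eq_zero_iff]

lemma henselianRing_KN (N : ℕ) :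
    HenselianRing (KN R N) (Ideal.span {nu R N X}) := by
  apply Groth.Agent.Lib.Helper2.henselianRing_of_le_radical ⊥ _
    (Groth.Agent.Lib.Helper2.henselianRing_bot _) bot_le
  rw [Ideal.span_le]
  intro x hx
  rw [Set.mem_singleton_iff] at hx
  rw [hx]
  refine ⟨N, ?_⟩
  rw [Ideal.mem_bot, ← map_pow, nu_eq_zero_iff]
  intro i hi
  rw [coeff_X_pow, if_neg hi.ne]
  exact zero_mem _

variable {B : Type u} [CommRing B] [Algebra R B] [Algebra R[X] B] [IsScalarTower R R[X] B]
variable (hB : Hens2.IsPairHenselization R[X] (Ideal.span {(X : R[X])}) B)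

include hB in
omit [Algebra R B] [IsScalarTower R R[X] B] in
lemma exists_phiN (N : ℕ) : ∃ φ : B →+* KN R N, φ.comp (algebraMap R[X] B) = nu R N := by
  have hle : (Ideal.span {(X : R[X])}).map (nu R N) ≤ Ideal.span {nu R N X} := by
    rw [Ideal.map_span, Set.image_singleton]
  obtain ⟨g, hg, -⟩ := hB.2 (KN R N) _ (nu R N) (henselianRing_KN N) hle
  exact ⟨g, hg⟩

include hB in
/-- a polynomial whose image lies in `mB + t^N B` has its first `N` coefficients in `m` -/
theorem coeff_mem_of_mem (N : ℕ) (p : R[X])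
    (hp : algebraMap R[X] B p ∈ (maximalIdeal R).map (algebraMap R B) ⊔
      Ideal.span {(tB (R := R) B) ^ N}) :
    ∀ i < N, p.coeff i ∈ maximalIdeal R := by
  obtain ⟨φ, hφ⟩ := exists_phiN hB N
  have hφp : ∀ q : R[X], φ (algebraMap R[X] B q) = nu R N q := fun q =>
    congrArg (fun ψ : R[X] →+* KN R N => ψ q) hφ
  rw [← nu_eq_zero_iff, ← hφp]
  have hle : (maximalIdeal R).map (algebraMap R B) ⊔ Ideal.span {(tB (R := R) B) ^ N} ≤
      RingHom.ker φ := by
    rw [sup_le_iff]
    constructor
    · rw [Ideal.map_le_iff_le_comap]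
      intro r hr
      rw [Ideal.mem_comap, RingHom.mem_ker, IsScalarTower.algebraMap_apply R R[X] B, hφp,
        nu_eq_zero_iff]
      intro i _
      rw [Polynomial.algebraMap_apply, Algebra.algebraMap_self_apply, coeff_C]
      split_ifs
      · exact hr
      · exact zero_mem _
    · rw [Ideal.span_le]
      intro x hx
      rw [Set.mem_singleton_iff] at hx
      rw [hx]
      show φ ((algebraMap R[X] B X) ^ N) = 0
      rw [← map_pow, hφp, nu_eq_zero_iff]
      intro i hi
      rw [coeff_X_pow, if_neg hi.ne]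
      exact zero_mem _
  exact hle hp

include hB in
theorem t_pow_not_mem (N : ℕ) :
    (tB (R := R) B) ^ N ∉ (maximalIdeal R).map (algebraMap R B) := by
  intro h
  have h1 : algebraMap R[X] B (X ^ N) ∈ (maximalIdeal R).map (algebraMap R B) ⊔
      Ideal.span {(tB (R := R) B) ^ (N + 1)} := by
    rw [map_pow]
    exact Ideal.mem_sup_left h
  have h2 := coeff_mem_of_mem hB (N + 1) (X ^ N) h1 N (Nat.lt_succ_self N)
  rw [coeff_X_pow, if_pos rfl] at h2
  exact (maximalIdeal R).ne_top_iff_one.mp (maximalIdeal.isMaximal R).ne_top h2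

end Trunc

end Groth.Agent.Lib.Helper11.Weier
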