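import Mathlib
import Groth.Agent.Lib.Helper18ColimSys
import Groth.Agent.Lib.Helper26PairHzNbhd

/-!
# Helper11 WeierH3b: descending ideal membership relations along a `Sys`
-/

set_option autoImplicit false
universe u

namespace Groth.Agent.Lib.Helper11.Weier

open Groth.Agent.Lib.Helper18ColimSys Groth.Agent.Lib.Helper26.PairHz

section SysDesc
variable {A : Type u} [CommRing A] {ι : Type u} {G : ι → Type u} [∀ i, CommRing (G i)]
  [∀ i, Algebra A (G i)] {B : Type u} [CommRing B] [Algebra A B] {g : ∀ i, G i →ₐ[A] B}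

theorem sys_exists_mem_map (hS : Sys A G B g) (K : Ideal A) (z : B)
    (hz : z ∈ K.map (algebraMap A B)) :
    ∃ j, ∃ y ∈ K.map (algebraMap A (G j)), g j y = z := by
  unfold Ideal.map at hz
  induction hz using Submodule.span_induction with
  | mem x hx =>
    obtain ⟨r, hr, rfl⟩ := hx
    obtain ⟨j⟩ := hS.nonempty
    exact ⟨j, algebraMap A (G j) r, Ideal.mem_map_of_mem _ hr, (g j).commutes r⟩
  | zero =>
    obtain ⟨j⟩ := hS.nonempty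
    exact ⟨j, 0, zero_mem _, map_zero _⟩
  | add x y _ _ hx hy =>
    obtain ⟨j₁, y₁, hy₁, e₁⟩ := hx
    obtain ⟨j₂, y₂, hy₂, e₂⟩ := hy
    obtain ⟨l, φ, ψ, hφ, hψ⟩ := hS.dir j₁ j₂
    refine ⟨l, φ y₁ + ψ y₂, Ideal.add_mem _ (map_mem_map K φ hy₁) (map_mem_map K ψ hy₂), ?_⟩
    rw [map_add, ← AlgHom.comp_apply, ← AlgHom.comp_apply, hφ, hψ, e₁, e₂]
  | smul a x _ hx =>
    obtain ⟨j₁, y₁, hy₁, e₁⟩ := hx
    obtain ⟨i, w, hw⟩ := hS.surj a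
    obtain ⟨l, φ, ψ, hφ, hψ⟩ := hS.dir i j₁
    refine ⟨l, φ w * ψ y₁, Ideal.mul_mem_left _ _ (map_mem_map K ψ hy₁), ?_⟩
    rw [map_mul, ← AlgHom.comp_apply, ← AlgHom.comp_apply, hφ, hψ, e₁, hw, smul_eq_mul]

theorem sys_exists_rel (hS : Sys A G B g) (K : Ideal A) (a : A) (b b₁ : B)
    (h : algebraMap A B a - b * b₁ ∈ K.map (algebraMap A B)) :
    ∃ j, ∃ c c₁ : G j, g j c = b ∧
      algebraMap A (G j) a - c * c₁ ∈ K.map (algebraMap A (G j)) := by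
  obtain ⟨j₀, y₀, hy₀, e₀⟩ := sys_exists_mem_map hS K _ h
  obtain ⟨i₁, x₁, hx₁⟩ := hS.surj b
  obtain ⟨i₂, x₂, hx₂⟩ := hS.surj b₁
  obtain ⟨l₁, φ₁, ψ₁, hφ₁, hψ₁⟩ := hS.dir j₀ i₁
  obtain ⟨l, φ₂, ψ₂, hφ₂, hψ₂⟩ := hS.dir l₁ i₂
  set y := φ₂ (φ₁ y₀) with hy
  set c := φ₂ (ψ₁ x₁) with hc
  set c₁ := ψ₂ x₂ with hc₁
  have ey : g l y = algebraMap A B a - b * b₁ := by
    rw [hy, ← AlgHom.comp_apply, hφ₂, ← AlgHom.comp_apply, hφ₁, e₀]
  have ec : g l c = b := by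
    rw [hc, ← AlgHom.comp_apply, hφ₂, ← AlgHom.comp_apply, hψ₁, hx₁]
  have ec₁ : g l c₁ = b₁ := by
    rw [hc₁, ← AlgHom.comp_apply, hψ₂, hx₂]
  have hyK : y ∈ K.map (algebraMap A (G l)) := map_mem_map K φ₂ (map_mem_map K φ₁ hy₀)
  have hz : g l (algebraMap A (G l) a - c * c₁ - y) = 0 := by
    rw [map_sub, map_sub, map_mul, ec, ec₁, ey, AlgHom.commutes, sub_self]
  obtain ⟨j, φ, hφ, hφz⟩ := hS.ker l _ hz
  refine ⟨j, φ c, φ c₁, ?_, ?_⟩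
  · rw [← AlgHom.comp_apply, hφ, ec]
  · have e : algebraMap A (G j) a - φ c * φ c₁ = φ y := by
      rw [map_sub, map_sub, map_mul, AlgHom.commutes, sub_eq_zero] at hφz
      exact hφz
    rw [e]
    exact map_mem_map K φ hyK

end SysDesc

end Groth.Agent.Lib.Helper11.Weier
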