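import Mathlib
import Groth.Prelude.Def_Hens2
import Groth.Agent.Lib.Helper11WeierH3a
import Groth.Agent.Lib.Helper11WeierH3b
import Groth.Agent.Lib.Helper26PairHzUnique
import Groth.Agent.Lib.Helper3HenselLF

/-!
# Helper11 WeierH3c: `B/(b)` is finite over `R` when `b` comes from a neighbourhood with
`X^N ∈ (c, m)`
-/

set_option autoImplicit false
universe u

open Polynomial IsLocalRing

namespace Groth.Agent.Lib.Helper11.Weier

open Groth.Agent.Lib.Helper26.PairHz

section Fin
variable {R : Type u} [CommRing R] [HenselianLocalRing R]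
variable {B : Type u} [CommRing B] [Algebra R B] [Algebra R[X] B] [IsScalarTower R R[X] B]
variable (hB : Hens2.IsPairHenselization R[X] (Ideal.span {(X : R[X])}) B)

lemma eps_mem_of_mem_map (x : B) (hx : x ∈ (maximalIdeal R).map (algebraMap R B)) :
    eps hB x ∈ maximalIdeal R := by
  have hle : (maximalIdeal R).map (algebraMap R B) ≤ (maximalIdeal R).comap (eps hB) := by
    rw [Ideal.map_le_iff_le_comap]
    intro r hr
    rw [Ideal.mem_comap, Ideal.mem_comap, eps_algebraMap_R]
    exact hr
  exact hle hx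

variable {C : Type u} [CommRing C] [Algebra R[X] C] [Algebra R C] [IsScalarTower R R[X] C]
  (hC : IsNbhd (Ideal.span {(X : R[X])}) C) (ρ : C →ₐ[R[X]] B)
  (c c₁ : C) (N : ℕ)
  (hrel : algebraMap R[X] C (X ^ N) - c * c₁ ∈ (maximalIdeal R).map (algebraMap R C))
  (hc0 : eps hB (ρ c) ∈ maximalIdeal R)

include hC hrel hc0 in
theorem finite_quotient_of_nbhd : Module.Finite R (B ⧸ Ideal.span {ρ c}) := by
  haveI : Algebra.Etale R[X] C := hC.etale
  haveI : Algebra.FiniteType R C :=
    Algebra.FiniteType.trans (inferInstance : Algebra.FiniteType R R[X]) inferInstance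
  let S := C ⧸ Ideal.span {c}
  haveI : Algebra.FiniteType R S :=
    Algebra.FiniteType.of_surjective (Ideal.Quotient.mkₐ R (Ideal.span {c}))
      Ideal.Quotient.mk_surjective
  let χ : B →+* ResidueField R := (residue R).comp (eps hB)
  have hχc : ∀ a ∈ Ideal.span {c}, (χ.comp ρ.toRingHom) a = 0 := by
    intro a ha
    obtain ⟨d, rfl⟩ := Ideal.mem_span_singleton'.mp ha
    show χ (ρ (d * c)) = 0
    rw [map_mul, map_mul]
    have : χ (ρ c) = 0 := (residue_eq_zero_iff _).mpr hc0
    rw [this, mul_zero]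
  let θ : S →+* ResidueField R := Ideal.Quotient.lift (Ideal.span {c}) (χ.comp ρ.toRingHom) hχc
  have hθmk : ∀ x : C, θ (Ideal.Quotient.mk _ x) = χ (ρ x) := fun x => Ideal.Quotient.lift_mk _ _ _
  have hρR : ∀ r : R, ρ (algebraMap R C r) = algebraMap R B r := by
    intro r
    rw [IsScalarTower.algebraMap_apply R R[X] C, AlgHom.commutes,
      ← IsScalarTower.algebraMap_apply R R[X] B]
  have hθR : ∀ r : R, θ (algebraMap R S r) = residue R r := by
    intro r
    have : algebraMap R S r = Ideal.Quotient.mk _ (algebraMap R C r) := rfl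
    rw [this, hθmk, hρR]
    show residue R (eps hB (algebraMap R B r)) = _
    rw [eps_algebraMap_R]
  let xS : S := Ideal.Quotient.mk _ (algebraMap R[X] C X)
  have hθx : θ xS = 0 := by
    rw [hθmk, AlgHom.commutes]
    show residue R (eps hB (algebraMap R[X] B X)) = 0
    rw [eps_t, map_zero]
  have hdecomp : ∀ s : S, ∃ r : R, ∃ s' : S, s = algebraMap R S r + xS * s' := by
    intro s
    obtain ⟨x, rfl⟩ := Ideal.Quotient.mk_surjective s
    obtain ⟨a, ha⟩ := hC.surj x
    rw [Ideal.map_span, Set.image_singleton] at ha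
    obtain ⟨d, hd⟩ := Ideal.mem_span_singleton'.mp ha
    refine ⟨a.coeff 0, Ideal.Quotient.mk _ (d + algebraMap R[X] C (divX a)), ?_⟩
    have h1 : algebraMap R S (a.coeff 0) = Ideal.Quotient.mk _ (algebraMap R C (a.coeff 0)) := rfl
    rw [h1, ← map_mul, ← map_add]
    congr 1
    have h2 : x = d * algebraMap R[X] C X + algebraMap R[X] C a := by rw [hd]; ring
    have h3 : algebraMap R[X] C a = algebraMap R[X] C X * algebraMap R[X] C (divX a) +
        algebraMap R C (a.coeff 0) := by
      conv_lhs => rw [← X_mul_divX_add a]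
      rw [map_add, map_mul, IsScalarTower.algebraMap_apply R R[X] C]
      rfl
    rw [h2, h3]
    ring
  have hθsurj : Function.Surjective θ := by
    intro z
    obtain ⟨r, rfl⟩ := residue_surjective z
    exact ⟨algebraMap R S r, hθR r⟩
  let q : Ideal S := RingHom.ker θ
  haveI hqmax : q.IsMaximal := RingHom.ker_isMaximal_of_surjective θ hθsurj
  haveI hqprime : q.IsPrime := hqmax.isPrime
  have hxN : xS ^ N ∈ (maximalIdeal R).map (algebraMap R S) := by
    have h1 := Ideal.mem_map_of_mem (Ideal.Quotient.mk (Ideal.span {c})) hrel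
    rw [Ideal.map_map] at h1
    have h2 : (Ideal.Quotient.mk (Ideal.span {c})).comp (algebraMap R C) = algebraMap R S := rfl
    rw [h2, map_sub, map_mul] at h1
    have h3 : Ideal.Quotient.mk (Ideal.span {c}) c = 0 :=
      Ideal.Quotient.eq_zero_iff_mem.mpr (Ideal.mem_span_singleton_self _)
    rw [h3, zero_mul, sub_zero, map_pow, map_pow] at h1
    exact h1
  have hqunder : q.comap (algebraMap R S) = maximalIdeal R := by
    ext r
    rw [Ideal.mem_comap, RingHom.mem_ker, hθR, residue_eq_zero_iff]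
  have huniq : ∀ q' : Ideal S, q'.IsPrime → q'.comap (algebraMap R S) = maximalIdeal R → q' = q := by
    intro q' hq' hq'm
    have hmle : (maximalIdeal R).map (algebraMap R S) ≤ q' := by
      rw [Ideal.map_le_iff_le_comap, hq'm]
    have hx : xS ∈ q' := hq'.mem_of_pow_mem N (hmle hxN)
    have hle : q ≤ q' := by
      intro s hs
      obtain ⟨r, s', rfl⟩ := hdecomp s
      have h1 : θ (algebraMap R S r + xS * s') = 0 := hs
      rw [map_add, map_mul, hθx, zero_mul, add_zero, hθR, residue_eq_zero_iff] at h1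
      exact Ideal.add_mem _ (hmle (Ideal.mem_map_of_mem _ h1)) (Ideal.mul_mem_right _ _ hx)
    exact (hqmax.eq_of_le hq'.ne_top hle).symm
  haveI hqlies : q.LiesOver (maximalIdeal R) := ⟨hqunder.symm⟩
  haveI hqf : Algebra.QuasiFiniteAt R q := by
    let qq : PrimeSpectrum S := ⟨q, hqprime⟩
    have := Algebra.QuasiFiniteAt.of_isOpen_singleton_fiber (R := R) qq (by
      have huniv : ({⟨qq, rfl⟩} : Set (PrimeSpectrum.comap (algebraMap R S) ⁻¹'
          {qq.comap (algebraMap R S)})) = Set.univ := by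
        ext ⟨q', hq'⟩
        simp only [Set.mem_singleton_iff, Set.mem_univ, iff_true, Subtype.mk.injEq]
        have h1 : q'.asIdeal.comap (algebraMap R S) = maximalIdeal R := by
          have := congrArg PrimeSpectrum.asIdeal hq'
          rw [← hqunder]
          exact this
        apply PrimeSpectrum.ext
        exact huniq q'.asIdeal q'.isPrime h1
      rw [huniv]
      exact isOpen_univ)
    exact this
  obtain ⟨e, he, heq, hfin, -⟩ :=
    Groth.Agent.Lib.Helper3.Hensel.exists_idempotent_of_quasiFiniteAt (R := R) q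
  let T := S ⧸ Ideal.span {1 - e}
  haveI : Module.Finite R T := hfin
  haveI : Algebra.IsIntegral R T := Algebra.IsIntegral.of_finite R T
  let I0 : Ideal R[X] := Ideal.span {(X : R[X])}
  -- T is henselian along (X)
  have hT1 : HenselianRing T ((maximalIdeal R).map (algebraMap R T)) :=
    Groth.Agent.S0526.result R (maximalIdeal R) T
  have hxT : (algebraMap R[X] T X) ^ N ∈ (maximalIdeal R).map (algebraMap R T) := by
    have h1 := Ideal.mem_map_of_mem (Ideal.Quotient.mk (Ideal.span {1 - e})) hxN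
    rw [Ideal.map_map] at h1
    have h2 : (Ideal.Quotient.mk (Ideal.span {1 - e})).comp (algebraMap R S) = algebraMap R T := rfl
    rw [h2, map_pow] at h1
    exact h1
  have hT : HenselianRing T (I0.map (algebraMap R[X] T)) := by
    have h2 : HenselianRing T
        ((maximalIdeal R).map (algebraMap R T) ⊔ I0.map (algebraMap R[X] T)) := by
      apply Groth.Agent.Lib.Helper2.henselianRing_of_le_radical _ _ hT1 le_sup_left
      rw [sup_le_iff]
      refine ⟨Ideal.le_radical, ?_⟩
      rw [Ideal.map_span, Set.image_singleton, Ideal.span_le]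
      intro x hx
      rw [Set.mem_singleton_iff] at hx
      rw [hx]
      exact ⟨N, hxT⟩
    exact Groth.Agent.Lib.Helper2.henselianRing_of_le _ _ h2 le_sup_right
  obtain ⟨g, -⟩ := exists_algHom_of_isPairHenselization hB T _ hT le_rfl
  let κ : C →ₐ[R[X]] T :=
    (Ideal.Quotient.mkₐ R[X] (Ideal.span {1 - e})).comp (Ideal.Quotient.mkₐ R[X] (Ideal.span {c}))
  have hgρ : g.comp ρ = κ := hC.algHom_ext hT.jac _ _
  have hgc : g (ρ c) = 0 := by
    have h1 : g (ρ c) = κ c := congrArg (fun φ : C →ₐ[R[X]] T => φ c) hgρ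
    rw [h1]
    show Ideal.Quotient.mk _ (Ideal.Quotient.mk (Ideal.span {c}) c) = 0
    rw [Ideal.Quotient.eq_zero_iff_mem.mpr (Ideal.mem_span_singleton_self c), map_zero]
  -- the quotient D
  let D := B ⧸ Ideal.span {ρ c}
  let π : B →ₐ[R[X]] D := Ideal.Quotient.mkₐ R[X] _
  have hπc : π (ρ c) = 0 :=
    Ideal.Quotient.eq_zero_iff_mem.mpr (Ideal.mem_span_singleton_self _)
  have hh₀ : ∀ a ∈ Ideal.span {c}, (π.comp ρ) a = 0 := by
    intro a ha
    obtain ⟨d, rfl⟩ := Ideal.mem_span_singleton'.mp ha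
    rw [AlgHom.comp_apply, map_mul, map_mul, hπc, mul_zero]
  let h₁ : S →ₐ[R[X]] D := Ideal.Quotient.liftₐ (Ideal.span {c}) (π.comp ρ) hh₀
  have hh₁mk : ∀ x : C, h₁ (Ideal.Quotient.mk _ x) = π (ρ x) := fun x =>
    Ideal.Quotient.lift_mk _ _ _
  have hh₁e : h₁ (1 - e) = 0 := by
    obtain ⟨e', rfl⟩ := Ideal.Quotient.mk_surjective e
    have hu : IsUnit (ρ e') := by
      rw [isUnit_iff_eps hB]
      have h1 : θ (Ideal.Quotient.mk _ e') ≠ 0 := heq
      rw [hθmk] at h1
      have h2 : eps hB (ρ e') ∉ maximalIdeal R := fun hm => h1 ((residue_eq_zero_iff _).mpr hm)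
      exact not_not.mp (fun hn => h2 ((mem_maximalIdeal _).mpr hn))
    have h3 : h₁ (Ideal.Quotient.mk _ e') * h₁ (1 - Ideal.Quotient.mk _ e') = 0 := by
      rw [← map_mul, mul_sub, mul_one, he.eq, sub_self, map_zero]
    rw [hh₁mk] at h3
    exact ((hu.map π).mul_right_eq_zero).mp h3
  have hh₁ker : ∀ a ∈ Ideal.span {1 - e}, h₁ a = 0 := by
    intro a ha
    obtain ⟨d, rfl⟩ := Ideal.mem_span_singleton'.mp ha
    rw [map_mul, hh₁e, mul_zero]
  let h : T →ₐ[R[X]] D := Ideal.Quotient.liftₐ (Ideal.span {1 - e}) h₁ hh₁ker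
  -- uniqueness: π = h ∘ g
  haveI : Algebra.IsIntegral B D :=
    Algebra.isIntegral_of_surjective Ideal.Quotient.mk_surjective
  haveI : HenselianRing B (I0.map (algebraMap R[X] B)) := hB.1
  have hD : HenselianRing D ((I0.map (algebraMap R[X] B)).map (algebraMap B D)) :=
    Groth.Agent.S0526.result B _ D
  have hle : I0.map (algebraMap R[X] D) ≤ (I0.map (algebraMap R[X] B)).map (algebraMap B D) := by
    rw [Ideal.map_map, ← IsScalarTower.algebraMap_eq]
  obtain ⟨g0, hg0⟩ := exists_algHom_of_isPairHenselization hB D _ hD hle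
  have e1 : π = h.comp g := (hg0 π).trans (hg0 (h.comp g)).symm
  have hsurj : Function.Surjective h := by
    intro d
    obtain ⟨b, rfl⟩ := Ideal.Quotient.mk_surjective d
    refine ⟨g b, ?_⟩
    have := congrArg (fun φ : B →ₐ[R[X]] D => φ b) e1
    exact this.symm
  exact Module.Finite.of_surjective (h.restrictScalars R).toLinearMap hsurj

end Fin

end Groth.Agent.Lib.Helper11.Weier
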