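import Mathlib
import Groth.Prelude.Def_Hens2
import Groth.Agent.Lib.Helper11WeierH3c

/-!
# Helper11 WeierH3d: Weierstrass preparation in `B = R{t}` for elements `≡ t^N mod m`
-/

set_option autoImplicit false
universe u

open Polynomial IsLocalRing

namespace Groth.Agent.Lib.Helper11.Weier

open Groth.Agent.Lib.Helper26.PairHz

section Prep
variable {R : Type u} [CommRing R] [HenselianLocalRing R]
variable {B : Type u} [CommRing B] [Algebra R B] [Algebra R[X] B] [IsScalarTower R R[X] B]
variable (hB : Hens2.IsPairHenselization R[X] (Ideal.span {(X : R[X])}) B)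

include hB in
theorem finite_quotient (b : B) (N : ℕ) (hN : N ≠ 0)
    (hb : b - (tB (R := R) B) ^ N ∈ (maximalIdeal R).map (algebraMap R B)) :
    Module.Finite R (B ⧸ Ideal.span {b}) := by
  obtain ⟨ρ, hS⟩ := exists_sys_of_isPairHenselization hB
  have hK : ((maximalIdeal R).map (algebraMap R R[X])).map (algebraMap R[X] B) =
      (maximalIdeal R).map (algebraMap R B) := by
    rw [Ideal.map_map, ← IsScalarTower.algebraMap_eq]
  have h1 : algebraMap R[X] B (X ^ N) - b * 1 ∈
      ((maximalIdeal R).map (algebraMap R R[X])).map (algebraMap R[X] B) := by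
    rw [hK, mul_one, map_pow]
    have := neg_mem hb
    rwa [neg_sub] at this
  obtain ⟨j, c, c₁, hc, hrel⟩ := sys_exists_rel hS _ (X ^ N) b 1 h1
  letI : Algebra R j.C := ((algebraMap R[X] j.C).comp (algebraMap R R[X])).toAlgebra
  haveI : IsScalarTower R R[X] j.C := IsScalarTower.of_algebraMap_eq (fun _ => rfl)
  have hrel' : algebraMap R[X] j.C (X ^ N) - c * c₁ ∈
      (maximalIdeal R).map (algebraMap R j.C) := by
    rw [Ideal.map_map, ← IsScalarTower.algebraMap_eq] at hrel
    exact hrel
  have hc0 : eps hB (ρ j c) ∈ maximalIdeal R := by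
    rw [hc]
    have h2 : b = (b - (tB (R := R) B) ^ N) + (tB (R := R) B) ^ N := by ring
    rw [h2, map_add, map_pow, eps_t, zero_pow hN, add_zero]
    exact eps_mem_of_mem_map hB _ hb
  have := finite_quotient_of_nbhd hB j.isNbhd (ρ j) c c₁ N hrel' hc0
  rw [hc] at this
  exact this

include hB in
omit [Algebra R B] [IsScalarTower R R[X] B] in
/-- every element of `B` is congruent to a polynomial of degree `< N` modulo `t^N` -/
lemma exists_degreeLT_sub_mem (N : ℕ) (b' : B) :
    ∃ r ∈ degreeLT R N, ∃ w : B, b' - algebraMap R[X] B r = (tB (R := R) B) ^ N * w := by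
  obtain ⟨z, hz⟩ := (quotientMap_pow_bijective hB N).2 (Ideal.Quotient.mk _ b')
  obtain ⟨p, rfl⟩ := Ideal.Quotient.mk_surjective z
  rw [Ideal.quotientMap_mk] at hz
  have h1 : algebraMap R[X] B p - b' ∈
      ((Ideal.span {(X : R[X])}) ^ N).map (algebraMap R[X] B) := Ideal.Quotient.eq.mp hz
  rw [Ideal.span_singleton_pow, Ideal.map_span, Set.image_singleton, map_pow] at h1
  obtain ⟨w₁, hw₁⟩ := Ideal.mem_span_singleton'.mp h1
  refine ⟨p %ₘ X ^ N, ?_, -w₁ + algebraMap R[X] B (p /ₘ X ^ N), ?_⟩
  · rw [mem_degreeLT]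
    have := degree_modByMonic_lt p (monic_X_pow (R := R) N)
    rwa [degree_X_pow] at this
  · have h2 := modByMonic_add_div p (X ^ N : R[X])
    have h3 : algebraMap R[X] B p = algebraMap R[X] B (p %ₘ X ^ N) +
        (tB (R := R) B) ^ N * algebraMap R[X] B (p /ₘ X ^ N) := by
      conv_lhs => rw [← h2]
      rw [map_add, map_mul, map_pow]
    have h4 : b' = algebraMap R[X] B p - w₁ * (tB (R := R) B) ^ N := by rw [hw₁]; ring
    rw [h4, h3]
    ring

include hB in
theorem exists_weierstrass (b : B) (N : ℕ)
    (hb : b - (tB (R := R) B) ^ N ∈ (maximalIdeal R).map (algebraMap R B)) :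
    ∃ P : R[X], P.Monic ∧ P.natDegree = N ∧ (∀ i < N, P.coeff i ∈ maximalIdeal R) ∧
      ∃ v : Bˣ, algebraMap R[X] B P = b * v := by
  rcases Nat.eq_zero_or_pos N with hN0 | hNpos
  · subst hN0
    rw [pow_zero] at hb
    have h1 : eps hB (b - 1) ∈ maximalIdeal R := eps_mem_of_mem_map hB _ hb
    have hu : IsUnit b := by
      rw [isUnit_iff_eps hB]
      rw [map_sub, map_one] at h1
      have e1 : eps hB b = 1 - (1 - eps hB b) := by ring
      rw [e1]
      apply IsLocalRing.isUnit_one_sub_self_of_mem_nonunits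
      have e2 : 1 - eps hB b = -(eps hB b - 1) := by ring
      rw [e2]
      exact neg_mem h1
    obtain ⟨u, rfl⟩ := hu
    exact ⟨1, monic_one, natDegree_one, fun i hi => absurd hi (Nat.not_lt_zero _), u⁻¹, by simp⟩
  · have hN : N ≠ 0 := hNpos.ne'
    haveI hfin := finite_quotient hB b N hN hb
    let D := B ⧸ Ideal.span {b}
    let lam : R[X] →ₗ[R] D := ((Ideal.Quotient.mkₐ R (Ideal.span {b})).comp
      (IsScalarTower.toAlgHom R R[X] B)).toLinearMap
    have hlam : ∀ p, lam p = Ideal.Quotient.mk _ (algebraMap R[X] B p) := fun p => rfl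
    let M' : Submodule R D := (degreeLT R N).map lam
    have hmk_mem : ∀ x ∈ (maximalIdeal R).map (algebraMap R B),
        (Ideal.Quotient.mk (Ideal.span {b}) x : D) ∈ (maximalIdeal R) • (⊤ : Submodule R D) := by
      intro x hx
      rw [Ideal.smul_top_eq_map]
      show Ideal.Quotient.mk (Ideal.span {b}) x ∈ (maximalIdeal R).map (algebraMap R D)
      have h1 := Ideal.mem_map_of_mem (Ideal.Quotient.mk (Ideal.span {b})) hx
      rw [Ideal.map_map] at h1
      exact h1
    have hNak : (⊤ : Submodule R D) ≤ M' := by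
      apply Submodule.le_of_le_smul_of_le_jacobson_bot (I := maximalIdeal R) Module.Finite.fg_top
        (IsLocalRing.maximalIdeal_le_jacobson _)
      intro d _
      obtain ⟨b', rfl⟩ := Ideal.Quotient.mk_surjective d
      obtain ⟨r, hr, w, hw⟩ := exists_degreeLT_sub_mem hB N b'
      have e1 : (Ideal.Quotient.mk (Ideal.span {b}) b' : D) =
          lam r + Ideal.Quotient.mk (Ideal.span {b}) (-((b - (tB (R := R) B) ^ N) * w)) := by
        rw [hlam, ← map_add]
        apply Ideal.Quotient.eq.mpr
        have : b' - (algebraMap R[X] B r + -((b - (tB (R := R) B) ^ N) * w)) = b * w := by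
          have h5 : b' = algebraMap R[X] B r + (tB (R := R) B) ^ N * w := by rw [← hw]; ring
          rw [h5]; ring
        rw [this]
        exact Ideal.mul_mem_right _ _ (Ideal.mem_span_singleton_self _)
      rw [e1]
      refine Submodule.add_mem_sup (Submodule.mem_map_of_mem hr) ?_
      apply hmk_mem
      exact neg_mem (Ideal.mul_mem_right _ _ hb)
    have hmem : lam (X ^ N) ∈ M' := hNak Submodule.mem_top
    obtain ⟨p, hp, hpe⟩ := hmem
    rw [SetLike.mem_coe, mem_degreeLT] at hp
    let P : R[X] := X ^ N - p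
    have hdeg : degree p < degree (X ^ N : R[X]) := by rw [degree_X_pow]; exact hp
    have hPmonic : P.Monic := (monic_X_pow N).sub_of_left hdeg
    have hPdeg : P.natDegree = N := by
      apply natDegree_eq_of_degree_eq_some
      rw [degree_sub_eq_left_of_degree_lt hdeg, degree_X_pow]
    have hPb : algebraMap R[X] B P ∈ Ideal.span {b} := by
      apply Ideal.Quotient.eq_zero_iff_mem.mp
      rw [← hlam, map_sub, hpe, sub_self]
    obtain ⟨v, hv⟩ := Ideal.mem_span_singleton'.mp hPb
    have hPv : algebraMap R[X] B P = b * v := by rw [← hv]; ring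
    -- b = t^N + μ
    set μ := b - (tB (R := R) B) ^ N with hμ
    have hbμ : b = (tB (R := R) B) ^ N + μ := by rw [hμ]; ring
    have hcoef : ∀ i < N, P.coeff i ∈ maximalIdeal R := by
      apply coeff_mem_of_mem hB N P
      rw [hPv, hbμ, add_mul]
      rw [add_comm]
      exact Submodule.add_mem_sup (Ideal.mul_mem_right _ _ hb)
        (Ideal.mul_mem_right _ _ (Ideal.mem_span_singleton_self _))
    have hvu : IsUnit v := by
      by_contra hnu
      have hεv : eps hB v ∈ maximalIdeal R := by
        rw [isUnit_iff_eps hB] at hnu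
        exact (mem_maximalIdeal _).mpr hnu
      obtain ⟨w, hw⟩ := Ideal.mem_span_singleton'.mp (sub_algebraMap_eps_mem hB v)
      have hv' : v = algebraMap R B (eps hB v) + (tB (R := R) B) * w := by
        have : v - algebraMap R B (eps hB v) = w * tB (R := R) B := hw.symm
        rw [mul_comm, ← this]; ring
      have h1 : algebraMap R[X] B P ∈ (maximalIdeal R).map (algebraMap R B) ⊔
          Ideal.span {(tB (R := R) B) ^ (N + 1)} := by
        have e3 : algebraMap R[X] B P = ((tB (R := R) B) ^ N * algebraMap R B (eps hB v) + μ * v) +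
            (tB (R := R) B) ^ (N + 1) * w := by
          rw [hPv]
          calc b * v = ((tB (R := R) B) ^ N + μ) * v := by rw [← hbμ]
            _ = (tB (R := R) B) ^ N * v + μ * v := by ring
            _ = (tB (R := R) B) ^ N * (algebraMap R B (eps hB v) + (tB (R := R) B) * w) + μ * v := by
                rw [← hv']
            _ = _ := by ring
        rw [e3]
        refine Submodule.add_mem_sup (Ideal.add_mem _ ?_ (Ideal.mul_mem_right _ _ hb))
          (Ideal.mul_mem_right _ _ (Ideal.mem_span_singleton_self _))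
        exact Ideal.mul_mem_left _ _ (Ideal.mem_map_of_mem _ hεv)
      have h2 := coeff_mem_of_mem hB (N + 1) P h1 N (Nat.lt_succ_self N)
      have h3 : P.coeff N = 1 := by
        have := hPmonic.coeff_natDegree
        rwa [hPdeg] at this
      rw [h3] at h2
      exact (maximalIdeal R).ne_top_iff_one.mp (maximalIdeal.isMaximal R).ne_top h2
    obtain ⟨vu, rfl⟩ := hvu
    exact ⟨P, hPmonic, hPdeg, hcoef, vu, hPv⟩

end Prep

end Groth.Agent.Lib.Helper11.Weier
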