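import Mathlib
import Groth.Agent.Lib.Helper26PairHzUnique
import Groth.Agent.Lib.Helper20EtSection
import Groth.Agent.Lib.Helper28DepthFlat3
import Groth.Agent.S0543

/-!
# The henselization of a Noetherian pair is Noetherian (helper26)
-/

set_option autoImplicit false
universe u

open TensorProduct

namespace Groth.Agent.Lib.Helper26.HzNoeth

open Groth.Agent.Lib.Helper26.PairHz Groth.Agent.Lib.Helper18ColimSys

/-- The kernel of a retraction of an unramified algebra of (essentially) finite type is generated by
an idempotent. -/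
theorem exists_idem_ker_section {R E : Type u} [CommRing R] [CommRing E] [Algebra R E]
    [Algebra.FormallyUnramified R E] [Algebra.EssFiniteType R E] (μ : E →ₐ[R] R) :
    ∃ ε : E, IsIdempotentElem ε ∧ μ ε = 0 ∧ ∀ y : E, μ y = 0 → y ∈ Ideal.span {ε} := by
  let q : R →ₐ[R] R ⧸ (⊥ : Ideal R) := Ideal.Quotient.mkₐ R ⊥
  obtain ⟨ε, h1, h2, h3⟩ := Groth.Agent.Lib.Helper20.EtSection.exists_eps (⊥ : Ideal R) (q.comp μ)
  have hq : ∀ r : R, q r = 0 → r = 0 := fun r hr => by
    have := Ideal.Quotient.eq_zero_iff_mem.mp hr
    simpa using this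
  refine ⟨ε, ?_, hq _ h1, ?_⟩
  · rw [Ideal.map_bot, Ideal.mem_bot, sub_eq_zero] at h2
    exact h2
  · intro y hy
    have := h3 y (by simp [hy])
    rwa [Ideal.map_bot, sup_bot_eq] at this

/-- If `R → E` is unramified of essentially finite type and `E → R` is a retraction, then `R` is flat
over `E`. -/
theorem flat_of_section {R E : Type u} [CommRing R] [CommRing E] [Algebra R E]
    [Algebra.FormallyUnramified R E] [Algebra.EssFiniteType R E] [Algebra E R]
    (hsec : ∀ r : R, algebraMap E R (algebraMap R E r) = r) : Module.Flat E R := by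
  let μ : E →ₐ[R] R := AlgHom.mk (algebraMap E R) (fun r => hsec r)
  obtain ⟨ε, hε, hμε, hker⟩ := exists_idem_ker_section μ
  have hμ : ∀ x, μ x = algebraMap E R x := fun _ => rfl
  have key : ∀ x : E, x * (1 - ε) = algebraMap R E (algebraMap E R x) * (1 - ε) := by
    intro x
    have h0 : μ (x - algebraMap R E (μ x)) = 0 := by
      rw [map_sub, hμ, hμ, hsec, sub_self]
    obtain ⟨c, hc⟩ := Ideal.mem_span_singleton'.mp (hker _ h0)
    have h1 : (x - algebraMap R E (μ x)) * (1 - ε) = 0 := by
      rw [← hc]
      have := hε.eq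
      linear_combination (-c) * this
    rw [hμ] at h1
    linear_combination h1
  let i : R →ₗ[E] E :=
    { toFun := fun r => algebraMap R E r * (1 - ε)
      map_add' := fun a b => by simp [add_mul]
      map_smul' := fun x r => by
        change algebraMap R E (x • r) * (1 - ε) = x * (algebraMap R E r * (1 - ε))
        rw [Algebra.smul_def, map_mul]
        calc algebraMap R E (algebraMap E R x) * algebraMap R E r * (1 - ε)
            = (algebraMap R E (algebraMap E R x) * (1 - ε)) * algebraMap R E r := by ring
          _ = (x * (1 - ε)) * algebraMap R E r := by rw [← key x]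
          _ = x * (algebraMap R E r * (1 - ε)) := by ring }
  refine Module.Flat.of_retract i (Algebra.linearMap E R) ?_
  apply LinearMap.ext
  intro r
  change algebraMap E R (algebraMap R E r * (1 - ε)) = r
  rw [map_mul, hsec, map_sub, map_one, ← hμ ε, hμε, sub_zero, mul_one]

/-- Flatness over a filtered colimit of rings can be checked over the stages. -/
theorem ringHom_flat_of_sys {R : Type u} [CommRing R] {ι : Type u} {G : ι → Type u}
    [∀ i, CommRing (G i)] [∀ i, Algebra R (G i)] {B : Type u} [CommRing B] [Algebra R B]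
    {g : ∀ i, G i →ₐ[R] B} (hS : Sys R G B g) {M : Type u} [CommRing M] (β : B →+* M)
    (hflat : ∀ i, (β.comp (g i : G i →+* B)).Flat) : β.Flat := by
  letI := β.toAlgebra
  change Module.Flat B M
  apply Module.Flat.of_forall_isTrivialRelation
  intro l f x hfx
  obtain ⟨i₀⟩ := hS.nonempty
  obtain ⟨j, -, -, c, hc⟩ := hS.lift_fun i₀ f
  letI : Algebra (G j) M := (β.comp (g j : G j →+* B)).toAlgebra
  haveI : Module.Flat (G j) M := hflat j
  have hsm : ∀ (y : G j) (m : M), y • m = g j y • m := fun y m => rfl
  have hrel : ∑ k, c k • x k = 0 := by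
    rw [← hfx]
    refine Finset.sum_congr rfl (fun k _ => ?_)
    rw [hsm, hc]
  obtain ⟨k', a, y, hy, ha⟩ := Module.Flat.isTrivialRelation_of_sum_smul_eq_zero
    (R := G j) (M := M) (f := c) (x := x) hrel
  refine ⟨k', fun i j' => g j (a i j'), y, fun i => ?_, fun j' => ?_⟩
  · rw [hy i]
    rfl
  · have := congrArg (g j) (ha j')
    rw [map_sum, map_zero] at this
    rw [← this]
    refine Finset.sum_congr rfl (fun k _ => ?_)
    rw [map_mul, hc]

/-- The `C`-linear swap `Â ⊗ C ≃ C ⊗ Â`. -/
theorem flat_tensor_right {A C M : Type u} [CommRing A] [CommRing C] [CommRing M] [Algebra A C]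
    [Algebra A M] [Module.Flat A M] :
    (Algebra.TensorProduct.includeRight : C →ₐ[A] M ⊗[A] C).toRingHom.Flat := by
  letI : Algebra C (M ⊗[A] C) :=
    (Algebra.TensorProduct.includeRight : C →ₐ[A] M ⊗[A] C).toRingHom.toAlgebra
  change Module.Flat C (M ⊗[A] C)
  let e : (M ⊗[A] C) ≃ₗ[C] C ⊗[A] M :=
    { (TensorProduct.comm A M C) with
      map_smul' := fun c z => by
        simp only [AddHom.toFun_eq_coe, LinearMap.coe_toAddHom, LinearEquiv.coe_coe,
          RingHom.id_apply]
        induction z using TensorProduct.induction_on with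
        | zero => simp
        | tmul m c' =>
          have : c • (m ⊗ₜ[A] c') = m ⊗ₜ[A] (c * c') := by
            rw [Algebra.smul_def]
            change ((1 : M) ⊗ₜ[A] c) * (m ⊗ₜ[A] c') = _
            rw [Algebra.TensorProduct.tmul_mul_tmul, one_mul]
          rw [this, TensorProduct.comm_tmul, TensorProduct.comm_tmul, TensorProduct.smul_tmul',
            smul_eq_mul]
        | add z w hz hw => rw [smul_add, map_add, hz, hw, map_add, smul_add] }
  exact Module.Flat.of_linearEquiv e

/-- An algebra map from an unramified algebra of essentially finite type to a flat algebra is flat. -/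
theorem ringHom_flat_of_unramified {A C M : Type u} [CommRing A] [CommRing C] [CommRing M]
    [Algebra A C] [Algebra A M] [Module.Flat A M] [Algebra.FormallyUnramified A C]
    [Algebra.EssFiniteType A C] (φ : C →ₐ[A] M) : φ.toRingHom.Flat := by
  let μ : M ⊗[A] C →ₐ[M] M :=
    Algebra.TensorProduct.lift (AlgHom.id M M) φ (fun _ _ => Commute.all _ _)
  have h1 : (Algebra.TensorProduct.includeRight : C →ₐ[A] M ⊗[A] C).toRingHom.Flat :=
    flat_tensor_right
  have h2 : μ.toRingHom.Flat := by
    letI : Algebra (M ⊗[A] C) M := μ.toRingHom.toAlgebra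
    change Module.Flat (M ⊗[A] C) M
    apply flat_of_section
    intro r
    change μ (algebraMap M (M ⊗[A] C) r) = r
    rw [AlgHom.commutes]
    rfl
  have h3 : μ.toRingHom.comp
      (Algebra.TensorProduct.includeRight : C →ₐ[A] M ⊗[A] C).toRingHom = φ.toRingHom := by
    refine RingHom.ext (fun c => ?_)
    change μ ((1 : M) ⊗ₜ[A] c) = φ c
    simp [μ]
  rw [← h3]
  exact RingHom.Flat.comp h1 h2

section Main

variable {A : Type u} [CommRing A] [IsNoetherianRing A] {I : Ideal A} {B : Type u} [CommRing B]
  [Algebra A B]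

theorem henselianRing_adicCompletion :
    HenselianRing (AdicCompletion I A) (I.map (algebraMap A (AdicCompletion I A))) := by
  haveI := AdicCompletion.isAdicComplete_self I (IsNoetherian.noetherian I)
  infer_instance

/-- The henselization of a Noetherian pair maps faithfully flatly to the completion. -/
theorem exists_faithfullyFlat_adicCompletion (hB : Hens2.IsPairHenselization A I B) :
    ∃ β : B →ₐ[A] AdicCompletion I A, β.toRingHom.FaithfullyFlat := by
  obtain ⟨β, -⟩ := exists_algHom_of_isPairHenselization hB (AdicCompletion I A) _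
    henselianRing_adicCompletion le_rfl
  refine ⟨β, ?_⟩
  obtain ⟨ρ, hS⟩ := exists_sys_of_isPairHenselization hB
  have hflat : β.toRingHom.Flat := by
    apply ringHom_flat_of_sys hS
    intro i
    haveI : Algebra.Etale A i.C := i.isNbhd.etale
    have := ringHom_flat_of_unramified (β.comp (ρ i))
    exact this
  letI : Algebra B (AdicCompletion I A) := β.toRingHom.toAlgebra
  haveI : Module.Flat B (AdicCompletion I A) := hflat
  change Module.FaithfullyFlat B (AdicCompletion I A)
  refine ⟨?_⟩
  intro n hn htop
  -- the map to the residue field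
  have hIn : I.map (algebraMap A B) ≤ n := by
    have h1 : I.map (algebraMap A B) ≤ Ideal.jacobson ⊥ := hB.1.jac
    refine h1.trans ?_
    rw [Ideal.jacobson]
    exact sInf_le ⟨bot_le, hn⟩
  let f : A →+* B ⧸ n := (Ideal.Quotient.mk n).comp (algebraMap A B)
  have hf : ∀ a ∈ I, f a = 0 := by
    intro a ha
    exact Ideal.Quotient.eq_zero_iff_mem.mpr (hIn (Ideal.mem_map_of_mem _ ha))
  let ψ₀ : A ⧸ I →+* B ⧸ n := Ideal.Quotient.lift I f hf
  let ψ : AdicCompletion I A →+* B ⧸ n := ψ₀.comp (AdicCompletion.evalOneₐ I).toRingHom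
  have hIf : I.map f ≤ ⊥ := by
    rw [Ideal.map_le_iff_le_comap]
    intro a ha
    rw [Ideal.mem_comap, Ideal.mem_bot]
    exact hf a ha
  obtain ⟨g0, -, hg0⟩ := hB.2 (B ⧸ n) ⊥ f (Groth.Agent.Lib.Helper2.henselianRing_bot _) hIf
  have e1 : ψ.comp β.toRingHom = g0 := by
    apply hg0
    refine RingHom.ext (fun a => ?_)
    change ψ₀ (AdicCompletion.evalOneₐ I (β (algebraMap A B a))) = f a
    rw [AlgHom.commutes, AlgHom.commutes]
    rfl
  have e2 : Ideal.Quotient.mk n = g0 := by
    apply hg0
    rfl
  have hψβ : ∀ b : B, ψ (β b) = Ideal.Quotient.mk n b := fun b =>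
    congrArg (fun k : B →+* B ⧸ n => k b) (e1.trans e2.symm)
  have h1 : (1 : AdicCompletion I A) ∈ (n • ⊤ : Submodule B (AdicCompletion I A)) := by
    rw [htop]; trivial
  have h2 : ∀ z ∈ (n • ⊤ : Submodule B (AdicCompletion I A)), ψ z = 0 := by
    intro z hz
    refine Submodule.smul_induction_on hz (fun b hb x _ => ?_) (fun x y hx hy => ?_)
    · rw [Algebra.smul_def, map_mul]
      change ψ (β b) * _ = 0
      rw [hψβ, Ideal.Quotient.eq_zero_iff_mem.mpr hb, zero_mul]
    · rw [map_add, hx, hy, add_zero]
  have h3 := h2 1 h1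
  rw [map_one] at h3
  haveI : Nontrivial (B ⧸ n) := Ideal.Quotient.nontrivial_iff.mpr hn.ne_top
  exact one_ne_zero h3

/-- The henselization of a Noetherian pair is Noetherian. -/
theorem isNoetherianRing_of_isPairHenselization (hB : Hens2.IsPairHenselization A I B) :
    IsNoetherianRing B := by
  obtain ⟨β, hβ⟩ := exists_faithfullyFlat_adicCompletion hB
  letI : Algebra B (AdicCompletion I A) := β.toRingHom.toAlgebra
  haveI : Module.FaithfullyFlat B (AdicCompletion I A) := hβ
  haveI : IsNoetherianRing (AdicCompletion I A) := Groth.Agent.S0543.result A I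
  exact Groth.Agent.Lib.Helper28.isNoetherianRing_of_faithfullyFlat (R := B)
    (S := AdicCompletion I A)

end Main

end Groth.Agent.Lib.Helper26.HzNoeth
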