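import Mathlib
import Groth.Prelude.Def_Hens2
import Groth.Agent.Lib.Helper11WeierH3d
import Groth.Agent.Lib.Helper26HzNoeth

/-!
# Helper11 WeierH4: quotients of pair henselizations; elements of `R{t}` outside `m R{t}`
-/

set_option autoImplicit false
universe u

open Polynomial IsLocalRing

namespace Groth.Agent.Lib.Helper11.Weier

section QuotHens
variable {A : Type u} [CommRing A] {I : Ideal A} {B : Type u} [CommRing B] [Algebra A B]

/-- the henselization of a pair commutes with quotients of the base -/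
theorem isPairHenselization_quotient (hB : Hens2.IsPairHenselization A I B) (J : Ideal A) :
    Hens2.IsPairHenselization (A ⧸ J) (I.map (Ideal.Quotient.mk J))
      (B ⧸ J.map (algebraMap A B)) := by
  let B' := B ⧸ J.map (algebraMap A B)
  have hcomp : (algebraMap (A ⧸ J) B').comp (Ideal.Quotient.mk J) =
      (Ideal.Quotient.mk (J.map (algebraMap A B))).comp (algebraMap A B) := by
    ext a
    simp only [RingHom.comp_apply]
    exact Ideal.Quotient.algebraMap_quotient_map_quotient _
  refine ⟨?_, ?_⟩
  · haveI : Algebra.IsIntegral B B' :=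
      Algebra.isIntegral_of_surjective Ideal.Quotient.mk_surjective
    haveI : HenselianRing B (I.map (algebraMap A B)) := hB.1
    have h1 : HenselianRing B' ((I.map (algebraMap A B)).map (algebraMap B B')) :=
      Groth.Agent.S0526.result B _ B'
    have e : (I.map (Ideal.Quotient.mk J)).map (algebraMap (A ⧸ J) B') =
        (I.map (algebraMap A B)).map (algebraMap B B') := by
      rw [Ideal.map_map, Ideal.map_map, hcomp]
      rfl
    rw [e]
    exact h1
  · intro C _ K φ hK hle
    have hle' : I.map (φ.comp (Ideal.Quotient.mk J)) ≤ K := by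
      rw [← Ideal.map_map]; exact hle
    obtain ⟨g₀, hg₀, huniq⟩ := hB.2 C K (φ.comp (Ideal.Quotient.mk J)) hK hle'
    have hg₀a : ∀ a : A, g₀ (algebraMap A B a) = φ (Ideal.Quotient.mk J a) := fun a =>
      congrArg (fun k : A →+* C => k a) hg₀
    have hker : ∀ x ∈ J.map (algebraMap A B), g₀ x = 0 := by
      have hle2 : J.map (algebraMap A B) ≤ RingHom.ker g₀ := by
        rw [Ideal.map_le_iff_le_comap]
        intro a ha
        rw [Ideal.mem_comap, RingHom.mem_ker, hg₀a, Ideal.Quotient.eq_zero_iff_mem.mpr ha, map_zero]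
      exact fun x hx => hle2 hx
    refine ⟨Ideal.Quotient.lift _ g₀ hker, ?_, ?_⟩
    · apply Ideal.Quotient.ringHom_ext
      ext a
      simp only [RingHom.comp_apply]
      rw [Ideal.Quotient.algebraMap_quotient_map_quotient, Ideal.Quotient.lift_mk, hg₀a]
    · intro g' hg'
      apply Ideal.Quotient.ringHom_ext
      have h2 : g'.comp (Ideal.Quotient.mk (J.map (algebraMap A B))) = g₀ := by
        apply huniq
        rw [RingHom.comp_assoc, ← hcomp, ← RingHom.comp_assoc, hg']
      rw [h2]
      ext b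
      simp only [RingHom.comp_apply]
      rw [Ideal.Quotient.lift_mk]

end QuotHens

section Krull
variable {R : Type u} [CommRing R] [HenselianLocalRing R]
variable {B : Type u} [CommRing B] [Algebra R B] [Algebra R[X] B] [IsScalarTower R R[X] B]
variable (hB : Hens2.IsPairHenselization R[X] (Ideal.span {(X : R[X])}) B)

omit [HenselianLocalRing R] in
lemma isNoetherianRing_quot [IsLocalRing R] :
    IsNoetherianRing (R[X] ⧸ (maximalIdeal R).map (C : R →+* R[X])) := by
  letI : Field (R ⧸ maximalIdeal R) := Ideal.Quotient.field _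
  exact isNoetherianRing_of_ringEquiv _
    (Ideal.polynomialQuotientEquivQuotientPolynomial (maximalIdeal R))

include hB in
/-- Krull intersection: `⋂ (mB + t^n B) = mB` -/
theorem mem_of_forall_mem_sup (f : B)
    (hf : ∀ n : ℕ, f ∈ (maximalIdeal R).map (algebraMap R B) ⊔ Ideal.span {(tB (R := R) B) ^ n}) :
    f ∈ (maximalIdeal R).map (algebraMap R B) := by
  let J : Ideal R[X] := (maximalIdeal R).map (C : R →+* R[X])
  have hJB : J.map (algebraMap R[X] B) = (maximalIdeal R).map (algebraMap R B) := by
    rw [Ideal.map_map, IsScalarTower.algebraMap_eq R R[X] B]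
    rfl
  have hB' := isPairHenselization_quotient hB J
  haveI : IsNoetherianRing (R[X] ⧸ J) := isNoetherianRing_quot
  haveI : IsNoetherianRing (B ⧸ J.map (algebraMap R[X] B)) :=
    Groth.Agent.Lib.Helper26.HzNoeth.isNoetherianRing_of_isPairHenselization hB'
  let B' := B ⧸ J.map (algebraMap R[X] B)
  let mk' : B →+* B' := Ideal.Quotient.mk _
  set I' : Ideal B' := ((Ideal.span {(X : R[X])}).map (Ideal.Quotient.mk J)).map
    (algebraMap (R[X] ⧸ J) B') with hI'
  have hI'eq : I' = Ideal.span {mk' (tB (R := R) B)} := by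
    rw [hI', Ideal.map_span, Set.image_singleton, Ideal.map_span, Set.image_singleton,
      Ideal.Quotient.algebraMap_quotient_map_quotient]
  have hjac : I' ≤ Ideal.jacobson ⊥ := hB'.1.jac
  have hkrull := Ideal.iInf_pow_smul_eq_bot_of_le_jacobson (M := B') I' hjac
  have hmem : mk' f ∈ (⨅ i : ℕ, I' ^ i • ⊤ : Submodule B' B') := by
    rw [Submodule.mem_iInf]
    intro n
    rw [smul_eq_mul, Ideal.mul_top, hI'eq, Ideal.span_singleton_pow]
    obtain ⟨μ, hμ, y, hy, hsum⟩ := Submodule.mem_sup.mp (hf n)
    obtain ⟨w, rfl⟩ := Ideal.mem_span_singleton'.mp hy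
    rw [← hsum, map_add, map_mul, map_pow]
    have h0 : mk' μ = 0 := by
      apply Ideal.Quotient.eq_zero_iff_mem.mpr
      rw [hJB]; exact hμ
    rw [h0, zero_add]
    exact Ideal.mul_mem_left _ _ (Ideal.mem_span_singleton_self _)
  rw [hkrull, Submodule.mem_bot] at hmem
  have := Ideal.Quotient.eq_zero_iff_mem.mp hmem
  rwa [hJB] at this

include hB in
/-- an element outside `mB` is, up to a unit, congruent to a power of `t` modulo `mB` -/
theorem exists_unit_mul_sub_pow_mem (f : B)
    (hf : f ∉ (maximalIdeal R).map (algebraMap R B)) :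
    ∃ (N : ℕ) (u : Bˣ), f * u - (tB (R := R) B) ^ N ∈ (maximalIdeal R).map (algebraMap R B) := by
  classical
  have hex : ∃ n : ℕ, f ∉ (maximalIdeal R).map (algebraMap R B) ⊔
      Ideal.span {(tB (R := R) B) ^ n} := by
    by_contra hcon
    push Not at hcon
    exact hf (mem_of_forall_mem_sup hB f hcon)
  set n₀ := Nat.find hex with hn₀
  have hn₀spec := Nat.find_spec hex
  have hn₀pos : n₀ ≠ 0 := by
    intro h0
    rw [← hn₀, h0, pow_zero, Ideal.span_singleton_one] at hn₀spec
    exact hn₀spec (by rw [sup_top_eq]; trivial)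
  obtain ⟨N, hN⟩ := Nat.exists_eq_succ_of_ne_zero hn₀pos
  have hNmem : f ∈ (maximalIdeal R).map (algebraMap R B) ⊔ Ideal.span {(tB (R := R) B) ^ N} := by
    have := Nat.find_min hex (m := N) (by rw [← hn₀, hN]; exact Nat.lt_succ_self N)
    exact not_not.mp this
  obtain ⟨μ, hμ, y, hy, hsum⟩ := Submodule.mem_sup.mp hNmem
  obtain ⟨w, rfl⟩ := Ideal.mem_span_singleton'.mp hy
  have hwu : IsUnit w := by
    by_contra hnu
    have hεw : eps hB w ∈ maximalIdeal R := by
      rw [isUnit_iff_eps hB] at hnu
      exact (mem_maximalIdeal _).mpr hnu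
    obtain ⟨w', hw'⟩ := Ideal.mem_span_singleton'.mp (sub_algebraMap_eps_mem hB w)
    have hw2 : w = algebraMap R B (eps hB w) + (tB (R := R) B) * w' := by
      have : w - algebraMap R B (eps hB w) = w' * tB (R := R) B := hw'.symm
      rw [mul_comm, ← this]; ring
    apply hn₀spec
    rw [← hn₀, hN, ← hsum]
    have e : μ + w * (tB (R := R) B) ^ N =
        (μ + algebraMap R B (eps hB w) * (tB (R := R) B) ^ N) +
          w' * (tB (R := R) B) ^ (N + 1) := by
      conv_lhs => rw [hw2]
      ring
    rw [e]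
    refine Submodule.add_mem_sup (Ideal.add_mem _ hμ ?_)
      (Ideal.mul_mem_left _ _ (Ideal.mem_span_singleton_self _))
    exact Ideal.mul_mem_right _ _ (Ideal.mem_map_of_mem _ hεw)
  obtain ⟨wu, rfl⟩ := hwu
  refine ⟨N, wu⁻¹, ?_⟩
  have e : f * ((wu⁻¹ : Bˣ) : B) - (tB (R := R) B) ^ N = μ * ((wu⁻¹ : Bˣ) : B) := by
    rw [← hsum, add_mul, mul_comm (wu : B), mul_assoc, Units.mul_inv, mul_one]
    ring
  rw [e]
  exact Ideal.mul_mem_right _ _ hμ

end Krull

end Groth.Agent.Lib.Helper11.Weier
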