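import Mathlib
import Groth.Prelude.Def_Hens2
import Groth.Agent.Lib.Helper11WeierH3d

/-!
# Helper11 WeierH5: ideals of `R[s]` and of `R{t}[1/t]` comaximal with `m`
-/

set_option autoImplicit false
universe u

open Polynomial IsLocalRing

namespace Groth.Agent.Lib.Helper11.Weier

section Retr
variable {R : Type u} [CommRing R]
variable {L : Type u} [CommRing L] [Algebra R L]
variable (ψ : R[X] →ₐ[R] L) {f : R[X]}

/-- `comap ψ (map ψ I) = I` for ideals containing `f`, given a retraction -/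
lemma comap_map_eq_of_retraction (Λ : L →+* Q f)
    (hΛ : Λ.comp (ψ : R[X] →+* L) = Ideal.Quotient.mk (Ideal.span {f}))
    (I : Ideal R[X]) (hfI : f ∈ I) :
    (I.map (ψ : R[X] →+* L)).comap (ψ : R[X] →+* L) = I := by
  refine le_antisymm ?_ Ideal.le_comap_map
  intro p hp
  have hp' : (ψ : R[X] →+* L) p ∈ I.map (ψ : R[X] →+* L) := hp
  have h1 := Ideal.mem_map_of_mem Λ hp'
  rw [Ideal.map_map, hΛ] at h1
  have h2 : Λ ((ψ : R[X] →+* L) p) = Ideal.Quotient.mk (Ideal.span {f}) p := by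
    rw [← RingHom.comp_apply, hΛ]
  rw [h2, Ideal.mem_map_iff_of_surjective _ Ideal.Quotient.mk_surjective] at h1
  obtain ⟨i, hi, hip⟩ := h1
  have h3 : i - p ∈ Ideal.span {f} := Ideal.Quotient.eq.mp hip
  have h4 : i - p ∈ I := (Ideal.span_singleton_le_iff_mem (I := I)).mpr hfI h3
  have : p = i - (i - p) := by ring
  rw [this]
  exact I.sub_mem hi h4

end Retr

section LB
variable {R : Type u} [CommRing R] [HenselianLocalRing R]
variable {B : Type u} [CommRing B] [Algebra R B] [Algebra R[X] B] [IsScalarTower R R[X] B]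
variable (hB : Hens2.IsPairHenselization R[X] (Ideal.span {(X : R[X])}) B)
variable {L : Type u} [CommRing L] [Algebra B L] [Algebra R[X] L] [Algebra R L]
  [IsScalarTower R[X] B L] [IsScalarTower R B L] [IsScalarTower R R[X] L]
  [IsLocalization.Away (tB (R := R) B) L]
variable (ψ : R[X] →ₐ[R] L) (hψ : ψ X * algebraMap R[X] L X = 1)
variable {f : R[X]} (hf0 : f.coeff 0 = 1) (hfm : ∀ i, i ≠ 0 → f.coeff i ∈ maximalIdeal R)

include hB hf0 hfm hψ in
omit [Algebra R B] [IsScalarTower R R[X] B] [IsScalarTower R B L] in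
/-- the retraction `L → R[s]/(f)` -/
lemma exists_LamB : ∃ Λ : L →+* Q f,
    Λ.comp (ψ : R[X] →+* L) = Ideal.Quotient.mk (Ideal.span {f}) := by
  obtain ⟨g, hg⟩ := exists_gP hB (refl f) (refl_monic hf0) (refl_coeff_mem hf0 hfm)
  have hgq : ∀ p : R[X], g (algebraMap R[X] B p) = AdjoinRoot.mk (refl f) p := fun p =>
    congrArg (fun φ : R[X] →+* AdjoinRoot (refl f) => φ p) hg
  let lft : AdjoinRoot (refl f) →+* Q f :=
    AdjoinRoot.lift (algebraMap R (Q f)) (qy f) (eval₂_qy_refl hf0)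
  let Λ₀ : B →+* Q f := lft.comp g
  have hΛ₀ : ∀ p : R[X], Λ₀ (algebraMap R[X] B p) = eval₂ (algebraMap R (Q f)) (qy f) p := by
    intro p
    show lft (g (algebraMap R[X] B p)) = _
    rw [hgq]
    exact AdjoinRoot.lift_mk _ _
  have hΛ₀t : Λ₀ (tB (R := R) B) = qy f := by
    rw [hΛ₀, eval₂_X]
  have hu : IsUnit (Λ₀ (tB (R := R) B)) := by
    rw [hΛ₀t]
    exact IsUnit.of_mul_eq_one (qx f) (by rw [mul_comm]; exact qx_mul_qy hf0)
  let Λ : L →+* Q f := IsLocalization.Away.lift (tB (R := R) B) hu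
  have hΛ : ∀ b : B, Λ (algebraMap B L b) = Λ₀ b := fun b => IsLocalization.Away.lift_eq _ hu b
  refine ⟨Λ, ?_⟩
  apply Polynomial.ringHom_ext
  · intro a
    have h1 : (ψ : R[X] →+* L) (C a) = algebraMap B L (algebraMap R[X] B (C a)) := by
      show ψ (C a) = _
      have e : (C a : R[X]) = algebraMap R R[X] a := rfl
      rw [e, ψ.commutes, ← IsScalarTower.algebraMap_apply R[X] B L,
        ← IsScalarTower.algebraMap_apply R R[X] L]
    rw [RingHom.comp_apply, h1, hΛ, hΛ₀, eval₂_C]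
    rfl
  · have hX : algebraMap R[X] L X = algebraMap B L (tB (R := R) B) :=
      IsScalarTower.algebraMap_apply R[X] B L X
    have h1 : Λ (ψ X) * qy f = 1 := by
      have := congrArg Λ hψ
      rw [map_mul, map_one, hX, hΛ, hΛ₀t] at this
      exact this
    show Λ (ψ X) = qx f
    calc Λ (ψ X) = Λ (ψ X) * (qy f * qx f) := by
          rw [mul_comm (qy f), qx_mul_qy hf0, mul_one]
      _ = qx f := by rw [← mul_assoc, h1, one_mul]

include hB hf0 hfm hψ in
omit [IsScalarTower R B L] [Algebra R B] [IsScalarTower R R[X] B] in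
/-- every element of `L` is congruent to an element of `ψ(R[X])` modulo `ψ f` -/
lemma exists_sub_mem_B (l : L) : ∃ p : R[X], l - ψ p ∈ Ideal.span {ψ f} := by
  set K : Ideal L := Ideal.span {ψ f} with hK
  let mkK : L →+* L ⧸ K := Ideal.Quotient.mk K
  set T : L := algebraMap R[X] L X with hT
  have hTψ : T * ψ X = 1 := by rw [mul_comm]; exact hψ
  -- `alg P = ψ f * T ^ n`
  have hP : algebraMap R[X] L (refl f) = ψ f * T ^ f.natDegree := by
    have h := psi_reflect_mul_pow ψ hψ f.natDegree (refl f) (by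
      rw [refl_natDegree hf0])
    rw [← h]
    congr 2
    exact reflect_reflect
  have hPK : mkK (algebraMap R[X] L (refl f)) = 0 := by
    rw [hP, map_mul]
    have : mkK (ψ f) = 0 := Ideal.Quotient.eq_zero_iff_mem.mpr (Ideal.mem_span_singleton_self _)
    rw [this, zero_mul]
  -- `T ≡ ψ(-divX f)`
  have hTY : mkK T = mkK (ψ (-(divX f))) := by
    apply Ideal.Quotient.eq.mpr
    have h := X_mul_divX_add f
    rw [hf0] at h
    have hf' : ψ f = ψ X * ψ (divX f) + 1 := by
      conv_lhs => rw [← h]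
      rw [map_add, map_mul, C_1, map_one]
    have e : T - ψ (-(divX f)) = T * ψ f := by
      rw [hf', map_neg, mul_add, ← mul_assoc, hTψ]
      ring
    rw [e]
    exact K.mul_mem_left _ (Ideal.mem_span_singleton_self _)
  obtain ⟨k, b, hlb⟩ := IsLocalization.Away.surj (tB (R := R) B) l
  have hlb' : l * T ^ k = algebraMap B L b := by
    rw [hT, IsScalarTower.algebraMap_apply R[X] B L]
    exact hlb
  obtain ⟨q, hq⟩ := division_surj hB (refl f) (refl_monic hf0) (refl_coeff_mem hf0 hfm) b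
  obtain ⟨d, hd⟩ := Ideal.mem_span_singleton'.mp hq
  have hqb : mkK (algebraMap R[X] L q) = mkK (algebraMap B L b) := by
    have h1 : algebraMap R[X] L q - algebraMap B L b =
        algebraMap B L d * algebraMap R[X] L (refl f) := by
      rw [IsScalarTower.algebraMap_apply R[X] B L, IsScalarTower.algebraMap_apply R[X] B L,
        ← map_sub, ← hd, map_mul]
    rw [← sub_eq_zero, ← map_sub, h1, map_mul, hPK, mul_zero]
  have hq' : algebraMap R[X] L q = ψ (reflect q.natDegree q) * T ^ q.natDegree :=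
    (psi_reflect_mul_pow ψ hψ q.natDegree q le_rfl).symm
  refine ⟨reflect q.natDegree q * (-(divX f)) ^ q.natDegree * X ^ k, ?_⟩
  apply Ideal.Quotient.eq.mp
  show mkK l = mkK (ψ _)
  have h1 : mkK l = mkK (l * T ^ k) * mkK (ψ X) ^ k := by
    have e0 : l = l * T ^ k * (ψ X) ^ k := by rw [mul_assoc, ← mul_pow, hTψ, one_pow, mul_one]
    conv_lhs => rw [e0]
    rw [map_mul, map_pow]
  rw [h1, hlb', ← hqb, hq', map_mul (mkK), map_pow mkK, hTY]
  simp only [map_mul, map_pow]

include hB hψ in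
/-- Henselian key step: an ideal of `L` comaximal with `mL` contains `ψ f` for a normalized `f` -/
theorem exists_normalized_of_loc_B (J : Ideal L)
    (hJ : J ⊔ (maximalIdeal R).map (algebraMap R L) = ⊤) :
    ∃ f : R[X], ψ f ∈ J ∧ f.coeff 0 = 1 ∧ ∀ i, i ≠ 0 → f.coeff i ∈ maximalIdeal R := by
  set t : B := tB (R := R) B with ht
  have hX : algebraMap R[X] L X = algebraMap B L t :=
    IsScalarTower.algebraMap_apply R[X] B L X
  have h1 : (1 : L) ∈ J ⊔ (maximalIdeal R).map (algebraMap R L) := by rw [hJ]; trivial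
  obtain ⟨j, hj, μ, hμ, hsum⟩ := Submodule.mem_sup.mp h1
  obtain ⟨a', j', hj'⟩ := IsLocalization.Away.surj t j
  have hμ' : μ ∈ Ideal.map (algebraMap B L) ((maximalIdeal R).map (algebraMap R B)) := by
    rw [Ideal.map_map, ← IsScalarTower.algebraMap_eq]; exact hμ
  rw [IsLocalization.mem_map_algebraMap_iff (Submonoid.powers t)] at hμ'
  obtain ⟨⟨⟨μ', hμ'm⟩, ⟨_, a, rfl⟩⟩, hμs⟩ := hμ'
  have hμs' : μ * algebraMap B L (t ^ a) = algebraMap B L μ' := hμs
  have key : algebraMap B L (t ^ (a + a') - (j' * t ^ a + μ' * t ^ a')) = 0 := by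
    simp only [map_sub, map_add, map_mul, map_pow, pow_add]
    rw [map_pow] at hμs'
    linear_combination ((algebraMap B L t) ^ a) * hj' + ((algebraMap B L t) ^ a') * hμs' +
      (-((algebraMap B L t) ^ a * (algebraMap B L t) ^ a')) * hsum
  obtain ⟨⟨_, M, rfl⟩, hM⟩ := (IsLocalization.map_eq_zero_iff (Submonoid.powers t) L _).mp key
  have hM' : t ^ M * (t ^ (a + a') - (j' * t ^ a + μ' * t ^ a')) = 0 := hM
  set b : B := t ^ M * (j' * t ^ a) with hb
  have hbJ : algebraMap B L b ∈ J := by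
    rw [hb, map_mul, map_mul, ← hj']
    exact J.mul_mem_left _ (J.mul_mem_right _ (J.mul_mem_right _ hj))
  have hbm : b - t ^ (M + (a + a')) ∈ (maximalIdeal R).map (algebraMap R B) := by
    have e : b - t ^ (M + (a + a')) = -(t ^ M * t ^ a' * μ') := by
      rw [hb, pow_add t M]
      linear_combination -hM'
    rw [e]
    exact neg_mem (Ideal.mul_mem_left _ _ hμ'm)
  obtain ⟨P, hPmonic, hPdeg, hPcoeff, v, hPv⟩ := exists_weierstrass hB b (M + (a + a')) hbm
  set n := M + (a + a') with hn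
  have hPJ : algebraMap R[X] L P ∈ J := by
    rw [IsScalarTower.algebraMap_apply R[X] B L, hPv, map_mul]
    exact J.mul_mem_right _ hbJ
  refine ⟨reflect n P, ?_, ?_, ?_⟩
  · have h := psi_reflect_mul_pow ψ hψ n P hPdeg.le
    have h2 : ψ (reflect n P) = algebraMap R[X] L P * (ψ X) ^ n := by
      rw [← h, mul_assoc, ← mul_pow, mul_comm _ (ψ X), hψ, one_pow, mul_one]
    rw [h2]
    exact J.mul_mem_right _ hPJ
  · rw [coeff_reflect, revAt_zero, ← hPdeg]
    exact hPmonic.coeff_natDegree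
  · intro i hi
    rw [coeff_reflect]
    by_cases hna : i ≤ n
    · rw [revAt_le hna]
      exact hPcoeff _ (by omega)
    · rw [revAt_eq_self_of_lt (by omega), coeff_eq_zero_of_natDegree_lt (by omega)]
      exact zero_mem _

include hB hψ in
omit [Algebra R B] [IsScalarTower R R[X] B] [IsScalarTower R B L] in
theorem partA_B (I : Ideal R[X]) (hI : I ⊔ (maximalIdeal R).map (algebraMap R R[X]) = ⊤) :
    (I.map ψ.toRingHom).comap ψ.toRingHom = I ∧
    I.map ψ.toRingHom ⊔ (maximalIdeal R).map (algebraMap R L) = ⊤ ∧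
    Function.Bijective (Ideal.quotientMap (I.map ψ.toRingHom) ψ.toRingHom Ideal.le_comap_map) := by
  obtain ⟨f, hfI, hf0, hfm⟩ := exists_normalized I hI
  obtain ⟨Λ, hΛ⟩ := exists_LamB hB ψ hψ hf0 hfm
  have hA1 : (I.map ψ.toRingHom).comap ψ.toRingHom = I :=
    comap_map_eq_of_retraction ψ Λ hΛ I hfI
  refine ⟨hA1, ?_, ?_, ?_⟩
  · rw [Ideal.eq_top_iff_one]
    have h1 : ψ f ∈ I.map ψ.toRingHom := Ideal.mem_map_of_mem ψ.toRingHom hfI
    have h2 : ψ f - 1 ∈ (maximalIdeal R).map (algebraMap R L) := by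
      apply psi_sub_one_mem ψ
      intro i
      rw [coeff_sub, coeff_one]
      split_ifs with h
      · rw [h, hf0, sub_self]; exact zero_mem _
      · rw [sub_zero]; exact hfm i h
    have : (1 : L) = ψ f - (ψ f - 1) := by ring
    rw [this]
    exact Ideal.sub_mem _ (Ideal.mem_sup_left h1) (Ideal.mem_sup_right h2)
  · apply Ideal.quotientMap_injective'
    exact hA1.le
  · intro z
    obtain ⟨l, rfl⟩ := Ideal.Quotient.mk_surjective z
    obtain ⟨p, hp⟩ := exists_sub_mem_B hB ψ hψ hf0 hfm l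
    refine ⟨Ideal.Quotient.mk _ p, ?_⟩
    rw [Ideal.quotientMap_mk]
    apply Ideal.Quotient.eq.mpr
    have hle : Ideal.span {ψ f} ≤ I.map ψ.toRingHom := by
      rw [Ideal.span_singleton_le_iff_mem]
      exact Ideal.mem_map_of_mem ψ.toRingHom hfI
    have := hle hp
    have h2 : ψ.toRingHom p - l = -(l - ψ p) := by
      show ψ p - l = _
      ring
    rw [h2]
    exact neg_mem this

include hB hψ in
theorem partB_B (J : Ideal L) (hJ : J ⊔ (maximalIdeal R).map (algebraMap R L) = ⊤) :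
    (J.comap ψ.toRingHom).map ψ.toRingHom = J ∧
    J.comap ψ.toRingHom ⊔ (maximalIdeal R).map (algebraMap R R[X]) = ⊤ := by
  obtain ⟨f, hfJ, hf0, hfm⟩ := exists_normalized_of_loc_B hB ψ hψ J hJ
  have hfI : f ∈ J.comap ψ.toRingHom := hfJ
  constructor
  · refine le_antisymm Ideal.map_comap_le ?_
    intro j hj
    obtain ⟨p, hp⟩ := exists_sub_mem_B hB ψ hψ hf0 hfm j
    have hleJ : Ideal.span {ψ f} ≤ J := (Ideal.span_singleton_le_iff_mem (I := J)).mpr hfJ
    have hpJ : ψ p ∈ J := by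
      have : ψ p = j - (j - ψ p) := by ring
      rw [this]
      exact J.sub_mem hj (hleJ hp)
    have hpI : p ∈ J.comap ψ.toRingHom := hpJ
    have hle : Ideal.span {ψ f} ≤ (J.comap ψ.toRingHom).map ψ.toRingHom := by
      rw [Ideal.span_singleton_le_iff_mem]
      exact Ideal.mem_map_of_mem ψ.toRingHom hfI
    have : j = ψ.toRingHom p + (j - ψ p) := by
      show j = ψ p + (j - ψ p)
      ring
    rw [this]
    exact Ideal.add_mem _ (Ideal.mem_map_of_mem ψ.toRingHom hpI) (hle hp)
  · rw [Ideal.eq_top_iff_one]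
    have h2 : f - 1 ∈ (maximalIdeal R).map (algebraMap R R[X]) := by
      rw [Polynomial.algebraMap_eq, Ideal.mem_map_C_iff]
      intro i
      rw [coeff_sub, coeff_one]
      split_ifs with h
      · rw [h, hf0, sub_self]; exact zero_mem _
      · rw [sub_zero]; exact hfm i h
    have : (1 : R[X]) = f - (f - 1) := by ring
    rw [this]
    exact Ideal.sub_mem _ (Ideal.mem_sup_left hfI) (Ideal.mem_sup_right h2)

end LB

end Groth.Agent.Lib.Helper11.Weier
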