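import Mathlib

set_option autoImplicit false
universe u

namespace Groth.Agent.Lib.Helper11ZeroDimSep

/-- the prime spectrum of a ring integral over a field is totally separated: distinct primes are
separated by a clopen set -/
theorem exists_isClopen_of_ne {k A : Type*} [Field k] [CommRing A] [Algebra k A]
    [Algebra.IsIntegral k A] (p q : PrimeSpectrum A) (hpq : p ≠ q) :
    ∃ S : Set (PrimeSpectrum A), IsClopen S ∧ p ∈ S ∧ q ∉ S := by
  -- an element in the symmetric difference
  obtain ⟨a, ha⟩ : ∃ a : A, ¬ (a ∈ p.asIdeal ↔ a ∈ q.asIdeal) := by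
    by_contra h
    push Not at h
    apply hpq
    apply PrimeSpectrum.ext
    ext a
    exact h a
  let B := Algebra.adjoin k {a}
  have hfin : Module.Finite k B := by
    have : (Algebra.adjoin k {a}).toSubmodule.FG :=
      IsIntegral.fg_adjoin_singleton (Algebra.IsIntegral.isIntegral a)
    exact Module.Finite.iff_fg.mpr this
  have hart : IsArtinianRing B := IsArtinianRing.of_finite k B
  have hdisc : DiscreteTopology (PrimeSpectrum B) := inferInstance
  let c : PrimeSpectrum A → PrimeSpectrum B := PrimeSpectrum.comap (algebraMap B A)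
  have hc : Continuous c := PrimeSpectrum.continuous_comap (algebraMap B A)
  refine ⟨c ⁻¹' {c p}, (isClopen_discrete _).preimage hc, rfl, ?_⟩
  intro hq
  have hq' : c q = c p := hq
  apply ha
  have hmem : ∀ r : PrimeSpectrum A, a ∈ r.asIdeal ↔
      (⟨a, Algebra.subset_adjoin (Set.mem_singleton a)⟩ : B) ∈ (c r).asIdeal := by
    intro r
    rfl
  rw [hmem p, hmem q, hq']

end Groth.Agent.Lib.Helper11ZeroDimSep
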