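import Mathlib

/-!
# Absolute products of affine schemes and closed immersions (helper12)

`absProd U V` is the product of two schemes over the terminal scheme.  For affine `U`, `V` a morphism
`P ⟶ absProd U V` is a closed immersion iff `P` is affine and `Γ(U) ⊗[ℤ] Γ(V) → Γ(P)` is surjective.
-/

set_option autoImplicit false
universe u
open CategoryTheory CategoryTheory.Limits AlgebraicGeometry TensorProduct

namespace Groth.Agent.Lib.Helper12.AbsProd

/-- In `CommRingCat`, the two legs of a pushout jointly generate. -/
lemma productMap_surjective_of_isPushout {R A B C : CommRingCat.{u}} {f : R ⟶ A} {g : R ⟶ B}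
    {inl : A ⟶ C} {inr : B ⟶ C} (h : IsPushout f g inl inr) :
    Function.Surjective
      (Algebra.TensorProduct.productMap inl.hom.toIntAlgHom inr.hom.toIntAlgHom) := by
  set θ := Algebra.TensorProduct.productMap inl.hom.toIntAlgHom inr.hom.toIntAlgHom with hθ
  let T : Subring C := θ.toRingHom.range
  have hl : ∀ a : A, inl.hom a ∈ T := fun a => ⟨a ⊗ₜ 1, by simp [hθ]⟩
  have hr : ∀ b : B, inr.hom b ∈ T := fun b => ⟨1 ⊗ₜ b, by simp [hθ]⟩
  let inl' : A ⟶ CommRingCat.of T := CommRingCat.ofHom (inl.hom.codRestrict T hl)
  let inr' : B ⟶ CommRingCat.of T := CommRingCat.ofHom (inr.hom.codRestrict T hr)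
  let ι : CommRingCat.of T ⟶ C := CommRingCat.ofHom T.subtype
  have w : f ≫ inl' = g ≫ inr' := by
    ext r
    have := congrArg (fun m => m.hom r) h.w
    exact this
  have h1 : inl ≫ h.desc inl' inr' w ≫ ι = inl ≫ 𝟙 C := by
    rw [h.inl_desc_assoc]; rfl
  have h2 : inr ≫ h.desc inl' inr' w ≫ ι = inr ≫ 𝟙 C := by
    rw [h.inr_desc_assoc]; rfl
  have h3 : h.desc inl' inr' w ≫ ι = 𝟙 C := h.hom_ext h1 h2
  intro c
  have hc : c ∈ T := by
    have := congrArg (fun m => m.hom c) h3
    simp only [CommRingCat.hom_comp, CommRingCat.hom_id, RingHom.id_apply] at this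
    rw [← this]
    exact ((h.desc inl' inr' w).hom c).2
  obtain ⟨x, hx⟩ := hc
  exact ⟨x, hx⟩

/-- the absolute product of two schemes. -/
noncomputable abbrev absProd (U V : Scheme.{u}) : Scheme.{u} :=
  pullback (terminal.from U) (terminal.from V)

/-- the morphism to the absolute product. -/
noncomputable def absLift {P U V : Scheme.{u}} (f : P ⟶ U) (g : P ⟶ V) : P ⟶ absProd U V :=
  pullback.lift f g (terminal.hom_ext _ _)

@[reassoc (attr := simp)]
lemma absLift_fst {P U V : Scheme.{u}} (f : P ⟶ U) (g : P ⟶ V) :
    absLift f g ≫ pullback.fst _ _ = f := pullback.lift_fst _ _ _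

@[reassoc (attr := simp)]
lemma absLift_snd {P U V : Scheme.{u}} (f : P ⟶ U) (g : P ⟶ V) :
    absLift f g ≫ pullback.snd _ _ = g := pullback.lift_snd _ _ _

lemma comp_absLift {Q P U V : Scheme.{u}} (k : Q ⟶ P) (f : P ⟶ U) (g : P ⟶ V) :
    k ≫ absLift f g = absLift (k ≫ f) (k ≫ g) := by
  apply pullback.hom_ext <;> simp

/-- the comparison of the product over a base with the absolute product is a monomorphism. -/
instance mono_absLift_pullback {U V B : Scheme.{u}} (p : U ⟶ B) (q : V ⟶ B) :
    Mono (absLift (pullback.fst p q) (pullback.snd p q)) := by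
  constructor
  intro Z x y hxy
  apply pullback.hom_ext
  · have := congrArg (fun m => m ≫ pullback.fst _ _) hxy
    simpa using this
  · have := congrArg (fun m => m ≫ pullback.snd _ _) hxy
    simpa using this

lemma productMap_eq {P U V : Scheme.{u}} (f : P ⟶ U) (g : P ⟶ V) :
    Algebra.TensorProduct.productMap f.appTop.hom.toIntAlgHom g.appTop.hom.toIntAlgHom =
      ((absLift f g).appTop.hom.toIntAlgHom).comp
        (Algebra.TensorProduct.productMap
          (pullback.fst (terminal.from U) (terminal.from V)).appTop.hom.toIntAlgHom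
          (pullback.snd (terminal.from U) (terminal.from V)).appTop.hom.toIntAlgHom) := by
  apply Algebra.TensorProduct.ext'
  intro a b
  have h1 : f.appTop = (pullback.fst (terminal.from U) (terminal.from V)).appTop ≫
      (absLift f g).appTop := by
    rw [← Scheme.Hom.comp_appTop, absLift_fst]
  have h2 : g.appTop = (pullback.snd (terminal.from U) (terminal.from V)).appTop ≫
      (absLift f g).appTop := by
    rw [← Scheme.Hom.comp_appTop, absLift_snd]
  simp only [Algebra.TensorProduct.productMap_apply_tmul, RingHom.toIntAlgHom_apply,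
    AlgHom.comp_apply, map_mul]
  rw [h1, h2]
  rfl

/-- closed immersions into the absolute product of two affine schemes. -/
lemma isClosedImmersion_absLift_iff {P U V : Scheme.{u}} [IsAffine U] [IsAffine V]
    (f : P ⟶ U) (g : P ⟶ V) :
    IsClosedImmersion (absLift f g) ↔ IsAffine P ∧ Function.Surjective
      (Algebra.TensorProduct.productMap f.appTop.hom.toIntAlgHom g.appTop.hom.toIntAlgHom) := by
  rw [HasAffineProperty.iff_of_isAffine (P := @IsClosedImmersion), productMap_eq]
  refine and_congr_right (fun _ => ?_)
  constructor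
  · intro h
    have hθ := productMap_surjective_of_isPushout
      (isPushout_appTop_of_isPullback (IsPullback.of_hasPullback (terminal.from U) (terminal.from V)))
    exact h.comp hθ
  · intro h
    exact Function.Surjective.of_comp h

end Groth.Agent.Lib.Helper12.AbsProd
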