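import Mathlib
import Groth.Agent.Lib.Helper26HenselNbhd
import Groth.Agent.Lib.Helper2HenselQuot

/-!
# Lifting algebra maps from étale algebras into Henselian pairs (helper26)
-/

set_option autoImplicit false
universe u

open TensorProduct

namespace Groth.Agent.Lib.Helper26.HenselLift

open Groth.Agent.Lib.Helper26.HenselEtale Groth.Agent.Lib.Helper26.HenselUnique

/-- `(C, J)` a Henselian pair, `C` an `A`-algebra, `R` étale over `A`: every `A`-algebra map
`R → C/J` lifts to an `A`-algebra map `R → C`. -/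
theorem exists_algHom_lift {A R C : Type u} [CommRing A] [CommRing R] [CommRing C] [Algebra A R]
    [Algebra A C] [Algebra.Etale A R] (J : Ideal C) [HenselianRing C J] (σ₀ : R →ₐ[A] C ⧸ J) :
    ∃ f : R →ₐ[A] C, ∀ r, Ideal.Quotient.mk J (f r) = σ₀ r := by
  let σ : C ⊗[A] R →ₐ[C] C ⧸ J :=
    Algebra.TensorProduct.lift (Algebra.ofId C (C ⧸ J)) σ₀ (fun _ _ => Commute.all _ _)
  obtain ⟨τ, hτ⟩ := etale_lift C J (C ⊗[A] R) σ
  refine ⟨(τ.restrictScalars A).comp (Algebra.TensorProduct.includeRight (R := A) (A := C)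
    (B := R)), ?_⟩
  intro r
  have := congrArg (fun φ : C ⊗[A] R →ₐ[C] C ⧸ J => φ ((1 : C) ⊗ₜ[A] r)) hτ
  simp only [AlgHom.coe_comp, Function.comp_apply, Ideal.Quotient.mkₐ_eq_mk] at this
  simp only [AlgHom.coe_comp, Function.comp_apply, AlgHom.coe_restrictScalars',
    Algebra.TensorProduct.includeRight_apply]
  rw [this]
  simp [σ]

/-- Uniqueness of such lifts. -/
theorem algHom_lift_unique {A R C : Type u} [CommRing A] [CommRing R] [CommRing C] [Algebra A R]
    [Algebra A C] [Algebra.Etale A R] (J : Ideal C) [hC : HenselianRing C J] (f₁ f₂ : R →ₐ[A] C)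
    (h : ∀ r, Ideal.Quotient.mk J (f₁ r) = Ideal.Quotient.mk J (f₂ r)) : f₁ = f₂ := by
  apply algHom_eq_of_sub_mem_jacobson J hC.jac
  intro r
  rw [← Ideal.Quotient.mk_eq_mk_iff_sub_mem]
  exact h r

end Groth.Agent.Lib.Helper26.HenselLift
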