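import Mathlib
import Groth.Agent.Lib.Helper26HenselLift
import Groth.Agent.Lib.Helper26SymSmooth

/-!
# Lifting sections of smooth algebras along henselian pairs
-/

set_option autoImplicit false
universe u

namespace Groth.Agent.Lib.Helper26.SmoothLift

/-- Standard smooth algebras have the lifting property against henselian pairs. -/
theorem exists_lift_of_isStandardSmooth {R E C : Type u} [CommRing R] [CommRing E] [CommRing C]
    [Algebra R E] [Algebra R C] [Algebra.IsStandardSmooth R E] (J : Ideal C) [HenselianRing C J]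
    (σ₀ : E →ₐ[R] C ⧸ J) :
    ∃ τ : E →ₐ[R] C, ∀ e, Ideal.Quotient.mk J (τ e) = σ₀ e := by
  obtain ⟨n, g, hgC, hget⟩ := RingHom.IsStandardSmooth.exists_etale_mvPolynomial
    (f := algebraMap R E) (RingHom.isStandardSmooth_algebraMap.mpr inferInstance)
  have hch : ∀ i : Fin n, ∃ a : C, Ideal.Quotient.mk J a = σ₀ (g (MvPolynomial.X i)) :=
    fun i => Ideal.Quotient.mk_surjective _
  choose a ha using hch
  letI : Algebra (MvPolynomial (Fin n) R) C := (MvPolynomial.aeval a : _ →ₐ[R] C).toRingHom.toAlgebra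
  letI : Algebra (MvPolynomial (Fin n) R) E := g.toAlgebra
  haveI : Algebra.Etale (MvPolynomial (Fin n) R) E := RingHom.etale_algebraMap.mp hget
  have hgC' : ∀ r : R, g (MvPolynomial.C r) = algebraMap R E r := fun r => congr($hgC r)
  -- `σ₀ ∘ g = mk ∘ aeval a`
  let gA : MvPolynomial (Fin n) R →ₐ[R] E :=
    { g with commutes' := fun r => hgC' r }
  have hcomm : ∀ p : MvPolynomial (Fin n) R,
      σ₀ (g p) = Ideal.Quotient.mk J (MvPolynomial.aeval a p) := by
    intro p
    have : σ₀.comp gA = (Ideal.Quotient.mkₐ R J).comp (MvPolynomial.aeval a) := by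
      apply MvPolynomial.algHom_ext
      intro i
      simp only [AlgHom.comp_apply, MvPolynomial.aeval_X, Ideal.Quotient.mkₐ_eq_mk]
      exact (ha i).symm
    exact congr($this p)
  let σ₀' : E →ₐ[MvPolynomial (Fin n) R] C ⧸ J :=
    { σ₀.toRingHom with
      commutes' := fun p => by
        change σ₀ (g p) = Ideal.Quotient.mk J (MvPolynomial.aeval a p)
        exact hcomm p }
  obtain ⟨τ', hτ'⟩ := Groth.Agent.Lib.Helper26.HenselLift.exists_algHom_lift J σ₀'
  refine ⟨{ τ'.toRingHom with
    commutes' := fun r => by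
      change τ' (algebraMap R E r) = algebraMap R C r
      rw [← hgC' r]
      have := τ'.commutes (MvPolynomial.C r)
      change τ' (g (MvPolynomial.C r)) = MvPolynomial.aeval a (MvPolynomial.C r) at this
      rw [this, MvPolynomial.aeval_C] }, fun e => ?_⟩
  exact hτ' e

/-- Smooth algebras have the lifting property against henselian pairs. -/
theorem exists_lift_of_smooth {R S C : Type u} [CommRing R] [CommRing S] [CommRing C]
    [Algebra R S] [Algebra R C] [Algebra.Smooth R S] (J : Ideal C) [HenselianRing C J]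
    (σ : S →ₐ[R] C ⧸ J) :
    ∃ τ : S →ₐ[R] C, ∀ s, Ideal.Quotient.mk J (τ s) = σ s := by
  obtain ⟨B, _, _, _, _, -, ⟨ρ⟩, hstd⟩ :=
    Groth.Agent.Lib.Helper26.SymSmooth.exists_smooth_retract_isStandardSmooth R S
  obtain ⟨τB, hτB⟩ := exists_lift_of_isStandardSmooth J (σ.comp (ρ.restrictScalars R))
  refine ⟨τB.comp (IsScalarTower.toAlgHom R S B), fun s => ?_⟩
  rw [AlgHom.comp_apply, hτB]
  simp

end Groth.Agent.Lib.Helper26.SmoothLift
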