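import Mathlib
import Groth.Agent.Lib.Helper26SmoothLift
import Groth.Agent.Lib.Helper26HenselLift
import Groth.Agent.Lib.Helper26SymSmooth

set_option autoImplicit false
set_option linter.style.haveILetI false
universe u
open TensorProduct

namespace Groth.Agent.Lib.Helper12.ArtinApprox

/-- A standard smooth algebra `E` with a map to a Henselian pair `(C, J)` such that `R → C/J` is
surjective: `E → C` factors modulo `J` through an étale `R`-algebra. -/
theorem exists_etale_of_isStandardSmooth {R E C : Type u} [CommRing R] [CommRing E] [CommRing C]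
    [Algebra R E] [Algebra R C] [Algebra.IsStandardSmooth R E] (J : Ideal C) [HenselianRing C J]
    (hsurj : ∀ c : C, ∃ r : R, c - algebraMap R C r ∈ J) (h : E →ₐ[R] C) :
    ∃ (R' : Type u) (_ : CommRing R') (_ : Algebra R R') (_ : Algebra.Etale R R')
      (α : E →ₐ[R] R') (ψ : R' →ₐ[R] C), ∀ e, ψ (α e) - h e ∈ J := by
  obtain ⟨n, g, hgC, hget⟩ := RingHom.IsStandardSmooth.exists_etale_mvPolynomial
    (f := algebraMap R E) (RingHom.isStandardSmooth_algebraMap.mpr inferInstance)
  have hch : ∀ i : Fin n, ∃ r : R, h (g (MvPolynomial.X i)) - algebraMap R C r ∈ J :=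
    fun i => hsurj _
  choose r hr using hch
  letI : Algebra (MvPolynomial (Fin n) R) R :=
    (MvPolynomial.aeval r : MvPolynomial (Fin n) R →ₐ[R] R).toRingHom.toAlgebra
  letI : Algebra (MvPolynomial (Fin n) R) E := g.toAlgebra
  haveI : Algebra.Etale (MvPolynomial (Fin n) R) E := RingHom.etale_algebraMap.mp hget
  have hgC' : ∀ x : R, g (MvPolynomial.C x) = algebraMap R E x := fun x => congr($hgC x)
  haveI : IsScalarTower R (MvPolynomial (Fin n) R) R := .of_algebraMap_eq (fun x => by
    change x = MvPolynomial.aeval r (MvPolynomial.C x)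
    rw [MvPolynomial.aeval_C]; rfl)
  haveI : IsScalarTower R (MvPolynomial (Fin n) R) E := .of_algebraMap_eq (fun x => (hgC' x).symm)
  let gA : MvPolynomial (Fin n) R →ₐ[R] E := { g with commutes' := fun x => hgC' x }
  letI : Algebra (MvPolynomial (Fin n) R) (C ⧸ J) :=
    ((algebraMap R (C ⧸ J)).comp (algebraMap (MvPolynomial (Fin n) R) R)).toAlgebra
  haveI : IsScalarTower (MvPolynomial (Fin n) R) R (C ⧸ J) := .of_algebraMap_eq (fun _ => rfl)
  have hcomm : ∀ p : MvPolynomial (Fin n) R,
      Ideal.Quotient.mk J (h (g p)) = algebraMap R (C ⧸ J) (MvPolynomial.aeval r p) := by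
    intro p
    have : ((Ideal.Quotient.mkₐ R J).comp h).comp gA =
        (Algebra.ofId R (C ⧸ J)).comp (MvPolynomial.aeval r) := by
      apply MvPolynomial.algHom_ext
      intro i
      simp only [AlgHom.comp_apply, MvPolynomial.aeval_X, Ideal.Quotient.mkₐ_eq_mk,
        Algebra.ofId_apply]
      change Ideal.Quotient.mk J (h (g (MvPolynomial.X i))) = _
      rw [IsScalarTower.algebraMap_apply R C (C ⧸ J), Ideal.Quotient.algebraMap_eq,
        Ideal.Quotient.eq]
      exact hr i
    exact congr($this p)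
  let g' : E →ₐ[MvPolynomial (Fin n) R] C ⧸ J :=
    { ((Ideal.Quotient.mk J).comp (h : E →+* C)) with
      commutes' := fun p => hcomm p }
  let ψ₀ : R ⊗[MvPolynomial (Fin n) R] E →ₐ[R] C ⧸ J :=
    Algebra.TensorProduct.lift (Algebra.ofId R (C ⧸ J)) g' (fun _ _ => Commute.all _ _)
  obtain ⟨ψ, hψ⟩ := Groth.Agent.Lib.Helper26.HenselLift.exists_algHom_lift J ψ₀
  let α : E →ₐ[R] R ⊗[MvPolynomial (Fin n) R] E :=
    { (Algebra.TensorProduct.includeRight :
        E →ₐ[MvPolynomial (Fin n) R] R ⊗[MvPolynomial (Fin n) R] E).toRingHom with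
      commutes' := fun x => by
        change (1 : R) ⊗ₜ[MvPolynomial (Fin n) R] (algebraMap R E x) = _
        rw [← hgC' x]
        change (1 : R) ⊗ₜ[MvPolynomial (Fin n) R]
          (algebraMap (MvPolynomial (Fin n) R) E (MvPolynomial.C x)) = _
        rw [Algebra.algebraMap_eq_smul_one, ← TensorProduct.smul_tmul, Algebra.smul_def, mul_one,
          Algebra.TensorProduct.algebraMap_apply]
        change (MvPolynomial.aeval r (MvPolynomial.C x)) ⊗ₜ[MvPolynomial (Fin n) R] (1 : E) = _
        rw [MvPolynomial.aeval_C] }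
  refine ⟨R ⊗[MvPolynomial (Fin n) R] E, inferInstance, inferInstance, inferInstance, α, ψ, ?_⟩
  intro e
  rw [← Ideal.Quotient.eq, hψ]
  change ψ₀ ((1 : R) ⊗ₜ[MvPolynomial (Fin n) R] e) = _
  simp [ψ₀, g']

/-- The same for smooth algebras. -/
theorem exists_etale_of_smooth {R B C : Type u} [CommRing R] [CommRing B] [CommRing C]
    [Algebra R B] [Algebra R C] [Algebra.Smooth R B] (J : Ideal C) [HenselianRing C J]
    (hsurj : ∀ c : C, ∃ r : R, c - algebraMap R C r ∈ J) (h : B →ₐ[R] C) :
    ∃ (R' : Type u) (_ : CommRing R') (_ : Algebra R R') (_ : Algebra.Etale R R')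
      (α : B →ₐ[R] R') (ψ : R' →ₐ[R] C), ∀ e, ψ (α e) - h e ∈ J := by
  obtain ⟨B', _, _, _, _, -, ⟨ρ⟩, hstd⟩ :=
    Groth.Agent.Lib.Helper26.SymSmooth.exists_smooth_retract_isStandardSmooth R B
  obtain ⟨R', _, _, hR', α', ψ, hψ⟩ :=
    exists_etale_of_isStandardSmooth J hsurj (h.comp (ρ.restrictScalars R))
  refine ⟨R', inferInstance, inferInstance, hR', α'.comp (IsScalarTower.toAlgHom R B B'), ψ, ?_⟩
  intro e
  have := hψ (algebraMap B B' e)
  simp only [AlgHom.comp_apply, AlgHom.restrictScalars_apply, AlgHom.commutes] at this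
  simpa using this

end Groth.Agent.Lib.Helper12.ArtinApprox
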