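import Groth.Agent.Lib.Helper29XTorsion
import Groth.Agent.Lib.Helper28DepthMore
import Groth.Agent.Lib.Helper5RLR3
import Groth.Agent.S11654
import Groth.Agent.S11656
import Groth.Agent.S11651
import Groth.Agent.S0604
import Groth.Agent.S0563

/-! Faltings' annihilator theorem over a regular ring: `λ_a^b(M) ≤ f_a^b(M)` (helper29). -/

set_option autoImplicit false
universe u
open CategoryTheory CategoryTheory.Limits

namespace Groth.Agent.Lib.Helper29FaltingsReg

open Groth.Agent.Lib.Helper8.LC Groth.Agent.Lib.Helper8.MV Groth.Agent.Lib.Helper29XTorsion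
open Groth.Agent.Lib.Helper28

section general

variable {R : Type u} [CommRing R]

/-- `ht p + ht (q/p) ≤ ht q` for primes `p ≤ q`. -/
theorem height_add_height_quot_le (p q : Ideal R) [p.IsPrime] [q.IsPrime] (hpq : p ≤ q) :
    p.height + (q.map (Ideal.Quotient.mk p)).height ≤ q.height := by
  have hsurjp : Function.Surjective (Ideal.Quotient.mk p) := Ideal.Quotient.mk_surjective
  haveI hqp : (q.map (Ideal.Quotient.mk p)).IsPrime :=
    Ideal.map_isPrime_of_surjective hsurjp (by rwa [Ideal.mk_ker])
  let f : PrimeSpectrum (R ⧸ p) → PrimeSpectrum R := PrimeSpectrum.comap (Ideal.Quotient.mk p)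
  have hf : StrictMono f := by
    intro x y hxy
    have hle : f x ≤ f y := Ideal.comap_mono (le_of_lt hxy)
    refine lt_of_le_of_ne hle fun heq => ?_
    have := PrimeSpectrum.comap_injective_of_surjective (Ideal.Quotient.mk p) hsurjp heq
    exact (ne_of_lt hxy) this
  have hb : ∀ x, (⟨p, inferInstance⟩ : PrimeSpectrum R) ≤ f x := by
    intro x r hr
    show Ideal.Quotient.mk p r ∈ x.asIdeal
    rw [Ideal.Quotient.eq_zero_iff_mem.2 hr]
    exact x.asIdeal.zero_mem
  have hfx : f ⟨q.map (Ideal.Quotient.mk p), hqp⟩ = ⟨q, inferInstance⟩ := by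
    apply PrimeSpectrum.ext
    show Ideal.comap (Ideal.Quotient.mk p) (q.map (Ideal.Quotient.mk p)) = q
    rw [Ideal.comap_map_of_surjective _ hsurjp, ← RingHom.ker_eq_comap_bot, Ideal.mk_ker,
      sup_of_le_left hpq]
  have h := Groth.Agent.S11651.height_add_le_of_strictMono f hf _ hb
    ⟨q.map (Ideal.Quotient.mk p), hqp⟩
  rw [hfx] at h
  rw [← PrimeSpectrum.height_eq_orderHeight, ← PrimeSpectrum.height_eq_orderHeight,
    ← PrimeSpectrum.height_eq_orderHeight] at h
  exact h

variable [IsNoetherianRing R]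

theorem minAdjDepth_mono {a a' : Ideal R} (h : a ≤ a') (b : Ideal R) (M : Type u)
    [AddCommGroup M] [Module R M] :
    LocCoh.minAdjDepth a b M ≤ LocCoh.minAdjDepth a' b M := by
  unfold LocCoh.minAdjDepth LocCoh.adjDepth
  refine iInf₂_mono fun p _ => ?_
  exact add_le_add le_rfl (Ideal.height_mono (Ideal.map_mono (sup_le_sup_right h _)))

end general

section regular

variable (R : Type u) [CommRing R] [IsRegularRing R]

theorem isCohenMacaulayRing_of_isRegularRing : LocCoh.IsCohenMacaulayRing R where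
  isCohenMacaulayLocalRing_localization := fun p _ =>
    Groth.Agent.Lib.Helper5.isCohenMacaulayLocalRing_of_isRegularLocalRing _

/-- Below a prime `q`, at primes not containing `b`, the module `H^i_q(M)` is killed by an element
outside the prime (`i < λ_q^b(M)`). -/
theorem exists_kill_of_le_prime (q : Ideal R) [q.IsPrime] (M : Type u) [AddCommGroup M]
    [Module R M] [Module.Finite R M] (b : Ideal R) (i : ℕ)
    (hi : (i : ℕ∞) < LocCoh.minAdjDepth q b M) (p : Ideal R) [hpp : p.IsPrime] (hpq : p ≤ q)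
    (hbp : ¬ b ≤ p) : ∃ s : R, s ∉ p ∧ ∀ z : LocCoh.H q i M, s • z = 0 := by
  classical
  have hlt : (i : ℕ∞) < LocCoh.adjDepth q M ⟨p, hpp⟩ := by
    refine lt_of_lt_of_le hi ?_
    unfold LocCoh.minAdjDepth
    exact iInf₂_le (⟨p, hpp⟩ : PrimeSpectrum R) hbp
  unfold LocCoh.adjDepth at hlt
  simp only at hlt
  rw [sup_of_le_left hpq] at hlt
  by_cases hsupp : (⟨p, hpp⟩ : PrimeSpectrum R) ∈ Module.support R M
  · haveI : Nontrivial (LocalizedModule p.primeCompl M) := Module.mem_support_iff.mp hsupp
    haveI : Module.Finite (Localization.AtPrime p) (LocalizedModule p.primeCompl M) :=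
      Module.Finite.of_isLocalizedModule p.primeCompl (LocalizedModule.mkLinearMap p.primeCompl M)
    have hnz : ¬ Limits.IsZero (ModuleCat.of (Localization.AtPrime p)
        (LocalizedModule p.primeCompl M)) := by
      intro hz
      have := ModuleCat.isZero_iff_subsingleton.mp hz
      exact not_subsingleton (LocalizedModule p.primeCompl M) this
    obtain ⟨dA, hdA⟩ := Groth.Agent.Lib.Helper5.exists_nat_ringKrullDim_eq (Localization.AtPrime p)
    have hpdlt := Groth.Agent.S0563.result (Localization.AtPrime p) dA hdA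
      (LocalizedModule p.primeCompl M)
    obtain ⟨e, he⟩ : ∃ e : ℕ, projectiveDimension (ModuleCat.of (Localization.AtPrime p)
        (LocalizedModule p.primeCompl M)) = e := by
      have h1 : projectiveDimension (ModuleCat.of (Localization.AtPrime p)
          (LocalizedModule p.primeCompl M)) < ((dA + 1 : ℕ) : WithBot ℕ∞) :=
        projectiveDimension_lt_iff.mpr hpdlt
      have h2 : projectiveDimension (ModuleCat.of (Localization.AtPrime p)
          (LocalizedModule p.primeCompl M)) ≠ ⊥ :=
        fun h => hnz ((projectiveDimension_eq_bot_iff _).mp h)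
      generalize projectiveDimension (ModuleCat.of (Localization.AtPrime p)
          (LocalizedModule p.primeCompl M)) = pd at h1 h2
      induction pd with
      | bot => exact absurd rfl h2
      | coe pd =>
        induction pd with
        | top =>
          exfalso
          have : ((⊤ : ℕ∞) : WithBot ℕ∞) < (((dA + 1 : ℕ) : ℕ∞) : WithBot ℕ∞) := h1
          rw [WithBot.coe_lt_coe] at this
          exact not_top_lt this
        | coe k => exact ⟨k, rfl⟩
    have hpd : HasProjectiveDimensionLE (ModuleCat.of (Localization.AtPrime p)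
        (LocalizedModule p.primeCompl M)) e :=
      (projectiveDimension_le_iff _ e).mp (le_of_eq he)
    have hAB := Groth.Agent.S0604.result (Localization.AtPrime p)
      (LocalizedModule p.primeCompl M) e he
    have hCM : LocCoh.IsCohenMacaulayLocalRing (Localization.AtPrime p) :=
      Groth.Agent.Lib.Helper5.isCohenMacaulayLocalRing_of_isRegularLocalRing _
    have h6 : ((LocCoh.depth (Localization.AtPrime p) (Localization.AtPrime p) : ℕ∞) :
        WithBot ℕ∞) = ((p.height : ℕ∞) : WithBot ℕ∞) := by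
      rw [← hCM.supportDim_eq_depth, Module.supportDim_self_eq_ringKrullDim,
        IsLocalization.AtPrime.ringKrullDim_eq_height p (Localization.AtPrime p)]
    have h6' : LocCoh.depth (Localization.AtPrime p) (Localization.AtPrime p) = p.height := by
      exact_mod_cast h6
    have hqtop : q ≠ ⊤ := Ideal.IsPrime.ne_top inferInstance
    have hgrade : LocCoh.idealDepth q R = q.height :=
      idealDepth_self_eq_height_of_isCohenMacaulayRing (isCohenMacaulayRing_of_isRegularRing R)
        q hqtop
    obtain ⟨s, hsp, hs⟩ := Groth.Agent.S11656.result R M p e hpd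
    refine ⟨s, hsp, hs q hqtop i ?_⟩
    rw [hgrade]
    have hadd := height_add_height_quot_le p q hpq
    rw [h6'] at hAB
    -- arithmetic in `ℕ∞`
    obtain ⟨nq, hnq⟩ : ∃ n : ℕ, q.height = n :=
      ⟨_, (ENat.coe_toNat (Ideal.height_ne_top hqtop)).symm⟩
    obtain ⟨np, hnp⟩ : ∃ n : ℕ, p.height = n :=
      ⟨_, (ENat.coe_toNat (Ideal.height_ne_top hpp.ne_top)).symm⟩
    rw [hnp] at hAB hadd
    rw [hnq] at hadd ⊢
    obtain ⟨dM, hdM⟩ : ∃ n : ℕ, LocCoh.depth (Localization.AtPrime p)
        (LocalizedModule p.primeCompl M) = n := by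
      have hne : LocCoh.depth (Localization.AtPrime p) (LocalizedModule p.primeCompl M) ≠ ⊤ := by
        intro htop
        rw [htop, add_top] at hAB
        exact ENat.coe_ne_top _ hAB
      exact ⟨_, (ENat.coe_toNat hne).symm⟩
    obtain ⟨hq', hhq'⟩ : ∃ n : ℕ, (q.map (Ideal.Quotient.mk p)).height = n := by
      have hne : (q.map (Ideal.Quotient.mk p)).height ≠ ⊤ := by
        intro htop
        rw [htop, add_top] at hadd
        exact ENat.coe_ne_top _ (top_le_iff.mp hadd)
      exact ⟨_, (ENat.coe_toNat hne).symm⟩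
    rw [hdM] at hAB hlt
    rw [hhq'] at hadd hlt
    have h1 : np = e + dM := by exact_mod_cast hAB
    have h2 : np + hq' ≤ nq := by exact_mod_cast hadd
    have h3 : i < dM + hq' := by exact_mod_cast hlt
    have : i + e < nq := by omega
    exact_mod_cast this
  · obtain ⟨s, hsp, hs⟩ := Groth.Agent.S11654.result R M ⟨p, hpp⟩ hsupp
    exact ⟨s, hsp, fun z => hs q i z⟩

/-- Main induction: for `i < λ_a^b(M)` every element of `b` has a power killing `H^i_a(M)`. -/
theorem main : ∀ a : Ideal R, ∀ (M : Type u) [AddCommGroup M] [Module R M] [Module.Finite R M]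
    (b : Ideal R) (i : ℕ), (i : ℕ∞) < LocCoh.minAdjDepth a b M →
    ∀ r ∈ b, ∃ N : ℕ, ∀ z : LocCoh.H a i M, r ^ N • z = 0 := by
  classical
  intro a
  induction a using WellFoundedGT.induction with
  | ind a IH =>
  intro M _ _ _ b i hi r hr
  have hsmul : ∀ (x : R) (c : R)
      (w : (localCohomology (a ⊔ Ideal.span {x}) i).obj (ModuleCat.of R M)),
      ((Dual2.HmapOfLE (le_sup_left : a ≤ a ⊔ Ideal.span {x}) i).app (ModuleCat.of R M)).hom
        (c • w) = c • ((Dual2.HmapOfLE (le_sup_left : a ≤ a ⊔ Ideal.span {x}) i).app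
          (ModuleCat.of R M)).hom w :=
    fun x c w => (((Dual2.HmapOfLE (le_sup_left : a ≤ a ⊔ Ideal.span {x}) i).app
      (ModuleCat.of R M)).hom).map_smul c w
  have hlt_of : ∀ x : R, x ∉ a → a < a ⊔ Ideal.span {x} := fun x hx =>
    lt_of_le_of_ne le_sup_left
      (fun h => hx (h ▸ (Ideal.mem_sup_right (Ideal.mem_span_singleton_self x))))
  have hi_of : ∀ x : R, (i : ℕ∞) < LocCoh.minAdjDepth (a ⊔ Ideal.span {x}) b M := fun x =>
    lt_of_lt_of_le hi (minAdjDepth_mono le_sup_left b M)
  by_cases htop : a = ⊤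
  · refine ⟨0, fun z => ?_⟩
    obtain ⟨n, hn⟩ := isPowerTorsion_H a i (ModuleCat.of R M) z
    have h1 : (1 : R) ∈ a ^ n := by
      rw [htop, Ideal.top_pow]
      exact Submodule.mem_top
    have := hn 1 h1
    rw [one_smul] at this
    rw [pow_zero, one_smul]
    exact this
  by_cases hprime : a.IsPrime
  · haveI := hprime
    obtain ⟨s, hsq, N, hsN⟩ : ∃ s : R, s ∉ a ∧ ∃ N : ℕ, ∀ z : LocCoh.H a i M,
        (s * r ^ N) • z = 0 := by
      by_contra hcon
      push_neg at hcon
      have hdisj : Disjoint ((Module.annihilator R (LocCoh.H a i M) : Ideal R) : Set R)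
          ((a.primeCompl ⊔ Submonoid.powers r : Submonoid R) : Set R) := by
        rw [Set.disjoint_left]
        intro u hu huT
        obtain ⟨s, hs, t, ht, rfl⟩ := Submonoid.mem_sup.mp huT
        obtain ⟨N, rfl⟩ := (Submonoid.mem_powers_iff _ _).mp ht
        obtain ⟨z, hz⟩ := hcon s hs N
        exact hz (Module.mem_annihilator.mp hu z)
      obtain ⟨p, hpprime, hple, hpdisj⟩ := Ideal.exists_le_prime_disjoint _ _ hdisj
      haveI := hpprime
      have hpq : p ≤ a := by
        intro u hu
        by_contra hua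
        exact Set.disjoint_left.mp hpdisj hu (Submonoid.mem_sup_left hua)
      have hrp : r ∉ p := fun h =>
        Set.disjoint_left.mp hpdisj h (Submonoid.mem_sup_right (Submonoid.mem_powers r))
      have hbp : ¬ b ≤ p := fun h => hrp (h hr)
      obtain ⟨s, hsp, hs⟩ := exists_kill_of_le_prime R a M b i hi p hpq hbp
      exact hsp (hple (Module.mem_annihilator.mpr hs))
    obtain ⟨N', hN'⟩ := IH _ (hlt_of s hsq) M b i (hi_of s) r hr
    refine ⟨N' + N, fun z => ?_⟩
    have hz1 : s ^ 1 • (r ^ N • z) = 0 := by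
      rw [pow_one, ← mul_smul]
      exact hsN z
    obtain ⟨w, hw⟩ := exists_HmapOfLE_eq_of_pow_smul_eq_zero a s i (ModuleCat.of R M)
      (r ^ N • z) 1 hz1
    rw [pow_add, mul_smul, ← hw, ← hsmul, hN' w, map_zero]
  · obtain ⟨x, hx, y, hy, hxy⟩ := (Ideal.not_isPrime_iff.mp hprime).resolve_left htop
    obtain ⟨Nx, hNx⟩ := IH _ (hlt_of x hx) M b i (hi_of x) r hr
    obtain ⟨Ny, hNy⟩ := IH _ (hlt_of y hy) M b i (hi_of y) r hr
    refine ⟨Nx + Ny, fun z => ?_⟩
    obtain ⟨m, hm⟩ := isPowerTorsion_H a i (ModuleCat.of R M) z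
    have h1 : y ^ m • (x ^ m • z) = 0 := by
      rw [← mul_smul, ← mul_pow, mul_comm]
      exact hm _ (Ideal.pow_mem_pow hxy m)
    obtain ⟨w, hw⟩ := exists_HmapOfLE_eq_of_pow_smul_eq_zero a y i (ModuleCat.of R M)
      (x ^ m • z) m h1
    have h2 : r ^ Ny • (x ^ m • z) = 0 := by
      rw [← hw, ← hsmul, hNy w, map_zero]
    have h3 : x ^ m • (r ^ Ny • z) = 0 := by
      rw [smul_comm]
      exact h2
    obtain ⟨w', hw'⟩ := exists_HmapOfLE_eq_of_pow_smul_eq_zero a x i (ModuleCat.of R M)
      (r ^ Ny • z) m h3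
    rw [pow_add, mul_smul, ← hw', ← hsmul, hNx w', map_zero]

/-- Faltings' annihilator theorem (hard inequality) over a regular ring. -/
theorem minAdjDepth_le_finDimRel (a b : Ideal R) (M : Type u) [AddCommGroup M] [Module R M]
    [Module.Finite R M] : LocCoh.minAdjDepth a b M ≤ LocCoh.finDimRel a b M := by
  unfold LocCoh.finDimRel
  refine le_iInf₂ fun i hi => ?_
  by_contra hlt
  push_neg at hlt
  apply hi
  intro r hr
  obtain ⟨N, hN⟩ := main R a M b i hlt r hr
  exact ⟨N, Module.mem_annihilator.mpr hN⟩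

end regular

end Groth.Agent.Lib.Helper29FaltingsReg
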