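import Mathlib
import Groth.Prelude
import Groth.Agent.Lib.Helper28IAdicLocal

/-!
# The closed formal fibre of a Noetherian local ring is the residue field (helper7)
-/

set_option autoImplicit false
set_option linter.style.haveILetI false
universe u

namespace Groth.Agent.Lib.Helper7.ClosedFF

open Groth CAlg IsLocalRing TensorProduct

instance isGeometricallyReduced_self (k : Type u) [Field k] : Algebra.IsGeometricallyReduced k k := by
  rw [Algebra.isGeometricallyReduced_field_iff]
  exact isReduced_of_injective (Algebra.TensorProduct.rid k k (AlgebraicClosure k))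
    (AlgEquiv.injective _)

/-- The closed formal fibre `κ(m) ⊗_R R̂` maps injectively to `κ(m)`. -/
theorem exists_injective_closedFibre (R : Type u) [CommRing R] [IsLocalRing R] [IsNoetherianRing R] :
    ∃ f : (EGA4.formalFibre R (maximalIdeal R)) →ₐ[(maximalIdeal R).ResidueField]
      (maximalIdeal R).ResidueField, Function.Injective f := by
  let κ := (maximalIdeal R).ResidueField
  let g : EGA4.Cpl R →ₐ[R] κ :=
    (IsScalarTower.toAlgHom R (R ⧸ maximalIdeal R) κ).comp (AdicCompletion.evalOneₐ (maximalIdeal R))
  let f : EGA4.formalFibre R (maximalIdeal R) →ₐ[κ] κ :=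
    Algebra.TensorProduct.lift (AlgHom.id κ κ) g (fun _ _ => Commute.all _ _)
  have hg0 : ∀ c' ∈ (maximalIdeal R).map (algebraMap R (EGA4.Cpl R)), g c' = 0 := by
    have : (maximalIdeal R).map (algebraMap R (EGA4.Cpl R)) ≤ RingHom.ker g.toRingHom := by
      rw [Ideal.map_le_iff_le_comap]
      intro a ha
      rw [Ideal.mem_comap, RingHom.mem_ker]
      change g (algebraMap R (EGA4.Cpl R) a) = 0
      rw [g.commutes]
      exact (Ideal.algebraMap_residueField_eq_zero).mpr ha
    intro c' hc'
    exact this hc'
  have ht0 : ∀ c' ∈ (maximalIdeal R).map (algebraMap R (EGA4.Cpl R)), ∀ x : κ,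
      (x ⊗ₜ[R] c' : EGA4.formalFibre R (maximalIdeal R)) = 0 := by
    intro c' hc'
    refine Submodule.span_induction ?_ ?_ ?_ ?_ hc'
    · rintro _ ⟨a, ha, rfl⟩ x
      rw [Algebra.algebraMap_eq_smul_one, ← TensorProduct.smul_tmul, Algebra.smul_def,
        (Ideal.algebraMap_residueField_eq_zero).mpr ha, zero_mul, TensorProduct.zero_tmul]
    · intro x; exact TensorProduct.tmul_zero _ _
    · intro c1 c2 _ _ h1 h2 x
      rw [TensorProduct.tmul_add, h1, h2, add_zero]
    · intro s c1 _ h1 x
      have : (x ⊗ₜ[R] (s • c1) : EGA4.formalFibre R (maximalIdeal R)) =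
          ((1 : κ) ⊗ₜ[R] s) * (x ⊗ₜ[R] c1) := by
        rw [Algebra.TensorProduct.tmul_mul_tmul, one_mul, smul_eq_mul]
      rw [this, h1, mul_zero]
  have key : ∀ t : EGA4.formalFibre R (maximalIdeal R),
      algebraMap κ (EGA4.formalFibre R (maximalIdeal R)) (f t) = t := by
    intro t
    induction t using TensorProduct.induction_on with
    | zero => simp
    | add x y hx hy => rw [map_add, map_add, hx, hy]
    | tmul x c =>
      obtain ⟨r, hr⟩ := Groth.Agent.Lib.Helper28.exists_sub_mem_map_adicCompletion
        (maximalIdeal R) c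
      have hc : c = (c - algebraMap R (EGA4.Cpl R) r) + algebraMap R (EGA4.Cpl R) r := by ring
      have hfx : f (x ⊗ₜ[R] c) = x * g c := by
        change Algebra.TensorProduct.lift (AlgHom.id κ κ) g _ (x ⊗ₜ[R] c) = x * g c
        rw [Algebra.TensorProduct.lift_tmul]
        rfl
      have hgc : g c = algebraMap R κ r := by
        have := hg0 _ hr
        rw [map_sub, sub_eq_zero, g.commutes] at this
        exact this
      rw [hfx, hgc]
      conv_rhs => rw [hc, TensorProduct.tmul_add, ht0 _ hr x, zero_add]
      have h1 : (x ⊗ₜ[R] (algebraMap R (EGA4.Cpl R) r) : EGA4.formalFibre R (maximalIdeal R)) =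
          (x * algebraMap R κ r) ⊗ₜ[R] 1 := by
        rw [Algebra.algebraMap_eq_smul_one (A := EGA4.Cpl R) r, ← TensorProduct.smul_tmul,
          Algebra.smul_def, mul_comm]
      rw [h1, Algebra.TensorProduct.algebraMap_apply]
      rfl
  refine ⟨f, fun t1 t2 h => ?_⟩
  rw [← key t1, ← key t2, h]

/-- The closed formal fibre of a Noetherian local ring is geometrically reduced. -/
theorem isGeometricallyReduced_closedFormalFibre (R : Type u) [CommRing R] [IsLocalRing R]
    [IsNoetherianRing R] :
    Algebra.IsGeometricallyReduced (maximalIdeal R).ResidueField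
      (EGA4.formalFibre R (maximalIdeal R)) := by
  obtain ⟨f, hf⟩ := exists_injective_closedFibre R
  exact Algebra.IsGeometricallyReduced.of_injective f hf

end Groth.Agent.Lib.Helper7.ClosedFF
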