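import Mathlib
import Groth.Agent.Lib.Helper28IAdicLocal

set_option autoImplicit false
set_option linter.unusedSectionVars false
set_option linter.style.haveILetI false
set_option linter.deprecated false
universe u

namespace Groth.Agent.Lib.Helper28
open IsLocalRing

section LemmaG

variable {A B : Type u} [CommRing A] [CommRing B] [IsNoetherianRing A] [IsNoetherianRing B]
  [Algebra A B] [Module.Flat A B] (I : Ideal A)
  (hsurj : ∀ b : B, ∃ a : A, b - algebraMap A B a ∈ I.map (algebraMap A B))

include hsurj in
/-- An ideal of `B` containing `I B` is extended from its contraction, when `A/I → B/IB` is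
surjective. -/
theorem map_comap_eq_of_map_le' (n : Ideal B) (hn : I.map (algebraMap A B) ≤ n) :
    (n.comap (algebraMap A B)).map (algebraMap A B) = n := by
  apply le_antisymm Ideal.map_comap_le
  intro x hx
  obtain ⟨a, ha⟩ := hsurj x
  have ha' : algebraMap A B a ∈ n := by
    have := n.sub_mem hx (hn ha)
    rwa [sub_sub_cancel] at this
  have hI : I ≤ n.comap (algebraMap A B) := Ideal.map_le_iff_le_comap.mp hn
  have e : x = (x - algebraMap A B a) + algebraMap A B a := by ring
  rw [e]
  exact Ideal.add_mem _ (Ideal.map_mono hI ha) (Ideal.mem_map_of_mem _ ha')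

include hsurj in
/-- For a flat map `A → B` of Noetherian rings with `A/I → B/IB` surjective and a prime
`n ⊇ I B` with contraction `m`, the flat local homomorphism `A_m → B_n` induces an isomorphism of
completions. -/
theorem exists_ringEquiv_cpl_localization_of_surjective_mod (n : Ideal B)
    [hnp : n.IsPrime] (hn : I.map (algebraMap A B) ≤ n) :
    ∃ (_ : Algebra (Localization.AtPrime (n.comap (algebraMap A B))) (Localization.AtPrime n))
      (_ : IsLocalHom (algebraMap (Localization.AtPrime (n.comap (algebraMap A B)))
        (Localization.AtPrime n)))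
      (_ : Module.Flat (Localization.AtPrime (n.comap (algebraMap A B))) (Localization.AtPrime n))
      (_ : IsScalarTower A (Localization.AtPrime (n.comap (algebraMap A B)))
        (Localization.AtPrime n)),
      ∃ e : EGA4.Cpl (Localization.AtPrime (n.comap (algebraMap A B))) ≃+*
          EGA4.Cpl (Localization.AtPrime n),
        ∀ a : Localization.AtPrime (n.comap (algebraMap A B)),
          e (algebraMap (Localization.AtPrime (n.comap (algebraMap A B)))
            (EGA4.Cpl (Localization.AtPrime (n.comap (algebraMap A B)))) a) =
          algebraMap (Localization.AtPrime n) (EGA4.Cpl (Localization.AtPrime n))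
            (algebraMap (Localization.AtPrime (n.comap (algebraMap A B)))
              (Localization.AtPrime n) a) := by
  obtain ⟨alg, hloc, hflat, htower⟩ :=
    exists_algebra_localization_flat' (A := A) (B := B) n
  set m := n.comap (algebraMap A B) with hm
  have hmn : m.map (algebraMap A B) = n := map_comap_eq_of_map_le' I hsurj n hn
  have h1 : (maximalIdeal (Localization.AtPrime m)).map
      (algebraMap (Localization.AtPrime m) (Localization.AtPrime n)) =
      maximalIdeal (Localization.AtPrime n) := by
    rw [← IsLocalization.AtPrime.map_eq_maximalIdeal m (Localization.AtPrime m), Ideal.map_map,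
      ← IsScalarTower.algebraMap_eq,
      IsScalarTower.algebraMap_eq A B (Localization.AtPrime n),
      ← Ideal.map_map, hmn, IsLocalization.AtPrime.map_eq_maximalIdeal n (Localization.AtPrime n)]
  have h2 : ∀ b : Localization.AtPrime n, ∃ a : Localization.AtPrime m,
      b - algebraMap (Localization.AtPrime m) (Localization.AtPrime n) a ∈
        maximalIdeal (Localization.AtPrime n) := by
    intro b
    obtain ⟨⟨x, s⟩, rfl⟩ := IsLocalization.mk'_surjective n.primeCompl b
    obtain ⟨a₁, ha₁⟩ := hsurj x
    obtain ⟨a₂, ha₂⟩ := hsurj (s : B)
    have ha₂m : a₂ ∈ m.primeCompl := by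
      intro hmem
      have h3 : algebraMap A B a₂ ∈ n := hmem
      have := n.add_mem (hn ha₂) h3
      rw [sub_add_cancel] at this
      exact s.2 this
    refine ⟨IsLocalization.mk' _ a₁ ⟨a₂, ha₂m⟩, ?_⟩
    have hu1 : IsUnit (algebraMap B (Localization.AtPrime n) s) :=
      IsLocalization.map_units _ s
    have ha₂n : algebraMap A B a₂ ∈ n.primeCompl := ha₂m
    have hu2 : IsUnit (algebraMap B (Localization.AtPrime n)
        (algebraMap A B a₂)) :=
      IsLocalization.map_units _ (⟨_, ha₂n⟩ : n.primeCompl)
    rw [← Ideal.unit_mul_mem_iff_mem _ (hu1.mul hu2)]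
    have e1 : IsLocalization.mk' (Localization.AtPrime n) x s *
        algebraMap B (Localization.AtPrime n) s =
        algebraMap B (Localization.AtPrime n) x := IsLocalization.mk'_spec _ x s
    have e2 : algebraMap (Localization.AtPrime m) (Localization.AtPrime n)
        (IsLocalization.mk' (Localization.AtPrime m) a₁ (⟨a₂, ha₂m⟩ : m.primeCompl)) *
        algebraMap B (Localization.AtPrime n)
          (algebraMap A B a₂) =
        algebraMap B (Localization.AtPrime n)
          (algebraMap A B a₁) := by
      rw [← IsScalarTower.algebraMap_apply A B (Localization.AtPrime n),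
        ← IsScalarTower.algebraMap_apply A B (Localization.AtPrime n),
        IsScalarTower.algebraMap_apply A (Localization.AtPrime m) (Localization.AtPrime n),
        IsScalarTower.algebraMap_apply A (Localization.AtPrime m) (Localization.AtPrime n),
        ← map_mul]
      congr 1
      exact IsLocalization.mk'_spec _ a₁ (⟨a₂, ha₂m⟩ : m.primeCompl)
    have e3 : algebraMap B (Localization.AtPrime n) s *
        algebraMap B (Localization.AtPrime n)
          (algebraMap A B a₂) *
        (IsLocalization.mk' (Localization.AtPrime n) x s -
          algebraMap (Localization.AtPrime m) (Localization.AtPrime n)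
            (IsLocalization.mk' (Localization.AtPrime m) a₁ (⟨a₂, ha₂m⟩ : m.primeCompl))) =
        algebraMap B (Localization.AtPrime n)
          ((x - algebraMap A B a₁) * algebraMap A B a₂ -
            algebraMap A B a₁ *
              ((s : B) - algebraMap A B a₂)) := by
      rw [map_sub, map_mul, map_mul, map_sub, map_sub, ← e1, ← e2]
      ring
    rw [e3, IsLocalization.AtPrime.to_map_mem_maximal_iff (Localization.AtPrime n) n]
    exact n.sub_mem (n.mul_mem_right _ (hn ha₁)) (n.mul_mem_left _ (hn ha₂))
  refine ⟨alg, hloc, hflat, htower, ?_⟩
  exact exists_ringEquiv_adicCompletion_of_flat_of_map_maximalIdeal _ _ h1 h2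

end LemmaG

end Groth.Agent.Lib.Helper28
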