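import Mathlib
import Groth.Agent.Lib.Helper28AUNormal
import Groth.Agent.Lib.Helper28AUReduce
import Groth.Agent.Lib.Helper5RLR

set_option autoImplicit false
set_option linter.unusedSectionVars false
set_option linter.style.haveILetI false
set_option linter.deprecated false
universe u

namespace Groth.Agent.Lib.Helper28
open IsLocalRing CAlg

section Induction

/-- Normal case, given the statement in smaller dimension. -/
theorem isReduced_adicCompletion_of_isNagata_normal (d : ℕ)
    (IH : ∀ k < d, ∀ (R : Type u) [CommRing R] [IsDomain R] [IsLocalRing R], IsNagata R →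
      ringKrullDim R ≤ k → IsReduced (AdicCompletion (maximalIdeal R) R))
    (A : Type u) [CommRing A] [IsDomain A] [IsLocalRing A] [IsIntegrallyClosed A]
    (hA : IsNagata A) (hd : ringKrullDim A ≤ d) :
    IsReduced (AdicCompletion (maximalIdeal A) A) := by
  haveI := hA.1
  apply isReduced_adicCompletion_of_isIntegrallyClosed
  intro p hp hp0
  haveI : IsLocalRing (A ⧸ p) := Groth.Agent.Lib.Helper5.isLocalRing_quotient hp.ne_top
  have hNag : IsNagata (A ⧸ p) :=
    isNagata_of_surjective (Ideal.Quotient.mk p) Ideal.Quotient.mk_surjective hA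
  obtain ⟨r, hrp, hr0⟩ := Submodule.exists_mem_ne_zero_of_ne_bot hp0
  have h1 : ringKrullDim (A ⧸ p) + 1 ≤ ringKrullDim A :=
    ringKrullDim_succ_le_of_surjective (Ideal.Quotient.mk p) Ideal.Quotient.mk_surjective
      (mem_nonZeroDivisors_of_ne_zero hr0) (Ideal.Quotient.eq_zero_iff_mem.mpr hrp)
  obtain ⟨k, hk⟩ := Groth.Agent.Lib.Helper5.exists_nat_ringKrullDim_eq (A ⧸ p)
  have h2 : ((k + 1 : ℕ) : WithBot ℕ∞) ≤ d := by
    have := h1.trans hd
    rw [hk] at this
    exact_mod_cast this
  have h3 : k + 1 ≤ d := by exact_mod_cast h2
  have h4 := IH k (by omega) (A ⧸ p) hNag (by rw [hk])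
  rw [Groth.Agent.Lib.Helper5.maximalIdeal_quotient_eq_map] at h4
  exact h4

theorem isReduced_adicCompletion_of_isNagata_aux (d : ℕ) :
    ∀ (R : Type u) [CommRing R] [IsDomain R] [IsLocalRing R], IsNagata R →
      ringKrullDim R ≤ d → IsReduced (AdicCompletion (maximalIdeal R) R) := by
  induction d using Nat.strong_induction_on with
  | _ d IH =>
    intro R _ _ _ hR hd
    haveI := hR.1
    have hN1 : IsN1 R := Groth.Agent.Lib.Helper14.IsN2.isN1 (isN2_of_isNagata_of_isDomain R hR)
    haveI hfin : Module.Finite R (integralClosure R (FractionRing R)) := hN1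
    haveI : IsIntegrallyClosed (integralClosure R (FractionRing R)) :=
      integralClosure.isIntegrallyClosedOfFiniteExtension (FractionRing R) (L := FractionRing R)
    have hNag' : IsNagata (integralClosure R (FractionRing R)) := isNagata_of_finite R _ hR
    haveI := hNag'.1
    apply isReduced_adicCompletion_of_finite_injective (integralClosure R (FractionRing R))
    · exact FaithfulSMul.algebraMap_injective _ _
    · intro P hP
      haveI : IsIntegrallyClosed (Localization.AtPrime P) :=
        isIntegrallyClosed_of_isLocalization (Localization.AtPrime P) P.primeCompl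
          P.primeCompl_le_nonZeroDivisors
      have hNagP : IsNagata (Localization.AtPrime P) :=
        Groth.Agent.Lib.Helper14.isNagata_of_isLocalization _ P.primeCompl _ hNag'
      have hdimP : ringKrullDim (Localization.AtPrime P) ≤ d := by
        rw [IsLocalization.AtPrime.ringKrullDim_eq_height P (Localization.AtPrime P)]
        refine (Ideal.height_le_ringKrullDim_of_ne_top hP.ne_top).trans ?_
        exact (Groth.Agent.Lib.Helper5.ringKrullDim_le_of_isIntegral R _).trans hd
      exact isReduced_adicCompletion_of_isNagata_normal d IH (Localization.AtPrime P) hNagP hdimP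

/-- A Nagata local domain is analytically unramified. -/
theorem isReduced_adicCompletion_of_isNagata (R : Type u) [CommRing R] [IsDomain R] [IsLocalRing R]
    (hR : IsNagata R) : IsReduced (AdicCompletion (maximalIdeal R) R) := by
  haveI := hR.1
  obtain ⟨d, hd⟩ := Groth.Agent.Lib.Helper5.exists_nat_ringKrullDim_eq R
  exact isReduced_adicCompletion_of_isNagata_aux d R hR hd.le

end Induction

end Groth.Agent.Lib.Helper28
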