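import Mathlib
import Groth.Prelude.Def_Found
import Groth.Prelude.Def_EGA4b
import Groth.Agent.Lib.Helper28AnalUnram
import Groth.Agent.Lib.Helper4Japanese3
import Groth.Agent.Lib.Helper14Japanese

set_option autoImplicit false
universe u

namespace Groth.Agent.Lib.Helper7.QE

open Submodule TensorProduct Groth CAlg

/-- A Noetherian ring `C`, flat over a domain `B`, is reduced as soon as its local rings at the
primes contracting to `0` are reduced. -/
theorem isReduced_of_flat_of_forall_comap_eq_bot {B C : Type u} [CommRing B] [IsDomain B]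
    [CommRing C] [IsNoetherianRing C] [Algebra B C] [Module.Flat B C]
    (h : ∀ (q : Ideal C) [q.IsPrime], q.comap (algebraMap B C) = ⊥ →
      IsReduced (Localization.AtPrime q)) : IsReduced C := by
  by_contra hred
  have hnil : nilradical C ≠ ⊥ := fun h0 => hred (nilradical_eq_bot_iff.mp h0)
  haveI : Nontrivial (nilradical C) := Submodule.nontrivial_iff_ne_bot.mpr hnil
  obtain ⟨q, hqass⟩ := associatedPrimes.nonempty C (nilradical C)
  obtain ⟨hqprime, y, hy⟩ := isAssociatedPrime_iff.mp hqass
  haveI := hqprime
  have hy0 : y ≠ 0 := by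
    intro hy0
    apply hqprime.ne_top
    rw [hy, hy0]
    ext c
    simp [mem_colon_singleton]
  have hyC : (y : C) ≠ 0 := fun h0 => hy0 (Subtype.ext h0)
  have hmem : ∀ c : C, c ∈ q ↔ c * (y : C) = 0 := by
    intro c
    rw [hy, mem_colon_singleton, mem_bot]
    constructor
    · intro h1
      have := congrArg Subtype.val h1
      simpa using this
    · intro h1
      apply Subtype.ext
      simpa using h1
  have hcomap : q.comap (algebraMap B C) = ⊥ := by
    rw [eq_bot_iff]
    intro b hb
    rw [Ideal.mem_comap, hmem] at hb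
    rw [Ideal.mem_bot]
    by_contra hb0
    have hreg : IsSMulRegular C b :=
      Module.Flat.isSMulRegular_of_nonZeroDivisors (mem_nonZeroDivisors_of_ne_zero hb0)
    apply hyC
    apply hreg
    show b • (y : C) = b • 0
    rw [smul_zero, Algebra.smul_def]
    exact hb
  haveI := h q hcomap
  have hynil : IsNilpotent (y : C) := y.2
  have hloc : algebraMap C (Localization.AtPrime q) (y : C) = 0 :=
    (hynil.map (algebraMap C (Localization.AtPrime q))).eq_zero
  obtain ⟨⟨s, hs⟩, hsy⟩ := (IsLocalization.map_eq_zero_iff q.primeCompl _ _).mp hloc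
  exact hs ((hmem s).mpr hsy)


/-- Finite algebras over Nagata rings are Nagata. -/
theorem isNagata_of_finite (R S : Type u) [CommRing R] [CommRing S] [Algebra R S]
    [Module.Finite R S] (hR : IsNagata R) : IsNagata S := by
  haveI := hR.1
  refine ⟨IsNoetherianRing.of_finite R S, fun P hP => ?_⟩
  haveI : (P.under R).IsPrime := Ideal.IsPrime.under R P
  exact Groth.Agent.Lib.Helper4.Japanese.isN2_of_finite_injective (R ⧸ P.under R) (S ⧸ P)
    (FaithfulSMul.algebraMap_injective _ _) (hR.2 (P.under R))

/-- A Noetherian ring all of whose finite algebra domains are N-1 is Nagata. -/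
theorem isNagata_of_forall_finite_isN1 (A : Type u) [CommRing A] [IsNoetherianRing A]
    (h : ∀ (B : Type u) [CommRing B] [IsDomain B] [Algebra A B], Module.Finite A B → IsN1 B) :
    IsNagata A := by
  refine ⟨inferInstance, fun p hp => ?_⟩
  intro L _ _ _ _ hfd
  obtain ⟨s, b, hb⟩ := FiniteDimensional.exists_is_basis_integral (A ⧸ p) (FractionRing (A ⧸ p)) L
  let S' : Subalgebra (A ⧸ p) L := Algebra.adjoin (A ⧸ p) (Set.range b)
  haveI hfin : Module.Finite (A ⧸ p) S' := by
    refine (Module.Finite.iff_fg (N := Subalgebra.toSubmodule S')).mpr ?_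
    exact fg_adjoin_of_finite (Set.finite_range b) (by rintro _ ⟨i, rfl⟩; exact hb i)
  letI : Algebra A L := ((algebraMap (A ⧸ p) L).comp (algebraMap A (A ⧸ p))).toAlgebra
  haveI : IsScalarTower A (A ⧸ p) L := IsScalarTower.of_algebraMap_eq fun _ => rfl
  haveI : Module.Finite A S' := Module.Finite.trans (A ⧸ p) S'
  have hN1 : IsN1 S' := h S' inferInstance
  haveI : IsFractionRing S' L := by
    refine Groth.Agent.Lib.Helper14.isFractionRing_subalgebra_of_span_eq_top (A ⧸ p)
      (FractionRing (A ⧸ p)) L S' ?_
    rw [_root_.eq_top_iff, ← b.span_eq]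
    exact Submodule.span_mono Algebra.subset_adjoin
  have h1 : Module.Finite S' (integralClosure S' L) :=
    (Groth.Agent.Lib.Helper14.isN1_iff_of_isFractionRing S' L).mp hN1
  exact Groth.Agent.Lib.Helper14.finite_integralClosure_of_finite_tower (A ⧸ p) S' L h1


section Local

variable (A : Type u) [CommRing A] [IsNoetherianRing A] [IsLocalRing A]
  (B : Type u) [CommRing B] [Algebra A B] [Module.Finite A B]

theorem isNoetherianRing_cpl : IsNoetherianRing (EGA4.Cpl A) :=
  Groth.Agent.Lib.Helper19.isNoetherianRing_adicCompletion _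

theorem isNagata_cpl : IsNagata (EGA4.Cpl A) := by
  haveI := isNoetherianRing_cpl A
  exact Groth.Agent.Lib.Helper28.isNagata_of_isAdicComplete_local _

attribute [local instance] Algebra.TensorProduct.rightAlgebra in
theorem finite_tensor_right (A B C : Type u) [CommRing A] [CommRing B] [CommRing C] [Algebra A B]
    [Algebra A C] [Module.Finite A B] : Module.Finite C (B ⊗[A] C) := by
  refine Module.Finite.of_equiv_equiv (A₁ := C) (B₁ := C ⊗[A] B) (RingEquiv.refl C)
    (Algebra.TensorProduct.comm A C B).toRingEquiv ?_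
  ext c
  simp [RingHom.algebraMap_toAlgebra]

attribute [local instance] Algebra.TensorProduct.rightAlgebra in
theorem isNagata_tensor_cpl : IsNagata (B ⊗[A] EGA4.Cpl A) := by
  haveI := finite_tensor_right A B (EGA4.Cpl A)
  exact isNagata_of_finite (EGA4.Cpl A) _ (isNagata_cpl A)

/-- If `B ⊗_A Â` is reduced for a finite `A`-algebra domain `B`, then `B` is N-1. -/
theorem isN1_of_isReduced_tensor_cpl [IsDomain B] [IsReduced (B ⊗[A] EGA4.Cpl A)] : IsN1 B := by
  have hNag := isNagata_tensor_cpl A B
  haveI := hNag.1
  haveI : Module.FaithfullyFlat A (EGA4.Cpl A) := Module.FaithfullyFlat.of_flat_of_isLocalHom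
  exact Groth.Agent.Lib.Helper28.isN1_of_faithfullyFlat (B ⊗[A] EGA4.Cpl A)
    (Groth.Agent.Lib.Helper4.TotalFrac.finite_normalization hNag)

/-- If `B ⊗_A Â` is reduced for every finite `A`-algebra domain `B`, then `A` is Nagata. -/
theorem isNagata_of_forall_isReduced_tensor_cpl
    (h : ∀ (B : Type u) [CommRing B] [IsDomain B] [Algebra A B], Module.Finite A B →
      IsReduced (B ⊗[A] EGA4.Cpl A)) : IsNagata A := by
  apply isNagata_of_forall_finite_isN1
  intro B _ _ _ hfin
  haveI := hfin
  haveI := h B hfin
  exact isN1_of_isReduced_tensor_cpl A B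

end Local

end Groth.Agent.Lib.Helper7.QE
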