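import Mathlib
import Groth.Agent.Lib.Helper28AUMain
import Groth.Agent.Lib.Helper28IAdicLocal
import Groth.Agent.Lib.Helper7QE

/-!
# Reduced Nagata local rings are analytically unramified (helper7)
-/

set_option autoImplicit false
set_option linter.style.haveILetI false
universe u

namespace Groth.Agent.Lib.Helper7.AnalRed

open Groth CAlg IsLocalRing Submodule

/-- In a reduced ring, a minimal prime is locally zero: it is killed by an element outside of it
(here for one element). -/
theorem exists_notMem_mul_eq_zero {B : Type*} [CommRing B] [IsReduced B] {p : Ideal B}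
    (hp : p ∈ minimalPrimes B) {x : B} (hx : x ∈ p) : ∃ s ∉ p, s * x = 0 := by
  haveI : p.IsPrime := hp.1.1
  have h1 := IsLocalization.AtPrime.radical_map_of_mem_minimalPrimes (A := Localization.AtPrime p)
    p ⊥ hp
  rw [Ideal.map_bot] at h1
  have h2 : (⊥ : Ideal (Localization.AtPrime p)).radical = ⊥ :=
    (nilradical_eq_bot_iff.mpr inferInstance : nilradical (Localization.AtPrime p) = ⊥)
  rw [h2] at h1
  have h3 : algebraMap B (Localization.AtPrime p) x = 0 := by
    have : algebraMap B (Localization.AtPrime p) x ∈ p.map (algebraMap B (Localization.AtPrime p)) :=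
      Ideal.mem_map_of_mem _ hx
    rw [← h1] at this
    exact this
  obtain ⟨⟨s, hs⟩, hsx⟩ := (IsLocalization.map_eq_zero_iff p.primeCompl _ x).mp h3
  exact ⟨s, hs, hsx⟩

/-- the same for the whole (finitely generated) ideal -/
theorem exists_notMem_forall_mul_eq_zero {B : Type*} [CommRing B] [IsReduced B]
    [IsNoetherianRing B] {p : Ideal B} (hp : p ∈ minimalPrimes B) :
    ∃ s ∉ p, ∀ x ∈ p, s * x = 0 := by
  classical
  haveI : p.IsPrime := hp.1.1
  obtain ⟨G, hG⟩ := (isNoetherianRing_iff_ideal_fg B).mp inferInstance p
  have hGp : ∀ g ∈ G, g ∈ p := fun g hg => hG ▸ Ideal.subset_span hg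
  have h1 : ∀ g ∈ G, ∃ s ∉ p, s * g = 0 := fun g hg => exists_notMem_mul_eq_zero hp (hGp g hg)
  choose! σ hσp hσ using h1
  refine ⟨∏ g ∈ G, σ g, ?_, ?_⟩
  · intro hmem
    obtain ⟨g, hg, hgp⟩ := (Ideal.IsPrime.prod_mem_iff).mp hmem
    exact hσp g hg hgp
  · intro x hx
    rw [← hG] at hx
    induction hx using Submodule.span_induction with
    | mem g hg =>
      rw [← Finset.mul_prod_erase G σ hg, mul_comm (σ g), mul_assoc, hσ g hg, mul_zero]
    | zero => rw [mul_zero]
    | add y z _ _ hy hz => rw [mul_add, hy, hz, add_zero]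
    | smul a y _ hy => rw [smul_eq_mul, mul_left_comm, hy, mul_zero]

/-- A Noetherian ring, flat over a reduced Noetherian ring `B`, is reduced as soon as its quotients
by the minimal primes of `B` are reduced. -/
theorem isReduced_of_flat_of_forall_minimalPrimes {B C : Type u} [CommRing B] [IsReduced B]
    [IsNoetherianRing B] [CommRing C] [IsNoetherianRing C] [Algebra B C] [Module.Flat B C]
    (h : ∀ p ∈ minimalPrimes B, IsReduced (C ⧸ p.map (algebraMap B C))) : IsReduced C := by
  classical
  by_contra hred
  have hnil : nilradical C ≠ ⊥ := fun h0 => hred (nilradical_eq_bot_iff.mp h0)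
  haveI : Nontrivial (nilradical C) := Submodule.nontrivial_iff_ne_bot.mpr hnil
  obtain ⟨q, hqass⟩ := associatedPrimes.nonempty C (nilradical C)
  obtain ⟨hqprime, y, hy⟩ := isAssociatedPrime_iff.mp hqass
  haveI := hqprime
  have hy0 : y ≠ 0 := by
    intro hy0
    apply hqprime.ne_top
    rw [hy, hy0]
    ext c
    simp [mem_colon_singleton]
  have hyC : (y : C) ≠ 0 := fun h0 => hy0 (Subtype.ext h0)
  have hmem : ∀ c : C, c ∈ q ↔ c * (y : C) = 0 := by
    intro c
    rw [hy, mem_colon_singleton, mem_bot]
    constructor
    · intro h1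
      have := congrArg Subtype.val h1
      simpa using this
    · intro h1
      apply Subtype.ext
      simpa using h1
  -- elements of the contraction are zero divisors, hence lie in minimal primes
  have hzd : ∀ b ∈ q.comap (algebraMap B C), ∃ p ∈ minimalPrimes B, b ∈ p := by
    intro b hb
    by_contra hcon
    push Not at hcon
    have hbreg : b ∈ nonZeroDivisors B := by
      rw [mem_nonZeroDivisors_iff_right]
      intro c hc
      have hcnil : c ∈ nilradical B := by
        rw [nilradical, ← Ideal.sInf_minimalPrimes, Ideal.mem_sInf]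
        intro p hp
        have hpp : p.IsPrime := hp.1.1
        have : c * b ∈ p := by rw [hc]; exact p.zero_mem
        exact (hpp.mem_or_mem this).resolve_right (hcon p hp)
      rw [nilradical_eq_bot_iff.mpr inferInstance, Ideal.mem_bot] at hcnil
      exact hcnil
    have hreg : IsSMulRegular C b := Module.Flat.isSMulRegular_of_nonZeroDivisors hbreg
    apply hyC
    apply hreg
    show b • (y : C) = b • 0
    rw [smul_zero, Algebra.smul_def]
    exact (hmem _).mp hb
  have hfin : (minimalPrimes B).Finite := minimalPrimes.finite_of_isNoetherianRing B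
  obtain ⟨p, hp, hap⟩ : ∃ p ∈ hfin.toFinset, q.comap (algebraMap B C) ≤ p := by
    rw [← Ideal.subset_union_prime (f := fun p : Ideal B => p) ⊥ ⊥]
    · intro b hb
      obtain ⟨p, hp, hbp⟩ := hzd b hb
      exact Set.mem_biUnion (show p ∈ (hfin.toFinset : Set (Ideal B)) by simpa using hp) hbp
    · intro i hi _ _
      exact ((Set.Finite.mem_toFinset hfin).mp hi).1.1
  have hp' : p ∈ minimalPrimes B := (Set.Finite.mem_toFinset hfin).mp hp
  haveI := h p hp'
  -- `y ∈ p C`
  have hyp : (y : C) ∈ p.map (algebraMap B C) := by
    rw [← Ideal.Quotient.eq_zero_iff_mem]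
    have hynil : IsNilpotent (y : C) := y.2
    exact (hynil.map (Ideal.Quotient.mk (p.map (algebraMap B C)))).eq_zero
  obtain ⟨s, hsp, hs⟩ := exists_notMem_forall_mul_eq_zero hp'
  have hsy : algebraMap B C s * (y : C) = 0 := by
    have : ∀ z ∈ p.map (algebraMap B C), algebraMap B C s * z = 0 := by
      intro z hz
      induction hz using Submodule.span_induction with
      | mem z hz =>
        obtain ⟨x, hx, rfl⟩ := hz
        rw [← map_mul, hs x hx, map_zero]
      | zero => rw [mul_zero]
      | add y z _ _ hy hz => rw [mul_add, hy, hz, add_zero]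
      | smul a y _ hy => rw [smul_eq_mul, mul_left_comm, hy, mul_zero]
    exact this _ hyp
  exact hsp (hap ((hmem _).mpr hsy))

/-- **Reduced Nagata local rings are analytically unramified.** -/
theorem isReduced_cpl_of_isNagata_of_isReduced (B : Type u) [CommRing B] [IsLocalRing B]
    [IsReduced B] (hB : IsNagata B) : IsReduced (AdicCompletion (maximalIdeal B) B) := by
  haveI := hB.1
  haveI : IsNoetherianRing (AdicCompletion (maximalIdeal B) B) :=
    Groth.Agent.Lib.Helper19.isNoetherianRing_adicCompletion _
  apply isReduced_of_flat_of_forall_minimalPrimes (B := B)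
  intro p hp
  haveI hpp : p.IsPrime := hp.1.1
  obtain ⟨e, -⟩ := Groth.Agent.Lib.Helper28.exists_ringEquiv_adicCompletion_quotient
    (maximalIdeal B) p
  haveI : IsLocalRing (B ⧸ p) := Groth.Agent.Lib.Helper5.isLocalRing_quotient hpp.ne_top
  have hNag : IsNagata (B ⧸ p) :=
    Groth.Agent.Lib.Helper28.isNagata_of_surjective (Ideal.Quotient.mk p)
      Ideal.Quotient.mk_surjective hB
  have h1 := Groth.Agent.Lib.Helper28.isReduced_adicCompletion_of_isNagata (B ⧸ p) hNag
  rw [Groth.Agent.Lib.Helper5.maximalIdeal_quotient_eq_map] at h1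
  exact isReduced_of_injective e e.injective

/-- a reduced finite algebra over a Nagata local ring has reduced completion (with respect to its
Jacobson radical) -/
theorem isReduced_adicCompletion_jacobson (A : Type u) [CommRing A] [IsLocalRing A]
    (hA : IsNagata A) (C : Type u) [CommRing C] [Algebra A C] [Module.Finite A C] [IsReduced C] :
    IsReduced (AdicCompletion ((⊥ : Ideal C).jacobson) C) := by
  haveI := hA.1
  haveI : IsNoetherianRing C := IsNoetherianRing.of_finite A C
  have hNagC : IsNagata C := Groth.Agent.Lib.Helper7.QE.isNagata_of_finite A C hA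
  haveI : IsNoetherianRing (AdicCompletion ((⊥ : Ideal C).jacobson) C) :=
    Groth.Agent.Lib.Helper19.isNoetherianRing_adicCompletion _
  apply Groth.Agent.Lib.Helper28.isReduced_of_forall_isReduced_cpl
  intro n hn
  have hle := Groth.Agent.Lib.Helper28.map_le_of_isMaximal_adicCompletion
    ((⊥ : Ideal C).jacobson) n
  obtain ⟨alg, hloc, hfl, htow, e, -⟩ :=
    Groth.Agent.Lib.Helper28.exists_ringEquiv_cpl_localization_adicCompletion
      ((⊥ : Ideal C).jacobson) n hle
  have hNagP : IsNagata (Localization.AtPrime
      (n.comap (algebraMap C (AdicCompletion ((⊥ : Ideal C).jacobson) C)))) :=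
    Groth.Agent.Lib.Helper14.isNagata_of_isLocalization C
      (n.comap (algebraMap C (AdicCompletion ((⊥ : Ideal C).jacobson) C))).primeCompl _ hNagC
  haveI := isReduced_cpl_of_isNagata_of_isReduced _ hNagP
  exact isReduced_of_injective e.symm.toRingHom e.symm.injective

end Groth.Agent.Lib.Helper7.AnalRed
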