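import Mathlib

/-!
Helper library (helper7): MacLane-type linear disjointness for separable algebraic extensions,
via the Frobenius twist.
-/

set_option autoImplicit false
set_option linter.style.haveILetI false
set_option linter.unusedSectionVars false
universe u v w
open TensorProduct

namespace Groth.Agent.Lib.Helper7.SepPlace

/-- a separable algebraic extension stays reduced after any field base change -/
theorem isReduced_tensor_of_isSeparable (k : Type u) (F : Type v) (L : Type w) [Field k] [Field F]
    [Field L] [Algebra k F] [Algebra k L] [Algebra.IsSeparable k F] : IsReduced (F ⊗[k] L) := by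
  have h1 : IsReduced (L ⊗[k] F) := by
    apply IsReduced.tensorProduct_of_flat_of_forall_fg
    intro B hB
    obtain ⟨s, hs⟩ := hB
    let F₀ : IntermediateField k F := IntermediateField.adjoin k (s : Set F)
    have hBF : B ≤ F₀.toSubalgebra := by
      rw [← hs]; exact IntermediateField.algebra_adjoin_le_adjoin k _
    haveI : Algebra.IsIntegral k F := ⟨fun x => Algebra.IsSeparable.isIntegral k x⟩
    haveI : Module.Finite k F₀ :=
      IntermediateField.finiteDimensional_adjoin (fun x _ => Algebra.IsIntegral.isIntegral x)
    haveI : Algebra.IsSeparable k F₀ := Algebra.isSeparable_tower_bot_of_isSeparable k F₀ F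
    haveI : Algebra.FormallyUnramified k F₀ := Algebra.FormallyUnramified.of_isSeparable k F₀
    have h2 : IsReduced (L ⊗[k] F₀) := Algebra.FormallyUnramified.isReduced_of_field L (L ⊗[k] F₀)
    let f : B →ₐ[k] F₀ := Subalgebra.inclusion hBF
    exact isReduced_of_injective (Algebra.TensorProduct.map (AlgHom.id L L) f)
      (Module.Flat.lTensor_preserves_injective_linearMap _ (Subalgebra.inclusion_injective hBF))
  exact isReduced_of_injective (Algebra.TensorProduct.comm k F L) (AlgEquiv.injective _)

/-- type synonym: `k` as the base over which `k` is an algebra via Frobenius -/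
def FrobBase (k : Type u) : Type u := k

instance (k : Type u) [Field k] : Field (FrobBase k) := inferInstanceAs (Field k)

/-- the Frobenius algebra structure of `k` over `FrobBase k` -/
@[reducible] noncomputable def frobAlgebra (k : Type u) [Field k] (p : ℕ) [ExpChar k p] :
    Algebra (FrobBase k) k :=
  RingHom.toAlgebra (show FrobBase k →+* k from frobenius k p)

/-- the usual algebra structure on a `k`-algebra `F`, over `FrobBase k` -/
@[reducible] def baseAlgebra (k : Type u) (F : Type v) [Field k] [Field F] [Algebra k F] :
    Algebra (FrobBase k) F := inferInstanceAs (Algebra k F)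

/-- MacLane: if `F/k` is separable algebraic, elements of `k` linearly independent over `k^p`
stay so over `F^p`. -/
theorem eq_zero_of_sum_mul_pow_eq_zero (k : Type u) (F : Type v) [Field k] [Field F] [Algebra k F]
    [Algebra.IsSeparable k F] (p : ℕ) [Fact p.Prime] [CharP k p] {ι : Type*} (b : ι → k)
    (hb : @LinearIndependent ι (FrobBase k) k b _ _ (frobAlgebra k p).toModule)
    (s : Finset ι) (u : ι → F) (h : ∑ i ∈ s, algebraMap k F (b i) * u i ^ p = 0) :
    ∀ i ∈ s, u i = 0 := by
  classical
  have hp : p.Prime := Fact.out
  letI a1 : Algebra (FrobBase k) k := frobAlgebra k p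
  letI a2 : Algebra (FrobBase k) F := baseAlgebra k F
  haveI : Algebra.IsSeparable (FrobBase k) F := ‹Algebra.IsSeparable k F›
  haveI : IsReduced (F ⊗[FrobBase k] k) := isReduced_tensor_of_isSeparable (FrobBase k) F k
  haveI : CharP F p := charP_of_injective_algebraMap (algebraMap k F).injective p
  haveI : Nontrivial (F ⊗[FrobBase k] k) :=
    (Algebra.TensorProduct.includeLeft_injective (R := FrobBase k) (S := FrobBase k) (A := F)
      (B := k) (algebraMap (FrobBase k) k).injective).nontrivial
  haveI : CharP (F ⊗[FrobBase k] k) p :=
    charP_of_injective_algebraMap (algebraMap F (F ⊗[FrobBase k] k)).injective p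
  set ξ : F ⊗[FrobBase k] k := ∑ i ∈ s, u i ⊗ₜ[FrobBase k] b i with hξ
  have hξp : ξ ^ p = 0 := by
    rw [hξ, sum_pow_char]
    have hterm : ∀ i ∈ s, (u i ⊗ₜ[FrobBase k] b i) ^ p =
        (algebraMap k F (b i) * u i ^ p) ⊗ₜ[FrobBase k] (1 : k) := by
      intro i _
      rw [Algebra.TensorProduct.tmul_pow]
      have h1 : (b i) ^ p = (show FrobBase k from b i) • (1 : k) := by
        rw [Algebra.smul_def, mul_one]; rfl
      rw [h1, TensorProduct.tmul_smul, TensorProduct.smul_tmul']
      congr 1
      rw [Algebra.smul_def]
      rfl
    rw [Finset.sum_congr rfl hterm, ← TensorProduct.sum_tmul, h, TensorProduct.zero_tmul]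
  have hξ0 : ξ = 0 := IsReduced.eq_zero _ ⟨p, hξp⟩
  have hli : LinearIndependent F (fun i => (1 : F) ⊗ₜ[FrobBase k] b i) :=
    Module.Flat.linearIndependent_one_tmul hb
  rw [linearIndependent_iff'] at hli
  refine hli s u ?_
  rw [← hξ0, hξ]
  refine Finset.sum_congr rfl fun i _ => ?_
  rw [TensorProduct.smul_tmul', smul_eq_mul, mul_one]

end Groth.Agent.Lib.Helper7.SepPlace
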