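import Mathlib
import Groth.Agent.Lib.Helper28LocallyQ
import Groth.Agent.Lib.Helper7SepPlace

set_option autoImplicit false
universe u

namespace Groth.Agent.Lib.Helper28
open TensorProduct

section LocallyQAt

variable (Q : ∀ (R : Type u) [CommRing R], Prop)
  (hQ : ∀ (R S : Type u) [CommRing R] [CommRing S], (R ≃+* S) → Q R → Q S)

/-- `R` is locally `Q`: all localizations at primes satisfy `Q`. -/
def LocallyQ (R : Type u) [CommRing R] : Prop :=
  ∀ (p : Ideal R) [p.IsPrime], Q (Localization.AtPrime p)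

include hQ in
theorem LocallyQ.of_ringEquiv {R S : Type u} [CommRing R] [CommRing S] (e : R ≃+* S)
    (h : LocallyQ Q R) : LocallyQ Q S :=
  locallyQ_of_ringEquiv Q hQ e h

include hQ in
/-- If `R'` is a localization of `R` which is locally `Q`, then `R` is `Q` at every prime
disjoint from the multiplicative set. -/
theorem locallyQ_at_of_isLocalization {R : Type u} [CommRing R] (M : Submonoid R) (R' : Type u)
    [CommRing R'] [Algebra R R'] [IsLocalization M R']
    (h : LocallyQ Q R')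
    (𝔔 : Ideal R) [𝔔.IsPrime] (hdisj : Disjoint (M : Set R) (𝔔 : Set R)) :
    Q (Localization.AtPrime 𝔔) := by
  have hp' : (𝔔.map (algebraMap R R')).IsPrime :=
    IsLocalization.isPrime_of_isPrime_disjoint M R' 𝔔 inferInstance hdisj
  have hcomap : (𝔔.map (algebraMap R R')).comap (algebraMap R R') = 𝔔 :=
    IsLocalization.under_map_of_isPrime_disjoint M R' inferInstance hdisj
  have hloc2 : IsLocalization.AtPrime (Localization.AtPrime (𝔔.map (algebraMap R R')))
      ((𝔔.map (algebraMap R R')).comap (algebraMap R R')) :=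
    IsLocalization.isLocalization_isLocalization_atPrime_isLocalization M _ _
  have key : ∀ (𝔔₁ : Ideal R) [𝔔₁.IsPrime], 𝔔 = 𝔔₁ →
      IsLocalization.AtPrime (Localization.AtPrime (𝔔.map (algebraMap R R'))) 𝔔₁ →
      Q (Localization.AtPrime 𝔔) := by
    rintro _ _ rfl hloc3
    have e := IsLocalization.algEquiv 𝔔.primeCompl
      (Localization.AtPrime 𝔔) (Localization.AtPrime (𝔔.map (algebraMap R R')))
    exact hQ _ _ e.symm.toRingEquiv (h _)
  have hprime : ((𝔔.map (algebraMap R R')).comap (algebraMap R R')).IsPrime :=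
    Ideal.comap_isPrime _ _
  exact key _ hcomap.symm hloc2

end LocallyQAt

section ArtinianIdempotent

variable (E : Type u) [CommRing E] [IsArtinianRing E] [IsReduced E]

/-- In a reduced Artinian ring, a maximal ideal is the annihilator of an idempotent not in it. -/
theorem exists_idempotent_of_isMaximal (m : Ideal E) [hm : m.IsMaximal] :
    ∃ e : E, IsIdempotentElem e ∧ e ∉ m ∧ ∀ x ∈ m, e * x = 0 := by
  classical
  let m' : MaximalSpectrum E := ⟨m, hm⟩
  let e : E := (IsArtinianRing.equivPi E).symm (Pi.single m' 1)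
  have he : IsArtinianRing.equivPi E e = Pi.single m' 1 := AlgEquiv.apply_symm_apply _ _
  refine ⟨e, ?_, ?_, ?_⟩
  · apply (IsArtinianRing.equivPi E).injective
    rw [map_mul, he, ← Pi.single_mul, mul_one]
  · intro hmem
    have h1 : IsArtinianRing.equivPi E e m' = 0 := by
      rw [IsArtinianRing.equivPi_apply]
      exact Ideal.Quotient.eq_zero_iff_mem.mpr hmem
    rw [he, Pi.single_eq_same] at h1
    exact one_ne_zero h1
  · intro x hx
    apply (IsArtinianRing.equivPi E).injective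
    rw [map_mul, he, map_zero]
    ext n
    by_cases hn : n = m'
    · subst hn
      rw [Pi.mul_apply, IsArtinianRing.equivPi_apply, Ideal.Quotient.eq_zero_iff_mem.mpr hx,
        mul_zero, Pi.zero_apply]
    · rw [Pi.mul_apply, Pi.single_eq_of_ne hn, zero_mul, Pi.zero_apply]

/-- In a reduced Artinian ring, the quotient by a maximal ideal is a localization at an
idempotent. -/
theorem exists_isLocalization_away_quotient (m : Ideal E) [hm : m.IsMaximal] :
    ∃ e : E, e ∉ m ∧ IsLocalization.Away e (E ⧸ m) := by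
  obtain ⟨e, he, hem, hann⟩ := exists_idempotent_of_isMaximal E m
  refine ⟨e, hem, ?_⟩
  have h1e : 1 - e ∈ m := by
    have : e * (1 - e) ∈ m := by
      rw [mul_sub, mul_one, he.eq, sub_self]
      exact m.zero_mem
    exact (hm.isPrime.mem_or_mem this).resolve_left hem
  have hmk : Ideal.Quotient.mk m e = 1 := by
    rw [← sub_eq_zero, ← map_one (Ideal.Quotient.mk m), ← map_sub, Ideal.Quotient.eq_zero_iff_mem,
      ← neg_sub]
    exact m.neg_mem h1e
  refine IsLocalization.away_of_isIdempotentElem_of_mul he ?_ Ideal.Quotient.mk_surjective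
  intro x y
  change Ideal.Quotient.mk m x = Ideal.Quotient.mk m y ↔ _
  constructor
  · intro h
    have := hann (x - y) (Ideal.Quotient.eq.mp h)
    rw [mul_sub, sub_eq_zero] at this
    exact this
  · intro h
    have := congrArg (Ideal.Quotient.mk m) h
    rw [map_mul, map_mul, hmk, one_mul, one_mul] at this
    exact this

end ArtinianIdempotent

section SepDown

variable (Q : ∀ (R : Type u) [CommRing R], Prop)
  (hQ : ∀ (R S : Type u) [CommRing R] [CommRing S], (R ≃+* S) → Q R → Q S)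
variable (k k' A : Type u) [Field k] [Field k'] [Algebra k k'] [Algebra.IsSeparable k k']
  [CommRing A] [Algebra k' A] [Algebra k A] [IsScalarTower k k' A]

include hQ in
/-- Going down along a separable algebraic extension `k'/k`: if all `K' ⊗[k'] A` with `K'/k'`
finite are locally `Q`, then all `K ⊗[k] A` with `K/k` finite are locally `Q`. -/
theorem geomLocallyQ_of_isSeparable_down
    (h : ∀ (K' : Type u) [Field K'] [Algebra k' K'], Module.Finite k' K' →
      LocallyQ Q (K' ⊗[k'] A))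
    (K : Type u) [Field K] [Algebra k K] (hfin : Module.Finite k K) :
    LocallyQ Q (K ⊗[k] A) := by
  have hred : IsReduced (k' ⊗[k] K) :=
    Groth.Agent.Lib.Helper7.SepPlace.isReduced_tensor_of_isSeparable k k' K
  have hfinE : Module.Finite k' (k' ⊗[k] K) := inferInstance
  have hart : IsArtinianRing (k' ⊗[k] K) := IsArtinianRing.of_finite k' _
  let φ : ((k' ⊗[k] K) ⊗[k'] A) ≃+* (K ⊗[k] A) :=
    (Algebra.TensorProduct.comm k' (k' ⊗[k] K) A).toRingEquiv.trans
      ((Algebra.TensorProduct.cancelBaseChange k k' k' A K).toRingEquiv.trans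
        (Algebra.TensorProduct.comm k A K).toRingEquiv)
  suffices hsuff : LocallyQ Q ((k' ⊗[k] K) ⊗[k'] A) from LocallyQ.of_ringEquiv Q hQ φ hsuff
  intro 𝔔 _
  obtain ⟨m, hm⟩ : ∃ m : Ideal (k' ⊗[k] K),
      m = 𝔔.comap (algebraMap (k' ⊗[k] K) ((k' ⊗[k] K) ⊗[k'] A)) := ⟨_, rfl⟩
  have hmprime : m.IsPrime := by rw [hm]; exact Ideal.comap_isPrime _ _
  have hmmax : m.IsMaximal := IsArtinianRing.isMaximal_of_isPrime m
  obtain ⟨e, hem, hloc⟩ := exists_isLocalization_away_quotient (k' ⊗[k] K) m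
  let _ : Field ((k' ⊗[k] K) ⧸ m) := Ideal.Quotient.field m
  have hfinK' : Module.Finite k' ((k' ⊗[k] K) ⧸ m) :=
    Module.Finite.of_surjective (Ideal.Quotient.mkₐ k' m).toLinearMap
      (Ideal.Quotient.mkₐ_surjective k' m)
  have h1 := h ((k' ⊗[k] K) ⧸ m) hfinK'
  have hloc2 : IsLocalization
      (Algebra.algebraMapSubmonoid ((k' ⊗[k] K) ⊗[k'] A) (Submonoid.powers e))
      (((k' ⊗[k] K) ⊗[k'] A) ⊗[k' ⊗[k] K] ((k' ⊗[k] K) ⧸ m)) :=
    IsLocalization.tensor ((k' ⊗[k] K) ⧸ m) (Submonoid.powers e)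
  let ψ : (((k' ⊗[k] K) ⊗[k'] A) ⊗[k' ⊗[k] K] ((k' ⊗[k] K) ⧸ m)) ≃+*
      (((k' ⊗[k] K) ⧸ m) ⊗[k'] A) :=
    (Algebra.TensorProduct.comm (k' ⊗[k] K) _ _).toRingEquiv.trans
      (Algebra.TensorProduct.cancelBaseChange k' (k' ⊗[k] K) (k' ⊗[k] K)
        ((k' ⊗[k] K) ⧸ m) A).toRingEquiv
  have h2 : LocallyQ Q (((k' ⊗[k] K) ⊗[k'] A) ⊗[k' ⊗[k] K] ((k' ⊗[k] K) ⧸ m)) :=
    LocallyQ.of_ringEquiv Q hQ ψ.symm h1
  refine locallyQ_at_of_isLocalization Q hQ
    (Algebra.algebraMapSubmonoid ((k' ⊗[k] K) ⊗[k'] A) (Submonoid.powers e))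
    (((k' ⊗[k] K) ⊗[k'] A) ⊗[k' ⊗[k] K] ((k' ⊗[k] K) ⧸ m)) h2 𝔔 ?_
  rw [Set.disjoint_left]
  rintro x ⟨y, ⟨n, rfl⟩, rfl⟩ hx
  apply hem
  refine hmprime.mem_of_pow_mem n ?_
  rw [hm, Ideal.mem_comap]
  exact hx

end SepDown

end Groth.Agent.Lib.Helper28
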