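import Mathlib
import Groth.Agent.Lib.Helper28SepDown
import Groth.Agent.Lib.Helper28GeomFibre2

set_option autoImplicit false
universe u

namespace Groth.Agent.Lib.Helper28
open TensorProduct

section LocallyQDisjoint

variable (Q : ∀ (R : Type u) [CommRing R], Prop)
  (hQ : ∀ (R S : Type u) [CommRing R] [CommRing S], (R ≃+* S) → Q R → Q S)

include hQ in
/-- A localization `M⁻¹R` is locally `Q` as soon as `R` is `Q` at all primes disjoint from `M`. -/
theorem locallyQ_of_isLocalization_of_disjoint {R : Type u} [CommRing R] (M : Submonoid R)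
    (R' : Type u) [CommRing R'] [Algebra R R'] [IsLocalization M R']
    (h : ∀ (𝔔 : Ideal R) [𝔔.IsPrime], Disjoint (M : Set R) (𝔔 : Set R) →
      Q (Localization.AtPrime 𝔔)) : LocallyQ Q R' := by
  intro p hp
  have hp' : (p.comap (algebraMap R R')).IsPrime := Ideal.comap_isPrime _ _
  have hloc2 : IsLocalization.AtPrime (Localization.AtPrime p) (p.comap (algebraMap R R')) :=
    IsLocalization.isLocalization_isLocalization_atPrime_isLocalization M _ _
  have e := IsLocalization.algEquiv (p.comap (algebraMap R R')).primeCompl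
    (Localization.AtPrime (p.comap (algebraMap R R'))) (Localization.AtPrime p)
  refine hQ _ _ e.toRingEquiv (h _ ?_)
  exact ((IsLocalization.isPrime_iff_isPrime_disjoint M R' p).mp hp).2

variable (A C : Type u) [CommRing A] [CommRing C] [Algebra A C]

include hQ in
/-- For a domain `B` over `A` with fraction field `L`: `L ⊗[A] C` is locally `Q` iff `B ⊗[A] C` is
`Q` at all primes contracting to zero in `B`. -/
theorem locallyQ_tensor_fractionRing_iff (B : Type u) [CommRing B] [IsDomain B] [Algebra A B]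
    (L : Type u) [Field L] [Algebra B L] [IsFractionRing B L] [Algebra A L] [IsScalarTower A B L] :
    LocallyQ Q (L ⊗[A] C) ↔
      ∀ (q : Ideal (B ⊗[A] C)) [q.IsPrime],
        q.comap (algebraMap B (B ⊗[A] C)) = ⊥ → Q (Localization.AtPrime q) := by
  have hloc : IsLocalization (Algebra.algebraMapSubmonoid (B ⊗[A] C) (nonZeroDivisors B))
      ((B ⊗[A] C) ⊗[B] L) := IsLocalization.tensor L (nonZeroDivisors B)
  let ψ : ((B ⊗[A] C) ⊗[B] L) ≃+* (L ⊗[A] C) :=
    (Algebra.TensorProduct.comm B _ _).toRingEquiv.trans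
      (Algebra.TensorProduct.cancelBaseChange A B B L C).toRingEquiv
  have hdisj : ∀ (q : Ideal (B ⊗[A] C)) [q.IsPrime],
      Disjoint ((Algebra.algebraMapSubmonoid (B ⊗[A] C) (nonZeroDivisors B) :
        Submonoid (B ⊗[A] C)) : Set (B ⊗[A] C)) (q : Set (B ⊗[A] C)) ↔
      q.comap (algebraMap B (B ⊗[A] C)) = ⊥ := by
    intro q _
    rw [Set.disjoint_left]
    constructor
    · intro h
      rw [eq_bot_iff]
      intro b hb
      by_contra hb0
      exact h ⟨b, mem_nonZeroDivisors_of_ne_zero hb0, rfl⟩ hb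
    · rintro h _ ⟨b, hb, rfl⟩ hbq
      have : b ∈ q.comap (algebraMap B (B ⊗[A] C)) := hbq
      rw [h] at this
      exact nonZeroDivisors.ne_zero hb this
  constructor
  · intro h q _ hq
    have h2 : LocallyQ Q ((B ⊗[A] C) ⊗[B] L) := LocallyQ.of_ringEquiv Q hQ ψ.symm h
    exact locallyQ_at_of_isLocalization Q hQ
      (Algebra.algebraMapSubmonoid (B ⊗[A] C) (nonZeroDivisors B))
      ((B ⊗[A] C) ⊗[B] L) h2 q ((hdisj q).mpr hq)
  · intro h
    have h2 : LocallyQ Q ((B ⊗[A] C) ⊗[B] L) :=
      locallyQ_of_isLocalization_of_disjoint Q hQ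
        (Algebra.algebraMapSubmonoid (B ⊗[A] C) (nonZeroDivisors B)) _
        (fun 𝔔 _ hd => h 𝔔 ((hdisj 𝔔).mp hd))
    exact LocallyQ.of_ringEquiv Q hQ ψ h2

end LocallyQDisjoint

end Groth.Agent.Lib.Helper28
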