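import Mathlib
import Groth.Agent.Lib.Helper28FinDomA

set_option autoImplicit false
universe u

namespace Groth.Agent.Lib.Helper28
open TensorProduct

section FiniteDomainFraction

variable (A : Type u) [CommRing A] (B : Type u) [CommRing B] [IsDomain B] [Algebra A B]
  [Module.Finite A B]

/-- For a finite `A`-algebra domain `B` with `p = ker (A → B)`, the fraction field of `B` is a
finite extension of `κ(p)`, compatibly with the `A`-algebra structures. -/
theorem exists_algebra_residueField_fractionRing (L : Type u) [Field L] [Algebra B L]
    [IsFractionRing B L] [Algebra A L] [IsScalarTower A B L] :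
    ∃ (p : Ideal A) (_ : p.IsPrime) (_ : Algebra p.ResidueField L)
      (_ : IsScalarTower A p.ResidueField L), Module.Finite p.ResidueField L := by
  have hinjBL : Function.Injective (algebraMap B L) := IsFractionRing.injective B L
  obtain ⟨p, hp⟩ : ∃ p : Ideal A, p = RingHom.ker (algebraMap A L) := ⟨_, rfl⟩
  have hprime : p.IsPrime := by rw [hp]; exact RingHom.ker_isPrime _
  have hunits : p.primeCompl ≤ (IsUnit.submonoid L).comap (algebraMap A L) := by
    intro a ha
    rw [Submonoid.mem_comap, IsUnit.mem_submonoid_iff, isUnit_iff_ne_zero]
    intro h0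
    apply ha
    rw [hp]
    exact h0
  let φ : p.ResidueField →+* L := Ideal.ResidueField.lift p (algebraMap A L) (le_of_eq hp) hunits
  let alg : Algebra p.ResidueField L := φ.toAlgebra
  have htower : IsScalarTower A p.ResidueField L := by
    refine .of_algebraMap_eq fun a => ?_
    exact (Ideal.ResidueField.lift_algebraMap p (algebraMap A L) (le_of_eq hp) hunits a).symm
  refine ⟨p, hprime, alg, htower, ?_⟩
  -- finiteness
  obtain ⟨s, hs⟩ := (Module.finite_def (R := A) (M := B)).mp inferInstance
  have hint : ∀ b : B, IsIntegral p.ResidueField (algebraMap B L b) := by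
    intro b
    have h1 : IsIntegral A b := Algebra.IsIntegral.isIntegral b
    have h2 : IsIntegral A (algebraMap B L b) := h1.map (IsScalarTower.toAlgHom A B L)
    exact h2.tower_top
  let F : IntermediateField p.ResidueField L :=
    IntermediateField.adjoin p.ResidueField ((algebraMap B L) '' (s : Set B))
  have hFfin : FiniteDimensional p.ResidueField F := by
    apply IntermediateField.finiteDimensional_adjoin
    rintro _ ⟨b, -, rfl⟩
    exact hint b
  have hBF : ∀ b : B, algebraMap B L b ∈ F := by
    intro b
    have hb : b ∈ Submodule.span A (s : Set B) := by rw [hs]; exact Submodule.mem_top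
    induction hb using Submodule.span_induction with
    | mem x hx => exact IntermediateField.subset_adjoin _ _ ⟨x, hx, rfl⟩
    | zero => rw [map_zero]; exact F.zero_mem
    | add x y _ _ hx hy => rw [map_add]; exact F.add_mem hx hy
    | smul a x _ hx =>
      rw [Algebra.smul_def, map_mul, ← IsScalarTower.algebraMap_apply A B L,
        IsScalarTower.algebraMap_apply A p.ResidueField L]
      exact F.mul_mem (F.algebraMap_mem _) hx
  have hFtop : F = ⊤ := by
    rw [eq_top_iff]
    intro z _
    obtain ⟨b, b', hb', rfl⟩ := IsFractionRing.div_surjective (A := B) z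
    exact F.div_mem (hBF b) (hBF b')
  rw [hFtop] at hFfin
  exact Module.Finite.equiv (IntermediateField.topEquiv (F := p.ResidueField) (E := L)).toLinearEquiv

end FiniteDomainFraction

end Groth.Agent.Lib.Helper28
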