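import Mathlib

set_option autoImplicit false
universe u

namespace Groth.Agent.Lib.Helper28
open TensorProduct IsLocalRing

section FiniteSubalgebra

variable (A : Type u) [CommRing A]

/-- For a prime `p` of `A` and a finite extension `K'` of `κ(p)`, there is a finite `A`-subalgebra
`B` of `K'` with fraction field `K'`. -/
theorem exists_finite_subalgebra_isFractionRing (p : Ideal A) [p.IsPrime] (K' : Type u) [Field K']
    [Algebra p.ResidueField K'] [Module.Finite p.ResidueField K'] [Algebra A K']
    [IsScalarTower A p.ResidueField K'] :
    ∃ B : Subalgebra A K', Module.Finite A B ∧ IsFractionRing B K' := by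
  classical
  let _ : Algebra (Localization.AtPrime p) K' :=
    ((algebraMap p.ResidueField K').comp
      (algebraMap (Localization.AtPrime p) p.ResidueField)).toAlgebra
  have t1 : IsScalarTower (Localization.AtPrime p) p.ResidueField K' := .of_algebraMap_eq' rfl
  have t2 : IsScalarTower A (Localization.AtPrime p) K' := by
    refine .of_algebraMap_eq fun a => ?_
    rw [IsScalarTower.algebraMap_apply A p.ResidueField K',
      IsScalarTower.algebraMap_apply A (Localization.AtPrime p) p.ResidueField,
      ← IsScalarTower.algebraMap_apply (Localization.AtPrime p) p.ResidueField K']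
  have hintp : ∀ z : K', IsIntegral (Localization.AtPrime p) z := by
    intro z
    have h1 : IsIntegral p.ResidueField z := Algebra.IsIntegral.isIntegral z
    have : Algebra.IsIntegral (Localization.AtPrime p) p.ResidueField :=
      Algebra.IsIntegral.of_surjective (Algebra.ofId (Localization.AtPrime p) p.ResidueField)
        (fun x => by
          obtain ⟨y, rfl⟩ := IsLocalRing.residue_surjective x
          exact ⟨y, rfl⟩)
    exact isIntegral_trans z h1
  let b := Module.finBasis p.ResidueField K'
  choose d hd using fun i =>
    IsIntegral.exists_multiple_integral_of_isLocalization p.primeCompl (b i) (hintp (b i))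
  let B : Subalgebra A K' := Algebra.adjoin A (Set.range fun i => (d i : A) • b i)
  have hBfin : Module.Finite A B := by
    have hfg : B.toSubmodule.FG := fg_adjoin_of_finite (Set.finite_range _) (by
      rintro _ ⟨i, rfl⟩
      exact hd i)
    exact Module.Finite.of_fg hfg
  refine ⟨B, hBfin, ?_⟩
  have key : ∀ z : K', ∃ s : A, s ∉ p ∧ s • z ∈ B := by
    let F : Submodule p.ResidueField K' :=
      { carrier := {z | ∃ s : A, s ∉ p ∧ s • z ∈ B}
        add_mem' := by
          rintro x y ⟨s, hs, hsx⟩ ⟨t, ht, hty⟩
          refine ⟨s * t, fun h => (‹p.IsPrime›.mem_or_mem h).elim hs ht, ?_⟩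
          rw [smul_add]
          refine B.add_mem ?_ ?_
          · rw [mul_comm, mul_smul]
            exact B.smul_mem hsx t
          · rw [mul_smul]
            exact B.smul_mem hty s
        zero_mem' := ⟨1, fun h => ‹p.IsPrime›.ne_top ((Ideal.eq_top_iff_one _).mpr h), by
          rw [smul_zero]; exact B.zero_mem⟩
        smul_mem' := by
          rintro c x ⟨s, hs, hsx⟩
          obtain ⟨c', rfl⟩ := IsLocalRing.residue_surjective c
          obtain ⟨⟨a, t⟩, hat⟩ := IsLocalization.surj p.primeCompl c'
          refine ⟨t * s, fun h => (‹p.IsPrime›.mem_or_mem h).elim t.2 hs, ?_⟩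
          have h1 : ((t : A) * s) • (IsLocalRing.residue (Localization.AtPrime p) c' • x) =
              a • (s • x) := by
            have h2 : (algebraMap A (Localization.AtPrime p) (t : A)) * c' =
                algebraMap A (Localization.AtPrime p) a := by
              rw [mul_comm]; exact hat
            have h3 : (IsLocalRing.residue (Localization.AtPrime p) c') • x = c' • x := by
              rw [Algebra.smul_def, Algebra.smul_def]
              rfl
            rw [h3, mul_smul, smul_comm s c' x, ← algebraMap_smul (Localization.AtPrime p) (t : A),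
              smul_smul, h2, algebraMap_smul]
          rw [h1]
          exact B.smul_mem hsx a }
    have hF : F = ⊤ := by
      rw [eq_top_iff, ← b.span_eq, Submodule.span_le]
      rintro _ ⟨i, rfl⟩
      exact ⟨d i, (d i).2, Algebra.subset_adjoin ⟨i, rfl⟩⟩
    intro z
    have : z ∈ F := by rw [hF]; exact Submodule.mem_top
    exact this
  have : FaithfulSMul B K' := (faithfulSMul_iff_algebraMap_injective B K').mpr Subtype.val_injective
  apply IsFractionRing.of_field
  intro z
  obtain ⟨s, hs, hsz⟩ := key z
  refine ⟨⟨s • z, hsz⟩, ⟨algebraMap A K' s, B.algebraMap_mem s⟩, ?_⟩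
  have hs0 : algebraMap A K' s ≠ 0 := by
    rw [IsScalarTower.algebraMap_apply A p.ResidueField K']
    intro h0
    have h1 : algebraMap A p.ResidueField s = 0 :=
      (algebraMap p.ResidueField K').injective (by rw [h0, map_zero])
    exact hs ((Ideal.algebraMap_residueField_eq_zero).mp h1)
  change z = (s • z) / algebraMap A K' s
  rw [Algebra.smul_def, mul_div_assoc, mul_comm, div_mul_cancel₀ _ hs0]

end FiniteSubalgebra

end Groth.Agent.Lib.Helper28
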