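import Mathlib
import Groth.Agent.Lib.Helper28FinDomB
import Groth.Agent.Lib.Helper28FinDomC

set_option autoImplicit false
universe u

namespace Groth.Agent.Lib.Helper28
open TensorProduct IsLocalRing

section Main

variable (Q : ∀ (R : Type u) [CommRing R], Prop)
  (hQ : ∀ (R S : Type u) [CommRing R] [CommRing S], (R ≃+* S) → Q R → Q S)
variable (A C : Type u) [CommRing A] [CommRing C] [Algebra A C]

include hQ in
/-- **Finite-domain criterion for geometric fibres** (EGA IV 7.3.2-type): the geometric fibres of
`A → C` (over finite extensions of the residue fields) are locally `Q` iff for every finite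
`A`-algebra domain `B`, the ring `B ⊗[A] C` is `Q` at all primes contracting to zero in `B`. -/
theorem geomLocallyQ_fibres_iff_finite_domains :
    (∀ (p : Ideal A) [p.IsPrime] (K' : Type u) [Field K'] [Algebra p.ResidueField K'],
      Module.Finite p.ResidueField K' → LocallyQ Q (K' ⊗[p.ResidueField] p.Fiber C)) ↔
    (∀ (B : Type u) [CommRing B] [IsDomain B] [Algebra A B] [Module.Finite A B]
      (q : Ideal (B ⊗[A] C)) [q.IsPrime],
      q.comap (algebraMap B (B ⊗[A] C)) = ⊥ → Q (Localization.AtPrime q)) := by
  constructor
  · intro h B _ _ _ _ q _ hq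
    have : IsScalarTower A B (FractionRing B) := inferInstance
    obtain ⟨p, hp, alg, tower, fin⟩ :=
      exists_algebra_residueField_fractionRing A B (FractionRing B)
    have h1 := h p (FractionRing B) fin
    have h2 : LocallyQ Q (FractionRing B ⊗[A] C) :=
      LocallyQ.of_ringEquiv Q hQ
        ((tensorFiberEquiv A C p (FractionRing B)).symm.trans
          (Algebra.TensorProduct.comm A C (FractionRing B)).toRingEquiv) h1
    exact (locallyQ_tensor_fractionRing_iff Q hQ A C B (FractionRing B)).mp h2 q hq
  · intro h p _ K' _ _ fin
    let _ : Algebra A K' :=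
      ((algebraMap p.ResidueField K').comp (algebraMap A p.ResidueField)).toAlgebra
    have : IsScalarTower A p.ResidueField K' := .of_algebraMap_eq' rfl
    obtain ⟨B, hBfin, hfrac⟩ := exists_finite_subalgebra_isFractionRing A p K'
    have h2 : LocallyQ Q (K' ⊗[A] C) :=
      (locallyQ_tensor_fractionRing_iff Q hQ A C B K').mpr (fun q _ hq => h B q hq)
    exact LocallyQ.of_ringEquiv Q hQ
      ((Algebra.TensorProduct.comm A K' C).toRingEquiv.trans (tensorFiberEquiv A C p K')) h2

end Main

end Groth.Agent.Lib.Helper28
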