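import Mathlib
import Groth.Agent.Lib.Helper7AnalRed
import Groth.Agent.Lib.Helper28AUReduce
import Groth.Agent.S4743

/-!
# Nagata local rings have geometrically reduced formal fibres (helper7)
-/

set_option autoImplicit false
set_option linter.style.haveILetI false
universe u

namespace Groth.Agent.Lib.Helper7.NagFF

open Groth CAlg IsLocalRing TensorProduct

section T1

variable {R : Type u} [CommRing R] [IsLocalRing R] [IsNoetherianRing R]
  (R' : Type u) [CommRing R'] [Algebra R R'] [Module.Finite R R']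

attribute [local instance] Algebra.TensorProduct.rightAlgebra in
/-- If the completions of all local rings of the finite `R`-algebra `R'` are reduced, then
`R' ⊗_R R̂` is reduced. -/
theorem isReduced_tensor_cpl_of_forall_isReduced_cpl
    (h : ∀ (P : Ideal R') [P.IsPrime], IsReduced (EGA4.Cpl (Localization.AtPrime P))) :
    IsReduced (R' ⊗[R] EGA4.Cpl R) := by
  haveI hNC : IsNoetherianRing (EGA4.Cpl R) :=
    Groth.Agent.Lib.Helper19.isNoetherianRing_adicCompletion _
  haveI : IsNoetherianRing R' := IsNoetherianRing.of_finite R R'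
  haveI hfin : Module.Finite (EGA4.Cpl R) (R' ⊗[R] EGA4.Cpl R) :=
    Groth.Agent.Lib.Helper7.QE.finite_tensor_right R R' (EGA4.Cpl R)
  haveI : IsNoetherianRing (R' ⊗[R] EGA4.Cpl R) := IsNoetherianRing.of_finite (EGA4.Cpl R) _
  -- the two descriptions of the image of an element of `R`
  have e1 : ∀ a : R, algebraMap R' (R' ⊗[R] EGA4.Cpl R) (algebraMap R R' a) =
      algebraMap (EGA4.Cpl R) (R' ⊗[R] EGA4.Cpl R) (algebraMap R (EGA4.Cpl R) a) := by
    intro a
    change (algebraMap R R' a) ⊗ₜ[R] (1 : EGA4.Cpl R) =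
      (1 : R') ⊗ₜ[R] (algebraMap R (EGA4.Cpl R) a)
    rw [Algebra.algebraMap_eq_smul_one, Algebra.algebraMap_eq_smul_one, TensorProduct.smul_tmul]
  -- `m Ĉ` maps into `m R' · D`
  have hmCT : ∀ c ∈ (maximalIdeal R).map (algebraMap R (EGA4.Cpl R)),
      algebraMap (EGA4.Cpl R) (R' ⊗[R] EGA4.Cpl R) c ∈
      ((maximalIdeal R).map (algebraMap R R')).map (algebraMap R' (R' ⊗[R] EGA4.Cpl R)) := by
    intro c hc
    have : (maximalIdeal R).map (algebraMap R (EGA4.Cpl R)) ≤
        (((maximalIdeal R).map (algebraMap R R')).map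
          (algebraMap R' (R' ⊗[R] EGA4.Cpl R))).comap
          (algebraMap (EGA4.Cpl R) (R' ⊗[R] EGA4.Cpl R)) := by
      rw [Ideal.map_le_iff_le_comap]
      intro a ha
      rw [Ideal.mem_comap, Ideal.mem_comap, ← e1]
      exact Ideal.mem_map_of_mem _ (Ideal.mem_map_of_mem _ ha)
    exact this hc
  have hsurj : ∀ t : R' ⊗[R] EGA4.Cpl R, ∃ r' : R',
      t - algebraMap R' (R' ⊗[R] EGA4.Cpl R) r' ∈
      ((maximalIdeal R).map (algebraMap R R')).map (algebraMap R' (R' ⊗[R] EGA4.Cpl R)) := by
    intro t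
    induction t using TensorProduct.induction_on with
    | zero => exact ⟨0, by simp⟩
    | tmul s c =>
      obtain ⟨a, ha⟩ := Groth.Agent.Lib.Helper28.exists_sub_mem_map_adicCompletion (maximalIdeal R) c
      refine ⟨a • s, ?_⟩
      have e2 : s ⊗ₜ[R] c - algebraMap R' (R' ⊗[R] EGA4.Cpl R) (a • s) =
          algebraMap (EGA4.Cpl R) (R' ⊗[R] EGA4.Cpl R) (c - algebraMap R _ a) *
            (s ⊗ₜ[R] (1 : EGA4.Cpl R)) := by
        change s ⊗ₜ[R] c - (a • s) ⊗ₜ[R] (1 : EGA4.Cpl R) =
          ((1 : R') ⊗ₜ[R] (c - algebraMap R _ a)) * (s ⊗ₜ[R] (1 : EGA4.Cpl R))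
        rw [Algebra.TensorProduct.tmul_mul_tmul, mul_one, one_mul, TensorProduct.tmul_sub,
          TensorProduct.smul_tmul, Algebra.algebraMap_eq_smul_one]
      rw [e2]
      exact Ideal.mul_mem_right _ _ (hmCT _ ha)
    | add x y hx hy =>
      obtain ⟨r1, h1⟩ := hx
      obtain ⟨r2, h2⟩ := hy
      refine ⟨r1 + r2, ?_⟩
      have : x + y - algebraMap R' (R' ⊗[R] EGA4.Cpl R) (r1 + r2) =
          (x - algebraMap R' _ r1) + (y - algebraMap R' _ r2) := by
        rw [map_add]; ring
      rw [this]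
      exact Ideal.add_mem _ h1 h2
  apply Groth.Agent.Lib.Helper28.isReduced_of_forall_isReduced_cpl
  intro n hn
  have hn' : ((maximalIdeal R).map (algebraMap R R')).map
      (algebraMap R' (R' ⊗[R] EGA4.Cpl R)) ≤ n := by
    rw [Ideal.map_map, Ideal.map_le_iff_le_comap]
    intro a ha
    rw [Ideal.mem_comap]
    have hmax : (n.comap (algebraMap (EGA4.Cpl R) (R' ⊗[R] EGA4.Cpl R))).IsMaximal :=
      Ideal.isMaximal_comap_of_isIntegral_of_isMaximal n
    have heq := IsLocalRing.eq_maximalIdeal hmax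
    have h1 : algebraMap R (EGA4.Cpl R) a ∈ maximalIdeal (EGA4.Cpl R) :=
      IsLocalRing.map_maximalIdeal_le (algebraMap R _) (Ideal.mem_map_of_mem _ ha)
    rw [← heq, Ideal.mem_comap] at h1
    rw [RingHom.comp_apply, e1]
    exact h1
  obtain ⟨alg, hloc, hfl, htow, e, -⟩ :=
    Groth.Agent.Lib.Helper28.exists_ringEquiv_cpl_localization_of_surjective_mod
      ((maximalIdeal R).map (algebraMap R R')) hsurj n hn'
  haveI := h (n.comap (algebraMap R' (R' ⊗[R] EGA4.Cpl R)))
  exact isReduced_of_injective e.symm.toRingHom e.symm.injective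

end T1

/-- **A Nagata local ring has geometrically reduced formal fibres.** -/
theorem hasGeomReducedFormalFibres_of_isNagata (A : Type u) [CommRing A] [IsLocalRing A]
    (hA : IsNagata A) : EGA4.HasGeomReducedFormalFibres A := by
  haveI := hA.1
  rw [Groth.Agent.S4743.result A]
  intro B _ _ _ _ q _ _
  have hNagB : IsNagata B := Groth.Agent.Lib.Helper7.QE.isNagata_of_finite A B hA
  haveI : IsReduced (B ⊗[A] EGA4.Cpl A) := by
    apply isReduced_tensor_cpl_of_forall_isReduced_cpl
    intro P hP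
    have hNagP : IsNagata (Localization.AtPrime P) :=
      Groth.Agent.Lib.Helper14.isNagata_of_isLocalization B P.primeCompl _ hNagB
    exact Groth.Agent.Lib.Helper28.isReduced_adicCompletion_of_isNagata _ hNagP
  infer_instance

end Groth.Agent.Lib.Helper7.NagFF
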