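import Mathlib
import Groth.Prelude
import Groth.Agent.Lib.Helper7NagFF
import Groth.Agent.Lib.Helper19ComplDim
import Groth.Agent.S4703

/-!
# Nagata local rings of dimension at most one are G-rings (helper7)
-/

set_option autoImplicit false
set_option linter.style.haveILetI false
universe u

namespace Groth.Agent.Lib.Helper7.ExcDed

open Groth CAlg IsLocalRing TensorProduct

attribute [local instance] Algebra.TensorProduct.rightAlgebra in
/-- A Nagata local ring of dimension at most one has regular completion map. -/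
theorem isRegularHom_cpl_of_isNagata_of_dim_le_one (A : Type u) [CommRing A] [IsLocalRing A]
    (hA : IsNagata A) (hdim : ringKrullDim A ≤ 1) : CAlg.IsRegularHom A (EGA4.Cpl A) := by
  haveI := hA.1
  rw [Groth.Agent.S4703.result A]
  intro B _ _ _ _ q _ hq
  have hNagB : IsNagata B := Groth.Agent.Lib.Helper7.QE.isNagata_of_finite A B hA
  haveI : IsReduced (B ⊗[A] EGA4.Cpl A) := by
    apply Groth.Agent.Lib.Helper7.NagFF.isReduced_tensor_cpl_of_forall_isReduced_cpl
    intro P hP
    have hNagP : IsNagata (Localization.AtPrime P) :=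
      Groth.Agent.Lib.Helper14.isNagata_of_isLocalization B P.primeCompl _ hNagB
    exact Groth.Agent.Lib.Helper28.isReduced_adicCompletion_of_isNagata _ hNagP
  haveI hNC : IsNoetherianRing (EGA4.Cpl A) :=
    Groth.Agent.Lib.Helper19.isNoetherianRing_adicCompletion _
  haveI hfin : Module.Finite (EGA4.Cpl A) (B ⊗[A] EGA4.Cpl A) :=
    Groth.Agent.Lib.Helper7.QE.finite_tensor_right A B (EGA4.Cpl A)
  haveI : IsNoetherianRing (B ⊗[A] EGA4.Cpl A) := IsNoetherianRing.of_finite (EGA4.Cpl A) _
  haveI : Algebra.IsIntegral (EGA4.Cpl A) (B ⊗[A] EGA4.Cpl A) := Algebra.IsIntegral.of_finite _ _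
  have hdimC : ringKrullDim (EGA4.Cpl A) ≤ 1 := by
    rw [show ringKrullDim (EGA4.Cpl A) = ringKrullDim A from
      Groth.Agent.Lib.Helper19.ringKrullDim_adicCompletion_maximalIdeal A]
    exact hdim
  haveI : Ring.KrullDimLE 1 (EGA4.Cpl A) := Ring.krullDimLE_iff.mpr (by simpa using hdimC)
  -- the two descriptions of the image of an element of `A`
  have e1 : ∀ a : A, algebraMap B (B ⊗[A] EGA4.Cpl A) (algebraMap A B a) =
      algebraMap (EGA4.Cpl A) (B ⊗[A] EGA4.Cpl A) (algebraMap A (EGA4.Cpl A) a) := by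
    intro a
    change (algebraMap A B a) ⊗ₜ[A] (1 : EGA4.Cpl A) =
      (1 : B) ⊗ₜ[A] (algebraMap A (EGA4.Cpl A) a)
    rw [Algebra.algebraMap_eq_smul_one, Algebra.algebraMap_eq_smul_one, TensorProduct.smul_tmul]
  -- `q` is a minimal prime
  have hmin : q ∈ minimalPrimes (B ⊗[A] EGA4.Cpl A) := by
    obtain ⟨q', hq'min, hq'le⟩ := Ideal.exists_minimalPrimes_le (bot_le : (⊥ : Ideal _) ≤ q)
    haveI hq'prime : q'.IsPrime := hq'min.1.1
    rcases eq_or_lt_of_le hq'le with heq | hlt
    · rw [← heq]; exact hq'min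
    exfalso
    obtain ⟨x, hxq, hxq'⟩ := Set.exists_of_ssubset hlt
    have hlt' := Ideal.comap_lt_comap_of_integral_mem_sdiff (R := EGA4.Cpl A) hq'le
      ⟨hxq, hxq'⟩ (Algebra.IsIntegral.isIntegral x)
    set n' := q'.comap (algebraMap (EGA4.Cpl A) (B ⊗[A] EGA4.Cpl A)) with hn'
    set n := q.comap (algebraMap (EGA4.Cpl A) (B ⊗[A] EGA4.Cpl A)) with hn
    haveI : n.IsPrime := Ideal.comap_isPrime _ _
    haveI : n'.IsPrime := Ideal.comap_isPrime _ _
    have hnmax : n.IsMaximal := by
      rcases Ring.krullDimLE_one_iff.mp inferInstance n inferInstance with hmn | hmx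
      · exact absurd hlt' (not_lt_of_ge (hmn.2 ⟨inferInstance, bot_le⟩ hlt'.le))
      · exact hmx
    have hneq : n = maximalIdeal (EGA4.Cpl A) := IsLocalRing.eq_maximalIdeal hnmax
    have hzero : ∀ a ∈ maximalIdeal A, algebraMap A B a = 0 := by
      intro a ha
      have h1 : algebraMap A (EGA4.Cpl A) a ∈ n := by
        rw [hneq, AdicCompletion.maximalIdeal_eq_map]
        exact Ideal.mem_map_of_mem _ ha
      have h2 : algebraMap A B a ∈ q.comap (algebraMap B (B ⊗[A] EGA4.Cpl A)) := by
        rw [Ideal.mem_comap, e1]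
        exact h1
      rw [hq] at h2
      exact h2
    have hle : maximalIdeal (EGA4.Cpl A) ≤ n' := by
      rw [AdicCompletion.maximalIdeal_eq_map, Ideal.map_le_iff_le_comap]
      intro a ha
      rw [Ideal.mem_comap, hn', Ideal.mem_comap, ← e1, hzero a ha, map_zero]
      exact zero_mem _
    have : n' = maximalIdeal (EGA4.Cpl A) :=
      IsLocalRing.eq_maximalIdeal
        ((IsLocalRing.maximalIdeal.isMaximal _).eq_of_le (Ideal.IsPrime.ne_top inferInstance) hle ▸
          IsLocalRing.maximalIdeal.isMaximal _)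
    rw [this, hneq] at hlt'
    exact lt_irrefl _ hlt'
  -- the local ring at `q` is a field
  haveI : IsReduced (Localization.AtPrime q) := inferInstance
  have hdim0 : ringKrullDim (Localization.AtPrime q) = 0 := by
    rw [IsLocalization.AtPrime.ringKrullDim_eq_height q (Localization.AtPrime q),
      Ideal.height_eq_zero_iff.mpr hmin]
    rfl
  haveI : Ring.KrullDimLE 0 (Localization.AtPrime q) :=
    Ring.krullDimLE_iff.mpr (by rw [hdim0]; rfl)
  have hF : IsField (Localization.AtPrime q) := by
    haveI := (isArtinianRing_iff_krullDimLE_zero (R := Localization.AtPrime q)).mpr inferInstance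
    exact IsArtinianRing.isField_of_isReduced_of_isLocalRing (Localization.AtPrime q)
  letI : Field (Localization.AtPrime q) := hF.toField
  infer_instance

end Groth.Agent.Lib.Helper7.ExcDed
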