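import Mathlib

set_option autoImplicit false
universe u v

namespace Groth.Agent.Lib.Helper7.JacCrit

open TensorProduct KaehlerDifferential Matrix

/-- From `m` "linearly independent rows" with arbitrarily many columns one can extract an
invertible `m × m` minor. -/
theorem exists_minor {K : Type*} [Field K] {m : ℕ} {A : Type*} (M : Fin m → A → K)
    (h : ∀ c : Fin m → K, (∀ α, ∑ i, c i * M i α = 0) → c = 0) :
    ∃ α : Fin m → A, Matrix.det (Matrix.of fun i j => M i (α j)) ≠ 0 := by
  classical
  let v : A → (Fin m → K) := fun α i => M i α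
  have hspan : Submodule.span K (Set.range v) = ⊤ := by
    by_contra hne
    obtain ⟨f, hf0, hf⟩ := Submodule.exists_le_ker_of_lt_top _ (lt_top_iff_ne_top.mpr hne)
    apply hf0
    have hc : (fun i => f (Pi.single i 1)) = 0 := by
      apply h
      intro α
      have h1 : f (v α) = 0 := hf (Submodule.subset_span ⟨α, rfl⟩)
      rw [LinearMap.pi_apply_eq_sum_univ f (v α)] at h1
      rw [← h1]
      refine Finset.sum_congr rfl fun i _ => ?_
      rw [smul_eq_mul, mul_comm]
      congr 2
      ext j
      simp [Pi.single_apply, eq_comm]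
    ext i
    simpa using congrFun hc i
  obtain ⟨b, hb, hbspan, hbli⟩ := exists_linearIndependent K (Set.range v)
  let bas : Module.Basis b K (Fin m → K) := Module.Basis.mk hbli (by
    rw [Subtype.range_coe_subtype, Set.ofPred_mem_eq, hbspan, hspan])
  have : Finite b := Module.Finite.finite_basis bas
  have : Fintype b := Fintype.ofFinite b
  have hcard : Fintype.card b = m := by
    rw [← Module.finrank_eq_card_basis bas, Module.finrank_fin_fun]
  let e : b ≃ Fin m := Fintype.equivFinOfCardEq hcard
  have hex : ∀ j : Fin m, ∃ α, v α = (e.symm j).1 := fun j => hb (e.symm j).2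
  choose α hα using hex
  refine ⟨α, ?_⟩
  let bas' : Module.Basis (Fin m) K (Fin m → K) := bas.reindex e
  have hdet := Module.Basis.isUnit_det (Pi.basisFun K (Fin m)) bas'
  rw [Pi.basisFun_det_apply] at hdet
  have hmat : (Matrix.of fun i j => M i (α j)) = (Matrix.of (fun j => bas' j))ᵀ := by
    ext i j
    simp only [Matrix.of_apply, Matrix.transpose_apply, bas', Module.Basis.reindex_apply, bas,
      Module.Basis.mk_apply]
    rw [← hα j]
  rw [hmat, Matrix.det_transpose]
  exact hdet.ne_zero

section suff

variable {R : Type v} {S : Type u} [CommRing R] [CommRing S] [Algebra R S]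

/-- Sufficiency in the Jacobian criterion: generators `x_i` of the kernel and linear forms
`ψ_j` on `Ω[P/R]` with `det (ψ_j (d x_i))` a unit. -/
theorem formallySmooth_of_det (P : Algebra.Extension.{u} R S) [Algebra.FormallySmooth R P.Ring]
    {m : ℕ} (x : Fin m → P.ker) (hx : Submodule.span P.Ring (Set.range x) = ⊤)
    (ψ : Fin m → (Ω[P.Ring⁄R] →ₗ[P.Ring] S))
    (hdet : IsUnit (Matrix.det (Matrix.of fun i j => ψ j (D R P.Ring (x i).1)))) :
    Algebra.FormallySmooth R S := by
  classical
  rw [P.formallySmooth_iff_split_injection]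
  set N : Matrix (Fin m) (Fin m) S := Matrix.of fun i j => ψ j (D R P.Ring (x i).1) with hN
  let G : P.CotangentSpace →ₗ[S] (Fin m → S) := LinearMap.pi fun j => (ψ j).liftBaseChange S
  let F : (Fin m → S) →ₗ[S] P.Cotangent :=
    Fintype.linearCombination S fun i => Algebra.Extension.Cotangent.mk (x i)
  have hGcc : ∀ i, G (P.cotangentComplex (Algebra.Extension.Cotangent.mk (x i))) = N i := by
    intro i
    ext j
    simp [G, Algebra.Extension.cotangentComplex_mk, hN]
  have hFsurj : Function.Surjective F := by
    intro y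
    obtain ⟨z, rfl⟩ := Algebra.Extension.Cotangent.mk_surjective y
    have hz : z ∈ Submodule.span P.Ring (Set.range x) := by rw [hx]; trivial
    induction hz using Submodule.span_induction with
    | mem w hw =>
      obtain ⟨i, rfl⟩ := hw
      exact ⟨Pi.single i 1, by simp [F, Fintype.linearCombination_apply_single]⟩
    | zero => exact ⟨0, by simp⟩
    | add w₁ w₂ _ _ h₁ h₂ =>
      obtain ⟨c₁, h₁⟩ := h₁
      obtain ⟨c₂, h₂⟩ := h₂
      exact ⟨c₁ + c₂, by rw [map_add, map_add, h₁, h₂]⟩
    | smul a w _ h₁ =>
      obtain ⟨c₁, h₁⟩ := h₁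
      refine ⟨algebraMap P.Ring S a • c₁, ?_⟩
      rw [map_smul, map_smul, h₁, algebraMap_smul]
  have hU : ∀ c : Fin m → S, G (P.cotangentComplex (F c)) = c ᵥ* N := by
    intro c
    simp only [F, Fintype.linearCombination_apply, map_sum, map_smul, hGcc]
    ext j
    simp [Matrix.vecMul, dotProduct]
  let V : (Fin m → S) →ₗ[S] (Fin m → S) := Matrix.vecMulLinear N⁻¹
  refine ⟨F ∘ₗ V ∘ₗ G, ?_⟩
  ext y
  obtain ⟨c, rfl⟩ := hFsurj y
  simp only [LinearMap.coe_comp, Function.comp_apply, LinearMap.id_coe, id_eq, hU, V,
    Matrix.vecMulLinear_apply, Matrix.vecMul_vecMul]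
  rw [Matrix.mul_nonsing_inv N hdet, Matrix.vecMul_one]

end suff

section nec

open IsLocalRing

variable {R : Type v} {B S : Type u} [CommRing R] [CommRing B] [CommRing S] [Algebra R B] [Algebra R S]
  [IsLocalRing S]

/-- Necessity in the Jacobian criterion. -/
theorem exists_det_of_formallySmooth (P : Algebra.Extension.{u} R S)
    [Algebra.FormallySmooth R P.Ring] [IsLocalRing P.Ring]
    [Algebra B P.Ring] [IsScalarTower R B P.Ring] [Module.Projective B Ω[B⁄R]]
    (J : Ideal B) (hJ : P.ker = J.map (algebraMap B P.Ring)) (hfg : P.ker.FG)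
    (h : Algebra.FormallySmooth R S) :
    ∃ (m : ℕ) (f : Fin m → B) (φ : Fin m → (Ω[B⁄R] →ₗ[B] B)), (∀ i, f i ∈ J) ∧
      P.ker = Ideal.span (Set.range fun i => algebraMap B P.Ring (f i)) ∧
      residue S (algebraMap P.Ring S (algebraMap B P.Ring
        (Matrix.det (Matrix.of fun i j => φ j (D R B (f i)))))) ≠ 0 := by
  classical
  obtain ⟨l, hl⟩ := (P.formallySmooth_iff_split_injection).mp h
  -- notation
  let κ := ResidueField S
  let res : B →+* κ := (residue S).comp ((algebraMap P.Ring S).comp (algebraMap B P.Ring))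
  let ccκ : κ ⊗[S] P.Cotangent →ₗ[κ] κ ⊗[S] P.CotangentSpace := P.cotangentComplex.baseChange κ
  have hccκ : Function.Injective ccκ := by
    have : (l.baseChange κ) ∘ₗ ccκ = LinearMap.id := by
      rw [← LinearMap.baseChange_comp, hl, LinearMap.baseChange_id]
    exact Function.LeftInverse.injective (g := l.baseChange κ) (fun y => LinearMap.congr_fun this y)
  haveI : Module.Finite P.Ring P.Cotangent :=
    have : Module.Finite P.Ring P.ker := .of_fg hfg
    .of_surjective _ Algebra.Extension.Cotangent.mk_surjective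
  haveI : Module.Finite S P.Cotangent := Module.Finite.of_restrictScalars_finite P.Ring _ _
  -- the generators coming from `J`
  have hgmem : ∀ j : J, algebraMap B P.Ring j ∈ P.ker := fun j => by
    rw [hJ]; exact Ideal.mem_map_of_mem _ j.2
  let g : J → P.ker := fun j => ⟨algebraMap B P.Ring j, hgmem j⟩
  let t : J → κ ⊗[S] P.Cotangent := fun j => (1 : κ) ⊗ₜ[S] Algebra.Extension.Cotangent.mk (g j)
  -- span of `g`
  have hspang : Submodule.span P.Ring (Set.range g) = ⊤ := by
    rw [eq_top_iff]
    rintro ⟨z, hz⟩ -
    have hz' : z ∈ Ideal.span ((algebraMap B P.Ring) '' (J : Set B)) := by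
      rw [← Ideal.map, ← hJ]; exact hz
    have key : ∀ (y : P.Ring) (hy : y ∈ Ideal.span ((algebraMap B P.Ring) '' (J : Set B)))
        (hy' : y ∈ P.ker), (⟨y, hy'⟩ : P.ker) ∈ Submodule.span P.Ring (Set.range g) := by
      intro y hy
      induction hy using Submodule.span_induction with
      | mem w hw =>
        intro hy'
        obtain ⟨j, hj, rfl⟩ := hw
        exact Submodule.subset_span ⟨⟨j, hj⟩, rfl⟩
      | zero => intro _; exact Submodule.zero_mem _
      | add w₁ w₂ hw₁ hw₂ h₁ h₂ =>
        intro _
        have hw₁' : w₁ ∈ P.ker := by rw [hJ]; exact hw₁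
        have hw₂' : w₂ ∈ P.ker := by rw [hJ]; exact hw₂
        exact Submodule.add_mem _ (h₁ hw₁') (h₂ hw₂')
      | smul a w hw h₁ =>
        intro _
        have hw' : w ∈ P.ker := by rw [hJ]; exact hw
        exact Submodule.smul_mem _ a (h₁ hw')
    exact key z hz' hz
  have hspanmk : Submodule.span S (Set.range fun j => Algebra.Extension.Cotangent.mk (P := P) (g j))
      = ⊤ := by
    rw [eq_top_iff]
    rintro y -
    obtain ⟨z, rfl⟩ := Algebra.Extension.Cotangent.mk_surjective y
    have hz : z ∈ Submodule.span P.Ring (Set.range g) := by rw [hspang]; trivial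
    induction hz using Submodule.span_induction with
    | mem w hw =>
      obtain ⟨j, rfl⟩ := hw
      exact Submodule.subset_span ⟨j, rfl⟩
    | zero => rw [map_zero]; exact Submodule.zero_mem _
    | add w₁ w₂ _ _ h₁ h₂ => rw [map_add]; exact Submodule.add_mem _ h₁ h₂
    | smul a w _ h₁ =>
      rw [map_smul, ← algebraMap_smul S a]
      exact Submodule.smul_mem _ _ h₁
  have hone : ∀ y : P.Cotangent, (1 : κ) ⊗ₜ[S] y ∈ Submodule.span κ (Set.range t) := by
    intro y
    have hy : y ∈ Submodule.span S (Set.range fun j =>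
        Algebra.Extension.Cotangent.mk (P := P) (g j)) := by rw [hspanmk]; trivial
    induction hy using Submodule.span_induction with
    | mem w hw =>
      obtain ⟨j, rfl⟩ := hw
      exact Submodule.subset_span ⟨j, rfl⟩
    | zero => rw [TensorProduct.tmul_zero]; exact Submodule.zero_mem _
    | add w₁ w₂ _ _ h₁ h₂ => rw [TensorProduct.tmul_add]; exact Submodule.add_mem _ h₁ h₂
    | smul a w _ h₁ =>
      rw [TensorProduct.tmul_smul, ← algebraMap_smul κ a]
      exact Submodule.smul_mem _ _ h₁
  have hspant : Submodule.span κ (Set.range t) = ⊤ := by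
    rw [eq_top_iff]
    rintro w -
    induction w using TensorProduct.induction_on with
    | zero => exact Submodule.zero_mem _
    | add w₁ w₂ h₁ h₂ => exact Submodule.add_mem _ h₁ h₂
    | tmul c y =>
      have h1 : c ⊗ₜ[S] y = c • ((1 : κ) ⊗ₜ[S] y) := by
        rw [TensorProduct.smul_tmul', smul_eq_mul, mul_one]
      rw [h1]
      exact Submodule.smul_mem _ _ (hone y)
  -- extract a basis
  obtain ⟨b, hb, hbspan, hbli⟩ := exists_linearIndependent κ (Set.range t)
  let bas : Module.Basis b κ (κ ⊗[S] P.Cotangent) := Module.Basis.mk hbli (by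
    rw [Subtype.range_coe_subtype, Set.ofPred_mem_eq, hbspan, hspant])
  have : Finite b := Module.Finite.finite_basis bas
  have : Fintype b := Fintype.ofFinite b
  let m := Fintype.card b
  let e : b ≃ Fin m := Fintype.equivFin b
  have hex : ∀ i : Fin m, ∃ j : J, t j = (e.symm i).1 := fun i => hb (e.symm i).2
  choose jj hjj using hex
  let bas' : Module.Basis (Fin m) κ (κ ⊗[S] P.Cotangent) := bas.reindex e
  have hbas' : ∀ i, (1 : κ) ⊗ₜ[S] Algebra.Extension.Cotangent.mk (g (jj i)) = bas' i := by
    intro i
    simp only [bas', Module.Basis.reindex_apply, bas, Module.Basis.mk_apply]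
    exact hjj i
  refine ⟨m, fun i => (jj i : B), ?_⟩
  have hmJ : ∀ i, ((jj i : J) : B) ∈ J := fun i => (jj i).2
  -- Nakayama 1
  have hnak1 : Submodule.span S (Set.range fun i =>
      Algebra.Extension.Cotangent.mk (P := P) (g (jj i))) = ⊤ :=
    IsLocalRing.span_eq_top_of_tmul_eq_basis _ bas' hbas'
  -- Nakayama 2
  have hker_ne : P.ker ≠ ⊤ := by
    intro htop
    have h1 : (1 : P.Ring) ∈ P.ker := by rw [htop]; trivial
    have h2 : algebraMap P.Ring S 1 = 0 := h1
    rw [map_one] at h2
    exact one_ne_zero h2
  have hN_le : Ideal.span (Set.range fun i => algebraMap B P.Ring (jj i : B)) ≤ P.ker := by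
    rw [Ideal.span_le]
    rintro _ ⟨i, rfl⟩
    exact hgmem (jj i)
  have hker_eq : P.ker = Ideal.span (Set.range fun i => algebraMap B P.Ring (jj i : B)) := by
    refine le_antisymm ?_ hN_le
    refine Submodule.le_of_le_smul_of_le_jacobson_bot (I := P.ker) hfg ?_ ?_
    · rw [IsLocalRing.jacobson_eq_maximalIdeal ⊥ bot_ne_top]
      exact IsLocalRing.le_maximalIdeal hker_ne
    · intro z hz
      have hmem : Algebra.Extension.Cotangent.mk (P := P) ⟨z, hz⟩ ∈ Submodule.span S (Set.range fun i =>
          Algebra.Extension.Cotangent.mk (P := P) (g (jj i))) := by rw [hnak1]; trivial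
      obtain ⟨c, hc⟩ := (Submodule.mem_span_range_iff_exists_fun S).mp hmem
      have hsurj : ∀ s : S, ∃ a : P.Ring, algebraMap P.Ring S a = s := P.algebraMap_surjective
      choose a ha using hsurj
      have hzero : Algebra.Extension.Cotangent.mk (P := P)
          (⟨z, hz⟩ - ∑ i, a (c i) • g (jj i)) = 0 := by
        rw [map_sub, map_sum, ← hc, sub_eq_zero]
        refine Finset.sum_congr rfl fun i _ => ?_
        rw [map_smul, ← algebraMap_smul S (a (c i)), ha]
      rw [Algebra.Extension.Cotangent.mk_eq_zero_iff] at hzero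
      have hz_eq : z = (∑ i, a (c i) * algebraMap B P.Ring (jj i : B)) +
          ((⟨z, hz⟩ - ∑ i, a (c i) • g (jj i) : P.ker) : P.Ring) := by
        simp [g]
      rw [hz_eq]
      refine Submodule.add_mem_sup ?_ ?_
      · refine Submodule.sum_mem _ fun i _ => ?_
        exact Ideal.mul_mem_left _ _ (Ideal.subset_span ⟨i, rfl⟩)
      · rw [smul_eq_mul, ← pow_two]
        exact hzero
  -- linear independence of the differentials
  let w : Fin m → κ ⊗[S] P.CotangentSpace := fun i =>
    (1 : κ) ⊗ₜ[S] ((1 : S) ⊗ₜ[P.Ring] D R P.Ring (algebraMap B P.Ring (jj i : B)))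
  have hw : ∀ i, w i = ccκ (bas' i) := by
    intro i
    rw [← hbas' i]
    simp [ccκ, w, LinearMap.baseChange_tmul, Algebra.Extension.cotangentComplex_mk, g]
  have hwli : LinearIndependent κ w := by
    have h1 := bas'.linearIndependent.map' ccκ (LinearMap.ker_eq_bot.mpr hccκ)
    have h2 : w = ccκ ∘ bas' := funext hw
    rw [h2]; exact h1
  -- the semilinear map `Ω[B/R] → W`
  let Θ : Ω[B⁄R] →+ κ ⊗[S] P.CotangentSpace :=
    ((TensorProduct.mk S κ P.CotangentSpace 1).toAddMonoidHom).comp
      (((TensorProduct.mk P.Ring S Ω[P.Ring⁄R] 1).toAddMonoidHom).comp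
        (KaehlerDifferential.map R R B P.Ring).toAddMonoidHom)
  have hΘ : ∀ ω, Θ ω = (1 : κ) ⊗ₜ[S] ((1 : S) ⊗ₜ[P.Ring] (KaehlerDifferential.map R R B P.Ring ω)) :=
    fun _ => rfl
  have hΘsmul : ∀ (b : B) (x : Ω[B⁄R]), Θ (b • x) = res b • Θ x := by
    intro b x
    rw [hΘ, hΘ, map_smul, ← algebraMap_smul P.Ring b (KaehlerDifferential.map R R B P.Ring x),
      TensorProduct.tmul_smul, ← algebraMap_smul S (algebraMap B P.Ring b), TensorProduct.tmul_smul,
      ← algebraMap_smul κ (algebraMap P.Ring S (algebraMap B P.Ring b))]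
    rfl
  have hΘw : ∀ i, Θ (D R B (jj i : B)) = w i := by
    intro i
    rw [hΘ, KaehlerDifferential.map_D]
  obtain ⟨s, hs⟩ := Module.projective_def'.mp (inferInstance : Module.Projective B Ω[B⁄R])
  have hexp : ∀ ω : Ω[B⁄R], ω = ∑ α ∈ (s ω).support, (s ω α) • α := by
    intro ω
    have h1 := LinearMap.congr_fun hs ω
    simp only [LinearMap.coe_comp, Function.comp_apply, LinearMap.id_coe, id_eq,
      Finsupp.linearCombination_apply, Finsupp.sum] at h1
    exact h1.symm
  let M : Fin m → Ω[B⁄R] → κ := fun i α => res (s (D R B (jj i : B)) α)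
  have hrows : ∀ c : Fin m → κ, (∀ α, ∑ i, c i * M i α = 0) → c = 0 := by
    intro c hc
    have hsum : ∑ i, c i • w i = 0 := by
      let A₀ : Finset Ω[B⁄R] := Finset.univ.biUnion fun i => (s (D R B (jj i : B))).support
      have h1 : ∀ i, w i = ∑ α ∈ A₀, M i α • Θ α := by
        intro i
        rw [← hΘw i]
        conv_lhs => rw [hexp (D R B (jj i : B))]
        rw [map_sum]
        rw [Finset.sum_subset (s₂ := A₀) (Finset.subset_biUnion_of_mem
          (fun i => (s (D R B (jj i : B))).support) (Finset.mem_univ i))]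
        · exact Finset.sum_congr rfl fun α _ => hΘsmul _ _
        · intro α _ hα
          rw [Finsupp.notMem_support_iff.mp hα, zero_smul, map_zero]
      simp_rw [h1, Finset.smul_sum, smul_smul]
      rw [Finset.sum_comm]
      refine Finset.sum_eq_zero fun α _ => ?_
      rw [← Finset.sum_smul, hc α, zero_smul]
    exact funext fun i => (Fintype.linearIndependent_iff.mp hwli c hsum i)
  obtain ⟨α, hα⟩ := exists_minor M hrows
  let φ : Fin m → (Ω[B⁄R] →ₗ[B] B) := fun j => (Finsupp.lapply (α j)) ∘ₗ s
  refine ⟨φ, hmJ, hker_eq, ?_⟩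
  have hres : ∀ d : B, residue S (algebraMap P.Ring S (algebraMap B P.Ring d)) = res d :=
    fun _ => rfl
  rw [hres, RingHom.map_det]
  have hmat : res.mapMatrix (Matrix.of fun i j => φ j (D R B (jj i : B))) =
      Matrix.of fun i j => M i (α j) := by
    ext i j
    simp [φ, M]
  rw [hmat]
  exact hα

end nec

section inst

variable {B : Type u} [CommRing B] (J q : Ideal B) [q.IsPrime] (hJq : J ≤ q)
  [(q.map (Ideal.Quotient.mk J)).IsPrime]

include hJq in
theorem comap_map_mk : (q.map (Ideal.Quotient.mk J)).comap (Ideal.Quotient.mk J) = q := by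
  rw [Ideal.comap_map_of_surjective _ Ideal.Quotient.mk_surjective, ← RingHom.ker_eq_comap_bot,
    Ideal.mk_ker]
  exact sup_eq_left.mpr hJq

include hJq in
theorem map_primeCompl :
    Submonoid.map (Ideal.Quotient.mk J) q.primeCompl = (q.map (Ideal.Quotient.mk J)).primeCompl := by
  ext y
  constructor
  · rintro ⟨b, hb, rfl⟩
    intro hmem
    apply hb
    have : b ∈ (q.map (Ideal.Quotient.mk J)).comap (Ideal.Quotient.mk J) := hmem
    rwa [comap_map_mk J q hJq] at this
  · intro hy
    obtain ⟨b, rfl⟩ := Ideal.Quotient.mk_surjective y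
    refine ⟨b, ?_, rfl⟩
    intro hb
    exact hy (Ideal.mem_map_of_mem _ hb)

/-- the canonical map `B_q → (B/J)_p` -/
noncomputable def locQuot : Localization.AtPrime q →+* Localization.AtPrime (q.map (Ideal.Quotient.mk J)) :=
  Localization.localRingHom q _ (Ideal.Quotient.mk J) (comap_map_mk J q hJq).symm

theorem locQuot_algebraMap (b : B) :
    locQuot J q hJq (algebraMap B (Localization.AtPrime q) b) =
      algebraMap (B ⧸ J) (Localization.AtPrime (q.map (Ideal.Quotient.mk J))) (Ideal.Quotient.mk J b) :=
  Localization.localRingHom_to_map _ _ _ _ _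

theorem locQuot_surjective : Function.Surjective (locQuot J q hJq) := by
  intro y
  obtain ⟨c, s, rfl⟩ := IsLocalization.exists_mk'_eq (q.map (Ideal.Quotient.mk J)).primeCompl y
  obtain ⟨b, rfl⟩ := Ideal.Quotient.mk_surjective c
  obtain ⟨s, hs⟩ := s
  obtain ⟨t, rfl⟩ := Ideal.Quotient.mk_surjective s
  have ht : t ∈ q.primeCompl := by
    intro ht
    exact hs (Ideal.mem_map_of_mem _ ht)
  refine ⟨IsLocalization.mk' _ b ⟨t, ht⟩, ?_⟩
  rw [locQuot, Localization.localRingHom_mk']

theorem ker_locQuot :
    RingHom.ker (locQuot J q hJq) = J.map (algebraMap B (Localization.AtPrime q)) := by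
  have h := IsLocalization.ker_map (M := q.primeCompl) (S := Localization.AtPrime q)
    (Localization.AtPrime (q.map (Ideal.Quotient.mk J))) (Ideal.Quotient.mk J)
    (map_primeCompl J q hJq)
  rw [Ideal.mk_ker] at h
  exact h


include hJq in
open IsLocalRing in
/-- **Jacobian criterion** (EGA 0_IV 22.7.3 in abstract form): `B` formally smooth over `R`,
`J ≤ q` with `J` finitely generated; then `(B/J)_q` is formally smooth over `R` iff there are
`f_i ∈ J` generating `J B_q` and `R`-derivations `D_j` of `B` with `det (D_j f_i) ∉ q`. -/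
theorem jacobian_criterion {R : Type v} [CommRing R] [Algebra R B] [Algebra.FormallySmooth R B]
    (hJfg : J.FG) :
    Algebra.FormallySmooth R (Localization.AtPrime (q.map (Ideal.Quotient.mk J))) ↔
      ∃ (m : ℕ) (f : Fin m → B) (D : Fin m → Derivation R B B),
        (∀ i, f i ∈ J) ∧
        J.map (algebraMap B (Localization.AtPrime q)) =
          Ideal.span (Set.range fun i => algebraMap B (Localization.AtPrime q) (f i)) ∧
        Matrix.det (Matrix.of fun i j => D j (f i)) ∉ q := by
  classical
  letI alg : Algebra (Localization.AtPrime q) (Localization.AtPrime (q.map (Ideal.Quotient.mk J))) :=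
    (locQuot J q hJq).toAlgebra
  have halg : ∀ z, algebraMap (Localization.AtPrime q)
      (Localization.AtPrime (q.map (Ideal.Quotient.mk J))) z = locQuot J q hJq z := fun _ => rfl
  have hBC : ∀ b : B, algebraMap (Localization.AtPrime q)
      (Localization.AtPrime (q.map (Ideal.Quotient.mk J))) (algebraMap B (Localization.AtPrime q) b) =
      algebraMap B (Localization.AtPrime (q.map (Ideal.Quotient.mk J))) b := by
    intro b
    rw [halg, locQuot_algebraMap,
      IsScalarTower.algebraMap_apply B (B ⧸ J) (Localization.AtPrime (q.map (Ideal.Quotient.mk J)))]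
    rfl
  haveI tower1 : IsScalarTower B (Localization.AtPrime q)
      (Localization.AtPrime (q.map (Ideal.Quotient.mk J))) :=
    IsScalarTower.of_algebraMap_eq fun b => (hBC b).symm
  haveI tower2 : IsScalarTower R (Localization.AtPrime q)
      (Localization.AtPrime (q.map (Ideal.Quotient.mk J))) :=
    IsScalarTower.of_algebraMap_eq fun r => by
      rw [IsScalarTower.algebraMap_apply R B (Localization.AtPrime (q.map (Ideal.Quotient.mk J))),
        IsScalarTower.algebraMap_apply R B (Localization.AtPrime q), hBC]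
  have hsurj : Function.Surjective (algebraMap (Localization.AtPrime q)
      (Localization.AtPrime (q.map (Ideal.Quotient.mk J)))) := locQuot_surjective J q hJq
  haveI : Algebra.FormallySmooth B (Localization.AtPrime q) :=
    Algebra.FormallySmooth.of_isLocalization q.primeCompl
  haveI : Algebra.FormallyEtale B (Localization.AtPrime q) :=
    Algebra.FormallyEtale.of_isLocalization q.primeCompl
  haveI hfsq : Algebra.FormallySmooth R (Localization.AtPrime q) :=
    Algebra.FormallySmooth.comp R B (Localization.AtPrime q)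
  let P : Algebra.Extension R (Localization.AtPrime (q.map (Ideal.Quotient.mk J))) :=
    { Ring := Localization.AtPrime q
      σ := Function.surjInv hsurj
      algebraMap_σ := Function.surjInv_eq hsurj }
  have hPker : P.ker = J.map (algebraMap B (Localization.AtPrime q)) := ker_locQuot J q hJq
  have hunit : ∀ d : B, d ∉ q →
      IsUnit (algebraMap B (Localization.AtPrime (q.map (Ideal.Quotient.mk J))) d) := by
    intro d hd
    rw [IsScalarTower.algebraMap_apply B (B ⧸ J) (Localization.AtPrime (q.map (Ideal.Quotient.mk J)))]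
    refine IsLocalization.map_units (M := (q.map (Ideal.Quotient.mk J)).primeCompl) _
      ⟨algebraMap B (B ⧸ J) d, ?_⟩
    intro hmem
    apply hd
    have : d ∈ (q.map (Ideal.Quotient.mk J)).comap (Ideal.Quotient.mk J) := hmem
    rwa [comap_map_mk J q hJq] at this
  constructor
  · intro h
    have hfg : P.ker.FG := by rw [hPker]; exact hJfg.map _
    obtain ⟨m, f, φ, hf, hker, hres⟩ :=
      exists_det_of_formallySmooth (B := B) P J hPker hfg h
    refine ⟨m, f, fun j => (φ j).compDer (KaehlerDifferential.D R B), hf, ?_, ?_⟩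
    · rw [← hPker]; exact hker
    · intro hmem
      apply hres
      rw [residue_eq_zero_iff]
      have h1 : algebraMap P.Ring (Localization.AtPrime (q.map (Ideal.Quotient.mk J)))
          (algebraMap B P.Ring (Matrix.det (Matrix.of fun i j => φ j (D R B (f i))))) =
          algebraMap (B ⧸ J) (Localization.AtPrime (q.map (Ideal.Quotient.mk J)))
            (Ideal.Quotient.mk J (Matrix.det (Matrix.of fun i j => φ j (D R B (f i))))) :=
        locQuot_algebraMap J q hJq _
      rw [h1, IsLocalization.AtPrime.to_map_mem_maximal_iff _ (q.map (Ideal.Quotient.mk J))]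
      exact Ideal.mem_map_of_mem _ hmem
  · rintro ⟨m, f, Dr, hf, hspan, hdet⟩
    have hxmem : ∀ i, algebraMap B (Localization.AtPrime q) (f i) ∈ P.ker := fun i => by
      rw [hPker]; exact Ideal.mem_map_of_mem _ (hf i)
    let x : Fin m → P.ker := fun i => ⟨algebraMap B (Localization.AtPrime q) (f i), hxmem i⟩
    have hx : Submodule.span P.Ring (Set.range x) = ⊤ := by
      apply Submodule.map_injective_of_injective (f := P.ker.subtype) Subtype.val_injective
      rw [Submodule.map_span, Submodule.map_subtype_top, ← Set.range_comp]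
      show Ideal.span (Set.range (Subtype.val ∘ x)) = P.ker
      have h1 : (Subtype.val ∘ x) = fun i => algebraMap B (Localization.AtPrime q) (f i) := rfl
      rw [h1, ← hspan, hPker]
    let ψ : Fin m → (Ω[P.Ring⁄R] →ₗ[P.Ring] Localization.AtPrime (q.map (Ideal.Quotient.mk J))) :=
      fun j => (KaehlerDifferential.isBaseChange_of_formallyEtale R B (Localization.AtPrime q)).lift
        ((Algebra.linearMap B (Localization.AtPrime (q.map (Ideal.Quotient.mk J)))) ∘ₗ
          (Dr j).liftKaehlerDifferential)
    have hψ : ∀ j (b : B), ψ j (D R P.Ring (algebraMap B (Localization.AtPrime q) b)) =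
        algebraMap B (Localization.AtPrime (q.map (Ideal.Quotient.mk J))) (Dr j b) := by
      intro j b
      have h1 : D R P.Ring (algebraMap B (Localization.AtPrime q) b) =
          KaehlerDifferential.map R R B (Localization.AtPrime q) (D R B b) :=
        (KaehlerDifferential.map_D R R B (Localization.AtPrime q) b).symm
      rw [h1]
      simp only [ψ]
      rw [IsBaseChange.lift_eq]
      simp
    refine formallySmooth_of_det P x hx ψ ?_
    have hmat : (Matrix.of fun i j => ψ j (D R P.Ring (x i).1)) =
        (algebraMap B (Localization.AtPrime (q.map (Ideal.Quotient.mk J)))).mapMatrix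
          (Matrix.of fun i j => Dr j (f i)) := by
      ext i j
      simp only [Matrix.of_apply, RingHom.mapMatrix_apply, Matrix.map_apply]
      exact hψ j (f i)
    rw [hmat, ← RingHom.map_det]
    exact hunit _ hdet

end inst

end Groth.Agent.Lib.Helper7.JacCrit
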