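import Mathlib
import Groth.Agent.S2623
import Groth.Agent.Lib.Helper28RegLoc
import Groth.Agent.Lib.Helper5RLR

set_option autoImplicit false
universe u

namespace Groth.Agent.Lib.Helper7.RegOpen

open IsLocalRing PrimeSpectrum

/-- the regular locus, as a plain set -/
def reg (A : Type u) [CommRing A] : Set (PrimeSpectrum A) :=
  {p | IsRegularLocalRing (Localization.AtPrime p.asIdeal)}

/-- Serre: regularity is stable under generization. -/
theorem isRegularLocalRing_of_le {A : Type u} [CommRing A] {p q : Ideal A} [p.IsPrime] [q.IsPrime]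
    (hqp : q ≤ p) [IsRegularLocalRing (Localization.AtPrime p)] :
    IsRegularLocalRing (Localization.AtPrime q) := by
  obtain ⟨hprime, hcomap⟩ := Groth.Agent.S2623.isPrime_map_and_comap_map_of_le p hqp
  haveI := hprime
  have h1 := Groth.Agent.Lib.Helper28.isRegularLocalRing_localization_of_isRegularLocalRing
    (Localization.AtPrime p) (q.map (algebraMap A (Localization.AtPrime p)))
  rw [Groth.Agent.S2623.isRegularLocalRing_localization_localization] at h1
  exact (Groth.Agent.S2623.isRegularLocalRing_congr_ideal hcomap).mp h1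

theorem stableUnderGeneralization_reg (A : Type u) [CommRing A] :
    StableUnderGeneralization (reg A) := by
  intro x y hyx hx
  -- `y ⤳ x`, `x ∈ reg`
  have hle : y.asIdeal ≤ x.asIdeal := (PrimeSpectrum.le_iff_specializes y x).mpr hyx
  haveI : IsRegularLocalRing (Localization.AtPrime x.asIdeal) := hx
  exact isRegularLocalRing_of_le hle

/-- Nagata's topological criterion on the spectrum of a Noetherian ring. -/
theorem isOpen_of_nagata {A : Type u} [CommRing A] [IsNoetherianRing A]
    (E : Set (PrimeSpectrum A)) (hgen : StableUnderGeneralization E)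
    (h : ∀ p ∈ E, ∃ U : Set (PrimeSpectrum A), IsOpen U ∧
      (U ∩ zeroLocus (p.asIdeal : Set A)).Nonempty ∧ U ∩ zeroLocus (p.asIdeal : Set A) ⊆ E) :
    IsOpen E := by
  have key : ∀ I : Ideal A, IsClosed (zeroLocus (I : Set A) \ E) := by
    intro I
    induction I using IsNoetherian.induction with
    | hgt I ih =>
      by_cases htop : I = ⊤
      · subst htop
        simp
      by_cases hprime : Ideal.IsPrime I
      · let η : PrimeSpectrum A := ⟨I, hprime⟩
        by_cases hη : η ∈ E
        · obtain ⟨U, hUo, hUne, hUE⟩ := h η hη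
          obtain ⟨K, hK⟩ := (PrimeSpectrum.isClosed_iff_zeroLocus_ideal _).mp hUo.isClosed_compl
          have hηU : η ∈ U := by
            obtain ⟨y, hyU, hyV⟩ := hUne
            have hsp : η ⤳ y := (PrimeSpectrum.le_iff_specializes η y).mp hyV
            exact hsp.mem_open hUo hyU
          have hlt : I < I ⊔ K := by
            refine lt_of_le_of_ne le_sup_left ?_
            intro heq
            have hKI : K ≤ I := by rw [heq]; exact le_sup_right
            have : η ∈ Uᶜ := by rw [hK]; exact hKI
            exact this hηU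
          have heq : zeroLocus (I : Set A) \ E = zeroLocus ((I ⊔ K : Ideal A) : Set A) \ E := by
            ext y
            simp only [Set.mem_sdiff, PrimeSpectrum.mem_zeroLocus, SetLike.coe_subset_coe]
            constructor
            · rintro ⟨hy, hyE⟩
              refine ⟨sup_le hy ?_, hyE⟩
              have hyU : y ∈ Uᶜ := fun hyU => hyE (hUE ⟨hyU, hy⟩)
              rw [hK] at hyU
              exact hyU
            · rintro ⟨hy, hyE⟩
              exact ⟨le_sup_left.trans hy, hyE⟩
          rw [heq]
          exact ih _ hlt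
        · have heq : zeroLocus (I : Set A) \ E = zeroLocus (I : Set A) := by
            ext y
            simp only [Set.mem_sdiff, and_iff_left_iff_imp]
            intro hy hyE
            have hsp : η ⤳ y := (PrimeSpectrum.le_iff_specializes η y).mp hy
            exact hη (hgen hsp hyE)
          rw [heq]
          exact PrimeSpectrum.isClosed_zeroLocus _
      · -- not prime: split
        rw [Ideal.isPrime_iff] at hprime
        push_neg at hprime
        obtain ⟨a, b, hab, ha, hb⟩ := hprime htop
        have hlt₁ : I < I ⊔ Ideal.span {a} := by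
          refine lt_of_le_of_ne le_sup_left fun heq => ha ?_
          rw [heq]
          exact Ideal.mem_sup_right (Ideal.subset_span rfl)
        have hlt₂ : I < I ⊔ Ideal.span {b} := by
          refine lt_of_le_of_ne le_sup_left fun heq => hb ?_
          rw [heq]
          exact Ideal.mem_sup_right (Ideal.subset_span rfl)
        have heq : zeroLocus (I : Set A) \ E =
            (zeroLocus ((I ⊔ Ideal.span {a} : Ideal A) : Set A) \ E) ∪
              (zeroLocus ((I ⊔ Ideal.span {b} : Ideal A) : Set A) \ E) := by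
          ext y
          simp only [Set.mem_sdiff, Set.mem_union, PrimeSpectrum.mem_zeroLocus,
            SetLike.coe_subset_coe]
          constructor
          · rintro ⟨hy, hyE⟩
            rcases y.2.mem_or_mem (hy hab) with h1 | h1
            · exact Or.inl ⟨sup_le hy ((Ideal.span_singleton_le_iff_mem _).mpr h1), hyE⟩
            · exact Or.inr ⟨sup_le hy ((Ideal.span_singleton_le_iff_mem _).mpr h1), hyE⟩
          · rintro (⟨hy, hyE⟩ | ⟨hy, hyE⟩)
            · exact ⟨le_sup_left.trans hy, hyE⟩
            · exact ⟨le_sup_left.trans hy, hyE⟩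
        rw [heq]
        exact (ih _ hlt₁).union (ih _ hlt₂)
  have h0 := key ⊥
  have : zeroLocus ((⊥ : Ideal A) : Set A) \ E = Eᶜ := by
    ext y
    simp
  rw [this] at h0
  exact isClosed_compl_iff.mp h0


/-- `ht I + dim R/I ≤ dim R` (copied from helper28's `Lib/Helper28Unmixed`). -/
theorem height_add_ringKrullDim_quotient_le {R : Type u} [CommRing R] (I : Ideal R) (hI : I ≠ ⊤) :
    ((I.height : ℕ∞) : WithBot ℕ∞) + ringKrullDim (R ⧸ I) ≤ ringKrullDim R := by
  rw [ringKrullDim_quotient]
  obtain ⟨m, hm, hIm⟩ := Ideal.exists_le_maximal I hI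
  have hne : Nonempty (PrimeSpectrum.zeroLocus (R := R) I) :=
    ⟨⟨⟨m, hm.isPrime⟩, (PrimeSpectrum.mem_zeroLocus _ _).mpr hIm⟩⟩
  have hne' : Nonempty (PrimeSpectrum R) := ⟨⟨m, hm.isPrime⟩⟩
  rw [Order.krullDim_eq_iSup_length, ← WithBot.coe_add, ENat.add_iSup, ringKrullDim,
    Order.krullDim_eq_iSup_height_add_coheight_of_nonempty, WithBot.coe_le_coe]
  refine iSup_le fun l => ?_
  let l' : LTSeries (PrimeSpectrum R) := l.map Subtype.val (fun a b hab => hab)
  have h1 : I.height ≤ Order.height l'.head := by
    rw [← PrimeSpectrum.height_eq_orderHeight]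
    have : I ≤ l'.head.asIdeal := by
      have := l.head.2
      rw [PrimeSpectrum.mem_zeroLocus] at this
      exact this
    have hp : l'.head.asIdeal.IsPrime := l'.head.2
    exact Ideal.height_mono this
  have h2 : (l.length : ℕ∞) ≤ Order.coheight l'.head := by
    have := Order.length_le_coheight_head (p := l')
    simpa [l'] using this
  exact le_trans (add_le_add h1 h2) (le_iSup (fun a => Order.height a + Order.coheight a) l'.head)

section loc

variable {A : Type u} [CommRing A] [IsNoetherianRing A]

/-- generators of `P A_P` coming from `P`, spread out to a basic open neighbourhood -/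
theorem exists_gens (P : Ideal A) [P.IsPrime] [IsRegularLocalRing (Localization.AtPrime P)] :
    ∃ (d : ℕ) (a : Fin d → A) (f : A), (∀ i, a i ∈ P) ∧ f ∉ P ∧ P.height = d ∧
      (∀ z ∈ P, f * z ∈ Ideal.span (Set.range a)) := by
  classical
  have hfg : (maximalIdeal (Localization.AtPrime P)).FG :=
    (isNoetherianRing_iff_ideal_fg _).mp inferInstance _
  obtain ⟨s, hscard, hsspan⟩ := Submodule.FG.exists_span_finset_card_eq_spanFinrank hfg
  set d := (maximalIdeal (Localization.AtPrime P)).spanFinrank with hd
  let e : Fin d ≃ s := (s.equivFinOfCardEq hscard).symm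
  have hmax : maximalIdeal (Localization.AtPrime P) =
      P.map (algebraMap A (Localization.AtPrime P)) :=
    (IsLocalization.AtPrime.map_eq_maximalIdeal P (Localization.AtPrime P)).symm
  have hy : ∀ i, ((e i : s) : Localization.AtPrime P) ∈
      P.map (algebraMap A (Localization.AtPrime P)) := by
    intro i
    rw [← hmax, ← hsspan]
    exact Submodule.subset_span (e i).2
  have hy' := fun i => (IsLocalization.mem_map_algebraMap_iff P.primeCompl
    (Localization.AtPrime P)).mp (hy i)
  choose x hx using hy'
  let a : Fin d → A := fun i => ((x i).1 : A)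
  have haP : ∀ i, a i ∈ P := fun i => (x i).1.2
  -- the span of the `a i` in the localization is the maximal ideal
  have hspan : Ideal.span (Set.range fun i => algebraMap A (Localization.AtPrime P) (a i)) =
      maximalIdeal (Localization.AtPrime P) := by
    apply le_antisymm
    · rw [Ideal.span_le]
      rintro _ ⟨i, rfl⟩
      rw [hmax]
      exact Ideal.mem_map_of_mem _ (haP i)
    · rw [← hsspan]
      refine Submodule.span_le.mpr ?_
      intro y hys
      obtain ⟨i, hi⟩ := e.surjective ⟨y, hys⟩
      have hyi : y = ((e i : s) : Localization.AtPrime P) := by rw [hi]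
      obtain ⟨u, hu⟩ : IsUnit (algebraMap A (Localization.AtPrime P) ((x i).2 : A)) :=
        IsLocalization.map_units _ (x i).2
      have h1 := hx i
      rw [← hu] at h1
      have h2 : y = algebraMap A (Localization.AtPrime P) (a i) * ↑u⁻¹ := by
        rw [hyi, Units.eq_mul_inv_iff_mul_eq]
        exact h1
      rw [h2]
      exact Ideal.mul_mem_right _ _ (Ideal.subset_span ⟨i, rfl⟩)
  -- for each `z ∈ P` a multiplier
  have hmult : ∀ z ∈ P, ∃ g : A, g ∉ P ∧ g * z ∈ Ideal.span (Set.range a) := by
    intro z hz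
    have h1 : algebraMap A (Localization.AtPrime P) z ∈
        (Ideal.span (Set.range a)).map (algebraMap A (Localization.AtPrime P)) := by
      rw [Ideal.map_span, ← Set.range_comp]
      show _ ∈ Ideal.span (Set.range fun i => algebraMap A (Localization.AtPrime P) (a i))
      rw [hspan, hmax]
      exact Ideal.mem_map_of_mem _ hz
    obtain ⟨⟨c, t⟩, hct⟩ := (IsLocalization.mem_map_algebraMap_iff P.primeCompl
      (Localization.AtPrime P)).mp h1
    rw [← map_mul] at hct
    obtain ⟨w, hw⟩ := (IsLocalization.eq_iff_exists P.primeCompl (Localization.AtPrime P)).mp hct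
    refine ⟨w * t, (w * t).2, ?_⟩
    have : (w : A) * (t : A) * z = (w : A) * (c : A) := by
      rw [mul_assoc, mul_comm (t : A) z]
      exact hw
    show (w : A) * (t : A) * z ∈ _
    rw [this]
    exact Ideal.mul_mem_left _ _ c.2
  choose! g hg using hmult
  obtain ⟨F, hF⟩ : ∃ F : Finset A, Ideal.span (F : Set A) = P :=
    (isNoetherianRing_iff_ideal_fg _).mp inferInstance P
  have hFP : ∀ z ∈ F, z ∈ P := fun z hz => by
    rw [← hF]; exact Ideal.subset_span hz
  refine ⟨d, a, ∏ z ∈ F, g z, haP, ?_, ?_, ?_⟩
  · intro hmem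
    obtain ⟨z, hz, hgz⟩ := (Ideal.IsPrime.prod_mem_iff).mp hmem
    exact (hg z (hFP z hz)).1 hgz
  · have h1 := IsLocalization.AtPrime.ringKrullDim_eq_height P (Localization.AtPrime P)
    have h2 : ((maximalIdeal (Localization.AtPrime P)).spanFinrank : WithBot ℕ∞) =
        ringKrullDim (Localization.AtPrime P) := IsRegularLocalRing.spanFinrank_maximalIdeal
    rw [h1] at h2
    have h3 : ((d : ℕ∞) : WithBot ℕ∞) = ((P.height : ℕ∞) : WithBot ℕ∞) := by exact_mod_cast h2
    exact (WithBot.coe_injective h3).symm
  · intro z hz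
    rw [← hF] at hz
    induction hz using Submodule.span_induction with
    | mem w hw =>
      obtain ⟨c, hc⟩ := Finset.dvd_prod_of_mem g hw
      rw [hc, mul_comm (g w) c, mul_assoc]
      exact Ideal.mul_mem_left _ _ (hg w (hFP w hw)).2
    | zero => rw [mul_zero]; exact Ideal.zero_mem _
    | add w₁ w₂ _ _ h₁ h₂ => rw [mul_add]; exact Ideal.add_mem _ h₁ h₂
    | smul r w _ h₁ =>
      rw [smul_eq_mul, mul_left_comm]
      exact Ideal.mul_mem_left _ _ h₁

end loc

section loc2

variable {A : Type u} [CommRing A] [IsNoetherianRing A]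

/-- the localization of `A/P` at `y` is `A_Q / P A_Q`, `Q` the preimage of `y`; regularity
transfers (converse direction of `Helper5.isRegularLocalRing_localization_quotient_of`). -/
theorem isRegularLocalRing_quotient_localization (I : Ideal A) (q : Ideal (A ⧸ I)) [q.IsPrime]
    [h : IsRegularLocalRing (Localization.AtPrime q)] :
    IsRegularLocalRing (Localization.AtPrime (q.comap (Ideal.Quotient.mk I)) ⧸
      I.map (algebraMap A (Localization.AtPrime (q.comap (Ideal.Quotient.mk I))))) := by
  have hM : Algebra.algebraMapSubmonoid (A ⧸ I) (q.comap (Ideal.Quotient.mk I)).primeCompl =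
      q.primeCompl := by
    ext y
    constructor
    · rintro ⟨x, hx, rfl⟩
      exact hx
    · intro hy
      obtain ⟨x, rfl⟩ := Ideal.Quotient.mk_surjective y
      exact ⟨x, hy, rfl⟩
  have hloc : IsLocalization (Algebra.algebraMapSubmonoid (A ⧸ I)
      (q.comap (Ideal.Quotient.mk I)).primeCompl)
      (Localization.AtPrime (q.comap (Ideal.Quotient.mk I)) ⧸
        I.map (algebraMap A (Localization.AtPrime (q.comap (Ideal.Quotient.mk I))))) :=
    inferInstance
  rw [hM] at hloc
  exact IsRegularLocalRing.of_ringEquiv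
    (IsLocalization.algEquiv q.primeCompl (Localization.AtPrime q)
      (Localization.AtPrime (q.comap (Ideal.Quotient.mk I)) ⧸
        I.map (algebraMap A (Localization.AtPrime (q.comap (Ideal.Quotient.mk I)))))).toRingEquiv

/-- the key local step of Nagata's criterion -/
theorem isRegularLocalRing_of_quotient {d : ℕ} (a : Fin d → A) (f : A) (P : Ideal A) [P.IsPrime]
    (ha : ∀ i, a i ∈ P) (hf : ∀ z ∈ P, f * z ∈ Ideal.span (Set.range a)) (hd : P.height = d)
    (y : Ideal (A ⧸ P)) [y.IsPrime] (hfy : f ∉ y.comap (Ideal.Quotient.mk P))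
    [IsRegularLocalRing (Localization.AtPrime y)] :
    IsRegularLocalRing (Localization.AtPrime (y.comap (Ideal.Quotient.mk P))) := by
  set Q := y.comap (Ideal.Quotient.mk P) with hQ
  have hPQ : P ≤ Q := by
    intro z hz
    rw [hQ, Ideal.mem_comap, Ideal.Quotient.eq_zero_iff_mem.mpr hz]
    exact Ideal.zero_mem _
  set J := P.map (algebraMap A (Localization.AtPrime Q)) with hJdef
  haveI hreg : IsRegularLocalRing (Localization.AtPrime Q ⧸ J) :=
    isRegularLocalRing_quotient_localization P y
  obtain ⟨hJprime, hJcomap⟩ := Groth.Agent.S2623.isPrime_map_and_comap_map_of_le Q hPQ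
  haveI := hJprime
  have hJheight : J.height = d := by
    rw [← hd]
    exact (Groth.Agent.S2623.height_comap_localization Q J).symm.trans
      (congrArg Ideal.height hJcomap)
  have hamem : ∀ i, algebraMap A (Localization.AtPrime Q) (a i) ∈
      maximalIdeal (Localization.AtPrime Q) := fun i =>
    (IsLocalization.AtPrime.to_map_mem_maximal_iff _ Q _).mpr (hPQ (ha i))
  let x : Fin d → maximalIdeal (Localization.AtPrime Q) := fun i =>
    ⟨algebraMap A (Localization.AtPrime Q) (a i), hamem i⟩
  have hJ : J = Ideal.span (Set.range fun i => (x i : Localization.AtPrime Q)) := by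
    apply le_antisymm
    · rw [hJdef, Ideal.map_le_iff_le_comap]
      intro z hz
      rw [Ideal.mem_comap]
      have h1 : algebraMap A (Localization.AtPrime Q) (f * z) ∈
          Ideal.span (Set.range fun i => (x i : Localization.AtPrime Q)) := by
        have h2 := Ideal.mem_map_of_mem (algebraMap A (Localization.AtPrime Q)) (hf z hz)
        rw [Ideal.map_span, ← Set.range_comp] at h2
        exact h2
      rw [map_mul] at h1
      have hu : IsUnit (algebraMap A (Localization.AtPrime Q) f) :=
        IsLocalization.map_units _ (⟨f, hfy⟩ : Q.primeCompl)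
      exact (Ideal.unit_mul_mem_iff_mem _ hu).mp h1
    · rw [Ideal.span_le]
      rintro _ ⟨i, rfl⟩
      exact Ideal.mem_map_of_mem _ (ha i)
  have hdim : ringKrullDim (Localization.AtPrime Q ⧸ J) + (d : ℕ) =
      ringKrullDim (Localization.AtPrime Q) := by
    apply le_antisymm
    · have h1 := height_add_ringKrullDim_quotient_le J hJprime.ne_top
      rw [hJheight, add_comm] at h1
      exact_mod_cast h1
    · have h2 := Groth.Agent.Lib.Helper5.ringKrullDim_le_quotient_span_range_add x
      rw [← hJ] at h2
      exact h2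
  exact (Groth.Agent.Lib.Helper5.isRegularLocalRing_of_quotient_span_range' x J hJ hdim).1

/-- **Nagata's criterion** for the openness of the regular locus. -/
theorem isOpen_reg_of_quotients
    (h : ∀ p : PrimeSpectrum A, p ∈ reg A →
      ∃ U : Set (PrimeSpectrum (A ⧸ p.asIdeal)), IsOpen U ∧ U.Nonempty ∧ U ⊆ reg (A ⧸ p.asIdeal)) :
    IsOpen (reg A) := by
  apply isOpen_of_nagata (reg A) (stableUnderGeneralization_reg A)
  intro p hp
  obtain ⟨U, hUo, hUne, hUreg⟩ := h p hp
  haveI : IsRegularLocalRing (Localization.AtPrime p.asIdeal) := hp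
  obtain ⟨d, a, f, ha, hfP, hd, hf⟩ := exists_gens p.asIdeal
  let ι := PrimeSpectrum.comap (Ideal.Quotient.mk p.asIdeal)
  have hι : Topology.IsClosedEmbedding ι :=
    PrimeSpectrum.isClosedEmbedding_comap_of_surjective _ _ Ideal.Quotient.mk_surjective
  let Z : Set (PrimeSpectrum A) := ι '' Uᶜ
  have hZ : IsClosed Z := hι.isClosedMap _ hUo.isClosed_compl
  let η : PrimeSpectrum (A ⧸ p.asIdeal) := ⟨⊥, Ideal.isPrime_bot⟩
  have hιη : ι η = p := by
    apply PrimeSpectrum.ext
    show Ideal.comap (Ideal.Quotient.mk p.asIdeal) ⊥ = p.asIdeal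
    rw [← RingHom.ker_eq_comap_bot, Ideal.mk_ker]
  have hηU : η ∈ U := by
    obtain ⟨y₀, hy₀⟩ := hUne
    have hsp : η ⤳ y₀ := (PrimeSpectrum.le_iff_specializes η y₀).mp bot_le
    exact hsp.mem_open hUo hy₀
  refine ⟨(PrimeSpectrum.basicOpen f : Set (PrimeSpectrum A)) ∩ Zᶜ,
    (PrimeSpectrum.basicOpen f).2.inter hZ.isOpen_compl, ⟨p, ⟨hfP, ?_⟩, ?_⟩, ?_⟩
  · rintro ⟨y, hyU, hy⟩
    rw [← hιη] at hy
    exact hyU (hι.injective hy ▸ hηU)
  · rw [PrimeSpectrum.mem_zeroLocus]
  · rintro q ⟨⟨hq1, hq2⟩, hq3⟩
    have hqrange : q ∈ Set.range ι := by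
      rw [_root_.range_comap_of_surjective _ _ Ideal.Quotient.mk_surjective, Ideal.mk_ker]
      exact hq3
    obtain ⟨y, rfl⟩ := hqrange
    have hyU : y ∈ U := by
      by_contra hyU
      exact hq2 ⟨y, hyU, rfl⟩
    haveI : IsRegularLocalRing (Localization.AtPrime y.asIdeal) := hUreg hyU
    exact isRegularLocalRing_of_quotient a f p.asIdeal ha hf hd y.asIdeal hq1

end loc2

section transport

variable {R S : Type u} [CommRing R] [CommRing S]

/-- the regular locus is transported by ring isomorphisms -/
theorem mem_reg_ringEquiv (e : R ≃+* S) (q : PrimeSpectrum S) :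
    q ∈ reg S ↔ PrimeSpectrum.comap (e : R →+* S) q ∈ reg R := by
  have hmap : (q.asIdeal.comap (e : R →+* S)).primeCompl.map (e : R →+* S) = q.asIdeal.primeCompl := by
    ext y
    constructor
    · rintro ⟨x, hx, rfl⟩
      exact hx
    · intro hy
      exact ⟨e.symm y, by simpa [Ideal.primeCompl] using hy, by simp⟩
  let E : Localization.AtPrime (q.asIdeal.comap (e : R →+* S)) ≃+* Localization.AtPrime q.asIdeal :=
    IsLocalization.ringEquivOfRingEquiv (M := (q.asIdeal.comap (e : R →+* S)).primeCompl)
      (T := q.asIdeal.primeCompl) _ _ e hmap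
  constructor
  · intro h
    haveI : IsRegularLocalRing (Localization.AtPrime q.asIdeal) := h
    exact IsRegularLocalRing.of_ringEquiv E.symm
  · intro h
    haveI : IsRegularLocalRing (Localization.AtPrime (q.asIdeal.comap (e : R →+* S))) := h
    exact IsRegularLocalRing.of_ringEquiv E

/-- the generic point of a domain is regular -/
theorem bot_mem_reg (D : Type u) [CommRing D] [IsDomain D] :
    (⟨⊥, Ideal.isPrime_bot⟩ : PrimeSpectrum D) ∈ reg D := by
  show IsRegularLocalRing (Localization.AtPrime (⊥ : Ideal D))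
  have hbot : maximalIdeal (Localization.AtPrime (⊥ : Ideal D)) = ⊥ := by
    rw [← IsLocalization.AtPrime.map_eq_maximalIdeal (⊥ : Ideal D), Ideal.map_bot]
  have hF : IsField (Localization.AtPrime (⊥ : Ideal D)) :=
    IsLocalRing.isField_iff_maximalIdeal_eq.mpr hbot
  haveI := hF.isDomain
  haveI := hF.isPrincipalIdealRing
  infer_instance

end transport

section nagata2

variable {A : Type u} [CommRing A] [IsNoetherianRing A]

/-- EGA IV 6.12.2: openness of the regular loci of all quotients. -/
theorem isOpen_reg_quotient_iff :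
    (∀ I : Ideal A, IsOpen (reg (A ⧸ I))) ↔
      ∀ (p : Ideal A) [p.IsPrime],
        ∃ U : Set (PrimeSpectrum (A ⧸ p)), IsOpen U ∧ U.Nonempty ∧ U ⊆ reg (A ⧸ p) := by
  constructor
  · intro h p _
    exact ⟨reg (A ⧸ p), h p, ⟨_, bot_mem_reg (A ⧸ p)⟩, le_rfl⟩
  · intro h I
    apply isOpen_reg_of_quotients
    intro pbar _
    let p : Ideal A := pbar.asIdeal.comap (Ideal.Quotient.mk I)
    have hIp : I ≤ p := by
      intro z hz
      show Ideal.Quotient.mk I z ∈ pbar.asIdeal
      rw [Ideal.Quotient.eq_zero_iff_mem.mpr hz]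
      exact Ideal.zero_mem _
    have hpbar : pbar.asIdeal = p.map (Ideal.Quotient.mk I) :=
      (Ideal.map_comap_of_surjective _ Ideal.Quotient.mk_surjective _).symm
    obtain ⟨U, hUo, hUne, hUreg⟩ := h p
    let e : ((A ⧸ I) ⧸ pbar.asIdeal) ≃+* (A ⧸ p) :=
      (Ideal.quotEquivOfEq hpbar).trans (DoubleQuot.quotQuotEquivQuotOfLE hIp)
    refine ⟨(PrimeSpectrum.comap (e.symm : (A ⧸ p) →+* ((A ⧸ I) ⧸ pbar.asIdeal))) ⁻¹' U,
      hUo.preimage (PrimeSpectrum.continuous_comap _), ?_, ?_⟩
    · obtain ⟨y, hy⟩ := hUne
      refine ⟨PrimeSpectrum.comap (e : ((A ⧸ I) ⧸ pbar.asIdeal) →+* (A ⧸ p)) y, ?_⟩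
      show PrimeSpectrum.comap _ (PrimeSpectrum.comap _ y) ∈ U
      rw [← PrimeSpectrum.comap_comp_apply]
      have : (e : ((A ⧸ I) ⧸ pbar.asIdeal) →+* (A ⧸ p)).comp
          (e.symm : (A ⧸ p) →+* ((A ⧸ I) ⧸ pbar.asIdeal)) = RingHom.id _ := by
        ext z; simp
      rw [this]
      exact hy
    · intro q hq
      exact (mem_reg_ringEquiv e.symm q).mpr (hUreg hq)

end nagata2

end Groth.Agent.Lib.Helper7.RegOpen
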