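import Mathlib
import Groth.Agent.Lib.Helper7JacCrit
import Groth.Agent.Lib.Helper7RegOpen
import Groth.Agent.Lib.Helper6FSReg
import Groth.Agent.Lib.Helper7CoefField
import Groth.Agent.Lib.Helper19FSField

set_option autoImplicit false
universe u

namespace Groth.Agent.Lib.Helper7.GenReg

open IsLocalRing PrimeSpectrum Groth.Agent.Lib.Helper7.RegOpen Groth.Agent.Lib.Helper7.JacCrit

/-- spreading out an inclusion of localized ideals -/
theorem exists_mul_mem_of_map_le {A : Type u} [CommRing A] (P : Ideal A) [P.IsPrime]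
    (I₀ J : Ideal A) (hJ : J.FG)
    (hle : J.map (algebraMap A (Localization.AtPrime P)) ≤
      I₀.map (algebraMap A (Localization.AtPrime P))) :
    ∃ g : A, g ∉ P ∧ ∀ z ∈ J, g * z ∈ I₀ := by
  classical
  have hmult : ∀ z ∈ J, ∃ g : A, g ∉ P ∧ g * z ∈ I₀ := by
    intro z hz
    have h1 : algebraMap A (Localization.AtPrime P) z ∈
        I₀.map (algebraMap A (Localization.AtPrime P)) := hle (Ideal.mem_map_of_mem _ hz)
    obtain ⟨⟨c, t⟩, hct⟩ := (IsLocalization.mem_map_algebraMap_iff P.primeCompl
      (Localization.AtPrime P)).mp h1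
    rw [← map_mul] at hct
    obtain ⟨w, hw⟩ := (IsLocalization.eq_iff_exists P.primeCompl (Localization.AtPrime P)).mp hct
    refine ⟨w * t, (w * t).2, ?_⟩
    have : (w : A) * (t : A) * z = (w : A) * (c : A) := by
      rw [mul_assoc, mul_comm (t : A) z]
      exact hw
    show (w : A) * (t : A) * z ∈ _
    rw [this]
    exact Ideal.mul_mem_left _ _ c.2
  choose! g hg using hmult
  obtain ⟨F, hF⟩ := hJ
  have hFJ : ∀ z ∈ F, z ∈ J := fun z hz => by
    rw [← hF]; exact Ideal.subset_span hz
  refine ⟨∏ z ∈ F, g z, ?_, ?_⟩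
  · intro hmem
    obtain ⟨z, hz, hgz⟩ := (Ideal.IsPrime.prod_mem_iff).mp hmem
    exact (hg z (hFJ z hz)).1 hgz
  · intro z hz
    rw [← hF] at hz
    induction hz using Submodule.span_induction with
    | mem w hw =>
      obtain ⟨c, hc⟩ := Finset.dvd_prod_of_mem g hw
      rw [hc, mul_comm (g w) c, mul_assoc]
      exact Ideal.mul_mem_left _ _ (hg w (hFJ w hw)).2
    | zero => rw [mul_zero]; exact Ideal.zero_mem _
    | add w₁ w₂ _ _ h₁ h₂ => rw [mul_add]; exact Ideal.add_mem _ h₁ h₂
    | smul r w _ h₁ =>
      rw [smul_eq_mul, mul_left_comm]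
      exact Ideal.mul_mem_left _ _ h₁

section generic

variable (F : Type u) [Field F] (k : Type u) [Field k] [Algebra F k]

/-- **Generic regularity** of a finitely generated domain `k[T]/J` over a field `k`, given a
"perfect" base field `F` (all field extensions formally smooth). -/
theorem exists_open_reg_mvPolynomial_quotient
    (hF : ∀ (L : Type u) [Field L] [Algebra F L], Algebra.FormallySmooth F L)
    (r : ℕ) (J : Ideal (MvPolynomial (Fin r) k)) [J.IsPrime] :
    ∃ U : Set (PrimeSpectrum (MvPolynomial (Fin r) k ⧸ J)), IsOpen U ∧ U.Nonempty ∧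
      U ⊆ reg (MvPolynomial (Fin r) k ⧸ J) := by
  classical
  haveI : Algebra.FormallySmooth F k := hF k
  haveI : Algebra.FormallySmooth F (MvPolynomial (Fin r) k) :=
    Algebra.FormallySmooth.comp F k (MvPolynomial (Fin r) k)
  have hfg : J.FG := IsNoetherian.noetherian J
  have hP₀ : J.map (Ideal.Quotient.mk J) = ⊥ := Ideal.map_quotient_self J
  haveI hprime₀ : (J.map (Ideal.Quotient.mk J)).IsPrime := by
    rw [hP₀]; exact Ideal.isPrime_bot
  -- the generic local ring is a field, hence formally smooth over `F`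
  have hfs : Algebra.FormallySmooth F (Localization.AtPrime (J.map (Ideal.Quotient.mk J))) := by
    have hbot : maximalIdeal (Localization.AtPrime (J.map (Ideal.Quotient.mk J))) = ⊥ := by
      rw [← IsLocalization.AtPrime.map_eq_maximalIdeal (J.map (Ideal.Quotient.mk J))]
      exact eq_bot_iff.mpr (Ideal.map_le_iff_le_comap.mpr (hP₀.le.trans bot_le))
    have hfield : IsField (Localization.AtPrime (J.map (Ideal.Quotient.mk J))) :=
      IsLocalRing.isField_iff_maximalIdeal_eq.mpr hbot
    have hfield' : @IsField (Localization.AtPrime (J.map (Ideal.Quotient.mk J))) Ring.toSemiring :=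
      hfield
    letI := hfield'.toField
    exact hF _
  obtain ⟨m, f, Dr, hf, hspan, hdet⟩ := (jacobian_criterion J J le_rfl hfg).mp hfs
  obtain ⟨g, hgJ, hg⟩ := exists_mul_mem_of_map_le J (Ideal.span (Set.range f)) J hfg (by
    rw [hspan, Ideal.map_span, ← Set.range_comp]
    exact le_of_eq rfl)
  set δ := Matrix.det (Matrix.of fun i j => Dr j (f i)) with hδ
  have hh : g * δ ∉ J := fun hmem => (‹J.IsPrime›.mem_or_mem hmem).elim hgJ hdet
  refine ⟨(PrimeSpectrum.basicOpen (Ideal.Quotient.mk J (g * δ)) : Set _),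
    (PrimeSpectrum.basicOpen _).2, ⟨⟨⊥, Ideal.isPrime_bot⟩, ?_⟩, ?_⟩
  · show Ideal.Quotient.mk J (g * δ) ∉ (⊥ : Ideal _)
    rw [Ideal.mem_bot, Ideal.Quotient.eq_zero_iff_mem]
    exact hh
  · intro y hy
    have hy' : Ideal.Quotient.mk J (g * δ) ∉ y.asIdeal := hy
    set q' := y.asIdeal.comap (Ideal.Quotient.mk J) with hq'
    have hJq' : J ≤ q' := by
      intro z hz
      rw [hq', Ideal.mem_comap, Ideal.Quotient.eq_zero_iff_mem.mpr hz]
      exact Ideal.zero_mem _
    have hmapq' : q'.map (Ideal.Quotient.mk J) = y.asIdeal :=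
      Ideal.map_comap_of_surjective _ Ideal.Quotient.mk_surjective _
    haveI : (q'.map (Ideal.Quotient.mk J)).IsPrime := by rw [hmapq']; exact y.2
    have hgq' : g ∉ q' := fun hmem => hy' (by
      rw [map_mul]; exact Ideal.mul_mem_right _ _ hmem)
    have hδq' : δ ∉ q' := fun hmem => hy' (by
      rw [map_mul]; exact Ideal.mul_mem_left _ _ hmem)
    have hspan' : J.map (algebraMap (MvPolynomial (Fin r) k) (Localization.AtPrime q')) =
        Ideal.span (Set.range fun i => algebraMap (MvPolynomial (Fin r) k)
          (Localization.AtPrime q') (f i)) := by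
      apply le_antisymm
      · rw [Ideal.map_le_iff_le_comap]
        intro z hz
        rw [Ideal.mem_comap]
        have h1 := Ideal.mem_map_of_mem (algebraMap (MvPolynomial (Fin r) k)
          (Localization.AtPrime q')) (hg z hz)
        rw [Ideal.map_span, ← Set.range_comp, map_mul] at h1
        have hu : IsUnit (algebraMap (MvPolynomial (Fin r) k) (Localization.AtPrime q') g) :=
          IsLocalization.map_units _ (⟨g, hgq'⟩ : q'.primeCompl)
        exact (Ideal.unit_mul_mem_iff_mem _ hu).mp h1
      · rw [Ideal.span_le]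
        rintro _ ⟨i, rfl⟩
        exact Ideal.mem_map_of_mem _ (hf i)
    haveI hfs' : Algebra.FormallySmooth F (Localization.AtPrime (q'.map (Ideal.Quotient.mk J))) :=
      (jacobian_criterion J q' hJq' hfg).mpr ⟨m, f, Dr, hf, hspan', hδq'⟩
    haveI : IsRegularRing (Localization.AtPrime (q'.map (Ideal.Quotient.mk J))) :=
      Groth.Agent.Lib.Helper6.FSReg.isRegularRing_of_formallySmooth F _
    have hreg : IsRegularLocalRing (Localization.AtPrime (q'.map (Ideal.Quotient.mk J))) :=
      IsRegularLocalRing.of_isRegularRing_of_isLocalRing _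
    exact (Groth.Agent.S2623.isRegularLocalRing_congr_ideal hmapq').mp hreg

end generic

/-- every field extension in characteristic zero is formally smooth -/
theorem formallySmooth_of_charZero (F : Type*) (K : Type*) [Field F] [CharZero F] [Field K]
    [Algebra F K] : Algebra.FormallySmooth F K := by
  obtain ⟨ι, x, hx⟩ := exists_isTranscendenceBasis' F K
  have halg := hx.isAlgebraic_field
  haveI : CharZero (IntermediateField.adjoin F (Set.range x)) :=
    charZero_of_injective_algebraMap (algebraMap F _).injective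
  have : Algebra.IsSeparable (IntermediateField.adjoin F (Set.range x)) K := inferInstance
  exact Algebra.FormallySmooth.of_algebraicIndependent_of_isSeparable hx.1

section main

variable (k S : Type u) [Field k] [CommRing S] [Algebra k S] [Algebra.FiniteType k S]

/-- generic regularity for finitely generated domains over a field, with `F` a perfect base -/
theorem exists_open_reg_quotient (F : Type u) [Field F] [Algebra F k]
    (hF : ∀ (L : Type u) [Field L] [Algebra F L], Algebra.FormallySmooth F L)
    (P : Ideal S) [P.IsPrime] :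
    ∃ U : Set (PrimeSpectrum (S ⧸ P)), IsOpen U ∧ U.Nonempty ∧ U ⊆ reg (S ⧸ P) := by
  haveI : Algebra.FiniteType k (S ⧸ P) :=
    Algebra.FiniteType.of_surjective (Ideal.Quotient.mkₐ k P) Ideal.Quotient.mk_surjective
  obtain ⟨r, φ, hφ⟩ := (Algebra.FiniteType.iff_quotient_mvPolynomial'' (R := k)
    (S := S ⧸ P)).mp inferInstance
  haveI : (RingHom.ker (φ : MvPolynomial (Fin r) k →+* S ⧸ P)).IsPrime := RingHom.ker_isPrime _
  let e : (MvPolynomial (Fin r) k ⧸ RingHom.ker (φ : MvPolynomial (Fin r) k →+* S ⧸ P)) ≃+*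
      (S ⧸ P) := RingHom.quotientKerEquivOfSurjective (f := (φ : MvPolynomial (Fin r) k →+* S ⧸ P)) hφ
  obtain ⟨U, hUo, hUne, hUreg⟩ := exists_open_reg_mvPolynomial_quotient F k hF r
    (RingHom.ker (φ : MvPolynomial (Fin r) k →+* S ⧸ P))
  refine ⟨(PrimeSpectrum.comap e.toRingHom) ⁻¹' U,
    hUo.preimage (PrimeSpectrum.continuous_comap _), ?_, ?_⟩
  · obtain ⟨y, hy⟩ := hUne
    refine ⟨PrimeSpectrum.comap e.symm.toRingHom y, ?_⟩
    show PrimeSpectrum.comap _ (PrimeSpectrum.comap _ y) ∈ U
    rw [← PrimeSpectrum.comap_comp_apply]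
    have : e.symm.toRingHom.comp e.toRingHom = RingHom.id _ :=
      RingHom.ext fun z => e.symm_apply_apply z
    rw [this]
    exact hy
  · intro q hq
    exact (mem_reg_ringEquiv e q).mpr (hUreg hq)

/-- **EGA IV 6.12.5 for fields**: the regular locus of a finite type algebra over a field is
open. -/
theorem isOpen_reg_of_finiteType (k S : Type u) [Field k] [CommRing S] [Algebra k S]
    [Algebra.FiniteType k S] : IsOpen (reg S) := by
  haveI : IsNoetherianRing S := Algebra.FiniteType.isNoetherianRing k S
  apply isOpen_reg_of_quotients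
  intro P _
  obtain ⟨p, hp⟩ := CharP.exists k
  rcases CharP.char_is_prime_or_zero k p with hpp | rfl
  · haveI : Fact p.Prime := ⟨hpp⟩
    letI : Algebra (ZMod p) k := ZMod.algebra k p
    letI : Algebra (ULift.{u} (ZMod p)) k := ULift.algebra' (ZMod p) k
    refine exists_open_reg_quotient k S (ULift.{u} (ZMod p)) ?_ P.asIdeal
    intro L _ _
    haveI : CharP L p :=
      charP_of_injective_algebraMap (algebraMap (ULift.{u} (ZMod p)) L).injective p
    exact Groth.Agent.Lib.Helper19.PBasis.formallySmooth_field_of_perfectRing p _ L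
  · haveI : CharZero k := CharP.charP_to_charZero k
    letI : Algebra (ULift.{u} ℚ) k := ULift.algebra' ℚ k
    refine exists_open_reg_quotient k S (ULift.{u} ℚ) ?_ P.asIdeal
    intro L _ _
    haveI : CharZero (ULift.{u} ℚ) :=
      charZero_of_injective_ringHom (f := (ULift.ringEquiv (R := ℚ)).symm.toRingHom)
        (ULift.ringEquiv (R := ℚ)).symm.injective
    exact formallySmooth_of_charZero _ L

end main

end Groth.Agent.Lib.Helper7.GenReg
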