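import Mathlib

set_option autoImplicit false
universe u

namespace Groth.Agent.Lib.Helper7.GeomRedCover

open TensorProduct

section artin

/-- In an Artinian ring, a maximal ideal is cut out, modulo the nilradical, by an element outside. -/
theorem exists_notMem_mul_mem_nilradical {R : Type*} [CommRing R] [IsArtinianRing R] (m : Ideal R)
    [hm : m.IsMaximal] : ∃ s : R, s ∉ m ∧ ∀ x ∈ m, s * x ∈ nilradical R := by
  classical
  have hfin : {I : Ideal R | I.IsPrime}.Finite := IsArtinianRing.setOfPred_isPrime_finite R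
  let P : Finset (Ideal R) := hfin.toFinset.erase m
  have hP : ∀ p ∈ P, ∃ x, x ∈ p ∧ x ∉ m := by
    intro p hp
    rw [Finset.mem_erase, Set.Finite.mem_toFinset] at hp
    obtain ⟨hne, hprime⟩ := hp
    haveI : p.IsPrime := hprime
    by_contra hcon
    push_neg at hcon
    exact hne ((IsArtinianRing.isMaximal_of_isPrime p).eq_of_le hm.ne_top hcon)
  choose! x hxp hxm using hP
  refine ⟨∏ p ∈ P, x p, ?_, ?_⟩
  · intro hmem
    obtain ⟨p, hp, hxpm⟩ := (Ideal.IsPrime.prod_mem_iff).mp hmem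
    exact hxm p hp hxpm
  · intro y hy
    rw [nilradical_eq_sInf, Ideal.mem_sInf]
    intro p hp
    by_cases hpm : p = m
    · subst hpm
      exact Ideal.mul_mem_left _ _ hy
    · have hpP : p ∈ P := by
        rw [Finset.mem_erase, Set.Finite.mem_toFinset]
        exact ⟨hpm, hp⟩
      obtain ⟨c, hc⟩ := Finset.dvd_prod_of_mem x hpP
      rw [hc, mul_assoc]
      exact Ideal.mul_mem_right _ _ (hxp p hpP)

end artin

variable (K L : Type u) [Field K] [Field L] [Algebra K L]
variable (Ω : Type u) [Field Ω] [Algebra K Ω]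

section abstract

variable (K₁ : Type u) [Field K₁] [Algebra K K₁] [Algebra K₁ Ω] [IsScalarTower K K₁ Ω]

/-- the comparison map `K₁ ⊗ L → Ω ⊗ L` -/
noncomputable def phi : K₁ ⊗[K] L →ₐ[K] Ω ⊗[K] L :=
  Algebra.TensorProduct.map (IsScalarTower.toAlgHom K K₁ Ω) (AlgHom.id K L)

lemma phi_tmul (c : K₁) (l : L) :
    phi K L Ω K₁ (c ⊗ₜ l) = (algebraMap K₁ Ω c) ⊗ₜ l := by
  simp [phi]

lemma phi_injective : Function.Injective (phi K L Ω K₁) :=
  Module.Flat.rTensor_preserves_injective_linearMap (M := L)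
    (IsScalarTower.toAlgHom K K₁ Ω).toLinearMap (algebraMap K₁ Ω).injective

end abstract

lemma range_phi_mono {K₁ K₂ : IntermediateField K Ω} (h : K₁ ≤ K₂) :
    (phi K L Ω K₁).range ≤ (phi K L Ω K₂).range := by
  rintro _ ⟨x, rfl⟩
  refine ⟨Algebra.TensorProduct.map (IntermediateField.inclusion h) (AlgHom.id K L) x, ?_⟩
  have : (phi K L Ω K₂).comp
      (Algebra.TensorProduct.map (IntermediateField.inclusion h) (AlgHom.id K L)) =
        phi K L Ω K₁ := by
    apply Algebra.TensorProduct.ext'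
    intro a b
    simp [phi]
  exact DFunLike.congr_fun this x

lemma exists_finite_mem_range [Algebra.IsAlgebraic K Ω] (x : Ω ⊗[K] L) :
    ∃ K₁ : IntermediateField K Ω, FiniteDimensional K K₁ ∧
      x ∈ (phi K L Ω K₁).range := by
  induction x using TensorProduct.induction_on with
  | zero => exact ⟨⊥, inferInstance, zero_mem _⟩
  | tmul c l =>
    refine ⟨IntermediateField.adjoin K {c},
      IntermediateField.adjoin.finiteDimensional (Algebra.IsIntegral.isIntegral c),
      ⟨(⟨c, IntermediateField.mem_adjoin_simple_self K c⟩ : IntermediateField.adjoin K {c}) ⊗ₜ l,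
        ?_⟩⟩
    exact phi_tmul K L Ω _ _ _
  | add x y hx hy =>
    obtain ⟨K₁, h1, hx⟩ := hx
    obtain ⟨K₂, h2, hy⟩ := hy
    exact ⟨K₁ ⊔ K₂, IntermediateField.finiteDimensional_sup K₁ K₂,
      add_mem (range_phi_mono K L Ω le_sup_left hx) (range_phi_mono K L Ω le_sup_right hy)⟩

lemma exists_finite_forall_mem_range [Algebra.IsAlgebraic K Ω] (G : Finset (Ω ⊗[K] L)) :
    ∃ K₁ : IntermediateField K Ω, FiniteDimensional K K₁ ∧
      ∀ g ∈ G, g ∈ (phi K L Ω K₁).range := by
  classical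
  induction G using Finset.induction_on with
  | empty => exact ⟨⊥, inferInstance, by simp⟩
  | insert a s ha ih =>
    obtain ⟨K₁, h1, hs⟩ := ih
    obtain ⟨K₂, h2, ha'⟩ := exists_finite_mem_range K L Ω a
    refine ⟨K₁ ⊔ K₂, IntermediateField.finiteDimensional_sup K₁ K₂, ?_⟩
    intro g hg
    rcases Finset.mem_insert.mp hg with rfl | hg
    · exact range_phi_mono K L Ω le_sup_right ha'
    · exact range_phi_mono K L Ω le_sup_left (hs g hg)

section abstract

variable (K₁ : Type u) [Field K₁] [Algebra K K₁] [Algebra K₁ Ω] [IsScalarTower K K₁ Ω]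

theorem isReduced_of_range [Module.Finite K K₁] (G : Finset (Ω ⊗[K] L))
    (hG : Ideal.span (G : Set (Ω ⊗[K] L)) = nilradical (Ω ⊗[K] L))
    (hK₁ : ∀ g ∈ G, g ∈ (phi K L Ω K₁).range) (m : Ideal (K₁ ⊗[K] L)) [hm : m.IsMaximal] :
    IsReduced (Ω ⊗[K₁] ((K₁ ⊗[K] L) ⧸ m)) := by
  haveI : IsArtinianRing (L ⊗[K] K₁) := IsArtinianRing.of_finite L _
  haveI : IsArtinianRing (K₁ ⊗[K] L) :=
    (Algebra.TensorProduct.comm K K₁ L).toRingEquiv.symm.isArtinianRing
  obtain ⟨s, hsm, hs⟩ := exists_notMem_mul_mem_nilradical m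
  let θ : Ω ⊗[K₁] (K₁ ⊗[K] L) ≃ₐ[Ω] Ω ⊗[K] L :=
    Algebra.TensorProduct.cancelBaseChange K K₁ Ω Ω L
  let ι : (K₁ ⊗[K] L) →ₐ[K₁] Ω ⊗[K₁] (K₁ ⊗[K] L) :=
    Algebra.TensorProduct.includeRight
  have hθι : ∀ x, θ (ι x) = phi K L Ω K₁ x := by
    intro x
    induction x using TensorProduct.induction_on with
    | zero => simp
    | tmul c l =>
      rw [phi_tmul]
      show θ ((1 : Ω) ⊗ₜ[K₁] (c ⊗ₜ[K] l)) = _
      rw [Algebra.TensorProduct.cancelBaseChange_tmul]
      congr 1
      rw [Algebra.smul_def, mul_one]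
    | add x y hx hy => rw [map_add, map_add, map_add, hx, hy]
  -- the nilradical of `Ω ⊗[K₁] R₁` is generated by the nilradical of `R₁`
  have hnil : nilradical (Ω ⊗[K₁] (K₁ ⊗[K] L)) ≤
      (nilradical (K₁ ⊗[K] L)).map ι := by
    intro z hz
    have hz' : θ z ∈ nilradical (Ω ⊗[K] L) :=
      mem_nilradical.mpr ((mem_nilradical.mp hz).map θ)
    have hle : nilradical (Ω ⊗[K] L) ≤
        ((nilradical (K₁ ⊗[K] L)).map ι).map θ := by
      rw [← hG, Ideal.span_le]
      intro g hg
      obtain ⟨g', hg'⟩ := hK₁ g hg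
      have hgnil : IsNilpotent g := by
        have : g ∈ nilradical (Ω ⊗[K] L) := by
          rw [← hG]; exact Ideal.subset_span hg
        exact mem_nilradical.mp this
      have hg'nil : IsNilpotent g' := by
        obtain ⟨n, hn⟩ := hgnil
        refine ⟨n, phi_injective K L Ω K₁ ?_⟩
        rw [map_pow, map_zero]
        rw [← hn]
        exact congrArg (· ^ n) hg'
      have : g = θ (ι g') := by
        rw [hθι]; exact hg'.symm
      rw [this]
      exact Ideal.mem_map_of_mem _ (Ideal.mem_map_of_mem _ (mem_nilradical.mpr hg'nil))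
    have h2 := hle hz'
    obtain ⟨y, hy, hyz⟩ := (Ideal.mem_map_iff_of_surjective θ θ.surjective).mp h2
    have : y = z := θ.injective hyz
    rw [← this]
    exact hy
  have hnil' : (nilradical (K₁ ⊗[K] L)).map ι ≤
      nilradical (Ω ⊗[K₁] (K₁ ⊗[K] L)) := by
    rw [Ideal.map_le_iff_le_comap]
    intro x hx
    exact mem_nilradical.mpr ((mem_nilradical.mp hx).map ι)
  let ψ : Ω ⊗[K₁] (K₁ ⊗[K] L) →ₐ[K₁]
      Ω ⊗[K₁] ((K₁ ⊗[K] L) ⧸ m) :=
    Algebra.TensorProduct.map (AlgHom.id K₁ Ω) (Ideal.Quotient.mkₐ K₁ m)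
  have hψsurj : Function.Surjective ψ :=
    Algebra.TensorProduct.map_surjective _ _ Function.surjective_id
      (Ideal.Quotient.mkₐ_surjective K₁ m)
  have hψker : RingHom.ker ψ = m.map ι := by
    have := Algebra.TensorProduct.lTensor_ker (A := Ω)
      (Ideal.Quotient.mkₐ K₁ m) (Ideal.Quotient.mkₐ_surjective K₁ m)
    have hk : RingHom.ker (Ideal.Quotient.mkₐ K₁ m) = m := by
      ext x
      rw [RingHom.mem_ker]
      exact Ideal.Quotient.eq_zero_iff_mem
    rw [hk] at this
    exact this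
  have hmulmem : ∀ y ∈ m.map ι, ι s * y ∈ (nilradical (K₁ ⊗[K] L)).map ι := by
    intro y hy
    refine Submodule.span_induction (p := fun y _ => ι s * y ∈ (nilradical (K₁ ⊗[K] L)).map ι)
      ?_ ?_ ?_ ?_ hy
    · rintro _ ⟨x, hx, rfl⟩
      have : ι s * ι x = ι (s * x) := (map_mul ι s x).symm
      show ι s * ι x ∈ _
      rw [this]
      exact Ideal.mem_map_of_mem _ (hs x hx)
    · rw [mul_zero]; exact Ideal.zero_mem _
    · intro a b _ _ ha hb
      rw [mul_add]; exact Ideal.add_mem _ ha hb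
    · intro a b _ hb
      rw [smul_eq_mul, mul_left_comm]
      exact Ideal.mul_mem_left _ _ hb
  constructor
  intro t ht
  obtain ⟨r, rfl⟩ := hψsurj t
  obtain ⟨n, hn⟩ := ht
  have hrn : r ^ n ∈ m.map ι := by
    rw [← hψker, RingHom.mem_ker]
    show ψ (r ^ n) = 0
    have hpow : ψ (r ^ n) = ψ r ^ n := map_pow ψ.toRingHom r n
    rw [hpow]; exact hn
  have h1 : (ι s * r) ^ (n + 1) ∈ (nilradical (K₁ ⊗[K] L)).map ι := by
    have : (ι s * r) ^ (n + 1) = (ι s * r ^ n) * (ι s ^ n * r) := by ring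
    rw [this]
    exact Ideal.mul_mem_right _ _ (hmulmem _ hrn)
  have h2 : ι s * r ∈ nilradical (Ω ⊗[K₁] (K₁ ⊗[K] L)) := by
    rw [mem_nilradical]
    exact IsNilpotent.of_pow (mem_nilradical.mp (hnil' h1))
  have h3 : ι s * r ∈ m.map ι :=
    Ideal.map_mono (nilradical_le_prime m) (hnil h2)
  obtain ⟨a, m', hm', ham⟩ := hm.exists_inv hsm
  have hr : r = ι a * (ι s * r) + ι m' * r := by
    have : (1 : Ω ⊗[K₁] (K₁ ⊗[K] L)) = ι (a * s + m') := by
      rw [ham, map_one]
    calc r = 1 * r := (one_mul r).symm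
      _ = ι (a * s + m') * r := by rw [← this]
      _ = ι a * (ι s * r) + ι m' * r := by rw [map_add, map_mul]; ring
  have hrmem : r ∈ m.map ι := by
    rw [hr]
    exact Ideal.add_mem _ (Ideal.mul_mem_left _ _ h3)
      (Ideal.mul_mem_right _ _ (Ideal.mem_map_of_mem _ hm'))
  rw [← hψker, RingHom.mem_ker] at hrmem
  exact hrmem

end abstract

theorem exists_finite_isGeometricallyReduced_aux [IsAlgClosure K Ω] [Algebra.EssFiniteType K L] :
    ∃ (K₁ : Type u) (_ : Field K₁) (_ : Algebra K K₁) (m : Ideal (K₁ ⊗[K] L)),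
      Module.Finite K K₁ ∧ m.IsMaximal ∧
        Algebra.IsGeometricallyReduced K₁ ((K₁ ⊗[K] L) ⧸ m) := by
  haveI : Algebra.IsAlgebraic K Ω := IsAlgClosure.isAlgebraic
  haveI : IsAlgClosed Ω := IsAlgClosure.isAlgClosed K
  haveI : IsNoetherianRing (Ω ⊗[K] L) := Algebra.EssFiniteType.isNoetherianRing Ω _
  obtain ⟨G, hG⟩ := (IsNoetherian.noetherian (nilradical (Ω ⊗[K] L)) :
    (nilradical (Ω ⊗[K] L)).FG)
  obtain ⟨F, hfin, hF⟩ := exists_finite_forall_mem_range K L Ω G
  haveI := hfin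
  haveI : Nontrivial (F ⊗[K] L) :=
    (Algebra.TensorProduct.includeRight_injective (R := K) (A := F) (B := L)
      (algebraMap K F).injective).nontrivial
  obtain ⟨m, hm⟩ := Ideal.exists_maximal (F ⊗[K] L)
  haveI := hm
  refine ⟨F, inferInstance, inferInstance, m, hfin, hm, ?_⟩
  have hred := isReduced_of_range K L Ω F G hG hF m
  rw [Algebra.isGeometricallyReduced_field_iff]
  haveI : Algebra.IsAlgebraic F Ω := Algebra.IsAlgebraic.tower_top (K := K) F
  haveI : IsAlgClosure F Ω := ⟨inferInstance, inferInstance⟩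
  let e : AlgebraicClosure F ≃ₐ[F] Ω := IsAlgClosure.equiv F _ _
  haveI := hred
  exact isReduced_of_injective (Algebra.TensorProduct.congr e AlgEquiv.refl)
    (Algebra.TensorProduct.congr e AlgEquiv.refl).injective

/-- **Stacks 04KM (characteristic free form)**: a finitely generated field extension `L/K` becomes
geometrically reduced after a finite extension `K₁/K`: some residue field of `K₁ ⊗ L` is
geometrically reduced over `K₁`. -/
theorem exists_finite_isGeometricallyReduced [Algebra.EssFiniteType K L] :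
    ∃ (K₁ : Type u) (_ : Field K₁) (_ : Algebra K K₁) (m : Ideal (K₁ ⊗[K] L)),
      Module.Finite K K₁ ∧ m.IsMaximal ∧
        Algebra.IsGeometricallyReduced K₁ ((K₁ ⊗[K] L) ⧸ m) :=
  exists_finite_isGeometricallyReduced_aux K L (AlgebraicClosure K)

end Groth.Agent.Lib.Helper7.GeomRedCover
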