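import Mathlib
import Groth.Agent.Lib.Helper7RegOpen
import Groth.Agent.Lib.Helper6SmReg
import Groth.Agent.Lib.Helper2GenFree
import Groth.Agent.Lib.Helper19FSField

set_option autoImplicit false
universe u

namespace Groth.Agent.Lib.Helper7.J0

open PrimeSpectrum Groth.Agent.Lib.Helper7.RegOpen

/-- `J-0`: the regular locus contains a nonempty open subset. -/
def J0 (D : Type u) [CommRing D] : Prop :=
  ∃ U : Set (PrimeSpectrum D), IsOpen U ∧ U.Nonempty ∧ U ⊆ reg D

/-- the generic point of a domain -/
def botPt (D : Type u) [CommRing D] [IsDomain D] : PrimeSpectrum D := ⟨⊥, Ideal.isPrime_bot⟩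

theorem botPt_mem_of_isOpen {D : Type u} [CommRing D] [IsDomain D] {U : Set (PrimeSpectrum D)}
    (hU : IsOpen U) (hne : U.Nonempty) : botPt D ∈ U := by
  obtain ⟨x, hx⟩ := hne
  have hsp : botPt D ⤳ x := (PrimeSpectrum.le_iff_specializes (botPt D) x).mp bot_le
  exact hsp.mem_open hU hx

theorem comap_botPt {A A' : Type u} [CommRing A] [CommRing A'] [IsDomain A] [IsDomain A']
    [Algebra A A'] (hinj : Function.Injective (algebraMap A A')) :
    PrimeSpectrum.comap (algebraMap A A') (botPt A') = botPt A := by
  apply PrimeSpectrum.ext
  show Ideal.comap (algebraMap A A') ⊥ = ⊥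
  rw [← RingHom.ker_eq_comap_bot]
  exact (RingHom.injective_iff_ker_eq_bot _).mp hinj

/-- **J-0 ascends along finite type extensions with formally smooth generic fibre.** -/
theorem J0_of_formallySmooth_fractionField {A A' : Type u} [CommRing A] [CommRing A'] [IsDomain A]
    [IsDomain A'] [IsNoetherianRing A] [Algebra A A'] [Algebra.FiniteType A A']
    (hinj : Function.Injective (algebraMap A A'))
    (K' : Type u) [Field K'] [Algebra A' K'] [IsFractionRing A' K'] [Algebra A K']
    [IsScalarTower A A' K'] [Algebra.FormallySmooth A K'] (h : J0 A) : J0 A' := by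
  obtain ⟨U, hUo, hUne, hUreg⟩ := h
  haveI : Algebra.FinitePresentation A A' := Algebra.FinitePresentation.of_finiteType.mp inferInstance
  -- the generic point is in the smooth locus
  have hbot : botPt A' ∈ Algebra.smoothLocus A A' := by
    show Algebra.FormallySmooth A (Localization.AtPrime (⊥ : Ideal A'))
    haveI : IsLocalization (⊥ : Ideal A').primeCompl K' := by
      rw [Ideal.primeCompl_bot]; infer_instance
    let e : K' ≃ₐ[A'] Localization.AtPrime (⊥ : Ideal A') :=
      IsLocalization.algEquiv (⊥ : Ideal A').primeCompl _ _
    exact Algebra.FormallySmooth.of_equiv (e.restrictScalars A)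
  obtain ⟨_, ⟨_, ⟨g, rfl⟩, rfl⟩, hbg, hg⟩ :=
    isBasis_basic_opens.exists_subset_of_mem_open hbot (Algebra.isOpen_smoothLocus (R := A) (A := A'))
  rw [Algebra.basicOpen_subset_smoothLocus_iff_smooth] at hg
  haveI := hg
  refine ⟨(PrimeSpectrum.basicOpen g : Set (PrimeSpectrum A')) ∩
    PrimeSpectrum.comap (algebraMap A A') ⁻¹' U, ?_, ⟨botPt A', hbg, ?_⟩, ?_⟩
  · exact (PrimeSpectrum.basicOpen g).isOpen.inter (hUo.preimage (PrimeSpectrum.continuous_comap _))
  · show PrimeSpectrum.comap (algebraMap A A') (botPt A') ∈ U
    rw [comap_botPt hinj]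
    exact botPt_mem_of_isOpen hUo hUne
  · rintro q ⟨hqg, hqU⟩
    have hreg : IsRegularLocalRing (Localization.AtPrime (q.asIdeal.comap (algebraMap A A'))) :=
      hUreg hqU
    show IsRegularLocalRing (Localization.AtPrime q.asIdeal)
    have hgq : g ∉ q.asIdeal := hqg
    have disj : Disjoint (Submonoid.powers g : Set A') (q.asIdeal : Set A') :=
      (Ideal.disjoint_powers_iff_notMem_of_isPrime _).mpr hgq
    haveI : (q.asIdeal.map (algebraMap A' (Localization.Away g))).IsPrime :=
      IsLocalization.isPrime_of_isPrime_disjoint (.powers g) _ _ q.2 disj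
    have hcomap : (q.asIdeal.map (algebraMap A' (Localization.Away g))).comap
        (algebraMap A (Localization.Away g)) = q.asIdeal.comap (algebraMap A A') := by
      rw [IsScalarTower.algebraMap_eq A A' (Localization.Away g), ← Ideal.comap_comap]
      exact congrArg (Ideal.comap (algebraMap A A'))
        (IsLocalization.comap_map_of_isPrime_disjoint (.powers g) _ q.2 disj)
    haveI : ((q.asIdeal.map (algebraMap A' (Localization.Away g))).comap
        (algebraMap A (Localization.Away g))).IsPrime := Ideal.IsPrime.comap _
    haveI : (q.asIdeal.comap (algebraMap A A')).IsPrime := Ideal.IsPrime.comap _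
    haveI : IsRegularLocalRing (Localization.AtPrime
        ((q.asIdeal.map (algebraMap A' (Localization.Away g))).comap
          (algebraMap A (Localization.Away g)))) :=
      (Groth.Agent.S2623.isRegularLocalRing_congr_ideal hcomap).mpr hreg
    have h1 := Groth.Agent.Lib.Helper6.SmReg.isRegularLocalRing_of_smooth_of_comap (R := A)
      (S := Localization.Away g) (q.asIdeal.map (algebraMap A' (Localization.Away g)))
    exact Groth.Agent.Lib.Helper6.SmReg.isRegularLocalRing_of_localization (.powers g) q.asIdeal
      disj h1

/-- **J-0 descends along injective finite type maps of domains** (generic freeness). -/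
theorem J0_of_injective_finiteType {R S : Type u} [CommRing R] [IsDomain R] [IsNoetherianRing R]
    [CommRing S] [IsDomain S] [Algebra R S] [Algebra.FiniteType R S]
    (hinj : Function.Injective (algebraMap R S)) (hS : J0 S) : J0 R := by
  obtain ⟨U, hUo, hUne, hUreg⟩ := hS
  obtain ⟨f, hf0, hfree, -, -, -⟩ := Groth.Agent.Lib.Helper2.GenFree.exists_freeAway R S S
  set g : S := algebraMap R S f with hg
  have hg0 : g ≠ 0 := by
    intro h0
    exact hf0 (hinj (by rw [← hg, h0, map_zero]))
  have hle : Submonoid.powers g ≤ nonZeroDivisors S :=
    Submonoid.powers_le.mpr (mem_nonZeroDivisors_of_ne_zero hg0)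
  haveI : IsDomain (Localization.Away g) := IsLocalization.isDomain_localization hle
  have hinjS : Function.Injective (algebraMap S (Localization.Away g)) :=
    IsLocalization.injective _ hle
  -- flatness of `S_g` over `R`
  haveI hflat : Module.Flat R (Localization.Away g) := by
    haveI : Module.Free (Localization.Away f) (LocalizedModule (Submonoid.powers f) S) :=
      hfree.free (Localization.Away f) (LocalizedModule.mkLinearMap (Submonoid.powers f) S)
    haveI : Module.Flat R (LocalizedModule (Submonoid.powers f) S) :=
      Module.Flat.trans R (Localization.Away f) _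
    haveI : IsLocalization (Algebra.algebraMapSubmonoid S (Submonoid.powers f))
        (Localization.Away g) := by
      rw [Algebra.algebraMapSubmonoid_powers]; infer_instance
    haveI : IsLocalizedModule (Submonoid.powers f)
        (IsScalarTower.toAlgHom R S (Localization.Away g)).toLinearMap :=
      (isLocalizedModule_iff_isLocalization).mpr inferInstance
    exact Module.Flat.of_linearEquiv
      (IsLocalizedModule.iso (Submonoid.powers f)
        (IsScalarTower.toAlgHom R S (Localization.Away g)).toLinearMap).symm
  haveI : Algebra.FinitePresentation R S := Algebra.FinitePresentation.of_finiteType.mp inferInstance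
  haveI : Algebra.FinitePresentation S (Localization.Away g) :=
    IsLocalization.Away.finitePresentation g
  haveI : Algebra.FinitePresentation R (Localization.Away g) :=
    Algebra.FinitePresentation.trans R S _
  have hopen : IsOpenMap (PrimeSpectrum.comap (algebraMap R (Localization.Away g))) :=
    PrimeSpectrum.isOpenMap_comap_of_hasGoingDown_of_finitePresentation
  set U' : Set (PrimeSpectrum (Localization.Away g)) :=
    PrimeSpectrum.comap (algebraMap S (Localization.Away g)) ⁻¹' U with hU'
  have hU'o : IsOpen U' := hUo.preimage (PrimeSpectrum.continuous_comap _)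
  have hbot : botPt (Localization.Away g) ∈ U' := by
    show PrimeSpectrum.comap (algebraMap S (Localization.Away g)) (botPt _) ∈ U
    rw [comap_botPt hinjS]
    exact botPt_mem_of_isOpen hUo hUne
  refine ⟨PrimeSpectrum.comap (algebraMap R (Localization.Away g)) '' U', hopen _ hU'o,
    ⟨_, botPt _, hbot, rfl⟩, ?_⟩
  rintro _ ⟨q', hq', rfl⟩
  have hq : IsRegularLocalRing (Localization.AtPrime
      (q'.asIdeal.comap (algebraMap S (Localization.Away g)))) := hUreg hq'
  haveI : IsLocalization.AtPrime (Localization.AtPrime q'.asIdeal)
      (q'.asIdeal.comap (algebraMap S (Localization.Away g))) :=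
    IsLocalization.isLocalization_isLocalization_atPrime_isLocalization (.powers g) _ q'.asIdeal
  haveI : IsRegularLocalRing (Localization.AtPrime q'.asIdeal) :=
    IsRegularLocalRing.of_ringEquiv (IsLocalization.algEquiv
      (q'.asIdeal.comap (algebraMap S (Localization.Away g))).primeCompl
      (Localization.AtPrime (q'.asIdeal.comap (algebraMap S (Localization.Away g))))
      (Localization.AtPrime q'.asIdeal)).toRingEquiv
  exact Groth.Agent.Lib.Helper28.isRegularLocalRing_localization_comap_of_flat' (A := R)
    (B := Localization.Away g) q'.asIdeal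

end Groth.Agent.Lib.Helper7.J0
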