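import Mathlib
import Groth.Agent.Lib.Helper7J0
import Groth.Agent.Lib.Helper7GeomRedCover

set_option autoImplicit false
universe u

namespace Groth.Agent.Lib.Helper7.J2

open Groth.Agent.Lib.Helper7.J0 Groth.Agent.Lib.Helper7.RegOpen TensorProduct

section cover

variable {A₀ B : Type u} [CommRing A₀] [IsDomain A₀] [IsNoetherianRing A₀] [CommRing B] [IsDomain B]
  [Algebra A₀ B] [Algebra.FiniteType A₀ B]
  (K K₁ L L₁ : Type u) [Field K] [Field K₁] [Field L] [Field L₁]
  [Algebra A₀ K] [IsFractionRing A₀ K] [Algebra B L] [IsFractionRing B L]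
  [Algebra K K₁] [Module.Finite K K₁] [Algebra A₀ K₁] [IsScalarTower A₀ K K₁]
  [Algebra K₁ L₁] [Algebra L L₁] [Algebra B L₁] [IsScalarTower B L L₁]
  [Algebra A₀ L₁] [IsScalarTower A₀ K₁ L₁] [IsScalarTower A₀ B L₁]
  [Algebra.FormallySmooth K₁ L₁]

include K L in
theorem J0_of_cover (hgen : Algebra.adjoin K₁ (Set.range (algebraMap L L₁)) = ⊤)
    (h : ∀ (A' : Type u) [CommRing A'] [IsDomain A'] [Algebra A₀ A'], Module.Finite A₀ A' → J0 A') :
    J0 B := by
  classical
  obtain ⟨s, b, hb⟩ := FiniteDimensional.exists_is_basis_integral A₀ K K₁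
  -- the finite `A₀`-algebra `A₁` with fraction field `K₁`
  let A₁ : Subalgebra A₀ K₁ := Algebra.adjoin A₀ (Set.range b)
  haveI : Module.Finite A₀ A₁ :=
    Algebra.finite_adjoin_of_finite_of_isIntegral (Set.finite_range b)
      (by rintro _ ⟨i, rfl⟩; exact hb i)
  have hJ0A₁ : J0 A₁ := h A₁ inferInstance
  haveI : IsNoetherianRing A₁ := Algebra.FiniteType.isNoetherianRing A₀ A₁
  have hA₁frac : ∀ z : K₁, ∃ x ∈ A₁, ∃ t : A₀, t ≠ 0 ∧ algebraMap A₀ K₁ t * z = x := by
    intro z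
    have hz : z ∈ Submodule.span K (Set.range b) := by rw [b.span_eq]; trivial
    refine Submodule.span_induction
      (p := fun z _ => ∃ x ∈ A₁, ∃ t : A₀, t ≠ 0 ∧ algebraMap A₀ K₁ t * z = x) ?_ ?_ ?_ ?_ hz
    · rintro _ ⟨i, rfl⟩
      exact ⟨b i, Algebra.subset_adjoin ⟨i, rfl⟩, 1, one_ne_zero, by rw [map_one, one_mul]⟩
    · exact ⟨0, zero_mem _, 1, one_ne_zero, by rw [mul_zero]⟩
    · rintro z z' _ _ ⟨x, hx, t, ht, hxt⟩ ⟨x', hx', t', ht', hxt'⟩
      refine ⟨algebraMap A₀ K₁ t' * x + algebraMap A₀ K₁ t * x',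
        add_mem (A₁.mul_mem (A₁.algebraMap_mem t') hx) (A₁.mul_mem (A₁.algebraMap_mem t) hx'),
        t * t', mul_ne_zero ht ht', ?_⟩
      rw [map_mul, ← hxt, ← hxt']; ring
    · rintro c z _ ⟨x, hx, t, ht, hxt⟩
      obtain ⟨a, t', ht', rfl⟩ := IsFractionRing.div_surjective (A := A₀) c
      have ht'0 : t' ≠ 0 := nonZeroDivisors.ne_zero ht'
      refine ⟨algebraMap A₀ K₁ a * x, A₁.mul_mem (A₁.algebraMap_mem a) hx, t' * t,
        mul_ne_zero ht'0 ht, ?_⟩
      have h0 : algebraMap K K₁ (algebraMap A₀ K t') ≠ 0 := by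
        rw [Ne, map_eq_zero, map_eq_zero_iff _ (IsFractionRing.injective A₀ K)]
        exact ht'0
      rw [Algebra.smul_def, map_mul, ← hxt, IsScalarTower.algebraMap_apply A₀ K K₁ t',
        IsScalarTower.algebraMap_apply A₀ K K₁ a, map_div₀]
      field_simp
  -- `K₁` is the fraction field of `A₁`
  haveI : FaithfulSMul A₁ K₁ :=
    (faithfulSMul_iff_algebraMap_injective A₁ K₁).mpr Subtype.val_injective
  haveI hfracA₁ : IsFractionRing A₁ K₁ := by
    apply IsFractionRing.of_field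
    intro z
    obtain ⟨x, hx, t, ht, hxt⟩ := hA₁frac z
    refine ⟨⟨x, hx⟩, ⟨algebraMap A₀ K₁ t, A₁.algebraMap_mem t⟩, ?_⟩
    have h0 : algebraMap A₀ K₁ t ≠ 0 := by
      rw [IsScalarTower.algebraMap_apply A₀ K K₁, Ne, map_eq_zero,
        map_eq_zero_iff _ (IsFractionRing.injective A₀ K)]
      exact ht
    show z = x / algebraMap A₀ K₁ t
    rw [eq_div_iff h0, mul_comm]
    exact hxt
  -- the ring `B₁`
  let T : Set L₁ := algebraMap K₁ L₁ '' (Set.range b)
  let B₁ : Subalgebra B L₁ := Algebra.adjoin B T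
  have hTfin : T.Finite := (Set.finite_range b).image _
  haveI : Algebra.FiniteType B B₁ :=
    (Subalgebra.fg_iff_finiteType _).mp (Subalgebra.fg_def.mpr ⟨T, hTfin, rfl⟩)
  have hinjBL₁ : Function.Injective (algebraMap B L₁) := by
    rw [IsScalarTower.algebraMap_eq B L L₁]
    exact (algebraMap L L₁).injective.comp (IsFractionRing.injective B L)
  have hinjB : Function.Injective (algebraMap B B₁) := by
    intro x y hxy
    apply hinjBL₁
    exact congrArg Subtype.val hxy
  have hmem : ∀ a ∈ A₁, algebraMap K₁ L₁ a ∈ B₁ := by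
    have hle : A₁ ≤ (B₁.restrictScalars A₀).comap (IsScalarTower.toAlgHom A₀ K₁ L₁) := by
      apply Algebra.adjoin_le
      rintro _ ⟨i, rfl⟩
      show algebraMap K₁ L₁ (b i) ∈ B₁
      exact Algebra.subset_adjoin ⟨b i, ⟨i, rfl⟩, rfl⟩
    intro a ha
    exact hle ha
  let ρ : A₁ →+* B₁ :=
    RingHom.codRestrict ((algebraMap K₁ L₁).comp (algebraMap A₁ K₁)) B₁ (fun a => hmem a a.2)
  have hρinj : Function.Injective ρ := by
    intro x y hxy
    have h1 : algebraMap K₁ L₁ (x : K₁) = algebraMap K₁ L₁ (y : K₁) := congrArg Subtype.val hxy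
    exact Subtype.ext ((algebraMap K₁ L₁).injective h1)
  letI : Algebra A₁ B₁ := ρ.toAlgebra
  haveI : IsScalarTower A₀ A₁ B₁ := by
    refine IsScalarTower.of_algebraMap_eq (fun x => Subtype.ext ?_)
    show algebraMap A₀ L₁ x = algebraMap K₁ L₁ (algebraMap A₀ K₁ x)
    exact IsScalarTower.algebraMap_apply A₀ K₁ L₁ x
  haveI : Algebra.FiniteType A₀ B₁ := Algebra.FiniteType.trans (S := B) inferInstance inferInstance
  haveI : Algebra.FiniteType A₁ B₁ := Algebra.FiniteType.of_restrictScalars_finiteType A₀ A₁ B₁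
  haveI : IsScalarTower A₁ B₁ L₁ := IsScalarTower.of_algebraMap_eq (fun x => rfl)
  haveI : IsNoetherianRing B := Algebra.FiniteType.isNoetherianRing A₀ B
  -- `L₁` is the fraction field of `B₁`
  have hB₁frac : ∀ z : L₁, ∃ x ∈ B₁, ∃ y ∈ B₁, y ≠ 0 ∧ y * z = x := by
    intro z
    have hz : z ∈ Algebra.adjoin K₁ (Set.range (algebraMap L L₁)) := by rw [hgen]; trivial
    induction hz using Algebra.adjoin_induction with
    | mem z hz =>
      obtain ⟨l, rfl⟩ := hz
      obtain ⟨x, y, hy, rfl⟩ := IsFractionRing.div_surjective (A := B) l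
      have hy0 : algebraMap B L y ≠ 0 := by
        rw [Ne, map_eq_zero_iff _ (IsFractionRing.injective B L)]
        exact nonZeroDivisors.ne_zero hy
      refine ⟨algebraMap B L₁ x, B₁.algebraMap_mem x, algebraMap B L₁ y, B₁.algebraMap_mem y,
        ?_, ?_⟩
      · rw [Ne, map_eq_zero_iff _ hinjBL₁]
        exact nonZeroDivisors.ne_zero hy
      · rw [IsScalarTower.algebraMap_apply B L L₁, IsScalarTower.algebraMap_apply B L L₁ x,
          ← map_mul, mul_div_cancel₀ _ hy0]
    | algebraMap c =>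
      obtain ⟨x, hx, t, ht, hxt⟩ := hA₁frac c
      refine ⟨algebraMap K₁ L₁ x, hmem x hx, algebraMap A₀ L₁ t, ?_, ?_, ?_⟩
      · rw [IsScalarTower.algebraMap_apply A₀ B L₁]
        exact B₁.algebraMap_mem _
      · rw [IsScalarTower.algebraMap_apply A₀ B L₁, Ne, map_eq_zero_iff _ hinjBL₁]
        intro h0
        apply ht
        have : algebraMap A₀ L₁ t = 0 := by
          rw [IsScalarTower.algebraMap_apply A₀ B L₁, h0, map_zero]
        rw [IsScalarTower.algebraMap_apply A₀ K₁ L₁, map_eq_zero,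
          IsScalarTower.algebraMap_apply A₀ K K₁, map_eq_zero,
          map_eq_zero_iff _ (IsFractionRing.injective A₀ K)] at this
        exact this
      · rw [IsScalarTower.algebraMap_apply A₀ K₁ L₁, ← map_mul, hxt]
    | add z z' _ _ hz hz' =>
      obtain ⟨x, hx, y, hy, hy0, hxy⟩ := hz
      obtain ⟨x', hx', y', hy', hy0', hxy'⟩ := hz'
      refine ⟨y' * x + y * x', add_mem (B₁.mul_mem hy' hx) (B₁.mul_mem hy hx'), y * y',
        B₁.mul_mem hy hy', mul_ne_zero hy0 hy0', ?_⟩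
      rw [← hxy, ← hxy']; ring
    | mul z z' _ _ hz hz' =>
      obtain ⟨x, hx, y, hy, hy0, hxy⟩ := hz
      obtain ⟨x', hx', y', hy', hy0', hxy'⟩ := hz'
      refine ⟨x * x', B₁.mul_mem hx hx', y * y', B₁.mul_mem hy hy', mul_ne_zero hy0 hy0', ?_⟩
      rw [← hxy, ← hxy']; ring
  haveI : FaithfulSMul B₁ L₁ :=
    (faithfulSMul_iff_algebraMap_injective B₁ L₁).mpr Subtype.val_injective
  haveI hfracB₁ : IsFractionRing B₁ L₁ := by
    apply IsFractionRing.of_field
    intro z
    obtain ⟨x, hx, y, hy, hy0, hxy⟩ := hB₁frac z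
    refine ⟨⟨x, hx⟩, ⟨y, hy⟩, ?_⟩
    show z = x / y
    rw [eq_div_iff hy0, mul_comm]
    exact hxy
  haveI : Algebra.FormallySmooth A₁ K₁ :=
    Algebra.FormallySmooth.of_isLocalization (nonZeroDivisors A₁)
  haveI : Algebra.FormallySmooth A₁ L₁ := Algebra.FormallySmooth.comp A₁ K₁ L₁
  have hJ0B₁ : J0 B₁ := J0_of_formallySmooth_fractionField (A := A₁) (A' := B₁) hρinj L₁ hJ0A₁
  exact J0_of_injective_finiteType (R := B) (S := B₁) hinjB hJ0B₁

end cover

section cover2

variable {A₀ B : Type u} [CommRing A₀] [IsDomain A₀] [IsNoetherianRing A₀] [CommRing B] [IsDomain B]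
  [Algebra A₀ B] [Algebra.FiniteType A₀ B]
  (K K₁ L L₁ : Type u) [Field K] [Field K₁] [Field L] [Field L₁]
  [Algebra A₀ K] [IsFractionRing A₀ K] [Algebra B L] [IsFractionRing B L]
  [Algebra K L] [Algebra A₀ L] [IsScalarTower A₀ K L] [IsScalarTower A₀ B L]
  [Algebra K K₁] [Module.Finite K K₁]
  [Algebra K₁ L₁] [Algebra L L₁] [Algebra K L₁] [IsScalarTower K K₁ L₁] [IsScalarTower K L L₁]
  [Algebra.FormallySmooth K₁ L₁]

include K L in
theorem J0_of_cover₂ (hgen : Algebra.adjoin K₁ (Set.range (algebraMap L L₁)) = ⊤)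
    (h : ∀ (A' : Type u) [CommRing A'] [IsDomain A'] [Algebra A₀ A'], Module.Finite A₀ A' → J0 A') :
    J0 B := by
  letI : Algebra A₀ K₁ := ((algebraMap K K₁).comp (algebraMap A₀ K)).toAlgebra
  haveI : IsScalarTower A₀ K K₁ := IsScalarTower.of_algebraMap_eq (fun _ => rfl)
  letI : Algebra B L₁ := ((algebraMap L L₁).comp (algebraMap B L)).toAlgebra
  haveI : IsScalarTower B L L₁ := IsScalarTower.of_algebraMap_eq (fun _ => rfl)
  letI : Algebra A₀ L₁ := ((algebraMap K₁ L₁).comp (algebraMap A₀ K₁)).toAlgebra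
  haveI : IsScalarTower A₀ K₁ L₁ := IsScalarTower.of_algebraMap_eq (fun _ => rfl)
  haveI : IsScalarTower A₀ B L₁ := by
    refine IsScalarTower.of_algebraMap_eq (fun a => ?_)
    show algebraMap K₁ L₁ (algebraMap K K₁ (algebraMap A₀ K a)) =
      algebraMap L L₁ (algebraMap B L (algebraMap A₀ B a))
    rw [← IsScalarTower.algebraMap_apply K K₁ L₁, IsScalarTower.algebraMap_apply K L L₁,
      ← IsScalarTower.algebraMap_apply A₀ K L, IsScalarTower.algebraMap_apply A₀ B L]
  exact J0_of_cover K K₁ L L₁ hgen h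

end cover2

section main

variable {A₀ B : Type u} [CommRing A₀] [IsDomain A₀] [IsNoetherianRing A₀] [CommRing B] [IsDomain B]
  [Algebra A₀ B] [Algebra.FiniteType A₀ B]

theorem J0_of_finite_J0_aux (K L : Type u) [Field K] [Field L]
    [Algebra A₀ K] [IsFractionRing A₀ K] [Algebra B L] [IsFractionRing B L]
    [Algebra K L] [Algebra A₀ L] [IsScalarTower A₀ K L] [IsScalarTower A₀ B L]
    (h : ∀ (A' : Type u) [CommRing A'] [IsDomain A'] [Algebra A₀ A'], Module.Finite A₀ A' → J0 A') :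
    J0 B := by
  haveI : Algebra.EssFiniteType K L := by
    haveI : Algebra.EssFiniteType B L := Algebra.EssFiniteType.of_isLocalization L (nonZeroDivisors B)
    haveI : Algebra.EssFiniteType A₀ L := Algebra.EssFiniteType.comp A₀ B L
    exact Algebra.EssFiniteType.of_comp A₀ K L
  obtain ⟨K₁, fK₁, aK₁, m, hfin, hm, hgr⟩ :=
    GeomRedCover.exists_finite_isGeometricallyReduced K L
  letI : Field ((K₁ ⊗[K] L) ⧸ m) := Ideal.Quotient.field m
  letI : Algebra L ((K₁ ⊗[K] L) ⧸ m) :=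
    ((Ideal.Quotient.mk m).comp
      (Algebra.TensorProduct.includeRight (R := K) (A := K₁) (B := L)).toRingHom).toAlgebra
  have halgL : ∀ l : L, algebraMap L ((K₁ ⊗[K] L) ⧸ m) l =
      Ideal.Quotient.mk m ((1 : K₁) ⊗ₜ[K] l) := fun l => rfl
  haveI : IsScalarTower K L ((K₁ ⊗[K] L) ⧸ m) := by
    refine IsScalarTower.of_algebraMap_eq (fun k => ?_)
    rw [halgL, IsScalarTower.algebraMap_apply K (K₁ ⊗[K] L) ((K₁ ⊗[K] L) ⧸ m),
      Ideal.Quotient.algebraMap_eq, Algebra.TensorProduct.algebraMap_apply,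
      Algebra.algebraMap_eq_smul_one, Algebra.algebraMap_eq_smul_one (A := L),
      TensorProduct.smul_tmul]
  haveI : Algebra.FormallySmooth K₁ ((K₁ ⊗[K] L) ⧸ m) :=
    Groth.Agent.Lib.Helper19.PBasis.formallySmooth_of_isGeometricallyReduced
  have hgen : Algebra.adjoin K₁ (Set.range (algebraMap L ((K₁ ⊗[K] L) ⧸ m))) = ⊤ := by
    rw [eq_top_iff]
    rintro z -
    obtain ⟨r, rfl⟩ := Ideal.Quotient.mk_surjective z
    induction r using TensorProduct.induction_on with
    | zero => rw [map_zero]; exact zero_mem _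
    | tmul c l =>
      have : Ideal.Quotient.mk m (c ⊗ₜ[K] l) = c • algebraMap L ((K₁ ⊗[K] L) ⧸ m) l := by
        rw [halgL, ← Ideal.Quotient.mkₐ_eq_mk K₁, ← map_smul, TensorProduct.smul_tmul',
          smul_eq_mul, mul_one]
      rw [this]
      exact Subalgebra.smul_mem _ (Algebra.subset_adjoin (Set.mem_range_self l)) c
    | add x y hx hy => rw [map_add]; exact add_mem hx hy
  exact J0_of_cover₂ K K₁ L ((K₁ ⊗[K] L) ⧸ m) hgen h

end main

section final

variable {A₀ B : Type u} [CommRing A₀] [IsDomain A₀] [IsNoetherianRing A₀] [CommRing B] [IsDomain B]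
  [Algebra A₀ B] [Algebra.FiniteType A₀ B]

/-- If all finite domains over the Noetherian domain `A₀` are J-0, so is every finite type domain
extension of `A₀`. -/
theorem J0_of_finite_J0 (hinj : Function.Injective (algebraMap A₀ B))
    (h : ∀ (A' : Type u) [CommRing A'] [IsDomain A'] [Algebra A₀ A'], Module.Finite A₀ A' → J0 A') :
    J0 B := by
  haveI : FaithfulSMul A₀ B := (faithfulSMul_iff_algebraMap_injective A₀ B).mpr hinj
  letI : Algebra (FractionRing A₀) (FractionRing B) :=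
    FractionRing.liftAlgebra A₀ (FractionRing B)
  haveI : IsScalarTower A₀ (FractionRing A₀) (FractionRing B) :=
    FractionRing.isScalarTower_liftAlgebra A₀ _
  exact J0_of_finite_J0_aux (FractionRing A₀) (FractionRing B) h

end final

/-- **EGA IV 6.12.4 / Matsumura 32.B**: if all finite domains over the Noetherian ring `A` are
J-0, then the regular locus of every finite type `A`-algebra is open. -/
theorem isOpen_reg_of_finite_J0 (A : Type u) [CommRing A] [IsNoetherianRing A]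
    (h : ∀ (A' : Type u) [CommRing A'] [IsDomain A'] [Algebra A A'], Module.Finite A A' → J0 A')
    (S : Type u) [CommRing S] [Algebra A S] [Algebra.FiniteType A S] : IsOpen (reg S) := by
  haveI : IsNoetherianRing S := Algebra.FiniteType.isNoetherianRing A S
  apply isOpen_reg_of_quotients
  intro p _
  haveI : (RingHom.ker (algebraMap A (S ⧸ p.asIdeal))).IsPrime := RingHom.ker_isPrime _
  letI : Algebra (A ⧸ RingHom.ker (algebraMap A (S ⧸ p.asIdeal))) (S ⧸ p.asIdeal) :=
    (RingHom.kerLift (algebraMap A (S ⧸ p.asIdeal))).toAlgebra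
  haveI : IsScalarTower A (A ⧸ RingHom.ker (algebraMap A (S ⧸ p.asIdeal))) (S ⧸ p.asIdeal) :=
    IsScalarTower.of_algebraMap_eq (fun _ => rfl)
  haveI : Algebra.FiniteType (A ⧸ RingHom.ker (algebraMap A (S ⧸ p.asIdeal))) (S ⧸ p.asIdeal) :=
    Algebra.FiniteType.of_restrictScalars_finiteType A _ _
  have hinj : Function.Injective
      (algebraMap (A ⧸ RingHom.ker (algebraMap A (S ⧸ p.asIdeal))) (S ⧸ p.asIdeal)) :=
    RingHom.kerLift_injective _
  refine J0_of_finite_J0 hinj ?_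
  intro A' _ _ _ hfin
  letI : Algebra A A' :=
    ((algebraMap (A ⧸ RingHom.ker (algebraMap A (S ⧸ p.asIdeal))) A').comp
      (algebraMap A (A ⧸ RingHom.ker (algebraMap A (S ⧸ p.asIdeal))))).toAlgebra
  haveI : IsScalarTower A (A ⧸ RingHom.ker (algebraMap A (S ⧸ p.asIdeal))) A' :=
    IsScalarTower.of_algebraMap_eq (fun _ => rfl)
  exact h A' (Module.Finite.trans (A ⧸ RingHom.ker (algebraMap A (S ⧸ p.asIdeal))) A')

end Groth.Agent.Lib.Helper7.J2
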