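import Mathlib
import Groth.Prelude.Def_Found
import Groth.Agent.Lib.Helper7J2
import Groth.Agent.Lib.Helper7GenReg

set_option autoImplicit false
universe u

namespace Groth.Agent.Lib.Helper7.J2Cor

open Groth.Agent.Lib.Helper7.J0 Groth.Agent.Lib.Helper7.RegOpen Groth.Agent.Lib.Helper7.J2

/-- A finite domain over a semi-local Noetherian ring of dimension at most one is J-0 (its generic
point is open). -/
theorem J0_of_finite_of_semilocal_dim_le_one (A : Type u) [CommRing A]
    (hsl : {I : Ideal A | I.IsMaximal}.Finite) (hdim : ringKrullDim A ≤ 1)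
    (A' : Type u) [CommRing A'] [IsDomain A'] [Algebra A A'] [Module.Finite A A'] : J0 A' := by
  haveI : Ring.KrullDimLE 1 A := Ring.krullDimLE_iff.mpr (by simpa using hdim)
  haveI : Algebra.IsIntegral A A' := Algebra.IsIntegral.of_finite A A'
  have hmax : ∀ q : PrimeSpectrum A', q ≠ botPt A' → q.asIdeal.IsMaximal := by
    intro q hq
    have hqbot : q.asIdeal ≠ ⊥ := fun h => hq (PrimeSpectrum.ext h)
    rcases Ring.krullDimLE_one_iff.mp inferInstance (q.asIdeal.comap (algebraMap A A'))
      inferInstance with hmin | hmx
    · exfalso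
      obtain ⟨x, hxq, hx0⟩ := Submodule.exists_mem_ne_zero_of_ne_bot hqbot
      have hlt := Ideal.comap_lt_comap_of_integral_mem_sdiff (R := A) (I := (⊥ : Ideal A'))
        (J := q.asIdeal) bot_le ⟨hxq, by simpa using hx0⟩ (Algebra.IsIntegral.isIntegral x)
      have hle : q.asIdeal.comap (algebraMap A A') ≤ (⊥ : Ideal A').comap (algebraMap A A') :=
        hmin.2 ⟨Ideal.IsPrime.comap _, bot_le⟩ hlt.le
      exact absurd hlt (not_lt_of_ge hle)
    · exact Ideal.isMaximal_of_isIntegral_of_isMaximal_comap q.asIdeal hmx
  have hfinA : {x : PrimeSpectrum A | x.asIdeal.IsMaximal}.Finite := by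
    refine Set.Finite.of_finite_image (f := PrimeSpectrum.asIdeal) (hsl.subset ?_)
      (fun x _ y _ hxy => PrimeSpectrum.ext hxy)
    rintro _ ⟨x, hx, rfl⟩
    exact hx
  have hfin : {q : PrimeSpectrum A' | q ≠ botPt A'}.Finite := by
    refine (Algebra.QuasiFinite.finite_comap_preimage (R := A) (S := A') hfinA).subset ?_
    intro q hq
    haveI := hmax q hq
    exact Ideal.isMaximal_comap_of_isIntegral_of_isMaximal (R := A) q.asIdeal
  have hclosed : IsClosed {q : PrimeSpectrum A' | q ≠ botPt A'} := by
    have : {q : PrimeSpectrum A' | q ≠ botPt A'} =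
        ⋃ q ∈ {q : PrimeSpectrum A' | q ≠ botPt A'}, {q} := (Set.biUnion_of_singleton _).symm
    rw [this]
    exact hfin.isClosed_biUnion
      (fun q hq => (PrimeSpectrum.isClosed_singleton_iff_isMaximal q).mpr (hmax q hq))
  refine ⟨{botPt A'}, ?_, ⟨_, rfl⟩, ?_⟩
  · have : ({botPt A'} : Set (PrimeSpectrum A')) = {q | q ≠ botPt A'}ᶜ := by ext q; simp
    rw [this]; exact hclosed.isOpen_compl
  · rintro _ rfl; exact bot_mem_reg A'

/-- a domain which is a field is J-0 -/
theorem J0_of_isMaximal_bot (D : Type u) [CommRing D] [IsDomain D]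
    (h : (⊥ : Ideal D).IsMaximal) : J0 D := by
  refine ⟨Set.univ, isOpen_univ, ⟨botPt D, trivial⟩, fun q _ => ?_⟩
  have : q = botPt D := PrimeSpectrum.ext (h.eq_of_le q.2.ne_top bot_le).symm
  rw [this]
  exact bot_mem_reg D

/-- a regular domain is J-0 -/
theorem J0_of_isRegularRing (D : Type u) [CommRing D] [IsDomain D] [IsRegularRing D] : J0 D :=
  ⟨Set.univ, isOpen_univ, ⟨botPt D, trivial⟩,
    fun q _ => IsRegularRing.isRegularLocalRing_localization q.asIdeal⟩

/-- A finite domain over a Dedekind domain of characteristic zero is J-0. -/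
theorem J0_of_finite_dedekind_charZero (A : Type u) [CommRing A] [IsDedekindDomain A] [CharZero A]
    (A' : Type u) [CommRing A'] [IsDomain A'] [Algebra A A'] [Module.Finite A A'] : J0 A' := by
  haveI : Algebra.IsIntegral A A' := Algebra.IsIntegral.of_finite A A'
  by_cases hinj : Function.Injective (algebraMap A A')
  · have hA : J0 A := J0_of_isRegularRing A
    haveI : FaithfulSMul A A' := (faithfulSMul_iff_algebraMap_injective A A').mpr hinj
    letI : Algebra (FractionRing A) (FractionRing A') :=
      FractionRing.liftAlgebra A (FractionRing A')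
    haveI : IsScalarTower A (FractionRing A) (FractionRing A') :=
      FractionRing.isScalarTower_liftAlgebra A _
    haveI : CharZero (FractionRing A) :=
      charZero_of_injective_algebraMap (IsFractionRing.injective A (FractionRing A))
    haveI : Algebra.FormallySmooth (FractionRing A) (FractionRing A') :=
      Groth.Agent.Lib.Helper7.GenReg.formallySmooth_of_charZero _ _
    haveI : Algebra.FormallySmooth A (FractionRing A) :=
      Algebra.FormallySmooth.of_isLocalization (nonZeroDivisors A)
    haveI : Algebra.FormallySmooth A (FractionRing A') :=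
      Algebra.FormallySmooth.comp A (FractionRing A) (FractionRing A')
    exact J0_of_formallySmooth_fractionField hinj (FractionRing A') hA
  · have hker : RingHom.ker (algebraMap A A') ≠ ⊥ :=
      fun h => hinj ((RingHom.injective_iff_ker_eq_bot _).mpr h)
    haveI : (RingHom.ker (algebraMap A A')).IsPrime := RingHom.ker_isPrime _
    have hmax : (RingHom.ker (algebraMap A A')).IsMaximal := Ideal.IsPrime.isMaximal inferInstance hker
    apply J0_of_isMaximal_bot
    haveI : (⊥ : Ideal A').IsPrime := Ideal.isPrime_bot
    apply Ideal.isMaximal_of_isIntegral_of_isMaximal_comap (R := A) (⊥ : Ideal A')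
    rw [← RingHom.ker_eq_comap_bot]
    exact hmax

/-- A finite domain extension of an N-2 Noetherian domain of dimension at most one is J-0. -/
theorem J0_of_finite_N2 (R₀ : Type u) [CommRing R₀] [IsDomain R₀] [IsNoetherianRing R₀]
    [Ring.KrullDimLE 1 R₀] (hN2 : CAlg.IsN2 R₀) (A' : Type u) [CommRing A'] [IsDomain A']
    [Algebra R₀ A'] [Module.Finite R₀ A'] (hinj : Function.Injective (algebraMap R₀ A')) :
    J0 A' := by
  haveI : FaithfulSMul R₀ A' := (faithfulSMul_iff_algebraMap_injective R₀ A').mpr hinj
  haveI : Algebra.IsIntegral R₀ A' := Algebra.IsIntegral.of_finite R₀ A'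
  letI : Algebra (FractionRing R₀) (FractionRing A') :=
    FractionRing.liftAlgebra R₀ (FractionRing A')
  haveI : IsScalarTower R₀ (FractionRing R₀) (FractionRing A') :=
    FractionRing.isScalarTower_liftAlgebra R₀ _
  haveI : FiniteDimensional (FractionRing R₀) (FractionRing A') :=
    Module.Finite.of_isLocalization R₀ A' (nonZeroDivisors R₀)
  haveI hfinC : Module.Finite R₀ (integralClosure R₀ (FractionRing A')) :=
    hN2 (FractionRing A') inferInstance
  haveI : IsNoetherianRing (integralClosure R₀ (FractionRing A')) :=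
    Algebra.FiniteType.isNoetherianRing R₀ _
  haveI : IsIntegrallyClosed (integralClosure R₀ (FractionRing A')) :=
    integralClosure.isIntegrallyClosedOfFiniteExtension (FractionRing R₀)
  haveI : Ring.DimensionLEOne R₀ := ⟨fun hne hp => hp.isMaximal_of_ne_bot hne⟩
  haveI : Ring.DimensionLEOne (integralClosure R₀ (FractionRing A')) :=
    Ring.DimensionLEOne.of_isIntegral R₀ _
  haveI : IsDedekindDomain (integralClosure R₀ (FractionRing A')) :=
    { toIsDomain := inferInstance
      toIsDedekindRing := { } }
  have hJ0C : J0 (integralClosure R₀ (FractionRing A')) := J0_of_isRegularRing _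
  let φ : A' →+* integralClosure R₀ (FractionRing A') :=
    RingHom.codRestrict (algebraMap A' (FractionRing A')) (integralClosure R₀ (FractionRing A'))
      (fun a => (Algebra.IsIntegral.isIntegral (R := R₀) a).map
        (IsScalarTower.toAlgHom R₀ A' (FractionRing A')))
  letI : Algebra A' (integralClosure R₀ (FractionRing A')) := φ.toAlgebra
  haveI : IsScalarTower R₀ A' (integralClosure R₀ (FractionRing A')) := by
    refine IsScalarTower.of_algebraMap_eq (fun r => Subtype.ext ?_)
    show algebraMap R₀ (FractionRing A') r = algebraMap A' (FractionRing A') (algebraMap R₀ A' r)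
    exact IsScalarTower.algebraMap_apply R₀ A' (FractionRing A') r
  haveI : Module.Finite A' (integralClosure R₀ (FractionRing A')) :=
    Module.Finite.of_restrictScalars_finite R₀ A' _
  have hinjφ : Function.Injective (algebraMap A' (integralClosure R₀ (FractionRing A'))) := by
    intro x y hxy
    apply IsFractionRing.injective A' (FractionRing A')
    exact congrArg Subtype.val hxy
  haveI : IsNoetherianRing A' := Algebra.FiniteType.isNoetherianRing R₀ A'
  exact J0_of_injective_finiteType hinjφ hJ0C

/-- A finite domain over a Nagata ring of dimension at most one is J-0. -/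
theorem J0_of_finite_nagata_dim_le_one (R : Type u) [CommRing R] (hR : CAlg.IsNagata R)
    (hdim : ringKrullDim R ≤ 1) (A' : Type u) [CommRing A'] [IsDomain A'] [Algebra R A']
    [Module.Finite R A'] : J0 A' := by
  haveI : IsNoetherianRing R := hR.1
  haveI : (RingHom.ker (algebraMap R A')).IsPrime := RingHom.ker_isPrime _
  letI : Algebra (R ⧸ RingHom.ker (algebraMap R A')) A' :=
    (RingHom.kerLift (algebraMap R A')).toAlgebra
  haveI : IsScalarTower R (R ⧸ RingHom.ker (algebraMap R A')) A' :=
    IsScalarTower.of_algebraMap_eq (fun _ => rfl)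
  haveI : Module.Finite (R ⧸ RingHom.ker (algebraMap R A')) A' :=
    Module.Finite.of_restrictScalars_finite R _ _
  haveI : Ring.KrullDimLE 1 (R ⧸ RingHom.ker (algebraMap R A')) :=
    Ring.krullDimLE_iff.mpr ((ringKrullDim_quotient_le _).trans (by simpa using hdim))
  exact J0_of_finite_N2 (R ⧸ RingHom.ker (algebraMap R A')) (hR.2 _) A'
    (RingHom.kerLift_injective _)

end Groth.Agent.Lib.Helper7.J2Cor
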