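import Mathlib
import Groth.Prelude
import Groth.Agent.Lib.Helper7ExcDed
import Groth.Agent.Lib.Helper7ExcLoc
import Groth.Agent.Lib.Helper7ClosedFF
import Groth.Agent.Lib.Helper7J2Cor
import Groth.Agent.Lib.Helper7RegHomField
import Groth.Agent.Lib.Helper28GeomFibre3
import Groth.Agent.Lib.Helper29FaltingsReg
import Groth.Agent.S2617
import Groth.Agent.S2657
import Groth.Agent.S0603

/-!
# Nagata rings of dimension at most one are quasi-excellent; excellent DVRs (helper7)
-/

set_option autoImplicit false
set_option linter.style.haveILetI false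
universe u

namespace Groth.Agent.Lib.Helper7.ExcDim1

open Groth CAlg IsLocalRing TensorProduct

/-- A Nagata ring of dimension at most one is a G-ring. -/
theorem isGRing_of_isNagata_of_dim_le_one (A : Type u) [CommRing A] (hNag : IsNagata A)
    (hdim : ringKrullDim A ≤ 1) : IsGRing A := by
  haveI := hNag.1
  refine ⟨inferInstance, fun p _ => ?_⟩
  have hNagp : CAlg.IsNagata (Localization.AtPrime p) :=
    Groth.Agent.Lib.Helper14.isNagata_of_isLocalization A p.primeCompl _ hNag
  apply Groth.Agent.Lib.Helper7.ExcDed.isRegularHom_cpl_of_isNagata_of_dim_le_one _ hNagp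
  rw [IsLocalization.AtPrime.ringKrullDim_eq_height p (Localization.AtPrime p)]
  exact (Ideal.height_le_ringKrullDim_of_ne_top (Ideal.IsPrime.ne_top inferInstance)).trans hdim

/-- A Nagata ring of dimension at most one is J-2. -/
theorem isJ2_of_isNagata_of_dim_le_one (A : Type u) [CommRing A] (hNag : IsNagata A)
    (hdim : ringKrullDim A ≤ 1) : EGA4.IsJ2 A := by
  haveI := hNag.1
  rw [Groth.Agent.S2617.result]
  intro A' _ _ _ hfin
  haveI := hfin
  exact Groth.Agent.Lib.Helper7.J2Cor.J0_of_finite_nagata_dim_le_one A hNag hdim A'

/-- A Nagata ring of dimension at most one is quasi-excellent. -/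
theorem isQuasiExcellent_of_isNagata_of_dim_le_one (A : Type u) [CommRing A] (hNag : IsNagata A)
    (hdim : ringKrullDim A ≤ 1) : EGA4.IsQuasiExcellent A :=
  ⟨hNag.1, isGRing_of_isNagata_of_dim_le_one A hNag hdim, isJ2_of_isNagata_of_dim_le_one A hNag hdim⟩

/-- For a G-ring which is local, the completion map is regular. -/
theorem isRegularHom_cpl_of_isGRing (R : Type u) [CommRing R] [IsLocalRing R] (hG : IsGRing R) :
    IsRegularHom R (EGA4.Cpl R) := by
  haveI := hG.1
  let e : R ≃ₐ[R] (Localization.AtPrime (maximalIdeal R)) :=
    IsLocalization.atUnits R (maximalIdeal R).primeCompl (fun x ↦ by simpa using! fun a ↦ a)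
  exact Groth.Agent.Lib.Helper7.ExcLoc.isRegularHom_cpl_of_ringEquiv
    (Localization.AtPrime (maximalIdeal R)) R e.toRingEquiv (hG.2 (maximalIdeal R))

/-- A geometrically regular algebra over a field is geometrically reduced. -/
theorem isGeometricallyReduced_of_isGeometricallyRegular (k S : Type u) [Field k] [CommRing S]
    [Algebra k S] (h : IsGeometricallyRegular k S) : Algebra.IsGeometricallyReduced k S := by
  apply Groth.Agent.Lib.Helper28.isGeometricallyReduced_of_forall_finite
  intro F _ _ hfin
  haveI := h F hfin
  exact Groth.Agent.Lib.Helper7.RegHomField.isReduced_of_isRegularRing _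

/-- A discrete valuation ring is excellent iff its generic formal fibre is geometrically reduced. -/
theorem dvr_isExcellent_iff (R : Type u) [CommRing R] [IsDomain R] [IsDiscreteValuationRing R] :
    EGA4.IsExcellent R ↔
      Algebra.IsGeometricallyReduced (⊥ : Ideal R).ResidueField
        (EGA4.formalFibre R (⊥ : Ideal R)) := by
  constructor
  · rintro ⟨-, -, hG, -⟩
    have h := isRegularHom_cpl_of_isGRing R hG
    exact isGeometricallyReduced_of_isGeometricallyRegular _ _ (h.2 ⊥).2
  · intro h
    have hFF : EGA4.HasGeomReducedFormalFibres R := by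
      intro p hp
      by_cases hp0 : p = ⊥
      · subst hp0; exact h
      · have : p = maximalIdeal R :=
          IsLocalRing.eq_maximalIdeal (hp.isMaximal hp0)
        subst this
        exact Groth.Agent.Lib.Helper7.ClosedFF.isGeometricallyReduced_closedFormalFibre R
    have hNag : IsNagata R := Groth.Agent.S2657.result R hFF
    have hdim : ringKrullDim R ≤ 1 := by
      haveI : Ring.KrullDimLE 1 R := inferInstance
      exact Ring.krullDimLE_iff.mp inferInstance
    refine ⟨inferInstance, ?_, isGRing_of_isNagata_of_dim_le_one R hNag hdim,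
      isJ2_of_isNagata_of_dim_le_one R hNag hdim⟩
    haveI := Groth.Agent.Lib.Helper29FaltingsReg.isCohenMacaulayRing_of_isRegularRing (R := R)
    exact Groth.Agent.S0603.result R

end Groth.Agent.Lib.Helper7.ExcDim1
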