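import Mathlib
import Groth.Prelude.Def_Found
import Groth.Agent.Lib.Helper12ArtinApproxA
import Groth.Agent.Lib.Helper7ExcDim1
import Groth.Agent.Lib.Helper7Smoothing88
import Groth.Agent.Lib.Helper2HenselRad

set_option autoImplicit false
set_option linter.style.haveILetI false
universe u
open TensorProduct IsLocalRing

namespace Groth.Agent.Lib.Helper12.ArtinApprox

/-- approximation of elements of the completion by elements of `R` -/
theorem exists_sub_mem_map_pow {R : Type u} [CommRing R] [IsNoetherianRing R] (I : Ideal R) (k : ℕ)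
    (c : AdicCompletion I R) :
    ∃ r : R, c - algebraMap R (AdicCompletion I R) r ∈
      (I ^ k).map (algebraMap R (AdicCompletion I R)) := by
  have fg : I.FG := IsNoetherian.noetherian I
  rcases Submodule.Quotient.mk_surjective _ (c.1 k) with ⟨l, hl⟩
  refine ⟨l, ?_⟩
  rw [← Submodule.restrictScalars_mem R, ← Ideal.smul_top_eq_map]
  have : algebraMap R (AdicCompletion I R) l - c ∈
      I ^ k • (⊤ : Submodule R (AdicCompletion I R)) := by
    rw [AdicCompletion.algebraMap_apply, AdicCompletion.pow_smul_top_eq_ker_eval fg]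
    simpa [AdicCompletion.eval, sub_eq_zero] using hl
  have h2 := Submodule.neg_mem _ this
  rwa [neg_sub] at h2

/-- Artin approximation in an étale neighbourhood over a local G-ring (via Popescu). -/
theorem artin_approx_etale {R : Type u} [CommRing R] [IsLocalRing R] (hG : CAlg.IsGRing R)
    {n m : ℕ} (F : Fin m → MvPolynomial (Fin n) R)
    (a : Fin n → AdicCompletion (IsLocalRing.maximalIdeal R) R) (ha : ∀ j, MvPolynomial.aeval a (F j) = 0)
    (N : ℕ) :
    ∃ (R' : Type u) (_ : CommRing R') (_ : Algebra R R'), Algebra.Etale R R' ∧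
      ∃ (ψ : R' →ₐ[R] AdicCompletion (IsLocalRing.maximalIdeal R) R) (m' : Ideal R'), m'.IsMaximal ∧
        m'.comap (algebraMap R R') = IsLocalRing.maximalIdeal R ∧
        (∀ x : R', ∃ r : R, x - algebraMap R R' r ∈ m') ∧
        (∀ x ∈ m', ψ x ∈ (IsLocalRing.maximalIdeal R).map
          (algebraMap R (AdicCompletion (IsLocalRing.maximalIdeal R) R))) ∧
        ∃ b : Fin n → R', (∀ j, MvPolynomial.aeval b (F j) = 0) ∧
          ∀ i, a i - ψ (b i) ∈ (IsLocalRing.maximalIdeal R ^ N).map
            (algebraMap R (AdicCompletion (IsLocalRing.maximalIdeal R) R)) := by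
  classical
  haveI : IsNoetherianRing R := hG.1
  have hreg : CAlg.IsRegularHom R (AdicCompletion (maximalIdeal R) R) :=
    Groth.Agent.Lib.Helper7.ExcDim1.isRegularHom_cpl_of_isGRing R hG
  haveI : IsNoetherianRing (AdicCompletion (maximalIdeal R) R) := inferInstance
  have hmC : maximalIdeal (AdicCompletion (maximalIdeal R) R) =
      (maximalIdeal R).map (algebraMap R (AdicCompletion (maximalIdeal R) R)) :=
    AdicCompletion.maximalIdeal_eq_map
  -- the finitely presented algebra
  let 𝔞 : Ideal (MvPolynomial (Fin n) R) := Ideal.span (Set.range F)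
  have h𝔞fg : 𝔞.FG := ⟨Finset.univ.image F, by simp [𝔞]⟩
  haveI : Algebra.FinitePresentation R (MvPolynomial (Fin n) R ⧸ 𝔞) :=
    Algebra.FinitePresentation.quotient h𝔞fg
  have hker : 𝔞 ≤ RingHom.ker (MvPolynomial.aeval a :
      MvPolynomial (Fin n) R →ₐ[R] AdicCompletion (maximalIdeal R) R) := by
    rw [Ideal.span_le]
    rintro _ ⟨j, rfl⟩
    exact ha j
  let f : (MvPolynomial (Fin n) R ⧸ 𝔞) →ₐ[R] AdicCompletion (maximalIdeal R) R :=
    Ideal.Quotient.liftₐ 𝔞 (MvPolynomial.aeval a) (fun p hp => hker hp)
  obtain ⟨B, _, _, hB, g, h, hgh⟩ :=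
    Groth.Agent.Lib.Helper7.Smoothing.indSmooth_of_isRegularHom R _ hreg
      (MvPolynomial (Fin n) R ⧸ 𝔞) inferInstance f
  -- the Henselian pair
  let J : Ideal (AdicCompletion (maximalIdeal R) R) :=
    (maximalIdeal R ^ (N + 1)).map (algebraMap R (AdicCompletion (maximalIdeal R) R))
  have hJle : J ≤ (maximalIdeal R).map (algebraMap R (AdicCompletion (maximalIdeal R) R)) :=
    Ideal.map_mono (Ideal.pow_le_self (Nat.succ_ne_zero N))
  haveI hH0 : HenselianRing (AdicCompletion (maximalIdeal R) R)
      ((maximalIdeal R).map (algebraMap R (AdicCompletion (maximalIdeal R) R))) := by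
    haveI := AdicCompletion.isAdicComplete_self (maximalIdeal R)
      (IsNoetherian.noetherian (maximalIdeal R))
    infer_instance
  haveI hH : HenselianRing (AdicCompletion (maximalIdeal R) R) J :=
    Groth.Agent.Lib.Helper2.henselianRing_of_le _ J hH0 hJle
  obtain ⟨R', _, _, hR', α, ψ, hψ⟩ :=
    Groth.Agent.Lib.Helper12.ArtinApprox.exists_etale_of_smooth J
      (fun c => exists_sub_mem_map_pow (maximalIdeal R) (N + 1) c) h
  have hres : ∀ x : R', ∃ r : R, x - algebraMap R R' r ∈
      (maximalIdeal (AdicCompletion (maximalIdeal R) R)).comap (ψ : R' →+* _) := by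
    intro x
    obtain ⟨r, hr⟩ := exists_sub_mem_map_pow (maximalIdeal R) 1 (ψ x)
    refine ⟨r, ?_⟩
    rw [Ideal.mem_comap, map_sub, hmC]
    rw [pow_one] at hr
    simpa using hr
  have hcomap : ((maximalIdeal (AdicCompletion (maximalIdeal R) R)).comap
      (ψ : R' →+* _)).comap (algebraMap R R') = maximalIdeal R := by
    rw [Ideal.comap_comap]
    have : (ψ : R' →+* AdicCompletion (maximalIdeal R) R).comp (algebraMap R R') =
        algebraMap R (AdicCompletion (maximalIdeal R) R) := ψ.comp_algebraMap
    rw [this]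
    exact IsLocalRing.maximalIdeal_comap _
  refine ⟨R', inferInstance, inferInstance, hR', ψ,
    (maximalIdeal (AdicCompletion (maximalIdeal R) R)).comap (ψ : R' →+* _), ?_, hcomap, hres, ?_, ?_⟩
  · rw [Ideal.isMaximal_iff]
    refine ⟨?_, ?_⟩
    · intro h1
      rw [Ideal.mem_comap, map_one] at h1
      exact (Ideal.ne_top_iff_one _).mp (Ideal.IsMaximal.ne_top inferInstance) h1
    · intro K x hle hx hxK
      obtain ⟨r, hr⟩ := hres x
      have hrK : algebraMap R R' r ∈ K := by
        have := K.sub_mem hxK (hle hr)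
        simpa using this
      have hru : IsUnit r := by
        by_contra hnu
        have hrm : r ∈ maximalIdeal R := (IsLocalRing.mem_maximalIdeal r).mpr hnu
        apply hx
        have h2 : algebraMap R R' r ∈ (maximalIdeal (AdicCompletion (maximalIdeal R) R)).comap
            (ψ : R' →+* _) := by
          rw [← hcomap] at hrm
          exact hrm
        have := Ideal.add_mem _ hr h2
        simpa using this
      have := Ideal.eq_top_of_isUnit_mem K hrK (hru.map (algebraMap R R'))
      rw [this]
      trivial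
  · intro x hx
    rw [← hmC]
    exact hx
  · let b : Fin n → R' := fun i => α (g (Ideal.Quotient.mk 𝔞 (MvPolynomial.X i)))
    have key : ∀ p : MvPolynomial (Fin n) R,
        MvPolynomial.aeval b p = α (g (Ideal.Quotient.mk 𝔞 p)) := by
      intro p
      have : (MvPolynomial.aeval b : MvPolynomial (Fin n) R →ₐ[R] R') =
          (α.comp g).comp (Ideal.Quotient.mkₐ R 𝔞) := by
        apply MvPolynomial.algHom_ext
        intro i
        simp [b]
      exact congr($this p)
    refine ⟨b, fun j => ?_, fun i => ?_⟩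
    · have hmem : F j ∈ 𝔞 := Ideal.subset_span ⟨j, rfl⟩
      rw [key, (Ideal.Quotient.eq_zero_iff_mem).mpr hmem, map_zero, map_zero]
    · have h1 : h (g (Ideal.Quotient.mk 𝔞 (MvPolynomial.X i))) = a i := by
        have := congr($hgh (Ideal.Quotient.mk 𝔞 (MvPolynomial.X i)))
        simpa [f] using this
      have h2 := hψ (g (Ideal.Quotient.mk 𝔞 (MvPolynomial.X i)))
      rw [h1] at h2
      have h3 : J ≤ (maximalIdeal R ^ N).map
          (algebraMap R (AdicCompletion (maximalIdeal R) R)) :=
        Ideal.map_mono (Ideal.pow_le_pow_right (Nat.le_succ N))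
      have h4 := h3 h2
      have h5 := (Ideal.neg_mem_iff _).mpr h4
      rwa [neg_sub] at h5

end Groth.Agent.Lib.Helper12.ArtinApprox
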