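import Mathlib
import Groth.Agent.Lib.Helper26SmoothLift
import Groth.Agent.Lib.Helper26HenselLift
import Groth.Agent.Lib.Helper26SymSmooth

set_option autoImplicit false
set_option linter.style.haveILetI false
universe u
open TensorProduct

namespace Groth.Agent.Lib.Helper12.ArtinApprox

/-- Core construction: `E` étale over a polynomial ring `P` via `g`, `(C, J)` a Henselian pair,
`h : E → C`, `R₁` an étale `R`-algebra mapping to `C` in which the images `h(g Xᵢ)` can be
approximated modulo `J`: then `E → C` factors modulo `J` through an étale `R`-algebra. -/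
theorem exists_etale_core {R E C R₁ : Type u} [CommRing R] [CommRing E] [CommRing C] [CommRing R₁]
    [Algebra R E] [Algebra R C] [Algebra R R₁] [Algebra.Etale R R₁] (J : Ideal C)
    [HenselianRing C J] (h : E →ₐ[R] C) (φ₁ : R₁ →ₐ[R] C) {n : ℕ}
    (g : MvPolynomial (Fin n) R →ₐ[R] E) (hg : (g : MvPolynomial (Fin n) R →+* E).Etale)
    (ρ : Fin n → R₁) (hρ : ∀ i, h (g (MvPolynomial.X i)) - φ₁ (ρ i) ∈ J) :
    ∃ (R' : Type u) (_ : CommRing R') (_ : Algebra R R') (_ : Algebra.Etale R R')
      (α : E →ₐ[R] R') (ψ : R' →ₐ[R] C), ∀ e, ψ (α e) - h e ∈ J := by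
  letI : Algebra (MvPolynomial (Fin n) R) R₁ :=
    (MvPolynomial.aeval ρ : MvPolynomial (Fin n) R →ₐ[R] R₁).toRingHom.toAlgebra
  letI : Algebra (MvPolynomial (Fin n) R) E := (g : MvPolynomial (Fin n) R →+* E).toAlgebra
  haveI : Algebra.Etale (MvPolynomial (Fin n) R) E := RingHom.etale_algebraMap.mp hg
  haveI : IsScalarTower R (MvPolynomial (Fin n) R) R₁ := .of_algebraMap_eq (fun x => by
    change algebraMap R R₁ x = MvPolynomial.aeval ρ (MvPolynomial.C x)
    rw [MvPolynomial.aeval_C])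
  haveI : IsScalarTower R (MvPolynomial (Fin n) R) E := .of_algebraMap_eq (fun x => by
    change algebraMap R E x = g (MvPolynomial.C x)
    rw [← MvPolynomial.algebraMap_eq, g.commutes])
  letI : Algebra (MvPolynomial (Fin n) R) (C ⧸ J) :=
    (((Ideal.Quotient.mkₐ R J).comp φ₁ : R₁ →+* C ⧸ J).comp
      (algebraMap (MvPolynomial (Fin n) R) R₁)).toAlgebra
  have hcomm : ∀ p : MvPolynomial (Fin n) R,
      Ideal.Quotient.mk J (h (g p)) = Ideal.Quotient.mk J (φ₁ (MvPolynomial.aeval ρ p)) := by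
    intro p
    have : ((Ideal.Quotient.mkₐ R J).comp h).comp g =
        ((Ideal.Quotient.mkₐ R J).comp φ₁).comp (MvPolynomial.aeval ρ) := by
      apply MvPolynomial.algHom_ext
      intro i
      simp only [AlgHom.comp_apply, MvPolynomial.aeval_X, Ideal.Quotient.mkₐ_eq_mk]
      rw [Ideal.Quotient.eq]
      exact hρ i
    exact congr($this p)
  let f' : R₁ →ₐ[MvPolynomial (Fin n) R] C ⧸ J :=
    { ((Ideal.Quotient.mk J).comp (φ₁ : R₁ →+* C)) with
      commutes' := fun p => rfl }
  let g' : E →ₐ[MvPolynomial (Fin n) R] C ⧸ J :=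
    { ((Ideal.Quotient.mk J).comp (h : E →+* C)) with
      commutes' := fun p => hcomm p }
  let ψ₁ : R₁ ⊗[MvPolynomial (Fin n) R] E →ₐ[MvPolynomial (Fin n) R] C ⧸ J :=
    Algebra.TensorProduct.lift f' g' (fun _ _ => Commute.all _ _)
  haveI : Algebra.Etale R (R₁ ⊗[MvPolynomial (Fin n) R] E) :=
    Algebra.Etale.comp R R₁ (R₁ ⊗[MvPolynomial (Fin n) R] E)
  let ψ₀ : R₁ ⊗[MvPolynomial (Fin n) R] E →ₐ[R] C ⧸ J :=
    { (ψ₁ : R₁ ⊗[MvPolynomial (Fin n) R] E →+* C ⧸ J) with
      commutes' := fun x => by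
        change ψ₁ ((algebraMap R R₁ x) ⊗ₜ[MvPolynomial (Fin n) R] (1 : E)) = _
        simp only [ψ₁, Algebra.TensorProduct.lift_tmul, map_one, mul_one]
        change Ideal.Quotient.mk J (φ₁ (algebraMap R R₁ x)) = _
        rw [φ₁.commutes]
        rfl }
  obtain ⟨ψ, hψ⟩ := Groth.Agent.Lib.Helper26.HenselLift.exists_algHom_lift J ψ₀
  let α : E →ₐ[R] R₁ ⊗[MvPolynomial (Fin n) R] E :=
    { (Algebra.TensorProduct.includeRight :
        E →ₐ[MvPolynomial (Fin n) R] R₁ ⊗[MvPolynomial (Fin n) R] E).toRingHom with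
      commutes' := fun x => by
        change (1 : R₁) ⊗ₜ[MvPolynomial (Fin n) R] (algebraMap R E x) = _
        rw [IsScalarTower.algebraMap_apply R (MvPolynomial (Fin n) R) E,
          Algebra.algebraMap_eq_smul_one, ← TensorProduct.smul_tmul, Algebra.smul_def, mul_one,
          ← IsScalarTower.algebraMap_apply R (MvPolynomial (Fin n) R) R₁]
        rfl }
  refine ⟨R₁ ⊗[MvPolynomial (Fin n) R] E, inferInstance, inferInstance, inferInstance, α, ψ, ?_⟩
  intro e
  rw [← Ideal.Quotient.eq, hψ]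
  change ψ₁ ((1 : R₁) ⊗ₜ[MvPolynomial (Fin n) R] e) = _
  simp [ψ₁, g']

/-- Version with denominators: elements of `C` are approximated modulo `J` by fractions `r/s` of
elements of `R` with `s` invertible in `C`. -/
theorem exists_etale_of_isStandardSmooth_frac {R E C : Type u} [CommRing R] [CommRing E]
    [CommRing C] [Algebra R E] [Algebra R C] [Algebra.IsStandardSmooth R E] (J : Ideal C)
    [HenselianRing C J]
    (hfrac : ∀ c : C, ∃ r s : R, IsUnit (algebraMap R C s) ∧
      algebraMap R C s * c - algebraMap R C r ∈ J) (h : E →ₐ[R] C) :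
    ∃ (R' : Type u) (_ : CommRing R') (_ : Algebra R R') (_ : Algebra.Etale R R')
      (α : E →ₐ[R] R') (ψ : R' →ₐ[R] C), ∀ e, ψ (α e) - h e ∈ J := by
  classical
  obtain ⟨n, g, hgC, hget⟩ := RingHom.IsStandardSmooth.exists_etale_mvPolynomial
    (f := algebraMap R E) (RingHom.isStandardSmooth_algebraMap.mpr inferInstance)
  have hgC' : ∀ x : R, g (MvPolynomial.C x) = algebraMap R E x := fun x => congr($hgC x)
  let gA : MvPolynomial (Fin n) R →ₐ[R] E := { g with commutes' := fun x => hgC' x }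
  have hch : ∀ i : Fin n, ∃ r s : R, IsUnit (algebraMap R C s) ∧
      algebraMap R C s * h (gA (MvPolynomial.X i)) - algebraMap R C r ∈ J := fun i => hfrac _
  choose r s hs hr using hch
  let S : R := ∏ i, s i
  have hS : IsUnit (algebraMap R C S) := by
    rw [map_prod]
    exact IsUnit.prod_univ_iff.mpr hs
  haveI : Algebra.Etale R (Localization.Away S) := Algebra.Etale.of_isLocalizationAway S
  let φ₁ : Localization.Away S →ₐ[R] C :=
    IsLocalization.liftAlgHom (M := Submonoid.powers S) (f := Algebra.ofId R C) (by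
      rintro ⟨_, k, rfl⟩
      change IsUnit (algebraMap R C (S ^ k))
      rw [map_pow]
      exact hS.pow k)
  have hφ₁ : ∀ x : R, φ₁ (algebraMap R (Localization.Away S) x) = algebraMap R C x :=
    fun x => φ₁.commutes x
  have hunit : ∀ i, IsUnit (algebraMap R (Localization.Away S) (s i)) := fun i =>
    isUnit_of_dvd_unit (map_dvd _ (Finset.dvd_prod_of_mem s (Finset.mem_univ i)))
      (IsLocalization.Away.algebraMap_isUnit S)
  let ρ : Fin n → Localization.Away S := fun i =>
    algebraMap R (Localization.Away S) (r i) * ↑(hunit i).unit⁻¹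
  have hρ : ∀ i, h (gA (MvPolynomial.X i)) - φ₁ (ρ i) ∈ J := by
    intro i
    have h1 : algebraMap R C (s i) * φ₁ (ρ i) = algebraMap R C (r i) := by
      rw [← hφ₁ (s i), ← map_mul, ← hφ₁ (r i)]
      congr 1
      change algebraMap R (Localization.Away S) (s i) *
        (algebraMap R (Localization.Away S) (r i) * ↑(hunit i).unit⁻¹) = _
      rw [mul_comm, mul_assoc, IsUnit.val_inv_mul, mul_one]
    have h2 : algebraMap R C (s i) * (h (gA (MvPolynomial.X i)) - φ₁ (ρ i)) ∈ J := by
      rw [mul_sub, h1]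
      exact hr i
    obtain ⟨u, hu⟩ := hs i
    have h3 := J.mul_mem_left (↑u⁻¹ : C) h2
    rwa [← hu, ← mul_assoc, Units.inv_mul, one_mul] at h3
  exact exists_etale_core J h φ₁ gA hget ρ hρ

/-- The same for smooth algebras. -/
theorem exists_etale_of_smooth_frac {R B C : Type u} [CommRing R] [CommRing B] [CommRing C]
    [Algebra R B] [Algebra R C] [Algebra.Smooth R B] (J : Ideal C) [HenselianRing C J]
    (hfrac : ∀ c : C, ∃ r s : R, IsUnit (algebraMap R C s) ∧
      algebraMap R C s * c - algebraMap R C r ∈ J) (h : B →ₐ[R] C) :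
    ∃ (R' : Type u) (_ : CommRing R') (_ : Algebra R R') (_ : Algebra.Etale R R')
      (α : B →ₐ[R] R') (ψ : R' →ₐ[R] C), ∀ e, ψ (α e) - h e ∈ J := by
  obtain ⟨B', _, _, _, _, -, ⟨ρ⟩, hstd⟩ :=
    Groth.Agent.Lib.Helper26.SymSmooth.exists_smooth_retract_isStandardSmooth R B
  obtain ⟨R', _, _, hR', α', ψ, hψ⟩ :=
    exists_etale_of_isStandardSmooth_frac J hfrac (h.comp (ρ.restrictScalars R))
  refine ⟨R', inferInstance, inferInstance, hR', α'.comp (IsScalarTower.toAlgHom R B B'), ψ, ?_⟩
  intro e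
  have := hψ (algebraMap B B' e)
  simp only [AlgHom.comp_apply, AlgHom.restrictScalars_apply, AlgHom.commutes] at this
  simpa using this

end Groth.Agent.Lib.Helper12.ArtinApprox
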