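import Mathlib
import Groth.Prelude.Def_Found
import Groth.Agent.Lib.Helper12ArtinApproxB
import Groth.Agent.Lib.Helper12ArtinApproxC
import Groth.Agent.Lib.Helper7RegLoc
import Groth.Agent.Lib.Helper7RegComp

set_option autoImplicit false
set_option linter.style.haveILetI false
universe u
open TensorProduct IsLocalRing

namespace Groth.Agent.Lib.Helper12.ArtinApprox

/-- Artin approximation in an étale neighbourhood of a prime `p` with `R_p` a G-ring. -/
theorem artin_approx_etale_at_prime {R : Type u} [CommRing R] [IsNoetherianRing R]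
    (p : Ideal R) [p.IsPrime] (Rp : Type u) [CommRing Rp] [Algebra R Rp] [IsLocalization.AtPrime Rp p]
    [IsLocalRing Rp] (hG : CAlg.IsGRing Rp) {n m : ℕ}
    (F : Fin m → MvPolynomial (Fin n) R)
    (a : Fin n → AdicCompletion (IsLocalRing.maximalIdeal Rp) Rp)
    (ha : ∀ j, MvPolynomial.aeval a (MvPolynomial.map (algebraMap R Rp) (F j)) = 0) (N : ℕ) :
    ∃ (R' : Type u) (_ : CommRing R') (_ : Algebra R R'), Algebra.Etale R R' ∧
      ∃ (ψ : R' →+* AdicCompletion (IsLocalRing.maximalIdeal Rp) Rp)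
        (p' : Ideal R'), p'.IsPrime ∧
        (∀ r : R, ψ (algebraMap R R' r) =
          algebraMap Rp _ (algebraMap R Rp r)) ∧
        p'.comap (algebraMap R R') = p ∧
        (∀ x : R', ∃ r s : R, s ∉ p ∧ algebraMap R R' s * x - algebraMap R R' r ∈ p') ∧
        (∀ x ∈ p', ψ x ∈ (IsLocalRing.maximalIdeal Rp).map
          (algebraMap Rp (AdicCompletion (IsLocalRing.maximalIdeal Rp) Rp))) ∧
        ∃ b : Fin n → R', (∀ j, MvPolynomial.aeval b (F j) = 0) ∧
          ∀ i, a i - ψ (b i) ∈ (IsLocalRing.maximalIdeal Rp ^ N).map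
            (algebraMap Rp (AdicCompletion (IsLocalRing.maximalIdeal Rp) Rp)) := by
  classical
  let C := AdicCompletion (maximalIdeal Rp) Rp
  haveI : IsNoetherianRing Rp := IsLocalization.isNoetherianRing p.primeCompl _ inferInstance
  haveI : IsNoetherianRing C := inferInstance
  have hreg1 : CAlg.IsRegularHom R Rp :=
    Groth.Agent.Lib.Helper7.RegLoc.isRegularHom_localization_self R p.primeCompl Rp
  have hreg2 : CAlg.IsRegularHom Rp C :=
    Groth.Agent.Lib.Helper7.ExcDim1.isRegularHom_cpl_of_isGRing Rp hG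
  have hreg : CAlg.IsRegularHom R C :=
    Groth.Agent.Lib.Helper7.RegComp.isRegularHom_comp R Rp C hreg1 hreg2
  have hmC : maximalIdeal C = (maximalIdeal Rp).map (algebraMap Rp C) :=
    AdicCompletion.maximalIdeal_eq_map
  -- the finitely presented algebra
  let 𝔞 : Ideal (MvPolynomial (Fin n) R) := Ideal.span (Set.range F)
  have h𝔞fg : 𝔞.FG := ⟨Finset.univ.image F, by simp [𝔞]⟩
  haveI : Algebra.FinitePresentation R (MvPolynomial (Fin n) R ⧸ 𝔞) :=
    Algebra.FinitePresentation.quotient h𝔞fg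
  have hker : 𝔞 ≤ RingHom.ker (MvPolynomial.aeval a : MvPolynomial (Fin n) R →ₐ[R] C) := by
    rw [Ideal.span_le]
    rintro _ ⟨j, rfl⟩
    have := ha j
    rw [MvPolynomial.aeval_map_algebraMap] at this
    exact this
  let f : (MvPolynomial (Fin n) R ⧸ 𝔞) →ₐ[R] C :=
    Ideal.Quotient.liftₐ 𝔞 (MvPolynomial.aeval a) (fun q hq => hker hq)
  obtain ⟨B, _, _, hB, g, h, hgh⟩ :=
    Groth.Agent.Lib.Helper7.Smoothing.indSmooth_of_isRegularHom R C hreg
      (MvPolynomial (Fin n) R ⧸ 𝔞) inferInstance f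
  -- the Henselian pair
  let J : Ideal C := (maximalIdeal Rp ^ (N + 1)).map (algebraMap Rp C)
  have hJle : J ≤ (maximalIdeal Rp).map (algebraMap Rp C) :=
    Ideal.map_mono (Ideal.pow_le_self (Nat.succ_ne_zero N))
  haveI hH0 : HenselianRing C ((maximalIdeal Rp).map (algebraMap Rp C)) := by
    haveI := AdicCompletion.isAdicComplete_self (maximalIdeal Rp)
      (IsNoetherian.noetherian (maximalIdeal Rp))
    infer_instance
  haveI hH : HenselianRing C J := Groth.Agent.Lib.Helper2.henselianRing_of_le _ J hH0 hJle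
  -- fractions
  have hfrac : ∀ (k : ℕ) (c : C), ∃ r s : R, s ∉ p ∧ IsUnit (algebraMap R C s) ∧
      algebraMap R C s * c - algebraMap R C r ∈ (maximalIdeal Rp ^ k).map (algebraMap Rp C) := by
    intro k c
    obtain ⟨ρ, hρ⟩ := exists_sub_mem_map_pow (maximalIdeal Rp) k c
    obtain ⟨⟨r, s⟩, hrs⟩ := IsLocalization.surj p.primeCompl ρ
    refine ⟨r, s, s.2, ?_, ?_⟩
    · rw [IsScalarTower.algebraMap_apply R Rp C]
      exact (IsLocalization.map_units Rp s).map _
    · have h1 : algebraMap R C r = algebraMap Rp C (algebraMap R Rp s) * algebraMap Rp C ρ := by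
        rw [← map_mul, mul_comm, hrs, ← IsScalarTower.algebraMap_apply R Rp C]
      rw [h1, IsScalarTower.algebraMap_apply R Rp C, ← mul_sub]
      exact Ideal.mul_mem_left _ _ hρ
  obtain ⟨R', _, _, hR', α, ψ, hψ⟩ :=
    exists_etale_of_smooth_frac J (fun c => by
      obtain ⟨r, s, -, hs, hr⟩ := hfrac (N + 1) c
      exact ⟨r, s, hs, hr⟩) h
  have hcomap : ((maximalIdeal C).comap (ψ : R' →+* C)).comap (algebraMap R R') = p := by
    rw [Ideal.comap_comap]
    have : (ψ : R' →+* C).comp (algebraMap R R') = (algebraMap Rp C).comp (algebraMap R Rp) := by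
      rw [ψ.comp_algebraMap]
      exact IsScalarTower.algebraMap_eq R Rp C
    rw [this, ← Ideal.comap_comap, IsLocalRing.maximalIdeal_comap]
    exact IsLocalization.AtPrime.comap_maximalIdeal Rp p
  refine ⟨R', inferInstance, inferInstance, hR', (ψ : R' →+* C),
    (maximalIdeal C).comap (ψ : R' →+* C), inferInstance, fun r => by
      change ψ (algebraMap R R' r) = _
      rw [ψ.commutes, IsScalarTower.algebraMap_apply R Rp C], hcomap, ?_, ?_, ?_⟩
  · intro x
    obtain ⟨r, s, hs, -, hr⟩ := hfrac 1 (ψ x)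
    refine ⟨r, s, hs, ?_⟩
    rw [Ideal.mem_comap, map_sub, map_mul, hmC]
    rw [pow_one] at hr
    simpa using hr
  · intro x hx
    rw [← hmC]
    exact hx
  · let b : Fin n → R' := fun i => α (g (Ideal.Quotient.mk 𝔞 (MvPolynomial.X i)))
    have key : ∀ q : MvPolynomial (Fin n) R,
        MvPolynomial.aeval b q = α (g (Ideal.Quotient.mk 𝔞 q)) := by
      intro q
      have : (MvPolynomial.aeval b : MvPolynomial (Fin n) R →ₐ[R] R') =
          (α.comp g).comp (Ideal.Quotient.mkₐ R 𝔞) := by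
        apply MvPolynomial.algHom_ext
        intro i
        simp [b]
      exact congr($this q)
    refine ⟨b, fun j => ?_, fun i => ?_⟩
    · have hmem : F j ∈ 𝔞 := Ideal.subset_span ⟨j, rfl⟩
      rw [key, (Ideal.Quotient.eq_zero_iff_mem).mpr hmem, map_zero, map_zero]
    · have h1 : h (g (Ideal.Quotient.mk 𝔞 (MvPolynomial.X i))) = a i := by
        have := congr($hgh (Ideal.Quotient.mk 𝔞 (MvPolynomial.X i)))
        simpa [f] using this
      have h2 := hψ (g (Ideal.Quotient.mk 𝔞 (MvPolynomial.X i)))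
      rw [h1] at h2
      have h3 : J ≤ (maximalIdeal Rp ^ N).map (algebraMap Rp C) :=
        Ideal.map_mono (Ideal.pow_le_pow_right (Nat.le_succ N))
      have h4 := h3 h2
      have h5 := (Ideal.neg_mem_iff _).mpr h4
      rwa [neg_sub] at h5

end Groth.Agent.Lib.Helper12.ArtinApprox
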