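import Mathlib
import Groth.Prelude.Def_AlgSp
import Groth.Prelude.Def_AlgSpDec
import Groth.Agent.S10176
import Groth.Agent.S10177
import Groth.Agent.Lib.Helper12Descent

set_option autoImplicit false
universe u
open CategoryTheory CategoryTheory.Limits AlgebraicGeometry Opposite MorphismProperty
open AlgSp

namespace Groth.Agent.Lib.Helper12.AtlasDescent

variable {S : Scheme.{u}}

/-- **descent of `RepWith P` along an atlas**, for a representable morphism: if the base change of
`f` to one etale surjective chart of the target has `P`, then `f` is representable with `P`. -/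
theorem repWith_of_atlas (P : MorphismProperty Scheme.{u}) [P.IsStableUnderBaseChange]
    [P.DescendsAlong (@Surjective ⊓ @Flat ⊓ @LocallyOfFinitePresentation)]
    {F X : AlgSp.Sp S} (f : F ⟶ X) (hf : AlgSp.Representable f) {A : Over S}
    (a : (AlgSp.yon S).obj A ⟶ X) (hae : AlgSp.RepWith @Etale a)
    (has : AlgSp.RepWith @Surjective a) {FA : Over S} (fstA : (AlgSp.yon S).obj FA ⟶ F)
    (sndA : FA ⟶ A) (sqA : IsPullback fstA ((AlgSp.yon S).map sndA) f a) (h : P sndA.left) :
    AlgSp.RepWith P f := by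
  refine ⟨hf, fun T W g fst snd sq => ?_⟩
  obtain ⟨T1, t1, v', sqT⟩ := hae.1 g
  obtain ⟨v, rfl⟩ := (AlgSp.yon S).map_surjective v'
  haveI : Etale t1.left := hae.2 _ _ t1 sqT
  haveI : Surjective t1.left := has.2 _ _ t1 sqT
  -- base change of `snd` to `T1`
  have sqW := IsPullback.of_hasPullback snd t1
  obtain ⟨w1, hw1⟩ : ∃ w1 : pullback snd t1 ⟶ W, w1 = pullback.fst snd t1 := ⟨_, rfl⟩
  obtain ⟨k, hk⟩ : ∃ k : pullback snd t1 ⟶ T1, k = pullback.snd snd t1 := ⟨_, rfl⟩
  rw [← hw1, ← hk] at sqW
  have big : IsPullback ((AlgSp.yon S).map w1 ≫ fst) ((AlgSp.yon S).map k) f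
      ((AlgSp.yon S).map t1 ≫ g) := (sqW.map (AlgSp.yon S)).paste_horiz sq
  rw [← sqT.w] at big
  have bigw : ((AlgSp.yon S).map w1 ≫ fst) ≫ f = ((AlgSp.yon S).map k ≫ (AlgSp.yon S).map v) ≫ a := by
    rw [Category.assoc _ _ a]; exact big.w
  obtain ⟨m, hm⟩ := (AlgSp.yon S).map_surjective (sqA.lift _ _ bigw)
  have hm1 : (AlgSp.yon S).map m ≫ fstA = (AlgSp.yon S).map w1 ≫ fst := by
    rw [hm, sqA.lift_fst]
  have hm2 : m ≫ sndA = k ≫ v := by
    apply (AlgSp.yon S).map_injective
    rw [Functor.map_comp, hm, sqA.lift_snd, Functor.map_comp]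
  have left : IsPullback ((AlgSp.yon S).map m) ((AlgSp.yon S).map k) ((AlgSp.yon S).map sndA)
      ((AlgSp.yon S).map v) := by
    refine IsPullback.of_right ?_ ?_ sqA
    · rw [hm1]; exact big
    · rw [← Functor.map_comp, ← Functor.map_comp, hm2]
  have left' : IsPullback m k sndA v := IsPullback.of_map (AlgSp.yon S) hm2 left
  have lefts : IsPullback m.left k.left sndA.left v.left := left'.map (Over.forget S)
  have hPk : P k.left := P.of_isPullback lefts h
  have hsq : IsPullback w1.left k.left snd.left t1.left := sqW.map (Over.forget S)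
  have hQ : (@Surjective ⊓ @Flat ⊓ @LocallyOfFinitePresentation : MorphismProperty Scheme.{u})
      t1.left := ⟨⟨inferInstance, inferInstance⟩, inferInstance⟩
  exact MorphismProperty.of_isPullback_of_descendsAlong (P := P)
    (Q := @Surjective ⊓ @Flat ⊓ @LocallyOfFinitePresentation) hsq.flip hQ hPk

/-- **quasi-compactness of a monomorphic point from finiteness of fibres.**  A monomorphism
`Spec k ⟶ X` into an algebraic space is representable quasi-compact as soon as the fibre over its
point of every etale chart from an affine scheme is finite. -/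
theorem repWith_quasiCompact_of_finite_fibres {X : AlgSp.Sp S} (hX : AlgSp.IsAlgSpace X)
    (p : AlgSp.FieldPt X) (hm : Mono p.toHom)
    (H : ∀ (V : Over S) (b : (AlgSp.yon S).obj V ⟶ X), IsAffine V.left → AlgSp.RepWith @Etale b →
      (AlgSp.Points.ofPt b ⁻¹' {AlgSp.Points.mk p}).Finite) :
    AlgSp.RepWith @QuasiCompact p.toHom := by
  haveI := Groth.Agent.Lib.Helper12.descendsAlong_quasiCompact.{u}
  obtain ⟨A, a, hae, has⟩ := hX.atlas
  obtain ⟨FA, sndA, fstA', sqA⟩ := (hX.representable_from_yon p.toHom) a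
  obtain ⟨fstA, rfl⟩ := (AlgSp.yon S).map_surjective fstA'
  refine repWith_of_atlas @QuasiCompact p.toHom (hX.representable_from_yon _) a hae has
    ((AlgSp.yon S).map fstA) sndA sqA ?_
  -- `sndA` is injective on points
  haveI : Mono ((AlgSp.yon S).map sndA) := sqA.mono_snd_of_mono
  haveI : Mono sndA := (AlgSp.yon S).mono_of_mono_map inferInstance
  haveI : Mono sndA.left := (Over.forget S).map_mono sndA
  have hinj : Function.Injective sndA.left := sndA.left.injective
  rw [quasiCompact_iff_forall_isAffineOpen]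
  intro A₀ hA₀
  let V : Over S := Over.mk (A₀.ι ≫ A.hom)
  let j : V ⟶ A := Over.homMk A₀.ι rfl
  have hb : AlgSp.RepWith @Etale ((AlgSp.yon S).map j ≫ a) :=
    (AlgSp.RepWith @Etale).comp_mem _ _
      ((AlgSp.repWith_yon_map_iff _ _).2 (inferInstance : Etale A₀.ι)) hae
  have hfin := H V _ hA₀ hb
  refine Set.Finite.isCompact ?_
  refine Set.Finite.of_finite_image ((hfin.image j.left).subset ?_) hinj.injOn
  rintro _ ⟨f, hf, rfl⟩
  obtain ⟨v, hv⟩ : ∃ v : ↥V.left, j.left v = sndA.left f := ⟨⟨sndA.left f, hf⟩, rfl⟩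
  refine ⟨v, ?_, hv⟩
  rw [Set.mem_preimage, Set.mem_singleton_iff, Groth.Agent.S10176.ofPt_map_comp, hv,
    ← Groth.Agent.S10176.ofPt_map_comp, ← sqA.w, Groth.Agent.S10176.ofPt_map_comp,
    AlgSp.Points.ofPt_toHom]

end Groth.Agent.Lib.Helper12.AtlasDescent
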