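import Mathlib
import Groth.Prelude.Def_AlgSp2
import Groth.Agent.S13210
import Groth.Agent.Lib.Helper12OpenSub

set_option autoImplicit false
universe u
open CategoryTheory CategoryTheory.Limits AlgebraicGeometry Opposite
open AlgSp

namespace Groth.Agent.Lib.Helper12.BaseChg

open Groth.Agent.S13210 Groth.Agent.Lib.Helper12.OpenSub

variable {S S' : Scheme.{u}} (g : S ⟶ S')

/-- restriction of fppf sheaves along `g : S ⟶ S'`. -/
noncomputable abbrev Res : AlgSp.Sp S' ⥤ AlgSp.Sp S :=
  Scheme.fppfTopology.overMapPullback (Type (u + 1)) g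

/-- a scheme over `S` viewed over `S'`. -/
abbrev fl (T : Over S) : Over S' := (Over.map g).obj T

/-- `h_T ⟶ Res F'` over `S` corresponds to `h_{T♭} ⟶ F'` over `S'`. -/
noncomputable def ψ (F' : AlgSp.Sp S') (T : Over S) :
    ((AlgSp.yon S).obj T ⟶ (Res g).obj F') ≃ ((AlgSp.yon S').obj (fl g T) ⟶ F') :=
  (yEquiv T ((Res g).obj F')).trans (yEquiv (fl g T) F').symm

lemma ψ_map_comp {F' : AlgSp.Sp S'} {T T₀ : Over S} (t : T₀ ⟶ T)
    (a : (AlgSp.yon S).obj T ⟶ (Res g).obj F') :
    ψ g F' T₀ ((AlgSp.yon S).map t ≫ a) =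
      (AlgSp.yon S').map ((Over.map g).map t) ≫ ψ g F' T a := by
  have h1 : (AlgSp.yon S).map t ≫ a =
      (yEquiv T₀ ((Res g).obj F')).symm (((Res g).obj F').obj.map t.op (yEquiv T _ a)) := by
    rw [yEquiv_symm_map, Equiv.symm_apply_apply]
  show (yEquiv (fl g T₀) F').symm (yEquiv T₀ _ ((AlgSp.yon S).map t ≫ a)) = _
  rw [h1, Equiv.apply_symm_apply]
  exact yEquiv_symm_map ((Over.map g).map t) _

lemma ψ_comp_map {F' G' : AlgSp.Sp S'} {T : Over S}
    (a : (AlgSp.yon S).obj T ⟶ (Res g).obj F') (m : F' ⟶ G') :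
    ψ g G' T (a ≫ (Res g).map m) = ψ g F' T a ≫ m := by
  show (yEquiv (fl g T) G').symm (yEquiv T _ (a ≫ (Res g).map m)) = _
  rw [yEquiv_comp]
  exact (yEquiv_symm_comp m _).symm

lemma ψ_symm_comp_map {F' G' : AlgSp.Sp S'} {T : Over S}
    (a' : (AlgSp.yon S').obj (fl g T) ⟶ F') (m : F' ⟶ G') :
    (ψ g F' T).symm a' ≫ (Res g).map m = (ψ g G' T).symm (a' ≫ m) := by
  apply (ψ g G' T).injective
  rw [ψ_comp_map, Equiv.apply_symm_apply, Equiv.apply_symm_apply]

lemma ψ_symm_map_comp {F' : AlgSp.Sp S'} {T T₀ : Over S} (t : T₀ ⟶ T)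
    (a' : (AlgSp.yon S').obj (fl g T) ⟶ F') :
    (AlgSp.yon S).map t ≫ (ψ g F' T).symm a' =
      (ψ g F' T₀).symm ((AlgSp.yon S').map ((Over.map g).map t) ≫ a') := by
  apply (ψ g F' T₀).injective
  rw [ψ_map_comp, Equiv.apply_symm_apply, Equiv.apply_symm_apply]

/-- the unit `h_T ⟶ Res h_{T♭}`. -/
noncomputable def η (T : Over S) :
    (AlgSp.yon S).obj T ⟶ (Res g).obj ((AlgSp.yon S').obj (fl g T)) :=
  (ψ g _ T).symm (𝟙 _)

lemma η_comp_res {F' : AlgSp.Sp S'} {T : Over S} (a' : (AlgSp.yon S').obj (fl g T) ⟶ F') :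
    η g T ≫ (Res g).map a' = (ψ g F' T).symm a' := by
  rw [η, ψ_symm_comp_map, Category.id_comp]

section OverOf

variable {g}
variable (T : Over S) {W' : Over S'} (w : W' ⟶ fl g T)

/-- a scheme over `S'` mapping to `T♭`, viewed over `S` through `T`. -/
abbrev overOf : Over S := Over.mk (w.left ≫ T.hom)

/-- the map `W ⟶ T` over `S`. -/
abbrev overOfι : overOf T w ⟶ T := Over.homMk w.left rfl

/-- `W♭ ≅ W'`. -/
noncomputable def overOfIso : fl g (overOf T w) ≅ W' :=
  Over.isoMk (Iso.refl _) (by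
    have h := Over.w w
    simp only [Over.map_obj_hom] at h
    simp only [Over.map_obj_left, Over.mk_left, Over.map_obj_hom, Over.mk_hom, Iso.refl_hom,
      Category.id_comp, Category.assoc]
    exact h.symm)

lemma overOfIso_hom_left : (overOfIso T w).hom.left = 𝟙 _ := rfl

lemma overOfIso_hom_comp : (overOfIso T w).hom ≫ w = (Over.map g).map (overOfι T w) := by
  apply Over.OverMorphism.ext
  simp only [Over.comp_left, overOfIso_hom_left, Over.map_map_left, Over.homMk_left]
  exact Category.id_comp _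

end OverOf

/-- the unit square: `h_W = h_T ×_{Res h_{T♭}} Res h_{W'}`. -/
lemma isPullback_unit (T : Over S) {W' : Over S'} (w : W' ⟶ fl g T) :
    IsPullback ((ψ g _ (overOf T w)).symm ((AlgSp.yon S').map (overOfIso T w).hom))
      ((AlgSp.yon S).map (overOfι T w)) ((Res g).map ((AlgSp.yon S').map w)) (η g T) := by
  refine isPullback_of_yon ?_ ?_
  · rw [ψ_symm_comp_map, ← Functor.map_comp, overOfIso_hom_comp, η, ψ_symm_map_comp,
      Category.comp_id]
  · intro T₀ b c hbc
    obtain ⟨t, rfl⟩ := (AlgSp.yon S).map_surjective c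
    obtain ⟨l₀, hl₀⟩ := (AlgSp.yon S').map_surjective (ψ g _ T₀ b)
    have h1 : l₀ ≫ w = (Over.map g).map t := by
      apply (AlgSp.yon S').map_injective
      rw [Functor.map_comp, hl₀, ← ψ_comp_map, hbc, ψ_map_comp, η, Equiv.apply_symm_apply,
        Category.comp_id]
    have h1l : l₀.left ≫ w.left = t.left := congrArg (fun m => m.left) h1
    let l : T₀ ⟶ overOf T w := Over.homMk l₀.left (by
      simp only [Over.mk_hom]
      rw [← Category.assoc, h1l, Over.w t])
    have hl : (Over.map g).map l ≫ (overOfIso T w).hom = l₀ := by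
      apply Over.OverMorphism.ext
      simp only [Over.comp_left, overOfIso_hom_left, Over.map_map_left, l, Over.homMk_left]
      exact Category.comp_id _
    refine ⟨(AlgSp.yon S).map l, ⟨?_, ?_⟩, ?_⟩
    · rw [ψ_symm_map_comp, ← Functor.map_comp, hl, hl₀, Equiv.symm_apply_apply]
    · rw [← Functor.map_comp]
      congr 1
      apply Over.OverMorphism.ext
      simp only [Over.comp_left, l, Over.homMk_left]
      exact h1l
    · rintro m ⟨hm1, hm2⟩
      obtain ⟨m₀, rfl⟩ := (AlgSp.yon S).map_surjective m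
      congr 1
      have h2 : (Over.map g).map m₀ ≫ (overOfIso T w).hom = l₀ := by
        apply (AlgSp.yon S').map_injective
        rw [hl₀, ← hm1, ψ_symm_map_comp, Equiv.apply_symm_apply, Functor.map_comp]
      have h3 : m₀.left ≫ 𝟙 _ = l₀.left := congrArg (fun m => m.left) h2
      apply Over.OverMorphism.ext
      show m₀.left = l₀.left
      rw [← h3, Category.comp_id]

/-- transfer of a pullback square over `S'` with a corner `h_{T♭}` to a pullback square over `S`
with corner `h_T`. -/
lemma isPullback_transfer {X' Z' : AlgSp.Sp S'} (f' : X' ⟶ Z') {T : Over S}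
    (a' : (AlgSp.yon S').obj (fl g T) ⟶ Z') {W' : Over S'} (w : W' ⟶ fl g T)
    (fst' : (AlgSp.yon S').obj W' ⟶ X') (sq' : IsPullback fst' ((AlgSp.yon S').map w) f' a') :
    IsPullback ((ψ g X' (overOf T w)).symm ((AlgSp.yon S').map (overOfIso T w).hom ≫ fst'))
      ((AlgSp.yon S).map (overOfι T w)) ((Res g).map f') ((ψ g Z' T).symm a') := by
  have h1 := isPullback_unit g T w
  have h2 := sq'.map (Res g)
  have h3 := h1.paste_horiz h2
  rw [ψ_symm_comp_map, η_comp_res] at h3
  exact h3

/-- a morphism of sheaves bijective on `h_T`-points is an isomorphism. -/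
lemma isIso_of_yon_bijective {A B : AlgSp.Sp S} (m : A ⟶ B)
    (h : ∀ T : Over S, Function.Bijective (fun a : (AlgSp.yon S).obj T ⟶ A => a ≫ m)) :
    IsIso m := by
  haveI : IsIso ((sheafToPresheaf _ _).map m) := by
    rw [NatTrans.isIso_iff_isIso_app]
    rintro ⟨T⟩
    rw [isIso_iff_bijective]
    have he : ⇑(ConcreteCategory.hom (((sheafToPresheaf _ _).map m).app (op T))) =
        (yEquiv T B) ∘ (fun a : (AlgSp.yon S).obj T ⟶ A => a ≫ m) ∘ (yEquiv T A).symm := by
      funext x
      simp only [Function.comp_apply]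
      rw [yEquiv_comp, Equiv.apply_symm_apply]
      rfl
    rw [he]
    exact (yEquiv T B).bijective.comp ((h T).comp (yEquiv T A).symm.bijective)
  exact isIso_of_reflects_iso m (sheafToPresheaf _ _)

/-- the counit `(X' ×_{S'} S)♭ ⟶ X'`. -/
noncomputable abbrev ε (X' : Over S') : fl g ((Over.pullback g).obj X') ⟶ X' :=
  (Over.mapPullbackAdj g).counit.app X'

/-- the comparison `h_{X' ×_{S'} S} ⟶ Res h_{X'}`. -/
noncomputable def ρ (X' : Over S') :
    (AlgSp.yon S).obj ((Over.pullback g).obj X') ⟶ (Res g).obj ((AlgSp.yon S').obj X') :=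
  (ψ g _ _).symm ((AlgSp.yon S').map (ε g X'))

lemma ψ_map_comp_ρ {X' : Over S'} {T : Over S} (b : T ⟶ (Over.pullback g).obj X') :
    ψ g _ T ((AlgSp.yon S).map b ≫ ρ g X') =
      (AlgSp.yon S').map (((Over.mapPullbackAdj g).homEquiv T X').symm b) := by
  rw [ψ_map_comp, ρ, Equiv.apply_symm_apply, ← Functor.map_comp,
    Adjunction.homEquiv_counit]

instance (X' : Over S') : IsIso (ρ g X') := by
  apply isIso_of_yon_bijective
  intro T
  have he : (fun a : (AlgSp.yon S).obj T ⟶ _ => a ≫ ρ g X') =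
      (ψ g _ T).symm ∘ (AlgSp.yon S').map ∘ ((Over.mapPullbackAdj g).homEquiv T X').symm ∘
        (AlgSp.yon S).preimage := by
    funext a
    obtain ⟨b, rfl⟩ := (AlgSp.yon S).map_surjective a
    simp only [Function.comp_apply, Functor.preimage_map]
    rw [← ψ_map_comp_ρ, Equiv.symm_apply_apply]
  rw [he]
  refine (ψ g _ T).symm.bijective.comp (Function.Bijective.comp ?_
    (Function.Bijective.comp (Equiv.bijective _) ?_))
  · exact ⟨(AlgSp.yon S').map_injective, (AlgSp.yon S').map_surjective⟩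
  · exact ⟨fun a b hab => by
      rw [← (AlgSp.yon S).map_preimage a, ← (AlgSp.yon S).map_preimage b, hab],
      fun b => ⟨(AlgSp.yon S).map b, (AlgSp.yon S).preimage_map b⟩⟩

/-- `Res h_{X'}` is represented by `X' ×_{S'} S`. -/
noncomputable def representableBy (X' : Over S') :
    ((Res g).obj ((AlgSp.yon S').obj X')).obj.RepresentableBy
      (Over.mk (pullback.snd X'.hom g)) where
  homEquiv {T} := (((Over.mapPullbackAdj g).homEquiv T X').symm.trans Equiv.ulift.symm :
    (T ⟶ (Over.pullback g).obj X') ≃ ULift.{u + 1} (fl g T ⟶ X'))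
  homEquiv_comp {T T₀} t b := by
    apply ULift.ext
    exact (Over.mapPullbackAdj g).homEquiv_naturality_left_symm t b

/-- `Res` preserves representable morphisms. -/
lemma representable_res {X' Z' : AlgSp.Sp S'} (f' : X' ⟶ Z') (hf' : AlgSp.Representable f') :
    AlgSp.Representable ((Res g).map f') := by
  intro T x
  obtain ⟨W', w, fst', sq'⟩ := hf' (ψ g _ T x)
  have h := isPullback_transfer g f' (ψ g _ T x) w fst' sq'
  rw [Equiv.symm_apply_apply] at h
  exact ⟨overOf T w, overOfι T w, _, h⟩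

/-- `Res` preserves representable morphisms with a property `P`. -/
lemma repWith_res (P : MorphismProperty Scheme.{u}) [P.RespectsIso] {X' Z' : AlgSp.Sp S'}
    (f' : X' ⟶ Z') (hf' : AlgSp.RepWith P f') : AlgSp.RepWith P ((Res g).map f') := by
  apply MorphismProperty.relative.of_exists
  intro T x
  obtain ⟨W', w, fst', sq'⟩ := hf'.1 (ψ g _ T x)
  have hP : P w.left := hf'.2 _ _ w sq'
  have h := isPullback_transfer g f' (ψ g _ T x) w fst' sq'
  rw [Equiv.symm_apply_apply] at h
  exact ⟨overOf T w, _, overOfι T w, h, hP⟩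

/-- the restriction of an algebraic space over `S'` to `S` is an algebraic space. -/
theorem isAlgSpace_res {F' : AlgSp.Sp S'} (hF' : AlgSp.IsAlgSpace F') :
    AlgSp.IsAlgSpace ((Res g).obj F') := by
  constructor
  · have h1 := representable_res g (Limits.diag F') hF'.diag
    have hθ : (Res g).map (Limits.diag F') ≫ prodComparison (Res g) F' F' =
        Limits.diag ((Res g).obj F') := by
      apply Limits.prod.hom_ext
      · rw [Category.assoc, prodComparison_fst, ← Functor.map_comp, Limits.diag, Limits.diag,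
          prod.lift_fst, prod.lift_fst]
        exact (Res g).map_id _
      · rw [Category.assoc, prodComparison_snd, ← Functor.map_comp, Limits.diag, Limits.diag,
          prod.lift_snd, prod.lift_snd]
        exact (Res g).map_id _
    rw [← hθ]
    exact MorphismProperty.RespectsIso.postcomp _ _ _ h1
  · obtain ⟨U', c', hce, hcs⟩ := hF'.atlas
    refine ⟨(Over.pullback g).obj U', ρ g U' ≫ (Res g).map c', ?_, ?_⟩
    · exact MorphismProperty.RespectsIso.precomp _ _ _ (repWith_res g @Etale c' hce)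
    · exact MorphismProperty.RespectsIso.precomp _ _ _ (repWith_res g @Surjective c' hcs)

end Groth.Agent.Lib.Helper12.BaseChg
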