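import Groth.Agent.Lib.Helper9Shf
import Mathlib.CategoryTheory.Sites.CartesianMonoidal
import Mathlib.CategoryTheory.Monoidal.Cartesian.Grp
import Mathlib.CategoryTheory.Monoidal.Grp
import Mathlib.Tactic.Group

set_option autoImplicit false

namespace Groth.Agent.Lib.Helper9

open CategoryTheory Limits MonoidalCategory CartesianMonoidalCategory

universe w v₁ u₁

section CartesianGeneral

variable {E : Type*} [Category* E] [CartesianMonoidalCategory E]

lemma isPullback_whiskerLeft (X : E) {A B : E} (f : A ⟶ B) :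
    IsPullback (X ◁ f) (snd X A) (snd X B) f := by
  refine IsPullback.of_isLimit' ⟨whiskerLeft_snd X f⟩ (PullbackCone.IsLimit.mk _
    (fun s => lift (s.fst ≫ fst _ _) s.snd) ?_ ?_ ?_)
  · intro s
    apply CartesianMonoidalCategory.hom_ext
    · simp
    · simp [s.condition]
  · intro s
    simp
  · intro s m h₁ h₂
    apply CartesianMonoidalCategory.hom_ext
    · simp [← h₁]
    · simp [← h₂]

lemma isPullback_whiskerRight {A B : E} (f : A ⟶ B) (X : E) :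
    IsPullback (f ▷ X) (fst A X) (fst B X) f := by
  refine IsPullback.of_isLimit' ⟨whiskerRight_fst f X⟩ (PullbackCone.IsLimit.mk _
    (fun s => lift s.snd (s.fst ≫ snd _ _)) ?_ ?_ ?_)
  · intro s
    apply CartesianMonoidalCategory.hom_ext
    · simp [s.condition]
    · simp
  · intro s
    simp
  · intro s m h₁ h₂
    apply CartesianMonoidalCategory.hom_ext
    · simp [← h₂]
    · simp [← h₁]

lemma isPullback_of_exists_unique {P X Y Z : E} {fst : P ⟶ X} {snd : P ⟶ Y} {f : X ⟶ Z}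
    {g : Y ⟶ Z} (w : fst ≫ f = snd ≫ g)
    (hex : ∀ {W : E} (a : W ⟶ X) (b : W ⟶ Y), a ≫ f = b ≫ g →
      ∃ l : W ⟶ P, l ≫ fst = a ∧ l ≫ snd = b)
    (huniq : ∀ {W : E} (l l' : W ⟶ P), l ≫ fst = l' ≫ fst → l ≫ snd = l' ≫ snd → l = l') :
    IsPullback fst snd f g :=
  IsPullback.of_isLimit' ⟨w⟩ (PullbackCone.IsLimit.mk _
    (fun s => (hex s.fst s.snd s.condition).choose)
    (fun s => (hex s.fst s.snd s.condition).choose_spec.1)
    (fun s => (hex s.fst s.snd s.condition).choose_spec.2)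
    (fun s m h₁ h₂ => huniq _ _
      (h₁.trans (hex s.fst s.snd s.condition).choose_spec.1.symm)
      (h₂.trans (hex s.fst s.snd s.condition).choose_spec.2.symm)))

end CartesianGeneral

section SheafEpi

variable {C : Type u₁} [Category.{v₁} C] (J : GrothendieckTopology C) [HasSheafify J (Type w)]

lemma epi_whiskerLeft (X : Sheaf J (Type w)) {A B : Sheaf J (Type w)} (f : A ⟶ B) [Epi f] :
    Epi (X ◁ f) :=
  epi_of_isPullback_sheaf J (isPullback_whiskerLeft X f)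

lemma epi_whiskerRight {A B : Sheaf J (Type w)} (f : A ⟶ B) [Epi f] (X : Sheaf J (Type w)) :
    Epi (f ▷ X) :=
  epi_of_isPullback_sheaf J (isPullback_whiskerRight f X)

lemma epi_tensorHom {A B A' B' : Sheaf J (Type w)} (f : A ⟶ B) (g : A' ⟶ B') [Epi f] [Epi g] :
    Epi (f ⊗ₘ g) := by
  rw [tensorHom_def]
  have := epi_whiskerRight J f A'
  have := epi_whiskerLeft J B g
  exact epi_comp _ _

lemma exists_desc_of_epi {A B T : Sheaf J (Type w)} (q : A ⟶ B) [Epi q] (f : A ⟶ T)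
    (hf : ∀ (W : Sheaf J (Type w)) (a₁ a₂ : W ⟶ A), a₁ ≫ q = a₂ ≫ q → a₁ ≫ f = a₂ ≫ f) :
    ∃ g : B ⟶ T, q ≫ g = f := by
  have := IsRegularEpiCategory.regularEpiOfEpi q
  let r := IsRegularEpi.getStruct q
  exact ⟨(r.desc' f (hf _ _ _ r.w)).1, (r.desc' f (hf _ _ _ r.w)).2⟩

lemma exists_local_lift {W A B : Sheaf J (Type w)} (q : A ⟶ B) [Epi q] (c : W ⟶ B) :
    ∃ (W' : Sheaf J (Type w)) (e : W' ⟶ W) (_ : Epi e) (y : W' ⟶ A), e ≫ c = y ≫ q :=
  ⟨pullback c q, pullback.fst c q,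
    epi_of_isPullback_sheaf J (IsPullback.of_hasPullback c q), pullback.snd c q,
    pullback.condition⟩

end SheafEpi

section GrpGeneral

open MonObj

variable {E : Type*} [Category* E] [CartesianMonoidalCategory E]
  {G H : E} [GrpObj G] (u : H ⟶ G)

lemma lift_actR {W : E} (g : W ⟶ G) (h : W ⟶ H) :
    lift g h ≫ (G ◁ u) ≫ μ = g * (h ≫ u) := by
  rw [← Category.assoc, lift_whiskerLeft, Hom.mul_def]

lemma comp_actR {W : E} (r : W ⟶ G ⊗ H) :
    r ≫ (G ◁ u) ≫ μ = (r ≫ fst G H) * (r ≫ snd G H ≫ u) := by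
  conv_lhs => rw [← lift_comp_fst_snd r]
  rw [lift_actR, Category.assoc]

lemma actR_eq : (G ◁ u) ≫ μ = fst G H * (snd G H ≫ u) := by
  have := comp_actR u (𝟙 (G ⊗ H))
  simpa using this

variable [GrpObj H] [IsMonHom u] [Mono u]

/-- The pair (projection, right multiplication) `G ⊗ H ⇉ G` is an equivalence relation. -/
noncomputable def quotEquivalenceRelation [HasPullback ((G ◁ u) ≫ μ) (fst G H)] :
    EquivalenceRelation (fst G H) ((G ◁ u) ≫ μ) where
  right_cancellation Y f g h₁ h₂ := by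
    rw [comp_actR, comp_actR, h₁] at h₂
    have h₃ := mul_left_cancel h₂
    rw [← Category.assoc, ← Category.assoc, cancel_mono] at h₃
    exact CartesianMonoidalCategory.hom_ext _ _ h₁ h₃
  r := lift (𝟙 G) 1
  reflexivity₁ := lift_fst _ _
  reflexivity₂ := by
    rw [lift_actR, one_comp, _root_.mul_one]
  s := lift (fst G H * (snd G H ≫ u)) (snd G H)⁻¹
  symmetry₁ := by
    rw [lift_fst, actR_eq]
  symmetry₂ := by
    rw [lift_actR, GrpObj.inv_comp, mul_inv_cancel_right]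
  c := pullback.cone ((G ◁ u) ≫ μ) (fst G H)
  isLimit := pullback.isLimit _ _
  t := lift (pullback.fst _ _ ≫ fst G H) ((pullback.fst _ _ ≫ snd G H) * (pullback.snd _ _ ≫ snd G H))
  transitivity₁ := by
    rw [lift_fst]
    rfl
  transitivity₂ := by
    have hc := pullback.condition (f := (G ◁ u) ≫ μ) (g := fst G H)
    rw [comp_actR] at hc
    rw [lift_actR, mul_comp, ← _root_.mul_assoc]
    change _ = pullback.snd _ _ ≫ (G ◁ u) ≫ μ
    rw [comp_actR, ← hc]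
    simp only [Category.assoc]

end GrpGeneral

/-- The exactness properties of a topos that we use. -/
class ToposLike (E : Type*) [Category* E] : Prop where
  hasPullbacks : HasPullbacks E
  hasCoequalizers : HasCoequalizers E
  isKernelPair_of_isColimit : ∀ {R X Q : E} {p₁ p₂ : R ⟶ X} (_ : EquivalenceRelation p₁ p₂)
    (π : X ⟶ Q) (w : p₁ ≫ π = p₂ ≫ π), IsColimit (Cofork.ofπ π w) → IsKernelPair π p₁ p₂
  epi_of_isPullback : ∀ {X' Y' X Y : E} {f' : X' ⟶ Y'} {i₁ : X' ⟶ X} {i₂ : Y' ⟶ Y} {f : X ⟶ Y},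
    IsPullback f' i₁ i₂ f → Epi f → Epi f'
  exists_desc_of_epi : ∀ {A B T : E} (q : A ⟶ B), Epi q → ∀ (f : A ⟶ T),
    (∀ (W : E) (a₁ a₂ : W ⟶ A), a₁ ≫ q = a₂ ≫ q → a₁ ≫ f = a₂ ≫ f) → ∃ g : B ⟶ T, q ≫ g = f
  isIso_of_mono_of_epi : ∀ {A B : E} (f : A ⟶ B), Mono f → Epi f → IsIso f

attribute [instance] ToposLike.hasPullbacks ToposLike.hasCoequalizers

instance {C : Type u₁} [Category.{v₁} C] (J : GrothendieckTopology C) [HasSheafify J (Type w)] :
    ToposLike (Sheaf J (Type w)) where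
  hasPullbacks := inferInstance
  hasCoequalizers := inferInstance
  isKernelPair_of_isColimit e π w h := sheaf_isKernelPair_of_isColimit J e π w h
  epi_of_isPullback h _ := epi_of_isPullback_sheaf J h
  exists_desc_of_epi q _ f hf := exists_desc_of_epi J q f hf
  isIso_of_mono_of_epi f _ _ := isIso_of_mono_of_epi f

section ToposGeneral

variable {E : Type*} [Category* E] [CartesianMonoidalCategory E] [ToposLike E]

lemma ToposLike.epi_whiskerLeft (X : E) {A B : E} (f : A ⟶ B) [Epi f] : Epi (X ◁ f) :=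
  ToposLike.epi_of_isPullback (isPullback_whiskerLeft X f) inferInstance

lemma ToposLike.epi_whiskerRight {A B : E} (f : A ⟶ B) [Epi f] (X : E) : Epi (f ▷ X) :=
  ToposLike.epi_of_isPullback (isPullback_whiskerRight f X) inferInstance

lemma ToposLike.epi_tensorHom {A B A' B' : E} (f : A ⟶ B) (g : A' ⟶ B') [Epi f] [Epi g] :
    Epi (f ⊗ₘ g) := by
  rw [tensorHom_def]
  have := ToposLike.epi_whiskerRight f A'
  have := ToposLike.epi_whiskerLeft B g
  exact epi_comp _ _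

lemma ToposLike.exists_local_lift {W A B : E} (q : A ⟶ B) [Epi q] (c : W ⟶ B) :
    ∃ (W' : E) (e : W' ⟶ W) (_ : Epi e) (y : W' ⟶ A), e ≫ c = y ≫ q :=
  ⟨pullback c q, pullback.fst c q,
    ToposLike.epi_of_isPullback (IsPullback.of_hasPullback c q) inferInstance, pullback.snd c q,
    pullback.condition⟩

end ToposGeneral

section ToposGrp

open MonObj

variable {E : Type*} [Category* E] [CartesianMonoidalCategory E] [ToposLike E]
  {G H : E} [GrpObj G] [GrpObj H] (u : H ⟶ G) [IsMonHom u] [Mono u]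

lemma quot_isKernelPair :
    IsKernelPair (coequalizer.π (fst G H) ((G ◁ u) ≫ μ)) (fst G H) ((G ◁ u) ≫ μ) :=
  ToposLike.isKernelPair_of_isColimit (quotEquivalenceRelation u) _ (coequalizer.condition _ _)
    (coequalizerIsCoequalizer _ _)

lemma quot_π_eq_iff {W : E} (x₁ x₂ : W ⟶ G) :
    x₁ ≫ coequalizer.π (fst G H) ((G ◁ u) ≫ μ) = x₂ ≫ coequalizer.π (fst G H) ((G ◁ u) ≫ μ) ↔
      ∃ h : W ⟶ H, x₂ = x₁ * (h ≫ u) := by
  constructor
  · intro hx
    obtain ⟨r, hr₁, hr₂⟩ := (quot_isKernelPair u).exists_lift x₁ x₂ hx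
    refine ⟨r ≫ snd G H, ?_⟩
    rw [← hr₂, comp_actR, hr₁, Category.assoc]
  · rintro ⟨h, rfl⟩
    have := lift x₁ h ≫= coequalizer.condition (fst G H) ((G ◁ u) ≫ μ)
    rw [lift_fst_assoc, ← Category.assoc, ← Category.assoc, Category.assoc (lift x₁ h),
      lift_actR] at this
    exact this

/-- Second isomorphism theorem, kernel pair form. -/
theorem secondIso_isKernelPair {L : E} [GrpObj L] (l : L ⟶ G) [IsMonHom l] [Mono l] :
    IsKernelPair (l ≫ coequalizer.π (fst G H) ((G ◁ u) ≫ μ))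
      (fst L (pullback u l)) ((L ◁ pullback.snd u l) ≫ μ) := by
  have hw : fst L (pullback u l) ≫ l ≫ coequalizer.π (fst G H) ((G ◁ u) ≫ μ) =
      ((L ◁ pullback.snd u l) ≫ μ) ≫ l ≫ coequalizer.π (fst G H) ((G ◁ u) ≫ μ) := by
    rw [← Category.assoc, ← Category.assoc _ l]
    apply (quot_π_eq_iff u _ _).2
    refine ⟨snd L _ ≫ pullback.fst u l, ?_⟩
    rw [actR_eq (pullback.snd u l), mul_comp, Category.assoc, Category.assoc,
      pullback.condition]
  refine isPullback_of_exists_unique hw ?_ ?_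
  · intro W a b hab
    rw [← Category.assoc, ← Category.assoc] at hab
    obtain ⟨h, hh⟩ := (quot_π_eq_iff u _ _).1 hab
    have hz : h ≫ u = (a⁻¹ * b) ≫ l := by
      rw [mul_comp, hh, GrpObj.inv_comp, inv_mul_cancel_left]
    refine ⟨lift a (pullback.lift h (a⁻¹ * b) hz), lift_fst _ _, ?_⟩
    rw [lift_actR, pullback.lift_snd, mul_inv_cancel_left]
  · intro W m m' h₁ h₂
    apply CartesianMonoidalCategory.hom_ext _ _ h₁
    rw [comp_actR, comp_actR, h₁] at h₂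
    have h₃ := mul_left_cancel h₂
    have : Mono (pullback.snd u l) := inferInstance
    rw [← Category.assoc, ← Category.assoc, cancel_mono] at h₃
    exact h₃

omit [ToposLike E] [IsMonHom u] [Mono u] [GrpObj H] in
lemma comp_mul_eq {W : E} (a : W ⟶ G ⊗ G) : a ≫ μ = (a ≫ fst G G) * (a ≫ snd G G) := by
  rw [Hom.mul_def, lift_comp_fst_snd]

/-- The quotient `G/H` carries a unique `G`-action making the quotient map equivariant. -/
theorem existsUnique_action :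
    ∃! act : G ⊗ coequalizer (fst G H) ((G ◁ u) ≫ μ) ⟶ coequalizer (fst G H) ((G ◁ u) ≫ μ),
      (η ▷ coequalizer (fst G H) ((G ◁ u) ≫ μ)) ≫ act =
          (λ_ (coequalizer (fst G H) ((G ◁ u) ≫ μ))).hom ∧
        (μ ▷ coequalizer (fst G H) ((G ◁ u) ≫ μ)) ≫ act =
          (α_ G G (coequalizer (fst G H) ((G ◁ u) ≫ μ))).hom ≫ (G ◁ act) ≫ act ∧
        μ ≫ coequalizer.π (fst G H) ((G ◁ u) ≫ μ) =
          (G ◁ coequalizer.π (fst G H) ((G ◁ u) ≫ μ)) ≫ act := by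
  have e1 : Epi (G ◁ coequalizer.π (fst G H) ((G ◁ u) ≫ μ)) := ToposLike.epi_whiskerLeft G _
  obtain ⟨act, hact⟩ := ToposLike.exists_desc_of_epi
    (G ◁ coequalizer.π (fst G H) ((G ◁ u) ≫ μ)) e1
    (μ ≫ coequalizer.π (fst G H) ((G ◁ u) ≫ μ)) (by
      intro W a₁ a₂ h
      have h1 : a₁ ≫ fst G G = a₂ ≫ fst G G := by
        have := h =≫ fst _ _
        simpa using this
      have h2 : (a₁ ≫ snd G G) ≫ coequalizer.π (fst G H) ((G ◁ u) ≫ μ) =
          (a₂ ≫ snd G G) ≫ coequalizer.π (fst G H) ((G ◁ u) ≫ μ) := by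
        have := h =≫ snd _ _
        simpa using this
      obtain ⟨k, hk⟩ := (quot_π_eq_iff u _ _).1 h2
      rw [← Category.assoc, ← Category.assoc]
      apply (quot_π_eq_iff u _ _).2
      refine ⟨k, ?_⟩
      rw [comp_mul_eq, comp_mul_eq, hk, h1, _root_.mul_assoc])
  refine ⟨act, ⟨?_, ?_, hact.symm⟩, ?_⟩
  · have : Epi ((𝟙_ E) ◁ coequalizer.π (fst G H) ((G ◁ u) ≫ μ)) := ToposLike.epi_whiskerLeft _ _
    rw [← cancel_epi ((𝟙_ E) ◁ coequalizer.π (fst G H) ((G ◁ u) ≫ μ)),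
      whisker_exchange_assoc, hact, ← Category.assoc, MonObj.one_mul, leftUnitor_naturality]
  · have : Epi ((G ⊗ G) ◁ coequalizer.π (fst G H) ((G ◁ u) ≫ μ)) := ToposLike.epi_whiskerLeft _ _
    rw [← cancel_epi ((G ⊗ G) ◁ coequalizer.π (fst G H) ((G ◁ u) ≫ μ)),
      whisker_exchange_assoc, hact, associator_naturality_right_assoc,
      ← MonoidalCategory.whiskerLeft_comp_assoc, hact, MonoidalCategory.whiskerLeft_comp_assoc,
      hact, ← Category.assoc, MonObj.mul_assoc]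
    simp only [Category.assoc]
  · rintro act' ⟨-, -, h3⟩
    rw [← cancel_epi (G ◁ coequalizer.π (fst G H) ((G ◁ u) ≫ μ)), hact, ← h3]

end ToposGrp

section ThirdIso

open MonObj

variable {E : Type*} [Category* E] [CartesianMonoidalCategory E] [ToposLike E]
  {H K G : E} [GrpObj H] [GrpObj K] [GrpObj G]
  (h : H ⟶ K) (k : K ⟶ G) [Mono h] [Mono k] [IsMonHom h] [IsMonHom k]
  (act : coequalizer (fst G H) ((G ◁ (h ≫ k)) ≫ μ) ⊗ coequalizer (fst K H) ((K ◁ h) ≫ μ) ⟶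
      coequalizer (fst G H) ((G ◁ (h ≫ k)) ≫ μ))
  (hact : (coequalizer.π (fst G H) ((G ◁ (h ≫ k)) ≫ μ) ⊗ₘ coequalizer.π (fst K H) ((K ◁ h) ≫ μ)) ≫ act =
      (G ◁ k) ≫ μ ≫ coequalizer.π (fst G H) ((G ◁ (h ≫ k)) ≫ μ))
  (qbar : coequalizer (fst G H) ((G ◁ (h ≫ k)) ≫ μ) ⟶ coequalizer (fst G K) ((G ◁ k) ≫ μ))
  (hq : coequalizer.π (fst G H) ((G ◁ (h ≫ k)) ≫ μ) ≫ qbar = coequalizer.π (fst G K) ((G ◁ k) ≫ μ))

include hact in
lemma thirdIso_act_lift {W : E} (x : W ⟶ G) (y : W ⟶ K) :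
    lift (x ≫ coequalizer.π (fst G H) ((G ◁ (h ≫ k)) ≫ μ))
        (y ≫ coequalizer.π (fst K H) ((K ◁ h) ≫ μ)) ≫ act =
      (x * (y ≫ k)) ≫ coequalizer.π (fst G H) ((G ◁ (h ≫ k)) ≫ μ) := by
  have : lift (x ≫ coequalizer.π (fst G H) ((G ◁ (h ≫ k)) ≫ μ))
        (y ≫ coequalizer.π (fst K H) ((K ◁ h) ≫ μ)) =
      lift x y ≫ (coequalizer.π (fst G H) ((G ◁ (h ≫ k)) ≫ μ) ⊗ₘ
        coequalizer.π (fst K H) ((K ◁ h) ≫ μ)) := by
    rw [lift_map]
  rw [this, Category.assoc, hact, ← Category.assoc, ← Category.assoc, Category.assoc (lift x y),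
    lift_actR]

include hact in
theorem thirdIso_mono : Mono (lift act (fst _ _)) := by
  constructor
  intro W a b hab
  have hfst : a ≫ fst _ _ = b ≫ fst _ _ := by
    have := hab =≫ snd _ _
    simpa using this
  have hactab : a ≫ act = b ≫ act := by
    have := hab =≫ fst _ _
    simpa using this
  apply CartesianMonoidalCategory.hom_ext _ _ hfst
  obtain ⟨W₁, e₁, he₁, x, hx⟩ := ToposLike.exists_local_lift
    (coequalizer.π (fst G H) ((G ◁ (h ≫ k)) ≫ μ)) (a ≫ fst _ _)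
  obtain ⟨W₂, e₂, he₂, y, hy⟩ := ToposLike.exists_local_lift
    (coequalizer.π (fst K H) ((K ◁ h) ≫ μ)) (e₁ ≫ a ≫ snd _ _)
  obtain ⟨W₃, e₃, he₃, y', hy'⟩ := ToposLike.exists_local_lift
    (coequalizer.π (fst K H) ((K ◁ h) ≫ μ)) (e₂ ≫ e₁ ≫ b ≫ snd _ _)
  have hepi : Epi (e₃ ≫ e₂ ≫ e₁) := by
    have := epi_comp e₂ e₁
    exact epi_comp e₃ (e₂ ≫ e₁)
  rw [← cancel_epi (e₃ ≫ e₂ ≫ e₁)]
  have ha : (e₃ ≫ e₂ ≫ e₁) ≫ a =
      lift ((e₃ ≫ e₂ ≫ x) ≫ coequalizer.π (fst G H) ((G ◁ (h ≫ k)) ≫ μ))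
        ((e₃ ≫ y) ≫ coequalizer.π (fst K H) ((K ◁ h) ≫ μ)) := by
    apply CartesianMonoidalCategory.hom_ext
    · simp only [Category.assoc, lift_fst, hx]
    · simp only [Category.assoc, lift_snd, hy]
  have hb : (e₃ ≫ e₂ ≫ e₁) ≫ b =
      lift ((e₃ ≫ e₂ ≫ x) ≫ coequalizer.π (fst G H) ((G ◁ (h ≫ k)) ≫ μ))
        (y' ≫ coequalizer.π (fst K H) ((K ◁ h) ≫ μ)) := by
    apply CartesianMonoidalCategory.hom_ext
    · simp only [Category.assoc, lift_fst, ← hfst, hx]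
    · simp only [Category.assoc, lift_snd, hy']
  have h1 := (e₃ ≫ e₂ ≫ e₁) ≫= hactab
  rw [← Category.assoc, ← Category.assoc _ b, ha, hb, thirdIso_act_lift h k act hact,
    thirdIso_act_lift h k act hact] at h1
  obtain ⟨z, hz⟩ := (quot_π_eq_iff (h ≫ k) _ _).1 h1
  rw [_root_.mul_assoc] at hz
  have hz' := mul_left_cancel hz
  rw [← Category.assoc, ← mul_comp, cancel_mono] at hz'
  have h2 := (quot_π_eq_iff h (e₃ ≫ y) y').2 ⟨z, hz'⟩
  rw [← Category.assoc, ← Category.assoc _ b, ha, hb, lift_snd, lift_snd]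
  exact h2

include hact hq in
theorem thirdIso_isColimit :
    ∃ wq : fst _ _ ≫ qbar = act ≫ qbar, Nonempty (IsColimit (Cofork.ofπ qbar wq)) := by
  have hepi : Epi (coequalizer.π (fst G H) ((G ◁ (h ≫ k)) ≫ μ) ⊗ₘ
      coequalizer.π (fst K H) ((K ◁ h) ≫ μ)) := ToposLike.epi_tensorHom _ _
  have wq : fst _ _ ≫ qbar = act ≫ qbar := by
    rw [← cancel_epi (coequalizer.π (fst G H) ((G ◁ (h ≫ k)) ≫ μ) ⊗ₘ
      coequalizer.π (fst K H) ((K ◁ h) ≫ μ)), tensorHom_fst_assoc, hq, reassoc_of% hact,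
      hq, ← Category.assoc]
    exact coequalizer.condition _ _
  refine ⟨wq, ⟨Cofork.IsColimit.mk _ (fun s => coequalizer.desc
    (coequalizer.π (fst G H) ((G ◁ (h ≫ k)) ≫ μ) ≫ s.π) ?_) ?_ ?_⟩⟩
  · have hs := s.condition
    rw [Category.assoc, ← reassoc_of% hact, ← hs, tensorHom_fst_assoc]
  · intro s
    rw [← cancel_epi (coequalizer.π (fst G H) ((G ◁ (h ≫ k)) ≫ μ))]
    change _ ≫ qbar ≫ _ = _
    rw [reassoc_of% hq, coequalizer.π_desc]
  · intro s m hm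
    have hm' : qbar ≫ m = s.π := hm
    refine (cancel_epi (coequalizer.π (fst G K) ((G ◁ k) ≫ μ))).1 ?_
    rw [coequalizer.π_desc, ← hq, Category.assoc, ← hm']

end ThirdIso

section QuotPoints

variable {E : Type*} [Category* E] [CartesianMonoidalCategory E] [ToposLike E]
  {R X : E} {p₁ p₂ : R ⟶ X} (e : UniversallyEffectiveEquivalenceRelation p₁ p₂) (Y : E)

theorem quotPoints_of_subobject (Z : E) (ι : Z ⟶ X ⊗ Y) [Mono ι]
    (hstab : ∀ (W : E) (r : W ⟶ R) (y : W ⟶ Y),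
      (∃ z : W ⟶ Z, z ≫ ι = lift (r ≫ p₁) y) ↔ (∃ z : W ⟶ Z, z ≫ ι = lift (r ≫ p₂) y))
    [hepi : Epi (ι ≫ snd X Y)]
    (hfib : ∀ (W : E) (z₁ z₂ : W ⟶ Z), z₁ ≫ ι ≫ snd X Y = z₂ ≫ ι ≫ snd X Y →
      ∃ r : W ⟶ R, r ≫ p₁ = z₁ ≫ ι ≫ fst X Y ∧ r ≫ p₂ = z₂ ≫ ι ≫ fst X Y) :
    ∃! f : Y ⟶ e.B, IsPullback (ι ≫ fst X Y) (ι ≫ snd X Y) e.π f := by
  obtain ⟨f, hf⟩ := ToposLike.exists_desc_of_epi (ι ≫ snd X Y) hepi (ι ≫ fst X Y ≫ e.π) (by
    intro W z₁ z₂ h
    obtain ⟨r, hr₁, hr₂⟩ := hfib W z₁ z₂ (by simpa using h)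
    have e₁ : z₁ ≫ ι ≫ fst X Y ≫ e.π = (z₁ ≫ ι ≫ fst X Y) ≫ e.π := by
      simp only [Category.assoc]
    have e₂ : z₂ ≫ ι ≫ fst X Y ≫ e.π = (z₂ ≫ ι ≫ fst X Y) ≫ e.π := by
      simp only [Category.assoc]
    rw [e₁, e₂, ← hr₁, ← hr₂, Category.assoc, Category.assoc, e.isKernelPair.w])
  refine ⟨f, ?_, ?_⟩
  · refine isPullback_of_exists_unique (by rw [hf, Category.assoc]) ?_ ?_
    · intro W a b hab
      obtain ⟨W', e', he', z, hz⟩ := ToposLike.exists_local_lift (ι ≫ snd X Y) b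
      have h1 : (z ≫ ι ≫ fst X Y) ≫ e.π = (e' ≫ a) ≫ e.π := by
        rw [Category.assoc, Category.assoc, ← hf, ← Category.assoc z, ← Category.assoc z,
          Category.assoc z, ← hz, Category.assoc, Category.assoc, hab]
      obtain ⟨r, hr₁, hr₂⟩ := e.isKernelPair.exists_lift _ _ h1
      obtain ⟨z', hz'⟩ := (hstab W' r (e' ≫ b)).1 ⟨z, by
        apply CartesianMonoidalCategory.hom_ext
        · rw [lift_fst, hr₁, Category.assoc]
        · rw [lift_snd, hz, Category.assoc]⟩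
      rw [hr₂, ← comp_lift] at hz'
      obtain ⟨l, hl⟩ := ToposLike.exists_desc_of_epi e' he' z' (by
        intro V c₁ c₂ hc
        rw [← cancel_mono ι, Category.assoc, Category.assoc, hz', ← Category.assoc,
          ← Category.assoc, hc])
      have hlι : l ≫ ι = lift a b := by
        rw [← cancel_epi e', ← Category.assoc, hl, hz']
      refine ⟨l, ?_, ?_⟩
      · rw [← Category.assoc, hlι, lift_fst]
      · rw [← Category.assoc, hlι, lift_snd]
    · intro W l l' h₁ h₂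
      rw [← cancel_mono ι]
      apply CartesianMonoidalCategory.hom_ext
      · simpa using h₁
      · simpa using h₂
  · intro f' hf'
    rw [← cancel_epi (ι ≫ snd X Y), hf, ← hf'.w, Category.assoc]

theorem quotPoints_exists (f : Y ⟶ e.B) :
    ∃ (Z : E) (ι : Z ⟶ X ⊗ Y), Mono ι ∧
      (∀ (W : E) (r : W ⟶ R) (y : W ⟶ Y),
        (∃ z : W ⟶ Z, z ≫ ι = lift (r ≫ p₁) y) ↔ (∃ z : W ⟶ Z, z ≫ ι = lift (r ≫ p₂) y)) ∧
      Epi (ι ≫ snd X Y) ∧
      (∀ (W : E) (z₁ z₂ : W ⟶ Z), z₁ ≫ ι ≫ snd X Y = z₂ ≫ ι ≫ snd X Y →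
        ∃ r : W ⟶ R, r ≫ p₁ = z₁ ≫ ι ≫ fst X Y ∧ r ≫ p₂ = z₂ ≫ ι ≫ fst X Y) ∧
      IsPullback (ι ≫ fst X Y) (ι ≫ snd X Y) e.π f := by
  have key : ∀ (W : E) (x : W ⟶ X) (y : W ⟶ Y),
      (∃ z : W ⟶ pullback e.π f, z ≫ lift (pullback.fst e.π f) (pullback.snd e.π f) = lift x y) ↔
        x ≫ e.π = y ≫ f := by
    intro W x y
    constructor
    · rintro ⟨z, hz⟩
      have h1 := hz =≫ fst _ _
      have h2 := hz =≫ snd _ _
      simp only [Category.assoc, lift_fst, lift_snd] at h1 h2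
      rw [← h1, ← h2, Category.assoc, Category.assoc, pullback.condition]
    · intro h
      refine ⟨pullback.lift x y h, ?_⟩
      apply CartesianMonoidalCategory.hom_ext
      · rw [Category.assoc, lift_fst, lift_fst, pullback.lift_fst]
      · rw [Category.assoc, lift_snd, lift_snd, pullback.lift_snd]
  refine ⟨pullback e.π f, lift (pullback.fst e.π f) (pullback.snd e.π f), ⟨?_⟩, ?_, ?_, ?_, ?_⟩
  · intro W l l' h
    have h1 := h =≫ fst _ _
    have h2 := h =≫ snd _ _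
    simp only [Category.assoc, lift_fst, lift_snd] at h1 h2
    exact pullback.hom_ext h1 h2
  · intro W r y
    rw [key, key, Category.assoc, Category.assoc, e.isKernelPair.w]
  · rw [lift_snd]
    have : Epi e.π := inferInstance
    exact ToposLike.epi_of_isPullback (IsPullback.of_hasPullback e.π f).flip this
  · intro W z₁ z₂ h
    simp only [lift_snd, lift_fst] at h ⊢
    apply e.isKernelPair.exists_lift
    rw [Category.assoc, Category.assoc, pullback.condition, ← Category.assoc, h, Category.assoc]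
  · rw [lift_fst, lift_snd]
    exact IsPullback.of_hasPullback e.π f

end QuotPoints

section QuotGroup

open MonObj

variable {E : Type*} [Category* E] [CartesianMonoidalCategory E] [ToposLike E]
  {G H : E} [GrpObj G] [GrpObj H] (u : H ⟶ G) [IsMonHom u] [Mono u]
  (hn : ∀ (Y : E) (g : Y ⟶ G) (h : Y ⟶ H), ∃ h' : Y ⟶ H, g * (h ≫ u) * g⁻¹ = h' ≫ u)

include hn in
lemma exists_quotMul :
    ∃ m : coequalizer (fst G H) ((G ◁ u) ≫ μ) ⊗ coequalizer (fst G H) ((G ◁ u) ≫ μ) ⟶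
        coequalizer (fst G H) ((G ◁ u) ≫ μ),
      (coequalizer.π (fst G H) ((G ◁ u) ≫ μ) ⊗ₘ coequalizer.π (fst G H) ((G ◁ u) ≫ μ)) ≫ m =
        μ ≫ coequalizer.π (fst G H) ((G ◁ u) ≫ μ) := by
  have hepi : Epi (coequalizer.π (fst G H) ((G ◁ u) ≫ μ) ⊗ₘ
      coequalizer.π (fst G H) ((G ◁ u) ≫ μ)) := ToposLike.epi_tensorHom _ _
  refine ToposLike.exists_desc_of_epi _ hepi _ ?_
  intro W a₁ a₂ h
  have h1 : (a₁ ≫ fst G G) ≫ coequalizer.π (fst G H) ((G ◁ u) ≫ μ) =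
      (a₂ ≫ fst G G) ≫ coequalizer.π (fst G H) ((G ◁ u) ≫ μ) := by
    have := h =≫ fst _ _
    simpa using this
  have h2 : (a₁ ≫ snd G G) ≫ coequalizer.π (fst G H) ((G ◁ u) ≫ μ) =
      (a₂ ≫ snd G G) ≫ coequalizer.π (fst G H) ((G ◁ u) ≫ μ) := by
    have := h =≫ snd _ _
    simpa using this
  obtain ⟨k₁, hk₁⟩ := (quot_π_eq_iff u _ _).1 h1
  obtain ⟨k₂, hk₂⟩ := (quot_π_eq_iff u _ _).1 h2
  obtain ⟨k₃, hk₃⟩ := hn W (a₁ ≫ snd G G)⁻¹ k₁
  rw [← Category.assoc, ← Category.assoc]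
  apply (quot_π_eq_iff u _ _).2
  refine ⟨k₃ * k₂, ?_⟩
  rw [comp_mul_eq, comp_mul_eq, hk₁, hk₂, mul_comp, ← hk₃]
  group

include hn in
lemma exists_quotInv :
    ∃ i : coequalizer (fst G H) ((G ◁ u) ≫ μ) ⟶ coequalizer (fst G H) ((G ◁ u) ≫ μ),
      coequalizer.π (fst G H) ((G ◁ u) ≫ μ) ≫ i = ι ≫ coequalizer.π (fst G H) ((G ◁ u) ≫ μ) := by
  refine ToposLike.exists_desc_of_epi _ inferInstance _ ?_
  intro W a₁ a₂ h
  obtain ⟨k₁, hk₁⟩ := (quot_π_eq_iff u _ _).1 h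
  obtain ⟨k₃, hk₃⟩ := hn W a₁ k₁⁻¹
  rw [← Category.assoc, ← Category.assoc]
  apply (quot_π_eq_iff u _ _).2
  refine ⟨k₃, ?_⟩
  rw [← Hom.inv_def, ← Hom.inv_def, hk₁, ← hk₃, GrpObj.inv_comp]
  group

include hn in
/-- The quotient of a group object by a normal subgroup object carries a unique group structure
making the quotient map a homomorphism. -/
theorem existsUnique_quotGrpObj :
    ∃! str : GrpObj (coequalizer (fst G H) ((G ◁ u) ≫ μ)),
      @IsMonHom E _ _ G (coequalizer (fst G H) ((G ◁ u) ≫ μ)) GrpObj.toMonObj str.toMonObj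
        (coequalizer.π (fst G H) ((G ◁ u) ≫ μ)) := by
  obtain ⟨m, hm⟩ := exists_quotMul u hn
  obtain ⟨i, hi⟩ := exists_quotInv u hn
  have hepi2 : Epi (coequalizer.π (fst G H) ((G ◁ u) ≫ μ) ⊗ₘ
      coequalizer.π (fst G H) ((G ◁ u) ≫ μ)) := ToposLike.epi_tensorHom _ _
  have K : ∀ {W : E} (x y : W ⟶ G),
      lift (x ≫ coequalizer.π (fst G H) ((G ◁ u) ≫ μ))
        (y ≫ coequalizer.π (fst G H) ((G ◁ u) ≫ μ)) ≫ m =
      (x * y) ≫ coequalizer.π (fst G H) ((G ◁ u) ≫ μ) := by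
    intro W x y
    have : lift (x ≫ coequalizer.π (fst G H) ((G ◁ u) ≫ μ))
        (y ≫ coequalizer.π (fst G H) ((G ◁ u) ≫ μ)) =
        lift x y ≫ (coequalizer.π (fst G H) ((G ◁ u) ≫ μ) ⊗ₘ
          coequalizer.π (fst G H) ((G ◁ u) ≫ μ)) := by rw [lift_map]
    rw [this, Category.assoc, hm, ← Category.assoc, Hom.mul_def]
  let monQ : MonObj (coequalizer (fst G H) ((G ◁ u) ≫ μ)) :=
    { one := η ≫ coequalizer.π (fst G H) ((G ◁ u) ≫ μ)
      mul := m
      one_mul := by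
        have : Epi (𝟙_ E ◁ coequalizer.π (fst G H) ((G ◁ u) ≫ μ)) :=
          ToposLike.epi_whiskerLeft _ _
        rw [← cancel_epi (𝟙_ E ◁ coequalizer.π (fst G H) ((G ◁ u) ≫ μ)),
          whisker_exchange_assoc, comp_whiskerRight_assoc, ← tensorHom_def_assoc, hm,
          MonObj.one_mul_assoc, leftUnitor_naturality]
      mul_one := by
        have : Epi (coequalizer.π (fst G H) ((G ◁ u) ≫ μ) ▷ 𝟙_ E) :=
          ToposLike.epi_whiskerRight _ _
        rw [← cancel_epi (coequalizer.π (fst G H) ((G ◁ u) ≫ μ) ▷ 𝟙_ E),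
          ← whisker_exchange_assoc, MonoidalCategory.whiskerLeft_comp_assoc,
          ← tensorHom_def'_assoc, hm, MonObj.mul_one_assoc, rightUnitor_naturality]
      mul_assoc := by
        have hepi3 : Epi ((coequalizer.π (fst G H) ((G ◁ u) ≫ μ) ⊗ₘ
            coequalizer.π (fst G H) ((G ◁ u) ≫ μ)) ⊗ₘ
            coequalizer.π (fst G H) ((G ◁ u) ≫ μ)) := ToposLike.epi_tensorHom _ _
        have P_eq : ((coequalizer.π (fst G H) ((G ◁ u) ≫ μ) ⊗ₘ
            coequalizer.π (fst G H) ((G ◁ u) ≫ μ)) ⊗ₘ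
            coequalizer.π (fst G H) ((G ◁ u) ≫ μ)) =
            lift (lift ((fst _ _ ≫ fst _ _) ≫ coequalizer.π (fst G H) ((G ◁ u) ≫ μ))
              ((fst _ _ ≫ snd _ _) ≫ coequalizer.π (fst G H) ((G ◁ u) ≫ μ)))
              (snd _ _ ≫ coequalizer.π (fst G H) ((G ◁ u) ≫ μ)) := by
          apply CartesianMonoidalCategory.hom_ext
          · apply CartesianMonoidalCategory.hom_ext <;> simp
          · simp
        rw [← cancel_epi ((coequalizer.π (fst G H) ((G ◁ u) ≫ μ) ⊗ₘ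
            coequalizer.π (fst G H) ((G ◁ u) ≫ μ)) ⊗ₘ
            coequalizer.π (fst G H) ((G ◁ u) ≫ μ)), P_eq, lift_whiskerRight_assoc, K, K,
          lift_lift_associator_hom_assoc, lift_whiskerLeft_assoc, K, K, _root_.mul_assoc] }
  have hmonπ : @IsMonHom E _ _ G (coequalizer (fst G H) ((G ◁ u) ≫ μ)) GrpObj.toMonObj monQ
      (coequalizer.π (fst G H) ((G ◁ u) ≫ μ)) :=
    { one_hom := rfl
      mul_hom := hm.symm }
  let grpQ : GrpObj (coequalizer (fst G H) ((G ◁ u) ≫ μ)) :=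
    { monQ with
      inv := i
      left_inv := by
        change lift i (𝟙 _) ≫ m = toUnit _ ≫ η ≫ coequalizer.π (fst G H) ((G ◁ u) ≫ μ)
        rw [← cancel_epi (coequalizer.π (fst G H) ((G ◁ u) ≫ μ)), comp_lift_assoc, hi,
          Category.comp_id]
        have := K (ι : G ⟶ G) (𝟙 G)
        rw [Category.id_comp] at this
        rw [this, GrpObj.inv_eq_inv, inv_mul_cancel, Hom.one_def, comp_toUnit_assoc,
          Category.assoc]
      right_inv := by
        change lift (𝟙 _) i ≫ m = toUnit _ ≫ η ≫ coequalizer.π (fst G H) ((G ◁ u) ≫ μ)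
        rw [← cancel_epi (coequalizer.π (fst G H) ((G ◁ u) ≫ μ)), comp_lift_assoc, hi,
          Category.comp_id]
        have := K (𝟙 G) (ι : G ⟶ G)
        rw [Category.id_comp] at this
        rw [this, GrpObj.inv_eq_inv, mul_inv_cancel, Hom.one_def, comp_toUnit_assoc,
          Category.assoc] }
  refine ⟨grpQ, hmonπ, ?_⟩
  intro str' hstr'
  apply GrpObj.ext
  apply MonObj.ext
  have h1 := @IsMonHom.mul_hom E _ _ G (coequalizer (fst G H) ((G ◁ u) ≫ μ)) GrpObj.toMonObj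
    str'.toMonObj (coequalizer.π (fst G H) ((G ◁ u) ≫ μ)) hstr'
  rw [← cancel_epi (coequalizer.π (fst G H) ((G ◁ u) ≫ μ) ⊗ₘ
      coequalizer.π (fst G H) ((G ◁ u) ≫ μ))]
  exact h1.symm.trans hm.symm

end QuotGroup

end Groth.Agent.Lib.Helper9
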