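import Mathlib
import Groth.Prelude.Def_AlgSpGpd
import Groth.Agent.S13210
import Groth.Agent.Lib.Helper12ZarGlue
import Groth.Agent.Lib.Helper9ShfGrp

/-!
# equivalence relations of fppf sheaves given on `T`-valued points (helper12)

`AlgSp.IsEqvRelSp s t` (a condition on `h_T`-valued points) gives an internal equivalence relation
in the topos of fppf sheaves, hence is the kernel pair of its quotient map.
-/

set_option autoImplicit false
universe u
open CategoryTheory CategoryTheory.Limits AlgebraicGeometry Opposite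
open AlgSp

namespace Groth.Agent.Lib.Helper12.EqvRelSp

open Groth.Agent.S13210 Groth.Agent.Lib.Helper9

variable {S : Scheme.{u}}

/-- morphisms of sheaves agreeing on all `h_T`-valued points are equal. -/
lemma hom_ext_yon {A U : AlgSp.Sp S} (φ ψ : A ⟶ U)
    (h : ∀ (T : Over S) (x : (AlgSp.yon S).obj T ⟶ A), x ≫ φ = x ≫ ψ) : φ = ψ := by
  apply ObjectProperty.hom_ext
  ext ⟨T⟩ x
  have h1 := congrArg (yEquiv T U) (h T ((yEquiv T A).symm x))
  rw [yEquiv_comp, yEquiv_comp, Equiv.apply_symm_apply] at h1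
  exact h1

/-- lifting through a relation: a pair of maps into `U` which is pointwise related lifts to `R`. -/
lemma exists_lift_rel {R U : AlgSp.Sp S} (s t : R ⟶ U) (hinj : AlgSp.IsRelSp s t)
    {A : AlgSp.Sp S} (α β : A ⟶ U)
    (h : ∀ (T : Over S) (x : (AlgSp.yon S).obj T ⟶ A),
      ∃ r : (AlgSp.yon S).obj T ⟶ R, r ≫ t = x ≫ α ∧ r ≫ s = x ≫ β) :
    ∃ ρ : A ⟶ R, ρ ≫ t = α ∧ ρ ≫ s = β := by
  choose r hr1 hr2 using h
  have hnat : ∀ (T T' : Over S) (g : T' ⟶ T) (x : (AlgSp.yon S).obj T ⟶ A),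
      (AlgSp.yon S).map g ≫ r T x = r T' ((AlgSp.yon S).map g ≫ x) := by
    intro T T' g x
    apply hinj
    · rw [Category.assoc, hr1, hr1, Category.assoc]
    · rw [Category.assoc, hr2, hr2, Category.assoc]
  let η : A.obj ⟶ R.obj :=
    { app := fun T => TypeCat.ofHom
        (fun x => yEquiv T.unop R (r T.unop ((yEquiv T.unop A).symm x)))
      naturality := by
        rintro ⟨T⟩ ⟨T'⟩ ⟨g⟩
        ext x
        have h1 := ZarGlue.map_yEquiv (G := R) g (r T ((yEquiv T A).symm x))
        have h2 : (yEquiv T' A).symm (A.obj.map g.op x) =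
            (AlgSp.yon S).map g ≫ (yEquiv T A).symm x := by
          apply (yEquiv T' A).injective
          rw [Equiv.apply_symm_apply, ← ZarGlue.map_yEquiv, Equiv.apply_symm_apply]
        show yEquiv T' R (r T' ((yEquiv T' A).symm (A.obj.map g.op x))) =
          R.obj.map g.op (yEquiv T R (r T ((yEquiv T A).symm x)))
        rw [h1, h2, hnat] }
  have hη : ∀ (T : Over S) (x : (AlgSp.yon S).obj T ⟶ A),
      x ≫ (ObjectProperty.homMk η : A ⟶ R) = r T x := by
    intro T x
    apply (yEquiv T R).injective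
    rw [yEquiv_comp]
    show yEquiv T R (r T ((yEquiv T A).symm (yEquiv T A x))) = _
    rw [Equiv.symm_apply_apply]
  refine ⟨ObjectProperty.homMk η, hom_ext_yon _ _ fun T x => ?_, hom_ext_yon _ _ fun T x => ?_⟩
  · rw [← Category.assoc, hη, hr1]
  · rw [← Category.assoc, hη, hr2]

/-- an equivalence relation on `h_T`-valued points is an internal equivalence relation. -/
lemma nonempty_equivalenceRelation {R U : AlgSp.Sp S} (s t : R ⟶ U) (hj : AlgSp.IsEqvRelSp s t) :
    Nonempty (EquivalenceRelation s t) := by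
  have hinj : AlgSp.IsRelSp s t := hj.injective
  obtain ⟨ρ, hρt, hρs⟩ := exists_lift_rel s t hinj (𝟙 U) (𝟙 U) (fun T x => by
    obtain ⟨r, h1, h2⟩ := (hj.equivalence T).refl x
    exact ⟨r, by rw [h1, Category.comp_id], by rw [h2, Category.comp_id]⟩)
  obtain ⟨σ, hσt, hσs⟩ := exists_lift_rel s t hinj s t (fun T x => by
    obtain ⟨r, h1, h2⟩ := (hj.equivalence T).symm ⟨x, rfl, rfl⟩
    exact ⟨r, h1, h2⟩)
  obtain ⟨τ, hτt, hτs⟩ := exists_lift_rel s t hinj (pullback.snd t s ≫ t) (pullback.fst t s ≫ s)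
    (fun T x => by
      obtain ⟨r, h1, h2⟩ := (hj.equivalence T).trans
        (⟨x ≫ pullback.snd t s, rfl, rfl⟩ :
          ∃ r : (AlgSp.yon S).obj T ⟶ R, r ≫ t = (x ≫ pullback.snd t s) ≫ t ∧
            r ≫ s = (x ≫ pullback.snd t s) ≫ s)
        (⟨x ≫ pullback.fst t s, by
          rw [Category.assoc, Category.assoc, pullback.condition], rfl⟩ :
          ∃ r : (AlgSp.yon S).obj T ⟶ R, r ≫ t = (x ≫ pullback.snd t s) ≫ s ∧
            r ≫ s = (x ≫ pullback.fst t s) ≫ s)
      exact ⟨r, by rw [h1, Category.assoc], by rw [h2, Category.assoc]⟩)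
  exact ⟨{
    right_cancellation := fun Y f g h1 h2 => hom_ext_yon _ _ fun T x => hinj T _ _
      (by rw [Category.assoc, Category.assoc, h2]) (by rw [Category.assoc, Category.assoc, h1])
    r := ρ
    reflexivity₁ := hρs
    reflexivity₂ := hρt
    s := σ
    symmetry₁ := hσs
    symmetry₂ := hσt
    c := pullback.cone t s
    isLimit := pullback.isLimit t s
    t := τ
    transitivity₁ := hτs
    transitivity₂ := hτt }⟩

/-- an equivalence relation of fppf sheaves is the kernel pair of its quotient map. -/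
lemma isPullback_quotSpπ {R U : AlgSp.Sp S} (s t : R ⟶ U) (hj : AlgSp.IsEqvRelSp s t) :
    IsPullback s t (AlgSp.quotSpπ s t) (AlgSp.quotSpπ s t) := by
  obtain ⟨e⟩ := nonempty_equivalenceRelation s t hj
  exact ToposLike.isKernelPair_of_isColimit e (AlgSp.quotSpπ s t) (AlgSp.quotSp_condition s t)
    (AlgSp.quotSpIsCoequalizer s t)

end Groth.Agent.Lib.Helper12.EqvRelSp
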