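import Mathlib
import Groth.Prelude.Def_AlgSp2
import Groth.Agent.Lib.Helper12BaseChg
import Groth.Agent.Lib.Helper12EqvRelSp
import Groth.Agent.S9874
import Groth.Agent.S9900

set_option autoImplicit false
universe u
open CategoryTheory CategoryTheory.Limits AlgebraicGeometry Opposite
open AlgSp

namespace Groth.Agent.Lib.Helper12.BaseChg2

open Groth.Agent.S13210 Groth.Agent.Lib.Helper12.OpenSub Groth.Agent.Lib.Helper12.BaseChg

variable {S : Scheme.{u}}

/-- the map from any sheaf to `h_S`. -/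
noncomputable def toE (X : AlgSp.Sp S) : X ⟶ (AlgSp.yon S).obj (Over.mk (𝟙 S)) :=
  ObjectProperty.homMk
    { app := fun T => ↾(fun _ => ULift.up (Over.mkIdTerminal.from T.unop))
      naturality := fun T T' f => by
        ext x
        apply ULift.ext
        exact Over.mkIdTerminal.hom_ext _ _ }

lemma toE_ext {X : AlgSp.Sp S} (a b : X ⟶ (AlgSp.yon S).obj (Over.mk (𝟙 S))) : a = b := by
  refine Groth.Agent.Lib.Helper12.EqvRelSp.hom_ext_yon a b (fun T z => ?_)
  obtain ⟨u, hu⟩ := (AlgSp.yon S).map_surjective (z ≫ a)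
  obtain ⟨v, hv⟩ := (AlgSp.yon S).map_surjective (z ≫ b)
  rw [← hu, ← hv, Over.mkIdTerminal.hom_ext u v]

variable {S' : Scheme.{u}} (g : S ⟶ S')

/-- the sheaf `h_S` over `S'`. -/
noncomputable abbrev Hs : AlgSp.Sp S' := (AlgSp.yon S').obj (Over.mk g)

/-- the structure morphism of `U♭` to `S` over `S'`. -/
abbrev strU (U : Over S) : fl g U ⟶ Over.mk g := Over.homMk U.hom (by simp)

/-- the canonical section of `Res h_S`. -/
noncomputable def δ : (AlgSp.yon S).obj (Over.mk (𝟙 S)) ⟶ (Res g).obj (Hs g) :=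
  (ψ g _ (Over.mk (𝟙 S))).symm ((AlgSp.yon S').map (strU g (Over.mk (𝟙 S))))

/-- if `h_S × F'` is an algebraic space over `S'`, the restriction of `F'` to `S` is an algebraic
space. -/
theorem isAlgSpace_res_of_prod {F' : AlgSp.Sp S'} (hP' : AlgSp.IsAlgSpace (Hs g ⨯ F')) :
    AlgSp.IsAlgSpace ((Res g).obj F') := by
  have hP : AlgSp.IsAlgSpace ((Res g).obj (Hs g) ⨯ (Res g).obj F') :=
    (isAlgSpace_res g hP').of_iso (asIso (prodComparison (Res g) (Hs g) F'))
  have hH : AlgSp.Representable (Limits.diag ((Res g).obj (Hs g))) :=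
    (isAlgSpace_res g (AlgSp.IsAlgSpace.yon_obj _)).diag
  have sq : IsPullback (prod.lift (toE _ ≫ δ g) (𝟙 ((Res g).obj F'))) (toE ((Res g).obj F'))
      (prod.fst : (Res g).obj (Hs g) ⨯ (Res g).obj F' ⟶ _) (δ g) := by
    refine ⟨⟨by rw [prod.lift_fst]⟩, ⟨PullbackCone.IsLimit.mk _ (fun s => s.fst ≫ prod.snd)
      (fun s => ?_) (fun s => toE_ext _ _) (fun s m hm1 hm2 => ?_)⟩⟩
    · apply Limits.prod.hom_ext
      · rw [Category.assoc, prod.lift_fst, s.condition, ← Category.assoc]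
        congr 1
        exact toE_ext _ _
      · rw [Category.assoc, prod.lift_snd, Category.comp_id]
    · rw [← hm1, Category.assoc, prod.lift_snd, Category.comp_id]
  exact Groth.Agent.S9874.isAlgSpace_of_isPullback hH hP (AlgSp.IsAlgSpace.yon_obj _) sq

section SStruct

variable {g}

/-- a scheme over `S'` with an `S`-structure, viewed over `S`. -/
abbrev sOf {T' : Over S'} (σ : T' ⟶ Over.mk g) : Over S := Over.mk σ.left

/-- `(T'_σ)♭ ≅ T'`. -/
noncomputable def sIso {T' : Over S'} (σ : T' ⟶ Over.mk g) : fl g (sOf σ) ≅ T' :=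
  Over.isoMk (Iso.refl _) (by
    have h := Over.w σ
    simp only [Over.mk_hom] at h
    simp only [Over.map_obj_left, Over.mk_left, Over.map_obj_hom, Over.mk_hom, Iso.refl_hom,
      Category.id_comp]
    exact h.symm)

lemma sIso_hom_left {T' : Over S'} (σ : T' ⟶ Over.mk g) : (sIso σ).hom.left = 𝟙 _ := rfl

lemma sIso_inv_left {T' : Over S'} (σ : T' ⟶ Over.mk g) : (sIso σ).inv.left = 𝟙 _ := rfl

/-- a morphism over `S'` compatible with `S`-structures, as a morphism over `S`. -/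
abbrev sMap {T₁' T' : Over S'} (t : T₁' ⟶ T') (σ : T' ⟶ Over.mk g) : sOf (t ≫ σ) ⟶ sOf σ :=
  Over.homMk t.left rfl

lemma sIso_hom_comp_map {T₁' T' : Over S'} (t : T₁' ⟶ T') (σ : T' ⟶ Over.mk g) :
    (sIso (t ≫ σ)).hom ≫ t = (Over.map g).map (sMap t σ) ≫ (sIso σ).hom := by
  apply Over.OverMorphism.ext
  simp only [Over.comp_left, sIso_hom_left, Over.map_map_left, Over.homMk_left]
  rw [Category.comp_id]
  exact Category.id_comp _

/-- sections over `T'` correspond to sections of the restriction over `T'_σ`. -/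
noncomputable def Φ (Z' : AlgSp.Sp S') {T' : Over S'} (σ : T' ⟶ Over.mk g)
    (z : (AlgSp.yon S').obj T' ⟶ Z') : (AlgSp.yon S).obj (sOf σ) ⟶ (Res g).obj Z' :=
  (ψ g Z' _).symm ((AlgSp.yon S').map (sIso σ).hom ≫ z)

lemma ψ_Φ {Z' : AlgSp.Sp S'} {T' : Over S'} (σ : T' ⟶ Over.mk g)
    (z : (AlgSp.yon S').obj T' ⟶ Z') :
    ψ g Z' _ (Φ Z' σ z) = (AlgSp.yon S').map (sIso σ).hom ≫ z :=
  Equiv.apply_symm_apply _ _

lemma Φ_injective {Z' : AlgSp.Sp S'} {T' : Over S'} (σ : T' ⟶ Over.mk g) :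
    Function.Injective (Φ Z' σ) := by
  intro z₁ z₂ h
  have h2 := (ψ g Z' _).symm.injective h
  exact (cancel_epi _).1 h2

lemma Φ_map {Z' : AlgSp.Sp S'} {T₁' T' : Over S'} (t : T₁' ⟶ T') (σ : T' ⟶ Over.mk g)
    (z : (AlgSp.yon S').obj T' ⟶ Z') :
    Φ Z' (t ≫ σ) ((AlgSp.yon S').map t ≫ z) = (AlgSp.yon S).map (sMap t σ) ≫ Φ Z' σ z := by
  rw [Φ, Φ, ψ_symm_map_comp, ← Category.assoc, ← Functor.map_comp, sIso_hom_comp_map,
    Functor.map_comp, Category.assoc]

end SStruct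

open Groth.Agent.S9900 in
/-- equalizer loci in `h_S × F'` when the restriction of `F'` has representable diagonal. -/
lemma exists_isEqLocus_shriek {F' : AlgSp.Sp S'}
    (hdiag : AlgSp.Representable (Limits.diag ((Res g).obj F')))
    {T' : Over S'} (a b : (AlgSp.yon S').obj T' ⟶ Hs g ⨯ F') :
    ∃ (E : Over S') (e : E ⟶ T'), IsEqLocus a b e := by
  obtain ⟨E1, e1, h1⟩ := exists_isEqLocus (AlgSp.IsAlgSpace.yon_obj (Over.mk g)).diag
    (a ≫ prod.fst) (b ≫ prod.fst)
  obtain ⟨σa, hσa⟩ := (AlgSp.yon S').map_surjective (a ≫ prod.fst)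
  obtain ⟨τ, hτ⟩ : ∃ τ : E1 ⟶ Over.mk g, τ = e1 ≫ σa := ⟨_, rfl⟩
  obtain ⟨E2, e2, h2⟩ := exists_isEqLocus hdiag
    (Φ F' τ ((AlgSp.yon S').map e1 ≫ a ≫ prod.snd))
    (Φ F' τ ((AlgSp.yon S').map e1 ≫ b ≫ prod.snd))
  haveI : Mono e1 := h1.1
  haveI : Mono e2 := h2.1
  refine ⟨fl g E2, (Over.map g).map e2 ≫ (sIso τ).hom ≫ e1, ?_, fun T₀' t => ⟨fun h => ?_, ?_⟩⟩
  · haveI : Mono ((Over.map g).map e2) := by
      haveI : Mono ((Over.map g).map e2).left := by
        show Mono e2.left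
        infer_instance
      exact Over.mono_of_mono_left _
    exact mono_comp _ _
  · have hf : (AlgSp.yon S').map t ≫ a ≫ prod.fst = (AlgSp.yon S').map t ≫ b ≫ prod.fst := by
      rw [← Category.assoc, h, Category.assoc]
    obtain ⟨t₁, ht₁⟩ := (h1.2 T₀' t).1 hf
    have hs : (AlgSp.yon S').map t₁ ≫ ((AlgSp.yon S').map e1 ≫ a ≫ prod.snd) =
        (AlgSp.yon S').map t₁ ≫ ((AlgSp.yon S').map e1 ≫ b ≫ prod.snd) := by
      rw [← Category.assoc, ← Functor.map_comp, ht₁, ← Category.assoc, h, Category.assoc,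
        ← Category.assoc ((AlgSp.yon S').map t₁), ← Functor.map_comp, ht₁]
    have h3 : (AlgSp.yon S).map (sMap t₁ τ) ≫ Φ F' τ ((AlgSp.yon S').map e1 ≫ a ≫ prod.snd) =
        (AlgSp.yon S).map (sMap t₁ τ) ≫ Φ F' τ ((AlgSp.yon S').map e1 ≫ b ≫ prod.snd) := by
      rw [← Φ_map, ← Φ_map, hs]
    obtain ⟨t₂, ht₂⟩ := (h2.2 _ (sMap t₁ τ)).1 h3
    refine ⟨(sIso (t₁ ≫ τ)).inv ≫ (Over.map g).map t₂, ?_⟩
    rw [Category.assoc, ← Category.assoc ((Over.map g).map t₂), ← Functor.map_comp, ht₂,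
      ← Category.assoc ((Over.map g).map _), ← sIso_hom_comp_map, Category.assoc,
      Iso.inv_hom_id_assoc, ht₁]
  · rintro ⟨t', rfl⟩
    rw [Functor.map_comp, Category.assoc, Category.assoc]
    congr 1
    apply Limits.prod.hom_ext
    · rw [Functor.map_comp, Functor.map_comp]
      simp only [Category.assoc]
      congr 2
      exact h1.eq
    · have h4 := congrArg (ψ g F' _) h2.eq
      rw [ψ_map_comp, ψ_map_comp, ψ_Φ, ψ_Φ] at h4
      rw [Functor.map_comp, Functor.map_comp]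
      simp only [Category.assoc]
      exact h4

/-- a chart `h_U ⟶ Res F'` over `S` with property `P` gives a chart `h_{U♭} ⟶ h_S × F'` over `S'`
with property `P`. -/
lemma repWith_shriek (P : MorphismProperty Scheme.{u}) [P.RespectsIso] {F' : AlgSp.Sp S'}
    {U : Over S} (c : (AlgSp.yon S).obj U ⟶ (Res g).obj F') (hc : AlgSp.RepWith P c) :
    AlgSp.RepWith P (prod.lift ((AlgSp.yon S').map (strU g U)) (ψ g F' U c) :
      (AlgSp.yon S').obj (fl g U) ⟶ Hs g ⨯ F') := by
  apply MorphismProperty.relative.of_exists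
  intro T' x
  obtain ⟨σ₀, hσ₀⟩ := (AlgSp.yon S').map_surjective (x ≫ prod.fst)
  obtain ⟨V, v₁, v₂', sq⟩ := hc.1 (Φ F' σ₀ (x ≫ prod.snd))
  obtain ⟨v₂, rfl⟩ := (AlgSp.yon S).map_surjective v₂'
  have hP : P v₁.left := hc.2 _ _ v₁ sq
  have hx : x = prod.lift ((AlgSp.yon S').map σ₀) (x ≫ prod.snd) := by
    apply Limits.prod.hom_ext
    · rw [prod.lift_fst, hσ₀]
    · rw [prod.lift_snd]
  obtain ⟨snd, hsnd⟩ : ∃ snd : fl g V ⟶ T', snd = (Over.map g).map v₁ ≫ (sIso σ₀).hom := ⟨_, rfl⟩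
  have hsndl : snd.left = v₁.left := by
    rw [hsnd, Over.comp_left, sIso_hom_left]
    exact Category.comp_id _
  have hstr : (Over.map g).map v₂ ≫ strU g U = snd ≫ σ₀ := by
    apply Over.OverMorphism.ext
    rw [Over.comp_left, Over.comp_left, hsndl]
    simp only [Over.map_map_left, Over.homMk_left]
    rw [Over.w v₂]
    exact (Over.w v₁).symm
  have hw : (AlgSp.yon S').map ((Over.map g).map v₂) ≫
      prod.lift ((AlgSp.yon S').map (strU g U)) (ψ g F' U c) = (AlgSp.yon S').map snd ≫ x := by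
    apply Limits.prod.hom_ext
    · rw [Category.assoc, prod.lift_fst, Category.assoc, ← hσ₀, ← Functor.map_comp,
        ← Functor.map_comp, hstr]
    · rw [Category.assoc, prod.lift_snd, ← ψ_map_comp, sq.w, ψ_map_comp, ψ_Φ, Category.assoc,
        ← Category.assoc, ← Functor.map_comp, ← hsnd]
  refine ⟨fl g V, (AlgSp.yon S').map ((Over.map g).map v₂), snd, ?_, ?_⟩
  swap
  · show P snd.left
    rw [hsndl]; exact hP
  refine isPullback_of_yon hw ?_
  intro T₀' b' c' hbc
  obtain ⟨b₀, rfl⟩ := (AlgSp.yon S').map_surjective b'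
  obtain ⟨t, rfl⟩ := (AlgSp.yon S').map_surjective c'
  have hfst : b₀ ≫ strU g U = t ≫ σ₀ := by
    apply (AlgSp.yon S').map_injective
    have := congrArg (fun m => m ≫ prod.fst) hbc
    simp only [Category.assoc, prod.lift_fst] at this
    rw [Functor.map_comp, Functor.map_comp, this, hσ₀]
  have hsn : (AlgSp.yon S').map b₀ ≫ ψ g F' U c = (AlgSp.yon S').map t ≫ x ≫ prod.snd := by
    have := congrArg (fun m => m ≫ prod.snd) hbc
    simpa only [Category.assoc, prod.lift_snd] using this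
  have hfstl : b₀.left ≫ U.hom = t.left ≫ σ₀.left := by
    have := congrArg (fun m => m.left) hfst
    simpa only [Over.comp_left, Over.homMk_left] using this
  let b₁ : sOf (t ≫ σ₀) ⟶ U := Over.homMk b₀.left (by
    simp only [Over.mk_hom, Over.comp_left]
    exact hfstl)
  have hb₁ : (Over.map g).map b₁ = (sIso (t ≫ σ₀)).hom ≫ b₀ := by
    apply Over.OverMorphism.ext
    rw [Over.comp_left, sIso_hom_left]
    exact (Category.id_comp _).symm
  have hkey : (AlgSp.yon S).map b₁ ≫ c = (AlgSp.yon S).map (sMap t σ₀) ≫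
      Φ F' σ₀ (x ≫ prod.snd) := by
    apply (ψ g F' _).injective
    rw [ψ_map_comp, hb₁, Functor.map_comp, Category.assoc, hsn, ← Φ_map, ψ_Φ]
  obtain ⟨l, ⟨hl1, hl2⟩, hlu⟩ : ∃! l : (AlgSp.yon S).obj (sOf (t ≫ σ₀)) ⟶ (AlgSp.yon S).obj V,
      l ≫ (AlgSp.yon S).map v₂ = (AlgSp.yon S).map b₁ ∧
        l ≫ (AlgSp.yon S).map v₁ = (AlgSp.yon S).map (sMap t σ₀) :=
    ⟨sq.lift _ _ hkey, ⟨sq.lift_fst _ _ hkey, sq.lift_snd _ _ hkey⟩,
      fun m hm => sq.hom_ext (by rw [hm.1, sq.lift_fst]) (by rw [hm.2, sq.lift_snd])⟩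
  obtain ⟨l₁, rfl⟩ := (AlgSp.yon S).map_surjective l
  have hl1' : l₁ ≫ v₂ = b₁ := (AlgSp.yon S).map_injective (by rw [Functor.map_comp, hl1])
  have hl2' : l₁ ≫ v₁ = sMap t σ₀ := (AlgSp.yon S).map_injective (by rw [Functor.map_comp, hl2])
  refine ⟨(AlgSp.yon S').map ((sIso (t ≫ σ₀)).inv ≫ (Over.map g).map l₁), ⟨?_, ?_⟩, ?_⟩
  · rw [← Functor.map_comp, Category.assoc, ← Functor.map_comp, hl1', hb₁,
      Iso.inv_hom_id_assoc]
  · rw [← Functor.map_comp, hsnd, Category.assoc, ← Category.assoc ((Over.map g).map l₁),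
      ← Functor.map_comp, hl2', ← sIso_hom_comp_map, Iso.inv_hom_id_assoc]
  · rintro m ⟨hm1, hm2⟩
    obtain ⟨m', rfl⟩ := (AlgSp.yon S').map_surjective m
    congr 1
    have hm1' : m' ≫ (Over.map g).map v₂ = b₀ :=
      (AlgSp.yon S').map_injective (by rw [Functor.map_comp, hm1])
    have hm2' : m' ≫ snd = t :=
      (AlgSp.yon S').map_injective (by rw [Functor.map_comp, hm2])
    have hm1l : m'.left ≫ v₂.left = b₀.left := congrArg (fun m => m.left) hm1'
    have hm2l : m'.left ≫ v₁.left = t.left := by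
      have := congrArg (fun m => m.left) hm2'
      rw [Over.comp_left, hsndl] at this
      exact this
    let m₁ : sOf (t ≫ σ₀) ⟶ V := Over.homMk m'.left (by
      simp only [Over.mk_hom, Over.comp_left]
      rw [← hm2l, Category.assoc]
      congr 1
      exact (Over.w v₁).symm)
    have hm₁ : (AlgSp.yon S).map m₁ = (AlgSp.yon S).map l₁ := by
      apply hlu
      constructor
      · rw [← Functor.map_comp]
        congr 1
        apply Over.OverMorphism.ext
        exact hm1l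
      · rw [← Functor.map_comp]
        congr 1
        apply Over.OverMorphism.ext
        exact hm2l
    have hm₁' : m₁ = l₁ := (AlgSp.yon S).map_injective hm₁
    apply Over.OverMorphism.ext
    rw [Over.comp_left, sIso_inv_left, ← hm₁']
    exact (Category.id_comp _).symm

/-- if the restriction of `F'` to `S` is an algebraic space, then `h_S × F'` is an algebraic space
over `S'`. -/
theorem isAlgSpace_prod_of_res {F' : AlgSp.Sp S'} (hF : AlgSp.IsAlgSpace ((Res g).obj F')) :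
    AlgSp.IsAlgSpace (Hs g ⨯ F') := by
  constructor
  · exact Groth.Agent.S9874.representable_diag_of_isEqLocus
      (fun a b => exists_isEqLocus_shriek g hF.diag a b)
  · obtain ⟨U, c, hce, hcs⟩ := hF.atlas
    exact ⟨fl g U, _, repWith_shriek g @Etale c hce, repWith_shriek g @Surjective c hcs⟩

end Groth.Agent.Lib.Helper12.BaseChg2

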