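import Mathlib
import Groth.Prelude.Def_NonAbH2
import Groth.Agent.Lib.Helper12Torsor

/-!
Helper library (helper12): descent of morphisms along `snd P B : P ⊗ B ⟶ B` for an `S`-scheme `P`
which has sections locally for the fpqc topology (e.g. a torsor).
-/

set_option autoImplicit false
set_option linter.style.haveILetI false
universe u

open CategoryTheory MonoidalCategory CartesianMonoidalCategory MonObj AlgebraicGeometry Limits

namespace Groth.Agent.Lib.Helper12.LocSplit

/-- a morphism of schemes which has sections over the members of an fpqc covering of its target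
generates a covering sieve for the fpqc topology. -/
lemma generate_singleton_mem {E B : Scheme.{u}} (π : E ⟶ B) (R : Presieve B)
    (hR : R ∈ Scheme.fpqcPrecoverage B)
    (hsec : ∀ ⦃W : Scheme.{u}⦄ (g : W ⟶ B), R g → ∃ t : W ⟶ E, t ≫ π = g) :
    Sieve.generate (Presieve.singleton π) ∈ Scheme.fpqcTopology B := by
  refine GrothendieckTopology.superset_covering _ ?_ (Precoverage.generate_mem_toGrothendieck hR)
  rw [Sieve.generate_le_iff]
  intro W g hg
  obtain ⟨t, ht⟩ := hsec g hg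
  exact ⟨_, t, π, ⟨⟩, ht⟩

/-- a morphism of schemes which has sections over the members of an fpqc covering of its target
is an "effective epimorphism". -/
theorem existsUnique_desc {E B Z : Scheme.{u}} (π : E ⟶ B) (R : Presieve B)
    (hR : R ∈ Scheme.fpqcPrecoverage B)
    (hsec : ∀ ⦃W : Scheme.{u}⦄ (g : W ⟶ B), R g → ∃ t : W ⟶ E, t ≫ π = g) (m : E ⟶ Z)
    (hm : ∀ {W : Scheme.{u}} (p₁ p₂ : W ⟶ E), p₁ ≫ π = p₂ ≫ π → p₁ ≫ m = p₂ ≫ m) :
    ∃! r : B ⟶ Z, π ≫ r = m := by
  have hcov := generate_singleton_mem π R hR hsec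
  have hsh : Presieve.IsSheaf Scheme.fpqcTopology (yoneda.obj Z) :=
    GrothendieckTopology.Subcanonical.isSheaf_of_isRepresentable _
  have hshf := hsh _ hcov
  rw [← Presieve.isSheafFor_iff_generate, Presieve.isSheafFor_singleton] at hshf
  exact hshf m (fun p₁ p₂ h => hm p₁ p₂ h)

variable {S : Scheme.{u}}

/-- the projection `P ⊗ B ⟶ B` has sections over the members of an fpqc covering of `B` when `P`
is locally trivial. -/
lemma exists_cover_snd {P : Over S} (hP : NonAbH1.IsLocallyTrivialFor Scheme.fpqcPrecoverage P)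
    (B : Over S) :
    ∃ R ∈ Scheme.fpqcPrecoverage B.left, ∀ ⦃W : Scheme.{u}⦄ (g : W ⟶ B.left), R g →
      ∃ t : W ⟶ (P ⊗ B).left, t ≫ (snd P B).left = g := by
  obtain ⟨R, hR, hsec⟩ := hP
  refine ⟨R.pullbackArrows B.hom, Precoverage.pullbackArrows_mem B.hom hR, ?_⟩
  rintro W _ ⟨Z, k, hk⟩
  obtain ⟨σ, hσ⟩ := hsec k hk
  refine ⟨pullback.lift (pullback.fst k B.hom ≫ σ) (pullback.snd k B.hom)
    (by rw [Category.assoc, hσ, pullback.condition]), ?_⟩
  exact pullback.lift_snd _ _ _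

/-- descent of morphisms along `snd P B : P ⊗ B ⟶ B` for `P` locally trivial for the fpqc
topology. -/
theorem existsUnique_desc_snd {P : Over S}
    (hP : NonAbH1.IsLocallyTrivialFor Scheme.fpqcPrecoverage P) {B Z : Over S} (m : P ⊗ B ⟶ Z)
    (hm : ∀ {W : Over S} (x₁ x₂ : W ⟶ P) (y : W ⟶ B), lift x₁ y ≫ m = lift x₂ y ≫ m) :
    ∃! r : B ⟶ Z, snd P B ≫ r = m := by
  obtain ⟨R, hR, hsec⟩ := exists_cover_snd hP B
  have hm' : ∀ {W : Scheme.{u}} (p₁ p₂ : W ⟶ (P ⊗ B).left),
      p₁ ≫ (snd P B).left = p₂ ≫ (snd P B).left → ∀ {Z' : Over S} (m' : P ⊗ B ⟶ Z'),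
      (∀ {W : Over S} (x₁ x₂ : W ⟶ P) (y : W ⟶ B), lift x₁ y ≫ m' = lift x₂ y ≫ m') →
      p₁ ≫ m'.left = p₂ ≫ m'.left := by
    intro W p₁ p₂ h12 Z' m' hm'
    have hw : p₂ ≫ (P ⊗ B).hom = p₁ ≫ (P ⊗ B).hom := by
      rw [← Over.w (snd P B), ← Category.assoc, ← Category.assoc, h12]
    let W' : Over S := Over.mk (p₁ ≫ (P ⊗ B).hom)
    let q₁ : W' ⟶ P ⊗ B := Over.homMk p₁ rfl
    let q₂ : W' ⟶ P ⊗ B := Over.homMk p₂ hw
    have hq : q₁ ≫ snd P B = q₂ ≫ snd P B := by
      ext
      exact h12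
    have e1 : q₁ = lift (q₁ ≫ fst P B) (q₁ ≫ snd P B) := by
      apply CartesianMonoidalCategory.hom_ext <;> simp
    have e2 : q₂ = lift (q₂ ≫ fst P B) (q₁ ≫ snd P B) := by
      rw [hq]
      apply CartesianMonoidalCategory.hom_ext <;> simp
    have := hm' (q₁ ≫ fst P B) (q₂ ≫ fst P B) (q₁ ≫ snd P B)
    rw [← e1, ← e2] at this
    exact congrArg (fun φ => φ.left) this
  -- the morphism of schemes
  obtain ⟨r, hr, hru⟩ := existsUnique_desc (snd P B).left R hR hsec m.left
    (fun p₁ p₂ h => hm' p₁ p₂ h m hm)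
  -- uniqueness for the structure morphisms
  have hepi : ∀ {Z' : Scheme.{u}} (α β : B.left ⟶ Z'),
      (snd P B).left ≫ α = (snd P B).left ≫ β → α = β := by
    intro Z' α β hαβ
    obtain ⟨r', _, hru'⟩ := existsUnique_desc (snd P B).left R hR hsec ((snd P B).left ≫ α)
      (fun p₁ p₂ h => by rw [← Category.assoc, ← Category.assoc, h])
    rw [hru' α rfl, hru' β hαβ.symm]
  have hrw : r ≫ Z.hom = B.hom := by
    apply hepi
    rw [← Category.assoc, hr, Over.w m, Over.w (snd P B)]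
  refine ⟨Over.homMk r hrw, ?_, ?_⟩
  · ext
    exact hr
  · intro r' hr'
    ext
    exact hru r'.left (by rw [← hr']; rfl)

/-- `snd P B` is an epimorphism for `P` locally trivial for the fpqc topology. -/
theorem epi_snd {P : Over S} (hP : NonAbH1.IsLocallyTrivialFor Scheme.fpqcPrecoverage P)
    (B : Over S) : Epi (snd P B) := by
  constructor
  intro Z α β hαβ
  obtain ⟨r', _, hru'⟩ := existsUnique_desc_snd hP (snd P B ≫ α)
    (fun x₁ x₂ y => by simp)
  rw [hru' α rfl, hru' β hαβ.symm]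

end Groth.Agent.Lib.Helper12.LocSplit
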