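import Mathlib
import Groth.Prelude.Def_NonAbH2

/-!
Helper library (helper12): relative torsors `φ : X ⟶ Y` (the square `act, snd, φ, φ` is cartesian)
in terms of points; composition of fpqc-locally trivial morphisms.
-/

set_option autoImplicit false
set_option linter.style.haveILetI false
universe u

open CategoryTheory MonoidalCategory CartesianMonoidalCategory MonObj AlgebraicGeometry Limits

namespace Groth.Agent.Lib.Helper12.RelTorsor

section

variable {C : Type*} [Category C] [CartesianMonoidalCategory C] {G X Y : C}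
  {act : G ⊗ X ⟶ X} {φ : X ⟶ Y}

/-- points of a cartesian "torsor square". -/
theorem existsUnique_of_isPullback (h : IsPullback act (snd G X) φ φ) {T : C} (x₁ x₂ : T ⟶ X)
    (e : x₁ ≫ φ = x₂ ≫ φ) : ∃! g : T ⟶ G, lift g x₂ ≫ act = x₁ := by
  refine ⟨h.lift x₁ x₂ e ≫ fst G X, ?_, ?_⟩
  · have h1 : lift (h.lift x₁ x₂ e ≫ fst G X) x₂ = h.lift x₁ x₂ e := by
      apply CartesianMonoidalCategory.hom_ext <;> simp
    change lift (h.lift x₁ x₂ e ≫ fst G X) x₂ ≫ act = x₁
    rw [h1, h.lift_fst]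
  · intro g' hg'
    have h1 : lift g' x₂ = h.lift x₁ x₂ e := by
      apply h.hom_ext
      · rw [hg', h.lift_fst]
      · rw [lift_snd, h.lift_snd]
    rw [← h1, lift_fst]

/-- a "torsor square" is cartesian if it is so on points. -/
theorem isPullback_of_existsUnique (w : act ≫ φ = snd G X ≫ φ)
    (H : ∀ {T : C} (x₁ x₂ : T ⟶ X), x₁ ≫ φ = x₂ ≫ φ → ∃! g : T ⟶ G, lift g x₂ ≫ act = x₁) :
    IsPullback act (snd G X) φ φ := by
  refine ⟨⟨w⟩, ⟨PullbackCone.IsLimit.mk w
    (fun s => lift (H s.fst s.snd s.condition).choose s.snd) ?_ ?_ ?_⟩⟩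
  · intro s
    exact (H s.fst s.snd s.condition).choose_spec.1
  · intro s
    exact lift_snd _ _
  · intro s m hm1 hm2
    have h1 : m = lift (m ≫ fst G X) s.snd := by
      apply CartesianMonoidalCategory.hom_ext <;> simp [hm2]
    have h2 : lift (m ≫ fst G X) s.snd ≫ act = s.fst := by rw [← h1, hm1]
    have h3 := (H s.fst s.snd s.condition).choose_spec.2 _ h2
    rw [h1, h3]

end

/-- composition of morphisms having sections locally for the fpqc topology. -/
theorem isLocallyTrivialFor_comp {X Y Z : Scheme.{u}} (φ₁ : X ⟶ Y) (φ₂ : Y ⟶ Z)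
    (h₁ : NonAbH1.IsLocallyTrivialFor Scheme.fpqcPrecoverage (Over.mk φ₁ : Over Y))
    (h₂ : NonAbH1.IsLocallyTrivialFor Scheme.fpqcPrecoverage (Over.mk φ₂ : Over Z)) :
    NonAbH1.IsLocallyTrivialFor Scheme.fpqcPrecoverage (Over.mk (φ₁ ≫ φ₂) : Over Z) := by
  obtain ⟨R₁, hR₁, hsec₁⟩ := h₁
  obtain ⟨R₂, hR₂, hsec₂⟩ := h₂
  obtain ⟨J, Yj, g, rfl⟩ := Presieve.exists_eq_ofArrows R₁
  obtain ⟨I, Zi, f, rfl⟩ := Presieve.exists_eq_ofArrows R₂
  have hs : ∀ i, ∃ s : Zi i ⟶ Y, s ≫ φ₂ = f i := fun i => hsec₂ (f i) ⟨i⟩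
  choose s hs using hs
  have ht : ∀ j, ∃ t : Yj j ⟶ X, t ≫ φ₁ = g j := fun j => hsec₁ (g j) ⟨j⟩
  choose t ht using ht
  have hmem : ∀ i, Presieve.ofArrows (fun j => pullback (g j) (s i))
      (fun j => pullback.snd (g j) (s i)) ∈ Scheme.fpqcPrecoverage (Zi i) := by
    intro i
    rw [Presieve.ofArrows_pullback]
    exact Precoverage.pullbackArrows_mem (s i) hR₁
  have := Precoverage.comp_mem_coverings (J := Scheme.fpqcPrecoverage.{u}) (f := f) hR₂
    (σ := fun _ => J) (Y := fun i j => pullback (g j) (s i))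
    (g := fun i j => pullback.snd (g j) (s i)) hmem
  refine ⟨_, this, ?_⟩
  rintro T _ ⟨p⟩
  refine ⟨pullback.fst (g p.2) (s p.1) ≫ t p.2, ?_⟩
  change (pullback.fst (g p.2) (s p.1) ≫ t p.2) ≫ φ₁ ≫ φ₂ = _
  rw [Category.assoc, reassoc_of% (ht p.2), pullback.condition_assoc, hs]

end Groth.Agent.Lib.Helper12.RelTorsor
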