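import Mathlib
import Groth.Prelude.Def_NonAbH2
import Groth.Prelude.Def_W4bk4git07Quot
import Groth.Agent.Lib.Helper12Act
import Groth.Agent.Lib.Helper12LocSplit
import Groth.Agent.Lib.Helper12RelTorsor

/-!
Helper library (helper12): an equivariant morphism of principal bundles (relative torsors) over a
morphism of the bases gives a cartesian square.
-/

set_option autoImplicit false
set_option linter.style.haveILetI false
universe u

open CategoryTheory MonoidalCategory CartesianMonoidalCategory MonObj AlgebraicGeometry Limits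

namespace Groth.Agent.Lib.Helper12.BundleMap

open Groth.Agent.Lib.Helper12 Groth.Agent.Lib.Helper12.RelTorsor Groth.Agent.Lib.Helper12.LocSplit

/-- an fpqc morphism has sections locally for the fpqc topology. -/
lemma isLocallyTrivialFor_of_fpqc {E Q : Scheme.{u}} (π : E ⟶ Q) [Flat π] [Surjective π]
    [QuasiCompact π] :
    NonAbH1.IsLocallyTrivialFor Scheme.fpqcPrecoverage (Over.mk π : Over Q) := by
  refine ⟨Presieve.singleton π, Scheme.Hom.singleton_mem_fpqcPrecoverage π, ?_⟩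
  rintro T _ ⟨⟩
  exact ⟨𝟙 E, Category.id_comp _⟩

/-- having sections locally for the fpqc topology is stable under base change. -/
lemma isLocallyTrivialFor_of_isPullback {T' T E Q : Scheme.{u}} {ρ : T' ⟶ T} {x : T' ⟶ E}
    {t : T ⟶ Q} {π : E ⟶ Q} (sq : IsPullback ρ x t π)
    (h : NonAbH1.IsLocallyTrivialFor Scheme.fpqcPrecoverage (Over.mk π : Over Q)) :
    NonAbH1.IsLocallyTrivialFor Scheme.fpqcPrecoverage (Over.mk ρ : Over T) := by
  obtain ⟨R, hR, hsec⟩ := h
  refine ⟨R.pullbackArrows t, Precoverage.pullbackArrows_mem t hR, ?_⟩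
  rintro W _ ⟨Z, k, hk⟩
  obtain ⟨σ, hσ⟩ := hsec k hk
  have hσ' : σ ≫ π = k := hσ
  refine ⟨sq.lift (pullback.snd k t) (pullback.fst k t ≫ σ) ?_, ?_⟩
  · rw [Category.assoc, hσ', pullback.condition]
  · exact sq.lift_fst _ _ _

/-- a square is cartesian if it is so on points. -/
theorem isPullback_of_existsUnique_sq {C : Type*} [Category C] {A B C' D : C} {f : A ⟶ B}
    {g : A ⟶ C'} {p : B ⟶ D} {q : C' ⟶ D} (w : f ≫ p = g ≫ q)
    (H : ∀ {T : C} (b : T ⟶ B) (c : T ⟶ C'), b ≫ p = c ≫ q →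
      ∃! a : T ⟶ A, a ≫ f = b ∧ a ≫ g = c) : IsPullback f g p q := by
  refine ⟨⟨w⟩, ⟨PullbackCone.IsLimit.mk w
    (fun s => (H s.fst s.snd s.condition).choose) ?_ ?_ ?_⟩⟩
  · intro s
    exact (H s.fst s.snd s.condition).choose_spec.1.1
  · intro s
    exact (H s.fst s.snd s.condition).choose_spec.1.2
  · intro s m hm1 hm2
    exact (H s.fst s.snd s.condition).choose_spec.2 m ⟨hm1, hm2⟩

variable {S : Scheme.{u}}

/-- descent of morphisms along a morphism of `S`-schemes having sections locally for the fpqc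
topology. -/
theorem existsUnique_desc_over {T' T Z : Over S} (ρ : T' ⟶ T)
    (hρ : NonAbH1.IsLocallyTrivialFor Scheme.fpqcPrecoverage (Over.mk ρ.left : Over T.left))
    (m : T' ⟶ Z)
    (hm : ∀ {W : Over S} (p₁ p₂ : W ⟶ T'), p₁ ≫ ρ = p₂ ≫ ρ → p₁ ≫ m = p₂ ≫ m) :
    ∃! r : T ⟶ Z, ρ ≫ r = m := by
  obtain ⟨R, hR, hsec⟩ := hρ
  have hsec' : ∀ ⦃W : Scheme.{u}⦄ (g : W ⟶ T.left), R g → ∃ t : W ⟶ T'.left, t ≫ ρ.left = g :=
    fun W g hg => hsec g hg
  have hm' : ∀ {Z' : Over S} (m' : T' ⟶ Z'),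
      (∀ {W : Over S} (p₁ p₂ : W ⟶ T'), p₁ ≫ ρ = p₂ ≫ ρ → p₁ ≫ m' = p₂ ≫ m') →
      ∀ {W : Scheme.{u}} (p₁ p₂ : W ⟶ T'.left), p₁ ≫ ρ.left = p₂ ≫ ρ.left →
      p₁ ≫ m'.left = p₂ ≫ m'.left := by
    intro Z' m' hm' W p₁ p₂ h12
    have hw : p₂ ≫ T'.hom = p₁ ≫ T'.hom := by
      rw [← Over.w ρ, ← Category.assoc, ← Category.assoc, h12]
    let W' : Over S := Over.mk (p₁ ≫ T'.hom)
    let q₁ : W' ⟶ T' := Over.homMk p₁ rfl
    let q₂ : W' ⟶ T' := Over.homMk p₂ hw
    have hq : q₁ ≫ ρ = q₂ ≫ ρ := by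
      ext
      exact h12
    exact congrArg (fun φ => φ.left) (hm' q₁ q₂ hq)
  obtain ⟨r, hr, hru⟩ := existsUnique_desc ρ.left R hR hsec' m.left (hm' m hm)
  have hepi : ∀ {Z' : Scheme.{u}} (α β : T.left ⟶ Z'), ρ.left ≫ α = ρ.left ≫ β → α = β := by
    intro Z' α β hαβ
    obtain ⟨r', _, hru'⟩ := existsUnique_desc ρ.left R hR hsec' (ρ.left ≫ α)
      (fun p₁ p₂ h => by rw [← Category.assoc, ← Category.assoc, h])
    rw [hru' α rfl, hru' β hαβ.symm]
  have hrw : r ≫ Z.hom = T.hom := by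
    apply hepi
    rw [← Category.assoc, hr, Over.w m, Over.w ρ]
  refine ⟨Over.homMk r hrw, ?_, ?_⟩
  · ext
    exact hr
  · intro r' hr'
    ext
    exact hru r'.left (by rw [← hr']; rfl)

/-- a morphism having sections locally for the fpqc topology is an epimorphism. -/
theorem epi_of_isLocallyTrivialFor {T' T : Over S} (ρ : T' ⟶ T)
    (hρ : NonAbH1.IsLocallyTrivialFor Scheme.fpqcPrecoverage (Over.mk ρ.left : Over T.left)) :
    Epi ρ := by
  constructor
  intro Z α β hαβ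
  obtain ⟨r', _, hru'⟩ := existsUnique_desc_over ρ hρ (ρ ≫ α)
    (fun p₁ p₂ h => by rw [← Category.assoc, ← Category.assoc, h])
  rw [hru' α rfl, hru' β hαβ.symm]

variable {H : Over S} [GrpObj H] {E E' Q Q' : Over S}

/-- **Key lemma**: an equivariant morphism `h : E ⟶ E'` of principal bundles `π : E ⟶ Q`,
`π' : E' ⟶ Q'` over a morphism `β : Q ⟶ Q'` of the bases gives a cartesian square. -/
theorem isPullback_of_equivariant (aE : AlgGrp.Action H E) (aE' : AlgGrp.Action H E')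
    (π : E ⟶ Q) (π' : E' ⟶ Q')
    (hcart : IsPullback aE.act (snd H E) π π) (hcart' : IsPullback aE'.act (snd H E') π' π')
    (hloc : NonAbH1.IsLocallyTrivialFor Scheme.fpqcPrecoverage (Over.mk π.left : Over Q.left))
    (h : E ⟶ E') (hh : aE.act ≫ h = (H ◁ h) ≫ aE'.act) (β : Q ⟶ Q') (hβ : π ≫ β = h ≫ π') :
    IsPullback π h β π' := by
  -- equivariance on points
  have hpt : ∀ {W : Over S} (g : W ⟶ H) (e : W ⟶ E),
      (lift g e ≫ aE.act) ≫ h = lift g (e ≫ h) ≫ aE'.act := by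
    intro W g e
    rw [Category.assoc, hh, ← Category.assoc]
    congr 1
    apply CartesianMonoidalCategory.hom_ext <;> simp
  -- invariance on points
  have hinv : ∀ {W : Over S} (g : W ⟶ H) (e : W ⟶ E), (lift g e ≫ aE.act) ≫ π = e ≫ π := by
    intro W g e
    rw [Category.assoc, hcart.w, ← Category.assoc, lift_snd]
  -- uniqueness
  have huniq : ∀ {W : Over S} (e₁ e₂ : W ⟶ E), e₁ ≫ π = e₂ ≫ π → e₁ ≫ h = e₂ ≫ h → e₁ = e₂ := by
    intro W e₁ e₂ h1 h2
    obtain ⟨g, hg, -⟩ := existsUnique_of_isPullback hcart e₁ e₂ h1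
    obtain ⟨g', -, hg'u⟩ := existsUnique_of_isPullback hcart' (e₂ ≫ h) (e₂ ≫ h) rfl
    have e1 : g = g' := hg'u g (by
      change lift g (e₂ ≫ h) ≫ aE'.act = e₂ ≫ h
      rw [← hpt, hg, h2])
    have e2 : (1 : W ⟶ H) = g' := hg'u 1 (act_one aE' _)
    rw [← hg, e1, ← e2, act_one]
  refine isPullback_of_existsUnique_sq hβ ?_
  intro T t e' ht
  have sq : IsPullback (pullback.fst t π) (pullback.snd t π) t π := IsPullback.of_hasPullback t π
  set ρ := pullback.fst t π with hρdef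
  set x₀ := pullback.snd t π with hx₀
  have hρ : NonAbH1.IsLocallyTrivialFor Scheme.fpqcPrecoverage
      (Over.mk ρ.left : Over T.left) :=
    isLocallyTrivialFor_of_isPullback (sq.map (Over.forget S)) hloc
  have hw : (ρ ≫ e') ≫ π' = (x₀ ≫ h) ≫ π' := by
    rw [Category.assoc, ← ht, ← Category.assoc, sq.w, Category.assoc, hβ, Category.assoc]
  obtain ⟨g, hg, -⟩ := existsUnique_of_isPullback hcart' (ρ ≫ e') (x₀ ≫ h) hw
  have hg : lift g (x₀ ≫ h) ≫ aE'.act = ρ ≫ e' := hg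
  obtain ⟨m, hm⟩ : ∃ m, m = lift g x₀ ≫ aE.act := ⟨_, rfl⟩
  have hm1 : m ≫ h = ρ ≫ e' := by rw [hm, hpt, hg]
  have hm2 : m ≫ π = ρ ≫ t := by rw [hm, hinv, sq.w]
  obtain ⟨r, hr, -⟩ := existsUnique_desc_over ρ hρ m (by
    intro W p₁ p₂ h12
    apply huniq
    · rw [Category.assoc, Category.assoc, hm2, ← Category.assoc, ← Category.assoc, h12]
    · rw [Category.assoc, Category.assoc, hm1, ← Category.assoc, ← Category.assoc, h12])
  haveI := epi_of_isLocallyTrivialFor ρ hρ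
  have hr1 : r ≫ π = t := by
    rw [← cancel_epi ρ, ← Category.assoc, hr, hm2]
  have hr2 : r ≫ h = e' := by
    rw [← cancel_epi ρ, ← Category.assoc, hr, hm1]
  refine ⟨r, ⟨hr1, hr2⟩, ?_⟩
  rintro r' ⟨hr'1, hr'2⟩
  exact huniq r' r (hr'1.trans hr1.symm) (hr'2.trans hr2.symm)

/-- `IsIso (GIT.PsiY a φ h)` says that the square `act, snd, φ, φ` is cartesian. -/
theorem isPullback_of_isIso_PsiY {G X Y : Over S} [GrpObj G] (a : AlgGrp.Action G X) (φ : X ⟶ Y)
    (hinv : GIT.IsInvariant a φ) (hcart : IsIso (GIT.PsiY a φ hinv)) :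
    IsPullback a.act (snd G X) φ φ := by
  have hcart' : IsPullback a.act.left (snd G X).left φ.left φ.left := by
    have h1 : GIT.PsiY a φ hinv ≫ pullback.fst φ.left φ.left = a.act.left :=
      pullback.lift_fst _ _ _
    have h2 : GIT.PsiY a φ hinv ≫ pullback.snd φ.left φ.left = (snd G X).left :=
      pullback.lift_snd _ _ _
    exact IsPullback.of_iso_pullback ⟨hinv.left⟩ (asIso (GIT.PsiY a φ hinv)) h1 h2
  exact IsPullback.of_map (Over.forget S) hinv hcart'

/-- the product `G ⊗ X` of quasi-compact `S`-schemes is quasi-compact over `S`. -/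
lemma quasiCompact_tensor_hom (G X : Over S) [QuasiCompact G.hom] [QuasiCompact X.hom] :
    QuasiCompact (G ⊗ X).hom := by
  have h1 : (G ⊗ X).hom = (fst G X).left ≫ G.hom := (Over.w (fst G X)).symm
  have h2 : (fst G X).left = pullback.fst G.hom X.hom := rfl
  rw [h1, h2]
  infer_instance

end Groth.Agent.Lib.Helper12.BundleMap
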