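import Mathlib

/-!
# Finite type descends along étale covers of the source (helper20)
-/

set_option autoImplicit false
universe u

open TensorProduct

namespace Groth.Agent.Lib.Helper20.EtSrc

section Ring

variable {A₀ A B₀ : Type u} [CommRing A₀] [CommRing A] [CommRing B₀] [Algebra A₀ A]
  [Algebra A₀ B₀]

/-- The comparison map `A₁ ⊗ B₀ → A ⊗ B₀` for a subalgebra `A₁ ⊆ A`. -/
noncomputable def cmp (A₁ : Subalgebra A₀ A) : A₁ ⊗[A₀] B₀ →ₐ[A₀] A ⊗[A₀] B₀ :=
  Algebra.TensorProduct.map A₁.val (AlgHom.id A₀ B₀)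

@[simp] lemma cmp_tmul (A₁ : Subalgebra A₀ A) (a : A₁) (b : B₀) :
    cmp A₁ (a ⊗ₜ[A₀] b) = (a : A) ⊗ₜ[A₀] b := by
  simp [cmp]

lemma cmp_mono {A₁ A₂ : Subalgebra A₀ A} (h : A₁ ≤ A₂) :
    (cmp (B₀ := B₀) A₁).range ≤ (cmp (B₀ := B₀) A₂).range := by
  have : cmp (B₀ := B₀) A₁ = (cmp A₂).comp
      (Algebra.TensorProduct.map (Subalgebra.inclusion h) (AlgHom.id A₀ B₀)) := by
    apply Algebra.TensorProduct.ext'
    intro a b
    simp
  rw [this]
  exact AlgHom.range_comp_le_range _ _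

lemma exists_fg_mem_range (x : A ⊗[A₀] B₀) :
    ∃ A₁ : Subalgebra A₀ A, A₁.FG ∧ x ∈ (cmp (B₀ := B₀) A₁).range := by
  induction x using TensorProduct.induction_on with
  | zero => exact ⟨⊥, Subalgebra.fg_bot, zero_mem _⟩
  | tmul a b =>
    refine ⟨Algebra.adjoin A₀ {a}, by simpa using Subalgebra.fg_adjoin_finset {a}, ?_⟩
    exact ⟨⟨a, Algebra.subset_adjoin (Set.mem_singleton a)⟩ ⊗ₜ b, by simp⟩
  | add x y hx hy =>
    obtain ⟨A₁, h1, hx⟩ := hx
    obtain ⟨A₂, h2, hy⟩ := hy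
    exact ⟨A₁ ⊔ A₂, h1.sup h2, add_mem (cmp_mono le_sup_left hx) (cmp_mono le_sup_right hy)⟩

lemma exists_fg_subset_range (s : Finset (A ⊗[A₀] B₀)) :
    ∃ A₁ : Subalgebra A₀ A, A₁.FG ∧ (s : Set (A ⊗[A₀] B₀)) ⊆ (cmp (B₀ := B₀) A₁).range := by
  classical
  induction s using Finset.induction_on with
  | empty => exact ⟨⊥, Subalgebra.fg_bot, by simp⟩
  | insert a s _ ih =>
    obtain ⟨A₁, h1, hs⟩ := ih
    obtain ⟨A₂, h2, ha⟩ := exists_fg_mem_range (B₀ := B₀) a
    refine ⟨A₁ ⊔ A₂, h1.sup h2, ?_⟩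
    intro x hx
    simp only [Finset.coe_insert, Set.mem_insert_iff] at hx
    rcases hx with rfl | hx
    · exact cmp_mono le_sup_right ha
    · exact cmp_mono le_sup_left (hs hx)

end Ring

section Ring2

open AlgebraicGeometry CategoryTheory Limits in
lemma exists_prime_tensor {R S T : Type u} [CommRing R] [CommRing S] [CommRing T] [Algebra R S]
    [Algebra R T] (q : PrimeSpectrum S) (p : PrimeSpectrum T)
    (h : PrimeSpectrum.comap (algebraMap R S) q = PrimeSpectrum.comap (algebraMap R T) p) :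
    ∃ P : PrimeSpectrum (S ⊗[R] T), PrimeSpectrum.comap (algebraMap S (S ⊗[R] T)) P = q := by
  obtain ⟨z, hz1, -⟩ := Scheme.Pullback.exists_preimage_pullback
    (f := Spec.map (CommRingCat.ofHom (algebraMap R S)))
    (g := Spec.map (CommRingCat.ofHom (algebraMap R T))) q p h
  refine ⟨(pullbackSpecIso R S T).hom z, ?_⟩
  rw [← hz1, ← pullbackSpecIso_hom_fst' R S T]
  rfl

variable {A₀ A B₀ : Type u} [CommRing A₀] [CommRing A] [CommRing B₀] [Algebra A₀ A]
  [Algebra A₀ B₀]

set_option synthInstance.maxHeartbeats 400000 in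
set_option maxHeartbeats 1000000 in
theorem finiteType_of_tensor [Module.Flat A₀ B₀] [Algebra.FinitePresentation A₀ B₀]
    (hsurj : ∀ q : PrimeSpectrum A, PrimeSpectrum.comap (algebraMap A₀ A) q ∈
      Set.range (PrimeSpectrum.comap (algebraMap A₀ B₀)))
    [hft : Algebra.FiniteType A₀ (A ⊗[A₀] B₀)] : Algebra.FiniteType A₀ A := by
  classical
  -- the open image
  have hopen : IsOpen (Set.range (PrimeSpectrum.comap (algebraMap A₀ B₀))) :=
    (PrimeSpectrum.isOpenMap_comap_of_hasGoingDown_of_finitePresentation).isOpen_range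
  obtain ⟨J, hJ⟩ := (PrimeSpectrum.isClosed_iff_zeroLocus_ideal _).1 hopen.isClosed_compl
  have hJtop : J.map (algebraMap A₀ A) = ⊤ := by
    by_contra hne
    obtain ⟨m, hm, hle⟩ := Ideal.exists_le_maximal _ hne
    have hmp : m.IsPrime := hm.isPrime
    have h1 := hsurj ⟨m, hmp⟩
    have h2 : PrimeSpectrum.comap (algebraMap A₀ A) ⟨m, hmp⟩ ∈
        (Set.range (PrimeSpectrum.comap (algebraMap A₀ B₀)))ᶜ := by
      rw [hJ, PrimeSpectrum.mem_zeroLocus]
      intro j hj
      exact hle (Ideal.mem_map_of_mem _ hj)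
    exact h2 h1
  rw [Ideal.map, Ideal.span_eq_top_iff_finite] at hJtop
  obtain ⟨s', hs'J, hs'top⟩ := hJtop
  rw [Ideal.eq_top_iff_one, Submodule.mem_span_finset] at hs'top
  obtain ⟨c, -, hc⟩ := hs'top
  -- generators
  obtain ⟨G, hG⟩ := hft.out
  obtain ⟨A₁', hfg₁, hGA₁⟩ := exists_fg_subset_range (B₀ := B₀) G
  let A₁ : Subalgebra A₀ A := A₁' ⊔ Algebra.adjoin A₀ ((s'.image c : Finset A) : Set A)
  have hA₁fg : A₁.FG := hfg₁.sup (Subalgebra.fg_adjoin_finset _)
  have hcmem : ∀ t ∈ s', c t ∈ A₁ := fun t ht =>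
    (le_sup_right : _ ≤ A₁) (Algebra.subset_adjoin (by simpa using ⟨t, ht, rfl⟩))
  have hcmp : Function.Surjective (cmp (B₀ := B₀) A₁) := by
    rw [← AlgHom.range_eq_top, eq_top_iff, ← hG]
    exact Algebra.adjoin_le ((hGA₁.trans (cmp_mono (le_sup_left : A₁' ≤ A₁))))
  -- every prime of `A₁` lies over the open image
  have hA₁J : ∀ q₁ : PrimeSpectrum A₁, PrimeSpectrum.comap (algebraMap A₀ A₁) q₁ ∈
      Set.range (PrimeSpectrum.comap (algebraMap A₀ B₀)) := by
    intro q₁
    by_contra hq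
    have hq' : PrimeSpectrum.comap (algebraMap A₀ A₁) q₁ ∈
        (Set.range (PrimeSpectrum.comap (algebraMap A₀ B₀)))ᶜ := hq
    rw [hJ, PrimeSpectrum.mem_zeroLocus] at hq'
    have hmem : ∀ t ∈ s', ∃ t₁ : A₁, t₁ ∈ q₁.asIdeal ∧ (t₁ : A) = t := by
      intro t ht
      obtain ⟨j, hj, rfl⟩ := hs'J ht
      exact ⟨algebraMap A₀ A₁ j, hq' hj, rfl⟩
    have h1 : (1 : A₁) ∈ q₁.asIdeal := by
      have : (1 : A₁) = ∑ t ∈ s'.attach, (⟨c t, hcmem t t.2⟩ : A₁) * (hmem t t.2).choose := by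
        apply Subtype.ext
        rw [AddSubmonoidClass.coe_finsetSum]
        simp only [MulMemClass.coe_mul, OneMemClass.coe_one]
        rw [← hc, ← Finset.sum_attach]
        refine Finset.sum_congr rfl (fun t _ => ?_)
        rw [(hmem t t.2).choose_spec.2, smul_eq_mul]
      rw [this]
      exact Ideal.sum_mem _ (fun t _ => Ideal.mul_mem_left _ _ (hmem t t.2).choose_spec.1)
    exact q₁.isPrime.ne_top ((Ideal.eq_top_iff_one _).2 h1)
  -- faithful flatness of `A₁ ⊗ B₀` over `A₁`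
  have hff : Module.FaithfullyFlat A₁ (A₁ ⊗[A₀] B₀) := by
    apply Module.FaithfullyFlat.of_comap_surjective
    intro q₁
    obtain ⟨p₀, hp₀⟩ := hA₁J q₁
    exact exists_prime_tensor q₁ p₀ hp₀.symm
  -- descent of surjectivity
  have hval : Function.Surjective (Algebra.linearMap A₁ A) := by
    rw [← Module.FaithfullyFlat.lTensor_surjective_iff_surjective A₁ (A₁ ⊗[A₀] B₀)]
    let e := TensorProduct.AlgebraTensorModule.cancelBaseChange A₀ A₁ A₁ A B₀
    have key : ∀ x' : A₁ ⊗[A₀] B₀, e ((1 : A) ⊗ₜ[A₁] x') = cmp A₁ x' := by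
      intro x'
      induction x' using TensorProduct.induction_on with
      | zero => simp
      | tmul a b =>
        simp only [e, TensorProduct.AlgebraTensorModule.cancelBaseChange_tmul, cmp_tmul]
        congr 1
        rw [Algebra.smul_def, mul_one]
        rfl
      | add x y hx hy => rw [TensorProduct.tmul_add, map_add, map_add, hx, hy]
    intro y
    obtain ⟨x', hx'⟩ := hcmp (e (TensorProduct.comm A₁ _ _ y))
    refine ⟨x' ⊗ₜ 1, ?_⟩
    apply (TensorProduct.comm A₁ _ _).injective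
    apply e.injective
    rw [← hx', ← key]
    simp
  have htop : A₁ = ⊤ := by
    rw [eq_top_iff]
    intro a _
    obtain ⟨a₁, rfl⟩ := hval a
    exact a₁.2
  exact ⟨htop ▸ hA₁fg⟩


omit [Algebra A₀ A] [Algebra A₀ B₀] in
/-- Finite type descends along an étale cover of the source (ring form). -/
theorem finiteType_of_etale_of_surjective {R A B : Type u} [CommRing R] [CommRing A] [CommRing B]
    [Algebra R A] [Algebra A B] [Algebra R B] [IsScalarTower R A B] [Algebra.Etale A B]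
    (hs : Function.Surjective (PrimeSpectrum.comap (algebraMap A B)))
    [Algebra.FiniteType R B] : Algebra.FiniteType R A := by
  obtain ⟨A₀, B₀, _, _, hfg, hét, ⟨e⟩⟩ := Algebra.Etale.exists_subalgebra_fg R A B
  have hA₀ : Algebra.FiniteType R A₀ := (Subalgebra.fg_iff_finiteType A₀).mp hfg
  have h1 : Algebra.FiniteType R (A ⊗[A₀] B₀) :=
    Algebra.FiniteType.equiv ‹_› (e.restrictScalars R)
  have h2 : Algebra.FiniteType A₀ (A ⊗[A₀] B₀) :=
    Algebra.FiniteType.of_restrictScalars_finiteType R A₀ _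
  have h3 : Algebra.FiniteType A₀ A := by
    refine finiteType_of_tensor (B₀ := B₀) (hft := h2) ?_
    intro q
    obtain ⟨P, rfl⟩ := hs q
    let ρ : B₀ →+* B := (RingHomClass.toRingHom e.symm).comp
      (Algebra.TensorProduct.includeRight (R := A₀) (A := A) (B := B₀)).toRingHom
    have hρ : ρ.comp (algebraMap A₀ B₀) = (algebraMap A B).comp (algebraMap A₀ A) := by
      ext a₀
      simp only [ρ, RingHom.comp_apply, AlgHom.toRingHom_eq_coe, RingHom.coe_coe,
        Algebra.TensorProduct.includeRight_apply]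
      have h : (1 : A) ⊗ₜ[A₀] (algebraMap A₀ B₀ a₀) = algebraMap A (A ⊗[A₀] B₀) (algebraMap A₀ A a₀) := by
        rw [Algebra.TensorProduct.algebraMap_apply, Algebra.algebraMap_eq_smul_one (A := B₀),
          TensorProduct.tmul_smul, TensorProduct.smul_tmul', Algebra.smul_def, mul_one]
        rfl
      erw [h]
      exact e.symm.commutes _
    refine ⟨PrimeSpectrum.comap ρ P, ?_⟩
    rw [← PrimeSpectrum.comap_comp_apply, hρ, PrimeSpectrum.comap_comp_apply]
  exact Algebra.FiniteType.trans hA₀ h3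

/-- Formal unramifiedness descends along an étale cover of the source (ring form). -/
theorem formallyUnramified_of_etale_of_surjective {R A B : Type u} [CommRing R] [CommRing A]
    [CommRing B] [Algebra R A] [Algebra A B] [Algebra R B] [IsScalarTower R A B]
    [Algebra.Etale A B]
    (hs : Function.Surjective (PrimeSpectrum.comap (algebraMap A B)))
    [Algebra.FormallyUnramified R B] : Algebra.FormallyUnramified R A := by
  have hff : Module.FaithfullyFlat A B := Module.FaithfullyFlat.of_comap_surjective hs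
  have h0 : Subsingleton Ω[B⁄R] := Algebra.FormallyUnramified.subsingleton_kaehlerDifferential
  have : Subsingleton (B ⊗[A] Ω[A⁄R]) :=
    (KaehlerDifferential.tensorKaehlerEquivOfFormallyEtale R A B).injective.subsingleton
  exact ⟨Module.FaithfullyFlat.lTensor_reflects_triviality A B _⟩


end Ring2

section Sch

open AlgebraicGeometry CategoryTheory Limits MorphismProperty

lemma comap_appLE_surjective {X' X : Scheme.{u}} (f : X' ⟶ X) {V : X.Opens} {W : X'.Opens}
    (hV : IsAffineOpen V) (hW : IsAffineOpen W) (e : W ≤ f ⁻¹ᵁ V)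
    (hs : ∀ y ∈ V, ∃ w ∈ W, f w = y) :
    Function.Surjective (PrimeSpectrum.comap (f.appLE V W e).hom) := by
  intro 𝔭
  obtain ⟨w, hw, hfw⟩ := hs (hV.fromSpec 𝔭) (by
    rw [← SetLike.mem_coe, ← hV.range_fromSpec]; exact ⟨𝔭, rfl⟩)
  have hw' : w ∈ Set.range hW.fromSpec := by rw [hW.range_fromSpec]; exact hw
  obtain ⟨𝔮, rfl⟩ := hw'
  refine ⟨𝔮, ?_⟩
  apply hV.fromSpec.isOpenEmbedding.injective
  rw [← hfw]
  have := congr($(IsAffineOpen.SpecMap_appLE_fromSpec f hV hW e) 𝔮)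
  exact this

/-- Generic descent along étale covers of the source. -/
theorem of_etale_cover_source {P : MorphismProperty Scheme.{u}}
    {Q : ∀ {R S : Type u} [CommRing R] [CommRing S], (R →+* S) → Prop}
    [HasRingHomProperty P Q]
    (hQ : RingHom.StableUnderCompositionWithLocalizationAwaySource Q)
    (hdesc : ∀ {R A B : Type u} [CommRing R] [CommRing A] [CommRing B] (φ : R →+* A)
      (ψ : A →+* B), ψ.Etale → Function.Surjective (PrimeSpectrum.comap ψ) → Q (ψ.comp φ) → Q φ)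
    {X' X Y : Scheme.{u}} (f : X' ⟶ X) (g : X ⟶ Y) [Etale f] [Surjective f] (h : P (f ≫ g)) :
    P g := by
  rw [HasRingHomProperty.iff_exists_appLE (P := P) hQ]
  intro x
  obtain ⟨U, hU, hgx, -⟩ := TopologicalSpace.Opens.isBasis_iff_nbhd.mp Y.isBasis_affineOpens
    (TopologicalSpace.Opens.mem_top (g x))
  obtain ⟨V₀, hV₀, hxV₀, eV₀⟩ := TopologicalSpace.Opens.isBasis_iff_nbhd.mp X.isBasis_affineOpens
    (show x ∈ g ⁻¹ᵁ U from hgx)
  obtain ⟨x', rfl⟩ := f.surjective x
  obtain ⟨W₀, hW₀, hxW₀, eW₀⟩ := TopologicalSpace.Opens.isBasis_iff_nbhd.mp X'.isBasis_affineOpens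
    (show x' ∈ f ⁻¹ᵁ V₀ from hxV₀)
  let O : X.Opens := ⟨f '' W₀, f.isOpenMap _ W₀.isOpen⟩
  obtain ⟨a, haO, hxa⟩ := hV₀.exists_basicOpen_le (V := O) ⟨f x', ⟨x', hxW₀, rfl⟩⟩ hxV₀
  let V : X.Opens := X.basicOpen a
  have hV : IsAffineOpen V := hV₀.basicOpen a
  let W : X'.Opens := X'.basicOpen (f.appLE V₀ W₀ eW₀ a)
  have hW : IsAffineOpen W := hW₀.basicOpen _
  have hWeq : W = W₀ ⊓ f ⁻¹ᵁ V := Scheme.basicOpen_appLE f W₀ V₀ eW₀ a
  have eW : W ≤ f ⁻¹ᵁ V := hWeq ▸ inf_le_right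
  have eV : V ≤ g ⁻¹ᵁ U := (X.basicOpen_le a).trans eV₀
  refine ⟨⟨U, hU⟩, ⟨V, hV⟩, hxa, eV, ?_⟩
  apply hdesc (g.appLE U V eV).hom (f.appLE V W eW).hom
  · exact HasRingHomProperty.appLE (P := @Etale) f inferInstance ⟨V, hV⟩ ⟨W, hW⟩ eW
  · apply comap_appLE_surjective f hV hW eW
    intro y hy
    obtain ⟨w, hw, rfl⟩ := haO hy
    exact ⟨w, hWeq ▸ ⟨hw, hy⟩, rfl⟩
  · rw [← CommRingCat.hom_comp, Scheme.Hom.appLE_comp_appLE]
    exact HasRingHomProperty.appLE (P := P) _ h ⟨U, hU⟩ ⟨W, hW⟩ _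


theorem locallyOfFiniteType_of_etale_cover_source {X' X Y : Scheme.{u}} (f : X' ⟶ X) (g : X ⟶ Y)
    [Etale f] [Surjective f] [h : LocallyOfFiniteType (f ≫ g)] : LocallyOfFiniteType g := by
  refine of_etale_cover_source (P := @LocallyOfFiniteType) (Q := @RingHom.FiniteType) ?_ ?_ f g h
  · intro R S T _ _ _ _ r _ φ hφ
    exact hφ.comp (RingHom.finiteType_holdsForLocalizationAway S r)
  · intro R A B _ _ _ φ ψ hψ hs hc
    algebraize [φ, ψ, ψ.comp φ]
    have : Algebra.Etale A B := hψ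
    have : Algebra.FiniteType R B := hc
    exact finiteType_of_etale_of_surjective (R := R) (A := A) (B := B) hs

theorem formallyUnramified_of_etale_cover_source {X' X Y : Scheme.{u}} (f : X' ⟶ X) (g : X ⟶ Y)
    [Etale f] [Surjective f] [h : FormallyUnramified (f ≫ g)] : FormallyUnramified g := by
  refine of_etale_cover_source (P := @FormallyUnramified) (Q := @RingHom.FormallyUnramified)
    ?_ ?_ f g h
  · exact (RingHom.FormallyUnramified.stableUnderComposition.stableUnderCompositionWithLocalizationAway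
      RingHom.FormallyUnramified.holdsForLocalizationAway).1
  · intro R A B _ _ _ φ ψ hψ hs hc
    algebraize [φ, ψ, ψ.comp φ]
    have : Algebra.Etale A B := hψ
    have : Algebra.FormallyUnramified R B := hc
    exact formallyUnramified_of_etale_of_surjective (R := R) (A := A) (B := B) hs

end Sch

end Groth.Agent.Lib.Helper20.EtSrc
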