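import Mathlib
import Groth.Agent.S9874
import Groth.Agent.S9949
import Groth.Agent.S9950

/-!
# Generic permanence properties of `AlgSp.LocP` (helper12)

`LocP P` is stable under composition and base change for `P` étale local on the source and target.
-/

set_option autoImplicit false
universe u
open CategoryTheory CategoryTheory.Limits AlgebraicGeometry
open AlgSp

namespace Groth.Agent.Lib.Helper12.LocPGen

open CategoryTheory.Limits Opposite MorphismProperty

variable {S : Scheme.{u}}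

/-- variant of `S9949.locP_of_target_cover` with cancellation only along étale morphisms. -/
lemma locP_of_target_cover' (P : MorphismProperty Scheme.{u})
    (hcancel : ∀ {A B C : Scheme.{u}} (u : A ⟶ B) (k : B ⟶ C), Etale k → P (u ≫ k) → P u)
    [P.DescendsAlong (@Surjective ⊓ @Flat ⊓ @LocallyOfFinitePresentation)]
    {X Y : AlgSp.Sp S} (f : X ⟶ Y) (V : Over S)
    (p : (AlgSp.yon S).obj V ⟶ Y) (hp : AlgSp.RepWith @Etale p) (hps : AlgSp.RepWith @Surjective p)
    {Q : AlgSp.Sp S} (fstQ : Q ⟶ X) (sndQ : Q ⟶ (AlgSp.yon S).obj V)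
    (sq : IsPullback fstQ sndQ f p)
    (h : AlgSp.LocP P sndQ) : AlgSp.LocP P f := by
  intro U V' a b hh ha hb hcomm
  obtain ⟨V'', π, πV', sqV⟩ := hp.1 b
  obtain ⟨πV, rfl⟩ := (AlgSp.yon S).map_surjective πV'
  haveI : Etale π.left := hp.2 _ _ π sqV
  haveI : Surjective π.left := hps.2 _ _ π sqV
  have hπV : Etale πV.left := hb.2 _ _ πV sqV.flip
  have sqU : IsPullback ((AlgSp.yon S).map (pullback.fst hh π))
      ((AlgSp.yon S).map (pullback.snd hh π)) ((AlgSp.yon S).map hh) ((AlgSp.yon S).map π) :=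
    (IsPullback.of_hasPullback hh π).map (AlgSp.yon S)
  have big := sqU.flip.paste_horiz sqV
  rw [← hcomm, ← Functor.map_comp] at big
  have hw : ((AlgSp.yon S).map (pullback.fst hh π) ≫ a) ≫ f =
      (AlgSp.yon S).map (pullback.snd hh π ≫ πV) ≫ p := by
    rw [Category.assoc]; exact big.w.symm
  obtain ⟨a'', ha''⟩ : ∃ a'' : (AlgSp.yon S).obj (pullback hh π) ⟶ Q,
      a'' = sq.lift _ _ hw := ⟨_, rfl⟩
  have ha''1 : a'' ≫ fstQ = (AlgSp.yon S).map (pullback.fst hh π) ≫ a := by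
    rw [ha'', sq.lift_fst]
  have ha''2 : a'' ≫ sndQ = (AlgSp.yon S).map (pullback.snd hh π ≫ πV) := by
    rw [ha'', sq.lift_snd]
  have left : IsPullback a'' ((AlgSp.yon S).map (pullback.fst hh π)) fstQ a := by
    refine IsPullback.of_right ?_ ha''1 sq.flip
    rw [ha''2]
    exact big
  have ha''e : AlgSp.RepWith @Etale a'' :=
    MorphismProperty.of_isPullback (P := AlgSp.RepWith @Etale) left.flip ha
  have hP := h a'' (𝟙 _) (pullback.snd hh π ≫ πV) ha''e (AlgSp.repWith_id _ V)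
    (by rw [ha''2, Category.comp_id])
  rw [Over.comp_left] at hP
  have h1 : P (pullback.snd hh π).left := hcancel _ _ hπV hP
  have hsq : IsPullback (pullback.fst hh π).left (pullback.snd hh π).left hh.left π.left :=
    (IsPullback.of_hasPullback hh π).map (Over.forget S)
  have hπQ : (@Surjective ⊓ @Flat ⊓ @LocallyOfFinitePresentation : MorphismProperty Scheme.{u})
      π.left := ⟨⟨inferInstance, inferInstance⟩, inferInstance⟩
  exact MorphismProperty.of_isPullback_of_descendsAlong (P := P)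
      (Q := @Surjective ⊓ @Flat ⊓ @LocallyOfFinitePresentation) hsq.flip hπQ h1

/-- a morphism of schemes with `P` has `P` étale locally on source and target. -/
lemma locP_yon_map_of (P : MorphismProperty Scheme.{u}) [P.IsStableUnderComposition]
    (hEt : ∀ {A B : Scheme.{u}} (g : A ⟶ B), Etale g → P g)
    (hcancel : ∀ {A B C : Scheme.{u}} (u : A ⟶ B) (k : B ⟶ C), Etale k → P (u ≫ k) → P u)
    {A B : Over S} (m : A ⟶ B) (hm : P m.left) : AlgSp.LocP P ((AlgSp.yon S).map m) := by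
  intro U V a b h ha hb hcomm
  obtain ⟨α, rfl⟩ := (AlgSp.yon S).map_surjective a
  obtain ⟨β, rfl⟩ := (AlgSp.yon S).map_surjective b
  have hα : Etale α.left := (AlgSp.repWith_yon_map_iff _ _).1 ha
  have hβ : Etale β.left := (AlgSp.repWith_yon_map_iff _ _).1 hb
  have e : α ≫ m = h ≫ β := by
    apply (AlgSp.yon S).map_injective
    rw [Functor.map_comp, Functor.map_comp]
    exact hcomm
  have e' : α.left ≫ m.left = h.left ≫ β.left := by
    rw [← Over.comp_left, ← Over.comp_left, e]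
  apply hcancel h.left β.left hβ
  rw [← e']
  exact P.comp_mem _ _ (hEt _ hα) hm

/-- `LocP P` is stable under composition. -/
lemma locP_comp (P : MorphismProperty Scheme.{u}) [P.IsStableUnderComposition]
    (hsrc : ∀ {A B C : Scheme.{u}} (e : A ⟶ B) (k : B ⟶ C) [Etale e] [Surjective e],
      P (e ≫ k) → P k)
    {X Y Z : AlgSp.Sp S} (hY : AlgSp.IsAlgSpace Y) (hZ : AlgSp.IsAlgSpace Z) (f : X ⟶ Y)
    (g : Y ⟶ Z) (hf : AlgSp.LocP P f) (hg : AlgSp.LocP P g) : AlgSp.LocP P (f ≫ g) := by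
  intro U W a c h ha hc hcomm
  have hYW : AlgSp.IsAlgSpace (pullback g c) :=
    Groth.Agent.S9874.isAlgSpace_of_isPullback hZ.diag hY (AlgSp.IsAlgSpace.yon_obj W)
      (IsPullback.of_hasPullback g c)
  obtain ⟨V, v, hve, hvs⟩ := hYW.atlas
  have hpr1 : AlgSp.RepWith @Etale (pullback.fst g c) :=
    MorphismProperty.of_isPullback (P := AlgSp.RepWith @Etale)
      (IsPullback.of_hasPullback g c).flip hc
  have hb : AlgSp.RepWith @Etale (v ≫ pullback.fst g c) :=
    (AlgSp.RepWith @Etale).comp_mem _ _ hve hpr1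
  obtain ⟨k, hk⟩ := (AlgSp.yon S).map_surjective (v ≫ pullback.snd g c)
  have hPk : P k.left := hg (v ≫ pullback.fst g c) c k hb hc
    (by rw [Category.assoc, pullback.condition, ← Category.assoc, ← hk])
  have hcomm' : (a ≫ f) ≫ g = (AlgSp.yon S).map h ≫ c := by
    rw [Category.assoc]; exact hcomm
  obtain ⟨m, hm⟩ : ∃ m : (AlgSp.yon S).obj U ⟶ pullback g c,
      m = pullback.lift (a ≫ f) ((AlgSp.yon S).map h) hcomm' := ⟨_, rfl⟩
  have hm1 : m ≫ pullback.fst g c = a ≫ f := by rw [hm, pullback.lift_fst]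
  have hm2 : m ≫ pullback.snd g c = (AlgSp.yon S).map h := by rw [hm, pullback.lift_snd]
  obtain ⟨U', e, m', sqU⟩ := hve.1 m
  obtain ⟨μ, rfl⟩ := (AlgSp.yon S).map_surjective m'
  haveI : Etale e.left := hve.2 _ _ e sqU
  haveI : Surjective e.left := hvs.2 _ _ e sqU
  have hPμ : P μ.left := hf ((AlgSp.yon S).map e ≫ a) (v ≫ pullback.fst g c) μ
    ((AlgSp.RepWith @Etale).comp_mem _ _ ((AlgSp.repWith_yon_map_iff _ _).2 inferInstance) ha) hb
    (by rw [Category.assoc, ← hm1, ← Category.assoc, ← sqU.w, Category.assoc])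
  have e1 : e ≫ h = μ ≫ k := by
    apply (AlgSp.yon S).map_injective
    rw [Functor.map_comp, Functor.map_comp, ← hm2, ← Category.assoc, ← sqU.w, Category.assoc, hk]
  have hP : P (e.left ≫ h.left) := by
    rw [← Over.comp_left, e1, Over.comp_left]
    exact P.comp_mem _ _ hPμ hPk
  exact hsrc e.left h.left hP

/-- `LocP P` is stable under base change. -/
lemma locP_baseChange (P : MorphismProperty Scheme.{u}) [P.IsStableUnderBaseChange]
    [P.IsStableUnderComposition]
    (hEt : ∀ {A B : Scheme.{u}} (g : A ⟶ B), Etale g → P g)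
    (hsrc : ∀ {A B C : Scheme.{u}} (e : A ⟶ B) (k : B ⟶ C) [Etale e] [Surjective e],
      P (e ≫ k) → P k)
    (hcancel : ∀ {A B C : Scheme.{u}} (u : A ⟶ B) (k : B ⟶ C), Etale k → P (u ≫ k) → P u)
    [P.DescendsAlong (@Surjective ⊓ @Flat ⊓ @LocallyOfFinitePresentation)]
    {X Y X' Y' : AlgSp.Sp S} (hX : AlgSp.IsAlgSpace X) (hY : AlgSp.IsAlgSpace Y)
    (hY' : AlgSp.IsAlgSpace Y') {f : X ⟶ Y} {g : Y' ⟶ Y} {fst : X' ⟶ X} {f' : X' ⟶ Y'}
    (sq : IsPullback fst f' f g) (hf : AlgSp.LocP P f) : AlgSp.LocP P f' := by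
  obtain ⟨V, q, hqe, hqs⟩ := hY.atlas
  obtain ⟨V0, b0, hb0e, hb0s⟩ := hY'.atlas
  obtain ⟨V'', π, κ', sqV⟩ := hqe.1 (b0 ≫ g)
  obtain ⟨κ, rfl⟩ := (AlgSp.yon S).map_surjective κ'
  haveI : Etale π.left := hqe.2 _ _ π sqV
  haveI : Surjective π.left := hqs.2 _ _ π sqV
  have hpe : AlgSp.RepWith @Etale ((AlgSp.yon S).map π ≫ b0) :=
    (AlgSp.RepWith @Etale).comp_mem _ _ ((AlgSp.repWith_yon_map_iff _ _).2 inferInstance) hb0e
  have hps : AlgSp.RepWith @Surjective ((AlgSp.yon S).map π ≫ b0) :=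
    (AlgSp.RepWith @Surjective).comp_mem _ _ ((AlgSp.repWith_yon_map_iff _ _).2 inferInstance) hb0s
  refine locP_of_target_cover' P hcancel f' V'' ((AlgSp.yon S).map π ≫ b0) hpe hps
    (pullback.fst f' ((AlgSp.yon S).map π ≫ b0)) (pullback.snd f' ((AlgSp.yon S).map π ≫ b0))
    (IsPullback.of_hasPullback _ _) ?_
  -- the chart of `X ×_Y V`
  have hXV : AlgSp.IsAlgSpace (pullback f q) :=
    Groth.Agent.S9874.isAlgSpace_of_isPullback hY.diag hX (AlgSp.IsAlgSpace.yon_obj V)
      (IsPullback.of_hasPullback f q)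
  obtain ⟨U, u, hue, hus⟩ := hXV.atlas
  obtain ⟨h, hh⟩ := (AlgSp.yon S).map_surjective (u ≫ pullback.snd f q)
  have hpr1 : AlgSp.RepWith @Etale (pullback.fst f q) :=
    MorphismProperty.of_isPullback (P := AlgSp.RepWith @Etale)
      (IsPullback.of_hasPullback f q).flip hqe
  have hPh : P h.left := hf (u ≫ pullback.fst f q) q h
    ((AlgSp.RepWith @Etale).comp_mem _ _ hue hpr1) hqe
    (by rw [Category.assoc, pullback.condition, ← Category.assoc, ← hh])
  -- the map `Q ⟶ X ×_Y V`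
  have hw : (pullback.fst f' ((AlgSp.yon S).map π ≫ b0) ≫ fst) ≫ f =
      (pullback.snd f' ((AlgSp.yon S).map π ≫ b0) ≫ (AlgSp.yon S).map κ) ≫ q := by
    rw [Category.assoc, sq.w, ← Category.assoc, pullback.condition, Category.assoc, Category.assoc,
      Category.assoc, sqV.w]
  obtain ⟨ρ, hρ⟩ : ∃ ρ : pullback f' ((AlgSp.yon S).map π ≫ b0) ⟶ pullback f q,
      ρ = pullback.lift (pullback.fst f' ((AlgSp.yon S).map π ≫ b0) ≫ fst)
        (pullback.snd f' ((AlgSp.yon S).map π ≫ b0) ≫ (AlgSp.yon S).map κ) hw := ⟨_, rfl⟩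
  have hρ1 : ρ ≫ pullback.fst f q = pullback.fst f' ((AlgSp.yon S).map π ≫ b0) ≫ fst := by
    rw [hρ, pullback.lift_fst]
  have hρ2 : ρ ≫ pullback.snd f q =
      pullback.snd f' ((AlgSp.yon S).map π ≫ b0) ≫ (AlgSp.yon S).map κ := by
    rw [hρ, pullback.lift_snd]
  have big : IsPullback (pullback.fst f' ((AlgSp.yon S).map π ≫ b0) ≫ fst)
      (pullback.snd f' ((AlgSp.yon S).map π ≫ b0)) f (((AlgSp.yon S).map π ≫ b0) ≫ g) :=
    (IsPullback.of_hasPullback f' ((AlgSp.yon S).map π ≫ b0)).paste_horiz sq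
  have sqρ : IsPullback ρ (pullback.snd f' ((AlgSp.yon S).map π ≫ b0)) (pullback.snd f q)
      ((AlgSp.yon S).map κ) := by
    refine IsPullback.of_right ?_ hρ2 (IsPullback.of_hasPullback f q)
    rw [hρ1, sqV.w, ← Category.assoc]
    exact big
  -- the chart of `Q`
  have sqκ : IsPullback ((AlgSp.yon S).map (pullback.fst h κ))
      ((AlgSp.yon S).map (pullback.snd h κ)) ((AlgSp.yon S).map h) ((AlgSp.yon S).map κ) :=
    (IsPullback.of_hasPullback h κ).map (AlgSp.yon S)
  have hw' : ((AlgSp.yon S).map (pullback.fst h κ) ≫ u) ≫ pullback.snd f q =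
      (AlgSp.yon S).map (pullback.snd h κ) ≫ (AlgSp.yon S).map κ := by
    rw [Category.assoc, ← hh, sqκ.w]
  obtain ⟨φ, hφ⟩ : ∃ φ : (AlgSp.yon S).obj (pullback h κ) ⟶
      pullback f' ((AlgSp.yon S).map π ≫ b0),
      φ = sqρ.lift ((AlgSp.yon S).map (pullback.fst h κ) ≫ u)
        ((AlgSp.yon S).map (pullback.snd h κ)) hw' := ⟨_, rfl⟩
  have hφ1 : φ ≫ ρ = (AlgSp.yon S).map (pullback.fst h κ) ≫ u := by rw [hφ, sqρ.lift_fst]
  have hφ2 : φ ≫ pullback.snd f' ((AlgSp.yon S).map π ≫ b0) =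
      (AlgSp.yon S).map (pullback.snd h κ) := by rw [hφ, sqρ.lift_snd]
  have left : IsPullback φ ((AlgSp.yon S).map (pullback.fst h κ)) ρ u := by
    refine IsPullback.of_right ?_ hφ1 sqρ.flip
    rw [hφ2, ← hh]
    exact sqκ.flip
  have hφe : AlgSp.RepWith @Etale φ :=
    MorphismProperty.of_isPullback (P := AlgSp.RepWith @Etale) left.flip hue
  have hφs : AlgSp.RepWith @Surjective φ :=
    MorphismProperty.of_isPullback (P := AlgSp.RepWith @Surjective) left.flip hus
  refine Groth.Agent.S9950.locP_of_source_cover P hsrc _ φ hφe hφs ?_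
  rw [hφ2]
  refine locP_yon_map_of P hEt hcancel _ ?_
  exact P.of_isPullback ((IsPullback.of_hasPullback h κ).map (Over.forget S)) hPh

end Groth.Agent.Lib.Helper12.LocPGen
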