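import Mathlib
import Groth.Agent.S9874
import Groth.Agent.S10175
import Groth.Agent.S10176
import Groth.Agent.S10177
import Groth.Agent.S10288

/-!
# Locality on the source for `AlgSp.LocP` (helper12)

If a property `P` of morphisms of schemes is local at the source for one of the precoverages
fpqc, fppf, smooth, étale, then `AlgSp.LocP P` is local on the source for the corresponding
coverings of algebraic spaces.
-/

set_option autoImplicit false
universe u
open CategoryTheory CategoryTheory.Limits AlgebraicGeometry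
open AlgSp

namespace Groth.Agent.Lib.Helper12.SrcLocal

open Opposite MorphismProperty

variable {S : Scheme.{u}}

/-- a morphism between two étale charts of a sheaf is étale. -/
lemma etale_of_chart_comp {X : AlgSp.Sp S} {U U' : Over S} (a : (AlgSp.yon S).obj U ⟶ X)
    (a' : (AlgSp.yon S).obj U' ⟶ X) (e : U' ⟶ U) (ha : AlgSp.RepWith @Etale a)
    (ha' : AlgSp.RepWith @Etale a') (hcomm : (AlgSp.yon S).map e ≫ a = a') : Etale e.left := by
  obtain ⟨W, w, pr', sq⟩ := ha.1 a'
  obtain ⟨pr, rfl⟩ := (AlgSp.yon S).map_surjective pr'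
  haveI : Etale w.left := ha.2 _ _ w sq
  haveI : Etale pr.left := ha'.2 _ _ pr sq.flip
  obtain ⟨σ', hσ'⟩ : ∃ σ' : (AlgSp.yon S).obj U' ⟶ (AlgSp.yon S).obj W,
      σ' = sq.lift ((AlgSp.yon S).map e) (𝟙 _) (by rw [hcomm, Category.id_comp]) := ⟨_, rfl⟩
  obtain ⟨σ, rfl⟩ := (AlgSp.yon S).map_surjective σ'
  have h1 : σ ≫ pr = e := by
    apply (AlgSp.yon S).map_injective
    rw [Functor.map_comp, hσ', sq.lift_fst]
  have h2 : σ ≫ w = 𝟙 U' := by
    apply (AlgSp.yon S).map_injective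
    rw [Functor.map_comp, hσ', sq.lift_snd]
    exact ((AlgSp.yon S).map_id U').symm
  have h3 : Etale (σ.left ≫ w.left) := by
    rw [← Over.comp_left, h2, Over.id_left]; infer_instance
  haveI : Etale σ.left :=
    MorphismProperty.of_postcomp (W := @Etale) (W' := @Etale) σ.left w.left inferInstance h3
  rw [← h1, Over.comp_left]
  infer_instance

/-- an étale morphism of sheaves is étale on all chart diagrams. -/
lemma locP_etale_of_isEtaleMor {X' X : AlgSp.Sp S} (g : X' ⟶ X) (hg : AlgSp.IsEtaleMor g) :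
    AlgSp.LocP @Etale g := by
  intro U V a b h ha hb hcomm
  exact etale_of_chart_comp b (a ≫ g) h hb (hg a ha) hcomm.symm

/-- `LocP P` is preserved by precomposition with a morphism whose charts lie in a class `Qs` of
covering morphisms for a precoverage `K` for which `P` is local at the source. -/
lemma locP_comp_of_isLocalAtSource (P Qs : MorphismProperty Scheme.{u}) (K : Precoverage Scheme.{u})
    [P.IsLocalAtSource K]
    (hQcancel : ∀ {A B C : Scheme.{u}} (m : A ⟶ B) (r : B ⟶ C), Etale r → Qs (m ≫ r) → Qs m)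
    (hK1 : ∀ {A B : Scheme.{u}} (m : A ⟶ B), Qs m → ∃ R ∈ K B, R m)
    (hK2 : ∀ {A B : Scheme.{u}} (e : A ⟶ B), Etale e → Surjective e → Presieve.singleton e ∈ K B)
    {X' X Y : AlgSp.Sp S} (hX : AlgSp.IsAlgSpace X)
    (g : X' ⟶ X) (f : X ⟶ Y) (hg : AlgSp.LocP Qs g) (hf : AlgSp.LocP P f) :
    AlgSp.LocP P (g ≫ f) := by
  intro U V a b h ha hb hcomm
  obtain ⟨U', p, hpe, hps⟩ := hX.atlas
  obtain ⟨Q, prU, k', sqQ⟩ := hpe.1 (a ≫ g)
  obtain ⟨k, rfl⟩ := (AlgSp.yon S).map_surjective k'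
  haveI : Etale prU.left := hpe.2 _ _ prU sqQ
  haveI : Surjective prU.left := hps.2 _ _ prU sqQ
  have hQk : Qs k.left := hg ((AlgSp.yon S).map prU ≫ a) p k
    ((AlgSp.RepWith @Etale).comp_mem _ _ ((AlgSp.repWith_yon_map_iff _ _).2 inferInstance) ha) hpe
    (by rw [Category.assoc]; exact sqQ.w.symm)
  obtain ⟨Q', r, h'', sqQ'⟩ := hb.1 (p ≫ f)
  obtain ⟨h', rfl⟩ := (AlgSp.yon S).map_surjective h''
  have hr : Etale r.left := hb.2 _ _ r sqQ'
  have hPh' : P h'.left := hf ((AlgSp.yon S).map r ≫ p) b h'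
    ((AlgSp.RepWith @Etale).comp_mem _ _ ((AlgSp.repWith_yon_map_iff _ _).2 hr) hpe) hb
    (by rw [Category.assoc]; exact sqQ'.w.symm)
  have hw : (AlgSp.yon S).map (prU ≫ h) ≫ b = (AlgSp.yon S).map k ≫ p ≫ f := by
    rw [Functor.map_comp, Category.assoc, ← hcomm, ← Category.assoc ((AlgSp.yon S).map k), sqQ.w]
    simp only [Category.assoc]
  obtain ⟨m', hm'⟩ : ∃ m' : (AlgSp.yon S).obj Q ⟶ (AlgSp.yon S).obj Q',
      m' = sqQ'.lift _ _ hw := ⟨_, rfl⟩
  obtain ⟨m, rfl⟩ := (AlgSp.yon S).map_surjective m'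
  have hm1 : m ≫ h' = prU ≫ h := by
    apply (AlgSp.yon S).map_injective
    rw [Functor.map_comp, hm', sqQ'.lift_fst]
  have hm2 : m ≫ r = k := by
    apply (AlgSp.yon S).map_injective
    rw [Functor.map_comp, hm', sqQ'.lift_snd]
  have hQm : Qs m.left := hQcancel m.left r.left hr (by rw [← Over.comp_left, hm2]; exact hQk)
  obtain ⟨R, hR, hRm⟩ := hK1 m.left hQm
  have h1 : P (m.left ≫ h'.left) := IsLocalAtSource.comp (P := P) hR m.left hRm hPh'
  rw [← Over.comp_left, hm1, Over.comp_left] at h1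
  exact IsLocalAtSource.of_forall_comp (P := P) (hK2 prU.left inferInstance inferInstance)
    (fun T t ht => by obtain ⟨⟩ := ht; exact h1)

/-- the data attached to a covering family and a chart of the target. -/
structure ChartData {ι : Type u} {X : AlgSp.Sp S} (Xi : ι → AlgSp.Sp S) (g : ∀ i, Xi i ⟶ X)
    {U : Over S} (a : (AlgSp.yon S).obj U ⟶ X) where
  W : ι → Over S
  q : ∀ i, (AlgSp.yon S).obj (W i) ⟶ pullback a (g i)
  e : ∀ i, W i ⟶ U
  hqe : ∀ i, AlgSp.RepWith @Etale (q i)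
  hqs : ∀ i, AlgSp.RepWith @Surjective (q i)
  he : ∀ i, (AlgSp.yon S).map (e i) = q i ≫ pullback.fst a (g i)

lemma exists_chartData {ι : Type u} {X : AlgSp.Sp S} (hX : AlgSp.IsAlgSpace X)
    (Xi : ι → AlgSp.Sp S) (hXi : ∀ i, AlgSp.IsAlgSpace (Xi i)) (g : ∀ i, Xi i ⟶ X)
    {U : Over S} (a : (AlgSp.yon S).obj U ⟶ X) : Nonempty (ChartData Xi g a) := by
  have hUi : ∀ i, AlgSp.IsAlgSpace (pullback a (g i)) := fun i =>
    Groth.Agent.S9874.isAlgSpace_of_isPullback hX.diag (AlgSp.IsAlgSpace.yon_obj U) (hXi i)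
      (IsPullback.of_hasPullback a (g i))
  choose W q hqe hqs using fun i => (hUi i).atlas
  choose e he using fun i => (AlgSp.yon S).map_surjective (q i ≫ pullback.fst a (g i))
  exact ⟨⟨W, q, e, hqe, hqs, he⟩⟩

/-- core of the `⇐` direction: if the charts `e i` form a `K`-covering then `LocP P f` follows from
`LocP P (g i ≫ f)`. -/
lemma locP_of_chartData (P Qs : MorphismProperty Scheme.{u}) (K : Precoverage Scheme.{u})
    [P.IsLocalAtSource K]
    {ι : Type u} {X Y : AlgSp.Sp S} (Xi : ι → AlgSp.Sp S) (g : ∀ i, Xi i ⟶ X)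
    (hg : ∀ i, AlgSp.LocP Qs (g i))
    (hcov : ∀ {U : Over S} (a : (AlgSp.yon S).obj U ⟶ X), AlgSp.RepWith @Etale a →
      ∀ D : ChartData Xi g a, (∀ i, Qs (D.e i).left) →
      Presieve.ofArrows (fun i => (D.W i).left) (fun i => (D.e i).left) ∈ K U.left)
    (hCD : ∀ {U : Over S} (a : (AlgSp.yon S).obj U ⟶ X), Nonempty (ChartData Xi g a))
    (f : X ⟶ Y) (h : ∀ i, AlgSp.LocP P (g i ≫ f)) : AlgSp.LocP P f := by
  intro U V a b hh ha hb hcomm
  obtain ⟨D⟩ := hCD a
  have hsnd : ∀ i, AlgSp.RepWith @Etale (pullback.snd a (g i)) := fun i =>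
    MorphismProperty.of_isPullback (P := AlgSp.RepWith @Etale)
      (IsPullback.of_hasPullback a (g i)) ha
  have hai : ∀ i, AlgSp.RepWith @Etale (D.q i ≫ pullback.snd a (g i)) := fun i =>
    (AlgSp.RepWith @Etale).comp_mem _ _ (D.hqe i) (hsnd i)
  have hci : ∀ i, (D.q i ≫ pullback.snd a (g i)) ≫ g i = (AlgSp.yon S).map (D.e i) ≫ a :=
    fun i => by rw [D.he, Category.assoc, Category.assoc, pullback.condition]
  have hQe : ∀ i, Qs (D.e i).left := fun i => hg i _ a (D.e i) (hai i) ha (hci i)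
  have hPe : ∀ i, P ((D.e i).left ≫ hh.left) := fun i => by
    have := h i (D.q i ≫ pullback.snd a (g i)) b (D.e i ≫ hh) (hai i) hb
      (by rw [← Category.assoc, hci, Functor.map_comp, Category.assoc, Category.assoc, hcomm])
    rwa [Over.comp_left] at this
  exact IsLocalAtSource.of_forall_comp (P := P) (hcov a ha D hQe)
    (fun T t ht => by obtain ⟨i⟩ := ht; exact hPe i)

/-- joint surjectivity of the charts attached to a family which is jointly surjective on points. -/
lemma ChartData.jointly_surjective {ι : Type u} {X : AlgSp.Sp S} {Xi : ι → AlgSp.Sp S}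
    {g : ∀ i, Xi i ⟶ X} {U : Over S} {a : (AlgSp.yon S).obj U ⟶ X} (D : ChartData Xi g a)
    (hsurj : ∀ x : AlgSp.Points X, ∃ i, x ∈ Set.range (AlgSp.Points.map (g i))) (x : ↥U.left) :
    ∃ i, x ∈ Set.range (D.e i).left := by
  obtain ⟨i, xi, hxi⟩ := hsurj (AlgSp.Points.ofPt a x)
  have e0 : AlgSp.Points.map a (AlgSp.Points.schemeHomeo U x) = AlgSp.Points.map (g i) xi := by
    rw [hxi]; exact (AlgSp.Points.ofPt_eq_map_ofScheme a x).symm
  obtain ⟨y, hy1, hy2⟩ := Groth.Agent.S10175.exists_point_of_isPullback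
    (IsPullback.of_hasPullback a (g i)) (AlgSp.Points.schemeHomeo U x) xi e0
  obtain ⟨w, hw⟩ := Groth.Agent.S10177.surjective_ofPt (D.q i) (D.hqs i) y
  refine ⟨i, w, ?_⟩
  apply (AlgSp.Points.schemeHomeo U).injective
  rw [← Groth.Agent.S10288.ofPt_yon_map, D.he, ← AlgSp.Points.map_ofPt, hw, hy1]

end Groth.Agent.Lib.Helper12.SrcLocal
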