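import Mathlib.RingTheory.QuasiFinite.Basic
import Mathlib.RingTheory.RingHom.QuasiFinite
import Mathlib.RingTheory.Finiteness.Descent
import Mathlib.RingTheory.Flat.FaithfullyFlat.Descent
import Mathlib.AlgebraicGeometry.Morphisms.QuasiFinite
import Mathlib.AlgebraicGeometry.Morphisms.LocalFlatDescent

/-!
Helper library (helper12): quasi-finiteness descends along faithfully flat ring maps; locally
quasi-finite morphisms satisfy fpqc descent.
-/

set_option autoImplicit false
universe u
open TensorProduct CategoryTheory MorphismProperty AlgebraicGeometry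

namespace Groth.Agent.Lib.Helper12

lemma quasiFinite_of_tensorProduct_of_faithfullyFlat {R S A : Type u} [CommRing R] [CommRing S]
    [CommRing A] [Algebra R S] [Algebra R A] [Module.FaithfullyFlat R A]
    [Algebra.QuasiFinite A (A ⊗[R] S)] : Algebra.QuasiFinite R S := by
  refine ⟨fun p hp ↦ ?_⟩
  obtain ⟨⟨P, hP⟩, hPp⟩ :=
    PrimeSpectrum.comap_surjective_of_faithfullyFlat (A := R) (B := A) ⟨p, hp⟩
  have hPp' : P.under R = p := congrArg PrimeSpectrum.asIdeal hPp
  subst hPp'
  let := Localization.AtPrime.algebraOfLiesOver (P.under R) P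
  let e : P.Fiber (A ⊗[R] S) ≃ₐ[P.ResidueField]
      P.ResidueField ⊗[(P.under R).ResidueField] ((P.under R).Fiber S) :=
    (Algebra.TensorProduct.cancelBaseChange _ _ _ _ _).trans
      (Algebra.TensorProduct.cancelBaseChange _ _ _ _ _).symm
  have hfin : Module.Finite P.ResidueField
      (P.ResidueField ⊗[(P.under R).ResidueField] ((P.under R).Fiber S)) :=
    .of_surjective e.toLinearMap e.surjective
  exact Module.Finite.of_finite_tensorProduct_of_faithfullyFlat P.ResidueField

lemma quasiFinite_codescendsAlong_faithfullyFlat :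
    RingHom.CodescendsAlong RingHom.QuasiFinite RingHom.FaithfullyFlat := by
  refine .mk _ RingHom.QuasiFinite.respectsIso fun R S T _ _ _ _ _ h h' ↦ ?_
  rw [RingHom.quasiFinite_algebraMap] at h' ⊢
  rw [RingHom.faithfullyFlat_algebraMap_iff] at h
  exact quasiFinite_of_tensorProduct_of_faithfullyFlat (A := S)

theorem descendsAlong_locallyQuasiFinite :
    DescendsAlong @LocallyQuasiFinite
      (@Surjective ⊓ @Flat ⊓ @QuasiCompact : MorphismProperty Scheme.{u}) :=
  HasRingHomProperty.descendsAlong_flat quasiFinite_codescendsAlong_faithfullyFlat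

theorem descendsAlong_locallyQuasiFinite_inf_locallyOfFiniteType :
    DescendsAlong (@LocallyQuasiFinite ⊓ @LocallyOfFiniteType : MorphismProperty Scheme.{u})
      (@Surjective ⊓ @Flat ⊓ @QuasiCompact : MorphismProperty Scheme.{u}) := by
  have := descendsAlong_locallyQuasiFinite.{u}
  infer_instance

end Groth.Agent.Lib.Helper12
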