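import Mathlib
import Groth.Agent.Lib.Helper20EtSrc
import Groth.Agent.Lib.Helper12Flat

/-!
# Étaleness descends along étale covers of the source (helper12)

Builds on `Helper20EtSrc` (finite type and formal unramifiedness) and `Helper12Flat` (flatness):
the missing piece is finite presentation, obtained from the local structure of unramified algebras
(`Algebra.IsUnramifiedAt.exists_hasStandardEtaleSurjectionOn`) and a purity argument for the kernel.
-/

set_option autoImplicit false
universe u

open TensorProduct

namespace Groth.Agent.Lib.Helper12.EtSrc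

/-- Core lemma: if `B'` is a flat finitely presented `A'`-algebra, `K` an ideal of `A'` mapping to
zero in `B'` such that every prime containing `K` lies in the image of `Spec B'`, then `K` is
finitely generated (in fact principal). -/
theorem fg_of_le_ker_of_zeroLocus_subset_range {A' B' : Type u} [CommRing A'] [CommRing B']
    [Algebra A' B'] [Module.Flat A' B'] [Algebra.FinitePresentation A' B'] (K : Ideal A')
    (hK : K ≤ RingHom.ker (algebraMap A' B'))
    (hsurj : PrimeSpectrum.zeroLocus (K : Set A') ⊆
      Set.range (PrimeSpectrum.comap (algebraMap A' B'))) : K.FG := by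
  classical
  have hopen : IsOpen (Set.range (PrimeSpectrum.comap (algebraMap A' B'))) :=
    (PrimeSpectrum.isOpenMap_comap_of_hasGoingDown_of_finitePresentation).isOpen_range
  obtain ⟨J, hJ⟩ := (PrimeSpectrum.isClosed_iff_zeroLocus_ideal _).1 hopen.isClosed_compl
  have hJK : J ⊔ K = ⊤ := by
    by_contra hne
    obtain ⟨m, hm, hle⟩ := Ideal.exists_le_maximal _ hne
    have hmp : m.IsPrime := hm.isPrime
    have h1 : (⟨m, hmp⟩ : PrimeSpectrum A') ∈ Set.range (PrimeSpectrum.comap (algebraMap A' B')) :=
      hsurj (by
        rw [PrimeSpectrum.mem_zeroLocus]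
        exact fun x hx => hle (Ideal.mem_sup_right hx))
    have h2 : (⟨m, hmp⟩ : PrimeSpectrum A') ∈
        (Set.range (PrimeSpectrum.comap (algebraMap A' B')))ᶜ := by
      rw [hJ, PrimeSpectrum.mem_zeroLocus]
      exact fun x hx => hle (Ideal.mem_sup_left hx)
    exact h2 h1
  obtain ⟨j, hj, k, hk, hjk⟩ := Submodule.mem_sup.1 ((Ideal.eq_top_iff_one _).1 hJK)
  -- every element of `K` is killed by a power of `j`
  have hkill : ∀ z ∈ K, ∃ n : ℕ, j ^ n * z = 0 := by
    intro z hz
    have hz0 : ∑ _i : Fin 1, z • (1 : B') = 0 := by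
      have : algebraMap A' B' z = 0 := hK hz
      simp [Algebra.smul_def, this]
    obtain ⟨κ, a, y, hy, ha⟩ := Module.Flat.isTrivialRelation_of_sum_smul_eq_zero
      (f := fun _ : Fin 1 => z) (x := fun _ : Fin 1 => (1 : B')) hz0
    have ha' : ∀ l, z * a 0 l = 0 := fun l => by simpa using ha l
    have hy' : (1 : B') = ∑ l, a 0 l • y l := hy 0
    let I : Ideal A' := LinearMap.ker (LinearMap.toSpanSingleton A' A' z)
    have hI : ∀ c, c ∈ I ↔ c * z = 0 := fun c => by
      simp [I, LinearMap.mem_ker, LinearMap.toSpanSingleton_apply]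
    have hsub : PrimeSpectrum.zeroLocus (I : Set A') ⊆
        PrimeSpectrum.zeroLocus ((Ideal.span {j} : Ideal A') : Set A') := by
      intro 𝔭 h𝔭
      rw [PrimeSpectrum.mem_zeroLocus] at h𝔭
      have hnr : 𝔭 ∈ (Set.range (PrimeSpectrum.comap (algebraMap A' B')))ᶜ := by
        rintro ⟨𝔮, rfl⟩
        have : (1 : B') ∈ 𝔮.asIdeal := by
          rw [hy']
          refine Ideal.sum_mem _ (fun l _ => ?_)
          rw [Algebra.smul_def]
          refine Ideal.mul_mem_right _ _ ?_
          have : a 0 l ∈ I := (hI _).2 (by rw [mul_comm]; exact ha' l)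
          exact h𝔭 this
        exact 𝔮.isPrime.ne_top ((Ideal.eq_top_iff_one _).2 this)
      rw [hJ, PrimeSpectrum.mem_zeroLocus] at hnr
      rw [PrimeSpectrum.mem_zeroLocus, SetLike.coe_subset_coe, Ideal.span_le,
        Set.singleton_subset_iff]
      exact hnr hj
    rw [PrimeSpectrum.zeroLocus_subset_zeroLocus_iff] at hsub
    obtain ⟨n, hn⟩ := hsub (Ideal.mem_span_singleton_self j)
    exact ⟨n, (hI _).1 hn⟩
  -- `K` is generated by `k`
  have hKk : K = Ideal.span {k} := by
    apply le_antisymm
    · intro z hz
      obtain ⟨n, hn⟩ := hkill z hz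
      have h1 : (1 : A') - j ∣ 1 ^ n - j ^ n := sub_dvd_pow_sub_pow 1 j n
      have h2 : (1 : A') - j = k := by rw [← hjk]; ring
      rw [h2, one_pow] at h1
      obtain ⟨c, hc⟩ := h1
      have h3 : z = k * (c * z) := by
        have : z = (1 - j ^ n) * z + j ^ n * z := by ring
        rw [hn, add_zero, hc] at this
        exact this.trans (by ring)
      rw [h3]
      exact Ideal.mul_mem_right _ _ (Ideal.mem_span_singleton_self k)
    · rw [Ideal.span_le, Set.singleton_subset_iff]
      exact hk
  rw [hKk]
  exact ⟨{k}, by simp⟩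

set_option synthInstance.maxHeartbeats 400000 in
set_option maxHeartbeats 1000000 in
theorem finitePresentation_away_of_etale {R A B : Type u} [CommRing R] [CommRing A] [CommRing B]
    [Algebra R A] [Algebra A B] [Algebra R B] [IsScalarTower R A B] [Algebra.Etale A B]
    (hs : Function.Surjective (PrimeSpectrum.comap (algebraMap A B)))
    [Algebra.Etale R B] (f : A) (P : StandardEtalePair R)
    (φ : P.Ring →ₐ[R] Localization.Away f) (hφ : Function.Surjective φ) :
    Algebra.FinitePresentation R (Localization.Away f) := by
  -- `B' = A_f ⊗ B` is étale over `R`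
  haveI : Algebra.Etale A (Localization.Away f) := Algebra.Etale.of_isLocalizationAway f
  haveI : Algebra.Etale R (B ⊗[A] Localization.Away f) :=
    Algebra.Etale.comp R B (B ⊗[A] Localization.Away f)
  let e : B ⊗[A] Localization.Away f ≃ₐ[R] Localization.Away f ⊗[A] B :=
    (Algebra.TensorProduct.comm A B (Localization.Away f)).restrictScalars R
  haveI : Algebra.Etale R (Localization.Away f ⊗[A] B) := Algebra.Etale.of_equiv e
  -- the algebra structure over `P.Ring`
  let ρ : P.Ring →ₐ[R] Localization.Away f ⊗[A] B :=
    (IsScalarTower.toAlgHom R (Localization.Away f) (Localization.Away f ⊗[A] B)).comp φ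
  letI : Algebra P.Ring (Localization.Away f ⊗[A] B) := ρ.toRingHom.toAlgebra
  haveI : IsScalarTower R P.Ring (Localization.Away f ⊗[A] B) :=
    IsScalarTower.of_algebraMap_eq' ρ.comp_algebraMap.symm
  haveI : Algebra.Etale P.Ring (Localization.Away f ⊗[A] B) :=
    Algebra.Etale.of_restrictScalars R _ _
  have hker : (RingHom.ker φ.toRingHom).FG := by
    refine fg_of_le_ker_of_zeroLocus_subset_range (B' := Localization.Away f ⊗[A] B) _ ?_ ?_
    · intro x hx
      rw [RingHom.mem_ker] at hx ⊢
      show algebraMap (Localization.Away f) (Localization.Away f ⊗[A] B) (φ x) = 0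
      have : φ x = 0 := hx
      rw [this, map_zero]
    · intro 𝔭 h𝔭
      have h1 : 𝔭 ∈ Set.range (PrimeSpectrum.comap φ.toRingHom) := by
        rw [range_comap_of_surjective _ _ hφ]
        exact h𝔭
      obtain ⟨𝔭₁, rfl⟩ := h1
      obtain ⟨𝔮, h𝔮⟩ := hs (PrimeSpectrum.comap (algebraMap A (Localization.Away f)) 𝔭₁)
      obtain ⟨Q, hQ⟩ := Groth.Agent.Lib.Helper20.EtSrc.exists_prime_tensor 𝔭₁ 𝔮 h𝔮.symm
      refine ⟨Q, ?_⟩
      rw [← hQ]
      rfl
  exact Algebra.FinitePresentation.of_surjective hφ hker


/-- Finite presentation descends along an étale cover of the source (ring form), when the composite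
is étale. -/
theorem finitePresentation_of_etale_of_surjective {R A B : Type u} [CommRing R] [CommRing A]
    [CommRing B] [Algebra R A] [Algebra A B] [Algebra R B] [IsScalarTower R A B]
    [Algebra.Etale A B] (hs : Function.Surjective (PrimeSpectrum.comap (algebraMap A B)))
    [Algebra.Etale R B] : Algebra.FinitePresentation R A := by
  haveI : Algebra.FiniteType R A :=
    Groth.Agent.Lib.Helper20.EtSrc.finiteType_of_etale_of_surjective (B := B) hs
  haveI : Algebra.FormallyUnramified R A :=
    Groth.Agent.Lib.Helper20.EtSrc.formallyUnramified_of_etale_of_surjective (B := B) hs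
  rw [← RingHom.finitePresentation_algebraMap]
  let s : Set A := {f | Algebra.FinitePresentation R (Localization.Away f)}
  refine RingHom.finitePresentation_ofLocalizationSpanTarget (algebraMap R A) s ?_ ?_
  · by_contra hne
    obtain ⟨m, hm, hle⟩ := Ideal.exists_le_maximal _ hne
    haveI : m.IsPrime := hm.isPrime
    obtain ⟨f, hf, P, φ, hφ⟩ :=
      Algebra.IsUnramifiedAt.exists_hasStandardEtaleSurjectionOn (R := R) m
    exact hf (hle (Ideal.subset_span (finitePresentation_away_of_etale hs f P φ hφ)))
  · rintro ⟨f, hf⟩
    rw [← IsScalarTower.algebraMap_eq, RingHom.finitePresentation_algebraMap]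
    exact hf

/-- Étaleness descends along an étale cover of the source (ring form). -/
theorem etale_of_etale_of_surjective {R A B : Type u} [CommRing R] [CommRing A]
    [CommRing B] [Algebra R A] [Algebra A B] [Algebra R B] [IsScalarTower R A B]
    [Algebra.Etale A B] (hs : Function.Surjective (PrimeSpectrum.comap (algebraMap A B)))
    [Algebra.Etale R B] : Algebra.Etale R A := by
  haveI : Algebra.FinitePresentation R A := finitePresentation_of_etale_of_surjective (B := B) hs
  haveI : Algebra.FormallyUnramified R A :=
    Groth.Agent.Lib.Helper20.EtSrc.formallyUnramified_of_etale_of_surjective (B := B) hs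
  haveI : Module.FaithfullyFlat A B := Module.FaithfullyFlat.of_comap_surjective hs
  haveI : Module.Flat R A := Groth.Agent.Lib.Helper12.flat_of_faithfullyFlat_of_flat_comp R A B
  exact Algebra.Etale.of_formallyUnramified_of_flat


open AlgebraicGeometry CategoryTheory Limits MorphismProperty

/-- Étaleness descends along étale covers of the source. -/
theorem etale_of_etale_cover_source {X' X Y : Scheme.{u}} (f : X' ⟶ X) (g : X ⟶ Y)
    [Etale f] [Surjective f] [h : Etale (f ≫ g)] : Etale g := by
  refine Groth.Agent.Lib.Helper20.EtSrc.of_etale_cover_source (P := @Etale) (Q := @RingHom.Etale)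
    ?_ ?_ f g h
  · refine (RingHom.Etale.stableUnderComposition.stableUnderCompositionWithLocalizationAway
      ?_).1
    intro R S _ _ _ r _
    exact RingHom.etale_algebraMap.2 (Algebra.Etale.of_isLocalizationAway r)
  · intro R A B _ _ _ φ ψ hψ hs hc
    algebraize [φ, ψ, ψ.comp φ]
    have : Algebra.Etale A B := hψ
    have : Algebra.Etale R B := hc
    exact RingHom.etale_algebraMap.2 (etale_of_etale_of_surjective (R := R) (A := A) (B := B) hs)

end Groth.Agent.Lib.Helper12.EtSrc
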