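import Mathlib
import Groth.Agent.Lib.Helper12LocPGen
import Groth.Agent.Lib.Helper12SrcLocal
import Groth.Agent.S9948
import Groth.Prelude.Def_AlgSpCov

/-!
# fpqc locality on the base for `AlgSp.LocP` (helper12)
-/

set_option autoImplicit false
universe u
open CategoryTheory CategoryTheory.Limits AlgebraicGeometry
open AlgSp

namespace Groth.Agent.Lib.Helper12.BaseLocal

open Opposite MorphismProperty

variable {S : Scheme.{u}}

/-- scheme-level descent along a standard fpqc covering of an affine scheme. -/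
lemma of_standard_fpqc (P : MorphismProperty Scheme.{u}) [IsZariskiLocalAtTarget P]
    [P.DescendsAlong (@Surjective ⊓ @Flat ⊓ @QuasiCompact)]
    {U' Z : Scheme.{u}} [IsAffine Z] (h : U' ⟶ Z) {m : ℕ} (W : Fin m → Scheme.{u})
    (c : ∀ j, W j ⟶ Z) (hWa : ∀ j, IsAffine (W j)) (hfl : ∀ j, Flat (c j))
    (hsurj : ∀ z : Z, ∃ j, z ∈ Set.range (c j))
    (H : ∀ j, ∃ (N : Scheme.{u}) (fst : N ⟶ U') (snd : N ⟶ W j),
      IsPullback fst snd h (c j) ∧ P snd) : P h := by
  haveI := hWa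
  haveI : Flat (Sigma.desc c) := IsZariskiLocalAtSource.sigmaDesc (P := @Flat) hfl
  haveI : Surjective (Sigma.desc c) := by
    refine ⟨fun z => ?_⟩
    obtain ⟨j, w, hw⟩ := hsurj z
    refine ⟨(Sigma.ι W j) w, ?_⟩
    rw [← Scheme.Hom.comp_apply, Sigma.ι_desc]
    exact hw
  haveI : QuasiCompact (Sigma.desc c) := inferInstance
  have hQ : (@Surjective ⊓ @Flat ⊓ @QuasiCompact : MorphismProperty Scheme.{u})
      (Sigma.desc c) := ⟨⟨inferInstance, inferInstance⟩, inferInstance⟩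
  refine MorphismProperty.of_isPullback_of_descendsAlong (P := P)
    (Q := @Surjective ⊓ @Flat ⊓ @QuasiCompact)
    (IsPullback.of_hasPullback h (Sigma.desc c)).flip hQ ?_
  rw [IsZariskiLocalAtTarget.iff_of_openCover (P := P) (sigmaOpenCover W)]
  intro j
  obtain ⟨N, fst, snd, sqN, hP⟩ := H j
  have big := (IsPullback.of_hasPullback (pullback.snd h (Sigma.desc c))
    (Sigma.ι W j)).paste_horiz (IsPullback.of_hasPullback h (Sigma.desc c))
  rw [Sigma.ι_desc] at big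
  have e := big.isoIsPullback_hom_snd _ _ sqN
  show P (pullback.snd (pullback.snd h (Sigma.desc c)) (Sigma.ι W j))
  rw [← e]
  exact (P.cancel_left_of_respectsIso _ _).2 hP

/-- the map from an étale chart of the source to the base change of the source to an étale chart
of the target is étale. -/
lemma repWith_etale_lift {X Y : AlgSp.Sp S} (hX : AlgSp.IsAlgSpace X) (hY : AlgSp.IsAlgSpace Y)
    (f : X ⟶ Y) {U V : Over S} (a : (AlgSp.yon S).obj U ⟶ X) (b : (AlgSp.yon S).obj V ⟶ Y)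
    (h : U ⟶ V) (ha : AlgSp.RepWith @Etale a) (hb : AlgSp.RepWith @Etale b)
    (hcomm : a ≫ f = (AlgSp.yon S).map h ≫ b) :
    AlgSp.RepWith @Etale (pullback.lift a ((AlgSp.yon S).map h) hcomm) := by
  have hXV : AlgSp.IsAlgSpace (pullback f b) :=
    Groth.Agent.S9874.isAlgSpace_of_isPullback hY.diag hX (AlgSp.IsAlgSpace.yon_obj V)
      (IsPullback.of_hasPullback f b)
  have hπ : AlgSp.RepWith @Etale (pullback.fst f b) :=
    MorphismProperty.of_isPullback (P := AlgSp.RepWith @Etale)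
      (IsPullback.of_hasPullback f b).flip hb
  refine (Groth.Agent.S9948.locP_iff_repWith @Etale (fun g hg => hg) hXV _
    (hXV.representable_from_yon _)).1 ?_
  intro U0 V0 a0 b0 h0 ha0 hb0 hc
  refine Groth.Agent.Lib.Helper12.SrcLocal.etale_of_chart_comp (b0 ≫ pullback.fst f b) (a0 ≫ a) h0
    ((AlgSp.RepWith @Etale).comp_mem _ _ hb0 hπ) ((AlgSp.RepWith @Etale).comp_mem _ _ ha0 ha) ?_
  rw [← Category.assoc, ← hc, Category.assoc, pullback.lift_fst]

/-- `LocP P` is fpqc local on the base (the descent direction). -/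
lemma locP_of_fpqcCover_base (P : MorphismProperty Scheme.{u}) [P.IsStableUnderBaseChange]
    [P.IsStableUnderComposition]
    (hEt : ∀ {A B : Scheme.{u}} (g : A ⟶ B), Etale g → P g)
    (hsrc : ∀ {A B C : Scheme.{u}} (e : A ⟶ B) (k : B ⟶ C) [Etale e] [Surjective e],
      P (e ≫ k) → P k)
    (hcancel : ∀ {A B C : Scheme.{u}} (u : A ⟶ B) (k : B ⟶ C), Etale k → P (u ≫ k) → P u)
    [P.DescendsAlong (@Surjective ⊓ @Flat ⊓ @LocallyOfFinitePresentation)]
    [P.DescendsAlong (@Surjective ⊓ @Flat ⊓ @QuasiCompact)] [IsZariskiLocalAtTarget P]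
    {ι : Type u} {Y : AlgSp.Sp S} (Yi : ι → AlgSp.Sp S) (g : ∀ i, Yi i ⟶ Y)
    (hY : AlgSp.IsAlgSpace Y) (hYi : ∀ i, AlgSp.IsAlgSpace (Yi i))
    (hcov : AlgSp.IsFpqcCover Yi g) {X : AlgSp.Sp S} (f : X ⟶ Y) (hX : AlgSp.IsAlgSpace X)
    (Xi : ι → AlgSp.Sp S) (p : ∀ i, Xi i ⟶ Yi i) (q : ∀ i, Xi i ⟶ X)
    (hXi : ∀ i, AlgSp.IsAlgSpace (Xi i)) (sq : ∀ i, IsPullback (q i) (p i) f (g i))
    (H : ∀ i, AlgSp.LocP P (p i)) : AlgSp.LocP P f := by
  intro U V a b hh ha hb hcomm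
  have hφ := repWith_etale_lift hX hY f a b hh ha hb hcomm
  obtain ⟨φ, hφdef⟩ : ∃ φ : (AlgSp.yon S).obj U ⟶ pullback f b,
      φ = pullback.lift a ((AlgSp.yon S).map hh) hcomm := ⟨_, rfl⟩
  rw [← hφdef] at hφ
  have hφ2 : φ ≫ pullback.snd f b = (AlgSp.yon S).map hh := by rw [hφdef, pullback.lift_snd]
  rw [IsZariskiLocalAtTarget.iff_of_openCover (P := P) V.left.affineCover]
  intro k
  obtain ⟨ζ, hζ⟩ : ∃ ζ : V.left.affineCover.X k ⟶ V.left, ζ = V.left.affineCover.f k := ⟨_, rfl⟩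
  show P (pullback.snd hh.left (V.left.affineCover.f k))
  rw [← hζ]
  let Zo : Over S := Over.mk (ζ ≫ V.hom)
  let ζ' : Zo ⟶ V := Over.homMk ζ rfl
  have hZa : IsAffine Zo.left := by
    show IsAffine (V.left.affineCover.X k)
    infer_instance
  obtain ⟨m, W', c, hW'a, hcfl, hcs, hl⟩ := hcov.2 Zo hZa ((AlgSp.yon S).map ζ' ≫ b)
  haveI : IsAffine (V.left.affineCover.X k) := hZa
  refine of_standard_fpqc P (pullback.snd hh.left ζ) (fun j => (W' j).left)
    (fun j => (c j).left) hW'a hcfl hcs (fun j => ?_)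
  obtain ⟨i, l, hl⟩ := hl j
  -- the scheme `N = U ×_V W' j`
  have hsqN : IsPullback (pullback.fst hh (c j ≫ ζ')).left (pullback.snd hh (c j ≫ ζ')).left
      hh.left ((c j).left ≫ ζ) :=
    (IsPullback.of_hasPullback hh (c j ≫ ζ')).map (Over.forget S)
  have hwN : (pullback.fst hh (c j ≫ ζ')).left ≫ hh.left =
      ((pullback.snd hh (c j ≫ ζ')).left ≫ (c j).left) ≫ ζ := by
    rw [Category.assoc]; exact hsqN.w
  refine ⟨(pullback hh (c j ≫ ζ')).left,
    pullback.lift (pullback.fst hh (c j ≫ ζ')).left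
      ((pullback.snd hh (c j ≫ ζ')).left ≫ (c j).left) hwN,
    (pullback.snd hh (c j ≫ ζ')).left, ?_, ?_⟩
  · refine IsPullback.of_right ?_ (pullback.lift_snd _ _ _) (IsPullback.of_hasPullback hh.left ζ)
    rw [pullback.lift_fst]
    exact hsqN
  -- `P` of the projection
  have hLoc : AlgSp.LocP P (pullback.snd (p i) l) :=
    Groth.Agent.Lib.Helper12.LocPGen.locP_baseChange P hEt hsrc hcancel (hXi i) (hYi i)
      (AlgSp.IsAlgSpace.yon_obj (W' j)) (IsPullback.of_hasPullback (p i) l) (H i)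
  have big1 : IsPullback (pullback.fst (p i) l ≫ q i) (pullback.snd (p i) l) f (l ≫ g i) :=
    (IsPullback.of_hasPullback (p i) l).paste_horiz (sq i)
  have hlg : l ≫ g i = (AlgSp.yon S).map (c j ≫ ζ') ≫ b := by
    rw [hl, Functor.map_comp, Category.assoc]
  rw [hlg] at big1
  have hwμ : (pullback.fst (p i) l ≫ q i) ≫ f =
      (pullback.snd (p i) l ≫ (AlgSp.yon S).map (c j ≫ ζ')) ≫ b := by
    rw [Category.assoc _ _ b]; exact big1.w
  obtain ⟨μ, hμ⟩ : ∃ μ : pullback (p i) l ⟶ pullback f b,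
      μ = pullback.lift _ _ hwμ := ⟨_, rfl⟩
  have hμ1 : μ ≫ pullback.fst f b = pullback.fst (p i) l ≫ q i := by rw [hμ, pullback.lift_fst]
  have hμ2 : μ ≫ pullback.snd f b = pullback.snd (p i) l ≫ (AlgSp.yon S).map (c j ≫ ζ') := by
    rw [hμ, pullback.lift_snd]
  have sqM : IsPullback μ (pullback.snd (p i) l) (pullback.snd f b)
      ((AlgSp.yon S).map (c j ≫ ζ')) := by
    refine IsPullback.of_right ?_ hμ2 (IsPullback.of_hasPullback f b)
    rw [hμ1]
    exact big1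
  have hwα : ((AlgSp.yon S).map (pullback.fst hh (c j ≫ ζ')) ≫ φ) ≫ pullback.snd f b =
      (AlgSp.yon S).map (pullback.snd hh (c j ≫ ζ')) ≫ (AlgSp.yon S).map (c j ≫ ζ') := by
    rw [Category.assoc, hφ2, ← Functor.map_comp, ← Functor.map_comp, pullback.condition]
  obtain ⟨α, hα⟩ : ∃ α : (AlgSp.yon S).obj (pullback hh (c j ≫ ζ')) ⟶ pullback (p i) l,
      α = sqM.lift _ _ hwα := ⟨_, rfl⟩
  have hα1 : α ≫ μ = (AlgSp.yon S).map (pullback.fst hh (c j ≫ ζ')) ≫ φ := by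
    rw [hα, sqM.lift_fst]
  have hα2 : α ≫ pullback.snd (p i) l = (AlgSp.yon S).map (pullback.snd hh (c j ≫ ζ')) := by
    rw [hα, sqM.lift_snd]
  have sqα : IsPullback α ((AlgSp.yon S).map (pullback.fst hh (c j ≫ ζ'))) μ φ := by
    refine IsPullback.of_right ?_ hα1 sqM.flip
    rw [hα2, hφ2]
    exact ((IsPullback.of_hasPullback hh (c j ≫ ζ')).map (AlgSp.yon S)).flip
  have hαe : AlgSp.RepWith @Etale α :=
    MorphismProperty.of_isPullback (P := AlgSp.RepWith @Etale) sqα.flip hφ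
  exact hLoc α (𝟙 _) (pullback.snd hh (c j ≫ ζ')) hαe (AlgSp.repWith_id _ _)
    (by rw [hα2, Category.comp_id])

end Groth.Agent.Lib.Helper12.BaseLocal
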