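import Groth.Agent.Lib.Helper17Hyp17

/-!
# An exact functor commutes with cohomology objects, naturally (helper17)
-/

set_option autoImplicit false

universe w w' v v' u u'

open CategoryTheory CategoryTheory.Limits

namespace Groth.Agent.Lib.Helper17.Hyp

open DerivedCategory

variable {A : Type u} [Category.{v} A] [Abelian A] [HasDerivedCategory.{w} A]
  {B : Type u'} [Category.{v'} B] [Abelian B] [HasDerivedCategory.{w'} B]
  (F : A ⥤ B) [F.Additive] [PreservesFiniteLimits F] [PreservesFiniteColimits F]

/-- on complexes. -/
noncomputable def homologyNatIsoCx (i : ℤ) :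
    F.mapHomologicalComplex (ComplexShape.up ℤ) ⋙
      HomologicalComplex.homologyFunctor B (ComplexShape.up ℤ) i ≅
      HomologicalComplex.homologyFunctor A (ComplexShape.up ℤ) i ⋙ F :=
  NatIso.ofComponents (fun K => (K.sc i).mapHomologyIso F) (fun {K L} f =>
    ShortComplex.mapHomologyIso_hom_naturality
      ((HomologicalComplex.shortComplexFunctor A (ComplexShape.up ℤ) i).map f) F)

/-- `H^i(F X) ≅ F(H^i X)` naturally in `X : D(A)`. -/
noncomputable def homologyNatIso (i : ℤ) :
    F.mapDerivedCategory ⋙ homologyFunctor B i ≅ homologyFunctor A i ⋙ F :=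
  Localization.liftNatIso Q (HomologicalComplex.quasiIso A (ComplexShape.up ℤ))
    (Q ⋙ F.mapDerivedCategory ⋙ homologyFunctor B i) (Q ⋙ homologyFunctor A i ⋙ F) _ _
    ((Functor.associator _ _ _).symm ≪≫
      Functor.isoWhiskerRight F.mapDerivedCategoryFactors (homologyFunctor B i) ≪≫
      Functor.associator _ _ _ ≪≫
      Functor.isoWhiskerLeft _ (homologyFunctorFactors B i) ≪≫
      homologyNatIsoCx F i ≪≫
      Functor.isoWhiskerRight (homologyFunctorFactors A i).symm F ≪≫
      Functor.associator _ _ _)

lemma isIso_homology_map_iff {X Y : DerivedCategory A} (φ : X ⟶ Y) (i : ℤ) :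
    IsIso ((homologyFunctor B i).map (F.mapDerivedCategory.map φ)) ↔
      IsIso (F.map ((homologyFunctor A i).map φ)) := by
  have h := (homologyNatIso F i).hom.naturality φ
  simp only [Functor.comp_map] at h
  constructor
  · intro _
    have : F.map ((homologyFunctor A i).map φ) =
        (homologyNatIso F i).inv.app X ≫
          (homologyFunctor B i).map (F.mapDerivedCategory.map φ) ≫
          (homologyNatIso F i).hom.app Y := by
      rw [h, Iso.inv_hom_id_app_assoc]
    rw [this]
    infer_instance
  · intro _
    have : (homologyFunctor B i).map (F.mapDerivedCategory.map φ) =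
        (homologyNatIso F i).hom.app X ≫ F.map ((homologyFunctor A i).map φ) ≫
          (homologyNatIso F i).inv.app Y := by
      rw [← Category.assoc, ← h, Category.assoc, Iso.hom_inv_id_app, Category.comp_id]
    rw [this]
    infer_instance

end Groth.Agent.Lib.Helper17.Hyp
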