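import Mathlib
import Groth.Agent.Lib.Helper23RestrJ
import Groth.Agent.Lib.Helper4ModEpi
set_option backward.isDefEq.respectTransparency.types false

/-!
# Local lifting of morphisms from finite locally free modules through epimorphisms (helper1)

* `exists_lift_units`: finitely many morphisms `O ⟶ C` lift through an epi `G ⟶ C` on a common
  open neighbourhood of a point
* `exists_lift_of_iso_freeMod`: a morphism from a free module of finite rank lifts locally
* `exists_lift_of_isFinLocFree`: a morphism from a finite locally free module lifts locally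
  (conclusion stated for a general open immersion `j : U ⟶ X`)
-/

set_option autoImplicit false
set_option linter.style.haveILetI false
universe u
open CategoryTheory CategoryTheory.Limits AlgebraicGeometry TopologicalSpace Opposite

namespace Groth.Agent.Lib.Helper1.SPL

open Groth.Agent.Lib.Helper23.GenLocus Groth.Agent.Lib.Helper6 Groth.Agent.Lib.Helper23.SecTw
  Groth.Agent.Lib.Helper23.Extend Groth.Agent.Lib.Helper4.ModEpi

variable {X : Scheme.{u}}

/-- finitely many morphisms `O ⟶ C` lift through an epimorphism `G ⟶ C` on a common neighbourhood -/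
theorem exists_lift_units {J : Type} [Finite J] {G C : X.Modules} (π : G ⟶ C) [Epi π]
    (s : J → (Coh.structureModule X ⟶ C)) (x : X) :
    ∃ V : X.Opens, x ∈ V ∧ ∀ i : J, ∃ t : Coh.structureModule (↑V : Scheme.{u}) ⟶
        (Scheme.Modules.restrictFunctor V.ι).obj G,
      t ≫ (Scheme.Modules.restrictFunctor V.ι).map π =
        Groth.Agent.Lib.Helper23.RestrJ.restrSec V.ι (s i) := by
  choose Vi hVi hxVi g hg using fun i => exists_app_eq_of_epi π ⊤ (sv (s i) ⊤) x trivial
  refine ⟨⨅ i, Vi i, ?_, fun i => ?_⟩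
  · have h : ((⨅ j, Vi j : X.Opens) : Set X) = ⋂ j, (Vi j : Set X) := Opens.coe_iInf Vi
    change x ∈ ((⨅ j, Vi j : X.Opens) : Set X)
    rw [h]
    exact Set.mem_iInter.2 hxVi
  · have hle : (⨅ i, Vi i : X.Opens).ι ''ᵁ ⊤ ≤ Vi i := by
      rw [Scheme.Opens.ι_image_top]
      exact iInf_le Vi i
    let g' : Γ((Scheme.Modules.restrictFunctor (⨅ i, Vi i : X.Opens).ι).obj G, ⊤) := res G hle (g i)
    refine ⟨secHom _ g', ?_⟩
    apply hom_ext_of_sv
    rw [sv_comp, sv_secHom, Groth.Agent.Lib.Helper23.RestrJ.sv_restrSec, res_self]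
    change π.app _ (res G hle (g i)) = _
    rw [show π.app _ (res G hle (g i)) = res C hle (π.app (Vi i) (g i)) from
      app_map π (homOfLE hle) (g i)]
    erw [hg i]
    rw [res_res, res_sv]


/-- a morphism from a free module of finite rank lifts locally through an epimorphism -/
theorem exists_lift_of_iso_freeMod {P G C : X.Modules} (n : ℕ) (e : P ≅ FlatMod.freeMod X n)
    (π : G ⟶ C) [Epi π] (φ : P ⟶ C) (x : X) :
    ∃ V : X.Opens, x ∈ V ∧ ∃ ψ : (Scheme.Modules.restrictFunctor V.ι).obj P ⟶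
        (Scheme.Modules.restrictFunctor V.ι).obj G,
      ψ ≫ (Scheme.Modules.restrictFunctor V.ι).map π =
        (Scheme.Modules.restrictFunctor V.ι).map φ := by
  let f : Fin n → X.Modules := fun _ => Coh.structureModule X
  let s : Fin n → (Coh.structureModule X ⟶ C) := fun i => Sigma.ι f i ≫ e.inv ≫ φ
  obtain ⟨V, hxV, ht⟩ := exists_lift_units π s x
  choose t ht using ht
  refine ⟨V, hxV, ?_⟩
  let R := Scheme.Modules.restrictFunctor V.ι
  have hcol : IsColimit (R.mapCocone (Cofan.mk (∐ f) (Sigma.ι f))) :=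
    isColimitOfPreserves R (coproductIsCoproduct f)
  let c : Cocone (Discrete.functor f ⋙ R) :=
    { pt := R.obj G
      ι := Discrete.natTrans (fun i => (Scheme.Modules.restrictUnitIso V.ι).hom ≫ t i.as) }
  let ψ' : R.obj (FlatMod.freeMod X n) ⟶ R.obj G := hcol.desc c
  have hfac : ∀ i : Fin n, R.map (Sigma.ι f i) ≫ ψ' =
      (Scheme.Modules.restrictUnitIso V.ι).hom ≫ t i := fun i => hcol.fac c ⟨i⟩
  have key : ψ' ≫ R.map π = R.map (e.inv ≫ φ) := by
    apply hcol.hom_ext
    rintro ⟨i⟩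
    change R.map (Sigma.ι f i) ≫ ψ' ≫ R.map π = R.map (Sigma.ι f i) ≫ R.map (e.inv ≫ φ)
    rw [← Category.assoc, hfac i, Category.assoc, ht i, ← R.map_comp]
    change (Scheme.Modules.restrictUnitIso V.ι).hom ≫
      (Scheme.Modules.restrictUnitIso V.ι).inv ≫ R.map (s i) = _
    rw [Iso.hom_inv_id_assoc]
  refine ⟨R.map e.hom ≫ ψ', ?_⟩
  rw [Category.assoc, key, ← R.map_comp, Iso.hom_inv_id_assoc]

/-- a morphism from a finite locally free module lifts locally through an epimorphism -/
theorem exists_lift_of_isFinLocFree {P G C : X.Modules} (hP : FlatMod.IsFinLocFree P)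
    (π : G ⟶ C) [Epi π] (φ : P ⟶ C) (x : X) :
    ∃ (U : Scheme.{u}) (j : U ⟶ X) (_ : IsOpenImmersion j), x ∈ j.opensRange ∧
      ∃ ψ : (Scheme.Modules.restrictFunctor j).obj P ⟶ (Scheme.Modules.restrictFunctor j).obj G,
        ψ ≫ (Scheme.Modules.restrictFunctor j).map π = (Scheme.Modules.restrictFunctor j).map φ := by
  obtain ⟨U₀, n, hxU₀, ⟨e₀⟩⟩ := hP x
  let R₀ := Scheme.Modules.restrictFunctor U₀.ι
  haveI : Epi (R₀.map π) := inferInstance
  obtain ⟨W, hxW, ψ, hψ⟩ := exists_lift_of_iso_freeMod (X := U₀) n e₀ (R₀.map π) (R₀.map φ)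
    ⟨x, hxU₀⟩
  let τ := Scheme.Modules.restrictFunctorComp W.ι U₀.ι
  refine ⟨W, W.ι ≫ U₀.ι, inferInstance, ⟨⟨⟨x, hxU₀⟩, hxW⟩, rfl⟩, τ.hom.app P ≫ ψ ≫ τ.inv.app G, ?_⟩
  have h1 : τ.inv.app G ≫ (Scheme.Modules.restrictFunctor (W.ι ≫ U₀.ι)).map π =
      (Scheme.Modules.restrictFunctor W.ι).map (R₀.map π) ≫ τ.inv.app C := (τ.inv.naturality π).symm
  have h2 : τ.hom.app P ≫ (Scheme.Modules.restrictFunctor W.ι).map (R₀.map φ) =
      (Scheme.Modules.restrictFunctor (W.ι ≫ U₀.ι)).map φ ≫ τ.hom.app C :=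
    (τ.hom.naturality φ).symm
  rw [Category.assoc, Category.assoc, h1, reassoc_of% hψ, reassoc_of% h2, Iso.hom_inv_id_app,
    Category.comp_id]

end Groth.Agent.Lib.Helper1.SPL
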