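import Mathlib
import Groth.Prelude.Def_CxOX
import Groth.Agent.Lib.Helper1SPL1
import Groth.Agent.Lib.Helper1Sky9
import Groth.Agent.Lib.Helper1FLF1
set_option backward.isDefEq.respectTransparency.types false

/-!
# Maps from strictly perfect complexes are locally null-homotopic (helper1)

* `resC j`: restriction of complexes along an open immersion; `resCComp`: transitivity
* `exists_nullHomotopic`: the null-homotopic map attached to a single map `E^c ⟶ F^{c-1}`
* `exists_homotopy_zero_aux` / `exists_homotopy_zero`: a map from a bounded below complex of finite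
  locally free modules (zero in degrees `< a`) to a complex which is exact in degrees `≥ a` is
  locally null-homotopic
-/

set_option autoImplicit false
set_option linter.style.haveILetI false
universe u
open CategoryTheory CategoryTheory.Limits AlgebraicGeometry HomologicalComplex

namespace Groth.Agent.Lib.Helper1.SPL

section abstract

variable {A : Type*} [Category A] [Preadditive A]

/-- the family of maps which is `ψ` in bidegree `(c, c')` and zero elsewhere -/
noncomputable def singleHom {E F : CochainComplex A ℤ} (c c' : ℤ) (ψ : E.X c ⟶ F.X c') :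
    ∀ i j, (ComplexShape.up ℤ).Rel j i → (E.X i ⟶ F.X j) :=
  fun i j _ => if h : i = c ∧ j = c' then eqToHom (by rw [h.1]) ≫ ψ ≫ eqToHom (by rw [h.2]) else 0

lemma singleHom_self {E F : CochainComplex A ℤ} (c c' : ℤ) (ψ : E.X c ⟶ F.X c')
    (h : (ComplexShape.up ℤ).Rel c' c) : singleHom c c' ψ c c' h = ψ := by
  simp [singleHom]

lemma singleHom_of_ne {E F : CochainComplex A ℤ} (c c' : ℤ) (ψ : E.X c ⟶ F.X c') (i j : ℤ)
    (h : (ComplexShape.up ℤ).Rel j i) (hi : i ≠ c) : singleHom c c' ψ i j h = 0 := by
  simp [singleHom, hi]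

/-- the null-homotopic map attached to a single map `E^c ⟶ F^{c'}`, `c' + 1 = c` -/
lemma exists_nullHomotopic {E F : CochainComplex A ℤ} (c c' : ℤ) (hc : c' + 1 = c)
    (ψ : E.X c ⟶ F.X c') :
    ∃ N : E ⟶ F, Nonempty (Homotopy N 0) ∧ N.f c = ψ ≫ F.d c' c ∧ ∀ i, c < i → N.f i = 0 := by
  refine ⟨Homotopy.nullHomotopicMap' (singleHom c c' ψ), ⟨Homotopy.nullHomotopy' _⟩, ?_, ?_⟩
  · rw [Homotopy.nullHomotopicMap'_f (show (ComplexShape.up ℤ).Rel c' c from hc)
      (show (ComplexShape.up ℤ).Rel c (c + 1) from rfl)]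
    rw [singleHom_self, singleHom_of_ne _ _ _ _ _ _ (by omega), comp_zero, zero_add]
  · intro i hi
    rw [Homotopy.nullHomotopicMap'_f (show (ComplexShape.up ℤ).Rel (i - 1) i by simp)
      (show (ComplexShape.up ℤ).Rel i (i + 1) from rfl)]
    rw [singleHom_of_ne _ _ _ _ _ _ (by omega), singleHom_of_ne _ _ _ _ _ _ (by omega), comp_zero,
      zero_comp, zero_add]

end abstract

variable {X : Scheme.{u}}

/-- restriction of complexes along an open immersion -/
noncomputable abbrev resC {U : Scheme.{u}} (j : U ⟶ X) [IsOpenImmersion j] :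
    CochainComplex X.Modules ℤ ⥤ CochainComplex U.Modules ℤ :=
  (Scheme.Modules.restrictFunctor j).mapHomologicalComplex (ComplexShape.up ℤ)

/-- transitivity of restriction of complexes -/
noncomputable def resCComp {U U' : Scheme.{u}} (j' : U' ⟶ U) (j : U ⟶ X) [IsOpenImmersion j']
    [IsOpenImmersion j] : resC (j' ≫ j) ≅ resC j ⋙ resC j' :=
  NatIso.ofComponents (fun K => HomologicalComplex.Hom.isoOfComponents
      (fun i => (Scheme.Modules.restrictFunctorComp j' j).app (K.X i))
      (fun i k _ => by
        dsimp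
        exact ((Scheme.Modules.restrictFunctorComp j' j).hom.naturality (K.d i k)).symm))
    (fun {K K'} φ => by
      apply HomologicalComplex.hom_ext
      intro i
      dsimp
      exact ((Scheme.Modules.restrictFunctorComp j' j).hom.naturality (φ.f i)))

lemma resC_comp_map {U U' : Scheme.{u}} (j' : U' ⟶ U) (j : U ⟶ X) [IsOpenImmersion j']
    [IsOpenImmersion j] {E F : CochainComplex X.Modules ℤ} (α : E ⟶ F) :
    (resC (j' ≫ j)).map α =
      (resCComp j' j).hom.app E ≫ (resC j').map ((resC j).map α) ≫ (resCComp j' j).inv.app F := by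
  have h := (resCComp j' j).hom.naturality α
  rw [← Category.assoc]
  exact ((Iso.comp_inv_eq _).2 h.symm).symm

/-- transitivity for null-homotopies -/
noncomputable def homotopyZeroOfComp {U U' : Scheme.{u}} (j' : U' ⟶ U) (j : U ⟶ X) [IsOpenImmersion j']
    [IsOpenImmersion j] {E F : CochainComplex X.Modules ℤ} (α : E ⟶ F)
    (h : Homotopy ((resC j').map ((resC j).map α)) 0) : Homotopy ((resC (j' ≫ j)).map α) 0 :=
  (Homotopy.ofEq (resC_comp_map j' j α)).trans
    (((h.compRight ((resCComp j' j).inv.app F)).compLeft ((resCComp j' j).hom.app E)).trans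
      (Homotopy.ofEq (by simp)))

noncomputable def homotopyZeroOfEqComp {U U' : Scheme.{u}} (j : U ⟶ X) (j' : U' ⟶ X) (i : U' ⟶ U)
    [IsOpenImmersion j] [IsOpenImmersion j'] [IsOpenImmersion i] (hi : i ≫ j = j')
    {E F : CochainComplex X.Modules ℤ} (α : E ⟶ F) (h : Homotopy ((resC j).map α) 0) :
    Homotopy ((resC j').map α) 0 := by
  subst hi
  exact homotopyZeroOfComp i j α
    (((Scheme.Modules.restrictFunctor i).mapHomotopy h).trans (Homotopy.ofEq (by simp)))


section facts

variable {U : Scheme.{u}} (j : U ⟶ X) [IsOpenImmersion j]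

instance preservesFiniteLimits_restrictFunctor :
    PreservesFiniteLimits (Scheme.Modules.restrictFunctor j) := by
  haveI : PreservesLimitsOfSize.{0, 0} (Scheme.Modules.restrictFunctor j) :=
    (CxOX.extZeroAdj j).rightAdjoint_preservesLimits
  exact PreservesLimitsOfSize.preservesFiniteLimits.{0, 0} _

instance preservesFiniteColimits_restrictFunctor :
    PreservesFiniteColimits (Scheme.Modules.restrictFunctor j) := by
  haveI : PreservesColimitsOfSize.{0, 0} (Scheme.Modules.restrictFunctor j) :=
    (Scheme.Modules.restrictAdjunction j).leftAdjoint_preservesColimits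
  exact ⟨fun _ _ _ => inferInstance⟩

/-- restriction along an open immersion preserves finite locally free modules -/
lemma isFinLocFree_restrict (P : X.Modules) (hP : FlatMod.IsFinLocFree P) :
    FlatMod.IsFinLocFree ((Scheme.Modules.restrictFunctor j).obj P) :=
  Groth.Agent.Lib.Helper1.FLF.isFinLocFree_of_iso
    ((Scheme.Modules.restrictFunctorIsoPullback j).app P).symm
    (Groth.Agent.Lib.Helper1.Sky.isFinLocFree_pullback j P hP)

/-- restriction of complexes is exact -/
lemma isZero_homology_resC (F : CochainComplex X.Modules ℤ) (i : ℤ) (h : IsZero (F.homology i)) :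
    IsZero (((resC j).obj F).homology i) := by
  haveI : (Scheme.Modules.restrictFunctor j).PreservesHomology := inferInstance
  exact IsZero.of_iso ((Scheme.Modules.restrictFunctor j).map_isZero h)
    ((F.sc i).mapHomologyIso (Scheme.Modules.restrictFunctor j))

end facts


/-- the key induction: a map vanishing in degrees `≥ a + n` is locally null-homotopic -/
theorem exists_homotopy_zero_aux (n : ℕ) : ∀ {X : Scheme.{u}} {E F : CochainComplex X.Modules ℤ}
    (α : E ⟶ F) (_ : ∀ i, FlatMod.IsFinLocFree (E.X i)) (a : ℤ) (_ : ∀ i, i < a → IsZero (E.X i))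
    (_ : ∀ i, a ≤ i → IsZero (F.homology i)) (_ : ∀ i, a + n ≤ i → α.f i = 0) (x : X),
    ∃ (U : Scheme.{u}) (j : U ⟶ X) (_ : IsOpenImmersion j), x ∈ j.opensRange ∧
      Nonempty (Homotopy ((resC j).map α) 0) := by
  induction n with
  | zero =>
    intro X E F α _ a hEa _ hα x
    have h0 : α = 0 := by
      apply HomologicalComplex.hom_ext
      intro i
      by_cases hi : i < a
      · exact (hEa i hi).eq_of_src _ _
      · exact hα i (by push Not at hi; simpa using hi)
    refine ⟨X, 𝟙 X, inferInstance, by simp, ⟨Homotopy.ofEq ?_⟩⟩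
    rw [h0, Functor.map_zero]
  | succ n ih =>
    intro X E F α hfl a hEa hF hα x
    -- the top degree
    have hcyc : α.f (a + n) ≫ F.d (a + n) (a + n + 1) = 0 := by
      rw [α.comm, hα (a + n + 1) (by push_cast; omega), comp_zero]
    let z : E.X (a + n) ⟶ F.cycles (a + n) :=
      F.liftCycles (α.f (a + n)) (a + n + 1) (by simp) hcyc
    haveI : Epi (F.toCycles (a + n - 1) (a + n)) :=
      Preadditive.epi_of_isZero_cokernel' _
        (F.homologyIsCokernel (a + n - 1) (a + n) (by simp)) (hF (a + n) (by omega))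
    obtain ⟨U₁, j₁, hj₁, hx₁, ψ, hψ⟩ := exists_lift_of_isFinLocFree (hfl (a + n))
      (F.toCycles (a + n - 1) (a + n)) z x
    haveI := hj₁
    let R₁ := Scheme.Modules.restrictFunctor j₁
    have hψ' : ψ ≫ R₁.map (F.d (a + n - 1) (a + n)) = R₁.map (α.f (a + n)) := by
      rw [← F.toCycles_i (a + n - 1) (a + n), R₁.map_comp, reassoc_of% hψ, ← R₁.map_comp,
        F.liftCycles_i]
    obtain ⟨N, ⟨hN⟩, hNc, hNi⟩ := exists_nullHomotopic (E := (resC j₁).obj E)
      (F := (resC j₁).obj F) (a + n) (a + n - 1) (by omega) ψ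
    obtain ⟨x₁, rfl⟩ : ∃ x₁ : U₁, j₁ x₁ = x := hx₁
    obtain ⟨U₂, j₂, hj₂, hx₂, ⟨H⟩⟩ := ih (X := U₁) ((resC j₁).map α - N)
      (fun i => isFinLocFree_restrict j₁ _ (hfl i)) a
      (fun i hi => R₁.map_isZero (hEa i hi))
      (fun i hi => isZero_homology_resC j₁ F i (hF i hi))
      (fun i hi => by
        rcases eq_or_lt_of_le hi with h | h
        · subst h
          rw [HomologicalComplex.sub_f_apply, hNc, sub_eq_zero]
          exact hψ'.symm
        · rw [HomologicalComplex.sub_f_apply, hNi i h, sub_zero]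
          change R₁.map (α.f i) = 0
          rw [hα i (by push_cast; omega), R₁.map_zero]) x₁
    haveI := hj₂
    obtain ⟨x₂, rfl⟩ : ∃ x₂ : U₂, j₂ x₂ = x₁ := hx₂
    refine ⟨U₂, j₂ ≫ j₁, inferInstance, ⟨x₂, rfl⟩, ⟨homotopyZeroOfComp j₂ j₁ α ?_⟩⟩
    have e : (resC j₁).map α = ((resC j₁).map α - N) + N := by abel
    rw [e, Functor.map_add]
    exact ((H.add ((Scheme.Modules.restrictFunctor j₂).mapHomotopy hN)).trans
      (Homotopy.ofEq (by simp)))


/-- a null-homotopy after restriction along an open immersion gives one on the open image -/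
noncomputable def homotopyZeroOpensRange {U : Scheme.{u}} (j : U ⟶ X) [IsOpenImmersion j]
    {E F : CochainComplex X.Modules ℤ} (α : E ⟶ F) (h : Homotopy ((resC j).map α) 0) :
    Homotopy ((resC j.opensRange.ι).map α) 0 :=
  homotopyZeroOfEqComp j j.opensRange.ι j.isoOpensRange.inv (by simp) α h

/-- S0932 for a general open immersion: maps from a strictly perfect complex concentrated in
degrees `≥ a` to a complex exact in degrees `≥ a` are locally null-homotopic -/
theorem exists_homotopy_zero {E F : CochainComplex X.Modules ℤ} (α : E ⟶ F)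
    (hE : DCoh.IsStrictlyPerfect E) (a : ℤ) (hEa : ∀ i, i < a → IsZero (E.X i))
    (hF : ∀ i, a ≤ i → IsZero (F.homology i)) (x : X) :
    ∃ (U : Scheme.{u}) (j : U ⟶ X) (_ : IsOpenImmersion j), x ∈ j.opensRange ∧
      Nonempty (Homotopy ((resC j).map α) 0) := by
  obtain ⟨⟨a', b, hv⟩, hfl⟩ := hE
  refine exists_homotopy_zero_aux (b + 1 - a).toNat α hfl a hEa hF (fun i hi => ?_) x
  refine (hv i (Or.inr ?_)).eq_of_src _ _
  have := Int.self_le_toNat (b + 1 - a)
  omega

/-- S0932 -/
theorem exists_opens_homotopy_zero {E F : CochainComplex X.Modules ℤ} (α : E ⟶ F)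
    (hE : DCoh.IsStrictlyPerfect E) (a : ℤ) (hEa : ∀ i, i < a → IsZero (E.X i))
    (hF : ∀ i, a ≤ i → IsZero (F.homology i)) (x : X) :
    ∃ V : X.Opens, x ∈ V ∧ Nonempty (Homotopy ((DCoh.restrictCx V).map α) 0) := by
  obtain ⟨U, j, hj, hx, ⟨H⟩⟩ := exists_homotopy_zero α hE a hEa hF x
  haveI := hj
  exact ⟨j.opensRange, hx, ⟨homotopyZeroOpensRange j α H⟩⟩

end Groth.Agent.Lib.Helper1.SPL
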