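import Mathlib
import Groth.Agent.Lib.Helper1Sky9
import Groth.Agent.Lib.Helper1CI7
set_option backward.isDefEq.respectTransparency.types false

/-!
# Right t-exactness of the derived pullback (helper1)
-/

set_option autoImplicit false
set_option linter.style.haveILetI false
universe u
open CategoryTheory CategoryTheory.Limits AlgebraicGeometry HomologicalComplex

attribute [local instance] HasDerivedCategory.standard

namespace Groth.Agent.Lib.Helper1.Sky

open Groth.Agent.Lib.Helper1.BKF Groth.Agent.Lib.Helper1.CI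
  Groth.Agent.Lib.Helper21.ModTensor3 Groth.Agent.Lib.Helper21.ModTensor5

section bifun

variable {C₁ C₂ D : Type*} [Category C₁] [Category C₂] [Category D]
  [Abelian C₁] [Abelian C₂] [Abelian D]
  (F : C₁ ⥤ C₂ ⥤ D) [F.Additive] [∀ X, (F.obj X).Additive]
  [∀ (K₁ : CochainComplex C₁ ℤ) (K₂ : CochainComplex C₂ ℤ),
    HasMapBifunctor K₁ K₂ F (ComplexShape.up ℤ)]

/-- the total complex of a bifunctor applied to two bounded above complexes is bounded above -/
lemma isZero_mapBifunctor_X (K : CochainComplex C₁ ℤ) (L : CochainComplex C₂ ℤ) (a b n : ℤ)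
    (hK : ∀ p, a < p → IsZero (K.X p)) (hL : ∀ q, b < q → IsZero (L.X q)) (hn : a + b < n) :
    IsZero ((mapBifunctor K L F (ComplexShape.up ℤ)).X n) := by
  rw [IsZero.iff_id_eq_zero]
  apply mapBifunctor.hom_ext
  intro p q hpq
  have hpq' : p + q = n := hpq
  by_cases hp : a < p
  · have h0 : IsZero ((F.obj (K.X p)).obj (L.X q)) :=
      ((F.flip.obj (L.X q)).map_isZero (hK p hp))
    exact h0.eq_of_src _ _
  · have hq : b < q := by omega
    have h0 : IsZero ((F.obj (K.X p)).obj (L.X q)) := (F.obj (K.X p)).map_isZero (hL q hq)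
    exact h0.eq_of_src _ _

/-- degreewise form of `exact_map_of_acyc_single` -/
theorem exact_map_of_isZero_homology_single (L : CochainComplex C₁ ℤ) (Y : C₂) (m : ℤ)
    (i j k : ℤ) (hij : i + 1 = j) (hjk : j + 1 = k)
    (hT : IsZero ((mapBifunctor L (sg Y m) F (ComplexShape.up ℤ)).homology (j + m))) :
    ((L.sc' i j k).map (F.flip.obj Y)).Exact := by
  subst hij hjk
  have h := hT
  rw [← exactAt_iff_isZero_homology,
    exactAt_iff' _ (i + m) (i + 1 + m) (i + 1 + 1 + m) (by simp; omega) (by simp; omega)] at h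
  refine (ShortComplex.exact_iff_of_iso (ShortComplex.isoMk
    (sgIso F L Y m (i + m) i rfl) (sgIso F L Y m (i + 1 + m) (i + 1) rfl)
    (sgIso F L Y m (i + 1 + 1 + m) (i + 1 + 1) rfl) ?_ ?_)).2 h
  · exact sgι_comm F L Y m (i + m) i (i + 1 + m) (i + 1) rfl (by omega) rfl
  · exact sgι_comm F L Y m (i + 1 + m) (i + 1) (i + 1 + 1 + m) (i + 1 + 1) rfl (by omega) rfl

end bifun

lemma isZero_homology_of_quasiIso {A : Type*} [Category A] [Abelian A] {K L : CochainComplex A ℤ}
    (f : K ⟶ L) [QuasiIso f] (i : ℤ) : IsZero (K.homology i) ↔ IsZero (L.homology i) := by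
  have : IsIso (homologyMap f i) := by
    rw [← quasiIsoAt_iff_isIso_homologyMap]; infer_instance
  exact (asIso (homologyMap f i)).isZero_iff

section site

variable {C : Type u} [SmallCategory C] {J : GrothendieckTopology C} {O : Sheaf J CommRingCat.{u}}

/-- tensoring a K-flat complex with cohomology in degrees `≤ n` with a module gives a complex with
cohomology in degrees `≤ n` -/
theorem exact_map_tensor_of_isLE (K : CochainComplex (ModSite.Mod O) ℤ) (hK : ModSite.IsKFlat K)
    (n : ℤ) (hn : ∀ i, n < i → IsZero (K.homology i)) (G : ModSite.Mod O)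
    (i j k : ℤ) (hij : i + 1 = j) (hjk : j + 1 = k) (hj : n < j) :
    ((K.sc' i j k).map ((ModSite.tensorBi O).flip.obj G)).Exact := by
  obtain ⟨Fr, q, hle, hq, hfl⟩ := exists_flat_resolution_site O G
  have hFr : ModSite.IsKFlat Fr := isKFlat_of_bounded_above_flat Fr hfl 0 hle
  haveI : K.IsLE n := by
    rw [CochainComplex.isLE_iff]
    intro i hi
    rw [exactAt_iff_isZero_homology]
    exact hn i hi
  have h1 : QuasiIso ((TR (ModSite.tensorBi O) K).map q) := quasiIso_TR_map_of_isKFlat K hK q
  have h2 : QuasiIso ((TL (ModSite.tensorBi O) Fr).map (K.ιTruncLE n)) :=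
    quasiIso_TL_map_of_isKFlat Fr hFr (K.ιTruncLE n)
  have h3 : IsZero ((mapBifunctor Fr (K.truncLE n) (ModSite.tensorBi O)
      (ComplexShape.up ℤ)).homology j) := by
    apply isZero_homology_of_isZero_X
    exact isZero_mapBifunctor_X (ModSite.tensorBi O) Fr (K.truncLE n) 0 n j
      (fun p hp => Fr.isZero_of_isStrictlyLE 0 p hp)
      (fun q hq => (K.truncLE n).isZero_of_isStrictlyLE n q hq) (by omega)
  have h4 : IsZero ((mapBifunctor Fr K (ModSite.tensorBi O) (ComplexShape.up ℤ)).homology j) :=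
    (isZero_homology_of_quasiIso ((TL (ModSite.tensorBi O) Fr).map (K.ιTruncLE n)) j).1 h3
  have h5 : IsZero ((mapBifunctor ((CochainComplex.singleFunctor _ 0).obj G) K (ModSite.tensorBi O)
      (ComplexShape.up ℤ)).homology j) :=
    (isZero_homology_of_quasiIso ((TR (ModSite.tensorBi O) K).map q) j).1 h4
  have h6 : IsZero ((mapBifunctor K (sg G 0) (ModSite.tensorBi O)
      (ComplexShape.up ℤ)).homology j) :=
    IsZero.of_iso h5 ((homologyFunctor _ _ j).mapIso
      (symIso (ModSite.tensorBi O) (brd O) K (sg G 0)))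
  exact exact_map_of_isZero_homology_single (ModSite.tensorBi O) K G 0 i j k hij hjk
    (by rw [add_zero]; exact h6)

/-- the canonical truncation `τ_{≤ n} K` of a K-flat complex `K` with flat terms and cohomology in
degrees `≤ n` has flat terms -/
theorem isFlat_truncLE_X (K : CochainComplex (ModSite.Mod O) ℤ) (hK : ModSite.IsKFlat K)
    (hfl : ∀ i : ℤ, ModSite.IsFlat (K.X i))
    (n : ℤ) (hn : ∀ i, n < i → IsZero (K.homology i)) (i : ℤ) :
    ModSite.IsFlat ((K.truncLE n).X i) := by
  have hexK : ∀ i : ℤ, n < i → K.ExactAt i := fun i hi => by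
    rw [exactAt_iff_isZero_homology]; exact hn i hi
  have hZ : ModSite.IsFlat (kernel (K.d n (n + 1))) :=
    isFlat_kernel_of_exact_above O (K.d n (n + 1)) (K.d (n + 1) (n + 2))
      (K.d (n + 2) (n + 3)) (K.d (n + 3) (n + 4)) (K.d_comp_d _ _ _) (K.d_comp_d _ _ _)
      (K.d_comp_d _ _ _)
      (exact_sc_of_exactAt K n (n + 1) (n + 2) rfl (by omega) (hexK _ (by omega)))
      (exact_sc_of_exactAt K (n + 1) (n + 2) (n + 3) (by omega) (by omega) (hexK _ (by omega)))
      (exact_sc_of_exactAt K (n + 2) (n + 3) (n + 4) (by omega) (by omega) (hexK _ (by omega)))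
      (fun G => exact_map_tensor_of_isLE K hK n hn G n (n + 1) (n + 2) rfl (by omega) (by omega))
      (hfl _) (hfl _) (hfl _)
  obtain hi | rfl | hi := lt_trichotomy i n
  · exact isFlat_of_iso O (K.truncLEXIso n i hi).symm (hfl i)
  · have e1 : K.cycles i ≅ kernel (K.d i (i + 1)) :=
      (K.cyclesIsKernel i (i + 1) (by simp)).conePointUniqueUpToIso (limit.isLimit _)
    exact isFlat_of_iso O ((K.truncLEXIsoCycles i).trans e1).symm hZ
  · exact isFlat_of_isZero O _ ((K.truncLE n).isZero_of_isStrictlyLE n i hi)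

end site

section pull

variable {X Y : Scheme.{u}} (f : X ⟶ Y)

/-- right t-exactness of the derived pullback, on K-flat complexes with flat terms -/
theorem isZero_homology_pullC (K : CochainComplex Y.Modules ℤ) (hK : KFFs K) (n : ℤ)
    (hn : ∀ i, n < i → IsZero (K.homology i)) (i : ℤ) (hi : n < i) :
    IsZero (((pullC f).obj K).homology i) := by
  haveI : K.IsLE n := by
    rw [CochainComplex.isLE_iff]
    intro i hi
    rw [exactAt_iff_isZero_homology]
    exact hn i hi
  have hTfl : ∀ i : ℤ, ModSite.IsFlat (O := Y.sheaf) ((K.truncLE n).X i) :=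
    isFlat_truncLE_X (O := Y.sheaf) K hK.1 hK.2 n hn
  have hsle : (K.truncLE n).IsStrictlyLE n := inferInstance
  have hT : KFFs (K.truncLE n) :=
    ⟨isKFlat_of_bounded_above_flat (O := Y.sheaf) (K.truncLE n) hTfl n hsle, hTfl⟩
  have hq : QuasiIso ((pullC f).map (K.ιTruncLE n)) := quasiIso_pullC_map f (K.ιTruncLE n) hT hK
  refine (isZero_homology_of_quasiIso ((pullC f).map (K.ιTruncLE n)) i).1 ?_
  apply isZero_homology_of_isZero_X
  exact (Scheme.Modules.pullback f).map_isZero ((K.truncLE n).isZero_of_isStrictlyLE n i hi)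

end pull

end Groth.Agent.Lib.Helper1.Sky
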