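import Mathlib
import Groth.Agent.Lib.Helper1Sky10
set_option backward.isDefEq.respectTransparency.types false

/-!
# The derived pullback of an `m`-pseudo-coherent object is `m`-pseudo-coherent (helper1)
-/

set_option autoImplicit false
set_option linter.style.haveILetI false
universe w v u
open CategoryTheory CategoryTheory.Limits AlgebraicGeometry HomologicalComplex

attribute [local instance] HasDerivedCategory.standard

namespace Groth.Agent.Lib.Helper1.Sky

open Groth.Agent.Lib.Helper1.BKF Groth.Agent.Lib.Helper1.CI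

section propM

variable {A : Type u} [Category.{v} A] [Abelian A] [HasDerivedCategory.{w} A]

/-- a morphism of the derived category which is an isomorphism on `H^i` for `i > m` and an
epimorphism on `H^m` -/
def PropM (m : ℤ) {K L : DerivedCategory A} (α : K ⟶ L) : Prop :=
  (∀ i : ℤ, m < i → IsIso ((DerivedCategory.homologyFunctor A i).map α)) ∧
    Epi ((DerivedCategory.homologyFunctor A m).map α)

lemma propM_iff_of_arrow_iso (m : ℤ) {K L K' L' : DerivedCategory A} {α : K ⟶ L} {α' : K' ⟶ L'}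
    (e : Arrow.mk α ≅ Arrow.mk α') : PropM m α ↔ PropM m α' := by
  have h1 : ∀ i : ℤ, IsIso ((DerivedCategory.homologyFunctor A i).map α) ↔
      IsIso ((DerivedCategory.homologyFunctor A i).map α') := fun i =>
    (MorphismProperty.isomorphisms A).arrow_mk_iso_iff
      ((DerivedCategory.homologyFunctor A i).mapArrow.mapIso e)
  have h2 : Epi ((DerivedCategory.homologyFunctor A m).map α) ↔
      Epi ((DerivedCategory.homologyFunctor A m).map α') :=
    (MorphismProperty.epimorphisms A).arrow_mk_iso_iff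
      ((DerivedCategory.homologyFunctor A m).mapArrow.mapIso e)
  exact ⟨fun h => ⟨fun i hi => (h1 i).1 (h.1 i hi), h2.1 h.2⟩,
    fun h => ⟨fun i hi => (h1 i).2 (h.1 i hi), h2.2 h.2⟩⟩

open DerivedCategory in
lemma propM_iff_of_distTriang (m : ℤ) (T : Pretriangulated.Triangle (DerivedCategory A))
    (hT : T ∈ distTriang _) :
    PropM m T.mor₁ ↔
      ∀ i : ℤ, m ≤ i → IsZero ((DerivedCategory.homologyFunctor A i).obj T.obj₃) := by
  constructor
  · rintro ⟨h1, h2⟩ i hi
    have hepi : Epi ((DerivedCategory.homologyFunctor A i).map T.mor₁) := by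
      obtain rfl | hi' := eq_or_lt_of_le hi
      · exact h2
      · have := h1 i hi'; infer_instance
    have hmono : Mono ((DerivedCategory.homologyFunctor A (i + 1)).map T.mor₁) := by
      have := h1 (i + 1) (by omega); infer_instance
    have z1 := (HomologySequence.epi_homologyMap_mor₁_iff T hT i).1 hepi
    have z2 := (HomologySequence.mono_homologyMap_mor₁_iff T hT i (i + 1) rfl).1 hmono
    have hex := HomologySequence.exact₃ T hT i (i + 1) rfl
    exact hex.isZero_of_both_zeros z1 z2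
  · intro h
    have hepi : ∀ i : ℤ, m ≤ i → Epi ((DerivedCategory.homologyFunctor A i).map T.mor₁) :=
        fun i hi => by
      rw [HomologySequence.epi_homologyMap_mor₁_iff T hT i]
      exact (h i hi).eq_of_tgt _ _
    have hmono : ∀ i : ℤ, m < i → Mono ((DerivedCategory.homologyFunctor A i).map T.mor₁) :=
        fun i hi => by
      rw [HomologySequence.mono_homologyMap_mor₁_iff T hT (i - 1) i (by omega)]
      exact (h (i - 1) (by omega)).eq_of_src _ _
    refine ⟨fun i hi => ?_, hepi m le_rfl⟩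
    have := hepi i hi.le
    have := hmono i hi
    exact isIso_of_mono_of_epi _

open DerivedCategory in
lemma propM_Q_map_iff (m : ℤ) {K K' : CochainComplex A ℤ} (b : K ⟶ K') :
    PropM m (Q.map b) ↔ ∀ i : ℤ, m ≤ i → IsZero ((CochainComplex.mappingCone b).homology i) := by
  have h := propM_iff_of_distTriang m _ (mappingCone_triangle_distinguished b)
  refine Iff.trans h ?_
  refine forall_congr' fun i => imp_congr_right fun _ => ?_
  exact ((homologyFunctorFactors A i).app (CochainComplex.mappingCone b)).isZero_iff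

end propM

section lpull

variable {X Y : Scheme.{u}} (f : X ⟶ Y) [DCoh.HasLpull f]

/-- the comparison `Lf^* (Q K) ⟶ Q (f^* K)`, natural in the complex `K` -/
noncomputable def lpullNat :
    DerivedCategory.Q ⋙ DCoh.Lpull f ⟶ pullC f ⋙ DerivedCategory.Q :=
  Functor.whiskerRight (DerivedCategory.quotientCompQhIso Y.Modules).inv (DCoh.Lpull f) ≫
    lpullCounit f ≫ (facIso f).hom ≫
    Functor.whiskerLeft (pullC f) (DerivedCategory.quotientCompQhIso X.Modules).hom

lemma isIso_lpullNat_app (K : CochainComplex Y.Modules ℤ) (hK : KFFs K) :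
    IsIso ((lpullNat f).app K) := by
  haveI := isIso_lpullCounit_app f K hK
  dsimp only [lpullNat]
  simp only [NatTrans.comp_app, Functor.whiskerRight_app, Functor.whiskerLeft_app]
  infer_instance

/-- `Lf^*` of a morphism of K-flat complexes with flat terms is `f^*` of this morphism -/
noncomputable def lpullArrowIso {K K' : CochainComplex Y.Modules ℤ} (b : K ⟶ K') (hK : KFFs K)
    (hK' : KFFs K') :
    Arrow.mk ((DCoh.Lpull f).map (DerivedCategory.Q.map b)) ≅
      Arrow.mk (DerivedCategory.Q.map ((pullC f).map b)) :=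
  haveI := isIso_lpullNat_app f K hK
  haveI := isIso_lpullNat_app f K' hK'
  Arrow.isoMk (asIso ((lpullNat f).app K)) (asIso ((lpullNat f).app K'))
    ((lpullNat f).naturality b).symm

/-- right t-exactness of `Lf^*`, in the form needed for pseudo-coherence -/
theorem propM_lpull_map (m : ℤ) {A B : DCoh.D Y} (α : A ⟶ B) (h : PropM m α) :
    PropM m ((DCoh.Lpull f).map α) := by
  obtain ⟨R, ψ, hR⟩ : ∃ (R : CochainComplex Y.Modules ℤ ⥤ CochainComplex Y.Modules ℤ)
      (ψ : R ⟶ 𝟭 (CochainComplex Y.Modules ℤ)),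
      ∀ G : CochainComplex Y.Modules ℤ, ModSite.IsKFlat (O := Y.sheaf) (R.obj G) ∧
        (∀ n : ℤ, ModSite.IsFlat (O := Y.sheaf) ((R.obj G).X n)) ∧ QuasiIso (ψ.app G) ∧
        ∀ n : ℤ, Epi ((ψ.app G).f n) := exists_functorial_kflat_flat_resolution Y.sheaf
  have hkff : ∀ G, KFFs (R.obj G) := fun G => ⟨(hR G).1, (hR G).2.1⟩
  have hψ : ∀ G, IsIso (DerivedCategory.Q.map (ψ.app G)) := fun G => by
    rw [DerivedCategory.isIso_Q_map_iff_quasiIso]; exact (hR G).2.2.1
  let A₀ : CochainComplex Y.Modules ℤ := DerivedCategory.Q.objPreimage A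
  let B₀ : CochainComplex Y.Modules ℤ := DerivedCategory.Q.objPreimage B
  let eA : DerivedCategory.Q.obj A₀ ≅ A := DerivedCategory.Q.objObjPreimageIso A
  let eB : DerivedCategory.Q.obj B₀ ≅ B := DerivedCategory.Q.objObjPreimageIso B
  obtain ⟨A₁, s, hs, a, hα⟩ := DerivedCategory.right_fac (eA.hom ≫ α ≫ eB.inv)
  haveI := hs
  haveI := hψ A₁
  haveI := hψ B₀
  -- `α` is isomorphic to `Q (R a)` as an arrow
  have e1 : Arrow.mk α ≅ Arrow.mk (DerivedCategory.Q.map (R.map a)) := by
    refine Arrow.isoMk (eA.symm ≪≫ (asIso (DerivedCategory.Q.map s)).symm ≪≫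
      (asIso (DerivedCategory.Q.map (ψ.app A₁))).symm)
      (eB.symm ≪≫ (asIso (DerivedCategory.Q.map (ψ.app B₀))).symm) ?_
    dsimp
    have hnat : DerivedCategory.Q.map (R.map a) ≫ DerivedCategory.Q.map (ψ.app B₀) =
        DerivedCategory.Q.map (ψ.app A₁) ≫ DerivedCategory.Q.map a := by
      rw [← Functor.map_comp, ← Functor.map_comp]
      exact congrArg _ (ψ.naturality a)
    have hα' : DerivedCategory.Q.map s ≫ eA.hom ≫ α ≫ eB.inv = DerivedCategory.Q.map a := by
      rw [hα, IsIso.hom_inv_id_assoc]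
    rw [← cancel_mono (DerivedCategory.Q.map (ψ.app B₀))]
    simp only [Category.assoc, IsIso.inv_hom_id, Category.comp_id]
    rw [hnat, IsIso.inv_hom_id_assoc, ← hα']
    simp
  have h1 : PropM m (DerivedCategory.Q.map (R.map a)) := (propM_iff_of_arrow_iso m e1).1 h
  rw [propM_Q_map_iff] at h1
  have hcone : KFFs (CochainComplex.mappingCone (R.map a)) :=
    kffs_mappingCone (R.map a) (hkff A₁) (hkff B₀)
  have h2 : ∀ i : ℤ, m ≤ i →
      IsZero ((CochainComplex.mappingCone ((pullC f).map (R.map a))).homology i) := by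
    intro i hi
    refine IsZero.of_iso (isZero_homology_pullC f _ hcone (m - 1)
      (fun j hj => h1 j (by omega)) i (by omega))
      ((HomologicalComplex.homologyFunctor _ _ i).mapIso
        (CochainComplex.mappingCone.mapHomologicalComplexIso (R.map a)
          (Scheme.Modules.pullback f)).symm)
  have h3 : PropM m (DerivedCategory.Q.map ((pullC f).map (R.map a))) :=
    (propM_Q_map_iff m _).2 h2
  have h4 : PropM m ((DCoh.Lpull f).map (DerivedCategory.Q.map (R.map a))) :=
    (propM_iff_of_arrow_iso m (lpullArrowIso f (R.map a) (hkff A₁) (hkff B₀))).2 h3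
  exact (propM_iff_of_arrow_iso m ((DCoh.Lpull f).mapArrow.mapIso e1)).2 h4

end lpull

section pseudo

variable {X Y : Scheme.{u}} (f : X ⟶ Y)

/-- S0910: the derived pullback of an `m`-pseudo-coherent object is `m`-pseudo-coherent -/
theorem isPseudoCoherentD_lpull [DCoh.HasLpull f] (m : ℤ) (E : DCoh.D Y)
    (hE : DCoh.IsPseudoCoherentD m E) : DCoh.IsPseudoCoherentD m ((DCoh.Lpull f).obj E) := by
  intro x
  obtain ⟨V, hxV, hV⟩ := hE (f x)
  refine ⟨f ⁻¹ᵁ V, hxV, fun F ⟨eF⟩ => ?_⟩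
  let F₀ : CochainComplex Y.Modules ℤ := DerivedCategory.Q.objPreimage E
  let e₀ : DCoh.toD Y F₀ ≅ E := DerivedCategory.Q.objObjPreimageIso E
  obtain ⟨P, α, hP, hα1, hα2⟩ := hV F₀ ⟨e₀⟩
  haveI : DCoh.HasLpull (f ∣_ V) := hasLpull _
  haveI : DCoh.HasLpull V.ι := hasLpull _
  haveI : DCoh.HasLpull (f ⁻¹ᵁ V).ι := hasLpull _
  haveI : DCoh.HasLpull ((f ⁻¹ᵁ V).ι ≫ f) := hasLpull _
  haveI : DCoh.HasLpull ((f ∣_ V) ≫ V.ι) := hasLpull _
  obtain ⟨c1⟩ := nonempty_lpull_comp_iso (f ⁻¹ᵁ V).ι f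
  obtain ⟨c2⟩ := nonempty_lpull_comp_iso (f ∣_ V) V.ι
  obtain ⟨c3⟩ := nonempty_lpull_congr (morphismRestrict_ι f V).symm
  let θ : DerivedCategory.Q.obj ((DCoh.restrictCx (f ⁻¹ᵁ V)).obj F) ≅
      (DCoh.Lpull (f ∣_ V)).obj (DerivedCategory.Q.obj ((DCoh.restrictCx V).obj F₀)) :=
    (lpullOpenIso (f ⁻¹ᵁ V) F).symm ≪≫ (DCoh.Lpull (f ⁻¹ᵁ V).ι).mapIso eF ≪≫ c1.app E ≪≫
      c3.app E ≪≫ (c2.app E).symm ≪≫
      (DCoh.Lpull (f ∣_ V)).mapIso ((DCoh.Lpull V.ι).mapIso e₀.symm ≪≫ lpullOpenIso V F₀)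
  have hβ : PropM m ((DCoh.Lpull (f ∣_ V)).map α) := propM_lpull_map (f ∣_ V) m α ⟨hα1, hα2⟩
  let ι := lpullIso (f ∣_ V) P (kffs_of_isStrictlyPerfect P hP)
  have e : Arrow.mk ((DCoh.Lpull (f ∣_ V)).map α) ≅
      Arrow.mk (ι.inv ≫ (DCoh.Lpull (f ∣_ V)).map α ≫ θ.inv) :=
    Arrow.isoMk ι θ.symm (by simp)
  have hα' : PropM m (ι.inv ≫ (DCoh.Lpull (f ∣_ V)).map α ≫ θ.inv) :=
    (propM_iff_of_arrow_iso m e).1 hβ
  exact ⟨(pullC (f ∣_ V)).obj P, ι.inv ≫ (DCoh.Lpull (f ∣_ V)).map α ≫ θ.inv,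
    isStrictlyPerfect_pullC (f ∣_ V) P hP, hα'.1, hα'.2⟩

end pseudo

end Groth.Agent.Lib.Helper1.Sky
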