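import Mathlib
import Groth.Agent.Lib.Helper1SPL2
import Groth.Agent.Lib.Helper1Sky11
set_option backward.isDefEq.respectTransparency.types false

/-!
# Local lifting through quasi-isomorphisms from strictly perfect complexes (helper1)

* `propM_Q_map_of_homologyMap`: translation of the hypotheses on `homologyMap`
* `exists_lift_homotopy`: S0933 for a general open immersion
* `exists_opens_lift_homotopy`: S0933
-/

set_option autoImplicit false
set_option linter.style.haveILetI false
universe u v w u'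
open CategoryTheory CategoryTheory.Limits AlgebraicGeometry HomologicalComplex

attribute [local instance] HasDerivedCategory.standard

namespace Groth.Agent.Lib.Helper1.SPL

open Groth.Agent.Lib.Helper1.Sky

section abstract

variable {A : Type u'} [Category.{v} A] [Abelian A] [HasDerivedCategory.{w} A]

lemma propM_Q_map_of_homologyMap {K K' : CochainComplex A ℤ} (b : K ⟶ K') (m : ℤ)
    (h1 : ∀ i : ℤ, m < i → IsIso (HomologicalComplex.homologyMap b i))
    (h2 : Epi (HomologicalComplex.homologyMap b m)) : PropM m (DerivedCategory.Q.map b) := by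
  refine ⟨fun i hi => ?_, ?_⟩
  · exact (NatIso.isIso_map_iff (DerivedCategory.homologyFunctorFactors A i) b).2 (h1 i hi)
  · have e : Arrow.mk ((DerivedCategory.homologyFunctor A m).map (DerivedCategory.Q.map b)) ≅
        Arrow.mk (HomologicalComplex.homologyMap b m) :=
      Arrow.isoMk ((DerivedCategory.homologyFunctorFactors A m).app K)
        ((DerivedCategory.homologyFunctorFactors A m).app K')
        ((DerivedCategory.homologyFunctorFactors A m).hom.naturality b).symm
    exact ((MorphismProperty.epimorphisms A).arrow_mk_iso_iff e).2 h2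

end abstract

variable {X : Scheme.{u}}

/-- S0933 for a general open immersion (hypothesis on the cone) -/
theorem exists_lift_homotopy_of_cone {E F G : CochainComplex X.Modules ℤ} (α : E ⟶ F) (f : G ⟶ F)
    (hE : DCoh.IsStrictlyPerfect E) (a : ℤ) (hEa : ∀ i, i < a → IsZero (E.X i))
    (hcone : ∀ i, a ≤ i → IsZero ((CochainComplex.mappingCone f).homology i)) (x : X) :
    ∃ (U : Scheme.{u}) (j : U ⟶ X) (_ : IsOpenImmersion j), x ∈ j.opensRange ∧
      ∃ β : (resC j).obj E ⟶ (resC j).obj G,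
        Nonempty (Homotopy (β ≫ (resC j).map f) ((resC j).map α)) := by
  obtain ⟨U, j, hj, hx, ⟨H⟩⟩ := exists_homotopy_zero (α ≫ CochainComplex.mappingCone.inr f) hE a
    hEa hcone x
  haveI := hj
  refine ⟨U, j, hj, hx, ?_⟩
  let Fh := (Scheme.Modules.restrictFunctor j).mapHomotopyCategory (ComplexShape.up ℤ)
  let qX := HomotopyCategory.quotient X.Modules (ComplexShape.up ℤ)
  let qU := HomotopyCategory.quotient U.Modules (ComplexShape.up ℤ)
  let φ : qX ⋙ Fh ≅ resC j ⋙ qU :=
    (Scheme.Modules.restrictFunctor j).mapHomotopyCategoryFactors (ComplexShape.up ℤ)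
  have hT := HomotopyCategory.mappingCone_triangleh_distinguished f
  have hT' := Fh.map_distinguished _ hT
  have hnat : ∀ {K L : CochainComplex X.Modules ℤ} (g : K ⟶ L),
      Fh.map (qX.map g) = φ.hom.app K ≫ qU.map ((resC j).map g) ≫ φ.inv.app L := by
    intro K L g
    have h := φ.hom.naturality g
    rw [← Category.assoc]
    exact ((Iso.comp_inv_eq _).2 h.symm).symm
  have h0 : Fh.map (qX.map α) ≫ (Fh.mapTriangle.obj (CochainComplex.mappingCone.triangleh f)).mor₂
      = 0 := by
    change Fh.map (qX.map α) ≫ Fh.map (qX.map (CochainComplex.mappingCone.inr f)) = 0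
    rw [← Fh.map_comp, ← qX.map_comp, hnat,
      HomotopyCategory.eq_of_homotopy _ _ H]
    simp
  obtain ⟨b, hb'⟩ : ∃ b : Fh.obj (qX.obj E) ⟶ Fh.obj (qX.obj G),
      Fh.map (qX.map α) = b ≫ Fh.map (qX.map f) :=
    Pretriangulated.Triangle.coyoneda_exact₂ _ hT' (Fh.map (qX.map α)) h0
  let b' : qU.obj ((resC j).obj E) ⟶ qU.obj ((resC j).obj G) :=
    φ.inv.app E ≫ b ≫ φ.hom.app G
  refine ⟨qU.preimage b', ⟨HomotopyCategory.homotopyOfEq _ _ ?_⟩⟩
  rw [qU.map_comp, qU.map_preimage]
  have h1 : φ.hom.app G ≫ qU.map ((resC j).map f) = Fh.map (qX.map f) ≫ φ.hom.app F :=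
    (φ.hom.naturality f).symm
  have h2 : Fh.map (qX.map α) ≫ φ.hom.app F = φ.hom.app E ≫ qU.map ((resC j).map α) :=
    φ.hom.naturality α
  change (φ.inv.app E ≫ b ≫ φ.hom.app G) ≫ qU.map ((resC j).map f) = _
  rw [Category.assoc, Category.assoc, h1, ← Category.assoc b, ← hb', h2, Iso.inv_hom_id_app_assoc]

/-- S0933 for a general open immersion -/
theorem exists_lift_homotopy {E F G : CochainComplex X.Modules ℤ} (α : E ⟶ F) (f : G ⟶ F)
    (hE : DCoh.IsStrictlyPerfect E) (a : ℤ) (hEa : ∀ i, i < a → IsZero (E.X i))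
    (hf : ∀ i : ℤ, a < i → IsIso (HomologicalComplex.homologyMap f i))
    (hfa : Epi (HomologicalComplex.homologyMap f a)) (x : X) :
    ∃ (U : Scheme.{u}) (j : U ⟶ X) (_ : IsOpenImmersion j), x ∈ j.opensRange ∧
      ∃ β : (resC j).obj E ⟶ (resC j).obj G,
        Nonempty (Homotopy (β ≫ (resC j).map f) ((resC j).map α)) :=
  exists_lift_homotopy_of_cone α f hE a hEa
    ((propM_Q_map_iff a f).1 (propM_Q_map_of_homologyMap f a hf hfa)) x


/-- transitivity for liftings up to homotopy -/
lemma exists_lift_of_eq_comp {U U' : Scheme.{u}} (j : U ⟶ X) (j' : U' ⟶ X) (i : U' ⟶ U)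
    [IsOpenImmersion j] [IsOpenImmersion j'] [IsOpenImmersion i] (hi : i ≫ j = j')
    {E F G : CochainComplex X.Modules ℤ} (α : E ⟶ F) (f : G ⟶ F)
    (β : (resC j).obj E ⟶ (resC j).obj G)
    (H : Homotopy (β ≫ (resC j).map f) ((resC j).map α)) :
    ∃ β' : (resC j').obj E ⟶ (resC j').obj G,
      Nonempty (Homotopy (β' ≫ (resC j').map f) ((resC j').map α)) := by
  subst hi
  let τ := resCComp i j
  refine ⟨τ.hom.app E ≫ (resC i).map β ≫ τ.inv.app G, ⟨?_⟩⟩
  have h1 : τ.inv.app G ≫ (resC (i ≫ j)).map f = (resC i).map ((resC j).map f) ≫ τ.inv.app F :=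
    (τ.inv.naturality f).symm
  have e1 : (τ.hom.app E ≫ (resC i).map β ≫ τ.inv.app G) ≫ (resC (i ≫ j)).map f =
      τ.hom.app E ≫ (resC i).map (β ≫ (resC j).map f) ≫ τ.inv.app F := by
    rw [Category.assoc, Category.assoc, h1, Functor.map_comp, Category.assoc]
  have e2 : (resC (i ≫ j)).map α = τ.hom.app E ≫ (resC i).map ((resC j).map α) ≫ τ.inv.app F :=
    resC_comp_map i j α
  exact (Homotopy.ofEq e1).trans
    (((((Scheme.Modules.restrictFunctor i).mapHomotopy H).compRight (τ.inv.app F)).compLeft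
      (τ.hom.app E)).trans (Homotopy.ofEq e2.symm))

/-- S0933 -/
theorem exists_opens_lift_homotopy {E F G : CochainComplex X.Modules ℤ} (α : E ⟶ F) (f : G ⟶ F)
    (hE : DCoh.IsStrictlyPerfect E) (a : ℤ) (hEa : ∀ i, i < a → IsZero (E.X i))
    (hf : ∀ i : ℤ, a < i → IsIso (HomologicalComplex.homologyMap f i))
    (hfa : Epi (HomologicalComplex.homologyMap f a)) (x : X) :
    ∃ (V : X.Opens) (β : (DCoh.restrictCx V).obj E ⟶ (DCoh.restrictCx V).obj G), x ∈ V ∧
      Nonempty (Homotopy (β ≫ (DCoh.restrictCx V).map f) ((DCoh.restrictCx V).map α)) := by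
  obtain ⟨U, j, hj, hx, β, ⟨H⟩⟩ := exists_lift_homotopy α f hE a hEa hf hfa x
  haveI := hj
  obtain ⟨β', hβ'⟩ := exists_lift_of_eq_comp j j.opensRange.ι j.isoOpensRange.inv (by simp) α f β H
  exact ⟨j.opensRange, β', hx, hβ'⟩

end Groth.Agent.Lib.Helper1.SPL
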