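import Mathlib
import Groth.Agent.Lib.Helper1SPL3
set_option backward.isDefEq.respectTransparency.types false

/-!
# Derived restriction along open immersions and local presentations of perfect objects (helper1)

* `resD j`, `facD j`, `resDComp j' j : resD (j' ≫ j) ≅ resD j ⋙ resD j'`
* `isStrictlyPerfect_resC`
* `HasPres K x`: `K` is, near `x`, the class of a strictly perfect complex
* `isPerfect_iff_hasPres`
-/

set_option autoImplicit false
set_option linter.style.haveILetI false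
universe u
open CategoryTheory CategoryTheory.Limits AlgebraicGeometry HomologicalComplex

attribute [local instance] HasDerivedCategory.standard

namespace Groth.Agent.Lib.Helper1.SPL

variable {X : Scheme.{u}}

/-- derived restriction along an open immersion -/
noncomputable abbrev resD {U : Scheme.{u}} (j : U ⟶ X) [IsOpenImmersion j] :
    DCoh.D X ⥤ DCoh.D U :=
  (Scheme.Modules.restrictFunctor j).mapDerivedCategory

/-- `Q ⋙ resD j ≅ resC j ⋙ Q` -/
noncomputable abbrev facD {U : Scheme.{u}} (j : U ⟶ X) [IsOpenImmersion j] :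
    DerivedCategory.Q ⋙ resD j ≅ resC j ⋙ DerivedCategory.Q :=
  (Scheme.Modules.restrictFunctor j).mapDerivedCategoryFactors

/-- transitivity of derived restriction -/
noncomputable def resDComp {U U' : Scheme.{u}} (j' : U' ⟶ U) (j : U ⟶ X) [IsOpenImmersion j']
    [IsOpenImmersion j] : resD (j' ≫ j) ≅ resD j ⋙ resD j' :=
  letI : Localization.Lifting DerivedCategory.Q
      (HomologicalComplex.quasiIso X.Modules (ComplexShape.up ℤ))
      ((resC j ⋙ resC j') ⋙ DerivedCategory.Q) (resD j ⋙ resD j') :=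
    ⟨(Functor.associator _ _ _).symm ≪≫ Functor.isoWhiskerRight (facD j) (resD j') ≪≫
      Functor.associator _ _ _ ≪≫ Functor.isoWhiskerLeft (resC j) (facD j') ≪≫
      (Functor.associator _ _ _).symm⟩
  Localization.liftNatIso DerivedCategory.Q
    (HomologicalComplex.quasiIso X.Modules (ComplexShape.up ℤ))
    (resC (j' ≫ j) ⋙ DerivedCategory.Q) ((resC j ⋙ resC j') ⋙ DerivedCategory.Q) _ _
    (Functor.isoWhiskerRight (resCComp j' j) DerivedCategory.Q)

lemma nonempty_resD_congr {U : Scheme.{u}} {j j' : U ⟶ X} [IsOpenImmersion j] [IsOpenImmersion j']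
    (h : j = j') : Nonempty (resD j ≅ resD j') := by
  subst h
  exact ⟨Iso.refl _⟩

/-- restriction preserves strictly perfect complexes -/
lemma isStrictlyPerfect_resC {U : Scheme.{u}} (j : U ⟶ X) [IsOpenImmersion j]
    (E : CochainComplex X.Modules ℤ) (hE : DCoh.IsStrictlyPerfect E) :
    DCoh.IsStrictlyPerfect ((resC j).obj E) := by
  obtain ⟨⟨a, b, hv⟩, hfl⟩ := hE
  exact ⟨⟨a, b, fun i hi => (Scheme.Modules.restrictFunctor j).map_isZero (hv i hi)⟩,
    fun i => isFinLocFree_restrict j _ (hfl i)⟩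

/-- `K` is locally at `x` the class of a strictly perfect complex -/
def HasPres (K : DCoh.D X) (x : X) : Prop :=
  ∃ (U : Scheme.{u}) (j : U ⟶ X) (_ : IsOpenImmersion j), x ∈ j.opensRange ∧
    ∃ E : CochainComplex U.Modules ℤ, DCoh.IsStrictlyPerfect E ∧
      Nonempty ((resD j).obj K ≅ DerivedCategory.Q.obj E)

/-- restricting a presentation further -/
lemma nonempty_pres_comp {U U' : Scheme.{u}} (j : U ⟶ X) (j' : U' ⟶ X) (i : U' ⟶ U)
    [IsOpenImmersion j] [IsOpenImmersion j'] [IsOpenImmersion i] (hi : i ≫ j = j')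
    (K : DCoh.D X) (E : CochainComplex U.Modules ℤ)
    (e : (resD j).obj K ≅ DerivedCategory.Q.obj E) :
    Nonempty ((resD j').obj K ≅ DerivedCategory.Q.obj ((resC i).obj E)) := by
  subst hi
  exact ⟨(resDComp i j).app K ≪≫ (resD i).mapIso e ≪≫ (facD i).app E⟩

lemma HasPres.of_iso {K K' : DCoh.D X} (e : K ≅ K') {x : X} (h : HasPres K x) : HasPres K' x := by
  obtain ⟨U, j, hj, hx, E, hE, ⟨a⟩⟩ := h
  exact ⟨U, j, hj, hx, E, hE, ⟨(resD j).mapIso e.symm ≪≫ a⟩⟩

/-- a presentation can be taken on an open subset -/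
lemma HasPres.exists_opens {K : DCoh.D X} {x : X} (h : HasPres K x) :
    ∃ V : X.Opens, x ∈ V ∧ ∃ E : CochainComplex (V : Scheme.{u}).Modules ℤ,
      DCoh.IsStrictlyPerfect E ∧ Nonempty ((resD V.ι).obj K ≅ DerivedCategory.Q.obj E) := by
  obtain ⟨U, j, hj, hx, E, hE, ⟨a⟩⟩ := h
  haveI := hj
  obtain ⟨b⟩ := nonempty_pres_comp j j.opensRange.ι j.isoOpensRange.inv (by simp) K E a
  exact ⟨j.opensRange, hx, _, isStrictlyPerfect_resC _ E hE, ⟨b⟩⟩

theorem isPerfect_iff_hasPres (K : DCoh.D X) : DCoh.IsPerfect K ↔ ∀ x : X, HasPres K x := by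
  constructor
  · intro h x
    obtain ⟨V, hxV, hV⟩ := h x
    let F₀ : CochainComplex X.Modules ℤ := DerivedCategory.Q.objPreimage K
    let e₀ : DCoh.toD X F₀ ≅ K := DerivedCategory.Q.objObjPreimageIso K
    obtain ⟨E, hE, ⟨eE⟩⟩ := hV F₀ ⟨e₀⟩
    refine ⟨V, V.ι, inferInstance, by simpa using hxV, E, hE, ⟨?_⟩⟩
    exact (resD V.ι).mapIso e₀.symm ≪≫ (facD V.ι).app F₀ ≪≫ eE
  · intro h x
    obtain ⟨V, hxV, E, hE, ⟨a⟩⟩ := (h x).exists_opens
    refine ⟨V, hxV, fun F ⟨eF⟩ => ⟨E, hE, ⟨?_⟩⟩⟩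
    exact ((facD V.ι).app F).symm ≪≫ (resD V.ι).mapIso eF ≪≫ a

end Groth.Agent.Lib.Helper1.SPL
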