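import Mathlib
import Groth.Agent.Lib.Helper1SPL4
import Groth.Agent.S6516
set_option backward.isDefEq.respectTransparency.types false

/-!
# Two out of three for perfect objects (helper1)

* `exists_opens_chain_map`: S0944
* `hasPres_obj₃`: the cone of a map between locally strictly perfect objects is locally strictly
  perfect
* `hasPres_shift`
* `isPerfect_two_out_of_three`
-/

set_option autoImplicit false
set_option linter.style.haveILetI false
universe u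
open CategoryTheory CategoryTheory.Limits AlgebraicGeometry HomologicalComplex Pretriangulated

attribute [local instance] HasDerivedCategory.standard

namespace Groth.Agent.Lib.Helper1.SPL

variable {X : Scheme.{u}}

/-- S0944 -/
theorem exists_opens_chain_map {E F : CochainComplex X.Modules ℤ}
    (hE : DCoh.IsStrictlyPerfect E) (α : DerivedCategory.Q.obj E ⟶ DerivedCategory.Q.obj F) (x : X) :
    ∃ V : X.Opens, x ∈ V ∧ ∃ β : (resC V.ι).obj E ⟶ (resC V.ι).obj F,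
      (resD V.ι).map α =
        (facD V.ι).hom.app E ≫ DerivedCategory.Q.map β ≫ (facD V.ι).inv.app F := by
  obtain ⟨F', g, s, hs, rfl⟩ := DerivedCategory.left_fac α
  obtain ⟨⟨a, b, hv⟩, hfl⟩ := id hE
  have hqis : QuasiIso s := (DerivedCategory.isIso_Q_map_iff_quasiIso _ s).1 hs
  have hiso : ∀ i : ℤ, IsIso (HomologicalComplex.homologyMap s i) := fun i => by
    rw [← quasiIsoAt_iff_isIso_homologyMap]
    infer_instance
  obtain ⟨V, β, hxV, ⟨H⟩⟩ := exists_opens_lift_homotopy g s hE a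
    (fun i hi => hv i (Or.inl hi)) (fun i _ => hiso i) (by haveI := hiso a; infer_instance) x
  refine ⟨V, hxV, β, ?_⟩
  let fac := facD V.ι
  haveI : IsIso ((resD V.ι).map (DerivedCategory.Q.map s)) := inferInstance
  rw [← cancel_mono ((resD V.ι).map (DerivedCategory.Q.map s)), ← Functor.map_comp,
    Category.assoc, IsIso.inv_hom_id, Category.comp_id]
  have h1 : fac.inv.app F ≫ (resD V.ι).map (DerivedCategory.Q.map s) =
      DerivedCategory.Q.map ((resC V.ι).map s) ≫ fac.inv.app F' :=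
    (fac.inv.naturality s).symm
  have h2 : (resD V.ι).map (DerivedCategory.Q.map g) ≫ fac.hom.app F' =
      fac.hom.app E ≫ DerivedCategory.Q.map ((resC V.ι).map g) := fac.hom.naturality g
  have h3 : DerivedCategory.Q.map β ≫ DerivedCategory.Q.map ((resC V.ι).map s) =
      DerivedCategory.Q.map ((resC V.ι).map g) := by
    rw [← Functor.map_comp]
    exact DerivedCategory.Q_map_eq_of_homotopy _ H
  change _ = (fac.hom.app E ≫ DerivedCategory.Q.map β ≫ fac.inv.app F) ≫ _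
  rw [Category.assoc, Category.assoc, h1, reassoc_of% h3, ← reassoc_of% h2, Iso.hom_inv_id_app]
  exact (Category.comp_id _).symm

/-- the third vertex of a distinguished triangle whose first two vertices are locally strictly
perfect is locally strictly perfect -/
theorem hasPres_obj₃ (T : Triangle (DCoh.D X)) (hT : T ∈ distTriang _) (x : X)
    (h₁ : HasPres T.obj₁ x) (h₂ : HasPres T.obj₂ x) : HasPres T.obj₃ x := by
  obtain ⟨V₁, hx₁, E₁, hE₁, ⟨e₁⟩⟩ := h₁.exists_opens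
  obtain ⟨V₂, hx₂, E₂, hE₂, ⟨e₂⟩⟩ := h₂.exists_opens
  let W : X.Opens := V₁ ⊓ V₂
  let i₁ : (W : Scheme.{u}) ⟶ V₁ := X.homOfLE inf_le_left
  let i₂ : (W : Scheme.{u}) ⟶ V₂ := X.homOfLE inf_le_right
  obtain ⟨a₁⟩ := nonempty_pres_comp V₁.ι W.ι i₁ (X.homOfLE_ι _) T.obj₁ E₁ e₁
  obtain ⟨a₂⟩ := nonempty_pres_comp V₂.ι W.ι i₂ (X.homOfLE_ι _) T.obj₂ E₂ e₂
  have hE₁' := isStrictlyPerfect_resC i₁ E₁ hE₁
  have hE₂' := isStrictlyPerfect_resC i₂ E₂ hE₂
  let α : DerivedCategory.Q.obj ((resC i₁).obj E₁) ⟶ DerivedCategory.Q.obj ((resC i₂).obj E₂) :=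
    a₁.inv ≫ (resD W.ι).map T.mor₁ ≫ a₂.hom
  obtain ⟨V', hxV', β, hβ⟩ := exists_opens_chain_map hE₁' α (⟨x, ⟨hx₁, hx₂⟩⟩ : (W : Scheme.{u}))
  -- the restricted triangle
  let j₃ : (V' : Scheme.{u}) ⟶ X := V'.ι ≫ W.ι
  let Θ := resDComp V'.ι W.ι
  let b₁ : (resD j₃).obj T.obj₁ ≅ DerivedCategory.Q.obj ((resC V'.ι).obj ((resC i₁).obj E₁)) :=
    Θ.app T.obj₁ ≪≫ (resD V'.ι).mapIso a₁ ≪≫ (facD V'.ι).app _
  let b₂ : (resD j₃).obj T.obj₂ ≅ DerivedCategory.Q.obj ((resC V'.ι).obj ((resC i₂).obj E₂)) :=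
    Θ.app T.obj₂ ≪≫ (resD V'.ι).mapIso a₂ ≪≫ (facD V'.ι).app _
  have hT₁ : (resD j₃).mapTriangle.obj T ∈ distTriang _ := (resD j₃).map_distinguished T hT
  have hT₂ := DerivedCategory.mappingCone_triangle_distinguished β
  have comm : ((resD j₃).mapTriangle.obj T).mor₁ ≫ b₂.hom =
      b₁.hom ≫ (DerivedCategory.Q.mapTriangle.obj (CochainComplex.mappingCone.triangle β)).mor₁ := by
    change (resD j₃).map T.mor₁ ≫ Θ.hom.app T.obj₂ ≫ (resD V'.ι).map a₂.hom ≫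
        (facD V'.ι).hom.app _ =
      (Θ.hom.app T.obj₁ ≫ (resD V'.ι).map a₁.hom ≫ (facD V'.ι).hom.app _) ≫
        DerivedCategory.Q.map β
    have n1 : (resD j₃).map T.mor₁ ≫ Θ.hom.app T.obj₂ =
        Θ.hom.app T.obj₁ ≫ (resD V'.ι).map ((resD W.ι).map T.mor₁) := Θ.hom.naturality T.mor₁
    have n2 : (resD W.ι).map T.mor₁ ≫ a₂.hom = a₁.hom ≫ α := by
      change _ = a₁.hom ≫ a₁.inv ≫ (resD W.ι).map T.mor₁ ≫ a₂.hom
      rw [Iso.hom_inv_id_assoc]
    rw [reassoc_of% n1, ← Functor.map_comp_assoc, n2, Functor.map_comp_assoc, hβ]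
    simp only [Category.assoc, Iso.inv_hom_id_app]
    erw [Category.comp_id]
  let e := isoTriangleOfIso₁₂ _ _ hT₁ hT₂ b₁ b₂ comm
  have e₃ : (resD j₃).obj T.obj₃ ≅ DerivedCategory.Q.obj (CochainComplex.mappingCone β) :=
    Triangle.π₃.mapIso e
  refine ⟨V', j₃, inferInstance, ⟨⟨⟨x, ⟨hx₁, hx₂⟩⟩, hxV'⟩, rfl⟩, CochainComplex.mappingCone β,
    Groth.Agent.S6516.result β (isStrictlyPerfect_resC _ _ hE₁') (isStrictlyPerfect_resC _ _ hE₂'),
    ⟨e₃⟩⟩


/-- shifts of strictly perfect complexes are strictly perfect -/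
lemma isStrictlyPerfect_shift (E : CochainComplex X.Modules ℤ) (n : ℤ)
    (hE : DCoh.IsStrictlyPerfect E) : DCoh.IsStrictlyPerfect (E⟦n⟧) := by
  obtain ⟨⟨a, b, hv⟩, hfl⟩ := hE
  refine ⟨⟨a - n, b - n, fun i hi => ?_⟩, fun i => ?_⟩
  · exact hv (i + n) (by omega)
  · exact hfl (i + n)

lemma hasPres_shift (K : DCoh.D X) (n : ℤ) (x : X) (h : HasPres K x) : HasPres (K⟦n⟧) x := by
  obtain ⟨U, j, hj, hx, E, hE, ⟨a⟩⟩ := h
  haveI := hj
  refine ⟨U, j, hj, hx, E⟦n⟧, isStrictlyPerfect_shift E n hE, ⟨?_⟩⟩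
  exact ((resD j).commShiftIso n).app K ≪≫ (shiftFunctor _ n).mapIso a ≪≫
    ((DerivedCategory.Q.commShiftIso n).app E).symm

/-- S0887 -/
theorem isPerfect_two_out_of_three (T : Triangle (DCoh.D X)) (hT : T ∈ distTriang _) :
    (DCoh.IsPerfect T.obj₁ → DCoh.IsPerfect T.obj₂ → DCoh.IsPerfect T.obj₃) ∧
    (DCoh.IsPerfect T.obj₁ → DCoh.IsPerfect T.obj₃ → DCoh.IsPerfect T.obj₂) ∧
    (DCoh.IsPerfect T.obj₂ → DCoh.IsPerfect T.obj₃ → DCoh.IsPerfect T.obj₁) := by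
  simp only [isPerfect_iff_hasPres]
  refine ⟨fun h₁ h₂ x => hasPres_obj₃ T hT x (h₁ x) (h₂ x), fun h₁ h₃ x => ?_, fun h₂ h₃ x => ?_⟩
  · exact hasPres_obj₃ T.invRotate (inv_rot_of_distTriang _ hT) x
      (hasPres_shift T.obj₃ (-1) x (h₃ x)) (h₁ x)
  · have h := hasPres_obj₃ T.rotate (rot_of_distTriang _ hT) x (h₂ x) (h₃ x)
    have h' := hasPres_shift _ (-1) x h
    exact h'.of_iso ((shiftFunctorCompIsoId (DCoh.D X) (1 : ℤ) (-1) (by norm_num)).app T.obj₁)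

end Groth.Agent.Lib.Helper1.SPL
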