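import Mathlib
import Groth.Agent.Lib.Helper1SPL5
set_option backward.isDefEq.respectTransparency.types false

/-!
# PropM calculus: composition, four lemma for morphisms of triangles (helper1)
-/

set_option autoImplicit false
set_option linter.style.haveILetI false
universe w v u u'
open CategoryTheory CategoryTheory.Limits Pretriangulated

namespace Groth.Agent.Lib.Helper1.SPL

open Groth.Agent.Lib.Helper1.Sky

section abstract

variable {A : Type u'} [Category.{v} A] [Abelian A] [HasDerivedCategory.{w} A]

lemma propM_of_isIso (m : ℤ) {K L : DerivedCategory A} (α : K ⟶ L) [IsIso α] : PropM m α :=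
  ⟨fun _ _ => inferInstance, inferInstance⟩

lemma propM_comp (m : ℤ) {K L M : DerivedCategory A} {α : K ⟶ L} {β : L ⟶ M}
    (hα : PropM m α) (hβ : PropM m β) : PropM m (α ≫ β) := by
  refine ⟨fun i hi => ?_, ?_⟩
  · haveI := hα.1 i hi
    haveI := hβ.1 i hi
    rw [Functor.map_comp]
    infer_instance
  · haveI := hα.2
    haveI := hβ.2
    rw [Functor.map_comp]
    infer_instance

lemma propM_succ (m : ℤ) {K L : DerivedCategory A} {α : K ⟶ L} (hα : PropM m α) :
    PropM (m + 1) α := by
  refine ⟨fun i hi => hα.1 i (by omega), ?_⟩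
  haveI := hα.1 (m + 1) (by omega)
  infer_instance

lemma propM_of_le {m n : ℤ} (hmn : m ≤ n) {K L : DerivedCategory A} {α : K ⟶ L}
    (hα : PropM m α) : PropM n α := by
  obtain ⟨k, rfl⟩ : ∃ k : ℕ, n = m + k := ⟨(n - m).toNat, by omega⟩
  clear hmn
  induction k with
  | zero => simpa using hα
  | succ k ih =>
    have := propM_succ _ ih
    convert this using 1
    push_cast
    ring

/-- the "four lemma" for `PropM`: the third component of a morphism of distinguished triangles -/
theorem propM_hom₃ (m : ℤ) (T₁ T₂ : Triangle (DerivedCategory A)) (hT₁ : T₁ ∈ distTriang _)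
    (hT₂ : T₂ ∈ distTriang _) (φ : T₁ ⟶ T₂) (h₁ : PropM (m + 1) φ.hom₁) (h₂ : PropM m φ.hom₂) :
    PropM m φ.hom₃ := by
  have hepi : ∀ i : ℤ, m ≤ i → Epi ((DerivedCategory.homologyFunctor A i).map φ.hom₃) := by
    intro i hi
    let R₁ : ComposableArrows A 3 := ComposableArrows.mk₃
      ((DerivedCategory.homologyFunctor A i).map T₁.mor₂)
      (DerivedCategory.HomologySequence.δ T₁ i (i + 1) rfl)
      ((DerivedCategory.homologyFunctor A (i + 1)).map T₁.mor₁)
    let R₂ : ComposableArrows A 3 := ComposableArrows.mk₃
      ((DerivedCategory.homologyFunctor A i).map T₂.mor₂)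
      (DerivedCategory.HomologySequence.δ T₂ i (i + 1) rfl)
      ((DerivedCategory.homologyFunctor A (i + 1)).map T₂.mor₁)
    have hR₁ : R₁.Exact := ComposableArrows.exact_of_δ₀
      (DerivedCategory.HomologySequence.exact₃ T₁ hT₁ i (i + 1) rfl).exact_toComposableArrows
      (DerivedCategory.HomologySequence.exact₁ T₁ hT₁ i (i + 1) rfl).exact_toComposableArrows
    have hR₂ : R₂.Exact := ComposableArrows.exact_of_δ₀
      (DerivedCategory.HomologySequence.exact₃ T₂ hT₂ i (i + 1) rfl).exact_toComposableArrows
      (DerivedCategory.HomologySequence.exact₁ T₂ hT₂ i (i + 1) rfl).exact_toComposableArrows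
    have w₀ : (DerivedCategory.homologyFunctor A i).map T₁.mor₂ ≫
        (DerivedCategory.homologyFunctor A i).map φ.hom₃ =
        (DerivedCategory.homologyFunctor A i).map φ.hom₂ ≫
          (DerivedCategory.homologyFunctor A i).map T₂.mor₂ := by
      rw [← Functor.map_comp, ← Functor.map_comp, φ.comm₂]
    have w₁ : DerivedCategory.HomologySequence.δ T₁ i (i + 1) rfl ≫
        (DerivedCategory.homologyFunctor A (i + 1)).map φ.hom₁ =
        (DerivedCategory.homologyFunctor A i).map φ.hom₃ ≫
          DerivedCategory.HomologySequence.δ T₂ i (i + 1) rfl :=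
      ((DerivedCategory.homologyFunctor A 0).homologySequenceδ_naturality T₁ T₂ φ i (i + 1)
        rfl).symm
    have w₂ : (DerivedCategory.homologyFunctor A (i + 1)).map T₁.mor₁ ≫
        (DerivedCategory.homologyFunctor A (i + 1)).map φ.hom₂ =
        (DerivedCategory.homologyFunctor A (i + 1)).map φ.hom₁ ≫
          (DerivedCategory.homologyFunctor A (i + 1)).map T₂.mor₁ := by
      rw [← Functor.map_comp, ← Functor.map_comp, φ.comm₁]
    let Φ : R₁ ⟶ R₂ := ComposableArrows.homMk₃
      ((DerivedCategory.homologyFunctor A i).map φ.hom₂)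
      ((DerivedCategory.homologyFunctor A i).map φ.hom₃)
      ((DerivedCategory.homologyFunctor A (i + 1)).map φ.hom₁)
      ((DerivedCategory.homologyFunctor A (i + 1)).map φ.hom₂) w₀ w₁ w₂
    have h0 : Epi ((DerivedCategory.homologyFunctor A i).map φ.hom₂) := by
      obtain rfl | hi' := eq_or_lt_of_le hi
      · exact h₂.2
      · haveI := h₂.1 i hi'
        infer_instance
    have h2 : Epi ((DerivedCategory.homologyFunctor A (i + 1)).map φ.hom₁) := by
      obtain rfl | hi' := eq_or_lt_of_le hi
      · exact h₁.2
      · haveI := h₁.1 (i + 1) (by omega)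
        infer_instance
    have h3 : Mono ((DerivedCategory.homologyFunctor A (i + 1)).map φ.hom₂) := by
      haveI := h₂.1 (i + 1) (by omega)
      infer_instance
    exact Abelian.epi_of_epi_of_epi_of_mono Φ hR₁ hR₂ h0 h2 h3
  have hmono : ∀ i : ℤ, m < i → Mono ((DerivedCategory.homologyFunctor A i).map φ.hom₃) := by
    intro i hi
    let R₁ : ComposableArrows A 3 := ComposableArrows.mk₃
      ((DerivedCategory.homologyFunctor A i).map T₁.mor₁)
      ((DerivedCategory.homologyFunctor A i).map T₁.mor₂)
      (DerivedCategory.HomologySequence.δ T₁ i (i + 1) rfl)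
    let R₂ : ComposableArrows A 3 := ComposableArrows.mk₃
      ((DerivedCategory.homologyFunctor A i).map T₂.mor₁)
      ((DerivedCategory.homologyFunctor A i).map T₂.mor₂)
      (DerivedCategory.HomologySequence.δ T₂ i (i + 1) rfl)
    have hR₁ : R₁.Exact := ComposableArrows.exact_of_δ₀
      (DerivedCategory.HomologySequence.exact₂ T₁ hT₁ i).exact_toComposableArrows
      (DerivedCategory.HomologySequence.exact₃ T₁ hT₁ i (i + 1) rfl).exact_toComposableArrows
    have hR₂ : R₂.Exact := ComposableArrows.exact_of_δ₀
      (DerivedCategory.HomologySequence.exact₂ T₂ hT₂ i).exact_toComposableArrows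
      (DerivedCategory.HomologySequence.exact₃ T₂ hT₂ i (i + 1) rfl).exact_toComposableArrows
    have w₀ : (DerivedCategory.homologyFunctor A i).map T₁.mor₁ ≫
        (DerivedCategory.homologyFunctor A i).map φ.hom₂ =
        (DerivedCategory.homologyFunctor A i).map φ.hom₁ ≫
          (DerivedCategory.homologyFunctor A i).map T₂.mor₁ := by
      rw [← Functor.map_comp, ← Functor.map_comp, φ.comm₁]
    have w₁ : (DerivedCategory.homologyFunctor A i).map T₁.mor₂ ≫
        (DerivedCategory.homologyFunctor A i).map φ.hom₃ =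
        (DerivedCategory.homologyFunctor A i).map φ.hom₂ ≫
          (DerivedCategory.homologyFunctor A i).map T₂.mor₂ := by
      rw [← Functor.map_comp, ← Functor.map_comp, φ.comm₂]
    have w₂ : DerivedCategory.HomologySequence.δ T₁ i (i + 1) rfl ≫
        (DerivedCategory.homologyFunctor A (i + 1)).map φ.hom₁ =
        (DerivedCategory.homologyFunctor A i).map φ.hom₃ ≫
          DerivedCategory.HomologySequence.δ T₂ i (i + 1) rfl :=
      ((DerivedCategory.homologyFunctor A 0).homologySequenceδ_naturality T₁ T₂ φ i (i + 1)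
        rfl).symm
    let Φ : R₁ ⟶ R₂ := ComposableArrows.homMk₃
      ((DerivedCategory.homologyFunctor A i).map φ.hom₁)
      ((DerivedCategory.homologyFunctor A i).map φ.hom₂)
      ((DerivedCategory.homologyFunctor A i).map φ.hom₃)
      ((DerivedCategory.homologyFunctor A (i + 1)).map φ.hom₁) w₀ w₁ w₂
    have h0 : Epi ((DerivedCategory.homologyFunctor A i).map φ.hom₁) := by
      obtain hi' | hi' := eq_or_lt_of_le (show m + 1 ≤ i by omega)
      · subst hi'
        exact h₁.2
      · haveI := h₁.1 i hi'
        infer_instance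
    have h1 : Mono ((DerivedCategory.homologyFunctor A i).map φ.hom₂) := by
      haveI := h₂.1 i hi
      infer_instance
    have h3 : Mono ((DerivedCategory.homologyFunctor A (i + 1)).map φ.hom₁) := by
      haveI := h₁.1 (i + 1) (by omega)
      infer_instance
    exact Abelian.mono_of_epi_of_mono_of_mono Φ hR₁ hR₂ h0 h1 h3
  refine ⟨fun i hi => ?_, hepi m le_rfl⟩
  haveI := hepi i hi.le
  haveI := hmono i hi
  exact isIso_of_mono_of_epi _

end abstract

end Groth.Agent.Lib.Helper1.SPL
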