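import Mathlib
set_option backward.isDefEq.respectTransparency.types false

/-!
# Brutal truncation `σ_{≥ a}` of a cochain complex, as a subcomplex (helper1)
-/

set_option autoImplicit false
set_option linter.style.haveILetI false
universe v u'
open CategoryTheory CategoryTheory.Limits
open scoped ZeroObject

namespace Groth.Agent.Lib.Helper1.SPL

section trunc

variable {A : Type u'} [Category.{v} A] [Preadditive A] [HasZeroObject A]

/-- the terms of the brutal truncation -/
noncomputable def sigmaGEX (E : CochainComplex A ℤ) (a i : ℤ) : A := if a ≤ i then E.X i else 0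

lemma isZero_sigmaGEX (E : CochainComplex A ℤ) (a i : ℤ) (h : ¬ a ≤ i) : IsZero (sigmaGEX E a i) := by
  unfold sigmaGEX
  rw [if_neg h]
  exact isZero_zero A

/-- inclusion of the terms -/
noncomputable def sigmaGEinc (E : CochainComplex A ℤ) (a i : ℤ) : sigmaGEX E a i ⟶ E.X i :=
  if h : a ≤ i then eqToHom (by unfold sigmaGEX; rw [if_pos h]) else 0

/-- projection onto the terms -/
noncomputable def sigmaGEprj (E : CochainComplex A ℤ) (a i : ℤ) : E.X i ⟶ sigmaGEX E a i :=
  if h : a ≤ i then eqToHom (by unfold sigmaGEX; rw [if_pos h]) else 0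

@[reassoc (attr := simp)]
lemma sigmaGEinc_prj (E : CochainComplex A ℤ) (a i : ℤ) :
    sigmaGEinc E a i ≫ sigmaGEprj E a i = 𝟙 _ := by
  by_cases h : a ≤ i
  · simp [sigmaGEinc, sigmaGEprj, h]
  · exact (isZero_sigmaGEX E a i h).eq_of_src _ _

@[reassoc]
lemma sigmaGEprj_inc (E : CochainComplex A ℤ) (a i : ℤ) (h : a ≤ i) :
    sigmaGEprj E a i ≫ sigmaGEinc E a i = 𝟙 _ := by
  simp [sigmaGEinc, sigmaGEprj, h]

lemma sigmaGEinc_eq_zero (E : CochainComplex A ℤ) (a i : ℤ) (h : ¬ a ≤ i) :
    sigmaGEinc E a i = 0 := (isZero_sigmaGEX E a i h).eq_of_src _ _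

lemma isIso_sigmaGEinc (E : CochainComplex A ℤ) (a i : ℤ) (h : a ≤ i) :
    IsIso (sigmaGEinc E a i) :=
  ⟨sigmaGEprj E a i, sigmaGEinc_prj E a i, sigmaGEprj_inc E a i h⟩

@[reassoc]
lemma sigmaGEinc_d_prj_inc (E : CochainComplex A ℤ) (a i j : ℤ) :
    sigmaGEinc E a i ≫ E.d i j ≫ sigmaGEprj E a j ≫ sigmaGEinc E a j =
      sigmaGEinc E a i ≫ E.d i j := by
  by_cases hij : (ComplexShape.up ℤ).Rel i j
  · by_cases h : a ≤ j
    · rw [sigmaGEprj_inc E a j h, Category.comp_id]
    · have hi : ¬ a ≤ i := by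
        have : i + 1 = j := hij
        omega
      rw [sigmaGEinc_eq_zero E a i hi, zero_comp, zero_comp]
  · simp [E.shape i j hij]

/-- the brutal truncation `σ_{≥ a} E` -/
noncomputable def sigmaGE (E : CochainComplex A ℤ) (a : ℤ) : CochainComplex A ℤ where
  X i := sigmaGEX E a i
  d i j := sigmaGEinc E a i ≫ E.d i j ≫ sigmaGEprj E a j
  shape i j h := by rw [E.shape i j h, zero_comp, comp_zero]
  d_comp_d' i j k _ _ := by
    rw [Category.assoc, Category.assoc, sigmaGEinc_d_prj_inc_assoc, E.d_comp_d_assoc, zero_comp,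
      comp_zero]

/-- the inclusion `σ_{≥ a} E ⟶ E` -/
noncomputable def sigmaGEι (E : CochainComplex A ℤ) (a : ℤ) : sigmaGE E a ⟶ E where
  f i := sigmaGEinc E a i
  comm' i j _ := by
    change sigmaGEinc E a i ≫ E.d i j = (sigmaGEinc E a i ≫ E.d i j ≫ sigmaGEprj E a j) ≫
      sigmaGEinc E a j
    rw [Category.assoc, Category.assoc, sigmaGEinc_d_prj_inc]

lemma isZero_sigmaGE_X (E : CochainComplex A ℤ) (a i : ℤ) (h : i < a) :
    IsZero ((sigmaGE E a).X i) := isZero_sigmaGEX E a i (by omega)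

lemma isIso_sigmaGEι_f (E : CochainComplex A ℤ) (a i : ℤ) (h : a ≤ i) :
    IsIso ((sigmaGEι E a).f i) := isIso_sigmaGEinc E a i h

lemma isZero_sigmaGE_X_of_isZero (E : CochainComplex A ℤ) (a i : ℤ) (h : IsZero (E.X i)) :
    IsZero ((sigmaGE E a).X i) := by
  by_cases hi : a ≤ i
  · haveI := isIso_sigmaGEι_f E a i hi
    exact IsZero.of_iso h (asIso ((sigmaGEι E a).f i))
  · exact isZero_sigmaGEX E a i hi

end trunc

section homology

variable {A : Type u'} [Category.{v} A] [Abelian A]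

lemma isIso_homologyMap_of_isIso_f {K L : CochainComplex A ℤ} (f : K ⟶ L) (i : ℤ)
    (h₁ : IsIso (f.f (i - 1))) (h₂ : IsIso (f.f i)) (h₃ : IsIso (f.f (i + 1))) :
    IsIso (HomologicalComplex.homologyMap f i) := by
  haveI : IsIso ((HomologicalComplex.shortComplexFunctor A (ComplexShape.up ℤ) i).map f).τ₁ := by
    change IsIso (f.f ((ComplexShape.up ℤ).prev i))
    rw [CochainComplex.prev]
    exact h₁
  haveI : IsIso ((HomologicalComplex.shortComplexFunctor A (ComplexShape.up ℤ) i).map f).τ₂ := h₂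
  haveI : IsIso ((HomologicalComplex.shortComplexFunctor A (ComplexShape.up ℤ) i).map f).τ₃ := by
    change IsIso (f.f ((ComplexShape.up ℤ).next i))
    rw [CochainComplex.next]
    exact h₃
  haveI := ShortComplex.isIso_of_isIso
    ((HomologicalComplex.shortComplexFunctor A (ComplexShape.up ℤ) i).map f)
  exact inferInstanceAs (IsIso (ShortComplex.homologyMap
    ((HomologicalComplex.shortComplexFunctor A (ComplexShape.up ℤ) i).map f)))

lemma epi_homologyMap_of_isIso_f {K L : CochainComplex A ℤ} (f : K ⟶ L) (i : ℤ)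
    (h₂ : IsIso (f.f i)) (h₃ : IsIso (f.f (i + 1))) :
    Epi (HomologicalComplex.homologyMap f i) := by
  let φ := (HomologicalComplex.shortComplexFunctor A (ComplexShape.up ℤ) i).map f
  haveI : IsIso φ.τ₂ := h₂
  haveI : IsIso φ.τ₃ := by
    change IsIso (f.f ((ComplexShape.up ℤ).next i))
    rw [CochainComplex.next]
    exact h₃
  haveI : IsIso (ShortComplex.cyclesMap φ) := ShortComplex.isIso_cyclesMap_of_isIso_of_mono φ
  have nat : ShortComplex.cyclesMap φ ≫ (L.sc i).homologyπ =
      (K.sc i).homologyπ ≫ ShortComplex.homologyMap φ := (ShortComplex.homologyπ_naturality φ).symm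
  haveI : Epi ((K.sc i).homologyπ ≫ ShortComplex.homologyMap φ) := by
    rw [← nat]
    infer_instance
  exact epi_of_epi (K.sc i).homologyπ (ShortComplex.homologyMap φ)

lemma isIso_homologyMap_sigmaGEι (E : CochainComplex A ℤ) (a i : ℤ) (h : a < i) :
    IsIso (HomologicalComplex.homologyMap (sigmaGEι E a) i) :=
  isIso_homologyMap_of_isIso_f _ i (isIso_sigmaGEι_f E a _ (by omega))
    (isIso_sigmaGEι_f E a _ (by omega)) (isIso_sigmaGEι_f E a _ (by omega))

lemma epi_homologyMap_sigmaGEι (E : CochainComplex A ℤ) (a : ℤ) :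
    Epi (HomologicalComplex.homologyMap (sigmaGEι E a) a) :=
  epi_homologyMap_of_isIso_f _ a (isIso_sigmaGEι_f E a _ le_rfl)
    (isIso_sigmaGEι_f E a _ (by omega))

end homology

end Groth.Agent.Lib.Helper1.SPL
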