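import Mathlib
import Groth.Agent.Lib.Helper1PC1
import Groth.Agent.Lib.Helper1PC2
set_option backward.isDefEq.respectTransparency.types false

/-!
# Local presentations of pseudo-coherent objects (helper1)
-/

set_option autoImplicit false
set_option linter.style.haveILetI false
universe w w' v v' u u' u''
open CategoryTheory CategoryTheory.Limits AlgebraicGeometry Pretriangulated

attribute [local instance] HasDerivedCategory.standard

namespace Groth.Agent.Lib.Helper1.SPL

open Groth.Agent.Lib.Helper1.Sky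

section abstract

variable {A : Type u'} [Category.{v} A] [Abelian A] [HasDerivedCategory.{w} A]
  {B : Type u''} [Category.{v'} B] [Abelian B] [HasDerivedCategory.{w'} B]
  (F : A ⥤ B) [F.Additive] [PreservesFiniteLimits F] [PreservesFiniteColimits F]

lemma isZero_homology_mapDerivedCategory (C : DerivedCategory A) (i : ℤ)
    (h : IsZero ((DerivedCategory.homologyFunctor A i).obj C)) :
    IsZero ((DerivedCategory.homologyFunctor B i).obj (F.mapDerivedCategory.obj C)) := by
  let Cc : CochainComplex A ℤ := DerivedCategory.Q.objPreimage C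
  let e : DerivedCategory.Q.obj Cc ≅ C := DerivedCategory.Q.objObjPreimageIso C
  have h1 : IsZero (Cc.homology i) :=
    IsZero.of_iso h (((DerivedCategory.homologyFunctorFactors A i).app Cc).symm ≪≫
      (DerivedCategory.homologyFunctor A i).mapIso e)
  haveI : F.PreservesHomology := inferInstance
  have h2 : IsZero (((F.mapHomologicalComplex (ComplexShape.up ℤ)).obj Cc).homology i) :=
    IsZero.of_iso (F.map_isZero h1) ((Cc.sc i).mapHomologyIso F)
  refine IsZero.of_iso h2 ?_
  exact (DerivedCategory.homologyFunctor B i).mapIso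
      (F.mapDerivedCategory.mapIso e.symm ≪≫ F.mapDerivedCategoryFactors.app Cc) ≪≫
    (DerivedCategory.homologyFunctorFactors B i).app _

lemma propM_mapDerivedCategory (m : ℤ) {K L : DerivedCategory A} (α : K ⟶ L) (h : PropM m α) :
    PropM m (F.mapDerivedCategory.map α) := by
  obtain ⟨C, g, δ, hT⟩ := distinguished_cocone_triangle α
  have h1 := (propM_iff_of_distTriang m _ hT).1 h
  have hT' := F.mapDerivedCategory.map_distinguished _ hT
  refine (propM_iff_of_distTriang m _ hT').2 (fun i hi => ?_)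
  exact isZero_homology_mapDerivedCategory F C i (h1 i hi)

lemma propM_shift (m n m' : ℤ) (hn : n + m' = m) {K L : DerivedCategory A} (α : K ⟶ L)
    (h : PropM m α) : PropM m' (α⟦n⟧') := by
  have key : ∀ (i i' : ℤ) (hi : n + i = i'),
      Arrow.mk ((DerivedCategory.homologyFunctor A i).map (α⟦n⟧')) ≅
        Arrow.mk ((DerivedCategory.homologyFunctor A i').map α) := fun i i' hi =>
    Arrow.isoMk (((DerivedCategory.homologyFunctor A 0).shiftIso n i i' hi).app K)
      (((DerivedCategory.homologyFunctor A 0).shiftIso n i i' hi).app L)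
      (((DerivedCategory.homologyFunctor A 0).shiftIso n i i' hi).hom.naturality α).symm
  refine ⟨fun i hi => ?_, ?_⟩
  · exact ((MorphismProperty.isomorphisms A).arrow_mk_iso_iff (key i (n + i) rfl)).2
      (h.1 (n + i) (by omega))
  · exact ((MorphismProperty.epimorphisms A).arrow_mk_iso_iff (key m' m hn)).2 h.2

end abstract

variable {X : Scheme.{u}}

/-- `K` receives near `x` a map from a strictly perfect complex which is an isomorphism on `H^i`
for `i > m` and an epimorphism on `H^m` -/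
def HasPresM (m : ℤ) (K : DCoh.D X) (x : X) : Prop :=
  ∃ (U : Scheme.{u}) (j : U ⟶ X) (_ : IsOpenImmersion j), x ∈ j.opensRange ∧
    ∃ (E : CochainComplex U.Modules ℤ) (α : DerivedCategory.Q.obj E ⟶ (resD j).obj K),
      DCoh.IsStrictlyPerfect E ∧ PropM m α

/-- restricting a presentation further -/
lemma exists_presM_comp {U U' : Scheme.{u}} (j : U ⟶ X) (j' : U' ⟶ X) (i : U' ⟶ U)
    [IsOpenImmersion j] [IsOpenImmersion j'] [IsOpenImmersion i] (hi : i ≫ j = j')
    (m : ℤ) (K : DCoh.D X) (E : CochainComplex U.Modules ℤ)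
    (α : DerivedCategory.Q.obj E ⟶ (resD j).obj K) (hα : PropM m α) :
    ∃ α' : DerivedCategory.Q.obj ((resC i).obj E) ⟶ (resD j').obj K, PropM m α' := by
  subst hi
  refine ⟨(facD i).inv.app E ≫ (resD i).map α ≫ (resDComp i j).inv.app K, ?_⟩
  exact propM_comp m (propM_of_isIso m _)
    (propM_comp m (propM_mapDerivedCategory _ m α hα) (propM_of_isIso m _))

lemma HasPresM.of_iso {m : ℤ} {K K' : DCoh.D X} (e : K ≅ K') {x : X} (h : HasPresM m K x) :
    HasPresM m K' x := by
  obtain ⟨U, j, hj, hx, E, α, hE, hα⟩ := h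
  exact ⟨U, j, hj, hx, E, α ≫ (resD j).map e.hom, hE, propM_comp m hα (propM_of_isIso m _)⟩

lemma HasPresM.of_le {m n : ℤ} (hmn : m ≤ n) {K : DCoh.D X} {x : X} (h : HasPresM m K x) :
    HasPresM n K x := by
  obtain ⟨U, j, hj, hx, E, α, hE, hα⟩ := h
  exact ⟨U, j, hj, hx, E, α, hE, propM_of_le hmn hα⟩

/-- a presentation can be taken on an open subset -/
lemma HasPresM.exists_opens {m : ℤ} {K : DCoh.D X} {x : X} (h : HasPresM m K x) :
    ∃ V : X.Opens, x ∈ V ∧ ∃ (E : CochainComplex (V : Scheme.{u}).Modules ℤ)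
      (α : DerivedCategory.Q.obj E ⟶ (resD V.ι).obj K), DCoh.IsStrictlyPerfect E ∧ PropM m α := by
  obtain ⟨U, j, hj, hx, E, α, hE, hα⟩ := h
  haveI := hj
  obtain ⟨α', hα'⟩ := exists_presM_comp j j.opensRange.ι j.isoOpensRange.inv (by simp) m K E α hα
  exact ⟨j.opensRange, hx, _, α', isStrictlyPerfect_resC _ E hE, hα'⟩

/-- a presentation can be restricted to a smaller open neighbourhood -/
lemma HasPresM.exists_opens_le {m : ℤ} {K : DCoh.D X} {x : X} (h : HasPresM m K x) :
    ∃ V : X.Opens, x ∈ V ∧ ∀ W : X.Opens, W ≤ V →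
      ∃ (E : CochainComplex (W : Scheme.{u}).Modules ℤ)
      (α : DerivedCategory.Q.obj E ⟶ (resD W.ι).obj K), DCoh.IsStrictlyPerfect E ∧ PropM m α := by
  obtain ⟨V, hxV, E, α, hE, hα⟩ := h.exists_opens
  refine ⟨V, hxV, fun W hW => ?_⟩
  obtain ⟨α', hα'⟩ := exists_presM_comp V.ι W.ι (X.homOfLE hW) (by simp) m K E α hα
  exact ⟨_, α', isStrictlyPerfect_resC _ E hE, hα'⟩

theorem isPseudoCoherentD_iff_hasPresM (m : ℤ) (K : DCoh.D X) :
    DCoh.IsPseudoCoherentD m K ↔ ∀ x : X, HasPresM m K x := by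
  constructor
  · intro h x
    obtain ⟨V, hxV, hV⟩ := h x
    let F₀ : CochainComplex X.Modules ℤ := DerivedCategory.Q.objPreimage K
    let e₀ : DCoh.toD X F₀ ≅ K := DerivedCategory.Q.objObjPreimageIso K
    obtain ⟨E, α, hE, h1, h2⟩ := hV F₀ ⟨e₀⟩
    refine ⟨V, V.ι, inferInstance, by simpa using hxV, E,
      α ≫ (facD V.ι).inv.app F₀ ≫ (resD V.ι).map e₀.hom, hE, ?_⟩
    exact propM_comp m ⟨h1, h2⟩ (propM_of_isIso m _)
  · intro h x
    obtain ⟨V, hxV, E, α, hE, hα⟩ := (h x).exists_opens
    refine ⟨V, hxV, fun F ⟨eF⟩ => ⟨E, α ≫ (resD V.ι).map eF.inv ≫ (facD V.ι).hom.app F, hE, ?_⟩⟩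
    have := propM_comp m hα (propM_of_isIso m ((resD V.ι).map eF.inv ≫ (facD V.ι).hom.app F))
    exact ⟨this.1, this.2⟩

end Groth.Agent.Lib.Helper1.SPL
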