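import Mathlib
import Groth.Agent.Lib.Helper1PC3
set_option backward.isDefEq.respectTransparency.types false

/-!
# Lifting maps from strictly perfect complexes in the derived category (helper1)
-/

set_option autoImplicit false
set_option linter.style.haveILetI false
universe u
open CategoryTheory CategoryTheory.Limits AlgebraicGeometry Pretriangulated

attribute [local instance] HasDerivedCategory.standard

namespace Groth.Agent.Lib.Helper1.SPL

open Groth.Agent.Lib.Helper1.Sky

variable {X : Scheme.{u}}

lemma resD_map_Q_map {U : Scheme.{u}} (j : U ⟶ X) [IsOpenImmersion j]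
    {K L : CochainComplex X.Modules ℤ} (g : K ⟶ L) :
    (resD j).map (DerivedCategory.Q.map g) =
      (facD j).hom.app K ≫ DerivedCategory.Q.map ((resC j).map g) ≫ (facD j).inv.app L := by
  have h := (facD j).hom.naturality g
  rw [← cancel_mono ((facD j).hom.app L), Category.assoc, Category.assoc, Iso.inv_hom_id_app]
  erw [Category.comp_id]
  exact h

/-- maps in `D(O_X)` from a strictly perfect complex concentrated in degrees `≥ a` lift locally
along a map which is an isomorphism on `H^i` for `i > a` and an epimorphism on `H^a` -/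
theorem exists_lift_D {L' L : DCoh.D X} (β : L' ⟶ L) (a : ℤ) (hβ : PropM a β)
    {E : CochainComplex X.Modules ℤ} (hE : DCoh.IsStrictlyPerfect E)
    (hEa : ∀ i, i < a → IsZero (E.X i)) (φ : DerivedCategory.Q.obj E ⟶ L) (x : X) :
    ∃ (U : Scheme.{u}) (j : U ⟶ X) (_ : IsOpenImmersion j), x ∈ j.opensRange ∧
      ∃ ψ : (resD j).obj (DerivedCategory.Q.obj E) ⟶ (resD j).obj L',
        ψ ≫ (resD j).map β = (resD j).map φ := by
  obtain ⟨C, g, δ, hT⟩ := distinguished_cocone_triangle β
  have hC := (propM_iff_of_distTriang a _ hT).1 hβ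
  let Cc : CochainComplex X.Modules ℤ := DerivedCategory.Q.objPreimage C
  let e : DerivedCategory.Q.obj Cc ≅ C := DerivedCategory.Q.objObjPreimageIso C
  obtain ⟨F', γ, s, hs, hθ⟩ := DerivedCategory.left_fac (φ ≫ g ≫ e.inv)
  have hqis : QuasiIso s := (DerivedCategory.isIso_Q_map_iff_quasiIso _ s).1 hs
  have hF' : ∀ i, a ≤ i → IsZero (F'.homology i) := fun i hi => by
    haveI : IsIso (HomologicalComplex.homologyMap s i) := by
      rw [← quasiIsoAt_iff_isIso_homologyMap]
      infer_instance
    have h1 : IsZero (Cc.homology i) :=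
      IsZero.of_iso (hC i hi) (((DerivedCategory.homologyFunctorFactors _ i).app Cc).symm ≪≫
        (DerivedCategory.homologyFunctor _ i).mapIso e)
    exact IsZero.of_iso h1 (asIso (HomologicalComplex.homologyMap s i)).symm
  obtain ⟨U, j, hj, hx, ⟨H⟩⟩ := exists_homotopy_zero γ hE a hEa hF' x
  haveI := hj
  refine ⟨U, j, hj, hx, ?_⟩
  have h0 : (resD j).map (DerivedCategory.Q.map γ) = 0 := by
    rw [resD_map_Q_map, DerivedCategory.Q_map_eq_of_homotopy _ H, Functor.map_zero, zero_comp,
      comp_zero]
  have h1 : (resD j).map (φ ≫ g ≫ e.inv) = 0 := by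
    rw [hθ, Functor.map_comp, h0, zero_comp]
  have h2 : (resD j).map φ ≫ (resD j).map g = 0 := by
    rw [← cancel_mono ((resD j).map e.inv), zero_comp, Category.assoc, ← Functor.map_comp,
      ← Functor.map_comp]
    exact h1
  have hT' := (resD j).map_distinguished _ hT
  obtain ⟨ψ, hψ⟩ := Triangle.coyoneda_exact₂ _ hT' ((resD j).map φ) h2
  exact ⟨ψ, hψ.symm⟩

end Groth.Agent.Lib.Helper1.SPL
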