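import Mathlib
import Groth.Agent.Lib.Helper1PC4
set_option backward.isDefEq.respectTransparency.types false

/-!
# Pseudo-coherence in distinguished triangles (helper1)
-/

set_option autoImplicit false
set_option linter.style.haveILetI false
universe u
open CategoryTheory CategoryTheory.Limits AlgebraicGeometry Pretriangulated

attribute [local instance] HasDerivedCategory.standard

namespace Groth.Agent.Lib.Helper1.SPL

open Groth.Agent.Lib.Helper1.Sky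

variable {X : Scheme.{u}}

lemma isZero_freeMod_zero : IsZero (FlatMod.freeMod X 0) := by
  rw [IsZero.iff_id_eq_zero]
  exact Sigma.hom_ext _ _ (fun j => Fin.elim0 j)

lemma isFinLocFree_of_isZero (M : X.Modules) (h : IsZero M) : FlatMod.IsFinLocFree M := fun _ =>
  ⟨⊤, 0, trivial, ⟨IsZero.iso ((Scheme.Modules.restrictFunctor _).map_isZero h)
    isZero_freeMod_zero⟩⟩

lemma isStrictlyPerfect_sigmaGE (E : CochainComplex X.Modules ℤ) (hE : DCoh.IsStrictlyPerfect E)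
    (a : ℤ) : DCoh.IsStrictlyPerfect (sigmaGE E a) := by
  obtain ⟨⟨a', b, hv⟩, hfl⟩ := hE
  refine ⟨⟨a', b, fun i hi => isZero_sigmaGE_X_of_isZero E a i (hv i hi)⟩, fun i => ?_⟩
  by_cases hi : a ≤ i
  · haveI := isIso_sigmaGEι_f E a i hi
    exact Groth.Agent.Lib.Helper1.FLF.isFinLocFree_of_iso (asIso ((sigmaGEι E a).f i)).symm (hfl i)
  · exact isFinLocFree_of_isZero _ (isZero_sigmaGE_X E a i (by omega))

lemma propM_Q_map_sigmaGEι (E : CochainComplex X.Modules ℤ) (a : ℤ) :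
    PropM a (DerivedCategory.Q.map (sigmaGEι E a)) :=
  propM_Q_map_of_homologyMap _ a (fun i hi => isIso_homologyMap_sigmaGEι E a i hi)
    (epi_homologyMap_sigmaGEι E a)

/-- step 1: with a lift `ψ` -/
theorem exists_presM_obj₃_of_lift (m : ℤ) (T : Triangle (DCoh.D X)) (hT : T ∈ distTriang _)
    {E₁ E₂ : CochainComplex X.Modules ℤ} (hE₁ : DCoh.IsStrictlyPerfect E₁)
    (hE₂ : DCoh.IsStrictlyPerfect E₂) (a : DerivedCategory.Q.obj E₁ ⟶ T.obj₁)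
    (b : DerivedCategory.Q.obj E₂ ⟶ T.obj₂) (ha : PropM (m + 1) a) (hb : PropM m b)
    (ψ : DerivedCategory.Q.obj E₁ ⟶ DerivedCategory.Q.obj E₂) (hψ : ψ ≫ b = a ≫ T.mor₁) (x : X) :
    ∃ V : X.Opens, x ∈ V ∧ ∃ (E₃ : CochainComplex (V : Scheme.{u}).Modules ℤ)
      (c : DerivedCategory.Q.obj E₃ ⟶ (resD V.ι).obj T.obj₃),
      DCoh.IsStrictlyPerfect E₃ ∧ PropM m c := by
  obtain ⟨V, hxV, p, hp⟩ := exists_opens_chain_map hE₁ ψ x
  refine ⟨V, hxV, CochainComplex.mappingCone p, ?_⟩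
  have hT₁ := DerivedCategory.mappingCone_triangle_distinguished p
  have hT₂ := (resD V.ι).map_distinguished _ hT
  let a' : DerivedCategory.Q.obj ((resC V.ι).obj E₁) ⟶ (resD V.ι).obj T.obj₁ :=
    (facD V.ι).inv.app E₁ ≫ (resD V.ι).map a
  let b' : DerivedCategory.Q.obj ((resC V.ι).obj E₂) ⟶ (resD V.ι).obj T.obj₂ :=
    (facD V.ι).inv.app E₂ ≫ (resD V.ι).map b
  have comm : (DerivedCategory.Q.mapTriangle.obj (CochainComplex.mappingCone.triangle p)).mor₁ ≫ b'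
      = a' ≫ ((resD V.ι).mapTriangle.obj T).mor₁ := by
    change DerivedCategory.Q.map p ≫ (facD V.ι).inv.app E₂ ≫ (resD V.ι).map b =
      ((facD V.ι).inv.app E₁ ≫ (resD V.ι).map a) ≫ (resD V.ι).map T.mor₁
    rw [Category.assoc, ← Functor.map_comp, ← hψ, Functor.map_comp, hp]
    simp only [Category.assoc, Iso.inv_hom_id_app_assoc]
  obtain ⟨c, hc₁, hc₂⟩ := complete_distinguished_triangle_morphism _ _ hT₁ hT₂ a' b' comm
  let φ : DerivedCategory.Q.mapTriangle.obj (CochainComplex.mappingCone.triangle p) ⟶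
      (resD V.ι).mapTriangle.obj T :=
    { hom₁ := a', hom₂ := b', hom₃ := c, comm₁ := comm, comm₂ := hc₁, comm₃ := hc₂ }
  have ha' : PropM (m + 1) a' :=
    propM_comp _ (propM_of_isIso _ _) (propM_mapDerivedCategory _ _ a ha)
  have hb' : PropM m b' :=
    propM_comp _ (propM_of_isIso _ _) (propM_mapDerivedCategory _ _ b hb)
  exact ⟨c, Groth.Agent.S6516.result p (isStrictlyPerfect_resC _ _ hE₁)
    (isStrictlyPerfect_resC _ _ hE₂), propM_hom₃ m _ _ hT₁ hT₂ φ ha' hb'⟩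

/-- step 2: `E₁` concentrated in degrees `≥ m` -/
theorem exists_presM_obj₃_of_isZero (m : ℤ) (T : Triangle (DCoh.D X)) (hT : T ∈ distTriang _)
    {E₁ E₂ : CochainComplex X.Modules ℤ} (hE₁ : DCoh.IsStrictlyPerfect E₁)
    (hE₂ : DCoh.IsStrictlyPerfect E₂) (hE₁m : ∀ i, i < m → IsZero (E₁.X i))
    (a : DerivedCategory.Q.obj E₁ ⟶ T.obj₁)
    (b : DerivedCategory.Q.obj E₂ ⟶ T.obj₂) (ha : PropM (m + 1) a) (hb : PropM m b) (x : X) :
    ∃ (W : Scheme.{u}) (i : W ⟶ X) (_ : IsOpenImmersion i), x ∈ i.opensRange ∧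
      ∃ (E₃ : CochainComplex W.Modules ℤ)
      (c : DerivedCategory.Q.obj E₃ ⟶ (resD i).obj T.obj₃),
      DCoh.IsStrictlyPerfect E₃ ∧ PropM m c := by
  obtain ⟨U, j, hj, hx, ψ₀, hψ₀⟩ := exists_lift_D b m hb hE₁ hE₁m (a ≫ T.mor₁) x
  haveI := hj
  obtain ⟨x₁, rfl⟩ : ∃ x₁ : U, j x₁ = x := hx
  have hT' := (resD j).map_distinguished _ hT
  let a' : DerivedCategory.Q.obj ((resC j).obj E₁) ⟶ (resD j).obj T.obj₁ :=
    (facD j).inv.app E₁ ≫ (resD j).map a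
  let b' : DerivedCategory.Q.obj ((resC j).obj E₂) ⟶ (resD j).obj T.obj₂ :=
    (facD j).inv.app E₂ ≫ (resD j).map b
  let ψ' : DerivedCategory.Q.obj ((resC j).obj E₁) ⟶ DerivedCategory.Q.obj ((resC j).obj E₂) :=
    (facD j).inv.app E₁ ≫ ψ₀ ≫ (facD j).hom.app E₂
  have hψ' : ψ' ≫ b' = a' ≫ ((resD j).mapTriangle.obj T).mor₁ := by
    change ((facD j).inv.app E₁ ≫ ψ₀ ≫ (facD j).hom.app E₂) ≫ (facD j).inv.app E₂ ≫
        (resD j).map b = ((facD j).inv.app E₁ ≫ (resD j).map a) ≫ (resD j).map T.mor₁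
    simp only [Category.assoc, Iso.hom_inv_id_app_assoc]
    rw [hψ₀, Functor.map_comp]
  have ha' : PropM (m + 1) a' :=
    propM_comp _ (propM_of_isIso _ _) (propM_mapDerivedCategory _ _ a ha)
  have hb' : PropM m b' :=
    propM_comp _ (propM_of_isIso _ _) (propM_mapDerivedCategory _ _ b hb)
  obtain ⟨V, hxV, E₃, c, hE₃, hc⟩ := exists_presM_obj₃_of_lift m _ hT'
    (isStrictlyPerfect_resC _ _ hE₁) (isStrictlyPerfect_resC _ _ hE₂) a' b' ha' hb' ψ' hψ' x₁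
  refine ⟨V, V.ι ≫ j, inferInstance, ⟨⟨x₁, hxV⟩, rfl⟩, E₃,
    c ≫ ((resDComp V.ι j).app T.obj₃).inv, hE₃, propM_comp _ hc (propM_of_isIso _ _)⟩

/-- step 3: the general case, by brutal truncation of `E₁` -/
theorem exists_presM_obj₃ (m : ℤ) (T : Triangle (DCoh.D X)) (hT : T ∈ distTriang _)
    {E₁ E₂ : CochainComplex X.Modules ℤ} (hE₁ : DCoh.IsStrictlyPerfect E₁)
    (hE₂ : DCoh.IsStrictlyPerfect E₂) (a : DerivedCategory.Q.obj E₁ ⟶ T.obj₁)
    (b : DerivedCategory.Q.obj E₂ ⟶ T.obj₂) (ha : PropM (m + 1) a) (hb : PropM m b) (x : X) :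
    ∃ (W : Scheme.{u}) (i : W ⟶ X) (_ : IsOpenImmersion i), x ∈ i.opensRange ∧
      ∃ (E₃ : CochainComplex W.Modules ℤ)
      (c : DerivedCategory.Q.obj E₃ ⟶ (resD i).obj T.obj₃),
      DCoh.IsStrictlyPerfect E₃ ∧ PropM m c :=
  exists_presM_obj₃_of_isZero m T hT (isStrictlyPerfect_sigmaGE E₁ hE₁ (m + 1)) hE₂
    (fun i hi => isZero_sigmaGE_X E₁ (m + 1) i (by omega))
    (DerivedCategory.Q.map (sigmaGEι E₁ (m + 1)) ≫ a) b
    (propM_comp _ (propM_Q_map_sigmaGEι E₁ (m + 1)) ha) hb x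

/-- pointwise form of part (1) of S0889 -/
theorem hasPresM_obj₃ (m : ℤ) (T : Triangle (DCoh.D X)) (hT : T ∈ distTriang _) (x : X)
    (h₁ : HasPresM (m + 1) T.obj₁ x) (h₂ : HasPresM m T.obj₂ x) : HasPresM m T.obj₃ x := by
  obtain ⟨V₁, hx₁, hV₁⟩ := h₁.exists_opens_le
  obtain ⟨V₂, hx₂, hV₂⟩ := h₂.exists_opens_le
  obtain ⟨E₁, a, hE₁, ha⟩ := hV₁ (V₁ ⊓ V₂) inf_le_left
  obtain ⟨E₂, b, hE₂, hb⟩ := hV₂ (V₁ ⊓ V₂) inf_le_right
  let W : X.Opens := V₁ ⊓ V₂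
  have hT' := (resD W.ι).map_distinguished _ hT
  obtain ⟨W', i, hi, hxi, E₃, c, hE₃, hc⟩ := exists_presM_obj₃ m _ hT' hE₁ hE₂ a b ha hb
    (⟨x, ⟨hx₁, hx₂⟩⟩ : (W : Scheme.{u}))
  haveI := hi
  obtain ⟨x', hx'⟩ := hxi
  refine ⟨W', i ≫ W.ι, inferInstance, ⟨x', ?_⟩, E₃, c ≫ ((resDComp i W.ι).app T.obj₃).inv, hE₃,
    propM_comp _ hc (propM_of_isIso _ _)⟩
  change W.ι (i x') = x
  rw [hx']
  rfl

lemma hasPresM_shift (m n m' : ℤ) (hn : n + m' = m) (K : DCoh.D X) (x : X)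
    (h : HasPresM m K x) : HasPresM m' (K⟦n⟧) x := by
  obtain ⟨U, j, hj, hx, E, α, hE, hα⟩ := h
  haveI := hj
  refine ⟨U, j, hj, hx, E⟦n⟧, ((DerivedCategory.Q.commShiftIso n).app E).hom ≫ α⟦n⟧' ≫
    (((resD j).commShiftIso n).app K).inv, isStrictlyPerfect_shift E n hE, ?_⟩
  exact propM_comp _ (propM_of_isIso _ _)
    (propM_comp _ (propM_shift m n m' hn α hα) (propM_of_isIso _ _))

/-- S0889 -/
theorem isPseudoCoherentD_triangle (m : ℤ) (T : Triangle (DCoh.D X)) (hT : T ∈ distTriang _) :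
    (DCoh.IsPseudoCoherentD (m + 1) T.obj₁ → DCoh.IsPseudoCoherentD m T.obj₂ →
      DCoh.IsPseudoCoherentD m T.obj₃) ∧
    (DCoh.IsPseudoCoherentD m T.obj₁ → DCoh.IsPseudoCoherentD m T.obj₃ →
      DCoh.IsPseudoCoherentD m T.obj₂) ∧
    (DCoh.IsPseudoCoherentD (m + 1) T.obj₂ → DCoh.IsPseudoCoherentD m T.obj₃ →
      DCoh.IsPseudoCoherentD (m + 1) T.obj₁) := by
  simp only [isPseudoCoherentD_iff_hasPresM]
  refine ⟨fun h₁ h₂ x => hasPresM_obj₃ m T hT x (h₁ x) (h₂ x), fun h₁ h₃ x => ?_,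
    fun h₂ h₃ x => ?_⟩
  · exact hasPresM_obj₃ m T.invRotate (inv_rot_of_distTriang _ hT) x
      (hasPresM_shift m (-1) (m + 1) (by ring) T.obj₃ x (h₃ x)) (h₁ x)
  · exact hasPresM_obj₃ (m + 1) T.invRotate.invRotate
      (inv_rot_of_distTriang _ (inv_rot_of_distTriang _ hT)) x
      (hasPresM_shift (m + 1) (-1) (m + 1 + 1) (by ring) T.obj₂ x (h₂ x))
      (hasPresM_shift m (-1) (m + 1) (by ring) T.obj₃ x (h₃ x))

end Groth.Agent.Lib.Helper1.SPL
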