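import Mathlib
import Groth.Agent.Lib.Helper1PC5
set_option backward.isDefEq.respectTransparency.types false

/-!
# Direct summands of pseudo-coherent objects (helper1)
-/

set_option autoImplicit false
set_option linter.style.haveILetI false
universe u
open CategoryTheory CategoryTheory.Limits AlgebraicGeometry Pretriangulated
open scoped ZeroObject

attribute [local instance] HasDerivedCategory.standard

namespace Groth.Agent.Lib.Helper1.SPL

open Groth.Agent.Lib.Helper1.Sky

variable {X : Scheme.{u}}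

lemma isStrictlyPerfect_zero : DCoh.IsStrictlyPerfect (0 : CochainComplex X.Modules ℤ) :=
  ⟨⟨0, 0, fun i _ => (HomologicalComplex.eval _ _ i).map_isZero (isZero_zero _)⟩,
    fun i => isFinLocFree_of_isZero _ ((HomologicalComplex.eval _ _ i).map_isZero (isZero_zero _))⟩

/-- an object whose cohomology vanishes above `N` near `x` is `(N+1)`-pseudo-coherent at `x` -/
lemma hasPresM_of_isZero_homology (K : DCoh.D X) (x : X) {U : Scheme.{u}} (j : U ⟶ X)
    [IsOpenImmersion j] (hx : x ∈ j.opensRange) (N : ℤ)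
    (h : ∀ i : ℤ, N < i → IsZero ((DerivedCategory.homologyFunctor _ i).obj ((resD j).obj K))) :
    HasPresM (N + 1) K x := by
  refine ⟨U, j, inferInstance, hx, 0, 0, isStrictlyPerfect_zero, ?_⟩
  have hz : ∀ i : ℤ, IsZero ((DerivedCategory.homologyFunctor U.Modules i).obj
      (DerivedCategory.Q.obj (0 : CochainComplex U.Modules ℤ))) := fun i =>
    (DerivedCategory.homologyFunctor _ i).map_isZero
      (DerivedCategory.Q.map_isZero (isZero_zero _))
  refine ⟨fun i hi => ?_, ?_⟩
  · exact ⟨⟨0, (hz i).eq_of_src _ _, (h i (by omega)).eq_of_src _ _⟩⟩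
  · exact ⟨fun g g' _ => (h (N + 1) (by omega)).eq_of_src g g'⟩

/-- the cohomology of an `m`-pseudo-coherent object is locally bounded above -/
lemma HasPresM.exists_isZero_homology {m : ℤ} {K : DCoh.D X} {x : X} (h : HasPresM m K x) :
    ∃ (U : Scheme.{u}) (j : U ⟶ X) (_ : IsOpenImmersion j) (N : ℤ), x ∈ j.opensRange ∧ m ≤ N ∧
      ∀ i : ℤ, N < i → IsZero ((DerivedCategory.homologyFunctor _ i).obj ((resD j).obj K)) := by
  obtain ⟨U, j, hj, hx, E, α, ⟨⟨a, b, hv⟩, _⟩, hα⟩ := h
  refine ⟨U, j, hj, max m b, hx, le_max_left _ _, fun i hi => ?_⟩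
  haveI := hα.1 i (lt_of_le_of_lt (le_max_left _ _) hi)
  have h1 : IsZero (E.homology i) := by
    have hzero : IsZero (E.X i) := hv i (Or.inr (lt_of_le_of_lt (le_max_right _ _) hi))
    exact (ShortComplex.exact_iff_isZero_homology _).1
      (ShortComplex.exact_of_isZero_X₂ (E.sc i) hzero)
  have h2 : IsZero ((DerivedCategory.homologyFunctor _ i).obj (DerivedCategory.Q.obj E)) :=
    IsZero.of_iso h1 ((DerivedCategory.homologyFunctorFactors _ i).app E)
  exact IsZero.of_iso h2 (asIso ((DerivedCategory.homologyFunctor _ i).map α)).symm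

/-- the other split triangle `L ⟶ K ⊞ L ⟶ K` -/
lemma biprodTriangle'_distinguished {C : Type*} [Category C] [HasZeroObject C] [HasShift C ℤ]
    [Preadditive C] [∀ n : ℤ, (shiftFunctor C n).Additive] [Pretriangulated C] (K L : C)
    [HasBinaryBiproduct K L] :
    Triangle.mk (biprod.inr : L ⟶ K ⊞ L) (biprod.fst : K ⊞ L ⟶ K) 0 ∈ distTriang C := by
  have : HasBinaryBiproduct L K := inferInstance
  refine isomorphic_distinguished _ (binaryBiproductTriangle_distinguished L K) _ ?_
  refine Triangle.isoMk _ _ (Iso.refl _) (biprod.braiding K L) (Iso.refl _) ?_ ?_ ?_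
  · change (biprod.inr : L ⟶ K ⊞ L) ≫ (biprod.braiding K L).hom = 𝟙 L ≫ (biprod.inl : L ⟶ L ⊞ K)
    rw [Category.id_comp]
    apply biprod.hom_ext <;> simp
  · change (biprod.fst : K ⊞ L ⟶ K) ≫ 𝟙 K = (biprod.braiding K L).hom ≫ (biprod.snd : L ⊞ K ⟶ K)
    simp
  · change (0 : K ⟶ L⟦(1 : ℤ)⟧) ≫ (𝟙 L)⟦(1 : ℤ)⟧' = 𝟙 K ≫ 0
    simp

/-- S0888, pointwise -/
theorem hasPresM_of_biprod (m : ℤ) (K L : DCoh.D X) [HasBinaryBiproduct K L] (x : X)
    (h : HasPresM m (K ⊞ L) x) : HasPresM m K x ∧ HasPresM m L x := by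
  obtain ⟨U, j, hj, N, hx, hmN, hN⟩ := h.exists_isZero_homology
  haveI := hj
  -- vanishing for the summands
  have hK : ∀ i : ℤ, N < i → IsZero ((DerivedCategory.homologyFunctor _ i).obj ((resD j).obj K)) := by
    intro i hi
    rw [IsZero.iff_id_eq_zero]
    have : 𝟙 ((DerivedCategory.homologyFunctor _ i).obj ((resD j).obj K)) =
        (DerivedCategory.homologyFunctor _ i).map ((resD j).map (biprod.inl : K ⟶ K ⊞ L)) ≫
          (DerivedCategory.homologyFunctor _ i).map ((resD j).map (biprod.fst : K ⊞ L ⟶ K)) := by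
      rw [← Functor.map_comp, ← Functor.map_comp, biprod.inl_fst, CategoryTheory.Functor.map_id, CategoryTheory.Functor.map_id]
    rw [this, (hN i hi).eq_of_tgt
      ((DerivedCategory.homologyFunctor _ i).map ((resD j).map (biprod.inl : K ⟶ K ⊞ L))) 0,
      zero_comp]
  have hL : ∀ i : ℤ, N < i → IsZero ((DerivedCategory.homologyFunctor _ i).obj ((resD j).obj L)) := by
    intro i hi
    rw [IsZero.iff_id_eq_zero]
    have : 𝟙 ((DerivedCategory.homologyFunctor _ i).obj ((resD j).obj L)) =
        (DerivedCategory.homologyFunctor _ i).map ((resD j).map (biprod.inr : L ⟶ K ⊞ L)) ≫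
          (DerivedCategory.homologyFunctor _ i).map ((resD j).map (biprod.snd : K ⊞ L ⟶ L)) := by
      rw [← Functor.map_comp, ← Functor.map_comp, biprod.inr_snd, CategoryTheory.Functor.map_id, CategoryTheory.Functor.map_id]
    rw [this, (hN i hi).eq_of_tgt
      ((DerivedCategory.homologyFunctor _ i).map ((resD j).map (biprod.inr : L ⟶ K ⊞ L))) 0,
      zero_comp]
  have h0 : HasPresM (N + 1) K x ∧ HasPresM (N + 1) L x :=
    ⟨hasPresM_of_isZero_homology K x j hx N hK, hasPresM_of_isZero_homology L x j hx N hL⟩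
  -- descending induction
  have key : ∀ k : ℕ, ∀ n : ℤ, m ≤ n → n + k = N + 1 → HasPresM n K x ∧ HasPresM n L x := by
    intro k
    induction k with
    | zero =>
      intro n _ hn
      have : n = N + 1 := by simpa using hn
      subst this
      exact h0
    | succ k ih =>
      intro n hmn hn
      obtain ⟨hK', hL'⟩ := ih (n + 1) (by omega) (by push_cast at hn ⊢; omega)
      have hS : HasPresM n (K ⊞ L) x := h.of_le hmn
      have hT₁ := binaryBiproductTriangle_distinguished K L
      have hT₂ := biprodTriangle'_distinguished K L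
      exact ⟨hasPresM_obj₃ n _ hT₂ x hL' hS, hasPresM_obj₃ n _ hT₁ x hK' hS⟩
  exact key (N + 1 - m).toNat m le_rfl (by
    have := Int.toNat_of_nonneg (show 0 ≤ N + 1 - m by omega)
    omega)

/-- S0888 -/
theorem isPseudoCoherentD_of_biprod (m : ℤ) (K L : DCoh.D X) [HasBinaryBiproduct K L]
    (h : DCoh.IsPseudoCoherentD m (K ⊞ L)) :
    DCoh.IsPseudoCoherentD m K ∧ DCoh.IsPseudoCoherentD m L := by
  simp only [isPseudoCoherentD_iff_hasPresM] at h ⊢
  exact ⟨fun x => (hasPresM_of_biprod m K L x (h x)).1,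
    fun x => (hasPresM_of_biprod m K L x (h x)).2⟩

end Groth.Agent.Lib.Helper1.SPL
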