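import Mathlib
import Groth.Agent.Lib.Helper1PC6
import Groth.Agent.Lib.Helper20LocFree
set_option backward.isDefEq.respectTransparency.types false

/-!
# Kernels of epimorphisms of finite locally free modules; cycles of strictly perfect complexes
(helper1)
-/

set_option autoImplicit false
set_option linter.style.haveILetI false
universe u
open CategoryTheory CategoryTheory.Limits AlgebraicGeometry

namespace Groth.Agent.Lib.Helper1.SPL

open Groth.Agent.Lib.Helper20.LocFree

variable {X : Scheme.{u}}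

/-- being free of finite rank along an open immersion gives a free restriction to the open image -/
lemma nonempty_restrict_opensRange_iso_freeMod (M : X.Modules) {W : Scheme.{u}} (k : W ⟶ X)
    [IsOpenImmersion k] (n : ℕ) (e : M.restrict k ≅ FlatMod.freeMod W n) :
    Nonempty (M.restrict k.opensRange.ι ≅ FlatMod.freeMod (k.opensRange : Scheme.{u}) n) := by
  let g := k.isoOpensRange
  have hg : g.inv ≫ k = k.opensRange.ι := by simp [g]
  exact ⟨(Scheme.Modules.restrictFunctorCongr hg.symm).app M ≪≫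
    (Scheme.Modules.restrictFunctorComp g.inv k).app M ≪≫
    (Scheme.Modules.restrictFunctor g.inv).mapIso e ≪≫ restrictFreeMod g.inv n⟩

/-- finite local freeness is a local property -/
lemma isFinLocFree_of_local (M : X.Modules)
    (h : ∀ x : X, ∃ (U : Scheme.{u}) (j : U ⟶ X) (_ : IsOpenImmersion j), x ∈ j.opensRange ∧
      FlatMod.IsFinLocFree (M.restrict j)) : FlatMod.IsFinLocFree M := by
  intro x
  obtain ⟨U, j, hj, ⟨y, rfl⟩, hfl⟩ := h x
  haveI := hj
  obtain ⟨W, n, hyW, ⟨e⟩⟩ := hfl y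
  let k : (W : Scheme.{u}) ⟶ X := W.ι ≫ j
  obtain ⟨e'⟩ := nonempty_restrict_opensRange_iso_freeMod M k n
    ((Scheme.Modules.restrictFunctorComp W.ι j).app M ≪≫ e)
  exact ⟨k.opensRange, n, ⟨⟨y, hyW⟩, rfl⟩, ⟨e'⟩⟩

/-- the kernel of a split epimorphism from a free module of finite rank is finite locally free -/
lemma isFinLocFree_kernel_of_split {P Q : X.Modules} (φ : P ⟶ Q) (ψ : Q ⟶ P) (h : ψ ≫ φ = 𝟙 Q)
    (n : ℕ) (e : P ≅ FlatMod.freeMod X n) : FlatMod.IsFinLocFree (kernel φ) := by
  have w : (𝟙 P - φ ≫ ψ) ≫ φ = 0 := by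
    rw [Preadditive.sub_comp, Category.id_comp, Category.assoc, h, Category.comp_id, sub_self]
  have hr : kernel.ι φ ≫ kernel.lift φ (𝟙 P - φ ≫ ψ) w = 𝟙 _ := by
    rw [← cancel_mono (kernel.ι φ), Category.assoc, kernel.lift_ι, Preadditive.comp_sub,
      Category.comp_id, kernel.condition_assoc, zero_comp, sub_zero, Category.id_comp]
  refine isFinLocFree_of_retract (kernel.ι φ ≫ e.hom)
    (e.inv ≫ kernel.lift φ (𝟙 P - φ ≫ ψ) w) ?_
  rw [Category.assoc, Iso.hom_inv_id_assoc, hr]

/-- the kernel of an epimorphism between finite locally free modules is finite locally free -/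
theorem isFinLocFree_kernel {P Q : X.Modules} (φ : P ⟶ Q) [Epi φ] (hP : FlatMod.IsFinLocFree P)
    (hQ : FlatMod.IsFinLocFree Q) : FlatMod.IsFinLocFree (kernel φ) := by
  refine isFinLocFree_of_local _ (fun x => ?_)
  obtain ⟨U, n, hxU, ⟨e⟩⟩ := hP x
  let R := Scheme.Modules.restrictFunctor U.ι
  haveI : Epi (R.map φ) := inferInstance
  obtain ⟨U₂, j₂, hj₂, hx₂, ψ, hψ⟩ := exists_lift_of_isFinLocFree (isFinLocFree_restrict U.ι Q hQ)
    (R.map φ) (𝟙 _) (⟨x, hxU⟩ : (U : Scheme.{u}))
  haveI := hj₂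
  let R₂ := Scheme.Modules.restrictFunctor j₂
  rw [R₂.map_id] at hψ
  have h1 : FlatMod.IsFinLocFree (kernel (R₂.map (R.map φ))) :=
    isFinLocFree_kernel_of_split _ ψ hψ n (R₂.mapIso e ≪≫ restrictFreeMod j₂ n)
  obtain ⟨x₂, hx₂'⟩ := hx₂
  refine ⟨U₂, j₂ ≫ U.ι, inferInstance, ⟨x₂, ?_⟩, ?_⟩
  · change U.ι (j₂ x₂) = x
    rw [hx₂']
    rfl
  · refine Groth.Agent.Lib.Helper1.FLF.isFinLocFree_of_iso ?_ h1
    exact (PreservesKernel.iso R₂ (R.map φ)).symm ≪≫ R₂.mapIso (PreservesKernel.iso R φ).symm ≪≫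
      ((Scheme.Modules.restrictFunctorComp j₂ U.ι).app (kernel φ)).symm

/-- the cycles of a strictly perfect complex which is exact in degrees `> n` are finite locally
free in degrees `≥ n` -/
theorem isFinLocFree_cycles (E : CochainComplex X.Modules ℤ) (hE : DCoh.IsStrictlyPerfect E)
    (n : ℤ) (hex : ∀ i, n < i → IsZero (E.homology i)) :
    ∀ i, n ≤ i → FlatMod.IsFinLocFree (E.cycles i) := by
  obtain ⟨⟨a, b, hv⟩, hfl⟩ := hE
  have key : ∀ k : ℕ, ∀ i : ℤ, n ≤ i → b + 1 ≤ i + k → FlatMod.IsFinLocFree (E.cycles i) := by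
    intro k
    induction k with
    | zero =>
      intro i _ hi
      have hz : IsZero (E.X i) := hv i (Or.inr (by push_cast at hi; omega))
      exact isFinLocFree_of_isZero _ (IsZero.of_mono (E.iCycles i) hz)
    | succ k ih =>
      intro i hni hi
      have h1 : FlatMod.IsFinLocFree (E.cycles (i + 1)) :=
        ih (i + 1) (by omega) (by push_cast at hi ⊢; omega)
      haveI : Epi (E.toCycles i (i + 1)) :=
        Preadditive.epi_of_isZero_cokernel' _
          (E.homologyIsCokernel i (i + 1) (by simp)) (hex (i + 1) (by omega))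
      have h2 := isFinLocFree_kernel (E.toCycles i (i + 1)) (hfl i) h1
      refine Groth.Agent.Lib.Helper1.FLF.isFinLocFree_of_iso ?_ h2
      have e1 : kernel (E.toCycles i (i + 1)) ≅ kernel (E.d i (i + 1)) := by
        have : E.toCycles i (i + 1) ≫ E.iCycles (i + 1) = E.d i (i + 1) := E.toCycles_i i (i + 1)
        exact (kernelCompMono (E.toCycles i (i + 1)) (E.iCycles (i + 1))).symm ≪≫
          kernelIsoOfEq this
      exact e1 ≪≫ (IsLimit.conePointUniqueUpToIso (kernelIsKernel (E.d i (i + 1)))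
        (E.cyclesIsKernel i (i + 1) (by simp)))
  intro i hi
  exact key (b + 1 - i).toNat i hi (by
    have := Int.self_le_toNat (b + 1 - i)
    omega)

end Groth.Agent.Lib.Helper1.SPL
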