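import Mathlib
import Groth.Agent.Lib.Helper1PC7
import Groth.Agent.Lib.Helper23FinType
import Groth.Agent.Lib.Helper23FinPres
set_option backward.isDefEq.respectTransparency.types false

/-!
# Finite type / finite presentation from local quotients of finite locally free modules (helper1)
-/

set_option autoImplicit false
set_option linter.style.haveILetI false
universe u
open CategoryTheory CategoryTheory.Limits AlgebraicGeometry

namespace Groth.Agent.Lib.Helper1.SPL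

open Groth.Agent.Lib.Helper20.LocFree Groth.Agent.Lib.Helper23.FinType
  Groth.Agent.Lib.Helper23.QCohLocal

variable {X : Scheme.{u}}

/-- generating sections from an epimorphism out of a free module of finite rank -/
lemma exists_generatingSections_of_epi (N : X.Modules) (n : ℕ) (π : FlatMod.freeMod X n ⟶ N)
    [Epi π] : ∃ G : N.GeneratingSections, G.IsFiniteType := by
  let π' : (SheafOfModules.free (R := X.ringCatSheaf) (ULift.{u} (Fin n)) : X.Modules) ⟶ N :=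
    (freeModIsoFree X n).inv ≫ π
  haveI : Epi π' := by
    haveI : Epi (freeModIsoFree X n).inv := inferInstance
    exact epi_comp (freeModIsoFree X n).inv π
  refine ⟨{ I := ULift.{u} (Fin n), s := N.freeHomEquiv π', epi := ?_ }, ⟨inferInstance⟩⟩
  rw [Equiv.symm_apply_apply]; infer_instance

/-- restricting a trivialisation to a smaller open -/
lemma nonempty_iso_freeMod_of_le (M : X.Modules) {W₁ W : X.Opens} (hW : W ≤ W₁) (n : ℕ)
    (e : M.restrict W₁.ι ≅ FlatMod.freeMod (W₁ : Scheme.{u}) n) :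
    Nonempty (M.restrict W.ι ≅ FlatMod.freeMod (W : Scheme.{u}) n) := by
  have h : X.homOfLE hW ≫ W₁.ι = W.ι := by simp
  exact ⟨(Scheme.Modules.restrictFunctorCongr h.symm).app M ≪≫
    (Scheme.Modules.restrictFunctorComp (X.homOfLE hW) W₁.ι).app M ≪≫
    (Scheme.Modules.restrictFunctor (X.homOfLE hW)).mapIso e ≪≫ restrictFreeMod _ n⟩

/-- a module which is locally a quotient of a finite locally free module is of finite type -/
theorem isFT_of_local_epi (M : X.Modules)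
    (h : ∀ x : X, ∃ (U : Scheme.{u}) (j : U ⟶ X) (_ : IsOpenImmersion j), x ∈ j.opensRange ∧
      ∃ (P : U.Modules) (π : P ⟶ M.restrict j), FlatMod.IsFinLocFree P ∧ Epi π) :
    CohB1.IsFT M := by
  have key : ∀ x : X, ∃ V : X.Opens, x ∈ V ∧
      ∃ G : (M.restrict V.ι).GeneratingSections, G.IsFiniteType := by
    intro x
    obtain ⟨U, j, hj, ⟨y, rfl⟩, P, π, hP, hπ⟩ := h x
    haveI := hj
    haveI := hπ
    obtain ⟨W, n, hyW, ⟨e⟩⟩ := hP y
    let k : (W : Scheme.{u}) ⟶ X := W.ι ≫ j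
    let R := Scheme.Modules.restrictFunctor W.ι
    haveI : Epi (R.map π) := inferInstance
    let π₁ : FlatMod.freeMod (W : Scheme.{u}) n ⟶ M.restrict k :=
      e.inv ≫ R.map π ≫ ((Scheme.Modules.restrictFunctorComp W.ι j).app M).inv
    haveI : Epi π₁ := epi_comp _ _
    obtain ⟨G₁, hG₁⟩ := exists_generatingSections_of_epi (M.restrict k) n π₁
    let g := k.isoOpensRange
    have hg : g.inv ≫ k = k.opensRange.ι := by simp [g]
    exact ⟨k.opensRange, ⟨⟨y, hyW⟩, rfl⟩,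
      generatingSectionsOfComp M g.inv k k.opensRange.ι hg G₁, inferInstance⟩
  choose V hxV G hG using key
  refine isFiniteType_of_generatingSections M V ?_ (fun x => ⟨G x, hG x⟩)
  rw [TopologicalSpace.IsOpenCover, eq_top_iff]
  intro x _
  exact TopologicalSpace.Opens.mem_iSup.2 ⟨x, hxV x⟩

/-- transport of an exact, right-epi short complex along isomorphisms (abstract version) -/
lemma exists_exact_epi_of_isos {C : Type*} [Category C] [Abelian C] {A₁ A₀ A₂ B₁ B₀ B₂ : C}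
    (f : A₁ ⟶ A₀) (π : A₀ ⟶ A₂) (w : f ≫ π = 0) (hex : (ShortComplex.mk f π w).Exact) [Epi π]
    (ε₁ : B₁ ≅ A₁) (ε₀ : B₀ ≅ A₀) (ε₂ : A₂ ≅ B₂) :
    ∃ (w' : (ε₁.hom ≫ f ≫ ε₀.inv) ≫ (ε₀.hom ≫ π ≫ ε₂.hom) = 0),
      (ShortComplex.mk _ _ w').Exact ∧ Epi (ε₀.hom ≫ π ≫ ε₂.hom) := by
  have w' : (ε₁.hom ≫ f ≫ ε₀.inv) ≫ (ε₀.hom ≫ π ≫ ε₂.hom) = 0 := by
    simp [reassoc_of% w]
  refine ⟨w', ?_, inferInstance⟩
  let iso : ShortComplex.mk _ _ w' ≅ ShortComplex.mk f π w :=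
    ShortComplex.isoMk ε₁ ε₀ ε₂.symm (by simp) (by simp)
  exact ShortComplex.exact_of_iso iso.symm hex

/-- a module which is locally the cokernel of a map of finite locally free modules is of finite
presentation -/
theorem isFP_of_local_cokernel (M : X.Modules)
    (h : ∀ x : X, ∃ (U : Scheme.{u}) (j : U ⟶ X) (_ : IsOpenImmersion j), x ∈ j.opensRange ∧
      ∃ (P₁ P₀ : U.Modules) (f : P₁ ⟶ P₀) (π : P₀ ⟶ M.restrict j) (w : f ≫ π = 0),
        FlatMod.IsFinLocFree P₁ ∧ FlatMod.IsFinLocFree P₀ ∧ (ShortComplex.mk f π w).Exact ∧ Epi π) :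
    CohB1.IsFP M := by
  have key : ∀ x : X, ∃ V : X.Opens, x ∈ V ∧
      ∃ Q : (M.restrict V.ι).Presentation, Q.IsFinite := by
    intro x
    obtain ⟨U, j, hj, ⟨y, rfl⟩, P₁, P₀, f, π, w, hP₁, hP₀, hex, hπ⟩ := h x
    haveI := hj
    haveI := hπ
    obtain ⟨W₁, n₁, hyW₁, ⟨e₁'⟩⟩ := hP₁ y
    obtain ⟨W₀, n₀, hyW₀, ⟨e₀'⟩⟩ := hP₀ y
    obtain ⟨e₁⟩ := nonempty_iso_freeMod_of_le P₁ (inf_le_left : W₁ ⊓ W₀ ≤ W₁) n₁ e₁'
    obtain ⟨e₀⟩ := nonempty_iso_freeMod_of_le P₀ (inf_le_right : W₁ ⊓ W₀ ≤ W₀) n₀ e₀'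
    haveI : Epi ((Scheme.Modules.restrictFunctor (W₁ ⊓ W₀).ι).map π) := inferInstance
    have hex' : ((ShortComplex.mk f π w).map (Scheme.Modules.restrictFunctor (W₁ ⊓ W₀).ι)).Exact :=
      hex.map _
    obtain ⟨w', hex'', hepi⟩ := exists_exact_epi_of_isos
      ((Scheme.Modules.restrictFunctor (W₁ ⊓ W₀).ι).map f)
      ((Scheme.Modules.restrictFunctor (W₁ ⊓ W₀).ι).map π)
      ((ShortComplex.mk f π w).map (Scheme.Modules.restrictFunctor (W₁ ⊓ W₀).ι)).zero hex'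
      ((freeModIsoFree ((W₁ ⊓ W₀ : U.Opens) : Scheme.{u}) n₁).symm ≪≫ e₁.symm)
      ((freeModIsoFree ((W₁ ⊓ W₀ : U.Opens) : Scheme.{u}) n₀).symm ≪≫ e₀.symm)
      ((Scheme.Modules.restrictFunctorComp (W₁ ⊓ W₀).ι j).app M).symm
    haveI := hepi
    let Q₁ : (M.restrict ((W₁ ⊓ W₀).ι ≫ j)).Presentation :=
      SheafOfModules.presentationOfIsCokernelFree _ _ w' hex''.gIsCokernel
    haveI : Q₁.IsFinite := ⟨⟨inferInstanceAs (Finite (ULift.{u} (Fin n₀)))⟩,
      ⟨inferInstanceAs (Finite (ULift.{u} (Fin n₁)))⟩⟩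
    let g := ((W₁ ⊓ W₀).ι ≫ j).isoOpensRange
    have hg : g.inv ≫ ((W₁ ⊓ W₀).ι ≫ j) = ((W₁ ⊓ W₀).ι ≫ j).opensRange.ι := by simp [g]
    exact ⟨((W₁ ⊓ W₀).ι ≫ j).opensRange, ⟨⟨y, ⟨hyW₁, hyW₀⟩⟩, rfl⟩,
      presentationOfComp M g.inv _ _ hg Q₁,
      presentationOfComp_isFinite M g.inv _ _ hg Q₁⟩
  choose V hxV Q hQ using key
  refine isFinitePresentation_of_presentation M V ?_ (fun x => ⟨Q x, hQ x⟩)
  rw [TopologicalSpace.IsOpenCover, eq_top_iff]
  intro x _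
  exact TopologicalSpace.Opens.mem_iSup.2 ⟨x, hxV x⟩

end Groth.Agent.Lib.Helper1.SPL
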