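import Mathlib
import Groth.Agent.Lib.Helper1PC8
import Groth.Agent.Lib.Helper17Hyp19
set_option backward.isDefEq.respectTransparency.types false

/-!
# Top cohomology of pseudo-coherent objects (helper1)
-/

set_option autoImplicit false
set_option linter.style.haveILetI false
universe u
open CategoryTheory CategoryTheory.Limits AlgebraicGeometry

attribute [local instance] HasDerivedCategory.standard

namespace Groth.Agent.Lib.Helper1.SPL

open Groth.Agent.Lib.Helper1.Sky

variable {X : Scheme.{u}}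

/-- `H^i` commutes with restriction to an open -/
noncomputable def homologyResDIso {U : Scheme.{u}} (j : U ⟶ X) [IsOpenImmersion j] (K : DCoh.D X)
    (i : ℤ) :
    (DerivedCategory.homologyFunctor U.Modules i).obj ((resD j).obj K) ≅
      (DCoh.HD K i).restrict j :=
  (Groth.Agent.Lib.Helper17.Hyp.homologyNatIso (Scheme.Modules.restrictFunctor j) i).app K

lemma isZero_homology_of_propM {U : Scheme.{u}} (j : U ⟶ X) [IsOpenImmersion j] (K : DCoh.D X)
    (E : CochainComplex U.Modules ℤ) (α : DerivedCategory.Q.obj E ⟶ (resD j).obj K) (m : ℤ)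
    (hα : PropM m α) (i : ℤ) (hi : m < i) (hz : IsZero (DCoh.HD K i)) :
    IsZero (E.homology i) := by
  haveI := hα.1 i hi
  have e1 : E.homology i ≅ (DerivedCategory.homologyFunctor U.Modules i).obj
      (DerivedCategory.Q.obj E) := ((DerivedCategory.homologyFunctorFactors U.Modules i).app E).symm
  have e2 := asIso ((DerivedCategory.homologyFunctor U.Modules i).map α)
  have e3 := homologyResDIso j K i
  exact IsZero.of_iso ((Scheme.Modules.restrictFunctor j).map_isZero hz) (e1 ≪≫ e2 ≪≫ e3)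

/-- S0890 (1), in terms of local presentations -/
theorem isFT_HD_of_hasPresM (m : ℤ) (K : DCoh.D X) (h : ∀ x, HasPresM m K x)
    (hv : ∀ i : ℤ, m < i → IsZero (DCoh.HD K i)) : CohB1.IsFT (DCoh.HD K m) := by
  refine isFT_of_local_epi _ (fun x => ?_)
  obtain ⟨U, j, hj, hx, E, α, hE, hα⟩ := h x
  haveI := hj
  refine ⟨U, j, hj, hx, E.cycles m,
    E.homologyπ m ≫ ((DerivedCategory.homologyFunctorFactors U.Modules m).app E).inv ≫
      (DerivedCategory.homologyFunctor U.Modules m).map α ≫ (homologyResDIso j K m).hom, ?_, ?_⟩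
  · exact isFinLocFree_cycles E hE m
      (fun i hi => isZero_homology_of_propM j K E α m hα i hi (hv i hi)) m le_rfl
  · haveI := hα.2
    infer_instance

lemma exact_comp_iso {C : Type*} [Category C] [Abelian C] {A₁ A₀ A₂ B₂ : C}
    (f : A₁ ⟶ A₀) (π : A₀ ⟶ A₂) (w : f ≫ π = 0) (hex : (ShortComplex.mk f π w).Exact)
    (ε₂ : A₂ ≅ B₂) :
    ∃ (w' : f ≫ (π ≫ ε₂.hom) = 0), (ShortComplex.mk _ _ w').Exact := by
  have w' : f ≫ (π ≫ ε₂.hom) = 0 := by simp [reassoc_of% w]
  refine ⟨w', ?_⟩
  let iso : ShortComplex.mk _ _ w' ≅ ShortComplex.mk f π w :=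
    ShortComplex.isoMk (Iso.refl _) (Iso.refl _) ε₂.symm (by simp) (by simp)
  exact ShortComplex.exact_of_iso iso.symm hex

/-- S0890 (2), in terms of local presentations -/
theorem isFP_HD_of_hasPresM (m : ℤ) (K : DCoh.D X) (h : ∀ x, HasPresM m K x)
    (hv : ∀ i : ℤ, m + 1 < i → IsZero (DCoh.HD K i)) : CohB1.IsFP (DCoh.HD K (m + 1)) := by
  refine isFP_of_local_cokernel _ (fun x => ?_)
  obtain ⟨U, j, hj, hx, E, α, hE, hα⟩ := h x
  haveI := hj
  haveI := hα.1 (m + 1) (by omega)
  have hex : (ShortComplex.mk (E.toCycles m (m + 1)) (E.homologyπ (m + 1))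
      (E.toCycles_comp_homologyπ m (m + 1))).Exact :=
    ShortComplex.exact_of_g_is_cokernel _ (E.homologyIsCokernel m (m + 1) (by simp))
  obtain ⟨w', hex'⟩ := exact_comp_iso _ _ _ hex
    (((DerivedCategory.homologyFunctorFactors U.Modules (m + 1)).app E).symm ≪≫
      asIso ((DerivedCategory.homologyFunctor U.Modules (m + 1)).map α) ≪≫
      homologyResDIso j K (m + 1))
  refine ⟨U, j, hj, hx, E.X m, E.cycles (m + 1), _, _, w', hE.2 m, ?_, hex', ?_⟩
  · exact isFinLocFree_cycles E hE (m + 1)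
      (fun i hi => isZero_homology_of_propM j K E α m hα i (by omega) (hv i hi)) (m + 1) le_rfl
  · infer_instance

end Groth.Agent.Lib.Helper1.SPL
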