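import Mathlib
import Groth.Agent.Lib.Helper1PC9
import Groth.Agent.Lib.Helper23FinTypeLocal
import Groth.Agent.Lib.Helper2FinPres
set_option backward.isDefEq.respectTransparency.types false

/-!
# Pseudo-coherence of a module placed in degree zero (helper1)
-/

set_option autoImplicit false
set_option linter.style.haveILetI false
universe w v u u'
open CategoryTheory CategoryTheory.Limits AlgebraicGeometry Pretriangulated

attribute [local instance] HasDerivedCategory.standard

namespace Groth.Agent.Lib.Helper1.SPL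

open Groth.Agent.Lib.Helper1.Sky

section abstract

variable {A : Type u'} [Category.{v} A] [Abelian A] [HasDerivedCategory.{w} A]

/-- an epimorphism placed in degree zero is an isomorphism on `H^i`, `i > 0` and an epimorphism on
`H^0` -/
lemma propM_zero_singleFunctor_map {P M : A} (π : P ⟶ M) [Epi π] :
    PropM 0 ((DerivedCategory.singleFunctor A 0).map π) := by
  refine ⟨fun i hi => ?_, ?_⟩
  · have h1 : IsZero ((DerivedCategory.homologyFunctor A i).obj
        ((DerivedCategory.singleFunctor A 0).obj P)) :=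
      DerivedCategory.isZero_of_isLE _ 0 i hi
    have h2 : IsZero ((DerivedCategory.homologyFunctor A i).obj
        ((DerivedCategory.singleFunctor A 0).obj M)) :=
      DerivedCategory.isZero_of_isLE _ 0 i hi
    exact ⟨⟨0, h1.eq_of_src _ _, h2.eq_of_src _ _⟩⟩
  · have h := (DerivedCategory.singleFunctorCompHomologyFunctorIso A 0).hom.naturality π
    have h' : (DerivedCategory.homologyFunctor A 0).map ((DerivedCategory.singleFunctor A 0).map π)
        = ((DerivedCategory.singleFunctorCompHomologyFunctorIso A 0).app P).hom ≫ π ≫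
          ((DerivedCategory.singleFunctorCompHomologyFunctorIso A 0).app M).inv := by
      have h2 : (DerivedCategory.homologyFunctor A 0).map
          ((DerivedCategory.singleFunctor A 0).map π) ≫
          ((DerivedCategory.singleFunctorCompHomologyFunctorIso A 0).app M).hom =
          ((DerivedCategory.singleFunctorCompHomologyFunctorIso A 0).app P).hom ≫ π := h
      rw [← Category.assoc, ← h2, Category.assoc, Iso.hom_inv_id, Category.comp_id]
    rw [h']
    infer_instance

end abstract

variable {X : Scheme.{u}}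

/-- a local presentation of a restriction is a local presentation -/
lemma hasPresM_of_resD {U : Scheme.{u}} (j : U ⟶ X) [IsOpenImmersion j] (m : ℤ) (K : DCoh.D X)
    (y : U) (h : HasPresM m ((resD j).obj K) y) : HasPresM m K (j y) := by
  obtain ⟨U', j', hj', ⟨y', rfl⟩, E, α, hE, hα⟩ := h
  haveI := hj'
  exact ⟨U', j' ≫ j, inferInstance, ⟨y', rfl⟩, E, α ≫ ((resDComp j' j).app K).inv, hE,
    propM_comp m hα (propM_of_isIso m _)⟩

/-- restriction of a module placed in degree zero -/
noncomputable def resDSingleIso {U : Scheme.{u}} (j : U ⟶ X) [IsOpenImmersion j] (F : X.Modules) :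
    (resD j).obj (DCoh.inD X F) ≅ DCoh.inD U (F.restrict j) :=
  (resD j).mapIso ((DerivedCategory.singleFunctorIsoCompQ X.Modules 0).app F) ≪≫
    (facD j).app ((HomologicalComplex.single X.Modules (ComplexShape.up ℤ) 0).obj F) ≪≫
    DerivedCategory.Q.mapIso ((HomologicalComplex.singleMapHomologicalComplex
      (Scheme.Modules.restrictFunctor j) (ComplexShape.up ℤ) 0).app F) ≪≫
    ((DerivedCategory.singleFunctorIsoCompQ U.Modules 0).app (F.restrict j)).symm

lemma isStrictlyPerfect_single (P : X.Modules) (hP : FlatMod.IsFinLocFree P) :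
    DCoh.IsStrictlyPerfect ((HomologicalComplex.single X.Modules (ComplexShape.up ℤ) 0).obj P) := by
  refine ⟨⟨0, 0, fun i hi => ?_⟩, fun i => ?_⟩
  · exact HomologicalComplex.isZero_single_obj_X _ _ _ _ (by omega)
  · by_cases hi : i = 0
    · subst hi
      exact Groth.Agent.Lib.Helper1.FLF.isFinLocFree_of_iso
        (HomologicalComplex.singleObjXSelf (ComplexShape.up ℤ) 0 P).symm hP
    · exact isFinLocFree_of_isZero _ (HomologicalComplex.isZero_single_obj_X _ _ _ _ hi)

/-- a module which is near `j y` a quotient of a finite locally free module is `0`-pseudo-coherent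
near `j y` -/
lemma hasPresM_zero_of_epi {U : Scheme.{u}} (j : U ⟶ X) [IsOpenImmersion j] (M : X.Modules)
    (P : U.Modules) (hP : FlatMod.IsFinLocFree P) (π : P ⟶ M.restrict j) [Epi π] (y : U) :
    HasPresM 0 (DCoh.inD X M) (j y) := by
  refine ⟨U, j, inferInstance, ⟨y, rfl⟩,
    (HomologicalComplex.single U.Modules (ComplexShape.up ℤ) 0).obj P,
    ((DerivedCategory.singleFunctorIsoCompQ U.Modules 0).app P).inv ≫
      (DerivedCategory.singleFunctor U.Modules 0).map π ≫ (resDSingleIso j M).inv,
    isStrictlyPerfect_single P hP, ?_⟩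
  exact propM_comp 0 (propM_of_isIso 0 _)
    (propM_comp 0 (propM_zero_singleFunctor_map π) (propM_of_isIso 0 _))

/-- a finite locally free module placed in degree zero is `m`-pseudo-coherent for every `m` -/
lemma hasPresM_single_of_isFinLocFree {U : Scheme.{u}} (j : U ⟶ X) [IsOpenImmersion j]
    (M : X.Modules) (hM : FlatMod.IsFinLocFree (M.restrict j)) (m : ℤ) (y : U) :
    HasPresM m (DCoh.inD X M) (j y) := by
  refine ⟨U, j, inferInstance, ⟨y, rfl⟩,
    (HomologicalComplex.single U.Modules (ComplexShape.up ℤ) 0).obj (M.restrict j),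
    ((DerivedCategory.singleFunctorIsoCompQ U.Modules 0).app (M.restrict j)).inv ≫
      (resDSingleIso j M).inv,
    isStrictlyPerfect_single _ hM, propM_of_isIso m _⟩

open Groth.Agent.Lib.Helper20.LocFree in
/-- a free module on a finite type is finite locally free -/
lemma isFinLocFree_free (I : Type u) [Finite I] :
    FlatMod.IsFinLocFree (SheafOfModules.free (R := X.ringCatSheaf) I : X.Modules) := by
  obtain ⟨n, ⟨e⟩⟩ := Finite.exists_equiv_fin I
  let e' : I ≃ ULift.{u} (Fin n) := e.trans Equiv.ulift.symm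
  let iso : (SheafOfModules.free (R := X.ringCatSheaf) I : X.Modules) ≅ FlatMod.freeMod X n :=
    (SheafOfModules.freeFunctor (R := X.ringCatSheaf)).mapIso (Equiv.toIso e') ≪≫
      (freeModIsoFree X n).symm
  exact isFinLocFree_of_retract iso.hom iso.inv iso.hom_inv_id

open Groth.Agent.Lib.Helper23.FinType in
/-- a module of finite type placed in degree zero is `0`-pseudo-coherent -/
theorem hasPresM_zero_of_isFT (F : X.Modules) (hF : CohB1.IsFT F) (x : X) :
    HasPresM 0 (DCoh.inD X F) x := by
  haveI := hF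
  obtain ⟨ι, U, G, hG, hU, -⟩ := exists_isOpenCover_generatingSections F
  have hx : x ∈ (⨆ i, U i : X.Opens) := by rw [hU.iSup_eq_top]; trivial
  obtain ⟨i, hxi⟩ := TopologicalSpace.Opens.mem_iSup.1 hx
  haveI := (hG i).finite
  let π : (SheafOfModules.free (R := ((U i : X.Opens) : Scheme.{u}).ringCatSheaf) (G i).I :
      ((U i : X.Opens) : Scheme.{u}).Modules) ⟶ F.restrict (U i).ι := (G i).π
  have hπ : Epi π := (G i).epi
  exact @hasPresM_zero_of_epi X (U i) (U i).ι _ F _ (isFinLocFree_free (G i).I) π hπ ⟨x, hxi⟩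

/-- global version of `hasPresM_zero_of_epi` -/
lemma hasPresM_zero_of_epi' (M P : X.Modules) (hP : FlatMod.IsFinLocFree P) (π : P ⟶ M) [Epi π]
    (x : X) : HasPresM 0 (DCoh.inD X M) x := by
  haveI : Epi ((Scheme.Modules.restrictFunctor (⊤ : X.Opens).ι).map π) := inferInstance
  exact hasPresM_zero_of_epi (⊤ : X.Opens).ι M _ (isFinLocFree_restrict _ P hP)
    ((Scheme.Modules.restrictFunctor (⊤ : X.Opens).ι).map π) ⟨x, trivial⟩

/-- global version of `hasPresM_single_of_isFinLocFree` -/
lemma hasPresM_single_of_isFinLocFree' (M : X.Modules) (hM : FlatMod.IsFinLocFree M) (m : ℤ)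
    (x : X) : HasPresM m (DCoh.inD X M) x :=
  hasPresM_single_of_isFinLocFree (⊤ : X.Opens).ι M (isFinLocFree_restrict _ M hM) m ⟨x, trivial⟩

open Groth.Agent.Lib.Helper2.FinPres in
/-- a finitely presented module placed in degree zero is `(-1)`-pseudo-coherent -/
theorem hasPresM_neg_one_of_isFP (F : X.Modules) (hF : CohB1.IsFP F) (x : X) :
    HasPresM (-1) (DCoh.inD X F) x := by
  haveI := hF
  obtain ⟨ι, U, P, hP, hU, -⟩ := exists_isOpenCover_presentation_isFinite F
  have hx : x ∈ (⨆ i, U i : X.Opens) := by rw [hU.iSup_eq_top]; trivial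
  obtain ⟨i, hxi⟩ := TopologicalSpace.Opens.mem_iSup.1 hx
  haveI := (hP i).isFiniteType_generators.finite
  haveI := (hP i).isFiniteType_relations.finite
  let π : (SheafOfModules.free (R := ((U i : X.Opens) : Scheme.{u}).ringCatSheaf)
      (P i).generators.I : ((U i : X.Opens) : Scheme.{u}).Modules) ⟶ F.restrict (U i).ι :=
    (P i).generators.π
  have hπ : Epi π := (P i).generators.epi
  let ρ : (SheafOfModules.free (R := ((U i : X.Opens) : Scheme.{u}).ringCatSheaf)
      (P i).relations.I : ((U i : X.Opens) : Scheme.{u}).Modules) ⟶ kernel π :=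
    (P i).relations.π
  have hρ : Epi ρ := (P i).relations.epi
  let S : ShortComplex ((U i : X.Opens) : Scheme.{u}).Modules :=
    ShortComplex.mk (kernel.ι π) π (kernel.condition π)
  have hS : S.ShortExact :=
    { exact := ShortComplex.exact_of_f_is_kernel S (kernelIsKernel π)
      mono_f := inferInstanceAs (Mono (kernel.ι π))
      epi_g := hπ }
  have hT := hS.singleTriangle_distinguished
  have h₁ : HasPresM 0 (DCoh.inD _ (kernel π)) (⟨x, hxi⟩ : ((U i : X.Opens) : Scheme.{u})) :=
    @hasPresM_zero_of_epi' _ (kernel π) _ (isFinLocFree_free (P i).relations.I) ρ hρ _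
  have h₂ : HasPresM (-1) (DCoh.inD _ (SheafOfModules.free (R := ((U i : X.Opens) :
      Scheme.{u}).ringCatSheaf) (P i).generators.I : ((U i : X.Opens) : Scheme.{u}).Modules))
      (⟨x, hxi⟩ : ((U i : X.Opens) : Scheme.{u})) :=
    hasPresM_single_of_isFinLocFree' _ (isFinLocFree_free (P i).generators.I) _ _
  have h₃ : HasPresM (-1) (DCoh.inD _ (F.restrict (U i).ι))
      (⟨x, hxi⟩ : ((U i : X.Opens) : Scheme.{u})) :=
    hasPresM_obj₃ (-1) hS.singleTriangle hT _ (HasPresM.of_le (by norm_num) h₁) h₂
  exact hasPresM_of_resD (U i).ι (-1) (DCoh.inD X F) ⟨x, hxi⟩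
    (HasPresM.of_iso (resDSingleIso (U i).ι F).symm h₃)

lemma isFT_of_iso' {M N : X.Modules} (e : M ≅ N) (h : CohB1.IsFT M) : CohB1.IsFT N := by
  haveI := h
  exact Groth.Agent.Lib.Helper23.FinType.isFiniteType_of_iso e

lemma isFP_of_iso' {M N : X.Modules} (e : M ≅ N) (h : CohB1.IsFP M) : CohB1.IsFP N :=
  (SheafOfModules.isFinitePresentation X.ringCatSheaf).prop_of_iso e h

/-- S6518 -/
theorem isPseudoCoherentD_single_iff (F : X.Modules) :
    (DCoh.IsPseudoCoherentD 0 (DCoh.inD X F) ↔ CohB1.IsFT F) ∧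
    (DCoh.IsPseudoCoherentD (-1) (DCoh.inD X F) ↔ CohB1.IsFP F) := by
  have hv : ∀ i : ℤ, 0 < i → IsZero (DCoh.HD (DCoh.inD X F) i) := fun i hi =>
    DerivedCategory.isZero_of_isLE _ 0 i hi
  let e : DCoh.HD (DCoh.inD X F) 0 ≅ F :=
    (DerivedCategory.singleFunctorCompHomologyFunctorIso X.Modules 0).app F
  refine ⟨⟨fun h => ?_, fun h => ?_⟩, ⟨fun h => ?_, fun h => ?_⟩⟩
  · exact isFT_of_iso' e
      (isFT_HD_of_hasPresM 0 _ ((isPseudoCoherentD_iff_hasPresM 0 _).1 h) hv)
  · exact (isPseudoCoherentD_iff_hasPresM 0 _).2 (hasPresM_zero_of_isFT F h)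
  · have h1 := isFP_HD_of_hasPresM (-1) _ ((isPseudoCoherentD_iff_hasPresM (-1) _).1 h)
      (fun i hi => hv i (by omega))
    have h2 : (-1 : ℤ) + 1 = 0 := by norm_num
    rw [h2] at h1
    exact isFP_of_iso' e h1
  · exact (isPseudoCoherentD_iff_hasPresM (-1) _).2 (hasPresM_neg_one_of_isFP F h)

end Groth.Agent.Lib.Helper1.SPL
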