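import Mathlib
import Groth.Agent.Lib.Helper1PC10
import Groth.Agent.Lib.Helper1Tor
import Groth.Agent.Lib.Helper1KBC2
import Groth.Agent.Lib.Helper1Sky9
set_option backward.isDefEq.respectTransparency.types false

/-!
# Stalkwise flat modules: kernels, extensions, cycles of exact complexes (helper1)
-/

set_option autoImplicit false
set_option linter.style.haveILetI false
universe u
open CategoryTheory CategoryTheory.Limits AlgebraicGeometry

namespace Groth.Agent.Lib.Helper1.SPL

open Groth.Agent.Lib.Helper1.Sky Groth.Agent.Lib.Helper1.StalkTensor Groth.Agent.Lib.Helper1.CI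
  Groth.Agent.Lib.Helper1.KBC

variable {X : Scheme.{u}}

lemma flat_ker' {R : Type u} [CommRing R] {A B C : ModuleCat.{u} R} (f : A ⟶ B) (g : B ⟶ C)
    (hi : Function.Injective f.hom) (hs : Function.Surjective g.hom)
    (hex : Function.Exact f.hom g.hom) (hB : Module.Flat R B) (hC : Module.Flat R C) :
    Module.Flat R A := by
  haveI := hB
  haveI := hC
  exact Groth.Agent.Lib.Helper1.Tor.flat_ker f.hom g.hom hi hs hex

lemma flat_mid' {R : Type u} [CommRing R] {A B C : ModuleCat.{u} R} (f : A ⟶ B) (g : B ⟶ C)
    (hi : Function.Injective f.hom) (hs : Function.Surjective g.hom)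
    (hex : Function.Exact f.hom g.hom) (hA : Module.Flat R A) (hC : Module.Flat R C) :
    Module.Flat R B := by
  haveI := hA
  haveI := hC
  exact Groth.Agent.Lib.Helper1.Tor.flat_mid f.hom g.hom hi hs hex

/-- in a short exact sequence with flat middle and right terms the left term is flat -/
theorem isFlat_of_shortExact_left (S : ShortComplex X.Modules) (hS : S.ShortExact)
    (h2 : FlatMod.IsFlat S.X₂) (h3 : FlatMod.IsFlat S.X₃) : FlatMod.IsFlat S.X₁ := by
  intro x
  obtain ⟨hi, hs, hex⟩ := stalk_shortExact x S hS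
  exact flat_ker' ((stalkFun x).map S.f) ((stalkFun x).map S.g) hi hs hex (h2 x) (h3 x)

/-- in a short exact sequence with flat outer terms the middle term is flat -/
theorem isFlat_of_shortExact_mid (S : ShortComplex X.Modules) (hS : S.ShortExact)
    (h1 : FlatMod.IsFlat S.X₁) (h3 : FlatMod.IsFlat S.X₃) : FlatMod.IsFlat S.X₂ := by
  intro x
  obtain ⟨hi, hs, hex⟩ := stalk_shortExact x S hS
  exact flat_mid' ((stalkFun x).map S.f) ((stalkFun x).map S.g) hi hs hex (h1 x) (h3 x)

/-- the kernel of an epimorphism between flat modules is flat -/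
theorem isFlat_kernel {P Q : X.Modules} (φ : P ⟶ Q) [Epi φ] (hP : FlatMod.IsFlat P)
    (hQ : FlatMod.IsFlat Q) : FlatMod.IsFlat (kernel φ) := by
  let S : ShortComplex X.Modules := ShortComplex.mk (kernel.ι φ) φ (kernel.condition φ)
  have hS : S.ShortExact :=
    { exact := ShortComplex.exact_of_f_is_kernel S (kernelIsKernel φ)
      mono_f := inferInstanceAs (Mono (kernel.ι φ))
      epi_g := inferInstanceAs (Epi φ) }
  exact isFlat_of_shortExact_left S hS hP hQ

/-- a binary biproduct of flat modules is flat -/
theorem isFlat_biprod (A B : X.Modules) (hA : FlatMod.IsFlat A) (hB : FlatMod.IsFlat B) :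
    FlatMod.IsFlat (A ⊞ B) := by
  let S : ShortComplex X.Modules := ShortComplex.mk (biprod.inl : A ⟶ A ⊞ B) biprod.snd (by simp)
  have hS : S.ShortExact := (ShortComplex.Splitting.ofHasBinaryBiproduct A B).shortExact
  exact isFlat_of_shortExact_mid S hS hA hB

/-- restriction to an open subscheme preserves flatness -/
theorem isFlat_restrict {U : Scheme.{u}} (j : U ⟶ X) [IsOpenImmersion j] (M : X.Modules)
    (hM : FlatMod.IsFlat M) : FlatMod.IsFlat (M.restrict j) :=
  flatMod_isFlat_of_iso ((Scheme.Modules.restrictFunctorIsoPullback j).app M).symm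
    (isFlat_pullback j M hM)

/-- the cycles of a bounded above complex with flat terms in degrees `≥ n` which is exact in
degrees `> n` are flat in degrees `≥ n` -/
theorem isFlat_cycles (E : CochainComplex X.Modules ℤ) (n b : ℤ)
    (hfl : ∀ i, n ≤ i → FlatMod.IsFlat (E.X i)) (hb : ∀ i, b < i → IsZero (E.X i))
    (hex : ∀ i, n < i → IsZero (E.homology i)) :
    ∀ i, n ≤ i → FlatMod.IsFlat (E.cycles i) := by
  have key : ∀ k : ℕ, ∀ i : ℤ, n ≤ i → b + 1 ≤ i + k → FlatMod.IsFlat (E.cycles i) := by
    intro k
    induction k with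
    | zero =>
      intro i _ hi
      have hz : IsZero (E.X i) := hb i (by push_cast at hi; omega)
      exact flatMod_isFlat_of_isZero _ (IsZero.of_mono (E.iCycles i) hz)
    | succ k ih =>
      intro i hni hi
      have h1 : FlatMod.IsFlat (E.cycles (i + 1)) :=
        ih (i + 1) (by omega) (by push_cast at hi ⊢; omega)
      haveI : Epi (E.toCycles i (i + 1)) :=
        Preadditive.epi_of_isZero_cokernel' _
          (E.homologyIsCokernel i (i + 1) (by simp)) (hex (i + 1) (by omega))
      have h2 := isFlat_kernel (E.toCycles i (i + 1)) (hfl i hni) h1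
      refine flatMod_isFlat_of_iso ?_ h2
      have e1 : kernel (E.toCycles i (i + 1)) ≅ kernel (E.d i (i + 1)) := by
        have : E.toCycles i (i + 1) ≫ E.iCycles (i + 1) = E.d i (i + 1) := E.toCycles_i i (i + 1)
        exact (kernelCompMono (E.toCycles i (i + 1)) (E.iCycles (i + 1))).symm ≪≫
          kernelIsoOfEq this
      exact e1 ≪≫ (IsLimit.conePointUniqueUpToIso (kernelIsKernel (E.d i (i + 1)))
        (E.cyclesIsKernel i (i + 1) (by simp)))
  intro i hi
  exact key (b + 1 - i).toNat i hi (by
    have := Int.self_le_toNat (b + 1 - i)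
    omega)

/-- the leftmost term of a bounded acyclic complex whose other terms are flat is flat -/
theorem isFlat_X_of_acyclic (E : CochainComplex X.Modules ℤ) (n b : ℤ)
    (hfl : ∀ i, n < i → FlatMod.IsFlat (E.X i)) (hb : ∀ i, b < i → IsZero (E.X i))
    (hz : IsZero (E.X (n - 1))) (hex : ∀ i, n ≤ i → IsZero (E.homology i)) :
    FlatMod.IsFlat (E.X n) := by
  have h1 : FlatMod.IsFlat (E.cycles (n + 1)) :=
    isFlat_cycles E (n + 1) b (fun i hi => hfl i (by omega)) hb (fun i hi => hex i (by omega))
      (n + 1) le_rfl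
  haveI : Epi (E.toCycles n (n + 1)) :=
    Preadditive.epi_of_isZero_cokernel' _
      (E.homologyIsCokernel n (n + 1) (by simp)) (hex (n + 1) (by omega))
  -- the cycles in degree `n` vanish
  have hc : IsZero (E.cycles n) := by
    haveI : Epi (E.toCycles (n - 1) n) :=
      Preadditive.epi_of_isZero_cokernel' _
        (E.homologyIsCokernel (n - 1) n (by simp)) (hex n le_rfl)
    exact IsZero.of_epi (E.toCycles (n - 1) n) hz
  haveI : Mono (E.toCycles n (n + 1)) := by
    have e1 : kernel (E.toCycles n (n + 1)) ≅ E.cycles n := by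
      have : E.toCycles n (n + 1) ≫ E.iCycles (n + 1) = E.d n (n + 1) := E.toCycles_i n (n + 1)
      exact (kernelCompMono (E.toCycles n (n + 1)) (E.iCycles (n + 1))).symm ≪≫
        kernelIsoOfEq this ≪≫ (IsLimit.conePointUniqueUpToIso (kernelIsKernel (E.d n (n + 1)))
        (E.cyclesIsKernel n (n + 1) (by simp)))
    exact Preadditive.mono_of_isZero_kernel _ (IsZero.of_iso hc e1)
  haveI : IsIso (E.toCycles n (n + 1)) := isIso_of_mono_of_epi _
  exact flatMod_isFlat_of_iso (asIso (E.toCycles n (n + 1))).symm h1

end Groth.Agent.Lib.Helper1.SPL
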