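import Mathlib
import Groth.Agent.Lib.Helper1PC11
import Groth.Agent.Lib.Helper2LocFree
set_option backward.isDefEq.respectTransparency.types false

/-!
# Perfectness from flat amplitude and pseudo-coherence (helper1)
-/

set_option autoImplicit false
set_option linter.style.haveILetI false
universe u
open CategoryTheory CategoryTheory.Limits AlgebraicGeometry Pretriangulated

attribute [local instance] HasDerivedCategory.standard

namespace Groth.Agent.Lib.Helper1.SPL

open Groth.Agent.Lib.Helper1.Sky Groth.Agent.Lib.Helper1.CI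

variable {X : Scheme.{u}}

/-- a module which is the cokernel of a map of finite locally free modules is finitely presented -/
theorem isFP_of_cokernel {P₁ P₀ M : X.Modules} (f : P₁ ⟶ P₀) (π : P₀ ⟶ M) (w : f ≫ π = 0)
    (h1 : FlatMod.IsFinLocFree P₁) (h0 : FlatMod.IsFinLocFree P₀)
    (hex : (ShortComplex.mk f π w).Exact) [Epi π] : CohB1.IsFP M := by
  refine isFP_of_local_cokernel M (fun x => ?_)
  haveI : Epi ((Scheme.Modules.restrictFunctor (⊤ : X.Opens).ι).map π) := inferInstance
  exact ⟨(⊤ : X.Opens), (⊤ : X.Opens).ι, inferInstance, ⟨⟨x, trivial⟩, rfl⟩, _, _,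
    (Scheme.Modules.restrictFunctor (⊤ : X.Opens).ι).map f,
    (Scheme.Modules.restrictFunctor (⊤ : X.Opens).ι).map π,
    ((ShortComplex.mk f π w).map (Scheme.Modules.restrictFunctor (⊤ : X.Opens).ι)).zero,
    isFinLocFree_restrict _ _ h1, isFinLocFree_restrict _ _ h0,
    hex.map (Scheme.Modules.restrictFunctor (⊤ : X.Opens).ι), inferInstance⟩

/-- a flat module which is the cokernel of a map of finite locally free modules is finite locally
free -/
theorem isFinLocFree_of_cokernel_of_isFlat {P₁ P₀ M : X.Modules} (f : P₁ ⟶ P₀) (π : P₀ ⟶ M)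
    (w : f ≫ π = 0) (h1 : FlatMod.IsFinLocFree P₁) (h0 : FlatMod.IsFinLocFree P₀)
    (hex : (ShortComplex.mk f π w).Exact) [Epi π] (hfl : FlatMod.IsFlat M) :
    FlatMod.IsFinLocFree M := by
  have hfp : CohB1.IsFP M := isFP_of_cokernel f π w h1 h0 hex
  haveI : SheafOfModules.IsFinitePresentation (R := X.ringCatSheaf) M := hfp
  haveI : M.IsQuasicoherent := inferInstance
  intro x
  obtain ⟨D, m, hxD, h⟩ :=
    Groth.Agent.Lib.Helper2.LocFree.exists_restrict_iso_freeMod_of_isFlatAt M x (hfl x)
  exact ⟨D, m, hxD, h⟩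

/-- an acyclic complex in the derived category has vanishing homology -/
lemma isZero_homology_of_isIso_Q_map {A : Type*} [Category A] [Abelian A]
    [HasDerivedCategory A] {K L : CochainComplex A ℤ} (φ : K ⟶ L)
    [IsIso (DerivedCategory.Q.map φ)] (i : ℤ) :
    IsZero ((CochainComplex.mappingCone φ).homology i) := by
  have hT := DerivedCategory.mappingCone_triangle_distinguished φ
  have h1 := (propM_iff_of_distTriang i _ hT).1
    (propM_of_isIso i (DerivedCategory.Q.map φ)) i le_rfl
  exact IsZero.of_iso h1 ((DerivedCategory.homologyFunctorFactors A i).app _).symm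

/-- the core lemma: a strictly perfect complex mapping to a bounded flat complex placed in
degrees `≥ a` by a map which is a quasi-isomorphism in degrees `≥ a` has strictly perfect
canonical truncation, which is quasi-isomorphic to the flat complex -/
theorem isStrictlyPerfect_truncGE_of_flat (P F : CochainComplex X.Modules ℤ)
    (hP : DCoh.IsStrictlyPerfect P) (a b : ℤ) (hFv : DCoh.VanishesOutside F a b)
    (hFfl : ∀ i : ℤ, FlatMod.IsFlat (F.X i)) (β : P ⟶ F) (hβ : ∀ i : ℤ, a ≤ i → QuasiIsoAt β i) :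
    DCoh.IsStrictlyPerfect (P.truncGE a) ∧
      Nonempty (DerivedCategory.Q.obj (P.truncGE a) ≅ DerivedCategory.Q.obj F) := by
  obtain ⟨⟨aP, bP, hPv⟩, hPfl⟩ := id hP
  haveI : F.IsStrictlyGE a := (CochainComplex.isStrictlyGE_iff _ _).2 (fun i hi => hFv i (Or.inl hi))
  haveI : QuasiIso (CochainComplex.truncGEMap β a) :=
    (CochainComplex.quasiIso_truncGEMap_iff β a).2 hβ
  let p : P.truncGE a ⟶ F := CochainComplex.truncGEMap β a ≫ inv (F.πTruncGE a)
  haveI : QuasiIso p := by dsimp only [p]; infer_instance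
  haveI : IsIso (DerivedCategory.Q.map p) := inferInstance
  let C := CochainComplex.mappingCone p
  have eC : ∀ i j : ℤ, i + 1 = j → (C.X i ≅ (P.truncGE a).X j ⊞ F.X i) := fun i j hij =>
    HomologicalComplex.homotopyCofiber.XIsoBiprod p i j hij
  -- terms of the truncation
  have hτz : ∀ i : ℤ, i < a → IsZero ((P.truncGE a).X i) := fun i hi =>
    CochainComplex.isZero_of_isStrictlyGE _ a i hi
  have hτfl : ∀ i : ℤ, a < i → FlatMod.IsFinLocFree ((P.truncGE a).X i) := fun i hi =>
    Groth.Agent.Lib.Helper1.FLF.isFinLocFree_of_iso (P.truncGEXIso a i hi).symm (hPfl i)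
  -- flatness of the term in degree `a`
  have hflat : FlatMod.IsFlat ((P.truncGE a).X a) := by
    have h1 : FlatMod.IsFlat (C.X (a - 1)) := by
      refine isFlat_X_of_acyclic C (a - 1) (max bP b) (fun i hi => ?_) (fun i hi => ?_) ?_
        (fun i _ => isZero_homology_of_isIso_Q_map p i)
      · refine flatMod_isFlat_of_iso (eC i (i + 1) rfl).symm (isFlat_biprod _ _ ?_ (hFfl i))
        exact isFlat_of_isFinLocFree' _ (hτfl (i + 1) (by omega))
      · refine IsZero.of_iso ?_ (eC i (i + 1) rfl)
        have hbP : bP < i + 1 := by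
          have := le_max_left bP b
          omega
        have z1 : IsZero ((P.truncGE a).X (i + 1)) := by
          rcases lt_trichotomy (i + 1) a with h | h | h
          · exact hτz _ h
          · rw [h]
            exact IsZero.of_iso (IsZero.of_epi (P.pOpcycles a) (hPv a (Or.inr (by omega))))
              (P.truncGEXIsoOpcycles a)
          · exact IsZero.of_iso (hPv (i + 1) (Or.inr hbP)) (P.truncGEXIso a (i + 1) h)
        have z2 : IsZero (F.X i) := hFv i (Or.inr (by
          have := le_max_right bP b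
          omega))
        rw [IsZero.iff_id_eq_zero]
        apply biprod.hom_ext
        · exact z1.eq_of_tgt _ _
        · exact z2.eq_of_tgt _ _
      · refine IsZero.of_iso ?_ (eC (a - 1 - 1) (a - 1) (by omega))
        have z1 : IsZero ((P.truncGE a).X (a - 1)) := hτz _ (by omega)
        have z2 : IsZero (F.X (a - 1 - 1)) := hFv _ (Or.inl (by omega))
        rw [IsZero.iff_id_eq_zero]
        apply biprod.hom_ext
        · exact z1.eq_of_tgt _ _
        · exact z2.eq_of_tgt _ _
    have h2 : FlatMod.IsFlat ((P.truncGE a).X a ⊞ F.X (a - 1)) :=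
      flatMod_isFlat_of_iso (eC (a - 1) a (by omega)) h1
    let S : ShortComplex X.Modules := ShortComplex.mk
      (biprod.inl : (P.truncGE a).X a ⟶ (P.truncGE a).X a ⊞ F.X (a - 1)) biprod.snd (by simp)
    have hS : S.ShortExact := (ShortComplex.Splitting.ofHasBinaryBiproduct _ _).shortExact
    exact isFlat_of_shortExact_left S hS h2
      (flatMod_isFlat_of_isZero _ (hFv _ (Or.inl (by omega))))
  -- the term in degree `a` is finite locally free
  have hflf : FlatMod.IsFinLocFree ((P.truncGE a).X a) := by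
    have hex : (ShortComplex.mk (P.d (a - 1) a) (P.pOpcycles a) (P.d_pOpcycles (a - 1) a)).Exact :=
      ShortComplex.exact_of_g_is_cokernel _ (P.opcyclesIsCokernel (a - 1) a (by simp))
    have h3 : FlatMod.IsFinLocFree (P.opcycles a) :=
      isFinLocFree_of_cokernel_of_isFlat (P.d (a - 1) a) (P.pOpcycles a) (P.d_pOpcycles (a - 1) a)
        (hPfl _) (hPfl _) hex (flatMod_isFlat_of_iso (P.truncGEXIsoOpcycles a) hflat)
    exact Groth.Agent.Lib.Helper1.FLF.isFinLocFree_of_iso (P.truncGEXIsoOpcycles a).symm h3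
  refine ⟨⟨⟨a, bP, fun i hi => ?_⟩, fun i => ?_⟩, ⟨asIso (DerivedCategory.Q.map p)⟩⟩
  · rcases hi with hi | hi
    · exact hτz i hi
    · by_cases h : a < i
      · exact IsZero.of_iso (hPv i (Or.inr hi)) (P.truncGEXIso a i h)
      · by_cases h' : i = a
        · subst h'
          exact IsZero.of_iso (IsZero.of_epi (P.pOpcycles i) (hPv i (Or.inr hi)))
            (P.truncGEXIsoOpcycles i)
        · exact hτz i (by omega)
  · rcases lt_trichotomy i a with h | h | h
    · exact isFinLocFree_of_isZero _ (hτz i h)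
    · subst h
      exact hflf
    · exact hτfl i h

lemma quasiIsoAt_of_isIso_homology_Q_map {A : Type*} [Category A] [Abelian A]
    [HasDerivedCategory A] {K L : CochainComplex A ℤ} (β : K ⟶ L) (i : ℤ)
    (h : IsIso ((DerivedCategory.homologyFunctor A i).map (DerivedCategory.Q.map β))) :
    QuasiIsoAt β i := by
  rw [quasiIsoAt_iff_isIso_homologyMap]
  exact (NatIso.isIso_map_iff (DerivedCategory.homologyFunctorFactors A i) β).1 h

/-- S0913, pointwise: a bounded flat complex which is `(a - 1)`-pseudo-coherent near `x` is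
strictly perfect near `x` -/
theorem hasPres_of_flat_of_hasPresM (F₀ : CochainComplex X.Modules ℤ) (a b : ℤ)
    (hFv : DCoh.VanishesOutside F₀ a b) (hFfl : ∀ i : ℤ, FlatMod.IsFlat (F₀.X i)) (x : X)
    (h : HasPresM (a - 1) (DerivedCategory.Q.obj F₀) x) : HasPres (DerivedCategory.Q.obj F₀) x := by
  obtain ⟨V, hxV, P, α, hP, hα⟩ := h.exists_opens
  let F₁ : CochainComplex (V : Scheme.{u}).Modules ℤ := (resC V.ι).obj F₀
  let α₁ : DerivedCategory.Q.obj P ⟶ DerivedCategory.Q.obj F₁ := α ≫ (facD V.ι).hom.app F₀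
  have hα₁ : PropM (a - 1) α₁ := propM_comp _ hα (propM_of_isIso _ _)
  obtain ⟨V', hyV', β, hβ⟩ := exists_opens_chain_map hP α₁ (⟨x, hxV⟩ : (V : Scheme.{u}))
  have hQβ : PropM (a - 1) (DerivedCategory.Q.map β) := by
    have h1 : DerivedCategory.Q.map β = (facD V'.ι).inv.app P ≫ (resD V'.ι).map α₁ ≫
        (facD V'.ι).hom.app F₁ := by
      rw [hβ]
      simp only [Category.assoc, Iso.inv_hom_id_app, Iso.inv_hom_id_app_assoc]
      exact (Category.comp_id _).symm
    rw [h1]
    exact propM_comp _ (propM_of_isIso _ _)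
      (propM_comp _ (propM_mapDerivedCategory _ _ α₁ hα₁) (propM_of_isIso _ _))
  have hqi : ∀ i : ℤ, a ≤ i → QuasiIsoAt β i := fun i hi =>
    quasiIsoAt_of_isIso_homology_Q_map β i (hQβ.1 i (by omega))
  obtain ⟨hE, ⟨e⟩⟩ := isStrictlyPerfect_truncGE_of_flat ((resC V'.ι).obj P) ((resC V'.ι).obj F₁)
    (isStrictlyPerfect_resC _ _ hP) a b
    (fun i hi => (Scheme.Modules.restrictFunctor V'.ι).map_isZero
      ((Scheme.Modules.restrictFunctor V.ι).map_isZero (hFv i hi)))
    (fun i => isFlat_restrict V'.ι _ (isFlat_restrict V.ι _ (hFfl i))) β hqi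
  refine ⟨(V' : Scheme.{u}), V'.ι ≫ V.ι, inferInstance, ⟨⟨⟨x, hxV⟩, hyV'⟩, rfl⟩, _, hE, ⟨?_⟩⟩
  exact (resDComp V'.ι V.ι).app _ ≪≫ (resD V'.ι).mapIso ((facD V.ι).app F₀) ≪≫
    (facD V'.ι).app F₁ ≪≫ e.symm

/-- S0913 -/
theorem isPerfect_of_flatAmplitude_of_pseudoCoherent (E : DCoh.D X) (a b : ℤ)
    (h1 : DCoh.HasFlatAmplitudeIn a b E) (h2 : DCoh.IsPseudoCoherentD (a - 1) E) :
    DCoh.IsPerfect E := by
  obtain ⟨F₀, hv, hfl, ⟨e⟩⟩ := h1
  rw [isPerfect_iff_hasPres]
  intro x
  have h3 := ((isPseudoCoherentD_iff_hasPresM (a - 1) E).1 h2 x).of_iso e.symm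
  exact (hasPres_of_flat_of_hasPresM F₀ a b hv hfl x h3).of_iso e

end Groth.Agent.Lib.Helper1.SPL
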