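import Mathlib
import Groth.Agent.Lib.Helper1PC12
set_option backward.isDefEq.respectTransparency.types false

/-!
# Perfect iff pseudo-coherent and locally of finite tor dimension (helper1)
-/

set_option autoImplicit false
set_option linter.style.haveILetI false
universe u
open CategoryTheory CategoryTheory.Limits AlgebraicGeometry Pretriangulated

attribute [local instance] HasDerivedCategory.standard

namespace Groth.Agent.Lib.Helper1.SPL

open Groth.Agent.Lib.Helper1.Sky Groth.Agent.Lib.Helper1.CI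

variable {X : Scheme.{u}}

/-- a local presentation restricts to open subschemes -/
lemma hasPresM_resD {U : Scheme.{u}} (j : U ⟶ X) [IsOpenImmersion j] (m : ℤ) (K : DCoh.D X)
    (y : U) (h : HasPresM m K (j y)) : HasPresM m ((resD j).obj K) y := by
  obtain ⟨V₀, hxV₀, hV₀⟩ := h.exists_opens_le
  let W' : U.Opens := j ⁻¹ᵁ V₀
  let k : (W' : Scheme.{u}) ⟶ X := W'.ι ≫ j
  have hk : k.opensRange ≤ V₀ := by
    rintro _ ⟨z, rfl⟩
    exact z.2
  obtain ⟨E, α, hE, hα⟩ := hV₀ k.opensRange hk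
  obtain ⟨α', hα'⟩ := exists_presM_comp k.opensRange.ι k k.isoOpensRange.hom (by simp) m K E α hα
  refine ⟨(W' : Scheme.{u}), W'.ι, inferInstance, ⟨⟨y, hxV₀⟩, rfl⟩, _,
    α' ≫ (resDComp W'.ι j).hom.app K, isStrictlyPerfect_resC _ E hE,
    propM_comp _ hα' (propM_of_isIso _ _)⟩

/-- a local strictly perfect model of a restriction is a local strictly perfect model -/
lemma hasPres_of_resD {U : Scheme.{u}} (j : U ⟶ X) [IsOpenImmersion j] (K : DCoh.D X)
    (y : U) (h : HasPres ((resD j).obj K) y) : HasPres K (j y) := by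
  obtain ⟨U', j', hj', ⟨y', rfl⟩, E, hE, ⟨e⟩⟩ := h
  haveI := hj'
  exact ⟨U', j' ≫ j, inferInstance, ⟨y', rfl⟩, E, hE, ⟨(resDComp j' j).app K ≪≫ e⟩⟩

lemma HasPres.hasPresM {K : DCoh.D X} {x : X} (h : HasPres K x) (m : ℤ) : HasPresM m K x := by
  obtain ⟨U, j, hj, hx, E, hE, ⟨e⟩⟩ := h
  exact ⟨U, j, hj, hx, E, e.inv, hE, propM_of_isIso m _⟩

/-- S0914 -/
theorem isPerfect_iff_pseudoCoherent_locFiniteTorDim (E : DCoh.D X) :
    DCoh.IsPerfect E ↔ (∀ m : ℤ, DCoh.IsPseudoCoherentD m E) ∧ DCoh.LocHasFiniteTorDim E := by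
  constructor
  · intro h
    refine ⟨fun m => (isPseudoCoherentD_iff_hasPresM m E).2
      (fun x => ((isPerfect_iff_hasPres E).1 h x).hasPresM m), fun x => ?_⟩
    obtain ⟨V, hxV, P, hP, ⟨e⟩⟩ := ((isPerfect_iff_hasPres E).1 h x).exists_opens
    obtain ⟨⟨a, b, hv⟩, hfl⟩ := id hP
    refine ⟨V, a, b, hxV, fun F' ⟨eF'⟩ => ⟨P, hv, fun i => isFlat_of_isFinLocFree' _ (hfl i), ⟨?_⟩⟩⟩
    exact e.symm ≪≫ (resD V.ι).mapIso eF'.symm ≪≫ (facD V.ι).app F'
  · rintro ⟨hpc, htd⟩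
    rw [isPerfect_iff_hasPres]
    intro x
    obtain ⟨V, a, b, hxV, hV⟩ := htd x
    let F₀ : CochainComplex X.Modules ℤ := DerivedCategory.Q.objPreimage E
    let e₀ : DCoh.toD X F₀ ≅ E := DerivedCategory.Q.objObjPreimageIso E
    obtain ⟨E', hv, hfl, ⟨e'⟩⟩ := hV F₀ ⟨e₀⟩
    -- `e' : Q E' ≅ Q (F₀|_V)`
    let e'' : DerivedCategory.Q.obj E' ≅ (resD V.ι).obj E :=
      e' ≪≫ ((facD V.ι).app F₀).symm ≪≫ (resD V.ι).mapIso e₀
    have h1 : HasPresM (a - 1) ((resD V.ι).obj E) (⟨x, hxV⟩ : (V : Scheme.{u})) :=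
      hasPresM_resD V.ι (a - 1) E ⟨x, hxV⟩ ((isPseudoCoherentD_iff_hasPresM (a - 1) E).1 (hpc _) x)
    have h2 : HasPres (DerivedCategory.Q.obj E') (⟨x, hxV⟩ : (V : Scheme.{u})) :=
      hasPres_of_flat_of_hasPresM E' a b hv hfl _ (h1.of_iso e''.symm)
    exact hasPres_of_resD V.ι E ⟨x, hxV⟩ (h2.of_iso e'')

end Groth.Agent.Lib.Helper1.SPL
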