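import Mathlib
import Groth.Agent.Lib.Helper1PC13
set_option backward.isDefEq.respectTransparency.types false

/-!
# Direct summands of perfect objects (helper1)
-/

set_option autoImplicit false
set_option linter.style.haveILetI false
universe w v u u'
open CategoryTheory CategoryTheory.Limits AlgebraicGeometry Pretriangulated

attribute [local instance] HasDerivedCategory.standard

namespace Groth.Agent.Lib.Helper1.SPL

open Groth.Agent.Lib.Helper1.Sky Groth.Agent.Lib.Helper1.CI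

section abstract

variable {A : Type u'} [Category.{v} A] [Abelian A] [HasDerivedCategory.{w} A]

lemma isIso_map_biprod_map {C D : Type*} [Category C] [Category D] [Preadditive C] [Preadditive D]
    (F : C ⥤ D) [F.Additive] {K K' L L' : C} [HasBinaryBiproduct K L] [HasBinaryBiproduct K' L']
    (α : K ⟶ K') (β : L ⟶ L') [IsIso (F.map α)] [IsIso (F.map β)] :
    IsIso (F.map (biprod.map α β)) := by
  refine ⟨F.map biprod.fst ≫ inv (F.map α) ≫ F.map biprod.inl +
    F.map biprod.snd ≫ inv (F.map β) ≫ F.map biprod.inr, ?_, ?_⟩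
  · have h1 : F.map (biprod.map α β) ≫ F.map biprod.fst = F.map biprod.fst ≫ F.map α := by
      rw [← F.map_comp, ← F.map_comp, biprod.map_fst]
    have h2 : F.map (biprod.map α β) ≫ F.map biprod.snd = F.map biprod.snd ≫ F.map β := by
      rw [← F.map_comp, ← F.map_comp, biprod.map_snd]
    rw [Preadditive.comp_add, reassoc_of% h1, reassoc_of% h2, IsIso.hom_inv_id_assoc,
      IsIso.hom_inv_id_assoc, ← F.map_comp, ← F.map_comp, ← F.map_add, biprod.total, F.map_id]
  · have h1 : F.map biprod.inl ≫ F.map (biprod.map α β) = F.map α ≫ F.map biprod.inl := by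
      rw [← F.map_comp, ← F.map_comp, biprod.inl_map]
    have h2 : F.map biprod.inr ≫ F.map (biprod.map α β) = F.map β ≫ F.map biprod.inr := by
      rw [← F.map_comp, ← F.map_comp, biprod.inr_map]
    rw [Preadditive.add_comp, Category.assoc, Category.assoc, Category.assoc, Category.assoc, h1, h2,
      IsIso.inv_hom_id_assoc, IsIso.inv_hom_id_assoc, ← F.map_comp, ← F.map_comp, ← F.map_add,
      biprod.total, F.map_id]

lemma epi_map_biprod_map {C D : Type*} [Category C] [Category D] [Preadditive C] [Preadditive D]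
    (F : C ⥤ D) [F.Additive] {K K' L L' : C} [HasBinaryBiproduct K L] [HasBinaryBiproduct K' L']
    (α : K ⟶ K') (β : L ⟶ L') [Epi (F.map α)] [Epi (F.map β)] :
    Epi (F.map (biprod.map α β)) := by
  rw [Preadditive.epi_iff_cancel_zero]
  intro T t ht
  have h1 : F.map biprod.inl ≫ F.map (biprod.map α β) = F.map α ≫ F.map biprod.inl := by
    rw [← F.map_comp, ← F.map_comp, biprod.inl_map]
  have h2 : F.map biprod.inr ≫ F.map (biprod.map α β) = F.map β ≫ F.map biprod.inr := by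
    rw [← F.map_comp, ← F.map_comp, biprod.inr_map]
  have t1 : F.map (biprod.inl : K' ⟶ K' ⊞ L') ≫ t = 0 := by
    rw [← cancel_epi (F.map α), ← Category.assoc, ← h1, Category.assoc, ht, comp_zero, comp_zero]
  have t2 : F.map (biprod.inr : L' ⟶ K' ⊞ L') ≫ t = 0 := by
    rw [← cancel_epi (F.map β), ← Category.assoc, ← h2, Category.assoc, ht, comp_zero, comp_zero]
  calc t = F.map (𝟙 (K' ⊞ L')) ≫ t := by rw [F.map_id, Category.id_comp]
    _ = 0 := by
      rw [← biprod.total, F.map_add, F.map_comp, F.map_comp, Preadditive.add_comp, Category.assoc,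
        Category.assoc, t1, t2, comp_zero, comp_zero, add_zero]

/-- `PropM` for a biproduct of morphisms -/
lemma propM_biprod_map (m : ℤ) {K K' L L' : DerivedCategory A} (α : K ⟶ K') (β : L ⟶ L')
    (hα : PropM m α) (hβ : PropM m β) : PropM m (biprod.map α β) := by
  refine ⟨fun i hi => ?_, ?_⟩
  · haveI := hα.1 i hi
    haveI := hβ.1 i hi
    exact isIso_map_biprod_map _ α β
  · haveI := hα.2
    haveI := hβ.2
    exact epi_map_biprod_map _ α β

/-- a quasi-isomorphism in degrees `≥ a` to a complex placed in degrees `≥ a` induces an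
isomorphism from the canonical truncation in the derived category -/
lemma nonempty_Q_truncGE_iso (P G : CochainComplex A ℤ) (a : ℤ) [G.IsStrictlyGE a] (β : P ⟶ G)
    (hβ : ∀ i : ℤ, a ≤ i → QuasiIsoAt β i) :
    Nonempty (DerivedCategory.Q.obj (P.truncGE a) ≅ DerivedCategory.Q.obj G) := by
  haveI : QuasiIso (CochainComplex.truncGEMap β a) :=
    (CochainComplex.quasiIso_truncGEMap_iff β a).2 hβ
  let p : P.truncGE a ⟶ G := CochainComplex.truncGEMap β a ≫ inv (G.πTruncGE a)
  haveI : QuasiIso p := by dsimp only [p]; infer_instance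
  haveI : IsIso (DerivedCategory.Q.map p) := inferInstance
  exact ⟨asIso (DerivedCategory.Q.map p)⟩

end abstract

variable {X : Scheme.{u}}

/-- the canonical truncation of a strictly perfect complex with flat opcycles is strictly
perfect -/
theorem isStrictlyPerfect_truncGE (P : CochainComplex X.Modules ℤ) (hP : DCoh.IsStrictlyPerfect P)
    (a : ℤ) (hflat : FlatMod.IsFlat (P.opcycles a)) : DCoh.IsStrictlyPerfect (P.truncGE a) := by
  obtain ⟨⟨aP, bP, hPv⟩, hPfl⟩ := id hP
  have hτz : ∀ i : ℤ, i < a → IsZero ((P.truncGE a).X i) := fun i hi =>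
    CochainComplex.isZero_of_isStrictlyGE _ a i hi
  have hτfl : ∀ i : ℤ, a < i → FlatMod.IsFinLocFree ((P.truncGE a).X i) := fun i hi =>
    Groth.Agent.Lib.Helper1.FLF.isFinLocFree_of_iso (P.truncGEXIso a i hi).symm (hPfl i)
  have hflf : FlatMod.IsFinLocFree ((P.truncGE a).X a) := by
    have hex : (ShortComplex.mk (P.d (a - 1) a) (P.pOpcycles a) (P.d_pOpcycles (a - 1) a)).Exact :=
      ShortComplex.exact_of_g_is_cokernel _ (P.opcyclesIsCokernel (a - 1) a (by simp))
    have h3 : FlatMod.IsFinLocFree (P.opcycles a) :=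
      isFinLocFree_of_cokernel_of_isFlat (P.d (a - 1) a) (P.pOpcycles a) (P.d_pOpcycles (a - 1) a)
        (hPfl _) (hPfl _) hex hflat
    exact Groth.Agent.Lib.Helper1.FLF.isFinLocFree_of_iso (P.truncGEXIsoOpcycles a).symm h3
  refine ⟨⟨a, bP, fun i hi => ?_⟩, fun i => ?_⟩
  · rcases hi with hi | hi
    · exact hτz i hi
    · by_cases h : a < i
      · exact IsZero.of_iso (hPv i (Or.inr hi)) (P.truncGEXIso a i h)
      · by_cases h' : i = a
        · subst h'
          exact IsZero.of_iso (IsZero.of_epi (P.pOpcycles i) (hPv i (Or.inr hi)))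
            (P.truncGEXIsoOpcycles i)
        · exact hτz i (by omega)
  · rcases lt_trichotomy i a with h | h | h
    · exact isFinLocFree_of_isZero _ (hτz i h)
    · subst h
      exact hflf
    · exact hτfl i h

lemma flat_retract' {R : Type u} [CommRing R] {A B : ModuleCat.{u} R} (s : A ⟶ B) (r : B ⟶ A)
    (h : s ≫ r = 𝟙 A) (hB : Module.Flat R B) : Module.Flat R A := by
  haveI := hB
  refine Module.Flat.of_retract s.hom r.hom ?_
  ext a
  exact congrArg (fun t => t.hom a) h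

/-- a retract of a flat module is flat -/
theorem isFlat_of_retract {M N : X.Modules} (s : M ⟶ N) (r : N ⟶ M) (h : s ≫ r = 𝟙 M)
    (hN : FlatMod.IsFlat N) : FlatMod.IsFlat M := by
  intro x
  have h' : (stalkFun x).map s ≫ (stalkFun x).map r = 𝟙 _ := by
    rw [← Functor.map_comp, h, CategoryTheory.Functor.map_id]
  exact flat_retract' ((stalkFun x).map s) ((stalkFun x).map r) h' (hN x)

/-- comparison of biproducts under an additive functor -/
noncomputable def mapBiprodIso' {C D : Type*} [Category C] [Category D] [Preadditive C]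
    [Preadditive D] (F : C ⥤ D) [F.Additive] (K L : C) [HasBinaryBiproduct K L]
    [HasBinaryBiproduct (F.obj K) (F.obj L)] : F.obj K ⊞ F.obj L ≅ F.obj (K ⊞ L) where
  hom := biprod.desc (F.map biprod.inl) (F.map biprod.inr)
  inv := biprod.lift (F.map biprod.fst) (F.map biprod.snd)
  hom_inv_id := by
    apply biprod.hom_ext' <;> apply biprod.hom_ext <;> simp [← F.map_comp]
  inv_hom_id := by
    rw [biprod.lift_desc, ← F.map_comp, ← F.map_comp, ← F.map_add, biprod.total, F.map_id]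

/-- a retract of an object with vanishing image under a functor has vanishing image -/
lemma isZero_map_of_retract {C D : Type*} [Category C] [Category D] [HasZeroMorphisms D]
    (F : C ⥤ D) {K M : C} (s : K ⟶ M) (r : M ⟶ K) (h : s ≫ r = 𝟙 K) (hM : IsZero (F.obj M)) :
    IsZero (F.obj K) := by
  rw [IsZero.iff_id_eq_zero, ← F.map_id, ← h, F.map_comp, hM.eq_of_tgt (F.map s) 0, zero_comp]

/-- if `K` has no cohomology below `a` near `x` and receives there a map from a strictly perfect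
complex with flat opcycles in degree `a` which is an isomorphism on `H^i`, `i ≥ a`, then `K` is
locally strictly perfect near `x` -/
theorem hasPres_of_flat_opcycles (K : DCoh.D X) (a : ℤ) {U : Scheme.{u}} (j : U ⟶ X)
    [IsOpenImmersion j] (y : U)
    (hK : ∀ i : ℤ, i < a → IsZero ((DerivedCategory.homologyFunctor _ i).obj ((resD j).obj K)))
    (P : CochainComplex U.Modules ℤ) (hP : DCoh.IsStrictlyPerfect P)
    (α : DerivedCategory.Q.obj P ⟶ (resD j).obj K) (hα : PropM (a - 1) α)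
    (hfl : FlatMod.IsFlat (P.opcycles a)) : HasPres K (j y) := by
  haveI : ((resD j).obj K).IsGE a := (DerivedCategory.isGE_iff _ _).2 (fun i hi => hK i hi)
  obtain ⟨G, hG, ⟨eG⟩⟩ := DerivedCategory.exists_iso_Q_obj_of_isGE ((resD j).obj K) a
  let α' : DerivedCategory.Q.obj P ⟶ DerivedCategory.Q.obj G := α ≫ eG.hom
  have hα' : PropM (a - 1) α' := propM_comp _ hα (propM_of_isIso _ _)
  obtain ⟨V', hyV', β, hβ⟩ := exists_opens_chain_map hP α' y
  have hQβ : PropM (a - 1) (DerivedCategory.Q.map β) := by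
    have h1 : DerivedCategory.Q.map β = (facD V'.ι).inv.app P ≫ (resD V'.ι).map α' ≫
        (facD V'.ι).hom.app G := by
      rw [hβ]
      simp only [Category.assoc, Iso.inv_hom_id_app, Iso.inv_hom_id_app_assoc]
      exact (Category.comp_id _).symm
    rw [h1]
    exact propM_comp _ (propM_of_isIso _ _)
      (propM_comp _ (propM_mapDerivedCategory _ _ α' hα') (propM_of_isIso _ _))
  have hqi : ∀ i : ℤ, a ≤ i → QuasiIsoAt β i := fun i hi =>
    quasiIsoAt_of_isIso_homology_Q_map β i (hQβ.1 i (by omega))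
  haveI : ((resC V'.ι).obj G).IsStrictlyGE a :=
    (CochainComplex.isStrictlyGE_iff _ _).2 (fun i hi =>
      (Scheme.Modules.restrictFunctor V'.ι).map_isZero (G.isZero_of_isStrictlyGE a i hi))
  obtain ⟨e⟩ := nonempty_Q_truncGE_iso ((resC V'.ι).obj P) ((resC V'.ι).obj G) a β hqi
  have hfl' : FlatMod.IsFlat (((resC V'.ι).obj P).opcycles a) :=
    flatMod_isFlat_of_iso ((P.sc a).mapOpcyclesIso (Scheme.Modules.restrictFunctor V'.ι)).symm
      (isFlat_restrict V'.ι _ hfl)
  have hE := isStrictlyPerfect_truncGE ((resC V'.ι).obj P) (isStrictlyPerfect_resC _ _ hP) a hfl'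
  refine ⟨(V' : Scheme.{u}), V'.ι ≫ j, inferInstance, ⟨⟨y, hyV'⟩, rfl⟩, _, hE, ⟨?_⟩⟩
  exact (resDComp V'.ι j).app K ≪≫ (resD V'.ι).mapIso eG ≪≫ (facD V'.ι).app G ≪≫ e.symm

/-- a biproduct of strictly perfect complexes is strictly perfect -/
lemma isStrictlyPerfect_biprod (P₁ P₂ : CochainComplex X.Modules ℤ)
    (h₁ : DCoh.IsStrictlyPerfect P₁) (h₂ : DCoh.IsStrictlyPerfect P₂) :
    DCoh.IsStrictlyPerfect (P₁ ⊞ P₂) := by
  obtain ⟨⟨a1, b1, v1⟩, f1⟩ := h₁
  obtain ⟨⟨a2, b2, v2⟩, f2⟩ := h₂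
  have e : ∀ i : ℤ, P₁.X i ⊞ P₂.X i ≅ (P₁ ⊞ P₂).X i := fun i =>
    mapBiprodIso' (HomologicalComplex.eval X.Modules (ComplexShape.up ℤ) i) P₁ P₂
  refine ⟨⟨min a1 a2, max b1 b2, fun i hi => ?_⟩, fun i => ?_⟩
  · refine IsZero.of_iso ?_ (e i).symm
    have z1 : IsZero (P₁.X i) := v1 i (by omega)
    have z2 : IsZero (P₂.X i) := v2 i (by omega)
    rw [IsZero.iff_id_eq_zero]
    apply biprod.hom_ext
    · exact z1.eq_of_tgt _ _
    · exact z2.eq_of_tgt _ _
  · exact Groth.Agent.Lib.Helper1.FLF.isFinLocFree_of_iso (e i)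
      (Groth.Agent.S6516.isFinLocFree_biprod _ _ (f1 i) (f2 i))

/-- S0924, pointwise -/
theorem hasPres_of_biprod (K L : DCoh.D X) [HasBinaryBiproduct K L] (x : X)
    (h : HasPres (K ⊞ L) x) : HasPres K x := by
  obtain ⟨V₁, hx₁, P, hP, ⟨e⟩⟩ := h.exists_opens
  obtain ⟨⟨a, b, hv⟩, hfl⟩ := id hP
  have hKm : HasPresM (a - 1) K x := (hasPresM_of_biprod (a - 1) K L x (h.hasPresM _)).1
  have hLm : HasPresM (a - 1) L x := (hasPresM_of_biprod (a - 1) K L x (h.hasPresM _)).2
  obtain ⟨V₂, hx₂, hV₂⟩ := hKm.exists_opens_le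
  obtain ⟨V₃, hx₃, hV₃⟩ := hLm.exists_opens_le
  have hW₁ : V₁ ⊓ V₂ ⊓ V₃ ≤ V₁ := inf_le_left.trans inf_le_left
  obtain ⟨PK, αK, hPK, hαK⟩ := hV₂ (V₁ ⊓ V₂ ⊓ V₃) (inf_le_left.trans inf_le_right)
  obtain ⟨PL, αL, hPL, hαL⟩ := hV₃ (V₁ ⊓ V₂ ⊓ V₃) inf_le_right
  obtain ⟨eW⟩ := nonempty_pres_comp V₁.ι (V₁ ⊓ V₂ ⊓ V₃).ι (X.homOfLE hW₁) (by simp) (K ⊞ L) P e
  have hxW : x ∈ V₁ ⊓ V₂ ⊓ V₃ := ⟨⟨hx₁, hx₂⟩, hx₃⟩
  -- the map from the biproduct of the two presentations
  let γ : DerivedCategory.Q.obj (PK ⊞ PL) ⟶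
      DerivedCategory.Q.obj ((resC (X.homOfLE hW₁)).obj P) :=
    (mapBiprodIso' DerivedCategory.Q PK PL).inv ≫ biprod.map αK αL ≫
      (mapBiprodIso' (resD (V₁ ⊓ V₂ ⊓ V₃).ι) K L).hom ≫ eW.hom
  have hγ : PropM (a - 1) γ :=
    propM_comp _ (propM_of_isIso _ _) (propM_comp _ (propM_biprod_map _ αK αL hαK hαL)
      (propM_of_isIso _ _))
  have hPKL := isStrictlyPerfect_biprod PK PL hPK hPL
  obtain ⟨V', hyV', β, hβ⟩ := exists_opens_chain_map hPKL γ
    (⟨x, hxW⟩ : ((V₁ ⊓ V₂ ⊓ V₃ : X.Opens) : Scheme.{u}))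
  have hQβ : PropM (a - 1) (DerivedCategory.Q.map β) := by
    have h1 : DerivedCategory.Q.map β = (facD V'.ι).inv.app _ ≫ (resD V'.ι).map γ ≫
        (facD V'.ι).hom.app _ := by
      rw [hβ]
      simp only [Category.assoc, Iso.inv_hom_id_app, Iso.inv_hom_id_app_assoc]
      exact (Category.comp_id _).symm
    rw [h1]
    exact propM_comp _ (propM_of_isIso _ _)
      (propM_comp _ (propM_mapDerivedCategory _ _ γ hγ) (propM_of_isIso _ _))
  have hqi : ∀ i : ℤ, a ≤ i → QuasiIsoAt β i := fun i hi =>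
    quasiIsoAt_of_isIso_homology_Q_map β i (hQβ.1 i (by omega))
  -- the opcycles of the biproduct are finite locally free
  obtain ⟨hE, -⟩ := isStrictlyPerfect_truncGE_of_flat ((resC V'.ι).obj (PK ⊞ PL))
    ((resC V'.ι).obj ((resC (X.homOfLE hW₁)).obj P)) (isStrictlyPerfect_resC _ _ hPKL) a b
    (fun i hi => (Scheme.Modules.restrictFunctor V'.ι).map_isZero
      ((Scheme.Modules.restrictFunctor (X.homOfLE hW₁)).map_isZero (hv i hi)))
    (fun i => isFlat_restrict V'.ι _ (isFlat_restrict (X.homOfLE hW₁) _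
      (isFlat_of_isFinLocFree' _ (hfl i)))) β hqi
  have hop : FlatMod.IsFlat (((resC V'.ι).obj (PK ⊞ PL)).opcycles a) :=
    flatMod_isFlat_of_iso (((resC V'.ι).obj (PK ⊞ PL)).truncGEXIsoOpcycles a)
      (isFlat_of_isFinLocFree' _ (hE.2 a))
  -- the opcycles of `PK` are a retract
  have hopK : FlatMod.IsFlat (((resC V'.ι).obj PK).opcycles a) := by
    refine isFlat_of_retract
      (HomologicalComplex.opcyclesMap ((resC V'.ι).map (biprod.inl : PK ⟶ PK ⊞ PL)) a)
      (HomologicalComplex.opcyclesMap ((resC V'.ι).map (biprod.fst : PK ⊞ PL ⟶ PK)) a) ?_ hop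
    rw [← HomologicalComplex.opcyclesMap_comp, ← Functor.map_comp, biprod.inl_fst,
      CategoryTheory.Functor.map_id, HomologicalComplex.opcyclesMap_id]
  -- vanishing of the cohomology of `K` below `a`
  have hvan : ∀ i : ℤ, i < a → IsZero ((DerivedCategory.homologyFunctor _ i).obj
      ((resD (V'.ι ≫ (V₁ ⊓ V₂ ⊓ V₃).ι)).obj K)) := by
    intro i hi
    refine isZero_map_of_retract (resD (V'.ι ≫ (V₁ ⊓ V₂ ⊓ V₃).ι) ⋙
      DerivedCategory.homologyFunctor _ i) (biprod.inl : K ⟶ K ⊞ L) biprod.fst biprod.inl_fst ?_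
    change IsZero ((DerivedCategory.homologyFunctor _ i).obj
      ((resD (V'.ι ≫ (V₁ ⊓ V₂ ⊓ V₃).ι)).obj (K ⊞ L)))
    have e1 : (resD (V'.ι ≫ (V₁ ⊓ V₂ ⊓ V₃).ι)).obj (K ⊞ L) ≅
        DerivedCategory.Q.obj ((resC V'.ι).obj ((resC (X.homOfLE hW₁)).obj P)) :=
      (resDComp V'.ι (V₁ ⊓ V₂ ⊓ V₃).ι).app (K ⊞ L) ≪≫ (resD V'.ι).mapIso eW ≪≫
        (facD V'.ι).app _
    refine IsZero.of_iso ?_ ((DerivedCategory.homologyFunctor _ i).mapIso e1 ≪≫
      (DerivedCategory.homologyFunctorFactors _ i).app _)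
    have hz : IsZero (((resC V'.ι).obj ((resC (X.homOfLE hW₁)).obj P)).X i) :=
      (Scheme.Modules.restrictFunctor V'.ι).map_isZero
        ((Scheme.Modules.restrictFunctor (X.homOfLE hW₁)).map_isZero (hv i (Or.inl hi)))
    exact ShortComplex.isZero_homology_of_isZero_X₂ _ hz
  -- conclusion
  let αK' : DerivedCategory.Q.obj ((resC V'.ι).obj PK) ⟶
      (resD (V'.ι ≫ (V₁ ⊓ V₂ ⊓ V₃).ι)).obj K :=
    (facD V'.ι).inv.app PK ≫ (resD V'.ι).map αK ≫
      (resDComp V'.ι (V₁ ⊓ V₂ ⊓ V₃).ι).inv.app K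
  have hαK' : PropM (a - 1) αK' :=
    propM_comp _ (propM_of_isIso _ _)
      (propM_comp _ (propM_mapDerivedCategory _ _ αK hαK) (propM_of_isIso _ _))
  exact hasPres_of_flat_opcycles K a (V'.ι ≫ (V₁ ⊓ V₂ ⊓ V₃).ι) ⟨⟨x, hxW⟩, hyV'⟩ hvan
    ((resC V'.ι).obj PK) (isStrictlyPerfect_resC _ _ hPK) αK' hαK' hopK

/-- S0924 -/
theorem isPerfect_of_biprod (K L : DCoh.D X) [HasBinaryBiproduct K L]
    (h : DCoh.IsPerfect (K ⊞ L)) : DCoh.IsPerfect K ∧ DCoh.IsPerfect L := by
  have h' := (isPerfect_iff_hasPres _).1 h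
  refine ⟨(isPerfect_iff_hasPres K).2 (fun x => hasPres_of_biprod K L x (h' x)), ?_⟩
  haveI : HasBinaryBiproduct L K := inferInstance
  exact (isPerfect_iff_hasPres L).2 (fun x => hasPres_of_biprod L K x
    ((h' x).of_iso (biprod.braiding K L)))

end Groth.Agent.Lib.Helper1.SPL
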