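import Mathlib
import Groth.Agent.Lib.Helper1PC14
import Groth.Agent.Lib.Helper23UnitStalk
set_option backward.isDefEq.respectTransparency.types false

/-!
# The locus where the cohomology sheaves of a perfect object are finite free (helper1)
-/

set_option autoImplicit false
set_option linter.style.haveILetI false
universe u
open CategoryTheory CategoryTheory.Limits AlgebraicGeometry

attribute [local instance] HasDerivedCategory.standard

namespace Groth.Agent.Lib.Helper1.SPL

open Groth.Agent.Lib.Helper1.Sky Groth.Agent.Lib.Helper1.CI Groth.Agent.Lib.Helper1.StalkTensor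
open Groth.Agent.Lib.Helper1.FLF

variable {X : Scheme.{u}}


/-- flatness at a point is invariant under isomorphisms -/
lemma isFlatAt_of_iso {M N : X.Modules} (e : M ≅ N) (x : X) (h : FlatMod.IsFlatAt M x) :
    FlatMod.IsFlatAt N x := by
  have h1 : Module.Flat (Sky.Ox x) ((stalkFun x).obj M) := h
  have e' := ((stalkFun x).mapIso e).toLinearEquiv
  exact @Module.Flat.of_linearEquiv _ _ _ _ _ _ _ _ h1 e'.symm

/-- pointwise flatness of a pullback -/
lemma isFlatAt_pullback {Y : Scheme.{u}} (f : X ⟶ Y) (M : Y.Modules) (x : X)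
    (h : FlatMod.IsFlatAt M (f x)) : FlatMod.IsFlatAt ((Scheme.Modules.pullback f).obj M) x := by
  have h1 : Module.Flat (Sky.Ox x) ((ModuleCat.extendScalars.{u, u, u} (f.stalkMap x).hom).obj
      ((stalkFun (f x)).obj M)) := extendScalars_flat f x _ h
  have e := ((stalkPullbackIso f x).app M).toLinearEquiv
  exact @Module.Flat.of_linearEquiv _ _ _ _ _ _ _ _ h1 e

/-- pointwise flatness of a restriction -/
lemma isFlatAt_restrict {U : Scheme.{u}} (j : U ⟶ X) [IsOpenImmersion j] (M : X.Modules) (y : U)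
    (h : FlatMod.IsFlatAt M (j y)) : FlatMod.IsFlatAt (M.restrict j) y :=
  isFlatAt_of_iso ((Scheme.Modules.restrictFunctorIsoPullback j).app M).symm y
    (isFlatAt_pullback j M y h)

/-- descent of finite freeness along a bijective ring homomorphism -/
lemma free_finite_of_extendScalars {A B : Type u} [CommRing A] [CommRing B] (σ : A →+* B)
    (hσ : Function.Bijective σ) (M : ModuleCat.{u} A)
    (hfree : Module.Free B ((ModuleCat.extendScalars.{u, u, u} σ).obj M))
    (hfin : Module.Finite B ((ModuleCat.extendScalars.{u, u, u} σ).obj M)) :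
    Module.Free A M ∧ Module.Finite A M := by
  letI : Algebra A B := σ.toAlgebra
  have hfree' : Module.Free B (TensorProduct A B M) := hfree
  have hfin' : Module.Finite B (TensorProduct A B M) := hfin
  let eAB : A ≃ₗ[A] B := LinearEquiv.ofBijective (Algebra.linearMap A B) hσ
  haveI : Module.Free A B := Module.Free.of_equiv eAB
  haveI : Module.Finite A B := Module.Finite.equiv eAB
  haveI : Module.Free A (TensorProduct A B M) := Module.Free.trans (R := A) (S := B)
  haveI : Module.Finite A (TensorProduct A B M) := Module.Finite.trans B _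
  let ψ : M ≃ₗ[A] TensorProduct A B M :=
    (TensorProduct.lid A M).symm ≪≫ₗ TensorProduct.congr eAB (LinearEquiv.refl A M)
  exact ⟨Module.Free.of_equiv ψ.symm, Module.Finite.equiv ψ.symm⟩



lemma free_finite_directSum {R : Type u} [CommRing R] (n : ℕ) (Z : ModuleCat.{u} R)
    [Module.Free R Z] [Module.Finite R Z] :
    Module.Free R (DirectSum (Fin n) (fun _ => Z)) ∧
      Module.Finite R (DirectSum (Fin n) (fun _ => Z)) :=
  ⟨inferInstance, inferInstance⟩

lemma free_finite_of_iso {R : Type u} [CommRing R] {M N : ModuleCat.{u} R} (e : M ≅ N)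
    (h : Module.Free R M ∧ Module.Finite R M) : Module.Free R N ∧ Module.Finite R N := by
  obtain ⟨h1, h2⟩ := h
  exact ⟨Module.Free.of_equiv e.toLinearEquiv, Module.Finite.equiv e.toLinearEquiv⟩

open Groth.Agent.Lib.Helper23.UnitStalk in
/-- the stalk of a free module of finite rank is finite free -/
lemma free_finite_stalk_freeMod (U : Scheme.{u}) (n : ℕ) (y : U) :
    Module.Free (Sky.Ox y) ((stalkFun y).obj (FlatMod.freeMod U n)) ∧
    Module.Finite (Sky.Ox y) ((stalkFun y).obj (FlatMod.freeMod U n)) := by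
  let Z₀ : ModuleCat.{u} (Sky.Ox y) := (stalkFun y).obj (Coh.structureModule U)
  have e3 : Sky.Ox y ≃ₗ[Sky.Ox y] Z₀ := unitStalkEquiv y
  haveI : Module.Free (Sky.Ox y) Z₀ := Module.Free.of_equiv e3
  haveI : Module.Finite (Sky.Ox y) Z₀ := Module.Finite.equiv e3
  have h := free_finite_directSum n Z₀
  let e1 : (stalkFun y).obj (FlatMod.freeMod U n) ≅ ∐ (fun _ : Fin n => Z₀) :=
    PreservesCoproduct.iso (stalkFun y) (fun _ : Fin n => Coh.structureModule U)
  let e2 := ModuleCat.coprodIsoDirectSum (fun _ : Fin n => Z₀)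
  exact free_finite_of_iso (e1 ≪≫ e2).symm h

/-- if the restriction of `M` along an open immersion is free of finite rank, the stalks of `M` at
the points of the image are finite free -/
theorem free_finite_stalk_of_restrict_iso_freeMod (M : X.Modules) {U : Scheme.{u}} (j : U ⟶ X)
    [IsOpenImmersion j] (n : ℕ) (e : M.restrict j ≅ FlatMod.freeMod U n) (y : U) :
    Module.Free (X.presheaf.stalk (j y)) (M.presheaf.stalk (j y)) ∧
      Module.Finite (X.presheaf.stalk (j y)) (M.presheaf.stalk (j y)) := by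
  have h := free_finite_stalk_freeMod U n y
  let ε : (stalkFun y).obj (FlatMod.freeMod U n) ≅
      (ModuleCat.extendScalars.{u, u, u} (j.stalkMap y).hom).obj ((stalkFun (j y)).obj M) :=
    (stalkFun y).mapIso e.symm ≪≫
      (stalkFun y).mapIso ((Scheme.Modules.restrictFunctorIsoPullback j).app M) ≪≫
      (stalkPullbackIso j y).app M
  obtain ⟨h1', h2'⟩ := free_finite_of_iso ε h
  have hσ : Function.Bijective (j.stalkMap y).hom :=
    ConcreteCategory.bijective_of_isIso (j.stalkMap y)
  exact free_finite_of_extendScalars (j.stalkMap y).hom hσ ((stalkFun (j y)).obj M) h1' h2'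



/-- restriction along a factorisation -/
lemma isFinLocFree_restrict_of_factor {U U' : Scheme.{u}} (j : U ⟶ X) (j' : U' ⟶ X) (i : U' ⟶ U)
    [IsOpenImmersion j] [IsOpenImmersion j'] [IsOpenImmersion i] (hi : i ≫ j = j')
    (M : X.Modules) (h : FlatMod.IsFinLocFree (M.restrict j)) :
    FlatMod.IsFinLocFree (M.restrict j') := by
  subst hi
  exact isFinLocFree_of_iso ((Scheme.Modules.restrictFunctorComp i j).app M).symm
    (isFinLocFree_restrict i _ h)

/-- `M` is finite locally free near `x` -/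
def FlfAt (M : X.Modules) (x : X) : Prop :=
  ∃ W : X.Opens, x ∈ W ∧ FlatMod.IsFinLocFree (M.restrict W.ι)

lemma FlfAt.of_immersion (M : X.Modules) {U : Scheme.{u}} (j : U ⟶ X) [IsOpenImmersion j] (y : U)
    (h : FlatMod.IsFinLocFree (M.restrict j)) : FlfAt M (j y) :=
  ⟨j.opensRange, ⟨y, rfl⟩,
    isFinLocFree_restrict_of_factor j j.opensRange.ι j.isoOpensRange.inv (by simp) M h⟩

lemma isFinLocFree_restrict_of_le (M : X.Modules) {W W' : X.Opens} (hle : W' ≤ W)
    (h : FlatMod.IsFinLocFree (M.restrict W.ι)) : FlatMod.IsFinLocFree (M.restrict W'.ι) :=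
  isFinLocFree_restrict_of_factor W.ι W'.ι (X.homOfLE hle) (X.homOfLE_ι hle) M h

lemma flfAt_of_isFinLocFree (M : X.Modules) (h : FlatMod.IsFinLocFree M) (x : X) : FlfAt M x :=
  ⟨⊤, trivial, isFinLocFree_restrict _ _ h⟩

lemma flfAt_of_iso {M N : X.Modules} (e : M ≅ N) (x : X) (h : FlfAt M x) : FlfAt N x := by
  obtain ⟨W, hx, hW⟩ := h
  exact ⟨W, hx, isFinLocFree_of_iso ((Scheme.Modules.restrictFunctor W.ι).mapIso e) hW⟩

lemma flfAt_of_restrict (M : X.Modules) (W : X.Opens) (x : X) (hx : x ∈ W)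
    (h : FlfAt (M.restrict W.ι) ⟨x, hx⟩) : FlfAt M x := by
  obtain ⟨W', hx', hW'⟩ := h
  have h2 : FlatMod.IsFinLocFree (M.restrict (W'.ι ≫ W.ι)) :=
    isFinLocFree_of_iso ((Scheme.Modules.restrictFunctorComp W'.ι W.ι).app M).symm hW'
  exact FlfAt.of_immersion M (W'.ι ≫ W.ι) ⟨⟨x, hx⟩, hx'⟩ h2

/-- kernels of epimorphisms -/
lemma flfAt_kernel {M N : X.Modules} (φ : M ⟶ N) [Epi φ] (x : X) (hM : FlfAt M x)
    (hN : FlfAt N x) : FlfAt (kernel φ) x := by
  obtain ⟨W₁, hx₁, h₁⟩ := hM
  obtain ⟨W₂, hx₂, h₂⟩ := hN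
  let W := W₁ ⊓ W₂
  let R := Scheme.Modules.restrictFunctor W.ι
  haveI : Epi (R.map φ) := inferInstance
  have h := isFinLocFree_kernel (R.map φ) (isFinLocFree_restrict_of_le M inf_le_left h₁)
    (isFinLocFree_restrict_of_le N inf_le_right h₂)
  exact ⟨W, ⟨hx₁, hx₂⟩, isFinLocFree_of_iso (PreservesKernel.iso R φ).symm h⟩

/-- a cokernel of a map of modules finite locally free near `x` which is flat at `x` is finite
locally free near `x` -/
lemma flfAt_of_cokernel_of_isFlatAt {P₁ P₀ M : X.Modules} (f : P₁ ⟶ P₀) (π : P₀ ⟶ M)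
    (w : f ≫ π = 0) (hex : (ShortComplex.mk f π w).Exact) [Epi π] (x : X) (h1 : FlfAt P₁ x)
    (h0 : FlfAt P₀ x) (hfl : FlatMod.IsFlatAt M x) : FlfAt M x := by
  obtain ⟨W₁, hx₁, h₁⟩ := h1
  obtain ⟨W₂, hx₂, h₂⟩ := h0
  let W := W₁ ⊓ W₂
  have hx : x ∈ W := ⟨hx₁, hx₂⟩
  let R := Scheme.Modules.restrictFunctor W.ι
  haveI : Epi (R.map π) := inferInstance
  have hfp : CohB1.IsFP (R.obj M) := isFP_of_cokernel (R.map f) (R.map π)
    ((ShortComplex.mk f π w).map R).zero (isFinLocFree_restrict_of_le P₁ inf_le_left h₁)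
    (isFinLocFree_restrict_of_le P₀ inf_le_right h₂) (hex.map R)
  haveI : SheafOfModules.IsFinitePresentation (R := (W : Scheme.{u}).ringCatSheaf) (R.obj M) := hfp
  haveI : (R.obj M).IsQuasicoherent := inferInstance
  have hfl' : FlatMod.IsFlatAt (R.obj M) ⟨x, hx⟩ := isFlatAt_restrict W.ι M ⟨x, hx⟩ hfl
  obtain ⟨D, m, hxD, ⟨e⟩⟩ :=
    Groth.Agent.Lib.Helper2.LocFree.exists_restrict_iso_freeMod_of_isFlatAt (R.obj M) ⟨x, hx⟩ hfl'
  refine flfAt_of_restrict M W x hx ⟨D, hxD, ?_⟩
  exact Groth.Agent.Lib.Helper2.LocFree.isFinLocFree_of_iso_freeMod _ e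



/-- the core lemma: cycles and homology of a strictly perfect complex all of whose homology
sheaves are flat at `x` are finite locally free near `x` -/
theorem flfAt_cycles_homology (E : CochainComplex X.Modules ℤ) (hE : DCoh.IsStrictlyPerfect E)
    (x : X) (hfl : ∀ k : ℤ, FlatMod.IsFlatAt (E.homology k) x) :
    ∀ i : ℤ, FlfAt (E.cycles i) x ∧ FlfAt (E.homology i) x := by
  obtain ⟨⟨a, b, hv⟩, hflf⟩ := hE
  have key : ∀ k : ℕ, ∀ i : ℤ, b + 1 ≤ i + k →
      FlfAt (E.cycles i) x ∧ FlfAt (E.homology i) x := by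
    intro k
    induction k with
    | zero =>
      intro i hi
      have hz : IsZero (E.X i) := hv i (Or.inr (by push_cast at hi; omega))
      have hzc : IsZero (E.cycles i) := IsZero.of_mono (E.iCycles i) hz
      have hzh : IsZero (E.homology i) := IsZero.of_epi (E.homologyπ i) hzc
      exact ⟨flfAt_of_isFinLocFree _ (isFinLocFree_of_isZero _ hzc) x,
        flfAt_of_isFinLocFree _ (isFinLocFree_of_isZero _ hzh) x⟩
    | succ k ih =>
      intro i hi
      obtain ⟨hc, hh⟩ := ih (i + 1) (by push_cast at hi ⊢; omega)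
      -- boundaries
      have hB : FlfAt (kernel (E.homologyπ (i + 1))) x := flfAt_kernel _ x hc hh
      have w : E.toCycles i (i + 1) ≫ E.homologyπ (i + 1) = 0 := E.toCycles_comp_homologyπ i (i + 1)
      let S := ShortComplex.mk _ _ w
      have hS : S.Exact := ShortComplex.exact_of_g_is_cokernel S
        (E.homologyIsCokernel i (i + 1) (by simp))
      let l : E.X i ⟶ kernel (E.homologyπ (i + 1)) := kernel.lift S.g S.f S.zero
      haveI : Epi l := S.exact_iff_epi_kernel_lift.1 hS
      have hl : l ≫ kernel.ι (E.homologyπ (i + 1)) = E.toCycles i (i + 1) := kernel.lift_ι _ _ _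
      have h2 : FlfAt (kernel l) x := flfAt_kernel l x (flfAt_of_isFinLocFree _ (hflf i) x) hB
      have e1 : kernel l ≅ kernel (E.d i (i + 1)) := by
        have h3 : (l ≫ kernel.ι (E.homologyπ (i + 1))) ≫ E.iCycles (i + 1) = E.d i (i + 1) := by
          rw [hl]
          exact E.toCycles_i i (i + 1)
        exact (kernelCompMono l (kernel.ι (E.homologyπ (i + 1)))).symm ≪≫
          (kernelCompMono (l ≫ kernel.ι (E.homologyπ (i + 1))) (E.iCycles (i + 1))).symm ≪≫
          kernelIsoOfEq h3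
      have e2 : kernel (E.d i (i + 1)) ≅ E.cycles i :=
        IsLimit.conePointUniqueUpToIso (kernelIsKernel (E.d i (i + 1)))
          (E.cyclesIsKernel i (i + 1) (by simp))
      have hci : FlfAt (E.cycles i) x := flfAt_of_iso (e1 ≪≫ e2) x h2
      refine ⟨hci, ?_⟩
      -- homology in degree `i`
      have w' : E.toCycles (i - 1) i ≫ E.homologyπ i = 0 := E.toCycles_comp_homologyπ (i - 1) i
      have hS' : (ShortComplex.mk _ _ w').Exact := ShortComplex.exact_of_g_is_cokernel _
        (E.homologyIsCokernel (i - 1) i (by simp))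
      exact flfAt_of_cokernel_of_isFlatAt _ _ w' hS' x
        (flfAt_of_isFinLocFree _ (hflf (i - 1)) x) hci (hfl i)
  intro i
  exact key (b + 1 - i).toNat i (by
    have := Int.self_le_toNat (b + 1 - i)
    omega)

/-- finitely many modules finite locally free near `x` are so on a common neighbourhood -/
lemma exists_opens_forall_isFinLocFree (M : ℤ → X.Modules) (a b : ℤ)
    (hz : ∀ k : ℤ, (k < a ∨ b < k) → IsZero (M k)) (x : X) (h : ∀ k, FlfAt (M k) x) :
    ∃ W : X.Opens, x ∈ W ∧ ∀ k : ℤ, FlatMod.IsFinLocFree ((M k).restrict W.ι) := by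
  have key : ∀ n : ℕ, ∃ W : X.Opens, x ∈ W ∧
      ∀ k : ℤ, a ≤ k → k < a + n → FlatMod.IsFinLocFree ((M k).restrict W.ι) := by
    intro n
    induction n with
    | zero => exact ⟨⊤, trivial, fun k h1 h2 => by omega⟩
    | succ n ih =>
      obtain ⟨W, hxW, hW⟩ := ih
      obtain ⟨W', hxW', hW'⟩ := h (a + n)
      refine ⟨W ⊓ W', ⟨hxW, hxW'⟩, fun k h1 h2 => ?_⟩
      by_cases hk : k < a + n
      · exact isFinLocFree_restrict_of_le _ inf_le_left (hW k h1 hk)
      · have : k = a + n := by push_cast at h2; omega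
        subst this
        exact isFinLocFree_restrict_of_le _ inf_le_right hW'
  obtain ⟨W, hxW, hW⟩ := key (b + 1 - a).toNat
  refine ⟨W, hxW, fun k => ?_⟩
  by_cases hk : a ≤ k ∧ k ≤ b
  · exact hW k hk.1 (by
      have := Int.self_le_toNat (b + 1 - a)
      omega)
  · exact isFinLocFree_of_isZero _ ((Scheme.Modules.restrictFunctor W.ι).map_isZero
      (hz k (by omega)))


/-- restriction along a factorisation, other direction -/
lemma isFinLocFree_restrict_restrict_of_factor {U U' : Scheme.{u}} (j : U ⟶ X) (j' : U' ⟶ X)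
    (i : U' ⟶ U) [IsOpenImmersion j] [IsOpenImmersion j'] [IsOpenImmersion i] (hi : i ≫ j = j')
    (M : X.Modules) (h : FlatMod.IsFinLocFree (M.restrict j')) :
    FlatMod.IsFinLocFree ((M.restrict j).restrict i) := by
  subst hi
  exact isFinLocFree_of_iso ((Scheme.Modules.restrictFunctorComp i j).app M) h

/-- if the restriction of `M` along an open immersion is finite locally free, the stalks of `M`
at the points of the image are finite free -/
theorem free_finite_stalk_of_isFinLocFree_restrict (M : X.Modules) {U : Scheme.{u}} (j : U ⟶ X)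
    [IsOpenImmersion j] (h : FlatMod.IsFinLocFree (M.restrict j)) (y : U) :
    Module.Free (X.presheaf.stalk (j y)) (M.presheaf.stalk (j y)) ∧
      Module.Finite (X.presheaf.stalk (j y)) (M.presheaf.stalk (j y)) := by
  obtain ⟨D, n, hyD, ⟨e⟩⟩ := h y
  exact free_finite_stalk_of_restrict_iso_freeMod M (D.ι ≫ j) n
    ((Scheme.Modules.restrictFunctorComp D.ι j).app M ≪≫ e) ⟨y, hyD⟩

/-- the cohomology sheaves of a perfect object which are all flat at `x` are finite locally free
on a common neighbourhood of `x` -/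
theorem exists_opens_isFinLocFree_HD (E : DCoh.D X) (hE : DCoh.IsPerfect E) (x : X)
    (hx : ∀ i : ℤ, FlatMod.IsFlatAt (DCoh.HD E i) x) :
    ∃ W : X.Opens, x ∈ W ∧ ∀ i : ℤ, FlatMod.IsFinLocFree ((DCoh.HD E i).restrict W.ι) := by
  obtain ⟨V, j, hj, hxj, P, hP, ⟨a⟩⟩ := (isPerfect_iff_hasPres E).1 hE x
  haveI := hj
  obtain ⟨y, rfl⟩ := hxj
  have iso : ∀ k : ℤ, (DCoh.HD E k).restrict j ≅ P.homology k := fun k =>
    (homologyResDIso j E k).symm ≪≫ (DerivedCategory.homologyFunctor V.Modules k).mapIso a ≪≫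
      (DerivedCategory.homologyFunctorFactors V.Modules k).app P
  have hflP : ∀ k : ℤ, FlatMod.IsFlatAt (P.homology k) y := fun k =>
    isFlatAt_of_iso (iso k) y (isFlatAt_restrict j _ y (hx k))
  have h1 := flfAt_cycles_homology P hP y hflP
  obtain ⟨⟨a', b', hv⟩, -⟩ := id hP
  have hz : ∀ k : ℤ, (k < a' ∨ b' < k) → IsZero (P.homology k) := fun k hk =>
    IsZero.of_epi (P.homologyπ k) (IsZero.of_mono (P.iCycles k) (hv k hk))
  obtain ⟨W, hyW, hW⟩ := exists_opens_forall_isFinLocFree (fun k => P.homology k) a' b' hz y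
    (fun k => (h1 k).2)
  have h2 : ∀ k : ℤ, FlatMod.IsFinLocFree ((DCoh.HD E k).restrict (W.ι ≫ j)) := fun k =>
    isFinLocFree_of_iso ((Scheme.Modules.restrictFunctorComp W.ι j).app _).symm
      (isFinLocFree_of_iso ((Scheme.Modules.restrictFunctor W.ι).mapIso (iso k)).symm (hW k))
  exact ⟨(W.ι ≫ j).opensRange, ⟨⟨y, hyW⟩, rfl⟩, fun k =>
    isFinLocFree_restrict_of_factor (W.ι ≫ j) _ (W.ι ≫ j).isoOpensRange.inv (by simp) _ (h2 k)⟩

end Groth.Agent.Lib.Helper1.SPL
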