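import Mathlib
import Groth.Prelude.Def_Pi1
import Groth.Agent.Lib.Helper1PC15
import Groth.Agent.Lib.Helper2LocFree
import Groth.Agent.Lib.Helper2FibreCrit2
import Groth.Agent.Lib.Helper23FinPres

set_option autoImplicit false
set_option linter.style.haveILetI false
universe u

open CategoryTheory Limits AlgebraicGeometry TopologicalSpace Opposite

namespace Groth.Agent.Lib.Helper12.BigOpenFree

/-- a finite torsion-free module over a Noetherian integrally closed local domain of dimension `< 2`
is flat. -/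
theorem flat_of_dim_lt_two (R : Type u) [CommRing R] [IsDomain R] [IsNoetherianRing R]
    [IsIntegrallyClosed R] (hdim : ¬ (2 : WithBot ℕ∞) ≤ ringKrullDim R)
    (P : Type u) [AddCommGroup P] [Module R P] [Module.IsTorsionFree R P] : Module.Flat R P := by
  have h1 : ringKrullDim R ≤ 1 := by
    rw [not_le] at hdim
    cases h : ringKrullDim R with
    | bot => exact bot_le
    | coe a =>
      rw [h] at hdim
      have h2 : a < 2 := by
        have h2' : (a : WithBot ℕ∞) < ((2 : ℕ∞) : WithBot ℕ∞) := hdim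
        exact WithBot.coe_lt_coe.1 h2'
      have h3 : a ≤ 1 := by
        have : a < 1 + 1 := by rwa [one_add_one_eq_two]
        exact (ENat.lt_add_one_iff (by simp)).1 this
      have : (a : WithBot ℕ∞) ≤ ((1 : ℕ∞) : WithBot ℕ∞) := WithBot.coe_le_coe.2 h3
      exact this
  haveI : Ring.KrullDimLE 1 R := (Ring.krullDimLE_iff).2 (by exact_mod_cast h1)
  haveI : Ring.DimensionLEOne R :=
    ⟨fun {p} hp hpp => Ring.krullDimLE_one_iff_of_noZeroDivisors.1 inferInstance p hp hpp⟩
  haveI : IsDedekindRing R := {}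
  haveI : IsDedekindDomain R := {}
  infer_instance

theorem main (X : Scheme.{u}) [IsNoetherian X]
    (hX : Pi1.IsNormalScheme X) (M : X.Modules) (hM : Coh.IsCoh M)
    (htf : ∀ x : ↥X, Module.IsTorsionFree (X.presheaf.stalk x) (M.presheaf.stalk x)) :
    ∃ U : X.Opens, (∀ x : ↥X, x ∉ U → (2 : WithBot ℕ∞) ≤ ringKrullDim (X.presheaf.stalk x)) ∧
      FlatMod.IsFinLocFree (M.restrict U.ι) := by
  haveI : M.IsQuasicoherent := hM.1
  haveI : SheafOfModules.IsFiniteType (R := X.ringCatSheaf) M := hM.2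
  haveI hfp : SheafOfModules.IsFinitePresentation (R := X.ringCatSheaf) M :=
    Groth.Agent.Lib.Helper23.FinType.isFinitePresentation_of_isFiniteType M
  let S : Set X.Opens := {W | FlatMod.IsFinLocFree (M.restrict W.ι)}
  refine ⟨sSup S, ?_, ?_⟩
  · intro x hx
    by_contra hdim
    obtain ⟨hdom, hic⟩ := hX x
    haveI := hdom
    haveI := hic
    haveI := htf x
    have hflat : FlatMod.IsFlatAt M x :=
      flat_of_dim_lt_two (X.presheaf.stalk x) hdim (M.presheaf.stalk x)
    obtain ⟨D, m, hxD, ⟨e⟩⟩ :=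
      Groth.Agent.Lib.Helper2.LocFree.exists_restrict_iso_freeMod_of_isFlatAt M x hflat
    apply hx
    have hD : D ∈ S := Groth.Agent.Lib.Helper2.LocFree.isFinLocFree_of_iso_freeMod _ e
    exact (le_sSup hD) hxD
  · refine Groth.Agent.Lib.Helper1.SPL.isFinLocFree_of_local _ (fun y => ?_)
    obtain ⟨W, hWS, hyW⟩ : ∃ W ∈ S, y.1 ∈ W := by
      have := y.2
      rw [Opens.mem_sSup] at this
      exact this
    have hle : W ≤ sSup S := le_sSup hWS
    refine ⟨W, X.homOfLE hle, inferInstance, ?_, ?_⟩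
    · rw [Scheme.Hom.mem_opensRange]
      refine ⟨⟨y.1, hyW⟩, ?_⟩
      apply Subtype.ext
      simp
    · exact Groth.Agent.Lib.Helper1.SPL.isFinLocFree_restrict_restrict_of_factor (sSup S).ι W.ι
        (X.homOfLE hle) (X.homOfLE_ι hle) M hWS

end Groth.Agent.Lib.Helper12.BigOpenFree
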