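import Mathlib

set_option autoImplicit false
universe u
open CategoryTheory CategoryTheory.Limits AlgebraicGeometry

namespace Groth.Agent.Lib.Helper12.CardPts

/-- a finite-dimensional commutative algebra over a field has at most `dim` primes. -/
lemma card_primeSpectrum_le_finrank (K A : Type u) [Field K] [CommRing A] [Algebra K A]
    [Module.Finite K A] : Nat.card (PrimeSpectrum A) ≤ Module.finrank K A := by
  haveI : IsArtinianRing A := IsArtinianRing.of_finite K A
  rw [Nat.card_congr (IsArtinianRing.primeSpectrumEquivMaximalSpectrum (R := A))]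
  haveI : Fintype (MaximalSpectrum A) := Fintype.ofFinite _
  let e := IsArtinianRing.quotNilradicalEquivPi A
  let g : A →ₗ[K] (∀ I : MaximalSpectrum A, A ⧸ I.asIdeal) :=
    ((e.toLinearMap.restrictScalars K).comp
      ((Ideal.Quotient.mkₐ K (nilradical A)).toLinearMap))
  have hg : Function.Surjective g := by
    intro y
    obtain ⟨x, rfl⟩ := e.surjective y
    obtain ⟨a, rfl⟩ := Ideal.Quotient.mk_surjective x
    exact ⟨a, rfl⟩
  have h1 := LinearMap.finrank_le_finrank_of_surjective hg
  refine le_trans ?_ h1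
  rw [Module.finrank_pi_fintype, Nat.card_eq_fintype_card, Fintype.card_eq_sum_ones]
  refine Finset.sum_le_sum fun I _ => ?_
  haveI : Nontrivial (A ⧸ I.asIdeal) := Ideal.Quotient.nontrivial_iff.2 I.isMaximal.ne_top
  exact Module.finrank_pos (R := K)

/-- a finite scheme over a field of degree at most `n` has at most `n` points. -/
lemma card_le_of_finrank_le {T : Scheme.{u}} {K : Type u} [Field K]
    (c : T ⟶ Spec (CommRingCat.of K)) [IsFinite c] (n : ℕ) (s : ↥(Spec (CommRingCat.of K)))
    (h : c.finrank s ≤ n) : Finite ↥T ∧ Nat.card ↥T ≤ n := by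
  haveI : IsAffine T := isAffine_of_isAffineHom c
  let φ : CommRingCat.of K ⟶ Γ(T, ⊤) := (Scheme.ΓSpecIso (CommRingCat.of K)).inv ≫ c.appTop
  have hc : c = T.isoSpec.hom ≫ Spec.map φ := by
    have h1 := Scheme.isoSpec_hom_naturality c
    have h2 : c = (c ≫ (Spec (CommRingCat.of K)).isoSpec.hom) ≫
        (Spec (CommRingCat.of K)).isoSpec.inv := by simp
    rw [h2, ← h1, Category.assoc, Scheme.isoSpec_Spec_inv, ← Spec.map_comp]
  haveI : IsFinite (Spec.map φ) := by
    have : Spec.map φ = T.isoSpec.inv ≫ c := by rw [hc, Iso.inv_hom_id_assoc]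
    rw [this]
    infer_instance
  have hfin : φ.hom.Finite := (IsFinite.SpecMap_iff _).1 inferInstance
  algebraize [φ.hom]
  have hflat : φ.hom.Flat := by
    show Module.Flat K Γ(T, ⊤)
    infer_instance
  haveI : Flat (Spec.map φ) := (Flat.SpecMap_iff).2 hflat
  have h3 : c.finrank s = Module.finrank K Γ(T, ⊤) := by
    rw [hc, Scheme.Hom.finrank_comp_left_of_isIso, Scheme.Hom.finrank_SpecMap_eq_finrank hfin hflat,
      ← RingHom.algebraMap_toAlgebra φ.hom, RingHom.finrank_algebraMap,
      Module.rankAtStalk_eq_finrank_of_free]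
    rfl
  haveI : Module.Finite K Γ(T, ⊤) := hfin
  have h4 := card_primeSpectrum_le_finrank K Γ(T, ⊤)
  let e : ↥T ≃ PrimeSpectrum Γ(T, ⊤) := (Scheme.homeoOfIso T.isoSpec).toEquiv
  haveI : IsArtinianRing Γ(T, ⊤) := IsArtinianRing.of_finite K _
  refine ⟨Finite.of_equiv _ e.symm, ?_⟩
  rw [Nat.card_congr e]
  exact h4.trans (h3 ▸ h)

end Groth.Agent.Lib.Helper12.CardPts
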