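import Mathlib
import Groth.Agent.Lib.Helper12Reduced
import Groth.Agent.S10265

set_option autoImplicit false
universe u
open CategoryTheory CategoryTheory.Limits AlgebraicGeometry Opposite

namespace Groth.Agent.Lib.Helper12.MonoField

/-- a monomorphism from a nonempty scheme to a one-point integral scheme is an isomorphism. -/
lemma isIso_of_mono_of_subsingleton {M Y : Scheme.{u}} (j : M ⟶ Y) [Mono j] [Nonempty M]
    [Subsingleton Y] [IsIntegral Y] : IsIso j := by
  haveI : Subsingleton M := j.injective.subsingleton
  haveI : Surjective j := ⟨fun y => ⟨Classical.arbitrary M, Subsingleton.elim _ _⟩⟩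
  haveI : Finite M := Finite.of_subsingleton
  haveI : IsAffine Y := inferInstance
  haveI : QuasiCompact j := quasiCompact_of_compactSpace _
  exact Flat.isIso_of_surjective_of_mono j

/-- a monomorphism into a scheme with discrete reduced underlying space is an open immersion. -/
theorem isOpenImmersion_of_mono_of_discrete {N W : Scheme.{u}} (j : N ⟶ W) [Mono j]
    [DiscreteTopology W] [IsReduced W] : IsOpenImmersion j := by
  let U : W → W.Opens := fun w => ⟨{w}, isOpen_discrete _⟩
  have hU : iSup U = ⊤ := by
    rw [eq_top_iff]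
    intro w _
    exact TopologicalSpace.Opens.mem_iSup.2 ⟨w, rfl⟩
  refine IsZariskiLocalAtTarget.of_iSup_eq_top (P := @IsOpenImmersion) U hU (fun w => ?_)
  haveI : Subsingleton ↥(U w).toScheme := by
    refine ⟨fun a b => Subtype.ext ?_⟩
    exact a.2.trans b.2.symm
  haveI : Nonempty ↥(U w).toScheme := ⟨⟨w, rfl⟩⟩
  haveI : IsReduced (U w).toScheme := inferInstance
  haveI : IsIntegral (U w).toScheme :=
    (isIntegral_iff_irreducibleSpace_and_isReduced _).mpr ⟨⟨inferInstance⟩, inferInstance⟩
  haveI : Mono (j ∣_ U w) := (isPullback_morphismRestrict j (U w)).mono_fst_of_mono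
  rcases isEmpty_or_nonempty ↥(j ⁻¹ᵁ U w).toScheme with h | h
  · infer_instance
  · haveI := isIso_of_mono_of_subsingleton (j ∣_ U w)
    infer_instance

/-- a scheme etale over a field is discrete and reduced. -/
lemma discrete_reduced_of_etale_field (k : Type u) [Field k] {W : Scheme.{u}}
    (c : W ⟶ Spec (CommRingCat.of k)) [Etale c] : DiscreteTopology W ∧ IsReduced W := by
  haveI : IsReduced (Spec (CommRingCat.of k)) := inferInstance
  refine ⟨?_, Groth.Agent.Lib.Helper12.Reduced.isReduced_of_smooth c⟩
  haveI : LocallyQuasiFinite c := Groth.Agent.S10265.locallyQuasiFinite_of_unramified _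
  have h := c.isDiscrete_preimage_singleton (IsLocalRing.closedPoint k)
  exact isDiscrete_univ_iff.1 (h.mono (fun w _ =>
    (inferInstance : Subsingleton (PrimeSpectrum k)).elim _ _))

/-- a monomorphism into a scheme etale over a field is an open immersion. -/
theorem isOpenImmersion_of_mono_of_etale_field (k : Type u) [Field k] {N W : Scheme.{u}}
    (j : N ⟶ W) [Mono j] (c : W ⟶ Spec (CommRingCat.of k)) [Etale c] : IsOpenImmersion j := by
  obtain ⟨h1, h2⟩ := discrete_reduced_of_etale_field k c
  exact isOpenImmersion_of_mono_of_discrete j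

end Groth.Agent.Lib.Helper12.MonoField
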