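import Mathlib
import Groth.Agent.Lib.Helper12MonoField

set_option autoImplicit false
universe u
open CategoryTheory CategoryTheory.Limits AlgebraicGeometry Opposite

namespace Groth.Agent.Lib.Helper12.ClosedImm

/-- a morphism from the empty scheme is a closed immersion. -/
lemma isClosedImmersion_of_isEmpty {X Y : Scheme.{u}} (f : X ⟶ Y) [IsEmpty X] :
    IsClosedImmersion f := by
  refine IsClosedImmersion.of_isPreimmersion f ?_
  have : Set.range f = ∅ := Set.range_eq_empty _
  rw [this]
  exact isClosed_empty

/-- a monomorphism from a reduced one-point scheme hitting a closed point is a closed immersion. -/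
lemma isClosedImmersion_of_mono_of_subsingleton {F U : Scheme.{u}} (g : F ⟶ U) [Mono g]
    [IsReduced F] [Subsingleton F] (f₀ : F) (hc : IsClosed ({g f₀} : Set U)) :
    IsClosedImmersion g := by
  haveI : IsClosedImmersion (U.fromSpecResidueField (g f₀)) :=
    isClosed_singleton_iff_isClosedImmersion.mp hc
  set ι := U.fromSpecResidueField (g f₀) with hι
  obtain ⟨z, hz1, -⟩ := Scheme.Pullback.exists_preimage_pullback (f := g) (g := ι) f₀
    (IsLocalRing.closedPoint (U.residueField (g f₀)))
    (by rw [hι, Scheme.fromSpecResidueField_apply])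
  haveI : Nonempty ↥(pullback g ι) := ⟨z⟩
  haveI : Subsingleton ↥(Spec (U.residueField (g f₀))) :=
    (inferInstance : Subsingleton (PrimeSpectrum (U.residueField (g f₀))))
  haveI : IsIso (pullback.snd g ι) :=
    Groth.Agent.Lib.Helper12.MonoField.isIso_of_mono_of_subsingleton (pullback.snd g ι)
  haveI : Surjective (pullback.fst g ι) :=
    ⟨fun y => ⟨z, Subsingleton.elim _ _⟩⟩
  haveI : IsIso (pullback.fst g ι) := isIso_of_isClosedImmersion_of_surjective _
  have hg : g = inv (pullback.fst g ι) ≫ pullback.snd g ι ≫ ι := by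
    rw [IsIso.eq_inv_comp]
    exact pullback.condition
  rw [hg]
  infer_instance

/-- **local criterion for closed immersions with discrete image.**  A monomorphism `g : F ⟶ A`
from a reduced scheme such that every point of `A` has an open neighbourhood `U` which either
misses the image or meets it in a single point closed in `U`, is a closed immersion. -/
theorem isClosedImmersion_of_mono_of_locally_single {F A : Scheme.{u}} (g : F ⟶ A) [Mono g]
    [IsReduced F]
    (H : ∀ c : A, ∃ U : A.Opens, c ∈ U ∧ ((∀ f : F, g f ∉ U) ∨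
      ((∀ f : F, g f ∈ U → g f = c) ∧ ∀ hc : c ∈ U, IsClosed ({⟨c, hc⟩} : Set U)))) :
    IsClosedImmersion g := by
  choose U hcU hU using H
  have hsup : iSup U = ⊤ := by
    rw [eq_top_iff]
    intro c _
    exact TopologicalSpace.Opens.mem_iSup.2 ⟨c, hcU c⟩
  refine IsZariskiLocalAtTarget.of_iSup_eq_top (P := @IsClosedImmersion) U hsup (fun c => ?_)
  haveI : Mono (g ∣_ U c) := (isPullback_morphismRestrict g (U c)).mono_fst_of_mono
  rcases hU c with h | ⟨h1, h2⟩
  · haveI : IsEmpty ↥(g ⁻¹ᵁ U c).toScheme := ⟨fun y => h y.1 y.2⟩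
    exact isClosedImmersion_of_isEmpty _
  · rcases isEmpty_or_nonempty ↥(g ⁻¹ᵁ U c).toScheme with he | ⟨⟨y, hy⟩⟩
    · exact isClosedImmersion_of_isEmpty _
    · haveI : Subsingleton ↥(g ⁻¹ᵁ U c).toScheme := by
        refine ⟨fun a b => Subtype.ext (g.injective ?_)⟩
        rw [h1 a.1 a.2, h1 b.1 b.2]
      have hval : (g ∣_ U c) ⟨y, hy⟩ = ⟨c, hcU c⟩ := by
        apply Subtype.ext
        have := h1 y hy
        simpa using this
      refine isClosedImmersion_of_mono_of_subsingleton (g ∣_ U c) ⟨y, hy⟩ ?_
      rw [hval]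
      exact h2 (hcU c)

end Groth.Agent.Lib.Helper12.ClosedImm
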