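import Mathlib
import Groth.Agent.S10176
import Groth.Agent.S10265
import Groth.Prelude.Def_AlgSpDec

set_option autoImplicit false
universe u
open CategoryTheory CategoryTheory.Limits AlgebraicGeometry

namespace Groth.Agent.Lib.Helper12.QcPoint

variable {S : Scheme.{u}}

/-- the fibre of an etale chart from a quasi-compact scheme over a point with a quasi-compact
field-valued representative is finite. -/
lemma finite_fibre_of_quasiCompact {X : AlgSp.Sp S} (p : AlgSp.FieldPt X)
    (hq : AlgSp.RepWith @QuasiCompact p.toHom) {V : Over S} [CompactSpace ↥V.left]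
    (b : (AlgSp.yon S).obj V ⟶ X) (hb : AlgSp.RepWith @Etale b) :
    (AlgSp.Points.ofPt b ⁻¹' {AlgSp.Points.mk p}).Finite := by
  obtain ⟨T, t, pr', sq⟩ := hq.1 b
  obtain ⟨pr, rfl⟩ := (AlgSp.yon S).map_surjective pr'
  haveI : QuasiCompact t.left := hq.2 _ _ t sq
  haveI : Etale pr.left := hb.2 _ _ pr sq.flip
  haveI : CompactSpace ↥T.left := QuasiCompact.compactSpace_of_compactSpace t.left
  haveI : LocallyQuasiFinite pr.left := Groth.Agent.S10265.locallyQuasiFinite_of_unramified _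
  haveI : QuasiSeparatedSpace ↥p.pt.left :=
    (inferInstance : QuasiSeparatedSpace ↥(Spec (CommRingCat.of p.K)))
  haveI : QuasiCompact pr.left := quasiCompact_of_compactSpace _
  have hfin : (Set.univ : Set ↥T.left).Finite := by
    have := pr.left.finite_preimage_singleton ((⊥ : PrimeSpectrum p.K) : ↥p.pt.left)
    refine this.subset (fun y _ => ?_)
    exact (inferInstance : Subsingleton (PrimeSpectrum p.K)).elim _ _
  refine (hfin.image t.left).subset ?_
  intro v hv
  have e : AlgSp.Points.ofPt p.toHom ((⊥ : PrimeSpectrum p.K) : ↥p.pt.left) =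
      AlgSp.Points.ofPt b v := by
    rw [AlgSp.Points.ofPt_toHom]
    exact hv.symm
  obtain ⟨y, -, hy⟩ := Groth.Agent.S10176.exists_point_of_isPullback_yon sq _ v e
  exact ⟨y, trivial, hy⟩


/-- generizations to a point with a quasi-compact field-valued representative lift to etale
charts. -/
theorem exists_generization {X : AlgSp.Sp S} (x x' : AlgSp.Points X) (h : x' ⤳ x)
    (p : AlgSp.FieldPt X) (hp : AlgSp.Points.mk p = x') (hq : AlgSp.RepWith @QuasiCompact p.toHom)
    {U : Over S} (a : (AlgSp.yon S).obj U ⟶ X) (ha : AlgSp.RepWith @Etale a) (u : ↥U.left)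
    (hu : AlgSp.Points.ofPt a u = x) :
    ∃ u' : ↥U.left, u' ⤳ u ∧ AlgSp.Points.ofPt a u' = x' := by
  obtain ⟨U₀, hU₀, huU, -⟩ : ∃ V : U.left.Opens, V ∈ U.left.affineOpens ∧ u ∈ V ∧ V ≤ ⊤ :=
    TopologicalSpace.Opens.isBasis_iff_nbhd.1 U.left.isBasis_affineOpens
      (TopologicalSpace.Opens.mem_top u)
  let V : Over S := Over.mk (U₀.ι ≫ U.hom)
  let j : V ⟶ U := Over.homMk U₀.ι rfl
  have hb : AlgSp.RepWith @Etale ((AlgSp.yon S).map j ≫ a) :=
    (AlgSp.RepWith @Etale).comp_mem _ _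
      ((AlgSp.repWith_yon_map_iff _ _).2 (inferInstance : Etale U₀.ι)) ha
  haveI : IsAffine V.left := hU₀
  haveI : CompactSpace ↥V.left := inferInstance
  have hfin := finite_fibre_of_quasiCompact p hq ((AlgSp.yon S).map j ≫ a) hb
  rw [hp] at hfin
  have hopen := Groth.Agent.S10176.isOpenMap_ofPt _ hb
  have hcont : Continuous (AlgSp.Points.ofPt ((AlgSp.yon S).map j ≫ a)) :=
    AlgSp.Points.continuous_ofPt _
  obtain ⟨v₀, hv₀⟩ : ∃ v₀ : ↥V.left, j.left v₀ = u := ⟨⟨u, huU⟩, rfl⟩
  have hmem : v₀ ∈ AlgSp.Points.ofPt ((AlgSp.yon S).map j ≫ a) ⁻¹' closure {x'} := by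
    rw [Set.mem_preimage, Groth.Agent.S10176.ofPt_map_comp, hv₀, hu]
    exact specializes_iff_mem_closure.1 h
  rw [hopen.preimage_closure_eq_closure_preimage hcont] at hmem
  have hcl : closure (AlgSp.Points.ofPt ((AlgSp.yon S).map j ≫ a) ⁻¹' {x'}) =
      ⋃ e ∈ (AlgSp.Points.ofPt ((AlgSp.yon S).map j ≫ a) ⁻¹' {x'}), closure {e} := by
    conv_lhs => rw [← Set.biUnion_of_singleton (AlgSp.Points.ofPt ((AlgSp.yon S).map j ≫ a) ⁻¹' {x'})]
    exact hfin.closure_biUnion _
  rw [hcl] at hmem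
  simp only [Set.mem_iUnion] at hmem
  obtain ⟨e, he, hue⟩ := hmem
  refine ⟨j.left e, ?_, ?_⟩
  · have : e ⤳ v₀ := specializes_iff_mem_closure.2 hue
    rw [← hv₀]
    exact this.map j.left.continuous
  · have := Groth.Agent.S10176.ofPt_map_comp j a e
    exact this.symm.trans he

end Groth.Agent.Lib.Helper12.QcPoint
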