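import Mathlib
import Groth.Agent.S10176
import Groth.Agent.S10177
import Groth.Agent.S10265
import Groth.Agent.Lib.Helper12MonoField
import Groth.Agent.Lib.Helper12QcPoint
import Groth.Prelude.Def_AlgSpDec

set_option autoImplicit false
universe u
open CategoryTheory CategoryTheory.Limits AlgebraicGeometry Opposite
open AlgSp

namespace Groth.Agent.Lib.Helper12.ClosedPt

variable {S : Scheme.{u}}

/-- a point of an affine etale chart lying over a field-valued point which is integral over a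
closed point of the base is closed. -/
lemma isClosed_singleton_of_integral {X : AlgSp.Sp S} {V : Over S} [IsAffine V.left]
    (b : (AlgSp.yon S).obj V ⟶ X) (hb : AlgSp.RepWith @Etale b) (v : ↥V.left)
    (s : ↥S) (hs : IsClosed ({s} : Set ↥S)) (k : Type u) [Field k]
    (φ : S.residueField s ⟶ CommRingCat.of k) (hφ : φ.hom.IsIntegral)
    (p : (AlgSp.yon S).obj (Over.mk (Spec.map φ ≫ S.fromSpecResidueField s)) ⟶ X)
    (t : ↥(Spec (CommRingCat.of k))) (hv : AlgSp.Points.ofPt b v = AlgSp.Points.ofPt p t) :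
    IsClosed ({v} : Set ↥V.left) := by
  obtain ⟨F, fK, fV', sqF⟩ := hb.1 p
  obtain ⟨fV, rfl⟩ := (AlgSp.yon S).map_surjective fV'
  obtain ⟨f, hf1, -⟩ := Groth.Agent.S10176.exists_point_of_isPullback_yon sqF v t hv
  haveI : Etale fK.left := hb.2 _ _ fK sqF
  obtain ⟨F₀, hF₀, hfF₀, -⟩ : ∃ F₀ : F.left.Opens, F₀ ∈ F.left.affineOpens ∧ f ∈ F₀ ∧ F₀ ≤ ⊤ :=
    TopologicalSpace.Opens.isBasis_iff_nbhd.1 F.left.isBasis_affineOpens
      (TopologicalSpace.Opens.mem_top f)
  haveI : IsAffine (F₀ : Scheme.{u}) := hF₀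
  haveI : CompactSpace ↥(F₀ : Scheme.{u}) := inferInstance
  let c : (F₀ : Scheme.{u}) ⟶ Spec (CommRingCat.of k) := F₀.ι ≫ fK.left
  haveI : Etale c := by show Etale (F₀.ι ≫ fK.left); infer_instance
  obtain ⟨hdisc, -⟩ := Groth.Agent.Lib.Helper12.MonoField.discrete_reduced_of_etale_field k c
  haveI : LocallyQuasiFinite c := Groth.Agent.S10265.locallyQuasiFinite_of_unramified _
  haveI : QuasiCompact c := quasiCompact_of_compactSpace _
  haveI : IsFinite c := IsFinite.of_locallyQuasiFinite c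
  haveI : IsIntegralHom (Spec.map φ) := IsIntegralHom.SpecMap_iff.2 hφ
  haveI : IsClosedImmersion (S.fromSpecResidueField s) :=
    isClosed_singleton_iff_isClosedImmersion.mp hs
  let g : (F₀ : Scheme.{u}) ⟶ V.left := F₀.ι ≫ fV.left
  have hg : g ≫ V.hom = c ≫ Spec.map φ ≫ S.fromSpecResidueField s := by
    show (F₀.ι ≫ fV.left) ≫ V.hom = (F₀.ι ≫ fK.left) ≫ Spec.map φ ≫ S.fromSpecResidueField s
    rw [Category.assoc, Category.assoc, Over.w fV]
    exact congrArg (fun m => F₀.ι ≫ m) (Over.w fK).symm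
  haveI : IsIntegralHom (g ≫ V.hom) := by
    rw [hg]; infer_instance
  haveI : IsIntegralHom g := IsIntegralHom.of_comp g V.hom
  have hcl : IsClosedMap g := g.isClosedMap
  haveI := hdisc
  have h1 : IsClosed ({⟨f, hfF₀⟩} : Set ↥(F₀ : Scheme.{u})) := isClosed_discrete _
  have h2 := hcl _ h1
  have h3 : g '' {⟨f, hfF₀⟩} = {v} := by
    rw [Set.image_singleton]
    exact congrArg _ hf1
  rwa [h3] at h2

end Groth.Agent.Lib.Helper12.ClosedPt
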