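import Mathlib.AlgebraicGeometry.Morphisms.QuasiCompact
import Mathlib.RingTheory.Spectrum.Prime.Topology

/-!
Helper library (helper12): for a quasi-compact morphism, every point of the closure of the image
is a specialization of a point of the image.
-/

set_option autoImplicit false
universe u
open CategoryTheory AlgebraicGeometry TopologicalSpace

namespace Groth.Agent.Lib.Helper12

/-- affine case -/
lemma exists_specializes_of_mem_closure_image_affineOpen {X Y : Scheme.{u}} (f : X ⟶ Y)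
    {V : Y.Opens} (hV : IsAffineOpen V) {W : X.Opens} (hW : IsAffineOpen W) (e : W ≤ f ⁻¹ᵁ V)
    (z : Y) (hzV : z ∈ V) (hz : z ∈ closure (f.base '' (W : Set X))) :
    ∃ x : X, x ∈ W ∧ f.base x ⤳ z := by
  let φ := f.appLE V W e
  have hcomm : Spec.map φ ≫ hV.fromSpec = hW.fromSpec ≫ f := hV.SpecMap_appLE_fromSpec f hW e
  -- z comes from a prime p
  have hzr : z ∈ Set.range hV.fromSpec.base := by rw [hV.range_fromSpec]; exact hzV
  obtain ⟨p, rfl⟩ := hzr
  -- preimage of the image of W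
  have hpre : hV.fromSpec.base ⁻¹' (f.base '' (W : Set X)) = Set.range (Spec.map φ).base := by
    ext o
    simp only [Set.mem_preimage, Set.mem_image, Set.mem_range]
    constructor
    · rintro ⟨w, hw, hwo⟩
      have hwr : w ∈ Set.range hW.fromSpec.base := by rw [hW.range_fromSpec]; exact hw
      obtain ⟨b, rfl⟩ := hwr
      refine ⟨b, ?_⟩
      apply hV.fromSpec.isOpenEmbedding.injective
      rw [← hwo, ← Scheme.Hom.comp_apply, hcomm, Scheme.Hom.comp_apply]
    · rintro ⟨b, rfl⟩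
      refine ⟨hW.fromSpec.base b, ?_, ?_⟩
      · have : hW.fromSpec.base b ∈ Set.range hW.fromSpec.base := ⟨b, rfl⟩
        rw [hW.range_fromSpec] at this
        exact this
      · rw [← Scheme.Hom.comp_apply, ← hcomm, Scheme.Hom.comp_apply]
  have hp : p ∈ closure (Set.range (Spec.map φ).base) := by
    rw [← hpre, ← hV.fromSpec.isOpenEmbedding.isOpenMap.preimage_closure_eq_closure_preimage
      hV.fromSpec.continuous]
    exact hz
  have hp' : p ∈ PrimeSpectrum.zeroLocus (RingHom.ker φ.hom : Set Γ(Y, V)) := by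
    have := PrimeSpectrum.closure_range_comap φ.hom
    rw [← this]
    exact hp
  have hle : (⊥ : Ideal Γ(X, W)).comap φ.hom ≤ p.asIdeal := by
    intro a ha
    exact hp' ha
  have : p.asIdeal.IsPrime := PrimeSpectrum.isPrime p
  obtain ⟨Q, -, hQ, hQp⟩ := Ideal.exists_ideal_comap_le_prime p.asIdeal ⊥ hle
  let q : ↥(Spec Γ(X, W)) := (⟨Q, hQ⟩ : PrimeSpectrum Γ(X, W))
  refine ⟨hW.fromSpec.base q, ?_, ?_⟩
  · have : hW.fromSpec.base q ∈ Set.range hW.fromSpec.base := ⟨q, rfl⟩
    rw [hW.range_fromSpec] at this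
    exact this
  · have e1 : f.base (hW.fromSpec.base q) = hV.fromSpec.base ((Spec.map φ).base q) := by
      rw [← Scheme.Hom.comp_apply, ← hcomm, Scheme.Hom.comp_apply]
    rw [e1]
    apply Specializes.map _ hV.fromSpec.continuous
    change (PrimeSpectrum.comap φ.hom (⟨Q, hQ⟩ : PrimeSpectrum Γ(X, W))) ⤳ (p : PrimeSpectrum Γ(Y, V))
    exact (PrimeSpectrum.le_iff_specializes
      (PrimeSpectrum.comap φ.hom (⟨Q, hQ⟩ : PrimeSpectrum Γ(X, W))) (p : PrimeSpectrum Γ(Y, V))).mp hQp

/-- For a quasi-compact morphism `f`, every point in the closure of the image is a specialization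
of a point of the image. -/
theorem exists_specializes_of_mem_closure_range {X Y : Scheme.{u}} (f : X ⟶ Y) [QuasiCompact f]
    (z : Y) (hz : z ∈ closure (Set.range f.base)) : ∃ x : X, f.base x ⤳ z := by
  obtain ⟨_, ⟨V, hV : IsAffineOpen V, rfl⟩, hzV, -⟩ :=
    Y.isBasis_affineOpens.exists_subset_of_mem_open (Set.mem_univ z) isOpen_univ
  have hUc : IsCompact (f ⁻¹ᵁ V : Set X) := f.isCompact_preimage hV.isCompact
  obtain ⟨s, hs, hsU⟩ :=
    isCompact_and_isOpen_iff_finite_and_eq_biUnion_affineOpens.mp ⟨hUc, (f ⁻¹ᵁ V).2⟩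
  -- z is in the closure of the image of the preimage of V
  have hz1 : z ∈ closure (f.base '' (f ⁻¹ᵁ V : Set X)) := by
    rw [mem_closure_iff] at hz ⊢
    intro O hO hzO
    obtain ⟨y, ⟨hyO, hyV⟩, ⟨x, rfl⟩⟩ := hz (O ∩ V) (hO.inter V.2) ⟨hzO, hzV⟩
    exact ⟨f.base x, hyO, x, hyV, rfl⟩
  rw [hsU, Set.image_iUnion₂, hs.closure_biUnion] at hz1
  obtain ⟨W, hWs, hzW⟩ := Set.mem_iUnion₂.mp hz1
  have hWle : (W : X.Opens) ≤ f ⁻¹ᵁ V := by
    intro x hx
    have : x ∈ (f ⁻¹ᵁ V : Set X) := by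
      rw [hsU]
      exact Set.mem_iUnion₂.mpr ⟨W, hWs, hx⟩
    exact this
  obtain ⟨x, -, hx⟩ := exists_specializes_of_mem_closure_image_affineOpen f hV W.2 hWle z hzV hzW
  exact ⟨x, hx⟩

end Groth.Agent.Lib.Helper12
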