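import Mathlib
import Groth.Agent.Lib.Helper22IdealComap

set_option autoImplicit false
universe u

open AlgebraicGeometry CategoryTheory CategoryTheory.Limits TopologicalSpace

namespace Groth.Agent.Lib.Helper12.ComplMorA

open Scheme.IdealSheafData in
/-- inverse image of ideal sheaves commutes with powers. -/
theorem comap_pow {X Y : Scheme.{u}} (f : X ⟶ Y) (𝓚 : Y.IdealSheafData) (m : ℕ) :
    (𝓚 ^ m).comap f = (𝓚.comap f) ^ m := by
  let ι : Type u := {p : X.affineOpens × Y.affineOpens // p.1.1 ≤ f ⁻¹ᵁ p.2.1}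
  refine ext_of_iSup_eq_top (ι := ι) (fun p => p.1.1) ?_ ?_
  · rw [eq_top_iff]
    intro x _
    obtain ⟨V, hV, hxV, -⟩ := exists_isAffineOpen_mem_and_subset (x := f x) (U := ⊤) trivial
    obtain ⟨U, hU, hxU, hUV⟩ := exists_isAffineOpen_mem_and_subset (x := x) (U := f ⁻¹ᵁ V) hxV
    exact Opens.mem_iSup.2 ⟨⟨(⟨U, hU⟩, ⟨V, hV⟩), hUV⟩, hxU⟩
  · rintro ⟨⟨U, V⟩, hUV⟩
    change ((𝓚 ^ m).comap f).ideal U = ((𝓚.comap f) ^ m).ideal U
    rw [Groth.Agent.Lib.Helper22.IdealComap.ideal_comap_eq_map f (𝓚 ^ m) U V hUV, ideal_pow,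
      ideal_pow, Pi.pow_apply, Pi.pow_apply,
      Groth.Agent.Lib.Helper22.IdealComap.ideal_comap_eq_map f 𝓚 U V hUV, Ideal.map_pow]

open Scheme.IdealSheafData in
/-- the closed subscheme of the `m`-th power of the inverse image ideal is the base change of the closed
subscheme of the `m`-th power. -/
theorem isPullback_subschemeMap_pow {X Y : Scheme.{u}} (f : X ⟶ Y) (𝓘 : X.IdealSheafData)
    (𝓚 : Y.IdealSheafData) (h𝓘 : 𝓘 = 𝓚.comap f) (m : ℕ) (H : 𝓚 ^ m ≤ (𝓘 ^ m).map f) :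
    IsPullback (𝓘 ^ m).subschemeι (subschemeMap (𝓘 ^ m) (𝓚 ^ m) f H) f (𝓚 ^ m).subschemeι := by
  refine isPullback_of_isClosedImmersion _ _ _ _ (subschemeMap_subschemeι _ _ _ _).symm ?_
  rw [ker_subschemeι, ker_subschemeι, comap_pow, h𝓘]

/-- A base change of `f` along a morphism landing in the open `V` is a base change of `f ∣_ V`. -/
theorem of_isPullback_of_range_subset (P : MorphismProperty Scheme.{u}) [P.IsStableUnderBaseChange]
    {X Y T T' : Scheme.{u}} {f : X ⟶ Y} {i : T ⟶ Y} {i' : T' ⟶ X} {f' : T' ⟶ T}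
    (sq : IsPullback i' f' f i) (V : Y.Opens) (hV : Set.range i ⊆ V) (hP : P (f ∣_ V)) : P f' := by
  have hV' : Set.range i ⊆ Set.range V.ι := by simpa using hV
  let j : T ⟶ V := IsOpenImmersion.lift V.ι i hV'
  have hj : j ≫ V.ι = i := IsOpenImmersion.lift_fac _ _ _
  have hr : Set.range i' ⊆ Set.range (f ⁻¹ᵁ V).ι := by
    rintro _ ⟨t, rfl⟩
    simp only [Scheme.Opens.range_ι, SetLike.mem_coe, Scheme.Hom.mem_preimage]
    apply hV
    refine ⟨f' t, ?_⟩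
    rw [← Scheme.Hom.comp_apply, ← sq.w, Scheme.Hom.comp_apply]
  let j' : T' ⟶ (f ⁻¹ᵁ V) := IsOpenImmersion.lift (f ⁻¹ᵁ V).ι i' hr
  have hj' : j' ≫ (f ⁻¹ᵁ V).ι = i' := IsOpenImmersion.lift_fac _ _ _
  have sq2 : IsPullback (f ⁻¹ᵁ V).ι (f ∣_ V) f V.ι := (isPullback_morphismRestrict f V).flip
  have sq3 : IsPullback j' f' (f ∣_ V) j := by
    refine IsPullback.of_right ?_ ?_ sq2
    · rw [hj', hj]; exact sq
    · rw [← cancel_mono V.ι, Category.assoc, Category.assoc, hj, morphismRestrict_ι,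
        reassoc_of% hj', sq.w]
  exact P.of_isPullback sq3 hP

/-- restriction to a smaller open. -/
theorem restrict_of_le (P : MorphismProperty Scheme.{u}) [P.IsStableUnderBaseChange]
    {X Y : Scheme.{u}} (f : X ⟶ Y) {U V : Y.Opens} (hUV : U ≤ V) (hP : P (f ∣_ V)) : P (f ∣_ U) :=
  of_isPullback_of_range_subset P (isPullback_morphismRestrict f U).flip V
    (by simpa using hUV) hP

/-- For a closed map `h`, an open neighbourhood of `h ⁻¹ S` contains the preimage of an open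
neighbourhood of `S`. -/
theorem exists_opens_of_isClosedMap {Y Z : Scheme.{u}} (h : Y ⟶ Z) (hh : IsClosedMap h)
    (S : Set Z) (𝒱 : Y.Opens) (hS : h ⁻¹' S ⊆ 𝒱) :
    ∃ U : Z.Opens, S ⊆ U ∧ h ⁻¹ᵁ U ≤ 𝒱 := by
  refine ⟨⟨(h '' (𝒱 : Set Y)ᶜ)ᶜ, (hh _ 𝒱.isOpen.isClosed_compl).isOpen_compl⟩, ?_, ?_⟩
  · rintro z hz ⟨y, hy, rfl⟩
    exact hy (hS hz)
  · intro y hy
    by_contra hy'
    exact hy ⟨y, hy', rfl⟩

/-- the locus over which `f` has a property local on the target. -/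
theorem exists_opens_locus (P : MorphismProperty Scheme.{u}) [IsZariskiLocalAtTarget P]
    {X Y : Scheme.{u}} (f : X ⟶ Y) :
    ∃ 𝒱 : Y.Opens, (∀ V : Y.Opens, P (f ∣_ V) → V ≤ 𝒱) ∧ P (f ∣_ 𝒱) := by
  let 𝒱 : Y.Opens := ⨆ V : {V : Y.Opens // P (f ∣_ V)}, V.1
  refine ⟨𝒱, fun V hV => le_iSup (fun V : {V : Y.Opens // P (f ∣_ V)} => V.1) ⟨V, hV⟩, ?_⟩
  refine IsZariskiLocalAtTarget.of_forall_exists_morphismRestrict (P := P) ?_
  rintro ⟨y, hy⟩
  obtain ⟨⟨V, hV⟩, hyV⟩ := Opens.mem_iSup.1 hy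
  have hle : V ≤ 𝒱 := le_iSup (fun V : {V : Y.Opens // P (f ∣_ V)} => V.1) ⟨V, hV⟩
  refine ⟨𝒱.ι ⁻¹ᵁ V, hyV, ?_⟩
  have e : 𝒱.ι ''ᵁ (𝒱.ι ⁻¹ᵁ V) = V := by
    rw [Scheme.Hom.image_preimage_eq_opensRange_inf, Scheme.Opens.opensRange_ι]
    exact inf_eq_right.2 hle
  refine (P.arrow_mk_iso_iff (morphismRestrictRestrict f 𝒱 (𝒱.ι ⁻¹ᵁ V))).2 ?_
  exact (P.arrow_mk_iso_iff (morphismRestrictEq f e)).2 hV

end Groth.Agent.Lib.Helper12.ComplMorA
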