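import Mathlib
import Groth.Agent.Lib.Helper12ComplMorA

set_option autoImplicit false
universe u

open AlgebraicGeometry CategoryTheory CategoryTheory.Limits TopologicalSpace

namespace Groth.Agent.Lib.Helper12.ComplMorB

/-- Nakayama: a finite ring map that is surjective modulo `K` is surjective after inverting some
`r ≡ 1 mod K`. -/
theorem exists_mul_mem_range {B A : Type*} [CommRing B] [CommRing A] (φ : B →+* A)
    (hφ : φ.Finite) (K : Ideal B) (h : ∀ a : A, ∃ b : B, a - φ b ∈ K.map φ) :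
    ∃ r : B, r - 1 ∈ K ∧ ∀ a : A, ∃ b : B, φ r * a = φ b := by
  letI : Algebra B A := φ.toAlgebra
  haveI : Module.Finite B A := hφ
  let N : Submodule B A := LinearMap.range (Algebra.linearMap B A)
  have htop : (⊤ : Submodule B (A ⧸ N)) ≤ K • ⊤ := by
    rintro m -
    obtain ⟨a, rfl⟩ := N.mkQ_surjective m
    obtain ⟨b, hb⟩ := h a
    have h1 : N.mkQ a = N.mkQ (a - φ b) := by
      rw [map_sub, sub_eq_self.2]
      exact (Submodule.Quotient.mk_eq_zero N).2 ⟨b, rfl⟩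
    rw [h1]
    have h2 : a - φ b ∈ (K • ⊤ : Submodule B A) := by
      rw [Ideal.smul_top_eq_map]
      exact hb
    have h3 := Submodule.mem_map_of_mem (f := N.mkQ) h2
    rw [Submodule.map_smul'', Submodule.map_top, Submodule.range_mkQ] at h3
    exact h3
  obtain ⟨r, hr1, hr2⟩ := Submodule.exists_sub_one_mem_and_smul_eq_zero_of_fg_of_le_smul K
    (⊤ : Submodule B (A ⧸ N)) Module.Finite.fg_top htop
  refine ⟨r, hr1, fun a => ?_⟩
  have h4 := hr2 (N.mkQ a) trivial
  rw [← map_smul, Submodule.mkQ_apply, Submodule.Quotient.mk_eq_zero] at h4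
  obtain ⟨b, hb⟩ := h4
  refine ⟨b, ?_⟩
  rw [← smul_eq_mul, ← algebraMap_smul A r a] at *
  exact hb.symm

/-- if `φ r • A ⊆ φ B`, the map induced on the localizations away from `r` is surjective. -/
theorem away_map_surjective {B A B' A' : Type*} [CommRing B] [CommRing A] [CommRing B']
    [CommRing A'] [Algebra B B'] [Algebra A A'] (φ : B →+* A) (r : B) [IsLocalization.Away r B']
    [IsLocalization.Away (φ r) A'] (h : ∀ a : A, ∃ b : B, φ r * a = φ b) :
    Function.Surjective (IsLocalization.Away.map B' A' φ r) := by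
  intro z
  obtain ⟨n, a, ha⟩ := IsLocalization.Away.surj (φ r) z
  obtain ⟨b, hb⟩ := h a
  have hu : IsUnit (algebraMap B B' r) := IsLocalization.Away.algebraMap_isUnit r
  set ψ := IsLocalization.Away.map B' A' φ r with hψ
  have hψalg : ∀ b' : B, ψ (algebraMap B B' b') = algebraMap A A' (φ b') := fun b' => by
    rw [hψ, IsLocalization.Away.map, IsLocalization.map_eq]
  have hu' : IsUnit (ψ (algebraMap B B' r)) := hu.map ψ
  refine ⟨algebraMap B B' b * ((hu.unit⁻¹ : B'ˣ) : B') ^ (n + 1), ?_⟩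
  have h1 : z * (ψ (algebraMap B B' r)) ^ (n + 1) = ψ (algebraMap B B' b) := by
    rw [hψalg, hψalg, pow_succ, ← mul_assoc, ha, ← map_mul, mul_comm a, hb]
  rw [map_mul, ← h1, map_pow, mul_assoc, ← mul_pow, ← map_mul, IsUnit.mul_val_inv, map_one,
    one_pow, mul_one]

/-- scheme version: if `f.app W r • Γ(X, f⁻¹W)` lies in the image of `Γ(Y, W)`, then `f` is a closed
immersion over `D(r)`. -/
theorem isClosedImmersion_restrict_basicOpen {X Y : Scheme.{u}} (f : X ⟶ Y) (W : Y.Opens)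
    (hW : IsAffineOpen W) (hU : IsAffineOpen (f ⁻¹ᵁ W)) (r : Γ(Y, W))
    (h : ∀ a : Γ(X, f ⁻¹ᵁ W), ∃ b : Γ(Y, W), (f.app W).hom r * a = (f.app W).hom b) :
    IsClosedImmersion (f ∣_ Y.basicOpen r) := by
  haveI : IsAffine (Y.basicOpen r).toScheme := hW.basicOpen r
  rw [HasAffineProperty.iff_of_isAffine (P := @IsClosedImmersion)]
  constructor
  · have : IsAffineOpen (f ⁻¹ᵁ Y.basicOpen r) := by
      rw [Scheme.preimage_basicOpen]
      exact hU.basicOpen _
    exact this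
  · have key : Function.Surjective (f.app (Y.basicOpen r)).hom := by
      rw [hW.app_basicOpen_eq_away_map f hU r, CommRingCat.hom_comp, RingHom.coe_comp]
      refine (ConcreteCategory.bijective_of_isIso
        (X.presheaf.map (eqToHom _).op)).surjective.comp ?_
      haveI := hW.isLocalization_basicOpen r
      haveI := hU.isLocalization_basicOpen ((f.app W).hom r)
      exact away_map_surjective (f.app W).hom r h
    have key' : Function.Surjective (Scheme.Hom.app f ((Y.basicOpen r).ι ''ᵁ ⊤)).hom := by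
      rw [Scheme.Opens.ι_image_top]
      exact key
    have hiso : Function.Bijective (X.presheaf.map
        (eqToHom (image_morphismRestrict_preimage f (Y.basicOpen r) ⊤)).op).hom :=
      ConcreteCategory.bijective_of_isIso _
    rw [morphismRestrict_appTop]
    exact hiso.surjective.comp key'

/-- a point of the support at which `r ≡ 1` modulo the ideal lies in `D(r)`. -/
theorem mem_basicOpen_of_sub_one_mem {Y : Scheme.{u}} (𝓚 : Y.IdealSheafData) (W : Y.affineOpens)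
    (r : Γ(Y, W.1)) (hr : r - 1 ∈ 𝓚.ideal W) (y : Y) (hyW : y ∈ W.1) (hy : y ∈ 𝓚.support) :
    y ∈ Y.basicOpen r := by
  rw [Scheme.IdealSheafData.mem_support_iff_of_mem hyW, Scheme.mem_zeroLocus_iff] at hy
  have h1 := hy (r - 1) hr
  rw [Scheme.mem_basicOpen _ _ _ hyW] at h1 ⊢
  have h2 := IsLocalRing.isUnit_or_isUnit_of_add_one
    (a := (Y.presheaf.germ W.1 y hyW).hom r) (b := (Y.presheaf.germ W.1 y hyW).hom (1 - r))
    (by rw [← map_add, add_sub_cancel, map_one])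
  rcases h2 with h2 | h2
  · exact h2
  · exfalso
    apply h1
    have : r - 1 = -(1 - r) := by ring
    rw [this, map_neg]
    exact h2.neg

/-- the fibres of `f` over points of `Y₀` are subsingletons if the base change of `f` to `Y₀` is
injective. -/
theorem subsingleton_fibre {X Y X₀ Y₀ : Scheme.{u}} {f : X ⟶ Y} {iX : X₀ ⟶ X} {iY : Y₀ ⟶ Y}
    {f₀ : X₀ ⟶ Y₀} (sq : IsPullback iX f₀ f iY) (hf₀ : Function.Injective f₀)
    (y : Y) (hy : y ∈ Set.range iY) : (f ⁻¹' {y}).Subsingleton := by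
  obtain ⟨y₀, rfl⟩ := hy
  have key : ∀ x : X, f x = iY y₀ → ∃ x₀ : X₀, iX x₀ = x ∧ f₀ x₀ = y₀ := by
    intro x hx
    obtain ⟨z, hz1, hz2⟩ := Scheme.Pullback.exists_preimage_pullback (f := f) (g := iY) x y₀ hx
    refine ⟨sq.isoPullback.inv z, ?_, ?_⟩
    · rw [← Scheme.Hom.comp_apply, sq.isoPullback_inv_fst, hz1]
    · rw [← Scheme.Hom.comp_apply, sq.isoPullback_inv_snd, hz2]
  intro x hx x' hx'
  obtain ⟨x₀, rfl, h1⟩ := key x hx
  obtain ⟨x₀', rfl, h2⟩ := key x' hx'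
  rw [hf₀ (h1.trans h2.symm)]

/-- surjectivity modulo the ideal, from the closed immersion of the base change. -/
theorem exists_sub_mem_of_isClosedImmersion {X Y X₀ Y₀ : Scheme.{u}} {f : X ⟶ Y} {iX : X₀ ⟶ X}
    {iY : Y₀ ⟶ Y} {f₀ : X₀ ⟶ Y₀} [IsClosedImmersion iY] [IsClosedImmersion f₀]
    (sq : IsPullback iX f₀ f iY) (W : Y.affineOpens) (hU : IsAffineOpen (f ⁻¹ᵁ W.1))
    (a : Γ(X, f ⁻¹ᵁ W.1)) :
    ∃ b : Γ(Y, W.1), a - (f.app W.1).hom b ∈ (iY.ker.ideal W).map (f.app W.1).hom := by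
  haveI : IsClosedImmersion iX := MorphismProperty.of_isPullback sq.flip ‹IsClosedImmersion iY›
  have hker : iX.ker = iY.ker.comap f := by
    have h1 : iX = sq.isoPullback.hom ≫ pullback.fst f iY := sq.isoPullback_hom_fst.symm
    rw [h1, Scheme.Hom.ker_comp_of_isIso, Scheme.IdealSheafData.ker_fst_of_isClosedImmersion]
  have hideal : iX.ker.ideal ⟨f ⁻¹ᵁ W.1, hU⟩ = (iY.ker.ideal W).map (f.app W.1).hom := by
    rw [hker, Groth.Agent.Lib.Helper22.IdealComap.ideal_comap_eq_map f iY.ker ⟨f ⁻¹ᵁ W.1, hU⟩ W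
      le_rfl, Scheme.Hom.app_eq_appLE]
  have e := Scheme.Hom.congr_app sq.w W.1
  rw [Scheme.Hom.comp_app, Scheme.Hom.comp_app] at e
  have hs1 : Function.Surjective (iY.app W.1).hom := iY.app_surjective W.1 W.2
  have hs2 : Function.Surjective (f₀.app (iY ⁻¹ᵁ W.1)).hom :=
    f₀.app_surjective _ (W.2.preimage iY)
  have hρ := ConcreteCategory.bijective_of_isIso
    (X₀.presheaf.map (eqToHom (show (iX ≫ f) ⁻¹ᵁ W.1 = (f₀ ≫ iY) ⁻¹ᵁ W.1 by rw [sq.w])).op)
  obtain ⟨c', hc'⟩ := hρ.surjective ((iX.app (f ⁻¹ᵁ W.1)).hom a)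
  obtain ⟨c, hc⟩ := hs2 c'
  obtain ⟨b, hb⟩ := hs1 c
  refine ⟨b, ?_⟩
  rw [← hideal, Scheme.Hom.ker_apply, RingHom.mem_ker, map_sub, sub_eq_zero]
  have e2 : (iX.app (f ⁻¹ᵁ W.1)).hom ((f.app W.1).hom b) =
      (X₀.presheaf.map (eqToHom (show (iX ≫ f) ⁻¹ᵁ W.1 = (f₀ ≫ iY) ⁻¹ᵁ W.1 by rw [sq.w])).op).hom
        ((f₀.app (iY ⁻¹ᵁ W.1)).hom ((iY.app W.1).hom b)) := congrArg (fun φ => φ.hom b) e
  change (iX.app (f ⁻¹ᵁ W.1)).hom a = (iX.app (f ⁻¹ᵁ W.1)).hom ((f.app W.1).hom b)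
  rw [e2, hb, hc]
  exact hc'.symm

/-- **closed immersion near a point of `Y₀`**: a proper morphism whose base change to the closed
subscheme `Y₀` is a closed immersion is a closed immersion over a neighbourhood of every point of `Y₀`. -/
theorem exists_isClosedImmersion_near {X Y X₀ Y₀ : Scheme.{u}} (f : X ⟶ Y) [IsProper f]
    (iX : X₀ ⟶ X) (iY : Y₀ ⟶ Y) (f₀ : X₀ ⟶ Y₀) [IsClosedImmersion iY] [IsClosedImmersion f₀]
    (sq : IsPullback iX f₀ f iY) (y : Y) (hy : y ∈ Set.range iY) :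
    ∃ V : Y.Opens, y ∈ V ∧ IsClosedImmersion (f ∣_ V) := by
  have hfin : (f ⁻¹' {y}).Finite :=
    (subsingleton_fibre sq f₀.isClosedEmbedding.injective y hy).finite
  obtain ⟨V₁, hyV₁, hV₁⟩ := exists_isFinite_morphismRestrict_of_finite_preimage_singleton f y hfin
  obtain ⟨W, hW, hyW, hWV₁⟩ := exists_isAffineOpen_mem_and_subset (x := y) (U := V₁) hyV₁
  have hfW : IsFinite (f ∣_ W) :=
    Groth.Agent.Lib.Helper12.ComplMorA.restrict_of_le @IsFinite f hWV₁ hV₁
  haveI : IsAffine W.toScheme := hW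
  have hU : IsAffineOpen (f ⁻¹ᵁ W) := isAffine_of_isAffineHom (f ∣_ W)
  have hfin' : (f.app W).hom.Finite := by
    have h0 := (f ∣_ W).finite_appTop
    rw [morphismRestrict_appTop] at h0
    have h1 : (Scheme.Hom.app f (W.ι ''ᵁ ⊤) ≫ X.presheaf.map
        (eqToHom (image_morphismRestrict_preimage f W ⊤)).op).hom.Finite := h0
    rw [CommRingCat.hom_comp, RingHom.finite_respectsIso.cancel_right_isIso] at h1
    have h2 : (Scheme.Hom.app f (W.ι ''ᵁ ⊤)).hom.Finite := h1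
    rw [Scheme.Opens.ι_image_top] at h2
    exact h2
  obtain ⟨r, hr1, hr2⟩ := exists_mul_mem_range (f.app W).hom hfin' (iY.ker.ideal ⟨W, hW⟩)
    (fun a => exists_sub_mem_of_isClosedImmersion sq ⟨W, hW⟩ hU a)
  exact ⟨Y.basicOpen r, mem_basicOpen_of_sub_one_mem iY.ker ⟨W, hW⟩ r hr1 y hyW
    (iY.range_subset_ker_support hy), isClosedImmersion_restrict_basicOpen f W hW hU r hr2⟩

end Groth.Agent.Lib.Helper12.ComplMorB
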