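import Mathlib
import Groth.Prelude.Def_FSch3
import Groth.Agent.Lib.Helper12ComplMorB

set_option autoImplicit false
universe u

open AlgebraicGeometry CategoryTheory CategoryTheory.Limits TopologicalSpace

namespace Groth.Agent.Lib.Helper12.ComplMorC

open Groth.Agent.Lib.Helper12.ComplMorA Groth.Agent.Lib.Helper12.ComplMorB

variable {X Y Z : Scheme.{u}} (g : X ⟶ Z) (h : Y ⟶ Z) (f : X ⟶ Y) (w : f ≫ h = g)
  (𝓙 : Z.IdealSheafData) (hc : FSch.PowCompat f (𝓙.comap g) (𝓙.comap h))

/-- level `n` of the completed morphism, as a map of closed subschemes. -/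
noncomputable abbrev level (n : ℕ) :
    ((𝓙.comap g) ^ (n + 1)).subscheme ⟶ ((𝓙.comap h) ^ (n + 1)).subscheme :=
  Scheme.IdealSheafData.subschemeMap ((𝓙.comap g) ^ (n + 1)) ((𝓙.comap h) ^ (n + 1)) f
    (Scheme.IdealSheafData.le_map_iff_comap_le.mpr (hc n))

theorem level_eq (n : ℕ) :
    (FSch.completionMap f (𝓙.comap g) (𝓙.comap h) hc : FSch.Hom _ _).app n = level g h f 𝓙 hc n :=
  rfl

include w in
/-- each level of the completed morphism is the base change of `f` to the corresponding thickening. -/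
theorem isPullback_level (n : ℕ) :
    IsPullback ((𝓙.comap g) ^ (n + 1)).subschemeι (level g h f 𝓙 hc n) f
      ((𝓙.comap h) ^ (n + 1)).subschemeι :=
  isPullback_subschemeMap_pow f (𝓙.comap g) (𝓙.comap h)
    (by rw [← w, Scheme.IdealSheafData.comap_comp]) (n + 1) _

/-- the thickenings of `Y` along the inverse image of `𝓙` lie over the support of `𝓙`. -/
theorem range_subschemeι_pow (n : ℕ) :
    Set.range ((𝓙.comap h) ^ (n + 1)).subschemeι = h ⁻¹' (𝓙.support : Set Z) := by
  rw [Scheme.IdealSheafData.range_subschemeι, Scheme.IdealSheafData.support_pow_succ,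
    Scheme.IdealSheafData.support_comap]
  rfl

include w in
/-- a property stable under base change that holds for `f` near the support holds for all levels. -/
theorem levels_of_near (P : MorphismProperty Scheme.{u}) [P.IsStableUnderBaseChange]
    (U : Z.Opens) (hU : (𝓙.support : Set Z) ⊆ U) (hP : P (f ∣_ h ⁻¹ᵁ U)) (n : ℕ) :
    P (level g h f 𝓙 hc n) := by
  refine of_isPullback_of_range_subset P (isPullback_level g h f w 𝓙 hc n) (h ⁻¹ᵁ U) ?_ hP
  rw [range_subschemeι_pow]
  exact Set.preimage_mono hU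

/-- from a local statement at the points over the support to an open neighbourhood of the support. -/
theorem exists_opens_of_forall_near (P : MorphismProperty Scheme.{u}) [P.IsStableUnderBaseChange]
    [IsZariskiLocalAtTarget P] [UniversallyClosed h]
    (H : ∀ y : Y, h y ∈ 𝓙.support → ∃ V : Y.Opens, y ∈ V ∧ P (f ∣_ V)) :
    ∃ U : Z.Opens, (𝓙.support : Set Z) ⊆ U ∧ P (f ∣_ h ⁻¹ᵁ U) := by
  obtain ⟨𝒱, h𝒱max, h𝒱⟩ := exists_opens_locus P f
  have hS : h ⁻¹' (𝓙.support : Set Z) ⊆ 𝒱 := by
    intro y hy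
    obtain ⟨V, hyV, hV⟩ := H y hy
    exact h𝒱max V hV hyV
  obtain ⟨U, hSU, hU𝒱⟩ := exists_opens_of_isClosedMap h h.isClosedMap _ 𝒱 hS
  exact ⟨U, hSU, restrict_of_le P f hU𝒱 h𝒱⟩

include w in
/-- **closed immersion case**. -/
theorem isClosedImmersion_iff [IsProper g] [IsProper h] :
    (∀ n : ℕ, IsClosedImmersion
        ((FSch.completionMap f (𝓙.comap g) (𝓙.comap h) hc : FSch.Hom _ _).app n)) ↔
      ∃ U : Z.Opens, (𝓙.support : Set Z) ⊆ U ∧ IsClosedImmersion (f ∣_ h ⁻¹ᵁ U) := by
  simp only [level_eq]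
  constructor
  · intro H
    haveI : IsProper (f ≫ h) := w ▸ inferInstance
    haveI : IsProper f := IsProper.of_comp f h
    refine exists_opens_of_forall_near h f 𝓙 @IsClosedImmersion (fun y hy => ?_)
    haveI : IsClosedImmersion (level g h f 𝓙 hc 0) := H 0
    refine exists_isClosedImmersion_near f ((𝓙.comap g) ^ (0 + 1)).subschemeι
      ((𝓙.comap h) ^ (0 + 1)).subschemeι (level g h f 𝓙 hc 0)
      (isPullback_level g h f w 𝓙 hc 0) y ?_
    rw [range_subschemeι_pow]
    exact hy
  · rintro ⟨U, hU, hP⟩ n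
    exact levels_of_near g h f w 𝓙 hc @IsClosedImmersion U hU hP n

end Groth.Agent.Lib.Helper12.ComplMorC
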