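import Mathlib
import Groth.Prelude.Def_FSch3
import Groth.Agent.Lib.Helper12ComplMorC

set_option autoImplicit false
universe u

open AlgebraicGeometry CategoryTheory CategoryTheory.Limits TopologicalSpace

namespace Groth.Agent.Lib.Helper12.ComplMorD

open Groth.Agent.Lib.Helper12.ComplMorA Groth.Agent.Lib.Helper12.ComplMorB
  Groth.Agent.Lib.Helper12.ComplMorC

/-- Krull intersection theorem + Nakayama: an ideal contained in all powers of `K` is killed by some
`r ≡ 1 mod K`. -/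
theorem exists_mul_eq_zero_of_le_pow {B : Type*} [CommRing B] [IsNoetherianRing B] (K N : Ideal B)
    (h : ∀ n : ℕ, N ≤ K ^ n) : ∃ r : B, r - 1 ∈ K ∧ ∀ x ∈ N, r * x = 0 := by
  have hle : N ≤ K • N := by
    intro x hx
    have hx' : x ∈ (⨅ i : ℕ, K ^ i • ⊤ : Submodule B B) := by
      rw [Submodule.mem_iInf]
      intro i
      rw [smul_eq_mul, Ideal.mul_top]
      exact h i hx
    obtain ⟨r, hr⟩ := (K.mem_iInf_smul_pow_eq_bot_iff x).1 hx'
    rw [← hr]
    exact Submodule.smul_mem_smul r.2 hx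
  obtain ⟨r, hr1, hr2⟩ := Submodule.exists_sub_one_mem_and_smul_eq_zero_of_fg_of_le_smul K N
    (IsNoetherian.noetherian N) hle
  exact ⟨r, hr1, fun x hx => by simpa using hr2 x hx⟩

/-- **isomorphism near a point of the support**. -/
theorem exists_isIso_near {X Y : Scheme.{u}} [IsLocallyNoetherian Y] (f : X ⟶ Y) [QuasiCompact f]
    (𝓚 : Y.IdealSheafData) (hker : ∀ n : ℕ, f.ker ≤ 𝓚 ^ (n + 1)) (y : Y) (hy : y ∈ 𝓚.support)
    (V₀ : Y.Opens) (hyV₀ : y ∈ V₀) (hV₀ : IsClosedImmersion (f ∣_ V₀)) :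
    ∃ V : Y.Opens, y ∈ V ∧ IsIso (f ∣_ V) := by
  obtain ⟨W, hW, hyW, hWV₀⟩ := exists_isAffineOpen_mem_and_subset (x := y) (U := V₀) hyV₀
  haveI : IsNoetherianRing Γ(Y, W) := IsLocallyNoetherian.component_noetherian ⟨W, hW⟩
  have hpow : ∀ n : ℕ, f.ker.ideal ⟨W, hW⟩ ≤ (𝓚.ideal ⟨W, hW⟩) ^ n := by
    intro n
    cases n with
    | zero => rw [pow_zero, Ideal.one_eq_top]; exact le_top
    | succ n => exact hker n ⟨W, hW⟩
  obtain ⟨r, hr1, hr2⟩ := exists_mul_eq_zero_of_le_pow (𝓚.ideal ⟨W, hW⟩) (f.ker.ideal ⟨W, hW⟩) hpow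
  refine ⟨Y.basicOpen r, mem_basicOpen_of_sub_one_mem 𝓚 ⟨W, hW⟩ r hr1 y hyW hy, ?_⟩
  haveI hci : IsClosedImmersion (f ∣_ Y.basicOpen r) :=
    restrict_of_le @IsClosedImmersion f (le_trans (Y.basicOpen_le r) hWV₀) hV₀
  haveI : IsAffine (Y.basicOpen r).toScheme := hW.basicOpen r
  refine IsClosedImmersion.isIso_of_injective_of_isAffine ?_
  have key : Function.Injective (f.app (Y.basicOpen r)).hom := by
    rw [RingHom.injective_iff_ker_eq_bot]
    have h1 := f.ker_apply (Y.affineBasicOpen r)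
    rw [← f.ker.map_ideal_basicOpen ⟨W, hW⟩ r] at h1
    change _ = RingHom.ker (f.app (Y.basicOpen r)).hom at h1
    rw [← h1, Ideal.map_eq_bot_iff_le_ker]
    intro x hx
    rw [RingHom.mem_ker]
    have hu : IsUnit ((Y.presheaf.map (homOfLE (Y.basicOpen_le r)).op).hom r) :=
      RingedSpace.isUnit_res_basicOpen _ r
    have h2 := congrArg (Y.presheaf.map (homOfLE (Y.basicOpen_le r)).op).hom (hr2 x hx)
    rw [map_mul, map_zero] at h2
    exact (hu.mul_right_eq_zero).1 h2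
  have key' : Function.Injective (Scheme.Hom.app f ((Y.basicOpen r).ι ''ᵁ ⊤)).hom := by
    rw [Scheme.Opens.ι_image_top]
    exact key
  have hiso : Function.Bijective (X.presheaf.map
      (eqToHom (image_morphismRestrict_preimage f (Y.basicOpen r) ⊤)).op).hom :=
    ConcreteCategory.bijective_of_isIso _
  rw [morphismRestrict_appTop]
  exact hiso.injective.comp key'

variable {X Y Z : Scheme.{u}} (g : X ⟶ Z) (h : Y ⟶ Z) (f : X ⟶ Y) (w : f ≫ h = g)
  (𝓙 : Z.IdealSheafData) (hc : FSch.PowCompat f (𝓙.comap g) (𝓙.comap h))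

/-- if level `n` is an isomorphism, the kernel of `f` lies in the `(n+1)`-st power. -/
theorem ker_le_pow_of_isIso_level (n : ℕ) [IsIso (level g h f 𝓙 hc n)] :
    f.ker ≤ (𝓙.comap h) ^ (n + 1) := by
  have h1 : ((𝓙.comap h) ^ (n + 1)).subschemeι =
      (inv (level g h f 𝓙 hc n) ≫ ((𝓙.comap g) ^ (n + 1)).subschemeι) ≫ f := by
    rw [Category.assoc, IsIso.eq_inv_comp]
    exact Scheme.IdealSheafData.subschemeMap_subschemeι _ _ _ _
  have h2 := Scheme.Hom.le_ker_comp
    (inv (level g h f 𝓙 hc n) ≫ ((𝓙.comap g) ^ (n + 1)).subschemeι) f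
  rw [← h1, Scheme.IdealSheafData.ker_subschemeι] at h2
  exact h2

include w in
/-- **isomorphism case**. -/
theorem isIso_iff [IsLocallyNoetherian Z] [IsProper g] [IsProper h] :
    (∀ n : ℕ, IsIso ((FSch.completionMap f (𝓙.comap g) (𝓙.comap h) hc : FSch.Hom _ _).app n)) ↔
      ∃ U : Z.Opens, (𝓙.support : Set Z) ⊆ U ∧ IsIso (f ∣_ h ⁻¹ᵁ U) := by
  constructor
  · intro H
    haveI : IsProper (f ≫ h) := w ▸ inferInstance
    haveI : IsProper f := IsProper.of_comp f h
    haveI : IsLocallyNoetherian Y := LocallyOfFiniteType.isLocallyNoetherian h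
    obtain ⟨U₀, hU₀, hci⟩ := (isClosedImmersion_iff g h f w 𝓙 hc).1
      (fun n => haveI := H n; inferInstance)
    simp only [level_eq] at H
    have hker : ∀ n : ℕ, f.ker ≤ (𝓙.comap h) ^ (n + 1) := fun n =>
      @ker_le_pow_of_isIso_level _ _ _ g h f 𝓙 hc n (H n)
    refine exists_opens_of_forall_near h f 𝓙 (MorphismProperty.isomorphisms Scheme.{u})
      (fun y hy => ?_)
    have hy' : y ∈ (𝓙.comap h).support := by
      rw [Scheme.IdealSheafData.support_comap]
      exact hy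
    exact exists_isIso_near f (𝓙.comap h) hker y hy' (h ⁻¹ᵁ U₀) (hU₀ hy) hci
  · rintro ⟨U, hU, hP⟩ n
    rw [level_eq]
    exact levels_of_near g h f w 𝓙 hc (MorphismProperty.isomorphisms Scheme.{u}) U hU hP n

end Groth.Agent.Lib.Helper12.ComplMorD
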