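import Mathlib.Topology.Spectral.ConstructibleTopology
import Mathlib.Topology.Constructible

/-!
Compactness of the constructible topology, in the form of a finite subfamily statement
for constructible subsets of a spectral space.
-/

set_option autoImplicit false

namespace Groth.Agent.Lib.Helper5

open Topology

variable {X : Type*} [TopologicalSpace X]

/-- Constructible sets of a compact quasi-separated space are clopen in the constructible
topology. -/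
theorem isOpen_constructibleTopology_and_compl [CompactSpace X] [QuasiSeparatedSpace X]
    {s : Set X} (hs : IsConstructible s) :
    IsOpen[constructibleTopology X] s ∧ IsOpen[constructibleTopology X] sᶜ := by
  induction hs using IsConstructible.empty_union_induction with
  | open_retrocompact U hUopen hUcomp =>
    refine ⟨hUcomp.isCompact.isOpen_constructibleTopology_of_isOpen hUopen, ?_⟩
    apply IsCompact.isOpen_constructibleTopology_of_isClosed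
    · rw [compl_compl]; exact hUcomp.isCompact
    · exact hUopen.isClosed_compl
  | union s hs t ht hs' ht' =>
    refine ⟨@IsOpen.union _ s t (constructibleTopology X) hs'.1 ht'.1, ?_⟩
    rw [Set.compl_union]
    exact @IsOpen.inter _ (constructibleTopology X) sᶜ tᶜ hs'.2 ht'.2
  | compl s hs hs' =>
    refine ⟨hs'.2, ?_⟩
    rw [compl_compl]
    exact hs'.1

/-- Compactness of the constructible topology: if an intersection of constructible sets is contained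
in a union of constructible sets, then this already holds for finite subfamilies. -/
theorem exists_finite_sInter_subset_sUnion [CompactSpace X] [QuasiSober X] [PrespectralSpace X]
    [QuasiSeparatedSpace X] (𝒟 𝒞 : Set (Set X)) (h𝒟 : ∀ s ∈ 𝒟, IsConstructible s)
    (h𝒞 : ∀ s ∈ 𝒞, IsConstructible s) (h : ⋂₀ 𝒟 ⊆ ⋃₀ 𝒞) :
    ∃ 𝒟' ⊆ 𝒟, ∃ 𝒞' ⊆ 𝒞, 𝒟'.Finite ∧ 𝒞'.Finite ∧ ⋂₀ 𝒟' ⊆ ⋃₀ 𝒞' := by
  classical
  let ℱ : Set (Set X) := (compl '' 𝒟) ∪ 𝒞
  let Uf : ℱ → Set (WithConstructibleTopology X) := fun i => WithTopology.ofTopology ⁻¹' i.1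
  have hopen : ∀ i, IsOpen (Uf i) := by
    rintro ⟨s, hs⟩
    rw [WithConstructibleTopology.isOpen_iff]
    show IsOpen[constructibleTopology X] s
    rcases hs with ⟨D, hD, rfl⟩ | hC
    · exact (isOpen_constructibleTopology_and_compl (h𝒟 D hD)).2
    · exact (isOpen_constructibleTopology_and_compl (h𝒞 s hC)).1
  have hcover : (Set.univ : Set (WithConstructibleTopology X)) ⊆ ⋃ i, Uf i := by
    intro y _
    rw [Set.mem_iUnion]
    by_cases hy : WithTopology.ofTopology y ∈ ⋂₀ 𝒟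
    · obtain ⟨C, hC, hyC⟩ := h hy
      exact ⟨⟨C, Or.inr hC⟩, hyC⟩
    · rw [Set.mem_sInter] at hy
      push Not at hy
      obtain ⟨D, hD, hyD⟩ := hy
      exact ⟨⟨Dᶜ, Or.inl ⟨D, hD, rfl⟩⟩, hyD⟩
  obtain ⟨t, ht⟩ := isCompact_univ.elim_finite_subcover Uf hopen hcover
  let T : Set (Set X) := (fun i : ℱ => i.1) '' (t : Set ℱ)
  have hT : T.Finite := (Finset.finite_toSet t).image _
  refine ⟨{D | D ∈ 𝒟 ∧ Dᶜ ∈ T}, fun D hD => hD.1, {C | C ∈ 𝒞 ∧ C ∈ T}, fun C hC => hC.1, ?_, ?_, ?_⟩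
  · have : {D | D ∈ 𝒟 ∧ Dᶜ ∈ T} ⊆ compl '' T := by
      rintro D ⟨_, hD⟩
      exact ⟨Dᶜ, hD, compl_compl D⟩
    exact (hT.image _).subset this
  · exact hT.subset fun C hC => hC.2
  · intro x hx
    have hx' := ht (Set.mem_univ (WithTopology.toTopology _ x))
    rw [Set.mem_iUnion₂] at hx'
    obtain ⟨⟨s, hs⟩, hst, hxs⟩ := hx'
    have hxs' : x ∈ s := hxs
    have hsT : s ∈ T := ⟨⟨s, hs⟩, hst, rfl⟩
    rcases hs with ⟨D, hD, rfl⟩ | hC
    · exact absurd (hx D ⟨hD, hsT⟩) hxs'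
    · exact ⟨s, ⟨hC, hsT⟩, hxs'⟩

end Groth.Agent.Lib.Helper5

namespace Groth.Agent.Lib.Helper5

open Topology
open scoped Set.Notation

variable {X : Type*} [TopologicalSpace X]

/-- Restricting a locally constructible subset of an open `U` to a spectral open `W ⊆ U`
gives a constructible subset of `W`. -/
theorem isConstructible_inclusion_preimage {U W : Set X} (hW : IsOpen W) (hWU : W ⊆ U)
    [CompactSpace W] [PrespectralSpace W] [QuasiSeparatedSpace W]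
    {T : Set U} (hT : IsLocallyConstructible T) :
    IsConstructible (Set.inclusion hWU ⁻¹' T) := by
  have hemb : IsOpenEmbedding (Set.inclusion hWU) :=
    .inclusion hWU (hW.preimage continuous_subtype_val)
  exact (hT.preimage_of_isOpenEmbedding hemb).isConstructible

/-- Core of "ind-constructible and pro-constructible implies locally constructible". -/
theorem isConstructible_of_sUnion_of_sInter (E : Set X) {W U₁ U₂ : Set X} (hW : IsOpen W)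
    [CompactSpace W] [QuasiSober W] [PrespectralSpace W] [QuasiSeparatedSpace W]
    (hWU₁ : W ⊆ U₁) (hWU₂ : W ⊆ U₂) (S₁ : Set (Set U₁)) (S₂ : Set (Set U₂))
    (hS₁ : ∀ T ∈ S₁, IsLocallyConstructible T) (hS₂ : ∀ T ∈ S₂, IsLocallyConstructible T)
    (h₁ : (Subtype.val ⁻¹' E : Set U₁) = ⋃₀ S₁) (h₂ : (Subtype.val ⁻¹' E : Set U₂) = ⋂₀ S₂) :
    IsConstructible (W ↓∩ E) := by
  let 𝒞 : Set (Set W) := (fun T => Set.inclusion hWU₁ ⁻¹' T) '' S₁
  let 𝒟 : Set (Set W) := (fun T => Set.inclusion hWU₂ ⁻¹' T) '' S₂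
  have h𝒞 : ∀ s ∈ 𝒞, IsConstructible s := by
    rintro _ ⟨T, hT, rfl⟩
    exact isConstructible_inclusion_preimage hW hWU₁ (hS₁ T hT)
  have h𝒟 : ∀ s ∈ 𝒟, IsConstructible s := by
    rintro _ ⟨T, hT, rfl⟩
    exact isConstructible_inclusion_preimage hW hWU₂ (hS₂ T hT)
  have e₁ : (W ↓∩ E) = ⋃₀ 𝒞 := by
    ext ⟨y, hy⟩
    have : (⟨y, hWU₁ hy⟩ : U₁) ∈ (Subtype.val ⁻¹' E : Set U₁) ↔ (⟨y, hWU₁ hy⟩ : U₁) ∈ ⋃₀ S₁ := by
      rw [h₁]
    simp only [Set.mem_preimage, Set.mem_sUnion] at this ⊢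
    rw [this]
    constructor
    · rintro ⟨T, hT, hyT⟩
      exact ⟨_, ⟨T, hT, rfl⟩, hyT⟩
    · rintro ⟨_, ⟨T, hT, rfl⟩, hyT⟩
      exact ⟨T, hT, hyT⟩
  have e₂ : (W ↓∩ E) = ⋂₀ 𝒟 := by
    ext ⟨y, hy⟩
    have : (⟨y, hWU₂ hy⟩ : U₂) ∈ (Subtype.val ⁻¹' E : Set U₂) ↔ (⟨y, hWU₂ hy⟩ : U₂) ∈ ⋂₀ S₂ := by
      rw [h₂]
    simp only [Set.mem_preimage, Set.mem_sInter] at this ⊢
    rw [this]
    constructor
    · rintro h _ ⟨T, hT, rfl⟩
      exact h T hT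
    · intro h T hT
      exact h _ ⟨T, hT, rfl⟩
  obtain ⟨𝒟', h𝒟', 𝒞', h𝒞', hf𝒟, hf𝒞, hsub⟩ :=
    exists_finite_sInter_subset_sUnion 𝒟 𝒞 h𝒟 h𝒞 (by rw [← e₁, ← e₂])
  have e₃ : (W ↓∩ E) = ⋃₀ 𝒞' := by
    apply subset_antisymm
    · refine subset_trans ?_ hsub
      rw [e₂]
      exact Set.sInter_subset_sInter h𝒟'
    · rw [e₁]
      exact Set.sUnion_subset_sUnion h𝒞'
  rw [e₃]
  exact IsConstructible.sUnion hf𝒞 fun s hs => h𝒞 s (h𝒞' hs)

/-- Core of "a point all of whose generizations lie in an ind-constructible set is interior". -/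
theorem mem_interior_of_sUnion (E : Set X) {W U₁ : Set X} (hW : IsOpen W)
    [CompactSpace W] [QuasiSober W] [PrespectralSpace W] [QuasiSeparatedSpace W]
    (hWU₁ : W ⊆ U₁) (S₁ : Set (Set U₁))
    (hS₁ : ∀ T ∈ S₁, IsLocallyConstructible T)
    (h₁ : (Subtype.val ⁻¹' E : Set U₁) = ⋃₀ S₁) (x : X) (hxW : x ∈ W)
    (hx : ∀ x' : X, x' ⤳ x → x' ∈ E) : x ∈ interior E := by
  let 𝒞 : Set (Set W) := (fun T => Set.inclusion hWU₁ ⁻¹' T) '' S₁
  let 𝒟 : Set (Set W) := {D | IsOpen D ∧ IsCompact D ∧ (⟨x, hxW⟩ : W) ∈ D}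
  have h𝒞 : ∀ s ∈ 𝒞, IsConstructible s := by
    rintro _ ⟨T, hT, rfl⟩
    exact isConstructible_inclusion_preimage hW hWU₁ (hS₁ T hT)
  have h𝒟 : ∀ s ∈ 𝒟, IsConstructible s := fun s hs => hs.2.1.isConstructible hs.1
  have e₁ : (W ↓∩ E) = ⋃₀ 𝒞 := by
    ext ⟨y, hy⟩
    have : (⟨y, hWU₁ hy⟩ : U₁) ∈ (Subtype.val ⁻¹' E : Set U₁) ↔ (⟨y, hWU₁ hy⟩ : U₁) ∈ ⋃₀ S₁ := by
      rw [h₁]
    simp only [Set.mem_preimage, Set.mem_sUnion] at this ⊢
    rw [this]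
    constructor
    · rintro ⟨T, hT, hyT⟩
      exact ⟨_, ⟨T, hT, rfl⟩, hyT⟩
    · rintro ⟨_, ⟨T, hT, rfl⟩, hyT⟩
      exact ⟨T, hT, hyT⟩
  have hsub : ⋂₀ 𝒟 ⊆ ⋃₀ 𝒞 := by
    rw [← e₁]
    intro y hy
    apply hx
    have hspec : y ⤳ (⟨x, hxW⟩ : W) := by
      rw [specializes_iff_forall_open]
      intro V hV hxV
      obtain ⟨D, ⟨hD₁, hD₂⟩, hxD, hDV⟩ :=
        PrespectralSpace.isTopologicalBasis.mem_nhds_iff.mp (hV.mem_nhds hxV)
      exact hDV (hy D ⟨hD₁, hD₂, hxD⟩)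
    exact hspec.map continuous_subtype_val
  obtain ⟨𝒟', h𝒟', 𝒞', h𝒞', hf𝒟, hf𝒞, hsub'⟩ :=
    exists_finite_sInter_subset_sUnion 𝒟 𝒞 h𝒟 h𝒞 hsub
  have hopen : IsOpen (⋂₀ 𝒟') := hf𝒟.isOpen_sInter fun D hD => (h𝒟' hD).1
  have hopen' : IsOpen (Subtype.val '' (⋂₀ 𝒟')) := hW.isOpenMap_subtype_val _ hopen
  refine mem_interior.mpr ⟨Subtype.val '' (⋂₀ 𝒟'), ?_, hopen', ?_⟩
  · rintro _ ⟨y, hy, rfl⟩
    have : y ∈ ⋃₀ 𝒞 := Set.sUnion_subset_sUnion h𝒞' (hsub' hy)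
    rw [← e₁] at this
    exact this
  · refine ⟨⟨x, hxW⟩, ?_, rfl⟩
    intro D hD
    exact (h𝒟' hD).2.2

end Groth.Agent.Lib.Helper5
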