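import Groth.Prelude.Def_ProCons
import Groth.Agent.Lib.Helper5Cons
import Mathlib.AlgebraicGeometry.Morphisms.FinitePresentation
import Mathlib.AlgebraicGeometry.Morphisms.QuasiSeparated
import Mathlib.AlgebraicGeometry.Properties

/-!
Ind-constructible and pro-constructible subsets of schemes: preimages.
-/

set_option autoImplicit false
universe u

namespace Groth.Agent.Lib.Helper5

open Topology AlgebraicGeometry CategoryTheory
open scoped Set.Notation

/-- The preimage of a locally constructible set under a morphism of schemes is locally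
constructible. -/
theorem isLocallyConstructible_preimage {X Y : Scheme.{u}} (f : X ⟶ Y) {s : Set Y}
    (hs : IsLocallyConstructible s) : IsLocallyConstructible (f.base ⁻¹' s) := by
  intro x
  obtain ⟨V, hV, hVo, hVs⟩ := hs (f.base x)
  let V' : Y.Opens := ⟨V, hVo⟩
  have hc : IsConstructible ((f ∣_ V').base ⁻¹' (V ↓∩ s)) :=
    Scheme.Hom.isConstructible_preimage (f ∣_ V') hVs
  refine ⟨f.base ⁻¹' V, f.continuous.continuousAt.preimage_mem_nhds hV,
    hVo.preimage f.continuous, ?_⟩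
  have heq : ((f.base ⁻¹' V) ↓∩ (f.base ⁻¹' s)) = (f ∣_ V').base ⁻¹' (V ↓∩ s) := by
    ext ⟨y, hy⟩
    simp only [Set.mem_preimage]
    have := morphismRestrict_base_coe f V' ⟨y, hy⟩
    constructor
    · intro h; show ((f ∣_ V') ⟨y, hy⟩).1 ∈ s; rw [this]; exact h
    · intro h; have h' : ((f ∣_ V') ⟨y, hy⟩).1 ∈ s := h; rw [this] at h'; exact h'
  rw [heq]
  exact hc

/-- membership in the preimage under a restricted morphism -/
theorem mem_preimage_morphismRestrict {X Y : Scheme.{u}} (f : X ⟶ Y) (U : Y.Opens)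
    (A : Set Y) (y : (f ⁻¹ᵁ U : X.Opens)) :
    (f ∣_ U).base y ∈ ((U : Set Y) ↓∩ A) ↔ (y : X) ∈ f.base ⁻¹' A := by
  have := morphismRestrict_base_coe f U y
  constructor
  · intro h
    have h' : ((f ∣_ U) y).1 ∈ A := h
    rw [this] at h'
    exact h'
  · intro h
    show ((f ∣_ U) y).1 ∈ A
    rw [this]
    exact h

/-- The preimage of a pro-constructible set under a morphism of schemes is pro-constructible. -/
theorem isProConstructible_preimage {X Y : Scheme.{u}} (f : X ⟶ Y) (T : Set Y)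
    (hT : ProCons.IsProConstructible T) : ProCons.IsProConstructible (f.base ⁻¹' T) := by
  intro x
  obtain ⟨U, hU, hxU, S, hS, hTS⟩ := hT (f.base x)
  let U' : Y.Opens := ⟨U, hU⟩
  refine ⟨f.base ⁻¹' U, hU.preimage f.continuous, hxU,
    (fun D : Set U => ((f ∣_ U').base ⁻¹' D : Set (f ⁻¹ᵁ U' : X.Opens))) '' S, ?_, ?_⟩
  · rintro _ ⟨D, hD, rfl⟩
    exact isLocallyConstructible_preimage (f ∣_ U') (hS D hD)
  · ext y
    have h1 := mem_preimage_morphismRestrict f U' T y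
    have h2 : (f ∣_ U').base y ∈ ((U : Set Y) ↓∩ T) ↔ (f ∣_ U').base y ∈ ⋂₀ S := by
      rw [hTS]
    constructor
    · intro hy
      have := h2.mp (h1.mpr hy)
      rintro _ ⟨D, hD, rfl⟩
      exact this D hD
    · intro hy
      apply h1.mp
      apply h2.mpr
      intro D hD
      exact hy _ ⟨D, hD, rfl⟩

/-- The preimage of an ind-constructible set under a morphism of schemes is ind-constructible. -/
theorem isIndConstructible_preimage {X Y : Scheme.{u}} (f : X ⟶ Y) (T : Set Y)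
    (hT : ProCons.IsIndConstructible T) : ProCons.IsIndConstructible (f.base ⁻¹' T) := by
  intro x
  obtain ⟨U, hU, hxU, S, hS, hTS⟩ := hT (f.base x)
  let U' : Y.Opens := ⟨U, hU⟩
  refine ⟨f.base ⁻¹' U, hU.preimage f.continuous, hxU,
    (fun D : Set U => ((f ∣_ U').base ⁻¹' D : Set (f ⁻¹ᵁ U' : X.Opens))) '' S, ?_, ?_⟩
  · rintro _ ⟨D, hD, rfl⟩
    exact isLocallyConstructible_preimage (f ∣_ U') (hS D hD)
  · ext y
    have h1 := mem_preimage_morphismRestrict f U' T y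
    have h2 : (f ∣_ U').base y ∈ ((U : Set Y) ↓∩ T) ↔ (f ∣_ U').base y ∈ ⋃₀ S := by
      rw [hTS]
    constructor
    · intro hy
      obtain ⟨D, hD, hyD⟩ := h2.mp (h1.mpr hy)
      exact ⟨_, ⟨D, hD, rfl⟩, hyD⟩
    · rintro ⟨_, ⟨D, hD, rfl⟩, hyD⟩
      apply h1.mp
      apply h2.mpr
      exact ⟨D, hD, hyD⟩

section Global

variable {W : Type*} [TopologicalSpace W]

/-- Local data: around every point of a prespectral quasi-separated space, a locally
constructible subset of an open neighbourhood `U` restricts to a compact open `V ⊆ U` and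
becomes a constructible subset of the whole space. -/
theorem isConstructible_image_inclusion_preimage [PrespectralSpace W] [QuasiSeparatedSpace W]
    {U V : Set W} (hV : IsOpen V) (hVc : IsCompact V) (hVU : V ⊆ U) {T : Set U}
    (hT : IsLocallyConstructible T) :
    IsConstructible (Subtype.val '' (Set.inclusion hVU ⁻¹' T) : Set W) := by
  have : CompactSpace V := isCompact_iff_compactSpace.mp hVc
  have : PrespectralSpace V := hV.isOpenEmbedding_subtypeVal.prespectralSpace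
  have : QuasiSeparatedSpace V := hV.isOpenEmbedding_subtypeVal.quasiSeparatedSpace
  have h1 : IsConstructible (Set.inclusion hVU ⁻¹' T) :=
    isConstructible_inclusion_preimage hV hVU hT
  refine h1.image_of_isOpenEmbedding hV.isOpenEmbedding_subtypeVal ?_
  rw [Subtype.range_coe]
  exact hVc.isRetrocompact hV

/-- In a prespectral quasi-separated space, an ind-constructible set is a union of
constructible sets. -/
theorem exists_eq_sUnion_of_isIndConstructible [PrespectralSpace W] [QuasiSeparatedSpace W]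
    {E : Set W} (hE : ProCons.IsIndConstructible E) :
    ∃ 𝒞 : Set (Set W), (∀ C ∈ 𝒞, IsConstructible C) ∧ E = ⋃₀ 𝒞 := by
  choose U hU hxU S hS hES using hE
  have hV : ∀ x : W, ∃ V : Set W, IsOpen V ∧ IsCompact V ∧ x ∈ V ∧ V ⊆ U x := by
    intro x
    obtain ⟨V, ⟨hV₁, hV₂⟩, hxV, hVU⟩ :=
      PrespectralSpace.isTopologicalBasis.mem_nhds_iff.mp ((hU x).mem_nhds (hxU x))
    exact ⟨V, hV₁, hV₂, hxV, hVU⟩
  choose V hVo hVc hxV hVU using hV
  refine ⟨{C | ∃ x : W, ∃ T ∈ S x, C = Subtype.val '' (Set.inclusion (hVU x) ⁻¹' T)}, ?_, ?_⟩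
  · rintro _ ⟨x, T, hT, rfl⟩
    exact isConstructible_image_inclusion_preimage (hVo x) (hVc x) (hVU x) (hS x T hT)
  · ext y
    constructor
    · intro hy
      have h1 : (⟨y, hVU y (hxV y)⟩ : U y) ∈ (Subtype.val ⁻¹' E : Set (U y)) := hy
      rw [hES y] at h1
      obtain ⟨T, hT, hyT⟩ := h1
      exact ⟨_, ⟨y, T, hT, rfl⟩, ⟨⟨y, hxV y⟩, hyT, rfl⟩⟩
    · rintro ⟨_, ⟨x, T, hT, rfl⟩, ⟨⟨z, hz⟩, hzT, rfl⟩⟩
      have h1 : (⟨z, hVU x hz⟩ : U x) ∈ ⋃₀ S x := ⟨T, hT, hzT⟩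
      rw [← hES x] at h1
      exact h1

/-- In a spectral space, a pro-constructible set is an intersection of constructible sets. -/
theorem exists_eq_sInter_of_isProConstructible [CompactSpace W] [PrespectralSpace W]
    [QuasiSeparatedSpace W] {F : Set W} (hF : ProCons.IsProConstructible F) :
    ∃ 𝒟 : Set (Set W), (∀ D ∈ 𝒟, IsConstructible D) ∧ F = ⋂₀ 𝒟 := by
  choose U hU hxU S hS hFS using hF
  have hV : ∀ x : W, ∃ V : Set W, IsOpen V ∧ IsCompact V ∧ x ∈ V ∧ V ⊆ U x := by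
    intro x
    obtain ⟨V, ⟨hV₁, hV₂⟩, hxV, hVU⟩ :=
      PrespectralSpace.isTopologicalBasis.mem_nhds_iff.mp ((hU x).mem_nhds (hxU x))
    exact ⟨V, hV₁, hV₂, hxV, hVU⟩
  choose V hVo hVc hxV hVU using hV
  obtain ⟨σ, hσ⟩ := isCompact_univ.elim_nhds_subcover V
    (fun x _ => (hVo x).mem_nhds (hxV x))
  refine ⟨{D | ∃ x ∈ σ, ∃ T ∈ S x,
    D = Subtype.val '' (Set.inclusion (hVU x) ⁻¹' T) ∪ (V x)ᶜ}, ?_, ?_⟩
  · rintro _ ⟨x, _, T, hT, rfl⟩
    exact (isConstructible_image_inclusion_preimage (hVo x) (hVc x) (hVU x) (hS x T hT)).union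
      ((hVc x).isConstructible (hVo x)).compl
  · ext y
    constructor
    · rintro hy _ ⟨x, hxσ, T, hT, rfl⟩
      by_cases hyV : y ∈ V x
      · left
        have h1 : (⟨y, hVU x hyV⟩ : U x) ∈ (Subtype.val ⁻¹' F : Set (U x)) := hy
        rw [hFS x] at h1
        exact ⟨⟨y, hyV⟩, h1 T hT, rfl⟩
      · right
        exact hyV
    · intro hy
      have hy' := hσ.2 (Set.mem_univ y)
      rw [Set.mem_iUnion₂] at hy'
      obtain ⟨x, hxσ, hyV⟩ := hy'
      have h1 : (⟨y, hVU x hyV⟩ : U x) ∈ ⋂₀ S x := by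
        intro T hT
        have := hy _ ⟨x, hxσ, T, hT, rfl⟩
        rcases this with ⟨⟨z, hz⟩, hzT, hzy⟩ | h
        · have hzy' : z = y := hzy
          subst hzy'
          exact hzT
        · exact absurd hyV h
      rw [← hFS x] at h1
      exact h1

/-- Compactness for families of ind- and pro-constructible subsets of a spectral space. -/
theorem exists_finset_iInter_subset_iUnion_of_spectral [CompactSpace W] [QuasiSober W]
    [PrespectralSpace W] [QuasiSeparatedSpace W] {ι κ : Type*} (E : ι → Set W) (F : κ → Set W)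
    (hE : ∀ i, ProCons.IsIndConstructible (E i)) (hF : ∀ j, ProCons.IsProConstructible (F j))
    (h : ⋂ j, F j ⊆ ⋃ i, E i) :
    ∃ (I : Finset ι) (K : Finset κ), ⋂ j ∈ K, F j ⊆ ⋃ i ∈ I, E i := by
  classical
  choose 𝒞 h𝒞 hE𝒞 using fun i => exists_eq_sUnion_of_isIndConstructible (hE i)
  choose 𝒟 h𝒟 hF𝒟 using fun j => exists_eq_sInter_of_isProConstructible (hF j)
  have hsub : ⋂₀ (⋃ j, 𝒟 j) ⊆ ⋃₀ (⋃ i, 𝒞 i) := by
    intro x hx
    have hx' : x ∈ ⋂ j, F j := by
      rw [Set.mem_iInter]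
      intro j
      rw [hF𝒟 j]
      intro D hD
      exact hx D (Set.mem_iUnion.mpr ⟨j, hD⟩)
    obtain ⟨i, hi⟩ := Set.mem_iUnion.mp (h hx')
    rw [hE𝒞 i] at hi
    obtain ⟨C, hC, hxC⟩ := hi
    exact ⟨C, Set.mem_iUnion.mpr ⟨i, hC⟩, hxC⟩
  obtain ⟨𝒟', h𝒟', 𝒞', h𝒞', hf𝒟, hf𝒞, hsub'⟩ :=
    exists_finite_sInter_subset_sUnion (⋃ j, 𝒟 j) (⋃ i, 𝒞 i)
      (fun s hs => by obtain ⟨j, hj⟩ := Set.mem_iUnion.mp hs; exact h𝒟 j s hj)
      (fun s hs => by obtain ⟨i, hi⟩ := Set.mem_iUnion.mp hs; exact h𝒞 i s hi) hsub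
  have hidxD : ∀ D : 𝒟', ∃ j, D.1 ∈ 𝒟 j := fun D => Set.mem_iUnion.mp (h𝒟' D.2)
  have hidxC : ∀ C : 𝒞', ∃ i, C.1 ∈ 𝒞 i := fun C => Set.mem_iUnion.mp (h𝒞' C.2)
  choose jd hjd using hidxD
  choose ic hic using hidxC
  have : Fintype 𝒟' := hf𝒟.fintype
  have : Fintype 𝒞' := hf𝒞.fintype
  refine ⟨Finset.univ.image ic, Finset.univ.image jd, ?_⟩
  intro x hx
  rw [Set.mem_iInter₂] at hx
  have hx' : x ∈ ⋂₀ 𝒟' := by
    intro D hD
    have h1 := hx (jd ⟨D, hD⟩) (Finset.mem_image.mpr ⟨⟨D, hD⟩, Finset.mem_univ _, rfl⟩)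
    rw [hF𝒟] at h1
    exact h1 D (hjd ⟨D, hD⟩)
  obtain ⟨C, hC, hxC⟩ := hsub' hx'
  rw [Set.mem_iUnion₂]
  refine ⟨ic ⟨C, hC⟩, Finset.mem_image.mpr ⟨⟨C, hC⟩, Finset.mem_univ _, rfl⟩, ?_⟩
  rw [hE𝒞]
  exact ⟨C, hic ⟨C, hC⟩, hxC⟩

end Global

/-- Compactness for families of ind- and pro-constructible subsets of a quasi-compact scheme. -/
theorem exists_finset_iInter_subset_iUnion (X : Scheme.{u}) [CompactSpace X] {ι κ : Type*}
    (E : ι → Set X) (F : κ → Set X)
    (hE : ∀ i, ProCons.IsIndConstructible (E i)) (hF : ∀ j, ProCons.IsProConstructible (F j))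
    (h : ⋂ j, F j ⊆ ⋃ i, E i) :
    ∃ (I : Finset ι) (K : Finset κ), ⋂ j ∈ K, F j ⊆ ⋃ i ∈ I, E i := by
  classical
  obtain ⟨s, hs, hcover⟩ := (isCompact_iff_finite_and_eq_biUnion_affineOpens (X := X)
    (U := ⊤)).mp isCompact_univ
  have hloc : ∀ Wa : X.affineOpens, ∃ (I : Finset ι) (K : Finset κ),
      ∀ x ∈ (Wa : X.Opens), (∀ j ∈ K, x ∈ F j) → ∃ i ∈ I, x ∈ E i := by
    intro Wa
    have : IsAffine ((Wa : X.Opens) : Scheme.{u}) := Wa.2
    let g : ((Wa : X.Opens) : Scheme.{u}) ⟶ X := (Wa : X.Opens).ι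
    have hsub : ⋂ j, g.base ⁻¹' F j ⊆ ⋃ i, g.base ⁻¹' E i := by
      intro y hy
      rw [Set.mem_iInter] at hy
      have : g.base y ∈ ⋂ j, F j := Set.mem_iInter.mpr hy
      obtain ⟨i, hi⟩ := Set.mem_iUnion.mp (h this)
      exact Set.mem_iUnion.mpr ⟨i, hi⟩
    obtain ⟨I, K, hIK⟩ := exists_finset_iInter_subset_iUnion_of_spectral
      (fun i => g.base ⁻¹' E i) (fun j => g.base ⁻¹' F j)
      (fun i => isIndConstructible_preimage g _ (hE i))
      (fun j => isProConstructible_preimage g _ (hF j)) hsub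
    refine ⟨I, K, ?_⟩
    have key : ∀ y : ((Wa : X.Opens) : Scheme.{u}), (∀ j ∈ K, g.base y ∈ F j) →
        ∃ i ∈ I, g.base y ∈ E i := by
      intro y hyF
      have hy : y ∈ ⋂ j ∈ K, g.base ⁻¹' F j := by
        rw [Set.mem_iInter₂]
        intro j hj
        exact hyF j hj
      have := hIK hy
      rw [Set.mem_iUnion₂] at this
      obtain ⟨i, hi, hxi⟩ := this
      exact ⟨i, hi, hxi⟩
    intro x hx hxF
    exact key ⟨x, hx⟩ hxF
  choose I K hIK using hloc
  refine ⟨hs.toFinset.biUnion I, hs.toFinset.biUnion K, ?_⟩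
  intro x hx
  rw [Set.mem_iInter₂] at hx
  have hxtop : x ∈ (⊤ : X.Opens) := trivial
  rw [hcover] at hxtop
  simp only [TopologicalSpace.Opens.mem_iSup] at hxtop
  obtain ⟨Wa, hWa, hxW⟩ := hxtop
  obtain ⟨i, hi, hxi⟩ := hIK Wa x hxW (fun j hj =>
    hx j (Finset.mem_biUnion.mpr ⟨Wa, hs.mem_toFinset.mpr hWa, hj⟩))
  rw [Set.mem_iUnion₂]
  exact ⟨i, Finset.mem_biUnion.mpr ⟨Wa, hs.mem_toFinset.mpr hWa, hi⟩, hxi⟩

end Groth.Agent.Lib.Helper5
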