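import Mathlib
import Groth.Prelude.Def_AlgSp2
import Groth.Agent.S10176
import Groth.Agent.Lib.Helper5ProCons

/-!
# Descent of local constructibility along open surjective lfp morphisms (helper12)
-/

set_option autoImplicit false
universe u
open CategoryTheory AlgebraicGeometry Topology TopologicalSpace
open scoped Set.Notation

namespace Groth.Agent.Lib.Helper12.ConsDescent

/-- local version: around every point of the image there is an open on which `E` is locally
constructible. -/
lemma exists_open_of_preimage {W V : Scheme.{u}} (g : W ⟶ V) [UniversallyOpen g]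
    [LocallyOfFinitePresentation g] {E : Set V} (h : IsLocallyConstructible (g ⁻¹' E)) (w : W) :
    ∃ V'' : V.Opens, g w ∈ V'' ∧ IsLocallyConstructible ((V'' : Set V) ↓∩ E) := by
  obtain ⟨V', hV'aff, hvV', -⟩ : ∃ V' : V.Opens, V' ∈ V.affineOpens ∧ g w ∈ V' ∧
      V' ≤ (⊤ : V.Opens) := Opens.isBasis_iff_nbhd.1 V.isBasis_affineOpens
    (show g w ∈ (⊤ : V.Opens) from trivial)
  obtain ⟨W', hW'aff, hwW', hW'le⟩ : ∃ W' : W.Opens, W' ∈ W.affineOpens ∧ w ∈ W' ∧
      W' ≤ g ⁻¹ᵁ V' := Opens.isBasis_iff_nbhd.1 W.isBasis_affineOpens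
    (show w ∈ g ⁻¹ᵁ V' from hvV')
  haveI : IsAffine W'.toScheme := hW'aff
  haveI : IsAffine V'.toScheme := hV'aff
  let g' : W'.toScheme ⟶ V'.toScheme := g.resLE V' W' hW'le
  have hg' : ∀ x : W'.toScheme, (g' x).1 = g x.1 := by
    intro x
    have h1 : (g' ≫ V'.ι) x = (W'.ι ≫ g) x := by
      rw [Scheme.Hom.resLE_comp_ι g (U := V') (V := W') hW'le]
    exact h1
  let s : Set W'.toScheme := W'.ι ⁻¹' (g ⁻¹' E)
  have hs : IsLocallyConstructible s := h.preimage_of_isOpenEmbedding W'.ι.isOpenEmbedding
  have hT : IsLocallyConstructible (g' '' s) := g'.isLocallyConstructible_image hs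
  let V'' : V.Opens := ⟨g '' W', g.isOpenMap _ W'.2⟩
  have hle : V'' ≤ V' := by
    rintro _ ⟨x, hx, rfl⟩
    exact hW'le hx
  refine ⟨V'', ⟨w, hwW', rfl⟩, ?_⟩
  have key : ((V'' : Set V) ↓∩ E) = Set.inclusion (SetLike.coe_subset_coe.2 hle) ⁻¹' (g' '' s) := by
    ext ⟨x, hx⟩
    constructor
    · intro hxE
      obtain ⟨y, hy, rfl⟩ := hx
      refine ⟨⟨y, hy⟩, hxE, ?_⟩
      apply Subtype.ext
      exact hg' ⟨y, hy⟩
    · rintro ⟨y, hy, hyx⟩
      have h1 : g y.1 = x := by
        rw [← hg' y, hyx]
      show x ∈ E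
      rw [← h1]
      exact hy
  rw [key]
  exact hT.preimage_of_isOpenEmbedding (Opens.isOpenEmbedding_of_le hle)

/-- **descent of local constructibility** along a surjective universally open morphism locally of
finite presentation. -/
theorem isLocallyConstructible_of_preimage {W V : Scheme.{u}} (g : W ⟶ V) [UniversallyOpen g]
    [LocallyOfFinitePresentation g] [Surjective g] {E : Set V}
    (h : IsLocallyConstructible (g ⁻¹' E)) : IsLocallyConstructible E := by
  choose V'' hV'' hc using fun w => exists_open_of_preimage g h w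
  refine IsLocallyConstructible.of_isOpenCover (U := V'') ?_ hc
  rw [IsOpenCover, eq_top_iff]
  intro v _
  obtain ⟨w, rfl⟩ := g.surjective v
  exact Opens.mem_iSup.2 ⟨w, hV'' w⟩


open AlgSp CategoryTheory.Limits in
/-- a subset of the points of a sheaf whose inverse image on one representable etale surjective
chart is locally constructible has locally constructible inverse image on every scheme. -/
theorem isLocallyConstructible_ofPt_preimage {S : Scheme.{u}} {G : AlgSp.Sp S}
    (E : Set (AlgSp.Points G)) {U : Over S} (p : (AlgSp.yon S).obj U ⟶ G)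
    (hp : AlgSp.RepWith @Etale p) (hs : AlgSp.RepWith @Surjective p)
    (hE : IsLocallyConstructible (AlgSp.Points.ofPt p ⁻¹' E))
    {V : Over S} (a : (AlgSp.yon S).obj V ⟶ G) :
    IsLocallyConstructible (AlgSp.Points.ofPt a ⁻¹' E) := by
  have sq := hp.rep.isPullback' a
  haveI : Etale (hp.rep.snd a).left := hp.property_snd a
  haveI : Surjective (hp.rep.snd a).left := hs.2 a _ _ (hp.rep.isPullback a)
  have h1 : IsLocallyConstructible ((hp.rep.fst' a).left ⁻¹' (AlgSp.Points.ofPt p ⁻¹' E)) :=
    Groth.Agent.Lib.Helper5.isLocallyConstructible_preimage (hp.rep.fst' a).left hE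
  have heq : (hp.rep.snd a).left ⁻¹' (AlgSp.Points.ofPt a ⁻¹' E) =
      (hp.rep.fst' a).left ⁻¹' (AlgSp.Points.ofPt p ⁻¹' E) := by
    ext y
    simp only [Set.mem_preimage]
    rw [← Groth.Agent.S10176.ofPt_map_comp, ← Groth.Agent.S10176.ofPt_map_comp, sq.w]
  rw [← heq] at h1
  exact isLocallyConstructible_of_preimage (hp.rep.snd a).left h1

end Groth.Agent.Lib.Helper12.ConsDescent
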