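import Mathlib
import Groth.Agent.Lib.Helper12EtSrc

set_option autoImplicit false
universe u

open TensorProduct

namespace Groth.Agent.Lib.Helper12.FPDescent

/-- if the extension of an ideal is finitely generated, it is the extension of a finitely generated
subideal. -/
lemma exists_fg_le_map_eq {A B : Type*} [CommRing A] [CommRing B] (f : A →+* B) (I : Ideal A)
    (h : (I.map f).FG) : ∃ I₀ : Ideal A, I₀ ≤ I ∧ I₀.FG ∧ I₀.map f = I.map f := by
  classical
  have h' : (Submodule.span B (⇑f '' (I : Set A))).FG := h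
  rw [Submodule.fg_span_iff_fg_span_finset_subset] at h'
  obtain ⟨t, ht, hspan⟩ := h'
  choose! g hg using fun b (hb : b ∈ (t : Set B)) => ht hb
  refine ⟨Ideal.span (g '' (t : Set B)), ?_, ?_, ?_⟩
  · rw [Ideal.span_le]
    rintro _ ⟨b, hb, rfl⟩
    exact (hg b hb).1
  · exact ⟨t.image g, by simp⟩
  · apply le_antisymm
    · apply Ideal.map_mono
      rw [Ideal.span_le]
      rintro _ ⟨b, hb, rfl⟩
      exact (hg b hb).1
    · show Submodule.span B (⇑f '' (I : Set A)) ≤ _
      rw [hspan]
      apply Submodule.span_le.2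
      intro b hb
      have : b = f (g b) := (hg b hb).2.symm
      rw [this]
      exact Ideal.mem_map_of_mem f (Ideal.subset_span ⟨b, hb, rfl⟩)

/-- Let `B'` be a flat finitely presented `A'`-algebra and `I` an ideal of `A'` whose extension to
`B'` is finitely generated and such that every prime containing `I` lies in the image of
`Spec B'`. Then `I` is finitely generated modulo a finitely generated subideal. -/
theorem exists_fg_le_fg_map_mk {A' B' : Type u} [CommRing A'] [CommRing B'] [Algebra A' B']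
    [Module.Flat A' B'] [Algebra.FinitePresentation A' B'] (I : Ideal A')
    (hfg : (I.map (algebraMap A' B')).FG)
    (hsurj : ∀ 𝔭 : PrimeSpectrum A', I ≤ 𝔭.asIdeal →
      𝔭 ∈ Set.range (PrimeSpectrum.comap (algebraMap A' B'))) :
    ∃ I₀ : Ideal A', I₀ ≤ I ∧ I₀.FG ∧ (I.map (Ideal.Quotient.mk I₀)).FG := by
  obtain ⟨I₀, hle, hI₀, hmap⟩ := exists_fg_le_map_eq (algebraMap A' B') I hfg
  refine ⟨I₀, hle, hI₀, ?_⟩
  refine Groth.Agent.Lib.Helper12.EtSrc.fg_of_le_ker_of_zeroLocus_subset_range
    (A' := A' ⧸ I₀) (B' := (A' ⧸ I₀) ⊗[A'] B') _ ?_ ?_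
  · -- the extension of `I` dies in the base change
    have h1 : I₀.map (algebraMap A' B') ≤
        RingHom.ker (Algebra.TensorProduct.includeRight (R := A') (A := A' ⧸ I₀) (B := B')) := by
      rw [Ideal.map_le_iff_le_comap]
      intro i hi
      rw [Ideal.mem_comap, RingHom.mem_ker]
      show ((1 : A' ⧸ I₀) ⊗ₜ[A'] (algebraMap A' B' i)) = 0
      rw [Algebra.algebraMap_eq_smul_one, ← TensorProduct.smul_tmul, Algebra.smul_def,
        mul_one]
      have : algebraMap A' (A' ⧸ I₀) i = 0 := Ideal.Quotient.eq_zero_iff_mem.2 hi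
      rw [this, TensorProduct.zero_tmul]
    intro x hx
    obtain ⟨i, hi, rfl⟩ := (Ideal.mem_map_iff_of_surjective _ Ideal.Quotient.mk_surjective).1 hx
    rw [RingHom.mem_ker, Algebra.TensorProduct.algebraMap_apply]
    have h2 : algebraMap A' B' i ∈ I₀.map (algebraMap A' B') := by
      rw [hmap]; exact Ideal.mem_map_of_mem _ hi
    have h3 := h1 h2
    rw [RingHom.mem_ker] at h3
    have h4 : (Ideal.Quotient.mk I₀ i) ⊗ₜ[A'] (1 : B') =
        (1 : A' ⧸ I₀) ⊗ₜ[A'] (algebraMap A' B' i) := by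
      rw [Algebra.algebraMap_eq_smul_one, ← TensorProduct.smul_tmul, Algebra.smul_def,
        mul_one]
      rfl
    rw [Algebra.algebraMap_self, RingHom.id_apply, h4]
    exact h3
  · intro 𝔭 h𝔭
    have hI : I ≤ (PrimeSpectrum.comap (Ideal.Quotient.mk I₀) 𝔭).asIdeal := by
      intro i hi
      show Ideal.Quotient.mk I₀ i ∈ 𝔭.asIdeal
      rw [PrimeSpectrum.mem_zeroLocus] at h𝔭
      exact h𝔭 (Ideal.mem_map_of_mem _ hi)
    obtain ⟨𝔮, h𝔮⟩ := hsurj _ hI
    obtain ⟨Q, hQ⟩ := Groth.Agent.Lib.Helper20.EtSrc.exists_prime_tensor (R := A') 𝔭 𝔮 h𝔮.symm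
    exact ⟨Q, hQ⟩

/-- abstract form of the descent of finite presentation. -/
theorem finitePresentation_of_cover {R A A' B B' : Type u} [CommRing R] [CommRing A] [CommRing A']
    [CommRing B] [CommRing B'] [Algebra R A] [Algebra R A'] [Algebra R B] [Algebra R B']
    [Algebra A B] [Algebra A' B'] [IsScalarTower R A' B']
    [Algebra.FinitePresentation R A'] [Module.Flat A' B'] [Algebra.FinitePresentation A' B']
    [Algebra.FinitePresentation R B]
    (π : A' →ₐ[R] A) (hπ : Function.Surjective π) (θ : B' →ₐ[R] B) (hθ : Function.Surjective θ)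
    (hker : RingHom.ker θ.toRingHom = (RingHom.ker π.toRingHom).map (algebraMap A' B'))
    (hcomm : ∀ a, θ (algebraMap A' B' a) = algebraMap A B (π a))
    (hs : Function.Surjective (PrimeSpectrum.comap (algebraMap A B))) :
    Algebra.FinitePresentation R A := by
  haveI : Algebra.FinitePresentation R B' := Algebra.FinitePresentation.trans R A' B'
  have hfg : ((RingHom.ker π.toRingHom).map (algebraMap A' B')).FG := by
    rw [← hker]
    exact Algebra.FinitePresentation.ker_fG_of_surjective θ hθ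
  have hsurj : ∀ 𝔭 : PrimeSpectrum A', RingHom.ker π.toRingHom ≤ 𝔭.asIdeal →
      𝔭 ∈ Set.range (PrimeSpectrum.comap (algebraMap A' B')) := by
    intro 𝔭 h𝔭
    have h1 : 𝔭 ∈ Set.range (PrimeSpectrum.comap π.toRingHom) := by
      rw [range_comap_of_surjective _ _ hπ]
      exact h𝔭
    obtain ⟨𝔭₁, rfl⟩ := h1
    obtain ⟨𝔮, rfl⟩ := hs 𝔭₁
    refine ⟨PrimeSpectrum.comap θ.toRingHom 𝔮, ?_⟩
    ext a
    simp only [PrimeSpectrum.comap_asIdeal, Ideal.mem_comap]
    show θ (algebraMap A' B' a) ∈ 𝔮.asIdeal ↔ algebraMap A B (π a) ∈ 𝔮.asIdeal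
    rw [hcomm]
  obtain ⟨I₀, hle, hI₀, hK⟩ := exists_fg_le_fg_map_mk (RingHom.ker π.toRingHom) hfg hsurj
  haveI : Algebra.FinitePresentation R (A' ⧸ I₀) := Algebra.FinitePresentation.quotient hI₀
  have hI₀' : ∀ a ∈ I₀, π a = 0 := fun a ha => hle ha
  refine Algebra.FinitePresentation.of_surjective (f := Ideal.Quotient.liftₐ I₀ π hI₀') ?_ ?_
  · exact Ideal.Quotient.lift_surjective_of_surjective I₀ hI₀' hπ
  · have : RingHom.ker (Ideal.Quotient.liftₐ I₀ π hI₀').toRingHom =
        (RingHom.ker π.toRingHom).map (Ideal.Quotient.mk I₀) := by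
      exact Ideal.ker_quotient_lift (I := I₀) π.toRingHom hI₀'
    rw [this]
    exact hK

set_option synthInstance.maxHeartbeats 400000 in
set_option maxHeartbeats 2000000 in
/-- auxiliary form, with the étale algebra given as a base change. -/
theorem finitePresentation_of_tensor {R A B A₀ B₀ A' : Type u} [CommRing R] [CommRing A]
    [CommRing B] [CommRing A₀] [CommRing B₀] [CommRing A']
    [Algebra R A] [Algebra A B] [Algebra R B] [IsScalarTower R A B]
    [Algebra A₀ A] [Algebra A₀ B₀] [Algebra.Etale A₀ B₀] [Algebra R A'] [Algebra A₀ A']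
    [Algebra.FinitePresentation R A'] [Algebra.FinitePresentation R B]
    (π : A' →ₐ[R] A) (π₀ : A' →ₐ[A₀] A) (hππ₀ : ∀ a, π₀ a = π a) (hπ : Function.Surjective π)
    (e : B ≃ₐ[A] A ⊗[A₀] B₀)
    (hs : Function.Surjective (PrimeSpectrum.comap (algebraMap A B))) :
    Algebra.FinitePresentation R A := by
  have htower : ∀ r, algebraMap R (A' ⊗[A₀] B₀) r =
      algebraMap A' (A' ⊗[A₀] B₀) (algebraMap R A' r) := fun r => rfl
  have hπ₀ : Function.Surjective π₀ := fun a => by
    obtain ⟨a', rfl⟩ := hπ a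
    exact ⟨a', hππ₀ a'⟩
  let θ₀ : A' ⊗[A₀] B₀ →ₐ[A₀] A ⊗[A₀] B₀ := Algebra.TensorProduct.map π₀ (AlgHom.id A₀ B₀)
  have hθ₀ : Function.Surjective θ₀ :=
    Algebra.TensorProduct.map_surjective π₀ (AlgHom.id A₀ B₀) hπ₀ Function.surjective_id
  have hθ₀a : ∀ a, θ₀ (algebraMap A' (A' ⊗[A₀] B₀) a) = algebraMap A (A ⊗[A₀] B₀) (π a) := by
    intro a
    rw [Algebra.TensorProduct.algebraMap_apply, Algebra.TensorProduct.algebraMap_apply]
    simp [θ₀, hππ₀]
  let θ : A' ⊗[A₀] B₀ →ₐ[R] B :=
    { (e.symm : A ⊗[A₀] B₀ →+* B).comp θ₀.toRingHom with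
      commutes' := fun r => by
        show e.symm (θ₀ (algebraMap R (A' ⊗[A₀] B₀) r)) = _
        rw [htower, hθ₀a, π.commutes, e.symm.commutes, ← IsScalarTower.algebraMap_apply] }
  have hθ : Function.Surjective θ := e.symm.surjective.comp hθ₀
  have hker : RingHom.ker θ.toRingHom = (RingHom.ker π.toRingHom).map
      (algebraMap A' (A' ⊗[A₀] B₀)) := by
    have h1 : RingHom.ker θ.toRingHom = RingHom.ker θ₀.toRingHom := by
      ext x
      simp only [RingHom.mem_ker]
      show e.symm (θ₀ x) = 0 ↔ θ₀ x = 0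
      exact e.symm.map_eq_zero_iff
    have h2 : RingHom.ker π.toRingHom = RingHom.ker π₀.toRingHom := by
      ext x
      simp only [RingHom.mem_ker]
      show π x = 0 ↔ π₀ x = 0
      rw [hππ₀]
    rw [h1, h2]
    exact Algebra.TensorProduct.rTensor_ker π₀ hπ₀
  have hcomm : ∀ a, θ (algebraMap A' (A' ⊗[A₀] B₀) a) = algebraMap A B (π a) := by
    intro a
    show e.symm (θ₀ (algebraMap A' (A' ⊗[A₀] B₀) a)) = _
    rw [hθ₀a, e.symm.commutes]
  exact finitePresentation_of_cover π hπ θ hθ hker hcomm hs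

set_option synthInstance.maxHeartbeats 400000 in
set_option maxHeartbeats 2000000 in
/-- Finite presentation descends along an étale cover of the source (ring form). -/
theorem finitePresentation_of_etale_of_surjective {R A B : Type u} [CommRing R] [CommRing A]
    [CommRing B] [Algebra R A] [Algebra A B] [Algebra R B] [IsScalarTower R A B]
    [Algebra.Etale A B] (hs : Function.Surjective (PrimeSpectrum.comap (algebraMap A B)))
    [Algebra.FinitePresentation R B] : Algebra.FinitePresentation R A := by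
  haveI : Algebra.FiniteType R A :=
    Groth.Agent.Lib.Helper20.EtSrc.finiteType_of_etale_of_surjective (B := B) hs
  obtain ⟨A₀, B₀, _, _, hfg, hEt, ⟨e⟩⟩ := Algebra.Etale.exists_subalgebra_fg ℤ A B
  obtain ⟨n, φ, hφ⟩ := Algebra.FiniteType.iff_quotient_mvPolynomial''.1
    (inferInstance : Algebra.FiniteType R A)
  haveI : Algebra.FiniteType ℤ A₀ := (Subalgebra.fg_iff_finiteType A₀).mp hfg
  haveI : Algebra.FinitePresentation ℤ A₀ :=
    Algebra.FinitePresentation.of_finiteType.1 inferInstance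
  haveI : Algebra.FinitePresentation (MvPolynomial (Fin n) R) (MvPolynomial (Fin n) R ⊗[ℤ] A₀) :=
    inferInstance
  haveI : Algebra.FinitePresentation R (MvPolynomial (Fin n) R ⊗[ℤ] A₀) :=
    Algebra.FinitePresentation.trans R (MvPolynomial (Fin n) R) _
  letI : Algebra A₀ (MvPolynomial (Fin n) R ⊗[ℤ] A₀) := Algebra.TensorProduct.rightAlgebra
  let π : MvPolynomial (Fin n) R ⊗[ℤ] A₀ →ₐ[R] A :=
    Algebra.TensorProduct.productLeftAlgHom φ A₀.val
  have hπ : Function.Surjective π := by
    intro a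
    obtain ⟨p, rfl⟩ := hφ a
    exact ⟨p ⊗ₜ 1, by simp [π]⟩
  let π₀ : MvPolynomial (Fin n) R ⊗[ℤ] A₀ →ₐ[A₀] A :=
    { π.toRingHom with
      commutes' := fun a0 => by
        show π ((1 : MvPolynomial (Fin n) R) ⊗ₜ a0) = _
        simp [π] }
  exact finitePresentation_of_tensor (A₀ := A₀) (B₀ := B₀) π π₀ (fun a => rfl) hπ e hs

open AlgebraicGeometry CategoryTheory in
/-- Local finite presentation descends along étale covers of the source. -/
theorem locallyOfFinitePresentation_of_etale_cover_source {X' X Y : Scheme.{u}} (f : X' ⟶ X)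
    (g : X ⟶ Y) [Etale f] [Surjective f] [h : LocallyOfFinitePresentation (f ≫ g)] :
    LocallyOfFinitePresentation g := by
  refine Groth.Agent.Lib.Helper20.EtSrc.of_etale_cover_source
    (P := @LocallyOfFinitePresentation) (Q := @RingHom.FinitePresentation) ?_ ?_ f g h
  · intro R S T _ _ _ _ r _ φ hφ
    exact hφ.comp (RingHom.finitePresentation_holdsForLocalizationAway S r)
  · intro R A B _ _ _ φ ψ hψ hs hc
    algebraize [φ, ψ, ψ.comp φ]
    have : Algebra.Etale A B := hψ
    have : Algebra.FinitePresentation R B := hc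
    exact finitePresentation_of_etale_of_surjective (R := R) (A := A) (B := B) hs

end Groth.Agent.Lib.Helper12.FPDescent
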