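import Groth.Agent.Lib.Helper6SmReg
import Mathlib

set_option autoImplicit false
universe u
open CategoryTheory CategoryTheory.Limits AlgebraicGeometry

namespace Groth.Agent.Lib.Helper6.SmRegSch2

open Groth.Agent.Lib.Helper6.SmReg

/-- For a smooth morphism, the local ring at `x` is regular iff the local ring at `f x` is. -/
theorem isRegularLocalRing_stalk_iff_of_smooth {X Y : Scheme.{u}} (f : X ⟶ Y) [Smooth f] (x : X) :
    IsRegularLocalRing (X.presheaf.stalk x) ↔ IsRegularLocalRing (Y.presheaf.stalk (f.base x)) := by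
  obtain ⟨W, hW, hyW, -⟩ := exists_isAffineOpen_mem_and_subset (X := Y) (x := f.base x)
    (U := ⊤) trivial
  obtain ⟨V, hV, hxV, hVW⟩ := exists_isAffineOpen_mem_and_subset (X := X) (x := x)
    (U := f ⁻¹ᵁ W) hyW
  have hsm := Smooth.smooth_appLE f hW hV hVW
  have hcomap := IsAffineOpen.comap_primeIdealOf_appLE (f := f) W hW V hV hVW hxV
  letI := X.presheaf.algebra_section_stalk ⟨x, hxV⟩
  haveI := hV.isLocalization_stalk ⟨x, hxV⟩
  letI := Y.presheaf.algebra_section_stalk ⟨f.base x, hVW hxV⟩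
  haveI := hW.isLocalization_stalk ⟨f.base x, hVW hxV⟩
  algebraize [(f.appLE W V hVW).hom]
  exact isRegularLocalRing_iff_of_smooth (R := Γ(Y, W)) (S := Γ(X, V))
    (hV.primeIdealOf ⟨x, hxV⟩).asIdeal (hW.primeIdealOf ⟨f.base x, hVW hxV⟩).asIdeal
    (congrArg PrimeSpectrum.asIdeal hcomap) (Y.presheaf.stalk (f.base x)) (X.presheaf.stalk x)

end Groth.Agent.Lib.Helper6.SmRegSch2

namespace Groth.Agent.Lib.Helper6.SmRegSch2

theorem main4991 {X Y : Scheme.{u}} (f : X ⟶ Y) (x : ↥X)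
    (hx : ∃ U : X.Opens, x ∈ U ∧ Smooth (U.ι ≫ f)) :
    IsRegularLocalRing ↑(X.presheaf.stalk x) ↔ IsRegularLocalRing ↑(Y.presheaf.stalk (f.base x)) := by
  obtain ⟨U, hxU, hsm⟩ := hx
  have h := isRegularLocalRing_stalk_iff_of_smooth (U.ι ≫ f) ⟨x, hxU⟩
  have e : X.presheaf.stalk x ≃+* U.toScheme.presheaf.stalk ⟨x, hxU⟩ :=
    (asIso (U.ι.stalkMap ⟨x, hxU⟩)).commRingCatIsoToRingEquiv
  have h' : IsRegularLocalRing ↑((↑U : Scheme).presheaf.stalk ⟨x, hxU⟩) ↔
      IsRegularLocalRing ↑(Y.presheaf.stalk (f.base x)) := h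
  rw [← h']
  exact ⟨fun h1 => IsRegularLocalRing.of_ringEquiv e, fun h1 => IsRegularLocalRing.of_ringEquiv e.symm⟩

end Groth.Agent.Lib.Helper6.SmRegSch2
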