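import Mathlib
import Groth.Agent.Lib.Helper28DepthFlat3
import Groth.Agent.Lib.Helper28RegLoc
import Groth.Agent.Lib.Helper6SmRegSch2
import Groth.Agent.S10176
import Groth.Agent.S10177
import Groth.Prelude.Def_AlgSpSub

set_option autoImplicit false
universe u
open CategoryTheory CategoryTheory.Limits AlgebraicGeometry

namespace Groth.Agent.Lib.Helper12.NoethDescent

/-- affine case: flat, locally finitely presented, surjective onto an affine scheme from a locally
Noetherian scheme ⇒ the ring of global sections of the target is Noetherian. -/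
lemma isNoetherianRing_of_flat_lfp_surjective_of_isAffine {A B : Scheme.{u}} (g : A ⟶ B) [IsAffine B]
    [Flat g] [LocallyOfFinitePresentation g] [Surjective g] [IsLocallyNoetherian A] :
    IsNoetherianRing Γ(B, ⊤) := by
  classical
  have hopen : IsOpenMap g := g.isOpenMap
  -- choose an affine open neighbourhood of each point of `A`
  have hV : ∀ a : A, ∃ V : A.Opens, IsAffineOpen V ∧ a ∈ V := by
    intro a
    obtain ⟨V, hV, haV, -⟩ := TopologicalSpace.Opens.isBasis_iff_nbhd.mp A.isBasis_affineOpens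
      (TopologicalSpace.Opens.mem_top a)
    exact ⟨V, hV, haV⟩
  choose V hVa haV using hV
  obtain ⟨t, ht⟩ := isCompact_univ.elim_finite_subcover (fun a : A => g '' (V a : Set A))
    (fun a => hopen _ (V a).isOpen) (by
      intro b _
      obtain ⟨a, rfl⟩ := g.surjective b
      exact Set.mem_iUnion.2 ⟨a, a, haV a, rfl⟩)
  let W : Scheme.{u} := ∐ (fun a : t => (V a.1).toScheme)
  haveI : ∀ a : t, IsAffine ((V a.1).toScheme) := fun a => hVa a.1
  haveI : IsAffine W := inferInstance
  let d : W ⟶ B := Sigma.desc (fun a : t => (V a.1).ι ≫ g)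
  haveI : Flat d := by
    rw [IsZariskiLocalAtSource.iff_of_openCover (P := @Flat) (sigmaOpenCover _)]
    intro a
    show Flat (Sigma.ι _ a ≫ Limits.Sigma.desc _)
    rw [Limits.Sigma.ι_desc]
    infer_instance
  haveI : Surjective d := by
    refine ⟨fun b => ?_⟩
    have := ht (Set.mem_univ b)
    simp only [Set.mem_iUnion] at this
    obtain ⟨a, hat, v, hv, rfl⟩ := this
    refine ⟨Sigma.ι (fun a : t => (V a.1).toScheme) ⟨a, hat⟩ ⟨v, hv⟩, ?_⟩
    have e : Sigma.ι (fun a : t => (V a.1).toScheme) ⟨a, hat⟩ ≫ d = (V a).ι ≫ g :=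
      Limits.Sigma.ι_desc _ _
    rw [← Scheme.Hom.comp_apply, e]
    rfl
  haveI : IsLocallyNoetherian W := by
    rw [isLocallyNoetherian_iff_openCover (sigmaOpenCover _)]
    intro a
    simp only [sigmaOpenCover_X]
    infer_instance
  haveI : IsNoetherianRing Γ(W, ⊤) :=
    IsLocallyNoetherian.component_noetherian ⟨⊤, isAffineOpen_top W⟩
  have hff : d.appTop.hom.FaithfullyFlat :=
    (Flat.flat_and_surjective_iff_faithfullyFlat_of_isAffine d).1 ⟨inferInstance, inferInstance⟩
  algebraize [d.appTop.hom]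
  haveI : Module.FaithfullyFlat Γ(B, ⊤) Γ(W, ⊤) := hff
  exact Groth.Agent.Lib.Helper28.isNoetherianRing_of_faithfullyFlat (R := Γ(B, ⊤)) (S := Γ(W, ⊤))

/-- local Noetherianity descends along flat, locally finitely presented, surjective morphisms. -/
lemma isLocallyNoetherian_of_flat_lfp_surjective {A B : Scheme.{u}} (g : A ⟶ B)
    [Flat g] [LocallyOfFinitePresentation g] [Surjective g] [IsLocallyNoetherian A] :
    IsLocallyNoetherian B := by
  rw [isLocallyNoetherian_iff_openCover B.affineCover]
  intro i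
  haveI : IsLocallyNoetherian (pullback g (B.affineCover.f i)) :=
    isLocallyNoetherian_of_isOpenImmersion (pullback.fst g (B.affineCover.f i))
  haveI : IsAffine (B.affineCover.X i) := by
    dsimp [Scheme.affineCover]; infer_instance
  haveI := isNoetherianRing_of_flat_lfp_surjective_of_isAffine
    (pullback.snd g (B.affineCover.f i))
  exact isLocallyNoetherian_of_isOpenImmersion (B.affineCover.X i).isoSpec.hom

/-- regularity of the stalks descends along flat surjective morphisms to a locally Noetherian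
scheme. -/
lemma isRegularLocalRing_stalk_of_flat_surjective {A B : Scheme.{u}} (g : A ⟶ B)
    [Flat g] [Surjective g] [IsLocallyNoetherian B]
    (hA : ∀ a : A, IsRegularLocalRing (A.presheaf.stalk a)) (b : B) :
    IsRegularLocalRing (B.presheaf.stalk b) := by
  obtain ⟨a, rfl⟩ := g.surjective b
  have hfl : (g.stalkMap a).hom.Flat := Flat.stalkMap g a
  have hloc : IsLocalHom (g.stalkMap a).hom := inferInstance
  algebraize [(g.stalkMap a).hom]
  haveI : IsLocalHom (algebraMap (B.presheaf.stalk (g a)) (A.presheaf.stalk a)) := hloc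
  haveI := hA a
  exact Groth.Agent.Lib.Helper28.isRegularLocalRing_of_flat_of_isLocalHom
    (B.presheaf.stalk (g a)) (A.presheaf.stalk a)

open AlgSp

variable {S : Scheme.{u}}

/-- chart plumbing: for `f : X ⟶ Y` flat, locally of finite presentation and surjective, a
surjective étale chart `U` of `X` and a surjective étale chart `V` of `Y`, there is a scheme `U'`
étale over `U` with a flat, locally finitely presented, surjective morphism to `V`. -/
lemma exists_chart_square {X Y : AlgSp.Sp S} (f : X ⟶ Y)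
    (hfp : AlgSp.LocP @LocallyOfFinitePresentation f) (hfl : AlgSp.LocP @Flat f)
    (hs : AlgSp.IsSurjectiveMor f)
    {U : Over S} (p : (AlgSp.yon S).obj U ⟶ X) (hpe : AlgSp.RepWith @Etale p)
    (hps : AlgSp.RepWith @Surjective p)
    {V : Over S} (q : (AlgSp.yon S).obj V ⟶ Y) (hqe : AlgSp.RepWith @Etale q) :
    ∃ (U' : Over S) (pr : U' ⟶ U) (h : U' ⟶ V), Etale pr.left ∧ Flat h.left ∧
      LocallyOfFinitePresentation h.left ∧ Surjective h.left := by
  obtain ⟨U', pr, h', sq⟩ := hqe.1 (p ≫ f)
  obtain ⟨h, rfl⟩ := (AlgSp.yon S).map_surjective h'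
  haveI : Etale pr.left := hqe.2 _ _ pr sq
  have hpre : AlgSp.RepWith @Etale ((AlgSp.yon S).map pr ≫ p) :=
    (AlgSp.RepWith @Etale).comp_mem _ _ ((AlgSp.repWith_yon_map_iff _ _).2 inferInstance) hpe
  refine ⟨U', pr, h, inferInstance,
    hfl _ q h hpre hqe (by rw [Category.assoc]; exact sq.w.symm),
    hfp _ q h hpre hqe (by rw [Category.assoc]; exact sq.w.symm), ⟨fun v => ?_⟩⟩
  obtain ⟨x, hx⟩ := hs (AlgSp.Points.ofPt q v)
  obtain ⟨u, rfl⟩ := Groth.Agent.S10177.surjective_ofPt p hps x
  obtain ⟨y, hy1, hy2⟩ := Groth.Agent.S10176.exists_point_of_isPullback_yon sq v u hx.symm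
  exact ⟨y, hy1⟩

/-- local Noetherianity descends along flat, locally finitely presented, surjective morphisms of
algebraic spaces. -/
lemma isLocNoethSp_of_flat_lfp_surjective {X Y : AlgSp.Sp S} (hY : AlgSp.IsAlgSpace Y) (f : X ⟶ Y)
    (hfp : AlgSp.LocP @LocallyOfFinitePresentation f) (hfl : AlgSp.LocP @Flat f)
    (hs : AlgSp.IsSurjectiveMor f) (hX : AlgSp.IsLocNoethSp X) : AlgSp.IsLocNoethSp Y := by
  obtain ⟨U, p, hpe, hps, hU⟩ := hX
  obtain ⟨V, q, hqe, hqs⟩ := hY.atlas
  obtain ⟨U', pr, h, _, _, _, _⟩ := exists_chart_square f hfp hfl hs p hpe hps q hqe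
  haveI : IsLocallyNoetherian U.left := hU
  haveI : IsLocallyNoetherian U'.left := LocallyOfFiniteType.isLocallyNoetherian pr.left
  exact ⟨V, q, hqe, hqs, isLocallyNoetherian_of_flat_lfp_surjective h.left⟩

/-- regularity descends along flat, locally finitely presented, surjective morphisms of
algebraic spaces. -/
lemma isRegularSp_of_flat_lfp_surjective {X Y : AlgSp.Sp S} (hY : AlgSp.IsAlgSpace Y) (f : X ⟶ Y)
    (hfp : AlgSp.LocP @LocallyOfFinitePresentation f) (hfl : AlgSp.LocP @Flat f)
    (hs : AlgSp.IsSurjectiveMor f)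
    (hX : AlgSp.EtaleLocally (fun U => IsLocallyNoetherian U ∧
      ∀ u : ↥U, IsRegularLocalRing ↥(U.presheaf.stalk u)) X) :
    AlgSp.EtaleLocally (fun U => IsLocallyNoetherian U ∧
      ∀ u : ↥U, IsRegularLocalRing ↥(U.presheaf.stalk u)) Y := by
  obtain ⟨U, p, hpe, hps, hU, hUreg⟩ := hX
  obtain ⟨V, q, hqe, hqs⟩ := hY.atlas
  obtain ⟨U', pr, h, _, _, _, _⟩ := exists_chart_square f hfp hfl hs p hpe hps q hqe
  haveI : IsLocallyNoetherian U.left := hU
  haveI : IsLocallyNoetherian U'.left := LocallyOfFiniteType.isLocallyNoetherian pr.left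
  haveI : IsLocallyNoetherian V.left := isLocallyNoetherian_of_flat_lfp_surjective h.left
  refine ⟨V, q, hqe, hqs, inferInstance, ?_⟩
  refine isRegularLocalRing_stalk_of_flat_surjective h.left (fun a => ?_)
  exact (Groth.Agent.Lib.Helper6.SmRegSch2.isRegularLocalRing_stalk_iff_of_smooth pr.left a).2
    (hUreg _)

end Groth.Agent.Lib.Helper12.NoethDescent
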