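import Mathlib
import Groth.Agent.Lib.Helper6RegSm2

set_option autoImplicit false
universe u
open CategoryTheory CategoryTheory.Limits AlgebraicGeometry

namespace Groth.Agent.Lib.Helper6.SmRegSch3

open Groth.Agent.Lib.Helper6.RegSm

theorem mem_smoothLocus_iff_isRegularLocalRing (k : Type u) [Field k] [PerfectField k]
    (X : Scheme.{u}) (f : X ⟶ Spec (CommRingCat.of k)) [LocallyOfFinitePresentation f] (x : X) :
    x ∈ f.smoothLocus ↔ IsRegularLocalRing (X.presheaf.stalk x) := by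
  obtain ⟨V, hV, hxV, -⟩ := exists_isAffineOpen_mem_and_subset (X := X) (x := x)
    (U := ⊤) trivial
  have hU := isAffineOpen_top (Spec (CommRingCat.of k))
  have hVU : V ≤ f ⁻¹ᵁ ⊤ := le_top
  have hfp := f.finitePresentation_appLE hU hV hVU
  rw [Scheme.Hom.mem_smoothLocus, formallySmooth_stalkMap_iff ⊤ hU V hV hVU hxV]
  let e : k ≃+* Γ(Spec (CommRingCat.of k), ⊤) :=
    (Scheme.ΓSpecIso (CommRingCat.of k)).commRingCatIsoToRingEquiv.symm
  letI : Field Γ(Spec (CommRingCat.of k), ⊤) :=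
    (e.symm.toMulEquiv.isField (Field.toIsField k)).toField
  letI : Algebra k Γ(Spec (CommRingCat.of k), ⊤) := e.toRingHom.toAlgebra
  haveI : Algebra.IsAlgebraic k Γ(Spec (CommRingCat.of k), ⊤) :=
    ⟨fun y => by obtain ⟨c, rfl⟩ := e.surjective y; exact isAlgebraic_algebraMap c⟩
  haveI : PerfectField Γ(Spec (CommRingCat.of k), ⊤) := Algebra.IsAlgebraic.perfectField (K := k)
  algebraize [(f.appLE ⊤ V hVU).hom]
  haveI : Algebra.EssFiniteType Γ(Spec (CommRingCat.of k), ⊤)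
      (hV.primeIdealOf ⟨x, hxV⟩).asIdeal.ResidueField :=
    Algebra.EssFiniteType.comp Γ(Spec (CommRingCat.of k), ⊤) Γ(X, V) _
  haveI : Algebra.FormallySmooth Γ(Spec (CommRingCat.of k), ⊤)
      (hV.primeIdealOf ⟨x, hxV⟩).asIdeal.ResidueField := Algebra.FormallySmooth.of_perfectField
  have key := isSmoothAt_iff_isRegularLocalRing Γ(Spec (CommRingCat.of k), ⊤) Γ(X, V)
    (hV.primeIdealOf ⟨x, hxV⟩).asIdeal
  change Algebra.IsSmoothAt _ (hV.primeIdealOf ⟨x, hxV⟩).asIdeal ↔ _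
  rw [key]
  letI := X.presheaf.algebra_section_stalk ⟨x, hxV⟩
  haveI := hV.isLocalization_stalk ⟨x, hxV⟩
  let e' := IsLocalization.algEquiv (hV.primeIdealOf ⟨x, hxV⟩).asIdeal.primeCompl
    (Localization.AtPrime (hV.primeIdealOf ⟨x, hxV⟩).asIdeal) (X.presheaf.stalk x)
  exact ⟨fun h => IsRegularLocalRing.of_ringEquiv e'.toRingEquiv,
    fun h => IsRegularLocalRing.of_ringEquiv e'.toRingEquiv.symm⟩

end Groth.Agent.Lib.Helper6.SmRegSch3
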