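import Mathlib
import Groth.Agent.Lib.Helper12NoethDescent
import Groth.Agent.Lib.Helper12FPDescent
import Groth.Agent.Lib.Helper12Flat
import Groth.Agent.Lib.Helper6SmRegSch
import Groth.Agent.Lib.Helper6SmRegSch3

set_option autoImplicit false
universe u
open CategoryTheory CategoryTheory.Limits AlgebraicGeometry

namespace Groth.Agent.Lib.Helper12.SmoothSrc

/-- over a perfect field, smoothness of a locally finitely presented scheme descends along flat
surjective morphisms on the source. -/
lemma smooth_of_flat_surjective_of_perfectField (k : Type u) [Field k] [PerfectField k]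
    {X' X : Scheme.{u}} (e : X' ⟶ X) [Flat e] [Surjective e] (f : X ⟶ Spec (CommRingCat.of k))
    [LocallyOfFinitePresentation f] [Smooth (e ≫ f)] : Smooth f := by
  rw [← Scheme.Hom.smoothLocus_eq_top_iff]
  haveI : IsLocallyNoetherian X := LocallyOfFiniteType.isLocallyNoetherian f
  ext x
  simp only [TopologicalSpace.Opens.coe_top, Set.mem_univ, iff_true, SetLike.mem_coe]
  rw [Groth.Agent.Lib.Helper6.SmRegSch3.mem_smoothLocus_iff_isRegularLocalRing k X f x]
  exact NoethDescent.isRegularLocalRing_stalk_of_flat_surjective e
    (fun a => Groth.Agent.Lib.Helper6.SmRegSch.isRegularLocalRing_stalk_of_smooth_over_field k X'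
      (e ≫ f) a) x

/-- the base change of `e` along the projection of a fibre product. -/
lemma isPullback_lift {U' U V T : Scheme.{u}} (e : U' ⟶ U) (h : U ⟶ V) (t : T ⟶ V) :
    IsPullback (pullback.lift (pullback.fst (e ≫ h) t ≫ e) (pullback.snd (e ≫ h) t)
        (by simp [pullback.condition]))
      (pullback.fst (e ≫ h) t) (pullback.fst h t) e := by
  refine IsPullback.of_right (h₁₂ := pullback.snd h t) (v₁₃ := t) (h₂₂ := h) ?_
    (pullback.lift_fst _ _ _) ?_
  · rw [pullback.lift_snd]
    exact (IsPullback.of_hasPullback (e ≫ h) t).flip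
  · exact (IsPullback.of_hasPullback h t).flip

/-- over a field, smoothness of a locally finitely presented scheme descends along flat
surjective morphisms on the source. -/
lemma smooth_of_flat_surjective_of_field (k : Type u) [Field k]
    {X' X : Scheme.{u}} (e : X' ⟶ X) [Flat e] [Surjective e] (f : X ⟶ Spec (CommRingCat.of k))
    [LocallyOfFinitePresentation f] [Smooth (e ≫ f)] : Smooth f := by
  let K := AlgebraicClosure k
  let φ : Spec (CommRingCat.of K) ⟶ Spec (CommRingCat.of k) :=
    Spec.map (CommRingCat.ofHom (algebraMap k K))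
  have hφ : Flat φ ∧ Surjective φ := by
    rw [flat_and_surjective_SpecMap_iff]
    show (algebraMap k K).FaithfullyFlat
    rw [RingHom.faithfullyFlat_algebraMap_iff]
    infer_instance
  haveI := hφ.1
  haveI := hφ.2
  let eK : pullback (e ≫ f) φ ⟶ pullback f φ :=
    pullback.lift (pullback.fst (e ≫ f) φ ≫ e) (pullback.snd (e ≫ f) φ)
      (by simp [pullback.condition])
  have sq : IsPullback eK (pullback.fst (e ≫ f) φ) (pullback.fst f φ) e := isPullback_lift e f φ
  haveI : Flat eK := MorphismProperty.of_isPullback (P := @Flat) sq.flip inferInstance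
  haveI : Surjective eK := MorphismProperty.of_isPullback (P := @Surjective) sq.flip inferInstance
  have he : eK ≫ pullback.snd f φ = pullback.snd (e ≫ f) φ := pullback.lift_snd _ _ _
  haveI : Smooth (eK ≫ pullback.snd f φ) := by rw [he]; infer_instance
  haveI : Smooth (pullback.snd f φ) :=
    smooth_of_flat_surjective_of_perfectField K eK (pullback.snd f φ)
  exact MorphismProperty.of_isPullback_of_descendsAlong (P := @Smooth)
    (Q := @Surjective ⊓ @Flat ⊓ @QuasiCompact) (IsPullback.of_hasPullback f φ).flip
    ⟨⟨inferInstance, inferInstance⟩, inferInstance⟩ inferInstance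

/-- smoothness is étale local on the source. -/
theorem smooth_of_etale_cover_source {U' U V : Scheme.{u}} (e : U' ⟶ U) (h : U ⟶ V)
    [Etale e] [Surjective e] [Smooth (e ≫ h)] : Smooth h := by
  haveI : LocallyOfFinitePresentation h :=
    Groth.Agent.Lib.Helper12.FPDescent.locallyOfFinitePresentation_of_etale_cover_source e h
  haveI : Flat h := Groth.Agent.Lib.Helper12.flat_of_comp_of_flat_of_surjective e h
  refine Smooth.of_smooth_fiberToSpecResidueField h (fun y => ?_)
  let t := V.fromSpecResidueField y
  let eK : pullback (e ≫ h) t ⟶ pullback h t :=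
    pullback.lift (pullback.fst (e ≫ h) t ≫ e) (pullback.snd (e ≫ h) t)
      (by simp [pullback.condition])
  have sq : IsPullback eK (pullback.fst (e ≫ h) t) (pullback.fst h t) e := isPullback_lift e h t
  haveI : Flat eK := MorphismProperty.of_isPullback (P := @Flat) sq.flip inferInstance
  haveI : Surjective eK := MorphismProperty.of_isPullback (P := @Surjective) sq.flip inferInstance
  have he : eK ≫ pullback.snd h t = pullback.snd (e ≫ h) t := pullback.lift_snd _ _ _
  haveI : Smooth (eK ≫ pullback.snd h t) := by rw [he]; infer_instance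
  exact smooth_of_flat_surjective_of_field (V.residueField y) eK (pullback.snd h t)

end Groth.Agent.Lib.Helper12.SmoothSrc
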