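import Mathlib
import Groth.Agent.Lib.Helper12SrcLocal

/-!
# Locality on the source for `AlgSp.LocP`: the four covering notions (helper12)
-/

set_option autoImplicit false
universe u
open CategoryTheory CategoryTheory.Limits AlgebraicGeometry
open AlgSp

namespace Groth.Agent.Lib.Helper12.SrcLocal

open Opposite MorphismProperty

variable {S : Scheme.{u}}

/-- every morphism with `Qs` is a member of some `Qs`-covering of its target. -/
lemma exists_mem_precoverage (Qs : MorphismProperty Scheme.{u}) [Qs.ContainsIdentities]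
    {A B : Scheme.{u}} (m : A ⟶ B) (hm : Qs m) : ∃ R ∈ Scheme.precoverage Qs B, R m := by
  let E : PreZeroHypercover.{0} B :=
    (PreZeroHypercover.singleton (𝟙 B)).sum (PreZeroHypercover.singleton m)
  refine ⟨E.presieve₀, ?_, ?_⟩
  · rw [Scheme.presieve₀_mem_precoverage_iff]
    refine ⟨fun x => ⟨Sum.inl ⟨⟩, x, rfl⟩, fun i => ?_⟩
    rcases i with i | i
    · exact Qs.id_mem B
    · exact hm
  · exact Presieve.ofArrows.mk (Sum.inr ⟨⟩)

/-- every flat morphism is a member of some fpqc covering of its target. -/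
lemma exists_mem_fpqc {A B : Scheme.{u}} (m : A ⟶ B) (hm : Flat m) :
    ∃ R ∈ Scheme.fpqcPrecoverage B, R m := by
  let E : PreZeroHypercover.{0} B :=
    (PreZeroHypercover.singleton (𝟙 B)).sum (PreZeroHypercover.singleton m)
  refine ⟨E.presieve₀, ⟨?_, ?_⟩, ?_⟩
  · rw [Scheme.presieve₀_mem_qcPrecoverage_iff]
    infer_instance
  · rw [Scheme.presieve₀_mem_precoverage_iff]
    refine ⟨fun x => ⟨Sum.inl ⟨⟩, x, rfl⟩, fun i => ?_⟩
    rcases i with i | i
    · exact (inferInstance : Flat (𝟙 B))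
    · exact hm
  · exact Presieve.ofArrows.mk (Sum.inr ⟨⟩)

/-- cancellation along étale morphisms for classes containing open immersions. -/
lemma cancel_etale (Qs : MorphismProperty Scheme.{u}) [Qs.IsStableUnderBaseChange]
    [Qs.IsMultiplicative] (hop : ∀ {A B : Scheme.{u}} (j : A ⟶ B), IsOpenImmersion j → Qs j)
    {A B C : Scheme.{u}} (m : A ⟶ B) (r : B ⟶ C) (hr : Etale r) (h : Qs (m ≫ r)) : Qs m := by
  haveI : Qs.HasOfPostcompProperty @Etale := by
    rw [MorphismProperty.hasOfPostcompProperty_iff_le_diagonal]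
    intro X Y f hf
    haveI : Etale f := hf
    exact hop _ inferInstance
  exact MorphismProperty.of_postcomp (W := Qs) (W' := @Etale) m r hr h

lemma ChartData.isCompactOpenCovered {ι : Type u} {X : AlgSp.Sp S} {Xi : ι → AlgSp.Sp S}
    {g : ∀ i, Xi i ⟶ X}
    (hg2 : ∀ (Z : Over S), IsAffine Z.left → ∀ (h : (AlgSp.yon S).obj Z ⟶ X),
      ∃ (m : ℕ) (W : Fin m → Over S) (c : ∀ j, W j ⟶ Z),
        (∀ j, IsAffine (W j).left) ∧ (∀ j, Flat (c j).left) ∧
        (∀ z : ↥Z.left, ∃ j, z ∈ Set.range (c j).left) ∧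
        ∀ j, ∃ (i : _) (l : (AlgSp.yon S).obj (W j) ⟶ Xi i),
          l ≫ g i = (AlgSp.yon S).map (c j) ≫ h)
    {U : Over S} {a : (AlgSp.yon S).obj U ⟶ X} (D : ChartData Xi g a)
    (Z : U.left.Opens) (hZ : IsAffineOpen Z) :
    IsCompactOpenCovered (fun i => ⇑(D.e i).left) (Z : Set ↥U.left) := by
  let Zo : Over S := Over.mk (Z.ι ≫ U.hom)
  let ιZ : Zo ⟶ U := Over.homMk Z.ι rfl
  have hZa : IsAffine Zo.left := hZ
  obtain ⟨m, W', c, hW'a, hcfl, hcs, hl⟩ := hg2 Zo hZa ((AlgSp.yon S).map ιZ ≫ a)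
  choose i_ l hl using hl
  have hlam : ∀ j, (AlgSp.yon S).map (c j ≫ ιZ) ≫ a = l j ≫ g (i_ j) := fun j => by
    rw [hl j, Functor.map_comp, Category.assoc]
  choose T t r' sqT using fun j => (D.hqe (i_ j)).1 (pullback.lift _ _ (hlam j))
  choose r hr using fun j => (AlgSp.yon S).map_surjective (r' j)
  have hte : ∀ j, Etale (t j).left := fun j => (D.hqe (i_ j)).2 _ _ (t j) (sqT j)
  have hts : ∀ j, Surjective (t j).left := fun j => (D.hqs (i_ j)).2 _ _ (t j) (sqT j)
  have hcomm : ∀ j, r j ≫ D.e (i_ j) = t j ≫ c j ≫ ιZ := fun j => by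
    apply (AlgSp.yon S).map_injective
    rw [Functor.map_comp, hr, D.he, ← Category.assoc, (sqT j).w, Category.assoc,
      pullback.lift_fst, ← Functor.map_comp]
  have hcommx : ∀ j (x : ↥(T j).left),
      (D.e (i_ j)).left ((r j).left x) = Z.ι ((c j).left ((t j).left x)) := fun j x => by
    have h1 : (r j ≫ D.e (i_ j)).left = (t j ≫ c j ≫ ιZ).left := by rw [hcomm j]
    simp only [Over.comp_left] at h1
    have h2 : ((r j).left ≫ (D.e (i_ j)).left) x = ((t j).left ≫ (c j).left ≫ ιZ.left) x := by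
      rw [h1]
    simp only [Scheme.Hom.comp_apply] at h2
    exact h2
  -- compact opens of the `T j` surjecting onto the `W' j`
  have hV : ∀ j, ∃ V : TopologicalSpace.Opens ↥(T j).left, IsCompact (V : Set ↥(T j).left) ∧
      (t j).left '' (V : Set ↥(T j).left) = Set.univ := fun j => by
    haveI := hte j
    haveI := hts j
    haveI : IsAffine (W' j).left := hW'a j
    exact IsOpenMap.exists_opens_image_eq_of_prespectralSpace (t j).left.continuous
      (t j).left.isOpenMap (fun x _ => (t j).left.surjective x) isOpen_univ isCompact_univ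
  choose V hVc hVimg using hV
  refine IsCompactOpenCovered.of_comp (f := fun i => ⇑(D.e i).left)
    (g := fun j : Fin m => fun x : ↥(T j).left => Z.ι ((c j).left ((t j).left x)))
    (a := i_) (fun j => ⇑(r j).left) (fun j => (r j).left.continuous)
    (fun j => funext fun x => (hcommx j x).symm) (fun i => (D.e i).left.continuous) Z.2 ?_
  refine IsCompactOpenCovered.of_finite (a := id) V hVc ?_
  ext x
  simp only [Set.mem_iUnion, Set.mem_image, id_eq]
  constructor
  · rintro ⟨j, y, -, rfl⟩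
    rw [← Scheme.Opens.range_ι Z]
    exact ⟨_, rfl⟩
  · intro hx
    rw [← Scheme.Opens.range_ι Z] at hx
    obtain ⟨z, rfl⟩ := hx
    obtain ⟨j, w', hw'⟩ := hcs z
    have : w' ∈ (t j).left '' (V j : Set ↥(T j).left) := by rw [hVimg j]; trivial
    obtain ⟨y, hy, rfl⟩ := this
    exact ⟨j, y, hy, by rw [hw']⟩

/-- the charts attached to an fpqc covering of an algebraic space form an fpqc covering. -/
lemma ChartData.mem_fpqc {ι : Type u} {X : AlgSp.Sp S} {Xi : ι → AlgSp.Sp S}
    {g : ∀ i, Xi i ⟶ X}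
    (hg2 : ∀ (Z : Over S), IsAffine Z.left → ∀ (h : (AlgSp.yon S).obj Z ⟶ X),
      ∃ (m : ℕ) (W : Fin m → Over S) (c : ∀ j, W j ⟶ Z),
        (∀ j, IsAffine (W j).left) ∧ (∀ j, Flat (c j).left) ∧
        (∀ z : ↥Z.left, ∃ j, z ∈ Set.range (c j).left) ∧
        ∀ j, ∃ (i : _) (l : (AlgSp.yon S).obj (W j) ⟶ Xi i),
          l ≫ g i = (AlgSp.yon S).map (c j) ≫ h)
    {U : Over S} {a : (AlgSp.yon S).obj U ⟶ X} (D : ChartData Xi g a)
    (hfl : ∀ i, Flat (D.e i).left) :
    Presieve.ofArrows (fun i => (D.W i).left) (fun i => (D.e i).left) ∈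
      Scheme.fpqcPrecoverage U.left := by
  let E : PreZeroHypercover.{u} U.left :=
    { I₀ := ι, X := fun i => (D.W i).left, f := fun i => (D.e i).left }
  show E.presieve₀ ∈ Scheme.fpqcPrecoverage U.left
  refine ⟨?_, ?_⟩
  · rw [Scheme.presieve₀_mem_qcPrecoverage_iff]
    exact ⟨fun {Z} hZ => D.isCompactOpenCovered hg2 Z hZ⟩
  · rw [Scheme.presieve₀_mem_precoverage_iff]
    refine ⟨fun x => ?_, hfl⟩
    obtain ⟨Z, hZ, hxZ, -⟩ := TopologicalSpace.Opens.isBasis_iff_nbhd.mp
      U.left.isBasis_affineOpens (TopologicalSpace.Opens.mem_top x)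
    obtain ⟨s, hs, V, hc, hcov⟩ := D.isCompactOpenCovered hg2 Z hZ
    have hx : x ∈ (Z : Set ↥U.left) := hxZ
    rw [← hcov] at hx
    simp only [Set.mem_iUnion] at hx
    obtain ⟨i, hi, y, hy, rfl⟩ := hx
    exact ⟨i, y, rfl⟩

end Groth.Agent.Lib.Helper12.SrcLocal
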