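import Mathlib

/-!
# From single étale covers to `IsLocalAtSource` for the étale precoverage (helper12)
-/

set_option autoImplicit false
universe u
open CategoryTheory CategoryTheory.Limits AlgebraicGeometry MorphismProperty

namespace Groth.Agent.Lib.Helper12.EtSrcLocal

/-- a Zariski-local-at-source property stable under precomposition with étale morphisms and
descending along single surjective étale covers of the source is local at the source for the
étale precoverage. -/
lemma isLocalAtSource_etale_of_single (P : MorphismProperty Scheme.{u}) [IsZariskiLocalAtSource P]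
    (hcomp : ∀ {A B C : Scheme.{u}} (e : A ⟶ B) (k : B ⟶ C), Etale e → P k → P (e ≫ k))
    (hdesc : ∀ {A B C : Scheme.{u}} (e : A ⟶ B) (k : B ⟶ C), Etale e → Surjective e →
      P (e ≫ k) → P k) :
    P.IsLocalAtSource Scheme.etalePrecoverage where
  comp := fun {X Y f R} hR {U} g hg hf => hcomp g f (hR.2 hg) hf
  of_forall_comp := fun {X Y f R} hR h => by
    have hsurj := (Presieve.mem_comap_jointlySurjectivePrecoverage_iff Scheme.forget).1 hR.1
    choose W g hg hx using hsurj
    haveI : ∀ x, Etale (g x) := fun x => hR.2 (hg x)
    have he : Etale (Sigma.desc g) :=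
      IsZariskiLocalAtSource.sigmaDesc (P := @Etale) (fun x => inferInstance)
    have hs : Surjective (Sigma.desc g) := by
      refine ⟨fun x => ?_⟩
      obtain ⟨w, hw⟩ := hx x
      refine ⟨(Sigma.ι W x) w, ?_⟩
      rw [← Scheme.Hom.comp_apply, Sigma.ι_desc]
      exact hw
    apply hdesc (Sigma.desc g) f he hs
    have e1 : Sigma.desc g ≫ f = Sigma.desc (fun x => g x ≫ f) := by
      apply Sigma.hom_ext
      intro x
      rw [Sigma.ι_desc_assoc, Sigma.ι_desc]
    rw [e1]
    exact IsZariskiLocalAtSource.sigmaDesc (fun x => h (hg x))

end Groth.Agent.Lib.Helper12.EtSrcLocal
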