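import Mathlib
import Groth.Agent.Lib.Helper12OpenSub
import Groth.Agent.S10301
import Groth.Agent.S9874
import Groth.Agent.S9937
import Groth.Agent.S9947
import Groth.Agent.S9962
import Groth.Agent.S10210
import Groth.Agent.S10211

set_option autoImplicit false
universe u
open CategoryTheory CategoryTheory.Limits AlgebraicGeometry Opposite TopologicalSpace
open AlgSp

namespace Groth.Agent.Lib.Helper12.LargestOpen

variable {S : Scheme.{u}}

/-- the properties of a class `Q` of covering morphisms used below. -/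
structure CovProp (Q : MorphismProperty (AlgSp.Sp S)) : Prop where
  of_open : ∀ {A B : AlgSp.Sp S}, AlgSp.IsAlgSpace A → AlgSp.IsAlgSpace B → ∀ (j : A ⟶ B),
    AlgSp.RepWith @IsOpenImmersion j → Q j
  comp_open : ∀ {A B C : AlgSp.Sp S}, AlgSp.IsAlgSpace A → AlgSp.IsAlgSpace B → AlgSp.IsAlgSpace C →
    ∀ (j : A ⟶ B) (g : B ⟶ C), AlgSp.RepWith @IsOpenImmersion j → Q g → Q (j ≫ g)
  cancel_open : ∀ {A B C : AlgSp.Sp S}, AlgSp.IsAlgSpace A → AlgSp.IsAlgSpace B →
    AlgSp.IsAlgSpace C → ∀ (h : A ⟶ B) (j : B ⟶ C), AlgSp.RepWith @IsOpenImmersion j →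
    Q (h ≫ j) → Q h
  isOpenMap : ∀ {A B : AlgSp.Sp S}, AlgSp.IsAlgSpace A → AlgSp.IsAlgSpace B → ∀ (g : A ⟶ B),
    Q g → IsOpenMap (AlgSp.Points.map g)

/-- `f` has `P` over the open set `V` of `|Y|`. -/
abbrev HasOver (P : MorphismProperty (AlgSp.Sp S)) {X Y : AlgSp.Space S} (f : X ⟶ Y)
    (V : Set (AlgSp.Points Y.obj)) : Prop :=
  ∀ (W₁ X₁ : AlgSp.Space S) (j₁ : W₁ ⟶ Y) (j₁' : X₁ ⟶ X) (f₁ : X₁ ⟶ W₁),
    AlgSp.RepWith @IsOpenImmersion j₁.hom → Set.range (AlgSp.Points.map j₁.hom) = V →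
    IsPullback j₁'.hom f₁.hom f.hom j₁.hom → P f₁.hom

lemma isPullback_id_of_mono {C : Type*} [Category C] {A B Y : C} (k' : B ⟶ A) (j : A ⟶ Y)
    [Mono j] : IsPullback (𝟙 B) k' (k' ≫ j) j :=
  IsPullback.of_isLimit' ⟨by simp⟩ (PullbackCone.IsLimit.mk _ (fun s => s.fst)
    (fun s => by simp) (fun s => by rw [← cancel_mono j]; simpa using s.condition)
    (fun s m h1 h2 => by simpa using h1))

lemma injective_map_of_open {A Y : AlgSp.Sp S} (j : A ⟶ Y)
    (hj : AlgSp.RepWith @IsOpenImmersion j) : Function.Injective (AlgSp.Points.map j) :=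
  Groth.Agent.S10301.injective_map_of_repWith (P := @IsOpenImmersion)
    (fun _ _ g hg => by haveI : IsOpenImmersion g := hg; exact g.isOpenEmbedding.injective) j hj

lemma mono_of_open {A Y : AlgSp.Sp S} (j : A ⟶ Y)
    (hj : AlgSp.RepWith @IsOpenImmersion j) : Mono j :=
  Groth.Agent.S9928.mono_of_repWith @IsOpenImmersion
    (fun X Y g hg => by haveI : IsOpenImmersion g := hg; infer_instance) j hj

/-- an open subspace contained in another one is an open subspace of it. -/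
lemma factor_open {A B Y : AlgSp.Sp S} (j : A ⟶ Y) (hj : AlgSp.RepWith @IsOpenImmersion j)
    (k : B ⟶ Y) (hk : AlgSp.RepWith @IsOpenImmersion k)
    (h : Set.range (AlgSp.Points.map k) ⊆ Set.range (AlgSp.Points.map j)) :
    ∃ k' : B ⟶ A, k' ≫ j = k ∧ AlgSp.RepWith @IsOpenImmersion k' := by
  obtain ⟨k', rfl⟩ := (Groth.Agent.S10194.exists_factor_iff j hj k).2 h
  haveI := mono_of_open j hj
  exact ⟨k', rfl, MorphismProperty.of_isPullback (P := AlgSp.RepWith @IsOpenImmersion)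
    (isPullback_id_of_mono k' j) hk⟩

/-- a property local on the base for `Q`-coverings is stable under base change along
`Q`-morphisms. -/
lemma baseChange_of_local {Q P : MorphismProperty (AlgSp.Sp S)}
    (hid : ∀ A : AlgSp.Sp S, AlgSp.IsAlgSpace A → Q (𝟙 A))
    (hP : AlgSp.IsLocalOnBase (fun _ _ Y g => AlgSp.IsCover Q Y g) P)
    {X Y X' Y' : AlgSp.Sp S} (hX : AlgSp.IsAlgSpace X) (hY : AlgSp.IsAlgSpace Y)
    (hX' : AlgSp.IsAlgSpace X') (hY' : AlgSp.IsAlgSpace Y') (f : X ⟶ Y) (g : Y' ⟶ Y)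
    (f' : X' ⟶ Y') (g' : X' ⟶ X) (sq : IsPullback g' f' f g) (hg : Q g) (hf : P f) : P f' := by
  have hcov : AlgSp.IsCover Q (ι := Option PUnit.{u + 1}) (X := Y)
      (fun i => Option.rec (motive := fun _ => AlgSp.Sp S) Y (fun _ => Y') i)
      (fun i => Option.rec (motive := fun i =>
        (Option.rec (motive := fun _ => AlgSp.Sp S) Y (fun _ => Y') i : AlgSp.Sp S) ⟶ Y)
        (𝟙 Y) (fun _ => g) i) := by
    refine ⟨fun i => ?_, fun y => ⟨none, y, ?_⟩⟩
    · cases i with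
      | none => exact hid Y hY
      | some _ => exact hg
    · show AlgSp.Points.map (𝟙 Y) y = y
      rw [AlgSp.Points.map_id]
  have key := hP (ι := Option PUnit.{u + 1}) (Y := Y)
    (fun i => Option.rec (motive := fun _ => AlgSp.Sp S) Y (fun _ => Y') i)
    (fun i => Option.rec (motive := fun i =>
      (Option.rec (motive := fun _ => AlgSp.Sp S) Y (fun _ => Y') i : AlgSp.Sp S) ⟶ Y)
      (𝟙 Y) (fun _ => g) i) hY
    (fun i => by cases i with
      | none => exact hY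
      | some _ => exact hY') hcov f hX
    (fun i => Option.rec (motive := fun _ => AlgSp.Sp S) X (fun _ => X') i)
    (fun i => Option.rec (motive := fun i =>
      (Option.rec (motive := fun _ => AlgSp.Sp S) X (fun _ => X') i : AlgSp.Sp S) ⟶
      (Option.rec (motive := fun _ => AlgSp.Sp S) Y (fun _ => Y') i : AlgSp.Sp S))
      f (fun _ => f') i)
    (fun i => Option.rec (motive := fun i =>
      (Option.rec (motive := fun _ => AlgSp.Sp S) X (fun _ => X') i : AlgSp.Sp S) ⟶ X)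
      (𝟙 X) (fun _ => g') i)
    (fun i => by cases i with
      | none => exact hX
      | some _ => exact hX')
    (fun i => by cases i with
      | none => exact IsPullback.of_horiz_isIso ⟨by simp⟩
      | some _ => exact sq)
  exact key.1 hf (some PUnit.unit)

section Main

variable {Q P : MorphismProperty (AlgSp.Sp S)}

/-- the union of the opens over which `f` has `P` is such an open. -/
theorem hasOver_sSup (hQ : CovProp Q)
    (hP : AlgSp.IsLocalOnBase (fun _ _ Y g => AlgSp.IsCover Q Y g) P) {X Y : AlgSp.Space S}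
    (f : X ⟶ Y) :
    HasOver P f ((sSup {V : Opens (AlgSp.Points Y.obj) | HasOver P f V} :
      Opens (AlgSp.Points Y.obj)) : Set (AlgSp.Points Y.obj)) := by
  intro W₀ X₀ j₀ j₀' f₀ hj₀ hr₀ sq₀
  obtain ⟨U, p, hpe, hps⟩ := Y.property.atlas
  set W : Opens (AlgSp.Points Y.obj) := sSup {V : Opens (AlgSp.Points Y.obj) | HasOver P f V}
    with hWdef
  let ι : Type u := {u : ↥U.left // AlgSp.Points.ofPt p u ∈ W}
  have hch : ∀ i : ι, ∃ V : Opens (AlgSp.Points Y.obj),
      HasOver P f (V : Set (AlgSp.Points Y.obj)) ∧ AlgSp.Points.ofPt p i.1 ∈ V := by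
    intro i
    obtain ⟨V, hV, hiV⟩ := Opens.mem_sSup.1 i.2
    exact ⟨V, hV, hiV⟩
  choose V hV𝒱 hiV using hch
  let A : ι → AlgSp.Sp S := fun i => OpenSub.obj Y.obj (V i : Set (AlgSp.Points Y.obj))
  have hA : ∀ i, AlgSp.IsAlgSpace (A i) := fun i => OpenSub.isAlgSpace_obj Y.property (V i).2
  let jA : ∀ i, A i ⟶ Y.obj := fun i => OpenSub.incl Y.obj (V i : Set (AlgSp.Points Y.obj))
  have hjA : ∀ i, AlgSp.RepWith @IsOpenImmersion (jA i) := fun i => OpenSub.repWith_incl (V i).2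
  have hrA : ∀ i, Set.range (AlgSp.Points.map (jA i)) = (V i : Set (AlgSp.Points Y.obj)) :=
    fun i => OpenSub.range_map_incl _
  have hsub : ∀ i, Set.range (AlgSp.Points.map (jA i)) ⊆
      Set.range (AlgSp.Points.map j₀.hom) := by
    intro i
    rw [hrA, hr₀]
    exact fun x hx => Opens.mem_sSup.2 ⟨V i, hV𝒱 i, hx⟩
  have hk : ∀ i, ∃ k : A i ⟶ W₀.obj, k ≫ j₀.hom = jA i ∧ AlgSp.RepWith @IsOpenImmersion k :=
    fun i => factor_open j₀.hom hj₀ (jA i) (hjA i) (hsub i)
  choose k hkj hko using hk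
  have hinj : Function.Injective (AlgSp.Points.map j₀.hom) := injective_map_of_open _ hj₀
  have hcov : AlgSp.IsCover Q A k := by
    refine ⟨fun i => hQ.of_open (hA i) W₀.property (k i) (hko i), fun x => ?_⟩
    have hx : AlgSp.Points.map j₀.hom x ∈ W := by
      have h1 : AlgSp.Points.map j₀.hom x ∈ Set.range (AlgSp.Points.map j₀.hom) := ⟨x, rfl⟩
      rw [hr₀] at h1
      exact h1
    obtain ⟨u, hu⟩ := Groth.Agent.S10177.surjective_ofPt p hps (AlgSp.Points.map j₀.hom x)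
    let i : ι := ⟨u, by rw [hu]; exact hx⟩
    refine ⟨i, ?_⟩
    have h1 : AlgSp.Points.map j₀.hom x ∈ Set.range (AlgSp.Points.map (jA i)) := by
      rw [hrA, ← hu]; exact hiV i
    obtain ⟨a, ha⟩ := h1
    refine ⟨a, hinj ?_⟩
    rw [← AlgSp.Points.map_comp, hkj, ha]
  let Xi : ι → AlgSp.Sp S := fun i => pullback f₀.hom (k i)
  have hsq : ∀ i, IsPullback (pullback.fst f₀.hom (k i)) (pullback.snd f₀.hom (k i)) f₀.hom (k i) :=
    fun i => IsPullback.of_hasPullback _ _
  have hXi : ∀ i, AlgSp.IsAlgSpace (Xi i) := fun i =>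
    Groth.Agent.S9874.isAlgSpace_of_isPullback W₀.property.diag X₀.property (hA i) (hsq i)
  refine (hP A k W₀.property hA hcov f₀.hom X₀.property Xi (fun i => pullback.snd _ _)
    (fun i => pullback.fst _ _) hXi hsq).2 (fun i => ?_)
  have h2 := (hsq i).paste_horiz sq₀
  rw [hkj i] at h2
  exact hV𝒱 i ⟨A i, hA i⟩ ⟨Xi i, hXi i⟩ (ObjectProperty.homMk (jA i))
    (ObjectProperty.homMk (pullback.fst f₀.hom (k i) ≫ j₀'.hom))
    (ObjectProperty.homMk (pullback.snd f₀.hom (k i))) (hjA i) (hrA i) h2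

/-- the image of a `Q`-morphism whose base change has `P` is an open over which `f` has `P`. -/
theorem hasOver_range (hQ : CovProp Q)
    (hP : AlgSp.IsLocalOnBase (fun _ _ Y g => AlgSp.IsCover Q Y g) P) {X Y : AlgSp.Space S}
    (f : X ⟶ Y) (Y' X' : AlgSp.Space S) (g : Y' ⟶ Y) (g' : X' ⟶ X) (f' : X' ⟶ Y')
    (hg : Q g.hom) (sq : IsPullback g'.hom f'.hom f.hom g.hom) (hPf' : P f'.hom) :
    HasOver P f (Set.range (AlgSp.Points.map g.hom)) := by
  intro W₁ X₁ j₁ j₁' f₁ hj₁ hr₁ sq₁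
  obtain ⟨g₁, hg₁⟩ := (Groth.Agent.S10194.exists_factor_iff j₁.hom hj₁ g.hom).2 (by rw [hr₁])
  have hQg₁ : Q g₁ := hQ.cancel_open Y'.property W₁.property Y.property g₁ j₁.hom hj₁
    (by rw [hg₁]; exact hg)
  have hinj : Function.Injective (AlgSp.Points.map j₁.hom) := injective_map_of_open _ hj₁
  have hcov : AlgSp.IsCover Q (fun _ : PUnit.{u + 1} => Y'.obj) (fun _ => g₁) := by
    refine ⟨fun _ => hQg₁, fun x => ⟨PUnit.unit, ?_⟩⟩
    have hx : AlgSp.Points.map j₁.hom x ∈ Set.range (AlgSp.Points.map g.hom) := by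
      rw [← hr₁]; exact ⟨x, rfl⟩
    obtain ⟨y, hy⟩ := hx
    refine ⟨y, hinj ?_⟩
    rw [← AlgSp.Points.map_comp, hg₁, hy]
  have hw : g'.hom ≫ f.hom = (f'.hom ≫ g₁) ≫ j₁.hom := by
    rw [Category.assoc, hg₁]; exact sq.w
  obtain ⟨q, hq1, hq2⟩ : ∃ q : X'.obj ⟶ X₁.obj, q ≫ j₁'.hom = g'.hom ∧
      q ≫ f₁.hom = f'.hom ≫ g₁ :=
    ⟨sq₁.lift g'.hom (f'.hom ≫ g₁) hw, sq₁.lift_fst _ _ _, sq₁.lift_snd _ _ _⟩
  have sqL : IsPullback q f'.hom f₁.hom g₁ := by
    refine IsPullback.of_right ?_ hq2 sq₁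
    rw [hq1, hg₁]; exact sq
  exact (hP (fun _ : PUnit.{u + 1} => Y'.obj) (fun _ => g₁) W₁.property (fun _ => Y'.property)
    hcov f₁.hom X₁.property (fun _ => X'.obj) (fun _ => f'.hom) (fun _ => q)
    (fun _ => X'.property) (fun _ => sqL)).2 (fun _ => hPf')

/-- the largest open over which `f` has `P`, for `P` local on the base for `Q`-coverings. -/
theorem main (hQ : CovProp Q)
    (hP : AlgSp.IsLocalOnBase (fun _ _ Y g => AlgSp.IsCover Q Y g) P) {X Y : AlgSp.Space S}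
    (f : X ⟶ Y) :
    ∃ W : Opens (AlgSp.Points Y.obj),
      HasOver P f (W : Set (AlgSp.Points Y.obj)) ∧
      (∀ V : Opens (AlgSp.Points Y.obj), HasOver P f (V : Set (AlgSp.Points Y.obj)) → V ≤ W) ∧
      (∀ (Y' X' : AlgSp.Space S) (g : Y' ⟶ Y) (g' : X' ⟶ X) (f' : X' ⟶ Y'),
        Q g.hom → IsPullback g'.hom f'.hom f.hom g.hom → P f'.hom →
        Set.range (AlgSp.Points.map g.hom) ⊆ (W : Set (AlgSp.Points Y.obj))) ∧
      (∀ (Y' X' : AlgSp.Space S) (g : Y' ⟶ Y) (g' : X' ⟶ X) (f' : X' ⟶ Y'),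
        Q g.hom → IsPullback g'.hom f'.hom f.hom g.hom →
        ∀ W' : Opens (AlgSp.Points Y'.obj),
          HasOver P f' (W' : Set (AlgSp.Points Y'.obj)) →
          (∀ V' : Opens (AlgSp.Points Y'.obj),
            HasOver P f' (V' : Set (AlgSp.Points Y'.obj)) → V' ≤ W') →
          (W' : Set (AlgSp.Points Y'.obj)) =
            AlgSp.Points.map g.hom ⁻¹' (W : Set (AlgSp.Points Y.obj))) := by
  set W : Opens (AlgSp.Points Y.obj) := sSup {V : Opens (AlgSp.Points Y.obj) | HasOver P f V}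
    with hWdef
  have part1 : HasOver P f (W : Set (AlgSp.Points Y.obj)) := hasOver_sSup hQ hP f
  have part2 : ∀ V : Opens (AlgSp.Points Y.obj), HasOver P f (V : Set (AlgSp.Points Y.obj)) →
      V ≤ W := fun V hV => le_sSup hV
  have part3 : ∀ (Y' X' : AlgSp.Space S) (g : Y' ⟶ Y) (g' : X' ⟶ X) (f' : X' ⟶ Y'),
      Q g.hom → IsPullback g'.hom f'.hom f.hom g.hom → P f'.hom →
      Set.range (AlgSp.Points.map g.hom) ⊆ (W : Set (AlgSp.Points Y.obj)) := by
    intro Y' X' g g' f' hg sq hPf'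
    have hopen : IsOpen (Set.range (AlgSp.Points.map g.hom)) := by
      rw [← Set.image_univ]
      exact hQ.isOpenMap Y'.property Y.property g.hom hg _ isOpen_univ
    have h := part2 ⟨_, hopen⟩ (hasOver_range hQ hP f Y' X' g g' f' hg sq hPf')
    exact h
  have hid : ∀ A : AlgSp.Sp S, AlgSp.IsAlgSpace A → Q (𝟙 A) := fun A hA =>
    hQ.of_open hA hA (𝟙 A) (Groth.Agent.S9937.repWith_of_isIso @IsOpenImmersion (𝟙 A))
  refine ⟨W, part1, part2, part3, ?_⟩
  intro Y' X' g g' f' hg sq W' hW' hmax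
  apply Set.Subset.antisymm
  · intro y' hy'
    have hA' : AlgSp.IsAlgSpace (OpenSub.obj Y'.obj (W' : Set (AlgSp.Points Y'.obj))) :=
      OpenSub.isAlgSpace_obj Y'.property W'.2
    have hjA' : AlgSp.RepWith @IsOpenImmersion
        (OpenSub.incl Y'.obj (W' : Set (AlgSp.Points Y'.obj))) := OpenSub.repWith_incl W'.2
    have hrA' := OpenSub.range_map_incl (X := Y'.obj) (W' : Set (AlgSp.Points Y'.obj))
    have sq2' := IsPullback.of_hasPullback f'.hom
      (OpenSub.incl Y'.obj (W' : Set (AlgSp.Points Y'.obj)))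
    have hX₂ : AlgSp.IsAlgSpace (pullback f'.hom
        (OpenSub.incl Y'.obj (W' : Set (AlgSp.Points Y'.obj)))) :=
      Groth.Agent.S9874.isAlgSpace_of_isPullback Y'.property.diag X'.property hA' sq2'
    have hPs : P (pullback.snd f'.hom (OpenSub.incl Y'.obj (W' : Set (AlgSp.Points Y'.obj)))) :=
      hW' ⟨_, hA'⟩ ⟨_, hX₂⟩ (ObjectProperty.homMk (OpenSub.incl Y'.obj _))
        (ObjectProperty.homMk (pullback.fst f'.hom _)) (ObjectProperty.homMk (pullback.snd f'.hom _))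
        hjA' hrA' sq2'
    have hQ2 : Q (OpenSub.incl Y'.obj (W' : Set (AlgSp.Points Y'.obj)) ≫ g.hom) :=
      hQ.comp_open hA' Y'.property Y.property _ g.hom hjA' hg
    have sq2 := sq2'.paste_horiz sq
    have h3 := part3 ⟨_, hA'⟩ ⟨_, hX₂⟩
      (ObjectProperty.homMk (OpenSub.incl Y'.obj (W' : Set (AlgSp.Points Y'.obj)) ≫ g.hom))
      (ObjectProperty.homMk (pullback.fst f'.hom _ ≫ g'.hom))
      (ObjectProperty.homMk (pullback.snd f'.hom _)) hQ2 sq2 hPs
    have hy'' : y' ∈ Set.range (AlgSp.Points.map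
        (OpenSub.incl Y'.obj (W' : Set (AlgSp.Points Y'.obj)))) := by
      rw [hrA']; exact hy'
    obtain ⟨a, rfl⟩ := hy''
    rw [Set.mem_preimage, ← AlgSp.Points.map_comp]
    exact h3 ⟨a, rfl⟩
  · have hVo : IsOpen (AlgSp.Points.map g.hom ⁻¹' (W : Set (AlgSp.Points Y.obj))) :=
      W.2.preimage (AlgSp.Points.continuous_map g.hom)
    suffices hV' : HasOver P f' (AlgSp.Points.map g.hom ⁻¹' (W : Set (AlgSp.Points Y.obj))) from
      hmax ⟨_, hVo⟩ hV'
    intro W₃ X₃ j₃ j₃' f₃ hj₃ hr₃ sq₃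
    have hA : AlgSp.IsAlgSpace (OpenSub.obj Y.obj (W : Set (AlgSp.Points Y.obj))) :=
      OpenSub.isAlgSpace_obj Y.property W.2
    have hjA : AlgSp.RepWith @IsOpenImmersion
        (OpenSub.incl Y.obj (W : Set (AlgSp.Points Y.obj))) := OpenSub.repWith_incl W.2
    have hrA := OpenSub.range_map_incl (X := Y.obj) (W : Set (AlgSp.Points Y.obj))
    have sqA := IsPullback.of_hasPullback f.hom
      (OpenSub.incl Y.obj (W : Set (AlgSp.Points Y.obj)))
    have hXA : AlgSp.IsAlgSpace (pullback f.hom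
        (OpenSub.incl Y.obj (W : Set (AlgSp.Points Y.obj)))) :=
      Groth.Agent.S9874.isAlgSpace_of_isPullback Y.property.diag X.property hA sqA
    have hPA : P (pullback.snd f.hom (OpenSub.incl Y.obj (W : Set (AlgSp.Points Y.obj)))) :=
      part1 ⟨_, hA⟩ ⟨_, hXA⟩ (ObjectProperty.homMk (OpenSub.incl Y.obj _))
        (ObjectProperty.homMk (pullback.fst f.hom _)) (ObjectProperty.homMk (pullback.snd f.hom _))
        hjA hrA sqA
    have hsub : Set.range (AlgSp.Points.map (j₃.hom ≫ g.hom)) ⊆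
        Set.range (AlgSp.Points.map (OpenSub.incl Y.obj (W : Set (AlgSp.Points Y.obj)))) := by
      rw [hrA]
      rintro _ ⟨w, rfl⟩
      rw [AlgSp.Points.map_comp]
      have h1 : AlgSp.Points.map j₃.hom w ∈ Set.range (AlgSp.Points.map j₃.hom) := ⟨w, rfl⟩
      rw [hr₃] at h1
      exact h1
    obtain ⟨h, hh⟩ := (Groth.Agent.S10194.exists_factor_iff _ hjA (j₃.hom ≫ g.hom)).2 hsub
    have hQh : Q h := hQ.cancel_open W₃.property hA Y.property h _ hjA
      (by rw [hh]; exact hQ.comp_open W₃.property Y'.property Y.property j₃.hom g.hom hj₃ hg)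
    have hw : (j₃'.hom ≫ g'.hom) ≫ f.hom =
        (f₃.hom ≫ h) ≫ OpenSub.incl Y.obj (W : Set (AlgSp.Points Y.obj)) := by
      rw [Category.assoc, sq.w, ← Category.assoc, sq₃.w, Category.assoc, Category.assoc, hh]
    obtain ⟨q₃, hq1, hq2⟩ : ∃ q₃ : X₃.obj ⟶ pullback f.hom
        (OpenSub.incl Y.obj (W : Set (AlgSp.Points Y.obj))),
        q₃ ≫ pullback.fst f.hom _ = j₃'.hom ≫ g'.hom ∧
        q₃ ≫ pullback.snd f.hom _ = f₃.hom ≫ h :=
      ⟨sqA.lift (j₃'.hom ≫ g'.hom) (f₃.hom ≫ h) hw, sqA.lift_fst _ _ _, sqA.lift_snd _ _ _⟩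
    have sqL : IsPullback q₃ f₃.hom (pullback.snd f.hom
        (OpenSub.incl Y.obj (W : Set (AlgSp.Points Y.obj)))) h := by
      refine IsPullback.of_right ?_ hq2 sqA
      rw [hq1, hh]; exact sq₃.paste_horiz sq
    exact baseChange_of_local hid hP hXA hA X₃.property W₃.property _ h f₃.hom q₃ sqL hQh hPA

end Main

section Instances

lemma locP_precomp_repEtale (P : MorphismProperty Scheme.{u}) {A B C : AlgSp.Sp S} (j : A ⟶ B)
    (g : B ⟶ C) (hj : AlgSp.RepWith @Etale j) (hg : AlgSp.LocP P g) : AlgSp.LocP P (j ≫ g) := by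
  intro U V a b h ha hb hcomm
  exact hg (a ≫ j) b h ((AlgSp.RepWith @Etale).comp_mem _ _ ha hj) hb
    (by rw [Category.assoc]; exact hcomm)

lemma locP_cancel_repEtale (P : MorphismProperty Scheme.{u}) {A B C : AlgSp.Sp S} (h : A ⟶ B)
    (j : B ⟶ C) (hj : AlgSp.RepWith @Etale j) (hhj : AlgSp.LocP P (h ≫ j)) : AlgSp.LocP P h := by
  intro U V a b k ha hb hcomm
  exact hhj a (b ≫ j) k ha ((AlgSp.RepWith @Etale).comp_mem _ _ hb hj)
    (by rw [← Category.assoc, hcomm, Category.assoc])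

lemma locP_mono {P P' : MorphismProperty Scheme.{u}} (hPP' : P ≤ P') {A B : AlgSp.Sp S}
    {f : A ⟶ B} (hf : AlgSp.LocP P f) : AlgSp.LocP P' f :=
  fun _ _ a b h ha hb hcomm => hPP' _ (hf a b h ha hb hcomm)

theorem covProp_fppf : CovProp (S := S)
    (fun _ _ f => AlgSp.LocP @Flat f ∧ AlgSp.LocP @LocallyOfFinitePresentation f) where
  of_open _ _ j hj :=
    ⟨Groth.Agent.S9947.locP_of_repWith_etale @Flat
      (fun g hg => by haveI := hg; infer_instance) j
      (Groth.Agent.S10210.repWith_etale_of_isOpenImmersion hj),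
    Groth.Agent.S9947.locP_of_repWith_etale @LocallyOfFinitePresentation
      (fun g hg => by haveI := hg; infer_instance) j
      (Groth.Agent.S10210.repWith_etale_of_isOpenImmersion hj)⟩
  comp_open _ _ _ j g hj hg :=
    ⟨locP_precomp_repEtale _ j g (Groth.Agent.S10210.repWith_etale_of_isOpenImmersion hj) hg.1,
    locP_precomp_repEtale _ j g (Groth.Agent.S10210.repWith_etale_of_isOpenImmersion hj) hg.2⟩
  cancel_open _ _ _ h j hj hhj :=
    ⟨locP_cancel_repEtale _ h j (Groth.Agent.S10210.repWith_etale_of_isOpenImmersion hj) hhj.1,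
    locP_cancel_repEtale _ h j (Groth.Agent.S10210.repWith_etale_of_isOpenImmersion hj) hhj.2⟩
  isOpenMap hA hB g hg :=
    Groth.Agent.S9962.isUnivOpenMor_of_flat_lfp hA hB g hg.1 hg.2 hB (𝟙 _) (𝟙 _) g
      IsPullback.of_id_fst

theorem covProp_smooth : CovProp (S := S) (AlgSp.LocP @Smooth) where
  of_open _ _ j hj :=
    Groth.Agent.S9947.locP_of_repWith_etale @Smooth
      (fun g hg => by haveI := hg; infer_instance) j
      (Groth.Agent.S10210.repWith_etale_of_isOpenImmersion hj)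
  comp_open _ _ _ j g hj hg :=
    locP_precomp_repEtale _ j g (Groth.Agent.S10210.repWith_etale_of_isOpenImmersion hj) hg
  cancel_open _ _ _ h j hj hhj :=
    locP_cancel_repEtale _ h j (Groth.Agent.S10210.repWith_etale_of_isOpenImmersion hj) hhj
  isOpenMap hA hB g hg :=
    Groth.Agent.S9962.isUnivOpenMor_of_flat_lfp hA hB g
      (locP_mono (fun _ _ k hk => by haveI : Smooth k := hk; infer_instance) hg)
      (locP_mono (fun _ _ k hk => by haveI : Smooth k := hk; infer_instance) hg) hB (𝟙 _) (𝟙 _) g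
      IsPullback.of_id_fst

theorem covProp_etale : CovProp (S := S) AlgSp.IsEtaleMor where
  of_open _ _ j hj := fun U φ hφ =>
    (AlgSp.RepWith @Etale).comp_mem _ _ hφ (Groth.Agent.S10210.repWith_etale_of_isOpenImmersion hj)
  comp_open _ _ _ j g hj hg := fun U φ hφ => by
    rw [← Category.assoc]
    exact hg _ ((AlgSp.RepWith @Etale).comp_mem _ _ hφ
      (Groth.Agent.S10210.repWith_etale_of_isOpenImmersion hj))
  cancel_open hA hB _ h j hj hhj :=
    Groth.Agent.S10210.isEtaleMor_of_comp hA hB h j hhj (fun U φ hφ =>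
      (AlgSp.RepWith @Etale).comp_mem _ _ hφ
        (Groth.Agent.S10210.repWith_etale_of_isOpenImmersion hj))
  isOpenMap hA _ g hg := Groth.Agent.S10211.isOpenMap_map_of_isEtaleMor hA g hg

end Instances

end Groth.Agent.Lib.Helper12.LargestOpen
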