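import Mathlib
import Groth.Agent.Lib.Helper12LargestOpen
import Groth.Agent.S9908
import Groth.Agent.S9922
import Groth.Agent.S9906
import Groth.Prelude.Def_AlgSpInf

set_option autoImplicit false
universe u
open CategoryTheory CategoryTheory.Limits AlgebraicGeometry Opposite TopologicalSpace
open AlgSp

namespace Groth.Agent.Lib.Helper12.OpenSub

variable {S : Scheme.{u}}

lemma repWith_mono {P P' : MorphismProperty Scheme.{u}} (h : P ≤ P') {F G : AlgSp.Sp S}
    {f : F ⟶ G} (hf : AlgSp.RepWith P f) : AlgSp.RepWith P' f :=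
  ⟨hf.1, fun _ _ g fst snd BC => h _ (hf.2 g fst snd BC)⟩

lemma isOpenMap_map_of_open {A Y : AlgSp.Sp S} (j : A ⟶ Y)
    (hj : AlgSp.RepWith @IsOpenImmersion j) : IsOpenMap (AlgSp.Points.map j) :=
  Groth.Agent.S9908.isOpenMap_map_of_repWith j
    (repWith_mono (fun _ _ g hg => by haveI : IsOpenImmersion g := hg; infer_instance) hj)

lemma isOpen_range_of_open {A Y : AlgSp.Sp S} (j : A ⟶ Y)
    (hj : AlgSp.RepWith @IsOpenImmersion j) : IsOpen (Set.range (AlgSp.Points.map j)) := by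
  rw [← Set.image_univ]
  exact isOpenMap_map_of_open j hj _ isOpen_univ

/-- the image of the first projection of a fibre product. -/
lemma range_map_fst_of_isPullback {X Y Z P : AlgSp.Sp S} {f : X ⟶ Y} {g : Z ⟶ Y} {fst : P ⟶ X}
    {snd : P ⟶ Z} (sq : IsPullback fst snd f g) :
    Set.range (AlgSp.Points.map fst) =
      AlgSp.Points.map f ⁻¹' Set.range (AlgSp.Points.map g) := by
  ext x
  constructor
  · rintro ⟨p, rfl⟩
    refine ⟨AlgSp.Points.map snd p, ?_⟩
    rw [← AlgSp.Points.map_comp, ← sq.w, AlgSp.Points.map_comp]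
  · rintro ⟨z, hz⟩
    obtain ⟨p, hp1, -⟩ := Groth.Agent.S10175.exists_point_of_isPullback sq x z hz.symm
    exact ⟨p, hp1⟩

/-- open subspaces with the same points are isomorphic. -/
lemma iso_of_range_eq {A B Y : AlgSp.Sp S} (j : A ⟶ Y) (hj : AlgSp.RepWith @IsOpenImmersion j)
    (k : B ⟶ Y) (hk : AlgSp.RepWith @IsOpenImmersion k)
    (h : Set.range (AlgSp.Points.map j) = Set.range (AlgSp.Points.map k)) :
    ∃ e : A ≅ B, e.hom ≫ k = j := by
  obtain ⟨a, ha⟩ := (Groth.Agent.S10194.exists_factor_iff k hk j).2 h.le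
  obtain ⟨b, hb⟩ := (Groth.Agent.S10194.exists_factor_iff j hj k).2 h.ge
  haveI := LargestOpen.mono_of_open j hj
  haveI := LargestOpen.mono_of_open k hk
  refine ⟨⟨a, b, ?_, ?_⟩, ha⟩
  · rw [← cancel_mono j, Category.assoc, hb, ha, Category.id_comp]
  · rw [← cancel_mono k, Category.assoc, ha, hb, Category.id_comp]

/-- a thickening is bijective and open on points. -/
lemma thick_points {X X' : AlgSp.Sp S} (i : X ⟶ X') (hi : AlgSp.IsThickMor i) :
    Function.Bijective (AlgSp.Points.map i) ∧ IsOpenMap (AlgSp.Points.map i) := by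
  have hinj : Function.Injective (AlgSp.Points.map i) :=
    Groth.Agent.S10301.injective_map_of_repWith (P := AlgSp.thick)
      (fun _ _ g hg => by
        haveI : IsClosedImmersion g := hg.1
        exact g.isClosedEmbedding.injective) i hi
  have hsurj : Function.Surjective (AlgSp.Points.map i) :=
    Groth.Agent.S9906.surjective_map_of_repWith i (repWith_mono (fun _ _ g hg => hg.2) hi)
  have hcl : IsClosedMap (AlgSp.Points.map i) :=
    Groth.Agent.S9922.isClosedMap_map_of_repWith i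
      (repWith_mono (fun _ _ g hg => by
        haveI : IsClosedImmersion g := hg.1
        infer_instance) hi)
  refine ⟨⟨hinj, hsurj⟩, fun A hA => ?_⟩
  have e : AlgSp.Points.map i '' A = (AlgSp.Points.map i '' Aᶜ)ᶜ := by
    rw [Set.image_compl_eq ⟨hinj, hsurj⟩, compl_compl]
  rw [e, isOpen_compl_iff]
  exact hcl _ hA.isClosed_compl

/-- open subspaces lift uniquely along thickenings. -/
theorem exists_open_of_thick {X X' U : AlgSp.Sp S}
    (hX' : AlgSp.IsAlgSpace X') (i : X ⟶ X') (hi : AlgSp.IsThickMor i)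
    (u : U ⟶ X) (hu : AlgSp.RepWith @IsOpenImmersion u) :
    ∃ (U' : AlgSp.Sp S) (u' : U' ⟶ X') (k : U ⟶ U'), AlgSp.IsAlgSpace U' ∧
      AlgSp.RepWith @IsOpenImmersion u' ∧ IsPullback u k i u' := by
  obtain ⟨⟨hinj, hsurj⟩, hopen⟩ := thick_points i hi
  have hW' : IsOpen (AlgSp.Points.map i '' Set.range (AlgSp.Points.map u)) :=
    hopen _ (isOpen_range_of_open u hu)
  have hU' := isAlgSpace_obj hX' hW'
  have hu' := repWith_incl (X := X') hW'
  have hr' := range_map_incl (X := X') (AlgSp.Points.map i '' Set.range (AlgSp.Points.map u))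
  have sq := IsPullback.of_hasPullback i
    (incl X' (AlgSp.Points.map i '' Set.range (AlgSp.Points.map u)))
  have hfst : AlgSp.RepWith @IsOpenImmersion (pullback.fst i
      (incl X' (AlgSp.Points.map i '' Set.range (AlgSp.Points.map u)))) :=
    MorphismProperty.of_isPullback (P := AlgSp.RepWith @IsOpenImmersion) sq.flip hu'
  have hrange : Set.range (AlgSp.Points.map u) = Set.range (AlgSp.Points.map (pullback.fst i
      (incl X' (AlgSp.Points.map i '' Set.range (AlgSp.Points.map u))))) := by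
    rw [range_map_fst_of_isPullback sq, hr', Set.preimage_image_eq _ hinj]
  obtain ⟨e, he⟩ := iso_of_range_eq u hu _ hfst hrange
  refine ⟨_, incl X' _, e.hom ≫ pullback.snd _ _, hU', hu', ?_⟩
  refine IsPullback.of_iso sq e.symm (Iso.refl _) (Iso.refl _) (Iso.refl _) ?_ ?_ ?_ ?_
  · rw [Iso.refl_hom, Category.comp_id, Iso.symm_hom]
    exact (Iso.eq_inv_comp e).2 he
  · rw [Iso.refl_hom, Category.comp_id, Iso.symm_hom, Iso.inv_hom_id_assoc]
  · simp
  · simp

theorem iso_of_thick {X X' U U₁ U₂ : AlgSp.Sp S} (i : X ⟶ X') (hi : AlgSp.IsThickMor i)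
    (u : U ⟶ X) (u₁ : U₁ ⟶ X') (u₂ : U₂ ⟶ X') (k₁ : U ⟶ U₁) (k₂ : U ⟶ U₂)
    (h₁ : AlgSp.RepWith @IsOpenImmersion u₁) (sq₁ : IsPullback u k₁ i u₁)
    (h₂ : AlgSp.RepWith @IsOpenImmersion u₂) (sq₂ : IsPullback u k₂ i u₂) :
    ∃ e : U₁ ≅ U₂, e.hom ≫ u₂ = u₁ := by
  obtain ⟨⟨hinj, hsurj⟩, -⟩ := thick_points i hi
  have key : ∀ {V : AlgSp.Sp S} (v : V ⟶ X') (k : U ⟶ V), IsPullback u k i v →
      Set.range (AlgSp.Points.map v) = AlgSp.Points.map i '' Set.range (AlgSp.Points.map u) := by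
    intro V v k sq
    rw [range_map_fst_of_isPullback sq, Set.image_preimage_eq _ hsurj]
  exact iso_of_range_eq u₁ h₁ u₂ h₂ ((key u₁ k₁ sq₁).trans (key u₂ k₂ sq₂).symm)

end Groth.Agent.Lib.Helper12.OpenSub
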