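import Mathlib
import Groth.Prelude.Def_AlgSp
import Groth.Agent.S13210
import Groth.Agent.Lib.Helper12ZarGlue
import Groth.Agent.Lib.Helper12Torsor
import Groth.Agent.Lib.Helper12QuotSh

set_option autoImplicit false
universe u
open CategoryTheory CategoryTheory.Limits AlgebraicGeometry Opposite
open AlgSp

namespace Groth.Agent.Lib.Helper12.EpiDescent

open Groth.Agent.S13210

variable {S : Scheme.{u}}

/-- an epimorphism of fppf sheaves admits local lifts of `h_T`-valued points over an fppf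
covering of `T`. -/
theorem exists_cover_of_epi {A F : AlgSp.Sp S} (c : A ⟶ F) [Epi c] {T : Over S}
    (g : (AlgSp.yon S).obj T ⟶ F) :
    ∃ R ∈ Scheme.fppfPrecoverage T.left, ∀ ⦃V : Scheme.{u}⦄ (g' : V ⟶ T.left), R g' →
      ∃ l : (AlgSp.yon S).obj (Over.mk (g' ≫ T.hom)) ⟶ A,
        l ≫ c = (AlgSp.yon S).map (Over.homMk g' rfl : Over.mk (g' ≫ T.hom) ⟶ T) ≫ g := by
  have h1 : Sheaf.IsLocallySurjective c := (Sheaf.isLocallySurjective_iff_epi _).mpr inferInstance
  have h3 := Presheaf.imageSieve_mem (AlgSp.J S) c.hom (yEquiv T F g)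
  rw [GrothendieckTopology.mem_over_iff,
    Precoverage.mem_toGrothendieck_iff_of_isStableUnderComposition] at h3
  obtain ⟨R, hR, hle⟩ := h3
  refine ⟨R, hR, fun V g' hg' => ?_⟩
  have h4 := hle _ _ hg'
  rw [Sieve.overEquiv_iff] at h4
  obtain ⟨t, ht⟩ := h4
  refine ⟨(yEquiv _ A).symm t, ?_⟩
  apply (yEquiv _ F).injective
  rw [yEquiv_comp, Equiv.apply_symm_apply, ← ZarGlue.map_yEquiv]
  exact ht

/-- **Descent of `RepWith P` along an epimorphism of sheaves**: if `p` is representable and its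
base change along an epimorphism `c` of fppf sheaves has `P` (in the representable sense), where
`P` is fpqc local on the target, then `p` has `P`. -/
theorem repWith_of_epi (P : MorphismProperty Scheme.{u}) [IsZariskiLocalAtTarget P]
    [P.IsStableUnderBaseChange]
    (hP : P.DescendsAlong (@Surjective ⊓ @Flat ⊓ @QuasiCompact : MorphismProperty Scheme.{u}))
    {A A' F B : AlgSp.Sp S} (p : A ⟶ F) (c : A' ⟶ F) [Epi c] (hrep : AlgSp.Representable p)
    {p'' : B ⟶ A} {p' : B ⟶ A'} (sqc : IsPullback p'' p' p c) (hp' : AlgSp.RepWith P p') :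
    AlgSp.RepWith P p := by
  haveI : P.RespectsIso := MorphismProperty.IsStableUnderBaseChange.respectsIso
  refine ⟨hrep, fun T W g fst snd sq => ?_⟩
  obtain ⟨R, hR, hl⟩ := exists_cover_of_epi c g
  refine Groth.Agent.Lib.Helper12.of_mem_fpqcPrecoverage hP snd.left R
    (Scheme.fppfPrecoverage_le_fpqcPrecoverage _ hR) (fun V g' hg' => ?_)
  obtain ⟨l, hl⟩ : ∃ l : (AlgSp.yon S).obj (Over.mk (g' ≫ T.hom)) ⟶ A',
      l ≫ c = (AlgSp.yon S).map (Over.homMk g' rfl : Over.mk (g' ≫ T.hom) ⟶ T) ≫ g := hl g' hg'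
  obtain ⟨h, hh, hhl⟩ : ∃ h : Over.mk (g' ≫ T.hom) ⟶ T, h = Over.homMk g' rfl ∧ h.left = g' :=
    ⟨_, rfl, rfl⟩
  rw [← hh] at hl
  have hpb : IsPullback (pullback.fst snd h) (pullback.snd snd h) snd h :=
    IsPullback.of_hasPullback snd h
  have hpbY := hpb.map (AlgSp.yon S)
  have big : IsPullback ((AlgSp.yon S).map (pullback.fst snd h) ≫ fst)
      ((AlgSp.yon S).map (pullback.snd snd h)) p ((AlgSp.yon S).map h ≫ g) :=
    hpbY.paste_horiz sq
  rw [← hl] at big
  have comm : ((AlgSp.yon S).map (pullback.fst snd h) ≫ fst) ≫ p =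
      ((AlgSp.yon S).map (pullback.snd snd h) ≫ l) ≫ c := by
    rw [Category.assoc, Category.assoc]; exact big.w
  obtain ⟨k, hk1, hk2⟩ : ∃ k, k ≫ p'' = (AlgSp.yon S).map (pullback.fst snd h) ≫ fst ∧
      k ≫ p' = (AlgSp.yon S).map (pullback.snd snd h) ≫ l :=
    ⟨sqc.lift _ _ comm, sqc.lift_fst _ _ comm, sqc.lift_snd _ _ comm⟩
  rw [← hk1] at big
  have left : IsPullback k ((AlgSp.yon S).map (pullback.snd snd h)) p' l :=
    IsPullback.of_right big hk2 sqc
  have hP1 : P (pullback.snd snd h).left := hp'.2 l k (pullback.snd snd h) left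
  have hpbL := hpb.map (Over.forget S)
  simp only [Over.forget_obj, Over.forget_map] at hpbL
  rw [hhl] at hpbL
  have e : pullback.snd snd.left g' = hpbL.isoPullback.inv ≫ (pullback.snd snd h).left := by
    rw [IsPullback.isoPullback_inv_snd]
  rw [e]
  exact (P.cancel_left_of_respectsIso _ _).2 hP1

end Groth.Agent.Lib.Helper12.EpiDescent
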