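import Mathlib.CategoryTheory.EquivalenceRelation
import Mathlib.CategoryTheory.Limits.FunctorCategory.Basic
import Mathlib.CategoryTheory.Limits.Types.Coequalizers
import Mathlib.CategoryTheory.Limits.Types.Pullbacks
import Mathlib.CategoryTheory.Limits.Shapes.KernelPair
import Mathlib.CategoryTheory.Limits.Preserves.Shapes.Equalizers
import Mathlib.CategoryTheory.Limits.Preserves.Shapes.BinaryProducts
import Mathlib.CategoryTheory.Limits.Constructions.EpiMono
import Mathlib.CategoryTheory.Functor.RegularEpi
import Mathlib.CategoryTheory.Limits.Types.Pushouts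
import Mathlib.CategoryTheory.Limits.Types.Colimits
import Mathlib.CategoryTheory.Limits.Types.Limits
import Mathlib.CategoryTheory.Sites.Sheafification
import Mathlib.CategoryTheory.Sites.Limits
import Mathlib.CategoryTheory.Sites.LocallySurjective
import Mathlib.CategoryTheory.Sites.RegularEpi

set_option autoImplicit false

namespace Groth.Agent.Lib.Helper9

open CategoryTheory Limits

universe w v₁ u₁

section Types

variable {R X Q : Type w} {p₁ p₂ : R ⟶ X}

lemma types_rel_of_isColimit (e : EquivalenceRelation p₁ p₂) (π : X ⟶ Q) (w : p₁ ≫ π = p₂ ≫ π)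
    (h : IsColimit (Cofork.ofπ π w)) (x y : X) (hxy : π x = π y) :
    ∃ r : R, p₁ r = x ∧ p₂ r = y := by
  have heq := TypeCat.equivalence_of_equivalenceRelation e
  let i := h.coconePointUniqueUpToIso (Types.coequalizerColimit p₁ p₂).isColimit
  have hi : ∀ z, i.hom (π z) = Function.Coequalizer.mk p₁ p₂ z := by
    intro z
    have := h.comp_coconePointUniqueUpToIso_hom (Types.coequalizerColimit p₁ p₂).isColimit
      WalkingParallelPair.one
    exact ConcreteCategory.congr_hom this z
  have h1 : Function.Coequalizer.mk p₁ p₂ x = Function.Coequalizer.mk p₁ p₂ y := by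
    rw [← hi, ← hi, hxy]
  have h2 := Quot.eqvGen_exact h1
  have h3 : ∀ a b, Function.Coequalizer.Rel p₁ p₂ a b → TypeCat.Rel.ofPair p₁ p₂ a b := by
    rintro _ _ ⟨r⟩
    exact ⟨r, rfl, rfl⟩
  exact (heq.eqvGen_iff).1 (Relation.EqvGen.mono h3 _ _ h2)

lemma types_isKernelPair_of_isColimit (e : EquivalenceRelation p₁ p₂) (π : X ⟶ Q)
    (w : p₁ ≫ π = p₂ ≫ π) (h : IsColimit (Cofork.ofπ π w)) : IsKernelPair π p₁ p₂ := by
  change IsPullback p₁ p₂ π π
  rw [Types.isPullback_iff]
  refine ⟨w, ?_, fun x y hxy => types_rel_of_isColimit e π w h x y hxy⟩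
  rintro r r' ⟨h1, h2⟩
  have := e.right_cancellation (Y := PUnit) (↾(fun _ => r)) (↾(fun _ => r'))
    (by ext; exact h1) (by ext; exact h2)
  exact ConcreteCategory.congr_hom this PUnit.unit

end Types

section General

variable {D : Type*} [Category* D] {E : Type*} [Category* E] (F : D ⥤ E)
  {R X : D} (p₁ p₂ : R ⟶ X)

lemma jointlyMono₂_of_mono_lift [HasBinaryProduct X X] [Mono (prod.lift p₁ p₂)] :
    JointlyMono₂ p₁ p₂ where
  right_cancellation Y f g h₁ h₂ := by
    rw [← cancel_mono (prod.lift p₁ p₂)]
    ext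
    · rw [Category.assoc, Category.assoc, prod.lift_fst]
      exact h₁
    · rw [Category.assoc, Category.assoc, prod.lift_snd]
      exact h₂

lemma mono_lift_of_jointlyMono₂ [HasBinaryProduct X X] [JointlyMono₂ p₁ p₂] :
    Mono (prod.lift p₁ p₂) where
  right_cancellation f g h := by
    apply JointlyMono₂.right_cancellation (p₁ := p₁) (p₂ := p₂)
    · have := h =≫ prod.fst
      simp only [Category.assoc, prod.lift_fst] at this
      exact this
    · have := h =≫ prod.snd
      simp only [Category.assoc, prod.lift_snd] at this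
      exact this

lemma jointlyMono₂_map [HasBinaryProduct X X] [HasBinaryProduct (F.obj X) (F.obj X)]
    [PreservesLimit (pair X X) F]
    [PreservesLimit (cospan (prod.lift p₁ p₂) (prod.lift p₁ p₂)) F] [JointlyMono₂ p₁ p₂] :
    JointlyMono₂ (F.map p₁) (F.map p₂) where
  right_cancellation Y f g h₁ h₂ := by
    have := mono_lift_of_jointlyMono₂ p₁ p₂
    have : Mono (F.map (prod.lift p₁ p₂)) := preserves_mono_of_preservesLimit F _
    rw [← cancel_mono (F.map (prod.lift p₁ p₂)), ← cancel_mono (prodComparison F X X)]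
    ext
    · simp only [Category.assoc, prodComparison_fst, ← F.map_comp, prod.lift_fst]
      exact h₁
    · simp only [Category.assoc, prodComparison_snd, ← F.map_comp, prod.lift_snd]
      exact h₂

/-- Image of an equivalence relation under a functor preserving the relevant limits. -/
noncomputable def equivalenceRelationMap (e : EquivalenceRelation p₁ p₂)
    [JointlyMono₂ (F.map p₁) (F.map p₂)] [PreservesLimitsOfShape WalkingCospan F] :
    EquivalenceRelation (F.map p₁) (F.map p₂) :=
  { e.toReflexiveRelation.map F, e.toSymmetricRelation.map F, e.toTransitiveRelation.map F with }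

variable {p₁ p₂}

lemma isPushout_of_isColimit_of_reflexive {Q : D} (r : X ⟶ R) (h₁ : r ≫ p₁ = 𝟙 X)
    (h₂ : r ≫ p₂ = 𝟙 X) (π : X ⟶ Q) (w : p₁ ≫ π = p₂ ≫ π)
    (h : IsColimit (Cofork.ofπ π w)) : IsPushout p₁ p₂ π π := by
  have key : ∀ s : PushoutCocone p₁ p₂, s.inl = s.inr := fun s => by
    have := r ≫= s.condition
    rwa [reassoc_of% h₁, reassoc_of% h₂] at this
  refine ⟨⟨w⟩, ⟨PushoutCocone.IsColimit.mk _
    (fun s => Cofork.IsColimit.desc h s.inl (by rw [s.condition, key s])) ?_ ?_ ?_⟩⟩
  · intro s
    exact Cofork.IsColimit.π_desc' h _ _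
  · intro s
    exact (Cofork.IsColimit.π_desc' h _ _).trans (key s)
  · intro s m hm _
    apply Cofork.IsColimit.hom_ext h
    rw [Cofork.IsColimit.π_desc' h]
    exact hm

end General

section Presheaf

variable {C : Type u₁} [Category.{v₁} C] {R X : C ⥤ Type w} {p₁ p₂ : R ⟶ X}

lemma functor_isKernelPair_of_isColimit (e : EquivalenceRelation p₁ p₂) {Q : C ⥤ Type w}
    (π : X ⟶ Q) (w' : p₁ ≫ π = p₂ ≫ π) (h : IsColimit (Cofork.ofπ π w')) :
    IsKernelPair π p₁ p₂ := by
  apply IsPullback.of_forall_isPullback_app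
  intro U
  have : JointlyMono₂ p₁ p₂ := e.toReflexiveRelation.toJointlyMono₂
  have : JointlyMono₂ (((evaluation C (Type w)).obj U).map p₁)
      (((evaluation C (Type w)).obj U).map p₂) := jointlyMono₂_map _ p₁ p₂
  let eU := equivalenceRelationMap ((evaluation C (Type w)).obj U) p₁ p₂ e
  have hU := isColimitCoforkMapOfIsColimit ((evaluation C (Type w)).obj U) w' h
  exact types_isKernelPair_of_isColimit eU (π.app U) _ hU

lemma functor_universally_effectiveEpi {X Q : C ⥤ Type w} (π : X ⟶ Q) [Epi π] :
    MorphismProperty.universally (fun _ _ f => EffectiveEpi f) π := by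
  intro X' Y' i₁ i₂ f' hpb
  suffices Epi f' by
    have := IsRegularEpiCategory.regularEpiOfEpi f'
    infer_instance
  rw [NatTrans.epi_iff_epi_app]
  intro U
  rw [epi_iff_surjective]
  intro y'
  have hU := hpb.app U
  have : Epi (π.app U) := (NatTrans.epi_iff_epi_app π).1 inferInstance U
  obtain ⟨x, hx⟩ := (epi_iff_surjective _).1 this (i₂.app U y')
  obtain ⟨x', hx', -⟩ := Types.exists_of_isPullback hU y' x hx.symm
  exact ⟨x', hx'⟩

/-- Equivalence relations in presheaf categories of types are universally effective. -/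
noncomputable def functorUniversallyEffective (e : EquivalenceRelation p₁ p₂) :
    UniversallyEffectiveEquivalenceRelation p₁ p₂ where
  __ := e
  B := coequalizer p₁ p₂
  π := coequalizer.π p₁ p₂
  isKernelPair := functor_isKernelPair_of_isColimit e _ (coequalizer.condition p₁ p₂)
    (coequalizerIsCoequalizer p₁ p₂)
  isPushout := isPushout_of_isColimit_of_reflexive e.r e.reflexivity₁ e.reflexivity₂ _
    (coequalizer.condition p₁ p₂) (coequalizerIsCoequalizer p₁ p₂)
  universally_effectiveEpi_π := functor_universally_effectiveEpi _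

end Presheaf

section Sheaf

variable {C : Type u₁} [Category.{v₁} C] (J : GrothendieckTopology C)

/-- Base change of a locally surjective morphism of sheaves of types is locally surjective. -/
lemma isLocallySurjective_of_isPullback {X' Y' X Y : Sheaf J (Type w)} {f' : X' ⟶ Y'}
    {i₁ : X' ⟶ X} {i₂ : Y' ⟶ Y} {f : X ⟶ Y} (h : IsPullback f' i₁ i₂ f)
    [Sheaf.IsLocallySurjective f] : Sheaf.IsLocallySurjective f' where
  imageSieve_mem {U} y' := by
    refine J.superset_covering ?_ (Presheaf.imageSieve_mem J f.hom (i₂.hom.app _ y'))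
    intro V g hg
    obtain ⟨x, hx⟩ := hg
    have hV := ((h.map (sheafToPresheaf J (Type w))).app (Opposite.op V))
    have hx' : i₂.hom.app (Opposite.op V) (Y'.obj.map g.op y') = f.hom.app (Opposite.op V) x := by
      rw [hx]
      exact NatTrans.naturality_apply i₂.hom g.op y'
    obtain ⟨x', hx'', -⟩ := Types.exists_of_isPullback hV (Y'.obj.map g.op y') x hx'
    exact ⟨x', hx''⟩

variable [HasSheafify J (Type w)]

lemma epi_of_isPullback_sheaf {X' Y' X Y : Sheaf J (Type w)} {f' : X' ⟶ Y'}
    {i₁ : X' ⟶ X} {i₂ : Y' ⟶ Y} {f : X ⟶ Y} (h : IsPullback f' i₁ i₂ f) [Epi f] : Epi f' := by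
  have : Sheaf.IsLocallySurjective f := (Sheaf.isLocallySurjective_iff_epi f).2 inferInstance
  have := isLocallySurjective_of_isPullback J h
  exact (Sheaf.isLocallySurjective_iff_epi f').1 inferInstance

lemma sheaf_universally_effectiveEpi {X Y : Sheaf J (Type w)} (f : X ⟶ Y) [Epi f] :
    MorphismProperty.universally (fun (A B : Sheaf J (Type w)) (p : A ⟶ B) => EffectiveEpi p) f := by
  intro X' Y' i₁ i₂ f' hpb
  have : Epi f' := epi_of_isPullback_sheaf J hpb
  have := IsRegularEpiCategory.regularEpiOfEpi f'
  infer_instance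

section Eff

variable {R X : Sheaf J (Type w)} {p₁ p₂ : R ⟶ X}

/-- Equivalence relations in sheaves of types are universally effective. -/
noncomputable def sheafUniversallyEffective (e : EquivalenceRelation p₁ p₂) :
    UniversallyEffectiveEquivalenceRelation p₁ p₂ := by
  have : JointlyMono₂ p₁ p₂ := e.toReflexiveRelation.toJointlyMono₂
  have : JointlyMono₂ ((sheafToPresheaf J (Type w)).map p₁) ((sheafToPresheaf J (Type w)).map p₂) :=
    jointlyMono₂_map _ p₁ p₂
  let e' := equivalenceRelationMap (sheafToPresheaf J (Type w)) p₁ p₂ e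
  let u := functorUniversallyEffective e'
  let ε := asIso ((sheafificationAdjunction J (Type w)).counit)
  have nat : ∀ {A B : Sheaf J (Type w)} (f : A ⟶ B),
      (presheafToSheaf J (Type w)).map ((sheafToPresheaf J (Type w)).map f) ≫ (ε.app B).hom =
        (ε.app A).hom ≫ f := fun f => (sheafificationAdjunction J (Type w)).counit.naturality f
  have hpb : IsPullback p₁ p₂ ((ε.app X).inv ≫ (presheafToSheaf J (Type w)).map u.π)
      ((ε.app X).inv ≫ (presheafToSheaf J (Type w)).map u.π) :=
    (u.isKernelPair.map (presheafToSheaf J (Type w))).of_iso (ε.app R) (ε.app X) (ε.app X)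
      (Iso.refl _) (nat p₁) (nat p₂) (by simp) (by simp)
  have hpo : IsPushout p₁ p₂ ((ε.app X).inv ≫ (presheafToSheaf J (Type w)).map u.π)
      ((ε.app X).inv ≫ (presheafToSheaf J (Type w)).map u.π) :=
    (u.isPushout.map (presheafToSheaf J (Type w))).of_iso (ε.app R) (ε.app X) (ε.app X)
      (Iso.refl _) (nat p₁) (nat p₂) (by simp) (by simp)
  have : Epi ((ε.app X).inv ≫ (presheafToSheaf J (Type w)).map u.π) :=
    epi_of_isColimit_cofork hpo.isLimitFork
  exact
    { __ := e
      B := (presheafToSheaf J (Type w)).obj u.B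
      π := (ε.app X).inv ≫ (presheafToSheaf J (Type w)).map u.π
      isKernelPair := hpb
      isPushout := hpo
      universally_effectiveEpi_π := sheaf_universally_effectiveEpi J _ }

/-- In sheaves of types, an equivalence relation is the kernel pair of any of its coequalizers. -/
lemma sheaf_isKernelPair_of_isColimit (e : EquivalenceRelation p₁ p₂) {Q : Sheaf J (Type w)}
    (π : X ⟶ Q) (w' : p₁ ≫ π = p₂ ≫ π) (h : IsColimit (Cofork.ofπ π w')) :
    IsKernelPair π p₁ p₂ := by
  let u := sheafUniversallyEffective J e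
  let h' := u.isPushout.isLimitFork
  let φ := h'.coconePointUniqueUpToIso h
  have hφ : u.π ≫ φ.hom = π := h'.comp_coconePointUniqueUpToIso_hom h WalkingParallelPair.one
  rw [← hφ]
  exact u.isKernelPair.comp_of_mono

end Eff

end Sheaf

end Groth.Agent.Lib.Helper9
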