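import Mathlib

/-!
# Coproducts in sheaf topoi are van Kampen (disjoint and universal)

* `types_isVanKampenColimit_discrete`: every colimit cocone over a discrete diagram of types is
  van Kampen.
* `functor_isVanKampenColimit_discrete`: the same in presheaf categories `K ⥤ Type u`.
* `sheaf_isVanKampenColimit_discrete`: the same in `Sheaf J (Type u)`.
-/

namespace Groth.Agent.Lib.Helper9

open CategoryTheory Limits

universe u w v₁ u₁

section Types

variable {ι : Type w}

lemma types_discrete_ι_injective {F : Discrete ι ⥤ Type u} {c : Cocone F} (hc : IsColimit c)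
    (j : Discrete ι) : Function.Injective (c.ι.app j) := by
  classical
  let t : Cocone F :=
    { pt := Option (F.obj j)
      ι := Discrete.natTrans fun k =>
        if h : k = j then TypeCat.ofHom (fun x => some (h ▸ x)) else TypeCat.ofHom (fun _ => none) }
  intro x y hxy
  have h1 : ∀ z : F.obj j, (hc.desc t) (c.ι.app j z) = some z := by
    intro z
    have := ConcreteCategory.congr_hom (hc.fac t j) z
    simp only [ConcreteCategory.comp_apply] at this
    rw [this]
    simp [t]
  have := congrArg (hc.desc t) hxy
  rw [h1, h1] at this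
  exact Option.some_injective _ this

lemma types_discrete_ι_eq {F : Discrete ι ⥤ Type u} {c : Cocone F} (hc : IsColimit c)
    {j k : Discrete ι} (x : F.obj j) (y : F.obj k) (hxy : c.ι.app j x = c.ι.app k y) : j = k := by
  classical
  let t : Cocone F :=
    { pt := ULift.{u} Bool
      ι := Discrete.natTrans fun l => TypeCat.ofHom (fun _ => ULift.up (decide (l = j))) }
  have h1 : ∀ (l : Discrete ι) (z : F.obj l), (hc.desc t) (c.ι.app l z) = ULift.up (decide (l = j)) := by
    intro l z
    have := ConcreteCategory.congr_hom (hc.fac t l) z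
    simp only [ConcreteCategory.comp_apply] at this
    rw [this]
    simp [t]
  have := congrArg (hc.desc t) hxy
  rw [h1, h1] at this
  have h2 := congrArg ULift.down this
  simp at h2
  exact h2.symm

theorem types_isVanKampenColimit_discrete {F : Discrete ι ⥤ Type u} {c : Cocone F}
    (hc : IsColimit c) : IsVanKampenColimit c := by
  intro F' c' α f e hα
  have hcomm : ∀ (j : Discrete ι) (x : F'.obj j), c.ι.app j (α.app j x) = f (c'.ι.app j x) := by
    intro j x
    have := ConcreteCategory.congr_hom (NatTrans.congr_app e j) x
    simpa using this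
  constructor
  · rintro ⟨hc'⟩ j
    rw [Types.isPullback_iff]
    refine ⟨?_, ?_, ?_⟩
    · ext x
      exact (hcomm j x).symm
    · rintro x y ⟨h1, -⟩
      exact types_discrete_ι_injective hc' j h1
    · intro z w hzw
      obtain ⟨k, x, rfl⟩ := Types.jointly_surjective_of_isColimit hc' z
      have h2 : c.ι.app k (α.app k x) = c.ι.app j w := by rw [hcomm, hzw]
      obtain rfl := types_discrete_ι_eq hc _ _ h2
      exact ⟨x, rfl, types_discrete_ι_injective hc k h2⟩
  · intro H
    have hex : ∀ z : c'.pt, ∃ (j : Discrete ι) (x : F'.obj j), c'.ι.app j x = z := by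
      intro z
      obtain ⟨j, w, hw⟩ := Types.jointly_surjective_of_isColimit hc (f z)
      obtain ⟨x, hx, -⟩ := Types.exists_of_isPullback (H j) z w hw.symm
      exact ⟨j, x, hx⟩
    have hinj : ∀ (j k : Discrete ι) (x : F'.obj j) (y : F'.obj k),
        c'.ι.app j x = c'.ι.app k y → ∃ h : j = k, h ▸ x = y := by
      intro j k x y hxy
      have h2 : c.ι.app j (α.app j x) = c.ι.app k (α.app k y) := by rw [hcomm, hcomm, hxy]
      obtain rfl := types_discrete_ι_eq hc _ _ h2
      exact ⟨rfl, Types.ext_of_isPullback (H j) hxy (types_discrete_ι_injective hc j h2)⟩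
    choose jj xx hxx using hex
    refine ⟨{ desc := fun t => TypeCat.ofHom (fun z => t.ι.app (jj z) (xx z)), fac := ?_, uniq := ?_ }⟩
    · intro t k
      ext y
      obtain ⟨h, h'⟩ := hinj _ _ _ _ (hxx (c'.ι.app k y))
      show t.ι.app (jj (c'.ι.app k y)) (xx (c'.ι.app k y)) = t.ι.app k y
      generalize xx (c'.ι.app k y) = x' at h'
      generalize jj (c'.ι.app k y) = j' at h x'
      subst h
      subst h'
      rfl
    · intro t m hm
      ext z
      show m z = t.ι.app (jj z) (xx z)
      rw [← hm (jj z)]
      simp only [ConcreteCategory.comp_apply]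
      rw [hxx z]

end Types

section Functor

variable {ι : Type w} {K : Type u₁} [Category.{v₁} K]

theorem functor_isVanKampenColimit_discrete [HasColimitsOfShape (Discrete ι) (Type u)]
    {F : Discrete ι ⥤ K ⥤ Type u} {c : Cocone F} (hc : IsColimit c) : IsVanKampenColimit c :=
  isVanKampenColimit_of_evaluation F c fun x =>
    types_isVanKampenColimit_discrete (isColimitOfPreserves ((evaluation K (Type u)).obj x) hc)

end Functor

section Sheaf

variable {ι : Type w} {C : Type u₁} [Category.{v₁} C] (J : GrothendieckTopology C)
  [HasSheafify J (Type u)] [HasColimitsOfShape (Discrete ι) (Type u)]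

theorem sheaf_isVanKampenColimit_discrete
    {F : Discrete ι ⥤ Sheaf J (Type u)} {c : Cocone F} (hc : IsColimit c) :
    IsVanKampenColimit c := by
  let adj := sheafificationAdjunction J (Type u)
  have : PreservesColimitsOfSize.{w, w} (presheafToSheaf J (Type u)) :=
    adj.leftAdjoint_preservesColimits
  apply (IsVanKampenColimit.precompose_isIso_iff
    (Functor.isoWhiskerLeft _ (asIso adj.counit) ≪≫ Functor.rightUnitor _).hom).mp
  refine ((functor_isVanKampenColimit_discrete
    (colimit.isColimit (F ⋙ sheafToPresheaf J (Type u)))).map_reflective adj).of_iso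
      (IsColimit.uniqueUpToIso ?_ ?_)
  · exact isColimitOfPreserves (presheafToSheaf J (Type u)) (colimit.isColimit _)
  · exact (IsColimit.precomposeHomEquiv _ _).symm hc

end Sheaf

end Groth.Agent.Lib.Helper9
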