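import Mathlib
import Groth.Prelude.Def_SGA4c
import Groth.Agent.Lib.Helper9Shf
import Groth.Agent.Lib.Helper9Univ

/-!
# Quasi-compact objects in sheaf topoi (SGA 4 VI §1)
-/

namespace Groth.Agent.Lib.Helper9

open CategoryTheory Limits Opposite

universe u w w'

section General

variable {E : Type*} [Category* E]

/-- A family of morphisms with common target is jointly epimorphic. -/
def JEpi {X : E} {ι : Type w} {F : ι → E} (π : ∀ i, F i ⟶ X) : Prop :=
  ∀ ⦃Z : E⦄ (a b : X ⟶ Z), (∀ i, π i ≫ a = π i ≫ b) → a = b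

lemma jEpi_iff_epi_desc {X : E} {ι : Type w} {F : ι → E} (π : ∀ i, F i ⟶ X) [HasCoproduct F] :
    JEpi π ↔ Epi (Limits.Sigma.desc π) := by
  constructor
  · intro h
    refine ⟨fun {Z} a b hab => h a b fun i => ?_⟩
    have := congrArg (fun t => Sigma.ι F i ≫ t) hab
    simpa using this
  · intro h Z a b hab
    rw [← cancel_epi (Limits.Sigma.desc π)]
    ext i
    simpa using hab i

lemma jEpi_of_isColimit {ι : Type w} {F : ι → E} (c : Cofan F) (hc : IsColimit c) :
    JEpi c.inj := fun _ _ _ hab => Cofan.IsColimit.hom_ext hc _ _ hab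

lemma jEpi_of_isColimit_cocone {K : Type*} [Category* K] {D : K ⥤ E} (c : Cocone D)
    (hc : IsColimit c) : JEpi (fun k => c.ι.app k) := fun _ _ _ hab => hc.hom_ext hab

/-- If a jointly epimorphic family factors through the family `π`, then `π` is jointly
epimorphic. -/
lemma JEpi.of_factor {X : E} {ι : Type w} {F : ι → E} {π : ∀ i, F i ⟶ X}
    {κ : Type w'} {H : κ → E} {σ : ∀ a, H a ⟶ X} (hσ : JEpi σ)
    (hfac : ∀ a, ∃ (i : ι) (φ : H a ⟶ F i), φ ≫ π i = σ a) : JEpi π := by
  intro Z a b hab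
  refine hσ a b fun k => ?_
  obtain ⟨i, φ, hφ⟩ := hfac k
  rw [← hφ, Category.assoc, Category.assoc, hab i]

lemma JEpi.comp {X : E} {ι : Type w} {F : ι → E} {π : ∀ i, F i ⟶ X} (hπ : JEpi π)
    {K : ι → Type w'} {G : ∀ i, K i → E} {ρ : ∀ i (k : K i), G i k ⟶ F i}
    (hρ : ∀ i, JEpi (ρ i)) :
    JEpi (fun p : Σ i, K i => ρ p.1 p.2 ≫ π p.1) := by
  intro Z a b hab
  refine hπ a b fun i => hρ i _ _ fun k => ?_
  simpa using hab ⟨i, k⟩

lemma JEpi.comp_epi {X Y : E} {ι : Type w} {F : ι → E} {π : ∀ i, F i ⟶ X} (hπ : JEpi π)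
    (f : X ⟶ Y) [Epi f] : JEpi (fun i => π i ≫ f) := by
  intro Z a b hab
  rw [← cancel_epi f]
  exact hπ _ _ fun i => by simpa using hab i

lemma jEpi_unit_iff {X Y : E} (f : X ⟶ Y) : JEpi (fun _ : Unit => f) ↔ Epi f :=
  ⟨fun h => ⟨fun {Z} a b hab => h a b fun _ => hab⟩, fun h _ a b hab => by
    rw [← cancel_epi f]; exact hab ()⟩

lemma JEpi.epi_of_unique {X Y : E} {ι : Type w} [Unique ι] {F : ι → E} {π : ∀ i, F i ⟶ X}
    (h : JEpi π) : Epi (π default) :=
  ⟨fun {Z} a b hab => h a b fun i => by rw [Unique.eq_default i]; exact hab⟩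

lemma JEpi.reindex {X : E} {ι : Type w} {F : ι → E} {π : ∀ i, F i ⟶ X} {κ : Type w'}
    (e : κ → ι) (h : JEpi (fun k => π (e k))) : JEpi π :=
  h.of_factor fun k => ⟨e k, 𝟙 _, by simp⟩

lemma JEpi.reindex_surj {X : E} {ι : Type w} {F : ι → E} {π : ∀ i, F i ⟶ X} {κ : Type w'}
    (e : κ → ι) (he : Function.Surjective e) (h : JEpi π) : JEpi (fun k => π (e k)) :=
  h.of_factor fun i => by
    obtain ⟨k, rfl⟩ := he i
    exact ⟨k, 𝟙 _, by simp⟩

/-- Variant of `JEpi.of_factor` where members with initial source may be dropped. -/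
lemma JEpi.of_factor_or_initial {X : E} {ι : Type w} {F : ι → E} {π : ∀ i, F i ⟶ X}
    {κ : Type w'} {H : κ → E} {σ : ∀ a, H a ⟶ X} (hσ : JEpi σ)
    (hfac : ∀ a, (∃ (i : ι) (φ : H a ⟶ F i), φ ≫ π i = σ a) ∨ Nonempty (IsInitial (H a))) :
    JEpi π := by
  intro Z a b hab
  refine hσ a b fun k => ?_
  rcases hfac k with ⟨i, φ, hφ⟩ | ⟨⟨hk⟩⟩
  · rw [← hφ, Category.assoc, Category.assoc, hab i]
  · exact hk.hom_ext _ _

/-- Removing members whose source is initial keeps a family jointly epimorphic. -/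
lemma JEpi.of_isInitial {X : E} {ι : Type w} {F : ι → E} {π : ∀ i, F i ⟶ X} (h : JEpi π)
    (p : ι → Prop) (hp : ∀ i, ¬ p i → Nonempty (IsInitial (F i))) :
    JEpi (fun i : {i // p i} => π i) := by
  intro Z a b hab
  refine h a b fun i => ?_
  by_cases hi : p i
  · exact hab ⟨i, hi⟩
  · exact (hp i hi).some.hom_ext _ _

end General

section Instances

universe v₁ u₁

/-- Shortcut instance: with all of Mathlib imported, instance search for colimits in
`Sheaf J (Type u)` wanders off; this puts the right instance first. -/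
instance (priority := 2000) sheafTypeHasColimitsOfShape {C : Type u₁} [Category.{v₁} C]
    {J : GrothendieckTopology C} [HasWeakSheafify J (Type u)] (K : Type w) [Category.{w'} K]
    [HasColimitsOfShape K (Type u)] : HasColimitsOfShape K (Sheaf J (Type u)) :=
  Sheaf.instHasColimitsOfShape

end Instances

section Sheaf

variable {C : Type u} [SmallCategory C] {J : GrothendieckTopology C}

/-- Every colimit cofan in a sheaf topos is universal. -/
lemma sheaf_isUniversal_cofan {ι : Type w} [HasColimitsOfShape (Discrete ι) (Type u)] {F : ι → Sheaf J (Type u)}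
    (c : Cofan F) (hc : IsColimit c) : IsUniversalColimit c :=
  (sheaf_isVanKampenColimit_discrete J hc).isUniversal

/-- The pullback of a colimit cofan in a sheaf topos is a colimit cofan. -/
lemma sheaf_cofan_pullback {ι : Type w} [HasColimitsOfShape (Discrete ι) (Type u)] {F P : ι → Sheaf J (Type u)}
    (c : Cofan F) (hc : IsColimit c) {Z : Sheaf J (Type u)} (g : Z ⟶ c.pt)
    (p : ∀ i, P i ⟶ F i) (q : ∀ i, P i ⟶ Z) (hP : ∀ i, IsPullback (p i) (q i) (c.inj i) g) :
    Nonempty (IsColimit (Cofan.mk Z q)) := by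
  refine (sheaf_isUniversal_cofan c hc).nonempty_isColimit_of_isPullback_right
    (fun i => c.inj i) (𝟙 _) g p q (by simpa using hP)
    (IsPullback.of_vert_isIso ⟨by simp⟩ : IsPullback g (𝟙 Z) (𝟙 c.pt) g) (Cofan.mk Z q)
    (Iso.refl _) (by simp) (by intro i; simpa using (hP i).w.symm) (by simp)

/-- Jointly epimorphic families in a sheaf topos are stable under pullback. -/
lemma JEpi.of_isPullback {ι : Type w} [HasColimitsOfShape (Discrete ι) (Type u)]
    [HasCoproductsOfShape ι (Sheaf J (Type u))] {X X' : Sheaf J (Type u)}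
    {F P : ι → Sheaf J (Type u)} {π : ∀ i, F i ⟶ X} (hπ : JEpi π) (g : X' ⟶ X)
    (p : ∀ i, P i ⟶ F i) (q : ∀ i, P i ⟶ X') (hP : ∀ i, IsPullback (p i) (q i) (π i) g) :
    JEpi q := by
  have hepi : Epi (Limits.Sigma.desc π) := (jEpi_iff_epi_desc π).1 hπ
  have hsnd : Epi (pullback.snd (Limits.Sigma.desc π) g) :=
    epi_of_isPullback_sheaf J (IsPullback.of_hasPullback (Limits.Sigma.desc π) g).flip
  let l : ∀ i, P i ⟶ pullback (Limits.Sigma.desc π) g := fun i =>
    pullback.lift (p i ≫ Sigma.ι F i) (q i) (by simpa using (hP i).w)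
  obtain ⟨hd⟩ := (sheaf_isUniversal_cofan (Cofan.mk (∐ F) (Sigma.ι F))
    (coproductIsCoproduct F)).nonempty_isColimit_of_isPullback_right π (Limits.Sigma.desc π) g p q hP
    (IsPullback.of_hasPullback (Limits.Sigma.desc π) g) (Cofan.mk _ l) (Iso.refl _) (by simp)
    (fun i => by simpa [l] using pullback.lift_fst _ _ _)
    (fun i => by simpa [l] using pullback.lift_snd _ _ _)
  have h1 : JEpi l := jEpi_of_isColimit _ hd
  have h2 := h1.comp_epi (pullback.snd (Limits.Sigma.desc π) g)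
  have h3 : (fun i => l i ≫ pullback.snd (Limits.Sigma.desc π) g) = q := by
    funext i; exact pullback.lift_snd _ _ _
  rwa [h3] at h2

/-- Jointly epimorphic families in a sheaf topos are stable under pullback (chosen pullbacks). -/
lemma JEpi.pb_snd {ι : Type w} [HasColimitsOfShape (Discrete ι) (Type u)]
    [HasCoproductsOfShape ι (Sheaf J (Type u))] {X X' : Sheaf J (Type u)}
    {F : ι → Sheaf J (Type u)} {π : ∀ i, F i ⟶ X} (hπ : JEpi π) (g : X' ⟶ X) :
    JEpi (fun i => pullback.snd (π i) g) :=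
  hπ.of_isPullback g _ _ fun i => IsPullback.of_hasPullback (π i) g

lemma JEpi.pb_fst {ι : Type w} [HasColimitsOfShape (Discrete ι) (Type u)]
    [HasCoproductsOfShape ι (Sheaf J (Type u))] {X X' : Sheaf J (Type u)}
    {F : ι → Sheaf J (Type u)} {π : ∀ i, F i ⟶ X} (hπ : JEpi π) (g : X' ⟶ X) :
    JEpi (fun i => pullback.fst g (π i)) :=
  hπ.of_isPullback g _ _ fun i => (IsPullback.of_hasPullback g (π i)).flip

end Sheaf

section QC

open ToposFin

variable {C : Type u} [SmallCategory C] {J : GrothendieckTopology C}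

lemma isQC_iff (X : Sh J) : IsQC X ↔ ∀ (ι : Type u) (F : ι → Sh J) (π : ∀ i, F i ⟶ X),
    JEpi π → ∃ s : Finset ι, JEpi (fun i : s => π i) := by
  unfold IsQC
  refine forall_congr' fun ι => forall_congr' fun F => forall_congr' fun π => ?_
  rw [jEpi_iff_epi_desc π]
  refine imp_congr Iff.rfl (exists_congr fun s => ?_)
  rw [jEpi_iff_epi_desc]

/-- Quasi-compactness with an index type in any universe. -/
lemma IsQC.exists_finset {X : Sh J} (hX : IsQC X) {ι : Type w} [Small.{u} ι] {F : ι → Sh J}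
    (π : ∀ i, F i ⟶ X) (hπ : JEpi π) : ∃ s : Finset ι, JEpi (fun i : s => π i) := by
  classical
  let e := equivShrink.{u} ι
  have h1 : JEpi (fun k : Shrink.{u} ι => π (e.symm k)) :=
    hπ.reindex_surj e.symm e.symm.surjective
  obtain ⟨s', hs'⟩ := (isQC_iff X).1 hX _ _ _ h1
  refine ⟨s'.image e.symm, hs'.of_factor fun k => ?_⟩
  exact ⟨⟨e.symm k, Finset.mem_image_of_mem _ k.2⟩, 𝟙 _, by simp⟩

lemma IsQC.of_iso {X Y : Sh J} (hX : IsQC X) (e : X ≅ Y) : IsQC Y := by
  rw [isQC_iff]
  intro ι F π hπ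
  have h1 : JEpi (fun i => π i ≫ e.inv) := hπ.comp_epi e.inv
  obtain ⟨s, hs⟩ := (isQC_iff X).1 hX _ _ _ h1
  refine ⟨s, ?_⟩
  have h2 := hs.comp_epi e.hom
  simpa using h2

/-- SGA 4 VI 1.3: a finite jointly epimorphic family with quasi-compact sources has
quasi-compact target. -/
lemma isQC_of_finite_jEpi {X : Sh J} {κ : Type w} [Finite κ] {F : κ → Sh J} (π : ∀ k, F k ⟶ X)
    (hπ : JEpi π) (hF : ∀ k, IsQC (F k)) : IsQC X := by
  classical
  have := Fintype.ofFinite κ
  rw [isQC_iff]
  intro ι G ρ hρ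
  have h1 : ∀ k, ∃ s : Finset ι, JEpi (fun i : s => pullback.snd (ρ i) (π k)) := fun k =>
    (isQC_iff _).1 (hF k) _ _ _ (hρ.pb_snd (π k))
  choose s hs using h1
  refine ⟨Finset.univ.biUnion s, ?_⟩
  have h2 := hπ.comp (ρ := fun k (i : s k) => pullback.snd (ρ i) (π k)) hs
  refine h2.of_factor ?_
  rintro ⟨k, i⟩
  refine ⟨⟨i.1, Finset.mem_biUnion.2 ⟨k, Finset.mem_univ _, i.2⟩⟩, pullback.fst (ρ i) (π k), ?_⟩
  exact pullback.condition

lemma isQC_of_epi {X Y : Sh J} (f : X ⟶ Y) [Epi f] (hX : IsQC X) : IsQC Y :=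
  isQC_of_finite_jEpi (fun _ : Unit => f) ((jEpi_unit_iff f).2 inferInstance) fun _ => hX

lemma isQC_of_isInitial {X : Sh J} (hX : IsInitial X) : IsQC X := by
  rw [isQC_iff]
  intro ι F π _
  exact ⟨∅, fun Z a b _ => hX.hom_ext a b⟩

/-- A finite coproduct of quasi-compact objects is quasi-compact. -/
lemma isQC_of_finite_cofan {κ : Type w} [Finite κ] {F : κ → Sh J} (c : Cofan F)
    (hc : IsColimit c) (hF : ∀ k, IsQC (F k)) : IsQC c.pt :=
  isQC_of_finite_jEpi c.inj (jEpi_of_isColimit c hc) hF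

/-! ### Quasi-compact morphisms -/

lemma isQCHom_iff_isPullback {X Y : Sh J} (f : X ⟶ Y) :
    IsQCHom f ↔ ∀ ⦃P Y' : Sh J⦄ (p : P ⟶ X) (q : P ⟶ Y') (g : Y' ⟶ Y), IsPullback p q f g →
      IsQC Y' → IsQC P := by
  constructor
  · intro h P Y' p q g hP hY'
    exact IsQC.of_iso (h Y' g hY') hP.isoPullback.symm
  · intro h Y' g hY'
    exact h _ _ g (IsPullback.of_hasPullback f g) hY'

lemma IsQCHom.isQC_of_isPullback {X Y : Sh J} {f : X ⟶ Y} (hf : IsQCHom f) {P Y' : Sh J}
    {p : P ⟶ X} {q : P ⟶ Y'} {g : Y' ⟶ Y} (hP : IsPullback p q f g) (hY' : IsQC Y') : IsQC P :=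
  (isQCHom_iff_isPullback f).1 hf p q g hP hY'

/-- The class of quasi-compact morphisms of a sheaf topos. -/
def qcHom : MorphismProperty (Sh J) := fun _ _ f => IsQCHom f

lemma qcHom_iff {X Y : Sh J} (f : X ⟶ Y) : qcHom f ↔ IsQCHom f := Iff.rfl

instance qcHom_isStableUnderBaseChange : (qcHom (J := J)).IsStableUnderBaseChange where
  of_isPullback {X Y Y' S f g f' g'} sq hg := by
    rw [qcHom_iff, isQCHom_iff_isPullback]
    intro P' T p' q' h sq1 hT
    exact IsQCHom.isQC_of_isPullback hg (sq1.paste_horiz sq) hT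

instance qcHom_containsIdentities : (qcHom (J := J)).ContainsIdentities where
  id_mem X := by
    rw [qcHom_iff, isQCHom_iff_isPullback]
    intro P Y' p q g hP hY'
    have : IsIso q := hP.isIso_snd_of_isIso
    exact IsQC.of_iso hY' (asIso q).symm

instance qcHom_isStableUnderComposition : (qcHom (J := J)).IsStableUnderComposition where
  comp_mem {X Y Z} f g hf hg := by
    rw [qcHom_iff, isQCHom_iff_isPullback]
    intro P Z' p q h hP hZ'
    have hQ : IsQC (pullback g h) := hg Z' h hZ'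
    let l : P ⟶ pullback g h := pullback.lift (p ≫ f) q (by simpa using hP.w)
    have h1 : l ≫ pullback.snd g h = q := pullback.lift_snd _ _ _
    have h2 : l ≫ pullback.fst g h = p ≫ f := pullback.lift_fst _ _ _
    have hbig : IsPullback (l ≫ pullback.snd g h) p h (f ≫ g) := by rw [h1]; exact hP.flip
    have hleft : IsPullback l p (pullback.fst g h) f :=
      IsPullback.of_right hbig h2 (IsPullback.of_hasPullback g h).flip
    exact IsQCHom.isQC_of_isPullback hf hleft.flip hQ

instance qcHom_isMultiplicative : (qcHom (J := J)).IsMultiplicative where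

lemma IsQCHom.comp {X Y Z : Sh J} {f : X ⟶ Y} {g : Y ⟶ Z} (hf : IsQCHom f) (hg : IsQCHom g) :
    IsQCHom (f ≫ g) := qcHom.comp_mem f g hf hg

lemma IsQCHom.of_isPullback {P X Y Y' : Sh J} {p : P ⟶ X} {q : P ⟶ Y'} {f : X ⟶ Y} {g : Y' ⟶ Y}
    (hP : IsPullback p q f g) (hf : IsQCHom f) : IsQCHom q :=
  qcHom.of_isPullback hP hf

lemma isQCHom_of_isIso {X Y : Sh J} (f : X ⟶ Y) [IsIso f] : IsQCHom f :=
  qcHom.of_isIso f

lemma isQSHom_iff {X Y : Sh J} (f : X ⟶ Y) : IsQSHom f ↔ (qcHom (J := J)).diagonal f := Iff.rfl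

/-! ### Pullback pasting helpers -/

section Pasting

variable {E : Type*} [Category* E] [HasPullbacks E]

/-- `X ×_Y G ⟶ X ×_Y Y'` is the base change of `π : G ⟶ Y'` along `X ×_Y Y' ⟶ Y'`. -/
lemma isPullback_lift_snd {X Y Y' G : E} (f : X ⟶ Y) (g : Y' ⟶ Y) (π : G ⟶ Y') :
    IsPullback (pullback.snd f (π ≫ g))
      (pullback.lift (pullback.fst f (π ≫ g)) (pullback.snd f (π ≫ g) ≫ π)
        (by simp [pullback.condition])) π (pullback.snd f g) := by
  refine IsPullback.of_bot ?_ (pullback.lift_snd _ _ _).symm (IsPullback.of_hasPullback f g).flip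
  rw [pullback.lift_fst]
  exact (IsPullback.of_hasPullback f (π ≫ g)).flip

/-- `X' ×_Z Z' ⟶ Y ×_Z Z'` is the base change of `f : X' ⟶ Y` along `Y ×_Z Z' ⟶ Y`. -/
lemma isPullback_lift_fst {X' Y Z Z' : E} (f : X' ⟶ Y) (g : Y ⟶ Z) (h : Z' ⟶ Z) :
    IsPullback (pullback.fst (f ≫ g) h)
      (pullback.lift (pullback.fst (f ≫ g) h ≫ f) (pullback.snd (f ≫ g) h)
        (by simp [pullback.condition])) f (pullback.fst g h) := by
  refine IsPullback.of_bot ?_ (pullback.lift_fst _ _ _).symm (IsPullback.of_hasPullback g h)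
  rw [pullback.lift_snd]
  exact IsPullback.of_hasPullback (f ≫ g) h

lemma isPullback_lift_fst' {A B Y Y' : E} (φ : A ⟶ B) (ψ : B ⟶ Y) (α : A ⟶ Y)
    (hα : φ ≫ ψ = α) (h : Y' ⟶ Y) :
    IsPullback (pullback.fst α h)
      (pullback.lift (pullback.fst α h ≫ φ) (pullback.snd α h)
        (by simp [hα, pullback.condition])) φ (pullback.fst ψ h) := by
  subst hα
  exact isPullback_lift_fst φ ψ h

end Pasting

/-- If `Y'` is covered by a finite family `G k` such that every `X ×_Y G k` is quasi-compact, then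
`X ×_Y Y'` is quasi-compact. -/
lemma isQC_pullback_of_finite_cover_right {X Y Y' : Sh J} (f : X ⟶ Y) (g : Y' ⟶ Y)
    {κ : Type w} [Finite κ] [HasColimitsOfShape (Discrete κ) (Type u)]
    [HasCoproductsOfShape κ (Sheaf J (Type u))] {G : κ → Sh J} (π : ∀ k, G k ⟶ Y')
    (hπ : JEpi π) (h : ∀ k, IsQC (pullback f (π k ≫ g))) : IsQC (pullback f g) :=
  isQC_of_finite_jEpi _ (hπ.of_isPullback (pullback.snd f g) _ _
    fun k => isPullback_lift_snd f g (π k)) h

/-- If `Y` is covered by a finite family `X k` such that every `X k ×_Z Z'` is quasi-compact, then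
`Y ×_Z Z'` is quasi-compact. -/
lemma isQC_pullback_of_finite_cover_left {Y Z Z' : Sh J} (g : Y ⟶ Z) (h : Z' ⟶ Z)
    {κ : Type w} [Finite κ] [HasColimitsOfShape (Discrete κ) (Type u)]
    [HasCoproductsOfShape κ (Sheaf J (Type u))] {X : κ → Sh J} (f : ∀ k, X k ⟶ Y)
    (hf : JEpi f) (hq : ∀ k, IsQC (pullback (f k ≫ g) h)) : IsQC (pullback g h) :=
  isQC_of_finite_jEpi _ (hf.of_isPullback (pullback.fst g h) _ _
    fun k => isPullback_lift_fst (f k) g h) hq

instance finset_hasColimitsOfShape_discrete {ι : Type u} (s : Finset ι) :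
    HasColimitsOfShape (Discrete s) (Type u) := inferInstance

/-- General form: `P = X ×_Y Y'`, `Y'` covered by a finite family `G k`, and `Q k = X ×_Y G k`
quasi-compact; then `P` is quasi-compact. -/
lemma isQC_of_finite_cover_isPullback {P X Y Y' : Sh J} {p : P ⟶ X} {q : P ⟶ Y'} {f : X ⟶ Y}
    {g : Y' ⟶ Y} (hP : IsPullback p q f g)
    {κ : Type w} [Finite κ] [HasColimitsOfShape (Discrete κ) (Type u)]
    [HasCoproductsOfShape κ (Sheaf J (Type u))] {G Q : κ → Sh J} (π : ∀ k, G k ⟶ Y')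
    (hπ : JEpi π) (t : ∀ k, G k ⟶ Y) (ht : ∀ k, π k ≫ g = t k)
    (pk : ∀ k, Q k ⟶ X) (qk : ∀ k, Q k ⟶ G k) (hQ : ∀ k, IsPullback (pk k) (qk k) f (t k))
    (hqc : ∀ k, IsQC (Q k)) : IsQC P := by
  have hw : ∀ k, pk k ≫ f = (qk k ≫ π k) ≫ g := fun k => by
    rw [Category.assoc, ht k]; exact (hQ k).w
  let l : ∀ k, Q k ⟶ P := fun k => hP.lift (pk k) (qk k ≫ π k) (hw k)
  have hl1 : ∀ k, l k ≫ p = pk k := fun k => hP.lift_fst _ _ _
  have hl2 : ∀ k, l k ≫ q = qk k ≫ π k := fun k => hP.lift_snd _ _ _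
  have hsq : ∀ k, IsPullback (qk k) (l k) (π k) q := fun k => by
    refine IsPullback.of_bot ?_ (hl2 k).symm hP.flip
    rw [hl1 k, ht k]
    exact (hQ k).flip
  exact isQC_of_finite_jEpi l (hπ.of_isPullback q qk l hsq) hqc

/-! ### Quasi-separated objects -/

lemma IsQS.isQC_of_isPullback {X : Sh J} (hX : IsQS X) {P A B : Sh J} {p : P ⟶ A} {q : P ⟶ B}
    {a : A ⟶ X} {b : B ⟶ X} (hP : IsPullback p q a b) (hA : IsQC A) (hB : IsQC B) : IsQC P :=
  IsQC.of_iso (hX A B a b hA hB) hP.isoPullback.symm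

/-- A subobject of a quasi-separated object is quasi-separated. -/
lemma isQS_of_mono {X Y : Sh J} (i : X ⟶ Y) [Mono i] (hY : IsQS Y) : IsQS X := by
  intro A B a b hA hB
  have h : IsPullback (pullback.fst a b) (pullback.snd a b) (a ≫ i) (b ≫ i) := by
    refine ⟨⟨by rw [← Category.assoc, pullback.condition, Category.assoc]⟩, ⟨?_⟩⟩
    refine PullbackCone.IsLimit.mk _ (fun s => pullback.lift s.fst s.snd
      (by rw [← cancel_mono i]; simpa using s.condition)) ?_ ?_ ?_
    · intro s; exact pullback.lift_fst _ _ _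
    · intro s; exact pullback.lift_snd _ _ _
    · intro s m h1 h2
      apply pullback.hom_ext
      · rw [h1]; exact (pullback.lift_fst _ _ _).symm
      · rw [h2]; exact (pullback.lift_snd _ _ _).symm
  exact IsQS.isQC_of_isPullback hY h hA hB

/-- A morphism from a quasi-compact object to a quasi-separated object is quasi-compact. -/
lemma isQCHom_of_isQC_of_isQS {A B : Sh J} (u : A ⟶ B) (hA : IsQC A) (hB : IsQS B) :
    IsQCHom u := fun T t hT => hB A T u t hA hT

lemma IsQS.of_iso {X Y : Sh J} (hX : IsQS X) (e : X ≅ Y) : IsQS Y := by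
  have : Mono e.inv := inferInstance
  exact isQS_of_mono e.inv hX

/-! ### Generating families -/

/-- Every object is covered by a small family of objects satisfying `P`. -/
def CoveredBy (P : Sh J → Prop) : Prop :=
  ∀ X : Sh J, ∃ (ι : Type u) (F : ι → Sh J) (π : ∀ i, F i ⟶ X), (∀ i, P (F i)) ∧ JEpi π

lemma CoveredBy.mono {P Q : Sh J → Prop} (h : CoveredBy P) (hPQ : ∀ X, P X → Q X) :
    CoveredBy Q := fun X => by
  obtain ⟨ι, F, π, hF, hπ⟩ := h X
  exact ⟨ι, F, π, fun i => hPQ _ (hF i), hπ⟩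

lemma hasQCGenerators_iff : HasQCGenerators J ↔ CoveredBy (J := J) IsQC := by
  refine forall_congr' fun X => exists_congr fun ι => exists_congr fun F => exists_congr fun π => ?_
  rw [jEpi_iff_epi_desc]

lemma hasCoherentGenerators_iff : HasCoherentGenerators J ↔ CoveredBy (J := J) IsCoherent := by
  refine forall_congr' fun X => exists_congr fun ι => exists_congr fun F => exists_congr fun π => ?_
  rw [jEpi_iff_epi_desc]

lemma coveredBy_of_family {α : Type u} (G : α → Sh J) {P : Sh J → Prop} (hG : ∀ a, P (G a))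
    (hgen : ∀ X : Sh J, ∃ (ι : Type u) (a : ι → α) (π : ∀ i, G (a i) ⟶ X),
      Epi (Limits.Sigma.desc π)) : CoveredBy P := fun X => by
  obtain ⟨ι, a, π, hπ⟩ := hgen X
  exact ⟨ι, fun i => G (a i), π, fun i => hG _, (jEpi_iff_epi_desc π).2 hπ⟩

/-- A quasi-compact object over `Y` admits a finite cover by objects satisfying `P`, subordinate
to a given cover of `Y`. -/
lemma exists_finite_refinement {P : Sh J → Prop} (hE : CoveredBy P) {A Y : Sh J} (hA : IsQC A)
    (a : A ⟶ Y) {ι : Type u} {Yi : ι → Sh J} (g : ∀ i, Yi i ⟶ Y) (hg : JEpi g) :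
    ∃ (κ : Type u) (_ : Finite κ) (A' : κ → Sh J) (π : ∀ k, A' k ⟶ A) (idx : κ → ι)
      (α : ∀ k, A' k ⟶ Yi (idx k)), JEpi π ∧ (∀ k, P (A' k)) ∧
        ∀ k, α k ≫ g (idx k) = π k ≫ a := by
  have h1 : JEpi (fun i => pullback.snd (g i) a) := hg.pb_snd a
  choose K F ρ hF hρ using fun i => hE (pullback (g i) a)
  have h2 := h1.comp hρ
  obtain ⟨s, hs⟩ := IsQC.exists_finset hA _ h2
  refine ⟨s, inferInstance, fun k => F k.1.1 k.1.2, fun k => ρ k.1.1 k.1.2 ≫ pullback.snd _ _,
    fun k => k.1.1, fun k => ρ k.1.1 k.1.2 ≫ pullback.fst _ _, hs, fun k => hF _ _, fun k => ?_⟩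
  rw [Category.assoc, Category.assoc, pullback.condition]

/-- A quasi-compact object admits a finite cover by objects satisfying `P`. -/
lemma exists_finite_cover {P : Sh J → Prop} (hE : CoveredBy P) {A : Sh J} (hA : IsQC A) :
    ∃ (κ : Type u) (_ : Finite κ) (A' : κ → Sh J) (π : ∀ k, A' k ⟶ A), JEpi π ∧
      ∀ k, P (A' k) := by
  obtain ⟨ι, F, π, hF, hπ⟩ := hE A
  obtain ⟨s, hs⟩ := IsQC.exists_finset hA π hπ
  exact ⟨s, inferInstance, fun k => F k, fun k => π k, hs, fun k => hF _⟩

/-- Quasi-compactness of a morphism is local on the target (for arbitrary covers, given a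
generating family of quasi-compact objects). -/
lemma isQCHom_of_jEpi_isPullback (hE : CoveredBy (J := J) IsQC) {A B : Sh J} (φ : A ⟶ B)
    {ι : Type u} {A' B' : ι → Sh J} (h : ∀ i, B' i ⟶ B) (hh : JEpi h) (a : ∀ i, A' i ⟶ A)
    (φ' : ∀ i, A' i ⟶ B' i) (sq : ∀ i, IsPullback (a i) (φ' i) φ (h i))
    (hφ' : ∀ i, IsQCHom (φ' i)) : IsQCHom φ := by
  intro T t hT
  obtain ⟨κ, _, T', π, idx, α, hπ, hT', hα⟩ := exists_finite_refinement hE hT t h hh
  exact isQC_of_finite_cover_isPullback (IsPullback.of_hasPullback φ t) π hπ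
    (fun k => α k ≫ h (idx k)) (fun k => (hα k).symm)
    (fun k => pullback.fst (φ' (idx k)) (α k) ≫ a (idx k)) (fun k => pullback.snd _ _)
    (fun k => (IsPullback.of_hasPullback (φ' (idx k)) (α k)).paste_horiz (sq (idx k)))
    (fun k => hφ' (idx k) _ (α k) (hT' k))

/-- Quasi-separatedness of a morphism is local on the target. -/
lemma isQSHom_of_jEpi_pullback_fst (hE : CoveredBy (J := J) IsQC) {X Y : Sh J} (f : X ⟶ Y)
    {ι : Type u} {Yi : ι → Sh J} (g : ∀ i, Yi i ⟶ Y) (hg : JEpi g)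
    (h : ∀ i, IsQSHom (pullback.fst (g i) f)) : IsQSHom f := by
  refine isQCHom_of_jEpi_isPullback hE (pullback.diagonal f)
    (fun i => pullback.fst (pullback.snd f f ≫ f) (g i)) (hg.pb_fst _)
    (fun i => pullback.fst f (g i))
    (fun i => ((Over.pullback (g i)).map
      (Over.homMk (pullback.diagonal f) : Over.mk f ⟶ Over.mk (pullback.snd _ _ ≫ f))).left)
    (fun i => isPullback_lift_fst' (pullback.diagonal f) (pullback.snd f f ≫ f) f (by simp) (g i))
    (fun i => ?_)
  have h2 : qcHom (pullback.diagonal (pullback.fst (g i) f)) := h i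
  rw [diagonal_pullback_fst, (qcHom (J := J)).cancel_left_of_respectsIso,
    (qcHom (J := J)).cancel_right_of_respectsIso] at h2
  exact h2

lemma isQSHom_of_jEpi_pullback_snd (hE : CoveredBy (J := J) IsQC) {X Y : Sh J} (f : X ⟶ Y)
    {ι : Type u} {Yi : ι → Sh J} (g : ∀ i, Yi i ⟶ Y) (hg : JEpi g)
    (h : ∀ i, IsQSHom (pullback.snd f (g i))) : IsQSHom f := by
  refine isQSHom_of_jEpi_pullback_fst hE f g hg fun i => ?_
  have h2 : (qcHom (J := J)).diagonal (pullback.snd f (g i)) := h i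
  rw [← pullbackSymmetry_hom_comp_fst,
    (qcHom (J := J)).diagonal.cancel_left_of_respectsIso] at h2
  exact h2

lemma isQCHom_of_jEpi_pullback_snd (hE : CoveredBy (J := J) IsQC) {X Y : Sh J} (f : X ⟶ Y)
    {ι : Type u} {Yi : ι → Sh J} (g : ∀ i, Yi i ⟶ Y) (hg : JEpi g)
    (h : ∀ i, IsQCHom (pullback.snd f (g i))) : IsQCHom f :=
  isQCHom_of_jEpi_isPullback hE f g hg _ _ (fun i => IsPullback.of_hasPullback f (g i)) h

/-- SGA 4 VI 1.11-type statement: if `(f i : X i ⟶ Y)` is a jointly epimorphic family of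
quasi-compact morphisms and every `f i ≫ g` is quasi-separated, then `g` is quasi-separated. -/
lemma isQSHom_of_jEpi_comp (hE : CoveredBy (J := J) IsQC) {Y Z : Sh J} (g : Y ⟶ Z)
    {ι : Type u} {X : ι → Sh J} (f : ∀ i, X i ⟶ Y) (hf : JEpi f)
    (hfqc : ∀ i, IsQCHom (f i)) (hfg : ∀ i, IsQSHom (f i ≫ g)) : IsQSHom g := by
  have hh : ∀ i, pullback.map (f i ≫ g) g g g (f i) (𝟙 Y) (𝟙 Z) (by simp) (by simp) =
      pullback.lift (pullback.fst (f i ≫ g) g ≫ f i) (pullback.snd (f i ≫ g) g)
        (by simp [pullback.condition]) := fun i => by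
    apply pullback.hom_ext
    · exact (pullback.lift_fst _ _ _).trans (pullback.lift_fst _ _ _).symm
    · exact (pullback.lift_snd _ _ _).trans
        ((Category.comp_id _).trans (pullback.lift_snd _ _ _).symm)
  refine isQCHom_of_jEpi_isPullback hE (pullback.diagonal g)
    (fun i => pullback.map (f i ≫ g) g g g (f i) (𝟙 Y) (𝟙 Z) (by simp) (by simp)) ?_
    f (fun i => pullback.lift (𝟙 (X i)) (f i) (by simp))
    (fun i => pullback_lift_diagonal_isPullback (f i) g) (fun i => ?_)
  · refine hf.of_isPullback (pullback.fst g g) (fun i => pullback.fst (f i ≫ g) g) _ fun i => ?_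
    rw [hh i]
    exact isPullback_lift_fst (f i) g g
  · have e : pullback.lift (𝟙 (X i)) (f i) (by simp) = pullback.diagonal (f i ≫ g) ≫
        pullback.map (f i ≫ g) (f i ≫ g) (f i ≫ g) g (𝟙 _) (f i) (𝟙 _) (by simp) (by simp) := by
      apply pullback.hom_ext
      · refine (pullback.lift_fst _ _ _).trans ?_
        rw [Category.assoc]
        refine ((congrArg (fun t => pullback.diagonal (f i ≫ g) ≫ t)
          (pullback.lift_fst _ _ _)).trans ?_).symm
        rw [← Category.assoc, pullback.diagonal_fst, Category.id_comp]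
      · refine (pullback.lift_snd _ _ _).trans ?_
        rw [Category.assoc]
        refine ((congrArg (fun t => pullback.diagonal (f i ≫ g) ≫ t)
          (pullback.lift_snd _ _ _)).trans ?_).symm
        rw [← Category.assoc, pullback.diagonal_snd, Category.id_comp]
    rw [e]
    exact (qcHom (J := J)).comp_mem _ _ (hfg i)
      ((qcHom (J := J)).pullbackMap ((qcHom (J := J)).id_mem _) (hfqc i) (by simp) rfl)

lemma isQC_pullback_of_finite_cover_left' {Y Z Z' : Sh J} (g : Y ⟶ Z) (h : Z' ⟶ Z)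
    {κ : Type w} [Finite κ] [HasColimitsOfShape (Discrete κ) (Type u)]
    [HasCoproductsOfShape κ (Sheaf J (Type u))] {X : κ → Sh J} (f : ∀ k, X k ⟶ Y)
    (hf : JEpi f) (t : ∀ k, X k ⟶ Z) (ht : ∀ k, f k ≫ g = t k)
    (hq : ∀ k, IsQC (pullback (t k) h)) : IsQC (pullback g h) :=
  isQC_of_finite_cover_isPullback (IsPullback.of_hasPullback g h).flip f hf t ht
    (fun k => pullback.snd (t k) h) (fun k => pullback.fst (t k) h)
    (fun k => (IsPullback.of_hasPullback (t k) h).flip) hq

lemma isQC_pullback_of_finite_cover_right' {X Y Y' : Sh J} (f : X ⟶ Y) (g : Y' ⟶ Y)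
    {κ : Type w} [Finite κ] [HasColimitsOfShape (Discrete κ) (Type u)]
    [HasCoproductsOfShape κ (Sheaf J (Type u))] {G : κ → Sh J} (π : ∀ k, G k ⟶ Y')
    (hπ : JEpi π) (t : ∀ k, G k ⟶ Y) (ht : ∀ k, π k ≫ g = t k)
    (h : ∀ k, IsQC (pullback f (t k))) : IsQC (pullback f g) :=
  isQC_of_finite_cover_isPullback (IsPullback.of_hasPullback f g) π hπ t ht
    (fun k => pullback.fst f (t k)) (fun k => pullback.snd f (t k))
    (fun k => IsPullback.of_hasPullback f (t k)) h

/-- If `α : A' ⟶ Yi` with `A'` quasi-compact, `Yi` quasi-separated, and `Yi ×_Y B`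
quasi-compact, then `A' ×_Y B` is quasi-compact. -/
lemma isQC_pullback_comp_of_isQS {A' Yi Y B : Sh J} (α : A' ⟶ Yi) (g : Yi ⟶ Y) (b : B ⟶ Y)
    (hA' : IsQC A') (hYi : IsQS Yi) (h : IsQC (pullback g b)) : IsQC (pullback (α ≫ g) b) :=
  IsQS.isQC_of_isPullback hYi (isPullback_lift_fst α g b) hA' h

lemma isQC_pullback_comp_of_isQS' {A' Yi Y B : Sh J} (α : A' ⟶ Yi) (g : Yi ⟶ Y) (b : B ⟶ Y)
    (hA' : IsQC A') (hYi : IsQS Yi) (h : IsQC (pullback b g)) : IsQC (pullback b (α ≫ g)) :=
  IsQS.isQC_of_isPullback hYi (isPullback_lift_snd b g α).flip h hA'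

/-- SGA 4 VI 1.17-type statement: if `Y` is covered by quasi-separated objects via
quasi-compact morphisms then `Y` is quasi-separated. -/
lemma isQS_of_jEpi_isQCHom (hE : CoveredBy (J := J) IsQC) {Y : Sh J} {ι : Type u}
    {Yi : ι → Sh J} (g : ∀ i, Yi i ⟶ Y) (hg : JEpi g) (hqs : ∀ i, IsQS (Yi i))
    (hqc : ∀ i, IsQCHom (g i)) : IsQS Y := by
  intro A B a b hA hB
  obtain ⟨κ, _, A', π, idx, α, hπ, hA', hα⟩ := exists_finite_refinement hE hA a g hg
  exact isQC_pullback_of_finite_cover_left' a b π hπ (fun k => α k ≫ g (idx k))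
    (fun k => (hα k).symm) fun k =>
      isQC_pullback_comp_of_isQS (α k) (g (idx k)) b (hA' k) (hqs _) (hqc _ B b hB)

/-- The fibre product of two jointly epimorphic families is jointly epimorphic. -/
lemma JEpi.pullback_map {X X' Y : Sh J} (f : X ⟶ Y) (f' : X' ⟶ Y) {ι ι' : Type u}
    {Xi : ι → Sh J} {Xi' : ι' → Sh J} (g : ∀ i, Xi i ⟶ X) (g' : ∀ j, Xi' j ⟶ X')
    (hg : JEpi g) (hg' : JEpi g') :
    JEpi (fun p : ι × ι' => pullback.map (g p.1 ≫ f) (g' p.2 ≫ f') f f' (g p.1) (g' p.2) (𝟙 Y)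
      (Category.comp_id _) (Category.comp_id _)) := by
  have h1 : JEpi (fun i => (pullback.lift (pullback.fst (g i ≫ f) f' ≫ g i)
      (pullback.snd (g i ≫ f) f') (by simp [pullback.condition]) :
        pullback (g i ≫ f) f' ⟶ pullback f f')) :=
    hg.of_isPullback (pullback.fst f f') _ _ fun i => isPullback_lift_fst (g i) f f'
  have h2 : ∀ i, JEpi (fun j => (pullback.lift (pullback.fst (g i ≫ f) (g' j ≫ f'))
      (pullback.snd (g i ≫ f) (g' j ≫ f') ≫ g' j) (by simp [pullback.condition]) :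
        pullback (g i ≫ f) (g' j ≫ f') ⟶ pullback (g i ≫ f) f')) := fun i =>
    hg'.of_isPullback (pullback.snd (g i ≫ f) f') _ _ fun j =>
      isPullback_lift_snd (g i ≫ f) f' (g' j)
  refine (h1.comp h2).of_factor ?_
  rintro ⟨i, j⟩
  refine ⟨(i, j), 𝟙 _, ?_⟩
  rw [Category.id_comp]
  apply pullback.hom_ext
  · refine (pullback.lift_fst _ _ _).trans ?_
    symm
    rw [Category.assoc]
    refine (congrArg (fun t => _ ≫ t) (pullback.lift_fst _ _ _)).trans ?_
    rw [← Category.assoc]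
    exact congrArg (fun t => t ≫ g i) (pullback.lift_fst _ _ _)
  · refine (pullback.lift_snd _ _ _).trans ?_
    symm
    rw [Category.assoc]
    refine (congrArg (fun t => _ ≫ t) (pullback.lift_snd _ _ _)).trans ?_
    exact pullback.lift_snd _ _ _

/-- SGA 4 VI 1.18-type statement. -/
lemma isQSHom_of_cover_of_isQS (hE : CoveredBy (J := J) IsQC) {X Y : Sh J} (f : X ⟶ Y)
    {ι : Type u} {Xi : ι → Sh J} (g : ∀ i, Xi i ⟶ X) (hg : JEpi g) (hqc : ∀ i, IsQC (Xi i))
    (hqs : ∀ i j, IsQS (pullback (g i ≫ f) (g j ≫ f))) (hX : IsQS X) : IsQSHom f :=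
  isQCHom_of_jEpi_isPullback hE (pullback.diagonal f)
    (fun p : ι × ι => pullback.map (g p.1 ≫ f) (g p.2 ≫ f) f f (g p.1) (g p.2) (𝟙 Y)
      (Category.comp_id _) (Category.comp_id _))
    (JEpi.pullback_map f f g g hg hg)
    (fun p => pullback.fst (g p.1) (g p.2) ≫ g p.1)
    (fun p => pullback.map (g p.1) (g p.2) (g p.1 ≫ f) (g p.2 ≫ f) (𝟙 _) (𝟙 _) f
      (Category.id_comp _).symm (Category.id_comp _).symm)
    (fun p => pullback_map_diagonal_isPullback (g p.1) (g p.2) f)
    (fun p => isQCHom_of_isQC_of_isQS _ (hX _ _ _ _ (hqc _) (hqc _)) (hqs _ _))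

/-! ### Coproducts -/

lemma cofan_inj_mono {ι : Type u} {F : ι → Sh J} (c : Cofan F) (hc : IsColimit c) (i : ι) :
    Mono (c.inj i) :=
  mono_of_cofan_isVanKampen (sheaf_isVanKampenColimit_discrete J hc) ⟨i⟩

lemma cofan_isInitial_pullback {ι : Type u} {F : ι → Sh J} (c : Cofan F) (hc : IsColimit c)
    {i j : ι} (hij : i ≠ j) : Nonempty (IsInitial (pullback (c.inj i) (c.inj j))) := by
  have h := isPullback_initial_to_of_cofan_isVanKampen (sheaf_isVanKampenColimit_discrete J hc)
    ⟨i⟩ ⟨j⟩ (fun h => hij (congrArg Discrete.as h))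
  exact ⟨initialIsInitial.ofIso (h.isoPullback)⟩

/-- A jointly epimorphic family whose sources are all initial has initial target. -/
lemma isInitial_of_jEpi {X : Sh J} {ι : Type w} {F : ι → Sh J} {π : ∀ i, F i ⟶ X} (hπ : JEpi π)
    (hF : ∀ i, Nonempty (IsInitial (F i))) : Nonempty (IsInitial X) := by
  have hepi : Epi (initial.to X) :=
    ⟨fun {Z} a b _ => hπ a b fun i => (hF i).some.hom_ext _ _⟩
  have : IsIso (initial.to X) := isIso_of_mono_of_epi _
  exact ⟨initialIsInitial.ofIso (asIso (initial.to X))⟩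

lemma isInitial_of_hom {X I : Sh J} (f : X ⟶ I) (hI : IsInitial I) : Nonempty (IsInitial X) := by
  have := hI.isIso_to f
  exact ⟨hI.ofIso (asIso f).symm⟩

/-- SGA 4 VI 1.4-type statement: a coproduct is quasi-compact iff all its members are and almost
all of them are initial. -/
lemma isQC_cofan_iff {ι : Type u} {F : ι → Sh J} (c : Cofan F) (hc : IsColimit c) :
    IsQC c.pt ↔ (∀ i, IsQC (F i)) ∧ {i | ¬ Nonempty (IsInitial (F i))}.Finite := by
  classical
  constructor
  · intro hQC
    refine ⟨fun j => ?_, ?_⟩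
    · rw [isQC_iff]
      intro α G ρ hρ
      let σ : ∀ k : α ⊕ {i // i ≠ j}, Sum.elim G (fun i => F i.1) k ⟶ c.pt := fun k =>
        match k with
        | Sum.inl a => ρ a ≫ c.inj j
        | Sum.inr i => c.inj i.1
      have hσ : JEpi σ := by
        intro Z a b hab
        refine jEpi_of_isColimit c hc a b fun i => ?_
        by_cases hij : i = j
        · subst hij
          exact hρ _ _ fun k => by simpa [σ] using hab (Sum.inl k)
        · exact hab (Sum.inr ⟨i, hij⟩)
      obtain ⟨t, ht⟩ := IsQC.exists_finset hQC σ hσ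
      have h2 : JEpi (fun k : t => pullback.snd (σ k) (c.inj j)) := ht.pb_snd (c.inj j)
      have := cofan_inj_mono c hc j
      refine ⟨t.toLeft, h2.of_factor_or_initial ?_⟩
      rintro ⟨k, hk⟩
      match k, hk with
      | Sum.inl a, hk =>
        refine Or.inl ⟨⟨a, Finset.mem_toLeft.2 hk⟩, pullback.fst _ _, ?_⟩
        rw [← cancel_mono (c.inj j), Category.assoc]
        exact pullback.condition
      | Sum.inr i, hk => exact Or.inr (cofan_isInitial_pullback c hc i.2)
    · obtain ⟨s, hs⟩ := IsQC.exists_finset hQC c.inj (jEpi_of_isColimit c hc)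
      refine s.finite_toSet.subset fun j hj => ?_
      by_contra hjs
      refine hj (isInitial_of_jEpi (hs.pb_snd (c.inj j)) fun i => ?_)
      exact cofan_isInitial_pullback c hc (fun h => hjs (h ▸ i.2))
  · rintro ⟨hF, hfin⟩
    have : Finite {i // ¬ Nonempty (IsInitial (F i))} := hfin.to_subtype
    refine isQC_of_finite_jEpi (fun i : {i // ¬ Nonempty (IsInitial (F i))} => c.inj i.1) ?_
      fun i => hF _
    exact (jEpi_of_isColimit c hc).of_isInitial _ fun i hi => not_not.1 hi

/-- A coproduct of quasi-separated objects is quasi-separated. -/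
lemma isQS_cofan {ι : Type u} {F : ι → Sh J} (c : Cofan F) (hc : IsColimit c)
    (hF : ∀ i, IsQS (F i)) : IsQS c.pt := by
  intro A B a b hA hB
  -- decompose `A` and `B`
  obtain ⟨hcA⟩ := sheaf_cofan_pullback c hc a (fun i => pullback.fst (c.inj i) a)
    (fun i => pullback.snd (c.inj i) a) (fun i => IsPullback.of_hasPullback _ _)
  obtain ⟨hcB⟩ := sheaf_cofan_pullback c hc b (fun i => pullback.fst (c.inj i) b)
    (fun i => pullback.snd (c.inj i) b) (fun i => IsPullback.of_hasPullback _ _)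
  obtain ⟨hAi, hAfin⟩ := (isQC_cofan_iff _ hcA).1 hA
  obtain ⟨hBi, -⟩ := (isQC_cofan_iff _ hcB).1 hB
  -- the pieces
  let m : ∀ i, pullback (pullback.fst (c.inj i) a) (pullback.fst (c.inj i) b) ⟶ pullback a b :=
    fun i => pullback.map _ _ a b (pullback.snd (c.inj i) a) (pullback.snd (c.inj i) b) (c.inj i)
      pullback.condition pullback.condition
  have hm : JEpi m := by
    have h1 : JEpi (fun i => pullback.snd (c.inj i) (pullback.fst a b ≫ a)) :=
      (jEpi_of_isColimit c hc).pb_snd _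
    refine h1.of_factor fun i => ⟨i, ?_, ?_⟩
    · refine pullback.lift
        (pullback.lift (pullback.fst _ _) (pullback.snd _ _ ≫ pullback.fst a b)
          ((pullback.condition (f := c.inj i) (g := pullback.fst a b ≫ a)).trans
            (Category.assoc _ _ _).symm))
        (pullback.lift (pullback.fst _ _) (pullback.snd _ _ ≫ pullback.snd a b)
          ((pullback.condition (f := c.inj i) (g := pullback.fst a b ≫ a)).trans
            ((congrArg (fun t => pullback.snd (c.inj i) (pullback.fst a b ≫ a) ≫ t)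
              (pullback.condition (f := a) (g := b))).trans (Category.assoc _ _ _).symm))) ?_
      rw [pullback.lift_fst, pullback.lift_fst]
    · apply pullback.hom_ext
      · rw [Category.assoc]
        refine (congrArg (fun t => _ ≫ t) (pullback.lift_fst _ _ _)).trans ?_
        rw [← Category.assoc, pullback.lift_fst, pullback.lift_snd]
      · rw [Category.assoc]
        refine (congrArg (fun t => _ ≫ t) (pullback.lift_snd _ _ _)).trans ?_
        rw [← Category.assoc, pullback.lift_snd, pullback.lift_snd]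
  have : Finite {i // ¬ Nonempty (IsInitial (pullback (c.inj i) a))} := hAfin.to_subtype
  refine isQC_of_finite_jEpi
    (fun i : {i // ¬ Nonempty (IsInitial (pullback (c.inj i) a))} => m i.1) ?_ fun i => ?_
  · refine hm.of_isInitial _ fun i hi => ?_
    obtain ⟨hi'⟩ := not_not.1 hi
    exact isInitial_of_hom (pullback.fst _ _) hi'
  · exact hF i.1 _ _ _ _ (hAi _) (hBi _)

/-- Reindexing a colimit cofan along an equivalence. -/
def cofanReindexIsColimit {E : Type*} [Category* E] {ι : Type w} {κ : Type w'} (e : κ ≃ ι)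
    {F : ι → E} (c : Cofan F) (hc : IsColimit c) :
    IsColimit (Cofan.mk c.pt (fun k => c.inj (e k))) :=
  mkCofanColimit _
    (fun s => Cofan.IsColimit.desc hc (fun i => eqToHom (by rw [e.apply_symm_apply]) ≫
      s.inj (e.symm i)))
    (fun s k => by
      have h := Cofan.IsColimit.fac hc (fun i => eqToHom (by rw [e.apply_symm_apply]) ≫
        s.inj (e.symm i)) (e k)
      refine h.trans ?_
      have : ∀ (k' : κ) (hk : k' = k),
          eqToHom (by rw [hk]) ≫ s.inj k' = s.inj k := by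
        intro k' hk; subst hk; simp
      exact this _ (e.symm_apply_apply k))
    (fun s m hm => Cofan.IsColimit.hom_ext hc _ _ fun i => by
      rw [Cofan.IsColimit.fac]
      have h := hm (e.symm i)
      simp only [Cofan.mk_pt, cofan_mk_inj] at h
      rw [← h]
      have : ∀ (i' : ι) (hi : i' = i), c.inj i ≫ m = eqToHom (by rw [hi]) ≫ c.inj i' ≫ m := by
        intro i' hi; subst hi; simp
      exact this _ (e.apply_symm_apply i))

/-- The summands of a coproduct are quasi-compact over it. -/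
lemma isQCHom_cofan_inj {ι : Type u} {F : ι → Sh J} (c : Cofan F) (hc : IsColimit c) (i : ι) :
    IsQCHom (c.inj i) := by
  intro T t hT
  obtain ⟨hcT⟩ := sheaf_cofan_pullback c hc t (fun i => pullback.fst (c.inj i) t)
    (fun i => pullback.snd (c.inj i) t) (fun i => IsPullback.of_hasPullback _ _)
  exact ((isQC_cofan_iff _ hcT).1 hT).1 i

/-- A morphism out of an initial object is quasi-compact. -/
lemma isQCHom_of_isInitial {A B : Sh J} (φ : A ⟶ B) (hA : IsInitial A) : IsQCHom φ :=
  fun T t _ => isQC_of_isInitial (isInitial_of_hom (pullback.fst φ t) hA).some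

/-- Quasi-compactness of a morphism can be checked on the summands of a coproduct
decomposition of the target (no generators needed). -/
lemma isQCHom_of_cofan_isPullback {A B : Sh J} (φ : A ⟶ B)
    {ι : Type u} {A' B' : ι → Sh J} (h : ∀ i, B' i ⟶ B) (hh : IsColimit (Cofan.mk B h))
    (a : ∀ i, A' i ⟶ A) (φ' : ∀ i, A' i ⟶ B' i) (sq : ∀ i, IsPullback (a i) (φ' i) φ (h i))
    (hφ' : ∀ i, IsQCHom (φ' i)) : IsQCHom φ := by
  intro T t hT
  obtain ⟨hcT⟩ := sheaf_cofan_pullback (Cofan.mk B h) hh t (fun i => pullback.fst (h i) t)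
    (fun i => pullback.snd (h i) t) (fun i => IsPullback.of_hasPullback _ _)
  obtain ⟨hTi, hfin⟩ := (isQC_cofan_iff _ hcT).1 hT
  have : Finite {i // ¬ Nonempty (IsInitial (pullback (h i) t))} := hfin.to_subtype
  exact isQC_of_finite_cover_isPullback (IsPullback.of_hasPullback φ t)
    (fun i : {i // ¬ Nonempty (IsInitial (pullback (h i) t))} => pullback.snd (h i.1) t)
    ((jEpi_of_isColimit _ hcT).of_isInitial _ fun i hi => not_not.1 hi)
    (fun k => pullback.fst (h k.1) t ≫ h k.1) (fun k => pullback.condition.symm)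
    (fun k => pullback.fst (φ' k.1) (pullback.fst (h k.1) t) ≫ a k.1)
    (fun k => pullback.snd _ _)
    (fun k => (IsPullback.of_hasPullback (φ' k.1) (pullback.fst (h k.1) t)).paste_horiz (sq k.1))
    (fun k => hφ' k.1 _ _ (hTi k.1))

/-- `X ×_Y X` is the coproduct of the `X i ×_Y X j` when `X` is the coproduct of the `X i`. -/
lemma cofan_prod_isColimit {ι : Type u} {X : ι → Sh J} (c : Cofan X) (hc : IsColimit c)
    {Y : Sh J} (f : c.pt ⟶ Y) :
    Nonempty (IsColimit (Cofan.mk (pullback f f)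
      (fun p : ι × ι => pullback.map (c.inj p.1 ≫ f) (c.inj p.2 ≫ f) f f (c.inj p.1) (c.inj p.2)
        (𝟙 Y) (Category.comp_id _) (Category.comp_id _)))) := by
  have hu := sheaf_isUniversal_cofan c hc
  refine IsUniversalColimit.nonempty_isColimit_prod_of_isPullback hu hu
    (fun i => c.inj i ≫ f) (fun j => c.inj j ≫ f) f f
    (P := fun p : ι × ι => pullback (c.inj p.1 ≫ f) (c.inj p.2 ≫ f))
    (q₁ := fun i j => pullback.fst _ _) (q₂ := fun i j => pullback.snd _ _)
    (fun i j => IsPullback.of_hasPullback _ _) (IsPullback.of_hasPullback f f) (Iso.refl _)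
    (fun i => rfl) (fun i => rfl) (fun i j => ?_) (fun i j => ?_)
  · simp only [Cofan.mk_pt, cofan_mk_inj, Iso.refl_hom, Category.id_comp]
    exact pullback.lift_fst _ _ _
  · simp only [Cofan.mk_pt, cofan_mk_inj, Iso.refl_hom, Category.id_comp]
    exact pullback.lift_snd _ _ _

/-- SGA 4 VI 1.?: quasi-separatedness of a morphism out of a coproduct can be checked on the
summands. -/
lemma isQSHom_cofan_iff {ι : Type u} {X : ι → Sh J} (c : Cofan X) (hc : IsColimit c)
    {Y : Sh J} (f : c.pt ⟶ Y) : IsQSHom f ↔ ∀ i, IsQSHom (c.inj i ≫ f) := by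
  constructor
  · intro hf i
    have := cofan_inj_mono c hc i
    exact (qcHom (J := J)).diagonal.comp_mem _ _
      (isQCHom_of_isIso (pullback.diagonal (c.inj i))) hf
  · intro h
    obtain ⟨hd⟩ := cofan_prod_isColimit c hc f
    refine isQCHom_of_cofan_isPullback (pullback.diagonal f) _ hd
      (fun p => pullback.fst (c.inj p.1) (c.inj p.2) ≫ c.inj p.1)
      (fun p => pullback.map (c.inj p.1) (c.inj p.2) (c.inj p.1 ≫ f) (c.inj p.2 ≫ f) (𝟙 _) (𝟙 _) f
        (Category.id_comp _).symm (Category.id_comp _).symm)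
      (fun p => pullback_map_diagonal_isPullback (c.inj p.1) (c.inj p.2) f) ?_
    rintro ⟨i, j⟩
    by_cases hij : i = j
    · subst hij
      have := cofan_inj_mono c hc i
      have e : pullback.diagonal (c.inj i) ≫
          pullback.map (c.inj i) (c.inj i) (c.inj i ≫ f) (c.inj i ≫ f) (𝟙 _) (𝟙 _) f
            (Category.id_comp _).symm (Category.id_comp _).symm =
          pullback.diagonal (c.inj i ≫ f) := by
        apply pullback.hom_ext
        · rw [Category.assoc]
          refine (congrArg (fun t => _ ≫ t) (pullback.lift_fst _ _ _)).trans ?_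
          rw [← Category.assoc, pullback.diagonal_fst, pullback.diagonal_fst, Category.id_comp]
        · rw [Category.assoc]
          refine (congrArg (fun t => _ ≫ t) (pullback.lift_snd _ _ _)).trans ?_
          rw [← Category.assoc, pullback.diagonal_snd, pullback.diagonal_snd, Category.id_comp]
      have h2 : qcHom (pullback.diagonal (c.inj i ≫ f)) := h i
      rw [← e, (qcHom (J := J)).cancel_left_of_respectsIso] at h2
      exact h2
    · exact isQCHom_of_isInitial _ (cofan_isInitial_pullback c hc hij).some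

end QC

end Groth.Agent.Lib.Helper9
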