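import Groth.Agent.Lib.Helper9ShfQuot
import Groth.Agent.Lib.Helper9QC

/-!
# Local relations and quotients in a topos-like category (helper9)

For a pair `p₁ p₂ : R ⟶ X` whose "local relation" is an equivalence relation on generalized
points, two points of `X` with the same image in the quotient `X/R` are locally related.
-/

set_option autoImplicit false
set_option linter.unusedSectionVars false

namespace Groth.Agent.Lib.Helper9.LocalRel

open CategoryTheory Limits Groth.Agent.Lib.Helper9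

universe w

variable {E : Type*} [Category* E] [ToposLike E] [HasImages E] [HasBinaryProducts E]
  [HasEqualizers E]
variable {R X : E} (p₁ p₂ : R ⟶ X)

/-- the strict relation on `T`-points -/
def Sig {T : E} (a b : T ⟶ X) : Prop := ∃ r : T ⟶ R, r ≫ p₁ = a ∧ r ≫ p₂ = b

/-- the local relation on `W`-points -/
def Rho {W : E} (a b : W ⟶ X) : Prop :=
  ∃ (W' : E) (e : W' ⟶ W) (_ : Epi e) (r : W' ⟶ R), r ≫ p₁ = e ≫ a ∧ r ≫ p₂ = e ≫ b

/-- the image of `R` in `X × X` -/
noncomputable def Im : Subobject (X ⨯ X) := Subobject.mk (image.ι (prod.lift p₁ p₂))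

variable {p₁ p₂}

lemma rho_of_sig {T : E} {a b : T ⟶ X} (h : Sig p₁ p₂ a b) : Rho p₁ p₂ a b := by
  obtain ⟨r, h1, h2⟩ := h
  exact ⟨T, 𝟙 T, inferInstance, r, by simpa using h1, by simpa using h2⟩

lemma rho_iff_factors {W : E} (a b : W ⟶ X) :
    Rho p₁ p₂ a b ↔ (Im p₁ p₂).Factors (prod.lift a b) := by
  constructor
  · rintro ⟨W', e, he, r, h1, h2⟩
    apply factors_of_epi_comp _ e he
    unfold Im
    rw [mk_factors_iff']
    refine ⟨r ≫ factorThruImage (prod.lift p₁ p₂), ?_⟩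
    rw [Category.assoc, image.fac]
    apply Limits.prod.hom_ext
    · rw [Category.assoc, Category.assoc, prod.lift_fst, prod.lift_fst, h1]
    · rw [Category.assoc, Category.assoc, prod.lift_snd, prod.lift_snd, h2]
  · intro h
    unfold Im at h
    rw [mk_factors_iff'] at h
    obtain ⟨y, hy⟩ := h
    obtain ⟨W', e, he, r, hr⟩ := ToposLike.exists_local_lift' (factorThruImage (prod.lift p₁ p₂))
      inferInstance y
    refine ⟨W', e, he, r, ?_, ?_⟩
    · have := congrArg (fun m => m ≫ image.ι (prod.lift p₁ p₂) ≫ prod.fst) hr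
      simp only [Category.assoc] at this
      rw [image.fac_assoc, prod.lift_fst, ← Category.assoc y, hy, prod.lift_fst] at this
      exact this.symm
    · have := congrArg (fun m => m ≫ image.ι (prod.lift p₁ p₂) ≫ prod.snd) hr
      simp only [Category.assoc] at this
      rw [image.fac_assoc, prod.lift_snd, ← Category.assoc y, hy, prod.lift_snd] at this
      exact this.symm

lemma rho_precomp {W W'' : E} (h : W'' ⟶ W) {a b : W ⟶ X} (hab : Rho p₁ p₂ a b) :
    Rho p₁ p₂ (h ≫ a) (h ≫ b) := by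
  rw [rho_iff_factors] at hab ⊢
  rw [← prod.comp_lift]
  exact Subobject.factors_of_factors_right _ hab

/-- locality of the relation `Rho` -/
lemma rho_local {W : E} {ι : Type w} {G : ι → E} (g : ∀ i, G i ⟶ W) (hg : JEpi g) (a b : W ⟶ X)
    (h : ∀ i, Rho p₁ p₂ (g i ≫ a) (g i ≫ b)) : Rho p₁ p₂ a b := by
  rw [rho_iff_factors]
  let P : Subobject W := (Subobject.pullback (prod.lift a b)).obj (Im p₁ p₂)
  have hP : ∀ i, P.Factors (g i) := by
    intro i
    rw [factors_pullback_iff, prod.comp_lift, ← rho_iff_factors]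
    exact h i
  have hepi : Epi P.arrow := by
    rw [← jEpi_unit_iff]
    refine hg.of_factor (fun i => ⟨(), P.factorThru _ (hP i), Subobject.factorThru_arrow _ _ _⟩)
  haveI : IsIso P.arrow := ToposLike.isIso_of_mono_of_epi _ inferInstance hepi
  have h1 : P.Factors (𝟙 W) := by
    rw [← IsIso.inv_hom_id P.arrow]
    exact Subobject.factors_comp_arrow _
  rw [factors_pullback_iff, Category.id_comp] at h1
  exact h1

section Quotient

variable (hrefl : ∀ {W : E} (a : W ⟶ X), Rho p₁ p₂ a a)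
  (hsymm : ∀ {W : E} (a b : W ⟶ X), Rho p₁ p₂ a b → Rho p₁ p₂ b a)
  (htrans : ∀ {W : E} (a b c : W ⟶ X), Rho p₁ p₂ a b → Rho p₁ p₂ b c → Rho p₁ p₂ a c)

include hrefl hsymm htrans in
/-- Points of `X` with the same image in the quotient are locally related. -/
theorem rho_of_comp_eq {Q : E} (π : X ⟶ Q) (w : p₁ ≫ π = p₂ ≫ π)
    (hπ : IsColimit (Cofork.ofπ π w)) {W : E} (a b : W ⟶ X) (hab : a ≫ π = b ≫ π) :
    Rho p₁ p₂ a b := by
  let f := prod.lift p₁ p₂
  let I := image f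
  let ι : I ⟶ X ⨯ X := image.ι f
  let q : R ⟶ I := factorThruImage f
  obtain ⟨q₁, hq₁d⟩ : ∃ q₁ : I ⟶ X, q₁ = ι ≫ prod.fst := ⟨_, rfl⟩
  obtain ⟨q₂, hq₂d⟩ : ∃ q₂ : I ⟶ X, q₂ = ι ≫ prod.snd := ⟨_, rfl⟩
  have hq₁ : q ≫ q₁ = p₁ := by
    rw [hq₁d]
    change factorThruImage f ≫ image.ι f ≫ prod.fst = p₁
    rw [image.fac_assoc, prod.lift_fst]
  have hq₂ : q ≫ q₂ = p₂ := by
    rw [hq₂d]
    change factorThruImage f ≫ image.ι f ≫ prod.snd = p₂
    rw [image.fac_assoc, prod.lift_snd]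
  have hι : prod.lift q₁ q₂ = ι := by
    apply Limits.prod.hom_ext
    · rw [prod.lift_fst, hq₁d]
    · rw [prod.lift_snd, hq₂d]
  -- morphisms into `I` from related pairs
  have key : ∀ {W : E} (a b : W ⟶ X), Rho p₁ p₂ a b → ∃ y : W ⟶ I, y ≫ q₁ = a ∧ y ≫ q₂ = b := by
    intro W a b h
    rw [rho_iff_factors] at h
    unfold Im at h
    rw [mk_factors_iff'] at h
    obtain ⟨y, hy⟩ := h
    refine ⟨y, ?_, ?_⟩
    · rw [hq₁d]
      change y ≫ image.ι f ≫ prod.fst = a
      rw [← Category.assoc, hy, prod.lift_fst]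
    · rw [hq₂d]
      change y ≫ image.ι f ≫ prod.snd = b
      rw [← Category.assoc, hy, prod.lift_snd]
  have hgen : Rho p₁ p₂ q₁ q₂ := by
    rw [rho_iff_factors, hι]
    unfold Im
    rw [mk_factors_iff']
    exact ⟨𝟙 _, Category.id_comp _⟩
  have jm : JointlyMono₂ q₁ q₂ := ⟨fun Y u v h1 h2 => by
    rw [← cancel_mono ι]
    apply Limits.prod.hom_ext
    · rw [Category.assoc, Category.assoc, ← hq₁d]; exact h1
    · rw [Category.assoc, Category.assoc, ← hq₂d]; exact h2⟩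
  obtain ⟨r, hr1, hr2⟩ := key (𝟙 X) (𝟙 X) (hrefl _)
  obtain ⟨s, hs1, hs2⟩ := key q₂ q₁ (hsymm _ _ hgen)
  obtain ⟨t, ht1, ht2⟩ := key (pullback.fst q₂ q₁ ≫ q₁) (pullback.snd q₂ q₁ ≫ q₂)
    (htrans _ (pullback.fst q₂ q₁ ≫ q₂) _ (rho_precomp _ hgen)
      (by rw [pullback.condition]; exact rho_precomp _ hgen))
  let er : EquivalenceRelation q₁ q₂ :=
    { toJointlyMono₂ := jm
      r := r
      reflexivity₁ := hr1
      reflexivity₂ := hr2
      s := s
      symmetry₁ := hs1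
      symmetry₂ := hs2
      c := PullbackCone.mk (pullback.fst q₂ q₁) (pullback.snd q₂ q₁) pullback.condition
      isLimit := pullbackIsPullback q₂ q₁
      t := t
      transitivity₁ := ht1
      transitivity₂ := ht2 }
  have w' : q₁ ≫ π = q₂ ≫ π := by
    rw [← cancel_epi q, ← Category.assoc, ← Category.assoc, hq₁, hq₂, w]
  have hcol : IsColimit (Cofork.ofπ π w') := by
    refine Cofork.IsColimit.mk' _ (fun s => ?_)
    have h1 : p₁ ≫ s.π = p₂ ≫ s.π := by
      rw [← hq₁, ← hq₂, Category.assoc, Category.assoc, s.condition]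
    obtain ⟨l, hl⟩ := Cofork.IsColimit.desc' hπ s.π h1
    refine ⟨l, hl, fun {m} hm => ?_⟩
    exact Cofork.IsColimit.hom_ext hπ (hm.trans hl.symm)
  have hk := ToposLike.isKernelPair_of_isColimit er π w' hcol
  obtain ⟨y, hy1, hy2⟩ := hk.exists_lift a b hab
  have : Rho p₁ p₂ (y ≫ q₁) (y ≫ q₂) := rho_precomp y hgen
  rw [hy1, hy2] at this
  exact this

end Quotient

section Generators

variable (𝒢 : E → Prop)
  (hgen : ∀ W : E, ∃ (ι : Type w) (G : ι → E) (g : ∀ i, G i ⟶ W), (∀ i, 𝒢 (G i)) ∧ JEpi g)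
  (hσ : ∀ T : E, 𝒢 T → _root_.Equivalence (Sig p₁ p₂ (T := T)))

include hgen in
lemma exists_sig_cover {W : E} {a b : W ⟶ X} (h : Rho p₁ p₂ a b) :
    ∃ (ι : Type w) (G : ι → E) (g : ∀ i, G i ⟶ W), (∀ i, 𝒢 (G i)) ∧ JEpi g ∧
      ∀ i, Sig p₁ p₂ (g i ≫ a) (g i ≫ b) := by
  obtain ⟨W', e, he, r, h1, h2⟩ := h
  obtain ⟨ι, G, c, hG, hc⟩ := hgen W'
  haveI := he
  refine ⟨ι, G, fun i => c i ≫ e, hG, hc.comp_epi e, fun i => ⟨c i ≫ r, ?_, ?_⟩⟩
  · rw [Category.assoc, h1, Category.assoc]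
  · rw [Category.assoc, h2, Category.assoc]

include hgen hσ in
lemma rho_refl {W : E} (a : W ⟶ X) : Rho p₁ p₂ a a := by
  obtain ⟨ι, G, g, hG, hg⟩ := hgen W
  exact rho_local g hg a a (fun i => rho_of_sig ((hσ _ (hG i)).refl _))

include hgen hσ in
lemma rho_symm {W : E} (a b : W ⟶ X) (h : Rho p₁ p₂ a b) : Rho p₁ p₂ b a := by
  obtain ⟨ι, G, g, hG, hg, hs⟩ := exists_sig_cover 𝒢 hgen h
  exact rho_local g hg b a (fun i => rho_of_sig ((hσ _ (hG i)).symm (hs i)))

include hgen hσ in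
lemma rho_trans {W : E} (a b c : W ⟶ X) (h : Rho p₁ p₂ a b) (h' : Rho p₁ p₂ b c) :
    Rho p₁ p₂ a c := by
  obtain ⟨ι, G, g, hG, hg, hs⟩ := exists_sig_cover 𝒢 hgen h
  refine rho_local g hg a c (fun i => ?_)
  obtain ⟨κ, H, k, hH, hk, hs'⟩ := exists_sig_cover 𝒢 hgen (rho_precomp (g i) h')
  refine rho_local k hk _ _ (fun j => rho_of_sig ?_)
  refine (hσ _ (hH j)).trans ?_ (hs' j)
  obtain ⟨r, hr1, hr2⟩ := hs i
  exact ⟨k j ≫ r, by rw [Category.assoc, hr1], by rw [Category.assoc, hr2]⟩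

include hgen hσ in
/-- If the strict relation is an equivalence relation on points with values in a generating
class, points with the same image in the quotient are locally related. -/
theorem rho_of_comp_eq_of_generators {Q : E} (π : X ⟶ Q) (w : p₁ ≫ π = p₂ ≫ π)
    (hπ : IsColimit (Cofork.ofπ π w)) {W : E} (a b : W ⟶ X) (hab : a ≫ π = b ≫ π) :
    Rho p₁ p₂ a b :=
  rho_of_comp_eq (fun a => rho_refl 𝒢 hgen hσ a) (fun a b h => rho_symm 𝒢 hgen hσ a b h)
    (fun a b c h h' => rho_trans 𝒢 hgen hσ a b c h h') π w hπ a b hab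

end Generators

end Groth.Agent.Lib.Helper9.LocalRel
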