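import Groth.Prelude.Def_AlgSpGpd
import Groth.Agent.Lib.Helper9LocalRel

/-!
# Quotient sheaves of pre-equivalence relations on the big fppf site (helper9)
-/

set_option autoImplicit false
set_option linter.unusedSectionVars false

namespace Groth.Agent.Lib.Helper9.SpQuot

open CategoryTheory Limits Opposite AlgebraicGeometry Groth.Agent.Lib.Helper9
  Groth.Agent.Lib.Helper9.LocalRel

universe u

variable {S : Scheme.{u}}

/-- representable points are jointly epimorphic -/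
lemma jEpi_yon (W : AlgSp.Sp S) :
    JEpi (fun p : Σ T : Over S, ((AlgSp.yon S).obj T ⟶ W) => p.2) := by
  intro Z a b hab
  apply Sheaf.hom_ext
  ext T x
  have h1 := hab ⟨T.unop, (AlgSp.J S).uliftYonedaEquiv.symm x⟩
  have h2 := congrArg (AlgSp.J S).uliftYonedaEquiv h1
  rw [GrothendieckTopology.uliftYonedaEquiv_comp, GrothendieckTopology.uliftYonedaEquiv_comp,
    Equiv.apply_symm_apply] at h2
  exact h2

/-- the class of representable sheaves -/
def IsRep (T : AlgSp.Sp S) : Prop := ∃ T₀ : Over S, T = (AlgSp.yon S).obj T₀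

lemma hgen (W : AlgSp.Sp S) : ∃ (ι : Type (u + 1)) (G : ι → AlgSp.Sp S) (g : ∀ i, G i ⟶ W),
    (∀ i, IsRep (G i)) ∧ JEpi g :=
  ⟨Σ T : Over S, ((AlgSp.yon S).obj T ⟶ W), fun p => (AlgSp.yon S).obj p.1, fun p => p.2,
    fun p => ⟨p.1, rfl⟩, jEpi_yon W⟩

/-- the key local-lifting statement for pre-equivalence relations -/
theorem rho_of_isPreEqvRelSp {R U : AlgSp.Sp S} (s t : R ⟶ U) (hpre : AlgSp.IsPreEqvRelSp s t)
    {W : AlgSp.Sp S} (a b : W ⟶ U)
    (hab : a ≫ AlgSp.quotSpπ s t = b ≫ AlgSp.quotSpπ s t) : Rho s t a b := by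
  refine rho_of_comp_eq_of_generators IsRep hgen ?_ (AlgSp.quotSpπ s t) (AlgSp.quotSp_condition s t)
    (AlgSp.quotSpIsCoequalizer s t) a b hab
  rintro T ⟨T₀, rfl⟩
  have h := hpre T₀
  refine ⟨fun a => ?_, fun {a b} hab => ?_, fun {a b c} hab hbc => ?_⟩
  · obtain ⟨r, h1, h2⟩ := h.refl a
    exact ⟨r, h2, h1⟩
  · obtain ⟨r, h1, h2⟩ := hab
    obtain ⟨r', h1', h2'⟩ := h.symm ⟨r, h2, h1⟩
    exact ⟨r', h2', h1'⟩
  · obtain ⟨r, h1, h2⟩ := hab
    obtain ⟨r', h1', h2'⟩ := hbc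
    obtain ⟨r'', h1'', h2''⟩ := h.trans ⟨r', h2', h1'⟩ ⟨r, h2, h1⟩
    exact ⟨r'', h2'', h1''⟩

end Groth.Agent.Lib.Helper9.SpQuot

namespace Groth.Agent.Lib.Helper9.SpQuot

open CategoryTheory Limits Opposite AlgebraicGeometry Groth.Agent.Lib.Helper9
  Groth.Agent.Lib.Helper9.LocalRel

universe u

variable {S : Scheme.{u}}

instance epi_quotSpπ {R U : AlgSp.Sp S} (s t : R ⟶ U) : Epi (AlgSp.quotSpπ s t) := by
  unfold AlgSp.quotSpπ
  exact coequalizer.π_epi

/-- restriction of a pre-equivalence relation: the map of quotients is a monomorphism, and an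
isomorphism if `g` is an epimorphism -/
theorem quot_restrict {R U R' U' : AlgSp.Sp S} (s t : R ⟶ U) (hpre : AlgSp.IsPreEqvRelSp s t)
    (g : U' ⟶ U) (s' t' : R' ⟶ U') (r : R' ⟶ R)
    (hsq : IsPullback (prod.lift t' s') r (prod.map g g) (prod.lift t s))
    (ψ : AlgSp.quotSp s' t' ⟶ AlgSp.quotSp s t)
    (hψ : AlgSp.quotSpπ s' t' ≫ ψ = g ≫ AlgSp.quotSpπ s t) :
    Mono ψ ∧ (Epi g → IsIso ψ) := by
  have hmono : Mono ψ := by
    constructor
    intro W x y hxy
    obtain ⟨W₁, e, he, a, b, ha, hb⟩ :=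
      ToposLike.exists_local_lift₂ (AlgSp.quotSpπ s' t') inferInstance x y
    have h1 : (a ≫ g) ≫ AlgSp.quotSpπ s t = (b ≫ g) ≫ AlgSp.quotSpπ s t := by
      rw [Category.assoc, Category.assoc, ← hψ, ← Category.assoc, ← Category.assoc, ← ha, ← hb,
        Category.assoc, Category.assoc, hxy]
    obtain ⟨W₂, e₂, he₂, r₀, hr1, hr2⟩ := rho_of_isPreEqvRelSp s t hpre (a ≫ g) (b ≫ g) h1
    obtain ⟨l, hl1, hl2⟩ := hsq.exists_lift (prod.lift (e₂ ≫ b) (e₂ ≫ a)) r₀ (by
      apply Limits.prod.hom_ext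
      · rw [Category.assoc, Category.assoc, prod.map_fst, prod.lift_fst_assoc, prod.lift_fst, hr2,
          Category.assoc]
      · rw [Category.assoc, Category.assoc, prod.map_snd, prod.lift_snd_assoc, prod.lift_snd, hr1,
          Category.assoc])
    have hlt : l ≫ t' = e₂ ≫ b := by
      have := congrArg (fun m => m ≫ prod.fst) hl1
      simpa only [Category.assoc, prod.lift_fst] using this
    have hls : l ≫ s' = e₂ ≫ a := by
      have := congrArg (fun m => m ≫ prod.snd) hl1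
      simpa only [Category.assoc, prod.lift_snd] using this
    have h2 : e₂ ≫ a ≫ AlgSp.quotSpπ s' t' = e₂ ≫ b ≫ AlgSp.quotSpπ s' t' := by
      rw [← Category.assoc, ← Category.assoc, ← hls, ← hlt, Category.assoc, Category.assoc,
        AlgSp.quotSp_condition]
    haveI := he
    haveI := he₂
    rw [← cancel_epi e, ← cancel_epi e₂, ha, hb]
    exact h2
  refine ⟨hmono, fun hg => ?_⟩
  haveI := hg
  haveI : Epi (AlgSp.quotSpπ s' t' ≫ ψ) := by rw [hψ]; infer_instance
  haveI : Epi ψ := epi_of_epi (AlgSp.quotSpπ s' t') ψ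
  exact ToposLike.isIso_of_mono_of_epi ψ hmono inferInstance

end Groth.Agent.Lib.Helper9.SpQuot
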