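import Mathlib
import Groth.Prelude.Def_AlgSp2
import Groth.Prelude.Def_AlgSpDec
import Groth.Agent.S10176
import Groth.Agent.S10177
import Groth.Agent.S9885
import Groth.Agent.Lib.Helper9SpQuot
import Groth.Agent.Lib.Helper12EpiDescent
import Groth.Agent.Lib.Helper12OpenSub
import Groth.Agent.Lib.Helper12EqvRelSp

/-!
# Quotients of pre-equivalence relations on schemes: points and open subsheaves (helper12)
-/

set_option autoImplicit false
universe u
open CategoryTheory CategoryTheory.Limits AlgebraicGeometry Opposite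
open AlgSp

namespace Groth.Agent.Lib.Helper12.QuotOpen

open Groth.Agent.S13210 Groth.Agent.Lib.Helper9 Groth.Agent.Lib.Helper9.LocalRel
  Groth.Agent.Lib.Helper9.SpQuot

variable {S : Scheme.{u}}

/-- scheme-level pre-equivalence relation. -/
def IsPreEqv {R U : Over S} (s t : R ⟶ U) : Prop :=
  ∀ T : Over S, _root_.Equivalence (fun a b : T ⟶ U => ∃ r : T ⟶ R, r ≫ t = a ∧ r ≫ s = b)

/-- an epimorphism from a representable sheaf is surjective on points. -/
lemma surjective_ofPt_of_epi {A : Over S} {Q : AlgSp.Sp S} (p : (AlgSp.yon S).obj A ⟶ Q) [Epi p] :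
    Function.Surjective (AlgSp.Points.ofPt p) := by
  intro x
  obtain ⟨q, rfl⟩ := AlgSp.Points.mk_surjective x
  obtain ⟨R, hR, hl⟩ := Groth.Agent.Lib.Helper12.EpiDescent.exists_cover_of_epi p q.toHom
  have hsurj := (Presieve.mem_comap_jointlySurjectivePrecoverage_iff Scheme.forget).1 hR.1
  obtain ⟨pt⟩ : Nonempty ↥(Spec (CommRingCat.of q.K)) := inferInstance
  obtain ⟨V, g', hg', v, hv⟩ := hsurj pt
  obtain ⟨l, hl⟩ := hl g' hg'
  obtain ⟨l₀, rfl⟩ := (AlgSp.yon S).map_surjective l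
  refine ⟨l₀.left v, ?_⟩
  rw [← Groth.Agent.S10176.ofPt_map_comp, hl, Groth.Agent.S10176.ofPt_map_comp,
    AlgSp.Points.ofPt_toHom]

/-- points of `h_U` with the same image in the quotient are locally related. -/
lemma rho_of_eq {R U : Over S} (s t : R ⟶ U) (hpre : IsPreEqv s t) {Q : AlgSp.Sp S}
    (p : (AlgSp.yon S).obj U ⟶ Q) (w : (AlgSp.yon S).map s ≫ p = (AlgSp.yon S).map t ≫ p)
    (hp : IsColimit (Cofork.ofπ p w)) {W : AlgSp.Sp S} (a b : W ⟶ (AlgSp.yon S).obj U)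
    (hab : a ≫ p = b ≫ p) : Rho ((AlgSp.yon S).map s) ((AlgSp.yon S).map t) a b := by
  refine rho_of_comp_eq_of_generators IsRep hgen ?_ p w hp a b hab
  rintro T ⟨T₀, rfl⟩
  have h := hpre T₀
  have hiff : ∀ a b : T₀ ⟶ U,
      Sig ((AlgSp.yon S).map s) ((AlgSp.yon S).map t) ((AlgSp.yon S).map a) ((AlgSp.yon S).map b) ↔
        ∃ r : T₀ ⟶ R, r ≫ t = b ∧ r ≫ s = a := by
    intro a b
    constructor
    · rintro ⟨r, h1, h2⟩
      obtain ⟨r, rfl⟩ := (AlgSp.yon S).map_surjective r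
      rw [← Functor.map_comp] at h1 h2
      exact ⟨r, (AlgSp.yon S).map_injective h2, (AlgSp.yon S).map_injective h1⟩
    · rintro ⟨r, rfl, rfl⟩
      exact ⟨(AlgSp.yon S).map r, by rw [Functor.map_comp], by rw [Functor.map_comp]⟩
  refine ⟨fun a => ?_, fun {a b} hab => ?_, fun {a b c} hab hbc => ?_⟩
  · obtain ⟨a, rfl⟩ := (AlgSp.yon S).map_surjective a
    exact (hiff a a).2 (h.refl a)
  · obtain ⟨a, rfl⟩ := (AlgSp.yon S).map_surjective a
    obtain ⟨b, rfl⟩ := (AlgSp.yon S).map_surjective b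
    exact (hiff b a).2 (h.symm ((hiff a b).1 hab))
  · obtain ⟨a, rfl⟩ := (AlgSp.yon S).map_surjective a
    obtain ⟨b, rfl⟩ := (AlgSp.yon S).map_surjective b
    obtain ⟨c, rfl⟩ := (AlgSp.yon S).map_surjective c
    exact (hiff a c).2 (h.trans ((hiff b c).1 hbc) ((hiff a b).1 hab))

/-- two points of `U` with the same image in `|U/R|` are related by a point of `R`. -/
lemma exists_rel_of_ofPt_eq {R U : Over S} (s t : R ⟶ U) (hpre : IsPreEqv s t) {Q : AlgSp.Sp S}
    (p : (AlgSp.yon S).obj U ⟶ Q) (w : (AlgSp.yon S).map s ≫ p = (AlgSp.yon S).map t ≫ p)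
    (hp : IsColimit (Cofork.ofπ p w)) (u u' : ↥U.left)
    (h : AlgSp.Points.ofPt p u = AlgSp.Points.ofPt p u') :
    ∃ ρ : ↥R.left, s.left ρ = u ∧ t.left ρ = u' := by
  obtain ⟨Ω, _, w₀, a, b, hab⟩ := AlgSp.Points.mk_eq_mk_iff.1 h
  have hab' : (AlgSp.yon S).map a ≫ (AlgSp.FieldPt.ofPt p u).toHom =
      (AlgSp.yon S).map b ≫ (AlgSp.FieldPt.ofPt p u').toHom := by
    have h1 : (AlgSp.yon S).map a ≫ (AlgSp.FieldPt.ofPt p u).toHom =
        (yEquiv _ Q).symm (Q.obj.map a.op (AlgSp.FieldPt.ofPt p u).val) :=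
      (Groth.Agent.Lib.Helper12.OpenSub.yEquiv_symm_map a _).symm
    have h2 : (AlgSp.yon S).map b ≫ (AlgSp.FieldPt.ofPt p u').toHom =
        (yEquiv _ Q).symm (Q.obj.map b.op (AlgSp.FieldPt.ofPt p u').val) :=
      (Groth.Agent.Lib.Helper12.OpenSub.yEquiv_symm_map b _).symm
    rw [h1, h2, hab]
  rw [AlgSp.FieldPt.toHom_ofPt, AlgSp.FieldPt.toHom_ofPt, ← Category.assoc, ← Category.assoc,
    ← Functor.map_comp, ← Functor.map_comp] at hab'
  obtain ⟨W', e, he, r₀, hr1, hr2⟩ := rho_of_eq s t hpre p w hp _ _ hab'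
  haveI := he
  obtain ⟨Rc, hRc, hl⟩ := Groth.Agent.Lib.Helper12.EpiDescent.exists_cover_of_epi e
    (𝟙 ((AlgSp.yon S).obj (Over.mk w₀)))
  have hsurj := (Presieve.mem_comap_jointlySurjectivePrecoverage_iff Scheme.forget).1 hRc.1
  obtain ⟨pt⟩ : Nonempty ↥(Spec (CommRingCat.of Ω)) := inferInstance
  obtain ⟨V, g', hg', v, hv⟩ := hsurj pt
  obtain ⟨l, hl⟩ := hl g' hg'
  rw [Category.comp_id] at hl
  obtain ⟨ρ₁, hρ₁⟩ := (AlgSp.yon S).map_surjective (l ≫ r₀)
  have h1 : ρ₁ ≫ s = (Over.homMk g' rfl : Over.mk (g' ≫ (Over.mk w₀).hom) ⟶ Over.mk w₀) ≫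
      a ≫ Over.homMk (U.left.fromSpecResidueField u) rfl := by
    apply (AlgSp.yon S).map_injective
    rw [Functor.map_comp, hρ₁, Category.assoc, hr1, ← Category.assoc, hl, ← Functor.map_comp]
  have h2 : ρ₁ ≫ t = (Over.homMk g' rfl : Over.mk (g' ≫ (Over.mk w₀).hom) ⟶ Over.mk w₀) ≫
      b ≫ Over.homMk (U.left.fromSpecResidueField u') rfl := by
    apply (AlgSp.yon S).map_injective
    rw [Functor.map_comp, hρ₁, Category.assoc, hr2, ← Category.assoc, hl, ← Functor.map_comp]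
  refine ⟨ρ₁.left v, ?_, ?_⟩
  · have h3 := congrArg (fun m => m.left v) h1
    simp only [Over.comp_left, Over.homMk_left, Scheme.Hom.comp_apply] at h3
    rw [h3]
    exact Scheme.fromSpecResidueField_apply _ _
  · have h3 := congrArg (fun m => m.left v) h2
    simp only [Over.comp_left, Over.homMk_left, Scheme.Hom.comp_apply] at h3
    rw [h3]
    exact Scheme.fromSpecResidueField_apply _ _

/-- a morphism whose points land in `W` factors through the subsheaf `OpenSub.obj X W`. -/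
lemma exists_factor_incl {X Y : AlgSp.Sp S} (f : Y ⟶ X) (W : Set (AlgSp.Points X))
    (h : Set.range (AlgSp.Points.map f) ⊆ W) :
    ∃ f' : Y ⟶ Groth.Agent.Lib.Helper12.OpenSub.obj X W,
      f' ≫ Groth.Agent.Lib.Helper12.OpenSub.incl X W = f := by
  have hf : Subfunctor.range f.hom ≤ Groth.Agent.Lib.Helper12.OpenSub.sub X W := by
    rintro ⟨T⟩ _ ⟨ξ, rfl⟩
    intro t
    have h1 : (yEquiv T X).symm (f.hom.app (op T) ξ) = (yEquiv T Y).symm ξ ≫ f :=
      (yEquiv_symm_comp f ξ).symm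
    show AlgSp.Points.ofPt ((yEquiv T X).symm (f.hom.app (op T) ξ)) t ∈ W
    rw [h1, ← AlgSp.Points.map_ofPt]
    exact h ⟨_, rfl⟩
  exact ⟨ObjectProperty.homMk (Subfunctor.lift f.hom hf), rfl⟩

/-- the pullback of the subsheaf `OpenSub.obj X W` along `g : h_T ⟶ X` is the open subscheme
`g⁻¹ W` of `T`. -/
lemma isPullback_incl {X : AlgSp.Sp S} {W : Set (AlgSp.Points X)} {T : Over S}
    (g : (AlgSp.yon S).obj T ⟶ X) (V : T.left.Opens)
    (hV : (V : Set ↥T.left) = AlgSp.Points.ofPt g ⁻¹' W)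
    (a' : (AlgSp.yon S).obj (Over.mk (V.ι ≫ T.hom)) ⟶ Groth.Agent.Lib.Helper12.OpenSub.obj X W)
    (ha' : a' ≫ Groth.Agent.Lib.Helper12.OpenSub.incl X W =
      (AlgSp.yon S).map (Over.homMk V.ι rfl : Over.mk (V.ι ≫ T.hom) ⟶ T) ≫ g) :
    IsPullback a' ((AlgSp.yon S).map (Over.homMk V.ι rfl : Over.mk (V.ι ≫ T.hom) ⟶ T))
      (Groth.Agent.Lib.Helper12.OpenSub.incl X W) g := by
  apply isPullback_of_yon ha'
  intro T'' b c hbc
  obtain ⟨c₀, rfl⟩ := (AlgSp.yon S).map_surjective c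
  have hc : ∀ t : ↥T''.left, c₀.left t ∈ V := by
    intro t
    have h := (Groth.Agent.Lib.Helper12.OpenSub.factor_iff W
      (b ≫ Groth.Agent.Lib.Helper12.OpenSub.incl X W)).1 ⟨b, rfl⟩ t
    rw [hbc, Groth.Agent.S10509.ofPt_yon_map_comp] at h
    have h2 : c₀.left t ∈ (V : Set ↥T.left) := by rw [hV]; exact h
    exact h2
  have hrange : Set.range c₀.left ⊆ Set.range V.ι := by
    rw [V.range_ι]; rintro _ ⟨t, rfl⟩; exact hc t
  let d₀ : T''.left ⟶ V.toScheme := IsOpenImmersion.lift V.ι c₀.left hrange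
  have hd₀ : d₀ ≫ V.ι = c₀.left := IsOpenImmersion.lift_fac _ _ _
  let d : T'' ⟶ Over.mk (V.ι ≫ T.hom) := Over.homMk d₀ (by
    show d₀ ≫ V.ι ≫ T.hom = T''.hom
    rw [← Category.assoc, hd₀]; exact Over.w c₀)
  have hdι : d ≫ (Over.homMk V.ι rfl : Over.mk (V.ι ≫ T.hom) ⟶ T) = c₀ := by ext1; exact hd₀
  refine ⟨(AlgSp.yon S).map d, ⟨?_, ?_⟩, ?_⟩
  · rw [← cancel_mono (Groth.Agent.Lib.Helper12.OpenSub.incl X W), Category.assoc, ha',
      ← Category.assoc, ← Functor.map_comp, hdι, hbc]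
  · rw [← Functor.map_comp, hdι]
  · rintro a ⟨-, ha2⟩
    obtain ⟨a₀, rfl⟩ := (AlgSp.yon S).map_surjective a
    rw [← Functor.map_comp] at ha2
    have h := (AlgSp.yon S).map_injective ha2
    congr 1
    ext1
    rw [← cancel_mono V.ι]
    have h4 : a₀.left ≫ V.ι = c₀.left := congrArg (fun m => m.left) h
    rw [h4]; exact hd₀.symm

section Main

variable {R U R' U' : Over S} (s t : R ⟶ U) (hpre : IsPreEqv s t)
  (g : U' ⟶ U) (s' t' : R' ⟶ U')
  (hR' : ∀ (T : Over S) (a b : T ⟶ U') (ρ : T ⟶ R), ρ ≫ t = a ≫ g → ρ ≫ s = b ≫ g →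
    ∃ ρ' : T ⟶ R', ρ' ≫ t' = a ∧ ρ' ≫ s' = b)
  {Q Q' : AlgSp.Sp S} (p : (AlgSp.yon S).obj U ⟶ Q)
  (w : (AlgSp.yon S).map s ≫ p = (AlgSp.yon S).map t ≫ p) (hp : IsColimit (Cofork.ofπ p w))
  (p' : (AlgSp.yon S).obj U' ⟶ Q')
  (w' : (AlgSp.yon S).map s' ≫ p' = (AlgSp.yon S).map t' ≫ p') [Epi p']
  (φ : Q' ⟶ Q) (hφ : p' ≫ φ = (AlgSp.yon S).map g ≫ p)

include hpre hR' hp w' hφ in
/-- the map of quotients induced by a restriction is a monomorphism. -/
lemma mono_of_restrict : Mono φ := by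
  constructor
  intro W₀ x y hxy
  obtain ⟨W₁, e, he, a, b, ha, hb⟩ := ToposLike.exists_local_lift₂ p' inferInstance x y
  have h1 : (a ≫ (AlgSp.yon S).map g) ≫ p = (b ≫ (AlgSp.yon S).map g) ≫ p := by
    rw [Category.assoc, Category.assoc, ← hφ, ← Category.assoc, ← Category.assoc, ← ha, ← hb,
      Category.assoc, Category.assoc, hxy]
  obtain ⟨W₂, e₂, he₂, r₀, hr1, hr2⟩ := rho_of_eq s t hpre p w hp _ _ h1
  have h2 : e₂ ≫ a ≫ p' = e₂ ≫ b ≫ p' := by
    refine Groth.Agent.Lib.Helper12.EqvRelSp.hom_ext_yon _ _ (fun T z => ?_)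
    obtain ⟨a₀, ha₀⟩ := (AlgSp.yon S).map_surjective (z ≫ e₂ ≫ a)
    obtain ⟨b₀, hb₀⟩ := (AlgSp.yon S).map_surjective (z ≫ e₂ ≫ b)
    obtain ⟨ρ, hρ⟩ := (AlgSp.yon S).map_surjective (z ≫ r₀)
    have e1 : ρ ≫ s = a₀ ≫ g := (AlgSp.yon S).map_injective (by
      rw [Functor.map_comp, Functor.map_comp, hρ, ha₀, Category.assoc, hr1]
      simp only [Category.assoc])
    have e2 : ρ ≫ t = b₀ ≫ g := (AlgSp.yon S).map_injective (by
      rw [Functor.map_comp, Functor.map_comp, hρ, hb₀, Category.assoc, hr2]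
      simp only [Category.assoc])
    obtain ⟨ρ', hρ'1, hρ'2⟩ := hR' T b₀ a₀ ρ e2 e1
    have h3 : z ≫ e₂ ≫ a ≫ p' = (AlgSp.yon S).map a₀ ≫ p' := by
      rw [ha₀]; simp only [Category.assoc]
    have h4 : z ≫ e₂ ≫ b ≫ p' = (AlgSp.yon S).map b₀ ≫ p' := by
      rw [hb₀]; simp only [Category.assoc]
    rw [h3, h4, ← hρ'1, ← hρ'2, Functor.map_comp, Functor.map_comp, Category.assoc,
      Category.assoc, w']
  haveI := he
  haveI := he₂
  rw [← cancel_epi e, ← cancel_epi e₂, ha, hb]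
  exact h2


variable {E : Over S} (e₁ : E ⟶ U') (e₂ : E ⟶ R) (hE : IsPullback e₁ e₂ g t)

include hpre hp w hφ hE in
/-- the preimage in `U` of the image of `|U'/R'| → |U/R|` is the `R`-saturation of `g(U')`. -/
lemma preimage_range_map :
    AlgSp.Points.ofPt p ⁻¹' (Set.range (AlgSp.Points.map φ)) = Set.range (e₂ ≫ s).left := by
  ext u
  constructor
  · rintro ⟨x', hx'⟩
    obtain ⟨u'₀, rfl⟩ := surjective_ofPt_of_epi p' x'
    rw [AlgSp.Points.map_ofPt, hφ, Groth.Agent.S10176.ofPt_map_comp] at hx'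
    obtain ⟨ρ, hρ1, hρ2⟩ := exists_rel_of_ofPt_eq s t hpre p w hp u (g.left u'₀) hx'.symm
    obtain ⟨x, hx1, hx2⟩ := Scheme.exists_preimage_of_isPullback
      (hE.map (Over.forget S)) u'₀ ρ hρ2.symm
    refine ⟨x, ?_⟩
    rw [Over.comp_left, Scheme.Hom.comp_apply]
    change s.left (e₂.left x) = u
    rw [show e₂.left x = ρ from hx2, hρ1]
  · rintro ⟨x, rfl⟩
    refine ⟨AlgSp.Points.ofPt p' (e₁.left x), ?_⟩
    rw [AlgSp.Points.map_ofPt, hφ, Groth.Agent.S10176.ofPt_map_comp,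
      ← Groth.Agent.S10176.ofPt_map_comp, ← Groth.Agent.S10176.ofPt_map_comp (e₂ ≫ s),
      Functor.map_comp, Category.assoc, w, ← Category.assoc, ← Functor.map_comp, ← hE.w,
      Groth.Agent.S10176.ofPt_map_comp, Groth.Agent.S10176.ofPt_map_comp]
    rfl


include hpre hp w hφ hE in
/-- the image of `|U'/R'| → |U/R|` is open when the saturation of `g(U')` is. -/
lemma isOpen_range_map (hW : IsOpen (Set.range (e₂ ≫ s).left)) :
    IsOpen (Set.range (AlgSp.Points.map φ)) := by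
  rw [AlgSp.Points.isOpen_iff]
  intro T a
  haveI : Epi p := epi_of_isColimit_cofork hp
  obtain ⟨Rc, hRc, hl⟩ := Groth.Agent.Lib.Helper12.EpiDescent.exists_cover_of_epi p a
  have hsurj := (Presieve.mem_comap_jointlySurjectivePrecoverage_iff Scheme.forget).1 hRc.1
  rw [isOpen_iff_forall_mem_open]
  intro x hx
  obtain ⟨V, g', hg', v, hv⟩ := hsurj x
  obtain ⟨l, hl⟩ := hl g' hg'
  obtain ⟨l₀, rfl⟩ := (AlgSp.yon S).map_surjective l
  have hfl := hRc.2 hg'
  haveI : Flat g' := hfl.1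
  haveI : LocallyOfFinitePresentation g' := hfl.2
  have hkey : ∀ v' : ↥V, AlgSp.Points.ofPt a (g' v') = AlgSp.Points.ofPt p (l₀.left v') := by
    intro v'
    rw [← Groth.Agent.S10176.ofPt_map_comp, hl, Groth.Agent.S10176.ofPt_map_comp]
    rfl
  have hpre' := preimage_range_map s t hpre g p w hp p' φ hφ e₁ e₂ hE
  refine ⟨g' '' (l₀.left ⁻¹' Set.range (e₂ ≫ s).left), ?_,
    g'.isOpenMap _ (hW.preimage l₀.left.continuous), ?_⟩
  · rintro _ ⟨v', hv', rfl⟩
    show AlgSp.Points.ofPt a (g' v') ∈ Set.range (AlgSp.Points.map φ)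
    rw [hkey, ← Set.mem_preimage, hpre']
    exact hv'
  · refine ⟨v, ?_, hv⟩
    rw [Set.mem_preimage, ← hpre', Set.mem_preimage, ← hkey]
    have hv' : g' v = x := hv
    rw [hv']
    exact hx


include hpre hR' hp w w' hφ hE in
/-- **Open subspaces of quotients.**  If the `R`-saturation `W` of `g(U')` is open in `U` and
`U' ×_U R → W` is an epimorphism of fppf sheaves, then the induced map `U'/R' → U/R` of quotient
sheaves is representable by open immersions. -/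
theorem repWith_isOpenImmersion (W : U.left.Opens)
    (hW : (W : Set ↥U.left) = Set.range (e₂ ≫ s).left)
    (hl : E ⟶ Over.mk (W.ι ≫ U.hom))
    (hhl : hl ≫ (Over.homMk W.ι rfl : Over.mk (W.ι ≫ U.hom) ⟶ U) = e₂ ≫ s)
    [Epi ((AlgSp.yon S).map hl)] :
    AlgSp.RepWith @IsOpenImmersion φ := by
  haveI : Epi p := epi_of_isColimit_cofork hp
  have hpre' := preimage_range_map s t hpre g p w hp p' φ hφ e₁ e₂ hE
  have hVopen : IsOpen (Set.range (AlgSp.Points.map φ)) :=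
    isOpen_range_map s t hpre g p w hp p' φ hφ e₁ e₂ hE (hW ▸ W.isOpen)
  obtain ⟨φ', hφ'⟩ := exists_factor_incl φ (Set.range (AlgSp.Points.map φ)) subset_rfl
  have hWV : (W : Set ↥U.left) = AlgSp.Points.ofPt p ⁻¹' Set.range (AlgSp.Points.map φ) := by
    rw [hW, hpre']
  obtain ⟨a', ha'⟩ := (Groth.Agent.Lib.Helper12.OpenSub.factor_iff
    (Set.range (AlgSp.Points.map φ))
    ((AlgSp.yon S).map (Over.homMk W.ι rfl : Over.mk (W.ι ≫ U.hom) ⟶ U) ≫ p)).2 (by
      intro x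
      rw [Groth.Agent.S10509.ofPt_yon_map_comp, ← Set.mem_preimage, ← hWV]
      have h2 : W.ι x ∈ Set.range W.ι := ⟨x, rfl⟩
      rw [W.range_ι] at h2
      exact h2)
  have sq := isPullback_incl p W hWV a' ha'
  haveI : Epi a' := ToposLike.epi_of_isPullback sq inferInstance
  have hcomp : (AlgSp.yon S).map hl ≫ a' = ((AlgSp.yon S).map e₁ ≫ p') ≫ φ' := by
    rw [← cancel_mono (Groth.Agent.Lib.Helper12.OpenSub.incl Q (Set.range (AlgSp.Points.map φ))),
      Category.assoc, ha', ← Category.assoc, ← Functor.map_comp, hhl, Category.assoc,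
      Category.assoc, hφ', hφ, Functor.map_comp, Category.assoc, w, ← Category.assoc,
      ← Category.assoc, ← Functor.map_comp, ← Functor.map_comp, hE.w]
  haveI : Epi (((AlgSp.yon S).map e₁ ≫ p') ≫ φ') := by
    rw [← hcomp]; exact epi_comp _ _
  haveI : Epi φ' := epi_of_epi ((AlgSp.yon S).map e₁ ≫ p') φ'
  haveI : Mono φ := mono_of_restrict s t hpre g s' t' hR' p w hp p' w' φ hφ
  haveI : Mono φ' := by
    haveI : Mono (φ' ≫ Groth.Agent.Lib.Helper12.OpenSub.incl Q (Set.range (AlgSp.Points.map φ))) := by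
      rw [hφ']; infer_instance
    exact mono_of_mono φ' (Groth.Agent.Lib.Helper12.OpenSub.incl Q (Set.range (AlgSp.Points.map φ)))
  haveI : IsIso φ' := ToposLike.isIso_of_mono_of_epi φ' inferInstance inferInstance
  rw [← hφ']
  exact (MorphismProperty.cancel_left_of_respectsIso (AlgSp.RepWith @IsOpenImmersion) φ' _).2
    (Groth.Agent.Lib.Helper12.OpenSub.repWith_incl hVopen)

end Main


section Quot

/-- naturality of `QuotSh.repIsoUliftYoneda`. -/
lemma repIso_inv_naturality {V W : Over S} (g : V ⟶ W) :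
    (QuotSh.repIsoUliftYoneda Scheme.fppfPrecoverage V).inv ≫
        QuotSh.repMap Scheme.fppfPrecoverage g =
      (AlgSp.yon S).map g ≫ (QuotSh.repIsoUliftYoneda Scheme.fppfPrecoverage W).inv :=
  ((sheafificationNatIso (AlgSp.J S) (Type (u + 1))).hom.naturality ((AlgSp.yon S).map g)).symm

/-- the quotient map written on `h_U`. -/
noncomputable def quotP {R U : Over S} (s t : R ⟶ U) :
    (AlgSp.yon S).obj U ⟶ QuotSh.quot Scheme.fppfPrecoverage s t :=
  (QuotSh.repIsoUliftYoneda Scheme.fppfPrecoverage U).inv ≫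
    QuotSh.quotπ Scheme.fppfPrecoverage s t

lemma quotP_condition {R U : Over S} (s t : R ⟶ U) :
    (AlgSp.yon S).map s ≫ quotP s t = (AlgSp.yon S).map t ≫ quotP s t := by
  unfold quotP
  rw [← Category.assoc, ← repIso_inv_naturality s, ← Category.assoc, ← repIso_inv_naturality t,
    Category.assoc, Category.assoc, QuotSh.quot_condition]

instance {R U : Over S} (s t : R ⟶ U) : Epi (quotP s t) := by
  haveI : Epi (QuotSh.quotπ Scheme.fppfPrecoverage s t) := coequalizer.π_epi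
  unfold quotP
  infer_instance

/-- `quotP` is a coequalizer of `(h_s, h_t)`. -/
noncomputable def quotPIsColimit {R U : Over S} (s t : R ⟶ U) :
    IsColimit (Cofork.ofπ (quotP s t) (quotP_condition s t)) := by
  set K := Scheme.fppfPrecoverage.{u} with hK
  set eU := QuotSh.repIsoUliftYoneda K U with heU
  set eR := QuotSh.repIsoUliftYoneda K R with heR
  set π := QuotSh.quotπ K s t with hπ
  have hns : eR.inv ≫ QuotSh.repMap K s = (AlgSp.yon S).map s ≫ eU.inv := repIso_inv_naturality s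
  have hnt : eR.inv ≫ QuotSh.repMap K t = (AlgSp.yon S).map t ≫ eU.inv := repIso_inv_naturality t
  haveI hπe : Epi π := coequalizer.π_epi
  refine Cofork.IsColimit.mk' _ (fun c => ?_)
  have hc : QuotSh.repMap K s ≫ (eU.hom ≫ c.π) = QuotSh.repMap K t ≫ (eU.hom ≫ c.π) := by
    have h1 : QuotSh.repMap K s ≫ eU.hom = eR.hom ≫ (AlgSp.yon S).map s := by
      rw [← cancel_epi eR.inv, ← Category.assoc, hns, Category.assoc, Iso.inv_hom_id,
        Category.comp_id, Iso.inv_hom_id_assoc]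
    have h2 : QuotSh.repMap K t ≫ eU.hom = eR.hom ≫ (AlgSp.yon S).map t := by
      rw [← cancel_epi eR.inv, ← Category.assoc, hnt, Category.assoc, Iso.inv_hom_id,
        Category.comp_id, Iso.inv_hom_id_assoc]
    rw [← Category.assoc, h1, ← Category.assoc, h2, Category.assoc, Category.assoc, c.condition]
  refine ⟨coequalizer.desc (eU.hom ≫ c.π) hc, ?_, ?_⟩
  · show (eU.inv ≫ π) ≫ _ = _
    rw [Category.assoc]
    erw [coequalizer.π_desc]
    rw [Iso.inv_hom_id_assoc]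
  · intro m hm
    have hm' : (eU.inv ≫ π) ≫ m = c.π := hm
    have : π ≫ m = π ≫ coequalizer.desc (eU.hom ≫ c.π) hc := by
      erw [coequalizer.π_desc]
      rw [← hm', Category.assoc, Iso.hom_inv_id_assoc]
    exact (cancel_epi π).1 this

/-- a flat, locally finitely presented, surjective morphism of schemes over `S` induces an
epimorphism of fppf sheaves. -/
lemma epi_yon_map {A B : Over S} (f : A ⟶ B) (h₁ : Flat f.left)
    (h₂ : LocallyOfFinitePresentation f.left) (h₃ : Surjective f.left) :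
    Epi ((AlgSp.yon S).map f) := by
  haveI := Groth.Agent.S9885.isLocallySurjective_of_repWith ((AlgSp.yon S).map f)
    ((AlgSp.repWith_yon_map_iff _ _).2 h₁) ((AlgSp.repWith_yon_map_iff _ _).2 h₂)
    ((AlgSp.repWith_yon_map_iff _ _).2 h₃)
  exact (Sheaf.isLocallySurjective_iff_epi _).1 inferInstance

/-- **Open subspaces of quotients**, for the quotient sheaves `QuotSh.quot`. -/
theorem repWith_isOpenImmersion_quot {R U R' U' : Over S} (s t : R ⟶ U) (hpre : IsPreEqv s t)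
    (g : U' ⟶ U) (s' t' : R' ⟶ U')
    (hR' : ∀ (T : Over S) (a b : T ⟶ U') (ρ : T ⟶ R), ρ ≫ t = a ≫ g → ρ ≫ s = b ≫ g →
      ∃ ρ' : T ⟶ R', ρ' ≫ t' = a ∧ ρ' ≫ s' = b)
    {E : Over S} (e₁ : E ⟶ U') (e₂ : E ⟶ R) (hE : IsPullback e₁ e₂ g t)
    (W : U.left.Opens) (hW : (W : Set ↥U.left) = Set.range (e₂ ≫ s).left)
    (hl : E ⟶ Over.mk (W.ι ≫ U.hom))
    (hhl : hl ≫ (Over.homMk W.ι rfl : Over.mk (W.ι ≫ U.hom) ⟶ U) = e₂ ≫ s)
    (hepi : Epi ((AlgSp.yon S).map hl))
    (φ : QuotSh.quot Scheme.fppfPrecoverage s' t' ⟶ QuotSh.quot Scheme.fppfPrecoverage s t)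
    (hφ : QuotSh.quotπ Scheme.fppfPrecoverage s' t' ≫ φ =
      QuotSh.repMap Scheme.fppfPrecoverage g ≫ QuotSh.quotπ Scheme.fppfPrecoverage s t) :
    AlgSp.RepWith @IsOpenImmersion φ := by
  haveI := hepi
  have hφ' : quotP s' t' ≫ φ = (AlgSp.yon S).map g ≫ quotP s t := by
    unfold quotP
    rw [Category.assoc, hφ, ← Category.assoc, repIso_inv_naturality, Category.assoc]
  exact repWith_isOpenImmersion s t hpre g s' t' hR' (quotP s t) (quotP_condition s t)
    (quotPIsColimit s t) (quotP s' t') (quotP_condition s' t') φ hφ' e₁ e₂ hE W hW hl hhl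

end Quot

end Groth.Agent.Lib.Helper12.QuotOpen
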