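import Mathlib
import Groth.Prelude.Def_AlgSpCov
import Groth.Agent.S9906
import Groth.Agent.Lib.Helper12ZarGlue

/-!
# Zariski-local properties on the target, for Zariski coverings of sheaves (helper12)
-/

set_option autoImplicit false
universe u
open CategoryTheory CategoryTheory.Limits AlgebraicGeometry Opposite
open AlgSp

namespace Groth.Agent.Lib.Helper12.ZarGlue

variable {S : Scheme.{u}}

/-- points in the image of `|A| → |G|` lift to the base change. -/
lemma mem_range_of_mem_range_map {A G : AlgSp.Sp S} (j : A ⟶ G) {T W : Over S}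
    (g : (AlgSp.yon S).obj T ⟶ G) (pr : (AlgSp.yon S).obj W ⟶ A) (w : W ⟶ T)
    (sq : IsPullback pr ((AlgSp.yon S).map w) j g) (t : T.left)
    (ht : AlgSp.Points.ofPt g t ∈ Set.range (AlgSp.Points.map j)) : t ∈ Set.range w.left := by
  obtain ⟨x, hx⟩ := ht
  rw [AlgSp.Points.ofPt_eq_map_ofScheme] at hx
  obtain ⟨p, hp1, hp2⟩ := Groth.Agent.S10175.exists_point_of_isPullback sq.flip _ _ hx.symm
  obtain ⟨y, rfl⟩ := (AlgSp.Points.schemeHomeo W).surjective p
  refine ⟨y, ?_⟩
  apply (AlgSp.Points.schemeHomeo T).injective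
  rw [← AlgSp.Points.map_yon_map_apply]
  exact hp1

/-- **`RepWith P` is Zariski-local on the target** (for `P` Zariski-local on the target), for
Zariski coverings of sheaves. -/
theorem repWith_of_zarCover (P : MorphismProperty Scheme.{u}) [IsZariskiLocalAtTarget P]
    {F G : AlgSp.Sp S} (f : F ⟶ G) {ι : Type u} (Gi : ι → AlgSp.Sp S) (j : ∀ i, Gi i ⟶ G)
    (hj : AlgSp.IsZarCover Gi j) (Fi : ι → AlgSp.Sp S) (p : ∀ i, Fi i ⟶ F) (q : ∀ i, Fi i ⟶ Gi i)
    (sq : ∀ i, IsPullback (p i) (q i) f (j i)) (h : ∀ i, AlgSp.RepWith P (q i)) :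
    AlgSp.RepWith P f := by
  haveI : P.RespectsIso := inferInstance
  haveI : (P.inverseImage (Over.forget S)).RespectsIso :=
    MorphismProperty.RespectsIso.inverseImage P _
  refine MorphismProperty.relative.of_exists (fun T g => ?_)
  let Ti : ι → Over S := fun i => (hj.1 i).rep.pullback g
  let ji : ∀ i, Ti i ⟶ T := fun i => (hj.1 i).rep.snd g
  haveI : ∀ i, IsOpenImmersion (ji i).left := fun i => (hj.1 i).property_snd g
  have hji : ∀ t : T.left, ∃ i, t ∈ Set.range (ji i).left := fun t => by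
    obtain ⟨i, hi⟩ := hj.2 (AlgSp.Points.ofPt g t)
    exact ⟨i, mem_range_of_mem_range_map (j i) g _ _ ((hj.1 i).rep.isPullback g) t hi⟩
  let W : ι → Over S := fun i => (h i).rep.pullback ((hj.1 i).rep.fst g)
  let w : ∀ i, W i ⟶ Ti i := fun i => (h i).rep.snd ((hj.1 i).rep.fst g)
  let a : ∀ i, (AlgSp.yon S).obj (W i) ⟶ F := fun i => (h i).rep.fst ((hj.1 i).rep.fst g) ≫ p i
  have sqa : ∀ i, IsPullback (a i) ((AlgSp.yon S).map (w i)) f ((AlgSp.yon S).map (ji i) ≫ g) := by
    intro i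
    have h1 := ((h i).rep.isPullback ((hj.1 i).rep.fst g)).paste_horiz (sq i)
    rw [((hj.1 i).rep.isPullback g).w] at h1
    exact h1
  obtain ⟨W₀, w₀, a₀, sq₀, hk⟩ := exists_rep_of_openCover f g Ti ji W w a sqa hji
  choose k hk1 _ using hk
  exact ⟨W₀, a₀, w₀, sq₀, property_of_openCover P w₀ Ti ji hji W w k hk1
    (fun i => (h i).property_snd _)⟩

end Groth.Agent.Lib.Helper12.ZarGlue
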