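import Mathlib
import Groth.Prelude.Def_AlgSpCov
import Groth.Agent.S9874
import Groth.Agent.S9900
import Groth.Agent.Lib.Helper12OpenSub2
import Groth.Agent.Lib.Helper12LargestOpen
import Groth.Agent.Lib.Helper12ZarGlue2
import Groth.Agent.Lib.Helper12QuotOpen

/-!
# Sheaves with a Zariski covering by algebraic spaces (helper12)
-/

set_option autoImplicit false
universe u
open CategoryTheory CategoryTheory.Limits AlgebraicGeometry Opposite
open AlgSp

namespace Groth.Agent.Lib.Helper12.OpenCoverSp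

open Groth.Agent.S13210 Groth.Agent.Lib.Helper9 Groth.Agent.S9900 Groth.Agent.S9874

variable {S : Scheme.{u}}

/-- a family of open subsheaves whose coproduct maps epimorphically is a Zariski covering. -/
lemma isZarCover_of_epi_desc {F : AlgSp.Sp S} {ι : Type u} (Fi : ι → AlgSp.Sp S)
    (f : ∀ i, Fi i ⟶ F) (hopen : ∀ i, AlgSp.RepWith @IsOpenImmersion (f i)) (c : Cofan Fi)
    (hc : IsColimit c) (hepi : Epi (Cofan.IsColimit.desc hc f)) : AlgSp.IsZarCover Fi f := by
  refine ⟨hopen, ?_⟩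
  have hVopen : IsOpen (⋃ i, Set.range (AlgSp.Points.map (f i))) :=
    isOpen_iUnion (fun i => OpenSub.isOpen_range_of_open (f i) (hopen i))
  have hfac : ∀ i, ∃ f' : Fi i ⟶ OpenSub.obj F (⋃ i, Set.range (AlgSp.Points.map (f i))),
      f' ≫ OpenSub.incl F (⋃ i, Set.range (AlgSp.Points.map (f i))) = f i := fun i =>
    QuotOpen.exists_factor_incl (f i) _
      (Set.subset_iUnion (fun i => Set.range (AlgSp.Points.map (f i))) i)
  choose f' hf' using hfac
  have h1 : Cofan.IsColimit.desc hc f' ≫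
      OpenSub.incl F (⋃ i, Set.range (AlgSp.Points.map (f i))) = Cofan.IsColimit.desc hc f := by
    apply Cofan.IsColimit.hom_ext hc
    intro i
    rw [← Category.assoc, Cofan.IsColimit.fac, Cofan.IsColimit.fac, hf']
  haveI : Epi (OpenSub.incl F (⋃ i, Set.range (AlgSp.Points.map (f i)))) := by
    haveI : Epi (Cofan.IsColimit.desc hc f' ≫
        OpenSub.incl F (⋃ i, Set.range (AlgSp.Points.map (f i)))) := by rw [h1]; exact hepi
    exact epi_of_epi (Cofan.IsColimit.desc hc f') _
  haveI : IsIso (OpenSub.incl F (⋃ i, Set.range (AlgSp.Points.map (f i)))) :=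
    ToposLike.isIso_of_mono_of_epi _ inferInstance inferInstance
  intro x
  have hx : x ∈ Set.range (AlgSp.Points.map
      (OpenSub.incl F (⋃ i, Set.range (AlgSp.Points.map (f i))))) := by
    refine ⟨AlgSp.Points.map (inv (OpenSub.incl F (⋃ i, Set.range (AlgSp.Points.map (f i))))) x, ?_⟩
    rw [← AlgSp.Points.map_comp, IsIso.inv_hom_id, AlgSp.Points.map_id]
  rw [OpenSub.range_map_incl] at hx
  exact Set.mem_iUnion.1 hx

/-- a pullback square of the diagonal gives an equalizer locus. -/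
lemma isEqLocus_of_isPullback {F : AlgSp.Sp S} {T E : Over S} (a b : (AlgSp.yon S).obj T ⟶ F)
    (e : E ⟶ T) (fst : (AlgSp.yon S).obj E ⟶ F)
    (sq : IsPullback fst ((AlgSp.yon S).map e) (Limits.diag F) (prod.lift a b)) :
    IsEqLocus a b e := by
  have h1 : (AlgSp.yon S).map e ≫ a = fst := by
    have := congrArg (fun m => m ≫ prod.fst) sq.w
    simp only [Category.assoc, prod.lift_fst, Limits.diag] at this
    rw [← this, Category.comp_id]
  have h2 : (AlgSp.yon S).map e ≫ b = fst := by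
    have := congrArg (fun m => m ≫ prod.snd) sq.w
    simp only [Category.assoc, prod.lift_snd, Limits.diag] at this
    rw [← this, Category.comp_id]
  refine ⟨⟨fun {T'} t1 t2 h => ?_⟩, fun T' t => ⟨fun h => ?_, ?_⟩⟩
  · apply (AlgSp.yon S).map_injective
    apply sq.hom_ext
    · rw [← h1, ← Category.assoc, ← Category.assoc, ← Functor.map_comp, ← Functor.map_comp, h]
    · rw [← Functor.map_comp, ← Functor.map_comp, h]
  · have hw : ((AlgSp.yon S).map t ≫ a) ≫ Limits.diag F =
        (AlgSp.yon S).map t ≫ prod.lift a b := by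
      apply Limits.prod.hom_ext
      · rw [Category.assoc, Category.assoc, Category.assoc, Limits.diag, prod.lift_fst,
          prod.lift_fst, Category.comp_id]
      · rw [Category.assoc, Category.assoc, Category.assoc, Limits.diag, prod.lift_snd,
          prod.lift_snd, Category.comp_id, h]
    obtain ⟨l, hl⟩ := (AlgSp.yon S).map_surjective (sq.lift _ _ hw)
    refine ⟨l, (AlgSp.yon S).map_injective ?_⟩
    rw [Functor.map_comp, hl, sq.lift_snd]
  · rintro ⟨t', rfl⟩
    rw [Functor.map_comp, Category.assoc, Category.assoc, h1, h2]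

/-- equalizer loci glue along a Zariski covering of the test scheme. -/
lemma exists_isEqLocus_of_openCover {F : AlgSp.Sp S} {T : Over S}
    (a b : (AlgSp.yon S).obj T ⟶ F) {ι : Type u} (Ti : ι → Over S) (j : ∀ i, Ti i ⟶ T)
    [∀ i, IsOpenImmersion (j i).left] (hj : ∀ t : T.left, ∃ i, t ∈ Set.range (j i).left)
    (E : ι → Over S) (e : ∀ i, E i ⟶ Ti i)
    (he : ∀ i, IsEqLocus ((AlgSp.yon S).map (j i) ≫ a) ((AlgSp.yon S).map (j i) ≫ b) (e i)) :
    ∃ (E₀ : Over S) (e₀ : E₀ ⟶ T), IsEqLocus a b e₀ := by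
  have sq : ∀ i, IsPullback
      ((AlgSp.yon S).map (e i) ≫ ((AlgSp.yon S).map (j i) ≫ prod.lift a b) ≫ prod.fst)
      ((AlgSp.yon S).map (e i)) (Limits.diag F) ((AlgSp.yon S).map (j i) ≫ prod.lift a b) := by
    intro i
    apply IsEqLocus.isPullback_diag
    have h1 : ((AlgSp.yon S).map (j i) ≫ prod.lift a b) ≫ prod.fst = (AlgSp.yon S).map (j i) ≫ a := by
      rw [Category.assoc, prod.lift_fst]
    have h2 : ((AlgSp.yon S).map (j i) ≫ prod.lift a b) ≫ prod.snd = (AlgSp.yon S).map (j i) ≫ b := by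
      rw [Category.assoc, prod.lift_snd]
    rw [h1, h2]
    exact he i
  obtain ⟨W₀, w₀, a₀, sq₀, -⟩ := ZarGlue.exists_rep_of_openCover (Limits.diag F) (prod.lift a b)
    Ti j E e _ sq hj
  exact ⟨W₀, w₀, isEqLocus_of_isPullback a b w₀ a₀ sq₀⟩

/-- the equalizer locus of two points of `F`, one of which lies in an open subsheaf with
representable diagonal. -/
lemma exists_isEqLocus_of_open {F A : AlgSp.Sp S} (f : A ⟶ F)
    (hf : AlgSp.RepWith @IsOpenImmersion f) (hA : AlgSp.Representable (Limits.diag A))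
    {T : Over S} (a' : (AlgSp.yon S).obj T ⟶ A) (b : (AlgSp.yon S).obj T ⟶ F) :
    ∃ (E : Over S) (e : E ⟶ T), IsEqLocus (a' ≫ f) b e := by
  obtain ⟨T', j', b', sqb⟩ := hf.1 b
  haveI : IsOpenImmersion j'.left := hf.2 b b' j' sqb
  obtain ⟨E, e, he⟩ := exists_isEqLocus hA ((AlgSp.yon S).map j' ≫ a') b'
  haveI := he.1
  haveI : Mono f := LargestOpen.mono_of_open f hf
  haveI : Mono j' := Over.mono_of_mono_left j'
  refine ⟨E, e ≫ j', ⟨mono_comp e j', fun T'' t => ⟨fun h => ?_, ?_⟩⟩⟩
  · obtain ⟨t₁, ht₁⟩ := (AlgSp.yon S).map_surjective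
      (sqb.lift ((AlgSp.yon S).map t ≫ a') ((AlgSp.yon S).map t) (by rw [Category.assoc]; exact h))
    have h1 : t₁ ≫ j' = t :=
      (AlgSp.yon S).map_injective (by rw [Functor.map_comp, ht₁, sqb.lift_snd])
    have h2 : (AlgSp.yon S).map t₁ ≫ b' = (AlgSp.yon S).map t ≫ a' := by rw [ht₁, sqb.lift_fst]
    obtain ⟨t', ht'⟩ := (he.2 T'' t₁).1 (by rw [← Category.assoc, ← Functor.map_comp, h1, h2])
    exact ⟨t', by rw [← Category.assoc, ht', h1]⟩
  · rintro ⟨t', rfl⟩
    have h3 := he.eq
    have h4 : (AlgSp.yon S).map (t' ≫ e ≫ j') ≫ a' ≫ f =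
        (AlgSp.yon S).map t' ≫ ((AlgSp.yon S).map e ≫ (AlgSp.yon S).map j' ≫ a') ≫ f := by
      simp only [Functor.map_comp, Category.assoc]
    have h5 : (AlgSp.yon S).map (t' ≫ e ≫ j') ≫ b =
        (AlgSp.yon S).map t' ≫ (AlgSp.yon S).map e ≫ (AlgSp.yon S).map j' ≫ b := by
      simp only [Functor.map_comp, Category.assoc]
    rw [h4, h5, h3, Category.assoc, sqb.w]

/-- a sheaf with a Zariski covering by sheaves with representable diagonal has representable
diagonal. -/
theorem representable_diag_of_zarCover {F : AlgSp.Sp S} {ι : Type u} (Fi : ι → AlgSp.Sp S)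
    (f : ∀ i, Fi i ⟶ F) (hcov : AlgSp.IsZarCover Fi f)
    (hdiag : ∀ i, AlgSp.Representable (Limits.diag (Fi i))) :
    AlgSp.Representable (Limits.diag F) := by
  apply representable_diag_of_isEqLocus
  intro T a b
  let Ti : ι → Over S := fun i => (hcov.1 i).rep.pullback a
  let ji : ∀ i, Ti i ⟶ T := fun i => (hcov.1 i).rep.snd a
  haveI : ∀ i, IsOpenImmersion (ji i).left := fun i => (hcov.1 i).property_snd a
  have hji : ∀ t : T.left, ∃ i, t ∈ Set.range (ji i).left := fun t => by
    obtain ⟨i, hi⟩ := hcov.2 (AlgSp.Points.ofPt a t)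
    exact ⟨i, ZarGlue.mem_range_of_mem_range_map (f i) a _ _ ((hcov.1 i).rep.isPullback a) t hi⟩
  have hloc : ∀ i, ∃ (E : Over S) (e : E ⟶ Ti i),
      IsEqLocus ((AlgSp.yon S).map (ji i) ≫ a) ((AlgSp.yon S).map (ji i) ≫ b) e := by
    intro i
    have hw : (hcov.1 i).rep.fst a ≫ f i = (AlgSp.yon S).map (ji i) ≫ a :=
      ((hcov.1 i).rep.isPullback a).w
    rw [← hw]
    exact exists_isEqLocus_of_open (f i) (hcov.1 i) (hdiag i) _ _
  choose E e he using hloc
  exact exists_isEqLocus_of_openCover a b Ti ji hji E e he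

section Sigma

variable {ι : Type u} (U : ι → Over S)

/-- the disjoint union of a family of schemes over `S`. -/
noncomputable def sigmaOver : Over S :=
  Over.mk (Sigma.desc (fun i => (U i).hom) : (∐ fun i => (U i).left) ⟶ S)

/-- the inclusion of a member. -/
noncomputable def sigmaι (i : ι) : U i ⟶ sigmaOver U :=
  Over.homMk (Sigma.ι (fun i => (U i).left) i) (by simp [sigmaOver])

instance (i : ι) : IsOpenImmersion (sigmaι U i).left :=
  inferInstanceAs (IsOpenImmersion (Sigma.ι (fun i => (U i).left) i))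

instance (i : ι) : Mono (sigmaι U i) := Over.mono_of_mono_left _

lemma sigmaι_jointly_surjective (x : (sigmaOver U).left) :
    ∃ (i : ι) (y : (U i).left), (sigmaι U i).left y = x := by
  obtain ⟨i, y, hy⟩ := (sigmaOpenCover (fun i => (U i).left)).exists_eq x
  exact ⟨i, y, hy⟩

lemma isEmpty_of_sigmaι_comm {Z : Over S} {i j : ι} (hij : i ≠ j) (gi : Z ⟶ U i) (gj : Z ⟶ U j)
    (h : gi ≫ sigmaι U i = gj ≫ sigmaι U j) : IsEmpty Z.left :=
  isEmpty_of_commSq_sigmaι_of_ne (g := fun i => (U i).left) (a := gi.left) (b := gj.left)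
    ⟨congrArg (fun m => m.left) h⟩ hij

lemma sigmaι_mem : Sieve.ofArrows U (sigmaι U) ∈ AlgSp.J S (sigmaOver U) := by
  rw [GrothendieckTopology.mem_over_iff, Sieve.overEquiv_ofArrows]
  apply Precoverage.generate_mem_toGrothendieck
  rw [Scheme.fppfPrecoverage, Scheme.ofArrows_mem_precoverage_iff]
  refine ⟨fun x => ?_, fun i => ⟨inferInstance, inferInstance⟩⟩
  obtain ⟨i, y, hy⟩ := sigmaι_jointly_surjective U x
  exact ⟨i, y, hy⟩

end Sigma

/-- a sheaf has at most one section over the empty scheme. -/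
lemma subsingleton_of_isEmpty (F : AlgSp.Sp S) (Z : Over S) [IsEmpty Z.left] :
    Subsingleton (F.obj.obj (op Z)) := by
  have hsh : Presieve.IsSheaf (AlgSp.J S) F.obj := (isSheaf_iff_isSheaf_of_type _ _).1 F.property
  have hmem : Sieve.ofArrows (fun i : PEmpty.{u + 1} => (i.elim : Over S))
      (fun i => (i.elim : _ ⟶ Z)) ∈ AlgSp.J S Z := by
    rw [GrothendieckTopology.mem_over_iff, Sieve.overEquiv_ofArrows]
    apply Precoverage.generate_mem_toGrothendieck
    rw [Scheme.fppfPrecoverage, Scheme.ofArrows_mem_precoverage_iff]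
    exact ⟨fun x => isEmptyElim x, fun i => i.elim⟩
  have h1 := hsh.isSheafFor _ hmem
  rw [Presieve.isSheafFor_arrows_iff] at h1
  obtain ⟨t, -, ht⟩ := h1 (fun i => i.elim) (fun i => i.elim)
  exact ⟨fun x y => (ht x (fun i => i.elim)).trans (ht y (fun i => i.elim)).symm⟩

/-- a family of sections over the members of a disjoint union glues. -/
lemma exists_sigmaDesc {F : AlgSp.Sp S} {ι : Type u} (U : ι → Over S)
    (a : ∀ i, (AlgSp.yon S).obj (U i) ⟶ F) :
    ∃ γ : (AlgSp.yon S).obj (sigmaOver U) ⟶ F, ∀ i, (AlgSp.yon S).map (sigmaι U i) ≫ γ = a i := by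
  have hsh : Presieve.IsSheaf (AlgSp.J S) F.obj := (isSheaf_iff_isSheaf_of_type _ _).1 F.property
  have h1 := hsh.isSheafFor _ (sigmaι_mem U)
  rw [Presieve.isSheafFor_arrows_iff] at h1
  obtain ⟨t, ht, -⟩ := h1 (fun i => yEquiv (U i) F (a i)) (by
    intro i j Z gi gj hg
    by_cases hij : i = j
    · subst hij
      rw [(cancel_mono (sigmaι U i)).1 hg]
    · haveI := isEmpty_of_sigmaι_comm U hij gi gj hg
      exact (subsingleton_of_isEmpty F Z).elim _ _)
  refine ⟨(yEquiv _ F).symm t, fun i => ?_⟩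
  apply (yEquiv _ F).injective
  rw [← ZarGlue.map_yEquiv, Equiv.apply_symm_apply]
  exact ht i

/-- `RepWith P`, for `P` Zariski-local on the source, can be checked on an open cover of the
source scheme. -/
lemma repWith_of_source_openCover (P : MorphismProperty Scheme.{u}) [IsZariskiLocalAtSource P]
    {F : AlgSp.Sp S} {U : Over S} (a : (AlgSp.yon S).obj U ⟶ F) (ha : AlgSp.Representable a)
    {ι : Type u} (Ui : ι → Over S) (j : ∀ i, Ui i ⟶ U) [∀ i, IsOpenImmersion (j i).left]
    (hj : ∀ x : U.left, ∃ i, x ∈ Set.range (j i).left)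
    (h : ∀ i, AlgSp.RepWith P ((AlgSp.yon S).map (j i) ≫ a)) : AlgSp.RepWith P a := by
  refine ⟨ha, fun T W g fst snd sq => ?_⟩
  obtain ⟨fst₀, rfl⟩ := (AlgSp.yon S).map_surjective fst
  have hpb : ∀ i, IsPullback (pullback.fst fst₀ (j i)) (pullback.snd fst₀ (j i)) fst₀ (j i) :=
    fun i => IsPullback.of_hasPullback _ _
  haveI hk : ∀ i, IsOpenImmersion (pullback.fst fst₀ (j i)).left := fun i =>
    MorphismProperty.of_isPullback (P := @IsOpenImmersion) ((hpb i).map (Over.forget S)).flip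
      (inferInstance : IsOpenImmersion (j i).left)
  let 𝒰 : W.left.OpenCover := {
    I₀ := ι, X i := (pullback fst₀ (j i)).left, f i := (pullback.fst fst₀ (j i)).left,
    mem₀ := by
      rw [Scheme.presieve₀_mem_precoverage_iff]
      refine ⟨fun x => ?_, inferInstance⟩
      obtain ⟨i, y, hy⟩ := hj (fst₀.left x)
      obtain ⟨p, hp, -⟩ := Scheme.exists_preimage_of_isPullback ((hpb i).map (Over.forget S)) x y
        hy.symm
      exact ⟨i, p, hp⟩ }
  refine IsZariskiLocalAtSource.of_openCover (P := P) 𝒰 (fun i => ?_)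
  have sq' : IsPullback ((AlgSp.yon S).map (pullback.snd fst₀ (j i)))
      ((AlgSp.yon S).map (pullback.fst fst₀ (j i) ≫ snd)) ((AlgSp.yon S).map (j i) ≫ a) g := by
    rw [Functor.map_comp]
    exact ((hpb i).map (AlgSp.yon S)).flip.paste_vert sq
  exact (h i).2 g _ _ sq'

/-- a representable map from a scheme which is surjective on points is representable
surjective. -/
lemma repWith_surjective_of_points {F : AlgSp.Sp S} {U : Over S} (a : (AlgSp.yon S).obj U ⟶ F)
    (ha : AlgSp.Representable a) (hs : Function.Surjective (AlgSp.Points.ofPt a)) :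
    AlgSp.RepWith @Surjective a := by
  refine ⟨ha, fun T W g fst snd sq => ⟨fun t => ?_⟩⟩
  obtain ⟨fst₀, rfl⟩ := (AlgSp.yon S).map_surjective fst
  obtain ⟨x, hx⟩ := hs (AlgSp.Points.ofPt g t)
  obtain ⟨y, -, hy⟩ := Groth.Agent.S10176.exists_point_of_isPullback_yon sq x t hx
  exact ⟨y, hy⟩

/-- **A sheaf with a Zariski covering by algebraic spaces is an algebraic space.** -/
theorem isAlgSpace_of_zarCover {F : AlgSp.Sp S} {ι : Type u} (Fi : ι → AlgSp.Sp S)
    (f : ∀ i, Fi i ⟶ F) (hcov : AlgSp.IsZarCover Fi f) (halg : ∀ i, AlgSp.IsAlgSpace (Fi i)) :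
    AlgSp.IsAlgSpace F := by
  have hdiag : AlgSp.Representable (Limits.diag F) :=
    representable_diag_of_zarCover Fi f hcov (fun i => (halg i).diag)
  choose U p hpe hps using fun i => (halg i).atlas
  obtain ⟨γ, hγ⟩ := exists_sigmaDesc U (fun i => p i ≫ f i)
  have hrep : AlgSp.Representable γ := Functor.relativelyRepresentable.of_diag hdiag γ
  refine ⟨hdiag, sigmaOver U, γ, ?_, ?_⟩
  · refine repWith_of_source_openCover @Etale γ hrep U (sigmaι U) (fun x => ?_) (fun i => ?_)
    · obtain ⟨i, y, hy⟩ := sigmaι_jointly_surjective U x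
      exact ⟨i, y, hy⟩
    · rw [hγ]
      exact (AlgSp.RepWith @Etale).comp_mem _ _ (hpe i)
        (OpenSub.repWith_mono (fun _ _ g hg => by
          haveI : IsOpenImmersion g := hg; infer_instance) (hcov.1 i))
  · apply repWith_surjective_of_points γ hrep
    intro x
    obtain ⟨i, y, rfl⟩ := hcov.2 x
    obtain ⟨u, rfl⟩ := Groth.Agent.S10177.surjective_ofPt (p i) (hps i) y
    refine ⟨(sigmaι U i).left u, ?_⟩
    rw [← Groth.Agent.S10176.ofPt_map_comp, hγ, ← AlgSp.Points.map_ofPt]

end Groth.Agent.Lib.Helper12.OpenCoverSp
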