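import Mathlib
import Groth.Agent.Lib.Helper9Univ
import Groth.Agent.Lib.Helper12OpenCoverSp

/-!
# Coproducts of fppf sheaves: extensivity on representables (helper12)
-/

set_option autoImplicit false
universe u
open CategoryTheory CategoryTheory.Limits AlgebraicGeometry Opposite
open AlgSp

namespace Groth.Agent.Lib.Helper12.CoprodSp

open Groth.Agent.S13210 Groth.Agent.Lib.Helper9

variable {S : Scheme.{u}}

/-- the initial fppf sheaf has sections only over the empty scheme. -/
lemma isEmpty_of_hom_initial {Z : Over S} (x : (AlgSp.yon S).obj Z ⟶ ⊥_ (AlgSp.Sp S)) :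
    IsEmpty Z.left := by
  obtain ⟨m, -⟩ := (AlgSp.yon S).map_surjective
    (x ≫ initial.to ((AlgSp.yon S).obj (Over.mk (Scheme.emptyTo S))))
  haveI : IsEmpty ↥(Over.mk (Scheme.emptyTo S)).left := inferInstanceAs (IsEmpty ↥(∅ : Scheme.{u}))
  exact ⟨fun z => isEmptyElim (m.left z)⟩

/-- sections of a coproduct of sheaves lift locally to a member. -/
lemma exists_cover_lift_of_cofan {X : AlgSp.Sp S} {ι : Type u} (P : ι → AlgSp.Sp S)
    (q : ∀ k, P k ⟶ X) (hd : IsColimit (Cofan.mk X q)) {T : Over S}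
    (g : (AlgSp.yon S).obj T ⟶ X) :
    ∃ R ∈ Scheme.fppfPrecoverage T.left, ∀ ⦃V : Scheme.{u}⦄ (g' : V ⟶ T.left), R g' →
      ∃ (k : ι) (l : (AlgSp.yon S).obj (Over.mk (g' ≫ T.hom)) ⟶ P k),
        l ≫ q k = (AlgSp.yon S).map (Over.homMk g' rfl : Over.mk (g' ≫ T.hom) ⟶ T) ≫ g := by
  have hsh : Presieve.IsSheaf (AlgSp.J S) X.obj := (isSheaf_iff_isSheaf_of_type _ _).1 X.property
  let G : Subfunctor X.obj := ⨆ k, Subfunctor.range (q k).hom
  let I : AlgSp.Sp S := ⟨(G.sheafify (AlgSp.J S)).toFunctor,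
    (isSheaf_iff_isSheaf_of_type _ _).2 (Subfunctor.sheafify_isSheaf G hsh)⟩
  let incl : I ⟶ X := ObjectProperty.homMk (G.sheafify (AlgSp.J S)).ι
  let q' : ∀ k, P k ⟶ I := fun k => ObjectProperty.homMk (Subfunctor.lift (q k).hom
    (le_trans (le_iSup (fun k => Subfunctor.range (q k).hom) k) (G.le_sheafify _)))
  have hq' : ∀ k, q' k ≫ incl = q k := fun k => rfl
  have hid : Cofan.IsColimit.desc hd q' ≫ incl = 𝟙 X := by
    apply Cofan.IsColimit.hom_ext hd
    intro k
    rw [← Category.assoc, Cofan.IsColimit.fac, hq']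
    exact (Category.comp_id _).symm
  have hmem : yEquiv T X g ∈ (G.sheafify (AlgSp.J S)).obj (op T) := by
    have h1 : yEquiv T X g = incl.hom.app (op T)
        ((Cofan.IsColimit.desc hd q').hom.app (op T) (yEquiv T X g)) := by
      have h2 := congrArg (fun m => m.hom.app (op T) (yEquiv T X g)) hid
      exact h2.symm
    rw [h1]
    exact ((Cofan.IsColimit.desc hd q').hom.app (op T) (yEquiv T X g)).2
  have hmem' : G.sieveOfSection (yEquiv T X g) ∈ AlgSp.J S T := hmem
  rw [GrothendieckTopology.mem_over_iff,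
    Precoverage.mem_toGrothendieck_iff_of_isStableUnderComposition] at hmem'
  obtain ⟨R, hR, hle⟩ := hmem'
  refine ⟨R, hR, fun V g' hg' => ?_⟩
  have h4 := hle _ _ hg'
  rw [Sieve.overEquiv_iff] at h4
  have h5 : X.obj.map (Over.homMk g' rfl : Over.mk (g' ≫ T.hom) ⟶ T).op (yEquiv T X g) ∈
      G.obj (op (Over.mk (g' ≫ T.hom))) := h4
  rw [Subfunctor.iSup_obj] at h5
  obtain ⟨k, hk⟩ := Set.mem_iUnion.1 h5
  obtain ⟨y, hy⟩ := hk
  refine ⟨k, (yEquiv _ (P k)).symm y, ?_⟩
  apply (yEquiv _ X).injective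
  rw [yEquiv_comp, Equiv.apply_symm_apply, ← ZarGlue.map_yEquiv]
  exact hy

/-- every colimit cofan of fppf sheaves is van Kampen. -/
lemma isVanKampen_cofan {ι : Type u} {F : ι → AlgSp.Sp S} (c : Cofan F) (hc : IsColimit c) :
    IsVanKampenColimit c :=
  sheaf_isVanKampenColimit_discrete (AlgSp.J S) hc

/-- the pullback of a colimit cofan of fppf sheaves is a colimit cofan. -/
lemma cofan_pullback {ι : Type u} {F P : ι → AlgSp.Sp S} (c : Cofan F) (hc : IsColimit c)
    {Z : AlgSp.Sp S} (g : Z ⟶ c.pt) (p : ∀ i, P i ⟶ F i) (q : ∀ i, P i ⟶ Z)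
    (hP : ∀ i, IsPullback (p i) (q i) (c.inj i) g) : Nonempty (IsColimit (Cofan.mk Z q)) := by
  refine (isVanKampen_cofan c hc).isUniversal.nonempty_isColimit_of_isPullback_right
    (fun i => c.inj i) (𝟙 _) g p q (by simpa using hP)
    (IsPullback.of_vert_isIso ⟨by simp⟩ : IsPullback g (𝟙 Z) (𝟙 c.pt) g) (Cofan.mk Z q)
    (Iso.refl _) (by simp) (by intro i; simpa using (hP i).w.symm) (by simp)

/-- a monomorphism through which a section factors fppf-locally. -/
lemma exists_lift_of_mono_of_local {A X : AlgSp.Sp S} (j : A ⟶ X) [Mono j] {V : Over S}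
    (a : (AlgSp.yon S).obj V ⟶ X)
    (h : ∀ v : V.left, ∃ (Z : Over S) (f : Z ⟶ V) (_ : Flat f.left)
      (_ : LocallyOfFinitePresentation f.left), v ∈ Set.range f.left ∧
      ∃ l : (AlgSp.yon S).obj Z ⟶ A, l ≫ j = (AlgSp.yon S).map f ≫ a) :
    ∃ l : (AlgSp.yon S).obj V ⟶ A, l ≫ j = a := by
  haveI : Mono (pullback.snd j a) := inferInstance
  haveI : Epi (pullback.snd j a) := by
    rw [← Sheaf.isLocallySurjective_iff_epi]
    constructor
    intro V₀ s
    obtain ⟨s', hs'⟩ : ∃ x : (AlgSp.yon S).obj V₀ ⟶ (AlgSp.yon S).obj V,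
        yEquiv V₀ ((AlgSp.yon S).obj V) x = s := ⟨(yEquiv V₀ _).symm s, Equiv.apply_symm_apply _ _⟩
    obtain ⟨s₀, rfl⟩ := (AlgSp.yon S).map_surjective s'
    choose Z f hfl hlfp hv hl using h
    choose l hl using hl
    have hmem : Sieve.ofArrows (fun v₀ : V₀.left => pullback s₀ (f (s₀.left v₀)))
        (fun v₀ => pullback.fst s₀ (f (s₀.left v₀))) ∈ AlgSp.J S V₀ := by
      rw [GrothendieckTopology.mem_over_iff, Sieve.overEquiv_ofArrows]
      apply Precoverage.generate_mem_toGrothendieck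
      rw [Scheme.fppfPrecoverage, Scheme.ofArrows_mem_precoverage_iff]
      refine ⟨fun v₀ => ?_, fun v₀ => ?_⟩
      · obtain ⟨z, hz⟩ := hv (s₀.left v₀)
        obtain ⟨p, hp, -⟩ := Scheme.exists_preimage_of_isPullback
          ((IsPullback.of_hasPullback s₀ (f (s₀.left v₀))).map (Over.forget S)) v₀ z hz.symm
        exact ⟨v₀, p, hp⟩
      · have hpb := (IsPullback.of_hasPullback s₀ (f (s₀.left v₀))).map (Over.forget S)
        exact ⟨MorphismProperty.of_isPullback (P := @Flat) hpb.flip (hfl _),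
          MorphismProperty.of_isPullback (P := @LocallyOfFinitePresentation) hpb.flip (hlfp _)⟩
    refine (AlgSp.J S).superset_covering ?_ hmem
    rw [Sieve.ofArrows, Sieve.generate_le_iff]
    rintro _ _ ⟨v₀⟩
    refine ⟨yEquiv _ _ (pullback.lift
      ((AlgSp.yon S).map (pullback.snd s₀ (f (s₀.left v₀))) ≫ l (s₀.left v₀))
      ((AlgSp.yon S).map (pullback.fst s₀ (f (s₀.left v₀)) ≫ s₀)) ?_), ?_⟩
    · rw [Category.assoc, hl, ← Category.assoc, ← Functor.map_comp, ← pullback.condition]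
    · rw [← hs']
      have h1 := yEquiv_comp (pullback.lift
        ((AlgSp.yon S).map (pullback.snd s₀ (f (s₀.left v₀))) ≫ l (s₀.left v₀))
        ((AlgSp.yon S).map (pullback.fst s₀ (f (s₀.left v₀)) ≫ s₀))
        (by rw [Category.assoc, hl, ← Category.assoc, ← Functor.map_comp, ← pullback.condition]))
        (pullback.snd j a)
      rw [pullback.lift_snd] at h1
      rw [← h1, Functor.map_comp]
      exact (ZarGlue.map_yEquiv _ _).symm
  haveI : IsIso (pullback.snd j a) := ToposLike.isIso_of_mono_of_epi _ inferInstance inferInstance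
  refine ⟨inv (pullback.snd j a) ≫ pullback.fst j a, ?_⟩
  rw [Category.assoc, pullback.condition, IsIso.inv_hom_id_assoc]

section Decomp

variable {T : Over S} {ι : Type u} (P : ι → AlgSp.Sp S) (q : ∀ k, P k ⟶ (AlgSp.yon S).obj T)

/-- `m` factors through the `k`-th summand. -/
def Lifts (k : ι) {V : Over S} (m : V ⟶ T) : Prop :=
  ∃ l : (AlgSp.yon S).obj V ⟶ P k, l ≫ q k = (AlgSp.yon S).map m

variable {P q}

lemma Lifts.precomp {k : ι} {V V' : Over S} {m : V ⟶ T} (h : Lifts P q k m) (n : V' ⟶ V) :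
    Lifts P q k (n ≫ m) := by
  obtain ⟨l, hl⟩ := h
  exact ⟨(AlgSp.yon S).map n ≫ l, by rw [Category.assoc, hl, Functor.map_comp]⟩

variable (hd : IsColimit (Cofan.mk ((AlgSp.yon S).obj T) q))

include hd in
lemma mono_q (k : ι) : Mono (q k) :=
  mono_of_cofan_isVanKampen (isVanKampen_cofan _ hd) ⟨k⟩

include hd in
lemma isPullback_initial {k k' : ι} (h : k ≠ k') :
    IsPullback (initial.to (P k)) (initial.to (P k')) (q k) (q k') :=
  isPullback_initial_to_of_cofan_isVanKampen (isVanKampen_cofan _ hd) ⟨k⟩ ⟨k'⟩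
    (fun e => h (congrArg Discrete.as e))

include hd in
/-- lifts to two summands over a common point force the summands to agree. -/
lemma eq_of_lifts {V V' : Over S} (m : V ⟶ T) (m' : V' ⟶ T) {k k' : ι} (h : Lifts P q k m)
    (h' : Lifts P q k' m') (v : V.left) (v' : V'.left) (hv : m.left v = m'.left v') : k = k' := by
  by_contra hne
  obtain ⟨l, hl⟩ := h
  obtain ⟨l', hl'⟩ := h'
  obtain ⟨z, -, -⟩ := Scheme.exists_preimage_of_isPullback
    ((IsPullback.of_hasPullback m m').map (Over.forget S)) v v' hv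
  have hw : ((AlgSp.yon S).map (pullback.fst m m') ≫ l) ≫ q k =
      ((AlgSp.yon S).map (pullback.snd m m') ≫ l') ≫ q k' := by
    rw [Category.assoc, hl, Category.assoc, hl', ← Functor.map_comp, ← Functor.map_comp,
      pullback.condition]
  have hempty : IsEmpty (pullback m m').left :=
    isEmpty_of_hom_initial ((isPullback_initial hd hne).lift _ _ hw)
  exact hempty.false z

/-- the open subset of `T` over which the `k`-th summand lives. -/
def Tk (P : ι → AlgSp.Sp S) (q : ∀ k, P k ⟶ (AlgSp.yon S).obj T) (k : ι) : Set T.left :=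
  {t | ∃ (V : Over S) (m : V ⟶ T) (_ : Flat m.left) (_ : LocallyOfFinitePresentation m.left),
    Lifts P q k m ∧ t ∈ Set.range m.left}

lemma isOpen_Tk (k : ι) : IsOpen (Tk P q k) := by
  rw [isOpen_iff_forall_mem_open]
  rintro t ⟨V, m, hfl, hlfp, hl, ht⟩
  haveI := hfl
  haveI := hlfp
  exact ⟨Set.range m.left, fun t' ht' => ⟨V, m, hfl, hlfp, hl, ht'⟩, m.left.isOpenMap.isOpen_range,
    ht⟩

include hd in
lemma exists_mem_Tk (t : T.left) : ∃ k, t ∈ Tk P q k := by
  obtain ⟨R, hR, hl⟩ := exists_cover_lift_of_cofan P q hd (𝟙 ((AlgSp.yon S).obj T))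
  have hsurj := (Presieve.mem_comap_jointlySurjectivePrecoverage_iff Scheme.forget).1 hR.1
  obtain ⟨V, g', hg', v, hv⟩ := hsurj t
  obtain ⟨k, l, hl⟩ := hl g' hg'
  have hfl := hR.2 hg'
  refine ⟨k, Over.mk (g' ≫ T.hom), Over.homMk g' rfl, hfl.1, hfl.2, ⟨l, ?_⟩, ⟨v, hv⟩⟩
  rw [hl, Category.comp_id]

include hd in
/-- `m` factors through the `k`-th summand iff it lands in `Tk k`. -/
lemma lifts_iff (k : ι) {V : Over S} (m : V ⟶ T) :
    Lifts P q k m ↔ Set.range m.left ⊆ Tk P q k := by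
  constructor
  · rintro h _ ⟨v, rfl⟩
    obtain ⟨k', V', m', hfl, hlfp, hl', v', hv'⟩ := exists_mem_Tk hd (m.left v)
    have := eq_of_lifts hd m m' h hl' v v' hv'.symm
    subst this
    exact ⟨V', m', hfl, hlfp, hl', v', hv'⟩
  · intro hsub
    haveI := mono_q hd k
    refine exists_lift_of_mono_of_local (q k) ((AlgSp.yon S).map m) (fun v => ?_)
    obtain ⟨V', m', hfl, hlfp, ⟨l', hl'⟩, v', hv'⟩ := hsub ⟨v, rfl⟩
    have hpb := (IsPullback.of_hasPullback m m').map (Over.forget S)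
    obtain ⟨z, hz, -⟩ := Scheme.exists_preimage_of_isPullback hpb v v' hv'.symm
    refine ⟨pullback m m', pullback.fst m m',
      MorphismProperty.of_isPullback (P := @Flat) hpb.flip hfl,
      MorphismProperty.of_isPullback (P := @LocallyOfFinitePresentation) hpb.flip hlfp,
      ⟨z, hz⟩, (AlgSp.yon S).map (pullback.snd m m') ≫ l', ?_⟩
    rw [Category.assoc, hl', ← Functor.map_comp, ← Functor.map_comp, pullback.condition]

include hd in
/-- the summands of a coproduct decomposition of a representable sheaf are open subschemes. -/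
theorem repWith_isOpenImmersion_q (k : ι) : AlgSp.RepWith @IsOpenImmersion (q k) := by
  haveI := mono_q hd k
  apply MorphismProperty.relative.of_exists
  intro T' g
  obtain ⟨m, rfl⟩ := (AlgSp.yon S).map_surjective g
  let W : T'.left.Opens := ⟨m.left ⁻¹' Tk P q k, (isOpen_Tk k).preimage m.left.continuous⟩
  let snd : Over.mk (W.ι ≫ T'.hom) ⟶ T' := Over.homMk W.ι rfl
  have hmemW : ∀ x : W.toScheme, W.ι x ∈ W := fun x => by
    have h2 : W.ι x ∈ Set.range W.ι := ⟨x, rfl⟩
    rw [W.range_ι] at h2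
    exact h2
  have hl : Lifts P q k (snd ≫ m) := by
    rw [lifts_iff hd]
    rintro _ ⟨x, rfl⟩
    exact hmemW x
  obtain ⟨fst, hfst⟩ := hl
  refine ⟨Over.mk (W.ι ≫ T'.hom), fst, snd, ?_, ?_⟩
  · have hw : fst ≫ q k = (AlgSp.yon S).map snd ≫ (AlgSp.yon S).map m := by
      rw [hfst, Functor.map_comp]
    apply isPullback_of_yon hw
    intro T'' b c hbc
    obtain ⟨c₀, rfl⟩ := (AlgSp.yon S).map_surjective c
    have hc : Lifts P q k (c₀ ≫ m) := ⟨b, by rw [hbc, Functor.map_comp]⟩
    rw [lifts_iff hd] at hc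
    have hrange : Set.range c₀.left ⊆ Set.range W.ι := by
      rw [W.range_ι]
      rintro _ ⟨t, rfl⟩
      exact hc ⟨t, rfl⟩
    let d₀ : T''.left ⟶ W.toScheme := IsOpenImmersion.lift W.ι c₀.left hrange
    have hd₀ : d₀ ≫ W.ι = c₀.left := IsOpenImmersion.lift_fac _ _ _
    let d : T'' ⟶ Over.mk (W.ι ≫ T'.hom) := Over.homMk d₀ (by
      show d₀ ≫ W.ι ≫ T'.hom = T''.hom
      rw [← Category.assoc, hd₀]; exact Over.w c₀)
    have hdι : d ≫ snd = c₀ := by ext1; exact hd₀
    refine ⟨(AlgSp.yon S).map d, ⟨?_, ?_⟩, ?_⟩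
    · rw [← cancel_mono (q k), Category.assoc, hw, ← Category.assoc, ← Functor.map_comp, hdι, hbc]
    · rw [← Functor.map_comp, hdι]
    · rintro a ⟨-, ha2⟩
      obtain ⟨a₀, rfl⟩ := (AlgSp.yon S).map_surjective a
      rw [← Functor.map_comp] at ha2
      have h := (AlgSp.yon S).map_injective ha2
      congr 1
      ext1
      rw [← cancel_mono W.ι]
      have h4 : a₀.left ≫ W.ι = c₀.left := congrArg (fun m => m.left) h
      rw [h4]; exact hd₀.symm
  · show IsOpenImmersion W.ι
    infer_instance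

include hd in
/-- every point of `T` lies in a summand. -/
lemma exists_mem_range_map_q (t : T.left) :
    ∃ k, AlgSp.Points.ofScheme T t ∈ Set.range (AlgSp.Points.map (q k)) := by
  obtain ⟨k, hk⟩ := exists_mem_Tk hd t
  refine ⟨k, ?_⟩
  let m : Over.mk (T.left.fromSpecResidueField t ≫ T.hom) ⟶ T :=
    Over.homMk (T.left.fromSpecResidueField t) rfl
  have hl : Lifts P q k m := by
    rw [lifts_iff hd]
    rintro _ ⟨x, rfl⟩
    have hx : m.left x = t := Scheme.fromSpecResidueField_apply _ _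
    rw [hx]
    exact hk
  obtain ⟨l, hl⟩ := hl
  obtain ⟨pt⟩ : Nonempty ↥(Spec (T.left.residueField t)) := inferInstance
  refine ⟨AlgSp.Points.ofPt l pt, ?_⟩
  rw [AlgSp.Points.map_ofPt, hl, ← Category.comp_id ((AlgSp.yon S).map m),
    Groth.Agent.S10176.ofPt_map_comp]
  congr 1
  exact Scheme.fromSpecResidueField_apply _ _

end Decomp

/-- **The coproduct injections of fppf sheaves form a Zariski covering.** -/
theorem isZarCover_inj {ι : Type u} {F : ι → AlgSp.Sp S} (c : Cofan F) (hc : IsColimit c) :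
    AlgSp.IsZarCover F c.inj := by
  have hdec : ∀ {T : Over S} (g : (AlgSp.yon S).obj T ⟶ c.pt),
      Nonempty (IsColimit (Cofan.mk ((AlgSp.yon S).obj T) (fun k => pullback.snd (c.inj k) g))) :=
    fun g => cofan_pullback c hc g (fun k => pullback.fst (c.inj k) g) _
      (fun k => IsPullback.of_hasPullback (c.inj k) g)
  refine ⟨fun k => ?_, fun x => ?_⟩
  · apply MorphismProperty.relative.of_exists
    intro T g
    obtain ⟨hd⟩ := hdec g
    have hq := repWith_isOpenImmersion_q hd k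
    obtain ⟨W, snd, fst', sq⟩ := hq.1 (𝟙 _)
    have h1 := sq.paste_horiz (IsPullback.of_hasPullback (c.inj k) g)
    rw [Category.id_comp] at h1
    exact ⟨W, _, snd, h1, hq.2 (𝟙 _) fst' snd sq⟩
  · induction x using AlgSp.Points.ind with | h p => ?_
    obtain ⟨hd⟩ := hdec p.toHom
    obtain ⟨k, y, hy⟩ := exists_mem_range_map_q hd (IsLocalRing.closedPoint p.K)
    refine ⟨k, AlgSp.Points.map (pullback.fst (c.inj k) p.toHom) y, ?_⟩
    rw [← AlgSp.Points.map_comp, pullback.condition, AlgSp.Points.map_comp, hy,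
      ← AlgSp.Points.ofPt_eq_map_ofScheme]
    exact AlgSp.Points.ofPt_toHom p _

/-- **A coproduct of algebraic spaces is an algebraic space.** -/
theorem isAlgSpace_cofan_pt {ι : Type u} (F : ι → AlgSp.Sp S) (h : ∀ i, AlgSp.IsAlgSpace (F i))
    (c : Cofan F) (hc : IsColimit c) : AlgSp.IsAlgSpace c.pt :=
  OpenCoverSp.isAlgSpace_of_zarCover F c.inj (isZarCover_inj c hc) h

end Groth.Agent.Lib.Helper12.CoprodSp
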