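import Mathlib
import Groth.Prelude.Def_NonAbH2
import Groth.Agent.Lib.Helper12BundleMap

/-!
Helper library (helper12): descent of cartesian squares along a cube whose vertical faces are
cartesian and whose vertical edges have sections locally for the fpqc topology.
-/

set_option autoImplicit false
set_option linter.style.haveILetI false
universe u

open CategoryTheory AlgebraicGeometry Limits

namespace Groth.Agent.Lib.Helper12.Cube

open Groth.Agent.Lib.Helper12.BundleMap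

variable {S : Scheme.{u}} {A B C D A' B' C' D' : Over S}

/-- **Cube lemma**: a commutative square `f, g, p, q` is cartesian if it is the bottom face of a
cube whose top face `f', g', p', q'` is cartesian, whose faces over `p`, `q` and `f ≫ p` are
cartesian, and whose vertical edges `δ : D' ⟶ D`, `α : A' ⟶ A` have sections locally for the
fpqc topology. -/
theorem isPullback_of_cube {f : A ⟶ B} {g : A ⟶ C} {p : B ⟶ D} {q : C ⟶ D}
    {f' : A' ⟶ B'} {g' : A' ⟶ C'} {p' : B' ⟶ D'} {q' : C' ⟶ D'}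
    {α : A' ⟶ A} {β : B' ⟶ B} {γ : C' ⟶ C} {δ : D' ⟶ D}
    (w : f ≫ p = g ≫ q) (top : IsPullback f' g' p' q')
    (faceB : IsPullback β p' p δ) (faceC : IsPullback γ q' q δ)
    (faceA : IsPullback α (f' ≫ p') (f ≫ p) δ)
    (hf : α ≫ f = f' ≫ β) (hg : α ≫ g = g' ≫ γ)
    (hδ : NonAbH1.IsLocallyTrivialFor Scheme.fpqcPrecoverage (Over.mk δ.left : Over D.left))
    (hα : NonAbH1.IsLocallyTrivialFor Scheme.fpqcPrecoverage (Over.mk α.left : Over A.left)) :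
    IsPullback f g p q := by
  -- joint monicity of `(f, g)`
  have hmono : ∀ {W : Over S} (z₁ z₂ : W ⟶ A), z₁ ≫ f = z₂ ≫ f → z₁ ≫ g = z₂ ≫ g → z₁ = z₂ := by
    intro W z₁ z₂ h1 h2
    have sq : IsPullback (pullback.fst z₁ α) (pullback.snd z₁ α) z₁ α :=
      IsPullback.of_hasPullback z₁ α
    obtain ⟨ρ, hρdef⟩ : ∃ ρ, ρ = pullback.fst z₁ α := ⟨_, rfl⟩
    obtain ⟨w₁, hw₁def⟩ : ∃ w₁, w₁ = pullback.snd z₁ α := ⟨_, rfl⟩
    rw [← hρdef, ← hw₁def] at sq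
    have hρ : NonAbH1.IsLocallyTrivialFor Scheme.fpqcPrecoverage
        (Over.mk ρ.left : Over W.left) :=
      isLocallyTrivialFor_of_isPullback (sq.map (Over.forget S)) hα
    haveI := epi_of_isLocallyTrivialFor ρ hρ
    have hw₁ : w₁ ≫ α = ρ ≫ z₁ := sq.w.symm
    -- the second lift
    have hc : (ρ ≫ z₂) ≫ f ≫ p = (w₁ ≫ f' ≫ p') ≫ δ := by
      calc (ρ ≫ z₂) ≫ f ≫ p = ρ ≫ (z₂ ≫ f) ≫ p := by simp only [Category.assoc]
        _ = ρ ≫ (z₁ ≫ f) ≫ p := by rw [h1]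
        _ = (ρ ≫ z₁) ≫ f ≫ p := by simp only [Category.assoc]
        _ = (w₁ ≫ α) ≫ f ≫ p := by rw [hw₁]
        _ = w₁ ≫ (α ≫ f ≫ p) := by simp only [Category.assoc]
        _ = w₁ ≫ ((f' ≫ p') ≫ δ) := by rw [faceA.w]
        _ = (w₁ ≫ f' ≫ p') ≫ δ := by simp only [Category.assoc]
    obtain ⟨w₂, hw₂1, hw₂2⟩ : ∃ w₂ : pullback z₁ α ⟶ A', w₂ ≫ α = ρ ≫ z₂ ∧
        w₂ ≫ f' ≫ p' = w₁ ≫ f' ≫ p' :=
      ⟨faceA.lift (ρ ≫ z₂) (w₁ ≫ f' ≫ p') hc, faceA.lift_fst _ _ _, faceA.lift_snd _ _ _⟩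
    have e : w₁ = w₂ := by
      apply top.hom_ext
      · apply faceB.hom_ext
        · rw [Category.assoc, Category.assoc, ← hf, reassoc_of% hw₁, reassoc_of% hw₂1, h1]
        · rw [Category.assoc, Category.assoc, hw₂2]
      · apply faceC.hom_ext
        · rw [Category.assoc, Category.assoc, ← hg, reassoc_of% hw₁, reassoc_of% hw₂1, h2]
        · rw [Category.assoc, Category.assoc, ← top.w, hw₂2]
    rw [← cancel_epi ρ, ← hw₁, ← hw₂1, e]
  refine isPullback_of_existsUnique_sq w ?_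
  intro T a b hab
  have sq : IsPullback (pullback.fst (a ≫ p) δ) (pullback.snd (a ≫ p) δ) (a ≫ p) δ :=
    IsPullback.of_hasPullback _ _
  obtain ⟨ρ, hρdef⟩ : ∃ ρ, ρ = pullback.fst (a ≫ p) δ := ⟨_, rfl⟩
  obtain ⟨g₀, hg₀def⟩ : ∃ g₀, g₀ = pullback.snd (a ≫ p) δ := ⟨_, rfl⟩
  rw [← hρdef, ← hg₀def] at sq
  have hρ : NonAbH1.IsLocallyTrivialFor Scheme.fpqcPrecoverage
      (Over.mk ρ.left : Over T.left) :=
    isLocallyTrivialFor_of_isPullback (sq.map (Over.forget S)) hδ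
  haveI := epi_of_isLocallyTrivialFor ρ hρ
  have hg₀ : ρ ≫ a ≫ p = g₀ ≫ δ := sq.w
  obtain ⟨u, hu1, hu2⟩ : ∃ u : pullback (a ≫ p) δ ⟶ B', u ≫ β = ρ ≫ a ∧ u ≫ p' = g₀ :=
    ⟨faceB.lift (ρ ≫ a) g₀ (by rw [Category.assoc, hg₀]), faceB.lift_fst _ _ _,
      faceB.lift_snd _ _ _⟩
  obtain ⟨v, hv1, hv2⟩ : ∃ v : pullback (a ≫ p) δ ⟶ C', v ≫ γ = ρ ≫ b ∧ v ≫ q' = g₀ :=
    ⟨faceC.lift (ρ ≫ b) g₀ (by rw [Category.assoc, ← hab, hg₀]), faceC.lift_fst _ _ _,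
      faceC.lift_snd _ _ _⟩
  obtain ⟨x, hx1, hx2⟩ : ∃ x : pullback (a ≫ p) δ ⟶ A', x ≫ f' = u ∧ x ≫ g' = v :=
    ⟨top.lift u v (by rw [hu2, hv2]), top.lift_fst _ _ _, top.lift_snd _ _ _⟩
  obtain ⟨z', hz'⟩ : ∃ z', z' = x ≫ α := ⟨_, rfl⟩
  have hz'f : z' ≫ f = ρ ≫ a := by rw [hz', Category.assoc, hf, reassoc_of% hx1, hu1]
  have hz'g : z' ≫ g = ρ ≫ b := by rw [hz', Category.assoc, hg, reassoc_of% hx2, hv1]
  obtain ⟨z, hz, -⟩ := existsUnique_desc_over ρ hρ z' (by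
    intro W p₁ p₂ h12
    apply hmono
    · rw [Category.assoc, Category.assoc, hz'f, ← Category.assoc, ← Category.assoc, h12]
    · rw [Category.assoc, Category.assoc, hz'g, ← Category.assoc, ← Category.assoc, h12])
  have hz1 : z ≫ f = a := by rw [← cancel_epi ρ, ← Category.assoc, hz, hz'f]
  have hz2 : z ≫ g = b := by rw [← cancel_epi ρ, ← Category.assoc, hz, hz'g]
  refine ⟨z, ⟨hz1, hz2⟩, ?_⟩
  rintro y ⟨hy1, hy2⟩
  exact hmono y z (hy1.trans hz1.symm) (hy2.trans hz2.symm)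

end Groth.Agent.Lib.Helper12.Cube
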