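import Mathlib
import Groth.Agent.Lib.Helper12LocPGen
import Groth.Agent.S9948
import Groth.Agent.S9928
import Groth.Agent.S10176

/-!
# Permanence properties of proper morphisms of algebraic spaces (helper12)
-/

set_option autoImplicit false
universe u
open CategoryTheory CategoryTheory.Limits AlgebraicGeometry
open AlgSp

namespace Groth.Agent.Lib.Helper12.Proper

open CategoryTheory.Limits Opposite MorphismProperty Groth.Agent.Lib.Helper12.LocPGen

variable {S : Scheme.{u}}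

/-! ### locally of finite type -/

lemma lft_hsrc {A B C : Scheme.{u}} (e : A ⟶ B) (k : B ⟶ C) [Etale e] [Surjective e]
    (h : LocallyOfFiniteType (e ≫ k)) : LocallyOfFiniteType k := by
  haveI := h
  exact Groth.Agent.Lib.Helper20.EtSrc.locallyOfFiniteType_of_etale_cover_source e k

lemma lft_hcancel {A B C : Scheme.{u}} (u : A ⟶ B) (k : B ⟶ C) (_ : Etale k)
    (h : LocallyOfFiniteType (u ≫ k)) : LocallyOfFiniteType u := by
  haveI := h
  exact locallyOfFiniteType_of_comp u k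

lemma locP_lft_comp {X Y Z : AlgSp.Sp S} (hY : AlgSp.IsAlgSpace Y) (hZ : AlgSp.IsAlgSpace Z)
    (f : X ⟶ Y) (g : Y ⟶ Z) (hf : AlgSp.LocP @LocallyOfFiniteType f)
    (hg : AlgSp.LocP @LocallyOfFiniteType g) : AlgSp.LocP @LocallyOfFiniteType (f ≫ g) :=
  locP_comp @LocallyOfFiniteType (fun e k _ _ h => lft_hsrc e k h) hY hZ f g hf hg

lemma locP_lft_baseChange {X Y X' Y' : AlgSp.Sp S} (hX : AlgSp.IsAlgSpace X)
    (hY : AlgSp.IsAlgSpace Y) (hY' : AlgSp.IsAlgSpace Y') {f : X ⟶ Y} {g : Y' ⟶ Y}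
    {fst : X' ⟶ X} {f' : X' ⟶ Y'} (sq : IsPullback fst f' f g)
    (hf : AlgSp.LocP @LocallyOfFiniteType f) : AlgSp.LocP @LocallyOfFiniteType f' :=
  locP_baseChange @LocallyOfFiniteType (fun g hg => by haveI := hg; infer_instance)
    (fun e k _ _ h => lft_hsrc e k h) (fun u k hk h => lft_hcancel u k hk h) hX hY hY' sq hf

/-! ### quasi-compact and universally closed morphisms -/

lemma isQuasiCompactMor_baseChange {X Y X' Y' : AlgSp.Sp S} {f : X ⟶ Y} {g : Y' ⟶ Y}
    {fst : X' ⟶ X} {f' : X' ⟶ Y'} (sq : IsPullback fst f' f g)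
    (hf : AlgSp.IsQuasiCompactMor f) : AlgSp.IsQuasiCompactMor f' := by
  intro Z Z' hZ hqc z a b sqZ
  exact hf hZ hqc (z ≫ g) (a ≫ fst) b (sqZ.paste_horiz sq)

lemma isUnivClosedMor_baseChange {X Y X' Y' : AlgSp.Sp S} {f : X ⟶ Y} {g : Y' ⟶ Y}
    {fst : X' ⟶ X} {f' : X' ⟶ Y'} (sq : IsPullback fst f' f g)
    (hf : AlgSp.IsUnivClosedMor f) : AlgSp.IsUnivClosedMor f' := by
  intro Z Z' hZ z a b sqZ
  exact hf hZ (z ≫ g) (a ≫ fst) b (sqZ.paste_horiz sq)

/-- factor a base change of a composite through the base change of the second map. -/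
lemma exists_factor_of_isPullback_comp {X Y Z0 T P : AlgSp.Sp S} (f : X ⟶ Y) (g : Y ⟶ Z0)
    (t : T ⟶ Z0) (a : P ⟶ X) (b : P ⟶ T) (sqP : IsPullback a b (f ≫ g) t) :
    ∃ l : P ⟶ pullback g t, l ≫ pullback.snd g t = b ∧ IsPullback a l f (pullback.fst g t) := by
  have hw : (a ≫ f) ≫ g = b ≫ t := by rw [Category.assoc]; exact sqP.w
  refine ⟨pullback.lift (a ≫ f) b hw, pullback.lift_snd _ _ _, ?_⟩
  have top : IsPullback (pullback.lift (a ≫ f) b hw) a (pullback.fst g t) f := by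
    refine IsPullback.of_right ?_ (pullback.lift_fst _ _ _) (IsPullback.of_hasPullback g t).flip
    rw [pullback.lift_snd]
    exact sqP.flip
  exact top.flip

lemma isQuasiCompactMor_comp {X Y Z0 : AlgSp.Sp S} (hY : AlgSp.IsAlgSpace Y)
    (hZ0 : AlgSp.IsAlgSpace Z0) (f : X ⟶ Y) (g : Y ⟶ Z0) (hf : AlgSp.IsQuasiCompactMor f)
    (hg : AlgSp.IsQuasiCompactMor g) : AlgSp.IsQuasiCompactMor (f ≫ g) := by
  intro T P hT hqc t a b sqP
  have hYT : AlgSp.IsAlgSpace (pullback g t) :=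
    Groth.Agent.S9874.isAlgSpace_of_isPullback hZ0.diag hY hT (IsPullback.of_hasPullback g t)
  have hYTqc : AlgSp.IsQuasiCompactSp (pullback g t) :=
    hg hT hqc t _ _ (IsPullback.of_hasPullback g t)
  obtain ⟨l, -, top⟩ := exists_factor_of_isPullback_comp f g t a b sqP
  exact hf hYT hYTqc (pullback.fst g t) a l top

lemma isUnivClosedMor_comp {X Y Z0 : AlgSp.Sp S} (hY : AlgSp.IsAlgSpace Y)
    (hZ0 : AlgSp.IsAlgSpace Z0) (f : X ⟶ Y) (g : Y ⟶ Z0) (hf : AlgSp.IsUnivClosedMor f)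
    (hg : AlgSp.IsUnivClosedMor g) : AlgSp.IsUnivClosedMor (f ≫ g) := by
  intro T P hT t a b sqP
  have hYT : AlgSp.IsAlgSpace (pullback g t) :=
    Groth.Agent.S9874.isAlgSpace_of_isPullback hZ0.diag hY hT (IsPullback.of_hasPullback g t)
  obtain ⟨l, hl, top⟩ := exists_factor_of_isPullback_comp f g t a b sqP
  have h1 : IsClosedMap (AlgSp.Points.map l) := hf hYT (pullback.fst g t) a l top
  have h2 : IsClosedMap (AlgSp.Points.map (pullback.snd g t)) :=
    hg hT t _ _ (IsPullback.of_hasPullback g t)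
  have e : AlgSp.Points.map b = AlgSp.Points.map (pullback.snd g t) ∘ AlgSp.Points.map l := by
    funext x
    rw [← hl, AlgSp.Points.map_comp]
    rfl
  change IsClosedMap (AlgSp.Points.map b)
  rw [e]
  exact h2.comp h1

/-! ### separated morphisms -/

lemma isSeparatedMor_comp {X Y Z : AlgSp.Sp S} (f : X ⟶ Y) (g : Y ⟶ Z)
    (hf : AlgSp.IsSeparatedMor f) (hg : AlgSp.IsSeparatedMor g) : AlgSp.IsSeparatedMor (f ≫ g) :=
  (AlgSp.RepWith @IsClosedImmersion).diagonal.comp_mem f g hf hg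

lemma isSeparatedMor_baseChange {X Y X' Y' : AlgSp.Sp S} {f : X ⟶ Y} {g : Y' ⟶ Y}
    {fst : X' ⟶ X} {f' : X' ⟶ Y'} (sq : IsPullback fst f' f g)
    (hf : AlgSp.IsSeparatedMor f) : AlgSp.IsSeparatedMor f' :=
  (AlgSp.RepWith @IsClosedImmersion).diagonal.of_isPullback sq hf

lemma isSeparatedMor_of_mono {X Y : AlgSp.Sp S} (i : X ⟶ Y) [Mono i] : AlgSp.IsSeparatedMor i := by
  haveI : IsIso (pullback.diagonal i) := (pullback.isIso_diagonal_iff i).2 inferInstance
  exact MorphismProperty.of_isIso (AlgSp.RepWith @IsClosedImmersion) (pullback.diagonal i)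

/-! ### closed immersions -/

/-- a representable closed immersion is a closed map on points. -/
lemma isClosedMap_of_repWith_isClosedImmersion {F G : AlgSp.Sp S} (j : F ⟶ G)
    (hj : AlgSp.RepWith @IsClosedImmersion j) : IsClosedMap (AlgSp.Points.map j) := by
  intro C hC
  rw [← isOpen_compl_iff, AlgSp.Points.isOpen_iff]
  intro T g
  obtain ⟨E, ε, e', sqE⟩ := hj.1 g
  haveI : IsClosedImmersion ε.left := hj.2 _ _ ε sqE
  have key : AlgSp.Points.ofPt g ⁻¹' (AlgSp.Points.map j '' C)ᶜ =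
      (ε.left '' (AlgSp.Points.ofPt e' ⁻¹' C))ᶜ := by
    ext t
    simp only [Set.mem_preimage, Set.mem_compl_iff, Set.mem_image, not_iff_not]
    constructor
    · rintro ⟨c, hc, hct⟩
      rw [AlgSp.Points.ofPt_eq_map_ofScheme] at hct
      obtain ⟨p, hp1, hp2⟩ := Groth.Agent.S10175.exists_point_of_isPullback sqE c
        (AlgSp.Points.ofScheme T t) hct
      obtain ⟨y, rfl⟩ := (AlgSp.Points.schemeHomeo E).surjective p
      refine ⟨y, ?_, ?_⟩
      · rw [AlgSp.Points.ofPt_eq_map_ofScheme]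
        have : AlgSp.Points.map e' (AlgSp.Points.ofScheme E y) = c := hp1
        rw [this]
        exact hc
      · apply (AlgSp.Points.schemeHomeo T).injective
        rw [← AlgSp.Points.map_yon_map_apply]
        exact hp2
    · rintro ⟨y, hy, rfl⟩
      refine ⟨AlgSp.Points.ofPt e' y, hy, ?_⟩
      rw [AlgSp.Points.map_ofPt, sqE.w, Groth.Agent.S10176.ofPt_map_comp]
  rw [key, isOpen_compl_iff]
  exact ε.left.isClosedEmbedding.isClosedMap _ (hC.preimage (AlgSp.Points.continuous_ofPt e'))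

lemma isUnivClosedMor_of_isClosedImmersion {F G : AlgSp.Sp S} (i : F ⟶ G)
    (hi : AlgSp.RepWith @IsClosedImmersion i) : AlgSp.IsUnivClosedMor i := by
  intro Z Z' hZ g a b sqZ
  exact isClosedMap_of_repWith_isClosedImmersion b
    (MorphismProperty.of_isPullback (P := AlgSp.RepWith @IsClosedImmersion) sqZ hi)

lemma isQuasiCompactMor_of_isClosedImmersion {F G : AlgSp.Sp S} (i : F ⟶ G)
    (hi : AlgSp.RepWith @IsClosedImmersion i) : AlgSp.IsQuasiCompactMor i := by
  intro Z Z' hZ hqc g a b sqZ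
  obtain ⟨W, w, hwe, hws, hW⟩ := hqc
  have hb : AlgSp.RepWith @IsClosedImmersion b :=
    MorphismProperty.of_isPullback (P := AlgSp.RepWith @IsClosedImmersion) sqZ hi
  obtain ⟨E, ε, e', sqE⟩ := hb.1 w
  haveI : IsClosedImmersion ε.left := hb.2 _ _ ε sqE
  haveI : CompactSpace ↥W.left := hW
  refine ⟨E, e', MorphismProperty.of_isPullback (P := AlgSp.RepWith @Etale) sqE.flip hwe,
    MorphismProperty.of_isPullback (P := AlgSp.RepWith @Surjective) sqE.flip hws, ?_⟩
  exact QuasiCompact.compactSpace_of_compactSpace ε.left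

lemma locP_lft_of_isClosedImmersion {X Y : AlgSp.Sp S} (hY : AlgSp.IsAlgSpace Y) (i : X ⟶ Y)
    (hi : AlgSp.RepWith @IsClosedImmersion i) : AlgSp.LocP @LocallyOfFiniteType i := by
  refine (Groth.Agent.S9948.locP_iff_repWith @LocallyOfFiniteType
    (fun g hg => by haveI := hg; infer_instance) hY i hi.1).2 ⟨hi.1, fun T W g pr w sq => ?_⟩
  haveI : IsClosedImmersion w.left := hi.2 _ _ w sq
  exact (inferInstance : LocallyOfFiniteType w.left)

lemma isProperMor_of_isClosedImmersion {X Y : AlgSp.Sp S} (hY : AlgSp.IsAlgSpace Y) (i : X ⟶ Y)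
    (hi : AlgSp.RepWith @IsClosedImmersion i) : AlgSp.IsProperMor i := by
  haveI : Mono i := Groth.Agent.S9928.mono_of_repWith @IsClosedImmersion
    (fun _ _ f hf => by haveI : IsClosedImmersion f := hf; infer_instance) i hi
  exact ⟨isSeparatedMor_of_mono i, ⟨locP_lft_of_isClosedImmersion hY i hi,
    isQuasiCompactMor_of_isClosedImmersion i hi⟩, isUnivClosedMor_of_isClosedImmersion i hi⟩

/-! ### proper morphisms -/

lemma isProperMor_baseChange {X Y X' Y' : AlgSp.Sp S} (hX : AlgSp.IsAlgSpace X)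
    (hY : AlgSp.IsAlgSpace Y) (hY' : AlgSp.IsAlgSpace Y') {f : X ⟶ Y} {g : Y' ⟶ Y}
    {fst : X' ⟶ X} {f' : X' ⟶ Y'} (sq : IsPullback fst f' f g)
    (hf : AlgSp.IsProperMor f) : AlgSp.IsProperMor f' :=
  ⟨isSeparatedMor_baseChange sq hf.1, ⟨locP_lft_baseChange hX hY hY' sq hf.2.1.1,
    isQuasiCompactMor_baseChange sq hf.2.1.2⟩, isUnivClosedMor_baseChange sq hf.2.2⟩

lemma isProperMor_comp {X Y Z : AlgSp.Sp S} (hY : AlgSp.IsAlgSpace Y) (hZ : AlgSp.IsAlgSpace Z)
    (f : X ⟶ Y) (g : Y ⟶ Z) (hf : AlgSp.IsProperMor f) (hg : AlgSp.IsProperMor g) :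
    AlgSp.IsProperMor (f ≫ g) :=
  ⟨isSeparatedMor_comp f g hf.1 hg.1, ⟨locP_lft_comp hY hZ f g hf.2.1.1 hg.2.1.1,
    isQuasiCompactMor_comp hY hZ f g hf.2.1.2 hg.2.1.2⟩,
    isUnivClosedMor_comp hY hZ f g hf.2.2 hg.2.2⟩

end Groth.Agent.Lib.Helper12.Proper
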