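import Mathlib

set_option autoImplicit false
universe u
open CategoryTheory CategoryTheory.Limits TensorProduct

namespace Groth.Agent.Lib.Helper12.FieldQuot

variable {K A : Type u} [Field K] [CommRing A]

/-- the subfield of `K` on which two ring homomorphisms to a commutative ring agree. -/
def eqField (s t : K →+* A) : Subfield K where
  carrier := {a | s a = t a}
  mul_mem' := by
    intro a b ha hb
    simp only [Set.mem_setOf_eq] at ha hb ⊢
    rw [map_mul, map_mul, ha, hb]
  one_mem' := by simp
  add_mem' := by
    intro a b ha hb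
    simp only [Set.mem_setOf_eq] at ha hb ⊢
    rw [map_add, map_add, ha, hb]
  zero_mem' := by simp
  neg_mem' := by
    intro a ha
    simp only [Set.mem_setOf_eq] at ha ⊢
    rw [map_neg, map_neg, ha]
  inv_mem' := by
    intro a ha
    simp only [Set.mem_setOf_eq] at ha ⊢
    by_cases h0 : a = 0
    · subst h0; simp
    · have h1 : s a⁻¹ * s a = 1 := by rw [← map_mul, inv_mul_cancel₀ h0, map_one]
      have h2 : t a * t a⁻¹ = 1 := by rw [← map_mul, mul_inv_cancel₀ h0, map_one]
      calc s a⁻¹ = s a⁻¹ * (t a * t a⁻¹) := by rw [h2, mul_one]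
        _ = (s a⁻¹ * s a) * t a⁻¹ := by rw [ha, mul_assoc]
        _ = t a⁻¹ := by rw [h1, one_mul]

lemma mem_eqField {s t : K →+* A} {a : K} : a ∈ eqField s t ↔ s a = t a := Iff.rfl

/-- a type synonym used to carry a second algebra structure. -/
def TSide (A : Type u) : Type u := A

instance : CommRing (TSide A) := inferInstanceAs (CommRing A)

/-- the transitivity property of the pair `(s, t)`. -/
def IsTrans (s t : K →+* A) : Prop :=
  ∀ (B : Type u) [CommRing B] (r1 r2 : A →+* B), r1.comp t = r2.comp s →
    ∃ r3 : A →+* B, r3.comp s = r1.comp s ∧ r3.comp t = r2.comp t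

theorem linearIndependent_comp (s t : K →+* A) [Nontrivial A] (H : IsTrans s t) :
    ∀ {n : ℕ} (y : Fin n → K), LinearIndependent (eqField s t) y →
      @LinearIndependent (Fin n) K A (fun j => t (y j)) _ _ s.toAlgebra.toModule := by
  letI algS : Algebra K A := s.toAlgebra
  letI algT : Algebra K (TSide A) := RingHom.toAlgebra (t : K →+* TSide A)
  intro n
  induction n with
  | zero => intro y _; exact linearIndependent_empty_type
  | succ n ih =>
    intro y hy
    rw [linearIndependent_fin_succ] at hy ⊢
    obtain ⟨hy1, hy2⟩ := hy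
    have hv := ih (Fin.tail y) hy1
    refine ⟨hv, ?_⟩
    intro hmem
    rw [Submodule.mem_span_range_iff_exists_fun] at hmem
    obtain ⟨c, hc⟩ := hmem
    have hc' : ∑ i, s (c i) * t (Fin.tail y i) = t (y 0) := by
      rw [← hc]
      refine Finset.sum_congr rfl (fun i _ => ?_)
      rw [Algebra.smul_def]
      rfl
    -- the two ring homomorphisms to the tensor product
    let r1 : A →+* (TSide A ⊗[K] A) :=
      (Algebra.TensorProduct.includeLeft : TSide A →ₐ[K] TSide A ⊗[K] A).toRingHom
    let r2 : A →+* (TSide A ⊗[K] A) :=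
      (Algebra.TensorProduct.includeRight : A →ₐ[K] TSide A ⊗[K] A).toRingHom
    have hr12 : r1.comp t = r2.comp s := by
      ext x
      show (algebraMap K (TSide A) x) ⊗ₜ[K] (1 : A) = (1 : TSide A) ⊗ₜ[K] (algebraMap K A x)
      rw [Algebra.TensorProduct.tmul_one_eq_one_tmul]
    obtain ⟨r3, h3s, h3t⟩ := H _ r1 r2 hr12
    have e3 : ∑ i, r1 (s (c i)) * r2 (t (Fin.tail y i)) = r2 (t (y 0)) := by
      have := congrArg r3 hc'
      rw [map_sum] at this
      rw [show r2 (t (y 0)) = r3 (t (y 0)) from (RingHom.congr_fun h3t (y 0)).symm, ← this]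
      refine Finset.sum_congr rfl (fun i _ => ?_)
      rw [map_mul]
      congr 1
      · exact (RingHom.congr_fun h3s (c i)).symm
      · exact (RingHom.congr_fun h3t _).symm
    have e2 : ∑ i, r1 (t (c i)) * r2 (t (Fin.tail y i)) = r2 (t (y 0)) := by
      have := congrArg r2 hc'
      rw [map_sum] at this
      rw [← this]
      refine Finset.sum_congr rfl (fun i _ => ?_)
      rw [map_mul]
      congr 1
      exact RingHom.congr_fun hr12 (c i)
    let d : Fin n → TSide A := fun i => s (c i) - t (c i)
    have hsum : ∑ i, d i • ((1 : TSide A) ⊗ₜ[K] (t (Fin.tail y i) : A)) = 0 := by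
      have h0 : ∑ i, (r1 (s (c i)) * r2 (t (Fin.tail y i)) -
          r1 (t (c i)) * r2 (t (Fin.tail y i))) = 0 := by
        rw [Finset.sum_sub_distrib, e3, e2, sub_self]
      rw [← h0]
      refine Finset.sum_congr rfl (fun i _ => ?_)
      rw [← sub_mul, ← map_sub]
      show _ = (d i) ⊗ₜ[K] (1 : A) * ((1 : TSide A) ⊗ₜ[K] (t (Fin.tail y i) : A))
      rw [Algebra.TensorProduct.tmul_mul_tmul, mul_one, one_mul, TensorProduct.smul_tmul',
        smul_eq_mul, mul_one]
    have hind : LinearIndependent (TSide A) (fun i => (1 : TSide A) ⊗ₜ[K] (t (Fin.tail y i) : A)) :=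
      Module.Flat.linearIndependent_one_tmul (S := TSide A) hv
    have hd := Fintype.linearIndependent_iff.1 hind _ hsum
    have hck : ∀ i, c i ∈ eqField s t := fun i => sub_eq_zero.1 (hd i)
    apply hy2
    rw [Submodule.mem_span_range_iff_exists_fun]
    refine ⟨fun i => ⟨c i, hck i⟩, ?_⟩
    have hinj : Function.Injective t := t.injective
    apply hinj
    rw [← hc', map_sum]
    refine Finset.sum_congr rfl (fun i _ => ?_)
    rw [Subfield.smul_def, smul_eq_mul, map_mul]
    congr 1
    exact (hck i).symm

/-- `K` is finite over the subfield on which `s` and `t` agree. -/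
theorem finite_eqField (s t : K →+* A) [Nontrivial A] (H : IsTrans s t)
    (hfin : @Module.Finite K A _ _ s.toAlgebra.toModule) : Module.Finite (eqField s t) K := by
  letI algS : Algebra K A := s.toAlgebra
  haveI : Module.Finite K A := hfin
  rw [← Module.rank_lt_aleph0_iff]
  refine lt_of_le_of_lt (rank_le (n := Module.finrank K A) ?_) (Cardinal.nat_lt_aleph0 _)
  intro F hF
  -- reindex by `Fin`
  have e := F.equivFin
  have hF' : LinearIndependent (eqField s t) (fun j : Fin F.card => ((e.symm j : F) : K)) :=
    hF.comp _ e.symm.injective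
  have := linearIndependent_comp s t H _ hF'
  have h2 := this.fintype_card_le_finrank
  simpa using h2

/-- the jointly-epimorphic property of the pair `(s, t)`. -/
def IsJointlyEpi (s t : K →+* A) : Prop :=
  ∀ (B : Type u) [CommRing B] (r r' : A →+* B), r.comp s = r'.comp s → r.comp t = r'.comp t →
    r = r'

/-- **the quotient of a field by a finite equivalence relation**: `A` is the tensor square of `K`
over the subfield on which `s` and `t` agree. -/
theorem isPushout_eqField (s t : K →+* A) [Nontrivial A] (H : IsTrans s t)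
    (hepi : IsJointlyEpi s t)
    (hfin : @Module.Finite K A _ _ s.toAlgebra.toModule) :
    IsPushout (CommRingCat.ofHom (algebraMap (eqField s t) K))
      (CommRingCat.ofHom (algebraMap (eqField s t) K))
      (CommRingCat.ofHom s) (CommRingCat.ofHom t) := by
  letI algS : Algebra K A := s.toAlgebra
  haveI : Module.Finite K A := hfin
  haveI := finite_eqField s t H hfin
  letI algk : Algebra (eqField s t) A := (s.comp (algebraMap (eqField s t) K)).toAlgebra
  let sK : K →ₐ[eqField s t] A := ⟨s, fun _ => rfl⟩
  let tK : K →ₐ[eqField s t] A := ⟨t, fun x => (x.2 : s x = t x).symm⟩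
  let ψ : K ⊗[eqField s t] K →ₐ[eqField s t] A := Algebra.TensorProduct.productMap sK tK
  have hψ : ∀ a b : K, ψ (a ⊗ₜ b) = s a * t b := fun a b => by
    simp [ψ, sK, tK]
  -- injectivity
  have hinj : Function.Injective ψ := by
    rw [injective_iff_map_eq_zero]
    intro z hz
    classical
    let b := Module.finBasis (eqField s t) K
    have hind := linearIndependent_comp s t H _ b.linearIndependent
    let E := TensorProduct.equivFinsuppOfBasisRight (M := K) b
    have hzE : z = (E z).sum fun i m => m ⊗ₜ[eqField s t] b i := by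
      rw [← TensorProduct.equivFinsuppOfBasisRight_symm_apply, LinearEquiv.symm_apply_apply]
    have h0 : ∑ i, (E z) i • t (b i) = 0 := by
      have : ψ z = ∑ i, (E z) i • t (b i) := by
        conv_lhs => rw [hzE]
        rw [Finsupp.sum_fintype _ _ (fun i => by simp), map_sum]
        refine Finset.sum_congr rfl (fun i _ => ?_)
        rw [hψ, Algebra.smul_def]
        rfl
      rw [← this, hz]
    have hE : E z = 0 := by
      ext i
      exact Fintype.linearIndependent_iff.1 hind _ h0 i
    exact E.injective (by rw [hE, map_zero])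
  -- surjectivity
  have hsurj : Function.Surjective ψ := by
    haveI : Epi (CommRingCat.ofHom ψ.toRingHom) := by
      refine ⟨fun {T} g h e => ?_⟩
      apply CommRingCat.hom_ext
      have e' : ∀ z, g.hom (ψ z) = h.hom (ψ z) := fun z =>
        RingHom.congr_fun (congrArg CommRingCat.Hom.hom e) z
      refine hepi _ g.hom h.hom ?_ ?_
      · ext a
        have := e' (a ⊗ₜ 1)
        rwa [hψ, map_one, mul_one] at this
      · ext a
        have := e' (1 ⊗ₜ a)
        rwa [hψ, map_one, one_mul] at this
    have hfinψ : RingHom.Finite (CommRingCat.ofHom ψ.toRingHom).hom := by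
      have h1 : RingHom.Finite (ψ.toRingHom.comp
          (Algebra.TensorProduct.includeLeftRingHom : K →+* K ⊗[eqField s t] K)) := by
        have : ψ.toRingHom.comp
            (Algebra.TensorProduct.includeLeftRingHom : K →+* K ⊗[eqField s t] K) = s := by
          ext a
          show ψ (a ⊗ₜ 1) = s a
          rw [hψ, map_one, mul_one]
        rw [this]
        exact hfin
      exact RingHom.Finite.of_comp_finite h1
    exact RingHom.surjective_of_epi_of_finite (CommRingCat.ofHom ψ.toRingHom) hfinψ
  let e : K ⊗[eqField s t] K ≃+* A := RingEquiv.ofBijective ψ.toRingHom ⟨hinj, hsurj⟩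
  refine (CommRingCat.isPushout_tensorProduct (eqField s t) K K).of_iso (Iso.refl _) (Iso.refl _)
    (Iso.refl _) e.toCommRingCatIso (by simp) (by simp) ?_ ?_
  · ext a
    show ψ (a ⊗ₜ 1) = s a
    rw [hψ, map_one, mul_one]
  · ext a
    show ψ (1 ⊗ₜ a) = t a
    rw [hψ, map_one, one_mul]

end Groth.Agent.Lib.Helper12.FieldQuot
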