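import Mathlib
import Groth.Prelude.Def_AlgSp
import Groth.Agent.Lib.Helper12ZarGlue

set_option autoImplicit false
universe u
open CategoryTheory CategoryTheory.Limits AlgebraicGeometry Opposite
open AlgSp

namespace Groth.Agent.Lib.Helper12.MonoFactor

open Groth.Agent.S13210 Groth.Agent.Lib.Helper12.ZarGlue

variable {S : Scheme.{u}}

/-- an open cover of a scheme over `S` is a covering sieve. -/
lemma ofArrows_opens_mem {W : Over S} {κ : Type u} (O : κ → W.left.Opens)
    (hO : ∀ w : W.left, ∃ k, w ∈ O k) :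
    Sieve.ofArrows (fun k => Over.mk ((O k).ι ≫ W.hom))
      (fun k => (Over.homMk (O k).ι rfl : Over.mk ((O k).ι ≫ W.hom) ⟶ W)) ∈ AlgSp.J S W := by
  rw [GrothendieckTopology.mem_over_iff, Sieve.overEquiv_ofArrows]
  apply Precoverage.generate_mem_toGrothendieck
  rw [Scheme.fppfPrecoverage, Scheme.ofArrows_mem_precoverage_iff]
  refine ⟨fun x => ?_, fun k => ⟨?_, ?_⟩⟩
  · obtain ⟨k, hk⟩ := hO x
    exact ⟨k, ⟨x, hk⟩, rfl⟩
  · exact (inferInstance : Flat (O k).ι)
  · exact (inferInstance : LocallyOfFinitePresentation (O k).ι)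

/-- factorizations through a monomorphism of sheaves glue along open covers of the source. -/
theorem exists_factor_of_openCover {G H : AlgSp.Sp S} (i : G ⟶ H) [Mono i] {W : Over S}
    (φ : (AlgSp.yon S).obj W ⟶ H)
    (h : ∀ w : W.left, ∃ O : W.left.Opens, w ∈ O ∧
      ∃ d : (AlgSp.yon S).obj (Over.mk (O.ι ≫ W.hom)) ⟶ G,
        d ≫ i = (AlgSp.yon S).map (Over.homMk O.ι rfl : Over.mk (O.ι ≫ W.hom) ⟶ W) ≫ φ) :
    ∃ d : (AlgSp.yon S).obj W ⟶ G, d ≫ i = φ := by
  choose O hO d hd using h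
  have hmem := ofArrows_opens_mem O (fun w => ⟨w, hO w⟩)
  have hshG : Presieve.IsSheaf (AlgSp.J S) G.obj := (isSheaf_iff_isSheaf_of_type _ _).1 G.property
  have hshH : Presieve.IsSheaf (AlgSp.J S) H.obj := (isSheaf_iff_isSheaf_of_type _ _).1 H.property
  have h1 := hshG.isSheafFor _ hmem
  rw [Presieve.isSheafFor_arrows_iff] at h1
  obtain ⟨t, ht, -⟩ := h1 (fun w => yEquiv _ G (d w)) (by
    intro w w' Z gi gj hg
    rw [map_yEquiv, map_yEquiv]
    congr 1
    rw [← cancel_mono i, Category.assoc, Category.assoc, hd, hd, ← Functor.map_comp_assoc,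
      ← Functor.map_comp_assoc, hg])
  refine ⟨(yEquiv _ G).symm t, ?_⟩
  apply (yEquiv _ H).injective
  refine (hshH.isSheafFor _ hmem).isSeparatedFor.ext ?_
  intro Y f hf
  obtain ⟨w⟩ := hf
  rw [map_yEquiv, map_yEquiv, ← hd, ← Category.assoc]
  congr 2
  apply (yEquiv _ G).injective
  rw [← map_yEquiv, Equiv.apply_symm_apply]
  exact ht w

end Groth.Agent.Lib.Helper12.MonoFactor
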