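import Mathlib
import Groth.Agent.Lib.Helper12FieldQuot
import Groth.Agent.Lib.Helper12MonoFactor
import Groth.Agent.S10175
import Groth.Prelude.Def_AlgSpDec

set_option autoImplicit false
universe u
open CategoryTheory CategoryTheory.Limits AlgebraicGeometry Opposite
open AlgSp

namespace Groth.Agent.Lib.Helper12.PointQuot

open Groth.Agent.S13210 Groth.Agent.Lib.Helper12.ZarGlue Groth.Agent.Lib.Helper12.FieldQuot

variable {S : Scheme.{u}}

noncomputable section
variable {X : AlgSp.Sp S} {K : Type u} [Field K] {str : Spec (CommRingCat.of K) ⟶ S}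
  {q : (AlgSp.yon S).obj (Over.mk str) ⟶ X} {A : CommRingCat.{u}} {s t : CommRingCat.of K ⟶ A}
  {hst : Spec.map t ≫ str = Spec.map s ≫ str}

/-- the object `Spec B` over `S` through a ring homomorphism `K → B`. -/
abbrev obj (str : Spec (CommRingCat.of K) ⟶ S) {B : Type u} [CommRing B] (a : K →+* B) : Over S :=
  Over.mk (Spec.map (CommRingCat.ofHom a) ≫ str)

/-- the morphism `Spec B ⟶ Spec K` over `S`. -/
abbrev toK (str : Spec (CommRingCat.of K) ⟶ S) {B : Type u} [CommRing B] (a : K →+* B) :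
    obj str a ⟶ Over.mk str :=
  Over.homMk (Spec.map (CommRingCat.ofHom a)) rfl

lemma isTrans_of_isPullback
    (sq : IsPullback
      ((AlgSp.yon S).map (Over.homMk (Spec.map s) rfl : Over.mk (Spec.map s ≫ str) ⟶ Over.mk str))
      ((AlgSp.yon S).map (Over.homMk (Spec.map t) hst : Over.mk (Spec.map s ≫ str) ⟶ Over.mk str))
      q q) : IsTrans s.hom t.hom := by
  intro B _ r1 r2 h
  -- the two points of `G`
  let Z : Over S := obj str (r1.comp s.hom)
  let ρ1 : Z ⟶ Over.mk (Spec.map s ≫ str) := Over.homMk (Spec.map (CommRingCat.ofHom r1)) (by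
    show Spec.map (CommRingCat.ofHom r1) ≫ Spec.map s ≫ str = _
    rw [← Spec.map_comp_assoc]; rfl)
  let ρ2 : Z ⟶ Over.mk (Spec.map s ≫ str) := Over.homMk (Spec.map (CommRingCat.ofHom r2)) (by
    show Spec.map (CommRingCat.ofHom r2) ≫ Spec.map s ≫ str =
      Spec.map (CommRingCat.ofHom (r1.comp s.hom)) ≫ str
    have e1 : Spec.map (CommRingCat.ofHom r2) ≫ Spec.map s =
        Spec.map (CommRingCat.ofHom r1) ≫ Spec.map t := by
      rw [← Spec.map_comp, ← Spec.map_comp]
      congr 1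
      apply CommRingCat.hom_ext
      exact h.symm
    rw [← Category.assoc, e1, Category.assoc, hst, ← Spec.map_comp_assoc]; rfl)
  obtain ⟨p1, hp1⟩ : ∃ p1 : Over.mk (Spec.map s ≫ str) ⟶ Over.mk str,
      p1 = Over.homMk (Spec.map s) rfl := ⟨_, rfl⟩
  obtain ⟨p2, hp2⟩ : ∃ p2 : Over.mk (Spec.map s ≫ str) ⟶ Over.mk str,
      p2 = Over.homMk (Spec.map t) hst := ⟨_, rfl⟩
  rw [← hp1, ← hp2] at sq
  have h12 : ρ1 ≫ p2 = ρ2 ≫ p1 := by
    apply Over.OverMorphism.ext
    rw [hp1, hp2]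
    show Spec.map (CommRingCat.ofHom r1) ≫ Spec.map t =
      Spec.map (CommRingCat.ofHom r2) ≫ Spec.map s
    rw [← Spec.map_comp, ← Spec.map_comp]
    congr 1
    apply CommRingCat.hom_ext
    exact h
  have hcond : (AlgSp.yon S).map (ρ1 ≫ p1) ≫ q = (AlgSp.yon S).map (ρ2 ≫ p2) ≫ q := by
    rw [Functor.map_comp, Category.assoc, sq.w, ← Category.assoc, ← Functor.map_comp, h12,
      Functor.map_comp, Category.assoc, sq.w, ← Category.assoc, ← Functor.map_comp]
  obtain ⟨γ, hγ⟩ := (AlgSp.yon S).map_surjective (sq.lift _ _ hcond)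
  have hγ1 : γ ≫ p1 = ρ1 ≫ p1 := by
    apply (AlgSp.yon S).map_injective
    rw [Functor.map_comp, hγ, sq.lift_fst]
  have hγ2 : γ ≫ p2 = ρ2 ≫ p2 := by
    apply (AlgSp.yon S).map_injective
    rw [Functor.map_comp, hγ, sq.lift_snd]
  refine ⟨(Spec.preimage γ.left).hom, ?_, ?_⟩
  · have := congrArg (fun m => m.left) hγ1
    rw [hp1] at this
    change γ.left ≫ Spec.map s = Spec.map (CommRingCat.ofHom r1) ≫ Spec.map s at this
    rw [← Spec.map_preimage γ.left, ← Spec.map_comp, ← Spec.map_comp] at this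
    have h' := Spec.map_injective this
    exact congrArg CommRingCat.Hom.hom h'
  · have := congrArg (fun m => m.left) hγ2
    rw [hp2] at this
    change γ.left ≫ Spec.map t = Spec.map (CommRingCat.ofHom r2) ≫ Spec.map t at this
    rw [← Spec.map_preimage γ.left, ← Spec.map_comp, ← Spec.map_comp] at this
    have h' := Spec.map_injective this
    exact congrArg CommRingCat.Hom.hom h'

lemma isJointlyEpi_of_isPullback
    (sq : IsPullback
      ((AlgSp.yon S).map (Over.homMk (Spec.map s) rfl : Over.mk (Spec.map s ≫ str) ⟶ Over.mk str))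
      ((AlgSp.yon S).map (Over.homMk (Spec.map t) hst : Over.mk (Spec.map s ≫ str) ⟶ Over.mk str))
      q q) : IsJointlyEpi s.hom t.hom := by
  intro B _ r r' h1 h2
  let Z : Over S := obj str (r.comp s.hom)
  let ρ : Z ⟶ Over.mk (Spec.map s ≫ str) := Over.homMk (Spec.map (CommRingCat.ofHom r)) (by
    show Spec.map (CommRingCat.ofHom r) ≫ Spec.map s ≫ str = _
    rw [← Spec.map_comp_assoc]; rfl)
  let ρ' : Z ⟶ Over.mk (Spec.map s ≫ str) := Over.homMk (Spec.map (CommRingCat.ofHom r')) (by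
    show Spec.map (CommRingCat.ofHom r') ≫ Spec.map s ≫ str =
      Spec.map (CommRingCat.ofHom (r.comp s.hom)) ≫ str
    rw [← Spec.map_comp_assoc, h1]; rfl)
  have e : (AlgSp.yon S).map ρ = (AlgSp.yon S).map ρ' := by
    apply sq.hom_ext
    · rw [← Functor.map_comp, ← Functor.map_comp]
      congr 1
      apply Over.OverMorphism.ext
      show Spec.map (CommRingCat.ofHom r) ≫ Spec.map s =
        Spec.map (CommRingCat.ofHom r') ≫ Spec.map s
      rw [← Spec.map_comp, ← Spec.map_comp]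
      congr 1
      apply CommRingCat.hom_ext
      exact h1
    · rw [← Functor.map_comp, ← Functor.map_comp]
      congr 1
      apply Over.OverMorphism.ext
      show Spec.map (CommRingCat.ofHom r) ≫ Spec.map t =
        Spec.map (CommRingCat.ofHom r') ≫ Spec.map t
      rw [← Spec.map_comp, ← Spec.map_comp]
      congr 1
      apply CommRingCat.hom_ext
      exact h2
  have e' := (AlgSp.yon S).map_injective e
  have e'' : Spec.map (CommRingCat.ofHom r) = Spec.map (CommRingCat.ofHom r') :=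
    congrArg (fun m => m.left) e'
  exact congrArg CommRingCat.Hom.hom (Spec.map_injective e'')

lemma nontrivial_of_isPullback
    (sq : IsPullback
      ((AlgSp.yon S).map (Over.homMk (Spec.map s) rfl : Over.mk (Spec.map s ≫ str) ⟶ Over.mk str))
      ((AlgSp.yon S).map (Over.homMk (Spec.map t) hst : Over.mk (Spec.map s ≫ str) ⟶ Over.mk str))
      q q) : Nontrivial A := by
  obtain ⟨δ, -⟩ := (AlgSp.yon S).map_surjective
    (sq.lift ((AlgSp.yon S).map (𝟙 (Over.mk str))) ((AlgSp.yon S).map (𝟙 (Over.mk str))) rfl)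
  exact (Spec.preimage δ.left).hom.domain_nontrivial

/-- **the quotient of a field point by a finite equivalence relation.**  If the self fibre
product of `q : Spec K ⟶ X` over the sheaf `X` is the spectrum of a finite `K`-algebra, then `q`
factors through a monomorphism `Spec k ⟶ X` for a subfield `k` of `K` with `K / k` finite. -/
theorem exists_mono_quotient
    (sq : IsPullback
      ((AlgSp.yon S).map (Over.homMk (Spec.map s) rfl : Over.mk (Spec.map s ≫ str) ⟶ Over.mk str))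
      ((AlgSp.yon S).map (Over.homMk (Spec.map t) hst : Over.mk (Spec.map s ≫ str) ⟶ Over.mk str))
      q q) (hfin : s.hom.Finite) :
    ∃ (k : Type u) (_ : Field k) (str' : Spec (CommRingCat.of k) ⟶ S)
      (π : Over.mk str ⟶ Over.mk str') (q₀ : (AlgSp.yon S).obj (Over.mk str') ⟶ X),
      (AlgSp.yon S).map π ≫ q₀ = q ∧ Mono q₀ ∧ IsFinite π.left := by
  haveI := nontrivial_of_isPullback sq
  have HT := isTrans_of_isPullback sq
  have HE := isJointlyEpi_of_isPullback sq
  have hfin' : @Module.Finite K A _ _ s.hom.toAlgebra.toModule := hfin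
  have hpo := isPushout_eqField s.hom t.hom HT HE hfin'
  haveI hkK := finite_eqField s.hom t.hom HT hfin'
  obtain ⟨ι, hι⟩ : ∃ ι : CommRingCat.of (eqField s.hom t.hom) ⟶ CommRingCat.of K,
      ι = CommRingCat.ofHom (algebraMap (eqField s.hom t.hom) K) := ⟨_, rfl⟩
  have hpb : IsPullback (Spec.map s) (Spec.map t) (Spec.map ι) (Spec.map ι) := by
    rw [hι]
    exact isPullback_SpecMap_of_isPushout _ _ _ _ hpo
  -- the structure morphism of `Spec k`
  obtain ⟨φ, hφdef⟩ : ∃ φ : S.presheaf.stalk (str (IsLocalRing.closedPoint K)) ⟶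
      CommRingCat.of K, φ = Scheme.stalkClosedPointTo str := ⟨_, rfl⟩
  have hφ : Spec.map φ ≫ S.fromSpecStalk _ = str := by
    rw [hφdef]; exact Scheme.Spec_stalkClosedPointTo_fromSpecStalk str
  have hφst : φ ≫ s = φ ≫ t := by
    have h1 : Spec.map s ≫ Spec.map φ ≫ S.fromSpecStalk _ =
        Spec.map t ≫ Spec.map φ ≫ S.fromSpecStalk _ := by rw [hφ, hst]
    rw [← Category.assoc, ← Category.assoc, cancel_mono, ← Spec.map_comp, ← Spec.map_comp] at h1
    exact Spec.map_injective h1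
  have hφk : ∀ a, φ.hom a ∈ eqField s.hom t.hom := fun a =>
    RingHom.congr_fun (congrArg CommRingCat.Hom.hom hφst) a
  obtain ⟨φ₀, hφ₀⟩ : ∃ φ₀ : S.presheaf.stalk (str (IsLocalRing.closedPoint K)) ⟶
      CommRingCat.of (eqField s.hom t.hom), φ₀ ≫ ι = φ :=
    ⟨CommRingCat.ofHom (φ.hom.codRestrict (eqField s.hom t.hom) hφk), by
      rw [hι]; apply CommRingCat.hom_ext; ext a; rfl⟩
  obtain ⟨str', hstr'⟩ : ∃ str' : Spec (CommRingCat.of (eqField s.hom t.hom)) ⟶ S,
      str' = Spec.map φ₀ ≫ S.fromSpecStalk _ := ⟨_, rfl⟩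
  have hstr : Spec.map ι ≫ str' = str := by
    rw [hstr', ← Category.assoc, ← Spec.map_comp, hφ₀, hφ]
  obtain ⟨π, hπ⟩ : ∃ π : Over.mk str ⟶ Over.mk str', π = Over.homMk (Spec.map ι) hstr := ⟨_, rfl⟩
  have hπleft : π.left = Spec.map ι := by rw [hπ]; rfl
  have hιfin : ι.hom.Finite := by
    rw [hι]
    show (algebraMap (eqField s.hom t.hom) K).Finite
    rw [RingHom.finite_algebraMap]
    exact hkK
  haveI hπfin : IsFinite π.left := by
    rw [hπleft, IsFinite.SpecMap_iff]
    exact hιfin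
  haveI hπflat : Flat π.left := by
    rw [hπleft, HasRingHomProperty.Spec_iff (P := @Flat), hι]
    show (algebraMap (eqField s.hom t.hom) K).Flat
    rw [RingHom.flat_algebraMap_iff]
    infer_instance
  haveI hπlfp : LocallyOfFinitePresentation π.left := by
    rw [hπleft, HasRingHomProperty.Spec_iff (P := @LocallyOfFinitePresentation), hι]
    show (algebraMap (eqField s.hom t.hom) K).FinitePresentation
    rw [RingHom.finitePresentation_algebraMap]
    exact Algebra.FinitePresentation.of_finiteType.1 inferInstance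
  haveI hπsurj : Surjective π.left := by
    refine ⟨fun x => ⟨IsLocalRing.closedPoint K, ?_⟩⟩
    exact (inferInstance : Subsingleton (PrimeSpectrum (eqField s.hom t.hom))).elim _ _
  have hmem : Sieve.ofArrows (fun _ : PUnit.{u+1} => Over.mk str) (fun _ => π) ∈
      AlgSp.J S (Over.mk str') := by
    rw [GrothendieckTopology.mem_over_iff, Sieve.overEquiv_ofArrows]
    apply Precoverage.generate_mem_toGrothendieck
    rw [Scheme.fppfPrecoverage, Scheme.ofArrows_mem_precoverage_iff]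
    refine ⟨fun x => ⟨PUnit.unit, ?_⟩, fun _ => ⟨?_, ?_⟩⟩
    · exact hπsurj.surj x
    · exact hπflat
    · exact hπlfp
  obtain ⟨p1, hp1⟩ : ∃ p1 : Over.mk (Spec.map s ≫ str) ⟶ Over.mk str,
      p1 = Over.homMk (Spec.map s) rfl := ⟨_, rfl⟩
  obtain ⟨p2, hp2⟩ : ∃ p2 : Over.mk (Spec.map s ≫ str) ⟶ Over.mk str,
      p2 = Over.homMk (Spec.map t) hst := ⟨_, rfl⟩
  rw [← hp1, ← hp2] at sq
  -- every pair of `π`-equivalent points of `Spec K` comes from `G`
  have hpair : ∀ (Z : Over S) (g1 g2 : Z ⟶ Over.mk str), g1 ≫ π = g2 ≫ π →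
      (AlgSp.yon S).map g1 ≫ q = (AlgSp.yon S).map g2 ≫ q := by
    intro Z g1 g2 h12
    have h12' : g1.left ≫ Spec.map ι = g2.left ≫ Spec.map ι := by
      have := congrArg (fun m => m.left) h12
      rw [← hπleft]; exact this
    let g : Z ⟶ Over.mk (Spec.map s ≫ str) := Over.homMk (hpb.lift g1.left g2.left h12') (by
      show hpb.lift g1.left g2.left h12' ≫ Spec.map s ≫ str = Z.hom
      rw [← Category.assoc, hpb.lift_fst]
      exact Over.w g1)
    have hg1 : g ≫ p1 = g1 := by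
      apply Over.OverMorphism.ext
      rw [hp1]
      exact hpb.lift_fst _ _ _
    have hg2 : g ≫ p2 = g2 := by
      apply Over.OverMorphism.ext
      rw [hp2]
      exact hpb.lift_snd _ _ _
    rw [← hg1, ← hg2, Functor.map_comp, Functor.map_comp, Category.assoc, Category.assoc, sq.w]
  have hsh : Presieve.IsSheaf (AlgSp.J S) X.obj := (isSheaf_iff_isSheaf_of_type _ _).1 X.property
  have h1 := hsh.isSheafFor _ hmem
  rw [Presieve.isSheafFor_arrows_iff] at h1
  obtain ⟨τ, hτ, -⟩ := h1 (fun _ => yEquiv _ X q) (by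
    intro _ _ Z gi gj hg
    rw [map_yEquiv, map_yEquiv, hpair Z gi gj hg])
  have hq₀ : (AlgSp.yon S).map π ≫ (yEquiv _ X).symm τ = q := by
    apply (yEquiv _ X).injective
    rw [← map_yEquiv, Equiv.apply_symm_apply]
    exact hτ PUnit.unit
  refine ⟨eqField s.hom t.hom, inferInstance, str', π, (yEquiv _ X).symm τ, hq₀, ?_, hπfin⟩
  obtain ⟨q₀, hq₀def⟩ : ∃ q₀, q₀ = (yEquiv (Over.mk str') X).symm τ := ⟨_, rfl⟩
  rw [← hq₀def] at hq₀ ⊢
  have h12π : p1 ≫ π = p2 ≫ π := by
    apply Over.OverMorphism.ext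
    rw [hp1, hp2]
    show Spec.map s ≫ π.left = Spec.map t ≫ π.left
    rw [hπleft]
    exact hpb.w
  suffices H : ∀ {T : Over S} {a b : (AlgSp.yon S).obj T ⟶ (AlgSp.yon S).obj (Over.mk str')},
      a ≫ q₀ = b ≫ q₀ → a = b by
    refine ⟨fun {Z} a b hab => Groth.Agent.S9928.sp_hom_ext a b fun T x => H ?_⟩
    simp only [Category.assoc, hab]
  intro T a b hab
  obtain ⟨α, rfl⟩ := (AlgSp.yon S).map_surjective a
  obtain ⟨β, rfl⟩ := (AlgSp.yon S).map_surjective b
  congr 1
  -- base change to `Spec K` twice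
  have hpbL : ∀ {T' : Over S} (γ : T' ⟶ Over.mk str'),
      Flat (pullback.fst γ π).left ∧ Surjective (pullback.fst γ π).left := by
    intro T' γ
    have hsq : IsPullback (pullback.fst γ π).left (pullback.snd γ π).left γ.left π.left :=
      (IsPullback.of_hasPullback γ π).map (Over.forget S)
    exact ⟨MorphismProperty.of_isPullback (P := @Flat) hsq.flip hπflat,
      MorphismProperty.of_isPullback (P := @Surjective) hsq.flip hπsurj⟩
  obtain ⟨T1, f1, a1, hf1, hfl1, hsj1⟩ : ∃ (T1 : Over S) (f1 : T1 ⟶ T) (a1 : T1 ⟶ Over.mk str),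
      f1 ≫ α = a1 ≫ π ∧ Flat f1.left ∧ Surjective f1.left :=
    ⟨pullback α π, pullback.fst α π, pullback.snd α π, pullback.condition, (hpbL α).1, (hpbL α).2⟩
  obtain ⟨T2, f2, b2, hf2, hfl2, hsj2⟩ : ∃ (T2 : Over S) (f2 : T2 ⟶ T1) (b2 : T2 ⟶ Over.mk str),
      f2 ≫ (f1 ≫ β) = b2 ≫ π ∧ Flat f2.left ∧ Surjective f2.left :=
    ⟨pullback (f1 ≫ β) π, pullback.fst (f1 ≫ β) π, pullback.snd (f1 ≫ β) π, pullback.condition,
      (hpbL (f1 ≫ β)).1, (hpbL (f1 ≫ β)).2⟩
  have hcond : (AlgSp.yon S).map (f2 ≫ a1) ≫ q = (AlgSp.yon S).map b2 ≫ q := by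
    have e1 : (f2 ≫ a1) ≫ π = (f2 ≫ f1) ≫ α := by
      rw [Category.assoc, ← hf1, Category.assoc]
    have e2 : b2 ≫ π = (f2 ≫ f1) ≫ β := by
      rw [← hf2, Category.assoc]
    calc (AlgSp.yon S).map (f2 ≫ a1) ≫ q
        = (AlgSp.yon S).map ((f2 ≫ a1) ≫ π) ≫ q₀ := by
          rw [(AlgSp.yon S).map_comp (f2 ≫ a1) π, Category.assoc, hq₀]
      _ = (AlgSp.yon S).map (f2 ≫ f1) ≫ (AlgSp.yon S).map α ≫ q₀ := by
          rw [e1, (AlgSp.yon S).map_comp (f2 ≫ f1) α, Category.assoc]
      _ = (AlgSp.yon S).map (f2 ≫ f1) ≫ (AlgSp.yon S).map β ≫ q₀ := by rw [hab]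
      _ = (AlgSp.yon S).map (b2 ≫ π) ≫ q₀ := by
          rw [e2, (AlgSp.yon S).map_comp (f2 ≫ f1) β, Category.assoc]
      _ = (AlgSp.yon S).map b2 ≫ q := by
          rw [(AlgSp.yon S).map_comp b2 π, Category.assoc, hq₀]
  obtain ⟨g, hg⟩ := (AlgSp.yon S).map_surjective (sq.lift _ _ hcond)
  have hg1 : g ≫ p1 = f2 ≫ a1 := by
    apply (AlgSp.yon S).map_injective
    rw [Functor.map_comp, hg, sq.lift_fst]
  have hg2 : g ≫ p2 = b2 := by
    apply (AlgSp.yon S).map_injective
    rw [Functor.map_comp, hg, sq.lift_snd]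
  have key : (f2 ≫ f1) ≫ α = (f2 ≫ f1) ≫ β := by
    rw [Category.assoc, hf1, ← Category.assoc, ← hg1, Category.assoc, h12π, ← Category.assoc, hg2,
      ← hf2, Category.assoc]
  haveI : Flat (f2 ≫ f1).left := by
    show Flat (f2.left ≫ f1.left); infer_instance
  haveI : Surjective (f2 ≫ f1).left := by
    show Surjective (f2.left ≫ f1.left); infer_instance
  haveI : Epi (f2 ≫ f1).left := Flat.epi_of_flat_of_surjective _
  haveI : Epi (f2 ≫ f1) := (Over.forget S).epi_of_epi_map (by assumption)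
  exact (cancel_epi (f2 ≫ f1)).1 key

end

/-- **field points with finite self fibre product.**  If `p` is a field-valued point of the sheaf
`X` whose self fibre product is a scheme `G` finite over `Spec K` (through the first projection),
then the point of `p` is represented by a monomorphism `Spec k ⟶ X`, through which `p` factors by a
finite morphism `Spec K ⟶ Spec k`. -/
theorem exists_mono_fieldPt {X : AlgSp.Sp S} (p : AlgSp.FieldPt X) {G : Over S}
    (pr1 pr2 : G ⟶ p.pt)
    (sq : IsPullback ((AlgSp.yon S).map pr1) ((AlgSp.yon S).map pr2) p.toHom p.toHom)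
    [IsFinite pr1.left] :
    ∃ p₀ : AlgSp.FieldPt X, AlgSp.Points.mk p₀ = AlgSp.Points.mk p ∧ Mono p₀.toHom ∧
      ∃ π : p.pt ⟶ p₀.pt, (AlgSp.yon S).map π ≫ p₀.toHom = p.toHom ∧ IsFinite π.left := by
  haveI : IsAffine p.pt.left := (inferInstance : IsAffine (Spec (CommRingCat.of p.K)))
  haveI : IsAffine G.left := isAffine_of_isAffineHom pr1.left
  obtain ⟨s, hs⟩ : ∃ s : CommRingCat.of p.K ⟶ Γ(G.left, ⊤), Spec.map s = G.left.isoSpec.inv ≫ pr1.left :=
    ⟨Spec.preimage (G.left.isoSpec.inv ≫ pr1.left), Spec.map_preimage _⟩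
  obtain ⟨t, ht⟩ : ∃ t : CommRingCat.of p.K ⟶ Γ(G.left, ⊤), Spec.map t = G.left.isoSpec.inv ≫ pr2.left :=
    ⟨Spec.preimage (G.left.isoSpec.inv ≫ pr2.left), Spec.map_preimage _⟩
  have hst : Spec.map t ≫ p.str = Spec.map s ≫ p.str := by
    rw [hs, ht, Category.assoc, Category.assoc]
    congr 1
    exact (Over.w pr2).trans (Over.w pr1).symm
  -- the isomorphism `Spec A ≅ G` over `S`
  let ε : Over.mk (Spec.map s ≫ p.str) ≅ G := Over.isoMk G.left.isoSpec.symm (by
    show G.left.isoSpec.inv ≫ G.hom = Spec.map s ≫ p.str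
    rw [hs, Category.assoc]
    congr 1
    exact (Over.w pr1).symm)
  have h1 : ε.hom ≫ pr1 = (Over.homMk (Spec.map s) rfl : Over.mk (Spec.map s ≫ p.str) ⟶ p.pt) := by
    apply Over.OverMorphism.ext
    exact hs.symm
  have h2 : ε.hom ≫ pr2 = (Over.homMk (Spec.map t) hst : Over.mk (Spec.map s ≫ p.str) ⟶ p.pt) := by
    apply Over.OverMorphism.ext
    exact ht.symm
  have sq' : IsPullback
      ((AlgSp.yon S).map (Over.homMk (Spec.map s) rfl : Over.mk (Spec.map s ≫ p.str) ⟶ p.pt))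
      ((AlgSp.yon S).map (Over.homMk (Spec.map t) hst : Over.mk (Spec.map s ≫ p.str) ⟶ p.pt))
      p.toHom p.toHom := by
    rw [← h1, ← h2, Functor.map_comp, Functor.map_comp]
    exact IsPullback.of_iso sq ((AlgSp.yon S).mapIso ε).symm (Iso.refl _) (Iso.refl _) (Iso.refl _)
      (by simp) (by simp) (by simp) (by simp)
  have hfin : s.hom.Finite := by
    rw [← IsFinite.SpecMap_iff, hs]
    infer_instance
  obtain ⟨k, hk, str', π, q₀, hq₀, hm, hπ⟩ := exists_mono_quotient sq' hfin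
  letI := hk
  refine ⟨⟨k, str', yEquiv _ X q₀⟩, ?_, ?_, π, ?_, hπ⟩
  · have := Groth.Agent.S10175.mk_restrict (⟨k, str', yEquiv _ X q₀⟩ : AlgSp.FieldPt X) p.str π
    rw [← this]
    congr 1
    show (⟨p.K, p.str, _⟩ : AlgSp.FieldPt X) = p
    have hv : X.obj.map π.op (yEquiv _ X q₀) = p.val := by
      rw [map_yEquiv, hq₀]
      exact AlgSp.FieldPt.uliftYonedaEquiv_toHom p
    rw [hv]
    rfl
  · show Mono ((yEquiv _ X).symm (yEquiv _ X q₀))
    rw [Equiv.symm_apply_apply]; exact hm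
  · show (AlgSp.yon S).map π ≫ (yEquiv _ X).symm (yEquiv _ X q₀) = _
    rw [Equiv.symm_apply_apply]; exact hq₀

end Groth.Agent.Lib.Helper12.PointQuot
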