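import Mathlib
import Groth.Agent.Lib.Helper12PointQuot
import Groth.Agent.S10176
import Groth.Agent.S10265

set_option autoImplicit false
universe u
open CategoryTheory CategoryTheory.Limits AlgebraicGeometry Opposite
open AlgSp

namespace Groth.Agent.Lib.Helper12.MonoPoint

open Groth.Agent.S13210

variable {S : Scheme.{u}}

/-- every morphism from the spectrum of a field is quasi-compact. -/
lemma quasiCompact_of_field {L : Type u} [Field L] {V : Scheme.{u}}
    (a : Spec (CommRingCat.of L) ⟶ V) : QuasiCompact a := by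
  refine ⟨fun U _ _ => ?_⟩
  haveI : Finite ↥(Spec (CommRingCat.of L)) :=
    (inferInstance : Finite (PrimeSpectrum L))
  exact (Set.toFinite _).isCompact

/-- the field-valued point defined by a morphism from the spectrum of a field. -/
noncomputable abbrev fieldPtOf {X : AlgSp.Sp S} (L : Type u) [Field L]
    (strL : Spec (CommRingCat.of L) ⟶ S) (q : (AlgSp.yon S).obj (Over.mk strL) ⟶ X) :
    AlgSp.FieldPt X := ⟨L, strL, yEquiv _ X q⟩

lemma toHom_fieldPtOf {X : AlgSp.Sp S} (L : Type u) [Field L]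
    (strL : Spec (CommRingCat.of L) ⟶ S) (q : (AlgSp.yon S).obj (Over.mk strL) ⟶ X) :
    (fieldPtOf L strL q).toHom = q := Equiv.symm_apply_apply _ _

/-- **finite relation fibre ⇒ monomorphic point.**  Let `φ : h_V ⟶ X` be representable etale with
`R = V ×_X V`, and let `a, b : Spec L ⟶ V` be two locally quasi-finite morphisms from the spectrum
of a field with the same composite `q` to `X`, such that only finitely many points of `R` lie over
the pair of image points.  Then the point of `X` defined by `q` is represented by a monomorphism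
`Spec k ⟶ X`, and `q` factors through it by a finite morphism `Spec L ⟶ Spec k`. -/
theorem exists_mono_of_pair {X : AlgSp.Sp S} {V : Over S} (φ : (AlgSp.yon S).obj V ⟶ X)
    (hφ : AlgSp.RepWith @Etale φ) {R : Over S} (s t : R ⟶ V)
    (sqR : IsPullback ((AlgSp.yon S).map t) ((AlgSp.yon S).map s) φ φ)
    (L : Type u) [Field L] (strL : Spec (CommRingCat.of L) ⟶ S) (a b : Over.mk strL ⟶ V)
    [LocallyQuasiFinite a.left] [LocallyQuasiFinite b.left]
    (hab : (AlgSp.yon S).map a ≫ φ = (AlgSp.yon S).map b ≫ φ)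
    (hfin : {r : ↥R.left | s.left r = a.left (IsLocalRing.closedPoint L) ∧
      t.left r = b.left (IsLocalRing.closedPoint L)}.Finite) :
    ∃ (p₀ : AlgSp.FieldPt X) (π : Over.mk strL ⟶ p₀.pt), Mono p₀.toHom ∧
        (AlgSp.yon S).map π ≫ p₀.toHom = (AlgSp.yon S).map a ≫ φ ∧ IsFinite π.left ∧
        AlgSp.Points.mk p₀ = AlgSp.Points.ofPt φ (a.left (IsLocalRing.closedPoint L)) := by
  have hpa : (fieldPtOf L strL ((AlgSp.yon S).map a ≫ φ)).toHom = (AlgSp.yon S).map a ≫ φ :=
    toHom_fieldPtOf _ _ _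
  have hpb : (fieldPtOf L strL ((AlgSp.yon S).map a ≫ φ)).toHom = (AlgSp.yon S).map b ≫ φ :=
    hpa.trans hab
  haveI hs : Etale s.left := hφ.2 _ _ s sqR
  -- the two fibre products in `Over S`
  obtain ⟨G1, fst1, snd1, sq1⟩ : ∃ (G1 : Over S) (fst1 : G1 ⟶ R)
      (snd1 : G1 ⟶ Over.mk strL), IsPullback fst1 snd1 s a :=
    ⟨_, _, _, IsPullback.of_hasPullback s a⟩
  obtain ⟨G2, fst2, snd2, sq2⟩ : ∃ (G2 : Over S) (fst2 : G2 ⟶ G1)
      (snd2 : G2 ⟶ Over.mk strL), IsPullback fst2 snd2 (fst1 ≫ t) b :=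
    ⟨_, _, _, IsPullback.of_hasPullback (fst1 ≫ t) b⟩
  have sq1' := sq1.map (AlgSp.yon S)
  have sq2' := sq2.map (AlgSp.yon S)
  have P1 : IsPullback ((AlgSp.yon S).map snd1) ((AlgSp.yon S).map (fst1 ≫ t))
      (fieldPtOf L strL ((AlgSp.yon S).map a ≫ φ)).toHom φ := by
    have := sq1'.flip.paste_vert sqR.flip
    rw [← Functor.map_comp, ← hpa] at this
    exact this
  have P2 : IsPullback ((AlgSp.yon S).map snd2) ((AlgSp.yon S).map (fst2 ≫ snd1))
      (fieldPtOf L strL ((AlgSp.yon S).map a ≫ φ)).toHom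
      (fieldPtOf L strL ((AlgSp.yon S).map a ≫ φ)).toHom := by
    have := sq2'.flip.paste_vert P1.flip
    rw [← Functor.map_comp, ← hpb] at this
    exact this
  -- scheme-level squares
  have sq1s : IsPullback fst1.left snd1.left s.left a.left := sq1.map (Over.forget S)
  have sq2s : IsPullback fst2.left snd2.left (fst1 ≫ t).left b.left := sq2.map (Over.forget S)
  haveI : QuasiCompact a.left := quasiCompact_of_field (V := V.left) a.left
  haveI : QuasiCompact b.left := quasiCompact_of_field (V := V.left) b.left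
  haveI : LocallyQuasiFinite fst1.left :=
    MorphismProperty.of_isPullback (P := @LocallyQuasiFinite) sq1s.flip inferInstance
  haveI : LocallyQuasiFinite fst2.left :=
    MorphismProperty.of_isPullback (P := @LocallyQuasiFinite) sq2s.flip inferInstance
  haveI : QuasiCompact fst1.left :=
    MorphismProperty.of_isPullback (P := @QuasiCompact) sq1s.flip inferInstance
  haveI : QuasiCompact fst2.left :=
    MorphismProperty.of_isPullback (P := @QuasiCompact) sq2s.flip inferInstance
  haveI : Etale snd1.left :=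
    MorphismProperty.of_isPullback (P := @Etale) sq1s hs
  -- `G2` has finitely many points
  have hpt : ∀ z : ↥(Over.mk strL).left, z = IsLocalRing.closedPoint L := fun z =>
    (inferInstance : Subsingleton (PrimeSpectrum L)).elim _ _
  have hG2 : (Set.univ : Set ↥G2.left).Finite := by
    have h1 := (fst2.left ≫ fst1.left).finite_preimage hfin
    refine h1.subset ?_
    intro γ _
    constructor
    · have h1 := congrArg (fun m => m.left) sq1.w
      have h1' : (fst1.left ≫ s.left) (fst2.left γ) = (snd1.left ≫ a.left) (fst2.left γ) :=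
        congrArg (fun m : G1.left ⟶ V.left => m (fst2.left γ)) h1
      rw [Scheme.Hom.comp_apply, Scheme.Hom.comp_apply, hpt (snd1.left (fst2.left γ))] at h1'
      rw [Scheme.Hom.comp_apply]
      exact h1'
    · have h2 := congrArg (fun m => m.left) sq2.w
      have h2' : (fst2.left ≫ (fst1 ≫ t).left) γ = (snd2.left ≫ b.left) γ :=
        congrArg (fun m : G2.left ⟶ V.left => m γ) h2
      rw [Scheme.Hom.comp_apply, Scheme.Hom.comp_apply, hpt (snd2.left γ)] at h2'
      rw [Scheme.Hom.comp_apply]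
      exact h2'
  haveI : IsLocallyArtinian (Over.mk strL).left :=
    (inferInstance : IsLocallyArtinian (Spec (CommRingCat.of L)))
  haveI : QuasiSeparatedSpace ↥(Over.mk strL).left :=
    (inferInstance : QuasiSeparatedSpace ↥(Spec (CommRingCat.of L)))
  haveI : CompactSpace ↥G2.left := by
    haveI : Finite ↥G2.left := Set.finite_univ_iff.1 hG2
    infer_instance
  haveI : LocallyQuasiFinite snd1.left := Groth.Agent.S10265.locallyQuasiFinite_of_unramified _
  haveI : LocallyQuasiFinite (fst2 ≫ snd1).left := by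
    show LocallyQuasiFinite (fst2.left ≫ snd1.left)
    infer_instance
  haveI : QuasiCompact (fst2 ≫ snd1).left := quasiCompact_of_compactSpace _
  haveI : IsFinite (fst2 ≫ snd1).left := IsFinite.of_locallyQuasiFinite _
  obtain ⟨p₀, hp₀, hm, π, hπ, hπfin⟩ := Groth.Agent.Lib.Helper12.PointQuot.exists_mono_fieldPt
    (fieldPtOf L strL ((AlgSp.yon S).map a ≫ φ)) (fst2 ≫ snd1) snd2 P2.flip
  refine ⟨p₀, π, hm, hπ.trans hpa, hπfin, ?_⟩
  rw [hp₀]
  have h1 := Groth.Agent.S10176.ofPt_map_comp a φ (IsLocalRing.closedPoint L)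
  have h2 := AlgSp.Points.ofPt_toHom (fieldPtOf L strL ((AlgSp.yon S).map a ≫ φ))
    (IsLocalRing.closedPoint L)
  rw [← h1, ← h2]
  congr 1

/-- the special case of one point `u` of `V` with finitely many points of `R` over `(u, u)`. -/
theorem exists_mono_point {X : AlgSp.Sp S} {V : Over S} (φ : (AlgSp.yon S).obj V ⟶ X)
    (hφ : AlgSp.RepWith @Etale φ) (u : ↥V.left) {R : Over S} (s t : R ⟶ V)
    (sqR : IsPullback ((AlgSp.yon S).map t) ((AlgSp.yon S).map s) φ φ)
    (hfin : {r : ↥R.left | s.left r = u ∧ t.left r = u}.Finite) :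
    ∃ (p₀ : AlgSp.FieldPt X) (π : Over.mk (V.left.fromSpecResidueField u ≫ V.hom) ⟶ p₀.pt),
      Mono p₀.toHom ∧
        (AlgSp.yon S).map π ≫ p₀.toHom =
          (AlgSp.yon S).map (Over.homMk (V.left.fromSpecResidueField u) rfl :
            Over.mk (V.left.fromSpecResidueField u ≫ V.hom) ⟶ V) ≫ φ ∧ IsFinite π.left ∧
        AlgSp.Points.mk p₀ = AlgSp.Points.ofPt φ u := by
  obtain ⟨ιu, hιu⟩ : ∃ ιu : Over.mk (V.left.fromSpecResidueField u ≫ V.hom) ⟶ V,
      ιu = Over.homMk (V.left.fromSpecResidueField u) rfl := ⟨_, rfl⟩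
  have hleft : ιu.left = V.left.fromSpecResidueField u := by rw [hιu]; rfl
  haveI : LocallyQuasiFinite ιu.left := by rw [hleft]; infer_instance
  have hu : ιu.left (IsLocalRing.closedPoint (V.left.residueField u)) = u := by
    rw [hleft]; exact Scheme.fromSpecResidueField_apply _ _
  obtain ⟨p₀, π, hm, hπ, hπfin, hp₀⟩ := exists_mono_of_pair φ hφ s t sqR
    (V.left.residueField u) (V.left.fromSpecResidueField u ≫ V.hom) ιu ιu rfl (by
      rw [hu]; exact hfin)
  refine ⟨p₀, π, hm, ?_, hπfin, ?_⟩
  · rw [hπ, hιu]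
  · rw [hp₀, hu]

end Groth.Agent.Lib.Helper12.MonoPoint
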