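import Mathlib
import Groth.Agent.Lib.Helper12MonoPoint
import Groth.Agent.Lib.Helper12AtlasDescent
import Groth.Agent.Lib.Helper12QcPoint
import Groth.Agent.S10177

set_option autoImplicit false
universe u
open CategoryTheory CategoryTheory.Limits AlgebraicGeometry Opposite
open AlgSp

namespace Groth.Agent.Lib.Helper12.DecentPoint

variable {S : Scheme.{u}}

/-- every point of an algebraic space lies in the image of an etale chart from an affine scheme. -/
lemma exists_affine_chart {X : AlgSp.Sp S} (hX : AlgSp.IsAlgSpace X) (x : AlgSp.Points X) :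
    ∃ (V : Over S) (b : (AlgSp.yon S).obj V ⟶ X) (v : ↥V.left), IsAffine V.left ∧
      AlgSp.RepWith @Etale b ∧ AlgSp.Points.ofPt b v = x := by
  obtain ⟨A, a, hae, has⟩ := hX.atlas
  obtain ⟨u₀, rfl⟩ := Groth.Agent.S10177.surjective_ofPt a has x
  obtain ⟨A₀, hA₀, huA, -⟩ : ∃ V : A.left.Opens, V ∈ A.left.affineOpens ∧ u₀ ∈ V ∧ V ≤ ⊤ :=
    TopologicalSpace.Opens.isBasis_iff_nbhd.1 A.left.isBasis_affineOpens
      (TopologicalSpace.Opens.mem_top u₀)
  let V : Over S := Over.mk (A₀.ι ≫ A.hom)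
  let j : V ⟶ A := Over.homMk A₀.ι rfl
  have hb : AlgSp.RepWith @Etale ((AlgSp.yon S).map j ≫ a) :=
    (AlgSp.RepWith @Etale).comp_mem _ _
      ((AlgSp.repWith_yon_map_iff _ _).2 (inferInstance : Etale A₀.ι)) hae
  obtain ⟨v₀, hv₀⟩ : ∃ v₀ : ↥V.left, j.left v₀ = u₀ := ⟨⟨u₀, huA⟩, rfl⟩
  refine ⟨V, _, v₀, hA₀, hb, ?_⟩
  rw [Groth.Agent.S10176.ofPt_map_comp, hv₀]

/-- **a point with finite relation fibre and finite fibres in all affine etale charts is
represented by a quasi-compact monomorphism from the spectrum of a field.** -/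
theorem exists_qc_mono_point {X : AlgSp.Sp S} (hX : AlgSp.IsAlgSpace X) (x : AlgSp.Points X)
    {V : Over S} (b : (AlgSp.yon S).obj V ⟶ X) (hb : AlgSp.RepWith @Etale b) (v : ↥V.left)
    (hv : AlgSp.Points.ofPt b v = x) {R : Over S} (s t : R ⟶ V)
    (sqR : IsPullback ((AlgSp.yon S).map t) ((AlgSp.yon S).map s) b b)
    (hfinR : {r : ↥R.left | s.left r = v ∧ t.left r = v}.Finite)
    (H : ∀ (V' : Over S) (b' : (AlgSp.yon S).obj V' ⟶ X), IsAffine V'.left →
      AlgSp.RepWith @Etale b' → (AlgSp.Points.ofPt b' ⁻¹' {x}).Finite) :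
    ∃ p : AlgSp.FieldPt X, AlgSp.Points.mk p = x ∧ Mono p.toHom ∧
      AlgSp.RepWith @QuasiCompact p.toHom := by
  obtain ⟨p₀, π, hm, -, -, hp₀⟩ :=
    Groth.Agent.Lib.Helper12.MonoPoint.exists_mono_point b hb v s t sqR hfinR
  refine ⟨p₀, hp₀.trans hv, hm, ?_⟩
  refine Groth.Agent.Lib.Helper12.AtlasDescent.repWith_quasiCompact_of_finite_fibres hX p₀ hm ?_
  intro V' b' hV' hb'
  rw [hp₀, hv]
  exact H V' b' hV' hb'

end Groth.Agent.Lib.Helper12.DecentPoint
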