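import Mathlib
import Groth.Agent.S13210
import Groth.Agent.S10176
import Groth.Agent.S10265
import Groth.Prelude.Def_AlgSpDec

set_option autoImplicit false
universe u
open CategoryTheory CategoryTheory.Limits AlgebraicGeometry Opposite
open AlgSp

namespace Groth.Agent.Lib.Helper12.RelFibre

open Groth.Agent.S13210

variable {S : Scheme.{u}}

/-- **finiteness of the relation fibre from finiteness of the chart fibre.**  Let `q` be a
field-valued point of `X`, `b : h_V ⟶ X` representable etale with `R = V ×_X V`, and suppose that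
the scheme `F = V ×_X Spec K` has finitely many points.  Then only finitely many points of `R` lie
over the point of `q`. -/
theorem finite_relation_fibre {X : AlgSp.Sp S} (q : AlgSp.FieldPt X) {V : Over S}
    (b : (AlgSp.yon S).obj V ⟶ X) (hb : AlgSp.RepWith @Etale b) {F : Over S} (fK : F ⟶ q.pt)
    (fV : F ⟶ V) (sqF : IsPullback ((AlgSp.yon S).map fV) ((AlgSp.yon S).map fK) b q.toHom)
    (hF : (Set.univ : Set ↥F.left).Finite) {R : Over S} (s t : R ⟶ V)
    (sqR : IsPullback ((AlgSp.yon S).map t) ((AlgSp.yon S).map s) b b) :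
    (AlgSp.Points.ofPt ((AlgSp.yon S).map t ≫ b) ⁻¹' {AlgSp.Points.mk q}).Finite := by
  haveI : Etale fK.left := hb.2 _ _ fK sqF
  haveI : LocallyQuasiFinite fK.left := Groth.Agent.S10265.locallyQuasiFinite_of_unramified _
  haveI : CompactSpace ↥F.left := by
    haveI : Finite ↥F.left := Set.finite_univ_iff.1 hF
    infer_instance
  haveI : QuasiSeparatedSpace ↥q.pt.left :=
    (inferInstance : QuasiSeparatedSpace ↥(Spec (CommRingCat.of q.K)))
  haveI : QuasiCompact fK.left := quasiCompact_of_compactSpace _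
  -- `E = F ×_K F`
  obtain ⟨E, pr1, pr2, sqE⟩ : ∃ (E : Over S) (pr1 pr2 : E ⟶ F), IsPullback pr1 pr2 fK fK :=
    ⟨_, _, _, IsPullback.of_hasPullback fK fK⟩
  have sqEs : IsPullback pr1.left pr2.left fK.left fK.left := sqE.map (Over.forget S)
  haveI : LocallyQuasiFinite pr1.left :=
    MorphismProperty.of_isPullback (P := @LocallyQuasiFinite) sqEs.flip inferInstance
  haveI : QuasiCompact pr1.left :=
    MorphismProperty.of_isPullback (P := @QuasiCompact) sqEs.flip inferInstance
  have hE : (Set.univ : Set ↥E.left).Finite := by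
    have := pr1.left.finite_preimage hF
    simpa using this
  have sqE' := sqE.map (AlgSp.yon S)
  -- the morphism `E ⟶ R`
  have hcond : (AlgSp.yon S).map (pr1 ≫ fV) ≫ b = (AlgSp.yon S).map (pr2 ≫ fV) ≫ b := by
    rw [Functor.map_comp, Functor.map_comp, Category.assoc, Category.assoc, sqF.w,
      ← Category.assoc, ← Category.assoc, sqE'.w]
  obtain ⟨e, he⟩ := (AlgSp.yon S).map_surjective (sqR.lift _ _ hcond)
  have het : (AlgSp.yon S).map e ≫ (AlgSp.yon S).map t = (AlgSp.yon S).map (pr1 ≫ fV) := by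
    rw [he, sqR.lift_fst]
  have hes : (AlgSp.yon S).map e ≫ (AlgSp.yon S).map s = (AlgSp.yon S).map (pr2 ≫ fV) := by
    rw [he, sqR.lift_snd]
  have hw : (AlgSp.yon S).map e ≫ ((AlgSp.yon S).map t ≫ b) =
      (AlgSp.yon S).map (pr1 ≫ fK) ≫ q.toHom := by
    rw [← Category.assoc, het, Functor.map_comp, Functor.map_comp, Category.assoc, Category.assoc,
      sqF.w]
  have big : IsPullback ((AlgSp.yon S).map e) ((AlgSp.yon S).map (pr1 ≫ fK))
      ((AlgSp.yon S).map t ≫ b) q.toHom := by
    refine isPullback_of_yon hw (fun T r' c hrc => ?_)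
    have h1 : (r' ≫ (AlgSp.yon S).map t) ≫ b = c ≫ q.toHom := by
      rw [Category.assoc]; exact hrc
    have h2 : (r' ≫ (AlgSp.yon S).map s) ≫ b = c ≫ q.toHom := by
      rw [Category.assoc, ← sqR.w]; exact hrc
    have h12 : sqF.lift _ _ h1 ≫ (AlgSp.yon S).map fK = sqF.lift _ _ h2 ≫ (AlgSp.yon S).map fK := by
      rw [sqF.lift_snd, sqF.lift_snd]
    refine ⟨sqE'.lift _ _ h12, ⟨?_, ?_⟩, ?_⟩
    · apply sqR.hom_ext
      · rw [Category.assoc, het, Functor.map_comp, ← Category.assoc, sqE'.lift_fst, sqF.lift_fst]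
      · rw [Category.assoc, hes, Functor.map_comp, ← Category.assoc, sqE'.lift_snd, sqF.lift_fst]
    · rw [Functor.map_comp, ← Category.assoc, sqE'.lift_fst, sqF.lift_snd]
    · rintro ε' ⟨hε1, hε2⟩
      apply sqE'.hom_ext
      · rw [sqE'.lift_fst]
        apply sqF.hom_ext
        · rw [sqF.lift_fst]
          calc (ε' ≫ (AlgSp.yon S).map pr1) ≫ (AlgSp.yon S).map fV
              = ε' ≫ (AlgSp.yon S).map (pr1 ≫ fV) := by rw [Functor.map_comp, Category.assoc]
            _ = r' ≫ (AlgSp.yon S).map t := by rw [← het, ← Category.assoc, hε1]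
        · rw [sqF.lift_snd]
          calc (ε' ≫ (AlgSp.yon S).map pr1) ≫ (AlgSp.yon S).map fK
              = ε' ≫ (AlgSp.yon S).map (pr1 ≫ fK) := by rw [Functor.map_comp, Category.assoc]
            _ = c := hε2
      · rw [sqE'.lift_snd]
        apply sqF.hom_ext
        · rw [sqF.lift_fst]
          calc (ε' ≫ (AlgSp.yon S).map pr2) ≫ (AlgSp.yon S).map fV
              = ε' ≫ (AlgSp.yon S).map (pr2 ≫ fV) := by rw [Functor.map_comp, Category.assoc]
            _ = r' ≫ (AlgSp.yon S).map s := by rw [← hes, ← Category.assoc, hε1]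
        · rw [sqF.lift_snd]
          calc (ε' ≫ (AlgSp.yon S).map pr2) ≫ (AlgSp.yon S).map fK
              = ε' ≫ (AlgSp.yon S).map pr1 ≫ (AlgSp.yon S).map fK := by
                rw [Category.assoc, sqE'.w]
            _ = ε' ≫ (AlgSp.yon S).map (pr1 ≫ fK) := by rw [Functor.map_comp]
            _ = c := hε2
  refine (hE.image e.left).subset ?_
  intro r hr
  rw [Set.mem_preimage, Set.mem_singleton_iff] at hr
  obtain ⟨ε, hε, -⟩ := Groth.Agent.S10176.exists_point_of_isPullback_yon big r
    ((⊥ : PrimeSpectrum q.K) : ↥q.pt.left) (by rw [hr, AlgSp.Points.ofPt_toHom])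
  exact ⟨ε, trivial, hε⟩

end Groth.Agent.Lib.Helper12.RelFibre
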