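import Mathlib
import Groth.Agent.S9912
import Groth.Agent.S10361
import Groth.Agent.Lib.Helper12Proper

set_option autoImplicit false
universe u
open CategoryTheory CategoryTheory.Limits AlgebraicGeometry Opposite
open AlgSp

namespace Groth.Agent.Lib.Helper12.DecentDesc

variable {S : Scheme.{u}}

/-- **decency descends pointwise along quasi-compact morphisms.**  If `f : X ⟶ Y` is a
quasi-compact morphism of algebraic spaces and `p` is a quasi-compact field-valued point of `X`,
the image point of `Y` is represented by a quasi-compact monomorphism from the spectrum of a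
field. -/
theorem exists_decent_fieldPt_of_qc {X Y : AlgSp.Space S} (f : X ⟶ Y)
    (hq : AlgSp.IsQuasiCompactMor f.hom) (p : AlgSp.FieldPt X.obj)
    (hpq : AlgSp.RepWith @QuasiCompact p.toHom) :
    ∃ p₀ : AlgSp.FieldPt Y.obj, AlgSp.Points.mk p₀ = AlgSp.Points.map f.hom (AlgSp.Points.mk p) ∧
      Mono p₀.toHom ∧ AlgSp.RepWith @QuasiCompact p₀.toHom := by
  let KK : AlgSp.Space S := ⟨(AlgSp.yon S).obj p.pt, AlgSp.IsAlgSpace.yon_obj _⟩
  let pp : KK ⟶ X := ObjectProperty.homMk p.toHom
  have h1 : AlgSp.IsQuasiCompactMor p.toHom :=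
    (Groth.Agent.S9912.result pp (X.property.representable_from_yon p.toHom)).1 hpq
  have h2 : AlgSp.IsQuasiCompactMor (p.toHom ≫ f.hom) :=
    Groth.Agent.Lib.Helper12.Proper.isQuasiCompactMor_comp X.property Y.property p.toHom f.hom h1 hq
  let qq : KK ⟶ Y := ObjectProperty.homMk (p.toHom ≫ f.hom)
  have h3 : AlgSp.RepWith @QuasiCompact (p.toHom ≫ f.hom) :=
    (Groth.Agent.S9912.result qq (Y.property.representable_from_yon (p.toHom ≫ f.hom))).2 h2
  obtain ⟨p₀, hp₀, hm₀, hq₀⟩ := Groth.Agent.S10361.result Y (p.map f.hom)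
    (by rw [AlgSp.FieldPt.toHom_map]; exact h3)
  exact ⟨p₀, hp₀, hm₀, hq₀⟩

/-- a quasi-compact morphism of schemes gives a quasi-compact morphism of sheaves. -/
lemma isQuasiCompactMor_yon_map {A B : Over S} (e : A ⟶ B) [QuasiCompact e.left] :
    AlgSp.IsQuasiCompactMor ((AlgSp.yon S).map e) := by
  let AA : AlgSp.Space S := ⟨(AlgSp.yon S).obj A, AlgSp.IsAlgSpace.yon_obj _⟩
  let BB : AlgSp.Space S := ⟨(AlgSp.yon S).obj B, AlgSp.IsAlgSpace.yon_obj _⟩
  let ee : AA ⟶ BB := ObjectProperty.homMk ((AlgSp.yon S).map e)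
  exact (Groth.Agent.S9912.result ee (AlgSp.representable_yon_map e)).1
    ((AlgSp.repWith_yon_map_iff _ _).2 inferInstance)

end Groth.Agent.Lib.Helper12.DecentDesc
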