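import Mathlib
import Groth.Agent.S9903
import Groth.Agent.S9874
import Groth.Agent.S10351
import Groth.Agent.S10361
import Groth.Agent.Lib.Helper12MonoPoint

set_option autoImplicit false
universe u
open CategoryTheory CategoryTheory.Limits AlgebraicGeometry Opposite
open AlgSp

namespace Groth.Agent.Lib.Helper12.DecentMor

open Groth.Agent.S13210

variable {S : Scheme.{u}}

/-- cancellation: if `a ≫ π` has `P` and the diagonal of `π` has `P`, then `a` has `P`. -/
lemma repWith_of_comp_of_diagonal (P : MorphismProperty Scheme.{u}) [P.IsStableUnderBaseChange]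
    [P.IsMultiplicative] {A F G : AlgSp.Sp S} (a : A ⟶ F) (π : F ⟶ G)
    (h1 : AlgSp.RepWith P (a ≫ π)) (h2 : AlgSp.RepWith P (pullback.diagonal π)) :
    AlgSp.RepWith P a := by
  have sq := pullback_lift_diagonal_isPullback a π
  have hΓ := MorphismProperty.of_isPullback (P := AlgSp.RepWith P) sq h2
  have hsnd := MorphismProperty.of_isPullback (P := AlgSp.RepWith P)
    (IsPullback.of_hasPullback (a ≫ π) π) h1
  have := (AlgSp.RepWith P).comp_mem _ _ hΓ hsnd
  rwa [pullback.lift_snd] at this

/-- every field-valued point of a sheaf quasi-separated over a scheme is quasi-compact. -/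
lemma repWith_quasiCompact_fieldPt_of_diagonal {F : AlgSp.Sp S} {T : Over S}
    (π : F ⟶ (AlgSp.yon S).obj T) (hπ : AlgSp.RepWith @QuasiCompact (pullback.diagonal π))
    (q : AlgSp.FieldPt F) : AlgSp.RepWith @QuasiCompact q.toHom := by
  refine repWith_of_comp_of_diagonal @QuasiCompact q.toHom π ?_ hπ
  obtain ⟨m, hm⟩ := (AlgSp.yon S).map_surjective (q.toHom ≫ π)
  rw [← hm, AlgSp.repWith_yon_map_iff]
  exact Groth.Agent.Lib.Helper12.MonoPoint.quasiCompact_of_field (L := q.K) m.left

/-- the sheaf of a scheme is decent. -/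
theorem isDecent_yon (T : Over S) : AlgSp.IsDecent ((AlgSp.yon S).obj T) := by
  intro x
  obtain ⟨q, rfl⟩ := AlgSp.Points.mk_surjective x
  have hq : AlgSp.RepWith @QuasiCompact q.toHom := by
    obtain ⟨m, hm⟩ := (AlgSp.yon S).map_surjective q.toHom
    rw [← hm, AlgSp.repWith_yon_map_iff]
    exact Groth.Agent.Lib.Helper12.MonoPoint.quasiCompact_of_field (L := q.K) m.left
  exact Groth.Agent.S10361.result ⟨(AlgSp.yon S).obj T, AlgSp.IsAlgSpace.yon_obj T⟩ q hq

/-- a representable morphism is decent. -/
theorem isDecentMor_of_representable {X Y : AlgSp.Sp S} (f : X ⟶ Y)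
    (hf : AlgSp.Representable f) : AlgSp.IsDecentMor f := by
  intro T F' g fst snd sq
  have hsnd : AlgSp.Representable snd :=
    MorphismProperty.of_isPullback (P := AlgSp.Representable) sq hf
  intro x
  obtain ⟨q, hq, hqm, hqc⟩ := isDecent_yon T (AlgSp.Points.map snd x)
  exact Groth.Agent.S10351.exists_decent_fieldPt_of_representable snd hsnd x q hq hqm hqc

/-- a quasi-separated morphism of algebraic spaces is decent. -/
theorem isDecentMor_of_isQuasiSeparatedMor {X Y : AlgSp.Space S} (f : X ⟶ Y)
    (hf : AlgSp.IsQuasiSeparatedMor f.hom) : AlgSp.IsDecentMor f.hom := by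
  intro T F' g fst snd sq
  have hF' : AlgSp.IsAlgSpace F' :=
    Groth.Agent.S9874.isAlgSpace_of_isPullback Y.property.diag X.property
      (AlgSp.IsAlgSpace.yon_obj T) sq
  have hd : AlgSp.RepWith @QuasiCompact (pullback.diagonal snd) :=
    Groth.Agent.S9903.stable_diagonal @QuasiCompact sq hf
  intro x
  obtain ⟨q, rfl⟩ := AlgSp.Points.mk_surjective x
  exact Groth.Agent.S10361.result ⟨F', hF'⟩ q
    (repWith_quasiCompact_fieldPt_of_diagonal snd hd q)

end Groth.Agent.Lib.Helper12.DecentMor
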