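import Groth.Prelude.Def_DescFam
import Mathlib.AlgebraicGeometry.Sites.Fpqc
import Mathlib.AlgebraicGeometry.Morphisms.Flat

/-!
Helper library (helper12): full faithfulness of pullback of descent data for schemes
(`Desc.pullDDFam`) along refinements, when morphisms to schemes satisfy fpqc descent.
-/

set_option autoImplicit false
set_option backward.isDefEq.respectTransparency false
set_option backward.isDefEq.respectTransparency.types false
universe w' w u
open CategoryTheory CategoryTheory.Limits AlgebraicGeometry Desc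

namespace Groth.Agent.Lib.Helper12.DescFF

section basic
variable {S : Scheme.{u}} {κ : Type w} {V : κ → Scheme.{u}} {v : ∀ j, V j ⟶ S}

lemma φ_val_of_eq (D : SchDDFam v) {T : Scheme.{u}} {j : κ} (x x' : T ⟶ V j) (e : x = x')
    (h : x ≫ v j = x' ≫ v j) (p : Lifts (D.obj j) x) : (D.φ x x' h p).1 = p.1 := by
  subst e
  rw [D.φ_self]

lemma φ_symm_apply (D : SchDDFam v) {T : Scheme.{u}} {j j' : κ} (x₀ : T ⟶ V j) (x₁ : T ⟶ V j')
    (h : x₀ ≫ v j = x₁ ≫ v j') (p : Lifts (D.obj j) x₀) :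
    D.φ x₁ x₀ h.symm (D.φ x₀ x₁ h p) = p := by
  rw [D.φ_comp, D.φ_self]

lemma φ_apply_symm (D : SchDDFam v) {T : Scheme.{u}} {j j' : κ} (x₀ : T ⟶ V j) (x₁ : T ⟶ V j')
    (h : x₀ ≫ v j = x₁ ≫ v j') (p : Lifts (D.obj j') x₁) :
    D.φ x₀ x₁ h (D.φ x₁ x₀ h.symm p) = p := by
  rw [D.φ_comp, D.φ_self]

lemma φ_injective (D : SchDDFam v) {T : Scheme.{u}} {j j' : κ} (x₀ : T ⟶ V j) (x₁ : T ⟶ V j')
    (h : x₀ ≫ v j = x₁ ≫ v j') : Function.Injective (D.φ x₀ x₁ h) := (D.φ x₀ x₁ h).injective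

/-- naturality in the form with values -/
lemma φ_nat (D : SchDDFam v) {T T' : Scheme.{u}} (r : T' ⟶ T) {j j' : κ} (x₀ : T ⟶ V j) (x₁ : T ⟶ V j')
    (h : x₀ ≫ v j = x₁ ≫ v j') (y₀ : T' ⟶ V j) (y₁ : T' ⟶ V j') (e₀ : r ≫ x₀ = y₀) (e₁ : r ≫ x₁ = y₁)
    (h' : y₀ ≫ v j = y₁ ≫ v j') (p : Lifts (D.obj j) x₀) (p' : Lifts (D.obj j) y₀)
    (hp : p'.1 = r ≫ p.1) : (D.φ y₀ y₁ h' p').1 = r ≫ (D.φ x₀ x₁ h p).1 :=
  D.φ_natural r x₀ x₁ h y₀ y₁ e₀ e₁ h' p p' hp

end basic


section pull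
variable {S : Scheme.{u}} {ι : Type w'} {κ : Type w} {U : ι → Scheme.{u}} {V : κ → Scheme.{u}}
  {u : ∀ i, U i ⟶ S} {v : ∀ j, V j ⟶ S} {α : ι → κ} {g : ∀ i, U i ⟶ V (α i)}
  (w : ∀ i, g i ≫ v (α i) = u i ≫ 𝟙 S)

include w in
lemma compat_of {T : Scheme.{u}} {j : κ} {i : ι} (t : T ⟶ V j) (s : T ⟶ U i)
    (hs : s ≫ u i = t ≫ v j) : t ≫ v j = (s ≫ g i) ≫ v (α i) := by
  rw [Category.assoc, w, Category.comp_id, hs]

variable {D D' : SchDDFam v} (n : (pullDDFam w).obj D ⟶ (pullDDFam w).obj D')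

/-- the action of `n` on points of `D.obj (α i)` over `s ≫ g i` -/
noncomputable def N {T : Scheme.{u}} {i : ι} (s : T ⟶ U i) (p : Lifts (D.obj (α i)) (s ≫ g i)) :
    Lifts (D'.obj (α i)) (s ≫ g i) :=
  liftsPullbackEquiv (D'.obj (α i)) (g i) s
    (SchDDFam.Hom.push n ((liftsPullbackEquiv (D.obj (α i)) (g i) s).symm p))

lemma N_val {T : Scheme.{u}} {i : ι} (s : T ⟶ U i) (p : Lifts (D.obj (α i)) (s ≫ g i)) :
    (N w n s p).1 = (pullback.lift p.1 s p.2 ≫ (n.hom i).left) ≫ pullback.fst _ _ := rfl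

lemma N_val_of_eq {T : Scheme.{u}} {i : ι} (s : T ⟶ U i) (p : Lifts (D.obj (α i)) (s ≫ g i))
    (c : T ⟶ (D.obj (α i)).left) (hc : p.1 = c) (hc' : c ≫ (D.obj (α i)).hom = s ≫ g i) :
    (N w n s p).1 = (pullback.lift c s hc' ≫ (n.hom i).left) ≫ pullback.fst _ _ := by
  subst hc
  rfl

lemma N_comm {T : Scheme.{u}} {i i' : ι} (s : T ⟶ U i) (s' : T ⟶ U i') (h : s ≫ u i = s' ≫ u i')
    (p : Lifts (D.obj (α i)) (s ≫ g i)) :
    D'.φ (s ≫ g i) (s' ≫ g i') (pull_compat w s s' h) (N w n s p) =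
      N w n s' (D.φ (s ≫ g i) (s' ≫ g i') (pull_compat w s s' h) p) := by
  have key := n.comm s s' h ((liftsPullbackEquiv (D.obj (α i)) (g i) s).symm p)
    (SchDDFam.Hom.push n ((liftsPullbackEquiv (D.obj (α i)) (g i) s).symm p)) rfl
  apply (liftsPullbackEquiv (D'.obj (α i')) (g i') s').symm.injective
  apply Subtype.ext
  refine Eq.trans ?_ (key.trans ?_)
  · rfl
  · change ((liftsPullbackEquiv (D.obj (α i')) (g i') s').symm (D.φ (s ≫ g i) (s' ≫ g i') _
      (liftsPullbackEquiv (D.obj (α i)) (g i) s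
        ((liftsPullbackEquiv (D.obj (α i)) (g i) s).symm p)))).1 ≫ _ = _
    rw [Equiv.apply_symm_apply, N, Equiv.symm_apply_apply]
    rfl


lemma N_nat {T T' : Scheme.{u}} (r : T' ⟶ T) {i : ι} (s : T ⟶ U i) (s' : T' ⟶ U i) (es : r ≫ s = s')
    (p : Lifts (D.obj (α i)) (s ≫ g i)) (p' : Lifts (D.obj (α i)) (s' ≫ g i))
    (hp : p'.1 = r ≫ p.1) : (N w n s' p').1 = r ≫ (N w n s p).1 := by
  subst es
  rw [N_val, N_val]
  have : pullback.lift p'.1 (r ≫ s) p'.2 = r ≫ pullback.lift p.1 s p.2 := by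
    apply pullback.hom_ext
    · simp [hp]
    · simp
  rw [this]
  simp only [Category.assoc]

/-- the map on points of `D.obj j` over `t` induced by `n`, computed through a factorization
`(i, s)` of `t ≫ v j` through the family `u`. -/
noncomputable def θ {T : Scheme.{u}} {j : κ} {i : ι} (t : T ⟶ V j) (s : T ⟶ U i)
    (hs : s ≫ u i = t ≫ v j) (p : Lifts (D.obj j) t) : Lifts (D'.obj j) t :=
  D'.φ (s ≫ g i) t (compat_of w t s hs).symm (N w n s (D.φ t (s ≫ g i) (compat_of w t s hs) p))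

lemma θ_indep {T : Scheme.{u}} {j : κ} {i i' : ι} (t : T ⟶ V j) (s : T ⟶ U i) (s' : T ⟶ U i')
    (hs : s ≫ u i = t ≫ v j) (hs' : s' ≫ u i' = t ≫ v j) (p : Lifts (D.obj j) t) :
    θ w n t s hs p = θ w n t s' hs' p := by
  unfold θ
  have h : s ≫ u i = s' ≫ u i' := hs.trans hs'.symm
  rw [← D.φ_comp t (s ≫ g i) (s' ≫ g i') (compat_of w t s hs) (pull_compat w s s' h) p,
    ← N_comm w n s s' h, D'.φ_comp]

lemma θ_nat {T T' : Scheme.{u}} (r : T' ⟶ T) {j : κ} {i : ι} (t : T ⟶ V j) (s : T ⟶ U i)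
    (hs : s ≫ u i = t ≫ v j) (t' : T' ⟶ V j) (s' : T' ⟶ U i) (et : r ≫ t = t') (es : r ≫ s = s')
    (hs' : s' ≫ u i = t' ≫ v j) (p : Lifts (D.obj j) t) (p' : Lifts (D.obj j) t')
    (hp : p'.1 = r ≫ p.1) : (θ w n t' s' hs' p').1 = r ≫ (θ w n t s hs p).1 := by
  unfold θ
  apply φ_nat D' r _ _ _ _ _ (by rw [← es, Category.assoc]) et
  apply N_nat w n r s s' es
  exact φ_nat D r _ _ _ _ _ et (by rw [← es, Category.assoc]) _ _ _ hp


lemma θ_φ {T : Scheme.{u}} {j j' : κ} {i : ι} (y₀ : T ⟶ V j) (y₁ : T ⟶ V j')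
    (h : y₀ ≫ v j = y₁ ≫ v j') (s : T ⟶ U i) (hs₀ : s ≫ u i = y₀ ≫ v j)
    (hs₁ : s ≫ u i = y₁ ≫ v j') (p : Lifts (D.obj j) y₀) :
    D'.φ y₀ y₁ h (θ w n y₀ s hs₀ p) = θ w n y₁ s hs₁ (D.φ y₀ y₁ h p) := by
  unfold θ
  rw [D'.φ_comp, D.φ_comp]

lemma N_map (a : D ⟶ D') {T : Scheme.{u}} {i : ι} (s : T ⟶ U i)
    (p : Lifts (D.obj (α i)) (s ≫ g i)) :
    N w ((pullDDFam w).map a) s p = SchDDFam.Hom.push a p := by
  apply Subtype.ext
  rw [N_val]
  simp [pullDDFam, SchDDFam.Hom.push]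

lemma θ_map (a : D ⟶ D') {T : Scheme.{u}} {j : κ} {i : ι} (t : T ⟶ V j) (s : T ⟶ U i)
    (hs : s ≫ u i = t ≫ v j) (p : Lifts (D.obj j) t) :
    θ w ((pullDDFam w).map a) t s hs p = SchDDFam.Hom.push a p := by
  unfold θ
  rw [N_map]
  apply Subtype.ext
  rw [a.comm (s ≫ g i) t (compat_of w t s hs).symm (D.φ t (s ≫ g i) (compat_of w t s hs) p)
    (SchDDFam.Hom.push a (D.φ t (s ≫ g i) (compat_of w t s hs) p)) rfl, φ_symm_apply]
  rfl

variable (u v) in
/-- the sieve on `V j` of the morphisms `t` such that `t ≫ v j` factors through a member of `u` -/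
def facSieve (j : κ) : Sieve (V j) where
  arrows T t := ∃ (i : ι) (s : T ⟶ U i), s ≫ u i = t ≫ v j
  downward_closed := by
    rintro T T' t ⟨i, s, hs⟩ r
    exact ⟨i, r ≫ s, by simp [hs]⟩

/-- joint epimorphy of the factorization sieve, universally -/
def Sep (u : ∀ i, U i ⟶ S) (v : ∀ j, V j ⟶ S) : Prop :=
  ∀ (j : κ) (W : Scheme.{u}) (q : W ⟶ V j) (Z : Scheme.{u}) (f₁ f₂ : W ⟶ Z),
    (∀ (T : Scheme.{u}) (r : T ⟶ W), facSieve u v j (r ≫ q) → r ≫ f₁ = r ≫ f₂) → f₁ = f₂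

theorem faithful_of_sep (hsep : Sep u v) : (pullDDFam w).Faithful where
  map_injective {D D'} a b hab := by
    apply SchDDFam.hom_ext
    funext j
    apply Over.OverMorphism.ext
    apply hsep j _ (D.obj j).hom
    rintro T r ⟨i, s, hs⟩
    have h1 := θ_map w a (r ≫ (D.obj j).hom) s hs ⟨r, rfl⟩
    have h2 := θ_map w b (r ≫ (D.obj j).hom) s hs ⟨r, rfl⟩
    rw [hab] at h1
    have := congrArg Subtype.val (h1.symm.trans h2)
    exact this


lemma sep_of_cov (hcov : ∀ j, facSieve u v j ∈ Scheme.fpqcTopology (V j)) : Sep u v := by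
  intro j W q Z f₁ f₂ h
  have hR : (facSieve u v j).pullback q ∈ Scheme.fpqcTopology W :=
    Scheme.fpqcTopology.pullback_stable q (hcov j)
  have hsheaf := (GrothendieckTopology.Subcanonical.isSheaf_of_isRepresentable
    (J := Scheme.fpqcTopology) (yoneda.obj Z)) _ hR
  exact hsheaf.isSeparatedFor.ext (fun T r hr => h T r hr)

/-- the value of the would-be morphism `D.obj j ⟶ D'.obj j` on a point `r` in the sieve -/
noncomputable def xval {j : κ} {T : Scheme.{u}} (r : T ⟶ (D.obj j).left) {i : ι} (s : T ⟶ U i)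
    (hs : s ≫ u i = (r ≫ (D.obj j).hom) ≫ v j) : T ⟶ (D'.obj j).left :=
  (θ w n (r ≫ (D.obj j).hom) s hs ⟨r, rfl⟩).1

lemma xval_indep {j : κ} {T : Scheme.{u}} (r r' : T ⟶ (D.obj j).left) (e : r = r') {i i' : ι}
    (s : T ⟶ U i) (s' : T ⟶ U i') (hs : s ≫ u i = (r ≫ (D.obj j).hom) ≫ v j)
    (hs' : s' ≫ u i' = (r' ≫ (D.obj j).hom) ≫ v j) : xval w n r s hs = xval w n r' s' hs' := by
  subst e
  unfold xval
  rw [θ_indep]

lemma xval_nat {j : κ} {T T' : Scheme.{u}} (c : T' ⟶ T) (r : T ⟶ (D.obj j).left) {i : ι}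
    (s : T ⟶ U i) (hs : s ≫ u i = (r ≫ (D.obj j).hom) ≫ v j)
    (hs' : (c ≫ s) ≫ u i = ((c ≫ r) ≫ (D.obj j).hom) ≫ v j) :
    xval w n (c ≫ r) (c ≫ s) hs' = c ≫ xval w n r s hs :=
  θ_nat w n c _ s hs _ (c ≫ s) (by simp) rfl hs' ⟨r, rfl⟩ ⟨c ≫ r, rfl⟩ rfl

lemma xval_hom {j : κ} {T : Scheme.{u}} (r : T ⟶ (D.obj j).left) {i : ι} (s : T ⟶ U i)
    (hs : s ≫ u i = (r ≫ (D.obj j).hom) ≫ v j) :
    xval w n r s hs ≫ (D'.obj j).hom = r ≫ (D.obj j).hom :=
  (θ w n (r ≫ (D.obj j).hom) s hs ⟨r, rfl⟩).2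

/-- existence of the glued morphism -/
lemma exists_glue (hcov : ∀ j, facSieve u v j ∈ Scheme.fpqcTopology (V j)) (j : κ) :
    ∃ m : (D.obj j).left ⟶ (D'.obj j).left, ∀ (T : Scheme.{u}) (r : T ⟶ (D.obj j).left) (i : ι)
      (s : T ⟶ U i) (hs : s ≫ u i = (r ≫ (D.obj j).hom) ≫ v j), r ≫ m = xval w n r s hs := by
  have hR : (facSieve u v j).pullback (D.obj j).hom ∈ Scheme.fpqcTopology (D.obj j).left :=
    Scheme.fpqcTopology.pullback_stable _ (hcov j)
  have hsheaf := (GrothendieckTopology.Subcanonical.isSheaf_of_isRepresentable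
    (J := Scheme.fpqcTopology) (yoneda.obj (D'.obj j).left)) _ hR
  let x : Presieve.FamilyOfElements (yoneda.obj (D'.obj j).left)
      ((facSieve u v j).pullback (D.obj j).hom).arrows :=
    fun T r hr => xval w n r hr.choose_spec.choose hr.choose_spec.choose_spec
  have hx : x.Compatible := by
    intro Y₁ Y₂ Z g₁ g₂ f₁ f₂ h₁ h₂ e
    change g₁ ≫ xval w n f₁ _ _ = g₂ ≫ xval w n f₂ _ _
    rw [← xval_nat w n g₁ f₁ _ _ (by
        have := h₁.choose_spec.choose_spec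
        simp only [Category.assoc] at this ⊢
        rw [this]),
      ← xval_nat w n g₂ f₂ _ _ (by
        have := h₂.choose_spec.choose_spec
        simp only [Category.assoc] at this ⊢
        rw [this])]
    exact xval_indep w n _ _ e _ _ _ _
  refine ⟨hsheaf.amalgamate x hx, fun T r i s hs => ?_⟩
  have hr : ((facSieve u v j).pullback (D.obj j).hom).arrows r := ⟨i, s, hs⟩
  have := hsheaf.valid_glue hx r hr
  refine Eq.trans this ?_
  exact xval_indep w n r r rfl _ _ _ _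


theorem full_of_cov (hcov : ∀ j, facSieve u v j ∈ Scheme.fpqcTopology (V j)) :
    (pullDDFam w).Full where
  map_surjective {D D'} n := by
    have hsep := sep_of_cov (u := u) (v := v) hcov
    choose m hm using exists_glue w n hcov
    -- m is a morphism over V j
    have hmhom : ∀ j, m j ≫ (D'.obj j).hom = (D.obj j).hom := by
      intro j
      apply hsep j _ (D.obj j).hom
      rintro T r ⟨i, s, hs⟩
      rw [← Category.assoc, hm j T r i s hs, xval_hom]
    -- value of m on points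
    have hmval : ∀ (j : κ) (T : Scheme.{u}) (t : T ⟶ V j) (p : Lifts (D.obj j) t) (i : ι)
        (s : T ⟶ U i) (hs : s ≫ u i = t ≫ v j), p.1 ≫ m j = (θ w n t s hs p).1 := by
      intro j T t p i s hs
      obtain ⟨r, hr⟩ := p
      subst hr
      exact hm j T r i s hs
    let a : D ⟶ D' :=
      { hom := fun j => Over.homMk (m j) (hmhom j)
        comm := by
          intro T j j' x₀ x₁ h p p' hp'
          simp only [Over.homMk_left] at hp' ⊢
          -- check on the covering sieve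
          apply hsep j T x₀
          rintro T' r ⟨i, s, hs⟩
          have hs₁ : s ≫ u i = (r ≫ x₁) ≫ v j' := by
            rw [hs, Category.assoc, Category.assoc, h]
          -- points pulled back to T'
          obtain ⟨q, hq⟩ : ∃ q : Lifts (D.obj j) (r ≫ x₀), q.1 = r ≫ p.1 :=
            ⟨⟨r ≫ p.1, by rw [Category.assoc, p.2]⟩, rfl⟩
          obtain ⟨q', hq'⟩ : ∃ q' : Lifts (D'.obj j) (r ≫ x₀), q'.1 = r ≫ p'.1 :=
            ⟨⟨r ≫ p'.1, by rw [Category.assoc, p'.2]⟩, rfl⟩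
          have hqq' : q' = θ w n (r ≫ x₀) s hs q := by
            apply Subtype.ext
            rw [hq', hp', ← hmval j T' (r ≫ x₀) q i s hs, hq, Category.assoc]
          have hh : (r ≫ x₀) ≫ v j = (r ≫ x₁) ≫ v j' := by
            rw [Category.assoc, Category.assoc, h]
          have e1 : r ≫ (D'.φ x₀ x₁ h p').1 = (D'.φ (r ≫ x₀) (r ≫ x₁) hh q').1 :=
            (φ_nat D' r x₀ x₁ h _ _ rfl rfl _ p' q' hq').symm
          have e2 : (r ≫ (D.φ x₀ x₁ h p).1) ≫ m j' = (D.φ (r ≫ x₀) (r ≫ x₁) hh q).1 ≫ m j' := by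
            rw [(φ_nat D r x₀ x₁ h _ _ rfl rfl hh p q hq)]
          rw [e1, ← Category.assoc, e2]
          subst hqq'
          rw [θ_φ w n (r ≫ x₀) (r ≫ x₁) hh s hs hs₁, hmval j' T' (r ≫ x₁) _ i s hs₁] }
    refine ⟨a, ?_⟩
    apply SchDDFam.hom_ext
    funext i
    apply Over.OverMorphism.ext
    apply pullback.hom_ext
    · -- first components
      have hfst : (((pullDDFam w).map a).hom i).left ≫ pullback.fst (D'.obj (α i)).hom (g i) =
          pullback.fst (D.obj (α i)).hom (g i) ≫ m (α i) := by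
        simp [pullDDFam, a]
      rw [hfst]
      -- use the formula for m on the universal point
      have hs : pullback.snd (D.obj (α i)).hom (g i) ≫ u i =
          (pullback.fst (D.obj (α i)).hom (g i) ≫ (D.obj (α i)).hom) ≫ v (α i) := by
        rw [pullback.condition, Category.assoc, w, Category.comp_id]
      rw [hm (α i) _ (pullback.fst (D.obj (α i)).hom (g i)) i (pullback.snd _ _) hs]
      unfold xval θ
      have et : pullback.fst (D.obj (α i)).hom (g i) ≫ (D.obj (α i)).hom =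
          pullback.snd (D.obj (α i)).hom (g i) ≫ g i := pullback.condition
      rw [φ_val_of_eq D' _ _ et.symm, N_val_of_eq w n _ _ _ (φ_val_of_eq D _ _ et _ _) et]
      have : pullback.lift (pullback.fst (D.obj (α i)).hom (g i)) (pullback.snd _ _) et = 𝟙 _ := by
        apply pullback.hom_ext <;> simp
      rw [this, Category.id_comp]
    · have h1 := Over.w (((pullDDFam w).map a).hom i)
      have h2 := Over.w (n.hom i)
      exact h1.trans h2.symm


/-- if the family `u` is an fpqc covering of `S`, the factorization sieves are covering -/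
lemma facSieve_mem_of_cover (hu : Presieve.ofArrows U u ∈ Scheme.fpqcPrecoverage S) (j : κ) :
    facSieve u v j ∈ Scheme.fpqcTopology (V j) := by
  have h1 : Sieve.generate (Presieve.ofArrows U u) ∈ Scheme.fpqcTopology S :=
    Precoverage.generate_mem_toGrothendieck hu
  have h2 := Scheme.fpqcTopology.pullback_stable (v j) h1
  refine Scheme.fpqcTopology.superset_covering ?_ h2
  intro T t ht
  obtain ⟨Y, h, g', ⟨i⟩, e⟩ := ht
  exact ⟨i, h, e⟩

/-- if for each `j` the `g i` with `α i = j` form an fpqc covering of `V j`, the factorization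
sieves are covering -/
lemma facSieve_mem_of_refinement (w : ∀ i, g i ≫ v (α i) = u i ≫ 𝟙 S)
    (hcov : ∀ j, Presieve.ofArrows (fun i : {i // α i = j} => U i.1)
      (fun i => g i.1 ≫ eqToHom (congrArg V i.2)) ∈ Scheme.fpqcPrecoverage (V j)) (j : κ) :
    facSieve u v j ∈ Scheme.fpqcTopology (V j) := by
  have h1 := Precoverage.generate_mem_toGrothendieck (hcov j)
  refine Scheme.fpqcTopology.superset_covering ?_ h1
  intro T t ht
  obtain ⟨Y, h, g', ⟨⟨i, hi⟩⟩, e⟩ := ht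
  subst hi
  refine ⟨i, h, ?_⟩
  rw [← e]
  simp only [eqToHom_refl, Category.comp_id, Category.assoc]
  rw [w, Category.comp_id]

/-- flat surjective single morphism: the factorization sieves are jointly epimorphic -/
lemma sep_of_flat_surjective {X X' : Scheme.{u}} (a : X ⟶ S) (a' : X' ⟶ S) [Flat a] [Surjective a] :
    Sep (fun _ : PUnit.{w' + 1} => a) (fun _ : PUnit.{w + 1} => a') := by
  intro j W q Z f₁ f₂ h
  have : Epi (pullback.fst (q ≫ a') a) := Flat.epi_of_flat_of_surjective _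
  rw [← cancel_epi (pullback.fst (q ≫ a') a)]
  apply h
  exact ⟨PUnit.unit, pullback.snd _ _, by rw [← pullback.condition, Category.assoc]⟩

end pull

end Groth.Agent.Lib.Helper12.DescFF
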