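import Mathlib
import Groth.Agent.S9904
import Groth.Agent.S9920
import Groth.Agent.S9921
import Groth.Agent.Lib.Helper12AbsProd

/-!
# Checking properties of the diagonal of a sheaf on affine test schemes (helper12)
-/

set_option autoImplicit false
universe u
open CategoryTheory CategoryTheory.Limits AlgebraicGeometry
open AlgSp

namespace Groth.Agent.Lib.Helper12.DiagAff

open CategoryTheory.Limits Opposite MorphismProperty Groth.Agent.S13210 Groth.Agent.S9900
open Groth.Agent.Lib.Helper12.AbsProd

variable {S : Scheme.{u}}

/-- the comparison of the product over `S` with the absolute product. -/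
noncomputable def prodToAbs (U V : Over S) : (U ⨯ V).left ⟶ absProd U.left V.left :=
  absLift (prod.fst : U ⨯ V ⟶ U).left (prod.snd : U ⨯ V ⟶ V).left

instance mono_prodToAbs (U V : Over S) : Mono (prodToAbs U V) := by
  have h : prodToAbs U V = (Over.prodLeftIsoPullback U V).hom ≫
      absLift (pullback.fst U.hom V.hom) (pullback.snd U.hom V.hom) := by
    rw [comp_absLift]
    unfold prodToAbs
    congr 1
    · exact (Over.prodLeftIsoPullback_hom_fst U V).symm
    · exact (Over.prodLeftIsoPullback_hom_snd U V).symm
  rw [h]
  infer_instance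

lemma prod_lift_left_prodToAbs {U V E : Over S} (eU : E ⟶ U) (eV : E ⟶ V) :
    (prod.lift eU eV).left ≫ prodToAbs U V = absLift eU.left eV.left := by
  unfold prodToAbs
  rw [comp_absLift, ← Over.comp_left, ← Over.comp_left, prod.lift_fst, prod.lift_snd]

/-- closed immersion into the product over `S` from surjectivity on global sections. -/
lemma isClosedImmersion_prod_lift {U V E : Over S} (eU : E ⟶ U) (eV : E ⟶ V)
    [IsAffine U.left] [IsAffine V.left] (hE : IsAffine E.left)
    (hs : Function.Surjective (Algebra.TensorProduct.productMap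
      eU.left.appTop.hom.toIntAlgHom eV.left.appTop.hom.toIntAlgHom)) :
    IsClosedImmersion (prod.lift eU eV).left := by
  haveI : IsClosedImmersion ((prod.lift eU eV).left ≫ prodToAbs U V) := by
    rw [prod_lift_left_prodToAbs]
    exact (isClosedImmersion_absLift_iff _ _).2 ⟨hE, hs⟩
  exact IsClosedImmersion.of_comp (prod.lift eU eV).left (prodToAbs U V)

/-- quasi-compactness of the map into the product over `S` from compactness of the source. -/
lemma quasiCompact_prod_lift {U V E : Over S} (eU : E ⟶ U) (eV : E ⟶ V)
    [IsAffine U.left] [IsAffine V.left] (hE : CompactSpace ↥E.left) :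
    QuasiCompact (prod.lift eU eV).left := by
  haveI : QuasiCompact ((prod.lift eU eV).left ≫ prodToAbs U V) := inferInstance
  exact QuasiCompact.of_comp (prod.lift eU eV).left (prodToAbs U V)

/-- the equalizer locus as the pullback of `h_T ×_X h_T ⟶ T × T` along the diagonal. -/
lemma isEqLocus_of_isPullback_diag {X : AlgSp.Sp S} {T Q : Over S}
    {a b : (AlgSp.yon S).obj T ⟶ X} {qU qV : Q ⟶ T}
    (sq : IsPullback ((AlgSp.yon S).map qU) ((AlgSp.yon S).map qV) a b) :
    IsEqLocus a b (pullback.snd (prod.lift qU qV) (Limits.diag T)) := by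
  haveI : Mono (prod.lift qU qV) := by
    constructor
    intro Z x x' hxx
    apply (AlgSp.yon S).map_injective
    apply sq.hom_ext
    · rw [← Functor.map_comp, ← Functor.map_comp]
      congr 1
      have := congrArg (fun m => m ≫ prod.fst) hxx
      simpa only [Category.assoc, prod.lift_fst] using this
    · rw [← Functor.map_comp, ← Functor.map_comp]
      congr 1
      have := congrArg (fun m => m ≫ prod.snd) hxx
      simpa only [Category.assoc, prod.lift_snd] using this
  refine ⟨pullback.snd_of_mono, fun T' x => ?_⟩
  constructor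
  · intro hab
    obtain ⟨r, hr⟩ := (AlgSp.yon S).map_surjective (sq.lift _ _ hab)
    have hr1 : r ≫ qU = x := by
      apply (AlgSp.yon S).map_injective
      rw [Functor.map_comp, hr, sq.lift_fst]
    have hr2 : r ≫ qV = x := by
      apply (AlgSp.yon S).map_injective
      rw [Functor.map_comp, hr, sq.lift_snd]
    refine ⟨pullback.lift r x ?_, pullback.lift_snd _ _ _⟩
    apply Limits.prod.hom_ext
    · rw [Category.assoc, Category.assoc, prod.lift_fst, Limits.diag, prod.lift_fst, hr1,
        Category.comp_id]
    · rw [Category.assoc, Category.assoc, prod.lift_snd, Limits.diag, prod.lift_snd, hr2,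
        Category.comp_id]
  · rintro ⟨x', rfl⟩
    have hc := pullback.condition (f := prod.lift qU qV) (g := Limits.diag T)
    have h1 : pullback.fst (prod.lift qU qV) (Limits.diag T) ≫ qU =
        pullback.snd (prod.lift qU qV) (Limits.diag T) := by
      have := congrArg (fun m => m ≫ prod.fst) hc
      simpa only [Category.assoc, prod.lift_fst, Limits.diag, Category.comp_id] using this
    have h2 : pullback.fst (prod.lift qU qV) (Limits.diag T) ≫ qV =
        pullback.snd (prod.lift qU qV) (Limits.diag T) := by
      have := congrArg (fun m => m ≫ prod.snd) hc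
      simpa only [Category.assoc, prod.lift_snd, Limits.diag, Category.comp_id] using this
    rw [Functor.map_comp, Category.assoc, Category.assoc]
    congr 1
    nth_rewrite 1 [← h1]
    rw [← h2, Functor.map_comp, Functor.map_comp, Category.assoc, Category.assoc, sq.w]

/-- a Zariski-local, base-change-stable property of the diagonal can be checked on affine charts. -/
lemma repWith_diag_of_affine (Pr : MorphismProperty Scheme.{u}) [Pr.IsStableUnderBaseChange]
    [IsZariskiLocalAtTarget Pr] {X : AlgSp.Sp S} (hX : AlgSp.Representable (Limits.diag X))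
    (h : ∀ (U V E : Over S) (a : (AlgSp.yon S).obj U ⟶ X) (b : (AlgSp.yon S).obj V ⟶ X)
      (eU : E ⟶ U) (eV : E ⟶ V), IsAffine U.left → IsAffine V.left →
      IsPullback ((AlgSp.yon S).map eU) ((AlgSp.yon S).map eV) a b → Pr (prod.lift eU eV).left) :
    AlgSp.RepWith Pr (Limits.diag X) := by
  refine Groth.Agent.S9921.repWith_diag_of_isEqLocus Pr (fun {T} a b => ?_)
  obtain ⟨E, e, he⟩ := exists_isEqLocus hX a b
  refine ⟨E, e, he, ?_⟩
  apply IsZariskiLocalAtTarget.of_openCover (P := Pr) T.left.affineCover
  intro i
  let Ti : Over S := Over.mk (T.left.affineCover.f i ≫ T.hom)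
  let τ : Ti ⟶ T := Over.homMk (T.left.affineCover.f i) rfl
  haveI : IsAffine Ti.left := inferInstanceAs (IsAffine (T.left.affineCover.X i))
  have he2 := Groth.Agent.S9904.IsEqLocus.baseChange he τ
  obtain ⟨Q, qV, qU', sqQ⟩ := Functor.relativelyRepresentable.of_diag hX
    ((AlgSp.yon S).map τ ≫ a) ((AlgSp.yon S).map τ ≫ b)
  obtain ⟨qU, rfl⟩ := (AlgSp.yon S).map_surjective qU'
  have hPQ : Pr (prod.lift qU qV).left := h Ti Ti Q _ _ qU qV inferInstance inferInstance sqQ
  have he3 := isEqLocus_of_isPullback_diag sqQ
  haveI : Mono (pullback.snd e τ) := he2.1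
  haveI : Mono (pullback.snd (prod.lift qU qV) (Limits.diag Ti)) := he3.1
  obtain ⟨j, hj⟩ := exists_iso_of_factor_iff (pullback.snd e τ)
    (pullback.snd (prod.lift qU qV) (Limits.diag Ti))
    (fun T' x => by rw [← he2.2, ← he3.2])
  have hP2 : Pr (pullback.snd (prod.lift qU qV) (Limits.diag Ti)).left :=
    Pr.of_isPullback ((IsPullback.of_hasPullback (prod.lift qU qV)
      (Limits.diag Ti)).map (Over.forget S)) hPQ
  have hP1 : Pr (pullback.snd e τ).left := by
    rw [← hj, Over.comp_left]
    exact (Pr.cancel_left_of_respectsIso j.hom.left _).2 hP2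
  have hsq : IsPullback (pullback.fst e τ).left (pullback.snd e τ).left e.left τ.left :=
    (IsPullback.of_hasPullback e τ).map (Over.forget S)
  have hsq' : IsPullback (pullback.fst e.left (T.left.affineCover.f i))
      (pullback.snd e.left (T.left.affineCover.f i)) e.left τ.left :=
    IsPullback.of_hasPullback _ _
  have : pullback.snd e.left (T.left.affineCover.f i) =
      (hsq'.isoIsPullback _ _ hsq).hom ≫ (pullback.snd e τ).left :=
    (IsPullback.isoIsPullback_hom_snd _ _ hsq' hsq).symm
  change Pr (pullback.snd e.left (T.left.affineCover.f i))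
  rw [this]
  exact (Pr.cancel_left_of_respectsIso _ _).2 hP1

end Groth.Agent.Lib.Helper12.DiagAff
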