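import Mathlib
import Groth.Agent.S10175
import Groth.Agent.S10176
import Groth.Agent.S10177
import Groth.Prelude.Def_AlgSpCov

/-!
# Topological descent along fpqc coverings of algebraic spaces (helper12)
-/

set_option autoImplicit false
universe u
open CategoryTheory CategoryTheory.Limits AlgebraicGeometry
open AlgSp

namespace Groth.Agent.Lib.Helper12.TopDescent

open Topology

section Top

universe v₁ v₂ v₃ v₄ v₅

variable {A : Type v₁} {B : Type v₂} [TopologicalSpace A] [TopologicalSpace B] {κ : Type v₃}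
  {Ak : κ → Type v₄} {Bk : κ → Type v₅}
  [∀ k, TopologicalSpace (Ak k)] [∀ k, TopologicalSpace (Bk k)]

/-- descent data for a map `φ : A → B` along a jointly surjective family `β k : Bk k → B` inducing
the final topology on `B`, with `Ak k` surjecting onto the fibre products. -/
structure Data (φ : A → B) (α : ∀ k, Ak k → A) (β : ∀ k, Bk k → B) (φk : ∀ k, Ak k → Bk k) :
    Prop where
  hα : ∀ k, Continuous (α k)
  hβ : ∀ k, Continuous (β k)
  comm : ∀ k a, φ (α k a) = β k (φk k a)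
  hfib : ∀ k (a : A) (b : Bk k), φ a = β k b → ∃ a', α k a' = a ∧ φk k a' = b
  hsurj : ∀ b : B, ∃ k b', β k b' = b
  hfinal : ∀ T : Set B, (∀ k, IsClosed (β k ⁻¹' T)) → IsClosed T

variable {φ : A → B} {α : ∀ k, Ak k → A} {β : ∀ k, Bk k → B} {φk : ∀ k, Ak k → Bk k}

lemma Data.hfinal_open (D : Data φ α β φk) (T : Set B) (h : ∀ k, IsOpen (β k ⁻¹' T)) :
    IsOpen T := by
  rw [← isClosed_compl_iff]
  refine D.hfinal _ (fun k => ?_)
  rw [Set.preimage_compl, isClosed_compl_iff]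
  exact h k

lemma Data.preimage_image (D : Data φ α β φk) (C : Set A) (k : κ) :
    β k ⁻¹' (φ '' C) = φk k '' (α k ⁻¹' C) := by
  ext b
  constructor
  · rintro ⟨a, ha, hab⟩
    obtain ⟨a', h1, h2⟩ := D.hfib k a b hab
    exact ⟨a', by rw [Set.mem_preimage, h1]; exact ha, h2⟩
  · rintro ⟨a', ha', rfl⟩
    exact ⟨α k a', ha', D.comm k a'⟩

lemma Data.isClosedMap (D : Data φ α β φk) (h : ∀ k, IsClosedMap (φk k)) : IsClosedMap φ := by
  intro C hC
  refine D.hfinal _ (fun k => ?_)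
  rw [D.preimage_image]
  exact h k _ (hC.preimage (D.hα k))

lemma Data.isOpenMap (D : Data φ α β φk) (h : ∀ k, IsOpenMap (φk k)) : IsOpenMap φ := by
  intro C hC
  refine D.hfinal_open _ (fun k => ?_)
  rw [D.preimage_image]
  exact h k _ (hC.preimage (D.hα k))

lemma Data.injective (D : Data φ α β φk) (h : ∀ k, Function.Injective (φk k)) :
    Function.Injective φ := by
  intro a a' e
  obtain ⟨k, b, hb⟩ := D.hsurj (φ a)
  obtain ⟨a₁, h1, h2⟩ := D.hfib k a b hb.symm
  obtain ⟨a₂, h3, h4⟩ := D.hfib k a' b (e ▸ hb.symm)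
  have : a₁ = a₂ := h k (h2.trans h4.symm)
  rw [← h1, ← h3, this]

lemma Data.surjective (D : Data φ α β φk) (h : ∀ k, Function.Surjective (φk k)) :
    Function.Surjective φ := by
  intro b
  obtain ⟨k, b', hb⟩ := D.hsurj b
  obtain ⟨a', ha'⟩ := h k b'
  exact ⟨α k a', by rw [D.comm, ha', hb]⟩

lemma Data.isQuotientMap (D : Data φ α β φk) (hφ : Continuous φ)
    (h : ∀ k, IsQuotientMap (φk k)) : IsQuotientMap φ := by
  rw [isQuotientMap_iff_isClosed]
  refine ⟨D.surjective (fun k => (h k).surjective),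
    fun T => ⟨fun hT => hT.preimage hφ, fun hT => ?_⟩⟩
  refine D.hfinal _ (fun k => ?_)
  rw [← (h k).isClosed_preimage]
  have : φk k ⁻¹' (β k ⁻¹' T) = α k ⁻¹' (φ ⁻¹' T) := by
    ext a
    simp only [Set.mem_preimage]
    rw [D.comm]
  rw [this]
  exact hT.preimage (D.hα k)

lemma Data.isHomeomorph (D : Data φ α β φk) (hφ : Continuous φ)
    (h : ∀ k, IsHomeomorph (φk k)) : IsHomeomorph φ :=
  ⟨hφ, D.isOpenMap (fun k => (h k).isOpenMap),
    ⟨D.injective (fun k => (h k).injective), D.surjective (fun k => (h k).surjective)⟩⟩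

end Top

variable {S : Scheme.{u}}

lemma isClosed_of_isOpenEmbedding_family {X : Type*} [TopologicalSpace X] {J : Type*}
    {Xj : J → Type*} [∀ j, TopologicalSpace (Xj j)] (e : ∀ j, Xj j → X)
    (he : ∀ j, IsOpenEmbedding (e j)) (hs : ∀ x, ∃ j y, e j y = x) (s : Set X)
    (h : ∀ j, IsClosed (e j ⁻¹' s)) : IsClosed s := by
  rw [← isOpen_compl_iff]
  have : sᶜ = ⋃ j, e j '' (e j ⁻¹' sᶜ) := by
    ext x
    constructor
    · intro hx
      obtain ⟨j, y, rfl⟩ := hs x
      exact Set.mem_iUnion.2 ⟨j, y, hx, rfl⟩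
    · intro hx
      obtain ⟨j, y, hy, rfl⟩ := Set.mem_iUnion.1 hx
      exact hy
  rw [this]
  exact isOpen_iUnion fun j => (he j).isOpenMap _ (by
    rw [Set.preimage_compl]; exact (h j).isOpen_compl)

/-- a finite jointly surjective family of flat morphisms of affine schemes induces the final
topology. -/
lemma isClosed_of_standard_fpqc {Z : Scheme.{u}} [IsAffine Z] {m : ℕ} (W : Fin m → Scheme.{u})
    (c : ∀ j, W j ⟶ Z) (hWa : ∀ j, IsAffine (W j)) (hfl : ∀ j, Flat (c j))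
    (hsurj : ∀ z : Z, ∃ j, z ∈ Set.range (c j)) (T : Set Z)
    (hT : ∀ j, IsClosed ((c j) ⁻¹' T)) : IsClosed T := by
  haveI := hWa
  haveI : Flat (Limits.Sigma.desc c) := IsZariskiLocalAtSource.sigmaDesc (P := @Flat) hfl
  haveI : Surjective (Limits.Sigma.desc c) := by
    refine ⟨fun z => ?_⟩
    obtain ⟨j, w, hw⟩ := hsurj z
    refine ⟨(Limits.Sigma.ι W j) w, ?_⟩
    rw [← Scheme.Hom.comp_apply, Limits.Sigma.ι_desc]
    exact hw
  haveI : QuasiCompact (Limits.Sigma.desc c) := inferInstance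
  rw [← (Flat.isQuotientMap_of_surjective (Limits.Sigma.desc c)).isClosed_preimage]
  refine isClosed_of_isOpenEmbedding_family (fun j => ⇑(Limits.Sigma.ι W j))
    (fun j => (Limits.Sigma.ι W j).isOpenEmbedding) (fun x => ?_) _ (fun j => ?_)
  · obtain ⟨j, y, hy⟩ := (sigmaOpenCover W).exists_eq x
    exact ⟨j, y, hy⟩
  · have : ⇑(Limits.Sigma.ι W j) ⁻¹' (⇑(Limits.Sigma.desc c) ⁻¹' T) = (c j) ⁻¹' T := by
      ext w
      simp only [Set.mem_preimage]
      rw [← Scheme.Hom.comp_apply, Limits.Sigma.ι_desc]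
    rw [this]
    exact hT j

/-- the refinement condition of an fpqc covering. -/
def Refines {ι : Type u} {Y : AlgSp.Sp S} (Yi : ι → AlgSp.Sp S) (g : ∀ i, Yi i ⟶ Y) : Prop :=
  ∀ (Z : Over S), IsAffine Z.left → ∀ (h : (AlgSp.yon S).obj Z ⟶ Y),
    ∃ (m : ℕ) (W : Fin m → Over S) (c : ∀ j, W j ⟶ Z),
      (∀ j, IsAffine (W j).left) ∧ (∀ j, Flat (c j).left) ∧
      (∀ z : ↥Z.left, ∃ j, z ∈ Set.range (c j).left) ∧
      ∀ j, ∃ (i : _) (l : (AlgSp.yon S).obj (W j) ⟶ Yi i), l ≫ g i = (AlgSp.yon S).map (c j) ≫ h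

/-- for an fpqc covering of `Y` and a morphism `z : Z ⟶ Y` from an algebraic space there is a
jointly surjective family of affine schemes over `Z`, inducing the final topology on the points of
`Z`, each member of which lifts through a member of the covering. -/
lemma exists_fpqc_family {ι : Type u} {Y : AlgSp.Sp S} (Yi : ι → AlgSp.Sp S) (g : ∀ i, Yi i ⟶ Y)
    (hcov : Refines Yi g) {Z : AlgSp.Sp S} (hZ : AlgSp.IsAlgSpace Z) (z : Z ⟶ Y) :
    ∃ (κ : Type u) (W : κ → Over S) (w : ∀ k, (AlgSp.yon S).obj (W k) ⟶ Z) (i : κ → ι)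
      (l : ∀ k, (AlgSp.yon S).obj (W k) ⟶ Yi (i k)),
      (∀ k, l k ≫ g (i k) = w k ≫ z) ∧
      (∀ x : AlgSp.Points Z, ∃ k t, AlgSp.Points.map (w k) t = x) ∧
      (∀ T : Set (AlgSp.Points Z), (∀ k, IsClosed (AlgSp.Points.map (w k) ⁻¹' T)) → IsClosed T) := by
  obtain ⟨V, a, hae, has⟩ := hZ.atlas
  let Zo : V.left.affineOpens → Over S := fun V0 => Over.mk (V0.1.ι ≫ V.hom)
  let ιo : ∀ V0 : V.left.affineOpens, Zo V0 ⟶ V := fun V0 => Over.homMk V0.1.ι rfl
  have hZoa : ∀ V0, IsAffine (Zo V0).left := fun V0 => V0.2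
  choose m W c hWa hfl hsurj hl using
    fun V0 => hcov (Zo V0) (hZoa V0) ((AlgSp.yon S).map (ιo V0) ≫ a ≫ z)
  choose i_ l hl using hl
  -- the computation of the map on points
  have hpt : ∀ (V0 : V.left.affineOpens) (j : Fin (m V0)) (t : ↥(W V0 j).left),
      AlgSp.Points.map ((AlgSp.yon S).map (c V0 j) ≫ (AlgSp.yon S).map (ιo V0) ≫ a)
        (AlgSp.Points.schemeHomeo (W V0 j) t) =
      AlgSp.Points.ofPt a (V0.1.ι ((c V0 j).left t)) := by
    intro V0 j t
    rw [AlgSp.Points.map_comp, AlgSp.Points.map_yon_map_apply, AlgSp.Points.map_comp,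
      AlgSp.Points.map_yon_map_apply, AlgSp.Points.ofPt_eq_map_ofScheme]
    rfl
  refine ⟨Σ V0 : V.left.affineOpens, Fin (m V0), fun k => W k.1 k.2,
    fun k => (AlgSp.yon S).map (c k.1 k.2) ≫ (AlgSp.yon S).map (ιo k.1) ≫ a,
    fun k => i_ k.1 k.2, fun k => l k.1 k.2, ?_, ?_, ?_⟩
  · intro k
    rw [hl k.1 k.2]
    simp only [Category.assoc]
  · intro x
    obtain ⟨v, rfl⟩ := Groth.Agent.S10177.surjective_ofPt a has x
    obtain ⟨V0s, ⟨V0, hV0, rfl⟩, hv, -⟩ := (V.left.isBasis_affineOpens).exists_subset_of_mem_open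
      (Set.mem_univ v) isOpen_univ
    obtain ⟨j, t, ht⟩ := hsurj ⟨V0, hV0⟩ ⟨v, hv⟩
    refine ⟨⟨⟨V0, hV0⟩, j⟩, AlgSp.Points.schemeHomeo _ t, ?_⟩
    rw [hpt, ht]
    rfl
  · intro T hT
    have hq : IsQuotientMap (AlgSp.Points.ofPt a) :=
      (Groth.Agent.S10176.isOpenMap_ofPt a hae).isQuotientMap (AlgSp.Points.continuous_ofPt a)
        (Groth.Agent.S10177.surjective_ofPt a has)
    rw [← hq.isClosed_preimage]
    have hcovV : TopologicalSpace.IsOpenCover (fun V0 : V.left.affineOpens => (V0 : V.left.Opens)) :=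
      iSup_affineOpens_eq_top V.left
    rw [hcovV.isClosed_iff_coe_preimage]
    intro V0
    haveI : IsAffine (V0.1 : Scheme.{u}) := V0.2
    refine isClosed_of_standard_fpqc (Z := (V0.1 : Scheme.{u})) (fun j => (W V0 j).left)
      (fun j => (c V0 j).left) (hWa V0) (hfl V0) (hsurj V0) _ (fun j => ?_)
    have := (hT ⟨V0, j⟩).preimage (AlgSp.Points.schemeHomeo (W V0 j)).continuous
    convert this using 1
    ext t
    simp only [Set.mem_preimage]
    rw [hpt]
    rfl

/-- base change for `UnivSp`. -/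
lemma univSp_baseChange (Q : MorphismProperty (AlgSp.Sp S)) {X Y X' Y' : AlgSp.Sp S} {f : X ⟶ Y}
    {g : Y' ⟶ Y} {fst : X' ⟶ X} {f' : X' ⟶ Y'} (sq : IsPullback fst f' f g)
    (hf : AlgSp.UnivSp Q f) : AlgSp.UnivSp Q f' := by
  intro Z Z' hZ z a b sqZ
  exact hf hZ (z ≫ g) (a ≫ fst) b (sqZ.paste_horiz sq)

/-- the descent data on points attached to a family of morphisms to the target of `snd`. -/
lemma data_of_family {Z Z' : AlgSp.Sp S} (snd : Z' ⟶ Z) {κ : Type u} (W : κ → AlgSp.Sp S)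
    (w : ∀ k, W k ⟶ Z)
    (hsurj : ∀ x : AlgSp.Points Z, ∃ k t, AlgSp.Points.map (w k) t = x)
    (hfinal : ∀ T : Set (AlgSp.Points Z),
      (∀ k, IsClosed (AlgSp.Points.map (w k) ⁻¹' T)) → IsClosed T) :
    Data (AlgSp.Points.map snd) (fun k => AlgSp.Points.map (pullback.fst snd (w k)))
      (fun k => AlgSp.Points.map (w k)) (fun k => AlgSp.Points.map (pullback.snd snd (w k))) where
  hα := fun k => AlgSp.Points.continuous_map _
  hβ := fun k => AlgSp.Points.continuous_map _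
  comm := fun k a => by
    rw [← AlgSp.Points.map_comp, ← AlgSp.Points.map_comp, pullback.condition]
  hfib := fun k a b e =>
    Groth.Agent.S10175.exists_point_of_isPullback (IsPullback.of_hasPullback snd (w k)) a b e
  hsurj := hsurj
  hfinal := hfinal

/-- generic form: universal topological properties of morphisms of algebraic spaces are fpqc local
on the base. -/
theorem isLocalOnBase_fpqc_univSp
    (Qt : ∀ {A B : Type (u + 1)} [TopologicalSpace A] [TopologicalSpace B], (A → B) → Prop)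
    (hQt : ∀ {A B : Type (u + 1)} [TopologicalSpace A] [TopologicalSpace B] {κ : Type u}
      {Ak Bk : κ → Type (u + 1)} [∀ k, TopologicalSpace (Ak k)] [∀ k, TopologicalSpace (Bk k)]
      {φ : A → B} {α : ∀ k, Ak k → A} {β : ∀ k, Bk k → B} {φk : ∀ k, Ak k → Bk k},
      Data φ α β φk → Continuous φ → (∀ k, Qt (φk k)) → Qt φ) :
    AlgSp.IsLocalOnBase (AlgSp.IsFpqcCover (S := S))
      (AlgSp.UnivSp fun _ _ f => Qt (AlgSp.Points.map f)) := by
  intro ι Y Yi g hY hYi hcov X f hX Xi p q hXi sq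
  constructor
  · intro hf i
    exact univSp_baseChange _ (sq i) hf
  · intro H Z Z' hZ z fst snd sqZ
    obtain ⟨κ, W, w, i_, l, hl, hsurj, hfinal⟩ := exists_fpqc_family Yi g hcov.2 hZ z
    refine hQt (data_of_family snd (fun k => (AlgSp.yon S).obj (W k)) w hsurj hfinal)
      (AlgSp.Points.continuous_map snd) (fun k => ?_)
    have big : IsPullback (pullback.fst snd (w k) ≫ fst) (pullback.snd snd (w k)) f (w k ≫ z) :=
      (IsPullback.of_hasPullback snd (w k)).paste_horiz sqZ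
    rw [← hl k] at big
    have hw : (pullback.fst snd (w k) ≫ fst) ≫ f =
        (pullback.snd snd (w k) ≫ l k) ≫ g (i_ k) := by
      rw [Category.assoc _ _ (g (i_ k))]; exact big.w
    have left : IsPullback ((sq (i_ k)).lift _ _ hw) (pullback.snd snd (w k)) (p (i_ k)) (l k) := by
      refine IsPullback.of_right ?_ ((sq (i_ k)).lift_snd _ _ hw) (sq (i_ k))
      rw [(sq (i_ k)).lift_fst]
      exact big
    exact H (i_ k) (AlgSp.IsAlgSpace.yon_obj (W k)) (l k) _ _ left

end Groth.Agent.Lib.Helper12.TopDescent
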