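import Mathlib
import Groth.Agent.Lib.Helper12BaseLocal
import Groth.Agent.Lib.Helper12TopDescent
import Groth.Agent.S9903
import Groth.Agent.S9904

/-!
# Properties of the relative diagonal are fpqc local on the base (helper12)
-/

set_option autoImplicit false
universe u
open CategoryTheory CategoryTheory.Limits AlgebraicGeometry
open AlgSp

namespace Groth.Agent.Lib.Helper12.DiagBaseLocal

open Opposite MorphismProperty Groth.Agent.S9900 Groth.Agent.S9904
open Groth.Agent.Lib.Helper12.TopDescent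

variable {S : Scheme.{u}}

/-- the affine case. -/
lemma property_eqLocus_of_affine (P : MorphismProperty Scheme.{u}) [P.IsStableUnderBaseChange]
    [IsZariskiLocalAtTarget P] [P.DescendsAlong (@Surjective ⊓ @Flat ⊓ @QuasiCompact)]
    {ι : Type u} {X Y : AlgSp.Sp S} (Yi : ι → AlgSp.Sp S) (g : ∀ i, Yi i ⟶ Y)
    (hcov : Refines Yi g) (f : X ⟶ Y)
    (Xi : ι → AlgSp.Sp S) (p : ∀ i, Xi i ⟶ Yi i) (q : ∀ i, Xi i ⟶ X)
    (sq : ∀ i, IsPullback (q i) (p i) f (g i))
    (H : ∀ i, AlgSp.RepWith P (pullback.diagonal (p i)))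
    {T E : Over S} (hT : IsAffine T.left) (a b : (AlgSp.yon S).obj T ⟶ X) (e : E ⟶ T)
    (hab : a ≫ f = b ≫ f) (he : IsEqLocus a b e) : P e.left := by
  obtain ⟨m, W, c, hWa, hfl, hsurj, hl⟩ := hcov T hT (a ≫ f)
  refine Groth.Agent.Lib.Helper12.BaseLocal.of_standard_fpqc P e.left (fun j => (W j).left)
    (fun j => (c j).left) hWa hfl hsurj (fun j => ?_)
  refine ⟨(pullback e (c j)).left, (pullback.fst e (c j)).left, (pullback.snd e (c j)).left,
    (IsPullback.of_hasPullback e (c j)).map (Over.forget S), ?_⟩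
  obtain ⟨i, l, hl⟩ := hl j
  have ha1 : ((AlgSp.yon S).map (c j) ≫ a) ≫ f = l ≫ g i := by
    rw [Category.assoc, hl]
  have hb1 : ((AlgSp.yon S).map (c j) ≫ b) ≫ f = l ≫ g i := by
    rw [Category.assoc, ← hab, hl]
  have he1 : IsEqLocus ((sq i).lift _ _ ha1) ((sq i).lift _ _ hb1) (pullback.snd e (c j)) := by
    apply IsEqLocus.of_comp_fst (sq i)
    · rw [(sq i).lift_snd, (sq i).lift_snd]
    · rw [(sq i).lift_fst, (sq i).lift_fst]
      exact IsEqLocus.baseChange he (c j)
  exact IsEqLocus.property_of_repWith (p i) (H i)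
    (by rw [(sq i).lift_snd, (sq i).lift_snd]) he1

/-- a property of the relative diagonal can be checked after base change to an fpqc covering of
the target. -/
theorem repWith_diagonal_of_fpqcCover_base (P : MorphismProperty Scheme.{u})
    [P.IsStableUnderBaseChange]
    [IsZariskiLocalAtTarget P] [P.DescendsAlong (@Surjective ⊓ @Flat ⊓ @QuasiCompact)]
    {ι : Type u} {X Y : AlgSp.Sp S} (Yi : ι → AlgSp.Sp S) (g : ∀ i, Yi i ⟶ Y)
    (hcov : Refines Yi g) (hX : AlgSp.Representable (Limits.diag X)) (f : X ⟶ Y)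
    (Xi : ι → AlgSp.Sp S) (p : ∀ i, Xi i ⟶ Yi i) (q : ∀ i, Xi i ⟶ X)
    (sq : ∀ i, IsPullback (q i) (p i) f (g i))
    (H : ∀ i, AlgSp.RepWith P (pullback.diagonal (p i))) :
    AlgSp.RepWith P (pullback.diagonal f) := by
  refine repWith_diagonal_of_isEqLocus hX f P ?_
  intro T E a b e hab he
  rw [IsZariskiLocalAtTarget.iff_of_openCover (P := P) T.left.affineCover]
  intro k
  obtain ⟨ζ, hζ⟩ : ∃ ζ : T.left.affineCover.X k ⟶ T.left, ζ = T.left.affineCover.f k := ⟨_, rfl⟩
  show P (pullback.snd e.left (T.left.affineCover.f k))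
  rw [← hζ]
  let T0 : Over S := Over.mk (ζ ≫ T.hom)
  let t0 : T0 ⟶ T := Over.homMk ζ rfl
  have hT0 : IsAffine T0.left := by
    show IsAffine (T.left.affineCover.X k)
    infer_instance
  have h0 : P (pullback.snd e t0).left :=
    property_eqLocus_of_affine P Yi g hcov f Xi p q sq H hT0 _ _ _
      (by rw [Category.assoc, Category.assoc, hab]) (IsEqLocus.baseChange he t0)
  have hsq : IsPullback (pullback.fst e t0).left (pullback.snd e t0).left e.left ζ :=
    (IsPullback.of_hasPullback e t0).map (Over.forget S)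
  have e' := (IsPullback.of_hasPullback e.left ζ).isoIsPullback_hom_snd _ _ hsq
  rw [← e']
  exact (P.cancel_left_of_respectsIso _ _).2 h0

end Groth.Agent.Lib.Helper12.DiagBaseLocal
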