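import Mathlib
import Groth.Agent.Lib.Helper12IdealEt2
import Groth.Agent.Lib.Helper12IdealDescent
import Groth.Agent.Lib.Helper12IdealEt3a

set_option autoImplicit false
universe u
open CategoryTheory CategoryTheory.Limits AlgebraicGeometry Opposite

namespace Groth.Agent.Lib.Helper12.IdealEt

open AlgSp

section Sp

variable {S : Scheme.{u}}

/-- the base change along `π : R ⟶ V` of a represented pullback over a chart `V` is a represented
pullback over `R`. -/
lemma exists_pullback_of_chart {F X : AlgSp.Sp S} (f : F ⟶ X) {V E R : Over S}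
    (p : (AlgSp.yon S).obj V ⟶ X) (e : E ⟶ V) (a : (AlgSp.yon S).obj E ⟶ F)
    (sqE : IsPullback a ((AlgSp.yon S).map e) f p) (π : R ⟶ V) :
    ∃ (C : Over S) (c : C ⟶ R) (d : (AlgSp.yon S).obj C ⟶ F),
      IsPullback d ((AlgSp.yon S).map c) f ((AlgSp.yon S).map π ≫ p) ∧
      c.left.ker = (pullback.fst π.left e.left).ker := by
  have hd : pullback.snd π.left e.left ≫ E.hom = pullback.fst π.left e.left ≫ R.hom := by
    rw [← Over.w e, ← Category.assoc, ← pullback.condition, Category.assoc, Over.w π]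
  obtain ⟨c, hc⟩ : ∃ c : Over.mk (pullback.fst π.left e.left ≫ R.hom) ⟶ R,
      c = Over.homMk (pullback.fst π.left e.left) rfl := ⟨_, rfl⟩
  obtain ⟨d, hd'⟩ : ∃ d : Over.mk (pullback.fst π.left e.left ≫ R.hom) ⟶ E,
      d = Over.homMk (pullback.snd π.left e.left) hd := ⟨_, rfl⟩
  have sqk : IsPullback c d π e := by
    refine IsPullback.of_map (Over.forget S) ?_ ?_
    · apply Over.OverMorphism.ext
      rw [hc, hd']
      exact pullback.condition
    · rw [hc, hd']
      exact IsPullback.of_hasPullback π.left e.left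
  refine ⟨_, c, (AlgSp.yon S).map d ≫ a, (sqk.map (AlgSp.yon S)).flip.paste_horiz sqE, ?_⟩
  rw [hc]; rfl

/-- two represented pullbacks of the same morphism have the same kernel. -/
lemma ker_eq_of_isPullback {F X : AlgSp.Sp S} (f : F ⟶ X) {R C1 C2 : Over S}
    (r : (AlgSp.yon S).obj R ⟶ X) (c1 : C1 ⟶ R) (c2 : C2 ⟶ R)
    (d1 : (AlgSp.yon S).obj C1 ⟶ F) (d2 : (AlgSp.yon S).obj C2 ⟶ F)
    (sq1 : IsPullback d1 ((AlgSp.yon S).map c1) f r)
    (sq2 : IsPullback d2 ((AlgSp.yon S).map c2) f r) : c1.left.ker = c2.left.ker := by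
  obtain ⟨ε, hε⟩ : ∃ ε : C1 ≅ C2, ε.hom ≫ c2 = c1 := by
    refine ⟨(AlgSp.yon S).preimageIso (sq1.isoIsPullback _ _ sq2), ?_⟩
    apply (AlgSp.yon S).map_injective
    rw [Functor.map_comp, Functor.preimageIso_hom, Functor.map_preimage]
    exact sq1.isoIsPullback_hom_snd _ _ sq2
  have hl : c1.left = ε.hom.left ≫ c2.left := by rw [← Over.comp_left, hε]
  haveI : IsIso ε.hom.left := (Over.forget S).map_isIso ε.hom
  rw [hl, Scheme.Hom.ker_comp_of_isIso]

/-- base changes to a common scheme of represented pullbacks over two charts have the same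
kernel. -/
lemma ker_fst_eq_of_charts {F X : AlgSp.Sp S} (f : F ⟶ X) {V₁ V₂ E₁ E₂ R : Over S}
    (p₁ : (AlgSp.yon S).obj V₁ ⟶ X) (p₂ : (AlgSp.yon S).obj V₂ ⟶ X) (e₁ : E₁ ⟶ V₁) (e₂ : E₂ ⟶ V₂)
    (a₁ : (AlgSp.yon S).obj E₁ ⟶ F) (a₂ : (AlgSp.yon S).obj E₂ ⟶ F)
    (sq₁ : IsPullback a₁ ((AlgSp.yon S).map e₁) f p₁)
    (sq₂ : IsPullback a₂ ((AlgSp.yon S).map e₂) f p₂) (π₁ : R ⟶ V₁) (π₂ : R ⟶ V₂)
    (h : (AlgSp.yon S).map π₁ ≫ p₁ = (AlgSp.yon S).map π₂ ≫ p₂) :
    (pullback.fst π₁.left e₁.left).ker = (pullback.fst π₂.left e₂.left).ker := by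
  obtain ⟨C1, c1, d1, s1, h1⟩ := exists_pullback_of_chart f p₁ e₁ a₁ sq₁ π₁
  obtain ⟨C2, c2, d2, s2, h2⟩ := exists_pullback_of_chart f p₂ e₂ a₂ sq₂ π₂
  rw [← h] at s2
  rw [← h1, ← h2]
  exact ker_eq_of_isPullback f _ c1 c2 d1 d2 s1 s2

variable {X : AlgSp.Sp S}

/-- the morphism of opens of charts induced by a morphism of the small etale site, over `S`. -/
noncomputable def chartMapOver {E₁ E₂ : AlgSp.EtOver X} (g : E₁ ⟶ E₂)
    (O : E₁.obj.left.left.Opens) (W : E₂.obj.left.left.Opens) (h : O ≤ g.hom.left.left ⁻¹ᵁ W) :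
    openOver E₁.obj.left O ⟶ openOver E₂.obj.left W :=
  Over.homMk (g.hom.left.left.resLE W O h) (by
    change g.hom.left.left.resLE W O h ≫ W.ι ≫ E₂.obj.left.hom = O.ι ≫ E₁.obj.left.hom
    rw [← Category.assoc, Scheme.Hom.resLE_comp_ι, Category.assoc, Over.w g.hom.left])

lemma chartMapOver_w {E₁ E₂ : AlgSp.EtOver X} (g : E₁ ⟶ E₂)
    (O : E₁.obj.left.left.Opens) (W : E₂.obj.left.left.Opens) (h : O ≤ g.hom.left.left ⁻¹ᵁ W) :
    (AlgSp.yon S).map (chartMapOver g O W h) ≫ (AlgSp.yon S).map (openOverι _ W) ≫ E₂.obj.hom =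
      (AlgSp.yon S).map (openOverι _ O) ≫ E₁.obj.hom := by
  have e := AlgSp.EtOver.w g
  have e2 : chartMapOver g O W h ≫ openOverι _ W = openOverι _ O ≫ g.hom.left :=
    Over.OverMorphism.ext (Scheme.Hom.resLE_comp_ι _ _)
  rw [← Category.assoc, ← Functor.map_comp, e2, Functor.map_comp, Category.assoc, e]

/-- the morphism of charts on opens induced by a morphism of the small etale site. -/
noncomputable def chartMap {E₁ E₂ : AlgSp.EtOver X} (g : E₁ ⟶ E₂)
    (O : E₁.obj.left.left.Opens) (W : E₂.obj.left.left.Opens) (h : O ≤ g.hom.left.left ⁻¹ᵁ W) :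
    chartOfOpen E₁.obj.hom E₁.property O ⟶ chartOfOpen E₂.obj.hom E₂.property W :=
  AlgSp.EtOver.homMk (chartMapOver g O W h) (chartMapOver_w g O W h)

lemma chartMap_left {E₁ E₂ : AlgSp.EtOver X} (g : E₁ ⟶ E₂)
    (O : E₁.obj.left.left.Opens) (W : E₂.obj.left.left.Opens) (h : O ≤ g.hom.left.left ⁻¹ᵁ W) :
    (chartMap g O W h).hom.left.left = g.hom.left.left.resLE W O h := rfl

/-- the values of a quasi-coherent family on opens of charts determine each other. -/
lemma ideal_chartOfOpen_eq (I : AlgSp.IdealEt X) (hI : I.IsQCoh) {E₁ E₂ : AlgSp.EtOver X}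
    (g : E₁ ⟶ E₂) (O : E₁.obj.left.left.Opens) (W : E₂.obj.left.left.Opens)
    (h : O ≤ g.hom.left.left ⁻¹ᵁ W) (hO : IsAffineOpen O) (hW : IsAffineOpen W) :
    I.ideal (chartOfOpen E₁.obj.hom E₁.property O) hO =
      (I.ideal (chartOfOpen E₂.obj.hom E₂.property W) hW).map
        (g.hom.left.left.resLE W O h).appTop.hom :=
  le_antisymm (hI (chartMap g O W h) hW hO) (I.map_le (chartMap g O W h) hW hO)

lemma topIso_comp_resLE {V₁ V₂ : Scheme.{u}} (γ : V₁ ⟶ V₂) (O : V₁.Opens) (W : V₂.Opens)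
    (h : O ≤ γ ⁻¹ᵁ W) :
    O.topIso.hom.hom.comp (γ.resLE W O h).appTop.hom = (γ.appLE W O h).hom.comp W.topIso.hom.hom := by
  rw [← CommRingCat.hom_comp, ← CommRingCat.hom_comp, Scheme.Hom.appTop, Scheme.Hom.resLE_app_top,
    Category.assoc, Category.assoc, Iso.inv_hom_id, Category.comp_id]

lemma id_appLE' {V : Scheme.{u}} (O W : V.Opens) (h : O ≤ (𝟙 V : V ⟶ V) ⁻¹ᵁ W) :
    (𝟙 V : V ⟶ V).appLE W O h = V.presheaf.map (homOfLE h).op := by
  rw [Scheme.Hom.appLE, Scheme.Hom.id_app]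
  exact Category.id_comp _

/-- the ideal sheaf on a chart defined by a quasi-coherent family. -/
noncomputable def idealSheafOf (I : AlgSp.IdealEt X) (hI : I.IsQCoh) (E : AlgSp.EtOver X) :
    E.obj.left.left.IdealSheafData where
  ideal W := (I.ideal (chartOfOpen E.obj.hom E.property W.1) W.2).map W.1.topIso.hom.hom
  map_ideal_basicOpen W f := by
    have hle : (E.obj.left.left.affineBasicOpen f).1 ≤ (𝟙 E : E ⟶ E).hom.left.left ⁻¹ᵁ W.1 :=
      E.obj.left.left.basicOpen_le f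
    rw [ideal_chartOfOpen_eq I hI (𝟙 E) (E.obj.left.left.affineBasicOpen f).1 W.1 hle
      (E.obj.left.left.affineBasicOpen f).2 W.2]
    refine (Ideal.map_map _ _).trans (Eq.trans ?_ (Ideal.map_map _ _).symm)
    have hr := topIso_comp_resLE (𝟙 E.obj.left.left) (E.obj.left.left.affineBasicOpen f).1 W.1 hle
    rw [id_appLE'] at hr
    exact congrArg (fun φ => Ideal.map φ (I.ideal (chartOfOpen E.obj.hom E.property W.1) W.2))
      hr.symm

/-- the restriction of `idealSheafOf` to an affine open of the chart. -/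
lemma idealSheafOf_comap_ι (I : AlgSp.IdealEt X) (hI : I.IsQCoh) (E : AlgSp.EtOver X)
    (W : E.obj.left.left.affineOpens) :
    ((idealSheafOf I hI E).comap W.1.ι).ideal ⟨⊤, isAffineOpen_top _⟩ =
      I.ideal (chartOfOpen E.obj.hom E.property W.1) W.2 := by
  rw [ideal_comap_ι_top]
  refine (Ideal.map_map _ _).trans ?_
  have hr : W.1.topIso.inv.hom.comp W.1.topIso.hom.hom = RingHom.id _ := by
    rw [← CommRingCat.hom_comp, Iso.hom_inv_id]; rfl
  exact (congrArg (fun φ => Ideal.map φ (I.ideal (chartOfOpen E.obj.hom E.property W.1) W.2))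
    hr).trans (Ideal.map_id _)

/-- **compatibility of the ideal sheaves on charts defined by a quasi-coherent family.** -/
theorem idealSheafOf_comap (I : AlgSp.IdealEt X) (hI : I.IsQCoh) {E₁ E₂ : AlgSp.EtOver X}
    (g : E₁ ⟶ E₂) :
    (idealSheafOf I hI E₂).comap g.hom.left.left = idealSheafOf I hI E₁ := by
  refine ext_of_comap_ι
    (fun O : {O : E₁.obj.left.left.affineOpens //
      ∃ W : E₂.obj.left.left.affineOpens, O.1 ≤ g.hom.left.left ⁻¹ᵁ W.1} => O.1) ?_ ?_
  · rw [eq_top_iff]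
    intro x _
    obtain ⟨W, hW, hxW, -⟩ := (E₂.obj.left.left.isBasis_affineOpens).exists_subset_of_mem_open
      (Set.mem_univ (g.hom.left.left x)) isOpen_univ
    obtain ⟨W', hW', rfl⟩ := hW
    obtain ⟨O, hO, hxO, hOW⟩ := (E₁.obj.left.left.isBasis_affineOpens).exists_subset_of_mem_open
      (show x ∈ ((g.hom.left.left ⁻¹ᵁ W' : E₁.obj.left.left.Opens) : Set _) from hxW)
      (g.hom.left.left ⁻¹ᵁ W').2
    obtain ⟨O', hO', rfl⟩ := hO
    rw [TopologicalSpace.Opens.mem_iSup]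
    exact ⟨⟨⟨O', hO'⟩, ⟨W', hW'⟩, hOW⟩, hxO⟩
  · rintro ⟨O, W, h⟩
    rw [← Scheme.IdealSheafData.comap_comp, ← Scheme.Hom.resLE_comp_ι g.hom.left.left h,
      Scheme.IdealSheafData.comap_comp]
    apply Scheme.IdealSheafData.ext_of_isAffine
    rw [ideal_comap_top_of_isAffine, idealSheafOf_comap_ι, idealSheafOf_comap_ι]
    exact (ideal_chartOfOpen_eq I hI g O.1 W.1 h O.2 W.2).symm

/-- the global sections of `idealSheafOf` on an affine chart. -/
lemma idealSheafOf_ideal_top (I : AlgSp.IdealEt X) (hI : I.IsQCoh) (E : AlgSp.EtOver X)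
    (hE : IsAffine E.obj.left.left) :
    (idealSheafOf I hI E).ideal ⟨⊤, isAffineOpen_top _⟩ = I.ideal E hE := by
  let g : chartOfOpen E.obj.hom E.property ⊤ ⟶ E :=
    AlgSp.EtOver.homMk (openOverι E.obj.left ⊤) rfl
  have hT : IsAffineOpen (⊤ : E.obj.left.left.Opens) := isAffineOpen_top _
  have h1 : I.ideal (chartOfOpen E.obj.hom E.property ⊤) hT =
      (I.ideal E hE).map (⊤ : E.obj.left.left.Opens).ι.appTop.hom :=
    le_antisymm (hI g hE hT) (I.map_le g hE hT)
  change Ideal.map _ (I.ideal (chartOfOpen E.obj.hom E.property ⊤) hT) = _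
  rw [h1]
  refine (Ideal.map_map _ _).trans ?_
  have hr : (⊤ : E.obj.left.left.Opens).topIso.hom.hom.comp
      (⊤ : E.obj.left.left.Opens).ι.appTop.hom = RingHom.id _ := by
    rw [← CommRingCat.hom_comp, Scheme.Opens.ι_appTop, Scheme.Opens.topIso_hom]
    exact congrArg CommRingCat.Hom.hom
      ((E.obj.left.left.presheaf.map_comp _ _).symm.trans (E.obj.left.left.presheaf.map_id _))
  exact (congrArg (fun φ => Ideal.map φ (I.ideal E hE)) hr).trans (Ideal.map_id _)

end Sp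

end Groth.Agent.Lib.Helper12.IdealEt
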