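import Mathlib
import Groth.Prelude.Def_BlowUp2
import Groth.Agent.Lib.Helper12IdealEt3b

set_option autoImplicit false
universe u
open CategoryTheory CategoryTheory.Limits AlgebraicGeometry Opposite

namespace Groth.Agent.Lib.Helper12.EffCartier

open Groth.Agent.Lib.Helper12.IdealEt

/-- a flat ring homomorphism preserves nonzerodivisors. -/
lemma map_mem_nonZeroDivisors_of_flat {A B : Type u} [CommRing A] [CommRing B] (φ : A →+* B)
    (hφ : φ.Flat) {f : A} (hf : f ∈ nonZeroDivisors A) : φ f ∈ nonZeroDivisors B := by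
  algebraize [φ]
  have h1 : IsSMulRegular A f := by
    intro a b hab
    have : (a - b) * f = 0 := by
      have h2 : f * a = f * b := hab
      rw [sub_mul, mul_comm a f, mul_comm b f, h2, sub_self]
    exact sub_eq_zero.1 (hf.2 _ this)
  have h2 : IsSMulRegular B (algebraMap A B f) := IsSMulRegular.of_flat h1
  rw [mem_nonZeroDivisors_iff_right]
  intro x hx
  have h3 : algebraMap A B f • x = algebraMap A B f • (0 : B) := by
    rw [smul_zero, smul_eq_mul, mul_comm]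
    exact hx
  exact h2 h3

variable {X Y : Scheme.{u}}

/-- the pullback of an ideal sheaf on affine opens. -/
lemma ideal_comap_of_le (γ : X ⟶ Y) (K : Y.IdealSheafData) (O : X.affineOpens) (W : Y.affineOpens)
    (h : O.1 ≤ γ ⁻¹ᵁ W.1) :
    (K.comap γ).ideal O = (K.ideal W).map (γ.appLE W.1 O.1 h).hom := by
  rw [ideal_eq_map_comap_ι_top (K.comap γ) O, ← Scheme.IdealSheafData.comap_comp,
    ← Scheme.Hom.resLE_comp_ι γ h, Scheme.IdealSheafData.comap_comp,
    ideal_comap_top_of_isAffine, ideal_comap_ι_top, Ideal.map_map, Ideal.map_map]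
  congr 1
  rw [topIso_comp_resLE, RingHom.comp_assoc, ← CommRingCat.hom_comp, Iso.inv_hom_id]
  rfl

/-- a principal ideal generated by a nonzerodivisor pulls back along a flat morphism to a
principal ideal generated by a nonzerodivisor. -/
lemma comap_principal_of_flat (γ : X ⟶ Y) [Flat γ] (K : Y.IdealSheafData) (O : X.affineOpens)
    (W : Y.affineOpens) (h : O.1 ≤ γ ⁻¹ᵁ W.1) (f : Γ(Y, W.1)) (hf : f ∈ nonZeroDivisors Γ(Y, W.1))
    (hK : K.ideal W = Ideal.span {f}) :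
    (γ.appLE W.1 O.1 h).hom f ∈ nonZeroDivisors Γ(X, O.1) ∧
      (K.comap γ).ideal O = Ideal.span {(γ.appLE W.1 O.1 h).hom f} := by
  refine ⟨map_mem_nonZeroDivisors_of_flat _
    (HasRingHomProperty.appLE (P := @Flat) γ inferInstance W O h) hf, ?_⟩
  rw [ideal_comap_of_le γ K O W h, hK, Ideal.map_span, Set.image_singleton]

/-- effective Cartier ideal sheaves pull back along flat morphisms. -/
lemma isEffCartierIdeal_comap (γ : X ⟶ Y) [Flat γ] (K : Y.IdealSheafData)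
    (hK : BlowUp.IsEffCartierIdeal K) : BlowUp.IsEffCartierIdeal (K.comap γ) := by
  intro x
  obtain ⟨W, hxW, f, hf, hW⟩ := hK (γ x)
  obtain ⟨O, hO, hxO, hOW⟩ := (X.isBasis_affineOpens).exists_subset_of_mem_open
    (show x ∈ ((γ ⁻¹ᵁ W.1 : X.Opens) : Set X) from hxW) (γ ⁻¹ᵁ W.1).2
  obtain ⟨O', hO', rfl⟩ := hO
  obtain ⟨h1, h2⟩ := comap_principal_of_flat γ K ⟨O', hO'⟩ W hOW f hf hW
  exact ⟨⟨O', hO'⟩, hxO, _, h1, h2⟩

/-- restriction of a principal ideal generated by a nonzerodivisor to a smaller affine open. -/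
lemma restrict_principal (K : X.IdealSheafData) (O W : X.affineOpens) (h : O.1 ≤ W.1)
    (f : Γ(X, W.1)) (hf : f ∈ nonZeroDivisors Γ(X, W.1)) (hK : K.ideal W = Ideal.span {f}) :
    (X.presheaf.map (homOfLE h).op).hom f ∈ nonZeroDivisors Γ(X, O.1) ∧
      K.ideal O = Ideal.span {(X.presheaf.map (homOfLE h).op).hom f} := by
  have h' : O.1 ≤ (𝟙 X : X ⟶ X) ⁻¹ᵁ W.1 := h
  have := comap_principal_of_flat (𝟙 X) K O W h' f hf hK
  rw [Scheme.IdealSheafData.comap_id, id_appLE'] at this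
  exact this

/-- the product of two effective Cartier ideal sheaves is effective Cartier. -/
lemma isEffCartierIdeal_mul (A B C : X.IdealSheafData) (hA : BlowUp.IsEffCartierIdeal A)
    (hB : BlowUp.IsEffCartierIdeal B) (hC : ∀ W : X.affineOpens, C.ideal W = A.ideal W * B.ideal W) :
    BlowUp.IsEffCartierIdeal C := by
  intro x
  obtain ⟨W₁, hx₁, f₁, hf₁, hW₁⟩ := hA x
  obtain ⟨W₂, hx₂, f₂, hf₂, hW₂⟩ := hB x
  obtain ⟨O, hO, hxO, hOW⟩ := (X.isBasis_affineOpens).exists_subset_of_mem_open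
    (show x ∈ ((W₁.1 ⊓ W₂.1 : X.Opens) : Set X) from ⟨hx₁, hx₂⟩) (W₁.1 ⊓ W₂.1).2
  obtain ⟨O', hO', rfl⟩ := hO
  have h1 : O' ≤ W₁.1 := fun y hy => (hOW hy).1
  have h2 : O' ≤ W₂.1 := fun y hy => (hOW hy).2
  obtain ⟨a1, a2⟩ := restrict_principal A ⟨O', hO'⟩ W₁ h1 f₁ hf₁ hW₁
  obtain ⟨b1, b2⟩ := restrict_principal B ⟨O', hO'⟩ W₂ h2 f₂ hf₂ hW₂
  refine ⟨⟨O', hO'⟩, hxO, _, mul_mem a1 b1, ?_⟩
  rw [hC, a2, b2, Ideal.span_singleton_mul_span_singleton]

end Groth.Agent.Lib.Helper12.EffCartier
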