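import Mathlib
import Groth.Agent.Lib.Helper12ClosedDescent

/-!
Helper library (helper12): scheme theoretic images and etale equivalence relations: flat base change
of kernels, saturation of kernels, invariance of closed subschemes cut out by invariant ideals.
-/

set_option autoImplicit false
universe u
open CategoryTheory CategoryTheory.Limits AlgebraicGeometry Opposite
open AlgSp

namespace Groth.Agent.Lib.Helper12.SchImage

open Groth.Agent.Lib.Helper12

/-- flat base change of the kernel of a quasi-compact morphism. -/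
lemma ker_fst_of_flat {E V R : Scheme.{u}} (f : E ⟶ V) [QuasiCompact f] (g : R ⟶ V) [Flat g] :
    (pullback.fst g f).ker = f.ker.comap g := by
  let m : pullback g f ⟶ pullback g f.imageι :=
    pullback.map g f g f.imageι (𝟙 _) f.toImage (𝟙 _) (by simp) (by simp)
  have hm1 : m ≫ pullback.fst g f.imageι = pullback.fst g f :=
    (pullback.lift_fst _ _ _).trans (Category.comp_id _)
  have hm : IsPullback (pullback.snd g f) m f.toImage (pullback.snd g f.imageι) := by
    have big : IsPullback (pullback.snd g f) (pullback.fst g f) (f.toImage ≫ f.imageι) g := by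
      rw [f.toImage_imageι]
      exact (IsPullback.of_hasPullback g f).flip
    refine IsPullback.of_bot ?_ ?_ (IsPullback.of_hasPullback g f.imageι).flip
    · rw [hm1]; exact big
    · exact (pullback.lift_snd _ _ _).symm
  haveI : QuasiCompact (f.toImage ≫ f.imageι) := by rw [f.toImage_imageι]; infer_instance
  haveI : QuasiCompact f.toImage := QuasiCompact.of_comp f.toImage f.imageι
  haveI : IsSchemeTheoreticallyDominant m := IsSchemeTheoreticallyDominant.of_isPullback hm
  change _ = (pullback.fst g f.imageι).ker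
  rw [← hm1, ker_comp_of_dominant]

/-- a morphism factors through the closed subscheme cut out by `J` iff `J` is contained in its
kernel. -/
lemma exists_lift_iff {A V : Scheme.{u}} (J : V.IdealSheafData) (b : A ⟶ V) :
    (∃ b' : A ⟶ J.subscheme, b' ≫ J.subschemeι = b) ↔ J ≤ b.ker := by
  constructor
  · rintro ⟨b', rfl⟩
    conv_lhs => rw [← J.ker_subschemeι]
    exact Scheme.Hom.le_ker_comp _ _
  · intro h
    exact ⟨IsClosedImmersion.lift J.subschemeι b (by rwa [J.ker_subschemeι]),
      IsClosedImmersion.lift_fac _ _ _⟩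

/-- a closed subscheme cut out by an ideal sheaf with equal pullbacks along `s` and `t` is invariant
under the relation `(s, t)`. -/
lemma exists_lift_of_comap_eq {A V R : Scheme.{u}} (J : V.IdealSheafData) (s t : R ⟶ V)
    (h : J.comap s = J.comap t) (ρ : A ⟶ R) (a : A ⟶ J.subscheme)
    (ha : ρ ≫ s = a ≫ J.subschemeι) : ∃ b' : A ⟶ J.subscheme, b' ≫ J.subschemeι = ρ ≫ t := by
  rw [exists_lift_iff, Scheme.Hom.ker_comp, Scheme.IdealSheafData.le_map_iff_comap_le, ← h,
    ← Scheme.IdealSheafData.le_map_iff_comap_le, ← Scheme.Hom.ker_comp, ← exists_lift_iff]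
  exact ⟨a, ha.symm⟩

variable {S : Scheme.{u}}

/-- the pullbacks along two equivalent maps `s, t : R ⟶ V` of the base change `e : E ⟶ V` to a
chart of a morphism of sheaves have the same kernel. -/
lemma ker_fst_eq_of_isPullback {F X : AlgSp.Sp S} (f : F ⟶ X) {V E R : Over S}
    (p : (AlgSp.yon S).obj V ⟶ X) (e : E ⟶ V) (a : (AlgSp.yon S).obj E ⟶ F)
    (sqE : IsPullback a ((AlgSp.yon S).map e) f p) (s t : R ⟶ V)
    (hst : (AlgSp.yon S).map s ≫ p = (AlgSp.yon S).map t ≫ p) :
    (pullback.fst s.left e.left).ker = (pullback.fst t.left e.left).ker := by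
  have key : ∀ (π : R ⟶ V),
      ∃ (C : Over S) (c : C ⟶ R) (d : (AlgSp.yon S).obj C ⟶ F),
        IsPullback d ((AlgSp.yon S).map c) f ((AlgSp.yon S).map π ≫ p) ∧
        c.left.ker = (pullback.fst π.left e.left).ker := by
    intro π
    have hd : pullback.snd π.left e.left ≫ E.hom = pullback.fst π.left e.left ≫ R.hom := by
      rw [← Over.w e, ← Category.assoc, ← pullback.condition, Category.assoc, Over.w π]
    obtain ⟨c, hc⟩ : ∃ c : Over.mk (pullback.fst π.left e.left ≫ R.hom) ⟶ R,
        c = Over.homMk (pullback.fst π.left e.left) rfl := ⟨_, rfl⟩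
    obtain ⟨d, hd'⟩ : ∃ d : Over.mk (pullback.fst π.left e.left ≫ R.hom) ⟶ E,
        d = Over.homMk (pullback.snd π.left e.left) hd := ⟨_, rfl⟩
    have sqk : IsPullback c d π e := by
      refine IsPullback.of_map (Over.forget S) ?_ ?_
      · apply Over.OverMorphism.ext
        rw [hc, hd']
        exact pullback.condition
      · rw [hc, hd']
        exact IsPullback.of_hasPullback π.left e.left
    refine ⟨_, c, (AlgSp.yon S).map d ≫ a, (sqk.map (AlgSp.yon S)).flip.paste_horiz sqE, ?_⟩
    rw [hc]; rfl
  obtain ⟨C1, c1, d1, sq1, h1⟩ := key s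
  obtain ⟨C2, c2, d2, sq2, h2⟩ := key t
  rw [← hst] at sq2
  rw [← h1, ← h2]
  obtain ⟨ε, hε⟩ : ∃ ε : C1 ≅ C2, ε.hom ≫ c2 = c1 := by
    refine ⟨(AlgSp.yon S).preimageIso (sq1.isoIsPullback _ _ sq2), ?_⟩
    apply (AlgSp.yon S).map_injective
    rw [Functor.map_comp, Functor.preimageIso_hom, Functor.map_preimage]
    exact sq1.isoIsPullback_hom_snd _ _ sq2
  have hl : c1.left = ε.hom.left ≫ c2.left := by rw [← Over.comp_left, hε]
  haveI : IsIso ε.hom.left := (Over.forget S).map_isIso ε.hom
  rw [hl, Scheme.Hom.ker_comp_of_isIso]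

end Groth.Agent.Lib.Helper12.SchImage
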