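import Mathlib
import Groth.Agent.Lib.Helper12IdealEt3b
import Groth.Agent.Lib.Helper12ClosedSub
import Groth.Agent.Lib.Helper12SchImage

set_option autoImplicit false
universe u
open CategoryTheory CategoryTheory.Limits AlgebraicGeometry Opposite

namespace Groth.Agent.Lib.Helper12.IdealEt

open AlgSp

variable {S : Scheme.{u}}

/-- **every quasi-coherent family of ideals on the small etale site of an algebraic space is the
ideal of a closed subspace.** -/
theorem exists_isCutOutBy {X : AlgSp.Sp S} (hX : AlgSp.IsAlgSpace X) (I : AlgSp.IdealEt X)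
    (hI : I.IsQCoh) : ∃ (Z : AlgSp.Sp S) (i : Z ⟶ X), AlgSp.IsCutOutBy I i := by
  obtain ⟨U, p, hpe, hps⟩ := hX.atlas
  obtain ⟨EU, hEU⟩ : ∃ EU : AlgSp.EtOver X, EU = AlgSp.EtOver.mk p hpe := ⟨_, rfl⟩
  obtain ⟨J, hJdef⟩ : ∃ J : U.left.IdealSheafData, J = idealSheafOf I hI (AlgSp.EtOver.mk p hpe) :=
    ⟨_, rfl⟩
  obtain ⟨z, hz⟩ : ∃ z : Over.mk (J.subschemeι ≫ U.hom) ⟶ U, z = Over.homMk J.subschemeι rfl :=
    ⟨_, rfl⟩
  have hzl : z.left = J.subschemeι := by rw [hz]; rfl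
  haveI : IsClosedImmersion z.left := by rw [hzl]; infer_instance
  -- the relation
  obtain ⟨R, t, s', sqR⟩ := hpe.1 p
  obtain ⟨s, rfl⟩ := (AlgSp.yon S).map_surjective s'
  have het : Etale t.left := hpe.2 p _ t sqR
  have hER : AlgSp.RepWith @Etale ((AlgSp.yon S).map t ≫ p) :=
    (AlgSp.repWith_isMultiplicative (S := S) @Etale).comp_mem _ _
      ((AlgSp.repWith_yon_map_iff _ _).2 het) hpe
  let gt : AlgSp.EtOver.mk ((AlgSp.yon S).map t ≫ p) hER ⟶ AlgSp.EtOver.mk p hpe :=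
    AlgSp.EtOver.homMk t rfl
  let gs : AlgSp.EtOver.mk ((AlgSp.yon S).map t ≫ p) hER ⟶ AlgSp.EtOver.mk p hpe :=
    AlgSp.EtOver.homMk s sqR.w
  have hJ : J.comap s.left = J.comap t.left := by
    rw [hJdef]
    exact (idealSheafOf_comap I hI gs).trans (idealSheafOf_comap I hI gt).symm
  have hinv : ∀ (A : Over S) (a : A ⟶ Over.mk (J.subschemeι ≫ U.hom)) (b : A ⟶ U),
      (AlgSp.yon S).map (a ≫ z) ≫ p = (AlgSp.yon S).map b ≫ p →
      ∃ b' : A ⟶ Over.mk (J.subschemeι ≫ U.hom), b' ≫ z = b := by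
    intro A a b hab
    obtain ⟨ρ', hρ1, hρ2⟩ : ∃ ρ' : (AlgSp.yon S).obj A ⟶ (AlgSp.yon S).obj R,
        ρ' ≫ (AlgSp.yon S).map s = (AlgSp.yon S).map (a ≫ z) ∧
        ρ' ≫ (AlgSp.yon S).map t = (AlgSp.yon S).map b :=
      ⟨sqR.lift _ _ hab, sqR.lift_fst _ _ _, sqR.lift_snd _ _ _⟩
    obtain ⟨ρ, rfl⟩ := (AlgSp.yon S).map_surjective ρ'
    have h1 : ρ ≫ s = a ≫ z := (AlgSp.yon S).map_injective (by rw [Functor.map_comp]; exact hρ1)
    have h2 : ρ ≫ t = b := (AlgSp.yon S).map_injective (by rw [Functor.map_comp]; exact hρ2)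
    obtain ⟨b'', hb''⟩ := SchImage.exists_lift_of_comap_eq J s.left t.left hJ ρ.left a.left (by
      rw [← Over.comp_left, h1, Over.comp_left, hzl])
    refine ⟨Over.homMk b'' ?_, Over.OverMorphism.ext ?_⟩
    · change b'' ≫ J.subschemeι ≫ U.hom = A.hom
      rw [← Category.assoc, hb'', ← Over.comp_left, h2, Over.w b]
    · change b'' ≫ z.left = b.left
      rw [hzl, hb'', ← Over.comp_left, h2]
  obtain ⟨Z, i, q, sq, hi⟩ := ClosedSub.exists_closed_subspace p hpe hps z hinv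
  refine ⟨Z, i, hi, ?_⟩
  refine AlgSp.IdealEt.ext (funext fun E => funext fun hE => ?_)
  have sqE := AlgSp.EtOver.isPullback_bcObj hi.1 E
  haveI : IsAffine E.obj.left.left := hE
  haveI : IsClosedImmersion (AlgSp.EtOver.bcπ hi.1 E).left :=
    hi.2 E.obj.hom _ (AlgSp.EtOver.bcπ hi.1 E) sqE
  have hK : (AlgSp.EtOver.bcπ hi.1 E).left.ker = idealSheafOf I hI E := by
    obtain ⟨E', a, b', sq'⟩ := hpe.1 E.obj.hom
    obtain ⟨b, rfl⟩ := (AlgSp.yon S).map_surjective b'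
    haveI : Etale a.left := hpe.2 _ _ _ sq'
    haveI : Surjective a.left := hps.2 _ _ _ sq'
    have hE' : AlgSp.RepWith @Etale ((AlgSp.yon S).map a ≫ E.obj.hom) :=
      (AlgSp.repWith_isMultiplicative (S := S) @Etale).comp_mem _ _
        ((AlgSp.repWith_yon_map_iff _ _).2 (inferInstance : Etale a.left)) E.property
    let ga : AlgSp.EtOver.mk ((AlgSp.yon S).map a ≫ E.obj.hom) hE' ⟶ E :=
      AlgSp.EtOver.homMk a rfl
    let gb : AlgSp.EtOver.mk ((AlgSp.yon S).map a ≫ E.obj.hom) hE' ⟶ AlgSp.EtOver.mk p hpe :=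
      AlgSp.EtOver.homMk b sq'.w
    have h1 : (idealSheafOf I hI E).comap a.left = J.comap b.left := by
      rw [hJdef]
      exact (idealSheafOf_comap I hI ga).trans (idealSheafOf_comap I hI gb).symm
    have h2 : (AlgSp.EtOver.bcπ hi.1 E).left.ker.comap a.left = J.comap b.left := by
      rw [← Scheme.IdealSheafData.ker_fst_of_isClosedImmersion]
      have := ker_fst_eq_of_charts i E.obj.hom p (AlgSp.EtOver.bcπ hi.1 E) z _ q sqE sq a b
        sq'.w.symm
      rw [hzl] at this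
      exact this
    exact eq_of_comap_eq_of_etale_surjective a.left _ _ (h2.trans h1.symm)
  change RingHom.ker (AlgSp.EtOver.bcπ hi.1 E).left.appTop.hom = I.ideal E hE
  rw [← idealSheafOf_ideal_top I hI E hE, ← hK, Scheme.Hom.ker_apply]
  rfl

end Groth.Agent.Lib.Helper12.IdealEt
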