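import Mathlib
import Groth.Agent.S9876
import Groth.Agent.Lib.Helper12ClosedSub
import Groth.Agent.Lib.Helper12SchImage
import Groth.Prelude.Def_AlgSpSub

/-!
Helper library (helper12): scheme theoretic images of representable quasi-compact morphisms of
sheaves with an etale atlas; uniqueness of scheme theoretic images.
-/

set_option autoImplicit false
universe u
open CategoryTheory CategoryTheory.Limits AlgebraicGeometry Opposite
open AlgSp

namespace Groth.Agent.Lib.Helper12.SchImage2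

open Groth.Agent.Lib.Helper9 Groth.Agent.Lib.Helper12.ClosedDescent Groth.Agent.Lib.Helper12

variable {S : Scheme.{u}}

lemma mono_of_closedImmersion {Z G : AlgSp.Sp S} {i : Z ⟶ G}
    (hi : AlgSp.RepWith @IsClosedImmersion i) : Mono i :=
  Groth.Agent.S9928.mono_of_repWith @IsClosedImmersion
    (fun X Y g hg => by haveI : IsClosedImmersion g := hg; infer_instance) i hi

/-- scheme theoretic images are unique up to unique isomorphism. -/
lemma isSchImage_unique {F G Z Z' : AlgSp.Sp S} {f : F ⟶ G} {i : Z ⟶ G} {i' : Z' ⟶ G}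
    (hZ : AlgSp.IsAlgSpace Z) (hZ' : AlgSp.IsAlgSpace Z') (h : AlgSp.IsSchImage f i)
    (h' : AlgSp.IsSchImage f i') : ∃ e : Z ≅ Z', e.hom ≫ i' = i := by
  haveI := mono_of_closedImmersion h.1
  haveI := mono_of_closedImmersion h'.1
  obtain ⟨k, hk⟩ := h.2.2 i' hZ' h'.1 h'.2.1
  obtain ⟨k', hk'⟩ := h'.2.2 i hZ h.1 h.2.1
  refine ⟨⟨k, k', ?_, ?_⟩, hk⟩
  · rw [← cancel_mono i, Category.assoc, hk', hk, Category.id_comp]
  · rw [← cancel_mono i', Category.assoc, hk, hk', Category.id_comp]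

/-- a sheaf with a representable closed immersion into an algebraic space is an algebraic space. -/
lemma isAlgSpace_of_closedImmersion {Z X : AlgSp.Sp S} (hX : AlgSp.IsAlgSpace X) (i : Z ⟶ X)
    (hi : AlgSp.Representable i) : AlgSp.IsAlgSpace Z := by
  rw [← AlgSp.isAlgSpaceP_obj_iff]
  refine Groth.Agent.S9876.result S ⟨X, hX⟩ Z.obj i.hom ?_
  intro T ξ
  obtain ⟨b, snd, fst, sq⟩ := hi (ObjectProperty.homMk ξ : (AlgSp.yon S).obj T ⟶ X)
  exact ⟨b, snd, fst.hom, sq.map (sheafToPresheaf _ _)⟩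

/-- **the scheme theoretic image of a quasi-compact representable morphism**, computed on an etale
atlas of the target as the scheme theoretic image of schemes. -/
theorem exists_isSchImage_of_chart {F X : AlgSp.Sp S} (hX : AlgSp.IsAlgSpace X) (f : F ⟶ X)
    {V E : Over S} (p : (AlgSp.yon S).obj V ⟶ X) (hpe : AlgSp.RepWith @Etale p)
    (hps : AlgSp.RepWith @Surjective p) (e : E ⟶ V) (a : (AlgSp.yon S).obj E ⟶ F)
    (sqE : IsPullback a ((AlgSp.yon S).map e) f p) [QuasiCompact e.left] :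
    ∃ (Z : AlgSp.Sp S) (i : Z ⟶ X) (q : (AlgSp.yon S).obj (Over.mk (e.left.imageι ≫ V.hom)) ⟶ Z)
      (f' : F ⟶ Z) (τ : E ⟶ Over.mk (e.left.imageι ≫ V.hom)),
      AlgSp.IsAlgSpace Z ∧ AlgSp.IsSchImage f i ∧
      IsPullback q ((AlgSp.yon S).map
        (Over.homMk e.left.imageι rfl : Over.mk (e.left.imageι ≫ V.hom) ⟶ V)) i p ∧
      f' ≫ i = f ∧ τ.left = e.left.toImage ∧ IsPullback a ((AlgSp.yon S).map τ) f' q := by
  haveI : Epi p := Groth.Agent.S9927.epi_of_repWith p hpe hps
  haveI : Epi a := ToposLike.epi_of_isPullback sqE inferInstance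
  obtain ⟨R, t, s', sqR⟩ := hpe.1 p
  obtain ⟨s, rfl⟩ := (AlgSp.yon S).map_surjective s'
  haveI : Etale t.left := hpe.2 _ _ t sqR
  haveI : Etale s.left := hpe.2 _ _ s sqR.flip
  have hJ : e.left.ker.comap s.left = e.left.ker.comap t.left := by
    rw [← SchImage.ker_fst_of_flat e.left s.left, ← SchImage.ker_fst_of_flat e.left t.left]
    exact SchImage.ker_fst_eq_of_isPullback f p e a sqE s t sqR.w
  obtain ⟨z, hz⟩ : ∃ z : Over.mk (e.left.imageι ≫ V.hom) ⟶ V, z = Over.homMk e.left.imageι rfl :=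
    ⟨_, rfl⟩
  have hzl : z.left = e.left.imageι := by rw [hz]; rfl
  haveI : IsClosedImmersion z.left := by rw [hzl]; infer_instance
  have hinv : ∀ (A : Over S) (a : A ⟶ Over.mk (e.left.imageι ≫ V.hom)) (b : A ⟶ V),
      (AlgSp.yon S).map (a ≫ z) ≫ p = (AlgSp.yon S).map b ≫ p →
      ∃ b' : A ⟶ Over.mk (e.left.imageι ≫ V.hom), b' ≫ z = b := by
    intro A a b hab
    obtain ⟨ρ, hρ⟩ := (AlgSp.yon S).map_surjective (sqR.lift _ _ hab)
    have hρ1 : ρ ≫ s = a ≫ z := by
      apply (AlgSp.yon S).map_injective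
      rw [Functor.map_comp, hρ, sqR.lift_fst]
    have hρ2 : ρ ≫ t = b := by
      apply (AlgSp.yon S).map_injective
      rw [Functor.map_comp, hρ, sqR.lift_snd]
    have ha : ρ.left ≫ s.left = a.left ≫ e.left.ker.subschemeι := by
      rw [← Over.comp_left, hρ1, Over.comp_left, hzl]
    obtain ⟨b', hb'⟩ := SchImage.exists_lift_of_comap_eq e.left.ker s.left t.left
      hJ ρ.left a.left ha
    have hb'l : b' ≫ e.left.imageι = b.left := by
      rw [← hρ2, Over.comp_left]; exact hb'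
    refine ⟨Over.homMk b' ?_, ?_⟩
    · show b' ≫ (e.left.imageι ≫ V.hom) = A.hom
      rw [← Category.assoc, hb'l, Over.w b]
    · apply Over.OverMorphism.ext
      rw [Over.comp_left, hzl]
      exact hb'l
  obtain ⟨Z, i, q, sqZ, hi⟩ := ClosedSub.exists_closed_subspace p hpe hps z hinv
  have hqe : AlgSp.RepWith @Etale q :=
    MorphismProperty.of_isPullback (P := AlgSp.RepWith @Etale) sqZ.flip hpe
  have hqs : AlgSp.RepWith @Surjective q :=
    MorphismProperty.of_isPullback (P := AlgSp.RepWith @Surjective) sqZ.flip hps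
  haveI : Epi q := Groth.Agent.S9927.epi_of_repWith q hqe hqs
  haveI : Mono i := mono_of_closedImmersion hi
  obtain ⟨τ, hτ⟩ : ∃ τ : E ⟶ Over.mk (e.left.imageι ≫ V.hom), τ = Over.homMk e.left.toImage (by
      show e.left.toImage ≫ e.left.imageι ≫ V.hom = E.hom
      rw [← Category.assoc, e.left.toImage_imageι, Over.w e]) := ⟨_, rfl⟩
  have hτl : τ.left = e.left.toImage := by rw [hτ]; rfl
  have hτz : τ ≫ z = e := by
    apply Over.OverMorphism.ext
    rw [Over.comp_left, hτl, hzl]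
    exact e.left.toImage_imageι
  obtain ⟨f', hf', haf'⟩ := exists_factor_of_epi a ((AlgSp.yon S).map τ ≫ q) f i (by
      rw [sqE.w, Category.assoc, sqZ.w, ← Category.assoc, ← Functor.map_comp, hτz])
  have big : IsPullback ((AlgSp.yon S).map τ ≫ (AlgSp.yon S).map z) a p (f' ≫ i) := by
    rw [← Functor.map_comp, hτz, hf']
    exact sqE.flip
  have sqf' : IsPullback a ((AlgSp.yon S).map τ) f' q :=
    (IsPullback.of_right big haf'.symm sqZ.flip).flip
  rw [← hz]
  refine ⟨Z, i, q, f', τ, isAlgSpace_of_closedImmersion hX i hi.1, ⟨hi, ⟨f', hf'⟩, ?_⟩, sqZ, hf',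
    hτl, sqf'⟩
  -- minimality
  intro Z' i' hZ' hi' hf''
  obtain ⟨f'', hf''⟩ := hf''
  obtain ⟨ZV', z', fst', sq'⟩ := hi'.1 p
  haveI : IsClosedImmersion z'.left := hi'.2 _ _ z' sq'
  haveI : Mono i' := mono_of_closedImmersion hi'
  have h2 : z'.left.ker ≤ e.left.ker := by
    obtain ⟨l, hl⟩ := (AlgSp.yon S).map_surjective (sq'.lift (a ≫ f'')
      ((AlgSp.yon S).map e) (by rw [Category.assoc, hf'', sqE.w]))
    have hle : l ≫ z' = e := by
      apply (AlgSp.yon S).map_injective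
      rw [Functor.map_comp, hl, sq'.lift_snd]
    rw [← hle, Over.comp_left]
    exact Scheme.Hom.le_ker_comp _ _
  have h4 : z'.left.ker ≤ z.left.ker := by
    rw [hzl]
    exact h2.trans (le_of_eq (Scheme.IdealSheafData.ker_subschemeι _).symm)
  obtain ⟨lO, hlO⟩ : ∃ lO : Over.mk (e.left.imageι ≫ V.hom) ⟶ ZV', lO ≫ z' = z := by
    refine ⟨Over.homMk (IsClosedImmersion.lift z'.left z.left h4) ?_, ?_⟩
    · rw [← Over.w z', ← Category.assoc, IsClosedImmersion.lift_fac, Over.w z]
    · apply Over.OverMorphism.ext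
      rw [Over.comp_left]
      exact IsClosedImmersion.lift_fac _ _ _
  obtain ⟨k, hk, -⟩ := exists_factor_of_epi q ((AlgSp.yon S).map lO ≫ fst') i i' (by
      rw [sqZ.w, Category.assoc, sq'.w, ← Category.assoc, ← Functor.map_comp, hlO])
  exact ⟨k, hk⟩

end Groth.Agent.Lib.Helper12.SchImage2
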