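import Mathlib
import Groth.Agent.Lib.Helper12IdealEt3c
import Groth.Agent.Lib.Helper12SchImage2

set_option autoImplicit false
universe u
open CategoryTheory CategoryTheory.Limits AlgebraicGeometry Opposite

namespace Groth.Agent.Lib.Helper12.IdealEt

open AlgSp

variable {S : Scheme.{u}}

/-- the kernel family of a quasi-compact representable morphism is quasi-coherent. -/
theorem isQCoh_idealOfRep {F X : AlgSp.Sp S} {f : F ⟶ X} (hf : AlgSp.Representable f)
    (hqc : AlgSp.RepWith @QuasiCompact f) : (AlgSp.idealOfRep hf).IsQCoh := by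
  intro E E' g hE hE'
  haveI : IsAffine E.obj.left.left := hE
  haveI : IsAffine E'.obj.left.left := hE'
  have sqE := AlgSp.EtOver.isPullback_bcObj hf E
  have sqE' := AlgSp.EtOver.isPullback_bcObj hf E'
  haveI : QuasiCompact (AlgSp.EtOver.bcπ hf E).left := hqc.2 E.obj.hom _ _ sqE
  haveI : QuasiCompact (AlgSp.EtOver.bcπ hf E').left := hqc.2 E'.obj.hom _ _ sqE'
  haveI : Etale g.hom.left.left := AlgSp.EtOver.etale_left g
  haveI : Flat g.hom.left.left := inferInstance
  obtain ⟨C, c, d, sqC, hC⟩ := exists_pullback_of_chart f E.obj.hom (AlgSp.EtOver.bcπ hf E) _ sqE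
    g.hom.left
  rw [AlgSp.EtOver.w g] at sqC
  have h1 : (AlgSp.EtOver.bcπ hf E').left.ker = (AlgSp.EtOver.bcπ hf E).left.ker.comap
      g.hom.left.left := by
    rw [ker_eq_of_isPullback f _ _ c _ d sqE' sqC, hC]
    exact SchImage.ker_fst_of_flat _ _
  have h2 := congrArg (fun K => K.ideal ⟨⊤, isAffineOpen_top _⟩) h1
  simp only [] at h2
  rw [ideal_comap_top_of_isAffine, Scheme.Hom.ker_apply, Scheme.Hom.ker_apply] at h2
  exact h2.le

/-- a closed subspace cut out by the kernel family of `f` is the scheme theoretic image of `f`. -/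
theorem isSchImage_of_isCutOutBy {F X Z : AlgSp.Sp S} (hX : AlgSp.IsAlgSpace X) {f : F ⟶ X}
    (hf : AlgSp.Representable f) (i : Z ⟶ X) (h : AlgSp.IsCutOutBy (AlgSp.idealOfRep hf) i) :
    AlgSp.IsSchImage f i := by
  obtain ⟨hi, heq⟩ := h
  refine ⟨hi, exists_factor_of_idealOfRep_le hX hi hf (by rw [heq]; exact fun _ _ => le_rfl), ?_⟩
  intro Z' i' _ hi' hfac
  obtain ⟨f'', hf''⟩ := hfac
  refine exists_factor_of_idealOfRep_le hX hi' hi.1 ?_
  rw [heq]
  exact idealOfRep_le_of_factor hi'.1 hf f'' hf''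

/-- **the scheme theoretic image of a quasi-compact representable morphism is the closed subspace
cut out by its kernel family.** -/
theorem isSchImage_iff_isCutOutBy {F X Z : AlgSp.Sp S} (hX : AlgSp.IsAlgSpace X) {f : F ⟶ X}
    (hf : AlgSp.Representable f) (hqc : AlgSp.RepWith @QuasiCompact f) (i : Z ⟶ X) :
    AlgSp.IsSchImage f i ↔ AlgSp.IsCutOutBy (AlgSp.idealOfRep hf) i := by
  refine ⟨?_, isSchImage_of_isCutOutBy hX hf i⟩
  rintro ⟨hi, ⟨f', hf'⟩, hmin⟩
  refine ⟨hi, ?_⟩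
  obtain ⟨Z₀, i₀, h₀⟩ := exists_isCutOutBy hX (AlgSp.idealOfRep hf) (isQCoh_idealOfRep hf hqc)
  have hZ₀ : AlgSp.IsAlgSpace Z₀ := SchImage2.isAlgSpace_of_closedImmersion hX i₀ h₀.1.1
  have him := isSchImage_of_isCutOutBy hX hf i₀ h₀
  obtain ⟨k, hk⟩ := hmin i₀ hZ₀ h₀.1 him.2.1
  obtain ⟨hi₀, heq₀⟩ := h₀
  have hle1 := idealOfRep_le_of_factor hi₀.1 hi.1 k hk
  rw [heq₀] at hle1
  have hle2 := idealOfRep_le_of_factor hi.1 hf f' hf'
  exact AlgSp.IdealEt.ext (funext fun E => funext fun hE => le_antisymm (hle2 E hE) (hle1 E hE))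

end Groth.Agent.Lib.Helper12.IdealEt
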