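import Mathlib
import Groth.Prelude.Def_AlgSpSub
import Groth.Agent.Lib.Helper12EffCartier
import Groth.Agent.Lib.Helper12IdealEt4

set_option autoImplicit false
universe u
open CategoryTheory CategoryTheory.Limits AlgebraicGeometry Opposite

namespace Groth.Agent.Lib.Helper12.EffCartier

open Groth.Agent.Lib.Helper12.IdealEt AlgSp

variable {S : Scheme.{u}}

/-- the kernel of a represented pullback of a closed subspace over an etale chart is the ideal
sheaf defined by its ideal family. -/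
lemma ker_eq_idealSheafOf {X Z : AlgSp.Sp S} {i : Z ⟶ X} (hi : AlgSp.Representable i)
    (I : AlgSp.IdealEt X) (hI : I.IsQCoh) (heq : AlgSp.idealOfRep hi = I) {V P : Over S}
    (φ : (AlgSp.yon S).obj V ⟶ X) (hφ : AlgSp.RepWith @Etale φ) (π : P ⟶ V)
    [QuasiCompact π.left] (fst : (AlgSp.yon S).obj P ⟶ Z)
    (sq : IsPullback fst ((AlgSp.yon S).map π) i φ) :
    π.left.ker = idealSheafOf I hI (AlgSp.EtOver.mk φ hφ) := by
  subst heq
  refine Scheme.IdealSheafData.ext (funext fun W => ?_)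
  rw [Scheme.Hom.ker_apply]
  change _ = Ideal.map W.1.topIso.hom.hom ((AlgSp.idealOfRep hi).ideal (chartOfOpen φ hφ W.1) W.2)
  rw [← ker_morphismRestrict_eq hi φ hφ π fst sq W.1 W.2]
  have h2 : (π.left ∣_ W.1).appTop = W.1.topIso.hom ≫ π.left.app W.1 ≫
      (π.left ⁻¹ᵁ W.1).topIso.inv := by
    rw [← Scheme.Hom.resLE_eq_morphismRestrict, Scheme.Hom.appTop, Scheme.Hom.resLE_app_top,
      Scheme.Hom.appLE_eq_app]
  have hinj : Function.Injective (π.left ⁻¹ᵁ W.1).topIso.inv.hom :=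
    (ConcreteCategory.bijective_of_isIso (π.left ⁻¹ᵁ W.1).topIso.inv).injective
  have hsurj : Function.Surjective W.1.topIso.hom.hom :=
    (ConcreteCategory.bijective_of_isIso W.1.topIso.hom).surjective
  have h3 : RingHom.ker (π.left ∣_ W.1).appTop.hom =
      Ideal.comap W.1.topIso.hom.hom (RingHom.ker (π.left.app W.1).hom) := by
    ext a
    rw [Ideal.mem_comap, RingHom.mem_ker, RingHom.mem_ker, h2]
    simp only [CommRingCat.hom_comp, RingHom.comp_apply]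
    constructor
    · intro h
      exact hinj (h.trans (map_zero _).symm)
    · intro h
      rw [h, map_zero]
  rw [h3]
  exact (Ideal.map_comap_of_surjective _ hsurj _).symm

/-- a closed subspace is represented, over a chart, by the closed subscheme cut out by the common
kernel of its represented pullbacks. -/
lemma exists_isPullback_subschemeι {X Z : AlgSp.Sp S} {i : Z ⟶ X}
    (hi : AlgSp.RepWith @IsClosedImmersion i) {V : Over S} (φ : (AlgSp.yon S).obj V ⟶ X)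
    (K : V.left.IdealSheafData)
    (hK : ∀ (P : Over S) (π : P ⟶ V) (fst : (AlgSp.yon S).obj P ⟶ Z),
      IsPullback fst ((AlgSp.yon S).map π) i φ → π.left.ker = K) :
    ∃ fst : (AlgSp.yon S).obj (Over.mk (K.subschemeι ≫ V.hom)) ⟶ Z,
      IsPullback fst ((AlgSp.yon S).map
        (Over.homMk K.subschemeι rfl : Over.mk (K.subschemeι ≫ V.hom) ⟶ V)) i φ := by
  obtain ⟨P, π, fstP, sqP⟩ := hi.1 φ
  haveI : IsClosedImmersion π.left := hi.2 φ fstP π sqP
  have h := hK P π fstP sqP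
  subst h
  have hε : π.left.toImage ≫ π.left.ker.subschemeι = π.left := π.left.toImage_imageι
  have hε' : inv π.left.toImage ≫ π.left = π.left.ker.subschemeι := by
    rw [IsIso.inv_comp_eq]; exact hε.symm
  let e : Over.mk (π.left.ker.subschemeι ≫ V.hom) ≅ P :=
    Over.isoMk (asIso π.left.toImage).symm (by
      change inv π.left.toImage ≫ P.hom = π.left.ker.subschemeι ≫ V.hom
      rw [← Over.w π, ← Category.assoc, hε'])
  have hcomm : e.hom ≫ π =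
      (Over.homMk π.left.ker.subschemeι rfl : Over.mk (π.left.ker.subschemeι ≫ V.hom) ⟶ V) :=
    Over.OverMorphism.ext hε'
  have hsq : IsPullback ((AlgSp.yon S).map e.hom) ((AlgSp.yon S).map
      (Over.homMk π.left.ker.subschemeι rfl : Over.mk (π.left.ker.subschemeι ≫ V.hom) ⟶ V))
      ((AlgSp.yon S).map π) (𝟙 _) :=
    IsPullback.of_horiz_isIso ⟨by rw [Category.comp_id, ← Functor.map_comp, hcomm]⟩
  have hbig := hsq.paste_horiz sqP
  rw [Category.id_comp] at hbig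
  exact ⟨_, hbig⟩

/-- a closed subspace cut out by a quasi-coherent family is represented over every etale chart by
the closed subscheme of the ideal sheaf of the family. -/
lemma exists_isPullback_idealSheafOf {X Z : AlgSp.Sp S} {i : Z ⟶ X} (I : AlgSp.IdealEt X)
    (hI : I.IsQCoh) (hZ : AlgSp.IsCutOutBy I i) {V : Over S} (φ : (AlgSp.yon S).obj V ⟶ X)
    (hφ : AlgSp.RepWith @Etale φ) :
    ∃ fst : (AlgSp.yon S).obj (Over.mk ((idealSheafOf I hI (AlgSp.EtOver.mk φ hφ)).subschemeι ≫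
        V.hom)) ⟶ Z,
      IsPullback fst ((AlgSp.yon S).map
        (Over.homMk (idealSheafOf I hI (AlgSp.EtOver.mk φ hφ)).subschemeι rfl :
          Over.mk ((idealSheafOf I hI (AlgSp.EtOver.mk φ hφ)).subschemeι ≫ V.hom) ⟶ V)) i φ := by
  obtain ⟨hi, heq⟩ := hZ
  refine exists_isPullback_subschemeι hi φ _ ?_
  intro P π fst sq
  haveI : IsClosedImmersion π.left := hi.2 φ fst π sq
  exact ker_eq_idealSheafOf hi.1 I hI heq φ hφ π fst sq

/-- the ideal sheaf of the chart datum of a closed subspace cut out by a quasi-coherent family. -/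
lemma eq_idealSheafOf_of_isPullback {X Z : AlgSp.Sp S} {i : Z ⟶ X} (I : AlgSp.IdealEt X)
    (hI : I.IsQCoh) (hZ : AlgSp.IsCutOutBy I i) {V : Over S} (φ : (AlgSp.yon S).obj V ⟶ X)
    (hφ : AlgSp.RepWith @Etale φ) (K : V.left.IdealSheafData)
    (fst : (AlgSp.yon S).obj (Over.mk (K.subschemeι ≫ V.hom)) ⟶ Z)
    (sq : IsPullback fst ((AlgSp.yon S).map
      (Over.homMk K.subschemeι rfl : Over.mk (K.subschemeι ≫ V.hom) ⟶ V)) i φ) :
    K = idealSheafOf I hI (AlgSp.EtOver.mk φ hφ) := by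
  obtain ⟨hi, heq⟩ := hZ
  haveI : QuasiCompact (Over.homMk K.subschemeι rfl : Over.mk (K.subschemeι ≫ V.hom) ⟶ V).left :=
    (inferInstance : QuasiCompact K.subschemeι)
  have h := ker_eq_idealSheafOf hi.1 I hI heq φ hφ
    (Over.homMk K.subschemeι rfl : Over.mk (K.subschemeι ≫ V.hom) ⟶ V) fst sq
  rw [← h]
  exact K.ker_subschemeι.symm

/-- the product of quasi-coherent families is quasi-coherent. -/
lemma isQCoh_mul {X : AlgSp.Sp S} (I J : AlgSp.IdealEt X) (hI : I.IsQCoh) (hJ : J.IsQCoh) :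
    (I * J).IsQCoh := by
  intro E E' g hE hE'
  change I.ideal E' hE' * J.ideal E' hE' ≤ Ideal.map _ (I.ideal E hE * J.ideal E hE)
  rw [Ideal.map_mul]
  exact Ideal.mul_mono (hI g hE hE') (hJ g hE hE')

/-- **the sum of two effective Cartier divisors on an algebraic space is effective Cartier.** -/
theorem isEffCartierSub_mul {X D₁ D₂ D : AlgSp.Sp S} (i₁ : D₁ ⟶ X) (i₂ : D₂ ⟶ X) (i : D ⟶ X)
    (I₁ I₂ : AlgSp.IdealEt X) (hI₁ : I₁.IsQCoh) (hI₂ : I₂.IsQCoh)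
    (h₁ : AlgSp.IsCutOutBy I₁ i₁) (h₂ : AlgSp.IsCutOutBy I₂ i₂)
    (hD : AlgSp.IsCutOutBy (I₁ * I₂) i) (e₁ : AlgSp.IsEffCartierSub i₁)
    (e₂ : AlgSp.IsEffCartierSub i₂) : AlgSp.IsEffCartierSub i := by
  obtain ⟨hi₁, V₁, φ₁, K₁, fst₁, hφ₁e, hφ₁s, sq₁, hK₁⟩ := e₁
  obtain ⟨hi₂, V₂, φ₂, K₂, fst₂, hφ₂e, hφ₂s, sq₂, hK₂⟩ := e₂
  obtain ⟨V, pr₂, pr₁', sqV⟩ := hφ₁e.1 φ₂
  obtain ⟨pr₁, rfl⟩ := (AlgSp.yon S).map_surjective pr₁'
  have het₂ : Etale pr₂.left := hφ₁e.2 φ₂ _ pr₂ sqV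
  have hsu₂ : Surjective pr₂.left := hφ₁s.2 φ₂ _ pr₂ sqV
  haveI het₁ : Etale pr₁.left := hφ₂e.2 φ₁ _ pr₁ sqV.flip
  haveI := het₂
  have hφe : AlgSp.RepWith @Etale ((AlgSp.yon S).map pr₂ ≫ φ₂) :=
    (AlgSp.repWith_isMultiplicative (S := S) @Etale).comp_mem _ _
      ((AlgSp.repWith_yon_map_iff _ _).2 het₂) hφ₂e
  have hφs : AlgSp.RepWith @Surjective ((AlgSp.yon S).map pr₂ ≫ φ₂) :=
    (AlgSp.repWith_isMultiplicative (S := S) @Surjective).comp_mem _ _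
      ((AlgSp.repWith_yon_map_iff _ _).2 hsu₂) hφ₂s
  have hQ := isQCoh_mul I₁ I₂ hI₁ hI₂
  obtain ⟨fst, sq⟩ := exists_isPullback_idealSheafOf (I₁ * I₂) hQ hD _ hφe
  refine ⟨hD.1, V, _, _, fst, hφe, hφs, sq, ?_⟩
  let g₁ : AlgSp.EtOver.mk ((AlgSp.yon S).map pr₂ ≫ φ₂) hφe ⟶ AlgSp.EtOver.mk φ₁ hφ₁e :=
    AlgSp.EtOver.homMk pr₁ sqV.w
  let g₂ : AlgSp.EtOver.mk ((AlgSp.yon S).map pr₂ ≫ φ₂) hφe ⟶ AlgSp.EtOver.mk φ₂ hφ₂e :=
    AlgSp.EtOver.homMk pr₂ rfl
  have hA : idealSheafOf I₁ hI₁ (AlgSp.EtOver.mk ((AlgSp.yon S).map pr₂ ≫ φ₂) hφe) =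
      K₁.comap pr₁.left := by
    rw [eq_idealSheafOf_of_isPullback I₁ hI₁ h₁ φ₁ hφ₁e K₁ fst₁ sq₁]
    exact (idealSheafOf_comap I₁ hI₁ g₁).symm
  have hB : idealSheafOf I₂ hI₂ (AlgSp.EtOver.mk ((AlgSp.yon S).map pr₂ ≫ φ₂) hφe) =
      K₂.comap pr₂.left := by
    rw [eq_idealSheafOf_of_isPullback I₂ hI₂ h₂ φ₂ hφ₂e K₂ fst₂ sq₂]
    exact (idealSheafOf_comap I₂ hI₂ g₂).symm
  refine isEffCartierIdeal_mul
    (idealSheafOf I₁ hI₁ (AlgSp.EtOver.mk ((AlgSp.yon S).map pr₂ ≫ φ₂) hφe))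
    (idealSheafOf I₂ hI₂ (AlgSp.EtOver.mk ((AlgSp.yon S).map pr₂ ≫ φ₂) hφe)) _ ?_ ?_
    (fun W => Ideal.map_mul _ _ _)
  · rw [hA]
    exact isEffCartierIdeal_comap pr₁.left K₁ hK₁
  · rw [hB]
    exact isEffCartierIdeal_comap pr₂.left K₂ hK₂

end Groth.Agent.Lib.Helper12.EffCartier
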