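import Mathlib
import Groth.Agent.Lib.Helper12EffCartier2

set_option autoImplicit false
universe u
open CategoryTheory CategoryTheory.Limits AlgebraicGeometry Opposite

namespace Groth.Agent.Lib.Helper12.EffCartier

open Groth.Agent.Lib.Helper12.IdealEt AlgSp

section Algebra

variable {R : Type u} [CommRing R]

/-- if `𝔞 𝔟 = (f)` with `f` a nonzerodivisor, the quotients `a b / f` generate the unit ideal. -/
lemma span_quotients_eq_top (𝔞 𝔟 : Ideal R) (f : R) (hf : f ∈ nonZeroDivisors R)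
    (h : 𝔞 * 𝔟 = Ideal.span {f}) :
    Ideal.span {c : R | ∃ a ∈ 𝔞, ∃ b ∈ 𝔟, a * b = c * f} = ⊤ := by
  have key : ∀ x ∈ 𝔞 * 𝔟, ∃ c ∈ Ideal.span {c : R | ∃ a ∈ 𝔞, ∃ b ∈ 𝔟, a * b = c * f},
      x = c * f := by
    intro x hx
    refine Submodule.mul_induction_on hx ?_ ?_
    · intro a ha b hb
      have hab : a * b ∈ Ideal.span {f} := h ▸ Ideal.mul_mem_mul ha hb
      obtain ⟨c, hc⟩ := Ideal.mem_span_singleton'.1 hab
      exact ⟨c, Ideal.subset_span ⟨a, ha, b, hb, hc.symm⟩, hc.symm⟩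
    · rintro x y ⟨c, hc, rfl⟩ ⟨d, hd, rfl⟩
      exact ⟨c + d, Ideal.add_mem _ hc hd, (add_mul _ _ _).symm⟩
  have hfm : f ∈ 𝔞 * 𝔟 := h ▸ Ideal.mem_span_singleton_self f
  obtain ⟨c, hc, hcf⟩ := key f hfm
  have hc1 : c = 1 := by
    have : (c - 1) * f = 0 := by rw [sub_mul, one_mul, ← hcf, sub_self]
    exact sub_eq_zero.1 (hf.2 _ this)
  rw [Ideal.eq_top_iff_one, ← hc1]
  exact hc

/-- if `𝔞 𝔟 = (f)` with `f` a nonzerodivisor and `a b = c f`, then after inverting `c` the ideal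
`𝔞` is generated by the nonzerodivisor `a`. -/
lemma map_eq_span_of_mul_eq (𝔞 𝔟 : Ideal R) (f : R) (hf : f ∈ nonZeroDivisors R)
    (h : 𝔞 * 𝔟 = Ideal.span {f}) (a b c : R) (ha : a ∈ 𝔞) (hb : b ∈ 𝔟) (habc : a * b = c * f)
    (R' : Type u) [CommRing R'] [Algebra R R'] [IsLocalization.Away c R'] :
    algebraMap R R' a ∈ nonZeroDivisors R' ∧
      𝔞.map (algebraMap R R') = Ideal.span {algebraMap R R' a} := by
  have hcu : IsUnit (algebraMap R R' c) := IsLocalization.Away.algebraMap_isUnit c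
  have hflat : (algebraMap R R').Flat := by
    haveI : Module.Flat R R' := IsLocalization.flat R' (Submonoid.powers c)
    exact RingHom.flat_algebraMap_iff.2 inferInstance
  have hfn : algebraMap R R' f ∈ nonZeroDivisors R' := map_mem_nonZeroDivisors_of_flat _ hflat hf
  constructor
  · rw [mem_nonZeroDivisors_iff_right]
    intro z hz
    have h1 : z * algebraMap R R' c * algebraMap R R' f = 0 := by
      rw [mul_assoc, ← map_mul, ← habc, map_mul, ← mul_assoc, hz, zero_mul]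
    have h2 : z * algebraMap R R' c = 0 := hfn.2 _ h1
    exact (hcu.mul_left_eq_zero).1 h2
  · apply le_antisymm
    · rw [Ideal.map_le_iff_le_comap]
      intro x hx
      rw [Ideal.mem_comap, Ideal.mem_span_singleton']
      have hxb : x * b ∈ Ideal.span {f} := h ▸ Ideal.mul_mem_mul hx hb
      obtain ⟨y, hy⟩ := Ideal.mem_span_singleton'.1 hxb
      have h3 : x * c = a * y := by
        have : (x * c - a * y) * f = 0 := by
          rw [sub_mul, mul_assoc, ← habc, mul_assoc a y f, hy]; ring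
        exact sub_eq_zero.1 (hf.2 _ this)
      obtain ⟨u, hu⟩ := hcu
      refine ⟨algebraMap R R' y * ↑u⁻¹, ?_⟩
      have h4 : algebraMap R R' x * algebraMap R R' c = algebraMap R R' a * algebraMap R R' y := by
        rw [← map_mul, ← map_mul, h3]
      rw [← hu] at h4
      calc algebraMap R R' y * ↑u⁻¹ * algebraMap R R' a
          = (algebraMap R R' a * algebraMap R R' y) * ↑u⁻¹ := by ring
        _ = algebraMap R R' x * ↑u * ↑u⁻¹ := by rw [← h4]
        _ = algebraMap R R' x := by rw [mul_assoc, Units.mul_inv, mul_one]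
    · rw [Ideal.span_le, Set.singleton_subset_iff]
      exact Ideal.mem_map_of_mem _ ha

end Algebra

/-- a factor of an effective Cartier ideal sheaf is effective Cartier. -/
lemma isEffCartierIdeal_of_mul {X : Scheme.{u}} (A B C : X.IdealSheafData)
    (hC : BlowUp.IsEffCartierIdeal C)
    (hmul : ∀ W : X.affineOpens, C.ideal W = A.ideal W * B.ideal W) :
    BlowUp.IsEffCartierIdeal A := by
  intro x
  obtain ⟨O, hxO, f, hf, hO⟩ := hC x
  rw [hmul] at hO
  have hspan := span_quotients_eq_top (A.ideal O) (B.ideal O) f hf hO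
  have hcov := iSup_basicOpen_of_span_eq_top O.1 _ hspan
  have hx' : x ∈ (⨆ c ∈ {c : Γ(X, O.1) | ∃ a ∈ A.ideal O, ∃ b ∈ B.ideal O, a * b = c * f},
      X.basicOpen c) := by rw [hcov]; exact hxO
  simp only [TopologicalSpace.Opens.mem_iSup] at hx'
  obtain ⟨c, ⟨a, ha, b, hb, habc⟩, hxc⟩ := hx'
  letI : Algebra Γ(X, O.1) Γ(X, X.basicOpen c) :=
    (X.presheaf.map (homOfLE (X.basicOpen_le c)).op).hom.toAlgebra
  haveI : IsLocalization.Away c Γ(X, X.basicOpen c) := O.2.isLocalization_basicOpen c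
  obtain ⟨h1, h2⟩ := map_eq_span_of_mul_eq (A.ideal O) (B.ideal O) f hf hO a b c ha hb habc
    Γ(X, X.basicOpen c)
  refine ⟨X.affineBasicOpen c, hxc, _, h1, ?_⟩
  rw [← A.map_ideal_basicOpen O c]
  exact h2

variable {S : Scheme.{u}}

/-- **if the closed subspace cut out by a product of two quasi-coherent ideals is an effective
Cartier divisor, so are the two factors.** -/
theorem isEffCartierSub_of_mul {X Z Y D : AlgSp.Sp S} (iZ : Z ⟶ X) (iY : Y ⟶ X) (iD : D ⟶ X)
    (I J : AlgSp.IdealEt X) (hI : I.IsQCoh) (hJ : J.IsQCoh) (hZ : AlgSp.IsCutOutBy I iZ)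
    (hY : AlgSp.IsCutOutBy J iY) (hD : AlgSp.IsCutOutBy (I * J) iD)
    (hDc : AlgSp.IsEffCartierSub iD) :
    AlgSp.IsEffCartierSub iZ ∧ AlgSp.IsEffCartierSub iY := by
  obtain ⟨hiD, V, φ, K, fstD, hφe, hφs, sqD, hK⟩ := hDc
  have hQ := isQCoh_mul I J hI hJ
  have hKeq : K = idealSheafOf (I * J) hQ (AlgSp.EtOver.mk φ hφe) :=
    eq_idealSheafOf_of_isPullback (I * J) hQ hD φ hφe K fstD sqD
  have hmul : ∀ W : V.left.affineOpens, K.ideal W =
      (idealSheafOf I hI (AlgSp.EtOver.mk φ hφe)).ideal W *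
        (idealSheafOf J hJ (AlgSp.EtOver.mk φ hφe)).ideal W := by
    rw [hKeq]
    exact fun W => Ideal.map_mul _ _ _
  constructor
  · obtain ⟨fst, sq⟩ := exists_isPullback_idealSheafOf I hI hZ φ hφe
    exact ⟨hZ.1, V, φ, _, fst, hφe, hφs, sq, isEffCartierIdeal_of_mul _ _ K hK hmul⟩
  · obtain ⟨fst, sq⟩ := exists_isPullback_idealSheafOf J hJ hY φ hφe
    exact ⟨hY.1, V, φ, _, fst, hφe, hφs, sq,
      isEffCartierIdeal_of_mul _ _ K hK (fun W => (hmul W).trans (mul_comm _ _))⟩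

end Groth.Agent.Lib.Helper12.EffCartier
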