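import Mathlib
import Groth.Agent.Lib.Helper12EffCartier3

set_option autoImplicit false
universe u
open CategoryTheory CategoryTheory.Limits AlgebraicGeometry Opposite

namespace Groth.Agent.Lib.Helper12.EffCartier

open Groth.Agent.Lib.Helper12.IdealEt AlgSp

variable {S : Scheme.{u}}

/-- **the inverse image of an effective Cartier divisor under a flat morphism of algebraic spaces
is an effective Cartier divisor.** -/
theorem isEffCartierSub_of_flat {X Y D P : AlgSp.Sp S} (hX : AlgSp.IsAlgSpace X) (f : X ⟶ Y)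
    (hf : AlgSp.LocP @Flat f) (i : D ⟶ Y) (hD : AlgSp.IsEffCartierSub i) (fst : P ⟶ D)
    (snd : P ⟶ X) (hP : IsPullback fst snd i f) : AlgSp.IsEffCartierSub snd := by
  obtain ⟨hi, V, φ, K, fstD, hφe, hφs, sqD, hK⟩ := hD
  obtain ⟨U0, p0, hp0, hp0s⟩ := hX.atlas
  obtain ⟨U', π, h', sqU'⟩ := hφe.1 (p0 ≫ f)
  obtain ⟨hh, rfl⟩ := (AlgSp.yon S).map_surjective h'
  have het : Etale π.left := hφe.2 _ _ π sqU'
  have hsu : Surjective π.left := hφs.2 _ _ π sqU'
  have hae : AlgSp.RepWith @Etale ((AlgSp.yon S).map π ≫ p0) :=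
    (AlgSp.repWith_isMultiplicative (S := S) @Etale).comp_mem _ _
      ((AlgSp.repWith_yon_map_iff _ _).2 het) hp0
  have has : AlgSp.RepWith @Surjective ((AlgSp.yon S).map π ≫ p0) :=
    (AlgSp.repWith_isMultiplicative (S := S) @Surjective).comp_mem _ _
      ((AlgSp.repWith_yon_map_iff _ _).2 hsu) hp0s
  have hw : ((AlgSp.yon S).map π ≫ p0) ≫ f = (AlgSp.yon S).map hh ≫ φ := by
    rw [Category.assoc]; exact sqU'.w.symm
  haveI : Flat hh.left := hf _ _ hh hae hφe hw
  have hsnd : AlgSp.RepWith @IsClosedImmersion snd :=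
    (AlgSp.RepWith @IsClosedImmersion).of_isPullback hP hi
  have hK' : ∀ (P' : Over S) (π' : P' ⟶ U') (fst' : (AlgSp.yon S).obj P' ⟶ D),
      IsPullback fst' ((AlgSp.yon S).map π') i ((AlgSp.yon S).map hh ≫ φ) →
      π'.left.ker = K.comap hh.left := by
    intro P' π' fst' sq'
    obtain ⟨C, c, d, sqC, hC⟩ := exists_pullback_of_chart i φ
      (Over.homMk K.subschemeι rfl : Over.mk (K.subschemeι ≫ V.hom) ⟶ V) fstD sqD hh
    rw [ker_eq_of_isPullback i _ π' c fst' d sq' sqC, hC]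
    rfl
  obtain ⟨fst₀, sq₀⟩ := exists_isPullback_subschemeι hi ((AlgSp.yon S).map hh ≫ φ)
    (K.comap hh.left) hK'
  rw [← hw] at sq₀
  obtain ⟨l, hl1, hl2⟩ : ∃ l : (AlgSp.yon S).obj
      (Over.mk ((K.comap hh.left).subschemeι ≫ U'.hom)) ⟶ P,
      l ≫ fst = fst₀ ∧ l ≫ snd = (AlgSp.yon S).map
        (Over.homMk (K.comap hh.left).subschemeι rfl :
          Over.mk ((K.comap hh.left).subschemeι ≫ U'.hom) ⟶ U') ≫ ((AlgSp.yon S).map π ≫ p0) :=
    ⟨hP.lift _ _ (by rw [sq₀.w]; simp only [Category.assoc]), hP.lift_fst _ _ _,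
      hP.lift_snd _ _ _⟩
  have sqL : IsPullback l ((AlgSp.yon S).map
      (Over.homMk (K.comap hh.left).subschemeι rfl :
        Over.mk ((K.comap hh.left).subschemeι ≫ U'.hom) ⟶ U')) snd
      ((AlgSp.yon S).map π ≫ p0) :=
    IsPullback.of_right (by rw [hl1]; exact sq₀) hl2 hP
  exact ⟨hsnd, U', _, K.comap hh.left, l, hae, has, sqL, isEffCartierIdeal_comap hh.left K hK⟩

end Groth.Agent.Lib.Helper12.EffCartier
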