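import Mathlib
import Groth.Agent.Lib.Helper12EffCartier3

set_option autoImplicit false
universe u
open CategoryTheory CategoryTheory.Limits AlgebraicGeometry Opposite

namespace Groth.Agent.Lib.Helper12.EffCartier

open Groth.Agent.Lib.Helper12.IdealEt AlgSp

section Algebra

variable {R B : Type u} [CommRing R] [CommRing B]

/-- if the extension of `𝔞` along `ψ` is generated by the nonzerodivisor `g`, the quotients
`ψ r / g`, `r ∈ 𝔞`, generate the unit ideal. -/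
lemma span_quotients_map_eq_top (ψ : R →+* B) (𝔞 : Ideal R) (g : B) (hg : g ∈ nonZeroDivisors B)
    (h : 𝔞.map ψ = Ideal.span {g}) :
    Ideal.span {c : B | ∃ r ∈ 𝔞, ψ r = c * g} = ⊤ := by
  have key : ∀ x ∈ 𝔞.map ψ, ∃ c ∈ Ideal.span {c : B | ∃ r ∈ 𝔞, ψ r = c * g}, x = c * g := by
    intro x hx
    refine Submodule.span_induction ?_ ?_ ?_ ?_ hx
    · rintro _ ⟨r, hr, rfl⟩
      have hr' : ψ r ∈ Ideal.span {g} := h ▸ Ideal.mem_map_of_mem ψ hr
      obtain ⟨c, hc⟩ := Ideal.mem_span_singleton'.1 hr'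
      exact ⟨c, Ideal.subset_span ⟨r, hr, hc.symm⟩, hc.symm⟩
    · exact ⟨0, Ideal.zero_mem _, (zero_mul _).symm⟩
    · rintro x y _ _ ⟨c, hc, rfl⟩ ⟨d, hd, rfl⟩
      exact ⟨c + d, Ideal.add_mem _ hc hd, (add_mul _ _ _).symm⟩
    · rintro b x _ ⟨c, hc, rfl⟩
      exact ⟨b * c, Ideal.mul_mem_left _ _ hc, by rw [smul_eq_mul, mul_assoc]⟩
  have hgm : g ∈ 𝔞.map ψ := h ▸ Ideal.mem_span_singleton_self g
  obtain ⟨c, hc, hcg⟩ := key g hgm
  have hc1 : c = 1 := by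
    have : (c - 1) * g = 0 := by rw [sub_mul, one_mul, ← hcg, sub_self]
    exact sub_eq_zero.1 (hg.2 _ this)
  rw [Ideal.eq_top_iff_one, ← hc1]
  exact hc

/-- faithfully flat descent of principal ideals generated by a nonzerodivisor, the generator being
given downstairs. -/
lemma eq_span_of_faithfullyFlat (ψ : R →+* B) (hψ : ψ.FaithfullyFlat) (𝔞 : Ideal R) (f : R)
    (hnz : ψ f ∈ nonZeroDivisors B) (h : 𝔞.map ψ = Ideal.span {ψ f}) :
    f ∈ nonZeroDivisors R ∧ 𝔞 = Ideal.span {f} := by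
  have hinj := hψ.injective
  constructor
  · rw [mem_nonZeroDivisors_iff_right]
    intro x hx
    apply hinj
    rw [map_zero]
    apply hnz.2
    rw [← map_mul, hx, map_zero]
  · algebraize [ψ]
    have h1 := Ideal.comap_map_eq_self_of_faithfullyFlat (B := B) 𝔞
    have h2 := Ideal.comap_map_eq_self_of_faithfullyFlat (B := B) (Ideal.span {f})
    rw [Ideal.map_span, Set.image_singleton] at h2
    change (𝔞.map ψ).comap ψ = 𝔞 at h1
    change (Ideal.span {ψ f}).comap ψ = Ideal.span {f} at h2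
    rw [← h1, h, h2]

end Algebra

/-- a flat surjective restriction of a morphism to affine opens is faithfully flat on sections. -/
lemma faithfullyFlat_appLE {W U : Scheme.{u}} (a : W ⟶ U) [Flat a] (O : U.affineOpens)
    (O' : W.affineOpens) (hle : O'.1 ≤ a ⁻¹ᵁ O.1)
    (hsurj : ∀ y ∈ O.1, ∃ x ∈ O'.1, a x = y) : (a.appLE O.1 O'.1 hle).hom.FaithfullyFlat := by
  haveI : Flat (a.resLE O.1 O'.1 hle) := IsZariskiLocalAtSource.resLE hle inferInstance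
  haveI : Surjective (a.resLE O.1 O'.1 hle) := by
    constructor
    rintro ⟨y, hy⟩
    obtain ⟨x, hx, hxy⟩ := hsurj y hy
    refine ⟨⟨x, hx⟩, Subtype.ext ?_⟩
    rw [Scheme.Hom.coe_resLE_apply]
    exact hxy
  have hff : (a.resLE O.1 O'.1 hle).appTop.hom.FaithfullyFlat :=
    (Flat.flat_and_surjective_iff_faithfullyFlat_of_isAffine _).1 ⟨inferInstance, inferInstance⟩
  have h1 : a.appLE O.1 O'.1 hle =
      O.1.topIso.inv ≫ (a.resLE O.1 O'.1 hle).appTop ≫ O'.1.topIso.hom := by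
    rw [Scheme.Hom.appTop, Scheme.Hom.resLE_app_top]
    simp only [Category.assoc, Iso.inv_hom_id, Category.comp_id, Iso.inv_hom_id_assoc]
  rw [h1]
  simp only [CommRingCat.hom_comp]
  refine RingHom.FaithfullyFlat.stableUnderComposition _ _ ?_ ?_
  · exact RingHom.FaithfullyFlat.of_bijective
      (ConcreteCategory.bijective_of_isIso O.1.topIso.inv)
  · refine RingHom.FaithfullyFlat.stableUnderComposition _ _ hff ?_
    exact RingHom.FaithfullyFlat.of_bijective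
      (ConcreteCategory.bijective_of_isIso O'.1.topIso.hom)

/-- **local descent of effective Cartier ideals along an etale morphism.** -/
lemma exists_principal_of_comap {W U : Scheme.{u}} (a : W ⟶ U) [Etale a] (I : U.IdealSheafData)
    (w : W) (O'₀ : W.affineOpens) (hw : w ∈ O'₀.1) (g : Γ(W, O'₀.1))
    (hg : g ∈ nonZeroDivisors Γ(W, O'₀.1)) (hI : (I.comap a).ideal O'₀ = Ideal.span {g}) :
    ∃ O : U.affineOpens, a w ∈ O.1 ∧ ∃ f : Γ(U, O.1), f ∈ nonZeroDivisors Γ(U, O.1) ∧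
      I.ideal O = Ideal.span {f} := by
  haveI : Flat a := inferInstance
  -- an affine open around the image
  obtain ⟨O₀s, hO₀, hwO₀, -⟩ := (U.isBasis_affineOpens).exists_subset_of_mem_open
    (Set.mem_univ (a w)) isOpen_univ
  obtain ⟨O₀, hO₀a, rfl⟩ := hO₀
  -- shrink upstairs
  obtain ⟨O'₁s, hO'₁, hwO'₁, hle₁⟩ := (W.isBasis_affineOpens).exists_subset_of_mem_open
    (show w ∈ ((O'₀.1 ⊓ a ⁻¹ᵁ O₀ : W.Opens) : Set W) from ⟨hw, hwO₀⟩) (O'₀.1 ⊓ a ⁻¹ᵁ O₀).2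
  obtain ⟨O'₁, hO'₁a, rfl⟩ := hO'₁
  have h1a : O'₁ ≤ O'₀.1 := fun y hy => (hle₁ hy).1
  have h1b : O'₁ ≤ a ⁻¹ᵁ O₀ := fun y hy => (hle₁ hy).2
  obtain ⟨hg₁, hI₁⟩ := restrict_principal (I.comap a) ⟨O'₁, hO'₁a⟩ O'₀ h1a g hg hI
  obtain ⟨g₁, hg₁def⟩ : ∃ g₁ : Γ(W, O'₁), g₁ = (W.presheaf.map (homOfLE h1a).op).hom g := ⟨_, rfl⟩
  rw [← hg₁def] at hg₁ hI₁
  have hI₁' := hI₁
  rw [ideal_comap_of_le a I ⟨O'₁, hO'₁a⟩ ⟨O₀, hO₀a⟩ h1b] at hI₁'
  -- a quotient which is a unit near `w`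
  have hspan := span_quotients_map_eq_top (a.appLE O₀ O'₁ h1b).hom (I.ideal ⟨O₀, hO₀a⟩) g₁ hg₁ hI₁'
  have hcov := iSup_basicOpen_of_span_eq_top O'₁ _ hspan
  have hw' : w ∈ (⨆ c ∈ {c : Γ(W, O'₁) | ∃ r ∈ I.ideal ⟨O₀, hO₀a⟩,
      (a.appLE O₀ O'₁ h1b).hom r = c * g₁}, W.basicOpen c) := by rw [hcov]; exact hwO'₁
  simp only [TopologicalSpace.Opens.mem_iSup] at hw'
  obtain ⟨c, ⟨r, hr, hrc⟩, hwc⟩ := hw'
  -- pass to the basic open of `c`
  have h2 : W.basicOpen c ≤ O'₁ := W.basicOpen_le c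
  obtain ⟨hg₂, hI₂⟩ := restrict_principal (I.comap a)
    (W.affineBasicOpen (U := ⟨O'₁, hO'₁a⟩) c) ⟨O'₁, hO'₁a⟩ h2 g₁ hg₁ hI₁
  have hcu : IsUnit ((W.presheaf.map (homOfLE h2).op).hom c) :=
    W.toRingedSpace.isUnit_res_basicOpen c
  have h2b : W.basicOpen c ≤ a ⁻¹ᵁ O₀ := h2.trans h1b
  have hψ₂ : (a.appLE O₀ (W.basicOpen c) h2b).hom r =
      (W.presheaf.map (homOfLE h2).op).hom c * (W.presheaf.map (homOfLE h2).op).hom g₁ := by
    rw [← map_mul, ← hrc, ← RingHom.comp_apply, ← CommRingCat.hom_comp, Scheme.Hom.appLE_map]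
  have hnz₂ : (a.appLE O₀ (W.basicOpen c) h2b).hom r ∈ nonZeroDivisors Γ(W, W.basicOpen c) := by
    rw [hψ₂]; exact mul_mem hcu.mem_nonZeroDivisors hg₂
  have hI₂' : (I.comap a).ideal (W.affineBasicOpen (U := ⟨O'₁, hO'₁a⟩) c) =
      Ideal.span {(a.appLE O₀ (W.basicOpen c) h2b).hom r} := by
    rw [hI₂, hψ₂]; exact (Ideal.span_singleton_mul_left_unit hcu _).symm
  -- a basic open downstairs inside the image
  obtain ⟨s, hsV, hws⟩ := hO₀a.exists_basicOpen_le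
    (V := ⟨a '' (W.basicOpen c : Set W), a.isOpenMap _ (W.basicOpen c).2⟩)
    ⟨a w, ⟨w, hwc, rfl⟩⟩ hwO₀
  obtain ⟨s', hs'⟩ : ∃ s' : Γ(W, W.basicOpen c), s' = (a.appLE O₀ (W.basicOpen c) h2b).hom s :=
    ⟨_, rfl⟩
  have hbo : W.basicOpen s' = W.basicOpen c ⊓ a ⁻¹ᵁ U.basicOpen s := by
    rw [hs']; exact Scheme.basicOpen_appLE a _ _ h2b s
  have hle : W.basicOpen s' ≤ a ⁻¹ᵁ U.basicOpen s := by rw [hbo]; exact inf_le_right
  have h3 : W.basicOpen s' ≤ W.basicOpen c := W.basicOpen_le s'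
  obtain ⟨hg₃, hI₃⟩ := restrict_principal (I.comap a)
    (W.affineBasicOpen (U := W.affineBasicOpen (U := ⟨O'₁, hO'₁a⟩) c) s')
    (W.affineBasicOpen (U := ⟨O'₁, hO'₁a⟩) c) h3 _ hnz₂ hI₂'
  rw [ideal_comap_of_le a I (W.affineBasicOpen (U := W.affineBasicOpen (U := ⟨O'₁, hO'₁a⟩) c) s')
    (U.affineBasicOpen (U := ⟨O₀, hO₀a⟩) s) hle] at hI₃
  obtain ⟨f, hf⟩ : ∃ f : Γ(U, U.basicOpen s),
      f = (U.presheaf.map (homOfLE (U.basicOpen_le s)).op).hom r := ⟨_, rfl⟩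
  have hψf : (a.appLE (U.basicOpen s) (W.basicOpen s') hle).hom f =
      (W.presheaf.map (homOfLE h3).op).hom ((a.appLE O₀ (W.basicOpen c) h2b).hom r) := by
    rw [hf, ← RingHom.comp_apply, ← CommRingCat.hom_comp, Scheme.Hom.map_appLE,
      ← RingHom.comp_apply, ← CommRingCat.hom_comp, Scheme.Hom.appLE_map]
  have hff := faithfullyFlat_appLE a (U.affineBasicOpen (U := ⟨O₀, hO₀a⟩) s)
    (W.affineBasicOpen (U := W.affineBasicOpen (U := ⟨O'₁, hO'₁a⟩) c) s') hle (by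
      intro y hy
      obtain ⟨x, hx, rfl⟩ := hsV hy
      exact ⟨x, by change x ∈ W.basicOpen s'; rw [hbo]; exact ⟨hx, hy⟩, rfl⟩)
  have hg₃' : (a.appLE (U.basicOpen s) (W.basicOpen s') hle).hom f ∈
      nonZeroDivisors Γ(W, W.basicOpen s') := by rw [hψf]; exact hg₃
  have hI₃' : Ideal.map (a.appLE (U.basicOpen s) (W.basicOpen s') hle).hom
      (I.ideal (U.affineBasicOpen (U := ⟨O₀, hO₀a⟩) s)) =
      Ideal.span {(a.appLE (U.basicOpen s) (W.basicOpen s') hle).hom f} := by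
    rw [hψf]; exact hI₃
  obtain ⟨hfn, hfI⟩ := eq_span_of_faithfullyFlat _ hff
    (I.ideal (U.affineBasicOpen (U := ⟨O₀, hO₀a⟩) s)) f hg₃' hI₃'
  exact ⟨U.affineBasicOpen (U := ⟨O₀, hO₀a⟩) s, hws, f, hfn, hfI⟩

end Groth.Agent.Lib.Helper12.EffCartier
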