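import Mathlib
import Groth.Agent.Lib.Helper12EffCartier5
import Groth.Agent.Lib.Helper12EffCartier4

set_option autoImplicit false
universe u
open CategoryTheory CategoryTheory.Limits AlgebraicGeometry Opposite

namespace Groth.Agent.Lib.Helper12.EffCartier

open Groth.Agent.Lib.Helper12.IdealEt AlgSp

variable {S : Scheme.{u}}

/-- **effective Cartier divisors on an algebraic space may be tested on every etale chart.** -/
theorem isEffCartierSub_iff_forall_chart {X D : AlgSp.Sp S} (hX : AlgSp.IsAlgSpace X) (i : D ⟶ X)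
    (hi : AlgSp.RepWith @IsClosedImmersion i) :
    AlgSp.IsEffCartierSub i ↔
      ∀ (U : Over S) (φ : (AlgSp.yon S).obj U ⟶ X), AlgSp.RepWith @Etale φ →
        ∀ (I : U.left.IdealSheafData)
          (fst : (AlgSp.yon S).obj (Over.mk (I.subschemeι ≫ U.hom)) ⟶ D),
          IsPullback fst ((AlgSp.yon S).map
            (Over.homMk I.subschemeι rfl : Over.mk (I.subschemeι ≫ U.hom) ⟶ U)) i φ →
            BlowUp.IsEffCartierIdeal I := by
  constructor
  · rintro ⟨-, V, φ₀, K₀, fst₀, hφ₀e, hφ₀s, sq₀, hK₀⟩ U φ hφ I fst sq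
    obtain ⟨W, a, b', sqW⟩ := hφ₀e.1 φ
    obtain ⟨b, rfl⟩ := (AlgSp.yon S).map_surjective b'
    haveI : Etale a.left := hφ₀e.2 _ _ a sqW
    haveI : Surjective a.left := hφ₀s.2 _ _ a sqW
    haveI : Etale b.left := hφ.2 _ _ b sqW.flip
    have hcomap : I.comap a.left = K₀.comap b.left :=
      ker_fst_eq_of_charts i φ φ₀
        (Over.homMk I.subschemeι rfl : Over.mk (I.subschemeι ≫ U.hom) ⟶ U)
        (Over.homMk K₀.subschemeι rfl : Over.mk (K₀.subschemeι ≫ V.hom) ⟶ V)
        fst fst₀ sq sq₀ a b sqW.w.symm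
    have hC : BlowUp.IsEffCartierIdeal (I.comap a.left) := by
      rw [hcomap]; exact isEffCartierIdeal_comap b.left K₀ hK₀
    intro u
    obtain ⟨w, rfl⟩ := a.left.surjective u
    obtain ⟨O', hw, g, hg, hO'⟩ := hC w
    exact exists_principal_of_comap a.left I w O' hw g hg hO'
  · intro h
    obtain ⟨U, p, hpe, hps⟩ := hX.atlas
    obtain ⟨P, π, fstP, sqP⟩ := hi.1 p
    obtain ⟨fst, sq⟩ := exists_isPullback_subschemeι hi p π.left.ker
      (fun P' π' fst' sq' => ker_eq_of_isPullback i p π' π fst' fstP sq' sqP)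
    exact ⟨hi, U, p, _, fst, hpe, hps, sq, h U p hpe _ fst sq⟩

end Groth.Agent.Lib.Helper12.EffCartier
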