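import Mathlib
import Groth.Agent.Lib.Helper12EffCartier6
import Groth.Agent.S10176
import Groth.Agent.S10177

set_option autoImplicit false
universe u
open CategoryTheory CategoryTheory.Limits AlgebraicGeometry Opposite

namespace Groth.Agent.Lib.Helper12.EffCartier

open Groth.Agent.Lib.Helper12.IdealEt AlgSp

variable {S : Scheme.{u}}

/-- an effective Cartier divisor has, around every point, an affine etale chart on which it is the
vanishing locus of a nonzerodivisor. -/
theorem exists_pointed_chart {X D : AlgSp.Sp S} (i : D ⟶ X) (hD : AlgSp.IsEffCartierSub i)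
    (x : AlgSp.Points D) :
    ∃ (U : Over S) (_ : IsAffine U.left) (a : (AlgSp.yon S).obj U ⟶ X) (u : ↥U.left)
      (f : Γ(U.left, ⊤)) (I : U.left.IdealSheafData)
      (fst : (AlgSp.yon S).obj (Over.mk (I.subschemeι ≫ U.hom)) ⟶ D),
      AlgSp.RepWith @Etale a ∧ AlgSp.Points.ofPt a u = AlgSp.Points.map i x ∧
        f ∈ nonZeroDivisors Γ(U.left, ⊤) ∧
        I.ideal ⟨⊤, isAffineOpen_top U.left⟩ = Ideal.span {f} ∧
        IsPullback fst ((AlgSp.yon S).map
          (Over.homMk I.subschemeι rfl : Over.mk (I.subschemeι ≫ U.hom) ⟶ U)) i a := by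
  obtain ⟨hi, V, φ, K, fstK, hφe, hφs, sqK, hK⟩ := hD
  obtain ⟨v, hv⟩ := Groth.Agent.S10177.surjective_ofPt φ hφs (AlgSp.Points.map i x)
  obtain ⟨O, hvO, f, hf, hO⟩ := hK v
  haveI hUaff : IsAffine (openOver V O.1).left := O.2
  have hKker : ∀ (P' : Over S) (π' : P' ⟶ openOver V O.1) (fst' : (AlgSp.yon S).obj P' ⟶ D),
      IsPullback fst' ((AlgSp.yon S).map π') i ((AlgSp.yon S).map (openOverι V O.1) ≫ φ) →
      π'.left.ker = K.comap O.1.ι := by
    intro P' π' fst' sq'
    obtain ⟨C, c, d, sqC, hC⟩ := exists_pullback_of_chart i φ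
      (Over.homMk K.subschemeι rfl : Over.mk (K.subschemeι ≫ V.hom) ⟶ V) fstK sqK
      (openOverι V O.1)
    rw [ker_eq_of_isPullback i _ π' c fst' d sq' sqC, hC]
    rfl
  obtain ⟨fst, sq⟩ := exists_isPullback_subschemeι hi
    ((AlgSp.yon S).map (openOverι V O.1) ≫ φ) (K.comap O.1.ι) hKker
  refine ⟨openOver V O.1, hUaff, (AlgSp.yon S).map (openOverι V O.1) ≫ φ, ⟨v, hvO⟩,
    O.1.topIso.inv.hom f, K.comap O.1.ι, fst, (chartOfOpen φ hφe O.1).property, ?_, ?_, ?_, sq⟩
  · rw [Groth.Agent.S10176.ofPt_map_comp]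
    exact hv
  · exact map_mem_nonZeroDivisors_of_flat _
      (RingHom.Flat.of_bijective (ConcreteCategory.bijective_of_isIso O.1.topIso.inv)) hf
  · rw [ideal_comap_ι_top, hO, Ideal.map_span, Set.image_singleton]
    rfl

/-- a closed subspace which around each of its points is, on an affine etale chart, the vanishing
locus of a nonzerodivisor is an effective Cartier divisor. -/
theorem isEffCartierSub_of_pointed_charts {X D : AlgSp.Sp S} (hX : AlgSp.IsAlgSpace X) (i : D ⟶ X)
    (hi : AlgSp.RepWith @IsClosedImmersion i)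
    (h : ∀ x : AlgSp.Points D,
      ∃ (U : Over S) (_ : IsAffine U.left) (a : (AlgSp.yon S).obj U ⟶ X) (u : ↥U.left)
        (f : Γ(U.left, ⊤)) (I : U.left.IdealSheafData)
        (fst : (AlgSp.yon S).obj (Over.mk (I.subschemeι ≫ U.hom)) ⟶ D),
        AlgSp.RepWith @Etale a ∧ AlgSp.Points.ofPt a u = AlgSp.Points.map i x ∧
          f ∈ nonZeroDivisors Γ(U.left, ⊤) ∧
          I.ideal ⟨⊤, isAffineOpen_top U.left⟩ = Ideal.span {f} ∧
          IsPullback fst ((AlgSp.yon S).map
            (Over.homMk I.subschemeι rfl : Over.mk (I.subschemeι ≫ U.hom) ⟶ U)) i a) :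
    AlgSp.IsEffCartierSub i := by
  obtain ⟨V, p, hpe, hps⟩ := hX.atlas
  obtain ⟨P, π, fstP, sqP⟩ := hi.1 p
  haveI : IsClosedImmersion π.left := hi.2 p fstP π sqP
  obtain ⟨fstK, sqK⟩ := exists_isPullback_subschemeι hi p π.left.ker
    (fun P' π' fst' sq' => ker_eq_of_isPullback i p π' π fst' fstP sq' sqP)
  refine ⟨hi, V, p, _, fstK, hpe, hps, sqK, ?_⟩
  intro v
  by_cases hv : v ∈ Set.range π.left
  · obtain ⟨d, rfl⟩ := hv
    obtain ⟨U, hU, a, u, f, I, fst, hae, hau, hf, hIf, sqI⟩ := h (AlgSp.Points.ofPt fstP d)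
    haveI := hU
    have hpt : AlgSp.Points.ofPt p (π.left d) = AlgSp.Points.ofPt a u := by
      rw [hau, AlgSp.Points.map_ofPt, sqP.w, Groth.Agent.S10176.ofPt_map_comp]
    obtain ⟨W, prU, prV', sqW⟩ := hpe.1 a
    obtain ⟨prV, rfl⟩ := (AlgSp.yon S).map_surjective prV'
    haveI : Etale prU.left := hpe.2 _ _ prU sqW
    haveI : Etale prV.left := hae.2 _ _ prV sqW.flip
    obtain ⟨w, hw1, hw2⟩ := Groth.Agent.S10176.exists_point_of_isPullback_yon sqW (π.left d) u hpt
    have hcomap : I.comap prU.left = π.left.ker.comap prV.left := by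
      have := ker_fst_eq_of_charts i a p
        (Over.homMk I.subschemeι rfl : Over.mk (I.subschemeι ≫ U.hom) ⟶ U) π fst fstP sqI sqP
        prU prV sqW.w.symm
      rw [Scheme.IdealSheafData.ker_fst_of_isClosedImmersion π.left prV.left] at this
      exact this
    have hIC : BlowUp.IsEffCartierIdeal I :=
      fun y => ⟨⟨⊤, isAffineOpen_top _⟩, trivial, f, hf, hIf⟩
    have hC := isEffCartierIdeal_comap prU.left I hIC
    rw [hcomap] at hC
    obtain ⟨O', hwO', g, hg, hO'⟩ := hC w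
    obtain ⟨O, hO, f', hf', hOf⟩ :=
      exists_principal_of_comap prV.left π.left.ker w O' hwO' g hg hO'
    rw [hw1] at hO
    exact ⟨O, hO, f', hf', hOf⟩
  · have hcl : IsClosed (Set.range π.left) := π.left.isClosedEmbedding.isClosed_range
    obtain ⟨Os, hOa, hvO, hOsub⟩ := (V.left.isBasis_affineOpens).exists_subset_of_mem_open
      (show v ∈ (Set.range π.left)ᶜ from hv) hcl.isOpen_compl
    obtain ⟨O, hO, rfl⟩ := hOa
    refine ⟨⟨O, hO⟩, hvO, 1, one_mem _, ?_⟩
    rw [Ideal.span_singleton_one, Scheme.Hom.ker_apply, eq_top_iff]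
    intro s _
    rw [RingHom.mem_ker]
    have hbot : π.left ⁻¹ᵁ O = ⊥ := by
      ext y
      simp only [Scheme.Hom.mem_preimage, TopologicalSpace.Opens.coe_bot, Set.mem_empty_iff_false,
        iff_false, SetLike.mem_coe]
      intro hy
      exact hOsub hy ⟨y, rfl⟩
    haveI : Subsingleton Γ(P.left, π.left ⁻¹ᵁ O) := by rw [hbot]; infer_instance
    exact Subsingleton.elim _ _

end Groth.Agent.Lib.Helper12.EffCartier
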