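import Mathlib
import Groth.Prelude.Def_W4stk3spdivLocPr
import Groth.Agent.Lib.Helper12AtlasDescent
import Groth.Agent.Lib.Helper12AffineDescent
import Groth.Agent.S10175
import Groth.Agent.S10176

set_option autoImplicit false
universe u
open CategoryTheory CategoryTheory.Limits AlgebraicGeometry Opposite

namespace Groth.Agent.Lib.Helper12.LocPrincipal

open AlgSp

/-- the complement of a locally principal closed subscheme is affine over the ambient scheme. -/
lemma isAffineHom_of_compl_isLocPrincipal {Q V : Scheme.{u}} (ρ : Q ⟶ V) [IsOpenImmersion ρ]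
    (K : V.IdealSheafData) (hK : Curv2.IsLocPrincipal K)
    (hr : Set.range ρ = (K.support : Set V)ᶜ) : IsAffineHom ρ := by
  apply isAffineHom_of_forall_exists_isAffineOpen
  intro v
  by_cases hv : v ∈ K.support
  · obtain ⟨O, hvO, f, hf⟩ := hK v hv
    refine ⟨O.1, hvO, O.2, ?_⟩
    rw [← ρ.isAffineOpen_iff_of_isOpenImmersion, ρ.image_preimage_eq_opensRange_inf]
    have : ρ.opensRange ⊓ O.1 = V.basicOpen f := by
      ext y
      simp only [TopologicalSpace.Opens.coe_inf, Set.mem_inter_iff, SetLike.mem_coe,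
        Scheme.Hom.coe_opensRange]
      constructor
      · rintro ⟨h1, h2⟩
        rw [hr] at h1
        by_contra h3
        apply h1
        rw [SetLike.mem_coe, Scheme.IdealSheafData.mem_support_iff_of_mem h2, hf,
          Scheme.zeroLocus_span, Scheme.zeroLocus_singleton]
        exact h3
      · intro h3
        have h2 : y ∈ O.1 := V.basicOpen_le f h3
        refine ⟨?_, h2⟩
        rw [hr]
        intro h1
        rw [SetLike.mem_coe, Scheme.IdealSheafData.mem_support_iff_of_mem h2, hf,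
          Scheme.zeroLocus_span, Scheme.zeroLocus_singleton] at h1
        exact h1 h3
    rw [this]
    exact O.2.basicOpen f
  · obtain ⟨Os, hOa, hvO, hsub⟩ := (V.isBasis_affineOpens).exists_subset_of_mem_open
      (show v ∈ (K.support : Set V)ᶜ from hv) K.support.isClosed.isOpen_compl
    obtain ⟨O, hO, rfl⟩ := hOa
    refine ⟨O, hvO, hO, hO.preimage_of_isOpenImmersion ρ ?_⟩
    intro y hy
    change y ∈ Set.range ρ
    rw [hr]
    exact hsub hy

variable {S : Scheme.{u}}

/-- the image of a represented pullback in a chart is the inverse image of the image on points. -/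
lemma mem_range_iff_ofPt_mem_range {F X : AlgSp.Sp S} (m : F ⟶ X) {V P : Over S}
    (φ : (AlgSp.yon S).obj V ⟶ X) (π : P ⟶ V) (fst : (AlgSp.yon S).obj P ⟶ F)
    (sq : IsPullback fst ((AlgSp.yon S).map π) m φ) (v : ↥V.left) :
    v ∈ Set.range π.left ↔ AlgSp.Points.ofPt φ v ∈ Set.range (AlgSp.Points.map m) := by
  constructor
  · rintro ⟨d, rfl⟩
    refine ⟨AlgSp.Points.ofPt fst d, ?_⟩
    rw [AlgSp.Points.map_ofPt, sq.w, Groth.Agent.S10176.ofPt_map_comp]
  · rintro ⟨x, hx⟩
    rw [AlgSp.Points.ofPt_eq_map_ofScheme] at hx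
    obtain ⟨p, -, hp2⟩ := Groth.Agent.S10175.exists_point_of_isPullback sq x
      (AlgSp.Points.ofScheme V v) hx
    obtain ⟨d, rfl⟩ := (AlgSp.Points.schemeHomeo P).surjective p
    have h1 := AlgSp.Points.map_yon_map_apply π d
    rw [hp2] at h1
    exact ⟨d, ((AlgSp.Points.schemeHomeo V).injective h1).symm⟩

/-- **the complement of a locally principal closed subspace is affine over the space.** -/
theorem isAffineMor_of_compl {X Z U : AlgSp.Sp S} (i : Z ⟶ X) (hZ : AlgSp.IsLocPrincipalSub i)
    (j : U ⟶ X) (hj : AlgSp.RepWith @IsOpenImmersion j)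
    (hU : Set.range (AlgSp.Points.map j) = (Set.range (AlgSp.Points.map i))ᶜ) :
    AlgSp.IsAffineMor j := by
  obtain ⟨hi, V, φ, K, fstK, hφe, hφs, sqK, hK⟩ := hZ
  obtain ⟨Q, ρ, fstQ, sqQ⟩ := hj.1 φ
  haveI : IsOpenImmersion ρ.left := hj.2 φ fstQ ρ sqQ
  have hr : Set.range ρ.left = (K.support : Set V.left)ᶜ := by
    ext v
    rw [mem_range_iff_ofPt_mem_range j φ ρ fstQ sqQ, hU, Set.mem_compl_iff, Set.mem_compl_iff,
      ← mem_range_iff_ofPt_mem_range i φ _ fstK sqK]
    rw [show (Over.homMk K.subschemeι rfl : Over.mk (K.subschemeι ≫ V.hom) ⟶ V).left =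
      K.subschemeι from rfl, K.range_subschemeι]
  haveI : IsAffineHom ρ.left := isAffineHom_of_compl_isLocPrincipal ρ.left K hK hr
  haveI := Groth.Agent.Lib.Helper12.descendsAlong_isAffineHom.{u}
  have hrep : AlgSp.RepWith @IsAffineHom j :=
    Groth.Agent.Lib.Helper12.AtlasDescent.repWith_of_atlas @IsAffineHom j hj.1 φ hφe hφs fstQ ρ sqQ
      inferInstance
  intro Z₀ hZ₀ g
  obtain ⟨W, w, fstW, sqW⟩ := hj.1 g
  haveI : IsAffineHom w.left := hrep.2 g fstW w sqW
  haveI := hZ₀
  exact ⟨W, w, fstW, sqW, isAffine_of_isAffineHom w.left⟩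

end Groth.Agent.Lib.Helper12.LocPrincipal
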