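import Mathlib
import Groth.Prelude.Def_CInt
import Groth.Agent.Lib.Helper12EffCartier7
import Groth.Agent.Lib.Helper12LocPrincipal

set_option autoImplicit false
universe u
open CategoryTheory CategoryTheory.Limits AlgebraicGeometry Opposite

namespace Groth.Agent.Lib.Helper12.EffCartier

open Groth.Agent.Lib.Helper12.IdealEt AlgSp

/-- the complement of an effective Cartier divisor is schematically dense. -/
lemma isSchematicallyDense_compl {V : Scheme.{u}} (K : V.IdealSheafData)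
    (hK : BlowUp.IsEffCartierIdeal K) (W : V.Opens)
    (hW : (W : Set V) = (K.support : Set V)ᶜ) : CInt.IsSchematicallyDense W := by
  intro V'
  rw [injective_iff_map_eq_zero]
  intro s hs
  refine TopCat.Presheaf.section_ext V.sheaf V' s 0 fun x hx => ?_
  obtain ⟨O, hxO, f, hf, hO⟩ := hK x
  obtain ⟨Os, hO'a, hxO', hsub⟩ := (V.isBasis_affineOpens).exists_subset_of_mem_open
    (show x ∈ ((O.1 ⊓ V' : V.Opens) : Set V) from ⟨hxO, hx⟩) (O.1 ⊓ V').2
  obtain ⟨O', hO', rfl⟩ := hO'a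
  have h1 : O' ≤ O.1 := fun y hy => (hsub hy).1
  have h2 : O' ≤ V' := fun y hy => (hsub hy).2
  obtain ⟨hf', hO'f⟩ := restrict_principal K ⟨O', hO'⟩ O h1 f hf hO
  obtain ⟨f', hf'def⟩ : ∃ f' : Γ(V, O'), f' = (V.presheaf.map (homOfLE h1).op).hom f := ⟨_, rfl⟩
  rw [← hf'def] at hf' hO'f
  have hbW : V.basicOpen f' ≤ V' ⊓ W := by
    intro y hy
    have hyO' : y ∈ O' := V.basicOpen_le f' hy
    refine ⟨h2 hyO', ?_⟩
    change y ∈ (W : Set V)
    rw [hW]
    intro hys
    rw [SetLike.mem_coe, Scheme.IdealSheafData.mem_support_iff_of_mem (U := ⟨O', hO'⟩) hyO', hO'f,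
      Scheme.zeroLocus_span, Scheme.zeroLocus_singleton] at hys
    exact hys hy
  have hs' : (V.presheaf.map (homOfLE (V.basicOpen_le f')).op).hom
      ((V.presheaf.map (homOfLE h2).op).hom s) = 0 := by
    have e : (V.presheaf.map (homOfLE (V.basicOpen_le f')).op).hom
        ((V.presheaf.map (homOfLE h2).op).hom s) =
        (V.presheaf.map (homOfLE hbW).op).hom
          ((V.presheaf.map (homOfLE (inf_le_left : V' ⊓ W ≤ V')).op).hom s) := by
      simp only [← RingHom.comp_apply, ← CommRingCat.hom_comp, ← Functor.map_comp]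
      rfl
    rw [e]
    have hs0 : (V.presheaf.map (homOfLE (inf_le_left : V' ⊓ W ≤ V')).op).hom s = 0 := hs
    rw [hs0, map_zero]
  have hinj : Function.Injective (V.presheaf.map (homOfLE (V.basicOpen_le f')).op).hom := by
    letI : Algebra Γ(V, O') Γ(V, V.basicOpen f') :=
      (V.presheaf.map (homOfLE (V.basicOpen_le f')).op).hom.toAlgebra
    haveI : IsLocalization.Away f' Γ(V, V.basicOpen f') := hO'.isLocalization_basicOpen f'
    exact IsLocalization.injective _ (Submonoid.powers_le.2 hf')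
  have hs0 : (V.presheaf.map (homOfLE h2).op).hom s = 0 := hinj (hs'.trans (map_zero _).symm)
  have e1 := V.presheaf.germ_res_apply (homOfLE h2) x hxO' s
  have e2 := V.presheaf.germ_res_apply (homOfLE h2) x hxO' (0 : Γ(V, V'))
  change V.presheaf.germ V' x hx s = V.presheaf.germ V' x hx 0
  rw [← e1, ← e2]
  congr 1
  exact hs0.trans (map_zero _).symm

variable {S : Scheme.{u}}

/-- **the open complement of an effective Cartier divisor on an algebraic space is scheme
theoretically dense.** -/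
theorem isSchDense_compl {X D U : AlgSp.Sp S} (i : D ⟶ X) (hD : AlgSp.IsEffCartierSub i)
    (j : U ⟶ X) (hj : AlgSp.RepWith @IsOpenImmersion j)
    (hU : Set.range (AlgSp.Points.map j) = (Set.range (AlgSp.Points.map i))ᶜ) :
    AlgSp.IsSchDense j := by
  obtain ⟨hi, V, φ, K, fstK, hφe, hφs, sqK, hK⟩ := hD
  obtain ⟨Q, ρ, fstQ, sqQ⟩ := hj.1 φ
  haveI : IsOpenImmersion ρ.left := hj.2 φ fstQ ρ sqQ
  have hr : Set.range ρ.left = (K.support : Set V.left)ᶜ := by
    ext v
    rw [LocPrincipal.mem_range_iff_ofPt_mem_range j φ ρ fstQ sqQ, hU, Set.mem_compl_iff,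
      Set.mem_compl_iff, ← LocPrincipal.mem_range_iff_ofPt_mem_range i φ _ fstK sqK]
    rw [show (Over.homMk K.subschemeι rfl : Over.mk (K.subschemeι ≫ V.hom) ⟶ V).left =
      K.subschemeι from rfl, K.range_subschemeι]
  have hε : inv ρ.left.isoOpensRange.hom ≫ ρ.left = ρ.left.opensRange.ι := by
    rw [IsIso.inv_comp_eq]; exact (ρ.left.isoOpensRange_hom_ι).symm
  let e : Over.mk (ρ.left.opensRange.ι ≫ V.hom) ≅ Q :=
    Over.isoMk ρ.left.isoOpensRange.symm (by
      change ρ.left.isoOpensRange.inv ≫ Q.hom = ρ.left.opensRange.ι ≫ V.hom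
      rw [← Over.w ρ, ← Category.assoc, Scheme.Hom.isoOpensRange_inv_comp])
  have hcomm : e.hom ≫ ρ =
      (Over.homMk ρ.left.opensRange.ι rfl : Over.mk (ρ.left.opensRange.ι ≫ V.hom) ⟶ V) :=
    Over.OverMorphism.ext (ρ.left.isoOpensRange_inv_comp)
  have hsq : IsPullback ((AlgSp.yon S).map e.hom) ((AlgSp.yon S).map
      (Over.homMk ρ.left.opensRange.ι rfl : Over.mk (ρ.left.opensRange.ι ≫ V.hom) ⟶ V))
      ((AlgSp.yon S).map ρ) (𝟙 _) :=
    IsPullback.of_horiz_isIso ⟨by rw [Category.comp_id, ← Functor.map_comp, hcomm]⟩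
  have hbig := hsq.paste_horiz sqQ
  rw [Category.id_comp] at hbig
  exact ⟨hj, V, φ, ρ.left.opensRange, _, hφe, hφs, hbig,
    isSchematicallyDense_compl K hK ρ.left.opensRange hr⟩

/-- an effective Cartier divisor is a locally principal closed subspace. -/
lemma isLocPrincipalSub_of_isEffCartierSub {X D : AlgSp.Sp S} (i : D ⟶ X)
    (hD : AlgSp.IsEffCartierSub i) : AlgSp.IsLocPrincipalSub i := by
  obtain ⟨hi, V, φ, K, fstK, hφe, hφs, sqK, hK⟩ := hD
  refine ⟨hi, V, φ, K, fstK, hφe, hφs, sqK, fun x _ => ?_⟩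
  obtain ⟨O, hxO, f, -, hO⟩ := hK x
  exact ⟨O, hxO, f, hO⟩

end Groth.Agent.Lib.Helper12.EffCartier
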