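import Mathlib

/-!
# Newton interpolation (helper12) — positivity of intersection numbers, part E (pure Mathlib)

* `exists_poly_of_fwdDiff_vanish`: a function `q : ℕ → ℤ` whose iterated forward differences at `0` vanish above
  order `d` agrees on `ℕ` with a rational polynomial of degree `≤ d` whose `d`-th coefficient is `Δ^d q (0) / d!`.
* `abs_eval_sub_le`: `|Q(n) - Q_d n^d| ≤ (Σ_{j<d} |Q_j|) (n+1)^(d-1)` for `Q` of degree `≤ d`.
-/

set_option autoImplicit false
open Polynomial Finset fwdDiff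

namespace Groth.Agent.Lib.Helper12.PosArith

theorem exists_poly_of_fwdDiff_vanish (q : ℕ → ℤ) (d : ℕ) (h : ∀ j, d < j → ((fwdDiff (1 : ℕ))^[j] q) 0 = 0) :
    ∃ Q : Polynomial ℚ, Q.natDegree ≤ d ∧ Q.coeff d = (((fwdDiff (1 : ℕ))^[d] q) 0 : ℚ) / (d.factorial : ℚ) ∧
      ∀ n : ℕ, Q.eval (n : ℚ) = (q n : ℚ) := by
  classical
  set a : ℕ → ℤ := fun k => ((fwdDiff (1 : ℕ))^[k] q) 0 with ha
  refine ⟨∑ k ∈ range (d + 1), C ((a k : ℚ) / (k.factorial : ℚ)) * descPochhammer ℚ k, ?_, ?_, ?_⟩
  · refine natDegree_sum_le_of_forall_le _ _ fun k hk => ?_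
    refine (natDegree_C_mul_le _ _).trans ?_
    rw [descPochhammer_natDegree]
    exact Nat.lt_succ_iff.1 (mem_range.1 hk)
  · rw [finset_sum_coeff, sum_range_succ]
    have hz : ∀ k ∈ range d, (C ((a k : ℚ) / (k.factorial : ℚ)) * descPochhammer ℚ k).coeff d = 0 := by
      intro k hk
      rw [coeff_C_mul, coeff_eq_zero_of_natDegree_lt, mul_zero]
      rw [descPochhammer_natDegree]
      exact mem_range.1 hk
    rw [sum_eq_zero hz, zero_add, coeff_C_mul]
    have h1 : (descPochhammer ℚ d).coeff d = 1 := by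
      have := (monic_descPochhammer ℚ d).coeff_natDegree
      rwa [descPochhammer_natDegree] at this
    rw [h1, mul_one]
  · intro n
    have hq : q n = ∑ k ∈ range (n + 1), (n.choose k : ℤ) * a k := by
      have := shift_eq_sum_fwdDiff_iter (1 : ℕ) q n 0
      simp only [zero_add, smul_eq_mul, mul_one, nsmul_eq_mul] at this
      exact this
    rw [eval_finset_sum, hq]
    push_cast
    have hterm : ∀ k ∈ range (d + 1),
        (C ((a k : ℚ) / (k.factorial : ℚ)) * descPochhammer ℚ k).eval (n : ℚ) = (n.choose k : ℚ) * (a k : ℚ) := by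
      intro k _
      rw [eval_mul, eval_C, descPochhammer_eval_eq_descFactorial, Nat.descFactorial_eq_factorial_mul_choose]
      push_cast
      have : (k.factorial : ℚ) ≠ 0 := by exact_mod_cast k.factorial_ne_zero
      field_simp
    rw [sum_congr rfl hterm]
    -- both sums equal the sum over `range (max n d + 1)`
    have hA : ∑ k ∈ range (d + 1), (n.choose k : ℚ) * (a k : ℚ) =
        ∑ k ∈ range (max n d + 1), (n.choose k : ℚ) * (a k : ℚ) := by
      apply sum_subset
      · intro k hk
        rw [mem_range] at hk ⊢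
        have := le_max_right n d
        omega
      · intro k _ hk
        rw [mem_range, not_lt] at hk
        have : a k = 0 := h k (by omega)
        rw [this]
        simp
    have hB : ∑ k ∈ range (n + 1), (n.choose k : ℚ) * (a k : ℚ) =
        ∑ k ∈ range (max n d + 1), (n.choose k : ℚ) * (a k : ℚ) := by
      apply sum_subset
      · intro k hk
        rw [mem_range] at hk ⊢
        have := le_max_left n d
        omega
      · intro k _ hk
        rw [mem_range, not_lt] at hk
        rw [Nat.choose_eq_zero_of_lt (by omega)]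
        simp
    rw [hA, hB]

theorem abs_eval_sub_le (Q : Polynomial ℚ) (d : ℕ) (hQ : Q.natDegree ≤ d) (n : ℕ) :
    |Q.eval (n : ℚ) - Q.coeff d * (n : ℚ) ^ d| ≤
      (∑ j ∈ range d, |Q.coeff j|) * ((n : ℚ) + 1) ^ (d - 1) := by
  rw [eval_eq_sum_range' (Nat.lt_succ_of_le hQ), sum_range_succ, add_sub_cancel_right, Finset.sum_mul]
  refine (abs_sum_le_sum_abs _ _).trans (sum_le_sum fun j hj => ?_)
  rw [abs_mul]
  refine mul_le_mul_of_nonneg_left ?_ (abs_nonneg _)
  have hj' : j ≤ d - 1 := by
    have := mem_range.1 hj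
    omega
  have hn0 : (0 : ℚ) ≤ (n : ℚ) := Nat.cast_nonneg n
  rw [abs_of_nonneg (pow_nonneg hn0 j)]
  calc (n : ℚ) ^ j ≤ ((n : ℚ) + 1) ^ j := pow_le_pow_left₀ hn0 (by linarith) j
    _ ≤ ((n : ℚ) + 1) ^ (d - 1) := pow_le_pow_right₀ (by linarith) hj'

end Groth.Agent.Lib.Helper12.PosArith
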