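import Mathlib

/-!
# Functions on `ℕ^σ` with vanishing iterated differences are polynomials (helper12; pure Mathlib)

* `diff j f`: the forward difference `m ↦ f (m + e_j) - f m`.
* `Vanish r f`: all `r`-fold iterated differences of `f` vanish identically.
* `B a`: the binomial basis function `m ↦ ∏ i, C(m i, a i)`; `V r`: the span of the `B a` with `|a| < r`.
* `mem_V_of_vanish`: `Vanish r f → f ∈ V r` (Newton expansion, by "integration" one variable at a time).
* `exists_poly_of_vanish`: `Vanish (r + 1) f → ∃ P : MvPolynomial σ ℚ, P.totalDegree ≤ r ∧ f = eval P` on `ℕ^σ`.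
-/

set_option autoImplicit false
set_option linter.unusedSectionVars false
open Finset MvPolynomial

namespace Groth.Agent.Lib.Helper12.SnapArith

variable {σ : Type*} [Fintype σ] [DecidableEq σ]

/-- forward difference in direction `j` -/
def diff (j : σ) (f : (σ → ℕ) → ℚ) : (σ → ℕ) → ℚ := fun m => f (m + Pi.single j 1) - f m

theorem diff_apply (j : σ) (f : (σ → ℕ) → ℚ) (m : σ → ℕ) :
    diff j f m = f (m + Pi.single j 1) - f m := rfl

theorem diff_comm (i j : σ) (f : (σ → ℕ) → ℚ) : diff i (diff j f) = diff j (diff i f) := by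
  funext m
  simp only [diff_apply]
  rw [add_right_comm m (Pi.single i 1) (Pi.single j 1)]
  ring

theorem diff_add (j : σ) (f g : (σ → ℕ) → ℚ) : diff j (f + g) = diff j f + diff j g := by
  funext m
  simp only [diff_apply, Pi.add_apply]
  ring

theorem diff_sub (j : σ) (f g : (σ → ℕ) → ℚ) : diff j (f - g) = diff j f - diff j g := by
  funext m
  simp only [diff_apply, Pi.sub_apply]
  ring

theorem diff_neg (j : σ) (f : (σ → ℕ) → ℚ) : diff j (-f) = -diff j f := by
  funext m
  simp only [diff_apply, Pi.neg_apply]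
  ring

theorem diff_smul (j : σ) (c : ℚ) (f : (σ → ℕ) → ℚ) : diff j (c • f) = c • diff j f := by
  funext m
  simp only [diff_apply, Pi.smul_apply, smul_eq_mul]
  ring

theorem diff_zero (j : σ) : diff j (0 : (σ → ℕ) → ℚ) = 0 := by
  funext m
  simp [diff_apply]

/-- the difference operator as a linear map -/
def diffL (j : σ) : ((σ → ℕ) → ℚ) →ₗ[ℚ] ((σ → ℕ) → ℚ) where
  toFun := diff j
  map_add' := diff_add j
  map_smul' c f := by rw [diff_smul]; rfl

/-- all `r`-fold iterated differences vanish -/
def Vanish : ℕ → ((σ → ℕ) → ℚ) → Prop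
  | 0, f => ∀ m, f m = 0
  | r + 1, f => ∀ j, Vanish r (diff j f)

theorem Vanish.neg {r : ℕ} {f : (σ → ℕ) → ℚ} (h : Vanish r f) : Vanish r (-f) := by
  induction r generalizing f with
  | zero => intro m; simp [h m]
  | succ r ih =>
    intro j
    rw [diff_neg]
    exact ih (h j)

theorem Vanish.congr {r : ℕ} {f g : (σ → ℕ) → ℚ} (h : Vanish r f) (hfg : ∀ m, f m = g m) :
    Vanish r g := by
  have : f = g := funext hfg
  rw [← this]
  exact h

/-- binomial basis functions -/
def B (a : σ → ℕ) (m : σ → ℕ) : ℚ := ∏ i, ((m i).choose (a i) : ℚ)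

/-- the span of the binomial basis functions of degree `< r` -/
def V (r : ℕ) : Submodule ℚ ((σ → ℕ) → ℚ) :=
  Submodule.span ℚ {f | ∃ a : σ → ℕ, ∑ i, a i < r ∧ f = B a}

theorem B_mem_V {r : ℕ} (a : σ → ℕ) (h : ∑ i, a i < r) : B a ∈ V (σ := σ) r :=
  Submodule.subset_span ⟨a, h, rfl⟩

theorem B_split (j : σ) (a m : σ → ℕ) :
    B a m = ((m j).choose (a j) : ℚ) * ∏ i ∈ univ.erase j, ((m i).choose (a i) : ℚ) :=
  (Finset.mul_prod_erase univ (fun i => ((m i).choose (a i) : ℚ)) (mem_univ j)).symm

theorem prod_erase_congr (j : σ) (a a' m m' : σ → ℕ) (ha : ∀ i, i ≠ j → a' i = a i)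
    (hm : ∀ i, i ≠ j → m' i = m i) :
    ∏ i ∈ univ.erase j, ((m' i).choose (a' i) : ℚ) = ∏ i ∈ univ.erase j, ((m i).choose (a i) : ℚ) := by
  refine Finset.prod_congr rfl fun i hi => ?_
  rw [ha i (Finset.ne_of_mem_erase hi), hm i (Finset.ne_of_mem_erase hi)]

theorem add_single_ne (j : σ) (m : σ → ℕ) (i : σ) (hi : i ≠ j) : (m + Pi.single j 1 : σ → ℕ) i = m i := by
  rw [Pi.add_apply, Pi.single_eq_of_ne hi, add_zero]

theorem add_single_self (j : σ) (m : σ → ℕ) : (m + Pi.single j 1 : σ → ℕ) j = m j + 1 := by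
  rw [Pi.add_apply, Pi.single_eq_same]

theorem diff_B (j : σ) (a : σ → ℕ) :
    diff j (B a) = if a j = 0 then 0 else B (Function.update a j (a j - 1)) := by
  funext m
  rw [diff_apply, B_split j a (m + Pi.single j 1), B_split j a m,
    prod_erase_congr j a a m (m + Pi.single j 1) (fun _ _ => rfl) (add_single_ne j m),
    add_single_self]
  split_ifs with h0
  · rw [h0, Nat.choose_zero_right, Nat.choose_zero_right]
    simp
  · obtain ⟨t, ht⟩ := Nat.exists_eq_succ_of_ne_zero h0
    rw [B_split j (Function.update a j (a j - 1)) m,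
      prod_erase_congr j a (Function.update a j (a j - 1)) m m
        (fun i hi => Function.update_of_ne hi _ _) (fun _ _ => rfl),
      Function.update_self, ht, Nat.succ_sub_one, Nat.succ_eq_add_one, Nat.choose_succ_succ]
    push_cast
    ring

theorem sum_update (a : σ → ℕ) (j : σ) (b : ℕ) :
    ∑ i, Function.update a j b i + a j = ∑ i, a i + b := by
  rw [← Finset.add_sum_erase univ (Function.update a j b) (mem_univ j),
    ← Finset.add_sum_erase univ a (mem_univ j), Function.update_self]
  have : ∑ i ∈ univ.erase j, Function.update a j b i = ∑ i ∈ univ.erase j, a i :=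
    Finset.sum_congr rfl fun i hi => Function.update_of_ne (Finset.ne_of_mem_erase hi) _ _
  rw [this]
  ring

theorem diff_mem_V (j : σ) {r : ℕ} {f : (σ → ℕ) → ℚ} (hf : f ∈ V (σ := σ) (r + 1)) :
    diff j f ∈ V (σ := σ) r := by
  have hle : V (σ := σ) (r + 1) ≤ (V (σ := σ) r).comap (diffL j) := by
    unfold V
    rw [Submodule.span_le]
    rintro _ ⟨a, ha, rfl⟩
    change diff j (B a) ∈ V (σ := σ) r
    rw [diff_B]
    split_ifs with h0
    · exact Submodule.zero_mem _
    · refine B_mem_V _ ?_
      have := sum_update a j (a j - 1)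
      omega
  exact hle hf

theorem exists_antideriv (j : σ) {r : ℕ} {h : (σ → ℕ) → ℚ} (hh : h ∈ V (σ := σ) r) :
    ∃ H ∈ V (σ := σ) (r + 1), diff j H = h ∧ ∀ m : σ → ℕ, m j = 0 → H m = 0 := by
  unfold V at hh
  induction hh using Submodule.span_induction with
  | mem x hx =>
    obtain ⟨a, ha, rfl⟩ := hx
    refine ⟨B (Function.update a j (a j + 1)), B_mem_V _ ?_, ?_, ?_⟩
    · have := sum_update a j (a j + 1)
      omega
    · rw [diff_B, Function.update_self, if_neg (Nat.succ_ne_zero _), Nat.add_sub_cancel,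
        Function.update_idem, Function.update_eq_self]
    · intro m hm
      rw [B_split j, Function.update_self, hm, Nat.choose_zero_succ]
      simp
  | zero => exact ⟨0, Submodule.zero_mem _, diff_zero j, fun _ _ => rfl⟩
  | add x y _ _ hx hy =>
    obtain ⟨H₁, h1, h2, h3⟩ := hx
    obtain ⟨H₂, k1, k2, k3⟩ := hy
    refine ⟨H₁ + H₂, Submodule.add_mem _ h1 k1, by rw [diff_add, h2, k2], fun m hm => ?_⟩
    rw [Pi.add_apply, h3 m hm, k3 m hm, add_zero]
  | smul c x _ hx =>
    obtain ⟨H₁, h1, h2, h3⟩ := hx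
    refine ⟨c • H₁, Submodule.smul_mem _ c h1, by rw [diff_smul, h2], fun m hm => ?_⟩
    rw [Pi.smul_apply, h3 m hm, smul_zero]

theorem eq_update_add_single (j : σ) (m : σ → ℕ) (t : ℕ) (h : m j = t + 1) :
    m = Function.update m j t + Pi.single j 1 := by
  funext i
  by_cases hi : i = j
  · subst hi
    rw [Pi.add_apply, Function.update_self, Pi.single_eq_same, h]
  · rw [Pi.add_apply, Function.update_of_ne hi, Pi.single_eq_of_ne hi, add_zero]

theorem eq_zero_of_diff_eq_zero (j : σ) (u : (σ → ℕ) → ℚ) (h1 : diff j u = 0)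
    (h0 : ∀ m : σ → ℕ, m j = 0 → u m = 0) : u = 0 := by
  funext m
  suffices H : ∀ (t : ℕ) (m : σ → ℕ), m j = t → u m = 0 from H (m j) m rfl
  intro t
  induction t with
  | zero => exact h0
  | succ t ih =>
    intro m hm
    have hm' := eq_update_add_single j m t hm
    have h2 : diff j u (Function.update m j t) = 0 := by rw [h1]; rfl
    rw [diff_apply, ← hm', ih _ (Function.update_self ..)] at h2
    linarith

theorem const_of_diff_eq_zero (f : (σ → ℕ) → ℚ) (h : ∀ j, diff j f = 0) (m : σ → ℕ) : f m = f 0 := by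
  suffices H : ∀ (N : ℕ) (m : σ → ℕ), ∑ i, m i = N → f m = f 0 from H _ m rfl
  intro N
  induction N with
  | zero =>
    intro m hm
    have : m = 0 := by
      funext i
      exact (Finset.sum_eq_zero_iff.1 hm) i (mem_univ i)
    rw [this]
  | succ N ih =>
    intro m hm
    have hex : ∃ j, m j ≠ 0 := by
      by_contra hcon
      push Not at hcon
      have : ∑ i, m i = 0 := Finset.sum_eq_zero fun i _ => hcon i
      omega
    obtain ⟨j, hj⟩ := hex
    obtain ⟨t, ht⟩ := Nat.exists_eq_succ_of_ne_zero hj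
    have hm' := eq_update_add_single j m t ht
    have h2 : diff j f (Function.update m j t) = 0 := by rw [h j]; rfl
    rw [diff_apply, ← hm'] at h2
    have h3 : f (Function.update m j t) = f 0 := by
      apply ih
      have := sum_update m j t
      omega
    linarith

theorem B_zero (m : σ → ℕ) : B (0 : σ → ℕ) m = 1 := by
  unfold B
  simp

theorem mem_V_of_diff (r : ℕ) (A : Finset σ) : ∀ f : (σ → ℕ) → ℚ,
    (∀ j ∈ A, diff j f ∈ V (σ := σ) r) → (∀ j, j ∉ A → diff j f = 0) → f ∈ V (σ := σ) (r + 1) := by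
  induction A using Finset.induction_on with
  | empty =>
    intro f _ h0
    have hc := const_of_diff_eq_zero f (fun j => h0 j (Finset.notMem_empty j))
    have : f = f 0 • B (0 : σ → ℕ) := by
      funext m
      rw [Pi.smul_apply, B_zero, smul_eq_mul, mul_one, hc m]
    rw [this]
    exact Submodule.smul_mem _ _ (B_mem_V _ (by simp))
  | insert j A' hj ih =>
    intro f hA h0
    obtain ⟨H, hH, hdH, hH0⟩ := exists_antideriv j (hA j (Finset.mem_insert_self j A'))
    have hg : f - H ∈ V (σ := σ) (r + 1) := by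
      apply ih
      · intro i hi
        rw [diff_sub]
        exact Submodule.sub_mem _ (hA i (Finset.mem_insert_of_mem hi)) (diff_mem_V i hH)
      · intro i hi
        rw [diff_sub]
        by_cases hij : i = j
        · subst hij
          rw [hdH, sub_self]
        · have hi' : i ∉ insert j A' := by
            rw [Finset.mem_insert]
            push Not
            exact ⟨hij, hi⟩
          rw [h0 i hi', zero_sub, neg_eq_zero]
          apply eq_zero_of_diff_eq_zero j
          · rw [diff_comm, hdH, ← diff_comm, h0 i hi', diff_zero]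
          · intro m hm
            rw [diff_apply, hH0 m hm, hH0 _ (by rw [add_single_ne i m j (Ne.symm hij)]; exact hm), sub_zero]
    have : f = (f - H) + H := by abel
    rw [this]
    exact Submodule.add_mem _ hg hH

theorem mem_V_of_vanish : ∀ (r : ℕ) (f : (σ → ℕ) → ℚ), Vanish r f → f ∈ V (σ := σ) r := by
  intro r
  induction r with
  | zero =>
    intro f hf
    have : f = 0 := funext hf
    rw [this]
    exact Submodule.zero_mem _
  | succ r ih =>
    intro f hf
    exact mem_V_of_diff r univ f (fun j _ => ih _ (hf j)) (fun j hj => absurd (mem_univ j) hj)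

/-! ### conversion to the monomial basis -/

/-- all monomials have degree `< r` -/
def DegLT (p : MvPolynomial σ ℚ) (r : ℕ) : Prop := ∀ a ∈ p.support, (a.sum fun _ e => e) < r

theorem degLT_of_totalDegree_lt {p : MvPolynomial σ ℚ} {r : ℕ} (h : p.totalDegree < r) : DegLT p r :=
  fun _ ha => lt_of_le_of_lt (le_totalDegree ha) h

theorem DegLT.totalDegree_le {p : MvPolynomial σ ℚ} {r : ℕ} (h : DegLT p (r + 1)) : p.totalDegree ≤ r := by
  unfold totalDegree
  exact Finset.sup_le fun a ha => Nat.lt_succ_iff.1 (h a ha)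

theorem DegLT.zero (r : ℕ) : DegLT (0 : MvPolynomial σ ℚ) r := by
  intro a ha
  simp at ha

theorem DegLT.add {p q : MvPolynomial σ ℚ} {r : ℕ} (hp : DegLT p r) (hq : DegLT q r) : DegLT (p + q) r := by
  intro a ha
  rcases Finset.mem_union.1 (MvPolynomial.support_add ha) with h | h
  · exact hp a h
  · exact hq a h

theorem DegLT.smul {p : MvPolynomial σ ℚ} {r : ℕ} (c : ℚ) (hp : DegLT p r) : DegLT (c • p) r :=
  fun a ha => hp a (MvPolynomial.support_smul ha)

/-- the binomial polynomial `C(x, b)` -/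
noncomputable def binomPoly (b : ℕ) : Polynomial ℚ :=
  Polynomial.C ((b.factorial : ℚ)⁻¹) * descPochhammer ℚ b

theorem binomPoly_eval (b x : ℕ) : (binomPoly b).eval (x : ℚ) = (x.choose b : ℚ) := by
  unfold binomPoly
  rw [Polynomial.eval_mul, Polynomial.eval_C, descPochhammer_eval_eq_descFactorial,
    Nat.descFactorial_eq_factorial_mul_choose]
  push_cast
  field_simp

theorem binomPoly_natDegree_le (b : ℕ) : (binomPoly b).natDegree ≤ b := by
  unfold binomPoly
  refine (Polynomial.natDegree_C_mul_le _ _).trans ?_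
  rw [descPochhammer_natDegree]

/-- a univariate polynomial in the variable `X i` -/
noncomputable def inVar (i : σ) (q : Polynomial ℚ) : MvPolynomial σ ℚ := Polynomial.aeval (X i) q

theorem eval_inVar (i : σ) (q : Polynomial ℚ) (x : σ → ℚ) : eval x (inVar i q) = q.eval (x i) := by
  unfold inVar
  rw [Polynomial.aeval_def, Polynomial.hom_eval₂, eval_X]
  have : (eval x).comp (algebraMap ℚ (MvPolynomial σ ℚ)) = RingHom.id ℚ := by
    ext c
    simp
  rw [this, Polynomial.eval₂_id]

theorem totalDegree_inVar_le (i : σ) (q : Polynomial ℚ) : (inVar i q).totalDegree ≤ q.natDegree := by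
  unfold inVar
  rw [Polynomial.aeval_eq_sum_range]
  refine totalDegree_finsetSum_le fun t ht => ?_
  refine (totalDegree_smul_le _ _).trans ?_
  rw [totalDegree_X_pow]
  exact Nat.lt_succ_iff.1 (Finset.mem_range.1 ht)

/-- the polynomial representing `B a` -/
noncomputable def Bpoly (a : σ → ℕ) : MvPolynomial σ ℚ := ∏ i, inVar i (binomPoly (a i))

theorem eval_Bpoly (a m : σ → ℕ) : eval (fun i => (m i : ℚ)) (Bpoly a) = B a m := by
  unfold Bpoly B
  rw [map_prod]
  refine Finset.prod_congr rfl fun i _ => ?_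
  rw [eval_inVar, binomPoly_eval]

theorem totalDegree_Bpoly_le (a : σ → ℕ) : (Bpoly a).totalDegree ≤ ∑ i, a i := by
  unfold Bpoly
  refine (totalDegree_finsetProd _ _).trans (Finset.sum_le_sum fun i _ => ?_)
  exact (totalDegree_inVar_le i _).trans (binomPoly_natDegree_le _)

theorem exists_poly_of_mem_V {r : ℕ} {f : (σ → ℕ) → ℚ} (hf : f ∈ V (σ := σ) r) :
    ∃ P : MvPolynomial σ ℚ, DegLT P r ∧ ∀ m : σ → ℕ, f m = eval (fun i => (m i : ℚ)) P := by
  unfold V at hf
  induction hf using Submodule.span_induction with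
  | mem x hx =>
    obtain ⟨a, ha, rfl⟩ := hx
    exact ⟨Bpoly a, degLT_of_totalDegree_lt (lt_of_le_of_lt (totalDegree_Bpoly_le a) ha),
      fun m => (eval_Bpoly a m).symm⟩
  | zero => exact ⟨0, DegLT.zero r, fun m => by simp⟩
  | add x y _ _ hx hy =>
    obtain ⟨P, hP, hPe⟩ := hx
    obtain ⟨Q, hQ, hQe⟩ := hy
    exact ⟨P + Q, hP.add hQ, fun m => by rw [Pi.add_apply, hPe, hQe, map_add]⟩
  | smul c x _ hx =>
    obtain ⟨P, hP, hPe⟩ := hx
    exact ⟨c • P, hP.smul c, fun m => by rw [Pi.smul_apply, hPe, smul_eval, smul_eq_mul]⟩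

/-- **Main arithmetic theorem**: a function on `ℕ^σ` all of whose `(r+1)`-fold iterated differences vanish is
given by a polynomial of total degree `≤ r`. -/
theorem exists_poly_of_vanish (r : ℕ) (f : (σ → ℕ) → ℚ) (hf : Vanish (r + 1) f) :
    ∃ P : MvPolynomial σ ℚ, P.totalDegree ≤ r ∧ ∀ m : σ → ℕ, f m = eval (fun i => (m i : ℚ)) P := by
  obtain ⟨P, hP, hPe⟩ := exists_poly_of_mem_V (mem_V_of_vanish (r + 1) f hf)
  exact ⟨P, hP.totalDegree_le, hPe⟩

end Groth.Agent.Lib.Helper12.SnapArith
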