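import Mathlib
import Groth.Prelude
import Groth.Agent.Lib.Helper23ResProp
import Groth.Agent.Lib.Helper23ModLocal
import Groth.Agent.Lib.Helper23RestrTensor
import Groth.Agent.Lib.Helper4ModEpi
set_option backward.isDefEq.respectTransparency.types false

/-!
# Morphisms of modules that are surjective over an open (helper23)

Namespace `Groth.Agent.Lib.Helper23.SurjOn`.

* `SurjOn φ W` : the cokernel of `φ` vanishes on the open `W`.
* `surjOn_of_locally_surjective`, `SurjOn.tmapR`, `SurjOn.comp_iso`, `SurjOn.untwist`.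
* `epi_desc_of_surjOn` : a finite family of morphisms `E_j ⟶ M`, each surjective over `W_j`, with the `W_j` covering `X`,
  induces an epimorphism `⨁ E_j ⟶ M`.
-/

set_option autoImplicit false
universe u
open CategoryTheory CategoryTheory.Limits AlgebraicGeometry TopologicalSpace Opposite

namespace Groth.Agent.Lib.Helper23.SurjOn
open Groth.Agent.Lib.Helper23.SecTw Groth.Agent.Lib.Helper23.GenLocus Groth.Agent.Lib.Helper6
open Groth.Agent.Lib.Helper23.AmpleIso Groth.Agent.Lib.Helper23.LocGen Groth.Agent.Lib.Helper23.TensorUnit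
open Groth.Agent.Lib.Helper21.ModTensor3 Groth.Agent.Lib.Helper21.ModTensor5
open Groth.Agent.Lib.Helper23.ResProp Groth.Agent.Lib.Helper23.ModLocal

variable {X : Scheme.{u}}

/-- `φ` is surjective over the open `W`: its cokernel vanishes on `W` -/
def SurjOn {A B : X.Modules} (φ : A ⟶ B) (W : X.Opens) : Prop := IsZero ((cokernel φ).restrict W.ι)

theorem surjOn_of_locally_surjective {A B : X.Modules} (φ : A ⟶ B) (W : X.Opens)
    (h : ∀ (V : X.Opens) (t : Γ(B, V)) (y : X), y ∈ V → y ∈ W → ∃ (V' : X.Opens) (hle : V' ≤ V), y ∈ V' ∧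
      ∃ s : Γ(A, V'), φ.app V' s = res B hle t) : SurjOn φ W := by
  refine isZero_of_forall_eq_zero (fun U' c => ?_)
  refine Groth.Agent.Lib.Helper2.QcPush.section_eq_zero_of_cover (cokernel φ) (W.ι ''ᵁ U') c (fun x hx => ?_)
  have hxW : x ∈ W := by
    obtain ⟨y, -, rfl⟩ := hx
    exact y.2
  obtain ⟨V, hVU, hxV, t, ht⟩ := Groth.Agent.Lib.Helper4.ModEpi.exists_app_eq_of_epi (cokernel.π φ) (W.ι ''ᵁ U') c x hx
  obtain ⟨V', hle, hxV', s, hs⟩ := h V t x hxV hxW
  refine ⟨V', hle.trans hVU, hxV', ?_⟩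
  have h1 : (cokernel φ).presheaf.map (homOfLE (hle.trans hVU)).op c =
      res (cokernel φ) hle ((cokernel φ).presheaf.map (homOfLE hVU).op c) := by
    change res (cokernel φ) (hle.trans hVU) c = res (cokernel φ) hle (res (cokernel φ) hVU c)
    rw [res_res]
  rw [h1, ← ht]
  change res (cokernel φ) hle ((cokernel.π φ).app V t) = 0
  have h2 : res (cokernel φ) hle ((cokernel.π φ).app V t) = (cokernel.π φ).app V' (res B hle t) :=
    (Groth.Agent.Lib.Helper23.Extend.app_map (cokernel.π φ) (homOfLE hle) t).symm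
  rw [h2, ← hs]
  have h3 : (φ ≫ cokernel.π φ).app V' s = 0 := by
    rw [cokernel.condition]
    rfl
  exact h3

theorem SurjOn.of_epi {A B : X.Modules} (φ : A ⟶ B) [Epi φ] (W : X.Opens) : SurjOn φ W :=
  (Scheme.Modules.restrictFunctor W.ι).map_isZero (isZero_cokernel_of_epi φ)

theorem SurjOn.mono {A B : X.Modules} {φ : A ⟶ B} {W W' : X.Opens} (h : SurjOn φ W) (hle : W' ≤ W) : SurjOn φ W' := by
  refine isZero_of_forall_eq_zero (fun U' c => ?_)
  have hle' : W'.ι ''ᵁ U' ≤ W.ι ''ᵁ (W.ι ⁻¹ᵁ (W'.ι ''ᵁ U')) := by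
    rintro x ⟨y, hy, rfl⟩
    exact ⟨⟨W'.ι y, hle y.2⟩, ⟨y, hy, rfl⟩, rfl⟩
  have hge : W.ι ''ᵁ (W.ι ⁻¹ᵁ (W'.ι ''ᵁ U')) ≤ W'.ι ''ᵁ U' := W.ι.image_preimage_le _
  have h0 : res (cokernel φ) hge c = 0 := eq_zero_of_isZero h (W.ι ⁻¹ᵁ (W'.ι ''ᵁ U')) _
  have h1 : c = res (cokernel φ) hle' (res (cokernel φ) hge c) := by
    rw [res_res]
    exact (res_self (cokernel φ) c).symm
  exact h1.trans (by rw [h0, res_zero]; rfl)

theorem nonempty_tensorMod_cokernel_iso {A B : X.Modules} (φ : A ⟶ B) (D : X.Modules) :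
    Nonempty (CohB1.tensorMod (cokernel φ) D ≅ cokernel (ResProp.tmapR φ D)) := by
  let A' : ModSite.Mod X.sheaf := A
  let B' : ModSite.Mod X.sheaf := B
  let φ' : A' ⟶ B' := φ
  have e1 : (tR X.sheaf D).obj (cokernel φ') ≅ cokernel ((tR X.sheaf D).map φ') :=
    PreservesCokernel.iso (tR X.sheaf D) φ'
  exact ⟨e1⟩

theorem isZero_tensorMod_left {Y : Scheme.{u}} (Z D : Y.Modules) (hZ : IsZero Z) : IsZero (CohB1.tensorMod Z D) := by
  let Z' : ModSite.Mod Y.sheaf := Z
  have hZ' : IsZero Z' := hZ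
  exact (tR Y.sheaf D).map_isZero hZ'

/-- tensoring preserves surjectivity over `W` -/
theorem SurjOn.tmapR {A B : X.Modules} {φ : A ⟶ B} {W : X.Opens} (h : SurjOn φ W) (D : X.Modules) :
    SurjOn (ResProp.tmapR φ D) W := by
  obtain ⟨e1⟩ := nonempty_tensorMod_cokernel_iso φ D
  have e2 := Groth.Agent.Lib.Helper23.RestrTensor.restrictTensorIso (cokernel φ) D W.ι
  have hz : IsZero (CohB1.tensorMod ((cokernel φ).restrict W.ι) (D.restrict W.ι)) := isZero_tensorMod_left _ _ h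
  exact (hz.of_iso e2).of_iso ((Scheme.Modules.restrictFunctor W.ι).mapIso e1.symm)

theorem SurjOn.comp_iso {A B B' : X.Modules} {φ : A ⟶ B} {W : X.Opens} (h : SurjOn φ W) (e : B ≅ B') :
    SurjOn (φ ≫ e.hom) W :=
  h.of_iso ((Scheme.Modules.restrictFunctor W.ι).mapIso (cokernelCompIsIso φ e.hom))

theorem SurjOn.iso_comp {A' A B : X.Modules} {φ : A ⟶ B} {W : X.Opens} (h : SurjOn φ W) (e : A' ≅ A) :
    SurjOn (e.hom ≫ φ) W :=
  h.of_iso ((Scheme.Modules.restrictFunctor W.ι).mapIso (cokernelEpiComp e.hom φ))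

theorem SurjOn.untwist {E₀ M P D : X.Modules} {p : E₀ ⟶ CohB1.tensorMod M P} {W : X.Opens} (h : SurjOn p W)
    (e : CohB1.tensorMod P D ≅ Coh.structureModule X) : SurjOn (ResProp.untwist p e) W :=
  (h.tmapR D).comp_iso _

/-- a morphism `π : E ⟶ M` such that, locally on `X`, some `F_j ⟶ E ⟶ M` is surjective, is an epimorphism -/
theorem epi_of_surjOn_cover {E M : X.Modules} (π : E ⟶ M) {J : Type*} (W : J → X.Opens)
    (hW : ∀ x : X, ∃ j, x ∈ W j) (F : J → X.Modules) (ι : ∀ j, F j ⟶ E) (h : ∀ j, SurjOn (ι j ≫ π) (W j)) :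
    Epi π := by
  have hz : IsZero (cokernel π) := by
    refine isZero_of_isZero_restrict (fun j => ((W j : X.Opens) : Scheme.{u})) (fun j => (W j).ι)
      (fun x => ?_) (fun j => ?_)
    · obtain ⟨j, hj⟩ := hW x
      exact ⟨j, ⟨x, hj⟩, rfl⟩
    · let q : cokernel (ι j ≫ π) ⟶ cokernel π :=
        cokernel.desc (ι j ≫ π) (cokernel.π π) (by rw [Category.assoc, cokernel.condition, comp_zero])
      have hq : cokernel.π (ι j ≫ π) ≫ q = cokernel.π π := cokernel.π_desc _ _ _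
      haveI : Epi q := epi_of_epi_fac hq
      haveI : Epi ((Scheme.Modules.restrictFunctor (W j).ι).map q) := inferInstance
      exact IsZero.of_epi ((Scheme.Modules.restrictFunctor (W j).ι).map q) (h j)
  exact Preadditive.epi_of_isZero_cokernel π hz

end Groth.Agent.Lib.Helper23.SurjOn
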