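import Mathlib
import Groth.Prelude
import Groth.Agent.Lib.Helper23SurjOn
set_option backward.isDefEq.respectTransparency.types false

/-!
# Resolutions from ample families of invertible modules (helper23)

Namespace `Groth.Agent.Lib.Helper23.AmpleFam`.

* `exists_freeMod_surjOn` : near a point where `N` is generated by global sections, some `O^k ⟶ N` is surjective.
* `exists_local_resolution` : for `x ∈ X_s` affine, `s` a section of the invertible `P`, and `M` quasi-coherent of finite
  type: for all large `N` there is `O^k ⊗ (P^N)^∨ ⟶ M` surjective near `x`.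
* `quasiSeparatedSpace_of_hasAmpleFamily`, `hasResolutionProperty_of_hasAmpleFamily`.
-/

set_option autoImplicit false
universe u
open CategoryTheory CategoryTheory.Limits AlgebraicGeometry TopologicalSpace Opposite

namespace Groth.Agent.Lib.Helper23.AmpleFam
open Groth.Agent.Lib.Helper23.SecTw Groth.Agent.Lib.Helper23.GenLocus Groth.Agent.Lib.Helper6
open Groth.Agent.Lib.Helper23.AmpleIso Groth.Agent.Lib.Helper23.LocGen Groth.Agent.Lib.Helper23.TensorUnit
open Groth.Agent.Lib.Helper21.ModTensor3 Groth.Agent.Lib.Helper21.ModTensor5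
open Groth.Agent.Lib.Helper23.ResProp Groth.Agent.Lib.Helper23.ModLocal Groth.Agent.Lib.Helper23.SurjOn
open Groth.Agent.Lib.Helper23.FinGen

variable {X : Scheme.{u}}

/-- near a point where `N` is generated by global sections, a morphism from a finite free module is surjective -/
theorem exists_freeMod_surjOn (N : X.Modules) [N.IsQuasicoherent] [SheafOfModules.IsFiniteType (R := X.ringCatSheaf) N]
    {V : X.Opens} (hV : LocGen N V) (x : X) (hx : x ∈ V) :
    ∃ (k : ℕ) (p : FlatMod.freeMod X k ⟶ N) (W : X.Opens), x ∈ W ∧ SurjOn p W := by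
  obtain ⟨W, S, hxW, hS⟩ := exists_nhd_fspan N hV x hx
  let σ : Fin S.card → (Coh.structureModule X ⟶ N) := fun i => (S.equivFin.symm i).1
  let p : FlatMod.freeMod X S.card ⟶ N := Sigma.desc σ
  have hp : ∀ τ ∈ S, ∃ ι : Coh.structureModule X ⟶ FlatMod.freeMod X S.card, ι ≫ p = τ := by
    intro τ hτ
    refine ⟨Sigma.ι (fun _ : Fin S.card => Coh.structureModule X) (S.equivFin ⟨τ, hτ⟩), ?_⟩
    rw [Sigma.ι_desc]
    change ((S.equivFin.symm (S.equivFin ⟨τ, hτ⟩)) : (Coh.structureModule X ⟶ N)) = τ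
    rw [Equiv.symm_apply_apply]
  refine ⟨S.card, p, W, hxW, surjOn_of_locally_surjective p W (fun A t y hyA hyW => ?_)⟩
  obtain ⟨B, hB, hyB, hmem⟩ := hS A t y hyA hyW
  obtain ⟨a, ha⟩ := exists_app_eq_of_mem_fspan p S hp hmem
  exact ⟨B, hB, hyB, a, ha⟩

/-- local resolution near a point of an affine `X_s` -/
theorem exists_local_resolution [CompactSpace X] [QuasiSeparatedSpace X] (M : X.Modules) [M.IsQuasicoherent]
    [SheafOfModules.IsFiniteType (R := X.ringCatSheaf) M] (P : X.Modules) (hP : PicF.IsInvertible P)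
    (s : Coh.structureModule X ⟶ P) (haff : IsAffineOpen (CohB1.genLocus P s)) (x : X)
    (hx : x ∈ CohB1.genLocus P s) :
    ∃ N₀ : ℕ, ∀ N, N₀ ≤ N → ∃ (k : ℕ)
      (π : CohB1.tensorMod (FlatMod.freeMod X k) (RefHull.dual (CohB1.tensorPow P N)) ⟶ M) (W : X.Opens),
      x ∈ W ∧ SurjOn π W := by
  obtain ⟨N₀, hN₀⟩ := exists_locGen_twist P hP s haff M
  refine ⟨N₀, fun N hN => ?_⟩
  have hPN := isInvertible_tensorPow hP N
  haveI : (CohB1.tensorPow P N).IsQuasicoherent := isQuasicoherent_of_isInvertible _ hPN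
  haveI : SheafOfModules.IsFiniteType (R := X.ringCatSheaf) (CohB1.tensorPow P N) :=
    Groth.Agent.Lib.Helper20.ZClosLib.isFiniteType_of_isInvertible _ hPN
  haveI := Groth.Agent.Lib.Helper23.TensorQCoh.isQuasicoherent_tensorMod M (CohB1.tensorPow P N)
  haveI := Groth.Agent.Lib.Helper23.TensorQCoh.isFiniteType_tensorMod M (CohB1.tensorPow P N)
  obtain ⟨k, p, W, hxW, hpW⟩ := exists_freeMod_surjOn _ (hN₀ N hN) x hx
  obtain ⟨e⟩ := Groth.Agent.Lib.Helper23.InvDual.nonempty_tensorMod_dual_iso _ hPN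
  exact ⟨k, untwist p e, W, hxW, hpW.untwist e⟩

attribute [local instance] Abelian.hasFiniteBiproducts

/-- assembling local resolutions on a quasi-compact scheme -/
theorem exists_finite_family [CompactSpace X] (M : X.Modules) (Q : X.Modules → Prop)
    (h : ∀ x : X, ∃ (E : X.Modules) (π : E ⟶ M) (W : X.Opens), x ∈ W ∧ SurjOn π W ∧ Q E) :
    ∃ (r : ℕ) (E : Fin r → X.Modules) (π : ∀ j, E j ⟶ M), (∀ j, Q (E j)) ∧ Epi (biproduct.desc π) := by
  choose E π W hxW hS hQ using h
  obtain ⟨T, hT⟩ : ∃ T : Finset X, (Set.univ : Set X) ⊆ ⋃ x ∈ T, (W x : Set X) :=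
    isCompact_univ.elim_finite_subcover (fun x => (W x : Set X)) (fun x => (W x).2)
      (fun x _ => Set.mem_iUnion.2 ⟨x, hxW x⟩)
  let pt : Fin T.card → X := fun j => (T.equivFin.symm j).1
  refine ⟨T.card, fun j => E (pt j), fun j => π (pt j), fun j => hQ (pt j), ?_⟩
  refine epi_of_surjOn_cover (biproduct.desc fun j => π (pt j)) (fun j => W (pt j)) (fun y => ?_)
    (fun j => E (pt j)) (fun j => biproduct.ι (fun j => E (pt j)) j) (fun j => ?_)
  · obtain ⟨x, hx⟩ := Set.mem_iUnion.1 (hT (Set.mem_univ y))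
    obtain ⟨hxT, hyx⟩ := Set.mem_iUnion.1 hx
    refine ⟨T.equivFin ⟨x, hxT⟩, ?_⟩
    change y ∈ W ((T.equivFin.symm (T.equivFin ⟨x, hxT⟩)).1)
    rw [Equiv.symm_apply_apply]
    exact hyx
  · rw [biproduct.ι_desc]
    exact hS (pt j)

/-- a scheme covered by affine generating loci of sections of invertible modules is quasi-separated -/
theorem quasiSeparatedSpace_of_cover_family (P : X → X.Modules) (hP : ∀ x, PicF.IsInvertible (P x))
    (s : ∀ x, Coh.structureModule X ⟶ P x) (hxs : ∀ x, x ∈ CohB1.genLocus (P x) (s x))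
    (haff : ∀ x, IsAffineOpen (CohB1.genLocus (P x) (s x))) : QuasiSeparatedSpace X := by
  refine Scheme.quasiSeparatedSpace_of_isOpenCover (fun x : X => CohB1.genLocus _ (s x)) ?_ haff (fun x y => ?_)
  · rw [IsOpenCover, eq_top_iff]
    intro x _
    exact Opens.mem_iSup.2 ⟨x, hxs x⟩
  · exact (isAffineOpen_inf_genLocus _ (hP y) (s y) _ (haff x)).isCompact

theorem quasiSeparatedSpace_of_hasAmpleFamily (hX : MoreMor.HasAmpleFamily X) : QuasiSeparatedSpace X := by
  choose L n s hL hn hxs haff using hX.2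
  exact quasiSeparatedSpace_of_cover_family (fun x => CohB1.tensorPow (L x) (n x))
    (fun x => isInvertible_tensorPow (hL x) (n x)) s hxs haff

/-- **Resolution property from an ample family.** -/
theorem hasResolutionProperty_of_hasAmpleFamily (hX : MoreMor.HasAmpleFamily X) :
    PerfAux.HasResolutionProperty X := by
  intro M hM hM'
  haveI : M.IsQuasicoherent := hM
  haveI : SheafOfModules.IsFiniteType (R := X.ringCatSheaf) M := hM'
  haveI := hX.1
  haveI := quasiSeparatedSpace_of_hasAmpleFamily hX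
  obtain ⟨r, E, π, hE, hπ⟩ := exists_finite_family M FlatMod.IsFinLocFree (fun x => by
    obtain ⟨L, n, s, hL, -, hxs, haff⟩ := hX.2 x
    have hP := isInvertible_tensorPow hL n
    obtain ⟨N₀, hN₀⟩ := exists_local_resolution M _ hP s haff x hxs
    obtain ⟨k, π, W, hxW, hπW⟩ := hN₀ N₀ le_rfl
    refine ⟨_, π, W, hxW, hπW, ?_⟩
    exact isFinLocFree_tensorMod _ _ (isFinLocFree_freeMod X k)
      (isFinLocFree_of_isInvertible _ (Groth.Agent.Lib.Helper23.InvDual.isInvertible_dual _
        (isInvertible_tensorPow hP N₀))))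
  exact ⟨⨁ E, biproduct.desc π, Groth.Agent.Lib.Helper1.FLF.isFinLocFree_biproduct E hE, hπ⟩

end Groth.Agent.Lib.Helper23.AmpleFam
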