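import Mathlib
import Groth.Prelude
import Groth.Agent.Lib.Helper23AmpleFam
set_option backward.isDefEq.respectTransparency.types false

/-!
# Resolutions by negative powers of the members of an ample family (helper23)

Namespace `Groth.Agent.Lib.Helper23.AmpleFam2`.

* `tensorBraid A B : A ⊗ B ≅ B ⊗ A` for `CohB1.tensorMod`.
* `nonempty_freeMod_tensor_iso k D : O^k ⊗ D ≅ D^k`.
* `inAddL_biproduct`, `exists_epi_inAddL`.
-/

set_option autoImplicit false
universe u
open CategoryTheory CategoryTheory.Limits AlgebraicGeometry TopologicalSpace Opposite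

namespace Groth.Agent.Lib.Helper23.AmpleFam2
open Groth.Agent.Lib.Helper23.SecTw Groth.Agent.Lib.Helper23.GenLocus Groth.Agent.Lib.Helper6
open Groth.Agent.Lib.Helper23.AmpleIso Groth.Agent.Lib.Helper23.LocGen Groth.Agent.Lib.Helper23.TensorUnit
open Groth.Agent.Lib.Helper21.ModTensor3 Groth.Agent.Lib.Helper21.ModTensor5
open Groth.Agent.Lib.Helper23.ResProp Groth.Agent.Lib.Helper23.ModLocal Groth.Agent.Lib.Helper23.SurjOn
open Groth.Agent.Lib.Helper23.FinGen Groth.Agent.Lib.Helper23.AmpleFam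

variable {X : Scheme.{u}}

/-- the braiding `A ⊗ B ≅ B ⊗ A` -/
noncomputable def tensorBraid (A B : X.Modules) : CohB1.tensorMod A B ≅ CohB1.tensorMod B A :=
  brdApp X.sheaf A B

/-- `O^k ⊗ D ≅ D^k` -/
theorem nonempty_freeMod_tensor_iso (k : ℕ) (D : X.Modules) :
    Nonempty (CohB1.tensorMod (FlatMod.freeMod X k) D ≅ ⨁ fun _ : Fin k => D) := by
  have e1 : (tR X.sheaf D).obj (∐ fun _ : Fin k => ModSite.unit X.sheaf) ≅
      ∐ fun _ : Fin k => (tR X.sheaf D).obj (ModSite.unit X.sheaf) :=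
    PreservesCoproduct.iso (tR X.sheaf D) (fun _ : Fin k => ModSite.unit X.sheaf)
  have e2 : (tR X.sheaf D).obj (ModSite.unit X.sheaf) ≅ D := unitTensorIso D
  have e3 : (∐ fun _ : Fin k => D) ≅ ⨁ fun _ : Fin k => D := (biproduct.isoCoproduct _).symm
  exact ⟨e1 ≪≫ Sigma.mapIso (fun _ => e2) ≪≫ e3⟩

/-- the dual of `(L^a)^b` is a negative power of `L` -/
theorem nonempty_dual_tensorPow_iso (L : X.Modules) (hL : PicF.IsInvertible L) (a b c : ℕ) (h : a * b = c) :
    Nonempty (CohB1.tensorMod (RefHull.dual (CohB1.tensorPow (CohB1.tensorPow L a) b)) (CohB1.tensorPow L c) ≅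
      Coh.structureModule X) := by
  obtain ⟨Φ⟩ := nonempty_tensorPow_tensorPow_iso L hL a b c h
  obtain ⟨e⟩ := Groth.Agent.Lib.Helper23.InvDual.nonempty_tensorMod_dual_iso _
    (isInvertible_tensorPow (isInvertible_tensorPow hL a) b)
  exact ⟨tensorModIso (Iso.refl _) Φ.symm ≪≫ tensorBraid _ _ ≪≫ e⟩

variable {ι : Type u} (L : ι → X.Modules)

theorem inAddL_of_iso {E E' : X.Modules} (e : E ≅ E') (h : KSix.InAddL L E) : KSix.InAddL L E' := by
  obtain ⟨k, N, hN, ⟨e'⟩⟩ := h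
  exact ⟨k, N, hN, ⟨e.symm ≪≫ e'⟩⟩

/-- `L(X)` is closed under finite direct sums -/
theorem inAddL_biproduct {r : ℕ} (E : Fin r → X.Modules) (h : ∀ j, KSix.InAddL L (E j)) : KSix.InAddL L (⨁ E) := by
  choose k N hN e using h
  let e0 : (Σ j : Fin r, Fin (k j)) ≃ Fin (Fintype.card (Σ j : Fin r, Fin (k j))) := Fintype.equivFin _
  let N' : Fin (Fintype.card (Σ j : Fin r, Fin (k j))) → X.Modules := fun q => N (e0.symm q).1 (e0.symm q).2
  refine ⟨_, N', fun q => hN _ _, ⟨?_⟩⟩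
  refine biproduct.mapIso (fun j => (e j).some) ≪≫ biproductBiproductIso (fun j => Fin (k j)) N ≪≫
    biproduct.whiskerEquiv e0 (fun p => ?_)
  change N (e0.symm (e0 p)).1 (e0.symm (e0 p)).2 ≅ N p.1 p.2
  rw [Equiv.symm_apply_apply]

theorem inAddL_freeMod_tensor (k : ℕ) (D : X.Modules) (hD : KSix.IsNegPower L D) :
    KSix.InAddL L (CohB1.tensorMod (FlatMod.freeMod X k) D) := by
  obtain ⟨e⟩ := nonempty_freeMod_tensor_iso k D
  exact ⟨k, fun _ => D, fun _ => hD, ⟨e⟩⟩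

/-- **Resolutions by negative powers of an ample family.** -/
theorem exists_epi_inAddL (hL : KSix.IsAmpleFamily L) (F : X.Modules) (hF : Coh.IsQCoh F) (hF' : CohB1.IsFT F) :
    ∃ (M : X.Modules) (π : M ⟶ F), KSix.InAddL L M ∧ Epi π := by
  haveI : F.IsQuasicoherent := hF
  haveI : SheafOfModules.IsFiniteType (R := X.ringCatSheaf) F := hF'
  haveI := hL.1
  haveI := hL.2.1
  obtain ⟨r, E, π, hE, hπ⟩ := exists_finite_family F (KSix.InAddL L) (fun x => by
    obtain ⟨i, n, s, hxs, haff⟩ := hL.2.2.2 x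
    have hP := isInvertible_tensorPow (hL.2.2.1 i) (n + 1)
    obtain ⟨N₀, hN₀⟩ := exists_local_resolution F _ hP s haff x hxs
    obtain ⟨k, π, W, hxW, hπW⟩ := hN₀ (N₀ + 1) (Nat.le_succ N₀)
    refine ⟨_, π, W, hxW, hπW, inAddL_freeMod_tensor L k _ ?_⟩
    exact ⟨i, (n + 1) * (N₀ + 1), Nat.mul_pos (Nat.succ_pos n) (Nat.succ_pos N₀),
      nonempty_dual_tensorPow_iso (L i) (hL.2.2.1 i) (n + 1) (N₀ + 1) _ rfl⟩)
  exact ⟨⨁ E, biproduct.desc π, inAddL_biproduct L E hE, hπ⟩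

end Groth.Agent.Lib.Helper23.AmpleFam2
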