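import Mathlib

open CategoryTheory Limits Opposite Abelian

namespace Groth.Agent.Lib.Helper23ExtRD

universe v u

variable {C : Type u} [Category.{v} C] [Abelian C] [HasExt.{v} C]

section
variable {X Y : C} (R : InjectiveResolution Y)

/-- the complex `Hom(X, R•)` in abelian groups -/
noncomputable abbrev homCx (X : C) : CochainComplex AddCommGrpCat.{v} ℕ :=
  ((preadditiveCoyoneda.obj (op X)).mapHomologicalComplex (ComplexShape.up ℕ)).obj R.cocomplex

/-- the short complex computing the homology in degree n -/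
noncomputable abbrev sc (X : C) (i n : ℕ) : ShortComplex AddCommGrpCat.{v} :=
  (homCx R X).sc' i n (n + 1)

theorem sc_g_apply (i n : ℕ) (f : X ⟶ R.cocomplex.X n) :
    (sc R X i n).g.hom f = f ≫ R.cocomplex.d n (n + 1) := rfl

theorem sc_f_apply (i n : ℕ) (f : X ⟶ R.cocomplex.X i) :
    (sc R X i n).f.hom f = f ≫ R.cocomplex.d i n := rfl

/-- the map from cocycles to `Ext`. -/
noncomputable def ψ (i n : ℕ) : AddMonoidHom.ker (sc R X i n).g.hom →+ Ext.{v} X Y n where
  toFun f := R.extMk f.1 (n + 1) rfl f.2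
  map_zero' := R.extMk_zero (n + 1) rfl
  map_add' f g := (R.add_extMk f.1 g.1 (n + 1) rfl f.2 g.2).symm

theorem ψ_surjective (i n : ℕ) : Function.Surjective (ψ R (X := X) i n) := by
  intro α
  obtain ⟨f, hf, rfl⟩ := R.extMk_surjective α (n + 1) rfl
  exact ⟨⟨f, hf⟩, rfl⟩

open CochainComplex.HomComplex in
theorem extMk_zero_eq_zero_iff (f : X ⟶ R.cocomplex.X 0) (hf : f ≫ R.cocomplex.d 0 1 = 0) :
    R.extMk f 1 rfl hf = 0 ↔ f = 0 := by
  simp only [← R.extEquivCohomologyClass.apply_eq_iff_eq,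
    InjectiveResolution.extEquivCohomologyClass_extMk,
    InjectiveResolution.extEquivCohomologyClass_zero, CohomologyClass.mk_eq_zero_iff]
  rw [Cocycle.fromSingleMk_mem_coboundaries_iff _ _ _ _ _ (-1) (by lia)]
  constructor
  · rintro ⟨g, hg⟩
    have hz : IsZero (R.cochainComplex.X (-1)) :=
      R.cochainComplex.isZero_of_isStrictlyGE 0 (-1) (by lia)
    rw [hz.eq_of_tgt g 0, zero_comp] at hg
    rw [← cancel_mono (R.cochainComplexXIso 0 0 rfl).inv, zero_comp]
    exact hg.symm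
  · rintro rfl
    exact ⟨0, by simp⟩

theorem ker_ψ_zero : (ψ R (X := X) 0 0).ker = AddMonoidHom.range (sc R X 0 0).abToCycles := by
  ext ⟨f, hf⟩
  rw [AddMonoidHom.mem_ker, AddMonoidHom.mem_range]
  refine Iff.trans (extMk_zero_eq_zero_iff R (f : X ⟶ R.cocomplex.X 0) hf) ?_
  constructor
  · rintro rfl
    exact ⟨0, by rw [map_zero]; rfl⟩
  · rintro ⟨g, hg⟩
    have := congrArg Subtype.val hg
    dsimp at this
    rw [← this]
    change (g : X ⟶ R.cocomplex.X 0) ≫ R.cocomplex.d 0 0 = 0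
    rw [R.cocomplex.shape 0 0 (by simp)]
    exact comp_zero

theorem ker_ψ_succ (p : ℕ) :
    (ψ R (X := X) p (p + 1)).ker = AddMonoidHom.range (sc R X p (p + 1)).abToCycles := by
  ext ⟨f, hf⟩
  rw [AddMonoidHom.mem_ker, AddMonoidHom.mem_range]
  refine Iff.trans (R.extMk_eq_zero_iff (f : X ⟶ R.cocomplex.X (p + 1)) (p + 1 + 1) rfl hf p rfl) ?_
  constructor
  · rintro ⟨g, hg⟩
    exact ⟨g, Subtype.ext hg⟩
  · rintro ⟨g, hg⟩
    exact ⟨g, congrArg Subtype.val hg⟩

theorem homology_sc_iso (i n : ℕ)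
    (h : (ψ R (X := X) i n).ker = AddMonoidHom.range (sc R X i n).abToCycles) :
    Nonempty ((sc R X i n).homology ≅ AddCommGrpCat.of (Ext.{v} X Y n)) := by
  let e₁ := (sc R X i n).abHomologyIso
  let e₂ : (AddMonoidHom.ker (sc R X i n).g.hom ⧸ AddMonoidHom.range (sc R X i n).abToCycles) ≃+
      Ext.{v} X Y n :=
    (QuotientAddGroup.quotientAddEquivOfEq h.symm).trans
      (QuotientAddGroup.quotientKerEquivOfSurjective (ψ R i n) (ψ_surjective R i n))
  exact ⟨e₁ ≪≫ AddEquiv.toAddCommGrpIso (X := AddCommGrpCat.of _) (Y := AddCommGrpCat.of _) e₂⟩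

theorem homology_homCx_iso (n : ℕ) :
    Nonempty ((homCx R X).homology n ≅ AddCommGrpCat.of (Ext.{v} X Y n)) := by
  cases n with
  | zero =>
    obtain ⟨e⟩ := homology_sc_iso R 0 0 (ker_ψ_zero R)
    exact ⟨(homCx R X).homologyIsoSc' 0 0 1 (by simp) (by simp) ≪≫ e⟩
  | succ p =>
    obtain ⟨e⟩ := homology_sc_iso R p (p + 1) (ker_ψ_succ R p)
    exact ⟨(homCx R X).homologyIsoSc' p (p + 1) (p + 1 + 1) (by simp) (by simp) ≪≫ e⟩

end

/-- `Ext^n(X, Y)` is the value at `Y` of the `n`-th right derived functor of `Hom(X, -)`. -/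
theorem rightDerived_coyoneda_iso [HasInjectiveResolutions C] (X Y : C) (n : ℕ) :
    Nonempty (((preadditiveCoyoneda.obj (op X)).rightDerived n).obj Y ≅
      AddCommGrpCat.of (Ext.{v} X Y n)) := by
  let R : InjectiveResolution Y := injectiveResolution Y
  obtain ⟨e⟩ := homology_homCx_iso (X := X) R n
  exact ⟨R.isoRightDerivedObj (preadditiveCoyoneda.obj (op X)) n ≪≫ e⟩

end Groth.Agent.Lib.Helper23ExtRD
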