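import Mathlib
import Groth.Prelude.Def_LocCohZ
import Groth.Agent.Lib.Helper16Flasque
import Groth.Agent.Lib.Helper23ExtRD

set_option autoImplicit false
universe w v u
open CategoryTheory CategoryTheory.Limits Opposite TopologicalSpace Abelian

namespace Groth.Agent.Lib.Helper23LocSS

open Groth.Agent.Lib.Helper16.Flasque

section Abstract

variable {𝒜 : Type u} [Category.{v} 𝒜] [Abelian 𝒜] [HasExt.{w} 𝒜]

theorem ext_X₃_eq_zero {S : ShortComplex 𝒜} (hS : S.ShortExact) (Y : 𝒜) (i : ℕ)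
    (h₂ : ∀ x : Ext.{w} S.X₂ Y (i + 1), x = 0)
    (h₁ : ∀ j : ℕ, j + 1 = i → ∀ x : Ext.{w} S.X₁ Y i, x = 0)
    (h₀ : i = 0 → ∀ φ : S.X₁ ⟶ Y, ∃ ψ : S.X₂ ⟶ Y, S.f ≫ ψ = φ)
    (x : Ext.{w} S.X₃ Y (i + 1)) : x = 0 := by
  obtain ⟨y, hy⟩ := Ext.contravariant_sequence_exact₃ hS Y x (h₂ _) (n₀ := i) (by lia)
  rw [← hy]
  cases i with
  | zero =>
    obtain ⟨φ, rfl⟩ := (Ext.mk₀_bijective _ _).2 y
    obtain ⟨ψ, rfl⟩ := h₀ rfl φ
    rw [← Ext.mk₀_comp_mk₀, ← Ext.comp_assoc_of_second_deg_zero,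
      ShortComplex.ShortExact.extClass_comp, Ext.zero_comp]
  | succ j =>
    rw [h₁ j rfl y, Ext.comp_zero]

end Abstract

variable {X : TopCat.{u}}

/-- a map `ℤ_W ⟶ F` to a flasque sheaf extends to `ℤ_V`. -/
theorem exists_extension_of_flasque (F : CohTop.Ab X) [hF : TopCat.Sheaf.IsFlasque F] {W V : Opens X}
    (h : W ≤ V) (φ : CohCx.freeSheaf (Opens.grothendieckTopology X) W ⟶ F) :
    ∃ ψ : CohCx.freeSheaf (Opens.grothendieckTopology X) V ⟶ F,
      CohCx.freeSheafMap (Opens.grothendieckTopology X) (homOfLE h) ≫ ψ = φ := by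
  have hepi : Epi (F.obj.map (homOfLE h).op) := hF.epi _
  rw [AddCommGrpCat.epi_iff_surjective] at hepi
  obtain ⟨t, ht⟩ := hepi (CohFree.evalGen _ W F φ)
  refine ⟨CohFree.ofSect _ V F t, ?_⟩
  apply (CohFree.homEquivSect _ W F).injective
  rw [CohFree.homEquivSect_apply, CohFree.homEquivSect_apply,
    CohFree.evalGen_freeSheafMap_comp, CohFree.evalGen_ofSect]
  exact ht

/-- flasque sheaves are acyclic for cohomology with supports. -/
theorem HZ_eq_zero_of_flasque (F : CohTop.Ab X) [TopCat.Sheaf.IsFlasque F] {W V : Opens X}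
    (h : W ≤ V) (i : ℕ) (x : LocCohZ.HZ F (i + 1) h) : x = 0 :=
  ext_X₃_eq_zero (LocCohZ.zqSeq_shortExact h) F i (fun x => ext_free_eq_zero F V i x)
    (fun j hj x => by subst hj; exact ext_free_eq_zero F W j x)
    (fun _ φ => exists_extension_of_flasque F h φ) x

end Groth.Agent.Lib.Helper23LocSS

namespace Groth.Agent.Lib.Helper23LocSS

variable {X Y : TopCat.{u}}

/-- maps out of `ℤ_V/ℤ_W` are the sections over `V` vanishing on `W`. -/
noncomputable def homZqEquiv (G : CohTop.Ab X) {W V : Opens X} (h : W ≤ V) :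
    (LocCohZ.zq h ⟶ G) ≃+ LocCohZ.sectZ G h :=
  Ext.addEquiv₀.symm.trans (LocCohZ.sect0Equiv G h)

theorem homZqEquiv_apply_coe (G : CohTop.Ab X) {W V : Opens X} (h : W ≤ V) (φ : LocCohZ.zq h ⟶ G) :
    ((homZqEquiv G h φ : LocCohZ.sectZ G h) : G.obj.obj (op V)) =
      CohFree.evalGen (Opens.grothendieckTopology X) V G
        (cokernel.π (CohCx.freeSheafMap (Opens.grothendieckTopology X) (homOfLE h)) ≫ φ) := by
  change CohFree.evalGen (Opens.grothendieckTopology X) V G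
      (cokernel.π _ ≫ Ext.addEquiv₀ (Ext.addEquiv₀.symm φ)) = _
  rw [AddEquiv.apply_symm_apply]

theorem homZqEquiv_comp (G G' : CohTop.Ab X) (α : G ⟶ G') {W V : Opens X} (h : W ≤ V)
    (φ : LocCohZ.zq h ⟶ G) :
    ((homZqEquiv G' h (φ ≫ α) : LocCohZ.sectZ G' h) : G'.obj.obj (op V)) =
      (α.hom.app (op V)).hom ((homZqEquiv G h φ : LocCohZ.sectZ G h) : G.obj.obj (op V)) := by
  rw [homZqEquiv_apply_coe, homZqEquiv_apply_coe]
  rfl

/-- the identification of sections with support of a direct image. -/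
noncomputable def sectZPushEquiv (f : X ⟶ Y) (V : Opens Y) (G : CohTop.Ab X) :
    LocCohZ.sectZ ((CohTop.push f).obj G) (le_top : V ≤ ⊤) ≃+
      LocCohZ.sectZ G (le_top : (Opens.map f).obj V ≤ ⊤) where
  toFun s := ⟨s.1, s.2⟩
  invFun s := ⟨s.1, s.2⟩
  left_inv s := rfl
  right_inv s := rfl
  map_add' s t := rfl

end Groth.Agent.Lib.Helper23LocSS

namespace Groth.Agent.Lib.Helper23LocSS

variable {X Y : TopCat.{u}}

/-- `Hom(ℤ_Y/ℤ_V, f_* G) ≃ Hom(ℤ_X/ℤ_{f⁻¹V}, G)`. -/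
noncomputable def homPushEquiv (f : X ⟶ Y) (V : Opens Y) (G : CohTop.Ab X) :
    (LocCohZ.zq (le_top : V ≤ ⊤) ⟶ (CohTop.push f).obj G) ≃+
      (LocCohZ.zq (le_top : (Opens.map f).obj V ≤ ⊤) ⟶ G) :=
  ((homZqEquiv ((CohTop.push f).obj G) (le_top : V ≤ ⊤)).trans (sectZPushEquiv f V G)).trans
    (homZqEquiv G (le_top : (Opens.map f).obj V ≤ ⊤)).symm

theorem homPushEquiv_naturality (f : X ⟶ Y) (V : Opens Y) {G G' : CohTop.Ab X} (α : G ⟶ G')
    (φ : LocCohZ.zq (le_top : V ≤ ⊤) ⟶ (CohTop.push f).obj G) :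
    homPushEquiv f V G' (φ ≫ (CohTop.push f).map α) = homPushEquiv f V G φ ≫ α := by
  apply (homZqEquiv G' (le_top : (Opens.map f).obj V ≤ ⊤)).injective
  apply Subtype.ext
  rw [homZqEquiv_comp]
  dsimp only [homPushEquiv, AddEquiv.trans_apply]
  rw [AddEquiv.apply_symm_apply, AddEquiv.apply_symm_apply]
  exact homZqEquiv_comp _ _ ((CohTop.push f).map α) (le_top : V ≤ ⊤) φ

/-- the natural isomorphism `f_* ⋙ Hom(ℤ_Y/ℤ_V, -) ≅ Hom(ℤ_X/ℤ_{f⁻¹V}, -)`. -/
noncomputable def pushCoyonedaIso (f : X ⟶ Y) (V : Opens Y) :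
    CohTop.push f ⋙ preadditiveCoyoneda.obj (op (LocCohZ.zq (le_top : V ≤ ⊤))) ≅
      preadditiveCoyoneda.obj (op (LocCohZ.zq (le_top : (Opens.map f).obj V ≤ ⊤))) :=
  NatIso.ofComponents
    (fun G => AddEquiv.toAddCommGrpIso (X := AddCommGrpCat.of _) (Y := AddCommGrpCat.of _)
      (homPushEquiv f V G))
    (fun {G G'} α => by
      ext φ
      exact homPushEquiv_naturality f V α φ)

end Groth.Agent.Lib.Helper23LocSS

namespace Groth.Agent.Lib.Helper23LocSS

section RD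

variable {C : Type u} [Category.{v} C] [Abelian C] [HasInjectiveResolutions C]
  {D : Type*} [Category D] [Abelian D]

/-- isomorphic additive functors have isomorphic right derived functors. -/
noncomputable def rightDerivedIso {F G : C ⥤ D} [F.Additive] [G.Additive] (e : F ≅ G) (n : ℕ) :
    F.rightDerived n ≅ G.rightDerived n where
  hom := NatTrans.rightDerived e.hom n
  inv := NatTrans.rightDerived e.inv n
  hom_inv_id := by rw [← NatTrans.rightDerived_comp, e.hom_inv_id, NatTrans.rightDerived_id]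
  inv_hom_id := by rw [← NatTrans.rightDerived_comp, e.inv_hom_id, NatTrans.rightDerived_id]

end RD

end Groth.Agent.Lib.Helper23LocSS
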