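import Mathlib

open CategoryTheory Limits ComposableArrows Pretriangulated

namespace Groth.Agent.Lib.Helper23SS1

universe v₁ v₂ v₃ u₁ u₂ u₃

variable {C : Type u₁} [Category.{v₁} C] {ι : Type u₂} [Category.{v₂} ι] [HasZeroObject C]
  [HasShift C ℤ] [Preadditive C] [∀ (n : ℤ), (shiftFunctor C n).Additive] [Pretriangulated C]
  {A : Type u₃} [Category.{v₃} A] [Abelian A]

/-- The abelian spectral object obtained by applying a homological functor to a triangulated
spectral object. -/
noncomputable def mapHomological (X : Triangulated.SpectralObject C ι) (F : C ⥤ A)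
    [F.IsHomological] [F.ShiftSequence ℤ] : Abelian.SpectralObject A ι where
  H n := X.ω₁ ⋙ F.shift n
  δ' n₀ n₁ h :=
    { app := fun D => F.homologySequenceδ (X.ω₂.obj D) n₀ n₁ h
      naturality := fun _ _ φ => F.homologySequenceδ_naturality _ _ (X.ω₂.map φ) n₀ n₁ h }
  exact₁' n₀ n₁ h D :=
    (F.homologySequence_exact₁ _ (X.ω₂_obj_distinguished D) n₀ n₁ h).exact_toComposableArrows
  exact₂' n D :=
    (F.homologySequence_exact₂ _ (X.ω₂_obj_distinguished D) n).exact_toComposableArrows
  exact₃' n₀ n₁ h D :=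
    (F.homologySequence_exact₃ _ (X.ω₂_obj_distinguished D) n₀ n₁ h).exact_toComposableArrows

@[simp]
theorem mapHomological_H (X : Triangulated.SpectralObject C ι) (F : C ⥤ A)
    [F.IsHomological] [F.ShiftSequence ℤ] (n : ℤ) :
    (mapHomological X F).H n = X.ω₁ ⋙ F.shift n := rfl

end Groth.Agent.Lib.Helper23SS1
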