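import Mathlib
import Groth.Prelude.Def_SpSeq

open CategoryTheory Limits ComposableArrows

namespace Groth.Agent.Lib.Helper23SS2

universe v u
variable {C : Type u} [Category.{v} C] [Abelian C]

section abstract

variable {A' A D Hn : C} (m : A' ⟶ A) (ub : A ⟶ Hn) (δ : D ⟶ A) (hδ : δ ≫ ub = 0)
  (hex : (ShortComplex.mk δ ub hδ).Exact)
  (h : imageSubobject (m ≫ ub) ≤ imageSubobject ub)

/-- the projection `A ⟶ im(ub)/im(m ≫ ub)` -/
noncomputable abbrev grπ : A ⟶ cokernel ((imageSubobject (m ≫ ub)).ofLE (imageSubobject ub) h) :=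
  factorThruImageSubobject ub ≫ cokernel.π _

instance : Epi (grπ m ub h) := epi_comp _ _

include hδ in
theorem desc_grπ : biprod.desc m δ ≫ grπ m ub h = 0 := by
  have hπ : m ≫ factorThruImageSubobject ub = factorThruImageSubobject (m ≫ ub) ≫
      (imageSubobject (m ≫ ub)).ofLE (imageSubobject ub) h := by
    rw [← cancel_mono (imageSubobject ub).arrow]
    simp only [Category.assoc, imageSubobject_arrow_comp, Subobject.ofLE_arrow]
  have hδ' : δ ≫ factorThruImageSubobject ub = 0 := by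
    rw [← cancel_mono (imageSubobject ub).arrow, Category.assoc, imageSubobject_arrow_comp, hδ,
      zero_comp]
  apply biprod.hom_ext'
  · rw [biprod.inl_desc_assoc, comp_zero, grπ, reassoc_of% hπ, cokernel.condition, comp_zero]
  · rw [biprod.inr_desc_assoc, comp_zero, grπ, reassoc_of% hδ', zero_comp]

include hex in
theorem grExact : (ShortComplex.mk (biprod.desc m δ) (grπ m ub h) (desc_grπ m ub δ hδ h)).Exact := by
  rw [ShortComplex.exact_iff_exact_up_to_refinements]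
  intro T x hx
  change T ⟶ A at x
  change x ≫ factorThruImageSubobject ub ≫ cokernel.π _ = 0 at hx
  have hker := Abelian.monoIsKernelOfCokernel _
    (cokernelIsCokernel ((imageSubobject (m ≫ ub)).ofLE (imageSubobject ub) h))
  obtain ⟨y, hy⟩ : ∃ y : T ⟶ (imageSubobject (m ≫ ub) : C),
      y ≫ (imageSubobject (m ≫ ub)).ofLE (imageSubobject ub) h = x ≫ factorThruImageSubobject ub :=
    ⟨hker.lift (KernelFork.ofι (x ≫ factorThruImageSubobject ub) (by rw [Category.assoc]; exact hx)),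
      hker.fac _ WalkingParallelPair.zero⟩
  obtain ⟨T', π', _, y', hy'⟩ :=
    surjective_up_to_refinements_of_epi (factorThruImageSubobject (m ≫ ub)) y
  have hz : (π' ≫ x - y' ≫ m) ≫ ub = 0 := by
    rw [Preadditive.sub_comp, Category.assoc, Category.assoc, sub_eq_zero]
    calc π' ≫ x ≫ ub = π' ≫ (x ≫ factorThruImageSubobject ub) ≫ (imageSubobject ub).arrow := by
          simp
      _ = π' ≫ y ≫ (imageSubobject (m ≫ ub)).arrow := by
          rw [← hy, Category.assoc, Subobject.ofLE_arrow]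
      _ = y' ≫ m ≫ ub := by
          rw [← Category.assoc, hy', Category.assoc, imageSubobject_arrow_comp]
  obtain ⟨T'', π'', _, w, hw⟩ : ∃ (T'' : C) (π'' : T'' ⟶ T') (_ : Epi π'') (w : T'' ⟶ D),
      π'' ≫ (π' ≫ x - y' ≫ m) = w ≫ δ := hex.exact_up_to_refinements _ hz
  refine ⟨T'', π'' ≫ π', epi_comp _ _, biprod.lift (π'' ≫ y') w, ?_⟩
  change (π'' ≫ π') ≫ x = biprod.lift (π'' ≫ y') w ≫ biprod.desc m δ
  rw [biprod.lift_desc, ← hw, Preadditive.comp_sub, Category.assoc, Category.assoc]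
  abel

theorem grIso_abs {A' A D Hn E : C} (m : A' ⟶ A) (ub : A ⟶ Hn) (ua : A' ⟶ Hn) (hua : m ≫ ub = ua)
    (δ : D ⟶ A) (hδ : δ ≫ ub = 0) (hex : (ShortComplex.mk δ ub hδ).Exact)
    (h : imageSubobject ua ≤ imageSubobject ub) (g : A ⟶ E) [Epi g] (hg : biprod.desc m δ ≫ g = 0)
    (hgex : (ShortComplex.mk (biprod.desc m δ) g hg).Exact) :
    Nonempty (cokernel ((imageSubobject ua).ofLE (imageSubobject ub) h) ≅ E) := by
  subst hua
  have : Epi (ShortComplex.mk (biprod.desc m δ) g hg).g := by dsimp; infer_instance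
  have : Epi (ShortComplex.mk (biprod.desc m δ) (grπ m ub h) (desc_grπ m ub δ hδ h)).g := by
    dsimp; infer_instance
  exact ⟨IsColimit.coconePointUniqueUpToIso (grExact m ub δ hδ hex h).gIsCokernel hgex.gIsCokernel⟩

theorem exact_comp_mono {X₁ X₂ X₃ X₄ : C} (f : X₁ ⟶ X₂) (g : X₂ ⟶ X₃) (e : X₃ ⟶ X₄) [Mono e]
    (w : f ≫ g = 0) (hex : (ShortComplex.mk f g w).Exact) :
    (ShortComplex.mk f (g ≫ e) (by rw [reassoc_of% w, zero_comp])).Exact := by
  rw [ShortComplex.exact_iff_exact_up_to_refinements] at hex ⊢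
  intro T x hx
  exact hex x (by rw [← cancel_mono e, Category.assoc, zero_comp]; exact hx)

end abstract

section spectral

variable (Y : Abelian.SpectralObject C EInt)

/-- `H^n(⊥ ≤ j)` -/
noncomputable abbrev HB (n : ℤ) (j : EInt) : C :=
  (Y.H n).obj (mk₁ (homOfLE (bot_le : (⊥ : EInt) ≤ j)))

/-- the map `H^n(⊥ ≤ i) → H^n(⊥ ≤ j)` for `i ≤ j` -/
noncomputable abbrev mB (n : ℤ) (i j : EInt) (h : i ≤ j) : HB Y n i ⟶ HB Y n j :=
  (Y.H n).map (twoδ₂Toδ₁' ⊥ i j bot_le h)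

theorem mB_comp (n : ℤ) (i j k : EInt) (h : i ≤ j) (h' : j ≤ k) :
    mB Y n i j h ≫ mB Y n j k h' = mB Y n i k (h.trans h') := by
  dsimp only [mB]
  rw [← Functor.map_comp]
  congr 1

variable {Y} in
/-- cokernel description of graded pieces. -/
theorem grIso (n₀ n n₂ : ℤ) (hn : n₀ + 1 = n) (hn₂ : n + 1 = n₂) (a b : EInt) (hab : a ≤ b) {Hn : C}
    (e : HB Y n ⊤ ≅ Hn)
    (h : imageSubobject (mB Y n a ⊤ le_top ≫ e.hom) ≤ imageSubobject (mB Y n b ⊤ le_top ≫ e.hom)) :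
    Nonempty (cokernel ((imageSubobject (mB Y n a ⊤ le_top ≫ e.hom)).ofLE
        (imageSubobject (mB Y n b ⊤ le_top ≫ e.hom)) h) ≅
      Y.E (homOfLE (bot_le : ⊥ ≤ a)) (homOfLE hab) (homOfLE (le_top : b ≤ ⊤)) n₀ n n₂ hn hn₂) := by
  have hS₁ := Y.cokernelSequenceE_exact (homOfLE (bot_le : ⊥ ≤ a)) (homOfLE hab)
    (homOfLE (le_top : b ≤ ⊤)) (homOfLE bot_le) rfl n₀ n n₂ hn hn₂
  have hδ : Y.δ (homOfLE (bot_le : (⊥ : EInt) ≤ b)) (homOfLE (le_top : b ≤ ⊤)) n₀ n hn ≫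
      mB Y n b ⊤ le_top = 0 :=
    Y.zero₁ (homOfLE (bot_le : (⊥ : EInt) ≤ b)) (homOfLE (le_top : b ≤ ⊤)) (homOfLE bot_le) rfl n₀ n hn
  have hex := exact_comp_mono _ _ e.hom hδ
    (Y.exact₁ (homOfLE (bot_le : (⊥ : EInt) ≤ b)) (homOfLE (le_top : b ≤ ⊤)) (homOfLE bot_le) rfl
      n₀ n hn)
  have : Epi (Y.toCycles (homOfLE (bot_le : ⊥ ≤ a)) (homOfLE hab) (homOfLE bot_le) rfl n ≫
      Y.πE (homOfLE (bot_le : ⊥ ≤ a)) (homOfLE hab) (homOfLE (le_top : b ≤ ⊤)) n₀ n n₂ hn hn₂) :=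
    epi_comp _ _
  exact grIso_abs (mB Y n a b hab) (mB Y n b ⊤ le_top ≫ e.hom) _
    (by rw [← Category.assoc, mB_comp]) _ _ hex h
    (Y.toCycles (homOfLE (bot_le : ⊥ ≤ a)) (homOfLE hab) (homOfLE bot_le) rfl n ≫
      Y.πE (homOfLE (bot_le : ⊥ ≤ a)) (homOfLE hab) (homOfLE (le_top : b ≤ ⊤)) n₀ n n₂ hn hn₂)
    (Y.cokernelSequenceE (homOfLE (bot_le : ⊥ ≤ a)) (homOfLE hab)
    (homOfLE (le_top : b ≤ ⊤)) (homOfLE bot_le) rfl n₀ n n₂ hn hn₂).zero hS₁

theorem imageSubobject_eq_top_of_epi {X Z : C} (f : X ⟶ Z) [Epi f] : imageSubobject f = ⊤ := by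
  have : Epi (imageSubobject f).arrow := epi_of_epi_fac (imageSubobject_arrow_comp f)
  have : IsIso (imageSubobject f).arrow := isIso_of_mono_of_epi _
  exact Subobject.eq_top_of_isIso_arrow _

theorem imageSubobject_eq_bot_of_eq_zero {X Z : C} (f : X ⟶ Z) (h : f = 0) :
    imageSubobject f = ⊥ := by
  subst h; exact imageSubobject_zero

variable {H : ℤ → C} (e : ∀ n, HB Y n ⊤ ≅ H n)

/-- the filtration on the abutment -/
noncomputable def fil (n : ℤ) (p : ℤ) : Subobject (H n) :=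
  imageSubobject (mB Y n ((n - p + 1 : ℤ) : EInt) ⊤ le_top ≫ (e n).hom)

theorem fil_anti (n : ℤ) : Antitone (fil Y e n) := by
  intro p p' hpp'
  have hj : ((n - p' + 1 : ℤ) : EInt) ≤ ((n - p + 1 : ℤ) : EInt) := by
    rw [WithBotTop.coe_le_coe]; lia
  exact SpSeq.FilCx.imageSubobject_le_of_fac (mB Y n _ _ hj) (by rw [← Category.assoc, mB_comp])

variable {Y} in
theorem grIso' (p q n : ℤ) (hn : p + q = n) (a' b' : ℤ) (ha : a' = q) (hb : b' = q + 1)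
    (h : imageSubobject (mB Y n (a' : EInt) ⊤ le_top ≫ (e n).hom) ≤
      imageSubobject (mB Y n (b' : EInt) ⊤ le_top ≫ (e n).hom)) :
    Nonempty (cokernel ((imageSubobject (mB Y n (a' : EInt) ⊤ le_top ≫ (e n).hom)).ofLE
        (imageSubobject (mB Y n (b' : EInt) ⊤ le_top ≫ (e n).hom)) h) ≅
      Y.E (homOfLE (bot_le : ⊥ ≤ (q : EInt))) (homOfLE (show (q : EInt) ≤ ((q + 1 : ℤ) : EInt) by
        rw [WithBotTop.coe_le_coe]; lia)) (homOfLE (le_top : ((q + 1 : ℤ) : EInt) ≤ ⊤))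
        (n - 1) n (n + 1) (by lia) rfl) := by
  subst ha hb
  exact grIso _ _ _ _ _ _ _ _ _ h

variable [Y.IsFirstQuadrant]

/-- the stabilisation rank -/
def rk (pq : ℤ × ℤ) : ℤ := max 2 (max (pq.2 + 2) (pq.1 + 1))

theorem two_le_rk (pq : ℤ × ℤ) : 2 ≤ rk pq := le_max_left _ _

theorem isZero_page_of_neg_fst (r : ℤ) (hr : 2 ≤ r) (pq : ℤ × ℤ) (h : pq.1 < 0) :
    IsZero ((Y.E₂SpectralSequence.page r hr).X pq) :=
  Y.isZero_spectralSequence_page_X_of_isZero_H' _ _ hr _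
    (Y.isZero₂_of_isFirstQuadrant _ _ _ _ (by
      simp only [Abelian.SpectralObject.coreE₂Cohomological_deg,
        Abelian.SpectralObject.coreE₂Cohomological_i₁, WithBotTop.coe_lt_coe]; lia))

theorem isZero_page_of_neg_snd (r : ℤ) (hr : 2 ≤ r) (pq : ℤ × ℤ) (h : pq.2 < 0) :
    IsZero ((Y.E₂SpectralSequence.page r hr).X pq) :=
  Y.isZero_spectralSequence_page_X_of_isZero_H' _ _ hr _
    (Y.isZero₁_of_isFirstQuadrant _ _ _ (by
      simp only [Abelian.SpectralObject.coreE₂Cohomological_i₂, WithBotTop.coe_le_coe]; lia) _)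

theorem stat (pq : ℤ × ℤ) : SpSeq.StationaryAt Y.E₂SpectralSequence pq (rk pq) := by
  refine ⟨two_le_rk pq, fun r' h₀ hr' => ⟨?_, ?_⟩⟩
  · apply IsZero.eq_of_src
    apply isZero_page_of_neg_fst
    have : pq.1 + 1 ≤ r' := le_trans (le_trans (le_max_right _ _) (le_max_right _ _)) hr'
    simp only [Prod.fst_sub]; lia
  · apply IsZero.eq_of_tgt
    apply isZero_page_of_neg_snd
    have : pq.2 + 2 ≤ r' := le_trans (le_trans (le_max_left _ _) (le_max_right _ _)) hr'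
    simp only [Prod.snd_add]; lia

theorem pageIso (pq : ℤ × ℤ) (r : ℤ) (hr : 2 ≤ r) (hr1 : pq.2 + 2 ≤ r) (hr2 : pq.1 + 1 ≤ r)
    (n : ℤ) (hn : pq.1 + pq.2 = n) :
    Nonempty ((Y.E₂SpectralSequence.page r hr).X pq ≅
      Y.E (homOfLE (bot_le : ⊥ ≤ (pq.2 : EInt))) (homOfLE (show (pq.2 : EInt) ≤ ((pq.2 + 1 : ℤ) : EInt) by
        rw [WithBotTop.coe_le_coe]; lia)) (homOfLE (le_top : ((pq.2 + 1 : ℤ) : EInt) ≤ ⊤))
        (n - 1) n (n + 1) (by lia) rfl) := by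
  obtain ⟨p, q⟩ := pq
  dsimp only at hr1 hr2 hn ⊢
  have h01 : ((q - r + 2 : ℤ) : EInt) ≤ (q : EInt) := by rw [WithBotTop.coe_le_coe]; lia
  have h12 : (q : EInt) ≤ ((q + 1 : ℤ) : EInt) := by rw [WithBotTop.coe_le_coe]; lia
  have h23 : ((q + 1 : ℤ) : EInt) ≤ ((q + r - 1 : ℤ) : EInt) := by rw [WithBotTop.coe_le_coe]; lia
  let e₁ := Y.spectralSequencePageXIso Abelian.SpectralObject.coreE₂Cohomological r hr (p, q)
    ((q - r + 2 : ℤ) : EInt) (q : EInt) ((q + 1 : ℤ) : EInt) ((q + r - 1 : ℤ) : EInt)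
    rfl rfl rfl rfl (n - 1) n (n + 1) hn.symm (by lia) rfl
  let e₂ := Y.isoMapFourδ₁Toδ₀' ⊥ ((q - r + 2 : ℤ) : EInt) (q : EInt) ((q + 1 : ℤ) : EInt)
    ((q + r - 1 : ℤ) : EInt) bot_le h01 h12 h23 (n - 1) n (n + 1)
    (Y.isZero₁_of_isFirstQuadrant _ _ _ (by rw [WithBotTop.coe_le_coe]; lia) _) (by lia) rfl
  let e₃ := Y.isoMapFourδ₄Toδ₃' ⊥ (q : EInt) ((q + 1 : ℤ) : EInt)
    ((q + r - 1 : ℤ) : EInt) ⊤ bot_le h12 h23 le_top (n - 1) n (n + 1)
    (Y.isZero₂_of_isFirstQuadrant _ _ _ _ (by rw [WithBotTop.coe_lt_coe]; lia)) (by lia) rfl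
  exact ⟨e₁ ≪≫ e₂.symm ≪≫ e₃⟩

theorem le_rk₁ (pq : ℤ × ℤ) : pq.2 + 2 ≤ rk pq := le_trans (le_max_left _ _) (le_max_right _ _)
theorem le_rk₂ (pq : ℤ × ℤ) : pq.1 + 1 ≤ rk pq := le_trans (le_max_right _ _) (le_max_right _ _)

theorem βiso (pq : ℤ × ℤ) :
    Nonempty ((Y.E₂SpectralSequence.page (rk pq) (two_le_rk pq)).X pq ≅
      SpSeq.grPiece (fil Y e (pq.1 + pq.2)) (fil_anti Y e (pq.1 + pq.2)) pq.1) := by
  obtain ⟨e₁⟩ := pageIso Y pq (rk pq) (two_le_rk pq) (le_rk₁ pq) (le_rk₂ pq) _ rfl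
  obtain ⟨e₂⟩ := grIso' (Y := Y) e pq.1 pq.2 _ rfl (pq.1 + pq.2 - (pq.1 + 1) + 1) (pq.1 + pq.2 - pq.1 + 1)
    (by lia) (by lia) (fil_anti Y e (pq.1 + pq.2) (show pq.1 ≤ pq.1 + 1 by lia))
  exact ⟨e₁ ≪≫ e₂.symm⟩

/-- The abutment of the `E₂`-spectral sequence of a first quadrant spectral object. -/
noncomputable def abutment : SpSeq.Abutment Y.E₂SpectralSequence H where
  fil := fil Y e
  anti := fil_anti Y e
  rk := rk
  stat := stat Y
  β pq := (βiso Y e pq).some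

theorem abutment_isFinite (n : ℤ) : (abutment Y e).IsFinite n := by
  refine ⟨⟨0, ?_⟩, ⟨n + 1, ?_⟩⟩
  · show imageSubobject _ = ⊤
    have hz : IsZero ((Y.H n).obj (mk₁ (homOfLE (le_top : ((n - 0 + 1 : ℤ) : EInt) ≤ ⊤)))) :=
      Y.isZero₂_of_isFirstQuadrant _ _ _ _ (by rw [WithBotTop.coe_lt_coe]; lia)
    have : Epi (mB Y n ((n - 0 + 1 : ℤ) : EInt) ⊤ le_top) :=
      (Y.exact₂ (homOfLE (bot_le : ⊥ ≤ ((n - 0 + 1 : ℤ) : EInt))) (homOfLE le_top) (homOfLE bot_le) rfl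
        n).epi_f (hz.eq_of_tgt _ _)
    have : Epi (mB Y n ((n - 0 + 1 : ℤ) : EInt) ⊤ le_top ≫ (e n).hom) := epi_comp _ _
    exact imageSubobject_eq_top_of_epi _
  · show imageSubobject _ = ⊥
    have hz : IsZero (HB Y n ((n - (n + 1) + 1 : ℤ) : EInt)) :=
      Y.isZero₁_of_isFirstQuadrant _ _ _ (by rw [WithBotTop.coe_le_coe]; lia) _
    exact imageSubobject_eq_bot_of_eq_zero _ (hz.eq_of_src _ _)

theorem isBounded : SpSeq.IsBounded Y.E₂SpectralSequence := by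
  intro n
  apply (Set.finite_Icc (0 : ℤ) n).subset
  intro p hp
  simp only [Set.mem_ofPred_eq] at hp
  rw [Set.mem_Icc]
  by_contra hc
  apply hp
  by_cases h0 : 0 ≤ p
  · exact isZero_page_of_neg_snd Y 2 le_rfl (p, n - p) (by dsimp only; lia)
  · exact isZero_page_of_neg_fst Y 2 le_rfl (p, n - p) (by dsimp only; lia)

/-- identification of the second page. -/
noncomputable def pageTwoIso (p q n : ℤ) (hn : p + q = n) :
    (Y.E₂SpectralSequence.page 2 le_rfl).X (p, q) ≅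
      (Y.H n).obj (mk₁ (homOfLE (show (q : EInt) ≤ ((q + 1 : ℤ) : EInt) by
        rw [WithBotTop.coe_le_coe]; lia))) :=
  Y.spectralSequenceFirstPageXIso Abelian.SpectralObject.coreE₂Cohomological (p, q) _ _ rfl rfl n hn.symm

end spectral

end Groth.Agent.Lib.Helper23SS2
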