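import Mathlib

open CategoryTheory Limits Pretriangulated

namespace Groth.Agent.Lib.Helper23SS4

universe w v u

section homological
variable {𝒯 : Type*} [Category 𝒯] [HasZeroObject 𝒯] [HasShift 𝒯 ℤ] [Preadditive 𝒯]
  [∀ (n : ℤ), (shiftFunctor 𝒯 n).Additive] [Pretriangulated 𝒯]
  {A : Type*} [Category A] [Abelian A] (F : 𝒯 ⥤ A) [F.IsHomological] [F.ShiftSequence ℤ]

theorem isIso_shift_map_mor₁ (T : Triangle 𝒯) (hT : T ∈ distTriang 𝒯) (n₀ n₁ : ℤ) (h : n₀ + 1 = n₁)
    (h₀ : IsZero ((F.shift n₀).obj T.obj₃)) (h₁ : IsZero ((F.shift n₁).obj T.obj₃)) :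
    IsIso ((F.shift n₁).map T.mor₁) := by
  have : Mono ((F.shift n₁).map T.mor₁) :=
    (F.homologySequence_exact₁ T hT n₀ n₁ h).mono_g (h₀.eq_of_src _ _)
  have : Epi ((F.shift n₁).map T.mor₁) :=
    (F.homologySequence_exact₂ T hT n₁).epi_f (h₁.eq_of_tgt _ _)
  exact isIso_of_mono_of_epi _

theorem isIso_shift_map_mor₂ (T : Triangle 𝒯) (hT : T ∈ distTriang 𝒯) (n₀ n₁ : ℤ) (h : n₀ + 1 = n₁)
    (h₀ : IsZero ((F.shift n₀).obj T.obj₁)) (h₁ : IsZero ((F.shift n₁).obj T.obj₁)) :
    IsIso ((F.shift n₀).map T.mor₂) := by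
  have : Mono ((F.shift n₀).map T.mor₂) :=
    (F.homologySequence_exact₂ T hT n₀).mono_g (h₀.eq_of_src _ _)
  have : Epi ((F.shift n₀).map T.mor₂) :=
    (F.homologySequence_exact₃ T hT n₀ n₁ h).epi_f (h₁.eq_of_tgt _ _)
  exact isIso_of_mono_of_epi _

end homological

section
variable {C : Type u} [Category.{v} C] [Abelian C] [HasDerivedCategory.{w} C]

open DerivedCategory.Plus in
/-- `H^q(τ_{≥q} τ_{<q+1} Y) ≅ H^q(Y)`. -/
theorem homology_truncGELT (Y : DerivedCategory.Plus C) (q : ℤ) :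
    Nonempty ((DerivedCategory.Plus.homologyFunctor C q).obj
      ((TStructure.t.truncGE q).obj ((TStructure.t.truncLT (q + 1)).obj Y)) ≅
      (DerivedCategory.Plus.homologyFunctor C q).obj Y) := by
  let t := TStructure.t (C := C)
  let W := (t.truncLT (q + 1)).obj Y
  -- first triangle
  have h₁ : IsIso ((DerivedCategory.Plus.homologyFunctor C q).map ((t.truncLTι (q + 1)).app Y)) :=
    isIso_shift_map_mor₁ (DerivedCategory.Plus.homologyFunctor C 0) _
      (t.triangleLTGE_distinguished (q + 1) Y) (q - 1) q (by lia)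
      (isZero_homology_of_isGE _ (q + 1) _ (by lia))
      (isZero_homology_of_isGE _ (q + 1) _ (by lia))
  have h₂ : IsIso ((DerivedCategory.Plus.homologyFunctor C q).map ((t.truncGEπ q).app W)) :=
    isIso_shift_map_mor₂ (DerivedCategory.Plus.homologyFunctor C 0) _
      (t.triangleLTGE_distinguished q W) q (q + 1) rfl
      (isZero_homology_of_isLE _ (q - 1) _ (by lia))
      (isZero_homology_of_isLE _ (q - 1) _ (by lia))
  exact ⟨(asIso ((DerivedCategory.Plus.homologyFunctor C q).map ((t.truncGEπ q).app W))).symm ≪≫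
    asIso ((DerivedCategory.Plus.homologyFunctor C q).map ((t.truncLTι (q + 1)).app Y))⟩

/-- objects of the (shifted) heart are single complexes. -/
theorem exists_iso_single (Z : DerivedCategory.Plus C) (q : ℤ) [Z.IsGE q] [Z.IsLE q] :
    ∃ (M : C), Nonempty (Z ≅ (DerivedCategory.Plus.singleFunctor C q).obj M) ∧
      Nonempty ((DerivedCategory.Plus.homologyFunctor C q).obj Z ≅ M) := by
  obtain ⟨M, ⟨e⟩⟩ := DerivedCategory.exists_iso_singleFunctor_obj_of_isGE_of_isLE
    (DerivedCategory.Plus.ι.obj Z) q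
  let e' : Z ≅ (DerivedCategory.Plus.singleFunctor C q).obj M := DerivedCategory.Plus.ι.preimageIso e
  refine ⟨M, ⟨e'⟩, ⟨(DerivedCategory.Plus.homologyFunctor C q).mapIso e' ≪≫ ?_⟩⟩
  exact (DerivedCategory.homologyFunctor C q).mapIso ((DerivedCategory.singleFunctorIsoCompQ C q).app M) ≪≫
    (DerivedCategory.homologyFunctorFactors C q).app _ ≪≫
    HomologicalComplex.singleObjHomologySelfIso (ComplexShape.up ℤ) q M

end

end Groth.Agent.Lib.Helper23SS4
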