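import Mathlib
import Groth.Prelude.Def_SpSeq
import Groth.Agent.Lib.Helper23SS1
import Groth.Agent.Lib.Helper23SS2
import Groth.Agent.Lib.Helper23SS3
import Groth.Agent.Lib.Helper23SS4

open CategoryTheory Limits Pretriangulated ComposableArrows

namespace Groth.Agent.Lib.Helper23SS5

open Groth.Agent.Lib.Helper23SS1 Groth.Agent.Lib.Helper23SS2 Groth.Agent.Lib.Helper23SS3
  Groth.Agent.Lib.Helper23SS4

universe w w' v v' u u'

variable {C' : Type u} [Category.{v} C'] [Abelian C'] [EnoughInjectives C'] [HasDerivedCategory.{w} C']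
  {C'' : Type u'} [Category.{v'} C''] [Abelian C''] [HasDerivedCategory.{w'} C'']
  (S : C' ⥤ C'') [S.Additive]

/-- The abelian spectral object attached to `Y : D⁺(C')` and the functor `S`. -/
noncomputable def specObj (Y : DerivedCategory.Plus C') : Abelian.SpectralObject C'' EInt :=
  mapHomological ((DerivedCategory.Plus.TStructure.t.spectralObject Y).mapTriangulatedFunctor (G S))
    (DerivedCategory.homologyFunctor C'' 0)

theorem specObj_H (Y : DerivedCategory.Plus C') (n : ℤ) (a b : EInt) (h : a ≤ b) :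
    ((specObj S Y).H n).obj (mk₁ (homOfLE h)) =
      (DerivedCategory.homologyFunctor C'' n).obj ((G S).obj
        ((DerivedCategory.Plus.TStructure.t.eTruncGE.obj a).obj
          ((DerivedCategory.Plus.TStructure.t.eTruncLT.obj b).obj Y))) := rfl

theorem succ_le_of_lt (n : ℤ) (i : EInt) (hi : (n : EInt) < i) : ((n + 1 : ℤ) : EInt) ≤ i := by
  induction i using WithBotTop.rec with
  | bot => exact absurd hi (not_lt_bot)
  | coe i =>
    rw [WithBotTop.coe_lt_coe] at hi
    rw [WithBotTop.coe_le_coe]; lia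
  | top => exact le_top

instance (Y : DerivedCategory.Plus C') [Y.IsGE 0] : (specObj S Y).IsFirstQuadrant where
  isZero₁ i j hij hj n := by
    rw [specObj_H]
    have h1 : IsZero ((DerivedCategory.Plus.TStructure.t.eTruncLT.obj j).obj Y) :=
      DerivedCategory.Plus.TStructure.t.isZero_eTruncLT_obj_obj Y 0 j hj
    have h2 : IsZero ((DerivedCategory.Plus.TStructure.t.eTruncGE.obj i).obj
        ((DerivedCategory.Plus.TStructure.t.eTruncLT.obj j).obj Y)) := Functor.map_isZero _ h1
    exact Functor.map_isZero _ (Functor.map_isZero _ h2)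
  isZero₂ i j hij n hi := by
    rw [specObj_H]
    have : DerivedCategory.Plus.TStructure.t.IsGE
        ((DerivedCategory.Plus.TStructure.t.eTruncGE.obj i).obj
          ((DerivedCategory.Plus.TStructure.t.eTruncLT.obj j).obj Y)) (n + 1) :=
      DerivedCategory.Plus.TStructure.t.isGE_eTruncGE_obj_obj (n + 1) i (succ_le_of_lt n i hi) _
    exact isZero_homology_G S _ (n + 1) n (by lia)

/-- `H^{q+j}(G(Z)) ≅ R^j S (H^q Z)` for `Z` in the `q`-shifted heart. -/
theorem homology_G_heart (Z : DerivedCategory.Plus C') (q : ℤ) [Z.IsGE q] [Z.IsLE q] (j : ℕ) (n : ℤ)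
    (hn : q + j = n) :
    Nonempty ((DerivedCategory.homologyFunctor C'' n).obj ((G S).obj Z) ≅
      (S.rightDerived j).obj ((DerivedCategory.Plus.homologyFunctor C' q).obj Z)) := by
  obtain ⟨M, ⟨e⟩, ⟨e'⟩⟩ := exists_iso_single Z q
  let I : InjectiveResolution M := injectiveResolution M
  obtain ⟨e₁⟩ := homology_G_single_zero S I (j : ℤ)
  obtain ⟨e₂⟩ := homology_map_cochainComplex S I j (j : ℤ) rfl
  exact ⟨(DerivedCategory.homologyFunctor C'' n).mapIso ((G S).mapIso e) ≪≫
    homologyGSingleShiftIso S M q (j : ℤ) n hn ≪≫ e₁ ≪≫ e₂ ≪≫ (S.rightDerived j).mapIso e'.symm⟩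

/-- The Grothendieck spectral sequence, in terms of `G S` and an object `Y` of `D⁺(C')`. -/
theorem exists_spectralSequence (Y : DerivedCategory.Plus C') [Y.IsGE 0] (H : ℤ → C'')
    (e : ∀ n, (DerivedCategory.homologyFunctor C'' n).obj ((G S).obj Y) ≅ H n) :
    ∃ (E : E₂CohomologicalSpectralSequence C'') (a : SpSeq.Abutment E H),
      (∀ n, a.IsFinite n) ∧ SpSeq.IsBounded E ∧
      ∀ p q : ℤ, (∀ (j : ℕ), (j : ℤ) = p → Nonempty ((E.page 2 le_rfl).X (p, q) ≅
          (S.rightDerived j).obj ((DerivedCategory.Plus.homologyFunctor C' q).obj Y))) ∧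
        (¬ (0 ≤ p ∧ 0 ≤ q) → IsZero ((E.page 2 le_rfl).X (p, q))) := by
  refine ⟨(specObj S Y).E₂SpectralSequence, abutment (specObj S Y) e,
    abutment_isFinite (specObj S Y) e, isBounded (specObj S Y), fun p q => ⟨fun j hj => ?_, fun h => ?_⟩⟩
  · let e₁ := pageTwoIso (specObj S Y) p q (p + q) rfl
    let Z := (DerivedCategory.Plus.TStructure.t.truncGE q).obj
      ((DerivedCategory.Plus.TStructure.t.truncLT (q + 1)).obj Y)
    have : Z.IsGE q := by dsimp [Z]; infer_instance
    have : Z.IsLE q := by dsimp [Z]; infer_instance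
    obtain ⟨e₂⟩ := homology_G_heart S Z q j (p + q) (by lia)
    obtain ⟨e₃⟩ := homology_truncGELT Y q
    exact ⟨e₁ ≪≫ e₂ ≪≫ (S.rightDerived j).mapIso e₃⟩
  · by_cases hp : 0 ≤ p
    · exact isZero_page_of_neg_snd (specObj S Y) 2 le_rfl (p, q) (by dsimp only; lia)
    · exact isZero_page_of_neg_fst (specObj S Y) 2 le_rfl (p, q) (by dsimp only; lia)

end Groth.Agent.Lib.Helper23SS5
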