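import Mathlib
import Groth.Agent.S11918
import Groth.Agent.Lib.Helper23LocSS
import Groth.Agent.Lib.Helper23ExtRD

/-!
# Helper21: `Rⁿ(E ⋙ G) ≅ E ⋙ RⁿG` objectwise, for `E` exact sending injectives to `G`-acyclics
-/

open CategoryTheory Limits

namespace Groth.Agent.Lib.Helper21.DerAcyc

open Groth.Agent.Lib.Helper23SS3 Groth.Agent.Lib.Helper23SS5 Groth.Agent.S12229
  Groth.Agent.Lib.Helper23Acyclic Groth.Agent.Lib.Helper23Leray Groth.Agent.Lib.Helper23Bridge

universe v v' v'' u u' u''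

variable {𝒜 : Type u} [Category.{v} 𝒜] [Abelian 𝒜] [EnoughInjectives 𝒜]
  {ℬ : Type u'} [Category.{v'} ℬ] [Abelian ℬ] [EnoughInjectives ℬ]
  {𝒟 : Type u''} [Category.{v''} 𝒟] [Abelian 𝒟]
  (E : 𝒜 ⥤ ℬ) [E.Additive] [E.PreservesHomology]
  (G : ℬ ⥤ 𝒟) [G.Additive] [PreservesFiniteLimits G]

theorem nonempty_rightDerived_comp_iso
    (hE : ∀ I : 𝒜, Injective I → ∀ q : ℕ, 0 < q → IsZero ((G.rightDerived q).obj (E.obj I)))
    (M : 𝒜) (n : ℕ) :
    Nonempty (((E ⋙ G).rightDerived n).obj M ≅ (G.rightDerived n).obj (E.obj M)) := by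
  have : HasDerivedCategory.{max u' v'} ℬ := HasDerivedCategory.standard _
  have : HasDerivedCategory.{max u v} 𝒜 := HasDerivedCategory.standard _
  have : HasDerivedCategory.{max u'' v''} 𝒟 := HasDerivedCategory.standard _
  let I : InjectiveResolution M := injectiveResolution M
  let EI : CochainComplex ℬ ℤ :=
    (E.mapHomologicalComplex (ComplexShape.up ℤ)).obj I.cochainComplex
  have hEI : EI.IsStrictlyGE 0 := by dsimp [EI]; infer_instance
  let K : CochainComplex.Plus ℬ := ⟨EI, 0, hEI⟩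
  have hK : IsIso (τ G K) := leray G K (fun m => (acyclic_iff G _).2 (hE _ (by
    show Injective (I.cochainComplex.X m); infer_instance)))
  obtain ⟨e₁⟩ := homology_G_Q G K hK (n : ℤ)
  obtain ⟨e₂⟩ := homology_map_cochainComplex (E ⋙ G) I n (n : ℤ) rfl
  -- the quasi-isomorphism `E M [0] ⟶ E I`
  let a : (CochainComplex.singleFunctor ℬ 0).obj (E.obj M) ⟶
      (E.mapHomologicalComplex (ComplexShape.up ℤ)).obj ((CochainComplex.singleFunctor 𝒜 0).obj M) :=
    (HomologicalComplex.singleMapHomologicalComplex E (ComplexShape.up ℤ) 0).inv.app M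
  haveI : IsIso a :=
    (((HomologicalComplex.singleMapHomologicalComplex E (ComplexShape.up ℤ) 0).app M).symm).isIso_hom
  haveI : QuasiIso a := quasiIso_of_isIso a
  let b : (E.mapHomologicalComplex (ComplexShape.up ℤ)).obj
      ((CochainComplex.singleFunctor 𝒜 0).obj M) ⟶ EI :=
    (E.mapHomologicalComplex (ComplexShape.up ℤ)).map I.ι'
  haveI : QuasiIso b := HomologicalComplex.quasiIso_map_of_preservesHomology I.ι' E
  let ι₀ : (CochainComplex.singleFunctor ℬ 0).obj (E.obj M) ⟶ EI := a ≫ b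
  haveI : QuasiIso ι₀ := quasiIso_comp a b
  let e₀ : (DerivedCategory.singleFunctor ℬ 0).obj (E.obj M) ≅ DerivedCategory.Q.obj EI :=
    (DerivedCategory.singleFunctorIsoCompQ ℬ 0).app (E.obj M) ≪≫ asIso (DerivedCategory.Q.map ι₀)
  let e₀' : (DerivedCategory.Plus.singleFunctor ℬ 0).obj (E.obj M) ≅ DerivedCategory.Plus.Q.obj K :=
    DerivedCategory.Plus.ι.preimageIso e₀
  let I' : InjectiveResolution (E.obj M) := injectiveResolution (E.obj M)
  obtain ⟨e₃⟩ := homology_G_single_zero G I' (n : ℤ)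
  obtain ⟨e₄⟩ := homology_map_cochainComplex G I' n (n : ℤ) rfl
  exact ⟨e₂.symm ≪≫ e₁.symm ≪≫
    (DerivedCategory.homologyFunctor 𝒟 (n : ℤ)).mapIso ((Groth.Agent.Lib.Helper23SS3.G G).mapIso e₀'.symm) ≪≫
    e₃ ≪≫ e₄⟩

end Groth.Agent.Lib.Helper21.DerAcyc
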