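import Mathlib

/-!
# Helper21: `Rⁿ(F ⋙ G) ≅ RⁿF ⋙ G` for `G` exact; right derived functors of isomorphic functors
-/

open CategoryTheory Limits

namespace Groth.Agent.Lib.Helper21.DerPost

universe v v' v'' u u' u''

variable {C : Type u} [Category.{v} C] [Abelian C]
  {D : Type u'} [Category.{v'} D] [Abelian D]
  {E : Type u''} [Category.{v''} E] [Abelian E]

section

variable {ι : Type*} (c : ComplexShape ι)

/-- homology commutes with a homology-preserving functor. -/
noncomputable def mapHCHomologyIso (G : D ⥤ E) [G.Additive] [G.PreservesHomology] (n : ι) :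
    G.mapHomologicalComplex c ⋙ HomologicalComplex.homologyFunctor E c n ≅
      HomologicalComplex.homologyFunctor D c n ⋙ G :=
  NatIso.ofComponents (fun K => (K.sc n).mapHomologyIso G)
    (fun {K L} f =>
      ShortComplex.mapHomologyIso_hom_naturality
        ((HomologicalComplex.shortComplexFunctor D c n).map f) G)

end

variable [HasInjectiveResolutions C]
  (F : C ⥤ D) [F.Additive] (G : D ⥤ E) [G.Additive] [G.PreservesHomology]

/-- the component of the comparison isomorphism, for a given resolution. -/
noncomputable def postIsoRes {Z : C} (I : InjectiveResolution Z) (n : ℕ) :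
    ((F ⋙ G).rightDerived n).obj Z ≅ G.obj ((F.rightDerived n).obj Z) :=
  I.isoRightDerivedObj (F ⋙ G) n ≪≫
    (mapHCHomologyIso (ComplexShape.up ℕ) G n).app
      ((F.mapHomologicalComplex _).obj I.cocomplex) ≪≫
    G.mapIso (I.isoRightDerivedObj F n).symm

theorem postIsoRes_naturality {X Y : C} (f : X ⟶ Y) (I : InjectiveResolution X)
    (J : InjectiveResolution Y) (n : ℕ) :
    ((F ⋙ G).rightDerived n).map f ≫ (postIsoRes F G J n).hom =
      (postIsoRes F G I n).hom ≫ G.map ((F.rightDerived n).map f) := by
  let φ : I.cocomplex ⟶ J.cocomplex := InjectiveResolution.desc f J I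
  have comm : I.ι.f 0 ≫ φ.f 0 = f ≫ J.ι.f 0 := InjectiveResolution.desc_commutes_zero f J I
  have h1 := InjectiveResolution.isoRightDerivedObj_hom_naturality f I J φ comm (F ⋙ G) n
  have h2 := InjectiveResolution.isoRightDerivedObj_inv_naturality f I J φ comm F n
  have h3 := (mapHCHomologyIso (ComplexShape.up ℕ) G n).hom.naturality
    ((F.mapHomologicalComplex _).map φ)
  dsimp only [postIsoRes, Iso.trans_hom, Functor.mapIso_hom, Iso.symm_hom, Iso.app_hom]
  rw [reassoc_of% h1]
  rw [Category.assoc, Category.assoc, ← G.map_comp, h2, G.map_comp]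
  congr 1
  rw [← Category.assoc, ← Category.assoc]
  congr 1

/-- `Rⁿ(F ⋙ G) ≅ RⁿF ⋙ G` for `G` exact. -/
noncomputable def postIso (n : ℕ) : (F ⋙ G).rightDerived n ≅ F.rightDerived n ⋙ G :=
  NatIso.ofComponents (fun Z => postIsoRes F G (injectiveResolution Z) n)
    (fun f => postIsoRes_naturality F G f _ _ n)

/-- right derived functors of isomorphic functors. -/
noncomputable def natIsoRightDerived {F F' : C ⥤ D} [F.Additive] [F'.Additive] (e : F ≅ F')
    (n : ℕ) : F.rightDerived n ≅ F'.rightDerived n where
  hom := NatTrans.rightDerived e.hom n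
  inv := NatTrans.rightDerived e.inv n
  hom_inv_id := by
    rw [← NatTrans.rightDerived_comp, e.hom_inv_id, NatTrans.rightDerived_id]
  inv_hom_id := by
    rw [← NatTrans.rightDerived_comp, e.inv_hom_id, NatTrans.rightDerived_id]

end Groth.Agent.Lib.Helper21.DerPost
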