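import Mathlib

/-!
# Helper21: the free presheaf of `R`-modules `R ⊗_ℤ A` on a presheaf of abelian groups `A`

`F R A (X) = R(X) ⊗_ℤ A(X)`; `FFunctor R ⊣ toPresheaf R`.
-/

open CategoryTheory Opposite Limits TensorProduct

universe u

namespace Groth.Agent.Lib.Helper21.FreeAb

variable {C : Type u} [SmallCategory C] (R : Cᵒᵖ ⥤ RingCat.{u})

section obj

variable (A : Cᵒᵖ ⥤ AddCommGrpCat.{u})

/-- sections of `R ⊗_ℤ A`. -/
abbrev FObj (X : Cᵒᵖ) : Type u := (R.obj X) ⊗[ℤ] (A.obj X)

/-- restriction map. -/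
noncomputable def FMap {X Y : Cᵒᵖ} (f : X ⟶ Y) : FObj R A X →+ FObj R A Y :=
  (TensorProduct.map (R.map f).hom.toAddMonoidHom.toIntLinearMap
    (A.map f).hom.toIntLinearMap).toAddMonoidHom

theorem FMap_tmul {X Y : Cᵒᵖ} (f : X ⟶ Y) (r : R.obj X) (a : A.obj X) :
    FMap R A f (r ⊗ₜ a) = (R.map f r) ⊗ₜ (A.map f a) := rfl

theorem F_hom_ext {X : Cᵒᵖ} {N : Type*} [AddCommMonoid N] (g h : FObj R A X →+ N)
    (H : ∀ r a, g (r ⊗ₜ a) = h (r ⊗ₜ a)) : g = h := by
  ext t
  induction t using TensorProduct.induction_on with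
  | zero => rw [map_zero, map_zero]
  | tmul r a => exact H r a
  | add x y hx hy => rw [map_add, map_add, hx, hy]

theorem FMap_id (X : Cᵒᵖ) : FMap R A (𝟙 X) = AddMonoidHom.id _ := by
  apply F_hom_ext
  intro r a
  rw [FMap_tmul]
  simp

theorem FMap_comp {X Y Z : Cᵒᵖ} (f : X ⟶ Y) (g : Y ⟶ Z) :
    FMap R A (f ≫ g) = (FMap R A g).comp (FMap R A f) := by
  apply F_hom_ext
  intro r a
  rw [AddMonoidHom.comp_apply, FMap_tmul, FMap_tmul, FMap_tmul]
  simp

theorem FMap_smul {X Y : Cᵒᵖ} (f : X ⟶ Y) (r : R.obj X) (m : FObj R A X) :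
    FMap R A f (r • m) = R.map f r • FMap R A f m := by
  induction m using TensorProduct.induction_on with
  | zero => rw [smul_zero, map_zero, smul_zero]
  | tmul s a =>
    rw [TensorProduct.smul_tmul', FMap_tmul, FMap_tmul, TensorProduct.smul_tmul']
    simp
  | add x y hx hy => rw [smul_add, map_add, hx, hy, map_add, smul_add]

/-- the underlying presheaf of abelian groups. -/
noncomputable def FAb : Cᵒᵖ ⥤ Ab.{u} where
  obj X := AddCommGrpCat.of (FObj R A X)
  map f := AddCommGrpCat.ofHom (FMap R A f)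
  map_id X := by rw [FMap_id]; rfl
  map_comp {X Y Z} f g := by rw [FMap_comp]; rfl

noncomputable instance FAbModule (X : Cᵒᵖ) : Module (R.obj X) ((FAb R A).obj X) :=
  inferInstanceAs (Module (R.obj X) (FObj R A X))

theorem FAb_map_smul {X Y : Cᵒᵖ} (f : X ⟶ Y) (r : R.obj X) (m : (FAb R A).obj X) :
    (FAb R A).map f (r • m) = R.map f r • (FAb R A).map f m :=
  FMap_smul R A f r m

/-- The presheaf of modules `R ⊗_ℤ A`. -/
noncomputable def F : PresheafOfModules.{u} R :=
  PresheafOfModules.ofPresheaf (FAb R A) (fun _ _ f r m => FAb_map_smul R A f r m)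

/-- pure tensors as sections of `F R A`. -/
def tm (X : Cᵒᵖ) (r : R.obj X) (a : A.obj X) : (F R A).obj X := r ⊗ₜ[ℤ] a

theorem tm_add_right (X : Cᵒᵖ) (r : R.obj X) (a b : A.obj X) :
    tm R A X r (a + b) = tm R A X r a + tm R A X r b := TensorProduct.tmul_add _ _ _

theorem tm_add_left (X : Cᵒᵖ) (r s : R.obj X) (a : A.obj X) :
    tm R A X (r + s) a = tm R A X r a + tm R A X s a := TensorProduct.add_tmul _ _ _

theorem smul_tm (X : Cᵒᵖ) (r s : R.obj X) (a : A.obj X) :
    r • tm R A X s a = tm R A X (r * s) a := (TensorProduct.smul_tmul' r s a)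

theorem F_map_tm {X Y : Cᵒᵖ} (f : X ⟶ Y) (r : R.obj X) (a : A.obj X) :
    (F R A).map f (tm R A X r a) = tm R A Y (R.map f r) (A.map f a) := rfl

theorem F_induction {X : Cᵒᵖ} {p : (F R A).obj X → Prop} (m : (F R A).obj X)
    (h0 : p 0) (ht : ∀ r a, p (tm R A X r a)) (hadd : ∀ a b, p a → p b → p (a + b)) : p m :=
  TensorProduct.induction_on (motive := p) m h0 ht hadd

theorem FHom_ext {M : PresheafOfModules.{u} R} (a b : F R A ⟶ M)
    (h : ∀ X r x, a.app X (tm R A X r x) = b.app X (tm R A X r x)) : a = b := by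
  ext X m
  induction m using F_induction with
  | h0 => rw [map_zero, map_zero]
  | ht r x => exact h X r x
  | hadd a b ha hb => rw [map_add, map_add, ha, hb]

end obj

section functor

variable {R} {A A' A'' : Cᵒᵖ ⥤ AddCommGrpCat.{u}} (α : A ⟶ A') (α' : A' ⟶ A'')

/-- `R ⊗ α` on sections. -/
noncomputable def FHomAdd (X : Cᵒᵖ) : (F R A).obj X →+ (F R A').obj X :=
  (TensorProduct.map (LinearMap.id : R.obj X →ₗ[ℤ] R.obj X)
    (α.app X).hom.toIntLinearMap).toAddMonoidHom

theorem FHomAdd_tm (X : Cᵒᵖ) (r : R.obj X) (a : A.obj X) :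
    FHomAdd α X (tm R A X r a) = tm R A' X r (α.app X a) := rfl

theorem FHomAdd_smul (X : Cᵒᵖ) (r : R.obj X) (m : (F R A).obj X) :
    FHomAdd α X (r • m) = r • FHomAdd α X m := by
  induction m using F_induction with
  | h0 => rw [smul_zero, map_zero, smul_zero]
  | ht s a => rw [smul_tm, FHomAdd_tm, FHomAdd_tm, smul_tm]
  | hadd a b ha hb => rw [smul_add, map_add, ha, hb, map_add, smul_add]

/-- `R ⊗ α`. -/
noncomputable def FHom : F R A ⟶ F R A' where
  app X := ModuleCat.ofHom
    { toFun := FHomAdd α X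
      map_add' := map_add _
      map_smul' := FHomAdd_smul α X }
  naturality {X Y} f := by
    ext m
    induction m using F_induction with
    | h0 => rw [map_zero, map_zero]
    | ht r a =>
      change FHomAdd α Y ((F R A).map f (tm R A X r a)) =
        (F R A').map f (FHomAdd α X (tm R A X r a))
      rw [F_map_tm, FHomAdd_tm, FHomAdd_tm, F_map_tm]
      congr 1
      exact (NatTrans.naturality_apply α f a)
    | hadd a b ha hb => rw [map_add, map_add, ha, hb]

theorem FHom_app_tm (X : Cᵒᵖ) (r : R.obj X) (a : A.obj X) :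
    (FHom α).app X (tm R A X r a) = tm R A' X r (α.app X a) := rfl

theorem FHom_id : FHom (𝟙 A) = 𝟙 (F R A) := by
  apply FHom_ext
  intro X r x
  rw [FHom_app_tm]
  rfl

theorem FHom_comp : FHom (R := R) (α ≫ α') = FHom α ≫ FHom α' := by
  apply FHom_ext
  intro X r x
  rw [FHom_app_tm]
  change _ = (FHom α').app X ((FHom α).app X (tm R A X r x))
  rw [FHom_app_tm, FHom_app_tm]
  rfl

end functor

/-- `A ↦ R ⊗_ℤ A`. -/
noncomputable def FFunctor : (Cᵒᵖ ⥤ AddCommGrpCat.{u}) ⥤ PresheafOfModules.{u} R where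
  obj A := F R A
  map α := FHom α
  map_id _ := FHom_id
  map_comp α α' := FHom_comp α α'

section adjunction

variable {R} (A : Cᵒᵖ ⥤ AddCommGrpCat.{u}) (M : PresheafOfModules.{u} R)

/-- from `R ⊗ A ⟶ M` to `A ⟶ M`. -/
noncomputable def adjTo (β : F R A ⟶ M) : A ⟶ M.presheaf where
  app X := AddCommGrpCat.ofHom
    { toFun := fun a => β.app X (tm R A X 1 a)
      map_zero' := by
        have : tm R A X 1 (0 : A.obj X) = 0 := TensorProduct.tmul_zero _ _
        rw [this, map_zero]
      map_add' := fun a b => by rw [tm_add_right, map_add] }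
  naturality {X Y} f := by
    ext a
    change β.app Y (tm R A Y 1 (A.map f a)) = M.map f (β.app X (tm R A X 1 a))
    rw [← PresheafOfModules.naturality_apply, F_map_tm, map_one]

theorem adjTo_app_apply (β : F R A ⟶ M) (X : Cᵒᵖ) (a : A.obj X) :
    (adjTo A M β).app X a = β.app X (tm R A X 1 a) := rfl

/-- the bilinear map `(r, a) ↦ r • γ a`. -/
noncomputable def bil (γ : A ⟶ M.presheaf) (X : Cᵒᵖ) : R.obj X →+ A.obj X →+ M.obj X :=
  AddMonoidHom.mk' (fun r => AddMonoidHom.mk' (fun a => r • (γ.app X a : M.obj X))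
    (fun a b => by rw [map_add]; exact smul_add r _ _))
    (fun r s => by
      ext a
      exact add_smul r s _)

/-- from `A ⟶ M` to `R ⊗ A ⟶ M`, on sections. -/
noncomputable def adjFromAdd (γ : A ⟶ M.presheaf) (X : Cᵒᵖ) : (F R A).obj X →+ M.obj X :=
  TensorProduct.liftAddHom (bil A M γ X) (fun n r a => by
    change (n • r) • (γ.app X a : M.obj X) = r • (γ.app X (n • a) : M.obj X)
    rw [map_zsmul, smul_assoc, smul_comm])

theorem adjFromAdd_tm (γ : A ⟶ M.presheaf) (X : Cᵒᵖ) (r : R.obj X) (a : A.obj X) :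
    adjFromAdd A M γ X (tm R A X r a) = r • (γ.app X a : M.obj X) := rfl

theorem adjFromAdd_smul (γ : A ⟶ M.presheaf) (X : Cᵒᵖ) (r : R.obj X) (m : (F R A).obj X) :
    adjFromAdd A M γ X (r • m) = r • adjFromAdd A M γ X m := by
  induction m using F_induction with
  | h0 => rw [smul_zero, map_zero, smul_zero]
  | ht s a =>
    rw [smul_tm, adjFromAdd_tm, adjFromAdd_tm]
    exact mul_smul r s _
  | hadd a b ha hb => rw [smul_add, map_add, ha, hb, map_add, smul_add]

/-- from `A ⟶ M` to `R ⊗ A ⟶ M`. -/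
noncomputable def adjFrom (γ : A ⟶ M.presheaf) : F R A ⟶ M where
  app X := ModuleCat.ofHom
    { toFun := adjFromAdd A M γ X
      map_add' := map_add _
      map_smul' := adjFromAdd_smul A M γ X }
  naturality {X Y} f := by
    ext m
    induction m using F_induction with
    | h0 => rw [map_zero, map_zero]
    | ht r a =>
      change adjFromAdd A M γ Y ((F R A).map f (tm R A X r a)) =
        M.map f (adjFromAdd A M γ X (tm R A X r a))
      rw [F_map_tm, adjFromAdd_tm, adjFromAdd_tm]
      have h : (γ.app Y (A.map f a) : M.obj Y) = M.map f (γ.app X a : M.obj X) :=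
        NatTrans.naturality_apply γ f a
      exact (congrArg (fun z : M.obj Y => R.map f r • z) h).trans (M.map_smul f r _).symm
    | hadd a b ha hb => rw [map_add, map_add, ha, hb]

theorem adjFrom_app_tm (γ : A ⟶ M.presheaf) (X : Cᵒᵖ) (r : R.obj X) (a : A.obj X) :
    (adjFrom A M γ).app X (tm R A X r a) = r • (γ.app X a : M.obj X) := rfl

/-- The hom-set bijection of the adjunction `R ⊗_ℤ - ⊣ forget`. -/
noncomputable def adjEquiv : (F R A ⟶ M) ≃ (A ⟶ M.presheaf) where
  toFun := adjTo A M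
  invFun := adjFrom A M
  left_inv β := by
    apply FHom_ext
    intro X r a
    rw [adjFrom_app_tm, adjTo_app_apply]
    refine ((β.app X).hom.map_smul r _).symm.trans ?_
    rw [smul_tm, mul_one]
  right_inv γ := by
    ext X a
    rw [adjTo_app_apply, adjFrom_app_tm, one_smul]

end adjunction

/-- `R ⊗_ℤ - ⊣ forget`. -/
noncomputable def FAdj : FFunctor R ⊣ PresheafOfModules.toPresheaf R :=
  Adjunction.mkOfHomEquiv
    { homEquiv := fun A M => adjEquiv A M
      homEquiv_naturality_left_symm := fun {A' A M} f g => by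
        apply FHom_ext
        intro X r a
        change (adjFrom A' M (f ≫ g)).app X (tm R A' X r a) =
          (adjFrom A M g).app X ((FHom f).app X (tm R A' X r a))
        rw [adjFrom_app_tm, FHom_app_tm, adjFrom_app_tm]
        rfl
      homEquiv_naturality_right := fun {A M M'} f g => by
        ext X a
        rfl }

theorem FAdj_homEquiv_apply (A : Cᵒᵖ ⥤ AddCommGrpCat.{u}) (M : PresheafOfModules.{u} R)
    (β : F R A ⟶ M) : (FAdj R).homEquiv A M β = adjTo A M β := rfl

end Groth.Agent.Lib.Helper21.FreeAb
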