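import Mathlib

/-!
# Helper21: torsion-free abelian sheaves on a site
-/

universe u
open CategoryTheory Limits Opposite

namespace Groth.Agent.Lib.Helper21.TorsFree

variable {C : Type u} [SmallCategory C] {J : GrothendieckTopology C}

/-- sectionwise torsion-free abelian sheaves. -/
def TF (A : Sheaf J AddCommGrpCat.{u}) : Prop :=
  ∀ (X : Cᵒᵖ) (n : ℕ) (x : A.obj.obj X), n ≠ 0 → n • x = 0 → x = 0

theorem injective_app_of_mono {A B : Sheaf J AddCommGrpCat.{u}} (f : A ⟶ B) [Mono f] (X : Cᵒᵖ) :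
    Function.Injective (f.hom.app X) := by
  haveI : Mono f.hom := (Sheaf.Hom.mono_iff_presheaf_mono J AddCommGrpCat.{u} f).1 inferInstance
  haveI : Mono (f.hom.app X) := inferInstance
  exact (AddCommGrpCat.mono_iff_injective _).1 inferInstance

theorem TF_of_mono {A B : Sheaf J AddCommGrpCat.{u}} (f : A ⟶ B) [Mono f] (hB : TF B) : TF A := by
  intro X n x hn hx
  apply injective_app_of_mono f X
  rw [map_zero]
  apply hB X n _ hn
  rw [← map_nsmul, hx, map_zero]

theorem TF_kernel {P A : Sheaf J AddCommGrpCat.{u}} (π : P ⟶ A) (hP : TF P) : TF (kernel π) :=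
  TF_of_mono (kernel.ι π) hP

theorem ab_nsmul_apply {M N : AddCommGrpCat.{u}} (n : ℕ) (f : M ⟶ N) (x : M) :
    (n • f) x = n • f x := by
  change (n • f).hom x = n • f.hom x
  rw [AddCommGrpCat.hom_nsmul]
  rfl

theorem sheaf_nsmul_hom {A B : Sheaf J AddCommGrpCat.{u}} (n : ℕ) (f : A ⟶ B) :
    (n • f).hom = n • f.hom := by
  induction n with
  | zero => simp
  | succ n ih => rw [succ_nsmul, succ_nsmul, ← ih]; rfl

theorem nsmul_hom_app {A B : Sheaf J AddCommGrpCat.{u}} (n : ℕ) (f : A ⟶ B) (X : Cᵒᵖ)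
    (x : A.obj.obj X) : (n • f).hom.app X x = n • f.hom.app X x := by
  rw [sheaf_nsmul_hom, NatTrans.app_nsmul, ab_nsmul_apply]

/-- `TF` in terms of multiplication by `n` being a monomorphism. -/
theorem TF_of_mono_nsmul (A : Sheaf J AddCommGrpCat.{u})
    (h : ∀ n : ℕ, n ≠ 0 → Mono (n • 𝟙 A)) : TF A := by
  intro X n x hn hx
  haveI := h n hn
  apply injective_app_of_mono (n • 𝟙 A) X
  rw [map_zero, nsmul_hom_app]
  exact hx

theorem free_torsionFree (α : Type u) (n : ℕ) (hn : n ≠ 0) (x : FreeAbelianGroup α)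
    (hx : n • x = 0) : x = 0 := by
  have h1 : FreeAbelianGroup.equivFinsupp α (n • x) = 0 := by rw [hx, map_zero]
  rw [map_nsmul] at h1
  apply (FreeAbelianGroup.equivFinsupp α).injective
  rw [map_zero]
  ext a
  have h2 := DFunLike.congr_fun h1 a
  simp only [Finsupp.coe_smul, Pi.smul_apply, Finsupp.coe_zero, Pi.zero_apply, smul_eq_mul,
    nsmul_eq_mul] at h2
  rcases mul_eq_zero.1 h2 with h3 | h3
  · exact absurd (by exact_mod_cast h3) hn
  · exact h3

/-- the free abelian sheaf on a sheaf of sets. -/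
noncomputable abbrev freeAb (K : Sheaf J (Type u)) : Sheaf J AddCommGrpCat.{u} :=
  (presheafToSheaf J AddCommGrpCat.{u}).obj (K.obj ⋙ AddCommGrpCat.free.{u})

theorem mono_nsmul_pre (P : Cᵒᵖ ⥤ Type u) (n : ℕ) (hn : n ≠ 0) :
    Mono (n • 𝟙 (P ⋙ AddCommGrpCat.free.{u})) := by
  haveI : ∀ X, Mono ((n • 𝟙 (P ⋙ AddCommGrpCat.free.{u})).app X) := by
    intro X
    rw [AddCommGrpCat.mono_iff_injective]
    rw [injective_iff_map_eq_zero]
    intro x hx
    rw [NatTrans.app_nsmul, ab_nsmul_apply] at hx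
    exact free_torsionFree _ n hn x hx
  exact NatTrans.mono_of_mono_app _

theorem TF_freeAb (K : Sheaf J (Type u)) : TF (freeAb K) := by
  apply TF_of_mono_nsmul
  intro n hn
  haveI := mono_nsmul_pre K.obj n hn
  have h : (presheafToSheaf J AddCommGrpCat.{u}).map (n • 𝟙 (K.obj ⋙ AddCommGrpCat.free.{u})) =
      n • 𝟙 (freeAb K) := by
    rw [Functor.map_nsmul]
    congr 1
    exact (presheafToSheaf J AddCommGrpCat.{u}).map_id _
  rw [← h]
  infer_instance

/-- every abelian sheaf is a quotient of a free abelian sheaf on a sheaf of sets. -/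
theorem exists_epi_freeAb (A : Sheaf J AddCommGrpCat.{u}) :
    ∃ (K : Sheaf J (Type u)) (π : freeAb K ⟶ A), Epi π := by
  let adj := Sheaf.adjunction J AddCommGrpCat.adj.{u}
  refine ⟨(sheafCompose J (forget AddCommGrpCat.{u})).obj A, adj.counit.app A, ?_⟩
  infer_instance

end Groth.Agent.Lib.Helper21.TorsFree
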