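import Mathlib
import Groth.Prelude.Def_ModSite
import Groth.Agent.Lib.Helper21FreeAb1
import Groth.Agent.Lib.Helper21TorsFree
import Groth.Agent.Lib.Helper21ModTensor5

/-!
# Helper21: the free `O`-module `O ⊗_ℤ A` on an abelian sheaf `A`
-/

open CategoryTheory Opposite Limits TensorProduct

universe u

namespace Groth.Agent.Lib.Helper21.FreeAb

open Groth.Agent.Lib.Helper21.ModTensor2 Groth.Agent.Lib.Helper21.ModTensor3
  Groth.Agent.Lib.Helper21.ModTensor5 Groth.Agent.Lib.Helper21.TorsFree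

section algebra

theorem zsmul_eq_zero_of_tf {A : Type*} [AddCommGroup A]
    (hA : ∀ (n : ℕ) (x : A), n ≠ 0 → n • x = 0 → x = 0) (a : ℤ) (ha : a ≠ 0) (x : A)
    (hx : a • x = 0) : x = 0 :=
  hA a.natAbs x (Int.natAbs_ne_zero.2 ha) (natAbs_nsmul_eq_zero.2 hx)

theorem flat_int_of_tf {A : Type*} [AddCommGroup A]
    (hA : ∀ (n : ℕ) (x : A), n ≠ 0 → n • x = 0 → x = 0) : Module.Flat ℤ A := by
  rw [Module.Flat.flat_iff_torsion_eq_bot_of_isBezout, Submodule.eq_bot_iff]
  rintro x ⟨a, ha⟩
  exact zsmul_eq_zero_of_tf hA (a : ℤ) (nonZeroDivisors.coe_ne_zero a) x ha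

/-- tensoring a left exact sequence `0 → B → E → A` of abelian groups with `A` torsion-free stays
injective. -/
theorem lTensor_injective_of_tf {B E A N : Type*} [AddCommGroup B] [AddCommGroup E]
    [AddCommGroup A] [AddCommGroup N] (f : B →+ E) (g : E →+ A) (hf : Function.Injective f)
    (hfg : ∀ b, g (f b) = 0) (hex : ∀ e, g e = 0 → ∃ b, f b = e)
    (hA : ∀ (n : ℕ) (x : A), n ≠ 0 → n • x = 0 → x = 0) :
    Function.Injective (TensorProduct.map (LinearMap.id : N →ₗ[ℤ] N) f.toIntLinearMap) := by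
  let fl : B →ₗ[ℤ] E := f.toIntLinearMap
  let Q := E ⧸ LinearMap.range fl
  have hQ : ∀ (n : ℕ) (x : Q), n ≠ 0 → n • x = 0 → x = 0 := by
    intro n x hn hx
    obtain ⟨e, rfl⟩ := Submodule.mkQ_surjective _ x
    have h1 : (LinearMap.range fl).mkQ (n • e) = 0 := by rw [map_nsmul]; exact hx
    rw [Submodule.mkQ_apply, Submodule.Quotient.mk_eq_zero] at h1
    obtain ⟨b, hb⟩ := h1
    have h2 : n • g e = 0 := by
      rw [← map_nsmul, ← hb]
      exact hfg b
    obtain ⟨b', hb'⟩ := hex e (hA n _ hn h2)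
    rw [Submodule.mkQ_apply, Submodule.Quotient.mk_eq_zero]
    exact ⟨b', hb'⟩
  haveI : Module.Flat ℤ Q := flat_int_of_tf hQ
  exact LinearMap.lTensor_injective_of_exact_of_flat (LinearMap.range fl).mkQ
    (Submodule.mkQ_surjective _) fl hf (LinearMap.exact_map_mkQ_range fl) N

end algebra

variable {C : Type u} [SmallCategory C] {J : GrothendieckTopology C} (O : Sheaf J CommRingCat.{u})

/-- the free `O`-module on an abelian sheaf. -/
noncomputable def freeSh : Sheaf J AddCommGrpCat.{u} ⥤ ModSite.Mod O :=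
  sheafToPresheaf J AddCommGrpCat.{u} ⋙ FFunctor (ModSite.ringSh O).obj ⋙ shf O

/-- `O ⊗_ℤ - ⊣ forget`. -/
noncomputable def freeShAdj : freeSh O ⊣ SheafOfModules.toSheaf (ModSite.ringSh O) :=
  Adjunction.restrictFullyFaithful ((FAdj (ModSite.ringSh O).obj).comp (adj O))
    (fullyFaithfulSheafToPresheaf J AddCommGrpCat.{u}) (Functor.FullyFaithful.id _)
    (Iso.refl _) (Iso.refl _)

instance freeSh_isLeftAdjoint : (freeSh O).IsLeftAdjoint := (freeShAdj O).isLeftAdjoint

instance freeSh_additive : (freeSh O).Additive := (freeShAdj O).left_adjoint_additive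

instance freeSh_preservesFiniteColimits : PreservesFiniteColimits (freeSh O) :=
  haveI : PreservesColimitsOfSize.{0, 0} (freeSh O) := (freeShAdj O).leftAdjoint_preservesColimits
  PreservesColimitsOfSize.preservesFiniteColimits.{0, 0} _

theorem exact_sections {S : ShortComplex (Sheaf J AddCommGrpCat.{u})} (hS : S.ShortExact)
    (X : Cᵒᵖ) (e : S.X₂.obj.obj X) (he : S.g.hom.app X e = 0) :
    ∃ b : S.X₁.obj.obj X, S.f.hom.app X b = e := by
  let F : Sheaf J AddCommGrpCat.{u} ⥤ AddCommGrpCat.{u} :=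
    sheafToPresheaf J _ ⋙ (evaluation _ _).obj X
  haveI := hS.mono_f
  haveI : F.PreservesZeroMorphisms := ⟨fun _ _ => rfl⟩
  have h : (S.map F).Exact := hS.exact.map_of_mono_of_preservesKernel F inferInstance inferInstance
  rw [ShortComplex.ab_exact_iff] at h
  exact h e he

theorem zero_sections {S : ShortComplex (Sheaf J AddCommGrpCat.{u})}
    (X : Cᵒᵖ) (b : S.X₁.obj.obj X) : S.g.hom.app X (S.f.hom.app X b) = 0 := by
  have h : (S.f ≫ S.g).hom.app X b = 0 := by rw [S.zero]; rfl
  exact h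

theorem mono_FFunctor_map {S : ShortComplex (Sheaf J AddCommGrpCat.{u})} (hS : S.ShortExact)
    (hA : TF S.X₃) : Mono ((FFunctor (ModSite.ringSh O).obj).map S.f.hom) := by
  haveI := hS.mono_f
  apply (PresheafOfModules.toPresheaf (ModSite.ringSh O).obj).mono_of_mono_map
  haveI : ∀ X, Mono (((PresheafOfModules.toPresheaf (ModSite.ringSh O).obj).map
      ((FFunctor (ModSite.ringSh O).obj).map S.f.hom)).app X) := by
    intro X
    rw [AddCommGrpCat.mono_iff_injective]
    exact lTensor_injective_of_tf (N := (ModSite.ringSh O).obj.obj X)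
      (S.f.hom.app X).hom (S.g.hom.app X).hom
      (injective_app_of_mono S.f X) (zero_sections X) (exact_sections hS X) (hA X)
  exact NatTrans.mono_of_mono_app _

theorem mono_freeSh_map {S : ShortComplex (Sheaf J AddCommGrpCat.{u})} (hS : S.ShortExact)
    (hA : TF S.X₃) : Mono ((freeSh O).map S.f) := by
  have h := mono_FFunctor_map O hS hA
  haveI : (shf O).PreservesMonomorphisms := preservesMonomorphisms_of_preservesLimitsOfShape _
  exact @Functor.map_mono _ _ _ _ (shf O) _ _ _ ((FFunctor (ModSite.ringSh O).obj).map S.f.hom) h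

theorem shortExact_map_freeSh {S : ShortComplex (Sheaf J AddCommGrpCat.{u})} (hS : S.ShortExact)
    (hA : TF S.X₃) : (S.map (freeSh O)).ShortExact := by
  obtain ⟨h1, h2⟩ := FlatCalc.exact_and_epi_of_rightExact (freeSh O) S hS
  exact { exact := h1, mono_f := mono_freeSh_map O hS hA, epi_g := h2 }

theorem isFlat_freeSh (A : Sheaf J AddCommGrpCat.{u}) (hA : TF A) :
    ModSite.IsFlat ((freeSh O).obj A) := by
  apply isFlat_shf_of_flat
  intro X
  haveI : Module.Flat ℤ (A.obj.obj X) := flat_int_of_tf (hA X)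
  exact Module.Flat.baseChange ℤ (O.obj.obj X) (A.obj.obj X)

/-- tensoring `O ⊗_ℤ S` with any module keeps it short exact when the cokernel is torsion-free. -/
theorem shortExact_map_freeSh_tensor {S : ShortComplex (Sheaf J AddCommGrpCat.{u})}
    (hS : S.ShortExact) (hA : TF S.X₃) (F : ModSite.Mod O) :
    (S.map (freeSh O ⋙ tR O F)).ShortExact :=
  shortExact_tensor O (S.map (freeSh O)) (shortExact_map_freeSh O hS hA)
    (isFlat_freeSh O S.X₃ hA) F

end Groth.Agent.Lib.Helper21.FreeAb
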