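import Mathlib
import Groth.Agent.Lib.Helper21FreeAb2

/-!
# Helper21: the free `R`-module on an abelian sheaf, for a sheaf of (noncommutative) rings `R`
-/

open CategoryTheory Opposite Limits TensorProduct

universe u

namespace Groth.Agent.Lib.Helper21.FreeAb

open Groth.Agent.Lib.Helper21.TorsFree

variable {C : Type u} [SmallCategory C] {J : GrothendieckTopology C} (R : Sheaf J RingCat.{u})

/-- sheafification of presheaves of `R`-modules. -/
noncomputable abbrev shfR : PresheafOfModules.{u} R.obj ⥤ SheafOfModules.{u} R :=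
  PresheafOfModules.sheafification.{u} (𝟙 R.obj)

/-- the free `R`-module on an abelian sheaf. -/
noncomputable def freeShR : Sheaf J AddCommGrpCat.{u} ⥤ SheafOfModules.{u} R :=
  sheafToPresheaf J AddCommGrpCat.{u} ⋙ FFunctor R.obj ⋙ shfR R

/-- `R ⊗_ℤ - ⊣ forget`. -/
noncomputable def freeShRAdj : freeShR R ⊣ SheafOfModules.toSheaf R :=
  Adjunction.restrictFullyFaithful
    ((FAdj R.obj).comp (PresheafOfModules.sheafificationAdjunction (𝟙 R.obj)))
    (fullyFaithfulSheafToPresheaf J AddCommGrpCat.{u}) (Functor.FullyFaithful.id _)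
    (Iso.refl _) (Iso.refl _)

theorem mono_FFunctor_mapR {S : ShortComplex (Sheaf J AddCommGrpCat.{u})} (hS : S.ShortExact)
    (hA : TF S.X₃) : Mono ((FFunctor R.obj).map S.f.hom) := by
  haveI := hS.mono_f
  apply (PresheafOfModules.toPresheaf R.obj).mono_of_mono_map
  haveI : ∀ X, Mono (((PresheafOfModules.toPresheaf R.obj).map
      ((FFunctor R.obj).map S.f.hom)).app X) := by
    intro X
    rw [AddCommGrpCat.mono_iff_injective]
    exact lTensor_injective_of_tf (N := R.obj.obj X)
      (S.f.hom.app X).hom (S.g.hom.app X).hom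
      (injective_app_of_mono S.f X) (zero_sections X) (exact_sections hS X) (hA X)
  exact NatTrans.mono_of_mono_app _

theorem mono_freeShR_map {S : ShortComplex (Sheaf J AddCommGrpCat.{u})} (hS : S.ShortExact)
    (hA : TF S.X₃) : Mono ((freeShR R).map S.f) := by
  have h := mono_FFunctor_mapR R hS hA
  haveI : PreservesFiniteLimits (shfR R) :=
    inferInstanceAs (PreservesFiniteLimits (PresheafOfModules.sheafification.{u} (𝟙 R.obj)))
  haveI : (shfR R).PreservesMonomorphisms := preservesMonomorphisms_of_preservesLimitsOfShape _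
  exact @Functor.map_mono _ _ _ _ (shfR R) _ _ _ ((FFunctor R.obj).map S.f.hom) h

/-- `TF` implies multiplication by `n ≠ 0` is a monomorphism. -/
theorem mono_nsmul_of_TF (A : Sheaf J AddCommGrpCat.{u}) (hA : TF A) (n : ℕ) (hn : n ≠ 0) :
    Mono (n • 𝟙 A) := by
  rw [Sheaf.Hom.mono_iff_presheaf_mono]
  haveI : ∀ X, Mono ((n • 𝟙 A : A ⟶ A).hom.app X) := by
    intro X
    rw [AddCommGrpCat.mono_iff_injective, injective_iff_map_eq_zero]
    intro x hx
    rw [nsmul_hom_app] at hx
    exact hA X n x hn hx
  exact NatTrans.mono_of_mono_app _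

/-- an additive functor between categories of abelian sheaves preserving monos preserves `TF`. -/
theorem TF_map {D : Type u} [SmallCategory D] {K : GrothendieckTopology D}
    (G : Sheaf J AddCommGrpCat.{u} ⥤ Sheaf K AddCommGrpCat.{u}) [G.Additive]
    [G.PreservesMonomorphisms] (A : Sheaf J AddCommGrpCat.{u}) (hA : TF A) : TF (G.obj A) := by
  apply TF_of_mono_nsmul
  intro n hn
  haveI := mono_nsmul_of_TF A hA n hn
  have h : G.map (n • 𝟙 A) = n • 𝟙 (G.obj A) := by
    rw [Functor.map_nsmul]
    congr 1
    exact G.map_id _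
  rw [← h]
  infer_instance

end Groth.Agent.Lib.Helper21.FreeAb
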