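import Mathlib

/-!
# Effaceability of `Ext^n`, `n ≥ 1`, by epimorphisms (helper21)

`exists_epi_comp_eq_zero`: for `y : Ext L M n` with `1 ≤ n` in any abelian category (with `HasExt`),
there is an epimorphism `p : L' ⟶ L` with `(Ext.mk₀ p).comp y = 0`.
-/

universe w w' v u
open CategoryTheory Limits DerivedCategory Abelian

namespace Groth.Agent.Lib.Helper21.Efface

variable {C : Type u} [Category.{v} C] [Abelian C]

section
variable [HasExt.{w} C]

theorem exists_epi_comp_eq_zero_aux [HasDerivedCategory.{w'} C] {L M : C} {n : ℕ} (hn : 1 ≤ n)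
    (y : Ext.{w} L M n) :
    ∃ (L' : C) (p : L' ⟶ L), Epi p ∧ (Ext.mk₀ p).comp y (zero_add n) = 0 := by
  let sL : CochainComplex C ℤ := (CochainComplex.singleFunctor C 0).obj L
  let sM : CochainComplex C ℤ := (CochainComplex.singleFunctor C 0).obj M
  let τ : ((singleFunctor C 0).obj M)⟦(n : ℤ)⟧ ≅ Q.obj (sM⟦(n : ℤ)⟧) :=
    ((Q.commShiftIso (n : ℤ)).app sM).symm
  let f' : Q.obj sL ⟶ Q.obj (sM⟦(n : ℤ)⟧) := y.hom ≫ τ.hom
  have : sL.IsStrictlyLE 0 := inferInstanceAs (((CochainComplex.singleFunctor C 0).obj L).IsStrictlyLE 0)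
  obtain ⟨X', hX', s, hs, g, hfac⟩ := right_fac_of_isStrictlyLE f' 0
  -- the inclusion of the degree `0` term
  let ι : (CochainComplex.singleFunctor C 0).obj (X'.X 0) ⟶ X' :=
    HomologicalComplex.mkHomFromSingle (𝟙 (X'.X 0)) (fun k hk =>
      (X'.isZero_of_isStrictlyLE 0 k (by
        have : (0 : ℤ) + 1 = k := hk
        omega)).eq_of_tgt _ _)
  have hι : IsIso (ι.f 0) := by
    have : ι.f 0 = (HomologicalComplex.singleObjXSelf (ComplexShape.up ℤ) 0 (X'.X 0)).hom ≫ 𝟙 _ :=
      HomologicalComplex.mkHomFromSingle_f _ _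
    rw [this, Category.comp_id]
    infer_instance
  obtain ⟨p, hp⟩ : ∃ p : X'.X 0 ⟶ L, (CochainComplex.singleFunctor C 0).map p = ι ≫ s :=
    (HomologicalComplex.single C (ComplexShape.up ℤ) 0).map_surjective (ι ≫ s)
  refine ⟨X'.X 0, p, ?_, ?_⟩
  · -- `p` is an epimorphism
    apply Preadditive.epi_of_cancel_zero
    intro T t ht
    have h1 : (ι ≫ s) ≫ (CochainComplex.singleFunctor C 0).map t = 0 := by
      rw [← hp, ← Functor.map_comp, ht, Functor.map_zero]
    have h2 : s ≫ (CochainComplex.singleFunctor C 0).map t = 0 := by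
      apply HomologicalComplex.to_single_hom_ext
      have h1' := congrArg (fun φ => HomologicalComplex.Hom.f φ 0) h1
      simp only [HomologicalComplex.comp_f, HomologicalComplex.zero_f, Category.assoc] at h1'
      rw [← cancel_epi (ι.f 0), HomologicalComplex.comp_f, HomologicalComplex.zero_f]
      exact h1'.trans comp_zero.symm
    have h3 : Q.map ((CochainComplex.singleFunctor C 0).map t) = 0 := by
      rw [← cancel_epi (Q.map s), ← Functor.map_comp, h2, Functor.map_zero, comp_zero]
    have h4 : (singleFunctor C 0).map t = 0 := h3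
    apply (singleFunctor C 0).map_injective
    rw [h4, Functor.map_zero]
  · ext
    rw [Ext.comp_hom, Ext.mk₀_hom, ShiftedHom.mk₀_comp, Ext.zero_hom]
    rw [← cancel_mono τ.hom, zero_comp, Category.assoc]
    show Q.map ((CochainComplex.singleFunctor C 0).map p) ≫ f' = 0
    rw [hp, hfac, Functor.map_comp, Category.assoc, IsIso.hom_inv_id_assoc, ← Functor.map_comp]
    have h0 : ι ≫ g = 0 := by
      apply HomologicalComplex.from_single_hom_ext
      apply IsZero.eq_of_tgt
      show IsZero (sM.X (0 + (n : ℤ)))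
      exact HomologicalComplex.isZero_single_obj_X _ _ _ _ (by omega)
    rw [h0, Functor.map_zero]

/-- Every class in `Ext^n`, `n ≥ 1`, is effaced by an epimorphism. -/
theorem exists_epi_comp_eq_zero {L M : C} {n : ℕ} (hn : 1 ≤ n) (y : Ext.{w} L M n) :
    ∃ (L' : C) (p : L' ⟶ L), Epi p ∧ (Ext.mk₀ p).comp y (zero_add n) = 0 := by
  letI := HasDerivedCategory.standard C
  exact exists_epi_comp_eq_zero_aux hn y

end

end Groth.Agent.Lib.Helper21.Efface
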