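import Mathlib

/-!
# Yoneda description of `Ext¹` for the derived-category `Abelian.Ext` (helper21)

* `shortExact_of_distTriang`: `Q --f--> B --g--> P` in an abelian category is short exact as soon
  as `single f, single g, α` is a distinguished triangle of the derived category.
* `exists_extClass`: every class in `Ext P Q 1` is `hS.extClass` of a short exact sequence.
* `exists_hom_of_extClass_comp_eq`: TR3-lifting for short exact sequences with matching classes.
-/

universe w w' v u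
open CategoryTheory Limits Pretriangulated DerivedCategory Abelian

namespace Groth.Agent.Lib.Helper21.Ext1

variable {C : Type u} [Category.{v} C] [Abelian C]

section
variable [HasDerivedCategory.{w} C]

theorem hom_single_shift_neg_eq_zero {W P : C}
    (v : (singleFunctor C 0).obj W ⟶ ((singleFunctor C 0).obj P)⟦(-1 : ℤ)⟧) : v = 0 := by
  have i1 : (((singleFunctor C 0).obj P)⟦(-1 : ℤ)⟧).IsGE 1 :=
    DerivedCategory.TStructure.t.isGE_shift _ 0 (-1) 1 (by omega)
  exact DerivedCategory.TStructure.t.zero_of_isLE_of_isGE v 0 1 (by omega) inferInstance i1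

theorem hom_shift_one_single_eq_zero {W Q : C}
    (v : ((singleFunctor C 0).obj Q)⟦(1 : ℤ)⟧ ⟶ (singleFunctor C 0).obj W) : v = 0 := by
  have i1 : (((singleFunctor C 0).obj Q)⟦(1 : ℤ)⟧).IsLE (-1) :=
    DerivedCategory.TStructure.t.isLE_shift _ 0 1 (-1) (by omega)
  exact DerivedCategory.TStructure.t.zero_of_isLE_of_isGE v (-1) 0 (by omega) i1 inferInstance

theorem shortExact_of_distTriang {Q B P : C} (f₀ : Q ⟶ B) (g₀ : B ⟶ P)
    (α : (singleFunctor C 0).obj P ⟶ ((singleFunctor C 0).obj Q)⟦(1 : ℤ)⟧)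
    (hT : Triangle.mk ((singleFunctor C 0).map f₀) ((singleFunctor C 0).map g₀) α ∈
      distTriang (DerivedCategory C)) :
    ∃ w : f₀ ≫ g₀ = 0, (ShortComplex.mk f₀ g₀ w).ShortExact := by
  have w : f₀ ≫ g₀ = 0 := by
    apply (singleFunctor C 0).map_injective
    rw [Functor.map_comp, Functor.map_zero]
    exact comp_distTriang_mor_zero₁₂ _ hT
  refine ⟨w, ?_⟩
  -- mono
  have hmono : Mono f₀ := by
    constructor
    intro W u₁ u₂ h
    rw [← sub_eq_zero]
    have h0 : (u₁ - u₂) ≫ f₀ = 0 := by rw [Preadditive.sub_comp, h, sub_self]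
    set u := u₁ - u₂
    have h1 : (singleFunctor C 0).map u ≫ (singleFunctor C 0).map f₀ = 0 := by
      rw [← Functor.map_comp, h0, Functor.map_zero]
    obtain ⟨v, hv⟩ := Triangle.coyoneda_exact₂ _ (inv_rot_of_distTriang _ hT)
      ((singleFunctor C 0).map u) h1
    have hv0 : v = 0 := hom_single_shift_neg_eq_zero v
    rw [hv0, zero_comp] at hv
    apply (singleFunctor C 0).map_injective
    rw [Functor.map_zero]
    exact hv
  -- epi
  have hepi : Epi g₀ := by
    constructor
    intro W u₁ u₂ h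
    rw [← sub_eq_zero]
    have h0 : g₀ ≫ (u₁ - u₂) = 0 := by rw [Preadditive.comp_sub, h, sub_self]
    set u := u₁ - u₂
    have h1 : (singleFunctor C 0).map g₀ ≫ (singleFunctor C 0).map u = 0 := by
      rw [← Functor.map_comp, h0, Functor.map_zero]
    obtain ⟨v, hv⟩ := Triangle.yoneda_exact₃ _ hT ((singleFunctor C 0).map u) h1
    have hv0 : v = 0 := hom_shift_one_single_eq_zero v
    rw [hv0, comp_zero] at hv
    apply (singleFunctor C 0).map_injective
    rw [Functor.map_zero]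
    exact hv
  -- exactness
  have hlift : ∀ {W : C} (u : W ⟶ B), u ≫ g₀ = 0 → ∃ v : W ⟶ Q, v ≫ f₀ = u := by
    intro W u hu
    have h1 : (singleFunctor C 0).map u ≫ (singleFunctor C 0).map g₀ = 0 := by
      rw [← Functor.map_comp, hu, Functor.map_zero]
    obtain ⟨v, hv⟩ := Triangle.coyoneda_exact₂ _ hT ((singleFunctor C 0).map u) h1
    obtain ⟨v₀, rfl⟩ := (singleFunctor C 0).map_surjective v
    refine ⟨v₀, ?_⟩
    apply (singleFunctor C 0).map_injective
    rw [Functor.map_comp]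
    exact hv.symm
  have hker : IsLimit (KernelFork.ofι f₀ w) :=
    KernelFork.IsLimit.ofι' f₀ w (fun {W} u hu =>
      ⟨(hlift u hu).choose, (hlift u hu).choose_spec⟩)
  exact { exact := ShortComplex.exact_of_f_is_kernel _ hker }

end

section
variable [HasExt.{w} C]

theorem exists_extClass_aux [HasDerivedCategory.{w'} C] {P Q : C} (e : Ext.{w} P Q 1) :
    ∃ (B : C) (f : Q ⟶ B) (g : B ⟶ P) (w : f ≫ g = 0)
      (hS : (ShortComplex.mk f g w).ShortExact), hS.extClass = e := by
  obtain ⟨Z, f, g, hT⟩ := distinguished_cocone_triangle₂ (e.hom)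
  -- `Z` is concentrated in degree 0
  have iZ1 : DerivedCategory.TStructure.t.IsLE Z 0 :=
    DerivedCategory.TStructure.t.isLE₂ _ hT 0
      (show DerivedCategory.TStructure.t.IsLE ((singleFunctor C 0).obj Q) 0 from inferInstance)
      (show DerivedCategory.TStructure.t.IsLE ((singleFunctor C 0).obj P) 0 from inferInstance)
  have iZ2 : DerivedCategory.TStructure.t.IsGE Z 0 :=
    DerivedCategory.TStructure.t.isGE₂ _ hT 0
      (show DerivedCategory.TStructure.t.IsGE ((singleFunctor C 0).obj Q) 0 from inferInstance)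
      (show DerivedCategory.TStructure.t.IsGE ((singleFunctor C 0).obj P) 0 from inferInstance)
  obtain ⟨B, ⟨eZ⟩⟩ := exists_iso_singleFunctor_obj_of_isGE_of_isLE Z 0
  obtain ⟨f₀, hf₀⟩ := (singleFunctor C 0).map_surjective (f ≫ eZ.hom)
  obtain ⟨g₀, hg₀⟩ := (singleFunctor C 0).map_surjective (eZ.inv ≫ g)
  have hT' : Triangle.mk ((singleFunctor C 0).map f₀) ((singleFunctor C 0).map g₀) e.hom ∈
      distTriang (DerivedCategory C) := by
    refine isomorphic_distinguished _ hT _ ?_
    refine Triangle.isoMk _ _ (Iso.refl _) eZ.symm (Iso.refl _) ?_ ?_ ?_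
    · show (singleFunctor C 0).map f₀ ≫ eZ.inv = 𝟙 _ ≫ f
      rw [hf₀, Category.id_comp, Category.assoc, Iso.hom_inv_id, Category.comp_id]
    · show (singleFunctor C 0).map g₀ ≫ 𝟙 _ = eZ.inv ≫ g
      rw [hg₀, Category.comp_id]
    · show e.hom ≫ (shiftFunctor (DerivedCategory C) (1 : ℤ)).map (𝟙 _) = 𝟙 _ ≫ e.hom
      rw [CategoryTheory.Functor.map_id]
      exact (Category.comp_id _).trans (Category.id_comp _).symm
  obtain ⟨w, hS⟩ := shortExact_of_distTriang f₀ g₀ e.hom hT'
  refine ⟨B, f₀, g₀, w, hS, ?_⟩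
  ext
  rw [ShortComplex.ShortExact.extClass_hom]
  -- compare the two distinguished triangles
  obtain ⟨θ, hθ₁', hθ₂'⟩ : ∃ θ : (singleFunctor C 0).obj P ⟶ (singleFunctor C 0).obj P,
      (singleFunctor C 0).map g₀ ≫ θ =
        𝟙 ((singleFunctor C 0).obj B) ≫ (singleFunctor C 0).map g₀ ∧
      hS.singleδ ≫ (shiftFunctor (DerivedCategory C) (1 : ℤ)).map
        (𝟙 ((singleFunctor C 0).obj Q)) = θ ≫ e.hom :=
    complete_distinguished_triangle_morphism _ _
      hS.singleTriangle_distinguished hT' (𝟙 ((singleFunctor C 0).obj Q))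
      (𝟙 ((singleFunctor C 0).obj B)) (by
        show (singleFunctor C 0).map f₀ ≫ 𝟙 ((singleFunctor C 0).obj B) =
          𝟙 ((singleFunctor C 0).obj Q) ≫ (singleFunctor C 0).map f₀
        rw [Category.comp_id, Category.id_comp])
  obtain ⟨θ₀, hθθ₀⟩ : ∃ θ₀ : P ⟶ P, (singleFunctor C 0).map θ₀ = θ :=
    (singleFunctor C 0).map_surjective θ
  have hθ₀ : θ₀ = 𝟙 P := by
    have : Epi g₀ := hS.epi_g
    rw [← cancel_epi g₀, Category.comp_id]
    apply (singleFunctor C 0).map_injective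
    rw [Functor.map_comp, hθθ₀]
    exact hθ₁'.trans (Category.id_comp _)
  rw [← hθθ₀, hθ₀, CategoryTheory.Functor.map_id, CategoryTheory.Functor.map_id] at hθ₂'
  exact ((Category.comp_id _).symm.trans hθ₂').trans (Category.id_comp _)

/-- Every class in `Ext¹` is the class of a short exact sequence. -/
theorem exists_extClass {P Q : C} (e : Ext.{w} P Q 1) :
    ∃ (B : C) (f : Q ⟶ B) (g : B ⟶ P) (w : f ≫ g = 0)
      (hS : (ShortComplex.mk f g w).ShortExact), hS.extClass = e := by
  letI := HasDerivedCategory.standard C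
  exact exists_extClass_aux e

theorem exists_hom_of_extClass_comp_eq_aux [HasDerivedCategory.{w'} C]
    {S₁ S₂ : ShortComplex C} (h₁ : S₁.ShortExact)
    (h₂ : S₂.ShortExact) (φ : S₁.X₁ ⟶ S₂.X₁) (π : S₁.X₃ ⟶ S₂.X₃)
    (h : h₁.extClass.comp (Ext.mk₀ φ) (add_zero 1) = (Ext.mk₀ π).comp h₂.extClass (zero_add 1)) :
    ∃ m : S₁.X₂ ⟶ S₂.X₂, S₁.f ≫ m = φ ≫ S₂.f ∧ m ≫ S₂.g = S₁.g ≫ π := by
  have h' := congrArg Ext.hom h
  simp only [Ext.comp_hom, Ext.mk₀_hom, ShortComplex.ShortExact.extClass_hom,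
    ShiftedHom.comp_mk₀, ShiftedHom.mk₀_comp] at h'
  obtain ⟨b, hb₁, hb₂⟩ := complete_distinguished_triangle_morphism₂ _ _
    h₁.singleTriangle_distinguished h₂.singleTriangle_distinguished
    ((singleFunctor C 0).map φ) ((singleFunctor C 0).map π) h'
  have hb₁' : (singleFunctor C 0).map S₁.f ≫ b =
      (singleFunctor C 0).map φ ≫ (singleFunctor C 0).map S₂.f := hb₁
  have hb₂' : (singleFunctor C 0).map S₁.g ≫ (singleFunctor C 0).map π =
      b ≫ (singleFunctor C 0).map S₂.g := hb₂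
  obtain ⟨m, hm⟩ : ∃ m : S₁.X₂ ⟶ S₂.X₂, (singleFunctor C 0).map m = b :=
    (singleFunctor C 0).map_surjective b
  refine ⟨m, ?_, ?_⟩
  · apply (singleFunctor C 0).map_injective
    rw [Functor.map_comp, Functor.map_comp, hm]
    exact hb₁'
  · apply (singleFunctor C 0).map_injective
    rw [Functor.map_comp, Functor.map_comp, hm]
    exact hb₂'.symm

/-- TR3 for short exact sequences: if `φ_* e₁ = π^* e₂` then there is a compatible middle map. -/
theorem exists_hom_of_extClass_comp_eq {S₁ S₂ : ShortComplex C} (h₁ : S₁.ShortExact)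
    (h₂ : S₂.ShortExact) (φ : S₁.X₁ ⟶ S₂.X₁) (π : S₁.X₃ ⟶ S₂.X₃)
    (h : h₁.extClass.comp (Ext.mk₀ φ) (add_zero 1) = (Ext.mk₀ π).comp h₂.extClass (zero_add 1)) :
    ∃ m : S₁.X₂ ⟶ S₂.X₂, S₁.f ≫ m = φ ≫ S₂.f ∧ m ≫ S₂.g = S₁.g ≫ π := by
  letI := HasDerivedCategory.standard C
  exact exists_hom_of_extClass_comp_eq_aux h₁ h₂ φ π h

end

end Groth.Agent.Lib.Helper21.Ext1
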