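import Mathlib
import Groth.Agent.Lib.Helper21Efface
import Groth.Agent.Lib.Helper21Ext1

/-!
# Helper21: vanishing of `Ext^p(A, B)`, `p ≥ 1`, for `A` in a class of objects closed under
kernels of epimorphisms, having enough covers, and for which extensions by `B` split.
-/

universe w v u
open CategoryTheory Limits Abelian

namespace Groth.Agent.Lib.Helper21.AcyclicClass

variable {𝒜 : Type u} [Category.{v} 𝒜] [Abelian 𝒜] [HasExt.{w} 𝒜]

theorem extClass_eq_zero_of_retraction {S : ShortComplex 𝒜} (hS : S.ShortExact)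
    (r : S.X₂ ⟶ S.X₁) (hr : S.f ≫ r = 𝟙 _) : hS.extClass = 0 := by
  have h1 : hS.extClass = hS.extClass.comp (Ext.mk₀ (𝟙 S.X₁)) (add_zero 1) :=
    (Ext.comp_mk₀_id _).symm
  rw [h1, ← hr, ← Ext.mk₀_comp_mk₀, ← Ext.comp_assoc_of_third_deg_zero,
    ShortComplex.ShortExact.extClass_comp, Ext.zero_comp]

theorem ext_eq_zero (T : 𝒜 → Prop) (B : 𝒜)
    (hker : ∀ {P A : 𝒜} (π : P ⟶ A), Epi π → T P → T A → T (kernel π))
    (hcov : ∀ A : 𝒜, ∃ (P : 𝒜) (π : P ⟶ A), Epi π ∧ T P)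
    (hsplit : ∀ {E A : 𝒜} (i : B ⟶ E) (g : E ⟶ A) (w : i ≫ g = 0),
      (ShortComplex.mk i g w).ShortExact → T A → ∃ r : E ⟶ B, i ≫ r = 𝟙 B) :
    ∀ (p : ℕ) (A : 𝒜), T A → ∀ x : Ext.{w} A B (p + 1), x = 0 := by
  intro p
  induction p with
  | zero =>
    intro A hA x
    obtain ⟨E, f, g, w, hS, rfl⟩ := Groth.Agent.Lib.Helper21.Ext1.exists_extClass x
    obtain ⟨r, hr⟩ := hsplit f g w hS hA
    exact extClass_eq_zero_of_retraction hS r hr
  | succ p ih =>
    intro A hA x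
    obtain ⟨A'', π, hπ, hx⟩ :=
      Groth.Agent.Lib.Helper21.Efface.exists_epi_comp_eq_zero (by omega : 1 ≤ p + 1 + 1) x
    obtain ⟨P, ρ, hρ, hP⟩ := hcov A''
    haveI : Epi (ρ ≫ π) := epi_comp' hρ hπ
    let S : ShortComplex 𝒜 := ShortComplex.mk (kernel.ι (ρ ≫ π)) (ρ ≫ π) (kernel.condition _)
    have hS : S.ShortExact :=
      { exact := ShortComplex.exact_kernel _
        mono_f := inferInstanceAs (Mono (kernel.ι _))
        epi_g := inferInstanceAs (Epi (ρ ≫ π)) }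
    have h0 : (Ext.mk₀ S.g).comp x (zero_add _) = 0 := by
      change (Ext.mk₀ (ρ ≫ π)).comp x (zero_add _) = 0
      rw [← Ext.mk₀_comp_mk₀, Ext.comp_assoc_of_second_deg_zero, hx, Ext.comp_zero]
    obtain ⟨y, hy⟩ := Ext.contravariant_sequence_exact₃ hS B x h0 (by omega : 1 + (p + 1) = p + 1 + 1)
    have hy0 : y = 0 := ih (kernel (ρ ≫ π)) (hker _ inferInstance hP hA) y
    rw [← hy, hy0, Ext.comp_zero]

end Groth.Agent.Lib.Helper21.AcyclicClass
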