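import Mathlib
import Groth.Prelude.Def_ModSite
import Groth.Agent.Lib.Helper21FreeAb2
import Groth.Agent.Lib.Helper21ModTensor7
import Groth.Agent.Lib.Helper21AcyclicClass

/-!
# Helper21: `O ⊗_ℤ ℤ_C ≅ O`; `Hom(ℤ_C, Hom_O(M, N)) ≅ Hom_O(M, N)`
-/

open CategoryTheory Opposite Limits TensorProduct

universe u v

namespace Groth.Agent.Lib.Helper21.FreeAb

open Groth.Agent.Lib.Helper21.ModTensor2 Groth.Agent.Lib.Helper21.ModTensor3
  Groth.Agent.Lib.Helper21.ModTensor5 Groth.Agent.Lib.Helper21.TorsFree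

section general

/-- for an additive adjunction, `R ⋙ Hom(X, -) ≅ Hom(L X, -)`. -/
noncomputable def adjCoyonedaIso {A : Type*} {B : Type*} [Category.{v} A] [Category.{v} B]
    [Preadditive A] [Preadditive B] {L : A ⥤ B} {R : B ⥤ A} (adj : L ⊣ R) [L.Additive] (X : A) :
    R ⋙ preadditiveCoyoneda.obj (op X) ≅ preadditiveCoyoneda.obj (op (L.obj X)) :=
  NatIso.ofComponents (fun Y => (adj.homAddEquiv X Y).symm.toAddCommGrpIso)
    (fun {Y Y'} f => by
      ext x
      exact adj.homEquiv_naturality_right_symm x f)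

/-- `Hom(X, -) ≅ Hom(X', -)` for `X ≅ X'`. -/
noncomputable def coyonedaIsoOfIso {A : Type*} [Category.{v} A] [Preadditive A] {X X' : A}
    (e : X ≅ X') : preadditiveCoyoneda.obj (op X) ≅ preadditiveCoyoneda.obj (op X') :=
  preadditiveCoyoneda.mapIso e.symm.op

end general

section presheaf

variable {C : Type u} [SmallCategory C] (R : Cᵒᵖ ⥤ RingCat.{u})

/-- the constant presheaf `ℤ`. -/
noncomputable abbrev cZ : Cᵒᵖ ⥤ AddCommGrpCat.{u} :=
  (Functor.const Cᵒᵖ).obj (AddCommGrpCat.of (ULift.{u} ℤ))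

/-- `n ↦ n • 1`. -/
noncomputable def γZ : cZ (C := C) ⟶ (PresheafOfModules.unit R).presheaf where
  app X := AddCommGrpCat.ofHom
    ((zmultiplesHom (R.obj X) (1 : R.obj X)).comp AddEquiv.ulift.toAddMonoidHom)
  naturality {X Y} f := by
    ext n
    change (n.down • (1 : R.obj Y)) = R.map f (n.down • (1 : R.obj X))
    rw [map_zsmul, map_one]

theorem γZ_app_apply (X : Cᵒᵖ) (n : ULift.{u} ℤ) :
    ((γZ R).app X n : R.obj X) = n.down • (1 : R.obj X) := rfl

/-- `R ⊗ ℤ ⟶ R`. -/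
noncomputable def φZ : F R (cZ (C := C)) ⟶ PresheafOfModules.unit R :=
  adjFrom (cZ (C := C)) (PresheafOfModules.unit R) (γZ R)

theorem φZ_app_tm (X : Cᵒᵖ) (r : R.obj X) (n : ULift.{u} ℤ) :
    ((φZ R).app X (tm R cZ X r n) : R.obj X) = n.down • r := by
  have h := adjFrom_app_tm (cZ (C := C)) (PresheafOfModules.unit R) (γZ R) X r n
  refine h.trans ?_
  change r * (n.down • (1 : R.obj X)) = n.down • r
  rw [mul_smul_comm, mul_one]

/-- the section `1 ⊗ 1`. -/
noncomputable def secZ : (F R (cZ (C := C))).sections :=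
  PresheafOfModules.sectionsMk (fun X => tm R cZ X 1 ⟨1⟩) (fun X Y f => by
    rw [F_map_tm, map_one]
    rfl)

/-- `R ⟶ R ⊗ ℤ`. -/
noncomputable def ψZ : PresheafOfModules.unit R ⟶ F R (cZ (C := C)) :=
  (PresheafOfModules.unitHomEquiv _).symm (secZ R)

theorem ψZ_app_apply (X : Cᵒᵖ) (r : R.obj X) :
    (ψZ R).app X r = tm R cZ X r ⟨1⟩ := by
  change r • tm R cZ X 1 ⟨1⟩ = _
  rw [smul_tm, mul_one]

/-- `R ⊗_ℤ ℤ ≅ R`. -/
noncomputable def FcZIso : F R (cZ (C := C)) ≅ PresheafOfModules.unit R where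
  hom := φZ R
  inv := ψZ R
  hom_inv_id := by
    apply FHom_ext
    intro X r n
    change (ψZ R).app X ((φZ R).app X (tm R cZ X r n)) = tm R cZ X r n
    rw [φZ_app_tm, ψZ_app_apply]
    change (n.down • r) ⊗ₜ[ℤ] (⟨1⟩ : ULift.{u} ℤ) = r ⊗ₜ[ℤ] n
    rw [TensorProduct.smul_tmul]
    congr 1
    ext
    simp
  inv_hom_id := by
    apply (PresheafOfModules.unitHomEquiv _).injective
    apply PresheafOfModules.sections_ext
    intro X
    change (φZ R).app X ((ψZ R).app X (1 : R.obj X)) = (1 : R.obj X)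
    rw [ψZ_app_apply, φZ_app_tm]
    simp

end presheaf

section sheaf

variable {C : Type u} [SmallCategory C] {J : GrothendieckTopology C} (O : Sheaf J CommRingCat.{u})

/-- `O ⊗_ℤ a(P) ≅ a(O ⊗_ℤ P)`. -/
noncomputable def freeShSheafifyIso :
    presheafToSheaf J AddCommGrpCat.{u} ⋙ freeSh O ≅ FFunctor (ModSite.ringSh O).obj ⋙ shf O :=
  Adjunction.leftAdjointUniq
    ((sheafificationAdjunction J AddCommGrpCat.{u}).comp (freeShAdj O))
    ((FAdj (ModSite.ringSh O).obj).comp (adj O))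

/-- the constant sheaf `ℤ`. -/
noncomputable abbrev Zc : Sheaf J AddCommGrpCat.{u} :=
  (constantSheaf J AddCommGrpCat.{u}).obj (AddCommGrpCat.of (ULift.{u} ℤ))

/-- `O ⊗_ℤ ℤ ≅ O`. -/
noncomputable def freeShZcIso : (freeSh O).obj (Zc (J := J)) ≅ ModSite.unit O :=
  (freeShSheafifyIso O).app (cZ (C := C)) ≪≫ (shf O).mapIso (FcZIso (ModSite.ringSh O).obj) ≪≫
    (asIso (adj O).counit).app (ModSite.unit O)

/-- `Hom(ℤ, toAb -) ≅ Hom(O, -)`. -/
noncomputable def toSheafCoyonedaIso :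
    SheafOfModules.toSheaf (ModSite.ringSh O) ⋙ preadditiveCoyoneda.obj (op (Zc (J := J))) ≅
      preadditiveCoyoneda.obj (op (ModSite.unit O)) :=
  adjCoyonedaIso (freeShAdj O) (Zc (J := J)) ≪≫ coyonedaIsoOfIso (freeShZcIso O)

/-- `Hom(ℤ, toAb Hom_O(M, -)) ≅ Hom_O(M, -)`. -/
noncomputable def sheafHomCoyonedaIso (M : ModSite.Mod O) [ModSite.HasSheafHom M] :
    (ModSite.sheafHom M ⋙ SheafOfModules.toSheaf (ModSite.ringSh O)) ⋙
        preadditiveCoyoneda.obj (op (Zc (J := J))) ≅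
      preadditiveCoyoneda.obj (op M) :=
  Functor.associator _ _ _ ≪≫ Functor.isoWhiskerLeft _ (toSheafCoyonedaIso O) ≪≫
    adjCoyonedaIso (ModSite.sheafHomAdj M) (ModSite.unit O) ≪≫
    coyonedaIsoOfIso ((ModTensor7.tLUnitIso O).app M)

/-- sheafification of a sectionwise torsion-free presheaf is torsion-free. -/
theorem TF_sheafify (P : Cᵒᵖ ⥤ AddCommGrpCat.{u})
    (hP : ∀ (X : Cᵒᵖ) (n : ℕ) (x : P.obj X), n ≠ 0 → n • x = 0 → x = 0) :
    TF ((presheafToSheaf J AddCommGrpCat.{u}).obj P) := by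
  apply TF_of_mono_nsmul
  intro n hn
  haveI : Mono (n • 𝟙 P) := by
    haveI : ∀ X, Mono ((n • 𝟙 P).app X) := by
      intro X
      rw [AddCommGrpCat.mono_iff_injective, injective_iff_map_eq_zero]
      intro x hx
      rw [NatTrans.app_nsmul, ab_nsmul_apply] at hx
      exact hP X n x hn hx
    exact NatTrans.mono_of_mono_app _
  have h : (presheafToSheaf J AddCommGrpCat.{u}).map (n • 𝟙 P) =
      n • 𝟙 ((presheafToSheaf J AddCommGrpCat.{u}).obj P) := by
    rw [Functor.map_nsmul]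
    congr 1
    exact (presheafToSheaf J AddCommGrpCat.{u}).map_id _
  rw [← h]
  infer_instance

theorem TF_Zc : TF (Zc (J := J)) := by
  apply TF_sheafify
  intro X n x hn hx
  have h1 : n • x.down = 0 := congrArg ULift.down hx
  have h2 : x.down = 0 := by
    rcases smul_eq_zero.1 h1 with h | h
    · exact absurd h hn
    · exact h
  exact ULift.ext _ _ h2

/-- `Ext^{p+1}(A, Hom_O(F, G)) = 0` for `A` torsion-free and `G` injective. -/
theorem ext_sheafHom_eq_zero (F G : ModSite.Mod O) [ModSite.HasSheafHom F] [Injective G] (p : ℕ)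
    (A : Sheaf J AddCommGrpCat.{u}) (hA : TF A)
    (x : Abelian.Ext.{u} A (ModSite.toAb ((ModSite.sheafHom F).obj G)) (p + 1)) : x = 0 := by
  let L : Sheaf J AddCommGrpCat.{u} ⥤ ModSite.Mod O := freeSh O ⋙ tR O F
  let Φ : ModSite.Mod O ⥤ Sheaf J AddCommGrpCat.{u} :=
    ModSite.sheafHom F ⋙ SheafOfModules.toSheaf (ModSite.ringSh O)
  let adjL : L ⊣ Φ := (freeShAdj O).comp (ModSite.sheafHomAdj F)
  exact AcyclicClass.ext_eq_zero (𝒜 := Sheaf J AddCommGrpCat.{u}) TF (Φ.obj G)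
    (fun π _ hP _ => TF_kernel π hP)
    (fun A => by
      obtain ⟨K', π, hπ⟩ := exists_epi_freeAb A
      exact ⟨freeAb K', π, hπ, TF_freeAb K'⟩)
    (fun {E A} i g w hS hA => by
      have hSE := shortExact_map_freeSh_tensor O (S := ShortComplex.mk i g w) hS hA F
      haveI : Mono (L.map i) := hSE.mono_f
      let ε : L.obj (Φ.obj G) ⟶ G := (adjL.homEquiv _ _).symm (𝟙 _)
      let ext : L.obj E ⟶ G := Injective.factorThru ε (L.map i)
      refine ⟨adjL.homEquiv _ _ ext, ?_⟩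
      rw [← adjL.homEquiv_naturality_left, Injective.comp_factorThru]
      exact (adjL.homEquiv _ _).apply_symm_apply _) p A hA x

end sheaf

end Groth.Agent.Lib.Helper21.FreeAb
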