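import Mathlib
import Groth.Agent.S0484
import Groth.Agent.Lib.Helper21FreeAb3
import Groth.Agent.Lib.Helper21FreeConst
import Groth.Agent.Lib.Helper21DerAcyc

/-!
# Helper21: cohomology of a module computed in `Mod(R)` agrees with that of the underlying abelian
sheaf (sheaf of rings `R`, not necessarily commutative)
-/

open CategoryTheory Opposite Limits

universe u

namespace Groth.Agent.Lib.Helper21.FreeAb

open Groth.Agent.Lib.Helper21.TorsFree

variable {C : Type u} [SmallCategory C] {J : GrothendieckTopology C} (R : Sheaf J RingCat.{u})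

instance toSheafR_preservesFiniteColimits :
    PreservesFiniteColimits (SheafOfModules.toSheaf.{u} R) :=
  ⟨fun K _ _ => by
    haveI : PreservesColimitsOfShape (ULiftHom.{u} (ULift.{u} K)) (SheafOfModules.toSheaf.{u} R) :=
      Groth.Agent.S0484.preservesColimitsOfShape_toSheaf J R _
    exact preservesColimitsOfShape_of_equiv (ULiftHomULiftCategory.equiv.{u, u} K).symm _⟩

instance toSheafR_preservesHomology : (SheafOfModules.toSheaf.{u} R).PreservesHomology :=
  inferInstance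

/-- `R ⊗_ℤ a(P) ≅ a(R ⊗_ℤ P)`. -/
noncomputable def freeShRSheafifyIso :
    presheafToSheaf J AddCommGrpCat.{u} ⋙ freeShR R ≅ FFunctor R.obj ⋙ shfR R :=
  Adjunction.leftAdjointUniq
    ((sheafificationAdjunction J AddCommGrpCat.{u}).comp (freeShRAdj R))
    ((FAdj R.obj).comp (PresheafOfModules.sheafificationAdjunction (𝟙 R.obj)))

/-- `R ⊗_ℤ ℤ ≅ R`. -/
noncomputable def freeShRZcIso : (freeShR R).obj (Zc (J := J)) ≅ SheafOfModules.unit R :=
  (freeShRSheafifyIso R).app (cZ (C := C)) ≪≫ (shfR R).mapIso (FcZIso R.obj) ≪≫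
    (asIso (PresheafOfModules.sheafificationAdjunction (𝟙 R.obj)).counit).app (SheafOfModules.unit R)

instance freeShR_additive : (freeShR R).Additive := (freeShRAdj R).left_adjoint_additive

/-- `Hom(ℤ, toAb -) ≅ Hom(R, -)`. -/
noncomputable def toSheafCoyonedaIsoR :
    SheafOfModules.toSheaf R ⋙ preadditiveCoyoneda.obj (op (Zc (J := J))) ≅
      preadditiveCoyoneda.obj (op (SheafOfModules.unit R)) :=
  adjCoyonedaIso (freeShRAdj R) (Zc (J := J)) ≪≫ coyonedaIsoOfIso (freeShRZcIso R)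

/-- `Ext^{p+1}(A, toAb I) = 0` for `A` torsion-free and `I` an injective module. -/
theorem ext_toSheaf_eq_zero (I : SheafOfModules.{u} R) [Injective I] (p : ℕ)
    (A : Sheaf J AddCommGrpCat.{u}) (hA : TF A)
    (x : Abelian.Ext.{u} A ((SheafOfModules.toSheaf R).obj I) (p + 1)) : x = 0 := by
  exact AcyclicClass.ext_eq_zero (𝒜 := Sheaf J AddCommGrpCat.{u}) TF
    ((SheafOfModules.toSheaf R).obj I)
    (fun π _ hP _ => TF_kernel π hP)
    (fun A => by
      obtain ⟨K', π, hπ⟩ := exists_epi_freeAb A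
      exact ⟨freeAb K', π, hπ, TF_freeAb K'⟩)
    (fun {E A} i g w hS hA => by
      haveI : Mono ((freeShR R).map i) :=
        mono_freeShR_map R (S := ShortComplex.mk i g w) hS hA
      let ε : (freeShR R).obj ((SheafOfModules.toSheaf R).obj I) ⟶ I :=
        ((freeShRAdj R).homEquiv _ _).symm (𝟙 _)
      let ext : (freeShR R).obj E ⟶ I := Injective.factorThru ε ((freeShR R).map i)
      refine ⟨(freeShRAdj R).homEquiv _ _ ext, ?_⟩
      rw [← (freeShRAdj R).homEquiv_naturality_left, Injective.comp_factorThru]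
      exact ((freeShRAdj R).homEquiv _ _).apply_symm_apply _) p A hA x

/-- `Ext^n_R(R, M) ≅ H^n(C, M)`. -/
theorem nonempty_ext_unit_iso [HasExt.{u} (SheafOfModules.{u} R)] (M : SheafOfModules.{u} R)
    (n : ℕ) :
    Nonempty (AddCommGrpCat.of (Abelian.Ext.{u} (SheafOfModules.unit R) M n) ≅
      AddCommGrpCat.of (Abelian.Ext.{u} (Zc (J := J)) ((SheafOfModules.toSheaf R).obj M) n)) := by
  haveI := Groth.Agent.S0484.result J R
  haveI : EnoughInjectives (SheafOfModules.{u} R) := inferInstance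
  let E : SheafOfModules.{u} R ⥤ Sheaf J AddCommGrpCat.{u} := SheafOfModules.toSheaf R
  let G : Sheaf J AddCommGrpCat.{u} ⥤ AddCommGrpCat.{u} :=
    preadditiveCoyoneda.obj (op (Zc (J := J)))
  have hE : ∀ I : SheafOfModules.{u} R, Injective I → ∀ q : ℕ, 0 < q →
      IsZero ((G.rightDerived q).obj (E.obj I)) := by
    intro Q hQ q hq
    obtain ⟨q, rfl⟩ : ∃ k, q = k + 1 := ⟨q - 1, by lia⟩
    obtain ⟨e⟩ := Groth.Agent.Lib.Helper23ExtRD.rightDerived_coyoneda_iso (Zc (J := J)) (E.obj Q) (q + 1)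
    refine IsZero.of_iso ?_ e
    haveI : Subsingleton (Abelian.Ext.{u} (Zc (J := J)) (E.obj Q) (q + 1)) :=
      ⟨fun x y => (ext_toSheaf_eq_zero R Q q _ TF_Zc x).trans
        (ext_toSheaf_eq_zero R Q q _ TF_Zc y).symm⟩
    exact AddCommGrpCat.isZero_of_subsingleton _
  obtain ⟨e₁⟩ := Groth.Agent.Lib.Helper23ExtRD.rightDerived_coyoneda_iso (SheafOfModules.unit R) M n
  let e₂ := (Groth.Agent.Lib.Helper23LocSS.rightDerivedIso (toSheafCoyonedaIsoR R) n).app M
  obtain ⟨e₃⟩ := DerAcyc.nonempty_rightDerived_comp_iso E G hE M n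
  obtain ⟨e₄⟩ := Groth.Agent.Lib.Helper23ExtRD.rightDerived_coyoneda_iso (Zc (J := J)) (E.obj M) n
  exact ⟨e₁.symm ≪≫ e₂.symm ≪≫ e₃ ≪≫ e₄⟩

end Groth.Agent.Lib.Helper21.FreeAb
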