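import Mathlib
import Groth.Prelude.Def_Coh
import Groth.Agent.Lib.Helper21ModCoh
import Groth.Agent.Lib.Helper21DerPost
import Groth.Agent.Lib.Helper21DerAcyc
import Groth.Agent.Lib.Helper23PushAcyclic

/-!
# Bridge: higher direct images of `O`-modules versus those of the underlying abelian sheaves (helper23)

* `tf_ZU`: the free abelian sheaf `ℤ_U` on an open is torsion-free (helper21's `TF`).
* `subsingleton_HE_of_injective`: for an injective `O_X`-module `I`, `H^{p+1}(U, I) = 0` for every open `U`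
  (on the underlying abelian sheaf).
* `isZero_RpushAb_of_injective`: `R^{q+1} f_*` (abelian sheaves) kills the underlying sheaf of an injective module.
* `nonempty_toAb_Rpush_iso`: `toAb (R^n f_* M) ≅ R^n f_*^{ab} (toAb M)`.
Built on helper21's `DerAcyc.nonempty_rightDerived_comp_iso`, `DerPost.postIso`, `ext_toSheaf_eq_zero`.
-/

set_option autoImplicit false
open CategoryTheory CategoryTheory.Limits AlgebraicGeometry
universe u

namespace Groth.Agent.Lib.Helper23.ModAbBridge

open Groth.Agent.Lib.Helper21 Groth.Agent.Lib.Helper21.FreeAb Groth.Agent.Lib.Helper21.TorsFree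
  Groth.Agent.Lib.Helper23.AffVanish TopologicalSpace

/-- the free abelian sheaf on an open is torsion-free -/
theorem tf_ZU {X : TopCat.{u}} (U : Opens X) : TF (ZU U) := by
  apply TF_of_mono_nsmul
  intro n hn
  have := mono_nsmul_pre (yoneda.obj U) n hn
  have h : (presheafToSheaf (Opens.grothendieckTopology X) AddCommGrpCat.{u}).map
      (n • 𝟙 (yoneda.obj U ⋙ AddCommGrpCat.free.{u})) = n • 𝟙 (ZU U) := by
    rw [Functor.map_nsmul]
    congr 1
    exact (presheafToSheaf _ AddCommGrpCat.{u}).map_id _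
  rw [← h]
  infer_instance

/-- injective `O_X`-modules have acyclic underlying abelian sheaves -/
theorem subsingleton_HE_of_injective {X : Scheme.{u}} (I : X.Modules) [Injective I] (U : X.Opens) (p : ℕ) :
    Subsingleton (HE (Coh.toAb I) (p + 1) U) :=
  have key : ∀ x : HE (Coh.toAb I) (p + 1) U, x = 0 := fun x =>
    @ext_toSheaf_eq_zero _ _ _ X.ringCatSheaf I ‹_› p _ (tf_ZU U) x
  ⟨fun x y => (key x).trans (key y).symm⟩

theorem isZero_RpushAb_of_injective {X Y : Scheme.{u}} (f : X ⟶ Y) (I : X.Modules) [Injective I] (q : ℕ) :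
    IsZero ((Coh.RpushAb f (q + 1)).obj (Coh.toAb I)) := by
  refine isZero_Rpush_of_basis f.base Set.univ ?_ (Coh.toAb I) ?_ q
  · rw [Opens.isBasis_iff_nbhd]
    intro U x hx
    exact ⟨U, trivial, hx, le_rfl⟩
  · intro V _ i
    exact subsingleton_HE_of_injective I _ i

/-- the underlying abelian sheaf of `R^n f_* M` is `R^n f_*` of the underlying abelian sheaf of `M`. -/
theorem nonempty_toAb_Rpush_iso {X Y : Scheme.{u}} (f : X ⟶ Y)
    [HasInjectiveResolutions X.Modules] (M : X.Modules) (n : ℕ) :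
    Nonempty (Coh.toAb ((Coh.Rpush f n).obj M) ≅ (Coh.RpushAb f n).obj (Coh.toAb M)) := by
  have := Groth.Agent.S0484.result (Opens.grothendieckTopology X) X.ringCatSheaf
  have : EnoughInjectives X.Modules := inferInstanceAs (EnoughInjectives (SheafOfModules.{u} X.ringCatSheaf))
  let E : SheafOfModules.{u} X.ringCatSheaf ⥤ Sheaf (Opens.grothendieckTopology X) AddCommGrpCat.{u} :=
    SheafOfModules.toSheaf X.ringCatSheaf
  let E' : SheafOfModules.{u} Y.ringCatSheaf ⥤ Sheaf (Opens.grothendieckTopology Y) AddCommGrpCat.{u} :=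
    SheafOfModules.toSheaf Y.ringCatSheaf
  let P : SheafOfModules.{u} X.ringCatSheaf ⥤ SheafOfModules.{u} Y.ringCatSheaf := Coh.push f
  have : P.Additive := inferInstanceAs (Coh.push f).Additive
  have : HasInjectiveResolutions (SheafOfModules.{u} X.ringCatSheaf) := ‹HasInjectiveResolutions X.Modules›
  let e0 : P ⋙ E' ≅ E ⋙ Coh.pushAb f := Iso.refl _
  have : PreservesFiniteLimits (Coh.pushAb f) :=
    Groth.Agent.Lib.Helper16.ClosedEmb.push_preservesFiniteLimits f.base
  have hE : ∀ I : SheafOfModules.{u} X.ringCatSheaf, Injective I → ∀ q : ℕ, 0 < q →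
      IsZero (((Coh.pushAb f).rightDerived q).obj (E.obj I)) := by
    intro I hI q hq
    obtain ⟨q, rfl⟩ : ∃ k, q = k + 1 := ⟨q - 1, by omega⟩
    exact @isZero_RpushAb_of_injective _ _ f I hI q
  obtain ⟨e3⟩ := DerAcyc.nonempty_rightDerived_comp_iso E (Coh.pushAb f) hE M n
  let e1 := (DerPost.postIso P E' n).app M
  let e2 := (DerPost.natIsoRightDerived e0 n).app M
  exact ⟨e1.symm ≪≫ e2 ≪≫ e3⟩

end Groth.Agent.Lib.Helper23.ModAbBridge
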