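import Groth.Agent.Lib.Helper17QCPush1
import Groth.Agent.Lib.Helper23SS3
import Groth.Agent.Lib.Helper23ModAbBridge
import Groth.Agent.S0028

/-!
# `H^p(Rf_*(M[0])) ≅ R^p f_* M`, and the affine base case (helper17)
-/

set_option autoImplicit false

universe u

open CategoryTheory CategoryTheory.Limits AlgebraicGeometry TopologicalSpace Opposite
  DerivedCategory Pretriangulated

attribute [local instance] HasDerivedCategory.standard

namespace Groth.Agent.Lib.Helper17.QCPush

open Groth.Agent.Lib.Helper17.MV Groth.Agent.Lib.Helper23.QCohLocal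

variable {X Y : Scheme.{u}} (f : X ⟶ Y)

lemma enoughInjectives (X : Scheme.{u}) : EnoughInjectives X.Modules :=
  haveI := isGrothendieckAbelian X
  inferInstance

/-- `Rf_*(M[0]) ≅ Q(f_* I^•)` for an injective resolution `I` of `M`. -/
noncomputable def rpushInDIso [DCoh.HasRpush f] {M : X.Modules} (I : InjectiveResolution M) :
    (DCoh.Rpush f).obj (DCoh.inD X M) ≅
      (Q : _ ⥤ DCoh.D Y).obj (((Scheme.Modules.pushforward f).mapHomologicalComplex
        (ComplexShape.up ℤ)).obj I.cochainComplex) :=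
  haveI := isGrothendieckAbelian X
  haveI : I.cochainComplex.IsKInjective := CochainComplex.isKInjective_of_injective _ 0
  (DCoh.Rpush f).mapIso ((DerivedCategory.singleFunctorIsoCompQ X.Modules 0).app M ≪≫
      asIso (DerivedCategory.Q.map I.ι')) ≪≫
    isoOfKInj (Scheme.Modules.pushforward f) I.cochainComplex

/-- `H^p(Rf_*(M[0])) ≅ R^p f_* M`. -/
theorem nonempty_HD_rpush_inD_iso [HasInjectiveResolutions X.Modules] [DCoh.HasRpush f]
    (M : X.Modules) (p : ℕ) (k : ℤ) (hk : (p : ℤ) = k) :
    Nonempty (DCoh.HD ((DCoh.Rpush f).obj (DCoh.inD X M)) k ≅ (Coh.Rpush f p).obj M) := by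
  haveI := enoughInjectives X
  let I : InjectiveResolution M := injectiveResolution M
  obtain ⟨e⟩ := Groth.Agent.Lib.Helper23SS3.homology_map_cochainComplex
    (Scheme.Modules.pushforward f) I p k hk
  exact ⟨(DerivedCategory.homologyFunctor Y.Modules k).mapIso (rpushInDIso f I) ≪≫
    (DerivedCategory.homologyFunctorFactors Y.Modules k).app _ ≪≫ e⟩

theorem isZero_HD_rpush_inD [DCoh.HasRpush f] (M : X.Modules) (k : ℤ) (hk : k < 0) :
    IsZero (DCoh.HD ((DCoh.Rpush f).obj (DCoh.inD X M)) k) := by
  haveI := enoughInjectives X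
  let I : InjectiveResolution M := injectiveResolution M
  have h := Groth.Agent.Lib.Helper23SS3.isZero_homology_map_cochainComplex
    (Scheme.Modules.pushforward f) I k hk
  exact h.of_iso ((DerivedCategory.homologyFunctor Y.Modules k).mapIso (rpushInDIso f I) ≪≫
    (DerivedCategory.homologyFunctorFactors Y.Modules k).app _)

lemma isZero_of_isZero_toAb {A : Y.Modules} (h : IsZero (Coh.toAb A)) : IsZero A := by
  rw [IsZero.iff_id_eq_zero]
  apply (SheafOfModules.toSheaf Y.ringCatSheaf).map_injective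
  exact ((SheafOfModules.toSheaf Y.ringCatSheaf).map_id A).trans
    (((IsZero.iff_id_eq_zero _).1 h).trans
      ((SheafOfModules.toSheaf Y.ringCatSheaf).map_zero _ _).symm)

/-- the affine base case: for an affine morphism `g` and quasi-coherent `N`, `Rg_*(N[0])` has
quasi-coherent cohomology. -/
theorem isQCohD_rpush_inD_of_isAffineHom {Z S : Scheme.{u}} (g : Z ⟶ S) [IsAffineHom g]
    [DCoh.HasRpush g] (N : Z.Modules) [N.IsQuasicoherent] :
    DCoh.IsQCohD ((DCoh.Rpush g).obj (DCoh.inD Z N)) := by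
  haveI := enoughInjectives Z
  haveI : HasInjectiveResolutions Z.Modules := inferInstance
  intro k
  rcases lt_trichotomy k 0 with hk | hk | hk
  · exact isQuasicoherent_of_isZero (isZero_HD_rpush_inD g N k hk)
  · subst hk
    obtain ⟨e⟩ := nonempty_HD_rpush_inD_iso g N 0 0 rfl
    have e' := (Functor.rightDerivedZeroIsoSelf (Scheme.Modules.pushforward g)).app N
    exact isQuasicoherent_of_iso (e ≪≫ e').symm (isQuasicoherent_pushforward g N)
  · obtain ⟨p, rfl⟩ : ∃ p : ℕ, k = ((p + 1 : ℕ) : ℤ) := ⟨(k - 1).toNat, by omega⟩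
    obtain ⟨e⟩ := nonempty_HD_rpush_inD_iso g N (p + 1) _ rfl
    obtain ⟨e2⟩ := Groth.Agent.Lib.Helper23.ModAbBridge.nonempty_toAb_Rpush_iso g N (p + 1)
    have hz := Groth.Agent.S0028.result g N (p + 1) (by omega)
    exact isQuasicoherent_of_isZero ((isZero_of_isZero_toAb (hz.of_iso e2)).of_iso e)

end Groth.Agent.Lib.Helper17.QCPush
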