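import Groth.Agent.Lib.Helper17RDer4

/-! The horseshoe lemma, assembled: `S.ShortExact → Nonempty (RDer.SESRes S)` (helper17). -/
set_option autoImplicit false
set_option backward.isDefEq.respectTransparency false
universe v u
open CategoryTheory CategoryTheory.Limits

namespace Groth.Agent.Lib.Helper17.RDerLib

open RDer

variable {C : Type u} [Category.{v} C] [Abelian C] [EnoughInjectives C]

theorem cokernel_ses {X Y : C} (i : X ⟶ Y) [Mono i] :
    (ShortComplex.mk i (cokernel.π i) (cokernel.condition i)).ShortExact :=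
  ShortComplex.ShortExact.mk (ShortComplex.exact_of_g_is_cokernel _ (cokernelIsCokernel i))

section

variable (S : ShortComplex C) (hS : S.ShortExact)

/-- the `n`-th stage. -/
noncomputable abbrev st (n : ℕ) : HStage C := hstage S hS n

noncomputable def Z₁ (n : ℕ) : C := (st S hS n).S.X₁
noncomputable def Z₂ (n : ℕ) : C := (st S hS n).S.X₂
noncomputable def Z₃ (n : ℕ) : C := (st S hS n).S.X₃
noncomputable def J₁ (n : ℕ) : C := (st S hS n).J.X₁
noncomputable def J₂ (n : ℕ) : C := (st S hS n).J.X₂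
noncomputable def J₃ (n : ℕ) : C := (st S hS n).J.X₃
noncomputable def ι₁ (n : ℕ) : Z₁ S hS n ⟶ J₁ S hS n := (st S hS n).φ.τ₁
noncomputable def ι₂ (n : ℕ) : Z₂ S hS n ⟶ J₂ S hS n := (st S hS n).φ.τ₂
noncomputable def ι₃ (n : ℕ) : Z₃ S hS n ⟶ J₃ S hS n := (st S hS n).φ.τ₃
noncomputable def π₁ (n : ℕ) : J₁ S hS n ⟶ Z₁ S hS (n + 1) := cokernel.π (st S hS n).φ.τ₁
noncomputable def π₂ (n : ℕ) : J₂ S hS n ⟶ Z₂ S hS (n + 1) := cokernel.π (st S hS n).φ.τ₂
noncomputable def π₃ (n : ℕ) : J₃ S hS n ⟶ Z₃ S hS (n + 1) := cokernel.π (st S hS n).φ.τ₃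

lemma hz₁ (n : ℕ) : ι₁ S hS n ≫ π₁ S hS n = 0 := cokernel.condition _
lemma hz₂ (n : ℕ) : ι₂ S hS n ≫ π₂ S hS n = 0 := cokernel.condition _
lemma hz₃ (n : ℕ) : ι₃ S hS n ≫ π₃ S hS n = 0 := cokernel.condition _

lemma hS₁ (n : ℕ) : (ShortComplex.mk (ι₁ S hS n) (π₁ S hS n) (hz₁ S hS n)).ShortExact :=
  cokernel_ses (st S hS n).φ.τ₁
lemma hS₂ (n : ℕ) : (ShortComplex.mk (ι₂ S hS n) (π₂ S hS n) (hz₂ S hS n)).ShortExact :=
  cokernel_ses (st S hS n).φ.τ₂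
lemma hS₃ (n : ℕ) : (ShortComplex.mk (ι₃ S hS n) (π₃ S hS n) (hz₃ S hS n)).ShortExact :=
  cokernel_ses (st S hS n).φ.τ₃

instance (n : ℕ) : Injective (J₁ S hS n) := by unfold J₁; infer_instance
instance (n : ℕ) : Injective (J₂ S hS n) := by unfold J₂; infer_instance
instance (n : ℕ) : Injective (J₃ S hS n) := by unfold J₃; infer_instance

noncomputable def fZ (n : ℕ) : Z₁ S hS n ⟶ Z₂ S hS n := (st S hS n).S.f
noncomputable def gZ (n : ℕ) : Z₂ S hS n ⟶ Z₃ S hS n := (st S hS n).S.g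
noncomputable def fJ (n : ℕ) : J₁ S hS n ⟶ J₂ S hS n := (st S hS n).J.f
noncomputable def gJ (n : ℕ) : J₂ S hS n ⟶ J₃ S hS n := (st S hS n).J.g

lemma hιf (n : ℕ) : ι₁ S hS n ≫ fJ S hS n = fZ S hS n ≫ ι₂ S hS n := (st S hS n).φ.comm₁₂
lemma hιg (n : ℕ) : ι₂ S hS n ≫ gJ S hS n = gZ S hS n ≫ ι₃ S hS n := (st S hS n).φ.comm₂₃
lemma hπf (n : ℕ) : π₁ S hS n ≫ fZ S hS (n + 1) = fJ S hS n ≫ π₂ S hS n :=
  cokernel.π_desc _ _ _
lemma hπg (n : ℕ) : π₂ S hS n ≫ gZ S hS (n + 1) = gJ S hS n ≫ π₃ S hS n :=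
  cokernel.π_desc _ _ _

/-- the horseshoe resolution. -/
noncomputable def horseshoe : SESRes S where
  I₁ := cospliceRes (Z₁ S hS) (J₁ S hS) (ι₁ S hS) (π₁ S hS) (hz₁ S hS) (hS₁ S hS) inferInstance
  I₂ := cospliceRes (Z₂ S hS) (J₂ S hS) (ι₂ S hS) (π₂ S hS) (hz₂ S hS) (hS₂ S hS) inferInstance
  I₃ := cospliceRes (Z₃ S hS) (J₃ S hS) (ι₃ S hS) (π₃ S hS) (hz₃ S hS) (hS₃ S hS) inferInstance
  f := cospliceMap (fZ S hS) (fJ S hS) (hιf S hS) (hπf S hS)
  g := cospliceMap (gZ S hS) (gJ S hS) (hιg S hS) (hπg S hS)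
  zero := by
    ext n
    rw [HomologicalComplex.comp_f, cospliceMap_f, cospliceMap_f, HomologicalComplex.zero_f]
    exact (st S hS n).J.zero
  ι_f := cospliceι_comp_cospliceMap _ _ _ _
  ι_g := cospliceι_comp_cospliceMap _ _ _ _
  shortExact := by
    apply HomologicalComplex.shortExact_of_degreewise_shortExact
    intro n
    exact (st S hS n).J_shortExact

end

theorem nonempty_sesRes (S : ShortComplex C) (hS : S.ShortExact) : Nonempty (SESRes S) :=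
  ⟨horseshoe S hS⟩

end Groth.Agent.Lib.Helper17.RDerLib
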