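import Groth.Agent.Lib.Helper17RDer1
import Groth.Agent.Lib.Helper17RDer5

/-! The long exact sequence of right derived functors (helper17). -/
set_option autoImplicit false
set_option backward.isDefEq.respectTransparency false
universe v u v' u'
open CategoryTheory CategoryTheory.Limits

namespace Groth.Agent.Lib.Helper17.RDerLib

open RDer

variable {C : Type u} [Category.{v} C] [Abelian C] [HasInjectiveResolutions C]
  {D : Type u'} [Category.{v'} D] [Abelian D] (F : C ⥤ D) [F.Additive]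
  {S : ShortComplex C} (T : SESRes S)

/-- the short exact sequence of complexes `F I₁ → F I₂ → F I₃`. -/
noncomputable abbrev E : ShortComplex (CochainComplex D ℕ) :=
  T.cx.map (F.mapHomologicalComplex (ComplexShape.up ℕ))

lemma nat_f (n : ℕ) :
    (F.rightDerived n).map S.f ≫ (T.I₂.isoRightDerivedObj F n).hom =
      (T.I₁.isoRightDerivedObj F n).hom ≫ HomologicalComplex.homologyMap (E F T).f n := by
  have c : T.I₁.ι.f 0 ≫ T.f.f 0 = S.f ≫ T.I₂.ι.f 0 := by
    have := HomologicalComplex.congr_hom T.ι_f 0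
    rwa [HomologicalComplex.comp_f, HomologicalComplex.comp_f,
      CochainComplex.single₀_map_f_zero] at this
  exact InjectiveResolution.isoRightDerivedObj_hom_naturality S.f T.I₁ T.I₂ T.f c F n

lemma nat_g (n : ℕ) :
    (F.rightDerived n).map S.g ≫ (T.I₃.isoRightDerivedObj F n).hom =
      (T.I₂.isoRightDerivedObj F n).hom ≫ HomologicalComplex.homologyMap (E F T).g n := by
  have c : T.I₂.ι.f 0 ≫ T.g.f 0 = S.g ≫ T.I₃.ι.f 0 := by
    have := HomologicalComplex.congr_hom T.ι_g 0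
    rwa [HomologicalComplex.comp_f, HomologicalComplex.comp_f,
      CochainComplex.single₀_map_f_zero] at this
  exact InjectiveResolution.isoRightDerivedObj_hom_naturality S.g T.I₂ T.I₃ T.g c F n

lemma nat_δ (n₀ n₁ : ℕ) (h : n₀ + 1 = n₁) :
    T.delta F n₀ n₁ h ≫ (T.I₁.isoRightDerivedObj F n₁).hom =
      (T.I₃.isoRightDerivedObj F n₀).hom ≫ (T.map_shortExact F).δ n₀ n₁ h :=
  T.delta_comp_isoRightDerivedObj_hom F n₀ n₁ h

include T in
theorem exact₂ (n : ℕ) :
    (ShortComplex.mk ((F.rightDerived n).map S.f) ((F.rightDerived n).map S.g)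
      (by rw [← Functor.map_comp, S.zero, Functor.map_zero])).Exact := by
  refine (ShortComplex.exact_iff_of_iso (ShortComplex.isoMk (T.I₁.isoRightDerivedObj F n)
    (T.I₂.isoRightDerivedObj F n) (T.I₃.isoRightDerivedObj F n) ?_ ?_)).2
    ((T.map_shortExact F).homology_exact₂ n)
  · exact (nat_f F T n).symm
  · exact (nat_g F T n).symm

theorem comp_δ (n₀ n₁ : ℕ) (h : n₀ + 1 = n₁) :
    (F.rightDerived n₀).map S.g ≫ T.delta F n₀ n₁ h = 0 := by
  rw [← cancel_mono (T.I₁.isoRightDerivedObj F n₁).hom, Category.assoc, nat_δ, ← Category.assoc,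
    nat_g, Category.assoc, zero_comp]
  erw [(T.map_shortExact F).comp_δ n₀ n₁ h]
  rw [comp_zero]

theorem exact₃ (n₀ n₁ : ℕ) (h : n₀ + 1 = n₁) :
    (ShortComplex.mk _ _ (comp_δ F T n₀ n₁ h)).Exact := by
  refine (ShortComplex.exact_iff_of_iso (ShortComplex.isoMk (T.I₂.isoRightDerivedObj F n₀)
    (T.I₃.isoRightDerivedObj F n₀) (T.I₁.isoRightDerivedObj F n₁) ?_ ?_)).2
    ((T.map_shortExact F).homology_exact₃ n₀ n₁ h)
  · exact (nat_g F T n₀).symm
  · exact (nat_δ F T n₀ n₁ h).symm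

theorem δ_comp (n₀ n₁ : ℕ) (h : n₀ + 1 = n₁) :
    T.delta F n₀ n₁ h ≫ (F.rightDerived n₁).map S.f = 0 := by
  rw [← cancel_mono (T.I₂.isoRightDerivedObj F n₁).hom, Category.assoc, nat_f, ← Category.assoc,
    nat_δ, Category.assoc, zero_comp]
  erw [(T.map_shortExact F).δ_comp n₀ n₁ h]
  rw [comp_zero]

theorem exact₁ (n₀ n₁ : ℕ) (h : n₀ + 1 = n₁) :
    (ShortComplex.mk _ _ (δ_comp F T n₀ n₁ h)).Exact := by
  refine (ShortComplex.exact_iff_of_iso (ShortComplex.isoMk (T.I₃.isoRightDerivedObj F n₀)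
    (T.I₁.isoRightDerivedObj F n₁) (T.I₂.isoRightDerivedObj F n₁) ?_ ?_)).2
    ((T.map_shortExact F).homology_exact₁ n₀ n₁ h)
  · exact (nat_δ F T n₀ n₁ h).symm
  · exact (nat_f F T n₁).symm

end Groth.Agent.Lib.Helper17.RDerLib
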