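import Mathlib
import Groth.Prelude.Def_Coh
import Groth.Prelude.Def_Canon
import Groth.Agent.Lib.Helper27CohFin
import Groth.Agent.Lib.Helper21ModCoh
import Groth.Agent.Lib.Helper21FreeConst
import Groth.Agent.Lib.Helper17RDer6
import Groth.Agent.Lib.Helper17QCPush2

/-!
# Helper17: global sections as a functor to `ModuleCat A`, and the linear comparison of its right
derived functors with Zariski cohomology `Coh.HH`

For `f : X ⟶ Spec A`, `gammaA f : X.Modules ⥤ ModuleCat A` is `M ↦ Γ(X, M)`; it is left exact and its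
right derived functors are `A`-linearly isomorphic to `Coh.HH X M n` (with the frozen module structure
`Coh.moduleOver`).
-/

set_option autoImplicit false
universe u
open CategoryTheory Limits AlgebraicGeometry Opposite

namespace Groth.Agent.Lib.Helper17.GammaA

/-- global sections of modules on `Spec A`, as `A`-modules. -/
noncomputable def gS (A : Type u) [CommRing A] :
    (Spec (CommRingCat.of A)).Modules ⥤ ModuleCat.{u} A :=
  moduleSpecΓFunctor (R := CommRingCat.of A)

noncomputable instance (A : Type u) [CommRing A] : (gS A).IsRightAdjoint :=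
  (tilde.adjunction (R := CommRingCat.of A)).isRightAdjoint

attribute [local instance] preservesBinaryBiproducts_of_preservesBinaryProducts in
noncomputable instance (A : Type u) [CommRing A] : (gS A).Additive :=
  Functor.additive_of_preservesBinaryBiproducts _

variable {A : Type u} [CommRing A] {X : Scheme.{u}}

/-- global sections of `O_X`-modules, as `A`-modules, for `f : X ⟶ Spec A`. -/
noncomputable def gammaA (f : X ⟶ Spec (CommRingCat.of A)) : X.Modules ⥤ ModuleCat.{u} A :=
  Scheme.Modules.pushforward f ⋙ gS A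

noncomputable instance (f : X ⟶ Spec (CommRingCat.of A)) : (gammaA f).Additive := by
  unfold gammaA; infer_instance

noncomputable instance (f : X ⟶ Spec (CommRingCat.of A)) : PreservesLimits (gammaA f) := by
  unfold gammaA; infer_instance

noncomputable instance (f : X ⟶ Spec (CommRingCat.of A)) : PreservesFiniteLimits (gammaA f) :=
  inferInstance

theorem smul_eq (f : X ⟶ Spec (CommRingCat.of A)) (M : X.Modules) (a : A)
    (s : (gammaA f).obj M) :
    a • s = ((Coh.smulAb M (Coh.toGlobal f a)).hom.app (op ⊤)) s := by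
  change a • s = @HSMul.hSMul (X.ringCatSheaf.obj.obj (op ⊤)) (M.val.obj (op ⊤))
    (M.val.obj (op ⊤)) _ (Coh.resTop X (op ⊤) (Coh.toGlobal f a)) s
  have h1 : Coh.resTop X (op ⊤) (Coh.toGlobal f a) = Coh.toGlobal f a := by
    change (X.ringCatSheaf.obj.map (𝟙 (op ⊤))).hom _ = _
    rw [X.ringCatSheaf.obj.map_id]
    rfl
  rw [h1]
  rfl

section Over

variable (A) [X.Over (Spec (CommRingCat.of A))]

/-- the functor `Γ(X, -)` with values in `A`-modules, for `X` over `Spec A`. -/
noncomputable abbrev Γ : X.Modules ⥤ ModuleCat.{u} A := gammaA (X ↘ Spec (CommRingCat.of A))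

/-- `Γ(X, M) ≃ H⁰(X, M)`, `A`-linearly. -/
noncomputable def e0 (M : X.Modules) : (Γ (X := X) A).obj M ≃ₗ[A] Coh.HH X M 0 where
  toFun s := (Sheaf.H.equiv₀ (Coh.toAb M) isTerminalTop).symm s
  invFun x := Sheaf.H.equiv₀ (Coh.toAb M) isTerminalTop x
  left_inv s := (Sheaf.H.equiv₀ (Coh.toAb M) isTerminalTop).apply_symm_apply s
  right_inv x := (Sheaf.H.equiv₀ (Coh.toAb M) isTerminalTop).symm_apply_apply x
  map_add' s t := map_add (Sheaf.H.equiv₀ (Coh.toAb M) isTerminalTop).symm s t
  map_smul' a s := by
    change (Sheaf.H.equiv₀ (Coh.toAb M) isTerminalTop).symm (a • s) =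
      Sheaf.H.map (Coh.smulAb M (Coh.toGlobal (X ↘ Spec (CommRingCat.of A)) a)) 0
        ((Sheaf.H.equiv₀ (Coh.toAb M) isTerminalTop).symm s)
    rw [Sheaf.H.equiv₀_symm_naturality, smul_eq]

theorem e0_naturality {M N : X.Modules} (φ : M ⟶ N) (s : (Γ (X := X) A).obj M) :
    Canon.HHlin A φ 0 (e0 A M s) = e0 A N (((Γ (X := X) A).map φ).hom s) := by
  change Sheaf.H.map ((SheafOfModules.toSheaf X.ringCatSheaf).map φ) 0
    ((Sheaf.H.equiv₀ (Coh.toAb M) isTerminalTop).symm s) = _
  rw [Sheaf.H.equiv₀_symm_naturality]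
  rfl

end Over

end Groth.Agent.Lib.Helper17.GammaA
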