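import Groth.Agent.Lib.Helper27CohFin

/-!
# The long exact cohomology sequence for `Coh.HH`, with naturality (helper17)

Elementwise exactness of `… → H^i(X₁) → H^i(X₂) → H^i(X₃) →δ H^{i+1}(X₁) → …` for a short exact
sequence of `O_X`-modules (in terms of helper27's `delta`), and naturality of `δ` with respect to
morphisms of short exact sequences.
-/

set_option autoImplicit false
universe u
open CategoryTheory Limits AlgebraicGeometry TopologicalSpace Opposite Abelian

namespace Groth.Agent.Lib.Helper17.HHLes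

open Groth.Agent.Lib.Helper27CohFin Groth.Agent.Lib.Helper23.QCohLocal

variable {X : Scheme.{u}}

/-- the map on cohomology induced by a morphism of modules. -/
noncomputable abbrev Hm {M N : X.Modules} (φ : M ⟶ N) (i : ℕ) : Coh.HH X M i →+ Coh.HH X N i :=
  Sheaf.H.map ((SheafOfModules.toSheaf X.ringCatSheaf).map φ) i

theorem Hm_comp {M N P : X.Modules} (φ : M ⟶ N) (ψ : N ⟶ P) (i : ℕ) (x : Coh.HH X M i) :
    Hm ψ i (Hm φ i x) = Hm (φ ≫ ψ) i x := by
  change Sheaf.H.map ((toAbF X).map ψ) i (Sheaf.H.map ((toAbF X).map φ) i x) =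
    Sheaf.H.map ((toAbF X).map (φ ≫ ψ)) i x
  rw [Functor.map_comp, Sheaf.H.map_comp_apply]

theorem Hm_id (M : X.Modules) (i : ℕ) (x : Coh.HH X M i) : Hm (𝟙 M) i x = x := by
  change Sheaf.H.map ((toAbF X).map (𝟙 M)) i x = x
  rw [CategoryTheory.Functor.map_id, Sheaf.H.map_id_apply]

theorem Hm_zero {M N : X.Modules} (i : ℕ) (x : Coh.HH X M i) : Hm (0 : M ⟶ N) i x = 0 := by
  change Sheaf.H.map ((toAbF X).map (0 : M ⟶ N)) i x = 0
  rw [Functor.map_zero]
  change x.comp (Ext.mk₀ 0) (add_zero i) = 0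
  rw [Ext.mk₀_zero, Ext.comp_zero]

section

variable (S : ShortComplex X.Modules)


theorem Hm_g_f (i : ℕ) (x : Coh.HH X S.X₁ i) : Hm S.g i (Hm S.f i x) = 0 := by
  rw [Hm_comp, S.zero, Hm_zero]

variable (hS : S.ShortExact)

include hS in
theorem exact₂ (i : ℕ) (x : Coh.HH X S.X₂ i) (hx : Hm S.g i x = 0) :
    ∃ y : Coh.HH X S.X₁ i, Hm S.f i y = x :=
  Ext.covariant_sequence_exact₂ _ (shortExact_toAbF S hS) x hx

theorem exact₁ (i : ℕ) (x : Coh.HH X S.X₁ (i + 1)) (hx : Hm S.f (i + 1) x = 0) :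
    ∃ y : Coh.HH X S.X₃ i, delta S hS i y = x :=
  Ext.covariant_sequence_exact₁ _ (shortExact_toAbF S hS) x hx rfl

theorem exact₃ (i : ℕ) (x : Coh.HH X S.X₃ i) (hx : delta S hS i x = 0) :
    ∃ y : Coh.HH X S.X₂ i, Hm S.g i y = x :=
  exact_delta S hS i x hx

theorem delta_Hm_g (i : ℕ) (y : Coh.HH X S.X₂ i) : delta S hS i (Hm S.g i y) = 0 :=
  delta_map S hS i y

theorem Hm_f_delta (i : ℕ) (y : Coh.HH X S.X₃ i) : Hm S.f (i + 1) (delta S hS i y) = 0 := by
  have h := (shortExact_toAbF S hS).extClass_comp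
  exact (Ext.comp_assoc_of_third_deg_zero y (shortExact_toAbF S hS).extClass
      (Ext.mk₀ ((toAbF X).map S.f)) rfl).trans
    ((congrArg (fun z => y.comp z rfl) h).trans (Ext.comp_zero _ _ _ _ _))

end

/-- naturality of the connecting homomorphism. -/
theorem delta_naturality {S S' : ShortComplex X.Modules} (hS : S.ShortExact)
    (hS' : S'.ShortExact) (φ : S ⟶ S') (i : ℕ) (x : Coh.HH X S.X₃ i) :
    delta S' hS' i (Hm φ.τ₃ i x) = Hm φ.τ₁ (i + 1) (delta S hS i x) := by
  have hnat := ShortComplex.ShortExact.extClass_naturality (shortExact_toAbF S hS)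
    (shortExact_toAbF S' hS') ((toAbF X).mapShortComplex.map φ)
  exact (Ext.comp_assoc_of_second_deg_zero x (Ext.mk₀ ((toAbF X).map φ.τ₃))
      (shortExact_toAbF S' hS').extClass rfl).trans
    ((congrArg (fun z => x.comp z rfl) hnat.symm).trans
      (Ext.comp_assoc_of_third_deg_zero x (shortExact_toAbF S hS).extClass
        (Ext.mk₀ ((toAbF X).map φ.τ₁)) rfl).symm)

end Groth.Agent.Lib.Helper17.HHLes
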