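import Groth.Agent.Lib.Helper17QCPush3
import Groth.Agent.Lib.Helper1RpushRes

/-!
# `Rf_*` of a quasi-coherent module has quasi-coherent cohomology for qcqs `f`: general base
(helper17)
-/

set_option autoImplicit false

universe u

open CategoryTheory CategoryTheory.Limits AlgebraicGeometry TopologicalSpace Opposite
  DerivedCategory Pretriangulated

attribute [local instance] HasDerivedCategory.standard

namespace Groth.Agent.Lib.Helper17.QCPush

open Groth.Agent.Lib.Helper17.MV Groth.Agent.Lib.Helper23.QCohLocal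

attribute [local instance] hasRpush

variable {X S : Scheme.{u}}

/-- For `f : X ⟶ S` quasi-compact and quasi-separated and `M` quasi-coherent, `Rf_*(M[0])` has
quasi-coherent cohomology. -/
theorem isQCohD_rpush_inD (f : X ⟶ S) [QuasiCompact f] [QuasiSeparated f]
    (M : X.Modules) [M.IsQuasicoherent] :
    DCoh.IsQCohD ((DCoh.Rpush f).obj (DCoh.inD X M)) := by
  intro k
  refine Groth.Agent.Lib.Helper23.FinType.isQuasicoherent_of_open_cover _
    (fun V : S.affineOpens => V.1) (iSup_affineOpens_eq_top S) (fun V => ?_)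
  obtain ⟨e⟩ := Groth.Agent.Lib.Helper1.RpushRes.nonempty_rpush_restrict_iso f V.1
  have e1 := e.app (DCoh.inD X M) ≪≫
    (DCoh.Rpush (f ∣_ V.1)).mapIso (restrictDInDIso (f ⁻¹ᵁ V.1).ι M)
  haveI : IsAffine (V.1 : Scheme.{u}) := V.2
  haveI : CompactSpace ((f ⁻¹ᵁ V.1 : X.Opens) : Scheme.{u}) :=
    QuasiCompact.compactSpace_of_compactSpace (f ∣_ V.1)
  haveI : QuasiSeparatedSpace ((f ⁻¹ᵁ V.1 : X.Opens) : Scheme.{u}) :=
    quasiSeparatedSpace_of_quasiSeparated (f ∣_ V.1)
  have h2 := isQCohD_rpush_inD_of_isAffine (f ∣_ V.1)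
    ((Scheme.Modules.restrictFunctor (f ⁻¹ᵁ V.1).ι).obj M) k
  exact isQuasicoherent_of_iso
    ((DerivedCategory.homologyFunctor _ k).mapIso e1.symm ≪≫
      Groth.Agent.Lib.Helper17.AdjWay.homologyIso (Scheme.Modules.restrictFunctor V.1.ι) _ k) h2

/-- the sheaf-level statement: `R^p f_* M` is quasi-coherent. -/
theorem isQuasicoherent_Rpush (f : X ⟶ S) [QuasiCompact f] [QuasiSeparated f]
    [HasInjectiveResolutions X.Modules] (M : X.Modules) [M.IsQuasicoherent] (p : ℕ) :
    ((Coh.Rpush f p).obj M).IsQuasicoherent := by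
  obtain ⟨e⟩ := nonempty_HD_rpush_inD_iso f M p p rfl
  exact isQuasicoherent_of_iso e (isQCohD_rpush_inD f M p)

end Groth.Agent.Lib.Helper17.QCPush
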