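import Groth.Agent.Lib.Helper17GammaZ2
import Groth.Agent.Lib.Helper17QCPush4

/-!
# The local cohomology sheaves of a quasi-coherent module are quasi-coherent (helper17)
-/

set_option autoImplicit false

universe u

open CategoryTheory CategoryTheory.Limits AlgebraicGeometry TopologicalSpace Opposite

namespace Groth.Agent.Lib.Helper17.GammaZ

open Groth.Agent.Lib.Helper17.MV Groth.Agent.Lib.Helper17.QCPush
  Groth.Agent.Lib.Helper23.QCohLocal Groth.Agent.Lib.Helper23DerLES

section

variable {U Y : Scheme.{u}} (j : U ⟶ Y) [IsOpenImmersion j]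

/-- `Γ_Z` is left exact. -/
instance preservesFiniteLimits_gammaZ : PreservesFiniteLimits (DCoh.gammaZ j) :=
  preservesFiniteLimits_of_isKernel (DCoh.gammaZ j) (𝟭 _)
    (Scheme.Modules.restrictFunctor j ⋙ Scheme.Modules.pushforward j) (CxOX.gammaZι j)
    (Scheme.Modules.restrictAdjunction j).unit (fun M => ι_unit j M) (fun M => kernelIsKernel _)

end

section Opens

variable {Y : Scheme.{u}} (V : Y.Opens)

lemma w : CxOX.gammaZι V.ι ≫ η V = 0 := by
  ext M : 2
  exact ι_unit V.ι M

lemma hex (Q : Y.Modules) (hQ : Injective Q) :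
    (ShortComplex.mk ((CxOX.gammaZι V.ι).app Q) ((η V).app Q) (by
      rw [← NatTrans.comp_app, w]; rfl)).ShortExact :=
  { exact := ShortComplex.exact_of_f_is_kernel _ (kernelIsKernel _)
    mono_f := inferInstanceAs (Mono (ι V.ι Q))
    epi_g := epi_η V Q }

instance : (Scheme.Modules.restrictFunctor V.ι).PreservesInjectiveObjects := by
  haveI := Groth.Agent.Lib.Helper1.RpushRes.preservesFiniteLimits_extZero V
  exact Functor.preservesInjectiveObjects_of_adjunction_of_preservesMonomorphisms
    (CxOX.extZeroAdj V.ι)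

variable [HasInjectiveResolutions Y.Modules]

/-- `R^q(j_* j^*) M` is quasi-coherent. -/
theorem isQuasicoherent_rightDerived_T [QuasiCompact V.ι] (M : Y.Modules) [M.IsQuasicoherent]
    (q : ℕ) : (((T V).rightDerived q).obj M).IsQuasicoherent := by
  haveI := enoughInjectives (V : Scheme.{u})
  haveI : HasInjectiveResolutions (V : Scheme.{u}).Modules := inferInstance
  have e := (Groth.Agent.Lib.Helper23DerComp.compIso (Scheme.Modules.restrictFunctor V.ι)
    (Scheme.Modules.pushforward V.ι) q).app M
  exact isQuasicoherent_of_iso e.symm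
    (isQuasicoherent_Rpush V.ι ((Scheme.Modules.restrictFunctor V.ι).obj M) q)

/-- the local cohomology sheaves of a quasi-coherent module are quasi-coherent (case of an open
subscheme). -/
theorem isQuasicoherent_rightDerived_gammaZ_opens [QuasiCompact V.ι] (M : Y.Modules)
    [M.IsQuasicoherent] (q : ℕ) :
    (((DCoh.gammaZ V.ι).rightDerived q).obj M).IsQuasicoherent := by
  haveI hT : ((T V).obj M).IsQuasicoherent :=
    isQuasicoherent_pushforward V.ι ((Scheme.Modules.restrictFunctor V.ι).obj M)
  haveI h1 : ((𝟭 Y.Modules).obj M).IsQuasicoherent := ‹M.IsQuasicoherent›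
  rcases q with _ | _ | n
  · -- `q = 0`
    have e := (Functor.rightDerivedZeroIsoSelf (DCoh.gammaZ V.ι)).app M
    exact isQuasicoherent_of_iso e.symm (isQuasicoherent_kernel ((η V).app M))
  · -- `q = 1`
    have hz : IsZero (((𝟭 Y.Modules).rightDerived 1).obj M) := isZero_rightDerived_succ_id M 0
    have hex1 := exact_β_γ_app (CxOX.gammaZι V.ι) (η V) (w V) (hex V) M
    haveI := epi_γ_app (CxOX.gammaZι V.ι) (η V) (w V) (hex V) M hz
    let e := IsColimit.coconePointUniqueUpToIso (cokernelIsCokernel ((η V).app M)) hex1.gIsCokernel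
    exact isQuasicoherent_of_iso e (isQuasicoherent_cokernel ((η V).app M))
  · -- `q = n + 2`
    haveI := isIso_δ (CxOX.gammaZι V.ι) (η V) (w V) (hex V) (n + 1)
      (fun X => isZero_rightDerived_succ_id X n) (fun X => isZero_rightDerived_succ_id X (n + 1))
    exact isQuasicoherent_of_iso
      ((asIso (δ (CxOX.gammaZι V.ι) (η V) (w V) (hex V) (n + 1))).app M)
      (isQuasicoherent_rightDerived_T V M (n + 1))

end Opens

/-- the local cohomology sheaves of a quasi-coherent module are quasi-coherent. -/
theorem isQuasicoherent_rightDerived_gammaZ {U Y : Scheme.{u}} (j : U ⟶ Y) [IsOpenImmersion j]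
    [QuasiCompact j] [HasInjectiveResolutions Y.Modules] (M : Y.Modules) [M.IsQuasicoherent]
    (q : ℕ) : (((DCoh.gammaZ j).rightDerived q).obj M).IsQuasicoherent := by
  haveI : QuasiCompact j.opensRange.ι := by
    rw [← Scheme.Hom.isoOpensRange_inv_comp j]
    infer_instance
  have e := (Groth.Agent.Lib.Helper21.DerPost.natIsoRightDerived
    (gammaZIso j j.opensRange.ι (Scheme.Opens.opensRange_ι _).symm) q).app M
  exact isQuasicoherent_of_iso e.symm (isQuasicoherent_rightDerived_gammaZ_opens j.opensRange M q)

end Groth.Agent.Lib.Helper17.GammaZ
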