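import Groth.Agent.Lib.Helper17MV9

/-!
# Supports, extension by zero and `Rj_*` (helper17)
-/

set_option autoImplicit false

universe w w₁ w₂ v v' u' u

open CategoryTheory CategoryTheory.Limits AlgebraicGeometry TopologicalSpace Opposite
  DerivedCategory Pretriangulated

attribute [local instance] HasDerivedCategory.standard

namespace Groth.Agent.Lib.Helper17.MV

open Groth.Agent.Lib.Helper17.KInj Groth.Agent.Lib.Helper17.Cpt

section Sch

variable {X : Scheme.{u}}

lemma support_subset_of_iso {M N : X.Modules} (e : M ≅ N) :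
    CohB1.support N ⊆ CohB1.support M := by
  intro x hx hM
  apply hx
  have e' := (TopCat.Presheaf.stalkFunctor AddCommGrpCat.{u} x).mapIso
    ((Scheme.Modules.toPresheaf X).mapIso e)
  exact @Equiv.subsingleton _ _ e'.symm.addCommGroupIsoToAddEquiv.toEquiv hM

/-- every map from a module on `U` whose stalks vanish over `O` to `(j_{O*} N)|_U` is zero. -/
lemma eq_zero_of_stalks (U O : X.Opens) (G : (U : Scheme.{u}).Modules)
    (hG : ∀ y : (U : Scheme.{u}), U.ι y ∈ O → Subsingleton (G.presheaf.stalk y))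
    (N : (O : Scheme.{u}).Modules)
    (φ : G ⟶ (Scheme.Modules.restrictFunctor U.ι).obj ((Scheme.Modules.pushforward O.ι).obj N)) :
    φ = 0 := by
  apply Scheme.Modules.hom_ext
  intro O'
  ext s
  rw [Scheme.Modules.Hom.zero_app]
  change (φ.app O').hom s = 0
  have hle : O' ⊓ U.ι ⁻¹ᵁ O ≤ O' := inf_le_left
  have hs : G.presheaf.map (homOfLE hle).op s = 0 := by
    refine TopCat.Presheaf.section_ext ⟨G.presheaf, G.isSheaf⟩ _ _ _ (fun y hy => ?_)
    haveI := hG y hy.2
    exact Subsingleton.elim _ _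
  have nat := φ.mapPresheaf.naturality (homOfLE hle).op
  have nat' := congrArg (fun k => k.hom s) nat
  simp only [AddCommGrpCat.hom_comp, AddMonoidHom.coe_comp, Function.comp_apply,
    Scheme.Modules.mapPresheaf_app] at nat'
  rw [hs, map_zero] at nat'
  -- the restriction map of the target is injective
  have hiso : IsIso (((Scheme.Modules.restrictFunctor U.ι).obj
      ((Scheme.Modules.pushforward O.ι).obj N)).presheaf.map (homOfLE hle).op) := by
    change IsIso (N.presheaf.map
      ((Opens.map O.ι.base).map (U.ι.opensFunctor.map (homOfLE hle))).op)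
    haveI : IsIso ((Opens.map O.ι.base).map (U.ι.opensFunctor.map (homOfLE hle))) := by
      refine ⟨homOfLE ?_, Subsingleton.elim _ _, Subsingleton.elim _ _⟩
      rintro z ⟨y, hy, hyz⟩
      refine ⟨y, ⟨hy, ?_⟩, hyz⟩
      change U.ι y ∈ O
      have h2 : U.ι y = O.ι z := hyz
      rw [h2]
      exact z.2
    infer_instance
  have hinj := (ConcreteCategory.bijective_of_isIso
    (((Scheme.Modules.restrictFunctor U.ι).obj
      ((Scheme.Modules.pushforward O.ι).obj N)).presheaf.map (homOfLE hle).op)).1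
  apply hinj
  rw [map_zero]
  exact nat'.symm

/-- the extension by zero of a module on `U` whose stalks vanish over `O` restricts to zero
on `O`. -/
lemma isZero_restrict_extZero (U O : X.Opens) (G : (U : Scheme.{u}).Modules)
    (hG : ∀ y : (U : Scheme.{u}), U.ι y ∈ O → Subsingleton (G.presheaf.stalk y)) :
    IsZero ((Scheme.Modules.restrictFunctor O.ι).obj ((CxOX.extZero U.ι).obj G)) := by
  rw [IsZero.iff_id_eq_zero]
  apply ((Scheme.Modules.restrictAdjunction O.ι).homEquiv _ _).injective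
  apply ((CxOX.extZeroAdj U.ι).homEquiv _ _).injective
  rw [eq_zero_of_stalks U O G hG _ ((CxOX.extZeroAdj U.ι).homEquiv _ _
    ((Scheme.Modules.restrictAdjunction O.ι).homEquiv _ _ (𝟙 _)))]
  rw [Adjunction.homEquiv_unit, Adjunction.homEquiv_unit, Functor.map_zero, comp_zero,
    Functor.map_zero, comp_zero]

/-- the unit of `j_! ⊣ j^*` is an isomorphism. -/
instance isIso_extZero_unit (U : X.Opens) : IsIso (CxOX.extZeroAdj U.ι).unit := by
  let t : Adjunction.Triple (CxOX.extZero U.ι) (Scheme.Modules.restrictFunctor U.ι)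
      (Scheme.Modules.pushforward U.ι) :=
    ⟨CxOX.extZeroAdj U.ι, Scheme.Modules.restrictAdjunction U.ι⟩
  exact t.isIso_unit_iff_isIso_counit.2 (inferInstanceAs
    (IsIso (Scheme.Modules.restrictAdjunction U.ι).counit))

/-- the open complement of a closed set. -/
def complOpen (T : Set X) (hT : IsClosed T) : X.Opens := ⟨Tᶜ, hT.isOpen_compl⟩

lemma sup_complOpen (U : X.Opens) (T : Set X) (hT : IsClosed T) (hTU : T ⊆ (U : Set X)) :
    U ⊔ complOpen T hT = ⊤ := by
  ext x
  simp only [Opens.coe_sup, Set.mem_union, SetLike.mem_coe, Opens.coe_top, Set.mem_univ, iff_true]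
  by_cases hx : x ∈ T
  · exact Or.inl (hTU hx)
  · exact Or.inr hx

lemma disjoint_complOpen (T : Set X) (hT : IsClosed T) :
    Disjoint ((complOpen T hT : X.Opens) : Set X) T :=
  Set.disjoint_left.2 fun _ hx hxT => hx hxT

lemma disjoint_inf_complOpen (U : X.Opens) (T : Set X) (hT : IsClosed T) :
    Disjoint ((U ⊓ complOpen T hT : X.Opens) : Set X) T :=
  Set.disjoint_left.2 fun _ hx hxT => hx.2 hxT

/-- the homology of a model computes the cohomology sheaves. -/
noncomputable def homologyIso {Y : Scheme.{u}} {E : DCoh.D Y} (J : CochainComplex Y.Modules ℤ)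
    (e : E ≅ (Q : _ ⥤ DCoh.D Y).obj J) (i : ℤ) : DCoh.HD E i ≅ J.homology i :=
  (DerivedCategory.homologyFunctor Y.Modules i).mapIso e ≪≫
    (DerivedCategory.homologyFunctorFactors Y.Modules i).app J

/-- **Part 1**: an object with cohomology supported in a closed `T ⊆ U` is `Rj_*` of its
restriction to `U`. -/
theorem nonempty_iso_rpush_restrict_of_support (U : X.Opens) [DCoh.HasRpush U.ι] (T : Set X)
    (hT : IsClosed T) (hTU : T ⊆ (U : Set X)) (E : DCoh.D X)
    (hE : ∀ i : ℤ, CohB1.support (DCoh.HD E i) ⊆ T) :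
    Nonempty (E ≅ (DCoh.Rpush U.ι).obj ((DCoh.restrictD U.ι).obj E)) := by
  obtain ⟨J, hJK, hJinj, ⟨e⟩⟩ := exists_model E
  haveI := hJK
  have hsupp : ∀ i, CohB1.support (J.homology i) ⊆ T := fun i =>
    (support_subset_of_iso (homologyIso J e i)).trans (hE i)
  refine nonempty_iso_rpush_restrict U (complOpen T hT) (sup_complOpen U T hT hTU) E J hJinj e
    ?_ ?_
  · exact acyclic_map_of_isZero _ J (fun i =>
      isZero_restrict_of_support _ _ T (hsupp i) (disjoint_complOpen T hT))
  · exact acyclic_map_of_isZero _ J (fun i =>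
      isZero_restrict_of_support _ _ T (hsupp i) (disjoint_inf_complOpen U T hT))

/-- **Part 2**: for `F` on `U` with cohomology supported in `T` closed in `X`,
`j_! F ≅ Rj_* F`. -/
theorem nonempty_iso_extZeroD_rpush (U : X.Opens) [DCoh.HasRpush U.ι]
    [PreservesFiniteLimits (CxOX.extZero U.ι)] (T : Set X) (hT : IsClosed T)
    (hTU : T ⊆ (U : Set X)) (F : DCoh.D (U : Scheme.{u}))
    (hF : ∀ i : ℤ, (fun x : (U : Scheme.{u}) => U.ι.base x) '' CohB1.support (DCoh.HD F i) ⊆ T) :
    Nonempty ((CxOX.extZeroD U.ι).obj F ≅ (DCoh.Rpush U.ι).obj F) := by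
  obtain ⟨K, ⟨eF⟩⟩ : ∃ K : CochainComplex (U : Scheme.{u}).Modules ℤ,
      Nonempty (F ≅ (Q : _ ⥤ DCoh.D (U : Scheme.{u})).obj K) :=
    ⟨_, ⟨((Q : _ ⥤ DCoh.D (U : Scheme.{u})).objObjPreimageIso F).symm⟩⟩
  have eE' : (CxOX.extZeroD U.ι).obj F ≅ (Q : _ ⥤ DCoh.D X).obj
      (((CxOX.extZero U.ι).mapHomologicalComplex (ComplexShape.up ℤ)).obj K) :=
    (CxOX.extZeroD U.ι).mapIso eF ≪≫ (CxOX.extZero U.ι).mapDerivedCategoryFactors.app K
  have r : (DCoh.restrictD U.ι).obj ((CxOX.extZeroD U.ι).obj F) ≅ F :=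
    (DCoh.restrictD U.ι).mapIso eE' ≪≫
      (Scheme.Modules.restrictFunctor U.ι).mapDerivedCategoryFactors.app _ ≪≫
      (Q : _ ⥤ DCoh.D (U : Scheme.{u})).mapIso ((NatIso.mapHomologicalComplex
        (asIso (CxOX.extZeroAdj U.ι).unit).symm (ComplexShape.up ℤ)).app K) ≪≫ eF.symm
  obtain ⟨J, hJK, hJinj, ⟨e⟩⟩ := exists_model ((CxOX.extZeroD U.ι).obj F)
  haveI := hJK
  have hJ : ∀ i, J.homology i ≅ (CxOX.extZero U.ι).obj (K.homology i) := fun i =>
    (homologyIso J e i).symm ≪≫ homologyIso _ eE' i ≪≫ (K.sc i).mapHomologyIso (CxOX.extZero U.ι)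
  have hst : ∀ (i : ℤ) (O : X.Opens), Disjoint (O : Set X) T → ∀ y : (U : Scheme.{u}),
      U.ι y ∈ O → Subsingleton ((K.homology i).presheaf.stalk y) := by
    intro i O hO y hy
    by_contra hns
    have h1 : y ∈ CohB1.support (DCoh.HD F i) :=
      support_subset_of_iso (homologyIso K eF i) hns
    exact Set.disjoint_left.1 hO hy (hF i ⟨y, h1, rfl⟩)
  have hac : ∀ O : X.Opens, Disjoint (O : Set X) T →
      (((Scheme.Modules.restrictFunctor O.ι).mapHomologicalComplex
        (ComplexShape.up ℤ)).obj J).Acyclic := fun O hO =>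
    acyclic_map_of_isZero _ J (fun i =>
      IsZero.of_iso (isZero_restrict_extZero U O (K.homology i) (hst i O hO))
        ((Scheme.Modules.restrictFunctor O.ι).mapIso (hJ i)))
  obtain ⟨iso⟩ := nonempty_iso_rpush_restrict U (complOpen T hT) (sup_complOpen U T hT hTU)
    ((CxOX.extZeroD U.ι).obj F) J hJinj e (hac _ (disjoint_complOpen T hT))
    (hac _ (disjoint_inf_complOpen U T hT))
  exact ⟨iso ≪≫ (DCoh.Rpush U.ι).mapIso r⟩

end Sch

end Groth.Agent.Lib.Helper17.MV
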