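import Groth.Agent.Lib.Helper17RDExist
import Groth.Agent.Lib.Helper17MV10
import Groth.Agent.Lib.Helper23QCohExt
import Groth.Agent.Lib.Helper23QCohLocal

/-!
# `D_QCoh` is a triangulated subcategory; general existence of `Rf_*` (helper17)
-/

set_option autoImplicit false

universe u

open CategoryTheory CategoryTheory.Limits AlgebraicGeometry TopologicalSpace Opposite
  DerivedCategory Pretriangulated

attribute [local instance] HasDerivedCategory.standard

namespace Groth.Agent.Lib.Helper17.QCPush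

open Groth.Agent.Lib.Helper17.MV Groth.Agent.Lib.Helper23.QCohLocal

/-- `Rf_*` exists for every morphism of schemes. -/
theorem hasRpush {X Y : Scheme.{u}} (f : X ⟶ Y) : DCoh.HasRpush f :=
  haveI := isGrothendieckAbelian X
  Groth.Agent.Lib.Helper17.RDExist.hasRightDerivedFunctor.{u} _

section Abelian

variable {X : Scheme.{u}}

lemma isQuasicoherent_of_iso {M N : X.Modules} (e : M ≅ N) (h : M.IsQuasicoherent) :
    N.IsQuasicoherent :=
  (SheafOfModules.isQuasicoherent X.ringCatSheaf).prop_of_iso e h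

lemma isQuasicoherent_of_isZero {M : X.Modules} (h : IsZero M) : M.IsQuasicoherent := by
  haveI hF : (SheafOfModules.free (R := X.ringCatSheaf) PUnit.{u+1}).IsQuasicoherent :=
    inferInstance
  let F : X.Modules := SheafOfModules.free (R := X.ringCatSheaf) PUnit.{u+1}
  haveI : F.IsQuasicoherent := hF
  have hk := isQuasicoherent_kernel (𝟙 F)
  exact isQuasicoherent_of_iso ((isZero_kernel_of_mono (𝟙 F)).iso h) hk

/-- In an exact sequence `X₁ ⟶ X₂ ⟶ X₃ ⟶ X₄ ⟶ X₅` with `X₁, X₂, X₄, X₅` quasi-coherent, `X₃` is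
quasi-coherent. -/
theorem isQuasicoherent_of_exact {X₁ X₂ X₃ X₄ X₅ : X.Modules} (f₁ : X₁ ⟶ X₂) (f₂ : X₂ ⟶ X₃)
    (f₃ : X₃ ⟶ X₄) (f₄ : X₄ ⟶ X₅) (w₁ : f₁ ≫ f₂ = 0) (w₂ : f₂ ≫ f₃ = 0) (w₃ : f₃ ≫ f₄ = 0)
    (h₁ : (ShortComplex.mk f₁ f₂ w₁).Exact) (h₂ : (ShortComplex.mk f₂ f₃ w₂).Exact)
    (h₃ : (ShortComplex.mk f₃ f₄ w₃).Exact)
    [X₁.IsQuasicoherent] [X₂.IsQuasicoherent] [X₄.IsQuasicoherent] [X₅.IsQuasicoherent] :
    X₃.IsQuasicoherent := by
  have hC : (cokernel f₁).IsQuasicoherent := isQuasicoherent_cokernel f₁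
  have hK : (kernel f₄).IsQuasicoherent := isQuasicoherent_kernel f₄
  -- the short complex `coker f₁ ⟶ X₃ ⟶ ker f₄`
  let c : cokernel f₁ ⟶ X₃ := cokernel.desc f₁ f₂ w₁
  let k : X₃ ⟶ kernel f₄ := kernel.lift f₄ f₃ w₃
  have wck : c ≫ k = 0 := by
    rw [← cancel_epi (cokernel.π f₁), ← cancel_mono (kernel.ι f₄)]
    simp [c, k, w₂]
  haveI : Mono c := (ShortComplex.exact_iff_mono_cokernel_desc _).1 h₁
  haveI : Epi k := (ShortComplex.exact_iff_epi_kernel_lift _).1 h₃
  have wk : f₂ ≫ k = 0 := by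
    rw [← cancel_mono (kernel.ι f₄)]
    simp [k, w₂]
  -- exactness in the middle
  have e1 : (ShortComplex.mk f₂ k wk).Exact := by
    let ψ : ShortComplex.mk f₂ k wk ⟶ ShortComplex.mk f₂ f₃ w₂ :=
      { τ₁ := 𝟙 _, τ₂ := 𝟙 _, τ₃ := kernel.ι f₄
        comm₁₂ := by simp
        comm₂₃ := by simp [k] }
    haveI : Epi ψ.τ₁ := by dsimp [ψ]; infer_instance
    haveI : IsIso ψ.τ₂ := by dsimp [ψ]; infer_instance
    haveI : Mono ψ.τ₃ := by dsimp [ψ]; infer_instance
    exact (ShortComplex.exact_iff_of_epi_of_isIso_of_mono ψ).2 h₂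
  have e2 : (ShortComplex.mk c k wck).Exact := by
    let φ : ShortComplex.mk f₂ k wk ⟶ ShortComplex.mk c k wck :=
      { τ₁ := cokernel.π f₁, τ₂ := 𝟙 _, τ₃ := 𝟙 _
        comm₁₂ := by simp [c]
        comm₂₃ := by simp }
    haveI : Epi φ.τ₁ := by dsimp [φ]; infer_instance
    haveI : IsIso φ.τ₂ := by dsimp [φ]; infer_instance
    haveI : Mono φ.τ₃ := by dsimp [φ]; infer_instance
    exact (ShortComplex.exact_iff_of_epi_of_isIso_of_mono φ).1 e1
  have hS : (ShortComplex.mk c k wck).ShortExact := { exact := e2 }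
  exact isQuasicoherent_of_shortExact _ hS hC hK

end Abelian

section Tri

variable {S : Scheme.{u}}

lemma isQCohD_of_iso {A B : DCoh.D S} (e : A ≅ B) (h : DCoh.IsQCohD A) : DCoh.IsQCohD B :=
  fun i => isQuasicoherent_of_iso ((DerivedCategory.homologyFunctor S.Modules i).mapIso e) (h i)

lemma isQCohD_biprod {A B : DCoh.D S} (hA : DCoh.IsQCohD A) (hB : DCoh.IsQCohD B) :
    DCoh.IsQCohD (A ⊞ B) := fun i => by
  haveI : (DCoh.HD A i).IsQuasicoherent := hA i
  haveI : (DCoh.HD B i).IsQuasicoherent := hB i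
  haveI : PreservesBinaryBiproduct A B (DerivedCategory.homologyFunctor S.Modules i) :=
    preservesBinaryBiproduct_of_preservesBinaryProduct _
  exact isQuasicoherent_of_iso ((DerivedCategory.homologyFunctor S.Modules i).mapBiprod A B).symm
    (isQuasicoherent_biprod _ _)

/-- if `A ⟶ B ⟶ C ⟶ A⟦1⟧` is distinguished and `B`, `C` have quasi-coherent cohomology, so has `A`. -/
theorem isQCohD_obj₁ (T : Triangle (DCoh.D S)) (hT : T ∈ distTriang (DCoh.D S))
    (h₂ : DCoh.IsQCohD T.obj₂) (h₃ : DCoh.IsQCohD T.obj₃) : DCoh.IsQCohD T.obj₁ := by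
  intro p
  haveI : ((DerivedCategory.homologyFunctor S.Modules (p - 1)).obj T.obj₂).IsQuasicoherent :=
    h₂ (p - 1)
  haveI : ((DerivedCategory.homologyFunctor S.Modules (p - 1)).obj T.obj₃).IsQuasicoherent :=
    h₃ (p - 1)
  haveI : ((DerivedCategory.homologyFunctor S.Modules p).obj T.obj₂).IsQuasicoherent := h₂ p
  haveI : ((DerivedCategory.homologyFunctor S.Modules p).obj T.obj₃).IsQuasicoherent := h₃ p
  exact isQuasicoherent_of_exact _ _ _ _ _ _ _
    (DerivedCategory.HomologySequence.exact₃ T hT (p - 1) p (by omega))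
    (DerivedCategory.HomologySequence.exact₁ T hT (p - 1) p (by omega))
    (DerivedCategory.HomologySequence.exact₂ T hT p)

end Tri

end Groth.Agent.Lib.Helper17.QCPush
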