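import Mathlib
import Groth.Prelude.Def_WeakSerre
import Groth.Agent.Lib.Helper23QCohAbelian
import Groth.Agent.Lib.Helper23QCohExt
import Groth.Agent.Lib.Helper17QCPush1

/-!
# Helper17: weak Serre classes of `O_X`-modules: quasi-coherent modules, and the kernel of an exact
functor.
-/

set_option autoImplicit false
universe v v' u u'
open CategoryTheory Limits AlgebraicGeometry ZeroObject

namespace Groth.Agent.Lib.Helper17.QCSerre

open Groth.Agent.Lib.Helper23.QCohLocal Groth.Agent.Lib.Helper17.QCPush

/-- quasi-coherent modules form a weak Serre subcategory of `X.Modules`. -/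
instance isWeakSerre_isQuasicoherent (X : Scheme.{u}) :
    WSerre.IsWeakSerre (fun M : X.Modules => M.IsQuasicoherent) where
  exists_zero := ⟨0, isZero_zero _, isQuasicoherent_of_isZero (isZero_zero _)⟩
  kernels_le := by
    rintro _ ⟨f, k, hk, ⟨h1, h2⟩⟩
    haveI : (_ : X.Modules).IsQuasicoherent := h1
    haveI : (_ : X.Modules).IsQuasicoherent := h2
    exact isQuasicoherent_of_iso (IsLimit.conePointUniqueUpToIso (kernelIsKernel f) hk)
      (isQuasicoherent_kernel f)
  cokernels_le := by
    rintro _ ⟨f, k, hk, ⟨h1, h2⟩⟩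
    haveI : (_ : X.Modules).IsQuasicoherent := h1
    haveI : (_ : X.Modules).IsQuasicoherent := h2
    exact isQuasicoherent_of_iso (IsColimit.coconePointUniqueUpToIso (cokernelIsCokernel f) hk)
      (isQuasicoherent_cokernel f)
  prop_X₂_of_shortExact hS h₁ h₃ := isQuasicoherent_of_shortExact _ hS h₁ h₃

section Kernel

variable {A : Type u} [Category.{v} A] [Abelian A] {B : Type u'} [Category.{v'} B] [Abelian B]
  (F : A ⥤ B) [F.Additive] [PreservesFiniteLimits F] [PreservesFiniteColimits F]

/-- the kernel of an exact functor is a weak Serre subcategory. -/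
theorem isWeakSerre_isZero_obj : WSerre.IsWeakSerre (fun M : A => IsZero (F.obj M)) where
  exists_zero := ⟨0, isZero_zero _, F.map_isZero (isZero_zero _)⟩
  kernels_le := by
    rintro _ ⟨f, k, hk, ⟨h1, h2⟩⟩
    haveI : Mono k.ι := Fork.IsLimit.mono hk
    exact IsZero.of_mono (F.map k.ι) h1
  cokernels_le := by
    rintro _ ⟨f, k, hk, ⟨h1, h2⟩⟩
    haveI : Epi k.π := Cofork.IsColimit.epi hk
    exact IsZero.of_epi (F.map k.π) h2
  prop_X₂_of_shortExact {S} hS h₁ h₃ := by
    have hS' : (S.map F).ShortExact := hS.map_of_exact F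
    exact hS'.exact.isZero_of_both_zeros (h₁.eq_of_src _ _) (h₃.eq_of_tgt _ _)

end Kernel

end Groth.Agent.Lib.Helper17.QCSerre
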