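import Groth.Agent.Lib.Helper17PlusSerre
import Groth.Agent.Lib.Helper17QCSerre
import Groth.Agent.Lib.Helper17GammaZ3
import Groth.Prelude.Def_CohB1

/-!
# Helper17: the derived functors of `Γ_Z` vanish on the open complement `U`; `RΓ_Z` on `D⁺`
preserves quasi-coherent cohomology, and its cohomology is supported on `Z`.
-/

set_option autoImplicit false
universe u
open CategoryTheory Limits AlgebraicGeometry ZeroObject

namespace Groth.Agent.Lib.Helper17.GammaZSupp

open Groth.Agent.Lib.Helper17 Groth.Agent.Lib.Helper17.QCSerre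

variable {X : Scheme.{u}} (U : X.Opens)

/-- the restriction of the unit `F ⟶ j_* (F|_U)` to `U` is an isomorphism. -/
lemma isIso_restrict_map_unit (F : X.Modules) :
    IsIso ((Scheme.Modules.restrictFunctor U.ι).map
      ((Scheme.Modules.restrictAdjunction U.ι).unit.app F)) := by
  have h := (Scheme.Modules.restrictAdjunction U.ι).left_triangle_components F
  haveI : IsIso ((Scheme.Modules.restrictAdjunction U.ι).counit.app
      ((Scheme.Modules.restrictFunctor U.ι).obj F)) := inferInstance
  haveI : IsIso ((Scheme.Modules.restrictFunctor U.ι).map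
      ((Scheme.Modules.restrictAdjunction U.ι).unit.app F) ≫
      (Scheme.Modules.restrictAdjunction U.ι).counit.app
        ((Scheme.Modules.restrictFunctor U.ι).obj F)) := by
    rw [h]; infer_instance
  exact IsIso.of_isIso_comp_right _ ((Scheme.Modules.restrictAdjunction U.ι).counit.app
      ((Scheme.Modules.restrictFunctor U.ι).obj F))

/-- `Γ_Z(F)|_U = 0`. -/
lemma isZero_restrict_gammaZ (F : X.Modules) :
    IsZero ((Scheme.Modules.restrictFunctor U.ι).obj ((DCoh.gammaZ U.ι).obj F)) := by
  haveI := isIso_restrict_map_unit U F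
  haveI : (Scheme.Modules.restrictFunctor U.ι).PreservesMonomorphisms := inferInstance
  haveI : Mono ((Scheme.Modules.restrictFunctor U.ι).map
      (kernel.ι ((Scheme.Modules.restrictAdjunction U.ι).unit.app F))) := Functor.map_mono _ _
  apply IsZero.of_mono_eq_zero ((Scheme.Modules.restrictFunctor U.ι).map
      (kernel.ι ((Scheme.Modules.restrictAdjunction U.ι).unit.app F)))
  rw [← cancel_mono ((Scheme.Modules.restrictFunctor U.ι).map
    ((Scheme.Modules.restrictAdjunction U.ι).unit.app F)), ← Functor.map_comp, zero_comp,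
    kernel.condition, Functor.map_zero]

/-- `(R^jΓ_Z N)|_U = 0`. -/
lemma isZero_restrict_rightDerived_gammaZ [HasInjectiveResolutions X.Modules] (N : X.Modules)
    (j : ℕ) :
    IsZero ((Scheme.Modules.restrictFunctor U.ι).obj
      (((DCoh.gammaZ U.ι).rightDerived j).obj N)) := by
  let P : ObjectProperty X.Modules :=
    fun M => IsZero ((Scheme.Modules.restrictFunctor U.ι).obj M)
  haveI : WSerre.IsWeakSerre P := isWeakSerre_isZero_obj (Scheme.Modules.restrictFunctor U.ι)
  let I : InjectiveResolution N := injectiveResolution N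
  let K := ((DCoh.gammaZ U.ι).mapHomologicalComplex (ComplexShape.up ℕ)).obj I.cocomplex
  have e := I.isoRightDerivedObj (DCoh.gammaZ U.ι) j
  have hK : ∀ k, P (K.X k) := fun k => isZero_restrict_gammaZ U _
  exact P.prop_of_iso e.symm (SSSerre.prop_homology P (K.sc j) (hK _) (hK _) (hK _))

lemma subsingleton_stalk_of_isZero (N : X.Modules) (hN : IsZero N) (y : X) :
    Subsingleton (N.presheaf.stalk y) := by
  have h0 : ∀ a : N.presheaf.stalk y, a = 0 := by
    intro a
    obtain ⟨V, hy, s, rfl⟩ := TopCat.Presheaf.exists_germ_eq N.presheaf a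
    have hs : s = 0 := by
      have h1 : (𝟙 N : N ⟶ N) = 0 := hN.eq_of_src _ _
      have h2 := congrArg (fun φ : N ⟶ N => (φ.app V) s) h1
      simpa using h2
    rw [hs, map_zero]
  exact ⟨fun a b => (h0 a).trans (h0 b).symm⟩

/-- a module vanishing on `U` is supported on the complement of `U`. -/
lemma support_subset_of_isZero_restrict (M : X.Modules)
    (h : IsZero ((Scheme.Modules.restrictFunctor U.ι).obj M)) :
    CohB1.support M ⊆ (U : Set X)ᶜ := by
  intro x hx hxU
  apply hx
  let y : (U : Scheme.{u}) := ⟨x, hxU⟩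
  have e := (Scheme.Modules.restrictStalkNatIso U.ι y).app M
  have hs := subsingleton_stalk_of_isZero _ h y
  exact @Equiv.subsingleton _ _ e.symm.addCommGroupIsoToAddEquiv.toEquiv hs

end Groth.Agent.Lib.Helper17.GammaZSupp
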