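import Mathlib
import Groth.Prelude.Def_SpSeq

/-!
# Helper17: if the abutment of an `E₂` spectral sequence and all terms `E₂^{p,q}` with `q ≠ 0` lie
in a Serre class, so do the terms `E₂^{p,0}`.
-/

set_option autoImplicit false
universe v u
open CategoryTheory Limits

namespace Groth.Agent.Lib.Helper17.SSRowSerre

variable {C : Type u} [Category.{v} C] [Abelian C] (P : ObjectProperty C) [P.IsSerreClass]

/-- the homology of a short complex whose middle term lies in a Serre class lies in it. -/
lemma prop_homology_of_X₂ (S : ShortComplex C) (h₂ : P S.X₂) : P S.homology := by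
  have hc : P S.cycles := P.prop_of_mono S.iCycles h₂
  exact P.prop_of_epi S.homologyπ hc

/-- the middle term of a short complex lies in a Serre class as soon as the outer terms and the
homology do. -/
lemma prop_X₂_of_homology (S : ShortComplex C) (h₁ : P S.X₁) (h₃ : P S.X₃) (hH : P S.homology) :
    P S.X₂ := by
  have hc : P S.cycles := by
    have hex : (ShortComplex.mk S.toCycles S.homologyπ (by simp)).Exact := by
      apply ShortComplex.exact_of_g_is_cokernel
      exact S.homologyIsCokernel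
    exact P.prop_X₂_of_exact hex h₁ hH
  have hex2 : (ShortComplex.mk S.iCycles S.g (by simp)).Exact := by
    apply ShortComplex.exact_of_f_is_kernel
    exact S.cyclesIsKernel
  have := P.prop_X₂_of_exact hex2 hc h₃
  exact this

/-- the graded pieces of a filtration of an object of a Serre class lie in it. -/
lemma prop_grPiece_of_prop {X : C} (F : ℤ → Subobject X) (hF : Antitone F) (p : ℤ) (hX : P X) :
    P (SpSeq.grPiece F hF p) := by
  unfold SpSeq.grPiece SpSeq.subquot
  have h1 : P (Subobject.underlying.obj (F p)) := P.prop_of_mono (F p).arrow hX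
  exact P.prop_of_epi (cokernel.π ((F (p + 1)).ofLE (F p) (hF (Int.le_add_one le_rfl)))) h1

variable {r₀ : ℤ}

/-- the terms `E_k^{p,q}`, `q ≠ 0`, of the later pages lie in `P` as soon as the terms
`E_r^{p,q}`, `q ≠ 0` do. -/
theorem prop_page_off_row (E : CohomologicalSpectralSequence C r₀) (r : ℤ) (hr : r₀ ≤ r)
    (h : ∀ p q : ℤ, q ≠ 0 → P ((E.page r hr).X (p, q))) :
    ∀ (k : ℤ) (hk : r ≤ k) (p q : ℤ), q ≠ 0 → P ((E.page k (hr.trans hk)).X (p, q)) := by
  intro k hk
  induction k, hk using Int.leInduction with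
  | base => exact h
  | succ k hk ih =>
    intro p q hq
    exact P.prop_of_iso (E.iso k (k + 1) (p, q) rfl (hr.trans hk))
      (prop_homology_of_X₂ P ((E.page k (hr.trans hk)).sc (p, q)) (ih p q hq))

/-- **Row zero.** If the abutment and the terms `E_2^{p,q}`, `q ≠ 0`, lie in the Serre class `P`,
so do the terms `E_2^{p,0}`. -/
theorem prop_row_zero (E : E₂CohomologicalSpectralSequence C) {H : ℤ → C}
    (a : SpSeq.Abutment E H)
    (h : ∀ p q : ℤ, q ≠ 0 → P ((E.page 2 le_rfl).X (p, q)))
    (hH : ∀ n, P (H n)) (p : ℤ) : P ((E.page 2 le_rfl).X (p, 0)) := by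
  have hoff := prop_page_off_row P E 2 le_rfl h
  -- the limit term
  have hlim : P ((E.page (a.rk (p, 0)) (a.stat (p, 0)).1).X (p, 0)) := by
    exact P.prop_of_iso (a.β (p, 0)).symm (prop_grPiece_of_prop P _ _ _ (hH _))
  -- one step down
  have step : ∀ (k : ℤ) (hk : 2 ≤ k), P ((E.page (k + 1) (hk.trans (by lia))).X (p, 0)) →
      P ((E.page k hk).X (p, 0)) := by
    intro k hk hz
    have hprev : (ComplexShape.up' (⟨k, 1 - k⟩ : ℤ × ℤ)).prev (p, 0) = (p, 0) - (k, 1 - k) :=
      (ComplexShape.up' (⟨k, 1 - k⟩ : ℤ × ℤ)).prev_eq' (by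
        change (p, 0) - (k, 1 - k) + (k, 1 - k) = (p, 0)
        simp)
    have hnext : (ComplexShape.up' (⟨k, 1 - k⟩ : ℤ × ℤ)).next (p, 0) = (p, 0) + (k, 1 - k) :=
      (ComplexShape.up' (⟨k, 1 - k⟩ : ℤ × ℤ)).next_eq' (by
        change (p, 0) + (k, 1 - k) = (p, 0) + (k, 1 - k)
        rfl)
    have h1 : P ((E.page k hk).sc (p, 0)).X₁ := by
      change P ((E.page k hk).X ((ComplexShape.up' (⟨k, 1 - k⟩ : ℤ × ℤ)).prev (p, 0)))
      rw [hprev]
      exact hoff k hk _ _ (by simp; lia)
    have h3 : P ((E.page k hk).sc (p, 0)).X₃ := by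
      change P ((E.page k hk).X ((ComplexShape.up' (⟨k, 1 - k⟩ : ℤ × ℤ)).next (p, 0)))
      rw [hnext]
      exact hoff k hk _ _ (by simp; lia)
    have hh : P ((E.page k hk).sc (p, 0)).homology :=
      P.prop_of_iso (E.iso k (k + 1) (p, 0) rfl hk).symm hz
    exact prop_X₂_of_homology P ((E.page k hk).sc (p, 0)) h1 h3 hh
  have key : ∀ (n : ℕ) (k : ℤ) (hk : 2 ≤ k), k + n = a.rk (p, 0) → P ((E.page k hk).X (p, 0)) := by
    intro n
    induction n with
    | zero =>
      intro k hk hkn
      have : k = a.rk (p, 0) := by simpa using hkn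
      subst this
      exact hlim
    | succ n ih =>
      intro k hk hkn
      exact step k hk (ih (k + 1) (by lia) (by push_cast at hkn ⊢; lia))
  have h2 : (2 : ℤ) ≤ a.rk (p, 0) := (a.stat (p, 0)).1
  obtain ⟨n, hn⟩ := Int.eq_ofNat_of_zero_le (sub_nonneg.2 h2)
  exact key n 2 le_rfl (by lia)

end Groth.Agent.Lib.Helper17.SSRowSerre
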