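import Groth.Agent.Lib.Helper17FinProjLoc
import Groth.Agent.Lib.Helper17GammaZSupp
import Groth.Agent.Lib.Helper17SSRowSerre
import Groth.Agent.Lib.Helper4DevI
import Groth.Agent.Lib.Helper4DevG
import Groth.Agent.S0025

/-!
# Finiteness of coherent cohomology: the Chow cover (helper17)
-/

set_option autoImplicit false

universe u
open CategoryTheory Limits AlgebraicGeometry Opposite TopologicalSpace ZeroObject

namespace Groth.Agent.Lib.Helper17.FinCore

open Groth.Agent.Lib.Helper17.GammaA Groth.Agent.Lib.Helper17.FinClosed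
  Groth.Agent.Lib.Helper17.FinAff Groth.Agent.Lib.Helper17.FinProj
  Groth.Agent.Lib.Helper17.FinMod Groth.Agent.Lib.Helper17.FinLoc
  Groth.Agent.Lib.Helper17.DerSerre Groth.Agent.Lib.Helper4.Dev

local instance (X : Scheme.{u}) : EnoughInjectives X.Modules :=
  Groth.Agent.Lib.Helper17.QCPush.enoughInjectives X

section Stalk

variable {Z X : Scheme.{u}} (i : Z ⟶ X)

/-- stalks of a direct image along a topological embedding. -/
theorem subsingleton_stalk_push (hi : Topology.IsInducing i.base) (N : Z.Modules) (z : Z)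
    (h : Subsingleton (N.presheaf.stalk z)) :
    Subsingleton (((Scheme.Modules.pushforward i).obj N).presheaf.stalk (i z)) := by
  haveI := TopCat.Presheaf.stalkPushforward.stalkPushforward_iso_of_isInducing
    (C := AddCommGrpCat.{u}) hi N.presheaf z
  exact (asIso (TopCat.Presheaf.stalkPushforward AddCommGrpCat.{u} i.base N.presheaf
    z)).addCommGroupIsoToAddEquiv.toEquiv.subsingleton

end Stalk

section Vanish

/-- the higher right derived functors of an exact functor vanish. -/
theorem isZero_rightDerived_succ_of_preservesHomology {C D : Type*} [Category C] [Category D]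
    [Abelian C] [Abelian D] [HasInjectiveResolutions C] (F : C ⥤ D) [F.Additive]
    [F.PreservesHomology] (X : C) (n : ℕ) : IsZero ((F.rightDerived (n + 1)).obj X) := by
  let I := injectiveResolution X
  refine IsZero.of_iso ?_ (I.isoRightDerivedObj F (n + 1))
  have h : (I.cocomplex).ExactAt (n + 1) := I.cocomplex_exactAt_succ n
  have h' : ((F.mapHomologicalComplex _).obj I.cocomplex).ExactAt (n + 1) :=
    ShortComplex.Exact.map h F
  exact (HomologicalComplex.exactAt_iff_isZero_homology _ _).1 h'

variable {Z' Z : Scheme.{u}} (π : Z' ⟶ Z) (U : Z.Opens) [IsIso (π ∣_ U)]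

/-- the higher direct images vanish over an open over which the morphism is an isomorphism. -/
theorem isZero_restrict_Rpush_succ (M : Z'.Modules) (q : ℕ) :
    IsZero ((Scheme.Modules.restrictFunctor U.ι).obj ((Coh.Rpush π (q + 1)).obj M)) := by
  obtain ⟨e⟩ := nonempty_Rpush_restrict_iso π U M (q + 1)
  haveI := preservesHomology_pushforward_of_isClosedImmersion (π ∣_ U)
  exact IsZero.of_iso (isZero_rightDerived_succ_of_preservesHomology _ _ q) e

theorem subsingleton_stalk_Rpush_succ (M : Z'.Modules) (q : ℕ) (z : Z) (hz : z ∈ U) :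
    Subsingleton (((Coh.Rpush π (q + 1)).obj M).presheaf.stalk z) := by
  have h := Groth.Agent.Lib.Helper17.GammaZSupp.support_subset_of_isZero_restrict U _
    (isZero_restrict_Rpush_succ π U M q)
  by_contra hs
  exact h hs hz

end Vanish

section Core

variable {A : Type u} [CommRing A] [IsNoetherianRing A]

/-- **The Chow cover step**: `π : Z' ⟶ Zs` proper and an isomorphism over `U`, `Z'` immersed in
`P^N_A`; if coherent modules on `Zs` vanishing on `U` have finite cohomology, then so does
`π_* M` for every coherent `M` on `Z'`. -/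
theorem finH_pushforward {Zs Z' : Scheme.{u}} (g : Zs ⟶ Spec (CommRingCat.of A)) [IsProper g]
    (π : Z' ⟶ Zs) [IsProper π] (N : ℕ)
    (j : Z' ⟶ CohB1.ProjSpaceOver N (Spec (CommRingCat.of A))) [IsImmersion j]
    (hj : j ≫ CohB1.ProjSpaceOver.toBase N (Spec (CommRingCat.of A)) = π ≫ g)
    (U : Zs.Opens) [IsIso (π ∣_ U)]
    (IH : ∀ E : Zs.Modules, Coh.IsCoh E → (∀ z ∈ U, Subsingleton (E.presheaf.stalk z)) →
      FinH g E)
    (M : Z'.Modules) (hM : Coh.IsCoh M) :
    FinH g ((Scheme.Modules.pushforward π).obj M) := by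
  intro p
  haveI : IsLocallyNoetherian Zs := LocallyOfFiniteType.isLocallyNoetherian g
  haveI : IsProper (π ≫ g) := inferInstance
  haveI : IsClosedImmersion j := isClosedImmersion_of_isImmersion_projSpaceOver N j (π ≫ g) hj
  have hT : ∀ Q : Z'.Modules, Injective Q → ∀ q : ℕ, 0 < q →
      IsZero (((gammaA g).rightDerived q).obj ((Scheme.Modules.pushforward π).obj Q)) := by
    intro Q hQ q hq
    obtain ⟨q, rfl⟩ : ∃ k, q = k + 1 := ⟨q - 1, by omega⟩
    exact isZero_rightDerived_gammaA g _ _ (subsingleton_HH_push_injective π Q q)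
  obtain ⟨E, a, hfin, _, hE2⟩ := Groth.Agent.S11918.result (Scheme.Modules.pushforward π)
    (gammaA g) hT M
  have hoff : ∀ p q : ℤ, q ≠ 0 → fin.{u, u} A ((E.page 2 le_rfl).X (p, q)) := by
    intro p q hq
    obtain ⟨e⟩ := hE2 p q
    refine (fin.{u, u} A).prop_of_iso e.symm ?_
    by_cases hpq : 0 ≤ p ∧ 0 ≤ q
    · rw [if_pos hpq]
      obtain ⟨q', hq'⟩ : ∃ k : ℕ, q.toNat = k + 1 := ⟨q.toNat - 1, by omega⟩
      rw [hq']
      have hc : Coh.IsCoh ((Coh.Rpush π (q' + 1)).obj M) :=
        isCoh_Rpush_of_immersion_projSpaceOver N π g j hj M hM (q' + 1)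
      exact IH _ hc (fun z hz => subsingleton_stalk_Rpush_succ π U M q' z hz) p.toNat
    · rw [if_neg hpq]
      exact (fin.{u, u} A).prop_of_isZero (isZero_zero _)
  have hH : ∀ n : ℤ, fin.{u, u} A (if 0 ≤ n then
      ((Scheme.Modules.pushforward π ⋙ gammaA g).rightDerived n.toNat).obj M else 0) := by
    intro n
    split_ifs with hn
    · let e0 : Scheme.Modules.pushforward π ⋙ gammaA g ≅ gammaA (π ≫ g) :=
        (Functor.associator _ _ _).symm ≪≫
          Functor.isoWhiskerRight (Scheme.Modules.pushforwardComp π g) (gS A)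
      exact (fin.{u, u} A).prop_of_iso
        ((Groth.Agent.Lib.Helper21.DerPost.natIsoRightDerived e0 n.toNat).app M).symm
        (finH_of_closedImmersion_projSpaceOver N j (π ≫ g) hj M hM n.toNat)
    · exact (fin.{u, u} A).prop_of_isZero (isZero_zero _)
  have hrow := Groth.Agent.Lib.Helper17.SSRowSerre.prop_row_zero (fin.{u, u} A) E a hoff hH (p : ℤ)
  obtain ⟨e⟩ := hE2 (p : ℤ) 0
  rw [if_pos ⟨Int.natCast_nonneg p, le_rfl⟩, Int.toNat_natCast, Int.toNat_zero] at e
  have e1 := (Functor.rightDerivedZeroIsoSelf (Scheme.Modules.pushforward π)).app M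
  exact (fin.{u, u} A).prop_of_iso (e ≪≫ ((gammaA g).rightDerived p).mapIso e1) hrow

variable {X : Scheme.{u}} (f : X ⟶ Spec (CommRingCat.of A)) [IsProper f]

/-- the coherent module `G` needed for the dévissage at the point `y`. -/
theorem exists_finH_module (y : X)
    (IH : ∀ E : X.Modules, Coh.IsCoh E → CohB1.support E ⊆ closure {y} →
      Subsingleton (E.presheaf.stalk y) → FinH f E) :
    ∃ G : X.Modules, Coh.IsCoh G ∧ CohB1.support G ⊆ closure {y} ∧ FinH f G ∧
      (∀ r ∈ IsLocalRing.maximalIdeal (X.presheaf.stalk y), ∀ x : G.presheaf.stalk y, r • x = 0) ∧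
      y ∈ CohB1.support G := by
  haveI : IsLocallyNoetherian X := LocallyOfFiniteType.isLocallyNoetherian f
  let X' : Closeds X := ⟨closure {y}, isClosed_closure⟩
  haveI : IrreducibleSpace ↥(Scheme.IdealSheafData.vanishingIdeal X').subscheme :=
    irreducibleSpace_subscheme' X' y rfl
  have hgen : (Scheme.IdealSheafData.vanishingIdeal X').subschemeι
      (genericPoint ↥(Scheme.IdealSheafData.vanishingIdeal X').subscheme) = y :=
    subschemeι_genericPoint' X' y rfl
  have hrange : Set.range (Scheme.IdealSheafData.vanishingIdeal X').subschemeι = closure {y} :=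
    range_subschemeι_vanishingIdeal' X'
  generalize hi : (Scheme.IdealSheafData.vanishingIdeal X').subschemeι = i at hgen hrange
  haveI : IsClosedImmersion i := by rw [← hi]; infer_instance
  haveI : IsLocallyNoetherian (Scheme.IdealSheafData.vanishingIdeal X').subscheme :=
    LocallyOfFiniteType.isLocallyNoetherian i
  obtain ⟨N, Z', π, j, hj, hjπ, hπ, hsurj, U, hU, hiso⟩ := Groth.Agent.S0025.result (i ≫ f)
  have hyU : genericPoint ↥(Scheme.IdealSheafData.vanishingIdeal X').subscheme ∈ U :=
    ((genericPoint_spec _).mem_open_set_iff U.2).2 (by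
      rw [Set.univ_inter]; exact hU.nonempty)
  have IH' : ∀ E : (Scheme.IdealSheafData.vanishingIdeal X').subscheme.Modules, Coh.IsCoh E →
      (∀ z ∈ U, Subsingleton (E.presheaf.stalk z)) → FinH (i ≫ f) E := by
    intro E hE hEU n
    obtain ⟨e⟩ := nonempty_rightDerived_gammaA_closedImmersion i f E n
    refine (fin.{u, u} A).prop_of_iso e.symm (IH _ (isCoh_push_closed i E hE)
      ((support_push_subset i E).trans hrange.le) ?_ n)
    rw [← hgen]
    exact subsingleton_stalk_push i i.isClosedEmbedding.isInducing E _ (hEU _ hyU)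
  have hO := isCoh_structureModule Z'
  have hfin := finH_pushforward (i ≫ f) π N j hjπ U IH' (Coh.structureModule Z') hO
  have hcoh0 : Coh.IsCoh ((Scheme.Modules.pushforward π).obj (Coh.structureModule Z')) :=
    isCoh_of_iso ((Functor.rightDerivedZeroIsoSelf (Scheme.Modules.pushforward π)).app _)
      (isCoh_Rpush_of_immersion_projSpaceOver N π (i ≫ f) j hjπ _ hO 0)
  refine ⟨(Scheme.Modules.pushforward i).obj ((Scheme.Modules.pushforward π).obj
    (Coh.structureModule Z')), isCoh_push_closed i _ hcoh0,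
    (support_push_subset i _).trans hrange.le, ?_, ?_, ?_⟩
  · intro n
    obtain ⟨e⟩ := nonempty_rightDerived_gammaA_closedImmersion i f
      ((Scheme.Modules.pushforward π).obj (Coh.structureModule Z')) n
    exact (fin.{u, u} A).prop_of_iso e (hfin n)
  · have hk := killedByIdeal_pushforward i ((Scheme.Modules.pushforward π).obj
      (Coh.structureModule Z'))
    haveI := (isCoh_push_closed i _ hcoh0).1
    subst hi
    rw [Scheme.IdealSheafData.ker_subschemeι] at hk
    intro r hr x
    exact maximalIdeal_smul_stalk_eq_zero _ y hk r hr x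
  · obtain ⟨z', hz'⟩ := hsurj.surj
      (genericPoint ↥(Scheme.IdealSheafData.vanishingIdeal X').subscheme)
    have hy' : (π ≫ i) z' = y := by
      rw [← hgen, ← hz']; rfl
    rw [show CohB1.support ((Scheme.Modules.pushforward i).obj
        ((Scheme.Modules.pushforward π).obj (Coh.structureModule Z'))) =
        CohB1.support ((Scheme.Modules.pushforward (π ≫ i)).obj (Coh.structureModule Z')) from
      support_eq_of_iso ((Scheme.Modules.pushforwardComp π i).app (Coh.structureModule Z')),
      ← hy']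
    intro hs
    exact germ_pushOne_ne_zero (π ≫ i) z' (Subsingleton.elim _ _)

/-- **Finiteness of the cohomology of coherent modules on a scheme proper over a Noetherian
ring**, in terms of the derived functors of `Γ_A`. -/
theorem finH_of_isProper (F : X.Modules) (hF : Coh.IsCoh F) : FinH f F := by
  haveI : IsLocallyNoetherian X := LocallyOfFiniteType.isLocallyNoetherian f
  haveI : CompactSpace X := QuasiCompact.compactSpace_of_compactSpace f
  haveI : IsNoetherian X := { }
  have hK : ∀ Y : Set X, Exact23 (FinH f) Y := fun Y =>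
    { iso := fun M N ⟨e⟩ h => derP_of_iso _ _ e h
      tot := fun S hS _ _ _ _ => ⟨fun h1 h2 => derP_X₃ _ _ hS h1 h2,
        fun h1 h3 => derP_X₂ _ _ hS h1 h3, fun h2 h3 => derP_X₁ _ _ hS h2 h3⟩ }
  refine noetherian_induction_coh (FinH f) Set.univ (hK Set.univ).iso
    (fun M hM => derP_of_isZero _ _ hM)
    (fun S hS _ _ _ _ h1 h3 => derP_X₂ _ _ hS h1 h3) ?_ F hF (Set.subset_univ _)
  intro y _ IH F hF hsF
  obtain ⟨G, hG, hsG, hKG, hkill, hne⟩ := exists_finH_module f y IH
  exact devissage_irreducible_pow y (hK _) IH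
    (fun Q m hm _ _ h => derP_of_retract _ _ (biproduct.ι (fun _ : Fin m => Q) ⟨0, hm⟩)
      (biproduct.π (fun _ : Fin m => Q) ⟨0, hm⟩)
      (biproduct.ι_π_self (fun _ : Fin m => Q) ⟨0, hm⟩) h)
    hG hsG hKG hkill hne F hF hsF

end Core

section Coherence

/-- higher direct images of coherent modules along a proper morphism to an affine Noetherian
scheme are coherent. -/
theorem isCoh_Rpush_of_isProper_of_isAffine {X Y : Scheme.{u}} [IsAffine Y] [IsNoetherian Y]
    (f : X ⟶ Y) [IsProper f] (M : X.Modules) (hM : Coh.IsCoh M) (n : ℕ) :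
    Coh.IsCoh ((Coh.Rpush f n).obj M) := by
  haveI : IsNoetherianRing Γ(Y, ⊤) :=
    IsLocallyNoetherian.component_noetherian (X := Y) ⟨⊤, isAffineOpen_top Y⟩
  have hfin : FinH (A := Γ(Y, ⊤)) (f ≫ Y.isoSpec.hom) M :=
    finH_of_isProper (A := Γ(Y, ⊤)) (f ≫ Y.isoSpec.hom) M hM
  haveI : Coh.IsQCoh M := hM.1
  have hc := isCoh_Rpush_of_finH (B := Γ(Y, ⊤)) (f ≫ Y.isoSpec.hom) M hfin n
  have h2 := isCoh_Rpush_comp_closedImmersion (f ≫ Y.isoSpec.hom) Y.isoSpec.inv M n hc
  have h3 : (f ≫ Y.isoSpec.hom) ≫ Y.isoSpec.inv = f := by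
    rw [Category.assoc, Iso.hom_inv_id, Category.comp_id]
  rw [h3] at h2
  exact h2

/-- **Coherence of higher direct images** of coherent modules along a proper morphism to a
locally Noetherian scheme. -/
theorem isCoh_Rpush_of_isProper {X S : Scheme.{u}} (f : X ⟶ S) [IsProper f]
    [IsLocallyNoetherian S] (M : X.Modules) (hM : Coh.IsCoh M) (n : ℕ) :
    Coh.IsCoh ((Coh.Rpush f n).obj M) := by
  haveI : Coh.IsQCoh M := hM.1
  refine isCoh_Rpush_of_forall_affine f M n (fun V hV => ?_)
  haveI : IsAffine (V : Scheme.{u}) := hV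
  haveI : IsNoetherian (V : Scheme.{u}) := { }
  exact isCoh_Rpush_of_isProper_of_isAffine (f ∣_ V) _ (isCoh_restrict (f ⁻¹ᵁ V).ι M hM) n

end Coherence

end Groth.Agent.Lib.Helper17.FinCore
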