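import Mathlib
import Groth.Agent.S9825
import Groth.Agent.Lib.Helper2FibreCrit2
import Groth.Agent.Lib.Helper23TensorQCoh
import Groth.Agent.Lib.Helper20LocFree
import Groth.Agent.Lib.Helper23FinTypeLocal
import Groth.Agent.Lib.Helper28Depth

/-!
# Finite locally free modules: quasi-coherence and depth of the stalks (helper21)
-/

set_option autoImplicit false
set_option linter.style.haveILetI false

namespace Groth.Agent.Lib.Helper21.HZB

open CategoryTheory CategoryTheory.Limits Opposite TopologicalSpace AlgebraicGeometry

universe u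

variable {X : Scheme.{u}}

/-- a finite locally free module is quasi-coherent. -/
theorem isQuasicoherent_of_isFinLocFree (M : X.Modules) (h : FlatMod.IsFinLocFree M) :
    M.IsQuasicoherent := by
  choose V n hxV e using h
  refine Groth.Agent.Lib.Helper23.FinType.isQuasicoherent_of_open_cover M V ?_ (fun x => ?_)
  · rw [IsOpenCover, eq_top_iff]
    intro x _
    exact Opens.mem_iSup.2 ⟨x, hxV x⟩
  · obtain ⟨e'⟩ := e x
    haveI : (FlatMod.freeMod (V x : Scheme.{u}) (n x)).IsQuasicoherent :=
      Groth.Agent.Lib.Helper20.LocFree.isQuasicoherent_freeMod _ _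
    exact Groth.Agent.Lib.Helper23.TensorQCoh.isQuasicoherent_of_iso e'.symm

/-- the depth of a finite free module is at least the depth of the ring. -/
theorem depth_le_depth_of_free (R : Type u) [CommRing R] [IsLocalRing R] [IsNoetherianRing R]
    (E : Type u) [AddCommGroup E] [Module R E] [Module.Free R E] [Module.Finite R E] :
    LocCoh.depth R R ≤ LocCoh.depth R E := by
  let b := Module.finBasis R E
  have h1 := Groth.Agent.Lib.Helper28.idealDepth_le_idealDepth_pi_fin
    (IsLocalRing.maximalIdeal R) R (Module.finrank R E)
  have h2 := Groth.Agent.Lib.Helper28.idealDepth_congr b.equivFun (IsLocalRing.maximalIdeal R)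
  change LocCoh.idealDepth _ _ ≤ LocCoh.idealDepth _ _
  rw [h2]
  exact h1

/-- the stalks of a finite locally free module on a locally Noetherian scheme have at least the depth of the
local rings. -/
theorem depth_stalk_ge_of_isFinLocFree [IsLocallyNoetherian X] (M : X.Modules)
    (h : FlatMod.IsFinLocFree M) (x : X) :
    LocCoh.depth (X.presheaf.stalk x) (X.presheaf.stalk x) ≤
      LocCoh.depth (X.presheaf.stalk x) (M.presheaf.stalk x) := by
  haveI hq : M.IsQuasicoherent := isQuasicoherent_of_isFinLocFree M h
  haveI hq' : Coh.IsQCoh M := hq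
  obtain ⟨hft, hfree, -⟩ := (Groth.Agent.S9825.result X M).1 h
  haveI : SheafOfModules.IsFiniteType (R := X.ringCatSheaf) M := hft
  haveI := hfree x
  haveI := Groth.Agent.Lib.Helper2.FibreCrit.finite_stalk M x
  exact depth_le_depth_of_free (X.presheaf.stalk x) (M.presheaf.stalk x)

/-- a finite locally free module is coherent. -/
theorem isCoh_of_isFinLocFree (M : X.Modules) (h : FlatMod.IsFinLocFree M) : Coh.IsCoh M := by
  haveI hq : M.IsQuasicoherent := isQuasicoherent_of_isFinLocFree M h
  haveI hq' : Coh.IsQCoh M := hq
  exact ⟨hq, ((Groth.Agent.S9825.result X M).1 h).1⟩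

end Groth.Agent.Lib.Helper21.HZB
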