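import Mathlib
import Groth.Prelude.Def_BMCoh3

set_option autoImplicit false
universe u
open CategoryTheory AlgebraicGeometry Opposite TopologicalSpace
open BMCoh

namespace Groth.Agent.Lib.Helper27BMCoh

section Top

variable {T : Type u} [TopologicalSpace T]

lemma coe_natDim [Nonempty T] (h : topologicalKrullDim T < ⊤) :
    ((WeilCoh.natDim T : ℕ) : WithBot ℕ∞) = topologicalKrullDim T := by
  unfold WeilCoh.natDim
  have hne : topologicalKrullDim T ≠ ⊥ := by
    unfold topologicalKrullDim
    rw [Order.krullDim_ne_bot_iff]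
    obtain ⟨x⟩ := ‹Nonempty T›
    exact ⟨⟨closure {x}, isIrreducible_singleton.closure, isClosed_closure⟩⟩
  obtain ⟨a, ha⟩ := WithBot.ne_bot_iff_exists.mp hne
  rw [← ha] at h ⊢
  have ha' : a ≠ ⊤ := by
    rintro rfl
    exact lt_irrefl _ h
  obtain ⟨m, rfl⟩ := ENat.ne_top_iff_exists.mp ha'
  simp

lemma natDim_of_isEmpty [IsEmpty T] : WeilCoh.natDim T = 0 := by
  unfold WeilCoh.natDim
  have : topologicalKrullDim T = ⊥ := by
    unfold topologicalKrullDim
    rw [Order.krullDim_eq_bot_iff]
    exact ⟨fun Z => Z.isIrreducible.nonempty.elim fun x _ => isEmptyElim x⟩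
  rw [this]; simp

lemma natDim_le_of_isInducing {S : Type u} [TopologicalSpace S] {f : S → T}
    (hf : Topology.IsInducing f) (h : topologicalKrullDim T < ⊤) :
    WeilCoh.natDim S ≤ WeilCoh.natDim T := by
  rcases isEmpty_or_nonempty S with hS | hS
  · rw [natDim_of_isEmpty]; exact Nat.zero_le _
  have : Nonempty T := hS.map f
  have hle := hf.topologicalKrullDim_le
  have hS' : topologicalKrullDim S < ⊤ := lt_of_le_of_lt hle h
  rw [← coe_natDim h, ← coe_natDim hS'] at hle
  exact_mod_cast hle

lemma natDim_eq_of_homeomorph {S : Type u} [TopologicalSpace S] (e : S ≃ₜ T) :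
    WeilCoh.natDim S = WeilCoh.natDim T := by
  unfold WeilCoh.natDim
  rw [IsHomeomorph.topologicalKrullDim_eq _ e.isHomeomorph]

/-- Strict inequality of Krull dimensions for closures of points. -/
lemma krullDim_closure_add_one_le {x η : T} (h : x ∈ closure {η}) (hne : η ∉ closure {x}) :
    topologicalKrullDim ↥(closure ({x} : Set T)) + 1 ≤ topologicalKrullDim ↥(closure ({η} : Set T)) := by
  have hST : closure ({x} : Set T) ⊆ closure {η} :=
    closure_minimal (Set.singleton_subset_iff.mpr h) isClosed_closure
  let incl : ↥(closure ({x} : Set T)) → ↥(closure ({η} : Set T)) := Set.inclusion hST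
  have hincl : Topology.IsInducing incl := (Topology.IsEmbedding.inclusion hST).isInducing
  let f := IrreducibleCloseds.map incl hincl.continuous
  have hf : StrictMono f := IrreducibleCloseds.map_strictMono_of_isInducing hincl
  have hirr : IsIrreducible (Set.univ : Set ↥(closure ({η} : Set T))) := by
    have : IrreducibleSpace ↥(closure ({η} : Set T)) :=
      (isIrreducible_iff_irreducibleSpace).mp isIrreducible_singleton.closure
    exact IrreducibleSpace.isIrreducible_univ _
  let top : IrreducibleCloseds ↥(closure ({η} : Set T)) := ⟨Set.univ, hirr, isClosed_univ⟩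
  have hlt : ∀ p, f p < top := by
    intro p
    refine lt_of_le_of_ne (fun y _ => Set.mem_univ y) ?_
    intro heq
    have hη : (⟨η, subset_closure rfl⟩ : ↥(closure ({η} : Set T))) ∈ (f p : Set _) := by
      rw [heq]; exact Set.mem_univ _
    have hsub : (f p : Set ↥(closure ({η} : Set T))) ⊆ Subtype.val ⁻¹' closure ({x} : Set T) := by
      rw [IrreducibleCloseds.coe_map]
      refine closure_minimal ?_ (isClosed_closure.preimage continuous_subtype_val)
      rintro _ ⟨y, _, rfl⟩
      exact y.2
    exact hne (hsub hη)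
  -- now compare krull dims
  unfold topologicalKrullDim
  rcases isEmpty_or_nonempty (IrreducibleCloseds ↥(closure ({x} : Set T))) with hE | hN
  · rw [Order.krullDim_eq_bot]; simp
  have key : ∀ n : ℕ, (n : WithBot ℕ∞) ≤ Order.krullDim (IrreducibleCloseds ↥(closure ({x} : Set T))) →
      ((n + 1 : ℕ) : WithBot ℕ∞) ≤ Order.krullDim (IrreducibleCloseds ↥(closure ({η} : Set T))) := by
    intro n hn
    obtain ⟨l, hl⟩ := Order.le_krullDim_iff.mp hn
    let l' := (l.map f hf).snoc top (by
      show (l.map f hf).last < top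
      rw [LTSeries.last_map]
      exact hlt _)
    refine Order.le_krullDim_iff.mpr ⟨l', ?_⟩
    simp [l', hl]
  -- krullDim of the smaller one
  generalize hd : Order.krullDim (IrreducibleCloseds ↥(closure ({x} : Set T))) = d at key ⊢
  induction d using WithBot.recBotCoe with
  | bot => simp
  | coe a =>
    induction a using ENat.recTopCoe with
    | top =>
      have : ∀ n : ℕ, ((n + 1 : ℕ) : WithBot ℕ∞) ≤ Order.krullDim (IrreducibleCloseds ↥(closure ({η} : Set T))) :=
        fun n => key n (by exact_mod_cast le_top)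
      have htop : Order.krullDim (IrreducibleCloseds ↥(closure ({η} : Set T))) = ⊤ := by
        rw [ENat.WithBot.eq_top_iff_forall_ge]
        intro m
        exact le_trans (by exact_mod_cast Nat.le_succ m) (this m)
      rw [htop]; exact le_top
    | coe m =>
      have := key m le_rfl
      exact_mod_cast this

lemma krullDim_subtype_lt_top (h : topologicalKrullDim T < ⊤) (S : Set T) :
    topologicalKrullDim ↥S < ⊤ :=
  lt_of_le_of_lt (topologicalKrullDim_subspace_le T S) h

lemma natDim_closure_le (h : topologicalKrullDim T < ⊤) {x η : T} (hx : x ∈ closure {η}) :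
    WeilCoh.natDim ↥(closure ({x} : Set T)) ≤ WeilCoh.natDim ↥(closure ({η} : Set T)) := by
  have hST : closure ({x} : Set T) ⊆ closure {η} :=
    closure_minimal (Set.singleton_subset_iff.mpr hx) isClosed_closure
  exact natDim_le_of_isInducing (Topology.IsEmbedding.inclusion hST).isInducing
    (krullDim_subtype_lt_top h _)

lemma natDim_closure_lt (h : topologicalKrullDim T < ⊤) {x η : T} (hx : x ∈ closure {η})
    (hne : η ∉ closure {x}) :
    WeilCoh.natDim ↥(closure ({x} : Set T)) < WeilCoh.natDim ↥(closure ({η} : Set T)) := by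
  have h1 := krullDim_closure_add_one_le hx hne
  have : Nonempty ↥(closure ({x} : Set T)) := ⟨⟨x, subset_closure rfl⟩⟩
  have : Nonempty ↥(closure ({η} : Set T)) := ⟨⟨η, subset_closure rfl⟩⟩
  rw [← coe_natDim (krullDim_subtype_lt_top h _), ← coe_natDim (krullDim_subtype_lt_top h _)] at h1
  have h2 : ((WeilCoh.natDim ↥(closure ({x} : Set T)) + 1 : ℕ) : WithBot ℕ∞) ≤
      ((WeilCoh.natDim ↥(closure ({η} : Set T)) : ℕ) : WithBot ℕ∞) := by
    push_cast; exact h1
  have h3 : WeilCoh.natDim ↥(closure ({x} : Set T)) + 1 ≤ WeilCoh.natDim ↥(closure ({η} : Set T)) := by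
    exact_mod_cast h2
  omega

/-- In a nonempty quasi-sober space of finite dimension there is a point whose closure has the
dimension of the space. -/
lemma exists_natDim_closure_eq [Nonempty T] [QuasiSober T] (h : topologicalKrullDim T < ⊤) :
    ∃ η : T, WeilCoh.natDim ↥(closure ({η} : Set T)) = WeilCoh.natDim T := by
  have hd : ((WeilCoh.natDim T : ℕ) : WithBot ℕ∞) ≤ topologicalKrullDim T := (coe_natDim h).le
  obtain ⟨l, hl⟩ := Order.le_krullDim_iff.mp hd
  have hgen : ∀ i : Fin (l.length + 1), ∃ g : T, closure ({g} : Set T) = (l i : Set T) := by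
    intro i
    obtain ⟨g, hg⟩ := QuasiSober.sober (l i).isIrreducible (l i).isClosed
    exact ⟨g, hg.def⟩
  choose g hg using hgen
  have key : ∀ k (hk : k < l.length + 1),
      ((k : ℕ) : WithBot ℕ∞) ≤ topologicalKrullDim ↥(closure ({g ⟨k, hk⟩} : Set T)) := by
    intro k
    induction k with
    | zero =>
      intro hk
      have : Nonempty ↥(closure ({g ⟨0, hk⟩} : Set T)) := ⟨⟨_, subset_closure rfl⟩⟩
      rw [← coe_natDim (krullDim_subtype_lt_top h _)]
      exact_mod_cast Nat.zero_le _
    | succ k ih =>
      intro hk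
      have hk' : k < l.length + 1 := by omega
      have hlt : l ⟨k, hk'⟩ < l ⟨k + 1, hk⟩ := l.strictMono (by simp [Fin.lt_def])
      have hx : g ⟨k, hk'⟩ ∈ closure ({g ⟨k + 1, hk⟩} : Set T) := by
        rw [hg]
        exact hlt.le (by rw [← SetLike.mem_coe, ← hg]; exact subset_closure rfl)
      have hne : g ⟨k + 1, hk⟩ ∉ closure ({g ⟨k, hk'⟩} : Set T) := by
        intro hmem
        have : (l ⟨k + 1, hk⟩ : Set T) ⊆ l ⟨k, hk'⟩ := by
          rw [← hg, ← hg]
          exact closure_minimal (Set.singleton_subset_iff.mpr hmem) isClosed_closure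
        exact absurd (le_antisymm hlt.le (SetLike.coe_subset_coe.mp this)) hlt.ne
      have := krullDim_closure_add_one_le hx hne
      refine le_trans ?_ this
      push_cast
      exact add_le_add_left (ih hk') 1
  refine ⟨g ⟨l.length, Nat.lt_succ_self _⟩, le_antisymm ?_ ?_⟩
  · exact natDim_le_of_isInducing Topology.IsInducing.subtypeVal h
  · have hk := key l.length (Nat.lt_succ_self _)
    have : Nonempty ↥(closure ({g ⟨l.length, Nat.lt_succ_self _⟩} : Set T)) :=
      ⟨⟨_, subset_closure rfl⟩⟩
    rw [← coe_natDim (krullDim_subtype_lt_top h _)] at hk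
    have hk2 : l.length ≤ WeilCoh.natDim ↥(closure ({g ⟨l.length, Nat.lt_succ_self _⟩} : Set T)) := by
      exact_mod_cast hk
    rw [← hl]; exact hk2

end Top

end Groth.Agent.Lib.Helper27BMCoh
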