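import Groth.Prelude.Def_KZero
import Mathlib.CategoryTheory.ObjectProperty.Kernels
import Mathlib.CategoryTheory.ObjectProperty.Extensions
import Mathlib.CategoryTheory.Abelian.Basic
import Mathlib.Algebra.Homology.ShortComplex.ExactFunctor
import Mathlib.Algebra.Homology.ShortComplex.ShortExact

/-! K₀ of a class of objects of an abelian category: basic relations (helper17). -/
set_option autoImplicit false
set_option backward.isDefEq.respectTransparency false
set_option backward.isDefEq.respectTransparency.types false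
universe v u
open CategoryTheory CategoryTheory.Limits ZeroObject

namespace Groth.Agent.Lib.Helper17.K0a

open KZero

variable {C : Type u} [Category.{v} C] [Abelian C] (P : ObjectProperty C)

theorem clSub_of_prop {X : C} (h : P X) :
    clSub P X = QuotientAddGroup.mk (FreeAbelianGroup.of ⟨X, h⟩) := by
  classical
  unfold clSub
  rw [dif_pos h]

theorem clSub_shortExact (S : ShortComplex C) (hS : S.ShortExact) (h₁ : P S.X₁) (h₂ : P S.X₂)
    (h₃ : P S.X₃) : clSub P S.X₂ = clSub P S.X₁ + clSub P S.X₃ := by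
  rw [clSub_of_prop P h₁, clSub_of_prop P h₂, clSub_of_prop P h₃]
  have hmem : (FreeAbelianGroup.of (⟨S.X₂, h₂⟩ : Subtype P) - FreeAbelianGroup.of ⟨S.X₁, h₁⟩ -
      FreeAbelianGroup.of ⟨S.X₃, h₃⟩) ∈ relSub P :=
    AddSubgroup.subset_closure ⟨S, h₁, h₂, h₃, hS, rfl⟩
  have h0 := (QuotientAddGroup.eq_zero_iff _).2 hmem
  rw [QuotientAddGroup.mk_sub, QuotientAddGroup.mk_sub, sub_sub, sub_eq_zero] at h0
  exact h0

variable [P.IsClosedUnderIsomorphisms] [P.ContainsZero]

theorem clSub_of_isZero {X : C} (hX : IsZero X) : clSub P X = 0 := by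
  have hP : P X := P.prop_of_isZero hX
  let S : ShortComplex C := ShortComplex.mk (0 : X ⟶ X) (0 : X ⟶ X) (by simp)
  have hS : S.ShortExact :=
    { exact := ShortComplex.exact_of_isZero_X₂ _ hX
      mono_f := ⟨fun _ _ _ => hX.eq_of_tgt _ _⟩
      epi_g := ⟨fun _ _ _ => hX.eq_of_src _ _⟩ }
  have h := clSub_shortExact P S hS hP hP hP
  have h' : clSub P X = clSub P X + clSub P X := h
  have := congrArg (fun t => t - clSub P X) h'
  simpa using this.symm

theorem clSub_of_iso {X Y : C} (e : X ≅ Y) (hX : P X) : clSub P X = clSub P Y := by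
  have hY : P Y := P.prop_of_iso e hX
  let S : ShortComplex C := ShortComplex.mk e.hom (0 : Y ⟶ 0) (by simp)
  have hS : S.ShortExact :=
    { exact := by
        have : Epi S.f := by dsimp [S]; infer_instance
        exact (ShortComplex.exact_iff_epi _ rfl).2 this
      mono_f := by dsimp [S]; infer_instance
      epi_g := ⟨fun _ _ _ => (isZero_zero C).eq_of_src _ _⟩ }
  have := clSub_shortExact P S hS hX hY (P.prop_of_isZero (isZero_zero C))
  rw [clSub_of_isZero P (isZero_zero C), add_zero] at this
  exact this.symm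

/-- the short complex `ker f ⟶ X₁ ⟶ ker g` attached to `X₁ -f→ X₂ -g→ X₃`. -/
noncomputable def kerS (S : ShortComplex C) : ShortComplex C :=
  ShortComplex.mk (kernel.ι S.f) (kernel.lift S.g S.f S.zero) (by
    rw [← cancel_mono (kernel.ι S.g), Category.assoc, kernel.lift_ι, kernel.condition, zero_comp])

omit [P.IsClosedUnderIsomorphisms] [P.ContainsZero] in
theorem kerS_shortExact (S : ShortComplex C) (hS : S.Exact) : (kerS S).ShortExact := by
  have : Mono (kerS S).f := by dsimp [kerS]; infer_instance
  have : Epi (kerS S).g := (ShortComplex.exact_iff_epi_kernel_lift _).1 hS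
  refine ShortComplex.ShortExact.mk (ShortComplex.exact_of_f_is_kernel _ ?_)
  refine KernelFork.IsLimit.ofι _ _ (fun {W} g hg => kernel.lift _ g ?_) (fun g hg => ?_)
    (fun g hg m hm => ?_)
  · have h : g ≫ kernel.lift S.g S.f S.zero = 0 := hg
    have := congrArg (fun t => t ≫ kernel.ι S.g) h
    simpa using this
  · exact kernel.lift_ι _ _ _
  · rw [← cancel_mono (kernel.ι S.f)]
    have : m ≫ kernel.ι S.f = g := hm
    rw [this, kernel.lift_ι]

variable [P.IsClosedUnderKernels]

/-- for an exact sequence `X₁ ⟶ X₂ ⟶ X₃` of objects of `P`: `[X₁] = [ker f] + [ker g]`. -/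
theorem clSub_eq_add_of_exact (S : ShortComplex C) (hS : S.Exact) (h₁ : P S.X₁) (h₂ : P S.X₂)
    (h₃ : P S.X₃) : clSub P S.X₁ = clSub P (kernel S.f) + clSub P (kernel S.g) :=
  clSub_shortExact P (kerS S) (kerS_shortExact S hS) (P.prop_kernel S.f h₁ h₂) h₁
    (P.prop_kernel S.g h₂ h₃)

end Groth.Agent.Lib.Helper17.K0a
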