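import Mathlib
import Groth.Prelude.Def_ChowK
import Groth.Agent.Lib.Helper4DevM
import Groth.Agent.Lib.Helper17K0a

/-!
# Dimension filtration of the Grothendieck group of coherent modules (helper4)

* `cohP X`: coherence as an object property; `clc F` its class in `K₀`.
* `closureStructureSheaf` facts: coherent, supported in `closure {x}`, stalk of length one at `x`.
* `clc_mem_of_dim_le`: the class of a coherent module with `dim Supp ≤ n` lies in the subgroup generated by the
  classes `[O_Z]`, `Z` the reduced closure of a point with `dim Z ≤ n`.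
-/

set_option autoImplicit false
set_option linter.style.haveILetI false
set_option linter.unusedSectionVars false
universe u
open CategoryTheory Limits AlgebraicGeometry TopologicalSpace Opposite

namespace Groth.Agent.Lib.Helper4.KFilt
open Groth.Agent.Lib.Helper4.Dev Groth.Agent.Lib.Helper17.K0a

variable (X : Scheme.{u})

/-- coherence as an object property -/
abbrev cohP : ObjectProperty X.Modules := fun M : X.Modules => Coh.IsCoh M

instance : (cohP X).IsClosedUnderIsomorphisms where
  of_iso e h := isCoh_of_iso e h

open ZeroObject in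
instance [IsLocallyNoetherian X] : (cohP X).ContainsZero where
  exists_zero := ⟨0, isZero_zero _, isCoh_of_isZero (isZero_zero _) (isCoh_structureModule X)⟩

variable {X}

theorem dim_le_of_subset {A B : Set X} (h : A ⊆ B) :
    topologicalKrullDim ↥A ≤ topologicalKrullDim ↥B :=
  (Topology.IsInducing.of_comp (continuous_inclusion h) continuous_subtype_val
    (by
      have : (Subtype.val : B → X) ∘ Set.inclusion h = (Subtype.val : A → X) := rfl
      rw [this]
      exact Topology.IsInducing.subtypeVal)).topologicalKrullDim_le

section Closure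
variable (x : X)

instance : IrreducibleSpace ↥(IntMult.ptIdeal x).subscheme :=
  irreducibleSpace_subscheme' ⟨closure {x}, isClosed_closure⟩ x rfl

instance : IsReduced (IntMult.ptIdeal x).subscheme :=
  Groth.Agent.Lib.Helper10.RedInd.isReduced_subscheme_vanishingIdeal ⟨closure {x}, isClosed_closure⟩

instance : IsIntegral (IntMult.ptIdeal x).subscheme :=
  isIntegral_of_irreducibleSpace_of_isReduced _

theorem ptIdeal_generic : (IntMult.ptIdeal x).subschemeι (genericPoint ↥(IntMult.ptIdeal x).subscheme) = x := by
  haveI : IrreducibleSpace ↥(Scheme.IdealSheafData.vanishingIdeal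
      (⟨closure {x}, isClosed_closure⟩ : TopologicalSpace.Closeds X)).subscheme :=
    inferInstanceAs (IrreducibleSpace ↥(IntMult.ptIdeal x).subscheme)
  exact subschemeι_genericPoint' ⟨closure {x}, isClosed_closure⟩ x rfl

theorem ptIdeal_range : Set.range ⇑(IntMult.ptIdeal x).subschemeι = closure {x} :=
  range_subschemeι_vanishingIdeal' ⟨closure {x}, isClosed_closure⟩

theorem isCoh_closureStructureSheaf [IsLocallyNoetherian X] : Coh.IsCoh (Cyc.closureStructureSheaf x) :=
  isCoh_push_closed _ _ (isCoh_structureModule _)

theorem support_closureStructureSheaf : CohB1.support (Cyc.closureStructureSheaf x) ⊆ closure {x} :=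
  (support_push_subset (IntMult.ptIdeal x).subschemeι _).trans (ptIdeal_range x).le

theorem length_closureStructureSheaf :
    Module.length (X.presheaf.stalk x) ((Cyc.closureStructureSheaf x).presheaf.stalk x) = 1 := by
  have hgen := ptIdeal_generic x
  have hker : (IntMult.ptIdeal x).subschemeι.ker = Scheme.IdealSheafData.vanishingIdeal
      ⟨closure {(IntMult.ptIdeal x).subschemeι (genericPoint ↥(IntMult.ptIdeal x).subscheme)},
        isClosed_closure⟩ := by
    rw [Scheme.IdealSheafData.ker_subschemeι]
    simp only [hgen]
    rfl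
  have := length_stalk_push_structure (IntMult.ptIdeal x).subschemeι hker
  have key : ∀ (y : X) (hy : (IntMult.ptIdeal x).subschemeι
      (genericPoint ↥(IntMult.ptIdeal x).subscheme) = y),
      Module.length (X.presheaf.stalk y) ((Cyc.closureStructureSheaf x).presheaf.stalk y) = 1 := by
    intro y hy
    subst hy
    exact this
  exact key x hgen

end Closure

section Main
variable [IsNoetherian X] (n : ℕ)

/-- the subgroup generated by the classes `[O_Z]` of reduced closures of points of dimension `≤ n` -/
noncomputable def ptSub : AddSubgroup (KZero.K0sub (cohP X)) :=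
  AddSubgroup.closure {c | ∃ x : X, topologicalKrullDim ↥(closure ({x} : Set X)) ≤ n ∧
    c = KZero.clSub (cohP X) (Cyc.closureStructureSheaf x)}

theorem clc_mem_of_dim_le (G : X.Modules) (hG : Coh.IsCoh G)
    (hdim : topologicalKrullDim ↥(CohB1.support G) ≤ n) : KZero.clSub (cohP X) G ∈ ptSub (X := X) n := by
  haveI : IsLocallyNoetherian X := inferInstance
  let K : X.Modules → Prop := fun F => KZero.clSub (cohP X) F ∈ ptSub (X := X) n
  have hiso : ∀ M N : X.Modules, Nonempty (M ≅ N) → K M → K N := by
    rintro M N ⟨e⟩ h
    by_cases hM : Coh.IsCoh M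
    · change KZero.clSub (cohP X) N ∈ _
      rw [← clSub_of_iso (cohP X) e hM]
      exact h
    · have hN : ¬ Coh.IsCoh N := fun hN => hM (isCoh_of_iso e.symm hN)
      change KZero.clSub (cohP X) N ∈ _
      unfold KZero.clSub
      rw [dif_neg hN]
      exact zero_mem _
  have hzero : ∀ M : X.Modules, IsZero M → K M := by
    intro M hM
    change KZero.clSub (cohP X) M ∈ _
    rw [clSub_of_isZero (cohP X) hM]
    exact zero_mem _
  have hses : ∀ S : ShortComplex X.Modules, S.ShortExact → Coh.IsCoh S.X₁ → Coh.IsCoh S.X₂ → Coh.IsCoh S.X₃ →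
      KZero.clSub (cohP X) S.X₂ = KZero.clSub (cohP X) S.X₁ + KZero.clSub (cohP X) S.X₃ :=
    fun S hS c1 c2 c3 => clSub_shortExact (cohP X) S hS c1 c2 c3
  refine noetherian_induction_coh K (CohB1.support G) hiso hzero ?_ ?_ G hG (le_refl _)
  · intro S hS c1 c2 c3 _ h1 h3
    change KZero.clSub (cohP X) S.X₂ ∈ _
    rw [hses S hS c1 c2 c3]
    exact add_mem h1 h3
  · intro y hyT IH F hF hsF
    have hK : Exact23 K (closure {y}) := by
      refine ⟨hiso, fun S hS c1 c2 c3 _ => ⟨?_, ?_, ?_⟩⟩
      · intro h1 h2
        change KZero.clSub (cohP X) S.X₃ ∈ _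
        have : KZero.clSub (cohP X) S.X₃ = KZero.clSub (cohP X) S.X₂ - KZero.clSub (cohP X) S.X₁ := by
          rw [hses S hS c1 c2 c3]; abel
        rw [this]
        exact sub_mem h2 h1
      · intro h1 h3
        change KZero.clSub (cohP X) S.X₂ ∈ _
        rw [hses S hS c1 c2 c3]
        exact add_mem h1 h3
      · intro h2 h3
        change KZero.clSub (cohP X) S.X₁ ∈ _
        have : KZero.clSub (cohP X) S.X₁ = KZero.clSub (cohP X) S.X₂ - KZero.clSub (cohP X) S.X₃ := by
          rw [hses S hS c1 c2 c3]; abel
        rw [this]
        exact sub_mem h2 h3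
    have hdimy : topologicalKrullDim ↥(closure ({y} : Set X)) ≤ n := (dim_le_of_subset hyT).trans hdim
    have hKG : K (Cyc.closureStructureSheaf y) := AddSubgroup.subset_closure ⟨y, hdimy, rfl⟩
    exact devissage_irreducible y hK IH (isCoh_closureStructureSheaf y) (support_closureStructureSheaf y) hKG
      (length_closureStructureSheaf y) F hF hsF

end Main

end Groth.Agent.Lib.Helper4.KFilt
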