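import Mathlib
import Groth.Agent.Lib.Helper4KFilt
import Groth.Agent.Lib.Helper27BMCohDim

/-!
# The class of a coherent module modulo lower-dimensional classes (helper4)

For a coherent module `F` on a Noetherian scheme with `dim Supp F ≤ n`:
`[F] ≡ Σ_x length(F_x) [O_{Z(x)}]` modulo the subgroup generated by classes of coherent modules with support of
dimension `< n`, the sum over the points `x` with `dim closure {x} = n` (`good_of_dim_le`).
-/

set_option autoImplicit false
set_option linter.style.haveILetI false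
set_option linter.unusedSectionVars false
universe u
open CategoryTheory Limits AlgebraicGeometry TopologicalSpace Opposite

namespace Groth.Agent.Lib.Helper4.KFilt
open Groth.Agent.Lib.Helper4.Dev Groth.Agent.Lib.Helper17.K0a

variable {X : Scheme.{u}}

theorem length_stalk_eq_of_iso {M N : X.Modules} (e : M ≅ N) (x : X) :
    Module.length (X.presheaf.stalk x) (M.presheaf.stalk x) =
      Module.length (X.presheaf.stalk x) (N.presheaf.stalk x) := by
  have h1 : (stalkL e.inv x).comp (stalkL e.hom x) = LinearMap.id := by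
    rw [← stalkL_comp, e.hom_inv_id, stalkL_id]
  have h2 : (stalkL e.hom x).comp (stalkL e.inv x) = LinearMap.id := by
    rw [← stalkL_comp, e.inv_hom_id, stalkL_id]
  exact (LinearEquiv.ofLinearMap (stalkL e.hom x) (stalkL e.inv x) h2 h1).length_eq

variable (n : ℕ)
  [dec : ∀ x : X, Decidable (topologicalKrullDim ↥(closure ({x} : Set X)) = (n : WithBot ℕ∞))]

/-- the summand of `x` -/
noncomputable def cfun (E : X.Modules) (x : X) : KZero.K0sub (cohP X) :=
  if topologicalKrullDim ↥(closure ({x} : Set X)) = (n : WithBot ℕ∞) then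
    (Module.length (X.presheaf.stalk x) (E.presheaf.stalk x)).toNat •
      KZero.clSub (cohP X) (Cyc.closureStructureSheaf x)
  else 0

omit dec in
/-- classes of coherent modules with support of dimension `< n` -/
noncomputable def lowSub : AddSubgroup (KZero.K0sub (cohP X)) :=
  AddSubgroup.closure {c | ∃ G : X.Modules, Coh.IsCoh G ∧
    topologicalKrullDim ↥(CohB1.support G) < (n : WithBot ℕ∞) ∧ c = KZero.clSub (cohP X) G}

omit dec in
/-- the points of dimension `n` at which `E` has a nonzero stalk -/
def topPts (E : X.Modules) : Set X :=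
  {x | topologicalKrullDim ↥(closure ({x} : Set X)) = (n : WithBot ℕ∞) ∧
    Module.length (X.presheaf.stalk x) (E.presheaf.stalk x) ≠ 0}

theorem support_cfun_subset (E : X.Modules) : Function.support (cfun n E) ⊆ topPts n E := by
  intro x hx
  rw [Function.mem_support] at hx
  unfold cfun at hx
  by_cases hd : topologicalKrullDim ↥(closure ({x} : Set X)) = (n : WithBot ℕ∞)
  · rw [if_pos hd] at hx
    refine ⟨hd, fun h0 => hx ?_⟩
    rw [h0]
    simp
  · rw [if_neg hd] at hx
    exact absurd rfl hx

/-- the class of `E` satisfies the congruence, with the finiteness needed to make sense of it -/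
structure Good (E : X.Modules) : Prop where
  fin : (topPts n E).Finite
  len : ∀ x : X, topologicalKrullDim ↥(closure ({x} : Set X)) = (n : WithBot ℕ∞) →
    Module.length (X.presheaf.stalk x) (E.presheaf.stalk x) ≠ ⊤
  mem : KZero.clSub (cohP X) E - finsum (cfun n E) ∈ lowSub (X := X) n

section SES
variable (S : ShortComplex X.Modules) (hS : S.ShortExact)
include hS

omit dec in
theorem topPts_X₂_subset : topPts n S.X₂ ⊆ topPts n S.X₁ ∪ topPts n S.X₃ := by
  rintro x ⟨hd, hl⟩
  rw [length_stalk_add S hS x] at hl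
  by_cases h1 : Module.length (X.presheaf.stalk x) (S.X₁.presheaf.stalk x) = 0
  · right
    refine ⟨hd, fun h3 => hl ?_⟩
    rw [h1, h3, add_zero]
  · left
    exact ⟨hd, h1⟩

omit dec in
theorem topPts_X₁_subset : topPts n S.X₁ ⊆ topPts n S.X₂ := by
  rintro x ⟨hd, hl⟩
  refine ⟨hd, ?_⟩
  rw [length_stalk_add S hS x]
  intro h
  exact hl (by simpa using (add_eq_zero.1 h).1)

omit dec in
theorem topPts_X₃_subset : topPts n S.X₃ ⊆ topPts n S.X₂ := by
  rintro x ⟨hd, hl⟩
  refine ⟨hd, ?_⟩
  rw [length_stalk_add S hS x]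
  intro h
  exact hl (by simpa using (add_eq_zero.1 h).2)

theorem cfun_add (hlen : ∀ x : X, topologicalKrullDim ↥(closure ({x} : Set X)) = (n : WithBot ℕ∞) →
    Module.length (X.presheaf.stalk x) (S.X₂.presheaf.stalk x) ≠ ⊤) :
    cfun n S.X₂ = cfun n S.X₁ + cfun n S.X₃ := by
  funext x
  rw [Pi.add_apply]
  unfold cfun
  by_cases hd : topologicalKrullDim ↥(closure ({x} : Set X)) = (n : WithBot ℕ∞)
  · rw [if_pos hd, if_pos hd, if_pos hd, ← add_smul]
    have h2 := hlen x hd
    rw [length_stalk_add S hS x] at h2 ⊢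
    have h1 : Module.length (X.presheaf.stalk x) (S.X₁.presheaf.stalk x) ≠ ⊤ :=
      fun h => h2 (by rw [h, top_add])
    have h3 : Module.length (X.presheaf.stalk x) (S.X₃.presheaf.stalk x) ≠ ⊤ :=
      fun h => h2 (by rw [h, add_top])
    rw [ENat.toNat_add h1 h3]
  · rw [if_neg hd, if_neg hd, if_neg hd, add_zero]

end SES

section Good23
variable [IsLocallyNoetherian X] (S : ShortComplex X.Modules) (hS : S.ShortExact)
  (c1 : Coh.IsCoh S.X₁) (c2 : Coh.IsCoh S.X₂) (c3 : Coh.IsCoh S.X₃)
include hS c1 c2 c3

/-- additivity of the difference -/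
theorem diff_add (hfin : (topPts n S.X₂).Finite)
    (hlen : ∀ x : X, topologicalKrullDim ↥(closure ({x} : Set X)) = (n : WithBot ℕ∞) →
      Module.length (X.presheaf.stalk x) (S.X₂.presheaf.stalk x) ≠ ⊤) :
    KZero.clSub (cohP X) S.X₂ - finsum (cfun n S.X₂) =
      (KZero.clSub (cohP X) S.X₁ - finsum (cfun n S.X₁)) +
        (KZero.clSub (cohP X) S.X₃ - finsum (cfun n S.X₃)) := by
  have hf1 : (Function.support (cfun n S.X₁)).Finite :=
    (hfin.subset (topPts_X₁_subset n S hS)).subset (support_cfun_subset n S.X₁)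
  have hf3 : (Function.support (cfun n S.X₃)).Finite :=
    (hfin.subset (topPts_X₃_subset n S hS)).subset (support_cfun_subset n S.X₃)
  rw [cfun_add n S hS hlen, clSub_shortExact (cohP X) S hS c1 c2 c3]
  have : (finsum fun x => (cfun n S.X₁ + cfun n S.X₃) x) = finsum (cfun n S.X₁) + finsum (cfun n S.X₃) :=
    finsum_add_distrib hf1 hf3
  rw [show (finsum (cfun n S.X₁ + cfun n S.X₃)) = finsum fun x => (cfun n S.X₁ + cfun n S.X₃) x from rfl,
    this]
  abel

theorem Good.ext (h1 : Good n S.X₁) (h3 : Good n S.X₃) : Good n S.X₂ := by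
  have hfin : (topPts n S.X₂).Finite := (h1.fin.union h3.fin).subset (topPts_X₂_subset n S hS)
  have hlen : ∀ x : X, topologicalKrullDim ↥(closure ({x} : Set X)) = (n : WithBot ℕ∞) →
      Module.length (X.presheaf.stalk x) (S.X₂.presheaf.stalk x) ≠ ⊤ := by
    intro x hd
    rw [length_stalk_add S hS x]
    exact WithTop.add_ne_top.2 ⟨h1.len x hd, h3.len x hd⟩
  refine ⟨hfin, hlen, ?_⟩
  rw [diff_add n S hS c1 c2 c3 hfin hlen]
  exact add_mem h1.mem h3.mem

theorem Good.X₃ (h1 : Good n S.X₁) (h2 : Good n S.X₂) : Good n S.X₃ := by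
  refine ⟨h2.fin.subset (topPts_X₃_subset n S hS), ?_, ?_⟩
  · intro x hd h
    apply h2.len x hd
    rw [length_stalk_add S hS x, h, add_top]
  · have := diff_add n S hS c1 c2 c3 h2.fin h2.len
    have e : KZero.clSub (cohP X) S.X₃ - finsum (cfun n S.X₃) =
        (KZero.clSub (cohP X) S.X₂ - finsum (cfun n S.X₂)) -
          (KZero.clSub (cohP X) S.X₁ - finsum (cfun n S.X₁)) := by
      rw [this]; abel
    rw [e]
    exact sub_mem h2.mem h1.mem

theorem Good.X₁ (h2 : Good n S.X₂) (h3 : Good n S.X₃) : Good n S.X₁ := by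
  refine ⟨h2.fin.subset (topPts_X₁_subset n S hS), ?_, ?_⟩
  · intro x hd h
    apply h2.len x hd
    rw [length_stalk_add S hS x, h, top_add]
  · have := diff_add n S hS c1 c2 c3 h2.fin h2.len
    have e : KZero.clSub (cohP X) S.X₁ - finsum (cfun n S.X₁) =
        (KZero.clSub (cohP X) S.X₂ - finsum (cfun n S.X₂)) -
          (KZero.clSub (cohP X) S.X₃ - finsum (cfun n S.X₃)) := by
      rw [this]; abel
    rw [e]
    exact sub_mem h2.mem h3.mem

end Good23

section Basic
variable [IsLocallyNoetherian X]

theorem Good.of_iso {M N : X.Modules} (e : M ≅ N) (h : Good n M) : Good n N := by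
  have hl : ∀ x : X, Module.length (X.presheaf.stalk x) (N.presheaf.stalk x) =
      Module.length (X.presheaf.stalk x) (M.presheaf.stalk x) := fun x => (length_stalk_eq_of_iso e x).symm
  have htop : topPts n N = topPts n M := by
    ext x
    simp only [topPts, Set.mem_ofPred_eq, hl x]
  have hc : cfun n N = cfun n M := by
    funext x
    unfold cfun
    rw [hl x]
  have hcl : KZero.clSub (cohP X) N = KZero.clSub (cohP X) M := by
    by_cases hM : Coh.IsCoh M
    · exact (clSub_of_iso (cohP X) e hM).symm
    · have hN : ¬ Coh.IsCoh N := fun hN => hM (isCoh_of_iso e.symm hN)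
      unfold KZero.clSub
      rw [dif_neg hN, dif_neg hM]
  refine ⟨htop ▸ h.fin, fun x hd => (hl x) ▸ h.len x hd, ?_⟩
  rw [hc, hcl]
  exact h.mem

theorem Good.zero {M : X.Modules} (hM : IsZero M) : Good n M := by
  have hl : ∀ x : X, Module.length (X.presheaf.stalk x) (M.presheaf.stalk x) = 0 := by
    intro x
    haveI := subsingleton_stalk_of_isZero hM x
    exact Module.length_eq_zero_iff.2 inferInstance
  have htop : topPts n M = ∅ := by
    ext x
    simp only [topPts, Set.mem_ofPred_eq, hl x, ne_eq, not_true_eq_false, and_false, Set.mem_empty_iff_false]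
  have hc : cfun n M = 0 := by
    funext x
    unfold cfun
    rw [hl x]
    simp
  refine ⟨htop ▸ Set.finite_empty, fun x _ => by rw [hl x]; simp, ?_⟩
  rw [hc, clSub_of_isZero (cohP X) hM]
  have : finsum (0 : X → KZero.K0sub (cohP X)) = 0 := finsum_zero
  rw [this, sub_zero]
  exact zero_mem _

end Basic

section Gen
variable [IsLocallyNoetherian X] (y : X)

omit dec in
theorem topPts_closureStructureSheaf_subset
    (hy : topologicalKrullDim ↥(closure ({y} : Set X)) ≤ (n : WithBot ℕ∞)) :
    topPts n (Cyc.closureStructureSheaf y) ⊆ {y} := by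
  rintro x ⟨hd, hl⟩
  have hx : x ∈ closure ({y} : Set X) := by
    apply support_closureStructureSheaf y
    intro hsub
    exact hl (Module.length_eq_zero_iff.2 hsub)
  have hyx : y ∈ closure ({x} : Set X) := by
    by_contra hne
    have h1 := Groth.Agent.Lib.Helper27BMCoh.krullDim_closure_add_one_le hx hne
    rw [hd] at h1
    have h2 : ((n + 1 : ℕ) : WithBot ℕ∞) ≤ (n : WithBot ℕ∞) := by
      push_cast
      exact h1.trans hy
    have h3 : n + 1 ≤ n := by exact_mod_cast h2
    omega
  rw [Set.mem_singleton_iff]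
  exact ((specializes_iff_mem_closure.2 hyx).antisymm (specializes_iff_mem_closure.2 hx)).eq

theorem Good.closureStructureSheaf
    (hy : topologicalKrullDim ↥(closure ({y} : Set X)) ≤ (n : WithBot ℕ∞)) :
    Good n (Cyc.closureStructureSheaf y) := by
  have hsub := topPts_closureStructureSheaf_subset n y hy
  have hlen1 := length_closureStructureSheaf y
  refine ⟨(Set.finite_singleton y).subset hsub, ?_, ?_⟩
  · intro x hd
    by_cases h0 : Module.length (X.presheaf.stalk x) ((Cyc.closureStructureSheaf y).presheaf.stalk x) = 0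
    · rw [h0]; simp
    · have : x ∈ topPts n (Cyc.closureStructureSheaf y) := ⟨hd, h0⟩
      have hxy : x = y := hsub this
      subst hxy
      rw [hlen1]
      simp
  · have hzero : ∀ x : X, x ≠ y → cfun n (Cyc.closureStructureSheaf y) x = 0 := by
      intro x hxy
      by_contra hne
      exact hxy (hsub (support_cfun_subset n _ (Function.mem_support.2 hne)))
    rw [finsum_eq_single _ y hzero]
    unfold cfun
    by_cases hd : topologicalKrullDim ↥(closure ({y} : Set X)) = (n : WithBot ℕ∞)
    · rw [if_pos hd, hlen1]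
      simp
    · rw [if_neg hd, sub_zero]
      refine AddSubgroup.subset_closure ⟨_, isCoh_closureStructureSheaf y, ?_, rfl⟩
      exact lt_of_le_of_lt (dim_le_of_subset (support_closureStructureSheaf y)) (lt_of_le_of_ne hy hd)

end Gen

section Main
variable [IsNoetherian X]

/-- **the class of a coherent module modulo lower-dimensional classes** -/
theorem good_of_dim_le (F : X.Modules) (hF : Coh.IsCoh F)
    (hdim : topologicalKrullDim ↥(CohB1.support F) ≤ (n : WithBot ℕ∞)) : Good n F := by
  haveI : IsLocallyNoetherian X := inferInstance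
  refine noetherian_induction_coh (Good n) (CohB1.support F) (fun M N ⟨e⟩ h => h.of_iso n e)
    (fun M hM => Good.zero n hM) (fun S hS c1 c2 c3 _ h1 h3 => Good.ext n S hS c1 c2 c3 h1 h3) ?_
    F hF (le_refl _)
  intro y hyT IH E hE hsE
  have hK : Exact23 (Good n) (closure {y}) :=
    ⟨fun M N ⟨e⟩ h => h.of_iso n e, fun S hS c1 c2 c3 _ =>
      ⟨fun h1 h2 => Good.X₃ n S hS c1 c2 c3 h1 h2, fun h1 h3 => Good.ext n S hS c1 c2 c3 h1 h3,
        fun h2 h3 => Good.X₁ n S hS c1 c2 c3 h2 h3⟩⟩
  have hdimy : topologicalKrullDim ↥(closure ({y} : Set X)) ≤ (n : WithBot ℕ∞) :=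
    (dim_le_of_subset hyT).trans hdim
  exact devissage_irreducible y hK IH (isCoh_closureStructureSheaf y) (support_closureStructureSheaf y)
    (Good.closureStructureSheaf n y hdimy) (length_closureStructureSheaf y) E hE hsE

end Main

end Groth.Agent.Lib.Helper4.KFilt
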