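import Mathlib
import Groth.Agent.Lib.Helper4KFilt2
import Groth.Agent.Lib.Helper1StalkTensorB
import Groth.Agent.Lib.Helper1PC15
import Groth.Agent.Lib.Helper2RankLoc
import Groth.Agent.Lib.Helper2LocFree
import Groth.Agent.Lib.Helper18Strict6
import Groth.Agent.Lib.Helper23TensorQCoh
set_option backward.isDefEq.respectTransparency.types false

/-!
# Tensoring with a locally free module on the graded pieces of `K'₀` (helper4)

* `stalkTensorEquiv`: `(E ⊗ F)_x ≃ E_x ⊗ F_x` for `CohB1.tensorMod`.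
* `length_stalk_tensorMod`: `length (E ⊗ F)_x = e * length F_x` for `E_x` free of rank `e`.
* `clSub_tensorMod_sub_mem`: S7763.
-/

set_option autoImplicit false
set_option linter.style.haveILetI false
set_option linter.unusedSectionVars false
universe u
open CategoryTheory CategoryTheory.Limits AlgebraicGeometry TensorProduct MonoidalCategory

namespace Groth.Agent.Lib.Helper4.KTensor
open Groth.Agent.Lib.Helper4.Dev Groth.Agent.Lib.Helper4.KFilt Groth.Agent.Lib.Helper1.StalkTensor
  Groth.Agent.Lib.Helper17.K0a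

variable {X : Scheme.{u}}

/-- the stalk of the tensor product of two `O_X`-modules -/
noncomputable def stalkTensorEquiv (E F : X.Modules) (x : X) :
    ↑((CohB1.tensorMod E F).presheaf.stalk x) ≃ₗ[X.presheaf.stalk x]
      (↑(E.presheaf.stalk x) ⊗[X.presheaf.stalk x] ↑(F.presheaf.stalk x)) :=
  (LinearEquiv.ofBijective (smₗ (etaX (toPM E ⊗ toPM F)) x) (sm_etaX_bijective _ x)).symm ≪≫ₗ
    αLin (toPM E) (toPM F) x

theorem length_stalk_tensorMod (E F : X.Modules) (x : X) (e : ℕ)
    [Module.Free (X.presheaf.stalk x) (E.presheaf.stalk x)]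
    [Module.Finite (X.presheaf.stalk x) (E.presheaf.stalk x)]
    (hrk : Module.finrank (X.presheaf.stalk x) (E.presheaf.stalk x) = e) :
    Module.length (X.presheaf.stalk x) ((CohB1.tensorMod E F).presheaf.stalk x) =
      e * Module.length (X.presheaf.stalk x) (F.presheaf.stalk x) := by
  let b := Module.finBasisOfFinrankEq (X.presheaf.stalk x) (E.presheaf.stalk x) hrk
  let e1 := stalkTensorEquiv E F x
  let e2 : (↑(E.presheaf.stalk x) ⊗[X.presheaf.stalk x] ↑(F.presheaf.stalk x)) ≃ₗ[X.presheaf.stalk x]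
      ((Fin e →₀ X.presheaf.stalk x) ⊗[X.presheaf.stalk x] ↑(F.presheaf.stalk x)) :=
    TensorProduct.congr b.repr (LinearEquiv.refl _ _)
  let e3 := TensorProduct.finsuppScalarLeft (X.presheaf.stalk x) (F.presheaf.stalk x) (Fin e)
  rw [(e1 ≪≫ₗ e2 ≪≫ₗ e3).length_eq, Module.length_finsupp]
  simp

theorem support_tensorMod_subset (E F : X.Modules) :
    CohB1.support (CohB1.tensorMod E F) ⊆ CohB1.support F := by
  intro x hx hF
  apply hx
  haveI : Subsingleton ↑(F.presheaf.stalk x) := hF
  exact (stalkTensorEquiv E F x).toEquiv.subsingleton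

open Groth.Agent.Lib.Helper2.RankLoc in
theorem stalk_of_isFinLocFreeOfRank (E : X.Modules) (e : ℕ) (hE : FlatMod.IsFinLocFreeOfRank e E)
    (x : X) :
    Module.Free (X.presheaf.stalk x) (E.presheaf.stalk x) ∧
      Module.Finite (X.presheaf.stalk x) (E.presheaf.stalk x) ∧
      Module.finrank (X.presheaf.stalk x) (E.presheaf.stalk x) = e := by
  have hE' : FlatMod.IsFinLocFree E := fun x => by
    obtain ⟨U, hxU, h⟩ := hE x
    exact ⟨U, e, hxU, h⟩
  haveI : E.IsQuasicoherent := Groth.Agent.Helper18Strict.isQCoh_of_isFP E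
    (Groth.Agent.Lib.Helper2.LocFree.isFP_of_isFinLocFree E hE')
  obtain ⟨U, hxU, ⟨iso⟩⟩ := hE x
  obtain ⟨y, rfl⟩ : ∃ y : U, U.ι y = x := ⟨⟨x, hxU⟩, rfl⟩
  obtain ⟨hfree, hrk⟩ := fibreRank_eq_of_restrict_iso_freeMod U.ι E iso y
  obtain ⟨-, hfin⟩ := Groth.Agent.Lib.Helper1.SPL.free_finite_stalk_of_restrict_iso_freeMod E U.ι e iso y
  refine ⟨hfree, hfin, ?_⟩
  rw [← hrk]
  exact (Module.finrank_baseChange).symm

section Main
variable [IsNoetherian X]

/-- S7763 -/
theorem clSub_tensorMod_sub_mem (E : X.Modules) (e : ℕ) (hE : FlatMod.IsFinLocFreeOfRank e E)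
    (F : X.Modules) (hF : Coh.IsCoh F) (r : ℕ) (hr : topologicalKrullDim (CohB1.support F) ≤ r) :
    KZero.clSub (cohP X) (CohB1.tensorMod E F) - e • KZero.clSub (cohP X) F ∈ lowSub (X := X) r := by
  classical
  haveI : IsLocallyNoetherian X := inferInstance
  have hE' : FlatMod.IsFinLocFree E := fun x => by
    obtain ⟨U, hxU, h⟩ := hE x
    exact ⟨U, e, hxU, h⟩
  have hEfp := Groth.Agent.Lib.Helper2.LocFree.isFP_of_isFinLocFree E hE'
  haveI : E.IsQuasicoherent := Groth.Agent.Helper18Strict.isQCoh_of_isFP E hEfp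
  haveI : SheafOfModules.IsFiniteType (R := X.ringCatSheaf) E :=
    Groth.Agent.Helper18Strict.isFT_of_isFP E hEfp
  haveI : F.IsQuasicoherent := hF.1
  haveI : SheafOfModules.IsFiniteType (R := X.ringCatSheaf) F := hF.2
  have hT : Coh.IsCoh (CohB1.tensorMod E F) :=
    ⟨Groth.Agent.Lib.Helper23.TensorQCoh.isQuasicoherent_tensorMod E F,
      Groth.Agent.Lib.Helper23.TensorQCoh.isFiniteType_tensorMod E F⟩
  have hdimT : topologicalKrullDim (CohB1.support (CohB1.tensorMod E F)) ≤ r :=
    (dim_le_of_subset (support_tensorMod_subset E F)).trans hr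
  have gF := good_of_dim_le r F hF hr
  have gT := good_of_dim_le r (CohB1.tensorMod E F) hT hdimT
  have hlen : ∀ x : X, Module.length (X.presheaf.stalk x) ((CohB1.tensorMod E F).presheaf.stalk x) =
      e * Module.length (X.presheaf.stalk x) (F.presheaf.stalk x) := by
    intro x
    obtain ⟨h1, h2, h3⟩ := stalk_of_isFinLocFreeOfRank E e hE x
    exact length_stalk_tensorMod E F x e h3
  have hc : ∀ x : X, cfun r (CohB1.tensorMod E F) x = e • cfun r F x := by
    intro x
    unfold cfun
    by_cases hd : topologicalKrullDim ↥(closure ({x} : Set X)) = (r : WithBot ℕ∞)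
    · rw [if_pos hd, if_pos hd, hlen x, ENat.toNat_mul, ENat.toNat_natCast, mul_smul]
    · rw [if_neg hd, if_neg hd, smul_zero]
  have hsum : finsum (cfun r (CohB1.tensorMod E F)) = e • finsum (cfun r F) := by
    rw [smul_finsum' e (gF.fin.subset (support_cfun_subset r F))]
    exact finsum_congr hc
  have h1 := gT.mem
  have h2 := (lowSub (X := X) r).nsmul_mem gF.mem e
  have h3 := (lowSub (X := X) r).sub_mem h1 h2
  have : KZero.clSub (cohP X) (CohB1.tensorMod E F) - e • KZero.clSub (cohP X) F =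
      (KZero.clSub (cohP X) (CohB1.tensorMod E F) - finsum (cfun r (CohB1.tensorMod E F))) -
        e • (KZero.clSub (cohP X) F - finsum (cfun r F)) := by
    rw [hsum, smul_sub]
    abel
  rw [this]
  exact h3

end Main

end Groth.Agent.Lib.Helper4.KTensor
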