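import Groth.Agent.Lib.Helper17GammaA

/-!
# Helper17: `R^n Γ(X, -)` (values in `ModuleCat A`) is `A`-linearly isomorphic to `Coh.HH X - n`.
-/

set_option autoImplicit false
universe u
open CategoryTheory Limits AlgebraicGeometry Opposite

namespace Groth.Agent.Lib.Helper17.GammaA

open Groth.Agent.Lib.Helper27CohFin Groth.Agent.Lib.Helper23.QCohLocal
  Groth.Agent.Lib.Helper17.RDerLib RDer

section Transfer

variable {R : Type*} [CommRing R] {B C B' C' : Type*} [AddCommGroup B] [Module R B]
  [AddCommGroup C] [Module R C] [AddCommGroup B'] [Module R B'] [AddCommGroup C'] [Module R C']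

/-- two surjections with corresponding kernels have isomorphic targets. -/
theorem nonempty_linearEquiv_of_ker (u : B →ₗ[R] C) (hu : Function.Surjective u)
    (u' : B' →ₗ[R] C') (hu' : Function.Surjective u') (e : B ≃ₗ[R] B')
    (h : (LinearMap.ker u).map (e : B →ₗ[R] B') = LinearMap.ker u') : Nonempty (C ≃ₗ[R] C') :=
  ⟨(LinearMap.quotKerEquivOfSurjective u hu).symm ≪≫ₗ
    Submodule.Quotient.equiv (LinearMap.ker u) (LinearMap.ker u') e h ≪≫ₗ
    LinearMap.quotKerEquivOfSurjective u' hu'⟩

end Transfer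

variable {X : Scheme.{u}}

/-- injective `O_X`-modules have no higher cohomology. -/
theorem subsingleton_HH_injective (I : X.Modules) [hI : Injective I] (q : ℕ) :
    Subsingleton (Coh.HH X I (q + 1)) :=
  have key : ∀ x : Coh.HH X I (q + 1), x = 0 := fun x =>
    @Groth.Agent.Lib.Helper21.FreeAb.ext_toSheaf_eq_zero _ _ _ X.ringCatSheaf I hI q _
      Groth.Agent.Lib.Helper21.FreeAb.TF_Zc x
  ⟨fun x y => (key x).trans (key y).symm⟩

section HHside

variable (A : Type u) [CommRing A] [X.Over (Spec (CommRingCat.of A))]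
  (S : ShortComplex X.Modules) (hS : S.ShortExact)

theorem deltaLin_surjective (i : ℕ) (h : Subsingleton (Coh.HH X S.X₂ (i + 1))) :
    Function.Surjective (deltaLin A S hS i) := by
  intro x
  obtain ⟨y, hy⟩ := Abelian.Ext.covariant_sequence_exact₁ _ (shortExact_toAbF S hS) x
    (Subsingleton.elim (α := Coh.HH X S.X₂ (i + 1)) _ _) rfl
  exact ⟨y, hy⟩

theorem ker_deltaLin (i : ℕ) :
    LinearMap.ker (deltaLin A S hS i) = LinearMap.range (Canon.HHlin A S.g i) := by
  ext x
  constructor
  · intro hx
    obtain ⟨y, hy⟩ := exact_delta S hS i x hx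
    exact ⟨y, hy⟩
  · rintro ⟨y, rfl⟩
    exact delta_map S hS i y

end HHside

section Dside

/-- `X.Modules` has enough injectives (local instance). -/
local instance instEnoughInjectivesModules (X : Scheme.{u}) : EnoughInjectives X.Modules :=
  Groth.Agent.Lib.Helper17.QCPush.enoughInjectives X

variable (A : Type u) [CommRing A] [X.Over (Spec (CommRingCat.of A))]
  {S : ShortComplex X.Modules} (T : SESRes S)

/-- the connecting homomorphism of the derived functors of `Γ`, as a linear map. -/
noncomputable def δD (i : ℕ) :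
    ((Γ (X := X) A).rightDerived i).obj S.X₃ →ₗ[A] ((Γ (X := X) A).rightDerived (i + 1)).obj S.X₁ :=
  (T.delta (Γ (X := X) A) i (i + 1) rfl).hom

theorem δD_surjective (i : ℕ) (h : IsZero (((Γ (X := X) A).rightDerived (i + 1)).obj S.X₂)) :
    Function.Surjective (δD A T i) := by
  have hex := exact₁ (Γ (X := X) A) T i (i + 1) rfl
  haveI : Epi (T.delta (Γ (X := X) A) i (i + 1) rfl) :=
    hex.epi_f (h.eq_of_tgt _ _)
  exact (ModuleCat.epi_iff_surjective _).1 inferInstance

theorem ker_δD (i : ℕ) :
    LinearMap.ker (δD A T i) =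
      LinearMap.range (((Γ (X := X) A).rightDerived i).map S.g).hom := by
  have hex := exact₃ (Γ (X := X) A) T i (i + 1) rfl
  have := (ShortComplex.moduleCat_exact_iff_range_eq_ker _).1 hex
  exact this.symm

end Dside

section LB

local instance instEnoughInjectivesModules' (X : Scheme.{u}) : EnoughInjectives X.Modules :=
  Groth.Agent.Lib.Helper17.QCPush.enoughInjectives X

variable (A : Type u) [CommRing A] [X.Over (Spec (CommRingCat.of A))]

/-- degree zero. -/
noncomputable def lb0 (M : X.Modules) :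
    ((Γ (X := X) A).rightDerived 0).obj M ≃ₗ[A] Coh.HH X M 0 :=
  ((Γ (X := X) A).rightDerivedZeroIsoSelf.app M).toLinearEquiv ≪≫ₗ e0 A M

theorem lb0_naturality {M N : X.Modules} (φ : M ⟶ N)
    (s : ((Γ (X := X) A).rightDerived 0).obj M) :
    Canon.HHlin A φ 0 (lb0 A M s) = lb0 A N ((((Γ (X := X) A).rightDerived 0).map φ).hom s) := by
  have h1 := (Γ (X := X) A).rightDerivedZeroIsoSelf.hom.naturality φ
  have h2 := congrArg (fun z => z.hom s) h1
  simp only [ModuleCat.hom_comp, LinearMap.comp_apply] at h2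
  change Canon.HHlin A φ 0 (e0 A M (((Γ (X := X) A).rightDerivedZeroIsoSelf.hom.app M).hom s)) =
    e0 A N (((Γ (X := X) A).rightDerivedZeroIsoSelf.hom.app N).hom
      ((((Γ (X := X) A).rightDerived 0).map φ).hom s))
  rw [e0_naturality, h2]

/-- degree one. -/
theorem nonempty_lb1 (M : X.Modules) :
    Nonempty (((Γ (X := X) A).rightDerived 1).obj M ≃ₗ[A] Coh.HH X M 1) := by
  let S : ShortComplex X.Modules := ShortComplex.mk (Injective.ι M) (cokernel.π (Injective.ι M))
    (cokernel.condition _)
  have hS : S.ShortExact := cokernel_ses (Injective.ι M)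
  obtain ⟨T⟩ := nonempty_sesRes S hS
  haveI : Injective S.X₂ := inferInstanceAs (Injective (Injective.under M))
  refine nonempty_linearEquiv_of_ker (δD A T 0)
    (δD_surjective A T 0 (Functor.isZero_rightDerived_obj_injective_succ _ 0 S.X₂))
    (deltaLin A S hS 0) (deltaLin_surjective A S hS 0 (subsingleton_HH_injective S.X₂ 0))
    (lb0 A S.X₃) ?_
  rw [ker_δD, ker_deltaLin, ← LinearMap.range_comp]
  have hcomp : ((lb0 A S.X₃ : _ →ₗ[A] _)).comp (((Γ (X := X) A).rightDerived 0).map S.g).hom =
      (Canon.HHlin A S.g 0).comp (lb0 A S.X₂ : _ →ₗ[A] _) := by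
    ext s
    exact (lb0_naturality A S.g s).symm
  rw [hcomp, LinearMap.range_comp, LinearEquiv.range, Submodule.map_top]

/-- the inductive step. -/
theorem nonempty_lb_succ (i : ℕ)
    (h : ∀ N : X.Modules, Nonempty (((Γ (X := X) A).rightDerived (i + 1)).obj N ≃ₗ[A]
      Coh.HH X N (i + 1))) (M : X.Modules) :
    Nonempty (((Γ (X := X) A).rightDerived (i + 2)).obj M ≃ₗ[A] Coh.HH X M (i + 2)) := by
  let S : ShortComplex X.Modules := ShortComplex.mk (Injective.ι M) (cokernel.π (Injective.ι M))
    (cokernel.condition _)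
  have hS : S.ShortExact := cokernel_ses (Injective.ι M)
  obtain ⟨T⟩ := nonempty_sesRes S hS
  haveI : Injective S.X₂ := inferInstanceAs (Injective (Injective.under M))
  obtain ⟨e⟩ := h S.X₃
  refine nonempty_linearEquiv_of_ker (δD A T (i + 1))
    (δD_surjective A T (i + 1) (Functor.isZero_rightDerived_obj_injective_succ _ (i + 1) S.X₂))
    (deltaLin A S hS (i + 1))
    (deltaLin_surjective A S hS (i + 1) (subsingleton_HH_injective S.X₂ (i + 1))) e ?_
  have h1 : LinearMap.ker (δD A T (i + 1)) = ⊥ := by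
    rw [ker_δD]
    have hz : IsZero (((Γ (X := X) A).rightDerived (i + 1)).obj S.X₂) :=
      Functor.isZero_rightDerived_obj_injective_succ _ i S.X₂
    rw [hz.eq_of_src (((Γ (X := X) A).rightDerived (i + 1)).map S.g) 0]
    simp
  have h2 : LinearMap.ker (deltaLin A S hS (i + 1)) = ⊥ := by
    rw [ker_deltaLin]
    haveI := subsingleton_HH_injective S.X₂ i
    rw [LinearMap.range_eq_bot]
    ext x
    rw [Subsingleton.elim x 0, map_zero, LinearMap.zero_apply]
  rw [h1, h2, Submodule.map_bot]

/-- **the linear bridge**: `R^n Γ(X, M) ≃ₗ[A] H^n(X, M)`. -/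
theorem nonempty_lb (n : ℕ) (M : X.Modules) :
    Nonempty (((Γ (X := X) A).rightDerived n).obj M ≃ₗ[A] Coh.HH X M n) := by
  rcases n with _ | n
  · exact ⟨lb0 A M⟩
  · induction n generalizing M with
    | zero => exact nonempty_lb1 A M
    | succ n ih => exact nonempty_lb_succ A n ih M

/-- finiteness transfers along the linear bridge. -/
theorem finite_iff (n : ℕ) (M : X.Modules) :
    Module.Finite A (((Γ (X := X) A).rightDerived n).obj M) ↔ Module.Finite A (Coh.HH X M n) := by
  obtain ⟨e⟩ := nonempty_lb A n M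
  exact ⟨fun _ => Module.Finite.equiv e, fun _ => Module.Finite.equiv e.symm⟩

end LB

end Groth.Agent.Lib.Helper17.GammaA
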