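import Mathlib
import Groth.Prelude.Def_LocCohZ
import Groth.Agent.Lib.Helper23AffOpen3

/-!
# Finite cohomological dimension of quasi-compact quasi-separated schemes (helper23)

* `subsingleton_HE_of_list_class`: version of `subsingleton_HE_of_list` for a list of affine opens taken from a
  class of affine opens closed under binary intersections.
* `subsingleton_HE_of_isCompact_le_affine`: for a quasi-compact open `W` inside an affine open, there is `t` with
  `H^n(W, F) = 0` for all quasi-coherent `F` and `n ≥ t`.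
* `exists_bound_of_isCompact`: on a quasi-separated scheme every quasi-compact open has finite quasi-coherent
  cohomological dimension.
-/

set_option autoImplicit false
universe u
open CategoryTheory CategoryTheory.Limits Opposite TopologicalSpace AlgebraicGeometry Abelian

namespace Groth.Agent.Lib.Helper23.AffVanish

variable {X : Scheme.{u}}

lemma supList_le {l : List X.Opens} {W : X.Opens} (h : ∀ V ∈ l, V ≤ W) : supList l ≤ W := by
  induction l with
  | nil => simp
  | cons V l ih =>
    rw [supList_cons]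
    exact sup_le (h V List.mem_cons_self) (ih fun V' hV' => h V' (List.mem_cons_of_mem _ hV'))

theorem subsingleton_HE_of_list_class (𝒞 : Set X.Opens) (hC : ∀ V ∈ 𝒞, IsAffineOpen V)
    (hCi : ∀ V ∈ 𝒞, ∀ W ∈ 𝒞, V ⊓ W ∈ 𝒞)
    (F : X.Modules) [F.IsQuasicoherent] :
    ∀ (l : List X.Opens), (∀ V ∈ l, V ∈ 𝒞) → ∀ n : ℕ, l.length ≤ n →
      Subsingleton (HE (ab' F) n (supList l)) := by
  suffices H : ∀ (k : ℕ) (l : List X.Opens), l.length = k → (∀ V ∈ l, V ∈ 𝒞) → ∀ n : ℕ, k ≤ n →
      Subsingleton (HE (ab' F) n (supList l)) from fun l hl n hn => H l.length l rfl hl n hn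
  intro k
  induction k with
  | zero =>
    intro l hk _ n _
    have : l = [] := List.length_eq_zero_iff.1 hk
    subst this
    exact ⟨fun a b => (HE_eq_zero_of_eq_bot _ n rfl a).trans (HE_eq_zero_of_eq_bot _ n rfl b).symm⟩
  | succ k ih =>
    intro l hk hl n hn
    obtain ⟨V, l, rfl⟩ : ∃ V l', l = V :: l' := by
      cases l with
      | nil => simp at hk
      | cons V l' => exact ⟨V, l', rfl⟩
    have hk' : l.length = k := by simpa using hk
    have hV : V ∈ 𝒞 := hl V List.mem_cons_self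
    have hl' : ∀ W ∈ l, W ∈ 𝒞 := fun W hW => hl W (List.mem_cons_of_mem _ hW)
    obtain ⟨m, rfl⟩ : ∃ m, n = m + 1 := ⟨n - 1, by omega⟩
    have hm : k ≤ m := by omega
    haveI h1 : Subsingleton (HE (ab' F) (m + 1) V) := subsingleton_HE_of_isAffineOpen (hC V hV) F m
    haveI h2 : Subsingleton (HE (ab' F) (m + 1) (supList l)) := ih l hk' hl' (m + 1) (by omega)
    have h3 : Subsingleton (HE (ab' F) m (V ⊓ supList l)) := by
      rw [inf_supList]
      apply ih (l.map (V ⊓ ·)) (by simpa using hk')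
      · intro W hW
        obtain ⟨W', hW', rfl⟩ := List.mem_map.1 hW
        exact hCi V hV W' (hl' W' hW')
      · exact hm
    refine ⟨fun a b => ?_⟩
    have key : ∀ α : HE (ab' F) (m + 1) (supList (V :: l)), α = 0 := by
      intro α
      exact eq_zero_of_mv (ab' F) m V (supList l) (supList (V :: l)) le_sup_left le_sup_right le_rfl α
        (Subsingleton.elim _ _) (Subsingleton.elim _ _)
        (fun γ => ⟨0, 0, @Subsingleton.elim _ h3 _ _⟩)
    exact (key a).trans (key b).symm

/-- A quasi-compact open inside an affine open has finite quasi-coherent cohomological dimension. -/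
theorem exists_bound_of_isCompact_le_affine {U : X.Opens} (hU : IsAffineOpen U) (W : X.Opens)
    (hWU : W ≤ U) (hW : IsCompact (W : Set X)) :
    ∃ t : ℕ, ∀ (F : X.Modules) [F.IsQuasicoherent] (n : ℕ), t ≤ n → Subsingleton (HE (ab' F) n W) := by
  have hloc : ∀ x : W, ∃ f : Γ(X, U), X.basicOpen f ≤ W ∧ (x : X) ∈ X.basicOpen f :=
    fun x => hU.exists_basicOpen_le (V := W) x (hWU x.2)
  choose f hfW hxf using hloc
  obtain ⟨s, hs⟩ := hW.elim_finite_subcover (fun x : W => (X.basicOpen (f x) : Set X))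
    (fun x => (X.basicOpen (f x)).2) (fun y hy => Set.mem_iUnion.2 ⟨⟨y, hy⟩, hxf ⟨y, hy⟩⟩)
  let l : List X.Opens := s.toList.map (fun x => X.basicOpen (f x))
  have hl : supList l = W := by
    apply le_antisymm
    · apply supList_le
      intro V hV
      obtain ⟨x, _, rfl⟩ := List.mem_map.1 hV
      exact hfW x
    · intro y hy
      obtain ⟨x, hx⟩ := Set.mem_iUnion.1 (hs hy)
      obtain ⟨hxs, hyx⟩ := Set.mem_iUnion.1 hx
      exact le_supList_of_mem (List.mem_map.2 ⟨x, Finset.mem_toList.2 hxs, rfl⟩) hyx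
  refine ⟨l.length, fun F _ n hn => ?_⟩
  rw [← hl]
  refine subsingleton_HE_of_list_class (Set.range (X.basicOpen : Γ(X, U) → X.Opens)) ?_ ?_ F l ?_ n hn
  · rintro _ ⟨g, rfl⟩
    exact hU.basicOpen g
  · rintro _ ⟨g, rfl⟩ _ ⟨g', rfl⟩
    exact ⟨g * g', X.basicOpen_mul g g'⟩
  · intro V hV
    obtain ⟨x, _, rfl⟩ := List.mem_map.1 hV
    exact ⟨f x, rfl⟩

/-- On a quasi-separated scheme every quasi-compact open has finite quasi-coherent cohomological dimension. -/
theorem exists_bound_of_isCompact [QuasiSeparatedSpace X] (W : X.Opens) (hW : IsCompact (W : Set X)) :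
    ∃ d : ℕ, ∀ (F : X.Modules) [F.IsQuasicoherent] (n : ℕ), d ≤ n → Subsingleton (HE (ab' F) n W) := by
  refine compact_open_induction_on (P := fun W : X.Opens => ∃ d : ℕ, ∀ (F : X.Modules) [F.IsQuasicoherent]
    (n : ℕ), d ≤ n → Subsingleton (HE (ab' F) n W)) W hW ?_ ?_
  · exact ⟨0, fun F _ n _ =>
      ⟨fun a b => (HE_eq_zero_of_eq_bot _ n rfl a).trans (HE_eq_zero_of_eq_bot _ n rfl b).symm⟩⟩
  · rintro S hS U ⟨dS, hdS⟩
    have hSU : IsCompact ((S ⊓ U.1 : X.Opens) : Set X) :=
      QuasiSeparatedSpace.inter_isCompact _ _ S.2 hS U.1.2 U.2.isCompact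
    obtain ⟨t, ht⟩ := exists_bound_of_isCompact_le_affine U.2 (S ⊓ U.1) inf_le_right hSU
    refine ⟨max dS (t + 1), fun F _ n hn => ?_⟩
    obtain ⟨m, rfl⟩ : ∃ m, n = m + 1 := ⟨n - 1, by omega⟩
    haveI h1 : Subsingleton (HE (ab' F) (m + 1) S) := hdS F (m + 1) (by omega)
    haveI h2 : Subsingleton (HE (ab' F) (m + 1) U.1) := subsingleton_HE_of_isAffineOpen U.2 F m
    have h3 : Subsingleton (HE (ab' F) m (S ⊓ U.1)) := ht F m (by omega)
    refine ⟨fun a b => ?_⟩
    have key : ∀ α : HE (ab' F) (m + 1) (S ⊔ U.1), α = 0 := by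
      intro α
      exact eq_zero_of_mv (ab' F) m S U.1 (S ⊔ U.1) le_sup_left le_sup_right le_rfl α
        (Subsingleton.elim _ _) (Subsingleton.elim _ _)
        (fun γ => ⟨0, 0, @Subsingleton.elim _ h3 _ _⟩)
    exact (key a).trans (key b).symm

/-- `S0016`-form. -/
theorem exists_bound_HH [CompactSpace X] [QuasiSeparatedSpace X] :
    ∃ d : ℕ, ∀ (M : X.Modules), M.IsQuasicoherent → ∀ p : ℕ, d ≤ p → Subsingleton (Coh.HH X M p) := by
  obtain ⟨d, hd⟩ := exists_bound_of_isCompact (⊤ : X.Opens) isCompact_univ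
  refine ⟨d, fun M hM p hp => ?_⟩
  haveI := hM
  haveI := hd M p hp
  exact (HETopEquivH X.carrier (ab' M) p).symm.subsingleton

end Groth.Agent.Lib.Helper23.AffVanish
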