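import Mathlib
import Groth.Prelude.Def_Coh
import Groth.Prelude.Def_Canon
import Groth.Prelude.Def_CurvBase
import Groth.Agent.S0002
import Groth.Agent.S0016
import Groth.Agent.Lib.Helper17GammaA2

set_option autoImplicit false
universe u
open CategoryTheory Limits AlgebraicGeometry Opposite TopologicalSpace Abelian

namespace Groth.Agent.Lib.Helper6.Euler

open Groth.Agent.Lib.Helper27CohFin Groth.Agent.Lib.Helper23.QCohLocal
  Groth.Agent.Lib.Helper17.GammaA

/-- telescoping identity for the alternating sum along a long exact sequence -/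
theorem alt_sum_telescope (a b c t : ℕ → ℤ) (h0 : a 0 - b 0 + c 0 = t 0)
    (hs : ∀ i, a (i + 1) - b (i + 1) + c (i + 1) = t i + t (i + 1)) (n : ℕ) :
    ∑ i ∈ Finset.range (n + 1), (-1 : ℤ) ^ i * (a i - b i + c i) = (-1) ^ n * t n := by
  induction n with
  | zero => simp [h0]
  | succ n ih =>
    rw [Finset.sum_range_succ, ih, hs n, pow_succ]
    ring

section LES

variable {X : Scheme.{u}} (A : Type u) [CommRing A] [X.Over (Spec (CommRingCat.of A))]
  (S : ShortComplex X.Modules) (hS : S.ShortExact)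

include hS in
theorem range_f_eq_ker_g (i : ℕ) :
    LinearMap.range (Canon.HHlin A S.f i) = LinearMap.ker (Canon.HHlin A S.g i) := by
  ext x
  constructor
  · rintro ⟨y, rfl⟩
    change Sheaf.H.map ((toAbF X).map S.g) i (Sheaf.H.map ((toAbF X).map S.f) i y) = 0
    rw [← Sheaf.H.map_comp_apply, ← Functor.map_comp, S.zero, Functor.map_zero]
    change ((Sheaf.functorH _ i).map (0 : (toAbF X).obj S.X₁ ⟶ (toAbF X).obj S.X₃)).hom y = 0
    rw [Functor.map_zero]
    rfl
  · intro hx
    obtain ⟨y, hy⟩ := Ext.covariant_sequence_exact₂ _ (shortExact_toAbF S hS) x hx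
    exact ⟨y, hy⟩

theorem range_delta_eq_ker_f (i : ℕ) :
    LinearMap.range (deltaLin A S hS i) = LinearMap.ker (Canon.HHlin A S.f (i + 1)) := by
  ext x
  constructor
  · rintro ⟨y, rfl⟩
    have h := (shortExact_toAbF S hS).extClass_comp
    exact (Ext.comp_assoc_of_third_deg_zero y (shortExact_toAbF S hS).extClass
        (Ext.mk₀ ((toAbF X).map S.f)) rfl).trans
      ((congrArg (fun z => y.comp z rfl) h).trans (Ext.comp_zero _ _ _ _ _))
  · intro hx
    obtain ⟨y, hy⟩ := Ext.covariant_sequence_exact₁ _ (shortExact_toAbF S hS) x hx rfl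
    exact ⟨y, hy⟩

include hS in
theorem injective_f_zero : Function.Injective (Canon.HHlin A S.f 0) := by
  haveI : Mono ((toAbF X).map S.f) := (shortExact_toAbF S hS).mono_f
  exact Ext.postcomp_mk₀_injective_of_mono _ ((toAbF X).map S.f)

end LES

section Field

variable {X : Scheme.{u}} (k : Type u) [Field k] [X.Over (Spec (CommRingCat.of k))]
  (S : ShortComplex X.Modules) (hS : S.ShortExact)

/-- rank of the connecting homomorphism -/
noncomputable def tRk (i : ℕ) : ℤ := (Module.finrank k (LinearMap.range (deltaLin k S hS i)) : ℤ)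

variable [∀ i, Module.Finite k (Coh.HH X S.X₁ i)] [∀ i, Module.Finite k (Coh.HH X S.X₂ i)]
  [∀ i, Module.Finite k (Coh.HH X S.X₃ i)]

omit [∀ i, Module.Finite k (Coh.HH X S.X₁ i)] in
theorem dim_identity_zero :
    (Module.finrank k (Coh.HH X S.X₁ 0) : ℤ) - Module.finrank k (Coh.HH X S.X₂ 0) +
      Module.finrank k (Coh.HH X S.X₃ 0) = tRk k S hS 0 := by
  have h1 := LinearMap.finrank_range_of_inj (injective_f_zero k S hS)
  have h2 := LinearMap.finrank_range_add_finrank_ker (Canon.HHlin k S.g 0)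
  have h3 := LinearMap.finrank_range_add_finrank_ker (deltaLin k S hS 0)
  rw [← range_f_eq_ker_g k S hS 0] at h2
  rw [ker_deltaLin k S hS 0] at h3
  unfold tRk
  omega

theorem dim_identity_succ (i : ℕ) :
    (Module.finrank k (Coh.HH X S.X₁ (i + 1)) : ℤ) - Module.finrank k (Coh.HH X S.X₂ (i + 1)) +
      Module.finrank k (Coh.HH X S.X₃ (i + 1)) = tRk k S hS i + tRk k S hS (i + 1) := by
  have h1 := LinearMap.finrank_range_add_finrank_ker (Canon.HHlin k S.f (i + 1))
  have h2 := LinearMap.finrank_range_add_finrank_ker (Canon.HHlin k S.g (i + 1))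
  have h3 := LinearMap.finrank_range_add_finrank_ker (deltaLin k S hS (i + 1))
  rw [← range_delta_eq_ker_f k S hS i] at h1
  rw [← range_f_eq_ker_g k S hS (i + 1)] at h2
  rw [ker_deltaLin k S hS (i + 1)] at h3
  unfold tRk
  omega

theorem alt_sum_eq (n : ℕ) :
    ∑ i ∈ Finset.range (n + 1), (-1 : ℤ) ^ i *
      ((Module.finrank k (Coh.HH X S.X₁ i) : ℤ) - Module.finrank k (Coh.HH X S.X₂ i) +
        Module.finrank k (Coh.HH X S.X₃ i)) = (-1) ^ n * tRk k S hS n :=
  alt_sum_telescope _ _ _ _ (dim_identity_zero k S hS) (dim_identity_succ k S hS) n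

end Field

section Main

variable (k : Type u) [Field k] (X : Scheme.{u}) [X.Over (Spec (CommRingCat.of k))]

/-- the Euler characteristic as a finite sum, given a vanishing bound -/
theorem euler_eq_sum (F : X.Modules) (N : ℕ)
    (hN : ∀ p, N ≤ p → Subsingleton (Coh.HH X F p)) :
    Curv2.euler k X F =
      ∑ i ∈ Finset.range (N + 1), (-1 : ℤ) ^ i * (Module.finrank k (Coh.HH X F i) : ℤ) := by
  unfold Curv2.euler
  apply finsum_eq_sum_of_support_subset
  intro i hi
  rw [Finset.coe_range, Set.mem_Iio]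
  by_contra hlt
  apply hi
  haveI := hN i (by omega)
  change (-1 : ℤ) ^ i * (Module.finrank k (Coh.HH X F i) : ℤ) = 0
  rw [Module.finrank_zero_of_subsingleton]
  simp

theorem euler_additive [IsProper (X ↘ (Spec (CommRingCat.of k)))]
    (S : ShortComplex X.Modules) (hS : S.ShortExact)
    (h₁ : Coh.IsCoh S.X₁) (h₂ : Coh.IsCoh S.X₂) (h₃ : Coh.IsCoh S.X₃) :
    Curv2.euler k X S.X₂ = Curv2.euler k X S.X₁ + Curv2.euler k X S.X₃ := by
  haveI : CompactSpace X := by
    have : QuasiCompact (X ↘ (Spec (CommRingCat.of k))) := inferInstance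
    exact (quasiCompact_iff_compactSpace (X ↘ (Spec (CommRingCat.of k)))).1 this
  haveI : QuasiSeparatedSpace X := by
    have : QuasiSeparated (X ↘ (Spec (CommRingCat.of k))) := inferInstance
    exact (quasiSeparated_iff_quasiSeparatedSpace (X ↘ (Spec (CommRingCat.of k)))).1 this
  obtain ⟨N, hN⟩ := Groth.Agent.S0016.result X
  haveI : ∀ i, Module.Finite k (Coh.HH X S.X₁ i) := fun i => Groth.Agent.S0002.result k X _ h₁ i
  haveI : ∀ i, Module.Finite k (Coh.HH X S.X₂ i) := fun i => Groth.Agent.S0002.result k X _ h₂ i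
  haveI : ∀ i, Module.Finite k (Coh.HH X S.X₃ i) := fun i => Groth.Agent.S0002.result k X _ h₃ i
  rw [euler_eq_sum k X S.X₁ N (hN _ h₁.1), euler_eq_sum k X S.X₂ N (hN _ h₂.1),
    euler_eq_sum k X S.X₃ N (hN _ h₃.1)]
  have key := alt_sum_eq k S hS N
  have ht : tRk k S hS N = 0 := by
    unfold tRk
    haveI := hN _ h₃.1 N le_rfl
    have : LinearMap.range (deltaLin k S hS N) = ⊥ := by
      rw [LinearMap.range_eq_bot]
      ext x
      rw [Subsingleton.elim x 0, map_zero]
      rfl
    rw [this, finrank_bot]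
    rfl
  rw [ht, mul_zero] at key
  simp only [mul_add, mul_sub, Finset.sum_add_distrib, Finset.sum_sub_distrib] at key
  linarith

end Main

end Groth.Agent.Lib.Helper6.Euler
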