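import Mathlib
import Groth.Agent.Lib.Helper6Euler
import Groth.Agent.Lib.Helper21HZB9
import Groth.Agent.Lib.Helper17GrSysH
import Groth.Agent.Lib.Helper4KTensor
import Groth.Agent.Lib.Helper4DevA
import Groth.Agent.Lib.Helper23Support

/-!
# Additivity of the degree on short exact sequences of finite locally free modules (helper4)

* `finrank_add_of_exact` : rank additivity for short exact sequences of finite free modules
* `isZero_of_isEmpty`, `euler_eq_zero_of_isEmpty`
* `rank_add_of_shortExact`, `deg_additive`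
-/

set_option autoImplicit false
set_option linter.style.haveILetI false
universe u
open CategoryTheory CategoryTheory.Limits AlgebraicGeometry TopologicalSpace Opposite

namespace Groth.Agent.Lib.Helper4.DegAdd

theorem finrank_add_of_exact {R : Type u} [CommRing R] [Nontrivial R] {M₁ M₂ M₃ : Type u}
    [AddCommGroup M₁] [AddCommGroup M₂] [AddCommGroup M₃] [Module R M₁] [Module R M₂] [Module R M₃]
    [Module.Free R M₁] [Module.Finite R M₁] [Module.Free R M₃] [Module.Finite R M₃]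
    (f : M₁ →ₗ[R] M₂) (g : M₂ →ₗ[R] M₃) (hf : Function.Injective f) (hg : Function.Surjective g)
    (h : Function.Exact f g) :
    Module.finrank R M₂ = Module.finrank R M₁ + Module.finrank R M₃ := by
  obtain ⟨s, hs⟩ := Module.projective_lifting_property g LinearMap.id hg
  obtain ⟨e, -, -⟩ := h.splitSurjectiveEquiv hf ⟨s, hs⟩
  rw [LinearEquiv.finrank_eq e, Module.finrank_prod]

variable {X : Scheme.{u}}

theorem isZero_of_isEmpty [IsEmpty X] (M : X.Modules) : IsZero M := by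
  rw [IsZero.iff_id_eq_zero]
  apply Scheme.Modules.hom_ext
  intro U
  ext s
  have h := fun t : Γ(M, U) => Groth.Agent.Lib.Helper23.Support.eq_zero_of_disjoint_support M U
    (fun x _ => (IsEmpty.false x).elim) t
  exact (h _).trans (h _).symm

theorem euler_eq_zero_of_isEmpty (k : Type u) [Field k] [X.Over (Spec (CommRingCat.of k))] [IsEmpty X]
    (M : X.Modules) : Curv2.euler k X M = 0 := by
  unfold Curv2.euler
  have h : ∀ i : ℕ, (-1 : ℤ) ^ i * (Module.finrank k (Coh.HH X M i) : ℤ) = 0 := by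
    intro i
    haveI : Subsingleton (Coh.HH X M i) :=
      ⟨fun a b => (Groth.Agent.Lib.Helper17.GrSysH.eq_zero_of_isZero (isZero_of_isEmpty M) i a).trans
        (Groth.Agent.Lib.Helper17.GrSysH.eq_zero_of_isZero (isZero_of_isEmpty M) i b).symm⟩
    rw [Module.finrank_zero_of_subsingleton]
    simp
  simp only [h]
  exact finsum_zero

theorem rank_add_of_shortExact [Nonempty X] (S : ShortComplex X.Modules) (hS : S.ShortExact)
    (n₁ n₂ n₃ : ℕ) (h₁ : FlatMod.IsFinLocFreeOfRank n₁ S.X₁) (h₂ : FlatMod.IsFinLocFreeOfRank n₂ S.X₂)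
    (h₃ : FlatMod.IsFinLocFreeOfRank n₃ S.X₃) : n₂ = n₁ + n₃ := by
  obtain ⟨x⟩ := ‹Nonempty X›
  obtain ⟨f1, g1, r1⟩ := Groth.Agent.Lib.Helper4.KTensor.stalk_of_isFinLocFreeOfRank S.X₁ n₁ h₁ x
  obtain ⟨f2, g2, r2⟩ := Groth.Agent.Lib.Helper4.KTensor.stalk_of_isFinLocFreeOfRank S.X₂ n₂ h₂ x
  obtain ⟨f3, g3, r3⟩ := Groth.Agent.Lib.Helper4.KTensor.stalk_of_isFinLocFreeOfRank S.X₃ n₃ h₃ x
  have := hS.mono_f
  have := hS.epi_g
  have key := finrank_add_of_exact (Groth.Agent.Lib.Helper4.Dev.stalkL S.f x)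
    (Groth.Agent.Lib.Helper4.Dev.stalkL S.g x)
    (Groth.Agent.Lib.Helper4.Dev.stalkL_injective_of_mono S.f x)
    (Groth.Agent.Lib.Helper4.Dev.stalkL_surjective_of_epi S.g x)
    (Groth.Agent.Lib.Helper4.Dev.stalkL_exact S hS x)
  rw [r1, r2, r3] at key
  exact key

theorem isCoh_of_isFinLocFreeOfRank (M : X.Modules) (n : ℕ) (h : FlatMod.IsFinLocFreeOfRank n M) :
    Coh.IsCoh M :=
  Groth.Agent.Lib.Helper21.HZB.isCoh_of_isFinLocFree M (fun x => by
    obtain ⟨U, hxU, hU⟩ := h x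
    exact ⟨U, n, hxU, hU⟩)

theorem deg_additive (k : Type u) [Field k] (X : Scheme.{u}) [X.Over (Spec (CommRingCat.of k))]
    [IsProper (X ↘ (Spec (CommRingCat.of k)))]
    (S : ShortComplex X.Modules) (hS : S.ShortExact)
    (n₁ n₂ n₃ : ℕ) (h₁ : FlatMod.IsFinLocFreeOfRank n₁ S.X₁) (h₂ : FlatMod.IsFinLocFreeOfRank n₂ S.X₂)
    (h₃ : FlatMod.IsFinLocFreeOfRank n₃ S.X₃) :
    Curv2.deg k X S.X₂ n₂ = Curv2.deg k X S.X₁ n₁ + Curv2.deg k X S.X₃ n₃ := by
  unfold Curv2.deg
  by_cases hX : IsEmpty X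
  · rw [euler_eq_zero_of_isEmpty k S.X₁, euler_eq_zero_of_isEmpty k S.X₂, euler_eq_zero_of_isEmpty k S.X₃,
      euler_eq_zero_of_isEmpty k (Coh.structureModule X)]
    simp
  · rw [not_isEmpty_iff] at hX
    have hn := rank_add_of_shortExact S hS n₁ n₂ n₃ h₁ h₂ h₃
    rw [Groth.Agent.Lib.Helper6.Euler.euler_additive k X S hS (isCoh_of_isFinLocFreeOfRank _ _ h₁)
      (isCoh_of_isFinLocFreeOfRank _ _ h₂) (isCoh_of_isFinLocFreeOfRank _ _ h₃), hn]
    push_cast
    ring

end Groth.Agent.Lib.Helper4.DegAdd
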