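import Mathlib
import Groth.Agent.S0047
import Groth.Agent.Lib.Helper23LocGen

/-!
# Coherent modules with zero-dimensional support are globally generated (helper4)

* `exists_global_extension` : on a locally Noetherian scheme, sections of a coherent module whose support
  consists of closed points extend from any open to global sections (helper23's S0047 flasqueness argument).
* `isGloballyGenerated_of_closed_points`
* `isClosed_singleton_of_dim_le_zero` : points of a closed subset of dimension ≤ 0 in a T0 space are closed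
-/

set_option autoImplicit false
universe u
open CategoryTheory CategoryTheory.Limits AlgebraicGeometry TopologicalSpace Opposite

namespace Groth.Agent.Lib.Helper4.ZeroDimGG
open Groth.Agent.Lib.Helper23.SecTw Groth.Agent.Lib.Helper23.GenLocus Groth.Agent.Lib.Helper6
open Groth.Agent.Lib.Helper23.LocGen Groth.Agent.Lib.Helper23.Support

theorem isClosed_singleton_of_dim_le_zero {α : Type*} [TopologicalSpace α] [T0Space α] (Z : Set α)
    (hZ : IsClosed Z) (hdim : topologicalKrullDim Z ≤ 0) (x : α) (hx : x ∈ Z) :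
    IsClosed ({x} : Set α) := by
  rw [← closure_subset_iff_isClosed]
  intro y hy
  have hyZ : y ∈ Z := (hZ.closure_subset_iff.mpr (Set.singleton_subset_iff.mpr hx)) hy
  let x' : Z := ⟨x, hx⟩
  let y' : Z := ⟨y, hyZ⟩
  let Cx : TopologicalSpace.IrreducibleCloseds Z :=
    ⟨closure {x'}, isIrreducible_singleton.closure, isClosed_closure⟩
  let Cy : TopologicalSpace.IrreducibleCloseds Z :=
    ⟨closure {y'}, isIrreducible_singleton.closure, isClosed_closure⟩
  have hxy : x' ⤳ y' := by
    rw [subtype_specializes_iff, specializes_iff_mem_closure]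
    exact hy
  have hle : Cy ≤ Cx := by
    change closure {y'} ⊆ closure {x'}
    exact (isClosed_closure.closure_subset_iff).mpr
      (Set.singleton_subset_iff.mpr (specializes_iff_mem_closure.mp hxy))
  have hmax := (Order.krullDim_nonpos_iff_forall_isMax.mp hdim Cy) hle
  have hyx : y' ⤳ x' := by
    rw [specializes_iff_mem_closure]
    exact hmax (subset_closure (Set.mem_singleton x'))
  have h1 : x' = y' := (hxy.antisymm hyx).eq
  have h2 : x = y := congrArg Subtype.val h1
  exact h2 ▸ Set.mem_singleton x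

variable {X : Scheme.{u}}

theorem exists_global_extension [IsLocallyNoetherian X] (M : X.Modules) (hM : Coh.IsCoh M)
    (h0 : ∀ x ∈ CohB1.support M, IsClosed ({x} : Set X)) (W' : X.Opens) (s : Γ(M, W')) :
    ∃ c : Γ(M, ⊤), res M (le_top : W' ≤ ⊤) c = s := by
  let T : Set X := CohB1.support M ∩ (W' : Set X)
  have hTc : IsClosed T := Groth.Agent.S0047.isClosed_of_subset_support M hM h0 T Set.inter_subset_left
  let W₂ : X.Opens := ⟨Tᶜ, hTc.isOpen_compl⟩
  have hcov : (⊤ : X.Opens) ≤ W' ⊔ W₂ := by
    intro x _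
    by_cases hxT : x ∈ T
    · left; exact hxT.2
    · right; exact hxT
  have hdis : ∀ x ∈ W' ⊓ W₂, x ∉ CohB1.support M := by
    intro x hx hxZ
    exact hx.2 ⟨hxZ, hx.1⟩
  have hz : (Coh.toAb M).obj.map (homOfLE (inf_le_left : W' ⊓ W₂ ≤ W')).op s =
      (Coh.toAb M).obj.map (homOfLE (inf_le_right : W' ⊓ W₂ ≤ W₂)).op 0 := by
    rw [map_zero]
    exact eq_zero_of_disjoint_support M (W' ⊓ W₂) hdis _
  obtain ⟨c, hc1, -⟩ := Groth.Agent.Lib.Helper16.SectSupp.glue2 (Coh.toAb M) W' W₂ ⊤ le_top
    le_top hcov s 0 hz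
  exact ⟨c, hc1⟩

theorem isGloballyGenerated_of_closed_points [IsLocallyNoetherian X] (M : X.Modules) (hM : Coh.IsCoh M)
    (h0 : ∀ x ∈ CohB1.support M, IsClosed ({x} : Set X)) : Curv2.IsGloballyGenerated M := by
  apply isGloballyGenerated_of_locGen
  intro x
  refine ⟨⊤, trivial, ?_⟩
  intro A _ m y hy
  refine ⟨A, le_rfl, hy, ?_⟩
  obtain ⟨c, hc⟩ := exists_global_extension M hM h0 A m
  have h1 : res M (le_refl A) m = sv (secHom M c) A := by
    rw [sv_secHom, hc, res_self]
  rw [h1]
  exact sv_mem_gspan M (secHom M c) A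

end Groth.Agent.Lib.Helper4.ZeroDimGG
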