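import Mathlib
import Groth.Agent.Lib.Helper4DegAdd
import Groth.Agent.Lib.Helper4ZeroDimGG
import Groth.Agent.Lib.Helper17GammaA
import Groth.Agent.Lib.Helper2QcPush

/-!
# Modules supported in a finite set of closed points: sections = product of stalks (helper4)

* `germ_eq_zero` / `exists_section_germ` : for `M` with support in a finite set `Z` of closed points, the map
  `Γ(X, M) → Π_{x ∈ Z} M_x` is bijective
* `germEquiv` : the same as a `k`-linear equivalence for `X` over a field `k`
* `euler_tensor_locFree` : χ(F ⊗ E) = n χ(F) for `F` coherent with zero-dimensional support (S1558)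
-/

set_option autoImplicit false
set_option linter.style.haveILetI false
set_option warn.classDefReducibility false
universe u
open CategoryTheory CategoryTheory.Limits AlgebraicGeometry TopologicalSpace Opposite TensorProduct

namespace Groth.Agent.Lib.Helper4.ZeroDimChi

variable {X : Scheme.{u}}

theorem germ_eq_zero (M : X.Modules) (Z : Finset X) (hsupp : CohB1.support M ⊆ (Z : Set X))
    (s : Γ(M, ⊤)) (h : ∀ x ∈ Z, M.presheaf.germ ⊤ x trivial s = 0) : s = 0 := by
  apply Groth.Agent.Lib.Helper2.QcPush.section_eq_zero_of_germ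
  intro x hx
  by_cases hxZ : x ∈ Z
  · exact h x hxZ
  · have hns : x ∉ CohB1.support M := fun hxs => hxZ (hsupp hxs)
    simp only [CohB1.support, Set.mem_ofPred_eq, not_not] at hns
    exact Subsingleton.elim _ _

theorem isClosed_finset (Z : Finset X) (hcl : ∀ x ∈ Z, IsClosed ({x} : Set X)) : IsClosed (Z : Set X) := by
  have : (Z : Set X) = ⋃ x ∈ Z, ({x} : Set X) := by
    ext y; simp
  rw [this]
  exact isClosed_biUnion_finset hcl

theorem exists_section_germ_single [DecidableEq X] (M : X.Modules) (Z : Finset X)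
    (hcl : ∀ x ∈ Z, IsClosed ({x} : Set X))
    (hsupp : CohB1.support M ⊆ (Z : Set X)) (x : X) (hx : x ∈ Z) (g : M.presheaf.stalk x) :
    ∃ t : Γ(M, ⊤), M.presheaf.germ ⊤ x trivial t = g ∧
      ∀ y ∈ Z, y ≠ x → M.presheaf.germ ⊤ y trivial t = 0 := by
  obtain ⟨U, hxU, s, rfl⟩ := M.presheaf.exists_germ_eq g
  have hC : IsClosed ((Z.erase x : Finset X) : Set X) :=
    isClosed_finset _ (fun y hy => hcl y (Finset.mem_of_mem_erase hy))
  let W : X.Opens := U ⊓ ⟨((Z.erase x : Finset X) : Set X)ᶜ, hC.isOpen_compl⟩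
  let V : X.Opens := ⟨({x} : Set X)ᶜ, (hcl x hx).isOpen_compl⟩
  have hxW : x ∈ W := ⟨hxU, fun h => (Finset.notMem_erase x Z) h⟩
  have hcov : (⊤ : X.Opens) ≤ W ⊔ V := by
    intro y _
    by_cases hyx : y = x
    · left; rw [hyx]; exact hxW
    · right; exact hyx
  have hdis : ∀ y ∈ W ⊓ V, y ∉ CohB1.support M := by
    intro y hy hys
    have hyZ : y ∈ Z := hsupp hys
    have hyx : y ≠ x := hy.2
    exact hy.1.2 (Finset.mem_erase.2 ⟨hyx, hyZ⟩)
  have hz : (Coh.toAb M).obj.map (homOfLE (inf_le_left : W ⊓ V ≤ W)).op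
        (M.presheaf.map (homOfLE (inf_le_left : W ≤ U)).op s) =
      (Coh.toAb M).obj.map (homOfLE (inf_le_right : W ⊓ V ≤ V)).op 0 := by
    rw [map_zero]
    exact Groth.Agent.Lib.Helper23.Support.eq_zero_of_disjoint_support M (W ⊓ V) hdis _
  obtain ⟨c, hc1, hc2⟩ := Groth.Agent.Lib.Helper16.SectSupp.glue2 (Coh.toAb M) W V ⊤ le_top
    le_top hcov _ 0 hz
  refine ⟨c, ?_, ?_⟩
  · have h1 : M.presheaf.germ W x hxW (M.presheaf.map (homOfLE (le_top : W ≤ ⊤)).op c) =
        M.presheaf.germ ⊤ x trivial c :=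
      TopCat.Presheaf.germ_res_apply M.presheaf (homOfLE (le_top : W ≤ ⊤)) x hxW c
    have h2 : M.presheaf.germ W x hxW (M.presheaf.map (homOfLE (inf_le_left : W ≤ U)).op s) =
        M.presheaf.germ U x hxU s :=
      TopCat.Presheaf.germ_res_apply M.presheaf (homOfLE (inf_le_left : W ≤ U)) x hxW s
    rw [← h1, ← h2]
    exact congrArg _ hc1
  · intro y _ hyx
    have hyV : y ∈ V := hyx
    have h1 : M.presheaf.germ V y hyV (M.presheaf.map (homOfLE (le_top : V ≤ ⊤)).op c) =
        M.presheaf.germ ⊤ y trivial c :=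
      TopCat.Presheaf.germ_res_apply M.presheaf (homOfLE (le_top : V ≤ ⊤)) y hyV c
    rw [← h1]
    have : M.presheaf.map (homOfLE (le_top : V ≤ ⊤)).op c = 0 := hc2
    rw [this, map_zero]

theorem exists_section_germ (M : X.Modules) (Z : Finset X)
    (hcl : ∀ x ∈ Z, IsClosed ({x} : Set X))
    (hsupp : CohB1.support M ⊆ (Z : Set X)) (g : ∀ x : Z, M.presheaf.stalk x.1) :
    ∃ t : Γ(M, ⊤), ∀ x : Z, M.presheaf.germ ⊤ x.1 trivial t = g x := by
  classical
  choose t ht1 ht2 using fun x : Z => exists_section_germ_single M Z hcl hsupp x.1 x.2 (g x)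
  refine ⟨∑ x : Z, t x, fun y => ?_⟩
  rw [map_sum, Finset.sum_eq_single y]
  · exact ht1 y
  · intro x _ hxy
    exact ht2 x y.1 y.2 (fun h => hxy (Subtype.ext h.symm))
  · intro h
    exact (h (Finset.mem_univ y)).elim

section Field

variable (k : Type u) [Field k] [X.Over (Spec (CommRingCat.of k))]

/-- the structure map `k → O_{X,x}` -/
noncomputable def toStalk (x : X) : k →+* X.presheaf.stalk x :=
  (X.presheaf.germ ⊤ x trivial).hom.comp (Coh.toGlobal (X ↘ Spec (CommRingCat.of k)))

/-- `O_{X,x}` as a `k`-algebra -/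
noncomputable def stalkAlgebra (x : X) : Algebra k (X.presheaf.stalk x) := (toStalk k x).toAlgebra

/-- stalks of modules as `k`-vector spaces -/
noncomputable def stalkModule (M : X.Modules) (x : X) : Module k (M.presheaf.stalk x) :=
  Module.compHom _ (toStalk k x)

attribute [local instance] stalkAlgebra stalkModule

instance stalkTower (M : X.Modules) (x : X) :
    IsScalarTower k (X.presheaf.stalk x) (M.presheaf.stalk x) := by
  refine ⟨fun a r m => ?_⟩
  change (toStalk k x a * r) • m = toStalk k x a • (r • m)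
  rw [mul_smul]

/-- the germ map, `k`-linear -/
noncomputable def germK (M : X.Modules) (x : X) :
    ((Groth.Agent.Lib.Helper17.GammaA.Γ (X := X) k).obj M) →ₗ[k] M.presheaf.stalk x where
  toFun s := M.presheaf.germ ⊤ x trivial (show Γ(M, ⊤) from s)
  map_add' s t := map_add _ _ _
  map_smul' a s := by
    rw [Groth.Agent.Lib.Helper17.GammaA.smul_eq]
    have h1 : ((Coh.smulAb M (Coh.toGlobal (X ↘ Spec (CommRingCat.of k)) a)).hom.app (op ⊤)) s =
        (show Γ(M, ⊤) from
          (show Γ(X, ⊤) from Coh.toGlobal (X ↘ Spec (CommRingCat.of k)) a) • (show Γ(M, ⊤) from s)) := by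
      change @HSMul.hSMul (X.ringCatSheaf.obj.obj (op ⊤)) (M.val.obj (op ⊤)) (M.val.obj (op ⊤)) _
        (Coh.resTop X (op ⊤) (Coh.toGlobal (X ↘ Spec (CommRingCat.of k)) a)) s = _
      have h2 : Coh.resTop X (op ⊤) (Coh.toGlobal (X ↘ Spec (CommRingCat.of k)) a) =
          Coh.toGlobal (X ↘ Spec (CommRingCat.of k)) a := by
        change (X.ringCatSheaf.obj.map (𝟙 (op ⊤))).hom _ = _
        rw [X.ringCatSheaf.obj.map_id]
        rfl
      rw [h2]
      rfl
    refine (congrArg (fun t : Γ(M, ⊤) => M.presheaf.germ ⊤ x trivial t) h1).trans ?_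
    exact Groth.Agent.Lib.Helper2.QCoh.germ_smul M x ⊤ trivial
      (Coh.toGlobal (X ↘ Spec (CommRingCat.of k)) a) (show Γ(M, ⊤) from s)

/-- sections = product of the stalks at the points of `Z` -/
noncomputable def germEquiv (M : X.Modules) (Z : Finset X) (hcl : ∀ x ∈ Z, IsClosed ({x} : Set X))
    (hsupp : CohB1.support M ⊆ (Z : Set X)) :
    ((Groth.Agent.Lib.Helper17.GammaA.Γ (X := X) k).obj M) ≃ₗ[k] (∀ x : Z, M.presheaf.stalk x.1) :=
  LinearEquiv.ofBijective (LinearMap.pi fun x : Z => germK k M x.1)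
    ⟨(injective_iff_map_eq_zero _).2 fun s hs =>
        germ_eq_zero M Z hsupp s (fun x hx => congrFun hs ⟨x, hx⟩),
      fun g => by
        obtain ⟨t, ht⟩ := exists_section_germ M Z hcl hsupp g
        exact ⟨t, funext ht⟩⟩

/-- the stalk of `F ⊗ E` for `E_x` free of rank `n` -/
noncomputable def stalkTensorFree (F E : X.Modules) (x : X) (n : ℕ)
    [Module.Free (X.presheaf.stalk x) (E.presheaf.stalk x)]
    [Module.Finite (X.presheaf.stalk x) (E.presheaf.stalk x)]
    (hrk : Module.finrank (X.presheaf.stalk x) (E.presheaf.stalk x) = n) :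
    ↑((CohB1.tensorMod F E).presheaf.stalk x) ≃ₗ[X.presheaf.stalk x] (Fin n → ↑(F.presheaf.stalk x)) :=
  Groth.Agent.Lib.Helper4.KTensor.stalkTensorEquiv F E x ≪≫ₗ
    TensorProduct.congr (LinearEquiv.refl _ _)
      (Module.finBasisOfFinrankEq (X.presheaf.stalk x) (E.presheaf.stalk x) hrk).equivFun ≪≫ₗ
    TensorProduct.piScalarRight (X.presheaf.stalk x) (X.presheaf.stalk x) (F.presheaf.stalk x) (Fin n)

theorem support_tensorMod_subset_left (F E : X.Modules) :
    CohB1.support (CohB1.tensorMod F E) ⊆ CohB1.support F := by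
  intro x hx hF
  apply hx
  haveI : Subsingleton ↑(F.presheaf.stalk x) := hF
  exact (Groth.Agent.Lib.Helper4.KTensor.stalkTensorEquiv F E x).toEquiv.subsingleton

theorem finrank_sections_tensor [IsProper (X ↘ (Spec (CommRingCat.of k)))]
    (F E : X.Modules) (hF : Coh.IsCoh F) (Z : Finset X) (hcl : ∀ x ∈ Z, IsClosed ({x} : Set X))
    (hsupp : CohB1.support F ⊆ (Z : Set X)) (n : ℕ) (hE : FlatMod.IsFinLocFreeOfRank n E) :
    Module.finrank k ((Groth.Agent.Lib.Helper17.GammaA.Γ (X := X) k).obj (CohB1.tensorMod F E)) =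
      n * Module.finrank k ((Groth.Agent.Lib.Helper17.GammaA.Γ (X := X) k).obj F) := by
  have hsuppT : CohB1.support (CohB1.tensorMod F E) ⊆ (Z : Set X) :=
    (support_tensorMod_subset_left F E).trans hsupp
  let eF := germEquiv k F Z hcl hsupp
  let eT := germEquiv k (CohB1.tensorMod F E) Z hcl hsuppT
  haveI : Module.Finite k (Coh.HH X F 0) := Groth.Agent.S0002.result k X F hF 0
  haveI : Module.Finite k ((Groth.Agent.Lib.Helper17.GammaA.Γ (X := X) k).obj F) :=
    Module.Finite.equiv (Groth.Agent.Lib.Helper17.GammaA.e0 k F).symm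
  haveI hfin : ∀ x : Z, Module.Finite k (F.presheaf.stalk x.1) := fun x =>
    Module.Finite.of_surjective
      ((LinearMap.proj (R := k) (φ := fun y : Z => ↑(F.presheaf.stalk y.1)) x).comp eF.toLinearMap)
      ((LinearMap.proj_surjective (R := k) (φ := fun y : Z => ↑(F.presheaf.stalk y.1)) x).comp eF.surjective)
  have ex : ∀ x : Z, ↑((CohB1.tensorMod F E).presheaf.stalk x.1) ≃ₗ[k] (Fin n → ↑(F.presheaf.stalk x.1)) := by
    intro x
    obtain ⟨h1, h2, h3⟩ := Groth.Agent.Lib.Helper4.KTensor.stalk_of_isFinLocFreeOfRank E n hE x.1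
    exact (stalkTensorFree F E x.1 n h3).restrictScalars k
  rw [eT.finrank_eq, (LinearEquiv.piCongrRight ex).finrank_eq, Module.finrank_pi_fintype,
    eF.finrank_eq, Module.finrank_pi_fintype, Finset.mul_sum]
  refine Finset.sum_congr rfl fun x _ => ?_
  rw [Module.finrank_pi_fintype]
  simp

theorem euler_eq_finrank_zero (G : X.Modules) (h : ∀ i, 0 < i → Subsingleton (Coh.HH X G i)) :
    Curv2.euler k X G = (Module.finrank k (Coh.HH X G 0) : ℤ) := by
  unfold Curv2.euler
  rw [finsum_eq_single _ 0 (fun i hi => by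
    haveI := h i (Nat.pos_of_ne_zero hi)
    rw [Module.finrank_zero_of_subsingleton]; simp)]
  simp

/-- S1558 -/
theorem euler_tensor_locFree [IsProper (X ↘ (Spec (CommRingCat.of k)))]
    (F : X.Modules) (hF : Coh.IsCoh F) (hsupp : topologicalKrullDim (CohB1.support F) ≤ 0)
    (n : ℕ) (E : X.Modules) (hE : FlatMod.IsFinLocFreeOfRank n E) :
    Curv2.euler k X (CohB1.tensorMod F E) = n * Curv2.euler k X F := by
  classical
  haveI : IsLocallyNoetherian (Spec (CommRingCat.of k)) := inferInstance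
  haveI : IsLocallyNoetherian X := LocallyOfFiniteType.isLocallyNoetherian (X ↘ (Spec (CommRingCat.of k)))
  haveI : CompactSpace X := by
    have : QuasiCompact (X ↘ (Spec (CommRingCat.of k))) := inferInstance
    exact (quasiCompact_iff_compactSpace (X ↘ (Spec (CommRingCat.of k)))).1 this
  haveI : IsNoetherian X := {}
  have hZ : IsClosed (CohB1.support F) := Groth.Agent.S0020.result X F hF.2
  have hpt : ∀ x ∈ CohB1.support F, IsClosed ({x} : Set X) :=
    Groth.Agent.Lib.Helper4.ZeroDimGG.isClosed_singleton_of_dim_le_zero _ hZ hsupp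
  have hfin : (CohB1.support F).Finite := Groth.Agent.S0047.finite_of_noetherian_quasiSober _ hZ hpt
  have hcl : ∀ x ∈ hfin.toFinset, IsClosed ({x} : Set X) := fun x hx => hpt x (hfin.mem_toFinset.1 hx)
  have hsub : CohB1.support F ⊆ (hfin.toFinset : Set X) := fun x hx => by
    rw [Finset.mem_coe]; exact hfin.mem_toFinset.2 hx
  have hE' : FlatMod.IsFinLocFree E := fun x => by
    obtain ⟨U, hxU, h⟩ := hE x
    exact ⟨U, n, hxU, h⟩
  have hEfp := Groth.Agent.Lib.Helper2.LocFree.isFP_of_isFinLocFree E hE'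
  haveI : E.IsQuasicoherent := Groth.Agent.Helper18Strict.isQCoh_of_isFP E hEfp
  haveI : SheafOfModules.IsFiniteType (R := X.ringCatSheaf) E :=
    Groth.Agent.Helper18Strict.isFT_of_isFP E hEfp
  haveI : F.IsQuasicoherent := hF.1
  haveI : SheafOfModules.IsFiniteType (R := X.ringCatSheaf) F := hF.2
  have hT : Coh.IsCoh (CohB1.tensorMod F E) :=
    ⟨Groth.Agent.Lib.Helper23.TensorQCoh.isQuasicoherent_tensorMod F E,
      Groth.Agent.Lib.Helper23.TensorQCoh.isFiniteType_tensorMod F E⟩
  have hvF : ∀ i, 0 < i → Subsingleton (Coh.HH X F i) := fun i hi =>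
    Groth.Agent.S0047.result X F hF hpt i hi
  have hvT : ∀ i, 0 < i → Subsingleton (Coh.HH X (CohB1.tensorMod F E) i) := fun i hi =>
    Groth.Agent.S0047.result X _ hT (fun x hx => hpt x (support_tensorMod_subset_left F E hx)) i hi
  rw [euler_eq_finrank_zero k F hvF, euler_eq_finrank_zero k _ hvT,
    ← (Groth.Agent.Lib.Helper17.GammaA.e0 k F).finrank_eq,
    ← (Groth.Agent.Lib.Helper17.GammaA.e0 k (CohB1.tensorMod F E)).finrank_eq,
    finrank_sections_tensor k F E hF hfin.toFinset hcl hsub n hE]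
  push_cast
  rfl

end Field

end Groth.Agent.Lib.Helper4.ZeroDimChi
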