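import Mathlib
import Groth.Agent.Lib.Helper4ZeroDimChi
import Groth.Agent.Lib.Helper1StalkTensorC
import Groth.Agent.Lib.Helper23AmpleFam2
import Groth.Agent.Lib.Helper23TensorUnit
import Groth.Agent.Lib.Helper4DevE
import Groth.Agent.Lib.Helper27CoprodFin

/-!
# Euler characteristic of `E ⊗ F` on a proper curve (helper4)

* `euler_congr_iso` : χ is isomorphism invariant
* `shortExact_map_tensorRightMod` : `- ⊗ E` is exact for `E` finite locally free
* `euler_tensor_additive` : χ(- ⊗ E) is additive on short exact sequences of coherent modules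
* `euler_tensor_curve` : χ(E ⊗ F) = rk(F) deg(E) + n χ(F) on an integral proper curve (S1557)
-/

set_option autoImplicit false
set_option linter.style.haveILetI false
universe u
open CategoryTheory CategoryTheory.Limits AlgebraicGeometry TopologicalSpace Opposite TensorProduct

namespace Groth.Agent.Lib.Helper4.CurveChi

variable {X : Scheme.{u}}

section Field
variable (k : Type u) [Field k] [X.Over (Spec (CommRingCat.of k))]

theorem HHlin_comp {M N P : X.Modules} (φ : M ⟶ N) (ψ : N ⟶ P) (i : ℕ) (x : Coh.HH X M i) :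
    Canon.HHlin k (φ ≫ ψ) i x = Canon.HHlin k ψ i (Canon.HHlin k φ i x) :=
  Groth.Agent.Lib.Helper27CoprodFin.evalH_comp i
    (x : Sheaf.H ((Groth.Agent.Lib.Helper23.QCohLocal.toAbF X).obj M) i) φ ψ

theorem HHlin_id (M : X.Modules) (i : ℕ) (x : Coh.HH X M i) : Canon.HHlin k (𝟙 M) i x = x :=
  Groth.Agent.Lib.Helper27CoprodFin.evalH_id i
    (x : Sheaf.H ((Groth.Agent.Lib.Helper23.QCohLocal.toAbF X).obj M) i)

/-- isomorphic modules have isomorphic cohomology -/
noncomputable def HHequiv {M N : X.Modules} (e : M ≅ N) (i : ℕ) : Coh.HH X M i ≃ₗ[k] Coh.HH X N i :=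
  LinearEquiv.ofLinearMap (Canon.HHlin k e.hom i) (Canon.HHlin k e.inv i)
    (LinearMap.ext fun x => by
      rw [LinearMap.comp_apply, ← HHlin_comp, e.inv_hom_id, HHlin_id]; rfl)
    (LinearMap.ext fun x => by
      rw [LinearMap.comp_apply, ← HHlin_comp, e.hom_inv_id, HHlin_id]; rfl)

theorem euler_congr_iso {M N : X.Modules} (e : M ≅ N) : Curv2.euler k X M = Curv2.euler k X N := by
  unfold Curv2.euler
  refine finsum_congr fun i => ?_
  rw [(HHequiv k e i).finrank_eq]

end Field

/-- `- ⊗ E` is exact for flat `E` -/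
theorem shortExact_map_tensorRightMod (S : ShortComplex X.Modules) (hS : S.ShortExact) (E : X.Modules)
    (hE : FlatMod.IsFlat E) : (S.map (DCoh.tensorRightMod E)).ShortExact := by
  have h := (Groth.Agent.Lib.Helper1.StalkTensor.modSite_isFlat_iff E).2 hE
  haveI : PreservesFiniteLimits (DCoh.tensorRightMod E) := h.1
  haveI : PreservesFiniteColimits (DCoh.tensorRightMod E) := h.2
  exact hS.map_of_exact (DCoh.tensorRightMod E)

theorem tensorRightMod_obj (E F : X.Modules) : (DCoh.tensorRightMod E).obj F = CohB1.tensorMod F E := rfl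

/-- a proper closed subset of an irreducible space of dimension `≤ 1` has dimension `≤ 0` -/
theorem dim_le_zero_of_ne_univ {α : Type*} [TopologicalSpace α] [IrreducibleSpace α]
    (hdim : topologicalKrullDim α ≤ 1) (Z : Set α) (hZ : IsClosed Z) (hne : Z ≠ Set.univ) :
    topologicalKrullDim Z ≤ 0 := by
  rw [topologicalKrullDim, Order.krullDim_nonpos_iff_forall_isMax]
  intro A B hAB
  by_contra hBA
  have hlt : A < B := lt_of_le_not_ge hAB hBA
  have hmono := TopologicalSpace.IrreducibleCloseds.map_strictMono_of_isInducing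
    (f := (Subtype.val : Z → α)) Topology.IsInducing.subtypeVal
  let T : TopologicalSpace.IrreducibleCloseds α :=
    ⟨Set.univ, IrreducibleSpace.isIrreducible_univ α, isClosed_univ⟩
  have hBT : TopologicalSpace.IrreducibleCloseds.map Subtype.val continuous_subtype_val B < T := by
    refine lt_of_le_of_ne (fun x _ => Set.mem_univ x) (fun h => hne ?_)
    have h1 : (TopologicalSpace.IrreducibleCloseds.map Subtype.val continuous_subtype_val B : Set α) ⊆ Z := by
      change closure (Subtype.val '' (B : Set Z)) ⊆ Z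
      exact hZ.closure_subset_iff.2 (by rintro _ ⟨y, -, rfl⟩; exact y.2)
    have h2 : (TopologicalSpace.IrreducibleCloseds.map Subtype.val continuous_subtype_val B : Set α) =
        Set.univ := congrArg (fun C : TopologicalSpace.IrreducibleCloseds α => (C : Set α)) h
    exact Set.eq_univ_of_univ_subset (h2 ▸ h1)
  have h1 := Order.height_add_one_le (hmono hlt)
  have h2 := Order.height_add_one_le hBT
  have h3 : (Order.height T : WithBot ℕ∞) ≤ 1 := (Order.height_le_krullDim T).trans hdim
  have h4 : (2 : ℕ∞) ≤ Order.height T := by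
    calc (2 : ℕ∞) = 0 + 1 + 1 := by norm_num
      _ ≤ Order.height (TopologicalSpace.IrreducibleCloseds.map Subtype.val continuous_subtype_val A) + 1 + 1 := by
        gcongr; exact zero_le
      _ ≤ Order.height (TopologicalSpace.IrreducibleCloseds.map Subtype.val continuous_subtype_val B) + 1 := by
        gcongr
      _ ≤ Order.height T := h2
  have h5 : ((2 : ℕ∞) : WithBot ℕ∞) ≤ 1 := (WithBot.coe_le_coe.2 h4).trans h3
  have h6 : (2 : ℕ∞) ≤ 1 := by exact_mod_cast h5
  exact absurd h6 (by norm_num)

theorem isFlat_of_isFinLocFreeOfRank (E : X.Modules) (n : ℕ) (hE : FlatMod.IsFinLocFreeOfRank n E) :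
    FlatMod.IsFlat E := fun x => by
  obtain ⟨h1, h2, h3⟩ := Groth.Agent.Lib.Helper4.KTensor.stalk_of_isFinLocFreeOfRank E n hE x
  exact Module.Flat.of_free

theorem isCoh_tensorMod_locFree (F E : X.Modules) (hF : Coh.IsCoh F) (n : ℕ)
    (hE : FlatMod.IsFinLocFreeOfRank n E) : Coh.IsCoh (CohB1.tensorMod F E) := by
  have hE' : FlatMod.IsFinLocFree E := fun x => by
    obtain ⟨U, hxU, h⟩ := hE x
    exact ⟨U, n, hxU, h⟩
  have hEfp := Groth.Agent.Lib.Helper2.LocFree.isFP_of_isFinLocFree E hE'
  haveI : E.IsQuasicoherent := Groth.Agent.Helper18Strict.isQCoh_of_isFP E hEfp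
  haveI : SheafOfModules.IsFiniteType (R := X.ringCatSheaf) E :=
    Groth.Agent.Helper18Strict.isFT_of_isFP E hEfp
  haveI : F.IsQuasicoherent := hF.1
  haveI : SheafOfModules.IsFiniteType (R := X.ringCatSheaf) F := hF.2
  exact ⟨Groth.Agent.Lib.Helper23.TensorQCoh.isQuasicoherent_tensorMod F E,
    Groth.Agent.Lib.Helper23.TensorQCoh.isFiniteType_tensorMod F E⟩

section Curve

variable (k : Type u) [Field k] (X : Scheme.{u}) [X.Over (Spec (CommRingCat.of k))]
  [IsProper (X ↘ (Spec (CommRingCat.of k)))]

/-- χ(- ⊗ E) is additive on short exact sequences of coherent modules -/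
theorem euler_tensor_additive (S : ShortComplex X.Modules) (hS : S.ShortExact)
    (h₁ : Coh.IsCoh S.X₁) (h₂ : Coh.IsCoh S.X₂) (h₃ : Coh.IsCoh S.X₃)
    (n : ℕ) (E : X.Modules) (hE : FlatMod.IsFinLocFreeOfRank n E) :
    Curv2.euler k X (CohB1.tensorMod S.X₂ E) =
      Curv2.euler k X (CohB1.tensorMod S.X₁ E) + Curv2.euler k X (CohB1.tensorMod S.X₃ E) :=
  Groth.Agent.Lib.Helper6.Euler.euler_additive k X (S.map (DCoh.tensorRightMod E))
    (shortExact_map_tensorRightMod S hS E (isFlat_of_isFinLocFreeOfRank E n hE))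
    (isCoh_tensorMod_locFree S.X₁ E h₁ n hE) (isCoh_tensorMod_locFree S.X₂ E h₂ n hE)
    (isCoh_tensorMod_locFree S.X₃ E h₃ n hE)

section Integral
variable [IsIntegral X]

theorem closure_genericPoint_eq : closure ({genericPoint X} : Set X) = Set.univ :=
  genericPoint_closure X

theorem finite_stalk_genericPoint [IsLocallyNoetherian X] (F : X.Modules) (hF : Coh.IsCoh F) :
    Module.Finite (X.presheaf.stalk (genericPoint X)) (F.presheaf.stalk (genericPoint X)) := by
  have h := Groth.Agent.Lib.Helper4.Dev.isFiniteLength_stalk F hF (genericPoint X)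
    (by rw [closure_genericPoint_eq]; exact Set.subset_univ _)
  haveI := (isFiniteLength_iff_isNoetherian_isArtinian.1 h).1
  infer_instance

/-- the generic rank is additive -/
theorem rk_additive [IsLocallyNoetherian X] (S : ShortComplex X.Modules) (hS : S.ShortExact)
    (h₁ : Coh.IsCoh S.X₁) (h₃ : Coh.IsCoh S.X₃) :
    Module.finrank (X.presheaf.stalk (genericPoint X)) (S.X₂.presheaf.stalk (genericPoint X)) =
      Module.finrank (X.presheaf.stalk (genericPoint X)) (S.X₁.presheaf.stalk (genericPoint X)) +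
      Module.finrank (X.presheaf.stalk (genericPoint X)) (S.X₃.presheaf.stalk (genericPoint X)) := by
  haveI := finite_stalk_genericPoint X S.X₁ h₁
  haveI := finite_stalk_genericPoint X S.X₃ h₃
  have := hS.mono_f
  have := hS.epi_g
  letI : Field (X.presheaf.stalk (genericPoint X)) := inferInstanceAs (Field X.functionField)
  exact Groth.Agent.Lib.Helper4.DegAdd.finrank_add_of_exact
    (Groth.Agent.Lib.Helper4.Dev.stalkL S.f (genericPoint X))
    (Groth.Agent.Lib.Helper4.Dev.stalkL S.g (genericPoint X))
    (Groth.Agent.Lib.Helper4.Dev.stalkL_injective_of_mono S.f _)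
    (Groth.Agent.Lib.Helper4.Dev.stalkL_surjective_of_epi S.g _)
    (Groth.Agent.Lib.Helper4.Dev.stalkL_exact S hS _)

/-- the stalk maps of an isomorphism -/
noncomputable def stalkEquivOfIso {M N : X.Modules} (e : M ≅ N) (x : X) :
    ↑(M.presheaf.stalk x) ≃ₗ[X.presheaf.stalk x] ↑(N.presheaf.stalk x) :=
  LinearEquiv.ofLinearMap (Groth.Agent.Lib.Helper4.Dev.stalkL e.hom x)
    (Groth.Agent.Lib.Helper4.Dev.stalkL e.inv x)
    (by rw [← Groth.Agent.Lib.Helper4.Dev.stalkL_comp, e.inv_hom_id, Groth.Agent.Lib.Helper4.Dev.stalkL_id])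
    (by rw [← Groth.Agent.Lib.Helper4.Dev.stalkL_comp, e.hom_inv_id, Groth.Agent.Lib.Helper4.Dev.stalkL_id])

/-- the class of modules satisfying the formula -/
def KK (n : ℕ) (E : X.Modules) (F : X.Modules) : Prop :=
  Curv2.euler k X (CohB1.tensorMod F E) =
    (Module.finrank (X.presheaf.stalk (genericPoint X)) (F.presheaf.stalk (genericPoint X)) : ℤ) *
      Curv2.deg k X E n + n * Curv2.euler k X F

theorem exact23_KK [IsLocallyNoetherian X] (n : ℕ) (E : X.Modules) (hE : FlatMod.IsFinLocFreeOfRank n E)
    (Y : Set X) : Groth.Agent.Lib.Helper4.Dev.Exact23 (KK k X n E) Y := by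
  refine ⟨?_, ?_⟩
  · rintro M N ⟨e⟩ hM
    unfold KK at hM ⊢
    have h1 : Curv2.euler k X (CohB1.tensorMod M E) = Curv2.euler k X (CohB1.tensorMod N E) :=
      euler_congr_iso k ((DCoh.tensorRightMod E).mapIso e)
    rw [← h1, ← euler_congr_iso k e, ← (stalkEquivOfIso X e (genericPoint X)).finrank_eq]
    exact hM
  · intro S hS h₁ h₂ h₃ _
    have ha := euler_tensor_additive k X S hS h₁ h₂ h₃ n E hE
    have hc := Groth.Agent.Lib.Helper6.Euler.euler_additive k X S hS h₁ h₂ h₃
    have hr := rk_additive X S hS h₁ h₃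
    unfold KK
    rw [ha, hc, hr]
    push_cast
    refine ⟨fun k1 k2 => ?_, fun k1 k3 => ?_, fun k2 k3 => ?_⟩
    · linear_combination k2 - k1
    · linear_combination k1 + k3
    · linear_combination k2 - k3

/-- **S1557**: χ(E ⊗ F) = rk(F) deg(E) + n χ(F) on an integral proper curve -/
theorem euler_tensor_curve (hdim : topologicalKrullDim X = 1)
    (n : ℕ) (E : X.Modules) (hE : FlatMod.IsFinLocFreeOfRank n E) (F : X.Modules) (hF : Coh.IsCoh F) :
    Curv2.euler k X (CohB1.tensorMod E F) =
      (Module.finrank (X.presheaf.stalk (genericPoint X)) (F.presheaf.stalk (genericPoint X)) : ℤ) *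
        Curv2.deg k X E n + n * Curv2.euler k X F := by
  haveI : IsLocallyNoetherian (Spec (CommRingCat.of k)) := inferInstance
  haveI : IsLocallyNoetherian X := LocallyOfFiniteType.isLocallyNoetherian (X ↘ (Spec (CommRingCat.of k)))
  letI : Field (X.presheaf.stalk (genericPoint X)) := inferInstanceAs (Field X.functionField)
  have huniv : ∀ G : X.Modules, CohB1.support G ⊆ closure ({genericPoint X} : Set X) := fun G => by
    rw [closure_genericPoint_eq]; exact Set.subset_univ _
  have key : KK k X n E F := by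
    refine Groth.Agent.Lib.Helper4.Dev.devissage_irreducible (genericPoint X)
      (exact23_KK k X n E hE _) ?_ (Groth.Agent.Lib.Helper4.Dev.isCoh_structureModule X)
      (huniv _) ?_ ?_ F hF (huniv F)
    · intro E' hE' _ hsub
      unfold KK
      haveI : Subsingleton ↑(E'.presheaf.stalk (genericPoint X)) := hsub
      rw [Module.finrank_zero_of_subsingleton]
      have hZ : IsClosed (CohB1.support E') := Groth.Agent.S0020.result X E' hE'.2
      have hne : CohB1.support E' ≠ Set.univ := by
        intro h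
        have : genericPoint X ∈ CohB1.support E' := h ▸ Set.mem_univ _
        exact this hsub
      have hd := dim_le_zero_of_ne_univ hdim.le (CohB1.support E') hZ hne
      rw [Groth.Agent.Lib.Helper4.ZeroDimChi.euler_tensor_locFree k E' hE' hd n E hE]
      push_cast
      ring
    · unfold KK
      rw [euler_congr_iso k (Groth.Agent.Lib.Helper23.TensorUnit.unitTensorIso E),
        ← (Groth.Agent.Lib.Helper23.UnitStalk.unitStalkEquiv (genericPoint X)).finrank_eq,
        Module.finrank_self]
      unfold Curv2.deg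
      push_cast
      ring
    · rw [← (Groth.Agent.Lib.Helper23.UnitStalk.unitStalkEquiv (genericPoint X)).length_eq]
      exact Module.length_eq_one _ _
  rw [euler_congr_iso k (Groth.Agent.Lib.Helper23.AmpleFam2.tensorBraid E F)]
  exact key

end Integral

end Curve

end Groth.Agent.Lib.Helper4.CurveChi
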