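import Mathlib
import Groth.Agent.Lib.Helper4CurveChi

/-!
# Degree of a tensor product of finite locally free modules on a proper scheme of dimension ≤ 1 (helper4)

* `phi k X n E hE : K₀(Coh X) →+ ℤ`, `[F] ↦ χ(F ⊗ E) − n χ(F)`; it kills classes with zero-dimensional support
* `euler_tensor_locFree_locFree` : χ(V ⊗ E) = n χ(V) + m deg(E)
* `deg_tensor` (S7637)
-/

set_option autoImplicit false
set_option linter.style.haveILetI false
universe u
open CategoryTheory CategoryTheory.Limits AlgebraicGeometry TopologicalSpace Opposite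

namespace Groth.Agent.Lib.Helper4.CurveDegT
open Groth.Agent.Lib.Helper4.KFilt Groth.Agent.Lib.Helper17.K0a Groth.Agent.Lib.Helper4.CurveChi

variable (k : Type u) [Field k] (X : Scheme.{u}) [X.Over (Spec (CommRingCat.of k))]
  [IsProper (X ↘ (Spec (CommRingCat.of k)))]

/-- `[F] ↦ χ(F ⊗ E) − n χ(F)` on `K₀(Coh X)` -/
noncomputable def phi (n : ℕ) (E : X.Modules) (hE : FlatMod.IsFinLocFreeOfRank n E) :
    KZero.K0sub (cohP X) →+ ℤ :=
  QuotientAddGroup.lift (KZero.relSub (cohP X))
    (FreeAbelianGroup.lift (fun F : Subtype (cohP X) =>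
      Curv2.euler k X (CohB1.tensorMod F.1 E) - n * Curv2.euler k X F.1)) (by
    rw [KZero.relSub, AddSubgroup.closure_le]
    rintro x ⟨S, h₁, h₂, h₃, hS, rfl⟩
    rw [SetLike.mem_coe, AddMonoidHom.mem_ker, map_sub, map_sub, FreeAbelianGroup.lift_apply_of,
      FreeAbelianGroup.lift_apply_of, FreeAbelianGroup.lift_apply_of]
    change Curv2.euler k X (CohB1.tensorMod S.X₂ E) - n * Curv2.euler k X S.X₂ -
      (Curv2.euler k X (CohB1.tensorMod S.X₁ E) - n * Curv2.euler k X S.X₁) -
      (Curv2.euler k X (CohB1.tensorMod S.X₃ E) - n * Curv2.euler k X S.X₃) = 0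
    rw [euler_tensor_additive k X S hS h₁ h₂ h₃ n E hE,
      Groth.Agent.Lib.Helper6.Euler.euler_additive k X S hS h₁ h₂ h₃]
    ring)

theorem phi_cl (n : ℕ) (E : X.Modules) (hE : FlatMod.IsFinLocFreeOfRank n E) (F : X.Modules)
    (hF : Coh.IsCoh F) :
    phi k X n E hE (KZero.clSub (cohP X) F) =
      Curv2.euler k X (CohB1.tensorMod F E) - n * Curv2.euler k X F := by
  rw [clSub_of_prop (cohP X) hF]
  unfold phi
  rw [QuotientAddGroup.lift_mk, FreeAbelianGroup.lift_apply_of]

theorem lt_one_iff (x : WithBot ℕ∞) : x < 1 ↔ x ≤ 0 := by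
  induction x with
  | bot => simp
  | coe a =>
    rw [show (1 : WithBot ℕ∞) = ((1 : ℕ∞) : WithBot ℕ∞) from rfl,
      show (0 : WithBot ℕ∞) = ((0 : ℕ∞) : WithBot ℕ∞) from rfl, WithBot.coe_lt_coe, WithBot.coe_le_coe,
      Order.lt_one_iff]
    simp

theorem phi_lowSub (n : ℕ) (E : X.Modules) (hE : FlatMod.IsFinLocFreeOfRank n E)
    (c : KZero.K0sub (cohP X)) (hc : c ∈ lowSub (X := X) 1) : phi k X n E hE c = 0 := by
  unfold lowSub at hc
  induction hc using AddSubgroup.closure_induction with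
  | mem x hx =>
    obtain ⟨G, hG, hdim, rfl⟩ := hx
    rw [phi_cl k X n E hE G hG,
      Groth.Agent.Lib.Helper4.ZeroDimChi.euler_tensor_locFree k G hG ((lt_one_iff _).1 hdim) n E hE]
    ring
  | zero => exact map_zero _
  | add x y _ _ hx hy => rw [map_add, hx, hy, add_zero]
  | neg x _ hx => rw [map_neg, hx, neg_zero]

/-- χ(V ⊗ E) = n χ(V) + m deg(E) for finite locally free `V`, `E` of ranks `m`, `n`, `dim X ≤ 1` -/
theorem euler_tensor_locFree_locFree (hdim : topologicalKrullDim X ≤ 1) (n m : ℕ) (E V : X.Modules)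
    (hE : FlatMod.IsFinLocFreeOfRank n E) (hV : FlatMod.IsFinLocFreeOfRank m V) :
    Curv2.euler k X (CohB1.tensorMod V E) = n * Curv2.euler k X V + m * Curv2.deg k X E n := by
  haveI : IsLocallyNoetherian (Spec (CommRingCat.of k)) := inferInstance
  haveI : IsLocallyNoetherian X := LocallyOfFiniteType.isLocallyNoetherian (X ↘ (Spec (CommRingCat.of k)))
  haveI : CompactSpace X := by
    have : QuasiCompact (X ↘ (Spec (CommRingCat.of k))) := inferInstance
    exact (quasiCompact_iff_compactSpace (X ↘ (Spec (CommRingCat.of k)))).1 this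
  haveI : IsNoetherian X := {}
  have hO := Groth.Agent.Lib.Helper4.Dev.isCoh_structureModule X
  have hVc := Groth.Agent.Lib.Helper4.DegAdd.isCoh_of_isFinLocFreeOfRank V m hV
  have hdimO : topologicalKrullDim (CohB1.support (Coh.structureModule X)) ≤ ((1 : ℕ) : WithBot ℕ∞) :=
    (topologicalKrullDim_subspace_le X _).trans (by exact_mod_cast hdim)
  have h1 := Groth.Agent.Lib.Helper4.KTensor.clSub_tensorMod_sub_mem V m hV (Coh.structureModule X) hO 1 hdimO
  have h2 := phi_lowSub k X n E hE _ h1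
  rw [map_sub, map_nsmul,
    ← clSub_of_iso (cohP X) (Groth.Agent.Lib.Helper23.TensorUnit.tensorUnitIso V).symm hVc,
    phi_cl k X n E hE V hVc, phi_cl k X n E hE _ hO,
    euler_congr_iso k (Groth.Agent.Lib.Helper23.TensorUnit.unitTensorIso E)] at h2
  unfold Curv2.deg
  rw [nsmul_eq_mul] at h2
  linear_combination h2

/-- **S7637** -/
theorem deg_tensor (hdim : topologicalKrullDim X ≤ 1) (n m : ℕ) (E V : X.Modules)
    (hE : FlatMod.IsFinLocFreeOfRank n E) (hV : FlatMod.IsFinLocFreeOfRank m V) :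
    Curv2.deg k X (CohB1.tensorMod E V) (n * m) = n * Curv2.deg k X V m + m * Curv2.deg k X E n := by
  have h := euler_tensor_locFree_locFree k X hdim n m E V hE hV
  rw [← euler_congr_iso k (Groth.Agent.Lib.Helper23.AmpleFam2.tensorBraid E V)] at h
  unfold Curv2.deg at h ⊢
  push_cast
  linear_combination h

end Groth.Agent.Lib.Helper4.CurveDegT
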