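import Mathlib
import Groth.Agent.S0047
import Groth.Agent.S0012
import Groth.Agent.S0007
import Groth.Agent.Lib.Helper17GammaZSupp
import Groth.Agent.Lib.Helper17HHLes
import Groth.Agent.Lib.Helper2PullbackSec
import Groth.Agent.Lib.Helper4DevE

/-!
# Vanishing of `H^p`, `p ≥ 2`, for coherent modules on Noetherian separated schemes of dimension `≤ 1` (helper4)

* `isClosed_singleton_of_specializes` : in a `T0` space of dimension `≤ 1` every strict specialization is a closed
  point
* `HH_subsingleton_of_support_subset` : a module supported in a set all of whose subsets are closed is flasque,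
  hence acyclic (no coherence needed)
* `HH_subsingleton_push_restrict` : `H^p(X, j_* (F|_U)) = 0` for `p > 0`, `U` affine open with affine inclusion
* `HH_subsingleton_of_dim_le_one` : the vanishing theorem
-/

set_option autoImplicit false
set_option linter.style.haveILetI false
universe u

open TopologicalSpace Topology AlgebraicGeometry CategoryTheory CategoryTheory.Limits Opposite

namespace Groth.Agent.Lib.Helper4.CurveVan

open Groth.Agent.Lib.Helper23.Support Groth.Agent.Lib.Helper23.AffVanish

/-- in a `T0` space of dimension `≤ 1`, a strict specialization of a point is a closed point -/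
theorem isClosed_singleton_of_specializes {α : Type*} [TopologicalSpace α] [T0Space α]
    (hdim : topologicalKrullDim α ≤ 1) {y x : α} (hyx : y ⤳ x) (hne : x ≠ y) :
    IsClosed ({x} : Set α) := by
  rw [← closure_subset_iff_isClosed]
  intro x' hx'
  by_contra hx'ne
  have hx'ne' : x' ≠ x := hx'ne
  let Cy : IrreducibleCloseds α := ⟨closure {y}, isIrreducible_singleton.closure, isClosed_closure⟩
  let Cx : IrreducibleCloseds α := ⟨closure {x}, isIrreducible_singleton.closure, isClosed_closure⟩
  let Cx' : IrreducibleCloseds α := ⟨closure {x'}, isIrreducible_singleton.closure, isClosed_closure⟩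
  have h1 : Cx' < Cx := by
    refine lt_of_le_of_ne ?_ ?_
    · change closure {x'} ⊆ closure {x}
      exact isClosed_closure.closure_subset_iff.2 (Set.singleton_subset_iff.2 hx')
    · intro h
      have h2 : closure {x'} = closure {x} :=
        congrArg (fun C : IrreducibleCloseds α => (C : Set α)) h
      have h3 : x ∈ closure {x'} := h2 ▸ subset_closure rfl
      exact hx'ne' ((specializes_iff_mem_closure.2 h3).antisymm
        (specializes_iff_mem_closure.2 hx')).eq
  have h2 : Cx < Cy := by
    refine lt_of_le_of_ne ?_ ?_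
    · change closure {x} ⊆ closure {y}
      exact isClosed_closure.closure_subset_iff.2
        (Set.singleton_subset_iff.2 (specializes_iff_mem_closure.1 hyx))
    · intro h
      have h2 : closure {x} = closure {y} :=
        congrArg (fun C : IrreducibleCloseds α => (C : Set α)) h
      have h3 : y ∈ closure {x} := h2 ▸ subset_closure rfl
      exact hne ((specializes_iff_mem_closure.2 h3).antisymm hyx).eq
  have e1 := Order.height_add_one_le h1
  have e2 := Order.height_add_one_le h2
  have e3 : (Order.height Cy : WithBot ℕ∞) ≤ 1 := (Order.height_le_krullDim Cy).trans hdim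
  have e4 : (2 : ℕ∞) ≤ Order.height Cy := by
    calc (2 : ℕ∞) = 0 + 1 + 1 := by norm_num
      _ ≤ Order.height Cx' + 1 + 1 := by gcongr; exact zero_le
      _ ≤ Order.height Cx + 1 := by gcongr
      _ ≤ Order.height Cy := e2
  have e5 : ((2 : ℕ∞) : WithBot ℕ∞) ≤ 1 := (WithBot.coe_le_coe.2 e4).trans e3
  have e6 : (2 : ℕ∞) ≤ 1 := by exact_mod_cast e5
  exact absurd e6 (by norm_num)

variable {X : Scheme.{u}}

/-- a module supported in a set all of whose subsets are closed (e.g. a finite set of closed points) is flasque,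
hence has no higher cohomology. -/
theorem HH_subsingleton_of_support_subset (M : X.Modules) (S : Set X)
    (hS : ∀ T : Set X, T ⊆ S → IsClosed T) (hM : CohB1.support M ⊆ S) (i : ℕ) (hi : 0 < i) :
    Subsingleton (Coh.HH X M i) := by
  obtain ⟨n, rfl⟩ := Nat.exists_eq_succ_of_ne_zero hi.ne'
  have hfl : TopCat.Sheaf.IsFlasque (ab' M) := by
    constructor
    intro W W' i
    rw [AddCommGrpCat.epi_iff_surjective]
    intro s
    have hle : W'.unop ≤ W.unop := i.unop.le
    let T : Set X := S ∩ (W'.unop : Set X)
    have hTc : IsClosed T := hS T Set.inter_subset_left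
    let W₂ : X.Opens := W.unop ⊓ ⟨Tᶜ, hTc.isOpen_compl⟩
    have hcov : W.unop ≤ W'.unop ⊔ W₂ := by
      intro x hx
      by_cases hxT : x ∈ T
      · left; exact hxT.2
      · right; exact ⟨hx, hxT⟩
    have hdis : ∀ x ∈ W'.unop ⊓ W₂, x ∉ CohB1.support M := by
      intro x hx hxZ
      exact hx.2.2 ⟨hM hxZ, hx.1⟩
    have hz : (ab' M).obj.map (homOfLE (inf_le_left : W'.unop ⊓ W₂ ≤ W'.unop)).op s =
        (ab' M).obj.map (homOfLE (inf_le_right : W'.unop ⊓ W₂ ≤ W₂)).op 0 := by
      rw [map_zero]
      exact eq_zero_of_disjoint_support M (W'.unop ⊓ W₂) hdis _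
    obtain ⟨c, hc1, -⟩ := Groth.Agent.Lib.Helper16.SectSupp.glue2 (ab' M) W'.unop W₂ W.unop hle
      inf_le_left hcov s 0 hz
    exact ⟨c, hc1⟩
  exact Groth.Agent.Lib.Helper16.Flasque.H_subsingleton (ab' M) n

/-- all subsets of a finite set of closed points are closed -/
theorem isClosed_of_subset_finite (S : Set X) (hfin : S.Finite) (hpt : ∀ x ∈ S, IsClosed ({x} : Set X))
    (T : Set X) (hT : T ⊆ S) : IsClosed T := by
  have h3 : T = ⋃ y ∈ T, {y} := (Set.biUnion_of_singleton _).symm
  rw [h3]
  exact (hfin.subset hT).isClosed_biUnion (fun y hy => hpt y (hT hy))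

section Push
variable (U : X.Opens)

theorem support_push_restrict_subset (F : X.Modules) (Z : Set X) (hZ : IsClosed Z)
    (hF : CohB1.support F ⊆ Z) :
    CohB1.support ((Scheme.Modules.pushforward U.ι).obj (F.restrict U.ι)) ⊆ Z := by
  intro x hx
  by_contra hxZ
  apply hx
  let V : X.Opens := ⟨Zᶜ, hZ.isOpen_compl⟩
  have hxV : x ∈ V := hxZ
  have hzero : ∀ a : ((Scheme.Modules.pushforward U.ι).obj (F.restrict U.ι)).presheaf.stalk x, a = 0 := by
    intro a
    obtain ⟨W, hxW, s, rfl⟩ :=
      ((Scheme.Modules.pushforward U.ι).obj (F.restrict U.ι)).presheaf.exists_germ_eq a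
    have hxWV : x ∈ W ⊓ V := ⟨hxW, hxV⟩
    have hsub : ∀ t : Γ(F, U.ι ''ᵁ (U.ι ⁻¹ᵁ (W ⊓ V))), t = 0 := fun t =>
      eq_zero_of_disjoint_support F _ (fun z hz hzs =>
        (U.ι.image_preimage_le (W ⊓ V) hz).2 (hF hzs)) t
    haveI : Subsingleton Γ((Scheme.Modules.pushforward U.ι).obj (F.restrict U.ι), W ⊓ V) :=
      ⟨fun a b => (hsub a).trans (hsub b).symm⟩
    rw [← ((Scheme.Modules.pushforward U.ι).obj (F.restrict U.ι)).presheaf.germ_res_apply
      (homOfLE inf_le_left) x hxWV s]
    rw [Subsingleton.elim (((Scheme.Modules.pushforward U.ι).obj (F.restrict U.ι)).presheaf.map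
      (homOfLE inf_le_left).op s) 0, map_zero]
  exact ⟨fun a b => (hzero a).trans (hzero b).symm⟩

theorem HH_subsingleton_push_restrict [IsAffineHom U.ι] (hU : IsAffineOpen U) (F : X.Modules)
    [F.IsQuasicoherent] (i : ℕ) (hi : 0 < i) :
    Subsingleton (Coh.HH X ((Scheme.Modules.pushforward U.ι).obj (F.restrict U.ι)) i) := by
  haveI : IsAffine (U : Scheme.{u}) := hU
  haveI : (F.restrict U.ι).IsQuasicoherent :=
    (SheafOfModules.isQuasicoherent (U : Scheme.{u}).ringCatSheaf).prop_of_iso
      ((Scheme.Modules.restrictFunctorIsoPullback U.ι).app F).symm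
      (Groth.Agent.Lib.Helper2.PullbackSec.isQuasicoherent_pullback U.ι F)
  obtain ⟨e⟩ := Groth.Agent.S0012.result U.ι (F.restrict U.ι) i
  haveI := Groth.Agent.S0007.result (U : Scheme.{u}) (F.restrict U.ι) i hi
  exact e.symm.toEquiv.subsingleton

/-- the kernel of `F ⟶ im(F ⟶ j_* (F|_U))` vanishes on `U` -/
theorem isZero_restrict_kernel (F : X.Modules) :
    IsZero ((Scheme.Modules.restrictFunctor U.ι).obj
      (kernel (Abelian.factorThruImage ((Scheme.Modules.restrictAdjunction U.ι).unit.app F)))) := by
  haveI := Groth.Agent.Lib.Helper17.GammaZSupp.isIso_restrict_map_unit U F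
  haveI : (Scheme.Modules.restrictFunctor U.ι).PreservesMonomorphisms := inferInstance
  set η := (Scheme.Modules.restrictAdjunction U.ι).unit.app F with hη
  have hfac : Abelian.factorThruImage η ≫ Abelian.image.ι η = η := Abelian.image.fac η
  haveI : Mono ((Scheme.Modules.restrictFunctor U.ι).map (Abelian.factorThruImage η)) := by
    haveI : Mono ((Scheme.Modules.restrictFunctor U.ι).map (Abelian.factorThruImage η) ≫
        (Scheme.Modules.restrictFunctor U.ι).map (Abelian.image.ι η)) := by
      rw [← Functor.map_comp, hfac]; infer_instance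
    exact mono_of_mono _ ((Scheme.Modules.restrictFunctor U.ι).map (Abelian.image.ι η))
  haveI : Mono ((Scheme.Modules.restrictFunctor U.ι).map (kernel.ι (Abelian.factorThruImage η))) :=
    Functor.map_mono _ _
  apply IsZero.of_mono_eq_zero ((Scheme.Modules.restrictFunctor U.ι).map
    (kernel.ι (Abelian.factorThruImage η)))
  rw [← cancel_mono ((Scheme.Modules.restrictFunctor U.ι).map (Abelian.factorThruImage η)),
    ← Functor.map_comp, zero_comp, kernel.condition, Functor.map_zero]

/-- the cokernel of `im(F ⟶ j_* (F|_U)) ⟶ j_* (F|_U)` vanishes on `U` -/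
theorem isZero_restrict_cokernel (F : X.Modules) :
    IsZero ((Scheme.Modules.restrictFunctor U.ι).obj
      (cokernel (Abelian.image.ι ((Scheme.Modules.restrictAdjunction U.ι).unit.app F)))) := by
  haveI := Groth.Agent.Lib.Helper17.GammaZSupp.isIso_restrict_map_unit U F
  haveI : (Scheme.Modules.restrictFunctor U.ι).PreservesEpimorphisms := inferInstance
  set η := (Scheme.Modules.restrictAdjunction U.ι).unit.app F with hη
  have hfac : Abelian.factorThruImage η ≫ Abelian.image.ι η = η := Abelian.image.fac η
  haveI : Epi ((Scheme.Modules.restrictFunctor U.ι).map (Abelian.image.ι η)) := by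
    haveI : Epi ((Scheme.Modules.restrictFunctor U.ι).map (Abelian.factorThruImage η) ≫
        (Scheme.Modules.restrictFunctor U.ι).map (Abelian.image.ι η)) := by
      rw [← Functor.map_comp, hfac]; infer_instance
    exact epi_of_epi ((Scheme.Modules.restrictFunctor U.ι).map (Abelian.factorThruImage η)) _
  haveI : Epi ((Scheme.Modules.restrictFunctor U.ι).map (cokernel.π (Abelian.image.ι η))) :=
    Functor.map_epi _ _
  apply IsZero.of_epi_eq_zero ((Scheme.Modules.restrictFunctor U.ι).map
    (cokernel.π (Abelian.image.ι η)))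
  rw [← cancel_epi ((Scheme.Modules.restrictFunctor U.ι).map (Abelian.image.ι η)),
    ← Functor.map_comp, comp_zero, cokernel.condition, Functor.map_zero]

end Push

theorem support_subset_of_mono {A B : X.Modules} (φ : A ⟶ B) [Mono φ] :
    CohB1.support A ⊆ CohB1.support B := by
  intro x hx hB
  apply hx
  exact (Groth.Agent.Lib.Helper4.Dev.stalkL_injective_of_mono φ x).subsingleton

theorem support_subset_of_epi {A B : X.Modules} (φ : A ⟶ B) [Epi φ] :
    CohB1.support B ⊆ CohB1.support A := by
  intro x hx hA
  apply hx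
  exact (Groth.Agent.Lib.Helper4.Dev.stalkL_surjective_of_epi φ x).subsingleton

open Groth.Agent.Lib.Helper17.HHLes Groth.Agent.Lib.Helper27CohFin Groth.Agent.Lib.Helper4.Dev in
/-- **Vanishing in degrees `≥ 2`** on a Noetherian scheme of dimension `≤ 1` all of whose affine opens have affine
inclusion (e.g. a separated one), for coherent modules. -/
theorem HH_subsingleton_of_dim_le_one [IsNoetherian X]
    (hsep : ∀ U : X.Opens, IsAffineOpen U → IsAffineHom U.ι)
    (hdim : topologicalKrullDim X ≤ 1) (F : X.Modules) (hF : Coh.IsCoh F) (p : ℕ) (hp : 2 ≤ p) :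
    Subsingleton (Coh.HH X F p) := by
  let K : X.Modules → Prop := fun M => ∀ p, 2 ≤ p → Subsingleton (Coh.HH X M p)
  suffices h : K F from h p hp
  refine noetherian_induction_coh K Set.univ ?_ ?_ ?_ ?_ F hF (Set.subset_univ _)
  · rintro M N ⟨e⟩ hM p hp
    haveI := hM p hp
    have key : ∀ a : Coh.HH X N p, a = 0 := fun a => by
      have h1 : Hm e.hom p (Hm e.inv p a) = a := by rw [Hm_comp, e.inv_hom_id, Hm_id]
      rw [← h1, Subsingleton.elim (Hm e.inv p a) 0, map_zero]
    exact ⟨fun a b => (key a).trans (key b).symm⟩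
  · intro M hM p hp
    have key : ∀ a : Coh.HH X M p, a = 0 := fun a => by
      rw [← Hm_id M p a, hM.eq_of_src (𝟙 M) 0, Hm_zero]
    exact ⟨fun a b => (key a).trans (key b).symm⟩
  · intro S hS _ _ _ _ hK1 hK3 p hp
    have v1 := hK1 p hp
    have v3 := hK3 p hp
    have key : ∀ a : Coh.HH X S.X₂ p, a = 0 := fun a => by
      obtain ⟨w, hw⟩ := exact₂ S hS p a (v3.allEq _ _)
      rw [← hw, v1.allEq w 0, map_zero]
    exact ⟨fun a b => (key a).trans (key b).symm⟩
  · intro y _ _ F hF hsF p hp
    obtain ⟨U, hU, hyU, -⟩ := exists_isAffineOpen_mem_and_subset (x := y) (U := ⊤) trivial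
    haveI := hsep U hU
    haveI : F.IsQuasicoherent := hF.1
    let Sset : Set X := closure {y} ∩ (U : Set X)ᶜ
    have hScl : IsClosed Sset := isClosed_closure.inter U.isOpen.isClosed_compl
    have hSpt : ∀ x ∈ Sset, IsClosed ({x} : Set X) := fun x hx =>
      isClosed_singleton_of_specializes hdim (specializes_iff_mem_closure.2 hx.1)
        (fun h => hx.2 (h ▸ hyU))
    have hSfin : Sset.Finite := Groth.Agent.S0047.finite_of_noetherian_quasiSober Sset hScl hSpt
    have hSall := isClosed_of_subset_finite Sset hSfin hSpt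
    have hK0 : CohB1.support (kernel (Abelian.factorThruImage
        ((Scheme.Modules.restrictAdjunction U.ι).unit.app F))) ⊆ Sset := fun x hx =>
      ⟨hsF (support_subset_of_mono (kernel.ι _) hx),
        Groth.Agent.Lib.Helper17.GammaZSupp.support_subset_of_isZero_restrict U _
          (isZero_restrict_kernel U F) hx⟩
    have hC0 : CohB1.support (cokernel (Abelian.image.ι
        ((Scheme.Modules.restrictAdjunction U.ι).unit.app F))) ⊆ Sset := fun x hx =>
      ⟨support_push_restrict_subset U F _ isClosed_closure hsF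
          (support_subset_of_epi (cokernel.π _) hx),
        Groth.Agent.Lib.Helper17.GammaZSupp.support_subset_of_isZero_restrict U _
          (isZero_restrict_cokernel U F) hx⟩
    obtain ⟨q, rfl⟩ : ∃ q, p = q + 1 := ⟨p - 1, by omega⟩
    have v1 := HH_subsingleton_of_support_subset _ Sset hSall hK0 (q + 1) (by omega)
    have v2 := HH_subsingleton_of_support_subset _ Sset hSall hC0 q (by omega)
    have v3 := HH_subsingleton_push_restrict U hU F (q + 1) (by omega)
    have hI : ∀ z : Coh.HH X (Abelian.image
        ((Scheme.Modules.restrictAdjunction U.ι).unit.app F)) (q + 1), z = 0 := by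
      intro z
      obtain ⟨w, hw⟩ := exact₁ (sesOfMono (Abelian.image.ι
        ((Scheme.Modules.restrictAdjunction U.ι).unit.app F))) (sesOfMono_shortExact _) q z
        (v3.allEq _ _)
      have hw0 : w = 0 := v2.allEq _ _
      rw [← hw, hw0]
      exact map_zero _
    have key : ∀ a : Coh.HH X F (q + 1), a = 0 := fun a => by
      obtain ⟨w, hw⟩ := exact₂ (sesOfEpi (Abelian.factorThruImage
        ((Scheme.Modules.restrictAdjunction U.ι).unit.app F))) (sesOfEpi_shortExact _) (q + 1) a
        (hI _)
      have hw0 : w = 0 := v1.allEq _ _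
      rw [← hw, hw0]
      exact map_zero _
    exact ⟨fun a b => (key a).trans (key b).symm⟩

/-- separated schemes: affine opens have affine inclusions -/
theorem isAffineHom_ι_of_isSeparated [X.IsSeparated] (U : X.Opens) (hU : IsAffineOpen U) :
    IsAffineHom U.ι := by
  haveI : IsAffine (U : Scheme.{u}) := hU
  haveI : IsAffineHom (U.ι ≫ terminal.from X) := by
    rw [terminal.comp_from]; infer_instance
  exact IsAffineHom.of_comp U.ι (terminal.from X)

theorem HH_subsingleton_of_dim_le_one' [IsNoetherian X] [X.IsSeparated]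
    (hdim : topologicalKrullDim X ≤ 1) (F : X.Modules) (hF : Coh.IsCoh F) (p : ℕ) (hp : 2 ≤ p) :
    Subsingleton (Coh.HH X F p) :=
  HH_subsingleton_of_dim_le_one isAffineHom_ι_of_isSeparated hdim F hF p hp

end Groth.Agent.Lib.Helper4.CurveVan
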