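import Mathlib
import Groth.Prelude.Def_Coh
import Groth.Prelude.Def_CurvBase
import Groth.Prelude.Def_Curv2
import Groth.Prelude.Def_Pic
import Groth.Agent.S1526
import Groth.Agent.S1527
import Groth.Agent.Lib.Helper6Euler
import Groth.Agent.Lib.Helper20InvGen
import Groth.Agent.Lib.Helper4DevL
import Groth.Agent.Lib.Helper4ZeroDimGG
import Groth.Agent.Lib.Helper23FinTypeLocal
import Groth.Agent.Lib.Helper23TensorUnit
import Groth.Agent.S0020
import Groth.Agent.S0002

set_option autoImplicit false
set_option linter.style.haveILetI false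
universe u
open CategoryTheory Limits AlgebraicGeometry Opposite TopologicalSpace

namespace Groth.Agent.Lib.Helper6.CurveDeg

open Groth.Agent.Lib.Helper4.Dev Groth.Agent.Lib.Helper20.InvGen Groth.Agent.Lib.Helper2

variable {X : Scheme.{u}}

/-- on an integral scheme, a function with vanishing germ at the generic point vanishes -/
theorem eq_zero_of_germ_genericPoint [IsIntegral X] (V : X.Opens) (hη : genericPoint X ∈ V)
    (a : Γ(X, V)) (ha : X.presheaf.germ V (genericPoint X) hη a = 0) : a = 0 := by
  haveI : Nonempty V := ⟨⟨_, hη⟩⟩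
  apply germ_injective_of_isIntegral X (genericPoint X) hη
  rw [ha, map_zero]

/-- the generic point lies in every nonempty open of an irreducible scheme -/
theorem genericPoint_mem [IrreducibleSpace X] (V : X.Opens) {x : X} (hx : x ∈ V) :
    genericPoint X ∈ V :=
  ((genericPoint_spec X).specializes (by trivial : x ∈ (⊤ : Set X))).mem_open V.2 hx

/-- sections of an invertible module on an integral scheme are detected at the generic point -/
theorem tfat_of_isInvertible [IsIntegral X] (L : X.Modules) (hL : PicF.IsInvertible L)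
    (U : X.Opens) : TFat L (genericPoint X) U := by
  intro t ht
  refine TopCat.Presheaf.section_ext ⟨L.presheaf, L.isSheaf⟩ U t 0 (fun x hx => ?_)
  obtain ⟨W, e, hxW, he⟩ := exists_local_generator L hL x
  obtain ⟨c, hc⟩ := (he x hxW).2 (L.presheaf.germ U x hx t)
  obtain ⟨V₀, hxV₀, a₀, rfl⟩ := X.presheaf.exists_germ_eq c
  let V₁ : X.Opens := V₀ ⊓ U ⊓ W
  have hxV₁ : x ∈ V₁ := ⟨⟨hxV₀, hx⟩, hxW⟩
  have h0 : V₁ ≤ V₀ := inf_le_left.trans inf_le_left
  have hU : V₁ ≤ U := inf_le_left.trans inf_le_right
  have hW : V₁ ≤ W := inf_le_right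
  let a : Γ(X, V₁) := X.presheaf.map (homOfLE h0).op a₀
  let e₁ : Γ(L, V₁) := L.presheaf.map (homOfLE hW).op e
  let t₁ : Γ(L, V₁) := L.presheaf.map (homOfLE hU).op t
  have ha : ∀ (y : X) (hy : y ∈ V₁), X.presheaf.germ V₁ y hy a = X.presheaf.germ V₀ y (h0 hy) a₀ :=
    fun y hy => TopCat.Presheaf.germ_res_apply X.presheaf (homOfLE h0) y hy a₀
  have he₁ : ∀ (y : X) (hy : y ∈ V₁), L.presheaf.germ V₁ y hy e₁ = L.presheaf.germ W y (hW hy) e :=
    fun y hy => TopCat.Presheaf.germ_res_apply L.presheaf (homOfLE hW) y hy e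
  have ht₁ : ∀ (y : X) (hy : y ∈ V₁), L.presheaf.germ V₁ y hy t₁ = L.presheaf.germ U y (hU hy) t :=
    fun y hy => TopCat.Presheaf.germ_res_apply L.presheaf (homOfLE hU) y hy t
  have hgx : L.presheaf.germ V₁ x hxV₁ (a • e₁) = L.presheaf.germ V₁ x hxV₁ t₁ := by
    rw [QCoh.germ_smul, ha, he₁, ht₁]
    exact hc
  obtain ⟨V, hxV, iV, iV', hV⟩ := TopCat.Presheaf.germ_eq L.presheaf x hxV₁ hxV₁ _ _ hgx
  have hη : genericPoint X ∈ V := genericPoint_mem V hxV
  have hηV₁ : genericPoint X ∈ V₁ := iV.le hη
  have h1 : L.presheaf.germ V₁ (genericPoint X) hηV₁ (a • e₁) = 0 := by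
    rw [← TopCat.Presheaf.germ_res_apply L.presheaf iV _ hη, hV,
      TopCat.Presheaf.germ_res_apply L.presheaf iV' _ hη, ht₁]
    exact ht (hU hηV₁)
  rw [QCoh.germ_smul, he₁] at h1
  have h2 : X.presheaf.germ V₁ (genericPoint X) hηV₁ a = 0 := by
    apply (he _ (hW hηV₁)).1
    change _ • _ = _ • _
    rw [h1, zero_smul]
  have h3 : a = 0 := eq_zero_of_germ_genericPoint V₁ hηV₁ a h2
  rw [map_zero, ← ht₁ x hxV₁, ← hgx, h3, zero_smul, map_zero]

/-- linear algebra: a nonzero map between free rank one modules over a "field" is bijective -/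
theorem bijective_of_ne_zero {K V W : Type*} [CommRing K] [AddCommGroup V] [AddCommGroup W]
    [Module K V] [Module K W] (hK : ∀ a : K, a ≠ 0 → IsUnit a) (eV : V) (eW : W)
    (hV : Function.Bijective (fun c : K => c • eV)) (hW : Function.Bijective (fun c : K => c • eW))
    (f : V →ₗ[K] W) (hf : f ≠ 0) : Function.Bijective f := by
  obtain ⟨c₀, hc₀⟩ := hW.2 (f eV)
  have hc₀' : c₀ • eW = f eV := hc₀
  have hne : c₀ ≠ 0 := by
    rintro rfl
    apply hf
    ext v
    obtain ⟨c, rfl⟩ := hV.2 v
    simp only [map_smul, ← hc₀', zero_smul, smul_zero, LinearMap.zero_apply]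
  obtain ⟨u, hu⟩ := hK c₀ hne
  constructor
  · rw [injective_iff_map_eq_zero]
    intro v hv
    obtain ⟨c, rfl⟩ := hV.2 v
    change f (c • eV) = 0 at hv
    rw [map_smul, ← hc₀', smul_smul] at hv
    have h0 : c * c₀ = 0 := hW.1 (by simpa using hv)
    have hc : c = 0 := by
      rw [← hu] at h0
      exact u.mul_left_eq_zero.1 h0
    change c • eV = 0
    rw [hc, zero_smul]
  · intro w
    obtain ⟨d, rfl⟩ := hW.2 w
    refine ⟨(d * ↑u⁻¹) • eV, ?_⟩
    change f ((d * ↑u⁻¹) • eV) = d • eW
    rw [map_smul, ← hc₀', smul_smul, ← hu, mul_assoc, Units.inv_mul, mul_one]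

/-- nonzero elements of the local ring at the generic point of an integral scheme are units -/
theorem isUnit_of_ne_zero_genericPoint [IsIntegral X] (a : X.presheaf.stalk (genericPoint X))
    (ha : a ≠ 0) : IsUnit a :=
  IsUnit.mk0 (G₀ := X.functionField) a ha

/-- a nonzero morphism to an invertible module is nonzero at the generic point -/
theorem stalkL_genericPoint_ne_zero [IsIntegral X] {N L : X.Modules} (hL : PicF.IsInvertible L)
    (φ : N ⟶ L) (hφ : φ ≠ 0) : stalkL φ (genericPoint X) ≠ 0 := by
  intro h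
  apply hφ
  apply Scheme.Modules.hom_ext
  intro U
  ext t
  apply tfat_of_isInvertible L hL U
  intro hη
  rw [← stalkL_germ, h]
  rfl

/-- a nonzero morphism of invertible modules on an integral scheme is bijective at the generic point -/
theorem stalkL_genericPoint_bijective [IsIntegral X] {N L : X.Modules} (hN : PicF.IsInvertible N)
    (hL : PicF.IsInvertible L) (φ : N ⟶ L) (hφ : φ ≠ 0) :
    Function.Bijective (stalkL φ (genericPoint X)) := by
  obtain ⟨W, t, hW, ht⟩ := exists_local_generator N hN (genericPoint X)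
  obtain ⟨W', t', hW', ht'⟩ := exists_local_generator L hL (genericPoint X)
  exact bijective_of_ne_zero isUnit_of_ne_zero_genericPoint _ _ (ht _ hW) (ht' _ hW')
    (stalkL φ (genericPoint X)) (stalkL_genericPoint_ne_zero hL φ hφ)

/-- a nonzero morphism of invertible modules on an integral scheme is a monomorphism -/
theorem mono_of_ne_zero [IsIntegral X] {N L : X.Modules} (hN : PicF.IsInvertible N)
    (hL : PicF.IsInvertible L) (φ : N ⟶ L) (hφ : φ ≠ 0) : Mono φ := by
  apply mono_of_injective_app
  intro U a b hab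
  rw [← sub_eq_zero]
  apply tfat_of_isInvertible N hN U
  intro hη
  apply (stalkL_genericPoint_bijective hN hL φ hφ).1
  rw [stalkL_germ, map_sub, hab, sub_self, map_zero, map_zero]

/-- the cokernel of a nonzero morphism of invertible modules vanishes at the generic point -/
theorem subsingleton_stalk_cokernel [IsIntegral X] {N L : X.Modules} (hN : PicF.IsInvertible N)
    (hL : PicF.IsInvertible L) (φ : N ⟶ L) (hφ : φ ≠ 0) :
    Subsingleton ((cokernel φ).presheaf.stalk (genericPoint X)) := by
  have key : ∀ z : (cokernel φ).presheaf.stalk (genericPoint X), z = 0 := by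
    intro z
    obtain ⟨w, rfl⟩ := stalkL_surjective_of_epi (cokernel.π φ) (genericPoint X) z
    obtain ⟨v, rfl⟩ := (stalkL_genericPoint_bijective hN hL φ hφ).2 w
    rw [← stalkL_comp_apply, cokernel.condition, stalkL_zero]
    rfl
  exact ⟨fun a b => by rw [key a, key b]⟩

/-- a proper closed subset of an irreducible space of dimension at most one has dimension at most zero -/
theorem topologicalKrullDim_le_zero_of_ne_univ {T : Type*} [TopologicalSpace T] [IrreducibleSpace T]
    (hdim : topologicalKrullDim T ≤ 1) (Z : Set T) (hZ : IsClosed Z) (hne : Z ≠ Set.univ) :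
    topologicalKrullDim Z ≤ 0 := by
  unfold topologicalKrullDim at hdim ⊢
  rw [Order.krullDim_nonpos_iff_forall_isMax]
  rw [Order.krullDim_le_one_iff] at hdim
  intro C C' hCC'
  by_contra hnot
  have hlt : C < C' := lt_of_le_not_ge hCC' hnot
  have hind : Topology.IsInducing (Subtype.val : Z → T) := Topology.IsInducing.subtypeVal
  have hlt' := IrreducibleCloseds.map_strictMono_of_isInducing hind hlt
  let Top : IrreducibleCloseds T := ⟨Set.univ, IrreducibleSpace.isIrreducible_univ _, isClosed_univ⟩
  have hsub : (IrreducibleCloseds.map _ hind.continuous C' : Set T) ⊆ Z := by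
    rw [IrreducibleCloseds.coe_map]
    refine (hZ.closure_subset_iff).2 ?_
    rintro _ ⟨z, _, rfl⟩
    exact z.2
  have hlt'' : IrreducibleCloseds.map _ hind.continuous C' < Top := by
    refine lt_of_le_of_ne (fun _ _ => trivial) ?_
    intro h
    apply hne
    rw [Set.eq_univ_iff_forall]
    intro x
    apply hsub
    rw [h]
    trivial
  rcases hdim (IrreducibleCloseds.map _ hind.continuous C') with h | h
  · exact h.not_lt hlt'
  · exact h.not_lt hlt''

/-- invertible modules are coherent -/
theorem isCoh_of_isInvertible (L : X.Modules) (hL : PicF.IsInvertible L) : Coh.IsCoh L := by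
  choose U hyU hiso using hL
  have hcov : IsOpenCover U := by
    rw [IsOpenCover, eq_top_iff]
    intro x _
    exact Opens.mem_iSup.2 ⟨x, hyU x⟩
  have hq : L.IsQuasicoherent := by
    refine Groth.Agent.Lib.Helper23.FinType.isQuasicoherent_of_open_cover L U hcov (fun y => ?_)
    obtain ⟨e⟩ := hiso y
    haveI : (Coh.structureModule (U y : Scheme.{u})).IsQuasicoherent :=
      (isCoh_structureModule (U y : Scheme.{u})).1
    exact (SheafOfModules.isQuasicoherent (U y : Scheme.{u}).ringCatSheaf).prop_of_iso e.symm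
      inferInstance
  refine ⟨hq, ?_⟩
  haveI := hq
  refine Groth.Agent.Lib.Helper23.FinType.isFiniteType_of_open_cover L U hcov (fun y => ?_)
  obtain ⟨e⟩ := hiso y
  haveI : SheafOfModules.IsFiniteType (R := (U y : Scheme.{u}).ringCatSheaf)
      (Coh.structureModule (U y : Scheme.{u})) := (isCoh_structureModule (U y : Scheme.{u})).2
  exact Groth.Agent.Lib.Helper23.FinType.isFiniteType_of_iso e.symm

section Curve

variable (k : Type u) [Field k] (X : Scheme.{u}) [X.Over (Spec (CommRingCat.of k))]
  [IsIntegral X] [IsProper (X ↘ (Spec (CommRingCat.of k)))]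

/-- the Euler characteristic computation for a nonzero map of invertible modules on a curve -/
theorem main (hdim : topologicalKrullDim X = 1) (N L : X.Modules) (hN : PicF.IsInvertible N)
    (hL : PicF.IsInvertible L) (φ : N ⟶ L) (hφ : φ ≠ 0) :
    Curv2.euler k X L = Curv2.euler k X N + (Module.finrank k (Coh.HH X (cokernel φ) 0) : ℤ) ∧
    (Module.finrank k (Coh.HH X (cokernel φ) 0) = 0 → IsIso φ) := by
  haveI : IsLocallyNoetherian X :=
    LocallyOfFiniteType.isLocallyNoetherian (X ↘ (Spec (CommRingCat.of k)))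
  haveI : Mono φ := mono_of_ne_zero hN hL φ hφ
  have cN := isCoh_of_isInvertible N hN
  have cL := isCoh_of_isInvertible L hL
  have cQ : Coh.IsCoh (cokernel φ) := isCoh_cokernel φ cN cL
  have hZ : IsClosed (CohB1.support (cokernel φ)) := Groth.Agent.S0020.result X _ cQ.2
  have hη : genericPoint X ∉ CohB1.support (cokernel φ) :=
    fun h => h (subsingleton_stalk_cokernel hN hL φ hφ)
  have hsupp : topologicalKrullDim (CohB1.support (cokernel φ)) ≤ 0 :=
    topologicalKrullDim_le_zero_of_ne_univ hdim.le _ hZ (fun h => hη (h ▸ Set.mem_univ _))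
  have hadd := Groth.Agent.Lib.Helper6.Euler.euler_additive k X (sesOfMono φ)
    (sesOfMono_shortExact φ) cN cL cQ
  have hQ : Curv2.euler k X (cokernel φ) = (Module.finrank k (Coh.HH X (cokernel φ) 0) : ℤ) := by
    rw [Groth.Agent.Lib.Helper6.Euler.euler_eq_sum k X _ 1
      (fun p hp => Groth.Agent.S1526.result k X _ cQ hsupp p hp)]
    haveI := Groth.Agent.S1526.result k X _ cQ hsupp 1 le_rfl
    rw [Finset.sum_range_succ, Finset.sum_range_one,
      Module.finrank_zero_of_subsingleton (M := Coh.HH X (cokernel φ) 1)]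
    simp
  refine ⟨by rw [← hQ]; exact hadd, fun h0 => ?_⟩
  haveI : Module.Finite k (Coh.HH X (cokernel φ) 0) := Groth.Agent.S0002.result k X _ cQ 0
  haveI : Subsingleton (Coh.HH X (cokernel φ) 0) := Module.finrank_zero_iff.1 h0
  have hΓ : Subsingleton Γ(cokernel φ, ⊤) :=
    (Sheaf.H.equiv₀ (Coh.toAb (cokernel φ)) Limits.isTerminalTop).symm.toEquiv.subsingleton
  have hall : ∀ (U : X.Opens) (s : Γ(cokernel φ, U)), s = 0 := by
    intro U s
    obtain ⟨c, rfl⟩ := Groth.Agent.Lib.Helper4.ZeroDimGG.exists_global_extension (cokernel φ) cQ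
      (fun x hx => Groth.Agent.Lib.Helper4.ZeroDimGG.isClosed_singleton_of_dim_le_zero _ hZ hsupp x hx)
      U s
    rw [Subsingleton.elim c 0]
    exact map_zero _
  have hz : IsZero (cokernel φ) := by
    rw [IsZero.iff_id_eq_zero]
    apply Scheme.Modules.hom_ext
    intro U
    ext t
    exact (hall U _).trans (hall U _).symm
  haveI : Epi φ := Preadditive.epi_of_isZero_cokernel φ hz
  exact isIso_of_mono_of_epi φ

/-- S1521: nonzero maps of invertible modules on a curve increase the degree, with equality iff iso -/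
theorem deg_le_deg (hdim : topologicalKrullDim X = 1) (N L : X.Modules) (hN : PicF.IsInvertible N)
    (hL : PicF.IsInvertible L) (φ : N ⟶ L) (hφ : φ ≠ 0) :
    Curv2.deg k X N 1 ≤ Curv2.deg k X L 1 ∧ (Curv2.deg k X N 1 = Curv2.deg k X L 1 → IsIso φ) := by
  obtain ⟨h1, h2⟩ := main k X hdim N L hN hL φ hφ
  unfold Curv2.deg
  have hnn := Int.natCast_nonneg (Module.finrank k (Coh.HH X (cokernel φ) 0))
  constructor
  · rw [h1]
    linarith
  · intro h
    apply h2
    rw [h1] at h
    have : (Module.finrank k (Coh.HH X (cokernel φ) 0) : ℤ) = 0 := by linarith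
    exact_mod_cast this

omit [IsIntegral X] [IsProper (X ↘ (Spec (CommRingCat.of k)))] in
theorem deg_structureModule : Curv2.deg k X (Coh.structureModule X) 1 = 0 := by
  unfold Curv2.deg
  push_cast
  ring

/-- S1518 -/
theorem deg_nonneg (hdim : topologicalKrullDim X = 1) (L : X.Modules) (hL : PicF.IsInvertible L)
    (s : Coh.structureModule X ⟶ L) (hs : s ≠ 0) : 0 ≤ Curv2.deg k X L 1 := by
  have h := (deg_le_deg k X hdim _ L
    (Groth.Agent.Lib.Helper23.TensorUnit.isInvertible_structureModule X) hL s hs).1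
  rwa [deg_structureModule] at h

/-- S1520 -/
theorem iso_of_deg_le_zero (hdim : topologicalKrullDim X = 1) (L : X.Modules)
    (hL : PicF.IsInvertible L) (s : Coh.structureModule X ⟶ L) (hs : s ≠ 0)
    (hdeg : Curv2.deg k X L 1 ≤ 0) : IsIso s := by
  have h := deg_le_deg k X hdim _ L
    (Groth.Agent.Lib.Helper23.TensorUnit.isInvertible_structureModule X) hL s hs
  rw [deg_structureModule] at h
  exact h.2 (le_antisymm h.1 hdeg)

/-- S1519 -/
theorem deg_pos (hdim : topologicalKrullDim X = 1) (L : X.Modules) (hL : PicF.IsInvertible L)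
    (s : Coh.structureModule X ⟶ L) (hs : s ≠ 0) (x : X) (hx : x ∉ CohB1.genLocus L s) :
    0 < Curv2.deg k X L 1 := by
  by_contra hneg
  rw [not_lt] at hneg
  haveI := iso_of_deg_le_zero k X hdim L hL s hs hneg
  apply hx
  have hmem : (⊤ : X.Opens) ∈ {U : X.Opens | IsIso ((Scheme.Modules.restrictFunctor U.ι).map s)} := by
    change IsIso _
    infer_instance
  have hle : (⊤ : X.Opens) ≤ CohB1.genLocus L s := le_sSup hmem
  exact hle trivial

end Curve

end Groth.Agent.Lib.Helper6.CurveDeg
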