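import Mathlib
import Groth.Agent.Lib.Helper4CurveVan
import Groth.Agent.Lib.Helper4CurveDegT
import Groth.Agent.Lib.Helper6CurveDeg
import Groth.Agent.Lib.Helper21UnitHom

/-!
# Riemann–Roch bookkeeping on proper schemes of dimension ≤ 1 over a field (helper4)

* `HH_subsingleton` : `H^p(X, F) = 0` for `p ≥ 2`, `F` coherent, `X` proper of dimension `≤ 1` over `k`
* `euler_eq_h0_sub_h1` : `χ(F) = h⁰(F) − h¹(F)`
* `euler_le_h0`, `h0_le_of_mono`, `one_le_h0_structure`
* `exists_section_of_h0_pos` : a nonzero class in `H⁰(L)` gives a nonzero map `O ⟶ L`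
-/

set_option autoImplicit false
set_option linter.style.haveILetI false
universe u

open TopologicalSpace Topology AlgebraicGeometry CategoryTheory CategoryTheory.Limits Opposite

namespace Groth.Agent.Lib.Helper4.CurveRR

section Field
variable (k : Type u) [Field k] (X : Scheme.{u}) [X.Over (Spec (CommRingCat.of k))]

theorem isSeparated_of_proper [IsProper (X ↘ (Spec (CommRingCat.of k)))] : X.IsSeparated := by
  constructor
  have h : terminal.from X = (X ↘ Spec (CommRingCat.of k)) ≫ terminal.from _ :=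
    (terminal.comp_from _).symm
  rw [h]
  infer_instance

theorem isNoetherian_of_proper [IsProper (X ↘ (Spec (CommRingCat.of k)))] : IsNoetherian X := by
  haveI : IsLocallyNoetherian (Spec (CommRingCat.of k)) := inferInstance
  haveI : IsLocallyNoetherian X := LocallyOfFiniteType.isLocallyNoetherian (X ↘ (Spec (CommRingCat.of k)))
  haveI : CompactSpace X := by
    have : QuasiCompact (X ↘ (Spec (CommRingCat.of k))) := inferInstance
    exact (quasiCompact_iff_compactSpace (X ↘ (Spec (CommRingCat.of k)))).1 this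
  exact {}

variable [IsProper (X ↘ (Spec (CommRingCat.of k)))]

include k in
theorem HH_subsingleton (hdim : topologicalKrullDim X ≤ 1) (F : X.Modules) (hF : Coh.IsCoh F)
    (p : ℕ) (hp : 2 ≤ p) : Subsingleton (Coh.HH X F p) := by
  haveI := isSeparated_of_proper k X
  haveI := isNoetherian_of_proper k X
  exact Groth.Agent.Lib.Helper4.CurveVan.HH_subsingleton_of_dim_le_one' hdim F hF p hp

theorem euler_eq_h0_sub_h1 (hdim : topologicalKrullDim X ≤ 1) (F : X.Modules) (hF : Coh.IsCoh F) :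
    Curv2.euler k X F =
      (Module.finrank k (Coh.HH X F 0) : ℤ) - (Module.finrank k (Coh.HH X F 1) : ℤ) := by
  rw [Groth.Agent.Lib.Helper6.Euler.euler_eq_sum k X F 2
    (fun p hp => HH_subsingleton k X hdim F hF p hp)]
  haveI := HH_subsingleton k X hdim F hF 2 le_rfl
  rw [Finset.sum_range_succ, Finset.sum_range_succ, Finset.sum_range_one,
    Module.finrank_zero_of_subsingleton (M := Coh.HH X F 2)]
  simp
  ring

theorem euler_le_h0 (hdim : topologicalKrullDim X ≤ 1) (F : X.Modules) (hF : Coh.IsCoh F) :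
    Curv2.euler k X F ≤ (Module.finrank k (Coh.HH X F 0) : ℤ) := by
  rw [euler_eq_h0_sub_h1 k X hdim F hF]
  have : (0 : ℤ) ≤ (Module.finrank k (Coh.HH X F 1) : ℤ) := Int.natCast_nonneg _
  linarith

omit [IsProper (X ↘ (Spec (CommRingCat.of k)))] in
theorem HHlin_injective_of_mono {F E : X.Modules} (i : F ⟶ E) [Mono i] :
    Function.Injective (Canon.HHlin k i 0) :=
  Groth.Agent.Lib.Helper6.Euler.injective_f_zero k (Groth.Agent.Lib.Helper4.Dev.sesOfMono i)
    (Groth.Agent.Lib.Helper4.Dev.sesOfMono_shortExact i)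

theorem h0_le_of_mono {F E : X.Modules} (i : F ⟶ E) [Mono i] (hE : Coh.IsCoh E) :
    Module.finrank k (Coh.HH X F 0) ≤ Module.finrank k (Coh.HH X E 0) := by
  haveI : Module.Finite k (Coh.HH X E 0) := Groth.Agent.S0002.result k X E hE 0
  exact LinearMap.finrank_le_finrank_of_injective (HHlin_injective_of_mono k X i)

/-- `deg F ≤ h⁰(E) − n χ(O)` for a coherent submodule `F ⊆ E` -/
theorem deg_le_of_mono (hdim : topologicalKrullDim X ≤ 1) {F E : X.Modules} (i : F ⟶ E) [Mono i]
    (hF : Coh.IsCoh F) (hE : Coh.IsCoh E) (n : ℕ) :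
    Curv2.deg k X F n ≤ (Module.finrank k (Coh.HH X E 0) : ℤ) -
      n * Curv2.euler k X (Coh.structureModule X) := by
  unfold Curv2.deg
  have h1 := euler_le_h0 k X hdim F hF
  have h2 : (Module.finrank k (Coh.HH X F 0) : ℤ) ≤ (Module.finrank k (Coh.HH X E 0) : ℤ) := by
    exact_mod_cast h0_le_of_mono k X i hE
  linarith

omit [IsProper (X ↘ (Spec (CommRingCat.of k)))] in
/-- the rank of a locally free submodule is at most the rank of the ambient locally free module -/
theorem rank_le_of_mono [Nonempty X] {F E : X.Modules} (i : F ⟶ E) [Mono i] (r' r : ℕ)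
    (hF : FlatMod.IsFinLocFreeOfRank r' F) (hE : FlatMod.IsFinLocFreeOfRank r E) : r' ≤ r := by
  obtain ⟨x⟩ := (inferInstance : Nonempty X)
  obtain ⟨-, -, h3⟩ := Groth.Agent.Lib.Helper4.KTensor.stalk_of_isFinLocFreeOfRank F r' hF x
  obtain ⟨-, g2, g3⟩ := Groth.Agent.Lib.Helper4.KTensor.stalk_of_isFinLocFreeOfRank E r hE x
  haveI := g2
  have h := LinearMap.finrank_le_finrank_of_injective
    (Groth.Agent.Lib.Helper4.Dev.stalkL_injective_of_mono i x)
  rwa [h3, g3] at h

/-- `1 ≤ h⁰(O_X)` on a nonempty proper `k`-scheme -/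
theorem one_le_h0_structure [Nonempty X] :
    1 ≤ Module.finrank k (Coh.HH X (Coh.structureModule X) 0) := by
  haveI : Module.Finite k (Coh.HH X (Coh.structureModule X) 0) :=
    Groth.Agent.S0002.result k X _ (Groth.Agent.Lib.Helper4.Dev.isCoh_structureModule X) 0
  haveI : Nontrivial (Coh.HH X (Coh.structureModule X) 0) := by
    obtain ⟨x₀⟩ := (inferInstance : Nonempty X)
    haveI : Nonempty (⊤ : X.Opens) := ⟨⟨x₀, trivial⟩⟩
    haveI : Nontrivial ((Coh.toAb (Coh.structureModule X)).obj.obj (op ⊤)) :=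
      inferInstanceAs (Nontrivial Γ(X, ⊤))
    exact (Sheaf.H.equiv₀ (Coh.toAb (Coh.structureModule X)) Limits.isTerminalTop).toEquiv.nontrivial
  exact Module.finrank_pos

omit [IsProper (X ↘ (Spec (CommRingCat.of k)))] in
/-- a nonzero `H⁰` gives a nonzero morphism `O ⟶ L` -/
theorem exists_hom_ne_zero (L : X.Modules) (h : 0 < Module.finrank k (Coh.HH X L 0)) :
    ∃ s : Coh.structureModule X ⟶ L, s ≠ 0 := by
  haveI : Nontrivial (Coh.HH X L 0) := by
    by_contra hn
    rw [not_nontrivial_iff_subsingleton] at hn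
    rw [Module.finrank_zero_of_subsingleton] at h
    exact lt_irrefl _ h
  obtain ⟨x, hx⟩ := exists_ne (0 : Coh.HH X L 0)
  let t : Γ(L, ⊤) := Sheaf.H.equiv₀ (Coh.toAb L) Limits.isTerminalTop x
  have ht : t ≠ 0 :=
    (AddEquiv.map_ne_zero_iff (Sheaf.H.equiv₀ (Coh.toAb L) Limits.isTerminalTop)).2 hx
  let e : (Coh.structureModule X ⟶ L) ≃+ Γ(L, ⊤) :=
    Groth.Agent.Lib.Helper21.UnitHom.unitHomAddEquiv (R := X.ringCatSheaf)
      (Limits.isTerminalTop (α := X.Opens)) L
  exact ⟨e.symm t, (AddEquiv.map_ne_zero_iff e.symm).2 ht⟩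

/-- **S18774**-type bound: `deg F ≤ r' (h⁰(E) + g − 1)` for a coherent submodule `F ⊆ E` -/
theorem deg_le_mul (hdim : topologicalKrullDim X ≤ 1) [Nonempty X] {F E : X.Modules} (i : F ⟶ E) [Mono i]
    (hF : Coh.IsCoh F) (hE : Coh.IsCoh E) (r' : ℕ) (hr' : 0 < r') :
    Curv2.deg k X F r' ≤ (r' : ℤ) * ((Module.finrank k (Coh.HH X E 0) : ℤ) +
      (Curv2.genus k X : ℤ) - 1) := by
  have h1 := deg_le_of_mono k X hdim i hF hE r'
  have h2 := euler_eq_h0_sub_h1 k X hdim _ (Groth.Agent.Lib.Helper4.Dev.isCoh_structureModule X)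
  have h3 : (1 : ℤ) ≤ (Module.finrank k (Coh.HH X (Coh.structureModule X) 0) : ℤ) := by
    exact_mod_cast one_le_h0_structure k X
  have h4 : (Curv2.genus k X : ℤ) = (Module.finrank k (Coh.HH X (Coh.structureModule X) 1) : ℤ) := rfl
  have h5 : (0 : ℤ) ≤ (Module.finrank k (Coh.HH X E 0) : ℤ) := Int.natCast_nonneg _
  have h6 : (1 : ℤ) ≤ (r' : ℤ) := by exact_mod_cast hr'
  rw [h2] at h1
  rw [h4]
  nlinarith [mul_nonneg (sub_nonneg.2 h6) h5, mul_nonneg (le_trans zero_le_one h6) (sub_nonneg.2 h3)]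

theorem nonempty_of_dim_eq_one {α : Type*} [TopologicalSpace α] (h : topologicalKrullDim α = 1) :
    Nonempty α := by
  by_contra hne
  rw [not_nonempty_iff] at hne
  haveI : IsEmpty (IrreducibleCloseds α) :=
    ⟨fun C => by obtain ⟨x, _⟩ := C.2.nonempty; exact hne.elim x⟩
  rw [topologicalKrullDim, Order.krullDim_eq_bot] at h
  exact absurd h (by simp)

/-- **S18774** -/
theorem deg_le_mul_of_dim_eq_one (hdim : topologicalKrullDim X = 1)
    (E : X.Modules) (hE : FlatMod.IsFinLocFree E) (F : X.Modules) (r' : ℕ) (hr' : 0 < r')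
    (hF : FlatMod.IsFinLocFreeOfRank r' F) (i : F ⟶ E) [Mono i] :
    Curv2.deg k X F r' ≤ (r' : ℤ) * ((Module.finrank k (Coh.HH X E 0) : ℤ) +
      (Curv2.genus k X : ℤ) - 1) := by
  haveI : Nonempty X := nonempty_of_dim_eq_one hdim
  exact deg_le_mul k X hdim.le i
    (Groth.Agent.Lib.Helper4.DegAdd.isCoh_of_isFinLocFreeOfRank F r' hF)
    (Groth.Agent.Lib.Helper21.HZB.isCoh_of_isFinLocFree E hE) r' hr'

end Field

section Curve
variable (k : Type u) [Field k] (X : Scheme.{u}) [X.Over (Spec (CommRingCat.of k))]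
  [IsIntegral X] [IsProper (X ↘ (Spec (CommRingCat.of k)))]

open Groth.Agent.Lib.Helper6.CurveDeg Groth.Agent.Lib.Helper4.Dev Groth.Agent.Lib.Helper17.HHLes

/-- **S1635** -/
theorem genus_zero_h0_h1 (hdim : topologicalKrullDim X = 1)
    (h0 : Module.finrank k (Coh.HH X (Coh.structureModule X) 0) = 1) (hg : Curv2.genus k X = 0)
    (L : X.Modules) (hL : PicF.IsInvertible L) (d : ℕ) (hd : 0 < d) (hdeg : Curv2.deg k X L 1 = d) :
    Module.finrank k (Coh.HH X L 0) = d + 1 ∧ Subsingleton (Coh.HH X L 1) := by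
  haveI : IsLocallyNoetherian X :=
    LocallyOfFiniteType.isLocallyNoetherian (X ↘ (Spec (CommRingCat.of k)))
  have cO := isCoh_structureModule X
  have cL := isCoh_of_isInvertible L hL
  have hO := Groth.Agent.Lib.Helper23.TensorUnit.isInvertible_structureModule X
  have eO := euler_eq_h0_sub_h1 k X hdim.le _ cO
  have eL := euler_eq_h0_sub_h1 k X hdim.le L cL
  have hg' : Module.finrank k (Coh.HH X (Coh.structureModule X) 1) = 0 := hg
  have hχ : Curv2.euler k X L = d + 1 := by
    unfold Curv2.deg at hdeg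
    rw [eO, h0, hg'] at hdeg
    push_cast at hdeg
    linarith
  have hpos : 0 < Module.finrank k (Coh.HH X L 0) := by
    have : (0 : ℤ) ≤ (Module.finrank k (Coh.HH X L 1) : ℤ) := Int.natCast_nonneg _
    zify
    linarith
  obtain ⟨s, hs⟩ := exists_hom_ne_zero k X L hpos
  haveI : Mono s := mono_of_ne_zero hO hL s hs
  have cQ : Coh.IsCoh (cokernel s) := isCoh_cokernel s cO cL
  have hZ : IsClosed (CohB1.support (cokernel s)) := Groth.Agent.S0020.result X _ cQ.2
  have hη : genericPoint X ∉ CohB1.support (cokernel s) :=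
    fun h => h (subsingleton_stalk_cokernel hO hL s hs)
  have hsupp : topologicalKrullDim (CohB1.support (cokernel s)) ≤ 0 :=
    topologicalKrullDim_le_zero_of_ne_univ hdim.le _ hZ (fun h => hη (h ▸ Set.mem_univ _))
  have vQ : Subsingleton (Coh.HH X (cokernel s) 1) := Groth.Agent.S1526.result k X _ cQ hsupp 1 le_rfl
  haveI : Module.Finite k (Coh.HH X (Coh.structureModule X) 1) := Groth.Agent.S0002.result k X _ cO 1
  have vO : Subsingleton (Coh.HH X (Coh.structureModule X) 1) := Module.finrank_zero_iff.1 hg'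
  have key : ∀ a : Coh.HH X L 1, a = 0 := by
    intro a
    obtain ⟨w, hw⟩ := exact₂ (sesOfMono s) (sesOfMono_shortExact s) 1 a (vQ.allEq _ _)
    have hw0 : w = 0 := vO.allEq _ _
    rw [← hw, hw0]
    exact map_zero _
  have vL : Subsingleton (Coh.HH X L 1) := ⟨fun a b => (key a).trans (key b).symm⟩
  refine ⟨?_, vL⟩
  rw [Module.finrank_zero_of_subsingleton (M := Coh.HH X L 1)] at eL
  push_cast at eL
  zify
  linarith

/-- **S6540** -/
theorem genus_zero_deg_zero_trivial (hdim : topologicalKrullDim X = 1)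
    (h0 : Module.finrank k (Coh.HH X (Coh.structureModule X) 0) = 1) (hg : Curv2.genus k X = 0)
    (L : X.Modules) (hL : PicF.IsInvertible L) (hdeg : Curv2.deg k X L 1 = 0) :
    Nonempty (L ≅ Coh.structureModule X) := by
  haveI : IsLocallyNoetherian X :=
    LocallyOfFiniteType.isLocallyNoetherian (X ↘ (Spec (CommRingCat.of k)))
  have cO := isCoh_structureModule X
  have cL := isCoh_of_isInvertible L hL
  have eO := euler_eq_h0_sub_h1 k X hdim.le _ cO
  have eL := euler_eq_h0_sub_h1 k X hdim.le L cL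
  have hg' : Module.finrank k (Coh.HH X (Coh.structureModule X) 1) = 0 := hg
  have hχ : Curv2.euler k X L = 1 := by
    unfold Curv2.deg at hdeg
    rw [eO, h0, hg'] at hdeg
    push_cast at hdeg
    linarith
  have hpos : 0 < Module.finrank k (Coh.HH X L 0) := by
    have : (0 : ℤ) ≤ (Module.finrank k (Coh.HH X L 1) : ℤ) := Int.natCast_nonneg _
    zify
    linarith
  obtain ⟨s, hs⟩ := exists_hom_ne_zero k X L hpos
  haveI := iso_of_deg_le_zero k X hdim L hL s hs hdeg.le
  exact ⟨(asIso s).symm⟩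

omit [IsIntegral X] in
/-- **S11826** -/
theorem deg_invertible_sub_bounded (hdim : topologicalKrullDim X = 1) (r : ℕ) (E : X.Modules)
    (hE : FlatMod.IsFinLocFreeOfRank r E) :
    ∃ N : ℤ, ∀ (M : X.Modules) (i : M ⟶ E), Mono i → PicF.IsInvertible M → Curv2.deg k X M 1 ≤ N := by
  refine ⟨(Module.finrank k (Coh.HH X E 0) : ℤ) - Curv2.euler k X (Coh.structureModule X), ?_⟩
  intro M i hi hM
  have h := deg_le_of_mono k X hdim.le i (isCoh_of_isInvertible M hM)
    (Groth.Agent.Lib.Helper4.DegAdd.isCoh_of_isFinLocFreeOfRank E r hE) 1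
  simpa using h

/-- **S15331** -/
theorem deg_locFree_sub_bounded (hdim : topologicalKrullDim X = 1) (r : ℕ) (E : X.Modules)
    (hE : FlatMod.IsFinLocFreeOfRank r E) :
    ∃ N : ℤ, ∀ (F : X.Modules) (r' : ℕ) (i : F ⟶ E), Mono i → FlatMod.IsFinLocFreeOfRank r' F →
      Curv2.deg k X F r' ≤ N := by
  refine ⟨(Module.finrank k (Coh.HH X E 0) : ℤ) + r * |Curv2.euler k X (Coh.structureModule X)|, ?_⟩
  intro F r' i hi hF
  have h := deg_le_of_mono k X hdim.le i
    (Groth.Agent.Lib.Helper4.DegAdd.isCoh_of_isFinLocFreeOfRank F r' hF)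
    (Groth.Agent.Lib.Helper4.DegAdd.isCoh_of_isFinLocFreeOfRank E r hE) r'
  have hr : (r' : ℤ) ≤ (r : ℤ) := by exact_mod_cast rank_le_of_mono X i r' r hF hE
  have h1 : -((r' : ℤ) * Curv2.euler k X (Coh.structureModule X)) ≤
      (r' : ℤ) * |Curv2.euler k X (Coh.structureModule X)| := by
    rw [← mul_neg]
    exact mul_le_mul_of_nonneg_left (neg_le_abs _) (Int.natCast_nonneg _)
  have h2 : (r' : ℤ) * |Curv2.euler k X (Coh.structureModule X)| ≤
      (r : ℤ) * |Curv2.euler k X (Coh.structureModule X)| :=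
    mul_le_mul_of_nonneg_right hr (abs_nonneg _)
  linarith

end Curve

end Groth.Agent.Lib.Helper4.CurveRR
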