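import Mathlib
import Groth.Agent.Lib.Helper4KTensor
import Groth.Agent.Lib.Helper4CurveChi
import Groth.Agent.Lib.Helper4CurveRR
import Groth.Agent.Lib.Helper6Euler
import Groth.Agent.Lib.Helper23QAffSec
import Groth.Agent.Lib.Helper23AmpleFam2
import Groth.Agent.Lib.Helper27DimDrop

/-!
# Iterated differences of the Euler characteristic (helper12) — Snapper / intersection numbers, part A

For a scheme `X` proper over a field `k`:

* `IsAdd φ`: `φ : X.Modules → ℤ` is isomorphism invariant and additive on short exact sequences of coherent modules.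
* `IsAdd.lift`: the induced homomorphism `K₀(Coh X) → ℤ`.
* `dchi k X l F`: the iterated difference `Σ_{I ⊆ l} (-1)^{|I|} χ(F ⊗ ⊗_{M ∈ I} M)`, defined recursively:
  `dchi [] F = χ(F)`, `dchi (M :: l) F = dchi l F - dchi l (F ⊗ M)`.
* `isAdd_dchi`: `dchi l` is additive when all members of `l` are invertible.
* `dchi_eq_zero`: **vanishing**: if all members of `l` are invertible, `F` is coherent and `dim Supp F < l.length`
  then `dchi l F = 0` (uses helper4's `clSub_tensorMod_sub_mem`).
-/

set_option autoImplicit false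
set_option linter.style.haveILetI false
set_option linter.unusedSectionVars false
universe u
open CategoryTheory CategoryTheory.Limits AlgebraicGeometry TopologicalSpace Opposite

namespace Groth.Agent.Lib.Helper12.Snap

open Groth.Agent.Lib.Helper4.KFilt Groth.Agent.Lib.Helper4.KTensor Groth.Agent.Lib.Helper4.Dev
  Groth.Agent.Lib.Helper17.K0a Groth.Agent.Lib.Helper4.CurveChi

variable {X : Scheme.{u}}

/-- additive, isomorphism invariant functions on coherent modules -/
structure IsAdd (φ : X.Modules → ℤ) : Prop where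
  iso : ∀ {M N : X.Modules}, (M ≅ N) → φ M = φ N
  add : ∀ S : ShortComplex X.Modules, S.ShortExact → Coh.IsCoh S.X₁ → Coh.IsCoh S.X₂ →
    Coh.IsCoh S.X₃ → φ S.X₂ = φ S.X₁ + φ S.X₃

namespace IsAdd

variable {φ ψ : X.Modules → ℤ}

theorem zero [IsLocallyNoetherian X] (hφ : IsAdd φ) {F : X.Modules} (hF : IsZero F) : φ F = 0 := by
  have hc : Coh.IsCoh F := isCoh_of_isZero hF (isCoh_structureModule X)
  let S : ShortComplex X.Modules := ShortComplex.mk (0 : F ⟶ F) (0 : F ⟶ F) (by simp)
  have hS : S.ShortExact :=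
    { exact := ShortComplex.exact_of_isZero_X₂ _ hF
      mono_f := ⟨fun _ _ _ => hF.eq_of_tgt _ _⟩
      epi_g := ⟨fun _ _ _ => hF.eq_of_src _ _⟩ }
  have h := hφ.add S hS hc hc hc
  have h' : φ F = φ F + φ F := h
  omega

theorem sub (hφ : IsAdd φ) (hψ : IsAdd ψ) : IsAdd (fun F => φ F - ψ F) where
  iso e := by rw [hφ.iso e, hψ.iso e]
  add S hS h1 h2 h3 := by
    have a := hφ.add S hS h1 h2 h3
    have b := hψ.add S hS h1 h2 h3
    change φ S.X₂ - ψ S.X₂ = (φ S.X₁ - ψ S.X₁) + (φ S.X₃ - ψ S.X₃)
    omega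

theorem twist (hφ : IsAdd φ) (M : X.Modules) (hM : FlatMod.IsFinLocFreeOfRank 1 M) :
    IsAdd (fun F => φ (CohB1.tensorMod F M)) where
  iso e := hφ.iso ((DCoh.tensorRightMod M).mapIso e)
  add S hS h1 h2 h3 :=
    hφ.add (S.map (DCoh.tensorRightMod M))
      (shortExact_map_tensorRightMod S hS M (isFlat_of_isFinLocFreeOfRank M 1 hM))
      (isCoh_tensorMod_locFree S.X₁ M h1 1 hM) (isCoh_tensorMod_locFree S.X₂ M h2 1 hM)
      (isCoh_tensorMod_locFree S.X₃ M h3 1 hM)

/-- the additive map on the free abelian group -/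
noncomputable def lift₀ (φ : X.Modules → ℤ) : FreeAbelianGroup (Subtype (cohP X)) →+ ℤ :=
  FreeAbelianGroup.lift fun G => φ G.1

theorem lift₀_ker (hφ : IsAdd φ) : KZero.relSub (cohP X) ≤ (lift₀ φ).ker := by
  unfold KZero.relSub
  rw [AddSubgroup.closure_le]
  rintro x ⟨S, h1, h2, h3, hS, rfl⟩
  change lift₀ φ _ = 0
  rw [map_sub, map_sub]
  unfold lift₀
  rw [FreeAbelianGroup.lift_apply_of, FreeAbelianGroup.lift_apply_of, FreeAbelianGroup.lift_apply_of]
  have := hφ.add S hS h1 h2 h3
  simp only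
  omega

/-- the homomorphism `K₀(Coh X) → ℤ` induced by an additive function -/
noncomputable def lift (hφ : IsAdd φ) : KZero.K0sub (cohP X) →+ ℤ :=
  QuotientAddGroup.lift (KZero.relSub (cohP X)) (lift₀ φ) (lift₀_ker hφ)

theorem lift_clSub (hφ : IsAdd φ) (F : X.Modules) (hF : Coh.IsCoh F) :
    hφ.lift (KZero.clSub (cohP X) F) = φ F := by
  rw [clSub_of_prop (cohP X) hF]
  change lift₀ φ _ = _
  unfold lift₀
  rw [FreeAbelianGroup.lift_apply_of]

theorem lift_eq_zero_of_mem_lowSub [IsNoetherian X] (hφ : IsAdd φ) (r : ℕ)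
    (h : ∀ G : X.Modules, Coh.IsCoh G →
      topologicalKrullDim ↥(CohB1.support G) < (r : WithBot ℕ∞) → φ G = 0)
    (x : KZero.K0sub (cohP X)) (hx : x ∈ lowSub (X := X) r) : hφ.lift x = 0 := by
  have hle : lowSub (X := X) r ≤ hφ.lift.ker := by
    unfold lowSub
    rw [AddSubgroup.closure_le]
    rintro c ⟨G, hG, hdim, rfl⟩
    change hφ.lift _ = 0
    rw [lift_clSub hφ G hG]
    exact h G hG hdim
  exact hle hx

end IsAdd

section Proper

variable (k : Type u) [Field k] (X : Scheme.{u}) [X.Over (Spec (CommRingCat.of k))]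
  [IsProper (X ↘ (Spec (CommRingCat.of k)))]

theorem isAdd_euler : IsAdd (Curv2.euler k X) where
  iso e := euler_congr_iso k e
  add S hS h1 h2 h3 := Groth.Agent.Lib.Helper6.Euler.euler_additive k X S hS h1 h2 h3

/-- iterated difference of the Euler characteristic along a list of modules -/
noncomputable def dchi : List X.Modules → X.Modules → ℤ
  | [], F => Curv2.euler k X F
  | M :: l, F => dchi l F - dchi l (CohB1.tensorMod F M)

@[simp] theorem dchi_nil (F : X.Modules) : dchi k X [] F = Curv2.euler k X F := rfl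

@[simp] theorem dchi_cons (M : X.Modules) (l : List X.Modules) (F : X.Modules) :
    dchi k X (M :: l) F = dchi k X l F - dchi k X l (CohB1.tensorMod F M) := rfl

theorem isAdd_dchi (l : List X.Modules) (hl : ∀ M ∈ l, PicF.IsInvertible M) : IsAdd (dchi k X l) := by
  induction l with
  | nil => exact isAdd_euler k X
  | cons M l ih =>
    have hM : FlatMod.IsFinLocFreeOfRank 1 M :=
      Groth.Agent.Lib.Helper23.SecTw.isFinLocFreeOfRank_one_of_isInvertible M (hl M (List.mem_cons_self ..))
    have hl' := ih (fun N hN => hl N (List.mem_cons_of_mem _ hN))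
    exact hl'.sub (hl'.twist M hM)

theorem lt_succ_iff_le (a : WithBot ℕ∞) (r : ℕ) :
    a < ((r + 1 : ℕ) : WithBot ℕ∞) ↔ a ≤ (r : WithBot ℕ∞) := by
  induction a using WithBot.recBotCoe with
  | bot => simp
  | coe e =>
    have h1 : (((r + 1 : ℕ) : ℕ∞) : WithBot ℕ∞) = ((r + 1 : ℕ) : WithBot ℕ∞) := rfl
    have h2 : (((r : ℕ) : ℕ∞) : WithBot ℕ∞) = ((r : ℕ) : WithBot ℕ∞) := rfl
    rw [← h1, ← h2, WithBot.coe_lt_coe, WithBot.coe_le_coe]
    induction e using ENat.recTopCoe with
    | top => simp
    | coe n => exact_mod_cast Nat.lt_succ_iff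

/-- **Vanishing**: the `s`-fold iterated difference of `χ` vanishes on coherent modules whose support has
dimension `< s`. -/
theorem dchi_eq_zero (l : List X.Modules) (hl : ∀ M ∈ l, PicF.IsInvertible M) (F : X.Modules)
    (hF : Coh.IsCoh F) (hdim : topologicalKrullDim ↥(CohB1.support F) < (l.length : WithBot ℕ∞)) :
    dchi k X l F = 0 := by
  haveI : IsNoetherian X := Groth.Agent.Lib.Helper4.CurveRR.isNoetherian_of_proper k X
  induction l generalizing F with
  | nil =>
    have hdim' : topologicalKrullDim ↥(CohB1.support F) < 0 := by simpa using hdim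
    haveI := Groth.Agent.Lib.Helper27DimDrop.eq_empty_of_dim_lt_zero hdim'
    have hs : CohB1.support F = ∅ := Set.isEmpty_coe_sort.1 inferInstance
    exact (isAdd_euler k X).zero (isZero_of_support_eq_empty F hs)
  | cons M l ih =>
    have hlinv : ∀ N ∈ l, PicF.IsInvertible N := fun N hN => hl N (List.mem_cons_of_mem _ hN)
    have hM : FlatMod.IsFinLocFreeOfRank 1 M :=
      Groth.Agent.Lib.Helper23.SecTw.isFinLocFreeOfRank_one_of_isInvertible M (hl M (List.mem_cons_self ..))
    have hφ := isAdd_dchi k X l hlinv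
    have hr : topologicalKrullDim ↥(CohB1.support F) ≤ (l.length : WithBot ℕ∞) := by
      rw [← lt_succ_iff_le]
      simpa using hdim
    have hmem := clSub_tensorMod_sub_mem M 1 hM F hF l.length hr
    have hFM : Coh.IsCoh (CohB1.tensorMod F M) := isCoh_tensorMod_locFree F M hF 1 hM
    have hMF : Coh.IsCoh (CohB1.tensorMod M F) :=
      isCoh_of_iso (Groth.Agent.Lib.Helper23.AmpleFam2.tensorBraid F M) hFM
    have hz := hφ.lift_eq_zero_of_mem_lowSub l.length (fun G hG hd => ih hlinv G hG hd) _ hmem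
    rw [map_sub, one_smul, hφ.lift_clSub _ hMF, hφ.lift_clSub _ hF,
      hφ.iso (Groth.Agent.Lib.Helper23.AmpleFam2.tensorBraid M F)] at hz
    rw [dchi_cons]
    omega

end Proper

end Groth.Agent.Lib.Helper12.Snap
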