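import Mathlib
import Groth.Prelude.Def_CohTop
import Groth.Agent.Lib.Helper16Flasque

/-!
# The constant sheaf on an irreducible space (helper16)

`cS X A` : the sheaf `U ↦ (U nonempty → A)`; `constIso X A : CohTop.const X A ≅ cS X A`;
`const_flasque` : the constant sheaf on an irreducible space is flasque; `isFlasque_of_iso`.
-/

set_option autoImplicit false
universe u
open CategoryTheory TopologicalSpace Opposite CategoryTheory.Limits

namespace Groth.Agent.Lib.Helper16.IrredConst


variable {X : TopCat.{u}}

/-- The presheaf `U ↦ (U nonempty → A)`. -/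
noncomputable def cP (X : TopCat.{u}) (A : Type u) [AddCommGroup A] : (Opens X)ᵒᵖ ⥤ AddCommGrpCat.{u} where
  obj U := AddCommGrpCat.of (PLift ((U.unop : Set X).Nonempty) → A)
  map {U V} i := AddCommGrpCat.ofHom
    { toFun := fun s h => s ⟨h.down.mono i.unop.le⟩
      map_zero' := rfl
      map_add' := fun _ _ => rfl }
  map_id _ := rfl
  map_comp _ _ := rfl

lemma cP_isSheaf [IrreducibleSpace X] (A : Type u) [AddCommGroup A] :
    TopCat.Presheaf.IsSheaf (cP X A) := by
  rw [TopCat.Presheaf.isSheaf_iff_isSheaf_comp (forget AddCommGrpCat.{u})]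
  refine TopCat.Presheaf.isSheaf_of_isSheafUniqueGluing_types _ (fun ι U sf hsf => ?_)
  -- sf i : PLift (U i nonempty) → A
  have key : ∀ (i j : ι) (hi : (U i : Set X).Nonempty) (hj : (U j : Set X).Nonempty),
      sf i ⟨hi⟩ = sf j ⟨hj⟩ := by
    intro i j hi hj
    have hij : ((U i ⊓ U j : Opens X) : Set X).Nonempty :=
      nonempty_preirreducible_inter (U i).isOpen (U j).isOpen hi hj
    have := congrFun (hsf i j) ⟨hij⟩
    exact this
  refine ⟨fun h => ?_, ?_, ?_⟩
  · -- the glued section
    have hne : ∃ i, (U i : Set X).Nonempty := by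
      obtain ⟨x, hx⟩ := h.down
      obtain ⟨i, hi⟩ := Opens.mem_iSup.mp hx
      exact ⟨i, x, hi⟩
    exact sf hne.choose ⟨hne.choose_spec⟩
  · intro i
    funext h
    exact key _ _ _ _
  · intro t ht
    funext h
    have hne : ∃ i, (U i : Set X).Nonempty := by
      obtain ⟨x, hx⟩ := h.down
      obtain ⟨i, hi⟩ := Opens.mem_iSup.mp hx
      exact ⟨i, x, hi⟩
    obtain ⟨i, hi⟩ := hne
    have := congrFun (ht i) ⟨hi⟩
    refine Eq.trans ?_ (this.trans (key _ _ _ _))
    rfl

/-- the sheaf `C_A`. -/
noncomputable def cS (X : TopCat.{u}) [IrreducibleSpace X] (A : Type u) [AddCommGroup A] : CohTop.Ab X :=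
  ⟨cP X A, cP_isSheaf A⟩

lemma top_nonempty [IrreducibleSpace X] : ((⊤ : Opens X) : Set X).Nonempty := by
  obtain ⟨x⟩ := (inferInstance : Nonempty X)
  exact ⟨x, trivial⟩

instance cS_flasque [IrreducibleSpace X] (A : Type u) [AddCommGroup A] :
    TopCat.Sheaf.IsFlasque (cS X A) := by
  constructor
  intro U V i
  rw [AddCommGrpCat.epi_iff_surjective]
  intro t
  classical
  refine ⟨fun _ => if hV : (V.unop : Set X).Nonempty then t ⟨hV⟩ else 0, ?_⟩
  funext h
  change (if hV : (V.unop : Set X).Nonempty then t ⟨hV⟩ else 0) = t h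
  rw [dif_pos h.down]

/-- the adjunction constant sheaf ⊣ global sections. -/
noncomputable abbrev adj (X : TopCat.{u}) :=
  constantSheafAdj (Opens.grothendieckTopology X) AddCommGrpCat.{u} (T := (⊤ : Opens X)) isTerminalTop

/-- `A → C_A(⊤)` -/
noncomputable def a₀ (X : TopCat.{u}) [IrreducibleSpace X] (A : Type u) [AddCommGroup A] :
    AddCommGrpCat.of A ⟶ ((sheafSections (Opens.grothendieckTopology X) AddCommGrpCat.{u}).obj (op ⊤)).obj (cS X A) :=
  AddCommGrpCat.ofHom
    { toFun := fun a _ => a
      map_zero' := rfl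
      map_add' := fun _ _ => rfl }

noncomputable def α (X : TopCat.{u}) [IrreducibleSpace X] (A : Type u) [AddCommGroup A] :
    CohTop.const X A ⟶ cS X A :=
  ((adj X).homEquiv _ _).symm (a₀ X A)

lemma subsingleton_of_empty (G : CohTop.Ab X) {U : Opens X} (h : ¬ (U : Set X).Nonempty) :
    Subsingleton (ToType (G.obj.obj (op U))) := by
  have h' : U = ⊥ := by
    ext x
    simp only [Opens.coe_bot, Set.mem_empty_iff_false, iff_false]
    exact fun hx => h ⟨x, hx⟩
  have hT : IsTerminal (G.obj.obj (op U)) := TopCat.Sheaf.isTerminalOfEqEmpty G h'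
  have hZ : IsZero (G.obj.obj (op U)) :=
    IsZero.of_iso (isZero_zero _) (hT.uniqueUpToIso HasZeroObject.zeroIsTerminal)
  exact AddCommGrpCat.subsingleton_of_isZero hZ

open Classical in
noncomputable def β (X : TopCat.{u}) [IrreducibleSpace X] (A : Type u) [AddCommGroup A] :
    cS X A ⟶ CohTop.const X A :=
  ⟨{ app := fun U => AddCommGrpCat.ofHom
        { toFun := fun s => if h : (U.unop : Set X).Nonempty then
              (CohTop.const X A).obj.map (homOfLE (le_top : U.unop ≤ ⊤)).op
                (((adj X).unit.app (AddCommGrpCat.of A)) (s ⟨h⟩))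
            else 0
          map_zero' := by
            by_cases h : (U.unop : Set X).Nonempty
            · rw [dif_pos h]
              change (CohTop.const X A).obj.map _ (((adj X).unit.app (AddCommGrpCat.of A)) 0) = 0
              rw [map_zero, map_zero]
            · rw [dif_neg h]
          map_add' := fun s t => by
            by_cases h : (U.unop : Set X).Nonempty
            · rw [dif_pos h, dif_pos h, dif_pos h]
              change (CohTop.const X A).obj.map _ (((adj X).unit.app (AddCommGrpCat.of A)) (s ⟨h⟩ + t ⟨h⟩)) = _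
              rw [map_add, map_add]
            · rw [dif_neg h, dif_neg h, dif_neg h, add_zero] }
     naturality := fun U V i => by
        ext s
        by_cases hV : (V.unop : Set X).Nonempty
        · have hU : (U.unop : Set X).Nonempty := hV.mono i.unop.le
          change (if h : (V.unop : Set X).Nonempty then
              (CohTop.const X A).obj.map (homOfLE (le_top : V.unop ≤ ⊤)).op
                (((adj X).unit.app (AddCommGrpCat.of A)) (((cS X A).obj.map i s) ⟨h⟩))
            else 0) = (CohTop.const X A).obj.map i (if h : (U.unop : Set X).Nonempty then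
              (CohTop.const X A).obj.map (homOfLE (le_top : U.unop ≤ ⊤)).op
                (((adj X).unit.app (AddCommGrpCat.of A)) (s ⟨h⟩))
            else 0)
          rw [dif_pos hV, dif_pos hU]
          have e : ((cS X A).obj.map i s) ⟨hV⟩ = s ⟨hU⟩ := rfl
          rw [e]
          have e2 := ConcreteCategory.congr_hom ((CohTop.const X A).obj.map_comp
            (homOfLE (le_top : U.unop ≤ ⊤)).op i) (((adj X).unit.app (AddCommGrpCat.of A)) (s ⟨hU⟩))
          exact e2
        · haveI := subsingleton_of_empty (CohTop.const X A) hV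
          exact Subsingleton.elim _ _ }⟩

lemma unit_α (X : TopCat.{u}) [IrreducibleSpace X] (A : Type u) [AddCommGroup A] :
    (adj X).unit.app (AddCommGrpCat.of A) ≫
      ((sheafSections (Opens.grothendieckTopology X) AddCommGrpCat.{u}).obj (op ⊤)).map (α X A) = a₀ X A := by
  have := ((adj X).homEquiv (AddCommGrpCat.of A) (cS X A)).apply_symm_apply (a₀ X A)
  exact (Adjunction.homEquiv_unit (adj X) _ _ _).symm.trans this

open Classical in
lemma α_β (X : TopCat.{u}) [IrreducibleSpace X] (A : Type u) [AddCommGroup A] :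
    α X A ≫ β X A = 𝟙 _ := by
  apply ((adj X).homEquiv _ _).injective
  rw [Adjunction.homEquiv_naturality_right, Adjunction.homEquiv_id]
  have h1 : ((adj X).homEquiv (AddCommGrpCat.of A) (cS X A)) (α X A) = a₀ X A :=
    ((adj X).homEquiv (AddCommGrpCat.of A) (cS X A)).apply_symm_apply (a₀ X A)
  rw [h1]
  ext a
  change (if h : ((⊤ : Opens X) : Set X).Nonempty then
      (CohTop.const X A).obj.map (homOfLE (le_top : (⊤ : Opens X) ≤ ⊤)).op
        (((adj X).unit.app (AddCommGrpCat.of A)) a)
      else 0) = _
  rw [dif_pos top_nonempty]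
  have : (homOfLE (le_top : (⊤ : Opens X) ≤ ⊤)).op = 𝟙 (op (⊤ : Opens X)) := rfl
  rw [this, (CohTop.const X A).obj.map_id]
  rfl

open Classical in
lemma β_α (X : TopCat.{u}) [IrreducibleSpace X] (A : Type u) [AddCommGroup A] :
    β X A ≫ α X A = 𝟙 _ := by
  apply Sheaf.hom_ext
  ext U s
  by_cases hU : (U.unop : Set X).Nonempty
  · change (α X A).hom.app U (if h : (U.unop : Set X).Nonempty then
              (CohTop.const X A).obj.map (homOfLE (le_top : U.unop ≤ ⊤)).op
                (((adj X).unit.app (AddCommGrpCat.of A)) (s ⟨h⟩))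
            else 0) = s
    rw [dif_pos hU]
    have nat := ConcreteCategory.congr_hom ((α X A).hom.naturality (homOfLE (le_top : U.unop ≤ ⊤)).op)
      (((adj X).unit.app (AddCommGrpCat.of A)) (s ⟨hU⟩))
    refine nat.trans ?_
    have h2 := ConcreteCategory.congr_hom (unit_α X A) (s ⟨hU⟩)
    change (cS X A).obj.map (homOfLE (le_top : U.unop ≤ ⊤)).op
      ((α X A).hom.app (op ⊤) (((adj X).unit.app (AddCommGrpCat.of A)) (s ⟨hU⟩))) = s
    have h3 : (α X A).hom.app (op ⊤) (((adj X).unit.app (AddCommGrpCat.of A)) (s ⟨hU⟩)) =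
        a₀ X A (s ⟨hU⟩) := h2
    rw [h3]
    funext h
    rfl
  · haveI := subsingleton_of_empty (cS X A) hU
    exact Subsingleton.elim _ _

noncomputable def constIso (X : TopCat.{u}) [IrreducibleSpace X] (A : Type u) [AddCommGroup A] :
    CohTop.const X A ≅ cS X A where
  hom := α X A
  inv := β X A
  hom_inv_id := α_β X A
  inv_hom_id := β_α X A

lemma isFlasque_of_iso {F G : CohTop.Ab X} (e : F ≅ G) [TopCat.Sheaf.IsFlasque G] :
    TopCat.Sheaf.IsFlasque F := by
  constructor
  intro U V i
  have h : F.obj.map i = e.hom.hom.app U ≫ G.obj.map i ≫ e.inv.hom.app V := by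
    rw [← e.hom.hom.naturality_assoc]
    have : e.hom.hom.app V ≫ e.inv.hom.app V = 𝟙 _ := by
      rw [← NatTrans.comp_app, ← ObjectProperty.FullSubcategory.comp_hom, e.hom_inv_id]
      rfl
    rw [this, Category.comp_id]
  haveI : IsIso (e.hom.hom.app U) :=
    ⟨e.inv.hom.app U, by
      rw [← NatTrans.comp_app, ← ObjectProperty.FullSubcategory.comp_hom, e.hom_inv_id]; rfl, by
      rw [← NatTrans.comp_app, ← ObjectProperty.FullSubcategory.comp_hom, e.inv_hom_id]; rfl⟩
  haveI : IsIso (e.inv.hom.app V) :=
    ⟨e.hom.hom.app V, by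
      rw [← NatTrans.comp_app, ← ObjectProperty.FullSubcategory.comp_hom, e.inv_hom_id]; rfl, by
      rw [← NatTrans.comp_app, ← ObjectProperty.FullSubcategory.comp_hom, e.hom_inv_id]; rfl⟩
  haveI : Epi (G.obj.map i) := TopCat.Presheaf.IsFlasque.epi i
  rw [h]
  infer_instance

instance const_flasque (X : TopCat.{u}) [IrreducibleSpace X] (A : Type u) [AddCommGroup A] :
    TopCat.Sheaf.IsFlasque (CohTop.const X A) :=
  isFlasque_of_iso (constIso X A)


end Groth.Agent.Lib.Helper16.IrredConst
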