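import Mathlib

/-!
# Grothendieck vanishing, part A (helper19): abstract tools

* `Ext` vanishing along short exact sequences (`ext_mid`, `ext_right`, `ext_left`), isomorphisms, zero objects.
* `zorn_all`: in a Grothendieck abelian category, a property of objects which is stable under
  isomorphisms, extensions, directed colimits and which holds for all quotients of a "generating"
  family holds for all objects (Zorn's lemma on subobjects).
-/

set_option autoImplicit false
universe w v u
open CategoryTheory CategoryTheory.Limits CategoryTheory.Abelian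

namespace Groth.Agent.Lib.Helper19GV

section ExtLemmas

variable {C : Type u} [Category.{v} C] [Abelian C] [HasExt.{w} C] (A : C)

lemma ext_mid {S : ShortComplex C} (hS : S.ShortExact) (n : ℕ)
    (h1 : Subsingleton (Ext.{w} A S.X₁ n)) (h3 : Subsingleton (Ext.{w} A S.X₃ n)) :
    Subsingleton (Ext.{w} A S.X₂ n) := by
  refine subsingleton_of_forall_eq 0 (fun x => ?_)
  obtain ⟨x₁, hx₁⟩ := Ext.covariant_sequence_exact₂ A hS x (Subsingleton.elim _ _)
  rw [← hx₁, Subsingleton.elim x₁ 0, Ext.zero_comp]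

lemma ext_right {S : ShortComplex C} (hS : S.ShortExact) (n : ℕ)
    (h2 : Subsingleton (Ext.{w} A S.X₂ n)) (h1 : Subsingleton (Ext.{w} A S.X₁ (n + 1))) :
    Subsingleton (Ext.{w} A S.X₃ n) := by
  refine subsingleton_of_forall_eq 0 (fun x => ?_)
  obtain ⟨x₂, hx₂⟩ := Ext.covariant_sequence_exact₃ A hS x rfl (Subsingleton.elim _ _)
  rw [← hx₂, Subsingleton.elim x₂ 0, Ext.zero_comp]

lemma ext_left {S : ShortComplex C} (hS : S.ShortExact) (n : ℕ)
    (h3 : Subsingleton (Ext.{w} A S.X₃ n)) (h2 : Subsingleton (Ext.{w} A S.X₂ (n + 1))) :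
    Subsingleton (Ext.{w} A S.X₁ (n + 1)) := by
  refine subsingleton_of_forall_eq 0 (fun x => ?_)
  obtain ⟨x₃, hx₃⟩ := Ext.covariant_sequence_exact₁ A hS x (Subsingleton.elim _ _) (n₀ := n) rfl
  rw [← hx₃, Subsingleton.elim x₃ 0, Ext.zero_comp]

lemma ext_iso {Y Y' : C} (e : Y ≅ Y') (n : ℕ) (h : Subsingleton (Ext.{w} A Y n)) :
    Subsingleton (Ext.{w} A Y' n) := by
  refine subsingleton_of_forall_eq 0 (fun x => ?_)
  have h1 : x = (x.comp (Ext.mk₀ e.inv) (add_zero n)).comp (Ext.mk₀ e.hom) (add_zero n) := by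
    rw [Ext.comp_assoc_of_third_deg_zero, Ext.mk₀_comp_mk₀, e.inv_hom_id, Ext.comp_mk₀_id]
  rw [h1, Subsingleton.elim (x.comp (Ext.mk₀ e.inv) (add_zero n)) 0, Ext.zero_comp]

lemma ext_zero {Y : C} (hY : IsZero Y) (n : ℕ) : Subsingleton (Ext.{w} A Y n) := by
  refine subsingleton_of_forall_eq 0 (fun x => ?_)
  have h1 : x = x.comp (Ext.mk₀ (𝟙 Y)) (add_zero n) := (Ext.comp_mk₀_id x).symm
  rw [h1, hY.eq_of_src (𝟙 Y) 0, Ext.mk₀_zero, Ext.comp_zero]

end ExtLemmas

section Zorn

variable {C : Type v} [Category.{u} C] [Abelian C] [IsGrothendieckAbelian.{u} C]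

/-- Zorn's lemma on subobjects. -/
theorem zorn_all (P : C → Prop)
    (hiso : ∀ {A B : C}, (A ≅ B) → P A → P B)
    (hzero : ∀ A : C, IsZero A → P A)
    (hext : ∀ (S : ShortComplex C), S.ShortExact → P S.X₁ → P S.X₃ → P S.X₂)
    (hcolim : ∀ (ι : Type u) [Preorder ι] [IsDirected ι (· ≤ ·)] [Nonempty ι] (D : ι ⥤ C),
      (∀ i, P (D.obj i)) → P (colimit D))
    (hgen : ∀ (F F' : C) (m : F' ⟶ F) [Mono m], ¬ IsIso m →
      ∃ (E : C) (σ : E ⟶ F), (∀ (Q : C) (π : E ⟶ Q) [Epi π], P Q) ∧ ¬ ∃ τ : E ⟶ F', τ ≫ m = σ)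
    (F : C) : P F := by
  classical
  let S : Set (Subobject F) := {z | P (z : C)}
  have chainUB : ∀ c ⊆ S, IsChain (· ≤ ·) c → ∃ ub ∈ S, ∀ z ∈ c, z ≤ ub := by
    intro c hcS hc
    by_cases hne : c.Nonempty
    · haveI : Small.{u} (Subobject F) := inferInstance
      haveI : Small.{u} ↥c := small_subtype _ _
      obtain ⟨ι, ⟨eqv⟩⟩ := Small.equiv_small.{u} (α := ↥c)
      let φ : ι → Subobject F := fun i => (eqv.symm i).1
      letI : Preorder ι := Preorder.lift φ
      haveI : Nonempty ι := ⟨eqv ⟨hne.choose, hne.choose_spec⟩⟩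
      haveI : IsDirected ι (· ≤ ·) := ⟨fun i j => by
        rcases hc.total (eqv.symm i).2 (eqv.symm j).2 with h | h
        · exact ⟨j, h, le_refl (φ j)⟩
        · exact ⟨i, le_refl (φ i), h⟩⟩
      have hφ : Monotone φ := fun i j h => h
      let D : ι ⥤ MonoOver F := hφ.functor ⋙ Subobject.representative
      let D' : ι ⥤ C := D ⋙ MonoOver.forget _ ⋙ Over.forget _
      let cc : Cocone D' := ⟨F, { app := fun j => (D.obj j).obj.hom
                                  naturality := fun j j' g => by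
                                    have := MonoOver.w (D.map g)
                                    simpa [D'] using this }⟩
      let f : colimit D' ⟶ F := colimit.desc D' cc
      have hf : ∀ j, colimit.ι D' j ≫ f = (D.obj j).obj.hom := fun j => colimit.ι_desc cc j
      haveI : Mono f := IsGrothendieckAbelian.mono_of_isColimit_monoOver D (colimit.isColimit D') f hf
      refine ⟨Subobject.mk f, ?_, ?_⟩
      · have hP : P (colimit D') := hcolim ι D' (fun i => hcS (eqv.symm i).2)
        exact hiso (Subobject.underlyingIso f).symm hP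
      · intro z hz
        have hz' : φ (eqv ⟨z, hz⟩) = z := by
          simp [φ]
        rw [← hz', ← Subobject.mk_arrow (φ (eqv ⟨z, hz⟩))]
        exact Subobject.mk_le_mk_of_comm (colimit.ι D' (eqv ⟨z, hz⟩)) (hf _)
    · refine ⟨⊥, ?_, fun z hz => absurd ⟨z, hz⟩ hne⟩
      exact hzero _ (IsZero.of_iso (isZero_zero C) Subobject.botCoeIsoZero)
  obtain ⟨m, hm⟩ := zorn_le₀ S chainUB
  by_contra hF
  have hnI : ¬ IsIso m.arrow := fun h => hF (hiso (asIso m.arrow) hm.prop)
  obtain ⟨E, σ, hE, hσ⟩ := hgen F (m : C) m.arrow hnI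
  let g : (m : C) ⊞ E ⟶ F := biprod.desc m.arrow σ
  let e : (m : C) ⊞ E ⟶ image g := factorThruImage g
  let a : (m : C) ⟶ image g := biprod.inl ≫ e
  have hfac : e ≫ Limits.image.ι g = g := image.fac g
  have ha : a ≫ Limits.image.ι g = m.arrow := by
    simp only [a, Category.assoc, hfac]
    simp [g]
  haveI : Mono a := mono_of_mono_fac ha
  let S' : ShortComplex C := ShortComplex.mk a (cokernel.π a) (cokernel.condition a)
  have hS' : S'.ShortExact :=
    { exact := ShortComplex.exact_cokernel a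
      mono_f := (inferInstance : Mono a)
      epi_g := (inferInstance : Epi (cokernel.π a)) }
  haveI : Epi (biprod.inr ≫ e ≫ cokernel.π a) := by
    constructor
    intro T t t' htt'
    have h1 : (e ≫ cokernel.π a) ≫ t = (e ≫ cokernel.π a) ≫ t' := by
      apply biprod.hom_ext'
      · have : biprod.inl ≫ e ≫ cokernel.π a = 0 := by
          rw [← Category.assoc]; exact cokernel.condition a
        simp only [← Category.assoc] at this ⊢
        rw [this, zero_comp, zero_comp]
      · simpa only [Category.assoc] using htt'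
    exact (cancel_epi _).1 h1
  have hPQ : P (cokernel a) := hE _ (biprod.inr ≫ e ≫ cokernel.π a)
  have hP'' : P (Limits.image g) := hext S' hS' hm.prop hPQ
  have h1 : m ≤ Subobject.mk (Limits.image.ι g) :=
    (Subobject.mk_arrow m).symm.le.trans (Subobject.mk_le_mk_of_comm a ha)
  have h2 : Subobject.mk (Limits.image.ι g) ∈ S := hiso (Subobject.underlyingIso (Limits.image.ι g)).symm hP''
  have h3 : Subobject.mk (Limits.image.ι g) ≤ m := hm.le_of_ge h2 h1
  apply hσ
  refine ⟨biprod.inr ≫ e ≫ (Subobject.underlyingIso (Limits.image.ι g)).inv ≫ Subobject.ofLE _ _ h3, ?_⟩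
  simp only [Category.assoc, Subobject.ofLE_arrow, Subobject.underlyingIso_arrow, hfac]
  simp [g]

end Zorn

end Groth.Agent.Lib.Helper19GV
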