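import Mathlib
import Groth.Prelude.Def_CechEdge

set_option autoImplicit false
universe u
open CategoryTheory CategoryTheory.Limits Opposite

namespace Groth.Agent.Lib.Helper21.Cech

variable {C : Type u} [SmallCategory C] [HasPullbacks C]
variable {U : C} {ι : Type u} (Y : ι → Over U)

/-- the iterated fibre product -/
noncomputable abbrev fp {n : ℕ} (i : Fin (n + 1) → ι) : Over U := ∏ᶜ (Y ∘ i)

section basic
variable (P : Cᵒᵖ ⥤ AddCommGrpCat.{u})

/-- coface maps -/
noncomputable def face (n : ℕ) (j : Fin (n + 2)) :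
    (CechEdge.cx P Y).X n ⟶ (CechEdge.cx P Y).X (n + 1) :=
  ((FormalCoproduct.evalOp.{u} (Over U) AddCommGrpCat.{u}).obj ((Over.forget U).op ⋙ P)).map
    (((FormalCoproduct.mk _ Y).cech.map (SimplexCategory.δ j).op).op)

theorem cx_d (n : ℕ) :
    (CechEdge.cx P Y).d n (n + 1) = ∑ j : Fin (n + 2), (-1 : ℤ) ^ (j : ℕ) • face Y P n j := by
  have h1 := CochainComplex.of_d (fun n => (CechEdge.cx P Y).X n)
      (AlgebraicTopology.AlternatingCofaceMapComplex.objD
        ((FormalCoproduct.cosimplicialObjectFunctor (FormalCoproduct.mk _ Y).cech).obj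
          ((Over.forget U).op ⋙ P))) n
  exact h1

/-- the map between fibre products induced by δ j -/
noncomputable def dmap {n : ℕ} (j : Fin (n + 2)) (i : Fin (n + 2) → ι) :
    fp Y i ⟶ fp Y (i ∘ Fin.succAbove j) :=
  Pi.lift (fun a => Pi.π (Y ∘ i) (Fin.succAbove j a))

/-- projections -/
noncomputable abbrev proj (n : ℕ) (i : Fin (n + 1) → ι) :
    (CechEdge.cx P Y).X n ⟶ P.obj (op (fp Y i).left) :=
  Pi.π (fun (i : Fin (n + 1) → ι) => P.obj (op (fp Y i).left)) i

theorem face_π (n : ℕ) (j : Fin (n + 2)) (i : Fin (n + 2) → ι) :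
    face Y P n j ≫ proj Y P (n + 1) i =
      proj Y P n (i ∘ Fin.succAbove j) ≫ P.map (dmap Y j i).left.op := by
  rw [face, FormalCoproduct.evalOp_obj_map]
  erw [Pi.lift_π]
  rfl

variable {P} in
theorem cxMap_proj {Q : Cᵒᵖ ⥤ AddCommGrpCat.{u}} (φ : P ⟶ Q) (n : ℕ) (i : Fin (n + 1) → ι) :
    ((CechEdge.cxFunctor Y).map φ).f n ≫ proj Y Q n i =
      proj Y P n i ≫ φ.app (op (fp Y i).left) := by
  simp [CechEdge.cxFunctor, cechComplexFunctor, proj]
  exact Pi.map_π _ _

theorem X_ext {n : ℕ} (c c' : (CechEdge.cx P Y).X n)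
    (h : ∀ i, (proj Y P n i).hom c = (proj Y P n i).hom c') : c = c' := by
  apply (Concrete.productEquiv (fun (i : Fin (n + 1) → ι) => P.obj (op (fp Y i).left))).injective
  funext i
  rw [Concrete.productEquiv_apply_apply, Concrete.productEquiv_apply_apply]
  exact h i

/-- an element of the Čech complex from its components -/
noncomputable def mkX {n : ℕ} (x : ∀ i : Fin (n + 1) → ι, P.obj (op (fp Y i).left)) :
    (CechEdge.cx P Y).X n :=
  (Concrete.productEquiv (fun (i : Fin (n + 1) → ι) => P.obj (op (fp Y i).left))).symm x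

theorem proj_mkX {n : ℕ} (x : ∀ i : Fin (n + 1) → ι, P.obj (op (fp Y i).left))
    (i : Fin (n + 1) → ι) : (proj Y P n i).hom (mkX Y P x) = x i :=
  Concrete.productEquiv_symm_apply_π _ x i

end basic

/-! ### points and tuples -/

/-- a point of the family with values in `V` -/
structure Pt (V : C) where
  /-- the index -/
  idx : ι
  /-- the morphism -/
  map : V ⟶ (Y idx).left

variable {Y}

/-- structure map of a point -/
def Pt.str {V : C} (x : Pt Y V) : V ⟶ U := x.2 ≫ (Y x.1).hom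

/-- a point as a morphism in `Over U` -/
def Pt.hom {V : C} (x : Pt Y V) (g : V ⟶ U) (h : x.str = g) : Over.mk g ⟶ Y x.1 :=
  Over.homMk x.2 h

/-- precomposition -/
def Pt.pre {V V' : C} (t : V' ⟶ V) (x : Pt Y V) : Pt Y V' := ⟨x.1, t ≫ x.2⟩

@[simp] theorem Pt.pre_str {V V' : C} (t : V' ⟶ V) (x : Pt Y V) : (x.pre t).str = t ≫ x.str := by
  simp [Pt.pre, Pt.str]

@[simp] theorem Pt.pre_fst {V V' : C} (t : V' ⟶ V) (x : Pt Y V) : (x.pre t).1 = x.1 := rfl

variable (Y)

/-- the morphism to the fibre product determined by a tuple of points -/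
noncomputable def tup {V : C} (g : V ⟶ U) {n : ℕ} (e : Fin (n + 1) → Pt Y V)
    (he : ∀ a, (e a).str = g) : Over.mk g ⟶ fp Y (fun a => (e a).1) :=
  Pi.lift (fun a => (e a).hom g (he a))

theorem tup_π {V : C} (g : V ⟶ U) {n : ℕ} (e : Fin (n + 1) → Pt Y V)
    (he : ∀ a, (e a).str = g) (a : Fin (n + 1)) :
    tup Y g e he ≫ Pi.π (Y ∘ fun a => (e a).1) a = (e a).hom g (he a) := by
  simp [tup]

theorem tup_dmap {V : C} (g : V ⟶ U) {n : ℕ} (e : Fin (n + 2) → Pt Y V)
    (he : ∀ a, (e a).str = g) (j : Fin (n + 2)) :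
    tup Y g e he ≫ dmap Y j (fun a => (e a).1) =
      tup Y g (e ∘ Fin.succAbove j) (fun a => he _) := by
  apply Pi.hom_ext
  intro a
  rw [Category.assoc, tup, tup, dmap]
  erw [Pi.lift_π, Pi.lift_π, Pi.lift_π]
  rfl

theorem tup_pre {V V' : C} (t : V' ⟶ V) (g : V ⟶ U) {n : ℕ} (e : Fin (n + 1) → Pt Y V)
    (he : ∀ a, (e a).str = g) :
    (Over.homMk t rfl : Over.mk (t ≫ g) ⟶ Over.mk g) ≫ tup Y g e he =
      tup Y (t ≫ g) (fun a => (e a).pre t) (fun a => by simp [he a]) := by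
  apply Pi.hom_ext
  intro a
  simp only [tup, Category.assoc, Pi.lift_π]
  ext
  simp [Pt.hom, Pt.pre]

section evM
variable (P : Cᵒᵖ ⥤ AddCommGrpCat.{u})

/-- evaluation of Čech cochains at a tuple of points -/
noncomputable def evM {V : C} (g : V ⟶ U) {n : ℕ} (e : Fin (n + 1) → Pt Y V)
    (he : ∀ a, (e a).str = g) : (CechEdge.cx P Y).X n ⟶ P.obj (op V) :=
  proj Y P n (fun a => (e a).1) ≫ P.map (tup Y g e he).left.op

theorem evM_congr {V : C} {g g' : V ⟶ U} {n : ℕ} {e e' : Fin (n + 1) → Pt Y V}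
    (he : ∀ a, (e a).str = g) (he' : ∀ a, (e' a).str = g') (hg : g = g') (hee : e = e') :
    evM Y P g e he = evM Y P g' e' he' := by
  subst hg hee
  rfl

theorem face_evM {V : C} (g : V ⟶ U) {n : ℕ} (e : Fin (n + 2) → Pt Y V)
    (he : ∀ a, (e a).str = g) (j : Fin (n + 2)) :
    face Y P n j ≫ evM Y P g e he = evM Y P g (e ∘ Fin.succAbove j) (fun a => he _) := by
  rw [evM, ← Category.assoc, face_π, Category.assoc, ← P.map_comp, ← op_comp, ← Over.comp_left,
    tup_dmap]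
  rfl

theorem d_evM {V : C} (g : V ⟶ U) {n : ℕ} (e : Fin (n + 2) → Pt Y V)
    (he : ∀ a, (e a).str = g) :
    (CechEdge.cx P Y).d n (n + 1) ≫ evM Y P g e he =
      ∑ j : Fin (n + 2), (-1 : ℤ) ^ (j : ℕ) • evM Y P g (e ∘ Fin.succAbove j) (fun a => he _) := by
  rw [cx_d, Preadditive.sum_comp]
  refine Finset.sum_congr rfl (fun j _ => ?_)
  rw [Preadditive.zsmul_comp, face_evM]

variable {P} in
theorem cxMap_evM {Q : Cᵒᵖ ⥤ AddCommGrpCat.{u}} (φ : P ⟶ Q) {V : C} (g : V ⟶ U) {n : ℕ}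
    (e : Fin (n + 1) → Pt Y V) (he : ∀ a, (e a).str = g) :
    ((CechEdge.cxFunctor Y).map φ).f n ≫ evM Y Q g e he = evM Y P g e he ≫ φ.app (op V) := by
  rw [evM, ← Category.assoc, cxMap_proj, Category.assoc, ← φ.naturality, evM, Category.assoc]

theorem evM_map {V V' : C} (t : V' ⟶ V) (g : V ⟶ U) {n : ℕ} (e : Fin (n + 1) → Pt Y V)
    (he : ∀ a, (e a).str = g) :
    evM Y P g e he ≫ P.map t.op =
      evM Y P (t ≫ g) (fun a => (e a).pre t) (fun a => by simp [he a]) := by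
  rw [evM, Category.assoc, ← P.map_comp, ← op_comp]
  have := congrArg (fun f => f.left) (tup_pre Y t g e he)
  simp only [Over.comp_left, Over.homMk_left] at this
  rw [this]
  rfl

/-- the canonical tuple of points of a fibre product -/
noncomputable def canPt {n : ℕ} (i : Fin (n + 1) → ι) : Fin (n + 1) → Pt Y (fp Y i).left :=
  fun a => ⟨i a, (Pi.π (Y ∘ i) a).left⟩

theorem canPt_str {n : ℕ} (i : Fin (n + 1) → ι) (a : Fin (n + 1)) :
    (canPt Y i a).str = (fp Y i).hom := by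
  simp [canPt, Pt.str]

theorem tup_canPt {n : ℕ} (i : Fin (n + 1) → ι) :
    tup Y (fp Y i).hom (canPt Y i) (canPt_str Y i) = 𝟙 (fp Y i) := by
  apply Pi.hom_ext
  intro a
  simp only [tup, Pi.lift_π, Category.id_comp]
  ext
  simp [Pt.hom, canPt]

theorem proj_eq_evM {n : ℕ} (i : Fin (n + 1) → ι) :
    proj Y P n i = evM Y P (fp Y i).hom (canPt Y i) (canPt_str Y i) := by
  rw [evM]
  have h : (tup Y (fp Y i).hom (canPt Y i) (canPt_str Y i)).left = 𝟙 _ := by
    rw [tup_canPt]; rfl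
  rw [h]
  change proj Y P n i = proj Y P n i ≫ P.map (𝟙 _).op
  rw [op_id, P.map_id, Category.comp_id]

theorem X_hom_ext {A : AddCommGrpCat.{u}} {n : ℕ} (f f' : A ⟶ (CechEdge.cx P Y).X n)
    (h : ∀ (V : C) (g : V ⟶ U) (e : Fin (n + 1) → Pt Y V) (he : ∀ a, (e a).str = g),
      f ≫ evM Y P g e he = f' ≫ evM Y P g e he) : f = f' := by
  apply Pi.hom_ext
  intro i
  have := h _ _ (canPt Y i) (canPt_str Y i)
  rw [← proj_eq_evM] at this
  exact this

theorem X_ext' {n : ℕ} (c c' : (CechEdge.cx P Y).X n)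
    (h : ∀ (V : C) (g : V ⟶ U) (e : Fin (n + 1) → Pt Y V) (he : ∀ a, (e a).str = g),
      (evM Y P g e he).hom c = (evM Y P g e he).hom c') : c = c' := by
  apply X_ext
  intro i
  rw [proj_eq_evM]
  exact h _ _ _ _

theorem toCech₀_evM {V : C} (g : V ⟶ U) (e : Fin 1 → Pt Y V) (he : ∀ a, (e a).str = g) :
    CechEdge.toCech₀ P Y ≫ evM Y P g e he = P.map g.op := by
  rw [evM, CechEdge.toCech₀, ← Category.assoc]
  erw [Pi.lift_π]
  change P.map (fp Y (fun a => (e a).idx)).hom.op ≫ P.map (tup Y g e he).left.op = P.map g.op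
  rw [← P.map_comp, ← op_comp]
  congr 2
  exact Over.w (tup Y g e he)

end evM

end Groth.Agent.Lib.Helper21.Cech
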