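import Mathlib
import Groth.Prelude.Def_CechEdge
import Groth.Agent.Lib.Helper21Cech1

set_option autoImplicit false
universe u
open CategoryTheory CategoryTheory.Limits Opposite

namespace Groth.Agent.Lib.Helper21.Cech

variable {C : Type u} [SmallCategory C] [HasPullbacks C]
variable {U : C} {ι : Type u} (Y : ι → Over U)

/-- objectwise exactness -/
theorem shortExact_eval (S : ShortComplex (Cᵒᵖ ⥤ AddCommGrpCat.{u})) (hS : S.ShortExact)
    (W : Cᵒᵖ) : (S.map ((evaluation _ _).obj W)).ShortExact :=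
  hS.map_of_exact _

theorem injective_app_of_shortExact (S : ShortComplex (Cᵒᵖ ⥤ AddCommGrpCat.{u}))
    (hS : S.ShortExact) (W : Cᵒᵖ) : Function.Injective (S.f.app W).hom := by
  have := (shortExact_eval S hS W).mono_f
  exact (AddCommGrpCat.mono_iff_injective _).1 this

theorem surjective_app_of_shortExact (S : ShortComplex (Cᵒᵖ ⥤ AddCommGrpCat.{u}))
    (hS : S.ShortExact) (W : Cᵒᵖ) : Function.Surjective (S.g.app W).hom := by
  have := (shortExact_eval S hS W).epi_g
  exact (AddCommGrpCat.epi_iff_surjective _).1 this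

theorem exact_app_of_shortExact (S : ShortComplex (Cᵒᵖ ⥤ AddCommGrpCat.{u}))
    (hS : S.ShortExact) (W : Cᵒᵖ) (x : S.X₂.obj W) (hx : (S.g.app W).hom x = 0) :
    ∃ y : S.X₁.obj W, (S.f.app W).hom y = x :=
  (ShortComplex.ab_exact_iff _).1 (shortExact_eval S hS W).exact x hx

/-- The Čech complex functor is exact. -/
theorem shortExact_cx (S : ShortComplex (Cᵒᵖ ⥤ AddCommGrpCat.{u})) (hS : S.ShortExact) :
    (S.map (CechEdge.cxFunctor Y)).ShortExact := by
  apply HomologicalComplex.shortExact_of_degreewise_shortExact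
  intro n
  have hf : ∀ (c : (CechEdge.cx S.X₁ Y).X n) (i : Fin (n + 1) → ι),
      (proj Y S.X₂ n i).hom ((((CechEdge.cxFunctor Y).map S.f).f n).hom c) =
        (S.f.app _).hom ((proj Y S.X₁ n i).hom c) := fun c i =>
    ConcreteCategory.congr_hom (cxMap_proj Y S.f n i) c
  have hg : ∀ (c : (CechEdge.cx S.X₂ Y).X n) (i : Fin (n + 1) → ι),
      (proj Y S.X₃ n i).hom ((((CechEdge.cxFunctor Y).map S.g).f n).hom c) =
        (S.g.app _).hom ((proj Y S.X₂ n i).hom c) := fun c i =>
    ConcreteCategory.congr_hom (cxMap_proj Y S.g n i) c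
  refine ShortComplex.ShortExact.mk' ?_ ?_ ?_
  · rw [ShortComplex.ab_exact_iff]
    intro c hc
    change (((CechEdge.cxFunctor Y).map S.g).f n).hom c = 0 at hc
    have h1 : ∀ i, ∃ y, (S.f.app _).hom y = (proj Y S.X₂ n i).hom c := by
      intro i
      apply exact_app_of_shortExact S hS
      rw [← hg, hc, map_zero]
    choose y hy using h1
    refine ⟨mkX Y S.X₁ y, ?_⟩
    change (((CechEdge.cxFunctor Y).map S.f).f n).hom _ = c
    apply X_ext
    intro i
    rw [hf, proj_mkX, hy]
  · rw [AddCommGrpCat.mono_iff_injective]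
    intro c c' hcc
    change (((CechEdge.cxFunctor Y).map S.f).f n).hom c = (((CechEdge.cxFunctor Y).map S.f).f n).hom c' at hcc
    apply X_ext
    intro i
    apply injective_app_of_shortExact S hS
    rw [← hf, ← hf, hcc]
  · rw [AddCommGrpCat.epi_iff_surjective]
    intro c
    have h1 : ∀ i, ∃ y, (S.g.app _).hom y = (proj Y S.X₃ n i).hom c :=
      fun i => surjective_app_of_shortExact S hS _ _
    choose y hy using h1
    refine ⟨mkX Y S.X₂ y, ?_⟩
    change (((CechEdge.cxFunctor Y).map S.g).f n).hom _ = c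
    apply X_ext
    intro i
    rw [hg, proj_mkX, hy]

end Groth.Agent.Lib.Helper21.Cech
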