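import Mathlib
import Groth.Prelude.Def_CechEdge
import Groth.Agent.Lib.Helper21Cech1

set_option autoImplicit false
universe u
open CategoryTheory CategoryTheory.Limits Opposite

namespace Groth.Agent.Lib.Helper21.Cech

variable {C : Type u} [SmallCategory C] [HasPullbacks C]
variable {U : C} {ι : Type u} (Y : ι → Over U) (P : Cᵒᵖ ⥤ AddCommGrpCat.{u})

/-- the point `𝟙 : Y k ⟶ Y k` -/
def idPt (k : ι) : Pt Y (Y k).left := ⟨k, 𝟙 _⟩

theorem idPt_str (k : ι) : (idPt Y k).str = (Y k).hom := by
  simp [idPt, Pt.str]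

/-- the component of a `0`-cochain at `Y k` -/
noncomputable def xk (c : (CechEdge.cx P Y).X 0) (k : ι) : P.obj (op (Y k).left) :=
  (evM Y P (Y k).hom (fun _ => idPt Y k) (fun _ => idPt_str Y k)).hom c

theorem evM_zero_eq {V : C} (g : V ⟶ U) (e : Fin 1 → Pt Y V) (he : ∀ a, (e a).str = g)
    (c : (CechEdge.cx P Y).X 0) :
    (evM Y P g e he).hom c = (P.map (e 0).map.op).hom (xk Y P c (e 0).idx) := by
  have h1 := evM_map Y P (e 0).map (Y (e 0).idx).hom (n := 0) (fun _ => idPt Y (e 0).idx)
    (fun _ => idPt_str Y _)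
  have h2 := ConcreteCategory.congr_hom h1 c
  rw [ConcreteCategory.comp_apply] at h2
  change _ = (P.map (e 0).map.op).hom ((evM Y P _ _ _).hom c)
  erw [h2]
  refine ConcreteCategory.congr_hom (evM_congr Y P _ _ (he 0).symm ?_) c
  funext a
  obtain rfl : a = 0 := Subsingleton.elim _ _
  simp [Pt.pre, idPt]

theorem X0_ext (c c' : (CechEdge.cx P Y).X 0) (h : ∀ k, xk Y P c k = xk Y P c' k) : c = c' := by
  apply X_ext'
  intro V g e he
  rw [evM_zero_eq, evM_zero_eq, h]

theorem xk_toCech₀ (s : P.obj (op U)) (k : ι) :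
    xk Y P ((CechEdge.toCech₀ P Y).hom s) k = (P.map (Y k).hom.op).hom s := by
  rw [xk, ← ConcreteCategory.comp_apply, toCech₀_evM]

theorem d_eq_zero_iff (c : (CechEdge.cx P Y).X 0) :
    ((CechEdge.cx P Y).d 0 1).hom c = 0 ↔
      Presieve.Arrows.Compatible (P ⋙ forget _) (fun k => (Y k).hom) (xk Y P c) := by
  constructor
  · intro hc i j Z gi gj hij
    have h1 := ConcreteCategory.congr_hom (d_evM Y P (gi ≫ (Y i).hom) ![⟨i, gi⟩, ⟨j, gj⟩]
      (fun a => by
        refine Fin.cases ?_ (fun b => ?_) a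
        · rfl
        · obtain rfl : b = 0 := Subsingleton.elim _ _
          exact hij.symm)) c
    rw [ConcreteCategory.comp_apply, hc, map_zero, Fin.sum_univ_two] at h1
    simp only [Fin.val_zero, pow_zero, one_smul, Fin.val_one, pow_one, neg_smul,
      AddCommGrpCat.hom_add, AddCommGrpCat.hom_neg, AddMonoidHom.add_apply,
      AddMonoidHom.neg_apply] at h1
    rw [evM_zero_eq, evM_zero_eq] at h1
    have h2 := eq_neg_of_add_eq_zero_left h1.symm
    rw [neg_neg] at h2
    exact h2.symm
  · intro hc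
    apply X_ext'
    intro V g e he
    rw [← ConcreteCategory.comp_apply, d_evM, map_zero, Fin.sum_univ_two]
    simp only [Fin.val_zero, pow_zero, one_smul, Fin.val_one, pow_one, neg_smul,
      AddCommGrpCat.hom_add, AddCommGrpCat.hom_neg, AddMonoidHom.add_apply,
      AddMonoidHom.neg_apply]
    rw [evM_zero_eq, evM_zero_eq]
    have := hc (e 1).idx (e 0).idx V (e 1).map (e 0).map ((he 1).trans (he 0).symm)
    simp only [Function.comp_apply, Fin.succAbove_zero, Fin.succ_zero_eq_one]
    change (P.map (e 1).map.op).hom (xk Y P c (e 1).idx) + -(P.map _).hom (xk Y P c _) = 0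
    have h3 : (Fin.succAbove (1 : Fin 2) 0) = 0 := rfl
    rw [h3]
    erw [this]
    exact add_neg_cancel _

/-- a `0`-cochain from its components -/
noncomputable def mkX0 (x : ∀ k, P.obj (op (Y k).left)) : (CechEdge.cx P Y).X 0 :=
  mkX Y P (fun i => (P.map (Pi.π (Y ∘ i) 0).left.op).hom (x (i 0)))

theorem xk_mkX0 (x : ∀ k, P.obj (op (Y k).left)) (k : ι) : xk Y P (mkX0 Y P x) k = x k := by
  rw [xk, evM, ConcreteCategory.comp_apply, mkX0, proj_mkX, ← ConcreteCategory.comp_apply,
    ← P.map_comp, ← op_comp, ← Over.comp_left]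
  have h1 : tup Y (Y k).hom (fun _ => idPt Y k) (fun _ => idPt_str Y k) ≫
      Pi.π (Y ∘ fun _ : Fin 1 => k) 0 = (idPt Y k).hom _ (idPt_str Y k) := tup_π Y _ _ _ 0
  erw [h1]
  change (P.map (𝟙 _).op).hom (x k) = x k
  simp

section cycles

/-- lifting cocycles -/
theorem exists_cycle (c : (CechEdge.cx P Y).X 0) (hc : ((CechEdge.cx P Y).d 0 1).hom c = 0) :
    ∃ z : (CechEdge.cx P Y).cycles 0, ((CechEdge.cx P Y).iCycles 0).hom z = c := by
  have hex : (ShortComplex.mk ((CechEdge.cx P Y).iCycles 0) ((CechEdge.cx P Y).d 0 1)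
      ((CechEdge.cx P Y).iCycles_d 0 1)).Exact :=
    ShortComplex.exact_of_f_is_kernel _ ((CechEdge.cx P Y).cyclesIsKernel 0 1 (by simp))
  exact (ShortComplex.ab_exact_iff _).1 hex c hc

theorem iCycles_injective :
    Function.Injective ((CechEdge.cx P Y).iCycles 0).hom :=
  (AddCommGrpCat.mono_iff_injective _).1 inferInstance

theorem d_iCycles (z : (CechEdge.cx P Y).cycles 0) :
    ((CechEdge.cx P Y).d 0 1).hom (((CechEdge.cx P Y).iCycles 0).hom z) = 0 := by
  rw [← ConcreteCategory.comp_apply, HomologicalComplex.iCycles_d]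
  rfl

theorem homologyπ_bijective :
    Function.Bijective ((CechEdge.cx P Y).homologyπ 0).hom := by
  have : IsIso ((CechEdge.cx P Y).homologyπ 0) := inferInstance
  exact (ConcreteCategory.isIso_iff_bijective _).1 this

theorem toCech_eq (s : P.obj (op U)) :
    CechEdge.toCech Y P s = ((CechEdge.cx P Y).homologyπ 0).hom ((CechEdge.toCycles P Y).hom s) :=
  rfl

theorem iCycles_toCycles (s : P.obj (op U)) :
    ((CechEdge.cx P Y).iCycles 0).hom ((CechEdge.toCycles P Y).hom s) =
      (CechEdge.toCech₀ P Y).hom s := by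
  rw [← ConcreteCategory.comp_apply, CechEdge.toCycles_i]

theorem toCech_bijective_iff :
    Function.Bijective (CechEdge.toCech Y P) ↔
      (Function.Injective (CechEdge.toCech₀ P Y).hom ∧
        ∀ c, ((CechEdge.cx P Y).d 0 1).hom c = 0 → ∃ s, (CechEdge.toCech₀ P Y).hom s = c) := by
  have hb := homologyπ_bijective Y P
  constructor
  · intro h
    constructor
    · intro s s' hss
      apply h.1
      rw [toCech_eq, toCech_eq]
      congr 1
      apply iCycles_injective Y P
      rw [iCycles_toCycles, iCycles_toCycles, hss]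
    · intro c hc
      obtain ⟨z, hz⟩ := exists_cycle Y P c hc
      obtain ⟨s, hs⟩ := h.2 ((((CechEdge.cx P Y).homologyπ 0).hom) z)
      rw [toCech_eq] at hs
      have := hb.1 hs
      refine ⟨s, ?_⟩
      rw [← iCycles_toCycles, this, hz]
  · rintro ⟨h1, h2⟩
    constructor
    · intro s s' hss
      rw [toCech_eq, toCech_eq] at hss
      have := hb.1 hss
      apply h1
      rw [← iCycles_toCycles, ← iCycles_toCycles, this]
    · intro y
      obtain ⟨z, rfl⟩ := hb.2 y
      obtain ⟨s, hs⟩ := h2 _ (d_iCycles Y P z)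
      refine ⟨s, ?_⟩
      rw [toCech_eq]
      congr 1
      apply iCycles_injective Y P
      rw [iCycles_toCycles, hs]

end cycles

/-- `toCech` is bijective iff the sheaf condition holds for the family. -/
theorem toCech_bijective_iff_isSheafFor :
    Function.Bijective (CechEdge.toCech Y P) ↔
      Presieve.IsSheafFor (P ⋙ forget _)
        (Presieve.ofArrows (fun k => (Y k).left) (fun k => (Y k).hom)) := by
  rw [toCech_bijective_iff, Presieve.isSheafFor_arrows_iff]
  constructor
  · rintro ⟨h1, h2⟩ x hx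
    have hd : ((CechEdge.cx P Y).d 0 1).hom (mkX0 Y P x) = 0 := by
      rw [d_eq_zero_iff]
      intro i j Z gi gj hij
      rw [xk_mkX0, xk_mkX0]
      exact hx i j Z gi gj hij
    obtain ⟨s, hs⟩ := h2 _ hd
    refine ⟨s, fun k => ?_, fun t ht => ?_⟩
    · change (P.map (Y k).hom.op).hom s = x k
      rw [← xk_toCech₀, hs, xk_mkX0]
    · apply h1
      rw [hs]
      apply X0_ext
      intro k
      rw [xk_toCech₀, xk_mkX0]
      exact ht k
  · intro h
    constructor
    · intro s s' hss
      have hx : Presieve.Arrows.Compatible (P ⋙ forget _) (fun k => (Y k).hom)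
          (xk Y P ((CechEdge.toCech₀ P Y).hom s)) := by
        rw [← d_eq_zero_iff, ← ConcreteCategory.comp_apply, CechEdge.toCech₀_d]
        rfl
      obtain ⟨t, _, ht⟩ := h _ hx
      have e1 : s = t := ht s (fun k => (xk_toCech₀ Y P s k).symm)
      have e2 : s' = t := ht s' (fun k => by rw [hss]; exact (xk_toCech₀ Y P s' k).symm)
      rw [e1, e2]
    · intro c hc
      obtain ⟨t, ht, _⟩ := h _ ((d_eq_zero_iff Y P c).1 hc)
      refine ⟨t, ?_⟩
      apply X0_ext
      intro k
      rw [xk_toCech₀]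
      exact ht k

/-- For a sheaf and a covering family, `toCech` is bijective. -/
theorem toCech_bijective_of_isSheaf (J : GrothendieckTopology C) (hP : Presheaf.IsSheaf J P)
    (hY : Sieve.ofArrows (fun i => (Y i).left) (fun i => (Y i).hom) ∈ J U) :
    Function.Bijective (CechEdge.toCech Y P) := by
  rw [toCech_bijective_iff_isSheafFor, Presieve.isSheafFor_iff_generate]
  rw [Presheaf.isSheaf_iff_isSheaf_forget J P (forget _), isSheaf_iff_isSheaf_of_type] at hP
  exact hP _ hY

end Groth.Agent.Lib.Helper21.Cech
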