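import Mathlib
import Groth.Prelude.Def_CechEdge
import Groth.Agent.Lib.Helper21Cech2
import Groth.Agent.Lib.Helper21Cech4
import Groth.Prelude.Def_CohTop

/-!
# Long exact sequence consequences for Cech cohomology (helper16; builds on helper21's Cech libs)

`isZero_X₁`, `isZero_X₃`, `isZero_X₁_of_surjective` (vanishing from the LES of a short exact sequence of presheaves),
`toCech_naturality`, `cechHMap_zero_surjective`, `presheaf_shortExact`, `covering_of_iSup`.
-/

set_option autoImplicit false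
set_option linter.unusedSectionVars false
set_option linter.style.haveILetI false
universe u
open CategoryTheory

namespace Groth.Agent.Lib.Helper16.CechLES
open Opposite CategoryTheory.Limits Groth.Agent.Lib.Helper21.Cech

section Site
variable {C : Type u} [SmallCategory C] [HasPullbacks C] {U : C} {ι : Type u} (Y : ι → Over U)
  (T : ShortComplex (Cᵒᵖ ⥤ AddCommGrpCat.{u})) (hT : T.ShortExact)

include hT

/-- `Ȟ^i(X₃) = 0` and `Ȟ^{i+1}(X₂) = 0` imply `Ȟ^{i+1}(X₁) = 0`. -/
lemma isZero_X₁ (i : ℕ) (h₃ : IsZero (CohCx.cechH T.X₃ Y i)) (h₂ : IsZero (CohCx.cechH T.X₂ Y (i + 1))) :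
    IsZero (CohCx.cechH T.X₁ Y (i + 1)) :=
  ((shortExact_cx Y T hT).homology_exact₁ i (i + 1) rfl).isZero_of_both_isZero h₃ h₂

/-- `Ȟ^i(X₂) = 0` and `Ȟ^{i+1}(X₁) = 0` imply `Ȟ^i(X₃) = 0`. -/
lemma isZero_X₃ (i : ℕ) (h₂ : IsZero (CohCx.cechH T.X₂ Y i)) (h₁ : IsZero (CohCx.cechH T.X₁ Y (i + 1))) :
    IsZero (CohCx.cechH T.X₃ Y i) :=
  ((shortExact_cx Y T hT).homology_exact₃ i (i + 1) rfl).isZero_of_both_isZero h₂ h₁

/-- if `Ȟ^i(X₂) → Ȟ^i(X₃)` is surjective and `Ȟ^{i+1}(X₂) = 0` then `Ȟ^{i+1}(X₁) = 0`. -/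
lemma isZero_X₁_of_surjective (i : ℕ)
    (hs : Function.Surjective (CechEdge.cechHMap Y T.g i))
    (h₂ : IsZero (CohCx.cechH T.X₂ Y (i + 1))) :
    IsZero (CohCx.cechH T.X₁ Y (i + 1)) := by
  have hC := shortExact_cx Y T hT
  have hepi : Epi (HomologicalComplex.homologyMap (T.map (CechEdge.cxFunctor Y)).g i) :=
    (AddCommGrpCat.epi_iff_surjective _).2 hs
  have hδ : hC.δ i (i + 1) rfl = 0 := by
    have := hC.comp_δ i (i + 1) rfl
    exact (cancel_epi (HomologicalComplex.homologyMap (T.map (CechEdge.cxFunctor Y)).g i)).1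
      (this.trans comp_zero.symm)
  exact (hC.homology_exact₁ i (i + 1) rfl).isZero_of_both_zeros hδ (h₂.eq_of_tgt _ _)


omit hT in
lemma toCech₀_naturality {P Q : Cᵒᵖ ⥤ AddCommGrpCat.{u}} (φ : P ⟶ Q) :
    CechEdge.toCech₀ P Y ≫ ((CechEdge.cxFunctor Y).map φ).f 0 =
      φ.app (op U) ≫ CechEdge.toCech₀ Q Y := by
  refine Pi.hom_ext _ _ (fun (i : Fin 1 → ι) => ?_)
  have : (CechEdge.toCech₀ P Y ≫ ((CechEdge.cxFunctor Y).map φ).f 0) ≫ proj Y Q 0 i =
      (φ.app (op U) ≫ CechEdge.toCech₀ Q Y) ≫ proj Y Q 0 i := by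
    rw [Category.assoc, cxMap_proj, Category.assoc]
    have e1 : CechEdge.toCech₀ P Y ≫ proj Y P 0 i = P.map (∏ᶜ (Y ∘ i)).hom.op := limit.lift_π _ _
    have e2 : CechEdge.toCech₀ Q Y ≫ proj Y Q 0 i = Q.map (∏ᶜ (Y ∘ i)).hom.op := limit.lift_π _ _
    rw [← Category.assoc, e1, e2]
    exact φ.naturality _
  exact this

omit hT in
lemma toCycles_naturality {P Q : Cᵒᵖ ⥤ AddCommGrpCat.{u}} (φ : P ⟶ Q) :
    CechEdge.toCycles P Y ≫ HomologicalComplex.cyclesMap ((CechEdge.cxFunctor Y).map φ) 0 =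
      φ.app (op U) ≫ CechEdge.toCycles Q Y := by
  rw [← cancel_mono ((CechEdge.cx Q Y).iCycles 0)]
  have e := HomologicalComplex.cyclesMap_i ((CechEdge.cxFunctor Y).map φ) 0
  rw [Category.assoc]
  erw [e]
  rw [← Category.assoc]
  erw [CechEdge.toCycles_i]
  rw [Category.assoc, CechEdge.toCycles_i]
  exact toCech₀_naturality Y φ

omit hT in
lemma toCech_naturality {P Q : Cᵒᵖ ⥤ AddCommGrpCat.{u}} (φ : P ⟶ Q) (s : P.obj (op U)) :
    CechEdge.cechHMap Y φ 0 (CechEdge.toCech Y P s) = CechEdge.toCech Y Q (φ.app (op U) s) := by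
  have h : (CechEdge.toCycles P Y ≫ (CechEdge.cx P Y).homologyπ 0) ≫
      HomologicalComplex.homologyMap ((CechEdge.cxFunctor Y).map φ) 0 =
      φ.app (op U) ≫ (CechEdge.toCycles Q Y ≫ (CechEdge.cx Q Y).homologyπ 0) := by
    rw [Category.assoc]
    erw [HomologicalComplex.homologyπ_naturality]
    rw [← Category.assoc, toCycles_naturality, Category.assoc]
    rfl
  exact ConcreteCategory.congr_hom h s

omit hT in
/-- if `φ` is surjective on sections over `U` and `toCech` is surjective for `Q`, then `φ` is surjective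
on `Ȟ^0`. -/
lemma cechHMap_zero_surjective {P Q : Cᵒᵖ ⥤ AddCommGrpCat.{u}} (φ : P ⟶ Q)
    (hφ : Function.Surjective (φ.app (op U))) (hQ : Function.Surjective (CechEdge.toCech Y Q)) :
    Function.Surjective (CechEdge.cechHMap Y φ 0) := by
  intro y
  obtain ⟨q, rfl⟩ := hQ y
  obtain ⟨s, rfl⟩ := hφ q
  exact ⟨CechEdge.toCech Y P s, toCech_naturality Y φ s⟩

end Site


section Top
open TopologicalSpace
variable {X : TopCat.{u}}

/-- a short exact sequence of sheaves which is surjective on sections over every open is short exact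
as a sequence of presheaves. -/
lemma presheaf_shortExact (S : ShortComplex (CohTop.Ab X)) (hS : S.ShortExact)
    (hsurj : ∀ V : Opens X, Function.Surjective (S.g.hom.app (op V))) :
    (S.map (sheafToPresheaf (Opens.grothendieckTopology X) AddCommGrpCat.{u})).ShortExact where
  exact := hS.exact.map_of_mono_of_preservesKernel _ hS.mono_f inferInstance
  mono_f := by
    haveI := hS.mono_f
    exact (sheafToPresheaf (Opens.grothendieckTopology X) AddCommGrpCat.{u}).map_mono S.f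
  epi_g := by
    haveI : ∀ V : (Opens X)ᵒᵖ,
        Epi ((S.map (sheafToPresheaf (Opens.grothendieckTopology X) AddCommGrpCat.{u})).g.app V) :=
      fun V => (AddCommGrpCat.epi_iff_surjective _).2 (hsurj V.unop)
    exact NatTrans.epi_of_epi_app _

/-- a family of opens with union `W` covers `W`. -/
lemma covering_of_iSup {ι : Type u} {W : Opens X} (Y : ι → Over W)
    (hY : W ≤ ⨆ i, (Y i).left) :
    Sieve.ofArrows (fun i => (Y i).left) (fun i => (Y i).hom) ∈ Opens.grothendieckTopology X W := by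
  intro x hx
  obtain ⟨i, hi⟩ := Opens.mem_iSup.1 (hY hx)
  exact ⟨(Y i).left, (Y i).hom, Sieve.ofArrows_mk _ _ i, hi⟩

end Top

end Groth.Agent.Lib.Helper16.CechLES
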