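import Mathlib

set_option autoImplicit false
set_option linter.style.haveILetI false
set_option linter.unusedSectionVars false
universe w v u
open CategoryTheory CategoryTheory.Limits Opposite Abelian

namespace Groth.Agent.Lib.Helper16.FiltColim

section AbPart

variable {I : Type u} [SmallCategory I]

/-- elementwise characterization of filtered colimit cocones of abelian groups -/
structure Good {G : I ⥤ AddCommGrpCat.{u}} (c : Cocone G) : Prop where
  surj : ∀ x : c.pt, ∃ (i : I) (y : G.obj i), (c.ι.app i).hom y = x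
  inj : ∀ (i : I) (y : G.obj i), (c.ι.app i).hom y = 0 → ∃ (j : I) (f : i ⟶ j), (G.map f).hom y = 0

variable [IsFiltered I]

lemma good_of_isColimit {G : I ⥤ AddCommGrpCat.{u}} {c : Cocone G} (hc : IsColimit c) : Good c where
  surj x := Concrete.isColimit_exists_rep G hc x
  inj i y hy := by
    have h : (c.ι.app i) y = (c.ι.app i) (0 : G.obj i) := by
      rw [map_zero]; exact hy
    obtain ⟨k, f, g, hfg⟩ := (Concrete.isColimit_rep_eq_iff_exists G hc y (0 : G.obj i)).1 h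
    refine ⟨k, f, ?_⟩
    rw [map_zero] at hfg
    exact hfg

lemma cocone_w_apply {G : I ⥤ AddCommGrpCat.{u}} (c : Cocone G) {i j : I} (f : i ⟶ j) (y : G.obj i) :
    (c.ι.app j).hom ((G.map f).hom y) = (c.ι.app i).hom y := by
  rw [← c.w f]; rfl

noncomputable def isColimitOfGood {G : I ⥤ AddCommGrpCat.{u}} {c : Cocone G} (hc : Good c) : IsColimit c := by
  haveI : ReflectsColimit G (forget AddCommGrpCat.{u}) := reflectsColimit_of_reflectsIsomorphisms _ _
  apply isColimitOfReflects (forget AddCommGrpCat.{u})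
  apply Types.FilteredColimit.isColimitOf
  · intro x
    obtain ⟨i, y, hy⟩ := hc.surj x
    exact ⟨i, y, hy.symm⟩
  · intro i j xi xj h
    let k₀ := IsFiltered.max i j
    let a : i ⟶ k₀ := IsFiltered.leftToMax i j
    let b : j ⟶ k₀ := IsFiltered.rightToMax i j
    have h0 : (c.ι.app k₀).hom ((G.map a).hom xi - (G.map b).hom xj) = 0 := by
      rw [map_sub, cocone_w_apply, cocone_w_apply, sub_eq_zero]
      exact h
    obtain ⟨k, f, hf⟩ := hc.inj k₀ _ h0
    refine ⟨k, a ≫ f, b ≫ f, ?_⟩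
    rw [map_sub, sub_eq_zero] at hf
    change (G.map (a ≫ f)).hom xi = (G.map (b ≫ f)).hom xj
    rw [G.map_comp, G.map_comp]
    exact hf

/-- common lift of finitely many elements -/
lemma exists_common_lift {α : Type*} [Finite α] (G : α → I ⥤ AddCommGrpCat.{u}) (c : ∀ a, Cocone (G a))
    (hc : ∀ a (x : (c a).pt), ∃ (i : I) (y : (G a).obj i), ((c a).ι.app i).hom y = x)
    (x : ∀ a, (c a).pt) :
    ∃ (k : I) (y : ∀ a, (G a).obj k), ∀ a, ((c a).ι.app k).hom (y a) = x a := by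
  classical
  haveI := Fintype.ofFinite α
  choose i y hy using fun a => hc a (x a)
  obtain ⟨k, hk⟩ := IsFiltered.sup_objs_exists (Finset.univ.image i)
  have hk' : ∀ a, Nonempty (i a ⟶ k) := fun a => hk (Finset.mem_image_of_mem _ (Finset.mem_univ a))
  choose v _ using fun a => (hk' a).elim (fun f => (⟨f, trivial⟩ : ∃ _ : i a ⟶ k, True))
  refine ⟨k, fun a => ((G a).map (v a)).hom (y a), fun a => ?_⟩
  rw [cocone_w_apply, hy]

/-- common killing of finitely many elements -/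
lemma exists_common_kill {α : Type*} [Finite α] (G : α → I ⥤ AddCommGrpCat.{u}) (c : ∀ a, Cocone (G a))
    (hc : ∀ a (i : I) (y : (G a).obj i), ((c a).ι.app i).hom y = 0 →
      ∃ (j : I) (f : i ⟶ j), ((G a).map f).hom y = 0)
    (k : I) (y : ∀ a, (G a).obj k) (hy : ∀ a, ((c a).ι.app k).hom (y a) = 0) :
    ∃ (l : I) (g : k ⟶ l), ∀ a, ((G a).map g).hom (y a) = 0 := by
  classical
  haveI := Fintype.ofFinite α
  suffices h : ∀ s : Finset α, ∃ (l : I) (g : k ⟶ l), ∀ a ∈ s, ((G a).map g).hom (y a) = 0 by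
    obtain ⟨l, g, hg⟩ := h Finset.univ
    exact ⟨l, g, fun a => hg a (Finset.mem_univ a)⟩
  intro s
  induction s using Finset.induction_on with
  | empty => exact ⟨k, 𝟙 k, fun a ha => absurd ha (Finset.notMem_empty a)⟩
  | insert a₀ s _ ih =>
    obtain ⟨l, g, hg⟩ := ih
    have h0 : ((c a₀).ι.app l).hom (((G a₀).map g).hom (y a₀)) = 0 := by
      rw [cocone_w_apply, hy]
    obtain ⟨l', g', hg'⟩ := hc a₀ l _ h0
    refine ⟨l', g ≫ g', fun a ha => ?_⟩
    rw [(G a).map_comp]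
    change ((G a).map g').hom (((G a).map g).hom (y a)) = 0
    rcases Finset.mem_insert.1 ha with rfl | ha
    · exact hg'
    · rw [hg a ha, map_zero]

end AbPart

section ExtPart

variable {𝒜 : Type u} [Category.{v} 𝒜] [Abelian 𝒜] [HasExt.{w} 𝒜]
variable {I : Type*} [Category I]

/-- pushforward on Ext groups -/
noncomputable def push (A : 𝒜) {X Y : 𝒜} (b : X ⟶ Y) (p : ℕ) : Ext.{w} A X p →+ Ext.{w} A Y p :=
  (Ext.mk₀ b).postcomp A (add_zero p)

lemma push_apply (A : 𝒜) {X Y : 𝒜} (b : X ⟶ Y) (p : ℕ) (x : Ext.{w} A X p) :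
    push A b p x = x.comp (Ext.mk₀ b) (add_zero p) := rfl

lemma push_comp (A : 𝒜) {X Y Z : 𝒜} (b : X ⟶ Y) (b' : Y ⟶ Z) (p : ℕ) (x : Ext.{w} A X p) :
    push A (b ≫ b') p x = push A b' p (push A b p x) := by
  rw [push_apply, push_apply, push_apply, Ext.comp_assoc _ _ _ (add_zero p) (add_zero 0) (by omega),
    Ext.mk₀_comp_mk₀]

/-- the connecting map -/
noncomputable def conn (A : 𝒜) {S : ShortComplex 𝒜} (hS : S.ShortExact) (p : ℕ) :
    Ext.{w} A S.X₃ p →+ Ext.{w} A S.X₁ (p + 1) :=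
  hS.extClass.postcomp A rfl

lemma conn_apply (A : 𝒜) {S : ShortComplex 𝒜} (hS : S.ShortExact) (p : ℕ) (x : Ext.{w} A S.X₃ p) :
    conn A hS p x = x.comp hS.extClass rfl := rfl

lemma conn_push (A : 𝒜) {S : ShortComplex 𝒜} (hS : S.ShortExact) (p : ℕ) (x : Ext.{w} A S.X₂ p) :
    conn A hS p (push A S.g p x) = 0 := by
  rw [conn_apply, push_apply, Ext.comp_assoc _ _ _ (add_zero p) (zero_add 1) (by omega),
    hS.comp_extClass, Ext.comp_zero]

lemma conn_naturality (A : 𝒜) {S S' : ShortComplex 𝒜} (hS : S.ShortExact) (hS' : S'.ShortExact)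
    (φ : S ⟶ S') (p : ℕ) (x : Ext.{w} A S.X₃ p) :
    conn A hS' p (push A φ.τ₃ p x) = push A φ.τ₁ (p + 1) (conn A hS p x) := by
  rw [conn_apply, push_apply, conn_apply, push_apply,
    Ext.comp_assoc _ _ _ (add_zero p) (zero_add 1) (by omega),
    ← ShortComplex.ShortExact.extClass_naturality hS hS' φ,
    Ext.comp_assoc _ _ _ rfl (add_zero 1) (by omega)]

lemma exists_conn (A : 𝒜) {S : ShortComplex 𝒜} (hS : S.ShortExact) (p : ℕ) (x : Ext.{w} A S.X₁ (p + 1))
    (hx : push A S.f (p + 1) x = 0) : ∃ y, conn A hS p y = x :=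
  Ext.covariant_sequence_exact₁ A hS x hx rfl

lemma exists_push_g (A : 𝒜) {S : ShortComplex 𝒜} (hS : S.ShortExact) (p : ℕ) (x : Ext.{w} A S.X₃ p)
    (hx : conn A hS p x = 0) : ∃ y, push A S.g p y = x :=
  Ext.covariant_sequence_exact₃ A hS x rfl hx

/-- elementwise "filtered colimit" condition on Ext groups -/
structure GoodExt (A : 𝒜) (p : ℕ) {G : I ⥤ 𝒜} (c : Cocone G) : Prop where
  surj : ∀ x : Ext.{w} A c.pt p, ∃ (i : I) (y : Ext.{w} A (G.obj i) p), push A (c.ι.app i) p y = x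
  inj : ∀ (i : I) (y : Ext.{w} A (G.obj i) p), push A (c.ι.app i) p y = 0 →
      ∃ (j : I) (f : i ⟶ j), push A (G.map f) p y = 0

variable [IsFiltered I]

theorem goodExt_succ (A : 𝒜) (p : ℕ) {F M Q : I ⥤ 𝒜} (φ : F ⟶ M) (ψ : M ⟶ Q)
    (w : ∀ i, φ.app i ≫ ψ.app i = 0)
    (hS : ∀ i, (ShortComplex.mk (φ.app i) (ψ.app i) (w i)).ShortExact)
    (c₁ : Cocone F) (c₂ : Cocone M) (c₃ : Cocone Q)
    (f : c₁.pt ⟶ c₂.pt) (g : c₂.pt ⟶ c₃.pt) (wfg : f ≫ g = 0)
    (hS' : (ShortComplex.mk f g wfg).ShortExact)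
    (hf : ∀ i, c₁.ι.app i ≫ f = φ.app i ≫ c₂.ι.app i)
    (hg : ∀ i, c₂.ι.app i ≫ g = ψ.app i ≫ c₃.ι.app i)
    (hM : ∀ i (x : Ext.{w} A (M.obj i) (p + 1)), x = 0)
    (hM' : ∀ x : Ext.{w} A c₂.pt (p + 1), x = 0)
    (g₂ : GoodExt.{w} A p c₂) (g₃ : GoodExt.{w} A p c₃) : GoodExt.{w} A (p + 1) c₁ := by
  -- morphisms of short complexes
  let toInf : ∀ i, ShortComplex.mk (φ.app i) (ψ.app i) (w i) ⟶ ShortComplex.mk f g wfg := fun i =>
    { τ₁ := c₁.ι.app i, τ₂ := c₂.ι.app i, τ₃ := c₃.ι.app i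
      comm₁₂ := hf i
      comm₂₃ := hg i }
  let trans : ∀ {i j : I} (a : i ⟶ j),
      ShortComplex.mk (φ.app i) (ψ.app i) (w i) ⟶ ShortComplex.mk (φ.app j) (ψ.app j) (w j) :=
    fun {i j} a =>
    { τ₁ := F.map a, τ₂ := M.map a, τ₃ := Q.map a
      comm₁₂ := φ.naturality a
      comm₂₃ := ψ.naturality a }
  have natInf : ∀ i (z : Ext.{w} A (Q.obj i) p),
      conn A hS' p (push A (c₃.ι.app i) p z) = push A (c₁.ι.app i) (p + 1) (conn A (hS i) p z) :=
    fun i z => conn_naturality A (hS i) hS' (toInf i) p z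
  have natTr : ∀ {i j : I} (a : i ⟶ j) (z : Ext.{w} A (Q.obj i) p),
      conn A (hS j) p (push A (Q.map a) p z) = push A (F.map a) (p + 1) (conn A (hS i) p z) :=
    fun {i j} a z => conn_naturality A (hS i) (hS j) (trans a) p z
  constructor
  · intro x
    obtain ⟨x₃, hx₃⟩ : ∃ x₃ : Ext.{w} A c₃.pt p, conn A hS' p x₃ = x := exists_conn A hS' p x (hM' _)
    obtain ⟨i, y, hy⟩ := g₃.surj x₃
    refine ⟨i, conn A (hS i) p y, ?_⟩
    rw [← natInf, hy, hx₃]
  · intro i y hy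
    obtain ⟨z, hz⟩ : ∃ z : Ext.{w} A (Q.obj i) p, conn A (hS i) p z = y :=
      exists_conn A (hS i) p y (hM i _)
    have h1 : conn A hS' p (push A (c₃.ι.app i) p z) = 0 := by
      rw [natInf, hz, hy]
    obtain ⟨m, hm⟩ : ∃ m : Ext.{w} A c₂.pt p, push A g p m = push A (c₃.ι.app i) p z :=
      exists_push_g A hS' p _ h1
    obtain ⟨j, mj, hmj⟩ := g₂.surj m
    let k := IsFiltered.max i j
    let a : i ⟶ k := IsFiltered.leftToMax i j
    let b : j ⟶ k := IsFiltered.rightToMax i j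
    have he : push A (c₃.ι.app k) p
        (push A (Q.map a) p z - push A (ψ.app k) p (push A (M.map b) p mj)) = 0 := by
      rw [map_sub, ← push_comp, ← push_comp, ← push_comp, c₃.w, sub_eq_zero, ← hm, ← hmj, ← push_comp,
        ← hg k, ← Category.assoc, c₂.w]
    obtain ⟨l, c, hc⟩ := g₃.inj k _ he
    rw [map_sub, sub_eq_zero, ← push_comp, ← push_comp, ← push_comp] at hc
    refine ⟨l, a ≫ c, ?_⟩
    have h2 := natTr (a ≫ c) z
    rw [hz] at h2
    rw [← h2, Q.map_comp, hc, ← ψ.naturality, ← Category.assoc, push_comp]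
    exact conn_push A (hS l) p _

end ExtPart


end Groth.Agent.Lib.Helper16.FiltColim
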