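import Mathlib

set_option autoImplicit false
set_option linter.style.haveILetI false
set_option linter.unusedSectionVars false
universe w v u
open CategoryTheory CategoryTheory.Limits Opposite Abelian ZeroObject

namespace Groth.Agent.Lib.Helper16.FunctInj

variable (𝒜 : Type u) [Category.{v} 𝒜] [Abelian 𝒜] [IsGrothendieckAbelian.{w} 𝒜]

/-- `X ↦ (X ⟶ 0)` -/
noncomputable def toArrow : 𝒜 ⥤ Arrow 𝒜 where
  obj X := Arrow.mk (0 : X ⟶ (0 : 𝒜))
  map {X Y} φ := Arrow.homMk φ (𝟙 (0 : 𝒜)) (by simp)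

/-- the factorization data -/
noncomputable def fdata : MorphismProperty.FunctorialFactorizationData
    (MorphismProperty.monomorphisms 𝒜) (MorphismProperty.monomorphisms 𝒜).rlp :=
  MorphismProperty.functorialFactorizationData _ _

/-- a functorial injective embedding -/
noncomputable def Inj : 𝒜 ⥤ 𝒜 := toArrow 𝒜 ⋙ (fdata.{w} 𝒜).Z

/-- the embedding -/
noncomputable def ιInj : 𝟭 𝒜 ⟶ Inj.{w} 𝒜 where
  app X := (fdata.{w} 𝒜).i.app ((toArrow 𝒜).obj X)
  naturality _ _ φ := (fdata.{w} 𝒜).i.naturality ((toArrow 𝒜).map φ)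

instance mono_ιInj (X : 𝒜) : Mono ((ιInj.{w} 𝒜).app X) :=
  (fdata.{w} 𝒜).hi ((toArrow 𝒜).obj X)

instance injective_Inj (X : 𝒜) : Injective ((Inj.{w} 𝒜).obj X) :=
  (injective_iff_rlp_monomorphisms_of_isZero ((fdata.{w} 𝒜).p.app ((toArrow 𝒜).obj X)) (isZero_zero 𝒜)).2
    ((fdata.{w} 𝒜).hp ((toArrow 𝒜).obj X))

section Diagram

variable {𝒜} {I : Type w} [SmallCategory I] (F : I ⥤ 𝒜)

/-- the functorial embedding of a diagram -/
noncomputable def embed : F ⟶ F ⋙ Inj.{w} 𝒜 where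
  app i := (ιInj.{w} 𝒜).app (F.obj i)
  naturality _ _ f := (ιInj.{w} 𝒜).naturality (F.map f)

instance mono_embed : Mono (embed.{w} F) := by
  haveI : ∀ i, Mono ((embed.{w} F).app i) := fun i => mono_ιInj 𝒜 (F.obj i)
  exact NatTrans.mono_of_mono_app _

/-- the short exact sequence `0 → F → Inj F → Q → 0` of diagrams -/
noncomputable def sc : ShortComplex (I ⥤ 𝒜) :=
  ShortComplex.mk (embed.{w} F) (cokernel.π (embed.{w} F)) (cokernel.condition _)

lemma sc_shortExact : (sc.{w} F).ShortExact :=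
  ShortComplex.ShortExact.mk' (ShortComplex.exact_cokernel _) (mono_embed F)
    (inferInstanceAs (Epi (cokernel.π (embed.{w} F))))

lemma sc_shortExact_eval (i : I) :
    (ShortComplex.mk ((sc.{w} F).f.app i) ((sc.{w} F).g.app i)
      (by rw [← NatTrans.comp_app, (sc.{w} F).zero]; rfl)).ShortExact :=
  (sc_shortExact.{w} F).map_of_exact ((evaluation I 𝒜).obj i)

lemma sc_shortExact_colim [IsFiltered I] :
    (ShortComplex.mk (colimMap (sc.{w} F).f) (colimMap (sc.{w} F).g)
      (by rw [← colim_map, ← colim_map, ← Functor.map_comp, (sc.{w} F).zero, Functor.map_zero])).ShortExact :=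
  (sc_shortExact.{w} F).map_of_exact (colim : (I ⥤ 𝒜) ⥤ 𝒜)

instance injective_sc_X₂ (i : I) : Injective ((sc.{w} F).X₂.obj i) := injective_Inj 𝒜 (F.obj i)

end Diagram

end Groth.Agent.Lib.Helper16.FunctInj
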