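import Mathlib
import Groth.Agent.Lib.Helper16FiltColim
import Groth.Agent.S0859
import Groth.Agent.Lib.Helper21Cech4
import Groth.Agent.Lib.Helper16CechLow

set_option autoImplicit false
set_option linter.style.haveILetI false
set_option linter.unusedSectionVars false
universe u
open CategoryTheory CategoryTheory.Limits Opposite Abelian

namespace Groth.Agent.Lib.Helper16.QcSect

open Groth.Agent.Lib.Helper16.FiltColim Groth.Agent.Lib.Helper21.Cech

variable {C : Type u} [SmallCategory C] (J : GrothendieckTopology C)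

/-- quasi-compact objects: every covering sieve contains a finite covering family -/
def QC (W : C) : Prop :=
  ∀ T ∈ J W, ∃ (ι : Type u) (_ : Finite ι) (Y : ι → Over W), (∀ i, T.arrows (Y i).hom) ∧
    Sieve.ofArrows (fun i => (Y i).left) (fun i => (Y i).hom) ∈ J W

/-- retracts of quasi-compact objects -/
def QCr (W : C) : Prop :=
  ∃ (W' : C) (φ : W ⟶ W') (ψ : W' ⟶ W), φ ≫ ψ = 𝟙 W ∧ QC J W'

/-- quasi-compact objects with quasi-compact overlaps of the finite subcovers -/
def QC2 [HasPullbacks C] (W : C) : Prop :=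
  ∀ T ∈ J W, ∃ (ι : Type u) (_ : Finite ι) (Y : ι → Over W), (∀ i, T.arrows (Y i).hom) ∧
    Sieve.ofArrows (fun i => (Y i).left) (fun i => (Y i).hom) ∈ J W ∧
    ∀ a b, QCr J (pullback (Y a).hom (Y b).hom)

variable {I : Type u} [SmallCategory I] [IsFiltered I] (F : I ⥤ Sheaf J AddCommGrpCat.{u})
  (E : Cocone (F ⋙ sheafToPresheaf J AddCommGrpCat.{u})) (hE : IsColimit E)

/-- the evaluated cocone -/
noncomputable abbrev evCocone (W : C) :
    Cocone ((F ⋙ sheafToPresheaf J AddCommGrpCat.{u}) ⋙ (evaluation Cᵒᵖ AddCommGrpCat.{u}).obj (op W)) :=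
  ((evaluation Cᵒᵖ AddCommGrpCat.{u}).obj (op W)).mapCocone E

include hE in
lemma good_evCocone (W : C) : Good (evCocone J F E W) :=
  good_of_isColimit (isColimitOfPreserves _ hE)

include hE in
lemma rep (W : C) (x : E.pt.obj (op W)) :
    ∃ (i : I) (y : (F.obj i).obj.obj (op W)), ((E.ι.app i).app (op W)).hom y = x :=
  (good_evCocone J F E hE W).surj x

include hE in
lemma eq0 (W : C) (i : I) (y : (F.obj i).obj.obj (op W)) (hy : ((E.ι.app i).app (op W)).hom y = 0) :
    ∃ (j : I) (f : i ⟶ j), ((F.map f).hom.app (op W)).hom y = 0 :=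
  (good_evCocone J F E hE W).inj i y hy

lemma ι_map {W V : C} (g : V ⟶ W) (i : I) (y : (F.obj i).obj.obj (op W)) :
    (E.pt.map g.op).hom (((E.ι.app i).app (op W)).hom y) =
      ((E.ι.app i).app (op V)).hom (((F.obj i).obj.map g.op).hom y) :=
  (ConcreteCategory.congr_hom ((E.ι.app i).naturality g.op) y).symm

lemma ι_w {i j : I} (f : i ⟶ j) (W : C) (y : (F.obj i).obj.obj (op W)) :
    ((E.ι.app j).app (op W)).hom (((F.map f).hom.app (op W)).hom y) = ((E.ι.app i).app (op W)).hom y := by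
  have := E.w f
  rw [← this]
  rfl

lemma Fmap_map {i j : I} (f : i ⟶ j) {W V : C} (g : V ⟶ W) (y : (F.obj i).obj.obj (op W)) :
    ((F.obj j).obj.map g.op).hom (((F.map f).hom.app (op W)).hom y) =
      ((F.map f).hom.app (op V)).hom (((F.obj i).obj.map g.op).hom y) :=
  (ConcreteCategory.congr_hom ((F.map f).hom.naturality g.op) y).symm

lemma toSheafify_map {P : Cᵒᵖ ⥤ AddCommGrpCat.{u}} {W V : C} (g : V ⟶ W) (s : P.obj (op W)) :
    ((sheafify J P).map g.op).hom (((toSheafify J P).app (op W)).hom s) =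
      ((toSheafify J P).app (op V)).hom ((P.map g.op).hom s) :=
  (ConcreteCategory.congr_hom ((toSheafify J P).naturality g.op) s).symm

section
variable [HasPullbacks C]

include hE in
lemma toSheafify_injective_of_QC (W : C) (hW : QC J W) (s : E.pt.obj (op W))
    (hs : ((toSheafify J E.pt).app (op W)).hom s = 0) : s = 0 := by
  have hli : Presheaf.IsLocallyInjective J (toSheafify J E.pt) := inferInstance
  have hT := hli.equalizerSieve_mem s 0 (by rw [map_zero]; exact hs)
  obtain ⟨ι, hfin, Y, hYT, hY⟩ := hW _ hT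
  obtain ⟨i, y, rfl⟩ := rep J F E hE W s
  have h1 : ∀ a, ((E.ι.app i).app (op (Y a).left)).hom (((F.obj i).obj.map (Y a).hom.op).hom y) = 0 := by
    intro a
    rw [← ι_map]
    have h := hYT a
    change (E.pt.map (Y a).hom.op).hom _ = (E.pt.map (Y a).hom.op).hom 0 at h
    rw [map_zero] at h
    exact h
  obtain ⟨l, g, hg⟩ := exists_common_kill
    (fun a => (F ⋙ sheafToPresheaf J AddCommGrpCat.{u}) ⋙
      (evaluation Cᵒᵖ AddCommGrpCat.{u}).obj (op (Y a).left))
    (fun a => evCocone J F E (Y a).left) (fun a => (good_evCocone J F E hE _).inj) i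
    (fun a => ((F.obj i).obj.map (Y a).hom.op).hom y) h1
  have h2 : ((F.map g).hom.app (op W)).hom y = 0 := by
    apply Groth.Agent.S0859.sep_site Y hY (F.obj l)
    intro a
    rw [map_zero]
    exact (Fmap_map J F g (Y a).hom y).trans (hg a)
  rw [← ι_w J F E g, h2, map_zero]

include hE in
lemma toSheafify_injective_of_QCr (W : C) (hW : QCr J W) (s : E.pt.obj (op W))
    (hs : ((toSheafify J E.pt).app (op W)).hom s = 0) : s = 0 := by
  obtain ⟨W', φ, ψ, hφψ, hW'⟩ := hW
  have h1 : (E.pt.map ψ.op).hom s = 0 := by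
    apply toSheafify_injective_of_QC J F E hE W' hW'
    rw [← toSheafify_map, hs, map_zero]
  have h2 : (E.pt.map φ.op).hom ((E.pt.map ψ.op).hom s) = s := by
    rw [← ConcreteCategory.comp_apply, ← Functor.map_comp, ← op_comp, hφψ, op_id]
    exact ConcreteCategory.congr_hom (E.pt.map_id (op W)) s
  rw [← h2, h1, map_zero]

include hE in
lemma toSheafify_surjective_of_QC2 (W : C) (hW : QC2 J W) (t : (sheafify J E.pt).obj (op W)) :
    ∃ s : E.pt.obj (op W), ((toSheafify J E.pt).app (op W)).hom s = t := by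
  have hls : Presheaf.IsLocallySurjective J (toSheafify J E.pt) := inferInstance
  have hT := hls.imageSieve_mem t
  obtain ⟨ι, hfin, Y, hYT, hY, hQC⟩ := hW _ hT
  choose s hs using hYT
  obtain ⟨k, y, hy⟩ := exists_common_lift
    (fun a => (F ⋙ sheafToPresheaf J AddCommGrpCat.{u}) ⋙
      (evaluation Cᵒᵖ AddCommGrpCat.{u}).obj (op (Y a).left))
    (fun a => evCocone J F E (Y a).left) (fun a => (good_evCocone J F E hE _).surj) s
  change ∀ a, ((E.ι.app k).app (op (Y a).left)).hom (y a) = s a at hy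
  -- overlaps
  have hov : ∀ ab : ι × ι, ((E.ι.app k).app (op (pullback (Y ab.1).hom (Y ab.2).hom))).hom
      (((F.obj k).obj.map (pullback.fst (Y ab.1).hom (Y ab.2).hom).op).hom (y ab.1) -
        ((F.obj k).obj.map (pullback.snd (Y ab.1).hom (Y ab.2).hom).op).hom (y ab.2)) = 0 := by
    rintro ⟨a, b⟩
    apply toSheafify_injective_of_QCr J F E hE _ (hQC a b)
    rw [map_sub, map_sub, ← ι_map, ← ι_map, hy, hy, ← toSheafify_map, ← toSheafify_map, hs, hs,
      sub_eq_zero]
    rw [← ConcreteCategory.comp_apply, ← ConcreteCategory.comp_apply, ← Functor.map_comp,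
      ← Functor.map_comp, ← op_comp, ← op_comp, pullback.condition]
  obtain ⟨l, g, hg⟩ := exists_common_kill (α := ι × ι)
    (fun ab => (F ⋙ sheafToPresheaf J AddCommGrpCat.{u}) ⋙
      (evaluation Cᵒᵖ AddCommGrpCat.{u}).obj (op (pullback (Y ab.1).hom (Y ab.2).hom)))
    (fun ab => evCocone J F E (pullback (Y ab.1).hom (Y ab.2).hom))
    (fun ab => (good_evCocone J F E hE _).inj) k _ hov
  have hg' : ∀ a b, ((F.obj l).obj.map (pullback.fst (Y a).hom (Y b).hom).op).hom
        (((F.map g).hom.app (op (Y a).left)).hom (y a)) =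
      ((F.obj l).obj.map (pullback.snd (Y a).hom (Y b).hom).op).hom
        (((F.map g).hom.app (op (Y b).left)).hom (y b)) := by
    intro a b
    have h := hg (a, b)
    change ((F.map g).hom.app (op (pullback (Y a).hom (Y b).hom))).hom _ = 0 at h
    rw [map_sub, sub_eq_zero] at h
    rw [Fmap_map, Fmap_map]
    exact h
  obtain ⟨tt, htt⟩ := Groth.Agent.S0859.glue_site Y hY (F.obj l)
    (fun a => ((F.map g).hom.app (op (Y a).left)).hom (y a)) (by
      intro a b Z ga gb hab
      obtain ⟨L, hL⟩ : ∃ L : Z ⟶ pullback (Y a).hom (Y b).hom, L = pullback.lift ga gb hab := ⟨_, rfl⟩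
      have e1 : L ≫ pullback.fst (Y a).hom (Y b).hom = ga := by rw [hL]; exact pullback.lift_fst _ _ _
      have e2 : L ≫ pullback.snd (Y a).hom (Y b).hom = gb := by rw [hL]; exact pullback.lift_snd _ _ _
      have m1 : (F.obj l).obj.map ga.op =
          (F.obj l).obj.map (pullback.fst (Y a).hom (Y b).hom).op ≫ (F.obj l).obj.map L.op := by
        rw [← Functor.map_comp, ← op_comp, e1]
      have m2 : (F.obj l).obj.map gb.op =
          (F.obj l).obj.map (pullback.snd (Y a).hom (Y b).hom).op ≫ (F.obj l).obj.map L.op := by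
        rw [← Functor.map_comp, ← op_comp, e2]
      rw [m1, m2]
      change ((F.obj l).obj.map L.op).hom _ = ((F.obj l).obj.map L.op).hom _
      exact congrArg _ (hg' a b))
  refine ⟨((E.ι.app l).app (op W)).hom tt, ?_⟩
  apply Groth.Agent.S0859.sep_site Y hY ((presheafToSheaf J AddCommGrpCat.{u}).obj E.pt)
  intro a
  change ((sheafify J E.pt).map (Y a).hom.op).hom _ = ((sheafify J E.pt).map (Y a).hom.op).hom t
  rw [toSheafify_map, ι_map]
  have h3 : ((F.obj l).obj.map (Y a).hom.op).hom tt = ((F.map g).hom.app (op (Y a).left)).hom (y a) :=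
    htt a
  rw [h3, ι_w, hy, hs]

end

lemma QC_of_QC2 [HasPullbacks C] (W : C) (hW : QC2 J W) : QC J W := by
  intro T hT
  obtain ⟨ι, hfin, Y, hYT, hY, _⟩ := hW T hT
  exact ⟨ι, hfin, Y, hYT, hY⟩

/-- the sections functor -/
noncomputable abbrev Γ (W : C) : Sheaf J AddCommGrpCat.{u} ⥤ AddCommGrpCat.{u} :=
  sheafToPresheaf J AddCommGrpCat.{u} ⋙ (evaluation Cᵒᵖ AddCommGrpCat.{u}).obj (op W)

section
variable [HasPullbacks C]

include hE in
lemma good_sections (W : C) (hW : QC2 J W) : Good ((Γ J W).mapCocone (Sheaf.sheafifyCocone E)) := by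
  have hι : ∀ (i : I) (y : (F.obj i).obj.obj (op W)),
      ((((Γ J W).mapCocone (Sheaf.sheafifyCocone E)).ι.app i)).hom y =
        ((toSheafify J E.pt).app (op W)).hom (((E.ι.app i).app (op W)).hom y) := by
    intro i y
    change (((Sheaf.sheafifyCocone E).ι.app i).hom.app (op W)).hom y = _
    rw [Sheaf.sheafifyCocone_ι_app_val]
    rfl
  constructor
  · intro t
    obtain ⟨s, hs⟩ := toSheafify_surjective_of_QC2 J F E hE W hW t
    obtain ⟨i, y, hy⟩ := rep J F E hE W s
    exact ⟨i, y, (hι i y).trans ((congrArg _ hy).trans hs)⟩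
  · intro i y hy
    have h1 := toSheafify_injective_of_QC J F E hE W (QC_of_QC2 J W hW) _ ((hι i y).symm.trans hy)
    exact eq0 J F E hE W i y h1

lemma preservesColimit_sections (W : C) (hW : QC2 J W) : PreservesColimit F (Γ J W) := by
  have hE' := colimit.isColimit (F ⋙ sheafToPresheaf J AddCommGrpCat.{u})
  exact preservesColimit_of_preserves_colimit_cocone (Sheaf.isColimitSheafifyCocone _ hE')
    (isColimitOfGood (good_sections J F _ hE' W hW))

lemma good_sections' (W : C) (hW : QC2 J W) (c : Cocone F) (hc : IsColimit c) :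
    Good ((Γ J W).mapCocone c) := by
  haveI := preservesColimit_sections J F W hW
  exact good_of_isColimit (isColimitOfPreserves (Γ J W) hc)

lemma evalGen_comp {G G' : Sheaf J AddCommGrpCat.{u}} (W : C) (ψ : CohCx.freeSheaf J W ⟶ G) (φ : G ⟶ G') :
    CohFree.evalGen J W G' (ψ ≫ φ) = (φ.hom.app (op W)).hom (CohFree.evalGen J W G ψ) := rfl

lemma goodExt_zero (W : C) (hW : QC2 J W) (c : Cocone F) (hc : IsColimit c) :
    GoodExt.{u} (CohCx.freeSheaf J W) 0 c := by
  have hg := good_sections' J F W hW c hc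
  constructor
  · intro x
    obtain ⟨φ, rfl⟩ := (Ext.mk₀_bijective _ _).2 x
    obtain ⟨i, y, hy⟩ := hg.surj (CohFree.evalGen J W _ φ)
    change ((c.ι.app i).hom.app (op W)).hom y = _ at hy
    refine ⟨i, Ext.mk₀ (CohFree.ofSect J W _ y), ?_⟩
    rw [push_apply, Ext.mk₀_comp_mk₀]
    congr 1
    apply (CohFree.homEquivSect J W _).injective
    rw [CohFree.homEquivSect_apply, CohFree.homEquivSect_apply, evalGen_comp, CohFree.evalGen_ofSect, hy]
    rfl
  · intro i y hy
    obtain ⟨ψ, rfl⟩ := (Ext.mk₀_bijective _ _).2 y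
    rw [push_apply, Ext.mk₀_comp_mk₀] at hy
    have h0 : ψ ≫ c.ι.app i = 0 := by
      apply (Ext.mk₀_bijective _ _).1
      rw [hy, Ext.mk₀_zero]
    have h1 : ((c.ι.app i).hom.app (op W)).hom (CohFree.evalGen J W _ ψ) = 0 := by
      rw [← evalGen_comp, h0, map_zero]
    obtain ⟨j, f, hf⟩ := hg.inj i _ h1
    change ((F.map f).hom.app (op W)).hom _ = 0 at hf
    refine ⟨j, f, ?_⟩
    rw [push_apply, Ext.mk₀_comp_mk₀]
    have h2 : ψ ≫ F.map f = 0 := by
      apply (CohFree.homEquivSect J W _).injective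
      rw [CohFree.homEquivSect_apply, evalGen_comp, hf, map_zero]
    rw [h2, Ext.mk₀_zero]

end

section CechColim
variable [HasPullbacks C] {U : C} {ι : Type u} [Finite ι] (Y : ι → Over U)
variable (c : Cocone F) (hc : IsColimit c)

lemma cx_exists_of_isZero (P : Cᵒᵖ ⥤ AddCommGrpCat.{u}) (n : ℕ) (h : IsZero (CohCx.cechH P Y (n + 1)))
    (z : (CechEdge.cx P Y).X (n + 1)) (hz : ((CechEdge.cx P Y).d (n + 1) (n + 2)).hom z = 0) :
    ∃ b : (CechEdge.cx P Y).X n, ((CechEdge.cx P Y).d n (n + 1)).hom b = z :=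
  Groth.Agent.Lib.Helper16.CechLow.exists_of_isZero_homology Y ((Over.forget U).op ⋙ P) n h z hz

lemma cx_isZero_of_exists (P : Cᵒᵖ ⥤ AddCommGrpCat.{u}) (n : ℕ)
    (h : ∀ z : (CechEdge.cx P Y).X (n + 1), ((CechEdge.cx P Y).d (n + 1) (n + 2)).hom z = 0 →
      ∃ b : (CechEdge.cx P Y).X n, ((CechEdge.cx P Y).d n (n + 1)).hom b = z) :
    IsZero (CohCx.cechH P Y (n + 1)) := by
  change IsZero ((CechEdge.cx P Y).homology (n + 1))
  rw [← HomologicalComplex.exactAt_iff_isZero_homology,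
    HomologicalComplex.exactAt_iff' (CechEdge.cx P Y) n (n + 1) (n + 2) (by simp) (by simp),
    ShortComplex.ab_exact_iff]
  exact h

lemma cxMap_proj_apply {P Q : Cᵒᵖ ⥤ AddCommGrpCat.{u}} (φ : P ⟶ Q) (n : ℕ) (a : Fin (n + 1) → ι)
    (z : (CechEdge.cx P Y).X n) :
    (proj Y Q n a).hom ((((CechEdge.cxFunctor Y).map φ).f n).hom z) =
      (φ.app (op (fp Y a).left)).hom ((proj Y P n a).hom z) :=
  ConcreteCategory.congr_hom (cxMap_proj Y φ n a) z

lemma cxMap_d_apply {P Q : Cᵒᵖ ⥤ AddCommGrpCat.{u}} (φ : P ⟶ Q) (n m : ℕ)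
    (z : (CechEdge.cx P Y).X n) :
    ((CechEdge.cx Q Y).d n m).hom ((((CechEdge.cxFunctor Y).map φ).f n).hom z) =
      (((CechEdge.cxFunctor Y).map φ).f m).hom (((CechEdge.cx P Y).d n m).hom z) :=
  ConcreteCategory.congr_hom (((CechEdge.cxFunctor Y).map φ).comm n m) z

include hc in
lemma isZero_cechH_colimit (hQC : ∀ (n : ℕ) (a : Fin (n + 1) → ι), QC2 J (fp Y a).left) (q : ℕ)
    (hF : ∀ i, IsZero (CohCx.cechH (F.obj i).obj Y (q + 1))) :
    IsZero (CohCx.cechH c.pt.obj Y (q + 1)) := by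
  apply cx_isZero_of_exists
  intro z hz
  obtain ⟨leg, hleg⟩ : ∃ leg : ∀ i, (F.obj i).obj ⟶ c.pt.obj, ∀ i, leg i = (c.ι.app i).hom :=
    ⟨_, fun _ => rfl⟩
  have hlegw : ∀ {i j : I} (f : i ⟶ j), (F.map f).hom ≫ leg j = leg i := by
    intro i j f
    rw [hleg, hleg, ← ObjectProperty.FullSubcategory.comp_hom, c.w]
  -- step a: lift the components
  obtain ⟨k, y, hy⟩ := exists_common_lift (α := Fin (q + 1 + 1) → ι)
    (fun a => F ⋙ Γ J (fp Y a).left) (fun a => (Γ J (fp Y a).left).mapCocone c)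
    (fun a => (good_sections' J F _ (hQC _ a) c hc).surj) (fun a => (proj Y c.pt.obj (q + 1) a).hom z)
  replace hy : ∀ a, ((leg k).app (op (fp Y a).left)).hom (y a) = (proj Y c.pt.obj (q + 1) a).hom z := by
    intro a
    rw [hleg]
    exact hy a
  obtain ⟨z', hz'⟩ : ∃ z' : (CechEdge.cx (F.obj k).obj Y).X (q + 1), z' = mkX Y (F.obj k).obj y := ⟨_, rfl⟩
  have h1 : (((CechEdge.cxFunctor Y).map (leg k)).f (q + 1)).hom z' = z := by
    apply X_ext
    intro a
    rw [cxMap_proj_apply, hz', proj_mkX, hy]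
  -- step b: kill the differential
  have h2 : ∀ b : Fin (q + 2 + 1) → ι, ((leg k).app (op (fp Y b).left)).hom
      ((proj Y (F.obj k).obj (q + 2) b).hom (((CechEdge.cx (F.obj k).obj Y).d (q + 1) (q + 2)).hom z')) = 0 := by
    intro b
    rw [← cxMap_proj_apply, ← cxMap_d_apply, h1, hz, map_zero]
  obtain ⟨l, g, hg⟩ := exists_common_kill (α := Fin (q + 2 + 1) → ι)
    (fun a => F ⋙ Γ J (fp Y a).left) (fun a => (Γ J (fp Y a).left).mapCocone c)
    (fun a => (good_sections' J F _ (hQC _ a) c hc).inj) k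
    (fun b => (proj Y (F.obj k).obj (q + 2) b).hom (((CechEdge.cx (F.obj k).obj Y).d (q + 1) (q + 2)).hom z'))
    (by intro b; have := h2 b; rw [hleg] at this; exact this)
  change ∀ b, ((F.map g).hom.app (op (fp Y b).left)).hom _ = 0 at hg
  have h3 : ((CechEdge.cx (F.obj l).obj Y).d (q + 1) (q + 2)).hom
      ((((CechEdge.cxFunctor Y).map (F.map g).hom).f (q + 1)).hom z') = 0 := by
    rw [cxMap_d_apply]
    apply X_ext
    intro b
    rw [cxMap_proj_apply, hg, map_zero]
  -- step c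
  obtain ⟨v, hv⟩ := cx_exists_of_isZero Y (F.obj l).obj q (hF l) _ h3
  refine ⟨(((CechEdge.cxFunctor Y).map (leg l)).f q).hom v, ?_⟩
  rw [cxMap_d_apply, hv, ← h1, ← hlegw g, Functor.map_comp]
  rfl

end CechColim


end Groth.Agent.Lib.Helper16.QcSect
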