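import Mathlib
import Groth.Agent.Lib.Helper16DimShift

/-!
# Dimension shifting with an explicit class (helper16)

For resolution-like data `0 → Z k → J k → Z (k+1) → 0` we define the Yoneda class
`cls p ∈ Ext^{p+1}(Z (p+1), Z 0)` (the splice of the first `p+1` sequences) and show that
`Hom(A, Z (p+1)) → Ext^{p+1}(A, Z 0)`, `φ ↦ φ · cls p`, is surjective with kernel the maps factoring through
`J p`, whenever `Ext^{>0}(A, J k) = 0`.  Being given by composition with a fixed class, this map is natural in `A`.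
-/

set_option autoImplicit false
set_option linter.style.haveILetI false
set_option linter.unusedSectionVars false
universe w v u
open CategoryTheory CategoryTheory.Limits Abelian

namespace Groth.Agent.Lib.Helper16.DimShift

variable {𝒜 : Type u} [Category.{v} 𝒜] [Abelian 𝒜] [HasExt.{w} 𝒜]

/-- the class in `Ext^{p+1}(Z (p+1), Z 0)` obtained by splicing. -/
noncomputable def Data.cls : ∀ (p : ℕ) (D : Data 𝒜), Ext.{w} (D.Z (p + 1)) (D.Z 0) (p + 1)
  | 0, D => (D.hS 0).extClass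
  | p + 1, D => (Data.cls p D.shift).comp (D.hS 0).extClass rfl

lemma Data.cls_zero (D : Data 𝒜) : D.cls 0 = (D.hS 0).extClass := rfl

lemma Data.cls_succ (D : Data 𝒜) (p : ℕ) :
    D.cls (p + 1) = (D.shift.cls p).comp (D.hS 0).extClass rfl := rfl

/-- `δ_p : Hom(A, Z (p+1)) → Ext^{p+1}(A, Z 0)`, composition with `cls p`. -/
noncomputable def Data.δ (D : Data 𝒜) (A : 𝒜) (p : ℕ) : (A ⟶ D.Z (p + 1)) →+ Ext.{w} A (D.Z 0) (p + 1) :=
  ((D.cls p).postcomp A (zero_add (p + 1))).comp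
    (Ext.addEquiv₀ (X := A) (Y := D.Z (p + 1))).symm.toAddMonoidHom

lemma Data.δ_apply (D : Data 𝒜) (A : 𝒜) (p : ℕ) (φ : A ⟶ D.Z (p + 1)) :
    D.δ A p φ = (Ext.mk₀ φ).comp (D.cls p) (zero_add (p + 1)) := rfl

lemma Data.δ_succ (D : Data 𝒜) (A : 𝒜) (p : ℕ) (φ : A ⟶ D.Z (p + 2)) :
    D.δ A (p + 1) φ = (D.shift.δ A p φ).comp (D.hS 0).extClass rfl := by
  rw [Data.δ_apply, Data.δ_apply, Data.cls_succ]
  exact (Ext.comp_assoc _ _ _ (zero_add (p + 1)) rfl (by omega)).symm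

theorem ds_one' (D : Data 𝒜) (A : 𝒜) (hJ : Subsingleton (Ext.{w} A (D.J 0) 1)) :
    Function.Surjective (D.δ A 0) ∧ (D.δ A 0).ker = (Preadditive.rightComp A (D.g 0)).range := by
  have hδ : ∀ φ : A ⟶ D.Z 1, D.δ A 0 φ = (Ext.mk₀ φ).comp (D.hS 0).extClass (zero_add 1) := fun φ => rfl
  refine ⟨?_, ?_⟩
  · intro x
    obtain ⟨x₃, hx₃⟩ := Ext.covariant_sequence_exact₁ A (D.hS 0) x (Subsingleton.elim _ _) (n₀ := 0) rfl
    obtain ⟨φ, rfl⟩ := (Ext.mk₀_bijective _ _).2 x₃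
    exact ⟨φ, hx₃⟩
  · ext φ
    rw [AddMonoidHom.mem_ker, AddMonoidHom.mem_range, hδ]
    constructor
    · intro h
      obtain ⟨x₂, hx₂⟩ := Ext.covariant_sequence_exact₃ A (D.hS 0) (Ext.mk₀ φ) (n₁ := 1) rfl h
      obtain ⟨ψ, rfl⟩ := (Ext.mk₀_bijective _ _).2 x₂
      rw [Ext.mk₀_comp_mk₀] at hx₂
      exact ⟨ψ, (Ext.mk₀_bijective _ _).1 hx₂⟩
    · rintro ⟨ψ, rfl⟩
      change (Ext.mk₀ (ψ ≫ D.g 0)).comp _ _ = 0
      rw [← Ext.mk₀_comp_mk₀, Ext.comp_assoc _ _ _ (zero_add 0) (zero_add 1) (by omega),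
        (D.hS 0).comp_extClass, Ext.comp_zero]

lemma bijective_postcomp_extClass (D : Data 𝒜) (A : 𝒜) (p : ℕ)
    (hJ1 : Subsingleton (Ext.{w} A (D.J 0) (p + 1)))
    (hJ2 : Subsingleton (Ext.{w} A (D.J 0) (p + 2))) :
    Function.Bijective ((D.hS 0).extClass.postcomp A (rfl : p + 1 + 1 = p + 2)) := by
  constructor
  · rw [injective_iff_map_eq_zero]
    intro x hx
    obtain ⟨x₂, hx₂⟩ := Ext.covariant_sequence_exact₃ A (D.hS 0) x rfl hx
    rw [← hx₂, Subsingleton.elim x₂ 0, Ext.zero_comp]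
  · intro y
    obtain ⟨x₃, hx₃⟩ := Ext.covariant_sequence_exact₁ A (D.hS 0) y (Subsingleton.elim _ _) (n₀ := p + 1) rfl
    exact ⟨x₃, hx₃⟩

/-- **Dimension shifting, explicit form**: `δ_p` is surjective with kernel the maps factoring through `J p`. -/
theorem ds' (A : 𝒜) (p : ℕ) : ∀ (D : Data 𝒜) (_ : ∀ k q, Subsingleton (Ext.{w} A (D.J k) (q + 1))),
    Function.Surjective (D.δ A p) ∧ (D.δ A p).ker = (Preadditive.rightComp A (D.g p)).range := by
  induction p with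
  | zero => exact fun D hJ => ds_one' D A (hJ 0 0)
  | succ p ih =>
    intro D hJ
    obtain ⟨hs, hk⟩ := ih D.shift (fun k q => hJ (k + 1) q)
    have hb := bijective_postcomp_extClass D A p (hJ 0 p) (hJ 0 (p + 1))
    have hδ : ∀ φ : A ⟶ D.Z (p + 2), D.δ A (p + 1) φ =
        (D.hS 0).extClass.postcomp A (rfl : p + 1 + 1 = p + 2) (D.shift.δ A p φ) := fun φ => D.δ_succ A p φ
    refine ⟨?_, ?_⟩
    · intro y
      obtain ⟨x, hx⟩ := hb.2 y
      obtain ⟨φ, hφ⟩ := hs x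
      exact ⟨φ, by rw [hδ]; rw [← hx]; exact congrArg _ hφ⟩
    · ext φ
      rw [AddMonoidHom.mem_ker, hδ]
      have : (D.hS 0).extClass.postcomp A (rfl : p + 1 + 1 = p + 2) (D.shift.δ A p φ) = 0 ↔
          D.shift.δ A p φ = 0 := by
        constructor
        · intro h
          exact hb.1 (h.trans (map_zero _).symm)
        · intro h
          exact (congrArg _ h).trans (map_zero _)
      rw [this, ← AddMonoidHom.mem_ker, hk]
      rfl

section DataHom

omit [HasExt.{w} 𝒜]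

/-- morphisms of dimension-shifting data -/
structure Data.Hom (D D' : Data 𝒜) where
  z : ∀ k, D.Z k ⟶ D'.Z k
  j : ∀ k, D.J k ⟶ D'.J k
  comm_f : ∀ k, D.f k ≫ j k = z k ≫ D'.f k
  comm_g : ∀ k, D.g k ≫ z (k + 1) = j k ≫ D'.g k

/-- shifting a morphism -/
def Data.Hom.shift {D D' : Data 𝒜} (h : Data.Hom D D') : Data.Hom D.shift D'.shift where
  z k := h.z (k + 1)
  j k := h.j (k + 1)
  comm_f k := h.comm_f (k + 1)
  comm_g k := h.comm_g (k + 1)

/-- the morphism of short complexes in degree `k` -/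
def Data.Hom.scHom {D D' : Data 𝒜} (h : Data.Hom D D') (k : ℕ) :
    ShortComplex.mk (D.f k) (D.g k) (D.w k) ⟶ ShortComplex.mk (D'.f k) (D'.g k) (D'.w k) where
  τ₁ := h.z k
  τ₂ := h.j k
  τ₃ := h.z (k + 1)
  comm₁₂ := (h.comm_f k).symm
  comm₂₃ := (h.comm_g k).symm

end DataHom

section DataHomExt

theorem Data.Hom.cls_naturality (p : ℕ) : ∀ {D D' : Data 𝒜} (h : Data.Hom D D'),
    (D.cls p).comp (Ext.mk₀ (h.z 0)) (add_zero (p + 1)) =
      (Ext.mk₀ (h.z (p + 1))).comp (D'.cls p) (zero_add (p + 1)) := by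
  induction p with
  | zero =>
    intro D D' h
    exact ShortComplex.ShortExact.extClass_naturality (D.hS 0) (D'.hS 0) (h.scHom 0)
  | succ p ih =>
    intro D D' h
    have h0 : (D.hS 0).extClass.comp (Ext.mk₀ (h.z 0)) (add_zero 1) =
        (Ext.mk₀ (h.z 1)).comp (D'.hS 0).extClass (zero_add 1) :=
      ShortComplex.ShortExact.extClass_naturality (D.hS 0) (D'.hS 0) (h.scHom 0)
    have h1 : (D.shift.cls p).comp (Ext.mk₀ (h.z 1)) (add_zero (p + 1)) =
        (Ext.mk₀ (h.z (p + 2))).comp (D'.shift.cls p) (zero_add (p + 1)) := ih h.shift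
    let e : Ext.{w} (D.Z 1) (D.Z 0) 1 := (D.hS 0).extClass
    let e' : Ext.{w} (D'.Z 1) (D'.Z 0) 1 := (D'.hS 0).extClass
    let c : Ext.{w} (D.Z (p + 2)) (D.Z 1) (p + 1) := D.shift.cls p
    let c' : Ext.{w} (D'.Z (p + 2)) (D'.Z 1) (p + 1) := D'.shift.cls p
    change (c.comp e rfl).comp (Ext.mk₀ (h.z 0)) (add_zero (p + 1 + 1)) =
      (Ext.mk₀ (h.z (p + 2))).comp (c'.comp e' rfl) (zero_add (p + 1 + 1))
    have h0' : e.comp (Ext.mk₀ (h.z 0)) (add_zero 1) = (Ext.mk₀ (h.z 1)).comp e' (zero_add 1) := h0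
    have h1' : c.comp (Ext.mk₀ (h.z 1)) (add_zero (p + 1)) =
        (Ext.mk₀ (h.z (p + 2))).comp c' (zero_add (p + 1)) := h1
    calc (c.comp e rfl).comp (Ext.mk₀ (h.z 0)) (add_zero (p + 1 + 1))
        = c.comp (e.comp (Ext.mk₀ (h.z 0)) (add_zero 1)) rfl :=
          Ext.comp_assoc _ _ _ rfl (add_zero 1) (by omega)
      _ = c.comp ((Ext.mk₀ (h.z 1)).comp e' (zero_add 1)) rfl := by rw [h0']
      _ = (c.comp (Ext.mk₀ (h.z 1)) (add_zero (p + 1))).comp e' rfl :=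
          (Ext.comp_assoc _ _ _ (add_zero (p + 1)) (zero_add 1) (by omega)).symm
      _ = ((Ext.mk₀ (h.z (p + 2))).comp c' (zero_add (p + 1))).comp e' rfl := by rw [h1']
      _ = (Ext.mk₀ (h.z (p + 2))).comp (c'.comp e' rfl) (zero_add (p + 1 + 1)) :=
          Ext.comp_assoc _ _ _ (zero_add (p + 1)) rfl (by omega)


end DataHomExt

section ResolutionHom

omit [HasExt.{w} 𝒜]

section
variable {F F' : 𝒜} (φ : F ⟶ F') (I : InjectiveResolution F) (I' : InjectiveResolution F')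
  (φc : I.cocomplex ⟶ I'.cocomplex) (comm : I.ι.f 0 ≫ φc.f 0 = φ ≫ I'.ι.f 0)

/-- the induced maps on cycle objects -/
noncomputable def zMap : ∀ k, ZZ I k ⟶ ZZ I' k
  | 0 => φ
  | k + 1 => kernel.map (I.cocomplex.d (k + 1) (k + 2)) (I'.cocomplex.d (k + 1) (k + 2))
      (φc.f (k + 1)) (φc.f (k + 2)) (φc.comm (k + 1) (k + 2)).symm

lemma zMap_succ_ι (k : ℕ) :
    zMap φ I I' φc (k + 1) ≫ kernel.ι (I'.cocomplex.d (k + 1) (k + 2)) =
      kernel.ι (I.cocomplex.d (k + 1) (k + 2)) ≫ φc.f (k + 1) :=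
  kernel.lift_ι _ _ _

include comm in
lemma ff_zMap (k : ℕ) : ff I k ≫ φc.f k = zMap φ I I' φc k ≫ ff I' k := by
  cases k with
  | zero => exact comm
  | succ k => exact (zMap_succ_ι φ I I' φc k).symm

lemma gg_zMap (k : ℕ) : gg I k ≫ zMap φ I I' φc (k + 1) = φc.f k ≫ gg I' k := by
  have hg : gg I k ≫ kernel.ι (I.cocomplex.d (k + 1) (k + 2)) = I.cocomplex.d k (k + 1) :=
    kernel.lift_ι _ _ _
  have hg' : gg I' k ≫ kernel.ι (I'.cocomplex.d (k + 1) (k + 2)) = I'.cocomplex.d k (k + 1) :=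
    kernel.lift_ι _ _ _
  have hz := zMap_succ_ι φ I I' φc k
  have h1 : (gg I k ≫ zMap φ I I' φc (k + 1)) ≫ kernel.ι (I'.cocomplex.d (k + 1) (k + 2)) =
      I.cocomplex.d k (k + 1) ≫ φc.f (k + 1) :=
    (Category.assoc _ _ _).trans ((congrArg (gg I k ≫ ·) hz).trans
      ((Category.assoc _ _ _).symm.trans (congrArg (· ≫ φc.f (k + 1)) hg)))
  have h2 : (φc.f k ≫ gg I' k) ≫ kernel.ι (I'.cocomplex.d (k + 1) (k + 2)) =
      φc.f k ≫ I'.cocomplex.d k (k + 1) :=
    (Category.assoc _ _ _).trans (congrArg (φc.f k ≫ ·) hg')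
  exact (cancel_mono (kernel.ι (I'.cocomplex.d (k + 1) (k + 2)))).1
    (h1.trans ((φc.comm k (k + 1)).symm.trans h2.symm))

/-- the morphism of data induced by a morphism of resolutions -/
noncomputable def ofResolutionHom : Data.Hom (ofResolution I) (ofResolution I') where
  z := zMap φ I I' φc
  j k := φc.f k
  comm_f := ff_zMap φ I I' φc comm
  comm_g := gg_zMap φ I I' φc

end


end ResolutionHom

section RightDerived

omit [HasExt.{w} 𝒜]

variable {ℬ : Type*} [Category ℬ] [Abelian ℬ] (G : 𝒜 ⥤ ℬ) [G.Additive] [PreservesFiniteLimits G]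
  [HasInjectiveResolutions 𝒜] {F : 𝒜} (I : InjectiveResolution F)

/-- `R^{n+1}G(F) ≅ coker(G(I^n) → G(Z^{n+1}))` for a left exact functor `G`. -/
noncomputable def rightDerivedSuccIso (n : ℕ) :
    (G.rightDerived (n + 1)).obj F ≅ cokernel (G.map (gg I n)) := by
  let K' := (G.mapHomologicalComplex (ComplexShape.up ℕ)).obj I.cocomplex
  let e1 : (G.rightDerived (n + 1)).obj F ≅ K'.homology (n + 1) := I.isoRightDerivedObj G (n + 1)
  let e2 : K'.homology (n + 1) ≅ (K'.sc' n (n + 1) (n + 2)).homology :=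
    K'.homologyIsoSc' n (n + 1) (n + 2) (by simp) (by simp)
  let e3 := (K'.sc' n (n + 1) (n + 2)).homologyIsoCokernelLift
  let d' := I.cocomplex.d (n + 1) (n + 2)
  let d := I.cocomplex.d n (n + 1)
  have key : G.map (kernel.lift d' d (I.cocomplex.d_comp_d _ _ _)) ≫ kernelComparison d' G =
      kernel.lift (G.map d') (G.map d) (by rw [← G.map_comp, I.cocomplex.d_comp_d, G.map_zero]) :=
    map_lift_kernelComparison _ _ _
  have w : kernel.lift (G.map d') (G.map d) (by rw [← G.map_comp, I.cocomplex.d_comp_d, G.map_zero]) ≫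
      (PreservesKernel.iso G d').inv = G.map (kernel.lift d' d (I.cocomplex.d_comp_d _ _ _)) := by
    rw [Iso.comp_inv_eq, PreservesKernel.iso_hom]
    exact key.symm
  let e4 : cokernel (kernel.lift (K'.sc' n (n + 1) (n + 2)).g (K'.sc' n (n + 1) (n + 2)).f
      (K'.sc' n (n + 1) (n + 2)).zero) ≅ cokernel (G.map (gg I n)) :=
    cokernel.mapIso _ _ (Iso.refl _) (PreservesKernel.iso G d').symm
      (w.trans (Category.id_comp _).symm)
  exact e1 ≪≫ e2 ≪≫ e3 ≪≫ e4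


end RightDerived

section PiR

omit [HasExt.{w} 𝒜]

variable {ℬ : Type*} [Category ℬ] [Abelian ℬ] (G : 𝒜 ⥤ ℬ) [G.Additive] [PreservesFiniteLimits G]
  [HasInjectiveResolutions 𝒜] {F : 𝒜} (I : InjectiveResolution F)

/-- the complex `G I^•` -/
noncomputable abbrev GK : CochainComplex ℬ ℕ :=
  (G.mapHomologicalComplex (ComplexShape.up ℕ)).obj I.cocomplex

/-- `G` of the inclusion `Z^{n+1} ⟶ I^{n+1}`, typed in the complex `G I^•`. -/
noncomputable def Gff (n : ℕ) : G.obj (ZZ I (n + 1)) ⟶ (GK G I).X (n + 1) := G.map (ff I (n + 1))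

/-- `G` of the map `I^n ⟶ Z^{n+1}`, typed in the complex `G I^•`. -/
noncomputable def Ggg (n : ℕ) : (GK G I).X n ⟶ G.obj (ZZ I (n + 1)) := G.map (gg I n)

lemma Gff_d (n : ℕ) : Gff G I n ≫ (GK G I).d (n + 1) (n + 2) = 0 := by
  change G.map (kernel.ι (I.cocomplex.d (n + 1) (n + 2))) ≫ G.map (I.cocomplex.d (n + 1) (n + 2)) = 0
  rw [← G.map_comp, kernel.condition, G.map_zero]

lemma Ggg_Gff (n : ℕ) : Ggg G I n ≫ Gff G I n = (GK G I).d n (n + 1) := by
  change G.map (kernel.lift _ _ _) ≫ G.map (kernel.ι _) = G.map _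
  rw [← G.map_comp, kernel.lift_ι]

/-- `ζ : G(Z^{n+1}) ⟶ Z^{n+1}(G I)` -/
noncomputable def ζ (n : ℕ) : G.obj (ZZ I (n + 1)) ⟶ (GK G I).cycles (n + 1) :=
  (GK G I).liftCycles (Gff G I n) (n + 2) (by simp) (Gff_d G I n)

@[reassoc]
lemma ζ_i (n : ℕ) : ζ G I n ≫ (GK G I).iCycles (n + 1) = Gff G I n :=
  (GK G I).liftCycles_i _ _ _ _

instance isIso_ζ (n : ℕ) : IsIso (ζ G I n) := by
  have h1 := isLimitForkMapOfIsLimit' G (kernel.condition (I.cocomplex.d (n + 1) (n + 2)))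
    (kernelIsKernel (I.cocomplex.d (n + 1) (n + 2)))
  have h2 := (GK G I).cyclesIsKernel (n + 1) (n + 2) (by simp)
  let e : G.obj (ZZ I (n + 1)) ≅ (GK G I).cycles (n + 1) := IsLimit.conePointUniqueUpToIso h1 h2
  have he : e.hom ≫ (GK G I).iCycles (n + 1) = Gff G I n :=
    IsLimit.conePointUniqueUpToIso_hom_comp h1 h2 WalkingParallelPair.zero
  have : ζ G I n = e.hom :=
    (cancel_mono ((GK G I).iCycles (n + 1))).1 ((ζ_i G I n).trans he.symm)
  rw [this]
  infer_instance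

lemma Ggg_ζ (n : ℕ) : Ggg G I n ≫ ζ G I n = (GK G I).toCycles n (n + 1) := by
  apply (cancel_mono ((GK G I).iCycles (n + 1))).1
  rw [Category.assoc, ζ_i, Ggg_Gff, HomologicalComplex.toCycles_i]

/-- `isoRightDerivedObj`, typed with `GK`. -/
noncomputable def isoR (m : ℕ) : (G.rightDerived m).obj F ≅ (GK G I).homology m :=
  I.isoRightDerivedObj G m

/-- `π : G(Z^{n+1}) ⟶ R^{n+1}G(F)` -/
noncomputable def πR (n : ℕ) : G.obj (ZZ I (n + 1)) ⟶ (G.rightDerived (n + 1)).obj F :=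
  ζ G I n ≫ (GK G I).homologyπ (n + 1) ≫ (isoR G I (n + 1)).inv

lemma Ggg_πR (n : ℕ) : Ggg G I n ≫ πR G I n = 0 := by
  have h := (GK G I).toCycles_comp_homologyπ n (n + 1)
  rw [πR, ← Category.assoc, Ggg_ζ, ← Category.assoc, h, zero_comp]

lemma map_gg_πR (n : ℕ) : G.map (gg I n) ≫ πR G I n = 0 := Ggg_πR G I n

instance epi_πR (n : ℕ) : Epi (πR G I n) := by
  unfold πR
  infer_instance

lemma πR_desc_aux (n : ℕ) {T : ℬ} (k : G.obj (ZZ I (n + 1)) ⟶ T) (hk : G.map (gg I n) ≫ k = 0) :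
    (GK G I).toCycles n (n + 1) ≫ inv (ζ G I n) ≫ k = 0 := by
  have hk' : Ggg G I n ≫ k = 0 := hk
  rw [← Ggg_ζ G I n, Category.assoc, IsIso.hom_inv_id_assoc, hk']

/-- `π` is a cokernel of `G(I^n) → G(Z^{n+1})`. -/
noncomputable def πRIsColimit (n : ℕ) : IsColimit (CokernelCofork.ofπ (πR G I n) (map_gg_πR G I n)) := by
  have h0 := (GK G I).homologyIsCokernel n (n + 1) (by simp)
  have fac : ∀ {T : ℬ} (k : G.obj (ZZ I (n + 1)) ⟶ T) (hk : G.map (gg I n) ≫ k = 0),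
      πR G I n ≫ (isoR G I (n + 1)).hom ≫
        h0.desc (CokernelCofork.ofπ (inv (ζ G I n) ≫ k) (πR_desc_aux G I n k hk)) = k := by
    intro T k hk
    have h := h0.fac (CokernelCofork.ofπ (inv (ζ G I n) ≫ k) (πR_desc_aux G I n k hk))
      WalkingParallelPair.one
    have h' : (GK G I).homologyπ (n + 1) ≫
        h0.desc (CokernelCofork.ofπ (inv (ζ G I n) ≫ k) (πR_desc_aux G I n k hk)) =
        inv (ζ G I n) ≫ k := h
    rw [πR, Category.assoc, Category.assoc, Iso.inv_hom_id_assoc, h', IsIso.hom_inv_id_assoc]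
  refine CokernelCofork.IsColimit.ofπ _ _
    (fun {T} k hk => (isoR G I (n + 1)).hom ≫
      h0.desc (CokernelCofork.ofπ (inv (ζ G I n) ≫ k) (πR_desc_aux G I n k hk)))
    (fun k hk => fac k hk) ?_
  intro T k hk b hb
  rw [← cancel_epi (πR G I n), hb]
  exact (fac k hk).symm


section Naturality

variable {F' : 𝒜} (I' : InjectiveResolution F') (φ : F ⟶ F') (φc : I.cocomplex ⟶ I'.cocomplex)
  (comm : I.ι.f 0 ≫ φc.f 0 = φ ≫ I'.ι.f 0)

/-- the induced map `G I^• ⟶ G I'^•` -/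
noncomputable abbrev GKmap : GK G I ⟶ GK G I' := (G.mapHomologicalComplex (ComplexShape.up ℕ)).map φc

include comm in
lemma isoR_inv_naturality (m : ℕ) :
    (isoR G I m).inv ≫ (G.rightDerived m).map φ =
      HomologicalComplex.homologyMap (GKmap G I I' φc) m ≫ (isoR G I' m).inv :=
  InjectiveResolution.isoRightDerivedObj_inv_naturality φ I I' φc comm G m

lemma Gff_naturality (n : ℕ) :
    Gff G I n ≫ (GKmap G I I' φc).f (n + 1) = G.map (zMap φ I I' φc (n + 1)) ≫ Gff G I' n := by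
  have h := congrArg G.map (zMap_succ_ι φ I I' φc n)
  exact ((G.map_comp _ _).symm.trans (h.symm.trans (G.map_comp _ _)))

lemma ζ_naturality (n : ℕ) :
    ζ G I n ≫ HomologicalComplex.cyclesMap (GKmap G I I' φc) (n + 1) =
      G.map (zMap φ I I' φc (n + 1)) ≫ ζ G I' n := by
  apply (cancel_mono ((GK G I').iCycles (n + 1))).1
  rw [Category.assoc, HomologicalComplex.cyclesMap_i, ζ_i_assoc, Category.assoc, ζ_i, Gff_naturality]

include comm in
lemma πR_naturality (n : ℕ) :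
    πR G I n ≫ (G.rightDerived (n + 1)).map φ = G.map (zMap φ I I' φc (n + 1)) ≫ πR G I' n := by
  rw [πR, πR, Category.assoc, Category.assoc, isoR_inv_naturality G I I' φ φc comm,
    HomologicalComplex.homologyπ_naturality_assoc, ← Category.assoc, ζ_naturality, Category.assoc]

end Naturality


end PiR

end Groth.Agent.Lib.Helper16.DimShift
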