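import Mathlib
import Groth.Prelude.Def_CohSite
import Groth.Prelude.Def_FreeSh
import Groth.Agent.Lib.Helper16DimShiftNat

set_option autoImplicit false
set_option linter.style.haveILetI false
universe u
open CategoryTheory CategoryTheory.Limits Abelian Opposite

namespace Groth.Agent.Lib.Helper16.RpushSh

open Groth.Agent.Lib.Helper16.DimShift

variable {C : Type u} [SmallCategory C] (J : GrothendieckTopology C)

/-- the additive map `G(W) → Ext^n(ℤ_W, F)` given by a class `c ∈ Ext^n(G, F)`. -/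
noncomputable def τapp {G F : Sheaf J AddCommGrpCat.{u}} {n : ℕ} (c : Ext.{u} G F n) (W : C) :
    G.obj.obj (op W) →+ Ext.{u} (CohCx.freeSheaf J W) F n :=
  ((c.postcomp (CohCx.freeSheaf J W) (zero_add n)).comp
      (Ext.addEquiv₀ (X := CohCx.freeSheaf J W) (Y := G)).symm.toAddMonoidHom).comp
      (CohFree.homEquivSect J W G).symm.toAddMonoidHom

lemma τapp_apply {G F : Sheaf J AddCommGrpCat.{u}} {n : ℕ} (c : Ext.{u} G F n) (W : C)
    (s : G.obj.obj (op W)) :
    τapp J c W s = (Ext.mk₀ (CohFree.ofSect J W G s)).comp c (zero_add n) := rfl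

lemma ofSect_map {G : Sheaf J AddCommGrpCat.{u}} {W V : C} (f : V ⟶ W) (s : G.obj.obj (op W)) :
    CohFree.ofSect J V G ((G.obj.map f.op).hom s) = CohCx.freeSheafMap J f ≫ CohFree.ofSect J W G s := by
  apply (CohFree.homEquivSect J V G).injective
  rw [CohFree.homEquivSect_apply, CohFree.homEquivSect_apply, CohFree.evalGen_ofSect,
    CohFree.evalGen_freeSheafMap_comp, CohFree.evalGen_ofSect]

lemma cohomologyPresheaf_map_apply {F : Sheaf J AddCommGrpCat.{u}} {n : ℕ} {W V : C} (f : V ⟶ W)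
    (x : Ext.{u} (CohCx.freeSheaf J W) F n) :
    ((F.cohomologyPresheaf n).map f.op).hom x = (Ext.mk₀ (CohCx.freeSheafMap J f)).comp x (zero_add n) := rfl

/-- the presheaf map `G ⟶ H^n(-, F)` given by a class `c ∈ Ext^n(G, F)`. -/
noncomputable def τ {G F : Sheaf J AddCommGrpCat.{u}} {n : ℕ} (c : Ext.{u} G F n) :
    G.obj ⟶ F.cohomologyPresheaf n where
  app W := AddCommGrpCat.ofHom (τapp J c W.unop)
  naturality W W' f := by
    ext s
    change τapp J c W'.unop ((G.obj.map f).hom s) = ((F.cohomologyPresheaf n).map f).hom (τapp J c W.unop s)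
    have hf : f = f.unop.op := rfl
    rw [hf, cohomologyPresheaf_map_apply, τapp_apply, τapp_apply, ofSect_map, ← Ext.mk₀_comp_mk₀,
      Ext.comp_assoc _ _ _ (zero_add 0) (zero_add n) (by omega)]

lemma τapp_zero_bijective (F : Sheaf J AddCommGrpCat.{u}) (W : C) :
    Function.Bijective (τapp J (Ext.mk₀ (𝟙 F)) W) := by
  have h : ∀ s, τapp J (Ext.mk₀ (𝟙 F)) W s = Ext.mk₀ (CohFree.ofSect J W F s) := by
    intro s
    rw [τapp_apply, Ext.mk₀_comp_mk₀, Category.comp_id]
  have : (τapp J (Ext.mk₀ (𝟙 F)) W : _ → _) = (fun φ => Ext.mk₀ φ) ∘ (CohFree.homEquivSect J W F).symm := by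
    funext s
    exact h s
  rw [this]
  exact (Ext.mk₀_bijective _ _).comp (CohFree.homEquivSect J W F).symm.bijective

variable (D : Data (Sheaf J AddCommGrpCat.{u})) (hD : ∀ k, Injective (D.J k))

lemma τapp_cls (n : ℕ) (W : C) (s : (D.Z (n + 1)).obj.obj (op W)) :
    τapp J (D.cls n) W s = D.δ (CohCx.freeSheaf J W) n (CohFree.ofSect J W _ s) := rfl

include hD in
attribute [local instance] Ext.subsingleton_of_injective in
lemma ds_res (n : ℕ) (W : C) :
    Function.Surjective (D.δ (CohCx.freeSheaf J W) n) ∧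
      (D.δ (CohCx.freeSheaf J W) n).ker =
        (Preadditive.rightComp (CohCx.freeSheaf J W) (D.g n)).range := by
  refine ds' (CohCx.freeSheaf J W) n D (fun k q => ?_)
  haveI : Injective (D.J k) := hD k
  infer_instance

include hD in
lemma τapp_cls_surjective (n : ℕ) (W : C) : Function.Surjective (τapp J (D.cls n) W) := by
  intro x
  obtain ⟨φ, hφ⟩ := (ds_res J D hD n W).1 x
  refine ⟨CohFree.homEquivSect J W _ φ, ?_⟩
  rw [τapp_cls]
  have : CohFree.ofSect J W _ (CohFree.homEquivSect J W _ φ) = φ := CohFree.ofSect_evalGen J W _ φ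
  rw [this, hφ]

include hD in
lemma τapp_cls_eq_zero_iff (n : ℕ) (W : C) (s : (D.Z (n + 1)).obj.obj (op W)) :
    τapp J (D.cls n) W s = 0 ↔ ∃ t : (D.J n).obj.obj (op W), ((D.g n).hom.app (op W)).hom t = s := by
  rw [τapp_cls, ← AddMonoidHom.mem_ker, (ds_res J D hD n W).2, AddMonoidHom.mem_range]
  constructor
  · rintro ⟨ψ, hψ⟩
    refine ⟨CohFree.homEquivSect J W _ ψ, ?_⟩
    have h1 : CohFree.evalGen J W _ (ψ ≫ D.g n) = CohFree.evalGen J W _ (CohFree.ofSect J W _ s) :=
      congrArg _ hψ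
    rw [CohFree.evalGen_ofSect] at h1
    exact h1
  · rintro ⟨t, rfl⟩
    refine ⟨CohFree.ofSect J W _ t, ?_⟩
    apply (CohFree.homEquivSect J W _).injective
    change CohFree.evalGen J W _ (CohFree.ofSect J W _ t ≫ D.g n) = CohFree.evalGen J W _ (CohFree.ofSect J W _ _)
    rw [CohFree.evalGen_ofSect]
    change ((D.g n).hom.app (op W)).hom (CohFree.evalGen J W _ (CohFree.ofSect J W _ t)) = _
    rw [CohFree.evalGen_ofSect]


/-- exactness of a short complex of presheaves of abelian groups can be checked pointwise -/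
lemma exact_of_pointwise {T : Type*} [Category T] (S : ShortComplex (T ⥤ AddCommGrpCat.{u}))
    (h : ∀ (t : T) (x : S.X₂.obj t), (S.g.app t).hom x = 0 → ∃ y, (S.f.app t).hom y = x) : S.Exact := by
  rw [ShortComplex.exact_iff_isZero_homology, Functor.isZero_iff]
  intro t
  have h1 : (S.map ((evaluation T AddCommGrpCat.{u}).obj t)).Exact := by
    rw [ShortComplex.ab_exact_iff]
    exact h t
  exact ((ShortComplex.exact_iff_isZero_homology _).1 h1).of_iso
    (S.mapHomologyIso ((evaluation T AddCommGrpCat.{u}).obj t)).symm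

variable {D' : Type u} [SmallCategory D'] (u : D' ⥤ C)

include hD in
lemma g_τ (n : ℕ) : (D.g n).hom ≫ τ J (D.cls n) = 0 := by
  ext W t
  exact (τapp_cls_eq_zero_iff J D hD n W.unop _).2 ⟨t, rfl⟩

/-- the short complex of presheaves `u^p J^n → u^p Z^{n+1} → u^p H^{n+1}(-, Z^0)`. -/
noncomputable def preSC (n : ℕ) : ShortComplex (D'ᵒᵖ ⥤ AddCommGrpCat.{u}) :=
  ShortComplex.mk (Functor.whiskerLeft u.op (D.g n).hom) (Functor.whiskerLeft u.op (τ J (D.cls n))) (by
    rw [← Functor.whiskerLeft_comp, g_τ J D hD n]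
    rfl)

lemma preSC_exact (n : ℕ) : (preSC J D hD u n).Exact := by
  apply exact_of_pointwise
  intro V x hx
  exact (τapp_cls_eq_zero_iff J D hD n (u.obj V.unop) x).1 hx

instance preSC_epi_g (n : ℕ) : Epi (preSC J D hD u n).g := by
  haveI : ∀ V : D'ᵒᵖ, Epi ((preSC J D hD u n).g.app V) := fun V =>
    (AddCommGrpCat.epi_iff_surjective _).2 (τapp_cls_surjective J D hD n (u.obj V.unop))
  exact NatTrans.epi_of_epi_app _

variable (K : GrothendieckTopology D')

/-- sheafified: `(u^p H^{n+1}(-, Z^0))^# ≅ coker((u^p J^n)^# → (u^p Z^{n+1})^#)`. -/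
noncomputable def shIso (n : ℕ) :
    (presheafToSheaf K AddCommGrpCat.{u}).obj (u.op ⋙ (D.Z 0).cohomologyPresheaf (n + 1)) ≅
      cokernel ((presheafToSheaf K AddCommGrpCat.{u}).map (Functor.whiskerLeft u.op (D.g n).hom)) := by
  let S := (preSC J D hD u n).map (presheafToSheaf K AddCommGrpCat.{u})
  have hS : S.Exact := (preSC_exact J D hD u n).map _
  haveI : Epi S.g := by
    change Epi ((presheafToSheaf K AddCommGrpCat.{u}).map (preSC J D hD u n).g)
    infer_instance
  exact (IsColimit.coconePointUniqueUpToIso (colimit.isColimit _) hS.gIsCokernel).symm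


end Groth.Agent.Lib.Helper16.RpushSh
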