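import Mathlib
import Groth.Agent.Lib.Helper16RpushSh
import Groth.Agent.S0487

set_option autoImplicit false
set_option linter.style.haveILetI false
set_option linter.unusedSectionVars false
universe u
open CategoryTheory CategoryTheory.Limits Abelian Opposite

namespace Groth.Agent.Lib.Helper16.RpushNat

open Groth.Agent.Lib.Helper16.DimShift Groth.Agent.Lib.Helper16.RpushSh Groth.Agent.S0487

variable {C : Type u} [SmallCategory C] (J : GrothendieckTopology C)

lemma ofSect_naturality_right {G G' : Sheaf J AddCommGrpCat.{u}} (a : G ⟶ G') (W : C)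
    (s : G.obj.obj (op W)) :
    CohFree.ofSect J W G' ((a.hom.app (op W)).hom s) = CohFree.ofSect J W G s ≫ a := by
  apply (CohFree.homEquivSect J W G').injective
  rw [CohFree.homEquivSect_apply, CohFree.homEquivSect_apply, CohFree.evalGen_ofSect]
  change _ = (a.hom.app (op W)).hom (CohFree.evalGen J W G (CohFree.ofSect J W G s))
  rw [CohFree.evalGen_ofSect]

lemma cohomologyPresheafFunctor_map_app' {F F' : Sheaf J AddCommGrpCat.{u}} (b : F ⟶ F') (n : ℕ) (W : C) :
    ((Sheaf.cohomologyPresheafFunctor J n).map b).app (op W) =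
      (extFunctorObj (CohCx.freeSheaf J W) n).map b := by
  rfl

lemma extFunctorObj_map_apply {F F' : Sheaf J AddCommGrpCat.{u}} (b : F ⟶ F') (n : ℕ) (W : C)
    (x : Ext.{u} (CohCx.freeSheaf J W) F n) :
    ((extFunctorObj (CohCx.freeSheaf J W) n).map b).hom x = x.comp (Ext.mk₀ b) (add_zero n) := by
  rfl

/-- naturality of `τ` -/
lemma τ_naturality {G G' F F' : Sheaf J AddCommGrpCat.{u}} {n : ℕ} (c : Ext.{u} G F n) (c' : Ext.{u} G' F' n)
    (a : G ⟶ G') (b : F ⟶ F')
    (h : c.comp (Ext.mk₀ b) (add_zero n) = (Ext.mk₀ a).comp c' (zero_add n)) :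
    τ J c ≫ (Sheaf.cohomologyPresheafFunctor J n).map b = a.hom ≫ τ J c' := by
  ext W s
  change ((extFunctorObj (CohCx.freeSheaf J W.unop) n).map b).hom (τapp J c W.unop s) =
    τapp J c' W.unop ((a.hom.app (op W.unop)).hom s)
  rw [extFunctorObj_map_apply, τapp_apply, τapp_apply, ofSect_naturality_right,
    Ext.comp_assoc _ _ _ (zero_add n) (add_zero n) (by omega), h, ← Ext.mk₀_comp_mk₀,
    Ext.comp_assoc _ _ _ (zero_add 0) (zero_add n) (by omega)]


variable {D' : Type u} [SmallCategory D'] (K : GrothendieckTopology D') (u : D' ⥤ C) [u.IsContinuous K J]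

/-- `F ↦ (V ↦ H^p(u V, F))` -/
noncomputable abbrev E (p : ℕ) : Sheaf J AddCommGrpCat.{u} ⥤ (D'ᵒᵖ ⥤ AddCommGrpCat.{u}) :=
  Sheaf.cohomologyPresheafFunctor J p ⋙ (Functor.whiskeringLeft D'ᵒᵖ Cᵒᵖ AddCommGrpCat.{u}).obj u.op

/-- `F ↦ (V ↦ H^p(u V, F))^#` -/
noncomputable abbrev Φ (p : ℕ) : Sheaf J AddCommGrpCat.{u} ⥤ Sheaf K AddCommGrpCat.{u} :=
  E J u p ⋙ presheafToSheaf K AddCommGrpCat.{u}

section Succ

variable (G : Sheaf J AddCommGrpCat.{u}) (n : ℕ)

/-- the chosen resolution data -/
noncomputable abbrev Dt : Data (Sheaf J AddCommGrpCat.{u}) := ofResolution (injectiveResolution G)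

lemma hDt : ∀ k, Injective ((Dt J G).J k) := fun k => (injectiveResolution G).injective k

/-- the cycle sheaf `Z^{n+1}` of the chosen resolution -/
noncomputable abbrev Zn : Sheaf J AddCommGrpCat.{u} := ZZ (injectiveResolution G) (n + 1)

/-- the `n`-th term of the chosen resolution -/
noncomputable abbrev In : Sheaf J AddCommGrpCat.{u} := (injectiveResolution G).cocomplex.X n

/-- the map `I^n ⟶ Z^{n+1}` -/
noncomputable abbrev gn : In J G n ⟶ Zn J G n := gg (injectiveResolution G) n

/-- the class in `Ext^{n+1}(Z^{n+1}, G)` -/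
noncomputable def clsG : Ext.{u} (Zn J G n) G (n + 1) := (Dt J G).cls n

lemma gn_τ : (gn J G n).hom ≫ τ J (clsG J G n) = 0 := g_τ J (Dt J G) (hDt J G) n

/-- the short complex of presheaves `u^p I^n → u^p Z^{n+1} → u^p H^{n+1}(-, G)`. -/
noncomputable def preSC' : ShortComplex (D'ᵒᵖ ⥤ AddCommGrpCat.{u}) :=
  ShortComplex.mk (Functor.whiskerLeft u.op (gn J G n).hom) (Functor.whiskerLeft u.op (τ J (clsG J G n))) (by
    rw [← Functor.whiskerLeft_comp, gn_τ J G n]
    rfl)

lemma preSC'_exact : (preSC' J u G n).Exact := preSC_exact J (Dt J G) (hDt J G) u n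

instance preSC'_epi_g : Epi (preSC' J u G n).g := preSC_epi_g J (Dt J G) (hDt J G) u n

/-- `σ : f_* Z^{n+1} ⟶ Φ^{n+1}(G)` -/
noncomputable def σ : (CohSite.push J K u).obj (Zn J G n) ⟶ (Φ J K u (n + 1)).obj G :=
  (counitIso J K u (Zn J G n)).inv ≫
    (presheafToSheaf K AddCommGrpCat.{u}).map (Functor.whiskerLeft u.op (τ J (clsG J G n)))

lemma push_gn_counit_inv : (CohSite.push J K u).map (gn J G n) ≫ (counitIso J K u (Zn J G n)).inv =
    (counitIso J K u (In J G n)).inv ≫
      (presheafToSheaf K AddCommGrpCat.{u}).map (Functor.whiskerLeft u.op (gn J G n).hom) := by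
  have h1 := counitIso_naturality J K u (gn J G n)
  rw [Iso.comp_inv_eq, Category.assoc, h1, Iso.inv_hom_id_assoc]

lemma map_gg_σ : (CohSite.push J K u).map (gn J G n) ≫ σ J K u G n = 0 := by
  have h3 : (presheafToSheaf K AddCommGrpCat.{u}).map (preSC' J u G n).f ≫
      (presheafToSheaf K AddCommGrpCat.{u}).map (preSC' J u G n).g = 0 := by
    rw [← Functor.map_comp, (preSC' J u G n).zero, Functor.map_zero]
  rw [σ, ← Category.assoc, push_gn_counit_inv, Category.assoc]
  exact (congrArg (_ ≫ ·) h3).trans comp_zero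

/-- the short complex `f_* I^n → f_* Z^{n+1} → Φ^{n+1} G` -/
noncomputable def scσ : ShortComplex (Sheaf K AddCommGrpCat.{u}) :=
  ShortComplex.mk _ _ (map_gg_σ J K u G n)

/-- comparison with the sheafified presheaf short complex -/
noncomputable def scσIso : scσ J K u G n ≅ (preSC' J u G n).map (presheafToSheaf K AddCommGrpCat.{u}) :=
  ShortComplex.isoMk (counitIso J K u (In J G n)).symm (counitIso J K u (Zn J G n)).symm
    (Iso.refl _) (push_gn_counit_inv J K u G n).symm (by
      change (counitIso J K u (Zn J G n)).inv ≫ _ = σ J K u G n ≫ 𝟙 _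
      rw [Category.comp_id]
      rfl)

lemma scσ_exact : (scσ J K u G n).Exact :=
  ShortComplex.exact_of_iso (scσIso J K u G n).symm ((preSC'_exact J u G n).map _)

instance epi_σ : Epi (σ J K u G n) := by
  unfold σ
  haveI : Epi ((presheafToSheaf K AddCommGrpCat.{u}).map (Functor.whiskerLeft u.op (τ J (clsG J G n)))) := by
    change Epi ((presheafToSheaf K AddCommGrpCat.{u}).map (preSC' J u G n).g)
    infer_instance
  haveI : IsIso (counitIso J K u (Zn J G n)).inv := Iso.isIso_inv _
  exact epi_comp _ _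

/-- `σ` is a cokernel of `f_* I^n → f_* Z^{n+1}`. -/
noncomputable def σIsColimit : IsColimit (CokernelCofork.ofπ (σ J K u G n) (map_gg_σ J K u G n)) := by
  haveI : Epi (scσ J K u G n).g := epi_σ J K u G n
  exact (scσ_exact J K u G n).gIsCokernel

/-- the isomorphism in positive degrees -/
noncomputable def Ψ : (CohSite.Rpush J K u (n + 1)).obj G ≅ (Φ J K u (n + 1)).obj G :=
  IsColimit.coconePointUniqueUpToIso (πRIsColimit (CohSite.push J K u) (injectiveResolution G) n)
    (σIsColimit J K u G n)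

lemma π_Ψ : πR (CohSite.push J K u) (injectiveResolution G) n ≫ (Ψ J K u G n).hom = σ J K u G n :=
  IsColimit.comp_coconePointUniqueUpToIso_hom (πRIsColimit (CohSite.push J K u) (injectiveResolution G) n)
    (σIsColimit J K u G n) WalkingParallelPair.one

end Succ


section Nat

variable {G H : Sheaf J AddCommGrpCat.{u}} (φ : G ⟶ H) (n : ℕ)

/-- a chain map between the chosen resolutions lifting `φ` -/
noncomputable abbrev φc : (injectiveResolution G).cocomplex ⟶ (injectiveResolution H).cocomplex :=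
  InjectiveResolution.desc φ (injectiveResolution H) (injectiveResolution G)

lemma φc_comm : (injectiveResolution G).ι.f 0 ≫ (φc J φ).f 0 = φ ≫ (injectiveResolution H).ι.f 0 :=
  InjectiveResolution.desc_commutes_zero φ _ _

/-- the induced map on cycle sheaves -/
noncomputable abbrev zn : Zn J G n ⟶ Zn J H n :=
  zMap φ (injectiveResolution G) (injectiveResolution H) (φc J φ) (n + 1)

lemma clsG_naturality : (clsG J G n).comp (Ext.mk₀ φ) (add_zero (n + 1)) =
    (Ext.mk₀ (zn J φ n)).comp (clsG J H n) (zero_add (n + 1)) :=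
  (ofResolutionHom φ (injectiveResolution G) (injectiveResolution H) (φc J φ) (φc_comm J φ)).cls_naturality n

lemma counit_inv_naturality {A B : Sheaf J AddCommGrpCat.{u}} (a : A ⟶ B) :
    (CohSite.push J K u).map a ≫ (counitIso J K u B).inv =
      (counitIso J K u A).inv ≫ (presheafToSheaf K AddCommGrpCat.{u}).map (Functor.whiskerLeft u.op a.hom) := by
  have h1 := counitIso_naturality J K u a
  rw [Iso.comp_inv_eq, Category.assoc, h1, Iso.inv_hom_id_assoc]

lemma Φ_map (p : ℕ) : (Φ J K u p).map φ = (presheafToSheaf K AddCommGrpCat.{u}).map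
    (Functor.whiskerLeft u.op ((Sheaf.cohomologyPresheafFunctor J p).map φ)) := rfl

lemma σ_naturality : σ J K u G n ≫ (Φ J K u (n + 1)).map φ =
    (CohSite.push J K u).map (zn J φ n) ≫ σ J K u H n := by
  rw [σ, σ, ← Category.assoc ((CohSite.push J K u).map (zn J φ n)), counit_inv_naturality, Category.assoc,
    Category.assoc, Φ_map, ← Functor.map_comp, ← Functor.map_comp, ← Functor.whiskerLeft_comp,
    ← Functor.whiskerLeft_comp, τ_naturality J (clsG J G n) (clsG J H n) (zn J φ n) φ (clsG_naturality J φ n)]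

lemma Ψ_naturality : (CohSite.Rpush J K u (n + 1)).map φ ≫ (Ψ J K u H n).hom =
    (Ψ J K u G n).hom ≫ (Φ J K u (n + 1)).map φ := by
  rw [← cancel_epi (πR (CohSite.push J K u) (injectiveResolution G) n)]
  have h1 := πR_naturality (CohSite.push J K u) (injectiveResolution G) (injectiveResolution H) φ (φc J φ)
    (φc_comm J φ) n
  rw [← Category.assoc, h1, Category.assoc, π_Ψ, ← Category.assoc, π_Ψ, σ_naturality]

end Nat

/-- the natural isomorphism in positive degrees -/
noncomputable def natIsoSucc (n : ℕ) : CohSite.Rpush J K u (n + 1) ≅ Φ J K u (n + 1) :=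
  NatIso.ofComponents (fun G => Ψ J K u G n) (fun φ => Ψ_naturality J K u φ n)

section Zero

/-- `σ₀ : f_* G ⟶ Φ^0(G)` -/
noncomputable def σ₀ (G : Sheaf J AddCommGrpCat.{u}) : (CohSite.push J K u).obj G ⟶ (Φ J K u 0).obj G :=
  (counitIso J K u G).inv ≫
    (presheafToSheaf K AddCommGrpCat.{u}).map (Functor.whiskerLeft u.op (τ J (Ext.mk₀ (𝟙 G))))

instance isIso_σ₀ (G : Sheaf J AddCommGrpCat.{u}) : IsIso (σ₀ J K u G) := by
  haveI : ∀ W : Cᵒᵖ, IsIso ((τ J (Ext.mk₀ (𝟙 G))).app W) := fun W =>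
    (ConcreteCategory.isIso_iff_bijective _).2 (τapp_zero_bijective J G W.unop)
  haveI : IsIso (τ J (Ext.mk₀ (𝟙 G))) := NatIso.isIso_of_isIso_app _
  haveI : IsIso (Functor.whiskerLeft u.op (τ J (Ext.mk₀ (𝟙 G)))) :=
    (Functor.isoWhiskerLeft u.op (asIso (τ J (Ext.mk₀ (𝟙 G))))).isIso_hom
  haveI : IsIso (counitIso J K u G).inv := Iso.isIso_inv _
  unfold σ₀
  infer_instance

lemma σ₀_naturality {G H : Sheaf J AddCommGrpCat.{u}} (φ : G ⟶ H) :
    (CohSite.push J K u).map φ ≫ σ₀ J K u H = σ₀ J K u G ≫ (Φ J K u 0).map φ := by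
  have h : (Ext.mk₀ (𝟙 G)).comp (Ext.mk₀ φ) (add_zero 0) = (Ext.mk₀ φ).comp (Ext.mk₀ (𝟙 H)) (zero_add 0) := by
    rw [Ext.mk₀_comp_mk₀, Ext.mk₀_comp_mk₀, Category.id_comp, Category.comp_id]
  rw [σ₀, σ₀, ← Category.assoc, counit_inv_naturality, Category.assoc, Category.assoc, Φ_map,
    ← Functor.map_comp, ← Functor.map_comp, ← Functor.whiskerLeft_comp, ← Functor.whiskerLeft_comp,
    τ_naturality J (Ext.mk₀ (𝟙 G)) (Ext.mk₀ (𝟙 H)) φ φ h]

/-- the natural isomorphism in degree zero -/
noncomputable def natIsoZero : CohSite.Rpush J K u 0 ≅ Φ J K u 0 :=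
  (CohSite.push J K u).rightDerivedZeroIsoSelf ≪≫
    NatIso.ofComponents (fun G => asIso (σ₀ J K u G)) (fun φ => σ₀_naturality J K u φ)

end Zero

/-- **`R^p f_* ≅ (V ↦ H^p(u V, -))^#`, naturally.** -/
noncomputable def natIso : ∀ p : ℕ, CohSite.Rpush J K u p ≅ Φ J K u p
  | 0 => natIsoZero J K u
  | n + 1 => natIsoSucc J K u n

section Colimits

/-- a morphism of presheaves which is bijective on a covering class of objects becomes an isomorphism after
sheafification -/
lemma isIso_sheafify_of_cover {P Q : D'ᵒᵖ ⥤ AddCommGrpCat.{u}} (θ : P ⟶ Q)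
    (h : ∀ V : D', ∃ (κ : Type u) (Y : κ → D') (g : ∀ k, Y k ⟶ V), Sieve.ofArrows Y g ∈ K V ∧
      ∀ k, Function.Bijective (θ.app (op (Y k))).hom) :
    IsIso ((presheafToSheaf K AddCommGrpCat.{u}).map θ) := by
  rw [← GrothendieckTopology.W_iff, GrothendieckTopology.W_iff_isLocallyBijective]
  constructor
  · refine ⟨fun {X} x y hxy => ?_⟩
    obtain ⟨κ, Y, g, hcov, hb⟩ := h X.unop
    refine K.superset_covering ?_ hcov
    rw [Sieve.ofArrows, Sieve.generate_le_iff]
    rintro _ _ ⟨k⟩
    apply (hb k).1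
    have h1 := ConcreteCategory.congr_hom (θ.naturality (g k).op) x
    have h2 := ConcreteCategory.congr_hom (θ.naturality (g k).op) y
    simp only [ConcreteCategory.comp_apply] at h1 h2
    exact h1.trans ((congrArg _ hxy).trans h2.symm)
  · refine ⟨fun {V} s => ?_⟩
    obtain ⟨κ, Y, g, hcov, hb⟩ := h V
    refine K.superset_covering ?_ hcov
    rw [Sieve.ofArrows, Sieve.generate_le_iff]
    rintro _ _ ⟨k⟩
    obtain ⟨t, ht⟩ := (hb k).2 ((Q.map (g k).op).hom s)
    exact ⟨t, ht⟩



variable {ι : Type u} [SmallCategory ι] (F : ι ⥤ Sheaf J AddCommGrpCat.{u}) (p : ℕ)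

/-- the comparison map `colim_i H^p(u -, F_i) ⟶ H^p(u -, c.pt)` -/
noncomputable abbrev θc (c : Cocone F) : (colimit.cocone (F ⋙ E J u p)).pt ⟶ ((E J u p).mapCocone c).pt :=
  (colimit.isColimit (F ⋙ E J u p)).desc ((E J u p).mapCocone c)

lemma θc_bijective (c : Cocone F) (hc : IsColimit c) (Y : D')
    (hY : PreservesColimit F ((Sheaf.cohomologyPresheafFunctor J p).flip.obj (op (u.obj Y)))) :
    Function.Bijective ((θc J u F p c).app (op Y)).hom := by
  let ev := (evaluation D'ᵒᵖ AddCommGrpCat.{u}).obj (op Y)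
  have h1 : IsColimit (ev.mapCocone (colimit.cocone (F ⋙ E J u p))) :=
    isColimitOfPreserves ev (colimit.isColimit _)
  have h2 : IsColimit (ev.mapCocone ((E J u p).mapCocone c)) :=
    isColimitOfPreserves ((Sheaf.cohomologyPresheafFunctor J p).flip.obj (op (u.obj Y))) hc
  have h3 : ev.map (θc J u F p c) = (IsColimit.coconePointUniqueUpToIso h1 h2).hom := by
    apply h1.hom_ext
    intro j
    rw [IsColimit.comp_coconePointUniqueUpToIso_hom]
    change ev.map ((colimit.cocone (F ⋙ E J u p)).ι.app j) ≫ ev.map (θc J u F p c) =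
      ev.map (((E J u p).mapCocone c).ι.app j)
    rw [← ev.map_comp, (colimit.isColimit (F ⋙ E J u p)).fac]
  have h4 : IsIso (ev.map (θc J u F p c)) := by
    rw [h3]
    infer_instance
  exact (ConcreteCategory.isIso_iff_bijective _).1 h4


/-- `Φ^p` preserves the colimit of `F` when `H^p(u Y, -)` does for a covering class of objects `Y`. -/
lemma preservesColimit_Φ
    (h : ∀ V : D', ∃ (κ : Type u) (Y : κ → D') (g : ∀ k, Y k ⟶ V), Sieve.ofArrows Y g ∈ K V ∧
      ∀ k, PreservesColimit F ((Sheaf.cohomologyPresheafFunctor J p).flip.obj (op (u.obj (Y k))))) :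
    PreservesColimit F (Φ J K u p) := by
  let c := colimit.cocone F
  have hc : IsColimit c := colimit.isColimit F
  refine preservesColimit_of_preserves_colimit_cocone hc ?_
  let sh := presheafToSheaf K AddCommGrpCat.{u}
  have hQ := colimit.isColimit (F ⋙ E J u p)
  have hshQ : IsColimit (sh.mapCocone (colimit.cocone (F ⋙ E J u p))) := isColimitOfPreserves sh hQ
  haveI : IsIso (sh.map (θc J u F p c)) := by
    apply isIso_sheafify_of_cover
    intro V
    obtain ⟨κ, Y, g, hcov, hY⟩ := h V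
    exact ⟨κ, Y, g, hcov, fun k => θc_bijective J u F p c hc (Y k) (hY k)⟩
  have hdesc : hshQ.desc (sh.mapCocone ((E J u p).mapCocone c)) = sh.map (θc J u F p c) := by
    apply hshQ.hom_ext
    intro j
    rw [hshQ.fac]
    change sh.map (((E J u p).mapCocone c).ι.app j) =
      sh.map ((colimit.cocone (F ⋙ E J u p)).ι.app j) ≫ sh.map (θc J u F p c)
    rw [← sh.map_comp, (colimit.isColimit (F ⋙ E J u p)).fac]
  have hiso : IsIso (hshQ.desc (sh.mapCocone ((E J u p).mapCocone c))) := by
    rw [hdesc]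
    infer_instance
  haveI := hiso
  have hfin : IsColimit (sh.mapCocone ((E J u p).mapCocone c)) := IsColimit.ofPointIso hshQ
  exact IsColimit.ofIsoColimit hfin (Functor.mapCoconeMapCocone (H := E J u p) (H' := sh) c)


end Colimits

end Groth.Agent.Lib.Helper16.RpushNat
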