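import Mathlib
import Groth.Prelude.Def_CechEdge
import Groth.Agent.Lib.Helper21Cech1

set_option autoImplicit false
universe u
open CategoryTheory CategoryTheory.Limits Opposite

namespace Groth.Agent.Lib.Helper21.Cech

variable {C : Type u} [SmallCategory C]

section Eff

/-- The effacing presheaf `W ↦ ∏_{V → W} P(V)`. -/
noncomputable def Eff (P : Cᵒᵖ ⥤ AddCommGrpCat.{u}) : Cᵒᵖ ⥤ AddCommGrpCat.{u} where
  obj W := AddCommGrpCat.of (∀ (V : C) (_ : V ⟶ W.unop), P.obj (op V))
  map {W W'} g := AddCommGrpCat.ofHom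
    { toFun := fun s V f => s V (f ≫ g.unop)
      map_zero' := rfl
      map_add' := fun _ _ => rfl }
  map_id W := by
    ext s V f
    change s V (f ≫ 𝟙 _) = s V f
    rw [Category.comp_id]
  map_comp g h := by
    ext s V f
    change s V (f ≫ (h.unop ≫ g.unop)) = s V ((f ≫ h.unop) ≫ g.unop)
    rw [Category.assoc]

theorem Eff_map_apply (P : Cᵒᵖ ⥤ AddCommGrpCat.{u}) {W W' : Cᵒᵖ} (g : W ⟶ W')
    (s : (Eff P).obj W) (V : C) (f : V ⟶ W'.unop) :
    ((Eff P).map g).hom s V f = s V (f ≫ g.unop) := rfl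

/-- `P ⟶ Eff P`. -/
noncomputable def effι (P : Cᵒᵖ ⥤ AddCommGrpCat.{u}) : P ⟶ Eff P where
  app W := AddCommGrpCat.ofHom
    { toFun := fun x V f => (P.map f.op).hom x
      map_zero' := by funext V f; exact map_zero _
      map_add' := fun x y => by funext V f; exact map_add _ x y }
  naturality W W' g := by
    ext x
    funext V f
    change (P.map f.op).hom ((P.map g).hom x) = (P.map (f ≫ g.unop).op).hom x
    rw [op_comp, P.map_comp]
    rfl

theorem effι_apply (P : Cᵒᵖ ⥤ AddCommGrpCat.{u}) (W : Cᵒᵖ) (x : P.obj W) (V : C)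
    (f : V ⟶ W.unop) : ((effι P).app W).hom x V f = (P.map f.op).hom x := rfl

instance mono_effι (P : Cᵒᵖ ⥤ AddCommGrpCat.{u}) : Mono (effι P) := by
  have : ∀ W, Mono ((effι P).app W) := by
    intro W
    rw [AddCommGrpCat.mono_iff_injective]
    intro x y hxy
    have := congrFun (congrFun hxy W.unop) (𝟙 _)
    change (P.map (𝟙 W.unop).op).hom x = (P.map (𝟙 W.unop).op).hom y at this
    simpa using this
  exact NatTrans.mono_of_mono_app _

/-- functoriality of `Eff` -/
noncomputable def effMap {P Q : Cᵒᵖ ⥤ AddCommGrpCat.{u}} (φ : P ⟶ Q) : Eff P ⟶ Eff Q where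
  app W := AddCommGrpCat.ofHom
    { toFun := fun s V f => (φ.app (op V)).hom (s V f)
      map_zero' := by funext V f; exact map_zero _
      map_add' := fun x y => by funext V f; exact map_add _ _ _ }
  naturality W W' g := by
    ext x
    funext V f
    rfl

theorem effι_effMap {P Q : Cᵒᵖ ⥤ AddCommGrpCat.{u}} (φ : P ⟶ Q) :
    effι P ≫ effMap φ = φ ≫ effι Q := by
  ext W x
  funext V f
  change (φ.app (op V)).hom ((P.map f.op).hom x) = (Q.map f.op).hom ((φ.app W).hom x)
  exact ConcreteCategory.congr_hom (φ.naturality f.op) x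

/-- evaluation at the identity -/
noncomputable def ev1 (P : Cᵒᵖ ⥤ AddCommGrpCat.{u}) (V : C) : (Eff P).obj (op V) ⟶ P.obj (op V) :=
  AddCommGrpCat.ofHom
    { toFun := fun s => s V (𝟙 V)
      map_zero' := rfl
      map_add' := fun _ _ => rfl }

theorem ev1_map (P : Cᵒᵖ ⥤ AddCommGrpCat.{u}) {V V' : C} (t : V' ⟶ V) (s : (Eff P).obj (op V)) :
    (ev1 P V').hom (((Eff P).map t.op).hom s) = s V' t := by
  change s V' (𝟙 V' ≫ t) = s V' t
  rw [Category.id_comp]

end Eff

variable [HasPullbacks C]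
variable {U : C} {ι : Type u} (Y : ι → Over U) (P : Cᵒᵖ ⥤ AddCommGrpCat.{u})

/-- evaluation of Čech cochains of `Eff P` -/
noncomputable def ev' {V : C} (g : V ⟶ U) {n : ℕ} (e : Fin (n + 1) → Pt Y V)
    (he : ∀ a, (e a).str = g) : (CechEdge.cx (Eff P) Y).X n ⟶ P.obj (op V) :=
  evM Y (Eff P) g e he ≫ ev1 P V

theorem ev'_congr {V : C} {g g' : V ⟶ U} {n : ℕ} {e e' : Fin (n + 1) → Pt Y V}
    (he : ∀ a, (e a).str = g) (he' : ∀ a, (e' a).str = g') (hg : g = g') (hee : e = e') :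
    ev' Y P g e he = ev' Y P g' e' he' := by
  subst hg hee
  rfl

theorem eff_X_hom_ext {A : AddCommGrpCat.{u}} {n : ℕ} (f f' : A ⟶ (CechEdge.cx (Eff P) Y).X n)
    (h : ∀ (V : C) (g : V ⟶ U) (e : Fin (n + 1) → Pt Y V) (he : ∀ a, (e a).str = g),
      f ≫ ev' Y P g e he = f' ≫ ev' Y P g e he) : f = f' := by
  apply X_hom_ext
  intro V g e he
  ext a
  funext V' t
  have h1 := ConcreteCategory.congr_hom (h V' (t ≫ g) (fun a => (e a).pre t)
    (fun a => by simp [he a])) a
  rw [ev', ← evM_map] at h1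
  simp only [ConcreteCategory.comp_apply] at h1
  erw [ev1_map, ev1_map] at h1
  exact h1

theorem d_ev' {V : C} (g : V ⟶ U) {n : ℕ} (e : Fin (n + 2) → Pt Y V)
    (he : ∀ a, (e a).str = g) :
    (CechEdge.cx (Eff P) Y).d n (n + 1) ≫ ev' Y P g e he =
      ∑ j : Fin (n + 2), (-1 : ℤ) ^ (j : ℕ) • ev' Y P g (e ∘ Fin.succAbove j) (fun a => he _) := by
  rw [ev', ← Category.assoc, d_evM, Preadditive.sum_comp]
  refine Finset.sum_congr rfl (fun j _ => ?_)
  rw [Preadditive.zsmul_comp]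
  rfl

/-- chosen point -/
noncomputable def pt (V : C) (g : V ⟶ U) (h : ∃ x : Pt Y V, x.str = g) : Pt Y V := h.choose

theorem pt_str (V : C) (g : V ⟶ U) (h : ∃ x : Pt Y V, x.str = g) : (pt Y V g h).str = g :=
  h.choose_spec

theorem pt_congr (V : C) {g g' : V ⟶ U} (hg : g = g') (h : ∃ x : Pt Y V, x.str = g)
    (h' : ∃ x : Pt Y V, x.str = g') : pt Y V g h = pt Y V g' h' := by
  subst hg
  rfl

theorem cons_str {V : C} (g : V ⟶ U) {n : ℕ} (x : Pt Y V) (hx : x.str = g)
    (e : Fin (n + 1) → Pt Y V) (he : ∀ a, (e a).str = g) (a : Fin (n + 2)) :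
    ((Fin.cons x e : Fin (n + 2) → Pt Y V) a).str = g := by
  refine Fin.cases ?_ (fun b => ?_) a
  · simpa using hx
  · simpa using he b

theorem canPt_pre_str {V : C} {n : ℕ} (i : Fin (n + 1) → ι) (f : V ⟶ (fp Y i).left)
    (a : Fin (n + 1)) : ((canPt Y i a).pre f).str = f ≫ (fp Y i).hom := by
  rw [Pt.pre_str, canPt_str]

/-- the components of the contracting homotopy -/
noncomputable def hEffC (n : ℕ) (i : Fin (n + 1) → ι) :
    (CechEdge.cx (Eff P) Y).X (n + 1) ⟶ (Eff P).obj (op (fp Y i).left) :=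
  AddCommGrpCat.ofHom
    { toFun := fun c V f =>
        (ev' Y P (f ≫ (fp Y i).hom)
          (Fin.cons (pt Y V (f ≫ (fp Y i).hom) ⟨(canPt Y i 0).pre f, canPt_pre_str Y i f 0⟩)
            (fun a => (canPt Y i a).pre f))
          (cons_str Y _ _ (pt_str Y _ _ _) _ (canPt_pre_str Y i f))).hom c
      map_zero' := by funext V f; exact map_zero _
      map_add' := fun x y => by funext V f; exact map_add _ _ _ }

/-- the contracting homotopy -/
noncomputable def hEff (n : ℕ) :
    (CechEdge.cx (Eff P) Y).X (n + 1) ⟶ (CechEdge.cx (Eff P) Y).X n :=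
  Pi.lift (fun i => hEffC Y P n i)

theorem hEff_proj (n : ℕ) (i : Fin (n + 1) → ι) :
    hEff Y P n ≫ proj Y (Eff P) n i = hEffC Y P n i := by
  rw [hEff]
  exact Pi.lift_π _ _

theorem hEff_ev' {V : C} (g : V ⟶ U) {n : ℕ} (e : Fin (n + 1) → Pt Y V)
    (he : ∀ a, (e a).str = g) :
    hEff Y P n ≫ ev' Y P g e he =
      ev' Y P g (Fin.cons (pt Y V g ⟨e 0, he 0⟩) e) (cons_str Y g _ (pt_str Y _ _ _) e he) := by
  have h1 : hEff Y P n ≫ ev' Y P g e he = hEffC Y P n (fun a => (e a).idx) ≫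
      (Eff P).map (tup Y g e he).left.op ≫ ev1 P V := by
    rw [ev', evM, Category.assoc, ← Category.assoc, hEff_proj]
  rw [h1]
  ext c
  change (ev1 P V).hom (((Eff P).map (tup Y g e he).left.op).hom ((hEffC Y P n _).hom c)) = _
  rw [ev1_map]
  have hg : (tup Y g e he).left ≫ (fp Y (fun a => (e a).idx)).hom = g := Over.w (tup Y g e he)
  change (ev' Y P ((tup Y g e he).left ≫ (fp Y (fun a => (e a).idx)).hom) _ _).hom c = _
  refine ConcreteCategory.congr_hom (ev'_congr Y P _ _ hg ?_) c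
  funext a
  refine Fin.cases ?_ (fun b => ?_) a
  · simp only [Fin.cons_zero]
    exact pt_congr Y V hg _ _
  · simp only [Fin.cons_succ]
    have h1 : (tup Y g e he).left ≫ (Pi.π (Y ∘ fun a => (e a).idx) b).left = (e b).map := by
      rw [← Over.comp_left, tup_π]
      rfl
    change Pt.mk (e b).idx ((tup Y g e he).left ≫ (Pi.π (Y ∘ fun a => (e a).idx) b).left) = e b
    rw [h1]
    rfl

theorem cons_comp_succAbove_zero {α : Type*} {n : ℕ} (x : α) (e : Fin (n + 1) → α) :
    (Fin.cons x e : Fin (n + 2) → α) ∘ Fin.succAbove 0 = e := by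
  funext a
  simp

theorem cons_comp_succAbove_succ {α : Type*} {n : ℕ} (x : α) (e : Fin (n + 2) → α)
    (j : Fin (n + 2)) :
    (Fin.cons x e : Fin (n + 3) → α) ∘ Fin.succAbove j.succ =
      Fin.cons x (e ∘ Fin.succAbove j) := by
  funext a
  refine Fin.cases ?_ (fun b => ?_) a
  · simp
  · simp

theorem hEff_homotopy (n : ℕ) :
    hEff Y P n ≫ (CechEdge.cx (Eff P) Y).d n (n + 1) +
      (CechEdge.cx (Eff P) Y).d (n + 1) (n + 2) ≫ hEff Y P (n + 1) = 𝟙 _ := by
  apply eff_X_hom_ext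
  intro V g e he
  rw [Preadditive.add_comp, Category.assoc, Category.assoc, d_ev', hEff_ev', d_ev',
    Preadditive.comp_sum, Fin.sum_univ_succ (n := n + 2), Category.id_comp]
  have h0 : ev' Y P g ((Fin.cons (pt Y V g ⟨e 0, he 0⟩) e : Fin (n + 3) → Pt Y V) ∘ Fin.succAbove 0)
      (fun a => cons_str Y g _ (pt_str Y _ _ _) e he _) = ev' Y P g e he :=
    ev'_congr Y P _ _ rfl (cons_comp_succAbove_zero _ _)
  have h1 : ∀ j : Fin (n + 2),
      ev' Y P g ((Fin.cons (pt Y V g ⟨e 0, he 0⟩) e : Fin (n + 3) → Pt Y V) ∘ Fin.succAbove j.succ)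
        (fun a => cons_str Y g _ (pt_str Y _ _ _) e he _) =
      hEff Y P n ≫ ev' Y P g (e ∘ Fin.succAbove j) (fun a => he _) := by
    intro j
    rw [hEff_ev']
    exact ev'_congr Y P _ _ rfl (cons_comp_succAbove_succ _ _ _)
  rw [h0]
  simp only [h1, Fin.val_zero, pow_zero, one_smul, Fin.val_succ, pow_succ, mul_neg, mul_one,
    neg_smul, Preadditive.comp_zsmul, Finset.sum_neg_distrib]
  abel

/-- Čech cohomology of `Eff P` vanishes in positive degrees. -/
theorem isZero_cechH_eff (p : ℕ) : IsZero (CohCx.cechH (Eff P) Y (p + 1)) := by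
  have hex : (CechEdge.cx (Eff P) Y).ExactAt (p + 1) := by
    rw [HomologicalComplex.exactAt_iff' _ p (p + 1) (p + 2) (by simp) (by simp),
      ShortComplex.ab_exact_iff]
    intro x hx
    change ((CechEdge.cx (Eff P) Y).d (p + 1) (p + 2)).hom x = 0 at hx
    refine ⟨(hEff Y P p).hom x, ?_⟩
    change ((CechEdge.cx (Eff P) Y).d p (p + 1)).hom ((hEff Y P p).hom x) = x
    have := ConcreteCategory.congr_hom (hEff_homotopy Y P p) x
    simp only [AddCommGrpCat.hom_add, AddMonoidHom.add_apply, ConcreteCategory.comp_apply] at this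
    rw [hx, map_zero, add_zero] at this
    simpa using this
  exact hex.isZero_homology

end Groth.Agent.Lib.Helper21.Cech
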