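import Mathlib
import Groth.Prelude.Def_CohTop
import Groth.Prelude.Def_E1Deg2
import Groth.Agent.Lib.Helper16ClosedEmb
import Groth.Agent.Lib.Helper19GVA
import Groth.Agent.S0468

/-!
# Grothendieck vanishing, part B (helper19): sheaf-level tools

* `VanP Y m`: all `H^p(Y, F)` vanish for `p ≥ m`.
* `vanP_of_isEmpty`, `H_of_SZ` (dévissage to the closed complement), `colim_closure` (from S0468),
  `sz_cokernel`, `mono_of_injective`, `exists_not_surjective`.
-/

set_option autoImplicit false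
set_option linter.style.haveILetI false
universe u
open CategoryTheory CategoryTheory.Limits Opposite TopologicalSpace

namespace Groth.Agent.Lib.Helper19GV

open Groth.Agent.Lib.Helper16.ClosedEmb

variable {Y : TopCat.{u}}

/-- vanishing of all cohomology in degrees `≥ m`. -/
def VanP (Y : TopCat.{u}) (m : ℕ) : Prop :=
  ∀ (F : CohTop.Ab Y) (p : ℕ), m ≤ p → Subsingleton (CohTop.H F p)

/-- the constant sheaf `ℤ` (first argument of the Ext groups defining cohomology). -/
noncomputable abbrev ZY (Y : TopCat.{u}) : CohTop.Ab Y :=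
  (constantSheaf (Opens.grothendieckTopology Y) AddCommGrpCat.{u}).obj (AddCommGrpCat.of (ULift ℤ))

/-- the class of sheaves with vanishing cohomology in degrees `≥ N`. -/
def CV (N : ℕ) (F : CohTop.Ab Y) : Prop := ∀ p : ℕ, N ≤ p → Subsingleton (CohTop.H F p)

lemma cv_iso {N : ℕ} {F G : CohTop.Ab Y} (e : F ≅ G) (h : CV N F) : CV N G :=
  fun p hp => ext_iso.{u} (ZY Y) e p (h p hp)

lemma cv_zero {N : ℕ} {F : CohTop.Ab Y} (h : IsZero F) : CV N F :=
  fun p _ => ext_zero.{u} (ZY Y) h p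

lemma cv_ext {N : ℕ} (S : ShortComplex (CohTop.Ab Y)) (hS : S.ShortExact) (h1 : CV N S.X₁) (h3 : CV N S.X₃) :
    CV N S.X₂ :=
  fun p hp => ext_mid.{u} (ZY Y) hS p (h1 p hp) (h3 p hp)

lemma cv_mono {N M : ℕ} (h : N ≤ M) {F : CohTop.Ab Y} (hF : CV N F) : CV M F :=
  fun p hp => hF p (h.trans hp)

/-- quotient: `X₂ ∈ CV N`, `X₁ ∈ CV (N+1)` implies `X₃ ∈ CV N`. -/
lemma cv_right {N : ℕ} (S : ShortComplex (CohTop.Ab Y)) (hS : S.ShortExact) (h2 : CV N S.X₂)
    (h1 : CV (N + 1) S.X₁) : CV N S.X₃ :=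
  fun p hp => ext_right.{u} (ZY Y) hS p (h2 p hp) (h1 (p + 1) (by omega))

/-- sub: `X₃ ∈ CV N`, `X₂ ∈ CV (N+1)` implies `X₁ ∈ CV (N+1)`. -/
lemma cv_left {N : ℕ} (S : ShortComplex (CohTop.Ab Y)) (hS : S.ShortExact) (h3 : CV N S.X₃)
    (h2 : CV (N + 1) S.X₂) : CV (N + 1) S.X₁ := by
  intro p hp
  obtain ⟨q, rfl⟩ : ∃ q, p = q + 1 := ⟨p - 1, by omega⟩
  exact ext_left.{u} (ZY Y) hS q (h3 q (by omega)) (h2 (q + 1) hp)

/-- a sheaf all of whose sections vanish is zero. -/
lemma isZero_of_sections {F : CohTop.Ab Y} (h : ∀ V : Opens Y, Subsingleton (ToType (F.obj.obj (op V)))) :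
    IsZero F := by
  rw [IsZero.iff_id_eq_zero]
  apply Sheaf.hom_ext
  ext V s
  haveI := h V.unop
  exact Subsingleton.elim _ _

lemma vanP_of_isEmpty [IsEmpty Y] (m : ℕ) : VanP Y m := by
  intro F p _
  refine ext_zero.{u} (ZY Y) (isZero_of_sections (fun V => ?_)) p
  exact subsingleton_of_eq_bot F (by ext x; exact isEmptyElim x)

/-- dévissage: a sheaf vanishing on the opens inside `W` has the cohomology of a sheaf on the closed
complement of `W`. -/
lemma H_of_SZ (W : Opens Y) (H : CohTop.Ab Y) (hH : SZ W H) (m : ℕ)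
    (hv : VanP (TopCat.of ((W : Set Y)ᶜ : Set Y)) m) : CV m H := by
  intro p hp
  obtain ⟨e⟩ := nonempty_H_push (iZ W) (hiZ W) (toZ W H hH) p
  have h1 : Subsingleton (CohTop.H (toZ W H hH) p) := hv _ p hp
  have h2 : Subsingleton (CohTop.H ((CohTop.push (iZ W)).obj (toZ W H hH)) p) :=
    e.symm.injective.subsingleton
  exact ext_iso.{u} (ZY Y) (asIso (θ W H hH)) p h2


/-- cohomology commutes with directed colimits on a Noetherian space (from S0468). -/
lemma colim_closure [NoetherianSpace Y] (N : ℕ) (ι : Type u) [Preorder ι] [IsDirected ι (· ≤ ·)] [Nonempty ι]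
    (D : ι ⥤ CohTop.Ab Y) (h : ∀ i, CV N (D.obj i)) : CV N (colimit D) := by
  intro p hp
  haveI : QuasiSeparatedSpace Y := ⟨fun U V _ _ _ _ => NoetherianSpace.isCompact _⟩
  haveI := Groth.Agent.S0468.result (X := Y) ⊤ (NoetherianSpace.isCompact _) ι p
  let Φ : CohTop.Ab Y ⥤ AddCommGrpCat.{u} :=
    (Sheaf.cohomologyPresheafFunctor (Opens.grothendieckTopology Y) p).flip.obj (op ⊤)
  have hc : IsColimit (Φ.mapCocone (colimit.cocone D)) := isColimitOfPreserves Φ (colimit.isColimit D)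
  have e : ∀ F : CohTop.Ab Y, (Φ.obj F) ≃+ CohTop.H F p := fun F =>
    E1Deg.extCongrLeft (E1Deg.freeSheafIsoConstant (Opens.grothendieckTopology Y) isTerminalTop) F p
  have hsub : ∀ i, Subsingleton (Φ.obj (D.obj i)) := fun i =>
    @Function.Injective.subsingleton _ _ _ (e (D.obj i)).injective (h i p hp)
  have h0 : Subsingleton (Φ.obj (colimit D)) := by
    refine subsingleton_of_forall_eq 0 (fun x => ?_)
    obtain ⟨i, y, hy⟩ := Concrete.isColimit_exists_rep _ hc x
    rw [← hy, @Subsingleton.elim _ (hsub i) y 0]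
    exact map_zero _
  exact @Function.Injective.subsingleton _ _ _ (e (colimit D)).symm.injective h0

/-- if `f` is surjective on sections over the opens inside `W`, its cokernel vanishes there. -/
lemma sz_cokernel {A B : CohTop.Ab Y} (f : A ⟶ B) (W : Opens Y)
    (hf : ∀ V : Opens Y, V ≤ W → Function.Surjective (f.hom.app (op V))) : SZ W (cokernel f) := by
  intro V hV
  refine subsingleton_of_forall_eq 0 (fun t => ?_)
  have hπ := (locSurj_iff (cokernel.π f)).1 inferInstance
  choose V' hV' hs hx using fun x : V => hπ V t x.1 x.2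
  refine TopCat.Sheaf.eq_of_locally_eq' (cokernel f) V' V (fun x => homOfLE (hV' x))
    (fun x hxV => Opens.mem_iSup.mpr ⟨⟨x, hxV⟩, hx ⟨x, hxV⟩⟩) t 0 (fun x => ?_)
  obtain ⟨b, hb⟩ := hs x
  obtain ⟨a, rfl⟩ := hf (V' x) ((hV' x).trans hV) b
  rw [map_zero]
  refine hb.symm.trans ?_
  have hc : f ≫ cokernel.π f = 0 := cokernel.condition f
  have := congrArg (fun m => m.hom.app (op (V' x)) a) hc
  exact this

lemma mono_of_injective {A B : CohTop.Ab Y} (f : A ⟶ B)
    (hf : ∀ V : Opens Y, Function.Injective (f.hom.app (op V))) : Mono f := by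
  haveI : ∀ V : (Opens Y)ᵒᵖ, Mono (f.hom.app V) := fun V =>
    (AddCommGrpCat.mono_iff_injective _).2 (hf V.unop)
  haveI : Mono f.hom := NatTrans.mono_of_mono_app _
  exact Sheaf.Hom.mono_of_presheaf_mono _ _ f

lemma isIso_of_bijective {A B : CohTop.Ab Y} (f : A ⟶ B)
    (hf : ∀ V : Opens Y, Function.Bijective (f.hom.app (op V))) : IsIso f := by
  haveI : ∀ V, IsIso (f.hom.app V) := fun V =>
    (ConcreteCategory.isIso_iff_bijective _).2 (hf V.unop)
  haveI : IsIso f.hom := NatIso.isIso_of_isIso_app _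
  haveI : IsIso ((sheafToPresheaf _ _).map f) := ‹IsIso f.hom›
  exact isIso_of_reflects_iso f (sheafToPresheaf _ _)

lemma exists_not_surjective {A B : CohTop.Ab Y} (f : A ⟶ B) [Mono f] (hf : ¬ IsIso f) :
    ∃ V : Opens Y, ¬ Function.Surjective (f.hom.app (op V)) := by
  by_contra hcon
  push Not at hcon
  exact hf (isIso_of_bijective f (fun V => ⟨Groth.Agent.Lib.Helper16.ClosedEmb.injective_of_mono f V, hcon V⟩))

/-- a space covered by two closed subsets with vanishing cohomology has vanishing cohomology. -/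
lemma vanP_of_cover (W₁ W₂ : Opens Y) (hdisj : W₁ ⊓ W₂ = ⊥) (N : ℕ)
    (h1 : VanP (TopCat.of ((W₁ : Set Y)ᶜ : Set Y)) N) (h2 : VanP (TopCat.of ((W₂ : Set Y)ᶜ : Set Y)) N) :
    VanP Y N := by
  intro F
  let η : F ⟶ (CohTop.push (jU W₂)).obj ((CohTop.pull (jU W₂)).obj F) := ηJ W₂ F
  have hK : CV N (kernel η) := H_of_SZ W₂ _ (sz_sectSupp W₂ F) N h2
  have hQ0 : SZ W₁ (Abelian.coimage η) := by
    intro V hV
    have hbot : (Opens.map (jU W₂)).obj V = ⊥ := by
      ext x
      simp only [Opens.coe_bot, Set.mem_empty_iff_false, iff_false]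
      intro hx
      have : x.1 ∈ W₁ ⊓ W₂ := ⟨hV hx, x.2⟩
      rw [hdisj] at this
      exact this
    have hsub := subsingleton_of_eq_bot ((CohTop.pull (jU W₂)).obj F) hbot
    haveI : Mono (Abelian.factorThruCoimage η) := inferInstance
    exact @Function.Injective.subsingleton _ _ _
      (Groth.Agent.Lib.Helper16.ClosedEmb.injective_of_mono (Abelian.factorThruCoimage η) V) hsub
  have hQ : CV N (Abelian.coimage η) := H_of_SZ W₁ _ hQ0 N h1
  let S : ShortComplex (CohTop.Ab Y) :=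
    ShortComplex.mk (kernel.ι η) (cokernel.π (kernel.ι η)) (cokernel.condition _)
  have hS : S.ShortExact :=
    { exact := ShortComplex.exact_cokernel (kernel.ι η)
      mono_f := (inferInstance : Mono (kernel.ι η))
      epi_g := (inferInstance : Epi (cokernel.π (kernel.ι η))) }
  exact cv_ext S hS hK hQ

end Groth.Agent.Lib.Helper19GV
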