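import Mathlib
import Groth.Prelude.Def_CohTop
import Groth.Agent.Lib.Helper16IrredConst
import Groth.Agent.Lib.Helper19GVB

/-!
# Grothendieck vanishing, part C (helper19): explicit sheaves on an irreducible space

On an irreducible space `Y`, `EU U` is the extension by zero of the constant sheaf `ℤ` on the open `U`,
realized as the subsheaf `V ↦ {s ∈ ℤ_Y(V) | V ⊄ U → s = 0}` of helper16's explicit constant sheaf `cS`.
`sig U F s : EU U ⟶ F` is the map attached to a section `s ∈ F(U)`.
-/

set_option autoImplicit false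
set_option linter.style.haveILetI false
universe u
open CategoryTheory CategoryTheory.Limits Opposite TopologicalSpace

namespace Groth.Agent.Lib.Helper19GV

open Groth.Agent.Lib.Helper16.ClosedEmb Groth.Agent.Lib.Helper16.IrredConst

variable {Y : TopCat.{u}}

/-- sections of the constant sheaf over `V` which vanish unless `V ≤ U`. -/
def Esub (U V : Opens Y) : AddSubgroup (PLift ((V : Set Y).Nonempty) → ULift.{u} ℤ) where
  carrier := {s | ¬ V ≤ U → s = 0}
  zero_mem' := fun _ => rfl
  add_mem' := fun {a b} ha hb h => by rw [ha h, hb h, add_zero]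
  neg_mem' := fun {a} ha h => by rw [ha h, neg_zero]

lemma mem_Esub {U V : Opens Y} (s : PLift ((V : Set Y).Nonempty) → ULift.{u} ℤ) :
    s ∈ Esub U V ↔ (¬ V ≤ U → s = 0) := Iff.rfl

/-- the presheaf `V ↦ Esub U V`. -/
noncomputable def EP (U : Opens Y) : (Opens Y)ᵒᵖ ⥤ AddCommGrpCat.{u} where
  obj V := AddCommGrpCat.of (Esub U V.unop)
  map {V V'} i := AddCommGrpCat.ofHom
    { toFun := fun s => ⟨fun h => s.1 ⟨h.down.mono i.unop.le⟩, fun hV' => by
        have hV : ¬ V.unop ≤ U := fun h => hV' (i.unop.le.trans h)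
        funext h
        rw [s.2 hV]
        rfl⟩
      map_zero' := rfl
      map_add' := fun _ _ => rfl }
  map_id _ := rfl
  map_comp _ _ := rfl

lemma EP_isSheaf [IrreducibleSpace Y] (U : Opens Y) : TopCat.Presheaf.IsSheaf (EP U) := by
  rw [TopCat.Presheaf.isSheaf_iff_isSheaf_comp (forget AddCommGrpCat.{u})]
  refine TopCat.Presheaf.isSheaf_of_isSheafUniqueGluing_types _ (fun ι W sf hsf => ?_)
  have key : ∀ (i j : ι) (hi : (W i : Set Y).Nonempty) (hj : (W j : Set Y).Nonempty),
      (sf i).1 ⟨hi⟩ = (sf j).1 ⟨hj⟩ := by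
    intro i j hi hj
    have hij : ((W i ⊓ W j : Opens Y) : Set Y).Nonempty :=
      nonempty_preirreducible_inter (W i).isOpen (W j).isOpen hi hj
    have := congrFun (congrArg Subtype.val (hsf i j)) ⟨hij⟩
    exact this
  have hne : ∀ h : PLift (((iSup W : Opens Y) : Set Y).Nonempty), ∃ i, (W i : Set Y).Nonempty := by
    intro h
    obtain ⟨x, hx⟩ := h.down
    obtain ⟨i, hi⟩ := Opens.mem_iSup.mp hx
    exact ⟨i, x, hi⟩
  refine ⟨⟨fun h => (sf (hne h).choose).1 ⟨(hne h).choose_spec⟩, ?_⟩, ?_, ?_⟩
  · intro hnot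
    funext h
    have : ∃ j, ¬ W j ≤ U := by
      by_contra hcon
      push Not at hcon
      exact hnot (iSup_le hcon)
    obtain ⟨j, hj⟩ := this
    have hjne : (W j : Set Y).Nonempty := by
      by_contra hemp
      apply hj
      intro x hx
      exact absurd ⟨x, hx⟩ hemp
    rw [key _ j _ hjne, (sf j).2 hj]
    rfl
  · intro i
    apply Subtype.ext
    funext h
    exact key _ _ _ _
  · intro t ht
    apply Subtype.ext
    funext h
    obtain ⟨i, hi⟩ := hne h
    have := congrFun (congrArg Subtype.val (ht i)) ⟨hi⟩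
    refine Eq.trans ?_ (this.trans (key _ _ _ _))
    rfl

/-- the sheaf `j_! ℤ_U` on an irreducible space. -/
noncomputable def EU [IrreducibleSpace Y] (U : Opens Y) : CohTop.Ab Y := ⟨EP U, EP_isSheaf U⟩


section Irr

variable [IrreducibleSpace Y]

/-- the inclusion `j_! ℤ_U ⟶ ℤ_Y`. -/
noncomputable def inclE (U : Opens Y) : EU U ⟶ cS Y (ULift.{u} ℤ) :=
  ⟨{ app := fun V => AddCommGrpCat.ofHom (Esub U V.unop).subtype
     naturality := fun _ _ _ => rfl }⟩

lemma inclE_apply (U V : Opens Y) (e : (EU U).obj.obj (op V)) :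
    (inclE U).hom.app (op V) e = (e : ↥(Esub U V)).1 := rfl

lemma inclE_injective (U V : Opens Y) : Function.Injective ((inclE U).hom.app (op V)) :=
  fun _ _ h => Subtype.ext h

lemma inclE_surjective (U V : Opens Y) (hV : V ≤ U) : Function.Surjective ((inclE U).hom.app (op V)) :=
  fun s => ⟨⟨s, fun h => absurd hV h⟩, rfl⟩

/-- a section of the constant sheaf over a nonempty open is determined by its value. -/
lemma cS_ext' {V : Opens Y} (hV : (V : Set Y).Nonempty) (s t : PLift ((V : Set Y).Nonempty) → ULift.{u} ℤ)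
    (h : (s ⟨hV⟩).down = (t ⟨hV⟩).down) : s = t := by
  funext h'
  have : h' = ⟨hV⟩ := rfl
  rw [this]
  exact ULift.ext _ _ h

/-- the constant section with value `q`, as a section of `EU U` over `V ≤ U`. -/
def constE (U V : Opens Y) (hV : V ≤ U) (q : ℤ) : (EU U).obj.obj (op V) :=
  (⟨fun _ => ⟨q⟩, fun h => absurd hV h⟩ : ↥(Esub U V))

lemma subsingleton_EU_of_not_le (U V : Opens Y) (hV : ¬ V ≤ U) :
    Subsingleton (ToType ((EU U).obj.obj (op V))) :=
  subsingleton_of_forall_eq 0 (fun e => Subtype.ext ((e : ↥(Esub U V)).2 hV))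

open Classical in
/-- the map `j_! ℤ_U ⟶ F` attached to a section of `F` over `U`. -/
noncomputable def sig (U : Opens Y) (F : CohTop.Ab Y) (s : F.obj.obj (op U)) : EU U ⟶ F :=
  ⟨{ app := fun V => AddCommGrpCat.ofHom
        { toFun := fun e => if h : (V.unop : Set Y).Nonempty ∧ V.unop ≤ U then
              ((e : ↥(Esub U V.unop)).1 ⟨h.1⟩).down • F.obj.map (homOfLE h.2).op s else 0
          map_zero' := by
            by_cases h : (V.unop : Set Y).Nonempty ∧ V.unop ≤ U
            · rw [dif_pos h]
              exact zero_smul _ _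
            · rw [dif_neg h]
          map_add' := fun e e' => by
            by_cases h : (V.unop : Set Y).Nonempty ∧ V.unop ≤ U
            · rw [dif_pos h, dif_pos h, dif_pos h]
              exact add_smul _ _ _
            · rw [dif_neg h, dif_neg h, dif_neg h, add_zero] }
     naturality := fun V V' i => by
        ext e
        by_cases h' : (V'.unop : Set Y).Nonempty ∧ V'.unop ≤ U
        · by_cases hVU : V.unop ≤ U
          · have h : (V.unop : Set Y).Nonempty ∧ V.unop ≤ U := ⟨h'.1.mono i.unop.le, hVU⟩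
            change (if h : (V'.unop : Set Y).Nonempty ∧ V'.unop ≤ U then
                ((((EU U).obj.map i e : (EU U).obj.obj V') : ↥(Esub U V'.unop)).1 ⟨h.1⟩).down •
                  F.obj.map (homOfLE h.2).op s else 0) =
              F.obj.map i (if h : (V.unop : Set Y).Nonempty ∧ V.unop ≤ U then
                ((e : ↥(Esub U V.unop)).1 ⟨h.1⟩).down • F.obj.map (homOfLE h.2).op s else 0)
            rw [dif_pos h', dif_pos h, map_zsmul]
            congr 1
            exact (map_map_apply F (homOfLE h.2) i.unop (homOfLE h'.2) s).symm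
          · have he : e = 0 := Subtype.ext ((e : ↥(Esub U V.unop)).2 hVU)
            rw [he]
            simp
        · change (if h : (V'.unop : Set Y).Nonempty ∧ V'.unop ≤ U then
                ((((EU U).obj.map i e : (EU U).obj.obj V') : ↥(Esub U V'.unop)).1 ⟨h.1⟩).down •
                  F.obj.map (homOfLE h.2).op s else 0) = _
          rw [dif_neg h']
          by_cases hne : (V'.unop : Set Y).Nonempty
          · have hVU : ¬ V.unop ≤ U := fun h => h' ⟨hne, i.unop.le.trans h⟩
            have he : e = 0 := Subtype.ext ((e : ↥(Esub U V.unop)).2 hVU)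
            rw [he]
            simp
          · haveI := subsingleton_of_empty F hne
            exact Subsingleton.elim _ _ }⟩

lemma sig_apply (U : Opens Y) (F : CohTop.Ab Y) (s : F.obj.obj (op U)) (V : Opens Y)
    (hV : (V : Set Y).Nonempty) (hVU : V ≤ U) (e : (EU U).obj.obj (op V)) :
    (sig U F s).hom.app (op V) e =
      ((e : ↥(Esub U V)).1 ⟨hV⟩).down • F.obj.map (homOfLE hVU).op s := by
  classical
  change (if h : (V : Set Y).Nonempty ∧ V ≤ U then
      ((e : ↥(Esub U V)).1 ⟨h.1⟩).down • F.obj.map (homOfLE h.2).op s else 0) = _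
  rw [dif_pos ⟨hV, hVU⟩]

end Irr

end Groth.Agent.Lib.Helper19GV
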