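import Mathlib
import Groth.Prelude.Def_CohTop
import Groth.Agent.Lib.Helper16IrredConst
import Groth.Agent.Lib.Helper16Flasque
import Groth.Agent.Lib.Helper19GVC

/-!
# Grothendieck vanishing, part D (helper19): the irreducible case

`vanP_irreducible`: on an irreducible Noetherian space `Y` such that every proper closed subset has vanishing
cohomology in degrees `≥ n`, all cohomology vanishes in degrees `≥ n + 1`.
-/

set_option autoImplicit false
set_option linter.style.haveILetI false
universe u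
open CategoryTheory CategoryTheory.Limits Opposite TopologicalSpace

namespace Groth.Agent.Lib.Helper19GV

open Groth.Agent.Lib.Helper16.ClosedEmb Groth.Agent.Lib.Helper16.IrredConst

variable {Y : TopCat.{u}} [IrreducibleSpace Y]

lemma cv_cS : CV 1 (cS Y (ULift.{u} ℤ)) := by
  intro p hp
  obtain ⟨q, rfl⟩ : ∃ q, p = q + 1 := ⟨p - 1, by omega⟩
  exact Groth.Agent.Lib.Helper16.Flasque.H_subsingleton _ q

lemma ne_bot_of_nonempty {V : Opens Y} (hV : (V : Set Y).Nonempty) : V ≠ ⊥ := by
  rintro rfl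
  obtain ⟨x, hx⟩ := hV
  exact hx

section Main

variable (n : ℕ) (hcl : ∀ W : Opens Y, W ≠ ⊥ → VanP (TopCat.of ((W : Set Y)ᶜ : Set Y)) n)
include hcl

lemma cv_EU (U : Opens Y) : CV (n + 1) (EU U) := by
  by_cases hU : U = ⊥
  · subst hU
    refine cv_zero (isZero_of_sections (fun V => ?_))
    by_cases hV : (V : Set Y).Nonempty
    · exact subsingleton_EU_of_not_le ⊥ V (fun h => by
        obtain ⟨x, hx⟩ := hV
        exact h hx)
    · exact subsingleton_of_empty (EU ⊥) hV
  · haveI : Mono (inclE U) := mono_of_injective _ (inclE_injective U)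
    let S : ShortComplex (CohTop.Ab Y) :=
      ShortComplex.mk (inclE U) (cokernel.π (inclE U)) (cokernel.condition _)
    have hS : S.ShortExact :=
      { exact := ShortComplex.exact_cokernel (inclE U)
        mono_f := (inferInstance : Mono (inclE U))
        epi_g := (inferInstance : Epi (cokernel.π (inclE U))) }
    have h3 : CV n (cokernel (inclE U)) :=
      H_of_SZ U _ (sz_cokernel (inclE U) U (fun V hV => inclE_surjective U V hV)) n (hcl U hU)
    exact cv_left S hS h3 (cv_mono (by omega) cv_cS)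

/-- the value of a section of a subsheaf of the constant sheaf. -/
noncomputable def vvHom {G : CohTop.Ab Y} (ι' : G ⟶ cS Y (ULift.{u} ℤ)) {V : Opens Y}
    (hV : (V : Set Y).Nonempty) : G.obj.obj (op V) →+ ℤ :=
  (AddEquiv.ulift.toAddMonoidHom).comp
    ((Pi.evalAddMonoidHom (fun _ : PLift ((V : Set Y).Nonempty) => ULift.{u} ℤ) ⟨hV⟩).comp
      (ι'.hom.app (op V)).hom)

omit hcl in
lemma vvHom_apply {G : CohTop.Ab Y} (ι' : G ⟶ cS Y (ULift.{u} ℤ)) {V : Opens Y}
    (hV : (V : Set Y).Nonempty) (g : G.obj.obj (op V)) :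
    vvHom ι' hV g = ((ι'.hom.app (op V) g : PLift ((V : Set Y).Nonempty) → ULift.{u} ℤ) ⟨hV⟩).down := rfl

omit hcl in
lemma vvHom_injective {G : CohTop.Ab Y} (ι' : G ⟶ cS Y (ULift.{u} ℤ)) [Mono ι'] {V : Opens Y}
    (hV : (V : Set Y).Nonempty) : Function.Injective (vvHom ι' hV) := by
  rw [injective_iff_map_eq_zero]
  intro g hg
  apply Groth.Agent.Lib.Helper16.ClosedEmb.injective_of_mono ι' V
  rw [map_zero]
  exact cS_ext' hV _ _ hg

omit hcl in
lemma vvHom_res {G : CohTop.Ab Y} (ι' : G ⟶ cS Y (ULift.{u} ℤ)) {V V' : Opens Y}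
    (hV : (V : Set Y).Nonempty) (hV' : (V' : Set Y).Nonempty) (h : V' ≤ V) (g : G.obj.obj (op V)) :
    vvHom ι' hV' (G.obj.map (homOfLE h).op g) = vvHom ι' hV g := by
  have nat := ConcreteCategory.congr_hom (ι'.hom.naturality (homOfLE h).op) g
  rw [vvHom_apply, vvHom_apply]
  have : (ι'.hom.app (op V') (G.obj.map (homOfLE h).op g) : PLift ((V' : Set Y).Nonempty) → ULift.{u} ℤ) =
      (cS Y (ULift.{u} ℤ)).obj.map (homOfLE h).op (ι'.hom.app (op V) g) := nat
  rw [this]
  rfl

lemma cv_sub (U : Opens Y) (G : CohTop.Ab Y) (ι : G ⟶ EU U) [Mono ι] : CV (n + 1) G := by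
  classical
  haveI : Mono (inclE U) := mono_of_injective _ (inclE_injective U)
  let ι' : G ⟶ cS Y (ULift.{u} ℤ) := ι ≫ inclE U
  haveI : Mono ι' := mono_comp _ _
  by_cases hN : ∃ k : ℕ, 0 < k ∧ ∃ (V : Opens Y) (hV : (V : Set Y).Nonempty) (g : G.obj.obj (op V)),
      vvHom ι' hV g = (k : ℤ)
  · -- minimal positive value
    obtain ⟨hd, V₀, hV₀, g₀, hg₀⟩ := Nat.find_spec hN
    have hmin := fun m => Nat.find_min hN (m := m)
    generalize Nat.find hN = d at hd hg₀ hmin
    have hdiv : ∀ (V : Opens Y) (hV : (V : Set Y).Nonempty) (_ : V ≤ V₀) (g : G.obj.obj (op V)),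
        (d : ℤ) ∣ vvHom ι' hV g := by
      intro V hV hVV₀ g
      have hdpos : (0 : ℤ) < d := by exact_mod_cast hd
      apply Int.dvd_of_emod_eq_zero
      by_contra hr
      have hr0 : 0 ≤ vvHom ι' hV g % d := Int.emod_nonneg _ hdpos.ne'
      have hr1 : vvHom ι' hV g % d < d := Int.emod_lt_of_pos _ hdpos
      have hrpos : 0 < vvHom ι' hV g % d := lt_of_le_of_ne hr0 (Ne.symm hr)
      refine hmin (vvHom ι' hV g % d).toNat (by omega) ⟨by omega, V, hV,
        g - (vvHom ι' hV g / d) • G.obj.map (homOfLE hVV₀).op g₀, ?_⟩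
      rw [map_sub, map_zsmul, vvHom_res ι' hV₀ hV hVV₀ g₀, hg₀, Int.toNat_of_nonneg hr0, smul_eq_mul]
      have := Int.emod_add_mul_ediv (vvHom ι' hV g) d
      linarith
    let ψ : EU V₀ ⟶ G := sig V₀ G g₀
    have hψval : ∀ (V : Opens Y) (hV : (V : Set Y).Nonempty) (hVV₀ : V ≤ V₀) (e : (EU V₀).obj.obj (op V)),
        vvHom ι' hV (ψ.hom.app (op V) e) = ((e : ↥(Esub V₀ V)).1 ⟨hV⟩).down * d := by
      intro V hV hVV₀ e
      rw [sig_apply V₀ G g₀ V hV hVV₀ e, map_zsmul, vvHom_res ι' hV₀ hV hVV₀ g₀, hg₀, smul_eq_mul]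
    have hsurj : ∀ V : Opens Y, V ≤ V₀ → Function.Surjective (ψ.hom.app (op V)) := by
      intro V hVV₀ g
      by_cases hV : (V : Set Y).Nonempty
      · obtain ⟨q, hq⟩ := hdiv V hV hVV₀ g
        refine ⟨constE V₀ V hVV₀ q, ?_⟩
        apply vvHom_injective ι' hV
        rw [hψval V hV hVV₀, hq, mul_comm]
        rfl
      · haveI := subsingleton_of_empty G hV
        exact ⟨0, Subsingleton.elim _ _⟩
    have hinj : ∀ V : Opens Y, Function.Injective (ψ.hom.app (op V)) := by
      intro V
      rw [injective_iff_map_eq_zero]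
      intro e he
      by_cases hVV₀ : V ≤ V₀
      · by_cases hV : (V : Set Y).Nonempty
        · have h1 := hψval V hV hVV₀ e
          rw [he, map_zero] at h1
          have hd0 : (d : ℤ) ≠ 0 := by exact_mod_cast hd.ne'
          have h2 : ((e : ↥(Esub V₀ V)).1 ⟨hV⟩).down = 0 := by
            rcases mul_eq_zero.mp h1.symm with h | h
            · exact h
            · exact absurd h hd0
          exact Subtype.ext (cS_ext' hV _ _ h2)
        · haveI := subsingleton_of_empty (EU V₀) hV
          exact Subsingleton.elim _ _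
      · haveI := subsingleton_EU_of_not_le V₀ V hVV₀
        exact Subsingleton.elim _ _
    haveI : Mono ψ := mono_of_injective ψ hinj
    let S : ShortComplex (CohTop.Ab Y) := ShortComplex.mk ψ (cokernel.π ψ) (cokernel.condition _)
    have hS : S.ShortExact :=
      { exact := ShortComplex.exact_cokernel ψ
        mono_f := (inferInstance : Mono ψ)
        epi_g := (inferInstance : Epi (cokernel.π ψ)) }
    have h3 : CV n (cokernel ψ) :=
      H_of_SZ V₀ _ (sz_cokernel ψ V₀ hsurj) n (hcl V₀ (ne_bot_of_nonempty hV₀))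
    exact cv_ext S hS (cv_EU n hcl V₀) (cv_mono (by omega) h3)
  · -- all values vanish: `G = 0`
    refine cv_zero (isZero_of_sections (fun V => ?_))
    by_cases hV : (V : Set Y).Nonempty
    · refine subsingleton_of_forall_eq 0 (fun g => ?_)
      apply vvHom_injective ι' hV
      rw [map_zero]
      by_contra hne
      rcases Int.natAbs_eq (vvHom ι' hV g) with h | h
      · exact hN ⟨(vvHom ι' hV g).natAbs, Int.natAbs_pos.mpr hne, V, hV, g, h⟩
      · refine hN ⟨(vvHom ι' hV g).natAbs, Int.natAbs_pos.mpr hne, V, hV, -g, ?_⟩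
        rw [map_neg]
        omega
    · exact subsingleton_of_empty G hV

lemma cv_quot (U : Opens Y) (Q : CohTop.Ab Y) (π : EU U ⟶ Q) [Epi π] : CV (n + 1) Q := by
  let S : ShortComplex (CohTop.Ab Y) := ShortComplex.mk (kernel.ι π) π (kernel.condition _)
  have hS : S.ShortExact :=
    { exact := ShortComplex.exact_kernel π
      mono_f := (inferInstance : Mono (kernel.ι π))
      epi_g := (inferInstance : Epi π) }
  exact cv_right S hS (cv_EU n hcl U) (cv_mono (by omega) (cv_sub n hcl U _ (kernel.ι π)))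

/-- **The irreducible case.** -/
theorem vanP_irreducible [NoetherianSpace Y] : VanP Y (n + 1) := by
  intro F
  refine zorn_all (C := CohTop.Ab Y) (CV (n + 1)) (fun e h => cv_iso e h) (fun A h => cv_zero h)
    (fun S hS h1 h3 => cv_ext S hS h1 h3) (fun ι _ _ _ D h => colim_closure (n + 1) ι D h) ?_ F
  intro F F' m _ hm
  obtain ⟨V, hV⟩ := exists_not_surjective m hm
  have hVne : (V : Set Y).Nonempty := by
    by_contra hemp
    apply hV
    intro s
    haveI := subsingleton_of_empty F hemp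
    exact ⟨0, Subsingleton.elim _ _⟩
  have : ∃ s : F.obj.obj (op V), ∀ t, m.hom.app (op V) t ≠ s := by
    by_contra hcon
    push Not at hcon
    exact hV hcon
  obtain ⟨s, hs⟩ := this
  refine ⟨EU V, sig V F s, fun Q π _ => cv_quot n hcl V Q π, ?_⟩
  rintro ⟨τ, hτ⟩
  apply hs (τ.hom.app (op V) (constE V V le_rfl 1))
  have h1 : (τ ≫ m).hom.app (op V) (constE V V le_rfl 1) = (sig V F s).hom.app (op V) (constE V V le_rfl 1) := by
    rw [hτ]
  rw [sig_apply V F s V hVne le_rfl] at h1
  refine h1.trans ?_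
  change (1 : ℤ) • F.obj.map (homOfLE (le_refl V)).op s = s
  rw [one_smul]
  have : (homOfLE (le_refl V)).op = 𝟙 (op V) := rfl
  rw [this, F.obj.map_id]
  rfl

end Main

end Groth.Agent.Lib.Helper19GV
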