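import Mathlib
import Groth.Prelude.Def_CohTop
import Groth.Agent.Lib.Helper19GVD

/-!
# Grothendieck vanishing, part E (helper19): Noetherian induction

`vanP_of_dim_lt`: on a Noetherian space of Krull dimension `< n`, all `H^p` vanish for `p ≥ n`.
-/

set_option autoImplicit false
set_option linter.style.haveILetI false
universe u
open CategoryTheory CategoryTheory.Limits Opposite TopologicalSpace

namespace Groth.Agent.Lib.Helper19GV

open Groth.Agent.Lib.Helper16.ClosedEmb

/-- a proper closed subset of an irreducible space has smaller dimension. -/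
lemma dim_compl_lt {Y : Type u} [TopologicalSpace Y] [IrreducibleSpace Y] (W : Opens Y) (hW : W ≠ ⊥) (n : ℕ)
    (hdim : topologicalKrullDim Y < ((n + 1 : ℕ) : WithBot ℕ∞)) :
    topologicalKrullDim ((W : Set Y)ᶜ : Set Y) < ((n : ℕ) : WithBot ℕ∞) := by
  by_contra hcon
  rw [not_lt] at hcon
  obtain ⟨p, hp⟩ := Order.le_krullDim_iff.mp hcon
  have hind : Topology.IsInducing (Subtype.val : ((W : Set Y)ᶜ : Set Y) → Y) := Topology.IsInducing.subtypeVal
  let q : LTSeries (IrreducibleCloseds Y) :=
    p.map (IrreducibleCloseds.map Subtype.val continuous_subtype_val)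
      (IrreducibleCloseds.map_strictMono_of_isInducing hind)
  let T : IrreducibleCloseds Y :=
    ⟨Set.univ, (IrreducibleSpace.isIrreducible_univ Y), isClosed_univ⟩
  have hclosed : IsClosed ((W : Set Y)ᶜ : Set Y) := isClosed_compl_iff.2 W.isOpen
  have hlast : q.last < T := by
    have hsub : (q.last : Set Y) ⊆ ((W : Set Y)ᶜ : Set Y) := by
      have : (q.last : Set Y) = closure (Subtype.val '' (p.last : Set ((W : Set Y)ᶜ : Set Y))) := by
        rw [LTSeries.last_map]
        rfl
      rw [this]
      apply closure_minimal _ hclosed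
      rintro _ ⟨y, _, rfl⟩
      exact y.2
    refine lt_of_le_of_ne (fun x _ => trivial) (fun heq => ?_)
    have hW' : (W : Set Y).Nonempty := by
      by_contra hemp
      apply hW
      ext x
      simp only [Opens.coe_bot, Set.mem_empty_iff_false, iff_false]
      exact fun hx => hemp ⟨x, hx⟩
    obtain ⟨x, hx⟩ := hW'
    have : x ∈ (q.last : Set Y) := by
      rw [heq]
      trivial
    exact hsub this hx
  have hlen := Order.LTSeries.length_le_krullDim (q.snoc T hlast)
  rw [RelSeries.snoc_length, LTSeries.map_length, hp] at hlen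
  exact absurd (lt_of_le_of_lt hlen hdim) (lt_irrefl _)

lemma isEmpty_of_dim_lt_zero {Y : Type u} [TopologicalSpace Y]
    (hdim : topologicalKrullDim Y < ((0 : ℕ) : WithBot ℕ∞)) : IsEmpty Y := by
  by_contra hne
  rw [not_isEmpty_iff] at hne
  obtain ⟨x⟩ := hne
  haveI : Nonempty (IrreducibleCloseds Y) :=
    ⟨⟨closure {x}, isIrreducible_singleton.closure, isClosed_closure⟩⟩
  have : (0 : WithBot ℕ∞) ≤ topologicalKrullDim Y := Order.krullDim_nonneg
  exact absurd (lt_of_le_of_lt this hdim) (by simp)

theorem vanP_of_dim_lt (n : ℕ) : ∀ (X : TopCat.{u}) [NoetherianSpace X],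
    topologicalKrullDim X < ((n : ℕ) : WithBot ℕ∞) → VanP X n := by
  induction n with
  | zero =>
    intro X _ hdim
    haveI := isEmpty_of_dim_lt_zero hdim
    exact vanP_of_isEmpty 0
  | succ n IHn =>
    intro X _ hdimX
    -- Noetherian induction on closed subsets
    have key : ∀ Z : Closeds X, ∀ (Y : TopCat.{u}) (i : Y ⟶ X), Topology.IsClosedEmbedding i →
        Set.range i = (Z : Set X) → VanP Y (n + 1) := by
      intro Z
      induction Z using WellFoundedLT.induction with
      | _ Z IH =>
      intro Y i hi hr
      haveI : NoetherianSpace Y := hi.isInducing.noetherianSpace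
      have hdimY : topologicalKrullDim Y < ((n + 1 : ℕ) : WithBot ℕ∞) :=
        lt_of_le_of_lt hi.isInducing.topologicalKrullDim_le hdimX
      -- closed subsets of `Y`
      have hsub : ∀ W : Opens Y, (W : Set Y).Nonempty → VanP (TopCat.of ((W : Set Y)ᶜ : Set Y)) (n + 1) := by
        intro W hW
        have hcl : Topology.IsClosedEmbedding (iZ W ≫ i) := hi.comp (hiZ W)
        let Z' : Closeds X := ⟨Set.range (iZ W ≫ i), hcl.isClosed_range⟩
        have hlt : Z' < Z := by
          refine lt_of_le_of_ne ?_ ?_
          · rintro _ ⟨y, rfl⟩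
            rw [← SetLike.mem_coe, ← hr]
            exact ⟨y.1, rfl⟩
          · intro heq
            obtain ⟨y, hy⟩ := hW
            have h1 : i y ∈ (Z : Set X) := by rw [← hr]; exact ⟨y, rfl⟩
            rw [← heq] at h1
            obtain ⟨y', hy'⟩ := h1
            have : (y' : Y) = y := hi.injective hy'
            exact y'.2 (by rw [this]; exact hy)
        exact IH Z' hlt _ (iZ W ≫ i) hcl rfl
      by_cases hemp : IsEmpty Y
      · exact vanP_of_isEmpty (n + 1)
      · rw [not_isEmpty_iff] at hemp
        by_cases hirr : IsPreirreducible (Set.univ : Set Y)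
        · haveI : IrreducibleSpace Y :=
            { isPreirreducible_univ := hirr
              toNonempty := hemp }
          refine vanP_irreducible n (fun W hW => ?_)
          exact IHn (TopCat.of ((W : Set Y)ᶜ : Set Y)) (dim_compl_lt W hW n hdimY)
        · unfold IsPreirreducible at hirr
          push Not at hirr
          obtain ⟨u, v, hu, hv, hune, hvne, huv⟩ := hirr
          simp only [Set.univ_inter] at hune hvne huv
          let W₁ : Opens Y := ⟨u, hu⟩
          let W₂ : Opens Y := ⟨v, hv⟩
          refine vanP_of_cover W₁ W₂ ?_ (n + 1) (hsub W₁ hune) (hsub W₂ hvne)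
          ext x
          simp only [Opens.coe_inf, Opens.coe_bot, Set.mem_empty_iff_false, iff_false]
          intro hx
          have : x ∈ u ∩ v := hx
          rw [huv] at this
          exact this
    refine key ⊤ X (𝟙 X) ?_ ?_
    · exact Topology.IsClosedEmbedding.id
    · ext x
      simp
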