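import Mathlib
import Groth.Prelude.Def_FGA
import Groth.Agent.Lib.Helper12SnapA
import Groth.Agent.Lib.Helper23LocGen
import Groth.Agent.S0458

/-!
# Intersection numbers as iterated differences (helper12) — Snapper / intersection numbers, part B

* `eulerCharLE_eq_euler`: on a proper `k`-scheme of dimension `≤ d`, `FGA.eulerCharLE k X F d = Curv2.euler k X F`.
* `asum`: the alternating sum over subsets with `Curv2.euler`; `asum_succ`, `asum_eq_dchi`.
* `intNum_eq_dchi`: `FGA.intNum k X d M F = dchi k X (List.ofFn M) F`.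
-/

set_option autoImplicit false
set_option linter.style.haveILetI false
set_option linter.unusedSectionVars false
universe u
open CategoryTheory CategoryTheory.Limits AlgebraicGeometry TopologicalSpace Opposite

namespace Groth.Agent.Lib.Helper12.Snap

open Groth.Agent.Lib.Helper4.Dev Groth.Agent.Lib.Helper4.CurveChi

variable (k : Type u) [Field k] (X : Scheme.{u}) [X.Over (Spec (CommRingCat.of k))]
  [IsProper (X ↘ (Spec (CommRingCat.of k)))]

theorem eulerCharLE_eq_euler (d : ℕ) (hd : topologicalKrullDim X ≤ d) (F : X.Modules) :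
    FGA.eulerCharLE k X F d = Curv2.euler k X F := by
  haveI : IsNoetherian X := Groth.Agent.Lib.Helper4.CurveRR.isNoetherian_of_proper k X
  have hvan : ∀ p, d + 1 ≤ p → Subsingleton (Coh.HH X F p) := fun p hp =>
    Groth.Agent.S0458.result (X := X.carrier) d hd (Coh.toAb F) p (by omega)
  rw [Groth.Agent.Lib.Helper6.Euler.euler_eq_sum k X F (d + 1) hvan, Finset.sum_range_succ]
  haveI := hvan (d + 1) le_rfl
  rw [Module.finrank_zero_of_subsingleton]
  unfold FGA.eulerCharLE
  simp

/-- `(A ⊗ T) ⊗ F ≅ T ⊗ (F ⊗ A)` -/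
noncomputable def rotIso (A T F : X.Modules) :
    CohB1.tensorMod (CohB1.tensorMod A T) F ≅ CohB1.tensorMod T (CohB1.tensorMod F A) :=
  Groth.Agent.Lib.Helper23.LocGen.tensorAssoc A T F ≪≫
    Groth.Agent.Lib.Helper23.AmpleFam2.tensorBraid A (CohB1.tensorMod T F) ≪≫
    Groth.Agent.Lib.Helper23.LocGen.tensorAssoc T F A

/-- the alternating sum over subsets, with the full Euler characteristic -/
noncomputable def asum {r : ℕ} (M : Fin r → X.Modules) (F : X.Modules) : ℤ :=
  (Finset.univ : Finset (Finset (Fin r))).sum fun I =>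
    (-1 : ℤ) ^ I.card *
      Curv2.euler k X (CohB1.tensorMod (FGA.tensorList ((I.sort (· ≤ ·)).map M)) F)

theorem intNum_eq_asum (d : ℕ) (hd : topologicalKrullDim X ≤ d) {r : ℕ} (M : Fin r → X.Modules)
    (F : X.Modules) : FGA.intNum k X d M F = asum k X M F := by
  unfold FGA.intNum asum
  refine Finset.sum_congr rfl fun I _ => ?_
  rw [eulerCharLE_eq_euler k X d hd]

theorem sort_map_succ {r : ℕ} (J : Finset (Fin r)) :
    (J.map (Fin.succEmb r)).sort (· ≤ ·) = (J.sort (· ≤ ·)).map Fin.succ :=
  (Finset.map_sort (Fin.succEmb r) J (· ≤ ·) (· ≤ ·)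
    fun a _ b _ => (Fin.succ_le_succ_iff (a := a) (b := b)).symm).symm

theorem sum_powerset_map_succ {r : ℕ} (g : Finset (Fin (r + 1)) → ℤ) :
    ∑ t ∈ ((Finset.univ : Finset (Fin r)).map (Fin.succEmb r)).powerset, g t =
      ∑ J : Finset (Fin r), g (J.map (Fin.succEmb r)) := by
  classical
  symm
  refine Finset.sum_bij (fun J _ => J.map (Fin.succEmb r)) ?_ ?_ ?_ ?_
  · intro J _
    rw [Finset.mem_powerset]
    exact Finset.map_subset_map.2 (Finset.subset_univ J)
  · intro J₁ _ J₂ _ h
    exact Finset.map_injective _ h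
  · intro t ht
    rw [Finset.mem_powerset] at ht
    refine ⟨Finset.univ.filter (fun j => Fin.succ j ∈ t), Finset.mem_univ _, ?_⟩
    ext i
    constructor
    · intro hi
      obtain ⟨j, hj, rfl⟩ := Finset.mem_map.1 hi
      exact (Finset.mem_filter.1 hj).2
    · intro hi
      obtain ⟨j, _, rfl⟩ := Finset.mem_map.1 (ht hi)
      exact Finset.mem_map.2 ⟨j, Finset.mem_filter.2 ⟨Finset.mem_univ _, hi⟩, rfl⟩
  · intro J _
    rfl

theorem sort_insert_zero {r : ℕ} (J : Finset (Fin r)) :
    (insert (0 : Fin (r + 1)) (J.map (Fin.succEmb r))).sort (· ≤ ·) =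
      0 :: (J.map (Fin.succEmb r)).sort (· ≤ ·) := by
  apply Finset.sort_insert
  · intro b _
    exact Fin.zero_le b
  · simp only [Finset.mem_map, Fin.coe_succEmb, not_exists, not_and]
    intro x _
    exact Fin.succ_ne_zero x

theorem asum_succ {r : ℕ} (M : Fin (r + 1) → X.Modules) (F : X.Modules) :
    asum k X M F = asum k X (fun i => M i.succ) F -
      asum k X (fun i => M i.succ) (CohB1.tensorMod F (M 0)) := by
  classical
  unfold asum
  have huniv : (Finset.univ : Finset (Fin (r + 1))) =
      insert 0 ((Finset.univ : Finset (Fin r)).map (Fin.succEmb r)) := by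
    ext i
    simp only [Finset.mem_univ, Finset.mem_insert, Finset.mem_map, Fin.coe_succEmb, true_and, true_iff]
    exact (Fin.eq_zero_or_eq_succ i).imp id (fun ⟨j, hj⟩ => ⟨j, hj.symm⟩)
  have hnot : (0 : Fin (r + 1)) ∉ (Finset.univ : Finset (Fin r)).map (Fin.succEmb r) := by
    simp only [Finset.mem_map, Finset.mem_univ, Fin.coe_succEmb, true_and, not_exists]
    intro x
    exact Fin.succ_ne_zero x
  rw [← Finset.powerset_univ, huniv, Finset.sum_powerset_insert hnot, sum_powerset_map_succ,
    sum_powerset_map_succ, sub_eq_add_neg, ← Finset.sum_neg_distrib]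
  congr 1
  · refine Finset.sum_congr rfl fun J _ => ?_
    rw [Finset.card_map, sort_map_succ, List.map_map]
    rfl
  · refine Finset.sum_congr rfl fun J _ => ?_
    have h0 : (0 : Fin (r + 1)) ∉ J.map (Fin.succEmb r) := by
      simp only [Finset.mem_map, Fin.coe_succEmb, not_exists, not_and]
      intro x _
      exact Fin.succ_ne_zero x
    rw [Finset.card_insert_of_notMem h0, Finset.card_map, sort_insert_zero, sort_map_succ,
      List.map_cons, List.map_map, pow_succ]
    have e := rotIso X (M 0) (FGA.tensorList (List.map (M ∘ Fin.succ) (J.sort (· ≤ ·)))) F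
    have he := euler_congr_iso k e
    change _ * Curv2.euler k X (CohB1.tensorMod (CohB1.tensorMod (M 0) _) F) = _
    rw [he]
    change _ = -(_ * Curv2.euler k X (CohB1.tensorMod
      (FGA.tensorList (List.map (M ∘ Fin.succ) (J.sort (· ≤ ·)))) (CohB1.tensorMod F (M 0))))
    ring

theorem asum_eq_dchi {r : ℕ} (M : Fin r → X.Modules) (F : X.Modules) :
    asum k X M F = dchi k X (List.ofFn M) F := by
  induction r generalizing F with
  | zero =>
    unfold asum
    rw [List.ofFn_zero, dchi_nil]
    have : (Finset.univ : Finset (Finset (Fin 0))) = {∅} := by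
      ext I
      simp only [Finset.mem_univ, Finset.mem_singleton, true_iff]
      exact Finset.eq_empty_of_isEmpty I
    rw [this, Finset.sum_singleton]
    simp only [Finset.card_empty, pow_zero, one_mul, Finset.sort_empty, List.map_nil]
    exact euler_congr_iso k (Groth.Agent.Lib.Helper23.TensorUnit.unitTensorIso F)
  | succ r ih =>
    rw [asum_succ, List.ofFn_succ, dchi_cons, ih, ih]

theorem intNum_eq_dchi (d : ℕ) (hd : topologicalKrullDim X ≤ d) {r : ℕ} (M : Fin r → X.Modules)
    (F : X.Modules) : FGA.intNum k X d M F = dchi k X (List.ofFn M) F := by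
  rw [intNum_eq_asum k X d hd, asum_eq_dchi]

end Groth.Agent.Lib.Helper12.Snap
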