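import Mathlib
import Groth.Agent.Lib.Helper12SnapB
import Groth.Agent.Lib.Helper12SnapArith
import Groth.Agent.Lib.Helper23SecTw6

/-!
# Snapper's theorem (helper12) — Snapper / intersection numbers, part C

* tensor bookkeeping up to (non-canonical) isomorphism: `tensor_congr`, `swapR`, `tensorList_map_update`,
  `multiTwist_succ : multiTwist L (m + e_j) ≅ multiTwist L m ⊗ L_j`.
* `vanish_dchi`: iterated differences of `m ↦ dchi l (multiTwist L m ⊗ G)` vanish.
* `snapper`: `m ↦ χ(multiTwist L m ⊗ F)` is a polynomial of total degree `≤ r` when `dim Supp F ≤ r`.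
-/

set_option autoImplicit false
set_option linter.style.haveILetI false
set_option linter.unusedSectionVars false
universe u
open CategoryTheory CategoryTheory.Limits AlgebraicGeometry TopologicalSpace Opposite

namespace Groth.Agent.Lib.Helper12.Snap

open Groth.Agent.Lib.Helper4.Dev Groth.Agent.Lib.Helper4.CurveChi Groth.Agent.Lib.Helper4.KFilt
  Groth.Agent.Lib.Helper4.KTensor

section Iso

variable {X : Scheme.{u}}

theorem tensor_congr_right {A A' : X.Modules} (B : X.Modules) (e : Nonempty (A ≅ A')) :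
    Nonempty (CohB1.tensorMod A B ≅ CohB1.tensorMod A' B) :=
  e.map fun e => (DCoh.tensorRightMod B).mapIso e

theorem tensor_congr_left (A : X.Modules) {B B' : X.Modules} (e : Nonempty (B ≅ B')) :
    Nonempty (CohB1.tensorMod A B ≅ CohB1.tensorMod A B') := by
  obtain ⟨e⟩ := e
  exact ⟨Groth.Agent.Lib.Helper23.AmpleFam2.tensorBraid A B ≪≫ (DCoh.tensorRightMod A).mapIso e ≪≫
    Groth.Agent.Lib.Helper23.AmpleFam2.tensorBraid B' A⟩

theorem tensor_congr {A A' B B' : X.Modules} (e₁ : Nonempty (A ≅ A')) (e₂ : Nonempty (B ≅ B')) :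
    Nonempty (CohB1.tensorMod A B ≅ CohB1.tensorMod A' B') := by
  obtain ⟨f⟩ := tensor_congr_right B e₁
  obtain ⟨g⟩ := tensor_congr_left A' e₂
  exact ⟨f ≪≫ g⟩

theorem iso_trans {A B C : X.Modules} (e₁ : Nonempty (A ≅ B)) (e₂ : Nonempty (B ≅ C)) : Nonempty (A ≅ C) := by
  obtain ⟨f⟩ := e₁
  obtain ⟨g⟩ := e₂
  exact ⟨f ≪≫ g⟩

/-- `(A ⊗ B) ⊗ T ≅ (A ⊗ T) ⊗ B` -/
theorem swapR (A T B : X.Modules) :
    Nonempty (CohB1.tensorMod (CohB1.tensorMod A B) T ≅ CohB1.tensorMod (CohB1.tensorMod A T) B) := by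
  obtain ⟨f⟩ := tensor_congr_left A ⟨Groth.Agent.Lib.Helper23.AmpleFam2.tensorBraid B T⟩
  exact ⟨Groth.Agent.Lib.Helper23.LocGen.tensorAssoc A B T ≪≫ f ≪≫
    (Groth.Agent.Lib.Helper23.LocGen.tensorAssoc A T B).symm⟩

theorem tensorList_map_update {ι : Type*} (P Q : ι → X.Modules) (j : ι) (Bm : X.Modules)
    (hne : ∀ i, i ≠ j → Nonempty (P i ≅ Q i)) (hj : Nonempty (P j ≅ CohB1.tensorMod (Q j) Bm)) :
    ∀ l : List ι, l.Nodup →
      (j ∉ l → Nonempty (FGA.tensorList (l.map P) ≅ FGA.tensorList (l.map Q))) ∧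
      (j ∈ l → Nonempty (FGA.tensorList (l.map P) ≅ CohB1.tensorMod (FGA.tensorList (l.map Q)) Bm)) := by
  intro l
  induction l with
  | nil =>
    intro _
    exact ⟨fun _ => ⟨Iso.refl _⟩, fun h => absurd h List.not_mem_nil⟩
  | cons i l ih =>
    intro hnd
    obtain ⟨hil, hl⟩ := List.nodup_cons.1 hnd
    obtain ⟨ih1, ih2⟩ := ih hl
    constructor
    · intro hjl
      rw [List.mem_cons, not_or] at hjl
      exact tensor_congr (hne i (Ne.symm hjl.1)) (ih1 hjl.2)
    · intro hjl
      by_cases hji : j = i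
      · subst hji
        exact iso_trans (tensor_congr hj (ih1 hil)) (swapR (Q j) _ Bm)
      · have hjl' : j ∈ l := (List.mem_cons.1 hjl).resolve_left hji
        exact iso_trans (tensor_congr (hne i (Ne.symm hji)) (ih2 hjl'))
          ⟨(Groth.Agent.Lib.Helper23.LocGen.tensorAssoc (Q i) _ Bm).symm⟩

theorem multiTwist_succ {n : ℕ} (L : Fin n → X.Modules) (m : Fin n → ℕ) (j : Fin n) :
    Nonempty (FGA.multiTwist L (m + Pi.single j 1) ≅ CohB1.tensorMod (FGA.multiTwist L m) (L j)) := by
  unfold FGA.multiTwist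
  refine (tensorList_map_update (fun i => CohB1.tensorPow (L i) ((m + Pi.single j 1 : Fin n → ℕ) i))
    (fun i => CohB1.tensorPow (L i) (m i)) j (L j) ?_ ?_ (List.finRange n) (List.nodup_finRange n)).2
    (List.mem_finRange j)
  · intro i hi
    have : (m + Pi.single j 1 : Fin n → ℕ) i = m i := by rw [Pi.add_apply, Pi.single_eq_of_ne hi, add_zero]
    simp only [this]
    exact ⟨Iso.refl _⟩
  · have : (m + Pi.single j 1 : Fin n → ℕ) j = m j + 1 := by rw [Pi.add_apply, Pi.single_eq_same]
    simp only [this]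
    exact ⟨Iso.refl _⟩

theorem twist_succ_iso {n : ℕ} (L : Fin n → X.Modules) (m : Fin n → ℕ) (j : Fin n) (G : X.Modules) :
    Nonempty (CohB1.tensorMod (FGA.multiTwist L (m + Pi.single j 1)) G ≅
      CohB1.tensorMod (CohB1.tensorMod (FGA.multiTwist L m) G) (L j)) :=
  iso_trans (tensor_congr_right G (multiTwist_succ L m j)) (swapR _ G (L j))

theorem isInvertible_tensorList (l : List X.Modules) (hl : ∀ M ∈ l, PicF.IsInvertible M) :
    PicF.IsInvertible (FGA.tensorList l) := by
  induction l with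
  | nil => exact Groth.Agent.Lib.Helper23.TensorUnit.isInvertible_structureModule X
  | cons M l ih =>
    exact Groth.Agent.Lib.Helper23.SecTw.isInvertible_tensorMod (hl M (List.mem_cons_self ..))
      (ih fun N hN => hl N (List.mem_cons_of_mem _ hN))

theorem isInvertible_multiTwist {n : ℕ} (L : Fin n → X.Modules) (hL : ∀ i, PicF.IsInvertible (L i))
    (m : Fin n → ℕ) : PicF.IsInvertible (FGA.multiTwist L m) := by
  unfold FGA.multiTwist
  refine isInvertible_tensorList _ fun M hM => ?_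
  obtain ⟨i, -, rfl⟩ := List.mem_map.1 hM
  exact Groth.Agent.Lib.Helper23.SecTw.isInvertible_tensorPow (hL i) (m i)

theorem isCoh_invertible_tensor (T G : X.Modules) (hT : PicF.IsInvertible T) (hG : Coh.IsCoh G) :
    Coh.IsCoh (CohB1.tensorMod T G) :=
  isCoh_of_iso (Groth.Agent.Lib.Helper23.AmpleFam2.tensorBraid G T)
    (isCoh_tensorMod_locFree G T hG 1
      (Groth.Agent.Lib.Helper23.SecTw.isFinLocFreeOfRank_one_of_isInvertible T hT))

end Iso

section Proper

variable (k : Type u) [Field k] (X : Scheme.{u}) [X.Over (Spec (CommRingCat.of k))]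
  [IsProper (X ↘ (Spec (CommRingCat.of k)))]

open Groth.Agent.Lib.Helper12.SnapArith in
theorem vanish_dchi {n : ℕ} (L : Fin n → X.Modules) (hL : ∀ i, PicF.IsInvertible (L i)) :
    ∀ (s : ℕ) (l : List X.Modules), (∀ M ∈ l, PicF.IsInvertible M) → ∀ G : X.Modules, Coh.IsCoh G →
      topologicalKrullDim ↥(CohB1.support G) < ((s + l.length : ℕ) : WithBot ℕ∞) →
      Vanish s (fun m : Fin n → ℕ => ((dchi k X l (CohB1.tensorMod (FGA.multiTwist L m) G) : ℤ) : ℚ)) := by
  intro s
  induction s with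
  | zero =>
    intro l hl G hG hdim m
    have hT := isInvertible_multiTwist L hL m
    have hc := isCoh_invertible_tensor _ G hT hG
    have hd : topologicalKrullDim ↥(CohB1.support (CohB1.tensorMod (FGA.multiTwist L m) G)) <
        (l.length : WithBot ℕ∞) := by
      refine lt_of_le_of_lt (dim_le_of_subset (support_tensorMod_subset _ G)) ?_
      simpa using hdim
    change ((dchi k X l (CohB1.tensorMod (FGA.multiTwist L m) G) : ℤ) : ℚ) = 0
    rw [dchi_eq_zero k X l hl _ hc hd]
    rfl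
  | succ s ih =>
    intro l hl G hG hdim j
    have hl' : ∀ M ∈ L j :: l, PicF.IsInvertible M := by
      intro M hM
      rcases List.mem_cons.1 hM with rfl | h
      · exact hL j
      · exact hl M h
    have hdim' : topologicalKrullDim ↥(CohB1.support G) <
        ((s + (L j :: l).length : ℕ) : WithBot ℕ∞) := by
      have : s + (L j :: l).length = s + 1 + l.length := by rw [List.length_cons]; omega
      rw [this]
      exact hdim
    have h := (ih (L j :: l) hl' G hG hdim').neg
    refine h.congr fun m => ?_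
    obtain ⟨e⟩ := twist_succ_iso L m j G
    simp only [diff_apply, Pi.neg_apply]
    rw [(isAdd_dchi k X l hl).iso e, dchi_cons]
    push_cast
    ring

open Groth.Agent.Lib.Helper12.SnapArith in
/-- **Snapper's theorem** (with the full Euler characteristic). -/
theorem snapper_euler {n : ℕ} (L : Fin n → X.Modules) (hL : ∀ i, PicF.IsInvertible (L i))
    (F : X.Modules) (hF : Coh.IsCoh F) (r : ℕ)
    (hr : topologicalKrullDim ↥(CohB1.support F) ≤ (r : WithBot ℕ∞)) :
    ∃ P : MvPolynomial (Fin n) ℚ, P.totalDegree ≤ r ∧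
      ∀ m : Fin n → ℕ, ((Curv2.euler k X (CohB1.tensorMod (FGA.multiTwist L m) F) : ℤ) : ℚ) =
        MvPolynomial.eval (fun i => (m i : ℚ)) P := by
  have hv := vanish_dchi k X L hL (r + 1) [] (fun _ h => absurd h List.not_mem_nil) F hF
    (by rw [List.length_nil, add_zero, lt_succ_iff_le]; exact hr)
  exact exists_poly_of_vanish r _ hv

/-- **Snapper's theorem** (with `FGA.eulerCharLE`). -/
theorem snapper (d : ℕ) (hd : topologicalKrullDim X ≤ d) {n : ℕ} (L : Fin n → X.Modules)
    (hL : ∀ i, PicF.IsInvertible (L i)) (F : X.Modules) (hF : Coh.IsCoh F) (r : ℕ)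
    (hr : topologicalKrullDim ↥(CohB1.support F) ≤ (r : WithBot ℕ∞)) :
    ∃ P : MvPolynomial (Fin n) ℚ, P.totalDegree ≤ r ∧
      ∀ m : Fin n → ℕ, (FGA.eulerCharLE k X (CohB1.tensorMod (FGA.multiTwist L m) F) d : ℚ) =
        MvPolynomial.eval (fun i => (m i : ℚ)) P := by
  obtain ⟨P, hP, hPe⟩ := snapper_euler k X L hL F hF r hr
  refine ⟨P, hP, fun m => ?_⟩
  rw [eulerCharLE_eq_euler k X d hd, hPe]

end Proper

end Groth.Agent.Lib.Helper12.Snap
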