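import Groth.Agent.Lib.Helper17K0Serre1
import Mathlib.CategoryTheory.Abelian.SerreClass.Localization

/-! K₀ of a Serre quotient: the exact sequence `K₀(P) → K₀(A) → K₀(A/P) → 0` (helper17). -/
set_option autoImplicit false
set_option backward.isDefEq.respectTransparency false
set_option backward.isDefEq.respectTransparency.types false
universe v v' u u'
open CategoryTheory CategoryTheory.Limits ZeroObject

namespace Groth.Agent.Lib.Helper17.K0Serre

open KZero Groth.Agent.Lib.Helper17.K0a

section

variable {A : Type u} [Category.{v} A] [Abelian A] (P : ObjectProperty A)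

/-- `K₀(P) → K₀(A)`. -/
noncomputable def iota : K0sub P →+ K0 A :=
  QuotientAddGroup.lift (relSub P)
    (FreeAbelianGroup.lift (fun X : Subtype P => cl X.1)) (by
    rw [relSub, AddSubgroup.closure_le]
    rintro x ⟨S, h₁, h₂, h₃, hS, rfl⟩
    rw [SetLike.mem_coe, AddMonoidHom.mem_ker, map_sub, map_sub, FreeAbelianGroup.lift_apply_of,
      FreeAbelianGroup.lift_apply_of, FreeAbelianGroup.lift_apply_of]
    change cl S.X₂ - cl S.X₁ - cl S.X₃ = 0
    rw [cl_shortExact S hS]
    abel)

theorem iota_clSub {X : A} (hX : P X) : iota P (clSub P X) = cl X := by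
  rw [clSub_of_prop P hX]
  unfold iota
  rw [QuotientAddGroup.lift_mk, FreeAbelianGroup.lift_apply_of]

theorem K0sub_hom_ext {G : Type*} [AddCommGroup G] (f g : K0sub P →+ G)
    (h : ∀ (X : A) (_ : P X), f (clSub P X) = g (clSub P X)) : f = g := by
  apply QuotientAddGroup.addMonoidHom_ext
  apply FreeAbelianGroup.lift_ext
  rintro ⟨X, hX⟩
  have := h X hX
  rw [clSub_of_prop P hX] at this
  exact this

theorem K0_hom_ext {G : Type*} [AddCommGroup G] (f g : K0 A →+ G)
    (h : ∀ X : A, f (cl X) = g (cl X)) : f = g := by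
  apply QuotientAddGroup.addMonoidHom_ext
  apply FreeAbelianGroup.lift_ext
  intro X
  exact h X

/-- every element of `K₀(A)` lies in the subgroup generated by the classes. -/
theorem K0_induction (H : AddSubgroup (K0 A)) (h : ∀ X : A, cl X ∈ H) (x : K0 A) : x ∈ H := by
  induction x using QuotientAddGroup.induction_on with
  | H z =>
    induction z using FreeAbelianGroup.induction_on with
    | zero => exact H.zero_mem
    | of X => exact h X
    | neg X hX => exact H.neg_mem hX
    | add x y hx hy => exact H.add_mem hx hy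

end

variable {A : Type u} [Category.{v} A] [Abelian A] (P : ObjectProperty A) [P.IsSerreClass]
  {Q : Type u'} [Category.{v'} Q] [Abelian Q]
  (L : A ⥤ Q) [L.IsLocalization P.isoModSerre] [L.Additive]
  [PreservesFiniteLimits L] [PreservesFiniteColimits L]

/-- `K₀(A) → K₀(Q)`. -/
noncomputable def lam : K0 A →+ K0 Q :=
  QuotientAddGroup.lift (relAb A)
    (FreeAbelianGroup.lift (fun X : A => cl (L.obj X))) (by
    rw [relAb, AddSubgroup.closure_le]
    rintro x ⟨S, hS, rfl⟩
    rw [SetLike.mem_coe, AddMonoidHom.mem_ker, map_sub, map_sub, FreeAbelianGroup.lift_apply_of,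
      FreeAbelianGroup.lift_apply_of, FreeAbelianGroup.lift_apply_of]
    have : cl (L.obj S.X₂) = cl (L.obj S.X₁) + cl (L.obj S.X₃) :=
      cl_shortExact (S.map L) (hS.map_of_exact L)
    rw [this]
    abel)

theorem lam_cl (X : A) : lam L (cl X) = cl (L.obj X) := by
  unfold lam cl
  rw [QuotientAddGroup.lift_mk, FreeAbelianGroup.lift_apply_of]

include P in
theorem lam_surjective : Function.Surjective (lam L) := by
  haveI : L.EssSurj := Localization.essSurj L P.isoModSerre
  intro y
  have : y ∈ (lam L).range := by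
    refine K0_induction (lam L).range (fun Y => ?_) y
    exact ⟨cl (L.objPreimage Y), by rw [lam_cl, cl_of_iso (L.objObjPreimageIso Y)]⟩
  exact this

theorem lam_iota (x : K0sub P) : lam L (iota P x) = 0 := by
  have : (lam L).comp (iota P) = 0 := by
    apply K0sub_hom_ext
    intro X hX
    rw [AddMonoidHom.comp_apply, iota_clSub P hX, lam_cl, AddMonoidHom.zero_apply]
    exact cl_of_isZero ((ObjectProperty.SerreClassLocalization.isZero_obj_iff L P X).2 hX)
  exact DFunLike.congr_fun this x

/-- morphisms in `isoModSerre` have source and target with the same class modulo `K₀(P)`. -/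
theorem sub_mem_range_of_isoModSerre {Z X : A} (f : Z ⟶ X) (hf : P.isoModSerre f) :
    cl Z - cl X ∈ (iota P).range := by
  have h := cl_euler f
  have hk : P (kernel f) := hf.1
  have hc : P (cokernel f) := hf.2
  refine ⟨clSub P (kernel f) - clSub P (cokernel f), ?_⟩
  rw [map_sub, iota_clSub P hk, iota_clSub P hc]
  rw [sub_eq_sub_iff_add_eq_add, add_comm, ← h, add_comm]

theorem sub_mem_range_of_iso {X X' : A} (e : L.obj X ≅ L.obj X') :
    cl X - cl X' ∈ (iota P).range := by
  obtain ⟨z, hz⟩ := Localization.exists_rightFraction L P.isoModSerre e.hom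
  have h₁ : L.map z.s ≫ e.hom = L.map z.f := by
    rw [hz, MorphismProperty.RightFraction.map_s_comp_map]
  haveI : IsIso (L.map z.s) := Localization.inverts L P.isoModSerre _ z.hs
  have h₂ : P.isoModSerre z.f := by
    rw [← ObjectProperty.SerreClassLocalization.isIso_map_iff L P, ← h₁]
    infer_instance
  have h₃ := sub_mem_range_of_isoModSerre P z.s z.hs
  have h₄ := sub_mem_range_of_isoModSerre P z.f h₂
  have : cl X - cl X' = (cl z.X' - cl X') - (cl z.X' - cl X) := by abel
  rw [this]
  exact (iota P).range.sub_mem h₄ h₃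

theorem sub_sub_mem_range_of_epi {Z X : A} (f : Z ⟶ X) [Epi (L.map f)] :
    cl Z - cl X - cl (kernel f) ∈ (iota P).range := by
  have h := cl_euler f
  have hc : P (cokernel f) :=
    (ObjectProperty.SerreClassLocalization.epi_map_iff L P f).1 inferInstance
  refine ⟨- clSub P (cokernel f), ?_⟩
  rw [map_neg, iota_clSub P hc]
  have : cl Z = cl X + cl (kernel f) - cl (cokernel f) := eq_sub_of_add_eq h
  rw [this]
  abel

/-- the function on objects inducing `K₀(Q) → K₀(A)/K₀(P)`. -/
noncomputable def mu₀ [L.EssSurj] (Y : Q) : K0 A ⧸ (iota P).range :=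
  QuotientAddGroup.mk (cl (L.objPreimage Y))

theorem mu₀_shortExact [L.EssSurj] (T : ShortComplex Q) (hT : T.ShortExact) :
    mu₀ P L T.X₂ = mu₀ P L T.X₁ + mu₀ P L T.X₃ := by
  let e₁ := L.objObjPreimageIso T.X₁
  let e₂ := L.objObjPreimageIso T.X₂
  let e₃ := L.objObjPreimageIso T.X₃
  haveI := hT.epi_g
  obtain ⟨z, hz⟩ := Localization.exists_rightFraction L P.isoModSerre (e₂.hom ≫ T.g ≫ e₃.inv)
  have h₁ : L.map z.s ≫ e₂.hom ≫ T.g ≫ e₃.inv = L.map z.f := by
    rw [hz, MorphismProperty.RightFraction.map_s_comp_map]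
  haveI : IsIso (L.map z.s) := Localization.inverts L P.isoModSerre _ z.hs
  haveI : Epi (L.map z.f) := by
    rw [← h₁]
    infer_instance
  have m₁ := sub_mem_range_of_isoModSerre P z.s z.hs
  have m₂ := sub_sub_mem_range_of_epi P L z.f
  have w : L.map z.f ≫ e₃.hom = (asIso (L.map z.s) ≪≫ e₂).hom ≫ T.g := by
    rw [← h₁]
    simp
  let i : L.obj (kernel z.f) ≅ L.obj (L.objPreimage T.X₁) :=
    PreservesKernel.iso L z.f ≪≫ kernel.mapIso (L.map z.f) T.g (asIso (L.map z.s) ≪≫ e₂) e₃ w ≪≫
      IsLimit.conePointUniqueUpToIso (limit.isLimit (parallelPair T.g 0)) hT.fIsKernel ≪≫ e₁.symm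
  have m₃ := sub_mem_range_of_iso P L i
  unfold mu₀
  rw [← QuotientAddGroup.mk_add, QuotientAddGroup.eq_iff_sub_mem]
  have : cl (L.objPreimage T.X₂) - (cl (L.objPreimage T.X₁) + cl (L.objPreimage T.X₃)) =
      (cl z.X' - cl (L.objPreimage T.X₃) - cl (kernel z.f)) +
        (cl (kernel z.f) - cl (L.objPreimage T.X₁)) - (cl z.X' - cl (L.objPreimage T.X₂)) := by
    abel
  rw [this]
  exact (iota P).range.sub_mem ((iota P).range.add_mem m₂ m₃) m₁

/-- `K₀(Q) → K₀(A)/K₀(P)`. -/
noncomputable def mu [L.EssSurj] : K0 Q →+ K0 A ⧸ (iota P).range :=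
  QuotientAddGroup.lift (relAb Q)
    (FreeAbelianGroup.lift (mu₀ P L)) (by
    rw [relAb, AddSubgroup.closure_le]
    rintro x ⟨T, hT, rfl⟩
    rw [SetLike.mem_coe, AddMonoidHom.mem_ker, map_sub, map_sub, FreeAbelianGroup.lift_apply_of,
      FreeAbelianGroup.lift_apply_of, FreeAbelianGroup.lift_apply_of]
    rw [mu₀_shortExact P L T hT]
    abel)

theorem mu_cl [L.EssSurj] (Y : Q) : mu P L (cl Y) = mu₀ P L Y := by
  unfold mu cl
  rw [QuotientAddGroup.lift_mk, FreeAbelianGroup.lift_apply_of]

theorem mu_lam [L.EssSurj] (x : K0 A) : mu P L (lam L x) = QuotientAddGroup.mk x := by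
  have : (mu P L).comp (lam L) = QuotientAddGroup.mk' (iota P).range := by
    apply K0_hom_ext
    intro X
    rw [AddMonoidHom.comp_apply, lam_cl, mu_cl]
    unfold mu₀
    rw [QuotientAddGroup.mk'_apply, QuotientAddGroup.eq_iff_sub_mem]
    exact sub_mem_range_of_iso P L (L.objObjPreimageIso (L.obj X))
  exact DFunLike.congr_fun this x

theorem ker_lam : (lam L).ker = (iota P).range := by
  haveI : L.EssSurj := Localization.essSurj L P.isoModSerre
  ext x
  constructor
  · intro hx
    rw [AddMonoidHom.mem_ker] at hx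
    have := mu_lam P L x
    rw [hx, map_zero] at this
    exact (QuotientAddGroup.eq_zero_iff x).1 this.symm
  · rintro ⟨y, rfl⟩
    exact lam_iota P L y

end Groth.Agent.Lib.Helper17.K0Serre
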