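import Mathlib
import Groth.Agent.Lib.Helper12SnapC
import Groth.Agent.Lib.Helper17K0Serre2
import Groth.Agent.Lib.Helper4ZeroDimChi

/-!
# Twisting operators on `K₀(Coh X)` (helper12) — Snapper / intersection numbers, part K

* `twK M hM : K₀(Coh X) →+ K₀(Coh X)`, `[F] ↦ [F ⊗ M]` for `M` finite locally free of rank one.
* `DK M hM x = x - twK M hM x`; `DK_mem_lowSub`: `DK` lowers the dimension filtration `lowSub`.
* `twK_iterate_eq_sum`: if `L ⊗ M ≅ O_X` then `T_L^m x = Σ_{i ≤ r} C(m+i-1, i) D_M^i x` for `x ∈ lowSub (r+1)`.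
* `lift_dchi_DK`: `(dchi l).lift (D_M x) = (dchi (M :: l)).lift x`.
-/

set_option autoImplicit false
set_option linter.style.haveILetI false
set_option linter.unusedSectionVars false
universe u
open CategoryTheory CategoryTheory.Limits AlgebraicGeometry TopologicalSpace Opposite

namespace Groth.Agent.Lib.Helper12.Snap

open Groth.Agent.Lib.Helper4.Dev Groth.Agent.Lib.Helper4.CurveChi Groth.Agent.Lib.Helper4.KFilt
  Groth.Agent.Lib.Helper4.KTensor Groth.Agent.Lib.Helper17.K0a

section Tw

variable {X : Scheme.{u}}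

/-- twisting on the free abelian group -/
noncomputable def twK₀ (M : X.Modules) : FreeAbelianGroup (Subtype (cohP X)) →+ KZero.K0sub (cohP X) :=
  FreeAbelianGroup.lift fun G => KZero.clSub (cohP X) (CohB1.tensorMod G.1 M)

theorem twK₀_ker (M : X.Modules) (hM : FlatMod.IsFinLocFreeOfRank 1 M) :
    KZero.relSub (cohP X) ≤ (twK₀ M).ker := by
  unfold KZero.relSub
  rw [AddSubgroup.closure_le]
  rintro x ⟨S, h1, h2, h3, hS, rfl⟩
  change twK₀ M _ = 0
  rw [map_sub, map_sub]
  unfold twK₀
  rw [FreeAbelianGroup.lift_apply_of, FreeAbelianGroup.lift_apply_of, FreeAbelianGroup.lift_apply_of]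
  have h := clSub_shortExact (cohP X) (S.map (DCoh.tensorRightMod M))
    (shortExact_map_tensorRightMod S hS M (isFlat_of_isFinLocFreeOfRank M 1 hM))
    (isCoh_tensorMod_locFree S.X₁ M h1 1 hM) (isCoh_tensorMod_locFree S.X₂ M h2 1 hM)
    (isCoh_tensorMod_locFree S.X₃ M h3 1 hM)
  have h' : KZero.clSub (cohP X) (CohB1.tensorMod S.X₂ M) =
      KZero.clSub (cohP X) (CohB1.tensorMod S.X₁ M) + KZero.clSub (cohP X) (CohB1.tensorMod S.X₃ M) := h
  change KZero.clSub (cohP X) (CohB1.tensorMod S.X₂ M) - KZero.clSub (cohP X) (CohB1.tensorMod S.X₁ M) -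
    KZero.clSub (cohP X) (CohB1.tensorMod S.X₃ M) = 0
  rw [h']
  abel

/-- `[F] ↦ [F ⊗ M]` on `K₀(Coh X)` -/
noncomputable def twK (M : X.Modules) (hM : FlatMod.IsFinLocFreeOfRank 1 M) :
    KZero.K0sub (cohP X) →+ KZero.K0sub (cohP X) :=
  QuotientAddGroup.lift (KZero.relSub (cohP X)) (twK₀ M) (twK₀_ker M hM)

theorem twK_clSub (M : X.Modules) (hM : FlatMod.IsFinLocFreeOfRank 1 M) (F : X.Modules) (hF : Coh.IsCoh F) :
    twK M hM (KZero.clSub (cohP X) F) = KZero.clSub (cohP X) (CohB1.tensorMod F M) := by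
  rw [clSub_of_prop (cohP X) hF]
  change twK₀ M _ = _
  unfold twK₀
  rw [FreeAbelianGroup.lift_apply_of]

/-- `x ↦ x - T_M x` -/
noncomputable def DK (M : X.Modules) (hM : FlatMod.IsFinLocFreeOfRank 1 M) :
    KZero.K0sub (cohP X) →+ KZero.K0sub (cohP X) :=
  AddMonoidHom.id _ - twK M hM

theorem DK_apply (M : X.Modules) (hM : FlatMod.IsFinLocFreeOfRank 1 M) (x : KZero.K0sub (cohP X)) :
    DK M hM x = x - twK M hM x := rfl

variable [IsNoetherian X]

theorem twK_inv (L M : X.Modules) (hL : FlatMod.IsFinLocFreeOfRank 1 L) (hM : FlatMod.IsFinLocFreeOfRank 1 M)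
    (e : CohB1.tensorMod L M ≅ Coh.structureModule X) (x : KZero.K0sub (cohP X)) :
    twK L hL (twK M hM x) = x := by
  have h : (twK L hL).comp (twK M hM) = AddMonoidHom.id _ := by
    apply Groth.Agent.Lib.Helper17.K0Serre.K0sub_hom_ext
    intro F hF
    have hFM : Coh.IsCoh (CohB1.tensorMod F M) := isCoh_tensorMod_locFree F M hF 1 hM
    rw [AddMonoidHom.comp_apply, twK_clSub M hM F hF, twK_clSub L hL _ hFM, AddMonoidHom.id_apply]
    obtain ⟨f⟩ := tensor_congr_left F ⟨Groth.Agent.Lib.Helper23.AmpleFam2.tensorBraid M L ≪≫ e⟩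
    exact clSub_of_iso (cohP X) (Groth.Agent.Lib.Helper23.LocGen.tensorAssoc F M L ≪≫ f ≪≫
      Groth.Agent.Lib.Helper23.TensorUnit.tensorUnitIso F)
      (isCoh_tensorMod_locFree _ L hFM 1 hL)
  exact congrArg (fun φ : KZero.K0sub (cohP X) →+ KZero.K0sub (cohP X) => φ x) h

theorem lowSub_zero : lowSub (X := X) 0 = ⊥ := by
  rw [eq_bot_iff]
  unfold lowSub
  rw [AddSubgroup.closure_le]
  rintro c ⟨G, hG, hdim, rfl⟩
  have hdim' : topologicalKrullDim ↥(CohB1.support G) < 0 := by simpa using hdim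
  haveI := Groth.Agent.Lib.Helper27DimDrop.eq_empty_of_dim_lt_zero hdim'
  have hs : CohB1.support G = ∅ := Set.isEmpty_coe_sort.1 inferInstance
  change KZero.clSub (cohP X) G = 0
  haveI : IsLocallyNoetherian X := inferInstance
  exact clSub_of_isZero (cohP X) (isZero_of_support_eq_empty G hs)

theorem lowSub_mono {r s : ℕ} (h : r ≤ s) : lowSub (X := X) r ≤ lowSub (X := X) s := by
  unfold lowSub
  apply AddSubgroup.closure_mono
  rintro c ⟨G, hG, hdim, rfl⟩
  exact ⟨G, hG, lt_of_lt_of_le hdim (by exact_mod_cast h), rfl⟩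

theorem clSub_mem_lowSub (r : ℕ) (F : X.Modules) (hF : Coh.IsCoh F)
    (hdim : topologicalKrullDim ↥(CohB1.support F) < (r : WithBot ℕ∞)) :
    KZero.clSub (cohP X) F ∈ lowSub (X := X) r :=
  AddSubgroup.subset_closure ⟨F, hF, hdim, rfl⟩

theorem twK_mem_lowSub (M : X.Modules) (hM : FlatMod.IsFinLocFreeOfRank 1 M) (r : ℕ)
    (x : KZero.K0sub (cohP X)) (hx : x ∈ lowSub (X := X) r) : twK M hM x ∈ lowSub (X := X) r := by
  have hle : lowSub (X := X) r ≤ (lowSub (X := X) r).comap (twK M hM) := by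
    conv_lhs => unfold lowSub
    rw [AddSubgroup.closure_le]
    rintro c ⟨G, hG, hdim, rfl⟩
    change twK M hM _ ∈ lowSub (X := X) r
    rw [twK_clSub M hM G hG]
    refine clSub_mem_lowSub r _ (isCoh_tensorMod_locFree G M hG 1 hM) ?_
    exact lt_of_le_of_lt (dim_le_of_subset
      (Groth.Agent.Lib.Helper4.ZeroDimChi.support_tensorMod_subset_left G M)) hdim
  exact hle hx

theorem DK_mem_lowSub (M : X.Modules) (hM : FlatMod.IsFinLocFreeOfRank 1 M) (r : ℕ)
    (x : KZero.K0sub (cohP X)) (hx : x ∈ lowSub (X := X) (r + 1)) : DK M hM x ∈ lowSub (X := X) r := by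
  have hle : lowSub (X := X) (r + 1) ≤ (lowSub (X := X) r).comap (DK M hM) := by
    conv_lhs => unfold lowSub
    rw [AddSubgroup.closure_le]
    rintro c ⟨G, hG, hdim, rfl⟩
    change DK M hM _ ∈ lowSub (X := X) r
    rw [DK_apply, twK_clSub M hM G hG]
    have hr : topologicalKrullDim ↥(CohB1.support G) ≤ (r : WithBot ℕ∞) := by
      rw [← lt_succ_iff_le]
      exact hdim
    have hmem := clSub_tensorMod_sub_mem M 1 hM G hG r hr
    rw [one_smul] at hmem
    have hGM : Coh.IsCoh (CohB1.tensorMod G M) := isCoh_tensorMod_locFree G M hG 1 hM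
    have heq : KZero.clSub (cohP X) (CohB1.tensorMod M G) = KZero.clSub (cohP X) (CohB1.tensorMod G M) :=
      (clSub_of_iso (cohP X) (Groth.Agent.Lib.Helper23.AmpleFam2.tensorBraid G M) hGM).symm
    rw [heq] at hmem
    have := (lowSub (X := X) r).neg_mem hmem
    rwa [neg_sub] at this
  exact hle hx

/-- Newton backward expansion of the twist by the inverse. -/
theorem twK_iterate_eq_sum (L M : X.Modules) (hL : FlatMod.IsFinLocFreeOfRank 1 L)
    (hM : FlatMod.IsFinLocFreeOfRank 1 M) (e : CohB1.tensorMod L M ≅ Coh.structureModule X) :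
    ∀ (r : ℕ) (x : KZero.K0sub (cohP X)), x ∈ lowSub (X := X) (r + 1) → ∀ m : ℕ,
      (twK L hL)^[m] x = ∑ i ∈ Finset.range (r + 1), ((m + i - 1).choose i) • (DK M hM)^[i] x := by
  intro r
  induction r with
  | zero =>
    intro x hx m
    have hD : DK M hM x = 0 := by
      have := DK_mem_lowSub M hM 0 x hx
      rw [lowSub_zero] at this
      exact (AddSubgroup.mem_bot).1 this
    have hT : twK M hM x = x := by
      rw [DK_apply, sub_eq_zero] at hD
      exact hD.symm
    have hTL : twK L hL x = x := by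
      conv_lhs => rw [← hT]
      exact twK_inv L M hL hM e x
    rw [Function.iterate_fixed hTL, Finset.sum_range_one, Nat.choose_zero_right, one_smul,
      Function.iterate_zero, id]
  | succ r ih =>
    intro x hx m
    have hy := DK_mem_lowSub M hM (r + 1) x hx
    have hstep : twK L hL x = x + twK L hL (DK M hM x) := by
      rw [DK_apply, map_sub, twK_inv L M hL hM e x]
      abel
    induction m with
    | zero =>
      rw [Function.iterate_zero, id, Finset.sum_range_succ', Function.iterate_zero, id]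
      have : ∀ i ∈ Finset.range (r + 1), ((0 + (i + 1) - 1).choose (i + 1)) • (DK M hM)^[i + 1] x = 0 := by
        intro i _
        have : (0 + (i + 1) - 1).choose (i + 1) = 0 := Nat.choose_eq_zero_of_lt (by omega)
        rw [this, zero_smul]
      rw [Finset.sum_eq_zero this, zero_add]
      simp
    | succ m ihm =>
      have h1 : (twK L hL)^[m + 1] x = (twK L hL)^[m] x + (twK L hL)^[m + 1] (DK M hM x) := by
        rw [Function.iterate_succ_apply, hstep, iterate_map_add,
          ← Function.iterate_succ_apply (twK L hL) m (DK M hM x)]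
      rw [h1, ihm, ih _ hy (m + 1), Finset.sum_range_succ' _ (r + 1)]
      have h2 : ∑ i ∈ Finset.range (r + 1), ((m + 1 + i - 1).choose i) • (DK M hM)^[i] (DK M hM x) =
          ∑ i ∈ Finset.range (r + 1), ((m + (i + 1) - 1).choose i) • (DK M hM)^[i + 1] x := by
        refine Finset.sum_congr rfl fun i _ => ?_
        rw [Function.iterate_succ_apply]
        congr 2
        omega
      rw [h2, Finset.sum_range_succ' _ (r + 1), add_assoc, add_comm _ (∑ i ∈ Finset.range (r + 1), _),
        ← add_assoc, ← Finset.sum_add_distrib]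
      congr 1
      · refine Finset.sum_congr rfl fun i _ => ?_
        rw [← add_smul]
        congr 1
        have : m + 1 + (i + 1) - 1 = (m + (i + 1) - 1) + 1 := by omega
        rw [this, Nat.choose_succ_succ, add_comm]
      · simp

end Tw

section Proper

variable (k : Type u) [Field k] (X : Scheme.{u}) [X.Over (Spec (CommRingCat.of k))]
  [IsProper (X ↘ (Spec (CommRingCat.of k)))]

theorem lift_dchi_DK (M : X.Modules) (hMi : PicF.IsInvertible M) (l : List X.Modules)
    (hl : ∀ N ∈ l, PicF.IsInvertible N) (x : KZero.K0sub (cohP X)) :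
    (isAdd_dchi k X l hl).lift
        (DK M (Groth.Agent.Lib.Helper23.SecTw.isFinLocFreeOfRank_one_of_isInvertible M hMi) x) =
      (isAdd_dchi k X (M :: l) (by
        intro N hN
        rcases List.mem_cons.1 hN with rfl | h
        · exact hMi
        · exact hl N h)).lift x := by
  set hM := Groth.Agent.Lib.Helper23.SecTw.isFinLocFreeOfRank_one_of_isInvertible M hMi
  have h : ((isAdd_dchi k X l hl).lift).comp (DK M hM) = (isAdd_dchi k X (M :: l) (by
      intro N hN
      rcases List.mem_cons.1 hN with rfl | h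
      · exact hMi
      · exact hl N h)).lift := by
    apply Groth.Agent.Lib.Helper17.K0Serre.K0sub_hom_ext
    intro F hF
    rw [AddMonoidHom.comp_apply, DK_apply, map_sub, twK_clSub M hM F hF, IsAdd.lift_clSub _ F hF,
      IsAdd.lift_clSub _ _ (isCoh_tensorMod_locFree F M hF 1 hM), IsAdd.lift_clSub _ F hF, dchi_cons]
  exact congrArg (fun φ : KZero.K0sub (cohP X) →+ ℤ => φ x) h

end Proper

end Groth.Agent.Lib.Helper12.Snap
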