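import Mathlib
import Groth.Agent.Lib.Helper12SnapK
import Groth.Agent.Lib.Helper4KFilt2
import Groth.Agent.Lib.Helper7TopDim
import Groth.Agent.S0020
set_option backward.isDefEq.respectTransparency.types false

/-!
# Positivity by dévissage (helper12) — positivity of intersection numbers, part A

* `exists_mem_dim_closure_eq`: a closed subset of dimension `r` of a quasi-sober space contains a point whose closure
  has dimension `r`.
* `pos_of_pos_on_points`: an additive function killing the coherent modules with support of dimension `< r` and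
  positive on the structure sheaves of the `r`-dimensional integral closed subschemes is positive on every coherent
  module whose support has dimension exactly `r`.
-/

set_option autoImplicit false
set_option linter.style.haveILetI false
set_option linter.unusedSectionVars false
universe u
open CategoryTheory CategoryTheory.Limits AlgebraicGeometry TopologicalSpace Opposite

namespace Groth.Agent.Lib.Helper12.Pos

open Groth.Agent.Lib.Helper4.Dev Groth.Agent.Lib.Helper4.CurveChi Groth.Agent.Lib.Helper4.KFilt
  Groth.Agent.Lib.Helper17.K0a Groth.Agent.Lib.Helper12.Snap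

section Top

variable {Y : Type*} [TopologicalSpace Y]

theorem dim_le_of_subset' {A B : Set Y} (h : A ⊆ B) :
    topologicalKrullDim ↥A ≤ topologicalKrullDim ↥B :=
  (Topology.IsInducing.of_comp (continuous_inclusion h) continuous_subtype_val
    (by
      have : (Subtype.val : B → Y) ∘ Set.inclusion h = (Subtype.val : A → Y) := rfl
      rw [this]
      exact Topology.IsInducing.subtypeVal)).topologicalKrullDim_le

theorem exists_mem_dim_closure_eq [QuasiSober Y] (T : Set Y) (hT : IsClosed T) (r : ℕ)
    (hdim : topologicalKrullDim ↥T = (r : WithBot ℕ∞)) :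
    ∃ ξ ∈ T, topologicalKrullDim ↥(closure ({ξ} : Set Y)) = (r : WithBot ℕ∞) := by
  have hge : (r : WithBot ℕ∞) ≤ Order.krullDim (IrreducibleCloseds ↥T) := hdim.ge
  obtain ⟨l, hl⟩ := Order.le_krullDim_iff.mp hge
  have hm : StrictMono (IrreducibleCloseds.map (Subtype.val : T → Y) continuous_subtype_val) :=
    IrreducibleCloseds.map_strictMono_of_isInducing Topology.IsInducing.subtypeVal
  set l' : LTSeries (IrreducibleCloseds Y) := l.map _ hm with hl'
  have hZT : (l'.last : Set Y) ⊆ T := by
    have h1 : (l'.last : Set Y) = closure (Subtype.val '' (l.last : Set T)) := by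
      rw [hl', LTSeries.last_map]
      rfl
    rw [h1]
    refine closure_minimal ?_ hT
    rintro _ ⟨y, _, rfl⟩
    exact y.2
  obtain ⟨ξ, hξ⟩ := QuasiSober.sober l'.last.isIrreducible l'.last.isClosed
  refine ⟨ξ, hZT hξ.mem, le_antisymm ?_ ?_⟩
  · rw [← hdim]
    apply dim_le_of_subset'
    rw [hξ.def]
    exact hZT
  · have h2 := Groth.Agent.Lib.Helper7.TopDim.length_le_of_forall_subset (closure ({ξ} : Set Y)) l' (fun j => by
      rw [hξ.def]
      exact l'.strictMono.monotone (Fin.le_last j))
    rwa [hl', LTSeries.map_length, hl] at h2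

end Top

section Dev

variable {X : Scheme.{u}} [IsNoetherian X]

theorem pos_of_pos_on_points {φ : X.Modules → ℤ} (hφ : IsAdd φ) (r : ℕ)
    (hkill : ∀ G : X.Modules, Coh.IsCoh G →
      topologicalKrullDim ↥(CohB1.support G) < (r : WithBot ℕ∞) → φ G = 0)
    (hpos : ∀ ξ : X, topologicalKrullDim ↥(closure ({ξ} : Set X)) = (r : WithBot ℕ∞) →
      0 < φ (Cyc.closureStructureSheaf ξ))
    (F : X.Modules) (hF : Coh.IsCoh F)
    (hdim : topologicalKrullDim ↥(CohB1.support F) = (r : WithBot ℕ∞)) : 0 < φ F := by
  classical
  haveI : IsLocallyNoetherian X := inferInstance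
  have hgood := good_of_dim_le r F hF hdim.le
  have h1 := hφ.lift_eq_zero_of_mem_lowSub r hkill _ hgood.mem
  rw [map_sub, hφ.lift_clSub F hF, sub_eq_zero] at h1
  rw [h1]
  have hfin : (Function.support (cfun r F)).Finite := hgood.fin.subset (support_cfun_subset r F)
  set s := hgood.fin.toFinset with hs
  rw [AddMonoidHom.map_finsum _ hfin, finsum_eq_sum_of_support_subset (s := s)]
  · obtain ⟨ξ₀, hξ₀T, hξ₀d⟩ := exists_mem_dim_closure_eq (CohB1.support F)
      (Groth.Agent.S0020.result X F hF.2) r hdim
    have hterm : ∀ ξ ∈ s, hφ.lift (cfun r F ξ) =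
        ((Module.length (X.presheaf.stalk ξ) (F.presheaf.stalk ξ)).toNat : ℤ) *
          φ (Cyc.closureStructureSheaf ξ) := by
      intro ξ hξ
      have hd' := (hgood.fin.mem_toFinset.1 hξ).1
      unfold cfun
      rw [if_pos hd', map_nsmul, hφ.lift_clSub _ (isCoh_closureStructureSheaf ξ), nsmul_eq_mul]
    rw [Finset.sum_congr rfl hterm]
    refine Finset.sum_pos' (fun ξ hξ => ?_) ⟨ξ₀, ?_, ?_⟩
    · exact mul_nonneg (Int.natCast_nonneg _) (hpos ξ (hgood.fin.mem_toFinset.1 hξ).1).le
    · rw [hs, hgood.fin.mem_toFinset]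
      refine ⟨hξ₀d, fun h0 => hξ₀T ?_⟩
      exact Module.length_eq_zero_iff.1 h0
    · refine mul_pos ?_ (hpos ξ₀ hξ₀d)
      have hne0 : Module.length (X.presheaf.stalk ξ₀) (F.presheaf.stalk ξ₀) ≠ 0 := fun h0 =>
        hξ₀T (Module.length_eq_zero_iff.1 h0)
      have hnetop := hgood.len ξ₀ hξ₀d
      have : 0 < (Module.length (X.presheaf.stalk ξ₀) (F.presheaf.stalk ξ₀)).toNat := by
        rw [Nat.pos_iff_ne_zero]
        intro h
        rcases (ENat.toNat_eq_zero).1 h with h | h
        · exact hne0 h
        · exact hnetop h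
      exact_mod_cast this
  · intro ξ hξ
    rw [Function.mem_support] at hξ
    rw [Finset.mem_coe, hs, hgood.fin.mem_toFinset]
    exact support_cfun_subset r F (fun h0 => hξ (by rw [h0, map_zero]))

end Dev

end Groth.Agent.Lib.Helper12.Pos
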