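import Mathlib
import Groth.Prelude.Def_ModSite
import Groth.Prelude.Def_KLin
import Groth.Agent.Lib.Helper21ModTensor7

/-!
# Helper27: tensoring with a fixed module commutes with multiplication by global functions

* `shf_map_eq_smulModΓ` : the sheafification of "multiplication by `r`" is multiplication by `r`;
* `tL_map_smulModΓ` : `(F ⊗ -)(r·) = r·`;  `tR_map_smulModΓ` : `(- ⊗ F)(r·) = r·`.
-/

set_option autoImplicit false
universe u
open CategoryTheory MonoidalCategory Limits AlgebraicGeometry TopologicalSpace Opposite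

namespace Groth.Agent.Lib.Helper27TensorLin

open Groth.Agent.Lib.Helper21.ModTensor2 Groth.Agent.Lib.Helper21.ModTensor3

variable {X : Scheme.{u}}

/-- the restriction of a global function, typed in the ring of the presheaf of rings used by
`PM X.sheaf`. -/
noncomputable abbrev res (U : (Opens X)ᵒᵖ) (r : Coh.Γtop X) :
    ((X.sheaf.obj ⋙ forget₂ CommRingCat.{u} RingCat.{u}).obj U) := Coh.resTop X U r

/-- the sheafification of "multiplication by `r`" is multiplication by `r`. -/
theorem shf_map_eq_smulModΓ (P : PM X.sheaf) (m : P ⟶ P) (r : Coh.Γtop X)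
    (hm : ∀ (U : (Opens X)ᵒᵖ) (x : P.obj U), m.app U x = res U r • x) :
    (shf X.sheaf).map m = Formal.smulModΓ ((shf X.sheaf).obj P) r := by
  apply ((adj X.sheaf).homEquiv P _).injective
  refine Eq.trans (Adjunction.homEquiv_unit _ _ _ _) (Eq.trans ?_ (Adjunction.homEquiv_unit _ _ _ _).symm)
  have hnat := (adj X.sheaf).unit.naturality m
  simp only [Functor.id_obj, Functor.id_map, Functor.comp_obj, Functor.comp_map] at hnat
  refine hnat.symm.trans ?_
  apply PresheafOfModules.hom_ext
  intro U
  ext x
  change ((adj X.sheaf).unit.app P).app U (m.app U x) =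
    res U r • ((adj X.sheaf).unit.app P).app U x
  rw [hm]
  exact map_smul (((adj X.sheaf).unit.app P).app U).hom _ _

theorem whiskerLeft_smul_app (F A : X.Modules) (r : Coh.Γtop X) (U : (Opens X)ᵒᵖ)
    (x : (((fgt X.sheaf).obj F ⊗ (fgt X.sheaf).obj A : PM X.sheaf)).obj U) :
    (((fgt X.sheaf).obj F ◁ (fgt X.sheaf).map (Formal.smulModΓ A r) :
      ((fgt X.sheaf).obj F ⊗ (fgt X.sheaf).obj A : PM X.sheaf) ⟶ _)).app U x =
      res U r • x := by
  induction x using TensorProduct.induction_on with
  | zero =>
    exact (map_zero _).trans (DistribMulAction.smul_zero (res U r)).symm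
  | tmul a b =>
    exact (TensorProduct.tmul_smul (res U r) a b)
  | add x y hx hy =>
    exact (map_add _ x y).trans ((congrArg₂ (· + ·) hx hy).trans (smul_add (res U r) x y).symm)

theorem whiskerRight_smul_app (F A : X.Modules) (r : Coh.Γtop X) (U : (Opens X)ᵒᵖ)
    (x : (((fgt X.sheaf).obj A ⊗ (fgt X.sheaf).obj F : PM X.sheaf)).obj U) :
    (((fgt X.sheaf).map (Formal.smulModΓ A r) ▷ (fgt X.sheaf).obj F :
      ((fgt X.sheaf).obj A ⊗ (fgt X.sheaf).obj F : PM X.sheaf) ⟶ _)).app U x =
      res U r • x := by
  induction x using TensorProduct.induction_on with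
  | zero =>
    exact (map_zero _).trans (DistribMulAction.smul_zero (res U r)).symm
  | tmul a b =>
    exact (TensorProduct.smul_tmul' (res U r) a b).symm
  | add x y hx hy =>
    exact (map_add _ x y).trans ((congrArg₂ (· + ·) hx hy).trans (smul_add (res U r) x y).symm)

/-- `(F ⊗ -)` commutes with multiplication by global functions. -/
theorem tL_map_smulModΓ (F A : X.Modules) (r : Coh.Γtop X) :
    (tL X.sheaf F).map (Formal.smulModΓ A r) = Formal.smulModΓ ((tL X.sheaf F).obj A) r := by
  exact (tL_map X.sheaf F (Formal.smulModΓ A r)).trans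
    (shf_map_eq_smulModΓ _ _ r (whiskerLeft_smul_app F A r))

/-- `(- ⊗ F)` commutes with multiplication by global functions. -/
theorem tR_map_smulModΓ (F A : X.Modules) (r : Coh.Γtop X) :
    (tR X.sheaf F).map (Formal.smulModΓ A r) = Formal.smulModΓ ((tR X.sheaf F).obj A) r := by
  exact (tR_map X.sheaf F (Formal.smulModΓ A r)).trans
    (shf_map_eq_smulModΓ _ _ r (whiskerRight_smul_app F A r))

end Groth.Agent.Lib.Helper27TensorLin
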