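import Mathlib

set_option autoImplicit false
universe u

namespace Groth.Agent.Lib.Helper24CIHilb

open MvPolynomial Module

attribute [local instance] MvPolynomial.gradedAlgebra

section Dim
variable (k : Type u) [Field k]

lemma homogeneousSubmodule_eq' (r n : ℕ) :
    homogeneousSubmodule (Fin r) k n = AddMonoidAlgebra.supported k k
      (↑((Finset.univ : Finset (Fin r)).finsuppAntidiag n) : Set (Fin r →₀ ℕ)) := by
  classical
  rw [homogeneousSubmodule_eq_finsupp_supported]
  congr 1
  ext d
  simp [Finsupp.degree_eq_sum]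

theorem finite_homog (r n : ℕ) :
    Module.Finite k (homogeneousSubmodule (Fin r) k n) := by
  classical
  rw [homogeneousSubmodule_eq']
  exact Module.Finite.equiv (AddMonoidAlgebra.supportedEquivFinsupp (R := k) (S := k)
    (↑((Finset.univ : Finset (Fin r)).finsuppAntidiag n) : Set (Fin r →₀ ℕ))).symm

lemma finrank_homog (r n : ℕ) :
    Module.finrank k (homogeneousSubmodule (Fin r) k n) = Nat.choose (r + n - 1) n := by
  classical
  rw [homogeneousSubmodule_eq']
  rw [(AddMonoidAlgebra.supportedEquivFinsupp (R := k) (S := k)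
    (↑((Finset.univ : Finset (Fin r)).finsuppAntidiag n) : Set (Fin r →₀ ℕ))).finrank_eq]
  rw [Module.finrank_finsupp_self]
  simp [Finset.card_finsuppAntidiag_nat_eq_choose]

lemma finrank_homog3 (j : ℕ) :
    Module.finrank k (homogeneousSubmodule (Fin 3) k j) = (j + 2).choose 2 := by
  rw [finrank_homog]
  have e : 3 + j - 1 = j + 2 := by omega
  rw [e]
  exact Nat.choose_symm_of_eq_add rfl

end Dim

theorem two_mul_choose (j : ℕ) : 2 * (j + 2).choose 2 = (j + 2) * (j + 1) := by
  induction j with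
  | zero => rfl
  | succ j ih =>
    have e : j + 1 + 2 = (j + 2) + 1 := by ring
    rw [e, Nat.choose_succ_succ', Nat.choose_one_right, mul_add, ih]
    ring

theorem arith (n m d Q Jr Kr : ℕ) (hd : n + m ≤ d) (h1 : Q + Jr = (d + 2).choose 2)
    (h2 : Jr + Kr = (d - n + 2).choose 2 + (d - m + 2).choose 2)
    (h3 : Kr = (d - n - m + 2).choose 2) : Q = n * m := by
  obtain ⟨e, rfl⟩ : ∃ e, d = n + m + e := ⟨d - n - m, by omega⟩
  have e1 : n + m + e - n = m + e := by omega
  have e2 : n + m + e - m = n + e := by omega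
  have e3 : n + m + e - n - m = e := by omega
  rw [e1, e2] at h2
  rw [e3] at h3
  have t0 := two_mul_choose (n + m + e)
  have t1 := two_mul_choose (m + e)
  have t2 := two_mul_choose (n + e)
  have t3 := two_mul_choose e
  nlinarith [h1, h2, h3, t0, t1, t2, t3]

section Main
variable (k : Type u) [Field k]

abbrev H (j : ℕ) : Submodule k (MvPolynomial (Fin 3) k) := homogeneousSubmodule (Fin 3) k j

theorem mul_mem_H {a f : MvPolynomial (Fin 3) k} {i j : ℕ} (ha : a ∈ H k i) (hf : f ∈ H k j) :
    a * f ∈ H k (i + j) := SetLike.mul_mem_graded ha hf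

theorem decomp_mul (a f : MvPolynomial (Fin 3) k) {j d : ℕ} (hf : f ∈ H k j) (hjd : j ≤ d) :
    (DirectSum.decompose (homogeneousSubmodule (Fin 3) k) (a * f) d : MvPolynomial (Fin 3) k) =
      (DirectSum.decompose (homogeneousSubmodule (Fin 3) k) a (d - j) : MvPolynomial (Fin 3) k)
        * f := by
  have h := DirectSum.coe_decompose_mul_add_of_right_mem (homogeneousSubmodule (Fin 3) k)
    (i := d - j) (a := a) hf
  rwa [Nat.sub_add_cancel hjd] at h

variable {k}
variable {n m d : ℕ} (f g : MvPolynomial (Fin 3) k)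

noncomputable def psi (hf : f ∈ H k n) (hg : g ∈ H k m) (hn : n ≤ d) (hm : m ≤ d) :
    (↥(H k (d - n)) × ↥(H k (d - m))) →ₗ[k] ↥(H k d) where
  toFun p := ⟨p.1.1 * f + p.2.1 * g, by
    have h1 := mul_mem_H k p.1.2 hf
    have h2 := mul_mem_H k p.2.2 hg
    rw [Nat.sub_add_cancel hn] at h1
    rw [Nat.sub_add_cancel hm] at h2
    exact Submodule.add_mem _ h1 h2⟩
  map_add' p q := Subtype.ext (by
    show (p.1.1 + q.1.1) * f + (p.2.1 + q.2.1) * g
      = (p.1.1 * f + p.2.1 * g) + (q.1.1 * f + q.2.1 * g)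
    ring)
  map_smul' c p := Subtype.ext (by
    show (c • p.1.1) * f + (c • p.2.1) * g = c • (p.1.1 * f + p.2.1 * g)
    rw [smul_mul_assoc, smul_mul_assoc, smul_add])

theorem range_psi (hf : f ∈ H k n) (hg : g ∈ H k m) (hn : n ≤ d) (hm : m ≤ d) :
    LinearMap.range (psi f g hf hg hn hm) =
      Submodule.comap (H k d).subtype
        ((Ideal.span ({f, g} : Set (MvPolynomial (Fin 3) k))).restrictScalars k) := by
  ext h
  rw [LinearMap.mem_range, Submodule.mem_comap, Submodule.restrictScalars_mem,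
    Ideal.mem_span_pair]
  constructor
  · rintro ⟨p, rfl⟩
    exact ⟨p.1.1, p.2.1, rfl⟩
  · rintro ⟨a, b, hab⟩
    refine ⟨(⟨_, SetLike.coe_mem
        (DirectSum.decompose (homogeneousSubmodule (Fin 3) k) a (d - n))⟩,
      ⟨_, SetLike.coe_mem (DirectSum.decompose (homogeneousSubmodule (Fin 3) k) b (d - m))⟩), ?_⟩
    apply Subtype.ext
    show (DirectSum.decompose (homogeneousSubmodule (Fin 3) k) a (d - n) :
        MvPolynomial (Fin 3) k) * f +
      (DirectSum.decompose (homogeneousSubmodule (Fin 3) k) b (d - m) :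
        MvPolynomial (Fin 3) k) * g = (h : MvPolynomial (Fin 3) k)
    rw [← decomp_mul k a f hf hn, ← decomp_mul k b g hg hm]
    have h3 : (DirectSum.decompose (homogeneousSubmodule (Fin 3) k) (a * f + b * g) d :
        MvPolynomial (Fin 3) k) = (h : MvPolynomial (Fin 3) k) := by
      rw [hab]
      exact DirectSum.decompose_of_mem_same _ h.2
    rw [← h3, DirectSum.decompose_add, DirectSum.add_apply, Submodule.coe_add]

noncomputable def iota (hf : f ∈ H k n) (hg : g ∈ H k m) (hnm : n + m ≤ d) :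
    ↥(H k (d - n - m)) →ₗ[k] (↥(H k (d - n)) × ↥(H k (d - m))) where
  toFun c := (⟨c.1 * g, by
      have h := mul_mem_H k c.2 hg
      have e : d - n - m + m = d - n := by omega
      rwa [e] at h⟩,
    ⟨-(c.1 * f), by
      have h := mul_mem_H k c.2 hf
      have e : d - n - m + n = d - m := by omega
      rw [e] at h
      exact Submodule.neg_mem _ h⟩)
  map_add' p q := by
    apply Prod.ext <;> apply Subtype.ext
    · show (p.1 + q.1) * g = p.1 * g + q.1 * g
      ring
    · show -((p.1 + q.1) * f) = -(p.1 * f) + -(q.1 * f)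
      ring
  map_smul' c p := by
    apply Prod.ext <;> apply Subtype.ext
    · show (c • p.1) * g = c • (p.1 * g)
      rw [smul_mul_assoc]
    · show -((c • p.1) * f) = c • -(p.1 * f)
      rw [smul_mul_assoc, smul_neg]

theorem iota_injective (hf : f ∈ H k n) (hg : g ∈ H k m) (hnm : n + m ≤ d) (hg0 : g ≠ 0) :
    Function.Injective (iota (d := d) f g hf hg hnm) := by
  rw [← LinearMap.ker_eq_bot, LinearMap.ker_eq_bot']
  intro c hc
  have h1 : c.1 * g = 0 := congrArg (fun p => (p.1 : MvPolynomial (Fin 3) k)) hc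
  rcases mul_eq_zero.1 h1 with h | h
  · exact Subtype.ext h
  · exact absurd h hg0

theorem range_iota (hf : f ∈ H k n) (hg : g ∈ H k m) (hnm : n + m ≤ d) (hn : n ≤ d) (hm : m ≤ d)
    (hf0 : f ≠ 0) (hfg : IsRelPrime f g) :
    LinearMap.range (iota (d := d) f g hf hg hnm) = LinearMap.ker (psi f g hf hg hn hm) := by
  ext p
  rw [LinearMap.mem_range, LinearMap.mem_ker]
  constructor
  · rintro ⟨c, rfl⟩
    apply Subtype.ext
    show c.1 * g * f + -(c.1 * f) * g = 0
    ring
  · intro hp
    have h0 : p.1.1 * f + p.2.1 * g = 0 := congrArg Subtype.val hp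
    have hdvd : f ∣ p.2.1 * g := ⟨-p.1.1, by linear_combination h0⟩
    have hdvd2 : f ∣ p.2.1 := hfg.dvd_of_dvd_mul_right hdvd
    obtain ⟨c₁, hc₁⟩ := hdvd2
    have hmn : n ≤ d - m := by omega
    obtain ⟨c₂, hc₂⟩ : ∃ c₂ : MvPolynomial (Fin 3) k, c₂ =
      (DirectSum.decompose (homogeneousSubmodule (Fin 3) k) c₁ (d - m - n) :
        MvPolynomial (Fin 3) k) := ⟨_, rfl⟩
    have hb : (p.2.1 : MvPolynomial (Fin 3) k) = c₂ * f := by
      have h1 := decomp_mul k c₁ f hf hmn
      rw [hc₂, ← h1, mul_comm c₁ f, ← hc₁]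
      exact (DirectSum.decompose_of_mem_same _ p.2.2).symm
    have e : d - m - n = d - n - m := by omega
    have hc₂mem : c₂ ∈ H k (d - n - m) := by
      rw [← e, hc₂]
      exact SetLike.coe_mem _
    have ha : (p.1.1 : MvPolynomial (Fin 3) k) = -(c₂ * g) := by
      have h2 : (p.1.1 + c₂ * g) * f = 0 := by
        rw [hb] at h0
        linear_combination h0
      rcases mul_eq_zero.1 h2 with h | h
      · linear_combination h
      · exact absurd h hf0
    refine ⟨⟨-c₂, Submodule.neg_mem _ hc₂mem⟩, ?_⟩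
    apply Prod.ext <;> apply Subtype.ext
    · show -c₂ * g = p.1.1
      rw [ha]
      ring
    · show -(-c₂ * f) = p.2.1
      rw [hb]
      ring

end Main

theorem s10824 (k : Type u) [Field k] (n m d : ℕ)
    (f g : MvPolynomial (Fin 3) k) (hf : f.IsHomogeneous n) (hg : g.IsHomogeneous m)
    (hn : 0 < n) (hm : 0 < m) (hf0 : f ≠ 0) (hg0 : g ≠ 0) (hfg : IsRelPrime f g) (hd : n + m ≤ d) :
    Module.finrank k
        (↥(MvPolynomial.homogeneousSubmodule (Fin 3) k d) ⧸
          Submodule.comap (MvPolynomial.homogeneousSubmodule (Fin 3) k d).subtype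
            ((Ideal.span ({f, g} : Set (MvPolynomial (Fin 3) k))).restrictScalars k)) = n * m := by
  have hn' : n ≤ d := by omega
  have hm' : m ≤ d := by omega
  have hfm : f ∈ H k n := (mem_homogeneousSubmodule _ _).2 hf
  have hgm : g ∈ H k m := (mem_homogeneousSubmodule _ _).2 hg
  haveI := finite_homog k 3 d
  haveI := finite_homog k 3 (d - n)
  haveI := finite_homog k 3 (d - m)
  haveI := finite_homog k 3 (d - n - m)
  rw [← range_psi f g hfm hgm hn' hm']
  have h1 := Submodule.finrank_quotient_add_finrank (LinearMap.range (psi f g hfm hgm hn' hm'))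
  have h2 := LinearMap.finrank_range_add_finrank_ker (psi f g hfm hgm hn' hm')
  have h3 : finrank k ↥(LinearMap.ker (psi f g hfm hgm hn' hm')) =
      finrank k ↥(H k (d - n - m)) := by
    rw [← range_iota f g hfm hgm hd hn' hm' hf0 hfg]
    exact LinearMap.finrank_range_of_inj (iota_injective f g hfm hgm hd hg0)
  rw [Module.finrank_prod, finrank_homog3, finrank_homog3] at h2
  rw [finrank_homog3] at h1 h3
  exact arith n m d _ _ _ hd h1 h2 h3

end Groth.Agent.Lib.Helper24CIHilb
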