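import Groth.Agent.Lib.Helper27ProjUniq
import Groth.Agent.Lib.Helper27AwayGen
import Groth.Agent.Lib.Helper27ProjCover

/-!
# Uniqueness of morphisms to `Proj` of an algebra generated in degree one (helper27)

* `awayToSection_awayι_appTop`, `awayι_appTop_toSpecZero`, `awayToSection_const` : the constant
  functions on `D₊(g)`
* `awayToSection_mk'_one` : `G j / G i` as `cfun`
* `isGen_iso` : generators are carried to generators by isomorphisms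
* `proj_hom_ext` : two morphisms `r r' : X ⟶ Proj 𝒜` over `Spec R` with an isomorphism
  `r^* O(1) ≅ r'^* O(1)` matching the pull-backs of the degree one generators are equal.
-/

set_option autoImplicit false
universe u

open CategoryTheory CategoryTheory.Limits AlgebraicGeometry TopologicalSpace Opposite
  HomogeneousLocalization
open Groth.Agent.Lib.Helper23.SecTw Groth.Agent.Lib.Helper6 Groth.Agent.Helper13PullbackUnit
  Groth.Agent.Lib.Helper27PullGen Groth.Agent.Lib.Helper27AwayGen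

namespace Groth.Agent.Lib.Helper27GrTildeSect

variable {R A : Type u} [CommRing R] [CommRing A] [Algebra R A] (𝒜 : ℕ → Submodule R A)
  [GradedAlgebra 𝒜]

section Const

variable {f : A} {m : ℕ} (f_deg : f ∈ 𝒜 m) (hm : 0 < m)

theorem awayι_appTop_toSpecZero (t : Γ(Spec (.of (𝒜 0)), ⊤)) :
    (Scheme.ΓSpecIso _).hom ((Proj.awayι 𝒜 f f_deg hm).appTop ((Proj.toSpecZero 𝒜).appTop t)) =
      fromZeroRingHom 𝒜 _ ((Scheme.ΓSpecIso _).hom t) := by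
  have h1 := Proj.awayι_toSpecZero 𝒜 f f_deg hm
  have h2 := congrArg Scheme.Hom.appTop h1
  rw [Scheme.Hom.comp_appTop] at h2
  have h3 := Scheme.ΓSpecIso_naturality (CommRingCat.ofHom
    (fromZeroRingHom 𝒜 (Submonoid.powers f)))
  rw [← h2] at h3
  exact congr($h3 t)

/-- the restriction of a global function to `D₊(f)`, through `awayι`. -/
theorem awayToSection_awayι_appTop (s : Γ(Proj 𝒜, ⊤)) :
    (Proj.awayToSection 𝒜 f).hom ((Scheme.ΓSpecIso _).hom ((Proj.awayι 𝒜 f f_deg hm).appTop s)) =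
      (Proj 𝒜).presheaf.map (homOfLE (le_top : Proj.basicOpen 𝒜 f ≤ ⊤)).op s := by
  set e := Proj.basicOpenIsoSpec 𝒜 f f_deg hm with he
  have h1 : (Proj.awayι 𝒜 f f_deg hm).appTop s = e.inv.appTop ((Proj.basicOpen 𝒜 f).ι.appTop s) := by
    rw [← Proj.basicOpenIsoSpec_inv_ι, Scheme.Hom.comp_appTop]
    rfl
  set u := (Proj.basicOpen 𝒜 f).ι.appTop s with hu
  have h2 : e.hom.appTop (e.inv.appTop u) = u := by
    have : e.inv.appTop ≫ e.hom.appTop = 𝟙 _ := by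
      rw [← Scheme.Hom.comp_appTop, e.hom_inv_id]
      rfl
    exact congr($this u)
  have h3 : e.hom.appTop = (Scheme.ΓSpecIso _).hom ≫ Proj.awayToSection 𝒜 f ≫
      (Proj.basicOpen 𝒜 f).topIso.inv := by
    rw [he, Proj.basicOpenIsoSpec_hom]
    exact Proj.basicOpenToSpec_app_top 𝒜 f
  rw [h3] at h2
  have h4 : (Proj.basicOpen 𝒜 f).topIso.inv ((Proj.awayToSection 𝒜 f).hom
      ((Scheme.ΓSpecIso _).hom (e.inv.appTop u))) = u := h2
  rw [h1]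
  have h5 := congrArg (Proj.basicOpen 𝒜 f).topIso.hom h4
  have h6 : (Proj.basicOpen 𝒜 f).topIso.hom ((Proj.basicOpen 𝒜 f).topIso.inv
      ((Proj.awayToSection 𝒜 f).hom ((Scheme.ΓSpecIso _).hom (e.inv.appTop u)))) =
      (Proj.awayToSection 𝒜 f).hom ((Scheme.ΓSpecIso _).hom (e.inv.appTop u)) := by
    exact congr($((Proj.basicOpen 𝒜 f).topIso.inv_hom_id) _)
  rw [h6] at h5
  rw [h5, hu, Scheme.Opens.ι_appTop, Scheme.Opens.topIso_hom]
  change ((Proj 𝒜).presheaf.map (homOfLE _).op ≫ (Proj 𝒜).presheaf.map (eqToHom _).op) s = _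
  rw [← Functor.map_comp]
  rfl

/-- the structure morphism `Proj 𝒜 ⟶ Spec R`. -/
noncomputable abbrev toBase : Proj 𝒜 ⟶ Spec (.of R) :=
  Proj.toSpecZero 𝒜 ≫ Spec.map (CommRingCat.ofHom (algebraMap R (𝒜 0)))

/-- a constant of `R` as a global function on `Proj 𝒜`. -/
noncomputable def constFun (r₀ : R) : Γ(Proj 𝒜, ⊤) :=
  (toBase 𝒜).appTop ((Scheme.ΓSpecIso (.of R)).inv r₀)

include f_deg hm in
theorem awayToSection_const (r₀ : R) :
    (Proj.awayToSection 𝒜 f).hom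
        (fromZeroRingHom 𝒜 (Submonoid.powers f) (algebraMap R (𝒜 0) r₀)) =
      (Proj 𝒜).presheaf.map (homOfLE (le_top : Proj.basicOpen 𝒜 f ≤ ⊤)).op (constFun 𝒜 r₀) := by
  rw [← awayToSection_awayι_appTop 𝒜 f_deg hm]
  congr 1
  rw [constFun, toBase, Scheme.Hom.comp_appTop]
  change _ = (Scheme.ΓSpecIso _).hom ((Proj.awayι 𝒜 f f_deg hm).appTop
    ((Proj.toSpecZero 𝒜).appTop ((Spec.map (CommRingCat.ofHom (algebraMap R (𝒜 0)))).appTop
      ((Scheme.ΓSpecIso (.of R)).inv r₀))))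
  rw [awayι_appTop_toSpecZero]
  congr 1
  have h3 := Scheme.ΓSpecIso_naturality (CommRingCat.ofHom (algebraMap R (𝒜 0)))
  have h4 := congr($h3 ((Scheme.ΓSpecIso (.of R)).inv r₀))
  refine Eq.trans ?_ h4.symm
  have h5 : (Scheme.ΓSpecIso (.of R)).hom ((Scheme.ΓSpecIso (.of R)).inv r₀) = r₀ :=
    congr($((Scheme.ΓSpecIso (.of R)).inv_hom_id) r₀)
  change _ = algebraMap R (𝒜 0) ((Scheme.ΓSpecIso (.of R)).hom ((Scheme.ΓSpecIso (.of R)).inv r₀))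
  rw [h5]

end Const

theorem mk'_zero_eq {g : A} (hg : g ∈ 𝒜 1) (r₀ : R) :
    mk' 𝒜 hg 0 (algebraMap R A r₀) (SetLike.algebraMap_mem_graded 𝒜 r₀) =
      fromZeroRingHom 𝒜 (Submonoid.powers g) (algebraMap R (𝒜 0) r₀) := by
  apply HomogeneousLocalization.val_injective
  rw [val_mk']
  change _ = Localization.mk (algebraMap R A r₀) ⟨1, one_mem _⟩
  congr 1
  ext
  simp

section Cover

variable {ι : Type*} (G : ι → A) (hG : ∀ j, G j ∈ 𝒜 1)

theorem awayToSection_mk'_one (j i : ι) :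
    (Proj.awayToSection 𝒜 (G i)).hom (mk' 𝒜 (hG i) 1 (G j) (hG j)) = cfun 𝒜 1 G hG j i := by
  apply fun_ext_val
  intro y hy
  rw [cfun, funVal_fracFun, mk', funVal_awayToSection_val]
  congr 1
  ext
  simp

end Cover

section IsGenIso

variable {X : Scheme.{u}}

theorem isGen_iso {M N : X.Modules} (τ : M ≅ N) {W : X.Opens} {e : Γ(M, W)} (he : IsGen M W e) :
    IsGen N W (τ.hom.app W e) := by
  intro W' h
  have hb : Function.Bijective (τ.hom.app W') := by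
    have h1 : τ.hom.app W' ≫ τ.inv.app W' = 𝟙 _ := by
      rw [← Scheme.Modules.Hom.comp_app, τ.hom_inv_id]; rfl
    have h2 : τ.inv.app W' ≫ τ.hom.app W' = 𝟙 _ := by
      rw [← Scheme.Modules.Hom.comp_app, τ.inv_hom_id]; rfl
    refine ⟨?_, ?_⟩
    · intro a b hab
      have := congrArg (τ.inv.app W') hab
      have ha : τ.inv.app W' (τ.hom.app W' a) = a := congr($h1 a)
      have hb : τ.inv.app W' (τ.hom.app W' b) = b := congr($h1 b)
      rw [ha, hb] at this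
      exact this
    · intro b
      exact ⟨τ.inv.app W' b, congr($h2 b)⟩
  have hfun : (fun a : Γ(X, W') => a • res N h (τ.hom.app W e)) =
      (τ.hom.app W') ∘ (fun a : Γ(X, W') => a • res M h e) := by
    funext a
    change _ = τ.hom.app W' (a • res M h e)
    rw [Groth.Agent.Lib.Helper2.ModExact.app_smul]
    congr 1
    exact (Groth.Agent.Lib.Helper2.ModExact.app_map τ.hom (homOfLE h) e).symm
  rw [hfun]
  exact hb.comp (he W' h)

end IsGenIso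

section AppLE

variable {X Y : Scheme.{u}} (f : X ⟶ Y)

theorem appLE_resf_top {U : Y.Opens} {V : X.Opens} (e : V ≤ f ⁻¹ᵁ U) (c : Γ(Y, ⊤)) :
    f.appLE U V e (Y.presheaf.map (homOfLE (le_top : U ≤ ⊤)).op c) =
      X.presheaf.map (homOfLE (le_top : V ≤ ⊤)).op (f.appTop c) := by
  have h1 := Scheme.Hom.map_appLE f e (homOfLE (le_top : U ≤ ⊤)).op
  have h2 := congr($h1 c)
  refine h2.trans ?_
  rfl

end AppLE

section Main

variable {ι : Type*} (G : ι → A) (hG : ∀ j, G j ∈ 𝒜 1)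
  (hcov : ∀ y : Proj 𝒜, ∃ i, G i ∉ (show ProjectiveSpectrum 𝒜 from y).asHomogeneousIdeal)
variable {X : Scheme.{u}} (r r' : X ⟶ Proj 𝒜)
variable (τ : (Scheme.Modules.pullback r).obj (GrTilde.tilde 𝒜 𝒜 ((1 : ℕ) : ℤ)) ≅
      (Scheme.Modules.pullback r').obj (GrTilde.tilde 𝒜 𝒜 ((1 : ℕ) : ℤ)))
  (hτ : ∀ j, τ.hom.app ⊤
      (ProjUP.pullSec r (GrTilde.tilde 𝒜 𝒜 ((1 : ℕ) : ℤ)) (gsec 𝒜 1 ⊤ (hG j))) =
      ProjUP.pullSec r' (GrTilde.tilde 𝒜 𝒜 ((1 : ℕ) : ℤ)) (gsec 𝒜 1 ⊤ (hG j)))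

include hcov hτ in
theorem preimage_le (i : ι) :
    r ⁻¹ᵁ Proj.basicOpen 𝒜 (G i) ≤ r' ⁻¹ᵁ Proj.basicOpen 𝒜 (G i) := by
  intro x hx
  have h1 := res_pullSec_eq 𝒜 G hG r i i
  rw [cfun_self, map_one, one_smul] at h1
  have h2 : IsGen ((Scheme.Modules.pullback r).obj (GrTilde.tilde 𝒜 𝒜 ((1 : ℕ) : ℤ)))
      (r ⁻¹ᵁ Proj.basicOpen 𝒜 (G i))
      (res _ (le_top : r ⁻¹ᵁ Proj.basicOpen 𝒜 (G i) ≤ ⊤)
        (ProjUP.pullSec r (GrTilde.tilde 𝒜 𝒜 ((1 : ℕ) : ℤ)) (gsec 𝒜 1 ⊤ (hG i)))) := by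
    rw [h1]; exact isGen_pj 𝒜 G hG r i
  have h3 := isGen_iso τ h2
  have h4 : τ.hom.app (r ⁻¹ᵁ Proj.basicOpen 𝒜 (G i))
      (res _ (le_top : r ⁻¹ᵁ Proj.basicOpen 𝒜 (G i) ≤ ⊤)
        (ProjUP.pullSec r (GrTilde.tilde 𝒜 𝒜 ((1 : ℕ) : ℤ)) (gsec 𝒜 1 ⊤ (hG i)))) =
      res _ (le_top : r ⁻¹ᵁ Proj.basicOpen 𝒜 (G i) ≤ ⊤)
        (ProjUP.pullSec r' (GrTilde.tilde 𝒜 𝒜 ((1 : ℕ) : ℤ)) (gsec 𝒜 1 ⊤ (hG i))) := by
    rw [← hτ i]
    exact Groth.Agent.Lib.Helper2.ModExact.app_map τ.hom (homOfLE le_top) _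
  rw [h4] at h3
  exact mem_of_isGen_pullSec 𝒜 G hG hcov r' i x _ hx h3

include hcov hτ in
theorem appLE_eq (hgen : Algebra.adjoin R (Set.range G) = ⊤)
    (hrr' : r ≫ toBase 𝒜 = r' ≫ toBase 𝒜) (i : ι) :
    r.appLE (Proj.basicOpen 𝒜 (G i)) (r ⁻¹ᵁ Proj.basicOpen 𝒜 (G i)) le_rfl =
      r'.appLE (Proj.basicOpen 𝒜 (G i)) (r ⁻¹ᵁ Proj.basicOpen 𝒜 (G i))
        (preimage_le 𝒜 G hG hcov r r' τ hτ i) := by
  have hΩ' := preimage_le 𝒜 G hG hcov r r' τ hτ i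
  let N := (Scheme.Modules.pullback r).obj (GrTilde.tilde 𝒜 𝒜 ((1 : ℕ) : ℤ))
  let N' := (Scheme.Modules.pullback r').obj (GrTilde.tilde 𝒜 𝒜 ((1 : ℕ) : ℤ))
  set W := Proj.basicOpen 𝒜 (G i) with hW
  set Ω := r ⁻¹ᵁ W with hΩ
  set ψ := r.appLE W Ω le_rfl with hψ
  set ψ' := r'.appLE W Ω hΩ' with hψ'
  set e' := res N' hΩ' (pj 𝒜 G hG r' i) with he'
  have hgen' : IsGen N' Ω e' := (isGen_pj 𝒜 G hG r' i).mono hΩ'
  -- the two descriptions of the restricted coordinates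
  have key1 : ∀ j, res N' (le_top : Ω ≤ ⊤)
      (ProjUP.pullSec r' (GrTilde.tilde 𝒜 𝒜 ((1 : ℕ) : ℤ)) (gsec 𝒜 1 ⊤ (hG j))) =
      ψ' (cfun 𝒜 1 G hG j i) • e' := by
    intro j
    have h1 := congrArg (res N' hΩ') (res_pullSec_eq 𝒜 G hG r' j i)
    rw [res_res, res_smul] at h1
    rw [h1]
    congr 1
    have h2 := Scheme.Hom.appLE_map r' (le_refl (r' ⁻¹ᵁ W)) (homOfLE hΩ').op
    exact congr($h2 (cfun 𝒜 1 G hG j i))
  have key2 : ∀ j, res N' (le_top : Ω ≤ ⊤)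
      (ProjUP.pullSec r' (GrTilde.tilde 𝒜 𝒜 ((1 : ℕ) : ℤ)) (gsec 𝒜 1 ⊤ (hG j))) =
      ψ (cfun 𝒜 1 G hG j i) • τ.hom.app Ω (pj 𝒜 G hG r i) := by
    intro j
    rw [← hτ j, ← Groth.Agent.Lib.Helper2.ModExact.app_smul, ← res_pullSec_eq 𝒜 G hG r j i]
    exact (Groth.Agent.Lib.Helper2.ModExact.app_map τ.hom (homOfLE le_top) _).symm
  have hτe : τ.hom.app Ω (pj 𝒜 G hG r i) = e' := by
    have h1 := key1 i
    have h2 := key2 i
    rw [cfun_self, map_one, one_smul] at h1 h2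
    rw [← h2, h1]
  -- reduce to the generators of `A_(G i)`
  have hsurj : Function.Surjective (Proj.awayToSection 𝒜 (G i)).hom := by
    intro c
    obtain ⟨k, a, ha, h⟩ := exists_awayToSection_eq (hG i) Nat.one_pos c
    exact ⟨_, h⟩
  let E : Subring (Away 𝒜 (G i)) :=
    RingHom.eqLocus (ψ.hom.comp (Proj.awayToSection 𝒜 (G i)).hom)
      (ψ'.hom.comp (Proj.awayToSection 𝒜 (G i)).hom)
  have hE : E = ⊤ := by
    apply subring_eq_top 𝒜 (hG i) G hG hgen E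
    · intro r₀
      change ψ ((Proj.awayToSection 𝒜 (G i)).hom _) = ψ' ((Proj.awayToSection 𝒜 (G i)).hom _)
      rw [mk'_zero_eq, awayToSection_const 𝒜 (hG i) Nat.one_pos, hψ, hψ', appLE_resf_top,
        appLE_resf_top]
      congr 1
      rw [constFun]
      have h1 := congrArg Scheme.Hom.appTop hrr'
      rw [Scheme.Hom.comp_appTop, Scheme.Hom.comp_appTop] at h1
      exact congr($h1 _)
    · intro j
      change ψ ((Proj.awayToSection 𝒜 (G i)).hom _) = ψ' ((Proj.awayToSection 𝒜 (G i)).hom _)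
      rw [awayToSection_mk'_one]
      apply (hgen' Ω le_rfl).1
      change ψ (cfun 𝒜 1 G hG j i) • res N' le_rfl e' = ψ' (cfun 𝒜 1 G hG j i) • res N' le_rfl e'
      rw [res_self, ← key1 j, key2 j, hτe]
  ext c
  obtain ⟨a, rfl⟩ := hsurj c
  have : a ∈ E := by rw [hE]; trivial
  exact this

include hτ in
/-- **Uniqueness of morphisms to `Proj`.** -/
theorem proj_hom_ext (hgen : Algebra.adjoin R (Set.range G) = ⊤)
    (hrr' : r ≫ toBase 𝒜 = r' ≫ toBase 𝒜) : r = r' := by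
  have hcov : ∀ y : Proj 𝒜, ∃ i, G i ∉ (show ProjectiveSpectrum 𝒜 from y).asHomogeneousIdeal := by
    intro y
    obtain ⟨i, _, hi⟩ := Groth.Agent.Lib.Helper27ProjCover.exists_not_mem 𝒜 G (fun _ => 1) hG hgen
      (show ProjectiveSpectrum 𝒜 from y)
    exact ⟨i, hi⟩
  apply Scheme.hom_ext_of_forall
  intro x
  obtain ⟨i, hi⟩ := hcov (r x)
  have hx : x ∈ r ⁻¹ᵁ Proj.basicOpen 𝒜 (G i) :=
    (ProjectiveSpectrum.mem_basicOpen 𝒜 (G i) (r x)).mpr hi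
  refine ⟨r ⁻¹ᵁ Proj.basicOpen 𝒜 (G i), hx, ?_⟩
  have hΩ' := preimage_le 𝒜 G hG hcov r r' τ hτ i
  have hE := appLE_eq 𝒜 G hG hcov r r' τ hτ hgen hrr' i
  have haff : IsAffine (Proj.basicOpen 𝒜 (G i)).toScheme :=
    Proj.isAffineOpen_basicOpen 𝒜 (G i) (hG i) Nat.one_pos
  have h1 : r.resLE (Proj.basicOpen 𝒜 (G i)) _ le_rfl =
      r'.resLE (Proj.basicOpen 𝒜 (G i)) _ hΩ' := by
    apply ext_of_isAffine
    have e1 : (r.resLE (Proj.basicOpen 𝒜 (G i)) (r ⁻¹ᵁ Proj.basicOpen 𝒜 (G i)) le_rfl).appTop =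
        (Proj.basicOpen 𝒜 (G i)).topIso.hom ≫ r.appLE _ _ le_rfl ≫
          (r ⁻¹ᵁ Proj.basicOpen 𝒜 (G i)).topIso.inv := Scheme.Hom.resLE_app_top r le_rfl
    have e2 : (r'.resLE (Proj.basicOpen 𝒜 (G i)) (r ⁻¹ᵁ Proj.basicOpen 𝒜 (G i)) hΩ').appTop =
        (Proj.basicOpen 𝒜 (G i)).topIso.hom ≫ r'.appLE _ _ hΩ' ≫
          (r ⁻¹ᵁ Proj.basicOpen 𝒜 (G i)).topIso.inv := Scheme.Hom.resLE_app_top r' hΩ'
    rw [e1, e2, hE]
  rw [← Scheme.Hom.resLE_comp_ι r le_rfl, ← Scheme.Hom.resLE_comp_ι r' hΩ', h1]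

end Main

end Groth.Agent.Lib.Helper27GrTildeSect
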