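import Mathlib
import Groth.Prelude.Def_SecTwist

set_option autoImplicit false
universe u
open CategoryTheory CategoryTheory.Limits AlgebraicGeometry TopologicalSpace Opposite TensorProduct
  MonoidalCategory

namespace Groth.Agent.Helper18Tens

section general

variable {C : Type*} [Category C] {R : Cᵒᵖ ⥤ CommRingCat.{u}}
variable {M₁ M₂ M₃ : PresheafOfModules.{u} (R ⋙ forget₂ CommRingCat RingCat)}

noncomputable def ofBilinApp (Z : Cᵒᵖ) (β : M₁.obj Z → M₂.obj Z → M₃.obj Z)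
    (h₁ : ∀ m₁ m₂ n, β (m₁ + m₂) n = β m₁ n + β m₂ n)
    (h₂ : ∀ (a : (R ⋙ forget₂ CommRingCat RingCat).obj Z) m n, β (a • m) n = a • β m n)
    (h₃ : ∀ m n₁ n₂, β m (n₁ + n₂) = β m n₁ + β m n₂)
    (h₄ : ∀ (a : (R ⋙ forget₂ CommRingCat RingCat).obj Z) m n, β m (a • n) = a • β m n) :
    (M₁ ⊗ M₂).obj Z ⟶ M₃.obj Z :=
  ModuleCat.MonoidalCategory.tensorLift (R := R.obj Z) (M₁ := M₁.obj Z) (M₂ := M₂.obj Z)
    (M₃ := M₃.obj Z) β h₁ h₂ h₃ h₄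

theorem ofBilinApp_tmul (Z : Cᵒᵖ) (β : M₁.obj Z → M₂.obj Z → M₃.obj Z)
    (h₁ : ∀ m₁ m₂ n, β (m₁ + m₂) n = β m₁ n + β m₂ n)
    (h₂ : ∀ (a : (R ⋙ forget₂ CommRingCat RingCat).obj Z) m n, β (a • m) n = a • β m n)
    (h₃ : ∀ m n₁ n₂, β m (n₁ + n₂) = β m n₁ + β m n₂)
    (h₄ : ∀ (a : (R ⋙ forget₂ CommRingCat RingCat).obj Z) m n, β m (a • n) = a • β m n)
    (m : M₁.obj Z) (n : M₂.obj Z) :
    (ofBilinApp Z β h₁ h₂ h₃ h₄).hom (m ⊗ₜ[R.obj Z] n) = β m n := rfl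

/-- a morphism out of the sectionwise tensor product from a natural bilinear family. -/
noncomputable def ofBilin (β : ∀ Z : Cᵒᵖ, M₁.obj Z → M₂.obj Z → M₃.obj Z)
    (h₁ : ∀ Z m₁ m₂ n, β Z (m₁ + m₂) n = β Z m₁ n + β Z m₂ n)
    (h₂ : ∀ Z (a : (R ⋙ forget₂ CommRingCat RingCat).obj Z) m n, β Z (a • m) n = a • β Z m n)
    (h₃ : ∀ Z m n₁ n₂, β Z m (n₁ + n₂) = β Z m n₁ + β Z m n₂)
    (h₄ : ∀ Z (a : (R ⋙ forget₂ CommRingCat RingCat).obj Z) m n, β Z m (a • n) = a • β Z m n)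
    (hnat : ∀ {Z W : Cᵒᵖ} (f : Z ⟶ W) m n, M₃.map f (β Z m n) = β W (M₁.map f m) (M₂.map f n)) :
    M₁ ⊗ M₂ ⟶ M₃ where
  app Z := ofBilinApp Z (β Z) (h₁ Z) (h₂ Z) (h₃ Z) (h₄ Z)
  naturality {Z W} f := ModuleCat.MonoidalCategory.tensor_ext (fun m₁ m₂ => by
    have e1 : ((M₁ ⊗ M₂).map f).hom (m₁ ⊗ₜ[R.obj Z] m₂) = M₁.map f m₁ ⊗ₜ[R.obj W] M₂.map f m₂ :=
      PresheafOfModules.Monoidal.tensorObj_map_tmul f m₁ m₂
    change (ofBilinApp W (β W) (h₁ W) (h₂ W) (h₃ W) (h₄ W)).hom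
      (((M₁ ⊗ M₂).map f).hom (m₁ ⊗ₜ[R.obj Z] m₂)) =
      (M₃.map f).hom ((ofBilinApp Z (β Z) (h₁ Z) (h₂ Z) (h₃ Z) (h₄ Z)).hom (m₁ ⊗ₜ[R.obj Z] m₂))
    rw [e1]
    exact (hnat f m₁ m₂).symm)

end general

variable {X : Scheme.{u}}

/-- a morphism out of the tensor product of `O_X`-modules from a morphism out of the sectionwise
tensor product. -/
noncomputable def tensorDesc (M N Q : X.Modules)
    (β : (CohB1.tensorPre M N : X.PresheafOfModules) ⟶ Q.val) : CohB1.tensorMod M N ⟶ Q :=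
  (CohB1.sheafifyMod X).map β ≫
    (PresheafOfModules.sheafificationAdjunction.{u, u, u, u}
      (J := Opens.grothendieckTopology X) (𝟙 X.ringCatSheaf.obj)).counit.app Q

theorem tensorDesc_tmul (M N Q : X.Modules)
    (β : (CohB1.tensorPre M N : X.PresheafOfModules) ⟶ Q.val) (U : X.Opens)
    (m : M.val.obj (op U)) (n : N.val.obj (op U)) :
    ((tensorDesc M N Q β).val.app (op U)).hom (SecTwist.tmul M N U m n) =
      (β.app (op U)).hom ((m ⊗ₜ n : ↥((CohB1.tensorPre M N).obj (op U)))) := by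
  let adj := PresheafOfModules.sheafificationAdjunction.{u, u, u, u}
    (J := Opens.grothendieckTopology X) (𝟙 X.ringCatSheaf.obj)
  let P : X.PresheafOfModules := CohB1.tensorPre M N
  let x : ↥((CohB1.tensorPre M N).obj (op U)) := m ⊗ₜ n
  have natU : ((adj.unit.app Q.val).app (op U)).hom ((β.app (op U)).hom x) =
      ((((CohB1.sheafifyMod X).map β).val.app (op U)).hom
        (((adj.unit.app P).app (op U)).hom x)) :=
    congrArg (fun φ => (PresheafOfModules.Hom.app φ (op U)).hom x) (adj.unit.naturality β)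
  have triU : (((adj.counit.app Q).val.app (op U)).hom
      (((adj.unit.app Q.val).app (op U)).hom ((β.app (op U)).hom x))) = (β.app (op U)).hom x :=
    congrArg (fun φ => (PresheafOfModules.Hom.app φ (op U)).hom ((β.app (op U)).hom x))
      (adj.right_triangle_components Q)
  change ((((CohB1.sheafifyMod X).map β ≫ adj.counit.app Q).val.app (op U)).hom
      (((adj.unit.app P).app (op U)).hom x)) = (β.app (op U)).hom x
  rw [← triU, natU]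
  rfl

/-- a morphism out of the tensor product of `O_X`-modules from a natural bilinear family on
sections. -/
noncomputable def ofBilinSch (M N Q : X.Modules)
    (β : ∀ Z : (Opens X)ᵒᵖ, M.val.obj Z → N.val.obj Z → Q.val.obj Z)
    (h₁ : ∀ Z m₁ m₂ n, β Z (m₁ + m₂) n = β Z m₁ n + β Z m₂ n)
    (h₂ : ∀ Z (a : X.ringCatSheaf.obj.obj Z) m n, β Z (a • m) n = a • β Z m n)
    (h₃ : ∀ Z m n₁ n₂, β Z m (n₁ + n₂) = β Z m n₁ + β Z m n₂)
    (h₄ : ∀ Z (a : X.ringCatSheaf.obj.obj Z) m n, β Z m (a • n) = a • β Z m n)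
    (hnat : ∀ {Z W : (Opens X)ᵒᵖ} (f : Z ⟶ W) m n,
      Q.val.map f (β Z m n) = β W (M.val.map f m) (N.val.map f n)) :
    CohB1.tensorMod M N ⟶ Q :=
  tensorDesc M N Q (ofBilin (R := X.sheaf.obj) (M₁ := CohB1.toPMod M) (M₂ := CohB1.toPMod N)
    (M₃ := CohB1.toPMod Q) β h₁ h₂ h₃ h₄ hnat)

theorem ofBilinSch_tmul (M N Q : X.Modules)
    (β : ∀ Z : (Opens X)ᵒᵖ, M.val.obj Z → N.val.obj Z → Q.val.obj Z)
    (h₁ : ∀ Z m₁ m₂ n, β Z (m₁ + m₂) n = β Z m₁ n + β Z m₂ n)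
    (h₂ : ∀ Z (a : X.ringCatSheaf.obj.obj Z) m n, β Z (a • m) n = a • β Z m n)
    (h₃ : ∀ Z m n₁ n₂, β Z m (n₁ + n₂) = β Z m n₁ + β Z m n₂)
    (h₄ : ∀ Z (a : X.ringCatSheaf.obj.obj Z) m n, β Z m (a • n) = a • β Z m n)
    (hnat : ∀ {Z W : (Opens X)ᵒᵖ} (f : Z ⟶ W) m n,
      Q.val.map f (β Z m n) = β W (M.val.map f m) (N.val.map f n))
    (U : X.Opens) (m : M.val.obj (op U)) (n : N.val.obj (op U)) :
    ((ofBilinSch M N Q β h₁ h₂ h₃ h₄ hnat).val.app (op U)).hom (SecTwist.tmul M N U m n) =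
      β (op U) m n :=
  tensorDesc_tmul M N Q _ U m n

end Groth.Agent.Helper18Tens
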