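import Groth.Agent.Lib.Helper27TwistGen
import Groth.Agent.Lib.Helper18Tens1
import Groth.Agent.Lib.Helper23SecTw7

/-!
# The multiplication pairing `M(p)~ × O(k) → M(p+k)~` on `Proj` (helper27)
-/

set_option autoImplicit false
universe u

open CategoryTheory CategoryTheory.Limits AlgebraicGeometry TopologicalSpace Opposite
  HomogeneousLocalization

namespace Groth.Agent.Lib.Helper27GrTildeSect

variable {R A : Type u} [CommRing R] [CommRing A] [Algebra R A] (𝒜 : ℕ → Submodule R A)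
  [GradedAlgebra 𝒜]
variable {M : Type u} [AddCommGroup M] [Module R M] [Module A M] [IsScalarTower R A M]
  (ℳ : ℕ → Submodule R M) [DirectSum.Decomposition ℳ] [SetLike.GradedSMul 𝒜 ℳ]

omit [IsScalarTower R A M] [DirectSum.Decomposition ℳ] in
/-- the product of a degree-`k` fraction of `A` and a degree-`p` fraction of `M`. -/
theorem smul_mem_tildeAt {p k q : ℤ} (h : p + k = q) (y : ProjectiveSpectrum 𝒜)
    (c : GrTilde.LocMod 𝒜 (M := A) y) (hc : c ∈ GrTilde.tildeAt 𝒜 𝒜 k y)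
    (t : GrTilde.LocMod 𝒜 (M := M) y) (ht : t ∈ GrTilde.tildeAt 𝒜 ℳ p y) :
    ((show Twist.Loc 𝒜 y from c) • t) ∈ GrTilde.tildeAt 𝒜 ℳ q y := by
  obtain ⟨i', j', a, b, ha, hb, hby, hij', rfl⟩ := exists_frac_of_mem 𝒜 𝒜 k y c hc
  obtain ⟨i, j, μ, s, hμ, hs, hsy, hij, rfl⟩ := exists_frac_of_mem 𝒜 ℳ p y t ht
  change (Localization.mk a (⟨b, hby⟩ : y.asHomogeneousIdeal.toIdeal.primeCompl) :
    Twist.Loc 𝒜 y) • (LocalizedModule.mk μ (⟨s, hsy⟩ :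
      y.asHomogeneousIdeal.toIdeal.primeCompl) : GrTilde.LocMod 𝒜 (M := M) y) ∈ _
  rw [LocalizedModule.mk_smul_mk]
  have hbs : b * s ∉ y.asHomogeneousIdeal := fun h' =>
    (y.isPrime.mem_or_mem h').elim hby hsy
  have haμ : a • μ ∈ ℳ (i' + i) := SetLike.GradedSMul.smul_mem ha hμ
  exact mk_mem_tildeAt 𝒜 ℳ q y haμ
    (SetLike.mul_mem_graded hb hs) hbs (by push_cast; omega)


omit [IsScalarTower R A M] [DirectSum.Decomposition ℳ] in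
theorem mulSect_pred {p k q : ℤ} (h : p + k = q) (U : (Opens (ProjectiveSpectrum.top 𝒜))ᵒᵖ)
    (m : GrTilde.sect 𝒜 ℳ p U) (s : GrTilde.sect 𝒜 𝒜 k U) :
    (GrTilde.isLocFrac 𝒜 ℳ q).pred (fun y : U.unop =>
      (⟨(show Twist.Loc 𝒜 y.1 from (s.1 y).1) • (m.1 y).1,
        smul_mem_tildeAt 𝒜 ℳ h y.1 _ (s.1 y).2 _ (m.1 y).2⟩ : GrTilde.tildeAt 𝒜 ℳ q y.1)) := by
  intro y
  obtain ⟨Va, ma, ia, i, j, ⟨μ, hμ⟩, ⟨t, ht⟩, nina, ca, wa⟩ := m.2 y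
  obtain ⟨Vb, mb, ib, i', j', ⟨a, ha⟩, ⟨b, hb⟩, ninb, cb, wb⟩ := s.2 y
  replace ca : (i : ℤ) = j + p ∨ μ = 0 := ca
  replace cb : (i' : ℤ) = j' + k ∨ a = 0 := cb
  have nin : ∀ z : (Va ⊓ Vb : Opens _), b * t ∉ z.1.asHomogeneousIdeal := fun z h' =>
    (z.1.isPrime.mem_or_mem h').elim (ninb ⟨z.1, z.2.2⟩) (nina ⟨z.1, z.2.1⟩)
  have haμ : a • μ ∈ ℳ (i' + i) := SetLike.GradedSMul.smul_mem ha hμ
  refine ⟨Va ⊓ Vb, ⟨ma, mb⟩, Opens.infLELeft _ _ ≫ ia, i' + i, j' + j, ⟨a • μ, haμ⟩,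
    ⟨b * t, SetLike.mul_mem_graded hb ht⟩, nin, ?_, fun z => ?_⟩
  · rcases ca with ca | ca
    · rcases cb with cb | cb
      · exact Or.inl (by push_cast; omega)
      · exact Or.inr (show a • μ = 0 by rw [cb, zero_smul])
    · exact Or.inr (show a • μ = 0 by rw [ca, smul_zero])
  · have e1 := wa ⟨z.1, z.2.1⟩
    have e2 := wb ⟨z.1, z.2.2⟩
    dsimp only at e1 e2 ⊢
    erw [e1, e2]
    exact LocalizedModule.mk_smul_mk a μ _ _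

/-- the product of a section of `M(p)~` and a section of `O(k)`. -/
def mulSect {p k q : ℤ} (h : p + k = q) (U : (Opens (ProjectiveSpectrum.top 𝒜))ᵒᵖ)
    (m : GrTilde.sect 𝒜 ℳ p U) (s : GrTilde.sect 𝒜 𝒜 k U) : GrTilde.sect 𝒜 ℳ q U :=
  ⟨fun y => ⟨(show Twist.Loc 𝒜 y.1 from (s.1 y).1) • (m.1 y).1,
    smul_mem_tildeAt 𝒜 ℳ h y.1 _ (s.1 y).2 _ (m.1 y).2⟩, mulSect_pred 𝒜 ℳ h U m s⟩


/-- the product of a section of `M(p)~` and a section of `O(k)`, on an open of `Proj`. -/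
def mulSec {p k q : ℤ} (h : p + k = q) (W : (Proj 𝒜).Opens) (m : Γ(GrTilde.tilde 𝒜 ℳ p, W))
    (s : Γ(GrTilde.tilde 𝒜 𝒜 k, W)) : Γ(GrTilde.tilde 𝒜 ℳ q, W) :=
  ofSect 𝒜 ℳ q W (mulSect 𝒜 ℳ h (op W) (toSect 𝒜 ℳ p W m) (toSect 𝒜 𝒜 k W s))

theorem secVal_mulSec {p k q : ℤ} (h : p + k = q) (W : (Proj 𝒜).Opens)
    (m : Γ(GrTilde.tilde 𝒜 ℳ p, W)) (s : Γ(GrTilde.tilde 𝒜 𝒜 k, W))
    (y : ProjectiveSpectrum 𝒜) (hy : y ∈ W) :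
    secVal 𝒜 ℳ q W (mulSec 𝒜 ℳ h W m s) y hy =
      (show Twist.Loc 𝒜 y from secVal 𝒜 𝒜 k W s y hy) • secVal 𝒜 ℳ p W m y hy := rfl

theorem secVal_add (n : ℤ) (W : (Proj 𝒜).Opens) (s s' : Γ(GrTilde.tilde 𝒜 ℳ n, W))
    (y : ProjectiveSpectrum 𝒜) (hy : y ∈ W) :
    secVal 𝒜 ℳ n W (s + s') y hy = secVal 𝒜 ℳ n W s y hy + secVal 𝒜 ℳ n W s' y hy := rfl

theorem mulSec_add_left {p k q : ℤ} (h : p + k = q) (W : (Proj 𝒜).Opens)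
    (m m' : Γ(GrTilde.tilde 𝒜 ℳ p, W)) (s : Γ(GrTilde.tilde 𝒜 𝒜 k, W)) :
    mulSec 𝒜 ℳ h W (m + m') s = mulSec 𝒜 ℳ h W m s + mulSec 𝒜 ℳ h W m' s := by
  apply sec_ext
  intro y hy
  rw [secVal_add, secVal_mulSec, secVal_mulSec, secVal_mulSec, secVal_add, smul_add]

theorem mulSec_add_right {p k q : ℤ} (h : p + k = q) (W : (Proj 𝒜).Opens)
    (m : Γ(GrTilde.tilde 𝒜 ℳ p, W)) (s s' : Γ(GrTilde.tilde 𝒜 𝒜 k, W)) :
    mulSec 𝒜 ℳ h W m (s + s') = mulSec 𝒜 ℳ h W m s + mulSec 𝒜 ℳ h W m s' := by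
  apply sec_ext
  intro y hy
  rw [secVal_add, secVal_mulSec, secVal_mulSec, secVal_mulSec, secVal_add]
  exact add_smul _ _ _

theorem mulSec_smul_left {p k q : ℤ} (h : p + k = q) (W : (Proj 𝒜).Opens) (r : Γ(Proj 𝒜, W))
    (m : Γ(GrTilde.tilde 𝒜 ℳ p, W)) (s : Γ(GrTilde.tilde 𝒜 𝒜 k, W)) :
    mulSec 𝒜 ℳ h W (r • m) s = r • mulSec 𝒜 ℳ h W m s := by
  apply sec_ext
  intro y hy
  rw [secVal_smul, secVal_mulSec, secVal_mulSec, secVal_smul]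
  exact smul_comm _ _ _

theorem mulSec_smul_right {p k q : ℤ} (h : p + k = q) (W : (Proj 𝒜).Opens) (r : Γ(Proj 𝒜, W))
    (m : Γ(GrTilde.tilde 𝒜 ℳ p, W)) (s : Γ(GrTilde.tilde 𝒜 𝒜 k, W)) :
    mulSec 𝒜 ℳ h W m (r • s) = r • mulSec 𝒜 ℳ h W m s := by
  apply sec_ext
  intro y hy
  rw [secVal_smul, secVal_mulSec, secVal_mulSec, secVal_smul']
  exact mul_smul _ _ _

theorem mulSec_map {p k q : ℤ} (h : p + k = q) {V W : (Proj 𝒜).Opens} (hle : V ≤ W)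
    (m : Γ(GrTilde.tilde 𝒜 ℳ p, W)) (s : Γ(GrTilde.tilde 𝒜 𝒜 k, W)) :
    (GrTilde.tilde 𝒜 ℳ q).presheaf.map (homOfLE hle).op (mulSec 𝒜 ℳ h W m s) =
      mulSec 𝒜 ℳ h V ((GrTilde.tilde 𝒜 ℳ p).presheaf.map (homOfLE hle).op m)
        ((GrTilde.tilde 𝒜 𝒜 k).presheaf.map (homOfLE hle).op s) := rfl


open Groth.Agent.Helper18Tens Groth.Agent.Lib.Helper23.SecTw Groth.Agent.Lib.Helper6

/-- the multiplication map `M(p)~ ⊗ O(k) ⟶ M(p+k)~`. -/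
noncomputable def mulHom {p k q : ℤ} (h : p + k = q) :
    CohB1.tensorMod (GrTilde.tilde 𝒜 ℳ p) (GrTilde.tilde 𝒜 𝒜 k) ⟶ GrTilde.tilde 𝒜 ℳ q :=
  ofBilinSch (GrTilde.tilde 𝒜 ℳ p) (GrTilde.tilde 𝒜 𝒜 k) (GrTilde.tilde 𝒜 ℳ q)
    (fun Z m s => mulSec 𝒜 ℳ h Z.unop m s)
    (fun Z m m' s => mulSec_add_left 𝒜 ℳ h Z.unop m m' s)
    (fun Z r m s => mulSec_smul_left 𝒜 ℳ h Z.unop r m s)
    (fun Z m s s' => mulSec_add_right 𝒜 ℳ h Z.unop m s s')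
    (fun Z r m s => mulSec_smul_right 𝒜 ℳ h Z.unop r m s)
    (fun _ _ _ => rfl)

theorem mulHom_tm {p k q : ℤ} (h : p + k = q) (W : (Proj 𝒜).Opens)
    (m : Γ(GrTilde.tilde 𝒜 ℳ p, W)) (s : Γ(GrTilde.tilde 𝒜 𝒜 k, W)) :
    (mulHom 𝒜 ℳ h).app W (tm _ _ W m s) = mulSec 𝒜 ℳ h W m s := by
  exact ofBilinSch_tmul (GrTilde.tilde 𝒜 ℳ p) (GrTilde.tilde 𝒜 𝒜 k) (GrTilde.tilde 𝒜 ℳ q)
    (fun Z m s => mulSec 𝒜 ℳ h Z.unop m s)
    (fun Z m m' s => mulSec_add_left 𝒜 ℳ h Z.unop m m' s)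
    (fun Z r m s => mulSec_smul_left 𝒜 ℳ h Z.unop r m s)
    (fun Z m s s' => mulSec_add_right 𝒜 ℳ h Z.unop m s s')
    (fun Z r m s => mulSec_smul_right 𝒜 ℳ h Z.unop r m s)
    (fun _ _ _ => rfl) W m s


theorem mk_mul_mk_swap {y : ProjectiveSpectrum 𝒜} {a b : A} (hay : a ∉ y.asHomogeneousIdeal)
    (hby : b ∉ y.asHomogeneousIdeal) :
    (Localization.mk b (⟨a, hay⟩ : y.asHomogeneousIdeal.toIdeal.primeCompl) : Twist.Loc 𝒜 y) *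
      Localization.mk a (⟨b, hby⟩ : y.asHomogeneousIdeal.toIdeal.primeCompl) = 1 := by
  rw [Localization.mk_mul, mul_comm b a]
  exact Localization.mk_self ((⟨a, hay⟩ : y.asHomogeneousIdeal.toIdeal.primeCompl) * ⟨b, hby⟩)

/-- multiplication by a nowhere vanishing fraction is bijective on sections. -/
theorem bijective_mulSec_fracSec {p k q : ℤ} (h : p + k = q) (W : (Proj 𝒜).Opens) {i j : ℕ}
    {a b : A} (ha : a ∈ 𝒜 i) (hb : b ∈ 𝒜 j) (hij : (i : ℤ) = j + k)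
    (hWb : ∀ y : W, b ∉ y.1.asHomogeneousIdeal) (hWa : ∀ y : W, a ∉ y.1.asHomogeneousIdeal) :
    Function.Bijective (fun m : Γ(GrTilde.tilde 𝒜 ℳ p, W) =>
      mulSec 𝒜 ℳ h W m (fracSec 𝒜 k W ha hb hij hWb)) := by
  have h' : q + (-k) = p := by omega
  have hji : (j : ℤ) = i + (-k) := by omega
  rw [Function.bijective_iff_has_inverse]
  refine ⟨fun m' => mulSec 𝒜 ℳ h' W m' (fracSec 𝒜 (-k) W hb ha hji hWa), ?_, ?_⟩
  · intro m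
    apply sec_ext
    intro y hy
    rw [secVal_mulSec, secVal_mulSec, secVal_fracSec, secVal_fracSec]
    change (Localization.mk b (⟨a, hWa ⟨y, hy⟩⟩ : y.asHomogeneousIdeal.toIdeal.primeCompl) :
      Twist.Loc 𝒜 y) • ((Localization.mk a (⟨b, hWb ⟨y, hy⟩⟩ :
        y.asHomogeneousIdeal.toIdeal.primeCompl) : Twist.Loc 𝒜 y) • secVal 𝒜 ℳ p W m y hy) = _
    rw [← mul_smul, mk_mul_mk_swap 𝒜 (hWa ⟨y, hy⟩) (hWb ⟨y, hy⟩), one_smul]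
  · intro m
    apply sec_ext
    intro y hy
    rw [secVal_mulSec, secVal_mulSec, secVal_fracSec, secVal_fracSec]
    change (Localization.mk a (⟨b, hWb ⟨y, hy⟩⟩ : y.asHomogeneousIdeal.toIdeal.primeCompl) :
      Twist.Loc 𝒜 y) • ((Localization.mk b (⟨a, hWa ⟨y, hy⟩⟩ :
        y.asHomogeneousIdeal.toIdeal.primeCompl) : Twist.Loc 𝒜 y) • secVal 𝒜 ℳ q W m y hy) = _
    rw [← mul_smul, mk_mul_mk_swap 𝒜 (hWb ⟨y, hy⟩) (hWa ⟨y, hy⟩), one_smul]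

open Groth.Agent.Lib.Helper23.Extend in
/-- the multiplication map is an isomorphism over an open on which `O(k)` is generated by a
nowhere vanishing fraction. -/
theorem isoOn_mulHom {p k q : ℤ} (h : p + k = q) (W : (Proj 𝒜).Opens) {i j : ℕ}
    {a b : A} (ha : a ∈ 𝒜 i) (hb : b ∈ 𝒜 j) (hij : (i : ℤ) = j + k)
    (hWb : ∀ y : W, b ∉ y.1.asHomogeneousIdeal) (hWa : ∀ y : W, a ∉ y.1.asHomogeneousIdeal) :
    IsoOn (mulHom 𝒜 ℳ h) W := by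
  intro W' hle
  rw [ConcreteCategory.isIso_iff_bijective]
  have hT := bijective_tm_of_isGen (GrTilde.tilde 𝒜 ℳ p) (GrTilde.tilde 𝒜 𝒜 k) W
    (fracSec 𝒜 k W ha hb hij hWb) (isGen_fracSec 𝒜 k W ha hb hij hWb hWa) W' hle
  have hcomp : Function.Bijective (⇑((mulHom 𝒜 ℳ h).app W') ∘
      (fun t : Γ(GrTilde.tilde 𝒜 ℳ p, W') => tm (GrTilde.tilde 𝒜 ℳ p) (GrTilde.tilde 𝒜 𝒜 k) W' t
        (res (GrTilde.tilde 𝒜 𝒜 k) hle (fracSec 𝒜 k W ha hb hij hWb)))) := by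
    have hfun : (⇑((mulHom 𝒜 ℳ h).app W') ∘
      (fun t : Γ(GrTilde.tilde 𝒜 ℳ p, W') => tm (GrTilde.tilde 𝒜 ℳ p) (GrTilde.tilde 𝒜 𝒜 k) W' t
        (res (GrTilde.tilde 𝒜 𝒜 k) hle (fracSec 𝒜 k W ha hb hij hWb)))) =
      fun m : Γ(GrTilde.tilde 𝒜 ℳ p, W') => mulSec 𝒜 ℳ h W' m
        (fracSec 𝒜 k W' ha hb hij (fun y => hWb ⟨y.1, hle y.2⟩)) := by
      funext t
      exact mulHom_tm 𝒜 ℳ h W' t _
    rw [hfun]
    exact bijective_mulSec_fracSec 𝒜 ℳ h W' ha hb hij _ (fun y => hWa ⟨y.1, hle y.2⟩)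
  exact (Function.Bijective.of_comp_iff _ hT).mp hcomp

end Groth.Agent.Lib.Helper27GrTildeSect
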