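import Mathlib

/-!
# Factoring monomials in generators of degrees `d_i`: a degree-`n` factor for `n ≥ (s-1)(l-1)`
(helper27)
-/

set_option autoImplicit false
universe u

namespace Groth.Agent.Lib.Helper27MonoFactor

variable {R A : Type u} [CommRing R] [CommRing A] [Algebra R A] (𝒜 : ℕ → Submodule R A)
  [GradedAlgebra 𝒜]

variable {s : ℕ} (f : Fin s → A) (deg : Fin s → ℕ)

include 𝒜 in
theorem exists_factor (hdeg : ∀ i, 0 < deg i) (hf : ∀ i, f i ∈ 𝒜 (deg i))
    (n : ℕ) (hn : (s - 1) * (Finset.univ.lcm deg - 1) ≤ n) (i0 : Fin s) (k : ℕ) (e : Fin s → ℕ)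
    (he : ∑ i, e i * deg i = k * deg i0 + n) :
    ∃ (N : ℕ) (b c : A), b ∈ 𝒜 n ∧ c ∈ 𝒜 ((k + N) * deg i0) ∧
      (∏ i, f i ^ e i) * f i0 ^ N = b * c := by
  classical
  set l := Finset.univ.lcm deg with hl
  have hdvd : ∀ i, deg i ∣ l := fun i => Finset.dvd_lcm (Finset.mem_univ i)
  have hl0 : l ≠ 0 := by
    rw [hl, Ne, Finset.lcm_eq_zero_iff]
    rintro ⟨i, -, hi⟩
    exact (hdeg i).ne' hi
  have hlpos : 0 < l := Nat.pos_of_ne_zero hl0
  let L : Fin s → ℕ := fun i => l / deg i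
  have hL : ∀ i, L i * deg i = l := fun i => Nat.div_mul_cancel (hdvd i)
  have hLpos : ∀ i, 0 < L i := fun i => Nat.div_pos (Nat.le_of_dvd hlpos (hdvd i)) (hdeg i)
  let β : Fin s → ℕ := fun i => if i = i0 then 0 else e i % L i
  have hβle : ∀ i, β i ≤ e i := by
    intro i
    simp only [β]
    split_ifs
    · exact Nat.zero_le _
    · exact Nat.mod_le _ _
  have hβi0 : β i0 = 0 := by simp [β]
  set ρ := ∑ i, β i * deg i with hρ
  -- bound
  have hterm : ∀ i, β i * deg i ≤ if i = i0 then 0 else l - 1 := by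
    intro i
    simp only [β]
    split_ifs with h
    · simp
    · have h1 : e i % L i ≤ L i - 1 := Nat.le_sub_one_of_lt (Nat.mod_lt _ (hLpos i))
      calc e i % L i * deg i ≤ (L i - 1) * deg i := Nat.mul_le_mul_right _ h1
        _ = l - deg i := by rw [Nat.sub_mul, hL i, one_mul]
        _ ≤ l - 1 := Nat.sub_le_sub_left (hdeg i) l
  have hρle : ρ ≤ n := by
    refine le_trans ?_ hn
    calc ρ ≤ ∑ i : Fin s, (if i = i0 then 0 else l - 1) := Finset.sum_le_sum fun i _ => hterm i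
      _ = (s - 1) * (l - 1) := by
        rw [Finset.sum_ite, Finset.sum_const_zero, zero_add, Finset.sum_const, smul_eq_mul]
        congr 1
        rw [Finset.filter_ne' Finset.univ i0, Finset.card_erase_of_mem (Finset.mem_univ i0),
          Finset.card_univ, Fintype.card_fin]
  -- congruence
  obtain ⟨lam0, hlam0⟩ := hdvd i0
  let z : Fin s → ℕ := fun i => if i = i0 then e i0 else (e i / L i) * lam0
  have hz : ∀ i, e i * deg i = β i * deg i + z i * deg i0 := by
    intro i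
    simp only [β, z]
    split_ifs with h
    · subst h; simp
    · have h1 := Nat.div_add_mod (e i) (L i)
      calc e i * deg i = (L i * (e i / L i) + e i % L i) * deg i := by rw [h1]
        _ = e i % L i * deg i + (e i / L i) * (L i * deg i) := by ring
        _ = e i % L i * deg i + (e i / L i) * lam0 * deg i0 := by rw [hL i, hlam0]; ring
  have hsum : ∑ i, e i * deg i = ρ + (∑ i, z i) * deg i0 := by
    rw [Finset.sum_mul, hρ, ← Finset.sum_add_distrib]
    exact Finset.sum_congr rfl fun i _ => hz i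
  set Z := ∑ i, z i with hZ
  have hkZ : k ≤ Z := by
    by_contra hcon
    push Not at hcon
    have h1 : Z * deg i0 + deg i0 ≤ k * deg i0 := by
      have : (Z + 1) * deg i0 ≤ k * deg i0 := Nat.mul_le_mul_right _ hcon
      linarith [this]
    have h2 := hdeg i0
    omega
  obtain ⟨t, ht⟩ := Nat.exists_eq_add_of_le hkZ
  have hn' : n = ρ + t * deg i0 := by
    have h1 : k * deg i0 + n = ρ + (k + t) * deg i0 := by rw [← he, hsum, ht]
    have h2 : (k + t) * deg i0 = k * deg i0 + t * deg i0 := by ring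
    omega
  let γ : Fin s → ℕ := fun i => e i - β i
  have hγ : ∀ i, e i = β i + γ i := fun i => (Nat.add_sub_cancel' (hβle i)).symm
  refine ⟨t, (∏ i, f i ^ β i) * f i0 ^ t, ∏ i, f i ^ γ i, ?_, ?_, ?_⟩
  · have h1 : (∏ i, f i ^ β i) ∈ 𝒜 (∑ i, β i • deg i) :=
      SetLike.prod_pow_mem_graded 𝒜 deg f β (fun i _ => hf i)
    have h2 : f i0 ^ t ∈ 𝒜 (t • deg i0) := SetLike.pow_mem_graded t (hf i0)
    have h3 := SetLike.mul_mem_graded h1 h2
    have e1 : (∑ i, β i • deg i) + t • deg i0 = n := by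
      simp only [smul_eq_mul]
      rw [hn']
    rw [e1] at h3
    exact h3
  · have h1 : (∏ i, f i ^ γ i) ∈ 𝒜 (∑ i, γ i • deg i) :=
      SetLike.prod_pow_mem_graded 𝒜 deg f γ (fun i _ => hf i)
    have e1 : (∑ i, γ i • deg i) = (k + t) * deg i0 := by
      simp only [smul_eq_mul]
      have h2 : ∑ i, e i * deg i = ρ + ∑ i, γ i * deg i := by
        rw [hρ, ← Finset.sum_add_distrib]
        refine Finset.sum_congr rfl fun i _ => ?_
        rw [← add_mul, ← hγ i]
      have h3 : (k + t) * deg i0 = k * deg i0 + t * deg i0 := by ring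
      omega
    rw [e1] at h1
    exact h1
  · have h1 : (∏ i, f i ^ e i) = (∏ i, f i ^ β i) * ∏ i, f i ^ γ i := by
      rw [← Finset.prod_mul_distrib]
      refine Finset.prod_congr rfl fun i _ => ?_
      rw [← pow_add, ← hγ i]
    rw [h1]
    ring

/-- sums of products `b * c`, `b` of degree `n`, `c` of degree `(k + N) * d`. -/
def Cl (n k d N : ℕ) : AddSubmonoid A :=
  AddSubmonoid.closure {x | ∃ b c, b ∈ 𝒜 n ∧ c ∈ 𝒜 ((k + N) * d) ∧ x = b * c}

theorem Cl_mul_pow {n k d N : ℕ} {F : A} (hF : F ∈ 𝒜 d) (M : ℕ) {x : A} (hx : x ∈ Cl 𝒜 n k d N) :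
    x * F ^ M ∈ Cl 𝒜 n k d (N + M) := by
  unfold Cl at hx ⊢
  induction hx using AddSubmonoid.closure_induction with
  | mem x hx =>
    obtain ⟨b, c, hb, hc, rfl⟩ := hx
    refine AddSubmonoid.subset_closure ⟨b, c * F ^ M, hb, ?_, by ring⟩
    have h1 : F ^ M ∈ 𝒜 (M • d) := SetLike.pow_mem_graded M hF
    have h2 := SetLike.mul_mem_graded hc h1
    have e : (k + N) * d + M • d = (k + (N + M)) * d := by simp only [smul_eq_mul]; ring
    rw [e] at h2
    exact h2
  | zero => rw [zero_mul]; exact zero_mem _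
  | add x y _ _ hx hy =>
    have e : (x + y) * F ^ M = x * F ^ M + y * F ^ M := add_mul _ _ _
    rw [e]; exact add_mem hx hy

omit [GradedAlgebra 𝒜] in
theorem Cl_smul {n k d N : ℕ} (r : R) {x : A} (hx : x ∈ Cl 𝒜 n k d N) :
    r • x ∈ Cl 𝒜 n k d N := by
  unfold Cl at hx ⊢
  induction hx using AddSubmonoid.closure_induction with
  | mem x hx =>
    obtain ⟨b, c, hb, hc, rfl⟩ := hx
    exact AddSubmonoid.subset_closure ⟨r • b, c, Submodule.smul_mem _ _ hb, hc, by
      rw [smul_mul_assoc]⟩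
  | zero => rw [smul_zero]; exact zero_mem _
  | add x y _ _ hx hy => rw [smul_add]; exact add_mem hx hy

theorem exists_mul_pow_mem (hgen : Algebra.adjoin R (Set.range f) = ⊤)
    (hdeg : ∀ i, 0 < deg i) (hf : ∀ i, f i ∈ 𝒜 (deg i))
    (n : ℕ) (hn : (s - 1) * (Finset.univ.lcm deg - 1) ≤ n) (i0 : Fin s) (k : ℕ) (a : A)
    (ha : a ∈ 𝒜 (k * deg i0 + n)) :
    ∃ N, a * f i0 ^ N ∈ Cl 𝒜 n k (deg i0) N := by
  classical
  -- the predicate
  have hzero : ∃ N, (0 : A) * f i0 ^ N ∈ Cl 𝒜 n k (deg i0) N :=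
    ⟨0, by rw [zero_mul]; exact zero_mem _⟩
  have hadd : ∀ x y : A, (∃ N, x * f i0 ^ N ∈ Cl 𝒜 n k (deg i0) N) →
      (∃ N, y * f i0 ^ N ∈ Cl 𝒜 n k (deg i0) N) →
      ∃ N, (x + y) * f i0 ^ N ∈ Cl 𝒜 n k (deg i0) N := by
    rintro x y ⟨N1, h1⟩ ⟨N2, h2⟩
    refine ⟨N1 + N2, ?_⟩
    have e1 : x * f i0 ^ (N1 + N2) = x * f i0 ^ N1 * f i0 ^ N2 := by rw [pow_add]; ring
    have e2 : y * f i0 ^ (N1 + N2) = y * f i0 ^ N2 * f i0 ^ N1 := by rw [pow_add]; ring
    rw [add_mul, e1, e2]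
    refine add_mem (Cl_mul_pow 𝒜 (hf i0) N2 h1) ?_
    have := Cl_mul_pow 𝒜 (hf i0) N1 h2
    rwa [add_comm N2 N1] at this
  have hmono : ∀ m ∈ Submonoid.closure (Set.range f), ∀ kk : ℕ,
      ∃ N, (DirectSum.decompose 𝒜 m kk : A) * f i0 ^ N ∈ Cl 𝒜 n k (deg i0) N ∨ kk ≠ k * deg i0 + n := by
    intro m hm kk
    by_cases hkk : kk = k * deg i0 + n
    swap
    · exact ⟨0, Or.inr hkk⟩
    obtain ⟨e, rfl⟩ := Submonoid.exists_of_mem_closure_range f m hm
    have hmem : (∏ i, f i ^ e i) ∈ 𝒜 (∑ i, e i • deg i) :=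
      SetLike.prod_pow_mem_graded 𝒜 deg f e (fun i _ => hf i)
    by_cases hd : (∑ i, e i • deg i) = kk
    · have e1 : (DirectSum.decompose 𝒜 (∏ i, f i ^ e i) kk : A) = ∏ i, f i ^ e i :=
        DirectSum.decompose_of_mem_same 𝒜 (hd ▸ hmem)
      rw [e1]
      have he : ∑ i, e i * deg i = k * deg i0 + n := by
        rw [← hkk, ← hd]; simp only [smul_eq_mul]
      obtain ⟨N, b, c, hb, hc, hbc⟩ := exists_factor 𝒜 f deg hdeg hf n hn i0 k e he
      exact ⟨N, Or.inl (by rw [hbc]; exact AddSubmonoid.subset_closure ⟨b, c, hb, hc, rfl⟩)⟩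
    · have e1 : (DirectSum.decompose 𝒜 (∏ i, f i ^ e i) kk : A) = 0 :=
        DirectSum.decompose_of_mem_ne 𝒜 hmem hd
      rw [e1]
      exact ⟨0, Or.inl (by rw [zero_mul]; exact zero_mem _)⟩
  have hspan : ∀ x ∈ Submodule.span R (Submonoid.closure (Set.range f) : Set A),
      ∃ N, (DirectSum.decompose 𝒜 x (k * deg i0 + n) : A) * f i0 ^ N ∈ Cl 𝒜 n k (deg i0) N := by
    intro x hx
    induction hx using Submodule.span_induction with
    | mem m hm =>
      obtain ⟨N, hN⟩ := hmono m hm (k * deg i0 + n)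
      rcases hN with hN | hN
      · exact ⟨N, hN⟩
      · exact absurd rfl hN
    | zero =>
      have e : (DirectSum.decompose 𝒜 (0 : A) (k * deg i0 + n) : A) = 0 := by simp
      rw [e]; exact hzero
    | add x y _ _ hx hy =>
      have e : (DirectSum.decompose 𝒜 (x + y) (k * deg i0 + n) : A) =
          (DirectSum.decompose 𝒜 x (k * deg i0 + n) : A) +
            (DirectSum.decompose 𝒜 y (k * deg i0 + n) : A) := by simp
      rw [e]; exact hadd _ _ hx hy
    | smul r x _ hx =>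
      obtain ⟨N, hN⟩ := hx
      refine ⟨N, ?_⟩
      have e : (DirectSum.decompose 𝒜 (r • x) (k * deg i0 + n) : A) =
          r • (DirectSum.decompose 𝒜 x (k * deg i0 + n) : A) := by
        rw [DirectSum.decompose_smul]; rfl
      rw [e, smul_mul_assoc]
      exact Cl_smul 𝒜 r hN
  have hamem : a ∈ Submodule.span R (Submonoid.closure (Set.range f) : Set A) := by
    have : a ∈ Algebra.adjoin R (Set.range f) := by rw [hgen]; trivial
    rw [← Subalgebra.mem_toSubmodule, Algebra.adjoin_eq_span] at this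
    exact this
  obtain ⟨N, hN⟩ := hspan a hamem
  have e : (DirectSum.decompose 𝒜 a (k * deg i0 + n) : A) = a :=
    DirectSum.decompose_of_mem_same 𝒜 ha
  rw [e] at hN
  exact ⟨N, hN⟩

end Groth.Agent.Lib.Helper27MonoFactor
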