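import Groth.Agent.Lib.Helper27TwistAmple2
import Groth.Agent.Lib.Helper23SecTw5

/-!
# Serre's global generation on `Proj`, part 1: transition functions and cocycles (helper27)

`Proj 𝒜` covered by `W i = D₊(G i)`, `G i ∈ 𝒜 d`.
* `fracFun` : the function `a / b` (same degrees) on an open where `b` vanishes nowhere
* `hfun i j = G j / G i` on `W i ⊓ W j`, `cfun l i = G l / G i` on `W i`
* `Coc F n b` : the family `b i ∈ Γ(F, W i)` satisfies `b i = (G j / G i)^n b j` ("a section of `F(n)`")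
* `Coc.shift` : from exponent `n` to `n + k`.
-/

set_option autoImplicit false
universe u

open CategoryTheory CategoryTheory.Limits AlgebraicGeometry TopologicalSpace Opposite
  HomogeneousLocalization
open Groth.Agent.Lib.Helper23.SecTw Groth.Agent.Lib.Helper6

namespace Groth.Agent.Lib.Helper27GrTildeSect

variable {R A : Type u} [CommRing R] [CommRing A] [Algebra R A] (𝒜 : ℕ → Submodule R A)
  [GradedAlgebra 𝒜]

/-- the function `a / b` on an open where `b` vanishes nowhere. -/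
def fracFun (W : (Proj 𝒜).Opens) {i : ℕ} {a b : A} (ha : a ∈ 𝒜 i) (hb : b ∈ 𝒜 i)
    (hW : ∀ y : W, b ∉ y.1.asHomogeneousIdeal) : Γ(Proj 𝒜, W) :=
  ofFun 𝒜 W ⟨fun y => HomogeneousLocalization.mk ⟨i, ⟨a, ha⟩, ⟨b, hb⟩, hW y⟩,
    fun y => ⟨W, y.2, 𝟙 _, i, ⟨a, ha⟩, ⟨b, hb⟩, hW, fun _ => rfl⟩⟩

theorem funVal_fracFun (W : (Proj 𝒜).Opens) {i : ℕ} {a b : A} (ha : a ∈ 𝒜 i) (hb : b ∈ 𝒜 i)
    (hW : ∀ y : W, b ∉ y.1.asHomogeneousIdeal) (y : ProjectiveSpectrum 𝒜) (hy : y ∈ W) :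
    (funVal 𝒜 W (fracFun 𝒜 W ha hb hW) y hy).val =
      (Localization.mk a (⟨b, hW ⟨y, hy⟩⟩ : y.asHomogeneousIdeal.toIdeal.primeCompl) :
        Twist.Loc 𝒜 y) := rfl

/-- extensionality for functions through their values in the big local ring. -/
theorem fun_ext_val (W : (Proj 𝒜).Opens) (c c' : Γ(Proj 𝒜, W))
    (h : ∀ (y : ProjectiveSpectrum 𝒜) (hy : y ∈ W),
      (funVal 𝒜 W c y hy).val = (funVal 𝒜 W c' y hy).val) : c = c' :=
  fun_ext 𝒜 W c c' (fun y hy => HomogeneousLocalization.val_injective _ (h y hy))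

section Cover

variable (d : ℕ) {ι : Type*} (G : ι → A) (hG : ∀ i, G i ∈ 𝒜 d)

theorem not_mem_of_mem_basicOpen {g : A} (y : ProjectiveSpectrum 𝒜)
    (hy : y ∈ Proj.basicOpen 𝒜 g) : g ∉ y.asHomogeneousIdeal :=
  (ProjectiveSpectrum.mem_basicOpen 𝒜 g y).mp hy

/-- the transition function `G j / G i` on `D₊(G i) ⊓ D₊(G j)`. -/
noncomputable def hfun (i j : ι) :
    Γ(Proj 𝒜, Proj.basicOpen 𝒜 (G i) ⊓ Proj.basicOpen 𝒜 (G j)) :=
  fracFun 𝒜 _ (hG j) (hG i) (fun y => not_mem_of_mem_basicOpen 𝒜 y.1 y.2.1)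

/-- the function `G l / G i` on `D₊(G i)`. -/
noncomputable def cfun (l i : ι) : Γ(Proj 𝒜, Proj.basicOpen 𝒜 (G i)) :=
  fracFun 𝒜 _ (hG l) (hG i) (fun y => not_mem_of_mem_basicOpen 𝒜 y.1 y.2)

theorem cfun_self (l : ι) : cfun 𝒜 d G hG l l = 1 := by
  apply fun_ext_val
  intro y hy
  rw [cfun, funVal_fracFun]
  have h1 : (funVal 𝒜 (Proj.basicOpen 𝒜 (G l)) 1 y hy).val = 1 := HomogeneousLocalization.val_one
  rw [h1]
  exact Localization.mk_self (⟨G l, not_mem_of_mem_basicOpen 𝒜 y hy⟩ :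
    y.asHomogeneousIdeal.toIdeal.primeCompl)

theorem resf_cfun (l i j : ι) :
    resf (inf_le_left : Proj.basicOpen 𝒜 (G i) ⊓ Proj.basicOpen 𝒜 (G j) ≤ _) (cfun 𝒜 d G hG l i) =
      hfun 𝒜 d G hG i j * resf inf_le_right (cfun 𝒜 d G hG l j) := by
  apply fun_ext_val
  intro y hy
  rw [funVal_mul, HomogeneousLocalization.val_mul]
  change (funVal 𝒜 _ (cfun 𝒜 d G hG l i) y hy.1).val =
    (funVal 𝒜 _ (hfun 𝒜 d G hG i j) y hy).val * (funVal 𝒜 _ (cfun 𝒜 d G hG l j) y hy.2).val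
  rw [cfun, cfun, hfun, funVal_fracFun, funVal_fracFun, funVal_fracFun, Localization.mk_mul,
    Localization.mk_eq_mk_iff, Localization.r_iff_exists]
  refine ⟨1, ?_⟩
  simp only [OneMemClass.coe_one, one_mul, Submonoid.coe_mul]
  ring

variable (F : (Proj 𝒜).Modules)

/-- the family `b` is a "section of `F(n)`": `b i = (G j / G i)^n b j` on overlaps. -/
def Coc (n : ℕ) (b : ∀ i, Γ(F, Proj.basicOpen 𝒜 (G i))) : Prop :=
  ∀ i j, res F (inf_le_left : Proj.basicOpen 𝒜 (G i) ⊓ Proj.basicOpen 𝒜 (G j) ≤ _) (b i) =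
    hfun 𝒜 d G hG i j ^ n • res F inf_le_right (b j)

variable {F} in
theorem Coc.shift {n : ℕ} {b : ∀ i, Γ(F, Proj.basicOpen 𝒜 (G i))} (hb : Coc 𝒜 d G hG F n b)
    (l : ι) (k : ℕ) : Coc 𝒜 d G hG F (n + k) (fun i => cfun 𝒜 d G hG l i ^ k • b i) := by
  intro i j
  change res F _ (cfun 𝒜 d G hG l i ^ k • b i) =
    hfun 𝒜 d G hG i j ^ (n + k) • res F _ (cfun 𝒜 d G hG l j ^ k • b j)
  rw [res_smul, res_smul, hb i j, resf_pow, resf_pow, resf_cfun, smul_smul, smul_smul]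
  congr 1
  rw [mul_pow, pow_add]
  ring

end Cover

end Groth.Agent.Lib.Helper27GrTildeSect
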