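import Groth.Agent.Lib.Helper27TwistAmple
import Groth.Agent.Lib.Helper27SerreGen
import Groth.Agent.Lib.Helper27MonoFactor
import Groth.Agent.Lib.Helper27ProjCover
import Groth.Agent.Lib.Helper27GrTildeMul

/-!
# `O(n)` is generated by `B_n` for `n ≥ (s-1)(l-1)` (helper27)
-/

set_option autoImplicit false
universe u

open CategoryTheory CategoryTheory.Limits AlgebraicGeometry TopologicalSpace Opposite
  HomogeneousLocalization
open Groth.Agent.Lib.Helper23.SecTw Groth.Agent.Lib.Helper6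
open Groth.Agent.Lib.Helper27MonoFactor

namespace Groth.Agent.Lib.Helper27GrTildeSect

variable {R A : Type u} [CommRing R] [CommRing A] [Algebra R A] (𝒜 : ℕ → Submodule R A)
  [GradedAlgebra 𝒜]

theorem fracSec_add (n : ℤ) (W : (Proj 𝒜).Opens) {i j : ℕ} {a a' b : A} (ha : a ∈ 𝒜 i)
    (ha' : a' ∈ 𝒜 i) (hb : b ∈ 𝒜 j)
    (hij : (i : ℤ) = j + n) (hW : ∀ y : W, b ∉ y.1.asHomogeneousIdeal) :
    fracSec 𝒜 n W (add_mem ha ha') hb hij hW =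
      fracSec 𝒜 n W ha hb hij hW + fracSec 𝒜 n W ha' hb hij hW := by
  apply sec_ext
  intro y hy
  rw [secVal_add]
  change (secVal 𝒜 𝒜 n W (fracSec 𝒜 n W (add_mem ha ha') hb hij hW) y hy : Twist.Loc 𝒜 y) =
    (secVal 𝒜 𝒜 n W (fracSec 𝒜 n W ha hb hij hW) y hy : Twist.Loc 𝒜 y) +
      (secVal 𝒜 𝒜 n W (fracSec 𝒜 n W ha' hb hij hW) y hy : Twist.Loc 𝒜 y)
  rw [secVal_fracSec, secVal_fracSec, secVal_fracSec, Localization.add_mk_self]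

theorem fracSec_zero (n : ℤ) (W : (Proj 𝒜).Opens) {i j : ℕ} {b : A}
    (hb : b ∈ 𝒜 j) (hij : (i : ℤ) = j + n) (hW : ∀ y : W, b ∉ y.1.asHomogeneousIdeal) :
    fracSec 𝒜 n W (zero_mem (𝒜 i)) hb hij hW = 0 := by
  apply sec_ext
  intro y hy
  rw [secVal_zero]
  change (secVal 𝒜 𝒜 n W (fracSec 𝒜 n W (zero_mem (𝒜 i)) hb hij hW) y hy : Twist.Loc 𝒜 y) = 0
  rw [secVal_fracSec, Localization.mk_zero]

theorem fracSec_congr (n : ℤ) (W : (Proj 𝒜).Opens) {i i' j : ℕ} {a a' b : A} (ha : a ∈ 𝒜 i)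
    (ha' : a' ∈ 𝒜 i') (hb : b ∈ 𝒜 j)
    (hij : (i : ℤ) = j + n) (hij' : (i' : ℤ) = j + n) (hW : ∀ y : W, b ∉ y.1.asHomogeneousIdeal)
    (h : a = a') :
    fracSec 𝒜 n W ha hb hij hW = fracSec 𝒜 n W ha' hb hij' hW := by
  subst h
  have : i = i' := by omega
  subst this
  rfl

section Gen

variable {s : ℕ} (f : Fin s → A) (deg : Fin s → ℕ)

/-- germ of `c • (b/1)` lies in the span of the germs of the `b/1`. -/
theorem germ_smul_gsec_mem (n : ℕ) (x : Proj 𝒜) (W : (Proj 𝒜).Opens) (hxW : x ∈ W)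
    (r : Γ(Proj 𝒜, W)) {b : A} (hb : b ∈ 𝒜 n) :
    (GrTilde.tilde 𝒜 𝒜 (n : ℤ)).presheaf.germ W x hxW (r • gsec 𝒜 n W hb) ∈
      Submodule.span ((Proj 𝒜).presheaf.stalk x)
        (Set.range fun b : 𝒜 n =>
          ((GrTilde.tilde 𝒜 𝒜 (n : ℤ)).presheaf.germ ⊤ x trivial).hom (gsec 𝒜 n ⊤ b.2)) := by
  have h2 : (GrTilde.tilde 𝒜 𝒜 (n : ℤ)).presheaf.germ W x hxW
      (res (GrTilde.tilde 𝒜 𝒜 (n : ℤ)) (le_top : W ≤ ⊤) (gsec 𝒜 n ⊤ hb)) =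
      (GrTilde.tilde 𝒜 𝒜 (n : ℤ)).presheaf.germ ⊤ x trivial (gsec 𝒜 n ⊤ hb) :=
    TopCat.Presheaf.germ_res_apply (GrTilde.tilde 𝒜 𝒜 (n : ℤ)).presheaf
      (homOfLE (le_top : W ≤ ⊤)) x hxW _
  have h3 : gsec 𝒜 n W hb = res (GrTilde.tilde 𝒜 𝒜 (n : ℤ)) (le_top : W ≤ ⊤) (gsec 𝒜 n ⊤ hb) :=
    (res_gsec 𝒜 n le_top hb).symm
  rw [h3, Groth.Agent.Lib.Helper2.QCoh.germ_smul, h2]
  exact Submodule.smul_mem _ _ (Submodule.subset_span ⟨⟨b, hb⟩, rfl⟩)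

theorem generatedBy_of_gen (hdeg : ∀ i, 0 < deg i) (hf : ∀ i, f i ∈ 𝒜 (deg i))
    (hgen : Algebra.adjoin R (Set.range f) = ⊤) (n : ℕ)
    (hn : (s - 1) * (Finset.univ.lcm deg - 1) ≤ n) :
    ProjUP.GeneratedBy (GrTilde.tilde 𝒜 𝒜 (n : ℤ))
      (fun b : 𝒜 n => (gsec 𝒜 n ⊤ b.2 : ProjUP.Γm (GrTilde.tilde 𝒜 𝒜 (n : ℤ)))) := by
  intro x
  rw [eq_top_iff]
  intro z _
  obtain ⟨i0, -, hi0⟩ := Groth.Agent.Lib.Helper27ProjCover.exists_not_mem 𝒜 f deg hf hgen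
    (show ProjectiveSpectrum 𝒜 from x)
  obtain ⟨V, hxV, t, rfl⟩ := (GrTilde.tilde 𝒜 𝒜 (n : ℤ)).presheaf.exists_germ_eq z
  obtain ⟨V', hxV', iV, i', j', m, c, nin, hcond, hval⟩ :=
    (toSect 𝒜 𝒜 (n : ℤ) V t).2 ⟨x, hxV⟩
  let W : (Proj 𝒜).Opens := (show (Proj 𝒜).Opens from V') ⊓ Proj.basicOpen 𝒜 (f i0)
  have hWV' : ∀ w : ProjectiveSpectrum 𝒜, w ∈ W → w ∈ V' := fun w hw => hw.1
  have hWV : W ≤ V := fun w hw => iV.le hw.1
  have hxW : x ∈ W := ⟨hxV', (ProjectiveSpectrum.mem_basicOpen 𝒜 (f i0) x).mpr hi0⟩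
  have hWF : ∀ y : W, f i0 ∉ y.1.asHomogeneousIdeal := fun y =>
    (ProjectiveSpectrum.mem_basicOpen 𝒜 (f i0) y.1).mp y.2.2
  have hWc : ∀ y : W, c.1 ∉ y.1.asHomogeneousIdeal := fun y => nin ⟨y.1, y.2.1⟩
  have hval' : ∀ (w : ProjectiveSpectrum 𝒜) (hw : w ∈ W),
      (secVal 𝒜 𝒜 (n : ℤ) V t w (hWV hw) : Twist.Loc 𝒜 w) =
      (Localization.mk m.1 (⟨c.1, hWc ⟨w, hw⟩⟩ :
        w.asHomogeneousIdeal.toIdeal.primeCompl) : Twist.Loc 𝒜 w) := fun w hw => hval ⟨w, hw.1⟩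
  have h1 : (GrTilde.tilde 𝒜 𝒜 (n : ℤ)).presheaf.germ V x hxV t =
      (GrTilde.tilde 𝒜 𝒜 (n : ℤ)).presheaf.germ W x hxW
        (res (GrTilde.tilde 𝒜 𝒜 (n : ℤ)) hWV t) :=
    (TopCat.Presheaf.germ_res_apply (GrTilde.tilde 𝒜 𝒜 (n : ℤ)).presheaf
      (homOfLE hWV) x hxW t).symm
  rw [h1]
  rcases hcond with hdg | hzero
  swap
  · have e0 : res (GrTilde.tilde 𝒜 𝒜 (n : ℤ)) hWV t = 0 := by
      apply sec_ext
      intro y hy
      rw [secVal_zero]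
      change (secVal 𝒜 𝒜 (n : ℤ) V t y (hWV hy) : Twist.Loc 𝒜 y) = 0
      rw [hval' y hy, hzero, Localization.mk_zero]
    rw [e0, map_zero]
    exact zero_mem _
  -- main case
  have hdg' : i' = j' + n := by exact_mod_cast hdg
  set d0 := deg i0 with hd0
  have hd0pos : 0 < d0 := hdeg i0
  obtain ⟨d1, hd1⟩ : ∃ d1, d0 = d1 + 1 := ⟨d0 - 1, by omega⟩
  have ha : m.1 * c.1 ^ d1 ∈ 𝒜 (j' * d0 + n) := by
    have h2 : c.1 ^ d1 ∈ 𝒜 (d1 • j') := SetLike.pow_mem_graded d1 c.2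
    have h3 := SetLike.mul_mem_graded m.2 h2
    have e : i' + d1 • j' = j' * d0 + n := by
      rw [hdg', hd1, smul_eq_mul]; ring
    rw [e] at h3
    exact h3
  obtain ⟨N, hN⟩ := exists_mul_pow_mem 𝒜 f deg hgen hdeg hf n hn i0 j' _ ha
  have hD : c.1 ^ d0 * f i0 ^ N ∈ 𝒜 ((j' + N) * d0) := by
    have h2 : c.1 ^ d0 ∈ 𝒜 (d0 • j') := SetLike.pow_mem_graded d0 c.2
    have h3 : f i0 ^ N ∈ 𝒜 (N • d0) := SetLike.pow_mem_graded N (hf i0)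
    have h4 := SetLike.mul_mem_graded h2 h3
    have e : d0 • j' + N • d0 = (j' + N) * d0 := by simp only [smul_eq_mul]; ring
    rw [e] at h4
    exact h4
  have hWD : ∀ y : W, c.1 ^ d0 * f i0 ^ N ∉ y.1.asHomogeneousIdeal := fun y h =>
    (y.1.isPrime.mem_or_mem h).elim
      (fun h' => hWc y (y.1.isPrime.mem_of_pow_mem _ h'))
      (fun h' => hWF y (y.1.isPrime.mem_of_pow_mem _ h'))
  have hij : ((((j' + N) * d0 + n : ℕ)) : ℤ) = (((j' + N) * d0 : ℕ) : ℤ) + (n : ℤ) := by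
    push_cast; ring
  -- every element of the closure gives a germ in the span
  have key : ∀ e ∈ Cl 𝒜 n j' d0 N, ∃ he : e ∈ 𝒜 ((j' + N) * d0 + n),
      (GrTilde.tilde 𝒜 𝒜 (n : ℤ)).presheaf.germ W x hxW
        (fracSec 𝒜 (n : ℤ) W he hD hij hWD) ∈
      Submodule.span ((Proj 𝒜).presheaf.stalk x)
        (Set.range fun b : 𝒜 n =>
          ((GrTilde.tilde 𝒜 𝒜 (n : ℤ)).presheaf.germ ⊤ x trivial).hom (gsec 𝒜 n ⊤ b.2)) := by
    intro e he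
    unfold Cl at he
    induction he using AddSubmonoid.closure_induction with
    | mem e he =>
      obtain ⟨b, c', hb, hc', rfl⟩ := he
      have hbc : b * c' ∈ 𝒜 ((j' + N) * d0 + n) := by
        have := SetLike.mul_mem_graded hb hc'
        rwa [add_comm] at this
      refine ⟨hbc, ?_⟩
      have e1 : fracSec 𝒜 (n : ℤ) W hbc hD hij hWD =
          fracFun 𝒜 W hc' hD hWD • gsec 𝒜 n W hb := by
        apply sec_ext
        intro y hy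
        change (secVal 𝒜 𝒜 (n : ℤ) W (fracSec 𝒜 (n : ℤ) W hbc hD hij hWD) y hy : Twist.Loc 𝒜 y) =
          (secVal 𝒜 𝒜 (n : ℤ) W (fracFun 𝒜 W hc' hD hWD • gsec 𝒜 n W hb) y hy : Twist.Loc 𝒜 y)
        rw [secVal_smul', funVal_fracFun, secVal_fracSec]
        unfold gsec
        rw [secVal_fracSec, Localization.mk_mul, Localization.mk_eq_mk_iff,
          Localization.r_iff_exists]
        refine ⟨1, ?_⟩
        simp only [OneMemClass.coe_one, one_mul, Submonoid.coe_mul, mul_one]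
        ring
      rw [e1]
      exact germ_smul_gsec_mem 𝒜 n x W hxW _ hb
    | zero =>
      refine ⟨zero_mem _, ?_⟩
      rw [fracSec_zero, map_zero]
      exact zero_mem _
    | add e e' _ _ he he' =>
      obtain ⟨h1, h2⟩ := he
      obtain ⟨h1', h2'⟩ := he'
      refine ⟨add_mem h1 h1', ?_⟩
      rw [fracSec_add 𝒜 (n : ℤ) W h1 h1' hD hij hWD, map_add]
      exact add_mem h2 h2'
  obtain ⟨he, hmem⟩ := key _ hN
  have e2 : res (GrTilde.tilde 𝒜 𝒜 (n : ℤ)) hWV t = fracSec 𝒜 (n : ℤ) W he hD hij hWD := by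
    apply sec_ext
    intro y hy
    change (secVal 𝒜 𝒜 (n : ℤ) V t y (hWV hy) : Twist.Loc 𝒜 y) =
      (secVal 𝒜 𝒜 (n : ℤ) W (fracSec 𝒜 (n : ℤ) W he hD hij hWD) y hy : Twist.Loc 𝒜 y)
    rw [hval' y hy, secVal_fracSec, Localization.mk_eq_mk_iff, Localization.r_iff_exists]
    refine ⟨1, ?_⟩
    simp only [OneMemClass.coe_one, one_mul]
    rw [hd1]
    ring
  rw [e2]
  exact hmem

end Gen

end Groth.Agent.Lib.Helper27GrTildeSect
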