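import Groth.Agent.Lib.Helper27ProjGamma2
import Groth.Agent.Lib.Helper27GrTildeSect4
import Groth.Agent.Lib.Helper27TwistGenN
import Groth.Agent.Lib.Helper27ProjCover
import Groth.Agent.Lib.Helper27ProjUniq2

/-!
# Global sections of `O(d)` on projective space: `Γ(P^n_R, O(d)) = R[T_0, …, T_n]_d` (helper27)
-/

set_option autoImplicit false
universe u

open CategoryTheory CategoryTheory.Limits AlgebraicGeometry TopologicalSpace Opposite
  HomogeneousLocalization MvPolynomial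

namespace Groth.Agent.Lib.Helper27PnSections

section Poly

variable {σ : Type*} {R : Type*} [CommRing R]

/-- divide out `X_i^k`. -/
theorem exists_eq_X_pow_mul (i : σ) (k d : ℕ) (a : MvPolynomial σ R)
    (ha : a.IsHomogeneous (k + d)) (hsupp : ∀ m, coeff m a ≠ 0 → k ≤ m i) :
    ∃ b : MvPolynomial σ R, b.IsHomogeneous d ∧ a = X i ^ k * b := by
  classical
  refine ⟨a.divMonomial (Finsupp.single i k), ?_, ?_⟩
  · intro m hm
    rw [coeff_divMonomial] at hm
    have h1 := ha hm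
    rw [map_add, Finsupp.weight_single] at h1
    simp only [Pi.one_apply, smul_eq_mul, mul_one] at h1
    omega
  · have hmod : a.modMonomial (Finsupp.single i k) = 0 := by
      ext m
      rw [coeff_zero]
      by_cases hle : Finsupp.single i k ≤ m
      · exact coeff_modMonomial_of_le a hle
      · rw [coeff_modMonomial_of_not_le a hle]
        by_contra hne
        apply hle
        rw [Finsupp.single_le_iff]
        exact hsupp m hne
    have h1 := divMonomial_add_modMonomial a (Finsupp.single i k)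
    rw [hmod, add_zero] at h1
    rw [X_pow_eq_monomial]
    exact h1.symm

end Poly

section Sections

open Groth.Agent.Lib.Helper27GrTildeSect Groth.Agent.Lib.Helper27ProjGamma

variable (n : ℕ) (R : Type u) [CommRing R]

local notation "𝒫" => CohB1.polyGrading n R

theorem X_pow_not_mem (i : Fin (n + 1)) (k : ℕ) (y : ProjectiveSpectrum 𝒫)
    (hy : (X i : MvPolynomial (Fin (n + 1)) R) ∉ y.asHomogeneousIdeal) :
    (X i : MvPolynomial (Fin (n + 1)) R) ^ k ∉ y.asHomogeneousIdeal :=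
  fun h => hy (y.isPrime.mem_of_pow_mem k h)

/-- on the chart `D₊(T_i)`, a global section of `O(d)` is a single fraction `m / T_i^k`. -/
theorem exists_chart_rep (d : ℕ) (σ : Γ(GrTilde.tilde 𝒫 𝒫 (d : ℤ), ⊤)) (i : Fin (n + 1)) :
    ∃ (k : ℕ) (m : MvPolynomial (Fin (n + 1)) R) (_ : m ∈ CohB1.polyGrading n R (k + d)),
      ∀ (y : ProjectiveSpectrum 𝒫)
        (hy : (X i : MvPolynomial (Fin (n + 1)) R) ∉ y.asHomogeneousIdeal),
        (secVal 𝒫 𝒫 (d : ℤ) ⊤ σ y trivial : Twist.Loc 𝒫 y) =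
          Localization.mk m (⟨X i ^ k, X_pow_not_mem n R i k y hy⟩ :
            y.asHomogeneousIdeal.toIdeal.primeCompl) := by
  let t : Γ(GrTilde.tilde 𝒫 𝒫 (d : ℤ), Proj.basicOpen 𝒫 (X i)) :=
    (GrTilde.tilde 𝒫 𝒫 (d : ℤ)).presheaf.map (homOfLE (le_top : Proj.basicOpen 𝒫 (X i) ≤ ⊤)).op σ
  obtain ⟨K, i', ⟨m, hm⟩, hi, hval⟩ := exists_global (toSect 𝒫 𝒫 (d : ℤ) _ t) Nat.one_pos
    (hX n R i)
  have hi' : i' = K + d := by
    have : (i' : ℤ) = (K : ℤ) + d := by rw [hi]; push_cast; ring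
    exact_mod_cast this
  subst hi'
  refine ⟨K, m, hm, fun y hy => ?_⟩
  have hyU : y ∈ Proj.basicOpen 𝒫 (X i) := (ProjectiveSpectrum.mem_basicOpen 𝒫 (X i) y).mpr hy
  have h1 := hval ⟨y, hyU⟩
  have h2 : secVal 𝒫 𝒫 (d : ℤ) _ t y hyU = secVal 𝒫 𝒫 (d : ℤ) ⊤ σ y trivial :=
    secVal_map 𝒫 𝒫 (d : ℤ) le_top σ y hyU
  rw [← h2]
  exact h1


theorem eq_zero_of_local {e : ℕ} (he : 0 < e) {g : MvPolynomial (Fin (n + 1)) R}
    (hg : g ∈ CohB1.polyGrading n R e) (hreg : IsRegular g) {i : ℕ}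
    {μ : MvPolynomial (Fin (n + 1)) R} (hμ : μ ∈ CohB1.polyGrading n R i)
    (H : ∀ y : ProjectiveSpectrum 𝒫, g ∉ y.asHomogeneousIdeal →
      ∃ u : MvPolynomial (Fin (n + 1)) R, u ∉ y.asHomogeneousIdeal ∧ u * μ = 0) : μ = 0 := by
  obtain ⟨N, hN⟩ := exists_pow_smul_eq_zero 𝒫 𝒫 he hg hμ (fun y hy => by
    obtain ⟨u, hu, h0⟩ := H y hy
    exact ⟨u, hu, by rw [smul_eq_mul]; exact h0⟩)
  have h1 := hN N le_rfl
  rw [smul_eq_mul] at h1
  exact (hreg.pow N).left (show g ^ N * μ = g ^ N * 0 by rw [h1, mul_zero])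

theorem not_mem_of_mul_not_mem {i j : Fin (n + 1)} (y : ProjectiveSpectrum 𝒫)
    (hy : (X i * X j : MvPolynomial (Fin (n + 1)) R) ∉ y.asHomogeneousIdeal) :
    (X i : MvPolynomial (Fin (n + 1)) R) ∉ y.asHomogeneousIdeal ∧
      (X j : MvPolynomial (Fin (n + 1)) R) ∉ y.asHomogeneousIdeal :=
  ⟨fun h => hy (Ideal.mul_mem_right _ _ h), fun h => hy (Ideal.mul_mem_left _ _ h)⟩

/-- the overlap identity between two chart representatives. -/
theorem overlap_eq (d : ℕ) (σ : Γ(GrTilde.tilde 𝒫 𝒫 (d : ℤ), ⊤)) (i j : Fin (n + 1))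
    (ki kj : ℕ) (mi mj : MvPolynomial (Fin (n + 1)) R)
    (hmi : mi ∈ CohB1.polyGrading n R (ki + d)) (hmj : mj ∈ CohB1.polyGrading n R (kj + d))
    (hi : ∀ (y : ProjectiveSpectrum 𝒫)
        (hy : (X i : MvPolynomial (Fin (n + 1)) R) ∉ y.asHomogeneousIdeal),
        (secVal 𝒫 𝒫 (d : ℤ) ⊤ σ y trivial : Twist.Loc 𝒫 y) =
          Localization.mk mi (⟨X i ^ ki, X_pow_not_mem n R i ki y hy⟩ :
            y.asHomogeneousIdeal.toIdeal.primeCompl))
    (hj : ∀ (y : ProjectiveSpectrum 𝒫)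
        (hy : (X j : MvPolynomial (Fin (n + 1)) R) ∉ y.asHomogeneousIdeal),
        (secVal 𝒫 𝒫 (d : ℤ) ⊤ σ y trivial : Twist.Loc 𝒫 y) =
          Localization.mk mj (⟨X j ^ kj, X_pow_not_mem n R j kj y hy⟩ :
            y.asHomogeneousIdeal.toIdeal.primeCompl)) :
    X j ^ kj * mi = X i ^ ki * mj := by
  have h1 : (X j ^ kj * mi : MvPolynomial (Fin (n + 1)) R) ∈ CohB1.polyGrading n R (ki + kj + d) := by
    have := (isHomogeneous_X_pow (R := R) j kj).mul hmi
    have e : kj + (ki + d) = ki + kj + d := by omega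
    rw [e] at this
    exact this
  have h2 : (X i ^ ki * mj : MvPolynomial (Fin (n + 1)) R) ∈ CohB1.polyGrading n R (ki + kj + d) := by
    have := (isHomogeneous_X_pow (R := R) i ki).mul hmj
    have e : ki + (kj + d) = ki + kj + d := by omega
    rw [e] at this
    exact this
  have hg : (X i * X j : MvPolynomial (Fin (n + 1)) R) ∈ CohB1.polyGrading n R 2 :=
    (isHomogeneous_X R i).mul (isHomogeneous_X R j)
  have hreg : IsRegular (X i * X j : MvPolynomial (Fin (n + 1)) R) :=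
    isRegular_X.mul isRegular_X
  have h0 := eq_zero_of_local n R (by norm_num : 0 < 2) hg hreg (Submodule.sub_mem _ h1 h2)
    (fun y hy => by
      obtain ⟨hyi, hyj⟩ := not_mem_of_mul_not_mem n R y hy
      have h3 := (hi y hyi).symm.trans (hj y hyj)
      rw [Localization.mk_eq_mk_iff, Localization.r_iff_exists] at h3
      obtain ⟨c, hc⟩ := h3
      refine ⟨c.1, c.2, ?_⟩
      simp only at hc
      rw [mul_sub, hc, sub_self])
  exact sub_eq_zero.mp h0


/-- on the chart `D₊(T_i)`, a global section of `O(d)` is a polynomial `b_i / 1`. -/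
theorem exists_poly_rep (d : ℕ) (σ : Γ(GrTilde.tilde 𝒫 𝒫 (d : ℤ), ⊤)) (i : Fin (n + 1)) :
    ∃ (b : MvPolynomial (Fin (n + 1)) R) (_ : b ∈ CohB1.polyGrading n R d),
      ∀ (y : ProjectiveSpectrum 𝒫)
        (_ : (X i : MvPolynomial (Fin (n + 1)) R) ∉ y.asHomogeneousIdeal),
        (secVal 𝒫 𝒫 (d : ℤ) ⊤ σ y trivial : Twist.Loc 𝒫 y) =
          Localization.mk b (1 : y.asHomogeneousIdeal.toIdeal.primeCompl) := by
  classical
  obtain ⟨k, m, hm, hval⟩ := exists_chart_rep n R d σ i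
  have hsupp : ∀ mm, coeff mm m ≠ 0 → k ≤ mm i := by
    by_cases h : ∃ j : Fin (n + 1), i ≠ j
    · obtain ⟨j, hij⟩ := h
      obtain ⟨kj, mj, hmj, hvalj⟩ := exists_chart_rep n R d σ j
      have key := overlap_eq n R d σ i j k kj m mj hm hmj hval hvalj
      exact le_of_overlap hij k kj m mj key
    · push Not at h
      intro mm hmm
      have h1 : Finsupp.weight (1 : Fin (n + 1) → ℕ) mm = k + d := hm hmm
      have h0 : Finsupp.weight (1 : Fin (n + 1) → ℕ) mm = Finsupp.degree mm := by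
        rw [Finsupp.degree_eq_weight_one]; rfl
      rw [h0, Finsupp.degree_eq_sum,
        Fintype.sum_eq_single i (fun j hj => absurd (h j).symm hj)] at h1
      omega
  obtain ⟨b, hb, hmb⟩ := exists_eq_X_pow_mul i k d m hm hsupp
  refine ⟨b, hb, fun y hy => ?_⟩
  rw [hval y hy, Localization.mk_eq_mk_iff, Localization.r_iff_exists]
  refine ⟨1, ?_⟩
  simp only [OneMemClass.coe_one, one_mul]
  rw [hmb]


theorem exists_X_not_mem (y : ProjectiveSpectrum 𝒫) :
    ∃ i : Fin (n + 1), (X i : MvPolynomial (Fin (n + 1)) R) ∉ y.asHomogeneousIdeal := by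
  obtain ⟨i, -, hi⟩ := Groth.Agent.Lib.Helper27ProjCover.exists_not_mem (CohB1.polyGrading n R)
    (fun j : Fin (n + 1) => (X j : MvPolynomial (Fin (n + 1)) R)) (fun _ => 1)
    (hX n R) (MvPolynomial.adjoin_range_X) y
  exact ⟨i, hi⟩

/-- every global section of `O(d)` is `b / 1` for a homogeneous polynomial `b` of degree `d`. -/
theorem exists_global_poly (d : ℕ) (σ : Γ(GrTilde.tilde 𝒫 𝒫 (d : ℤ), ⊤)) :
    ∃ (b : MvPolynomial (Fin (n + 1)) R) (hb : b ∈ CohB1.polyGrading n R d),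
      σ = gsec 𝒫 d ⊤ hb := by
  choose b hb hval using exists_poly_rep n R d σ
  have hall : ∀ i, b i = b 0 := by
    intro i
    have hg : (X i * X 0 : MvPolynomial (Fin (n + 1)) R) ∈ CohB1.polyGrading n R 2 :=
      (isHomogeneous_X R i).mul (isHomogeneous_X R 0)
    have hreg : IsRegular (X i * X 0 : MvPolynomial (Fin (n + 1)) R) :=
      isRegular_X.mul isRegular_X
    have h0 := eq_zero_of_local n R (by norm_num : 0 < 2) hg hreg
      (Submodule.sub_mem _ (hb i) (hb 0))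
      (fun y hy => by
        obtain ⟨hyi, hyj⟩ := not_mem_of_mul_not_mem n R y hy
        have h3 := (hval i y hyi).symm.trans (hval 0 y hyj)
        rw [Localization.mk_eq_mk_iff, Localization.r_iff_exists] at h3
        obtain ⟨c, hc⟩ := h3
        refine ⟨c.1, c.2, ?_⟩
        simp only [OneMemClass.coe_one, one_mul] at hc
        rw [mul_sub, hc, sub_self])
    exact sub_eq_zero.mp h0
  refine ⟨b 0, hb 0, ?_⟩
  apply sec_ext
  intro y hy
  obtain ⟨i, hi⟩ := exists_X_not_mem n R y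
  change (secVal 𝒫 𝒫 (d : ℤ) ⊤ σ y hy : Twist.Loc 𝒫 y) =
    (secVal 𝒫 𝒫 (d : ℤ) ⊤ (gsec 𝒫 d ⊤ (hb 0)) y hy : Twist.Loc 𝒫 y)
  rw [hval i y hi, hall i]
  rfl


/-- `b ↦ b / 1` is injective. -/
theorem gsec_eq_zero (d : ℕ) {b : MvPolynomial (Fin (n + 1)) R} (hb : b ∈ CohB1.polyGrading n R d)
    (h : gsec 𝒫 d ⊤ hb = 0) : b = 0 := by
  refine eq_zero_of_local n R Nat.one_pos (hX n R 0) isRegular_X hb (fun y _ => ?_)
  have h1 : (secVal 𝒫 𝒫 (d : ℤ) ⊤ (gsec 𝒫 d ⊤ hb) y trivial : Twist.Loc 𝒫 y) =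
      (secVal 𝒫 𝒫 (d : ℤ) ⊤ 0 y trivial : Twist.Loc 𝒫 y) := by rw [h]
  have h2 : (secVal 𝒫 𝒫 (d : ℤ) ⊤ (gsec 𝒫 d ⊤ hb) y trivial : Twist.Loc 𝒫 y) =
      Localization.mk b (1 : y.asHomogeneousIdeal.toIdeal.primeCompl) := rfl
  have h3 : (secVal 𝒫 𝒫 (d : ℤ) ⊤ 0 y trivial : Twist.Loc 𝒫 y) = 0 := rfl
  rw [h2, h3, ← Localization.mk_zero (1 : y.asHomogeneousIdeal.toIdeal.primeCompl),
    Localization.mk_eq_mk_iff, Localization.r_iff_exists] at h1
  obtain ⟨c, hc⟩ := h1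
  refine ⟨c.1, c.2, ?_⟩
  simpa using hc

theorem gsec_add (d : ℕ) {b b' : MvPolynomial (Fin (n + 1)) R}
    (hb : b ∈ CohB1.polyGrading n R d) (hb' : b' ∈ CohB1.polyGrading n R d) :
    gsec 𝒫 d ⊤ (add_mem hb hb') = gsec 𝒫 d ⊤ hb + gsec 𝒫 d ⊤ hb' :=
  fracSec_add 𝒫 (d : ℤ) ⊤ hb hb' _ _ _

end Sections

section Const

open Groth.Agent.Lib.Helper27GrTildeSect

variable {R A : Type u} [CommRing R] [CommRing A] [Algebra R A] (𝒜 : ℕ → Submodule R A)
  [GradedAlgebra 𝒜]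

theorem funVal_constFun_val {f : A} {m : ℕ} (f_deg : f ∈ 𝒜 m) (hm : 0 < m) (r : R)
    (y : ProjectiveSpectrum 𝒜) (hy : f ∉ y.asHomogeneousIdeal) :
    (funVal 𝒜 ⊤ (constFun 𝒜 r) y trivial).val =
      (Localization.mk (algebraMap R A r) (1 : y.asHomogeneousIdeal.toIdeal.primeCompl) :
        Twist.Loc 𝒜 y) := by
  have hyU : y ∈ Proj.basicOpen 𝒜 f := (ProjectiveSpectrum.mem_basicOpen 𝒜 f y).mpr hy
  have h1 := awayToSection_const 𝒜 f_deg hm r
  have h2 : funVal 𝒜 ⊤ (constFun 𝒜 r) y trivial =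
      funVal 𝒜 (Proj.basicOpen 𝒜 f)
        ((Proj 𝒜).presheaf.map (homOfLE (le_top : Proj.basicOpen 𝒜 f ≤ ⊤)).op (constFun 𝒜 r))
        y hyU := (funVal_map 𝒜 le_top _ y hyU).symm
  rw [h2, ← h1]
  rfl

end Const

section Sections2


open Groth.Agent.Lib.Helper27GrTildeSect Groth.Agent.Lib.Helper27ProjGamma

/-- `H^0(X, M) ≃+ M(X)`. -/
noncomputable def hh0Equiv (X : Scheme.{u}) (M : X.Modules) :
    Coh.HH X M 0 ≃+ (Coh.toAb M).obj.obj (op (⊤ : Opens X)) :=
  Sheaf.H.equiv₀ (Coh.toAb M) Limits.isTerminalTop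

theorem hh0Equiv_smul (X : Scheme.{u}) (M : X.Modules) (r : Coh.Γtop X) (x : Coh.HH X M 0) :
    hh0Equiv X M (r • x) = (Coh.smulAb M r).hom.app (op ⊤) (hh0Equiv X M x) := by
  change Sheaf.H.equiv₀ _ _ (Sheaf.H.map (Coh.smulAb M r) 0 x) = _
  rw [← Sheaf.H.equiv₀_naturality]
  rfl

theorem resTop_top (X : Scheme.{u}) (r : Coh.Γtop X) : Coh.resTop X (op ⊤) r = r := by
  change (X.ringCatSheaf.obj.map (𝟙 (op ⊤))).hom r = r
  rw [CategoryTheory.Functor.map_id]
  rfl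

variable (n : ℕ) (R : Type u) [CommRing R]

local notation "𝒫" => CohB1.polyGrading n R

theorem gsec_smul (d : ℕ) (r : R) {b : MvPolynomial (Fin (n + 1)) R}
    (hb : b ∈ CohB1.polyGrading n R d) :
    gsec 𝒫 d ⊤ (Submodule.smul_mem _ r hb) = constFun 𝒫 r • gsec 𝒫 d ⊤ hb := by
  apply sec_ext
  intro y hy
  obtain ⟨i, hi⟩ := exists_X_not_mem n R y
  change (secVal 𝒫 𝒫 (d : ℤ) ⊤ (gsec 𝒫 d ⊤ (Submodule.smul_mem _ r hb)) y hy : Twist.Loc 𝒫 y) =
    (secVal 𝒫 𝒫 (d : ℤ) ⊤ (constFun 𝒫 r • gsec 𝒫 d ⊤ hb) y hy : Twist.Loc 𝒫 y)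
  rw [secVal_smul', funVal_constFun_val 𝒫 (hX n R i) Nat.one_pos r y hi]
  change Localization.mk (r • b) (1 : y.asHomogeneousIdeal.toIdeal.primeCompl) =
    Localization.mk (algebraMap R _ r) (1 : y.asHomogeneousIdeal.toIdeal.primeCompl) *
      Localization.mk b (1 : y.asHomogeneousIdeal.toIdeal.primeCompl)
  rw [Localization.mk_mul, one_mul, Algebra.smul_def]

theorem nonempty_linearEquiv (d : ℕ) :
    Nonempty (Coh.HH (CohB1.ProjSpace n R) (Twist.twistProjSpace n R (d : ℤ)) 0 ≃ₗ[R]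
      ↥(MvPolynomial.homogeneousSubmodule (Fin (n + 1)) R d)) := by
  let e0 := hh0Equiv (CohB1.ProjSpace n R) (Twist.twistProjSpace n R (d : ℤ))
  let g : ↥(MvPolynomial.homogeneousSubmodule (Fin (n + 1)) R d) →
      Γ(GrTilde.tilde 𝒫 𝒫 (d : ℤ), ⊤) := fun b => gsec 𝒫 d ⊤ b.2
  have hg_add : ∀ b b', g (b + b') = g b + g b' := fun b b' => gsec_add n R d b.2 b'.2
  have hg_smul : ∀ (r : R) b, g (r • b) = constFun 𝒫 r • g b := fun r b => gsec_smul n R d r b.2
  have hg_inj : Function.Injective g := by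
    intro b b' h
    have h1 : g (b - b') = 0 := by
      have h2 : g (b - b') + g b' = g b := by rw [← hg_add, sub_add_cancel]
      rw [h] at h2
      exact add_eq_right.mp h2
    have h3 := gsec_eq_zero n R d (b - b').2 h1
    exact sub_eq_zero.mp (Subtype.ext h3)
  have hg_surj : Function.Surjective g := by
    intro σ
    obtain ⟨b, hb, rfl⟩ := exists_global_poly n R d σ
    exact ⟨⟨b, hb⟩, rfl⟩
  let c : Γ(GrTilde.tilde 𝒫 𝒫 (d : ℤ), ⊤) ≃+
      ↑((Coh.toAb (Twist.twistProjSpace n R (d : ℤ))).obj.obj (op ⊤)) :=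
    { toFun := fun x => x
      invFun := fun x => x
      left_inv := fun _ => rfl
      right_inv := fun _ => rfl
      map_add' := fun _ _ => rfl }
  have hc_smul : ∀ (r : R) (s : Γ(GrTilde.tilde 𝒫 𝒫 (d : ℤ), ⊤)),
      c (constFun 𝒫 r • s) =
        @HSMul.hSMul ((CohB1.ProjSpace n R).ringCatSheaf.obj.obj (op ⊤))
          ((Twist.twistProjSpace n R (d : ℤ)).val.obj (op ⊤))
          ((Twist.twistProjSpace n R (d : ℤ)).val.obj (op ⊤)) _
          (Coh.toGlobal (CohB1.ProjSpace n R ↘ Spec (CommRingCat.of R)) r) (c s) :=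
    fun _ _ => rfl
  let φ : ↥(MvPolynomial.homogeneousSubmodule (Fin (n + 1)) R d) →ₗ[R]
      Coh.HH (CohB1.ProjSpace n R) (Twist.twistProjSpace n R (d : ℤ)) 0 :=
    { toFun := fun b => e0.symm (c (g b))
      map_add' := fun b b' => by
        rw [hg_add, map_add c]
        exact map_add e0.symm _ _
      map_smul' := fun r b => by
        apply e0.injective
        rw [RingHom.id_apply, AddEquiv.apply_symm_apply]
        have h1 : e0 (r • e0.symm (c (g b))) =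
            e0 ((Coh.toGlobal (CohB1.ProjSpace n R ↘ Spec (CommRingCat.of R)) r) •
              e0.symm (c (g b))) := rfl
        rw [h1, hh0Equiv_smul, Coh.smulAb_app, resTop_top, AddEquiv.apply_symm_apply, hg_smul,
          hc_smul] }
  have hbij : Function.Bijective φ :=
    ⟨fun b b' h => hg_inj (c.injective (e0.symm.injective h)),
      fun x => by
        obtain ⟨b, hb⟩ := hg_surj (c.symm (e0 x))
        exact ⟨b, by
          change e0.symm (c (g b)) = x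
          rw [hb, AddEquiv.apply_symm_apply, AddEquiv.symm_apply_apply]⟩⟩
  exact ⟨(LinearEquiv.ofBijective φ hbij).symm⟩

end Sections2

end Groth.Agent.Lib.Helper27PnSections
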