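import Mathlib
import Groth.Prelude.Def_W4bk6serrecg25LocSym

set_option autoImplicit false
set_option linter.style.haveILetI false
set_option linter.unusedSectionVars false

universe v u
open CategoryTheory AlgebraicGeometry TopologicalSpace

namespace Helper16LocSym

/-- `CycAlg.ordFrac` vanishes on units of the ring. -/
lemma ordFrac_eq_zero_of_isUnit {R : Type u} [CommRing R] [IsDomain R] {K : Type v} [Field K]
    [Algebra R K] (x : R) (hx : IsUnit x) : CycAlg.ordFrac R K (algebraMap R K x) = 0 := by
  unfold CycAlg.ordFrac
  split_ifs with h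
  · haveI := h.1; haveI := h.2.1; haveI := h.2.2.1; haveI := h.2.2.2
    rw [Ring.ordFrac_of_isUnit hx]
    rfl
  · rfl

/-- In a Noetherian `T0` space of Krull dimension at most one, every closed subset other than
the whole space is finite. -/
lemma finite_of_isClosed_ne_univ {X : Type*} [TopologicalSpace X] [NoetherianSpace X] [T0Space X]
    [IrreducibleSpace X] (hdim : topologicalKrullDim X ≤ 1) {Z : Set X} (hZ : IsClosed Z)
    (hne : Z ≠ Set.univ) : Z.Finite := by
  obtain ⟨S, hSfin, hScl, hSirr, rfl⟩ := NoetherianSpace.exists_finite_set_isClosed_irreducible hZ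
  refine Set.Finite.sUnion hSfin (fun t ht => ?_)
  have htne : t ≠ Set.univ := by
    rintro rfl
    exact hne (Set.eq_univ_of_univ_subset (Set.subset_sUnion_of_mem ht))
  apply Set.Subsingleton.finite
  let T : IrreducibleCloseds X := ⟨t, hSirr t ht, hScl t ht⟩
  have hT := (Order.krullDim_le_one_iff.mp hdim) T
  have hmin : IsMin T := by
    rcases hT with h | h
    · exact h
    · exfalso
      let Top : IrreducibleCloseds X := ⟨Set.univ, IrreducibleSpace.isIrreducible_univ X, isClosed_univ⟩
      have h1 : T ≤ Top := fun x _ => Set.mem_univ x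
      have h2 : Top ≤ T := h h1
      exact htne (Set.eq_univ_of_univ_subset h2)
  have key : ∀ z ∈ t, closure {z} = t := by
    intro z hz
    let C : IrreducibleCloseds X := ⟨closure {z}, isIrreducible_singleton.closure, isClosed_closure⟩
    have h1 : C ≤ T := by
      show closure {z} ⊆ t
      exact (hScl t ht).closure_subset_iff.mpr (Set.singleton_subset_iff.mpr hz)
    have h2 : T ≤ C := hmin h1
    exact Set.Subset.antisymm h1 h2
  intro z hz z' hz'
  have : Inseparable z z' := inseparable_iff_closure_eq.mpr ((key z hz).trans (key z' hz').symm)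
  exact this.eq

section curve

variable {k : Type u} [Field k] {X : Scheme.{u}} [IsIntegral X]
  (c : X ⟶ Spec (CommRingCat.of k))

/-- On a curve of finite type over a field, a nonzero rational function is a unit in all but
finitely many local rings. -/
lemma finite_not_isUnit [LocallyOfFiniteType c] [QuasiCompact c] (hdim : topologicalKrullDim X ≤ 1)
    (g : X.functionField) (hg : g ≠ 0) :
    {P : X | ¬ ∃ a : X.presheaf.stalk P, IsUnit a ∧
      algebraMap (X.presheaf.stalk P) X.functionField a = g}.Finite := by
  haveI : CompactSpace X := QuasiCompact.compactSpace_of_compactSpace c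
  haveI : IsNoetherian X := { __ := LocallyOfFiniteType.isLocallyNoetherian c }
  obtain ⟨U, hU, f', hne, hf', hunit⟩ := exists_isUnit_germ_eq (X := X) g hg
  have hsub : {P : X | ¬ ∃ a : X.presheaf.stalk P, IsUnit a ∧
      algebraMap (X.presheaf.stalk P) X.functionField a = g} ⊆ ((U : Set X)ᶜ) := by
    intro P hP hPU
    apply hP
    refine ⟨X.presheaf.germ U P hPU f', hunit.map (X.presheaf.germ U P hPU).hom, ?_⟩
    rw [← hf']
    exact Scheme.algebraMap_germ_eq_germToFunctionField X hPU f'
  refine Set.Finite.subset (finite_of_isClosed_ne_univ hdim U.isOpen.isClosed_compl ?_) hsub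
  intro h
  obtain ⟨⟨x, hx⟩⟩ := hne
  have : x ∈ ((U : Set X)ᶜ) := by rw [h]; exact Set.mem_univ _
  exact this hx

lemma ord_eq_zero_of_unit (x : LocSym.Pt c) (g : X.functionField)
    (h : ∃ a : X.presheaf.stalk x.pt, IsUnit a ∧
      algebraMap (X.presheaf.stalk x.pt) X.functionField a = g) : x.ord g = 0 := by
  obtain ⟨a, ha, rfl⟩ := h
  exact ordFrac_eq_zero_of_isUnit a ha

lemma pt_injective [IsAlgClosed k] [LocallyOfFiniteType c] :
    Function.Injective (LocSym.Pt.pt (c := c)) := by
  intro x y h
  exact Subtype.ext (ext_of_apply_closedPoint_eq c x.2 y.2 h)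

/-- On a proper curve over an algebraically closed field, the set of rational points at which a
nonzero rational function has nonzero order is finite. -/
lemma finite_ord_ne_zero [IsAlgClosed k] [LocallyOfFiniteType c] [QuasiCompact c]
    (hdim : topologicalKrullDim X ≤ 1) (g : X.functionField) (hg : g ≠ 0) :
    {x : LocSym.Pt c | x.ord g ≠ 0}.Finite := by
  have h1 := finite_not_isUnit c hdim g hg
  refine Set.Finite.subset (h1.preimage ((pt_injective c).injOn)) ?_
  intro x hx hx'
  exact hx (ord_eq_zero_of_unit c x g hx')

end curve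

end Helper16LocSym
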