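import Mathlib
import Groth.Prelude.Def_W4bk6serrecg25LocSym
import Groth.Agent.Lib.Helper16LocSym
import Groth.Agent.Lib.Helper11SmInt
import Groth.Agent.S7931
import Groth.Agent.S7938

set_option autoImplicit false
set_option linter.style.haveILetI false
set_option linter.unusedSectionVars false

universe v u
open CategoryTheory AlgebraicGeometry TopologicalSpace

namespace Helper16LocSym


/-- stalks of a smooth scheme over a field are integrally closed -/
theorem isIntegrallyClosed_stalk_of_smooth (k : Type u) [Field k] {X : Scheme.{u}}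
    (f : X ⟶ Spec (CommRingCat.of k)) [Smooth f] (x : X) :
    IsIntegrallyClosed (X.presheaf.stalk x) := by
  obtain ⟨_, ⟨U, hU, rfl⟩, hxU, -⟩ :=
    X.isBasis_affineOpens.exists_subset_of_mem_open (Set.mem_univ x) isOpen_univ
  have hsm : (f.appLE ⊤ U le_top).hom.Smooth :=
    HasRingHomProperty.appLE (P := @Smooth) f inferInstance ⟨⊤, isAffineOpen_top _⟩ ⟨U, hU⟩ le_top
  algebraize [(f.appLE ⊤ U le_top).hom]
  have hA : IsField Γ(Spec (CommRingCat.of k), ⊤) :=
    (Scheme.ΓSpecIso (CommRingCat.of k)).commRingCatIsoToRingEquiv.toMulEquiv.isField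
      (Field.toIsField k)
  have hN := Groth.Agent.Lib.Helper6.SmNorm.isNormalRing_of_smooth
    Γ(Spec (CommRingCat.of k), ⊤) Γ(X, U)
    (Groth.Agent.Lib.Helper11SmInt.isNormalRing_of_isField _ hA)
  let _ := TopCat.Presheaf.algebra_section_stalk X.presheaf (⟨x, hxU⟩ : U)
  have hloc := hU.isLocalization_stalk ⟨x, hxU⟩
  have hd := (hN (hU.primeIdealOf ⟨x, hxU⟩).asIdeal).2
  let e := IsLocalization.algEquiv (hU.primeIdealOf ⟨x, hxU⟩).asIdeal.primeCompl
    (X.presheaf.stalk x) (Localization.AtPrime (hU.primeIdealOf ⟨x, hxU⟩).asIdeal)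
  exact IsIntegrallyClosed.of_equiv e.symm.toRingEquiv




lemma coheight_le_topologicalKrullDim (X : Scheme.{u}) (x : X) :
    (Order.coheight x : WithBot ℕ∞) ≤ topologicalKrullDim X := by
  have h1 : (Order.coheight x : WithBot ℕ∞) ≤ Order.krullDim X := Order.coheight_le_krullDim x
  have h2 : Order.krullDim (IrreducibleCloseds X) = Order.krullDim X :=
    Order.krullDim_eq_of_orderIso (irreducibleSetEquivPoints (α := X))
  unfold topologicalKrullDim
  rw [h2]
  exact h1

lemma ringKrullDim_stalk_le (X : Scheme.{u}) (x : X) :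
    ringKrullDim (X.presheaf.stalk x) ≤ topologicalKrullDim X := by
  rw [ringKrullDim_stalk_eq_coheight]
  exact coheight_le_topologicalKrullDim X x





lemma ringKrullDim_stalk_eq_one (X : Scheme.{u}) [IsIntegral X] (hdim : topologicalKrullDim X = 1)
    (P : X) (hP : IsClosed ({P} : Set X)) : ringKrullDim (X.presheaf.stalk P) = 1 := by
  refine le_antisymm ((ringKrullDim_stalk_le X P).trans_eq hdim) ?_
  rw [ringKrullDim_stalk_eq_coheight]
  by_contra hlt
  have h0 : Order.coheight P = 0 := by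
    by_contra hne
    apply hlt
    have : (1 : ℕ∞) ≤ Order.coheight P := Order.one_le_iff_ne_zero.mpr hne
    exact_mod_cast this
  have hmax : IsMax P := Order.coheight_eq_zero.mp h0
  have hgen : genericPoint X ⤳ P := genericPoint_specializes P
  have h1 : P ⤳ genericPoint X := hmax (show P ≤ genericPoint X from hgen)
  have hPη : P = genericPoint X := (h1.antisymm hgen).eq
  have huniv : ({P} : Set X) = Set.univ := by
    have := (genericPoint_spec X).def
    rw [← hPη, hP.closure_eq] at this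
    exact this
  haveI : Subsingleton X := by
    constructor
    intro a b
    have ha : a ∈ ({P} : Set X) := by rw [huniv]; exact Set.mem_univ a
    have hb : b ∈ ({P} : Set X) := by rw [huniv]; exact Set.mem_univ b
    rw [Set.mem_singleton_iff.mp ha, Set.mem_singleton_iff.mp hb]
  haveI : Subsingleton (IrreducibleCloseds X) := by
    constructor
    intro a b
    apply IrreducibleCloseds.ext
    ext z
    constructor
    · intro _
      obtain ⟨w, hw⟩ := b.2.nonempty
      rwa [Subsingleton.elim z w]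
    · intro _
      obtain ⟨w, hw⟩ := a.2.nonempty
      rwa [Subsingleton.elim z w]
  have : topologicalKrullDim X ≤ 0 := Order.krullDim_nonpos_of_subsingleton
  rw [hdim] at this
  exact absurd this (by decide)


section curve

variable {k : Type u} [Field k] [IsAlgClosed k] {X : Scheme.{u}} [IsIntegral X]
  (c : X ⟶ Spec (CommRingCat.of k))

lemma isClosed_pt [LocallyOfFiniteType c] (x : LocSym.Pt c) : IsClosed ({x.pt} : Set X) :=
  (pointEquivClosedPoint c ⟨x.1, x.2⟩).2

theorem dvr_stalk_pt [IsProper c] [Smooth c] (hdim : topologicalKrullDim X = 1) (x : LocSym.Pt c) :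
    IsDiscreteValuationRing (X.presheaf.stalk x.pt) := by
  haveI : IsLocallyNoetherian X := LocallyOfFiniteType.isLocallyNoetherian c
  haveI := isIntegrallyClosed_stalk_of_smooth k c x.pt
  exact Groth.Agent.S7938.dvr_of_dim_one _ (ringKrullDim_stalk_eq_one X hdim x.pt (isClosed_pt c x))

end curve




/-- the image in the fraction field of the `N`-th power of the maximal ideal -/
noncomputable def I (R : Type u) [CommRing R] [IsLocalRing R] (K : Type v) [Field K] [Algebra R K]
    (N : ℕ) : Submodule R K :=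
  Submodule.map (Algebra.linearMap R K) (IsLocalRing.maximalIdeal R ^ N)

section dvr
variable {R : Type u} [CommRing R] [IsDomain R] [IsDiscreteValuationRing R]
  {K : Type v} [Field K] [Algebra R K] [IsFractionRing R K]

lemma ordFrac_mul {R : Type u} [CommRing R] {K : Type v} [Field K] [Algebra R K]
    (a b : K) (ha : a ≠ 0) (hb : b ≠ 0) :
    CycAlg.ordFrac R K (a * b) = CycAlg.ordFrac R K a + CycAlg.ordFrac R K b := by
  unfold CycAlg.ordFrac
  split_ifs with h
  · haveI := h.1; haveI := h.2.1; haveI := h.2.2.1; haveI := h.2.2.2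
    rw [map_mul]
    obtain ⟨za, hza⟩ := WithZero.ne_zero_iff_exists.mp ((map_ne_zero (Ring.ordFrac R (K := K))).mpr ha)
    obtain ⟨zb, hzb⟩ := WithZero.ne_zero_iff_exists.mp ((map_ne_zero (Ring.ordFrac R (K := K))).mpr hb)
    rw [← hza, ← hzb, ← WithZero.coe_mul]
    rfl
  · simp

lemma ordFrac_irreducible (ϖ : R) (hϖ : Irreducible ϖ) :
    CycAlg.ordFrac R K (algebraMap R K ϖ) = 1 := by
  unfold CycAlg.ordFrac
  have h : IsNoetherianRing R ∧ Ring.KrullDimLE 1 R ∧ Nontrivial R ∧ IsFractionRing R K :=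
    ⟨inferInstance, inferInstance, inferInstance, inferInstance⟩
  rw [dif_pos h]
  rw [Ring.ordFrac_eq_ord R hϖ.ne_zero,
    Ring.ordMonoidWithZeroHom_eq_coe R (mem_nonZeroDivisors_of_ne_zero hϖ.ne_zero)
      (n := 1) (by rw [Ring.ord_of_irreducible hϖ]; rfl)]
  rfl

lemma ordFrac_one : CycAlg.ordFrac R K (1 : K) = 0 := by
  have := ordFrac_eq_zero_of_isUnit (R := R) (K := K) 1 isUnit_one
  rwa [map_one] at this

variable (R K) in
/-- the order function as a group homomorphism on the units of the fraction field -/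
noncomputable def ordHom : Kˣ →* Multiplicative ℤ :=
  MonoidHom.mk' (fun u => Multiplicative.ofAdd (CycAlg.ordFrac R K (u : K)))
    (fun a b => by
      rw [Units.val_mul, ordFrac_mul _ _ a.ne_zero b.ne_zero, ofAdd_add])

lemma ordHom_apply (u : Kˣ) : Multiplicative.toAdd (ordHom R K u) = CycAlg.ordFrac R K (u : K) := rfl

lemma ordFrac_zpow (a : K) (ha : a ≠ 0) (n : ℤ) :
    CycAlg.ordFrac R K (a ^ n) = n * CycAlg.ordFrac R K a := by
  have h := map_zpow (ordHom R K) (Units.mk0 a ha) n
  have h2 := congrArg Multiplicative.toAdd h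
  rw [ordHom_apply, toAdd_zpow, ordHom_apply, Units.val_zpow_eq_zpow_val, Units.val_mk0] at h2
  rw [h2, smul_eq_mul]

lemma ordFrac_inv (a : K) (ha : a ≠ 0) :
    CycAlg.ordFrac R K (a⁻¹) = - CycAlg.ordFrac R K a := by
  have := ordFrac_zpow (R := R) a ha (-1)
  rwa [zpow_neg_one, neg_one_mul] at this

lemma ordFrac_unit_mul_pow (w : Rˣ) (ϖ : R) (hϖ : Irreducible ϖ) (n : ℤ) :
    CycAlg.ordFrac R K (algebraMap R K w * algebraMap R K ϖ ^ n) = n := by
  have hϖ0 : algebraMap R K ϖ ≠ 0 := by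
    rw [Ne, map_eq_zero_iff _ (IsFractionRing.injective R K)]
    exact hϖ.ne_zero
  have hw0 : algebraMap R K w ≠ 0 := by
    rw [Ne, map_eq_zero_iff _ (IsFractionRing.injective R K)]
    exact w.ne_zero
  rw [ordFrac_mul _ _ hw0 (zpow_ne_zero _ hϖ0), ordFrac_zpow _ hϖ0, ordFrac_irreducible ϖ hϖ,
    ordFrac_eq_zero_of_isUnit _ w.isUnit, zero_add, mul_one]

lemma exists_unit_mul_pow (ϖ : R) (hϖ : Irreducible ϖ) (z : K) (hz : z ≠ 0) :
    ∃ (w : Rˣ) (n : ℤ), z = algebraMap R K w * algebraMap R K ϖ ^ n := by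
  obtain ⟨a, b, hb, rfl⟩ := IsFractionRing.div_surjective (A := R) z
  have hb0 : b ≠ 0 := nonZeroDivisors.ne_zero hb
  have ha0 : a ≠ 0 := by
    rintro rfl
    simp at hz
  obtain ⟨i, u, rfl⟩ := IsDiscreteValuationRing.eq_unit_mul_pow_irreducible ha0 hϖ
  obtain ⟨j, v, rfl⟩ := IsDiscreteValuationRing.eq_unit_mul_pow_irreducible hb0 hϖ
  have hϖ0 : algebraMap R K ϖ ≠ 0 := by
    rw [Ne, map_eq_zero_iff _ (IsFractionRing.injective R K)]
    exact hϖ.ne_zero
  have hv0 : algebraMap R K v ≠ 0 := by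
    rw [Ne, map_eq_zero_iff _ (IsFractionRing.injective R K)]
    exact v.ne_zero
  refine ⟨u * v⁻¹, (i : ℤ) - j, ?_⟩
  rw [zpow_sub₀ hϖ0, zpow_natCast, zpow_natCast, Units.val_mul, map_mul, map_mul, map_mul,
    map_pow, map_pow]
  have hvv : algebraMap R K ((v⁻¹ : Rˣ) : R) = (algebraMap R K v)⁻¹ := by
    apply eq_inv_of_mul_eq_one_left
    rw [← map_mul, Units.inv_mul, map_one]
  rw [hvv]
  field_simp

lemma mem_I_iff (z : K) (N : ℕ) :
    z ∈ I R K N ↔ z = 0 ∨ (N : ℤ) ≤ CycAlg.ordFrac R K z := by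
  obtain ⟨ϖ, hϖ⟩ := IsDiscreteValuationRing.exists_irreducible R
  have hmax : IsLocalRing.maximalIdeal R ^ N = Ideal.span {ϖ ^ N} := by
    rw [hϖ.maximalIdeal_eq, Ideal.span_singleton_pow]
  constructor
  · rintro ⟨a, ha, rfl⟩
    rw [SetLike.mem_coe, hmax, Ideal.mem_span_singleton'] at ha
    obtain ⟨b, rfl⟩ := ha
    by_cases hb : b = 0
    · left
      rw [hb, zero_mul]
      exact map_zero _
    · right
      obtain ⟨j, u, rfl⟩ := IsDiscreteValuationRing.eq_unit_mul_pow_irreducible hb hϖ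
      have : (Algebra.linearMap R K) ((u : R) * ϖ ^ j * ϖ ^ N)
          = algebraMap R K u * algebraMap R K ϖ ^ ((j + N : ℕ) : ℤ) := by
        rw [Algebra.linearMap_apply, zpow_natCast, mul_assoc, ← pow_add, map_mul, map_pow]
      rw [this, ordFrac_unit_mul_pow u ϖ hϖ]
      push_cast
      omega
  · rintro (rfl | h)
    · exact zero_mem _
    · by_cases hz : z = 0
      · rw [hz]; exact zero_mem _
      obtain ⟨w, n, rfl⟩ := exists_unit_mul_pow (R := R) ϖ hϖ z hz
      rw [ordFrac_unit_mul_pow w ϖ hϖ] at h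
      refine ⟨(w : R) * ϖ ^ n.toNat, ?_, ?_⟩
      · rw [SetLike.mem_coe, hmax, Ideal.mem_span_singleton']
        refine ⟨(w : R) * ϖ ^ (n.toNat - N), ?_⟩
        rw [mul_assoc, ← pow_add]
        congr 2
        omega
      · rw [Algebra.linearMap_apply, map_mul, map_pow]
        congr 1
        rw [← zpow_natCast]
        congr 1
        omega

lemma I_anti {N N' : ℕ} (h : N' ≤ N) : I R K N ≤ I R K N' :=
  Submodule.map_mono (Ideal.pow_le_pow_right h)

lemma ordFrac_neg (a : K) : CycAlg.ordFrac R K (-a) = CycAlg.ordFrac R K a := by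
  by_cases ha : a = 0
  · rw [ha, neg_zero]
  have h1 : (-a) = algebraMap R K (-1) * a := by rw [map_neg, map_one]; ring
  have hm1 : algebraMap R K (-1) ≠ 0 := by rw [map_neg, map_one]; exact neg_ne_zero.mpr one_ne_zero
  rw [h1, ordFrac_mul _ _ hm1 ha, ordFrac_eq_zero_of_isUnit _ isUnit_one.neg, zero_add]

lemma exists_of_one_sub_mem {N : ℕ} (hN : 1 ≤ N) {u : K} (hu : 1 - u ∈ I R K N) :
    ∃ b : Rˣ, u = algebraMap R K b := by
  obtain ⟨a, ha, hau⟩ := hu
  have ha' : a ∈ IsLocalRing.maximalIdeal R := Ideal.pow_le_self (by omega) ha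
  have hunit : IsUnit (1 - a) := IsLocalRing.isUnit_one_sub_self_of_mem_nonunits a ha'
  refine ⟨hunit.unit, ?_⟩
  rw [IsUnit.unit_spec, map_sub, map_one]
  rw [Algebra.linearMap_apply] at hau
  rw [hau]; ring

lemma exists_of_one_sub_mem' {N : ℕ} {u : K} (hu : 1 - u ∈ I R K N) :
    ∃ b : R, u = algebraMap R K b := by
  obtain ⟨a, ha, hau⟩ := hu
  refine ⟨1 - a, ?_⟩
  rw [map_sub, map_one]
  rw [Algebra.linearMap_apply] at hau
  rw [hau]; ring

lemma ne_zero_of_one_sub_mem {N : ℕ} (hN : 1 ≤ N) {u : K} (hu : 1 - u ∈ I R K N) : u ≠ 0 := by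
  obtain ⟨b, rfl⟩ := exists_of_one_sub_mem hN hu
  rw [Ne, map_eq_zero_iff _ (IsFractionRing.injective R K)]
  exact b.ne_zero

lemma ordFrac_eq_zero_of_one_sub_mem {N : ℕ} (hN : 1 ≤ N) {u : K} (hu : 1 - u ∈ I R K N) :
    CycAlg.ordFrac R K u = 0 := by
  obtain ⟨b, rfl⟩ := exists_of_one_sub_mem hN hu
  exact ordFrac_eq_zero_of_isUnit _ b.isUnit

lemma one_sub_mul_mem {N : ℕ} {u v : K} (hu : 1 - u ∈ I R K N) (hv : 1 - v ∈ I R K N) :
    1 - u * v ∈ I R K N := by
  obtain ⟨b, rfl⟩ := exists_of_one_sub_mem' hu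
  have h1 : 1 - algebraMap R K b * v = (1 - algebraMap R K b) + b • (1 - v) := by
    rw [Algebra.smul_def]; ring
  rw [h1]
  exact add_mem hu (Submodule.smul_mem _ _ hv)

lemma one_sub_inv_mem {N : ℕ} (hN : 1 ≤ N) {u : K} (hu : 1 - u ∈ I R K N) :
    1 - u⁻¹ ∈ I R K N := by
  obtain ⟨b, rfl⟩ := exists_of_one_sub_mem hN hu
  have hb0 : algebraMap R K b ≠ 0 := by
    rw [Ne, map_eq_zero_iff _ (IsFractionRing.injective R K)]
    exact b.ne_zero
  have hinv : (algebraMap R K b)⁻¹ = algebraMap R K ((b⁻¹ : Rˣ) : R) := by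
    symm
    apply eq_inv_of_mul_eq_one_left
    rw [← map_mul, Units.inv_mul, map_one]
  have h1 : 1 - (algebraMap R K b)⁻¹ = (-((b⁻¹ : Rˣ) : R)) • (1 - algebraMap R K b) := by
    rw [Algebra.smul_def, map_neg, ← hinv]
    field_simp
    ring
  rw [h1]
  exact Submodule.smul_mem _ _ hu

lemma one_sub_one_mem (N : ℕ) : 1 - (1 : K) ∈ I R K N := by
  rw [sub_self]; exact zero_mem _

end dvr




/-- Approximation at finitely many distinct points with discrete valuation local rings. -/
theorem approx (X : Scheme.{u}) [IsIntegral X] [X.IsSeparated]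
    {r : ℕ} (ξ : Fin r → X) (hξ : Function.Injective ξ)
    (hdvr : ∀ i, IsDiscreteValuationRing (X.presheaf.stalk (ξ i)))
    (fs : Fin r → X.functionField) (n : Fin r → ℤ) :
    ∃ f : X.functionField, ∀ i : Fin r,
      ∃ (ϖ : X.presheaf.stalk (ξ i)) (_ : Irreducible ϖ) (w : (X.presheaf.stalk (ξ i))ˣ),
        f - fs i = algebraMap (X.presheaf.stalk (ξ i)) X.functionField (w : X.presheaf.stalk (ξ i)) *
          algebraMap (X.presheaf.stalk (ξ i)) X.functionField ϖ ^ (n i) := by
  classical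
  let O : Fin r → ValuationSubring X.functionField := fun i =>
    { (algebraMap (X.presheaf.stalk (ξ i)) X.functionField).range with
      mem_or_inv_mem' := fun x => by
        haveI := hdvr i
        rcases ValuationRing.isInteger_or_isInteger (X.presheaf.stalk (ξ i)) x with ⟨a, ha⟩ | ⟨a, ha⟩
        · exact Or.inl ⟨a, ha⟩
        · exact Or.inr ⟨a, ha⟩ }
  have hOmem : ∀ i (x : X.functionField), x ∈ O i ↔
      x ∈ (algebraMap (X.presheaf.stalk (ξ i)) X.functionField).range := fun i x => Iff.rfl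
  have hinjalg : ∀ i, Function.Injective (algebraMap (X.presheaf.stalk (ξ i)) X.functionField) :=
    fun i => IsFractionRing.injective _ _
  let e : ∀ i, X.presheaf.stalk (ξ i) ≃+* O i := fun i =>
    RingEquiv.ofBijective
      ((algebraMap (X.presheaf.stalk (ξ i)) X.functionField).codRestrict (O i).toSubring
        (fun a => ⟨a, rfl⟩))
      ⟨fun a b hab => hinjalg i (congrArg Subtype.val hab),
        fun z => by
          obtain ⟨a, ha⟩ := z.2
          exact ⟨a, Subtype.ext ha⟩⟩
  have he : ∀ i a, ((e i a : O i) : X.functionField)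
      = algebraMap (X.presheaf.stalk (ξ i)) X.functionField a := fun i a => rfl
  have he' : ∀ i (z : O i), algebraMap (X.presheaf.stalk (ξ i)) X.functionField ((e i).symm z)
      = (z : X.functionField) := fun i z => by
    rw [← he, RingEquiv.apply_symm_apply]
  have hO : ∀ i, IsDiscreteValuationRing (O i) := fun i => by
    haveI := hdvr i
    exact IsDiscreteValuationRing.RingEquivClass.isDiscreteValuationRing (e i)
  have hinj : Function.Injective O := by
    intro i j hij
    apply hξ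
    apply Groth.Agent.S7938.eq_of_range_eq X
    ext x
    rw [← hOmem, ← hOmem, hij]
  obtain ⟨f, hf⟩ := Groth.Agent.S7931.result X.functionField O hO hinj fs n
  refine ⟨f, fun i => ?_⟩
  obtain ⟨ϖ, hϖ, w, hw⟩ := hf i
  refine ⟨(e i).symm ϖ, (MulEquiv.irreducible_iff (e i).symm).2 hϖ,
    Units.map ((e i).symm.toRingHom.toMonoidHom) w, ?_⟩
  rw [hw, Units.coe_map]
  show _ = algebraMap _ _ ((e i).symm (w : O i)) * _
  rw [he', he']



end Helper16LocSym
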