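import Mathlib
import Groth.Agent.Lib.Helper20SuppClosed
import Groth.Agent.Lib.Helper20PullbackAff
import Groth.Agent.Lib.Helper20Nakayama
import Groth.Agent.Lib.Helper20OmegaUnr

set_option autoImplicit false
set_option linter.style.haveILetI false
universe u
open CategoryTheory CategoryTheory.Limits AlgebraicGeometry TopologicalSpace Opposite

namespace Groth.Agent.Helper18Epi

variable {X : Scheme.{u}}

theorem subsingleton_stalk_of_isZero {M : X.Modules} (hz : IsZero M) (x : X) :
    Subsingleton (M.presheaf.stalk x) := by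
  refine ⟨fun a b => ?_⟩
  obtain ⟨U, hxU, s, rfl⟩ := M.presheaf.exists_germ_eq a
  obtain ⟨V, hxV, t, rfl⟩ := M.presheaf.exists_germ_eq b
  haveI := Groth.Agent.Lib.Helper20.OmegaUnr.subsingleton_sections_of_isZero hz U
  haveI := Groth.Agent.Lib.Helper20.OmegaUnr.subsingleton_sections_of_isZero hz V
  rw [Subsingleton.elim s 0, Subsingleton.elim t 0, map_zero, map_zero]

theorem isZero_of_subsingleton_stalk (M : X.Modules)
    (h : ∀ x : X, Subsingleton (M.presheaf.stalk x)) : IsZero M := by
  refine Groth.Agent.Lib.Helper20.OmegaUnr.isZero_of_basis M Set.univ ?_ ?_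
  · rw [Opens.isBasis_iff_nbhd]
    intro U x hx
    exact ⟨U, trivial, hx, le_rfl⟩
  · intro U _
    refine ⟨fun s t => ?_⟩
    refine TopCat.Presheaf.section_ext ⟨M.presheaf, M.isSheaf⟩ U s t fun x hx => ?_
    haveI := h x
    exact Subsingleton.elim _ _

theorem isZero_iff_subsingleton_stalk (M : X.Modules) :
    IsZero M ↔ ∀ x : X, Subsingleton (M.presheaf.stalk x) :=
  ⟨fun h x => subsingleton_stalk_of_isZero h x, isZero_of_subsingleton_stalk M⟩

theorem main_S10844 {S : Scheme.{u}} {E F : S.Modules} [E.IsQuasicoherent] [F.IsQuasicoherent]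
    (hF : CohB1.IsFT F) (v : E ⟶ F) :
    ∃ U : S.Opens, ∀ (T : Scheme.{u}) (f : T ⟶ S),
      Set.range f.base ⊆ (U : Set S) ↔ Epi ((Scheme.Modules.pullback f).map v) := by
  haveI : SheafOfModules.IsFiniteType (R := S.ringCatSheaf) F := hF
  haveI : (cokernel v).IsQuasicoherent :=
    Groth.Agent.Lib.Helper23.QCohLocal.isQuasicoherent_cokernel v
  haveI : SheafOfModules.IsFiniteType (R := S.ringCatSheaf) (cokernel v : S.Modules) :=
    Groth.Agent.Lib.Helper20.Nakayama.isFiniteType_of_epi (cokernel.π v)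
  let Q : S.Modules := cokernel v
  have hopen : IsOpen {s : S | Subsingleton (Q.presheaf.stalk s)} := by
    rw [isOpen_iff_forall_mem_open]
    intro s hs
    obtain ⟨V, hsV, hV⟩ :=
      Groth.Agent.Lib.Helper20.SuppClosed.exists_opens_subsingleton_stalk Q s hs
    exact ⟨V, fun y hy => hV y hy, V.2, hsV⟩
  refine ⟨⟨_, hopen⟩, fun T f => ?_⟩
  have e := PreservesCokernel.iso (Scheme.Modules.pullback f) v
  have key : Epi ((Scheme.Modules.pullback f).map v) ↔
      IsZero ((Scheme.Modules.pullback f).obj Q) := by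
    constructor
    · intro h
      exact IsZero.of_iso (isZero_cokernel_of_epi _) e
    · intro h
      have hz : IsZero (cokernel ((Scheme.Modules.pullback f).map v)) := IsZero.of_iso h e.symm
      exact Abelian.epi_of_cokernel_π_eq_zero _ (hz.eq_of_tgt _ _)
  rw [key, isZero_iff_subsingleton_stalk]
  constructor
  · intro h t
    rw [Groth.Agent.Lib.Helper20.PullbackAff.subsingleton_stalk_pullback_iff f Q t]
    exact h ⟨t, rfl⟩
  · rintro h _ ⟨t, rfl⟩
    exact (Groth.Agent.Lib.Helper20.PullbackAff.subsingleton_stalk_pullback_iff f Q t).1 (h t)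

end Groth.Agent.Helper18Epi
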