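import Mathlib
import Groth.Agent.Lib.Helper20PullbackAff
import Groth.Agent.Lib.Helper23ModLocal

/-!
# Sections of pullbacks over affine opens, functorially (helper26)

Namespace `Groth.Agent.Lib.Helper26.ModSec`.

* `restrictNat f hV hU h : ΓUF hV ⋙ extendScalars ⋙ tilde ⟶ pullback f ⋙ restrictFunctor hU.fromSpec`
  and `secNat f hV hU h : ΓUF hV ⋙ extendScalars (f.appLE V U h) ⟶ pullback f ⋙ ΓUF hU`:
  natural transformations (in the module) which are isomorphisms on quasi-coherent modules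
  (`isIso_restrictNat_app`, `isIso_secNat_app`): `Γ(Y,U) ⊗_{Γ(X,V)} Γ(F,V) ≅ Γ(f^*F, U)` naturally in `F`.
* `sq_zero_iff`, `sq_epi_iff`, `sq_mono_iff`, `sq_isIso_iff`: transport along a commutative square with
  invertible sides.
* `spec_zero_iff`, `spec_epi_iff`, `spec_mono_iff`, `spec_isIso_iff`: on `Spec R`, for quasi-coherent modules,
  `ψ = 0`/`Epi`/`Mono`/`IsIso` iff the same for global sections.
* `zero_iff_ΓUF`, `epi_iff_ΓUF`, `mono_iff_ΓUF`, `isIso_iff_ΓUF`: same over an affine open cover.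
* `pullback_zero_iff`, `pullback_epi_iff`, `pullback_mono_iff`, `pullback_isIso_iff`: sections of `f^*φ` over
  `U ≤ f⁻¹V` vs. `Γ(Y,U) ⊗ Γ(φ,V)`.
-/

set_option autoImplicit false
set_option linter.style.haveILetI false
universe u
open CategoryTheory AlgebraicGeometry Limits TensorProduct Opposite TopologicalSpace
open Groth.Agent.Lib.Helper20.Thickening Groth.Agent.Lib.Helper20.OmegaAff

namespace Groth.Agent.Lib.Helper26.ModSec

section sq
variable {C : Type*} [Category C] {A A' B B' : C} (a : A ⟶ B) (b : A' ⟶ B') (e₁ : A ⟶ A')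
  (e₂ : B ⟶ B') (he₁ : IsIso e₁) (he₂ : IsIso e₂) (w : a ≫ e₂ = e₁ ≫ b)
include w he₁ he₂

theorem sq_zero_iff [HasZeroMorphisms C] : a = 0 ↔ b = 0 := by
  constructor
  · intro h
    rw [h, zero_comp] at w
    rw [← cancel_epi e₁, ← w, comp_zero]
  · intro h
    rw [h, comp_zero] at w
    rw [← cancel_mono e₂, w, zero_comp]

theorem sq_epi_iff : Epi a ↔ Epi b := by
  constructor
  · intro h
    have : Epi (e₁ ≫ b) := by rw [← w]; infer_instance
    have h2 : b = inv e₁ ≫ (e₁ ≫ b) := by simp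
    rw [h2]; infer_instance
  · intro h
    have : Epi (a ≫ e₂) := by rw [w]; infer_instance
    have h2 : a = (a ≫ e₂) ≫ inv e₂ := by simp
    rw [h2]; infer_instance

theorem sq_mono_iff : Mono a ↔ Mono b := by
  constructor
  · intro h
    have : Mono (e₁ ≫ b) := by rw [← w]; infer_instance
    have h2 : b = inv e₁ ≫ (e₁ ≫ b) := by simp
    rw [h2]; infer_instance
  · intro h
    have : Mono (a ≫ e₂) := by rw [w]; infer_instance
    have h2 : a = (a ≫ e₂) ≫ inv e₂ := by simp
    rw [h2]; infer_instance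

theorem sq_isIso_iff : IsIso a ↔ IsIso b := by
  constructor
  · intro h
    have : IsIso (e₁ ≫ b) := by rw [← w]; infer_instance
    have h2 : b = inv e₁ ≫ (e₁ ≫ b) := by simp
    rw [h2]; infer_instance
  · intro h
    have : IsIso (a ≫ e₂) := by rw [w]; infer_instance
    have h2 : a = (a ≫ e₂) ≫ inv e₂ := by simp
    rw [h2]; infer_instance

end sq

section spec
variable (R : CommRingCat.{u}) {A B : (Spec R).Modules} (ψ : A ⟶ B)

open Groth.Agent.Lib.Helper23.ModLocal Groth.Agent.Lib.Helper23.QCohLocal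

theorem isIso_εΓ (A : (Spec R).Modules) [A.IsQuasicoherent] : IsIso ((εΓ R).app A) := by
  rw [εΓ_app]; exact isIso_fromTildeΓ A

theorem spec_zero_iff [A.IsQuasicoherent] [B.IsQuasicoherent] :
    ψ = 0 ↔ (ΓF R).map ψ = 0 := by
  have w := (εΓ R).naturality ψ
  refine (sq_zero_iff _ _ _ _ (isIso_εΓ R A) (isIso_εΓ R B) w).symm.trans ?_
  constructor
  · intro h
    exact (tilde.functor R).map_injective (h.trans (Functor.map_zero _ _ _).symm)
  · intro h
    show (tilde.functor R).map ((ΓF R).map ψ) = 0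
    rw [h, Functor.map_zero]

theorem spec_epi_iff [A.IsQuasicoherent] [B.IsQuasicoherent] :
    Epi ψ ↔ Epi ((ΓF R).map ψ) := by
  have w := (εΓ R).naturality ψ
  refine (sq_epi_iff _ _ _ _ (isIso_εΓ R A) (isIso_εΓ R B) w).symm.trans ?_
  constructor
  · intro h
    exact (tilde.functor R).epi_of_epi_map h
  · intro h
    show Epi ((tilde.functor R).map ((ΓF R).map ψ))
    infer_instance

theorem spec_isIso_iff [A.IsQuasicoherent] [B.IsQuasicoherent] :
    IsIso ψ ↔ IsIso ((ΓF R).map ψ) := by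
  have w := (εΓ R).naturality ψ
  refine (sq_isIso_iff _ _ _ _ (isIso_εΓ R A) (isIso_εΓ R B) w).symm.trans ?_
  constructor
  · intro h
    have h' : IsIso ((tilde.functor R).map ((ΓF R).map ψ)) := h
    exact isIso_of_fully_faithful (tilde.functor R) _
  · intro h
    show IsIso ((tilde.functor R).map ((ΓF R).map ψ))
    infer_instance

theorem spec_mono_iff [A.IsQuasicoherent] [B.IsQuasicoherent] :
    Mono ψ ↔ Mono ((ΓF R).map ψ) := by
  constructor
  · intro h
    infer_instance
  · intro h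
    haveI hK : (kernel ψ).IsQuasicoherent := isQuasicoherent_kernel ψ
    have e := PreservesKernel.iso (ΓF R) ψ
    have hz : IsZero ((ΓF R).obj (kernel ψ)) :=
      (isZero_kernel_of_mono _).of_iso e
    haveI := isIso_εΓ R (kernel ψ)
    have hz2 : IsZero (kernel ψ) :=
      ((tilde.functor R).map_isZero hz).of_iso (asIso ((εΓ R).app (kernel ψ))).symm
    exact Preadditive.mono_of_isZero_kernel ψ hz2

end spec

section glob
open Groth.Agent.Lib.Helper23.ModLocal Groth.Agent.Lib.Helper23.QCohLocal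

variable {X : Scheme.{u}}

attribute [local instance] restrictFunctor_isRightAdjoint

instance restrictFunctor_additive {W : Scheme.{u}} (j : W ⟶ X) [IsOpenImmersion j] :
    (Scheme.Modules.restrictFunctor j).Additive :=
  (Scheme.Modules.restrictAdjunction j).left_adjoint_additive

instance restrictFunctor_isLeftAdjoint {W : Scheme.{u}} (j : W ⟶ X) [IsOpenImmersion j] :
    (Scheme.Modules.restrictFunctor j).IsLeftAdjoint :=
  (Scheme.Modules.restrictAdjunction j).isLeftAdjoint

theorem isIso_kernel_ι_of_eq_zero {C : Type*} [Category C] [HasZeroMorphisms C] {X Y : C}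
    (f : X ⟶ Y) [HasKernel f] (h : f = 0) : IsIso (kernel.ι f) := by
  subst h; infer_instance

/-- a morphism of modules vanishing on a jointly surjective family of open immersions vanishes -/
theorem eq_zero_of_restrict_eq_zero {A B : X.Modules} (ψ : A ⟶ B) {ι : Type*} (W : ι → Scheme.{u})
    (j : ∀ i, W i ⟶ X) [∀ i, IsOpenImmersion (j i)] (hj : ∀ x : X, ∃ (i : ι) (y : W i), j i y = x)
    (h : ∀ i, (Scheme.Modules.restrictFunctor (j i)).map ψ = 0) : ψ = 0 := by
  have hepi : Epi (kernel.ι ψ) := by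
    refine epi_of_epi_restrict _ W j hj fun i => ?_
    have h1 : (PreservesKernel.iso (Scheme.Modules.restrictFunctor (j i)) ψ).hom ≫
        kernel.ι ((Scheme.Modules.restrictFunctor (j i)).map ψ) =
        (Scheme.Modules.restrictFunctor (j i)).map (kernel.ι ψ) := by
      simp
    rw [← h1]
    have h2 : IsIso (kernel.ι ((Scheme.Modules.restrictFunctor (j i)).map ψ)) :=
      isIso_kernel_ι_of_eq_zero _ (h i)
    infer_instance
  rw [← cancel_epi (kernel.ι ψ), kernel.condition, comp_zero]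

variable {A B : X.Modules} (ψ : A ⟶ B) {ι : Type*} (V : ι → X.Opens) (hV : IsOpenCover V)
  (hVa : ∀ i, IsAffineOpen (V i))

theorem ΓUF_map_eq_zero {U : X.Opens} (hU : IsAffineOpen U) (h : ψ = 0) :
    (ΓUF hU).map ψ = 0 := by
  rw [h]
  exact ((ΓF Γ(X, U)).map_zero _ _).symm ▸ congrArg (ΓF Γ(X, U)).map
    ((Scheme.Modules.restrictFunctor hU.fromSpec).map_zero _ _)

include hV in
theorem zero_iff_ΓUF [A.IsQuasicoherent] [B.IsQuasicoherent] :
    ψ = 0 ↔ ∀ i, (ΓUF (hVa i)).map ψ = 0 := by
  constructor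
  · intro h i
    exact ΓUF_map_eq_zero ψ (hVa i) h
  · intro h
    refine eq_zero_of_restrict_eq_zero ψ (fun i => Spec Γ(X, V i)) (fun i => (hVa i).fromSpec)
      (exists_fromSpec_eq V hV hVa) fun i => ?_
    exact (spec_zero_iff _ _).2 (h i)

theorem epi_ΓUF_map [A.IsQuasicoherent] [B.IsQuasicoherent] {U : X.Opens} (hU : IsAffineOpen U)
    [Epi ψ] : Epi ((ΓUF hU).map ψ) :=
  (spec_epi_iff _ ((Scheme.Modules.restrictFunctor hU.fromSpec).map ψ)).1 inferInstance

include hV in
theorem epi_iff_ΓUF [A.IsQuasicoherent] [B.IsQuasicoherent] :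
    Epi ψ ↔ ∀ i, Epi ((ΓUF (hVa i)).map ψ) := by
  constructor
  · intro h i
    exact epi_ΓUF_map ψ (hVa i)
  · intro h
    refine epi_of_epi_restrict ψ (fun i => Spec Γ(X, V i)) (fun i => (hVa i).fromSpec)
      (exists_fromSpec_eq V hV hVa) fun i => ?_
    exact (spec_epi_iff _ _).2 (h i)

theorem mono_ΓUF_map [A.IsQuasicoherent] [B.IsQuasicoherent] {U : X.Opens} (hU : IsAffineOpen U)
    [Mono ψ] : Mono ((ΓUF hU).map ψ) :=
  (spec_mono_iff _ ((Scheme.Modules.restrictFunctor hU.fromSpec).map ψ)).1 inferInstance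

include hV in
theorem mono_iff_ΓUF [A.IsQuasicoherent] [B.IsQuasicoherent] :
    Mono ψ ↔ ∀ i, Mono ((ΓUF (hVa i)).map ψ) := by
  constructor
  · intro h i
    exact mono_ΓUF_map ψ (hVa i)
  · intro h
    refine mono_of_mono_restrict ψ (fun i => Spec Γ(X, V i)) (fun i => (hVa i).fromSpec)
      (exists_fromSpec_eq V hV hVa) fun i => ?_
    exact (spec_mono_iff _ _).2 (h i)

include hV in
theorem isIso_iff_ΓUF [A.IsQuasicoherent] [B.IsQuasicoherent] :
    IsIso ψ ↔ ∀ i, IsIso ((ΓUF (hVa i)).map ψ) := by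
  constructor
  · intro h i
    infer_instance
  · intro h
    refine isIso_of_isIso_restrict ψ (fun i => Spec Γ(X, V i)) (fun i => (hVa i).fromSpec)
      (exists_fromSpec_eq V hV hVa) fun i => ?_
    exact (spec_isIso_iff _ _).2 (h i)

end glob


section nat
variable {X Y : Scheme.{u}} (f : Y ⟶ X) {V : X.Opens} (hV : IsAffineOpen V) {U : Y.Opens}
  (hU : IsAffineOpen U) (h : U ≤ f ⁻¹ᵁ V)

/-- the comparison `(Γ(Y,U) ⊗ Γ(F,V))~ ⟶ (f^*F)|_U`, natural in `F`. -/
noncomputable def restrictNat :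
    ΓUF hV ⋙ ModuleCat.extendScalars (f.appLE V U h).hom ⋙ tilde.functor Γ(Y, U) ⟶
      Scheme.Modules.pullback f ⋙ Scheme.Modules.restrictFunctor hU.fromSpec :=
  have hsq : Spec.map (f.appLE V U h) ≫ hV.fromSpec = hU.fromSpec ≫ f :=
    IsAffineOpen.SpecMap_appLE_fromSpec f hV hU h
  let a : ΓUF hV ⋙ ModuleCat.extendScalars (f.appLE V U h).hom ⋙ tilde.functor Γ(Y, U) ⟶
      ΓUF hV ⋙ tilde.functor Γ(X, V) ⋙ Scheme.Modules.pullback (Spec.map (f.appLE V U h)) :=
    Functor.whiskerLeft (ΓUF hV) (pullbackTildeIso (f.appLE V U h)).inv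
  let b : ΓUF hV ⋙ tilde.functor Γ(X, V) ⋙ Scheme.Modules.pullback (Spec.map (f.appLE V U h)) ⟶
      Scheme.Modules.restrictFunctor hV.fromSpec ⋙
        Scheme.Modules.pullback (Spec.map (f.appLE V U h)) :=
    Functor.whiskerLeft (Scheme.Modules.restrictFunctor hV.fromSpec)
      (Functor.whiskerRight (Scheme.Modules.fromTildeΓNatTrans (R := Γ(X, V)))
        (Scheme.Modules.pullback (Spec.map (f.appLE V U h))))
  let c : Scheme.Modules.restrictFunctor hV.fromSpec ⋙
        Scheme.Modules.pullback (Spec.map (f.appLE V U h)) ⟶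
      Scheme.Modules.pullback f ⋙ Scheme.Modules.restrictFunctor hU.fromSpec :=
    Functor.whiskerRight (Scheme.Modules.restrictFunctorIsoPullback hV.fromSpec).hom
        (Scheme.Modules.pullback (Spec.map (f.appLE V U h))) ≫
      (Scheme.Modules.pullbackComp (Spec.map (f.appLE V U h)) hV.fromSpec).hom ≫
      (Scheme.Modules.pullbackCongr hsq).hom ≫
      (Scheme.Modules.pullbackComp hU.fromSpec f).inv ≫
      Functor.whiskerLeft (Scheme.Modules.pullback f)
        (Scheme.Modules.restrictFunctorIsoPullback hU.fromSpec).inv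
  a ≫ b ≫ c

theorem restrictNat_app (F : X.Modules) :
    (restrictNat f hV hU h).app F =
      (pullbackTildeIso (f.appLE V U h)).inv.app ((ΓUF hV).obj F) ≫
      (Scheme.Modules.pullback (Spec.map (f.appLE V U h))).map
        (Scheme.Modules.fromTildeΓ (F.restrict hV.fromSpec)) ≫
      (Scheme.Modules.pullback (Spec.map (f.appLE V U h))).map
        ((Scheme.Modules.restrictFunctorIsoPullback hV.fromSpec).hom.app F) ≫
      (Scheme.Modules.pullbackComp (Spec.map (f.appLE V U h)) hV.fromSpec).hom.app F ≫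
      (Scheme.Modules.pullbackCongr (IsAffineOpen.SpecMap_appLE_fromSpec f hV hU h)).hom.app F ≫
      (Scheme.Modules.pullbackComp hU.fromSpec f).inv.app F ≫
      (Scheme.Modules.restrictFunctorIsoPullback hU.fromSpec).inv.app
        ((Scheme.Modules.pullback f).obj F) := by
  simp only [restrictNat, NatTrans.comp_app, Functor.whiskerLeft_app, Functor.whiskerRight_app]
  rfl

instance isIso_restrictNat_app (F : X.Modules) [F.IsQuasicoherent] :
    IsIso ((restrictNat f hV hU h).app F) := by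
  rw [restrictNat_app]
  haveI : (F.restrict hV.fromSpec).IsQuasicoherent :=
    Scheme.Modules.isQuasicoherent_restrictFunctor hV.fromSpec F
  haveI : IsIso (Scheme.Modules.fromTildeΓ (F.restrict hV.fromSpec)) :=
    Groth.Agent.Lib.Helper23.QCohLocal.isIso_fromTildeΓ _
  have h2 : IsIso ((Scheme.Modules.pullback (Spec.map (f.appLE V U h))).map
        (Scheme.Modules.fromTildeΓ (F.restrict hV.fromSpec))) := Functor.map_isIso _ _
  exact IsIso.comp_isIso' inferInstance (IsIso.comp_isIso' h2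
    (IsIso.comp_isIso' inferInstance (IsIso.comp_isIso' inferInstance
    (IsIso.comp_isIso' inferInstance (IsIso.comp_isIso' inferInstance inferInstance)))))

/-- the comparison `Γ(Y,U) ⊗ Γ(F,V) ⟶ Γ(f^*F, U)`, natural in `F`. -/
noncomputable def secNat :
    ΓUF hV ⋙ ModuleCat.extendScalars (f.appLE V U h).hom ⟶
      Scheme.Modules.pullback f ⋙ ΓUF hU :=
  Functor.whiskerLeft (ΓUF hV ⋙ ModuleCat.extendScalars (f.appLE V U h).hom)
      (tilde.toTildeΓNatIso (R := Γ(Y, U))).hom ≫
    Functor.whiskerRight (restrictNat f hV hU h) (moduleSpecΓFunctor (R := Γ(Y, U)))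

instance isIso_secNat_app (F : X.Modules) [F.IsQuasicoherent] :
    IsIso ((secNat f hV hU h).app F) := by
  simp only [secNat, NatTrans.comp_app, Functor.whiskerLeft_app, Functor.whiskerRight_app]
  infer_instance

theorem secNat_naturality {F G : X.Modules} (φ : F ⟶ G) :
    (ModuleCat.extendScalars (f.appLE V U h).hom).map ((ΓUF hV).map φ) ≫
        (secNat f hV hU h).app G =
      (secNat f hV hU h).app F ≫ (ΓUF hU).map ((Scheme.Modules.pullback f).map φ) :=
  (secNat f hV hU h).naturality φ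

end nat


section transfer
variable {X Y : Scheme.{u}} (f : Y ⟶ X) {V : X.Opens} (hV : IsAffineOpen V) {U : Y.Opens}
  (hU : IsAffineOpen U) (h : U ≤ f ⁻¹ᵁ V) {F G : X.Modules} [F.IsQuasicoherent]
  [G.IsQuasicoherent] (φ : F ⟶ G)

theorem pullback_zero_iff :
    (ΓUF hU).map ((Scheme.Modules.pullback f).map φ) = 0 ↔
      (ModuleCat.extendScalars (f.appLE V U h).hom).map ((ΓUF hV).map φ) = 0 :=
  (sq_zero_iff _ _ _ _ (isIso_secNat_app f hV hU h F) (isIso_secNat_app f hV hU h G)
    (secNat_naturality f hV hU h φ)).symm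

theorem pullback_epi_iff :
    Epi ((ΓUF hU).map ((Scheme.Modules.pullback f).map φ)) ↔
      Epi ((ModuleCat.extendScalars (f.appLE V U h).hom).map ((ΓUF hV).map φ)) :=
  (sq_epi_iff _ _ _ _ (isIso_secNat_app f hV hU h F) (isIso_secNat_app f hV hU h G)
    (secNat_naturality f hV hU h φ)).symm

theorem pullback_mono_iff :
    Mono ((ΓUF hU).map ((Scheme.Modules.pullback f).map φ)) ↔
      Mono ((ModuleCat.extendScalars (f.appLE V U h).hom).map ((ΓUF hV).map φ)) :=
  (sq_mono_iff _ _ _ _ (isIso_secNat_app f hV hU h F) (isIso_secNat_app f hV hU h G)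
    (secNat_naturality f hV hU h φ)).symm

theorem pullback_isIso_iff :
    IsIso ((ΓUF hU).map ((Scheme.Modules.pullback f).map φ)) ↔
      IsIso ((ModuleCat.extendScalars (f.appLE V U h).hom).map ((ΓUF hV).map φ)) :=
  (sq_isIso_iff _ _ _ _ (isIso_secNat_app f hV hU h F) (isIso_secNat_app f hV hU h G)
    (secNat_naturality f hV hU h φ)).symm

end transfer

end Groth.Agent.Lib.Helper26.ModSec
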