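import Mathlib
import Groth.Agent.Lib.Helper26ModSec
import Groth.Agent.Lib.Helper18ColimSys

/-!
# Modules on limits of schemes: morphisms vanish at a finite stage (helper26)

Namespace `Groth.Agent.Lib.Helper26.ModLim`.

* `Sys.exists_tmul_eq_zero`: for a (helper18) directed system `Sys R G A g` and a linear map `d : M → N`
  from a finite module, if `1 ⊗ d m = 0` in `A ⊗ N` for all `m`, the same holds in some `G j ⊗ N`.
* `Gj`, `ψG`, `ψA`, `gG`, `tr`, `gAlg`, `trAlg`, `sys`: for a cofiltered limit `S = lim S_i` with affine transition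
  maps and an affine open `V ⊆ S_{i₀}`, the rings `Γ(S_j, u_j⁻¹V)` (`j : Over i₀`) form a `Sys` over `Γ(S_{i₀}, V)`
  with colimit `Γ(S, u⁻¹V)`.
* `exists_extendScalars_map_eq_zero`: zero at the limit implies zero at a stage (and all later stages).
* `exists_pullback_map_eq_zero`: EGA IV 8.5.2.5 (injectivity): for `δ : F₀ ⟶ G₀` quasi-coherent on a quasi-compact
  stage, `F₀` of finite type, `u^*δ = 0 → ∃ j, u_j^*δ = 0`.
-/

set_option autoImplicit false
set_option linter.style.haveILetI false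
set_option linter.unusedSectionVars false
universe u
open CategoryTheory AlgebraicGeometry Limits TensorProduct Opposite TopologicalSpace
open Groth.Agent.Lib.Helper20.Thickening Groth.Agent.Lib.Helper18ColimSys

namespace Groth.Agent.Lib.Helper26.ModLim

theorem appLE_comp_of_eq {X Y Z : Scheme.{u}} (q : X ⟶ Y) (g : Y ⟶ Z) (p : X ⟶ Z)
    (e : q ≫ g = p) (W : Z.Opens) (V : Y.Opens) (U : X.Opens) (e₁ : V ≤ g ⁻¹ᵁ W)
    (e₂ : U ≤ q ⁻¹ᵁ V) (e₃ : U ≤ p ⁻¹ᵁ W) :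
    g.appLE W V e₁ ≫ q.appLE V U e₂ = p.appLE W U e₃ := by
  subst e; rw [Scheme.Hom.appLE_comp_appLE]

set_option backward.defeqAttrib.useBackward true in
set_option backward.isDefEq.respectTransparency false in
open Scheme.Opens in
/-- sections over the preimage of an affine open come from a finite stage -/
theorem exists_appLE_eq {I : Type u} [Category.{u} I] [IsCofiltered I] (D : I ⥤ Scheme.{u})
    (c : Cone D) (hc : IsLimit c) [∀ {i j} (f : i ⟶ j), IsAffineHom (D.map f)]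
    (i : I) (V : (D.obj i).Opens) (hV : IsAffineOpen V) (r : Γ(c.pt, c.π.app i ⁻¹ᵁ V)) :
    ∃ (j : I) (f : j ⟶ i) (s : Γ(D.obj j, D.map f ⁻¹ᵁ V)),
      r = (c.π.app j).appLE (D.map f ⁻¹ᵁ V) (c.π.app i ⁻¹ᵁ V)
        (by rw [← Scheme.Hom.comp_preimage, c.w]) s := by
  have (j : _) : IsAffine ((opensDiagram D i V).op.obj j).unop := hV.preimage _
  have (j : _) : IsAffine ((opensDiagram D i V).obj j) := hV.preimage _
  obtain ⟨⟨j⟩, s, hs⟩ := (Types.jointly_surjective_of_isColimit (isColimitOfPreserves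
    (Scheme.Γ ⋙ forget _) (isLimitOpensCone D c hc i V).op) ((c.π.app i ⁻¹ᵁ V).topIso.inv r))
  obtain ⟨s, rfl⟩ := (D.map j.hom ⁻¹ᵁ V).topIso.symm.commRingCatIsoToRingEquiv.surjective s
  have h : c.π.app j.left ⁻¹ᵁ D.map j.hom ⁻¹ᵁ V = c.π.app i ⁻¹ᵁ V := congr($(c.w j.hom) ⁻¹ᵁ V)
  have : r = (c.π.app j.left).appLE (D.map j.hom ⁻¹ᵁ V) (c.π.app i ⁻¹ᵁ V) h.ge s := by
    convert!
      show r = ((topIso _).inv ≫ ((opensCone D c i V).π.app j).appTop ≫ (topIso _).hom) s from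
        (c.π.app i ⁻¹ᵁ V).topIso.commRingCatIsoToRingEquiv.symm_apply_eq.mp hs.symm using 3
    simp [Scheme.Hom.app_eq_appLE, Scheme.Hom.resLE_appLE]
  exact ⟨j.left, j.hom, s, this⟩

theorem app_eq_zero_of_appLE {X Y : Scheme.{u}} (p : X ⟶ Y) (W : Y.Opens) (U : X.Opens)
    (hle : U ≤ p ⁻¹ᵁ W) (hge : p ⁻¹ᵁ W ≤ U) (z : Γ(Y, W)) (hz : (p.appLE W U hle).hom z = 0) :
    (p.app W).hom z = 0 := by
  have := congrArg (X.presheaf.map (homOfLE hge).op).hom hz
  rw [map_zero, ← RingHom.comp_apply, ← CommRingCat.hom_comp, Scheme.Hom.appLE_map,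
    ← Scheme.Hom.app_eq_appLE] at this
  exact this

section bridge

theorem extendScalars_map_eq_zero_iff {R S : Type u} [CommRing R] [CommRing S] (f : R →+* S)
    {M N : ModuleCat.{u} R} (d : M ⟶ N) :
    (ModuleCat.extendScalars f).map d = 0 ↔
      ∀ m : M, @TensorProduct.tmul R _ S N _ _ f.toAlgebra.toModule _ (1 : S) (d.hom m) = 0 := by
  letI := f.toAlgebra
  constructor
  · intro h m
    have := congrArg (fun k => k.hom ((1 : S) ⊗ₜ[R] m)) h
    exact this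
  · intro h
    apply ModuleCat.ExtendScalars.hom_ext
    intro m
    exact h m

end bridge

section alg
variable {R : Type u} [CommRing R] {ι : Type u} {G : ι → Type u} [∀ i, CommRing (G i)]
    [∀ i, Algebra R (G i)] {A : Type u} [CommRing A] [Algebra R A] {g : ∀ i, G i →ₐ[R] A}

/-- if `1 ⊗ d m = 0` in `A ⊗ N` for all `m` in a finite module `M`, the same holds at a finite stage. -/
theorem Sys.exists_tmul_eq_zero (hS : Sys R G A g) {M N : Type u} [AddCommGroup M] [Module R M]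
    [AddCommGroup N] [Module R N] [Module.Finite R M] (d : M →ₗ[R] N)
    (h : ∀ m, (1 : A) ⊗ₜ[R] d m = 0) : ∃ j, ∀ m, (1 : G j) ⊗ₜ[R] d m = 0 := by
  classical
  obtain ⟨s, hs⟩ := (Module.finite_def (R := R) (M := M)).1 inferInstance
  obtain ⟨i₁⟩ := hS.nonempty
  obtain ⟨j, φ, -, hφ⟩ := hS.tensor_kill_left_finset N i₁
    (s.image fun m => (1 : G i₁) ⊗ₜ[R] d m) (by
      intro z hz
      obtain ⟨m, -, rfl⟩ := Finset.mem_image.1 hz
      rw [LinearMap.rTensor_tmul, AlgHom.toLinearMap_apply, map_one]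
      exact h m)
  refine ⟨j, fun m => ?_⟩
  have hm : m ∈ Submodule.span R (s : Set M) := by rw [hs]; trivial
  induction hm using Submodule.span_induction with
  | mem x hx =>
    have := hφ _ (Finset.mem_image_of_mem _ hx)
    rwa [LinearMap.rTensor_tmul, AlgHom.toLinearMap_apply, map_one] at this
  | zero => simp
  | add x y _ _ hx hy => rw [map_add, TensorProduct.tmul_add, hx, hy, add_zero]
  | smul r x _ hx => rw [map_smul, TensorProduct.tmul_smul, hx, smul_zero]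

end alg

section geom
variable {I : Type u} [SmallCategory I] [IsCofiltered I] (D : I ⥤ Scheme.{u}) (c : Cone D)
  (hc : IsLimit c) [∀ (i j : I) (f : i ⟶ j), IsAffineHom (D.map f)] (i₀ : I)
  (V : (D.obj i₀).Opens)

/-- `Γ(S_j, u_j⁻¹ V)` -/
abbrev Gj (j : Over i₀) : CommRingCat.{u} := Γ(D.obj j.left, D.map j.hom ⁻¹ᵁ V)

/-- `Γ(S_{i₀}, V) ⟶ Γ(S_j, u_j⁻¹ V)` -/
noncomputable abbrev ψG (j : Over i₀) : Γ(D.obj i₀, V) ⟶ Gj D i₀ V j :=
  (D.map j.hom).appLE V (D.map j.hom ⁻¹ᵁ V) le_rfl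

/-- `Γ(S_{i₀}, V) ⟶ Γ(S, u⁻¹ V)` -/
noncomputable abbrev ψA : Γ(D.obj i₀, V) ⟶ Γ(c.pt, c.π.app i₀ ⁻¹ᵁ V) :=
  (c.π.app i₀).appLE V (c.π.app i₀ ⁻¹ᵁ V) le_rfl

theorem le_π (j : Over i₀) : c.π.app i₀ ⁻¹ᵁ V ≤ c.π.app j.left ⁻¹ᵁ (D.map j.hom ⁻¹ᵁ V) := by
  rw [← Scheme.Hom.comp_preimage, c.w]

/-- `Γ(S_j, u_j⁻¹ V) ⟶ Γ(S, u⁻¹ V)` -/
noncomputable abbrev gG (j : Over i₀) : Gj D i₀ V j ⟶ Γ(c.pt, c.π.app i₀ ⁻¹ᵁ V) :=
  (c.π.app j.left).appLE (D.map j.hom ⁻¹ᵁ V) (c.π.app i₀ ⁻¹ᵁ V) (le_π D c i₀ V j)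

theorem le_tr {j j' : Over i₀} (a : j' ⟶ j) :
    D.map j'.hom ⁻¹ᵁ V ≤ D.map a.left ⁻¹ᵁ (D.map j.hom ⁻¹ᵁ V) := by
  rw [← Scheme.Hom.comp_preimage, ← D.map_comp, Over.w]

/-- transition maps -/
noncomputable abbrev tr {j j' : Over i₀} (a : j' ⟶ j) : Gj D i₀ V j ⟶ Gj D i₀ V j' :=
  (D.map a.left).appLE (D.map j.hom ⁻¹ᵁ V) (D.map j'.hom ⁻¹ᵁ V) (le_tr D i₀ V a)

theorem ψG_gG (j : Over i₀) : ψG D i₀ V j ≫ gG D c i₀ V j = ψA D c i₀ V :=
  appLE_comp_of_eq _ _ _ (c.w j.hom) _ _ _ _ _ _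

theorem ψG_tr {j j' : Over i₀} (a : j' ⟶ j) : ψG D i₀ V j ≫ tr D i₀ V a = ψG D i₀ V j' :=
  appLE_comp_of_eq _ _ _ (by rw [← D.map_comp, Over.w]) _ _ _ _ _ _

theorem tr_gG {j j' : Over i₀} (a : j' ⟶ j) : tr D i₀ V a ≫ gG D c i₀ V j' = gG D c i₀ V j :=
  appLE_comp_of_eq _ _ _ (c.w a.left) _ _ _ _ _ _

/-- the algebra structures -/
@[reducible] noncomputable def algG (j : Over i₀) : Algebra Γ(D.obj i₀, V) (Gj D i₀ V j) :=
  (ψG D i₀ V j).hom.toAlgebra

@[reducible] noncomputable def algA : Algebra Γ(D.obj i₀, V) Γ(c.pt, c.π.app i₀ ⁻¹ᵁ V) :=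
  (ψA D c i₀ V).hom.toAlgebra

attribute [local instance] algG algA

/-- `gG` as an algebra map -/
noncomputable def gAlg (j : Over i₀) :
    Gj D i₀ V j →ₐ[Γ(D.obj i₀, V)] Γ(c.pt, c.π.app i₀ ⁻¹ᵁ V) :=
  { (gG D c i₀ V j).hom with
    commutes' := fun r => by
      have := congrArg (fun k => k.hom r) (ψG_gG D c i₀ V j)
      exact this }

/-- `tr` as an algebra map -/
noncomputable def trAlg {j j' : Over i₀} (a : j' ⟶ j) :
    Gj D i₀ V j →ₐ[Γ(D.obj i₀, V)] Gj D i₀ V j' :=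
  { (tr D i₀ V a).hom with
    commutes' := fun r => by
      have := congrArg (fun k => k.hom r) (ψG_tr D i₀ V a)
      exact this }

theorem gAlg_comp_trAlg {j j' : Over i₀} (a : j' ⟶ j) :
    (gAlg D c i₀ V j').comp (trAlg D i₀ V a) = gAlg D c i₀ V j := by
  ext r
  have := congrArg (fun k => k.hom r) (tr_gG D c i₀ V a)
  exact this

include hc in
theorem sys (hV : IsAffineOpen V) :
    Sys Γ(D.obj i₀, V) (fun j : Over i₀ => Gj D i₀ V j) Γ(c.pt, c.π.app i₀ ⁻¹ᵁ V)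
      (fun j => gAlg D c i₀ V j) where
  nonempty := ⟨Over.mk (𝟙 i₀)⟩
  surj a := by
    obtain ⟨j, f, s, hs⟩ := exists_appLE_eq D c hc i₀ V hV a
    exact ⟨Over.mk f, s, hs.symm⟩
  dir j₁ j₂ :=
    ⟨IsCofiltered.min j₁ j₂, trAlg D i₀ V (IsCofiltered.minToLeft j₁ j₂),
      trAlg D i₀ V (IsCofiltered.minToRight j₁ j₂), gAlg_comp_trAlg D c i₀ V _,
      gAlg_comp_trAlg D c i₀ V _⟩
  ker j x hx := by
    have hx' : ((c.π.app j.left).app (D.map j.hom ⁻¹ᵁ V)).hom x = 0 :=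
      app_eq_zero_of_appLE _ _ _ (le_π D c i₀ V j)
        (by rw [← Scheme.Hom.comp_preimage, c.w]) x hx
    obtain ⟨j', f, hf⟩ := exists_app_map_eq_zero_of_isLimit D c hc
      ((hV.preimage (D.map j.hom)).isCompact) x hx'
    refine ⟨Over.mk (f ≫ j.hom), trAlg D i₀ V (Over.homMk f : Over.mk (f ≫ j.hom) ⟶ j),
      gAlg_comp_trAlg D c i₀ V _, ?_⟩
    show ((D.map f).appLE _ _ _).hom x = 0
    unfold Scheme.Hom.appLE
    rw [CommRingCat.hom_comp, RingHom.comp_apply]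
    erw [hf]
    rw [map_zero]

include hc in
/-- **zero at the limit implies zero at a finite stage**, for base changes of a linear map from a finite
module over the sections on an affine open of `S_{i₀}`. -/
theorem exists_extendScalars_map_eq_zero (hV : IsAffineOpen V)
    {M N : ModuleCat.{u} Γ(D.obj i₀, V)} [Module.Finite Γ(D.obj i₀, V) M] (d : M ⟶ N)
    (h : (ModuleCat.extendScalars (ψA D c i₀ V).hom).map d = 0) :
    ∃ j : Over i₀, ∀ (j' : Over i₀) (_ : j' ⟶ j),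
      (ModuleCat.extendScalars (ψG D i₀ V j').hom).map d = 0 := by
  rw [extendScalars_map_eq_zero_iff] at h
  obtain ⟨j, hj⟩ := Sys.exists_tmul_eq_zero (sys D c hc i₀ V hV) d.hom h
  refine ⟨j, fun j' a => ?_⟩
  rw [extendScalars_map_eq_zero_iff]
  intro m
  have := congrArg ((trAlg D i₀ V a).toLinearMap.rTensor N) (hj m)
  rwa [LinearMap.rTensor_tmul, AlgHom.toLinearMap_apply, map_one, map_zero] at this

end geom

section sheaf
variable {I : Type u} [SmallCategory I] [IsCofiltered I] (D : I ⥤ Scheme.{u}) (c : Cone D)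
  (hc : IsLimit c) [∀ (i j : I) (f : i ⟶ j), IsAffineHom (D.map f)] (i₀ : I)

open Groth.Agent.Lib.Helper26.ModSec Groth.Agent.Lib.Helper20.PullbackAff

theorem exists_finite_affine_cover (X : Scheme.{u}) [CompactSpace X] :
    ∃ s : Finset X.affineOpens, IsOpenCover (fun k : s => (k.1 : X.Opens)) :=
  IsOpenCover.exists_finite_of_compactSpace (u := fun U : X.affineOpens => (U : X.Opens))
    (iSup_affineOpens_eq_top X)

theorem isOpenCover_preimage {X Y : Scheme.{u}} (f : Y ⟶ X) {ι : Type*} {V : ι → X.Opens}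
    (hV : IsOpenCover V) : IsOpenCover (fun k => f ⁻¹ᵁ V k) := by
  rw [IsOpenCover, ← Scheme.Hom.preimage_iSup, hV.iSup_eq_top]
  rfl

theorem finite_ΓUF {X : Scheme.{u}} (F : X.Modules) [F.IsQuasicoherent]
    (hF : SheafOfModules.IsFiniteType (R := X.ringCatSheaf) F) {U : X.Opens}
    (hU : IsAffineOpen U) : Module.Finite Γ(X, U) ((ΓUF hU).obj F) := by
  haveI := hF
  haveI : Module.Finite Γ(X, U) Γ(F, U) :=
    Groth.Agent.Lib.Helper23.FinType.finite_of_isFiniteType F hU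
  exact Module.Finite.equiv (ΓUEquiv hU F)

include hc in
/-- **EGA IV 8.5.2.5, injectivity part**: a morphism from a finite type quasi-coherent module on a
quasi-compact stage whose pullback to the limit vanishes has vanishing pullback to some stage. -/
theorem exists_pullback_map_eq_zero [CompactSpace (D.obj i₀)] {F₀ G₀ : (D.obj i₀).Modules}
    [F₀.IsQuasicoherent] [G₀.IsQuasicoherent]
    (hF₀ : SheafOfModules.IsFiniteType (R := (D.obj i₀).ringCatSheaf) F₀) (δ : F₀ ⟶ G₀)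
    (h : (Scheme.Modules.pullback (c.π.app i₀)).map δ = 0) :
    ∃ (j : I) (φ : j ⟶ i₀), (Scheme.Modules.pullback (D.map φ)).map δ = 0 := by
  classical
  obtain ⟨s, hs⟩ := exists_finite_affine_cover (D.obj i₀)
  haveI := isAffineHom_π_app D c hc i₀
  have key : ∀ k : s, ∃ j : Over i₀, ∀ (j' : Over i₀) (_ : j' ⟶ j),
      (ModuleCat.extendScalars (ψG D i₀ k.1.1 j').hom).map ((ΓUF k.1.2).map δ) = 0 := by
    intro k
    haveI := finite_ΓUF F₀ hF₀ k.1.2
    refine exists_extendScalars_map_eq_zero D c hc i₀ k.1.1 k.1.2 _ ?_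
    refine (pullback_zero_iff (c.π.app i₀) k.1.2 (k.1.2.preimage (c.π.app i₀)) le_rfl δ).1 ?_
    exact ΓUF_map_eq_zero _ _ h
  choose jk hjk using key
  obtain ⟨j, hj⟩ := IsCofiltered.inf_objs_exists (Finset.univ.image jk)
  refine ⟨j.left, j.hom, ?_⟩
  refine (zero_iff_ΓUF _ (fun k : s => D.map j.hom ⁻¹ᵁ k.1.1) (isOpenCover_preimage _ hs)
    (fun k => k.1.2.preimage (D.map j.hom))).2 fun k => ?_
  obtain ⟨a⟩ := hj (Finset.mem_image_of_mem jk (Finset.mem_univ k))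
  exact (pullback_zero_iff (D.map j.hom) k.1.2 (k.1.2.preimage (D.map j.hom)) le_rfl δ).2
    (hjk k j a)

end sheaf

end Groth.Agent.Lib.Helper26.ModLim
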