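import Mathlib
import Groth.Agent.Lib.Helper26ModLim
import Groth.Agent.Lib.Helper18Strict6
import Groth.Agent.Lib.Helper20FormalPull
import Groth.Agent.Lib.Helper18Epi1

/-!
# Modules on limits of schemes: epimorphisms and isomorphisms at a finite stage (helper26)

Namespace `Groth.Agent.Lib.Helper26.ModLim2`.

* `isFiniteType_kernel_of_epi`: kernel of an epi from finite type onto finite presentation (quasi-coherent) is of
  finite type.
* `compIso`, `isIso_pullback_comp_iff`, `epi_pullback_comp_iff`, `mono_pullback_comp_iff`, `zero_pullback_comp_iff`: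
  `p^* a` vs `f^* g^* a` for `p = f ≫ g`.
* `isIso_map_of_epi_of_map_kernel_ι_eq_zero`.
* `exists_preimage_eq_top`, `exists_epi_pullback_map`, `exists_isIso_pullback_map`: EGA IV 8.5.2.4.
-/

set_option autoImplicit false
set_option linter.style.haveILetI false
set_option linter.unusedSectionVars false
universe u
open CategoryTheory AlgebraicGeometry Limits TensorProduct Opposite TopologicalSpace
open Groth.Agent.Lib.Helper20.Thickening Groth.Agent.Lib.Helper26.ModSec
  Groth.Agent.Lib.Helper26.ModLim Groth.Agent.Lib.Helper20.PullbackAff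

namespace Groth.Agent.Lib.Helper26.ModLim2

section ker
variable {X : Scheme.{u}}

open Groth.Agent.Lib.Helper23.QCohLocal in
attribute [local instance] restrictFunctor_isRightAdjoint

instance ΓUF_isRightAdjoint {U : X.Opens} (hU : IsAffineOpen U) : (ΓUF hU).IsRightAdjoint := by
  haveI : (moduleSpecΓFunctor (R := Γ(X, U))).IsRightAdjoint := ⟨_, ⟨tilde.adjunction⟩⟩
  unfold ΓUF
  infer_instance

/-- the kernel of an epimorphism from a quasi-coherent module of finite type onto a quasi-coherent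
module of finite presentation is of finite type. -/
theorem isFiniteType_kernel_of_epi {F G : X.Modules} [F.IsQuasicoherent] [G.IsQuasicoherent]
    (hF : SheafOfModules.IsFiniteType (R := X.ringCatSheaf) F)
    (hG : SheafOfModules.IsFinitePresentation (R := X.ringCatSheaf) G) (f : F ⟶ G) [Epi f] :
    SheafOfModules.IsFiniteType (R := X.ringCatSheaf) (kernel f) := by
  haveI : (kernel f).IsQuasicoherent :=
    Groth.Agent.Lib.Helper23.QCohLocal.isQuasicoherent_kernel f
  refine Groth.Agent.Lib.Helper23.FinType.isFiniteType_of_finite_ΓU (kernel f)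
    (fun U : X.affineOpens => (U : X.Opens)) (iSup_affineOpens_eq_top X) (fun U => U.2)
    fun U => ?_
  haveI := hG
  haveI : Module.Finite Γ(X, U.1) ((ΓUF U.2).obj F) := finite_ΓUF F hF U.2
  haveI : Module.FinitePresentation Γ(X, U.1) Γ(G, U.1) :=
    Groth.Agent.Lib.Helper2.FPAff.finitePresentation_sections G U.2
  haveI : Module.FinitePresentation Γ(X, U.1) ((ΓUF U.2).obj G) :=
    Module.FinitePresentation.of_equiv (ΓUEquiv U.2 G)
  haveI : Epi ((ΓUF U.2).map f) := epi_ΓUF_map f U.2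
  have hsurj : Function.Surjective ((ΓUF U.2).map f).hom :=
    (ModuleCat.epi_iff_surjective _).1 inferInstance
  have hfg := Module.FinitePresentation.fg_ker ((ΓUF U.2).map f).hom hsurj
  haveI : Module.Finite Γ(X, U.1) (LinearMap.ker ((ΓUF U.2).map f).hom) :=
    Module.Finite.iff_fg.2 hfg
  let e : (ΓUF U.2).obj (kernel f) ≅ kernel ((ΓUF U.2).map f) := PreservesKernel.iso (ΓUF U.2) f
  let e2 := e ≪≫ ModuleCat.kernelIsoKer ((ΓUF U.2).map f)
  exact Module.Finite.equiv e2.toLinearEquiv.symm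

end ker

section comp
variable {X Y Z : Scheme.{u}} (f : X ⟶ Y) (g : Y ⟶ Z) (p : X ⟶ Z)
  {F G : Z.Modules}

instance pullback_additive : (Scheme.Modules.pullback f).Additive :=
  (Scheme.Modules.pullbackPushforwardAdjunction f).left_adjoint_additive

/-- the canonical isomorphism `f^* g^* ≅ p^*` for `p = f ≫ g`. -/
noncomputable def compIso (e : f ≫ g = p) :
    Scheme.Modules.pullback g ⋙ Scheme.Modules.pullback f ≅ Scheme.Modules.pullback p :=
  Scheme.Modules.pullbackComp f g ≪≫ Scheme.Modules.pullbackCongr e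

theorem compIso_sq (e : f ≫ g = p) (a : F ⟶ G) :
    (Scheme.Modules.pullback f).map ((Scheme.Modules.pullback g).map a) ≫
        (compIso f g p e).hom.app G =
      (compIso f g p e).hom.app F ≫ (Scheme.Modules.pullback p).map a :=
  (compIso f g p e).hom.naturality a

theorem isIso_pullback_comp_iff (e : f ≫ g = p) (a : F ⟶ G) :
    IsIso ((Scheme.Modules.pullback p).map a) ↔
      IsIso ((Scheme.Modules.pullback f).map ((Scheme.Modules.pullback g).map a)) :=
  (sq_isIso_iff _ _ _ _ inferInstance inferInstance (compIso_sq f g p e a)).symm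

theorem epi_pullback_comp_iff (e : f ≫ g = p) (a : F ⟶ G) :
    Epi ((Scheme.Modules.pullback p).map a) ↔
      Epi ((Scheme.Modules.pullback f).map ((Scheme.Modules.pullback g).map a)) :=
  (sq_epi_iff _ _ _ _ inferInstance inferInstance (compIso_sq f g p e a)).symm

theorem mono_pullback_comp_iff (e : f ≫ g = p) (a : F ⟶ G) :
    Mono ((Scheme.Modules.pullback p).map a) ↔
      Mono ((Scheme.Modules.pullback f).map ((Scheme.Modules.pullback g).map a)) :=
  (sq_mono_iff _ _ _ _ inferInstance inferInstance (compIso_sq f g p e a)).symm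

theorem zero_pullback_comp_iff (e : f ≫ g = p) (a : F ⟶ G) :
    (Scheme.Modules.pullback p).map a = 0 ↔
      (Scheme.Modules.pullback f).map ((Scheme.Modules.pullback g).map a) = 0 :=
  (sq_zero_iff _ _ _ _ inferInstance inferInstance (compIso_sq f g p e a)).symm

/-- a right exact functor sends an epimorphism whose kernel inclusion it kills to an isomorphism. -/
theorem isIso_map_of_epi_of_map_kernel_ι_eq_zero {C E : Type*} [Category C] [Abelian C]
    [Category E] [Abelian E] (P : C ⥤ E) [P.Additive] [PreservesFiniteColimits P] {A B : C}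
    (q : A ⟶ B) [Epi q] (h : P.map (kernel.ι q) = 0) : IsIso (P.map q) := by
  have hc : IsColimit (CokernelCofork.ofπ q (kernel.condition q)) :=
    Abelian.epiIsCokernelOfKernel (KernelFork.ofι (kernel.ι q) (kernel.condition q))
      (kernelIsKernel q)
  have hc' := CokernelCofork.mapIsColimit _ hc P
  exact CokernelCofork.IsColimit.isIso_π _ hc' h

end comp

section stage
variable {I : Type u} [SmallCategory I] [IsCofiltered I] (D : I ⥤ Scheme.{u}) (c : Cone D)
  (hc : IsLimit c) [∀ (i j : I) (f : i ⟶ j), IsAffineHom (D.map f)] (i₀ : I)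

theorem compactSpace_of_hom [CompactSpace (D.obj i₀)] {j : I} (φ : j ⟶ i₀) :
    CompactSpace (D.obj j) :=
  QuasiCompact.compactSpace_of_compactSpace (D.map φ)

include hc in
/-- closed-set compactness for a limit with only one quasi-compact stage -/
theorem exists_preimage_eq_top [CompactSpace (D.obj i₀)]
    (U : (D.obj i₀).Opens) (hU : c.π.app i₀ ⁻¹ᵁ U = ⊤) :
    ∃ (j : I) (φ : j ⟶ i₀), D.map φ ⁻¹ᵁ U = ⊤ := by
  have i1 : ∀ (j k : Over i₀) (f : j ⟶ k), IsAffineHom ((Over.forget i₀ ⋙ D).map f) :=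
    fun j k f => (inferInstance : IsAffineHom (D.map f.left))
  have i0 : ∀ j : Over i₀, ∃ φ : D.obj j.left ⟶ D.obj i₀, IsAffineHom φ := fun j =>
    ⟨D.map j.hom, inferInstance⟩
  have i2 : ∀ j : Over i₀, CompactSpace ((Over.forget i₀ ⋙ D).obj j) := fun j => by
    obtain ⟨φ, hφ⟩ := i0 j
    show CompactSpace (D.obj j.left)
    exact QuasiCompact.compactSpace_of_compactSpace φ
  have hc' : IsLimit (c.whisker (Over.forget i₀)) :=
    (Functor.Initial.isLimitWhiskerEquiv (Over.forget i₀) c).symm hc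
  obtain ⟨j, fj, hj⟩ := exists_map_eq_top (Over.forget i₀ ⋙ D) (c.whisker (Over.forget i₀)) hc'
    (i := Over.mk (𝟙 i₀)) U hU
  exact ⟨j.left, fj.left, hj⟩

include hc in
/-- EGA IV 8.5.2.4 for epimorphisms. -/
theorem exists_epi_pullback_map [CompactSpace (D.obj i₀)] {F₀ G₀ : (D.obj i₀).Modules}
    [F₀.IsQuasicoherent] [G₀.IsQuasicoherent]
    (hG₀ : SheafOfModules.IsFiniteType (R := (D.obj i₀).ringCatSheaf) G₀) (f₀ : F₀ ⟶ G₀)
    (h : Epi ((Scheme.Modules.pullback (c.π.app i₀)).map f₀)) :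
    ∃ (j : I) (φ : j ⟶ i₀), Epi ((Scheme.Modules.pullback (D.map φ)).map f₀) := by
  obtain ⟨U, hU⟩ := Groth.Agent.Helper18Epi.main_S10844 hG₀ f₀
  have h1 := (hU _ (c.π.app i₀)).2 h
  have h2 : c.π.app i₀ ⁻¹ᵁ U = ⊤ := by
    ext x
    simp only [TopologicalSpace.Opens.map_coe, Set.mem_preimage, SetLike.mem_coe,
      TopologicalSpace.Opens.coe_top, Set.mem_univ, iff_true]
    exact h1 ⟨x, rfl⟩
  obtain ⟨j, φ, hj⟩ := exists_preimage_eq_top D c hc i₀ U h2
  refine ⟨j, φ, (hU _ (D.map φ)).1 ?_⟩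
  rintro _ ⟨x, rfl⟩
  have : x ∈ D.map φ ⁻¹ᵁ U := by rw [hj]; trivial
  exact this

include hc in
/-- EGA IV 8.5.2.4 for isomorphisms. -/
theorem exists_isIso_pullback_map [CompactSpace (D.obj i₀)] {F₀ G₀ : (D.obj i₀).Modules}
    [F₀.IsQuasicoherent] [G₀.IsQuasicoherent]
    (hF₀ : SheafOfModules.IsFiniteType (R := (D.obj i₀).ringCatSheaf) F₀)
    (hG₀ : SheafOfModules.IsFinitePresentation (R := (D.obj i₀).ringCatSheaf) G₀) (f₀ : F₀ ⟶ G₀)
    (h : IsIso ((Scheme.Modules.pullback (c.π.app i₀)).map f₀)) :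
    ∃ (j : I) (φ : j ⟶ i₀), IsIso ((Scheme.Modules.pullback (D.map φ)).map f₀) := by
  have hG₀' : SheafOfModules.IsFiniteType (R := (D.obj i₀).ringCatSheaf) G₀ :=
    Groth.Agent.Helper18Strict.isFT_of_isFP G₀ hG₀
  obtain ⟨j₁, φ₁, hepi⟩ := exists_epi_pullback_map D c hc i₀ hG₀' f₀ inferInstance
  haveI := compactSpace_of_hom D i₀ φ₁
  set f₁ := (Scheme.Modules.pullback (D.map φ₁)).map f₀ with hf₁
  haveI := hF₀
  have hF₁ : SheafOfModules.IsFiniteType (R := (D.obj j₁).ringCatSheaf)
      ((Scheme.Modules.pullback (D.map φ₁)).obj F₀) :=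
    Groth.Agent.Lib.Helper20.FormalPull.isFiniteType_pullback (D.map φ₁) F₀
  have hG₁ : SheafOfModules.IsFinitePresentation (R := (D.obj j₁).ringCatSheaf)
      ((Scheme.Modules.pullback (D.map φ₁)).obj G₀) :=
    Groth.Agent.Helper18Strict.isFP_pullback (D.map φ₁) G₀ hG₀
  have hK := isFiniteType_kernel_of_epi hF₁ hG₁ f₁
  have hKq : (kernel f₁).IsQuasicoherent :=
    Groth.Agent.Lib.Helper23.QCohLocal.isQuasicoherent_kernel f₁
  have hiso₁ : IsIso ((Scheme.Modules.pullback (c.π.app j₁)).map f₁) :=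
    (isIso_pullback_comp_iff (c.π.app j₁) (D.map φ₁) (c.π.app i₀) (c.w φ₁) f₀).1 h
  have hzero : (Scheme.Modules.pullback (c.π.app j₁)).map (kernel.ι f₁) = 0 := by
    rw [← cancel_mono ((Scheme.Modules.pullback (c.π.app j₁)).map f₁), ← Functor.map_comp,
      kernel.condition, Functor.map_zero, zero_comp]
  obtain ⟨j₂, φ₂, hj₂⟩ := exists_pullback_map_eq_zero D c hc j₁ (F₀ := kernel f₁) hK
    (kernel.ι f₁) hzero
  have hiso₂ : IsIso ((Scheme.Modules.pullback (D.map φ₂)).map f₁) :=
    isIso_map_of_epi_of_map_kernel_ι_eq_zero (Scheme.Modules.pullback (D.map φ₂)) f₁ hj₂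
  exact ⟨j₂, φ₂ ≫ φ₁, (isIso_pullback_comp_iff (D.map φ₂) (D.map φ₁) (D.map (φ₂ ≫ φ₁))
    (D.map_comp _ _).symm f₀).2 hiso₂⟩

end stage

end Groth.Agent.Lib.Helper26.ModLim2
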