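import Mathlib
import Groth.Agent.Lib.Helper26ModLim2

/-!
# Modules on limits of schemes: right exact sequences and factorizations at a finite stage (helper26)

Namespace `Groth.Agent.Lib.Helper26.ModLim3`.

* `RE a b`: `A ⟶ B ⟶ E ⟶ 0` right exact; `RE_of_iso`, `RE.map`, `RE_iff_isIso`, `RE_iff_nonempty_isColimit`.
* `exists_fac_of_map_kernel_ι_comp_eq_zero`.
* `exists_fac_stage`, `exists_fac_of_comp`: factorization through a finitely presented quotient descends.
* `RE_pullback_comp_iff`, `exists_RE_stage`: right exactness descends (EGA IV 8.5.6).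
-/

set_option autoImplicit false
set_option linter.style.haveILetI false
set_option linter.unusedSectionVars false
universe u
open CategoryTheory AlgebraicGeometry Limits TensorProduct Opposite TopologicalSpace
open Groth.Agent.Lib.Helper26.ModSec Groth.Agent.Lib.Helper26.ModLim
  Groth.Agent.Lib.Helper26.ModLim2 Groth.Agent.Lib.Helper20.PullbackAff

namespace Groth.Agent.Lib.Helper26.ModLim3

section cat
variable {C : Type*} [Category C] [Abelian C]

/-- `a`, `b` form a right exact sequence `A ⟶ B ⟶ C ⟶ 0`. -/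
def RE {A B E : C} (a : A ⟶ B) (b : B ⟶ E) : Prop :=
  ∃ w : a ≫ b = 0, (ShortComplex.mk a b w).Exact ∧ Epi b

theorem RE_iff_nonempty_isColimit {A B E : C} (a : A ⟶ B) (b : B ⟶ E) (w : a ≫ b = 0) :
    RE a b ↔ Nonempty (IsColimit (CokernelCofork.ofπ b w)) := by
  constructor
  · rintro ⟨w', h⟩
    exact (ShortComplex.exact_and_epi_g_iff_g_is_cokernel (ShortComplex.mk a b w)).1 h
  · intro h
    exact ⟨w, (ShortComplex.exact_and_epi_g_iff_g_is_cokernel (ShortComplex.mk a b w)).2 h⟩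

theorem RE_of_iso {A B E A' B' E' : C} {a : A ⟶ B} {b : B ⟶ E} {a' : A' ⟶ B'} {b' : B' ⟶ E'}
    (eA : A ≅ A') (eB : B ≅ B') (eE : E ≅ E') (h₁ : a ≫ eB.hom = eA.hom ≫ a')
    (h₂ : b ≫ eE.hom = eB.hom ≫ b') (h : RE a b) : RE a' b' := by
  obtain ⟨w, h⟩ := h
  have w' : a' ≫ b' = 0 := by
    rw [← cancel_epi eA.hom, ← Category.assoc, ← h₁, Category.assoc, ← h₂, ← Category.assoc, w,
      zero_comp, comp_zero]
  refine ⟨w', ?_⟩
  exact (ShortComplex.exact_and_epi_g_iff_of_iso
    (ShortComplex.isoMk (S₁ := ShortComplex.mk a b w) (S₂ := ShortComplex.mk a' b' w')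
      eA eB eE h₁.symm h₂.symm)).1 h

/-- right exact functors preserve right exact sequences -/
theorem RE.map {E' : Type*} [Category E'] [Abelian E'] (P : C ⥤ E') [P.Additive]
    [PreservesFiniteColimits P] {A B E : C} {a : A ⟶ B} {b : B ⟶ E} (h : RE a b) :
    RE (P.map a) (P.map b) := by
  obtain ⟨w, h⟩ := h
  have w' : P.map a ≫ P.map b = 0 := by rw [← P.map_comp, w, P.map_zero]
  obtain ⟨hc⟩ := (RE_iff_nonempty_isColimit a b w).1 ⟨w, h⟩
  exact (RE_iff_nonempty_isColimit _ _ w').2 ⟨CokernelCofork.mapIsColimit _ hc P⟩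

/-- if `q` is a cokernel of `a` and `q ≫ d = b`, then `A ⟶ B ⟶ E ⟶ 0` is right exact iff `d` is an iso. -/
theorem RE_iff_isIso {A B Q E : C} (a : A ⟶ B) (q : B ⟶ Q) (wq : a ≫ q = 0)
    (hq : IsColimit (CokernelCofork.ofπ q wq)) (b : B ⟶ E) (d : Q ⟶ E) (hd : q ≫ d = b) :
    RE a b ↔ IsIso d := by
  have w : a ≫ b = 0 := by rw [← hd, ← Category.assoc, wq, zero_comp]
  rw [RE_iff_nonempty_isColimit a b w]
  constructor
  · rintro ⟨hb⟩
    have : d = (IsColimit.coconePointUniqueUpToIso hq hb).hom := by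
      apply Cofork.IsColimit.hom_ext hq
      rw [Cofork.π_ofπ, hd]
      exact (IsColimit.comp_coconePointUniqueUpToIso_hom hq hb WalkingParallelPair.one).symm
    rw [this]
    infer_instance
  · intro h
    refine ⟨IsColimit.ofIsoColimit hq (Cofork.ext (asIso d) ?_)⟩
    simpa using hd

/-- a right exact functor sends `q` epi and `r` killed on the kernel of `q` (after applying the functor) to a
factorization. -/
theorem exists_fac_of_map_kernel_ι_comp_eq_zero {E' : Type*} [Category E'] [Abelian E']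
    (P : C ⥤ E') [P.Additive] [PreservesFiniteColimits P] {A B E : C} (q : A ⟶ B) [Epi q]
    (r : A ⟶ E) (h : P.map (kernel.ι q ≫ r) = 0) :
    ∃ k : P.obj B ⟶ P.obj E, P.map q ≫ k = P.map r := by
  have hc : IsColimit (CokernelCofork.ofπ q (kernel.condition q)) :=
    Abelian.epiIsCokernelOfKernel (KernelFork.ofι (kernel.ι q) (kernel.condition q))
      (kernelIsKernel q)
  have hc' := CokernelCofork.mapIsColimit _ hc P
  rw [P.map_comp] at h
  exact ⟨hc'.desc (CokernelCofork.ofπ (P.map r) h), hc'.fac _ WalkingParallelPair.one⟩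

end cat

section stage
variable {I : Type u} [SmallCategory I] [IsCofiltered I] (D : I ⥤ Scheme.{u}) (c : Cone D)
  (hc : IsLimit c) [∀ (i j : I) (f : i ⟶ j), IsAffineHom (D.map f)] (i₀ : I)

instance pullback_preservesFiniteColimits {X Y : Scheme.{u}} (f : X ⟶ Y) :
    PreservesFiniteColimits (Scheme.Modules.pullback f) := by
  haveI : PreservesColimitsOfSize.{0, 0} (Scheme.Modules.pullback f) :=
    (Scheme.Modules.pullbackPushforwardAdjunction f).leftAdjoint_preservesColimits
  exact PreservesColimitsOfSize.preservesFiniteColimits _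

include hc in
/-- EGA IV 8.5.2.6-type statement: factorization through a finitely presented quotient descends. -/
theorem exists_fac_stage [CompactSpace (D.obj i₀)] {F₀ G₁ G₂ : (D.obj i₀).Modules}
    [F₀.IsQuasicoherent] [G₁.IsQuasicoherent] [G₂.IsQuasicoherent]
    (hF₀ : SheafOfModules.IsFiniteType (R := (D.obj i₀).ringCatSheaf) F₀)
    (hG₁ : SheafOfModules.IsFinitePresentation (R := (D.obj i₀).ringCatSheaf) G₁)
    (p₁ : F₀ ⟶ G₁) (p₂ : F₀ ⟶ G₂) [Epi p₁]
    (h : ∃ k, (Scheme.Modules.pullback (c.π.app i₀)).map p₁ ≫ k =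
      (Scheme.Modules.pullback (c.π.app i₀)).map p₂) :
    ∃ (j : I) (φ : j ⟶ i₀) (k : (Scheme.Modules.pullback (D.map φ)).obj G₁ ⟶
        (Scheme.Modules.pullback (D.map φ)).obj G₂),
      (Scheme.Modules.pullback (D.map φ)).map p₁ ≫ k =
        (Scheme.Modules.pullback (D.map φ)).map p₂ := by
  obtain ⟨k, hk⟩ := h
  have hK := isFiniteType_kernel_of_epi hF₀ hG₁ p₁
  have hKq : (kernel p₁).IsQuasicoherent :=
    Groth.Agent.Lib.Helper23.QCohLocal.isQuasicoherent_kernel p₁
  have hzero : (Scheme.Modules.pullback (c.π.app i₀)).map (kernel.ι p₁ ≫ p₂) = 0 := by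
    rw [Functor.map_comp, ← hk, ← Category.assoc, ← Functor.map_comp, kernel.condition,
      Functor.map_zero, zero_comp]
  obtain ⟨j, φ, hj⟩ := exists_pullback_map_eq_zero D c hc i₀ (F₀ := kernel p₁) hK
    (kernel.ι p₁ ≫ p₂) hzero
  obtain ⟨k', hk'⟩ := exists_fac_of_map_kernel_ι_comp_eq_zero
    (Scheme.Modules.pullback (D.map φ)) p₁ p₂ hj
  exact ⟨j, φ, k', hk'⟩

/-- a factorization at a stage gives one on the limit -/
theorem exists_fac_of_comp {X Y Z : Scheme.{u}} (f : X ⟶ Y) (g : Y ⟶ Z) (p : X ⟶ Z)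
    (e : f ≫ g = p) {F G₁ G₂ : Z.Modules} (p₁ : F ⟶ G₁) (p₂ : F ⟶ G₂)
    (h : ∃ k, (Scheme.Modules.pullback g).map p₁ ≫ k = (Scheme.Modules.pullback g).map p₂) :
    ∃ k, (Scheme.Modules.pullback p).map p₁ ≫ k = (Scheme.Modules.pullback p).map p₂ := by
  obtain ⟨k, hk⟩ := h
  refine ⟨(compIso f g p e).inv.app G₁ ≫ (Scheme.Modules.pullback f).map k ≫
    (compIso f g p e).hom.app G₂, ?_⟩
  have h1 := (compIso f g p e).inv.naturality p₁
  have h2 := (compIso f g p e).hom.naturality p₂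
  simp only [Functor.comp_map] at h1 h2
  rw [← Category.assoc, h1, Category.assoc, ← Category.assoc ((Scheme.Modules.pullback f).map _),
    ← Functor.map_comp, hk, h2, Iso.inv_hom_id_app_assoc]

/-- transport of right exactness along `p = f ≫ g` -/
theorem RE_pullback_comp_iff {X Y Z : Scheme.{u}} (f : X ⟶ Y) (g : Y ⟶ Z) (p : X ⟶ Z)
    (e : f ≫ g = p) {A B E : Z.Modules} (a : A ⟶ B) (b : B ⟶ E) :
    RE ((Scheme.Modules.pullback p).map a) ((Scheme.Modules.pullback p).map b) ↔
      RE ((Scheme.Modules.pullback f).map ((Scheme.Modules.pullback g).map a))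
        ((Scheme.Modules.pullback f).map ((Scheme.Modules.pullback g).map b)) := by
  constructor
  · intro h
    exact RE_of_iso ((compIso f g p e).symm.app A) ((compIso f g p e).symm.app B)
      ((compIso f g p e).symm.app E) ((compIso f g p e).inv.naturality a)
      ((compIso f g p e).inv.naturality b) h
  · intro h
    exact RE_of_iso ((compIso f g p e).app A) ((compIso f g p e).app B)
      ((compIso f g p e).app E) ((compIso f g p e).hom.naturality a)
      ((compIso f g p e).hom.naturality b) h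

include hc in
/-- EGA IV 8.5.6: right exactness of `F ⟶ G ⟶ H ⟶ 0` descends to a finite stage. -/
theorem exists_RE_stage [CompactSpace (D.obj i₀)] {F₀ G₀ H₀ : (D.obj i₀).Modules}
    [F₀.IsQuasicoherent] [G₀.IsQuasicoherent] [H₀.IsQuasicoherent]
    (hF₀ : SheafOfModules.IsFiniteType (R := (D.obj i₀).ringCatSheaf) F₀)
    (hG₀ : SheafOfModules.IsFiniteType (R := (D.obj i₀).ringCatSheaf) G₀)
    (hH₀ : SheafOfModules.IsFinitePresentation (R := (D.obj i₀).ringCatSheaf) H₀)
    (f₀ : F₀ ⟶ G₀) (g₀ : G₀ ⟶ H₀)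
    (h : RE ((Scheme.Modules.pullback (c.π.app i₀)).map f₀)
      ((Scheme.Modules.pullback (c.π.app i₀)).map g₀)) :
    ∃ (j : I) (φ : j ⟶ i₀), RE ((Scheme.Modules.pullback (D.map φ)).map f₀)
      ((Scheme.Modules.pullback (D.map φ)).map g₀) := by
  have hw : (Scheme.Modules.pullback (c.π.app i₀)).map (f₀ ≫ g₀) = 0 := by
    obtain ⟨w, -⟩ := h
    rw [Functor.map_comp, w]
  obtain ⟨j₁, φ₁, h₁⟩ := exists_pullback_map_eq_zero D c hc i₀ hF₀ (f₀ ≫ g₀) hw
  haveI := compactSpace_of_hom D i₀ φ₁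
  set f₁ := (Scheme.Modules.pullback (D.map φ₁)).map f₀ with hf₁
  set g₁ := (Scheme.Modules.pullback (D.map φ₁)).map g₀ with hg₁
  have w₁ : f₁ ≫ g₁ = 0 := by rw [hf₁, hg₁, ← Functor.map_comp, h₁]
  haveI := hG₀
  haveI hG₁ : SheafOfModules.IsFiniteType (R := (D.obj j₁).ringCatSheaf)
      ((Scheme.Modules.pullback (D.map φ₁)).obj G₀) :=
    Groth.Agent.Lib.Helper20.FormalPull.isFiniteType_pullback (D.map φ₁) G₀
  have hH₁ : SheafOfModules.IsFinitePresentation (R := (D.obj j₁).ringCatSheaf)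
      ((Scheme.Modules.pullback (D.map φ₁)).obj H₀) :=
    Groth.Agent.Helper18Strict.isFP_pullback (D.map φ₁) H₀ hH₀
  have hCq : (cokernel f₁).IsQuasicoherent :=
    Groth.Agent.Lib.Helper23.QCohLocal.isQuasicoherent_cokernel f₁
  have hepi : Epi (cokernel.π f₁) := inferInstance
  have hC : SheafOfModules.IsFiniteType (R := (D.obj j₁).ringCatSheaf) (cokernel f₁) :=
    @Groth.Agent.Lib.Helper20.Nakayama.isFiniteType_of_epi _ _ _ (cokernel.π f₁) hepi hG₁
  have h' : RE ((Scheme.Modules.pullback (c.π.app j₁)).map f₁)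
      ((Scheme.Modules.pullback (c.π.app j₁)).map g₁) :=
    (RE_pullback_comp_iff (c.π.app j₁) (D.map φ₁) (c.π.app i₀) (c.w φ₁) f₀ g₀).1 h
  have key : ∀ {T : Scheme.{u}} (t : T ⟶ D.obj j₁),
      RE ((Scheme.Modules.pullback t).map f₁) ((Scheme.Modules.pullback t).map g₁) ↔
        IsIso ((Scheme.Modules.pullback t).map (cokernel.desc f₁ g₁ w₁)) := by
    intro T t
    have wq : (Scheme.Modules.pullback t).map f₁ ≫
        (Scheme.Modules.pullback t).map (cokernel.π f₁) = 0 := by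
      rw [← Functor.map_comp, cokernel.condition, Functor.map_zero]
    have hq : IsColimit (CokernelCofork.ofπ ((Scheme.Modules.pullback t).map (cokernel.π f₁)) wq) :=
      CokernelCofork.mapIsColimit _ (cokernelIsCokernel f₁) (Scheme.Modules.pullback t)
    exact RE_iff_isIso _ _ wq hq _ _ (by rw [← Functor.map_comp, cokernel.π_desc])
  obtain ⟨j₂, φ₂, h₂⟩ := exists_isIso_pullback_map D c hc j₁ (F₀ := cokernel f₁)
    (G₀ := (Scheme.Modules.pullback (D.map φ₁)).obj H₀) hC hH₁ (cokernel.desc f₁ g₁ w₁)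
    ((key (c.π.app j₁)).1 h')
  exact ⟨j₂, φ₂ ≫ φ₁, (RE_pullback_comp_iff (D.map φ₂) (D.map φ₁) (D.map (φ₂ ≫ φ₁))
    (D.map_comp _ _).symm f₀ g₀).2 ((key (D.map φ₂)).2 h₂)⟩

end stage

end Groth.Agent.Lib.Helper26.ModLim3
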