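import Mathlib
import Groth.Agent.Lib.Helper3FlatDescE
import Groth.Agent.Lib.Helper18ColimSys
import Groth.Agent.Lib.Helper26ModLim3
import Groth.Agent.Lib.Helper2LocFree
import Groth.Agent.Lib.Helper2FPAff

/-!
# Modules on limits of schemes: local freeness descends to a finite stage (helper26)

Namespace `Groth.Agent.Lib.Helper26.ModLocFree`.

* `Sys.restrictScalars`, `Sys.flat_stage` (the `Sys` version of S4848, same proof via helper3's `FlatDesc*` libs),
  `flat_tensor_of_algHom`.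
* `fp_flat_sections_of_isFinLocFree`, `isFinLocFree_pullback` (copied from S14961), `isFinLocFree_of_iso`.
* `isFinLocFree_pullback_stage_iff`: EGA IV 8.5.5.
-/

set_option autoImplicit false
set_option linter.style.haveILetI false
universe u
open TensorProduct MvPolynomial
open Groth.Agent.Lib.Helper18ColimSys Groth.Agent.Lib.Helper3.FlatOpen
  Groth.Agent.Lib.Helper3.FlatLoc Groth.Agent.Lib.Helper3.FlatDesc

namespace Groth.Agent.Lib.Helper26.ModLocFree

section alg
variable {R : Type u} [CommRing R] {ι : Type u} {G : ι → Type u} [∀ i, CommRing (G i)]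
    [∀ i, Algebra R (G i)] {A : Type u} [CommRing A] [Algebra R A] {g : ∀ i, G i →ₐ[R] A}

theorem Sys.restrictScalars (hS : Sys R G A g) (Λ : Type u) [CommRing Λ] [Algebra Λ R]
    [∀ i, Algebra Λ (G i)] [Algebra Λ A] [∀ i, IsScalarTower Λ R (G i)] [IsScalarTower Λ R A] :
    Sys Λ G A (fun i => (g i).restrictScalars Λ) where
  nonempty := hS.nonempty
  surj := hS.surj
  dir i j := by
    obtain ⟨l, φ, ψ, h1, h2⟩ := hS.dir i j
    refine ⟨l, φ.restrictScalars Λ, ψ.restrictScalars Λ, ?_, ?_⟩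
    · ext x; exact congrArg (fun k => k x) h1
    · ext x; exact congrArg (fun k => k x) h2
  ker i x hx := by
    obtain ⟨j, φ, h1, h2⟩ := hS.ker i x hx
    refine ⟨j, φ.restrictScalars Λ, ?_, h2⟩
    ext y; exact congrArg (fun k => k y) h1

attribute [local instance] MvPolynomial.algebraMvPolynomial

/-- flatness of a finitely presented module over the colimit of a directed system descends to a stage
(the `Sys` version of S4848). -/
theorem Sys.flat_stage (hS : Sys R G A g) (M₀ : Type u) [AddCommGroup M₀] [Module R M₀]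
    [Module.FinitePresentation R M₀] (hflat : Module.Flat A (A ⊗[R] M₀)) :
    ∃ i : ι, Module.Flat (G i) (G i ⊗[R] M₀) := by
  obtain ⟨n, k, m, Λ, hΛ, w, hT⟩ := exists_model_tensor R R M₀
  haveI : Algebra.FiniteType ℤ Λ := (Subalgebra.fg_iff_finiteType Λ).mp hΛ
  haveI : IsNoetherianRing Λ := Algebra.FiniteType.isNoetherianRing ℤ Λ
  obtain ⟨eA⟩ := hT A
  have hflat' : Module.Flat A ((Fin k → MvPolynomial (Fin n) A) ⧸
      KT w (MvPolynomial (Fin n) A)) := Module.Flat.of_linearEquiv eA.symm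
  obtain ⟨A'', hA''fg, -, hA''flat⟩ := exists_fg_subalgebra_flat_global w hflat' ∅
  haveI : Algebra.FiniteType Λ A'' := (Subalgebra.fg_iff_finiteType A'').mp hA''fg
  haveI : Algebra.FinitePresentation Λ A'' :=
    Algebra.FinitePresentation.of_finiteType.mp inferInstance
  obtain ⟨i, ψ, -⟩ := (Sys.restrictScalars hS Λ).lift_algHom A'' A''.val
  refine ⟨i, ?_⟩
  obtain ⟨eG⟩ := hT (G i)
  have := flat_model_of_algHom w ψ hA''flat
  exact Module.Flat.of_linearEquiv eG

/-- base change of flatness along an algebra map -/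
theorem flat_tensor_of_algHom {R B B' : Type u} [CommRing R] [CommRing B] [CommRing B']
    [Algebra R B] [Algebra R B'] (φ : B →ₐ[R] B') (M : Type u) [AddCommGroup M] [Module R M]
    (h : Module.Flat B (B ⊗[R] M)) : Module.Flat B' (B' ⊗[R] M) := by
  letI := φ.toRingHom.toAlgebra
  haveI : IsScalarTower R B B' := .of_algebraMap_eq' φ.comp_algebraMap.symm
  exact Module.Flat.of_linearEquiv (AlgebraTensorModule.cancelBaseChange R B B' B' M).symm

end alg

section sheaf
open CategoryTheory AlgebraicGeometry Limits TopologicalSpace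
open Groth.Agent.Lib.Helper20.PullbackAff Groth.Agent.Lib.Helper20.Thickening
  Groth.Agent.Lib.Helper23.FinType Groth.Agent.Lib.Helper2.LocFree Groth.Agent.Lib.Helper2.FPAff
  Groth.Agent.Lib.Helper20.LocFree Groth.Agent.Lib.Helper26.ModLim Groth.Agent.Lib.Helper26.ModLim2

/-- a finite locally free quasi-coherent module has finitely presented flat sections over affine opens
(from S14961). -/
theorem fp_flat_sections_of_isFinLocFree {Y : Scheme.{u}} (G : Y.Modules) [G.IsQuasicoherent]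
    (h : FlatMod.IsFinLocFree G) {V : Y.Opens} (hV : IsAffineOpen V) :
    Module.FinitePresentation Γ(Y, V) ((ΓUF hV).obj G) ∧
      Module.Flat Γ(Y, V) ((ΓUF hV).obj G) := by
  have : SheafOfModules.IsFinitePresentation (R := Y.ringCatSheaf) G := isFP_of_isFinLocFree G h
  have h1 : Module.FinitePresentation Γ(Y, V) Γ(G, V) := finitePresentation_sections G hV
  have h2 : Module.Flat Γ(Y, V) Γ(G, V) :=
    flat_sections_of_isFlatAt G hV (fun x _ => isFlat_of_isFinLocFree G h x)
  exact ⟨Module.FinitePresentation.of_equiv (ΓUEquiv hV G),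
    Module.Flat.of_linearEquiv (ΓUEquiv hV G).symm⟩

/-- pullbacks of finite locally free modules are finite locally free (from S14961). -/
theorem isFinLocFree_pullback {W Y : Scheme.{u}} (φ : W ⟶ Y) (G : Y.Modules) [G.IsQuasicoherent]
    (h : FlatMod.IsFinLocFree G) : FlatMod.IsFinLocFree ((Scheme.Modules.pullback φ).obj G) := by
  intro w
  obtain ⟨V, hV, hwV, -⟩ := exists_isAffineOpen_mem_and_subset (x := φ w) (U := ⊤) trivial
  obtain ⟨U, hU, hwU, hUV⟩ := exists_isAffineOpen_mem_and_subset (x := w) (U := φ ⁻¹ᵁ V) hwV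
  obtain ⟨h1, h2⟩ := fp_flat_sections_of_isFinLocFree G h hV
  let _ : Algebra Γ(Y, V) Γ(W, U) := (φ.appLE V U hUV).hom.toAlgebra
  let e := (ΓUFPullbackIso φ hV hU hUV G).toLinearEquiv
  have i1 : Module.FinitePresentation Γ(W, U) (Γ(W, U) ⊗[Γ(Y, V)] ((ΓUF hV).obj G)) :=
    inferInstance
  have i2 : Module.Flat Γ(W, U) (Γ(W, U) ⊗[Γ(Y, V)] ((ΓUF hV).obj G)) := inferInstance
  have : Module.FinitePresentation Γ(W, U)
      ((ΓUF hU).obj ((Scheme.Modules.pullback φ).obj G)) :=
    @Module.FinitePresentation.of_equiv _ _ _ _ _ _ _ _ e.symm i1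
  have : Module.Flat Γ(W, U) ((ΓUF hU).obj ((Scheme.Modules.pullback φ).obj G)) :=
    @Module.Flat.of_linearEquiv _ _ _ _ _ _ _ _ i2 e
  obtain ⟨D, m, hwD, -, hiso⟩ :=
    exists_restrict_iso_freeMod ((Scheme.Modules.pullback φ).obj G) hU w hwU
  exact ⟨D, m, hwD, hiso⟩

theorem isFinLocFree_of_iso {X : Scheme.{u}} {M N : X.Modules} (e : M ≅ N)
    (h : FlatMod.IsFinLocFree M) : FlatMod.IsFinLocFree N := by
  intro x
  obtain ⟨U, n, hx, ⟨i⟩⟩ := h x
  exact ⟨U, n, hx, ⟨(Scheme.Modules.restrictFunctor U.ι).mapIso e.symm ≪≫ i⟩⟩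

variable {I : Type u} [SmallCategory I] [IsCofiltered I] (D : I ⥤ Scheme.{u}) (c : Cone D)
  (hc : IsLimit c) [∀ (i j : I) (f : i ⟶ j), IsAffineHom (D.map f)] (i₀ : I)

attribute [local instance] algG algA

include hc in
/-- EGA IV 8.5.5: local freeness of a finitely presented module descends to a finite stage. -/
theorem isFinLocFree_pullback_stage_iff [CompactSpace (D.obj i₀)] (F₀ : (D.obj i₀).Modules)
    [F₀.IsQuasicoherent]
    (hF₀ : SheafOfModules.IsFinitePresentation (R := (D.obj i₀).ringCatSheaf) F₀) :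
    FlatMod.IsFinLocFree ((Scheme.Modules.pullback (c.π.app i₀)).obj F₀) ↔
      ∃ (j : I) (φ : j ⟶ i₀), FlatMod.IsFinLocFree ((Scheme.Modules.pullback (D.map φ)).obj F₀) := by
  classical
  constructor
  · intro h
    obtain ⟨s, hs⟩ := exists_finite_affine_cover (D.obj i₀)
    haveI := isAffineHom_π_app D c hc i₀
    haveI := hF₀
    have hfp : ∀ k : s, Module.FinitePresentation Γ(D.obj i₀, k.1.1) ((ΓUF k.1.2).obj F₀) :=
      fun k => by
        haveI : Module.FinitePresentation Γ(D.obj i₀, k.1.1) Γ(F₀, k.1.1) :=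
          finitePresentation_sections F₀ k.1.2
        exact Module.FinitePresentation.of_equiv (ΓUEquiv k.1.2 F₀)
    have key : ∀ k : s, ∃ j : Over i₀, ∀ (j' : Over i₀) (_ : j' ⟶ j),
        Module.Flat (Gj D i₀ k.1.1 j') (Gj D i₀ k.1.1 j' ⊗[Γ(D.obj i₀, k.1.1)]
          ((ΓUF k.1.2).obj F₀)) := by
      intro k
      haveI := hfp k
      have h1 := (fp_flat_sections_of_isFinLocFree _ h (k.1.2.preimage (c.π.app i₀))).2
      let e := (ΓUFPullbackIso (c.π.app i₀) k.1.2 (k.1.2.preimage (c.π.app i₀)) le_rfl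
        F₀).toLinearEquiv
      have h2 : Module.Flat Γ(c.pt, c.π.app i₀ ⁻¹ᵁ k.1.1)
          (Γ(c.pt, c.π.app i₀ ⁻¹ᵁ k.1.1) ⊗[Γ(D.obj i₀, k.1.1)] ((ΓUF k.1.2).obj F₀)) :=
        @Module.Flat.of_linearEquiv _ _ _ _ _ _ _ _ h1 e.symm
      obtain ⟨j, hj⟩ := Sys.flat_stage (sys D c hc i₀ k.1.1 k.1.2) ((ΓUF k.1.2).obj F₀) h2
      exact ⟨j, fun j' a => flat_tensor_of_algHom (trAlg D i₀ k.1.1 a) _ hj⟩
    choose jk hjk using key
    obtain ⟨j, hj⟩ := IsCofiltered.inf_objs_exists (Finset.univ.image jk)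
    refine ⟨j.left, j.hom, fun x => ?_⟩
    obtain ⟨k, hk⟩ := (isOpenCover_preimage (D.map j.hom) hs).exists_mem x
    obtain ⟨a⟩ := hj (Finset.mem_image_of_mem jk (Finset.mem_univ k))
    have hU := k.1.2.preimage (D.map j.hom)
    let e := (ΓUFPullbackIso (D.map j.hom) k.1.2 hU le_rfl F₀).toLinearEquiv
    haveI := hfp k
    have i1 : Module.FinitePresentation (Gj D i₀ k.1.1 j)
        (Gj D i₀ k.1.1 j ⊗[Γ(D.obj i₀, k.1.1)] ((ΓUF k.1.2).obj F₀)) := inferInstance
    have i2 := hjk k j a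
    haveI : Module.FinitePresentation Γ(D.obj j.left, D.map j.hom ⁻¹ᵁ k.1.1)
        ((ΓUF hU).obj ((Scheme.Modules.pullback (D.map j.hom)).obj F₀)) :=
      @Module.FinitePresentation.of_equiv _ _ _ _ _ _ _ _ e.symm i1
    haveI : Module.Flat Γ(D.obj j.left, D.map j.hom ⁻¹ᵁ k.1.1)
        ((ΓUF hU).obj ((Scheme.Modules.pullback (D.map j.hom)).obj F₀)) :=
      @Module.Flat.of_linearEquiv _ _ _ _ _ _ _ _ i2 e
    obtain ⟨W, m, hxW, -, hiso⟩ :=
      exists_restrict_iso_freeMod ((Scheme.Modules.pullback (D.map j.hom)).obj F₀) hU x hk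
    exact ⟨W, m, hxW, hiso⟩
  · rintro ⟨j, φ, h⟩
    exact isFinLocFree_of_iso ((compIso (c.π.app j) (D.map φ) (c.π.app i₀) (c.w φ)).app F₀)
      (isFinLocFree_pullback (c.π.app j) _ h)

end sheaf

end Groth.Agent.Lib.Helper26.ModLocFree
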