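import Mathlib
import Groth.Agent.Lib.Helper26ModLocFree

/-!
# Modules on limits of schemes: local freeness of rank `n` descends to a finite stage (helper26)

Namespace `Groth.Agent.Lib.Helper26.ModRank`.

* `nonempty_basis_of_bijective`, `nonempty_basis_of_restrict_iso` (sections over an affine `U ≤ W` of a module with
  `M|_W ≅ O^n` have a basis indexed by `Fin n`), `exists_restrict_iso_freeMod_pullback`, `eq_of_restrict_iso_freeMod`
  (local rank well defined), `isFinLocFreeOfRank_of_iso`, `isFinLocFreeOfRank_pullback`.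
* `isFinLocFreeOfRank_pullback_stage_iff`: EGA IV 8.5.5 for rank `n`.
-/

set_option autoImplicit false
set_option linter.style.haveILetI false
universe u
open TensorProduct
open CategoryTheory AlgebraicGeometry Limits TopologicalSpace
open Groth.Agent.Lib.Helper20.PullbackAff Groth.Agent.Lib.Helper20.Thickening
  Groth.Agent.Lib.Helper23.FinType Groth.Agent.Lib.Helper2.LocFree Groth.Agent.Lib.Helper2.FPAff
  Groth.Agent.Lib.Helper20.LocFree Groth.Agent.Lib.Helper26.ModLim Groth.Agent.Lib.Helper26.ModLim2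

namespace Groth.Agent.Lib.Helper26.ModRank

section alg

/-- if `A → B` is bijective and `B ⊗[A] N` is free of rank `n` over `B`, then `N` is free of rank `n` over `A`. -/
theorem nonempty_basis_of_bijective {A B : Type u} [CommRing A] [CommRing B] [Algebra A B]
    (hσ : Function.Bijective (algebraMap A B)) (N : Type u) [AddCommGroup N] [Module A N] {n : ℕ}
    (e : (B ⊗[A] N) ≃ₗ[B] (Fin n →₀ B)) : Nonempty (Module.Basis (Fin n) A N) := by
  let σ : A ≃ₗ[A] B := LinearEquiv.ofBijective (Algebra.linearMap A B) hσ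
  let e1 : N ≃ₗ[A] (B ⊗[A] N) :=
    (TensorProduct.lid A N).symm ≪≫ₗ TensorProduct.congr σ (LinearEquiv.refl A N)
  let e2 : (B ⊗[A] N) ≃ₗ[A] (Fin n →₀ B) := e.restrictScalars A
  let e3 : (Fin n →₀ B) ≃ₗ[A] (Fin n →₀ A) := Finsupp.mapRange.linearEquiv σ.symm
  exact ⟨Module.Basis.ofRepr (e1 ≪≫ₗ e2 ≪≫ₗ e3)⟩

/-- base change of a basis along a ring map, in `extendScalars` form -/
theorem nonempty_basis_baseChange {A B : Type u} [CommRing A] [CommRing B] [Algebra A B]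
    (N : Type u) [AddCommGroup N] [Module A N] {n : ℕ} (b : Module.Basis (Fin n) A N) :
    Nonempty (Module.Basis (Fin n) B (B ⊗[A] N)) :=
  ⟨b.baseChange B⟩

end alg

section sheaf

/-- sections over an affine open `U ≤ W` of a module free of rank `n` over `W` have a basis indexed by `Fin n`. -/
theorem nonempty_basis_of_restrict_iso {X : Scheme.{u}} (M : X.Modules) [M.IsQuasicoherent]
    {W : X.Opens} {n : ℕ} (e : M.restrict W.ι ≅ FlatMod.freeMod (W : Scheme.{u}) n)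
    {U : X.Opens} (hU : IsAffineOpen U) (hUW : U ≤ W) :
    Nonempty (Module.Basis (Fin n) Γ(X, U) ((ΓUF hU).obj M)) := by
  have hUr : U ≤ W.ι.opensRange := by rw [Scheme.Opens.opensRange_ι]; exact hUW
  have hU' : IsAffineOpen (W.ι ⁻¹ᵁ U) := hU.preimage_of_isOpenImmersion W.ι hUr
  letI : Algebra Γ(X, U) Γ(W, W.ι ⁻¹ᵁ U) := (W.ι.appLE U (W.ι ⁻¹ᵁ U) le_rfl).hom.toAlgebra
  let e1 := (ΓUFPullbackIso W.ι hU hU' le_rfl M).toLinearEquiv
  let e2 := ((ΓUF hU').mapIso ((Scheme.Modules.restrictFunctorIsoPullback W.ι).app M)).toLinearEquiv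
  let e3 := ((ΓUF hU').mapIso e).toLinearEquiv
  let e4 := (ΓUFFreeModIso n hU').toLinearEquiv
  have hbij : Function.Bijective (algebraMap Γ(X, U) Γ(W, W.ι ⁻¹ᵁ U)) := by
    show Function.Bijective (W.ι.appLE U (W.ι ⁻¹ᵁ U) le_rfl).hom
    rw [Scheme.Hom.appLE_eq_app]
    haveI := Scheme.Hom.isIso_app W.ι U hUr
    exact ConcreteCategory.bijective_of_isIso (W.ι.app U)
  exact nonempty_basis_of_bijective hbij _ (e1.symm ≪≫ₗ e2.symm ≪≫ₗ e3 ≪≫ₗ e4)

/-- pullbacks of modules free of rank `n` near `t x` are free of rank `n` near `x`. -/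
theorem exists_restrict_iso_freeMod_pullback {T X : Scheme.{u}} (t : T ⟶ X) (M : X.Modules)
    [M.IsQuasicoherent] {W : X.Opens} {n : ℕ}
    (e : M.restrict W.ι ≅ FlatMod.freeMod (W : Scheme.{u}) n) (x : T) (hx : t x ∈ W) :
    ∃ U' : T.Opens, x ∈ U' ∧ Nonempty (((Scheme.Modules.pullback t).obj M).restrict U'.ι ≅
      FlatMod.freeMod (U' : Scheme.{u}) n) := by
  obtain ⟨U, hU, hxU, hUW⟩ := exists_isAffineOpen_mem_and_subset (x := t x) (U := W) hx
  obtain ⟨b⟩ := nonempty_basis_of_restrict_iso M e hU hUW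
  obtain ⟨U', hU', hxU', hU'U⟩ := exists_isAffineOpen_mem_and_subset (x := x) (U := t ⁻¹ᵁ U) hxU
  letI : Algebra Γ(X, U) Γ(T, U') := (t.appLE U U' hU'U).hom.toAlgebra
  let e1 := (ΓUFPullbackIso t hU hU' hU'U M).toLinearEquiv
  let b' : Module.Basis (Fin n) Γ(T, U') (Γ(T, U') ⊗[Γ(X, U)] ((ΓUF hU).obj M)) :=
    b.baseChange Γ(T, U')
  exact ⟨U', hxU', ⟨restrictIsoFreeMod' ((Scheme.Modules.pullback t).obj M) hU' (b'.map e1.symm)⟩⟩

/-- the local rank of a quasi-coherent module at a point is well defined. -/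
theorem eq_of_restrict_iso_freeMod {X : Scheme.{u}} (M : X.Modules) [M.IsQuasicoherent]
    {W W' : X.Opens} {n m : ℕ} (e : M.restrict W.ι ≅ FlatMod.freeMod (W : Scheme.{u}) n)
    (e' : M.restrict W'.ι ≅ FlatMod.freeMod (W' : Scheme.{u}) m) (x : X) (hx : x ∈ W)
    (hx' : x ∈ W') : n = m := by
  obtain ⟨U, hU, hxU, hUW⟩ := exists_isAffineOpen_mem_and_subset (x := x) (U := W ⊓ W') ⟨hx, hx'⟩
  obtain ⟨b⟩ := nonempty_basis_of_restrict_iso M e hU (hUW.trans inf_le_left)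
  obtain ⟨b'⟩ := nonempty_basis_of_restrict_iso M e' hU (hUW.trans inf_le_right)
  haveI : Nonempty U := ⟨⟨x, hxU⟩⟩
  haveI : Nontrivial Γ(X, U) := inferInstance
  exact Fin.equiv_iff_eq.1 ⟨b.indexEquiv b'⟩

theorem isFinLocFreeOfRank_of_iso {X : Scheme.{u}} {M N : X.Modules} (e : M ≅ N) {n : ℕ}
    (h : FlatMod.IsFinLocFreeOfRank n M) : FlatMod.IsFinLocFreeOfRank n N := by
  intro x
  obtain ⟨U, hx, ⟨i⟩⟩ := h x
  exact ⟨U, hx, ⟨(Scheme.Modules.restrictFunctor U.ι).mapIso e.symm ≪≫ i⟩⟩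

theorem isFinLocFreeOfRank_pullback {T X : Scheme.{u}} (t : T ⟶ X) (M : X.Modules)
    [M.IsQuasicoherent] {n : ℕ} (h : FlatMod.IsFinLocFreeOfRank n M) :
    FlatMod.IsFinLocFreeOfRank n ((Scheme.Modules.pullback t).obj M) := by
  intro x
  obtain ⟨W, hxW, ⟨e⟩⟩ := h (t x)
  exact exists_restrict_iso_freeMod_pullback t M e x hxW

end sheaf

section stage
open Groth.Agent.Lib.Helper26.ModLocFree
variable {I : Type u} [SmallCategory I] [IsCofiltered I] (D : I ⥤ Scheme.{u}) (c : Cone D)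
  (hc : IsLimit c) [∀ (i j : I) (f : i ⟶ j), IsAffineHom (D.map f)] (i₀ : I)

include hc in
/-- EGA IV 8.5.5 for locally free modules of rank `n`. -/
theorem isFinLocFreeOfRank_pullback_stage_iff [CompactSpace (D.obj i₀)] (F₀ : (D.obj i₀).Modules)
    [F₀.IsQuasicoherent]
    (hF₀ : SheafOfModules.IsFinitePresentation (R := (D.obj i₀).ringCatSheaf) F₀) (n : ℕ) :
    FlatMod.IsFinLocFreeOfRank n ((Scheme.Modules.pullback (c.π.app i₀)).obj F₀) ↔
      ∃ (j : I) (φ : j ⟶ i₀),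
        FlatMod.IsFinLocFreeOfRank n ((Scheme.Modules.pullback (D.map φ)).obj F₀) := by
  constructor
  · intro h
    have hfree : FlatMod.IsFinLocFree ((Scheme.Modules.pullback (c.π.app i₀)).obj F₀) := fun x => by
      obtain ⟨U, hx, e⟩ := h x
      exact ⟨U, n, hx, e⟩
    obtain ⟨j₁, φ₁, h₁⟩ := (isFinLocFree_pullback_stage_iff D c hc i₀ F₀ hF₀).1 hfree
    haveI := compactSpace_of_hom D i₀ φ₁
    set M₁ := (Scheme.Modules.pullback (D.map φ₁)).obj F₀ with hM₁
    let E : (D.obj j₁).Opens :=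
      ⟨{y | ∃ U : (D.obj j₁).Opens, y ∈ U ∧
        Nonempty (M₁.restrict U.ι ≅ FlatMod.freeMod (U : Scheme.{u}) n)}, by
        rw [isOpen_iff_forall_mem_open]
        rintro y ⟨U, hyU, hU⟩
        exact ⟨U, fun z hz => ⟨U, hz, hU⟩, U.2, hyU⟩⟩
    have hE : c.π.app j₁ ⁻¹ᵁ E = ⊤ := by
      ext x
      simp only [TopologicalSpace.Opens.map_coe, Set.mem_preimage, SetLike.mem_coe,
        TopologicalSpace.Opens.coe_top, Set.mem_univ, iff_true]
      obtain ⟨W, m, hyW, ⟨e⟩⟩ := h₁ ((c.π.app j₁) x)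
      obtain ⟨U', hxU', ⟨e'⟩⟩ := exists_restrict_iso_freeMod_pullback (c.π.app j₁) M₁ e x hyW
      obtain ⟨U'', hxU'', ⟨e''⟩⟩ := h x
      have e3 : ((Scheme.Modules.pullback (c.π.app j₁)).obj M₁).restrict U''.ι ≅
          FlatMod.freeMod (U'' : Scheme.{u}) n :=
        (Scheme.Modules.restrictFunctor U''.ι).mapIso
          ((compIso (c.π.app j₁) (D.map φ₁) (c.π.app i₀) (c.w φ₁)).app F₀) ≪≫ e''
      have hmn : m = n := eq_of_restrict_iso_freeMod _ e' e3 x hxU' hxU''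
      subst hmn
      exact ⟨W, hyW, ⟨e⟩⟩
    obtain ⟨j₂, φ₂, hj₂⟩ := exists_preimage_eq_top D c hc j₁ E hE
    refine ⟨j₂, φ₂ ≫ φ₁, isFinLocFreeOfRank_of_iso
      ((compIso (D.map φ₂) (D.map φ₁) (D.map (φ₂ ≫ φ₁)) (D.map_comp _ _).symm).app F₀) ?_⟩
    intro x'
    have hx' : x' ∈ D.map φ₂ ⁻¹ᵁ E := by rw [hj₂]; trivial
    obtain ⟨W, hW, ⟨e⟩⟩ := hx'
    exact exists_restrict_iso_freeMod_pullback (D.map φ₂) M₁ e x' hW
  · rintro ⟨j, φ, h⟩
    exact isFinLocFreeOfRank_of_iso ((compIso (c.π.app j) (D.map φ) (c.π.app i₀) (c.w φ)).app F₀)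
      (isFinLocFreeOfRank_pullback (c.π.app j) _ h)

end stage

end Groth.Agent.Lib.Helper26.ModRank
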