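import Mathlib
import Groth.Agent.Lib.Helper4CurveRR
import Groth.Agent.Lib.Helper16LocSymDVR
import Groth.Agent.Lib.Helper2LocFree
import Groth.Agent.Lib.Helper26ModRank
import Groth.Agent.Lib.Helper23FinPres
import Groth.Agent.Lib.Helper2FibreCrit2

/-!
# Vector bundles on regular curves: subsheaves of bundles are bundles (helper4)

* `isPrincipalIdealRing_of_dim_le_one`
* `PIDStalks X` : all local rings of `X` are principal ideal rings; `pidStalks_of_smooth`
* `isFinLocFreeOfRank_of_mono` : on an integral locally Noetherian scheme with PID stalks, a coherent submodule of a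
  finite locally free module of rank `r` is finite locally free of some rank `r' ≤ r`
-/

set_option autoImplicit false
set_option linter.style.haveILetI false
universe u

open TopologicalSpace Topology AlgebraicGeometry CategoryTheory CategoryTheory.Limits Opposite

namespace Groth.Agent.Lib.Helper4.CurveBun

theorem isPrincipalIdealRing_of_dim_le_one (R : Type*) [CommRing R] [IsDomain R] [IsLocalRing R]
    [IsNoetherianRing R] [IsIntegrallyClosed R] (h : ringKrullDim R ≤ 1) : IsPrincipalIdealRing R := by
  by_cases hf : IsField R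
  · letI := hf.toField
    infer_instance
  · have h1 : ringKrullDim R = 1 := by
      refine le_antisymm h ?_
      by_contra hlt
      rw [not_le] at hlt
      have h0 : ringKrullDim R ≤ 0 := by
        generalize ringKrullDim R = d at hlt
        induction d using WithBot.recBotCoe with
        | bot => exact bot_le
        | coe n =>
          have h' : n < 1 := by exact_mod_cast hlt
          have hn : n = 0 := Order.lt_one_iff.1 h'
          subst hn
          exact le_refl _
      haveI : Ring.KrullDimLE 0 R := Ring.krullDimLE_iff.mpr h0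
      exact hf Ring.KrullDimLE.isField_of_isDomain
    haveI := Groth.Agent.S7938.dvr_of_dim_one R h1
    infer_instance

/-- all local rings are principal ideal rings -/
def PIDStalks (X : Scheme.{u}) : Prop := ∀ x : X, IsPrincipalIdealRing (X.presheaf.stalk x)

theorem pidStalks_of_smooth (k : Type u) [Field k] (X : Scheme.{u}) (f : X ⟶ Spec (CommRingCat.of k))
    [IsIntegral X] [LocallyOfFiniteType f] [Smooth f] (hdim : topologicalKrullDim X ≤ 1) :
    PIDStalks X := by
  intro x
  haveI : IsLocallyNoetherian (Spec (CommRingCat.of k)) := inferInstance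
  haveI : IsLocallyNoetherian X := LocallyOfFiniteType.isLocallyNoetherian f
  haveI := Helper16LocSym.isIntegrallyClosed_stalk_of_smooth k f x
  exact isPrincipalIdealRing_of_dim_le_one _ ((Helper16LocSym.ringKrullDim_stalk_le X x).trans hdim)

variable {X : Scheme.{u}}

open Groth.Agent.Lib.Helper4.Dev in
/-- local freeness of a coherent submodule of a bundle -/
theorem exists_restrict_iso_freeMod_of_mono [IsIntegral X] [IsLocallyNoetherian X] (hpid : PIDStalks X)
    {G E : X.Modules} (i : G ⟶ E) [Mono i] (hG : Coh.IsCoh G) (r : ℕ)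
    (hE : FlatMod.IsFinLocFreeOfRank r E) (x : X) :
    ∃ (D : X.Opens) (m : ℕ), x ∈ D ∧
      Nonempty (G.restrict D.ι ≅ FlatMod.freeMod (D : Scheme.{u}) m) := by
  haveI : G.IsQuasicoherent := hG.1
  haveI : SheafOfModules.IsFiniteType (R := X.ringCatSheaf) G := hG.2
  haveI : Module.Finite (X.presheaf.stalk x) (G.presheaf.stalk x) :=
    Groth.Agent.Lib.Helper2.FibreCrit.finite_stalk G x
  haveI := hpid x
  obtain ⟨hfree, -, -⟩ := Groth.Agent.Lib.Helper4.KTensor.stalk_of_isFinLocFreeOfRank E r hE x
  haveI := hfree
  haveI : Module.IsTorsionFree (X.presheaf.stalk x) (E.presheaf.stalk x) := inferInstance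
  haveI : Module.IsTorsionFree (X.presheaf.stalk x) (G.presheaf.stalk x) :=
    Function.Injective.moduleIsTorsionFree (stalkL i x) (stalkL_injective_of_mono i x)
      (fun a m => map_smul (stalkL i x) a m)
  haveI : Module.Free (X.presheaf.stalk x) (G.presheaf.stalk x) :=
    Module.free_of_finite_type_torsion_free'
  have hflat : FlatMod.IsFlatAt G x := Module.Flat.of_free
  haveI : SheafOfModules.IsFinitePresentation (R := X.ringCatSheaf) G :=
    Groth.Agent.Lib.Helper23.FinType.isFinitePresentation_of_isFiniteType G
  exact Groth.Agent.Lib.Helper2.LocFree.exists_restrict_iso_freeMod_of_isFlatAt G x hflat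

/-- **Subsheaves of bundles are bundles** on integral schemes with PID stalks. -/
theorem isFinLocFreeOfRank_of_mono [IsIntegral X] [IsLocallyNoetherian X] (hpid : PIDStalks X)
    {G E : X.Modules} (i : G ⟶ E) [Mono i] (hG : Coh.IsCoh G) (r : ℕ)
    (hE : FlatMod.IsFinLocFreeOfRank r E) :
    ∃ r' : ℕ, r' ≤ r ∧ FlatMod.IsFinLocFreeOfRank r' G := by
  haveI : G.IsQuasicoherent := hG.1
  obtain ⟨D₀, m₀, hη₀, ⟨e₀⟩⟩ :=
    exists_restrict_iso_freeMod_of_mono hpid i hG r hE (genericPoint X)
  have hfree : FlatMod.IsFinLocFreeOfRank m₀ G := by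
    intro x
    obtain ⟨D, m, hxD, ⟨e⟩⟩ := exists_restrict_iso_freeMod_of_mono hpid i hG r hE x
    have hηD : genericPoint X ∈ D :=
      (genericPoint_specializes x).mem_open D.2 hxD
    have hm : m = m₀ :=
      Groth.Agent.Lib.Helper26.ModRank.eq_of_restrict_iso_freeMod G e e₀ (genericPoint X) hηD hη₀
    subst hm
    exact ⟨D, hxD, ⟨e⟩⟩
  exact ⟨m₀, Groth.Agent.Lib.Helper4.CurveRR.rank_le_of_mono X i m₀ r hfree hE, hfree⟩

end Groth.Agent.Lib.Helper4.CurveBun
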