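import Mathlib
import Groth.Agent.Lib.Helper4CurveRR

/-!
# Generically bijective monomorphisms of coherent modules on an integral proper curve (helper4)

`main` : for `f : E ⟶ F` mono of coherent modules with `(coker f)_η = 0`:
`χ(F) = χ(E) + h⁰(coker f)`, and `h⁰(coker f) = 0 → IsIso f`.
`deg_le_deg` : **S15028**.
-/

set_option autoImplicit false
set_option linter.style.haveILetI false
universe u

open TopologicalSpace Topology AlgebraicGeometry CategoryTheory CategoryTheory.Limits Opposite

namespace Groth.Agent.Lib.Helper4.CurveGenIso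

open Groth.Agent.Lib.Helper6.CurveDeg Groth.Agent.Lib.Helper4.Dev

variable (k : Type u) [Field k] (X : Scheme.{u}) [X.Over (Spec (CommRingCat.of k))]
  [IsIntegral X] [IsProper (X ↘ (Spec (CommRingCat.of k)))]

theorem main (hdim : topologicalKrullDim X = 1) (E F : X.Modules) (cE : Coh.IsCoh E) (cF : Coh.IsCoh F)
    (f : E ⟶ F) [Mono f] (hgen : Subsingleton ((cokernel f).presheaf.stalk (genericPoint X))) :
    Curv2.euler k X F = Curv2.euler k X E + (Module.finrank k (Coh.HH X (cokernel f) 0) : ℤ) ∧
    (Module.finrank k (Coh.HH X (cokernel f) 0) = 0 → IsIso f) := by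
  haveI : IsLocallyNoetherian X :=
    LocallyOfFiniteType.isLocallyNoetherian (X ↘ (Spec (CommRingCat.of k)))
  have cQ : Coh.IsCoh (cokernel f) := isCoh_cokernel f cE cF
  have hZ : IsClosed (CohB1.support (cokernel f)) := Groth.Agent.S0020.result X _ cQ.2
  have hη : genericPoint X ∉ CohB1.support (cokernel f) := fun h => h hgen
  have hsupp : topologicalKrullDim (CohB1.support (cokernel f)) ≤ 0 :=
    topologicalKrullDim_le_zero_of_ne_univ hdim.le _ hZ (fun h => hη (h ▸ Set.mem_univ _))
  have hadd := Groth.Agent.Lib.Helper6.Euler.euler_additive k X (sesOfMono f)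
    (sesOfMono_shortExact f) cE cF cQ
  have hQ : Curv2.euler k X (cokernel f) = (Module.finrank k (Coh.HH X (cokernel f) 0) : ℤ) := by
    rw [Groth.Agent.Lib.Helper6.Euler.euler_eq_sum k X _ 1
      (fun p hp => Groth.Agent.S1526.result k X _ cQ hsupp p hp)]
    haveI := Groth.Agent.S1526.result k X _ cQ hsupp 1 le_rfl
    rw [Finset.sum_range_succ, Finset.sum_range_one,
      Module.finrank_zero_of_subsingleton (M := Coh.HH X (cokernel f) 1)]
    simp
  refine ⟨by rw [← hQ]; exact hadd, fun h0 => ?_⟩
  haveI : Module.Finite k (Coh.HH X (cokernel f) 0) := Groth.Agent.S0002.result k X _ cQ 0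
  haveI : Subsingleton (Coh.HH X (cokernel f) 0) := Module.finrank_zero_iff.1 h0
  have hΓ : Subsingleton Γ(cokernel f, ⊤) :=
    (Sheaf.H.equiv₀ (Coh.toAb (cokernel f)) Limits.isTerminalTop).symm.toEquiv.subsingleton
  have hall : ∀ (U : X.Opens) (s : Γ(cokernel f, U)), s = 0 := by
    intro U s
    obtain ⟨c, rfl⟩ := Groth.Agent.Lib.Helper4.ZeroDimGG.exists_global_extension (cokernel f) cQ
      (fun x hx => Groth.Agent.Lib.Helper4.ZeroDimGG.isClosed_singleton_of_dim_le_zero _ hZ hsupp x hx)
      U s
    rw [Subsingleton.elim c 0]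
    exact map_zero _
  have hz : IsZero (cokernel f) := by
    rw [IsZero.iff_id_eq_zero]
    apply Scheme.Modules.hom_ext
    intro U
    ext t
    exact (hall U _).trans (hall U _).symm
  haveI : Epi f := Preadditive.epi_of_isZero_cokernel f hz
  exact isIso_of_mono_of_epi f

/-- **S15028** -/
theorem deg_le_deg (hdim : topologicalKrullDim X = 1) (E F : X.Modules) (cE : Coh.IsCoh E)
    (cF : Coh.IsCoh F) (n : ℕ) (f : E ⟶ F) [Mono f]
    (hgen : Subsingleton ((cokernel f).presheaf.stalk (genericPoint X))) :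
    Curv2.deg k X E n ≤ Curv2.deg k X F n ∧ (Curv2.deg k X E n = Curv2.deg k X F n ↔ IsIso f) := by
  obtain ⟨h1, h2⟩ := main k X hdim E F cE cF f hgen
  unfold Curv2.deg
  refine ⟨?_, ?_, ?_⟩
  · have : (0 : ℤ) ≤ (Module.finrank k (Coh.HH X (cokernel f) 0) : ℤ) := Int.natCast_nonneg _
    linarith
  · intro h
    apply h2
    have : (Module.finrank k (Coh.HH X (cokernel f) 0) : ℤ) = 0 := by linarith
    exact_mod_cast this
  · intro hiso
    haveI := hiso
    rw [Groth.Agent.Lib.Helper4.CurveChi.euler_congr_iso k (asIso f)]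

end Groth.Agent.Lib.Helper4.CurveGenIso
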