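import Mathlib
import Groth.Agent.Lib.Helper4CurveBun
import Groth.Agent.Lib.Helper4CurveGenIso
import Groth.Agent.Lib.Helper11SmInt

/-!
# Vector bundles on regular curves II: kernels and images of bundle maps (helper4)

* `rank_unique`, `isZero_of_rank_zero`, `euler_eq_zero_of_isZero`, `deg_zero_of_isZero`
* `ker_im` : kernel and image of a map of bundles on an integral proper scheme with PID stalks are bundles, with
  additivity of ranks and degrees
* `isIso_of_mono_of_rank_deg` : a mono of bundles of the same rank and degree on an integral proper curve is an iso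
* `isIntegral_of_smooth_geomConn`
-/

set_option autoImplicit false
set_option linter.style.haveILetI false
universe u

open TopologicalSpace Topology AlgebraicGeometry CategoryTheory CategoryTheory.Limits Opposite

namespace Groth.Agent.Lib.Helper4.CurveBun

section general
variable {X : Scheme.{u}}

theorem rank_unique [Nonempty X] (G : X.Modules) (a b : ℕ) (ha : FlatMod.IsFinLocFreeOfRank a G)
    (hb : FlatMod.IsFinLocFreeOfRank b G) : a = b := by
  obtain ⟨x⟩ := ‹Nonempty X›
  rw [← (Groth.Agent.Lib.Helper4.KTensor.stalk_of_isFinLocFreeOfRank G a ha x).2.2,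
    ← (Groth.Agent.Lib.Helper4.KTensor.stalk_of_isFinLocFreeOfRank G b hb x).2.2]

theorem subsingleton_stalk_of_rank_zero (G : X.Modules) (h : FlatMod.IsFinLocFreeOfRank 0 G) (x : X) :
    Subsingleton (G.presheaf.stalk x) := by
  obtain ⟨hfree, hfin, hrk⟩ := Groth.Agent.Lib.Helper4.KTensor.stalk_of_isFinLocFreeOfRank G 0 h x
  haveI := hfree
  haveI := hfin
  haveI : Nontrivial (X.presheaf.stalk x) := inferInstance
  exact (Module.finrank_eq_zero_iff_of_free _ _).1 hrk

theorem isZero_of_rank_zero (G : X.Modules) (h : FlatMod.IsFinLocFreeOfRank 0 G) : IsZero G := by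
  apply Groth.Agent.Lib.Helper4.Dev.isZero_of_support_eq_empty
  ext x
  simp only [CohB1.support, Set.mem_ofPred_eq, Set.mem_empty_iff_false, iff_false, not_not]
  exact subsingleton_stalk_of_rank_zero G h x

theorem euler_eq_zero_of_isZero (k : Type u) [Field k] [X.Over (Spec (CommRingCat.of k))]
    (M : X.Modules) (hM : IsZero M) : Curv2.euler k X M = 0 := by
  unfold Curv2.euler
  have h : ∀ i : ℕ, (-1 : ℤ) ^ i * (Module.finrank k (Coh.HH X M i) : ℤ) = 0 := by
    intro i
    haveI : Subsingleton (Coh.HH X M i) :=
      ⟨fun a b => (Groth.Agent.Lib.Helper17.GrSysH.eq_zero_of_isZero hM i a).trans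
        (Groth.Agent.Lib.Helper17.GrSysH.eq_zero_of_isZero hM i b).symm⟩
    rw [Module.finrank_zero_of_subsingleton]
    simp
  simp only [h]
  exact finsum_zero

theorem deg_zero_of_isZero (k : Type u) [Field k] [X.Over (Spec (CommRingCat.of k))]
    (M : X.Modules) (hM : IsZero M) : Curv2.deg k X M 0 = 0 := by
  unfold Curv2.deg
  rw [euler_eq_zero_of_isZero k M hM]
  simp

theorem deg_rank_zero (k : Type u) [Field k] [X.Over (Spec (CommRingCat.of k))]
    (M : X.Modules) (h : FlatMod.IsFinLocFreeOfRank 0 M) : Curv2.deg k X M 0 = 0 :=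
  deg_zero_of_isZero k M (isZero_of_rank_zero M h)

end general

section curve

variable (k : Type u) [Field k] (X : Scheme.{u}) [X.Over (Spec (CommRingCat.of k))]
  [IsIntegral X] [IsProper (X ↘ (Spec (CommRingCat.of k)))]

omit [IsIntegral X] in
include k in
theorem isLocallyNoetherian_of_proper : IsLocallyNoetherian X :=
  LocallyOfFiniteType.isLocallyNoetherian (X ↘ (Spec (CommRingCat.of k)))

open Groth.Agent.Lib.Helper4.Dev Groth.Agent.Lib.Helper4.DegAdd in
/-- kernel and image of a bundle map are bundles; ranks and degrees add -/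
theorem ker_im (hpid : PIDStalks X) {E F : X.Modules} (f : E ⟶ F) (r s : ℕ)
    (hE : FlatMod.IsFinLocFreeOfRank r E) (hF : FlatMod.IsFinLocFreeOfRank s F) :
    ∃ a b : ℕ, a + b = r ∧ b ≤ s ∧
      FlatMod.IsFinLocFreeOfRank a (kernel (Abelian.factorThruImage f)) ∧
      FlatMod.IsFinLocFreeOfRank b (Abelian.image f) ∧
      Curv2.deg k X E r = Curv2.deg k X (kernel (Abelian.factorThruImage f)) a +
        Curv2.deg k X (Abelian.image f) b := by
  haveI : IsLocallyNoetherian X := isLocallyNoetherian_of_proper k X
  have cE := isCoh_of_isFinLocFreeOfRank E r hE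
  have cF := isCoh_of_isFinLocFreeOfRank F s hF
  have cI : Coh.IsCoh (Abelian.image f) := isCoh_kernel _ cF (isCoh_cokernel f cE cF)
  have cK : Coh.IsCoh (kernel (Abelian.factorThruImage f)) := isCoh_kernel _ cE cI
  obtain ⟨b, hbs, hI⟩ := isFinLocFreeOfRank_of_mono hpid (Abelian.image.ι f) cI s hF
  obtain ⟨a, -, hK⟩ := isFinLocFreeOfRank_of_mono hpid (kernel.ι (Abelian.factorThruImage f)) cK r hE
  have hS := sesOfEpi_shortExact (Abelian.factorThruImage f)
  have hr := rank_add_of_shortExact _ hS a r b hK hE hI
  exact ⟨a, b, hr.symm, hbs, hK, hI, deg_additive k X _ hS a r b hK hE hI⟩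

include k in
open Groth.Agent.Lib.Helper4.Dev Groth.Agent.Lib.Helper4.DegAdd in
/-- a mono of bundles of the same rank is generically surjective -/
theorem subsingleton_cokernel_stalk_genericPoint {E F : X.Modules} (f : E ⟶ F) [Mono f] (r : ℕ)
    (hE : FlatMod.IsFinLocFreeOfRank r E) (hF : FlatMod.IsFinLocFreeOfRank r F) :
    Subsingleton ((cokernel f).presheaf.stalk (genericPoint X)) := by
  haveI : IsLocallyNoetherian X := isLocallyNoetherian_of_proper k X
  have cE := isCoh_of_isFinLocFreeOfRank E r hE
  have cF := isCoh_of_isFinLocFreeOfRank F r hF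
  have cQ : Coh.IsCoh (cokernel f) := isCoh_cokernel f cE cF
  have hadd : Module.finrank (X.presheaf.stalk (genericPoint X)) (F.presheaf.stalk (genericPoint X)) =
      Module.finrank (X.presheaf.stalk (genericPoint X)) (E.presheaf.stalk (genericPoint X)) +
      Module.finrank (X.presheaf.stalk (genericPoint X)) ((cokernel f).presheaf.stalk (genericPoint X)) :=
    Groth.Agent.Lib.Helper4.CurveChi.rk_additive X (sesOfMono f) (sesOfMono_shortExact f) cE cQ
  have h1 := (Groth.Agent.Lib.Helper4.KTensor.stalk_of_isFinLocFreeOfRank E r hE (genericPoint X)).2.2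
  have h2 := (Groth.Agent.Lib.Helper4.KTensor.stalk_of_isFinLocFreeOfRank F r hF (genericPoint X)).2.2
  rw [h1, h2] at hadd
  have h0 : Module.finrank (X.presheaf.stalk (genericPoint X))
      ((cokernel f).presheaf.stalk (genericPoint X)) = 0 := by omega
  haveI := Groth.Agent.Lib.Helper4.CurveChi.finite_stalk_genericPoint X (cokernel f) cQ
  letI : Field (X.presheaf.stalk (genericPoint X)) := inferInstanceAs (Field X.functionField)
  exact Module.finrank_zero_iff.1 h0

open Groth.Agent.Lib.Helper4.DegAdd in
/-- a mono of bundles of the same rank and degree on an integral proper curve is an isomorphism -/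
theorem isIso_of_mono_of_rank_deg (hdim : topologicalKrullDim X = 1) {E F : X.Modules} (f : E ⟶ F) [Mono f]
    (r : ℕ) (hE : FlatMod.IsFinLocFreeOfRank r E) (hF : FlatMod.IsFinLocFreeOfRank r F)
    (hdeg : Curv2.deg k X E r = Curv2.deg k X F r) : IsIso f :=
  (Groth.Agent.Lib.Helper4.CurveGenIso.deg_le_deg k X hdim E F (isCoh_of_isFinLocFreeOfRank E r hE)
    (isCoh_of_isFinLocFreeOfRank F r hF) r f
    (subsingleton_cokernel_stalk_genericPoint k X f r hE hF)).2.1 hdeg

end curve

/-- a smooth proper geometrically connected scheme over a field is integral -/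
theorem isIntegral_of_smooth_geomConn (k : Type u) [Field k] (X : Scheme.{u}) (f : X ⟶ Spec (CommRingCat.of k))
    [IsProper f] [Smooth f] [GeometricallyConnected f] : IsIntegral X := by
  haveI : IsLocallyNoetherian X := LocallyOfFiniteType.isLocallyNoetherian f
  haveI : CompactSpace X := QuasiCompact.compactSpace_of_compactSpace f
  haveI : IsNoetherian X := {}
  haveI : ConnectedSpace X := GeometricallyConnected.connectedSpace_of_subsingleton f
  exact Groth.Agent.Lib.Helper11SmInt.isIntegral_of_connected_of_isDomain_stalk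
    (fun x => Groth.Agent.Lib.Helper11SmInt.isDomain_stalk_of_smooth k f x)

end Groth.Agent.Lib.Helper4.CurveBun
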