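import Mathlib
import Groth.Agent.Lib.Helper4CurveBun2

/-!
# Slope (semi)stability of vector bundles on regular proper curves (helper4)

Setting: `X` integral proper over a field `k`, all local rings PIDs (`CurveBun.PIDStalks`), e.g. a smooth curve.

* `image_slope_ge` : for `E` semistable and `f : E ⟶ F`, `deg E · rk(im f) ≤ deg(im f) · rk E`
* `hom_eq_zero_of_slope_gt` (S14136), `hom_eq_zero_of_max_slope_lt` (S15332), `isIso_of_stable_endo` (S14137),
  `isIso_of_stable_same_slope` (S15333), `isIso_of_ss_one_stable` (S11810), `eq_zero_of_sq_zero` (S16137),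
  `max_slope_biprod` (S15335), `ss_ext` (S14139)
-/

set_option autoImplicit false
set_option linter.style.haveILetI false
universe u

open TopologicalSpace Topology AlgebraicGeometry CategoryTheory CategoryTheory.Limits Opposite

namespace Groth.Agent.Lib.Helper4.CurveStab

open Groth.Agent.Lib.Helper4.CurveBun

section general
variable {X : Scheme.{u}}

theorem eq_zero_of_image_rank_zero {E F : X.Modules} (f : E ⟶ F)
    (hI : FlatMod.IsFinLocFreeOfRank 0 (Abelian.image f)) : f = 0 := by
  rw [← Abelian.image.fac f, (isZero_of_rank_zero _ hI).eq_of_src (Abelian.image.ι f) 0, comp_zero]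

theorem mono_of_kernel_rank_zero {E F : X.Modules} (f : E ⟶ F)
    (hK : FlatMod.IsFinLocFreeOfRank 0 (kernel (Abelian.factorThruImage f))) : Mono f := by
  haveI : Mono (Abelian.factorThruImage f) :=
    Preadditive.mono_of_isZero_kernel _ (isZero_of_rank_zero _ hK)
  rw [← Abelian.image.fac f]
  infer_instance

theorem kernel_ι_not_isIso {E F : X.Modules} (f : E ⟶ F) (hf : f ≠ 0) :
    ¬ IsIso (kernel.ι (Abelian.factorThruImage f)) := by
  intro h
  apply hf
  have h0 : Abelian.factorThruImage f = 0 := by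
    rw [← cancel_epi (kernel.ι (Abelian.factorThruImage f)), kernel.condition, comp_zero]
  rw [← Abelian.image.fac f, h0, zero_comp]

end general

variable (k : Type u) [Field k] (X : Scheme.{u}) [X.Over (Spec (CommRingCat.of k))]
  [IsIntegral X] [IsProper (X ↘ (Spec (CommRingCat.of k)))]

/-- for `E` semistable, the image of `f : E ⟶ F` has slope at least that of `E` -/
theorem image_slope_ge (hpid : PIDStalks X) {E F : X.Modules} (f : E ⟶ F) (r s : ℕ)
    (hE : FlatMod.IsFinLocFreeOfRank r E) (hF : FlatMod.IsFinLocFreeOfRank s F)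
    (hEss : ModFun.IsSlopeSemistable k X E r) :
    ∃ a b : ℕ, a + b = r ∧ b ≤ s ∧
      FlatMod.IsFinLocFreeOfRank a (kernel (Abelian.factorThruImage f)) ∧
      FlatMod.IsFinLocFreeOfRank b (Abelian.image f) ∧
      Curv2.deg k X E r = Curv2.deg k X (kernel (Abelian.factorThruImage f)) a +
        Curv2.deg k X (Abelian.image f) b ∧
      Curv2.deg k X E r * (b : ℤ) ≤ Curv2.deg k X (Abelian.image f) b * (r : ℤ) := by
  obtain ⟨a, b, hab, hbs, hK, hI, hdeg⟩ := ker_im k X hpid f r s hE hF
  refine ⟨a, b, hab, hbs, hK, hI, hdeg, ?_⟩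
  have hr' : (r : ℤ) = a + b := by exact_mod_cast hab.symm
  rcases Nat.eq_zero_or_pos a with ha | ha
  · subst ha
    rw [hdeg, deg_rank_zero k _ hK, zero_add, hr']
    simp
  · have h := hEss _ a (kernel.ι (Abelian.factorThruImage f)) inferInstance ha hK
    have h1 : Curv2.deg k X E r * (r : ℤ) = Curv2.deg k X E r * (a : ℤ) + Curv2.deg k X E r * (b : ℤ) := by
      rw [hr']; ring
    have h2 : Curv2.deg k X (Abelian.image f) b * (r : ℤ) =
        Curv2.deg k X E r * (r : ℤ) - Curv2.deg k X (kernel (Abelian.factorThruImage f)) a * (r : ℤ) := by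
      rw [hdeg]; ring
    linarith

/-- **S14136** -/
theorem hom_eq_zero_of_slope_gt (hpid : PIDStalks X) (r s : ℕ) (E F : X.Modules)
    (hE : FlatMod.IsFinLocFreeOfRank r E) (hF : FlatMod.IsFinLocFreeOfRank s F)
    (hEss : ModFun.IsSlopeSemistable k X E r) (hFss : ModFun.IsSlopeSemistable k X F s)
    (hslope : Curv2.deg k X F s * (r : ℤ) < Curv2.deg k X E r * (s : ℤ)) (f : E ⟶ F) : f = 0 := by
  by_contra hf
  obtain ⟨a, b, hab, hbs, hK, hI, hdeg, hge⟩ := image_slope_ge k X hpid f r s hE hF hEss
  have hb : 0 < b := by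
    rcases Nat.eq_zero_or_pos b with hb | hb
    · subst hb
      exact absurd (eq_zero_of_image_rank_zero f hI) hf
    · exact hb
  have h := hFss _ b (Abelian.image.ι f) inferInstance hb hI
  have hb' : (0 : ℤ) < b := by exact_mod_cast hb
  have h1 := mul_le_mul_of_nonneg_right hge (Int.natCast_nonneg s)
  have h2 := mul_le_mul_of_nonneg_right h (Int.natCast_nonneg r)
  have h3 := mul_lt_mul_of_pos_right hslope hb'
  nlinarith

/-- **S15332** -/
theorem hom_eq_zero_of_max_slope_lt (hpid : PIDStalks X) (r s : ℕ) (E F : X.Modules)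
    (hE : FlatMod.IsFinLocFreeOfRank r E) (hF : FlatMod.IsFinLocFreeOfRank s F)
    (hEss : ModFun.IsSlopeSemistable k X E r)
    (hmax : ∀ (G : X.Modules) (r' : ℕ) (i : G ⟶ F), Mono i → 0 < r' → FlatMod.IsFinLocFreeOfRank r' G →
      Curv2.deg k X G r' * (r : ℤ) < Curv2.deg k X E r * (r' : ℤ))
    (f : E ⟶ F) : f = 0 := by
  by_contra hf
  obtain ⟨a, b, hab, hbs, hK, hI, hdeg, hge⟩ := image_slope_ge k X hpid f r s hE hF hEss
  have hb : 0 < b := by
    rcases Nat.eq_zero_or_pos b with hb | hb
    · subst hb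
      exact absurd (eq_zero_of_image_rank_zero f hI) hf
    · exact hb
  have h := hmax _ b (Abelian.image.ι f) inferInstance hb hI
  linarith

/-- **S14137**: nonzero endomorphisms of a stable bundle are isomorphisms -/
theorem isIso_of_stable_endo (hpid : PIDStalks X) (r : ℕ) (E : X.Modules)
    (hE : FlatMod.IsFinLocFreeOfRank r E)
    (hEst : ∀ (G : X.Modules) (r' : ℕ) (i : G ⟶ E), Mono i → 0 < r' → FlatMod.IsFinLocFreeOfRank r' G →
      (¬ IsIso i) → Curv2.deg k X G r' * (r : ℤ) < Curv2.deg k X E r * (r' : ℤ))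
    (f : E ⟶ E) (hf : f ≠ 0) : IsIso f := by
  obtain ⟨a, b, hab, hbs, hK, hI, hdeg⟩ := ker_im k X hpid f r r hE hE
  have hr' : (r : ℤ) = a + b := by exact_mod_cast hab.symm
  have hb : 0 < b := by
    rcases Nat.eq_zero_or_pos b with hb | hb
    · subst hb
      exact absurd (eq_zero_of_image_rank_zero f hI) hf
    · exact hb
  by_cases hiso : IsIso (Abelian.image.ι f)
  · have hE' : FlatMod.IsFinLocFreeOfRank b E :=
      Groth.Agent.Lib.Helper26.ModRank.isFinLocFreeOfRank_of_iso (asIso (Abelian.image.ι f)) hI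
    have hbr : b = r := rank_unique E b r hE' hE
    have ha : a = 0 := by omega
    subst ha
    haveI : Mono f := mono_of_kernel_rank_zero f hK
    haveI : Epi f := by
      rw [← Abelian.image.fac f]
      infer_instance
    exact isIso_of_mono_of_epi f
  · exfalso
    have h := hEst _ b (Abelian.image.ι f) inferInstance hb hI hiso
    rcases Nat.eq_zero_or_pos a with ha | ha
    · subst ha
      rw [hdeg, deg_rank_zero k _ hK, zero_add, hr'] at h
      simp at h
    · have h' := hEst _ a (kernel.ι (Abelian.factorThruImage f)) inferInstance ha hK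
        (kernel_ι_not_isIso f hf)
      have h1 : Curv2.deg k X E r * (r : ℤ) = Curv2.deg k X E r * (a : ℤ) + Curv2.deg k X E r * (b : ℤ) := by
        rw [hr']; ring
      have h2 : Curv2.deg k X E r * (r : ℤ) =
          Curv2.deg k X (kernel (Abelian.factorThruImage f)) a * (r : ℤ) +
          Curv2.deg k X (Abelian.image f) b * (r : ℤ) := by
        rw [hdeg]; ring
      linarith

/-- **S16137** (core): a square-zero endomorphism of a stable bundle vanishes -/
theorem eq_zero_of_sq_zero (hpid : PIDStalks X) (r : ℕ) (E : X.Modules)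
    (hE : FlatMod.IsFinLocFreeOfRank r E) (hEst : ModFun.IsSlopeStable k X E r)
    (f : E ⟶ E) (hsq : f ≫ f = 0) : f = 0 := by
  by_contra hf
  obtain ⟨a, b, hab, hbs, hK, hI, hdeg⟩ := ker_im k X hpid f r r hE hE
  have hr' : (r : ℤ) = a + b := by exact_mod_cast hab.symm
  have hb : 0 < b := by
    rcases Nat.eq_zero_or_pos b with hb | hb
    · subst hb
      exact absurd (eq_zero_of_image_rank_zero f hI) hf
    · exact hb
  rcases Nat.eq_zero_or_pos a with ha | ha
  · subst ha
    haveI : Mono f := mono_of_kernel_rank_zero f hK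
    apply hf
    rw [← cancel_mono f, hsq, zero_comp]
  · have h := hEst _ b (Abelian.image.ι f) inferInstance hb (by omega) hI
    have h' := hEst _ a (kernel.ι (Abelian.factorThruImage f)) inferInstance ha (by omega) hK
    have h1 : Curv2.deg k X E r * (r : ℤ) = Curv2.deg k X E r * (a : ℤ) + Curv2.deg k X E r * (b : ℤ) := by
      rw [hr']; ring
    have h2 : Curv2.deg k X E r * (r : ℤ) =
        Curv2.deg k X (kernel (Abelian.factorThruImage f)) a * (r : ℤ) +
        Curv2.deg k X (Abelian.image f) b * (r : ℤ) := by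
      rw [hdeg]; ring
    linarith

/-- **S16137** -/
theorem hom_quot_sub_eq_zero (hpid : PIDStalks X) (T : ShortComplex X.Modules) (hT : T.ShortExact)
    (r : ℕ) (hE : FlatMod.IsFinLocFreeOfRank r T.X₂) (hst : ModFun.IsSlopeStable k X T.X₂ r)
    (φ : T.X₃ ⟶ T.X₁) : φ = 0 := by
  have := hT.mono_f
  have := hT.epi_g
  have h := eq_zero_of_sq_zero k X hpid r T.X₂ hE hst (T.g ≫ φ ≫ T.f) (by
    simp only [Category.assoc]
    rw [T.zero_assoc]
    simp)
  rw [← cancel_epi T.g, ← cancel_mono T.f]
  simpa using h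

end Groth.Agent.Lib.Helper4.CurveStab
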