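import Mathlib
import Groth.Agent.Lib.Helper4CurveStab

/-!
# Slope (semi)stability of vector bundles on regular proper curves II (helper4)

* `isIso_of_stable_same_slope` (S15333), `isIso_of_ss_one_stable` (S11810)
* `max_slope_biprod` (S15335)
* `preimage_bundle`, `ss_ext` (S14139)
-/

set_option autoImplicit false
set_option linter.style.haveILetI false
universe u

open TopologicalSpace Topology AlgebraicGeometry CategoryTheory CategoryTheory.Limits Opposite

namespace Groth.Agent.Lib.Helper4.CurveStab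

open Groth.Agent.Lib.Helper4.CurveBun

theorem kernel_ι_comp {X : Scheme.{u}} {E F : X.Modules} (f : E ⟶ F) :
    kernel.ι (Abelian.factorThruImage f) ≫ f = 0 := by
  have h : kernel.ι (Abelian.factorThruImage f) ≫ Abelian.factorThruImage f ≫ Abelian.image.ι f = 0 := by
    rw [kernel.condition_assoc, zero_comp]
  rwa [Abelian.image.fac] at h

variable (k : Type u) [Field k] (X : Scheme.{u}) [X.Over (Spec (CommRingCat.of k))]
  [IsIntegral X] [IsProper (X ↘ (Spec (CommRingCat.of k)))]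

/-- **S11810** -/
theorem isIso_of_ss_one_stable (hpid : PIDStalks X) (hdim : topologicalKrullDim X = 1) (r : ℕ)
    (E E' : X.Modules) (hE : FlatMod.IsFinLocFreeOfRank r E) (hE' : FlatMod.IsFinLocFreeOfRank r E')
    (hdeg : Curv2.deg k X E r = Curv2.deg k X E' r)
    (hss : ModFun.IsSlopeSemistable k X E r) (hss' : ModFun.IsSlopeSemistable k X E' r)
    (hst : ModFun.IsSlopeStable k X E r ∨ ModFun.IsSlopeStable k X E' r)
    (f : E ⟶ E') (hf : f ≠ 0) : IsIso f := by
  obtain ⟨a, b, hab, hbs, hK, hI, hdg, hge⟩ := image_slope_ge k X hpid f r r hE hE' hss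
  have hr' : (r : ℤ) = a + b := by exact_mod_cast hab.symm
  have hb : 0 < b := by
    rcases Nat.eq_zero_or_pos b with hb | hb
    · subst hb
      exact absurd (eq_zero_of_image_rank_zero f hI) hf
    · exact hb
  have h := hss' _ b (Abelian.image.ι f) inferInstance hb hI
  have ha : a = 0 := by
    rcases hst with hst | hst
    · by_contra ha
      have ha' : 0 < a := Nat.pos_of_ne_zero ha
      have h' := hst _ a (kernel.ι (Abelian.factorThruImage f)) inferInstance ha' (by omega) hK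
      have h1 : Curv2.deg k X E r * (r : ℤ) = Curv2.deg k X E r * (a : ℤ) + Curv2.deg k X E r * (b : ℤ) := by
        rw [hr']; ring
      have h2 : Curv2.deg k X E r * (r : ℤ) =
          Curv2.deg k X (kernel (Abelian.factorThruImage f)) a * (r : ℤ) +
          Curv2.deg k X (Abelian.image f) b * (r : ℤ) := by
        rw [hdg]; ring
      rw [← hdeg] at h
      linarith
    · by_contra ha
      have h' := hst _ b (Abelian.image.ι f) inferInstance hb (by omega) hI
      rw [← hdeg] at h'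
      linarith
  subst ha
  haveI : Mono f := mono_of_kernel_rank_zero f hK
  exact isIso_of_mono_of_rank_deg k X hdim f r hE hE' hdeg

/-- **S15333** -/
theorem isIso_of_stable_same_slope (hpid : PIDStalks X) (hdim : topologicalKrullDim X = 1) (r s : ℕ)
    (hr : 0 < r) (hs : 0 < s)
    (E F : X.Modules) (hE : FlatMod.IsFinLocFreeOfRank r E) (hF : FlatMod.IsFinLocFreeOfRank s F)
    (hEss : ModFun.IsSlopeSemistable k X E r) (hEst : ModFun.IsSlopeStable k X E r)
    (hFss : ModFun.IsSlopeSemistable k X F s) (hFst : ModFun.IsSlopeStable k X F s)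
    (hμ : Curv2.deg k X E r * (s : ℤ) = Curv2.deg k X F s * (r : ℤ))
    (f : E ⟶ F) (hf : f ≠ 0) : IsIso f := by
  obtain ⟨a, b, hab, hbs, hK, hI, hdg, hge⟩ := image_slope_ge k X hpid f r s hE hF hEss
  have hr' : (r : ℤ) = a + b := by exact_mod_cast hab.symm
  have hr0 : (0 : ℤ) < r := by exact_mod_cast hr
  have hs0 : (0 : ℤ) < s := by exact_mod_cast hs
  have hb : 0 < b := by
    rcases Nat.eq_zero_or_pos b with hb | hb
    · subst hb
      exact absurd (eq_zero_of_image_rank_zero f hI) hf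
    · exact hb
  have h := hFss _ b (Abelian.image.ι f) inferInstance hb hI
  have h1 := mul_le_mul_of_nonneg_right hge hs0.le
  have h2 := mul_le_mul_of_nonneg_right h hr0.le
  have h3 : Curv2.deg k X E r * (s : ℤ) * (b : ℤ) = Curv2.deg k X F s * (r : ℤ) * (b : ℤ) := by rw [hμ]
  have hbs' : b = s := by
    by_contra hne
    have h' := hFst _ b (Abelian.image.ι f) inferInstance hb (lt_of_le_of_ne hbs hne) hI
    have h4 := mul_lt_mul_of_pos_right h' hr0
    nlinarith
  subst hbs'
  have hrs : a = 0 := by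
    by_contra ha
    have ha' : 0 < a := Nat.pos_of_ne_zero ha
    have h' := hEst _ a (kernel.ι (Abelian.factorThruImage f)) inferInstance ha' (by omega) hK
    have h5 : Curv2.deg k X E r * (r : ℤ) = Curv2.deg k X E r * (a : ℤ) + Curv2.deg k X E r * (b : ℤ) := by
      rw [hr']; ring
    have h6 : Curv2.deg k X E r * (r : ℤ) =
        Curv2.deg k X (kernel (Abelian.factorThruImage f)) a * (r : ℤ) +
        Curv2.deg k X (Abelian.image f) b * (r : ℤ) := by
      rw [hdg]; ring
    have h7 : Curv2.deg k X E r * (b : ℤ) < Curv2.deg k X (Abelian.image f) b * (r : ℤ) := by linarith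
    have h8 := mul_lt_mul_of_pos_right h7 hs0
    nlinarith
  subst hrs
  have hbr : b = r := by omega
  subst hbr
  haveI : Mono f := mono_of_kernel_rank_zero f hK
  have hdeg : Curv2.deg k X E b = Curv2.deg k X F b := mul_right_cancel₀ hr0.ne' hμ
  exact isIso_of_mono_of_rank_deg k X hdim f b hE hF hdeg

/-- **S15335** -/
theorem max_slope_biprod (hpid : PIDStalks X) (r₁ r₂ : ℕ) (E₁ E₂ : X.Modules)
    (hE₁ : FlatMod.IsFinLocFreeOfRank r₁ E₁) (hE₂ : FlatMod.IsFinLocFreeOfRank r₂ E₂) (m₁ m₂ : ℚ)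
    (h₁ : ∀ (G : X.Modules) (r' : ℕ) (i : G ⟶ E₁), Mono i → 0 < r' → FlatMod.IsFinLocFreeOfRank r' G →
      (Curv2.deg k X G r' : ℚ) / r' ≤ m₁)
    (h₂ : ∀ (G : X.Modules) (r' : ℕ) (i : G ⟶ E₂), Mono i → 0 < r' → FlatMod.IsFinLocFreeOfRank r' G →
      (Curv2.deg k X G r' : ℚ) / r' ≤ m₂)
    (F : X.Modules) (r' : ℕ) (i : F ⟶ E₁ ⊞ E₂) (hi : Mono i) (hr' : 0 < r')
    (hF : FlatMod.IsFinLocFreeOfRank r' F) :
    (Curv2.deg k X F r' : ℚ) / r' ≤ max m₁ m₂ := by
  obtain ⟨a, b, hab, hbs, hK, hI, hdg⟩ := ker_im k X hpid (i ≫ biprod.snd) r' r₂ hF hE₂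
  set g := i ≫ (biprod.snd : E₁ ⊞ E₂ ⟶ E₂) with hg
  -- the kernel maps monomorphically to `E₁`
  have hmono : Mono (kernel.ι (Abelian.factorThruImage g) ≫ i ≫ (biprod.fst : E₁ ⊞ E₂ ⟶ E₁)) := by
    apply Preadditive.mono_of_cancel_zero
    intro P u hu
    have h2 : (u ≫ kernel.ι (Abelian.factorThruImage g) ≫ i) ≫ (biprod.snd : E₁ ⊞ E₂ ⟶ E₂) = 0 := by
      have : kernel.ι (Abelian.factorThruImage g) ≫ g = 0 := kernel_ι_comp g
      simp only [Category.assoc]
      rw [← hg, this, comp_zero]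
    have h1 : (u ≫ kernel.ι (Abelian.factorThruImage g) ≫ i) ≫ (biprod.fst : E₁ ⊞ E₂ ⟶ E₁) = 0 := by
      simpa only [Category.assoc] using hu
    have h0 : u ≫ kernel.ι (Abelian.factorThruImage g) ≫ i = 0 := by
      apply biprod.hom_ext
      · rw [h1, zero_comp]
      · rw [h2, zero_comp]
    have h0' : (u ≫ kernel.ι (Abelian.factorThruImage g)) ≫ i = 0 ≫ i := by
      rw [Category.assoc, h0, zero_comp]
    have h3 := (cancel_mono i).1 h0'
    rw [← cancel_mono (kernel.ι (Abelian.factorThruImage g)), h3, zero_comp]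
  have hrq : (r' : ℚ) = a + b := by exact_mod_cast hab.symm
  have hr'q : (0 : ℚ) < r' := by exact_mod_cast hr'
  have hdq : (Curv2.deg k X F r' : ℚ) = (Curv2.deg k X (kernel (Abelian.factorThruImage g)) a : ℚ) +
      (Curv2.deg k X (Abelian.image g) b : ℚ) := by exact_mod_cast hdg
  have hKle : (Curv2.deg k X (kernel (Abelian.factorThruImage g)) a : ℚ) ≤ max m₁ m₂ * a := by
    rcases Nat.eq_zero_or_pos a with ha | ha
    · subst ha
      rw [deg_rank_zero k _ hK]
      simp
    · have := h₁ _ a _ hmono ha hK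
      have haq : (0 : ℚ) < a := by exact_mod_cast ha
      rw [div_le_iff₀ haq] at this
      exact this.trans (mul_le_mul_of_nonneg_right (le_max_left _ _) haq.le)
  have hIle : (Curv2.deg k X (Abelian.image g) b : ℚ) ≤ max m₁ m₂ * b := by
    rcases Nat.eq_zero_or_pos b with hb | hb
    · subst hb
      rw [deg_rank_zero k _ hI]
      simp
    · have := h₂ _ b (Abelian.image.ι g) inferInstance hb hI
      have hbq : (0 : ℚ) < b := by exact_mod_cast hb
      rw [div_le_iff₀ hbq] at this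
      exact this.trans (mul_le_mul_of_nonneg_right (le_max_right _ _) hbq.le)
  rw [div_le_iff₀ hr'q, hdq, hrq]
  linarith

open Groth.Agent.Lib.Helper4.Dev Groth.Agent.Lib.Helper4.DegAdd in
/-- the preimage in `E` of a subbundle `G ⊆ E₂` along `0 → E₁ → E → E₂ → 0` -/
theorem preimage_bundle (hpid : PIDStalks X) (T : ShortComplex X.Modules) (hT : T.ShortExact)
    (r₁ r r₂ : ℕ) (hE₁ : FlatMod.IsFinLocFreeOfRank r₁ T.X₁) (hE : FlatMod.IsFinLocFreeOfRank r T.X₂)
    (hE₂ : FlatMod.IsFinLocFreeOfRank r₂ T.X₃)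
    (G : X.Modules) (r' : ℕ) (i : G ⟶ T.X₃) [Mono i] (hG : FlatMod.IsFinLocFreeOfRank r' G) :
    ∃ (P : X.Modules) (j : P ⟶ T.X₂), Mono j ∧ FlatMod.IsFinLocFreeOfRank (r₁ + r') P ∧
      Curv2.deg k X P (r₁ + r') = Curv2.deg k X T.X₁ r₁ + Curv2.deg k X G r' := by
  haveI : IsLocallyNoetherian X := isLocallyNoetherian_of_proper k X
  have := hT.epi_g
  have c₁ := isCoh_of_isFinLocFreeOfRank _ r₁ hE₁
  have c₂ := isCoh_of_isFinLocFreeOfRank _ r hE
  have c₃ := isCoh_of_isFinLocFreeOfRank _ r₂ hE₂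
  have cG := isCoh_of_isFinLocFreeOfRank _ r' hG
  have cQ : Coh.IsCoh (cokernel i) := isCoh_cokernel i cG c₃
  have cP : Coh.IsCoh (kernel (T.g ≫ cokernel.π i)) := isCoh_kernel _ c₂ cQ
  obtain ⟨p', -, hP⟩ := isFinLocFreeOfRank_of_mono hpid (kernel.ι (T.g ≫ cokernel.π i)) cP r hE
  have hr := rank_add_of_shortExact T hT r₁ r r₂ hE₁ hE hE₂
  -- generic ranks
  have ha : Module.finrank (X.presheaf.stalk (genericPoint X)) (T.X₂.presheaf.stalk (genericPoint X)) =
      Module.finrank (X.presheaf.stalk (genericPoint X))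
        ((kernel (T.g ≫ cokernel.π i)).presheaf.stalk (genericPoint X)) +
      Module.finrank (X.presheaf.stalk (genericPoint X)) ((cokernel i).presheaf.stalk (genericPoint X)) :=
    Groth.Agent.Lib.Helper4.CurveChi.rk_additive X (sesOfEpi (T.g ≫ cokernel.π i))
      (sesOfEpi_shortExact (T.g ≫ cokernel.π i)) cP cQ
  have hb : Module.finrank (X.presheaf.stalk (genericPoint X)) (T.X₃.presheaf.stalk (genericPoint X)) =
      Module.finrank (X.presheaf.stalk (genericPoint X)) (G.presheaf.stalk (genericPoint X)) +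
      Module.finrank (X.presheaf.stalk (genericPoint X)) ((cokernel i).presheaf.stalk (genericPoint X)) :=
    Groth.Agent.Lib.Helper4.CurveChi.rk_additive X (sesOfMono i) (sesOfMono_shortExact i) cG cQ
  rw [(Groth.Agent.Lib.Helper4.KTensor.stalk_of_isFinLocFreeOfRank _ r hE (genericPoint X)).2.2,
    (Groth.Agent.Lib.Helper4.KTensor.stalk_of_isFinLocFreeOfRank _ p' hP (genericPoint X)).2.2] at ha
  rw [(Groth.Agent.Lib.Helper4.KTensor.stalk_of_isFinLocFreeOfRank _ r₂ hE₂ (genericPoint X)).2.2,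
    (Groth.Agent.Lib.Helper4.KTensor.stalk_of_isFinLocFreeOfRank _ r' hG (genericPoint X)).2.2] at hb
  have hp' : p' = r₁ + r' := by omega
  subst hp'
  refine ⟨_, kernel.ι (T.g ≫ cokernel.π i), inferInstance, hP, ?_⟩
  have e1 := Groth.Agent.Lib.Helper6.Euler.euler_additive k X (sesOfEpi (T.g ≫ cokernel.π i))
    (sesOfEpi_shortExact (T.g ≫ cokernel.π i)) cP c₂ cQ
  have e2 := Groth.Agent.Lib.Helper6.Euler.euler_additive k X (sesOfMono i) (sesOfMono_shortExact i) cG c₃ cQ
  have e3 := Groth.Agent.Lib.Helper6.Euler.euler_additive k X T hT c₁ c₂ c₃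
  change Curv2.euler k X T.X₂ = Curv2.euler k X (kernel (T.g ≫ cokernel.π i)) +
    Curv2.euler k X (cokernel i) at e1
  change Curv2.euler k X T.X₃ = Curv2.euler k X G + Curv2.euler k X (cokernel i) at e2
  unfold Curv2.deg
  push_cast
  linarith

/-- **S14139** -/
theorem ss_ext (hpid : PIDStalks X) (T : ShortComplex X.Modules) (hT : T.ShortExact)
    (r₁ r r₂ : ℕ) (hr₁ : 0 < r₁) (hr : 0 < r) (hr₂ : 0 < r₂)
    (hE₁ : FlatMod.IsFinLocFreeOfRank r₁ T.X₁) (hE : FlatMod.IsFinLocFreeOfRank r T.X₂)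
    (hE₂ : FlatMod.IsFinLocFreeOfRank r₂ T.X₃)
    (hμ₁ : Curv2.deg k X T.X₁ r₁ * (r : ℤ) = Curv2.deg k X T.X₂ r * (r₁ : ℤ))
    (hμ₂ : Curv2.deg k X T.X₃ r₂ * (r : ℤ) = Curv2.deg k X T.X₂ r * (r₂ : ℤ)) :
    ModFun.IsSlopeSemistable k X T.X₂ r ↔
      (ModFun.IsSlopeSemistable k X T.X₁ r₁ ∧ ModFun.IsSlopeSemistable k X T.X₃ r₂) := by
  have := hT.mono_f
  have := hT.epi_g
  have hr0 : (0 : ℤ) < r := by exact_mod_cast hr
  have hr₁0 : (0 : ℤ) < r₁ := by exact_mod_cast hr₁
  have hr₂0 : (0 : ℤ) < r₂ := by exact_mod_cast hr₂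
  constructor
  · intro hss
    refine ⟨fun G r' i hi hr' hG => ?_, fun G r' i hi hr' hG => ?_⟩
    · have h := hss G r' (i ≫ T.f) (mono_comp i T.f) hr' hG
      have h1 := mul_le_mul_of_nonneg_right h hr₁0.le
      refine le_of_mul_le_mul_right ?_ hr0
      nlinarith
    · obtain ⟨P, j, hj, hP, hdP⟩ := preimage_bundle k X hpid T hT r₁ r r₂ hE₁ hE hE₂ G r' i hG
      have h := hss P (r₁ + r') j hj (by omega) hP
      rw [hdP] at h
      push_cast at h
      have h1 : Curv2.deg k X G r' * (r : ℤ) ≤ Curv2.deg k X T.X₂ r * (r' : ℤ) := by linarith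
      have h2 := mul_le_mul_of_nonneg_right h1 hr₂0.le
      refine le_of_mul_le_mul_right ?_ hr0
      nlinarith
  · rintro ⟨hss₁, hss₂⟩ G r' i hi hr' hG
    obtain ⟨a, b, hab, hbs, hK, hI, hdg⟩ := ker_im k X hpid (i ≫ T.g) r' r₂ hG hE₂
    set g := i ≫ T.g with hg
    have hr'' : (r' : ℤ) = a + b := by exact_mod_cast hab.symm
    -- the kernel maps monomorphically to `E₁`
    have hz : (kernel.ι (Abelian.factorThruImage g) ≫ i) ≫ T.g = 0 := by
      rw [Category.assoc, ← hg, kernel_ι_comp]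
    have hfac : hT.exact.lift _ hz ≫ T.f = kernel.ι (Abelian.factorThruImage g) ≫ i :=
      hT.exact.lift_f _ hz
    haveI : Mono (hT.exact.lift _ hz ≫ T.f) := by
      rw [hfac]
      exact mono_comp _ _
    have hmono : Mono (hT.exact.lift _ hz) := mono_of_mono _ T.f
    have hKle : Curv2.deg k X (kernel (Abelian.factorThruImage g)) a * (r : ℤ) ≤
        Curv2.deg k X T.X₂ r * (a : ℤ) := by
      rcases Nat.eq_zero_or_pos a with ha | ha
      · subst ha
        rw [deg_rank_zero k _ hK]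
        simp
      · have h := hss₁ _ a _ hmono ha hK
        have h1 := mul_le_mul_of_nonneg_right h hr0.le
        refine le_of_mul_le_mul_right ?_ hr₁0
        nlinarith
    have hIle : Curv2.deg k X (Abelian.image g) b * (r : ℤ) ≤ Curv2.deg k X T.X₂ r * (b : ℤ) := by
      rcases Nat.eq_zero_or_pos b with hb | hb
      · subst hb
        rw [deg_rank_zero k _ hI]
        simp
      · have h := hss₂ _ b (Abelian.image.ι g) inferInstance hb hI
        have h1 := mul_le_mul_of_nonneg_right h hr0.le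
        refine le_of_mul_le_mul_right ?_ hr₂0
        nlinarith
    rw [hdg, hr'']
    linarith

end Groth.Agent.Lib.Helper4.CurveStab
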