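import Mathlib
import Groth.Agent.Lib.Helper4CurveStab2

/-!
# First Harder–Narasimhan step and consequences of stability (helper4)

* `exists_max_destab` (S14149): a sub-bundle of maximal slope and, among those, maximal rank; it is semistable
* `isIso_of_stable` : nonzero endomorphisms of an `IsSlopeStable` bundle are isomorphisms
* `indecomposable_of_stable` (S15340)
-/

set_option autoImplicit false
set_option linter.style.haveILetI false
universe u

open TopologicalSpace Topology AlgebraicGeometry CategoryTheory CategoryTheory.Limits Opposite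

namespace Groth.Agent.Lib.Helper4.CurveHN

open Groth.Agent.Lib.Helper4.CurveBun Groth.Agent.Lib.Helper4.CurveStab

variable (k : Type u) [Field k] (X : Scheme.{u}) [X.Over (Spec (CommRingCat.of k))]
  [IsIntegral X] [IsProper (X ↘ (Spec (CommRingCat.of k)))]

open Classical in
/-- **S14149** -/
theorem exists_max_destab (hdim : topologicalKrullDim X = 1) (r : ℕ) (hr : 0 < r) (E : X.Modules)
    (hE : FlatMod.IsFinLocFreeOfRank r E) :
    ∃ (E₁ : X.Modules) (r₁ : ℕ) (i₁ : E₁ ⟶ E), Mono i₁ ∧ 0 < r₁ ∧ FlatMod.IsFinLocFreeOfRank r₁ E₁ ∧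
      (∀ (G : X.Modules) (r' : ℕ) (j : G ⟶ E), Mono j → 0 < r' → FlatMod.IsFinLocFreeOfRank r' G →
        Curv2.deg k X G r' * (r₁ : ℤ) ≤ Curv2.deg k X E₁ r₁ * (r' : ℤ)) ∧
      (∀ (G : X.Modules) (r' : ℕ) (j : G ⟶ E), Mono j → 0 < r' → FlatMod.IsFinLocFreeOfRank r' G →
        Curv2.deg k X G r' * (r₁ : ℤ) = Curv2.deg k X E₁ r₁ * (r' : ℤ) → r' ≤ r₁) ∧
      ModFun.IsSlopeSemistable k X E₁ r₁ := by
  obtain ⟨N, hN⟩ := Groth.Agent.Lib.Helper4.CurveRR.deg_locFree_sub_bounded k X hdim r E hE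
  -- the score of a sub-bundle: `deg · (r! / rank)`
  let P : ℤ → Prop := fun z => ∃ (G : X.Modules) (r' : ℕ) (j : G ⟶ E), Mono j ∧ 0 < r' ∧
    FlatMod.IsFinLocFreeOfRank r' G ∧ z = Curv2.deg k X G r' * ((r.factorial / r' : ℕ) : ℤ)
  have hrank : ∀ (G : X.Modules) (r' : ℕ) (j : G ⟶ E), Mono j → FlatMod.IsFinLocFreeOfRank r' G → r' ≤ r :=
    fun G r' j hj hG => Groth.Agent.Lib.Helper4.CurveRR.rank_le_of_mono X j r' r hG hE
  have hfac : ∀ r' : ℕ, 0 < r' → r' ≤ r → (r' : ℤ) * ((r.factorial / r' : ℕ) : ℤ) = (r.factorial : ℤ) := by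
    intro r' h0 hle
    have := Nat.mul_div_cancel' (Nat.dvd_factorial h0 hle)
    exact_mod_cast this
  have hfpos : (0 : ℤ) < (r.factorial : ℤ) := by exact_mod_cast Nat.factorial_pos r
  have hbdd : ∃ b : ℤ, ∀ z, P z → z ≤ b := by
    refine ⟨|N| * (r.factorial : ℤ), ?_⟩
    rintro z ⟨G, r', j, hj, h0, hG, rfl⟩
    have h1 : Curv2.deg k X G r' ≤ |N| := (hN G r' j hj hG).trans (le_abs_self N)
    have h2 : (0 : ℤ) ≤ ((r.factorial / r' : ℕ) : ℤ) := Int.natCast_nonneg _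
    have h3 : ((r.factorial / r' : ℕ) : ℤ) ≤ (r.factorial : ℤ) := by
      exact_mod_cast Nat.div_le_self _ _
    calc Curv2.deg k X G r' * ((r.factorial / r' : ℕ) : ℤ)
        ≤ |N| * ((r.factorial / r' : ℕ) : ℤ) := mul_le_mul_of_nonneg_right h1 h2
      _ ≤ |N| * (r.factorial : ℤ) := mul_le_mul_of_nonneg_left h3 (abs_nonneg N)
  have hinh : ∃ z, P z := ⟨_, E, r, 𝟙 E, inferInstance, hr, hE, rfl⟩
  obtain ⟨M, hPM, hMmax⟩ := Int.exists_greatest_of_bdd hbdd hinh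
  -- ranks attaining the maximal score
  let Q : ℕ → Prop := fun n => ∃ (G : X.Modules) (j : G ⟶ E), Mono j ∧ 0 < n ∧
    FlatMod.IsFinLocFreeOfRank n G ∧ M = Curv2.deg k X G n * ((r.factorial / n : ℕ) : ℤ)
  obtain ⟨G₀, r₀, j₀, hj₀, h0₀, hG₀, hM₀⟩ := hPM
  have hQ₀ : Q r₀ := ⟨G₀, j₀, hj₀, h0₀, hG₀, hM₀⟩
  have hr₀ : r₀ ≤ r := hrank G₀ r₀ j₀ hj₀ hG₀
  obtain ⟨E₁, i₁, hi₁, h0₁, hE₁, hM₁⟩ := Nat.findGreatest_spec (P := Q) hr₀ hQ₀
  set r₁ := Nat.findGreatest Q r with hr₁def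
  have hr₁ : r₁ ≤ r := Nat.findGreatest_le r
  have hf₁ := hfac r₁ h0₁ hr₁
  have hr₁0 : (0 : ℤ) < (r₁ : ℤ) := by exact_mod_cast h0₁
  have key1 : ∀ (G : X.Modules) (r' : ℕ) (j : G ⟶ E), Mono j → 0 < r' → FlatMod.IsFinLocFreeOfRank r' G →
      Curv2.deg k X G r' * (r₁ : ℤ) ≤ Curv2.deg k X E₁ r₁ * (r' : ℤ) := by
    intro G r' j hj h0 hG
    have hle := hMmax _ ⟨G, r', j, hj, h0, hG, rfl⟩
    rw [hM₁] at hle
    have hf' := hfac r' h0 (hrank G r' j hj hG)
    have hr'0 : (0 : ℤ) < (r' : ℤ) := by exact_mod_cast h0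
    have h1 := mul_le_mul_of_nonneg_right hle (mul_pos hr'0 hr₁0).le
    refine le_of_mul_le_mul_right ?_ hfpos
    calc Curv2.deg k X G r' * (r₁ : ℤ) * (r.factorial : ℤ)
        = Curv2.deg k X G r' * ((r.factorial / r' : ℕ) : ℤ) * ((r' : ℤ) * (r₁ : ℤ)) := by
          rw [← hf']; ring
      _ ≤ Curv2.deg k X E₁ r₁ * ((r.factorial / r₁ : ℕ) : ℤ) * ((r' : ℤ) * (r₁ : ℤ)) := h1
      _ = Curv2.deg k X E₁ r₁ * (r' : ℤ) * (r.factorial : ℤ) := by
          rw [← hf₁]; ring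
  refine ⟨E₁, r₁, i₁, hi₁, h0₁, hE₁, key1, ?_, ?_⟩
  · intro G r' j hj h0 hG heq
    have hf' := hfac r' h0 (hrank G r' j hj hG)
    have hr'0 : (0 : ℤ) < (r' : ℤ) := by exact_mod_cast h0
    have hQ : Q r' := by
      refine ⟨G, j, hj, h0, hG, ?_⟩
      rw [hM₁]
      refine mul_right_cancel₀ (mul_pos hr'0 hr₁0).ne' ?_
      calc Curv2.deg k X E₁ r₁ * ((r.factorial / r₁ : ℕ) : ℤ) * ((r' : ℤ) * (r₁ : ℤ))
          = Curv2.deg k X E₁ r₁ * (r' : ℤ) * (r.factorial : ℤ) := by rw [← hf₁]; ring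
        _ = Curv2.deg k X G r' * (r₁ : ℤ) * (r.factorial : ℤ) := by rw [heq]
        _ = Curv2.deg k X G r' * ((r.factorial / r' : ℕ) : ℤ) * ((r' : ℤ) * (r₁ : ℤ)) := by
          rw [← hf']; ring
    exact Nat.le_findGreatest (hrank G r' j hj hG) hQ
  · intro G r' i hi h0 hG
    exact key1 G r' (i ≫ i₁) (mono_comp i i₁) h0 hG

/-- nonzero endomorphisms of a stable bundle are isomorphisms -/
theorem isIso_of_stable (hpid : PIDStalks X) (hdim : topologicalKrullDim X = 1) (r : ℕ) (E : X.Modules)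
    (hE : FlatMod.IsFinLocFreeOfRank r E) (hEst : ModFun.IsSlopeStable k X E r)
    (f : E ⟶ E) (hf : f ≠ 0) : IsIso f := by
  obtain ⟨a, b, hab, hbs, hK, hI, hdeg⟩ := ker_im k X hpid f r r hE hE
  have hr' : (r : ℤ) = a + b := by exact_mod_cast hab.symm
  have hb : 0 < b := by
    rcases Nat.eq_zero_or_pos b with hb | hb
    · subst hb
      exact absurd (eq_zero_of_image_rank_zero f hI) hf
    · exact hb
  have ha : a = 0 := by
    by_contra ha
    have ha' : 0 < a := Nat.pos_of_ne_zero ha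
    have h := hEst _ b (Abelian.image.ι f) inferInstance hb (by omega) hI
    have h' := hEst _ a (kernel.ι (Abelian.factorThruImage f)) inferInstance ha' (by omega) hK
    have h1 : Curv2.deg k X E r * (r : ℤ) = Curv2.deg k X E r * (a : ℤ) + Curv2.deg k X E r * (b : ℤ) := by
      rw [hr']; ring
    have h2 : Curv2.deg k X E r * (r : ℤ) =
        Curv2.deg k X (kernel (Abelian.factorThruImage f)) a * (r : ℤ) +
        Curv2.deg k X (Abelian.image f) b * (r : ℤ) := by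
      rw [hdeg]; ring
    linarith
  subst ha
  have hbr : b = r := by omega
  subst hbr
  haveI : Mono f := mono_of_kernel_rank_zero f hK
  exact isIso_of_mono_of_rank_deg k X hdim f b hE hE rfl

omit [IsProper (X ↘ (Spec (CommRingCat.of k)))] in
theorem not_isZero_of_rank_pos (E : X.Modules) (r : ℕ) (hr : 0 < r)
    (hE : FlatMod.IsFinLocFreeOfRank r E) : ¬ IsZero E := by
  intro hz
  obtain ⟨x⟩ : Nonempty X := inferInstance
  obtain ⟨hfree, hfin, hrk⟩ := Groth.Agent.Lib.Helper4.KTensor.stalk_of_isFinLocFreeOfRank E r hE x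
  haveI := Groth.Agent.Lib.Helper4.Dev.subsingleton_stalk_of_isZero hz x
  rw [Module.finrank_zero_of_subsingleton] at hrk
  omega

/-- **S15340** -/
theorem indecomposable_of_stable (hpid : PIDStalks X) (hdim : topologicalKrullDim X = 1) (r : ℕ) (hr : 0 < r)
    (E : X.Modules) (hE : FlatMod.IsFinLocFreeOfRank r E) (hEst : ModFun.IsSlopeStable k X E r) :
    ¬ IsZero E ∧ ∀ (E₁ E₂ : X.Modules), Nonempty (E ≅ E₁ ⊞ E₂) → IsZero E₁ ∨ IsZero E₂ := by
  refine ⟨not_isZero_of_rank_pos X E r hr hE, ?_⟩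
  rintro E₁ E₂ ⟨e⟩
  set p : E ⟶ E := e.hom ≫ biprod.fst ≫ biprod.inl ≫ e.inv with hp
  by_cases hp0 : p = 0
  · left
    rw [IsZero.iff_id_eq_zero]
    have h1 : 𝟙 E₁ = biprod.inl ≫ e.inv ≫ p ≫ e.hom ≫ biprod.fst := by
      rw [hp]
      simp
    rw [h1, hp0]
    simp
  · right
    haveI := isIso_of_stable k X hpid hdim r E hE hEst p hp0
    have hpp : p ≫ p = p := by
      rw [hp]
      simp
    have hp1 : p = 𝟙 E := by
      rw [← cancel_epi p, hpp, Category.comp_id]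
    rw [IsZero.iff_id_eq_zero]
    have h1 : 𝟙 E₂ = biprod.inr ≫ e.inv ≫ p ≫ e.hom ≫ biprod.snd := by
      rw [hp1]
      simp
    rw [h1, hp]
    simp

end Groth.Agent.Lib.Helper4.CurveHN
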