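import Mathlib
import Groth.Agent.Lib.Helper4CurveHN
import Groth.Agent.Lib.Helper23QCohLocal
import Groth.Agent.Lib.Helper23QCohAbelian
import Groth.Agent.Lib.Helper2QcPush

/-!
# Torsion-free quotients and saturation on regular curves (helper4)

* `isFinLocFreeOfRank_of_torsionFree` : coherent + torsion-free stalks ⇒ locally free (PID stalks)
* `torsionFree_coimage_unit` : the image of `Q ⟶ j_* (Q|_U)` is torsion-free when `Q` is torsion-free on `U`
* `exists_locFree_quotient` : every coherent module has a locally free quotient which is generically an isomorphism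
-/

set_option autoImplicit false
set_option linter.style.haveILetI false
universe u

open TopologicalSpace Topology AlgebraicGeometry CategoryTheory CategoryTheory.Limits Opposite

namespace Groth.Agent.Lib.Helper4.CurveSat

open Groth.Agent.Lib.Helper4.CurveBun Groth.Agent.Lib.Helper4.Dev

variable {X : Scheme.{u}}

/-- local freeness of a coherent module with torsion-free stalks -/
theorem exists_restrict_iso_freeMod_of_torsionFree [IsIntegral X] [IsLocallyNoetherian X] (hpid : PIDStalks X)
    {G : X.Modules} (hG : Coh.IsCoh G) (htf : TorSh.IsTorsionFree G) (x : X) :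
    ∃ (D : X.Opens) (m : ℕ), x ∈ D ∧
      Nonempty (G.restrict D.ι ≅ FlatMod.freeMod (D : Scheme.{u}) m) := by
  haveI : G.IsQuasicoherent := hG.1
  haveI : SheafOfModules.IsFiniteType (R := X.ringCatSheaf) G := hG.2
  haveI : Module.Finite (X.presheaf.stalk x) (G.presheaf.stalk x) :=
    Groth.Agent.Lib.Helper2.FibreCrit.finite_stalk G x
  haveI := hpid x
  haveI : Module.IsTorsionFree (X.presheaf.stalk x) (G.presheaf.stalk x) := htf x
  haveI : Module.Free (X.presheaf.stalk x) (G.presheaf.stalk x) :=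
    Module.free_of_finite_type_torsion_free'
  have hflat : FlatMod.IsFlatAt G x := Module.Flat.of_free
  haveI : SheafOfModules.IsFinitePresentation (R := X.ringCatSheaf) G :=
    Groth.Agent.Lib.Helper23.FinType.isFinitePresentation_of_isFiniteType G
  exact Groth.Agent.Lib.Helper2.LocFree.exists_restrict_iso_freeMod_of_isFlatAt G x hflat

theorem isFinLocFreeOfRank_of_torsionFree [IsIntegral X] [IsLocallyNoetherian X] (hpid : PIDStalks X)
    {G : X.Modules} (hG : Coh.IsCoh G) (htf : TorSh.IsTorsionFree G) :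
    ∃ r' : ℕ, FlatMod.IsFinLocFreeOfRank r' G := by
  haveI : G.IsQuasicoherent := hG.1
  obtain ⟨D₀, m₀, hη₀, ⟨e₀⟩⟩ :=
    exists_restrict_iso_freeMod_of_torsionFree hpid hG htf (genericPoint X)
  refine ⟨m₀, fun x => ?_⟩
  obtain ⟨D, m, hxD, ⟨e⟩⟩ := exists_restrict_iso_freeMod_of_torsionFree hpid hG htf x
  have hηD : genericPoint X ∈ D :=
    (genericPoint_specializes x).mem_open D.2 hxD
  have hm : m = m₀ :=
    Groth.Agent.Lib.Helper26.ModRank.eq_of_restrict_iso_freeMod G e e₀ (genericPoint X) hηD hη₀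
  subst hm
  exact ⟨D, hxD, ⟨e⟩⟩

section Unit
variable [IsIntegral X] (Q : X.Modules) (U : X.Opens)

/-- sections-level: `f ≠ 0`, `(f • s)|_{U ∩ W} = 0` ⇒ `s|_{U ∩ W} = 0` -/
theorem unit_app_eq_zero_of_smul
    (hU : ∀ y ∈ U, Module.IsTorsionFree (X.presheaf.stalk y) (Q.presheaf.stalk y))
    (W : X.Opens) (f : Γ(X, W)) (hf : f ≠ 0) (s : Γ(Q, W))
    (h : ((Scheme.Modules.restrictAdjunction U.ι).unit.app Q).app W (f • s) = 0) :
    ((Scheme.Modules.restrictAdjunction U.ι).unit.app Q).app W s = 0 := by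
  rw [Scheme.Modules.restrictAdjunction_unit_app_app] at h ⊢
  set O' : X.Opens := U.ι ''ᵁ (U.ι ⁻¹ᵁ W) with hO'
  have hle : O' ≤ W := U.ι.image_preimage_le W
  have h' : Q.presheaf.map (homOfLE hle).op (f • s) = 0 := h
  clear h
  rename' h' => h
  suffices key : Q.presheaf.map (homOfLE hle).op s = 0 from key
  apply Groth.Agent.Lib.Helper2.QcPush.section_eq_zero_of_germ Q O'
  intro y hy
  have hyU : y ∈ U := U.ι_image_le _ hy
  have hyW : y ∈ W := hle hy
  haveI := hU y hyU
  have h1 := congrArg (Q.presheaf.germ O' y hy) h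
  rw [map_zero] at h1
  have h2 : Q.presheaf.germ O' y hy (Q.presheaf.map (homOfLE hle).op (f • s)) =
      Q.presheaf.germ W y hyW (f • s) := Q.presheaf.germ_res_apply (homOfLE hle) y hy _
  have h3 : Q.presheaf.germ O' y hy (Q.presheaf.map (homOfLE hle).op s) =
      Q.presheaf.germ W y hyW s := Q.presheaf.germ_res_apply (homOfLE hle) y hy _
  rw [h3]
  rw [h2, Groth.Agent.Lib.Helper2.QCoh.germ_smul Q y W hyW] at h1
  have hne : X.presheaf.germ W y hyW f ≠ 0 := fun h0 =>
    hf (germ_injective_of_isIntegral X y hyW (h0.trans (map_zero _).symm))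
  exact (smul_eq_zero.1 h1).resolve_left hne

/-- the image of `Q ⟶ j_*(Q|_U)` is torsion-free when `Q` is torsion-free along `U` -/
theorem torsionFree_coimage_unit
    (hU : ∀ y ∈ U, Module.IsTorsionFree (X.presheaf.stalk y) (Q.presheaf.stalk y)) :
    TorSh.IsTorsionFree (Abelian.coimage ((Scheme.Modules.restrictAdjunction U.ι).unit.app Q)) := by
  intro x
  set B := (Scheme.Modules.pushforward U.ι).obj (Q.restrict U.ι) with hB
  set η : Q ⟶ B := (Scheme.Modules.restrictAdjunction U.ι).unit.app Q with hη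
  apply Module.IsTorsionFree.of_smul_eq_zero
  intro t q' htq
  by_cases ht : t = 0
  · exact Or.inl ht
  right
  obtain ⟨q, rfl⟩ := stalkL_surjective_of_epi (Abelian.coimage.π η) x q'
  obtain ⟨W₁, hx₁, f₁, rfl⟩ := X.presheaf.exists_germ_eq t
  obtain ⟨W₂, hx₂, s₂, rfl⟩ := Q.presheaf.exists_germ_eq q
  -- restrict to a common neighbourhood
  let W : X.Opens := W₁ ⊓ W₂
  have hxW : x ∈ W := ⟨hx₁, hx₂⟩
  let f : Γ(X, W) := X.presheaf.map (homOfLE (inf_le_left : W ≤ W₁)).op f₁
  let s : Γ(Q, W) := Q.presheaf.map (homOfLE (inf_le_right : W ≤ W₂)).op s₂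
  have hf : X.presheaf.germ W x hxW f = X.presheaf.germ W₁ x hx₁ f₁ :=
    X.presheaf.germ_res_apply (homOfLE inf_le_left) x hxW f₁
  have hs : Q.presheaf.germ W x hxW s = Q.presheaf.germ W₂ x hx₂ s₂ :=
    Q.presheaf.germ_res_apply (homOfLE inf_le_right) x hxW s₂
  rw [← hf] at ht htq
  rw [← hs] at htq ⊢
  -- `η_x (t • q) = 0`
  have h1 : stalkL η x (Q.presheaf.germ W x hxW (f • s)) = 0 := by
    rw [Groth.Agent.Lib.Helper2.QCoh.germ_smul Q x W hxW, map_smul]
    have : stalkL η x (Q.presheaf.germ W x hxW s) =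
        stalkL (Abelian.factorThruCoimage η) x (stalkL (Abelian.coimage.π η) x (Q.presheaf.germ W x hxW s)) := by
      rw [← stalkL_comp_apply, Abelian.coimage.fac]
    rw [this, ← map_smul, htq, map_zero]
  rw [stalkL_germ] at h1
  obtain ⟨W', hxW', i, _, e⟩ := B.presheaf.germ_eq x hxW hxW _ 0 (h1.trans (map_zero _).symm)
  rw [map_zero] at e
  -- naturality
  have e' : η.app W' (Q.presheaf.map i.op (f • s)) = 0 := by
    rw [← e]
    exact congr($((Scheme.Modules.Hom.mapPresheaf η).naturality i.op) (f • s))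
  have hsm : Q.presheaf.map i.op (f • s) = X.presheaf.map i.op f • Q.presheaf.map i.op s :=
    Q.val.map_smul i.op f s
  rw [hsm] at e'
  have hf' : X.presheaf.map i.op f ≠ 0 := by
    intro h0
    apply ht
    rw [← X.presheaf.germ_res_apply i x hxW' f, h0, map_zero]
  have key := unit_app_eq_zero_of_smul Q U hU W' _ hf' _ e'
  -- conclude
  apply stalkL_injective_of_mono (Abelian.factorThruCoimage η) x
  rw [map_zero, ← stalkL_comp_apply, Abelian.coimage.fac, stalkL_germ,
    ← B.presheaf.germ_res_apply i x hxW' (η.app W s)]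
  have : B.presheaf.map i.op (η.app W s) = η.app W' (Q.presheaf.map i.op s) :=
    (congr($((Scheme.Modules.Hom.mapPresheaf η).naturality i.op) s)).symm
  rw [this, key, map_zero]

end Unit

/-- the unit `Q ⟶ j_*(Q|_U)` is injective on stalks at points of `U` -/
theorem stalkL_unit_injective (Q : X.Modules) (U : X.Opens) (x : X) (hx : x ∈ U) :
    Function.Injective (stalkL ((Scheme.Modules.restrictAdjunction U.ι).unit.app Q :
      Q ⟶ (Scheme.Modules.pushforward U.ι).obj (Q.restrict U.ι)) x) := by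
  set B := (Scheme.Modules.pushforward U.ι).obj (Q.restrict U.ι) with hB
  set η : Q ⟶ B := (Scheme.Modules.restrictAdjunction U.ι).unit.app Q with hη
  rw [injective_iff_map_eq_zero]
  intro q hq
  obtain ⟨W₀, hxW₀, s₀, rfl⟩ := Q.presheaf.exists_germ_eq q
  let W : X.Opens := W₀
  have hxW : x ∈ W := hxW₀
  let s : Γ(Q, W) := s₀
  change stalkL η x (Q.presheaf.germ W x hxW s) = 0 at hq
  change Q.presheaf.germ W x hxW s = 0
  rw [stalkL_germ η x W hxW s] at hq
  obtain ⟨W', hxW', i, _, e⟩ := B.presheaf.germ_eq x hxW hxW _ 0 (hq.trans (map_zero _).symm)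
  rw [map_zero] at e
  have e' : η.app W' (Q.presheaf.map i.op s) = 0 := by
    rw [← e]
    exact congr($((Scheme.Modules.Hom.mapPresheaf η).naturality i.op) s)
  rw [hη, Scheme.Modules.restrictAdjunction_unit_app_app] at e'
  set O' : X.Opens := U.ι ''ᵁ (U.ι ⁻¹ᵁ W') with hO'
  have hle : O' ≤ W' := U.ι.image_preimage_le W'
  have hxO' : x ∈ O' := by
    rw [hO', Scheme.Hom.image_preimage_eq_opensRange_inf]
    exact ⟨by simpa using hx, hxW'⟩
  have e'' : Q.presheaf.map (homOfLE hle).op (Q.presheaf.map i.op s) = 0 := e'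
  rw [← Q.presheaf.germ_res_apply i x hxW' s,
    ← Q.presheaf.germ_res_apply (homOfLE hle) x hxO' (Q.presheaf.map i.op s), e'', map_zero]

section Quot
variable [IsIntegral X]

/-- the locally free locus of a module -/
def freeLocus (Q : X.Modules) : X.Opens :=
  sSup {D : X.Opens | ∃ m : ℕ, Nonempty (Q.restrict D.ι ≅ FlatMod.freeMod (D : Scheme.{u}) m)}

omit [IsIntegral X] in
theorem free_stalk_of_mem_freeLocus (Q : X.Modules) (y : X) (hy : y ∈ freeLocus Q) :
    Module.Free (X.presheaf.stalk y) (Q.presheaf.stalk y) := by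
  obtain ⟨D₀, ⟨m, ⟨e⟩⟩, hyD⟩ := Opens.mem_sSup.1 hy
  let D : X.Opens := D₀
  obtain ⟨z, rfl⟩ : ∃ z : D, D.ι z = y := ⟨⟨y, hyD⟩, rfl⟩
  exact (Groth.Agent.Lib.Helper1.SPL.free_finite_stalk_of_restrict_iso_freeMod Q D.ι m e z).1

theorem genericPoint_mem_freeLocus [IsLocallyNoetherian X] (Q : X.Modules) (hQ : Coh.IsCoh Q) :
    genericPoint X ∈ freeLocus Q := by
  haveI : Q.IsQuasicoherent := hQ.1
  haveI : SheafOfModules.IsFiniteType (R := X.ringCatSheaf) Q := hQ.2
  haveI : SheafOfModules.IsFinitePresentation (R := X.ringCatSheaf) Q :=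
    Groth.Agent.Lib.Helper23.FinType.isFinitePresentation_of_isFiniteType Q
  have hflat : FlatMod.IsFlatAt Q (genericPoint X) := by
    letI : Field (X.presheaf.stalk (genericPoint X)) := inferInstanceAs (Field X.functionField)
    exact Module.Flat.of_free
  obtain ⟨D, m, hD, he⟩ :=
    Groth.Agent.Lib.Helper2.LocFree.exists_restrict_iso_freeMod_of_isFlatAt Q (genericPoint X) hflat
  exact Opens.mem_sSup.2 ⟨D, ⟨m, he⟩, hD⟩

open Groth.Agent.Lib.Helper23.QCohLocal Groth.Agent.Lib.Helper23.FinType in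
/-- every coherent module has a locally free quotient which is an isomorphism at the generic point -/
theorem exists_locFree_quotient [IsNoetherian X] (hpid : PIDStalks X) (Q : X.Modules) (hQ : Coh.IsCoh Q) :
    ∃ (Q' : X.Modules) (p : Q ⟶ Q') (q : ℕ), Epi p ∧ FlatMod.IsFinLocFreeOfRank q Q' ∧
      Subsingleton ((kernel p).presheaf.stalk (genericPoint X)) := by
  haveI : Q.IsQuasicoherent := hQ.1
  haveI : SheafOfModules.IsFiniteType (R := X.ringCatSheaf) Q := hQ.2
  set U := freeLocus Q with hU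
  set B := (Scheme.Modules.pushforward U.ι).obj (Q.restrict U.ι) with hB
  set η : Q ⟶ B := (Scheme.Modules.restrictAdjunction U.ι).unit.app Q with hη
  haveI : (Q.restrict U.ι).IsQuasicoherent :=
    (SheafOfModules.isQuasicoherent (U : Scheme.{u}).ringCatSheaf).prop_of_iso
      ((Scheme.Modules.restrictFunctorIsoPullback U.ι).app Q).symm
      (Groth.Agent.Lib.Helper2.PullbackSec.isQuasicoherent_pullback U.ι Q)
  haveI : B.IsQuasicoherent := isQuasicoherent_pushforward U.ι (Q.restrict U.ι)
  haveI : (kernel η).IsQuasicoherent := isQuasicoherent_kernel η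
  haveI : (Abelian.coimage η).IsQuasicoherent := isQuasicoherent_cokernel (kernel.ι η)
  have cQ' : Coh.IsCoh (Abelian.coimage η) := ⟨inferInstance, isFiniteType_of_epi (Abelian.coimage.π η)⟩
  have htf : TorSh.IsTorsionFree (Abelian.coimage η) :=
    torsionFree_coimage_unit Q U (fun y hy => by
      haveI := free_stalk_of_mem_freeLocus Q y hy
      infer_instance)
  obtain ⟨q, hq⟩ := isFinLocFreeOfRank_of_torsionFree hpid cQ' htf
  refine ⟨Abelian.coimage η, Abelian.coimage.π η, q, inferInstance, hq, ?_⟩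
  apply subsingleton_stalk_kernel_of_injective
  have hinj := stalkL_unit_injective Q U (genericPoint X) (genericPoint_mem_freeLocus Q hQ)
  have hfac : stalkL η (genericPoint X) =
      (stalkL (Abelian.factorThruCoimage η) (genericPoint X)).comp
        (stalkL (Abelian.coimage.π η) (genericPoint X)) := by
    rw [← stalkL_comp, Abelian.coimage.fac]
  intro a b hab
  apply hinj
  change stalkL η (genericPoint X) a = stalkL η (genericPoint X) b
  rw [hfac, LinearMap.comp_apply, LinearMap.comp_apply, hab]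

end Quot

end Groth.Agent.Lib.Helper4.CurveSat
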