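import Mathlib
import Groth.Agent.Lib.Helper4CurveSat

/-!
# Saturation of subsheaves of bundles on regular proper curves; quotient vs sub stability (helper4)

* `exists_saturation` : for `G ⊆ E` bundles, an epi `g : E ⟶ F` onto a bundle of rank `r - r'` with `G ⊆ ker g`,
  `ker g` a bundle of rank `r'`, `deg G ≤ deg (ker g)` with equality only if `G = ker g`
* `quot_ss_iff_sub_ss`, `quot_stable_iff_sub_stable` (S14151)
-/

set_option autoImplicit false
set_option linter.style.haveILetI false
universe u

open TopologicalSpace Topology AlgebraicGeometry CategoryTheory CategoryTheory.Limits Opposite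

namespace Groth.Agent.Lib.Helper4.CurveSat

open Groth.Agent.Lib.Helper4.CurveBun Groth.Agent.Lib.Helper4.Dev Groth.Agent.Lib.Helper4.DegAdd
  Groth.Agent.Lib.Helper4.CurveStab

variable (k : Type u) [Field k] (X : Scheme.{u}) [X.Over (Spec (CommRingCat.of k))]
  [IsIntegral X] [IsProper (X ↘ (Spec (CommRingCat.of k)))]

/-- saturation of a sub-bundle -/
theorem exists_saturation (hpid : PIDStalks X) (hdim : topologicalKrullDim X = 1) {G E : X.Modules}
    (i : G ⟶ E) [Mono i] (r' r : ℕ)
    (hG : FlatMod.IsFinLocFreeOfRank r' G) (hE : FlatMod.IsFinLocFreeOfRank r E) :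
    ∃ (F : X.Modules) (g : E ⟶ F) (u : G ⟶ kernel g), Epi g ∧ u ≫ kernel.ι g = i ∧ r' ≤ r ∧
      FlatMod.IsFinLocFreeOfRank r' (kernel g) ∧ FlatMod.IsFinLocFreeOfRank (r - r') F ∧
      Curv2.deg k X E r = Curv2.deg k X (kernel g) r' + Curv2.deg k X F (r - r') ∧
      Curv2.deg k X G r' ≤ Curv2.deg k X (kernel g) r' ∧
      (Curv2.deg k X G r' = Curv2.deg k X (kernel g) r' → IsIso u) := by
  haveI : IsLocallyNoetherian X := isLocallyNoetherian_of_proper k X
  haveI : IsNoetherian X := Groth.Agent.Lib.Helper4.CurveRR.isNoetherian_of_proper k X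
  have cG := isCoh_of_isFinLocFreeOfRank G r' hG
  have cE := isCoh_of_isFinLocFreeOfRank E r hE
  have cQ : Coh.IsCoh (cokernel i) := isCoh_cokernel i cG cE
  obtain ⟨Q', p, q, hp, hQ', hgen⟩ := exists_locFree_quotient hpid (cokernel i) cQ
  set g : E ⟶ Q' := cokernel.π i ≫ p with hg
  haveI : Epi g := epi_comp _ _
  have cQ' := isCoh_of_isFinLocFreeOfRank Q' q hQ'
  have cG' : Coh.IsCoh (kernel g) := isCoh_kernel g cE cQ'
  obtain ⟨a, -, hG'⟩ := isFinLocFreeOfRank_of_mono hpid (kernel.ι g) cG' r hE
  have hra : r = a + q := rank_add_of_shortExact (sesOfEpi g) (sesOfEpi_shortExact g) a r q hG' hE hQ'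
  have cK : Coh.IsCoh (kernel p) := isCoh_kernel p cQ cQ'
  have h1 : Module.finrank (X.presheaf.stalk (genericPoint X)) (E.presheaf.stalk (genericPoint X)) =
      Module.finrank (X.presheaf.stalk (genericPoint X)) (G.presheaf.stalk (genericPoint X)) +
      Module.finrank (X.presheaf.stalk (genericPoint X)) ((cokernel i).presheaf.stalk (genericPoint X)) :=
    Groth.Agent.Lib.Helper4.CurveChi.rk_additive X (sesOfMono i) (sesOfMono_shortExact i) cG cQ
  have h2 : Module.finrank (X.presheaf.stalk (genericPoint X)) ((cokernel i).presheaf.stalk (genericPoint X)) =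
      Module.finrank (X.presheaf.stalk (genericPoint X)) ((kernel p).presheaf.stalk (genericPoint X)) +
      Module.finrank (X.presheaf.stalk (genericPoint X)) (Q'.presheaf.stalk (genericPoint X)) :=
    Groth.Agent.Lib.Helper4.CurveChi.rk_additive X (sesOfEpi p) (sesOfEpi_shortExact p) cK cQ'
  rw [Module.finrank_zero_of_subsingleton (M := (kernel p).presheaf.stalk (genericPoint X)), zero_add,
    (Groth.Agent.Lib.Helper4.KTensor.stalk_of_isFinLocFreeOfRank _ q hQ' (genericPoint X)).2.2] at h2
  rw [h2, (Groth.Agent.Lib.Helper4.KTensor.stalk_of_isFinLocFreeOfRank _ r hE (genericPoint X)).2.2,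
    (Groth.Agent.Lib.Helper4.KTensor.stalk_of_isFinLocFreeOfRank _ r' hG (genericPoint X)).2.2] at h1
  have har : a = r' := by omega
  subst har
  have hq : q = r - a := by omega
  subst hq
  have hz : i ≫ g = 0 := by rw [hg, cokernel.condition_assoc, zero_comp]
  have hu : kernel.lift g i hz ≫ kernel.ι g = i := kernel.lift_ι _ _ _
  haveI : Mono (kernel.lift g i hz ≫ kernel.ι g) := by rw [hu]; infer_instance
  haveI : Mono (kernel.lift g i hz) := mono_of_mono _ (kernel.ι g)
  obtain ⟨hle, hiff⟩ := Groth.Agent.Lib.Helper4.CurveGenIso.deg_le_deg k X hdim G (kernel g) cG cG' a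
    (kernel.lift g i hz) (subsingleton_cokernel_stalk_genericPoint k X (kernel.lift g i hz) a hG hG')
  exact ⟨Q', g, kernel.lift g i hz, inferInstance, hu, by omega, hG', hQ',
    deg_additive k X (sesOfEpi g) (sesOfEpi_shortExact g) a r (r - a) hG' hE hQ', hle, hiff.1⟩

/-- kernel of an epi from a bundle onto a bundle -/
theorem kernel_of_epi (hpid : PIDStalks X) {E F : X.Modules} (p : E ⟶ F) [Epi p] (r s : ℕ)
    (hE : FlatMod.IsFinLocFreeOfRank r E) (hF : FlatMod.IsFinLocFreeOfRank s F) :
    ∃ a : ℕ, r = a + s ∧ FlatMod.IsFinLocFreeOfRank a (kernel p) ∧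
      Curv2.deg k X E r = Curv2.deg k X (kernel p) a + Curv2.deg k X F s := by
  haveI : IsLocallyNoetherian X := isLocallyNoetherian_of_proper k X
  have cE := isCoh_of_isFinLocFreeOfRank E r hE
  have cF := isCoh_of_isFinLocFreeOfRank F s hF
  have cK : Coh.IsCoh (kernel p) := isCoh_kernel p cE cF
  obtain ⟨a, -, hK⟩ := isFinLocFreeOfRank_of_mono hpid (kernel.ι p) cK r hE
  exact ⟨a, rank_add_of_shortExact (sesOfEpi p) (sesOfEpi_shortExact p) a r s hK hE hF, hK,
    deg_additive k X (sesOfEpi p) (sesOfEpi_shortExact p) a r s hK hE hF⟩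

/-- **S14151**, semistable part -/
theorem quot_ss_iff_sub_ss (hpid : PIDStalks X) (hdim : topologicalKrullDim X = 1) (r : ℕ)
    (E : X.Modules) (hE : FlatMod.IsFinLocFreeOfRank r E) :
    (∀ (F : X.Modules) (s : ℕ) (p : E ⟶ F), Epi p → 0 < s → FlatMod.IsFinLocFreeOfRank s F →
      Curv2.deg k X E r * (s : ℤ) ≤ Curv2.deg k X F s * (r : ℤ)) ↔
    ModFun.IsSlopeSemistable k X E r := by
  constructor
  · intro hq G r' i hi hr' hG
    obtain ⟨F, g, u, hg, hu, hle, hK, hF, hdeg, hdle, -⟩ := exists_saturation k X hpid hdim i r' r hG hE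
    have hr0 : (0 : ℤ) ≤ (r : ℤ) := Int.natCast_nonneg r
    have h1 := mul_le_mul_of_nonneg_right hdle hr0
    rcases Nat.eq_or_lt_of_le hle with heq | hlt
    · subst heq
      rw [Nat.sub_self] at hF hdeg
      rw [deg_rank_zero k _ hF, add_zero] at hdeg
      rw [hdeg]
      exact h1
    · have hs : 0 < r - r' := Nat.sub_pos_of_lt hlt
      have h2 := hq F (r - r') g hg hs hF
      have hrs : (r : ℤ) = (r' : ℤ) + ((r - r' : ℕ) : ℤ) := by
        have : r = r' + (r - r') := by omega
        exact_mod_cast this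
      have h3 : Curv2.deg k X E r * (r : ℤ) =
          Curv2.deg k X E r * (r' : ℤ) + Curv2.deg k X E r * ((r - r' : ℕ) : ℤ) := by
        rw [← mul_add, ← hrs]
      have h4 : Curv2.deg k X E r * (r : ℤ) =
          Curv2.deg k X (kernel g) r' * (r : ℤ) + Curv2.deg k X F (r - r') * (r : ℤ) := by
        rw [hdeg]; ring
      linarith
  · intro hss F s p hp hs hF
    obtain ⟨a, hra, hK, hdeg⟩ := kernel_of_epi k X hpid p r s hE hF
    have hr' : (r : ℤ) = a + s := by exact_mod_cast hra
    rcases Nat.eq_zero_or_pos a with ha | ha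
    · subst ha
      rw [deg_rank_zero k _ hK, zero_add] at hdeg
      rw [hdeg, hr']
      simp
    · have h := hss _ a (kernel.ι p) inferInstance ha hK
      have h3 : Curv2.deg k X E r * (r : ℤ) =
          Curv2.deg k X E r * (a : ℤ) + Curv2.deg k X E r * (s : ℤ) := by
        rw [hr']; ring
      have h4 : Curv2.deg k X E r * (r : ℤ) =
          Curv2.deg k X (kernel p) a * (r : ℤ) + Curv2.deg k X F s * (r : ℤ) := by
        rw [hdeg]; ring
      linarith

/-- **S14151**, stable part -/
theorem quot_stable_iff_sub_stable (hpid : PIDStalks X) (hdim : topologicalKrullDim X = 1) (r : ℕ)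
    (hr : 0 < r) (E : X.Modules) (hE : FlatMod.IsFinLocFreeOfRank r E) :
    (∀ (F : X.Modules) (s : ℕ) (p : E ⟶ F), Epi p → 0 < s → FlatMod.IsFinLocFreeOfRank s F → (¬ IsIso p) →
      Curv2.deg k X E r * (s : ℤ) < Curv2.deg k X F s * (r : ℤ)) ↔
    (∀ (G : X.Modules) (r' : ℕ) (i : G ⟶ E), Mono i → 0 < r' → FlatMod.IsFinLocFreeOfRank r' G → (¬ IsIso i) →
      Curv2.deg k X G r' * (r : ℤ) < Curv2.deg k X E r * (r' : ℤ)) := by
  have hr0 : (0 : ℤ) < (r : ℤ) := by exact_mod_cast hr
  constructor
  · intro hq G r' i hi hr' hG hni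
    obtain ⟨F, g, u, hg, hu, hle, hK, hF, hdeg, hdle, hiso⟩ :=
      exists_saturation k X hpid hdim i r' r hG hE
    have h1 := mul_le_mul_of_nonneg_right hdle hr0.le
    rcases Nat.eq_or_lt_of_le hle with heq | hlt
    · subst heq
      rw [Nat.sub_self] at hF hdeg
      have hz : IsZero F := isZero_of_rank_zero F hF
      haveI : IsIso (kernel.ι g) := by
        have h0 : g = 0 := hz.eq_of_tgt g 0
        rw [h0]
        infer_instance
      rw [deg_rank_zero k _ hF, add_zero] at hdeg
      have hne : Curv2.deg k X G r' ≠ Curv2.deg k X (kernel g) r' := by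
        intro h
        haveI := hiso h
        apply hni
        rw [← hu]
        infer_instance
      have hlt : Curv2.deg k X G r' < Curv2.deg k X (kernel g) r' := lt_of_le_of_ne hdle hne
      rw [hdeg]
      exact mul_lt_mul_of_pos_right hlt hr0
    · have hs : 0 < r - r' := Nat.sub_pos_of_lt hlt
      have hgni : ¬ IsIso g := by
        intro hgi
        exact Groth.Agent.Lib.Helper4.CurveHN.not_isZero_of_rank_pos X _ r' hr' hK
          (isZero_kernel_of_mono g)
      have h2 := hq F (r - r') g hg hs hF hgni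
      have hrs : (r : ℤ) = (r' : ℤ) + ((r - r' : ℕ) : ℤ) := by
        have : r = r' + (r - r') := by omega
        exact_mod_cast this
      have h3 : Curv2.deg k X E r * (r : ℤ) =
          Curv2.deg k X E r * (r' : ℤ) + Curv2.deg k X E r * ((r - r' : ℕ) : ℤ) := by
        rw [← mul_add, ← hrs]
      have h4 : Curv2.deg k X E r * (r : ℤ) =
          Curv2.deg k X (kernel g) r' * (r : ℤ) + Curv2.deg k X F (r - r') * (r : ℤ) := by
        rw [hdeg]; ring
      linarith
  · intro hst F s p hp hs hF hni
    obtain ⟨a, hra, hK, hdeg⟩ := kernel_of_epi k X hpid p r s hE hF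
    have hr' : (r : ℤ) = a + s := by exact_mod_cast hra
    rcases Nat.eq_zero_or_pos a with ha | ha
    · subst ha
      exfalso
      apply hni
      haveI : Mono p := Preadditive.mono_of_isZero_kernel p (isZero_of_rank_zero _ hK)
      exact isIso_of_mono_of_epi p
    · have hkni : ¬ IsIso (kernel.ι p) := by
        intro hki
        have hp0 : p = 0 := by
          rw [← cancel_epi (kernel.ι p), kernel.condition, comp_zero]
        have hz : IsZero F := by
          rw [IsZero.iff_id_eq_zero, ← cancel_epi p, hp0, zero_comp, zero_comp]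
        exact Groth.Agent.Lib.Helper4.CurveHN.not_isZero_of_rank_pos X F s hs hF hz
      have h := hst _ a (kernel.ι p) inferInstance ha hK hkni
      have h3 : Curv2.deg k X E r * (r : ℤ) =
          Curv2.deg k X E r * (a : ℤ) + Curv2.deg k X E r * (s : ℤ) := by
        rw [hr']; ring
      have h4 : Curv2.deg k X E r * (r : ℤ) =
          Curv2.deg k X (kernel p) a * (r : ℤ) + Curv2.deg k X F s * (r : ℤ) := by
        rw [hdeg]; ring
      linarith

end Groth.Agent.Lib.Helper4.CurveSat
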