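import Mathlib
import Groth.Agent.Lib.Helper4CurveSat2

/-!
# The maximal destabilising sub-bundle: existence and uniqueness (helper4)

* `preimage_bundle'` : preimage of a sub-bundle of a coherent quotient
* `exists_destab` , `destab_unique` (S16470)
-/

set_option autoImplicit false
set_option linter.style.haveILetI false
universe u

open TopologicalSpace Topology AlgebraicGeometry CategoryTheory CategoryTheory.Limits Opposite

namespace Groth.Agent.Lib.Helper4.CurveHN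

open Groth.Agent.Lib.Helper4.CurveBun Groth.Agent.Lib.Helper4.Dev Groth.Agent.Lib.Helper4.DegAdd
  Groth.Agent.Lib.Helper4.CurveStab Groth.Agent.Lib.Helper4.CurveSat

variable (k : Type u) [Field k] (X : Scheme.{u}) [X.Over (Spec (CommRingCat.of k))]
  [IsIntegral X] [IsProper (X ↘ (Spec (CommRingCat.of k)))]

/-- the preimage in `E` of a sub-bundle `G ⊆ C` along `0 → E₁ → E → C → 0`, `C` coherent -/
theorem preimage_bundle' (hpid : PIDStalks X) (T : ShortComplex X.Modules) (hT : T.ShortExact)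
    (r₁ r : ℕ) (hE₁ : FlatMod.IsFinLocFreeOfRank r₁ T.X₁) (hE : FlatMod.IsFinLocFreeOfRank r T.X₂)
    (G : X.Modules) (r' : ℕ) (i : G ⟶ T.X₃) (hi : Mono i) (hG : FlatMod.IsFinLocFreeOfRank r' G) :
    ∃ (P : X.Modules) (j : P ⟶ T.X₂), Mono j ∧ FlatMod.IsFinLocFreeOfRank (r₁ + r') P ∧
      Curv2.deg k X P (r₁ + r') = Curv2.deg k X T.X₁ r₁ + Curv2.deg k X G r' := by
  haveI : IsLocallyNoetherian X := isLocallyNoetherian_of_proper k X
  have := hT.epi_g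
  have := hT.mono_f
  have c₁ := isCoh_of_isFinLocFreeOfRank _ r₁ hE₁
  have c₂ := isCoh_of_isFinLocFreeOfRank _ r hE
  have c₃ : Coh.IsCoh T.X₃ :=
    isCoh_of_iso (IsColimit.coconePointUniqueUpToIso (colimit.isColimit _) hT.gIsCokernel)
      (isCoh_cokernel T.f c₁ c₂)
  have cG := isCoh_of_isFinLocFreeOfRank _ r' hG
  have cQ : Coh.IsCoh (cokernel i) := isCoh_cokernel i cG c₃
  have cP : Coh.IsCoh (kernel (T.g ≫ cokernel.π i)) := isCoh_kernel _ c₂ cQ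
  obtain ⟨p', -, hP⟩ := isFinLocFreeOfRank_of_mono hpid (kernel.ι (T.g ≫ cokernel.π i)) cP r hE
  have ht : Module.finrank (X.presheaf.stalk (genericPoint X)) (T.X₂.presheaf.stalk (genericPoint X)) =
      Module.finrank (X.presheaf.stalk (genericPoint X)) (T.X₁.presheaf.stalk (genericPoint X)) +
      Module.finrank (X.presheaf.stalk (genericPoint X)) (T.X₃.presheaf.stalk (genericPoint X)) :=
    Groth.Agent.Lib.Helper4.CurveChi.rk_additive X T hT c₁ c₃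
  have ha : Module.finrank (X.presheaf.stalk (genericPoint X)) (T.X₂.presheaf.stalk (genericPoint X)) =
      Module.finrank (X.presheaf.stalk (genericPoint X))
        ((kernel (T.g ≫ cokernel.π i)).presheaf.stalk (genericPoint X)) +
      Module.finrank (X.presheaf.stalk (genericPoint X)) ((cokernel i).presheaf.stalk (genericPoint X)) :=
    Groth.Agent.Lib.Helper4.CurveChi.rk_additive X (sesOfEpi (T.g ≫ cokernel.π i))
      (sesOfEpi_shortExact (T.g ≫ cokernel.π i)) cP cQ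
  have hb : Module.finrank (X.presheaf.stalk (genericPoint X)) (T.X₃.presheaf.stalk (genericPoint X)) =
      Module.finrank (X.presheaf.stalk (genericPoint X)) (G.presheaf.stalk (genericPoint X)) +
      Module.finrank (X.presheaf.stalk (genericPoint X)) ((cokernel i).presheaf.stalk (genericPoint X)) :=
    Groth.Agent.Lib.Helper4.CurveChi.rk_additive X (sesOfMono i) (sesOfMono_shortExact i) cG cQ
  rw [(Groth.Agent.Lib.Helper4.KTensor.stalk_of_isFinLocFreeOfRank _ r hE (genericPoint X)).2.2,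
    (Groth.Agent.Lib.Helper4.KTensor.stalk_of_isFinLocFreeOfRank _ p' hP (genericPoint X)).2.2] at ha
  rw [(Groth.Agent.Lib.Helper4.KTensor.stalk_of_isFinLocFreeOfRank _ r hE (genericPoint X)).2.2,
    (Groth.Agent.Lib.Helper4.KTensor.stalk_of_isFinLocFreeOfRank _ r₁ hE₁ (genericPoint X)).2.2] at ht
  rw [(Groth.Agent.Lib.Helper4.KTensor.stalk_of_isFinLocFreeOfRank _ r' hG (genericPoint X)).2.2] at hb
  have hp' : p' = r₁ + r' := by omega
  subst hp'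
  refine ⟨_, kernel.ι (T.g ≫ cokernel.π i), inferInstance, hP, ?_⟩
  have e1 := Groth.Agent.Lib.Helper6.Euler.euler_additive k X (sesOfEpi (T.g ≫ cokernel.π i))
    (sesOfEpi_shortExact (T.g ≫ cokernel.π i)) cP c₂ cQ
  have e2 := Groth.Agent.Lib.Helper6.Euler.euler_additive k X (sesOfMono i) (sesOfMono_shortExact i) cG c₃ cQ
  have e3 := Groth.Agent.Lib.Helper6.Euler.euler_additive k X T hT c₁ c₂ c₃
  change Curv2.euler k X T.X₂ = Curv2.euler k X (kernel (T.g ≫ cokernel.π i)) +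
    Curv2.euler k X (cokernel i) at e1
  change Curv2.euler k X T.X₃ = Curv2.euler k X G + Curv2.euler k X (cokernel i) at e2
  unfold Curv2.deg
  push_cast
  linarith

/-- **S16470**, existence -/
theorem exists_destab (hpid : PIDStalks X) (hdim : topologicalKrullDim X = 1) (r : ℕ) (hr : 0 < r)
    (E : X.Modules) (hE : FlatMod.IsFinLocFreeOfRank r E) :
    ∃ (E₁ : X.Modules) (r₁ : ℕ) (i₁ : E₁ ⟶ E), Mono i₁ ∧ 0 < r₁ ∧ FlatMod.IsFinLocFreeOfRank r₁ E₁ ∧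
      (∀ (F : X.Modules) (r' : ℕ) (j : F ⟶ E), Mono j → 0 < r' → FlatMod.IsFinLocFreeOfRank r' F →
        Curv2.deg k X F r' * (r₁ : ℤ) ≤ Curv2.deg k X E₁ r₁ * (r' : ℤ)) ∧
      (∀ (Q : X.Modules) (s : ℕ) (j : Q ⟶ cokernel i₁), Mono j → 0 < s → FlatMod.IsFinLocFreeOfRank s Q →
        Curv2.deg k X Q s * (r₁ : ℤ) < Curv2.deg k X E₁ r₁ * (s : ℤ)) := by
  obtain ⟨E₁, r₁, i₁, hi₁, h0₁, hE₁, hmax, hrk, -⟩ := exists_max_destab k X hdim r hr E hE
  refine ⟨E₁, r₁, i₁, hi₁, h0₁, hE₁, hmax, ?_⟩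
  intro Q s j hj hs hQ
  obtain ⟨P, jP, hjP, hP, hdP⟩ := preimage_bundle' k X hpid (sesOfMono i₁) (sesOfMono_shortExact i₁)
    r₁ r hE₁ hE Q s j hj hQ
  have h := hmax P (r₁ + s) jP hjP (by omega) hP
  have hle : Curv2.deg k X Q s * (r₁ : ℤ) ≤ Curv2.deg k X E₁ r₁ * (s : ℤ) := by
    rw [hdP] at h
    push_cast at h
    change (Curv2.deg k X E₁ r₁ + Curv2.deg k X Q s) * (r₁ : ℤ) ≤
      Curv2.deg k X E₁ r₁ * ((r₁ : ℤ) + (s : ℤ)) at h
    linarith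
  refine lt_of_le_of_ne hle (fun heq => ?_)
  have h2 := hrk P (r₁ + s) jP hjP (by omega) hP (by
    rw [hdP]
    push_cast
    change (Curv2.deg k X E₁ r₁ + Curv2.deg k X Q s) * (r₁ : ℤ) =
      Curv2.deg k X E₁ r₁ * ((r₁ : ℤ) + (s : ℤ))
    linarith)
  omega

/-- if `i = u ≫ ker(g)` with `u` iso and `g` epi then `coker i ≅ target g` -/
noncomputable def cokernelIsoOfSaturated {X : Scheme.{u}} {G E F : X.Modules} (i : G ⟶ E) (g : E ⟶ F) [Epi g]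
    (u : G ⟶ kernel g) [IsIso u] (hu : u ≫ kernel.ι g = i) : cokernel i ≅ F :=
  cokernelIsoOfEq hu.symm ≪≫ cokernelEpiComp u (kernel.ι g) ≪≫
    IsColimit.coconePointUniqueUpToIso (colimit.isColimit _)
      (Abelian.epiIsCokernelOfKernel _ (limit.isLimit (parallelPair g 0)))

/-- a sub-bundle of maximal slope has a locally free quotient -/
theorem cokernel_locFree_of_max_slope (hpid : PIDStalks X) (hdim : topologicalKrullDim X = 1) (r : ℕ)
    (E : X.Modules) (hE : FlatMod.IsFinLocFreeOfRank r E)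
    (E₁ : X.Modules) (r₁ : ℕ) (i₁ : E₁ ⟶ E) (hi₁ : Mono i₁) (h0 : 0 < r₁)
    (hE₁ : FlatMod.IsFinLocFreeOfRank r₁ E₁)
    (hA : ∀ (F : X.Modules) (r' : ℕ) (j : F ⟶ E), Mono j → 0 < r' → FlatMod.IsFinLocFreeOfRank r' F →
        Curv2.deg k X F r' * (r₁ : ℤ) ≤ Curv2.deg k X E₁ r₁ * (r' : ℤ)) :
    FlatMod.IsFinLocFreeOfRank (r - r₁) (cokernel i₁) := by
  obtain ⟨F, g, u, hg, hu, hle, hK, hF, hdeg, hdle, hiso⟩ :=
    exists_saturation k X hpid hdim i₁ r₁ r hE₁ hE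
  have hr₁0 : (0 : ℤ) < (r₁ : ℤ) := by exact_mod_cast h0
  have h1 := hA _ r₁ (kernel.ι g) inferInstance h0 hK
  have h2 : Curv2.deg k X (kernel g) r₁ ≤ Curv2.deg k X E₁ r₁ := le_of_mul_le_mul_right h1 hr₁0
  haveI := hiso (le_antisymm hdle h2)
  exact Groth.Agent.Lib.Helper26.ModRank.isFinLocFreeOfRank_of_iso
    (cokernelIsoOfSaturated i₁ g u hu).symm hF

/-- the key step of uniqueness: a second destabilising sub-bundle factors through the first -/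
theorem destab_factors (hpid : PIDStalks X) (hdim : topologicalKrullDim X = 1) (r : ℕ)
    (E : X.Modules) (hE : FlatMod.IsFinLocFreeOfRank r E)
    (E₁ E₁' : X.Modules) (r₁ r₁' : ℕ) (i₁ : E₁ ⟶ E) (i₁' : E₁' ⟶ E)
    (hi₁ : Mono i₁) (h0 : 0 < r₁) (hE₁ : FlatMod.IsFinLocFreeOfRank r₁ E₁)
    (hA : ∀ (F : X.Modules) (r' : ℕ) (j : F ⟶ E), Mono j → 0 < r' → FlatMod.IsFinLocFreeOfRank r' F →
        Curv2.deg k X F r' * (r₁ : ℤ) ≤ Curv2.deg k X E₁ r₁ * (r' : ℤ))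
    (hB : ∀ (Q : X.Modules) (s : ℕ) (j : Q ⟶ cokernel i₁), Mono j → 0 < s → FlatMod.IsFinLocFreeOfRank s Q →
        Curv2.deg k X Q s * (r₁ : ℤ) < Curv2.deg k X E₁ r₁ * (s : ℤ))
    (hi₁' : Mono i₁') (h0' : 0 < r₁') (hE₁' : FlatMod.IsFinLocFreeOfRank r₁' E₁')
    (hA' : ∀ (F : X.Modules) (r' : ℕ) (j : F ⟶ E), Mono j → 0 < r' → FlatMod.IsFinLocFreeOfRank r' F →
        Curv2.deg k X F r' * (r₁' : ℤ) ≤ Curv2.deg k X E₁' r₁' * (r' : ℤ)) :
    ∃ v : E₁' ⟶ E₁, v ≫ i₁ = i₁' := by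
  have hr₁0 : (0 : ℤ) < (r₁ : ℤ) := by exact_mod_cast h0
  have hr₁'0 : (0 : ℤ) < (r₁' : ℤ) := by exact_mod_cast h0'
  have heq : Curv2.deg k X E₁ r₁ * (r₁' : ℤ) = Curv2.deg k X E₁' r₁' * (r₁ : ℤ) :=
    le_antisymm (hA' E₁ r₁ i₁ hi₁ h0 hE₁) (hA E₁' r₁' i₁' hi₁' h0' hE₁')
  have hC := cokernel_locFree_of_max_slope k X hpid hdim r E hE E₁ r₁ i₁ hi₁ h0 hE₁ hA
  have hss' : ModFun.IsSlopeSemistable k X E₁' r₁' := fun G n j hj hn hG =>
    hA' G n (j ≫ i₁') (mono_comp j i₁') hn hG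
  have hmax : ∀ (G : X.Modules) (n : ℕ) (j : G ⟶ cokernel i₁), Mono j → 0 < n →
      FlatMod.IsFinLocFreeOfRank n G →
      Curv2.deg k X G n * (r₁' : ℤ) < Curv2.deg k X E₁' r₁' * (n : ℤ) := by
    intro G n j hj hn hG
    have h := hB G n j hj hn hG
    have h1 := mul_lt_mul_of_pos_right h hr₁'0
    refine lt_of_mul_lt_mul_right ?_ hr₁0.le
    nlinarith
  have hφ := hom_eq_zero_of_max_slope_lt k X hpid r₁' (r - r₁) E₁' (cokernel i₁) hE₁' hC hss' hmax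
    (i₁' ≫ cokernel.π i₁)
  exact ⟨Abelian.monoLift i₁ i₁' hφ, Abelian.monoLift_comp i₁ i₁' hφ⟩

/-- **S16470**, uniqueness -/
theorem destab_unique (hpid : PIDStalks X) (hdim : topologicalKrullDim X = 1) (r : ℕ)
    (E : X.Modules) (hE : FlatMod.IsFinLocFreeOfRank r E)
    (E₁ E₁' : X.Modules) (r₁ r₁' : ℕ) (i₁ : E₁ ⟶ E) (i₁' : E₁' ⟶ E)
    (hi₁ : Mono i₁) (h0 : 0 < r₁) (hE₁ : FlatMod.IsFinLocFreeOfRank r₁ E₁)
    (hA : ∀ (F : X.Modules) (r' : ℕ) (j : F ⟶ E), Mono j → 0 < r' → FlatMod.IsFinLocFreeOfRank r' F →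
        Curv2.deg k X F r' * (r₁ : ℤ) ≤ Curv2.deg k X E₁ r₁ * (r' : ℤ))
    (hB : ∀ (Q : X.Modules) (s : ℕ) (j : Q ⟶ cokernel i₁), Mono j → 0 < s → FlatMod.IsFinLocFreeOfRank s Q →
        Curv2.deg k X Q s * (r₁ : ℤ) < Curv2.deg k X E₁ r₁ * (s : ℤ))
    (hi₁' : Mono i₁') (h0' : 0 < r₁') (hE₁' : FlatMod.IsFinLocFreeOfRank r₁' E₁')
    (hA' : ∀ (F : X.Modules) (r' : ℕ) (j : F ⟶ E), Mono j → 0 < r' → FlatMod.IsFinLocFreeOfRank r' F →
        Curv2.deg k X F r' * (r₁' : ℤ) ≤ Curv2.deg k X E₁' r₁' * (r' : ℤ))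
    (hB' : ∀ (Q : X.Modules) (s : ℕ) (j : Q ⟶ cokernel i₁'), Mono j → 0 < s → FlatMod.IsFinLocFreeOfRank s Q →
        Curv2.deg k X Q s * (r₁' : ℤ) < Curv2.deg k X E₁' r₁' * (s : ℤ)) :
    ∃ e : E₁ ≅ E₁', e.hom ≫ i₁' = i₁ := by
  obtain ⟨v, hv⟩ := destab_factors k X hpid hdim r E hE E₁ E₁' r₁ r₁' i₁ i₁' hi₁ h0 hE₁ hA hB hi₁' h0' hE₁' hA'
  obtain ⟨w, hw⟩ := destab_factors k X hpid hdim r E hE E₁' E₁ r₁' r₁ i₁' i₁ hi₁' h0' hE₁' hA' hB' hi₁ h0 hE₁ hA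
  refine ⟨⟨w, v, ?_, ?_⟩, hw⟩
  · rw [← cancel_mono i₁, Category.assoc, hv, hw, Category.id_comp]
  · rw [← cancel_mono i₁', Category.assoc, hw, hv, Category.id_comp]

end Groth.Agent.Lib.Helper4.CurveHN
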