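import Mathlib
import Groth.Agent.Lib.Helper4CurveHN2
import Groth.Agent.Lib.Helper23QAffSec
import Groth.Agent.Lib.Helper23TensorUnit

/-!
# Global sections of semistable bundles of degree zero (helper4)

* `h0_le_add` : `h⁰` is subadditive on short exact sequences of coherent modules
* `h0_le_rank_of_ss_deg_zero` (S18778): a semistable bundle of degree `0` and rank `r` has `h⁰ ≤ r` when `h⁰(O) = 1`
-/

set_option autoImplicit false
set_option linter.style.haveILetI false
universe u

open TopologicalSpace Topology AlgebraicGeometry CategoryTheory CategoryTheory.Limits Opposite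

namespace Groth.Agent.Lib.Helper4.CurveH0

open Groth.Agent.Lib.Helper4.CurveBun Groth.Agent.Lib.Helper4.Dev Groth.Agent.Lib.Helper4.DegAdd
  Groth.Agent.Lib.Helper4.CurveStab Groth.Agent.Lib.Helper4.CurveSat Groth.Agent.Lib.Helper4.CurveHN

variable (k : Type u) [Field k] (X : Scheme.{u}) [X.Over (Spec (CommRingCat.of k))]
  [IsProper (X ↘ (Spec (CommRingCat.of k)))]

/-- `h⁰` is subadditive on short exact sequences -/
theorem h0_le_add (S : ShortComplex X.Modules) (hS : S.ShortExact)
    (c₁ : Coh.IsCoh S.X₁) (c₂ : Coh.IsCoh S.X₂) (c₃ : Coh.IsCoh S.X₃) :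
    Module.finrank k (Coh.HH X S.X₂ 0) ≤
      Module.finrank k (Coh.HH X S.X₁ 0) + Module.finrank k (Coh.HH X S.X₃ 0) := by
  haveI : Module.Finite k (Coh.HH X S.X₁ 0) := Groth.Agent.S0002.result k X _ c₁ 0
  haveI : Module.Finite k (Coh.HH X S.X₂ 0) := Groth.Agent.S0002.result k X _ c₂ 0
  haveI : Module.Finite k (Coh.HH X S.X₃ 0) := Groth.Agent.S0002.result k X _ c₃ 0
  have h1 := LinearMap.finrank_range_add_finrank_ker (Canon.HHlin k S.g 0)
  have h2 : Module.finrank k (LinearMap.ker (Canon.HHlin k S.g 0)) ≤ Module.finrank k (Coh.HH X S.X₁ 0) := by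
    rw [← Groth.Agent.Lib.Helper6.Euler.range_f_eq_ker_g k S hS 0]
    exact LinearMap.finrank_range_le _
  have h3 : Module.finrank k (LinearMap.range (Canon.HHlin k S.g 0)) ≤ Module.finrank k (Coh.HH X S.X₃ 0) :=
    Submodule.finrank_le _
  omega

variable [IsIntegral X]

/-- **S18778** -/
theorem h0_le_rank_of_ss_deg_zero (hpid : PIDStalks X) (hdim : topologicalKrullDim X = 1)
    (h0 : Module.finrank k (Coh.HH X (Coh.structureModule X) 0) = 1) :
    ∀ (r : ℕ) (G : X.Modules), FlatMod.IsFinLocFreeOfRank r G → Curv2.deg k X G r = 0 →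
      ModFun.IsSlopeSemistable k X G r → Module.finrank k (Coh.HH X G 0) ≤ r := by
  haveI : IsLocallyNoetherian X := isLocallyNoetherian_of_proper k X
  have hO : FlatMod.IsFinLocFreeOfRank 1 (Coh.structureModule X) :=
    Groth.Agent.Lib.Helper23.SecTw.isFinLocFreeOfRank_one_of_isInvertible _
      (Groth.Agent.Lib.Helper23.TensorUnit.isInvertible_structureModule X)
  have hdO : Curv2.deg k X (Coh.structureModule X) 1 = 0 := by
    unfold Curv2.deg
    push_cast
    ring
  intro r
  induction r with
  | zero =>
    intro G hG _ _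
    have hz := isZero_of_rank_zero G hG
    haveI : Subsingleton (Coh.HH X G 0) :=
      ⟨fun a b => (Groth.Agent.Lib.Helper17.GrSysH.eq_zero_of_isZero hz 0 a).trans
        (Groth.Agent.Lib.Helper17.GrSysH.eq_zero_of_isZero hz 0 b).symm⟩
    rw [Module.finrank_zero_of_subsingleton]
  | succ r ih =>
    intro G hG hdeg hGss
    by_cases hpos : 0 < Module.finrank k (Coh.HH X G 0)
    · obtain ⟨s, hs⟩ := Groth.Agent.Lib.Helper4.CurveRR.exists_hom_ne_zero k X G hpos
      obtain ⟨a, b, hab, hbs, hK, hI, -⟩ := ker_im k X hpid s 1 (r + 1) hO hG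
      have hb : 0 < b := by
        rcases Nat.eq_zero_or_pos b with hb | hb
        · subst hb
          exact absurd (eq_zero_of_image_rank_zero s hI) hs
        · exact hb
      have ha : a = 0 := by omega
      subst ha
      haveI : Mono s := mono_of_kernel_rank_zero s hK
      obtain ⟨F, g, u, hg, hu, hle, hKg, hF, hdG, hdle, hiso⟩ :=
        exists_saturation k X hpid hdim s 1 (r + 1) hO hG
      rw [Nat.add_sub_cancel] at hF hdG
      have hr1 : (0 : ℤ) < ((r + 1 : ℕ) : ℤ) := by exact_mod_cast Nat.succ_pos r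
      have hK0 : Curv2.deg k X (kernel g) 1 ≤ 0 := by
        have h := hGss (kernel g) 1 (kernel.ι g) inferInstance Nat.one_pos hKg
        rw [hdeg, zero_mul] at h
        by_contra hcon
        rw [not_le] at hcon
        have := mul_pos hcon hr1
        linarith
      have hKeq : Curv2.deg k X (kernel g) 1 = 0 := le_antisymm hK0 (by rw [← hdO]; exact hdle)
      haveI := hiso (by rw [hdO, hKeq])
      have hdF : Curv2.deg k X F r = 0 := by linarith
      have hFss : ModFun.IsSlopeSemistable k X F r := by
        intro G' n j hj hn hG'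
        obtain ⟨P, jP, hjP, hP, hdP⟩ := preimage_bundle' k X hpid (sesOfEpi g) (sesOfEpi_shortExact g)
          1 (r + 1) hKg hG G' n j hj hG'
        have h := hGss P (1 + n) jP hjP (by omega) hP
        rw [hdeg, zero_mul] at h
        change Curv2.deg k X P (1 + n) = Curv2.deg k X (kernel g) 1 + Curv2.deg k X G' n at hdP
        rw [hdP, hKeq, zero_add] at h
        have hG'0 : Curv2.deg k X G' n ≤ 0 := by
          by_contra hcon
          rw [not_le] at hcon
          have := mul_pos hcon hr1
          linarith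
        rw [hdF, zero_mul]
        exact mul_nonpos_of_nonpos_of_nonneg hG'0 (Int.natCast_nonneg r)
      have ih' := ih F hF hdF hFss
      have cK := isCoh_of_isFinLocFreeOfRank _ 1 hKg
      have cG := isCoh_of_isFinLocFreeOfRank _ (r + 1) hG
      have cF := isCoh_of_isFinLocFreeOfRank _ r hF
      have hadd := h0_le_add k X (sesOfEpi g) (sesOfEpi_shortExact g) cK cG cF
      change Module.finrank k (Coh.HH X G 0) ≤
        Module.finrank k (Coh.HH X (kernel g) 0) + Module.finrank k (Coh.HH X F 0) at hadd
      have hKO : Module.finrank k (Coh.HH X (kernel g) 0) = 1 := by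
        rw [← h0]
        exact ((Groth.Agent.Lib.Helper4.CurveChi.HHequiv k (asIso u) 0).finrank_eq).symm
      omega
    · omega

end Groth.Agent.Lib.Helper4.CurveH0
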