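import Mathlib
import Groth.Prelude.Def_Coh
import Groth.Agent.Lib.Helper27PnSections

set_option autoImplicit false
universe u
open CategoryTheory CategoryTheory.Limits AlgebraicGeometry Polynomial TensorProduct Opposite
  TopologicalSpace

namespace Groth.Agent.Lib.Helper6.H0Const

/-- a nontrivial reduced algebra, integral over an algebraically closed field and without nontrivial
idempotents, is the field itself -/
theorem bijective_algebraMap_of_isAlgClosed (K R : Type*) [Field K] [IsAlgClosed K] [CommRing R]
    [Algebra K R] [IsReduced R] [Nontrivial R] [Algebra.IsIntegral K R]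
    (hid : ∀ e : R, IsIdempotentElem e → e = 0 ∨ e = 1) :
    Function.Bijective (algebraMap K R) := by
  refine ⟨(algebraMap K R).injective, fun a => ?_⟩
  have hint : IsIntegral K a := Algebra.IsIntegral.isIntegral a
  set q := minpoly K a with hq
  have hqm : q.Monic := minpoly.monic hint
  have hdeg : q.degree ≠ 0 := (minpoly.degree_pos hint).ne'
  obtain ⟨c, hc⟩ := IsAlgClosed.exists_root q hdeg
  obtain ⟨h, hh⟩ := (dvd_iff_isRoot.mpr hc : (X - C c) ∣ q)
  have hq0 : q ≠ 0 := hqm.ne_zero
  have hh0 : h ≠ 0 := by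
    rintro rfl
    rw [mul_zero] at hh
    exact hq0 hh
  have hqa : aeval a q = 0 := minpoly.aeval K a
  -- any nonzero polynomial of smaller degree does not kill `a`
  have hmin : ∀ r : K[X], r ≠ 0 → r.degree < q.degree → aeval a r ≠ 0 := by
    intro r hr hlt har
    exact absurd (minpoly.degree_le_of_ne_zero K a hr har) (not_le.mpr hlt)
  have hdegh : h.degree < q.degree := by
    rw [hh, degree_mul, degree_X_sub_C, degree_eq_natDegree hh0]
    exact_mod_cast (by omega : h.natDegree < 1 + h.natDegree)
  rcases (irreducible_X_sub_C c).isCoprime_or_dvd h with hcop | hdvd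
  · obtain ⟨u, v, huv⟩ := hcop
    set e := aeval a (v * h) with he
    have h1 : aeval a (u * (X - C c)) + e = 1 := by
      rw [he, ← map_add, huv, map_one]
    have hidem : IsIdempotentElem e := by
      change e * e = e
      have : e * aeval a (u * (X - C c)) = 0 := by
        rw [he, ← map_mul]
        have : v * h * (u * (X - C c)) = v * u * q := by rw [hh]; ring
        rw [this, map_mul, hqa, mul_zero]
      calc e * e = e * (1 - aeval a (u * (X - C c))) := by rw [← h1]; ring
        _ = e := by rw [mul_sub, mul_one, this, sub_zero]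
    rcases hid e hidem with h0 | h1'
    · exfalso
      rw [h0, add_zero] at h1
      have : aeval a h = 0 := by
        have h2 : aeval a h = aeval a h * aeval a (u * (X - C c)) := by rw [h1, mul_one]
        rw [h2, ← map_mul]
        have : h * (u * (X - C c)) = u * q := by rw [hh]; ring
        rw [this, map_mul, hqa, mul_zero]
      exact hmin h hh0 hdegh this
    · refine ⟨c, ?_⟩
      have h2 : (a - algebraMap K R c) * e = 0 := by
        have : (a - algebraMap K R c) = aeval a (X - C c) := by simp
        rw [this, he, ← map_mul]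
        have : (X - C c) * (v * h) = v * q := by rw [hh]; ring
        rw [this, map_mul, hqa, mul_zero]
      rw [h1', mul_one, sub_eq_zero] at h2
      exact h2.symm
  · exfalso
    obtain ⟨g, hg⟩ := hdvd
    have hg0 : g ≠ 0 := by
      rintro rfl
      rw [mul_zero] at hg
      exact hh0 hg
    have hr0 : (X - C c) * g ≠ 0 := mul_ne_zero (X_sub_C_ne_zero c) hg0
    have hsq : aeval a ((X - C c) * g) ^ 2 = 0 := by
      rw [← map_pow]
      have : ((X - C c) * g) ^ 2 = q * g := by rw [hh, hg]; ring
      rw [this, map_mul, hqa, zero_mul]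
    have hz : aeval a ((X - C c) * g) = 0 := (IsNilpotent.eq_zero ⟨2, hsq⟩)
    refine hmin _ hr0 ?_ hz
    rw [← hg]
    exact hdegh

/-- global functions on a reduced preconnected scheme have only trivial idempotents -/
theorem eq_zero_or_one_of_isIdempotentElem {Y : Scheme.{u}} [IsReduced Y] [PreconnectedSpace Y]
    (e : Γ(Y, ⊤)) (he : IsIdempotentElem e) : e = 0 ∨ e = 1 := by
  have hdisj : Y.basicOpen e ⊓ Y.basicOpen (1 - e) = ⊥ := by
    rw [← Scheme.basicOpen_mul]
    have : e * (1 - e) = 0 := by
      rw [mul_sub, mul_one, he.eq, sub_self]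
    rw [this, Scheme.basicOpen_zero]
  have hcov : ∀ y : Y, y ∈ Y.basicOpen e ∨ y ∈ Y.basicOpen (1 - e) := by
    intro y
    rw [Scheme.mem_basicOpen_top, Scheme.mem_basicOpen_top]
    have h1 : Y.presheaf.germ ⊤ y trivial e + Y.presheaf.germ ⊤ y trivial (1 - e) = 1 := by
      rw [← map_add, add_sub_cancel, map_one]
    exact IsLocalRing.isUnit_or_isUnit_of_add_one h1
  have hcompl : ((Y.basicOpen e : Y.Opens) : Set Y)ᶜ = (Y.basicOpen (1 - e) : Set Y) := by
    ext y
    constructor
    · intro hy
      exact (hcov y).resolve_left hy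
    · intro hy hy'
      have : y ∈ Y.basicOpen e ⊓ Y.basicOpen (1 - e) := ⟨hy', hy⟩
      rw [hdisj] at this
      exact this
  have hclopen : IsClopen ((Y.basicOpen e : Y.Opens) : Set Y) :=
    ⟨by rw [← isOpen_compl_iff, hcompl]; exact (Y.basicOpen (1 - e)).2, (Y.basicOpen e).2⟩
  rcases isClopen_iff.mp hclopen with h | h
  · left
    apply eq_zero_of_basicOpen_eq_bot
    ext y
    simp only [TopologicalSpace.Opens.coe_bot, Set.mem_empty_iff_false, iff_false]
    intro hy
    have : y ∈ ((Y.basicOpen e : Y.Opens) : Set Y) := hy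
    rw [h] at this
    exact this
  · right
    have h2 : 1 - e = 0 := by
      apply eq_zero_of_basicOpen_eq_bot
      ext y
      simp only [TopologicalSpace.Opens.coe_bot, Set.mem_empty_iff_false, iff_false]
      intro hy
      have h3 : y ∈ ((Y.basicOpen e : Y.Opens) : Set Y)ᶜ := by rw [hcompl]; exact hy
      rw [h] at h3
      exact h3 trivial
    exact (sub_eq_zero.mp h2).symm

section BC

variable (k : Type u) [Field k] {X : Scheme.{u}} (f : X ⟶ Spec (CommRingCat.of k))

/-- the structure map `k → Γ(X, O_X)` of a `k`-scheme -/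
noncomputable def gsMap : CommRingCat.of k ⟶ Γ(X, ⊤) :=
  (Scheme.ΓSpecIso (CommRingCat.of k)).inv ≫ f.appTop

variable (L : Type u) [Field L] [Algebra k L]

instance flat_specMap_field : Flat (Spec.map (CommRingCat.ofHom (algebraMap k L))) := by
  rw [Flat.SpecMap_iff]
  exact (RingHom.flat_algebraMap_iff (R := k) (S := L)).mpr inferInstance

/-- flat base change for global functions over a field -/
theorem isPushout_gsMap [QuasiCompact f] [QuasiSeparated f] :
    IsPushout (CommRingCat.ofHom (algebraMap k L)) (gsMap k f)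
      (gsMap L (pullback.snd f (Spec.map (CommRingCat.ofHom (algebraMap k L)))))
      (pullback.fst f (Spec.map (CommRingCat.ofHom (algebraMap k L)))).appTop := by
  have H := IsPullback.of_hasPullback f (Spec.map (CommRingCat.ofHom (algebraMap k L)))
  have hcomp : CompactSpace X := QuasiCompact.compactSpace_of_compactSpace f
  have hqs : QuasiSeparatedSpace X := quasiSeparatedSpace_of_quasiSeparated f
  have hiso := isIso_pushoutSection_of_isQuasiSeparated_of_flat_right H
    (US := ⊤) (UT := ⊤) (UX := ⊤) (UY := ⊤) le_top le_top (by simp) (isAffineOpen_top _)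
    (isAffineOpen_top _) isCompact_univ (isQuasiSeparated_univ)
  have hpo := (isIso_pushoutSection_iff H (US := ⊤) (UT := ⊤) (UX := ⊤) (UY := ⊤) le_top le_top
    (by simp)).mp hiso
  have e1 : ∀ {A B : Scheme.{u}} (h : A ⟶ B), h.appLE ⊤ ⊤ le_top = h.appTop :=
    fun h => Scheme.Hom.appLE_eq_app h
  rw [e1, e1, e1, e1] at hpo
  refine (hpo.flip.of_iso (Scheme.ΓSpecIso (CommRingCat.of k)) (Scheme.ΓSpecIso (CommRingCat.of L))
    (Iso.refl _) (Iso.refl _) ?_ ?_ ?_ ?_)
  · exact Scheme.ΓSpecIso_naturality (CommRingCat.ofHom (algebraMap k L))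
  · simp [gsMap]
  · simp [gsMap]
  · simp

end BC

section Main

variable (k : Type u) [Field k] {X : Scheme.{u}} (f : X ⟶ Spec (CommRingCat.of k))

/-- global functions of a proper scheme over a field are integral over the field -/
theorem gsMap_isIntegral [UniversallyClosed f] : (gsMap k f).hom.IsIntegral := by
  apply RingHom.isIntegral_respectsIso.2
    (e := (Scheme.ΓSpecIso (CommRingCat.of k)).symm.commRingCatIsoToRingEquiv)
  exact isIntegral_appTop_of_universallyClosed f

/-- **Global functions on a proper, geometrically reduced and geometrically connected scheme over a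
field are constant.** -/
theorem finrank_globalSections_eq_one [IsProper f] [GeometricallyReduced f]
    [GeometricallyConnected f] :
    letI : Algebra k Γ(X, ⊤) := (gsMap k f).hom.toAlgebra
    Module.finrank k Γ(X, ⊤) = 1 := by
  letI algR : Algebra k Γ(X, ⊤) := (gsMap k f).hom.toAlgebra
  let L := AlgebraicClosure k
  let g := Spec.map (CommRingCat.ofHom (algebraMap k L))
  haveI hred : IsReduced (pullback f g) :=
    pullback_of_geometrically (GeometricallyReduced.geometrically_isReduced (f := f)) L g
  haveI hconn : ConnectedSpace ↥(pullback f g : Scheme.{u}) :=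
    pullback_of_geometrically (GeometricallyConnected.geometrically_connectedSpace (f := f)) L g
  letI algY : Algebra L Γ(pullback f g, ⊤) := (gsMap L (pullback.snd f g)).hom.toAlgebra
  haveI : Algebra.IsIntegral L Γ(pullback f g, ⊤) := by
    have := gsMap_isIntegral L (pullback.snd f g)
    exact ⟨this⟩
  haveI : Nonempty ↥(pullback f g : Scheme.{u}) := hconn.toNonempty
  haveI : Nontrivial Γ(pullback f g, ⊤) := by
    obtain ⟨y⟩ := (inferInstance : Nonempty ↥(pullback f g : Scheme.{u}))
    exact @Scheme.component_nontrivial (pullback f g) ⊤ ⟨⟨y, trivial⟩⟩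
  have hbij : Function.Bijective (algebraMap L Γ(pullback f g, ⊤)) :=
    bijective_algebraMap_of_isAlgClosed L Γ(pullback f g, ⊤)
      (eq_zero_or_one_of_isIdempotentElem (Y := pullback f g))
  have hpo := isPushout_gsMap k f L
  have hpo' := CommRingCat.isPushout_tensorProduct k L Γ(X, ⊤)
  let e := hpo'.isoIsPushout _ _ hpo
  have he1 : ∀ ℓ : L, e.hom (ℓ ⊗ₜ[k] (1 : Γ(X, ⊤))) = algebraMap L Γ(pullback f g, ⊤) ℓ := by
    intro ℓ
    have := IsPushout.inl_isoIsPushout_hom _ _ hpo' hpo
    exact congrArg (fun m => m.hom ℓ) this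
  let φ : (L ⊗[k] Γ(X, ⊤)) ≃ₗ[L] Γ(pullback f g, ⊤) :=
    { e.commRingCatIsoToRingEquiv with
      map_smul' := fun ℓ x => by
        change e.hom (ℓ • x) = ℓ • e.hom x
        have h1 : ℓ • x = (ℓ ⊗ₜ[k] (1 : Γ(X, ⊤))) * x := by
          rw [Algebra.smul_def]; rfl
        rw [h1, map_mul, he1, Algebra.smul_def] }
  have h1 : Module.finrank L (L ⊗[k] Γ(X, ⊤)) = Module.finrank k Γ(X, ⊤) :=
    Module.finrank_baseChange
  have h2 : Module.finrank L Γ(pullback f g, ⊤) = 1 := by
    rw [← (LinearEquiv.ofBijective (Algebra.linearMap L Γ(pullback f g, ⊤)) hbij).finrank_eq]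
    exact Module.finrank_self L
  rw [← h1, φ.finrank_eq, h2]

end Main

section HH

open Groth.Agent.Lib.Helper27PnSections

/-- `H^0(X, O_X) ≃+ Γ(X, O_X)` -/
noncomputable def hh0Unit (X : Scheme.{u}) : Coh.HH X (Coh.structureModule X) 0 ≃+ Γ(X, ⊤) :=
  hh0Equiv X (Coh.structureModule X)

theorem hh0Unit_smul (X : Scheme.{u}) (r : Coh.Γtop X) (x : Coh.HH X (Coh.structureModule X) 0) :
    hh0Unit X (r • x) = (show Γ(X, ⊤) from r) * hh0Unit X x := by
  have h := hh0Equiv_smul X (Coh.structureModule X) r x
  rw [Coh.smulAb_app, resTop_top] at h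
  exact h

/-- `H^0(X, O_X)` and `Γ(X, O_X)` have the same dimension over the base field -/
theorem finrank_hh0 (k : Type u) [Field k] (X : Scheme.{u}) [X.Over (Spec (CommRingCat.of k))] :
    letI : Algebra k Γ(X, ⊤) := (gsMap k (X ↘ Spec (CommRingCat.of k))).hom.toAlgebra
    Module.finrank k (Coh.HH X (Coh.structureModule X) 0) = Module.finrank k Γ(X, ⊤) := by
  letI : Algebra k Γ(X, ⊤) := (gsMap k (X ↘ Spec (CommRingCat.of k))).hom.toAlgebra
  let φ : Coh.HH X (Coh.structureModule X) 0 ≃ₗ[k] Γ(X, ⊤) :=
    { hh0Unit X with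
      map_smul' := fun c x => by
        change hh0Unit X (c • x) = c • hh0Unit X x
        have h1 : c • x = (Coh.toGlobal (X ↘ Spec (CommRingCat.of k)) c) • x := rfl
        rw [h1, hh0Unit_smul, Algebra.smul_def]
        rfl }
  exact φ.finrank_eq

/-- **`H^0(X, O_X)` is one-dimensional for `X` proper, geometrically reduced and geometrically
connected over a field.** -/
theorem finrank_hh0_eq_one (k : Type u) [Field k] (X : Scheme.{u})
    [X.Over (Spec (CommRingCat.of k))] [IsProper (X ↘ (Spec (CommRingCat.of k)))]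
    [GeometricallyReduced (X ↘ (Spec (CommRingCat.of k)))]
    [GeometricallyConnected (X ↘ (Spec (CommRingCat.of k)))] :
    Module.finrank k (Coh.HH X (Coh.structureModule X) 0) = 1 := by
  rw [finrank_hh0]
  exact finrank_globalSections_eq_one k (X ↘ (Spec (CommRingCat.of k)))

end HH

end Groth.Agent.Lib.Helper6.H0Const
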