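import Mathlib
import Groth.Agent.Lib.Helper6H0Const
import Groth.Agent.Lib.Helper6CurveDeg
import Groth.Agent.Lib.Helper4CurveH0
import Groth.Agent.Lib.Helper27PnSections
import Groth.Agent.Lib.Helper27SerreVanPn
import Groth.Agent.Lib.Helper23PB
import Groth.Agent.Lib.Helper24CIHilb
import Groth.Prelude.Def_Omega3
import Groth.Prelude.Def_LinSer

/-!
# Sections and degree on integral proper curves (helper4)

* `finrank_hh0_eq_one_of_isAlgClosed` : `h⁰(O_X) = 1` for integral proper `X` over an algebraically closed field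
* `h0_le_deg_add` : `h⁰(L) ≤ h⁰(O) + deg L` for invertible `L` with a section on an integral proper curve
* `pullH0Lin` : the `k`-linear pullback map `H⁰(P, M) → H⁰(X, i^*M)`, injective when no nonzero section pulls back to zero
* `deg_ge_of_nondegenerate` (S12912)
-/

set_option autoImplicit false
set_option linter.style.haveILetI false
universe u

open TopologicalSpace Topology AlgebraicGeometry CategoryTheory CategoryTheory.Limits Opposite

namespace Groth.Agent.Lib.Helper4.CurveDegSec

open Groth.Agent.Lib.Helper6.H0Const Groth.Agent.Lib.Helper4.Dev Groth.Agent.Lib.Helper27PnSections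

section A

variable (k : Type u) [Field k] (X : Scheme.{u}) [X.Over (Spec (CommRingCat.of k))]
  [IsProper (X ↘ (Spec (CommRingCat.of k)))] [IsIntegral X]

/-- `H⁰(O_X) = k` for an integral proper scheme over an algebraically closed field -/
theorem finrank_hh0_eq_one_of_isAlgClosed [IsAlgClosed k] :
    Module.finrank k (Coh.HH X (Coh.structureModule X) 0) = 1 := by
  rw [finrank_hh0]
  letI alg : Algebra k Γ(X, ⊤) := (gsMap k (X ↘ Spec (CommRingCat.of k))).hom.toAlgebra
  haveI : Algebra.IsIntegral k Γ(X, ⊤) := ⟨gsMap_isIntegral k (X ↘ Spec (CommRingCat.of k))⟩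
  haveI : Nontrivial Γ(X, ⊤) := by
    obtain ⟨y⟩ := (inferInstance : Nonempty X)
    exact @Scheme.component_nontrivial X ⊤ ⟨⟨y, trivial⟩⟩
  have hbij := bijective_algebraMap_of_isAlgClosed k Γ(X, ⊤)
    (eq_zero_or_one_of_isIdempotentElem (Y := X))
  rw [← (LinearEquiv.ofBijective (Algebra.linearMap k Γ(X, ⊤)) hbij).finrank_eq]
  exact Module.finrank_self k

/-- `h⁰(L) ≤ h⁰(O) + deg L` for an invertible module with a nonzero section on an integral proper curve -/
theorem h0_le_deg_add (hdim : topologicalKrullDim X = 1) (L : X.Modules) (hL : PicF.IsInvertible L)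
    (hpos : 0 < Module.finrank k (Coh.HH X L 0)) :
    (Module.finrank k (Coh.HH X L 0) : ℤ) ≤
      Module.finrank k (Coh.HH X (Coh.structureModule X) 0) + Curv2.deg k X L 1 := by
  haveI : IsLocallyNoetherian X :=
    LocallyOfFiniteType.isLocallyNoetherian (X ↘ (Spec (CommRingCat.of k)))
  obtain ⟨s, hs⟩ := Groth.Agent.Lib.Helper4.CurveRR.exists_hom_ne_zero k X L hpos
  have hO := Groth.Agent.Lib.Helper23.TensorUnit.isInvertible_structureModule X
  haveI : Mono s := Groth.Agent.Lib.Helper6.CurveDeg.mono_of_ne_zero hO hL s hs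
  obtain ⟨h1, -⟩ := Groth.Agent.Lib.Helper6.CurveDeg.main k X hdim _ L hO hL s hs
  have cO := Groth.Agent.Lib.Helper6.CurveDeg.isCoh_of_isInvertible _ hO
  have cL := Groth.Agent.Lib.Helper6.CurveDeg.isCoh_of_isInvertible L hL
  have cQ : Coh.IsCoh (cokernel s) := isCoh_cokernel s cO cL
  have hadd := Groth.Agent.Lib.Helper4.CurveH0.h0_le_add k X (sesOfMono s) (sesOfMono_shortExact s) cO cL cQ
  change Module.finrank k (Coh.HH X L 0) ≤
    Module.finrank k (Coh.HH X (Coh.structureModule X) 0) +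
      Module.finrank k (Coh.HH X (cokernel s) 0) at hadd
  unfold Curv2.deg
  rw [h1]
  push_cast
  have : (Module.finrank k (Coh.HH X L 0) : ℤ) ≤
      Module.finrank k (Coh.HH X (Coh.structureModule X) 0) +
        Module.finrank k (Coh.HH X (cokernel s) 0) := by exact_mod_cast hadd
  linarith

end A


section C

variable (k : Type u) [Field k] {X P : Scheme.{u}} [X.Over (Spec (CommRingCat.of k))]
  [P.Over (Spec (CommRingCat.of k))] (i : X ⟶ P)
  (hi : i ≫ (P ↘ Spec (CommRingCat.of k)) = (X ↘ Spec (CommRingCat.of k))) (M : P.Modules)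

/-- pulling back global sections, additively -/
noncomputable def pullH0 : Coh.HH P M 0 →+ Coh.HH X ((Scheme.Modules.pullback i).obj M) 0 :=
  (hh0Equiv X ((Scheme.Modules.pullback i).obj M)).symm.toAddMonoidHom.comp
    ((AddCommGrpCat.Hom.hom (OmegaSh.pullSect i M ⊤)).comp (hh0Equiv P M).toAddMonoidHom)

theorem pullSect_smul (r : Γ(P, ⊤)) (s : Γ(M, ⊤)) :
    OmegaSh.pullSect i M ⊤ (r • s) =
      (i.appTop.hom r) • (show Γ((Scheme.Modules.pullback i).obj M, ⊤) from OmegaSh.pullSect i M ⊤ s) := by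
  have h := Scheme.Modules.Hom.app_smul ((Scheme.Modules.pullbackPushforwardAdjunction i).unit.app M) r s
  exact h

include hi in
theorem toGlobal_comp (c : k) :
    i.appTop.hom (Coh.toGlobal (P ↘ Spec (CommRingCat.of k)) c) =
      Coh.toGlobal (X ↘ Spec (CommRingCat.of k)) c := by
  unfold Coh.toGlobal
  rw [← hi, Scheme.Hom.comp_appTop]
  rfl

theorem hh0Equiv_smul' {Y : Scheme.{u}} (N : Y.Modules) (r : Coh.Γtop Y) (x : Coh.HH Y N 0) :
    hh0Equiv Y N (r • x) = @HSMul.hSMul Γ(Y, ⊤) Γ(N, ⊤) Γ(N, ⊤) _ r (hh0Equiv Y N x) := by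
  have h := hh0Equiv_smul Y N r x
  rw [Coh.smulAb_app, resTop_top] at h
  exact h

theorem hh0Equiv_pullH0 (x : Coh.HH P M 0) :
    hh0Equiv X ((Scheme.Modules.pullback i).obj M) (pullH0 i M x) =
      OmegaSh.pullSect i M ⊤ (hh0Equiv P M x) :=
  AddEquiv.apply_symm_apply _ _

include hi in
theorem pullH0_smul (c : k) (x : Coh.HH P M 0) : pullH0 i M (c • x) = c • pullH0 i M x := by
  apply (hh0Equiv X ((Scheme.Modules.pullback i).obj M)).injective
  have h1 : c • x = (Coh.toGlobal (P ↘ Spec (CommRingCat.of k)) c) • x := rfl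
  have h2 : c • pullH0 i M x = (Coh.toGlobal (X ↘ Spec (CommRingCat.of k)) c) • pullH0 i M x := rfl
  rw [h2, hh0Equiv_smul', h1, hh0Equiv_pullH0, hh0Equiv_pullH0, hh0Equiv_smul',
    ← toGlobal_comp k i hi c]
  exact pullSect_smul i M _ _

/-- pulling back global sections, linearly -/
noncomputable def pullH0Lin : Coh.HH P M 0 →ₗ[k] Coh.HH X ((Scheme.Modules.pullback i).obj M) 0 :=
  { pullH0 i M with
    map_smul' := fun c x => pullH0_smul k i hi M c x }

theorem pullH0Lin_injective
    (h : ∀ s : LinSer.Sect P M, s ≠ 0 → OmegaSh.pullSect i M ⊤ s ≠ 0) :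
    Function.Injective (pullH0Lin k i hi M) := by
  rw [injective_iff_map_eq_zero]
  intro x hx
  have hx' : pullH0 i M x = 0 := hx
  have h2 := hh0Equiv_pullH0 i M x
  rw [hx', map_zero] at h2
  by_contra hne
  exact h (hh0Equiv P M x) (fun h0 => hne ((AddEquiv.map_eq_zero_iff _).1 h0)) h2.symm

end C


section Main

variable (k : Type u) [Field k] [IsAlgClosed k] (r : ℕ)
  (X : Scheme.{u}) [X.Over (Spec (CommRingCat.of k))] [IsIntegral X] [IsProper (X ↘ (Spec (CommRingCat.of k)))]

/-- **S12912** -/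
theorem deg_ge_of_nondegenerate (hdim : topologicalKrullDim X = 1)
    (i : X ⟶ CohB1.ProjSpace r k)
    (hi : i ≫ CohB1.ProjSpace.toSpec r k = (X ↘ (Spec (CommRingCat.of k))))
    (hplane : ∀ s : LinSer.Sect (CohB1.ProjSpace r k) (Twist.twistProjSpace r k 1), s ≠ 0 →
      OmegaSh.pullSect i (Twist.twistProjSpace r k 1) ⊤ s ≠ 0) :
    (r : ℤ) ≤ Curv2.deg k X ((Scheme.Modules.pullback i).obj (Twist.twistProjSpace r k 1)) 1 := by
  haveI : IsLocallyNoetherian X :=
    LocallyOfFiniteType.isLocallyNoetherian (X ↘ (Spec (CommRingCat.of k)))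
  have hM : PicF.IsInvertible (Twist.twistProjSpace r k 1) :=
    Groth.Agent.Lib.Helper27SerreVanPn.isInvertible_twist r k 1
  have hL := Groth.Agent.Lib.Helper23.PB.isInvertible_pullback i _ hM
  have cL := Groth.Agent.Lib.Helper6.CurveDeg.isCoh_of_isInvertible _ hL
  haveI : Module.Finite k (Coh.HH X ((Scheme.Modules.pullback i).obj (Twist.twistProjSpace r k 1)) 0) :=
    Groth.Agent.S0002.result k X _ cL 0
  have hinj := pullH0Lin_injective k i hi (Twist.twistProjSpace r k 1) hplane
  have h1 := LinearMap.finrank_le_finrank_of_injective hinj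
  obtain ⟨e⟩ := nonempty_linearEquiv r k 1
  have h2 : Module.finrank k (Coh.HH (CohB1.ProjSpace r k) (Twist.twistProjSpace r k 1) 0) = r + 1 := by
    have h3 := e.finrank_eq
    rw [Groth.Agent.Lib.Helper24CIHilb.finrank_homog k (r + 1) 1] at h3
    simpa using h3
  rw [h2] at h1
  have hpos : 0 < Module.finrank k (Coh.HH X ((Scheme.Modules.pullback i).obj (Twist.twistProjSpace r k 1)) 0) := by
    omega
  have h4 := h0_le_deg_add k X hdim _ hL hpos
  rw [finrank_hh0_eq_one_of_isAlgClosed k X] at h4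
  have h5 : ((r + 1 : ℕ) : ℤ) ≤
      Module.finrank k (Coh.HH X ((Scheme.Modules.pullback i).obj (Twist.twistProjSpace r k 1)) 0) := by
    exact_mod_cast h1
  push_cast at h4 h5
  linarith

end Main

end Groth.Agent.Lib.Helper4.CurveDegSec
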