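import Mathlib
import Groth.Prelude.Def_ModSite
import Groth.Prelude.Def_ClSub2
import Groth.Agent.Lib.Helper23Serre
import Groth.Agent.Lib.Helper20IdealModSec

open CategoryTheory Opposite Limits AlgebraicGeometry

universe u

namespace Groth.Agent.Lib.Helper21.ExtCartier

open Groth.Agent.Lib.Helper23.Serre Groth.Agent.Lib.Helper23.GenLocus

variable {X : Scheme.{u}}

theorem unitToPush_eq_unitPush {Z : Scheme.{u}} (i : Z ⟶ X) : ClSub.unitToPush i = unitPush i := rfl

instance epi_unitToPush {Z : Scheme.{u}} (i : Z ⟶ X) [IsClosedImmersion i] :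
    Epi (ClSub.unitToPush i) := by
  rw [unitToPush_eq_unitPush]; infer_instance

instance epi_toSubscheme (I : X.IdealSheafData) : Epi (ClSub.toSubscheme I) :=
  epi_unitToPush I.subschemeι

/-- the short exact sequence `0 ⟶ I ⟶ O_X ⟶ O_X/I ⟶ 0`. -/
noncomputable def idealSES (I : X.IdealSheafData) : ShortComplex X.Modules :=
  ShortComplex.mk (ClSub.idealModι I) (ClSub.toSubscheme I) (kernel.condition _)

theorem idealSES_shortExact (I : X.IdealSheafData) : (idealSES I).ShortExact := by
  haveI : Mono (idealSES I).f :=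
    inferInstanceAs (Mono (ClSub.idealModι I))
  haveI : Epi (idealSES I).g := inferInstanceAs (Epi (ClSub.toSubscheme I))
  exact ShortComplex.ShortExact.mk
    (ShortComplex.exact_of_f_is_kernel _ (kernelIsKernel (ClSub.toSubscheme I)))

theorem isIso_unitToPush_of_isIso {Z W : Scheme.{u}} (e : Z ⟶ W) [IsIso e] :
    IsIso (ClSub.unitToPush e) := by
  rw [Scheme.Modules.Hom.isIso_iff_isIso_app]
  intro U
  rw [ConcreteCategory.isIso_iff_bijective]
  have h : Function.Bijective (e.app U).hom :=
    (ConcreteCategory.isIso_iff_bijective (e.app U)).1 inferInstance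
  exact h

/-- `i_* O_D ≅ O_X / ker i` for a closed immersion `i`. -/
noncomputable def pushUnitIsoQuot {D : Scheme.{u}} (i : D ⟶ X) [IsClosedImmersion i] :
    (Scheme.Modules.pushforward i).obj (Coh.structureModule D) ≅ ClSub.quotMod i.ker :=
  haveI := isIso_unitToPush_of_isIso i.toImage
  (Scheme.Modules.pushforwardCongr (i.toImage_imageι).symm).app _ ≪≫
    ((Scheme.Modules.pushforwardComp i.toImage i.imageι).app _).symm ≪≫
    (Scheme.Modules.pushforward i.imageι).mapIso (asIso (ClSub.unitToPush i.toImage)).symm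

end Groth.Agent.Lib.Helper21.ExtCartier
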