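import Groth.Agent.Lib.Helper4VarDim7
import Mathlib.RingTheory.Ideal.KrullsHeightTheorem

/-!
# Hypersurface sections in schemes locally of finite type over a field

* `exists_prime_between_of_mem`: Krull's principal ideal theorem in the form needed here;
* `exists_specialization_notMem_basicOpen`: if `ξ ⤳ y` in an affine open `U`, `g ∈ Γ(X, U)`
  vanishes at `y` but not at `ξ`, there is `y'` between them at which `g` vanishes and with
  `trdeg κ(ξ) = trdeg κ(y') + 1`;
* `topologicalKrullDim_add_one_le`: `dim T + 1 ≤ d` from a pointwise bound.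
-/

set_option autoImplicit false
set_option linter.style.haveILetI false
universe u

open AlgebraicGeometry CategoryTheory TopologicalSpace Topology

namespace Groth.Agent.Lib.Helper4.VarDim

theorem exists_prime_between_of_mem {A : Type*} [CommRing A] [IsNoetherianRing A] (p q : Ideal A)
    [p.IsPrime] [q.IsPrime] (hpq : p ≤ q) (g : A) (hgq : g ∈ q) (hgp : g ∉ p) :
    ∃ q' : Ideal A, q'.IsPrime ∧ p ≤ q' ∧ q' ≤ q ∧ g ∈ q' ∧
      (q'.map (Ideal.Quotient.mk p)).height = 1 := by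
  have hle : p ⊔ Ideal.span {g} ≤ q :=
    sup_le hpq ((Ideal.span_singleton_le_iff_mem _).mpr hgq)
  obtain ⟨q', hq', hq'q⟩ := Ideal.exists_minimalPrimes_le hle
  haveI : q'.IsPrime := hq'.1.1
  have hpq' : p ≤ q' := le_sup_left.trans hq'.1.2
  have hgq' : g ∈ q' := hq'.1.2 (Ideal.mem_sup_right (Ideal.mem_span_singleton_self g))
  refine ⟨q', hq'.1.1, hpq', hq'q, hgq', ?_⟩
  have h1 : (q'.map (Ideal.Quotient.mk p)).height ≤ 1 :=
    Ideal.map_height_le_one_of_mem_minimalPrimes hq'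
  have h0 : (q'.map (Ideal.Quotient.mk p)).height ≠ 0 := by
    rw [Ne, Ideal.height_eq_zero_iff_eq_bot]
    intro hbot
    have : Ideal.Quotient.mk p g ∈ q'.map (Ideal.Quotient.mk p) := Ideal.mem_map_of_mem _ hgq'
    rw [hbot, Ideal.mem_bot, Ideal.Quotient.eq_zero_iff_mem] at this
    exact hgp this
  exact le_antisymm h1 (Order.one_le_iff_pos.mpr (pos_iff_ne_zero.mpr h0))

theorem mem_primeIdealOf_iff_notMem_basicOpen {X : Scheme.{u}} {U : X.Opens} (hU : IsAffineOpen U)
    (x : X) (hx : x ∈ U) (a : Γ(X, U)) :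
    a ∈ (hU.primeIdealOf ⟨x, hx⟩).asIdeal ↔ x ∉ X.basicOpen a := by
  rw [mem_primeIdealOf_iff hU x hx a]
  exact Scheme.evaluation_eq_zero_iff_notMem_basicOpen X x hx a

section Field

variable (k : Type u) [Field k] (X : Scheme.{u}) [X.Over (Spec (CommRingCat.of k))]
  [LocallyOfFiniteType (X ↘ Spec (CommRingCat.of k))]

attribute [local instance] sectionsAlgebra Curv2.resAlgebra

theorem exists_specialization_notMem_basicOpen {U : X.Opens} (hU : IsAffineOpen U) (ξ y : X)
    (hξ : ξ ∈ U) (hy : y ∈ U) (h : ξ ⤳ y) (g : Γ(X, U)) (hgy : y ∉ X.basicOpen g)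
    (hgξ : ξ ∈ X.basicOpen g) :
    ∃ y' : X, y' ∈ U ∧ ξ ⤳ y' ∧ y' ⤳ y ∧ y' ∉ X.basicOpen g ∧
      trdegNat k X ξ = trdegNat k X y' + 1 := by
  haveI := finiteType_sections k X hU
  haveI : IsNoetherianRing Γ(X, U) := Algebra.FiniteType.isNoetherianRing k Γ(X, U)
  have hpq := (primeIdealOf_le_iff hU ξ y hξ hy).mpr h
  have hgq := (mem_primeIdealOf_iff_notMem_basicOpen hU y hy g).mpr hgy
  have hgp : g ∉ (hU.primeIdealOf ⟨ξ, hξ⟩).asIdeal := fun hh =>
    (mem_primeIdealOf_iff_notMem_basicOpen hU ξ hξ g).mp hh hgξ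
  obtain ⟨q', hq'prime, hpq', hq'q, hgq', hht⟩ := exists_prime_between_of_mem
    (hU.primeIdealOf ⟨ξ, hξ⟩).asIdeal (hU.primeIdealOf ⟨y, hy⟩).asIdeal hpq g hgq hgp
  have hy'U : hU.fromSpec ⟨q', hq'prime⟩ ∈ U := fromSpec_mem hU _
  have e : hU.primeIdealOf ⟨hU.fromSpec ⟨q', hq'prime⟩, hy'U⟩ = ⟨q', hq'prime⟩ :=
    primeIdealOf_fromSpec hU _ hy'U
  have hsp : ξ ⤳ hU.fromSpec ⟨q', hq'prime⟩ := by
    rw [← primeIdealOf_le_iff hU _ _ hξ hy'U, e]
    exact hpq'
  refine ⟨hU.fromSpec ⟨q', hq'prime⟩, hy'U, hsp, ?_, ?_, ?_⟩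
  · rw [← primeIdealOf_le_iff hU _ _ hy'U hy, e]
    exact hq'q
  · rw [← mem_primeIdealOf_iff_notMem_basicOpen hU _ hy'U g, e]
    exact hgq'
  · obtain ⟨m, c, n, hm, hn, hmc, hc⟩ := trdeg_specializes k X hU ξ _ hξ hy'U hsp
    rw [e] at hc
    have hc1 : c = 1 := by
      have : ((c : ℕ) : ℕ∞) = 1 := hc.symm.trans hht
      exact_mod_cast this
    rw [trdegNat_eq_of_trdeg_eq k X ξ m hm, trdegNat_eq_of_trdeg_eq k X _ n hn]
    omega

theorem topologicalKrullDim_eq_bot_of_isEmpty {T : Type*} [TopologicalSpace T] [IsEmpty T] :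
    topologicalKrullDim T = ⊥ := by
  unfold topologicalKrullDim
  haveI : IsEmpty (IrreducibleCloseds T) := ⟨fun Z => isEmptyElim Z.2.nonempty.some⟩
  exact Order.krullDim_eq_bot

/-- `dim T + 1 ≤ d` from the pointwise bound `trdeg κ(t) + 1 ≤ d`. -/
theorem topologicalKrullDim_add_one_le (T : Set X) [QuasiSober T] (d : WithBot ℕ∞)
    (hd : ∀ t ∈ T, ((trdegNat k X t + 1 : ℕ) : WithBot ℕ∞) ≤ d) :
    topologicalKrullDim T + 1 ≤ d := by
  by_cases hT : T = ∅
  · subst hT
    rw [topologicalKrullDim_eq_bot_of_isEmpty]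
    simp
  obtain ⟨t₀, ht₀⟩ := Set.nonempty_iff_ne_empty.mpr hT
  induction d using WithBot.recBotCoe with
  | bot => exact absurd (hd t₀ ht₀) (by simp)
  | coe d =>
    induction d using ENat.recTopCoe with
    | top => exact le_top
    | coe e =>
      have he : 1 ≤ e := by
        have := hd t₀ ht₀
        have h2 : trdegNat k X t₀ + 1 ≤ e := by exact_mod_cast this
        omega
      have h1 : topologicalKrullDim T ≤ ((e - 1 : ℕ) : WithBot ℕ∞) := by
        refine topologicalKrullDim_le_of_forall_trdegNat_le k X T _ fun t ht => ?_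
        have := hd t ht
        have h2 : trdegNat k X t + 1 ≤ e := by exact_mod_cast this
        have h3 : trdegNat k X t ≤ e - 1 := by omega
        exact_mod_cast h3
      calc topologicalKrullDim T + 1 ≤ ((e - 1 : ℕ) : WithBot ℕ∞) + 1 := by gcongr
        _ = ((e : ℕ∞) : WithBot ℕ∞) := by
          have : e - 1 + 1 = e := by omega
          have h4 : (((e - 1 + 1 : ℕ) : ℕ∞) : WithBot ℕ∞) = ((e : ℕ∞) : WithBot ℕ∞) := by
            rw [this]
          rw [← h4]
          push_cast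
          rfl

end Field

end Groth.Agent.Lib.Helper4.VarDim
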