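import Mathlib
import Groth.Agent.Lib.Helper4VarDim8
import Groth.Agent.Lib.Helper27BMCohDim
import Groth.Prelude.Def_BlowUp2
import Groth.Prelude.Def_Flat

/-!
# Local dimension of an effective Cartier divisor (helper6)
-/

set_option autoImplicit false
set_option linter.style.haveILetI false
universe u

open TopologicalSpace Topology AlgebraicGeometry CategoryTheory

namespace Groth.Agent.Lib.Helper6.CartDim

open Groth.Agent.Lib.Helper4.VarDim Groth.Agent.Lib.Helper27BMCoh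

/-- every point of an effective Cartier divisor has a strict generization in the ambient scheme. -/
theorem exists_generization_of_isEffCartier {S : Scheme.{u}} (𝓘 : S.IdealSheafData)
    (h𝓘 : BlowUp.IsEffCartierIdeal 𝓘) (s : S) (hs : s ∈ 𝓘.support) :
    ∃ η : S, η ⤳ s ∧ η ≠ s := by
  obtain ⟨V, hsV, f, hf, hI⟩ := h𝓘 s
  have h1 : s ∈ S.zeroLocus (U := V.1) (𝓘.ideal V) :=
    (Scheme.IdealSheafData.mem_support_iff_of_mem hsV).mp hs
  rw [hI, Scheme.zeroLocus_span] at h1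
  have h2 : s ∉ S.basicOpen f := by
    rw [Scheme.mem_zeroLocus_iff] at h1
    exact h1 f rfl
  have h3 : f ∈ (V.2.primeIdealOf ⟨s, hsV⟩).asIdeal :=
    (mem_primeIdealOf_iff_notMem_basicOpen V.2 s hsV f).mpr h2
  have h4 : (V.2.primeIdealOf ⟨s, hsV⟩).asIdeal ∉ minimalPrimes Γ(S, V.1) := fun hmin =>
    Set.disjoint_left.mp (Ideal.disjoint_nonZeroDivisors_of_mem_minimalPrimes hmin) h3 hf
  obtain ⟨q, hq, hqp⟩ := Ideal.exists_minimalPrimes_le
    (bot_le : (⊥ : Ideal Γ(S, V.1)) ≤ (V.2.primeIdealOf ⟨s, hsV⟩).asIdeal)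
  have hne : q ≠ (V.2.primeIdealOf ⟨s, hsV⟩).asIdeal := fun h => h4 (h ▸ hq)
  haveI : q.IsPrime := hq.1.1
  let Q : PrimeSpectrum Γ(S, V.1) := ⟨q, inferInstance⟩
  have hηV : V.2.fromSpec Q ∈ V.1 := fromSpec_mem V.2 Q
  refine ⟨V.2.fromSpec Q, ?_, ?_⟩
  · rw [← primeIdealOf_le_iff V.2 _ s hηV hsV, primeIdealOf_fromSpec]
    exact hqp
  · intro h
    apply hne
    have h5 : V.2.primeIdealOf ⟨V.2.fromSpec Q, hηV⟩ = V.2.primeIdealOf ⟨s, hsV⟩ := by
      congr 1
      exact Subtype.ext h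
    rw [primeIdealOf_fromSpec] at h5
    exact congrArg PrimeSpectrum.asIdeal h5


/-- dimension drops by one on the preimage of an open of finite dimension. -/
theorem topologicalKrullDim_preimage_add_one_le {S : Scheme.{u}} (𝓘 : S.IdealSheafData)
    (h𝓘 : BlowUp.IsEffCartierIdeal 𝓘) (U : S.Opens) :
    topologicalKrullDim ↥(𝓘.subschemeι ⁻¹ᵁ U) + 1 ≤ topologicalKrullDim ↥U := by
  by_cases hU : topologicalKrullDim ↥U < ⊤
  swap
  · rw [not_lt_top_iff] at hU
    rw [hU]; exact le_top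
  rcases isEmpty_or_nonempty ↥(𝓘.subschemeι ⁻¹ᵁ U) with hA | hA
  · rw [topologicalKrullDim_eq_bot_of_isEmpty]
    simp
  let φ : ↥(𝓘.subschemeι ⁻¹ᵁ U) → ↥U := fun a => ⟨𝓘.subschemeι a.1, a.2⟩
  have hφc : Continuous φ :=
    (𝓘.subschemeι.continuous.comp continuous_subtype_val).subtype_mk _
  have hφi : Function.Injective φ := by
    intro a b hab
    have h1 : 𝓘.subschemeι a.1 = 𝓘.subschemeι b.1 := congrArg (fun t : ↥U => t.1) hab
    exact Subtype.ext (𝓘.subschemeι.isEmbedding.injective h1)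
  have hstrict : ∀ (x η : ↥U), η ⤳ x → η ≠ x →
      WeilCoh.natDim ↥(closure ({x} : Set ↥U)) < WeilCoh.natDim ↥(closure ({η} : Set ↥U)) := by
    intro x η hsp hne
    refine natDim_closure_lt hU (specializes_iff_mem_closure.mp hsp) fun hmem => hne ?_
    exact (hsp.antisymm (specializes_iff_mem_closure.mpr hmem)).eq
  have hbound : ∀ a : ↥(𝓘.subschemeι ⁻¹ᵁ U),
      WeilCoh.natDim ↥(closure ({φ a} : Set ↥U)) < WeilCoh.natDim ↥U := by
    intro a
    have hs : 𝓘.subschemeι a.1 ∈ 𝓘.support := by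
      rw [← SetLike.mem_coe, ← Scheme.IdealSheafData.range_subschemeι]
      exact ⟨a.1, rfl⟩
    obtain ⟨η, hη, hne⟩ := exists_generization_of_isEffCartier 𝓘 h𝓘 _ hs
    have hηU : η ∈ U := hη.mem_open U.isOpen a.2
    have h1 := hstrict (φ a) ⟨η, hηU⟩ ((subtype_specializes_iff (⟨η, hηU⟩ : ↥U) (φ a)).mpr hη)
      (fun h => hne (congrArg (fun t : ↥U => t.1) h))
    refine lt_of_lt_of_le h1 ?_
    exact natDim_le_of_isInducing IsInducing.subtypeVal hU
  have h1 : topologicalKrullDim ↥(𝓘.subschemeι ⁻¹ᵁ U) ≤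
      ((WeilCoh.natDim ↥U - 1 : ℕ) : WithBot ℕ∞) := by
    haveI : QuasiSober ↥(𝓘.subschemeι ⁻¹ᵁ U) :=
      (𝓘.subschemeι ⁻¹ᵁ U).isOpenEmbedding'.quasiSober
    refine topologicalKrullDim_le_of_rank
      (fun a => WeilCoh.natDim ↥(closure ({φ a} : Set ↥U))) ?_ _ ?_
    · intro t t' hsp hne
      exact hstrict (φ t') (φ t) (hsp.map hφc) (fun h => hne (hφi h))
    · intro t
      have := hbound t
      have h2 : WeilCoh.natDim ↥(closure ({φ t} : Set ↥U)) ≤ WeilCoh.natDim ↥U - 1 := by omega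
      exact_mod_cast h2
  obtain ⟨a⟩ := hA
  have hpos := hbound a
  haveI : Nonempty ↥U := ⟨φ a⟩
  rw [← coe_natDim hU]
  refine le_trans (add_le_add_left h1 1) ?_
  have h3 : WeilCoh.natDim ↥U - 1 + 1 = WeilCoh.natDim ↥U := by omega
  have h4 : ((WeilCoh.natDim ↥U - 1 : ℕ) : WithBot ℕ∞) + 1 =
      ((WeilCoh.natDim ↥U - 1 + 1 : ℕ) : WithBot ℕ∞) := by push_cast; rfl
  rw [h4, h3]

theorem localDim_lt_of_isEffCartier (S : Scheme.{u}) (𝓘 : S.IdealSheafData)
    (h𝓘 : BlowUp.IsEffCartierIdeal 𝓘) (d : ↥𝓘.subscheme)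
    (hfin : FlatMor.localDim ↥S (𝓘.subschemeι d) ≠ ⊤) :
    FlatMor.localDim ↥𝓘.subscheme d < FlatMor.localDim ↥S (𝓘.subschemeι d) := by
  have key : FlatMor.localDim ↥𝓘.subscheme d + 1 ≤ FlatMor.localDim ↥S (𝓘.subschemeι d) := by
    rw [Groth.Agent.Lib.Helper7.TopDim.le_localDim_iff]
    intro U hU
    have h1 : FlatMor.localDim ↥𝓘.subscheme d ≤ topologicalKrullDim ↥(𝓘.subschemeι ⁻¹ᵁ U) :=
      Groth.Agent.Lib.Helper7.TopDim.localDim_le d (𝓘.subschemeι ⁻¹ᵁ U) hU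
    exact le_trans (add_le_add_left h1 1) (topologicalKrullDim_preimage_add_one_le 𝓘 h𝓘 U)
  have hnb : (0 : WithBot ℕ∞) ≤ FlatMor.localDim ↥S (𝓘.subschemeι d) :=
    Groth.Agent.Lib.Helper7.TopDim.localDim_nonneg _
  generalize FlatMor.localDim ↥S (𝓘.subschemeι d) = m at hfin key hnb
  generalize FlatMor.localDim ↥𝓘.subscheme d = x at key
  induction x using WithBot.recBotCoe with
  | bot => exact lt_of_lt_of_le (WithBot.bot_lt_coe _) hnb
  | coe a =>
    induction m using WithBot.recBotCoe with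
    | bot => simp at hnb
    | coe b =>
      have hb : b ≠ ⊤ := fun h => hfin (by rw [h]; rfl)
      have key' : a + 1 ≤ b := by exact_mod_cast key
      have : a < b := by
        obtain ⟨n, rfl⟩ := ENat.ne_top_iff_exists.mp hb
        have ha : a ≠ ⊤ := by
          rintro rfl
          simp at key'
        obtain ⟨m', rfl⟩ := ENat.ne_top_iff_exists.mp ha
        have : m' + 1 ≤ n := by exact_mod_cast key'
        exact_mod_cast this
      exact_mod_cast this

end Groth.Agent.Lib.Helper6.CartDim
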