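import Mathlib
import Groth.Agent.Lib.Helper4CurveDegT
import Groth.Agent.Lib.Helper23QAffSec
import Groth.Agent.Lib.Helper21ExtCartier2
import Groth.Agent.Lib.Helper6CartDim

/-!
# Degree of `E ⊗ O(D)` on a proper scheme of dimension ≤ 1 (helper4)

* `dim_subscheme_le_zero` : an effective Cartier divisor on a scheme of dimension `≤ 1` has dimension `≤ 0`
* `isFinite_subscheme` : such a divisor is finite over `k` when `X` is proper over `k`
* `deg_tensor_cartier` (S1604)
-/

set_option autoImplicit false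
set_option linter.style.haveILetI false
universe u

open TopologicalSpace Topology AlgebraicGeometry CategoryTheory CategoryTheory.Limits

namespace Groth.Agent.Lib.Helper4.CartDeg

section Dim
variable {X : Scheme.{u}}

theorem withBot_le_zero_of_add_one_le_one (a : WithBot ℕ∞) (h : a + 1 ≤ 1) : a ≤ 0 := by
  induction a using WithBot.recBotCoe with
  | bot => exact bot_le
  | coe b =>
    have h' : b + 1 ≤ 1 := by exact_mod_cast h
    have hb : b ≠ ⊤ := by
      rintro rfl
      simp at h'
    obtain ⟨n, rfl⟩ := ENat.ne_top_iff_exists.mp hb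
    have h'' : n + 1 ≤ 1 := by exact_mod_cast h'
    have : n = 0 := by omega
    subst this
    exact le_refl _

theorem dim_subscheme_le_zero (hdim : topologicalKrullDim X ≤ 1) (D : X.IdealSheafData)
    (hD : BlowUp.IsEffCartierIdeal D) : topologicalKrullDim D.subscheme ≤ 0 := by
  have h := Groth.Agent.Lib.Helper6.CartDim.topologicalKrullDim_preimage_add_one_le D hD ⊤
  have h1 : topologicalKrullDim ↥(⊤ : X.Opens) ≤ topologicalKrullDim X :=
    topologicalKrullDim_subspace_le X _
  have h2 : topologicalKrullDim D.subscheme ≤ topologicalKrullDim ↥(D.subschemeι ⁻¹ᵁ ⊤) := by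
    refine Topology.IsInducing.topologicalKrullDim_le
      (f := fun x : D.subscheme => (⟨x, trivial⟩ : ↥(D.subschemeι ⁻¹ᵁ ⊤))) ?_
    exact Topology.IsInducing.of_comp (continuous_id.subtype_mk _) continuous_subtype_val
      Topology.IsInducing.id
  refine withBot_le_zero_of_add_one_le_one _ ?_
  exact (add_le_add_left h2 1).trans (h.trans (h1.trans hdim))

theorem dim_range_le_zero (hdim : topologicalKrullDim X ≤ 1) (D : X.IdealSheafData)
    (hD : BlowUp.IsEffCartierIdeal D) : topologicalKrullDim ↥(Set.range D.subschemeι) ≤ 0 := by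
  have h := dim_subscheme_le_zero hdim D hD
  rwa [IsHomeomorph.topologicalKrullDim_eq _
    (D.subschemeι.isEmbedding.toHomeomorph).isHomeomorph] at h

end Dim

section Field
variable (k : Type u) [Field k] (X : Scheme.{u}) [X.Over (Spec (CommRingCat.of k))]
  [IsProper (X ↘ (Spec (CommRingCat.of k)))]

theorem isFinite_subscheme (hdim : topologicalKrullDim X ≤ 1) (D : X.IdealSheafData)
    (hD : BlowUp.IsEffCartierIdeal D) :
    IsFinite (D.subschemeι ≫ (X ↘ (Spec (CommRingCat.of k)))) := by
  have hd := dim_subscheme_le_zero hdim D hD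
  haveI : IsLocallyNoetherian (Spec (CommRingCat.of k)) := inferInstance
  haveI : IsLocallyNoetherian D.subscheme :=
    LocallyOfFiniteType.isLocallyNoetherian (D.subschemeι ≫ (X ↘ (Spec (CommRingCat.of k))))
  haveI : CompactSpace D.subscheme := by
    have : QuasiCompact (D.subschemeι ≫ (X ↘ (Spec (CommRingCat.of k)))) := inferInstance
    exact (quasiCompact_iff_compactSpace (D.subschemeι ≫ (X ↘ (Spec (CommRingCat.of k))))).1 this
  haveI : IsNoetherian D.subscheme := {}
  have hpt : ∀ x : D.subscheme, IsClosed ({x} : Set D.subscheme) := fun x =>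
    Groth.Agent.Lib.Helper4.ZeroDimGG.isClosed_singleton_of_dim_le_zero Set.univ isClosed_univ
      ((topologicalKrullDim_subspace_le _ _).trans hd) x trivial
  have hfin : (Set.univ : Set D.subscheme).Finite :=
    Groth.Agent.S0047.finite_of_noetherian_quasiSober _ isClosed_univ (fun x _ => hpt x)
  haveI : Finite D.subscheme := Set.finite_univ_iff.1 hfin
  haveI : T1Space D.subscheme := ⟨hpt⟩
  haveI : DiscreteTopology D.subscheme := inferInstance
  haveI : IsAffine D.subscheme := inferInstance
  rw [IsFinite.iff_isProper_and_isAffineHom]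
  exact ⟨inferInstance, inferInstance⟩

/-- `deg L = h⁰(O_D)` for `L ⊗ I_D ≅ O`. -/
theorem deg_inverse_ideal (hdim : topologicalKrullDim X ≤ 1) (D : X.IdealSheafData)
    (hD : BlowUp.IsEffCartierIdeal D) (L : X.Modules) (hL : PicF.IsInvertible L)
    (hLD : ClSub.IsInverseOf L (ClSub.idealMod D)) :
    Curv2.deg k X L 1 = (Module.finrank k (Coh.HH X (ClSub.quotMod D) 0) : ℤ) := by
  haveI : IsLocallyNoetherian (Spec (CommRingCat.of k)) := inferInstance
  haveI : IsLocallyNoetherian X := LocallyOfFiniteType.isLocallyNoetherian (X ↘ (Spec (CommRingCat.of k)))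
  haveI : CompactSpace X := by
    have : QuasiCompact (X ↘ (Spec (CommRingCat.of k))) := inferInstance
    exact (quasiCompact_iff_compactSpace (X ↘ (Spec (CommRingCat.of k)))).1 this
  haveI : IsNoetherian X := {}
  have hL1 := Groth.Agent.Lib.Helper23.SecTw.isFinLocFreeOfRank_one_of_isInvertible L hL
  have hO := Groth.Agent.Lib.Helper4.Dev.isCoh_structureModule X
  have hQ : Coh.IsCoh (ClSub.quotMod D) :=
    Groth.Agent.Lib.Helper4.Dev.isCoh_push_closed D.subschemeι _
      (Groth.Agent.Lib.Helper4.Dev.isCoh_structureModule D.subscheme)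
  have hI : Coh.IsCoh (ClSub.idealMod D) :=
    Groth.Agent.Lib.Helper4.Dev.isCoh_kernel (ClSub.toSubscheme D) hO hQ
  have hsub : CohB1.support (ClSub.quotMod D) ⊆ Set.range D.subschemeι :=
    Groth.Agent.Lib.Helper4.Dev.support_push_subset D.subschemeι _
  have hdimQ : topologicalKrullDim (CohB1.support (ClSub.quotMod D)) ≤ 0 :=
    (Groth.Agent.Lib.Helper4.KFilt.dim_le_of_subset hsub).trans (dim_range_le_zero hdim D hD)
  have hZ : IsClosed (CohB1.support (ClSub.quotMod D)) := Groth.Agent.S0020.result X _ hQ.2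
  have hpt : ∀ x ∈ CohB1.support (ClSub.quotMod D), IsClosed ({x} : Set X) :=
    Groth.Agent.Lib.Helper4.ZeroDimGG.isClosed_singleton_of_dim_le_zero _ hZ hdimQ
  have hv : ∀ i, 0 < i → Subsingleton (Coh.HH X (ClSub.quotMod D) i) := fun i hi =>
    Groth.Agent.S0047.result X _ hQ hpt i hi
  have hadd := Groth.Agent.Lib.Helper4.CurveChi.euler_tensor_additive k X
    (Groth.Agent.Lib.Helper21.ExtCartier.idealSES D)
    (Groth.Agent.Lib.Helper21.ExtCartier.idealSES_shortExact D) hI hO hQ 1 L hL1
  have e1 : Curv2.euler k X (CohB1.tensorMod (Coh.structureModule X) L) = Curv2.euler k X L :=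
    Groth.Agent.Lib.Helper4.CurveChi.euler_congr_iso k
      (Groth.Agent.Lib.Helper23.TensorUnit.unitTensorIso L)
  obtain ⟨eLD⟩ := hLD
  have e2 : Curv2.euler k X (CohB1.tensorMod (ClSub.idealMod D) L) =
      Curv2.euler k X (Coh.structureModule X) :=
    Groth.Agent.Lib.Helper4.CurveChi.euler_congr_iso k
      (Groth.Agent.Lib.Helper23.AmpleFam2.tensorBraid (ClSub.idealMod D) L ≪≫ eLD)
  have e3 := Groth.Agent.Lib.Helper4.ZeroDimChi.euler_tensor_locFree k (ClSub.quotMod D) hQ hdimQ 1 L hL1
  have e4 := Groth.Agent.Lib.Helper4.ZeroDimChi.euler_eq_finrank_zero k (ClSub.quotMod D) hv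
  change Curv2.euler k X (CohB1.tensorMod (Coh.structureModule X) L) =
    Curv2.euler k X (CohB1.tensorMod (ClSub.idealMod D) L) +
      Curv2.euler k X (CohB1.tensorMod (ClSub.quotMod D) L) at hadd
  unfold Curv2.deg
  rw [e1, e2, e3, e4] at hadd
  rw [hadd]
  push_cast
  ring

/-- **S1604** -/
theorem deg_tensor_cartier (hdim : topologicalKrullDim X ≤ 1)
    (D : X.IdealSheafData) (hD : BlowUp.IsEffCartierIdeal D)
    (L : X.Modules) (hL : PicF.IsInvertible L) (hLD : ClSub.IsInverseOf L (ClSub.idealMod D))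
    (n : ℕ) (E : X.Modules) (hE : FlatMod.IsFinLocFreeOfRank n E) :
    IsFinite (D.subschemeι ≫ (X ↘ (Spec (CommRingCat.of k)))) ∧
      Curv2.deg k X (CohB1.tensorMod E L) n =
        n * Module.finrank k (Coh.HH X (ClSub.quotMod D) 0) + Curv2.deg k X E n := by
  refine ⟨isFinite_subscheme k X hdim D hD, ?_⟩
  have hL1 := Groth.Agent.Lib.Helper23.SecTw.isFinLocFreeOfRank_one_of_isInvertible L hL
  have h := Groth.Agent.Lib.Helper4.CurveDegT.deg_tensor k X hdim n 1 E L hE hL1
  rw [mul_one, deg_inverse_ideal k X hdim D hD L hL hLD] at h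
  rw [h]
  push_cast
  ring

end Field

end Groth.Agent.Lib.Helper4.CartDeg
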