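import Mathlib
import Groth.Agent.Lib.Helper4CurveHN2

/-!
# Semistable bundles of a fixed slope form an abelian subcategory (helper4)

* `ss_kernel_cokernel` (S16469)
-/

set_option autoImplicit false
set_option linter.style.haveILetI false
universe u

open TopologicalSpace Topology AlgebraicGeometry CategoryTheory CategoryTheory.Limits Opposite

namespace Groth.Agent.Lib.Helper4.CurveSSAb

open Groth.Agent.Lib.Helper4.CurveBun Groth.Agent.Lib.Helper4.Dev Groth.Agent.Lib.Helper4.DegAdd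
  Groth.Agent.Lib.Helper4.CurveStab Groth.Agent.Lib.Helper4.CurveSat Groth.Agent.Lib.Helper4.CurveHN

variable (k : Type u) [Field k] (X : Scheme.{u}) [X.Over (Spec (CommRingCat.of k))]
  [IsIntegral X] [IsProper (X ↘ (Spec (CommRingCat.of k)))]

omit [IsIntegral X] [IsProper (X ↘ (Spec (CommRingCat.of k)))] in
theorem deg_congr_iso {M N : X.Modules} (e : M ≅ N) (n : ℕ) : Curv2.deg k X M n = Curv2.deg k X N n := by
  unfold Curv2.deg
  rw [Groth.Agent.Lib.Helper4.CurveChi.euler_congr_iso k e]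

/-- **S16469** -/
theorem ss_kernel_cokernel (hpid : PIDStalks X) (hdim : topologicalKrullDim X = 1) (r s : ℕ)
    (hr : 0 < r) (hs : 0 < s) (E F : X.Modules)
    (hE : FlatMod.IsFinLocFreeOfRank r E) (hF : FlatMod.IsFinLocFreeOfRank s F)
    (hEss : ModFun.IsSlopeSemistable k X E r) (hFss : ModFun.IsSlopeSemistable k X F s)
    (hμ : Curv2.deg k X E r * (s : ℤ) = Curv2.deg k X F s * (r : ℤ)) (f : E ⟶ F) :
    (∃ r₀ : ℕ, FlatMod.IsFinLocFreeOfRank r₀ (kernel f) ∧
        Curv2.deg k X (kernel f) r₀ * (r : ℤ) = Curv2.deg k X E r * (r₀ : ℤ) ∧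
        ∀ (G : X.Modules) (n : ℕ) (j : G ⟶ kernel f), Mono j → 0 < n → FlatMod.IsFinLocFreeOfRank n G →
          Curv2.deg k X G n * (r₀ : ℤ) ≤ Curv2.deg k X (kernel f) r₀ * (n : ℤ)) ∧
      (∃ s₀ : ℕ, FlatMod.IsFinLocFreeOfRank s₀ (cokernel f) ∧
        Curv2.deg k X (cokernel f) s₀ * (s : ℤ) = Curv2.deg k X F s * (s₀ : ℤ) ∧
        ∀ (G : X.Modules) (n : ℕ) (j : G ⟶ cokernel f), Mono j → 0 < n → FlatMod.IsFinLocFreeOfRank n G →
          Curv2.deg k X G n * (s₀ : ℤ) ≤ Curv2.deg k X (cokernel f) s₀ * (n : ℤ)) := by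
  have hr0 : (0 : ℤ) < (r : ℤ) := by exact_mod_cast hr
  have hs0 : (0 : ℤ) < (s : ℤ) := by exact_mod_cast hs
  obtain ⟨a, b, hab, hbs, hK, hI, hdeg, hge⟩ := image_slope_ge k X hpid f r s hE hF hEss
  have hr' : (r : ℤ) = a + b := by exact_mod_cast hab.symm
  -- slope of the image
  have hIs : Curv2.deg k X (Abelian.image f) b * (s : ℤ) = Curv2.deg k X F s * (b : ℤ) := by
    rcases Nat.eq_zero_or_pos b with hb | hb
    · subst hb
      rw [deg_rank_zero k _ hI]
      simp
    · have h := hFss _ b (Abelian.image.ι f) inferInstance hb hI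
      refine le_antisymm h ?_
      refine le_of_mul_le_mul_right ?_ hr0
      have h1 := mul_le_mul_of_nonneg_right hge hs0.le
      have h2 : Curv2.deg k X F s * (b : ℤ) * (r : ℤ) = Curv2.deg k X E r * (b : ℤ) * (s : ℤ) := by
        rw [mul_right_comm, ← hμ]; ring
      rw [h2]
      calc Curv2.deg k X E r * (b : ℤ) * (s : ℤ) ≤ Curv2.deg k X (Abelian.image f) b * (r : ℤ) * (s : ℤ) := h1
        _ = Curv2.deg k X (Abelian.image f) b * (s : ℤ) * (r : ℤ) := by ring
  have hIr : Curv2.deg k X (Abelian.image f) b * (r : ℤ) = Curv2.deg k X E r * (b : ℤ) := by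
    refine mul_right_cancel₀ hs0.ne' ?_
    calc Curv2.deg k X (Abelian.image f) b * (r : ℤ) * (s : ℤ)
        = Curv2.deg k X (Abelian.image f) b * (s : ℤ) * (r : ℤ) := by ring
      _ = Curv2.deg k X F s * (b : ℤ) * (r : ℤ) := by rw [hIs]
      _ = Curv2.deg k X F s * (r : ℤ) * (b : ℤ) := by ring
      _ = Curv2.deg k X E r * (s : ℤ) * (b : ℤ) := by rw [hμ]
      _ = Curv2.deg k X E r * (b : ℤ) * (s : ℤ) := by ring
  have hKr : Curv2.deg k X (kernel (Abelian.factorThruImage f)) a * (r : ℤ) = Curv2.deg k X E r * (a : ℤ) := by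
    have h1 : Curv2.deg k X E r * (r : ℤ) = Curv2.deg k X E r * (a : ℤ) + Curv2.deg k X E r * (b : ℤ) := by
      rw [hr']; ring
    have h2 : Curv2.deg k X E r * (r : ℤ) =
        Curv2.deg k X (kernel (Abelian.factorThruImage f)) a * (r : ℤ) +
        Curv2.deg k X (Abelian.image f) b * (r : ℤ) := by
      rw [hdeg]; ring
    linarith
  constructor
  · -- the kernel
    obtain ⟨e⟩ : Nonempty (kernel f ≅ kernel (Abelian.factorThruImage f)) :=
      ⟨kernelIsoOfEq (Abelian.image.fac f).symm ≪≫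
        kernelCompMono (Abelian.factorThruImage f) (Abelian.image.ι f)⟩
    have hKf : FlatMod.IsFinLocFreeOfRank a (kernel f) :=
      Groth.Agent.Lib.Helper26.ModRank.isFinLocFreeOfRank_of_iso e.symm hK
    have hdK : Curv2.deg k X (kernel f) a = Curv2.deg k X (kernel (Abelian.factorThruImage f)) a :=
      deg_congr_iso k X e a
    refine ⟨a, hKf, by rw [hdK, hKr], ?_⟩
    intro G n j hj hn hG
    have h := hEss G n (j ≫ kernel.ι f) (mono_comp j _) hn hG
    rw [hdK]
    refine le_of_mul_le_mul_right ?_ hr0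
    have h1 := mul_le_mul_of_nonneg_right h (Int.natCast_nonneg a)
    calc Curv2.deg k X G n * (a : ℤ) * (r : ℤ) = Curv2.deg k X G n * (r : ℤ) * (a : ℤ) := by ring
      _ ≤ Curv2.deg k X E r * (n : ℤ) * (a : ℤ) := h1
      _ = Curv2.deg k X E r * (a : ℤ) * (n : ℤ) := by ring
      _ = Curv2.deg k X (kernel (Abelian.factorThruImage f)) a * (n : ℤ) * (r : ℤ) := by rw [← hKr]; ring
  · -- the cokernel
    obtain ⟨F', g, u, hg, hu, hle, hKg, hF', hdegF, hdle, hiso⟩ :=
      exists_saturation k X hpid hdim (Abelian.image.ι f) b s hI hF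
    have hge' : Curv2.deg k X (kernel g) b ≤ Curv2.deg k X (Abelian.image f) b := by
      rcases Nat.eq_zero_or_pos b with hb | hb
      · subst hb
        rw [deg_rank_zero k _ hI, deg_rank_zero k _ hKg]
      · have h := hFss _ b (kernel.ι g) inferInstance hb hKg
        rw [← hIs] at h
        exact le_of_mul_le_mul_right h hs0
    have hdeq : Curv2.deg k X (Abelian.image f) b = Curv2.deg k X (kernel g) b := le_antisymm hdle hge'
    haveI := hiso hdeq
    obtain ⟨eC⟩ : Nonempty (cokernel f ≅ F') :=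
      ⟨cokernelIsoOfEq (Abelian.image.fac f).symm ≪≫
        cokernelEpiComp (Abelian.factorThruImage f) (Abelian.image.ι f) ≪≫
        cokernelIsoOfSaturated (Abelian.image.ι f) g u hu⟩
    have hC : FlatMod.IsFinLocFreeOfRank (s - b) (cokernel f) :=
      Groth.Agent.Lib.Helper26.ModRank.isFinLocFreeOfRank_of_iso eC.symm hF'
    have hdC : Curv2.deg k X (cokernel f) (s - b) = Curv2.deg k X F' (s - b) := deg_congr_iso k X eC _
    have hsb : ((s - b : ℕ) : ℤ) = (s : ℤ) - (b : ℤ) := by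
      have : s = b + (s - b) := by omega
      have h2 : (s : ℤ) = (b : ℤ) + ((s - b : ℕ) : ℤ) := by exact_mod_cast this
      linarith
    have hsb0 : (0 : ℤ) ≤ ((s - b : ℕ) : ℤ) := Int.natCast_nonneg _
    have hCs : Curv2.deg k X F' (s - b) * (s : ℤ) = Curv2.deg k X F s * ((s - b : ℕ) : ℤ) := by
      have h1 : Curv2.deg k X F' (s - b) = Curv2.deg k X F s - Curv2.deg k X (Abelian.image f) b := by
        rw [hdegF, hdeq]; ring
      rw [h1, hsb, sub_mul, hIs]
      ring
    refine ⟨s - b, hC, by rw [hdC, hCs], ?_⟩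
    intro G n j hj hn hG
    haveI := hj
    have hjm : Mono (j ≫ eC.hom) := mono_comp j eC.hom
    obtain ⟨P, jP, hjP, hP, hdP⟩ := preimage_bundle' k X hpid (sesOfEpi g) (sesOfEpi_shortExact g)
      b s hKg hF G n (j ≫ eC.hom) hjm hG
    have h := hFss P (b + n) jP hjP (by omega) hP
    rw [hdP] at h
    push_cast at h
    change (Curv2.deg k X (kernel g) b + Curv2.deg k X G n) * (s : ℤ) ≤
      Curv2.deg k X F s * ((b : ℤ) + (n : ℤ)) at h
    rw [← hdeq] at h
    have h1 : Curv2.deg k X G n * (s : ℤ) ≤ Curv2.deg k X F s * (n : ℤ) := by linarith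
    rw [hdC]
    refine le_of_mul_le_mul_right ?_ hs0
    have h2 := mul_le_mul_of_nonneg_right h1 hsb0
    calc Curv2.deg k X G n * ((s - b : ℕ) : ℤ) * (s : ℤ)
        = Curv2.deg k X G n * (s : ℤ) * ((s - b : ℕ) : ℤ) := by ring
      _ ≤ Curv2.deg k X F s * (n : ℤ) * ((s - b : ℕ) : ℤ) := h2
      _ = Curv2.deg k X F s * ((s - b : ℕ) : ℤ) * (n : ℤ) := by ring
      _ = Curv2.deg k X F' (s - b) * (n : ℤ) * (s : ℤ) := by rw [← hCs]; ring

end Groth.Agent.Lib.Helper4.CurveSSAb
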