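import Mathlib
import Groth.Agent.Lib.Helper4CurveHN2
import Groth.Agent.Lib.Helper4CurveDegT
import Groth.Agent.Lib.Helper4CurveSSAb
import Groth.Agent.Lib.Helper23ResProp
import Groth.Agent.Lib.Helper23QAffSec
set_option backward.isDefEq.respectTransparency.types false

/-!
# Twisted (Higgs) pairs on regular proper curves (helper4)

`T = - ⊗ L` for an invertible (flat) `L` is exact.  A sub `j : G ⟶ E` is invariant under `φ : E ⟶ E ⊗ L` when
`j ≫ φ` factors through `j ⊗ L`.

* abstract: `inv_kernel`, `inv_kernel_of_hom`, `inv_image_of_hom` (kernels and images of maps of twisted pairs are invariant)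
* `isFinLocFreeOfRank_tensor_invertible`, `exists_untwist_sub`
* `slope_le_of_hom` (S16002), `higgs_quotient` (S15328), `ss_of_higgs_ss_deg_zero` (S16004)
-/

set_option autoImplicit false
set_option linter.style.haveILetI false
set_option linter.unusedSectionVars false
universe u

open TopologicalSpace Topology AlgebraicGeometry CategoryTheory CategoryTheory.Limits Opposite

namespace Groth.Agent.Lib.Helper4.CurveHiggs

section abs
variable {C : Type*} [Category C] [Abelian C] (T : C ⥤ C) [T.Additive] [PreservesFiniteLimits T]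
  [PreservesFiniteColimits T]

/-- if `ker q → E → T E → T Q` vanishes, then `ker q` is `φ`-invariant -/
theorem inv_kernel {E Q : C} (φ : E ⟶ T.obj E) (q : E ⟶ Q)
    (h : kernel.ι q ≫ φ ≫ T.map q = 0) :
    ∃ χ : kernel q ⟶ T.obj (kernel q), χ ≫ T.map (kernel.ι q) = kernel.ι q ≫ φ := by
  refine ⟨kernel.lift (T.map q) (kernel.ι q ≫ φ) (by rw [Category.assoc, h]) ≫
    (PreservesKernel.iso T q).inv, ?_⟩
  rw [Category.assoc, PreservesKernel.iso_inv_ι, kernel.lift_ι]

theorem kernel_ι_comp' {E F : C} (f : E ⟶ F) : kernel.ι (Abelian.factorThruImage f) ≫ f = 0 := by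
  have h2 : (kernel.ι (Abelian.factorThruImage f) ≫ Abelian.factorThruImage f) ≫ Abelian.image.ι f = 0 := by
    rw [kernel.condition, zero_comp]
  rwa [Category.assoc, Abelian.image.fac] at h2

/-- kernel of `E ↠ im f` is invariant for a map of twisted pairs -/
theorem inv_kernel_of_hom {E F : C} (φ : E ⟶ T.obj E) (ψ : F ⟶ T.obj F) (f : E ⟶ F)
    (hf : f ≫ ψ = φ ≫ T.map f) :
    ∃ χ : kernel (Abelian.factorThruImage f) ⟶ T.obj (kernel (Abelian.factorThruImage f)),
      χ ≫ T.map (kernel.ι (Abelian.factorThruImage f)) = kernel.ι (Abelian.factorThruImage f) ≫ φ := by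
  apply inv_kernel
  haveI : Mono (T.map (Abelian.image.ι f)) := inferInstance
  rw [← cancel_mono (T.map (Abelian.image.ι f))]
  simp only [Category.assoc, zero_comp]
  rw [← T.map_comp, Abelian.image.fac, ← hf, reassoc_of% (kernel_ι_comp' f), zero_comp]

/-- the image is invariant for a map of twisted pairs -/
theorem inv_image_of_hom {E F : C} (φ : E ⟶ T.obj E) (ψ : F ⟶ T.obj F) (f : E ⟶ F)
    (hf : f ≫ ψ = φ ≫ T.map f) :
    ∃ χ : Abelian.image f ⟶ T.obj (Abelian.image f),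
      χ ≫ T.map (Abelian.image.ι f) = Abelian.image.ι f ≫ ψ := by
  haveI : Mono (T.map (Abelian.image.ι f)) := inferInstance
  haveI : StrongEpi (Abelian.factorThruImage f) := strongEpi_of_epi _
  have sq : CommSq (φ ≫ T.map (Abelian.factorThruImage f)) (Abelian.factorThruImage f)
      (T.map (Abelian.image.ι f)) (Abelian.image.ι f ≫ ψ) := ⟨by
    rw [Category.assoc, ← T.map_comp, Abelian.image.fac, ← hf, ← Category.assoc, Abelian.image.fac]⟩
  exact ⟨sq.lift, sq.fac_right⟩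

/-- a mono is the kernel of its cokernel: lifting -/
theorem exists_lift_of_mono {G C' P : C} (j : G ⟶ C') [Mono j] (a : P ⟶ C') (h : a ≫ cokernel.π j = 0) :
    ∃ p : P ⟶ G, p ≫ j = a := by
  refine ⟨kernel.lift (cokernel.π j) a h ≫ inv (Abelian.factorThruImage j), ?_⟩
  have h1 : inv (Abelian.factorThruImage j) ≫ j = Abelian.image.ι j := by
    rw [IsIso.inv_comp_eq, Abelian.image.fac]
  rw [Category.assoc, h1]
  exact kernel.lift_ι _ _ _

/-- an invariant sub `i = u ≫ ker g` is killed by `ker g → E → T E → T Q` -/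
theorem sat_comp_eq_zero {F E Q : C} (i : F ⟶ E) (g : E ⟶ Q) (u : F ⟶ kernel g) (hu : u ≫ kernel.ι g = i)
    (φ : E ⟶ T.obj E) (ψF : F ⟶ T.obj F) (hψF : ψF ≫ T.map i = i ≫ φ) :
    u ≫ kernel.ι g ≫ φ ≫ T.map g = 0 := by
  rw [reassoc_of% hu, ← reassoc_of% hψF, ← Functor.map_comp, ← hu, Category.assoc, kernel.condition,
    comp_zero, Functor.map_zero, comp_zero]

/-- the preimage of an invariant sub of a quotient is invariant: vanishing of the obstruction -/
theorem preimage_comp_eq_zero {E C' G : C} (π : E ⟶ C') (j : G ⟶ C') [Mono j]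
    (φ : E ⟶ T.obj E) (φ' : C' ⟶ T.obj C') (hφ' : π ≫ φ' = φ ≫ T.map π)
    (ψ : G ⟶ T.obj G) (hψ : ψ ≫ T.map j = j ≫ φ') :
    kernel.ι (π ≫ cokernel.π j) ≫ φ ≫ T.map (π ≫ cokernel.π j) = 0 := by
  obtain ⟨p, hp⟩ := exists_lift_of_mono j (kernel.ι (π ≫ cokernel.π j) ≫ π)
    (by rw [Category.assoc, kernel.condition])
  rw [Functor.map_comp, ← reassoc_of% hφ', ← reassoc_of% hp, ← reassoc_of% hψ, ← Functor.map_comp,
    cokernel.condition, Functor.map_zero, comp_zero, comp_zero]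

/-- a sub `i` with `i ≫ φ ≫ T (coker i) = 0` is invariant -/
theorem inv_of_mono {F E : C} (i : F ⟶ E) [Mono i] (φ : E ⟶ T.obj E)
    (h : i ≫ φ ≫ T.map (cokernel.π i) = 0) : ∃ χ : F ⟶ T.obj F, χ ≫ T.map i = i ≫ φ := by
  have hS : (ShortComplex.mk i (cokernel.π i) (cokernel.condition i)).ShortExact :=
    { exact := ShortComplex.exact_cokernel i }
  have hS' := hS.map_of_exact T
  haveI := hS'.mono_f
  exact ⟨hS'.exact.lift (i ≫ φ) ((Category.assoc _ _ _).trans h), hS'.exact.lift_f _ _⟩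

end abs

open Groth.Agent.Lib.Helper21.ModTensor3 Groth.Agent.Lib.Helper21.ModTensor5
  Groth.Agent.Lib.Helper21.ModTensor7 Groth.Agent.Lib.Helper1.PT Groth.Agent.Lib.Helper1.FLF
  Groth.Agent.Lib.Helper23.TensorUnit Groth.Agent.Lib.Helper23.LocGen Groth.Agent.Lib.Helper23.AmpleIso

theorem higgs_numeric (r r' s dG dE dF : ℤ) (hr : 0 < r) (hle : r' ≤ r)
    (h3 : (dF + dG) * r ≤ dE * (r' + s)) (hslope : dF * r = dE * r') :
    dG * (r - r') ≤ (dE - dF) * s := by
  have h4 : dG * r ≤ dE * s := by linarith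
  have h5 : (r - r') * (dG * r) ≤ (r - r') * (dE * s) := mul_le_mul_of_nonneg_left h4 (by linarith)
  have h6 : r * (dG * (r - r') - (dE - dF) * s) = (r - r') * (dG * r) - (r - r') * (dE * s) := by
    have : r * (dG * (r - r') - (dE - dF) * s) = (r - r') * (dG * r) - s * (r * dE) + s * (dF * r) := by ring
    rw [this, hslope]; ring
  by_contra hcon
  have hcon' : (dE - dF) * s < dG * (r - r') := not_le.1 hcon
  have h7 : 0 < r * (dG * (r - r') - (dE - dF) * s) := mul_pos hr (by linarith)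
  linarith

section tens
variable {X : Scheme.{u}}

theorem isFinLocFreeOfRank_tensor_invertible (M L : X.Modules) (n : ℕ) (hM : FlatMod.IsFinLocFreeOfRank n M)
    (hL : PicF.IsInvertible L) : FlatMod.IsFinLocFreeOfRank n (CohB1.tensorMod M L) := fun x => by
  obtain ⟨U1, hx1, ⟨e1⟩⟩ := hM x
  obtain ⟨U2, hx2, ⟨e2⟩⟩ := Groth.Agent.Lib.Helper23.SecTw.isFinLocFreeOfRank_one_of_isInvertible L hL x
  obtain ⟨a⟩ := nonempty_restrict_iso_freeMod_of_le M (inf_le_left : U1 ⊓ U2 ≤ U1) e1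
  obtain ⟨b⟩ := nonempty_restrict_iso_freeMod_of_le L (inf_le_right : U1 ⊓ U2 ≤ U2) e2
  refine ⟨U1 ⊓ U2, ⟨hx1, hx2⟩, ⟨?_⟩⟩
  let V : X.Opens := U1 ⊓ U2
  let r := Scheme.Modules.restrictFunctorIsoPullback V.ι
  let b' : L.restrict V.ι ≅ Coh.structureModule (↑V : Scheme.{u}) :=
    b ≪≫ coproductUniqueIso (fun _ : Fin 1 => Coh.structureModule (↑V : Scheme.{u}))
  exact r.app _ ≪≫ ((pullTensorIso V.ι).app M).app L ≪≫
    ((DCoh.tensorBi (X := (V : Scheme.{u}))).mapIso (r.symm.app M ≪≫ a)).app _ ≪≫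
    ((DCoh.tensorBi (X := (V : Scheme.{u}))).obj _).mapIso (r.symm.app L ≪≫ b') ≪≫
    tensorUnitIso (FlatMod.freeMod (↑V : Scheme.{u}) n)

theorem isFlat_of_isInvertible (L : X.Modules) (hL : PicF.IsInvertible L) : FlatMod.IsFlat L :=
  Groth.Agent.Lib.Helper4.CurveChi.isFlat_of_isFinLocFreeOfRank L 1
    (Groth.Agent.Lib.Helper23.SecTw.isFinLocFreeOfRank_one_of_isInvertible L hL)

theorem preservesFiniteLimits_tw (L : X.Modules) (hL : PicF.IsInvertible L) :
    PreservesFiniteLimits (DCoh.tensorRightMod L) :=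
  ((Groth.Agent.Lib.Helper1.StalkTensor.modSite_isFlat_iff L).2 (isFlat_of_isInvertible L hL)).1

theorem preservesFiniteColimits_tw (L : X.Modules) (hL : PicF.IsInvertible L) :
    PreservesFiniteColimits (DCoh.tensorRightMod L) :=
  ((Groth.Agent.Lib.Helper1.StalkTensor.modSite_isFlat_iff L).2 (isFlat_of_isInvertible L hL)).2

end tens


open Groth.Agent.Lib.Helper4.CurveBun Groth.Agent.Lib.Helper4.Dev Groth.Agent.Lib.Helper4.DegAdd
  Groth.Agent.Lib.Helper4.CurveStab Groth.Agent.Lib.Helper4.CurveSat Groth.Agent.Lib.Helper4.CurveHN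

variable (k : Type u) [Field k] (X : Scheme.{u}) [X.Over (Spec (CommRingCat.of k))]
  [IsIntegral X] [IsProper (X ↘ (Spec (CommRingCat.of k)))]

/-- **S16002**: a nonzero map of semistable twisted tuples does not decrease the slope -/
theorem slope_le_of_hom (hpid : PIDStalks X)
    (ι : Type) (L : ι → X.Modules) (hL : ∀ i, PicF.IsInvertible (L i))
    (r s : ℕ)
    (E F : X.Modules) (hE : FlatMod.IsFinLocFreeOfRank r E) (hF : FlatMod.IsFinLocFreeOfRank s F)
    (φ : ∀ i, E ⟶ CohB1.tensorMod E (L i)) (ψ : ∀ i, F ⟶ CohB1.tensorMod F (L i))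
    (hEss : (∀ (G : X.Modules) (n : ℕ) (j : G ⟶ E), Mono j → 0 < n → FlatMod.IsFinLocFreeOfRank n G →
      (∀ i, ∃ χ : G ⟶ CohB1.tensorMod G (L i), χ ≫ (CohB1.sheafifyMod X).map (MonoidalCategoryStruct.whiskerRight (C := CohB1.PMod X) j.val (CohB1.toPMod (L i))) = j ≫ φ i) →
      Curv2.deg k X G n * (r : ℤ) ≤ Curv2.deg k X E r * (n : ℤ)))
    (hFss : (∀ (G : X.Modules) (n : ℕ) (j : G ⟶ F), Mono j → 0 < n → FlatMod.IsFinLocFreeOfRank n G →
      (∀ i, ∃ χ : G ⟶ CohB1.tensorMod G (L i), χ ≫ (CohB1.sheafifyMod X).map (MonoidalCategoryStruct.whiskerRight (C := CohB1.PMod X) j.val (CohB1.toPMod (L i))) = j ≫ ψ i) →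
      Curv2.deg k X G n * (s : ℤ) ≤ Curv2.deg k X F s * (n : ℤ)))
    (f : E ⟶ F) (hf : ∀ i, f ≫ ψ i = φ i ≫ (CohB1.sheafifyMod X).map (MonoidalCategoryStruct.whiskerRight (C := CohB1.PMod X) f.val (CohB1.toPMod (L i)))) (hne : f ≠ 0) :
    Curv2.deg k X E r * (s : ℤ) ≤ Curv2.deg k X F s * (r : ℤ) := by
  obtain ⟨a, b, hab, hbs, hK, hI, hdeg⟩ := ker_im k X hpid f r s hE hF
  have hr' : (r : ℤ) = a + b := by exact_mod_cast hab.symm
  have hb : 0 < b := by
    rcases Nat.eq_zero_or_pos b with hb | hb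
    · subst hb
      exact absurd (eq_zero_of_image_rank_zero f hI) hne
    · exact hb
  have hb' : (0 : ℤ) < b := by exact_mod_cast hb
  have hKinv : ∀ i, ∃ χ : kernel (Abelian.factorThruImage f) ⟶ CohB1.tensorMod (kernel (Abelian.factorThruImage f)) (L i),
      χ ≫ (CohB1.sheafifyMod X).map (MonoidalCategoryStruct.whiskerRight (C := CohB1.PMod X)
        (kernel.ι (Abelian.factorThruImage f)).val (CohB1.toPMod (L i))) = kernel.ι (Abelian.factorThruImage f) ≫ φ i := by
    intro i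
    haveI := preservesFiniteLimits_tw (L i) (hL i)
    haveI := preservesFiniteColimits_tw (L i) (hL i)
    exact inv_kernel_of_hom (DCoh.tensorRightMod (L i)) (φ i) (ψ i) f (hf i)
  have hIinv : ∀ i, ∃ χ : Abelian.image f ⟶ CohB1.tensorMod (Abelian.image f) (L i),
      χ ≫ (CohB1.sheafifyMod X).map (MonoidalCategoryStruct.whiskerRight (C := CohB1.PMod X)
        (Abelian.image.ι f).val (CohB1.toPMod (L i))) = Abelian.image.ι f ≫ ψ i := by
    intro i
    haveI := preservesFiniteLimits_tw (L i) (hL i)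
    haveI := preservesFiniteColimits_tw (L i) (hL i)
    exact inv_image_of_hom (DCoh.tensorRightMod (L i)) (φ i) (ψ i) f (hf i)
  have h2 := hFss _ b (Abelian.image.ι f) inferInstance hb hI hIinv
  have h1 : Curv2.deg k X E r * (b : ℤ) ≤ Curv2.deg k X (Abelian.image f) b * (r : ℤ) := by
    rcases Nat.eq_zero_or_pos a with ha | ha
    · subst ha
      rw [hdeg, deg_rank_zero k _ hK, zero_add, hr']
      simp
    · have h := hEss _ a (kernel.ι (Abelian.factorThruImage f)) inferInstance ha hK hKinv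
      have h1 : Curv2.deg k X E r * (r : ℤ) = Curv2.deg k X E r * (a : ℤ) + Curv2.deg k X E r * (b : ℤ) := by
        rw [hr']; ring
      have h2 : Curv2.deg k X (Abelian.image f) b * (r : ℤ) =
          Curv2.deg k X E r * (r : ℤ) - Curv2.deg k X (kernel (Abelian.factorThruImage f)) a * (r : ℤ) := by
        rw [hdeg]; ring
      linarith
  have h3 := mul_le_mul_of_nonneg_right h1 (Int.natCast_nonneg s)
  have h4 := mul_le_mul_of_nonneg_right h2 (Int.natCast_nonneg r)
  have h5 : (Curv2.deg k X E r * (s : ℤ)) * (b : ℤ) ≤ (Curv2.deg k X F s * (r : ℤ)) * (b : ℤ) := by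
    nlinarith
  exact le_of_mul_le_mul_right h5 hb'


/-- the preimage in `E` of a sub-bundle `G ⊆ C` along `0 → E₁ → E → C → 0`, as an explicit kernel -/
theorem preimage_bundle_ker (hpid : PIDStalks X) (T : ShortComplex X.Modules) (hT : T.ShortExact)
    (r₁ r : ℕ) (hE₁ : FlatMod.IsFinLocFreeOfRank r₁ T.X₁) (hE : FlatMod.IsFinLocFreeOfRank r T.X₂)
    (G : X.Modules) (r' : ℕ) (i : G ⟶ T.X₃) (hi : Mono i) (hG : FlatMod.IsFinLocFreeOfRank r' G) :
    FlatMod.IsFinLocFreeOfRank (r₁ + r') (kernel (T.g ≫ cokernel.π i)) ∧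
      Curv2.deg k X (kernel (T.g ≫ cokernel.π i)) (r₁ + r') = Curv2.deg k X T.X₁ r₁ + Curv2.deg k X G r' := by
  haveI : IsLocallyNoetherian X := isLocallyNoetherian_of_proper k X
  have := hT.epi_g
  have := hT.mono_f
  have c₁ := isCoh_of_isFinLocFreeOfRank _ r₁ hE₁
  have c₂ := isCoh_of_isFinLocFreeOfRank _ r hE
  have c₃ : Coh.IsCoh T.X₃ :=
    isCoh_of_iso (IsColimit.coconePointUniqueUpToIso (colimit.isColimit _) hT.gIsCokernel)
      (isCoh_cokernel T.f c₁ c₂)
  have cG := isCoh_of_isFinLocFreeOfRank _ r' hG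
  have cQ : Coh.IsCoh (cokernel i) := isCoh_cokernel i cG c₃
  have cP : Coh.IsCoh (kernel (T.g ≫ cokernel.π i)) := isCoh_kernel _ c₂ cQ
  obtain ⟨p', -, hP⟩ := isFinLocFreeOfRank_of_mono hpid (kernel.ι (T.g ≫ cokernel.π i)) cP r hE
  have ht : Module.finrank (X.presheaf.stalk (genericPoint X)) (T.X₂.presheaf.stalk (genericPoint X)) =
      Module.finrank (X.presheaf.stalk (genericPoint X)) (T.X₁.presheaf.stalk (genericPoint X)) +
      Module.finrank (X.presheaf.stalk (genericPoint X)) (T.X₃.presheaf.stalk (genericPoint X)) :=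
    Groth.Agent.Lib.Helper4.CurveChi.rk_additive X T hT c₁ c₃
  have ha : Module.finrank (X.presheaf.stalk (genericPoint X)) (T.X₂.presheaf.stalk (genericPoint X)) =
      Module.finrank (X.presheaf.stalk (genericPoint X))
        ((kernel (T.g ≫ cokernel.π i)).presheaf.stalk (genericPoint X)) +
      Module.finrank (X.presheaf.stalk (genericPoint X)) ((cokernel i).presheaf.stalk (genericPoint X)) :=
    Groth.Agent.Lib.Helper4.CurveChi.rk_additive X (sesOfEpi (T.g ≫ cokernel.π i))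
      (sesOfEpi_shortExact (T.g ≫ cokernel.π i)) cP cQ
  have hb : Module.finrank (X.presheaf.stalk (genericPoint X)) (T.X₃.presheaf.stalk (genericPoint X)) =
      Module.finrank (X.presheaf.stalk (genericPoint X)) (G.presheaf.stalk (genericPoint X)) +
      Module.finrank (X.presheaf.stalk (genericPoint X)) ((cokernel i).presheaf.stalk (genericPoint X)) :=
    Groth.Agent.Lib.Helper4.CurveChi.rk_additive X (sesOfMono i) (sesOfMono_shortExact i) cG cQ
  rw [(Groth.Agent.Lib.Helper4.KTensor.stalk_of_isFinLocFreeOfRank _ r hE (genericPoint X)).2.2,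
    (Groth.Agent.Lib.Helper4.KTensor.stalk_of_isFinLocFreeOfRank _ p' hP (genericPoint X)).2.2] at ha
  rw [(Groth.Agent.Lib.Helper4.KTensor.stalk_of_isFinLocFreeOfRank _ r hE (genericPoint X)).2.2,
    (Groth.Agent.Lib.Helper4.KTensor.stalk_of_isFinLocFreeOfRank _ r₁ hE₁ (genericPoint X)).2.2] at ht
  rw [(Groth.Agent.Lib.Helper4.KTensor.stalk_of_isFinLocFreeOfRank _ r' hG (genericPoint X)).2.2] at hb
  have hp' : p' = r₁ + r' := by omega
  subst hp'
  refine ⟨hP, ?_⟩
  have e1 := Groth.Agent.Lib.Helper6.Euler.euler_additive k X (sesOfEpi (T.g ≫ cokernel.π i))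
    (sesOfEpi_shortExact (T.g ≫ cokernel.π i)) cP c₂ cQ
  have e2 := Groth.Agent.Lib.Helper6.Euler.euler_additive k X (sesOfMono i) (sesOfMono_shortExact i) cG c₃ cQ
  have e3 := Groth.Agent.Lib.Helper6.Euler.euler_additive k X T hT c₁ c₂ c₃
  change Curv2.euler k X T.X₂ = Curv2.euler k X (kernel (T.g ≫ cokernel.π i)) +
    Curv2.euler k X (cokernel i) at e1
  change Curv2.euler k X T.X₃ = Curv2.euler k X G + Curv2.euler k X (cokernel i) at e2
  unfold Curv2.deg
  push_cast
  linarith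

include k in
/-- a map from a bundle `K` to a bundle which vanishes on a full-rank sub-bundle vanishes -/
theorem eq_zero_of_comp_eq_zero_of_rank (hpid : PIDStalks X) {F K Q : X.Modules} (u : F ⟶ K) [Mono u]
    (h : K ⟶ Q) (r' q : ℕ) (hF : FlatMod.IsFinLocFreeOfRank r' F) (hK : FlatMod.IsFinLocFreeOfRank r' K)
    (hQ : FlatMod.IsFinLocFreeOfRank q Q) (huh : u ≫ h = 0) : h = 0 := by
  obtain ⟨a, b, hab, -, hKa, hI, -⟩ := ker_im k X hpid h r' q hK hQ
  have h0 : u ≫ Abelian.factorThruImage h = 0 := by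
    rw [← cancel_mono (Abelian.image.ι h), Category.assoc, Abelian.image.fac, huh, zero_comp]
  have hw : kernel.lift (Abelian.factorThruImage h) u h0 ≫ kernel.ι (Abelian.factorThruImage h) = u :=
    kernel.lift_ι _ _ _
  haveI : Mono (kernel.lift (Abelian.factorThruImage h) u h0 ≫ kernel.ι (Abelian.factorThruImage h)) := by
    rw [hw]; infer_instance
  haveI : Mono (kernel.lift (Abelian.factorThruImage h) u h0) := mono_of_mono _ (kernel.ι _)
  have hle := Groth.Agent.Lib.Helper4.CurveRR.rank_le_of_mono X (kernel.lift (Abelian.factorThruImage h) u h0)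
    r' a hF hKa
  have hb : b = 0 := by omega
  subst hb
  exact eq_zero_of_image_rank_zero h hI


/-- **S15328**: quotient of a semistable Higgs bundle by an invariant sub-bundle of the same slope -/
theorem higgs_quotient (hpid : PIDStalks X) (hdim : topologicalKrullDim X = 1)
    (L : X.Modules) (hL : PicF.IsInvertible L)
    (r : ℕ) (hr : 0 < r) (E : X.Modules) (hE : FlatMod.IsFinLocFreeOfRank r E)
    (φ : E ⟶ CohB1.tensorMod E L)
    (hss : ∀ (G : X.Modules) (s : ℕ) (j : G ⟶ E) (ψ : G ⟶ CohB1.tensorMod G L), Mono j → 0 < s →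
      FlatMod.IsFinLocFreeOfRank s G →
      ψ ≫ (CohB1.sheafifyMod X).map (MonoidalCategoryStruct.whiskerRight (C := CohB1.PMod X) j.val (CohB1.toPMod L)) = j ≫ φ →
      Curv2.deg k X G s * (r : ℤ) ≤ Curv2.deg k X E r * (s : ℤ))
    (F : X.Modules) (r' : ℕ) (hr' : 0 < r') (hF : FlatMod.IsFinLocFreeOfRank r' F)
    (i : F ⟶ E) [Mono i] (ψF : F ⟶ CohB1.tensorMod F L)
    (hψF : ψF ≫ (CohB1.sheafifyMod X).map (MonoidalCategoryStruct.whiskerRight (C := CohB1.PMod X) i.val (CohB1.toPMod L)) = i ≫ φ)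
    (hslope : Curv2.deg k X F r' * (r : ℤ) = Curv2.deg k X E r * (r' : ℤ)) :
    FlatMod.IsFinLocFreeOfRank (r - r') (cokernel i) ∧
    ∀ (φ' : cokernel i ⟶ CohB1.tensorMod (cokernel i) L),
      cokernel.π i ≫ φ' = φ ≫ (CohB1.sheafifyMod X).map (MonoidalCategoryStruct.whiskerRight (C := CohB1.PMod X) (cokernel.π i).val (CohB1.toPMod L)) →
      ∀ (G : X.Modules) (s : ℕ) (j : G ⟶ cokernel i) (ψ : G ⟶ CohB1.tensorMod G L), Mono j → 0 < s →
        FlatMod.IsFinLocFreeOfRank s G →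
        ψ ≫ (CohB1.sheafifyMod X).map (MonoidalCategoryStruct.whiskerRight (C := CohB1.PMod X) j.val (CohB1.toPMod L)) = j ≫ φ' →
        Curv2.deg k X G s * ((r - r' : ℕ) : ℤ) ≤ Curv2.deg k X (cokernel i) (r - r') * (s : ℤ) := by
  haveI := preservesFiniteLimits_tw L hL
  haveI := preservesFiniteColimits_tw L hL
  have hr0 : (0 : ℤ) < (r : ℤ) := by exact_mod_cast hr
  obtain ⟨Q, g, u, hg, hu, hle, hK, hQ, hdeg, hdle, hiso⟩ := exists_saturation k X hpid hdim i r' r hF hE
  haveI : Mono (u ≫ kernel.ι g) := by rw [hu]; infer_instance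
  haveI : Mono u := mono_of_mono u (kernel.ι g)
  -- the saturation is invariant
  have hTQ : FlatMod.IsFinLocFreeOfRank (r - r') ((DCoh.tensorRightMod L).obj Q) :=
    isFinLocFreeOfRank_tensor_invertible Q L (r - r') hQ hL
  have h0 : kernel.ι g ≫ (show E ⟶ (DCoh.tensorRightMod L).obj E from φ) ≫ (DCoh.tensorRightMod L).map g = 0 :=
    eq_zero_of_comp_eq_zero_of_rank k X hpid u _ r' (r - r') hF hK hTQ
      (sat_comp_eq_zero (DCoh.tensorRightMod L) i g u hu φ ψF hψF)
  obtain ⟨χ, hχ⟩ := inv_kernel (DCoh.tensorRightMod L) φ g h0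
  have h1 := hss (kernel g) r' (kernel.ι g) χ inferInstance hr' hK hχ
  have h2 : Curv2.deg k X (kernel g) r' ≤ Curv2.deg k X F r' := by
    rw [← hslope] at h1
    exact le_of_mul_le_mul_right h1 hr0
  haveI := hiso (le_antisymm hdle h2)
  have hC : FlatMod.IsFinLocFreeOfRank (r - r') (cokernel i) :=
    Groth.Agent.Lib.Helper26.ModRank.isFinLocFreeOfRank_of_iso (cokernelIsoOfSaturated i g u hu).symm hQ
  refine ⟨hC, ?_⟩
  intro φ' hφ' G s j ψ hj hs hG hψ
  obtain ⟨hP, hdP⟩ := preimage_bundle_ker k X hpid (sesOfMono i) (sesOfMono_shortExact i) r' r hF hE G s j hj hG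
  change FlatMod.IsFinLocFreeOfRank (r' + s) (kernel (cokernel.π i ≫ cokernel.π j)) at hP
  change Curv2.deg k X (kernel (cokernel.π i ≫ cokernel.π j)) (r' + s) = Curv2.deg k X F r' + Curv2.deg k X G s at hdP
  have hq0 := preimage_comp_eq_zero (DCoh.tensorRightMod L) (cokernel.π i) j φ φ' hφ' ψ hψ
  obtain ⟨χP, hχP⟩ := inv_kernel (DCoh.tensorRightMod L) φ (cokernel.π i ≫ cokernel.π j) hq0
  have h3 := hss _ (r' + s) (kernel.ι (cokernel.π i ≫ cokernel.π j)) χP inferInstance (by omega) hP hχP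
  have hdC := deg_additive k X (sesOfMono i) (sesOfMono_shortExact i) r' r (r - r') hF hE hC
  change Curv2.deg k X E r = Curv2.deg k X F r' + Curv2.deg k X (cokernel i) (r - r') at hdC
  rw [hdP] at h3
  have hrr : ((r - r' : ℕ) : ℤ) = (r : ℤ) - (r' : ℤ) := Nat.cast_sub hle
  rw [hrr]
  have e1 : Curv2.deg k X (cokernel i) (r - r') = Curv2.deg k X E r - Curv2.deg k X F r' := by linarith
  rw [e1]
  have h3' : (Curv2.deg k X F r' + Curv2.deg k X G s) * (r : ℤ) ≤ Curv2.deg k X E r * ((r' : ℤ) + (s : ℤ)) := by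
    exact_mod_cast h3
  exact higgs_numeric (r : ℤ) (r' : ℤ) (s : ℤ) _ _ _ hr0 (by exact_mod_cast hle) h3' hslope


omit [IsIntegral X] in
/-- the degree of the dual of an invertible module -/
theorem deg_dual (hdim : topologicalKrullDim X ≤ 1) (L : X.Modules) (hL : PicF.IsInvertible L) :
    Curv2.deg k X (RefHull.dual L) 1 = - Curv2.deg k X L 1 := by
  obtain ⟨e⟩ := Groth.Agent.Lib.Helper23.InvDual.nonempty_tensorMod_dual_iso L hL
  have hL' := Groth.Agent.Lib.Helper23.InvDual.isInvertible_dual L hL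
  have hL'1 := Groth.Agent.Lib.Helper23.SecTw.isFinLocFreeOfRank_one_of_isInvertible _ hL'
  have hL1 := Groth.Agent.Lib.Helper23.SecTw.isFinLocFreeOfRank_one_of_isInvertible _ hL
  have h2 := Groth.Agent.Lib.Helper4.CurveDegT.deg_tensor k X hdim 1 1 L (RefHull.dual L) hL1 hL'1
  rw [Groth.Agent.Lib.Helper4.CurveSSAb.deg_congr_iso k X e (1 * 1)] at h2
  have h3 : Curv2.deg k X (Coh.structureModule X) (1 * 1) = 0 := by
    unfold Curv2.deg
    push_cast
    ring
  rw [h3] at h2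
  push_cast at h2
  linarith

omit [IsIntegral X] in
/-- twisting back: a sub-bundle of `C ⊗ L` gives a sub-bundle of `C` of the same rank and degree shifted by `deg L` -/
theorem exists_untwist_sub (hdim : topologicalKrullDim X ≤ 1) (L : X.Modules) (hL : PicF.IsInvertible L)
    (C G : X.Modules) (n : ℕ) (j : G ⟶ CohB1.tensorMod C L) (hj : Mono j)
    (hG : FlatMod.IsFinLocFreeOfRank n G) :
    ∃ (G' : X.Modules) (j' : G' ⟶ C), Mono j' ∧ FlatMod.IsFinLocFreeOfRank n G' ∧
      Curv2.deg k X G' n = Curv2.deg k X G n - n * Curv2.deg k X L 1 := by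
  obtain ⟨e⟩ := Groth.Agent.Lib.Helper23.InvDual.nonempty_tensorMod_dual_iso L hL
  have hL' := Groth.Agent.Lib.Helper23.InvDual.isInvertible_dual L hL
  have hL'1 := Groth.Agent.Lib.Helper23.SecTw.isFinLocFreeOfRank_one_of_isInvertible _ hL'
  haveI := preservesFiniteLimits_tw (RefHull.dual L) hL'
  haveI := hj
  let ε : (DCoh.tensorRightMod (RefHull.dual L)).obj (CohB1.tensorMod C L) ≅ C :=
    tensorAssoc C L (RefHull.dual L) ≪≫ tensorModIso (Iso.refl C) e ≪≫ tensorUnitIso C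
  refine ⟨(DCoh.tensorRightMod (RefHull.dual L)).obj G,
    (DCoh.tensorRightMod (RefHull.dual L)).map j ≫ ε.hom,
    mono_comp _ _, isFinLocFreeOfRank_tensor_invertible G _ n hG hL', ?_⟩
  change Curv2.deg k X (CohB1.tensorMod G (RefHull.dual L)) n = _
  have h1 := Groth.Agent.Lib.Helper4.CurveDegT.deg_tensor k X hdim n 1 G (RefHull.dual L) hG hL'1
  rw [deg_dual k X hdim L hL, mul_one] at h1
  rw [h1]
  push_cast
  ring

/-- **S16004**: a semistable `L`-twisted pair with `deg L = 0` has a semistable underlying bundle -/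
theorem ss_of_higgs_ss_deg_zero (hpid : PIDStalks X) (hdim : topologicalKrullDim X = 1)
    (L : X.Modules) (hL : PicF.IsInvertible L) (hL0 : Curv2.deg k X L 1 = 0)
    (r : ℕ) (hr : 0 < r) (E : X.Modules) (hE : FlatMod.IsFinLocFreeOfRank r E)
    (φ : E ⟶ CohB1.tensorMod E L)
    (hss : (∀ (G : X.Modules) (n : ℕ) (j : G ⟶ E) (χ : G ⟶ CohB1.tensorMod G L), Mono j → 0 < n →
      FlatMod.IsFinLocFreeOfRank n G →
      χ ≫ (CohB1.sheafifyMod X).map (MonoidalCategoryStruct.whiskerRight (C := CohB1.PMod X) j.val (CohB1.toPMod L)) = j ≫ φ →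
      Curv2.deg k X G n * (r : ℤ) ≤ Curv2.deg k X E r * (n : ℤ))) :
    ∀ (G : X.Modules) (n : ℕ) (j : G ⟶ E), Mono j → 0 < n → FlatMod.IsFinLocFreeOfRank n G →
      Curv2.deg k X G n * (r : ℤ) ≤ Curv2.deg k X E r * (n : ℤ) := by
  haveI := preservesFiniteLimits_tw L hL
  haveI := preservesFiniteColimits_tw L hL
  obtain ⟨E₁, r₁, i₁, hi₁, h0₁, hE₁, hA, hB⟩ := exists_destab k X hpid hdim r hr E hE
  have hr₁0 : (0 : ℤ) < (r₁ : ℤ) := by exact_mod_cast h0₁
  have hC := cokernel_locFree_of_max_slope k X hpid hdim r E hE E₁ r₁ i₁ hi₁ h0₁ hE₁ hA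
  have hTC : FlatMod.IsFinLocFreeOfRank (r - r₁) ((DCoh.tensorRightMod L).obj (cokernel i₁)) :=
    isFinLocFreeOfRank_tensor_invertible _ L (r - r₁) hC hL
  -- `E₁` is semistable
  have hE₁ss : ModFun.IsSlopeSemistable k X E₁ r₁ := by
    intro G n j hj hn hG
    haveI := hj
    haveI := hi₁
    exact hA G n (j ≫ i₁) (mono_comp _ _) hn hG
  -- the obstruction vanishes
  have h0 : i₁ ≫ (show E ⟶ (DCoh.tensorRightMod L).obj E from φ) ≫ (DCoh.tensorRightMod L).map (cokernel.π i₁) = 0 := by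
    apply hom_eq_zero_of_max_slope_lt k X hpid r₁ (r - r₁) E₁ _ hE₁ hTC hE₁ss
    intro G n j hj hn hG
    obtain ⟨G', j', hj', hG', hd'⟩ := exists_untwist_sub k X hdim.le L hL (cokernel i₁) G n j hj hG
    have := hB G' n j' hj' hn hG'
    rw [hd', hL0, mul_zero, sub_zero] at this
    exact this
  -- so `E₁` is invariant
  haveI := hi₁
  obtain ⟨χ, hχ₁⟩ := inv_of_mono (DCoh.tensorRightMod L) i₁ φ h0
  have h1 := hss E₁ r₁ i₁ χ hi₁ h0₁ hE₁ hχ₁
  intro G n j hj hn hG
  have h2 := hA G n j hj hn hG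
  have hn0 : (0 : ℤ) ≤ (n : ℤ) := Int.natCast_nonneg n
  have hr0 : (0 : ℤ) ≤ (r : ℤ) := Int.natCast_nonneg r
  have h3 := mul_le_mul_of_nonneg_right h2 hr0
  have h4 := mul_le_mul_of_nonneg_right h1 hn0
  have h5 : (Curv2.deg k X G n * (r : ℤ)) * (r₁ : ℤ) ≤ (Curv2.deg k X E r * (n : ℤ)) * (r₁ : ℤ) := by
    nlinarith
  exact le_of_mul_le_mul_right h5 hr₁0

end Groth.Agent.Lib.Helper4.CurveHiggs
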