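import Groth.Agent.Lib.Helper6ExtSimple
import Groth.Agent.Lib.Helper4KTensor

/-!
# Uniqueness of the decomposition of a rank two bundle into line bundles (helper6): S11829
-/

set_option autoImplicit false
set_option linter.style.haveILetI false
universe u
open CategoryTheory Limits AlgebraicGeometry Opposite TopologicalSpace

namespace Groth.Agent.Lib.Helper6.LineSplit

open Groth.Agent.Lib.Helper4.CurveBun Groth.Agent.Lib.Helper17.IAdic Groth.Agent.Lib.Helper4.Dev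
  Groth.Agent.Lib.Helper6.ExtSimple

/-- the identity of an invertible module on a nonempty scheme is nonzero -/
theorem id_ne_zero {X : Scheme.{u}} [Nonempty X] (L : X.Modules) (hL : PicF.IsInvertible L) :
    𝟙 L ≠ 0 := by
  intro h
  obtain ⟨x⟩ := (inferInstance : Nonempty X)
  obtain ⟨hfree, hfin, hrk⟩ := Groth.Agent.Lib.Helper4.KTensor.stalk_of_isFinLocFreeOfRank L 1
    (Groth.Agent.Lib.Helper23.SecTw.isFinLocFreeOfRank_one_of_isInvertible L hL) x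
  have h1 : (LinearMap.id : L.presheaf.stalk x →ₗ[X.presheaf.stalk x] L.presheaf.stalk x) = 0 := by
    rw [← stalkL_id, h, stalkL_zero]
  haveI : Subsingleton (L.presheaf.stalk x) :=
    ⟨fun a b => by
      have ha := LinearMap.congr_fun h1 a
      have hb := LinearMap.congr_fun h1 b
      simp only [LinearMap.id_apply, LinearMap.zero_apply] at ha hb
      rw [ha, hb]⟩
  rw [Module.finrank_zero_of_subsingleton] at hrk
  exact zero_ne_one hrk

/-- if the `(1,1)` entries of an isomorphism `L₁ ⊞ L₂ ≅ N₁ ⊞ N₂` of sums of line bundles and of its inverse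
compose to a nonzero endomorphism, the summands match -/
theorem key (k : Type u) [Field k] [IsAlgClosed k] (X : Scheme.{u}) [X.Over (Spec (CommRingCat.of k))]
    [IsIntegral X] [IsProper (X ↘ (Spec (CommRingCat.of k)))] (hpid : PIDStalks X) (hdim : topologicalKrullDim X = 1)
    (L₁ L₂ N₁ N₂ : X.Modules) (h₁ : PicF.IsInvertible L₁) (h₃ : PicF.IsInvertible N₁)
    (e : L₁ ⊞ L₂ ≅ N₁ ⊞ N₂)
    (hne : (biprod.inl ≫ e.hom ≫ biprod.fst) ≫ (biprod.inl ≫ e.inv ≫ biprod.fst) ≠ (0 : L₁ ⟶ L₁)) :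
    Nonempty (L₁ ≅ N₁) ∧ Nonempty (L₂ ≅ N₂) := by
  obtain ⟨c, hc⟩ := exists_scalar_of_isInvertible k X hpid hdim L₁ h₁
    ((biprod.inl ≫ e.hom ≫ biprod.fst) ≫ (biprod.inl ≫ e.inv ≫ biprod.fst))
  obtain ⟨d, hd⟩ := exists_scalar_of_isInvertible k X hpid hdim N₁ h₃
    ((biprod.inl ≫ e.inv ≫ biprod.fst) ≫ (biprod.inl ≫ e.hom ≫ biprod.fst))
  have hc0 : c ≠ 0 := by
    rintro rfl
    rw [smulMod_zero] at hc
    exact hne hc
  have ha0 : (biprod.inl ≫ e.hom ≫ biprod.fst : L₁ ⟶ N₁) ≠ 0 := by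
    intro h0
    apply hne
    rw [h0, zero_comp]
  have hcd : c = d := by
    by_contra hcd
    apply ha0
    have h1 : Formal.smulMod k L₁ c ≫ (biprod.inl ≫ e.hom ≫ biprod.fst : L₁ ⟶ N₁) =
        Formal.smulMod k L₁ d ≫ (biprod.inl ≫ e.hom ≫ biprod.fst) := by
      rw [← hc, ← comp_smulMod, ← hd, Category.assoc]
    have h2 : Formal.smulMod k L₁ (c - d) ≫ (biprod.inl ≫ e.hom ≫ biprod.fst : L₁ ⟶ N₁) = 0 := by
      rw [sub_eq_add_neg, smulMod_add, Preadditive.add_comp, h1, ← Preadditive.add_comp,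
        ← smulMod_add, add_neg_cancel, smulMod_zero, zero_comp]
    have h3 : Formal.smulMod k L₁ (c - d)⁻¹ ≫ Formal.smulMod k L₁ (c - d) = 𝟙 L₁ := by
      rw [← smulMod_mul', inv_mul_cancel₀ (sub_ne_zero.2 hcd), smulMod_one]
    calc (biprod.inl ≫ e.hom ≫ biprod.fst : L₁ ⟶ N₁)
        = (Formal.smulMod k L₁ (c - d)⁻¹ ≫ Formal.smulMod k L₁ (c - d)) ≫
            (biprod.inl ≫ e.hom ≫ biprod.fst) := by rw [h3, Category.id_comp]
      _ = 0 := by rw [Category.assoc, h2, comp_zero]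
  haveI : IsIso (biprod.inl ≫ e.hom ≫ biprod.fst : L₁ ⟶ N₁) := by
    refine ⟨⟨(biprod.inl ≫ e.inv ≫ biprod.fst) ≫ Formal.smulMod k L₁ c⁻¹, ?_, ?_⟩⟩
    · rw [← Category.assoc, hc, ← smulMod_mul', mul_inv_cancel₀ hc0, smulMod_one]
    · rw [Category.assoc, ← comp_smulMod, ← Category.assoc, hd, ← hcd, ← smulMod_mul',
        mul_inv_cancel₀ hc0, smulMod_one]
  exact ⟨⟨asIso (biprod.inl ≫ e.hom ≫ biprod.fst)⟩, ⟨Biprod.isoElim e⟩⟩

/-- S11829 -/
theorem main (k : Type u) [Field k] [IsAlgClosed k] (X : Scheme.{u}) [X.Over (Spec (CommRingCat.of k))]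
    [IsIntegral X] [IsProper (X ↘ (Spec (CommRingCat.of k)))] (hpid : PIDStalks X) (hdim : topologicalKrullDim X = 1)
    (L₁ L₂ M₁ M₂ : X.Modules) (h₁ : PicF.IsInvertible L₁) (_h₂ : PicF.IsInvertible L₂)
    (h₃ : PicF.IsInvertible M₁) (h₄ : PicF.IsInvertible M₂) (e : L₁ ⊞ L₂ ≅ M₁ ⊞ M₂) :
    (Nonempty (L₁ ≅ M₁) ∧ Nonempty (L₂ ≅ M₂)) ∨ (Nonempty (L₁ ≅ M₂) ∧ Nonempty (L₂ ≅ M₁)) := by
  have hsum : (biprod.inl ≫ e.hom ≫ biprod.fst) ≫ (biprod.inl ≫ e.inv ≫ biprod.fst) +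
      (biprod.inl ≫ e.hom ≫ biprod.snd) ≫ (biprod.inr ≫ e.inv ≫ biprod.fst) = 𝟙 L₁ := by
    have h2 : e.hom ≫ e.inv =
        e.hom ≫ (biprod.fst ≫ biprod.inl + biprod.snd ≫ biprod.inr) ≫ e.inv := by
      rw [biprod.total, Category.id_comp]
    have h1 : (biprod.inl : L₁ ⟶ L₁ ⊞ L₂) ≫ (e.hom ≫ e.inv) ≫ biprod.fst = 𝟙 L₁ := by
      simp
    rw [h2] at h1
    simp only [Preadditive.comp_add, Preadditive.add_comp, Category.assoc] at h1
    simpa only [Category.assoc] using h1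
  by_cases h : (biprod.inl ≫ e.hom ≫ biprod.fst) ≫ (biprod.inl ≫ e.inv ≫ biprod.fst) = (0 : L₁ ⟶ L₁)
  · right
    rw [h, zero_add] at hsum
    have hne : (biprod.inl ≫ (e ≪≫ biprod.braiding M₁ M₂).hom ≫ biprod.fst) ≫
        (biprod.inl ≫ (e ≪≫ biprod.braiding M₁ M₂).inv ≫ biprod.fst) ≠ (0 : L₁ ⟶ L₁) := by
      have e1 : (biprod.inl ≫ (e ≪≫ biprod.braiding M₁ M₂).hom ≫ biprod.fst : L₁ ⟶ M₂) =
          biprod.inl ≫ e.hom ≫ biprod.snd := by simp
      have e3 : (biprod.inl : M₂ ⟶ M₂ ⊞ M₁) ≫ biprod.lift biprod.snd biprod.fst =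
          (biprod.inr : M₂ ⟶ M₁ ⊞ M₂) := by
        apply biprod.hom_ext <;> simp
      have e2 : (biprod.inl ≫ (e ≪≫ biprod.braiding M₁ M₂).inv ≫ biprod.fst : M₂ ⟶ L₁) =
          biprod.inr ≫ e.inv ≫ biprod.fst := by
        simp only [Iso.trans_inv, biprod.braiding_inv, Category.assoc]
        rw [← Category.assoc, e3]
      rw [e1, e2, hsum]
      exact id_ne_zero L₁ h₁
    exact key k X hpid hdim L₁ L₂ M₂ M₁ h₁ h₄ (e ≪≫ biprod.braiding M₁ M₂) hne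
  · left
    exact key k X hpid hdim L₁ L₂ M₁ M₂ h₁ h₃ e h

end Groth.Agent.Lib.Helper6.LineSplit
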