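import Groth.Agent.Lib.Helper6DegZero
import Groth.Agent.Lib.Helper6LineSplit
import Groth.Agent.Lib.Helper23InvDual
import Groth.Agent.Lib.Helper4CurveDegT
import Groth.Agent.Lib.Helper4CurveSSAb
import Groth.Prelude.Def_DDual2

/-!
# Decomposable normalized rank two bundles on a curve (helper6): S11353
-/

set_option autoImplicit false
set_option linter.style.haveILetI false
universe u
open CategoryTheory Limits AlgebraicGeometry Opposite TopologicalSpace

namespace Groth.Agent.Lib.Helper6.NormDecomp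

/-- a nonzero morphism `O ⟶ F` gives a nontrivial `H⁰` -/
theorem nontrivial_of_hom_ne_zero {X : Scheme.{u}} (F : X.Modules)
    (s : Coh.structureModule X ⟶ F) (hs : s ≠ 0) : ¬ Subsingleton (Sheaf.H (Coh.toAb F) 0) := by
  intro hsub
  apply hs
  let e : (Coh.structureModule X ⟶ F) ≃+ Γ(F, ⊤) :=
    Groth.Agent.Lib.Helper21.UnitHom.unitHomAddEquiv (R := X.ringCatSheaf)
      (Limits.isTerminalTop (α := X.Opens)) F
  apply e.injective
  apply (Sheaf.H.equiv₀ (Coh.toAb F) Limits.isTerminalTop).symm.injective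
  exact Subsingleton.elim _ _

variable (k : Type u) [Field k] (X : Scheme.{u}) [X.Over (Spec (CommRingCat.of k))]
  [IsIntegral X] [IsProper (X ↘ (Spec (CommRingCat.of k)))]

/-- an invertible direct summand of a normalized module has degree `≤ 0` -/
theorem deg_summand_le_zero (hdim : topologicalKrullDim X = 1) (E : X.Modules)
    (hneg : ∀ M : X.Modules, PicF.IsInvertible M → Curv2.deg k X M 1 < 0 →
      Subsingleton (Coh.HH X (CohB1.tensorMod E M) 0))
    (N : X.Modules) (hN : PicF.IsInvertible N) (ι : N ⟶ E) (π : E ⟶ N) (hιπ : ι ≫ π = 𝟙 N) :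
    Curv2.deg k X N 1 ≤ 0 := by
  by_contra hpos
  rw [not_le] at hpos
  have hM : PicF.IsInvertible (RefHull.dual N) :=
    Groth.Agent.Lib.Helper23.InvDual.isInvertible_dual N hN
  obtain ⟨Φ⟩ := Groth.Agent.Lib.Helper23.InvDual.nonempty_tensorMod_dual_iso N hN
  have hdeg : Curv2.deg k X (RefHull.dual N) 1 = - Curv2.deg k X N 1 := by
    have h1 := Groth.Agent.Lib.Helper4.CurveDegT.deg_tensor k X hdim.le 1 1 N (RefHull.dual N)
      (Groth.Agent.Lib.Helper23.SecTw.isFinLocFreeOfRank_one_of_isInvertible N hN)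
      (Groth.Agent.Lib.Helper23.SecTw.isFinLocFreeOfRank_one_of_isInvertible _ hM)
    rw [Groth.Agent.Lib.Helper4.CurveSSAb.deg_congr_iso k X Φ,
      Groth.Agent.Lib.Helper6.CurveDeg.deg_structureModule] at h1
    push_cast at h1
    linarith
  have hsub := hneg (RefHull.dual N) hM (by rw [hdeg]; linarith)
  -- a nonzero section of `E ⊗ N^∨`
  let Φ' : (DCoh.tensorRightMod (RefHull.dual N)).obj N ≅ Coh.structureModule X := Φ
  let σ : Coh.structureModule X ⟶ (DCoh.tensorRightMod (RefHull.dual N)).obj E :=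
    Φ'.inv ≫ (DCoh.tensorRightMod (RefHull.dual N)).map ι
  have hσ : σ ≠ 0 := by
    intro h0
    have hF : (DCoh.tensorRightMod (RefHull.dual N)).map ι ≫
        (DCoh.tensorRightMod (RefHull.dual N)).map π = 𝟙 _ := by
      rw [← CategoryTheory.Functor.map_comp, hιπ, CategoryTheory.Functor.map_id]
    have h1 : σ ≫ (DCoh.tensorRightMod (RefHull.dual N)).map π ≫ Φ'.hom = 𝟙 _ := by
      change (Φ'.inv ≫ (DCoh.tensorRightMod (RefHull.dual N)).map ι) ≫
        (DCoh.tensorRightMod (RefHull.dual N)).map π ≫ Φ'.hom = 𝟙 _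
      rw [Category.assoc, ← Category.assoc ((DCoh.tensorRightMod (RefHull.dual N)).map ι),
        hF, Category.id_comp]
      exact Φ'.inv_hom_id
    rw [h0, zero_comp] at h1
    exact Groth.Agent.Lib.Helper6.LineSplit.id_ne_zero (Coh.structureModule X)
      (Groth.Agent.Lib.Helper23.TensorUnit.isInvertible_structureModule X) h1.symm
  exact nontrivial_of_hom_ne_zero (CohB1.tensorMod E (RefHull.dual N)) σ hσ hsub

/-- the key case: the section has a nonzero component in the first summand -/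
theorem key (hdim : topologicalKrullDim X = 1) (E L L' : X.Modules) (hL : PicF.IsInvertible L)
    (hL' : PicF.IsInvertible L') (e : E ≅ L ⊞ L') (s : Coh.structureModule X ⟶ E)
    (hs : s ≫ e.hom ≫ biprod.fst ≠ 0)
    (hneg : ∀ M : X.Modules, PicF.IsInvertible M → Curv2.deg k X M 1 < 0 →
      Subsingleton (Coh.HH X (CohB1.tensorMod E M) 0)) :
    ∃ L'' : X.Modules, PicF.IsInvertible L'' ∧ Curv2.deg k X L'' 1 ≤ 0 ∧
      Nonempty (E ≅ Coh.structureModule X ⊞ L'') := by
  have h1 : Curv2.deg k X L 1 ≤ 0 :=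
    deg_summand_le_zero k X hdim E hneg L hL (biprod.inl ≫ e.inv) (e.hom ≫ biprod.fst) (by simp)
  have h2 : Curv2.deg k X L' 1 ≤ 0 :=
    deg_summand_le_zero k X hdim E hneg L' hL' (biprod.inr ≫ e.inv) (e.hom ≫ biprod.snd) (by simp)
  haveI := Groth.Agent.Lib.Helper6.CurveDeg.iso_of_deg_le_zero k X hdim L hL _ hs h1
  refine ⟨L', hL', h2, ⟨e ≪≫ biprod.mapIso (asIso (s ≫ e.hom ≫ biprod.fst)).symm (Iso.refl L')⟩⟩

/-- S11353 -/
theorem main (hdim : topologicalKrullDim X = 1) (E L₁ L₂ : X.Modules) (hL₁ : PicF.IsInvertible L₁)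
    (hL₂ : PicF.IsInvertible L₂) (hE : Nonempty (E ≅ L₁ ⊞ L₂)) (hn0 : Nontrivial (Coh.HH X E 0))
    (hneg : ∀ M : X.Modules, PicF.IsInvertible M → Curv2.deg k X M 1 < 0 →
      Subsingleton (Coh.HH X (CohB1.tensorMod E M) 0)) :
    ∃ L : X.Modules, PicF.IsInvertible L ∧ Curv2.deg k X L 1 ≤ 0 ∧
      Nonempty (E ≅ Coh.structureModule X ⊞ L) := by
  obtain ⟨e⟩ := hE
  obtain ⟨s, hs⟩ := Groth.Agent.Lib.Helper6.DegZero.exists_hom_ne_zero E
    (not_subsingleton_iff_nontrivial.2 hn0)
  by_cases h : s ≫ e.hom ≫ biprod.fst = 0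
  · have h' : s ≫ (e ≪≫ biprod.braiding L₁ L₂).hom ≫ biprod.fst ≠ 0 := by
      intro h2
      apply hs
      have h3 : s ≫ e.hom ≫ biprod.snd = 0 := by simpa using h2
      have h4 : (s ≫ e.hom) = 0 := by
        apply biprod.hom_ext
        · rw [Category.assoc, h, zero_comp]
        · rw [Category.assoc, h3, zero_comp]
      calc s = (s ≫ e.hom) ≫ e.inv := by simp
        _ = 0 := by rw [h4, zero_comp]
    exact key k X hdim E L₂ L₁ hL₂ hL₁ (e ≪≫ biprod.braiding L₁ L₂) s h' hneg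
  · exact key k X hdim E L₁ L₂ hL₁ hL₂ e s h hneg

end Groth.Agent.Lib.Helper6.NormDecomp
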