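import Mathlib
import Groth.Agent.Lib.Helper4CurveHiggs
import Groth.Agent.Lib.Helper6NormDecomp
set_option backward.isDefEq.respectTransparency.types false

/-!
# Regular curves, normalized bundles (helper4)

* `isPrincipalIdealRing_of_regular`, `pidStalks_of_regular` : on an integral scheme of dimension `≤ 1` with regular local
  rings all local rings are PIDs (so the `Helper4Curve*` libraries apply to Hartshorne-style curves)
* `isInvertible_of_rank_one`
* `deg_sub_le_zero` : sub line bundles of a bundle with `H⁰(E ⊗ M) = 0` for `deg M < 0` have degree `≤ 0`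
* `cokernel_invertible_of_normalized` (S12430)
-/

set_option autoImplicit false
set_option linter.style.haveILetI false
universe u

open TopologicalSpace Topology AlgebraicGeometry CategoryTheory CategoryTheory.Limits Opposite

namespace Groth.Agent.Lib.Helper4.CurveNorm

open Groth.Agent.Lib.Helper4.CurveBun Groth.Agent.Lib.Helper4.Dev Groth.Agent.Lib.Helper4.DegAdd
  Groth.Agent.Lib.Helper4.CurveStab Groth.Agent.Lib.Helper4.CurveSat Groth.Agent.Lib.Helper4.CurveHN
  Groth.Agent.Lib.Helper4.CurveHiggs

theorem isPrincipalIdealRing_of_regular (R : Type*) [CommRing R] [IsDomain R] [hR : IsRegularLocalRing R]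
    (h : ringKrullDim R ≤ 1) : IsPrincipalIdealRing R := by
  have h1 := (IsRegularLocalRing.iff_finrank_cotangentSpace R).1 hR
  have h2 : Module.finrank (IsLocalRing.ResidueField R) (IsLocalRing.CotangentSpace R) ≤ 1 := by
    have h3 : ((Module.finrank (IsLocalRing.ResidueField R) (IsLocalRing.CotangentSpace R) : ℕ) : WithBot ℕ∞) ≤ 1 := by
      rw [h1]; exact h
    exact_mod_cast h3
  exact ((tfae_of_isNoetherianRing_of_isLocalRing_of_isDomain R).out 0 5).2 h2

theorem pidStalks_of_regular (X : Scheme.{u}) [IsIntegral X] (hdim : topologicalKrullDim X ≤ 1)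
    (hreg : ∀ x : X, IsRegularLocalRing (X.presheaf.stalk x)) : PIDStalks X := by
  intro x
  haveI := hreg x
  exact isPrincipalIdealRing_of_regular _ ((Helper16LocSym.ringKrullDim_stalk_le X x).trans hdim)

theorem isInvertible_of_rank_one {X : Scheme.{u}} (L : X.Modules)
    (hL : FlatMod.IsFinLocFreeOfRank 1 L) : PicF.IsInvertible L := by
  intro x
  obtain ⟨U, hxU, ⟨ε⟩⟩ := hL x
  exact ⟨U, hxU, ⟨ε ≪≫ Limits.coproductUniqueIso (fun _ : Fin 1 => Coh.structureModule (↑U : Scheme.{u}))⟩⟩

variable (k : Type u) [Field k] (X : Scheme.{u}) [X.Over (Spec (CommRingCat.of k))]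
  [IsIntegral X] [IsProper (X ↘ (Spec (CommRingCat.of k)))]

/-- invertible subsheaves of a bundle with `H⁰(E ⊗ M) = 0` for all `M` of negative degree have degree `≤ 0` -/
theorem deg_sub_le_zero (hdim : topologicalKrullDim X ≤ 1) (E : X.Modules)
    (hneg : ∀ M : X.Modules, PicF.IsInvertible M → Curv2.deg k X M 1 < 0 →
      Subsingleton (Coh.HH X (CohB1.tensorMod E M) 0))
    (N : X.Modules) (hN : PicF.IsInvertible N) (ι : N ⟶ E) [Mono ι] :
    Curv2.deg k X N 1 ≤ 0 := by
  by_contra hpos
  rw [not_le] at hpos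
  have hM : PicF.IsInvertible (RefHull.dual N) :=
    Groth.Agent.Lib.Helper23.InvDual.isInvertible_dual N hN
  obtain ⟨Φ⟩ := Groth.Agent.Lib.Helper23.InvDual.nonempty_tensorMod_dual_iso N hN
  have hdeg := deg_dual k X hdim N hN
  have hsub := hneg (RefHull.dual N) hM (by rw [hdeg]; linarith)
  haveI := preservesFiniteLimits_tw (RefHull.dual N) hM
  let Φ' : (DCoh.tensorRightMod (RefHull.dual N)).obj N ≅ Coh.structureModule X := Φ
  let σ : Coh.structureModule X ⟶ (DCoh.tensorRightMod (RefHull.dual N)).obj E :=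
    Φ'.inv ≫ (DCoh.tensorRightMod (RefHull.dual N)).map ι
  haveI : Mono σ := mono_comp _ _
  have hσ : σ ≠ 0 := by
    intro h0
    have h1 : 𝟙 (Coh.structureModule X) = 0 := by
      rw [← cancel_mono σ, Category.id_comp, zero_comp, h0]
    exact Groth.Agent.Lib.Helper6.LineSplit.id_ne_zero (Coh.structureModule X)
      (Groth.Agent.Lib.Helper23.TensorUnit.isInvertible_structureModule X) h1
  exact Groth.Agent.Lib.Helper6.NormDecomp.nontrivial_of_hom_ne_zero (CohB1.tensorMod E (RefHull.dual N)) σ hσ hsub

/-- **S12430** -/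
theorem cokernel_invertible_of_normalized (hpid : PIDStalks X) (hdim : topologicalKrullDim X = 1)
    (E : X.Modules) (hE : FlatMod.IsFinLocFreeOfRank 2 E)
    (hneg : ∀ M : X.Modules, PicF.IsInvertible M → Curv2.deg k X M 1 < 0 →
      Subsingleton (Coh.HH X (CohB1.tensorMod E M) 0))
    (s : Coh.structureModule X ⟶ E) (hs : s ≠ 0) :
    PicF.IsInvertible (cokernel s) := by
  have hO : FlatMod.IsFinLocFreeOfRank 1 (Coh.structureModule X) :=
    Groth.Agent.Lib.Helper23.SecTw.isFinLocFreeOfRank_one_of_isInvertible _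
      (Groth.Agent.Lib.Helper23.TensorUnit.isInvertible_structureModule X)
  obtain ⟨a, b, hab, hbs, hK, hI, -⟩ := ker_im k X hpid s 1 2 hO hE
  have hb : 0 < b := by
    rcases Nat.eq_zero_or_pos b with hb | hb
    · subst hb
      exact absurd (eq_zero_of_image_rank_zero s hI) hs
    · exact hb
  have ha : a = 0 := by omega
  subst ha
  haveI : Mono s := mono_of_kernel_rank_zero s hK
  obtain ⟨F, g, u, hg, hu, hle, hKg, hF, hdeg, hdle, hiso⟩ := exists_saturation k X hpid hdim s 1 2 hO hE
  have h1 := deg_sub_le_zero k X hdim.le E hneg (kernel g) (isInvertible_of_rank_one _ hKg) (kernel.ι g)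
  have h0 : Curv2.deg k X (Coh.structureModule X) 1 = 0 := by
    unfold Curv2.deg
    push_cast
    ring
  haveI := hiso (le_antisymm hdle (by rw [h0]; exact h1))
  exact isInvertible_of_rank_one _
    (Groth.Agent.Lib.Helper26.ModRank.isFinLocFreeOfRank_of_iso (cokernelIsoOfSaturated s g u hu).symm hF)

end Groth.Agent.Lib.Helper4.CurveNorm
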