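import Mathlib
import Groth.Agent.Lib.Helper4CartDeg
import Groth.Agent.Lib.Helper4CurveHiggs
import Groth.Agent.Lib.Helper6H0Const
import Groth.Agent.Lib.Helper10RedInd
import Groth.Agent.Lib.Helper4CurveH0
import Groth.Agent.Lib.Helper4CurveNorm
import Groth.Agent.S1526

/-!
# Twisting by a closed point on a curve (helper4)

* `ptIdeal p hp` : the reduced ideal of a closed point; `finrank_Γ_pt`, `finrank_hh0_push` : `h⁰(O_p) = 1` over an
  algebraically closed field
* `isInvertible_idealMod`, `deg_idealMod` : the ideal of a point divisor on a curve with PID stalks is invertible of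
  degree `- h⁰(O_D)`
* `h0_le_twist` : `h⁰(G) ≤ h⁰(G ⊗ I_D) + rk G · h⁰(O_D)`
* `ss_twist` : twisting by an invertible module preserves semistability
* `h0_le_of_ss`, `h0_le_floor` (S18831)
-/

set_option autoImplicit false
set_option linter.style.haveILetI false
universe u

open TopologicalSpace Topology AlgebraicGeometry CategoryTheory CategoryTheory.Limits Opposite

namespace Groth.Agent.Lib.Helper4.CurvePt

open Groth.Agent.Lib.Helper4.CurveBun Groth.Agent.Lib.Helper4.Dev Groth.Agent.Lib.Helper4.DegAdd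

section Point

variable {X : Scheme.{u}}

/-- the reduced point ideal -/
noncomputable abbrev ptIdeal (p : X) (hp : IsClosed ({p} : Set X)) : X.IdealSheafData :=
  Scheme.IdealSheafData.vanishingIdeal (⟨{p}, hp⟩ : Closeds X)

theorem range_ptIdeal (p : X) (hp : IsClosed ({p} : Set X)) :
    Set.range (ptIdeal p hp).subschemeι = {p} := by
  rw [Scheme.IdealSheafData.range_subschemeι]
  simp

theorem subsingleton_pt (p : X) (hp : IsClosed ({p} : Set X)) :
    Subsingleton (ptIdeal p hp).subscheme := by
  constructor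
  intro a b
  have ha : (ptIdeal p hp).subschemeι a ∈ ({p} : Set X) := by
    rw [← range_ptIdeal p hp]; exact Set.mem_range_self a
  have hb : (ptIdeal p hp).subschemeι b ∈ ({p} : Set X) := by
    rw [← range_ptIdeal p hp]; exact Set.mem_range_self b
  have hinj : Function.Injective (ptIdeal p hp).subschemeι :=
    (ptIdeal p hp).subschemeι.isClosedEmbedding.injective
  exact hinj (ha.trans hb.symm)

theorem nonempty_pt (p : X) (hp : IsClosed ({p} : Set X)) :
    Nonempty (ptIdeal p hp).subscheme := by
  have : p ∈ Set.range (ptIdeal p hp).subschemeι := by rw [range_ptIdeal]; rfl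
  obtain ⟨z, -⟩ := this
  exact ⟨z⟩

theorem exists_closed_point (X : Scheme.{u}) [CompactSpace X] [Nonempty X] :
    ∃ p : X, IsClosed ({p} : Set X) := by
  obtain ⟨p, -, hp⟩ := IsClosed.exists_closed_singleton (isClosed_univ (X := X)) Set.univ_nonempty
  exact ⟨p, hp⟩

end Point


section Gamma

open Groth.Agent.Lib.Helper6.H0Const

variable (k : Type u) [Field k] [IsAlgClosed k] {X : Scheme.{u}} (f : X ⟶ Spec (CommRingCat.of k))
  [IsProper f]

theorem finrank_Γ_pt (p : X) (hp : IsClosed ({p} : Set X)) :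
    letI : Algebra k Γ((ptIdeal p hp).subscheme, ⊤) :=
      (gsMap k ((ptIdeal p hp).subschemeι ≫ f)).hom.toAlgebra
    Module.finrank k Γ((ptIdeal p hp).subscheme, ⊤) = 1 := by
  letI alg : Algebra k Γ((ptIdeal p hp).subscheme, ⊤) :=
    (gsMap k ((ptIdeal p hp).subschemeι ≫ f)).hom.toAlgebra
  haveI : IsReduced (ptIdeal p hp).subscheme :=
    Groth.Agent.Lib.Helper10.RedInd.isReduced_subscheme_vanishingIdeal _
  haveI := subsingleton_pt p hp
  haveI := nonempty_pt p hp
  haveI : PreconnectedSpace (ptIdeal p hp).subscheme := inferInstance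
  haveI : Algebra.IsIntegral k Γ((ptIdeal p hp).subscheme, ⊤) :=
    ⟨gsMap_isIntegral k ((ptIdeal p hp).subschemeι ≫ f)⟩
  haveI : Nontrivial Γ((ptIdeal p hp).subscheme, ⊤) := by
    obtain ⟨y⟩ := (inferInstance : Nonempty (ptIdeal p hp).subscheme)
    exact @Scheme.component_nontrivial (ptIdeal p hp).subscheme ⊤ ⟨⟨y, trivial⟩⟩
  have hbij := bijective_algebraMap_of_isAlgClosed k Γ((ptIdeal p hp).subscheme, ⊤)
    (eq_zero_or_one_of_isIdempotentElem (Y := (ptIdeal p hp).subscheme))
  rw [← (LinearEquiv.ofBijective (Algebra.linearMap k Γ((ptIdeal p hp).subscheme, ⊤)) hbij).finrank_eq]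
  exact Module.finrank_self k

end Gamma

section Push

open Groth.Agent.Lib.Helper27PnSections Groth.Agent.Lib.Helper6.H0Const

variable {X Z : Scheme.{u}} (ι : Z ⟶ X)

noncomputable def pushEquiv : Coh.HH X ((Scheme.Modules.pushforward ι).obj (Coh.structureModule Z)) 0 ≃+ Γ(Z, ⊤) :=
  hh0Equiv X ((Scheme.Modules.pushforward ι).obj (Coh.structureModule Z))

theorem pushEquiv_smul (r : Coh.Γtop X) (x : Coh.HH X ((Scheme.Modules.pushforward ι).obj (Coh.structureModule Z)) 0) :
    pushEquiv ι (r • x) = (ι.appTop.hom (show Γ(X, ⊤) from r)) * pushEquiv ι x := by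
  have h := hh0Equiv_smul X ((Scheme.Modules.pushforward ι).obj (Coh.structureModule Z)) r x
  rw [Coh.smulAb_app, resTop_top] at h
  exact h

theorem finrank_hh0_push (k : Type u) [Field k] [X.Over (Spec (CommRingCat.of k))] :
    letI : Algebra k Γ(Z, ⊤) := (gsMap k (ι ≫ (X ↘ Spec (CommRingCat.of k)))).hom.toAlgebra
    Module.finrank k (Coh.HH X ((Scheme.Modules.pushforward ι).obj (Coh.structureModule Z)) 0) =
      Module.finrank k Γ(Z, ⊤) := by
  letI : Algebra k Γ(Z, ⊤) := (gsMap k (ι ≫ (X ↘ Spec (CommRingCat.of k)))).hom.toAlgebra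
  let φ : Coh.HH X ((Scheme.Modules.pushforward ι).obj (Coh.structureModule Z)) 0 ≃ₗ[k] Γ(Z, ⊤) :=
    { pushEquiv ι with
      map_smul' := fun c x => by
        change pushEquiv ι (c • x) = c • pushEquiv ι x
        have h1 : c • x = (Coh.toGlobal (X ↘ Spec (CommRingCat.of k)) c) • x := rfl
        rw [h1, pushEquiv_smul, Algebra.smul_def]
        congr 1 }
  exact φ.finrank_eq

end Push

section Div

variable (k : Type u) [Field k] (X : Scheme.{u}) [X.Over (Spec (CommRingCat.of k))]
  [IsProper (X ↘ (Spec (CommRingCat.of k)))]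

include k in
theorem isCoh_quotMod (D : X.IdealSheafData) : Coh.IsCoh (ClSub.quotMod D) := by
  haveI : IsLocallyNoetherian X := isLocallyNoetherian_of_proper k X
  exact isCoh_push_closed D.subschemeι _ (isCoh_structureModule D.subscheme)

include k in
theorem isCoh_idealMod (D : X.IdealSheafData) : Coh.IsCoh (ClSub.idealMod D) := by
  haveI : IsLocallyNoetherian X := isLocallyNoetherian_of_proper k X
  exact isCoh_kernel (ClSub.toSubscheme D) (isCoh_structureModule X) (isCoh_quotMod k X D)

/-- the quotient of a divisor whose support is a finite set of closed points has zero-dimensional support -/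
theorem dim_support_quotMod_le (D : X.IdealSheafData) (p : X)
    (hD : Set.range D.subschemeι ⊆ {p}) :
    topologicalKrullDim (CohB1.support (ClSub.quotMod D)) ≤ 0 := by
  have hsub : CohB1.support (ClSub.quotMod D) ⊆ ({p} : Set X) :=
    (support_push_subset D.subschemeι _).trans hD
  refine (Groth.Agent.Lib.Helper4.KFilt.dim_le_of_subset hsub).trans ?_
  exact topologicalKrullDim_zero_of_discreteTopology _

end Div


theorem mem_support_of_rank_pos {X : Scheme.{u}} (E : X.Modules) (r : ℕ) (hr : 0 < r)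
    (hE : FlatMod.IsFinLocFreeOfRank r E) (x : X) : x ∈ CohB1.support E := by
  intro hsub
  obtain ⟨hfree, hfin, hrk⟩ := Groth.Agent.Lib.Helper4.KTensor.stalk_of_isFinLocFreeOfRank E r hE x
  haveI := hsub
  rw [Module.finrank_zero_of_subsingleton] at hrk
  omega

section Curve

variable (k : Type u) [Field k] (X : Scheme.{u}) [X.Over (Spec (CommRingCat.of k))]
  [IsProper (X ↘ (Spec (CommRingCat.of k)))] [IsIntegral X]

include k in
open Groth.Agent.Lib.Helper4.CurveNorm in
/-- the ideal of a divisor supported in one point of a curve with PID stalks is invertible -/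
theorem isInvertible_idealMod (hpid : PIDStalks X) (hdim : topologicalKrullDim X = 1)
    (D : X.IdealSheafData) (p : X) (hD : Set.range D.subschemeι ⊆ {p}) :
    PicF.IsInvertible (ClSub.idealMod D) := by
  haveI : IsLocallyNoetherian X := isLocallyNoetherian_of_proper k X
  have hO : FlatMod.IsFinLocFreeOfRank 1 (Coh.structureModule X) :=
    Groth.Agent.Lib.Helper23.SecTw.isFinLocFreeOfRank_one_of_isInvertible _
      (Groth.Agent.Lib.Helper23.TensorUnit.isInvertible_structureModule X)
  haveI : Mono (ClSub.idealModι D) := by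
    unfold ClSub.idealModι
    exact equalizer.ι_mono
  obtain ⟨r', hr', hI⟩ := isFinLocFreeOfRank_of_mono hpid (ClSub.idealModι D) (isCoh_idealMod k X D) 1 hO
  have h1 : r' = 1 := by
    rcases Nat.eq_zero_or_pos r' with h0 | h0
    · exfalso
      subst h0
      have hz := isZero_of_rank_zero _ hI
      haveI : Mono (ClSub.toSubscheme D) :=
        Preadditive.mono_of_kernel_zero (hz.eq_of_src _ _)
      have hs : CohB1.support (Coh.structureModule X) ⊆ ({p} : Set X) :=
        (support_subset_of_mono (ClSub.toSubscheme D)).trans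
          ((support_push_subset D.subschemeι _).trans hD)
      have hall : ∀ x : X, x = p := fun x => hs (mem_support_of_rank_pos _ 1 Nat.one_pos hO x)
      haveI : Subsingleton X := ⟨fun a b => (hall a).trans (hall b).symm⟩
      have h0 : topologicalKrullDim X ≤ 0 := topologicalKrullDim_zero_of_discreteTopology _
      rw [hdim] at h0
      exact absurd h0 (by decide)
    · omega
  subst h1
  exact isInvertible_of_rank_one _ hI

omit [IsIntegral X] in
include k in
/-- vanishing of higher cohomology of a module with zero-dimensional support -/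
theorem subsingleton_HH_of_dim_le_zero (F : X.Modules) (hF : Coh.IsCoh F)
    (hsupp : topologicalKrullDim (CohB1.support F) ≤ 0) (i : ℕ) (hi : 0 < i) :
    Subsingleton (Coh.HH X F i) :=
  Groth.Agent.S1526.result k X F hF hsupp i hi

omit [IsIntegral X] in
theorem h0_eq_euler_of_dim_le_zero (F : X.Modules) (hF : Coh.IsCoh F)
    (hsupp : topologicalKrullDim (CohB1.support F) ≤ 0) :
    Curv2.euler k X F = (Module.finrank k (Coh.HH X F 0) : ℤ) :=
  Groth.Agent.Lib.Helper4.ZeroDimChi.euler_eq_finrank_zero k F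
    (fun i hi => subsingleton_HH_of_dim_le_zero k X F hF hsupp i hi)

omit [IsIntegral X] in
/-- `deg I_D = - h⁰(O_D)` for a divisor supported in one point -/
theorem deg_idealMod (D : X.IdealSheafData) (p : X) (hD : Set.range D.subschemeι ⊆ {p}) :
    Curv2.deg k X (ClSub.idealMod D) 1 = - (Module.finrank k (Coh.HH X (ClSub.quotMod D) 0) : ℤ) := by
  have hadd := Groth.Agent.Lib.Helper6.Euler.euler_additive k X
    (Groth.Agent.Lib.Helper21.ExtCartier.idealSES D)
    (Groth.Agent.Lib.Helper21.ExtCartier.idealSES_shortExact D)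
    (isCoh_idealMod k X D) (isCoh_structureModule X) (isCoh_quotMod k X D)
  have h2 := h0_eq_euler_of_dim_le_zero k X (ClSub.quotMod D) (isCoh_quotMod k X D)
    (dim_support_quotMod_le X D p hD)
  change Curv2.euler k X (Coh.structureModule X) =
    Curv2.euler k X (ClSub.idealMod D) + Curv2.euler k X (ClSub.quotMod D) at hadd
  unfold Curv2.deg
  rw [h2] at hadd
  push_cast
  linarith

open Groth.Agent.Lib.Helper4.CurveChi Groth.Agent.Lib.Helper4.CurveH0 in
omit [IsIntegral X] in
/-- twisting down by a point drops `h⁰` by at most the rank -/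
theorem h0_le_twist (D : X.IdealSheafData) (p : X) (hD : Set.range D.subschemeι ⊆ {p})
    (r : ℕ) (G : X.Modules) (hG : FlatMod.IsFinLocFreeOfRank r G) :
    Module.finrank k (Coh.HH X G 0) ≤
      Module.finrank k (Coh.HH X (CohB1.tensorMod G (ClSub.idealMod D)) 0) +
        r * Module.finrank k (Coh.HH X (ClSub.quotMod D) 0) := by
  have hS := Groth.Agent.Lib.Helper21.ExtCartier.idealSES_shortExact D
  have hST := shortExact_map_tensorRightMod _ hS G (isFlat_of_isFinLocFreeOfRank G r hG)
  have cI := isCoh_idealMod k X D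
  have cO := isCoh_structureModule X
  have cQ := isCoh_quotMod k X D
  have c1 := isCoh_tensorMod_locFree (ClSub.idealMod D) G cI r hG
  have c2 := isCoh_tensorMod_locFree (Coh.structureModule X) G cO r hG
  have c3 := isCoh_tensorMod_locFree (ClSub.quotMod D) G cQ r hG
  have hadd := h0_le_add k X _ hST c1 c2 c3
  change Module.finrank k (Coh.HH X (CohB1.tensorMod (Coh.structureModule X) G) 0) ≤
    Module.finrank k (Coh.HH X (CohB1.tensorMod (ClSub.idealMod D) G) 0) +
      Module.finrank k (Coh.HH X (CohB1.tensorMod (ClSub.quotMod D) G) 0) at hadd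
  have e1 : Module.finrank k (Coh.HH X (CohB1.tensorMod (Coh.structureModule X) G) 0) =
      Module.finrank k (Coh.HH X G 0) :=
    (HHequiv k (Groth.Agent.Lib.Helper23.TensorUnit.unitTensorIso G) 0).finrank_eq
  have e2 : Module.finrank k (Coh.HH X (CohB1.tensorMod (ClSub.idealMod D) G) 0) =
      Module.finrank k (Coh.HH X (CohB1.tensorMod G (ClSub.idealMod D)) 0) :=
    (HHequiv k (Groth.Agent.Lib.Helper23.AmpleFam2.tensorBraid (ClSub.idealMod D) G) 0).finrank_eq
  have hdQ := dim_support_quotMod_le X D p hD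
  have hdQG : topologicalKrullDim (CohB1.support (CohB1.tensorMod (ClSub.quotMod D) G)) ≤ 0 :=
    (Groth.Agent.Lib.Helper4.KFilt.dim_le_of_subset
      (Groth.Agent.Lib.Helper4.ZeroDimChi.support_tensorMod_subset_left _ _)).trans hdQ
  have e3 := Groth.Agent.Lib.Helper4.ZeroDimChi.euler_tensor_locFree k (ClSub.quotMod D) cQ hdQ r G hG
  rw [h0_eq_euler_of_dim_le_zero k X _ c3 hdQG, h0_eq_euler_of_dim_le_zero k X _ cQ hdQ] at e3
  have e3' : Module.finrank k (Coh.HH X (CohB1.tensorMod (ClSub.quotMod D) G) 0) =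
      r * Module.finrank k (Coh.HH X (ClSub.quotMod D) 0) := by exact_mod_cast e3
  rw [e1, e2, e3'] at hadd
  exact hadd

open Groth.Agent.Lib.Helper4.CurveHiggs in
omit [IsIntegral X] in
/-- twisting by an invertible module preserves semistability -/
theorem ss_twist (hdim : topologicalKrullDim X ≤ 1) (L : X.Modules) (hL : PicF.IsInvertible L)
    (r : ℕ) (G : X.Modules) (hG : FlatMod.IsFinLocFreeOfRank r G)
    (hss : ModFun.IsSlopeSemistable k X G r) :
    ModFun.IsSlopeSemistable k X (CohB1.tensorMod G L) r := by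
  intro F n j hj hn hF
  obtain ⟨F', j', hj', hF', hdF'⟩ := exists_untwist_sub k X hdim L hL G F n j hj hF
  have h := hss F' n j' hj' hn hF'
  have hL1 := Groth.Agent.Lib.Helper23.SecTw.isFinLocFreeOfRank_one_of_isInvertible _ hL
  have h2 := Groth.Agent.Lib.Helper4.CurveDegT.deg_tensor k X hdim r 1 G L hG hL1
  rw [mul_one] at h2
  rw [h2, hdF'] at *
  push_cast at h ⊢
  nlinarith [h]

open Groth.Agent.Lib.Helper4.CurveStab Groth.Agent.Lib.Helper4.CurveHiggs in
/-- **S18831**, inductive form -/
theorem h0_le_of_ss [IsAlgClosed k] (hpid : PIDStalks X) (hdim : topologicalKrullDim X = 1) :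
    ∀ (n r : ℕ) (G : X.Modules), 0 < r → FlatMod.IsFinLocFreeOfRank r G →
      ModFun.IsSlopeSemistable k X G r → Curv2.deg k X G r < (r : ℤ) * n →
      Module.finrank k (Coh.HH X G 0) ≤ r * n := by
  haveI : IsLocallyNoetherian X := isLocallyNoetherian_of_proper k X
  have hO : FlatMod.IsFinLocFreeOfRank 1 (Coh.structureModule X) :=
    Groth.Agent.Lib.Helper23.SecTw.isFinLocFreeOfRank_one_of_isInvertible _
      (Groth.Agent.Lib.Helper23.TensorUnit.isInvertible_structureModule X)
  have hdO : Curv2.deg k X (Coh.structureModule X) 1 = 0 := by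
    unfold Curv2.deg
    push_cast
    ring
  haveI : CompactSpace X := by
    have : QuasiCompact (X ↘ (Spec (CommRingCat.of k))) := inferInstance
    exact (quasiCompact_iff_compactSpace (X ↘ (Spec (CommRingCat.of k)))).1 this
  intro n
  induction n with
  | zero =>
    intro r G hr hG hss hdeg
    rw [Nat.cast_zero, mul_zero] at hdeg
    rw [mul_zero, Nat.le_zero]
    by_contra hne
    obtain ⟨s, hs⟩ := Groth.Agent.Lib.Helper4.CurveRR.exists_hom_ne_zero k X G (Nat.pos_of_ne_zero hne)
    obtain ⟨a, b, hab, hbs, hK, hI, -⟩ := ker_im k X hpid s 1 r hO hG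
    have hb : 0 < b := by
      rcases Nat.eq_zero_or_pos b with hb | hb
      · subst hb
        exact absurd (eq_zero_of_image_rank_zero s hI) hs
      · exact hb
    have ha : a = 0 := by omega
    subst ha
    haveI : Mono s := mono_of_kernel_rank_zero s hK
    have h := hss _ 1 s inferInstance Nat.one_pos hO
    rw [hdO, zero_mul] at h
    push_cast at h
    linarith
  | succ n ih =>
    intro r G hr hG hss hdeg
    obtain ⟨p, hp⟩ := exists_closed_point X
    have hD : Set.range (ptIdeal p hp).subschemeι ⊆ {p} := (range_ptIdeal p hp).le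
    have hM := isInvertible_idealMod k X hpid hdim (ptIdeal p hp) p hD
    have h1 : Module.finrank k (Coh.HH X (ClSub.quotMod (ptIdeal p hp)) 0) = 1 := by
      rw [finrank_hh0_push (ptIdeal p hp).subschemeι k]
      exact finrank_Γ_pt k (X ↘ Spec (CommRingCat.of k)) p hp
    have hdM : Curv2.deg k X (ClSub.idealMod (ptIdeal p hp)) 1 = -1 := by
      rw [deg_idealMod k X (ptIdeal p hp) p hD, h1]
      rfl
    have hM1 := Groth.Agent.Lib.Helper23.SecTw.isFinLocFreeOfRank_one_of_isInvertible _ hM
    have hG' := isFinLocFreeOfRank_tensor_invertible G _ r hG hM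
    have hss' := ss_twist k X hdim.le _ hM r G hG hss
    have hd' := Groth.Agent.Lib.Helper4.CurveDegT.deg_tensor k X hdim.le r 1 G _ hG hM1
    rw [mul_one, hdM] at hd'
    have hlt : Curv2.deg k X (CohB1.tensorMod G (ClSub.idealMod (ptIdeal p hp))) r < (r : ℤ) * n := by
      rw [hd']
      push_cast at hdeg ⊢
      linarith
    have h2 := ih r _ hr hG' hss' hlt
    have h3 := h0_le_twist k X (ptIdeal p hp) p hD r G hG
    rw [h1, mul_one] at h3
    calc Module.finrank k (Coh.HH X G 0) ≤ _ := h3
      _ ≤ r * n + r := Nat.add_le_add_right h2 r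
      _ = r * (n + 1) := by ring

/-- **S18831** -/
theorem h0_le_floor [IsAlgClosed k] (hpid : PIDStalks X) (hdim : topologicalKrullDim X = 1)
    (r : ℕ) (hr : 0 < r) (G : X.Modules) (hG : FlatMod.IsFinLocFreeOfRank r G)
    (hss : ModFun.IsSlopeSemistable k X G r) :
    (Module.finrank k (Coh.HH X G 0) : ℤ) ≤
      (r : ℤ) * max (⌊(Curv2.deg k X G r : ℚ) / (r : ℚ)⌋ + 1) 0 := by
  set m : ℤ := max (⌊(Curv2.deg k X G r : ℚ) / (r : ℚ)⌋ + 1) 0 with hm
  have hm0 : 0 ≤ m := le_max_right _ _
  have hrQ : (0 : ℚ) < (r : ℚ) := by exact_mod_cast hr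
  have hlt : Curv2.deg k X G r < (r : ℤ) * (m.toNat : ℤ) := by
    rw [Int.toNat_of_nonneg hm0]
    have h1 : (Curv2.deg k X G r : ℚ) / (r : ℚ) < (⌊(Curv2.deg k X G r : ℚ) / (r : ℚ)⌋ : ℚ) + 1 :=
      Int.lt_floor_add_one _
    have h2z : ⌊(Curv2.deg k X G r : ℚ) / (r : ℚ)⌋ + 1 ≤ m := le_max_left _ _
    have h2 : ((⌊(Curv2.deg k X G r : ℚ) / (r : ℚ)⌋ : ℤ) : ℚ) + 1 ≤ (m : ℚ) := by
      exact_mod_cast h2z
    have h3 : (Curv2.deg k X G r : ℚ) < (r : ℚ) * (m : ℚ) := by
      rw [div_lt_iff₀ hrQ] at h1
      nlinarith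
    exact_mod_cast h3
  have h := h0_le_of_ss k X hpid hdim m.toNat r G hr hG hss hlt
  have h' : (Module.finrank k (Coh.HH X G 0) : ℤ) ≤ (r : ℤ) * (m.toNat : ℤ) := by exact_mod_cast h
  rwa [Int.toNat_of_nonneg hm0] at h'

end Curve

end Groth.Agent.Lib.Helper4.CurvePt
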