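import Mathlib
import Groth.Prelude.Def_ModSite2
import Groth.Prelude.Def_CohCx
import Groth.Agent.Lib.Helper21FreeAb2

/-!
# Helper21: totally acyclic abelian sheaves are flasque (sections extend from subobjects)
-/

open CategoryTheory Opposite Limits

universe u

namespace Groth.Agent.Lib.Helper21.Flasque

variable {C : Type u} [SmallCategory C] {J : GrothendieckTopology C}

section Retract

variable {K₀ K₁ : Sheaf J (Type u)} (j : K₀ ⟶ K₁)

/-- `ℤ[K₁ ⊔_{K₀} K₁]` is the pushout of `ℤ[K₁] ⟵ ℤ[K₀] ⟶ ℤ[K₁]`. -/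
theorem isPushout_freeAb :
    IsPushout ((ToposFin.freeAb J).map j) ((ToposFin.freeAb J).map j)
      ((ToposFin.freeAb J).map (pushout.inl j j)) ((ToposFin.freeAb J).map (pushout.inr j j)) := by
  haveI : (ToposFin.freeAb J).IsLeftAdjoint :=
    (Sheaf.adjunction J AddCommGrpCat.adj.{u}).isLeftAdjoint
  exact (IsPushout.of_hasPushout j j).map (ToposFin.freeAb J)

/-- the quotient `ℤ[K₁]/ℤ[K₀]`. -/
noncomputable abbrev Q : Sheaf J AddCommGrpCat.{u} := cokernel ((ToposFin.freeAb J).map j)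

/-- the inclusion of `ℤ[K₁]/ℤ[K₀]` into `ℤ[K₁ ⊔_{K₀} K₁]`. -/
noncomputable def i : Q j ⟶ (ToposFin.freeAb J).obj (pushout j j) :=
  cokernel.desc _ ((ToposFin.freeAb J).map (pushout.inl j j) -
    (ToposFin.freeAb J).map (pushout.inr j j)) (by
      rw [Preadditive.comp_sub, ← Functor.map_comp, ← Functor.map_comp, pushout.condition, sub_self])

/-- the retraction of `ℤ[K₁ ⊔_{K₀} K₁]` onto `ℤ[K₁]/ℤ[K₀]`. -/
noncomputable def r : (ToposFin.freeAb J).obj (pushout j j) ⟶ Q j :=
  (isPushout_freeAb j).desc (cokernel.π _) 0 (by rw [cokernel.condition, comp_zero])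

theorem i_r : i j ≫ r j = 𝟙 _ := by
  apply coequalizer.hom_ext
  rw [i, cokernel.π_desc_assoc, Preadditive.sub_comp, r, IsPushout.inl_desc, IsPushout.inr_desc,
    sub_zero, Category.comp_id]

theorem ext_Q_eq_zero (F : Sheaf J AddCommGrpCat.{u}) (hF : CohCx.IsTotallyAcyclic F) (p : ℕ)
    (x : Abelian.Ext.{u} (Q j) F (p + 1)) : x = 0 := by
  have h1 : (Abelian.Ext.mk₀ (i j)).comp ((Abelian.Ext.mk₀ (r j)).comp x (zero_add _)) (zero_add _) =
      x := by
    rw [← Abelian.Ext.comp_assoc_of_second_deg_zero, Abelian.Ext.mk₀_comp_mk₀, i_r,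
      Abelian.Ext.mk₀_id_comp]
  have h2 : (Abelian.Ext.mk₀ (r j)).comp x (zero_add _) = 0 :=
    (hF (pushout j j) p).elim _ _
  rw [← h1, h2, Abelian.Ext.comp_zero]

instance mono_freeAb_map [Mono j] : Mono ((ToposFin.freeAb J).map j) := by
  haveI : Mono j.hom := (Sheaf.Hom.mono_iff_presheaf_mono J (Type u) j).1 inferInstance
  haveI : ∀ X, Mono ((Functor.whiskerRight j.hom AddCommGrpCat.free.{u}).app X) := by
    intro X
    haveI : Mono (j.hom.app X) := inferInstance
    exact inferInstanceAs (Mono (AddCommGrpCat.free.map (j.hom.app X)))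
  haveI : Mono (Functor.whiskerRight j.hom AddCommGrpCat.free.{u}) := NatTrans.mono_of_mono_app _
  exact inferInstanceAs (Mono ((presheafToSheaf J AddCommGrpCat.{u}).map
    (Functor.whiskerRight j.hom AddCommGrpCat.free.{u})))

/-- maps `ℤ[K₀] ⟶ F` extend to `ℤ[K₁]` when `K₀ ↪ K₁` and `F` is totally acyclic. -/
theorem exists_extension [Mono j] (F : Sheaf J AddCommGrpCat.{u}) (hF : CohCx.IsTotallyAcyclic F)
    (x : (ToposFin.freeAb J).obj K₀ ⟶ F) :
    ∃ y : (ToposFin.freeAb J).obj K₁ ⟶ F, (ToposFin.freeAb J).map j ≫ y = x := by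
  let S : ShortComplex (Sheaf J AddCommGrpCat.{u}) :=
    ShortComplex.mk ((ToposFin.freeAb J).map j) (cokernel.π _) (cokernel.condition _)
  have hS : S.ShortExact :=
    { exact := ShortComplex.exact_cokernel _
      mono_f := inferInstanceAs (Mono ((ToposFin.freeAb J).map j))
      epi_g := inferInstanceAs (Epi (cokernel.π ((ToposFin.freeAb J).map j))) }
  obtain ⟨y, hy⟩ := Abelian.Ext.contravariant_sequence_exact₁ hS F (Abelian.Ext.mk₀ x) rfl
    (ext_Q_eq_zero j F hF 0 _)
  obtain ⟨y', rfl⟩ := (Abelian.Ext.mk₀_bijective _ _).2 y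
  refine ⟨y', ?_⟩
  apply (Abelian.Ext.mk₀_bijective _ _).1
  rw [← hy, Abelian.Ext.mk₀_comp_mk₀]

end Retract


section Sieve

/-- compatible families of sections of a totally acyclic sheaf on a sieve extend. -/
theorem exists_section_extending (F : Sheaf J AddCommGrpCat.{u}) (hF : CohCx.IsTotallyAcyclic F)
    {V : C} (S : Sieve V) (x : S.functor ⟶ F.obj ⋙ forget AddCommGrpCat.{u}) :
    ∃ ρ : F.obj.obj (op V), ∀ (W : C) (f : W ⟶ V) (hf : S f),
      F.obj.map f.op ρ = x.app (op W) ⟨f, hf⟩ := by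
  let ΦF : Sheaf J (Type u) := (sheafCompose J (forget AddCommGrpCat.{u})).obj F
  let adjS := sheafificationAdjunction J (Type u)
  let adj' := Sheaf.adjunction J AddCommGrpCat.adj.{u}
  let K₀ : Sheaf J (Type u) := (presheafToSheaf J (Type u)).obj S.functor
  let K₁ : Sheaf J (Type u) := (presheafToSheaf J (Type u)).obj (yoneda.obj V)
  let j : K₀ ⟶ K₁ := (presheafToSheaf J (Type u)).map S.functorInclusion
  haveI : Mono j := inferInstanceAs (Mono ((presheafToSheaf J (Type u)).map S.functorInclusion))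
  let x' : K₀ ⟶ ΦF := (adjS.homEquiv S.functor ΦF).symm x
  let x₁ : (ToposFin.freeAb J).obj K₀ ⟶ F := (adj'.homEquiv K₀ F).symm x'
  obtain ⟨y, hy⟩ := exists_extension j F hF x₁
  let y' : K₁ ⟶ ΦF := adj'.homEquiv K₁ F y
  have h1 : j ≫ y' = x' := by
    have := adj'.homEquiv_naturality_left j y
    rw [hy] at this
    exact this.symm.trans ((adj'.homEquiv K₀ F).apply_symm_apply x')
  let ρ' : yoneda.obj V ⟶ F.obj ⋙ forget AddCommGrpCat.{u} := adjS.homEquiv (yoneda.obj V) ΦF y'
  have h2 : S.functorInclusion ≫ ρ' = x := by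
    have := adjS.homEquiv_naturality_left S.functorInclusion y'
    rw [h1] at this
    exact this.symm.trans ((adjS.homEquiv S.functor ΦF).apply_symm_apply x)
  refine ⟨yonedaEquiv ρ', fun W f hf => ?_⟩
  have h3 := map_yonedaEquiv ρ' f
  have h4 := congrArg (fun t => t.app (op W) ⟨f, hf⟩) h2
  exact h3.trans h4

end Sieve


section Sections

variable (V : C)

/-- the representable sheaf of sets `h_V`. -/
noncomputable abbrev hV : Sheaf J (Type u) := (presheafToSheaf J (Type u)).obj (yoneda.obj V)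

/-- `Hom(ℤ[h_V], A) ≃ A(V)`. -/
noncomputable def freeSecEquiv (A : Sheaf J AddCommGrpCat.{u}) :
    ((ToposFin.freeAb J).obj (hV (J := J) V) ⟶ A) ≃ A.obj.obj (op V) :=
  ((Sheaf.adjunction J AddCommGrpCat.adj.{u}).homEquiv (hV V) A).trans
    (((sheafificationAdjunction J (Type u)).homEquiv (yoneda.obj V)
      ((sheafCompose J (forget AddCommGrpCat.{u})).obj A)).trans yonedaEquiv)

theorem freeSecEquiv_comp {A B : Sheaf J AddCommGrpCat.{u}}
    (y : (ToposFin.freeAb J).obj (hV (J := J) V) ⟶ A) (h : A ⟶ B) :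
    freeSecEquiv V B (y ≫ h) = h.hom.app (op V) (freeSecEquiv V A y) := by
  unfold freeSecEquiv
  simp only [Equiv.trans_apply]
  rw [Adjunction.homEquiv_naturality_right, Adjunction.homEquiv_naturality_right]
  exact yonedaEquiv_comp _ _

/-- sections lift along an epimorphism with totally acyclic kernel. -/
theorem exists_section_lift {S : ShortComplex (Sheaf J AddCommGrpCat.{u})} (hS : S.ShortExact)
    (hF : CohCx.IsTotallyAcyclic S.X₁) (σ : S.X₃.obj.obj (op V)) :
    ∃ τ : S.X₂.obj.obj (op V), S.g.hom.app (op V) τ = σ := by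
  let y'' := (freeSecEquiv V S.X₃).symm σ
  obtain ⟨y, hy⟩ := Abelian.Ext.covariant_sequence_exact₃ _ hS (Abelian.Ext.mk₀ y'') rfl
    ((hF (hV V) 0).elim _ _)
  obtain ⟨y', rfl⟩ := (Abelian.Ext.mk₀_bijective _ _).2 y
  rw [Abelian.Ext.mk₀_comp_mk₀] at hy
  have hy' : y' ≫ S.g = y'' := (Abelian.Ext.mk₀_bijective _ _).1 hy
  refine ⟨freeSecEquiv V S.X₂ y', ?_⟩
  rw [← freeSecEquiv_comp, hy']
  exact (freeSecEquiv V S.X₃).apply_symm_apply σ

end Sections


section Adjust

open Groth.Agent.Lib.Helper21.FreeAb Groth.Agent.Lib.Helper21.TorsFree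

/-- a section of the quotient vanishing on a sieve lifts to a section vanishing on the sieve, when
the kernel is totally acyclic. -/
theorem exists_section_lift_vanishing {S : ShortComplex (Sheaf J AddCommGrpCat.{u})}
    (hS : S.ShortExact) (hF : CohCx.IsTotallyAcyclic S.X₁) {V : C} (T : Sieve V)
    (σ'' : S.X₃.obj.obj (op V))
    (hσ'' : ∀ (W : C) (f : W ⟶ V), T f → S.X₃.obj.map f.op σ'' = 0) :
    ∃ σ : S.X₂.obj.obj (op V), S.g.hom.app (op V) σ = σ'' ∧
      ∀ (W : C) (f : W ⟶ V), T f → S.X₂.obj.map f.op σ = 0 := by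
  haveI := hS.mono_f
  obtain ⟨σ₀, hσ₀⟩ := exists_section_lift V hS hF σ''
  have hex : ∀ (W : C) (f : W ⟶ V), T f →
      ∃ b : S.X₁.obj.obj (op W), S.f.hom.app (op W) b = S.X₂.obj.map f.op σ₀ := by
    intro W f hf
    apply exact_sections hS
    have h1 := NatTrans.naturality_apply S.g.hom f.op σ₀
    rw [h1, hσ₀]
    exact hσ'' W f hf
  let b : ∀ (W : C) (f : W ⟶ V), T f → S.X₁.obj.obj (op W) := fun W f hf => (hex W f hf).choose
  have hb : ∀ (W : C) (f : W ⟶ V) (hf : T f),
      S.f.hom.app (op W) (b W f hf) = S.X₂.obj.map f.op σ₀ := fun W f hf => (hex W f hf).choose_spec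
  let x : T.functor ⟶ S.X₁.obj ⋙ forget AddCommGrpCat.{u} :=
    { app := fun W => TypeCat.ofHom (fun p => b W.unop p.1 p.2)
      naturality := by
        intro W W' h
        ext p
        apply injective_app_of_mono S.f W'
        change S.f.hom.app W' (b W'.unop (h.unop ≫ p.1) (T.downward_closed p.2 h.unop)) =
          S.f.hom.app W' (S.X₁.obj.map h (b W.unop p.1 p.2))
        have h1 := NatTrans.naturality_apply S.f.hom h (b W.unop p.1 p.2)
        rw [h1, hb _ _ p.2, hb _ _ (T.downward_closed p.2 h.unop), op_comp, Functor.map_comp]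
        rfl }
  obtain ⟨ρ, hρ⟩ := exists_section_extending S.X₁ hF T x
  refine ⟨σ₀ - S.f.hom.app (op V) ρ, ?_, ?_⟩
  · rw [map_sub, hσ₀, zero_sections, sub_zero]
  · intro W f hf
    have h1 : S.X₂.obj.map f.op (S.f.hom.app (op V) ρ) =
        S.f.hom.app (op W) (S.X₁.obj.map f.op ρ) :=
      (NatTrans.naturality_apply S.f.hom f.op ρ).symm
    have h2 : S.X₁.obj.map f.op ρ = b W f hf := hρ W f hf
    rw [map_sub, h1, h2, hb W f hf, sub_self]

end Adjust

end Groth.Agent.Lib.Helper21.Flasque
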