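import Mathlib
import Groth.Prelude.Def_ModSite
import Groth.Agent.Lib.Helper21ExtZero6
import Groth.Agent.Lib.Helper4ModEpi

/-!
# Helper21: restriction `j^*` to `C/U` is exact and preserves injectives; commutes with sheaf Hom
-/

open CategoryTheory MonoidalCategory Opposite Limits

universe u

namespace Groth.Agent.Lib.Helper21.RestrExact

open Groth.Agent.Lib.Helper21.ModTensor2
  Groth.Agent.Lib.Helper21.ModTensor3 Groth.Agent.Lib.Helper21.ModTensor5
  Groth.Agent.Lib.Helper21.ExtZeroS

variable {C : Type u} [SmallCategory C] {J : GrothendieckTopology C} (O : Sheaf J CommRingCat.{u})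
  (U : C)

/-- locally surjective ⇒ epi, for sheaves of modules. -/
theorem epi_of_isLocallySurjective {D : Type u} [SmallCategory D] {K : GrothendieckTopology D}
    {R : Sheaf K RingCat.{u}} {M N : SheafOfModules.{u} R} (f : M ⟶ N)
    (h : Presheaf.IsLocallySurjective K ((PresheafOfModules.toPresheaf R.obj).map f.val)) :
    Epi f := by
  haveI : Sheaf.IsLocallySurjective ((SheafOfModules.toSheaf R).map f) := h
  haveI : Epi ((SheafOfModules.toSheaf R).map f) :=
    (Sheaf.isLocallySurjective_iff_epi' AddCommGrpCat.{u} _).1 inferInstance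
  exact (SheafOfModules.toSheaf R).epi_of_epi_map inferInstance

instance restr_preservesEpimorphisms : (ModSite.restr O U).PreservesEpimorphisms where
  preserves {M N} f hf := by
    have h1 := Groth.Agent.Lib.Helper4.ModEpi.isLocallySurjective_of_epi f
    apply epi_of_isLocallySurjective
    haveI := h1
    exact Presheaf.isLocallySurjective_whisker (J.over U) J (Over.forget U)
      ((PresheafOfModules.toPresheaf _).map f.val)

instance restr_additive : (ModSite.restr O U).Additive :=
  haveI : (ModSite.restr O U).IsRightAdjoint := (jShriekAdj O U).isRightAdjoint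
  haveI := preservesBinaryBiproducts_of_preservesBinaryProducts (ModSite.restr O U)
  Functor.additive_of_preservesBinaryBiproducts _

instance restr_preservesHomology : (ModSite.restr O U).PreservesHomology :=
  Functor.preservesHomology_of_preservesEpis_and_kernels _

instance restr_preservesFiniteColimits : PreservesFiniteColimits (ModSite.restr O U) :=
  Functor.preservesFiniteColimits_of_preservesHomology _

instance restr_preservesInjectiveObjects : (ModSite.restr O U).PreservesInjectiveObjects :=
  Functor.preservesInjectiveObjects_of_adjunction_of_preservesMonomorphisms (jShriekAdj O U)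

/-- `j^* Hom(M, -) ≅ Hom(j^* M, j^* -)`. -/
noncomputable def restrSheafHomIso (M : ModSite.Mod O) [ModSite.HasSheafHom M]
    [ModSite.HasSheafHom ((ModSite.restr O U).obj M)] :
    ModSite.sheafHom M ⋙ ModSite.restr O U ≅
      ModSite.restr O U ⋙ ModSite.sheafHom ((ModSite.restr O U).obj M) :=
  let adj1 : jShriek O U ⋙ tR O M ⊣ ModSite.sheafHom M ⋙ ModSite.restr O U :=
    (jShriekAdj O U).comp (ModSite.sheafHomAdj M)
  let adj2 : tR (O.over U) ((ModSite.restr O U).obj M) ⋙ jShriek O U ⊣
      ModSite.restr O U ⋙ ModSite.sheafHom ((ModSite.restr O U).obj M) :=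
    (ModSite.sheafHomAdj ((ModSite.restr O U).obj M)).comp (jShriekAdj O U)
  (adj1.ofNatIsoLeft (projR O U M).symm).rightAdjointUniq adj2

end Groth.Agent.Lib.Helper21.RestrExact
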