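import Mathlib
import Groth.Prelude.Def_ModSite
import Groth.Prelude.Def_ModSite2
import Groth.Agent.Lib.Helper21RestrExact

/-!
# Helper21: `M ↦ M/M_U` is left adjoint to `Γ_Z`, and `Γ_Z` preserves injectives
-/

open CategoryTheory Opposite Limits

universe u

namespace Groth.Agent.Lib.Helper21.NullOn

open Groth.Agent.Lib.Helper21.ModTensor2 Groth.Agent.Lib.Helper21.ExtZeroS
  Groth.Agent.Lib.Helper21.RestrExact Groth.Agent.Lib.Helper21.ModRestr
  Groth.Agent.Lib.Helper21.ExtZero

section General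

variable {𝒜 ℬ : Type*} [Category 𝒜] [Category ℬ] [Preadditive 𝒜] [Preadditive ℬ]
  {L : ℬ ⥤ 𝒜} {R : 𝒜 ⥤ ℬ} (adj : L ⊣ R)

/-- `ε_A ≫ f = 0` iff `R f = 0`. -/
theorem counit_comp_eq_zero_iff [R.PreservesZeroMorphisms] [L.PreservesZeroMorphisms]
    {A B : 𝒜} (f : A ⟶ B) :
    adj.counit.app A ≫ f = 0 ↔ R.map f = 0 := by
  have h1 : adj.homEquiv (R.obj A) B (adj.counit.app A ≫ f) = R.map f := by
    rw [Adjunction.homEquiv_unit, Functor.map_comp, ← Category.assoc,
      Adjunction.right_triangle_components, Category.id_comp]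
  constructor
  · intro h
    rw [← h1, h, Adjunction.homEquiv_unit, Functor.map_zero, Limits.comp_zero]
  · intro h
    apply (adj.homEquiv (R.obj A) B).injective
    rw [h1, h, Adjunction.homEquiv_unit, Functor.map_zero, Limits.comp_zero]

/-- `f ≫ η_B = 0` iff `L f = 0`. -/
theorem comp_unit_eq_zero_iff [R.PreservesZeroMorphisms] [L.PreservesZeroMorphisms]
    {A B : ℬ} (f : A ⟶ B) :
    f ≫ adj.unit.app B = 0 ↔ L.map f = 0 := by
  have h1 : (adj.homEquiv A (L.obj B)).symm (f ≫ adj.unit.app B) = L.map f := by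
    rw [Adjunction.homEquiv_counit, Functor.map_comp, Category.assoc,
      Adjunction.left_triangle_components, Category.comp_id]
  constructor
  · intro h
    rw [← h1, h, Adjunction.homEquiv_counit, Functor.map_zero, Limits.zero_comp]
  · intro h
    apply (adj.homEquiv A (L.obj B)).symm.injective
    rw [h1, h, Adjunction.homEquiv_counit, Functor.map_zero, Limits.zero_comp]

end General

variable {C : Type u} [SmallCategory C] {J : GrothendieckTopology C} (O : Sheaf J CommRingCat.{u})
  (U : C)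

instance extZero_additive : (ModSite.extZero O U).Additive :=
  (ModSite.extZeroAdj O U).left_adjoint_additive

instance pushOver_additive [ModSite.HasPushOver O U] : (ModSite.pushOver O U).Additive :=
  (ModSite.restrPushOverAdj O U).right_adjoint_additive

theorem counit_comp_eq_zero_iff_restr {A B : ModSite.Mod O} (f : A ⟶ B) :
    (ModSite.extZeroAdj O U).counit.app A ≫ f = 0 ↔ (ModSite.restr O U).map f = 0 :=
  counit_comp_eq_zero_iff (ModSite.extZeroAdj O U) f

theorem comp_unit_eq_zero_iff_restr [ModSite.HasPushOver O U] {A B : ModSite.Mod O} (f : A ⟶ B) :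
    f ≫ (ModSite.restrPushOverAdj O U).unit.app B = 0 ↔ (ModSite.restr O U).map f = 0 :=
  comp_unit_eq_zero_iff (ModSite.restrPushOverAdj O U) f

theorem counit_comp_eq_zero_iff_comp_unit [ModSite.HasPushOver O U] {A B : ModSite.Mod O}
    (f : A ⟶ B) :
    (ModSite.extZeroAdj O U).counit.app A ≫ f = 0 ↔
      f ≫ (ModSite.restrPushOverAdj O U).unit.app B = 0 :=
  (counit_comp_eq_zero_iff_restr O U f).trans (comp_unit_eq_zero_iff_restr O U f).symm

section Quot

/-- the projection `M ⟶ M/M_U`. -/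
noncomputable abbrev π (A : ModSite.Mod O) : A ⟶ (ModSite.quotOn O U).obj A :=
  cokernel.π ((ModSite.extZeroAdj O U).counit.app A)

theorem π_map {A A' : ModSite.Mod O} (f : A ⟶ A') :
    π O U A ≫ (ModSite.quotOn O U).map f = f ≫ π O U A' := by
  simp [ModSite.quotOn]

instance epi_π (A : ModSite.Mod O) : Epi (π O U A) :=
  inferInstanceAs (Epi (cokernel.π _))

theorem w_π (A : ModSite.Mod O) : (ModSite.extZeroAdj O U).counit.app A ≫ π O U A = 0 :=
  cokernel.condition _

end Quot

section Adj

variable [ModSite.HasPushOver O U]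

/-- the inclusion `Γ_Z N ⟶ N`. -/
noncomputable abbrev ι (B : ModSite.Mod O) : (ModSite.sectOn O U).obj B ⟶ B :=
  kernel.ι ((ModSite.restrPushOverAdj O U).unit.app B)

theorem map_ι {B B' : ModSite.Mod O} (k : B ⟶ B') :
    (ModSite.sectOn O U).map k ≫ ι O U B' = ι O U B ≫ k := by
  simp [ModSite.sectOn]

instance mono_ι (B : ModSite.Mod O) : Mono (ι O U B) :=
  inferInstanceAs (Mono (kernel.ι _))

theorem w_ι (B : ModSite.Mod O) : ι O U B ≫ (ModSite.restrPushOverAdj O U).unit.app B = 0 :=
  kernel.condition _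

theorem w1 {A B : ModSite.Mod O} (g : (ModSite.quotOn O U).obj A ⟶ B) :
    (π O U A ≫ g) ≫ (ModSite.restrPushOverAdj O U).unit.app B = 0 :=
  (counit_comp_eq_zero_iff_comp_unit O U (π O U A ≫ g)).1
    ((Category.assoc _ _ _).symm.trans ((congrArg (· ≫ g) (w_π O U A)).trans Limits.zero_comp))

theorem w2 {A B : ModSite.Mod O} (h : A ⟶ (ModSite.sectOn O U).obj B) :
    (ModSite.extZeroAdj O U).counit.app A ≫ (h ≫ ι O U B) = 0 :=
  (counit_comp_eq_zero_iff_comp_unit O U (h ≫ ι O U B)).2
    ((Category.assoc _ _ _).trans ((congrArg (h ≫ ·) (w_ι O U B)).trans Limits.comp_zero))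

/-- `Hom(M/M_U, N) → Hom(M, Γ_Z N)`. -/
noncomputable def toFun {A B : ModSite.Mod O} (g : (ModSite.quotOn O U).obj A ⟶ B) :
    A ⟶ (ModSite.sectOn O U).obj B :=
  kernel.lift ((ModSite.restrPushOverAdj O U).unit.app B) (π O U A ≫ g) (w1 O U g)

/-- `Hom(M, Γ_Z N) → Hom(M/M_U, N)`. -/
noncomputable def invFun {A B : ModSite.Mod O} (h : A ⟶ (ModSite.sectOn O U).obj B) :
    (ModSite.quotOn O U).obj A ⟶ B :=
  cokernel.desc ((ModSite.extZeroAdj O U).counit.app A) (h ≫ ι O U B) (w2 O U h)

theorem toFun_ι {A B : ModSite.Mod O} (g : (ModSite.quotOn O U).obj A ⟶ B) :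
    toFun O U g ≫ ι O U B = π O U A ≫ g :=
  kernel.lift_ι _ _ _

theorem π_invFun {A B : ModSite.Mod O} (h : A ⟶ (ModSite.sectOn O U).obj B) :
    π O U A ≫ invFun O U h = h ≫ ι O U B :=
  cokernel.π_desc _ _ _

/-- `Hom(M/M_U, N) ≃ Hom(M, Γ_Z N)`. -/
noncomputable def homEquiv (A B : ModSite.Mod O) :
    ((ModSite.quotOn O U).obj A ⟶ B) ≃ (A ⟶ (ModSite.sectOn O U).obj B) where
  toFun g := toFun O U g
  invFun h := invFun O U h
  left_inv g := by
    apply (cancel_epi (π O U A)).1
    rw [π_invFun, toFun_ι]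
  right_inv h := by
    apply (cancel_mono (ι O U B)).1
    rw [toFun_ι, π_invFun]

/-- `M ↦ M/M_U` is left adjoint to `Γ_Z`. -/
noncomputable def quotSectAdj : ModSite.quotOn O U ⊣ ModSite.sectOn O U :=
  Adjunction.mkOfHomEquiv
    { homEquiv := homEquiv O U
      homEquiv_naturality_left_symm := by
        intro A' A B f h
        apply (cancel_epi (π O U A')).1
        change π O U A' ≫ invFun O U (f ≫ h) =
          π O U A' ≫ (ModSite.quotOn O U).map f ≫ invFun O U h
        rw [π_invFun, ← Category.assoc (π O U A'), π_map, Category.assoc f (π O U A), π_invFun,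
          Category.assoc]
      homEquiv_naturality_right := by
        intro A B B' g k
        apply (cancel_mono (ι O U B')).1
        change toFun O U (g ≫ k) ≫ ι O U B' =
          (toFun O U g ≫ (ModSite.sectOn O U).map k) ≫ ι O U B'
        rw [toFun_ι, Category.assoc (toFun O U g), map_ι, ← Category.assoc (toFun O U g) (ι O U B),
          toFun_ι, Category.assoc] }

instance quotOn_additive : (ModSite.quotOn O U).Additive :=
  (quotSectAdj O U).left_adjoint_additive

end Adj

end Groth.Agent.Lib.Helper21.NullOn
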