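import Mathlib
import Groth.Agent.Lib.Helper21NullOn

/-!
# Helper21: `M ↦ M/M_U` preserves monomorphisms, hence `Γ_Z` preserves injectives
-/

open CategoryTheory Opposite Limits

universe u

namespace Groth.Agent.Lib.Helper21.NullOn

open Groth.Agent.Lib.Helper21.ModTensor2 Groth.Agent.Lib.Helper21.ExtZeroS
  Groth.Agent.Lib.Helper21.RestrExact Groth.Agent.Lib.Helper21.ModRestr
  Groth.Agent.Lib.Helper21.ExtZero

variable {C : Type u} [SmallCategory C] {J : GrothendieckTopology C} (O : Sheaf J CommRingCat.{u})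
  (U : C)

/-- the underlying presheaf of rings. -/
abbrev RO : Cᵒᵖ ⥤ RingCat.{u} := O.obj ⋙ forget₂ CommRingCat.{u} RingCat.{u}

/-- the presheaf-level counit `E(P|_U) ⟶ P`. -/
noncomputable abbrev e (P : PM O) : (Es O U).obj ((resP O U).obj P) ⟶ P :=
  (EsAdj O U).counit.app P

theorem e_app_ιE (P : PM O) (X : Cᵒᵖ) (φ : X.unop ⟶ U) (x : P.obj X) :
    (e O U P).app X (ιE (R := RO O) (U := U) ((resP O U).obj P) X φ x) = x := by
  exact (adjFrom_app_ιE (R := RO O) (U := U) ((resP O U).obj P) P (𝟙 _) X φ x).trans rfl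

theorem e_naturality {P P' : PM O} (α : P ⟶ P') :
    (Es O U).map ((resP O U).map α) ≫ e O U P' = e O U P ≫ α :=
  (EsAdj O U).counit.naturality α

theorem subsingleton_E_of_isEmpty (G : PM (O.over U)) (X : Cᵒᵖ) (hX : IsEmpty (X.unop ⟶ U)) :
    Subsingleton ((E (R := RO O) (U := U) G).obj X) := by
  refine ⟨fun a b => ?_⟩
  have h0 : ∀ m : (E (R := RO O) (U := U) G).obj X, m = 0 := by
    intro m
    induction m using E_induction with
    | h0 => rfl
    | hι φ x => exact (hX.false φ).elim
    | hadd a b ha hb => rw [ha, hb, add_zero]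
  rw [h0 a, h0 b]

/-- the presheaf-level quotient `P/P_U`. -/
noncomputable abbrev Q0 (P : PM O) : PM O := cokernel (e O U P)

/-- the projection `P ⟶ P/P_U`. -/
noncomputable abbrev q0 (P : PM O) : P ⟶ Q0 O U P := cokernel.π (e O U P)

/-- functoriality of the presheaf-level quotient. -/
noncomputable abbrev Q0map {P P' : PM O} (α : P ⟶ P') : Q0 O U P ⟶ Q0 O U P' :=
  cokernel.map (e O U P) (e O U P') ((Es O U).map ((resP O U).map α)) α (e_naturality O U α).symm

theorem q0_Q0map {P P' : PM O} (α : P ⟶ P') : q0 O U P ≫ Q0map O U α = α ≫ q0 O U P' :=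
  cokernel.π_desc _ _ _

theorem exists_of_q0_eq_zero (P : PM O) (X : Cᵒᵖ) (y : P.obj X) (hy : (q0 O U P).app X y = 0) :
    ∃ z, (e O U P).app X z = y := by
  have hex : (ShortComplex.mk (e O U P) (q0 O U P) (cokernel.condition _)).Exact :=
    ShortComplex.exact_cokernel _
  have hex' := hex.map (PresheafOfModules.evaluation (RO O) X)
  exact (ShortComplex.moduleCat_exact_iff _).1 hex' y hy

instance mono_Q0map {P P' : PM O} (α : P ⟶ P') [Mono α] : Mono (Q0map O U α) := by
  apply PresheafOfModules.mono_of_injective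
  intro X
  rw [injective_iff_map_eq_zero]
  intro z hz
  obtain ⟨p, rfl⟩ := PresheafOfModules.surjective_of_epi (q0 O U P) X z
  have h1 : (q0 O U P').app X (α.app X p) = 0 := by
    have := congrArg (fun t => t.app X p) (q0_Q0map O U α)
    exact this.symm.trans hz
  obtain ⟨y, hy⟩ := exists_of_q0_eq_zero O U P' X _ h1
  by_cases h : Nonempty (X.unop ⟶ U)
  · obtain ⟨φ⟩ := h
    have h2 := congrArg (fun t => t.app X (ιE (R := RO O) (U := U) ((resP O U).obj P) X φ p))
      (cokernel.condition (e O U P))
    have h3 : (q0 O U P).app X ((e O U P).app X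
        (ιE (R := RO O) (U := U) ((resP O U).obj P) X φ p)) = 0 := h2
    rwa [e_app_ιE] at h3
  · have hs : Subsingleton (((Es O U).obj ((resP O U).obj P')).obj X) :=
      subsingleton_E_of_isEmpty O U ((resP O U).obj P') X (not_nonempty_iff.1 h)
    have hy0 : y = 0 := hs.elim _ _
    rw [hy0, map_zero] at hy
    have hp : p = 0 := by
      apply PresheafOfModules.injective_of_mono α X
      rw [← hy, map_zero]
    rw [hp, map_zero]

/-! ### identification of `M/M_U` with the sheafification of the presheaf quotient -/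

/-- the composite adjunction `a ∘ E ⊣ (-)|_U ∘ fgt`. -/
noncomputable abbrev adj0 : Es O U ⋙ shf O ⊣ fgt O ⋙ resP O U := (EsAdj O U).comp (adj O)

theorem adj0_counit_app (M : ModSite.Mod O) :
    (adj0 O U).counit.app M = (shf O).map (e O U ((fgt O).obj M)) ≫ (adj O).counit.app M :=
  rfl

instance shf_preservesFiniteColimits : PreservesFiniteColimits (shf O) :=
  haveI : PreservesColimitsOfSize.{0, 0} (shf O) := (adj O).leftAdjoint_preservesColimits
  PreservesColimitsOfSize.preservesFiniteColimits.{0, 0} _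

instance shf_additive : (shf O).Additive :=
  Groth.Agent.Lib.Helper21.ModTensor4.additive_of_preservesFiniteColimits _

instance fgt_additive : (fgt O).Additive :=
  (adj O).right_adjoint_additive

instance adj0_right_additive : (fgt O ⋙ resP O U).Additive :=
  haveI : (Es O U ⋙ shf O).Additive := inferInstance
  (adj0 O U).right_adjoint_additive

theorem adj0_counit_comp_eq_zero_iff {M X : ModSite.Mod O} (g : M ⟶ X) :
    (adj0 O U).counit.app M ≫ g = 0 ↔ (ModSite.restr O U).map g = 0 := by
  rw [counit_comp_eq_zero_iff (adj0 O U) g]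
  change (fgt (O.over U)).map ((ModSite.restr O U).map g) = 0 ↔ _
  haveI : (fgt (O.over U)).Faithful :=
    (SheafOfModules.fullyFaithfulForget (ModSite.ringSh (O.over U))).faithful
  exact Functor.map_eq_zero_iff _

/-- the comparison `M ⟶ a(fgt M / (fgt M)_U)`. -/
noncomputable def k (M : ModSite.Mod O) : M ⟶ (shf O).obj (Q0 O U ((fgt O).obj M)) :=
  inv ((adj O).counit.app M) ≫ (shf O).map (q0 O U ((fgt O).obj M))

instance epi_k (M : ModSite.Mod O) : Epi (k O U M) := by
  haveI : (shf O).IsLeftAdjoint := (adj O).isLeftAdjoint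
  unfold k
  infer_instance

theorem adj0_counit_k (M : ModSite.Mod O) : (adj0 O U).counit.app M ≫ k O U M = 0 := by
  rw [adj0_counit_app, k, Category.assoc, IsIso.hom_inv_id_assoc, ← Functor.map_comp,
    cokernel.condition, Functor.map_zero]

theorem counit_k (M : ModSite.Mod O) :
    (ModSite.extZeroAdj O U).counit.app M ≫ k O U M = 0 :=
  (counit_comp_eq_zero_iff_restr O U _).2
    ((adj0_counit_comp_eq_zero_iff O U _).1 (adj0_counit_k O U M))

theorem w_desc (M : ModSite.Mod O) {X : ModSite.Mod O} (g : M ⟶ X)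
    (hg : (ModSite.extZeroAdj O U).counit.app M ≫ g = 0) :
    (shf O).map (e O U ((fgt O).obj M)) ≫ ((adj O).counit.app M ≫ g) = 0 := by
  rw [← Category.assoc, ← adj0_counit_app]
  exact (adj0_counit_comp_eq_zero_iff O U _).2 ((counit_comp_eq_zero_iff_restr O U _).1 hg)

/-- the factorisation through `k`. -/
noncomputable def kDesc (M : ModSite.Mod O) {X : ModSite.Mod O} (g : M ⟶ X)
    (hg : (ModSite.extZeroAdj O U).counit.app M ≫ g = 0) :
    (shf O).obj (Q0 O U ((fgt O).obj M)) ⟶ X :=
  (isColimitOfHasCokernelOfPreservesColimit (shf O) (e O U ((fgt O).obj M))).desc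
    (CokernelCofork.ofπ ((adj O).counit.app M ≫ g) (w_desc O U M g hg))

theorem k_kDesc (M : ModSite.Mod O) {X : ModSite.Mod O} (g : M ⟶ X)
    (hg : (ModSite.extZeroAdj O U).counit.app M ≫ g = 0) :
    k O U M ≫ kDesc O U M g hg = g := by
  have h := (isColimitOfHasCokernelOfPreservesColimit (shf O) (e O U ((fgt O).obj M))).fac
    (CokernelCofork.ofπ ((adj O).counit.app M ≫ g) (w_desc O U M g hg)) WalkingParallelPair.one
  have h' : (shf O).map (q0 O U ((fgt O).obj M)) ≫ kDesc O U M g hg =
      (adj O).counit.app M ≫ g := h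
  rw [k, Category.assoc, h', IsIso.inv_hom_id_assoc]

/-- `k` is a cokernel of the counit `j_!(M|_U) ⟶ M`. -/
noncomputable def isColimitK (M : ModSite.Mod O) :
    IsColimit (CokernelCofork.ofπ (k O U M) (counit_k O U M)) :=
  CokernelCofork.IsColimit.ofπ _ _ (fun g hg => kDesc O U M g hg)
    (fun g hg => k_kDesc O U M g hg)
    (fun g hg m hm => by
      apply (cancel_epi (k O U M)).1
      rw [k_kDesc]
      exact hm)

/-- `M/M_U ≅ a(fgt M/(fgt M)_U)`. -/
noncomputable def quotIso (M : ModSite.Mod O) :
    (ModSite.quotOn O U).obj M ≅ (shf O).obj (Q0 O U ((fgt O).obj M)) :=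
  IsColimit.coconePointUniqueUpToIso (cokernelIsCokernel _) (isColimitK O U M)

theorem π_quotIso_hom (M : ModSite.Mod O) : π O U M ≫ (quotIso O U M).hom = k O U M :=
  IsColimit.comp_coconePointUniqueUpToIso_hom (cokernelIsCokernel _) (isColimitK O U M)
    WalkingParallelPair.one

theorem k_naturality {A B : ModSite.Mod O} (f : A ⟶ B) :
    f ≫ k O U B = k O U A ≫ (shf O).map (Q0map O U ((fgt O).map f)) := by
  have h1 : (shf O).map ((fgt O).map f) ≫ (adj O).counit.app B = (adj O).counit.app A ≫ f :=
    (adj O).counit.naturality f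
  have h2 : inv ((adj O).counit.app A) ≫ (shf O).map ((fgt O).map f) =
      f ≫ inv ((adj O).counit.app B) := by
    rw [IsIso.inv_comp_eq, ← Category.assoc, ← h1, Category.assoc, IsIso.hom_inv_id,
      Category.comp_id]
  rw [k, k, Category.assoc, ← Functor.map_comp, q0_Q0map, Functor.map_comp, ← Category.assoc,
    ← Category.assoc, h2]

theorem quotIso_naturality {A B : ModSite.Mod O} (f : A ⟶ B) :
    (ModSite.quotOn O U).map f ≫ (quotIso O U B).hom =
      (quotIso O U A).hom ≫ (shf O).map (Q0map O U ((fgt O).map f)) := by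
  apply (cancel_epi (π O U A)).1
  rw [← Category.assoc, π_map, Category.assoc, π_quotIso_hom, ← Category.assoc, π_quotIso_hom,
    k_naturality]

instance quotOn_preservesMonomorphisms : (ModSite.quotOn O U).PreservesMonomorphisms where
  preserves {A B} f hf := by
    haveI : (fgt O).IsRightAdjoint := (adj O).isRightAdjoint
    haveI : Mono ((fgt O).map f) := inferInstance
    haveI : Mono ((shf O).map (Q0map O U ((fgt O).map f))) := inferInstance
    haveI : Mono ((ModSite.quotOn O U).map f ≫ (quotIso O U B).hom) := by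
      rw [quotIso_naturality]
      infer_instance
    exact mono_of_mono _ (quotIso O U B).hom

instance sectOn_preservesInjectiveObjects [ModSite.HasPushOver O U] :
    (ModSite.sectOn O U).PreservesInjectiveObjects :=
  Functor.preservesInjectiveObjects_of_adjunction_of_preservesMonomorphisms (quotSectAdj O U)

end Groth.Agent.Lib.Helper21.NullOn
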