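import Mathlib
import Groth.Agent.Lib.Helper21NullOn2

/-!
# Helper21: `M ↦ M/M_U` commutes with tensor products; `Γ_Z ℋom(M, -) ≅ ℋom(M, Γ_Z -) ≅ ℋom(M/M_U, -)`
-/

open CategoryTheory Opposite Limits

universe u

namespace Groth.Agent.Lib.Helper21.NullOn

open Groth.Agent.Lib.Helper21.ModTensor2 Groth.Agent.Lib.Helper21.ModTensor3
  Groth.Agent.Lib.Helper21.ModTensor5 Groth.Agent.Lib.Helper21.ExtZeroS
  Groth.Agent.Lib.Helper21.RestrExact Groth.Agent.Lib.Helper21.ModRestr
  Groth.Agent.Lib.Helper21.ExtZero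

section General

variable {𝒜 : Type*} [Category 𝒜] [Preadditive 𝒜]

/-- a cokernel of `f` is a cokernel of any `f'` with the same annihilated morphisms. -/
noncomputable def isColimitOfIff {X X' Y Z : 𝒜} {f : X ⟶ Y} {f' : X' ⟶ Y} {c : Y ⟶ Z}
    (w : f ≫ c = 0) (hc : IsColimit (CokernelCofork.ofπ c w))
    (h : ∀ {W : 𝒜} (g : Y ⟶ W), f ≫ g = 0 ↔ f' ≫ g = 0) :
    IsColimit (CokernelCofork.ofπ c ((h c).1 w)) :=
  CokernelCofork.IsColimit.ofπ _ _
    (fun g hg => hc.desc (CokernelCofork.ofπ g ((h g).2 hg)))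
    (fun g hg => hc.fac (CokernelCofork.ofπ g ((h g).2 hg)) WalkingParallelPair.one)
    (fun g hg m hm => Cofork.IsColimit.hom_ext hc (by
      have h1 : Cofork.π (CokernelCofork.ofπ c w) ≫ m = g := hm
      have h2 : Cofork.π (CokernelCofork.ofπ c w) ≫
          hc.desc (CokernelCofork.ofπ g ((h g).2 hg)) = g :=
        hc.fac (CokernelCofork.ofπ g ((h g).2 hg)) WalkingParallelPair.one
      rw [h1, h2]))

end General

variable {C : Type u} [SmallCategory C] {J : GrothendieckTopology C} (O : Sheaf J CommRingCat.{u})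
  (U : C)

/-- the counit `j_!(Y|_U) ⟶ Y`. -/
noncomputable abbrev ε (Y : ModSite.Mod O) :
    (ModSite.extZero O U).obj ((ModSite.restr O U).obj Y) ⟶ Y :=
  (ModSite.extZeroAdj O U).counit.app Y

instance epi_ε_extZero (P : ModSite.Mod (O.over U)) : Epi (ε O U ((ModSite.extZero O U).obj P)) := by
  have h := (ModSite.extZeroAdj O U).left_triangle_components P
  haveI : IsSplitEpi (ε O U ((ModSite.extZero O U).obj P)) := ⟨⟨⟨_, h⟩⟩⟩
  infer_instance

theorem epi_ε_of_iso {Y Y' : ModSite.Mod O} (φ : Y ≅ Y') (h : Epi (ε O U Y)) : Epi (ε O U Y') := by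
  have hn : (ModSite.extZero O U).map ((ModSite.restr O U).map φ.hom) ≫ ε O U Y' =
      ε O U Y ≫ φ.hom := (ModSite.extZeroAdj O U).counit.naturality φ.hom
  have h2 : ε O U Y' = (ModSite.extZero O U).map ((ModSite.restr O U).map φ.inv) ≫
      ε O U Y ≫ φ.hom := by
    rw [← hn, ← Category.assoc, ← Functor.map_comp, ← Functor.map_comp, φ.inv_hom_id,
      CategoryTheory.Functor.map_id, CategoryTheory.Functor.map_id, Category.id_comp]
  rw [h2]
  haveI : IsIso ((ModSite.extZero O U).map ((ModSite.restr O U).map φ.inv)) := inferInstance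
  infer_instance

theorem epi_ε_tensor_left (P : ModSite.Mod (O.over U)) (M : ModSite.Mod O) :
    Epi (ε O U (((ModSite.tensorBi O).obj ((ModSite.extZero O U).obj P)).obj M)) :=
  epi_ε_of_iso O U (extZeroProjIso O U P M) (epi_ε_extZero O U _)

theorem epi_ε_tensor_right (A : ModSite.Mod O) (P : ModSite.Mod (O.over U)) :
    Epi (ε O U (((ModSite.tensorBi O).obj A).obj ((ModSite.extZero O U).obj P))) :=
  epi_ε_of_iso O U (((brd O).app ((ModSite.extZero O U).obj P)).app A)
    (epi_ε_tensor_left O U P A)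

theorem eq_zero_of_restr_map_eq_zero {Y X : ModSite.Mod O} (hY : Epi (ε O U Y)) (h : Y ⟶ X)
    (hh : (ModSite.restr O U).map h = 0) : h = 0 := by
  have h1 := (counit_comp_eq_zero_iff_restr O U h).2 hh
  exact (cancel_epi (ε O U Y)).1 (h1.trans Limits.comp_zero.symm)

theorem isZero_restr_tensor_left (N M : ModSite.Mod O) (hN : IsZero ((ModSite.restr O U).obj N)) :
    IsZero ((ModSite.restr O U).obj (((ModSite.tensorBi O).obj N).obj M)) := by
  refine IsZero.of_iso ?_ (restrTensorIso O U N M)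
  exact (tR (O.over U) ((ModSite.restr O U).obj M)).map_isZero hN

theorem isZero_restr_tensor_right (A N : ModSite.Mod O) (hN : IsZero ((ModSite.restr O U).obj N)) :
    IsZero ((ModSite.restr O U).obj (((ModSite.tensorBi O).obj A).obj N)) := by
  refine IsZero.of_iso ?_ (restrTensorIso O U A N)
  exact (tL (O.over U) ((ModSite.restr O U).obj A)).map_isZero hN

theorem isZero_restr_quotOn (A : ModSite.Mod O) :
    IsZero ((ModSite.restr O U).obj ((ModSite.quotOn O U).obj A)) := by
  have hsplit := (ModSite.extZeroAdj O U).right_triangle_components A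
  haveI : IsSplitEpi ((ModSite.restr O U).map (ε O U A)) := ⟨⟨⟨_, hsplit⟩⟩⟩
  exact (isZero_cokernel_of_epi ((ModSite.restr O U).map (ε O U A))).of_iso
    (PreservesCokernel.iso (ModSite.restr O U) (ε O U A))

/-! ### compatibility of the counit with tensor products -/

theorem tR_map_ε_comp_eq_zero_iff (A M : ModSite.Mod O) {X : ModSite.Mod O}
    (g : (tR O M).obj A ⟶ X) :
    (tR O M).map (ε O U A) ≫ g = 0 ↔ ε O U ((tR O M).obj A) ≫ g = 0 := by
  constructor
  · intro h
    rw [counit_comp_eq_zero_iff_restr]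
    have hc := isColimitCoforkMapOfIsColimit' (tR O M) (cokernel.condition (ε O U A))
      (cokernelIsCokernel (ε O U A))
    let g₁ : (tR O M).obj ((ModSite.quotOn O U).obj A) ⟶ X := hc.desc (CokernelCofork.ofπ g h)
    have hg : (tR O M).map (π O U A) ≫ g₁ = g := hc.fac (CokernelCofork.ofπ g h)
      WalkingParallelPair.one
    have h0 : (ModSite.restr O U).map g₁ = 0 :=
      (isZero_restr_tensor_left O U _ M (isZero_restr_quotOn O U A)).eq_of_src _ _
    rw [← hg, Functor.map_comp, h0, Limits.comp_zero]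
  · intro h
    have h' := (counit_comp_eq_zero_iff_restr O U g).1 h
    apply eq_zero_of_restr_map_eq_zero O U
      (epi_ε_tensor_left O U ((ModSite.restr O U).obj A) M)
    rw [Functor.map_comp, h', Limits.comp_zero]

theorem tL_map_ε_comp_eq_zero_iff (A M : ModSite.Mod O) {X : ModSite.Mod O}
    (g : (tL O A).obj M ⟶ X) :
    (tL O A).map (ε O U M) ≫ g = 0 ↔ ε O U ((tL O A).obj M) ≫ g = 0 := by
  constructor
  · intro h
    rw [counit_comp_eq_zero_iff_restr]
    have hc := isColimitCoforkMapOfIsColimit' (tL O A) (cokernel.condition (ε O U M))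
      (cokernelIsCokernel (ε O U M))
    let g₁ : (tL O A).obj ((ModSite.quotOn O U).obj M) ⟶ X := hc.desc (CokernelCofork.ofπ g h)
    have hg : (tL O A).map (π O U M) ≫ g₁ = g := hc.fac (CokernelCofork.ofπ g h)
      WalkingParallelPair.one
    have h0 : (ModSite.restr O U).map g₁ = 0 :=
      (isZero_restr_tensor_right O U A _ (isZero_restr_quotOn O U M)).eq_of_src _ _
    rw [← hg, Functor.map_comp, h0, Limits.comp_zero]
  · intro h
    have h' := (counit_comp_eq_zero_iff_restr O U g).1 h
    apply eq_zero_of_restr_map_eq_zero O U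
      (epi_ε_tensor_right O U A ((ModSite.restr O U).obj M))
    rw [Functor.map_comp, h', Limits.comp_zero]

/-- `π_A ⊗ M` is a cokernel of the counit of `A ⊗ M`. -/
noncomputable def isColimitTR (A M : ModSite.Mod O) :
    IsColimit (CokernelCofork.ofπ ((tR O M).map (π O U A))
      ((tR_map_ε_comp_eq_zero_iff O U A M _).1
        (by rw [← Functor.map_comp, w_π, Functor.map_zero]))) :=
  isColimitOfIff _ (isColimitCoforkMapOfIsColimit' (tR O M) (cokernel.condition (ε O U A))
    (cokernelIsCokernel (ε O U A))) (fun g => tR_map_ε_comp_eq_zero_iff O U A M g)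

/-- `A ⊗ π_M` is a cokernel of the counit of `A ⊗ M`. -/
noncomputable def isColimitTL (A M : ModSite.Mod O) :
    IsColimit (CokernelCofork.ofπ ((tL O A).map (π O U M))
      ((tL_map_ε_comp_eq_zero_iff O U A M _).1
        (by rw [← Functor.map_comp, w_π, Functor.map_zero]))) :=
  isColimitOfIff _ (isColimitCoforkMapOfIsColimit' (tL O A) (cokernel.condition (ε O U M))
    (cokernelIsCokernel (ε O U M))) (fun g => tL_map_ε_comp_eq_zero_iff O U A M g)

/-- `(A/A_U) ⊗ M ≅ (A ⊗ M)/(A ⊗ M)_U`. -/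
noncomputable def φApp (A M : ModSite.Mod O) :
    (tR O M).obj ((ModSite.quotOn O U).obj A) ≅ (ModSite.quotOn O U).obj ((tR O M).obj A) := by
  let e := IsColimit.coconePointUniqueUpToIso (isColimitTR O U A M)
    (cokernelIsCokernel (ε O U ((tR O M).obj A)))
  exact e

theorem π_φApp_hom (A M : ModSite.Mod O) :
    (tR O M).map (π O U A) ≫ (φApp O U A M).hom = π O U ((tR O M).obj A) :=
  IsColimit.comp_coconePointUniqueUpToIso_hom (isColimitTR O U A M)
    (cokernelIsCokernel (ε O U ((tR O M).obj A))) WalkingParallelPair.one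

/-- `A ⊗ (M/M_U) ≅ (A ⊗ M)/(A ⊗ M)_U`. -/
noncomputable def ψApp (A M : ModSite.Mod O) :
    (tL O A).obj ((ModSite.quotOn O U).obj M) ≅ (ModSite.quotOn O U).obj ((tL O A).obj M) := by
  let e := IsColimit.coconePointUniqueUpToIso (isColimitTL O U A M)
    (cokernelIsCokernel (ε O U ((tL O A).obj M)))
  exact e

theorem π_ψApp_hom (A M : ModSite.Mod O) :
    (tL O A).map (π O U M) ≫ (ψApp O U A M).hom = π O U ((tL O A).obj M) :=
  IsColimit.comp_coconePointUniqueUpToIso_hom (isColimitTL O U A M)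
    (cokernelIsCokernel (ε O U ((tL O A).obj M))) WalkingParallelPair.one

instance epi_tR_map_π (A M : ModSite.Mod O) : Epi ((tR O M).map (π O U A)) := inferInstance

instance epi_tL_map_π (A M : ModSite.Mod O) : Epi ((tL O A).map (π O U M)) := inferInstance

/-- `Q(A) ⊗ M ≅ Q(A ⊗ M)` as functors of `A`, where `Q` is the quotient functor. -/
noncomputable def φ (M : ModSite.Mod O) :
    ModSite.quotOn O U ⋙ tR O M ≅ tR O M ⋙ ModSite.quotOn O U :=
  NatIso.ofComponents (fun A => φApp O U A M) (by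
    intro A B f
    apply (cancel_epi ((tR O M).map (π O U A))).1
    change (tR O M).map (π O U A) ≫ (tR O M).map ((ModSite.quotOn O U).map f) ≫
        (φApp O U B M).hom =
      (tR O M).map (π O U A) ≫ (φApp O U A M).hom ≫
        (ModSite.quotOn O U).map ((tR O M).map f)
    rw [← Category.assoc, ← Functor.map_comp, π_map, Functor.map_comp, Category.assoc,
      π_φApp_hom, ← Category.assoc ((tR O M).map (π O U A)), π_φApp_hom, π_map])

/-- `A ⊗ Q(M) ≅ Q(A ⊗ M)` as functors of `A`. -/
noncomputable def ψ (M : ModSite.Mod O) :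
    tR O ((ModSite.quotOn O U).obj M) ≅ tR O M ⋙ ModSite.quotOn O U :=
  NatIso.ofComponents (fun A => ψApp O U A M) (by
    intro A B f
    apply (cancel_epi ((tL O A).map (π O U M))).1
    have hn : (tL O A).map (π O U M) ≫ (tR O ((ModSite.quotOn O U).obj M)).map f =
        (tR O M).map f ≫ (tL O B).map (π O U M) :=
      ((ModSite.tensorBi O).map f).naturality (π O U M)
    change (tL O A).map (π O U M) ≫ (tR O ((ModSite.quotOn O U).obj M)).map f ≫
        (ψApp O U B M).hom =
      (tL O A).map (π O U M) ≫ (ψApp O U A M).hom ≫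
        (ModSite.quotOn O U).map ((tR O M).map f)
    rw [← Category.assoc, hn, Category.assoc, π_ψApp_hom,
      ← Category.assoc ((tL O A).map (π O U M)), π_ψApp_hom]
    exact (π_map O U ((tR O M).map f)).symm)

section SheafHom

variable [ModSite.HasPushOver O U] (M : ModSite.Mod O) [ModSite.HasSheafHom M]

/-- `Γ_Z ℋom(M, -) ≅ ℋom(M, Γ_Z -)`. -/
noncomputable def sheafHomSectOnIso :
    ModSite.sheafHom M ⋙ ModSite.sectOn O U ≅ ModSite.sectOn O U ⋙ ModSite.sheafHom M :=
  (((quotSectAdj O U).comp (ModSite.sheafHomAdj M)).ofNatIsoLeft (φ O U M)).rightAdjointUniq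
    ((ModSite.sheafHomAdj M).comp (quotSectAdj O U))

/-- `Γ_Z ℋom(M, -) ≅ ℋom(M/M_U, -)`. -/
noncomputable def sheafHomQuotIso [ModSite.HasSheafHom ((ModSite.quotOn O U).obj M)] :
    ModSite.sheafHom M ⋙ ModSite.sectOn O U ≅
      ModSite.sheafHom ((ModSite.quotOn O U).obj M) :=
  (((quotSectAdj O U).comp (ModSite.sheafHomAdj M)).ofNatIsoLeft
    (φ O U M ≪≫ (ψ O U M).symm)).rightAdjointUniq
    (ModSite.sheafHomAdj ((ModSite.quotOn O U).obj M))

end SheafHom

end Groth.Agent.Lib.Helper21.NullOn
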