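import Mathlib
import Groth.Prelude.Def_ModSite2
import Groth.Agent.Lib.Helper21NullOn3
import Groth.Agent.Lib.Helper21FreeConst

/-!
# Helper21: sectionwise description of `Γ_Z` on a ringed site
-/

open CategoryTheory Opposite Limits

universe u

namespace Groth.Agent.Lib.Helper21.GammaZ

open Groth.Agent.Lib.Helper21.ModTensor2 Groth.Agent.Lib.Helper21.ModTensor3
  Groth.Agent.Lib.Helper21.ModTensor5 Groth.Agent.Lib.Helper21.ExtZeroS
  Groth.Agent.Lib.Helper21.RestrExact Groth.Agent.Lib.Helper21.ModRestr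
  Groth.Agent.Lib.Helper21.ExtZero Groth.Agent.Lib.Helper21.NullOn Groth.Agent.Lib.Helper21.FreeAb

variable {C : Type u} [SmallCategory C] {J : GrothendieckTopology C} (O : Sheaf J CommRingCat.{u})
  (U : C)

/-- a morphism of sheaves of modules vanishes if its sheafification-forget image does. -/
theorem eq_zero_of_shf_fgt_map_eq_zero {A B : ModSite.Mod O} (h : A ⟶ B)
    (hh : (shf O).map ((fgt O).map h) = 0) : h = 0 := by
  have hn : (shf O).map ((fgt O).map h) ≫ (adj O).counit.app B = (adj O).counit.app A ≫ h :=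
    (adj O).counit.naturality h
  rw [hh, zero_comp] at hn
  exact (cancel_epi ((adj O).counit.app A)).1 (hn.symm.trans comp_zero.symm)

/-- Lemma B: if the presheaf-level adjunct of `g : a P ⟶ Y` vanishes on `C/U`, then `g|_U = 0`. -/
theorem restr_map_eq_zero_of_resP {P : PM O} {Y : ModSite.Mod O} (g : (shf O).obj P ⟶ Y)
    (hg : (resP O U).map ((adj O).homEquiv P Y g) = 0) : (ModSite.restr O U).map g = 0 := by
  apply eq_zero_of_shf_fgt_map_eq_zero (O.over U)
  rw [Adjunction.homEquiv_unit, Functor.map_comp] at hg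
  have h2 : (shf (O.over U)).map ((resP O U).map ((adj O).unit.app P)) ≫
      (shf (O.over U)).map ((resP O U).map ((fgt O).map g)) = 0 := by
    rw [← Functor.map_comp, hg, Functor.map_zero]
  haveI : IsIso ((shf (O.over U)).map ((resP O U).map ((adj O).unit.app P))) :=
    isIso_shf_resP_eta O U P
  rw [fgt_restr_map]
  exact (cancel_epi ((shf (O.over U)).map ((resP O U).map ((adj O).unit.app P)))).1
    (h2.trans comp_zero.symm)


section Sections

variable {O} (X : ModSite.Mod O) (V : C)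

/-- the free abelian presheaf on the representable presheaf of `V`. -/
abbrev P₀ : Cᵒᵖ ⥤ AddCommGrpCat.{u} := yoneda.obj V ⋙ AddCommGrpCat.free.{u}

/-- the map `ℤ[h_V] ⟶ X` of presheaves attached to a section of `X` over `V`. -/
noncomputable def γσ (σ : X.val.obj (op V)) : P₀ V ⟶ ((fgt O).obj X).presheaf where
  app W := AddCommGrpCat.ofHom (FreeAbelianGroup.lift
    (fun f : W.unop ⟶ V => (((fgt O).obj X).presheaf.map f.op σ : X.val.obj W)))
  naturality {W W'} h := by
    apply AddCommGrpCat.hom_ext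
    apply FreeAbelianGroup.lift_ext
    intro f
    change FreeAbelianGroup.lift _ (FreeAbelianGroup.map _ (FreeAbelianGroup.of f)) =
      ((fgt O).obj X).presheaf.map h (FreeAbelianGroup.lift _ (FreeAbelianGroup.of f))
    rw [FreeAbelianGroup.map_of_apply, FreeAbelianGroup.lift_apply_of,
      FreeAbelianGroup.lift_apply_of]
    change ((fgt O).obj X).presheaf.map (h.unop ≫ f).op σ = _
    rw [op_comp, Functor.map_comp]
    rfl

theorem γσ_app_of (σ : X.val.obj (op V)) (W : Cᵒᵖ) (f : W.unop ⟶ V) :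
    (γσ X V σ).app W (FreeAbelianGroup.of f) = ((fgt O).obj X).presheaf.map f.op σ :=
  FreeAbelianGroup.lift_apply_of _ _

/-- the module `O[V]`. -/
noncomputable abbrev OV : ModSite.Mod O := (shf O).obj (F (RO O) (P₀ V))

/-- the morphism `O[V] ⟶ X` attached to a section of `X` over `V`. -/
noncomputable def gσ (σ : X.val.obj (op V)) : OV (O := O) V ⟶ X :=
  ((adj O).homEquiv _ _).symm (adjFrom (P₀ V) ((fgt O).obj X) (γσ X V σ))

/-- the section over `V` classified by a morphism `O[V] ⟶ X`. -/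
noncomputable def sec {X : ModSite.Mod O} (g : OV (O := O) V ⟶ X) : X.val.obj (op V) :=
  ((adj O).homEquiv _ _ g).app (op V) (tm (RO O) (P₀ V) (op V) 1 (FreeAbelianGroup.of (𝟙 V)))

theorem sec_comp {X X' : ModSite.Mod O} (g : OV (O := O) V ⟶ X) (h : X ⟶ X') :
    sec V (g ≫ h) = (h.val.app (op V)).hom (sec V g) := by
  unfold sec
  rw [Adjunction.homEquiv_naturality_right]
  rfl

theorem sec_gσ (σ : X.val.obj (op V)) : sec V (gσ X V σ) = σ := by
  unfold sec gσ
  rw [Equiv.apply_symm_apply, adjFrom_app_tm, one_smul, γσ_app_of]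
  change ((fgt O).obj X).presheaf.map (𝟙 (op V)) σ = σ
  rw [CategoryTheory.Functor.map_id]
  rfl

theorem γσ_app_eq_zero (σ : X.val.obj (op V))
    (hσ : ∀ (W : C) (f : W ⟶ V), Nonempty (W ⟶ U) → ((fgt O).obj X).presheaf.map f.op σ = 0)
    (W : Cᵒᵖ) (hW : Nonempty (W.unop ⟶ U)) (a : (P₀ V).obj W) : (γσ X V σ).app W a = 0 := by
  have h : ((γσ X V σ).app W).hom = 0 :=
    FreeAbelianGroup.lift_ext _ _ (fun f => (γσ_app_of X V σ W f).trans (hσ W.unop f hW))
  exact DFunLike.congr_fun h a

theorem adjFrom_γσ_app_eq_zero (σ : X.val.obj (op V))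
    (hσ : ∀ (W : C) (f : W ⟶ V), Nonempty (W ⟶ U) → ((fgt O).obj X).presheaf.map f.op σ = 0)
    (W : Cᵒᵖ) (hW : Nonempty (W.unop ⟶ U)) (m : (F (RO O) (P₀ V)).obj W) :
    (adjFrom (P₀ V) ((fgt O).obj X) (γσ X V σ)).app W m = 0 := by
  induction m using F_induction with
  | h0 => exact map_zero _
  | ht r a =>
    rw [adjFrom_app_tm, γσ_app_eq_zero U X V σ hσ W hW a, smul_zero] <;> rfl
  | hadd a b ha hb => rw [map_add, ha, hb, add_zero]

theorem restr_gσ_eq_zero (σ : X.val.obj (op V))
    (hσ : ∀ (W : C) (f : W ⟶ V), Nonempty (W ⟶ U) → ((fgt O).obj X).presheaf.map f.op σ = 0) :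
    (ModSite.restr O U).map (gσ X V σ) = 0 := by
  apply restr_map_eq_zero_of_resP
  unfold gσ
  rw [Equiv.apply_symm_apply]
  ext Y m
  exact adjFrom_γσ_app_eq_zero U X V σ hσ ((Over.forget U).op.obj Y) ⟨Y.unop.hom⟩ m

/-- sections of `X` vanishing on all objects over `U` come from `Γ_Z X`. -/
theorem exists_sectOn_section [ModSite.HasPushOver O U] (σ : X.val.obj (op V))
    (hσ : ∀ (W : C) (f : W ⟶ V), Nonempty (W ⟶ U) → ((fgt O).obj X).presheaf.map f.op σ = 0) :
    ∃ s : ((ModSite.sectOn O U).obj X).val.obj (op V),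
      (((ModSite.sectOnι O U).app X).val.app (op V)).hom s = σ := by
  have h0 := restr_gσ_eq_zero U X V σ hσ
  have h1 : gσ X V σ ≫ (ModSite.restrPushOverAdj O U).unit.app X = 0 :=
    (comp_unit_eq_zero_iff_restr O U _).2 h0
  let g₀ : OV (O := O) V ⟶ (ModSite.sectOn O U).obj X := kernel.lift _ (gσ X V σ) h1
  have h2 : g₀ ≫ (ModSite.sectOnι O U).app X = gσ X V σ := kernel.lift_ι _ _ _
  refine ⟨sec V g₀, ?_⟩
  rw [← sec_comp, h2]
  exact sec_gσ X V σ

/-- sections of `Γ_Z X` vanish on all objects over `U`. -/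
theorem sectOnι_vanish [ModSite.HasPushOver O U] (s : ((ModSite.sectOn O U).obj X).val.obj (op V))
    (W : C) (f : W ⟶ V) (hW : Nonempty (W ⟶ U)) :
    ((fgt O).obj X).presheaf.map f.op
      ((((ModSite.sectOnι O U).app X).val.app (op V)).hom s) = 0 := by
  obtain ⟨g⟩ := hW
  have h0 : (ModSite.restr O U).map ((ModSite.sectOnι O U).app X) = 0 :=
    (comp_unit_eq_zero_iff_restr O U _).1 (kernel.condition _)
  have h1 := PresheafOfModules.naturality_apply ((ModSite.sectOnι O U).app X).val f.op s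
  have h2 : (((ModSite.sectOnι O U).app X).val.app (op W)).hom
      (((ModSite.sectOn O U).obj X).val.map f.op s) = 0 :=
    congrArg (fun ψ : (ModSite.restr O U).obj ((ModSite.sectOn O U).obj X) ⟶
        (ModSite.restr O U).obj X =>
      (ψ.val.app (op (Over.mk g))).hom (((ModSite.sectOn O U).obj X).val.map f.op s)) h0
  exact h1.symm.trans h2

end Sections

end Groth.Agent.Lib.Helper21.GammaZ
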