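import Mathlib
import Groth.Agent.Lib.Helper23Leray
import Groth.Agent.S8354

/-!
# Adapted classes are acyclic for `rightDerivedFunctorPlus` (helper23)

* `R' F k : C ⥤ D`, `X ↦ H^k(RF(X[0]))`; `les_obj`: its long exact sequence on SES of objects.
* `F' F k`, `η' F k : F' F k ⟶ R' F k` (induced by the unit), `F'ZeroIso : F' F 0 ≅ F`.
* `isZero_R'_of_injective`, `isZero_R'_of_neg`.
* `isIso_τ_of_adapted`: objects of an adapted class (every object embeds in the class; the class is
  closed under cokernels of monos, on which `F` is exact) are (unit-)acyclic.  `F` any additive functor.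
-/

open CategoryTheory Limits Category

universe w w' v v' u u'

namespace Groth.Agent.Lib.Helper23Adapted

open HomologicalComplex Groth.Agent.S12229 Groth.Agent.Lib.Helper23Bridge Groth.Agent.Lib.Helper23Acyclic
  Groth.Agent.Lib.Helper23Leray



theorem exact_of_subobject_eq {𝒜 : Type*} [Category 𝒜] [Abelian 𝒜] {A B C : 𝒜} {f : A ⟶ B} {g : B ⟶ C}
    (h : kernelSubobject g = imageSubobject f) :
    ∃ w : f ≫ g = 0, (ShortComplex.mk f g w).Exact := by
  have w : f ≫ g = 0 := by
    have h1 : (imageSubobject f).arrow ≫ g = 0 := by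
      have h2 : (kernelSubobject g).arrow ≫ g = 0 := kernelSubobject_arrow_comp g
      rw [h] at h2
      exact h2
    rw [← imageSubobject_arrow_comp f, Category.assoc, h1, comp_zero]
  exact ⟨w, (ShortComplex.exact_iff_image_eq_kernel (ShortComplex.mk f g w)).2 h.symm⟩

section
variable {C : Type u} [Category.{v} C] [Abelian C] [HasDerivedCategory.{w} C]
    [EnoughInjectives C] {D : Type u'} [Category.{v'} D] [Abelian D] [HasDerivedCategory.{w'} D]
    (F : C ⥤ D) [F.Additive]

/-- `X ↦ X[0]` as a functor to `CochainComplex.Plus C`. -/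
noncomputable def sglFunctor : C ⥤ CochainComplex.Plus C :=
  ObjectProperty.lift _ (CochainComplex.singleFunctor C 0) (fun X => ⟨0, inferInstance⟩)

theorem sglFunctor_obj (X : C) : (sglFunctor (C := C)).obj X = sgl X := rfl

/-- `X ↦ H^k(RF(X[0]))`. -/
noncomputable def R' (k : ℤ) : C ⥤ D :=
  sglFunctor ⋙ HomotopyCategory.Plus.quotient C ⋙ DerivedCategory.Plus.Qh ⋙ F.rightDerivedFunctorPlus ⋙
      DerivedCategory.Plus.ι ⋙ DerivedCategory.homologyFunctor D k

/-- the long exact sequence for `R'`. -/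
theorem les_obj (S : ShortComplex C) (hS : S.ShortExact) (k : ℤ) :
    (∃ w : (R' F k).map S.f ≫ (R' F k).map S.g = 0,
      (ShortComplex.mk ((R' F k).map S.f) ((R' F k).map S.g) w).Exact) ∧
    ∃ δ : (R' F k).obj S.X₃ ⟶ (R' F (k + 1)).obj S.X₁,
      (∃ w : (R' F k).map S.g ≫ δ = 0, (ShortComplex.mk ((R' F k).map S.g) δ w).Exact) ∧
      (∃ w : δ ≫ (R' F (k + 1)).map S.f = 0, (ShortComplex.mk δ ((R' F (k + 1)).map S.f) w).Exact) := by
  let S0 : ShortComplex (CochainComplex C ℤ) := S.map (HomologicalComplex.single C (ComplexShape.up ℤ) 0)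
  have hS0 : S0.ShortExact := hS.map_of_exact _
  have hf : Mono ((CochainComplex.Plus.ι C).map (sglFunctor.map S.f)) := hS0.mono_f
  have hg : Epi ((CochainComplex.Plus.ι C).map (sglFunctor.map S.g)) := hS0.epi_g
  have hex : kernelSubobject ((CochainComplex.Plus.ι C).map (sglFunctor.map S.g)) =
      imageSubobject ((CochainComplex.Plus.ι C).map (sglFunctor.map S.f)) :=
    ((ShortComplex.exact_iff_image_eq_kernel S0).1 hS0.exact).symm
  obtain ⟨h1, δ, h2, h3⟩ := Groth.Agent.S8354.les F (sglFunctor.map S.f) (sglFunctor.map S.g) hf hg hex k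
  exact ⟨exact_of_subobject_eq h1, δ, exact_of_subobject_eq h2, exact_of_subobject_eq h3⟩

end




section
variable {C : Type u} [Category.{v} C] [Abelian C] [HasDerivedCategory.{w} C]
    [EnoughInjectives C] {D : Type u'} [Category.{v'} D] [Abelian D] [HasDerivedCategory.{w'} D]
    (F : C ⥤ D) [F.Additive]

/-- `X ↦ H^k(Q(F(X[0])))`. -/
noncomputable def F' (k : ℤ) : C ⥤ D :=
  HomologicalComplex.single C (ComplexShape.up ℤ) 0 ⋙ F.mapHomologicalComplex (ComplexShape.up ℤ) ⋙
    DerivedCategory.Q ⋙ DerivedCategory.homologyFunctor D k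

/-- `F' 0 ≅ F`. -/
noncomputable def F'ZeroIso : F' F 0 ≅ F :=
  Functor.isoWhiskerLeft (HomologicalComplex.single C (ComplexShape.up ℤ) 0)
    (Functor.isoWhiskerLeft (F.mapHomologicalComplex (ComplexShape.up ℤ))
      (DerivedCategory.homologyFunctorFactors D 0)) ≪≫ h0Iso F

theorem isZero_F' (k : ℤ) (hk : k ≠ 0) (X : C) : IsZero ((F' F k).obj X) := by
  have e := (DerivedCategory.homologyFunctorFactors D k).app
    ((F.mapHomologicalComplex (ComplexShape.up ℤ)).obj
      ((HomologicalComplex.single C (ComplexShape.up ℤ) 0).obj X))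
  refine IsZero.of_iso ?_ e
  show IsZero (((F.mapHomologicalComplex (ComplexShape.up ℤ)).obj
      ((HomologicalComplex.single C (ComplexShape.up ℤ) 0).obj X)).homology k)
  rw [← exactAt_iff_isZero_homology]
  apply ExactAt.of_isZero
  exact F.map_isZero (HomologicalComplex.isZero_single_obj_X _ _ _ _ hk)

/-- `η' k : F' k ⟶ R' k`, induced by the unit. -/
noncomputable def η' (k : ℤ) : F' F k ⟶ R' F k where
  app X := (DerivedCategory.homologyFunctor D k).map (τ F (sgl X))
  naturality X Y f := by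
    have h := τ_naturality F (sglFunctor.map f)
    have h' := congrArg (fun z => (DerivedCategory.homologyFunctor D k).map z) h
    simp only [Functor.map_comp] at h'
    exact h'

theorem isIso_η'_of_injective (k : ℤ) (J : C) [Injective J] : IsIso ((η' F k).app J) := by
  have := isIso_τ_sgl_of_injective F J
  show IsIso ((DerivedCategory.homologyFunctor D k).map (τ F (sgl J)))
  infer_instance

theorem isZero_R'_of_injective (k : ℤ) (hk : k ≠ 0) (J : C) [Injective J] : IsZero ((R' F k).obj J) := by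
  have := isIso_η'_of_injective F k J
  exact IsZero.of_iso (isZero_F' F k hk J) (asIso ((η' F k).app J)).symm

theorem isZero_R'_of_neg (k : ℤ) (hk : k < 0) (X : C) : IsZero ((R' F k).obj X) := by
  let I := injectiveResolution X
  have hinj : ∀ m, Injective (I.cochainComplex.X m) := fun m => inferInstance
  let a : sgl X ⟶ ⟨I.cochainComplex, 0, inferInstance⟩ := ObjectProperty.homMk I.ι'
  have ha : QuasiIso a.hom := by
    show QuasiIso I.ι'
    infer_instance
  have h1 := (isIso_homology_τ_iff F I.cochainComplex 0 inferInstance hinj a ha k).2 (by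
    have hz : ∀ (K : CochainComplex C ℤ) [K.IsStrictlyGE 0],
        IsZero (((F.mapHomologicalComplex (ComplexShape.up ℤ)).obj K).homology k) := by
      intro K _
      rw [← exactAt_iff_isZero_homology]
      apply ExactAt.of_isZero
      exact F.map_isZero (K.isZero_of_isStrictlyGE 0 k hk)
    have : (sgl X).obj.IsStrictlyGE 0 :=
      inferInstanceAs (((CochainComplex.singleFunctor C 0).obj X).IsStrictlyGE 0)
    have z1 := hz (sgl X).obj
    have z2 := hz I.cochainComplex
    exact ⟨⟨0, z1.eq_of_src _ _, z2.eq_of_src _ _⟩⟩)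
  have h2 : IsIso ((η' F k).app X) := h1
  exact IsZero.of_iso (isZero_F' F k hk.ne X) (asIso ((η' F k).app X)).symm

end




theorem mono_map_iff_of_iso {C D : Type*} [Category C] [Category D] {G G' : C ⥤ D} (e : G ≅ G')
    {X Y : C} (f : X ⟶ Y) : Mono (G.map f) ↔ Mono (G'.map f) :=
  (MorphismProperty.monomorphisms D).arrow_mk_iso_iff (Arrow.isoOfNatIso e (Arrow.mk f))

theorem epi_map_iff_of_iso {C D : Type*} [Category C] [Category D] {G G' : C ⥤ D} (e : G ≅ G')
    {X Y : C} (f : X ⟶ Y) : Epi (G.map f) ↔ Epi (G'.map f) :=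
  (MorphismProperty.epimorphisms D).arrow_mk_iso_iff (Arrow.isoOfNatIso e (Arrow.mk f))

section
variable {C : Type u} [Category.{v} C] [Abelian C] [HasDerivedCategory.{w} C]
    [EnoughInjectives C] {D : Type u'} [Category.{v'} D] [Abelian D] [HasDerivedCategory.{w'} D]
    (F : C ⥤ D) [F.Additive] (I : ObjectProperty C)
    (h1 : ∀ X : C, ∃ (Y : C) (ι : X ⟶ Y), I Y ∧ Mono ι)
    (h2 : ∀ S : ShortComplex C, S.ShortExact → I S.X₁ → I S.X₂ → I S.X₃ ∧ (S.map F).ShortExact)

instance (k : ℤ) : (F' F k).PreservesZeroMorphisms := by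
  dsimp only [F']; infer_instance

/-- the data attached to an object of the class: `X ↪ J ↪ Y` with `J` injective, `Y` in the class. -/
structure Data (X : C) where
  J : C
  Y : C
  i : X ⟶ J
  j : J ⟶ Y
  hJ : Injective J
  hi : Mono i
  hj : Mono j
  hY : I Y

include h1 in
theorem exists_data (X : C) : Nonempty (Data I X) := by
  obtain ⟨Y, j, hY, hj⟩ := h1 (Injective.under X)
  exact ⟨⟨Injective.under X, Y, Injective.ι X, j, inferInstance, inferInstance, hj, hY⟩⟩

variable {I}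

/-- the short exact sequence `0 ⟶ X ⟶ Y ⟶ Y/X ⟶ 0`. -/
noncomputable abbrev Data.S {X : C} (d : Data I X) : ShortComplex C :=
  ShortComplex.mk (d.i ≫ d.j) (cokernel.π (d.i ≫ d.j)) (cokernel.condition _)

theorem Data.hS {X : C} (d : Data I X) : d.S.ShortExact :=
  have := d.hi
  have := d.hj
  { exact := ShortComplex.exact_cokernel _
    mono_f := inferInstanceAs (Mono (d.i ≫ d.j))
    epi_g := inferInstanceAs (Epi (cokernel.π (d.i ≫ d.j))) }

include h2 in
theorem claimM {X : C} (hX : I X) (d : Data I X) : Mono ((η' F 0).app X) := by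
  have := d.hJ
  obtain ⟨hC, hFS⟩ := h2 d.S d.hS hX d.hY
  have m1 : Mono (F.map (d.i ≫ d.j)) := hFS.mono_f
  have m2 : Mono (F.map d.i) := by
    rw [F.map_comp] at m1
    exact mono_of_mono (F.map d.i) (F.map d.j)
  have m3 : Mono ((F' F 0).map d.i) := (mono_map_iff_of_iso (F'ZeroIso F) d.i).2 m2
  have hnat := (η' F 0).naturality d.i
  have := isIso_η'_of_injective F 0 d.J
  have m4 : Mono ((η' F 0).app X ≫ (R' F 0).map d.i) := by
    rw [← hnat]; infer_instance
  exact mono_of_mono _ ((R' F 0).map d.i)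

include h1 h2 in
theorem claimE {X : C} (hX : I X) (d : Data I X) : IsIso ((η' F 0).app X) := by
  have := d.hJ
  obtain ⟨hC, hFS⟩ := h2 d.S d.hS hX d.hY
  obtain ⟨dC⟩ := exists_data I h1 d.S.X₃
  have mX := claimM F h2 hX d
  have mC : Mono ((η' F 0).app d.S.X₃) := claimM F h2 hC dC
  have iJ := isIso_η'_of_injective F 0 d.J
  -- the exact sequence `F' X ⟶ F' Y ⟶ F' C`
  have hF'S : (d.S.map (F' F 0)).ShortExact :=
    ShortComplex.shortExact_of_iso (d.S.mapNatIso (F'ZeroIso F)).symm hFS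
  have := hF'S.mono_f
  -- exactness for `R'`
  obtain ⟨⟨w0, e0⟩, -⟩ := les_obj F d.S d.hS 0
  obtain ⟨-, δ, -, ⟨w1, e1⟩⟩ := les_obj F d.S d.hS (-1)
  have mu : Mono ((R' F 0).map d.S.f) := by
    have hz : IsZero ((R' F (-1)).obj d.S.X₃) := isZero_R'_of_neg F (-1) (by simp) _
    have e1' : (ShortComplex.mk δ ((R' F (-1 + 1)).map d.S.f) w1).Exact := e1
    exact e1'.mono_g (hz.eq_of_src _ _)
  let θ : (R' F 0).obj X ⟶ (F' F 0).obj d.Y :=
    (R' F 0).map d.i ≫ inv ((η' F 0).app d.J) ≫ (F' F 0).map d.j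
  have hθ : θ ≫ (η' F 0).app d.Y = (R' F 0).map d.S.f := by
    dsimp only [θ]
    rw [assoc, assoc, (η' F 0).naturality d.j, IsIso.inv_hom_id_assoc, ← Functor.map_comp]
  have hθ0 : θ ≫ (d.S.map (F' F 0)).g = 0 := by
    have h3 : (θ ≫ (F' F 0).map d.S.g) ≫ (η' F 0).app d.S.X₃ = 0 ≫ (η' F 0).app d.S.X₃ := by
      rw [assoc, (η' F 0).naturality d.S.g, reassoc_of% hθ, w0, zero_comp]
    exact mC.right_cancellation _ _ h3
  let ρ : (R' F 0).obj X ⟶ (F' F 0).obj X := hF'S.exact.lift θ hθ0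
  have hρ : ρ ≫ (F' F 0).map d.S.f = θ := hF'S.exact.lift_f θ hθ0
  have hsplit : ρ ≫ (η' F 0).app X = 𝟙 _ := by
    have h4 : (ρ ≫ (η' F 0).app X) ≫ (R' F 0).map d.S.f = 𝟙 _ ≫ (R' F 0).map d.S.f := by
      rw [assoc, ← (η' F 0).naturality d.S.f, reassoc_of% hρ, hθ, id_comp]
    exact mu.right_cancellation _ _ h4
  have : Epi ((η' F 0).app X) := epi_of_epi_fac hsplit
  exact isIso_of_mono_of_epi _

include h1 h2 in
theorem claimA (k : ℕ) : ∀ {X : C}, I X → IsZero ((R' F ((k : ℤ) + 1)).obj X) := by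
  induction k with
  | zero =>
    intro X hX
    obtain ⟨d⟩ := exists_data I h1 X
    have := d.hJ
    obtain ⟨hC, hFS⟩ := h2 d.S d.hS hX d.hY
    obtain ⟨dC⟩ := exists_data I h1 d.S.X₃
    obtain ⟨-, δ, ⟨w1, e1⟩, ⟨w2, e2⟩⟩ := les_obj F d.S d.hS ((0 : ℕ) : ℤ)
    -- `R'^1 (u) = 0`
    have hu : (R' F (((0 : ℕ) : ℤ) + 1)).map d.S.f = 0 := by
      have : (R' F (((0 : ℕ) : ℤ) + 1)).map d.S.f =
          (R' F (((0 : ℕ) : ℤ) + 1)).map d.i ≫ (R' F (((0 : ℕ) : ℤ) + 1)).map d.j := by
        rw [← Functor.map_comp]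
      rw [this]
      have hz := isZero_R'_of_injective F (((0 : ℕ) : ℤ) + 1) (by simp) d.J
      rw [hz.eq_of_tgt ((R' F (((0 : ℕ) : ℤ) + 1)).map d.i) 0, zero_comp]
    have hδ : Epi δ := e2.epi_f hu
    -- `R'^0 p` is epi
    have iC := claimE F h1 h2 hC dC
    have hFe : Epi (F.map d.S.g) := hFS.epi_g
    have hF'e : Epi ((F' F 0).map d.S.g) := (epi_map_iff_of_iso (F'ZeroIso F) d.S.g).2 hFe
    have hp : Epi ((R' F ((0 : ℕ) : ℤ)).map d.S.g) := by
      have hnat := (η' F 0).naturality d.S.g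
      have : Epi ((η' F 0).app d.Y ≫ (R' F 0).map d.S.g) := by
        rw [← hnat]; infer_instance
      exact epi_of_epi ((η' F 0).app d.Y) _
    have hδ0 : δ = 0 := by
      rw [← cancel_epi ((R' F ((0 : ℕ) : ℤ)).map d.S.g), w1, comp_zero]
    exact IsZero.of_epi_eq_zero δ hδ0
  | succ k ih =>
    intro X hX
    obtain ⟨d⟩ := exists_data I h1 X
    have := d.hJ
    obtain ⟨hC, hFS⟩ := h2 d.S d.hS hX d.hY
    obtain ⟨-, δ, ⟨w1, e1⟩, ⟨w2, e2⟩⟩ := les_obj F d.S d.hS ((k : ℤ) + 1)
    have hu : (R' F ((k : ℤ) + 1 + 1)).map d.S.f = 0 := by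
      have : (R' F ((k : ℤ) + 1 + 1)).map d.S.f =
          (R' F ((k : ℤ) + 1 + 1)).map d.i ≫ (R' F ((k : ℤ) + 1 + 1)).map d.j := by
        rw [← Functor.map_comp]
      rw [this]
      have hz := isZero_R'_of_injective F ((k : ℤ) + 1 + 1) (by omega) d.J
      rw [hz.eq_of_tgt ((R' F ((k : ℤ) + 1 + 1)).map d.i) 0, zero_comp]
    have hδ : Epi δ := e2.epi_f hu
    have hδ0 : δ = 0 := (ih hC).eq_of_src _ _
    have := IsZero.of_epi_eq_zero δ hδ0
    have e : ((k + 1 : ℕ) : ℤ) + 1 = (k : ℤ) + 1 + 1 := by push_cast; ring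
    rw [e]
    exact this

include h1 h2 in
/-- objects of an adapted class are acyclic. -/
theorem isIso_τ_of_adapted {X : C} (hX : I X) : IsIso (τ F (sgl X)) := by
  rw [isIso_τ_iff_forall]
  intro k
  show IsIso ((η' F k).app X)
  obtain ⟨d⟩ := exists_data I h1 X
  rcases lt_trichotomy k 0 with hk | hk | hk
  · have z1 := isZero_F' F k hk.ne X
    have z2 := isZero_R'_of_neg F k hk X
    exact ⟨⟨0, z1.eq_of_src _ _, z2.eq_of_src _ _⟩⟩
  · subst hk
    exact claimE F h1 h2 hX d
  · obtain ⟨m, hm⟩ := Int.eq_ofNat_of_zero_le (show 0 ≤ k - 1 by omega)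
    have e : k = (m : ℤ) + 1 := by omega
    have z1 := isZero_F' F k hk.ne' X
    have z2 : IsZero ((R' F k).obj X) := by
      rw [e]; exact claimA F h1 h2 m hX
    exact ⟨⟨0, z1.eq_of_src _ _, z2.eq_of_src _ _⟩⟩

end


end Groth.Agent.Lib.Helper23Adapted
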