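import Mathlib
import Groth.Prelude.Def_ModSite2
import Groth.Prelude.Def_CohCx
import Groth.Agent.S12895
import Groth.Agent.Lib.Helper21GammaZ
import Groth.Agent.Lib.Helper21Flasque
import Groth.Agent.Lib.Helper21ModCoh
import Groth.Agent.Lib.Helper23Adapted

/-!
# Helper21: modules with totally acyclic underlying abelian sheaf are `Γ_Z`-acyclic
-/

open CategoryTheory Opposite Limits

universe u

namespace Groth.Agent.Lib.Helper21.GammaZ

open Groth.Agent.Lib.Helper21.ModTensor2 Groth.Agent.Lib.Helper21.NullOn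
  Groth.Agent.Lib.Helper21.FreeAb Groth.Agent.Lib.Helper21.TorsFree Groth.Agent.Lib.Helper21.Flasque
  Groth.Agent.S12895

variable {C : Type u} [SmallCategory C] {J : GrothendieckTopology C} (O : Sheaf J CommRingCat.{u})
  (U : C)

/-- the sieve of arrows whose source maps to `U`. -/
def sieveU (V : C) : Sieve V where
  arrows W _ := Nonempty (W ⟶ U)
  downward_closed := fun ⟨g⟩ h => ⟨h ≫ g⟩

theorem isTotallyAcyclic_of_injective (Q : ModSite.Mod O) [Injective Q] :
    CohCx.IsTotallyAcyclic (ModSite.toAb Q) := by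
  intro K p
  exact ⟨fun x y => (ext_toSheaf_eq_zero (ModSite.ringSh O) Q p _ (TF_freeAb K) x).trans
    (ext_toSheaf_eq_zero (ModSite.ringSh O) Q p _ (TF_freeAb K) y).symm⟩

theorem shortExact_toSheaf {S : ShortComplex (ModSite.Mod O)} (hS : S.ShortExact) :
    (S.map (SheafOfModules.toSheaf (ModSite.ringSh O))).ShortExact :=
  hS.map_of_exact _

theorem isTotallyAcyclic_X₃ {S : ShortComplex (ModSite.Mod O)} (hS : S.ShortExact)
    (h₁ : CohCx.IsTotallyAcyclic (ModSite.toAb S.X₁))
    (h₂ : CohCx.IsTotallyAcyclic (ModSite.toAb S.X₂)) :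
    CohCx.IsTotallyAcyclic (ModSite.toAb S.X₃) := by
  intro K p
  have hSA := shortExact_toSheaf O hS
  refine ⟨fun x y => ?_⟩
  have key : ∀ z : CohCx.HK K (ModSite.toAb S.X₃) (p + 1), z = 0 := by
    intro z
    obtain ⟨w, hw⟩ := Abelian.Ext.covariant_sequence_exact₃ _ hSA z rfl
      ((h₁ K (p + 1)).elim _ _)
    have hw0 : w = 0 := (h₂ K p).elim w 0
    rw [← hw, hw0]
    exact Abelian.Ext.zero_comp _ _ (Abelian.Ext.mk₀
      (S.map (SheafOfModules.toSheaf (ModSite.ringSh O))).g) _ (add_zero (p + 1))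
  rw [key x, key y]

variable [ModSite.HasPushOver O U]

theorem injective_sectOnι_app (X : ModSite.Mod O) (V : Cᵒᵖ) :
    Function.Injective (((ModSite.sectOnι O U).app X).val.app V).hom := by
  haveI : Mono ((ModSite.sectOnι O U).app X) := by
    change Mono (kernel.ι _)
    infer_instance
  haveI : Mono ((SheafOfModules.toSheaf (ModSite.ringSh O)).map ((ModSite.sectOnι O U).app X)) :=
    inferInstance
  exact injective_app_of_mono
    ((SheafOfModules.toSheaf (ModSite.ringSh O)).map ((ModSite.sectOnι O U).app X)) V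

theorem epi_sectOn_map {S : ShortComplex (ModSite.Mod O)} (hS : S.ShortExact)
    (h₁ : CohCx.IsTotallyAcyclic (ModSite.toAb S.X₁)) :
    Epi ((ModSite.sectOn O U).map S.g) := by
  apply Groth.Agent.Lib.Helper21.RestrExact.epi_of_isLocallySurjective
  apply Presheaf.isLocallySurjective_of_surjective
  intro V s''
  have hSA := shortExact_toSheaf O hS
  let σ'' : S.X₃.val.obj V := (((ModSite.sectOnι O U).app S.X₃).val.app V).hom s''
  obtain ⟨σ, hσ, hσv⟩ := exists_section_lift_vanishing hSA h₁ (sieveU U V.unop) σ''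
    (fun W f hf => sectOnι_vanish U S.X₃ V.unop s'' W f hf)
  obtain ⟨s, hs⟩ := exists_sectOn_section U S.X₂ V.unop σ hσv
  refine ⟨s, ?_⟩
  apply injective_sectOnι_app O U S.X₃ V
  have hn : (ModSite.sectOn O U).map S.g ≫ (ModSite.sectOnι O U).app S.X₃ =
      (ModSite.sectOnι O U).app S.X₂ ≫ S.g := (ModSite.sectOnι O U).naturality S.g
  have h1 := congrArg (fun t : (ModSite.sectOn O U).obj S.X₂ ⟶ S.X₃ => (t.val.app V).hom s) hn
  refine h1.trans ?_
  change (S.g.val.app V).hom ((((ModSite.sectOnι O U).app S.X₂).val.app V).hom s) = σ''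
  rw [hs]
  exact hσ


instance sectOn_preservesFiniteLimits : PreservesFiniteLimits (ModSite.sectOn O U) := by
  haveI : PreservesLimitsOfSize.{0, 0} (ModSite.sectOn O U) :=
    (quotSectAdj O U).rightAdjoint_preservesLimits
  exact PreservesLimitsOfSize.preservesFiniteLimits.{0, 0} _

theorem shortExact_map_sectOn {S : ShortComplex (ModSite.Mod O)} (hS : S.ShortExact)
    (h₁ : CohCx.IsTotallyAcyclic (ModSite.toAb S.X₁)) :
    (S.map (ModSite.sectOn O U)).ShortExact := by
  haveI := hS.mono_f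
  haveI : Mono ((ModSite.sectOn O U).map S.f) := inferInstance
  haveI : Epi ((ModSite.sectOn O U).map S.g) := epi_sectOn_map O U hS h₁
  exact
    { exact := hS.exact.map_of_mono_of_preservesKernel (ModSite.sectOn O U) inferInstance
        inferInstance
      mono_f := inferInstanceAs (Mono ((ModSite.sectOn O U).map S.f))
      epi_g := inferInstanceAs (Epi ((ModSite.sectOn O U).map S.g)) }

/-- modules with totally acyclic underlying abelian sheaf are `Γ_Z`-acyclic. -/
theorem isZero_HZsh_of_isTotallyAcyclic [HasInjectiveResolutions (ModSite.Mod O)]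
    (M : ModSite.Mod O) (hM : CohCx.IsTotallyAcyclic (ModSite.toAb M)) (q : ℕ) (hq : 0 < q) :
    IsZero ((ModSite.HZsh O U q).obj M) := by
  haveI := Groth.Agent.Lib.Helper21.ModTensor3.isGrothendieckAbelian O
  haveI : EnoughInjectives (ModSite.Mod O) := inferInstance
  have : HasDerivedCategory.{u + 1} (ModSite.Mod O) := HasDerivedCategory.standard _
  let I : ObjectProperty (ModSite.Mod O) := fun X => CohCx.IsTotallyAcyclic (ModSite.toAb X)
  have h1 : ∀ X : ModSite.Mod O, ∃ (Y : ModSite.Mod O) (ι : X ⟶ Y), I Y ∧ Mono ι :=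
    fun X => ⟨Injective.under X, Injective.ι X, isTotallyAcyclic_of_injective O _, inferInstance⟩
  have h2 : ∀ S : ShortComplex (ModSite.Mod O), S.ShortExact → I S.X₁ → I S.X₂ →
      I S.X₃ ∧ (S.map (ModSite.sectOn O U)).ShortExact :=
    fun S hS h₁ h₂ => ⟨isTotallyAcyclic_X₃ O hS h₁ h₂, shortExact_map_sectOn O U hS h₁⟩
  have h3 := Groth.Agent.Lib.Helper23Adapted.isIso_τ_of_adapted (ModSite.sectOn O U) (I := I) h1 h2
    (X := M) hM
  exact (Groth.Agent.Lib.Helper23Acyclic.acyclic_iff (ModSite.sectOn O U) M).1 h3 q hq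

end Groth.Agent.Lib.Helper21.GammaZ
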