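import Mathlib
import Groth.Prelude.Def_ModSite2
import Groth.Agent.Lib.Helper21GammaZ2
import Groth.Agent.S6160

open CategoryTheory Opposite Limits

universe u

namespace Groth.Agent.Lib.Helper21.GammaZ

open Groth.Agent.Lib.Helper21.ModTensor2 Groth.Agent.Lib.Helper21.NullOn
  Groth.Agent.Lib.Helper21.RestrExact

section General

variable {D : Type u} [SmallCategory D] {K : GrothendieckTopology D} {R : Sheaf K RingCat.{u}}

theorem mono_of_injective_app {M N : SheafOfModules.{u} R} (f : M ⟶ N)
    (h : ∀ V : Dᵒᵖ, Function.Injective (f.val.app V).hom) : Mono f := by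
  haveI : Mono ((SheafOfModules.forget R).map f) :=
    PresheafOfModules.mono_of_injective (f := f.val) (fun V => h V)
  exact (SheafOfModules.forget R).mono_of_mono_map inferInstance

theorem epi_of_surjective_app {M N : SheafOfModules.{u} R} (f : M ⟶ N)
    (h : ∀ V : Dᵒᵖ, Function.Surjective (f.val.app V).hom) : Epi f := by
  apply epi_of_isLocallySurjective
  apply Presheaf.isLocallySurjective_of_surjective
  intro V s
  exact h V s

theorem isIso_of_bijective_app {M N : SheafOfModules.{u} R} (f : M ⟶ N)
    (h₁ : ∀ V : Dᵒᵖ, Function.Injective (f.val.app V).hom)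
    (h₂ : ∀ V : Dᵒᵖ, Function.Surjective (f.val.app V).hom) : IsIso f := by
  haveI := mono_of_injective_app f h₁
  haveI := epi_of_surjective_app f h₂
  exact isIso_of_mono_of_epi f

end General

variable {C : Type u} [SmallCategory C] {J : GrothendieckTopology C}

section Lift

variable (O : Sheaf J CommRingCat.{u}) (U : C) [ModSite.HasPushOver O U]

/-- lifting a morphism vanishing on `U` to `Γ_Z`. -/
noncomputable def sectOnLift {T N : ModSite.Mod O} (h : T ⟶ N)
    (hh : (ModSite.restr O U).map h = 0) : T ⟶ (ModSite.sectOn O U).obj N :=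
  kernel.lift _ h ((comp_unit_eq_zero_iff_restr O U _).2 hh)

theorem sectOnLift_ι {T N : ModSite.Mod O} (h : T ⟶ N)
    (hh : (ModSite.restr O U).map h = 0) :
    sectOnLift O U h hh ≫ (ModSite.sectOnι O U).app N = h :=
  kernel.lift_ι _ _ _

theorem sectOnLift_ι_app {T N : ModSite.Mod O} (h : T ⟶ N)
    (hh : (ModSite.restr O U).map h = 0) (V : Cᵒᵖ) (s : T.val.obj V) :
    (((ModSite.sectOnι O U).app N).val.app V).hom (((sectOnLift O U h hh).val.app V).hom s) =
      (h.val.app V).hom s :=
  congrArg (fun t : T ⟶ N => (t.val.app V).hom s) (sectOnLift_ι O U h hh)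

instance mono_sectOnι_app (N : ModSite.Mod O) : Mono ((ModSite.sectOnι O U).app N) := by
  change Mono (kernel.ι _)
  infer_instance

theorem sectOnι_naturality {M N : ModSite.Mod O} (h : M ⟶ N) :
    (ModSite.sectOn O U).map h ≫ (ModSite.sectOnι O U).app N =
      (ModSite.sectOnι O U).app M ≫ h :=
  (ModSite.sectOnι O U).naturality h

end Lift

end Groth.Agent.Lib.Helper21.GammaZ
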