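import Mathlib
import Groth.Prelude
import Groth.Agent.Lib.Helper23TensorMap
import Groth.Agent.Lib.Helper23SecTw10
import Groth.Agent.Lib.Helper23Serre
import Groth.Agent.Lib.Helper21GammaZNat0
import Groth.Agent.Lib.Helper23Extend
import Groth.Agent.Lib.Helper23SecTw7
set_option backward.isDefEq.respectTransparency.types false

/-!
# Cohomological criterion for ampleness (helper23)

Namespace `Groth.Agent.Lib.Helper23.CohAmple`.

* `exists_app_eq_of_shortExact` : sections killed by `S.g` come from `S.X₁` (short exact sequences of modules).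
* `mono_mulHom` : for `ι : K ⟶ O_X` mono and `P` invertible, `K ⊗ P ⟶ P` is mono.
* `exists_affine_genLocus_of_closed_point`, `isAmple_of_vanishing` : if `X` is quasi-compact, `L` invertible and every
  quasi-coherent ideal `I` has `H¹(X, I ⊗ L^{n+1}) = 0` for some `n`, then `L` is ample.
-/

set_option autoImplicit false
universe u
open CategoryTheory CategoryTheory.Limits AlgebraicGeometry TopologicalSpace Opposite

namespace Groth.Agent.Lib.Helper23.CohAmple
open Groth.Agent.Lib.Helper23.SecTw Groth.Agent.Lib.Helper23.GenLocus Groth.Agent.Lib.Helper6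
open Groth.Agent.Lib.Helper23.TensorMap Groth.Agent.Lib.Helper23.Extend

variable {X : Scheme.{u}}

/-- sections killed by `S.g` come from `S.X₁`, for a short exact sequence of modules -/
theorem exists_app_eq_of_shortExact (S : ShortComplex X.Modules) (hS : S.ShortExact) (W : X.Opens)
    (t : Γ(S.X₂, W)) (ht : S.g.app W t = 0) : ∃ z : Γ(S.X₁, W), S.f.app W z = t := by
  have := hS.mono_f
  let e : S.X₁ ≅ kernel S.g := IsLimit.conePointUniqueUpToIso hS.exact.fIsKernel (limit.isLimit _)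
  have he : e.hom ≫ kernel.ι S.g = S.f :=
    IsLimit.conePointUniqueUpToIso_hom_comp hS.exact.fIsKernel (limit.isLimit _) WalkingParallelPair.zero
  have he' : e.inv ≫ S.f = kernel.ι S.g := by rw [← he, Iso.inv_hom_id_assoc]
  refine ⟨e.inv.app W (OmegaSh.kerLift S.g W t ht), ?_⟩
  have h1 := congrArg (fun φ : kernel S.g ⟶ S.X₂ => φ.app W (OmegaSh.kerLift S.g W t ht)) he'
  exact h1.trans (OmegaSh.ι_kerLift S.g W t ht)

/-- tensoring a monomorphism into `O_X` with an invertible module and multiplying is a monomorphism -/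
theorem mono_mulHom {K : X.Modules} (ι : K ⟶ Coh.structureModule X) [Mono ι] (P : X.Modules)
    (hP : PicF.IsInvertible P) : Mono (mulHom ι P) := by
  apply Groth.Agent.Lib.Helper21.GammaZ.mono_of_injective_app
  intro V
  rw [injective_iff_map_eq_zero]
  intro z hz
  induction V using Opposite.rec with | _ W => ?_
  change Γ(CohB1.tensorMod K P, W) at z
  replace hz : (mulHom ι P).app W z = 0 := hz
  choose W' e hyW' hgen using exists_gen P hP
  refine (modSheaf (CohB1.tensorMod K P)).eq_of_locally_eq' (fun y : W => W ⊓ W' y.1) W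
    (fun y => homOfLE inf_le_left) ?_ z 0 (fun y => ?_)
  · intro y hy
    exact Opens.mem_iSup.2 ⟨⟨y, hy⟩, hy, hyW' y⟩
  · have hle : W ⊓ W' y.1 ≤ W' y.1 := inf_le_right
    obtain ⟨k, hk⟩ := (bijective_tm_of_isGen K P (W' y.1) (e y.1) (hgen y.1) (W ⊓ W' y.1) hle).2
      (res (CohB1.tensorMod K P) inf_le_left z)
    change res (CohB1.tensorMod K P) inf_le_left z = res (CohB1.tensorMod K P) inf_le_left 0
    rw [res_zero]
    replace hk : tm K P (W ⊓ W' y.1) k (res P hle (e y.1)) = res (CohB1.tensorMod K P) inf_le_left z := hk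
    rw [← hk]
    have h1 : (mulHom ι P).app (W ⊓ W' y.1) (tm K P (W ⊓ W' y.1) k (res P hle (e y.1))) = 0 := by
      rw [hk]
      have := app_map (mulHom ι P) (homOfLE (inf_le_left : W ⊓ W' y.1 ≤ W)) z
      refine this.trans ?_
      rw [hz]
      exact map_zero _
    rw [mulHom_tm] at h1
    have h2 : ofS (W ⊓ W' y.1) (ι.app (W ⊓ W' y.1) k) = 0 := by
      apply (hgen y.1 (W ⊓ W' y.1) hle).1
      change ofS (W ⊓ W' y.1) (ι.app (W ⊓ W' y.1) k) • res P hle (e y.1) = (0 : Γ(X, W ⊓ W' y.1)) • res P hle (e y.1)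
      rw [h1, zero_smul]
    have h3 : k = 0 := by
      apply injective_app_of_mono ι (W ⊓ W' y.1)
      rw [map_zero]
      exact h2
    rw [h3, tm_zero_left]

open Groth.Agent.Lib.Helper23.Serre Groth.Agent.Lib.Helper23.AffVanish Groth.Agent.Lib.Helper23.QCohLocal in
theorem exists_affine_genLocus_of_closed_point (L : X.Modules) (hL : PicF.IsInvertible L)
    (h : ∀ (I : X.Modules) (i : I ⟶ Coh.structureModule X), Mono i → Coh.IsQCoh I →
      ∃ n : ℕ, Subsingleton (Coh.HH X (CohB1.tensorMod I (CohB1.tensorPow L (n + 1))) 1))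
    (x : X) (hx : IsClosed ({x} : Set X)) :
    ∃ (n : ℕ) (s : Coh.structureModule X ⟶ CohB1.tensorPow L (n + 1)),
      x ∈ CohB1.genLocus _ s ∧ IsAffineOpen (CohB1.genLocus _ s) := by
  obtain ⟨W₀, e₀, hxW₀, hgen₀⟩ := exists_gen L hL x
  obtain ⟨_, ⟨U, hU, rfl⟩, hxU, hUW₀⟩ :=
    X.isBasis_affineOpens.exists_subset_of_mem_open hxW₀ W₀.isOpen
  have hgenU : IsGen L U (res L hUW₀ e₀) := hgen₀.mono hUW₀
  let T : Closeds X := ⟨(U : Set X)ᶜ ∪ {x}, U.isOpen.isClosed_compl.union hx⟩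
  let J := Scheme.IdealSheafData.vanishingIdeal T
  let i : J.subscheme ⟶ X := J.subschemeι
  have hrange : Set.range i = (U : Set X)ᶜ ∪ {x} := by
    rw [J.range_subschemeι]
    exact Scheme.IdealSheafData.coe_support_vanishingIdeal T
  let Ux : X.Opens := ⟨({x} : Set X)ᶜ, hx.isOpen_compl⟩
  have : (Coh.structureModule X).IsQuasicoherent := isQuasicoherent_structureModule' X
  have : (Coh.structureModule J.subscheme).IsQuasicoherent := isQuasicoherent_structureModule' _
  have : ((Scheme.Modules.pushforward i).obj (Coh.structureModule J.subscheme)).IsQuasicoherent :=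
    isQuasicoherent_pushforward i _
  let K : X.Modules := kernel (unitPush i)
  let ι : K ⟶ Coh.structureModule X := kernel.ι (unitPush i)
  have hK : K.IsQuasicoherent := isQuasicoherent_kernel (unitPush i)
  have hιm : Mono ι := inferInstanceAs (Mono (kernel.ι (unitPush i)))
  obtain ⟨n, hn⟩ := h K ι hιm hK
  refine ⟨n, ?_⟩
  let P := CohB1.tensorPow L (n + 1)
  have hP : PicF.IsInvertible P := isInvertible_tensorPow hL (n + 1)
  let p : Γ(P, U) := pw L U (res L hUW₀ e₀) (n + 1)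
  have hp : IsGen P U p := isGen_pw L U _ hgenU (n + 1)
  have hmono : Mono (mulHom ι P) := mono_mulHom ι P hP
  let S : ShortComplex X.Modules :=
    ShortComplex.mk (mulHom ι P) (cokernel.π (mulHom ι P)) (cokernel.condition _)
  have hS : S.ShortExact :=
    { exact := ShortComplex.exact_cokernel _
      mono_f := hmono
      epi_g := inferInstanceAs (Epi (cokernel.π (mulHom ι P))) }
  have hsub : Subsingleton (HE (ab' (CohB1.tensorMod K P)) 1 ⊤) :=
    (HETopEquivH X.carrier (ab' (CohB1.tensorMod K P)) 1).toEquiv.subsingleton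
  have hsurj := surjective_app_of_subsingleton_HE S hS ⊤ hsub
  -- sections of the ideal vanish on `Z`
  have hvan : ∀ (W : X.Opens) (k : Γ(K, W)), i.app W (ofS W (ι.app W k)) = 0 := by
    intro W k
    have h1 : (unitPush i).app W (ι.app W k) = 0 := by
      have h0 : ι ≫ unitPush i = 0 := kernel.condition (unitPush i)
      have := congrArg (fun φ : K ⟶ _ => φ.app W k) h0
      exact this
    have h2 := unitPush_app i W (ofS W (ι.app W k))
    rw [toS_ofS, h1] at h2
    exact (congrArg (ofS (i ⁻¹ᵁ W)) h2).symm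
  have hsup : U ⊔ Ux = ⊤ := by
    ext z
    simp only [Opens.coe_sup, Set.mem_union, SetLike.mem_coe, Opens.coe_top, Set.mem_univ, iff_true]
    by_cases hz : z = x
    · left; rw [hz]; exact hxU
    · right; exact hz
  have hA : i ⁻¹ᵁ (U ⊓ Ux) = ⊥ := by
    ext z
    simp only [Opens.coe_bot, Set.mem_empty_iff_false, iff_false]
    rintro ⟨hz1, hz2⟩
    have hz : i z ∈ (U : Set X)ᶜ ∪ {x} := hrange ▸ Set.mem_range_self z
    rcases hz with hz | hz
    · exact hz hz1
    · exact hz2 hz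
  have h1A : (unitPush i).app (U ⊓ Ux) (toS (U ⊓ Ux) 1) = 0 := by
    rw [unitPush_app]
    have hss : Subsingleton Γ(J.subscheme, i ⁻¹ᵁ (U ⊓ Ux)) := by rw [hA]; infer_instance
    exact congrArg (toS _) (Subsingleton.elim _ _)
  let k₁ : Γ(K, U ⊓ Ux) := OmegaSh.kerLift (unitPush i) (U ⊓ Ux) (toS (U ⊓ Ux) 1) h1A
  have hk₁ : ι.app (U ⊓ Ux) k₁ = toS (U ⊓ Ux) 1 := OmegaSh.ι_kerLift _ _ _ h1A
  have hgf : ∀ (W : X.Opens) (z : Γ(S.X₁, W)), S.g.app W (S.f.app W z) = 0 := by
    intro W z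
    have := congrArg (fun φ : S.X₁ ⟶ S.X₃ => φ.app W z) S.zero
    exact this
  have hzero : res S.X₃ (inf_le_left : U ⊓ Ux ≤ U) (S.g.app U p) =
      res S.X₃ (inf_le_right : U ⊓ Ux ≤ Ux) 0 := by
    rw [res_zero]
    have h1 : res S.X₃ inf_le_left (S.g.app U p) = S.g.app (U ⊓ Ux) (res P inf_le_left p) :=
      (app_map S.g (homOfLE inf_le_left) p).symm
    rw [h1]
    have h2 : res P inf_le_left p = S.f.app (U ⊓ Ux) (tm K P (U ⊓ Ux) k₁ (res P inf_le_left p)) := by
      change _ = (mulHom ι P).app _ _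
      rw [mulHom_tm, hk₁]
      exact (one_smul _ _).symm
    rw [h2]
    exact hgf _ _
  obtain ⟨c, hc1, hc2⟩ := exists_res_eq₂ S.X₃ (le_top : U ≤ ⊤) (le_top : Ux ≤ ⊤) (le_of_eq hsup.symm)
    inf_le_left inf_le_right le_rfl (S.g.app U p) 0 hzero
  obtain ⟨σ, hσ⟩ := hsurj c
  let s : Coh.structureModule X ⟶ P := secHom P σ
  have hgσ : ∀ W : X.Opens, S.g.app W (res P le_top σ) = res S.X₃ le_top c := by
    intro W
    rw [← hσ]
    exact app_map S.g (homOfLE le_top) σ
  -- on `U`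
  have hσU : S.g.app U (res P le_top σ - p) = 0 := by
    rw [map_sub, hgσ, hc1, sub_self]
  obtain ⟨z, hz⟩ := exists_app_eq_of_shortExact S hS U _ hσU
  obtain ⟨k, hk⟩ := (bijective_tm_of_isGen K P U p hp U le_rfl).2 z
  replace hk : tm K P U k (res P le_rfl p) = z := hk
  rw [SecTw.res_self] at hk
  have hsvU : sv s U = (1 + ofS U (ι.app U k)) • p := by
    rw [sv_secHom, add_smul, one_smul]
    have h1 : (mulHom ι P).app U (tm K P U k p) = res P le_top σ - p := by
      rw [hk]; exact hz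
    rw [mulHom_tm] at h1
    rw [h1]
    abel
  have hlocU := genLocus_inf_eq_of_isGen P s U p _ hp hsvU
  have hxr : x ∈ Set.range i := by rw [hrange]; right; rfl
  obtain ⟨z₀, hz₀⟩ := hxr
  have hxmem : x ∈ X.basicOpen (1 + ofS U (ι.app U k)) := by
    have hpre : i ⁻¹ᵁ (X.basicOpen (1 + ofS U (ι.app U k))) = i ⁻¹ᵁ U := by
      rw [Scheme.preimage_basicOpen, map_add, hvan, map_one, add_zero]
      exact J.subscheme.basicOpen_of_isUnit isUnit_one
    have : z₀ ∈ i ⁻¹ᵁ (X.basicOpen (1 + ofS U (ι.app U k))) := by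
      rw [hpre]
      change i z₀ ∈ U
      rw [hz₀]; exact hxU
    rw [← hz₀]
    exact this
  have hle : CohB1.genLocus P s ≤ U := by
    intro y hy
    by_contra hyU
    have hyr : y ∈ Set.range i := by rw [hrange]; left; exact hyU
    obtain ⟨zy, rfl⟩ := hyr
    have hyx : i zy ∈ Ux := by
      intro hzx
      rw [Set.mem_singleton_iff] at hzx
      rw [hzx] at hyU
      exact hyU hxU
    obtain ⟨W₁, q₁, hyW₁, hq₁⟩ := exists_gen P hP (i zy)
    have hq : IsGen P (W₁ ⊓ Ux) (res P inf_le_left q₁) := hq₁.mono inf_le_left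
    have hσW : S.g.app (W₁ ⊓ Ux) (res P le_top σ) = 0 := by
      rw [hgσ]
      have : res S.X₃ (le_top : W₁ ⊓ Ux ≤ ⊤) c = res S.X₃ (inf_le_right : W₁ ⊓ Ux ≤ Ux) (res S.X₃ le_top c) := by
        rw [res_res]
      rw [this, hc2, res_zero]
    obtain ⟨z', hz'⟩ := exists_app_eq_of_shortExact S hS (W₁ ⊓ Ux) _ hσW
    obtain ⟨k', hk'⟩ := (bijective_tm_of_isGen K P (W₁ ⊓ Ux) _ hq (W₁ ⊓ Ux) le_rfl).2 z'
    replace hk' : tm K P (W₁ ⊓ Ux) k' (res P le_rfl (res P inf_le_left q₁)) = z' := hk'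
    rw [SecTw.res_self] at hk'
    have hsvW : sv s (W₁ ⊓ Ux) = (ofS _ (ι.app (W₁ ⊓ Ux) k')) • res P inf_le_left q₁ := by
      rw [sv_secHom]
      have h1 : (mulHom ι P).app (W₁ ⊓ Ux) (tm K P (W₁ ⊓ Ux) k' (res P inf_le_left q₁)) = res P le_top σ := by
        rw [hk']; exact hz'
      rw [mulHom_tm] at h1
      exact h1.symm
    have hlocW := genLocus_inf_eq_of_isGen P s (W₁ ⊓ Ux) _ _ hq hsvW
    have hmem : i zy ∈ X.basicOpen (ofS _ (ι.app (W₁ ⊓ Ux) k')) := by
      rw [← hlocW]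
      exact ⟨hy, hyW₁, hyx⟩
    have hpre : i ⁻¹ᵁ (X.basicOpen (ofS _ (ι.app (W₁ ⊓ Ux) k'))) = ⊥ := by
      rw [Scheme.preimage_basicOpen, hvan, Scheme.basicOpen_zero]
    have : zy ∈ i ⁻¹ᵁ (X.basicOpen (ofS _ (ι.app (W₁ ⊓ Ux) k'))) := hmem
    rw [hpre] at this
    exact this
  refine ⟨s, ?_, ?_⟩
  · have : x ∈ CohB1.genLocus P s ⊓ U := by rw [hlocU]; exact hxmem
    exact this.1
  · have h1 := isAffineOpen_inf_genLocus P hP s U hU
    rwa [inf_eq_right.2 hle] at h1

/-- cohomological criterion for ampleness -/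
theorem isAmple_of_vanishing [CompactSpace X] (L : X.Modules) (hL : PicF.IsInvertible L)
    (h : ∀ (I : X.Modules) (i : I ⟶ Coh.structureModule X), Mono i → Coh.IsQCoh I →
      ∃ n : ℕ, Subsingleton (Coh.HH X (CohB1.tensorMod I (CohB1.tensorPow L (n + 1))) 1)) :
    CohB1.IsAmple L := by
  refine ⟨hL, inferInstance, fun y => ?_⟩
  by_contra hcon
  push Not at hcon
  let Idx := {q : Σ n : ℕ, (Coh.structureModule X ⟶ CohB1.tensorPow L (n + 1)) //
    IsAffineOpen (CohB1.genLocus _ q.2)}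
  let W : X.Opens := ⨆ q : Idx, CohB1.genLocus _ q.1.2
  have hyW : y ∉ W := by
    intro hy
    obtain ⟨q, hq⟩ := Opens.mem_iSup.1 hy
    exact hcon q.1.1 q.1.2 hq q.2
  obtain ⟨x, hxW, hx⟩ := IsClosed.exists_closed_singleton (S := (W : Set X)ᶜ) W.isOpen.isClosed_compl ⟨y, hyW⟩
  obtain ⟨n, s, hxs, haff⟩ := exists_affine_genLocus_of_closed_point L hL h x hx
  exact hxW (Opens.mem_iSup.2 ⟨⟨⟨n, s⟩, haff⟩, hxs⟩)

end Groth.Agent.Lib.Helper23.CohAmple
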