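import Mathlib
import Groth.Agent.Lib.Helper4CurvePt
import Groth.Agent.Lib.Helper4CurveDegSec
import Groth.Agent.Lib.Helper27TensorLin
import Groth.Agent.Lib.Helper27SerreVan
import Groth.Agent.Lib.Helper17HHLes
import Groth.Agent.Lib.Helper4CurveDegT
import Groth.Agent.Lib.Helper21UnitHom
import Groth.Agent.S0051
import Groth.Agent.Lib.Helper23GenLocus

/-!
# Serre vanishing on integral proper curves without duality or projectivity (helper4)

For an integral proper curve `X` over a field `k`, a coherent `M` and an invertible `L`: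

* `hhMapLin` : `φ ↦ H^r(φ)` is `k`-linear in `φ`;
* `homH0Equiv` : `Hom(O, L) ≃ₗ[k] H⁰(L)`;
* `surjective_H1_of_cokernel`, `surjective_H1_tw` : a nonzero section `t` of an invertible `P`
  induces a surjection `H¹(O ⊗ M) → H¹(P ⊗ M)`;
* `h0_le_mul_h1` : if `H¹(P ⊗ M) ≠ 0` then `h⁰(P) ≤ h¹(O ⊗ M) · h¹(P ⊗ M)` (the map
  `t ↦ H¹(t ⊗ M)` is an injective linear map `H⁰(P) → Hom(H¹(O ⊗ M), H¹(P ⊗ M))`);
* `subsingleton_H1_tensorPow` : **effective Serre vanishing**: `H¹(M ⊗ L^n) = 0` as soon as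
  `n · deg L + χ(O) > h¹(M)²`;
* `isAmple_iff_deg_pos` (S1530) : `L` is ample iff `deg L > 0`.
-/

set_option autoImplicit false
set_option linter.style.haveILetI false
universe u
open CategoryTheory CategoryTheory.Limits AlgebraicGeometry TopologicalSpace Opposite

namespace Groth.Agent.Lib.Helper4.CurveAsym

open Groth.Agent.Lib.Helper27PnSections Groth.Agent.Lib.Helper4.CurveDegSec
  Groth.Agent.Lib.Helper17.HHLes Groth.Agent.Lib.Helper4.Dev Groth.Agent.Lib.Helper27SerreVan
  Groth.Agent.Lib.Helper6.CurveDeg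

section Lin

variable (k : Type u) [Field k] {X : Scheme.{u}} [X.Over (Spec (CommRingCat.of k))]

theorem HHlin_add {F G : X.Modules} (φ ψ : F ⟶ G) (r : ℕ) :
    Canon.HHlin k (φ + ψ) r = Canon.HHlin k φ r + Canon.HHlin k ψ r := by
  ext x
  change Sheaf.H.map ((Groth.Agent.Lib.Helper23.QCohLocal.toAbF X).map (φ + ψ)) r x =
    Sheaf.H.map ((Groth.Agent.Lib.Helper23.QCohLocal.toAbF X).map φ) r x +
      Sheaf.H.map ((Groth.Agent.Lib.Helper23.QCohLocal.toAbF X).map ψ) r x
  rw [Functor.map_add]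
  exact Sheaf.H.map_add_apply _ _ _

theorem HHlin_smulMod (F : X.Modules) (a : k) (r : ℕ) (x : Coh.HH X F r) :
    Canon.HHlin k (Formal.smulMod k F a) r x = a • x := rfl

theorem HHlin_smul {F G : X.Modules} (a : k) (φ : F ⟶ G) (r : ℕ) :
    Canon.HHlin k (a • φ) r = a • Canon.HHlin k φ r := by
  ext x
  rw [KLin.smul_def, Groth.Agent.Lib.Helper4.CurveChi.HHlin_comp, HHlin_smulMod,
    LinearMap.smul_apply, map_smul]

/-- `φ ↦ H^r(φ)` as a `k`-linear map -/
noncomputable def hhMapLin (F G : X.Modules) (r : ℕ) :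
    (F ⟶ G) →ₗ[k] (Coh.HH X F r →ₗ[k] Coh.HH X G r) where
  toFun φ := Canon.HHlin k φ r
  map_add' φ ψ := HHlin_add k φ ψ r
  map_smul' a φ := HHlin_smul k a φ r

theorem hhMapLin_apply (F G : X.Modules) (r : ℕ) (φ : F ⟶ G) :
    hhMapLin k F G r φ = Canon.HHlin k φ r := rfl

/-- `Hom(O, L) ≃+ Γ(L, ⊤)` -/
noncomputable def homSecEquiv (L : X.Modules) : (Coh.structureModule X ⟶ L) ≃+ Γ(L, ⊤) :=
  Groth.Agent.Lib.Helper21.UnitHom.unitHomAddEquiv (R := X.ringCatSheaf)
    (Limits.isTerminalTop (α := X.Opens)) L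

theorem homSecEquiv_smul (L : X.Modules) (a : k) (s : Coh.structureModule X ⟶ L) :
    homSecEquiv L (a • s) =
      @HSMul.hSMul Γ(X, ⊤) Γ(L, ⊤) Γ(L, ⊤) _ (Coh.toGlobal (X ↘ Spec (CommRingCat.of k)) a)
        (homSecEquiv L s) := by
  have h := KLin.smul_app_apply a s ⊤ (1 : Γ(X, ⊤))
  have h2 : X.presheaf.map (homOfLE (le_top : (⊤ : X.Opens) ≤ ⊤)).op
      (Coh.toGlobal (X ↘ Spec (CommRingCat.of k)) a) = Coh.toGlobal (X ↘ Spec (CommRingCat.of k)) a := by
    change X.presheaf.map (𝟙 _) _ = _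
    rw [X.presheaf.map_id]
    rfl
  rw [h2] at h
  exact h

/-- `Hom(O, L) ≃ₗ[k] H⁰(L)` -/
noncomputable def homH0Equiv (L : X.Modules) : (Coh.structureModule X ⟶ L) ≃ₗ[k] Coh.HH X L 0 :=
  { (homSecEquiv L).trans (hh0Equiv X L).symm with
    map_smul' := fun a s => by
      apply (hh0Equiv X L).injective
      change hh0Equiv X L ((hh0Equiv X L).symm (homSecEquiv L (a • s))) =
        hh0Equiv X L (a • (hh0Equiv X L).symm (homSecEquiv L s))
      have h2 : a • (hh0Equiv X L).symm (homSecEquiv L s) =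
        (Coh.toGlobal (X ↘ Spec (CommRingCat.of k)) a) • (hh0Equiv X L).symm (homSecEquiv L s) := rfl
      rw [h2, hh0Equiv_smul']
      refine (AddEquiv.apply_symm_apply (hh0Equiv X L) _).trans ?_
      refine (homSecEquiv_smul k L a s).trans ?_
      exact congrArg (fun z => @HSMul.hSMul Γ(X, ⊤) Γ(L, ⊤) Γ(L, ⊤) _
        (Coh.toGlobal (X ↘ Spec (CommRingCat.of k)) a) z)
        (AddEquiv.apply_symm_apply (hh0Equiv X L) _).symm }

theorem finrank_hom_eq (L : X.Modules) :
    Module.finrank k (Coh.structureModule X ⟶ L) = Module.finrank k (Coh.HH X L 0) :=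
  (homH0Equiv k L).finrank_eq

theorem tw_map_smul (M : X.Modules) {A B : X.Modules} (a : k) (t : A ⟶ B) :
    (tw M).map (a • t) = a • (tw M).map t := by
  rw [KLin.smul_def, Functor.map_comp, KLin.smul_def]
  congr 1
  exact Groth.Agent.Lib.Helper27TensorLin.tR_map_smulModΓ M A
    (Coh.toGlobal (X ↘ Spec (CommRingCat.of k)) a)

/-- `t ↦ t ⊗ M` as a `k`-linear map -/
noncomputable def twMapLin (M A B : X.Modules) :
    (A ⟶ B) →ₗ[k] ((tw M).obj A ⟶ (tw M).obj B) where
  toFun t := (tw M).map t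
  map_add' _ _ := Functor.map_add _
  map_smul' a t := tw_map_smul k M a t

theorem twMapLin_apply (M A B : X.Modules) (t : A ⟶ B) : twMapLin k M A B t = (tw M).map t := rfl

end Lin

/-- a scheme which is affine and proper over a field has dimension `≤ 0` -/
theorem dim_le_zero_of_isAffine_of_isProper (k : Type u) [Field k] (X : Scheme.{u})
    (f : X ⟶ Spec (CommRingCat.of k)) [IsProper f] [IsAffine X] :
    topologicalKrullDim X ≤ 0 := by
  haveI : IsAffineHom f := inferInstance
  haveI : IsFinite f := (IsFinite.iff_isProper_and_isAffineHom).2 ⟨inferInstance, inferInstance⟩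
  have hfin : f.appTop.hom.Finite := Scheme.Hom.finite_appTop f
  have hfin2 : ((f.appTop).hom.comp (Scheme.ΓSpecIso (CommRingCat.of k)).inv.hom).Finite := by
    refine RingHom.Finite.comp hfin ?_
    apply RingHom.Finite.of_surjective
    exact (ConcreteCategory.bijective_of_isIso (Scheme.ΓSpecIso (CommRingCat.of k)).inv).2
  letI : Algebra k Γ(X, ⊤) := ((f.appTop).hom.comp (Scheme.ΓSpecIso (CommRingCat.of k)).inv.hom).toAlgebra
  haveI : Module.Finite k Γ(X, ⊤) := hfin2
  haveI : IsArtinianRing Γ(X, ⊤) := IsArtinianRing.of_finite k _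
  have h1 : ringKrullDim Γ(X, ⊤) ≤ 0 := by
    have h := (Ring.krullDimLE_iff (n := 0) (R := Γ(X, ⊤))).1 inferInstance
    simpa using h
  have h2 : topologicalKrullDim (Spec Γ(X, ⊤)) ≤ 0 := by
    rw [show topologicalKrullDim (Spec Γ(X, ⊤)) = ringKrullDim Γ(X, ⊤) from
      PrimeSpectrum.topologicalKrullDim_eq_ringKrullDim _]
    exact h1
  have h3 : topologicalKrullDim X = topologicalKrullDim (Spec Γ(X, ⊤)) :=
    IsHomeomorph.topologicalKrullDim_eq _ (X.isoSpec.hom.homeomorph.isHomeomorph)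
  rw [h3]
  exact h2

section Surj

variable (k : Type u) [Field k] (X : Scheme.{u}) [X.Over (Spec (CommRingCat.of k))]
  [IsProper (X ↘ (Spec (CommRingCat.of k)))]

omit [IsProper (X ↘ (Spec (CommRingCat.of k)))] in
theorem isCoh_tensorMod (F E : X.Modules) (hF : Coh.IsCoh F) (hE : Coh.IsCoh E) :
    Coh.IsCoh (CohB1.tensorMod F E) := by
  haveI : E.IsQuasicoherent := hE.1
  haveI : SheafOfModules.IsFiniteType (R := X.ringCatSheaf) E := hE.2
  haveI : F.IsQuasicoherent := hF.1
  haveI : SheafOfModules.IsFiniteType (R := X.ringCatSheaf) F := hF.2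
  exact ⟨Groth.Agent.Lib.Helper23.TensorQCoh.isQuasicoherent_tensorMod F E,
    Groth.Agent.Lib.Helper23.TensorQCoh.isFiniteType_tensorMod F E⟩

/-- on a proper scheme of dimension `≤ 1`, a map of coherent modules whose cokernel has no `H¹`
is surjective on `H¹` -/
theorem surjective_H1_of_cokernel (hdim : topologicalKrullDim X ≤ 1) {A B : X.Modules} (ψ : A ⟶ B)
    (hA : Coh.IsCoh A) (hB : Coh.IsCoh B) (hQ : Subsingleton (Coh.HH X (cokernel ψ) 1)) :
    Function.Surjective (Canon.HHlin k ψ 1) := by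
  haveI : IsLocallyNoetherian X :=
    LocallyOfFiniteType.isLocallyNoetherian (X ↘ (Spec (CommRingCat.of k)))
  intro x
  set e := Abelian.factorThruImage ψ with he
  set m := Abelian.image.ι ψ with hm
  have hem : e ≫ m = ψ := Abelian.image.fac ψ
  have hQ' : Subsingleton (Coh.HH X (cokernel m) 1) := by
    have eiso : cokernel ψ ≅ cokernel m :=
      (cokernelIsoOfEq hem.symm) ≪≫ cokernelEpiComp e m
    exact (Groth.Agent.Lib.Helper4.CurveChi.HHequiv k eiso 1).symm.toEquiv.subsingleton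
  have step1 : ∃ y : Coh.HH X (Abelian.image ψ) 1, Hm m 1 y = x := by
    haveI : Subsingleton (Coh.HH X (sesOfMono m).X₃ 1) := hQ'
    exact exact₂ (sesOfMono m) (sesOfMono_shortExact m) 1 x (Subsingleton.elim _ _)
  obtain ⟨y, hy⟩ := step1
  have hK : Subsingleton (Coh.HH X (kernel e) 2) :=
    Groth.Agent.Lib.Helper4.CurveRR.HH_subsingleton k X hdim (kernel e)
      (isCoh_kernel e hA (isCoh_image ψ hA hB)) 2 le_rfl
  have step2 : ∃ z : Coh.HH X A 1, Hm e 1 z = y := by
    haveI : Subsingleton (Coh.HH X (sesOfEpi e).X₁ (1 + 1)) := hK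
    exact exact₃ (sesOfEpi e) (sesOfEpi_shortExact e) 1 y (Subsingleton.elim _ _)
  obtain ⟨z, hz⟩ := step2
  refine ⟨z, ?_⟩
  change Hm ψ 1 z = x
  have h1 : Hm ψ 1 z = Hm m 1 (Hm e 1 z) := by
    rw [Hm_comp, hem]
  rw [h1, hz]
  exact hy

omit [X.Over (Spec (CommRingCat.of k))] [IsProper (X ↘ (Spec (CommRingCat.of k)))] in
theorem dim_le_zero_of_subset {S S' : Set X} (h : S ⊆ S') (h' : topologicalKrullDim S' ≤ 0) :
    topologicalKrullDim S ≤ 0 :=
  (Topology.IsEmbedding.inclusion h).isInducing.topologicalKrullDim_le.trans h'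

variable [IsIntegral X]

omit [X.Over (Spec (CommRingCat.of k))] [IsProper (X ↘ (Spec (CommRingCat.of k)))] in
theorem dim_support_cokernel_le (hdim : topologicalKrullDim X = 1) {N L : X.Modules}
    (hN : PicF.IsInvertible N) (hL : PicF.IsInvertible L) (φ : N ⟶ L) (hφ : φ ≠ 0) :
    topologicalKrullDim (CohB1.support (cokernel φ)) ≤ 0 := by
  have cN := isCoh_of_isInvertible N hN
  have cL := isCoh_of_isInvertible L hL
  have cQ : Coh.IsCoh (cokernel φ) := isCoh_cokernel φ cN cL
  have hZ : IsClosed (CohB1.support (cokernel φ)) := Groth.Agent.S0020.result X _ cQ.2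
  have hη : genericPoint X ∉ CohB1.support (cokernel φ) :=
    fun h => h (subsingleton_stalk_cokernel hN hL φ hφ)
  exact topologicalKrullDim_le_zero_of_ne_univ hdim.le _ hZ (fun h => hη (h ▸ Set.mem_univ _))

/-- a nonzero section `t` of an invertible `P` on an integral proper curve induces a surjection
`H¹(O ⊗ M) → H¹(P ⊗ M)` for every coherent `M` -/
theorem surjective_H1_tw (hdim : topologicalKrullDim X = 1) (P : X.Modules) (hP : PicF.IsInvertible P)
    (t : Coh.structureModule X ⟶ P) (ht : t ≠ 0) (M : X.Modules) (hM : Coh.IsCoh M) :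
    Function.Surjective (Canon.HHlin k ((tw M).map t) 1) := by
  have cO := isCoh_structureModule X
  have cP := isCoh_of_isInvertible P hP
  have cQ : Coh.IsCoh (cokernel t) := isCoh_cokernel t cO cP
  have hsupp := dim_support_cokernel_le X hdim
    (Groth.Agent.Lib.Helper23.TensorUnit.isInvertible_structureModule X) hP t ht
  refine surjective_H1_of_cokernel k X hdim.le ((tw M).map t)
    (isCoh_tensorMod X _ M cO hM) (isCoh_tensorMod X _ M cP hM) ?_
  have e : cokernel ((tw M).map t) ≅ CohB1.tensorMod (cokernel t) M :=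
    (PreservesCokernel.iso (tw M) t).symm
  have cT : Coh.IsCoh (CohB1.tensorMod (cokernel t) M) := isCoh_tensorMod X _ M cQ hM
  have hT : Subsingleton (Coh.HH X (CohB1.tensorMod (cokernel t) M) 1) :=
    Groth.Agent.S1526.result k X _ cT
      (dim_le_zero_of_subset X
        (Groth.Agent.Lib.Helper4.ZeroDimChi.support_tensorMod_subset_left (cokernel t) M) hsupp)
      1 le_rfl
  exact (Groth.Agent.Lib.Helper4.CurveChi.HHequiv k e 1).toEquiv.subsingleton

/-- **Key inequality**: if `H¹(P ⊗ M) ≠ 0` then `h⁰(P) ≤ h¹(O ⊗ M) · h¹(P ⊗ M)` -/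
theorem h0_le_mul_h1 (hdim : topologicalKrullDim X = 1) (P : X.Modules) (hP : PicF.IsInvertible P)
    (M : X.Modules) (hM : Coh.IsCoh M)
    (hne : Nontrivial (Coh.HH X (CohB1.tensorMod P M) 1)) :
    Module.finrank k (Coh.HH X P 0) ≤
      Module.finrank k (Coh.HH X (CohB1.tensorMod (Coh.structureModule X) M) 1) *
        Module.finrank k (Coh.HH X (CohB1.tensorMod P M) 1) := by
  have cO := isCoh_structureModule X
  have cP := isCoh_of_isInvertible P hP
  haveI : Module.Finite k (Coh.HH X (CohB1.tensorMod (Coh.structureModule X) M) 1) :=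
    Groth.Agent.S0002.result k X _ (isCoh_tensorMod X _ M cO hM) 1
  haveI : Module.Finite k (Coh.HH X (CohB1.tensorMod P M) 1) :=
    Groth.Agent.S0002.result k X _ (isCoh_tensorMod X _ M cP hM) 1
  let Ψ : (Coh.structureModule X ⟶ P) →ₗ[k]
      (Coh.HH X (CohB1.tensorMod (Coh.structureModule X) M) 1 →ₗ[k]
        Coh.HH X (CohB1.tensorMod P M) 1) :=
    (hhMapLin k ((tw M).obj (Coh.structureModule X)) ((tw M).obj P) 1).comp
      (twMapLin k M (Coh.structureModule X) P)
  have hΨ : ∀ t, Ψ t = Canon.HHlin k ((tw M).map t) 1 := fun t => by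
    change hhMapLin k _ _ 1 (twMapLin k M _ _ t) = _
    rw [hhMapLin_apply, twMapLin_apply]
  have hinj : Function.Injective Ψ := by
    rw [injective_iff_map_eq_zero]
    intro t ht
    by_contra hne0
    have hs := surjective_H1_tw k X hdim P hP t hne0 M hM
    obtain ⟨y, hy⟩ := exists_ne (0 : Coh.HH X (CohB1.tensorMod P M) 1)
    obtain ⟨z, hz⟩ := hs y
    apply hy
    rw [← hz, ← hΨ, ht]
    rfl
  have h1 := LinearMap.finrank_le_finrank_of_injective hinj
  rw [finrank_hom_eq, Module.finrank_linearMap] at h1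
  exact h1

omit [IsIntegral X] in
theorem deg_tensorPow (hdim : topologicalKrullDim X ≤ 1) (L : X.Modules) (hL : PicF.IsInvertible L) :
    ∀ n : ℕ, Curv2.deg k X (CohB1.tensorPow L n) 1 = n * Curv2.deg k X L 1
  | 0 => by
    change Curv2.deg k X (Coh.structureModule X) 1 = _
    rw [deg_structureModule]
    simp
  | n + 1 => by
    have h := Groth.Agent.Lib.Helper4.CurveDegT.deg_tensor k X hdim 1 1 (CohB1.tensorPow L n) L
      (Groth.Agent.Lib.Helper23.SecTw.isFinLocFreeOfRank_one_of_isInvertible _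
        (Groth.Agent.Lib.Helper23.SecTw.isInvertible_tensorPow hL n))
      (Groth.Agent.Lib.Helper23.SecTw.isFinLocFreeOfRank_one_of_isInvertible L hL)
    change Curv2.deg k X (CohB1.tensorMod (CohB1.tensorPow L n) L) 1 = _
    rw [mul_one] at h
    rw [h, deg_tensorPow hdim L hL n]
    push_cast
    ring

/-- **Serre vanishing on an integral proper curve, effectively**: for coherent `M` and invertible `L`,
`H¹(M ⊗ L^n) = 0` as soon as `n · deg L + χ(O) > h¹(M)²`. -/
theorem subsingleton_H1_tensorPow (hdim : topologicalKrullDim X = 1) (L : X.Modules)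
    (hL : PicF.IsInvertible L) (M : X.Modules) (hM : Coh.IsCoh M) (n : ℕ)
    (hn : ((Module.finrank k (Coh.HH X M 1) : ℤ)) ^ 2 <
      n * Curv2.deg k X L 1 + Curv2.euler k X (Coh.structureModule X)) :
    Subsingleton (Coh.HH X (CohB1.tensorMod M (CohB1.tensorPow L n)) 1) := by
  set P := CohB1.tensorPow L n with hPdef
  have hP : PicF.IsInvertible P := Groth.Agent.Lib.Helper23.SecTw.isInvertible_tensorPow hL n
  have cO := isCoh_structureModule X
  have cP := isCoh_of_isInvertible P hP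
  have hdegP : Curv2.deg k X P 1 = n * Curv2.deg k X L 1 := deg_tensorPow k X hdim.le L hL n
  have hχ : Curv2.euler k X P = n * Curv2.deg k X L 1 + Curv2.euler k X (Coh.structureModule X) := by
    rw [← hdegP]
    unfold Curv2.deg
    push_cast
    ring
  have h0 := Groth.Agent.Lib.Helper4.CurveRR.euler_le_h0 k X hdim.le P cP
  set g := Module.finrank k (Coh.HH X M 1) with hg
  have h0' : ((g : ℤ)) ^ 2 < (Module.finrank k (Coh.HH X P 0) : ℤ) := by
    rw [hχ] at h0
    exact lt_of_lt_of_le hn h0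
  have hpos : 0 < Module.finrank k (Coh.HH X P 0) := by
    have : (0 : ℤ) ≤ (g : ℤ) ^ 2 := sq_nonneg _
    have h3 : (0 : ℤ) < (Module.finrank k (Coh.HH X P 0) : ℤ) := lt_of_le_of_lt this h0'
    exact_mod_cast h3
  obtain ⟨t, ht⟩ := Groth.Agent.Lib.Helper4.CurveRR.exists_hom_ne_zero k X P hpos
  by_contra hns
  rw [not_subsingleton_iff_nontrivial] at hns
  let eb := Groth.Agent.Lib.Helper23.AmpleFam2.tensorBraid M P
  haveI hne : Nontrivial (Coh.HH X (CohB1.tensorMod P M) 1) :=
    (Groth.Agent.Lib.Helper4.CurveChi.HHequiv k eb 1).symm.toEquiv.nontrivial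
  have hkey := h0_le_mul_h1 k X hdim P hP M hM hne
  have cOM := isCoh_tensorMod X _ M cO hM
  have cPM := isCoh_tensorMod X _ M cP hM
  haveI : Module.Finite k (Coh.HH X (CohB1.tensorMod (Coh.structureModule X) M) 1) :=
    Groth.Agent.S0002.result k X _ cOM 1
  have hOM : Module.finrank k (Coh.HH X (CohB1.tensorMod (Coh.structureModule X) M) 1) = g :=
    (Groth.Agent.Lib.Helper4.CurveChi.HHequiv k
      (Groth.Agent.Lib.Helper23.TensorUnit.unitTensorIso M) 1).finrank_eq
  have hle : Module.finrank k (Coh.HH X (CohB1.tensorMod P M) 1) ≤ g := by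
    rw [← hOM]
    exact LinearMap.finrank_le_finrank_of_surjective (surjective_H1_tw k X hdim P hP t ht M hM)
  rw [hOM] at hkey
  have h5 : Module.finrank k (Coh.HH X P 0) ≤ g * g := hkey.trans (Nat.mul_le_mul_left g hle)
  have h6 : (Module.finrank k (Coh.HH X P 0) : ℤ) ≤ (g : ℤ) ^ 2 := by
    rw [sq]
    exact_mod_cast h5
  exact absurd h0' (not_lt.2 h6)

end Surj

section Ample

variable (k : Type u) [Field k] (X : Scheme.{u}) [X.Over (Spec (CommRingCat.of k))]
  [IsProper (X ↘ (Spec (CommRingCat.of k)))] [IsIntegral X]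

/-- positive degree implies ample -/
theorem isAmple_of_deg_pos (hdim : topologicalKrullDim X = 1) (L : X.Modules)
    (hL : PicF.IsInvertible L) (hd : 0 < Curv2.deg k X L 1) : CohB1.IsAmple L := by
  rw [Groth.Agent.S0051.result k X (X ↘ (Spec (CommRingCat.of k))) L hL]
  intro M hM
  set g := Module.finrank k (Coh.HH X M 1) with hg
  refine ⟨((g : ℤ) ^ 2 - Curv2.euler k X (Coh.structureModule X)).toNat + 1, ?_⟩
  intro n hn p hp
  have cT : Coh.IsCoh (CohB1.tensorMod M (CohB1.tensorPow L n)) :=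
    isCoh_tensorMod X _ _ hM
      (isCoh_of_isInvertible _ (Groth.Agent.Lib.Helper23.SecTw.isInvertible_tensorPow hL n))
  rcases Nat.lt_or_ge p 2 with hp2 | hp2
  · have hp1 : p = 1 := by omega
    subst hp1
    apply subsingleton_H1_tensorPow k X hdim L hL M hM n
    have h1 : (g : ℤ) ^ 2 - Curv2.euler k X (Coh.structureModule X) ≤
        (((g : ℤ) ^ 2 - Curv2.euler k X (Coh.structureModule X)).toNat : ℤ) := Int.self_le_toNat _
    have h2 : ((((g : ℤ) ^ 2 - Curv2.euler k X (Coh.structureModule X)).toNat + 1 : ℕ) : ℤ) ≤ (n : ℤ) := by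
      exact_mod_cast hn
    push_cast at h2
    have h3 : (n : ℤ) ≤ n * Curv2.deg k X L 1 := by
      have : (0 : ℤ) ≤ n := Int.natCast_nonneg n
      nlinarith
    linarith
  · exact Groth.Agent.Lib.Helper4.CurveRR.HH_subsingleton k X hdim.le _ cT p hp2

omit [X.Over (Spec (CommRingCat.of k))] [IsProper (X ↘ (Spec (CommRingCat.of k)))] [IsIntegral X] in
theorem not_mem_genLocus_zero (P : X.Modules) (x : X) :
    x ∉ CohB1.genLocus P (0 : Coh.structureModule X ⟶ P) := by
  intro hx
  obtain ⟨V, hxV, hV⟩ := (Groth.Agent.Lib.Helper23.GenLocus.mem_genLocus_iff P 0 x).1 hx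
  have hiso : IsIso ((0 : Coh.structureModule X ⟶ P).app V) := hV V le_rfl
  haveI : Nonempty V := ⟨⟨x, hxV⟩⟩
  haveI : Nontrivial Γ(X, V) := inferInstance
  have hbij := ConcreteCategory.bijective_of_isIso ((0 : Coh.structureModule X ⟶ P).app V)
  have h01 : (1 : Γ(X, V)) = 0 := by
    apply hbij.1
    change ((0 : Coh.structureModule X ⟶ P).app V) (1 : Γ(X, V)) = ((0 : Coh.structureModule X ⟶ P).app V) (0 : Γ(X, V))
    rfl
  exact one_ne_zero h01

/-- ample implies positive degree -/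
theorem deg_pos_of_isAmple (hdim : topologicalKrullDim X = 1) (L : X.Modules)
    (hL : PicF.IsInvertible L) (hA : CohB1.IsAmple L) : 0 < Curv2.deg k X L 1 := by
  obtain ⟨-, -, hcov⟩ := hA
  obtain ⟨x⟩ := Groth.Agent.Lib.Helper4.CurveRR.nonempty_of_dim_eq_one hdim
  obtain ⟨n, s, hx, haff⟩ := hcov x
  have hs : s ≠ 0 := by
    rintro rfl
    exact not_mem_genLocus_zero X _ x hx
  have hne : ∃ y : X, y ∉ CohB1.genLocus _ s := by
    by_contra h
    push Not at h
    have htop : CohB1.genLocus _ s = ⊤ := by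
      ext y
      exact ⟨fun _ => trivial, fun _ => h y⟩
    rw [htop] at haff
    haveI : IsAffine (↑(⊤ : X.Opens) : Scheme.{u}) := haff
    haveI : IsAffine X := IsAffine.of_isIso X.topIso.inv
    have h0 := dim_le_zero_of_isAffine_of_isProper k X (X ↘ (Spec (CommRingCat.of k)))
    rw [hdim] at h0
    exact absurd h0 (by norm_num)
  obtain ⟨y, hy⟩ := hne
  have hP := deg_pos k X hdim (CohB1.tensorPow L (n + 1))
    (Groth.Agent.Lib.Helper23.SecTw.isInvertible_tensorPow hL (n + 1)) s hs y hy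
  rw [deg_tensorPow k X hdim.le L hL (n + 1)] at hP
  have hn1 : (0 : ℤ) < ((n + 1 : ℕ) : ℤ) := by exact_mod_cast Nat.succ_pos n
  by_contra hneg
  rw [not_lt] at hneg
  have := mul_nonpos_of_nonneg_of_nonpos hn1.le hneg
  exact absurd hP (not_lt.2 this)
  
/-- **S1530**: on an integral proper curve, ample iff positive degree -/
theorem isAmple_iff_deg_pos (hdim : topologicalKrullDim X = 1) (L : X.Modules)
    (hL : PicF.IsInvertible L) : CohB1.IsAmple L ↔ 0 < Curv2.deg k X L 1 :=
  ⟨deg_pos_of_isAmple k X hdim L hL, isAmple_of_deg_pos k X hdim L hL⟩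

end Ample

end Groth.Agent.Lib.Helper4.CurveAsym
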