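import Mathlib
import Groth.Agent.Lib.Helper4CurveAsym
import Groth.Agent.Lib.Helper4ZeroDimChi
import Groth.Agent.Lib.Helper4DevO
import Groth.Agent.Lib.Helper23AmpleFam2
import Groth.Agent.Lib.Helper21ModTensor3
import Groth.Agent.Lib.Helper21ModTensor5

/-!
# Linear series on a proper curve: `r ≤ d`, with equality only in genus zero (helper4, S1564)

For an integral proper curve `X` over a field `k` with `H⁰(O) = k` and an invertible `L` with a
nonzero section `s` (cokernel `Q`, supported on a finite set of closed points):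

* `h⁰(L) ≤ deg L + 1` (from `CurveDegSec.h0_le_deg_add`);
* if equality holds, `H⁰(L) → H⁰(Q)` is surjective; choosing a section `t` of `L` lifting a
  generator of `Q`, the maps `t : L^n → L^{n+1}` induce epimorphisms `Q ⊗ L^n → Q ⊗ L^{n+1}`, so by
  induction `H⁰(L ⊗ L^n) → H⁰(Q ⊗ L^n)` is surjective for all `n`, hence
  `H¹(L^n) → H¹(L^{n+1})` is injective for all `n`; by effective Serre vanishing
  (`CurveAsym.subsingleton_H1_tensorPow`, `deg L > 0`) `H¹(L^n) = 0` for large `n`, so `H¹(O) = 0`.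
-/

set_option autoImplicit false
set_option linter.style.haveILetI false
universe u
open CategoryTheory CategoryTheory.Limits AlgebraicGeometry TopologicalSpace Opposite

namespace Groth.Agent.Lib.Helper4.CurveGrd

open Groth.Agent.Lib.Helper27PnSections Groth.Agent.Lib.Helper4.CurveDegSec
  Groth.Agent.Lib.Helper17.HHLes Groth.Agent.Lib.Helper4.Dev Groth.Agent.Lib.Helper27SerreVan
  Groth.Agent.Lib.Helper6.CurveDeg Groth.Agent.Lib.Helper4.CurveAsym
  Groth.Agent.Lib.Helper21.ModTensor3 Groth.Agent.Lib.Helper21.ModTensor5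

section Alg

/-- over a local ring, if the images of two maps into a free module of rank one span it and the second
map is not surjective, the first one is surjective -/
theorem surjective_of_sup_range {R : Type*} [CommRing R] [IsLocalRing R] {M M' N : Type*}
    [AddCommGroup M] [Module R M] [AddCommGroup M'] [Module R M'] [AddCommGroup N] [Module R N]
    [Module.Free R N] [Module.Finite R N] (hrk : Module.finrank R N = 1)
    (f : M →ₗ[R] N) (g : M' →ₗ[R] N) (hsup : LinearMap.range f ⊔ LinearMap.range g = ⊤)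
    (hg : ¬ Function.Surjective g) : Function.Surjective f := by
  classical
  let b : Module.Basis (Fin 1) R N := Module.finBasisOfFinrankEq R N hrk
  have hrep : ∀ n : N, n = (b.repr n 0) • b 0 := by
    intro n
    conv_lhs => rw [← b.sum_repr n]
    simp
  have h1 : LinearMap.range g ≤ (IsLocalRing.maximalIdeal R) • (⊤ : Submodule R N) := by
    rintro _ ⟨y, rfl⟩
    by_contra hy
    apply hg
    have ha : IsUnit (b.repr (g y) 0) := by
      by_contra hnu
      apply hy
      rw [hrep (g y)]
      exact Submodule.smul_mem_smul ((IsLocalRing.mem_maximalIdeal _).2 hnu) Submodule.mem_top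
    obtain ⟨a, ha'⟩ := ha
    intro n
    refine ⟨((b.repr n 0) * (↑a⁻¹ : R)) • y, ?_⟩
    rw [map_smul, hrep (g y), ← ha', smul_smul, mul_assoc, Units.inv_mul, mul_one]
    exact (hrep n).symm
  have h2 : (⊤ : Submodule R N) ≤ LinearMap.range f := by
    refine Submodule.le_of_le_smul_of_le_jacobson_bot (I := IsLocalRing.maximalIdeal R)
      (Module.Finite.fg_top) (IsLocalRing.maximalIdeal_le_jacobson ⊥) ?_
    calc (⊤ : Submodule R N) = LinearMap.range f ⊔ LinearMap.range g := hsup.symm
      _ ≤ LinearMap.range f ⊔ (IsLocalRing.maximalIdeal R) • (⊤ : Submodule R N) :=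
        sup_le_sup_left h1 _
  exact LinearMap.range_eq_top.1 (top_le_iff.1 h2)

end Alg

section Nat

variable (k : Type u) [Field k] {X : Scheme.{u}} [X.Over (Spec (CommRingCat.of k))]

/-- naturality of `Hom(O, L) ≃ H⁰(L)` -/
theorem homH0Equiv_comp {L Q : X.Modules} (s : Coh.structureModule X ⟶ L) (π : L ⟶ Q) :
    homH0Equiv k Q (s ≫ π) = Canon.HHlin k π 0 (homH0Equiv k L s) := by
  change (hh0Equiv X Q).symm (homSecEquiv Q (s ≫ π)) =
    Sheaf.H.map ((SheafOfModules.toSheaf X.ringCatSheaf).map π) 0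
      ((hh0Equiv X L).symm (homSecEquiv L s))
  exact (Sheaf.H.equiv₀_symm_naturality (Limits.isTerminalTop (α := X.Opens))
    ((SheafOfModules.toSheaf X.ringCatSheaf).map π) (homSecEquiv L s)).symm

end Nat

section Supp

variable {X : Scheme.{u}}

theorem support_tensorMod_subset_right (F E : X.Modules) :
    CohB1.support (CohB1.tensorMod F E) ⊆ CohB1.support E := by
  intro x hx hE
  apply hx
  haveI : Subsingleton ↑(E.presheaf.stalk x) := hE
  exact (Groth.Agent.Lib.Helper4.KTensor.stalkTensorEquiv F E x).toEquiv.subsingleton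

theorem support_kernel_subset {A B : X.Modules} (ψ : A ⟶ B) :
    CohB1.support (kernel ψ) ⊆ CohB1.support A := by
  intro x hx hA
  apply hx
  haveI : Subsingleton ↑(A.presheaf.stalk x) := hA
  exact (stalkL_injective_of_mono (kernel.ι ψ) x).subsingleton

theorem support_subset_of_epi {A B : X.Modules} (ψ : A ⟶ B) [Epi ψ] :
    CohB1.support B ⊆ CohB1.support A := by
  intro x hx hA
  apply hx
  haveI : Subsingleton ↑(A.presheaf.stalk x) := hA
  exact (stalkL_surjective_of_epi ψ x).subsingleton

theorem support_eq_of_iso {A B : X.Modules} (e : A ≅ B) :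
    CohB1.support A = CohB1.support B :=
  Set.Subset.antisymm (support_subset_of_epi e.inv) (support_subset_of_epi e.hom)

/-- `Q ⊗ -` as a functor on `O_X`-modules -/
noncomputable def tl (Q : X.Modules) : X.Modules ⥤ X.Modules := tL X.sheaf Q

theorem tl_obj (Q F : X.Modules) : (tl Q).obj F = CohB1.tensorMod Q F := rfl

instance tl_preservesFiniteColimits (Q : X.Modules) : PreservesFiniteColimits (tl Q) :=
  tL_preservesFiniteColimits X.sheaf Q

instance tl_additive (Q : X.Modules) : (tl Q).Additive := tL_additive X.sheaf Q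

/-- bifunctoriality of the tensor product -/
theorem tw_tl_comm {A A' G G' : X.Modules} (f : A ⟶ A') (φ : G ⟶ G') :
    (tw G).map f ≫ (tl A').map φ = (tl A).map φ ≫ (tw G').map f :=
  (((ModSite.tensorBi X.sheaf).map f).naturality φ).symm

/-- `Q ⊗ φ` is an epimorphism if the cokernel of `φ` is supported away from `Q` -/
theorem epi_tl_map (Q : X.Modules) {G G' : X.Modules} (φ : G ⟶ G')
    (h : ∀ x, x ∈ CohB1.support Q → x ∉ CohB1.support (cokernel φ)) : Epi ((tl Q).map φ) := by
  have e : cokernel ((tl Q).map φ) ≅ CohB1.tensorMod Q (cokernel φ) :=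
    (PreservesCokernel.iso (tl Q) φ).symm
  have hz : IsZero (CohB1.tensorMod Q (cokernel φ)) := by
    apply isZero_of_support_eq_empty
    rw [Set.eq_empty_iff_forall_notMem]
    intro x hx
    exact h x (Groth.Agent.Lib.Helper4.ZeroDimChi.support_tensorMod_subset_left _ _ hx)
      (support_tensorMod_subset_right _ _ hx)
  exact Preadditive.epi_of_isZero_cokernel _ (hz.of_iso e)

/-- a quotient of a rank one locally free module with finite support consisting of closed points is
globally generated by a single section -/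
theorem exists_hom_stalk_surjective (L Q : X.Modules) (hL : FlatMod.IsFinLocFreeOfRank 1 L)
    (π : L ⟶ Q) [Epi π] (Z : Finset X) (hcl : ∀ x ∈ Z, IsClosed ({x} : Set X))
    (hsupp : CohB1.support Q ⊆ (Z : Set X)) :
    ∃ u : Coh.structureModule X ⟶ Q, ∀ x, Function.Surjective (stalkL u x) := by
  classical
  have hgen : ∀ x : X, ∃ e : L.presheaf.stalk x, ∀ n : L.presheaf.stalk x,
      ∃ r : X.presheaf.stalk x, n = r • e := by
    intro x
    obtain ⟨h1, h2, h3⟩ := Groth.Agent.Lib.Helper4.KTensor.stalk_of_isFinLocFreeOfRank L 1 hL x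
    let b : Module.Basis (Fin 1) (X.presheaf.stalk x) (L.presheaf.stalk x) :=
      Module.finBasisOfFinrankEq _ _ h3
    refine ⟨b 0, fun n => ⟨b.repr n 0, ?_⟩⟩
    conv_lhs => rw [← b.sum_repr n]
    simp
  choose e he using hgen
  obtain ⟨ũ, hũ⟩ := Groth.Agent.Lib.Helper4.ZeroDimChi.exists_section_germ Q Z hcl hsupp
    (fun x => stalkL π x.1 (e x.1))
  refine ⟨(homSecEquiv Q).symm ũ, fun x q => ?_⟩
  by_cases hx : x ∈ Z
  · obtain ⟨l, rfl⟩ := stalkL_surjective_of_epi π x q
    obtain ⟨r, hr⟩ := he x l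
    let one : Γ(Coh.structureModule X, ⊤) := (show Γ(Coh.structureModule X, ⊤) from (1 : Γ(X, ⊤)))
    have h1 : ((homSecEquiv Q).symm ũ).app ⊤ one = ũ :=
      (homSecEquiv Q).apply_symm_apply ũ
    have h2 : stalkL ((homSecEquiv Q).symm ũ) x
        ((Coh.structureModule X).presheaf.germ ⊤ x trivial one) = stalkL π x (e x) := by
      refine (stalkL_germ ((homSecEquiv Q).symm ũ) x ⊤ trivial one).trans ?_
      rw [h1]
      exact hũ ⟨x, hx⟩
    refine ⟨r • (Coh.structureModule X).presheaf.germ ⊤ x trivial one, ?_⟩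
    rw [map_smul, h2, hr, map_smul]
  · have hns : x ∉ CohB1.support Q := fun h => hx (hsupp h)
    simp only [CohB1.support, Set.mem_ofPred_eq, not_not] at hns
    exact ⟨0, Subsingleton.elim _ _⟩

/-- if `t` lifts a generator of `coker s`, then `t` generates `L` along the support of `coker s` -/
theorem not_mem_support_cokernel (L : X.Modules) (hL : FlatMod.IsFinLocFreeOfRank 1 L)
    (s t : Coh.structureModule X ⟶ L) [Mono s]
    (hu : ∀ x, Function.Surjective (stalkL (t ≫ cokernel.π s) x)) (x : X)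
    (hx : x ∈ CohB1.support (cokernel s)) : x ∉ CohB1.support (cokernel t) := by
  obtain ⟨h1, h2, h3⟩ := Groth.Agent.Lib.Helper4.KTensor.stalk_of_isFinLocFreeOfRank L 1 hL x
  have hsup : LinearMap.range (stalkL t x) ⊔ LinearMap.range (stalkL s x) = ⊤ := by
    rw [eq_top_iff]
    intro n _
    obtain ⟨a, ha⟩ := hu x (stalkL (cokernel.π s) x n)
    rw [stalkL_comp_apply] at ha
    have hker : stalkL (cokernel.π s) x (n - stalkL t x a) = 0 := by
      rw [map_sub, ha, sub_self]
    obtain ⟨b, hb⟩ := (stalkL_exact (sesOfMono s) (sesOfMono_shortExact s) x _).1 hker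
    have : n = stalkL t x a + stalkL s x b := by
      have hb' : stalkL s x b = n - stalkL t x a := hb
      rw [hb']; abel
    rw [this]
    exact Submodule.add_mem_sup ⟨a, rfl⟩ ⟨b, rfl⟩
  have hg : ¬ Function.Surjective (stalkL s x) := fun h =>
    hx (subsingleton_stalk_cokernel_of_surjective s x h)
  have hsurj := surjective_of_sup_range h3 (stalkL t x) (stalkL s x) hsup hg
  intro hxt
  exact hxt (subsingleton_stalk_cokernel_of_surjective t x hsurj)

end Supp

section Coh

variable (k : Type u) [Field k] (X : Scheme.{u}) [X.Over (Spec (CommRingCat.of k))]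
  [IsProper (X ↘ (Spec (CommRingCat.of k)))]

/-- in a short exact sequence with `h⁰(B) = h⁰(A) + h⁰(C)`, `H⁰(B) → H⁰(C)` is surjective -/
theorem surjective_H0_of_finrank (S : ShortComplex X.Modules) (hS : S.ShortExact)
    (c₁ : Coh.IsCoh S.X₁) (c₂ : Coh.IsCoh S.X₂) (c₃ : Coh.IsCoh S.X₃)
    (h : Module.finrank k (Coh.HH X S.X₂ 0) =
      Module.finrank k (Coh.HH X S.X₁ 0) + Module.finrank k (Coh.HH X S.X₃ 0)) :
    Function.Surjective (Canon.HHlin k S.g 0) := by
  haveI : Module.Finite k (Coh.HH X S.X₁ 0) := Groth.Agent.S0002.result k X _ c₁ 0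
  haveI : Module.Finite k (Coh.HH X S.X₂ 0) := Groth.Agent.S0002.result k X _ c₂ 0
  haveI : Module.Finite k (Coh.HH X S.X₃ 0) := Groth.Agent.S0002.result k X _ c₃ 0
  have h1 := LinearMap.finrank_range_add_finrank_ker (Canon.HHlin k S.g 0)
  have h2 : Module.finrank k (LinearMap.ker (Canon.HHlin k S.g 0)) ≤ Module.finrank k (Coh.HH X S.X₁ 0) := by
    rw [← Groth.Agent.Lib.Helper6.Euler.range_f_eq_ker_g k S hS 0]
    exact LinearMap.finrank_range_le _
  have h3 : Module.finrank k (LinearMap.range (Canon.HHlin k S.g 0)) ≤ Module.finrank k (Coh.HH X S.X₃ 0) :=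
    Submodule.finrank_le _
  have h4 : Module.finrank k (LinearMap.range (Canon.HHlin k S.g 0)) = Module.finrank k (Coh.HH X S.X₃ 0) := by
    omega
  exact LinearMap.range_eq_top.1 (Submodule.eq_top_of_finrank_eq h4)

/-- an epimorphism out of a coherent module with zero-dimensional support is surjective on `H⁰` -/
theorem surjective_H0_of_epi {A B : X.Modules} (ψ : A ⟶ B) [Epi ψ] (hA : Coh.IsCoh A) (hB : Coh.IsCoh B)
    (hsupp : topologicalKrullDim (CohB1.support A) ≤ 0) :
    Function.Surjective (Canon.HHlin k ψ 0) := by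
  haveI : IsLocallyNoetherian X :=
    LocallyOfFiniteType.isLocallyNoetherian (X ↘ (Spec (CommRingCat.of k)))
  have cK : Coh.IsCoh (kernel ψ) := isCoh_kernel ψ hA hB
  have hK : Subsingleton (Coh.HH X (kernel ψ) 1) :=
    Groth.Agent.S1526.result k X _ cK
      (dim_le_zero_of_subset X (support_kernel_subset ψ) hsupp) 1 le_rfl
  intro y
  haveI : Subsingleton (Coh.HH X (sesOfEpi ψ).X₁ (0 + 1)) := hK
  exact exact₃ (sesOfEpi ψ) (sesOfEpi_shortExact ψ) 0 y (Subsingleton.elim _ _)

/-- the induction step: surjectivity of `H⁰(L ⊗ G) → H⁰(Q ⊗ G)` propagates along `φ : G → G'` whose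
cokernel is supported away from `Q` -/
theorem surjective_step {L Q : X.Modules} (π : L ⟶ Q) (cQ : Coh.IsCoh Q)
    (hQ : topologicalKrullDim (CohB1.support Q) ≤ 0) {G G' : X.Modules} (cG : Coh.IsCoh G)
    (cG' : Coh.IsCoh G') (φ : G ⟶ G')
    (hφ : ∀ x, x ∈ CohB1.support Q → x ∉ CohB1.support (cokernel φ))
    (hP : Function.Surjective (Canon.HHlin k ((tw G).map π) 0)) :
    Function.Surjective (Canon.HHlin k ((tw G').map π) 0) := by
  haveI : Epi ((tl Q).map φ) := epi_tl_map Q φ hφ
  have hsurj : Function.Surjective (Canon.HHlin k ((tl Q).map φ) 0) :=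
    surjective_H0_of_epi k X ((tl Q).map φ) (isCoh_tensorMod X Q G cQ cG) (isCoh_tensorMod X Q G' cQ cG')
      (dim_le_zero_of_subset X
        (Groth.Agent.Lib.Helper4.ZeroDimChi.support_tensorMod_subset_left Q G) hQ)
  intro x
  obtain ⟨y, hy⟩ := hsurj x
  obtain ⟨z, hz⟩ := hP y
  refine ⟨Canon.HHlin k ((tl L).map φ) 0 z, ?_⟩
  have e1 : Hm ((tw G').map π) 0 (Hm ((tl L).map φ) 0 z) =
      Hm ((tl L).map φ ≫ (tw G').map π) 0 z := Hm_comp _ _ 0 z
  have e2 : Hm ((tl Q).map φ) 0 (Hm ((tw G).map π) 0 z) =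
      Hm ((tw G).map π ≫ (tl Q).map φ) 0 z := Hm_comp _ _ 0 z
  have e3 : Hm ((tl L).map φ ≫ (tw G').map π) 0 z = Hm ((tw G).map π ≫ (tl Q).map φ) 0 z :=
    congrArg (fun f => Hm f 0 z) (tw_tl_comm π φ).symm
  have e4 : Hm ((tl Q).map φ) 0 (Hm ((tw G).map π) 0 z) = x :=
    (congrArg (fun w => Hm ((tl Q).map φ) 0 w) hz).trans hy
  exact e1.trans (e3.trans (e2.symm.trans e4))

omit [IsProper (X ↘ (Spec (CommRingCat.of k)))] in
/-- surjectivity on `H⁰` gives injectivity on `H¹` -/
theorem subsingleton_H1_of_surjective (S : ShortComplex X.Modules) (hS : S.ShortExact)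
    (hsurj : Function.Surjective (Canon.HHlin k S.g 0))
    (h2 : Subsingleton (Coh.HH X S.X₂ 1)) : Subsingleton (Coh.HH X S.X₁ 1) := by
  have key : ∀ x : Coh.HH X S.X₁ 1, x = 0 := by
    intro x
    obtain ⟨y, hy⟩ := exact₁ S hS 0 x (Subsingleton.elim _ _)
    obtain ⟨z, hz⟩ := hsurj y
    rw [← hy, ← hz]
    exact delta_Hm_g S hS 0 z
  exact ⟨fun a b => by rw [key a, key b]⟩

end Coh

section Mul

variable {X : Scheme.{u}}

/-- `G ≅ O ⊗ G` -/
noncomputable def m0 (G : X.Modules) : G ⟶ (tw G).obj (Coh.structureModule X) :=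
  (Groth.Agent.Lib.Helper23.TensorUnit.unitTensorIso G).inv

instance (G : X.Modules) : IsIso (m0 G) :=
  (inferInstance : IsIso (Groth.Agent.Lib.Helper23.TensorUnit.unitTensorIso G).inv)

/-- `t ⊗ G : O ⊗ G → L ⊗ G` -/
noncomputable def m1 (L : X.Modules) (t : Coh.structureModule X ⟶ L) (G : X.Modules) :
    (tw G).obj (Coh.structureModule X) ⟶ (tw G).obj L := (tw G).map t

/-- `L ⊗ G ≅ G ⊗ L` -/
noncomputable def m2 (L G : X.Modules) : (tw G).obj L ⟶ (tw L).obj G :=
  (Groth.Agent.Lib.Helper23.AmpleFam2.tensorBraid L G).hom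

instance (L G : X.Modules) : IsIso (m2 L G) :=
  (inferInstance : IsIso (Groth.Agent.Lib.Helper23.AmpleFam2.tensorBraid L G).hom)

/-- `G ≅ O ⊗ G` -/
noncomputable def i0 (G : X.Modules) : G ≅ (tw G).obj (Coh.structureModule X) :=
  (Groth.Agent.Lib.Helper23.TensorUnit.unitTensorIso G).symm

/-- `L ⊗ G ≅ G ⊗ L` -/
noncomputable def i2 (L G : X.Modules) : (tw G).obj L ≅ (tw L).obj G :=
  Groth.Agent.Lib.Helper23.AmpleFam2.tensorBraid L G

/-- the map `G → G ⊗ L` given by a section `t` of `L` -/
noncomputable def mulSecG (L : X.Modules) (t : Coh.structureModule X ⟶ L) (G : X.Modules) :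
    G ⟶ CohB1.tensorMod G L := m0 G ≫ m1 L t G ≫ m2 L G

theorem support_cokernel_mulSecG (L : X.Modules) (t : Coh.structureModule X ⟶ L)
    (G : X.Modules) :
    CohB1.support (cokernel (mulSecG L t G)) ⊆ CohB1.support (cokernel t) := by
  have e : cokernel (mulSecG L t G) ≅ CohB1.tensorMod (cokernel t) G :=
    cokernelEpiComp (m0 G) (m1 L t G ≫ m2 L G) ≪≫ cokernelCompIsIso (m1 L t G) (m2 L G) ≪≫
      (PreservesCokernel.iso (tw G) t).symm
  rw [support_eq_of_iso e]
  exact Groth.Agent.Lib.Helper4.ZeroDimChi.support_tensorMod_subset_left _ _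

end Mul

section Main

variable (k : Type u) [Field k] (X : Scheme.{u}) [X.Over (Spec (CommRingCat.of k))]
  [IsProper (X ↘ (Spec (CommRingCat.of k)))] [IsIntegral X]

omit [IsProper (X ↘ (Spec (CommRingCat.of k)))] [IsIntegral X] in
/-- if `H⁰(L ⊗ G) → H⁰(Q ⊗ G)` is surjective then `H¹(G ⊗ L) = 0` implies `H¹(G) = 0` -/
theorem subsingleton_H1_descend {L : X.Modules} (s : Coh.structureModule X ⟶ L) [Mono s]
    (G : X.Modules) (hG : PicF.IsInvertible G)
    (hPn : Function.Surjective (Canon.HHlin k ((tw G).map (cokernel.π s)) 0))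
    (h : Subsingleton (Coh.HH X (CohB1.tensorMod G L) 1)) : Subsingleton (Coh.HH X G 1) := by
  have hse := shortExact_tw G hG (sesOfMono s) (sesOfMono_shortExact s)
  have h' : Subsingleton (Coh.HH X ((tw L).obj G) 1) := h
  have h2 : Subsingleton (Coh.HH X ((tw G).obj L) 1) :=
    @Equiv.subsingleton _ _ (Groth.Agent.Lib.Helper4.CurveChi.HHequiv k (i2 L G) 1).toEquiv h'
  have h1 : Subsingleton (Coh.HH X ((tw G).obj (Coh.structureModule X)) 1) :=
    subsingleton_H1_of_surjective k X ((sesOfMono s).map (tw G)) hse hPn h2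
  exact @Equiv.subsingleton _ _ (Groth.Agent.Lib.Helper4.CurveChi.HHequiv k (i0 G) 1).toEquiv h1

theorem genus_eq_zero (hdim : topologicalKrullDim X = 1)
    (h0 : Module.finrank k (Coh.HH X (Coh.structureModule X) 0) = 1)
    (L : X.Modules) (hL : PicF.IsInvertible L)
    (heq : (Module.finrank k (Coh.HH X L 0) : ℤ) = Curv2.deg k X L 1 + 1)
    (hpos : 0 < Curv2.deg k X L 1) : Curv2.genus k X = 0 := by
  classical
  haveI : IsLocallyNoetherian X :=
    LocallyOfFiniteType.isLocallyNoetherian (X ↘ (Spec (CommRingCat.of k)))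
  haveI : CompactSpace X := by
    have : QuasiCompact (X ↘ (Spec (CommRingCat.of k))) := inferInstance
    exact (quasiCompact_iff_compactSpace (X ↘ (Spec (CommRingCat.of k)))).1 this
  haveI : IsNoetherian X := {}
  have hO := Groth.Agent.Lib.Helper23.TensorUnit.isInvertible_structureModule X
  have cO := isCoh_structureModule X
  have cL := isCoh_of_isInvertible L hL
  have hL1 := Groth.Agent.Lib.Helper23.SecTw.isFinLocFreeOfRank_one_of_isInvertible L hL
  have hposL : 0 < Module.finrank k (Coh.HH X L 0) := by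
    have : (0 : ℤ) < (Module.finrank k (Coh.HH X L 0) : ℤ) := by rw [heq]; linarith
    exact_mod_cast this
  obtain ⟨s, hs⟩ := Groth.Agent.Lib.Helper4.CurveRR.exists_hom_ne_zero k X L hposL
  haveI : Mono s := mono_of_ne_zero hO hL s hs
  obtain ⟨hχ, -⟩ := Groth.Agent.Lib.Helper6.CurveDeg.main k X hdim _ L hO hL s hs
  set Q := cokernel s with hQdef
  set π := cokernel.π s with hπdef
  have cQ : Coh.IsCoh Q := isCoh_cokernel s cO cL
  have hQdim : topologicalKrullDim (CohB1.support Q) ≤ 0 :=
    dim_support_cokernel_le X hdim hO hL s hs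
  -- h⁰(Q) = deg L
  have hQ0 : (Module.finrank k (Coh.HH X Q 0) : ℤ) = Curv2.deg k X L 1 := by
    unfold Curv2.deg
    rw [hχ]
    push_cast
    ring
  -- surjectivity of H⁰(L) → H⁰(Q)
  have hfin : Module.finrank k (Coh.HH X L 0) =
      Module.finrank k (Coh.HH X (Coh.structureModule X) 0) + Module.finrank k (Coh.HH X Q 0) := by
    rw [h0]
    have : (Module.finrank k (Coh.HH X L 0) : ℤ) = 1 + (Module.finrank k (Coh.HH X Q 0) : ℤ) := by
      rw [heq, hQ0]; ring
    exact_mod_cast this
  have hsurjπ : Function.Surjective (Canon.HHlin k π 0) :=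
    surjective_H0_of_finrank k X (sesOfMono s) (sesOfMono_shortExact s) cO cL cQ hfin
  -- the finite support
  have hZ : IsClosed (CohB1.support Q) := Groth.Agent.S0020.result X Q cQ.2
  have hpt : ∀ x ∈ CohB1.support Q, IsClosed ({x} : Set X) :=
    Groth.Agent.Lib.Helper4.ZeroDimGG.isClosed_singleton_of_dim_le_zero _ hZ hQdim
  have hfinS : (CohB1.support Q).Finite := Groth.Agent.S0047.finite_of_noetherian_quasiSober _ hZ hpt
  have hcl : ∀ x ∈ hfinS.toFinset, IsClosed ({x} : Set X) := fun x hx => hpt x (hfinS.mem_toFinset.1 hx)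
  have hsub : CohB1.support Q ⊆ (hfinS.toFinset : Set X) := fun x hx => by
    rw [Finset.mem_coe]; exact hfinS.mem_toFinset.2 hx
  -- the generator and its lift
  obtain ⟨u, hu⟩ := exists_hom_stalk_surjective L Q hL1 π hfinS.toFinset hcl hsub
  obtain ⟨z, hz⟩ := hsurjπ (homH0Equiv k Q u)
  set t := (homH0Equiv k L).symm z with htdef
  have htu : t ≫ π = u := by
    apply (homH0Equiv k Q).injective
    rw [homH0Equiv_comp, htdef, LinearEquiv.apply_symm_apply, hz]
  have hdisj : ∀ x, x ∈ CohB1.support Q → x ∉ CohB1.support (cokernel t) := fun x hx =>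
    not_mem_support_cokernel L hL1 s t (by rw [htu]; exact hu) x hx
  -- the induction
  have hG : ∀ n, PicF.IsInvertible (CohB1.tensorPow L n) := fun n =>
    Groth.Agent.Lib.Helper23.SecTw.isInvertible_tensorPow hL n
  have cG : ∀ n, Coh.IsCoh (CohB1.tensorPow L n) := fun n => isCoh_of_isInvertible _ (hG n)
  have hP : ∀ n, Function.Surjective (Canon.HHlin k ((tw (CohB1.tensorPow L n)).map π) 0) := by
    intro n
    induction n with
    | zero =>
      have hse := shortExact_tw (Coh.structureModule X) hO (sesOfMono s) (sesOfMono_shortExact s)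
      refine surjective_H0_of_finrank k X ((sesOfMono s).map (tw (Coh.structureModule X))) hse
        (isCoh_tensorMod X _ _ cO cO) (isCoh_tensorMod X _ _ cL cO) (isCoh_tensorMod X _ _ cQ cO) ?_
      have e1 := (Groth.Agent.Lib.Helper4.CurveChi.HHequiv k
        (Groth.Agent.Lib.Helper23.TensorUnit.tensorUnitIso (Coh.structureModule X)) 0).finrank_eq
      have e2 := (Groth.Agent.Lib.Helper4.CurveChi.HHequiv k
        (Groth.Agent.Lib.Helper23.TensorUnit.tensorUnitIso L) 0).finrank_eq
      have e3 := (Groth.Agent.Lib.Helper4.CurveChi.HHequiv k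
        (Groth.Agent.Lib.Helper23.TensorUnit.tensorUnitIso Q) 0).finrank_eq
      exact e2.trans (hfin.trans (congrArg₂ (· + ·) e1.symm e3.symm))
    | succ n ih =>
      exact surjective_step k X π cQ hQdim (cG n) (cG (n + 1)) (mulSecG L t (CohB1.tensorPow L n))
        (fun x hx hx' => hdisj x hx (support_cokernel_mulSecG L t _ hx')) ih
  -- `H¹(L^{n+1}) = 0 → H¹(L^n) = 0`
  have hdesc : ∀ n, Subsingleton (Coh.HH X (CohB1.tensorPow L (n + 1)) 1) →
      Subsingleton (Coh.HH X (CohB1.tensorPow L n) 1) := by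
    intro n h
    exact subsingleton_H1_descend k X s (CohB1.tensorPow L n) (hG n) (hP n) h
  have hdown : ∀ m n, Subsingleton (Coh.HH X (CohB1.tensorPow L (n + m)) 1) →
      Subsingleton (Coh.HH X (CohB1.tensorPow L n) 1) := by
    intro m
    induction m with
    | zero => intro n h; exact h
    | succ m ih => intro n h; exact ih n (hdesc (n + m) h)
  -- vanishing for large `N`
  set g := Module.finrank k (Coh.HH X (Coh.structureModule X) 1) with hg
  set N : ℕ := ((g : ℤ) ^ 2 - Curv2.euler k X (Coh.structureModule X) + 1).toNat with hN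
  have hn : ((g : ℤ)) ^ 2 < N * Curv2.deg k X L 1 + Curv2.euler k X (Coh.structureModule X) := by
    have h1 : (g : ℤ) ^ 2 - Curv2.euler k X (Coh.structureModule X) + 1 ≤ (N : ℤ) := Int.self_le_toNat _
    have h2 : (N : ℤ) ≤ N * Curv2.deg k X L 1 := by
      have : (0 : ℤ) ≤ (N : ℤ) := Int.natCast_nonneg N
      nlinarith
    linarith
  have hvan := subsingleton_H1_tensorPow k X hdim L hL (Coh.structureModule X) cO N hn
  have hvanN : Subsingleton (Coh.HH X (CohB1.tensorPow L N) 1) :=
    @Equiv.subsingleton _ _ (Groth.Agent.Lib.Helper4.CurveChi.HHequiv k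
      (Groth.Agent.Lib.Helper23.TensorUnit.unitTensorIso (CohB1.tensorPow L N)) 1).symm.toEquiv hvan
  have hfinal : Subsingleton (Coh.HH X (CohB1.tensorPow L 0) 1) :=
    hdown N 0 (by rw [Nat.zero_add]; exact hvanN)
  unfold Curv2.genus
  haveI : Subsingleton (Coh.HH X (Coh.structureModule X) 1) := hfinal
  exact Module.finrank_zero_of_subsingleton

/-- **S1564**: `r ≤ d` for a linear series, with equality for `d ≥ 1` only in genus zero -/
theorem main (hdim : topologicalKrullDim X = 1)
    (h0 : Module.finrank k (Coh.HH X (Coh.structureModule X) 0) = 1)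
    (L : X.Modules) (hL : PicF.IsInvertible L) (hs : Nontrivial (Coh.HH X L 0)) :
    (Module.finrank k (Coh.HH X L 0) : ℤ) ≤ Curv2.deg k X L 1 + 1 ∧
      ((Module.finrank k (Coh.HH X L 0) : ℤ) = Curv2.deg k X L 1 + 1 → 0 < Curv2.deg k X L 1 →
        Curv2.genus k X = 0) := by
  refine ⟨?_, fun heq hpos => genus_eq_zero k X hdim h0 L hL heq hpos⟩
  haveI : IsLocallyNoetherian X :=
    LocallyOfFiniteType.isLocallyNoetherian (X ↘ (Spec (CommRingCat.of k)))
  haveI : Module.Finite k (Coh.HH X L 0) :=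
    Groth.Agent.S0002.result k X L (isCoh_of_isInvertible L hL) 0
  have hpos : 0 < Module.finrank k (Coh.HH X L 0) := Module.finrank_pos
  have h := h0_le_deg_add k X hdim L hL hpos
  rw [h0] at h
  push_cast at h
  linarith

end Main


end Groth.Agent.Lib.Helper4.CurveGrd
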