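import Mathlib
import Groth.Prelude
import Groth.Agent.Lib.Helper23SecTw9
import Groth.Agent.Lib.Helper23SecTw10

/-!
# `X_s` is affine for universally closed `X` over an affine base with an ample module (helper23)

Namespace `Groth.Agent.Lib.Helper23.UCAffine`.

* `isAffineOpen_of_universallyClosed` : `f : X ⟶ S` universally closed, `S` affine, `G ⊆ X` a quasi-compact open such that
  around every point of `X` there are an open `T`, `a ∈ Γ(T)`, `b ∈ Γ(G)` with `D(b)` affine and `a b = 1` on `G ∩ T`.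
  Then `G` is affine.  (The closure of the graph of `G ⟶ Spec Γ(G)` in `X ×_S Spec Γ(G)` maps onto `Spec Γ(G)`.)
* `isAffineOpen_genLocus_of_universallyClosed` : `L` ample on `X`, `X ⟶ S` universally closed, `S` affine: every `X_s`,
  `s ∈ Γ(X, L)`, is affine.
-/

set_option backward.isDefEq.respectTransparency.types false
set_option autoImplicit false
set_option linter.style.haveILetI false
universe u
open CategoryTheory Limits AlgebraicGeometry TopologicalSpace Opposite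

namespace Groth.Agent.Lib.Helper23.UCAffine
open Groth.Agent.Lib.Helper6 Groth.Agent.Lib.Helper23.SecTw Groth.Agent.Lib.Helper23.GenLocus

/-- in a local ring, if `α * β - 1` is not a unit then `β` is a unit -/
theorem isUnit_of_not_isUnit_mul_sub_one {R : Type*} [CommRing R] [IsLocalRing R] (α β : R)
    (h : ¬ IsUnit (α * β - 1)) : IsUnit β := by
  rcases IsLocalRing.isUnit_or_isUnit_one_sub_self (α * β) with h1 | h1
  · exact isUnit_of_mul_isUnit_right h1
  · exfalso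
    apply h
    have : α * β - 1 = -(1 - α * β) := by ring
    rw [this]
    exact h1.neg

theorem isAffineOpen_of_universallyClosed {X S : Scheme.{u}} [IsAffine S] (f : X ⟶ S) [UniversallyClosed f]
    (G : X.Opens) [CompactSpace ↥G]
    (H : ∀ x : X, ∃ (T : X.Opens) (a : Γ(X, T)) (b : Γ(X, G)), x ∈ T ∧ IsAffineOpen (X.basicOpen b) ∧
      resf (inf_le_right : G ⊓ T ≤ T) a * resf (inf_le_left : G ⊓ T ≤ G) b = 1) :
    IsAffineOpen G := by
  let Y : Scheme.{u} := G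
  let B : CommRingCat.{u} := Γ(Y, ⊤)
  let j : Y ⟶ Spec B := Y.toSpecΓ
  let h : Spec B ⟶ S := Spec.map (G.ι ≫ f).appTop ≫ inv S.toSpecΓ
  have comm : G.ι ≫ f = j ≫ h := by
    change _ = Y.toSpecΓ ≫ Spec.map (G.ι ≫ f).appTop ≫ inv S.toSpecΓ
    rw [← Scheme.toSpecΓ_naturality_assoc, IsIso.hom_inv_id, Category.comp_id]
  let P := pullback f h
  let p₁ : P ⟶ X := pullback.fst f h
  let p₂ : P ⟶ Spec B := pullback.snd f h
  let γ : Y ⟶ P := pullback.lift G.ι j comm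
  have hγ₁ : γ ≫ p₁ = G.ι := pullback.lift_fst _ _ _
  have hγ₂ : γ ≫ p₂ = j := pullback.lift_snd _ _ _
  -- criterion
  change IsAffine Y
  refine isAffine_of_isAffineOpen_basicOpen {r : Γ(Y, ⊤) | IsAffineOpen (Y.basicOpen r)} ?_ (fun r hr => hr)
  by_contra hspan
  obtain ⟨m, hm, hle⟩ := Ideal.exists_le_maximal _ hspan
  have hmem : ∀ r : Γ(Y, ⊤), IsAffineOpen (Y.basicOpen r) → r ∈ m := fun r hr =>
    hle (Ideal.subset_span hr)
  let y : Spec B := ⟨m, hm.isPrime⟩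
  -- the closure of the graph maps onto `Spec B`
  have hcl : IsClosedMap p₂ := (pullback.snd f h).isClosedMap
  haveI : CompactSpace Y := ‹CompactSpace ↥G›
  haveI : IsDominant j := inferInstanceAs (IsDominant Y.toSpecΓ)
  have hdense : DenseRange j := Scheme.Hom.denseRange j
  have hsurj : p₂ '' closure (Set.range γ) = Set.univ := by
    have h1 : IsClosed (p₂ '' closure (Set.range γ)) := hcl _ isClosed_closure
    have h2 : Set.range j ⊆ p₂ '' closure (Set.range γ) := by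
      rintro _ ⟨g, rfl⟩
      refine ⟨γ g, subset_closure ⟨g, rfl⟩, ?_⟩
      rw [← hγ₂]
      rfl
    have h3 := closure_minimal h2 h1
    rw [hdense.closure_range] at h3
    exact Set.eq_univ_of_univ_subset h3
  obtain ⟨w, hwC, hwy⟩ : y ∈ p₂ '' closure (Set.range γ) := by rw [hsurj]; trivial
  obtain ⟨T, a, b, hxT, haff, hab⟩ := H (p₁ w)
  let b' : Γ(Y, ⊤) := G.topIso.inv b
  have hb'aff : IsAffineOpen (Y.basicOpen b') := by
    rw [← Scheme.Hom.isAffineOpen_iff_of_isOpenImmersion G.ι, Scheme.Opens.ι_image_basicOpen_topIso_inv]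
    exact haff
  have hb'm : b' ∈ m := hmem b' hb'aff
  let bt : Γ(Spec B, ⊤) := (Scheme.ΓSpecIso B).inv b'
  let O₁ : P.Opens := p₁ ⁻¹ᵁ T
  have hwO : w ∈ O₁ := hxT
  let α : Γ(P, O₁) := p₁.appLE T O₁ le_rfl a
  let β : Γ(P, O₁) := p₂.appLE ⊤ O₁ le_top bt
  let F : Γ(P, O₁) := α * β - 1
  -- F vanishes on the graph
  have hF : γ ⁻¹ᵁ (P.basicOpen F) = ⊥ := by
    rw [Scheme.preimage_basicOpen, Scheme.Hom.app_eq_appLE]
    have hV1 : γ ⁻¹ᵁ O₁ ≤ G.ι ⁻¹ᵁ T := by
      intro g hg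
      have h1 : (γ ≫ p₁) g ∈ T := hg
      rw [hγ₁] at h1
      exact h1
    have hle1 : G.ι ''ᵁ (γ ⁻¹ᵁ O₁) ≤ T := by
      rintro _ ⟨g, hg, rfl⟩
      exact hV1 hg
    have hle2 : G.ι ''ᵁ (γ ⁻¹ᵁ O₁) ≤ G := by
      rintro _ ⟨g, -, rfl⟩
      exact g.2
    have hα : γ.appLE O₁ (γ ⁻¹ᵁ O₁) le_rfl α = resf hle1 a := by
      have h1 := Scheme.Hom.appLE_comp_appLE γ p₁ T O₁ (γ ⁻¹ᵁ O₁) le_rfl le_rfl
      have h2 : γ.appLE O₁ (γ ⁻¹ᵁ O₁) le_rfl α = (γ ≫ p₁).appLE T (γ ⁻¹ᵁ O₁) le_rfl a := congr($h1 a)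
      have h3 : (γ ≫ p₁).appLE T (γ ⁻¹ᵁ O₁) le_rfl = G.ι.appLE T (γ ⁻¹ᵁ O₁) hV1 := by
        simp only [hγ₁]
      rw [h2, h3, Scheme.Opens.ι_appLE]
      rfl
    have hβ : γ.appLE O₁ (γ ⁻¹ᵁ O₁) le_rfl β = resf hle2 b := by
      have h1 := Scheme.Hom.appLE_comp_appLE γ p₂ ⊤ O₁ (γ ⁻¹ᵁ O₁) le_top le_rfl
      have h2 : γ.appLE O₁ (γ ⁻¹ᵁ O₁) le_rfl β = (γ ≫ p₂).appLE ⊤ (γ ⁻¹ᵁ O₁) le_top bt := congr($h1 bt)
      have h3 : (γ ≫ p₂).appLE ⊤ (γ ⁻¹ᵁ O₁) le_top = j.appLE ⊤ (γ ⁻¹ᵁ O₁) le_top := by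
        simp only [hγ₂]
      rw [h2, h3]
      have h4 : j.appLE ⊤ (γ ⁻¹ᵁ O₁) le_top bt =
          Y.presheaf.map (homOfLE (le_top : γ ⁻¹ᵁ O₁ ≤ ⊤)).op (j.appTop bt) := rfl
      have h5 : j.appTop bt = b' := by
        change (Y.toSpecΓ.appTop) ((Scheme.ΓSpecIso B).inv b') = b'
        rw [Scheme.toSpecΓ_appTop]
        exact Iso.inv_hom_id_apply (C := CommRingCat) _ _
      rw [h4, h5]
      change (X.presheaf.map _ ≫ X.presheaf.map _) b = _
      rw [← Functor.map_comp]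
      rfl
    have : γ.appLE O₁ (γ ⁻¹ᵁ O₁) le_rfl F = 0 := by
      have hF' : γ.appLE O₁ (γ ⁻¹ᵁ O₁) le_rfl F =
          γ.appLE O₁ (γ ⁻¹ᵁ O₁) le_rfl α * γ.appLE O₁ (γ ⁻¹ᵁ O₁) le_rfl β - 1 := by
        simp only [F, map_sub, map_mul, map_one]
      rw [hF', hα, hβ]
      have hle3 : G.ι ''ᵁ (γ ⁻¹ᵁ O₁) ≤ G ⊓ T := le_inf hle2 hle1
      have h4 := congrArg (resf hle3) hab
      have hmul : ∀ u v : Γ(X, G ⊓ T), resf hle3 (u * v) = resf hle3 u * resf hle3 v :=
        fun u v => map_mul _ u v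
      have hone : resf hle3 (1 : Γ(X, G ⊓ T)) = 1 := map_one _
      rw [hmul, resf_resf, resf_resf, hone] at h4
      have h5 : (resf hle1 a * resf hle2 b : Γ(X, G.ι ''ᵁ (γ ⁻¹ᵁ O₁))) - 1 = 0 := by rw [h4, sub_self]
      exact h5
    rw [this, Scheme.basicOpen_zero]
  have hwF : w ∉ P.basicOpen F := by
    intro hw
    obtain ⟨_, hz1, ⟨g, rfl⟩⟩ := mem_closure_iff.1 hwC _ (P.basicOpen F).2 hw
    have : g ∈ γ ⁻¹ᵁ (P.basicOpen F) := hz1
    rw [hF] at this
    exact this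
  have hwβ : w ∈ P.basicOpen β := by
    rw [Scheme.mem_basicOpen P _ w hwO] at hwF ⊢
    have : P.presheaf.germ O₁ w hwO F = P.presheaf.germ O₁ w hwO α * P.presheaf.germ O₁ w hwO β - 1 := by
      simp only [F, map_sub, map_mul, map_one]
    rw [this] at hwF
    exact isUnit_of_not_isUnit_mul_sub_one _ _ hwF
  have hy : y ∈ (Spec B).basicOpen bt := by
    rw [Scheme.basicOpen_appLE] at hwβ
    rw [← hwy]; exact hwβ.2
  rw [basicOpen_eq_of_affine] at hy
  exact hy hb'm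


/-- a universally closed scheme over an affine base with an ample `L`: every `X_s`, `s` a section of `L`, is affine -/
theorem isAffineOpen_genLocus_of_universallyClosed {X S : Scheme.{u}} [IsAffine S] (f : X ⟶ S)
    [UniversallyClosed f] (L : X.Modules) (hL : CohB1.IsAmple L) (s : Coh.structureModule X ⟶ L) :
    IsAffineOpen (CohB1.genLocus L s) := by
  haveI : CompactSpace X := hL.2.1
  haveI : IsAffineHom (CohB1.genLocus L s).ι := Groth.Agent.S2350.result X L hL.1 s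
  haveI : CompactSpace ↥(CohB1.genLocus L s) :=
    QuasiCompact.compactSpace_of_compactSpace (CohB1.genLocus L s).ι
  refine isAffineOpen_of_universallyClosed f _ (fun x => ?_)
  obtain ⟨n, t, hxt, haff⟩ := hL.2.2 x
  have hM := isInvertible_tensorPow hL.1 (n + 1)
  have hσ := genLocus_powHom hL.1 s (n + 1) (Nat.succ_pos n)
  have hgt := isGen_sv_genLocus (CohB1.tensorPow L (n + 1)) t
  have hgσ := isGen_sv_genLocus (CohB1.tensorPow L (n + 1)) (SecTwist.powHom s (n + 1))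
  rw [hσ] at hgσ
  refine ⟨_, coef hgt le_rfl (sv (SecTwist.powHom s (n + 1)) _), coef hgσ le_rfl (sv t _), hxt, ?_, ?_⟩
  · rw [← genLocus_inf_eq_coef t hgσ, ← hσ]
    exact isAffineOpen_inf_genLocus _ hM _ _ haff
  · have h1 := sv_eq_coef_smul (SecTwist.powHom s (n + 1)) hgt
    have h2 := sv_eq_coef_smul t hgσ
    have h1' := congrArg (res _ (inf_le_right :
      CohB1.genLocus L s ⊓ CohB1.genLocus (CohB1.tensorPow L (n + 1)) t ≤ _)) h1
    have h2' := congrArg (res _ (inf_le_left :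
      CohB1.genLocus L s ⊓ CohB1.genLocus (CohB1.tensorPow L (n + 1)) t ≤ _)) h2
    rw [res_smul, res_sv, res_sv] at h1' h2'
    apply (hgσ _ inf_le_left).1
    change (_ * _) • res _ _ (sv _ _) = (1 : Γ(X, _)) • res _ _ (sv _ _)
    rw [res_sv, one_smul, mul_smul, ← h2', ← h1']

end Groth.Agent.Lib.Helper23.UCAffine
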