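import Mathlib
import Groth.Agent.Lib.Helper7Dim

/-!
# Dimension of projective space over a field
-/

set_option autoImplicit false
universe u

open AlgebraicGeometry Order

namespace Groth.Agent.Lib.Helper27ProjDim

section General

variable {R A : Type u} [CommRing R] [CommRing A] [Algebra R A] (𝒜 : ℕ → Submodule R A)
  [GradedAlgebra 𝒜]

theorem specializes_iff_le (a b : ProjectiveSpectrum 𝒜) : a ⤳ b ↔ a ≤ b := by
  rw [specializes_iff_mem_closure, ProjectiveSpectrum.le_iff_mem_closure]

/-- The identity map `Proj 𝒜 → ProjectiveSpectrum 𝒜`. -/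
def toPS : ↥(Proj 𝒜) → ProjectiveSpectrum 𝒜 := fun x => x

/-- The identity map `ProjectiveSpectrum 𝒜 → Proj 𝒜`. -/
def ofPS : ProjectiveSpectrum 𝒜 → ↥(Proj 𝒜) := fun x => x

theorem proj_specializes_iff (a b : ↥(Proj 𝒜)) : a ⤳ b ↔ toPS 𝒜 a ≤ toPS 𝒜 b :=
  specializes_iff_le 𝒜 (toPS 𝒜 a) (toPS 𝒜 b)

theorem strictMono_toPS : @StrictMono _ _ (specializationOrder ↥(Proj 𝒜)).toPreorder _
    (fun x : ↥(Proj 𝒜) => OrderDual.toDual (toPS 𝒜 x)) := by
  intro a b hab
  rw [Groth.Agent.Lib.Helper7.specializationOrder_lt_iff] at hab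
  obtain ⟨h1, h2⟩ := hab
  have h3 : toPS 𝒜 b ≤ toPS 𝒜 a := (proj_specializes_iff 𝒜 _ _).mp h1
  refine lt_of_le_of_ne h3 (fun h => h2 ?_)
  exact h

theorem strictMono_ofPS : @StrictMono _ _ _ (specializationOrder ↥(Proj 𝒜)).toPreorder
    (fun x : (ProjectiveSpectrum 𝒜)ᵒᵈ => ofPS 𝒜 (OrderDual.ofDual x)) := by
  intro a b hab
  rw [Groth.Agent.Lib.Helper7.specializationOrder_lt_iff]
  have h1 : OrderDual.ofDual b < OrderDual.ofDual a := hab
  refine ⟨(proj_specializes_iff 𝒜 _ _).mpr h1.le, fun h => h1.ne ?_⟩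
  exact h.symm

theorem topologicalKrullDim_proj :
    topologicalKrullDim ↥(Proj 𝒜) = krullDim (ProjectiveSpectrum 𝒜) := by
  rw [Groth.Agent.Lib.Helper7.topologicalKrullDim_eq_krullDim_points]
  rw [← krullDim_orderDual (α := ProjectiveSpectrum 𝒜)]
  have h1 := @krullDim_le_of_strictMono _ _ (specializationOrder ↥(Proj 𝒜)).toPreorder _
      (fun x : ↥(Proj 𝒜) => OrderDual.toDual (toPS 𝒜 x)) (strictMono_toPS 𝒜)
  have h2 := @krullDim_le_of_strictMono _ _ _ (specializationOrder ↥(Proj 𝒜)).toPreorder
      (fun x : (ProjectiveSpectrum 𝒜)ᵒᵈ => ofPS 𝒜 (OrderDual.ofDual x)) (strictMono_ofPS 𝒜)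
  exact le_antisymm h1 h2

end General

section Upper

variable {R A : Type u} [CommRing R] [CommRing A] [Algebra R A] (𝒜 : ℕ → Submodule R A)
  [GradedAlgebra 𝒜]

/-- The map from the projective spectrum to the prime spectrum. -/
def toSpec (x : ProjectiveSpectrum 𝒜) : PrimeSpectrum A :=
  ⟨x.asHomogeneousIdeal.toIdeal, x.isPrime⟩

theorem toSpec_strictMono : StrictMono (toSpec 𝒜) := by
  intro a b hab
  exact hab

/-- If every relevant homogeneous prime is strictly contained in a fixed prime `M`, then
`dim Proj + 1 ≤ dim A`. -/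
theorem length_succ_le (M : Ideal A) [hM : M.IsPrime]
    (h : ∀ x : ProjectiveSpectrum 𝒜, x.asHomogeneousIdeal.toIdeal < M)
    (p : LTSeries (ProjectiveSpectrum 𝒜)) :
    ((p.length + 1 : ℕ) : WithBot ℕ∞) ≤ ringKrullDim A := by
  let q : LTSeries (PrimeSpectrum A) :=
    (p.map (toSpec 𝒜) (toSpec_strictMono 𝒜)).snoc ⟨M, hM⟩ (by
      rw [LTSeries.last_map]
      exact h p.last)
  have hq : q.length = p.length + 1 := by
    simp [q]
  rw [← hq]
  exact q.length_le_krullDim

/-- If nonzero elements of degree `0` are units and `A` is a domain, every relevant homogeneous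
prime is strictly contained in the irrelevant ideal. -/
theorem lt_irrelevant [IsDomain A] (h0 : ∀ a ∈ 𝒜 0, a ≠ 0 → IsUnit a)
    (x : ProjectiveSpectrum 𝒜) :
    x.asHomogeneousIdeal.toIdeal < (HomogeneousIdeal.irrelevant 𝒜).toIdeal := by
  have hle : x.asHomogeneousIdeal.toIdeal ≤ (HomogeneousIdeal.irrelevant 𝒜).toIdeal := by
    intro f hf
    change f ∈ HomogeneousIdeal.irrelevant 𝒜
    rw [HomogeneousIdeal.mem_irrelevant_iff, GradedRing.proj_apply]
    by_contra hne
    have h1 : ((DirectSum.decompose 𝒜 f 0 : 𝒜 0) : A) ∈ x.asHomogeneousIdeal.toIdeal :=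
      x.asHomogeneousIdeal.isHomogeneous 0 hf
    have h2 := h0 _ (DirectSum.decompose 𝒜 f 0).2 hne
    exact x.isPrime.ne_top (Ideal.eq_top_of_isUnit_mem _ h1 h2)
  refine lt_of_le_of_ne hle ?_
  intro heq
  apply x.not_irrelevant_le
  intro a ha
  have : a ∈ (HomogeneousIdeal.irrelevant 𝒜).toIdeal := ha
  rw [← heq] at this
  exact this

end Upper

section MvPoly

open MvPolynomial

variable {σ : Type*} {k : Type*} [CommRing k]

/-- The substitution killing the variables in `S`. -/
noncomputable def killVars (S : Set σ) [DecidablePred (· ∈ S)] :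
    MvPolynomial σ k →ₐ[k] MvPolynomial σ k :=
  MvPolynomial.aeval (fun j => if j ∈ S then 0 else X j)

theorem sub_killVars_mem (S : Set σ) [DecidablePred (· ∈ S)] (f : MvPolynomial σ k) :
    f - killVars S f ∈ Ideal.span (X '' S : Set (MvPolynomial σ k)) := by
  induction f using MvPolynomial.induction_on with
  | C a =>
    have : killVars S (C a : MvPolynomial σ k) = C a := by
      simp [killVars]
    rw [this, sub_self]
    exact Ideal.zero_mem _
  | add p q hp hq =>
    rw [map_add]
    have : p + q - (killVars S p + killVars S q) = (p - killVars S p) + (q - killVars S q) := by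
      ring
    rw [this]
    exact Ideal.add_mem _ hp hq
  | mul_X p j hp =>
    rw [map_mul]
    by_cases hj : j ∈ S
    · have h1 : killVars S (X j : MvPolynomial σ k) = 0 := by
        simp [killVars, hj]
      rw [h1, mul_zero, sub_zero]
      exact Ideal.mul_mem_left _ _ (Ideal.subset_span ⟨j, hj, rfl⟩)
    · have h1 : killVars S (X j : MvPolynomial σ k) = X j := by
        simp [killVars, hj]
      rw [h1, ← sub_mul]
      exact Ideal.mul_mem_right _ _ hp

theorem ker_killVars (S : Set σ) [DecidablePred (· ∈ S)] :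
    RingHom.ker (killVars (k := k) S).toRingHom = Ideal.span (X '' S : Set (MvPolynomial σ k)) := by
  apply le_antisymm
  · intro f hf
    have h1 : killVars S f = 0 := hf
    have h2 := sub_killVars_mem S f
    rwa [h1, sub_zero] at h2
  · rw [Ideal.span_le]
    rintro _ ⟨j, hj, rfl⟩
    change killVars S (X j : MvPolynomial σ k) = 0
    simp [killVars, hj]

theorem isPrime_span_X_image [IsDomain k] (S : Set σ) :
    (Ideal.span (X '' S : Set (MvPolynomial σ k))).IsPrime := by
  classical
  rw [← ker_killVars S]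
  exact RingHom.ker_isPrime _

theorem X_mem_span_X_image_iff [Nontrivial k] (S : Set σ) (j : σ) :
    (X j : MvPolynomial σ k) ∈ Ideal.span (X '' S : Set (MvPolynomial σ k)) ↔ j ∈ S := by
  classical
  constructor
  · intro h
    rw [MvPolynomial.mem_ideal_span_X_image] at h
    have hsupp : (Finsupp.single j 1 : σ →₀ ℕ) ∈ (X j : MvPolynomial σ k).support := by
      rw [MvPolynomial.support_X]
      exact Finset.mem_singleton_self _
    obtain ⟨i, hi, hne⟩ := h _ hsupp
    have : i = j := by
      by_contra hij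
      apply hne
      rw [Finsupp.single_apply, if_neg (fun h => hij h.symm)]
    rwa [← this]
  · intro h
    exact Ideal.subset_span ⟨j, h, rfl⟩

end MvPoly

section Final

open MvPolynomial

variable (k : Type u) [Field k] (n : ℕ)

/-- The grading of the polynomial ring by total degree. -/
noncomputable abbrev grad : ℕ → Submodule k (MvPolynomial (Fin (n + 1)) k) :=
  MvPolynomial.homogeneousSubmodule (Fin (n + 1)) k

variable [GradedAlgebra (grad k n)]

/-- The sets of variables `{X_1, …, X_i}`. -/
def varSet (i : ℕ) : Set (Fin (n + 1)) := {j | j ≠ 0 ∧ j.val ≤ i}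

/-- The point of projective space given by the ideal `(X_1, …, X_i)`. -/
noncomputable def chainPt (i : ℕ) : ProjectiveSpectrum (grad k n) where
  asHomogeneousIdeal := ⟨Ideal.span (X '' varSet n i), by
    apply Ideal.homogeneous_span
    rintro _ ⟨j, -, rfl⟩
    exact ⟨1, (MvPolynomial.mem_homogeneousSubmodule _ _).mpr (MvPolynomial.isHomogeneous_X k j)⟩⟩
  isPrime := isPrime_span_X_image _
  not_irrelevant_le := by
    intro hle
    have h1 : (X 0 : MvPolynomial (Fin (n + 1)) k) ∈ HomogeneousIdeal.irrelevant (grad k n) :=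
      HomogeneousIdeal.mem_irrelevant_of_mem _ (i := 1) Nat.zero_lt_one
        ((MvPolynomial.mem_homogeneousSubmodule _ _).mpr (MvPolynomial.isHomogeneous_X k 0))
    have h2 : (X 0 : MvPolynomial (Fin (n + 1)) k) ∈ Ideal.span (X '' varSet n i) := hle h1
    rw [X_mem_span_X_image_iff] at h2
    exact h2.1 rfl

theorem chainPt_strictMono : StrictMono (fun i : Fin (n + 1) => chainPt k n i.val) := by
  intro a b hab
  have hab' : a.val < b.val := hab
  refine lt_of_le_of_ne ?_ ?_
  · change Ideal.span (X '' varSet n a.val) ≤ Ideal.span (X '' varSet n b.val)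
    apply Ideal.span_mono
    apply Set.image_mono
    intro j hj
    exact ⟨hj.1, hj.2.trans hab'.le⟩
  · intro heq
    have h1 : (X b : MvPolynomial (Fin (n + 1)) k) ∈ Ideal.span (X '' varSet n b.val) := by
      rw [X_mem_span_X_image_iff]
      refine ⟨?_, le_rfl⟩
      intro hb0
      rw [hb0] at hab'
      exact Nat.not_lt_zero _ hab'
    have h2 : (X b : MvPolynomial (Fin (n + 1)) k) ∈ Ideal.span (X '' varSet n a.val) := by
      have := congrArg (fun x : ProjectiveSpectrum (grad k n) => x.asHomogeneousIdeal.toIdeal) heq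
      change Ideal.span (X '' varSet n a.val) = Ideal.span (X '' varSet n b.val) at this
      rw [this]
      exact h1
    rw [X_mem_span_X_image_iff] at h2
    exact absurd h2.2 (not_le.mpr hab')

theorem krullDim_projectiveSpectrum :
    krullDim (ProjectiveSpectrum (grad k n)) = (n : WithBot ℕ∞) := by
  apply le_antisymm
  · refine iSup_le fun p => ?_
    have hunit : ∀ a ∈ grad k n 0, a ≠ 0 → IsUnit a := by
      intro a ha hne
      rw [MvPolynomial.mem_homogeneousSubmodule,
        ← MvPolynomial.totalDegree_zero_iff_isHomogeneous,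
        MvPolynomial.totalDegree_eq_zero_iff_eq_C] at ha
      rw [ha] at hne ⊢
      have hc : MvPolynomial.coeff 0 a ≠ 0 := by
        intro h0
        apply hne
        rw [h0, map_zero]
      exact (isUnit_iff_ne_zero.mpr hc).map MvPolynomial.C
    have : (HomogeneousIdeal.irrelevant (grad k n)).toIdeal.IsPrime := by
      rw [HomogeneousIdeal.toIdeal_irrelevant]
      exact RingHom.ker_isPrime _
    have h1 := length_succ_le (grad k n) (HomogeneousIdeal.irrelevant (grad k n)).toIdeal
      (lt_irrelevant (grad k n) hunit) p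
    rw [MvPolynomial.ringKrullDim_of_isNoetherianRing, ringKrullDim_eq_zero_of_field, zero_add,
      Nat.card_eq_fintype_card, Fintype.card_fin] at h1
    have h2 : p.length + 1 ≤ n + 1 := by exact_mod_cast h1
    exact_mod_cast Nat.le_of_succ_le_succ h2
  · have := (LTSeries.mk n (fun i : Fin (n + 1) => chainPt k n i.val)
      (chainPt_strictMono k n)).length_le_krullDim
    exact this

theorem main : topologicalKrullDim ↥(Proj (grad k n)) = (n : WithBot ℕ∞) := by
  rw [topologicalKrullDim_proj, krullDim_projectiveSpectrum]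

end Final

end Groth.Agent.Lib.Helper27ProjDim
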