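import Mathlib
import Groth.Prelude.Def_W4c5nonratstablectREq

/-!
# A direct R-link from an affine chart of `P^1_K` (helper27)
-/

set_option autoImplicit false
universe u

open CategoryTheory CategoryTheory.Limits AlgebraicGeometry

namespace Groth.Agent.Lib.Helper27LinkChart

variable {k : Type u} [Field k] {Y : Scheme.{u}} (f₀ : Y ⟶ Spec (CommRingCat.of k))
  {Z : Scheme.{u}} (V : Z.Opens) (b : (V : Scheme.{u}) ⟶ Y) (pZ : Z ⟶ Spec (CommRingCat.of k))
  (hb : b ≫ f₀ = V.ι ≫ pZ)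
  (K : Type u) [Field K] [Algebra k K]
  {L : Type u} [CommRing L] (chart : Spec (CommRingCat.of L) ⟶ REq.P1K K) [IsOpenImmersion chart]
  (sK : K →+* L) (hchart : chart ≫ REq.P1K.toSpec K = Spec.map (CommRingCat.ofHom sK))
  (ℓ : Spec (CommRingCat.of L) ⟶ Z)
  (hℓ : ℓ ≫ pZ = Spec.map (CommRingCat.ofHom sK) ≫ REq.specMap k K)
  (e₀ e₁ : L →+* K) (he₀ : e₀.comp sK = RingHom.id K) (he₁ : e₁.comp sK = RingHom.id K)
  (A B : REq.Pts f₀ K) (AV BV : Spec (CommRingCat.of K) ⟶ (V : Scheme.{u}))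
  (hA : AV ≫ b = A.1) (hB : BV ≫ b = B.1)
  (hA' : Spec.map (CommRingCat.ofHom e₀) ≫ ℓ = AV ≫ V.ι)
  (hB' : Spec.map (CommRingCat.ofHom e₁) ≫ ℓ = BV ≫ V.ι)

include hb hchart hℓ he₀ he₁ hA hB hA' hB' in
theorem elemLink : REq.ElemLink f₀ K A B := by
  set α₀ : Spec (CommRingCat.of K) ⟶ Spec (CommRingCat.of L) :=
    Spec.map (CommRingCat.ofHom e₀) with hα₀
  set β₀ : Spec (CommRingCat.of K) ⟶ Spec (CommRingCat.of L) :=
    Spec.map (CommRingCat.ofHom e₁) with hβ₀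
  set W : (REq.P1K K).Opens := chart ''ᵁ (ℓ ⁻¹ᵁ V) with hW
  have hWrange : Set.range W.ι.base ⊆ Set.range chart.base := by
    rw [Scheme.Opens.range_ι]
    rintro _ ⟨y, -, rfl⟩
    exact ⟨y, rfl⟩
  set w1 : (W : Scheme.{u}) ⟶ Spec (CommRingCat.of L) :=
    IsOpenImmersion.lift chart W.ι hWrange with hw1
  have hw1c : w1 ≫ chart = W.ι := IsOpenImmersion.lift_fac _ _ _
  have hw1V : Set.range (w1 ≫ ℓ).base ⊆ Set.range V.ι.base := by
    rw [Scheme.Opens.range_ι]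
    rintro _ ⟨w, rfl⟩
    have h1 : (W.ι.base w) ∈ (W : Set (REq.P1K K)) := w.2
    rw [← hw1c] at h1
    obtain ⟨y, hy, hyw⟩ := h1
    have : y = w1.base w := chart.isOpenEmbedding.injective hyw
    rw [this] at hy
    exact hy
  set w2 : (W : Scheme.{u}) ⟶ (V : Scheme.{u}) :=
    IsOpenImmersion.lift V.ι (w1 ≫ ℓ) hw1V with hw2
  have hw2V : w2 ≫ V.ι = w1 ≫ ℓ := IsOpenImmersion.lift_fac _ _ _
  have hαW : Set.range (α₀ ≫ chart).base ⊆ Set.range W.ι.base := by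
    rw [Scheme.Opens.range_ι]
    rintro _ ⟨x, rfl⟩
    refine ⟨α₀.base x, ?_, rfl⟩
    have : (α₀ ≫ ℓ).base x ∈ (V : Set _) := by
      rw [hA']
      exact (AV.base x).2
    exact this
  have hβW : Set.range (β₀ ≫ chart).base ⊆ Set.range W.ι.base := by
    rw [Scheme.Opens.range_ι]
    rintro _ ⟨x, rfl⟩
    refine ⟨β₀.base x, ?_, rfl⟩
    have : (β₀ ≫ ℓ).base x ∈ (V : Set _) := by
      rw [hB']
      exact (BV.base x).2
    exact this
  set α : Spec (CommRingCat.of K) ⟶ (W : Scheme.{u}) :=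
    IsOpenImmersion.lift W.ι (α₀ ≫ chart) hαW with hα
  set β : Spec (CommRingCat.of K) ⟶ (W : Scheme.{u}) :=
    IsOpenImmersion.lift W.ι (β₀ ≫ chart) hβW with hβ
  have hαι : α ≫ W.ι = α₀ ≫ chart := IsOpenImmersion.lift_fac _ _ _
  have hβι : β ≫ W.ι = β₀ ≫ chart := IsOpenImmersion.lift_fac _ _ _
  have hαw1 : α ≫ w1 = α₀ := by
    rw [← cancel_mono chart, Category.assoc, hw1c, hαι]
  have hβw1 : β ≫ w1 = β₀ := by
    rw [← cancel_mono chart, Category.assoc, hw1c, hβι]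
  have hαw2 : α ≫ w2 = AV := by
    rw [← cancel_mono V.ι, Category.assoc, hw2V, ← Category.assoc, hαw1, hA']
  have hβw2 : β ≫ w2 = BV := by
    rw [← cancel_mono V.ι, Category.assoc, hw2V, ← Category.assoc, hβw1, hB']
  refine ⟨W, w2 ≫ b, α, β, ?_, ?_, ?_, ?_, ?_⟩
  · rw [Category.assoc, hb, ← Category.assoc, hw2V, Category.assoc, hℓ, ← hchart,
      ← Category.assoc, ← Category.assoc, hw1c]
    rfl
  · rw [← Category.assoc, hαι, Category.assoc, hchart, hα₀, ← Spec.map_comp,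
      ← CommRingCat.ofHom_comp, he₀]
    exact Spec.map_id _
  · rw [← Category.assoc, hβι, Category.assoc, hchart, hβ₀, ← Spec.map_comp,
      ← CommRingCat.ofHom_comp, he₁]
    exact Spec.map_id _
  · rw [← Category.assoc, hαw2, hA]
  · rw [← Category.assoc, hβw2, hB]

end Groth.Agent.Lib.Helper27LinkChart
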