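import Groth.Agent.Lib.Helper27ProjSpaceBC2

/-!
# Evaluation of `R[T]_(X_i)` at a point with `i`-th coordinate `1` (helper27)
-/

set_option autoImplicit false
universe u

open CategoryTheory CategoryTheory.Limits AlgebraicGeometry HomogeneousLocalization MvPolynomial

namespace Groth.Agent.Lib.Helper27EvAway

open Groth.Agent.Lib.Helper27ProjSpaceBC Groth.Agent.Lib.Helper27DehomAway

variable {n : ℕ} {R : Type u} [CommRing R] (i : Fin (n + 1)) (c : Fin (n + 1) → R)

/-- evaluation on the localization. -/
noncomputable def evLoc (hc : c i = 1) :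
    Localization.Away (X i : MvPolynomial (Fin (n + 1)) R) →+* R :=
  IsLocalization.Away.lift (X i : MvPolynomial (Fin (n + 1)) R) (g := MvPolynomial.eval c)
    (by rw [eval_X, hc]; exact isUnit_one)

/-- evaluation `R[T]_(X_i) → R` at `c`. -/
noncomputable def evAway (hc : c i = 1) :
    Away (CohB1.polyGrading n R) (X i) →+* R :=
  (evLoc i c hc).comp (algebraMap (Away (CohB1.polyGrading n R) (X i))
    (Localization.Away (X i : MvPolynomial (Fin (n + 1)) R)))

theorem evAway_dehA_of_mem (hc : c i = 1) {j : ℕ} {b : MvPolynomial (Fin (n + 1)) R}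
    (hb : b ∈ CohB1.polyGrading n R j) :
    evAway i c hc (dehA (hX n R i) b) = MvPolynomial.eval c b := by
  unfold evAway evLoc
  rw [RingHom.comp_apply, HomogeneousLocalization.algebraMap_apply, val_dehA_of_mem (hX n R i) hb,
    Localization.mk_eq_mk', IsLocalization.Away.lift, IsLocalization.lift_mk'_spec]
  change _ = MvPolynomial.eval c (X i ^ j) * _
  rw [map_pow, eval_X, hc, one_pow, one_mul]

theorem evAway_comp_dehA (hc : c i = 1) :
    (evAway i c hc).comp (dehA (hX n R i)) = MvPolynomial.eval c := by
  apply MvPolynomial.ringHom_ext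
  · intro r
    rw [RingHom.comp_apply]
    exact evAway_dehA_of_mem i c hc
      ((mem_homogeneousSubmodule _ _).mpr (isHomogeneous_C _ r))
  · intro j
    rw [RingHom.comp_apply]
    exact evAway_dehA_of_mem i c hc (hX n R j)

theorem evAway_dehA (hc : c i = 1) (b : MvPolynomial (Fin (n + 1)) R) :
    evAway i c hc (dehA (hX n R i) b) = MvPolynomial.eval c b :=
  congrArg (fun φ => φ b) (evAway_comp_dehA i c hc)

theorem evAway_strA (hc : c i = 1) (r : R) :
    evAway i c hc (strA (CohB1.polyGrading n R) (X i) r) = r := by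
  rw [← dehA_algebraMap' (CohB1.polyGrading n R) (hX n R i) r, evAway_dehA]
  exact eval_C r

theorem evAway_comp_strA (hc : c i = 1) :
    (evAway i c hc).comp (strA (CohB1.polyGrading n R) (X i)) = RingHom.id R := by
  ext r
  exact evAway_strA i c hc r

theorem evAway_dehA_X (hc : c i = 1) (j : Fin (n + 1)) :
    evAway i c hc (dehA (hX n R i) (X j)) = c j := by
  rw [evAway_dehA, eval_X]

end Groth.Agent.Lib.Helper27EvAway
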