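import Mathlib
import Groth.Agent.Lib.Helper27EvAway
import Groth.Prelude.Def_W4c5nonratstablectREq

/-!
# Lines in affine space as R-links (helper27)

Two `K`-points of an open `V` of affine space `𝔸^m_k` are joined by the line through them, which
gives a direct R-link on any scheme which is a retract of `V`.
-/

set_option autoImplicit false
universe u

open CategoryTheory CategoryTheory.Limits AlgebraicGeometry HomogeneousLocalization MvPolynomial

namespace Groth.Agent.Lib.Helper27AffineLine

open Groth.Agent.Lib.Helper27ProjSpaceBC Groth.Agent.Lib.Helper27DehomAway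
  Groth.Agent.Lib.Helper27EvAway

section Chart
variable (K : Type u) [Field K]

/-- the coordinate ring of the chart `T₀ ≠ 0` of `P^1_K`. -/
abbrev Lam : Type u := Away (CohB1.polyGrading 1 K) (X 0 : MvPolynomial (Fin (1 + 1)) K)

/-- `overIso` with source `Proj`. -/
noncomputable def overIso' : Proj (CohB1.polyGrading 1 K) ≅ REq.P1K K := overIso 1 K

theorem overIso'_hom_toSpec : (overIso' K).hom ≫ REq.P1K.toSpec K = toSpec' 1 K :=
  overIso_hom_toBase 1 K

/-- the chart `𝔸^1_K ⟶ P^1_K`. -/
noncomputable def chart : Spec (CommRingCat.of (Lam K)) ⟶ REq.P1K K :=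
  Proj.awayι (CohB1.polyGrading 1 K) (X 0) (hX 1 K 0) Nat.one_pos ≫ (overIso' K).hom

instance : IsOpenImmersion (chart K) := by
  unfold chart
  infer_instance

theorem chart_toSpec :
    chart K ≫ REq.P1K.toSpec K =
      Spec.map (CommRingCat.ofHom (strA (CohB1.polyGrading 1 K) (X 0))) := by
  unfold chart
  rw [Category.assoc, overIso'_hom_toSpec]
  exact awayι_toSpec 1 K (X 0) (hX 1 K 0)

/-- the coordinate `t = T₁ / T₀`. -/
noncomputable def tau : Lam K := dehA (hX 1 K 0) (X 1)

/-- the point `(1 : c)`. -/
def pt (c : K) : Fin (1 + 1) → K := ![1, c]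

theorem pt_zero (c : K) : pt K c 0 = 1 := rfl

/-- evaluation at `t = c`. -/
noncomputable def evc (c : K) : Lam K →+* K := evAway 0 (pt K c) (pt_zero K c)

theorem evc_strA (c r : K) : evc K c (strA (CohB1.polyGrading 1 K) (X 0) r) = r :=
  evAway_strA 0 (pt K c) (pt_zero K c) r

theorem evc_tau (c : K) : evc K c (tau K) = c := by
  unfold evc tau
  rw [evAway_dehA_X]
  rfl

theorem evc_comp_strA (c : K) :
    (evc K c).comp (strA (CohB1.polyGrading 1 K) (X 0)) = RingHom.id K :=
  evAway_comp_strA 0 (pt K c) (pt_zero K c)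

end Chart

section Line
variable {k : Type u} [Field k] (K : Type u) [Field K] [Algebra k K] {m : ℕ}

/-- the line `t ↦ (1 - t) a + t b` on coordinate rings. -/
noncomputable def lineHom (a b : Fin m → K) : MvPolynomial (Fin m) k →+* Lam K :=
  eval₂Hom ((strA (CohB1.polyGrading 1 K) (X 0)).comp (algebraMap k K))
    (fun i => strA (CohB1.polyGrading 1 K) (X 0) (a i) +
      strA (CohB1.polyGrading 1 K) (X 0) (b i - a i) * tau K)

theorem lineHom_comp_algebraMap (a b : Fin m → K) :
    (lineHom K a b).comp (algebraMap k (MvPolynomial (Fin m) k)) =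
      (strA (CohB1.polyGrading 1 K) (X 0)).comp (algebraMap k K) := by
  ext r
  simp [lineHom, MvPolynomial.algebraMap_eq]

theorem evc_zero_comp_lineHom (a b : Fin m → K) :
    (evc K 0).comp (lineHom (k := k) K a b) = eval₂Hom (algebraMap k K) a := by
  apply MvPolynomial.ringHom_ext
  · intro r
    simp [lineHom, evc_strA]
  · intro i
    simp [lineHom, evc_strA, evc_tau]

theorem evc_one_comp_lineHom (a b : Fin m → K) :
    (evc K 1).comp (lineHom (k := k) K a b) = eval₂Hom (algebraMap k K) b := by
  apply MvPolynomial.ringHom_ext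
  · intro r
    simp [lineHom, evc_strA]
  · intro i
    simp [lineHom, evc_strA, evc_tau]

theorem eq_eval₂Hom (φ : MvPolynomial (Fin m) k →+* K)
    (hφ : φ.comp (algebraMap k (MvPolynomial (Fin m) k)) = algebraMap k K) :
    φ = eval₂Hom (algebraMap k K) (fun i => φ (X i)) := by
  apply MvPolynomial.ringHom_ext
  · intro r
    have := congrArg (fun ψ => ψ r) hφ
    simpa [MvPolynomial.algebraMap_eq] using this
  · intro i
    simp

end Line

end Groth.Agent.Lib.Helper27AffineLine
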