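import Mathlib
import Groth.Agent.Lib.Helper27AffineLine

/-!
# Lines in projective space (helper27)
-/

set_option autoImplicit false
universe u

open CategoryTheory CategoryTheory.Limits AlgebraicGeometry HomogeneousLocalization MvPolynomial

namespace Groth.Agent.Lib.Helper27ProjLine

open Groth.Agent.Lib.Helper27ProjSpaceBC Groth.Agent.Lib.Helper27DehomAway

section EvG
variable {n : ℕ} {R : Type u} [CommRing R] (g : MvPolynomial (Fin (n + 1)) R)
  (hg : g ∈ CohB1.polyGrading n R 1) (c : Fin (n + 1) → R) (hc : MvPolynomial.eval c g = 1)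

/-- evaluation on the localization. -/
noncomputable def evLocG : Localization.Away g →+* R :=
  IsLocalization.Away.lift g (g := MvPolynomial.eval c) (by rw [hc]; exact isUnit_one)

/-- evaluation `R[T]_(g) → R` at a point `c` with `g(c) = 1`. -/
noncomputable def evG : Away (CohB1.polyGrading n R) g →+* R :=
  (evLocG g c hc).comp (algebraMap (Away (CohB1.polyGrading n R) g) (Localization.Away g))

include hg in
theorem evG_dehA_of_mem {j : ℕ} {b : MvPolynomial (Fin (n + 1)) R}
    (hb : b ∈ CohB1.polyGrading n R j) :
    evG g c hc (dehA hg b) = MvPolynomial.eval c b := by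
  unfold evG evLocG
  rw [RingHom.comp_apply, HomogeneousLocalization.algebraMap_apply, val_dehA_of_mem hg hb,
    Localization.mk_eq_mk', IsLocalization.Away.lift, IsLocalization.lift_mk'_spec]
  change _ = MvPolynomial.eval c (g ^ j) * _
  rw [map_pow, hc, one_pow, one_mul]

include hg in
theorem evG_comp_dehA : (evG g c hc).comp (dehA hg) = MvPolynomial.eval c := by
  apply MvPolynomial.ringHom_ext
  · intro r
    rw [RingHom.comp_apply]
    exact evG_dehA_of_mem g hg c hc
      ((mem_homogeneousSubmodule _ _).mpr (isHomogeneous_C _ r))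
  · intro j
    rw [RingHom.comp_apply]
    exact evG_dehA_of_mem g hg c hc (hX n R j)

include hg in
theorem evG_strA (r : R) : evG g c hc (strA (CohB1.polyGrading n R) g r) = r := by
  rw [← dehA_algebraMap' (CohB1.polyGrading n R) hg r, ← RingHom.comp_apply,
    evG_comp_dehA g hg c hc]
  exact eval_C r

include hg in
theorem evG_comp_strA :
    (evG g c hc).comp (strA (CohB1.polyGrading n R) g) = RingHom.id R := by
  ext r
  exact evG_strA g hg c hc r

end EvG

section Line
variable {k : Type u} [Field k] (K : Type u) [Field K] [Algebra k K] {n : ℕ}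
  (a b : Fin (n + 1) → K)

/-- the images of the coordinates. -/
noncomputable def img (j : Fin (n + 1)) : MvPolynomial (Fin (1 + 1)) K :=
  C (a j) * X 0 + C (b j) * X 1

theorem isHomogeneous_img (j : Fin (n + 1)) : (img K a b j).IsHomogeneous 1 := by
  unfold img
  refine IsHomogeneous.add ?_ ?_
  · have := (isHomogeneous_C (Fin (1 + 1)) (a j)).mul (isHomogeneous_X K (0 : Fin (1 + 1)))
    rwa [zero_add] at this
  · have := (isHomogeneous_C (Fin (1 + 1)) (b j)).mul (isHomogeneous_X K (1 : Fin (1 + 1)))
    rwa [zero_add] at this

/-- the line through `a` and `b`, on homogeneous coordinate rings. -/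
noncomputable def lineRing : MvPolynomial (Fin (n + 1)) k →+* MvPolynomial (Fin (1 + 1)) K :=
  eval₂Hom ((C : K →+* MvPolynomial (Fin (1 + 1)) K).comp (algebraMap k K)) (img K a b)

/-- the line as a graded ring hom. -/
noncomputable def lineG : CohB1.polyGrading n k →+*ᵍ CohB1.polyGrading 1 K :=
  { toRingHom := lineRing K a b
    map_mem := fun {d x} hx => by
      rw [mem_homogeneousSubmodule] at hx ⊢
      have := hx.eval₂ ((C : K →+* MvPolynomial (Fin (1 + 1)) K).comp (algebraMap k K))
        (img K a b) (fun r => isHomogeneous_C (Fin (1 + 1)) (algebraMap k K r))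
        (isHomogeneous_img K a b)
      rw [one_mul] at this
      exact this }

theorem lineG_apply (x : MvPolynomial (Fin (n + 1)) k) : lineG K a b x = lineRing K a b x := rfl

theorem lineG_C (r : k) : lineG K a b (C r) = C (algebraMap k K r) := by
  rw [lineG_apply]
  simp [lineRing]

theorem lineG_X (j : Fin (n + 1)) :
    lineG (k := k) K a b (X j : MvPolynomial (Fin (n + 1)) k) = img K a b j := by
  rw [lineG_apply]
  simp [lineRing]

theorem eval_comp_lineRing (c : Fin (1 + 1) → K) :
    (MvPolynomial.eval c).comp (lineRing (k := k) K a b) =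
      eval₂Hom (algebraMap k K) (fun j => a j * c 0 + b j * c 1) := by
  apply MvPolynomial.ringHom_ext
  · intro r
    simp [lineRing]
  · intro j
    simp [lineRing, img]

end Line

end Groth.Agent.Lib.Helper27ProjLine
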