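import Mathlib
import Groth.Agent.Lib.Helper27ProjLine
import Groth.Agent.Lib.Helper27LinkChart
import Groth.Agent.Lib.Helper27PnSections

/-!
# Two points of an open of projective space are joined by a line (helper27)
-/

set_option autoImplicit false
universe u

open CategoryTheory CategoryTheory.Limits AlgebraicGeometry HomogeneousLocalization MvPolynomial

namespace Groth.Agent.Lib.Helper27ProjLine

open Groth.Agent.Lib.Helper27ProjSpaceBC Groth.Agent.Lib.Helper27DehomAway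

/-- `overIso` with source `Proj`. -/
noncomputable def ovP (n : ℕ) (R : Type u) [CommRing R] :
    Proj (CohB1.polyGrading n R) ≅ CohB1.ProjSpaceOver n (Spec (CommRingCat.of R)) := overIso n R

theorem ovP_hom_toBase (n : ℕ) (R : Type u) [CommRing R] :
    (ovP n R).hom ≫ CohB1.ProjSpaceOver.toBase n (Spec (CommRingCat.of R)) = toSpec' n R :=
  overIso_hom_toBase n R

theorem ovP_inv_toSpec (n : ℕ) (R : Type u) [CommRing R] :
    (ovP n R).inv ≫ toSpec' n R = CohB1.ProjSpaceOver.toBase n (Spec (CommRingCat.of R)) :=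
  overIso_inv_toSpec n R

section Pt
variable {k : Type u} [Field k] (K : Type u) [Field K] [Algebra k K] {n : ℕ}
  (Q : Spec (CommRingCat.of K) ⟶ Proj (CohB1.polyGrading n k))
  (hQ : Q ≫ toSpec' n k = REq.specMap k K)

/-- the image point. -/
noncomputable def imgPt : ProjectiveSpectrum (CohB1.polyGrading n k) :=
  Q.base (default : PrimeSpectrum K)

theorem range_subset (ℓ : MvPolynomial (Fin (n + 1)) k) (hℓ : ℓ ∈ CohB1.polyGrading n k 1)
    (h : ℓ ∉ (imgPt K Q).asHomogeneousIdeal) :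
    Set.range Q.base ⊆
      Set.range (Proj.awayι (CohB1.polyGrading n k) ℓ hℓ Nat.one_pos).base := by
  have h1 : Set.range (Proj.awayι (CohB1.polyGrading n k) ℓ hℓ Nat.one_pos).base =
      (Proj.basicOpen (CohB1.polyGrading n k) ℓ : Set _) := by
    have := Proj.opensRange_awayι (CohB1.polyGrading n k) ℓ hℓ Nat.one_pos
    exact congrArg (fun U : (Proj (CohB1.polyGrading n k)).Opens =>
      (U : Set (Proj (CohB1.polyGrading n k)))) this
  rw [h1]
  rintro _ ⟨x, rfl⟩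
  have hx : x = (default : PrimeSpectrum K) := Subsingleton.elim _ _
  rw [hx]
  exact (ProjectiveSpectrum.mem_basicOpen _ ℓ _).mpr h

/-- the lift of the point to the chart `D₊(ℓ)`. -/
noncomputable def liftPt (ℓ : MvPolynomial (Fin (n + 1)) k) (hℓ : ℓ ∈ CohB1.polyGrading n k 1)
    (h : ℓ ∉ (imgPt K Q).asHomogeneousIdeal) :
    Spec (CommRingCat.of K) ⟶ Spec (CommRingCat.of (Away (CohB1.polyGrading n k) ℓ)) :=
  IsOpenImmersion.lift (Proj.awayι (CohB1.polyGrading n k) ℓ hℓ Nat.one_pos) Q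
    (range_subset K Q ℓ hℓ h)

theorem liftPt_awayι (ℓ : MvPolynomial (Fin (n + 1)) k) (hℓ : ℓ ∈ CohB1.polyGrading n k 1)
    (h : ℓ ∉ (imgPt K Q).asHomogeneousIdeal) :
    liftPt K Q ℓ hℓ h ≫ Proj.awayι (CohB1.polyGrading n k) ℓ hℓ Nat.one_pos = Q :=
  IsOpenImmersion.lift_fac _ _ _

/-- the ring hom of the point on the chart. -/
noncomputable def θ (ℓ : MvPolynomial (Fin (n + 1)) k) (hℓ : ℓ ∈ CohB1.polyGrading n k 1)
    (h : ℓ ∉ (imgPt K Q).asHomogeneousIdeal) : Away (CohB1.polyGrading n k) ℓ →+* K :=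
  (Spec.preimage (liftPt K Q ℓ hℓ h)).hom

theorem specMap_θ (ℓ : MvPolynomial (Fin (n + 1)) k) (hℓ : ℓ ∈ CohB1.polyGrading n k 1)
    (h : ℓ ∉ (imgPt K Q).asHomogeneousIdeal) :
    Spec.map (CommRingCat.ofHom (θ K Q ℓ hℓ h)) = liftPt K Q ℓ hℓ h := by
  unfold θ
  exact Spec.map_preimage _

include hQ in
theorem θ_comp_strA (ℓ : MvPolynomial (Fin (n + 1)) k) (hℓ : ℓ ∈ CohB1.polyGrading n k 1)
    (h : ℓ ∉ (imgPt K Q).asHomogeneousIdeal) :
    (θ K Q ℓ hℓ h).comp (strA (CohB1.polyGrading n k) ℓ) = algebraMap k K := by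
  have h1 : Spec.map (CommRingCat.ofHom (strA (CohB1.polyGrading n k) ℓ) ≫
      CommRingCat.ofHom (θ K Q ℓ hℓ h)) = Spec.map (CommRingCat.ofHom (algebraMap k K)) := by
    rw [Spec.map_comp, specMap_θ, ← awayι_toSpec n k ℓ hℓ, ← Category.assoc, liftPt_awayι]
    exact hQ
  exact congrArg CommRingCat.Hom.hom (Spec.map_injective h1)

/-- the polynomial-level ring hom. -/
noncomputable def Θ (ℓ : MvPolynomial (Fin (n + 1)) k) (hℓ : ℓ ∈ CohB1.polyGrading n k 1)
    (h : ℓ ∉ (imgPt K Q).asHomogeneousIdeal) : MvPolynomial (Fin (n + 1)) k →+* K :=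
  (θ K Q ℓ hℓ h).comp (dehA hℓ)

/-- the homogeneous coordinates of the point, normalized by `ℓ = 1`. -/
noncomputable def coord (ℓ : MvPolynomial (Fin (n + 1)) k) (hℓ : ℓ ∈ CohB1.polyGrading n k 1)
    (h : ℓ ∉ (imgPt K Q).asHomogeneousIdeal) : Fin (n + 1) → K :=
  fun j => Θ K Q ℓ hℓ h (X j)

include hQ in
theorem Θ_eq (ℓ : MvPolynomial (Fin (n + 1)) k) (hℓ : ℓ ∈ CohB1.polyGrading n k 1)
    (h : ℓ ∉ (imgPt K Q).asHomogeneousIdeal) :
    Θ K Q ℓ hℓ h = eval₂Hom (algebraMap k K) (coord K Q ℓ hℓ h) := by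
  refine Groth.Agent.Lib.Helper27AffineLine.eq_eval₂Hom K (Θ K Q ℓ hℓ h) ?_
  ext r
  have := congrArg (fun φ => φ r) (θ_comp_strA K Q hQ ℓ hℓ h)
  simp only [RingHom.comp_apply] at this
  rw [RingHom.comp_apply]
  unfold Θ
  rw [RingHom.comp_apply, dehA_algebraMap' (CohB1.polyGrading n k) hℓ r]
  exact this

theorem Θ_ℓ (ℓ : MvPolynomial (Fin (n + 1)) k) (hℓ : ℓ ∈ CohB1.polyGrading n k 1)
    (h : ℓ ∉ (imgPt K Q).asHomogeneousIdeal) : Θ K Q ℓ hℓ h ℓ = 1 := by
  unfold Θ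
  rw [RingHom.comp_apply, dehA_self, map_one]

end Pt


section Choose
variable {k : Type u} [Field k] {n : ℕ}

/-- a linear form avoiding two points. -/
theorem exists_linear_form (y z : ProjectiveSpectrum (CohB1.polyGrading n k)) :
    ∃ ℓ : MvPolynomial (Fin (n + 1)) k, ℓ ∈ CohB1.polyGrading n k 1 ∧
      ℓ ∉ y.asHomogeneousIdeal ∧ ℓ ∉ z.asHomogeneousIdeal := by
  obtain ⟨i, hi⟩ := Groth.Agent.Lib.Helper27PnSections.exists_X_not_mem n k y
  obtain ⟨j, hj⟩ := Groth.Agent.Lib.Helper27PnSections.exists_X_not_mem n k z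
  by_cases h1 : (X i : MvPolynomial (Fin (n + 1)) k) ∈ z.asHomogeneousIdeal
  · by_cases h2 : (X j : MvPolynomial (Fin (n + 1)) k) ∈ y.asHomogeneousIdeal
    · refine ⟨X i + X j, add_mem (hX n k i) (hX n k j), ?_, ?_⟩
      · intro h
        apply hi
        have h3 := y.asHomogeneousIdeal.toIdeal.sub_mem h h2
        rwa [add_sub_cancel_right] at h3
      · intro h
        apply hj
        have h3 := z.asHomogeneousIdeal.toIdeal.sub_mem h h1
        rwa [add_sub_cancel_left] at h3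
    · exact ⟨X j, hX n k j, h2, hj⟩
  · exact ⟨X i, hX n k i, hi, h1⟩

end Choose

section Main
variable {k : Type u} [Field k] (K : Type u) [Field K] [Algebra k K] {n : ℕ}
  (V : (CohB1.ProjSpaceOver n (Spec (CommRingCat.of k))).Opens)

/-- the `K`-point of `Proj` underlying a `K`-point of `V`. -/
noncomputable def ptQ (A : REq.Pts (V.ι ≫ CohB1.ProjSpaceOver.toBase n (Spec (CommRingCat.of k))) K) :
    Spec (CommRingCat.of K) ⟶ Proj (CohB1.polyGrading n k) :=
  A.1 ≫ V.ι ≫ (ovP n k).inv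

theorem ptQ_toSpec (A : REq.Pts (V.ι ≫ CohB1.ProjSpaceOver.toBase n (Spec (CommRingCat.of k))) K) :
    ptQ K V A ≫ toSpec' n k = REq.specMap k K := by
  unfold ptQ
  rw [Category.assoc, Category.assoc, ovP_inv_toSpec]
  exact A.2

theorem ptQ_ovP (A : REq.Pts (V.ι ≫ CohB1.ProjSpaceOver.toBase n (Spec (CommRingCat.of k))) K) :
    ptQ K V A ≫ (ovP n k).hom = A.1 ≫ V.ι := by
  unfold ptQ
  rw [Category.assoc, Category.assoc, Iso.inv_hom_id, Category.comp_id]

/-- any two `K`-points of an open of `P^n_k` are directly R-linked. -/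
theorem elemLink_proj
    (A B : REq.Pts (V.ι ≫ CohB1.ProjSpaceOver.toBase n (Spec (CommRingCat.of k))) K) :
    REq.ElemLink (V.ι ≫ CohB1.ProjSpaceOver.toBase n (Spec (CommRingCat.of k))) K A B := by
  obtain ⟨ℓ, hℓ, hℓA, hℓB⟩ := exists_linear_form (imgPt K (ptQ K V A)) (imgPt K (ptQ K V B))
  have hQA := ptQ_toSpec K V A
  have hQB := ptQ_toSpec K V B
  set a : Fin (n + 1) → K := coord K (ptQ K V A) ℓ hℓ hℓA with ha
  set b : Fin (n + 1) → K := coord K (ptQ K V B) ℓ hℓ hℓB with hb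
  have hσ : lineG K a b ℓ ∈ CohB1.polyGrading 1 K 1 := (lineG K a b).map_mem hℓ
  have hfun10 : (fun j => a j * (![1, 0] : Fin (1 + 1) → K) 0 +
      b j * (![1, 0] : Fin (1 + 1) → K) 1) = a := by
    funext j
    simp
  have hfun01 : (fun j => a j * (![0, 1] : Fin (1 + 1) → K) 0 +
      b j * (![0, 1] : Fin (1 + 1) → K) 1) = b := by
    funext j
    simp
  have hev10 : (MvPolynomial.eval (![1, 0] : Fin (1 + 1) → K)).comp (lineRing (k := k) K a b) =
      Θ K (ptQ K V A) ℓ hℓ hℓA := by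
    rw [eval_comp_lineRing, hfun10, Θ_eq K (ptQ K V A) hQA ℓ hℓ hℓA]
  have hev01 : (MvPolynomial.eval (![0, 1] : Fin (1 + 1) → K)).comp (lineRing (k := k) K a b) =
      Θ K (ptQ K V B) ℓ hℓ hℓB := by
    rw [eval_comp_lineRing, hfun01, Θ_eq K (ptQ K V B) hQB ℓ hℓ hℓB]
  have h10 : MvPolynomial.eval (![1, 0] : Fin (1 + 1) → K) (lineG K a b ℓ) = 1 := by
    have := congrArg (fun φ => φ ℓ) hev10
    simp only [RingHom.comp_apply] at this
    rw [Θ_ℓ] at this
    exact this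
  have h01 : MvPolynomial.eval (![0, 1] : Fin (1 + 1) → K) (lineG K a b ℓ) = 1 := by
    have := congrArg (fun φ => φ ℓ) hev01
    simp only [RingHom.comp_apply] at this
    rw [Θ_ℓ] at this
    exact this
  -- the chart of `P^1_K`
  set chart' : Spec (CommRingCat.of (Away (CohB1.polyGrading 1 K) (lineG K a b ℓ))) ⟶ REq.P1K K :=
    Proj.awayι (CohB1.polyGrading 1 K) (lineG K a b ℓ) hσ Nat.one_pos ≫ (ovP 1 K).hom with hchart'
  haveI : IsOpenImmersion chart' := by
    rw [hchart']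
    infer_instance
  have hchart : chart' ≫ REq.P1K.toSpec K =
      Spec.map (CommRingCat.ofHom (strA (CohB1.polyGrading 1 K) (lineG K a b ℓ))) := by
    rw [hchart', Category.assoc]
    change _ ≫ (ovP 1 K).hom ≫ CohB1.ProjSpaceOver.toBase 1 _ = _
    rw [ovP_hom_toBase]
    exact awayι_toSpec 1 K _ hσ
  -- the line
  set lam : Away (CohB1.polyGrading n k) ℓ →+* Away (CohB1.polyGrading 1 K) (lineG K a b ℓ) :=
    Away.map (lineG K a b) ℓ with hlam
  have hlam_strA : lam.comp (strA (CohB1.polyGrading n k) ℓ) =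
      (strA (CohB1.polyGrading 1 K) (lineG K a b ℓ)).comp (algebraMap k K) := by
    refine RingHom.ext (fun r => ?_)
    rw [RingHom.comp_apply, RingHom.comp_apply,
      ← dehA_algebraMap' (CohB1.polyGrading n k) hℓ r, hlam, map_dehA (lineG K a b) hℓ,
      ← dehA_algebraMap' (CohB1.polyGrading 1 K) hσ (algebraMap k K r)]
    exact congrArg (dehA hσ) (lineG_C K a b r)
  set ℓmap : Spec (CommRingCat.of (Away (CohB1.polyGrading 1 K) (lineG K a b ℓ))) ⟶
      CohB1.ProjSpaceOver n (Spec (CommRingCat.of k)) :=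
    Spec.map (CommRingCat.ofHom lam) ≫
      Proj.awayι (CohB1.polyGrading n k) ℓ hℓ Nat.one_pos ≫ (ovP n k).hom with hℓmap
  have hℓmap_base : ℓmap ≫ CohB1.ProjSpaceOver.toBase n (Spec (CommRingCat.of k)) =
      Spec.map (CommRingCat.ofHom (strA (CohB1.polyGrading 1 K) (lineG K a b ℓ))) ≫
        REq.specMap k K := by
    rw [hℓmap, Category.assoc, Category.assoc, ovP_hom_toBase, awayι_toSpec n k ℓ hℓ,
      ← Spec.map_comp, ← CommRingCat.ofHom_comp, hlam_strA, CommRingCat.ofHom_comp, Spec.map_comp]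
  -- the evaluations
  have he₀ : (evG (lineG K a b ℓ) (![1, 0] : Fin (1 + 1) → K) h10).comp lam =
      θ K (ptQ K V A) ℓ hℓ hℓA := by
    ext z
    obtain ⟨p, rfl⟩ := dehA_surjective hℓ z
    rw [RingHom.comp_apply, hlam, map_dehA (lineG K a b) hℓ]
    have h1 := congrArg (fun φ => φ (lineG K a b p)) (evG_comp_dehA (lineG K a b ℓ) hσ _ h10)
    simp only [RingHom.comp_apply] at h1
    have h2 := congrArg (fun φ => φ p) hev10
    simp only [RingHom.comp_apply] at h2
    exact h1.trans h2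
  have he₁ : (evG (lineG K a b ℓ) (![0, 1] : Fin (1 + 1) → K) h01).comp lam =
      θ K (ptQ K V B) ℓ hℓ hℓB := by
    ext z
    obtain ⟨p, rfl⟩ := dehA_surjective hℓ z
    rw [RingHom.comp_apply, hlam, map_dehA (lineG K a b) hℓ]
    have h1 := congrArg (fun φ => φ (lineG K a b p)) (evG_comp_dehA (lineG K a b ℓ) hσ _ h01)
    simp only [RingHom.comp_apply] at h1
    have h2 := congrArg (fun φ => φ p) hev01
    simp only [RingHom.comp_apply] at h2
    exact h1.trans h2
  have hA' : Spec.map (CommRingCat.ofHom (evG (lineG K a b ℓ) (![1, 0] : Fin (1 + 1) → K) h10)) ≫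
      ℓmap = A.1 ≫ V.ι := by
    rw [hℓmap, ← Category.assoc, ← Spec.map_comp, ← CommRingCat.ofHom_comp, he₀, specMap_θ,
      ← Category.assoc, liftPt_awayι]
    exact ptQ_ovP K V A
  have hB' : Spec.map (CommRingCat.ofHom (evG (lineG K a b ℓ) (![0, 1] : Fin (1 + 1) → K) h01)) ≫
      ℓmap = B.1 ≫ V.ι := by
    rw [hℓmap, ← Category.assoc, ← Spec.map_comp, ← CommRingCat.ofHom_comp, he₁, specMap_θ,
      ← Category.assoc, liftPt_awayι]
    exact ptQ_ovP K V B
  exact Groth.Agent.Lib.Helper27LinkChart.elemLink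
    (V.ι ≫ CohB1.ProjSpaceOver.toBase n (Spec (CommRingCat.of k))) V (𝟙 _)
    (CohB1.ProjSpaceOver.toBase n (Spec (CommRingCat.of k))) (Category.id_comp _) K chart'
    (strA (CohB1.polyGrading 1 K) (lineG K a b ℓ)) hchart ℓmap hℓmap_base _ _
    (evG_comp_strA _ hσ _ h10) (evG_comp_strA _ hσ _ h01) A B A.1 B.1
    (Category.comp_id _) (Category.comp_id _) hA' hB'

end Main

end Groth.Agent.Lib.Helper27ProjLine
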