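import Mathlib
import Groth.Agent.Lib.Helper23SecTw10

/-!
# Sections over `X_s` as polynomials in `t / s` (helper4)

For sections `s, t` of an invertible module `L` on a scheme `X`, with `G = X_s`:

* `ratio L s t : Γ(X, G)` with `ratio • s|_G = t|_G`
* `cf L s n σ : Γ(X, G)`, the coefficient of a global section `σ` of `O ⊗ L^n` with respect to the generator `1 ⊗ s^n` on `G`
* `mono L s t j m : Γ(L^(m+j), ⊤)`, the monomial `t^m s^j`, and `cf_mono`: its coefficient is `ratio^m`
* `exists_cf_eq` : every function on `G` is `cf` of some global section of some `O ⊗ L^n` (`X` qcqs, `L` invertible)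
-/

set_option autoImplicit false
set_option linter.style.haveILetI false
universe u
open CategoryTheory CategoryTheory.Limits AlgebraicGeometry TopologicalSpace Opposite

namespace Groth.Agent.Lib.Helper4.P1CritA
open Groth.Agent.Lib.Helper23.SecTw Groth.Agent.Lib.Helper6 Groth.Agent.Lib.Helper23.GenLocus
open Groth.Agent.Lib.Helper23.Extend

variable {X : Scheme.{u}} (L : X.Modules) (s t : Coh.structureModule X ⟶ L)

/-- `t / s` on `X_s` -/
noncomputable def ratio : Γ(X, CohB1.genLocus L s) :=
  coef (isGen_sv_genLocus L s) le_rfl (sv t (CohB1.genLocus L s))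

theorem ratio_spec : ratio L s t • sv s (CohB1.genLocus L s) = sv t (CohB1.genLocus L s) := by
  have := coef_spec (isGen_sv_genLocus L s) le_rfl (sv t (CohB1.genLocus L s))
  rw [res_self] at this
  exact this

/-- the generator `1 ⊗ s^n` of `O ⊗ L^n` on `X_s` -/
noncomputable def gn (n : ℕ) : Γ(CohB1.tensorMod (Coh.structureModule X) (CohB1.tensorPow L n), CohB1.genLocus L s) :=
  tm (Coh.structureModule X) (CohB1.tensorPow L n) _ (toS _ 1) (pw L _ (sv s (CohB1.genLocus L s)) n)

theorem isGen_gn (n : ℕ) : IsGen _ (CohB1.genLocus L s) (gn L s n) :=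
  isGen_tm _ _ _ _ _ (isGen_one _) (isGen_pw L _ _ (isGen_sv_genLocus L s) n)

/-- the coefficient of a global section of `O ⊗ L^n` with respect to `1 ⊗ s^n` on `X_s` -/
noncomputable def cf (n : ℕ) (σ : Γ(CohB1.tensorMod (Coh.structureModule X) (CohB1.tensorPow L n), ⊤)) :
    Γ(X, CohB1.genLocus L s) :=
  coef (isGen_gn L s n) le_rfl (res _ le_top σ)

theorem cf_spec (n : ℕ) (σ : Γ(CohB1.tensorMod (Coh.structureModule X) (CohB1.tensorPow L n), ⊤)) :
    cf L s n σ • gn L s n = res _ le_top σ := by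
  have := coef_spec (isGen_gn L s n) le_rfl (res _ le_top σ)
  rw [res_self] at this
  exact this

theorem cf_unique (n : ℕ) (σ : Γ(CohB1.tensorMod (Coh.structureModule X) (CohB1.tensorPow L n), ⊤))
    (c : Γ(X, CohB1.genLocus L s)) (h : c • gn L s n = res _ le_top σ) : c = cf L s n σ := by
  apply coef_unique
  rw [res_self]
  exact h

theorem cf_add (n : ℕ) (σ τ : Γ(CohB1.tensorMod (Coh.structureModule X) (CohB1.tensorPow L n), ⊤)) :
    cf L s n (σ + τ) = cf L s n σ + cf L s n τ := by
  unfold cf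
  rw [res_add', coef_add]

theorem cf_smul (n : ℕ) (r : Γ(X, ⊤)) (σ : Γ(CohB1.tensorMod (Coh.structureModule X) (CohB1.tensorPow L n), ⊤)) :
    cf L s n (r • σ) = resf le_top r * cf L s n σ := by
  unfold cf
  rw [res_smul, coef_smul]

/-- the monomial `t^m s^j`, a global section of `L^(m+j)` -/
noncomputable def mono : (j m : ℕ) → Γ(CohB1.tensorPow L (m + j), ⊤)
  | 0, m => pw L ⊤ (sv t ⊤) m
  | j + 1, m => tm (CohB1.tensorPow L (m + j)) L ⊤ (mono j m) (sv s ⊤)

theorem res_mono (j m : ℕ) :
    res (CohB1.tensorPow L (m + j)) le_top (mono L s t j m) =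
      ratio L s t ^ m • pw L _ (sv s (CohB1.genLocus L s)) (m + j) := by
  induction j with
  | zero =>
    change res (CohB1.tensorPow L m) le_top (pw L ⊤ (sv t ⊤) m) = _
    rw [res_pw, res_sv, ← ratio_spec L s t, pw_smul]
    rfl
  | succ j ih =>
    change res (CohB1.tensorMod (CohB1.tensorPow L (m + j)) L) le_top
      (tm (CohB1.tensorPow L (m + j)) L ⊤ (mono L s t j m) (sv s ⊤)) =
        ratio L s t ^ m • tm (CohB1.tensorPow L (m + j)) L _ (pw L _ (sv s (CohB1.genLocus L s)) (m + j))
          (sv s (CohB1.genLocus L s))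
    rw [res_tm, ih, res_sv, tm_smul_left]

/-- the monomial `1 ⊗ t^m s^j`, a global section of `O ⊗ L^(m+j)` -/
noncomputable def mono' (j m : ℕ) :
    Γ(CohB1.tensorMod (Coh.structureModule X) (CohB1.tensorPow L (m + j)), ⊤) :=
  tm (Coh.structureModule X) (CohB1.tensorPow L (m + j)) ⊤ (toS ⊤ 1) (mono L s t j m)

theorem cf_mono' (j m : ℕ) : cf L s (m + j) (mono' L s t j m) = ratio L s t ^ m := by
  symm
  apply cf_unique
  unfold mono' gn
  rw [res_tm, res_mono, tm_smul_right]
  congr 2
  exact ((map_toS (homOfLE le_top) 1).trans (by rw [map_one])).symm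

/-- every function on `X_s` is the coefficient of a global section of some `O ⊗ L^n` -/
theorem exists_cf_eq [CompactSpace X] [QuasiSeparatedSpace X] (hL : PicF.IsInvertible L)
    (f : Γ(X, CohB1.genLocus L s)) :
    ∃ (n : ℕ) (σ : Γ(CohB1.tensorMod (Coh.structureModule X) (CohB1.tensorPow L n), ⊤)), cf L s n σ = f := by
  haveI : (Coh.structureModule X).IsQuasicoherent :=
    Groth.Agent.Lib.Helper23.Serre.isQuasicoherent_structureModule' X
  obtain ⟨n, -, σ, hσ⟩ := Groth.Agent.S15744.main X L hL s (Coh.structureModule X) (toS _ f)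
  refine ⟨n, σ, (cf_unique L s n σ f ?_).symm⟩
  rw [hσ]
  unfold gn tw
  rw [← tm_smul_left, smul_toS, mul_one]

end Groth.Agent.Lib.Helper4.P1CritA
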