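import Groth.Agent.Lib.Helper6CurveDeg
import Groth.Agent.Lib.Helper23PB
import Groth.Agent.Lib.Helper23SecTw7
import Groth.Agent.Lib.Helper21UnitHom

/-!
# Invertible modules of degree `≤ 0` on every component of a reduced connected curve (helper6): S7641
-/

set_option autoImplicit false
set_option linter.style.haveILetI false
universe u
open CategoryTheory Limits AlgebraicGeometry Opposite TopologicalSpace

namespace Groth.Agent.Lib.Helper6.DegZero

open Groth.Agent.Lib.Helper23.GenLocus Groth.Agent.Lib.Helper23.SecTw
  Groth.Agent.Lib.Helper23.Extend Groth.Agent.Lib.Helper23.PB Groth.Agent.Lib.Helper6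

section General

variable {X : Scheme.{u}}

/-- a section whose generating locus is everything is an isomorphism -/
theorem isIso_of_genLocus_eq_top (L : X.Modules) (s : Coh.structureModule X ⟶ L)
    (h : CohB1.genLocus L s = ⊤) : IsIso s := by
  rw [Scheme.Modules.Hom.isIso_iff_isIso_app]
  intro W
  rw [ConcreteCategory.isIso_iff_bijective]
  exact bijective_app_of_cover s W (fun x _ => (mem_genLocus_iff L s x).1 (h ▸ trivial))

/-- the generating locus of the zero section is empty -/
theorem genLocus_zero (L : X.Modules) : CohB1.genLocus L (0 : Coh.structureModule X ⟶ L) = ⊥ := by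
  rw [eq_bot_iff]
  intro x hx
  obtain ⟨V, hxV, hV⟩ := (mem_genLocus_iff L _ x).1 hx
  have hiso : IsIso ((0 : Coh.structureModule X ⟶ L).app V) := hV V le_rfl
  have hbij : Function.Bijective ((0 : Coh.structureModule X ⟶ L).app V) :=
    ConcreteCategory.bijective_of_isIso _
  have h01 : toS V (1 : Γ(X, V)) = toS V 0 := by
    apply hbij.1
    rfl
  have h10 : (1 : Γ(X, V)) = 0 := h01
  have hbot : V = ⊥ := by
    have h1 := X.basicOpen_of_isUnit (isUnit_one (M := Γ(X, V)))
    rw [h10, Scheme.basicOpen_zero] at h1
    exact h1.symm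
  rw [hbot] at hxV
  exact hxV

/-- on a reduced scheme, a section of an invertible module with empty generating locus vanishes -/
theorem eq_zero_of_genLocus_eq_bot [IsReduced X] (L : X.Modules) (hL : PicF.IsInvertible L)
    (s : Coh.structureModule X ⟶ L) (h : CohB1.genLocus L s = ⊥) : s = 0 := by
  have hloc : ∀ x : X, ∃ W : X.Opens, x ∈ W ∧ sv s W = 0 := by
    intro x
    obtain ⟨W, e, hxW, he⟩ := exists_gen L hL x
    refine ⟨W, hxW, ?_⟩
    have h1 := genLocus_inf_eq_coef s he
    rw [h, bot_inf_eq] at h1
    have h2 : coef he le_rfl (sv s W) = 0 := (AlgebraicGeometry.basicOpen_eq_bot_iff _).1 h1.symm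
    rw [sv_eq_coef_smul s he, h2, zero_smul]
  have hsv : ∀ U : X.Opens, sv s U = 0 := by
    intro U
    refine TopCat.Presheaf.section_ext ⟨L.presheaf, L.isSheaf⟩ U (sv s U) 0 (fun x hx => ?_)
    obtain ⟨W, hxW, hW⟩ := hloc x
    have hx' : x ∈ U ⊓ W := ⟨hx, hxW⟩
    have e1 : res L (inf_le_left : U ⊓ W ≤ U) (sv s U) = 0 := by
      rw [res_sv, ← res_sv s (inf_le_right : U ⊓ W ≤ W), hW]
      exact map_zero _
    have e2 := TopCat.Presheaf.germ_res_apply L.presheaf (homOfLE (inf_le_left : U ⊓ W ≤ U)) x hx'
      (sv s U)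
    rw [map_zero]
    refine e2.symm.trans ?_
    change L.presheaf.germ (U ⊓ W) x hx' (res L inf_le_left (sv s U)) = 0
    rw [e1, map_zero]
  apply Scheme.Modules.hom_ext
  intro U
  ext t
  have h1 := app_toS s U (ofS U t)
  rw [toS_ofS, hsv U, smul_zero] at h1
  exact h1

end General

section Component

/-- an isomorphism has full generating locus -/
theorem genLocus_eq_top_of_isIso {X : Scheme.{u}} (L : X.Modules) (s : Coh.structureModule X ⟶ L)
    [IsIso s] : CohB1.genLocus L s = ⊤ := by
  rw [eq_top_iff]
  have hmem : (⊤ : X.Opens) ∈ {U : X.Opens | IsIso ((Scheme.Modules.restrictFunctor U.ι).map s)} := by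
    change IsIso _
    infer_instance
  exact le_sSup hmem

theorem isReduced_radical {X : Scheme.{u}} (I : X.IdealSheafData) : IsReduced I.radical.subscheme := by
  haveI : ∀ U, IsReduced (I.radical.subschemeCover.openCover.X U) := by
    intro U
    let U' : X.affineOpens := U
    change IsReduced (Spec (.of (Γ(X, U'.1) ⧸ I.radical.ideal U')))
    haveI : _root_.IsReduced (Γ(X, U'.1) ⧸ I.radical.ideal U') := by
      rw [← Ideal.isRadical_iff_quotient_reduced]
      exact Ideal.radical_isRadical _
    infer_instance
  exact IsReduced.of_openCover _ I.radical.subschemeCover.openCover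

variable (k : Type u) [Field k] (X : Scheme.{u}) [X.Over (Spec (CommRingCat.of k))]
  [IsProper (X ↘ Spec (CommRingCat.of k))] [IsNoetherian X]

theorem range_compι (C : Set X) (hC : C ∈ irreducibleComponents X) :
    Set.range (X.irreducibleComponentIdeal C hC).radical.subschemeι = C := by
  rw [Scheme.IdealSheafData.range_subschemeι]
  rfl

/-- on a component of dimension one on which `L` has degree `≤ 0`, the generating locus of a section
either contains the component or misses it -/
theorem component_dichotomy (C : Set X) (hC : C ∈ irreducibleComponents X)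
    (hdimC : topologicalKrullDim C = 1) (L : X.Modules) (hL : PicF.IsInvertible L)
    (s : Coh.structureModule X ⟶ L)
    (hdeg : @Curv2.deg k _ (X.irreducibleComponentIdeal C hC).radical.subscheme
      ⟨(X.irreducibleComponentIdeal C hC).radical.subschemeι ≫ (X ↘ (Spec (CommRingCat.of k)))⟩
      ((Scheme.Modules.pullback (X.irreducibleComponentIdeal C hC).radical.subschemeι).obj L) 1 ≤ 0) :
    C ⊆ (CohB1.genLocus L s : Set X) ∨ Disjoint C (CohB1.genLocus L s : Set X) := by
  letI : (X.irreducibleComponentIdeal C hC).radical.subscheme.Over (Spec (CommRingCat.of k)) :=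
    ⟨(X.irreducibleComponentIdeal C hC).radical.subschemeι ≫ (X ↘ Spec (CommRingCat.of k))⟩
  haveI : IsProper ((X.irreducibleComponentIdeal C hC).radical.subscheme ↘ Spec (CommRingCat.of k)) := by
    change IsProper ((X.irreducibleComponentIdeal C hC).radical.subschemeι ≫
      (X ↘ Spec (CommRingCat.of k)))
    infer_instance
  haveI : IrreducibleSpace (X.irreducibleComponentIdeal C hC).radical.subscheme :=
    Subtype.irreducibleSpace hC.1
  haveI : IsReduced (X.irreducibleComponentIdeal C hC).radical.subscheme := isReduced_radical _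
  haveI : IsIntegral (X.irreducibleComponentIdeal C hC).radical.subscheme :=
    isIntegral_of_irreducibleSpace_of_isReduced _
  have hrange := range_compι X C hC
  have hdim' : topologicalKrullDim (X.irreducibleComponentIdeal C hC).radical.subscheme = 1 := hdimC
  have hgen := genLocus_pullback (X.irreducibleComponentIdeal C hC).radical.subschemeι L hL s
    (pullbackUnitIso (X.irreducibleComponentIdeal C hC).radical.subschemeι).symm
  by_cases hs' : (pullbackUnitIso (X.irreducibleComponentIdeal C hC).radical.subschemeι).symm.hom ≫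
      (Scheme.Modules.pullback (X.irreducibleComponentIdeal C hC).radical.subschemeι).map s = 0
  · right
    rw [Set.disjoint_left]
    intro x hxC hxU
    rw [← hrange] at hxC
    obtain ⟨x', rfl⟩ := hxC
    have hx' : x' ∈ (X.irreducibleComponentIdeal C hC).radical.subschemeι ⁻¹ᵁ CohB1.genLocus L s := hxU
    rw [← hgen, hs', genLocus_zero] at hx'
    exact hx'
  · left
    haveI := Groth.Agent.Lib.Helper6.CurveDeg.iso_of_deg_le_zero k
      (X.irreducibleComponentIdeal C hC).radical.subscheme hdim' _
      (isInvertible_pullback (X.irreducibleComponentIdeal C hC).radical.subschemeι L hL) _ hs' hdeg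
    have htop := genLocus_eq_top_of_isIso _
      ((pullbackUnitIso (X.irreducibleComponentIdeal C hC).radical.subschemeι).symm.hom ≫
        (Scheme.Modules.pullback (X.irreducibleComponentIdeal C hC).radical.subschemeι).map s)
    rw [hgen] at htop
    intro x hxC
    rw [← hrange] at hxC
    obtain ⟨x', rfl⟩ := hxC
    have hx' : x' ∈ (X.irreducibleComponentIdeal C hC).radical.subschemeι ⁻¹ᵁ CohB1.genLocus L s := by
      rw [htop]; trivial
    exact hx'

/-- a nontrivial `H⁰` gives a nonzero morphism `O ⟶ L` -/
theorem exists_hom_ne_zero {X : Scheme.{u}} (L : X.Modules)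
    (h : ¬ Subsingleton (Sheaf.H (Coh.toAb L) 0)) :
    ∃ s : Coh.structureModule X ⟶ L, s ≠ 0 := by
  haveI : Nontrivial (Sheaf.H (Coh.toAb L) 0) := not_subsingleton_iff_nontrivial.1 h
  obtain ⟨x, hx⟩ := exists_ne (0 : Sheaf.H (Coh.toAb L) 0)
  let t : Γ(L, ⊤) := Sheaf.H.equiv₀ (Coh.toAb L) Limits.isTerminalTop x
  have ht : t ≠ 0 :=
    (AddEquiv.map_ne_zero_iff (Sheaf.H.equiv₀ (Coh.toAb L) Limits.isTerminalTop)).2 hx
  let e : (Coh.structureModule X ⟶ L) ≃+ Γ(L, ⊤) :=
    Groth.Agent.Lib.Helper21.UnitHom.unitHomAddEquiv (R := X.ringCatSheaf)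
      (Limits.isTerminalTop (α := X.Opens)) L
  exact ⟨e.symm t, (AddEquiv.map_ne_zero_iff e.symm).2 ht⟩

/-- S7641 -/
theorem main [IsReduced X] [ConnectedSpace X]
    (hdim : ∀ (C : Set X), C ∈ irreducibleComponents (X : Type u) → topologicalKrullDim C = 1)
    (L : X.Modules) (hL : PicF.IsInvertible L)
    (hdeg : ∀ (C : Set X) (hC : C ∈ irreducibleComponents (X : Type u)),
      @Curv2.deg k _ (X.irreducibleComponentIdeal C hC).radical.subscheme
        ⟨(X.irreducibleComponentIdeal C hC).radical.subschemeι ≫ (X ↘ (Spec (CommRingCat.of k)))⟩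
        ((Scheme.Modules.pullback (X.irreducibleComponentIdeal C hC).radical.subschemeι).obj L) 1 ≤ 0) :
    Subsingleton (Coh.HH X L 0) ∨ Nonempty (L ≅ Coh.structureModule X) := by
  by_cases hsub : Subsingleton (Coh.HH X L 0)
  · exact Or.inl hsub
  right
  obtain ⟨s, hs⟩ := exists_hom_ne_zero L hsub
  have hdich : ∀ (C : Set X) (hC : C ∈ irreducibleComponents (X : Type u)),
      C ⊆ (CohB1.genLocus L s : Set X) ∨ Disjoint C (CohB1.genLocus L s : Set X) :=
    fun C hC => component_dichotomy k X C hC (hdim C hC) L hL s (hdeg C hC)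
  have hclosed : IsClosed (CohB1.genLocus L s : Set X) := by
    have hfin : (irreducibleComponents (X : Type u)).Finite :=
      NoetherianSpace.finite_irreducibleComponents
    have hU : (CohB1.genLocus L s : Set X) =
        ⋃ C ∈ {C ∈ irreducibleComponents (X : Type u) | C ⊆ (CohB1.genLocus L s : Set X)}, C := by
      ext x
      constructor
      · intro hx
        obtain ⟨C, hC, hxC⟩ := exists_mem_irreducibleComponents_subset_of_isIrreducible
          ({x} : Set X) isIrreducible_singleton
        have hxC' : x ∈ C := hxC rfl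
        rcases hdich C hC with h | h
        · exact Set.mem_biUnion (⟨hC, h⟩ : C ∈ {C ∈ irreducibleComponents (X : Type u) |
            C ⊆ (CohB1.genLocus L s : Set X)}) hxC'
        · exact absurd hx (Set.disjoint_left.1 h hxC')
      · intro hx
        obtain ⟨C, ⟨_, hCU⟩, hxC⟩ := Set.mem_iUnion₂.1 hx
        exact hCU hxC
    rw [hU]
    exact (hfin.subset (Set.sep_subset _ _)).isClosed_biUnion
      (fun C hC => isClosed_of_mem_irreducibleComponents C hC.1)
  have hclopen : IsClopen (CohB1.genLocus L s : Set X) := ⟨hclosed, (CohB1.genLocus L s).2⟩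
  rcases isClopen_iff.1 hclopen with h | h
  · exfalso
    apply hs
    apply eq_zero_of_genLocus_eq_bot L hL s
    ext x
    rw [h]
    rfl
  · haveI : IsIso s := by
      apply isIso_of_genLocus_eq_top L s
      ext x
      rw [h]
      rfl
    exact ⟨(asIso s).symm⟩

end Component

end Groth.Agent.Lib.Helper6.DegZero
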