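import Mathlib
import Groth.Agent.Lib.Helper4P1CritA
import Groth.Agent.Lib.Helper6DegZero

/-!
# `t / s` is transcendental (helper4)

On an integral scheme `X`, for sections `s ≠ 0`, `t` of an invertible `L` and a point `x ∉ X_s`, `x ∈ X_t`, the powers of
`t / s ∈ Γ(X, X_s)` are linearly independent over any field `k` mapping to `Γ(X, O_X)`.
-/

set_option autoImplicit false
set_option linter.style.haveILetI false
universe u
open CategoryTheory CategoryTheory.Limits AlgebraicGeometry TopologicalSpace Opposite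

namespace Groth.Agent.Lib.Helper4.P1CritB
open Groth.Agent.Lib.Helper23.SecTw Groth.Agent.Lib.Helper6 Groth.Agent.Lib.Helper23.GenLocus
open Groth.Agent.Lib.Helper23.Extend Groth.Agent.Lib.Helper4.P1CritA

variable {X : Scheme.{u}}

/-- the scalars on an open -/
noncomputable def scal {k : Type*} [CommRing k] (ψ : k →+* Γ(X, ⊤)) (U : X.Opens) : k →+* Γ(X, U) :=
  (X.presheaf.map (homOfLE (le_top : U ≤ ⊤)).op).hom.comp ψ

theorem resf_scal {k : Type*} [CommRing k] (ψ : k →+* Γ(X, ⊤)) {U V : X.Opens} (h : V ≤ U) (c : k) :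
    resf h (scal ψ U c) = scal ψ V c := by
  change resf h (resf le_top (ψ c)) = resf le_top (ψ c)
  rw [resf_resf]

theorem resf_sum {U V : X.Opens} (h : V ≤ U) {ι : Type*} (S : Finset ι) (F : ι → Γ(X, U)) :
    resf h (∑ i ∈ S, F i) = ∑ i ∈ S, resf h (F i) := map_sum (X.presheaf.map (homOfLE h).op).hom _ _

theorem resf_zero {U V : X.Opens} (h : V ≤ U) : resf h (0 : Γ(X, U)) = 0 :=
  map_zero (X.presheaf.map (homOfLE h).op).hom

variable (L : X.Modules) (s t : Coh.structureModule X ⟶ L)

theorem lead_eq_zero [IsIntegral X] (hL : PicF.IsInvertible L) (hs : s ≠ 0) (x : X)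
    (hxs : x ∉ CohB1.genLocus L s) (hxt : x ∈ CohB1.genLocus L t)
    {k : Type*} [Field k] (ψ : k →+* Γ(X, ⊤)) (m : ℕ) (c : ℕ → k)
    (h : ∑ i ∈ Finset.range (m + 1), scal ψ (CohB1.genLocus L s) (c i) * ratio L s t ^ i = 0) : c m = 0 := by
  by_contra hcm
  obtain ⟨W, e, hxW, he⟩ := exists_gen L hL x
  obtain ⟨f, hf⟩ : ∃ f, f = coef he le_rfl (sv s W) := ⟨_, rfl⟩
  obtain ⟨g, hg⟩ : ∃ g, g = coef he le_rfl (sv t W) := ⟨_, rfl⟩
  have hsW : sv s W = f • e := by rw [hf]; exact sv_eq_coef_smul s he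
  have htW : sv t W = g • e := by rw [hg]; exact sv_eq_coef_smul t he
  have hDf : CohB1.genLocus L s ⊓ W = X.basicOpen f := by rw [hf]; exact genLocus_inf_eq_coef s he
  have hDg : CohB1.genLocus L t ⊓ W = X.basicOpen g := by rw [hg]; exact genLocus_inf_eq_coef t he
  have hxf : x ∉ X.basicOpen f := fun hx => hxs (hDf.ge hx).1
  have hxg : x ∈ X.basicOpen g := hDg.le ⟨hxt, hxW⟩
  have hDG : X.basicOpen f ≤ CohB1.genLocus L s := hDf.ge.trans inf_le_left
  have hDW : X.basicOpen f ≤ W := X.basicOpen_le f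
  -- the relation `a f = g` on `D(f)`
  have hrel : resf hDG (ratio L s t) * resf hDW f = resf hDW g := by
    apply (he _ hDW).1
    change (resf hDG (ratio L s t) * resf hDW f) • res L hDW e = resf hDW g • res L hDW e
    rw [mul_smul, ← res_smul, ← res_smul, ← hsW, ← htW, res_sv, res_sv,
      ← res_sv s hDG, ← res_sv t hDG, ← ratio_spec L s t, res_smul]
  -- the homogenised relation
  obtain ⟨F, hF⟩ : ∃ F : Γ(X, W), F = ∑ i ∈ Finset.range (m + 1), scal ψ W (c i) * f ^ (m - i) * g ^ i := ⟨_, rfl⟩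
  have hF0 : resf hDW F = 0 := by
    have h1 : resf hDW F = resf hDW f ^ m *
        resf hDG (∑ i ∈ Finset.range (m + 1), scal ψ (CohB1.genLocus L s) (c i) * ratio L s t ^ i) := by
      rw [hF, resf_sum, resf_sum, Finset.mul_sum]
      refine Finset.sum_congr rfl (fun i hi => ?_)
      have hi' : i ≤ m := Nat.lt_succ_iff.1 (Finset.mem_range.1 hi)
      change resf hDW (scal ψ W (c i) * f ^ (m - i) * g ^ i) =
        resf hDW f ^ m * resf hDG (scal ψ (CohB1.genLocus L s) (c i) * ratio L s t ^ i)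
      rw [resf_mul, resf_mul, resf_pow, resf_pow, resf_mul, resf_pow, resf_scal, resf_scal, ← hrel, mul_pow]
      have : resf hDW f ^ m = resf hDW f ^ (m - i) * resf hDW f ^ i := by
        rw [← pow_add, Nat.sub_add_cancel hi']
      rw [this]
      ring
    rw [h1, h, resf_zero, mul_zero]
  have hη : genericPoint X ∈ X.basicOpen f := by
    rw [← hDf]
    have hne : CohB1.genLocus L s ≠ ⊥ := fun hb => hs (Groth.Agent.Lib.Helper6.DegZero.eq_zero_of_genLocus_eq_bot L hL s hb)
    obtain ⟨y, hy⟩ : ∃ y, y ∈ CohB1.genLocus L s := by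
      by_contra hcon
      push Not at hcon
      exact hne (le_bot_iff.1 (fun y hy => (hcon y hy).elim))
    exact ⟨Groth.Agent.Lib.Helper6.CurveDeg.genericPoint_mem _ hy,
      Groth.Agent.Lib.Helper6.CurveDeg.genericPoint_mem _ hxW⟩
  haveI : Nonempty (X.basicOpen f) := ⟨⟨_, hη⟩⟩
  have hFz : F = 0 := by
    apply map_injective_of_isIntegral X (homOfLE hDW)
    rw [map_zero]
    exact hF0
  -- isolate the leading term
  have hdvd : f ∣ scal ψ W (c m) * g ^ m := by
    rw [hF, Finset.sum_range_succ, Nat.sub_self, pow_zero, mul_one] at hFz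
    have h2 : scal ψ W (c m) * g ^ m = -∑ i ∈ Finset.range m, scal ψ W (c i) * f ^ (m - i) * g ^ i :=
      eq_neg_of_add_eq_zero_right hFz
    rw [h2]
    apply Dvd.dvd.neg_right
    apply Finset.dvd_sum
    intro i hi
    have hi' : i < m := Finset.mem_range.1 hi
    have : f ^ (m - i) = f * f ^ (m - i - 1) := by
      rw [← pow_succ', Nat.sub_add_cancel (Nat.le_sub_of_add_le (by omega))]
    rw [this]
    exact ⟨scal ψ W (c i) * f ^ (m - i - 1) * g ^ i, by ring⟩
  apply hxf
  rw [Scheme.mem_basicOpen X f x hxW]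
  rw [Scheme.mem_basicOpen X g x hxW] at hxg
  obtain ⟨q, hq⟩ := hdvd
  have hu : IsUnit (X.presheaf.germ W x hxW (scal ψ W (c m) * g ^ m)) := by
    rw [map_mul, map_pow]
    refine IsUnit.mul ?_ (hxg.pow m)
    have : IsUnit (c m) := IsUnit.mk0 _ hcm
    exact (this.map (scal ψ W)).map _
  rw [hq, map_mul] at hu
  exact isUnit_of_mul_isUnit_left hu

/-- all coefficients of a vanishing polynomial expression in `t / s` vanish -/
theorem coeff_eq_zero [IsIntegral X] (hL : PicF.IsInvertible L) (hs : s ≠ 0) (x : X)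
    (hxs : x ∉ CohB1.genLocus L s) (hxt : x ∈ CohB1.genLocus L t)
    {k : Type*} [Field k] (ψ : k →+* Γ(X, ⊤)) (m : ℕ) (c : ℕ → k)
    (h : ∑ i ∈ Finset.range (m + 1), scal ψ (CohB1.genLocus L s) (c i) * ratio L s t ^ i = 0) :
    ∀ i ≤ m, c i = 0 := by
  induction m with
  | zero =>
    intro i hi
    rw [Nat.le_zero.1 hi]
    exact lead_eq_zero L s t hL hs x hxs hxt ψ 0 c h
  | succ m ih =>
    have hm := lead_eq_zero L s t hL hs x hxs hxt ψ (m + 1) c h
    intro i hi
    rcases Nat.lt_or_ge i (m + 1) with hlt | hge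
    · refine ih ?_ i (Nat.lt_succ_iff.1 hlt)
      rw [Finset.sum_range_succ, hm, map_zero, zero_mul, add_zero] at h
      exact h
    · rw [le_antisymm hi hge]
      exact hm

end Groth.Agent.Lib.Helper4.P1CritB

namespace Groth.Agent.Lib.Helper4.P1CritB

/-- a dimension count: a linear map from a space of dimension `≤ n + 1` whose image contains the linearly independent powers
`1, a, …, a^n` has image inside the subring generated by the scalars and `a` -/
theorem mem_closure_of_finrank {k A V : Type*} [Field k] [CommRing A] [Algebra k A] [AddCommGroup V] [Module k V]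
    [Module.Finite k V] (a : A) (n : ℕ) (hli : LinearIndependent k (fun i : Fin (n + 1) => a ^ (i : ℕ)))
    (φ : V →ₗ[k] A) (hdim : Module.finrank k V ≤ n + 1)
    (hmem : ∀ i : Fin (n + 1), a ^ (i : ℕ) ∈ LinearMap.range φ) (T : Set A) (haT : a ∈ T) (v : V) :
    φ v ∈ Subring.closure (Set.range (algebraMap k A) ∪ T) := by
  have hle : Submodule.span k (Set.range fun i : Fin (n + 1) => a ^ (i : ℕ)) ≤ LinearMap.range φ := by
    rw [Submodule.span_le]
    rintro _ ⟨i, rfl⟩
    exact hmem i
  have hfr : Module.finrank k (Submodule.span k (Set.range fun i : Fin (n + 1) => a ^ (i : ℕ))) = n + 1 := by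
    rw [finrank_span_eq_card hli, Fintype.card_fin]
  have hfr2 : Module.finrank k (LinearMap.range φ) ≤ n + 1 := (LinearMap.finrank_range_le φ).trans hdim
  have heq := Submodule.eq_of_le_of_finrank_le hle (by rw [hfr]; exact hfr2)
  have hv : φ v ∈ Submodule.span k (Set.range fun i : Fin (n + 1) => a ^ (i : ℕ)) := by
    rw [heq]
    exact ⟨v, rfl⟩
  refine Submodule.span_induction (p := fun x _ => x ∈ Subring.closure (Set.range (algebraMap k A) ∪ T))
    ?_ ?_ ?_ ?_ hv
  · rintro _ ⟨i, rfl⟩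
    exact pow_mem (Subring.subset_closure (Set.mem_union_right _ haT)) _
  · exact zero_mem _
  · intro x y _ _ hx hy
    exact add_mem hx hy
  · intro c x _ hx
    rw [Algebra.smul_def]
    exact mul_mem (Subring.subset_closure (Set.mem_union_left _ ⟨c, rfl⟩)) hx

end Groth.Agent.Lib.Helper4.P1CritB
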