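import Mathlib
import Groth.Agent.Lib.Helper4P1CritB
import Groth.Agent.Lib.Helper4CurveDegSec
import Groth.Agent.Lib.Helper4CurveDegT
import Groth.Agent.Lib.Helper4CurveRR
import Groth.Agent.S1564

/-!
# On a curve with a degree one invertible module with two sections, `Γ(X_s, O) = k[t / s]` (helper4)
-/

set_option autoImplicit false
set_option linter.style.haveILetI false
universe u
open CategoryTheory CategoryTheory.Limits AlgebraicGeometry TopologicalSpace Opposite

namespace Groth.Agent.Lib.Helper4.P1CritC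
open Groth.Agent.Lib.Helper23.SecTw Groth.Agent.Lib.Helper6 Groth.Agent.Lib.Helper23.GenLocus
open Groth.Agent.Lib.Helper23.Extend Groth.Agent.Lib.Helper4.P1CritA Groth.Agent.Lib.Helper4.P1CritB
open Groth.Agent.Lib.Helper27PnSections

variable (k : Type u) [Field k] (X : Scheme.{u}) [X.Over (Spec (CommRingCat.of k))]
  [IsProper (X ↘ (Spec (CommRingCat.of k)))]

theorem deg_tensorPow (hdim : topologicalKrullDim X ≤ 1) (L : X.Modules) (hL : PicF.IsInvertible L) (n : ℕ) :
    Curv2.deg k X (CohB1.tensorPow L n) 1 = n * Curv2.deg k X L 1 := by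
  induction n with
  | zero =>
    rw [Nat.cast_zero, zero_mul]
    exact Groth.Agent.Lib.Helper6.CurveDeg.deg_structureModule k X
  | succ n ih =>
    have h := Groth.Agent.Lib.Helper4.CurveDegT.deg_tensor k X hdim 1 1 (CohB1.tensorPow L n) L
      (Groth.Agent.Lib.Helper23.SecTw.isFinLocFreeOfRank_one_of_isInvertible _ (isInvertible_tensorPow hL n))
      (Groth.Agent.Lib.Helper23.SecTw.isFinLocFreeOfRank_one_of_isInvertible _ hL)
    change Curv2.deg k X (CohB1.tensorMod (CohB1.tensorPow L n) L) 1 = _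
    rw [Nat.mul_one] at h
    rw [h, ih]
    push_cast
    ring

variable [IsIntegral X]

theorem finrank_le (hdim : topologicalKrullDim X = 1)
    (h0 : Module.finrank k (Coh.HH X (Coh.structureModule X) 0) = 1)
    (L : X.Modules) (hL : PicF.IsInvertible L) (hdeg : Curv2.deg k X L 1 = 1) (n : ℕ) :
    Module.finrank k (Coh.HH X (CohB1.tensorMod (Coh.structureModule X) (CohB1.tensorPow L n)) 0) ≤ n + 1 := by
  rw [(Groth.Agent.Lib.Helper4.CurveChi.HHequiv k
    (Groth.Agent.Lib.Helper23.TensorUnit.unitTensorIso (CohB1.tensorPow L n)) 0).finrank_eq]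
  by_cases hs : Nontrivial (Coh.HH X (CohB1.tensorPow L n) 0)
  · have h := (Groth.Agent.S1564.result k X hdim h0 _ (isInvertible_tensorPow hL n) hs).1
    rw [deg_tensorPow k X hdim.le L hL n, hdeg, mul_one] at h
    exact_mod_cast h
  · rw [not_nontrivial_iff_subsingleton] at hs
    rw [Module.finrank_zero_of_subsingleton]
    exact Nat.zero_le _

/-- the structure map `k → Γ(X, O_X)` -/
noncomputable abbrev ψk : k →+* Γ(X, ⊤) := Coh.toGlobal (X ↘ (Spec (CommRingCat.of k)))

/-- `Γ(X_s, O)` is generated by the scalars and `t / s` -/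
theorem closure_eq_top (hdim : topologicalKrullDim X = 1)
    (h0 : Module.finrank k (Coh.HH X (Coh.structureModule X) 0) = 1)
    (L : X.Modules) (hL : PicF.IsInvertible L) (hdeg : Curv2.deg k X L 1 = 1)
    (s t : Coh.structureModule X ⟶ L) (hs : s ≠ 0) (x : X)
    (hxs : x ∉ CohB1.genLocus L s) (hxt : x ∈ CohB1.genLocus L t)
    (T : Set Γ(X, CohB1.genLocus L s)) (hT : ratio L s t ∈ T) :
    Subring.closure (Set.range (scal (ψk k X) (CohB1.genLocus L s)) ∪ T) = ⊤ := by
  haveI := Groth.Agent.Lib.Helper4.CurveRR.isNoetherian_of_proper k X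
  rw [eq_top_iff]
  intro f _
  obtain ⟨n, σ, rfl⟩ := exists_cf_eq L s hL f
  letI alg : Algebra k Γ(X, CohB1.genLocus L s) := (scal (ψk k X) (CohB1.genLocus L s)).toAlgebra
  have hcoh : Coh.IsCoh (CohB1.tensorMod (Coh.structureModule X) (CohB1.tensorPow L n)) :=
    Groth.Agent.Lib.Helper6.CurveDeg.isCoh_of_isInvertible _
      (isInvertible_tensorMod (Groth.Agent.Lib.Helper23.TensorUnit.isInvertible_structureModule X)
        (isInvertible_tensorPow hL n))
  haveI : Module.Finite k (Coh.HH X (CohB1.tensorMod (Coh.structureModule X) (CohB1.tensorPow L n)) 0) :=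
    Groth.Agent.S0002.result k X _ hcoh 0
  -- the linear maps `H⁰(O ⊗ L^n) → Γ(X_s, O)`
  let φ : ∀ n' : ℕ, Coh.HH X (CohB1.tensorMod (Coh.structureModule X) (CohB1.tensorPow L n')) 0 →ₗ[k]
      Γ(X, CohB1.genLocus L s) := fun n' =>
    { toFun := fun v => cf L s n' (hh0Equiv X _ v)
      map_add' := fun v w => by
        rw [map_add]
        exact cf_add L s n' _ _
      map_smul' := fun c v => by
        have h1 : c • v = (Coh.toGlobal (X ↘ Spec (CommRingCat.of k)) c) • v := rfl
        rw [h1, Groth.Agent.Lib.Helper4.CurveDegSec.hh0Equiv_smul']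
        exact cf_smul L s n' _ _ }
  have hφ : ∀ (n' : ℕ) v, φ n' v = cf L s n' (hh0Equiv X _ v) := fun _ _ => rfl
  -- linear independence of the powers of `t / s`
  have hli : LinearIndependent k (fun i : Fin (n + 1) => ratio L s t ^ (i : ℕ)) := by
    rw [Fintype.linearIndependent_iff]
    intro g hg i
    let c : ℕ → k := fun j => if h : j < n + 1 then g ⟨j, h⟩ else 0
    have hc : ∀ j : Fin (n + 1), c j = g j := fun j => by
      simp only [c, j.2, dif_pos, Fin.eta]
    have hsum : ∑ j ∈ Finset.range (n + 1), scal (ψk k X) (CohB1.genLocus L s) (c j) * ratio L s t ^ j = 0 := by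
      rw [← Fin.sum_univ_eq_sum_range (fun j => scal (ψk k X) (CohB1.genLocus L s) (c j) * ratio L s t ^ j) (n + 1)]
      rw [← hg]
      refine Finset.sum_congr rfl (fun j _ => ?_)
      rw [hc j, Algebra.smul_def]
      rfl
    rw [← hc i]
    exact coeff_eq_zero L s t hL hs x hxs hxt (ψk k X) n c hsum i (Nat.lt_succ_iff.1 i.2)
  -- the monomials
  have hmono : ∀ j m : ℕ, ratio L s t ^ m ∈ LinearMap.range (φ (m + j)) := fun j m =>
    ⟨(hh0Equiv X _).symm (mono' L s t j m),
      (congrArg (cf L s (m + j)) ((hh0Equiv X _).apply_symm_apply (mono' L s t j m))).trans (cf_mono' L s t j m)⟩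
  have hmem : ∀ i : Fin (n + 1), ratio L s t ^ (i : ℕ) ∈ LinearMap.range (φ n) := fun i => by
    have h := hmono (n - i) i
    rwa [Nat.add_sub_cancel' (Nat.lt_succ_iff.1 i.2)] at h
  have key := mem_closure_of_finrank (ratio L s t) n hli (φ n) (finrank_le k X hdim h0 L hL hdeg n) hmem T hT
    ((hh0Equiv X _).symm σ)
  have e : φ n ((hh0Equiv X _).symm σ) = cf L s n σ :=
    congrArg (cf L s n) ((hh0Equiv X _).apply_symm_apply σ)
  rw [e] at key
  exact key

end Groth.Agent.Lib.Helper4.P1CritC
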