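import Mathlib
import Groth.Prelude
import Groth.Agent.Lib.Helper23VeryAmple
set_option backward.isDefEq.respectTransparency.types false

/-!
# The immersion criterion of `Helper23VeryAmple` with the dimension of the projective space exposed (helper4)

`exists_immersion_of_sections` is helper23's `isRelVeryAmplePn_of_sections` (same proof), concluding with an immersion into
`P^n_S` for the given `n` instead of the existential `RelAmple.IsRelVeryAmplePn`.
-/

set_option autoImplicit false
set_option linter.unusedSectionVars false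
universe u
open CategoryTheory CategoryTheory.Limits AlgebraicGeometry TopologicalSpace Opposite HomogeneousLocalization

namespace Groth.Agent.Lib.Helper4.P1CritD

open Groth.Agent.Lib.Helper23.VeryAmple
open Groth.Agent.Lib.Helper27GrTildeSect Groth.Agent.Helper13GrTildeFrac
  Groth.Agent.Helper13Dehom Groth.Agent.Helper13AffMor Groth.Agent.Helper13SymGr
open Groth.Agent.Lib.Helper23.SecTw Groth.Agent.Lib.Helper6 Groth.Agent.Lib.Helper23.GenLocus
open Groth.Agent.Lib.Helper23.PB Groth.Agent.Helper13PullbackUnit Groth.Agent.Lib.Helper23.Extend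
open Groth.Agent.Helper13ProjUP

set_option maxHeartbeats 1600000 in
/-- **immersion criterion** (helper23), with `n` exposed -/
theorem exists_immersion_of_sections {X S : Scheme.{u}} (f : X ⟶ S) (L : X.Modules) (hL : PicF.IsInvertible L)
    (n : ℕ) (s : Fin (n + 1) → ProjUP.Γm L)
    (J : Set (Fin (n + 1))) (V : Fin (n + 1) → S.Opens)
    (hcov : ∀ x : X, ∃ j ∈ J, x ∈ CohB1.genLocus L (secHom L (s j)))
    (haff : ∀ j ∈ J, IsAffineOpen (CohB1.genLocus L (secHom L (s j))))
    (hV : ∀ j ∈ J, IsAffineOpen (V j))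
    (hle : ∀ j ∈ J, CohB1.genLocus L (secHom L (s j)) ≤ f ⁻¹ᵁ V j)
    (hgen : ∀ j (hj : j ∈ J), ∃ a : Fin (n + 1) → Γ(X, CohB1.genLocus L (secHom L (s j))),
      (∀ k, a k • res L (le_top : CohB1.genLocus L (secHom L (s j)) ≤ ⊤) (s j) = res L le_top (s k)) ∧
      Subring.closure (Set.range (f.appLE (V j) _ (hle j hj)).hom ∪ Set.range a) = ⊤) :
    ∃ i : X ⟶ CohB1.ProjSpaceOver n S, IsImmersion i ∧
      i ≫ pullback.snd (CohB1.ProjSpace.toSpec n (ULift.{u} ℤ)) (specULiftZIsTerminal.from S) = f ∧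
      Nonempty (L ≅ (Scheme.Modules.pullback i).obj (Twist.twistOver n S 1)) := by
  have hs : ProjUP.GeneratedBy L s := generatedBy_of_cover L s (fun x => by
    obtain ⟨j, -, h⟩ := hcov x
    exact ⟨j, h⟩)
  obtain ⟨r, hler, hrq, hcf, ⟨Φ⟩⟩ := exists_mor_iso' (CohB1.polyGrading n Rz.{u}) (ιP.{u} n) (qZ X) L (vP n L s)
    (ιP_mem n) (isSymmetricAlgebra_ιP n) hL (vP_smul n L s) (generatedBy_vP n L s hs)
  have hpre := preimage_basicOpen_eq (CohB1.polyGrading n Rz.{u}) (ιP.{u} n) L (vP n L s) (ιP_mem n) hL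
    (generatedBy_vP n L s hs) r hler hcf
  let r' : X ⟶ CohB1.ProjSpace n Rz.{u} := r
  let i : X ⟶ CohB1.ProjSpaceOver n S := pullback.lift r' f (specULiftZIsTerminal.hom_ext _ _)
  have hi1 : i ≫ pullback.fst (CohB1.ProjSpace.toSpec n Rz.{u}) (specULiftZIsTerminal.from S) = r' :=
    pullback.lift_fst _ _ _
  have hi2 : i ≫ pullback.snd (CohB1.ProjSpace.toSpec n Rz.{u}) (specULiftZIsTerminal.from S) = f :=
    pullback.lift_snd _ _ _
  refine ⟨i, ?_, hi2, ?_⟩
  · classical
    have hX : ∀ j : Fin (n + 1), (MvPolynomial.X j : MvPolynomial (Fin (n + 1)) Rz.{u}) ∈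
        CohB1.polyGrading n Rz.{u} 1 := fun j => MvPolynomial.isHomogeneous_X _ j
    let D : Fin (n + 1) → (CohB1.ProjSpace n Rz.{u}).Opens :=
      fun j => Proj.basicOpen (CohB1.polyGrading n Rz.{u}) (MvPolynomial.X j)
    have hD : ∀ j, IsAffineOpen (D j) := fun j => isAffineOpen_basicOpen (hX j)
    let G : Fin (n + 1) → X.Opens := fun j => CohB1.genLocus L (secHom L (s j))
    have hrD : ∀ j, r' ⁻¹ᵁ D j = G j := by
      intro j
      have h1 := hpre (Pi.single j 1)
      rw [XL_single] at h1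
      have h2 : Proj.basicOpen (CohB1.polyGrading n Rz.{u}) (ιP.{u} n (Pi.single j 1)) = D j := by
        rw [ιP_single]
      rw [h2] at h1
      exact h1
    let W : J → (CohB1.ProjSpaceOver n S).Opens := fun j =>
      pullback.fst (CohB1.ProjSpace.toSpec n Rz.{u}) (specULiftZIsTerminal.from S) ⁻¹ᵁ D j ⊓
        pullback.snd (CohB1.ProjSpace.toSpec n Rz.{u}) (specULiftZIsTerminal.from S) ⁻¹ᵁ V j
    have hWaff : ∀ j : J, IsAffineOpen (W j) := fun j =>
      isAffineOpen_pullback_inf (hD j) (hV j j.2) (isAffineOpen_top (Spec (CommRingCat.of Rz.{u}))) le_top le_top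
    have hiW : ∀ j : J, i ⁻¹ᵁ W j = G j := by
      intro j
      apply le_antisymm
      · rintro x ⟨hx1, -⟩
        have : x ∈ r' ⁻¹ᵁ D j := by
          rw [← hi1]
          exact hx1
        rw [hrD] at this
        exact this
      · intro x hx
        refine ⟨?_, ?_⟩
        · have : x ∈ r' ⁻¹ᵁ D j := by rw [hrD]; exact hx
          rw [← hi1] at this
          exact this
        · have : x ∈ f ⁻¹ᵁ V j := hle j j.2 hx
          rw [← hi2] at this
          exact this
    let Wt : (CohB1.ProjSpaceOver n S).Opens := ⨆ j : J, W j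
    have hrange : Set.range i ⊆ (Wt : Set (CohB1.ProjSpaceOver n S)) := by
      rintro _ ⟨x, rfl⟩
      obtain ⟨j, hj, hx⟩ := hcov x
      have : x ∈ i ⁻¹ᵁ W ⟨j, hj⟩ := by rw [hiW]; exact hx
      exact Opens.mem_iSup.2 ⟨⟨j, hj⟩, this⟩
    let i' : X ⟶ Wt.toScheme := IsOpenImmersion.lift Wt.ι i (by rw [Scheme.Opens.range_ι]; exact hrange)
    have hfac : i' ≫ Wt.ι = i := IsOpenImmersion.lift_fac _ _ _
    have hcl : IsClosedImmersion i' := by
      refine isClosedImmersion_of_cover i Wt i' hfac W hWaff rfl (fun j => by rw [hiW]; exact haff j j.2)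
        (fun j => ?_)
      obtain ⟨a, ha1, ha2⟩ := hgen j j.2
      have hGW : G j ≤ i ⁻¹ᵁ W j := (hiW j).ge
      have key : Function.Surjective (i.appLE (W j) (G j) hGW).hom := by
        refine surjective_appLE_of_closure i _ _ (W j) (D j) (V j) (G j) inf_le_left inf_le_right hGW _ ha2 ?_
        rintro t (⟨b, rfl⟩ | ⟨k, rfl⟩)
        · right
          exact ⟨b, appLE_hom_congr hi2 (V j) (G j) _ b⟩
        · left
          obtain ⟨a', ha'⟩ := exists_appLE_eq_ratio n L s r hler hcf j k (s j) (vP_single n L s j) (a k) (ha1 k)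
            (D j) (by rw [ιP_single]) (hrD j).ge
          exact ⟨a', (appLE_hom_congr hi1 (D j) (G j) _ a').trans ha'⟩
      have key2 : ∀ (G' : X.Opens) (e : G' = i ⁻¹ᵁ W j), Function.Surjective (i.appLE (W j) G' e.le).hom →
          Function.Surjective (i.app (W j)).hom := by
        rintro G' rfl h
        rwa [Scheme.Hom.appLE_eq_app] at h
      exact key2 (G j) (hiW j).symm key
    rw [← hfac]
    infer_instance
  · have e1 : (Scheme.Modules.pullback i).obj (Twist.twistOver n S 1) ≅
        (Scheme.Modules.pullback (i ≫ pullback.fst (CohB1.ProjSpace.toSpec n Rz.{u})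
          (specULiftZIsTerminal.from S))).obj (Twist.twistProjSpace n Rz.{u} 1) :=
      (Scheme.Modules.pullbackComp i (pullback.fst (CohB1.ProjSpace.toSpec n Rz.{u})
          (specULiftZIsTerminal.from S))).app (Twist.twistProjSpace n Rz.{u} 1)
    have e2 : (Scheme.Modules.pullback (i ≫ pullback.fst (CohB1.ProjSpace.toSpec n Rz.{u})
          (specULiftZIsTerminal.from S))).obj (Twist.twistProjSpace n Rz.{u} 1) ≅
        (Scheme.Modules.pullback r').obj (Twist.twistProjSpace n Rz.{u} 1) :=
      (Scheme.Modules.pullbackCongr hi1).app (Twist.twistProjSpace n Rz.{u} 1)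
    have e3 : (Scheme.Modules.pullback r').obj (Twist.twistProjSpace n Rz.{u} 1) ≅ L := Φ
    exact ⟨(e1 ≪≫ e2 ≪≫ e3).symm⟩


end Groth.Agent.Lib.Helper4.P1CritD
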