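import Mathlib
import Groth.Agent.Lib.Helper4P1CritC
import Groth.Agent.Lib.Helper4P1CritD
import Groth.Agent.Lib.Helper23UCAffine
import Groth.Agent.Lib.Helper27ProjLine2
import Groth.Agent.Lib.Helper27ProjDim
import Groth.Agent.Lib.Helper27ProjSpaceIrr
import Groth.Agent.Lib.Helper27PnMor
import Groth.Agent.S1530
import Groth.Agent.S3556

/-!
# A curve with a degree one invertible module generated by two sections is the projective line (helper4)

`exists_iso_P1` : `X` integral proper of dimension one over a field `k` with `H⁰(X, O_X) = k`, `L` invertible of degree one and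
two global sections `s`, `t` of `L` without common zero: then `X ≅ P^1_k` over `k`.
-/

set_option autoImplicit false
set_option linter.style.haveILetI false
set_option linter.unusedSectionVars false
set_option linter.unusedVariables false
universe u
open CategoryTheory CategoryTheory.Limits AlgebraicGeometry TopologicalSpace Opposite

namespace Groth.Agent.Lib.Helper4.P1CritE

theorem isSeparated_toSpec (n : ℕ) (R : Type u) [CommRing R] : IsSeparated (CohB1.ProjSpace.toSpec n R) := by
  change @IsSeparated (Proj (CohB1.polyGrading n R)) _ (Proj.toSpecZero (CohB1.polyGrading n R) ≫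
    Spec.map (CommRingCat.ofHom (algebraMap R (CohB1.polyGrading n R 0))))
  infer_instance

open Groth.Agent.Lib.Helper23.SecTw Groth.Agent.Lib.Helper6 Groth.Agent.Lib.Helper23.GenLocus
open Groth.Agent.Lib.Helper23.Extend Groth.Agent.Lib.Helper4.P1CritA Groth.Agent.Lib.Helper4.P1CritB
open Groth.Agent.Lib.Helper4.P1CritC

variable (k : Type u) [Field k] (X : Scheme.{u}) [X.Over (Spec (CommRingCat.of k))]
  [IsProper (X ↘ (Spec (CommRingCat.of k)))] [IsIntegral X]

/-- a section of a degree one module has a zero -/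
theorem exists_not_mem_genLocus (hdim : topologicalKrullDim X = 1) (L : X.Modules) (hL : PicF.IsInvertible L)
    (hdeg : Curv2.deg k X L 1 = 1) (s : Coh.structureModule X ⟶ L) : ∃ x : X, x ∉ CohB1.genLocus L s := by
  by_contra hcon
  push Not at hcon
  have htop : CohB1.genLocus L s = ⊤ := top_le_iff.1 (fun x _ => hcon x)
  haveI := Groth.Agent.Lib.Helper6.DegZero.isIso_of_genLocus_eq_top L s htop
  have h1 : Curv2.deg k X L 1 = Curv2.deg k X (Coh.structureModule X) 1 := by
    unfold Curv2.deg
    rw [Groth.Agent.Lib.Helper4.CurveChi.euler_congr_iso k (asIso s)]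
  rw [Groth.Agent.Lib.Helper6.CurveDeg.deg_structureModule, hdeg] at h1
  exact one_ne_zero h1

/-- the generation hypothesis of the immersion criterion on the chart `X_s` -/
theorem chart_gen (hdim : topologicalKrullDim X = 1)
    (h0 : Module.finrank k (Coh.HH X (Coh.structureModule X) 0) = 1)
    (L : X.Modules) (hL : PicF.IsInvertible L) (hdeg : Curv2.deg k X L 1 = 1)
    (s t : Coh.structureModule X ⟶ L) (hs : s ≠ 0)
    (hcov : ∀ x : X, x ∈ CohB1.genLocus L s ∨ x ∈ CohB1.genLocus L t)
    (V : (Spec (CommRingCat.of k)).Opens) (hV : V = ⊤)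
    (hle : CohB1.genLocus L s ≤ (X ↘ (Spec (CommRingCat.of k))) ⁻¹ᵁ V)
    (T : Set Γ(X, CohB1.genLocus L s)) (hT : ratio L s t ∈ T) :
    Subring.closure (Set.range ((X ↘ (Spec (CommRingCat.of k))).appLE V _ hle).hom ∪ T) = ⊤ := by
  subst hV
  obtain ⟨x, hxs⟩ := exists_not_mem_genLocus k X hdim L hL hdeg s
  have hxt : x ∈ CohB1.genLocus L t := (hcov x).resolve_left hxs
  have key := closure_eq_top k X hdim h0 L hL hdeg s t hs x hxs hxt T hT
  rw [eq_top_iff, ← key]
  apply Subring.closure_mono
  apply Set.union_subset_union_left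
  rintro _ ⟨c, rfl⟩
  exact ⟨(Scheme.ΓSpecIso (CommRingCat.of k)).inv.hom c, rfl⟩

/-- a closed immersion of an irreducible space of dimension one into an irreducible space of dimension at most one is
surjective -/
theorem surjective_of_dim {Y : Scheme.{u}} (j : X ⟶ Y) [IsClosedImmersion j] [IrreducibleSpace Y]
    (hX : topologicalKrullDim X = 1) (hY : topologicalKrullDim Y ≤ 1) : Function.Surjective j := by
  rw [← Set.range_eq_univ]
  by_contra hne
  have h1 := Groth.Agent.Lib.Helper6.CurveDeg.topologicalKrullDim_le_zero_of_ne_univ hY (Set.range j)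
    j.isClosedEmbedding.isClosed_range hne
  have h2 : topologicalKrullDim X = topologicalKrullDim (Set.range j) :=
    IsHomeomorph.topologicalKrullDim_eq _ (j.isClosedEmbedding.toIsEmbedding.toHomeomorph).isHomeomorph
  rw [hX] at h2
  rw [← h2] at h1
  exact absurd h1 (by norm_num)

/-- **`X ≅ P^1_k`** from a degree one invertible module with two sections without common zero -/
theorem exists_iso_P1 (hdim : topologicalKrullDim X = 1)
    (h0 : Module.finrank k (Coh.HH X (Coh.structureModule X) 0) = 1)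
    (L : X.Modules) (hL : PicF.IsInvertible L) (hdeg : Curv2.deg k X L 1 = 1)
    (s t : Coh.structureModule X ⟶ L)
    (hcov : ∀ x : X, x ∈ CohB1.genLocus L s ∨ x ∈ CohB1.genLocus L t) :
    ∃ e : X ≅ CohB1.ProjSpace 1 k, e.hom ≫ CohB1.ProjSpace.toSpec 1 k = X ↘ (Spec (CommRingCat.of k)) := by
  -- nonvanishing of the sections
  have hs : s ≠ 0 := by
    rintro rfl
    obtain ⟨x, hx⟩ := exists_not_mem_genLocus k X hdim L hL hdeg t
    exact (hcov x).elim (fun h => by
      rw [Groth.Agent.Lib.Helper6.DegZero.genLocus_zero] at h; exact h) hx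
  have ht : t ≠ 0 := by
    rintro rfl
    obtain ⟨x, hx⟩ := exists_not_mem_genLocus k X hdim L hL hdeg s
    exact (hcov x).elim hx (fun h => by
      rw [Groth.Agent.Lib.Helper6.DegZero.genLocus_zero] at h; exact h)
  have hample : CohB1.IsAmple L := (Groth.Agent.S1530.result k X hdim L hL).2 (by rw [hdeg]; exact one_pos)
  obtain ⟨σ₀, rfl⟩ : ∃ σ₀, s = secHom L σ₀ := ⟨sv s ⊤, (Groth.Agent.Lib.Helper27PnMor.secHom_sv L s).symm⟩
  obtain ⟨σ₁, rfl⟩ : ∃ σ₁, t = secHom L σ₁ := ⟨sv t ⊤, (Groth.Agent.Lib.Helper27PnMor.secHom_sv L t).symm⟩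
  let σ : Fin 2 → ProjUP.Γm L := ![σ₀, σ₁]
  have hσ : ∀ j : Fin 2, IsAffineOpen (CohB1.genLocus L (secHom L (σ j))) := fun j =>
    Groth.Agent.Lib.Helper23.UCAffine.isAffineOpen_genLocus_of_universallyClosed
      (X ↘ (Spec (CommRingCat.of k))) L hample _
  obtain ⟨i, hi1, hi2, -⟩ := Groth.Agent.Lib.Helper4.P1CritD.exists_immersion_of_sections
    (X ↘ (Spec (CommRingCat.of k))) L hL 1 σ Set.univ (fun _ => ⊤)
    (fun x => by
      rcases hcov x with h | h
      · exact ⟨0, trivial, h⟩
      · exact ⟨1, trivial, h⟩)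
    (fun j _ => hσ j) (fun _ _ => isAffineOpen_top _) (fun _ _ => le_top)
    (fun j _ => by
      fin_cases j
      · refine ⟨![1, ratio L (secHom L σ₀) (secHom L σ₁)], fun k' => ?_, ?_⟩
        · fin_cases k'
          · exact one_smul _ _
          · have := ratio_spec L (secHom L σ₀) (secHom L σ₁)
            rw [sv_secHom, sv_secHom] at this
            exact this
        · exact chart_gen k X hdim h0 L hL hdeg _ _ hs hcov ⊤ rfl _ _ ⟨1, rfl⟩
      · refine ⟨![ratio L (secHom L σ₁) (secHom L σ₀), 1], fun k' => ?_, ?_⟩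
        · fin_cases k'
          · have := ratio_spec L (secHom L σ₁) (secHom L σ₀)
            rw [sv_secHom, sv_secHom] at this
            exact this
          · exact one_smul _ _
        · exact chart_gen k X hdim h0 L hL hdeg _ _ ht (fun x => (hcov x).symm) ⊤ rfl _ _ ⟨0, rfl⟩)
  -- the morphism to `P^1_k`
  let j : X ⟶ CohB1.ProjSpace 1 k := i ≫ (Groth.Agent.Lib.Helper27ProjLine.ovP 1 k).inv
  have hj : j ≫ CohB1.ProjSpace.toSpec 1 k = X ↘ (Spec (CommRingCat.of k)) := by
    change (i ≫ (Groth.Agent.Lib.Helper27ProjLine.ovP 1 k).inv) ≫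
      Groth.Agent.Lib.Helper27ProjSpaceBC.toSpec' 1 k = _
    rw [Category.assoc, Groth.Agent.Lib.Helper27ProjLine.ovP_inv_toSpec]
    exact hi2
  haveI := hi1
  haveI : IsImmersion j := by
    change @IsImmersion X (Proj (CohB1.polyGrading 1 k)) (i ≫ (Groth.Agent.Lib.Helper27ProjLine.ovP 1 k).inv)
    infer_instance
  haveI : IsSeparated (CohB1.ProjSpace.toSpec 1 k) := isSeparated_toSpec 1 k
  haveI : IsProper (j ≫ CohB1.ProjSpace.toSpec 1 k) := by rw [hj]; infer_instance
  haveI : IsProper j := IsProper.of_comp j (CohB1.ProjSpace.toSpec 1 k)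
  haveI : IsClosedImmersion j := IsClosedImmersion.of_isPreimmersion j j.isClosedMap.isClosed_range
  haveI : IrreducibleSpace (CohB1.ProjSpace 1 k) :=
    Groth.Agent.Lib.Helper27ProjSpaceIrr.irreducibleSpace_projSpace 1 k
  haveI : IsReduced (CohB1.ProjSpace 1 k) :=
    Groth.Agent.S3556.result (CohB1.polyGrading 1 k) (fun f _ hf => hf.eq_zero)
  have hdimP : topologicalKrullDim (CohB1.ProjSpace 1 k) ≤ 1 :=
    (Groth.Agent.Lib.Helper27ProjDim.main k 1).le
  haveI : Surjective j := ⟨surjective_of_dim X j hdim hdimP⟩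
  haveI : IsIso j := isIso_of_isClosedImmersion_of_surjective j
  exact ⟨asIso j, hj⟩

end Groth.Agent.Lib.Helper4.P1CritE
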