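import Mathlib
import Groth.Agent.Lib.Helper4P1CritE
import Groth.Agent.Lib.Helper4CurveGrd

/-!
# `X ≅ P^1_k` from a degree one invertible module with two independent sections (helper4)

* `mem_genLocus_of_stalkL_surjective` : a section generating the stalk at `x` generates near `x`
* `exists_iso_P1_of_h0` : `X` integral proper of dimension one over `k`, `H⁰(O_X) = k`, `L` invertible of degree one with
  `h⁰(L) ≥ 2`: then `X ≅ P^1_k` over `k`
-/

set_option autoImplicit false
set_option linter.style.haveILetI false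
set_option linter.unusedSectionVars false
set_option linter.unusedVariables false
universe u
open CategoryTheory CategoryTheory.Limits AlgebraicGeometry TopologicalSpace Opposite

namespace Groth.Agent.Lib.Helper4.P1CritF
open Groth.Agent.Lib.Helper23.SecTw Groth.Agent.Lib.Helper6 Groth.Agent.Lib.Helper23.GenLocus
open Groth.Agent.Lib.Helper23.Extend Groth.Agent.Lib.Helper4.Dev

variable {X : Scheme.{u}}

/-- a section generating the stalk of an invertible module at `x` generates it near `x` -/
theorem mem_genLocus_of_stalkL_surjective (L : X.Modules) (hL : PicF.IsInvertible L)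
    (t : Coh.structureModule X ⟶ L) (x : X) (h : Function.Surjective (stalkL t x)) :
    x ∈ CohB1.genLocus L t := by
  obtain ⟨W, e, hxW, he⟩ := exists_gen L hL x
  obtain ⟨g, hg⟩ : ∃ g, g = coef he le_rfl (sv t W) := ⟨_, rfl⟩
  have htW : sv t W = g • e := by rw [hg]; exact sv_eq_coef_smul t he
  have hDg : CohB1.genLocus L t ⊓ W = X.basicOpen g := by rw [hg]; exact genLocus_inf_eq_coef t he
  suffices hx : x ∈ X.basicOpen g from (hDg.ge hx).1
  obtain ⟨c, hc⟩ := h (L.presheaf.germ W x hxW e)
  obtain ⟨U, hxU, c', rfl⟩ := (Coh.structureModule X).presheaf.exists_germ_eq c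
  rw [stalkL_germ] at hc
  -- restrict to `U ⊓ W`
  have hxUW : x ∈ U ⊓ W := ⟨hxU, hxW⟩
  have h1 : t.app U c' = ofS U c' • sv t U := by
    have := app_toS t U (ofS U c')
    rwa [toS_ofS] at this
  rw [h1] at hc
  have h2 : L.presheaf.germ (U ⊓ W) x hxUW ((resf inf_le_left (ofS U c') * resf inf_le_right g) • res L inf_le_right e) =
      L.presheaf.germ (U ⊓ W) x hxUW (res L inf_le_right e) := by
    have e1 : (resf inf_le_left (ofS U c') * resf inf_le_right g) • res L (inf_le_right : U ⊓ W ≤ W) e =
        res L (inf_le_left : U ⊓ W ≤ U) (ofS U c' • sv t U) := by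
      rw [mul_smul, ← res_smul, ← htW, res_sv, res_smul, res_sv]
    rw [e1]
    rw [TopCat.Presheaf.germ_res_apply L.presheaf (homOfLE (inf_le_left : U ⊓ W ≤ U)) x hxUW,
      TopCat.Presheaf.germ_res_apply L.presheaf (homOfLE (inf_le_right : U ⊓ W ≤ W)) x hxUW]
    exact hc
  obtain ⟨W₂, hxW₂, i₁, i₂, h3⟩ := TopCat.Presheaf.germ_eq L.presheaf x hxUW hxUW _ _ h2
  have hW₂ : W₂ ≤ U ⊓ W := leOfHom i₁
  have h4 : resf hW₂ (resf inf_le_left (ofS U c') * resf inf_le_right g) • res L (hW₂.trans inf_le_right) e =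
      (1 : Γ(X, W₂)) • res L (hW₂.trans inf_le_right) e := by
    rw [one_smul]
    have h5 : res L hW₂ ((resf inf_le_left (ofS U c') * resf inf_le_right g) • res L inf_le_right e) =
        res L hW₂ (res L inf_le_right e) := h3
    rw [res_smul, res_res] at h5
    exact h5
  have h6 := (he W₂ (hW₂.trans inf_le_right)).1 h4
  rw [Scheme.mem_basicOpen X g x hxW]
  have h7 : X.presheaf.germ W₂ x hxW₂ (resf hW₂ (resf inf_le_left (ofS U c') * resf inf_le_right g)) = 1 := by
    rw [h6, map_one]
  rw [resf_mul, resf_resf, resf_resf, map_mul] at h7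
  have h8 : X.presheaf.germ W₂ x hxW₂ (resf (hW₂.trans inf_le_right) g) = X.presheaf.germ W x hxW g :=
    TopCat.Presheaf.germ_res_apply X.presheaf (homOfLE (hW₂.trans inf_le_right)) x hxW₂ g
  rw [h8] at h7
  exact IsUnit.of_mul_eq_one _ (by rw [mul_comm]; exact h7)

/-- a point outside the support of the cokernel of a section lies in its generating locus -/
theorem mem_genLocus_of_not_mem_support_cokernel (L : X.Modules) (hL : PicF.IsInvertible L)
    (t : Coh.structureModule X ⟶ L) [Mono t] (x : X) (hx : x ∉ CohB1.support (cokernel t)) :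
    x ∈ CohB1.genLocus L t := by
  apply mem_genLocus_of_stalkL_surjective L hL t x
  intro z
  simp only [CohB1.support, Set.mem_ofPred_eq, not_not] at hx
  haveI : Subsingleton ((sesOfMono t).X₃.presheaf.stalk x) := hx
  exact (stalkL_exact (sesOfMono t) (sesOfMono_shortExact t) x z).1 (Subsingleton.elim _ _)

section Curve
open Groth.Agent.Lib.Helper27PnSections Groth.Agent.Lib.Helper4.CurveDegSec
  Groth.Agent.Lib.Helper17.HHLes Groth.Agent.Lib.Helper27SerreVan
  Groth.Agent.Lib.Helper6.CurveDeg Groth.Agent.Lib.Helper4.CurveAsym Groth.Agent.Lib.Helper4.CurveGrd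

variable (k : Type u) [Field k] (X : Scheme.{u}) [X.Over (Spec (CommRingCat.of k))]
  [IsProper (X ↘ (Spec (CommRingCat.of k)))] [IsIntegral X]

/-- on a curve with `H⁰(O) = k`, a degree one invertible module with `h⁰ ≥ 2` has two sections without common zero -/
theorem exists_sections (hdim : topologicalKrullDim X = 1)
    (h0 : Module.finrank k (Coh.HH X (Coh.structureModule X) 0) = 1)
    (L : X.Modules) (hL : PicF.IsInvertible L) (hdeg : Curv2.deg k X L 1 = 1)
    (hh0 : 2 ≤ Module.finrank k (Coh.HH X L 0)) :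
    ∃ s t : Coh.structureModule X ⟶ L, ∀ x : X, x ∈ CohB1.genLocus L s ∨ x ∈ CohB1.genLocus L t := by
  classical
  haveI : IsLocallyNoetherian X :=
    LocallyOfFiniteType.isLocallyNoetherian (X ↘ (Spec (CommRingCat.of k)))
  haveI : CompactSpace X := by
    have : QuasiCompact (X ↘ (Spec (CommRingCat.of k))) := inferInstance
    exact (quasiCompact_iff_compactSpace (X ↘ (Spec (CommRingCat.of k)))).1 this
  haveI : IsNoetherian X := {}
  have hO := Groth.Agent.Lib.Helper23.TensorUnit.isInvertible_structureModule X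
  have cO := isCoh_structureModule X
  have cL := isCoh_of_isInvertible L hL
  have hL1 := Groth.Agent.Lib.Helper23.SecTw.isFinLocFreeOfRank_one_of_isInvertible L hL
  have hposL : 0 < Module.finrank k (Coh.HH X L 0) := by omega
  haveI : Nontrivial (Coh.HH X L 0) := Module.nontrivial_of_finrank_pos (R := k) hposL
  have hle := (Groth.Agent.S1564.result k X hdim h0 L hL inferInstance).1
  have heq : Module.finrank k (Coh.HH X L 0) = 2 := by
    rw [hdeg] at hle
    have : Module.finrank k (Coh.HH X L 0) ≤ 2 := by exact_mod_cast hle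
    omega
  obtain ⟨s, hs⟩ := Groth.Agent.Lib.Helper4.CurveRR.exists_hom_ne_zero k X L hposL
  haveI : Mono s := mono_of_ne_zero hO hL s hs
  obtain ⟨hχ, -⟩ := Groth.Agent.Lib.Helper6.CurveDeg.main k X hdim _ L hO hL s hs
  set Q := cokernel s with hQdef
  set π := cokernel.π s with hπdef
  have cQ : Coh.IsCoh Q := isCoh_cokernel s cO cL
  have hQdim : topologicalKrullDim (CohB1.support Q) ≤ 0 :=
    dim_support_cokernel_le X hdim hO hL s hs
  have hQ0 : Module.finrank k (Coh.HH X Q 0) = 1 := by
    have h1 : (Module.finrank k (Coh.HH X Q 0) : ℤ) = Curv2.deg k X L 1 := by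
      unfold Curv2.deg
      rw [hχ]
      push_cast
      ring
    rw [hdeg] at h1
    exact_mod_cast h1
  have hfin : Module.finrank k (Coh.HH X L 0) =
      Module.finrank k (Coh.HH X (Coh.structureModule X) 0) + Module.finrank k (Coh.HH X Q 0) := by
    rw [h0, hQ0, heq]
  have hsurjπ : Function.Surjective (Canon.HHlin k π 0) :=
    surjective_H0_of_finrank k X (sesOfMono s) (sesOfMono_shortExact s) cO cL cQ hfin
  have hZ : IsClosed (CohB1.support Q) := Groth.Agent.S0020.result X Q cQ.2
  have hpt : ∀ x ∈ CohB1.support Q, IsClosed ({x} : Set X) :=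
    Groth.Agent.Lib.Helper4.ZeroDimGG.isClosed_singleton_of_dim_le_zero _ hZ hQdim
  have hfinS : (CohB1.support Q).Finite := Groth.Agent.S0047.finite_of_noetherian_quasiSober _ hZ hpt
  have hcl : ∀ x ∈ hfinS.toFinset, IsClosed ({x} : Set X) := fun x hx => hpt x (hfinS.mem_toFinset.1 hx)
  have hsub : CohB1.support Q ⊆ (hfinS.toFinset : Set X) := fun x hx => by
    rw [Finset.mem_coe]; exact hfinS.mem_toFinset.2 hx
  obtain ⟨u, hu⟩ := exists_hom_stalk_surjective L Q hL1 π hfinS.toFinset hcl hsub
  obtain ⟨z, hz⟩ := hsurjπ (homH0Equiv k Q u)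
  set t := (homH0Equiv k L).symm z with htdef
  have htu : t ≫ π = u := by
    apply (homH0Equiv k Q).injective
    rw [homH0Equiv_comp, htdef, LinearEquiv.apply_symm_apply, hz]
  have hdisj : ∀ x, x ∈ CohB1.support Q → x ∉ CohB1.support (cokernel t) := fun x hx =>
    not_mem_support_cokernel L hL1 s t (by rw [htu]; exact hu) x hx
  have ht : t ≠ 0 := by
    rintro h0t
    -- then `u = 0`, so `Q` has zero stalks, contradicting `h⁰(Q) = 1`
    have hu0 : u = 0 := by rw [← htu, h0t, zero_comp]
    have hQz : ∀ x, Subsingleton (Q.presheaf.stalk x) := fun x => by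
      have hsurj := hu x
      rw [hu0, stalkL_zero] at hsurj
      exact ⟨fun a b => by
        obtain ⟨a', rfl⟩ := hsurj a
        obtain ⟨b', rfl⟩ := hsurj b
        rfl⟩
    have hempty : CohB1.support Q = ∅ := by
      rw [Set.eq_empty_iff_forall_notMem]
      intro x hx
      exact hx (hQz x)
    -- every section of `L` is then a multiple of `s`... use `hdisj`-free argument: `x ∈ genLocus s` for all `x`
    have hall : ∀ x : X, x ∈ CohB1.genLocus L s := fun x =>
      mem_genLocus_of_not_mem_support_cokernel L hL s x (by rw [← hQdef, hempty]; exact Set.notMem_empty x)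
    obtain ⟨x, hx⟩ := Groth.Agent.Lib.Helper4.P1CritE.exists_not_mem_genLocus k X hdim L hL hdeg s
    exact hx (hall x)
  haveI : Mono t := mono_of_ne_zero hO hL t ht
  refine ⟨s, t, fun x => ?_⟩
  by_cases hx : x ∈ CohB1.support Q
  · exact Or.inr (mem_genLocus_of_not_mem_support_cokernel L hL t x (hdisj x hx))
  · exact Or.inl (mem_genLocus_of_not_mem_support_cokernel L hL s x hx)

/-- **`X ≅ P^1_k`** for a curve with `H⁰(O) = k` carrying a degree one invertible module with `h⁰ ≥ 2` -/
theorem exists_iso_P1_of_h0 (hdim : topologicalKrullDim X = 1)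
    (h0 : Module.finrank k (Coh.HH X (Coh.structureModule X) 0) = 1)
    (L : X.Modules) (hL : PicF.IsInvertible L) (hdeg : Curv2.deg k X L 1 = 1)
    (hh0 : 2 ≤ Module.finrank k (Coh.HH X L 0)) :
    ∃ e : X ≅ CohB1.ProjSpace 1 k, e.hom ≫ CohB1.ProjSpace.toSpec 1 k = X ↘ (Spec (CommRingCat.of k)) := by
  obtain ⟨s, t, hcov⟩ := exists_sections k X hdim h0 L hL hdeg hh0
  exact Groth.Agent.Lib.Helper4.P1CritE.exists_iso_P1 k X hdim h0 L hL hdeg s t hcov

end Curve

end Groth.Agent.Lib.Helper4.P1CritF
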