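import Mathlib
import Groth.Agent.Lib.Helper4VarDim5
import Groth.Agent.Lib.Helper4P1CritF
import Groth.Agent.Lib.Helper6CurveDeg
import Groth.Agent.Lib.Helper20AbsCurve
import Groth.Agent.Lib.Helper27DimDrop
import Groth.Agent.Lib.Helper4DimFormulaAF
import Groth.Agent.Lib.Helper12SnapA
import Groth.Agent.S0020
set_option backward.isDefEq.respectTransparency.types false

/-!
# The dimension of the zero locus of a section (helper12) — positivity of intersection numbers, part B

* `ringKrullDim_stalk_eq_of_isClosed`: on an irreducible scheme locally of finite type over a field, the local ring at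
  a closed point has the dimension of the scheme.
* `dim_support_cokernel_eq`: `Z` integral, locally of finite type over `k`, of dimension `r + 1`; `s` a nonzero section
  of an invertible module vanishing at some closed point: the support of `coker s` has dimension exactly `r`.
-/

set_option autoImplicit false
set_option linter.style.haveILetI false
set_option linter.unusedSectionVars false
universe u
open CategoryTheory CategoryTheory.Limits AlgebraicGeometry TopologicalSpace Opposite

namespace Groth.Agent.Lib.Helper12.Pos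

open Groth.Agent.Lib.Helper4.Dev Groth.Agent.Lib.Helper4.VarDim Groth.Agent.Lib.Helper23.SecTw
  Groth.Agent.Lib.Helper23.GenLocus Groth.Agent.Lib.Helper6.CurveDeg

variable (k : Type u) [Field k] (X : Scheme.{u}) [X.Over (Spec (CommRingCat.of k))]

theorem localDim_eq_dim_of_irreducible [LocallyOfFiniteType (X ↘ Spec (CommRingCat.of k))]
    [IrreducibleSpace X] (x : X) : FlatMor.localDim X x = topologicalKrullDim X := by
  unfold FlatMor.localDim
  have h : ∀ U : {U : TopologicalSpace.Opens X // x ∈ U},
      topologicalKrullDim ↥(U.1 : Set X) = topologicalKrullDim X := fun U =>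
    topologicalKrullDim_opens_eq_of_irreducible k X U.1 ⟨x, U.2⟩
  haveI : Nonempty {U : TopologicalSpace.Opens X // x ∈ U} := ⟨⟨⊤, trivial⟩⟩
  rw [iInf_congr h, iInf_const]

theorem ringKrullDim_stalk_eq_of_isClosed [LocallyOfFiniteType (X ↘ Spec (CommRingCat.of k))]
    [IrreducibleSpace X] (x : X) (hx : IsClosed ({x} : Set X)) :
    ringKrullDim (X.presheaf.stalk x) = topologicalKrullDim X := by
  rw [← localDim_eq_of_trdeg_eq_zero k X x (trdeg_eq_zero_of_isClosed k X x hx),
    localDim_eq_dim_of_irreducible k X x]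

theorem ringKrullDim_sections_eq_dim [LocallyOfFiniteType (X ↘ Spec (CommRingCat.of k))]
    [IrreducibleSpace X] {U : X.Opens} (hU : IsAffineOpen U) (hne : (U : Set X).Nonempty) :
    ringKrullDim Γ(X, U) = topologicalKrullDim X := by
  obtain ⟨n, hn, h⟩ := exists_dim_irreducible k X
  rw [topologicalKrullDim_eq_of_irreducible k X n hn, h U hU hne]

section DT

variable [LocallyOfFiniteType (X ↘ Spec (CommRingCat.of k))] [IsIntegral X]
include k

/-- upper bound: the zero locus of a nonzero section is a proper closed subset -/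
theorem dim_support_cokernel_le (r : ℕ) (hdim : topologicalKrullDim X = ((r + 1 : ℕ) : WithBot ℕ∞))
    (N : X.Modules) (hN : PicF.IsInvertible N) (s : Coh.structureModule X ⟶ N) (hs : s ≠ 0) :
    topologicalKrullDim ↥(CohB1.support (cokernel s)) ≤ (r : WithBot ℕ∞) := by
  haveI : IsLocallyNoetherian X :=
    LocallyOfFiniteType.isLocallyNoetherian (X ↘ (Spec (CommRingCat.of k)))
  have hO := Groth.Agent.Lib.Helper23.TensorUnit.isInvertible_structureModule X
  have cQ : Coh.IsCoh (cokernel s) :=
    isCoh_cokernel s (isCoh_structureModule X) (isCoh_of_isInvertible N hN)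
  have hZ : IsClosed (CohB1.support (cokernel s)) := Groth.Agent.S0020.result X _ cQ.2
  have hη : genericPoint X ∉ CohB1.support (cokernel s) :=
    fun h => h (subsingleton_stalk_cokernel hO hN s hs)
  by_contra hnot
  rw [← Groth.Agent.Lib.Helper12.Snap.lt_succ_iff_le, not_lt] at hnot
  have h1 := Groth.Agent.Lib.Helper27DimDrop.dim_drop (CohB1.support (cokernel s)) hZ
    (fun T hT hsub => by
      rw [irreducibleComponents_eq_singleton, Set.mem_singleton_iff] at hT
      subst hT
      exact hη (hsub (Set.mem_univ _))) (r + 1) hnot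
  rw [hdim] at h1
  exact absurd ((Groth.Agent.Lib.Helper12.Snap.lt_succ_iff_le _ (r + 1)).2 le_rfl) (not_lt.2 h1)

/-- lower bound: Krull's principal ideal theorem at a closed point of the zero locus -/
theorem le_dim_support_cokernel (r : ℕ) (hdim : topologicalKrullDim X = ((r + 1 : ℕ) : WithBot ℕ∞))
    (N : X.Modules) (hN : PicF.IsInvertible N) (s : Coh.structureModule X ⟶ N) (hs : s ≠ 0)
    (y : X) (hyc : IsClosed ({y} : Set X)) (hy : y ∉ CohB1.genLocus N s) :
    (r : WithBot ℕ∞) ≤ topologicalKrullDim ↥(CohB1.support (cokernel s)) := by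
  haveI : IsLocallyNoetherian X :=
    LocallyOfFiniteType.isLocallyNoetherian (X ↘ (Spec (CommRingCat.of k)))
  have hO := Groth.Agent.Lib.Helper23.TensorUnit.isInvertible_structureModule X
  haveI : Mono s := mono_of_ne_zero hO hN s hs
  obtain ⟨W, e, hyW, he⟩ := exists_gen N hN y
  obtain ⟨U, hU, hyU, hUW⟩ := exists_isAffineOpen_mem_and_subset (x := y) (U := W) hyW
  have hUW' : U ≤ W := hUW
  have heU := he.mono hUW'
  obtain ⟨g, hg⟩ : ∃ g, g = coef heU le_rfl (sv s U) := ⟨_, rfl⟩
  have hDg : CohB1.genLocus N s ⊓ U = X.basicOpen g := by rw [hg]; exact genLocus_inf_eq_coef s heU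
  haveI : Nonempty U := ⟨⟨y, hyU⟩⟩
  haveI : IsNoetherianRing Γ(X, U) := IsLocallyNoetherian.component_noetherian ⟨U, hU⟩
  -- the generic point lies in the generating locus
  have hη : genericPoint X ∈ CohB1.genLocus N s :=
    Groth.Agent.Lib.Helper4.P1CritF.mem_genLocus_of_stalkL_surjective N hN s _
      (stalkL_genericPoint_bijective hO hN s hs).2
  have hηU : genericPoint X ∈ U :=
    ((genericPoint_spec X).mem_open_set_iff U.isOpen).mpr ⟨y, Set.mem_univ _, hyU⟩
  have hg0 : g ≠ 0 := by
    intro h0
    have : genericPoint X ∈ X.basicOpen g := hDg ▸ ⟨hη, hηU⟩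
    rw [h0, Scheme.basicOpen_zero] at this
    exact this
  have hgnzd : g ∈ nonZeroDivisors Γ(X, U) := mem_nonZeroDivisors_of_ne_zero hg0
  -- `g` lies in the prime ideal of `y`
  set p := (hU.primeIdealOf ⟨y, hyU⟩).asIdeal with hp
  have hgp : g ∈ p := by
    by_contra hgp
    apply hy
    have h2 : hU.primeIdealOf ⟨y, hyU⟩ ∈ hU.fromSpec ⁻¹ᵁ X.basicOpen g := by
      rw [hU.fromSpec_preimage_basicOpen]
      exact hgp
    have h3 : hU.fromSpec (hU.primeIdealOf ⟨y, hyU⟩) = y := hU.fromSpec_primeIdealOf ⟨y, hyU⟩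
    have : y ∈ X.basicOpen g := h3 ▸ h2
    exact (hDg.ge this).1
  -- the height of `p` is the dimension
  have hdimU : ringKrullDim Γ(X, U) = ((r + 1 : ℕ) : WithBot ℕ∞) := by
    rw [ringKrullDim_sections_eq_dim k X hU ⟨y, hyU⟩, hdim]
  have hht : (p.height : WithBot ℕ∞) = ringKrullDim Γ(X, U) := by
    rw [hdimU, ← hdim, ← ringKrullDim_stalk_eq_of_isClosed k X y hyc,
      Groth.Agent.Lib.Helper20.AbsCurve.ringKrullDim_stalk_eq_height hU y hyU]
  have hq := Module.ringKrullDim_quotient_add_one_of_mem_nonZeroDivisors hgnzd hht hgp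
  rw [hdimU] at hq
  have hq' : ringKrullDim (Γ(X, U) ⧸ Ideal.span {g}) = (r : WithBot ℕ∞) := by
    apply Groth.Agent.Lib.Helper4.DimFormula.withBot_enat_add_nat_cancel 1
    rw [Nat.cast_one, hq, Nat.cast_add, Nat.cast_one]
  -- embed `Spec (Γ(X,U)/(g))` into the support of the cokernel
  rw [← hq', ← PrimeSpectrum.topologicalKrullDim_eq_ringKrullDim]
  let c : PrimeSpectrum (Γ(X, U) ⧸ Ideal.span {g}) → PrimeSpectrum Γ(X, U) :=
    PrimeSpectrum.comap (Ideal.Quotient.mk (Ideal.span {g}))
  have hc : Topology.IsInducing c :=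
    (PrimeSpectrum.isClosedEmbedding_comap_of_surjective _ _ Ideal.Quotient.mk_surjective).isInducing
  have hmem : ∀ q : PrimeSpectrum (Γ(X, U) ⧸ Ideal.span {g}),
      hU.fromSpec (c q) ∈ CohB1.support (cokernel s) := by
    intro q
    by_contra hnot
    have h1 := Groth.Agent.Lib.Helper4.P1CritF.mem_genLocus_of_not_mem_support_cokernel N hN s _ hnot
    have h2 : hU.fromSpec (c q) ∈ X.basicOpen g := hDg ▸ ⟨h1, fromSpec_mem hU (c q)⟩
    have h3 : c q ∈ hU.fromSpec ⁻¹ᵁ X.basicOpen g := h2
    rw [hU.fromSpec_preimage_basicOpen] at h3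
    apply h3
    change Ideal.Quotient.mk (Ideal.span {g}) g ∈ q.asIdeal
    rw [Ideal.Quotient.eq_zero_iff_mem.2 (Ideal.mem_span_singleton_self g)]
    exact q.asIdeal.zero_mem
  let ψ : PrimeSpectrum (Γ(X, U) ⧸ Ideal.span {g}) → ↥(CohB1.support (cokernel s)) :=
    fun q => ⟨hU.fromSpec (c q), hmem q⟩
  have hψ : Topology.IsInducing ψ := by
    have hcomp : Topology.IsInducing ((Subtype.val : ↥(CohB1.support (cokernel s)) → X) ∘ ψ) := by
      have : (Subtype.val : ↥(CohB1.support (cokernel s)) → X) ∘ ψ = (fun z => hU.fromSpec z) ∘ c := rfl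
      rw [this]
      exact hU.fromSpec.isOpenEmbedding.isInducing.comp hc
    exact Topology.IsInducing.of_comp
      (Continuous.subtype_mk (hU.fromSpec.continuous.comp hc.continuous) _) continuous_subtype_val hcomp
  exact hψ.topologicalKrullDim_le

theorem dim_support_cokernel_eq (r : ℕ) (hdim : topologicalKrullDim X = ((r + 1 : ℕ) : WithBot ℕ∞))
    (N : X.Modules) (hN : PicF.IsInvertible N) (s : Coh.structureModule X ⟶ N) (hs : s ≠ 0)
    (y : X) (hyc : IsClosed ({y} : Set X)) (hy : y ∉ CohB1.genLocus N s) :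
    topologicalKrullDim ↥(CohB1.support (cokernel s)) = (r : WithBot ℕ∞) :=
  le_antisymm (dim_support_cokernel_le k X r hdim N hN s hs)
    (le_dim_support_cokernel k X r hdim N hN s hs y hyc hy)

end DT

end Groth.Agent.Lib.Helper12.Pos
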