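import Mathlib
import Groth.Agent.Lib.Helper4CurvePt
import Groth.Agent.Lib.Helper4CurveGenIso
import Groth.Agent.Lib.Helper4CurveBun2
import Groth.Agent.Lib.Helper23SurjOn

/-!
# Generalised parabolic bundles on a curve: the key inequality (helper12)
-/

set_option autoImplicit false
set_option linter.style.haveILetI false
universe u

open TopologicalSpace Topology AlgebraicGeometry CategoryTheory CategoryTheory.Limits Opposite

namespace Groth.Agent.Lib.Helper12.GPKey

open Groth.Agent.Lib.Helper4.CurveBun Groth.Agent.Lib.Helper4.Dev Groth.Agent.Lib.Helper4.DegAdd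
  Groth.Agent.Lib.Helper4.CurvePt Groth.Agent.Lib.Helper4.CurveChi

section A

variable {X : Scheme.{u}} [IsIntegral X]

/-- the generic point of an integral scheme is not in the support of an effective Cartier divisor -/
theorem genericPoint_notMem_support (I : X.IdealSheafData) (hD : FGA.IsEffCartier I) :
    genericPoint X ∉ I.support := by
  obtain ⟨U, hηU, a, ha, hIa⟩ := hD (genericPoint X)
  rw [Scheme.IdealSheafData.mem_support_iff_of_mem hηU, Scheme.mem_zeroLocus_iff]
  intro h
  have haI : a ∈ I.ideal U := by rw [hIa]; exact Ideal.mem_span_singleton_self a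
  apply h a haI
  haveI : Nonempty (U : X.Opens) := ⟨⟨_, hηU⟩⟩
  have hne : a ≠ 0 := by
    haveI : Nontrivial Γ(X, U) := inferInstance
    exact nonZeroDivisors.ne_zero ha
  rw [Scheme.mem_basicOpen _ _ _ hηU]
  have hinj := germ_injective_of_isIntegral X (genericPoint X) hηU
  have h0 : X.presheaf.germ U (genericPoint X) hηU a ≠ 0 := by
    intro h0
    exact hne (hinj (h0.trans (map_zero _).symm))
  exact IsUnit.mk0 _ h0

end A

section B

variable (k : Type u) [Field k] (X : Scheme.{u}) [X.Over (Spec (CommRingCat.of k))]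
  [IsIntegral X] [IsProper (X ↘ (Spec (CommRingCat.of k)))]

/-- coherent with zero-dimensional support -/
def ZD (M : X.Modules) : Prop := Coh.IsCoh M ∧ topologicalKrullDim (CohB1.support M) ≤ 0

variable {X}

omit [IsIntegral X] [IsProper (X ↘ (Spec (CommRingCat.of k)))] in
theorem ZD.of_mono {A B : X.Modules} (φ : A ⟶ B) [Mono φ] (cA : Coh.IsCoh A) (hB : ZD X B) : ZD X A :=
  ⟨cA, (Groth.Agent.Lib.Helper4.KFilt.dim_le_of_subset (support_subset_of_mono φ)).trans hB.2⟩

omit [IsIntegral X] [IsProper (X ↘ (Spec (CommRingCat.of k)))] in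
theorem ZD.of_epi {A B : X.Modules} (φ : A ⟶ B) [Epi φ] (cB : Coh.IsCoh B) (hA : ZD X A) : ZD X B :=
  ⟨cB, (Groth.Agent.Lib.Helper4.KFilt.dim_le_of_subset (support_subset_of_epi φ)).trans hA.2⟩

omit [IsIntegral X] in
theorem ZD.euler_eq {M : X.Modules} (hM : ZD X M) :
    Curv2.euler k X M = (Module.finrank k (Coh.HH X M 0) : ℤ) :=
  h0_eq_euler_of_dim_le_zero k X M hM.1 hM.2

variable (X)

include k in
theorem dim_support_quotMod_le_zero (hdim : topologicalKrullDim X = 1) (I : X.IdealSheafData)
    (hD : FGA.IsEffCartier I) : topologicalKrullDim (CohB1.support (ClSub.quotMod I)) ≤ 0 := by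
  have hsub : CohB1.support (ClSub.quotMod I) ⊆ Set.range I.subschemeι :=
    support_push_subset I.subschemeι _
  refine (Groth.Agent.Lib.Helper4.KFilt.dim_le_of_subset hsub).trans ?_
  refine dim_le_zero_of_ne_univ hdim.le _ I.subschemeι.isClosedEmbedding.isClosed_range ?_
  intro h
  have h1 : genericPoint X ∈ Set.range I.subschemeι := h ▸ Set.mem_univ _
  rw [Scheme.IdealSheafData.range_subschemeι] at h1
  exact genericPoint_notMem_support I hD h1

include k in
theorem zd_quotMod (hdim : topologicalKrullDim X = 1) (I : X.IdealSheafData)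
    (hD : FGA.IsEffCartier I) : ZD X (ClSub.quotMod I) :=
  ⟨isCoh_quotMod k X I, dim_support_quotMod_le_zero k X hdim I hD⟩

include k in
theorem zd_resD (hdim : topologicalKrullDim X = 1) (I : X.IdealSheafData)
    (hD : FGA.IsEffCartier I) (E : X.Modules) (n : ℕ) (hE : FlatMod.IsFinLocFreeOfRank n E) :
    ZD X (ParSh.resD I E) := by
  have hQ := zd_quotMod k X hdim I hD
  have e := Groth.Agent.Lib.Helper23.AmpleFam2.tensorBraid (ClSub.quotMod I) E
  have c1 : Coh.IsCoh (CohB1.tensorMod (ClSub.quotMod I) E) :=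
    isCoh_tensorMod_locFree (ClSub.quotMod I) E hQ.1 n hE
  have z1 : ZD X (CohB1.tensorMod (ClSub.quotMod I) E) :=
    ⟨c1, (Groth.Agent.Lib.Helper4.KFilt.dim_le_of_subset
      (Groth.Agent.Lib.Helper4.ZeroDimChi.support_tensorMod_subset_left _ _)).trans hQ.2⟩
  exact ZD.of_mono e.inv (isCoh_of_iso e c1) z1

theorem euler_resD (hdim : topologicalKrullDim X = 1) (I : X.IdealSheafData)
    (hD : FGA.IsEffCartier I) (E : X.Modules) (n : ℕ) (hE : FlatMod.IsFinLocFreeOfRank n E) :
    Curv2.euler k X (ParSh.resD I E) = n * Curv2.euler k X (ClSub.quotMod I) := by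
  have hQ := zd_quotMod k X hdim I hD
  have e := Groth.Agent.Lib.Helper23.AmpleFam2.tensorBraid (ClSub.quotMod I) E
  rw [← Groth.Agent.Lib.Helper4.ZeroDimChi.euler_tensor_locFree k (ClSub.quotMod I) hQ.1 hQ.2 n E hE]
  exact (euler_congr_iso k e).symm

end B

section C

variable (k : Type u) [Field k] (X : Scheme.{u}) [X.Over (Spec (CommRingCat.of k))]
  [IsIntegral X] [IsProper (X ↘ (Spec (CommRingCat.of k)))]

omit [IsIntegral X] in
/-- an epimorphism of modules with zero-dimensional support does not increase `h⁰` -/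
theorem h0_le_of_epi_zd {A B : X.Modules} (e : A ⟶ B) [Epi e] (hA : ZD X A) (cB : Coh.IsCoh B) :
    Module.finrank k (Coh.HH X B 0) ≤ Module.finrank k (Coh.HH X A 0) := by
  haveI : IsLocallyNoetherian X := isLocallyNoetherian_of_proper k X
  have hB : ZD X B := ZD.of_epi e cB hA
  have cK : Coh.IsCoh (kernel e) := isCoh_kernel e hA.1 cB
  have hK : ZD X (kernel e) := ZD.of_mono (kernel.ι e) cK hA
  have hadd := Groth.Agent.Lib.Helper6.Euler.euler_additive k X (sesOfEpi e) (sesOfEpi_shortExact e)
    cK hA.1 cB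
  change Curv2.euler k X A = Curv2.euler k X (kernel e) + Curv2.euler k X B at hadd
  rw [hA.euler_eq k, hK.euler_eq k, hB.euler_eq k] at hadd
  omega

/-- the kernel of `H⁰(F ⊗ O_D) → H⁰(E ⊗ O_D)` for a mono `F → E` of bundles of the same rank has
dimension at most `deg E - deg F`. -/
theorem finrank_ker_fibDMap_le (hdim : topologicalKrullDim X = 1) (I : X.IdealSheafData)
    (hD : FGA.IsEffCartier I) {F E : X.Modules} (n : ℕ)
    (hF : FlatMod.IsFinLocFreeOfRank n F) (hE : FlatMod.IsFinLocFreeOfRank n E) (i : F ⟶ E) [Mono i] :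
    (Module.finrank k (LinearMap.ker (ParSh.fibDMap k X I i)) : ℤ) ≤
      Curv2.deg k X E n - Curv2.deg k X F n := by
  haveI : IsLocallyNoetherian X := isLocallyNoetherian_of_proper k X
  set Q := ClSub.quotMod I with hQdef
  have cF := isCoh_of_isFinLocFreeOfRank F n hF
  have cE := isCoh_of_isFinLocFreeOfRank E n hE
  -- the cokernel of `i`
  have cT : Coh.IsCoh (cokernel i) := isCoh_cokernel i cF cE
  have hgen := subsingleton_cokernel_stalk_genericPoint k X i n hF hE
  have hmain := (Groth.Agent.Lib.Helper4.CurveGenIso.main k X hdim F E cF cE i hgen).1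
  have hT : ZD X (cokernel i) := by
    refine ⟨cT, dim_le_zero_of_ne_univ hdim.le _ (Groth.Agent.S0020.result X _ cT.2) ?_⟩
    intro h
    have h1 : genericPoint X ∈ CohB1.support (cokernel i) := h ▸ Set.mem_univ _
    exact h1 hgen
  -- the map `γ`
  set γ : CohB1.tensorMod F Q ⟶ CohB1.tensorMod E Q := Groth.Agent.Lib.Helper23.ResProp.tmapR i Q with hγ
  have hγ' : ParSh.resDMap I i = γ := (KoszTw.tensorRightMod_map i Q).symm
  have zF : ZD X (CohB1.tensorMod F Q) := zd_resD k X hdim I hD F n hF
  have zE : ZD X (CohB1.tensorMod E Q) := zd_resD k X hdim I hD E n hE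
  have cC : Coh.IsCoh (cokernel γ) := isCoh_cokernel γ zF.1 zE.1
  have cIm : Coh.IsCoh (Abelian.image γ) := isCoh_image γ zF.1 zE.1
  have zIm : ZD X (Abelian.image γ) := ZD.of_mono (Abelian.image.ι γ) cIm zE
  have zC : ZD X (cokernel γ) := ZD.of_epi (cokernel.π γ) cC zE
  have cK : Coh.IsCoh (kernel (Abelian.factorThruImage γ)) :=
    isCoh_kernel _ zF.1 cIm
  have zK : ZD X (kernel (Abelian.factorThruImage γ)) := ZD.of_mono (kernel.ι _) cK zF
  -- an epimorphism from the cokernel of `i` onto the cokernel of `γ`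
  obtain ⟨eC⟩ := Groth.Agent.Lib.Helper23.SurjOn.nonempty_tensorMod_cokernel_iso i Q
  haveI : Epi (ClSub.toSubscheme I) := (Groth.Agent.Lib.Helper21.ExtCartier.idealSES_shortExact I).epi_g
  let e1 : cokernel i ⟶ cokernel γ :=
    (Groth.Agent.Lib.Helper23.TensorUnit.unitTensorIso (cokernel i)).inv ≫
      Groth.Agent.Lib.Helper23.ResProp.tmapR (ClSub.toSubscheme I) (cokernel i) ≫
        (Groth.Agent.Lib.Helper23.AmpleFam2.tensorBraid Q (cokernel i)).hom ≫ eC.hom
  haveI : Epi e1 := by
    dsimp only [e1]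
    infer_instance
  have h1 := h0_le_of_epi_zd k X e1 hT cC
  -- Euler characteristics
  have hS1 := sesOfEpi_shortExact (Abelian.factorThruImage γ)
  have hS2 := sesOfEpi_shortExact (cokernel.π γ)
  have hadd1 := Groth.Agent.Lib.Helper6.Euler.euler_additive k X _ hS1 cK zF.1 cIm
  have hadd2 := Groth.Agent.Lib.Helper6.Euler.euler_additive k X _ hS2 cIm zE.1 cC
  change Curv2.euler k X (CohB1.tensorMod F Q) =
    Curv2.euler k X (kernel (Abelian.factorThruImage γ)) + Curv2.euler k X (Abelian.image γ) at hadd1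
  change Curv2.euler k X (CohB1.tensorMod E Q) =
    Curv2.euler k X (Abelian.image γ) + Curv2.euler k X (cokernel γ) at hadd2
  have hFD := euler_resD k X hdim I hD F n hF
  have hED := euler_resD k X hdim I hD E n hE
  change Curv2.euler k X (CohB1.tensorMod F Q) = _ at hFD
  change Curv2.euler k X (CohB1.tensorMod E Q) = _ at hED
  rw [zK.euler_eq k] at hadd1
  rw [zC.euler_eq k] at hadd2
  -- the kernel of `φ`
  haveI : Module.Finite k (Coh.HH X (kernel (Abelian.factorThruImage γ)) 0) :=
    Groth.Agent.S0002.result k X _ cK 0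
  have hker : LinearMap.ker (ParSh.fibDMap k X I i) ≤
      LinearMap.range (Canon.HHlin k (kernel.ι (Abelian.factorThruImage γ)) 0) := by
    intro x hx
    have hx' : Canon.HHlin k γ 0 x = 0 := by
      have : ParSh.fibDMap k X I i x = 0 := hx
      change Canon.HHlin k (ParSh.resDMap I i) 0 x = 0 at this
      rwa [hγ'] at this
    rw [← Abelian.image.fac γ, HHlin_comp] at hx'
    have hinj := Groth.Agent.Lib.Helper4.CurveRR.HHlin_injective_of_mono k X (Abelian.image.ι γ)
    have hx'' : Canon.HHlin k (Abelian.factorThruImage γ) 0 x = 0 := hinj (hx'.trans (map_zero _).symm)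
    have := Groth.Agent.Lib.Helper6.Euler.range_f_eq_ker_g k (sesOfEpi (Abelian.factorThruImage γ)) hS1 0
    change LinearMap.range (Canon.HHlin k (kernel.ι (Abelian.factorThruImage γ)) 0) =
      LinearMap.ker (Canon.HHlin k (Abelian.factorThruImage γ) 0) at this
    rw [this]
    exact hx''
  have h2 : Module.finrank k (LinearMap.ker (ParSh.fibDMap k X I i)) ≤
      Module.finrank k (Coh.HH X (kernel (Abelian.factorThruImage γ)) 0) :=
    (Submodule.finrank_mono hker).trans (LinearMap.finrank_range_le _)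
  unfold Curv2.deg
  have h1' : (Module.finrank k (Coh.HH X (cokernel γ) 0) : ℤ) ≤
      (Module.finrank k (Coh.HH X (cokernel i) 0) : ℤ) := by exact_mod_cast h1
  have h2' : (Module.finrank k (LinearMap.ker (ParSh.fibDMap k X I i)) : ℤ) ≤
      (Module.finrank k (Coh.HH X (kernel (Abelian.factorThruImage γ)) 0) : ℤ) := by exact_mod_cast h2
  linarith

end C

section D

/-- linear algebra: the preimage of a subspace is at most as large as the subspace plus the kernel -/
theorem finrank_comap_le_add {k V W : Type*} [Field k] [AddCommGroup V] [Module k V] [AddCommGroup W]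
    [Module k W] [Module.Finite k V] [Module.Finite k W] (φ : V →ₗ[k] W) (p : Submodule k W) :
    Module.finrank k (p.comap φ) ≤ Module.finrank k p + Module.finrank k (LinearMap.ker φ) := by
  set ψ : ↥(p.comap φ) →ₗ[k] W := φ.domRestrict (p.comap φ) with hψ
  have h1 := LinearMap.finrank_range_add_finrank_ker ψ
  have h2 : LinearMap.range ψ ≤ p := by
    rintro _ ⟨x, rfl⟩
    exact x.2
  have h3 : Module.finrank k (LinearMap.range ψ) ≤ Module.finrank k p := Submodule.finrank_mono h2
  let θ : ↥(LinearMap.ker ψ) →ₗ[k] ↥(LinearMap.ker φ) :=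
    { toFun := fun x => ⟨x.1.1, by
        have := x.2
        rw [LinearMap.mem_ker] at this ⊢
        exact this⟩
      map_add' := fun x y => rfl
      map_smul' := fun c x => rfl }
  have hθ : Function.Injective θ := by
    intro x y hxy
    have : x.1.1 = y.1.1 := congrArg (fun z : ↥(LinearMap.ker φ) => (z : V)) hxy
    exact Subtype.ext (Subtype.ext this)
  have h4 := LinearMap.finrank_le_finrank_of_injective hθ
  omega

variable (k : Type u) [Field k] (X : Scheme.{u}) [X.Over (Spec (CommRingCat.of k))]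
  [IsIntegral X] [IsProper (X ↘ (Spec (CommRingCat.of k)))]

/-- **key inequality**: for a monomorphism `i : F ⟶ E` of bundles of the same rank on a curve and a generalised
parabolic structure `F₁` on `E`, `deg F + dim (i⁻¹ F₁) ≤ deg E + dim F₁`. -/
theorem deg_add_finrank_induced_le (hdim : topologicalKrullDim X = 1) (I : X.IdealSheafData)
    (hD : FGA.IsEffCartier I) {F E : X.Modules} (n : ℕ)
    (hF : FlatMod.IsFinLocFreeOfRank n F) (hE : FlatMod.IsFinLocFreeOfRank n E) (i : F ⟶ E) [Mono i]
    (F₁ : Submodule k (ParSh.fibD X I E)) :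
    Curv2.deg k X F n + (Module.finrank k (ParSh.gpInduced k X I i F₁) : ℤ) ≤
      Curv2.deg k X E n + (Module.finrank k F₁ : ℤ) := by
  have zF : ZD X (ParSh.resD I F) := zd_resD k X hdim I hD F n hF
  have zE : ZD X (ParSh.resD I E) := zd_resD k X hdim I hD E n hE
  haveI : Module.Finite k (ParSh.fibD X I F) := Groth.Agent.S0002.result k X _ zF.1 0
  haveI : Module.Finite k (ParSh.fibD X I E) := Groth.Agent.S0002.result k X _ zE.1 0
  have h1 := finrank_ker_fibDMap_le k X hdim I hD n hF hE i
  have h2 := finrank_comap_le_add (ParSh.fibDMap k X I i) F₁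
  have h2' : (Module.finrank k (ParSh.gpInduced k X I i F₁) : ℤ) ≤
      (Module.finrank k F₁ : ℤ) + (Module.finrank k (LinearMap.ker (ParSh.fibDMap k X I i)) : ℤ) := by
    unfold ParSh.gpInduced
    exact_mod_cast h2
  linarith

end D

end Groth.Agent.Lib.Helper12.GPKey
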