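import Groth.Agent.Lib.Helper27LesLin

/-!
# Helper27: dimension counts along the long exact cohomology sequence over a field
-/

set_option autoImplicit false
set_option linter.style.haveILetI false
universe u
open CategoryTheory Limits AlgebraicGeometry TopologicalSpace Opposite Abelian

namespace Groth.Agent.Lib.Helper27LesDim

open Groth.Agent.Lib.Helper23.QCohLocal Groth.Agent.Lib.Helper27CohFin
  Groth.Agent.Lib.Helper27CoprodFin Groth.Agent.Lib.Helper27LesLin

variable {X : Scheme.{u}} (k : Type u) [Field k] [X.Over (Spec (CommRingCat.of k))]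
variable (S : ShortComplex X.Modules) (hS : S.ShortExact)

include hS

theorem HHlin_g_f (i : ℕ) (x : Coh.HH X S.X₁ i) :
    Canon.HHlin k S.g i (Canon.HHlin k S.f i x) = 0 := by
  have h1 : Canon.HHlin k (S.f ≫ S.g) i x = Canon.HHlin k S.g i (Canon.HHlin k S.f i x) :=
    evalH_comp i (show Sheaf.H ((toAbF X).obj S.X₁) i from x) S.f S.g
  rw [← h1, S.zero]
  exact (evalH (N := S.X₃) i (show Sheaf.H ((toAbF X).obj S.X₁) i from x)).map_zero

theorem range_f_eq_ker_g (i : ℕ) :
    LinearMap.range (Canon.HHlin k S.f i) = LinearMap.ker (Canon.HHlin k S.g i) := by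
  apply le_antisymm
  · rintro _ ⟨x, rfl⟩
    exact HHlin_g_f k S hS i x
  · intro y hy
    have hS' := shortExact_toAbF S hS
    obtain ⟨x, hx⟩ := Ext.covariant_sequence_exact₂ _ hS' (n := i) y hy
    exact ⟨x, hx⟩

theorem range_g_eq_ker_delta (i : ℕ) :
    LinearMap.range (Canon.HHlin k S.g i) = LinearMap.ker (deltaLin k S hS i) := by
  apply le_antisymm
  · rintro _ ⟨y, rfl⟩
    exact delta_map S hS i y
  · intro x hx
    obtain ⟨y, hy⟩ := exact_delta S hS i x hx
    exact ⟨y, hy⟩

theorem range_delta_eq_ker_f (i : ℕ) :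
    LinearMap.range (deltaLin k S hS i) = LinearMap.ker (Canon.HHlin k S.f (i + 1)) := by
  apply le_antisymm
  · rintro _ ⟨y, rfl⟩
    exact HHlin_f_delta k S hS i y
  · intro x hx
    have hS' := shortExact_toAbF S hS
    obtain ⟨y, hy⟩ := Ext.covariant_sequence_exact₁ _ hS' (n₁ := i + 1) x hx (n₀ := i) rfl
    exact ⟨y, hy⟩

theorem injective_HHlin_f_zero : Function.Injective (Canon.HHlin k S.f 0) := by
  have hS' := shortExact_toAbF S hS
  haveI : Mono ((toAbF X).map S.f) := hS'.mono_f
  exact Ext.postcomp_mk₀_injective_of_mono _ ((toAbF X).map S.f)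

/-- `H^i(X₃) = 0` if `H^i(X₁) → H^i(X₂)` is onto and `H^{i+1}(X₁) = 0`. -/
theorem subsingleton_of_surjective (i : ℕ) (hs : Function.Surjective (Canon.HHlin k S.f i))
    (h1 : Subsingleton (Coh.HH X S.X₁ (i + 1))) : Subsingleton (Coh.HH X S.X₃ i) := by
  have key : ∀ x : Coh.HH X S.X₃ i, x = 0 := by
    intro x
    obtain ⟨y, hy⟩ := exact_delta S hS i x (Subsingleton.elim _ _)
    obtain ⟨z, rfl⟩ := hs y
    rw [← hy]
    exact HHlin_g_f k S hS i z
  exact ⟨fun x y => (key x).trans (key y).symm⟩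

/-- the dimension of `H^i(X₃)` when `H^i(f)` is injective and `H^{i+1}(f)` is surjective. -/
theorem finrank_X₃ (i : ℕ) (hinj : Function.Injective (Canon.HHlin k S.f i))
    (hsurj : Function.Surjective (Canon.HHlin k S.f (i + 1)))
    (h2 : Module.Finite k (Coh.HH X S.X₂ i)) (h1' : Module.Finite k (Coh.HH X S.X₁ (i + 1))) :
    Module.Finite k (Coh.HH X S.X₃ i) ∧
    Module.finrank k (Coh.HH X S.X₃ i) =
      (Module.finrank k (Coh.HH X S.X₂ i) - Module.finrank k (Coh.HH X S.X₁ i)) +
      (Module.finrank k (Coh.HH X S.X₁ (i + 1)) - Module.finrank k (Coh.HH X S.X₂ (i + 1))) := by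
  have h3 : Module.Finite k (Coh.HH X S.X₃ i) := finite_of_shortExact k S hS i h2 h1'
  refine ⟨h3, ?_⟩
  have e1 := LinearMap.finrank_range_add_finrank_ker (deltaLin k S hS i)
  have e2 := LinearMap.finrank_range_add_finrank_ker (Canon.HHlin k S.g i)
  have e3 := LinearMap.finrank_range_add_finrank_ker (Canon.HHlin k S.f (i + 1))
  have e4 : Module.finrank k (LinearMap.range (Canon.HHlin k S.f i)) =
      Module.finrank k (Coh.HH X S.X₁ i) := LinearMap.finrank_range_of_inj hinj
  have e5 : Module.finrank k (LinearMap.range (Canon.HHlin k S.f (i + 1))) =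
      Module.finrank k (Coh.HH X S.X₂ (i + 1)) := by
    rw [LinearMap.range_eq_top.2 hsurj]
    exact finrank_top k _
  rw [range_delta_eq_ker_f k S hS i, ← range_g_eq_ker_delta k S hS i] at e1
  rw [← range_f_eq_ker_g k S hS i, e4] at e2
  rw [e5] at e3
  omega

end Groth.Agent.Lib.Helper27LesDim
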