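import Mathlib
import Groth.Agent.Lib.Helper12GPKeyA
import Groth.Agent.Lib.Helper27LesDim
import Groth.Agent.Lib.Helper4CurveStab2
set_option backward.isDefEq.respectTransparency.types false

/-!
# Generalised parabolic bundles on a curve II: kernel and image of a parabolic map (helper12)
-/

set_option autoImplicit false
set_option linter.style.haveILetI false
universe u

open TopologicalSpace Topology AlgebraicGeometry CategoryTheory CategoryTheory.Limits Opposite

namespace Groth.Agent.Lib.Helper12.GPKeyB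

open Groth.Agent.Lib.Helper12.GPKey
open Groth.Agent.Lib.Helper4.CurveBun Groth.Agent.Lib.Helper4.Dev Groth.Agent.Lib.Helper4.DegAdd
  Groth.Agent.Lib.Helper4.CurvePt Groth.Agent.Lib.Helper4.CurveChi
open Groth.Agent.Lib.Helper21.ModTensor3

section LA

/-- linear algebra: for `A → B → C` exact in the middle, a subspace of `B` is at most as large as its
preimage in `A` plus its image in `C`. -/
theorem finrank_le_comap_add_map {k A B C : Type*} [Field k] [AddCommGroup A] [Module k A]
    [AddCommGroup B] [Module k B] [AddCommGroup C] [Module k C] [Module.Finite k A] [Module.Finite k B]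
    [Module.Finite k C] (ι : A →ₗ[k] B) (π : B →ₗ[k] C) (h : LinearMap.ker π ≤ LinearMap.range ι)
    (p : Submodule k B) :
    Module.finrank k p ≤ Module.finrank k (p.comap ι) + Module.finrank k (p.map π) := by
  set ψ : p →ₗ[k] C := π.domRestrict p with hψ
  have h1 := LinearMap.finrank_range_add_finrank_ker ψ
  have h2 : LinearMap.range ψ = p.map π := LinearMap.range_domRestrict p π
  have h3 : Module.finrank k (LinearMap.ker ψ) ≤ Module.finrank k (p.comap ι) := by
    have hle : Submodule.map p.subtype (LinearMap.ker ψ) ≤ Submodule.map ι (p.comap ι) := by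
      rintro _ ⟨x, hx, rfl⟩
      have hx' : π x.1 = 0 := hx
      obtain ⟨y, hy⟩ := h hx'
      refine ⟨y, ?_, hy⟩
      change ι y ∈ p
      rw [hy]
      exact x.2
    calc Module.finrank k (LinearMap.ker ψ)
        = Module.finrank k (Submodule.map p.subtype (LinearMap.ker ψ)) :=
          (Submodule.equivMapOfInjective _ p.injective_subtype _).finrank_eq
      _ ≤ Module.finrank k (Submodule.map ι (p.comap ι)) := Submodule.finrank_mono hle
      _ ≤ Module.finrank k (p.comap ι) := Submodule.finrank_map_le _ _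
  rw [h2] at h1
  omega

end LA

section T

variable {X : Scheme.{u}}

/-- right exactness of `- ⊗ D` on short complexes -/
theorem exact_tmapR (S : ShortComplex X.Modules) (hS : S.Exact) [hg : Epi S.g] (D : X.Modules) :
    ∃ h : Groth.Agent.Lib.Helper23.ResProp.tmapR S.f D ≫ Groth.Agent.Lib.Helper23.ResProp.tmapR S.g D = 0,
      (ShortComplex.mk (Groth.Agent.Lib.Helper23.ResProp.tmapR S.f D)
        (Groth.Agent.Lib.Helper23.ResProp.tmapR S.g D) h).Exact := by
  let S' : ShortComplex (ModSite.Mod X.sheaf) := S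
  have hS' : S'.Exact := hS
  have hg' : Epi S'.g := hg
  have hex := hS'.map_of_epi_of_preservesCokernel (tR X.sheaf D) hg' inferInstance
  exact ⟨(S'.map (tR X.sheaf D)).zero, hex⟩

end T

section A

variable (k : Type u) [Field k] (X : Scheme.{u}) [X.Over (Spec (CommRingCat.of k))]
  [IsProper (X ↘ (Spec (CommRingCat.of k)))]

/-- an epimorphism out of a module with zero-dimensional support is surjective on `H⁰` -/
theorem HHlin_surjective_of_epi_zd {A B : X.Modules} (e : A ⟶ B) [Epi e] (hA : ZD X A)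
    (cB : Coh.IsCoh B) : Function.Surjective (Canon.HHlin k e 0) := by
  haveI : IsLocallyNoetherian X := isLocallyNoetherian_of_proper k X
  have cK : Coh.IsCoh (kernel e) := isCoh_kernel e hA.1 cB
  have hK : ZD X (kernel e) := ZD.of_mono (kernel.ι e) cK hA
  haveI : Subsingleton (Coh.HH X (kernel e) (0 + 1)) :=
    subsingleton_HH_of_dim_le_zero k X _ hK.1 hK.2 1 one_pos
  have h := Groth.Agent.Lib.Helper27LesDim.range_g_eq_ker_delta k (sesOfEpi e) (sesOfEpi_shortExact e) 0
  rw [← LinearMap.range_eq_top]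
  change LinearMap.range (Canon.HHlin k (sesOfEpi e).g 0) = ⊤
  rw [h, LinearMap.ker_eq_top]
  apply LinearMap.ext
  intro x
  exact Subsingleton.elim (α := Coh.HH X (kernel e) (0 + 1)) _ _

/-- `H⁰` is exact in the middle on exact sequences of modules with zero-dimensional support -/
theorem ker_le_range_of_exact_zd (S : ShortComplex X.Modules) (hS : S.Exact) [Epi S.g]
    (h₁ : ZD X S.X₁) (h₂ : ZD X S.X₂) (c₃ : Coh.IsCoh S.X₃) :
    LinearMap.ker (Canon.HHlin k S.g 0) ≤ LinearMap.range (Canon.HHlin k S.f 0) := by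
  haveI : IsLocallyNoetherian X := isLocallyNoetherian_of_proper k X
  have cK : Coh.IsCoh (kernel S.g) := isCoh_kernel S.g h₂.1 c₃
  haveI : Epi (kernel.lift S.g S.f S.zero) := S.exact_iff_epi_kernel_lift.1 hS
  have hsurj := HHlin_surjective_of_epi_zd k X (kernel.lift S.g S.f S.zero) h₁ cK
  have hex := Groth.Agent.Lib.Helper6.Euler.range_f_eq_ker_g k (sesOfEpi S.g) (sesOfEpi_shortExact S.g) 0
  change LinearMap.range (Canon.HHlin k (kernel.ι S.g) 0) = LinearMap.ker (Canon.HHlin k S.g 0) at hex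
  intro x hx
  rw [← hex] at hx
  obtain ⟨y, rfl⟩ := hx
  obtain ⟨z, rfl⟩ := hsurj y
  refine ⟨z, ?_⟩
  rw [← HHlin_comp, kernel.lift_ι]

end A

section B

variable (k : Type u) [Field k] (X : Scheme.{u}) [X.Over (Spec (CommRingCat.of k))]
  [IsIntegral X] [IsProper (X ↘ (Spec (CommRingCat.of k)))]

omit [IsIntegral X] [IsProper (X ↘ (Spec (CommRingCat.of k)))] in
theorem fibDMap_comp (I : X.IdealSheafData) {A B C : X.Modules} (φ : A ⟶ B) (ψ : B ⟶ C)
    (x : ParSh.fibD X I A) :
    ParSh.fibDMap k X I (φ ≫ ψ) x = ParSh.fibDMap k X I ψ (ParSh.fibDMap k X I φ x) := by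
  have h : ParSh.resDMap I (φ ≫ ψ) = ParSh.resDMap I φ ≫ ParSh.resDMap I ψ := by
    change KoszTw.tensorMap (φ ≫ ψ) (𝟙 _) = KoszTw.tensorMap φ (𝟙 _) ≫ KoszTw.tensorMap ψ (𝟙 _)
    rw [← KoszTw.tensorRightMod_map, ← KoszTw.tensorRightMod_map, ← KoszTw.tensorRightMod_map]
    exact Functor.map_comp _ _ _
  change Canon.HHlin k (ParSh.resDMap I (φ ≫ ψ)) 0 x = _
  rw [h, HHlin_comp]

/-- exactness in the middle of `H⁰(K_D) → H⁰(E_D) → H⁰(Q_D)` for an exact sequence of bundles
`K → E → Q → 0`. -/
theorem ker_fibDMap_le_range (hdim : topologicalKrullDim X = 1) (I : X.IdealSheafData)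
    (hD : FGA.IsEffCartier I) (S : ShortComplex X.Modules) (hS : S.Exact) [Epi S.g] (a n b : ℕ)
    (h₁ : FlatMod.IsFinLocFreeOfRank a S.X₁) (h₂ : FlatMod.IsFinLocFreeOfRank n S.X₂)
    (h₃ : FlatMod.IsFinLocFreeOfRank b S.X₃) :
    LinearMap.ker (ParSh.fibDMap k X I S.g) ≤ LinearMap.range (ParSh.fibDMap k X I S.f) := by
  set Q := ClSub.quotMod I with hQdef
  obtain ⟨hz, hex⟩ := exact_tmapR S hS Q
  have z₁ : ZD X (CohB1.tensorMod S.X₁ Q) := zd_resD k X hdim I hD S.X₁ a h₁
  have z₂ : ZD X (CohB1.tensorMod S.X₂ Q) := zd_resD k X hdim I hD S.X₂ n h₂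
  have z₃ : ZD X (CohB1.tensorMod S.X₃ Q) := zd_resD k X hdim I hD S.X₃ b h₃
  haveI : Epi (ShortComplex.mk (Groth.Agent.Lib.Helper23.ResProp.tmapR S.f Q)
        (Groth.Agent.Lib.Helper23.ResProp.tmapR S.g Q) hz).g :=
    Groth.Agent.Lib.Helper23.ResProp.epi_tmapR S.g Q
  have h := ker_le_range_of_exact_zd k X _ hex z₁ z₂ z₃.1
  have hf : ParSh.resDMap I S.f = Groth.Agent.Lib.Helper23.ResProp.tmapR S.f Q :=
    (KoszTw.tensorRightMod_map S.f Q).symm
  have hg : ParSh.resDMap I S.g = Groth.Agent.Lib.Helper23.ResProp.tmapR S.g Q :=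
    (KoszTw.tensorRightMod_map S.g Q).symm
  change LinearMap.ker (Canon.HHlin k (ParSh.resDMap I S.g) 0) ≤
    LinearMap.range (Canon.HHlin k (ParSh.resDMap I S.f) 0)
  rw [hf, hg]
  exact h

/-- the parabolic degree of `(E, F₁)` is at most the sum of the parabolic degrees of the kernel (with the
induced structure) and of the image (with the structure induced from the target) of a parabolic map. -/
theorem gpDeg_le_ker_add_im (hdim : topologicalKrullDim X = 1) (I : X.IdealSheafData)
    (hD : FGA.IsEffCartier I) (α : ℝ) (hα0 : 0 ≤ α) {E F : X.Modules} (f : E ⟶ F) (n a b : ℕ)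
    (hE : FlatMod.IsFinLocFreeOfRank n E)
    (hK : FlatMod.IsFinLocFreeOfRank a (kernel (Abelian.factorThruImage f)))
    (hI : FlatMod.IsFinLocFreeOfRank b (Abelian.image f))
    (hdeg : Curv2.deg k X E n = Curv2.deg k X (kernel (Abelian.factorThruImage f)) a +
        Curv2.deg k X (Abelian.image f) b)
    (F₁ : Submodule k (ParSh.fibD X I E)) (F₁' : Submodule k (ParSh.fibD X I F))
    (hf : ParSh.IsGPHom k X I F₁ F₁' f) :
    ParSh.gpDeg k X α E F₁ n ≤
      ParSh.gpDeg k X α _ (ParSh.gpInduced k X I (kernel.ι (Abelian.factorThruImage f)) F₁) a +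
      ParSh.gpDeg k X α _ (ParSh.gpInduced k X I (Abelian.image.ι f) F₁') b := by
  have zE : ZD X (ParSh.resD I E) := zd_resD k X hdim I hD E n hE
  have zK : ZD X (ParSh.resD I (kernel (Abelian.factorThruImage f))) := zd_resD k X hdim I hD _ a hK
  have zI : ZD X (ParSh.resD I (Abelian.image f)) := zd_resD k X hdim I hD _ b hI
  haveI : Module.Finite k (ParSh.fibD X I E) := Groth.Agent.S0002.result k X _ zE.1 0
  haveI : Module.Finite k (ParSh.fibD X I (kernel (Abelian.factorThruImage f))) :=
    Groth.Agent.S0002.result k X _ zK.1 0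
  haveI : Module.Finite k (ParSh.fibD X I (Abelian.image f)) := Groth.Agent.S0002.result k X _ zI.1 0
  have hS := sesOfEpi_shortExact (Abelian.factorThruImage f)
  haveI : Epi (sesOfEpi (Abelian.factorThruImage f)).g := hS.epi_g
  have hker := ker_fibDMap_le_range k X hdim I hD (sesOfEpi (Abelian.factorThruImage f)) hS.exact a n b
    hK hE hI
  change LinearMap.ker (ParSh.fibDMap k X I (Abelian.factorThruImage f)) ≤
    LinearMap.range (ParSh.fibDMap k X I (kernel.ι (Abelian.factorThruImage f))) at hker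
  have h1 := finrank_le_comap_add_map _ _ hker F₁
  have h2 : F₁.map (ParSh.fibDMap k X I (Abelian.factorThruImage f)) ≤
      ParSh.gpInduced k X I (Abelian.image.ι f) F₁' := by
    rintro _ ⟨x, hx, rfl⟩
    change ParSh.fibDMap k X I (Abelian.image.ι f) (ParSh.fibDMap k X I (Abelian.factorThruImage f) x) ∈ F₁'
    rw [← fibDMap_comp, Abelian.image.fac]
    exact hf ⟨x, hx, rfl⟩
  have h3 := Submodule.finrank_mono h2
  have h4 : Module.finrank k F₁ ≤
      Module.finrank k (ParSh.gpInduced k X I (kernel.ι (Abelian.factorThruImage f)) F₁) +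
      Module.finrank k (ParSh.gpInduced k X I (Abelian.image.ι f) F₁') := by
    unfold ParSh.gpInduced at h3 ⊢
    omega
  have h4' : (Module.finrank k F₁ : ℝ) ≤
      (Module.finrank k (ParSh.gpInduced k X I (kernel.ι (Abelian.factorThruImage f)) F₁) : ℝ) +
      (Module.finrank k (ParSh.gpInduced k X I (Abelian.image.ι f) F₁') : ℝ) := by exact_mod_cast h4
  unfold ParSh.gpDeg ParSh.gpWt
  have hdeg' : (Curv2.deg k X E n : ℝ) = (Curv2.deg k X (kernel (Abelian.factorThruImage f)) a : ℝ) +
        (Curv2.deg k X (Abelian.image f) b : ℝ) := by exact_mod_cast hdeg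
  rw [hdeg']
  nlinarith

end B

end Groth.Agent.Lib.Helper12.GPKeyB
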