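import Mathlib
import Groth.Agent.Lib.Helper12SnapC
import Groth.Agent.Lib.Helper12GPKeyB
import Groth.Agent.Lib.Helper1StalkTensorB
import Groth.Agent.Lib.Helper20RegMero
import Groth.Agent.Lib.Helper23AssStalk
import Groth.Agent.Lib.Helper18Cart1
import Groth.Agent.Lib.Helper21ExtCartier2
import Groth.Agent.S1704
import Groth.Agent.Lib.Helper23TensorQCoh
set_option backward.isDefEq.respectTransparency.types false

/-!
# Intersection with an effective Cartier divisor (helper12) — Snapper / intersection numbers, part D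

* `sm_tmapR_injective`: stalk criterion for injectivity of `φ ⊗ F` at a point.
* `isAssPoint_of_mono`, `isAssPoint_tensor_invertible_iff`.
* `mono_tmapR_idealModι`: if the support of an effective Cartier divisor `D` contains no associated point of the
  coherent module `F`, then `I_D ⊗ F ⟶ O_X ⊗ F` is a monomorphism.
* `dchi_snoc`, `dchi_cartier`: `dchi (l ++ [I_D]) F = dchi l (F ⊗ O_D)`.
-/

set_option autoImplicit false
set_option linter.style.haveILetI false
set_option linter.unusedSectionVars false
universe u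
open CategoryTheory CategoryTheory.Limits AlgebraicGeometry TopologicalSpace Opposite TensorProduct
  MonoidalCategory

namespace Groth.Agent.Lib.Helper12.Snap

open Groth.Agent.Lib.Helper4.Dev Groth.Agent.Lib.Helper4.CurveChi Groth.Agent.Lib.Helper4.KFilt
  Groth.Agent.Lib.Helper4.KTensor Groth.Agent.Lib.Helper1.StalkTensor Groth.Agent.Lib.Helper23.ResProp
  Groth.Agent.Lib.Helper21.ExtCartier

section Stalk

variable {X : Scheme.{u}}

theorem sm_shX_map_injective {T' T : PMod X.presheaf} (τ : T' ⟶ T) (x : X)
    (h : Function.Injective (sm τ x)) : Function.Injective (sm (toPMMap (shX.map τ)) x) := by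
  intro a b hab
  obtain ⟨a', rfl⟩ := (sm_etaX_bijective T' x).2 a
  obtain ⟨b', rfl⟩ := (sm_etaX_bijective T' x).2 b
  rw [← sm_etaX_naturality, ← sm_etaX_naturality] at hab
  rw [h ((sm_etaX_bijective T x).1 hab)]

/-- stalk criterion for the injectivity of `φ ⊗ F` at the point `x` -/
theorem sm_tmapR_injective {G' G : X.Modules} (φ : G' ⟶ G) (F : X.Modules) (x : X)
    (h : Function.Injective (LinearMap.rTensor (St (toPM F) x) (smₗ (toPMMap φ) x))) :
    Function.Injective (sm (toPMMap (tmapR φ F)) x) := by
  have h' : Function.Injective (sm (toPMMap φ ▷ toPM F) x) := by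
    intro a b hab
    have h2 := congrArg (α (toPM G) (toPM F) x) hab
    rw [α_nat_left, α_nat_left] at h2
    exact (α_bijective).1 (h h2)
  exact sm_shX_map_injective (toPMMap φ ▷ toPM F) x h'

theorem sm_zero {A B : X.Modules} (x : X) (a : St (toPM A) x) :
    sm (0 : toPM A ⟶ toPM B) x a = 0 := by
  obtain ⟨U, hU, p, rfl⟩ := exists_gm_eq a
  rw [sm_gm]
  have : (0 : toPM A ⟶ toPM B).app (op U) p = 0 := rfl
  rw [this, map_zero]

/-- the stalk of the kernel vanishes where the stalk map is injective -/
theorem subsingleton_stalk_kernel {A B : X.Modules} (φ : A ⟶ B) (x : X)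
    (h : Function.Injective (sm (toPMMap φ) x)) : Subsingleton ↑((kernel φ).presheaf.stalk x) := by
  have key : ∀ a b : St (toPM (kernel φ)) x, a = b := by
    intro a b
    apply sm_injective_of_mono (kernel.ι φ) x
    apply h
    rw [← sm_comp, ← sm_comp]
    have h0 : toPMMap (kernel.ι φ) ≫ toPMMap φ = (0 : toPM (kernel φ) ⟶ toPM B) := by
      have := kernel.condition φ
      exact congrArg (fun ψ : kernel φ ⟶ B => toPMMap ψ) this
    rw [h0, sm_zero, sm_zero]
  exact ⟨key⟩

theorem isAssPoint_of_mono {K A : X.Modules} (ψ : K ⟶ A) [Mono ψ] (x : X) (h : Curv2.IsAssPoint K x) :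
    Curv2.IsAssPoint A x := by
  unfold Curv2.IsAssPoint at h ⊢
  exact h.map_of_injective (smₗ (toPMMap ψ) x) (sm_injective_of_mono ψ x)

theorem isAssPoint_tensor_invertible_iff (I F : X.Modules) (hI : PicF.IsInvertible I) (x : X) :
    Curv2.IsAssPoint (CohB1.tensorMod I F) x ↔ Curv2.IsAssPoint F x := by
  obtain ⟨g, hg⟩ := Groth.Agent.Lib.Helper20.RegMero.exists_isGen I hI x
  let e : X.presheaf.stalk x ≃ₗ[X.presheaf.stalk x] I.presheaf.stalk x :=
    LinearEquiv.ofBijective (LinearMap.toSpanSingleton _ _ g) hg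
  let e1 := stalkTensorEquiv I F x
  let e2 := TensorProduct.congr e.symm (LinearEquiv.refl (X.presheaf.stalk x) (F.presheaf.stalk x))
  let e3 := TensorProduct.lid (X.presheaf.stalk x) (F.presheaf.stalk x)
  exact (e1 ≪≫ₗ e2 ≪≫ₗ e3).isAssociatedPrime_iff

theorem injective_rTensor_of_bijective {R M N P : Type*} [CommRing R] [AddCommGroup M] [Module R M]
    [AddCommGroup N] [Module R N] [AddCommGroup P] [Module R P] (f : M →ₗ[R] N)
    (hf : Function.Bijective f) : Function.Injective (LinearMap.rTensor P f) := by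
  let e := LinearEquiv.ofBijective f hf
  have hcomp : e.symm.toLinearMap ∘ₗ f = LinearMap.id := by
    ext m
    exact e.symm_apply_apply m
  apply Function.LeftInverse.injective (g := LinearMap.rTensor P e.symm.toLinearMap)
  intro t
  rw [← LinearMap.comp_apply, ← LinearMap.rTensor_comp, hcomp, LinearMap.rTensor_id, LinearMap.id_apply]

end Stalk

section Cartier

variable {X : Scheme.{u}} [IsLocallyNoetherian X]

/-- outside the support of `D`, the inclusion `I_D ⟶ O_X` is bijective on stalks -/
theorem bijective_sm_idealModι (D : X.IdealSheafData) (x : X) (hx : x ∉ D.support) :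
    Function.Bijective (smₗ (toPMMap (ClSub.idealModι D)) x) := by
  refine ⟨sm_injective_of_mono (ClSub.idealModι D) x, ?_⟩
  have hsub : Subsingleton ↑((ClSub.quotMod D).presheaf.stalk x) := by
    by_contra hns
    have hmem : x ∈ CohB1.support (ClSub.quotMod D) := hns
    have := support_push_subset D.subschemeι (Coh.structureModule D.subscheme) hmem
    rw [Scheme.IdealSheafData.range_subschemeι] at this
    exact hx this
  have hex := stalkL_exact (idealSES D) (idealSES_shortExact D) x
  haveI : Subsingleton ↑((idealSES D).X₃.presheaf.stalk x) := hsub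
  intro c
  obtain ⟨a, ha⟩ := (hex c).1 (Subsingleton.elim _ _)
  refine ⟨a, ?_⟩
  exact ha

/-- if the support of the effective Cartier divisor `D` contains no associated point of the coherent module `F`,
then `I_D ⊗ F ⟶ O_X ⊗ F` is a monomorphism. -/
theorem mono_tmapR_idealModι (D : X.IdealSheafData) (hD : BlowUp.IsEffCartierIdeal D) (F : X.Modules)
    (hF : Coh.IsCoh F) (hass : ∀ x ∈ D.support, ¬ Curv2.IsAssPoint F x) :
    Mono (tmapR (ClSub.idealModι D) F) := by
  have hI : PicF.IsInvertible (ClSub.idealMod D) :=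
    Groth.Agent.Helper18Cart.isInvertible_of_isEffCartier D hD
  have hI1 := Groth.Agent.Lib.Helper23.SecTw.isFinLocFreeOfRank_one_of_isInvertible _ hI
  have hcIF : Coh.IsCoh (CohB1.tensorMod (ClSub.idealMod D) F) :=
    isCoh_invertible_tensor _ F hI hF
  have hcOF : Coh.IsCoh (CohB1.tensorMod (Coh.structureModule X) F) :=
    isCoh_of_iso (Groth.Agent.Lib.Helper23.TensorUnit.unitTensorIso F).symm hF
  set φ := tmapR (ClSub.idealModι D) F with hφ
  have hcK : Coh.IsCoh (kernel φ) := isCoh_kernel φ hcIF hcOF
  have hK : IsZero (kernel φ) := by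
    rw [Groth.Agent.S1704.result X (kernel φ) hcK.1]
    intro x hxK
    have h1 : Curv2.IsAssPoint (CohB1.tensorMod (ClSub.idealMod D) F) x :=
      isAssPoint_of_mono (kernel.ι φ) x hxK
    have h2 : Curv2.IsAssPoint F x := (isAssPoint_tensor_invertible_iff _ F hI x).1 h1
    have h3 : x ∈ D.support := by
      by_contra hx
      have hinj : Function.Injective (sm (toPMMap φ) x) :=
        sm_tmapR_injective (ClSub.idealModι D) F x
          (injective_rTensor_of_bijective _ (bijective_sm_idealModι D x hx))
      haveI := subsingleton_stalk_kernel φ x hinj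
      exact not_isAssociatedPrime_of_subsingleton hxK
    exact hass x h3 h2
  exact Preadditive.mono_of_kernel_zero (hK.eq_of_src _ _)

end Cartier

section Proper

variable (k : Type u) [Field k] (X : Scheme.{u}) [X.Over (Spec (CommRingCat.of k))]
  [IsProper (X ↘ (Spec (CommRingCat.of k)))]

theorem dchi_snoc (l : List X.Modules) (hl : ∀ M ∈ l, PicF.IsInvertible M) (I : X.Modules) :
    ∀ F : X.Modules, dchi k X (l ++ [I]) F = dchi k X l F - dchi k X l (CohB1.tensorMod F I) := by
  induction l with
  | nil =>
    intro F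
    rfl
  | cons M l ih =>
    intro F
    have hl' : ∀ N ∈ l, PicF.IsInvertible N := fun N hN => hl N (List.mem_cons_of_mem _ hN)
    rw [List.cons_append, dchi_cons, ih hl', ih hl', dchi_cons, dchi_cons]
    obtain ⟨e⟩ := swapR F I M
    rw [(isAdd_dchi k X l hl').iso e]
    ring

/-- the intersection number with an effective Cartier divisor as last entry -/
theorem dchi_cartier (l : List X.Modules) (hl : ∀ M ∈ l, PicF.IsInvertible M) (D : X.IdealSheafData)
    (hD : BlowUp.IsEffCartierIdeal D) (F : X.Modules) (hF : Coh.IsCoh F)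
    (hass : ∀ x ∈ D.support, ¬ Curv2.IsAssPoint F x) :
    dchi k X (l ++ [ClSub.idealMod D]) F = dchi k X l (CohB1.tensorMod F (ClSub.quotMod D)) := by
  haveI : IsNoetherian X := Groth.Agent.Lib.Helper4.CurveRR.isNoetherian_of_proper k X
  haveI : IsLocallyNoetherian X := inferInstance
  have hI : PicF.IsInvertible (ClSub.idealMod D) :=
    Groth.Agent.Helper18Cart.isInvertible_of_isEffCartier D hD
  have hφ := isAdd_dchi k X l hl
  rw [dchi_snoc k X l hl]
  -- the short exact sequence `0 → I ⊗ F → O ⊗ F → O_D ⊗ F → 0`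
  haveI hmono := mono_tmapR_idealModι D hD F hF hass
  haveI : Epi (idealSES D).g := (idealSES_shortExact D).epi_g
  obtain ⟨hz, hex⟩ := Groth.Agent.Lib.Helper12.GPKeyB.exact_tmapR (idealSES D) (idealSES_shortExact D).exact F
  let S : ShortComplex X.Modules := ShortComplex.mk (tmapR (idealSES D).f F) (tmapR (idealSES D).g F) hz
  have hS : S.ShortExact :=
    { exact := hex
      mono_f := hmono
      epi_g := epi_tmapR (idealSES D).g F }
  have hcIF : Coh.IsCoh (CohB1.tensorMod (ClSub.idealMod D) F) := isCoh_invertible_tensor _ F hI hF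
  have hcOF : Coh.IsCoh (CohB1.tensorMod (Coh.structureModule X) F) :=
    isCoh_of_iso (Groth.Agent.Lib.Helper23.TensorUnit.unitTensorIso F).symm hF
  have hcQ : Coh.IsCoh (ClSub.quotMod D) :=
    isCoh_push_closed D.subschemeι _ (isCoh_structureModule _)
  have hcQF : Coh.IsCoh (CohB1.tensorMod (ClSub.quotMod D) F) := by
    haveI : (ClSub.quotMod D).IsQuasicoherent := hcQ.1
    haveI : SheafOfModules.IsFiniteType (R := X.ringCatSheaf) (ClSub.quotMod D) := hcQ.2
    haveI : F.IsQuasicoherent := hF.1
    haveI : SheafOfModules.IsFiniteType (R := X.ringCatSheaf) F := hF.2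
    exact ⟨Groth.Agent.Lib.Helper23.TensorQCoh.isQuasicoherent_tensorMod _ F,
      Groth.Agent.Lib.Helper23.TensorQCoh.isFiniteType_tensorMod _ F⟩
  have hadd := hφ.add S hS hcIF hcOF hcQF
  have e1 := hφ.iso (Groth.Agent.Lib.Helper23.TensorUnit.unitTensorIso F)
  have e2 := hφ.iso (Groth.Agent.Lib.Helper23.AmpleFam2.tensorBraid (ClSub.idealMod D) F)
  have e3 := hφ.iso (Groth.Agent.Lib.Helper23.AmpleFam2.tensorBraid (ClSub.quotMod D) F)
  change dchi k X l (CohB1.tensorMod (Coh.structureModule X) F) =
    dchi k X l (CohB1.tensorMod (ClSub.idealMod D) F) + dchi k X l (CohB1.tensorMod (ClSub.quotMod D) F) at hadd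
  rw [e1, e2, e3] at hadd
  omega

end Proper

end Groth.Agent.Lib.Helper12.Snap
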