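import Mathlib
import Groth.Prelude.Def_ModSite

/-!
# Helper21: sections of a direct sum of sheaves of modules are locally finite sums

* `isLocallySurjective_of_jointly`: a map `φ : M ⟶ N.val` from a presheaf of modules to (the
  underlying presheaf of) a sheaf of modules, such that maps out of `N` are detected after `φ`,
  is locally surjective.
* `exists_sum_of_isColimit`: elements of a coproduct in `ModuleCat` are finite sums.
* `locally_finite_sum`: every section of `∐ F` is locally a finite sum of images of sections of the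
  `F i`.
-/

set_option autoImplicit false
universe u
open CategoryTheory CategoryTheory.Limits Opposite

namespace Groth.Agent.Lib.Helper21.CoprodSec

section ModuleCat

open DirectSum in
theorem exists_sum_of_isColimit {A : Type u} [Ring A] {ι : Type u} (Z : ι → ModuleCat.{u} A)
    (c : Cofan Z) (hc : IsColimit c) (x : c.pt) :
    ∃ (t : Finset ι) (z : ∀ i, Z i), x = ∑ i ∈ t, (c.inj i).hom (z i) := by
  classical
  let e : c.pt ≅ ModuleCat.of A (⨁ i, Z i) :=
    hc.coconePointUniqueUpToIso (ModuleCat.coproductCoconeIsColimit Z)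
  have he : ∀ i, ModuleCat.ofHom (DirectSum.lof A ι (fun i => Z i) i) ≫ e.inv = c.inj i := by
    intro i
    exact IsColimit.comp_coconePointUniqueUpToIso_inv hc
      (ModuleCat.coproductCoconeIsColimit Z) ⟨i⟩
  let y : ⨁ i, Z i := e.hom.hom x
  refine ⟨DFinsupp.support y, fun i => y i, ?_⟩
  have h1 : x = e.inv.hom y := by
    change x = (e.hom ≫ e.inv).hom x
    rw [e.hom_inv_id]
    rfl
  have h2 : y = ∑ i ∈ DFinsupp.support y, DirectSum.lof A ι (fun i => Z i) i (y i) :=
    (DirectSum.sum_support_of y).symm
  rw [h1]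
  conv_lhs => rw [h2]
  rw [map_sum]
  refine Finset.sum_congr rfl fun i _ => ?_
  rw [← he i]
  rfl

end ModuleCat

variable {C : Type u} [SmallCategory C] {J : GrothendieckTopology C} {R : Sheaf J RingCat.{u}}

/-- the right adjoint of sheafification -/
noncomputable abbrev ιF (R : Sheaf J RingCat.{u}) :
    SheafOfModules.{u} R ⥤ PresheafOfModules.{u} R.obj :=
  SheafOfModules.forget.{u} R ⋙ PresheafOfModules.restrictScalars (𝟙 R.obj)

theorem isLocallySurjective_of_jointly {N : SheafOfModules.{u} R} {M : PresheafOfModules.{u} R.obj}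
    (φ : M ⟶ (ιF R).obj N)
    (hφ : ∀ (T : SheafOfModules.{u} R) (w : N ⟶ T), φ ≫ (ιF R).map w = 0 → w = 0) :
    Presheaf.IsLocallySurjective J ((PresheafOfModules.toPresheaf R.obj).map φ) := by
  let adj := PresheafOfModules.sheafificationAdjunction (𝟙 R.obj) (J := J) (R := R)
  let a := PresheafOfModules.sheafification.{u} (𝟙 R.obj) (J := J) (R := R)
  let P := cokernel φ
  let q : (ιF R).obj N ⟶ P := cokernel.π φ
  let η : P ⟶ (ιF R).obj (a.obj P) := adj.unit.app P
  have hqη : q ≫ η = 0 := by
    obtain ⟨ψ, hψ⟩ := (ιF R).map_surjective (q ≫ η)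
    have h2 : ψ = 0 := by
      apply hφ
      rw [hψ, ← Category.assoc, cokernel.condition, zero_comp]
    rw [← hψ, h2, (ιF R).map_zero]
  have hloc : Presheaf.IsLocallyInjective J ((PresheafOfModules.toPresheaf R.obj).map η) := by
    have : (PresheafOfModules.toPresheaf R.obj).map η = CategoryTheory.toSheafify J P.presheaf :=
      PresheafOfModules.toPresheaf_map_sheafificationAdjunction_unit_app (𝟙 R.obj) P
    rw [this]
    exact (J.W_toSheafify P.presheaf).isLocallyInjective
  let S : ShortComplex (PresheafOfModules.{u} R.obj) :=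
    ShortComplex.mk φ q (cokernel.condition _)
  have hS : S.Exact := S.exact_of_g_is_cokernel (cokernelIsCokernel _)
  constructor
  intro U s
  have h0 : Presheaf.equalizerSieve (F := P.presheaf) (X := op U) (q.app (op U) s) 0 ∈ J U := by
    apply Presheaf.equalizerSieve_mem J ((PresheafOfModules.toPresheaf R.obj).map η)
    have h1 : (q ≫ η).app (op U) s = 0 := by rw [hqη]; rfl
    have h3 : ((PresheafOfModules.toPresheaf R.obj).map η).app (op U) 0 = 0 := map_zero _
    exact h1.trans h3.symm
  refine J.superset_covering ?_ h0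
  intro V f hf
  have hSV : (S.map (PresheafOfModules.evaluation R.obj (op V))).Exact :=
    hS.map_of_epi_of_preservesCokernel _ inferInstance inferInstance
  rw [ShortComplex.moduleCat_exact_iff] at hSV
  have hf' : q.app (op V) (N.val.map f.op s) = 0 := by
    have h1 := PresheafOfModules.naturality_apply q f.op s
    have h2 : P.presheaf.map f.op (q.app (op U) s) = P.presheaf.map f.op 0 := hf
    rw [map_zero] at h2
    exact h1.trans h2
  obtain ⟨t, ht⟩ := hSV _ hf'
  exact ⟨t, ht⟩

variable {ι : Type u} (F : ι → SheafOfModules.{u} R)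

/-- the canonical map from the presheaf direct sum -/
noncomputable def preΦ : (∐ fun i => (ιF R).obj (F i)) ⟶ (ιF R).obj (∐ F) :=
  Sigma.desc fun i => (ιF R).map (Sigma.ι F i)

instance isLocallySurjective_preΦ :
    Presheaf.IsLocallySurjective J ((PresheafOfModules.toPresheaf R.obj).map (preΦ F)) := by
  apply isLocallySurjective_of_jointly
  intro T w hw
  apply Sigma.hom_ext
  intro i
  rw [comp_zero]
  apply (ιF R).map_injective
  have h : Sigma.ι (fun i => (ιF R).obj (F i)) i ≫ preΦ F ≫ (ιF R).map w = 0 := by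
    rw [hw, comp_zero]
  unfold preΦ at h
  rw [Sigma.ι_desc_assoc] at h
  rw [(ιF R).map_comp, (ιF R).map_zero]
  exact h

/-- every section of `∐ F` is locally a finite sum of images of sections of the `F i` -/
theorem locally_finite_sum (V : C) (s : (∐ F).val.obj (op V)) :
    ∃ S : Sieve V, S ∈ J V ∧ ∀ (V' : C) (g : V' ⟶ V), S g →
      ∃ (t : Finset ι) (z : ∀ i, (F i).val.obj (op V')),
        (∐ F).val.map g.op s = ∑ i ∈ t, (Sigma.ι F i).val.app (op V') (z i) := by
  refine ⟨Presheaf.imageSieve ((PresheafOfModules.toPresheaf R.obj).map (preΦ F)) s,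
    Presheaf.imageSieve_mem J _ _, ?_⟩
  rintro V' g ⟨y, hy⟩
  let M : ι → PresheafOfModules.{u} R.obj := fun i => (ιF R).obj (F i)
  have hc : IsColimit (Cofan.mk ((∐ M).obj (op V'))
      (fun i => (Sigma.ι M i).app (op V')) : Cofan fun i => (M i).obj (op V')) :=
    (isColimitMapCoconeCofanMkEquiv (PresheafOfModules.evaluation R.obj (op V')) M
      (Sigma.ι M)).1 (isColimitOfPreserves _ (coproductIsCoproduct M))
  obtain ⟨t, z, hz⟩ := exists_sum_of_isColimit (fun i => (M i).obj (op V')) _ hc y
  refine ⟨t, z, ?_⟩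
  have hy' : (∐ F).val.map g.op s = (preΦ F).app (op V') y := hy.symm
  rw [hy', hz, map_sum]
  refine Finset.sum_congr rfl fun i _ => ?_
  have h1 : Sigma.ι M i ≫ preΦ F = (ιF R).map (Sigma.ι F i) := by
    unfold preΦ
    exact Sigma.ι_desc _ _
  have h2 := congrArg (fun t => t.app (op V') (z i)) h1
  exact h2

end Groth.Agent.Lib.Helper21.CoprodSec
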