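import Mathlib
import Groth.Prelude.Def_ModSite
import Groth.Prelude.Def_CohCx

/-!
# Helper21: quasi-compact objects of a site and finite subcovers

For `U : C` with `h_U^#` a quasi-compact object of the topos (`CohCx.IsQcObject`), every covering
family of `U` (in the sense that the generated sieve is covering) has a finite subfamily
generating a covering sieve.

* `jointlySurjective_of_mem`, `mem_of_jointlySurjective`: a family `g i : Y i ⟶ U` generates a
  covering sieve iff the maps `h_{Y i}^# ⟶ h_U^#` are jointly surjective.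
* `exists_finset_of_isQcObject`.
* `exists_finite_cover`: given a set `B` of objects such that every object is covered by members
  of `B`, a quasi-compact `U` and a covering sieve `S` of `U`: finitely many arrows of `S` with
  sources in `B` which generate a covering sieve.
-/

set_option autoImplicit false
universe u
open CategoryTheory CategoryTheory.Limits Opposite

namespace Groth.Agent.Lib.Helper21.TypeA

variable {C : Type u} [SmallCategory C] (J : GrothendieckTopology C)

/-- `h_U^#` -/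
noncomputable abbrev hSh (U : C) : Sheaf J (Type u) :=
  (presheafToSheaf J (Type u)).obj (yoneda.obj U)

/-- `h_V^# ⟶ h_U^#` -/
noncomputable abbrev hMap {V U : C} (g : V ⟶ U) : hSh J V ⟶ hSh J U :=
  (presheafToSheaf J (Type u)).map (yoneda.map g)

/-- the section of `h_U^#` over `V` given by `φ : V ⟶ U` -/
noncomputable def ηy (U V : C) (φ : V ⟶ U) : (hSh J U).obj.obj (op V) :=
  (toSheafify J (yoneda.obj U)).app (op V) φ

lemma hMap_ηy {V U : C} (g : V ⟶ U) (X : C) (φ : X ⟶ V) :
    (hMap J g).hom.app (op X) (ηy J V X φ) = ηy J U X (φ ≫ g) := by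
  have h := congrFun (congrArg (fun t => t.app (op X)) (toSheafify_naturality J (yoneda.map g))) φ
  exact h.symm

lemma map_ηy (U : C) {X X' : C} (a : X' ⟶ X) (φ : X ⟶ U) :
    (hSh J U).obj.map a.op (ηy J U X φ) = ηy J U X' (a ≫ φ) := by
  exact (FunctorToTypes.naturality (toSheafify J (yoneda.obj U)) a.op φ).symm

variable {J}

theorem jointlySurjective_of_mem {U : C} {ι : Type u} (Yf : ι → C) (g : ∀ i, Yf i ⟶ U)
    (h : Sieve.ofArrows Yf g ∈ J U) :
    CohCx.JointlySurjective (fun i => hMap J (g i)) := by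
  intro X s
  let S : Sieve X :=
    { arrows := fun V f => ∃ (i : ι) (x : (hSh J (Yf i)).obj.obj (op V)),
        (hMap J (g i)).hom.app (op V) x = (hSh J U).obj.map f.op s
      downward_closed := by
        rintro V V' f ⟨i, x, hx⟩ c
        refine ⟨i, (hSh J (Yf i)).obj.map c.op x, ?_⟩
        have h1 := FunctorToTypes.naturality (hMap J (g i)).hom c.op x
        refine h1.trans ?_
        change (hSh J U).obj.map c.op ((hMap J (g i)).hom.app (op V) x) = _
        rw [hx, op_comp, Functor.map_comp]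
        rfl }
  refine ⟨S, ?_, fun V f hf => hf⟩
  have hS₁ : Presheaf.imageSieve (toSheafify J (yoneda.obj U)) s ∈ J X :=
    Presheaf.imageSieve_mem J (toSheafify J (yoneda.obj U)) s
  refine J.transitive hS₁ S ?_
  rintro X' a ⟨φ, hφ⟩
  have hφ' : (hSh J U).obj.map a.op s = ηy J U X' φ := hφ.symm
  refine J.superset_covering ?_ (J.pullback_stable φ h)
  rintro V c ⟨W, ψ, g', ⟨i⟩, hfac⟩
  refine ⟨i, ηy J (Yf i) V ψ, ?_⟩
  rw [hMap_ηy, hfac, op_comp, Functor.map_comp]
  change _ = (hSh J U).obj.map c.op ((hSh J U).obj.map a.op s)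
  rw [hφ', map_ηy]

theorem mem_of_jointlySurjective {U : C} {ι : Type u} (Yf : ι → C) (g : ∀ i, Yf i ⟶ U)
    (h : CohCx.JointlySurjective (fun i => hMap J (g i))) :
    Sieve.ofArrows Yf g ∈ J U := by
  obtain ⟨S, hS, hS'⟩ := h U (ηy J U U (𝟙 U))
  refine J.transitive hS _ ?_
  intro V a ha
  obtain ⟨i, x, hx⟩ := hS' V a ha
  have hS₂ : Presheaf.imageSieve (toSheafify J (yoneda.obj (Yf i))) x ∈ J V :=
    Presheaf.imageSieve_mem J (toSheafify J (yoneda.obj (Yf i))) x
  refine J.transitive hS₂ _ ?_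
  rintro V' b ⟨ψ, hψ⟩
  have hψ' : ηy J (Yf i) V' ψ = (hSh J (Yf i)).obj.map b.op x := hψ
  have h1 : ηy J U V' (ψ ≫ g i) = ηy J U V' (b ≫ a) := by
    rw [← hMap_ηy, hψ']
    have h2 := FunctorToTypes.naturality (hMap J (g i)).hom b.op x
    refine h2.trans ?_
    change (hSh J U).obj.map b.op ((hMap J (g i)).hom.app (op V) x) = _
    rw [hx, map_ηy, map_ηy, Category.comp_id]
  have h3 : Presheaf.equalizerSieve (F := yoneda.obj U) (X := op V') (ψ ≫ g i) (b ≫ a) ∈ J V' :=
    Presheaf.equalizerSieve_mem J (toSheafify J (yoneda.obj U)) _ _ h1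
  refine J.superset_covering ?_ h3
  intro V'' c hc
  have hc' : c ≫ ψ ≫ g i = c ≫ b ≫ a := hc
  change Sieve.ofArrows Yf g ((c ≫ b) ≫ a)
  rw [Category.assoc, ← hc', ← Category.assoc]
  exact ⟨_, c ≫ ψ, g i, ⟨i⟩, rfl⟩

theorem exists_finset_of_isQcObject {U : C} (hU : CohCx.IsQcObject (hSh J U)) {ι : Type u}
    (Yf : ι → C) (g : ∀ i, Yf i ⟶ U) (h : Sieve.ofArrows Yf g ∈ J U) :
    ∃ t : Finset ι, Sieve.ofArrows (fun i : t => Yf i.1) (fun i : t => g i.1) ∈ J U := by
  obtain ⟨t, ht⟩ := hU ι (fun i => hSh J (Yf i)) (fun i => hMap J (g i))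
    (jointlySurjective_of_mem Yf g h)
  exact ⟨t, mem_of_jointlySurjective (fun i : t => Yf i.1) (fun i : t => g i.1) ht⟩

theorem exists_finite_cover (B : Set C)
    (hB₁ : ∀ X : C, ∃ (κ : Type u) (Y : κ → C) (g : ∀ k, Y k ⟶ X),
      Sieve.ofArrows Y g ∈ J X ∧ ∀ k, Y k ∈ B)
    {U : C} (hU : CohCx.IsQcObject (hSh J U)) (S : Sieve U) (hS : S ∈ J U) :
    ∃ (κ : Type u) (_ : Finite κ) (W : κ → C) (g : ∀ k, W k ⟶ U),
      (∀ k, W k ∈ B) ∧ (∀ k, S (g k)) ∧ Sieve.ofArrows W g ∈ J U := by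
  let I : Type u := { p : Over U // p.left ∈ B ∧ S p.hom }
  let Yf : I → C := fun p => p.1.left
  let g : ∀ p : I, Yf p ⟶ U := fun p => p.1.hom
  have hcov : Sieve.ofArrows Yf g ∈ J U := by
    refine J.transitive hS _ ?_
    intro V a ha
    obtain ⟨κ, Y', g', hcov', hB'⟩ := hB₁ V
    refine J.superset_covering ?_ hcov'
    rintro V' c ⟨W, c', g'', ⟨k⟩, hfac⟩
    change Sieve.ofArrows Yf g (c ≫ a)
    rw [← hfac, Category.assoc]
    exact ⟨_, c', g' k ≫ a,
      Presieve.ofArrows.mk (⟨Over.mk (g' k ≫ a), hB' k, S.downward_closed ha (g' k)⟩ : I), rfl⟩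
  obtain ⟨t, ht⟩ := exists_finset_of_isQcObject hU Yf g hcov
  exact ⟨t, inferInstance, fun k => Yf k.1, fun k => g k.1, fun k => k.1.2.1, fun k => k.1.2.2, ht⟩

end Groth.Agent.Lib.Helper21.TypeA
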