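import Mathlib
import Groth.Prelude.Def_ModSite
import Groth.Prelude.Def_CohCx
import Groth.Agent.Lib.Helper21CoprodSec1
import Groth.Agent.Lib.Helper21TypeA1

/-!
# Helper21: sections of a direct sum over a quasi-compact object

`HasFinSubcover J W`: every covering sieve of `W` contains finitely many arrows generating a
covering sieve.  For such `W`, every section of `∐ F` over `W` is a finite sum of images of
sections of the `F i` (`exists_finite_sum`); such a sum vanishes only if all terms do
(`eq_zero_of_sum_eq_zero`, no hypothesis on `W`).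
-/

set_option autoImplicit false
universe u
open CategoryTheory CategoryTheory.Limits Opposite

namespace Groth.Agent.Lib.Helper21.CoprodSec

variable {C : Type u} [SmallCategory C] {J : GrothendieckTopology C}

/-- finite subcover property -/
def HasFinSubcover (J : GrothendieckTopology C) (W : C) : Prop :=
  ∀ S : Sieve W, S ∈ J W → ∃ (κ : Type u) (_ : Finite κ) (Y : κ → C) (g : ∀ k, Y k ⟶ W),
    (∀ k, S (g k)) ∧ Sieve.ofArrows Y g ∈ J W

theorem hasFinSubcover_of_isQcObject {W : C}
    (hW : CohCx.IsQcObject (Groth.Agent.Lib.Helper21.TypeA.hSh J W)) : HasFinSubcover J W := by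
  intro S hS
  let I : Type u := { p : Over W // S p.hom }
  have hcov : Sieve.ofArrows (fun p : I => p.1.left) (fun p : I => p.1.hom) ∈ J W := by
    refine J.superset_covering ?_ hS
    intro V a ha
    exact ⟨V, 𝟙 V, a, Presieve.ofArrows.mk (⟨Over.mk a, ha⟩ : I), Category.id_comp _⟩
  obtain ⟨t, ht⟩ := Groth.Agent.Lib.Helper21.TypeA.exists_finset_of_isQcObject hW _ _ hcov
  exact ⟨t, inferInstance, fun k => k.1.1.left, fun k => k.1.1.hom, fun k => k.1.2, ht⟩

variable {R : Sheaf J RingCat.{u}}

lemma sum_val_app {ι : Type u} {M N : SheafOfModules.{u} R} (t : Finset ι) (f : ι → (M ⟶ N))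
    (X : Cᵒᵖ) (x : M.val.obj X) :
    (∑ i ∈ t, f i).val.app X x = ∑ i ∈ t, (f i).val.app X x := by
  classical
  induction t using Finset.induction_on with
  | empty => simp only [Finset.sum_empty]; rfl
  | insert a t ha ih =>
    rw [Finset.sum_insert ha, Finset.sum_insert ha, ← ih]
    rfl

variable {ι : Type u} (F : ι → SheafOfModules.{u} R)

open Classical in
/-- projection onto the summands indexed by `T` -/
noncomputable def prT (T : Finset ι) : (∐ F) ⟶ (∐ F) := ∑ i ∈ T, Sigma.π F i ≫ Sigma.ι F i

open Classical in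
lemma ι_prT (T : Finset ι) (j : ι) (hj : j ∈ T) : Sigma.ι F j ≫ prT F T = Sigma.ι F j := by
  unfold prT
  rw [Preadditive.comp_sum, Finset.sum_eq_single j]
  · rw [Sigma.ι_π_eq_id_assoc]
  · intro i _ hij
    rw [Sigma.ι_π_of_ne_assoc F (Ne.symm hij), zero_comp]
  · intro h; exact absurd hj h

open Classical in
theorem eq_zero_of_sum_eq_zero (W : C) (t : Finset ι) (z : ∀ i, (F i).val.obj (op W))
    (h : ∑ i ∈ t, (Sigma.ι F i).val.app (op W) (z i) = 0) : ∀ i ∈ t, z i = 0 := by
  intro j hj
  have h1 := congrArg (fun x => (Sigma.π F j).val.app (op W) x) h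
  dsimp only at h1
  rw [map_sum, map_zero, Finset.sum_eq_single j] at h1
  · have h2 : (Sigma.π F j).val.app (op W) ((Sigma.ι F j).val.app (op W) (z j)) =
        (Sigma.ι F j ≫ Sigma.π F j).val.app (op W) (z j) := rfl
    rw [h2, Sigma.ι_π_eq_id] at h1
    exact h1
  · intro i _ hij
    have h2 : (Sigma.π F j).val.app (op W) ((Sigma.ι F i).val.app (op W) (z i)) =
        (Sigma.ι F i ≫ Sigma.π F j).val.app (op W) (z i) := rfl
    rw [h2, Sigma.ι_π_of_ne F hij]
    rfl
  · intro h; exact absurd hj h

open Classical in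
theorem exists_finite_sum {W : C} (hW : HasFinSubcover J W) (s : (∐ F).val.obj (op W)) :
    ∃ (t : Finset ι) (z : ∀ i, (F i).val.obj (op W)),
      s = ∑ i ∈ t, (Sigma.ι F i).val.app (op W) (z i) := by
  obtain ⟨S, hS, hS'⟩ := locally_finite_sum F W s
  obtain ⟨κ, hκ, Yf, g, hgS, hcov⟩ := hW S hS
  haveI : Fintype κ := Fintype.ofFinite κ
  choose tk zk hk using fun k => hS' (Yf k) (g k) (hgS k)
  let T : Finset ι := Finset.univ.biUnion tk
  have key : (prT F T).val.app (op W) s = s := by
    have hsep : Presheaf.IsSeparated J (∐ F).val.presheaf :=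
      Presheaf.IsSheaf.isSeparated (∐ F).isSheaf
    apply hsep W _ hcov
    rintro Y' f ⟨_, c, _, ⟨k⟩, rfl⟩
    have h1 : ∀ x : (∐ F).val.obj (op W), (∐ F).val.presheaf.map (c ≫ g k).op x =
        (∐ F).val.map c.op ((∐ F).val.map (g k).op x) := by
      intro x
      rw [op_comp]
      exact PresheafOfModules.map_comp_apply _ (g k).op c.op x
    rw [h1, h1]
    congr 1
    have h2 := PresheafOfModules.naturality_apply (prT F T).val (g k).op s
    rw [← h2, hk k, map_sum]
    refine Finset.sum_congr rfl fun i hi => ?_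
    have hiT : i ∈ T := Finset.mem_biUnion.2 ⟨k, Finset.mem_univ k, hi⟩
    have h3 : (prT F T).val.app (op (Yf k)) ((Sigma.ι F i).val.app (op (Yf k)) (zk k i)) =
        (Sigma.ι F i ≫ prT F T).val.app (op (Yf k)) (zk k i) := rfl
    rw [h3, ι_prT F T i hiT]
  refine ⟨T, fun i => (Sigma.π F i).val.app (op W) s, ?_⟩
  conv_lhs => rw [← key]
  unfold prT
  rw [sum_val_app]
  rfl

end Groth.Agent.Lib.Helper21.CoprodSec
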