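import Mathlib
import Groth.Agent.Lib.Helper16QcSect
import Groth.Agent.Lib.Helper16CechLES
import Groth.Agent.Lib.Helper21CoprodSec2

set_option autoImplicit false
set_option linter.style.haveILetI false
set_option linter.unusedSectionVars false
universe u
open CategoryTheory CategoryTheory.Limits AlgebraicGeometry Opposite TopologicalSpace

namespace Groth.Agent.Lib.Helper18.DirImgColim

open Groth.Agent.Lib.Helper16.QcSect Groth.Agent.Lib.Helper16.FiltColim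

section top
variable {X : TopCat.{u}}

lemma qc_of_isCompact (W : Opens X) (hW : IsCompact (W : Set X)) :
    QC (Opens.grothendieckTopology X) W := by
  intro T hT
  have hx : ∀ x : X, x ∈ W → ∃ W' : Opens X, x ∈ W' ∧ ∃ h : W' ⟶ W, T.arrows h := fun x hx => by
    obtain ⟨W₀, f, hf, hxW₀⟩ := hT x hx
    exact ⟨W₀, hxW₀, f, hf⟩
  choose! W' hxW' hW'W hW'T using hx
  obtain ⟨t, htW, htcov⟩ := IsCompact.elim_nhds_subcover hW
    (fun x => (W' x : Set X)) (fun x hx => (W' x).isOpen.mem_nhds (hxW' x hx))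
  refine ⟨{x // x ∈ t}, inferInstance, fun k => Over.mk (hW'W k.1 (htW k.1 k.2)),
    fun k => hW'T k.1 (htW k.1 k.2), ?_⟩
  apply Groth.Agent.Lib.Helper16.CechLES.covering_of_iSup
  intro x hx
  obtain ⟨y, hy, hxy⟩ := Set.mem_iUnion₂.1 (htcov hx)
  exact Opens.mem_iSup.2 ⟨⟨y, hy⟩, hxy⟩

/-- a compact open with a basis of compact opens stable under intersection is `QC2` -/
lemma qc2_of_basis (W : Opens X) (hW : IsCompact (W : Set X)) (P : Opens X → Prop)
    (hP : ∀ U, P U → IsCompact (U : Set X))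
    (hP2 : ∀ U V, P U → P V → IsCompact ((U ⊓ V : Opens X) : Set X))
    (hbasis : ∀ (x : X) (U : Opens X), x ∈ U → U ≤ W → ∃ V : Opens X, P V ∧ x ∈ V ∧ V ≤ U) :
    QC2 (Opens.grothendieckTopology X) W := by
  intro T hT
  have hx : ∀ x : X, x ∈ W → ∃ W' : Opens X, x ∈ W' ∧ P W' ∧ ∃ h : W' ⟶ W, T.arrows h := fun x hx => by
    obtain ⟨W₀, f, hf, hxW₀⟩ := hT x hx
    obtain ⟨V, hPV, hxV, hVW₀⟩ := hbasis x W₀ hxW₀ f.le
    exact ⟨V, hxV, hPV, homOfLE hVW₀ ≫ f, T.downward_closed hf _⟩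
  choose! W' hxW' hPW' hW'W hW'T using hx
  obtain ⟨t, htW, htcov⟩ := IsCompact.elim_nhds_subcover hW
    (fun x => (W' x : Set X)) (fun x hx => (W' x).isOpen.mem_nhds (hxW' x hx))
  refine ⟨{x // x ∈ t}, inferInstance, fun k => Over.mk (hW'W k.1 (htW k.1 k.2)),
    fun k => hW'T k.1 (htW k.1 k.2), ?_, ?_⟩
  · apply Groth.Agent.Lib.Helper16.CechLES.covering_of_iSup
    intro x hx
    obtain ⟨y, hy, hxy⟩ := Set.mem_iUnion₂.1 (htcov hx)
    exact Opens.mem_iSup.2 ⟨⟨y, hy⟩, hxy⟩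
  · intro a b
    refine ⟨W' a.1 ⊓ W' b.1, homOfLE ?_, homOfLE ?_, Subsingleton.elim _ _, ?_⟩
    · exact le_inf (pullback.fst _ _).le (pullback.snd _ _).le
    · exact (pullback.lift (f := hW'W a.1 (htW a.1 a.2)) (g := hW'W b.1 (htW b.1 b.2))
        (homOfLE inf_le_left) (homOfLE inf_le_right) (Subsingleton.elim _ _)).le
    · exact qc_of_isCompact _ (hP2 _ _ (hPW' a.1 (htW a.1 a.2)) (hPW' b.1 (htW b.1 b.2)))

end top

lemma qc2_of_isAffineOpen {X : Scheme.{u}} (W : X.Opens) (hW : IsAffineOpen W) :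
    QC2 (Opens.grothendieckTopology X) W := by
  refine qc2_of_basis (X := X.carrier) W hW.isCompact (fun U => ∃ g : Γ(X, W), U = X.basicOpen g) ?_ ?_ ?_
  · rintro U ⟨g, rfl⟩
    exact (hW.basicOpen g).isCompact
  · rintro U V ⟨g, rfl⟩ ⟨g', rfl⟩
    rw [← Scheme.basicOpen_mul]
    exact (hW.basicOpen (g * g')).isCompact
  · intro x U hxU hUW
    obtain ⟨g, hg, hxg⟩ := hW.exists_basicOpen_le (V := U) ⟨x, hxU⟩ (hUW hxU)
    exact ⟨_, ⟨g, rfl⟩, hxg, hg⟩

end Groth.Agent.Lib.Helper18.DirImgColim
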