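import Mathlib
import Groth.Prelude.Def_RelSpec2
import Groth.Agent.Lib.Helper18DirImgQC
import Groth.Agent.S0484

set_option autoImplicit false
set_option linter.style.haveILetI false
set_option linter.unusedSectionVars false
universe u
open CategoryTheory CategoryTheory.Limits AlgebraicGeometry Opposite TopologicalSpace

namespace Groth.Agent.Lib.Helper18.DirImgColim

open Groth.Agent.Lib.Helper16.QcSect Groth.Agent.Lib.Helper16.FiltColim

section basis
variable {T : TopCat.{u}} {R : Sheaf (Opens.grothendieckTopology T) RingCat.{u}}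

theorem isIso_of_bijective_on_basis {M N : SheafOfModules.{u} R} (φ : M ⟶ N) {ι : Type u}
    (B : ι → Opens T) (hB : Opens.IsBasis (Set.range B))
    (hφ : ∀ i, Function.Bijective (φ.val.app (op (B i))).hom) : IsIso φ := by
  have h1 : IsIso ((SheafOfModules.toSheaf R).map φ) := by
    refine TopCat.Sheaf.isIso_iff_isIso_basis (X := T) (B := B) hB fun i => ?_
    exact (ConcreteCategory.isIso_iff_bijective _).2 (hφ i)
  exact isIso_of_reflects_iso φ (SheafOfModules.toSheaf R)

end basis

section filt
variable {T : TopCat.{u}} {R : Sheaf (Opens.grothendieckTopology T) RingCat.{u}}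
  {J : Type u} [SmallCategory J] [IsFiltered J] (G : J ⥤ SheafOfModules.{u} R)

lemma colim_surj (W : Opens T) (hW : QC2 (Opens.grothendieckTopology T) W)
    (c : Cocone G) (hc : IsColimit c) (x : c.pt.val.obj (op W)) :
    ∃ (j : J) (y : (G.obj j).val.obj (op W)), ((c.ι.app j).val.app (op W)).hom y = x := by
  have hg := good_sections' (Opens.grothendieckTopology T) (G ⋙ SheafOfModules.toSheaf R) W hW
    ((SheafOfModules.toSheaf R).mapCocone c) (isColimitOfPreserves _ hc)
  exact hg.surj x

lemma colim_inj (W : Opens T) (hW : QC2 (Opens.grothendieckTopology T) W)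
    (c : Cocone G) (hc : IsColimit c) (j : J) (y : (G.obj j).val.obj (op W))
    (hy : ((c.ι.app j).val.app (op W)).hom y = 0) :
    ∃ (k : J) (a : j ⟶ k), ((G.map a).val.app (op W)).hom y = 0 := by
  have hg := good_sections' (Opens.grothendieckTopology T) (G ⋙ SheafOfModules.toSheaf R) W hW
    ((SheafOfModules.toSheaf R).mapCocone c) (isColimitOfPreserves _ hc)
  exact hg.inj j y hy

end filt

end Groth.Agent.Lib.Helper18.DirImgColim
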