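import Mathlib
import Groth.Prelude.Def_RelSpec2
import Groth.Agent.Lib.Helper18DirImgQC
import Groth.Agent.Lib.Helper18DirImgColim
import Groth.Agent.Lib.Helper21CoprodSec2

set_option autoImplicit false
set_option linter.style.haveILetI false
set_option linter.unusedSectionVars false
universe u
open CategoryTheory CategoryTheory.Limits AlgebraicGeometry Opposite TopologicalSpace

namespace Groth.Agent.Lib.Helper18.DirImgColim

open Groth.Agent.Lib.Helper16.QcSect Groth.Agent.Lib.Helper21.CoprodSec

lemma hasFinSubcover_of_QC {C : Type u} [SmallCategory C] (J : GrothendieckTopology C) (W : C)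
    (hW : QC J W) : HasFinSubcover J W := by
  intro T hT
  obtain ⟨κ, hfin, Y, hYT, hY⟩ := hW T hT
  exact ⟨κ, hfin, fun k => (Y k).left, fun k => (Y k).hom, hYT, hY⟩

lemma hasFinSubcover_of_isCompact {T : TopCat.{u}} (W : Opens T) (hW : IsCompact (W : Set T)) :
    HasFinSubcover (Opens.grothendieckTopology T) W :=
  hasFinSubcover_of_QC _ W (qc_of_isCompact W hW)

section sigma
variable {X S : Scheme.{u}} (f : X ⟶ S) [IsAffineHom f] {ι : Type u} (F : ι → X.Modules)

theorem isIso_sigmaComparison_dirImg : IsIso (sigmaComparison (AMod.dirImg f) F) := by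
  classical
  have key : ∀ (i : ι) (V : S.Opens) (y : (F i).val.obj (op (f ⁻¹ᵁ V))),
      ((sigmaComparison (AMod.dirImg f) F).val.app (op V)).hom
        (((Sigma.ι (fun i => (AMod.dirImg f).obj (F i)) i).val.app (op V)).hom y) =
      ((Sigma.ι F i).val.app (op (f ⁻¹ᵁ V))).hom y := by
    intro i V y
    have h := ι_comp_sigmaComparison (AMod.dirImg f) F i
    exact congrArg (fun φ => (φ.val.app (op V)).hom y) h
  refine isIso_of_bijective_on_basis (T := S.carrier) _ (fun V : S.affineOpens => V.1) ?_ ?_
  · rw [Subtype.range_coe]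
    exact S.isBasis_affineOpens
  · rintro ⟨V, hV⟩
    have hV' : IsAffineOpen (f ⁻¹ᵁ V) := hV.preimage f
    constructor
    · rw [injective_iff_map_eq_zero]
      intro x hx
      obtain ⟨t, z, rfl⟩ := exists_finite_sum (J := Opens.grothendieckTopology S.carrier)
        (fun i => (AMod.dirImg f).obj (F i))
        (hasFinSubcover_of_isCompact (T := S.carrier) V hV.isCompact) x
      rw [map_sum] at hx
      have h1 : ∑ i ∈ t, (Sigma.ι F i).val.app (op (f ⁻¹ᵁ V)) (z i) = 0 := by
        refine Eq.trans ?_ hx
        exact Finset.sum_congr rfl fun i _ => (key i V (z i)).symm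
      have h2 := eq_zero_of_sum_eq_zero (J := Opens.grothendieckTopology X.carrier) F (f ⁻¹ᵁ V) t z h1
      apply Finset.sum_eq_zero
      intro i hi
      have h3 : z i = 0 := h2 i hi
      rw [h3]
      exact map_zero _
    · intro y
      obtain ⟨t, z, rfl⟩ := exists_finite_sum (J := Opens.grothendieckTopology X.carrier) F
        (hasFinSubcover_of_isCompact (T := X.carrier) (f ⁻¹ᵁ V) hV'.isCompact) y
      refine ⟨∑ i ∈ t, (Sigma.ι (fun i => (AMod.dirImg f).obj (F i)) i).val.app (op V) (z i), ?_⟩
      rw [map_sum]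
      exact Finset.sum_congr rfl fun i _ => key i V (z i)

end sigma

end Groth.Agent.Lib.Helper18.DirImgColim
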