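import Mathlib
import Groth.Agent.Lib.Helper18DirImgQC
import Groth.Agent.Lib.Helper18DirImgColim
import Groth.Agent.Lib.Helper18DirImgSigma
import Groth.Agent.S0484

set_option autoImplicit false
set_option linter.style.haveILetI false
set_option linter.unusedSectionVars false
universe u
open CategoryTheory CategoryTheory.Limits AlgebraicGeometry Opposite TopologicalSpace

namespace Groth.Agent.Lib.Helper18.PushHomeo

open Groth.Agent.Lib.Helper18.DirImgColim Groth.Agent.Lib.Helper21.CoprodSec

section toSheaf
variable {C : Type u} [SmallCategory C] {J : GrothendieckTopology C} (R : Sheaf J RingCat.{u})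

lemma toSheaf_preservesFiniteColimits :
    PreservesFiniteColimits (SheafOfModules.toSheaf.{u} R) :=
  ⟨fun K _ _ => by
    haveI : PreservesColimitsOfShape (ULiftHom.{u} (ULift.{u} K)) (SheafOfModules.toSheaf.{u} R) :=
      Groth.Agent.S0484.preservesColimitsOfShape_toSheaf J R _
    exact preservesColimitsOfShape_of_equiv (ULiftHomULiftCategory.equiv.{u, u} K).symm _⟩

lemma toSheaf_preservesEpimorphisms : (SheafOfModules.toSheaf.{u} R).PreservesEpimorphisms := by
  haveI := toSheaf_preservesFiniteColimits R
  exact preservesEpimorphisms_of_preservesColimitsOfShape _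

end toSheaf

section locsurj
variable {T : TopCat.{u}} {R : Sheaf (Opens.grothendieckTopology T) RingCat.{u}}

/-- epimorphisms of sheaves of modules on a space are the locally surjective maps -/
lemma epi_iff_locSurj {A B : SheafOfModules.{u} R} (g : A ⟶ B) :
    Epi g ↔ ∀ (V : Opens T) (t : B.val.obj (op V)) (x : T), x ∈ V →
      ∃ (V' : Opens T) (h : V' ≤ V), (∃ s : A.val.obj (op V'),
        (g.val.app (op V')).hom s = (B.val.map (homOfLE h).op).hom t) ∧ x ∈ V' := by
  have h0 : Epi g ↔ Epi ((SheafOfModules.toSheaf.{u} R).map g) := by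
    constructor
    · intro _
      haveI := toSheaf_preservesEpimorphisms R
      infer_instance
    · intro _
      exact (SheafOfModules.toSheaf.{u} R).epi_of_epi_map inferInstance
  rw [h0]
  have h1 : TopCat.Presheaf.IsLocallySurjective ((SheafOfModules.toSheaf.{u} R).map g).hom ↔
      Epi ((SheafOfModules.toSheaf.{u} R).map g) :=
    TopCat.Sheaf.isLocallySurjective_iff_epi (X := T) ((SheafOfModules.toSheaf.{u} R).map g)
  exact h1.symm.trans (TopCat.Presheaf.isLocallySurjective_iff _)

end locsurj

end Groth.Agent.Lib.Helper18.PushHomeo
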