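import Mathlib
import Groth.Agent.Lib.Helper18PushHomeo1

set_option autoImplicit false
set_option linter.style.haveILetI false
set_option linter.unusedSectionVars false
universe u
open CategoryTheory CategoryTheory.Limits AlgebraicGeometry Opposite TopologicalSpace

namespace Groth.Agent.Lib.Helper18.PushHomeo

open Groth.Agent.Lib.Helper18.DirImgColim Groth.Agent.Lib.Helper21.CoprodSec

section homeo
variable {X Y : Scheme.{u}} (h : Y ⟶ X) (hh : IsHomeomorph h.base)

include hh in
lemma pushforward_map_epi {F G : Y.Modules} (v : F ⟶ G) [hvepi : Epi v] :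
    Epi ((Scheme.Modules.pushforward h).map v) := by
  have hv := (epi_iff_locSurj (T := Y.carrier) (R := Y.ringCatSheaf) (A := F) (B := G) v).1 hvepi
  refine (epi_iff_locSurj (T := X.carrier) (R := X.ringCatSheaf)
    (A := (Scheme.Modules.pushforward h).obj F) (B := (Scheme.Modules.pushforward h).obj G)
    ((Scheme.Modules.pushforward h).map v)).2 ?_
  intro V t x hx
  obtain ⟨y, rfl⟩ := hh.surjective x
  obtain ⟨W', hW'V, ⟨s, hs⟩, hyW'⟩ := hv (h ⁻¹ᵁ V) t y hx
  let W : X.Opens := ⟨h.base '' (W' : Set Y), hh.isOpenMap _ W'.2⟩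
  have hW : h ⁻¹ᵁ W ≤ W' := by
    intro z hz
    obtain ⟨z', hz', e⟩ := hz
    rw [← hh.injective e]; exact hz'
  have hWV : W ≤ V := by
    rintro _ ⟨z, hz, rfl⟩
    exact hW'V hz
  refine ⟨W, hWV, ⟨(F.val.map (homOfLE hW).op).hom s, ?_⟩, ⟨y, hyW', rfl⟩⟩
  have nat := PresheafOfModules.naturality_apply v.val (homOfLE hW).op s
  change (v.val.app (op (h ⁻¹ᵁ W))).hom ((F.val.map (homOfLE hW).op).hom s) =
    (G.val.map (homOfLE (h.preimage_mono hWV)).op).hom t
  refine nat.trans ?_
  have e2 : (G.val.map (homOfLE hW).op).hom ((G.val.map (homOfLE hW'V).op).hom t) =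
      (G.val.map (homOfLE (h.preimage_mono hWV)).op).hom t :=
    (PresheafOfModules.map_comp_apply G.val (homOfLE hW'V).op (homOfLE hW).op t).symm
  rw [← e2]
  exact congrArg _ hs

end homeo

end Groth.Agent.Lib.Helper18.PushHomeo
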