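import Mathlib
import Groth.Agent.Lib.Helper18PushHomeo2

set_option autoImplicit false
set_option linter.style.haveILetI false
set_option linter.unusedSectionVars false
universe u
open CategoryTheory CategoryTheory.Limits AlgebraicGeometry Opposite TopologicalSpace

namespace Groth.Agent.Lib.Helper18.PushHomeo

open Groth.Agent.Lib.Helper18.DirImgColim Groth.Agent.Lib.Helper21.CoprodSec

section sigma
variable {X Y : Scheme.{u}} (h : Y ⟶ X) [QuasiCompact h] {ι : Type u} (F : ι → Y.Modules)

/-- the direct image along a quasi-compact morphism commutes with direct sums (of arbitrary modules) -/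
theorem isIso_sigmaComparison_pushforward :
    IsIso (sigmaComparison (Scheme.Modules.pushforward h) F) := by
  classical
  have key : ∀ (i : ι) (V : X.Opens) (y : (F i).val.obj (op (h ⁻¹ᵁ V))),
      ((sigmaComparison (Scheme.Modules.pushforward h) F).val.app (op V)).hom
        (((Sigma.ι (fun i => (Scheme.Modules.pushforward h).obj (F i)) i).val.app (op V)).hom y) =
      ((Sigma.ι F i).val.app (op (h ⁻¹ᵁ V))).hom y := by
    intro i V y
    have h0 := ι_comp_sigmaComparison (Scheme.Modules.pushforward h) F i
    exact congrArg (fun φ : (Scheme.Modules.pushforward h).obj (F i) ⟶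
      (Scheme.Modules.pushforward h).obj (∐ F) => (φ.val.app (op V)).hom y) h0
  refine isIso_of_bijective_on_basis (T := X.carrier) (R := X.ringCatSheaf)
    (M := ∐ fun i => (Scheme.Modules.pushforward h).obj (F i))
    (N := (Scheme.Modules.pushforward h).obj (∐ F))
    (sigmaComparison (Scheme.Modules.pushforward h) F) (fun V : X.affineOpens => V.1) ?_ ?_
  · rw [Subtype.range_coe]
    exact X.isBasis_affineOpens
  · rintro ⟨V, hV⟩
    have hV' : IsCompact ((h ⁻¹ᵁ V : Y.Opens) : Set Y) := h.isCompact_preimage hV.isCompact
    constructor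
    · rw [injective_iff_map_eq_zero]
      intro x hx
      obtain ⟨t, z, rfl⟩ := exists_finite_sum (J := Opens.grothendieckTopology X.carrier)
        (R := X.ringCatSheaf)
        (fun i => (Scheme.Modules.pushforward h).obj (F i))
        (hasFinSubcover_of_isCompact (T := X.carrier) V hV.isCompact) x
      rw [map_sum] at hx
      have h1 : ∑ i ∈ t, (Sigma.ι F i).val.app (op (h ⁻¹ᵁ V)) (z i) = 0 := by
        refine Eq.trans ?_ hx
        exact Finset.sum_congr rfl fun i _ => (key i V (z i)).symm
      have h2 := eq_zero_of_sum_eq_zero (J := Opens.grothendieckTopology Y.carrier)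
        (R := Y.ringCatSheaf) F (h ⁻¹ᵁ V) t z h1
      apply Finset.sum_eq_zero
      intro i hi
      have h3 : z i = 0 := h2 i hi
      rw [h3]
      exact map_zero _
    · intro y
      obtain ⟨t, z, rfl⟩ := exists_finite_sum (J := Opens.grothendieckTopology Y.carrier)
        (R := Y.ringCatSheaf) F
        (hasFinSubcover_of_isCompact (T := Y.carrier) (h ⁻¹ᵁ V) hV') y
      refine ⟨∑ i ∈ t, (Sigma.ι (fun i => (Scheme.Modules.pushforward h).obj (F i)) i).val.app
        (op V) (z i), ?_⟩
      rw [map_sum]
      exact Finset.sum_congr rfl fun i _ => key i V (z i)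

end sigma

end Groth.Agent.Lib.Helper18.PushHomeo
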