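import Mathlib
import Groth.Agent.Lib.Helper18PushHomeo3

set_option autoImplicit false
set_option linter.style.haveILetI false
set_option linter.unusedSectionVars false
universe u
open CategoryTheory CategoryTheory.Limits AlgebraicGeometry Opposite TopologicalSpace

namespace Groth.Agent.Lib.Helper18.PushHomeo

section bot
variable {T : TopCat.{u}} {R : Sheaf (Opens.grothendieckTopology T) RingCat.{u}}

lemma subsingleton_of_eq_bot (G : SheafOfModules.{u} R) {W : Opens T} (h : W = ⊥) :
    Subsingleton (G.val.obj (op W)) := by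
  have hT : IsTerminal (((SheafOfModules.toSheaf.{u} R).obj G).obj.obj (op W)) :=
    TopCat.Sheaf.isTerminalOfEqEmpty (X := T) ((SheafOfModules.toSheaf.{u} R).obj G) h
  have hZ : IsZero (((SheafOfModules.toSheaf.{u} R).obj G).obj.obj (op W)) :=
    IsZero.of_iso (isZero_zero _) (hT.uniqueUpToIso HasZeroObject.zeroIsTerminal)
  exact AddCommGrpCat.subsingleton_of_isZero hZ

end bot

section closedEmb
variable {X Y : Scheme.{u}} (h : Y ⟶ X) (hh : Topology.IsClosedEmbedding h.base)

include hh in
lemma pushforward_map_epi_of_isClosedEmbedding {F G : Y.Modules} (v : F ⟶ G) [hvepi : Epi v] :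
    Epi ((Scheme.Modules.pushforward h).map v) := by
  have hv := (epi_iff_locSurj (T := Y.carrier) (R := Y.ringCatSheaf) (A := F) (B := G) v).1 hvepi
  refine (epi_iff_locSurj (T := X.carrier) (R := X.ringCatSheaf)
    (A := (Scheme.Modules.pushforward h).obj F) (B := (Scheme.Modules.pushforward h).obj G)
    ((Scheme.Modules.pushforward h).map v)).2 ?_
  intro V t x hx
  by_cases hxr : x ∈ Set.range h.base
  · obtain ⟨y, rfl⟩ := hxr
    obtain ⟨W', hW'V, ⟨s, hs⟩, hyW'⟩ := hv (h ⁻¹ᵁ V) t y hx
    obtain ⟨W₀, hW₀o, hW₀⟩ := (hh.isInducing.isOpen_iff).1 W'.2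
    let W : X.Opens := ⟨W₀, hW₀o⟩ ⊓ V
    have hW : h ⁻¹ᵁ W ≤ W' := by
      intro z hz
      have : z ∈ h.base ⁻¹' W₀ := hz.1
      rw [hW₀] at this
      exact this
    have hWV : W ≤ V := inf_le_right
    have hyW : h.base y ∈ W := by
      refine ⟨?_, hx⟩
      have : y ∈ h.base ⁻¹' W₀ := by rw [hW₀]; exact hyW'
      exact this
    refine ⟨W, hWV, ⟨(F.val.map (homOfLE hW).op).hom s, ?_⟩, hyW⟩
    have nat := PresheafOfModules.naturality_apply v.val (homOfLE hW).op s
    change (v.val.app (op (h ⁻¹ᵁ W))).hom ((F.val.map (homOfLE hW).op).hom s) =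
      (G.val.map (homOfLE (h.preimage_mono hWV)).op).hom t
    refine nat.trans ?_
    have e2 : (G.val.map (homOfLE hW).op).hom ((G.val.map (homOfLE hW'V).op).hom t) =
        (G.val.map (homOfLE (h.preimage_mono hWV)).op).hom t :=
      (PresheafOfModules.map_comp_apply G.val (homOfLE hW'V).op (homOfLE hW).op t).symm
    rw [← e2]
    exact congrArg _ hs
  · let W : X.Opens := V ⊓ ⟨(Set.range h.base)ᶜ, hh.isClosed_range.isOpen_compl⟩
    have hbot : h ⁻¹ᵁ W = ⊥ := by
      ext z
      simp only [Opens.coe_bot, Set.mem_empty_iff_false, iff_false]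
      intro hz
      exact hz.2 ⟨z, rfl⟩
    refine ⟨W, inf_le_left, ⟨0, ?_⟩, ⟨hx, hxr⟩⟩
    haveI := subsingleton_of_eq_bot (T := Y.carrier) (R := Y.ringCatSheaf) G hbot
    exact Subsingleton.elim (α := G.val.obj (op (h ⁻¹ᵁ W))) _ _

end closedEmb

section saft
variable {X Y : Scheme.{u}}

/-- special adjoint functor theorem for modules on schemes -/
theorem isLeftAdjoint_of_preservesColimits (G : Y.Modules ⥤ X.Modules)
    [PreservesColimitsOfSize.{u, u} G] : G.IsLeftAdjoint := by
  haveI hG : IsGrothendieckAbelian.{u} Y.Modules :=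
    Groth.Agent.S0484.result (Opens.grothendieckTopology Y) Y.ringCatSheaf
  exact isLeftAdjoint_of_preservesColimits_of_isSeparating (isSeparator_separator Y.Modules) G

end saft

section main
variable {X Y : Scheme.{u}} (h : Y ⟶ X) [IsClosedImmersion h]

theorem preservesColimits_pushforward_of_isClosedImmersion :
    PreservesColimitsOfSize.{u, u} (Scheme.Modules.pushforward h) := by
  haveI : (Scheme.Modules.pushforward h).PreservesEpimorphisms :=
    ⟨fun v _ => pushforward_map_epi_of_isClosedEmbedding h h.isClosedEmbedding v⟩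
  haveI : (Scheme.Modules.pushforward h).PreservesHomology :=
    Functor.preservesHomology_of_preservesEpis_and_kernels _
  haveI : PreservesFiniteColimits (Scheme.Modules.pushforward h) :=
    Functor.preservesFiniteColimits_of_preservesHomology _
  haveI : ∀ J : Type u, PreservesColimitsOfShape (Discrete J) (Scheme.Modules.pushforward h) := by
    intro J
    haveI : ∀ F : J → Y.Modules,
        PreservesColimit (Discrete.functor F) (Scheme.Modules.pushforward h) := by
      intro F
      haveI := isIso_sigmaComparison_pushforward h F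
      exact PreservesCoproduct.of_iso_comparison _ _
    exact preservesColimitsOfShape_of_discrete _
  exact preservesColimits_of_preservesCoequalizers_and_coproducts _

theorem isLeftAdjoint_pushforward_of_isClosedImmersion :
    (Scheme.Modules.pushforward h).IsLeftAdjoint := by
  haveI := preservesColimits_pushforward_of_isClosedImmersion h
  exact isLeftAdjoint_of_preservesColimits _

end main

end Groth.Agent.Lib.Helper18.PushHomeo
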