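import Groth.Agent.Lib.Helper17GammaA2
import Groth.Agent.Lib.Helper21DerAcyc
import Groth.Agent.Lib.Helper21DerPost
import Groth.Agent.Lib.Helper18PushHomeo5
import Groth.Agent.Lib.Helper16ClosedEmb

/-!
# Helper17: `R^n Γ(X, i_* G) ≅ R^n Γ(Z, G)` for a closed immersion `i : Z ⟶ X` (in `ModuleCat A`).
-/

set_option autoImplicit false
universe u
open CategoryTheory Limits AlgebraicGeometry Opposite

namespace Groth.Agent.Lib.Helper17.FinClosed

open Groth.Agent.Lib.Helper17.GammaA Groth.Agent.Lib.Helper21

local instance instEnoughInjectivesModules (X : Scheme.{u}) : EnoughInjectives X.Modules :=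
  Groth.Agent.Lib.Helper17.QCPush.enoughInjectives X

variable {A : Type u} [CommRing A] {Z X : Scheme.{u}}

/-- vanishing of `HH` gives vanishing of the derived functors of `Γ`. -/
theorem isZero_rightDerived_gammaA (f : X ⟶ Spec (CommRingCat.of A)) (M : X.Modules) (n : ℕ)
    (h : Subsingleton (Coh.HH X M n)) : IsZero (((gammaA f).rightDerived n).obj M) := by
  letI : X.Over (Spec (CommRingCat.of A)) := ⟨f⟩
  obtain ⟨e⟩ := nonempty_lb A n M
  haveI : Subsingleton (((gammaA f).rightDerived n).obj M) := e.toEquiv.subsingleton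
  exact ModuleCat.isZero_of_subsingleton _

/-- cohomology of the direct image along a closed immersion. -/
theorem subsingleton_HH_push_of_closedImmersion (i : Z ⟶ X) [IsClosedImmersion i]
    (G : Z.Modules) (n : ℕ) (h : Subsingleton (Coh.HH Z G n)) :
    Subsingleton (Coh.HH X ((Scheme.Modules.pushforward i).obj G) n) := by
  obtain ⟨e⟩ := Groth.Agent.Lib.Helper16.ClosedEmb.nonempty_H_push i.base i.isClosedEmbedding
    (Coh.toAb G) n
  exact e.symm.toEquiv.subsingleton

variable (i : Z ⟶ X) [IsClosedImmersion i] (f : X ⟶ Spec (CommRingCat.of A))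

theorem nonempty_rightDerived_gammaA_closedImmersion (G : Z.Modules) (n : ℕ) :
    Nonempty (((gammaA (i ≫ f)).rightDerived n).obj G ≅
      ((gammaA f).rightDerived n).obj ((Scheme.Modules.pushforward i).obj G)) := by
  haveI : (Scheme.Modules.pushforward i).PreservesEpimorphisms :=
    ⟨fun v _ => Groth.Agent.Lib.Helper18.PushHomeo.pushforward_map_epi_of_isClosedEmbedding i
      i.isClosedEmbedding v⟩
  haveI : (Scheme.Modules.pushforward i).PreservesHomology :=
    Functor.preservesHomology_of_preservesEpis_and_kernels _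
  have hE : ∀ I : Z.Modules, Injective I → ∀ q : ℕ, 0 < q →
      IsZero (((gammaA f).rightDerived q).obj ((Scheme.Modules.pushforward i).obj I)) := by
    intro I hI q hq
    obtain ⟨q, rfl⟩ : ∃ k, q = k + 1 := ⟨q - 1, by omega⟩
    exact isZero_rightDerived_gammaA f _ _
      (subsingleton_HH_push_of_closedImmersion i I (q + 1) (subsingleton_HH_injective I q))
  obtain ⟨e⟩ := DerAcyc.nonempty_rightDerived_comp_iso (Scheme.Modules.pushforward i) (gammaA f) hE
    G n
  let e0 : gammaA (i ≫ f) ≅ Scheme.Modules.pushforward i ⋙ gammaA f :=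
    Functor.isoWhiskerRight (Scheme.Modules.pushforwardComp i f).symm (gS A) ≪≫
      Functor.associator _ _ _
  exact ⟨(DerPost.natIsoRightDerived e0 n).app G ≪≫ e⟩

end Groth.Agent.Lib.Helper17.FinClosed
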