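import Mathlib
import Groth.Agent.Lib.Helper17FinClosed

/-!
# `H^n(Z, G) ≃ₗ[A] H^n(X, i_* G)` for a closed immersion `i : Z ⟶ X` over `Spec A` (helper27)

Assembled from helper17's linear bridge `R^n Γ ≃ₗ H^n` and `R^n Γ(X, i_* G) ≅ R^n Γ(Z, G)`.
-/

set_option autoImplicit false
universe u
open CategoryTheory Limits AlgebraicGeometry Opposite

namespace Groth.Agent.Lib.Helper27PushLin

open Groth.Agent.Lib.Helper17.GammaA Groth.Agent.Lib.Helper17.FinClosed

local instance instEnoughInjectivesModules' (X : Scheme.{u}) : EnoughInjectives X.Modules :=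
  Groth.Agent.Lib.Helper17.QCPush.enoughInjectives X

variable (A : Type u) [CommRing A] {Z X : Scheme.{u}} [Z.Over (Spec (CommRingCat.of A))]
  [X.Over (Spec (CommRingCat.of A))] (i : Z ⟶ X) [IsClosedImmersion i]

theorem nonempty_HH_push_linearEquiv
    (hi : i ≫ (X ↘ Spec (CommRingCat.of A)) = Z ↘ Spec (CommRingCat.of A)) (G : Z.Modules) (n : ℕ) :
    Nonempty (Coh.HH Z G n ≃ₗ[A] Coh.HH X ((Scheme.Modules.pushforward i).obj G) n) := by
  obtain ⟨e1⟩ := nonempty_lb A n G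
  obtain ⟨e3⟩ := nonempty_lb A n ((Scheme.Modules.pushforward i).obj G)
  obtain ⟨e2⟩ := nonempty_rightDerived_gammaA_closedImmersion i (X ↘ Spec (CommRingCat.of A)) G n
  rw [hi] at e2
  exact ⟨e1.symm ≪≫ₗ e2.toLinearEquiv ≪≫ₗ e3⟩

theorem finrank_HH_push {k : Type u} [Field k] {Z X : Scheme.{u}} [Z.Over (Spec (CommRingCat.of k))]
    [X.Over (Spec (CommRingCat.of k))] (i : Z ⟶ X) [IsClosedImmersion i]
    (hi : i ≫ (X ↘ Spec (CommRingCat.of k)) = Z ↘ Spec (CommRingCat.of k)) (G : Z.Modules) (n : ℕ) :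
    Module.finrank k (Coh.HH Z G n) =
      Module.finrank k (Coh.HH X ((Scheme.Modules.pushforward i).obj G) n) := by
  obtain ⟨e⟩ := nonempty_HH_push_linearEquiv k i hi G n
  exact e.finrank_eq

end Groth.Agent.Lib.Helper27PushLin
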