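import Mathlib
import Groth.Agent.Lib.Helper4CurveAsym
import Groth.Agent.Lib.Helper27ProjFormula
import Groth.Agent.Lib.Helper27PushLin
import Groth.Agent.Lib.Helper23InvDual
import Groth.Agent.Lib.Helper23PB

/-!
# Intersection number of an invertible module with a closed subscheme of dimension ≤ 1 (helper4, S7647)

`χ(X, O_Z ⊗ L^n) = n · deg(L|_Z) + χ(O_Z)` via the projection formula for a closed immersion, so the
linear coefficient of the polynomial computing `χ(X, O_Z ⊗ L^n)` is `deg(L|_Z)`.
-/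

set_option autoImplicit false
set_option linter.style.haveILetI false
universe u
open CategoryTheory CategoryTheory.Limits AlgebraicGeometry TopologicalSpace Opposite

namespace Groth.Agent.Lib.Helper4.CurveInt

theorem coeff_of_eval_linear (P : MvPolynomial (Fin 1) ℚ) (a b : ℚ)
    (h : ∀ n : Fin 1 → ℕ, MvPolynomial.eval (fun i => (n i : ℚ)) P = a * (n 0 : ℚ) + b) :
    MvPolynomial.coeff (Finsupp.equivFunOnFinite.symm fun _ : Fin 1 => 1) P = a := by
  have hP : P = MvPolynomial.C a * MvPolynomial.X 0 + MvPolynomial.C b := by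
    refine MvPolynomial.funext_set (fun _ => Set.range (Nat.cast : ℕ → ℚ))
      (fun _ => Set.infinite_range_of_injective Nat.cast_injective) ?_
    intro x hx
    have hx' : ∀ i, ∃ m : ℕ, (m : ℚ) = x i := fun i => hx i (Set.mem_univ i)
    choose m hm using hx'
    have hxe : x = fun i => (m i : ℚ) := funext fun i => (hm i).symm
    rw [hxe, h m]
    simp
  have hmono : (Finsupp.equivFunOnFinite.symm fun _ : Fin 1 => 1) = Finsupp.single (0 : Fin 1) 1 := by
    apply Finsupp.ext
    intro i
    fin_cases i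
    simp
  have hne : (0 : Fin 1 →₀ ℕ) ≠ Finsupp.single (0 : Fin 1) 1 := by
    intro h0
    have := congrArg (fun f => f 0) h0
    simp at this
  rw [hmono, hP, MvPolynomial.coeff_add, MvPolynomial.coeff_C_mul, MvPolynomial.coeff_X, MvPolynomial.coeff_C,
    if_neg hne]
  simp

section Main

variable (k : Type u) [Field k] (X : Scheme.{u}) [X.Over (Spec (CommRingCat.of k))]

/-- the Euler characteristic is preserved by pushforward along a closed immersion -/
theorem euler_push {Z : Scheme.{u}} [Z.Over (Spec (CommRingCat.of k))] (i : Z ⟶ X) [IsClosedImmersion i]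
    (hi : i ≫ (X ↘ Spec (CommRingCat.of k)) = Z ↘ Spec (CommRingCat.of k)) (G : Z.Modules) :
    Curv2.euler k Z G = Curv2.euler k X ((Scheme.Modules.pushforward i).obj G) := by
  unfold Curv2.euler
  refine finsum_congr fun n => ?_
  rw [Groth.Agent.Lib.Helper27PushLin.finrank_HH_push i hi G n]

variable [IsProper (X ↘ (Spec (CommRingCat.of k)))]

theorem euler_quotMod_tensorPow (D : X.IdealSheafData)
    (hD : topologicalKrullDim (D.support : Set X) ≤ 1)
    (L : X.Modules) (hL : PicF.IsInvertible L) (m : ℕ) :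
    Curv2.euler k X (CohB1.tensorMod (ClSub.quotMod D) (CohB1.tensorPow L m)) =
      m * @Curv2.deg k _ D.subscheme ⟨D.subschemeι ≫ (X ↘ (Spec (CommRingCat.of k)))⟩
        ((Scheme.Modules.pullback D.subschemeι).obj L) 1 +
      @Curv2.euler k _ D.subscheme ⟨D.subschemeι ≫ (X ↘ (Spec (CommRingCat.of k)))⟩
        (Coh.structureModule D.subscheme) := by
  letI : D.subscheme.Over (Spec (CommRingCat.of k)) :=
    ⟨D.subschemeι ≫ (X ↘ (Spec (CommRingCat.of k)))⟩
  haveI : IsProper (D.subscheme ↘ (Spec (CommRingCat.of k))) := by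
    change IsProper (D.subschemeι ≫ (X ↘ (Spec (CommRingCat.of k))))
    infer_instance
  have hdimZ : topologicalKrullDim D.subscheme ≤ 1 := hD
  have hLm := Groth.Agent.Lib.Helper23.SecTw.isInvertible_tensorPow hL m
  obtain ⟨e⟩ := Groth.Agent.Lib.Helper23.InvDual.nonempty_tensorMod_dual_iso (CohB1.tensorPow L m) hLm
  let e' : CohB1.tensorMod (RefHull.dual (CohB1.tensorPow L m)) (CohB1.tensorPow L m) ≅
      Coh.structureModule X :=
    Groth.Agent.Lib.Helper23.AmpleFam2.tensorBraid _ _ ≪≫ e
  have p := Groth.Agent.Lib.Helper27ProjFormula.projIsoR D.subschemeι (CohB1.tensorPow L m)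
    (RefHull.dual (CohB1.tensorPow L m)) e e' (Coh.structureModule D.subscheme)
  obtain ⟨Φ⟩ := Groth.Agent.Lib.Helper23.PB.nonempty_pullback_tensorPow_iso D.subschemeι L hL m
  have h1 : Curv2.euler k X (CohB1.tensorMod (ClSub.quotMod D) (CohB1.tensorPow L m)) =
      Curv2.euler k D.subscheme (CohB1.tensorPow ((Scheme.Modules.pullback D.subschemeι).obj L) m) := by
    rw [← Groth.Agent.Lib.Helper4.CurveChi.euler_congr_iso k p, ← euler_push k X D.subschemeι rfl]
    exact Groth.Agent.Lib.Helper4.CurveChi.euler_congr_iso k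
      (Groth.Agent.Lib.Helper23.TensorUnit.unitTensorIso _ ≪≫ Φ)
  have hdeg := Groth.Agent.Lib.Helper4.CurveAsym.deg_tensorPow k D.subscheme hdimZ
    ((Scheme.Modules.pullback D.subschemeι).obj L)
    (Groth.Agent.Lib.Helper23.PB.isInvertible_pullback D.subschemeι L hL) m
  rw [h1]
  unfold Curv2.deg at hdeg ⊢
  push_cast at hdeg ⊢
  linarith

/-- **S7647** -/
theorem main (D : X.IdealSheafData) (hD : topologicalKrullDim (D.support : Set X) ≤ 1)
    (L : X.Modules) (hL : PicF.IsInvertible L) (P : MvPolynomial (Fin 1) ℚ)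
    (hP : ∀ n : Fin 1 → ℕ, (Curv2.euler k X (Curv2.tensorPows (ClSub.quotMod D) 1 (fun _ => L) n) : ℚ) =
      MvPolynomial.eval (fun i => (n i : ℚ)) P) :
    MvPolynomial.coeff (Finsupp.equivFunOnFinite.symm fun _ : Fin 1 => 1) P =
      (@Curv2.deg k _ D.subscheme ⟨D.subschemeι ≫ (X ↘ (Spec (CommRingCat.of k)))⟩
        ((Scheme.Modules.pullback D.subschemeι).obj L) 1 : ℚ) := by
  refine coeff_of_eval_linear P _
    ((@Curv2.euler k _ D.subscheme ⟨D.subschemeι ≫ (X ↘ (Spec (CommRingCat.of k)))⟩
        (Coh.structureModule D.subscheme) : ℤ) : ℚ) (fun n => ?_)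
  rw [← hP n]
  have h := euler_quotMod_tensorPow k X D hD L hL (n 0)
  change ((Curv2.euler k X (CohB1.tensorMod (ClSub.quotMod D) (CohB1.tensorPow L (n 0))) : ℤ) : ℚ) = _
  rw [h]
  push_cast
  ring

end Main

end Groth.Agent.Lib.Helper4.CurveInt
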