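import Mathlib
import Groth.Agent.Lib.Helper12PosA
import Groth.Agent.Lib.Helper12PosB
import Groth.Agent.Lib.Helper12SnapD
import Groth.Agent.Lib.Helper6DegZero
import Groth.Agent.Lib.Helper4CurveInt
import Groth.Agent.Lib.Helper27ProjFormula
import Groth.Agent.Lib.Helper23InvDual
import Groth.Agent.S0002
import Groth.Agent.S0458
import Groth.Agent.Lib.Helper4ZeroDimChi
set_option backward.isDefEq.respectTransparency.types false

/-!
# Sections of ample modules, twists and pushforward for `dchi` (helper12) — positivity of intersection numbers, part C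

* `not_isAffine_of_dim_pos`: an irreducible proper `k`-scheme of positive dimension is not affine.
* `exists_section_vanishing`: on an integral proper `k`-scheme of positive dimension, some positive power of an ample
  module has a nonzero section vanishing at a closed point.
* `dchi_twist_eq`, `dchi_tensorPow`: twist invariance of the top iterated difference and the telescoping formula
  `dchi l (L^n) = dchi l O - n * dchi (L :: l) O`.
* `dchi_push`: projection formula for `dchi` along a closed immersion.
* `euler_structureModule_pos`: `χ(O_Z) > 0` for a nonempty proper `k`-scheme of dimension `≤ 0`.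
-/

set_option autoImplicit false
set_option linter.style.haveILetI false
set_option linter.unusedSectionVars false
universe u
open CategoryTheory CategoryTheory.Limits AlgebraicGeometry TopologicalSpace Opposite

namespace Groth.Agent.Lib.Helper12.Pos

open Groth.Agent.Lib.Helper4.Dev Groth.Agent.Lib.Helper4.CurveChi Groth.Agent.Lib.Helper4.KFilt
  Groth.Agent.Lib.Helper12.Snap Groth.Agent.Lib.Helper23.GenLocus

variable (k : Type u) [Field k] (X : Scheme.{u}) [X.Over (Spec (CommRingCat.of k))]
  [IsProper (X ↘ (Spec (CommRingCat.of k)))]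

include k in
theorem not_isAffine_of_dim_pos [IrreducibleSpace X] (r : ℕ)
    (hdim : topologicalKrullDim X = ((r + 1 : ℕ) : WithBot ℕ∞)) : ¬ IsAffine X := by
  intro hA
  haveI : IsAffineHom (X ↘ (Spec (CommRingCat.of k))) := inferInstance
  have hfin : IsFinite (X ↘ (Spec (CommRingCat.of k))) :=
    IsFinite.iff_isProper_and_isAffineHom.2 ⟨inferInstance, inferInstance⟩
  obtain ⟨-, hF⟩ := (HasAffineProperty.iff_of_isAffine (P := @IsFinite)).mp hfin
  letI : Algebra Γ(Spec (CommRingCat.of k), ⊤) Γ(X, ⊤) :=
    ((X ↘ (Spec (CommRingCat.of k))).appTop).hom.toAlgebra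
  haveI : Module.Finite Γ(Spec (CommRingCat.of k), ⊤) Γ(X, ⊤) := hF
  haveI : IsArtinianRing Γ(Spec (CommRingCat.of k), ⊤) :=
    (Scheme.ΓSpecIso (CommRingCat.of k)).commRingCatIsoToRingEquiv.symm.isArtinianRing
  haveI : IsArtinianRing Γ(X, ⊤) := IsArtinianRing.of_finite Γ(Spec (CommRingCat.of k), ⊤) Γ(X, ⊤)
  have h0 : ringKrullDim Γ(X, ⊤) ≤ 0 := by
    have : Ring.KrullDimLE 0 Γ(X, ⊤) := inferInstance
    exact_mod_cast Ring.krullDimLE_iff.1 this
  obtain ⟨x⟩ : Nonempty X := inferInstance
  rw [ringKrullDim_sections_eq_dim k X (isAffineOpen_top X) ⟨x, trivial⟩, hdim] at h0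
  exact absurd ((lt_succ_iff_le _ r).2 (le_refl _)) (not_lt.2 (h0.trans (by exact_mod_cast Nat.zero_le r)))

include k in
theorem exists_section_vanishing [IsIntegral X] (r : ℕ)
    (hdim : topologicalKrullDim X = ((r + 1 : ℕ) : WithBot ℕ∞)) (L : X.Modules) (hL : CohB1.IsAmple L) :
    ∃ (n : ℕ) (s : Coh.structureModule X ⟶ CohB1.tensorPow L (n + 1)) (y : X),
      s ≠ 0 ∧ IsClosed ({y} : Set X) ∧ y ∉ CohB1.genLocus _ s := by
  obtain ⟨x⟩ : Nonempty X := inferInstance
  haveI : CompactSpace X := hL.2.1
  obtain ⟨n, s, hxs, haff⟩ := hL.2.2 x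
  have hs : s ≠ 0 := by
    rintro rfl
    rw [Groth.Agent.Lib.Helper6.DegZero.genLocus_zero] at hxs
    exact hxs
  have hne : ((CohB1.genLocus _ s : Set X)ᶜ).Nonempty := by
    by_contra hemp
    rw [Set.not_nonempty_iff_eq_empty, Set.compl_empty_iff] at hemp
    have htop : CohB1.genLocus _ s = ⊤ := by
      ext z
      simp only [TopologicalSpace.Opens.coe_top, hemp]
    rw [htop] at haff
    haveI : IsAffine (⊤ : X.Opens).toScheme := haff
    exact not_isAffine_of_dim_pos k X r hdim (IsAffine.of_isIso (Scheme.topIso X).inv)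
  obtain ⟨y, hy, hyc⟩ := IsClosed.exists_closed_singleton
    (CohB1.genLocus _ s).isOpen.isClosed_compl hne
  exact ⟨n, s, y, hs, hyc, hy⟩

/-- twist invariance of the top iterated difference -/
theorem dchi_twist_eq (L : X.Modules) (hL : PicF.IsInvertible L) (l : List X.Modules)
    (hl : ∀ M ∈ l, PicF.IsInvertible M) (G : X.Modules) (hG : Coh.IsCoh G)
    (hdim : topologicalKrullDim ↥(CohB1.support G) < ((l.length + 2 : ℕ) : WithBot ℕ∞)) :
    dchi k X (L :: l) (CohB1.tensorMod G L) = dchi k X (L :: l) G := by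
  have h0 : dchi k X (L :: L :: l) G = 0 := by
    refine dchi_eq_zero k X (L :: L :: l) ?_ G hG ?_
    · intro N hN
      rcases List.mem_cons.1 hN with rfl | hN
      · exact hL
      · rcases List.mem_cons.1 hN with rfl | hN
        · exact hL
        · exact hl N hN
    · rw [List.length_cons, List.length_cons]
      exact hdim
  rw [dchi_cons] at h0
  omega

/-- telescoping: `dchi l (L^n) = dchi l O - n * dchi (L :: l) O` when `dim X ≤ length l + 1` -/
theorem dchi_tensorPow (L : X.Modules) (hL : PicF.IsInvertible L) (l : List X.Modules)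
    (hl : ∀ M ∈ l, PicF.IsInvertible M)
    (hdim : topologicalKrullDim X < ((l.length + 2 : ℕ) : WithBot ℕ∞)) (n : ℕ) :
    dchi k X l (CohB1.tensorPow L n) =
      dchi k X l (Coh.structureModule X) - n * dchi k X (L :: l) (Coh.structureModule X) ∧
    dchi k X (L :: l) (CohB1.tensorPow L n) = dchi k X (L :: l) (Coh.structureModule X) := by
  haveI : IsNoetherian X := Groth.Agent.Lib.Helper4.CurveRR.isNoetherian_of_proper k X
  haveI : IsLocallyNoetherian X := inferInstance
  have hsub : ∀ G : X.Modules, topologicalKrullDim ↥(CohB1.support G) <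
      ((l.length + 2 : ℕ) : WithBot ℕ∞) := fun G =>
    lt_of_le_of_lt (topologicalKrullDim_subspace_le _ _) hdim
  induction n with
  | zero =>
    refine ⟨?_, rfl⟩
    change dchi k X l (Coh.structureModule X) = _
    simp
  | succ n ih =>
    have hcn : Coh.IsCoh (CohB1.tensorPow L n) :=
      Groth.Agent.Lib.Helper6.CurveDeg.isCoh_of_isInvertible _
        (Groth.Agent.Lib.Helper23.SecTw.isInvertible_tensorPow hL n)
    have h1 : dchi k X (L :: l) (CohB1.tensorPow L n) =
        dchi k X l (CohB1.tensorPow L n) - dchi k X l (CohB1.tensorPow L (n + 1)) := dchi_cons k X L l _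
    have h2 : dchi k X (L :: l) (CohB1.tensorPow L (n + 1)) = dchi k X (L :: l) (CohB1.tensorPow L n) :=
      dchi_twist_eq k X L hL l hl _ hcn (hsub _)
    refine ⟨?_, by rw [h2, ih.2]⟩
    rw [ih.2] at h1
    rw [ih.1] at h1
    push_cast
    linarith

section Push

variable {Z : Scheme.{u}} [Z.Over (Spec (CommRingCat.of k))] [IsProper (Z ↘ (Spec (CommRingCat.of k)))]
  (ι : Z ⟶ X) [IsClosedImmersion ι]
  (hι : ι ≫ (X ↘ Spec (CommRingCat.of k)) = Z ↘ Spec (CommRingCat.of k))

include hι in
/-- the projection formula for `dchi` along a closed immersion -/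
theorem dchi_push : ∀ (l : List X.Modules) (_ : ∀ M ∈ l, PicF.IsInvertible M) (G : Z.Modules),
    dchi k X l ((Scheme.Modules.pushforward ι).obj G) =
      dchi k Z (l.map (Scheme.Modules.pullback ι).obj) G := by
  intro l
  induction l with
  | nil =>
    intro _ G
    exact (Groth.Agent.Lib.Helper4.CurveInt.euler_push k X ι hι G).symm
  | cons M l ih =>
    intro hl G
    have hM : PicF.IsInvertible M := hl M List.mem_cons_self
    have hl' : ∀ N ∈ l, PicF.IsInvertible N := fun N hN => hl N (List.mem_cons_of_mem _ hN)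
    obtain ⟨e⟩ := Groth.Agent.Lib.Helper23.InvDual.nonempty_tensorMod_dual_iso M hM
    let e' : CohB1.tensorMod (RefHull.dual M) M ≅ Coh.structureModule X :=
      Groth.Agent.Lib.Helper23.AmpleFam2.tensorBraid _ _ ≪≫ e
    have p := Groth.Agent.Lib.Helper27ProjFormula.projIsoR ι M (RefHull.dual M) e e' G
    rw [List.map_cons, dchi_cons, dchi_cons, ih hl' G, ← (isAdd_dchi k X l hl').iso p, ih hl']

end Push

section Closure

variable {X}

theorem dim_ptIdeal_subscheme (ξ : X) :
    topologicalKrullDim ↥(IntMult.ptIdeal ξ).subscheme = topologicalKrullDim ↥(closure ({ξ} : Set X)) := by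
  have hemb : Topology.IsEmbedding ⇑(IntMult.ptIdeal ξ).subschemeι :=
    ((IntMult.ptIdeal ξ).subschemeι.isClosedEmbedding).isEmbedding
  rw [← ptIdeal_range ξ]
  exact IsHomeomorph.topologicalKrullDim_eq _ hemb.toHomeomorph.isHomeomorph

end Closure

/-- `χ(O_X) > 0` on a nonempty proper `k`-scheme of dimension `≤ 0` -/
theorem euler_structureModule_pos [Nonempty X] (hd : topologicalKrullDim X ≤ ((0 : ℕ) : WithBot ℕ∞)) :
    0 < Curv2.euler k X (Coh.structureModule X) := by
  haveI : IsNoetherian X := Groth.Agent.Lib.Helper4.CurveRR.isNoetherian_of_proper k X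
  haveI : IsLocallyNoetherian X := inferInstance
  have hvan : ∀ p, 0 < p → Subsingleton (Coh.HH X (Coh.structureModule X) p) := fun p hp =>
    Groth.Agent.S0458.result (X := X.carrier) 0 hd (Coh.toAb (Coh.structureModule X)) p (by omega)
  rw [Groth.Agent.Lib.Helper4.ZeroDimChi.euler_eq_finrank_zero k _ hvan]
  haveI : Module.Finite k (Coh.HH X (Coh.structureModule X) 0) :=
    Groth.Agent.S0002.result k X _ (isCoh_structureModule X) 0
  have hnt : Nontrivial Γ(X, ⊤) := by
    obtain ⟨x⟩ := (inferInstance : Nonempty X)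
    haveI : Nonempty (⊤ : X.Opens) := ⟨⟨x, trivial⟩⟩
    infer_instance
  haveI : Nontrivial ↑((Coh.toAb (Coh.structureModule X)).obj.obj (op ⊤)) := hnt
  haveI : Nontrivial (Coh.HH X (Coh.structureModule X) 0) :=
    (Sheaf.H.equiv₀ (Coh.toAb (Coh.structureModule X)) Limits.isTerminalTop).toEquiv.nontrivial
  exact_mod_cast Module.finrank_pos (R := k) (M := Coh.HH X (Coh.structureModule X) 0)

end Groth.Agent.Lib.Helper12.Pos
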