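import Mathlib
import Groth.Agent.Lib.Helper12PosC
import Groth.Agent.S9815
set_option backward.isDefEq.respectTransparency.types false

/-!
# Positivity of intersection numbers of ample modules (helper12) — part D

* `pos_main`: `X` proper over a field, `l` a list of `r` ample invertible modules, `F` coherent with
  `dim Supp F = r`: then `0 < (-1)^r * dchi l F` (`dchi` = iterated difference of the Euler characteristic).
-/

set_option autoImplicit false
set_option linter.style.haveILetI false
set_option linter.unusedSectionVars false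
universe u
open CategoryTheory CategoryTheory.Limits AlgebraicGeometry TopologicalSpace Opposite

namespace Groth.Agent.Lib.Helper12.Pos

open Groth.Agent.Lib.Helper4.Dev Groth.Agent.Lib.Helper4.CurveChi Groth.Agent.Lib.Helper4.KFilt
  Groth.Agent.Lib.Helper12.Snap Groth.Agent.Lib.Helper23.GenLocus

variable (k : Type u) [Field k]

/-- the positivity statement in dimension `r` -/
def PosAt (r : ℕ) : Prop :=
  ∀ (X : Scheme.{u}) [X.Over (Spec (CommRingCat.of k))] [IsProper (X ↘ (Spec (CommRingCat.of k)))]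
    (l : List X.Modules), (∀ M ∈ l, CohB1.IsAmple M) → l.length = r →
    ∀ (F : X.Modules), Coh.IsCoh F → topologicalKrullDim ↥(CohB1.support F) = (r : WithBot ℕ∞) →
    0 < (-1 : ℤ) ^ r * dchi k X l F

/-- the positivity statement for the structure sheaf of an integral scheme of dimension `r` -/
def PosIntAt (r : ℕ) : Prop :=
  ∀ (Z : Scheme.{u}) [Z.Over (Spec (CommRingCat.of k))] [IsProper (Z ↘ (Spec (CommRingCat.of k)))]
    [IsIntegral Z] (l : List Z.Modules), (∀ M ∈ l, CohB1.IsAmple M) → l.length = r →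
    topologicalKrullDim Z = (r : WithBot ℕ∞) →
    0 < (-1 : ℤ) ^ r * dchi k Z l (Coh.structureModule Z)

theorem posAt_of_posIntAt (r : ℕ) (hint : PosIntAt k r) : PosAt k r := by
  intro X _ _ l hl hlen F hF hdim
  haveI : IsNoetherian X := Groth.Agent.Lib.Helper4.CurveRR.isNoetherian_of_proper k X
  haveI : IsLocallyNoetherian X := inferInstance
  have hlinv : ∀ M ∈ l, PicF.IsInvertible M := fun M hM => (hl M hM).1
  have hd := isAdd_dchi k X l hlinv
  have hφ : IsAdd (fun G => (-1 : ℤ) ^ r * dchi k X l G) :=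
    { iso := fun e => by rw [hd.iso e]
      add := fun S hS h1 h2 h3 => by
        change (-1 : ℤ) ^ r * dchi k X l S.X₂ = (-1 : ℤ) ^ r * dchi k X l S.X₁ + (-1 : ℤ) ^ r * dchi k X l S.X₃
        rw [hd.add S hS h1 h2 h3, mul_add] }
  refine pos_of_pos_on_points hφ r ?_ ?_ F hF hdim
  · intro G hG hGdim
    change (-1 : ℤ) ^ r * dchi k X l G = 0
    rw [dchi_eq_zero k X l hlinv G hG (by rw [hlen]; exact hGdim), mul_zero]
  · intro ξ hξ
    change 0 < (-1 : ℤ) ^ r * dchi k X l (Cyc.closureStructureSheaf ξ)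
    set I := IntMult.ptIdeal ξ with hI
    letI : I.subscheme.Over (Spec (CommRingCat.of k)) := ⟨I.subschemeι ≫ (X ↘ (Spec (CommRingCat.of k)))⟩
    haveI : IsProper (I.subscheme ↘ (Spec (CommRingCat.of k))) := by
      change IsProper (I.subschemeι ≫ (X ↘ (Spec (CommRingCat.of k))))
      infer_instance
    have hpush := dchi_push k X I.subschemeι rfl l hlinv (Coh.structureModule I.subscheme)
    change 0 < (-1 : ℤ) ^ r * dchi k X l ((Scheme.Modules.pushforward I.subschemeι).obj (Coh.structureModule I.subscheme))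
    rw [hpush]
    haveI : CompactSpace ↥I.subscheme := by
      have : QuasiCompact (I.subscheme ↘ (Spec (CommRingCat.of k))) := inferInstance
      exact (quasiCompact_iff_compactSpace (I.subscheme ↘ (Spec (CommRingCat.of k)))).1 this
    refine hint I.subscheme (l.map (Scheme.Modules.pullback I.subschemeι).obj) ?_ ?_ ?_
    · intro M hM
      obtain ⟨M', hM', rfl⟩ := List.mem_map.1 hM
      exact Groth.Agent.S9815.result I.subschemeι (I.subschemeι.isClosedEmbedding).isEmbedding M' (hl M' hM')
    · rw [List.length_map, hlen]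
    · rw [dim_ptIdeal_subscheme ξ, hξ]

theorem posIntAt_zero : PosIntAt k 0 := by
  intro Z _ _ _ l hl hlen hdim
  rw [List.length_eq_zero_iff.1 hlen, pow_zero, one_mul, dchi_nil]
  exact euler_structureModule_pos k Z hdim.le

theorem posIntAt_succ (r : ℕ) (ih : PosAt k r) : PosIntAt k (r + 1) := by
  intro Z _ _ _ l hl hlen hdim
  haveI : IsNoetherian Z := Groth.Agent.Lib.Helper4.CurveRR.isNoetherian_of_proper k Z
  haveI : IsLocallyNoetherian Z := inferInstance
  obtain ⟨L, l', rfl⟩ := List.exists_cons_of_length_eq_add_one hlen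
  have hlen' : l'.length = r := by simpa using hlen
  have hL : CohB1.IsAmple L := hl L List.mem_cons_self
  have hl' : ∀ M ∈ l', CohB1.IsAmple M := fun M hM => hl M (List.mem_cons_of_mem _ hM)
  have hl'inv : ∀ M ∈ l', PicF.IsInvertible M := fun M hM => (hl' M hM).1
  obtain ⟨n, s, y, hs, hyc, hy⟩ := exists_section_vanishing k Z r hdim L hL
  have hNinv : PicF.IsInvertible (CohB1.tensorPow L (n + 1)) := Groth.Agent.Lib.Helper23.SecTw.isInvertible_tensorPow hL.1 (n + 1)
  have hO := Groth.Agent.Lib.Helper23.TensorUnit.isInvertible_structureModule Z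
  haveI : Mono s := Groth.Agent.Lib.Helper6.CurveDeg.mono_of_ne_zero hO hNinv s hs
  have cO := isCoh_structureModule Z
  have cN := Groth.Agent.Lib.Helper6.CurveDeg.isCoh_of_isInvertible _ hNinv
  have cQ : Coh.IsCoh (cokernel s) := isCoh_cokernel s cO cN
  have hQdim := dim_support_cokernel_eq k Z r hdim _ hNinv s hs y hyc hy
  have hpos := ih Z l' hl' hlen' (cokernel s) cQ hQdim
  have hadd := (isAdd_dchi k Z l' hl'inv).add (sesOfMono s) (sesOfMono_shortExact s) cO cN cQ
  change dchi k Z l' (CohB1.tensorPow L (n + 1)) = dchi k Z l' (Coh.structureModule Z) + dchi k Z l' (cokernel s) at hadd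
  have hdimlt : topologicalKrullDim Z < ((l'.length + 2 : ℕ) : WithBot ℕ∞) := by
    rw [hlen', hdim]
    exact (lt_succ_iff_le _ (r + 1)).2 le_rfl
  have htel := (dchi_tensorPow k Z L hL.1 l' hl'inv hdimlt (n + 1)).1
  have hQ : dchi k Z l' (cokernel s) = -((n + 1 : ℕ) : ℤ) * dchi k Z (L :: l') (Coh.structureModule Z) := by
    linarith
  rw [hQ] at hpos
  have h2 : (-1 : ℤ) ^ r * (-((n + 1 : ℕ) : ℤ) * dchi k Z (L :: l') (Coh.structureModule Z)) =
      ((n + 1 : ℕ) : ℤ) * ((-1 : ℤ) ^ (r + 1) * dchi k Z (L :: l') (Coh.structureModule Z)) := by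
    rw [pow_succ]
    ring
  rw [h2] at hpos
  exact (mul_pos_iff_of_pos_left (by exact_mod_cast Nat.succ_pos n)).1 hpos

theorem posAt : ∀ r : ℕ, PosAt k r := by
  intro r
  induction r with
  | zero => exact posAt_of_posIntAt k 0 (posIntAt_zero k)
  | succ r ih => exact posAt_of_posIntAt k (r + 1) (posIntAt_succ k r ih)

/-- **Positivity of intersection numbers of ample modules.** -/
theorem pos_main (X : Scheme.{u}) [X.Over (Spec (CommRingCat.of k))]
    [IsProper (X ↘ (Spec (CommRingCat.of k)))] (r : ℕ) (l : List X.Modules)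
    (hl : ∀ M ∈ l, CohB1.IsAmple M) (hlen : l.length = r) (F : X.Modules) (hF : Coh.IsCoh F)
    (hdim : topologicalKrullDim ↥(CohB1.support F) = (r : WithBot ℕ∞)) :
    0 < (-1 : ℤ) ^ r * dchi k X l F :=
  posAt k r X l hl hlen F hF hdim

end Groth.Agent.Lib.Helper12.Pos
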