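import Mathlib
import Groth.Agent.Lib.Helper12SnapK
import Groth.Agent.Lib.Helper4CurveInt
import Groth.Agent.Lib.Helper4KFilt2
import Groth.Agent.Lib.Helper23InvDual
import Groth.Agent.Lib.Helper27ProjFormula

/-!
# Snapper's theorem for `Curv2.tensorPows` and the top-dimensional part of `χ(F ⊗ L^n)` (helper12) — part E

* `tensorPows_iso`: `Curv2.tensorPows F r L n ≅ F ⊗ FGA.multiTwist L n`.
* `snapper_tensorPows`: `n ↦ χ(tensorPows F r L n)` is a polynomial of total degree `≤ dim Supp F`.
* `isAdd_tensorPows`, `vanish_lift_lowSub`: on `lowSub d ⊆ K₀(Coh X)` the function `n ↦ χ(x ⊗ L^n)` has vanishing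
  `d`-fold differences.
* `push_tensorPows`: projection formula `ι_*(tensorPows G r (ι^*L) n) ≅ tensorPows (ι_* G) r L n`.
* `top_part`: `χ(F ⊗ L^n) - Σ_ξ length(F_ξ) χ(Z_ξ, L^n|Z_ξ)` is a polynomial with monomials of degree `< d`.
-/

set_option autoImplicit false
set_option linter.style.haveILetI false
set_option linter.unusedSectionVars false
universe u
open CategoryTheory CategoryTheory.Limits AlgebraicGeometry TopologicalSpace Opposite

namespace Groth.Agent.Lib.Helper12.Snap

open Groth.Agent.Lib.Helper4.Dev Groth.Agent.Lib.Helper4.CurveChi Groth.Agent.Lib.Helper4.KFilt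
  Groth.Agent.Lib.Helper4.KTensor Groth.Agent.Lib.Helper17.K0a

section Iso

variable {X : Scheme.{u}}

theorem tensorList_append_singleton (l : List X.Modules) (P : X.Modules) :
    Nonempty (FGA.tensorList (l ++ [P]) ≅ CohB1.tensorMod (FGA.tensorList l) P) := by
  induction l with
  | nil =>
    exact ⟨Groth.Agent.Lib.Helper23.AmpleFam2.tensorBraid P (Coh.structureModule X)⟩
  | cons M l ih =>
    obtain ⟨e⟩ := tensor_congr_left M ih
    exact ⟨e ≪≫ (Groth.Agent.Lib.Helper23.LocGen.tensorAssoc M (FGA.tensorList l) P).symm⟩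

theorem multiTwist_last {r : ℕ} (L : Fin (r + 1) → X.Modules) (n : Fin (r + 1) → ℕ) :
    Nonempty (FGA.multiTwist L n ≅
      CohB1.tensorMod (FGA.multiTwist (fun i => L i.castSucc) (fun i => n i.castSucc))
        (CohB1.tensorPow (L (Fin.last r)) (n (Fin.last r)))) := by
  unfold FGA.multiTwist
  rw [List.finRange_succ_last, List.map_append, List.map_map, List.map_singleton]
  exact tensorList_append_singleton _ _

theorem tensorPows_iso (F : X.Modules) : ∀ (r : ℕ) (L : Fin r → X.Modules) (n : Fin r → ℕ),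
    Nonempty (Curv2.tensorPows F r L n ≅ CohB1.tensorMod F (FGA.multiTwist L n)) := by
  intro r
  induction r with
  | zero =>
    intro L n
    exact ⟨(Groth.Agent.Lib.Helper23.TensorUnit.tensorUnitIso F).symm⟩
  | succ r ih =>
    intro L n
    obtain ⟨e1⟩ := ih (fun i => L i.castSucc) (fun i => n i.castSucc)
    obtain ⟨e2⟩ := multiTwist_last L n
    obtain ⟨e3⟩ := tensor_congr_left F ⟨e2.symm⟩
    exact ⟨(DCoh.tensorRightMod _).mapIso e1 ≪≫
      Groth.Agent.Lib.Helper23.LocGen.tensorAssoc F _ _ ≪≫ e3⟩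

theorem tensorPows_iso' (F : X.Modules) (r : ℕ) (L : Fin r → X.Modules) (n : Fin r → ℕ) :
    Nonempty (Curv2.tensorPows F r L n ≅ CohB1.tensorMod (FGA.multiTwist L n) F) := by
  obtain ⟨e⟩ := tensorPows_iso F r L n
  exact ⟨e ≪≫ Groth.Agent.Lib.Helper23.AmpleFam2.tensorBraid F _⟩

end Iso

section Arith

open Groth.Agent.Lib.Helper12.SnapArith

variable {σ : Type*} [Fintype σ] [DecidableEq σ]

theorem _root_.Groth.Agent.Lib.Helper12.SnapArith.Vanish.zero (r : ℕ) : Vanish r (0 : (σ → ℕ) → ℚ) := by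
  induction r with
  | zero => intro m; rfl
  | succ r ih =>
    intro j
    rw [Groth.Agent.Lib.Helper12.SnapArith.diff_zero]
    exact ih

theorem _root_.Groth.Agent.Lib.Helper12.SnapArith.Vanish.add {r : ℕ} {f g : (σ → ℕ) → ℚ} (hf : Vanish r f) (hg : Vanish r g) : Vanish r (f + g) := by
  induction r generalizing f g with
  | zero =>
    intro m
    rw [Pi.add_apply, hf m, hg m, add_zero]
  | succ r ih =>
    intro j
    rw [Groth.Agent.Lib.Helper12.SnapArith.diff_add]
    exact ih (hf j) (hg j)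

end Arith

section Proper

variable (k : Type u) [Field k] (X : Scheme.{u}) [X.Over (Spec (CommRingCat.of k))]
  [IsProper (X ↘ (Spec (CommRingCat.of k)))]

/-- **Snapper's theorem** for `Curv2.tensorPows`. -/
theorem snapper_tensorPows (F : X.Modules) (hF : Coh.IsCoh F) (d : ℕ)
    (hsupp : topologicalKrullDim ↥(CohB1.support F) ≤ (d : WithBot ℕ∞)) (r : ℕ) (L : Fin r → X.Modules)
    (hL : ∀ i, PicF.IsInvertible (L i)) :
    ∃ P : MvPolynomial (Fin r) ℚ, P.totalDegree ≤ d ∧
      ∀ n : Fin r → ℕ, (Curv2.euler k X (Curv2.tensorPows F r L n) : ℚ) =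
        MvPolynomial.eval (fun i => (n i : ℚ)) P := by
  obtain ⟨P, hP, hPe⟩ := snapper_euler k X L hL F hF d hsupp
  refine ⟨P, hP, fun n => ?_⟩
  obtain ⟨e⟩ := tensorPows_iso' F r L n
  rw [euler_congr_iso k e, hPe]

/-- additivity of `G ↦ φ (tensorPows G r L n)` -/
theorem isAdd_tensorPows {φ : X.Modules → ℤ} (hφ : IsAdd φ) : ∀ (r : ℕ) (L : Fin r → X.Modules)
    (_ : ∀ i, PicF.IsInvertible (L i)) (n : Fin r → ℕ), IsAdd (fun G => φ (Curv2.tensorPows G r L n)) := by
  intro r
  induction r generalizing φ with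
  | zero =>
    intro L _ n
    exact hφ
  | succ r ih =>
    intro L hL n
    have hP : PicF.IsInvertible (CohB1.tensorPow (L (Fin.last r)) (n (Fin.last r))) :=
      Groth.Agent.Lib.Helper23.SecTw.isInvertible_tensorPow (hL (Fin.last r)) (n (Fin.last r))
    have h1 := hφ.twist _ (Groth.Agent.Lib.Helper23.SecTw.isFinLocFreeOfRank_one_of_isInvertible _ hP)
    exact ih h1 (fun i => L i.castSucc) (fun i => hL i.castSucc) (fun i => n i.castSucc)

open Groth.Agent.Lib.Helper12.SnapArith in
theorem vanish_lift_lowSub [IsNoetherian X] {r : ℕ} (L : Fin r → X.Modules) (hL : ∀ i, PicF.IsInvertible (L i))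
    (d : ℕ) (x : KZero.K0sub (cohP X)) (hx : x ∈ lowSub (X := X) d) :
    Vanish d (fun n : Fin r → ℕ =>
      (((isAdd_tensorPows X (isAdd_euler k X) r L hL n).lift x : ℤ) : ℚ)) := by
  unfold lowSub at hx
  induction hx using AddSubgroup.closure_induction with
  | mem y hy =>
    obtain ⟨G, hG, hdim, rfl⟩ := hy
    have hv := vanish_dchi k X L hL d [] (fun _ h => absurd h List.not_mem_nil) G hG
      (by rw [List.length_nil, add_zero]; exact hdim)
    refine hv.congr fun n => ?_
    rw [IsAdd.lift_clSub _ G hG, dchi_nil]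
    obtain ⟨e⟩ := tensorPows_iso' G r L n
    rw [euler_congr_iso k e]
  | zero =>
    refine (Vanish.zero d).congr fun n => ?_
    simp
  | add y z _ _ hy hz =>
    refine (hy.add hz).congr fun n => ?_
    simp
  | neg y _ hy =>
    refine hy.neg.congr fun n => ?_
    simp

end Proper

section Push

variable {Z X : Scheme.{u}} (ι : Z ⟶ X)

/-- projection formula for `tensorPows` -/
theorem push_tensorPows (G : Z.Modules) : ∀ (r : ℕ) (L : Fin r → X.Modules) (_ : ∀ i, PicF.IsInvertible (L i))
    (n : Fin r → ℕ),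
    Nonempty ((Scheme.Modules.pushforward ι).obj
        (Curv2.tensorPows G r (fun i => (Scheme.Modules.pullback ι).obj (L i)) n) ≅
      Curv2.tensorPows ((Scheme.Modules.pushforward ι).obj G) r L n) := by
  intro r
  induction r with
  | zero =>
    intro L _ n
    exact ⟨Iso.refl _⟩
  | succ r ih =>
    intro L hL n
    obtain ⟨e1⟩ := ih (fun i => L i.castSucc) (fun i => hL i.castSucc) (fun i => n i.castSucc)
    set T := CohB1.tensorPow (L (Fin.last r)) (n (Fin.last r)) with hT
    have hTi : PicF.IsInvertible T :=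
      Groth.Agent.Lib.Helper23.SecTw.isInvertible_tensorPow (hL (Fin.last r)) (n (Fin.last r))
    obtain ⟨e⟩ := Groth.Agent.Lib.Helper23.InvDual.nonempty_tensorMod_dual_iso T hTi
    let e' : CohB1.tensorMod (RefHull.dual T) T ≅ Coh.structureModule X :=
      Groth.Agent.Lib.Helper23.AmpleFam2.tensorBraid _ _ ≪≫ e
    obtain ⟨Φ⟩ := Groth.Agent.Lib.Helper23.PB.nonempty_pullback_tensorPow_iso ι (L (Fin.last r))
      (hL (Fin.last r)) (n (Fin.last r))
    set G' := Curv2.tensorPows G r (fun i => (Scheme.Modules.pullback ι).obj (L i.castSucc))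
      (fun i => n i.castSucc) with hG'
    have p := Groth.Agent.Lib.Helper27ProjFormula.projIsoR ι T (RefHull.dual T) e e' G'
    obtain ⟨c⟩ := tensor_congr_left G' ⟨Φ.symm⟩
    exact ⟨(Scheme.Modules.pushforward ι).mapIso c ≪≫ p ≪≫ (DCoh.tensorRightMod T).mapIso e1⟩

end Push

end Groth.Agent.Lib.Helper12.Snap
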