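import Mathlib
import Groth.Agent.Lib.Helper12SnapE

/-!
# The top-dimensional part of `χ(F ⊗ L^n)` (helper12) — Snapper / intersection numbers, part F

* `euler_tensorPows_closure`: `χ(X, O_{Z_ξ} ⊗ L^n) = χ(Z_ξ, (L|Z_ξ)^n)`.
* `top_part`: `χ(F ⊗ L^n) - Σ_ξ length(F_ξ) χ(Z_ξ, L^n|Z_ξ)` is a polynomial all of whose monomials have degree `< d`
  (sum over the points `ξ` with `dim closure {ξ} = d ≥ dim Supp F`).
-/

set_option autoImplicit false
set_option linter.style.haveILetI false
set_option linter.unusedSectionVars false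
universe u
open CategoryTheory CategoryTheory.Limits AlgebraicGeometry TopologicalSpace Opposite

namespace Groth.Agent.Lib.Helper12.Snap

open Groth.Agent.Lib.Helper4.Dev Groth.Agent.Lib.Helper4.CurveChi Groth.Agent.Lib.Helper4.KFilt
  Groth.Agent.Lib.Helper4.KTensor Groth.Agent.Lib.Helper17.K0a

variable (k : Type u) [Field k] (X : Scheme.{u}) [X.Over (Spec (CommRingCat.of k))]
  [IsProper (X ↘ (Spec (CommRingCat.of k)))]

theorem euler_tensorPows_closure (ξ : X) (r : ℕ) (L : Fin r → X.Modules) (hL : ∀ i, PicF.IsInvertible (L i))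
    (n : Fin r → ℕ) :
    Curv2.euler k X (Curv2.tensorPows (Cyc.closureStructureSheaf ξ) r L n) =
      @Curv2.euler k _
        (Scheme.IdealSheafData.vanishingIdeal (⟨closure ({ξ} : Set X), isClosed_closure⟩ : TopologicalSpace.Closeds X)).subscheme
        ⟨(Scheme.IdealSheafData.vanishingIdeal (⟨closure ({ξ} : Set X), isClosed_closure⟩ : TopologicalSpace.Closeds X)).subschemeι ≫ (X ↘ (Spec (CommRingCat.of k)))⟩
        (Curv2.tensorPows
          (Coh.structureModule (Scheme.IdealSheafData.vanishingIdeal (⟨closure ({ξ} : Set X), isClosed_closure⟩ : TopologicalSpace.Closeds X)).subscheme)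
          r (fun i => (Scheme.Modules.pullback
            (Scheme.IdealSheafData.vanishingIdeal (⟨closure ({ξ} : Set X), isClosed_closure⟩ : TopologicalSpace.Closeds X)).subschemeι).obj (L i)) n) := by
  set I := Scheme.IdealSheafData.vanishingIdeal (⟨closure ({ξ} : Set X), isClosed_closure⟩ : TopologicalSpace.Closeds X)
    with hI
  letI : I.subscheme.Over (Spec (CommRingCat.of k)) := ⟨I.subschemeι ≫ (X ↘ (Spec (CommRingCat.of k)))⟩
  rw [Groth.Agent.Lib.Helper4.CurveInt.euler_push k X I.subschemeι rfl]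
  obtain ⟨e⟩ := push_tensorPows I.subschemeι (Coh.structureModule I.subscheme) r L hL n
  exact (euler_congr_iso k e).symm

theorem top_part (F : X.Modules) (hF : Coh.IsCoh F) (d : ℕ)
    (hd : topologicalKrullDim ↥(CohB1.support F) ≤ (d : WithBot ℕ∞))
    (r : ℕ) (L : Fin r → X.Modules) (hL : ∀ i, PicF.IsInvertible (L i)) :
    ∃ P : MvPolynomial (Fin r) ℚ, (∀ m ∈ P.support, (m.sum fun _ e => e) < d) ∧
      ∀ n : Fin r → ℕ,
        (Curv2.euler k X (Curv2.tensorPows F r L n) : ℚ) -
          ∑ᶠ ξ : X, (if topologicalKrullDim (closure ({ξ} : Set X)) = (d : WithBot ℕ∞) then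
            ((Module.length (X.presheaf.stalk ξ) (F.presheaf.stalk ξ)).toNat : ℚ) *
              (@Curv2.euler k _
                (Scheme.IdealSheafData.vanishingIdeal (⟨closure ({ξ} : Set X), isClosed_closure⟩ : TopologicalSpace.Closeds X)).subscheme
                ⟨(Scheme.IdealSheafData.vanishingIdeal (⟨closure ({ξ} : Set X), isClosed_closure⟩ : TopologicalSpace.Closeds X)).subschemeι ≫ (X ↘ (Spec (CommRingCat.of k)))⟩
                (Curv2.tensorPows
                  (Coh.structureModule (Scheme.IdealSheafData.vanishingIdeal (⟨closure ({ξ} : Set X), isClosed_closure⟩ : TopologicalSpace.Closeds X)).subscheme)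
                  r (fun i => (Scheme.Modules.pullback
                    (Scheme.IdealSheafData.vanishingIdeal (⟨closure ({ξ} : Set X), isClosed_closure⟩ : TopologicalSpace.Closeds X)).subschemeι).obj (L i)) n) : ℚ)
            else 0)
          = MvPolynomial.eval (fun i => (n i : ℚ)) P := by
  haveI : IsNoetherian X := Groth.Agent.Lib.Helper4.CurveRR.isNoetherian_of_proper k X
  haveI : IsLocallyNoetherian X := inferInstance
  have hgood := good_of_dim_le d F hF hd
  have hv := vanish_lift_lowSub k X L hL d _ hgood.mem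
  obtain ⟨P, hP, hPe⟩ := Groth.Agent.Lib.Helper12.SnapArith.exists_poly_of_mem_V
    (Groth.Agent.Lib.Helper12.SnapArith.mem_V_of_vanish d _ hv)
  refine ⟨P, hP, fun n => ?_⟩
  rw [← hPe n]
  have hfin : (Function.support (cfun d F)).Finite := hgood.fin.subset (support_cfun_subset d F)
  set hψ := isAdd_tensorPows X (isAdd_euler k X) r L hL n with hψdef
  change _ = ((hψ.lift (KZero.clSub (cohP X) F - finsum (cfun d F)) : ℤ) : ℚ)
  rw [map_sub, IsAdd.lift_clSub _ F hF, AddMonoidHom.map_finsum _ hfin]
  have hfin' : (Function.support fun ξ : X => hψ.lift (cfun d F ξ)).Finite := by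
    refine hfin.subset fun ξ hξ => ?_
    rw [Function.mem_support] at hξ ⊢
    intro h0
    exact hξ (by rw [h0, map_zero])
  have hcast : ((∑ᶠ ξ : X, hψ.lift (cfun d F ξ) : ℤ) : ℚ) = ∑ᶠ ξ : X, ((hψ.lift (cfun d F ξ) : ℤ) : ℚ) :=
    map_finsum (Int.castAddHom ℚ) hfin'
  rw [Int.cast_sub, hcast]
  congr 1
  refine finsum_congr fun ξ => ?_
  unfold cfun
  by_cases hdim : topologicalKrullDim ↥(closure ({ξ} : Set X)) = (d : WithBot ℕ∞)
  · rw [if_pos hdim, if_pos hdim, map_nsmul, IsAdd.lift_clSub _ _ (isCoh_closureStructureSheaf ξ), nsmul_eq_mul]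
    push_cast
    congr 2
    exact (euler_tensorPows_closure k X ξ r L hL n).symm
  · rw [if_neg hdim, if_neg hdim, map_zero, Int.cast_zero]

end Groth.Agent.Lib.Helper12.Snap
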