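import Mathlib
import Groth.Agent.Lib.Helper12SnapF

/-!
# The coefficient of `n_1 ⋯ n_d` in the Snapper polynomial (helper12) — Snapper / intersection numbers, part G

* `eq_of_eval_nat_eq`: rational polynomials agreeing on `ℕ^σ` are equal.
* `sum_indicator_eval`: inclusion–exclusion formula for the coefficient of `x_1 ⋯ x_d` of a polynomial of total
  degree `≤ d`.
* `coeff_top_isInt`: the coefficient of `n_1 ⋯ n_d` of the Snapper polynomial of `F` (`dim Supp F ≤ d`) is an integer.
* `top_part_X`, `coeff_top_eq_sum`: that coefficient is the sum over the `d`-dimensional points `ξ` of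
  `length(F_ξ)` times the coefficient for `O_{Z_ξ}`.
-/

set_option autoImplicit false
set_option linter.style.haveILetI false
set_option linter.unusedSectionVars false
universe u
open CategoryTheory CategoryTheory.Limits AlgebraicGeometry TopologicalSpace Opposite

namespace Groth.Agent.Lib.Helper12.Snap

open Groth.Agent.Lib.Helper4.Dev Groth.Agent.Lib.Helper4.CurveChi Groth.Agent.Lib.Helper4.KFilt
  Groth.Agent.Lib.Helper4.KTensor Groth.Agent.Lib.Helper17.K0a

section Poly

/-- the exponent vector of `x_1 ⋯ x_d` -/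
noncomputable abbrev mono1 (d : ℕ) : Fin d →₀ ℕ := Finsupp.equivFunOnFinite.symm fun _ : Fin d => 1

theorem mono1_apply (d : ℕ) (i : Fin d) : mono1 d i = 1 := rfl

theorem mono1_sum (d : ℕ) : ((mono1 d).sum fun _ e => e) = d := by
  rw [Finsupp.sum_fintype _ _ (fun _ => rfl)]
  simp [mono1_apply]

theorem eq_of_eval_nat_eq {σ : Type*} {p q : MvPolynomial σ ℚ}
    (h : ∀ n : σ → ℕ, MvPolynomial.eval (fun i => (n i : ℚ)) p = MvPolynomial.eval (fun i => (n i : ℚ)) q) :
    p = q := by
  refine MvPolynomial.funext_set (fun _ => Set.range (Nat.cast : ℕ → ℚ))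
    (fun _ => Set.infinite_range_of_injective Nat.cast_injective) (fun x hx => ?_)
  choose n hn using fun i => hx i (Set.mem_univ i)
  have : x = fun i => (n i : ℚ) := funext fun i => (hn i).symm
  rw [this]
  exact h n

theorem prod_ind_pow (d : ℕ) (a : Fin d →₀ ℕ) :
    ∑ S : Finset (Fin d), (-1 : ℚ) ^ S.card * ∏ i, (if i ∈ S then (1 : ℚ) else 0) ^ a i =
      if ∀ i, a i ≠ 0 then (-1 : ℚ) ^ d else 0 := by
  classical
  have h1 : ∀ S : Finset (Fin d), (-1 : ℚ) ^ S.card * ∏ i, (if i ∈ S then (1 : ℚ) else 0) ^ a i =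
      (∏ _i ∈ S, (-1 : ℚ)) * ∏ i ∈ Finset.univ \ S, (0 : ℚ) ^ a i := by
    intro S
    rw [Finset.prod_const]
    congr 1
    rw [← Finset.prod_sdiff (Finset.subset_univ S)]
    have hS : ∏ i ∈ S, (if i ∈ S then (1 : ℚ) else 0) ^ a i = 1 :=
      Finset.prod_eq_one fun i hi => by rw [if_pos hi, one_pow]
    have hSc : ∏ i ∈ Finset.univ \ S, (if i ∈ S then (1 : ℚ) else 0) ^ a i =
        ∏ i ∈ Finset.univ \ S, (0 : ℚ) ^ a i :=
      Finset.prod_congr rfl fun i hi => by rw [if_neg (Finset.mem_sdiff.1 hi).2]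
    rw [hS, hSc, mul_one]
  have h2 := Finset.prod_add (fun _ : Fin d => (-1 : ℚ)) (fun i => (0 : ℚ) ^ a i) Finset.univ
  rw [Finset.powerset_univ] at h2
  rw [Finset.sum_congr rfl (fun S _ => h1 S), ← h2]
  split_ifs with h
  · rw [Finset.prod_congr rfl (fun i _ => by rw [zero_pow (h i), add_zero]), Finset.prod_const,
      Finset.card_univ, Fintype.card_fin]
  · push Not at h
    obtain ⟨i, hi⟩ := h
    exact Finset.prod_eq_zero (Finset.mem_univ i) (by rw [hi, pow_zero]; norm_num)

theorem eq_mono1_of_pos {d : ℕ} (a : Fin d →₀ ℕ) (h1 : ∀ i, a i ≠ 0) (h2 : (a.sum fun _ e => e) ≤ d) :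
    a = mono1 d := by
  rw [Finsupp.sum_fintype _ _ (fun _ => rfl)] at h2
  ext i
  rw [mono1_apply]
  by_contra hne
  have hlt : ∑ _j : Fin d, 1 < ∑ j, a j := by
    refine Finset.sum_lt_sum (fun j _ => Nat.one_le_iff_ne_zero.2 (h1 j)) ⟨i, Finset.mem_univ i, ?_⟩
    have := h1 i
    omega
  simp at hlt
  omega

theorem sum_indicator_eval (d : ℕ) (P : MvPolynomial (Fin d) ℚ) (hP : P.totalDegree ≤ d) :
    ∑ S : Finset (Fin d), (-1 : ℚ) ^ S.card *
        MvPolynomial.eval (fun i => if i ∈ S then (1 : ℚ) else 0) P =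
      (-1) ^ d * MvPolynomial.coeff (mono1 d) P := by
  classical
  have hev : ∀ S : Finset (Fin d), MvPolynomial.eval (fun i => if i ∈ S then (1 : ℚ) else 0) P =
      ∑ a ∈ P.support, MvPolynomial.coeff a P * ∏ i, (if i ∈ S then (1 : ℚ) else 0) ^ a i := by
    intro S
    conv_lhs => rw [P.as_sum]
    rw [map_sum]
    refine Finset.sum_congr rfl fun a _ => ?_
    rw [MvPolynomial.eval_monomial, Finsupp.prod_fintype _ _ (fun i => pow_zero _)]
  have hterm : ∀ a ∈ P.support,
      ∑ S : Finset (Fin d), (-1 : ℚ) ^ S.card *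
          (MvPolynomial.coeff a P * ∏ i, (if i ∈ S then (1 : ℚ) else 0) ^ a i) =
        if a = mono1 d then (-1) ^ d * MvPolynomial.coeff (mono1 d) P else 0 := by
    intro a ha
    have hre : ∀ S : Finset (Fin d), (-1 : ℚ) ^ S.card *
        (MvPolynomial.coeff a P * ∏ i, (if i ∈ S then (1 : ℚ) else 0) ^ a i) =
        MvPolynomial.coeff a P * ((-1 : ℚ) ^ S.card * ∏ i, (if i ∈ S then (1 : ℚ) else 0) ^ a i) :=
      fun S => by ring
    rw [Finset.sum_congr rfl (fun S _ => hre S), ← Finset.mul_sum, prod_ind_pow]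
    by_cases h1 : ∀ i, a i ≠ 0
    · have h2 : a = mono1 d := eq_mono1_of_pos a h1 ((MvPolynomial.le_totalDegree ha).trans hP)
      rw [if_pos h1, if_pos h2, h2]
      ring
    · have h2 : a ≠ mono1 d := by
        intro h2
        apply h1
        intro i
        rw [h2, mono1_apply]
        exact one_ne_zero
      rw [if_neg h1, if_neg h2, mul_zero]
  rw [Finset.sum_congr rfl (fun S _ => by rw [hev S, Finset.mul_sum]), Finset.sum_comm,
    Finset.sum_congr rfl hterm, Finset.sum_ite_eq']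
  split_ifs with hm
  · rfl
  · rw [MvPolynomial.notMem_support_iff.1 hm, mul_zero]

end Poly

section Quot

variable {X : Scheme.{u}}

theorem isCoh_quotMod [IsLocallyNoetherian X] (D : X.IdealSheafData) : Coh.IsCoh (ClSub.quotMod D) :=
  isCoh_push_closed D.subschemeι _ (isCoh_structureModule _)

theorem support_quotMod_subset (D : X.IdealSheafData) :
    CohB1.support (ClSub.quotMod D) ⊆ (D.support : Set X) := by
  intro x hx
  have := support_push_subset D.subschemeι (Coh.structureModule D.subscheme) hx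
  rw [Scheme.IdealSheafData.range_subschemeι] at this
  exact this

theorem dim_support_quotMod_le (D : X.IdealSheafData) (d : ℕ)
    (hD : topologicalKrullDim ↥(D.support : Set X) ≤ (d : WithBot ℕ∞)) :
    topologicalKrullDim ↥(CohB1.support (ClSub.quotMod D)) ≤ (d : WithBot ℕ∞) :=
  (dim_le_of_subset (support_quotMod_subset D)).trans hD

end Quot

section Proper

variable (k : Type u) [Field k] (X : Scheme.{u}) [X.Over (Spec (CommRingCat.of k))]
  [IsProper (X ↘ (Spec (CommRingCat.of k)))]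

/-- the coefficient of `n_1 ⋯ n_d` in the Snapper polynomial is an integer -/
theorem coeff_top_isInt (F : X.Modules) (hF : Coh.IsCoh F) (d : ℕ)
    (hsupp : topologicalKrullDim ↥(CohB1.support F) ≤ (d : WithBot ℕ∞))
    (L : Fin d → X.Modules) (hL : ∀ i, PicF.IsInvertible (L i)) (P : MvPolynomial (Fin d) ℚ)
    (hP : ∀ n : Fin d → ℕ, (Curv2.euler k X (Curv2.tensorPows F d L n) : ℚ) =
      MvPolynomial.eval (fun i => (n i : ℚ)) P) :
    ∃ z : ℤ, MvPolynomial.coeff (mono1 d) P = (z : ℚ) := by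
  classical
  obtain ⟨P', hP'deg, hP'e⟩ := snapper_tensorPows k X F hF d hsupp d L hL
  have hPP' : P = P' := eq_of_eval_nat_eq fun n => by rw [← hP n, ← hP'e n]
  have hIE := sum_indicator_eval d P (hPP' ▸ hP'deg)
  refine ⟨(-1) ^ d * ∑ S : Finset (Fin d), (-1 : ℤ) ^ S.card *
    Curv2.euler k X (Curv2.tensorPows F d L (fun i => if i ∈ S then 1 else 0)), ?_⟩
  have h2 : MvPolynomial.coeff (mono1 d) P = (-1) ^ d * ((-1) ^ d * MvPolynomial.coeff (mono1 d) P) := by
    rw [← mul_assoc, ← mul_pow]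
    norm_num
  rw [h2, ← hIE]
  push_cast
  congr 1
  refine Finset.sum_congr rfl fun S _ => ?_
  congr 1
  have hcast : (fun i : Fin d => ((if i ∈ S then 1 else 0 : ℕ) : ℚ)) = fun i => if i ∈ S then (1 : ℚ) else 0 := by
    funext i
    split_ifs <;> simp
  rw [hP (fun i => if i ∈ S then 1 else 0), hcast]

theorem top_part_X (F : X.Modules) (hF : Coh.IsCoh F) (d : ℕ)
    (hd : topologicalKrullDim ↥(CohB1.support F) ≤ (d : WithBot ℕ∞))
    (r : ℕ) (L : Fin r → X.Modules) (hL : ∀ i, PicF.IsInvertible (L i)) :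
    ∃ P : MvPolynomial (Fin r) ℚ, (∀ m ∈ P.support, (m.sum fun _ e => e) < d) ∧
      ∀ n : Fin r → ℕ,
        (Curv2.euler k X (Curv2.tensorPows F r L n) : ℚ) -
          ∑ᶠ ξ : X, (if topologicalKrullDim (closure ({ξ} : Set X)) = (d : WithBot ℕ∞) then
            ((Module.length (X.presheaf.stalk ξ) (F.presheaf.stalk ξ)).toNat : ℚ) *
              (Curv2.euler k X (Curv2.tensorPows (ClSub.quotMod (Scheme.IdealSheafData.vanishingIdeal
                (⟨closure ({ξ} : Set X), isClosed_closure⟩ : TopologicalSpace.Closeds X))) r L n) : ℚ)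
            else 0)
          = MvPolynomial.eval (fun i => (n i : ℚ)) P := by
  obtain ⟨P, hP, hPe⟩ := top_part k X F hF d hd r L hL
  refine ⟨P, hP, fun n => ?_⟩
  rw [← hPe n]
  congr 1
  refine finsum_congr fun ξ => ?_
  by_cases hdim : topologicalKrullDim ↥(closure ({ξ} : Set X)) = (d : WithBot ℕ∞)
  · rw [if_pos hdim, if_pos hdim]
    congr 2
    exact euler_tensorPows_closure k X ξ r L hL n
  · rw [if_neg hdim, if_neg hdim]

/-- the coefficient of `n_1 ⋯ n_d` is additive over the top-dimensional components (S7686) -/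
theorem coeff_top_eq_sum (F : X.Modules) (hF : Coh.IsCoh F) (d : ℕ)
    (hd : topologicalKrullDim ↥(CohB1.support F) ≤ (d : WithBot ℕ∞))
    (L : Fin d → X.Modules) (hL : ∀ i, PicF.IsInvertible (L i)) (P : MvPolynomial (Fin d) ℚ)
    (hP : ∀ n : Fin d → ℕ, (Curv2.euler k X (Curv2.tensorPows F d L n) : ℚ) =
      MvPolynomial.eval (fun i => (n i : ℚ)) P)
    (Q : X → MvPolynomial (Fin d) ℚ)
    (hQ : ∀ ξ : X, topologicalKrullDim (closure ({ξ} : Set X)) = (d : WithBot ℕ∞) →
      ∀ n : Fin d → ℕ, (Curv2.euler k X (Curv2.tensorPows (ClSub.quotMod (Scheme.IdealSheafData.vanishingIdeal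
        (⟨closure ({ξ} : Set X), isClosed_closure⟩ : TopologicalSpace.Closeds X))) d L n) : ℚ) =
        MvPolynomial.eval (fun i => (n i : ℚ)) (Q ξ)) :
    MvPolynomial.coeff (mono1 d) P =
      ∑ᶠ ξ : X, (if topologicalKrullDim (closure ({ξ} : Set X)) = (d : WithBot ℕ∞) then
        ((Module.length (X.presheaf.stalk ξ) (F.presheaf.stalk ξ)).toNat : ℚ) *
          MvPolynomial.coeff (mono1 d) (Q ξ) else 0) := by
  classical
  haveI : IsNoetherian X := Groth.Agent.Lib.Helper4.CurveRR.isNoetherian_of_proper k X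
  haveI : IsLocallyNoetherian X := inferInstance
  obtain ⟨R, hR, hRe⟩ := top_part_X k X F hF d hd d L hL
  have hgood := good_of_dim_le d F hF hd
  set s := hgood.fin.toFinset with hs
  have hsum : ∀ g : X → ℚ,
      (∑ᶠ ξ : X, (if topologicalKrullDim (closure ({ξ} : Set X)) = (d : WithBot ℕ∞) then
        ((Module.length (X.presheaf.stalk ξ) (F.presheaf.stalk ξ)).toNat : ℚ) * g ξ else 0)) =
      ∑ ξ ∈ s, ((Module.length (X.presheaf.stalk ξ) (F.presheaf.stalk ξ)).toNat : ℚ) * g ξ := by
    intro g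
    rw [finsum_eq_sum_of_support_subset (s := s)]
    · refine Finset.sum_congr rfl fun ξ hξ => ?_
      rw [if_pos ((hgood.fin.mem_toFinset.1 hξ).1)]
    · intro ξ hξ
      rw [Function.mem_support] at hξ
      rw [Finset.mem_coe, hgood.fin.mem_toFinset]
      by_cases hdim : topologicalKrullDim ↥(closure ({ξ} : Set X)) = (d : WithBot ℕ∞)
      · rw [if_pos hdim] at hξ
        refine ⟨hdim, fun h0 => hξ ?_⟩
        rw [h0]
        simp
      · rw [if_neg hdim] at hξ
        exact absurd rfl hξ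
  have hpoly : P = (∑ ξ ∈ s, ((Module.length (X.presheaf.stalk ξ) (F.presheaf.stalk ξ)).toNat : ℚ) • Q ξ) + R := by
    apply eq_of_eval_nat_eq
    intro n
    rw [← hP n, map_add, map_sum, ← hRe n, hsum]
    have : ∀ ξ ∈ s, MvPolynomial.eval (fun i => (n i : ℚ))
        (((Module.length (X.presheaf.stalk ξ) (F.presheaf.stalk ξ)).toNat : ℚ) • Q ξ) =
        ((Module.length (X.presheaf.stalk ξ) (F.presheaf.stalk ξ)).toNat : ℚ) *
          (Curv2.euler k X (Curv2.tensorPows (ClSub.quotMod (Scheme.IdealSheafData.vanishingIdeal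
            (⟨closure ({ξ} : Set X), isClosed_closure⟩ : TopologicalSpace.Closeds X))) d L n) : ℚ) := by
      intro ξ hξ
      rw [MvPolynomial.smul_eval, hQ ξ ((hgood.fin.mem_toFinset.1 hξ).1) n]
    rw [Finset.sum_congr rfl this]
    ring
  have hR0 : MvPolynomial.coeff (mono1 d) R = 0 := by
    rw [← MvPolynomial.notMem_support_iff]
    intro hmem
    have := hR _ hmem
    rw [mono1_sum] at this
    exact lt_irrefl _ this
  rw [hsum, hpoly, MvPolynomial.coeff_add, hR0, add_zero, MvPolynomial.coeff_sum]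
  refine Finset.sum_congr rfl fun ξ _ => ?_
  rw [MvPolynomial.coeff_smul, smul_eq_mul]

end Proper

end Groth.Agent.Lib.Helper12.Snap
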