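import Mathlib
import Groth.Agent.Lib.Helper12SnapG
import Groth.Agent.Lib.Helper12SnapD
import Groth.Agent.Lib.Helper23UnitStalk
import Groth.Agent.Lib.Helper27DimDrop
import Groth.Agent.S1577
set_option backward.isDefEq.respectTransparency.types false

/-!
# Intersection with an effective Cartier divisor, polynomial form (helper12) — Snapper / intersection numbers, part H

* `tensorPows_tensor`: `tensorPows F r L n ⊗ M ≅ tensorPows (F ⊗ M) r L n`.
* `bsum_eq_dchi`: `Σ_S (-1)^{|S|} χ(tensorPows F r L 1_S) = dchi (ofFn L) F`.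
* `coeff_top_eq_dchi`: the coefficient of `n_1 ⋯ n_d` in the Snapper polynomial of `F` (`dim Supp F ≤ d`) is
  `(-1)^d dchi (ofFn L) F`.
* `not_isAssPoint_of_mem_support`: no point of an effective Cartier divisor is an associated point of `O_X`.
* `isAssPoint_structureModule_of_component`: generic points of irreducible components are associated points of `O_X`.
* `dim_support_le_of_isEffCartier`: `dim D ≤ e` when `dim X = e + 1`.
* `coeff_top_cartier`: `(L_0 ⋯ L_e · X) = (L_1 ⋯ L_e · D)` when `L_0 ⊗ I_D ≅ O_X` (S7648).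
-/

set_option autoImplicit false
set_option linter.style.haveILetI false
set_option linter.unusedSectionVars false
universe u
open CategoryTheory CategoryTheory.Limits AlgebraicGeometry TopologicalSpace Opposite

namespace Groth.Agent.Lib.Helper12.Snap

open Groth.Agent.Lib.Helper4.Dev Groth.Agent.Lib.Helper4.CurveChi Groth.Agent.Lib.Helper4.KFilt
  Groth.Agent.Lib.Helper4.KTensor Groth.Agent.Lib.Helper17.K0a

section Iso

variable {X : Scheme.{u}}

theorem tensorPows_tensor (F M : X.Modules) (r : ℕ) (L : Fin r → X.Modules) (n : Fin r → ℕ) :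
    Nonempty (CohB1.tensorMod (Curv2.tensorPows F r L n) M ≅
      Curv2.tensorPows (CohB1.tensorMod F M) r L n) := by
  obtain ⟨e1⟩ := tensorPows_iso F r L n
  obtain ⟨e2⟩ := tensorPows_iso (CohB1.tensorMod F M) r L n
  exact iso_trans (tensor_congr_right M ⟨e1⟩) (iso_trans (swapR F M (FGA.multiTwist L n)) ⟨e2.symm⟩)

end Iso

section Comb

theorem sum_powerset_map_emb {α β : Type*} [Fintype α] [DecidableEq α] [DecidableEq β] (f : α ↪ β)
    (g : Finset β → ℤ) :
    ∑ t ∈ ((Finset.univ : Finset α).map f).powerset, g t = ∑ J : Finset α, g (J.map f) := by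
  classical
  symm
  refine Finset.sum_bij (fun J _ => J.map f) ?_ ?_ ?_ ?_
  · intro J _
    rw [Finset.mem_powerset]
    exact Finset.map_subset_map.2 (Finset.subset_univ J)
  · intro J₁ _ J₂ _ h
    exact Finset.map_injective _ h
  · intro t ht
    rw [Finset.mem_powerset] at ht
    refine ⟨Finset.univ.filter (fun j => f j ∈ t), Finset.mem_univ _, ?_⟩
    ext i
    constructor
    · intro hi
      obtain ⟨j, hj, rfl⟩ := Finset.mem_map.1 hi
      exact (Finset.mem_filter.1 hj).2
    · intro hi
      obtain ⟨j, _, rfl⟩ := Finset.mem_map.1 (ht hi)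
      exact Finset.mem_map.2 ⟨j, Finset.mem_filter.2 ⟨Finset.mem_univ _, hi⟩, rfl⟩
  · intro J _
    rfl

end Comb

section Proper

variable (k : Type u) [Field k] (X : Scheme.{u}) [X.Over (Spec (CommRingCat.of k))]
  [IsProper (X ↘ (Spec (CommRingCat.of k)))]

/-- the alternating sum of `χ(tensorPows F r L 1_S)` over subsets `S` -/
noncomputable def bsum (r : ℕ) (L : Fin r → X.Modules) (F : X.Modules) : ℤ :=
  ∑ S : Finset (Fin r), (-1 : ℤ) ^ S.card *
    Curv2.euler k X (Curv2.tensorPows F r L (fun i => if i ∈ S then 1 else 0))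

theorem bsum_succ {r : ℕ} (L : Fin (r + 1) → X.Modules) (F : X.Modules) :
    bsum k X (r + 1) L F = bsum k X r (fun i => L i.castSucc) F -
      bsum k X r (fun i => L i.castSucc) (CohB1.tensorMod F (L (Fin.last r))) := by
  classical
  unfold bsum
  have huniv : (Finset.univ : Finset (Fin (r + 1))) =
      insert (Fin.last r) ((Finset.univ : Finset (Fin r)).map Fin.castSuccEmb) := by
    ext i
    simp only [Finset.mem_univ, Finset.mem_insert, Finset.mem_map, Fin.coe_castSuccEmb, true_and, true_iff]
    exact (Fin.eq_castSucc_or_eq_last i).symm.imp id (fun ⟨j, hj⟩ => ⟨j, hj.symm⟩)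
  have hnot : Fin.last r ∉ (Finset.univ : Finset (Fin r)).map Fin.castSuccEmb := by
    simp only [Finset.mem_map, Finset.mem_univ, Fin.coe_castSuccEmb, true_and, not_exists]
    intro x
    exact (Fin.castSucc_lt_last x).ne
  rw [← Finset.powerset_univ, huniv, Finset.sum_powerset_insert hnot, sum_powerset_map_emb,
    sum_powerset_map_emb, sub_eq_add_neg, ← Finset.sum_neg_distrib]
  congr 1
  · refine Finset.sum_congr rfl fun T _ => ?_
    rw [Finset.card_map]
    congr 1
    have hfun : (fun i : Fin r => if i.castSucc ∈ T.map Fin.castSuccEmb then 1 else 0) =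
        fun i : Fin r => if i ∈ T then 1 else 0 := by
      funext i
      have : i.castSucc ∈ T.map Fin.castSuccEmb ↔ i ∈ T := by
        rw [← Fin.coe_castSuccEmb, Finset.mem_map']
      simp only [this]
    have hlast : Fin.last r ∉ T.map Fin.castSuccEmb := by
      simp only [Finset.mem_map, Fin.coe_castSuccEmb, not_exists, not_and]
      intro x _
      exact (Fin.castSucc_lt_last x).ne
    change Curv2.euler k X (CohB1.tensorMod
      (Curv2.tensorPows F r (fun i => L i.castSucc)
        (fun i => if i.castSucc ∈ T.map Fin.castSuccEmb then 1 else 0))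
      (CohB1.tensorPow (L (Fin.last r)) (if Fin.last r ∈ T.map Fin.castSuccEmb then 1 else 0))) = _
    rw [hfun, if_neg hlast]
    exact euler_congr_iso k (Groth.Agent.Lib.Helper23.TensorUnit.tensorUnitIso _)
  · refine Finset.sum_congr rfl fun T _ => ?_
    have hlast : Fin.last r ∉ T.map Fin.castSuccEmb := by
      simp only [Finset.mem_map, Fin.coe_castSuccEmb, not_exists, not_and]
      intro x _
      exact (Fin.castSucc_lt_last x).ne
    rw [Finset.card_insert_of_notMem hlast, Finset.card_map, pow_succ]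
    have hfun : (fun i : Fin r => if i.castSucc ∈ insert (Fin.last r) (T.map Fin.castSuccEmb) then 1 else 0) =
        fun i : Fin r => if i ∈ T then 1 else 0 := by
      funext i
      have : i.castSucc ∈ insert (Fin.last r) (T.map Fin.castSuccEmb) ↔ i ∈ T := by
        rw [Finset.mem_insert, ← Fin.coe_castSuccEmb, Finset.mem_map']
        constructor
        · rintro (h | h)
          · exact absurd h (Fin.castSucc_lt_last i).ne
          · exact h
        · exact Or.inr
      simp only [this]
    have hin : Fin.last r ∈ insert (Fin.last r) (T.map Fin.castSuccEmb) := Finset.mem_insert_self _ _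
    have he : Curv2.euler k X (Curv2.tensorPows F (r + 1) L
        (fun i => if i ∈ insert (Fin.last r) (T.map Fin.castSuccEmb) then 1 else 0)) =
        Curv2.euler k X (Curv2.tensorPows (CohB1.tensorMod F (L (Fin.last r))) r (fun i => L i.castSucc)
          (fun i => if i ∈ T then 1 else 0)) := by
      change Curv2.euler k X (CohB1.tensorMod
        (Curv2.tensorPows F r (fun i => L i.castSucc)
          (fun i => if i.castSucc ∈ insert (Fin.last r) (T.map Fin.castSuccEmb) then 1 else 0))
        (CohB1.tensorPow (L (Fin.last r))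
          (if Fin.last r ∈ insert (Fin.last r) (T.map Fin.castSuccEmb) then 1 else 0))) = _
      rw [hfun, if_pos hin]
      obtain ⟨e1⟩ := tensor_congr_left (Curv2.tensorPows F r (fun i => L i.castSucc) (fun i => if i ∈ T then 1 else 0))
        ⟨Groth.Agent.Lib.Helper23.TensorUnit.unitTensorIso (L (Fin.last r))⟩
      obtain ⟨e2⟩ := tensorPows_tensor F (L (Fin.last r)) r (fun i => L i.castSucc) (fun i => if i ∈ T then 1 else 0)
      exact euler_congr_iso k (e1 ≪≫ e2)
    rw [he]
    ring

theorem bsum_eq_dchi : ∀ (r : ℕ) (L : Fin r → X.Modules) (_ : ∀ i, PicF.IsInvertible (L i)) (F : X.Modules),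
    bsum k X r L F = dchi k X (List.ofFn L) F := by
  intro r
  induction r with
  | zero =>
    intro L _ F
    unfold bsum
    rw [List.ofFn_zero, dchi_nil]
    have : (Finset.univ : Finset (Finset (Fin 0))) = {∅} := by
      ext I
      simp only [Finset.mem_univ, Finset.mem_singleton, true_iff]
      exact Finset.eq_empty_of_isEmpty I
    rw [this, Finset.sum_singleton]
    simp only [Finset.card_empty, pow_zero, one_mul]
    rfl
  | succ r ih =>
    intro L hL F
    have hl : ∀ N ∈ List.ofFn (fun i : Fin r => L i.castSucc), PicF.IsInvertible N := by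
      intro N hN
      obtain ⟨i, rfl⟩ := (List.mem_ofFn' _ N).1 hN
      exact hL i.castSucc
    rw [bsum_succ, ih _ (fun i => hL i.castSucc), ih _ (fun i => hL i.castSucc), List.ofFn_succ',
      List.concat_eq_append, dchi_snoc k X _ hl]

/-- the coefficient of `n_1 ⋯ n_d` in the Snapper polynomial is `(-1)^d` times the iterated difference -/
theorem coeff_top_eq_dchi (F : X.Modules) (hF : Coh.IsCoh F) (d : ℕ)
    (hsupp : topologicalKrullDim ↥(CohB1.support F) ≤ (d : WithBot ℕ∞))
    (L : Fin d → X.Modules) (hL : ∀ i, PicF.IsInvertible (L i)) (P : MvPolynomial (Fin d) ℚ)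
    (hP : ∀ n : Fin d → ℕ, (Curv2.euler k X (Curv2.tensorPows F d L n) : ℚ) =
      MvPolynomial.eval (fun i => (n i : ℚ)) P) :
    MvPolynomial.coeff (mono1 d) P = (-1) ^ d * (dchi k X (List.ofFn L) F : ℚ) := by
  classical
  obtain ⟨P', hP'deg, hP'e⟩ := snapper_tensorPows k X F hF d hsupp d L hL
  have hPP' : P = P' := eq_of_eval_nat_eq fun n => by rw [← hP n, ← hP'e n]
  have hIE := sum_indicator_eval d P (hPP' ▸ hP'deg)
  have h2 : MvPolynomial.coeff (mono1 d) P = (-1) ^ d * ((-1) ^ d * MvPolynomial.coeff (mono1 d) P) := by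
    rw [← mul_assoc, ← mul_pow]
    norm_num
  rw [h2, ← hIE, ← bsum_eq_dchi k X d L hL F]
  unfold bsum
  push_cast
  congr 1
  refine Finset.sum_congr rfl fun S _ => ?_
  congr 1
  have hcast : (fun i : Fin d => ((if i ∈ S then 1 else 0 : ℕ) : ℚ)) = fun i => if i ∈ S then (1 : ℚ) else 0 := by
    funext i
    split_ifs <;> simp
  rw [hP (fun i => if i ∈ S then 1 else 0), hcast]

end Proper

section Dim

variable {X : Scheme.{u}}

/-- no point of an effective Cartier divisor is an associated point of `O_X` -/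
theorem not_isAssPoint_of_mem_support (D : X.IdealSheafData) (hD : BlowUp.IsEffCartierIdeal D) (x : X)
    (hx : x ∈ D.support) : ¬ Curv2.IsAssPoint (Coh.structureModule X) x := by
  rw [Groth.Agent.Lib.Helper23.UnitStalk.isAssPoint_structureModule_iff]
  obtain ⟨U, hxU, a, ha, hDa⟩ := hD x
  rintro ⟨hprime, s, hs⟩
  letI alg : Algebra Γ(X, U.1) (X.presheaf.stalk x) := X.presheaf.algebra_section_stalk ⟨x, hxU⟩
  haveI loc : IsLocalization.AtPrime (X.presheaf.stalk x) (U.2.primeIdealOf ⟨x, hxU⟩).asIdeal :=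
    U.2.isLocalization_stalk ⟨x, hxU⟩
  have hax : X.presheaf.germ U.1 x hxU a ∈ IsLocalRing.maximalIdeal (X.presheaf.stalk x) := by
    rw [IsLocalRing.mem_maximalIdeal, mem_nonunits_iff]
    intro hu
    have h1 := (Scheme.IdealSheafData.mem_support_iff_of_mem (I := D) (U := U) hxU).1 hx
    rw [Scheme.mem_zeroLocus_iff] at h1
    refine h1 a ?_ ((X.mem_basicOpen a x hxU).2 hu)
    rw [hDa]
    exact Ideal.mem_span_singleton_self a
  have hnzd : X.presheaf.germ U.1 x hxU a ∈ nonZeroDivisors (X.presheaf.stalk x) :=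
    IsLocalization.map_nonZeroDivisors_le (U.2.primeIdealOf ⟨x, hxU⟩).asIdeal.primeCompl
      (X.presheaf.stalk x) ⟨a, ha, rfl⟩
  rw [hs] at hax
  obtain ⟨n, hn⟩ := hax
  rw [Submodule.mem_colon_singleton, Submodule.mem_bot, smul_eq_mul] at hn
  have hs0 : s = 0 := (mul_right_mem_nonZeroDivisors_eq_zero_iff (pow_mem hnzd n)).1 (by rwa [mul_comm] at hn)
  apply hprime.ne_top
  rw [hs, hs0]
  simp

/-- the generic point of an irreducible component is an associated point of `O_X` -/
theorem isAssPoint_structureModule_of_component [IsLocallyNoetherian X] (T : Set X)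
    (hT : T ∈ irreducibleComponents X) (ξ : X) (hξ : IsGenericPoint ξ T) :
    Curv2.IsAssPoint (Coh.structureModule X) ξ := by
  refine Groth.Agent.S1577.result X _ (isCoh_structureModule X).1 ξ ?_ ?_
  · intro hsub
    exact not_subsingleton _ hsub
  · intro y _ hy
    have h1 : T ⊆ closure ({y} : Set X) := by
      rw [← hξ.def]
      exact (specializes_iff_closure_subset.1 hy)
    have h2 : closure ({y} : Set X) ⊆ T := hT.2 isIrreducible_singleton.closure h1
    have h3 : ξ ⤳ y := by
      rw [specializes_iff_mem_closure, hξ.def]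
      exact h2 (subset_closure rfl)
    exact (hy.antisymm h3).eq

theorem not_component_subset_support [IsLocallyNoetherian X] (D : X.IdealSheafData)
    (hD : BlowUp.IsEffCartierIdeal D) (T : Set X) (hT : T ∈ irreducibleComponents X) :
    ¬ T ⊆ (D.support : Set X) := by
  intro hsub
  obtain ⟨ξ, hξ⟩ := QuasiSober.sober hT.1 (isClosed_of_mem_irreducibleComponents T hT)
  exact not_isAssPoint_of_mem_support D hD ξ (hsub hξ.mem)
    (isAssPoint_structureModule_of_component T hT ξ hξ)

theorem dim_support_le_of_isEffCartier [IsLocallyNoetherian X] (D : X.IdealSheafData)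
    (hD : BlowUp.IsEffCartierIdeal D) (e : ℕ)
    (hX : topologicalKrullDim X = ((e + 1 : ℕ) : WithBot ℕ∞)) :
    topologicalKrullDim ↥(D.support : Set X) ≤ (e : WithBot ℕ∞) := by
  by_contra hnot
  rw [← lt_succ_iff_le, not_lt] at hnot
  have h1 := Groth.Agent.Lib.Helper27DimDrop.dim_drop (D.support : Set X) D.support.isClosed
    (not_component_subset_support D hD) (e + 1) hnot
  rw [hX] at h1
  exact absurd ((lt_succ_iff_le _ (e + 1)).2 le_rfl) (not_lt.2 h1)

end Dim

section Main

variable (k : Type u) [Field k] (X : Scheme.{u}) [X.Over (Spec (CommRingCat.of k))]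
  [IsProper (X ↘ (Spec (CommRingCat.of k)))]

/-- `(L_0 ⋯ L_e · X) = (L_1 ⋯ L_e · D)` for an effective Cartier divisor `D` with `L_0 ⊗ I_D ≅ O_X` (S7648) -/
theorem coeff_top_cartier (e : ℕ) (hX : topologicalKrullDim X = ((e + 1 : ℕ) : WithBot ℕ∞))
    (D : X.IdealSheafData) (hD : BlowUp.IsEffCartierIdeal D)
    (L : Fin (e + 1) → X.Modules) (hL : ∀ j, PicF.IsInvertible (L j))
    (hLD : ClSub.IsInverseOf (L 0) (ClSub.idealMod D))
    (P : MvPolynomial (Fin (e + 1)) ℚ) (Q : MvPolynomial (Fin e) ℚ)
    (hP : ∀ n : Fin (e + 1) → ℕ, (Curv2.euler k X (Curv2.tensorPows (Coh.structureModule X) (e + 1) L n) : ℚ) =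
      MvPolynomial.eval (fun i => (n i : ℚ)) P)
    (hQ : ∀ n : Fin e → ℕ, (Curv2.euler k X (Curv2.tensorPows (ClSub.quotMod D) e (fun j => L j.succ) n) : ℚ) =
      MvPolynomial.eval (fun i => (n i : ℚ)) Q) :
    MvPolynomial.coeff (mono1 (e + 1)) P = MvPolynomial.coeff (mono1 e) Q := by
  haveI : IsNoetherian X := Groth.Agent.Lib.Helper4.CurveRR.isNoetherian_of_proper k X
  haveI : IsLocallyNoetherian X := inferInstance
  set O := Coh.structureModule X with hO
  set OD := ClSub.quotMod D with hOD
  set I := ClSub.idealMod D with hI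
  set l := List.ofFn (fun j : Fin e => L j.succ) with hl
  have hlinv : ∀ N ∈ l, PicF.IsInvertible N := by
    intro N hN
    obtain ⟨i, rfl⟩ := (List.mem_ofFn' _ N).1 hN
    exact hL i.succ
  have hcO : Coh.IsCoh O := isCoh_structureModule X
  have hcOD : Coh.IsCoh OD := isCoh_quotMod D
  have hdimD : topologicalKrullDim ↥(CohB1.support OD) ≤ (e : WithBot ℕ∞) :=
    dim_support_quotMod_le D e (dim_support_le_of_isEffCartier D hD e hX)
  have hdimX : topologicalKrullDim ↥(CohB1.support O) ≤ ((e + 1 : ℕ) : WithBot ℕ∞) := by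
    rw [← hX]
    exact topologicalKrullDim_subspace_le _ _
  -- the two coefficients as iterated differences
  have hcP := coeff_top_eq_dchi k X O hcO (e + 1) hdimX L hL P hP
  have hcQ := coeff_top_eq_dchi k X OD hcOD e hdimD (fun j => L j.succ) (fun j => hL j.succ) Q hQ
  rw [hcP, hcQ, List.ofFn_succ, ← hl, dchi_cons]
  -- `dchi l (O ⊗ L_0)` via the divisor sequence
  set G := CohB1.tensorMod O (L 0) with hG
  have hcG : Coh.IsCoh G := isCoh_of_iso (Groth.Agent.Lib.Helper23.AmpleFam2.tensorBraid (L 0) O)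
    (isCoh_invertible_tensor (L 0) O (hL 0) hcO)
  have hadd := isAdd_dchi k X l hlinv
  have hassG : ∀ x ∈ D.support, ¬ Curv2.IsAssPoint G x := by
    intro x hx hass
    have e1 : G ≅ CohB1.tensorMod (L 0) O := Groth.Agent.Lib.Helper23.AmpleFam2.tensorBraid O (L 0)
    have h2 : Curv2.IsAssPoint (CohB1.tensorMod (L 0) O) x := by
      haveI : Mono e1.inv := inferInstance
      exact isAssPoint_of_mono e1.hom x hass
    exact not_isAssPoint_of_mem_support D hD x hx ((isAssPoint_tensor_invertible_iff (L 0) O (hL 0) x).1 h2)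
  have h1 := dchi_cartier k X l hlinv D hD G hcG hassG
  rw [dchi_snoc k X l hlinv] at h1
  -- `(O ⊗ L_0) ⊗ I ≅ O`
  obtain ⟨eLD⟩ := hLD
  have e2 : Nonempty (CohB1.tensorMod G I ≅ O) := by
    refine iso_trans ⟨Groth.Agent.Lib.Helper23.LocGen.tensorAssoc O (L 0) I⟩ ?_
    exact ⟨Groth.Agent.Lib.Helper23.TensorUnit.unitTensorIso _ ≪≫ eLD⟩
  obtain ⟨e2⟩ := e2
  rw [hadd.iso e2] at h1
  -- `(O ⊗ L_0) ⊗ O_D ≅ O_D ⊗ L_0`
  have e3 : Nonempty (CohB1.tensorMod G OD ≅ CohB1.tensorMod OD (L 0)) := by
    obtain ⟨f⟩ := tensor_congr_right OD ⟨Groth.Agent.Lib.Helper23.TensorUnit.unitTensorIso (L 0)⟩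
    exact ⟨f ≪≫ Groth.Agent.Lib.Helper23.AmpleFam2.tensorBraid (L 0) OD⟩
  obtain ⟨e3⟩ := e3
  rw [hadd.iso e3] at h1
  -- vanishing of the `(e+1)`-fold difference on `O_D`
  have hlen : l.length = e := by rw [hl, List.length_ofFn]
  have hvan : dchi k X (L 0 :: l) OD = 0 := by
    refine dchi_eq_zero k X (L 0 :: l) ?_ OD hcOD ?_
    · intro N hN
      rcases List.mem_cons.1 hN with rfl | hN
      · exact hL 0
      · exact hlinv N hN
    · rw [List.length_cons, hlen, lt_succ_iff_le]
      exact hdimD
  rw [dchi_cons] at hvan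
  have hkey : dchi k X l O - dchi k X l G = - dchi k X l OD := by omega
  rw [hkey]
  push_cast
  ring

end Main

end Groth.Agent.Lib.Helper12.Snap
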