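import Mathlib
import Groth.Agent.Lib.Helper12PosD
import Groth.Agent.Lib.Helper12SnapH
import Groth.Agent.Lib.Helper12PosArith
import Groth.Agent.S0051
set_option backward.isDefEq.respectTransparency.types false

/-!
# Asymptotic Riemann–Roch (helper12) — positivity of intersection numbers, part E

* `dchi_replicate_eq_fwdDiff`: `dchi (replicate j L) (L^n) = (-1)^j Δ^j q (n)` for `q(n) = χ(L^n)`.
* `asymptotic_rr`: for `L` ample on `X` proper of dimension `d` the coefficient of `n_1 ⋯ n_d` of the Snapper polynomial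
  is positive and `h^0(L^n) = c n^d + O(n^{d-1})` with `c = coeff / d!` (S7649).
-/

set_option autoImplicit false
set_option linter.style.haveILetI false
set_option linter.unusedSectionVars false
universe u
open CategoryTheory CategoryTheory.Limits AlgebraicGeometry TopologicalSpace Opposite

namespace Groth.Agent.Lib.Helper12.Pos

open Groth.Agent.Lib.Helper4.Dev Groth.Agent.Lib.Helper4.CurveChi Groth.Agent.Lib.Helper4.KFilt
  Groth.Agent.Lib.Helper12.Snap Groth.Agent.Lib.Helper12.PosArith

section Supp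

variable {X : Scheme.{u}}

theorem support_structureModule : CohB1.support (Coh.structureModule X) = Set.univ := by
  ext x
  simp only [Set.mem_univ, iff_true]
  intro hsub
  exact not_subsingleton _ hsub

theorem dim_support_structureModule :
    topologicalKrullDim ↥(CohB1.support (Coh.structureModule X)) = topologicalKrullDim X := by
  rw [support_structureModule]
  exact IsHomeomorph.topologicalKrullDim_eq _ (Homeomorph.Set.univ X).isHomeomorph

end Supp

variable (k : Type u) [Field k] (X : Scheme.{u}) [X.Over (Spec (CommRingCat.of k))]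
  [IsProper (X ↘ (Spec (CommRingCat.of k)))]

/-- `q(n) = χ(L^n)` -/
noncomputable def chiPow (L : X.Modules) (n : ℕ) : ℤ := Curv2.euler k X (CohB1.tensorPow L n)

theorem dchi_replicate_eq_fwdDiff (L : X.Modules) : ∀ (j n : ℕ),
    dchi k X (List.replicate j L) (CohB1.tensorPow L n) =
      (-1 : ℤ) ^ j * ((fwdDiff (1 : ℕ))^[j] (chiPow k X L)) n := by
  intro j
  induction j with
  | zero =>
    intro n
    simp only [List.replicate_zero, dchi_nil, pow_zero, one_mul, Function.iterate_zero, id_eq]
    rfl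
  | succ j ih =>
    intro n
    rw [List.replicate_succ, dchi_cons]
    change dchi k X (List.replicate j L) (CohB1.tensorPow L n) -
      dchi k X (List.replicate j L) (CohB1.tensorPow L (n + 1)) = _
    rw [ih n, ih (n + 1), Function.iterate_succ_apply']
    change _ = (-1 : ℤ) ^ (j + 1) * (((fwdDiff (1 : ℕ))^[j] (chiPow k X L)) (n + 1) -
      ((fwdDiff (1 : ℕ))^[j] (chiPow k X L)) n)
    rw [pow_succ]
    ring

/-- **Asymptotic Riemann–Roch** (S7649) -/
theorem asymptotic_rr (d : ℕ) (hX : topologicalKrullDim X = (d : WithBot ℕ∞)) (L : X.Modules)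
    (hL : CohB1.IsAmple L) (P : MvPolynomial (Fin d) ℚ)
    (hP : ∀ n : Fin d → ℕ,
      (Curv2.euler k X (Curv2.tensorPows (Coh.structureModule X) d (fun _ => L) n) : ℚ) =
        MvPolynomial.eval (fun i => (n i : ℚ)) P) :
    0 < MvPolynomial.coeff (mono1 d) P ∧
      ∃ C : ℚ, ∀ n : ℕ,
        |(Module.finrank k (Coh.HH X (CohB1.tensorPow L n) 0) : ℚ) -
            MvPolynomial.coeff (mono1 d) P / (d.factorial : ℚ) * (n : ℚ) ^ d| ≤
          C * ((n : ℚ) + 1) ^ (d - 1) := by
  classical
  haveI : IsNoetherian X := Groth.Agent.Lib.Helper4.CurveRR.isNoetherian_of_proper k X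
  haveI : IsLocallyNoetherian X := inferInstance
  have cO := isCoh_structureModule X
  have hsuppO : topologicalKrullDim ↥(CohB1.support (Coh.structureModule X)) = (d : WithBot ℕ∞) := by
    rw [dim_support_structureModule, hX]
  have hcoef := coeff_top_eq_dchi k X (Coh.structureModule X) cO d hsuppO.le (fun _ => L) (fun _ => hL.1) P hP
  rw [List.ofFn_const] at hcoef
  have hrep : ∀ j : ℕ, ∀ M ∈ List.replicate j L, PicF.IsInvertible M := fun j M hM =>
    (List.eq_of_mem_replicate hM) ▸ hL.1
  have hposZ := pos_main k X d (List.replicate d L)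
    (fun M hM => (List.eq_of_mem_replicate hM) ▸ hL) List.length_replicate (Coh.structureModule X) cO hsuppO
  have hpos : 0 < MvPolynomial.coeff (mono1 d) P := by
    rw [hcoef]
    exact_mod_cast hposZ
  refine ⟨hpos, ?_⟩
  -- the function `q(n) = χ(L^n)` and its differences
  set q := chiPow k X L with hq
  have hΔ : ∀ j : ℕ, ((fwdDiff (1 : ℕ))^[j] q) 0 =
      (-1 : ℤ) ^ j * dchi k X (List.replicate j L) (Coh.structureModule X) := by
    intro j
    have h1 := dchi_replicate_eq_fwdDiff k X L j 0
    change dchi k X (List.replicate j L) (Coh.structureModule X) = _ at h1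
    rw [h1, ← mul_assoc, ← mul_pow]
    norm_num
    rfl
  have hvan : ∀ j, d < j → ((fwdDiff (1 : ℕ))^[j] q) 0 = 0 := by
    intro j hj
    rw [hΔ j, dchi_eq_zero k X (List.replicate j L) (hrep j) _ cO, mul_zero]
    rw [List.length_replicate, hsuppO]
    exact_mod_cast hj
  obtain ⟨Q, hQdeg, hQcoeff, hQeval⟩ := exists_poly_of_fwdDiff_vanish q d hvan
  have hQd : Q.coeff d = MvPolynomial.coeff (mono1 d) P / (d.factorial : ℚ) := by
    rw [hQcoeff, hΔ d, hcoef]
    push_cast
    rfl
  -- Serre vanishing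
  obtain ⟨n₀, hn₀⟩ := (Groth.Agent.S0051.result k X (X ↘ (Spec (CommRingCat.of k))) L hL.1).1 hL
    (Coh.structureModule X) cO
  have hh0 : ∀ n : ℕ, n₀ ≤ n →
      (Module.finrank k (Coh.HH X (CohB1.tensorPow L n) 0) : ℚ) = Q.eval (n : ℚ) := by
    intro n hn
    have hvanish : ∀ i, 0 < i → Subsingleton (Coh.HH X (CohB1.tensorPow L n) i) := by
      intro i hi
      haveI := hn₀ n hn i hi
      exact (HHequiv k (Groth.Agent.Lib.Helper23.TensorUnit.unitTensorIso (CohB1.tensorPow L n)) i).symm.toEquiv.subsingleton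
    have h1 := Groth.Agent.Lib.Helper4.ZeroDimChi.euler_eq_finrank_zero k _ hvanish
    rw [hQeval n]
    change _ = ((Curv2.euler k X (CohB1.tensorPow L n) : ℤ) : ℚ)
    rw [h1]
    push_cast
    rfl
  set c := MvPolynomial.coeff (mono1 d) P / (d.factorial : ℚ) with hc
  set S := ∑ j ∈ Finset.range d, |Q.coeff j| with hS
  set g : ℕ → ℚ := fun n => |(Module.finrank k (Coh.HH X (CohB1.tensorPow L n) 0) : ℚ) - c * (n : ℚ) ^ d| with hg
  set T := ∑ n ∈ Finset.range n₀, g n with hT
  have hS0 : 0 ≤ S := Finset.sum_nonneg fun _ _ => abs_nonneg _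
  have hT0 : 0 ≤ T := Finset.sum_nonneg fun _ _ => abs_nonneg _
  refine ⟨S + T, fun n => ?_⟩
  have hpow1 : (1 : ℚ) ≤ ((n : ℚ) + 1) ^ (d - 1) :=
    one_le_pow₀ (by have : (0 : ℚ) ≤ (n : ℚ) := Nat.cast_nonneg n; linarith)
  by_cases hn : n₀ ≤ n
  · rw [hh0 n hn, ← hQd]
    refine (abs_eval_sub_le Q d hQdeg n).trans ?_
    exact mul_le_mul_of_nonneg_right (by linarith) (by linarith)
  · have hmem : n ∈ Finset.range n₀ := Finset.mem_range.2 (not_le.1 hn)
    have h1 : g n ≤ T := Finset.single_le_sum (f := g) (fun _ _ => abs_nonneg _) hmem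
    calc g n ≤ T := h1
      _ ≤ (S + T) * 1 := by linarith
      _ ≤ (S + T) * ((n : ℚ) + 1) ^ (d - 1) := mul_le_mul_of_nonneg_left hpow1 (by linarith)

end Groth.Agent.Lib.Helper12.Pos
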