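import Mathlib
import Groth.Agent.Lib.Helper12PosE
import Groth.Agent.Lib.Helper3DimCons
import Groth.Prelude.Def_ShStab
set_option backward.isDefEq.respectTransparency.types false

/-!
# Hilbert polynomials of coherent modules on a proper scheme over a field (helper12)

For `X` proper over a field `k`, `L` invertible and `E` coherent:
* `exists_hilbPoly`, `hilbPoly_unique`, `hilbPoly_of_iso`, `hilbPoly_add` (additivity on short exact sequences);
* `alpha_eq`: for `dim Supp E ≤ d`, `StabCat.alpha d P = (-1)^d dchi (replicate d L) E` (an integer), `P.natDegree ≤ d`;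
* `alpha_pos` (`L` ample, `dim Supp E = d`), `alpha_eq_zero` (`dim Supp E < d`).
-/

set_option autoImplicit false
set_option linter.style.haveILetI false
set_option linter.unusedSectionVars false
universe u
open CategoryTheory CategoryTheory.Limits AlgebraicGeometry TopologicalSpace Opposite Polynomial

namespace Groth.Agent.Lib.Helper12.HP

open Groth.Agent.Lib.Helper4.Dev Groth.Agent.Lib.Helper4.CurveChi
  Groth.Agent.Lib.Helper12.Snap Groth.Agent.Lib.Helper12.Pos Groth.Agent.Lib.Helper12.PosArith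

variable (k : Type u) [Field k] (X : Scheme.{u}) [X.Over (Spec (CommRingCat.of k))]
  [IsProper (X ↘ (Spec (CommRingCat.of k)))]

/-- `q(m) = χ(E ⊗ L^m)` -/
noncomputable def chiTw (L E : X.Modules) (m : ℕ) : ℤ := Curv2.euler k X (ShStab.twist X L E m)

theorem twist_succ_iso (L E : X.Modules) (m : ℕ) :
    Nonempty (CohB1.tensorMod (ShStab.twist X L E m) L ≅ ShStab.twist X L E (m + 1)) :=
  ⟨Groth.Agent.Lib.Helper23.LocGen.tensorAssoc E (CohB1.tensorPow L m) L⟩

theorem twist_zero_iso (L E : X.Modules) : Nonempty (ShStab.twist X L E 0 ≅ E) :=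
  ⟨Groth.Agent.Lib.Helper23.TensorUnit.tensorUnitIso E⟩

theorem isAdd_chiTw (L : X.Modules) (hL : PicF.IsInvertible L) (m : ℕ) :
    IsAdd (fun E => chiTw k X L E m) :=
  (isAdd_euler k X).twist (CohB1.tensorPow L m)
    (Groth.Agent.Lib.Helper23.SecTw.isFinLocFreeOfRank_one_of_isInvertible _
      (Groth.Agent.Lib.Helper23.SecTw.isInvertible_tensorPow hL m))

theorem mem_replicate_invertible (L : X.Modules) (hL : PicF.IsInvertible L) (j : ℕ) :
    ∀ M ∈ List.replicate j L, PicF.IsInvertible M := fun M hM =>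
  (List.eq_of_mem_replicate hM) ▸ hL

theorem dchi_replicate_twist (L : X.Modules) (hL : PicF.IsInvertible L) (E : X.Modules) : ∀ (j m : ℕ),
    dchi k X (List.replicate j L) (ShStab.twist X L E m) =
      (-1 : ℤ) ^ j * ((fwdDiff (1 : ℕ))^[j] (chiTw k X L E)) m := by
  intro j
  induction j with
  | zero =>
    intro m
    simp only [List.replicate_zero, dchi_nil, pow_zero, one_mul, Function.iterate_zero, id_eq]
    rfl
  | succ j ih =>
    intro m
    obtain ⟨e⟩ := twist_succ_iso X L E m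
    rw [List.replicate_succ, dchi_cons, (isAdd_dchi k _ _ (mem_replicate_invertible X L hL j)).iso e, ih m,
      ih (m + 1), Function.iterate_succ_apply']
    change _ = (-1 : ℤ) ^ (j + 1) * (((fwdDiff (1 : ℕ))^[j] (chiTw k X L E)) (m + 1) -
      ((fwdDiff (1 : ℕ))^[j] (chiTw k X L E)) m)
    rw [pow_succ]
    ring

theorem fwdDiff_zero_eq (L : X.Modules) (hL : PicF.IsInvertible L) (E : X.Modules) (j : ℕ) :
    ((fwdDiff (1 : ℕ))^[j] (chiTw k X L E)) 0 = (-1 : ℤ) ^ j * dchi k X (List.replicate j L) E := by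
  have h1 := dchi_replicate_twist k X L hL E j 0
  obtain ⟨e⟩ := twist_zero_iso X L E
  rw [(isAdd_dchi k _ _ (mem_replicate_invertible X L hL j)).iso e] at h1
  rw [h1, ← mul_assoc, ← mul_pow]
  norm_num

theorem hilbPoly_unique {L E : X.Modules} {P P' : ℚ[X]} (h : ShStab.IsHilbPoly k X L E P)
    (h' : ShStab.IsHilbPoly k X L E P') : P = P' := by
  apply Polynomial.eq_of_infinite_eval_eq
  apply Set.infinite_of_injective_forall_mem (f := fun m : ℕ => (m : ℚ)) Nat.cast_injective
  intro m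
  change P.eval (m : ℚ) = P'.eval (m : ℚ)
  rw [← h m, ← h' m]

theorem hilbPoly_of_iso (L : X.Modules) (hL : PicF.IsInvertible L) {E E' : X.Modules} (e : E ≅ E') {P : ℚ[X]}
    (h : ShStab.IsHilbPoly k X L E P) : ShStab.IsHilbPoly k X L E' P := by
  intro m
  rw [← h m]
  have := (isAdd_chiTw k X L hL m).iso e
  change chiTw k X L E m = chiTw k X L E' m at this
  change ((chiTw k X L E' m : ℤ) : ℚ) = ((chiTw k X L E m : ℤ) : ℚ)
  rw [this]

theorem hilbPoly_add (L : X.Modules) (hL : PicF.IsInvertible L) (S : ShortComplex X.Modules) (hS : S.ShortExact)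
    (h1 : Coh.IsCoh S.X₁) (h2 : Coh.IsCoh S.X₂) (h3 : Coh.IsCoh S.X₃) {P₁ P₃ : ℚ[X]}
    (hP₁ : ShStab.IsHilbPoly k X L S.X₁ P₁) (hP₃ : ShStab.IsHilbPoly k X L S.X₃ P₃) :
    ShStab.IsHilbPoly k X L S.X₂ (P₁ + P₃) := by
  intro m
  have := (isAdd_chiTw k X L hL m).add S hS h1 h2 h3
  change chiTw k X L S.X₂ m = chiTw k X L S.X₁ m + chiTw k X L S.X₃ m at this
  change ((chiTw k X L S.X₂ m : ℤ) : ℚ) = _
  rw [this, Polynomial.eval_add, ← hP₁ m, ← hP₃ m]
  push_cast
  rfl

/-- existence of the Hilbert polynomial, with its degree bound and top coefficient -/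
theorem exists_hilbPoly_of_dim_le (L : X.Modules) (hL : PicF.IsInvertible L) (E : X.Modules) (hE : Coh.IsCoh E)
    (r : ℕ) (hr : topologicalKrullDim ↥(CohB1.support E) ≤ (r : WithBot ℕ∞)) :
    ∃ P : ℚ[X], ShStab.IsHilbPoly k X L E P ∧ P.natDegree ≤ r ∧
      P.coeff r = (((-1 : ℤ) ^ r * dchi k X (List.replicate r L) E : ℤ) : ℚ) / (r.factorial : ℚ) := by
  have hvan : ∀ j, r < j → ((fwdDiff (1 : ℕ))^[j] (chiTw k X L E)) 0 = 0 := by
    intro j hj
    rw [fwdDiff_zero_eq k X L hL E j,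
      dchi_eq_zero k _ (List.replicate j L) (mem_replicate_invertible X L hL j) _ hE, mul_zero]
    rw [List.length_replicate]
    refine lt_of_le_of_lt hr ?_
    exact_mod_cast hj
  obtain ⟨Q, hQdeg, hQcoeff, hQeval⟩ := exists_poly_of_fwdDiff_vanish (chiTw k X L E) r hvan
  refine ⟨Q, fun m => (hQeval m).symm, hQdeg, ?_⟩
  rw [hQcoeff, fwdDiff_zero_eq k X L hL E r]

include k in
theorem exists_nat_dim_le : ∃ r : ℕ, topologicalKrullDim X ≤ (r : WithBot ℕ∞) := by
  haveI : IsNoetherian X := Groth.Agent.Lib.Helper4.CurveRR.isNoetherian_of_proper k X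
  have h := Groth.Agent.Lib.Helper3.DimCons.topologicalKrullDim_lt_top_of_lft_field k
    (X ↘ (Spec (CommRingCat.of k)))
  generalize topologicalKrullDim X = D at h
  induction D using WithBot.recBotCoe with
  | bot => exact ⟨0, bot_le⟩
  | coe D =>
    induction D using ENat.recTopCoe with
    | top => exact absurd h (lt_irrefl _)
    | coe D => exact ⟨D, le_rfl⟩

theorem exists_hilbPoly (L : X.Modules) (hL : PicF.IsInvertible L) (E : X.Modules) (hE : Coh.IsCoh E) :
    ∃ P : ℚ[X], ShStab.IsHilbPoly k X L E P := by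
  obtain ⟨r, hr⟩ := exists_nat_dim_le k X
  obtain ⟨P, hP, -⟩ := exists_hilbPoly_of_dim_le k X L hL E hE r
    ((topologicalKrullDim_subspace_le _ _).trans hr)
  exact ⟨P, hP⟩

/-- the multiplicity `α_d` of a Hilbert polynomial is an intersection number -/
theorem alpha_eq (L : X.Modules) (hL : PicF.IsInvertible L) (E : X.Modules) (hE : Coh.IsCoh E)
    (d : ℕ) (hd : topologicalKrullDim ↥(CohB1.support E) ≤ (d : WithBot ℕ∞)) {P : ℚ[X]}
    (hP : ShStab.IsHilbPoly k X L E P) :
    P.natDegree ≤ d ∧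
      StabCat.alpha d P = (((-1 : ℤ) ^ d * dchi k X (List.replicate d L) E : ℤ) : ℚ) := by
  obtain ⟨Q, hQ, hQdeg, hQcoeff⟩ := exists_hilbPoly_of_dim_le k X L hL E hE d hd
  have hPQ := hilbPoly_unique k X hP hQ
  subst hPQ
  refine ⟨hQdeg, ?_⟩
  unfold StabCat.alpha
  rw [hQcoeff]
  have hfac : (d.factorial : ℚ) ≠ 0 := by exact_mod_cast d.factorial_ne_zero
  field_simp

theorem alpha_pos (L : X.Modules) (hL : CohB1.IsAmple L) (E : X.Modules) (hE : Coh.IsCoh E)
    (d : ℕ) (hd : topologicalKrullDim ↥(CohB1.support E) = (d : WithBot ℕ∞)) {P : ℚ[X]}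
    (hP : ShStab.IsHilbPoly k X L E P) : 0 < StabCat.alpha d P := by
  rw [(alpha_eq k X L hL.1 E hE d hd.le hP).2]
  have hpos := pos_main k X d (List.replicate d L)
    (fun M hM => (List.eq_of_mem_replicate hM) ▸ hL) List.length_replicate E hE hd
  exact_mod_cast hpos

theorem alpha_eq_zero (L : X.Modules) (hL : PicF.IsInvertible L) (E : X.Modules) (hE : Coh.IsCoh E)
    (d : ℕ) (hd : topologicalKrullDim ↥(CohB1.support E) < (d : WithBot ℕ∞)) {P : ℚ[X]}
    (hP : ShStab.IsHilbPoly k X L E P) : StabCat.alpha d P = 0 := by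
  rw [(alpha_eq k X L hL E hE d hd.le hP).2,
    dchi_eq_zero k _ (List.replicate d L) (mem_replicate_invertible X L hL d) _ hE, mul_zero]
  · rfl
  · rw [List.length_replicate]
    exact hd

end Groth.Agent.Lib.Helper12.HP
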