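import Mathlib
import Groth.Prelude.Def_StabCat

/-!
# The eventual order on rational polynomials and reduced comparison (helper12)

Pure Mathlib + `Def_StabCat`.  `PolyLE`/`PolyLT` form a total preorder on `ℚ[X]` (`trichotomy`), `alpha d` is
linear, and the reduced comparisons `RedLE`/`RedLT`/`RedEq` satisfy the seesaw property for `P_E = P_F + P_G`.
-/

set_option autoImplicit false
universe u
open Polynomial StabCat

namespace Groth.Agent.Lib.Helper12.HPB

theorem alpha_add (d : ℕ) (P Q : ℚ[X]) : alpha d (P + Q) = alpha d P + alpha d Q := by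
  unfold alpha
  rw [coeff_add]
  ring

theorem alpha_zero (d : ℕ) : alpha d (0 : ℚ[X]) = 0 := by
  unfold alpha
  simp

theorem alpha_smul (d : ℕ) (c : ℚ) (P : ℚ[X]) : alpha d (c • P) = c * alpha d P := by
  unfold alpha
  rw [coeff_smul, smul_eq_mul]
  ring

theorem alpha_sub (d : ℕ) (P Q : ℚ[X]) : alpha d (P - Q) = alpha d P - alpha d Q := by
  unfold alpha
  rw [coeff_sub]
  ring

/-- a polynomial with positive leading coefficient is eventually positive on the naturals -/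
theorem eventually_pos (P : ℚ[X]) (h : 0 < P.leadingCoeff) :
    ∃ N : ℕ, ∀ m : ℕ, N ≤ m → 0 < P.eval (m : ℚ) := by
  by_cases hdeg : P.natDegree = 0
  · refine ⟨0, fun m _ => ?_⟩
    rw [eq_C_of_natDegree_eq_zero hdeg, eval_C]
    unfold leadingCoeff at h
    rwa [hdeg] at h
  · have hd : 0 < P.degree := natDegree_pos_iff_degree_pos.1 (Nat.pos_of_ne_zero hdeg)
    have ht := P.tendsto_atTop_of_leadingCoeff_nonneg hd h.le
    have h1 := (Filter.tendsto_atTop.1 ht) 1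
    obtain ⟨a, ha⟩ := Filter.eventually_atTop.1 h1
    refine ⟨⌈a⌉₊, fun m hm => ?_⟩
    have : a ≤ (m : ℚ) := (Nat.le_ceil a).trans (by exact_mod_cast hm)
    exact lt_of_lt_of_le one_pos (ha _ this)

theorem polyLE_refl (P : ℚ[X]) : PolyLE P P := ⟨0, fun _ _ => le_rfl⟩

theorem polyLE_of_eq {P Q : ℚ[X]} (h : P = Q) : PolyLE P Q := h ▸ polyLE_refl P

theorem polyLE_of_polyLT {P Q : ℚ[X]} (h : PolyLT P Q) : PolyLE P Q := by
  obtain ⟨N, hN⟩ := h
  exact ⟨N, fun m hm => (hN m hm).le⟩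

theorem polyLE_trans {P Q R : ℚ[X]} (h₁ : PolyLE P Q) (h₂ : PolyLE Q R) : PolyLE P R := by
  obtain ⟨N₁, h₁⟩ := h₁
  obtain ⟨N₂, h₂⟩ := h₂
  exact ⟨max N₁ N₂, fun m hm =>
    (h₁ m ((le_max_left _ _).trans hm)).trans (h₂ m ((le_max_right _ _).trans hm))⟩

theorem polyLT_of_polyLT_of_polyLE {P Q R : ℚ[X]} (h₁ : PolyLT P Q) (h₂ : PolyLE Q R) : PolyLT P R := by
  obtain ⟨N₁, h₁⟩ := h₁
  obtain ⟨N₂, h₂⟩ := h₂
  exact ⟨max N₁ N₂, fun m hm =>
    lt_of_lt_of_le (h₁ m ((le_max_left _ _).trans hm)) (h₂ m ((le_max_right _ _).trans hm))⟩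

theorem polyLT_of_polyLE_of_polyLT {P Q R : ℚ[X]} (h₁ : PolyLE P Q) (h₂ : PolyLT Q R) : PolyLT P R := by
  obtain ⟨N₁, h₁⟩ := h₁
  obtain ⟨N₂, h₂⟩ := h₂
  exact ⟨max N₁ N₂, fun m hm =>
    lt_of_le_of_lt (h₁ m ((le_max_left _ _).trans hm)) (h₂ m ((le_max_right _ _).trans hm))⟩

theorem not_polyLT_self (P : ℚ[X]) : ¬ PolyLT P P := by
  rintro ⟨N, hN⟩
  exact lt_irrefl _ (hN N le_rfl)

theorem not_polyLT_of_polyLE {P Q : ℚ[X]} (h : PolyLE Q P) : ¬ PolyLT P Q := fun h' =>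
  not_polyLT_self P (polyLT_of_polyLT_of_polyLE h' h)

theorem polyLE_antisymm {P Q : ℚ[X]} (h₁ : PolyLE P Q) (h₂ : PolyLE Q P) : P = Q := by
  obtain ⟨N₁, h₁⟩ := h₁
  obtain ⟨N₂, h₂⟩ := h₂
  apply Polynomial.eq_of_infinite_eval_eq
  apply Set.infinite_of_injective_forall_mem (f := fun m : ℕ => ((m + max N₁ N₂ : ℕ) : ℚ))
  · intro a b hab
    have hab' : ((a + max N₁ N₂ : ℕ) : ℚ) = ((b + max N₁ N₂ : ℕ) : ℚ) := hab
    have : (a + max N₁ N₂ : ℕ) = b + max N₁ N₂ := by exact_mod_cast hab'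
    omega
  · intro m
    exact le_antisymm (h₁ _ ((le_max_left _ _).trans (Nat.le_add_left _ _)))
      (h₂ _ ((le_max_right _ _).trans (Nat.le_add_left _ _)))

/-- trichotomy of the eventual order -/
theorem trichotomy (P Q : ℚ[X]) : PolyLT P Q ∨ P = Q ∨ PolyLT Q P := by
  by_cases h : P = Q
  · exact Or.inr (Or.inl h)
  · have hne : Q - P ≠ 0 := sub_ne_zero.2 (Ne.symm h)
    have hl : (Q - P).leadingCoeff ≠ 0 := leadingCoeff_ne_zero.2 hne
    rcases lt_or_gt_of_ne hl with hneg | hpos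
    · right; right
      have h1 : 0 < (P - Q).leadingCoeff := by
        have : P - Q = -(Q - P) := by ring
        rw [this, leadingCoeff_neg]
        linarith
      obtain ⟨N, hN⟩ := eventually_pos _ h1
      refine ⟨N, fun m hm => ?_⟩
      have := hN m hm
      rw [eval_sub] at this
      linarith
    · left
      obtain ⟨N, hN⟩ := eventually_pos _ hpos
      refine ⟨N, fun m hm => ?_⟩
      have := hN m hm
      rw [eval_sub] at this
      linarith

theorem polyLE_of_not_polyLT {P Q : ℚ[X]} (h : ¬ PolyLT Q P) : PolyLE P Q := by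
  rcases trichotomy P Q with h1 | h1 | h1
  · exact polyLE_of_polyLT h1
  · exact polyLE_of_eq h1
  · exact absurd h1 h

theorem polyLT_of_not_polyLE {P Q : ℚ[X]} (h : ¬ PolyLE Q P) : PolyLT P Q := by
  rcases trichotomy P Q with h1 | h1 | h1
  · exact h1
  · exact absurd (polyLE_of_eq h1.symm) h
  · exact absurd (polyLE_of_polyLT h1) h

theorem polyLE_total (P Q : ℚ[X]) : PolyLE P Q ∨ PolyLE Q P := by
  rcases trichotomy P Q with h1 | h1 | h1
  · exact Or.inl (polyLE_of_polyLT h1)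
  · exact Or.inl (polyLE_of_eq h1)
  · exact Or.inr (polyLE_of_polyLT h1)

theorem polyLT_or_eq_of_polyLE {P Q : ℚ[X]} (h : PolyLE P Q) : PolyLT P Q ∨ P = Q := by
  rcases trichotomy P Q with h1 | h1 | h1
  · exact Or.inl h1
  · exact Or.inr h1
  · exact absurd h1 (not_polyLT_of_polyLE h)

/-! ### pointwise transfer -/

/-- transfer of an eventual inequality through a pointwise implication -/
theorem polyLE_of_forall {P Q P' Q' : ℚ[X]} (h : PolyLE P Q)
    (hpt : ∀ x : ℚ, P.eval x ≤ Q.eval x → P'.eval x ≤ Q'.eval x) : PolyLE P' Q' := by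
  obtain ⟨N, hN⟩ := h
  exact ⟨N, fun m hm => hpt _ (hN m hm)⟩

theorem polyLT_of_forall {P Q P' Q' : ℚ[X]} (h : PolyLT P Q)
    (hpt : ∀ x : ℚ, P.eval x < Q.eval x → P'.eval x < Q'.eval x) : PolyLT P' Q' := by
  obtain ⟨N, hN⟩ := h
  exact ⟨N, fun m hm => hpt _ (hN m hm)⟩

theorem polyLE_of_forall₂ {P₁ Q₁ P₂ Q₂ P' Q' : ℚ[X]} (h₁ : PolyLE P₁ Q₁) (h₂ : PolyLE P₂ Q₂)
    (hpt : ∀ x : ℚ, P₁.eval x ≤ Q₁.eval x → P₂.eval x ≤ Q₂.eval x → P'.eval x ≤ Q'.eval x) :
    PolyLE P' Q' := by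
  obtain ⟨N₁, h₁⟩ := h₁
  obtain ⟨N₂, h₂⟩ := h₂
  exact ⟨max N₁ N₂, fun m hm =>
    hpt _ (h₁ m ((le_max_left _ _).trans hm)) (h₂ m ((le_max_right _ _).trans hm))⟩

theorem polyLT_of_forall₂_le_lt {P₁ Q₁ P₂ Q₂ P' Q' : ℚ[X]} (h₁ : PolyLE P₁ Q₁) (h₂ : PolyLT P₂ Q₂)
    (hpt : ∀ x : ℚ, P₁.eval x ≤ Q₁.eval x → P₂.eval x < Q₂.eval x → P'.eval x < Q'.eval x) :
    PolyLT P' Q' := by
  obtain ⟨N₁, h₁⟩ := h₁
  obtain ⟨N₂, h₂⟩ := h₂
  exact ⟨max N₁ N₂, fun m hm =>
    hpt _ (h₁ m ((le_max_left _ _).trans hm)) (h₂ m ((le_max_right _ _).trans hm))⟩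

/-! ### reduced comparison -/

theorem redLE_refl (d : ℕ) (P : ℚ[X]) : RedLE d P P := polyLE_refl _

theorem redEq_refl (d : ℕ) (P : ℚ[X]) : RedEq d P P := rfl

theorem redEq_symm {d : ℕ} {P Q : ℚ[X]} (h : RedEq d P Q) : RedEq d Q P := Eq.symm h

theorem redLE_of_redEq {d : ℕ} {P Q : ℚ[X]} (h : RedEq d P Q) : RedLE d P Q := polyLE_of_eq h

theorem redLE_of_redLT {d : ℕ} {P Q : ℚ[X]} (h : RedLT d P Q) : RedLE d P Q := polyLE_of_polyLT h

theorem not_redLT_self (d : ℕ) (P : ℚ[X]) : ¬ RedLT d P P := not_polyLT_self _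

theorem not_redLT_of_redLE {d : ℕ} {P Q : ℚ[X]} (h : RedLE d Q P) : ¬ RedLT d P Q :=
  not_polyLT_of_polyLE h

theorem redEq_of_redLE_of_redLE {d : ℕ} {P Q : ℚ[X]} (h₁ : RedLE d P Q) (h₂ : RedLE d Q P) : RedEq d P Q :=
  polyLE_antisymm h₁ h₂

theorem red_trichotomy (d : ℕ) (P Q : ℚ[X]) : RedLT d P Q ∨ RedEq d P Q ∨ RedLT d Q P := by
  rcases trichotomy (alpha d Q • P) (alpha d P • Q) with h | h | h
  · exact Or.inl h
  · exact Or.inr (Or.inl h)
  · exact Or.inr (Or.inr h)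

theorem redLE_of_not_redLT {d : ℕ} {P Q : ℚ[X]} (h : ¬ RedLT d Q P) : RedLE d P Q :=
  polyLE_of_not_polyLT h

theorem redLT_of_not_redLE {d : ℕ} {P Q : ℚ[X]} (h : ¬ RedLE d Q P) : RedLT d P Q :=
  polyLT_of_not_polyLE h

theorem redLT_or_redEq_of_redLE {d : ℕ} {P Q : ℚ[X]} (h : RedLE d P Q) : RedLT d P Q ∨ RedEq d P Q :=
  polyLT_or_eq_of_polyLE h

theorem redLE_zero_right (d : ℕ) (P : ℚ[X]) : RedLE d P 0 := by
  unfold RedLE
  rw [alpha_zero, zero_smul, smul_zero]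
  exact polyLE_refl _

theorem redLE_zero_left (d : ℕ) (P : ℚ[X]) : RedLE d 0 P := by
  unfold RedLE
  rw [alpha_zero, zero_smul, smul_zero]
  exact polyLE_refl _

/-- seesaw: for `P_E = P_F + P_G`, `p(F) ≤ p(E) ↔ p(F) ≤ p(G)` -/
theorem redLE_add_iff_left (d : ℕ) (F G : ℚ[X]) : RedLE d F (F + G) ↔ RedLE d F G := by
  unfold RedLE
  rw [alpha_add]
  constructor
  · intro h
    refine polyLE_of_forall h fun x hx => ?_
    simp only [eval_smul, eval_add, smul_eq_mul] at hx ⊢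
    linarith
  · intro h
    refine polyLE_of_forall h fun x hx => ?_
    simp only [eval_smul, eval_add, smul_eq_mul] at hx ⊢
    linarith

/-- seesaw: for `P_E = P_F + P_G`, `p(E) ≤ p(G) ↔ p(F) ≤ p(G)` -/
theorem redLE_add_iff_right (d : ℕ) (F G : ℚ[X]) : RedLE d (F + G) G ↔ RedLE d F G := by
  unfold RedLE
  rw [alpha_add]
  constructor
  · intro h
    refine polyLE_of_forall h fun x hx => ?_
    simp only [eval_smul, eval_add, smul_eq_mul] at hx ⊢
    linarith
  · intro h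
    refine polyLE_of_forall h fun x hx => ?_
    simp only [eval_smul, eval_add, smul_eq_mul] at hx ⊢
    linarith

theorem redLT_add_iff_left (d : ℕ) (F G : ℚ[X]) : RedLT d F (F + G) ↔ RedLT d F G := by
  unfold RedLT
  rw [alpha_add]
  constructor
  · intro h
    refine polyLT_of_forall h fun x hx => ?_
    simp only [eval_smul, eval_add, smul_eq_mul] at hx ⊢
    linarith
  · intro h
    refine polyLT_of_forall h fun x hx => ?_
    simp only [eval_smul, eval_add, smul_eq_mul] at hx ⊢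
    linarith

theorem redLT_add_iff_right (d : ℕ) (F G : ℚ[X]) : RedLT d (F + G) G ↔ RedLT d F G := by
  unfold RedLT
  rw [alpha_add]
  constructor
  · intro h
    refine polyLT_of_forall h fun x hx => ?_
    simp only [eval_smul, eval_add, smul_eq_mul] at hx ⊢
    linarith
  · intro h
    refine polyLT_of_forall h fun x hx => ?_
    simp only [eval_smul, eval_add, smul_eq_mul] at hx ⊢
    linarith

/-- seesaw, other side: `p(G) ≤ p(E) ↔ p(G) ≤ p(F)` -/
theorem redLE_add_iff_left' (d : ℕ) (F G : ℚ[X]) : RedLE d G (F + G) ↔ RedLE d G F := by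
  rw [add_comm]
  exact redLE_add_iff_left d G F

theorem redLE_add_iff_right' (d : ℕ) (F G : ℚ[X]) : RedLE d (F + G) F ↔ RedLE d G F := by
  rw [add_comm]
  exact redLE_add_iff_right d G F

theorem redLT_add_iff_left' (d : ℕ) (F G : ℚ[X]) : RedLT d G (F + G) ↔ RedLT d G F := by
  rw [add_comm]
  exact redLT_add_iff_left d G F

theorem redLT_add_iff_right' (d : ℕ) (F G : ℚ[X]) : RedLT d (F + G) F ↔ RedLT d G F := by
  rw [add_comm]
  exact redLT_add_iff_right d G F

theorem redEq_add_iff_left (d : ℕ) (F G : ℚ[X]) : RedEq d F (F + G) ↔ RedEq d F G := by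
  unfold RedEq
  rw [alpha_add, add_smul, smul_add]
  constructor
  · intro h
    have : alpha d G • F = alpha d F • G := by
      have h2 : alpha d F • F + alpha d G • F = alpha d F • F + alpha d F • G := h
      exact add_left_cancel h2
    exact this
  · intro h
    rw [h]

theorem redEq_add_iff_right (d : ℕ) (F G : ℚ[X]) : RedEq d (F + G) G ↔ RedEq d F G := by
  unfold RedEq
  rw [alpha_add, add_smul, smul_add]
  constructor
  · intro h
    have h2 : alpha d G • F + alpha d G • G = alpha d F • G + alpha d G • G := h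
    exact add_right_cancel h2
  · intro h
    rw [h]

/-- transitivity of the reduced comparison through a polynomial of positive multiplicity -/
theorem redLE_trans {d : ℕ} {P Q R : ℚ[X]} (hQ : 0 < alpha d Q) (hP : 0 ≤ alpha d P) (hR : 0 ≤ alpha d R)
    (h₁ : RedLE d P Q) (h₂ : RedLE d Q R) : RedLE d P R := by
  unfold RedLE at *
  refine polyLE_of_forall₂ h₁ h₂ fun x hx hy => ?_
  simp only [eval_smul, smul_eq_mul] at hx hy ⊢
  have h3 : alpha d Q * (alpha d R * P.eval x) ≤ alpha d Q * (alpha d P * R.eval x) := by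
    have e1 : alpha d R * (alpha d Q * P.eval x) ≤ alpha d R * (alpha d P * Q.eval x) :=
      mul_le_mul_of_nonneg_left hx hR
    have e2 : alpha d P * (alpha d R * Q.eval x) ≤ alpha d P * (alpha d Q * R.eval x) :=
      mul_le_mul_of_nonneg_left hy hP
    nlinarith
  exact le_of_mul_le_mul_left h3 hQ

theorem redLT_of_redLT_of_redLE {d : ℕ} {P Q R : ℚ[X]} (hQ : 0 < alpha d Q) (hP : 0 ≤ alpha d P)
    (hR : 0 < alpha d R) (h₁ : RedLT d P Q) (h₂ : RedLE d Q R) : RedLT d P R := by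
  unfold RedLE RedLT at *
  refine polyLT_of_forall₂_le_lt h₂ h₁ fun x hy hx => ?_
  simp only [eval_smul, smul_eq_mul] at hx hy ⊢
  have h3 : alpha d Q * (alpha d R * P.eval x) < alpha d Q * (alpha d P * R.eval x) := by
    have e1 : alpha d R * (alpha d Q * P.eval x) < alpha d R * (alpha d P * Q.eval x) :=
      mul_lt_mul_of_pos_left hx hR
    have e2 : alpha d P * (alpha d R * Q.eval x) ≤ alpha d P * (alpha d Q * R.eval x) :=
      mul_le_mul_of_nonneg_left hy hP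
    nlinarith
  exact lt_of_mul_lt_mul_left h3 hQ.le

theorem redLT_of_redLE_of_redLT {d : ℕ} {P Q R : ℚ[X]} (hQ : 0 < alpha d Q) (hP : 0 < alpha d P)
    (hR : 0 ≤ alpha d R) (h₁ : RedLE d P Q) (h₂ : RedLT d Q R) : RedLT d P R := by
  unfold RedLE RedLT at *
  refine polyLT_of_forall₂_le_lt h₁ h₂ fun x hx hy => ?_
  simp only [eval_smul, smul_eq_mul] at hx hy ⊢
  have h3 : alpha d Q * (alpha d R * P.eval x) < alpha d Q * (alpha d P * R.eval x) := by
    have e1 : alpha d R * (alpha d Q * P.eval x) ≤ alpha d R * (alpha d P * Q.eval x) :=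
      mul_le_mul_of_nonneg_left hx hR
    have e2 : alpha d P * (alpha d R * Q.eval x) < alpha d P * (alpha d Q * R.eval x) :=
      mul_lt_mul_of_pos_left hy hP
    nlinarith
  exact lt_of_mul_lt_mul_left h3 hQ.le

theorem redEq_trans {d : ℕ} {P Q R : ℚ[X]} (hQ : alpha d Q ≠ 0)
    (h₁ : RedEq d P Q) (h₂ : RedEq d Q R) : RedEq d P R := by
  unfold RedEq at *
  have h3 : alpha d Q • (alpha d R • P) = alpha d Q • (alpha d P • R) := by
    rw [smul_comm, h₁, smul_comm (alpha d R), h₂, smul_comm (alpha d P)]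
  exact smul_right_injective _ hQ h3

end Groth.Agent.Lib.Helper12.HPB
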