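import Mathlib
import Groth.Agent.Lib.Helper12HilbPolyA
import Groth.Agent.Lib.Helper12HilbPolyB
set_option backward.isDefEq.respectTransparency.types false

/-!
# Semistable sheaves: first properties (helper12)

`X` proper over a field `k`, `L` ample.  Sub- and quotient comparisons for (semi)stable sheaves, morphisms between
(semi)stable sheaves (`hom_eq_zero`, `mono_of_stable`, `epi_of_stable`, `isIso_of_stable`), purity from the
inequality (`isPure_of_isSS`), uniqueness of the maximal destabilising submodule.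
-/

set_option autoImplicit false
set_option linter.style.haveILetI false
set_option linter.unusedSectionVars false
set_option linter.unusedVariables false
universe u
open CategoryTheory CategoryTheory.Limits AlgebraicGeometry TopologicalSpace Opposite Polynomial

namespace Groth.Agent.Lib.Helper12.HPC

open Groth.Agent.Lib.Helper4.Dev Groth.Agent.Lib.Helper4.CurveChi
  Groth.Agent.Lib.Helper12.Snap Groth.Agent.Lib.Helper12.Pos Groth.Agent.Lib.Helper12.HP
  Groth.Agent.Lib.Helper12.HPB StabCat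

section Pure

variable {X : Scheme.{u}}

theorem isPure_of_mono {E F : X.Modules} {d : ℕ} (hp : ShStab.IsPure X E d) (ι : F ⟶ E) [Mono ι] :
    ShStab.IsPure X F d := fun G κ hκ hG hG0 =>
  haveI := hκ
  hp G (κ ≫ ι) (mono_comp κ ι) hG hG0

theorem dim_eq_of_isPure {E : X.Modules} {d : ℕ} (hp : ShStab.IsPure X E d) (hE : Coh.IsCoh E)
    (h0 : ¬ IsZero E) : topologicalKrullDim ↥(CohB1.support E) = (d : WithBot ℕ∞) :=
  hp E (𝟙 E) inferInstance hE h0

theorem dim_le_of_mono {E F : X.Modules} (ι : F ⟶ E) [Mono ι] :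
    topologicalKrullDim ↥(CohB1.support F) ≤ topologicalKrullDim ↥(CohB1.support E) :=
  dim_le_of_subset' (support_subset_of_mono ι)

theorem dim_le_of_epi {E G : X.Modules} (π : E ⟶ G) [Epi π] :
    topologicalKrullDim ↥(CohB1.support G) ≤ topologicalKrullDim ↥(CohB1.support E) :=
  dim_le_of_subset' (support_subset_of_epi π)

theorem support_eq_of_iso {E F : X.Modules} (e : E ≅ F) : CohB1.support E = CohB1.support F :=
  Set.Subset.antisymm (support_subset_of_mono e.hom) (support_subset_of_mono e.inv)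

end Pure

variable (k : Type u) [Field k] (X : Scheme.{u}) [X.Over (Spec (CommRingCat.of k))]
  [IsProper (X ↘ (Spec (CommRingCat.of k)))]

theorem hilbPoly_zero (L : X.Modules) (hL : PicF.IsInvertible L) {E : X.Modules} (hE : IsZero E) :
    ShStab.IsHilbPoly k X L E 0 := by
  haveI : IsNoetherian X := Groth.Agent.Lib.Helper4.CurveRR.isNoetherian_of_proper k X
  haveI : IsLocallyNoetherian X := inferInstance
  intro m
  have := (isAdd_chiTw k X L hL m).zero hE
  change chiTw k X L E m = 0 at this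
  change ((chiTw k X L E m : ℤ) : ℚ) = _
  rw [this]
  simp

theorem alpha_nonneg (L : X.Modules) (hL : CohB1.IsAmple L) (E : X.Modules) (hE : Coh.IsCoh E) (d : ℕ)
    (hd : topologicalKrullDim ↥(CohB1.support E) ≤ (d : WithBot ℕ∞)) {P : ℚ[X]}
    (hP : ShStab.IsHilbPoly k X L E P) : 0 ≤ alpha d P := by
  rcases eq_or_lt_of_le hd with h | h
  · exact (alpha_pos k X L hL E hE d h hP).le
  · exact (alpha_eq_zero k X L hL.1 E hE d h hP).ge

/-- a nonzero coherent module has a Hilbert polynomial with positive leading coefficient -/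
theorem leadingCoeff_pos (L : X.Modules) (hL : CohB1.IsAmple L) (E : X.Modules) (hE : Coh.IsCoh E)
    (h0 : ¬ IsZero E) {P : ℚ[X]} (hP : ShStab.IsHilbPoly k X L E P) : 0 < P.leadingCoeff := by
  have hne : (CohB1.support E).Nonempty := by
    by_contra h
    exact h0 (isZero_of_support_eq_empty E (Set.not_nonempty_iff_eq_empty.1 h))
  obtain ⟨n, hn⟩ := exists_nat_dim_le k X
  have hle : topologicalKrullDim ↥(CohB1.support E) ≤ (n : WithBot ℕ∞) :=
    (topologicalKrullDim_subspace_le _ _).trans hn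
  have h0' : 0 ≤ topologicalKrullDim ↥(CohB1.support E) := by
    haveI : Nonempty ↥(CohB1.support E) := hne.to_subtype
    have : Nonempty (IrreducibleCloseds ↥(CohB1.support E)) :=
      ⟨⟨closure {Classical.arbitrary _}, isIrreducible_singleton.closure, isClosed_closure⟩⟩
    exact Order.krullDim_nonneg
  obtain ⟨r, hr⟩ : ∃ r : ℕ, topologicalKrullDim ↥(CohB1.support E) = (r : WithBot ℕ∞) := by
    generalize topologicalKrullDim ↥(CohB1.support E) = D at hle h0'
    induction D using WithBot.recBotCoe with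
    | bot => exact absurd h0' (by simp)
    | coe D =>
      induction D using ENat.recTopCoe with
      | top =>
        exfalso
        have : ((⊤ : ℕ∞) : WithBot ℕ∞) ≤ ((n : ℕ∞) : WithBot ℕ∞) := hle
        rw [WithBot.coe_le_coe] at this
        exact absurd this (by simp)
      | coe D => exact ⟨D, rfl⟩
  have h1 := alpha_eq k X L hL.1 E hE r hr.le hP
  have h2 := alpha_pos k X L hL E hE r hr hP
  have hc : 0 < P.coeff r := by
    unfold alpha at h2
    have hfac : (0 : ℚ) < (r.factorial : ℚ) := by exact_mod_cast r.factorial_pos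
    exact (mul_pos_iff_of_pos_left hfac).1 h2
  have hnat : P.natDegree = r := le_antisymm h1.1 (le_natDegree_of_ne_zero hc.ne')
  unfold leadingCoeff
  rw [hnat]
  exact hc

theorem isZero_of_hilbPoly_zero (L : X.Modules) (hL : CohB1.IsAmple L) (E : X.Modules) (hE : Coh.IsCoh E)
    (hP : ShStab.IsHilbPoly k X L E 0) : IsZero E := by
  by_contra h0
  have := leadingCoeff_pos k X L hL E hE h0 hP
  simp at this

section SS

variable (L : X.Modules) (hL : CohB1.IsAmple L) (d : ℕ)

theorem isSemistable_of_isStable {E : X.Modules} (h : ShStab.IsStable k X L E d) :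
    ShStab.IsSemistable k X L E d :=
  ⟨h.1, h.2.1, h.2.2.1, fun F ι hι hF hF0 hiso pF pE hpF hpE =>
    redLE_of_redLT (h.2.2.2 F ι hι hF hF0 hiso pF pE hpF hpE)⟩

include hL in
/-- the reduced Hilbert polynomial of any coherent submodule of a semistable sheaf is at most that of the sheaf -/
theorem sub_le {E : X.Modules} (hE : ShStab.IsSemistable k X L E d) {F : X.Modules} (ι : F ⟶ E) [Mono ι]
    (hF : Coh.IsCoh F) {pF pE : ℚ[X]} (hpF : ShStab.IsHilbPoly k X L F pF)
    (hpE : ShStab.IsHilbPoly k X L E pE) : RedLE d pF pE := by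
  by_cases h0 : IsZero F
  · have := hilbPoly_unique k X hpF (hilbPoly_zero k X L hL.1 h0)
    subst this
    exact redLE_zero_left d pE
  · by_cases hi : IsIso ι
    · have := hilbPoly_unique k X (hilbPoly_of_iso k X L hL.1 (asIso ι) hpF) hpE
      subst this
      exact redLE_refl d _
    · exact hE.2.2.2 F ι inferInstance hF h0 hi pF pE hpF hpE

include hL in
/-- additivity of Hilbert polynomials along an epimorphism -/
theorem hilbPoly_eq_add_of_epi {E G : X.Modules} (hE : Coh.IsCoh E) (π : E ⟶ G) [Epi π] (hG : Coh.IsCoh G)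
    {pK pE pG : ℚ[X]} (hpK : ShStab.IsHilbPoly k X L (kernel π) pK) (hpE : ShStab.IsHilbPoly k X L E pE)
    (hpG : ShStab.IsHilbPoly k X L G pG) : pE = pK + pG := by
  haveI : IsNoetherian X := Groth.Agent.Lib.Helper4.CurveRR.isNoetherian_of_proper k X
  haveI : IsLocallyNoetherian X := inferInstance
  have hK : Coh.IsCoh (kernel π) := isCoh_kernel π hE hG
  have hadd := hilbPoly_add k X L hL.1 (sesOfEpi π) (sesOfEpi_shortExact π) hK hE hG hpK hpG
  exact hilbPoly_unique k X hpE hadd

include hL in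
/-- additivity of Hilbert polynomials along a monomorphism -/
theorem hilbPoly_eq_add_of_mono {F E : X.Modules} (hF : Coh.IsCoh F) (ι : F ⟶ E) [Mono ι] (hE : Coh.IsCoh E)
    {pF pE pC : ℚ[X]} (hpF : ShStab.IsHilbPoly k X L F pF) (hpE : ShStab.IsHilbPoly k X L E pE)
    (hpC : ShStab.IsHilbPoly k X L (cokernel ι) pC) : pE = pF + pC := by
  have hC : Coh.IsCoh (cokernel ι) := isCoh_cokernel ι hF hE
  have hadd := hilbPoly_add k X L hL.1 (sesOfMono ι) (sesOfMono_shortExact ι) hF hE hC hpF hpC
  exact hilbPoly_unique k X hpE hadd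

include hL in
/-- the reduced Hilbert polynomial of any coherent quotient of a semistable sheaf is at least that of the sheaf -/
theorem quot_ge {E : X.Modules} (hE : ShStab.IsSemistable k X L E d) {G : X.Modules} (π : E ⟶ G) [Epi π]
    (hG : Coh.IsCoh G) {pE pG : ℚ[X]} (hpE : ShStab.IsHilbPoly k X L E pE)
    (hpG : ShStab.IsHilbPoly k X L G pG) : RedLE d pE pG := by
  haveI : IsNoetherian X := Groth.Agent.Lib.Helper4.CurveRR.isNoetherian_of_proper k X
  haveI : IsLocallyNoetherian X := inferInstance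
  have hK : Coh.IsCoh (kernel π) := isCoh_kernel π hE.1 hG
  obtain ⟨pK, hpK⟩ := exists_hilbPoly k X L hL.1 (kernel π) hK
  have h1 := sub_le k X L hL d hE (kernel.ι π) hK hpK hpE
  have := hilbPoly_eq_add_of_epi k X L hL hE.1 π hG hpK hpE hpG
  subst this
  exact (redLE_add_iff_right d pK pG).2 ((redLE_add_iff_left d pK pG).1 h1)

include hL in
/-- strict version for stable sheaves -/
theorem quot_gt {E : X.Modules} (hE : ShStab.IsStable k X L E d) {G : X.Modules} (π : E ⟶ G) [Epi π]
    (hG : Coh.IsCoh G) (hG0 : ¬ IsZero G) (hπ : ¬ IsIso π) {pE pG : ℚ[X]}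
    (hpE : ShStab.IsHilbPoly k X L E pE) (hpG : ShStab.IsHilbPoly k X L G pG) : RedLT d pE pG := by
  haveI : IsNoetherian X := Groth.Agent.Lib.Helper4.CurveRR.isNoetherian_of_proper k X
  haveI : IsLocallyNoetherian X := inferInstance
  have hK : Coh.IsCoh (kernel π) := isCoh_kernel π hE.1 hG
  obtain ⟨pK, hpK⟩ := exists_hilbPoly k X L hL.1 (kernel π) hK
  have hK0 : ¬ IsZero (kernel π) := fun h => hπ (by
    haveI : Mono π := Preadditive.mono_of_isZero_kernel π h
    exact isIso_of_mono_of_epi π)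
  have hKi : ¬ IsIso (kernel.ι π) := fun h => hG0 (by
    have h1 : π = 0 := by
      haveI := h
      rw [← cancel_epi (kernel.ι π), kernel.condition, Limits.comp_zero]
    rw [IsZero.iff_id_eq_zero, ← cancel_epi π, h1, Limits.zero_comp, Limits.zero_comp])
  have h1 := hE.2.2.2 (kernel π) (kernel.ι π) inferInstance hK hK0 hKi pK pE hpK hpE
  have := hilbPoly_eq_add_of_epi k X L hL hE.1 π hG hpK hpE hpG
  subst this
  exact (redLT_add_iff_right d pK pG).2 ((redLT_add_iff_left d pK pG).1 h1)

include hL in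
theorem alpha_pos_of_isSemistable {E : X.Modules} (hE : ShStab.IsSemistable k X L E d) {pE : ℚ[X]}
    (hpE : ShStab.IsHilbPoly k X L E pE) : 0 < alpha d pE :=
  alpha_pos k X L hL E hE.1 d (dim_eq_of_isPure hE.2.2.1 hE.1 hE.2.1) hpE

include hL in
/-- `Hom(F, G) = 0` for semistable `F`, `G` with `p(F) > p(G)` -/
theorem hom_eq_zero {F G : X.Modules} (hF : ShStab.IsSemistable k X L F d) (hG : ShStab.IsSemistable k X L G d)
    {pF pG : ℚ[X]} (hpF : ShStab.IsHilbPoly k X L F pF) (hpG : ShStab.IsHilbPoly k X L G pG)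
    (hlt : RedLT d pG pF) (φ : F ⟶ G) : φ = 0 := by
  by_contra hφ
  have hI : Coh.IsCoh (Abelian.image φ) := isCoh_image φ hF.1 hG.1
  have hI0 : ¬ IsZero (Abelian.image φ) := fun h => hφ (by
    rw [← Abelian.image.fac φ, h.eq_of_tgt (Abelian.factorThruImage φ) 0, Limits.zero_comp])
  obtain ⟨pI, hpI⟩ := exists_hilbPoly k X L hL.1 _ hI
  have hαI : 0 < alpha d pI := alpha_pos k X L hL _ hI d
    (hG.2.2.1 _ (Abelian.image.ι φ) inferInstance hI hI0) hpI
  have hαF := alpha_pos_of_isSemistable k X L hL d hF hpF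
  have hαG := alpha_pos_of_isSemistable k X L hL d hG hpG
  have h1 := quot_ge k X L hL d hF (Abelian.factorThruImage φ) hI hpF hpI
  have h2 := sub_le k X L hL d hG (Abelian.image.ι φ) hI hpI hpG
  exact not_redLT_of_redLE (redLE_trans hαI hαF.le hαG.le h1 h2) hlt

include hL in
/-- a nonzero morphism from a stable sheaf to a semistable sheaf with the same reduced Hilbert polynomial is injective -/
theorem mono_of_stable {F G : X.Modules} (hF : ShStab.IsStable k X L F d) (hG : ShStab.IsSemistable k X L G d)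
    {pF pG : ℚ[X]} (hpF : ShStab.IsHilbPoly k X L F pF) (hpG : ShStab.IsHilbPoly k X L G pG)
    (heq : RedEq d pF pG) (φ : F ⟶ G) (hφ : φ ≠ 0) : Mono φ := by
  by_contra hmono
  have hI : Coh.IsCoh (Abelian.image φ) := isCoh_image φ hF.1 hG.1
  have hI0 : ¬ IsZero (Abelian.image φ) := fun h => hφ (by
    rw [← Abelian.image.fac φ, h.eq_of_tgt (Abelian.factorThruImage φ) 0, Limits.zero_comp])
  obtain ⟨pI, hpI⟩ := exists_hilbPoly k X L hL.1 _ hI
  have hαI : 0 < alpha d pI := alpha_pos k X L hL _ hI d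
    (hG.2.2.1 _ (Abelian.image.ι φ) inferInstance hI hI0) hpI
  have hαF := alpha_pos_of_isSemistable k X L hL d (isSemistable_of_isStable k X L d hF) hpF
  have hαG := alpha_pos_of_isSemistable k X L hL d hG hpG
  have he : ¬ IsIso (Abelian.factorThruImage φ) := fun h => hmono (by
    haveI := h
    rw [← Abelian.image.fac φ]
    exact mono_comp _ _)
  have h1 := quot_gt k X L hL d hF (Abelian.factorThruImage φ) hI hI0 he hpF hpI
  have h2 := sub_le k X L hL d hG (Abelian.image.ι φ) hI hpI hpG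
  have h3 := redLT_of_redLT_of_redLE hαI hαF.le hαG h1 h2
  exact not_redLT_of_redLE (redLE_of_redEq (redEq_symm heq)) h3

include hL in
/-- a nonzero morphism from a semistable sheaf to a stable sheaf with the same reduced Hilbert polynomial is surjective -/
theorem epi_of_stable {F G : X.Modules} (hF : ShStab.IsSemistable k X L F d) (hG : ShStab.IsStable k X L G d)
    {pF pG : ℚ[X]} (hpF : ShStab.IsHilbPoly k X L F pF) (hpG : ShStab.IsHilbPoly k X L G pG)
    (heq : RedEq d pF pG) (φ : F ⟶ G) (hφ : φ ≠ 0) : Epi φ := by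
  by_contra hepi
  have hI : Coh.IsCoh (Abelian.image φ) := isCoh_image φ hF.1 hG.1
  have hI0 : ¬ IsZero (Abelian.image φ) := fun h => hφ (by
    rw [← Abelian.image.fac φ, h.eq_of_tgt (Abelian.factorThruImage φ) 0, Limits.zero_comp])
  obtain ⟨pI, hpI⟩ := exists_hilbPoly k X L hL.1 _ hI
  have hαI : 0 < alpha d pI := alpha_pos k X L hL _ hI d
    (hG.2.2.1 _ (Abelian.image.ι φ) inferInstance hI hI0) hpI
  have hαF := alpha_pos_of_isSemistable k X L hL d hF hpF
  have hαG := alpha_pos_of_isSemistable k X L hL d (isSemistable_of_isStable k X L d hG) hpG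
  have hm : ¬ IsIso (Abelian.image.ι φ) := fun h => hepi (by
    haveI := h
    rw [← Abelian.image.fac φ]
    exact epi_comp _ _)
  have h1 := quot_ge k X L hL d hF (Abelian.factorThruImage φ) hI hpF hpI
  have h2 := hG.2.2.2 _ (Abelian.image.ι φ) inferInstance hI hI0 hm pI pG hpI hpG
  have h3 := redLT_of_redLE_of_redLT hαI hαF hαG.le h1 h2
  exact not_redLT_of_redLE (redLE_of_redEq (redEq_symm heq)) h3

include hL in
/-- a monomorphism between coherent modules with the same Hilbert polynomial is an isomorphism -/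
theorem isIso_of_mono_of_hilbPoly_eq {F G : X.Modules} (hF : Coh.IsCoh F) (hG : Coh.IsCoh G) {P : ℚ[X]}
    (hpF : ShStab.IsHilbPoly k X L F P) (hpG : ShStab.IsHilbPoly k X L G P) (φ : F ⟶ G) [Mono φ] :
    IsIso φ := by
  have hC : Coh.IsCoh (cokernel φ) := isCoh_cokernel φ hF hG
  obtain ⟨pC, hpC⟩ := exists_hilbPoly k X L hL.1 _ hC
  have h1 := hilbPoly_eq_add_of_mono k X L hL hF φ hG hpF hpG hpC
  have h2 : pC = 0 := by
    have : P + pC = P + 0 := by rw [← h1, add_zero]
    exact add_left_cancel this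
  subst h2
  have hz := isZero_of_hilbPoly_zero k X L hL _ hC hpC
  haveI : Epi φ := Preadditive.epi_of_isZero_cokernel φ hz
  exact isIso_of_mono_of_epi φ

include hL in
/-- an epimorphism between coherent modules with the same Hilbert polynomial is an isomorphism -/
theorem isIso_of_epi_of_hilbPoly_eq {F G : X.Modules} (hF : Coh.IsCoh F) (hG : Coh.IsCoh G) {P : ℚ[X]}
    (hpF : ShStab.IsHilbPoly k X L F P) (hpG : ShStab.IsHilbPoly k X L G P) (φ : F ⟶ G) [Epi φ] :
    IsIso φ := by
  haveI : IsNoetherian X := Groth.Agent.Lib.Helper4.CurveRR.isNoetherian_of_proper k X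
  haveI : IsLocallyNoetherian X := inferInstance
  have hK : Coh.IsCoh (kernel φ) := isCoh_kernel φ hF hG
  obtain ⟨pK, hpK⟩ := exists_hilbPoly k X L hL.1 _ hK
  have h1 := hilbPoly_eq_add_of_epi k X L hL hF φ hG hpK hpF hpG
  have h2 : pK = 0 := by
    have : pK + P = 0 + P := by rw [← h1, zero_add]
    exact add_right_cancel this
  subst h2
  have hz := isZero_of_hilbPoly_zero k X L hL _ hK hpK
  haveI : Mono φ := Preadditive.mono_of_isZero_kernel φ hz
  exact isIso_of_mono_of_epi φ

include hL in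
/-- a nonzero morphism between semistable sheaves with the same Hilbert polynomial, one of them stable, is an
isomorphism -/
theorem isIso_of_stable {F G : X.Modules} (hF : ShStab.IsSemistable k X L F d)
    (hG : ShStab.IsSemistable k X L G d) (hst : ShStab.IsStable k X L F d ∨ ShStab.IsStable k X L G d)
    {P : ℚ[X]} (hpF : ShStab.IsHilbPoly k X L F P) (hpG : ShStab.IsHilbPoly k X L G P)
    (φ : F ⟶ G) (hφ : φ ≠ 0) : IsIso φ := by
  rcases hst with h | h
  · haveI := mono_of_stable k X L hL d h hG hpF hpG (redEq_refl d P) φ hφ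
    exact isIso_of_mono_of_hilbPoly_eq k X L hL hF.1 hG.1 hpF hpG φ
  · haveI := epi_of_stable k X L hL d hF h hpF hpG (redEq_refl d P) φ hφ
    exact isIso_of_epi_of_hilbPoly_eq k X L hL hF.1 hG.1 hpF hpG φ

include hL in
/-- the inequality of reduced Hilbert polynomials for all submodules forces purity -/
theorem isPure_of_isSS {E : X.Modules} (hE : Coh.IsCoh E)
    (hdim : topologicalKrullDim ↥(CohB1.support E) = (d : WithBot ℕ∞))
    (hss : IsSS Coh.IsCoh (ShStab.IsHilbPoly k X L) d E) : ShStab.IsPure X E d := by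
  intro F ι hι hF hF0
  haveI := hι
  have hle : topologicalKrullDim ↥(CohB1.support F) ≤ (d : WithBot ℕ∞) := (dim_le_of_mono ι).trans hdim.le
  by_contra hne
  have hlt : topologicalKrullDim ↥(CohB1.support F) < (d : WithBot ℕ∞) := lt_of_le_of_ne hle hne
  have hiso : ¬ IsIso ι := fun h => hne (by
    haveI := h
    rw [support_eq_of_iso (asIso ι)]
    exact hdim)
  obtain ⟨pF, hpF⟩ := exists_hilbPoly k X L hL.1 F hF
  obtain ⟨pE, hpE⟩ := exists_hilbPoly k X L hL.1 E hE
  have h1 := hss F ι hι hF hF0 hiso pF pE hpF hpE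
  have hαF := alpha_eq_zero k X L hL.1 F hF d hlt hpF
  have hαE := alpha_pos k X L hL E hE d hdim hpE
  obtain ⟨N, hN⟩ := eventually_pos pF (leadingCoeff_pos k X L hL F hF hF0 hpF)
  obtain ⟨N', hN'⟩ := h1
  have h2 := hN' (max N N') (le_max_right _ _)
  have h3 := hN (max N N') (le_max_left _ _)
  rw [hαF] at h2
  simp only [eval_smul, smul_eq_mul, zero_mul] at h2
  have := mul_pos hαE h3
  linarith

include hL in
/-- uniqueness of the maximal destabilising submodule -/
theorem maxDestab_unique {E F₁ F₂ : X.Modules} (ι₁ : F₁ ⟶ E) (ι₂ : F₂ ⟶ E)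
    (h₁ : ShStab.IsMaxDestab k X L E d F₁ ι₁) (h₂ : ShStab.IsMaxDestab k X L E d F₂ ι₂) :
    ∃ e : F₁ ≅ F₂, e.hom ≫ ι₂ = ι₁ := by
  obtain ⟨m₁, c₁, z₁, H₁⟩ := h₁
  obtain ⟨m₂, c₂, z₂, H₂⟩ := h₂
  haveI := m₁
  haveI := m₂
  obtain ⟨p₁, hp₁⟩ := exists_hilbPoly k X L hL.1 F₁ c₁
  obtain ⟨p₂, hp₂⟩ := exists_hilbPoly k X L hL.1 F₂ c₂
  obtain ⟨le21, f21⟩ := H₁ F₂ ι₂ m₂ c₂ z₂ p₁ p₂ hp₁ hp₂
  obtain ⟨le12, f12⟩ := H₂ F₁ ι₁ m₁ c₁ z₁ p₂ p₁ hp₂ hp₁
  obtain ⟨φ21, hφ21⟩ := f21 (redEq_of_redLE_of_redLE le21 le12)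
  obtain ⟨φ12, hφ12⟩ := f12 (redEq_of_redLE_of_redLE le12 le21)
  refine ⟨⟨φ12, φ21, ?_, ?_⟩, hφ12⟩
  · rw [← cancel_mono ι₁, Category.assoc, hφ21, hφ12, Category.id_comp]
  · rw [← cancel_mono ι₂, Category.assoc, hφ12, hφ21, Category.id_comp]

end SS

end Groth.Agent.Lib.Helper12.HPC
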