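import Mathlib
import Groth.Agent.Lib.Helper12HilbPolyB

/-!
# Truncations of polynomials and the eventual order (helper12)

Pure Mathlib + `Def_StabCat`.  `topPart ℓ d` is linear, keeps `alpha d`, is the identity for `ℓ = d` on polynomials
of degree `≤ d`, and is monotone for the eventual order on polynomials of degree `≤ d`.
-/

set_option autoImplicit false
universe u
open Polynomial StabCat

namespace Groth.Agent.Lib.Helper12.HPD

open Groth.Agent.Lib.Helper12.HPB

theorem coeff_topPart (ℓ d : ℕ) (P : ℚ[X]) (i : ℕ) :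
    (topPart ℓ d P).coeff i = if d - ℓ ≤ i ∧ i ≤ d then P.coeff i else 0 := by
  unfold topPart
  rw [finset_sum_coeff]
  simp only [coeff_monomial]
  by_cases h : d - ℓ ≤ i ∧ i ≤ d
  · rw [if_pos h, Finset.sum_eq_single i]
    · simp
    · intro b _ hb
      rw [if_neg hb]
    · intro hi
      exact absurd (Finset.mem_Icc.2 h) hi
  · rw [if_neg h]
    apply Finset.sum_eq_zero
    intro b hb
    rw [if_neg]
    rintro rfl
    exact h (Finset.mem_Icc.1 hb)

theorem topPart_smul (ℓ d : ℕ) (c : ℚ) (P : ℚ[X]) : topPart ℓ d (c • P) = c • topPart ℓ d P := by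
  ext i
  rw [coeff_smul, coeff_topPart, coeff_topPart, coeff_smul]
  split_ifs <;> simp

theorem topPart_sub (ℓ d : ℕ) (P Q : ℚ[X]) : topPart ℓ d (P - Q) = topPart ℓ d P - topPart ℓ d Q := by
  ext i
  rw [coeff_sub, coeff_topPart, coeff_topPart, coeff_topPart, coeff_sub]
  split_ifs <;> simp

theorem topPart_add (ℓ d : ℕ) (P Q : ℚ[X]) : topPart ℓ d (P + Q) = topPart ℓ d P + topPart ℓ d Q := by
  ext i
  rw [coeff_add, coeff_topPart, coeff_topPart, coeff_topPart, coeff_add]
  split_ifs <;> simp

theorem alpha_topPart (ℓ d : ℕ) (P : ℚ[X]) : alpha d (topPart ℓ d P) = alpha d P := by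
  unfold alpha
  rw [coeff_topPart, if_pos ⟨Nat.sub_le d ℓ, le_rfl⟩]

theorem topPart_eq_self {d : ℕ} {P : ℚ[X]} (hP : P.natDegree ≤ d) : topPart d d P = P := by
  ext i
  rw [coeff_topPart]
  by_cases h : i ≤ d
  · rw [if_pos ⟨by omega, h⟩]
  · rw [if_neg (fun h' => h h'.2), coeff_eq_zero_of_natDegree_lt (by omega)]

theorem natDegree_topPart_le (ℓ d : ℕ) (P : ℚ[X]) : (topPart ℓ d P).natDegree ≤ d := by
  rw [natDegree_le_iff_coeff_eq_zero]
  intro i hi
  rw [coeff_topPart, if_neg (fun h => by omega)]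

/-- an eventually nonnegative polynomial is zero or has positive leading coefficient -/
theorem eq_zero_or_leadingCoeff_pos {D : ℚ[X]} (h : PolyLE 0 D) : D = 0 ∨ 0 < D.leadingCoeff := by
  by_cases h0 : D = 0
  · exact Or.inl h0
  · right
    have hl : D.leadingCoeff ≠ 0 := leadingCoeff_ne_zero.2 h0
    rcases lt_or_gt_of_ne hl with hneg | hpos
    · exfalso
      have h1 : 0 < (-D).leadingCoeff := by rw [leadingCoeff_neg]; linarith
      obtain ⟨N, hN⟩ := eventually_pos _ h1
      obtain ⟨N', hN'⟩ := h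
      have a := hN (max N N') (le_max_left _ _)
      have b := hN' (max N N') (le_max_right _ _)
      rw [eval_neg] at a
      rw [eval_zero] at b
      linarith
    · exact hpos

theorem polyLE_zero_of_leadingCoeff_pos {D : ℚ[X]} (h : D = 0 ∨ 0 < D.leadingCoeff) : PolyLE 0 D := by
  rcases h with h | h
  · subst h; exact polyLE_refl 0
  · obtain ⟨N, hN⟩ := eventually_pos _ h
    exact ⟨N, fun m hm => by rw [eval_zero]; exact (hN m hm).le⟩

theorem polyLT_zero_of_leadingCoeff_pos {D : ℚ[X]} (h : 0 < D.leadingCoeff) : PolyLT 0 D := by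
  obtain ⟨N, hN⟩ := eventually_pos _ h
  exact ⟨N, fun m hm => by rw [eval_zero]; exact hN m hm⟩

theorem leadingCoeff_pos_of_polyLT {D : ℚ[X]} (h : PolyLT 0 D) : 0 < D.leadingCoeff := by
  rcases eq_zero_or_leadingCoeff_pos (polyLE_of_polyLT h) with h0 | h0
  · subst h0
    exact absurd h (not_polyLT_self 0)
  · exact h0

theorem polyLE_iff_sub (A B : ℚ[X]) : PolyLE A B ↔ PolyLE 0 (B - A) := by
  constructor
  · intro h
    refine polyLE_of_forall h fun x hx => ?_
    rw [eval_zero, eval_sub]; linarith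
  · intro h
    refine polyLE_of_forall h fun x hx => ?_
    rw [eval_zero, eval_sub] at hx; linarith

theorem polyLT_iff_sub (A B : ℚ[X]) : PolyLT A B ↔ PolyLT 0 (B - A) := by
  constructor
  · intro h
    refine polyLT_of_forall h fun x hx => ?_
    rw [eval_zero, eval_sub]; linarith
  · intro h
    refine polyLT_of_forall h fun x hx => ?_
    rw [eval_zero, eval_sub] at hx; linarith

/-- the truncation of a polynomial of degree `≤ d`, if nonzero, has the same leading coefficient -/
theorem leadingCoeff_topPart {ℓ d : ℕ} {D : ℚ[X]} (hD : D.natDegree ≤ d) (h0 : topPart ℓ d D ≠ 0) :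
    (topPart ℓ d D).leadingCoeff = D.leadingCoeff := by
  set j := (topPart ℓ d D).natDegree with hj
  have hcj : (topPart ℓ d D).coeff j ≠ 0 := by
    rw [hj]
    exact leadingCoeff_ne_zero.2 h0
  have hj' : d - ℓ ≤ j ∧ j ≤ d := by
    by_contra h
    rw [coeff_topPart, if_neg h] at hcj
    exact hcj rfl
  have hDj : D.coeff j = (topPart ℓ d D).coeff j := by
    rw [coeff_topPart, if_pos hj']
  have hnat : D.natDegree = j := by
    apply le_antisymm
    · rw [natDegree_le_iff_coeff_eq_zero]
      intro i hi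
      by_cases hid : i ≤ d
      · have : (topPart ℓ d D).coeff i = 0 := coeff_eq_zero_of_natDegree_lt (by omega)
        rw [coeff_topPart, if_pos ⟨by omega, hid⟩] at this
        exact this
      · exact coeff_eq_zero_of_natDegree_lt (by omega)
    · exact le_natDegree_of_ne_zero (by rw [hDj]; exact hcj)
  unfold leadingCoeff
  rw [hnat, ← hj, hDj]

/-- truncation is monotone for the eventual order on polynomials of degree `≤ d` -/
theorem polyLE_topPart {ℓ d : ℕ} {A B : ℚ[X]} (hA : A.natDegree ≤ d) (hB : B.natDegree ≤ d)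
    (h : PolyLE A B) : PolyLE (topPart ℓ d A) (topPart ℓ d B) := by
  rw [polyLE_iff_sub, ← topPart_sub]
  rw [polyLE_iff_sub] at h
  have hD : (B - A).natDegree ≤ d := (natDegree_sub_le _ _).trans (max_le hB hA)
  by_cases h0 : topPart ℓ d (B - A) = 0
  · rw [h0]; exact polyLE_refl 0
  · apply polyLE_zero_of_leadingCoeff_pos
    right
    rw [leadingCoeff_topPart hD h0]
    rcases eq_zero_or_leadingCoeff_pos h with h1 | h1
    · exfalso
      apply h0
      rw [h1]
      ext i
      rw [coeff_topPart]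
      simp
    · exact h1

/-- for `ℓ = d` truncation reflects the strict order (it is the identity) -/
theorem redLE_topPart {ℓ d : ℕ} {P Q : ℚ[X]} (hP : P.natDegree ≤ d) (hQ : Q.natDegree ≤ d)
    (h : RedLE d P Q) : RedLE d (topPart ℓ d P) (topPart ℓ d Q) := by
  unfold RedLE at *
  rw [alpha_topPart, alpha_topPart, ← topPart_smul, ← topPart_smul]
  exact polyLE_topPart ((natDegree_smul_le _ _).trans hP) ((natDegree_smul_le _ _).trans hQ) h

/-- comparison of `hatSlope` from the reduced comparison -/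
theorem hatSlope_le_of_redLE {d : ℕ} (hd : 1 ≤ d) {P Q : ℚ[X]} (hP : P.natDegree ≤ d) (hQ : Q.natDegree ≤ d)
    (hαP : 0 < alpha d P) (hαQ : 0 < alpha d Q) (h : RedLE d P Q) : hatSlope d P ≤ hatSlope d Q := by
  unfold RedLE at h
  rw [polyLE_iff_sub] at h
  set D := alpha d P • Q - alpha d Q • P with hDdef
  have hDd : D.coeff d = 0 := by
    rw [hDdef, coeff_sub, coeff_smul, coeff_smul, smul_eq_mul, smul_eq_mul]
    unfold alpha
    ring
  have hDnat : D.natDegree ≤ d - 1 := by
    rw [natDegree_le_iff_coeff_eq_zero]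
    intro i hi
    by_cases hid : i = d
    · rw [hid]; exact hDd
    · have hPi : P.coeff i = 0 := coeff_eq_zero_of_natDegree_lt (by omega)
      have hQi : Q.coeff i = 0 := coeff_eq_zero_of_natDegree_lt (by omega)
      rw [hDdef, coeff_sub, coeff_smul, coeff_smul, hPi, hQi]
      simp
  have hc : 0 ≤ D.coeff (d - 1) := by
    rcases eq_zero_or_leadingCoeff_pos h with h0 | h0
    · rw [h0]; simp
    · by_cases hn : D.natDegree = d - 1
      · unfold leadingCoeff at h0
        rw [hn] at h0
        exact h0.le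
      · rw [coeff_eq_zero_of_natDegree_lt (by omega)]
  rw [hDdef, coeff_sub, coeff_smul, coeff_smul, smul_eq_mul, smul_eq_mul] at hc
  unfold hatSlope
  rw [div_le_div_iff₀ hαP hαQ]
  have hfac : (0 : ℚ) < ((d - 1).factorial : ℚ) := by exact_mod_cast (d - 1).factorial_pos
  have e1 : alpha (d - 1) P = ((d - 1).factorial : ℚ) * P.coeff (d - 1) := rfl
  have e2 : alpha (d - 1) Q = ((d - 1).factorial : ℚ) * Q.coeff (d - 1) := rfl
  rw [e1, e2]
  nlinarith

end Groth.Agent.Lib.Helper12.HPD
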