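import Mathlib
import Groth.Agent.Lib.Helper12HilbPolyC
import Groth.Agent.Lib.Helper12HilbPolyD
import Groth.Agent.Lib.Helper4DevJ
set_option backward.isDefEq.respectTransparency.types false

/-!
# Gieseker semistability versus `ℓ`-semistability and slope semistability (helper12)
-/

set_option autoImplicit false
set_option linter.style.haveILetI false
set_option linter.unusedSectionVars false
set_option linter.unusedVariables false
universe u
open CategoryTheory CategoryTheory.Limits AlgebraicGeometry TopologicalSpace Opposite Polynomial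

namespace Groth.Agent.Lib.Helper12.HPE

open Groth.Agent.Lib.Helper4.Dev Groth.Agent.Lib.Helper4.CurveChi
  Groth.Agent.Lib.Helper12.Snap Groth.Agent.Lib.Helper12.Pos Groth.Agent.Lib.Helper12.HP
  Groth.Agent.Lib.Helper12.HPB Groth.Agent.Lib.Helper12.HPC Groth.Agent.Lib.Helper12.HPD StabCat

theorem support_eq_empty_of_isZero {X : Scheme.{u}} {F : X.Modules} (h : IsZero F) : CohB1.support F = ∅ := by
  ext x
  simp only [Set.mem_empty_iff_false, iff_false]
  intro hx
  exact hx (subsingleton_stalk_of_isZero h x)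

variable (k : Type u) [Field k] (X : Scheme.{u}) [X.Over (Spec (CommRingCat.of k))]
  [IsProper (X ↘ (Spec (CommRingCat.of k)))] (L : X.Modules) (hL : CohB1.IsAmple L) (d : ℕ)

include hL in
/-- data attached to a coherent submodule `F` of positive multiplicity smaller than that of `E` -/
theorem sub_facts {E : X.Modules} (hE : ShStab.IsSemistable k X L E d) {F : X.Modules} (ι : F ⟶ E) [Mono ι]
    (hF : Coh.IsCoh F) {pF pE : ℚ[X]} (hpF : ShStab.IsHilbPoly k X L F pF)
    (hpE : ShStab.IsHilbPoly k X L E pE) (h1 : 0 < alpha d pF) (h2 : alpha d pF < alpha d pE) :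
    ¬ IsZero F ∧ ¬ IsIso ι ∧ pF.natDegree ≤ d ∧ pE.natDegree ≤ d := by
  have hdimE := dim_eq_of_isPure hE.2.2.1 hE.1 hE.2.1
  have hF0 : ¬ IsZero F := fun h => by
    have := hilbPoly_unique k X hpF (hilbPoly_zero k X L hL.1 h)
    rw [this, alpha_zero] at h1
    exact lt_irrefl _ h1
  have hiso : ¬ IsIso ι := fun h => by
    haveI := h
    have := hilbPoly_unique k X (hilbPoly_of_iso k X L hL.1 (asIso ι) hpF) hpE
    rw [this] at h2
    exact lt_irrefl _ h2
  have hdF : topologicalKrullDim ↥(CohB1.support F) ≤ (d : WithBot ℕ∞) :=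
    (dim_le_of_mono ι).trans hdimE.le
  exact ⟨hF0, hiso, (alpha_eq k X L hL.1 F hF d hdF hpF).1, (alpha_eq k X L hL.1 E hE.1 d hdimE.le hpE).1⟩

include hL in
/-- Gieseker semistable ⟹ `ℓ`-semistable -/
theorem isEllSemistable_of_isSemistable (ℓ : ℕ) {E : X.Modules} (hE : ShStab.IsSemistable k X L E d) :
    ShStab.IsEllSemistable k X L E d ℓ := by
  refine ⟨hE.1, hE.2.1, hE.2.2.1, fun F ι hι hF pF pE hpF hpE h1 h2 => ?_⟩
  haveI := hι
  obtain ⟨hF0, hiso, hnF, hnE⟩ := sub_facts k X L hL d hE ι hF hpF hpE h1 h2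
  exact redLE_topPart hnF hnE (hE.2.2.2 F ι hι hF hF0 hiso pF pE hpF hpE)

include hL in
/-- Gieseker stable ⟹ `d`-stable -/
theorem isEllStable_of_isStable {E : X.Modules} (hE : ShStab.IsStable k X L E d) :
    ShStab.IsEllStable k X L E d d := by
  refine ⟨hE.1, hE.2.1, hE.2.2.1, fun F ι hι hF pF pE hpF hpE h1 h2 => ?_⟩
  haveI := hι
  obtain ⟨hF0, hiso, hnF, hnE⟩ := sub_facts k X L hL d (isSemistable_of_isStable k X L d hE) ι hF hpF hpE h1 h2
  rw [topPart_eq_self hnF, topPart_eq_self hnE]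
  exact hE.2.2.2 F ι hι hF hF0 hiso pF pE hpF hpE

include hL in
/-- the comparison for a proper nonzero coherent submodule of a pure sheaf, from the comparison for submodules
of strictly smaller positive multiplicity -/
theorem sub_cases {E : X.Modules} (hE : Coh.IsCoh E) (h0 : ¬ IsZero E) (hp : ShStab.IsPure X E d)
    {F : X.Modules} (ι : F ⟶ E) [Mono ι] (hF : Coh.IsCoh F) (hF0 : ¬ IsZero F) (hiso : ¬ IsIso ι)
    {pF pE : ℚ[X]} (hpF : ShStab.IsHilbPoly k X L F pF) (hpE : ShStab.IsHilbPoly k X L E pE) :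
    (0 < alpha d pF ∧ alpha d pF < alpha d pE ∧ pF.natDegree ≤ d ∧ pE.natDegree ≤ d) ∨
      RedLT d pF pE := by
  have hdimE := dim_eq_of_isPure hp hE h0
  have hdimF := hp F ι inferInstance hF hF0
  have hαF := alpha_pos k X L hL F hF d hdimF hpF
  have hC : Coh.IsCoh (cokernel ι) := isCoh_cokernel ι hF hE
  have hC0 : ¬ IsZero (cokernel ι) := fun h => hiso (by
    haveI : Epi ι := Preadditive.epi_of_isZero_cokernel ι h
    exact isIso_of_mono_of_epi ι)
  obtain ⟨pC, hpC⟩ := exists_hilbPoly k X L hL.1 _ hC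
  have hadd := hilbPoly_eq_add_of_mono k X L hL hF ι hE hpF hpE hpC
  have hdC : topologicalKrullDim ↥(CohB1.support (cokernel ι)) ≤ (d : WithBot ℕ∞) :=
    (dim_le_of_epi (cokernel.π ι)).trans hdimE.le
  have hαC := alpha_nonneg k X L hL _ hC d hdC hpC
  rcases eq_or_lt_of_le hαC with h | h
  · right
    obtain ⟨N, hN⟩ := eventually_pos pC (leadingCoeff_pos k X L hL _ hC hC0 hpC)
    refine ⟨N, fun m hm => ?_⟩
    have hm' := hN m hm
    rw [hadd, alpha_add, ← h, add_zero]
    simp only [eval_smul, eval_add, smul_eq_mul]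
    nlinarith
  · left
    refine ⟨hαF, ?_, (alpha_eq k X L hL.1 F hF d hdimF.le hpF).1, (alpha_eq k X L hL.1 E hE d hdimE.le hpE).1⟩
    rw [hadd, alpha_add]
    linarith

include hL in
/-- `d`-semistable ⟹ Gieseker semistable -/
theorem isSemistable_of_isEllSemistable {E : X.Modules} (hE : ShStab.IsEllSemistable k X L E d d) :
    ShStab.IsSemistable k X L E d := by
  refine ⟨hE.1, hE.2.1, hE.2.2.1, fun F ι hι hF hF0 hiso pF pE hpF hpE => ?_⟩
  haveI := hι
  rcases sub_cases k X L hL d hE.1 hE.2.1 hE.2.2.1 ι hF hF0 hiso hpF hpE with ⟨h1, h2, hnF, hnE⟩ | h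
  · have := hE.2.2.2 F ι hι hF pF pE hpF hpE h1 h2
    rwa [topPart_eq_self hnF, topPart_eq_self hnE] at this
  · exact redLE_of_redLT h

include hL in
/-- `d`-stable ⟹ Gieseker stable -/
theorem isStable_of_isEllStable {E : X.Modules} (hE : ShStab.IsEllStable k X L E d d) :
    ShStab.IsStable k X L E d := by
  refine ⟨hE.1, hE.2.1, hE.2.2.1, fun F ι hι hF hF0 hiso pF pE hpF hpE => ?_⟩
  haveI := hι
  rcases sub_cases k X L hL d hE.1 hE.2.1 hE.2.2.1 ι hF hF0 hiso hpF hpE with ⟨h1, h2, hnF, hnE⟩ | h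
  · have := hE.2.2.2 F ι hι hF pF pE hpF hpE h1 h2
    rwa [topPart_eq_self hnF, topPart_eq_self hnE] at this
  · exact h

include hL in
/-- Gieseker semistable ⟹ slope semistable -/
theorem isMuSemistable_of_isSemistable (hd : 1 ≤ d) {E : X.Modules} (hE : ShStab.IsSemistable k X L E d) :
    ShStab.IsMuSemistable k X L E d := by
  have hdimE := dim_eq_of_isPure hE.2.2.1 hE.1 hE.2.1
  refine ⟨hE.1, hE.2.1, hdimE, ?_, ?_⟩
  · intro F ι hι hF
    by_cases hF0 : IsZero F
    · rw [support_eq_empty_of_isZero hF0]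
      have : topologicalKrullDim ↥(∅ : Set X) = ⊥ := by
        unfold topologicalKrullDim
        rw [Order.krullDim_eq_bot_iff]
        exact ⟨fun T => T.isIrreducible.nonempty.elim fun x _ => x.2.elim⟩
      rw [this]
      simp
    · rw [hE.2.2.1 F ι hι hF hF0]
      intro h
      have h' : ((d + 1 : ℕ) : WithBot ℕ∞) = ((d : ℕ) : WithBot ℕ∞) := by
        rw [← h]; push_cast; rfl
      have : (d + 1 : ℕ) = d := by exact_mod_cast h'
      omega
  · intro F ι hι hF pF pE hpF hpE h1 h2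
    haveI := hι
    obtain ⟨hF0, hiso, hnF, hnE⟩ := sub_facts k X L hL d hE ι hF hpF hpE h1 h2
    exact hatSlope_le_of_redLE hd hnF hnE h1 (h1.trans h2) (hE.2.2.2 F ι hι hF hF0 hiso pF pE hpF hpE)

end Groth.Agent.Lib.Helper12.HPE
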