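import Mathlib
import Groth.Prelude.Def_KZero
import Groth.Agent.Lib.Helper4DevM
import Groth.Agent.Lib.Helper17K0a

/-!
# Generators of `K₀` of coherent modules with supports (helper4)

`closure_clSub_eq_top`: on a Noetherian scheme, `K₀` of the coherent modules supported in a closed subset `Y'` is
generated by the classes of any family containing, for every irreducible closed `Z ⊆ Y'`, a module supported in `Z` with
stalk of length one at the generic point of `Z`.
-/

set_option autoImplicit false
set_option linter.style.haveILetI false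
set_option linter.unusedSectionVars false
universe u
open CategoryTheory Limits AlgebraicGeometry TopologicalSpace Opposite

namespace Groth.Agent.Lib.Helper4.KGen
open Groth.Agent.Lib.Helper4.Dev Groth.Agent.Lib.Helper17.K0a

variable (X : Scheme.{u}) (Y' : Set X)

/-- coherent with support in `Y'` -/
abbrev cohSuppP : ObjectProperty X.Modules := fun G : X.Modules => Coh.IsCoh G ∧ CohB1.support G ⊆ Y'

instance : (cohSuppP X Y').IsClosedUnderIsomorphisms where
  of_iso e h := ⟨isCoh_of_iso e h.1, (support_eq_of_iso e) ▸ h.2⟩

open ZeroObject in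
instance [IsLocallyNoetherian X] : (cohSuppP X Y').ContainsZero where
  exists_zero := ⟨0, isZero_zero _, isCoh_of_isZero (isZero_zero _) (isCoh_structureModule X), by
    intro x hx
    exact absurd (subsingleton_stalk_of_isZero (isZero_zero X.Modules) x) hx⟩

variable {X Y'}

theorem closure_clSub_eq_top [IsNoetherian X] {ι : Type u} (F : ι → X.Modules)
    (hgen : ∀ (Z : Set X), IsClosed Z → IsIrreducible Z → Z ⊆ Y' → ∀ y : X, closure ({y} : Set X) = Z →
      ∃ a : ι, Coh.IsCoh (F a) ∧ CohB1.support (F a) ⊆ Z ∧
        Module.length (X.presheaf.stalk y) ((F a).presheaf.stalk y) = 1) :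
    AddSubgroup.closure (Set.range fun a : ι => KZero.clSub (cohSuppP X Y') (F a)) = ⊤ := by
  haveI : IsLocallyNoetherian X := inferInstance
  set H := AddSubgroup.closure (Set.range fun a : ι => KZero.clSub (cohSuppP X Y') (F a)) with hH
  let K : X.Modules → Prop := fun M => KZero.clSub (cohSuppP X Y') M ∈ H
  have hiso : ∀ M N : X.Modules, Nonempty (M ≅ N) → K M → K N := by
    rintro M N ⟨e⟩ hM
    by_cases hP : cohSuppP X Y' M
    · change KZero.clSub (cohSuppP X Y') N ∈ H
      rw [← clSub_of_iso (cohSuppP X Y') e hP]
      exact hM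
    · have hPN : ¬ cohSuppP X Y' N := fun h => hP ((cohSuppP X Y').prop_of_iso e.symm h)
      change KZero.clSub (cohSuppP X Y') N ∈ H
      have : KZero.clSub (cohSuppP X Y') N = 0 := by
        classical
        unfold KZero.clSub
        rw [dif_neg hPN]
      rw [this]
      exact H.zero_mem
  have hzero : ∀ M : X.Modules, IsZero M → K M := by
    intro M hM
    change KZero.clSub (cohSuppP X Y') M ∈ H
    rw [clSub_of_isZero (cohSuppP X Y') hM]
    exact H.zero_mem
  have hadd : ∀ S : ShortComplex X.Modules, S.ShortExact → Coh.IsCoh S.X₁ → Coh.IsCoh S.X₂ →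
      Coh.IsCoh S.X₃ → CohB1.support S.X₂ ⊆ Y' →
      KZero.clSub (cohSuppP X Y') S.X₂ =
        KZero.clSub (cohSuppP X Y') S.X₁ + KZero.clSub (cohSuppP X Y') S.X₃ := by
    intro S hS c1 c2 c3 hs
    haveI := hS.mono_f
    haveI := hS.epi_g
    exact clSub_shortExact (cohSuppP X Y') S hS ⟨c1, (support_subset_of_mono S.f).trans hs⟩ ⟨c2, hs⟩
      ⟨c3, (support_subset_of_epi S.g).trans hs⟩
  have hall : ∀ M : X.Modules, Coh.IsCoh M → CohB1.support M ⊆ Y' → K M := by
    intro M hM hsM
    refine noetherian_induction_coh K Y' hiso hzero ?_ ?_ M hM hsM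
    · intro S hS c1 c2 c3 hs h1 h3
      change KZero.clSub (cohSuppP X Y') S.X₂ ∈ H
      rw [hadd S hS c1 c2 c3 hs]
      exact H.add_mem h1 h3
    · intro y hyY IH E hE hsE
      obtain ⟨a, hac, has, hal⟩ := hgen (closure {y}) isClosed_closure isIrreducible_singleton.closure hyY y rfl
      have hK23 : Exact23 K (closure {y}) := by
        refine ⟨hiso, ?_⟩
        intro S hS c1 c2 c3 hs
        have he := hadd S hS c1 c2 c3 (hs.trans hyY)
        refine ⟨fun h1 h2 => ?_, fun h1 h3 => ?_, fun h2 h3 => ?_⟩
        · change KZero.clSub (cohSuppP X Y') S.X₃ ∈ H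
          have : KZero.clSub (cohSuppP X Y') S.X₃ =
              KZero.clSub (cohSuppP X Y') S.X₂ - KZero.clSub (cohSuppP X Y') S.X₁ := by
            rw [he]; abel
          rw [this]
          exact H.sub_mem h2 h1
        · change KZero.clSub (cohSuppP X Y') S.X₂ ∈ H
          rw [he]
          exact H.add_mem h1 h3
        · change KZero.clSub (cohSuppP X Y') S.X₁ ∈ H
          have : KZero.clSub (cohSuppP X Y') S.X₁ =
              KZero.clSub (cohSuppP X Y') S.X₂ - KZero.clSub (cohSuppP X Y') S.X₃ := by
            rw [he]; abel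
          rw [this]
          exact H.sub_mem h2 h3
      have hKa : K (F a) := AddSubgroup.subset_closure ⟨a, rfl⟩
      exact devissage_irreducible y hK23 IH hac has hKa hal E hE hsE
  rw [eq_top_iff]
  intro z _
  induction z using QuotientAddGroup.induction_on with
  | H w =>
    induction w using FreeAbelianGroup.induction_on with
    | zero => exact H.zero_mem
    | of x =>
      have := hall x.1 x.2.1 x.2.2
      change KZero.clSub (cohSuppP X Y') x.1 ∈ H at this
      rw [clSub_of_prop (cohSuppP X Y') x.2] at this
      exact this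
    | neg x hx =>
      rw [QuotientAddGroup.mk_neg]
      exact H.neg_mem (hx trivial)
    | add x y hx hy =>
      rw [QuotientAddGroup.mk_add]
      exact H.add_mem (hx trivial) (hy trivial)

end Groth.Agent.Lib.Helper4.KGen
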