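import Mathlib
import Groth.Prelude.Def_KZero
import Groth.Agent.Lib.Helper4KFilt
import Groth.Agent.Lib.Helper4KGen
import Groth.Agent.Lib.Helper23FinType2
import Groth.Agent.Lib.Helper23QCohExt
import Groth.Agent.Lib.Helper20StalkExact

/-!
# Coherent modules form a thick (weak Serre) class (helper4)

* `isCoh_of_shortExact`: an extension of coherent modules on a locally Noetherian scheme is coherent.
* instances `IsClosedUnderKernels`, `IsClosedUnderCokernels`, `IsClosedUnderExtensions` for `cohP X` and for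
  `cohSuppP X Y'`.
-/

set_option autoImplicit false
set_option linter.style.haveILetI false
set_option linter.unusedSectionVars false
universe u
open CategoryTheory Limits AlgebraicGeometry TopologicalSpace Opposite

namespace Groth.Agent.Lib.Helper4.CohThick
open Groth.Agent.Lib.Helper4.Dev Groth.Agent.Lib.Helper4.KFilt Groth.Agent.Lib.Helper4.KGen

variable {X : Scheme.{u}}

/-- an extension of coherent modules is coherent -/
theorem isCoh_of_shortExact [IsLocallyNoetherian X] (S : ShortComplex X.Modules) (hS : S.ShortExact)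
    (h1 : Coh.IsCoh S.X₁) (h3 : Coh.IsCoh S.X₃) : Coh.IsCoh S.X₂ := by
  haveI hq1 : S.X₁.IsQuasicoherent := h1.1
  haveI hq3 : S.X₃.IsQuasicoherent := h3.1
  haveI hq2 : S.X₂.IsQuasicoherent :=
    Groth.Agent.Lib.Helper23.QCohLocal.isQuasicoherent_of_shortExact S hS hq1 hq3
  refine ⟨hq2, ?_⟩
  rw [Groth.Agent.Lib.Helper23.FinType.isFiniteType_iff_forall_affine]
  intro U hU
  haveI : IsNoetherianRing Γ(X, U) := IsLocallyNoetherian.component_noetherian ⟨U, hU⟩
  have hf1 : Module.Finite Γ(X, U) Γ(S.X₁, U) :=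
    (Groth.Agent.Lib.Helper23.FinType.isFiniteType_iff_forall_affine S.X₁).1 h1.2 U hU
  have hf3 : Module.Finite Γ(X, U) Γ(S.X₃, U) :=
    (Groth.Agent.Lib.Helper23.FinType.isFiniteType_iff_forall_affine S.X₃).1 h3.2 U hU
  let fl : Γ(S.X₁, U) →ₗ[Γ(X, U)] Γ(S.X₂, U) := (S.f.val.app (op U)).hom
  let gl : Γ(S.X₂, U) →ₗ[Γ(X, U)] Γ(S.X₃, U) := (S.g.val.app (op U)).hom
  have hker : LinearMap.ker gl ≤ LinearMap.range fl := by
    intro t ht
    obtain ⟨r, hr⟩ := Groth.Agent.Lib.Helper20.StalkExact.exists_app_eq_of_exact S hS U t ht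
    exact ⟨r, hr⟩
  haveI : IsNoetherian Γ(X, U) Γ(S.X₃, U) := isNoetherian_of_isNoetherianRing_of_finite _ _
  refine ⟨Submodule.fg_of_fg_map_of_fg_inf_ker gl ?_ ?_⟩
  · exact IsNoetherian.noetherian _
  · rw [top_inf_eq]
    have hfg : (LinearMap.range fl).FG := by
      rw [LinearMap.range_eq_map]
      exact hf1.1.map fl
    have hle : LinearMap.ker gl = LinearMap.range fl := by
      apply le_antisymm hker
      rintro _ ⟨r, rfl⟩
      change (Scheme.Modules.Hom.app S.g U) ((Scheme.Modules.Hom.app S.f U) r) = 0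
      have := congr(Scheme.Modules.Hom.app $(S.zero) U)
      rw [Scheme.Modules.Hom.comp_app] at this
      exact congr($this r)
    rw [hle]
    exact hfg

variable (X)

instance [IsLocallyNoetherian X] : (cohP X).IsClosedUnderKernels where
  kernels_le := by
    rintro _ ⟨f, k, hk, ⟨h1, h2⟩⟩
    exact isCoh_of_iso (IsLimit.conePointUniqueUpToIso (kernelIsKernel f) hk) (isCoh_kernel f h1 h2)

instance : (cohP X).IsClosedUnderCokernels where
  cokernels_le := by
    rintro _ ⟨f, k, hk, ⟨h1, h2⟩⟩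
    exact isCoh_of_iso (IsColimit.coconePointUniqueUpToIso (cokernelIsCokernel f) hk)
      (isCoh_cokernel f h1 h2)

instance [IsLocallyNoetherian X] : (cohP X).IsClosedUnderExtensions where
  prop_X₂_of_shortExact {S} hS h₁ h₃ := isCoh_of_shortExact S hS h₁ h₃

variable (Y' : Set X)

instance [IsLocallyNoetherian X] : (cohSuppP X Y').IsClosedUnderKernels where
  kernels_le := by
    rintro _ ⟨f, k, hk, ⟨h1, h2⟩⟩
    haveI : Mono k.ι := Fork.IsLimit.mono hk
    exact ⟨isCoh_of_iso (IsLimit.conePointUniqueUpToIso (kernelIsKernel f) hk)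
      (isCoh_kernel f h1.1 h2.1), (support_subset_of_mono k.ι).trans h1.2⟩

instance : (cohSuppP X Y').IsClosedUnderCokernels where
  cokernels_le := by
    rintro _ ⟨f, k, hk, ⟨h1, h2⟩⟩
    haveI : Epi k.π := Cofork.IsColimit.epi hk
    exact ⟨isCoh_of_iso (IsColimit.coconePointUniqueUpToIso (cokernelIsCokernel f) hk)
      (isCoh_cokernel f h1.1 h2.1), (support_subset_of_epi k.π).trans h2.2⟩

instance [IsLocallyNoetherian X] : (cohSuppP X Y').IsClosedUnderExtensions where
  prop_X₂_of_shortExact {S} hS h₁ h₃ := by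
    refine ⟨isCoh_of_shortExact S hS h₁.1 h₃.1, fun x hx => ?_⟩
    by_contra hxY
    apply hx
    rw [Groth.Agent.Lib.Helper20.StalkExact.subsingleton_stalk_iff S hS x]
    exact ⟨not_not.1 (fun h => hxY (h₁.2 h)), not_not.1 (fun h => hxY (h₃.2 h))⟩

end Groth.Agent.Lib.Helper4.CohThick
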