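import Mathlib
import Groth.Agent.Lib.Helper12HilbPolyE
import Groth.Agent.Lib.Helper4CohThick
set_option backward.isDefEq.respectTransparency.types false

/-!
# Slope semistability: morphisms and extensions (helper12)
-/

set_option autoImplicit false
set_option linter.style.haveILetI false
set_option linter.unusedSectionVars false
set_option linter.unusedVariables false
universe u
open CategoryTheory CategoryTheory.Limits AlgebraicGeometry TopologicalSpace Opposite Polynomial

namespace Groth.Agent.Lib.Helper12.HPF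

open Groth.Agent.Lib.Helper4.Dev Groth.Agent.Lib.Helper4.CurveChi
  Groth.Agent.Lib.Helper12.Snap Groth.Agent.Lib.Helper12.Pos Groth.Agent.Lib.Helper12.HP
  Groth.Agent.Lib.Helper12.HPB Groth.Agent.Lib.Helper12.HPC Groth.Agent.Lib.Helper12.HPD
  Groth.Agent.Lib.Helper12.HPE StabCat

variable (k : Type u) [Field k] (X : Scheme.{u}) [X.Over (Spec (CommRingCat.of k))]
  [IsProper (X ↘ (Spec (CommRingCat.of k)))] (L : X.Modules) (hL : CohB1.IsAmple L) (n : ℕ)

theorem hatSlope_add (P Q : ℚ[X]) :
    hatSlope n (P + Q) = (alpha (n - 1) P + alpha (n - 1) Q) / (alpha n P + alpha n Q) := by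
  unfold hatSlope
  rw [alpha_add, alpha_add]

include hL in
/-- `α_{n-1}` of a coherent module with `dim Supp < n` is nonnegative -/
theorem alpha_pred_nonneg (hn : 1 ≤ n) (C : X.Modules) (hC : Coh.IsCoh C)
    (hd : topologicalKrullDim ↥(CohB1.support C) < (n : WithBot ℕ∞)) {P : ℚ[X]}
    (hP : ShStab.IsHilbPoly k X L C P) : 0 ≤ alpha (n - 1) P := by
  apply alpha_nonneg k X L hL C hC (n - 1) _ hP
  have h1 : ((n - 1 + 1 : ℕ) : WithBot ℕ∞) = (n : WithBot ℕ∞) := by
    congr 1
    omega
  rw [← h1] at hd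
  exact (lt_succ_iff_le _ (n - 1)).1 hd

include hL in
/-- a coherent module with `dim Supp ≤ n` and `α_n = 0` has `dim Supp < n` -/
theorem dim_lt_of_alpha_eq_zero (C : X.Modules) (hC : Coh.IsCoh C)
    (hd : topologicalKrullDim ↥(CohB1.support C) ≤ (n : WithBot ℕ∞)) {P : ℚ[X]}
    (hP : ShStab.IsHilbPoly k X L C P) (h0 : alpha n P = 0) :
    topologicalKrullDim ↥(CohB1.support C) < (n : WithBot ℕ∞) := by
  rcases eq_or_lt_of_le hd with h | h
  · exact absurd h0 (alpha_pos k X L hL C hC n h hP).ne'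
  · exact h

include hL in
/-- nonzero coherent submodules of a pure slope-semistable sheaf have smaller `hatSlope` -/
theorem mu_sub_le (hn : 1 ≤ n) {G : X.Modules} (hGt : ShStab.IsPure X G n)
    (hG : ShStab.IsMuSemistable k X L G n) {I : X.Modules} (m : I ⟶ G) [Mono m] (hI : Coh.IsCoh I)
    (hI0 : ¬ IsZero I) {pI pG : ℚ[X]} (hpI : ShStab.IsHilbPoly k X L I pI)
    (hpG : ShStab.IsHilbPoly k X L G pG) : hatSlope n pI ≤ hatSlope n pG := by
  have hαI := alpha_pos k X L hL I hI n (hGt I m inferInstance hI hI0) hpI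
  have hC : Coh.IsCoh (cokernel m) := isCoh_cokernel m hI hG.1
  obtain ⟨pC, hpC⟩ := exists_hilbPoly k X L hL.1 _ hC
  have hadd := hilbPoly_eq_add_of_mono k X L hL hI m hG.1 hpI hpG hpC
  have hdC : topologicalKrullDim ↥(CohB1.support (cokernel m)) ≤ (n : WithBot ℕ∞) :=
    (dim_le_of_epi (cokernel.π m)).trans hG.2.2.1.le
  have hαC := alpha_nonneg k X L hL _ hC n hdC hpC
  rcases eq_or_lt_of_le hαC with h | h
  · have hlt := dim_lt_of_alpha_eq_zero k X L hL n _ hC hdC hpC h.symm
    have ha := alpha_pred_nonneg k X L hL n hn _ hC hlt hpC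
    rw [hadd, hatSlope_add, ← h, add_zero]
    unfold hatSlope
    exact div_le_div_of_nonneg_right (by linarith) hαI.le
  · exact hG.2.2.2.2 I m inferInstance hI pI pG hpI hpG hαI (by rw [hadd, alpha_add]; linarith)

include hL in
/-- coherent quotients of positive multiplicity of a pure slope-semistable sheaf have larger `hatSlope` -/
theorem mu_quot_ge {F : X.Modules} (hFt : ShStab.IsPure X F n)
    (hF : ShStab.IsMuSemistable k X L F n) {I : X.Modules} (e : F ⟶ I) [Epi e] (hI : Coh.IsCoh I)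
    {pF pI : ℚ[X]} (hpF : ShStab.IsHilbPoly k X L F pF) (hpI : ShStab.IsHilbPoly k X L I pI)
    (hαI : 0 < alpha n pI) : hatSlope n pF ≤ hatSlope n pI := by
  haveI : IsNoetherian X := Groth.Agent.Lib.Helper4.CurveRR.isNoetherian_of_proper k X
  haveI : IsLocallyNoetherian X := inferInstance
  have hK : Coh.IsCoh (kernel e) := isCoh_kernel e hF.1 hI
  obtain ⟨pK, hpK⟩ := exists_hilbPoly k X L hL.1 _ hK
  have hadd := hilbPoly_eq_add_of_epi k X L hL hF.1 e hI hpK hpF hpI
  by_cases hK0 : IsZero (kernel e)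
  · have := hilbPoly_unique k X hpK (hilbPoly_zero k X L hL.1 hK0)
    rw [hadd, this, zero_add]
  · have hαK := alpha_pos k X L hL _ hK n (hFt _ (kernel.ι e) inferInstance hK hK0) hpK
    have h1 := hF.2.2.2.2 _ (kernel.ι e) inferInstance hK pK pF hpK hpF hαK
      (by rw [hadd, alpha_add]; linarith)
    rw [hadd, hatSlope_add] at h1 ⊢
    unfold hatSlope at h1 ⊢
    rw [div_le_div_iff₀ hαK (by linarith)] at h1
    rw [div_le_div_iff₀ (by linarith) hαI]
    nlinarith

include hL in
/-- `Hom(F, G) = 0` for pure slope-semistable `F`, `G` with `μ(G) < μ(F)` -/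
theorem mu_hom_eq_zero (hn : 1 ≤ n) {F G : X.Modules} (hFt : ShStab.IsPure X F n) (hGt : ShStab.IsPure X G n)
    (hF : ShStab.IsMuSemistable k X L F n) (hG : ShStab.IsMuSemistable k X L G n)
    {pF pG : ℚ[X]} (hpF : ShStab.IsHilbPoly k X L F pF) (hpG : ShStab.IsHilbPoly k X L G pG)
    (hlt : hatSlope n pG < hatSlope n pF) (φ : F ⟶ G) : φ = 0 := by
  by_contra hφ
  have hI : Coh.IsCoh (Abelian.image φ) := isCoh_image φ hF.1 hG.1
  have hI0 : ¬ IsZero (Abelian.image φ) := fun h => hφ (by
    rw [← Abelian.image.fac φ, h.eq_of_tgt (Abelian.factorThruImage φ) 0, Limits.zero_comp])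
  obtain ⟨pI, hpI⟩ := exists_hilbPoly k X L hL.1 _ hI
  have hαI : 0 < alpha n pI := alpha_pos k X L hL _ hI n
    (hGt _ (Abelian.image.ι φ) inferInstance hI hI0) hpI
  have h1 := mu_quot_ge k X L hL n hFt hF (Abelian.factorThruImage φ) hI hpF hpI hαI
  have h2 := mu_sub_le k X L hL n hn hGt hG (Abelian.image.ι φ) hI hI0 hpI hpG
  linarith

include hL in
/-- the dimension of the support of a nonzero coherent module is the degree of its Hilbert polynomial -/
theorem natDegree_eq_dim (E : X.Modules) (hE : Coh.IsCoh E) (h0 : ¬ IsZero E) {P : ℚ[X]}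
    (hP : ShStab.IsHilbPoly k X L E P) :
    topologicalKrullDim ↥(CohB1.support E) = (P.natDegree : WithBot ℕ∞) := by
  have hne : (CohB1.support E).Nonempty := by
    by_contra h
    exact h0 (isZero_of_support_eq_empty E (Set.not_nonempty_iff_eq_empty.1 h))
  obtain ⟨m, hm⟩ := exists_nat_dim_le k X
  have hle : topologicalKrullDim ↥(CohB1.support E) ≤ (m : WithBot ℕ∞) :=
    (topologicalKrullDim_subspace_le _ _).trans hm
  have h0' : 0 ≤ topologicalKrullDim ↥(CohB1.support E) := by
    haveI : Nonempty ↥(CohB1.support E) := hne.to_subtype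
    have : Nonempty (IrreducibleCloseds ↥(CohB1.support E)) :=
      ⟨⟨closure {Classical.arbitrary _}, isIrreducible_singleton.closure, isClosed_closure⟩⟩
    exact Order.krullDim_nonneg
  obtain ⟨r, hr⟩ : ∃ r : ℕ, topologicalKrullDim ↥(CohB1.support E) = (r : WithBot ℕ∞) := by
    generalize topologicalKrullDim ↥(CohB1.support E) = D at hle h0'
    induction D using WithBot.recBotCoe with
    | bot => exact absurd h0' (by simp)
    | coe D =>
      induction D using ENat.recTopCoe with
      | top =>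
        exfalso
        have : ((⊤ : ℕ∞) : WithBot ℕ∞) ≤ ((m : ℕ∞) : WithBot ℕ∞) := hle
        rw [WithBot.coe_le_coe] at this
        exact absurd this (by simp)
      | coe D => exact ⟨D, rfl⟩
  have h1 := alpha_eq k X L hL.1 E hE r hr.le hP
  have h2 := alpha_pos k X L hL E hE r hr hP
  have hc : 0 < P.coeff r := by
    unfold alpha at h2
    have hfac : (0 : ℚ) < (r.factorial : ℚ) := by exact_mod_cast r.factorial_pos
    exact (mul_pos_iff_of_pos_left hfac).1 h2
  have hnat : P.natDegree = r := le_antisymm h1.1 (le_natDegree_of_ne_zero hc.ne')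
  rw [hr, hnat]

include hL in
/-- `α_{n-1}(I) ≤ μ(G) α_n(I)` for every coherent submodule `I` of a pure slope-semistable `G` -/
theorem mu_sub_le' (hn : 1 ≤ n) {G : X.Modules} (hGt : ShStab.IsPure X G n)
    (hG : ShStab.IsMuSemistable k X L G n) {I : X.Modules} (m : I ⟶ G) [Mono m] (hI : Coh.IsCoh I)
    {pI pG : ℚ[X]} (hpI : ShStab.IsHilbPoly k X L I pI)
    (hpG : ShStab.IsHilbPoly k X L G pG) : alpha (n - 1) pI ≤ hatSlope n pG * alpha n pI := by
  by_cases hI0 : IsZero I
  · have := hilbPoly_unique k X hpI (hilbPoly_zero k X L hL.1 hI0)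
    rw [this, alpha_zero, alpha_zero, mul_zero]
  · have hαI := alpha_pos k X L hL I hI n (hGt I m inferInstance hI hI0) hpI
    have h1 := mu_sub_le k X L hL n hn hGt hG m hI hI0 hpI hpG
    unfold hatSlope at h1 ⊢
    rwa [div_le_iff₀ hαI] at h1

include k in
/-- for a submodule `S` of the middle term of a short exact sequence, the kernel of `S → X₃` embeds into `X₁` -/
theorem sub_kernel (T : ShortComplex X.Modules) (hT : T.ShortExact) {S : X.Modules} (ι : S ⟶ T.X₂) [Mono ι]
    (hS : Coh.IsCoh S) (hG : Coh.IsCoh T.X₃) :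
    ∃ a : kernel (ι ≫ T.g) ⟶ T.X₁, Mono a ∧ Coh.IsCoh (kernel (ι ≫ T.g)) := by
  haveI : IsNoetherian X := Groth.Agent.Lib.Helper4.CurveRR.isNoetherian_of_proper k X
  haveI : IsLocallyNoetherian X := inferInstance
  haveI := hT.mono_f
  have hk : (kernel.ι (ι ≫ T.g) ≫ ι) ≫ T.g = 0 := by
    rw [Category.assoc, kernel.condition]
  refine ⟨hT.exact.lift _ hk, ?_, isCoh_kernel _ hS hG⟩
  have h1 : hT.exact.lift _ hk ≫ T.f = kernel.ι (ι ≫ T.g) ≫ ι := hT.exact.lift_f _ hk
  exact mono_of_mono_fac h1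

include hL in
/-- an extension of pure slope-semistable sheaves of the same slope is slope-semistable of that slope -/
theorem mu_extension (hn : 1 ≤ n) (T : ShortComplex X.Modules) (hT : T.ShortExact)
    (hFt : ShStab.IsPure X T.X₁ n) (hGt : ShStab.IsPure X T.X₃ n)
    (hF : ShStab.IsMuSemistable k X L T.X₁ n) (hG : ShStab.IsMuSemistable k X L T.X₃ n)
    {pF pG : ℚ[X]} (hpF : ShStab.IsHilbPoly k X L T.X₁ pF) (hpG : ShStab.IsHilbPoly k X L T.X₃ pG)
    (hμ : hatSlope n pF = hatSlope n pG) :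
    ShStab.IsMuSemistable k X L T.X₂ n ∧
      ∀ pH : ℚ[X], ShStab.IsHilbPoly k X L T.X₂ pH → hatSlope n pH = hatSlope n pF := by
  haveI : IsNoetherian X := Groth.Agent.Lib.Helper4.CurveRR.isNoetherian_of_proper k X
  haveI : IsLocallyNoetherian X := inferInstance
  haveI := hT.mono_f
  haveI := hT.epi_g
  have hH : Coh.IsCoh T.X₂ := Groth.Agent.Lib.Helper4.CohThick.isCoh_of_shortExact T hT hF.1 hG.1
  have hH0 : ¬ IsZero T.X₂ := fun h => hF.2.1 (IsZero.of_mono T.f h)
  have hαF := alpha_pos k X L hL _ hF.1 n hF.2.2.1 hpF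
  have hαG := alpha_pos k X L hL _ hG.1 n hG.2.2.1 hpG
  have hpH := hilbPoly_add k X L hL.1 T hT hF.1 hH hG.1 hpF hpG
  -- the slope of the extension
  have hslope : hatSlope n (pF + pG) = hatSlope n pF := by
    rw [hatSlope_add]
    unfold hatSlope at hμ ⊢
    rw [div_eq_div_iff hαF.ne' hαG.ne'] at hμ
    rw [div_eq_div_iff (by linarith) hαF.ne']
    nlinarith
  have hslopeH : ∀ pH : ℚ[X], ShStab.IsHilbPoly k X L T.X₂ pH → hatSlope n pH = hatSlope n pF := by
    intro pH h
    rw [hilbPoly_unique k X h hpH, hslope]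
  refine ⟨⟨hH, hH0, ?_, ?_, ?_⟩, hslopeH⟩
  · -- the dimension of the support
    rw [natDegree_eq_dim k X L hL _ hH hH0 hpH]
    have hnF := natDegree_eq_dim k X L hL _ hF.1 hF.2.1 hpF
    have hnG := natDegree_eq_dim k X L hL _ hG.1 hG.2.1 hpG
    rw [hF.2.2.1] at hnF
    rw [hG.2.2.1] at hnG
    have hnF' : pF.natDegree = n := by exact_mod_cast hnF.symm
    have hnG' : pG.natDegree = n := by exact_mod_cast hnG.symm
    have hlF := leadingCoeff_pos k X L hL _ hF.1 hF.2.1 hpF
    have hlG := leadingCoeff_pos k X L hL _ hG.1 hG.2.1 hpG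
    have hc : (pF + pG).coeff n ≠ 0 := by
      rw [coeff_add]
      unfold leadingCoeff at hlF hlG
      rw [hnF'] at hlF
      rw [hnG'] at hlG
      linarith
    have h1 : (pF + pG).natDegree ≤ n := (natDegree_add_le _ _).trans (by rw [hnF', hnG', max_self])
    rw [le_antisymm h1 (le_natDegree_of_ne_zero hc)]
  · -- no submodules of dimension `n - 1`
    intro S ι hι hS hdim
    haveI := hι
    have hS0 : ¬ IsZero S := fun h => by
      rw [support_eq_empty_of_isZero h] at hdim
      have : topologicalKrullDim ↥(∅ : Set X) = ⊥ := by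
        unfold topologicalKrullDim
        rw [Order.krullDim_eq_bot_iff]
        exact ⟨fun T => T.isIrreducible.nonempty.elim fun x _ => x.2.elim⟩
      rw [this] at hdim
      simp at hdim
    have hlt : topologicalKrullDim ↥(CohB1.support S) < (n : WithBot ℕ∞) := by
      generalize topologicalKrullDim ↥(CohB1.support S) = D at hdim
      induction D using WithBot.recBotCoe with
      | bot => exact WithBot.bot_lt_coe _
      | coe D =>
        induction D using ENat.recTopCoe with
        | top =>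
          exfalso
          have h1 : ((⊤ : ℕ∞) : WithBot ℕ∞) + 1 = ((⊤ : ℕ∞) : WithBot ℕ∞) := rfl
          rw [h1] at hdim
          have h2 : ((⊤ : ℕ∞) : WithBot ℕ∞) = ((n : ℕ∞) : WithBot ℕ∞) := hdim
          rw [WithBot.coe_inj] at h2
          exact absurd h2 (by simp)
        | coe D =>
          have h1 : ((D + 1 : ℕ) : WithBot ℕ∞) = ((n : ℕ) : WithBot ℕ∞) := by
            rw [← hdim]; push_cast; rfl
          have h2 : D + 1 = n := by exact_mod_cast h1
          have h3 : ((D : ℕ) : WithBot ℕ∞) < ((n : ℕ) : WithBot ℕ∞) := by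
            exact_mod_cast (by omega : D < n)
          exact h3
    obtain ⟨a, ha, hA⟩ := sub_kernel k X T hT ι hS hG.1
    haveI := ha
    have hA0 : IsZero (kernel (ι ≫ T.g)) := by
      by_contra hA0
      have h1 := hFt _ a ha hA hA0
      have h2 : topologicalKrullDim ↥(CohB1.support (kernel (ι ≫ T.g))) ≤
          topologicalKrullDim ↥(CohB1.support S) := dim_le_of_mono (kernel.ι (ι ≫ T.g))
      rw [h1] at h2
      exact absurd (lt_of_le_of_lt h2 hlt) (lt_irrefl _)
    haveI : Mono (ι ≫ T.g) := Preadditive.mono_of_isZero_kernel _ hA0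
    have h3 := hGt S (ι ≫ T.g) inferInstance hS hS0
    rw [h3] at hlt
    exact absurd hlt (lt_irrefl _)
  · -- the slope inequality
    intro S ι hι hS pS pH hpS hpH' h1 h2
    haveI := hι
    obtain ⟨a, ha, hA⟩ := sub_kernel k X T hT ι hS hG.1
    haveI := ha
    have hB : Coh.IsCoh (Abelian.image (ι ≫ T.g)) := isCoh_image _ hS hG.1
    obtain ⟨pA, hpA⟩ := exists_hilbPoly k X L hL.1 _ hA
    obtain ⟨pB, hpB⟩ := exists_hilbPoly k X L hL.1 _ hB
    -- `0 → A → S → B → 0`
    have hKe : Coh.IsCoh (kernel (Abelian.factorThruImage (ι ≫ T.g))) :=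
      isCoh_kernel _ hS hB
    have w1 : kernel.ι (Abelian.factorThruImage (ι ≫ T.g)) ≫ (ι ≫ T.g) = 0 := by
      calc kernel.ι (Abelian.factorThruImage (ι ≫ T.g)) ≫ (ι ≫ T.g)
          = kernel.ι (Abelian.factorThruImage (ι ≫ T.g)) ≫
              (Abelian.factorThruImage (ι ≫ T.g) ≫ Abelian.image.ι (ι ≫ T.g)) := by
            rw [Abelian.image.fac]
        _ = 0 := by rw [← Category.assoc, kernel.condition, Limits.zero_comp]
    have w2 : kernel.ι (ι ≫ T.g) ≫ Abelian.factorThruImage (ι ≫ T.g) = 0 := by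
      rw [← cancel_mono (Abelian.image.ι (ι ≫ T.g)), Category.assoc, Abelian.image.fac,
        kernel.condition, Limits.zero_comp]
    let eK : kernel (Abelian.factorThruImage (ι ≫ T.g)) ≅ kernel (ι ≫ T.g) :=
      { hom := kernel.lift _ (kernel.ι _) w1
        inv := kernel.lift _ (kernel.ι _) w2
        hom_inv_id := by
          rw [← cancel_mono (kernel.ι _), Category.assoc, kernel.lift_ι, kernel.lift_ι, Category.id_comp]
        inv_hom_id := by
          rw [← cancel_mono (kernel.ι _), Category.assoc, kernel.lift_ι, kernel.lift_ι, Category.id_comp] }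
    have hpA' : ShStab.IsHilbPoly k X L (kernel (Abelian.factorThruImage (ι ≫ T.g))) pA :=
      hilbPoly_of_iso k X L hL.1 eK.symm hpA
    have hadd := hilbPoly_eq_add_of_epi k X L hL hS (Abelian.factorThruImage (ι ≫ T.g)) hB hpA' hpS hpB
    have e1 := mu_sub_le' k X L hL n hn hFt hF a hA hpA hpF
    have e2 := mu_sub_le' k X L hL n hn hGt hG (Abelian.image.ι (ι ≫ T.g)) hB hpB hpG
    rw [hslopeH pH hpH']
    rw [← hμ] at e2
    unfold hatSlope at e1 e2 ⊢
    rw [div_le_iff₀ h1]
    rw [hadd, alpha_add, alpha_add]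
    rw [hadd, alpha_add] at h1
    nlinarith

end Groth.Agent.Lib.Helper12.HPF
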