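import Mathlib
import Groth.Prelude.Def_StabCat
set_option backward.isDefEq.respectTransparency.types false

/-!
# Filtrations by subobjects in an abelian category (helper12)

Pure category theory: factors of a chain of subobjects, extension of a chain of subobjects of a subobject
`F ⊂ E` by the top of `E`.
-/

set_option autoImplicit false
universe v u
open CategoryTheory CategoryTheory.Limits

namespace Groth.Agent.Lib.Helper12.SubQ

variable {C : Type u} [Category.{v} C] [Abelian C]

/-- congruence of the cokernel of `ofLE` along equalities of subobjects -/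
noncomputable def cokerCongr {E : C} {A A' B B' : Subobject E} (hA : A = A') (hB : B = B') (h : A ≤ B)
    (h' : A' ≤ B') : cokernel (Subobject.ofLE A B h) ≅ cokernel (Subobject.ofLE A' B' h') := by
  subst hA hB
  exact Iso.refl _

/-- the cokernel of `ofLE A B` computed on a model `f : A' ⟶ B'` of the inclusion -/
noncomputable def cokerIso {E : C} {A B : Subobject E} (h : A ≤ B) {A' B' : C} (f : A' ⟶ B')
    (a : A' ≅ (A : C)) (b : B' ≅ (B : C)) (w : f ≫ b.hom ≫ B.arrow = a.hom ≫ A.arrow) :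
    cokernel (Subobject.ofLE A B h) ≅ cokernel f :=
  (cokernel.mapIso f (Subobject.ofLE A B h) a b (by
    rw [← cancel_mono B.arrow, Category.assoc, Category.assoc, Subobject.ofLE_arrow, w])).symm

theorem exists_map_iso {E F : C} (ι : F ⟶ E) [Mono ι] (A : Subobject F) :
    ∃ e : (((Subobject.map ι).obj A : Subobject E) : C) ≅ (A : C),
      e.hom ≫ A.arrow ≫ ι = ((Subobject.map ι).obj A).arrow := by
  have h : (Subobject.map ι).obj A = Subobject.mk (A.arrow ≫ ι) := by
    conv_lhs => rw [← Subobject.mk_arrow A]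
    rfl
  rw [h]
  exact ⟨Subobject.underlyingIso _, Subobject.underlyingIso_hom_comp_eq_mk _⟩

/-- factors of the image chain under `Subobject.map ι` -/
theorem nonempty_coker_map_iso {E F : C} (ι : F ⟶ E) [Mono ι] {A B : Subobject F} (h : A ≤ B)
    (h' : (Subobject.map ι).obj A ≤ (Subobject.map ι).obj B) :
    Nonempty (cokernel (Subobject.ofLE _ _ h') ≅ cokernel (Subobject.ofLE A B h)) := by
  obtain ⟨a, ha⟩ := exists_map_iso ι A
  obtain ⟨b, hb⟩ := exists_map_iso ι B
  refine ⟨cokerIso h' (Subobject.ofLE A B h) a.symm b.symm ?_⟩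
  rw [Iso.symm_hom, Iso.symm_hom, ← hb, Iso.inv_hom_id_assoc, ← ha, Iso.inv_hom_id_assoc,
    Subobject.ofLE_arrow_assoc]

/-- the cokernel of `A ≤ ⊤` is the cokernel of the arrow of `A` -/
theorem nonempty_coker_top_iso {E : C} (A : Subobject E) (h : A ≤ ⊤) :
    Nonempty (cokernel (Subobject.ofLE A ⊤ h) ≅ cokernel A.arrow) :=
  ⟨cokerIso h A.arrow (Iso.refl _) (asIso (⊤ : Subobject E).arrow).symm (by simp)⟩

/-- the cokernel of `mk ι ≤ ⊤` is the cokernel of `ι` -/
theorem nonempty_coker_mk_top_iso {E F : C} (ι : F ⟶ E) [Mono ι] (h : Subobject.mk ι ≤ ⊤) :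
    Nonempty (cokernel (Subobject.ofLE (Subobject.mk ι) ⊤ h) ≅ cokernel ι) :=
  ⟨cokerIso h ι (Subobject.underlyingIso ι).symm (asIso (⊤ : Subobject E).arrow).symm (by simp)⟩

/-- the cokernel of `⊥ ≤ B` is `B` -/
theorem nonempty_coker_bot_iso {E : C} (B : Subobject E) (h : ⊥ ≤ B) :
    Nonempty (cokernel (Subobject.ofLE ⊥ B h) ≅ (B : C)) := by
  have hz : IsZero ((⊥ : Subobject E) : C) := IsZero.of_iso (isZero_zero C) Subobject.botCoeIsoZero
  have h0 : Subobject.ofLE ⊥ B h = 0 := hz.eq_of_src _ _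
  rw [h0]
  exact ⟨cokernelZeroIsoTarget⟩

theorem bot_eq_top_of_isZero {F : C} (hF : IsZero F) : (⊥ : Subobject F) = ⊤ := by
  have : IsIso (⊥ : Subobject F).arrow := by
    have hz : IsZero ((⊥ : Subobject F) : C) := IsZero.of_iso (isZero_zero C) Subobject.botCoeIsoZero
    exact ⟨⟨0, hz.eq_of_src _ _, hF.eq_of_src _ _⟩⟩
  exact Subobject.eq_top_of_isIso_arrow _

theorem strictMono_map {E F : C} (ι : F ⟶ E) [Mono ι] : StrictMono (Subobject.map ι).obj :=
  (Subobject.map ι).monotone.strictMono_of_injective (Subobject.map_obj_injective ι)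

open StabCat in
/-- extend a chain of subobjects of `F ⊂ E` running from `⊥` to `⊤` by the top of `E` -/
theorem exists_extend_top {E F : C} (ι : F ⟶ E) [Mono ι] (hι : ¬ IsIso ι) (s : LTSeries (Subobject F))
    (h0 : s.head = ⊥) (h1 : s.last = ⊤) :
    ∃ s' : LTSeries (Subobject E), s'.head = ⊥ ∧ s'.last = ⊤ ∧ ∃ hl : s'.length = s.length + 1,
      (∀ i : Fin s.length, Nonempty (factor s' ⟨i.val, by omega⟩ ≅ factor s i)) ∧
      Nonempty (factor s' ⟨s.length, by omega⟩ ≅ cokernel ι) := by
  have hlt : (s.map (Subobject.map ι).obj (strictMono_map ι)).last < ⊤ := by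
    rw [LTSeries.last_map, h1, Subobject.map_top]
    exact lt_of_le_of_ne le_top (fun h => hι ((Subobject.isIso_iff_mk_eq_top ι).2 h))
  refine ⟨(s.map (Subobject.map ι).obj (strictMono_map ι)).snoc ⊤ hlt, ?_, ?_, rfl, ?_, ?_⟩
  · rw [RelSeries.head_snoc, LTSeries.head_map, h0, Subobject.map_bot]
  · rw [RelSeries.last_snoc]
  · intro i
    have e1 : ((s.map (Subobject.map ι).obj (strictMono_map ι)).snoc ⊤ hlt)
        (Fin.castSucc (⟨i.val, by omega⟩ : Fin (s.length + 1))) = (Subobject.map ι).obj (s i.castSucc) :=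
      RelSeries.snoc_castSucc _ _ _ _
    have e2 : ((s.map (Subobject.map ι).obj (strictMono_map ι)).snoc ⊤ hlt)
        (Fin.castSucc (⟨i.val + 1, by omega⟩ : Fin (s.length + 1))) = (Subobject.map ι).obj (s i.succ) :=
      RelSeries.snoc_castSucc _ _ _ _
    obtain ⟨e3⟩ := nonempty_coker_map_iso ι (le_of_lt (s.step i))
      ((Subobject.map ι).monotone (le_of_lt (s.step i)))
    exact ⟨(cokerCongr e1 e2 _ _).trans e3⟩
  · have e1 : ((s.map (Subobject.map ι).obj (strictMono_map ι)).snoc ⊤ hlt)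
        (Fin.castSucc (⟨s.length, by simp⟩ : Fin (s.length + 1))) = Subobject.mk ι := by
      rw [RelSeries.snoc_castSucc]
      have : (s.map (Subobject.map ι).obj (strictMono_map ι)).last = Subobject.mk ι := by
        rw [LTSeries.last_map, h1, Subobject.map_top]
      exact this
    have e2 : ((s.map (Subobject.map ι).obj (strictMono_map ι)).snoc ⊤ hlt)
        (Fin.last _) = ⊤ := RelSeries.last_snoc _ _ _
    obtain ⟨e3⟩ := nonempty_coker_mk_top_iso ι le_top
    exact ⟨(cokerCongr e1 e2 _ _).trans e3⟩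

end Groth.Agent.Lib.Helper12.SubQ
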