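import Mathlib
import Groth.Agent.Lib.Helper12HilbPolyF
import Groth.Agent.Lib.Helper12SubQuotA
set_option backward.isDefEq.respectTransparency.types false

/-!
# Jordan–Hölder filtrations of semistable sheaves: existence (helper12)
-/

set_option autoImplicit false
set_option linter.style.haveILetI false
set_option linter.unusedSectionVars false
set_option linter.unusedVariables false
universe u
open CategoryTheory CategoryTheory.Limits AlgebraicGeometry TopologicalSpace Opposite Polynomial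

namespace Groth.Agent.Lib.Helper12.JHA

open Groth.Agent.Lib.Helper4.Dev Groth.Agent.Lib.Helper4.CurveChi
  Groth.Agent.Lib.Helper12.Snap Groth.Agent.Lib.Helper12.Pos Groth.Agent.Lib.Helper12.HP
  Groth.Agent.Lib.Helper12.HPB Groth.Agent.Lib.Helper12.HPC Groth.Agent.Lib.Helper12.HPD
  Groth.Agent.Lib.Helper12.HPE Groth.Agent.Lib.Helper12.HPF Groth.Agent.Lib.Helper12.SubQ StabCat

variable (k : Type u) [Field k] (X : Scheme.{u}) [X.Over (Spec (CommRingCat.of k))]
  [IsProper (X ↘ (Spec (CommRingCat.of k)))] (L : X.Modules) (hL : CohB1.IsAmple L) (d : ℕ)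

theorem isPure_of_iso {E E' : X.Modules} (e : E ≅ E') (h : ShStab.IsPure X E d) : ShStab.IsPure X E' d :=
  fun F ι hι hF hF0 => by
    haveI := hι
    exact h F (ι ≫ e.inv) (mono_comp _ _) hF hF0

include hL in
theorem isStable_of_iso {E E' : X.Modules} (e : E ≅ E') (h : ShStab.IsStable k X L E d) :
    ShStab.IsStable k X L E' d := by
  refine ⟨isCoh_of_iso e h.1, fun h0 => h.2.1 (IsZero.of_iso h0 e), isPure_of_iso X d e h.2.2.1, ?_⟩
  intro F ι hι hF hF0 hiso pF pE hpF hpE
  haveI := hι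
  refine h.2.2.2 F (ι ≫ e.inv) (mono_comp _ _) hF hF0 (fun hi => hiso ?_) pF pE hpF
    (hilbPoly_of_iso k X L hL.1 e.symm hpE)
  haveI := hi
  have : ι = (ι ≫ e.inv) ≫ e.hom := by rw [Category.assoc, Iso.inv_hom_id, Category.comp_id]
  rw [this]
  infer_instance

include hL in
theorem isSemistable_of_iso {E E' : X.Modules} (e : E ≅ E') (h : ShStab.IsSemistable k X L E d) :
    ShStab.IsSemistable k X L E' d := by
  refine ⟨isCoh_of_iso e h.1, fun h0 => h.2.1 (IsZero.of_iso h0 e), isPure_of_iso X d e h.2.2.1, ?_⟩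
  intro F ι hι hF hF0 hiso pF pE hpF hpE
  haveI := hι
  refine h.2.2.2 F (ι ≫ e.inv) (mono_comp _ _) hF hF0 (fun hi => hiso ?_) pF pE hpF
    (hilbPoly_of_iso k X L hL.1 e.symm hpE)
  haveI := hi
  have : ι = (ι ≫ e.inv) ≫ e.hom := by rw [Category.assoc, Iso.inv_hom_id, Category.comp_id]
  rw [this]
  infer_instance

include hL in
/-- multiplicities are natural numbers -/
theorem exists_nat_alpha (E : X.Modules) (hE : Coh.IsCoh E)
    (hd : topologicalKrullDim ↥(CohB1.support E) ≤ (d : WithBot ℕ∞)) {P : ℚ[X]}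
    (hP : ShStab.IsHilbPoly k X L E P) : ∃ n : ℕ, alpha d P = (n : ℚ) := by
  have h1 := (alpha_eq k X L hL.1 E hE d hd hP).2
  have h2 := alpha_nonneg k X L hL E hE d hd hP
  rw [h1] at h2 ⊢
  have h3 : (0 : ℤ) ≤ (-1 : ℤ) ^ d * dchi k X (List.replicate d L) E := by exact_mod_cast h2
  refine ⟨((-1 : ℤ) ^ d * dchi k X (List.replicate d L) E).toNat, ?_⟩
  have := Int.toNat_of_nonneg h3
  exact_mod_cast this.symm

include hL in
/-- Hilbert polynomial of the preimage of a submodule of a quotient -/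
theorem preimage_hilbPoly {E F : X.Modules} (hE : Coh.IsCoh E) (hF : Coh.IsCoh F) (ι : F ⟶ E) [Mono ι]
    {G : X.Modules} (hG : Coh.IsCoh G) (κ : G ⟶ cokernel ι) [Mono κ] {pF pG : ℚ[X]}
    (hpF : ShStab.IsHilbPoly k X L F pF) (hpG : ShStab.IsHilbPoly k X L G pG) :
    Coh.IsCoh (kernel (cokernel.π ι ≫ cokernel.π κ)) ∧
      ShStab.IsHilbPoly k X L (kernel (cokernel.π ι ≫ cokernel.π κ)) (pF + pG) := by
  haveI : IsNoetherian X := Groth.Agent.Lib.Helper4.CurveRR.isNoetherian_of_proper k X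
  haveI : IsLocallyNoetherian X := inferInstance
  have hQ : Coh.IsCoh (cokernel ι) := isCoh_cokernel ι hF hE
  have hC : Coh.IsCoh (cokernel κ) := isCoh_cokernel κ hG hQ
  have hK : Coh.IsCoh (kernel (cokernel.π ι ≫ cokernel.π κ)) := isCoh_kernel _ hE hC
  obtain ⟨pK, hpK⟩ := exists_hilbPoly k X L hL.1 _ hK
  obtain ⟨pE, hpE⟩ := exists_hilbPoly k X L hL.1 _ hE
  obtain ⟨pQ, hpQ⟩ := exists_hilbPoly k X L hL.1 _ hQ
  obtain ⟨pC, hpC⟩ := exists_hilbPoly k X L hL.1 _ hC
  have h1 := hilbPoly_eq_add_of_epi k X L hL hE (cokernel.π ι ≫ cokernel.π κ) hC hpK hpE hpC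
  have h2 := hilbPoly_eq_add_of_mono k X L hL hG κ hQ hpG hpQ hpC
  have h3 := hilbPoly_eq_add_of_mono k X L hL hF ι hE hpF hpE hpQ
  have h4 : pK = pF + pG := by
    rw [h3, h2] at h1
    linear_combination -h1
  rw [← h4]
  exact ⟨hK, hpK⟩

theorem preimage_not_iso {E F : X.Modules} (ι : F ⟶ E) {G : X.Modules} (κ : G ⟶ cokernel ι) [Mono κ]
    (hκ : ¬ IsIso κ) : ¬ IsIso (kernel.ι (cokernel.π ι ≫ cokernel.π κ)) := by
  intro h
  haveI := h
  apply hκ
  have h1 : cokernel.π ι ≫ cokernel.π κ = 0 := by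
    rw [← cancel_epi (kernel.ι (cokernel.π ι ≫ cokernel.π κ)), kernel.condition, Limits.comp_zero]
  have h2 : cokernel.π κ = 0 := by
    rw [← cancel_epi (cokernel.π ι), h1, Limits.comp_zero]
  haveI : Epi κ := Abelian.epi_of_cokernel_π_eq_zero κ h2
  exact isIso_of_mono_of_epi κ

include hL in
/-- a semistable, non-stable sheaf has a semistable submodule with the same reduced Hilbert polynomial and stable
quotient with the same reduced Hilbert polynomial -/
theorem exists_stable_quotient {E : X.Modules} (hE : ShStab.IsSemistable k X L E d)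
    (hns : ¬ ShStab.IsStable k X L E d) {pE : ℚ[X]} (hpE : ShStab.IsHilbPoly k X L E pE) :
    ∃ (F : X.Modules) (ι : F ⟶ E) (pF pQ : ℚ[X]), Mono ι ∧ ¬ IsIso ι ∧ ShStab.IsSemistable k X L F d ∧
      ShStab.IsStable k X L (cokernel ι) d ∧ ShStab.IsHilbPoly k X L F pF ∧
      ShStab.IsHilbPoly k X L (cokernel ι) pQ ∧ pE = pF + pQ ∧ RedEq d pF pE ∧ RedEq d pQ pE ∧
      0 < alpha d pF ∧ 0 < alpha d pQ := by
  haveI : IsNoetherian X := Groth.Agent.Lib.Helper4.CurveRR.isNoetherian_of_proper k X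
  haveI : IsLocallyNoetherian X := inferInstance
  have hdimE := dim_eq_of_isPure hE.2.2.1 hE.1 hE.2.1
  have haE := alpha_pos k X L hL E hE.1 d hdimE hpE
  obtain ⟨N, hN⟩ := exists_nat_alpha k X L hL d E hE.1 hdimE.le hpE
  -- general facts about a proper nonzero coherent submodule
  have key : ∀ (F : X.Modules) (ι : F ⟶ E) (pF : ℚ[X]), Mono ι → Coh.IsCoh F → ¬ IsZero F → ¬ IsIso ι →
      ShStab.IsHilbPoly k X L F pF → Coh.IsCoh (cokernel ι) ∧ ¬ IsZero (cokernel ι) ∧ 0 < alpha d pF ∧
      ∃ pQ, ShStab.IsHilbPoly k X L (cokernel ι) pQ ∧ pE = pF + pQ ∧ 0 ≤ alpha d pQ := by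
    intro F ι pF hι hF hF0 hi hpF
    haveI := hι
    have hQ : Coh.IsCoh (cokernel ι) := isCoh_cokernel ι hF hE.1
    have hQ0 : ¬ IsZero (cokernel ι) := fun h => hi (by
      haveI : Epi ι := Preadditive.epi_of_isZero_cokernel ι h
      exact isIso_of_mono_of_epi ι)
    have haF : 0 < alpha d pF := alpha_pos k X L hL F hF d (hE.2.2.1 F ι hι hF hF0) hpF
    obtain ⟨pQ, hpQ⟩ := exists_hilbPoly k X L hL.1 _ hQ
    have hadd := hilbPoly_eq_add_of_mono k X L hL hF ι hE.1 hpF hpE hpQ
    have hdQ : topologicalKrullDim ↥(CohB1.support (cokernel ι)) ≤ (d : WithBot ℕ∞) :=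
      (dim_le_of_epi (cokernel.π ι)).trans hdimE.le
    exact ⟨hQ, hQ0, haF, pQ, hpQ, hadd, alpha_nonneg k X L hL _ hQ d hdQ hpQ⟩
  -- the set of multiplicities of proper submodules with the same reduced Hilbert polynomial
  let S : Set ℕ := {n | ∃ (F : X.Modules) (ι : F ⟶ E) (pF : ℚ[X]), Mono ι ∧ Coh.IsCoh F ∧ ¬ IsZero F ∧
    ¬ IsIso ι ∧ ShStab.IsHilbPoly k X L F pF ∧ RedEq d pF pE ∧ alpha d pF = (n : ℚ)}
  have hSne : S.Nonempty := by
    have h1 : ¬ IsSt Coh.IsCoh (ShStab.IsHilbPoly k X L) d E := fun h => hns ⟨hE.1, hE.2.1, hE.2.2.1, h⟩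
    unfold IsSt at h1
    push_neg at h1
    obtain ⟨F, ι, hι, hF, hF0, hi, pF, pE', hpF, hpE', hnlt⟩ := h1
    have := hilbPoly_unique k X hpE' hpE
    subst this
    have hle := hE.2.2.2 F ι hι hF hF0 hi pF pE' hpF hpE
    have heq : RedEq d pF pE' := by
      rcases redLT_or_redEq_of_redLE hle with h | h
      · exact absurd h hnlt
      · exact h
    haveI := hι
    obtain ⟨n, hn⟩ := exists_nat_alpha k X L hL d F hF ((dim_le_of_mono ι).trans hdimE.le) hpF
    exact ⟨n, F, ι, pF, hι, hF, hF0, hi, hpF, heq, hn⟩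
  have hSbdd : BddAbove S := by
    refine ⟨N, ?_⟩
    rintro n ⟨F, ι, pF, hι, hF, hF0, hi, hpF, heq, hn⟩
    obtain ⟨-, -, -, pQ, hpQ, hadd, haQ⟩ := key F ι pF hι hF hF0 hi hpF
    have : alpha d pE = alpha d pF + alpha d pQ := by rw [hadd, alpha_add]
    have h2 : (n : ℚ) ≤ (N : ℚ) := by rw [← hn, ← hN, this]; linarith
    exact_mod_cast h2
  obtain ⟨F, ι, pF, hι, hF, hF0, hi, hpF, heq, hn⟩ := Nat.sSup_mem hSne hSbdd
  have hmax : ∀ n ∈ S, (n : ℚ) ≤ alpha d pF := by
    intro n hnS
    rw [hn]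
    exact_mod_cast le_csSup hSbdd hnS
  haveI := hι
  obtain ⟨hQ, hQ0, haF, pQ, hpQ, hadd, haQ⟩ := key F ι pF hι hF hF0 hi hpF
  have haadd : alpha d pE = alpha d pF + alpha d pQ := by rw [hadd, alpha_add]
  -- the multiplicity of the quotient is positive
  have haQpos : 0 < alpha d pQ := by
    rcases haQ.lt_or_eq with h | h
    · exact h
    · exfalso
      have h1 : alpha d pE = alpha d pF := by rw [haadd, ← h, add_zero]
      unfold RedEq at heq
      rw [h1] at heq
      have h2 : pF = pE := by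
        have := congrArg (fun P => (alpha d pF)⁻¹ • P) heq
        simpa [smul_smul, inv_mul_cancel₀ haF.ne'] using this
      have h3 : pQ = 0 := by
        rw [h2] at hadd
        have : pE + pQ = pE + 0 := by rw [add_zero]; exact hadd.symm
        exact add_left_cancel this
      rw [h3] at hpQ
      exact hQ0 (isZero_of_hilbPoly_zero k X L hL _ hQ hpQ)
  have heqQ : RedEq d pQ pE := by
    rw [hadd]
    rw [hadd] at heq
    exact redEq_symm ((redEq_add_iff_right d pF pQ).2 ((redEq_add_iff_left d pF pQ).1 heq))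
  have hdimQ : topologicalKrullDim ↥(CohB1.support (cokernel ι)) = (d : WithBot ℕ∞) := by
    have hdQ : topologicalKrullDim ↥(CohB1.support (cokernel ι)) ≤ (d : WithBot ℕ∞) :=
      (dim_le_of_epi (cokernel.π ι)).trans hdimE.le
    rcases eq_or_lt_of_le hdQ with h | h
    · exact h
    · exact absurd (alpha_eq_zero k X L hL.1 _ hQ d h hpQ) haQpos.ne'
  -- the submodule is semistable
  have hFss : ShStab.IsSemistable k X L F d := by
    refine ⟨hF, hF0, isPure_of_mono hE.2.2.1 ι, ?_⟩
    intro G κ hκ hG hG0 hκi pG pF' hpG hpF'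
    haveI := hκ
    have := hilbPoly_unique k X hpF' hpF
    subst this
    have h1 := sub_le k X L hL d hE (κ ≫ ι) hG hpG hpE
    have haG : 0 ≤ alpha d pG :=
      alpha_nonneg k X L hL G hG d ((dim_le_of_mono (κ ≫ ι)).trans hdimE.le) hpG
    exact redLE_trans haE haG haF.le h1 (redLE_of_redEq (redEq_symm heq))
  -- the quotient is stable
  have hQst : IsSt Coh.IsCoh (ShStab.IsHilbPoly k X L) d (cokernel ι) := by
    intro G κ hκ hG hG0 hκi pG pQ' hpG hpQ'
    haveI := hκ
    have := hilbPoly_unique k X hpQ' hpQ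
    subst this
    by_contra hnlt
    have hle : RedLE d pQ' pG := redLE_of_not_redLT hnlt
    obtain ⟨hK, hpK⟩ := preimage_hilbPoly k X L hL hE.1 hF ι hG κ hpF hpG
    have hKi := preimage_not_iso X ι κ hκi
    have haG : 0 ≤ alpha d pG := alpha_nonneg k X L hL G hG d
      ((dim_le_of_mono κ).trans hdimQ.le) hpG
    have haK : alpha d (pF + pG) = alpha d pF + alpha d pG := alpha_add d pF pG
    have hK0 : ¬ IsZero (kernel (cokernel.π ι ≫ cokernel.π κ)) := by
      intro h0
      have := hilbPoly_unique k X hpK (hilbPoly_zero k X L hL.1 h0)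
      rw [this, alpha_zero] at haK
      linarith
    have hss := hE.2.2.2 _ (kernel.ι (cokernel.π ι ≫ cokernel.π κ)) inferInstance hK hK0 hKi _ _ hpK hpE
    obtain ⟨N₀, hN₀⟩ := eventually_pos pG (leadingCoeff_pos k X L hL G hG hG0 hpG)
    have hidF : ∀ x : ℚ, alpha d pE * pF.eval x = alpha d pF * pE.eval x := by
      intro x
      have := congrArg (fun P => P.eval x) heq
      simpa [eval_smul, smul_eq_mul] using this
    have hevQ : ∀ x : ℚ, pQ'.eval x = pE.eval x - pF.eval x := by
      intro x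
      rw [hadd, eval_add]
      ring
    rcases haG.lt_or_eq with hg | hg
    · -- positive multiplicity: contradiction with maximality
      have hge : PolyLE (alpha d (pF + pG) • pE) (alpha d pE • (pF + pG)) := by
        unfold RedLE at hle
        refine polyLE_of_forall hle fun x hx => ?_
        simp only [eval_smul, smul_eq_mul, eval_add] at hx ⊢
        rw [haK]
        rw [hevQ] at hx
        have e1 := hidF x
        have hmul : alpha d pQ' * (alpha d pG * pE.eval x) ≤ alpha d pQ' * (alpha d pE * pG.eval x) := by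
          have h5 := mul_le_mul_of_nonneg_left hx haE.le
          have e2 : alpha d pE * (alpha d pG * (pE.eval x - pF.eval x))
              = alpha d pQ' * (alpha d pG * pE.eval x) := by
            have : alpha d pE * (alpha d pG * (pE.eval x - pF.eval x))
                = alpha d pG * (alpha d pE * pE.eval x - alpha d pE * pF.eval x) := by ring
            rw [this, e1, haadd]
            ring
          rw [e2] at h5
          linarith
        have h6 := le_of_mul_le_mul_left hmul haQpos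
        linarith
      have heqK : RedEq d (pF + pG) pE := polyLE_antisymm hss hge
      obtain ⟨n', hn'⟩ := exists_nat_alpha k X L hL d _ hK
        ((dim_le_of_mono (kernel.ι (cokernel.π ι ≫ cokernel.π κ))).trans hdimE.le) hpK
      have := hmax n' ⟨_, kernel.ι (cokernel.π ι ≫ cokernel.π κ), pF + pG, inferInstance, hK, hK0, hKi, hpK,
        heqK, hn'⟩
      rw [← hn', haK] at this
      linarith
    · -- zero multiplicity: contradiction with semistability
      obtain ⟨N₁, hN₁⟩ := hss
      have h1 := hN₁ (max N₀ N₁) (le_max_right _ _)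
      have h2 := hN₀ (max N₀ N₁) (le_max_left _ _)
      simp only [eval_smul, smul_eq_mul, eval_add] at h1
      rw [haK, ← hg, add_zero, ← hidF, mul_add] at h1
      have := mul_pos haE h2
      linarith
  have hQpure : ShStab.IsPure X (cokernel ι) d :=
    isPure_of_isSS k X L hL d hQ hdimQ (fun G κ hκ hG hG0 hκi pG pQ' hpG hpQ' =>
      redLE_of_redLT (hQst G κ hκ hG hG0 hκi pG pQ' hpG hpQ'))
  exact ⟨F, ι, pF, pQ, hι, hi, hFss, ⟨hQ, hQ0, hQpure, hQst⟩, hpF, hpQ, hadd, heq, heqQ, haF, haQpos⟩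

include hL in
/-- extend a Jordan–Hölder filtration of a submodule with stable quotient -/
theorem jh_extend {E F : X.Modules} (ι : F ⟶ E) [Mono ι] (hι : ¬ IsIso ι) (s : LTSeries (Subobject F))
    (h0 : s.head = ⊥) (h1 : s.last = ⊤)
    (hfac : ∀ j : Fin s.length, ShStab.IsStable k X L (factor s j) d ∧
      ∀ p q : ℚ[X], ShStab.IsHilbPoly k X L (factor s j) p → ShStab.IsHilbPoly k X L E q → RedEq d p q)
    (hQ : ShStab.IsStable k X L (cokernel ι) d)
    (hQE : ∀ p q : ℚ[X], ShStab.IsHilbPoly k X L (cokernel ι) p → ShStab.IsHilbPoly k X L E q → RedEq d p q) :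
    ∃ s' : LTSeries (Subobject E), ShStab.IsJHFiltration k X L E d s' := by
  obtain ⟨s', hs0, hs1, hl, hf1, hf2⟩ := exists_extend_top ι hι s h0 h1
  refine ⟨s', hs0, hs1, ?_⟩
  intro i
  by_cases hi : i.val < s.length
  · obtain ⟨e⟩ := hf1 ⟨i.val, hi⟩
    refine ⟨isStable_of_iso k X L hL d e.symm (hfac ⟨i.val, hi⟩).1, fun p q hp hq => ?_⟩
    exact (hfac ⟨i.val, hi⟩).2 p q (hilbPoly_of_iso k X L hL.1 e hp) hq
  · have hi' : i.val = s.length := by have := i.isLt; omega
    obtain ⟨e⟩ := hf2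
    have hii : i = ⟨s.length, by omega⟩ := Fin.ext hi'
    rw [hii]
    refine ⟨isStable_of_iso k X L hL d e.symm hQ, fun p q hp hq => ?_⟩
    exact hQE p q (hilbPoly_of_iso k X L hL.1 e hp) hq

open ZeroObject in
include hL in
theorem exists_jh_aux : ∀ (N : ℕ) (E : X.Modules), ShStab.IsSemistable k X L E d →
    (∀ pE : ℚ[X], ShStab.IsHilbPoly k X L E pE → alpha d pE ≤ (N : ℚ)) →
    ∃ s : LTSeries (Subobject E), ShStab.IsJHFiltration k X L E d s := by
  intro N
  induction N with
  | zero =>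
    intro E hE hN
    exfalso
    obtain ⟨pE, hpE⟩ := exists_hilbPoly k X L hL.1 E hE.1
    have := alpha_pos_of_isSemistable k X L hL d hE hpE
    have := hN pE hpE
    simp only [Nat.cast_zero] at this
    linarith
  | succ N ih =>
    intro E hE hN
    obtain ⟨pE, hpE⟩ := exists_hilbPoly k X L hL.1 E hE.1
    by_cases hst : ShStab.IsStable k X L E d
    · -- the trivial filtration
      have hι : ¬ IsIso (0 : (0 : X.Modules) ⟶ E) := fun h => hE.2.1 (by
        haveI := h
        exact IsZero.of_iso (isZero_zero _) (asIso (0 : (0 : X.Modules) ⟶ E)).symm)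
      refine jh_extend k X L hL d (0 : (0 : X.Modules) ⟶ E) hι (RelSeries.singleton _ ⊥) rfl
        (bot_eq_top_of_isZero (isZero_zero _)) (fun j => j.elim0)
        (isStable_of_iso k X L hL d cokernelZeroIsoTarget.symm hst) ?_
      intro p q hp hq
      have h1 := hilbPoly_of_iso k X L hL.1 cokernelZeroIsoTarget hp
      rw [hilbPoly_unique k X h1 hq]
      exact redEq_refl d q
    · obtain ⟨F, ι, pF, pQ, hι, hi, hFss, hQst, hpF, hpQ, hadd, heq, heqQ, haF, haQ⟩ :=
        exists_stable_quotient k X L hL d hE hst hpE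
      haveI := hι
      -- the multiplicity of `F` is at most `N`
      have hQdim := dim_eq_of_isPure hQst.2.2.1 hQst.1 hQst.2.1
      obtain ⟨nQ, hnQ⟩ := exists_nat_alpha k X L hL d _ hQst.1 hQdim.le hpQ
      have hnQ1 : (1 : ℚ) ≤ alpha d pQ := by
        rw [hnQ] at haQ ⊢
        have : 0 < nQ := by exact_mod_cast haQ
        exact_mod_cast this
      have hFN : ∀ p : ℚ[X], ShStab.IsHilbPoly k X L F p → alpha d p ≤ (N : ℚ) := by
        intro p hp
        rw [hilbPoly_unique k X hp hpF]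
        have h1 := hN pE hpE
        rw [hadd, alpha_add] at h1
        push_cast at h1
        linarith
      obtain ⟨s, hs0, hs1, hsf⟩ := ih F hFss hFN
      refine jh_extend k X L hL d ι hi s hs0 hs1 (fun j => ⟨(hsf j).1, fun p q hp hq => ?_⟩) hQst ?_
      · have h1 := (hsf j).2 p pF hp hpF
        rw [hilbPoly_unique k X hq hpE]
        exact redEq_trans haF.ne' h1 heq
      · intro p q hp hq
        rw [hilbPoly_unique k X hq hpE, hilbPoly_unique k X hp hpQ]
        exact heqQ

include hL in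
/-- existence of Jordan–Hölder filtrations -/
theorem exists_jh {E : X.Modules} (hE : ShStab.IsSemistable k X L E d) :
    ∃ s : LTSeries (Subobject E), ShStab.IsJHFiltration k X L E d s := by
  obtain ⟨pE, hpE⟩ := exists_hilbPoly k X L hL.1 E hE.1
  have hdimE := dim_eq_of_isPure hE.2.2.1 hE.1 hE.2.1
  obtain ⟨N, hN⟩ := exists_nat_alpha k X L hL d E hE.1 hdimE.le hpE
  refine exists_jh_aux k X L hL d N E hE (fun p hp => ?_)
  rw [hilbPoly_unique k X hp hpE, hN]

end Groth.Agent.Lib.Helper12.JHA
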