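import Mathlib
set_option backward.isDefEq.respectTransparency.types false

/-!
# Sum and intersection of two subobjects in an abelian category, via `A ⊞ H ⟶ E` (helper12)
-/

set_option autoImplicit false
set_option linter.unusedSectionVars false
universe v u
open CategoryTheory CategoryTheory.Limits

namespace Groth.Agent.Lib.Helper12.SubQB

variable {C : Type u} [Category.{v} C] [Abelian C] {E A H : C} (a : A ⟶ E) (h : H ⟶ E)

/-- the sum of (the images of) `a` and `h` -/
noncomputable def sumObj : C := Abelian.image (biprod.desc a (-h))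

noncomputable def sumι : sumObj a h ⟶ E := Abelian.image.ι _

instance : Mono (sumι a h) := by unfold sumι sumObj; infer_instance

noncomputable def sumπ : A ⊞ H ⟶ sumObj a h := Abelian.factorThruImage _

instance : Epi (sumπ a h) := by unfold sumπ sumObj; infer_instance

@[reassoc]
theorem sumπ_ι : sumπ a h ≫ sumι a h = biprod.desc a (-h) := Abelian.image.fac _

noncomputable def sumInl : A ⟶ sumObj a h := biprod.inl ≫ sumπ a h

noncomputable def sumInr : H ⟶ sumObj a h := biprod.inr ≫ sumπ a h

@[reassoc]
theorem sumInl_ι : sumInl a h ≫ sumι a h = a := by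
  unfold sumInl
  rw [Category.assoc, sumπ_ι, biprod.inl_desc]

@[reassoc]
theorem sumInr_ι : sumInr a h ≫ sumι a h = -h := by
  unfold sumInr
  rw [Category.assoc, sumπ_ι, biprod.inr_desc]

instance [Mono a] : Mono (sumInl a h) := mono_of_mono_fac (sumInl_ι a h)

/-- if `A ⟶ A + H` is an isomorphism then `H ⊂ A` -/
theorem exists_factor_of_isIso_sumInl [IsIso (sumInl a h)] : ∃ φ : H ⟶ A, φ ≫ a = h := by
  refine ⟨-(sumInr a h ≫ inv (sumInl a h)), ?_⟩
  have h1 : inv (sumInl a h) ≫ a = sumι a h := by
    rw [IsIso.inv_comp_eq, sumInl_ι]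
  rw [Preadditive.neg_comp, Category.assoc, h1, sumInr_ι, neg_neg]

/-- the intersection of `a` and `h` -/
noncomputable def interObj : C := kernel (sumπ a h)

noncomputable def interFst : interObj a h ⟶ A := kernel.ι (sumπ a h) ≫ biprod.fst

noncomputable def interSnd : interObj a h ⟶ H := kernel.ι (sumπ a h) ≫ biprod.snd

theorem inter_ι_desc : kernel.ι (sumπ a h) ≫ biprod.desc a (-h) = 0 := by
  rw [← sumπ_ι, kernel.condition_assoc, Limits.zero_comp]

theorem inter_comm : interFst a h ≫ a = interSnd a h ≫ h := by
  have h1 := inter_ι_desc a h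
  have h2 : biprod.desc a (-h) = biprod.fst ≫ a - biprod.snd ≫ h := by
    apply biprod.hom_ext' <;> simp
  rw [h2, Preadditive.comp_sub, sub_eq_zero] at h1
  unfold interFst interSnd
  rw [Category.assoc, Category.assoc]
  exact h1

instance [Mono h] : Mono (interFst a h) := by
  apply Preadditive.mono_of_cancel_zero
  intro P x hx
  have h1 : x ≫ interSnd a h = 0 := by
    rw [← cancel_mono h, Category.assoc, ← inter_comm, ← Category.assoc, hx, Limits.zero_comp,
      Limits.zero_comp]
  have h2 : x ≫ kernel.ι (sumπ a h) = 0 := by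
    apply biprod.hom_ext
    · rw [Category.assoc, Limits.zero_comp]; exact hx
    · rw [Category.assoc, Limits.zero_comp]; exact h1
  exact (cancel_mono (kernel.ι (sumπ a h))).1 (h2.trans Limits.zero_comp.symm)

instance [Mono a] : Mono (interSnd a h) := by
  apply Preadditive.mono_of_cancel_zero
  intro P x hx
  have h1 : x ≫ interFst a h = 0 := by
    rw [← cancel_mono a, Category.assoc, inter_comm, ← Category.assoc, hx, Limits.zero_comp,
      Limits.zero_comp]
  have h2 : x ≫ kernel.ι (sumπ a h) = 0 := by
    apply biprod.hom_ext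
    · rw [Category.assoc, Limits.zero_comp]; exact h1
    · rw [Category.assoc, Limits.zero_comp]; exact hx
  exact (cancel_mono (kernel.ι (sumπ a h))).1 (h2.trans Limits.zero_comp.symm)

/-- the split short exact sequence `A ⟶ A ⊞ H ⟶ H` -/
noncomputable def biprodSES (A H : C) : ShortComplex C :=
  ShortComplex.mk (biprod.inl : A ⟶ A ⊞ H) (biprod.snd : A ⊞ H ⟶ H) (by simp)

theorem biprodSES_shortExact (A H : C) : (biprodSES A H).ShortExact :=
  (ShortComplex.Splitting.ofHasBinaryBiproduct A H).shortExact

end Groth.Agent.Lib.Helper12.SubQB
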